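import Cfsg.Agent.Lib.Helper4.TCD_Fi24L_C0
import Cfsg.Agent.Lib.Helper4.TCD_Fi24L_C1
import Cfsg.Agent.Lib.Helper4.TCD_Fi24L_C2
import Cfsg.Agent.Lib.Helper4.TCD_Fi24L_C3
import Cfsg.Agent.Lib.Helper4.TCD_Fi24L_C4
import Cfsg.Agent.Lib.Helper4.TCD_Fi24L_C5
import Cfsg.Agent.Lib.Helper4.TCD_Fi24L_C6
import Cfsg.Agent.Lib.Helper4.TCD_Fi24L_C7
import Cfsg.Agent.Lib.Helper4.TCD_Fi24L_C8
import Cfsg.Agent.Lib.Helper4.TCD_Fi24L_C9
import Cfsg.Agent.Lib.Helper4.TCD_Fi24L_C10
import Cfsg.Agent.Lib.Helper4.TCD_Fi24L_C11
import Cfsg.Agent.Lib.Helper4.TCD_Fi24L_C12
import Cfsg.Agent.Lib.Helper4.TCD_Fi24L_C13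
import Cfsg.Agent.Lib.Helper4.TCD_Fi24L_C14
import Cfsg.Agent.Lib.Helper4.TCD_Fi24L_C15
import Cfsg.Agent.Lib.Helper4.TCD_Fi24L_C16
import Cfsg.Agent.Lib.Helper4.TCD_Fi24L_C17
import Cfsg.Agent.Lib.Helper4.TCD_Fi24L_C18
import Cfsg.Agent.Lib.Helper4.TCD_Fi24L_C19
import Cfsg.Agent.Lib.Helper4.TCD_Fi24L_C20
import Cfsg.Agent.Lib.Helper4.TCD_Fi24L_C21
import Cfsg.Agent.Lib.Helper4.TCD_Fi24L_C22
import Cfsg.Agent.Lib.Helper4.TCD_Fi24L_C23
import Cfsg.Agent.Lib.Helper4.TCD_Fi24L_C24
import Cfsg.Agent.Lib.Helper4.TCD_Fi24L_C25
import Cfsg.Agent.Lib.Helper4.TCD_Fi24L_C26
import Cfsg.Agent.Lib.Helper4.TCD_Fi24L_C27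
import Cfsg.Agent.Lib.Helper4.TCD_Fi24L_C28
import Cfsg.Agent.Lib.Helper4.TCD_Fi24L_C29
import Cfsg.Agent.Lib.Helper4.TCD_Fi24L_C30
import Cfsg.Agent.Lib.Helper4.TCD_Fi24L_C31
import Cfsg.Agent.Lib.Helper4.TCD_Fi24L_C32
import Cfsg.Agent.Lib.Helper4.TC13

namespace Cfsg.Agent.Lib.Helper4.TCD.Fi24L

open Cfsg.Agent.Lib.Helper4.TC Cfsg.Agent.Lib.Helper4.TCD.Fi24a

theorem h_p12_p0 : ∀ p, 0 ≤ p → p < 35800 → chk12 p = true :=
  (range_glue (range_of_allRange c_p12_0) (range_glue (range_of_allRange c_p12_1) (range_glue (range_of_allRange c_p12_2) (range_glue (range_of_allRange c_p12_3) (range_glue (range_of_allRange c_p12_4) (range_glue (range_of_allRange c_p12_5) (range_glue (range_of_allRange c_p12_6) (range_glue (range_of_allRange c_p12_7) (range_glue (range_of_allRange c_p12_8) (range_glue (range_of_allRange c_p12_9) (range_glue (range_of_allRange c_p12_10) (range_glue (range_of_allRange c_p12_11) (range_glue (range_of_allRange c_p12_12) (range_glue (range_of_allRange c_p12_13) (range_glue (range_of_allRange c_p12_14) (range_glue (range_of_allRange c_p12_15) (range_glue (range_of_allRange c_p12_16) (range_glue (range_of_allRange c_p12_17) (range_glue (range_of_allRange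 c_p12_18) (range_glue (range_of_allRange c_p12_19) (range_glue (range_of_allRange c_p12_20) (range_glue (range_of_allRange c_p12_21) (range_glue (range_of_allRange c_p12_22) (range_glue (range_of_allRange c_p12_23) (range_glue (range_of_allRange c_p12_24) (range_glue (range_of_allRange c_p12_25) (range_glue (range_of_allRange c_p12_26) (range_glue (range_of_allRange c_p12_27) (range_glue (range_of_allRange c_p12_28) (range_glue (range_of_allRange c_p12_29) (range_glue (range_of_allRange c_p12_30) (range_glue (range_of_allRange c_p12_31) (range_glue (range_of_allRange c_p12_32) (range_glue (range_of_allRange c_p12_33) (range_glue (range_of_allRange c_p12_34) (range_glue (range_of_allRange c_p12_35) (range_glue (range_of_allRange c_p12_36) (range_glue (range_of_allRange c_p12_37) (range_glue (range_of_allRange c_p12_38) (range_of_allRange c_p12_39))))))))))))))))))))))))))))))))))))))))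
theorem h_p12_p1 : ∀ p, 35800 ≤ p → p < 71600 → chk12 p = true :=
  (range_glue (range_of_allRange c_p12_40) (range_glue (range_of_allRange c_p12_41) (range_glue (range_of_allRange c_p12_42) (range_glue (range_of_allRange c_p12_43) (range_glue (range_of_allRange c_p12_44) (range_glue (range_of_allRange c_p12_45) (range_glue (range_of_allRange c_p12_46) (range_glue (range_of_allRange c_p12_47) (range_glue (range_of_allRange c_p12_48) (range_glue (range_of_allRange c_p12_49) (range_glue (range_of_allRange c_p12_50) (range_glue (range_of_allRange c_p12_51) (range_glue (range_of_allRange c_p12_52) (range_glue (range_of_allRange c_p12_53) (range_glue (range_of_allRange c_p12_54) (range_glue (range_of_allRange c_p12_55) (range_glue (range_of_allRange c_p12_56) (range_glue (range_of_allRange c_p12_57) (range_glue (range_of_allRange c_p12_58) (range_glue (range_of_allRange c_p12_59) (range_glue (range_of_allRange c_p12_60) (range_glue (range_of_allRange c_p12_61) (range_glue (range_of_allRange c_p12_62) (range_glue (range_of_allRange c_p12_63) (range_glue (range_of_allRange c_p12_64) (range_glue (range_of_allRange c_p12_65) (range_glue (range_of_allRange c_p12_66) (range_glue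 (range_of_allRange c_p12_67) (range_glue (range_of_allRange c_p12_68) (range_glue (range_of_allRange c_p12_69) (range_glue (range_of_allRange c_p12_70) (range_glue (range_of_allRange c_p12_71) (range_glue (range_of_allRange c_p12_72) (range_glue (range_of_allRange c_p12_73) (range_glue (range_of_allRange c_p12_74) (range_glue (range_of_allRange c_p12_75) (range_glue (range_of_allRange c_p12_76) (range_glue (range_of_allRange c_p12_77) (range_glue (range_of_allRange c_p12_78) (range_of_allRange c_p12_79))))))))))))))))))))))))))))))))))))))))
theorem h_p12_p2 : ∀ p, 71600 ≤ p → p < 107400 → chk12 p = true :=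
  (range_glue (range_of_allRange c_p12_80) (range_glue (range_of_allRange c_p12_81) (range_glue (range_of_allRange c_p12_82) (range_glue (range_of_allRange c_p12_83) (range_glue (range_of_allRange c_p12_84) (range_glue (range_of_allRange c_p12_85) (range_glue (range_of_allRange c_p12_86) (range_glue (range_of_allRange c_p12_87) (range_glue (range_of_allRange c_p12_88) (range_glue (range_of_allRange c_p12_89) (range_glue (range_of_allRange c_p12_90) (range_glue (range_of_allRange c_p12_91) (range_glue (range_of_allRange c_p12_92) (range_glue (range_of_allRange c_p12_93) (range_glue (range_of_allRange c_p12_94) (range_glue (range_of_allRange c_p12_95) (range_glue (range_of_allRange c_p12_96) (range_glue (range_of_allRange c_p12_97) (range_glue (range_of_allRange c_p12_98) (range_glue (range_of_allRange c_p12_99) (range_glue (range_of_allRange c_p12_100) (range_glue (range_of_allRange c_p12_101) (range_glue (range_of_allRange c_p12_102) (range_glue (range_of_allRange c_p12_103) (range_glue (range_of_allRange c_p12_104) (range_glue (range_of_allRange c_p12_105) (range_glue (range_of_allRange c_p12_106) (range_glue (range_of_allRange c_p12_107) (range_glue (range_of_allRange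 c_p12_108) (range_glue (range_of_allRange c_p12_109) (range_glue (range_of_allRange c_p12_110) (range_glue (range_of_allRange c_p12_111) (range_glue (range_of_allRange c_p12_112) (range_glue (range_of_allRange c_p12_113) (range_glue (range_of_allRange c_p12_114) (range_glue (range_of_allRange c_p12_115) (range_glue (range_of_allRange c_p12_116) (range_glue (range_of_allRange c_p12_117) (range_glue (range_of_allRange c_p12_118) (range_of_allRange c_p12_119))))))))))))))))))))))))))))))))))))))))
theorem h_p12_p3 : ∀ p, 107400 ≤ p → p < 143200 → chk12 p = true :=
  (range_glue (range_of_allRange c_p12_120) (range_glue (range_of_allRange c_p12_121) (range_glue (range_of_allRange c_p12_122) (range_glue (range_of_allRange c_p12_123) (range_glue (range_of_allRange c_p12_124) (range_glue (range_of_allRange c_p12_125) (range_glue (range_of_allRange c_p12_126) (range_glue (range_of_allRange c_p12_127) (range_glue (range_of_allRange c_p12_128) (range_glue (range_of_allRange c_p12_129) (range_glue (range_of_allRange c_p12_130) (range_glue (range_of_allRange c_p12_131) (range_glue (range_of_allRange c_p12_132) (range_glue (range_of_allRange c_p12_133) (range_glue (range_of_allRange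 c_p12_134) (range_glue (range_of_allRange c_p12_135) (range_glue (range_of_allRange c_p12_136) (range_glue (range_of_allRange c_p12_137) (range_glue (range_of_allRange c_p12_138) (range_glue (range_of_allRange c_p12_139) (range_glue (range_of_allRange c_p12_140) (range_glue (range_of_allRange c_p12_141) (range_glue (range_of_allRange c_p12_142) (range_glue (range_of_allRange c_p12_143) (range_glue (range_of_allRange c_p12_144) (range_glue (range_of_allRange c_p12_145) (range_glue (range_of_allRange c_p12_146) (range_glue (range_of_allRange c_p12_147) (range_glue (range_of_allRange c_p12_148) (range_glue (range_of_allRange c_p12_149) (range_glue (range_of_allRange c_p12_150) (range_glue (range_of_allRange c_p12_151) (range_glue (range_of_allRange c_p12_152) (range_glue (range_of_allRange c_p12_153) (range_glue (range_of_allRange c_p12_154) (range_glue (range_of_allRange c_p12_155) (range_glue (range_of_allRange c_p12_156) (range_glue (range_of_allRange c_p12_157) (range_glue (range_of_allRange c_p12_158) (range_of_allRange c_p12_159))))))))))))))))))))))))))))))))))))))))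
theorem h_p12_p4 : ∀ p, 143200 ≤ p → p < 179000 → chk12 p = true :=
  (range_glue (range_of_allRange c_p12_160) (range_glue (range_of_allRange c_p12_161) (range_glue (range_of_allRange c_p12_162) (range_glue (range_of_allRange c_p12_163) (range_glue (range_of_allRange c_p12_164) (range_glue (range_of_allRange c_p12_165) (range_glue (range_of_allRange c_p12_166) (range_glue (range_of_allRange c_p12_167) (range_glue (range_of_allRange c_p12_168) (range_glue (range_of_allRange c_p12_169) (range_glue (range_of_allRange c_p12_170) (range_glue (range_of_allRange c_p12_171) (range_glue (range_of_allRange c_p12_172) (range_glue (range_of_allRange c_p12_173) (range_glue (range_of_allRange c_p12_174) (range_glue (range_of_allRange c_p12_175) (range_glue (range_of_allRange c_p12_176) (range_glue (range_of_allRange c_p12_177) (range_glue (range_of_allRange c_p12_178) (range_glue (range_of_allRange c_p12_179) (range_glue (range_of_allRange c_p12_180) (range_glue (range_of_allRange c_p12_181) (range_glue (range_of_allRange c_p12_182) (range_glue (range_of_allRange c_p12_183) (range_glue (range_of_allRange c_p12_184) (range_glue (range_of_allRange c_p12_185) (range_glue (range_of_allRange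 c_p12_186) (range_glue (range_of_allRange c_p12_187) (range_glue (range_of_allRange c_p12_188) (range_glue (range_of_allRange c_p12_189) (range_glue (range_of_allRange c_p12_190) (range_glue (range_of_allRange c_p12_191) (range_glue (range_of_allRange c_p12_192) (range_glue (range_of_allRange c_p12_193) (range_glue (range_of_allRange c_p12_194) (range_glue (range_of_allRange c_p12_195) (range_glue (range_of_allRange c_p12_196) (range_glue (range_of_allRange c_p12_197) (range_glue (range_of_allRange c_p12_198) (range_of_allRange c_p12_199))))))))))))))))))))))))))))))))))))))))
theorem h_p12_p5 : ∀ p, 179000 ≤ p → p < 214800 → chk12 p = true :=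
  (range_glue (range_of_allRange c_p12_200) (range_glue (range_of_allRange c_p12_201) (range_glue (range_of_allRange c_p12_202) (range_glue (range_of_allRange c_p12_203) (range_glue (range_of_allRange c_p12_204) (range_glue (range_of_allRange c_p12_205) (range_glue (range_of_allRange c_p12_206) (range_glue (range_of_allRange c_p12_207) (range_glue (range_of_allRange c_p12_208) (range_glue (range_of_allRange c_p12_209) (range_glue (range_of_allRange c_p12_210) (range_glue (range_of_allRange c_p12_211) (range_glue (range_of_allRange c_p12_212) (range_glue (range_of_allRange c_p12_213) (range_glue (range_of_allRange c_p12_214) (range_glue (range_of_allRange c_p12_215) (range_glue (range_of_allRange c_p12_216) (range_glue (range_of_allRange c_p12_217) (range_glue (range_of_allRange c_p12_218) (range_glue (range_of_allRange c_p12_219) (range_glue (range_of_allRange c_p12_220) (range_glue (range_of_allRange c_p12_221) (range_glue (range_of_allRange c_p12_222) (range_glue (range_of_allRange c_p12_223) (range_glue (range_of_allRange c_p12_224) (range_glue (range_of_allRange c_p12_225) (range_glue (range_of_allRange c_p12_226) (range_glue (range_of_allRange c_p12_227)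 (range_glue (range_of_allRange c_p12_228) (range_glue (range_of_allRange c_p12_229) (range_glue (range_of_allRange c_p12_230) (range_glue (range_of_allRange c_p12_231) (range_glue (range_of_allRange c_p12_232) (range_glue (range_of_allRange c_p12_233) (range_glue (range_of_allRange c_p12_234) (range_glue (range_of_allRange c_p12_235) (range_glue (range_of_allRange c_p12_236) (range_glue (range_of_allRange c_p12_237) (range_glue (range_of_allRange c_p12_238) (range_of_allRange c_p12_239))))))))))))))))))))))))))))))))))))))))
theorem h_p12_p6 : ∀ p, 214800 ≤ p → p < 250600 → chk12 p = true :=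
  (range_glue (range_of_allRange c_p12_240) (range_glue (range_of_allRange c_p12_241) (range_glue (range_of_allRange c_p12_242) (range_glue (range_of_allRange c_p12_243) (range_glue (range_of_allRange c_p12_244) (range_glue (range_of_allRange c_p12_245) (range_glue (range_of_allRange c_p12_246) (range_glue (range_of_allRange c_p12_247) (range_glue (range_of_allRange c_p12_248) (range_glue (range_of_allRange c_p12_249) (range_glue (range_of_allRange c_p12_250) (range_glue (range_of_allRange c_p12_251) (range_glue (range_of_allRange c_p12_252) (range_glue (range_of_allRange c_p12_253) (range_glue (range_of_allRange c_p12_254) (range_glue (range_of_allRange c_p12_255) (range_glue (range_of_allRange c_p12_256) (range_glue (range_of_allRange c_p12_257) (range_glue (range_of_allRange c_p12_258) (range_glue (range_of_allRange c_p12_259) (range_glue (range_of_allRange c_p12_260) (range_glue (range_of_allRange c_p12_261) (range_glue (range_of_allRange c_p12_262) (range_glue (range_of_allRange c_p12_263) (range_glue (range_of_allRange c_p12_264) (range_glue (range_of_allRange c_p12_265) (range_glue (range_of_allRange c_p12_266) (range_glue (range_of_allRange c_p12_267)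 (range_glue (range_of_allRange c_p12_268) (range_glue (range_of_allRange c_p12_269) (range_glue (range_of_allRange c_p12_270) (range_glue (range_of_allRange c_p12_271) (range_glue (range_of_allRange c_p12_272) (range_glue (range_of_allRange c_p12_273) (range_glue (range_of_allRange c_p12_274) (range_glue (range_of_allRange c_p12_275) (range_glue (range_of_allRange c_p12_276) (range_glue (range_of_allRange c_p12_277) (range_glue (range_of_allRange c_p12_278) (range_of_allRange c_p12_279))))))))))))))))))))))))))))))))))))))))
theorem h_p12_p7 : ∀ p, 250600 ≤ p → p < 286400 → chk12 p = true :=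
  (range_glue (range_of_allRange c_p12_280) (range_glue (range_of_allRange c_p12_281) (range_glue (range_of_allRange c_p12_282) (range_glue (range_of_allRange c_p12_283) (range_glue (range_of_allRange c_p12_284) (range_glue (range_of_allRange c_p12_285) (range_glue (range_of_allRange c_p12_286) (range_glue (range_of_allRange c_p12_287) (range_glue (range_of_allRange c_p12_288) (range_glue (range_of_allRange c_p12_289) (range_glue (range_of_allRange c_p12_290) (range_glue (range_of_allRange c_p12_291) (range_glue (range_of_allRange c_p12_292) (range_glue (range_of_allRange c_p12_293) (range_glue (range_of_allRange c_p12_294) (range_glue (range_of_allRange c_p12_295) (range_glue (range_of_allRange c_p12_296) (range_glue (range_of_allRange c_p12_297) (range_glue (range_of_allRange c_p12_298) (range_glue (range_of_allRange c_p12_299) (range_glue (range_of_allRange c_p12_300) (range_glue (range_of_allRange c_p12_301) (range_glue (range_of_allRange c_p12_302) (range_glue (range_of_allRange c_p12_303) (range_glue (range_of_allRange c_p12_304) (range_glue (range_of_allRange c_p12_305) (range_glue (range_of_allRange c_p12_306) (range_glue (range_of_allRange c_p12_307)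 (range_glue (range_of_allRange c_p12_308) (range_glue (range_of_allRange c_p12_309) (range_glue (range_of_allRange c_p12_310) (range_glue (range_of_allRange c_p12_311) (range_glue (range_of_allRange c_p12_312) (range_glue (range_of_allRange c_p12_313) (range_glue (range_of_allRange c_p12_314) (range_glue (range_of_allRange c_p12_315) (range_glue (range_of_allRange c_p12_316) (range_glue (range_of_allRange c_p12_317) (range_glue (range_of_allRange c_p12_318) (range_of_allRange c_p12_319))))))))))))))))))))))))))))))))))))))))
theorem h_p12_p8 : ∀ p, 286400 ≤ p → p < 306936 → chk12 p = true :=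
  (range_glue (range_of_allRange c_p12_320) (range_glue (range_of_allRange c_p12_321) (range_glue (range_of_allRange c_p12_322) (range_glue (range_of_allRange c_p12_323) (range_glue (range_of_allRange c_p12_324) (range_glue (range_of_allRange c_p12_325) (range_glue (range_of_allRange c_p12_326) (range_glue (range_of_allRange c_p12_327) (range_glue (range_of_allRange c_p12_328) (range_glue (range_of_allRange c_p12_329) (range_glue (range_of_allRange c_p12_330) (range_glue (range_of_allRange c_p12_331) (range_glue (range_of_allRange c_p12_332) (range_glue (range_of_allRange c_p12_333) (range_glue (range_of_allRange c_p12_334) (range_glue (range_of_allRange c_p12_335) (range_glue (range_of_allRange c_p12_336) (range_glue (range_of_allRange c_p12_337) (range_glue (range_of_allRange c_p12_338) (range_glue (range_of_allRange c_p12_339) (range_glue (range_of_allRange c_p12_340) (range_glue (range_of_allRange c_p12_341) (range_of_allRange c_p12_342)))))))))))))))))))))))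
theorem h_p12 : ∀ p, 0 ≤ p → p < 306936 → chk12 p = true :=
  (range_glue h_p12_p0 (range_glue h_p12_p1 (range_glue h_p12_p2 (range_glue h_p12_p3 (range_glue h_p12_p4 (range_glue h_p12_p5 (range_glue h_p12_p6 (range_glue h_p12_p7 h_p12_p8))))))))
theorem h_p13_p0 : ∀ p, 0 ≤ p → p < 85680 → chk13 p = true :=
  (range_glue (range_of_allRange c_p13_0) (range_glue (range_of_allRange c_p13_1) (range_glue (range_of_allRange c_p13_2) (range_glue (range_of_allRange c_p13_3) (range_glue (range_of_allRange c_p13_4) (range_glue (range_of_allRange c_p13_5) (range_glue (range_of_allRange c_p13_6) (range_glue (range_of_allRange c_p13_7) (range_glue (range_of_allRange c_p13_8) (range_glue (range_of_allRange c_p13_9) (range_glue (range_of_allRange c_p13_10) (range_glue (range_of_allRange c_p13_11) (range_glue (range_of_allRange c_p13_12) (range_glue (range_of_allRange c_p13_13) (range_glue (range_of_allRange c_p13_14) (range_glue (range_of_allRange c_p13_15) (range_glue (range_of_allRange c_p13_16) (range_glue (range_of_allRange c_p13_17) (range_glue (range_of_allRange c_p13_18) (range_glue (range_of_allRange c_p13_19) (range_glue (range_of_allRange c_p13_20) (range_glue (range_of_allRange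 c_p13_21) (range_glue (range_of_allRange c_p13_22) (range_glue (range_of_allRange c_p13_23) (range_glue (range_of_allRange c_p13_24) (range_glue (range_of_allRange c_p13_25) (range_glue (range_of_allRange c_p13_26) (range_glue (range_of_allRange c_p13_27) (range_glue (range_of_allRange c_p13_28) (range_glue (range_of_allRange c_p13_29) (range_glue (range_of_allRange c_p13_30) (range_glue (range_of_allRange c_p13_31) (range_glue (range_of_allRange c_p13_32) (range_glue (range_of_allRange c_p13_33) (range_glue (range_of_allRange c_p13_34) (range_glue (range_of_allRange c_p13_35) (range_glue (range_of_allRange c_p13_36) (range_glue (range_of_allRange c_p13_37) (range_glue (range_of_allRange c_p13_38) (range_of_allRange c_p13_39))))))))))))))))))))))))))))))))))))))))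
theorem h_p13_p1 : ∀ p, 85680 ≤ p → p < 171360 → chk13 p = true :=
  (range_glue (range_of_allRange c_p13_40) (range_glue (range_of_allRange c_p13_41) (range_glue (range_of_allRange c_p13_42) (range_glue (range_of_allRange c_p13_43) (range_glue (range_of_allRange c_p13_44) (range_glue (range_of_allRange c_p13_45) (range_glue (range_of_allRange c_p13_46) (range_glue (range_of_allRange c_p13_47) (range_glue (range_of_allRange c_p13_48) (range_glue (range_of_allRange c_p13_49) (range_glue (range_of_allRange c_p13_50) (range_glue (range_of_allRange c_p13_51) (range_glue (range_of_allRange c_p13_52) (range_glue (range_of_allRange c_p13_53) (range_glue (range_of_allRange c_p13_54) (range_glue (range_of_allRange c_p13_55) (range_glue (range_of_allRange c_p13_56) (range_glue (range_of_allRange c_p13_57) (range_glue (range_of_allRange c_p13_58) (range_glue (range_of_allRange c_p13_59) (range_glue (range_of_allRange c_p13_60) (range_glue (range_of_allRange c_p13_61) (range_glue (range_of_allRange c_p13_62) (range_glue (range_of_allRange c_p13_63) (range_glue (range_of_allRange c_p13_64) (range_glue (range_of_allRange c_p13_65) (range_glue (range_of_allRange c_p13_66) (range_glue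 (range_of_allRange c_p13_67) (range_glue (range_of_allRange c_p13_68) (range_glue (range_of_allRange c_p13_69) (range_glue (range_of_allRange c_p13_70) (range_glue (range_of_allRange c_p13_71) (range_glue (range_of_allRange c_p13_72) (range_glue (range_of_allRange c_p13_73) (range_glue (range_of_allRange c_p13_74) (range_glue (range_of_allRange c_p13_75) (range_glue (range_of_allRange c_p13_76) (range_glue (range_of_allRange c_p13_77) (range_glue (range_of_allRange c_p13_78) (range_of_allRange c_p13_79))))))))))))))))))))))))))))))))))))))))
theorem h_p13_p2 : ∀ p, 171360 ≤ p → p < 257040 → chk13 p = true :=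
  (range_glue (range_of_allRange c_p13_80) (range_glue (range_of_allRange c_p13_81) (range_glue (range_of_allRange c_p13_82) (range_glue (range_of_allRange c_p13_83) (range_glue (range_of_allRange c_p13_84) (range_glue (range_of_allRange c_p13_85) (range_glue (range_of_allRange c_p13_86) (range_glue (range_of_allRange c_p13_87) (range_glue (range_of_allRange c_p13_88) (range_glue (range_of_allRange c_p13_89) (range_glue (range_of_allRange c_p13_90) (range_glue (range_of_allRange c_p13_91) (range_glue (range_of_allRange c_p13_92) (range_glue (range_of_allRange c_p13_93) (range_glue (range_of_allRange c_p13_94) (range_glue (range_of_allRange c_p13_95) (range_glue (range_of_allRange c_p13_96) (range_glue (range_of_allRange c_p13_97) (range_glue (range_of_allRange c_p13_98) (range_glue (range_of_allRange c_p13_99) (range_glue (range_of_allRange c_p13_100) (range_glue (range_of_allRange c_p13_101) (range_glue (range_of_allRange c_p13_102) (range_glue (range_of_allRange c_p13_103) (range_glue (range_of_allRange c_p13_104) (range_glue (range_of_allRange c_p13_105) (range_glue (range_of_allRange c_p13_106) (range_glue (range_of_allRange c_p13_107) (range_glue (range_of_allRange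 c_p13_108) (range_glue (range_of_allRange c_p13_109) (range_glue (range_of_allRange c_p13_110) (range_glue (range_of_allRange c_p13_111) (range_glue (range_of_allRange c_p13_112) (range_glue (range_of_allRange c_p13_113) (range_glue (range_of_allRange c_p13_114) (range_glue (range_of_allRange c_p13_115) (range_glue (range_of_allRange c_p13_116) (range_glue (range_of_allRange c_p13_117) (range_glue (range_of_allRange c_p13_118) (range_of_allRange c_p13_119))))))))))))))))))))))))))))))))))))))))
theorem h_p13_p3 : ∀ p, 257040 ≤ p → p < 306936 → chk13 p = true :=
  (range_glue (range_of_allRange c_p13_120) (range_glue (range_of_allRange c_p13_121) (range_glue (range_of_allRange c_p13_122) (range_glue (range_of_allRange c_p13_123) (range_glue (range_of_allRange c_p13_124) (range_glue (range_of_allRange c_p13_125) (range_glue (range_of_allRange c_p13_126) (range_glue (range_of_allRange c_p13_127) (range_glue (range_of_allRange c_p13_128) (range_glue (range_of_allRange c_p13_129) (range_glue (range_of_allRange c_p13_130) (range_glue (range_of_allRange c_p13_131) (range_glue (range_of_allRange c_p13_132) (range_glue (range_of_allRange c_p13_133) (range_glue (range_of_allRange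 c_p13_134) (range_glue (range_of_allRange c_p13_135) (range_glue (range_of_allRange c_p13_136) (range_glue (range_of_allRange c_p13_137) (range_glue (range_of_allRange c_p13_138) (range_glue (range_of_allRange c_p13_139) (range_glue (range_of_allRange c_p13_140) (range_glue (range_of_allRange c_p13_141) (range_glue (range_of_allRange c_p13_142) (range_of_allRange c_p13_143))))))))))))))))))))))))
theorem h_p13 : ∀ p, 0 ≤ p → p < 306936 → chk13 p = true :=
  (range_glue h_p13_p0 (range_glue h_p13_p1 (range_glue h_p13_p2 h_p13_p3)))
theorem h_p14_p0 : ∀ p, 0 ≤ p → p < 63120 → chk14 p = true :=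
  (range_glue (range_of_allRange c_p14_0) (range_glue (range_of_allRange c_p14_1) (range_glue (range_of_allRange c_p14_2) (range_glue (range_of_allRange c_p14_3) (range_glue (range_of_allRange c_p14_4) (range_glue (range_of_allRange c_p14_5) (range_glue (range_of_allRange c_p14_6) (range_glue (range_of_allRange c_p14_7) (range_glue (range_of_allRange c_p14_8) (range_glue (range_of_allRange c_p14_9) (range_glue (range_of_allRange c_p14_10) (range_glue (range_of_allRange c_p14_11) (range_glue (range_of_allRange c_p14_12) (range_glue (range_of_allRange c_p14_13) (range_glue (range_of_allRange c_p14_14) (range_glue (range_of_allRange c_p14_15) (range_glue (range_of_allRange c_p14_16) (range_glue (range_of_allRange c_p14_17) (range_glue (range_of_allRange c_p14_18) (range_glue (range_of_allRange c_p14_19) (range_glue (range_of_allRange c_p14_20) (range_glue (range_of_allRange c_p14_21) (range_glue (range_of_allRange c_p14_22) (range_glue (range_of_allRange c_p14_23) (range_glue (range_of_allRange c_p14_24) (range_glue (range_of_allRange c_p14_25) (range_glue (range_of_allRange c_p14_26) (range_glue (range_of_allRange c_p14_27) (range_glue (range_of_allRange c_p14_28)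 (range_glue (range_of_allRange c_p14_29) (range_glue (range_of_allRange c_p14_30) (range_glue (range_of_allRange c_p14_31) (range_glue (range_of_allRange c_p14_32) (range_glue (range_of_allRange c_p14_33) (range_glue (range_of_allRange c_p14_34) (range_glue (range_of_allRange c_p14_35) (range_glue (range_of_allRange c_p14_36) (range_glue (range_of_allRange c_p14_37) (range_glue (range_of_allRange c_p14_38) (range_of_allRange c_p14_39))))))))))))))))))))))))))))))))))))))))
theorem h_p14_p1 : ∀ p, 63120 ≤ p → p < 126240 → chk14 p = true :=
  (range_glue (range_of_allRange c_p14_40) (range_glue (range_of_allRange c_p14_41) (range_glue (range_of_allRange c_p14_42) (range_glue (range_of_allRange c_p14_43) (range_glue (range_of_allRange c_p14_44) (range_glue (range_of_allRange c_p14_45) (range_glue (range_of_allRange c_p14_46) (range_glue (range_of_allRange c_p14_47) (range_glue (range_of_allRange c_p14_48) (range_glue (range_of_allRange c_p14_49) (range_glue (range_of_allRange c_p14_50) (range_glue (range_of_allRange c_p14_51) (range_glue (range_of_allRange c_p14_52) (range_glue (range_of_allRange c_p14_53) (range_glue (range_of_allRange c_p14_54) (range_glue (range_of_allRange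 c_p14_55) (range_glue (range_of_allRange c_p14_56) (range_glue (range_of_allRange c_p14_57) (range_glue (range_of_allRange c_p14_58) (range_glue (range_of_allRange c_p14_59) (range_glue (range_of_allRange c_p14_60) (range_glue (range_of_allRange c_p14_61) (range_glue (range_of_allRange c_p14_62) (range_glue (range_of_allRange c_p14_63) (range_glue (range_of_allRange c_p14_64) (range_glue (range_of_allRange c_p14_65) (range_glue (range_of_allRange c_p14_66) (range_glue (range_of_allRange c_p14_67) (range_glue (range_of_allRange c_p14_68) (range_glue (range_of_allRange c_p14_69) (range_glue (range_of_allRange c_p14_70) (range_glue (range_of_allRange c_p14_71) (range_glue (range_of_allRange c_p14_72) (range_glue (range_of_allRange c_p14_73) (range_glue (range_of_allRange c_p14_74) (range_glue (range_of_allRange c_p14_75) (range_glue (range_of_allRange c_p14_76) (range_glue (range_of_allRange c_p14_77) (range_glue (range_of_allRange c_p14_78) (range_of_allRange c_p14_79))))))))))))))))))))))))))))))))))))))))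
theorem h_p14_p2 : ∀ p, 126240 ≤ p → p < 189360 → chk14 p = true :=
  (range_glue (range_of_allRange c_p14_80) (range_glue (range_of_allRange c_p14_81) (range_glue (range_of_allRange c_p14_82) (range_glue (range_of_allRange c_p14_83) (range_glue (range_of_allRange c_p14_84) (range_glue (range_of_allRange c_p14_85) (range_glue (range_of_allRange c_p14_86) (range_glue (range_of_allRange c_p14_87) (range_glue (range_of_allRange c_p14_88) (range_glue (range_of_allRange c_p14_89) (range_glue (range_of_allRange c_p14_90) (range_glue (range_of_allRange c_p14_91) (range_glue (range_of_allRange c_p14_92) (range_glue (range_of_allRange c_p14_93) (range_glue (range_of_allRange c_p14_94) (range_glue (range_of_allRange c_p14_95) (range_glue (range_of_allRange c_p14_96) (range_glue (range_of_allRange c_p14_97) (range_glue (range_of_allRange c_p14_98) (range_glue (range_of_allRange c_p14_99) (range_glue (range_of_allRange c_p14_100) (range_glue (range_of_allRange c_p14_101) (range_glue (range_of_allRange c_p14_102) (range_glue (range_of_allRange c_p14_103) (range_glue (range_of_allRange c_p14_104) (range_glue (range_of_allRange c_p14_105) (range_glue (range_of_allRange c_p14_106)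 (range_glue (range_of_allRange c_p14_107) (range_glue (range_of_allRange c_p14_108) (range_glue (range_of_allRange c_p14_109) (range_glue (range_of_allRange c_p14_110) (range_glue (range_of_allRange c_p14_111) (range_glue (range_of_allRange c_p14_112) (range_glue (range_of_allRange c_p14_113) (range_glue (range_of_allRange c_p14_114) (range_glue (range_of_allRange c_p14_115) (range_glue (range_of_allRange c_p14_116) (range_glue (range_of_allRange c_p14_117) (range_glue (range_of_allRange c_p14_118) (range_of_allRange c_p14_119))))))))))))))))))))))))))))))))))))))))
theorem h_p14_p3 : ∀ p, 189360 ≤ p → p < 252480 → chk14 p = true :=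
  (range_glue (range_of_allRange c_p14_120) (range_glue (range_of_allRange c_p14_121) (range_glue (range_of_allRange c_p14_122) (range_glue (range_of_allRange c_p14_123) (range_glue (range_of_allRange c_p14_124) (range_glue (range_of_allRange c_p14_125) (range_glue (range_of_allRange c_p14_126) (range_glue (range_of_allRange c_p14_127) (range_glue (range_of_allRange c_p14_128) (range_glue (range_of_allRange c_p14_129) (range_glue (range_of_allRange c_p14_130) (range_glue (range_of_allRange c_p14_131) (range_glue (range_of_allRange c_p14_132) (range_glue (range_of_allRange c_p14_133) (range_glue (range_of_allRange c_p14_134) (range_glue (range_of_allRange c_p14_135) (range_glue (range_of_allRange c_p14_136) (range_glue (range_of_allRange c_p14_137) (range_glue (range_of_allRange c_p14_138) (range_glue (range_of_allRange c_p14_139) (range_glue (range_of_allRange c_p14_140) (range_glue (range_of_allRange c_p14_141) (range_glue (range_of_allRange c_p14_142) (range_glue (range_of_allRange c_p14_143) (range_glue (range_of_allRange c_p14_144) (range_glue (range_of_allRange c_p14_145) (range_glue (range_of_allRange c_p14_146) (range_glue (range_of_allRange c_p14_147)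 (range_glue (range_of_allRange c_p14_148) (range_glue (range_of_allRange c_p14_149) (range_glue (range_of_allRange c_p14_150) (range_glue (range_of_allRange c_p14_151) (range_glue (range_of_allRange c_p14_152) (range_glue (range_of_allRange c_p14_153) (range_glue (range_of_allRange c_p14_154) (range_glue (range_of_allRange c_p14_155) (range_glue (range_of_allRange c_p14_156) (range_glue (range_of_allRange c_p14_157) (range_glue (range_of_allRange c_p14_158) (range_of_allRange c_p14_159))))))))))))))))))))))))))))))))))))))))
theorem h_p14_p4 : ∀ p, 252480 ≤ p → p < 306936 → chk14 p = true :=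
  (range_glue (range_of_allRange c_p14_160) (range_glue (range_of_allRange c_p14_161) (range_glue (range_of_allRange c_p14_162) (range_glue (range_of_allRange c_p14_163) (range_glue (range_of_allRange c_p14_164) (range_glue (range_of_allRange c_p14_165) (range_glue (range_of_allRange c_p14_166) (range_glue (range_of_allRange c_p14_167) (range_glue (range_of_allRange c_p14_168) (range_glue (range_of_allRange c_p14_169) (range_glue (range_of_allRange c_p14_170) (range_glue (range_of_allRange c_p14_171) (range_glue (range_of_allRange c_p14_172) (range_glue (range_of_allRange c_p14_173) (range_glue (range_of_allRange c_p14_174) (range_glue (range_of_allRange c_p14_175) (range_glue (range_of_allRange c_p14_176) (range_glue (range_of_allRange c_p14_177) (range_glue (range_of_allRange c_p14_178) (range_glue (range_of_allRange c_p14_179) (range_glue (range_of_allRange c_p14_180) (range_glue (range_of_allRange c_p14_181) (range_glue (range_of_allRange c_p14_182) (range_glue (range_of_allRange c_p14_183) (range_glue (range_of_allRange c_p14_184) (range_glue (range_of_allRange c_p14_185) (range_glue (range_of_allRange c_p14_186) (range_glue (range_of_allRange c_p14_187)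 (range_glue (range_of_allRange c_p14_188) (range_glue (range_of_allRange c_p14_189) (range_glue (range_of_allRange c_p14_190) (range_glue (range_of_allRange c_p14_191) (range_glue (range_of_allRange c_p14_192) (range_glue (range_of_allRange c_p14_193) (range_of_allRange c_p14_194)))))))))))))))))))))))))))))))))))
theorem h_p14 : ∀ p, 0 ≤ p → p < 306936 → chk14 p = true :=
  (range_glue h_p14_p0 (range_glue h_p14_p1 (range_glue h_p14_p2 (range_glue h_p14_p3 h_p14_p4))))
theorem h_p15 : ∀ p, 0 ≤ p → p < 306936 → chk15 p = true :=
  (range_glue (range_of_allRange c_p15_0) (range_glue (range_of_allRange c_p15_1) (range_glue (range_of_allRange c_p15_2) (range_glue (range_of_allRange c_p15_3) (range_glue (range_of_allRange c_p15_4) (range_glue (range_of_allRange c_p15_5) (range_glue (range_of_allRange c_p15_6) (range_glue (range_of_allRange c_p15_7) (range_glue (range_of_allRange c_p15_8) (range_glue (range_of_allRange c_p15_9) (range_glue (range_of_allRange c_p15_10) (range_glue (range_of_allRange c_p15_11) (range_glue (range_of_allRange c_p15_12) (range_glue (range_of_allRange c_p15_13) (range_glue (range_of_allRange c_p15_14) (range_glue (range_of_allRange c_p15_15)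 (range_glue (range_of_allRange c_p15_16) (range_glue (range_of_allRange c_p15_17) (range_glue (range_of_allRange c_p15_18) (range_glue (range_of_allRange c_p15_19) (range_of_allRange c_p15_20)))))))))))))))))))))
theorem h_p16_p0 : ∀ p, 0 ≤ p → p < 88880 → chk16 p = true :=
  (range_glue (range_of_allRange c_p16_0) (range_glue (range_of_allRange c_p16_1) (range_glue (range_of_allRange c_p16_2) (range_glue (range_of_allRange c_p16_3) (range_glue (range_of_allRange c_p16_4) (range_glue (range_of_allRange c_p16_5) (range_glue (range_of_allRange c_p16_6) (range_glue (range_of_allRange c_p16_7) (range_glue (range_of_allRange c_p16_8) (range_glue (range_of_allRange c_p16_9) (range_glue (range_of_allRange c_p16_10) (range_glue (range_of_allRange c_p16_11) (range_glue (range_of_allRange c_p16_12) (range_glue (range_of_allRange c_p16_13) (range_glue (range_of_allRange c_p16_14) (range_glue (range_of_allRange c_p16_15) (range_glue (range_of_allRange c_p16_16) (range_glue (range_of_allRange c_p16_17) (range_glue (range_of_allRange c_p16_18) (range_glue (range_of_allRange c_p16_19) (range_glue (range_of_allRange c_p16_20) (range_glue (range_of_allRange c_p16_21) (range_glue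 (range_of_allRange c_p16_22) (range_glue (range_of_allRange c_p16_23) (range_glue (range_of_allRange c_p16_24) (range_glue (range_of_allRange c_p16_25) (range_glue (range_of_allRange c_p16_26) (range_glue (range_of_allRange c_p16_27) (range_glue (range_of_allRange c_p16_28) (range_glue (range_of_allRange c_p16_29) (range_glue (range_of_allRange c_p16_30) (range_glue (range_of_allRange c_p16_31) (range_glue (range_of_allRange c_p16_32) (range_glue (range_of_allRange c_p16_33) (range_glue (range_of_allRange c_p16_34) (range_glue (range_of_allRange c_p16_35) (range_glue (range_of_allRange c_p16_36) (range_glue (range_of_allRange c_p16_37) (range_glue (range_of_allRange c_p16_38) (range_of_allRange c_p16_39))))))))))))))))))))))))))))))))))))))))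
theorem h_p16_p1 : ∀ p, 88880 ≤ p → p < 177760 → chk16 p = true :=
  (range_glue (range_of_allRange c_p16_40) (range_glue (range_of_allRange c_p16_41) (range_glue (range_of_allRange c_p16_42) (range_glue (range_of_allRange c_p16_43) (range_glue (range_of_allRange c_p16_44) (range_glue (range_of_allRange c_p16_45) (range_glue (range_of_allRange c_p16_46) (range_glue (range_of_allRange c_p16_47) (range_glue (range_of_allRange c_p16_48) (range_glue (range_of_allRange c_p16_49) (range_glue (range_of_allRange c_p16_50) (range_glue (range_of_allRange c_p16_51) (range_glue (range_of_allRange c_p16_52) (range_glue (range_of_allRange c_p16_53) (range_glue (range_of_allRange c_p16_54) (range_glue (range_of_allRange c_p16_55) (range_glue (range_of_allRange c_p16_56) (range_glue (range_of_allRange c_p16_57) (range_glue (range_of_allRange c_p16_58) (range_glue (range_of_allRange c_p16_59) (range_glue (range_of_allRange c_p16_60) (range_glue (range_of_allRange c_p16_61) (range_glue (range_of_allRange c_p16_62) (range_glue (range_of_allRange c_p16_63) (range_glue (range_of_allRange c_p16_64) (range_glue (range_of_allRange c_p16_65) (range_glue (range_of_allRange c_p16_66) (range_glue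 (range_of_allRange c_p16_67) (range_glue (range_of_allRange c_p16_68) (range_glue (range_of_allRange c_p16_69) (range_glue (range_of_allRange c_p16_70) (range_glue (range_of_allRange c_p16_71) (range_glue (range_of_allRange c_p16_72) (range_glue (range_of_allRange c_p16_73) (range_glue (range_of_allRange c_p16_74) (range_glue (range_of_allRange c_p16_75) (range_glue (range_of_allRange c_p16_76) (range_glue (range_of_allRange c_p16_77) (range_glue (range_of_allRange c_p16_78) (range_of_allRange c_p16_79))))))))))))))))))))))))))))))))))))))))
theorem h_p16_p2 : ∀ p, 177760 ≤ p → p < 266640 → chk16 p = true :=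
  (range_glue (range_of_allRange c_p16_80) (range_glue (range_of_allRange c_p16_81) (range_glue (range_of_allRange c_p16_82) (range_glue (range_of_allRange c_p16_83) (range_glue (range_of_allRange c_p16_84) (range_glue (range_of_allRange c_p16_85) (range_glue (range_of_allRange c_p16_86) (range_glue (range_of_allRange c_p16_87) (range_glue (range_of_allRange c_p16_88) (range_glue (range_of_allRange c_p16_89) (range_glue (range_of_allRange c_p16_90) (range_glue (range_of_allRange c_p16_91) (range_glue (range_of_allRange c_p16_92) (range_glue (range_of_allRange c_p16_93) (range_glue (range_of_allRange c_p16_94) (range_glue (range_of_allRange c_p16_95) (range_glue (range_of_allRange c_p16_96) (range_glue (range_of_allRange c_p16_97) (range_glue (range_of_allRange c_p16_98) (range_glue (range_of_allRange c_p16_99) (range_glue (range_of_allRange c_p16_100) (range_glue (range_of_allRange c_p16_101) (range_glue (range_of_allRange c_p16_102) (range_glue (range_of_allRange c_p16_103) (range_glue (range_of_allRange c_p16_104) (range_glue (range_of_allRange c_p16_105) (range_glue (range_of_allRange c_p16_106) (range_glue (range_of_allRange c_p16_107) (range_glue (range_of_allRange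 c_p16_108) (range_glue (range_of_allRange c_p16_109) (range_glue (range_of_allRange c_p16_110) (range_glue (range_of_allRange c_p16_111) (range_glue (range_of_allRange c_p16_112) (range_glue (range_of_allRange c_p16_113) (range_glue (range_of_allRange c_p16_114) (range_glue (range_of_allRange c_p16_115) (range_glue (range_of_allRange c_p16_116) (range_glue (range_of_allRange c_p16_117) (range_glue (range_of_allRange c_p16_118) (range_of_allRange c_p16_119))))))))))))))))))))))))))))))))))))))))
theorem h_p16_p3 : ∀ p, 266640 ≤ p → p < 306936 → chk16 p = true :=
  (range_glue (range_of_allRange c_p16_120) (range_glue (range_of_allRange c_p16_121) (range_glue (range_of_allRange c_p16_122) (range_glue (range_of_allRange c_p16_123) (range_glue (range_of_allRange c_p16_124) (range_glue (range_of_allRange c_p16_125) (range_glue (range_of_allRange c_p16_126) (range_glue (range_of_allRange c_p16_127) (range_glue (range_of_allRange c_p16_128) (range_glue (range_of_allRange c_p16_129) (range_glue (range_of_allRange c_p16_130) (range_glue (range_of_allRange c_p16_131) (range_glue (range_of_allRange c_p16_132) (range_glue (range_of_allRange c_p16_133) (range_glue (range_of_allRange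 c_p16_134) (range_glue (range_of_allRange c_p16_135) (range_glue (range_of_allRange c_p16_136) (range_glue (range_of_allRange c_p16_137) (range_of_allRange c_p16_138)))))))))))))))))))
theorem h_p16 : ∀ p, 0 ≤ p → p < 306936 → chk16 p = true :=
  (range_glue h_p16_p0 (range_glue h_p16_p1 (range_glue h_p16_p2 h_p16_p3)))
theorem h_p17_p0 : ∀ p, 0 ≤ p → p < 72720 → chk17 p = true :=
  (range_glue (range_of_allRange c_p17_0) (range_glue (range_of_allRange c_p17_1) (range_glue (range_of_allRange c_p17_2) (range_glue (range_of_allRange c_p17_3) (range_glue (range_of_allRange c_p17_4) (range_glue (range_of_allRange c_p17_5) (range_glue (range_of_allRange c_p17_6) (range_glue (range_of_allRange c_p17_7) (range_glue (range_of_allRange c_p17_8) (range_glue (range_of_allRange c_p17_9) (range_glue (range_of_allRange c_p17_10) (range_glue (range_of_allRange c_p17_11) (range_glue (range_of_allRange c_p17_12) (range_glue (range_of_allRange c_p17_13) (range_glue (range_of_allRange c_p17_14) (range_glue (range_of_allRange c_p17_15) (range_glue (range_of_allRange c_p17_16) (range_glue (range_of_allRange c_p17_17) (range_glue (range_of_allRange c_p17_18) (range_glue (range_of_allRange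 c_p17_19) (range_glue (range_of_allRange c_p17_20) (range_glue (range_of_allRange c_p17_21) (range_glue (range_of_allRange c_p17_22) (range_glue (range_of_allRange c_p17_23) (range_glue (range_of_allRange c_p17_24) (range_glue (range_of_allRange c_p17_25) (range_glue (range_of_allRange c_p17_26) (range_glue (range_of_allRange c_p17_27) (range_glue (range_of_allRange c_p17_28) (range_glue (range_of_allRange c_p17_29) (range_glue (range_of_allRange c_p17_30) (range_glue (range_of_allRange c_p17_31) (range_glue (range_of_allRange c_p17_32) (range_glue (range_of_allRange c_p17_33) (range_glue (range_of_allRange c_p17_34) (range_glue (range_of_allRange c_p17_35) (range_glue (range_of_allRange c_p17_36) (range_glue (range_of_allRange c_p17_37) (range_glue (range_of_allRange c_p17_38) (range_of_allRange c_p17_39))))))))))))))))))))))))))))))))))))))))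
theorem h_p17_p1 : ∀ p, 72720 ≤ p → p < 145440 → chk17 p = true :=
  (range_glue (range_of_allRange c_p17_40) (range_glue (range_of_allRange c_p17_41) (range_glue (range_of_allRange c_p17_42) (range_glue (range_of_allRange c_p17_43) (range_glue (range_of_allRange c_p17_44) (range_glue (range_of_allRange c_p17_45) (range_glue (range_of_allRange c_p17_46) (range_glue (range_of_allRange c_p17_47) (range_glue (range_of_allRange c_p17_48) (range_glue (range_of_allRange c_p17_49) (range_glue (range_of_allRange c_p17_50) (range_glue (range_of_allRange c_p17_51) (range_glue (range_of_allRange c_p17_52) (range_glue (range_of_allRange c_p17_53) (range_glue (range_of_allRange c_p17_54) (range_glue (range_of_allRange c_p17_55) (range_glue (range_of_allRange c_p17_56) (range_glue (range_of_allRange c_p17_57) (range_glue (range_of_allRange c_p17_58) (range_glue (range_of_allRange c_p17_59) (range_glue (range_of_allRange c_p17_60) (range_glue (range_of_allRange c_p17_61) (range_glue (range_of_allRange c_p17_62) (range_glue (range_of_allRange c_p17_63) (range_glue (range_of_allRange c_p17_64) (range_glue (range_of_allRange c_p17_65) (range_glue (range_of_allRange c_p17_66) (range_glue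 (range_of_allRange c_p17_67) (range_glue (range_of_allRange c_p17_68) (range_glue (range_of_allRange c_p17_69) (range_glue (range_of_allRange c_p17_70) (range_glue (range_of_allRange c_p17_71) (range_glue (range_of_allRange c_p17_72) (range_glue (range_of_allRange c_p17_73) (range_glue (range_of_allRange c_p17_74) (range_glue (range_of_allRange c_p17_75) (range_glue (range_of_allRange c_p17_76) (range_glue (range_of_allRange c_p17_77) (range_glue (range_of_allRange c_p17_78) (range_of_allRange c_p17_79))))))))))))))))))))))))))))))))))))))))
theorem h_p17_p2 : ∀ p, 145440 ≤ p → p < 218160 → chk17 p = true :=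
  (range_glue (range_of_allRange c_p17_80) (range_glue (range_of_allRange c_p17_81) (range_glue (range_of_allRange c_p17_82) (range_glue (range_of_allRange c_p17_83) (range_glue (range_of_allRange c_p17_84) (range_glue (range_of_allRange c_p17_85) (range_glue (range_of_allRange c_p17_86) (range_glue (range_of_allRange c_p17_87) (range_glue (range_of_allRange c_p17_88) (range_glue (range_of_allRange c_p17_89) (range_glue (range_of_allRange c_p17_90) (range_glue (range_of_allRange c_p17_91) (range_glue (range_of_allRange c_p17_92) (range_glue (range_of_allRange c_p17_93) (range_glue (range_of_allRange c_p17_94) (range_glue (range_of_allRange c_p17_95) (range_glue (range_of_allRange c_p17_96) (range_glue (range_of_allRange c_p17_97) (range_glue (range_of_allRange c_p17_98) (range_glue (range_of_allRange c_p17_99) (range_glue (range_of_allRange c_p17_100) (range_glue (range_of_allRange c_p17_101) (range_glue (range_of_allRange c_p17_102) (range_glue (range_of_allRange c_p17_103) (range_glue (range_of_allRange c_p17_104) (range_glue (range_of_allRange c_p17_105) (range_glue (range_of_allRange c_p17_106) (range_glue (range_of_allRange c_p17_107) (range_glue (range_of_allRange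 c_p17_108) (range_glue (range_of_allRange c_p17_109) (range_glue (range_of_allRange c_p17_110) (range_glue (range_of_allRange c_p17_111) (range_glue (range_of_allRange c_p17_112) (range_glue (range_of_allRange c_p17_113) (range_glue (range_of_allRange c_p17_114) (range_glue (range_of_allRange c_p17_115) (range_glue (range_of_allRange c_p17_116) (range_glue (range_of_allRange c_p17_117) (range_glue (range_of_allRange c_p17_118) (range_of_allRange c_p17_119))))))))))))))))))))))))))))))))))))))))
theorem h_p17_p3 : ∀ p, 218160 ≤ p → p < 290880 → chk17 p = true :=
  (range_glue (range_of_allRange c_p17_120) (range_glue (range_of_allRange c_p17_121) (range_glue (range_of_allRange c_p17_122) (range_glue (range_of_allRange c_p17_123) (range_glue (range_of_allRange c_p17_124) (range_glue (range_of_allRange c_p17_125) (range_glue (range_of_allRange c_p17_126) (range_glue (range_of_allRange c_p17_127) (range_glue (range_of_allRange c_p17_128) (range_glue (range_of_allRange c_p17_129) (range_glue (range_of_allRange c_p17_130) (range_glue (range_of_allRange c_p17_131) (range_glue (range_of_allRange c_p17_132) (range_glue (range_of_allRange c_p17_133) (range_glue (range_of_allRange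 c_p17_134) (range_glue (range_of_allRange c_p17_135) (range_glue (range_of_allRange c_p17_136) (range_glue (range_of_allRange c_p17_137) (range_glue (range_of_allRange c_p17_138) (range_glue (range_of_allRange c_p17_139) (range_glue (range_of_allRange c_p17_140) (range_glue (range_of_allRange c_p17_141) (range_glue (range_of_allRange c_p17_142) (range_glue (range_of_allRange c_p17_143) (range_glue (range_of_allRange c_p17_144) (range_glue (range_of_allRange c_p17_145) (range_glue (range_of_allRange c_p17_146) (range_glue (range_of_allRange c_p17_147) (range_glue (range_of_allRange c_p17_148) (range_glue (range_of_allRange c_p17_149) (range_glue (range_of_allRange c_p17_150) (range_glue (range_of_allRange c_p17_151) (range_glue (range_of_allRange c_p17_152) (range_glue (range_of_allRange c_p17_153) (range_glue (range_of_allRange c_p17_154) (range_glue (range_of_allRange c_p17_155) (range_glue (range_of_allRange c_p17_156) (range_glue (range_of_allRange c_p17_157) (range_glue (range_of_allRange c_p17_158) (range_of_allRange c_p17_159))))))))))))))))))))))))))))))))))))))))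
theorem h_p17_p4 : ∀ p, 290880 ≤ p → p < 306936 → chk17 p = true :=
  (range_glue (range_of_allRange c_p17_160) (range_glue (range_of_allRange c_p17_161) (range_glue (range_of_allRange c_p17_162) (range_glue (range_of_allRange c_p17_163) (range_glue (range_of_allRange c_p17_164) (range_glue (range_of_allRange c_p17_165) (range_glue (range_of_allRange c_p17_166) (range_glue (range_of_allRange c_p17_167) (range_of_allRange c_p17_168)))))))))
theorem h_p17 : ∀ p, 0 ≤ p → p < 306936 → chk17 p = true :=
  (range_glue h_p17_p0 (range_glue h_p17_p1 (range_glue h_p17_p2 (range_glue h_p17_p3 h_p17_p4))))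
theorem h_p18_p0 : ∀ p, 0 ≤ p → p < 96000 → chk18 p = true :=
  (range_glue (range_of_allRange c_p18_0) (range_glue (range_of_allRange c_p18_1) (range_glue (range_of_allRange c_p18_2) (range_glue (range_of_allRange c_p18_3) (range_glue (range_of_allRange c_p18_4) (range_glue (range_of_allRange c_p18_5) (range_glue (range_of_allRange c_p18_6) (range_glue (range_of_allRange c_p18_7) (range_glue (range_of_allRange c_p18_8) (range_glue (range_of_allRange c_p18_9) (range_glue (range_of_allRange c_p18_10) (range_glue (range_of_allRange c_p18_11) (range_glue (range_of_allRange c_p18_12) (range_glue (range_of_allRange c_p18_13) (range_glue (range_of_allRange c_p18_14) (range_glue (range_of_allRange c_p18_15) (range_glue (range_of_allRange c_p18_16) (range_glue (range_of_allRange c_p18_17) (range_glue (range_of_allRange c_p18_18) (range_glue (range_of_allRange c_p18_19) (range_glue (range_of_allRange c_p18_20) (range_glue (range_of_allRange c_p18_21) (range_glue (range_of_allRange c_p18_22) (range_glue (range_of_allRange c_p18_23) (range_glue (range_of_allRange c_p18_24) (range_glue (range_of_allRange c_p18_25) (range_glue (range_of_allRange c_p18_26) (range_glue (range_of_allRange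 c_p18_27) (range_glue (range_of_allRange c_p18_28) (range_glue (range_of_allRange c_p18_29) (range_glue (range_of_allRange c_p18_30) (range_glue (range_of_allRange c_p18_31) (range_glue (range_of_allRange c_p18_32) (range_glue (range_of_allRange c_p18_33) (range_glue (range_of_allRange c_p18_34) (range_glue (range_of_allRange c_p18_35) (range_glue (range_of_allRange c_p18_36) (range_glue (range_of_allRange c_p18_37) (range_glue (range_of_allRange c_p18_38) (range_of_allRange c_p18_39))))))))))))))))))))))))))))))))))))))))
theorem h_p18_p1 : ∀ p, 96000 ≤ p → p < 192000 → chk18 p = true :=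
  (range_glue (range_of_allRange c_p18_40) (range_glue (range_of_allRange c_p18_41) (range_glue (range_of_allRange c_p18_42) (range_glue (range_of_allRange c_p18_43) (range_glue (range_of_allRange c_p18_44) (range_glue (range_of_allRange c_p18_45) (range_glue (range_of_allRange c_p18_46) (range_glue (range_of_allRange c_p18_47) (range_glue (range_of_allRange c_p18_48) (range_glue (range_of_allRange c_p18_49) (range_glue (range_of_allRange c_p18_50) (range_glue (range_of_allRange c_p18_51) (range_glue (range_of_allRange c_p18_52) (range_glue (range_of_allRange c_p18_53) (range_glue (range_of_allRange c_p18_54) (range_glue (range_of_allRange c_p18_55) (range_glue (range_of_allRange c_p18_56) (range_glue (range_of_allRange c_p18_57) (range_glue (range_of_allRange c_p18_58) (range_glue (range_of_allRange c_p18_59) (range_glue (range_of_allRange c_p18_60) (range_glue (range_of_allRange c_p18_61) (range_glue (range_of_allRange c_p18_62) (range_glue (range_of_allRange c_p18_63) (range_glue (range_of_allRange c_p18_64) (range_glue (range_of_allRange c_p18_65) (range_glue (range_of_allRange c_p18_66) (range_glue (range_of_allRange c_p18_67) (range_glue (range_of_allRange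 c_p18_68) (range_glue (range_of_allRange c_p18_69) (range_glue (range_of_allRange c_p18_70) (range_glue (range_of_allRange c_p18_71) (range_glue (range_of_allRange c_p18_72) (range_glue (range_of_allRange c_p18_73) (range_glue (range_of_allRange c_p18_74) (range_glue (range_of_allRange c_p18_75) (range_glue (range_of_allRange c_p18_76) (range_glue (range_of_allRange c_p18_77) (range_glue (range_of_allRange c_p18_78) (range_of_allRange c_p18_79))))))))))))))))))))))))))))))))))))))))
theorem h_p18_p2 : ∀ p, 192000 ≤ p → p < 288000 → chk18 p = true :=
  (range_glue (range_of_allRange c_p18_80) (range_glue (range_of_allRange c_p18_81) (range_glue (range_of_allRange c_p18_82) (range_glue (range_of_allRange c_p18_83) (range_glue (range_of_allRange c_p18_84) (range_glue (range_of_allRange c_p18_85) (range_glue (range_of_allRange c_p18_86) (range_glue (range_of_allRange c_p18_87) (range_glue (range_of_allRange c_p18_88) (range_glue (range_of_allRange c_p18_89) (range_glue (range_of_allRange c_p18_90) (range_glue (range_of_allRange c_p18_91) (range_glue (range_of_allRange c_p18_92) (range_glue (range_of_allRange c_p18_93) (range_glue (range_of_allRange c_p18_94) (range_glue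 (range_of_allRange c_p18_95) (range_glue (range_of_allRange c_p18_96) (range_glue (range_of_allRange c_p18_97) (range_glue (range_of_allRange c_p18_98) (range_glue (range_of_allRange c_p18_99) (range_glue (range_of_allRange c_p18_100) (range_glue (range_of_allRange c_p18_101) (range_glue (range_of_allRange c_p18_102) (range_glue (range_of_allRange c_p18_103) (range_glue (range_of_allRange c_p18_104) (range_glue (range_of_allRange c_p18_105) (range_glue (range_of_allRange c_p18_106) (range_glue (range_of_allRange c_p18_107) (range_glue (range_of_allRange c_p18_108) (range_glue (range_of_allRange c_p18_109) (range_glue (range_of_allRange c_p18_110) (range_glue (range_of_allRange c_p18_111) (range_glue (range_of_allRange c_p18_112) (range_glue (range_of_allRange c_p18_113) (range_glue (range_of_allRange c_p18_114) (range_glue (range_of_allRange c_p18_115) (range_glue (range_of_allRange c_p18_116) (range_glue (range_of_allRange c_p18_117) (range_glue (range_of_allRange c_p18_118) (range_of_allRange c_p18_119))))))))))))))))))))))))))))))))))))))))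
theorem h_p18_p3 : ∀ p, 288000 ≤ p → p < 306936 → chk18 p = true :=
  (range_glue (range_of_allRange c_p18_120) (range_glue (range_of_allRange c_p18_121) (range_glue (range_of_allRange c_p18_122) (range_glue (range_of_allRange c_p18_123) (range_glue (range_of_allRange c_p18_124) (range_glue (range_of_allRange c_p18_125) (range_glue (range_of_allRange c_p18_126) (range_of_allRange c_p18_127))))))))
theorem h_p18 : ∀ p, 0 ≤ p → p < 306936 → chk18 p = true :=
  (range_glue h_p18_p0 (range_glue h_p18_p1 (range_glue h_p18_p2 h_p18_p3)))
theorem h_p19_p0 : ∀ p, 0 ≤ p → p < 100000 → chk19 p = true :=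
  (range_glue (range_of_allRange c_p19_0) (range_glue (range_of_allRange c_p19_1) (range_glue (range_of_allRange c_p19_2) (range_glue (range_of_allRange c_p19_3) (range_glue (range_of_allRange c_p19_4) (range_glue (range_of_allRange c_p19_5) (range_glue (range_of_allRange c_p19_6) (range_glue (range_of_allRange c_p19_7) (range_glue (range_of_allRange c_p19_8) (range_glue (range_of_allRange c_p19_9) (range_glue (range_of_allRange c_p19_10) (range_glue (range_of_allRange c_p19_11) (range_glue (range_of_allRange c_p19_12) (range_glue (range_of_allRange c_p19_13) (range_glue (range_of_allRange c_p19_14) (range_glue (range_of_allRange c_p19_15) (range_glue (range_of_allRange c_p19_16) (range_glue (range_of_allRange c_p19_17) (range_glue (range_of_allRange c_p19_18) (range_glue (range_of_allRange c_p19_19) (range_glue (range_of_allRange c_p19_20) (range_glue (range_of_allRange c_p19_21) (range_glue (range_of_allRange c_p19_22) (range_glue (range_of_allRange c_p19_23) (range_glue (range_of_allRange c_p19_24) (range_glue (range_of_allRange c_p19_25) (range_glue (range_of_allRange c_p19_26) (range_glue (range_of_allRange c_p19_27) (range_glue (range_of_allRange c_p19_28)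 (range_glue (range_of_allRange c_p19_29) (range_glue (range_of_allRange c_p19_30) (range_glue (range_of_allRange c_p19_31) (range_glue (range_of_allRange c_p19_32) (range_glue (range_of_allRange c_p19_33) (range_glue (range_of_allRange c_p19_34) (range_glue (range_of_allRange c_p19_35) (range_glue (range_of_allRange c_p19_36) (range_glue (range_of_allRange c_p19_37) (range_glue (range_of_allRange c_p19_38) (range_of_allRange c_p19_39))))))))))))))))))))))))))))))))))))))))
theorem h_p19_p1 : ∀ p, 100000 ≤ p → p < 200000 → chk19 p = true :=
  (range_glue (range_of_allRange c_p19_40) (range_glue (range_of_allRange c_p19_41) (range_glue (range_of_allRange c_p19_42) (range_glue (range_of_allRange c_p19_43) (range_glue (range_of_allRange c_p19_44) (range_glue (range_of_allRange c_p19_45) (range_glue (range_of_allRange c_p19_46) (range_glue (range_of_allRange c_p19_47) (range_glue (range_of_allRange c_p19_48) (range_glue (range_of_allRange c_p19_49) (range_glue (range_of_allRange c_p19_50) (range_glue (range_of_allRange c_p19_51) (range_glue (range_of_allRange c_p19_52) (range_glue (range_of_allRange c_p19_53) (range_glue (range_of_allRange c_p19_54) (range_glue (range_of_allRange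 c_p19_55) (range_glue (range_of_allRange c_p19_56) (range_glue (range_of_allRange c_p19_57) (range_glue (range_of_allRange c_p19_58) (range_glue (range_of_allRange c_p19_59) (range_glue (range_of_allRange c_p19_60) (range_glue (range_of_allRange c_p19_61) (range_glue (range_of_allRange c_p19_62) (range_glue (range_of_allRange c_p19_63) (range_glue (range_of_allRange c_p19_64) (range_glue (range_of_allRange c_p19_65) (range_glue (range_of_allRange c_p19_66) (range_glue (range_of_allRange c_p19_67) (range_glue (range_of_allRange c_p19_68) (range_glue (range_of_allRange c_p19_69) (range_glue (range_of_allRange c_p19_70) (range_glue (range_of_allRange c_p19_71) (range_glue (range_of_allRange c_p19_72) (range_glue (range_of_allRange c_p19_73) (range_glue (range_of_allRange c_p19_74) (range_glue (range_of_allRange c_p19_75) (range_glue (range_of_allRange c_p19_76) (range_glue (range_of_allRange c_p19_77) (range_glue (range_of_allRange c_p19_78) (range_of_allRange c_p19_79))))))))))))))))))))))))))))))))))))))))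
theorem h_p19_p2 : ∀ p, 200000 ≤ p → p < 300000 → chk19 p = true :=
  (range_glue (range_of_allRange c_p19_80) (range_glue (range_of_allRange c_p19_81) (range_glue (range_of_allRange c_p19_82) (range_glue (range_of_allRange c_p19_83) (range_glue (range_of_allRange c_p19_84) (range_glue (range_of_allRange c_p19_85) (range_glue (range_of_allRange c_p19_86) (range_glue (range_of_allRange c_p19_87) (range_glue (range_of_allRange c_p19_88) (range_glue (range_of_allRange c_p19_89) (range_glue (range_of_allRange c_p19_90) (range_glue (range_of_allRange c_p19_91) (range_glue (range_of_allRange c_p19_92) (range_glue (range_of_allRange c_p19_93) (range_glue (range_of_allRange c_p19_94) (range_glue (range_of_allRange c_p19_95) (range_glue (range_of_allRange c_p19_96) (range_glue (range_of_allRange c_p19_97) (range_glue (range_of_allRange c_p19_98) (range_glue (range_of_allRange c_p19_99) (range_glue (range_of_allRange c_p19_100) (range_glue (range_of_allRange c_p19_101) (range_glue (range_of_allRange c_p19_102) (range_glue (range_of_allRange c_p19_103) (range_glue (range_of_allRange c_p19_104) (range_glue (range_of_allRange c_p19_105) (range_glue (range_of_allRange c_p19_106)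 (range_glue (range_of_allRange c_p19_107) (range_glue (range_of_allRange c_p19_108) (range_glue (range_of_allRange c_p19_109) (range_glue (range_of_allRange c_p19_110) (range_glue (range_of_allRange c_p19_111) (range_glue (range_of_allRange c_p19_112) (range_glue (range_of_allRange c_p19_113) (range_glue (range_of_allRange c_p19_114) (range_glue (range_of_allRange c_p19_115) (range_glue (range_of_allRange c_p19_116) (range_glue (range_of_allRange c_p19_117) (range_glue (range_of_allRange c_p19_118) (range_of_allRange c_p19_119))))))))))))))))))))))))))))))))))))))))
theorem h_p19_p3 : ∀ p, 300000 ≤ p → p < 306936 → chk19 p = true :=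
  (range_glue (range_of_allRange c_p19_120) (range_glue (range_of_allRange c_p19_121) (range_of_allRange c_p19_122)))
theorem h_p19 : ∀ p, 0 ≤ p → p < 306936 → chk19 p = true :=
  (range_glue h_p19_p0 (range_glue h_p19_p1 (range_glue h_p19_p2 h_p19_p3)))
theorem h_p20_p0 : ∀ p, 0 ≤ p → p < 61520 → chk20 p = true :=
  (range_glue (range_of_allRange c_p20_0) (range_glue (range_of_allRange c_p20_1) (range_glue (range_of_allRange c_p20_2) (range_glue (range_of_allRange c_p20_3) (range_glue (range_of_allRange c_p20_4) (range_glue (range_of_allRange c_p20_5) (range_glue (range_of_allRange c_p20_6) (range_glue (range_of_allRange c_p20_7) (range_glue (range_of_allRange c_p20_8) (range_glue (range_of_allRange c_p20_9) (range_glue (range_of_allRange c_p20_10) (range_glue (range_of_allRange c_p20_11) (range_glue (range_of_allRange c_p20_12) (range_glue (range_of_allRange c_p20_13) (range_glue (range_of_allRange c_p20_14) (range_glue (range_of_allRange c_p20_15) (range_glue (range_of_allRange c_p20_16) (range_glue (range_of_allRange c_p20_17) (range_glue (range_of_allRange c_p20_18) (range_glue (range_of_allRange c_p20_19) (range_glue (range_of_allRange c_p20_20) (range_glue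 (range_of_allRange c_p20_21) (range_glue (range_of_allRange c_p20_22) (range_glue (range_of_allRange c_p20_23) (range_glue (range_of_allRange c_p20_24) (range_glue (range_of_allRange c_p20_25) (range_glue (range_of_allRange c_p20_26) (range_glue (range_of_allRange c_p20_27) (range_glue (range_of_allRange c_p20_28) (range_glue (range_of_allRange c_p20_29) (range_glue (range_of_allRange c_p20_30) (range_glue (range_of_allRange c_p20_31) (range_glue (range_of_allRange c_p20_32) (range_glue (range_of_allRange c_p20_33) (range_glue (range_of_allRange c_p20_34) (range_glue (range_of_allRange c_p20_35) (range_glue (range_of_allRange c_p20_36) (range_glue (range_of_allRange c_p20_37) (range_glue (range_of_allRange c_p20_38) (range_of_allRange c_p20_39))))))))))))))))))))))))))))))))))))))))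
theorem h_p20_p1 : ∀ p, 61520 ≤ p → p < 123040 → chk20 p = true :=
  (range_glue (range_of_allRange c_p20_40) (range_glue (range_of_allRange c_p20_41) (range_glue (range_of_allRange c_p20_42) (range_glue (range_of_allRange c_p20_43) (range_glue (range_of_allRange c_p20_44) (range_glue (range_of_allRange c_p20_45) (range_glue (range_of_allRange c_p20_46) (range_glue (range_of_allRange c_p20_47) (range_glue (range_of_allRange c_p20_48) (range_glue (range_of_allRange c_p20_49) (range_glue (range_of_allRange c_p20_50) (range_glue (range_of_allRange c_p20_51) (range_glue (range_of_allRange c_p20_52) (range_glue (range_of_allRange c_p20_53) (range_glue (range_of_allRange c_p20_54) (range_glue (range_of_allRange c_p20_55) (range_glue (range_of_allRange c_p20_56) (range_glue (range_of_allRange c_p20_57) (range_glue (range_of_allRange c_p20_58) (range_glue (range_of_allRange c_p20_59) (range_glue (range_of_allRange c_p20_60) (range_glue (range_of_allRange c_p20_61) (range_glue (range_of_allRange c_p20_62) (range_glue (range_of_allRange c_p20_63) (range_glue (range_of_allRange c_p20_64) (range_glue (range_of_allRange c_p20_65) (range_glue (range_of_allRange c_p20_66) (range_glue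 (range_of_allRange c_p20_67) (range_glue (range_of_allRange c_p20_68) (range_glue (range_of_allRange c_p20_69) (range_glue (range_of_allRange c_p20_70) (range_glue (range_of_allRange c_p20_71) (range_glue (range_of_allRange c_p20_72) (range_glue (range_of_allRange c_p20_73) (range_glue (range_of_allRange c_p20_74) (range_glue (range_of_allRange c_p20_75) (range_glue (range_of_allRange c_p20_76) (range_glue (range_of_allRange c_p20_77) (range_glue (range_of_allRange c_p20_78) (range_of_allRange c_p20_79))))))))))))))))))))))))))))))))))))))))
theorem h_p20_p2 : ∀ p, 123040 ≤ p → p < 184560 → chk20 p = true :=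
  (range_glue (range_of_allRange c_p20_80) (range_glue (range_of_allRange c_p20_81) (range_glue (range_of_allRange c_p20_82) (range_glue (range_of_allRange c_p20_83) (range_glue (range_of_allRange c_p20_84) (range_glue (range_of_allRange c_p20_85) (range_glue (range_of_allRange c_p20_86) (range_glue (range_of_allRange c_p20_87) (range_glue (range_of_allRange c_p20_88) (range_glue (range_of_allRange c_p20_89) (range_glue (range_of_allRange c_p20_90) (range_glue (range_of_allRange c_p20_91) (range_glue (range_of_allRange c_p20_92) (range_glue (range_of_allRange c_p20_93) (range_glue (range_of_allRange c_p20_94) (range_glue (range_of_allRange c_p20_95) (range_glue (range_of_allRange c_p20_96) (range_glue (range_of_allRange c_p20_97) (range_glue (range_of_allRange c_p20_98) (range_glue (range_of_allRange c_p20_99) (range_glue (range_of_allRange c_p20_100) (range_glue (range_of_allRange c_p20_101) (range_glue (range_of_allRange c_p20_102) (range_glue (range_of_allRange c_p20_103) (range_glue (range_of_allRange c_p20_104) (range_glue (range_of_allRange c_p20_105) (range_glue (range_of_allRange c_p20_106) (range_glue (range_of_allRange c_p20_107) (range_glue (range_of_allRange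 c_p20_108) (range_glue (range_of_allRange c_p20_109) (range_glue (range_of_allRange c_p20_110) (range_glue (range_of_allRange c_p20_111) (range_glue (range_of_allRange c_p20_112) (range_glue (range_of_allRange c_p20_113) (range_glue (range_of_allRange c_p20_114) (range_glue (range_of_allRange c_p20_115) (range_glue (range_of_allRange c_p20_116) (range_glue (range_of_allRange c_p20_117) (range_glue (range_of_allRange c_p20_118) (range_of_allRange c_p20_119))))))))))))))))))))))))))))))))))))))))
theorem h_p20_p3 : ∀ p, 184560 ≤ p → p < 246080 → chk20 p = true :=
  (range_glue (range_of_allRange c_p20_120) (range_glue (range_of_allRange c_p20_121) (range_glue (range_of_allRange c_p20_122) (range_glue (range_of_allRange c_p20_123) (range_glue (range_of_allRange c_p20_124) (range_glue (range_of_allRange c_p20_125) (range_glue (range_of_allRange c_p20_126) (range_glue (range_of_allRange c_p20_127) (range_glue (range_of_allRange c_p20_128) (range_glue (range_of_allRange c_p20_129) (range_glue (range_of_allRange c_p20_130) (range_glue (range_of_allRange c_p20_131) (range_glue (range_of_allRange c_p20_132) (range_glue (range_of_allRange c_p20_133) (range_glue (range_of_allRange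 c_p20_134) (range_glue (range_of_allRange c_p20_135) (range_glue (range_of_allRange c_p20_136) (range_glue (range_of_allRange c_p20_137) (range_glue (range_of_allRange c_p20_138) (range_glue (range_of_allRange c_p20_139) (range_glue (range_of_allRange c_p20_140) (range_glue (range_of_allRange c_p20_141) (range_glue (range_of_allRange c_p20_142) (range_glue (range_of_allRange c_p20_143) (range_glue (range_of_allRange c_p20_144) (range_glue (range_of_allRange c_p20_145) (range_glue (range_of_allRange c_p20_146) (range_glue (range_of_allRange c_p20_147) (range_glue (range_of_allRange c_p20_148) (range_glue (range_of_allRange c_p20_149) (range_glue (range_of_allRange c_p20_150) (range_glue (range_of_allRange c_p20_151) (range_glue (range_of_allRange c_p20_152) (range_glue (range_of_allRange c_p20_153) (range_glue (range_of_allRange c_p20_154) (range_glue (range_of_allRange c_p20_155) (range_glue (range_of_allRange c_p20_156) (range_glue (range_of_allRange c_p20_157) (range_glue (range_of_allRange c_p20_158) (range_of_allRange c_p20_159))))))))))))))))))))))))))))))))))))))))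
theorem h_p20_p4 : ∀ p, 246080 ≤ p → p < 306936 → chk20 p = true :=
  (range_glue (range_of_allRange c_p20_160) (range_glue (range_of_allRange c_p20_161) (range_glue (range_of_allRange c_p20_162) (range_glue (range_of_allRange c_p20_163) (range_glue (range_of_allRange c_p20_164) (range_glue (range_of_allRange c_p20_165) (range_glue (range_of_allRange c_p20_166) (range_glue (range_of_allRange c_p20_167) (range_glue (range_of_allRange c_p20_168) (range_glue (range_of_allRange c_p20_169) (range_glue (range_of_allRange c_p20_170) (range_glue (range_of_allRange c_p20_171) (range_glue (range_of_allRange c_p20_172) (range_glue (range_of_allRange c_p20_173) (range_glue (range_of_allRange c_p20_174) (range_glue (range_of_allRange c_p20_175) (range_glue (range_of_allRange c_p20_176) (range_glue (range_of_allRange c_p20_177) (range_glue (range_of_allRange c_p20_178) (range_glue (range_of_allRange c_p20_179) (range_glue (range_of_allRange c_p20_180) (range_glue (range_of_allRange c_p20_181) (range_glue (range_of_allRange c_p20_182) (range_glue (range_of_allRange c_p20_183) (range_glue (range_of_allRange c_p20_184) (range_glue (range_of_allRange c_p20_185) (range_glue (range_of_allRange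 c_p20_186) (range_glue (range_of_allRange c_p20_187) (range_glue (range_of_allRange c_p20_188) (range_glue (range_of_allRange c_p20_189) (range_glue (range_of_allRange c_p20_190) (range_glue (range_of_allRange c_p20_191) (range_glue (range_of_allRange c_p20_192) (range_glue (range_of_allRange c_p20_193) (range_glue (range_of_allRange c_p20_194) (range_glue (range_of_allRange c_p20_195) (range_glue (range_of_allRange c_p20_196) (range_glue (range_of_allRange c_p20_197) (range_glue (range_of_allRange c_p20_198) (range_of_allRange c_p20_199))))))))))))))))))))))))))))))))))))))))
theorem h_p20 : ∀ p, 0 ≤ p → p < 306936 → chk20 p = true :=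
  (range_glue h_p20_p0 (range_glue h_p20_p1 (range_glue h_p20_p2 (range_glue h_p20_p3 h_p20_p4))))
theorem h_p21 : ∀ p, 0 ≤ p → p < 306936 → chk21 p = true :=
  (range_glue (range_of_allRange c_p21_0) (range_glue (range_of_allRange c_p21_1) (range_glue (range_of_allRange c_p21_2) (range_glue (range_of_allRange c_p21_3) (range_glue (range_of_allRange c_p21_4) (range_glue (range_of_allRange c_p21_5) (range_glue (range_of_allRange c_p21_6) (range_glue (range_of_allRange c_p21_7) (range_glue (range_of_allRange c_p21_8) (range_glue (range_of_allRange c_p21_9) (range_glue (range_of_allRange c_p21_10) (range_glue (range_of_allRange c_p21_11) (range_glue (range_of_allRange c_p21_12) (range_glue (range_of_allRange c_p21_13) (range_glue (range_of_allRange c_p21_14) (range_glue (range_of_allRange c_p21_15) (range_glue (range_of_allRange c_p21_16) (range_glue (range_of_allRange c_p21_17) (range_glue (range_of_allRange c_p21_18) (range_glue (range_of_allRange c_p21_19) (range_of_allRange c_p21_20)))))))))))))))))))))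
theorem h_p22_p0 : ∀ p, 0 ≤ p → p < 300000 → chk22 p = true :=
  (range_glue (range_of_allRange c_p22_0) (range_glue (range_of_allRange c_p22_1) (range_glue (range_of_allRange c_p22_2) (range_glue (range_of_allRange c_p22_3) (range_glue (range_of_allRange c_p22_4) (range_glue (range_of_allRange c_p22_5) (range_glue (range_of_allRange c_p22_6) (range_glue (range_of_allRange c_p22_7) (range_glue (range_of_allRange c_p22_8) (range_glue (range_of_allRange c_p22_9) (range_glue (range_of_allRange c_p22_10) (range_glue (range_of_allRange c_p22_11) (range_glue (range_of_allRange c_p22_12) (range_glue (range_of_allRange c_p22_13) (range_glue (range_of_allRange c_p22_14) (range_glue (range_of_allRange c_p22_15) (range_glue (range_of_allRange c_p22_16) (range_glue (range_of_allRange c_p22_17) (range_glue (range_of_allRange c_p22_18) (range_glue (range_of_allRange c_p22_19) (range_glue (range_of_allRange c_p22_20) (range_glue (range_of_allRange c_p22_21) (range_glue (range_of_allRange c_p22_22) (range_glue (range_of_allRange c_p22_23) (range_glue (range_of_allRange c_p22_24) (range_glue (range_of_allRange c_p22_25) (range_glue (range_of_allRange c_p22_26) (range_glue (range_of_allRange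 c_p22_27) (range_glue (range_of_allRange c_p22_28) (range_glue (range_of_allRange c_p22_29) (range_glue (range_of_allRange c_p22_30) (range_glue (range_of_allRange c_p22_31) (range_glue (range_of_allRange c_p22_32) (range_glue (range_of_allRange c_p22_33) (range_glue (range_of_allRange c_p22_34) (range_glue (range_of_allRange c_p22_35) (range_glue (range_of_allRange c_p22_36) (range_glue (range_of_allRange c_p22_37) (range_glue (range_of_allRange c_p22_38) (range_of_allRange c_p22_39))))))))))))))))))))))))))))))))))))))))
theorem h_p22_p1 : ∀ p, 300000 ≤ p → p < 306936 → chk22 p = true :=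
  (range_of_allRange c_p22_40)
theorem h_p22 : ∀ p, 0 ≤ p → p < 306936 → chk22 p = true :=
  (range_glue h_p22_p0 h_p22_p1)
theorem h_p23_p0 : ∀ p, 0 ≤ p → p < 300000 → chk23 p = true :=
  (range_glue (range_of_allRange c_p23_0) (range_glue (range_of_allRange c_p23_1) (range_glue (range_of_allRange c_p23_2) (range_glue (range_of_allRange c_p23_3) (range_glue (range_of_allRange c_p23_4) (range_glue (range_of_allRange c_p23_5) (range_glue (range_of_allRange c_p23_6) (range_glue (range_of_allRange c_p23_7) (range_glue (range_of_allRange c_p23_8) (range_glue (range_of_allRange c_p23_9) (range_glue (range_of_allRange c_p23_10) (range_glue (range_of_allRange c_p23_11) (range_glue (range_of_allRange c_p23_12) (range_glue (range_of_allRange c_p23_13) (range_glue (range_of_allRange c_p23_14) (range_glue (range_of_allRange c_p23_15) (range_glue (range_of_allRange c_p23_16) (range_glue (range_of_allRange c_p23_17) (range_glue (range_of_allRange c_p23_18) (range_glue (range_of_allRange c_p23_19) (range_glue (range_of_allRange c_p23_20) (range_glue (range_of_allRange c_p23_21) (range_glue (range_of_allRange c_p23_22) (range_glue (range_of_allRange c_p23_23) (range_glue (range_of_allRange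 c_p23_24) (range_glue (range_of_allRange c_p23_25) (range_glue (range_of_allRange c_p23_26) (range_glue (range_of_allRange c_p23_27) (range_glue (range_of_allRange c_p23_28) (range_glue (range_of_allRange c_p23_29) (range_glue (range_of_allRange c_p23_30) (range_glue (range_of_allRange c_p23_31) (range_glue (range_of_allRange c_p23_32) (range_glue (range_of_allRange c_p23_33) (range_glue (range_of_allRange c_p23_34) (range_glue (range_of_allRange c_p23_35) (range_glue (range_of_allRange c_p23_36) (range_glue (range_of_allRange c_p23_37) (range_glue (range_of_allRange c_p23_38) (range_of_allRange c_p23_39))))))))))))))))))))))))))))))))))))))))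
theorem h_p23_p1 : ∀ p, 300000 ≤ p → p < 306936 → chk23 p = true :=
  (range_of_allRange c_p23_40)
theorem h_p23 : ∀ p, 0 ≤ p → p < 306936 → chk23 p = true :=
  (range_glue h_p23_p0 h_p23_p1)
theorem h_nd0_p0 : ∀ idx, 0 ≤ idx → idx < 200000 → S.nodeOK 0 idx = true :=
  (range_glue (range_of_allRange c_nd0_0) (range_glue (range_of_allRange c_nd0_1) (range_glue (range_of_allRange c_nd0_2) (range_glue (range_of_allRange c_nd0_3) (range_glue (range_of_allRange c_nd0_4) (range_glue (range_of_allRange c_nd0_5) (range_glue (range_of_allRange c_nd0_6) (range_glue (range_of_allRange c_nd0_7) (range_glue (range_of_allRange c_nd0_8) (range_glue (range_of_allRange c_nd0_9) (range_glue (range_of_allRange c_nd0_10) (range_glue (range_of_allRange c_nd0_11) (range_glue (range_of_allRange c_nd0_12) (range_glue (range_of_allRange c_nd0_13) (range_glue (range_of_allRange c_nd0_14) (range_glue (range_of_allRange c_nd0_15) (range_glue (range_of_allRange c_nd0_16) (range_glue (range_of_allRange c_nd0_17) (range_glue (range_of_allRange c_nd0_18) (range_glue (range_of_allRange c_nd0_19) (range_glue (range_of_allRange c_nd0_20) (range_glue (range_of_allRange c_nd0_21) (range_glue (range_of_allRange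 c_nd0_22) (range_glue (range_of_allRange c_nd0_23) (range_glue (range_of_allRange c_nd0_24) (range_glue (range_of_allRange c_nd0_25) (range_glue (range_of_allRange c_nd0_26) (range_glue (range_of_allRange c_nd0_27) (range_glue (range_of_allRange c_nd0_28) (range_glue (range_of_allRange c_nd0_29) (range_glue (range_of_allRange c_nd0_30) (range_glue (range_of_allRange c_nd0_31) (range_glue (range_of_allRange c_nd0_32) (range_glue (range_of_allRange c_nd0_33) (range_glue (range_of_allRange c_nd0_34) (range_glue (range_of_allRange c_nd0_35) (range_glue (range_of_allRange c_nd0_36) (range_glue (range_of_allRange c_nd0_37) (range_glue (range_of_allRange c_nd0_38) (range_of_allRange c_nd0_39))))))))))))))))))))))))))))))))))))))))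
theorem h_nd0_p1 : ∀ idx, 200000 ≤ idx → idx < 306936 → S.nodeOK 0 idx = true :=
  (range_glue (range_of_allRange c_nd0_40) (range_glue (range_of_allRange c_nd0_41) (range_glue (range_of_allRange c_nd0_42) (range_glue (range_of_allRange c_nd0_43) (range_glue (range_of_allRange c_nd0_44) (range_glue (range_of_allRange c_nd0_45) (range_glue (range_of_allRange c_nd0_46) (range_glue (range_of_allRange c_nd0_47) (range_glue (range_of_allRange c_nd0_48) (range_glue (range_of_allRange c_nd0_49) (range_glue (range_of_allRange c_nd0_50) (range_glue (range_of_allRange c_nd0_51) (range_glue (range_of_allRange c_nd0_52) (range_glue (range_of_allRange c_nd0_53) (range_glue (range_of_allRange c_nd0_54) (range_glue (range_of_allRange c_nd0_55) (range_glue (range_of_allRange c_nd0_56) (range_glue (range_of_allRange c_nd0_57) (range_glue (range_of_allRange c_nd0_58) (range_glue (range_of_allRange c_nd0_59) (range_glue (range_of_allRange c_nd0_60) (range_of_allRange c_nd0_61))))))))))))))))))))))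
theorem h_nd0 : ∀ idx, 0 ≤ idx → idx < 306936 → S.nodeOK 0 idx = true :=
  (range_glue h_nd0_p0 h_nd0_p1)
theorem h_nd1 : ∀ idx, 0 ≤ idx → idx < 31671 → S.nodeOK 1 idx = true :=
  (range_glue (range_of_allRange c_nd1_0) (range_glue (range_of_allRange c_nd1_1) (range_glue (range_of_allRange c_nd1_2) (range_glue (range_of_allRange c_nd1_3) (range_glue (range_of_allRange c_nd1_4) (range_glue (range_of_allRange c_nd1_5) (range_of_allRange c_nd1_6)))))))
theorem h_nd2 : ∀ idx, 0 ≤ idx → idx < 3510 → S.nodeOK 2 idx = true :=
  (range_of_allRange c_nd2_0)
theorem h_nd3 : ∀ idx, 0 ≤ idx → idx < 25344 → S.nodeOK 3 idx = true :=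
  (range_glue (range_of_allRange c_nd3_0) (range_glue (range_of_allRange c_nd3_1) (range_glue (range_of_allRange c_nd3_2) (range_glue (range_of_allRange c_nd3_3) (range_glue (range_of_allRange c_nd3_4) (range_of_allRange c_nd3_5))))))
theorem h_nd4 : ∀ idx, 0 ≤ idx → idx < 672 → S.nodeOK 4 idx = true :=
  (range_of_allRange c_nd4_0)
theorem h_nd5 : ∀ idx, 0 ≤ idx → idx < 20 → S.nodeOK 5 idx = true :=
  (range_of_allRange c_nd5_0)
theorem h_nd6 : ∀ idx, 0 ≤ idx → idx < 3 → S.nodeOK 6 idx = true :=
  (range_of_allRange c_nd6_0)
theorem h_nd7 : ∀ idx, 0 ≤ idx → idx < 3 → S.nodeOK 7 idx = true :=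
  (range_of_allRange c_nd7_0)
theorem h_nd8 : ∀ idx, 0 ≤ idx → idx < 2 → S.nodeOK 8 idx = true :=
  (range_of_allRange c_nd8_0)
theorem h_nd9 : ∀ idx, 0 ≤ idx → idx < 3 → S.nodeOK 9 idx = true :=
  (range_of_allRange c_nd9_0)
theorem h_nd10 : ∀ idx, 0 ≤ idx → idx < 2 → S.nodeOK 10 idx = true :=
  (range_of_allRange c_nd10_0)
theorem h_nd11 : ∀ idx, 0 ≤ idx → idx < 2 → S.nodeOK 11 idx = true :=
  (range_of_allRange c_nd11_0)

theorem ok : S.OK where
  hkm := by decide
  hperm := by
    intro i p h1 h2 hp
    have h1 : 12 ≤ i := h1
    have h2 : i < 24 := h2
    have hp : p < 306936 := hp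
    interval_cases i
    · rw [← chk12_eq]; exact h_p12 p (Nat.zero_le _) hp
    · rw [← chk13_eq]; exact h_p13 p (Nat.zero_le _) hp
    · rw [← chk14_eq]; exact h_p14 p (Nat.zero_le _) hp
    · rw [← chk15_eq]; exact h_p15 p (Nat.zero_le _) hp
    · rw [← chk16_eq]; exact h_p16 p (Nat.zero_le _) hp
    · rw [← chk17_eq]; exact h_p17 p (Nat.zero_le _) hp
    · rw [← chk18_eq]; exact h_p18 p (Nat.zero_le _) hp
    · rw [← chk19_eq]; exact h_p19 p (Nat.zero_le _) hp
    · rw [← chk20_eq]; exact h_p20 p (Nat.zero_le _) hp
    · rw [← chk21_eq]; exact h_p21 p (Nat.zero_le _) hp
    · rw [← chk22_eq]; exact h_p22 p (Nat.zero_le _) hp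
    · rw [← chk23_eq]; exact h_p23 p (Nat.zero_le _) hp
  hwords := fun i h1 h2 => range_of_allRange c_words i h1 h2
  hfix := fun i t hi ht => range_of_allGrid c_fix i (Nat.zero_le _) (by have h : i < 24 := hi; omega) t ht
  hroot := fun j hj => ble_succ (allBelow_eq_true.1 c_root j hj)
  hnode := by
    intro j idx hj hidx
    have hj : j < 12 := hj
    interval_cases j
    · rw [c_n0] at hidx; exact h_nd0 idx (Nat.zero_le _) hidx
    · rw [c_n1] at hidx; exact h_nd1 idx (Nat.zero_le _) hidx
    · rw [c_n2] at hidx; exact h_nd2 idx (Nat.zero_le _) hidx
    · rw [c_n3] at hidx; exact h_nd3 idx (Nat.zero_le _) hidx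
    · rw [c_n4] at hidx; exact h_nd4 idx (Nat.zero_le _) hidx
    · rw [c_n5] at hidx; exact h_nd5 idx (Nat.zero_le _) hidx
    · rw [c_n6] at hidx; exact h_nd6 idx (Nat.zero_le _) hidx
    · rw [c_n7] at hidx; exact h_nd7 idx (Nat.zero_le _) hidx
    · rw [c_n8] at hidx; exact h_nd8 idx (Nat.zero_le _) hidx
    · rw [c_n9] at hidx; exact h_nd9 idx (Nat.zero_le _) hidx
    · rw [c_n10] at hidx; exact h_nd10 idx (Nat.zero_le _) hidx
    · rw [c_n11] at hidx; exact h_nd11 idx (Nat.zero_le _) hidx

theorem htab0 : ∀ i, i < S.k → ∀ p, p < S.N → S.tab i p = T.tbl p (D.inv i) := by
  intro i hi p _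
  have hi : i < 12 := hi
  interval_cases i <;> rfl

theorem prod_eq : S.prodFrom S.r 0 = 2510411418381323442585600 := by decide +kernel

end Cfsg.Agent.Lib.Helper4.TCD.Fi24L
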