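import Cfsg.Agent.Lib.Helper4.TCD_Fi24a_Acc

namespace Cfsg.Agent.Lib.Helper4.TCD.Fi24aO

open Cfsg.Agent.Lib.Helper4.TC Cfsg.Agent.Lib.Helper4.TCD.Fi24a

set_option maxRecDepth 100000
set_option Elab.async false

theorem c_oinv0_50 : allRange (Tab.orbInvOK T D subs 1 275265) 136351 2727 = true := by decide +kernel
theorem c_oinv0_51 : allRange (Tab.orbInvOK T D subs 1 275265) 139078 2727 = true := by decide +kernel
theorem c_oinv0_52 : allRange (Tab.orbInvOK T D subs 1 275265) 141805 2727 = true := by decide +kernel
theorem c_oinv0_53 : allRange (Tab.orbInvOK T D subs 1 275265) 144532 2727 = true := by decide +kernel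
theorem c_oinv0_54 : allRange (Tab.orbInvOK T D subs 1 275265) 147259 2727 = true := by decide +kernel
theorem c_oinv0_55 : allRange (Tab.orbInvOK T D subs 1 275265) 149986 2727 = true := by decide +kernel
theorem c_oinv0_56 : allRange (Tab.orbInvOK T D subs 1 275265) 152713 2727 = true := by decide +kernel
theorem c_oinv0_57 : allRange (Tab.orbInvOK T D subs 1 275265) 155440 2727 = true := by decide +kernel
theorem c_oinv0_58 : allRange (Tab.orbInvOK T D subs 1 275265) 158167 2727 = true := by decide +kernel
theorem c_oinv0_59 : allRange (Tab.orbInvOK T D subs 1 275265) 160894 2727 = true := by decide +kernel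
theorem c_oinv0_60 : allRange (Tab.orbInvOK T D subs 1 275265) 163621 2727 = true := by decide +kernel
theorem c_oinv0_61 : allRange (Tab.orbInvOK T D subs 1 275265) 166348 2727 = true := by decide +kernel
theorem c_oinv0_62 : allRange (Tab.orbInvOK T D subs 1 275265) 169075 2727 = true := by decide +kernel
theorem c_oinv0_63 : allRange (Tab.orbInvOK T D subs 1 275265) 171802 2727 = true := by decide +kernel
theorem c_oinv0_64 : allRange (Tab.orbInvOK T D subs 1 275265) 174529 2727 = true := by decide +kernel
theorem c_oinv0_65 : allRange (Tab.orbInvOK T D subs 1 275265) 177256 2727 = true := by decide +kernel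
theorem c_oinv0_66 : allRange (Tab.orbInvOK T D subs 1 275265) 179983 2727 = true := by decide +kernel
theorem c_oinv0_67 : allRange (Tab.orbInvOK T D subs 1 275265) 182710 2727 = true := by decide +kernel
theorem c_oinv0_68 : allRange (Tab.orbInvOK T D subs 1 275265) 185437 2727 = true := by decide +kernel
theorem c_oinv0_69 : allRange (Tab.orbInvOK T D subs 1 275265) 188164 2727 = true := by decide +kernel
theorem c_oinv0_70 : allRange (Tab.orbInvOK T D subs 1 275265) 190891 2727 = true := by decide +kernel
theorem c_oinv0_71 : allRange (Tab.orbInvOK T D subs 1 275265) 193618 2727 = true := by decide +kernel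
theorem c_oinv0_72 : allRange (Tab.orbInvOK T D subs 1 275265) 196345 2727 = true := by decide +kernel
theorem c_oinv0_73 : allRange (Tab.orbInvOK T D subs 1 275265) 199072 2727 = true := by decide +kernel
theorem c_oinv0_74 : allRange (Tab.orbInvOK T D subs 1 275265) 201799 2727 = true := by decide +kernel
theorem c_oinv0_75 : allRange (Tab.orbInvOK T D subs 1 275265) 204526 2727 = true := by decide +kernel
theorem c_oinv0_76 : allRange (Tab.orbInvOK T D subs 1 275265) 207253 2727 = true := by decide +kernel
theorem c_oinv0_77 : allRange (Tab.orbInvOK T D subs 1 275265) 209980 2727 = true := by decide +kernel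
theorem c_oinv0_78 : allRange (Tab.orbInvOK T D subs 1 275265) 212707 2727 = true := by decide +kernel
theorem c_oinv0_79 : allRange (Tab.orbInvOK T D subs 1 275265) 215434 2727 = true := by decide +kernel
theorem c_oinv0_80 : allRange (Tab.orbInvOK T D subs 1 275265) 218161 2727 = true := by decide +kernel
theorem c_oinv0_81 : allRange (Tab.orbInvOK T D subs 1 275265) 220888 2727 = true := by decide +kernel
theorem c_oinv0_82 : allRange (Tab.orbInvOK T D subs 1 275265) 223615 2727 = true := by decide +kernel
theorem c_oinv0_83 : allRange (Tab.orbInvOK T D subs 1 275265) 226342 2727 = true := by decide +kernel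
theorem c_oinv0_84 : allRange (Tab.orbInvOK T D subs 1 275265) 229069 2727 = true := by decide +kernel
theorem c_oinv0_85 : allRange (Tab.orbInvOK T D subs 1 275265) 231796 2727 = true := by decide +kernel
theorem c_oinv0_86 : allRange (Tab.orbInvOK T D subs 1 275265) 234523 2727 = true := by decide +kernel
theorem c_oinv0_87 : allRange (Tab.orbInvOK T D subs 1 275265) 237250 2727 = true := by decide +kernel
theorem c_oinv0_88 : allRange (Tab.orbInvOK T D subs 1 275265) 239977 2727 = true := by decide +kernel
theorem c_oinv0_89 : allRange (Tab.orbInvOK T D subs 1 275265) 242704 2727 = true := by decide +kernel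
theorem c_oinv0_90 : allRange (Tab.orbInvOK T D subs 1 275265) 245431 2727 = true := by decide +kernel
theorem c_oinv0_91 : allRange (Tab.orbInvOK T D subs 1 275265) 248158 2727 = true := by decide +kernel
theorem c_oinv0_92 : allRange (Tab.orbInvOK T D subs 1 275265) 250885 2727 = true := by decide +kernel
theorem c_oinv0_93 : allRange (Tab.orbInvOK T D subs 1 275265) 253612 2727 = true := by decide +kernel
theorem c_oinv0_94 : allRange (Tab.orbInvOK T D subs 1 275265) 256339 2727 = true := by decide +kernel
theorem c_oinv0_95 : allRange (Tab.orbInvOK T D subs 1 275265) 259066 2727 = true := by decide +kernel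
theorem c_oinv0_96 : allRange (Tab.orbInvOK T D subs 1 275265) 261793 2727 = true := by decide +kernel
theorem c_oinv0_97 : allRange (Tab.orbInvOK T D subs 1 275265) 264520 2727 = true := by decide +kernel
theorem c_oinv0_98 : allRange (Tab.orbInvOK T D subs 1 275265) 267247 2727 = true := by decide +kernel
theorem c_oinv0_99 : allRange (Tab.orbInvOK T D subs 1 275265) 269974 2727 = true := by decide +kernel

end Cfsg.Agent.Lib.Helper4.TCD.Fi24aO
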