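import Cfsg.Agent.Lib.Helper4.TCD_Fi24a_Acc

namespace Cfsg.Agent.Lib.Helper4.TCD.Fi24aO

open Cfsg.Agent.Lib.Helper4.TC Cfsg.Agent.Lib.Helper4.TCD.Fi24a

set_option maxRecDepth 100000
set_option Elab.async false

theorem c_oinv0_100 : allRange (Tab.orbInvOK T D subs 1 275265) 272701 2564 = true := by decide +kernel
theorem c_otree0_0 : allRange (Tab.orbTreeOK T D subs oparTab olabTab 1) 2 20000 = true := by decide +kernel
theorem c_otree0_1 : allRange (Tab.orbTreeOK T D subs oparTab olabTab 1) 20002 20000 = true := by decide +kernel
theorem c_otree0_2 : allRange (Tab.orbTreeOK T D subs oparTab olabTab 1) 40002 20000 = true := by decide +kernel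
theorem c_otree0_3 : allRange (Tab.orbTreeOK T D subs oparTab olabTab 1) 60002 20000 = true := by decide +kernel
theorem c_otree0_4 : allRange (Tab.orbTreeOK T D subs oparTab olabTab 1) 80002 20000 = true := by decide +kernel
theorem c_otree0_5 : allRange (Tab.orbTreeOK T D subs oparTab olabTab 1) 100002 20000 = true := by decide +kernel
theorem c_otree0_6 : allRange (Tab.orbTreeOK T D subs oparTab olabTab 1) 120002 20000 = true := by decide +kernel
theorem c_otree0_7 : allRange (Tab.orbTreeOK T D subs oparTab olabTab 1) 140002 20000 = true := by decide +kernel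
theorem c_otree0_8 : allRange (Tab.orbTreeOK T D subs oparTab olabTab 1) 160002 20000 = true := by decide +kernel
theorem c_otree0_9 : allRange (Tab.orbTreeOK T D subs oparTab olabTab 1) 180002 20000 = true := by decide +kernel
theorem c_otree0_10 : allRange (Tab.orbTreeOK T D subs oparTab olabTab 1) 200002 20000 = true := by decide +kernel
theorem c_otree0_11 : allRange (Tab.orbTreeOK T D subs oparTab olabTab 1) 220002 20000 = true := by decide +kernel
theorem c_otree0_12 : allRange (Tab.orbTreeOK T D subs oparTab olabTab 1) 240002 20000 = true := by decide +kernel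
theorem c_otree0_13 : allRange (Tab.orbTreeOK T D subs oparTab olabTab 1) 260002 15263 = true := by decide +kernel
theorem c_oinv1_0 : allRange (Tab.orbInvOK T D subs 275265 306936) 275265 2727 = true := by decide +kernel
theorem c_oinv1_1 : allRange (Tab.orbInvOK T D subs 275265 306936) 277992 2727 = true := by decide +kernel
theorem c_oinv1_2 : allRange (Tab.orbInvOK T D subs 275265 306936) 280719 2727 = true := by decide +kernel
theorem c_oinv1_3 : allRange (Tab.orbInvOK T D subs 275265 306936) 283446 2727 = true := by decide +kernel
theorem c_oinv1_4 : allRange (Tab.orbInvOK T D subs 275265 306936) 286173 2727 = true := by decide +kernel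
theorem c_oinv1_5 : allRange (Tab.orbInvOK T D subs 275265 306936) 288900 2727 = true := by decide +kernel
theorem c_oinv1_6 : allRange (Tab.orbInvOK T D subs 275265 306936) 291627 2727 = true := by decide +kernel
theorem c_oinv1_7 : allRange (Tab.orbInvOK T D subs 275265 306936) 294354 2727 = true := by decide +kernel
theorem c_oinv1_8 : allRange (Tab.orbInvOK T D subs 275265 306936) 297081 2727 = true := by decide +kernel
theorem c_oinv1_9 : allRange (Tab.orbInvOK T D subs 275265 306936) 299808 2727 = true := by decide +kernel
theorem c_oinv1_10 : allRange (Tab.orbInvOK T D subs 275265 306936) 302535 2727 = true := by decide +kernel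
theorem c_oinv1_11 : allRange (Tab.orbInvOK T D subs 275265 306936) 305262 1674 = true := by decide +kernel
theorem c_otree1_0 : allRange (Tab.orbTreeOK T D subs oparTab olabTab 275265) 275266 20000 = true := by decide +kernel
theorem c_otree1_1 : allRange (Tab.orbTreeOK T D subs oparTab olabTab 275265) 295266 11670 = true := by decide +kernel

end Cfsg.Agent.Lib.Helper4.TCD.Fi24aO
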