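import Cfsg.Agent.Lib.Helper4.TCD_Fi24aO_C0
import Cfsg.Agent.Lib.Helper4.TCD_Fi24aO_C1
import Cfsg.Agent.Lib.Helper4.TCD_Fi24aO_C2
import Cfsg.Agent.Lib.Helper4.TCD_Fi24a_Fin

namespace Cfsg.Agent.Lib.Helper4.TCD.Fi24aO

open Cfsg.Agent.Lib.Helper4.TC Cfsg.Agent.Lib.Helper4.TCD.Fi24a

theorem orb_inv_0_p0 : ∀ j, 1 ≤ j → j < 109081 → Tab.orbInvOK T D subs 1 275265 j = true :=
  (range_glue (range_of_allRange c_oinv0_0) (range_glue (range_of_allRange c_oinv0_1) (range_glue (range_of_allRange c_oinv0_2) (range_glue (range_of_allRange c_oinv0_3) (range_glue (range_of_allRange c_oinv0_4) (range_glue (range_of_allRange c_oinv0_5) (range_glue (range_of_allRange c_oinv0_6) (range_glue (range_of_allRange c_oinv0_7) (range_glue (range_of_allRange c_oinv0_8) (range_glue (range_of_allRange c_oinv0_9) (range_glue (range_of_allRange c_oinv0_10) (range_glue (range_of_allRange c_oinv0_11) (range_glue (range_of_allRange c_oinv0_12) (range_glue (range_of_allRange c_oinv0_13) (range_glue (range_of_allRange c_oinv0_14) (range_glue (range_of_allRange c_oinv0_15) (range_glue (range_of_allRange c_oinv0_16) (range_glue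 (range_of_allRange c_oinv0_17) (range_glue (range_of_allRange c_oinv0_18) (range_glue (range_of_allRange c_oinv0_19) (range_glue (range_of_allRange c_oinv0_20) (range_glue (range_of_allRange c_oinv0_21) (range_glue (range_of_allRange c_oinv0_22) (range_glue (range_of_allRange c_oinv0_23) (range_glue (range_of_allRange c_oinv0_24) (range_glue (range_of_allRange c_oinv0_25) (range_glue (range_of_allRange c_oinv0_26) (range_glue (range_of_allRange c_oinv0_27) (range_glue (range_of_allRange c_oinv0_28) (range_glue (range_of_allRange c_oinv0_29) (range_glue (range_of_allRange c_oinv0_30) (range_glue (range_of_allRange c_oinv0_31) (range_glue (range_of_allRange c_oinv0_32) (range_glue (range_of_allRange c_oinv0_33) (range_glue (range_of_allRange c_oinv0_34) (range_glue (range_of_allRange c_oinv0_35) (range_glue (range_of_allRange c_oinv0_36) (range_glue (range_of_allRange c_oinv0_37) (range_glue (range_of_allRange c_oinv0_38) (range_of_allRange c_oinv0_39))))))))))))))))))))))))))))))))))))))))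
theorem orb_inv_0_p1 : ∀ j, 109081 ≤ j → j < 218161 → Tab.orbInvOK T D subs 1 275265 j = true :=
  (range_glue (range_of_allRange c_oinv0_40) (range_glue (range_of_allRange c_oinv0_41) (range_glue (range_of_allRange c_oinv0_42) (range_glue (range_of_allRange c_oinv0_43) (range_glue (range_of_allRange c_oinv0_44) (range_glue (range_of_allRange c_oinv0_45) (range_glue (range_of_allRange c_oinv0_46) (range_glue (range_of_allRange c_oinv0_47) (range_glue (range_of_allRange c_oinv0_48) (range_glue (range_of_allRange c_oinv0_49) (range_glue (range_of_allRange c_oinv0_50) (range_glue (range_of_allRange c_oinv0_51) (range_glue (range_of_allRange c_oinv0_52) (range_glue (range_of_allRange c_oinv0_53) (range_glue (range_of_allRange c_oinv0_54) (range_glue (range_of_allRange c_oinv0_55) (range_glue (range_of_allRange c_oinv0_56) (range_glue (range_of_allRange c_oinv0_57) (range_glue (range_of_allRange c_oinv0_58) (range_glue (range_of_allRange c_oinv0_59) (range_glue (range_of_allRange c_oinv0_60) (range_glue (range_of_allRange c_oinv0_61) (range_glue (range_of_allRange c_oinv0_62) (range_glue (range_of_allRange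 c_oinv0_63) (range_glue (range_of_allRange c_oinv0_64) (range_glue (range_of_allRange c_oinv0_65) (range_glue (range_of_allRange c_oinv0_66) (range_glue (range_of_allRange c_oinv0_67) (range_glue (range_of_allRange c_oinv0_68) (range_glue (range_of_allRange c_oinv0_69) (range_glue (range_of_allRange c_oinv0_70) (range_glue (range_of_allRange c_oinv0_71) (range_glue (range_of_allRange c_oinv0_72) (range_glue (range_of_allRange c_oinv0_73) (range_glue (range_of_allRange c_oinv0_74) (range_glue (range_of_allRange c_oinv0_75) (range_glue (range_of_allRange c_oinv0_76) (range_glue (range_of_allRange c_oinv0_77) (range_glue (range_of_allRange c_oinv0_78) (range_of_allRange c_oinv0_79))))))))))))))))))))))))))))))))))))))))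
theorem orb_inv_0_p2 : ∀ j, 218161 ≤ j → j < 275265 → Tab.orbInvOK T D subs 1 275265 j = true :=
  (range_glue (range_of_allRange c_oinv0_80) (range_glue (range_of_allRange c_oinv0_81) (range_glue (range_of_allRange c_oinv0_82) (range_glue (range_of_allRange c_oinv0_83) (range_glue (range_of_allRange c_oinv0_84) (range_glue (range_of_allRange c_oinv0_85) (range_glue (range_of_allRange c_oinv0_86) (range_glue (range_of_allRange c_oinv0_87) (range_glue (range_of_allRange c_oinv0_88) (range_glue (range_of_allRange c_oinv0_89) (range_glue (range_of_allRange c_oinv0_90) (range_glue (range_of_allRange c_oinv0_91) (range_glue (range_of_allRange c_oinv0_92) (range_glue (range_of_allRange c_oinv0_93) (range_glue (range_of_allRange c_oinv0_94) (range_glue (range_of_allRange c_oinv0_95) (range_glue (range_of_allRange c_oinv0_96) (range_glue (range_of_allRange c_oinv0_97) (range_glue (range_of_allRange c_oinv0_98) (range_glue (range_of_allRange c_oinv0_99) (range_of_allRange c_oinv0_100)))))))))))))))))))))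
theorem orb_inv_0 : ∀ j, 1 ≤ j → j < 275265 → Tab.orbInvOK T D subs 1 275265 j = true :=
  (range_glue orb_inv_0_p0 (range_glue orb_inv_0_p1 orb_inv_0_p2))
theorem orb_tree0_0 : ∀ j, 2 ≤ j → j < 275265 → Tab.orbTreeOK T D subs oparTab olabTab 1 j = true :=
  (range_glue (range_of_allRange c_otree0_0) (range_glue (range_of_allRange c_otree0_1) (range_glue (range_of_allRange c_otree0_2) (range_glue (range_of_allRange c_otree0_3) (range_glue (range_of_allRange c_otree0_4) (range_glue (range_of_allRange c_otree0_5) (range_glue (range_of_allRange c_otree0_6) (range_glue (range_of_allRange c_otree0_7) (range_glue (range_of_allRange c_otree0_8) (range_glue (range_of_allRange c_otree0_9) (range_glue (range_of_allRange c_otree0_10) (range_glue (range_of_allRange c_otree0_11) (range_glue (range_of_allRange c_otree0_12) (range_of_allRange c_otree0_13))))))))))))))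
theorem orb_tree_0 : ∀ j, 1 < j → j < 275265 → Tab.orbTreeOK T D subs oparTab olabTab 1 j = true :=
  fun j h1 h2 => orb_tree0_0 j h1 h2
theorem orb_inv_1 : ∀ j, 275265 ≤ j → j < 306936 → Tab.orbInvOK T D subs 275265 306936 j = true :=
  (range_glue (range_of_allRange c_oinv1_0) (range_glue (range_of_allRange c_oinv1_1) (range_glue (range_of_allRange c_oinv1_2) (range_glue (range_of_allRange c_oinv1_3) (range_glue (range_of_allRange c_oinv1_4) (range_glue (range_of_allRange c_oinv1_5) (range_glue (range_of_allRange c_oinv1_6) (range_glue (range_of_allRange c_oinv1_7) (range_glue (range_of_allRange c_oinv1_8) (range_glue (range_of_allRange c_oinv1_9) (range_glue (range_of_allRange c_oinv1_10) (range_of_allRange c_oinv1_11))))))))))))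
theorem orb_tree0_1 : ∀ j, 275266 ≤ j → j < 306936 → Tab.orbTreeOK T D subs oparTab olabTab 275265 j = true :=
  (range_glue (range_of_allRange c_otree1_0) (range_of_allRange c_otree1_1))
theorem orb_tree_1 : ∀ j, 275265 < j → j < 306936 → Tab.orbTreeOK T D subs oparTab olabTab 275265 j = true :=
  fun j h1 h2 => orb_tree0_1 j h1 h2

end Cfsg.Agent.Lib.Helper4.TCD.Fi24aO
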