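import Cfsg.Agent.Lib.Helper4.TCD_Fi24x29Q_Acc

namespace Cfsg.Agent.Lib.Helper4.TCD.Fi24x29Q

open Cfsg.Agent.Lib.Helper4.TC Cfsg.Agent.Lib.Helper4.TCD.Fi24a

set_option maxRecDepth 100000
set_option Elab.async false

theorem c_xq_1_0 : allRange (fun i => Nat.beq (actX i) i) 12789 400 = true := by decide +kernel
theorem c_xq_1_1 : allRange (fun i => Nat.beq (actX i) i) 13189 400 = true := by decide +kernel
theorem c_xq_1_2 : allRange (fun i => Nat.beq (actX i) i) 13589 400 = true := by decide +kernel
theorem c_xq_1_3 : allRange (fun i => Nat.beq (actX i) i) 13989 400 = true := by decide +kernel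
theorem c_xq_1_4 : allRange (fun i => Nat.beq (actX i) i) 14389 400 = true := by decide +kernel
theorem c_xq_1_5 : allRange (fun i => Nat.beq (actX i) i) 14789 400 = true := by decide +kernel
theorem c_xq_1_6 : allRange (fun i => Nat.beq (actX i) i) 15189 400 = true := by decide +kernel
theorem c_xq_1_7 : allRange (fun i => Nat.beq (actX i) i) 15589 400 = true := by decide +kernel
theorem c_xq_1_8 : allRange (fun i => Nat.beq (actX i) i) 15989 400 = true := by decide +kernel
theorem c_xq_1_9 : allRange (fun i => Nat.beq (actX i) i) 16389 400 = true := by decide +kernel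
theorem c_xq_1_10 : allRange (fun i => Nat.beq (actX i) i) 16789 400 = true := by decide +kernel
theorem c_xq_1_11 : allRange (fun i => Nat.beq (actX i) i) 17189 400 = true := by decide +kernel
theorem c_xq_1_12 : allRange (fun i => Nat.beq (actX i) i) 17589 400 = true := by decide +kernel
theorem c_xq_1_13 : allRange (fun i => Nat.beq (actX i) i) 17989 400 = true := by decide +kernel
theorem c_xq_1_14 : allRange (fun i => Nat.beq (actX i) i) 18389 400 = true := by decide +kernel
theorem c_xq_1_15 : allRange (fun i => Nat.beq (actX i) i) 18789 400 = true := by decide +kernel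
theorem c_xq_1_16 : allRange (fun i => Nat.beq (actX i) i) 19189 400 = true := by decide +kernel
theorem c_xq_1_17 : allRange (fun i => Nat.beq (actX i) i) 19589 400 = true := by decide +kernel
theorem c_xq_1_18 : allRange (fun i => Nat.beq (actX i) i) 19989 400 = true := by decide +kernel
theorem c_xq_1_19 : allRange (fun i => Nat.beq (actX i) i) 20389 400 = true := by decide +kernel
theorem c_xq_1_20 : allRange (fun i => Nat.beq (actX i) i) 20789 400 = true := by decide +kernel
theorem c_xq_1_21 : allRange (fun i => Nat.beq (actX i) i) 21189 400 = true := by decide +kernel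
theorem c_xq_1_22 : allRange (fun i => Nat.beq (actX i) i) 21589 400 = true := by decide +kernel
theorem c_xq_1_23 : allRange (fun i => Nat.beq (actX i) i) 21989 400 = true := by decide +kernel
theorem c_xq_1_24 : allRange (fun i => Nat.beq (actX i) i) 22389 400 = true := by decide +kernel
theorem c_xq_1_25 : allRange (fun i => Nat.beq (actX i) i) 22789 400 = true := by decide +kernel
theorem c_xq_1_26 : allRange (fun i => Nat.beq (actX i) i) 23189 400 = true := by decide +kernel
theorem c_xq_1_27 : allRange (fun i => Nat.beq (actX i) i) 23589 400 = true := by decide +kernel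
theorem c_xq_1_28 : allRange (fun i => Nat.beq (actX i) i) 23989 400 = true := by decide +kernel
theorem c_xq_1_29 : allRange (fun i => Nat.beq (actX i) i) 24389 400 = true := by decide +kernel
theorem c_xq_1_30 : allRange (fun i => Nat.beq (actX i) i) 24789 400 = true := by decide +kernel
theorem c_xq_1_31 : allRange (fun i => Nat.beq (actX i) i) 25189 389 = true := by decide +kernel
theorem h_xq_p1 : ∀ i, 12789 ≤ i → i < 25578 → Nat.beq (actX i) i = true :=
  (range_glue (range_of_allRange c_xq_1_0) (range_glue (range_of_allRange c_xq_1_1) (range_glue (range_of_allRange c_xq_1_2) (range_glue (range_of_allRange c_xq_1_3) (range_glue (range_of_allRange c_xq_1_4) (range_glue (range_of_allRange c_xq_1_5) (range_glue (range_of_allRange c_xq_1_6) (range_glue (range_of_allRange c_xq_1_7) (range_glue (range_of_allRange c_xq_1_8) (range_glue (range_of_allRange c_xq_1_9) (range_glue (range_of_allRange c_xq_1_10) (range_glue (range_of_allRange c_xq_1_11) (range_glue (range_of_allRange c_xq_1_12) (range_glue (range_of_allRange c_xq_1_13) (range_glue (range_of_allRange c_xq_1_14) (range_glue (range_of_allRange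 c_xq_1_15) (range_glue (range_of_allRange c_xq_1_16) (range_glue (range_of_allRange c_xq_1_17) (range_glue (range_of_allRange c_xq_1_18) (range_glue (range_of_allRange c_xq_1_19) (range_glue (range_of_allRange c_xq_1_20) (range_glue (range_of_allRange c_xq_1_21) (range_glue (range_of_allRange c_xq_1_22) (range_glue (range_of_allRange c_xq_1_23) (range_glue (range_of_allRange c_xq_1_24) (range_glue (range_of_allRange c_xq_1_25) (range_glue (range_of_allRange c_xq_1_26) (range_glue (range_of_allRange c_xq_1_27) (range_glue (range_of_allRange c_xq_1_28) (range_glue (range_of_allRange c_xq_1_29) (range_glue (range_of_allRange c_xq_1_30) (range_of_allRange c_xq_1_31))))))))))))))))))))))))))))))))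

end Cfsg.Agent.Lib.Helper4.TCD.Fi24x29Q
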