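import Cfsg.Agent.Lib.Helper4.TCD_Fi24x29Q_Acc

namespace Cfsg.Agent.Lib.Helper4.TCD.Fi24x29Q

open Cfsg.Agent.Lib.Helper4.TC Cfsg.Agent.Lib.Helper4.TCD.Fi24a

set_option maxRecDepth 100000
set_option Elab.async false

theorem c_xq_10_0 : allRange (fun i => Nat.beq (actX i) i) 127890 400 = true := by decide +kernel
theorem c_xq_10_1 : allRange (fun i => Nat.beq (actX i) i) 128290 400 = true := by decide +kernel
theorem c_xq_10_2 : allRange (fun i => Nat.beq (actX i) i) 128690 400 = true := by decide +kernel
theorem c_xq_10_3 : allRange (fun i => Nat.beq (actX i) i) 129090 400 = true := by decide +kernel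
theorem c_xq_10_4 : allRange (fun i => Nat.beq (actX i) i) 129490 400 = true := by decide +kernel
theorem c_xq_10_5 : allRange (fun i => Nat.beq (actX i) i) 129890 400 = true := by decide +kernel
theorem c_xq_10_6 : allRange (fun i => Nat.beq (actX i) i) 130290 400 = true := by decide +kernel
theorem c_xq_10_7 : allRange (fun i => Nat.beq (actX i) i) 130690 400 = true := by decide +kernel
theorem c_xq_10_8 : allRange (fun i => Nat.beq (actX i) i) 131090 400 = true := by decide +kernel
theorem c_xq_10_9 : allRange (fun i => Nat.beq (actX i) i) 131490 400 = true := by decide +kernel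
theorem c_xq_10_10 : allRange (fun i => Nat.beq (actX i) i) 131890 400 = true := by decide +kernel
theorem c_xq_10_11 : allRange (fun i => Nat.beq (actX i) i) 132290 400 = true := by decide +kernel
theorem c_xq_10_12 : allRange (fun i => Nat.beq (actX i) i) 132690 400 = true := by decide +kernel
theorem c_xq_10_13 : allRange (fun i => Nat.beq (actX i) i) 133090 400 = true := by decide +kernel
theorem c_xq_10_14 : allRange (fun i => Nat.beq (actX i) i) 133490 400 = true := by decide +kernel
theorem c_xq_10_15 : allRange (fun i => Nat.beq (actX i) i) 133890 400 = true := by decide +kernel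
theorem c_xq_10_16 : allRange (fun i => Nat.beq (actX i) i) 134290 400 = true := by decide +kernel
theorem c_xq_10_17 : allRange (fun i => Nat.beq (actX i) i) 134690 400 = true := by decide +kernel
theorem c_xq_10_18 : allRange (fun i => Nat.beq (actX i) i) 135090 400 = true := by decide +kernel
theorem c_xq_10_19 : allRange (fun i => Nat.beq (actX i) i) 135490 400 = true := by decide +kernel
theorem c_xq_10_20 : allRange (fun i => Nat.beq (actX i) i) 135890 400 = true := by decide +kernel
theorem c_xq_10_21 : allRange (fun i => Nat.beq (actX i) i) 136290 400 = true := by decide +kernel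
theorem c_xq_10_22 : allRange (fun i => Nat.beq (actX i) i) 136690 400 = true := by decide +kernel
theorem c_xq_10_23 : allRange (fun i => Nat.beq (actX i) i) 137090 400 = true := by decide +kernel
theorem c_xq_10_24 : allRange (fun i => Nat.beq (actX i) i) 137490 400 = true := by decide +kernel
theorem c_xq_10_25 : allRange (fun i => Nat.beq (actX i) i) 137890 400 = true := by decide +kernel
theorem c_xq_10_26 : allRange (fun i => Nat.beq (actX i) i) 138290 400 = true := by decide +kernel
theorem c_xq_10_27 : allRange (fun i => Nat.beq (actX i) i) 138690 400 = true := by decide +kernel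
theorem c_xq_10_28 : allRange (fun i => Nat.beq (actX i) i) 139090 400 = true := by decide +kernel
theorem c_xq_10_29 : allRange (fun i => Nat.beq (actX i) i) 139490 400 = true := by decide +kernel
theorem c_xq_10_30 : allRange (fun i => Nat.beq (actX i) i) 139890 400 = true := by decide +kernel
theorem c_xq_10_31 : allRange (fun i => Nat.beq (actX i) i) 140290 389 = true := by decide +kernel
theorem h_xq_p10 : ∀ i, 127890 ≤ i → i < 140679 → Nat.beq (actX i) i = true :=
  (range_glue (range_of_allRange c_xq_10_0) (range_glue (range_of_allRange c_xq_10_1) (range_glue (range_of_allRange c_xq_10_2) (range_glue (range_of_allRange c_xq_10_3) (range_glue (range_of_allRange c_xq_10_4) (range_glue (range_of_allRange c_xq_10_5) (range_glue (range_of_allRange c_xq_10_6) (range_glue (range_of_allRange c_xq_10_7) (range_glue (range_of_allRange c_xq_10_8) (range_glue (range_of_allRange c_xq_10_9) (range_glue (range_of_allRange c_xq_10_10) (range_glue (range_of_allRange c_xq_10_11) (range_glue (range_of_allRange c_xq_10_12) (range_glue (range_of_allRange c_xq_10_13) (range_glue (range_of_allRange c_xq_10_14) (range_glue (range_of_allRange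 c_xq_10_15) (range_glue (range_of_allRange c_xq_10_16) (range_glue (range_of_allRange c_xq_10_17) (range_glue (range_of_allRange c_xq_10_18) (range_glue (range_of_allRange c_xq_10_19) (range_glue (range_of_allRange c_xq_10_20) (range_glue (range_of_allRange c_xq_10_21) (range_glue (range_of_allRange c_xq_10_22) (range_glue (range_of_allRange c_xq_10_23) (range_glue (range_of_allRange c_xq_10_24) (range_glue (range_of_allRange c_xq_10_25) (range_glue (range_of_allRange c_xq_10_26) (range_glue (range_of_allRange c_xq_10_27) (range_glue (range_of_allRange c_xq_10_28) (range_glue (range_of_allRange c_xq_10_29) (range_glue (range_of_allRange c_xq_10_30) (range_of_allRange c_xq_10_31))))))))))))))))))))))))))))))))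

end Cfsg.Agent.Lib.Helper4.TCD.Fi24x29Q
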