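import Cfsg.Agent.Lib.Helper4.TCD_Fi24x29Q_Acc

namespace Cfsg.Agent.Lib.Helper4.TCD.Fi24x29Q

open Cfsg.Agent.Lib.Helper4.TC Cfsg.Agent.Lib.Helper4.TCD.Fi24a

set_option maxRecDepth 100000
set_option Elab.async false

theorem c_xq_11_0 : allRange (fun i => Nat.beq (actX i) i) 140679 400 = true := by decide +kernel
theorem c_xq_11_1 : allRange (fun i => Nat.beq (actX i) i) 141079 400 = true := by decide +kernel
theorem c_xq_11_2 : allRange (fun i => Nat.beq (actX i) i) 141479 400 = true := by decide +kernel
theorem c_xq_11_3 : allRange (fun i => Nat.beq (actX i) i) 141879 400 = true := by decide +kernel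
theorem c_xq_11_4 : allRange (fun i => Nat.beq (actX i) i) 142279 400 = true := by decide +kernel
theorem c_xq_11_5 : allRange (fun i => Nat.beq (actX i) i) 142679 400 = true := by decide +kernel
theorem c_xq_11_6 : allRange (fun i => Nat.beq (actX i) i) 143079 400 = true := by decide +kernel
theorem c_xq_11_7 : allRange (fun i => Nat.beq (actX i) i) 143479 400 = true := by decide +kernel
theorem c_xq_11_8 : allRange (fun i => Nat.beq (actX i) i) 143879 400 = true := by decide +kernel
theorem c_xq_11_9 : allRange (fun i => Nat.beq (actX i) i) 144279 400 = true := by decide +kernel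
theorem c_xq_11_10 : allRange (fun i => Nat.beq (actX i) i) 144679 400 = true := by decide +kernel
theorem c_xq_11_11 : allRange (fun i => Nat.beq (actX i) i) 145079 400 = true := by decide +kernel
theorem c_xq_11_12 : allRange (fun i => Nat.beq (actX i) i) 145479 400 = true := by decide +kernel
theorem c_xq_11_13 : allRange (fun i => Nat.beq (actX i) i) 145879 400 = true := by decide +kernel
theorem c_xq_11_14 : allRange (fun i => Nat.beq (actX i) i) 146279 400 = true := by decide +kernel
theorem c_xq_11_15 : allRange (fun i => Nat.beq (actX i) i) 146679 400 = true := by decide +kernel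
theorem c_xq_11_16 : allRange (fun i => Nat.beq (actX i) i) 147079 400 = true := by decide +kernel
theorem c_xq_11_17 : allRange (fun i => Nat.beq (actX i) i) 147479 400 = true := by decide +kernel
theorem c_xq_11_18 : allRange (fun i => Nat.beq (actX i) i) 147879 400 = true := by decide +kernel
theorem c_xq_11_19 : allRange (fun i => Nat.beq (actX i) i) 148279 400 = true := by decide +kernel
theorem c_xq_11_20 : allRange (fun i => Nat.beq (actX i) i) 148679 400 = true := by decide +kernel
theorem c_xq_11_21 : allRange (fun i => Nat.beq (actX i) i) 149079 400 = true := by decide +kernel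
theorem c_xq_11_22 : allRange (fun i => Nat.beq (actX i) i) 149479 400 = true := by decide +kernel
theorem c_xq_11_23 : allRange (fun i => Nat.beq (actX i) i) 149879 400 = true := by decide +kernel
theorem c_xq_11_24 : allRange (fun i => Nat.beq (actX i) i) 150279 400 = true := by decide +kernel
theorem c_xq_11_25 : allRange (fun i => Nat.beq (actX i) i) 150679 400 = true := by decide +kernel
theorem c_xq_11_26 : allRange (fun i => Nat.beq (actX i) i) 151079 400 = true := by decide +kernel
theorem c_xq_11_27 : allRange (fun i => Nat.beq (actX i) i) 151479 400 = true := by decide +kernel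
theorem c_xq_11_28 : allRange (fun i => Nat.beq (actX i) i) 151879 400 = true := by decide +kernel
theorem c_xq_11_29 : allRange (fun i => Nat.beq (actX i) i) 152279 400 = true := by decide +kernel
theorem c_xq_11_30 : allRange (fun i => Nat.beq (actX i) i) 152679 400 = true := by decide +kernel
theorem c_xq_11_31 : allRange (fun i => Nat.beq (actX i) i) 153079 389 = true := by decide +kernel
theorem h_xq_p11 : ∀ i, 140679 ≤ i → i < 153468 → Nat.beq (actX i) i = true :=
  (range_glue (range_of_allRange c_xq_11_0) (range_glue (range_of_allRange c_xq_11_1) (range_glue (range_of_allRange c_xq_11_2) (range_glue (range_of_allRange c_xq_11_3) (range_glue (range_of_allRange c_xq_11_4) (range_glue (range_of_allRange c_xq_11_5) (range_glue (range_of_allRange c_xq_11_6) (range_glue (range_of_allRange c_xq_11_7) (range_glue (range_of_allRange c_xq_11_8) (range_glue (range_of_allRange c_xq_11_9) (range_glue (range_of_allRange c_xq_11_10) (range_glue (range_of_allRange c_xq_11_11) (range_glue (range_of_allRange c_xq_11_12) (range_glue (range_of_allRange c_xq_11_13) (range_glue (range_of_allRange c_xq_11_14) (range_glue (range_of_allRange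 c_xq_11_15) (range_glue (range_of_allRange c_xq_11_16) (range_glue (range_of_allRange c_xq_11_17) (range_glue (range_of_allRange c_xq_11_18) (range_glue (range_of_allRange c_xq_11_19) (range_glue (range_of_allRange c_xq_11_20) (range_glue (range_of_allRange c_xq_11_21) (range_glue (range_of_allRange c_xq_11_22) (range_glue (range_of_allRange c_xq_11_23) (range_glue (range_of_allRange c_xq_11_24) (range_glue (range_of_allRange c_xq_11_25) (range_glue (range_of_allRange c_xq_11_26) (range_glue (range_of_allRange c_xq_11_27) (range_glue (range_of_allRange c_xq_11_28) (range_glue (range_of_allRange c_xq_11_29) (range_glue (range_of_allRange c_xq_11_30) (range_of_allRange c_xq_11_31))))))))))))))))))))))))))))))))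

end Cfsg.Agent.Lib.Helper4.TCD.Fi24x29Q
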