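import Cfsg.Agent.Lib.Helper4.TCD_Fi24x29Q_Acc

namespace Cfsg.Agent.Lib.Helper4.TCD.Fi24x29Q

open Cfsg.Agent.Lib.Helper4.TC Cfsg.Agent.Lib.Helper4.TCD.Fi24a

set_option maxRecDepth 100000
set_option Elab.async false

theorem c_xq_12_0 : allRange (fun i => Nat.beq (actX i) i) 153468 400 = true := by decide +kernel
theorem c_xq_12_1 : allRange (fun i => Nat.beq (actX i) i) 153868 400 = true := by decide +kernel
theorem c_xq_12_2 : allRange (fun i => Nat.beq (actX i) i) 154268 400 = true := by decide +kernel
theorem c_xq_12_3 : allRange (fun i => Nat.beq (actX i) i) 154668 400 = true := by decide +kernel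
theorem c_xq_12_4 : allRange (fun i => Nat.beq (actX i) i) 155068 400 = true := by decide +kernel
theorem c_xq_12_5 : allRange (fun i => Nat.beq (actX i) i) 155468 400 = true := by decide +kernel
theorem c_xq_12_6 : allRange (fun i => Nat.beq (actX i) i) 155868 400 = true := by decide +kernel
theorem c_xq_12_7 : allRange (fun i => Nat.beq (actX i) i) 156268 400 = true := by decide +kernel
theorem c_xq_12_8 : allRange (fun i => Nat.beq (actX i) i) 156668 400 = true := by decide +kernel
theorem c_xq_12_9 : allRange (fun i => Nat.beq (actX i) i) 157068 400 = true := by decide +kernel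
theorem c_xq_12_10 : allRange (fun i => Nat.beq (actX i) i) 157468 400 = true := by decide +kernel
theorem c_xq_12_11 : allRange (fun i => Nat.beq (actX i) i) 157868 400 = true := by decide +kernel
theorem c_xq_12_12 : allRange (fun i => Nat.beq (actX i) i) 158268 400 = true := by decide +kernel
theorem c_xq_12_13 : allRange (fun i => Nat.beq (actX i) i) 158668 400 = true := by decide +kernel
theorem c_xq_12_14 : allRange (fun i => Nat.beq (actX i) i) 159068 400 = true := by decide +kernel
theorem c_xq_12_15 : allRange (fun i => Nat.beq (actX i) i) 159468 400 = true := by decide +kernel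
theorem c_xq_12_16 : allRange (fun i => Nat.beq (actX i) i) 159868 400 = true := by decide +kernel
theorem c_xq_12_17 : allRange (fun i => Nat.beq (actX i) i) 160268 400 = true := by decide +kernel
theorem c_xq_12_18 : allRange (fun i => Nat.beq (actX i) i) 160668 400 = true := by decide +kernel
theorem c_xq_12_19 : allRange (fun i => Nat.beq (actX i) i) 161068 400 = true := by decide +kernel
theorem c_xq_12_20 : allRange (fun i => Nat.beq (actX i) i) 161468 400 = true := by decide +kernel
theorem c_xq_12_21 : allRange (fun i => Nat.beq (actX i) i) 161868 400 = true := by decide +kernel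
theorem c_xq_12_22 : allRange (fun i => Nat.beq (actX i) i) 162268 400 = true := by decide +kernel
theorem c_xq_12_23 : allRange (fun i => Nat.beq (actX i) i) 162668 400 = true := by decide +kernel
theorem c_xq_12_24 : allRange (fun i => Nat.beq (actX i) i) 163068 400 = true := by decide +kernel
theorem c_xq_12_25 : allRange (fun i => Nat.beq (actX i) i) 163468 400 = true := by decide +kernel
theorem c_xq_12_26 : allRange (fun i => Nat.beq (actX i) i) 163868 400 = true := by decide +kernel
theorem c_xq_12_27 : allRange (fun i => Nat.beq (actX i) i) 164268 400 = true := by decide +kernel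
theorem c_xq_12_28 : allRange (fun i => Nat.beq (actX i) i) 164668 400 = true := by decide +kernel
theorem c_xq_12_29 : allRange (fun i => Nat.beq (actX i) i) 165068 400 = true := by decide +kernel
theorem c_xq_12_30 : allRange (fun i => Nat.beq (actX i) i) 165468 400 = true := by decide +kernel
theorem c_xq_12_31 : allRange (fun i => Nat.beq (actX i) i) 165868 389 = true := by decide +kernel
theorem h_xq_p12 : ∀ i, 153468 ≤ i → i < 166257 → Nat.beq (actX i) i = true :=
  (range_glue (range_of_allRange c_xq_12_0) (range_glue (range_of_allRange c_xq_12_1) (range_glue (range_of_allRange c_xq_12_2) (range_glue (range_of_allRange c_xq_12_3) (range_glue (range_of_allRange c_xq_12_4) (range_glue (range_of_allRange c_xq_12_5) (range_glue (range_of_allRange c_xq_12_6) (range_glue (range_of_allRange c_xq_12_7) (range_glue (range_of_allRange c_xq_12_8) (range_glue (range_of_allRange c_xq_12_9) (range_glue (range_of_allRange c_xq_12_10) (range_glue (range_of_allRange c_xq_12_11) (range_glue (range_of_allRange c_xq_12_12) (range_glue (range_of_allRange c_xq_12_13) (range_glue (range_of_allRange c_xq_12_14) (range_glue (range_of_allRange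 c_xq_12_15) (range_glue (range_of_allRange c_xq_12_16) (range_glue (range_of_allRange c_xq_12_17) (range_glue (range_of_allRange c_xq_12_18) (range_glue (range_of_allRange c_xq_12_19) (range_glue (range_of_allRange c_xq_12_20) (range_glue (range_of_allRange c_xq_12_21) (range_glue (range_of_allRange c_xq_12_22) (range_glue (range_of_allRange c_xq_12_23) (range_glue (range_of_allRange c_xq_12_24) (range_glue (range_of_allRange c_xq_12_25) (range_glue (range_of_allRange c_xq_12_26) (range_glue (range_of_allRange c_xq_12_27) (range_glue (range_of_allRange c_xq_12_28) (range_glue (range_of_allRange c_xq_12_29) (range_glue (range_of_allRange c_xq_12_30) (range_of_allRange c_xq_12_31))))))))))))))))))))))))))))))))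

end Cfsg.Agent.Lib.Helper4.TCD.Fi24x29Q
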