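import Cfsg.Agent.Lib.Helper4.TCD_Fi24x29Q_Acc

namespace Cfsg.Agent.Lib.Helper4.TCD.Fi24x29Q

open Cfsg.Agent.Lib.Helper4.TC Cfsg.Agent.Lib.Helper4.TCD.Fi24a

set_option maxRecDepth 100000
set_option Elab.async false

theorem c_xq_13_0 : allRange (fun i => Nat.beq (actX i) i) 166257 400 = true := by decide +kernel
theorem c_xq_13_1 : allRange (fun i => Nat.beq (actX i) i) 166657 400 = true := by decide +kernel
theorem c_xq_13_2 : allRange (fun i => Nat.beq (actX i) i) 167057 400 = true := by decide +kernel
theorem c_xq_13_3 : allRange (fun i => Nat.beq (actX i) i) 167457 400 = true := by decide +kernel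
theorem c_xq_13_4 : allRange (fun i => Nat.beq (actX i) i) 167857 400 = true := by decide +kernel
theorem c_xq_13_5 : allRange (fun i => Nat.beq (actX i) i) 168257 400 = true := by decide +kernel
theorem c_xq_13_6 : allRange (fun i => Nat.beq (actX i) i) 168657 400 = true := by decide +kernel
theorem c_xq_13_7 : allRange (fun i => Nat.beq (actX i) i) 169057 400 = true := by decide +kernel
theorem c_xq_13_8 : allRange (fun i => Nat.beq (actX i) i) 169457 400 = true := by decide +kernel
theorem c_xq_13_9 : allRange (fun i => Nat.beq (actX i) i) 169857 400 = true := by decide +kernel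
theorem c_xq_13_10 : allRange (fun i => Nat.beq (actX i) i) 170257 400 = true := by decide +kernel
theorem c_xq_13_11 : allRange (fun i => Nat.beq (actX i) i) 170657 400 = true := by decide +kernel
theorem c_xq_13_12 : allRange (fun i => Nat.beq (actX i) i) 171057 400 = true := by decide +kernel
theorem c_xq_13_13 : allRange (fun i => Nat.beq (actX i) i) 171457 400 = true := by decide +kernel
theorem c_xq_13_14 : allRange (fun i => Nat.beq (actX i) i) 171857 400 = true := by decide +kernel
theorem c_xq_13_15 : allRange (fun i => Nat.beq (actX i) i) 172257 400 = true := by decide +kernel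
theorem c_xq_13_16 : allRange (fun i => Nat.beq (actX i) i) 172657 400 = true := by decide +kernel
theorem c_xq_13_17 : allRange (fun i => Nat.beq (actX i) i) 173057 400 = true := by decide +kernel
theorem c_xq_13_18 : allRange (fun i => Nat.beq (actX i) i) 173457 400 = true := by decide +kernel
theorem c_xq_13_19 : allRange (fun i => Nat.beq (actX i) i) 173857 400 = true := by decide +kernel
theorem c_xq_13_20 : allRange (fun i => Nat.beq (actX i) i) 174257 400 = true := by decide +kernel
theorem c_xq_13_21 : allRange (fun i => Nat.beq (actX i) i) 174657 400 = true := by decide +kernel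
theorem c_xq_13_22 : allRange (fun i => Nat.beq (actX i) i) 175057 400 = true := by decide +kernel
theorem c_xq_13_23 : allRange (fun i => Nat.beq (actX i) i) 175457 400 = true := by decide +kernel
theorem c_xq_13_24 : allRange (fun i => Nat.beq (actX i) i) 175857 400 = true := by decide +kernel
theorem c_xq_13_25 : allRange (fun i => Nat.beq (actX i) i) 176257 400 = true := by decide +kernel
theorem c_xq_13_26 : allRange (fun i => Nat.beq (actX i) i) 176657 400 = true := by decide +kernel
theorem c_xq_13_27 : allRange (fun i => Nat.beq (actX i) i) 177057 400 = true := by decide +kernel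
theorem c_xq_13_28 : allRange (fun i => Nat.beq (actX i) i) 177457 400 = true := by decide +kernel
theorem c_xq_13_29 : allRange (fun i => Nat.beq (actX i) i) 177857 400 = true := by decide +kernel
theorem c_xq_13_30 : allRange (fun i => Nat.beq (actX i) i) 178257 400 = true := by decide +kernel
theorem c_xq_13_31 : allRange (fun i => Nat.beq (actX i) i) 178657 389 = true := by decide +kernel
theorem h_xq_p13 : ∀ i, 166257 ≤ i → i < 179046 → Nat.beq (actX i) i = true :=
  (range_glue (range_of_allRange c_xq_13_0) (range_glue (range_of_allRange c_xq_13_1) (range_glue (range_of_allRange c_xq_13_2) (range_glue (range_of_allRange c_xq_13_3) (range_glue (range_of_allRange c_xq_13_4) (range_glue (range_of_allRange c_xq_13_5) (range_glue (range_of_allRange c_xq_13_6) (range_glue (range_of_allRange c_xq_13_7) (range_glue (range_of_allRange c_xq_13_8) (range_glue (range_of_allRange c_xq_13_9) (range_glue (range_of_allRange c_xq_13_10) (range_glue (range_of_allRange c_xq_13_11) (range_glue (range_of_allRange c_xq_13_12) (range_glue (range_of_allRange c_xq_13_13) (range_glue (range_of_allRange c_xq_13_14) (range_glue (range_of_allRange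 c_xq_13_15) (range_glue (range_of_allRange c_xq_13_16) (range_glue (range_of_allRange c_xq_13_17) (range_glue (range_of_allRange c_xq_13_18) (range_glue (range_of_allRange c_xq_13_19) (range_glue (range_of_allRange c_xq_13_20) (range_glue (range_of_allRange c_xq_13_21) (range_glue (range_of_allRange c_xq_13_22) (range_glue (range_of_allRange c_xq_13_23) (range_glue (range_of_allRange c_xq_13_24) (range_glue (range_of_allRange c_xq_13_25) (range_glue (range_of_allRange c_xq_13_26) (range_glue (range_of_allRange c_xq_13_27) (range_glue (range_of_allRange c_xq_13_28) (range_glue (range_of_allRange c_xq_13_29) (range_glue (range_of_allRange c_xq_13_30) (range_of_allRange c_xq_13_31))))))))))))))))))))))))))))))))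

end Cfsg.Agent.Lib.Helper4.TCD.Fi24x29Q
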