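import Cfsg.Agent.Lib.Helper4.TCD_Fi24x29Q_Acc

namespace Cfsg.Agent.Lib.Helper4.TCD.Fi24x29Q

open Cfsg.Agent.Lib.Helper4.TC Cfsg.Agent.Lib.Helper4.TCD.Fi24a

set_option maxRecDepth 100000
set_option Elab.async false

theorem c_xq_14_0 : allRange (fun i => Nat.beq (actX i) i) 179046 400 = true := by decide +kernel
theorem c_xq_14_1 : allRange (fun i => Nat.beq (actX i) i) 179446 400 = true := by decide +kernel
theorem c_xq_14_2 : allRange (fun i => Nat.beq (actX i) i) 179846 400 = true := by decide +kernel
theorem c_xq_14_3 : allRange (fun i => Nat.beq (actX i) i) 180246 400 = true := by decide +kernel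
theorem c_xq_14_4 : allRange (fun i => Nat.beq (actX i) i) 180646 400 = true := by decide +kernel
theorem c_xq_14_5 : allRange (fun i => Nat.beq (actX i) i) 181046 400 = true := by decide +kernel
theorem c_xq_14_6 : allRange (fun i => Nat.beq (actX i) i) 181446 400 = true := by decide +kernel
theorem c_xq_14_7 : allRange (fun i => Nat.beq (actX i) i) 181846 400 = true := by decide +kernel
theorem c_xq_14_8 : allRange (fun i => Nat.beq (actX i) i) 182246 400 = true := by decide +kernel
theorem c_xq_14_9 : allRange (fun i => Nat.beq (actX i) i) 182646 400 = true := by decide +kernel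
theorem c_xq_14_10 : allRange (fun i => Nat.beq (actX i) i) 183046 400 = true := by decide +kernel
theorem c_xq_14_11 : allRange (fun i => Nat.beq (actX i) i) 183446 400 = true := by decide +kernel
theorem c_xq_14_12 : allRange (fun i => Nat.beq (actX i) i) 183846 400 = true := by decide +kernel
theorem c_xq_14_13 : allRange (fun i => Nat.beq (actX i) i) 184246 400 = true := by decide +kernel
theorem c_xq_14_14 : allRange (fun i => Nat.beq (actX i) i) 184646 400 = true := by decide +kernel
theorem c_xq_14_15 : allRange (fun i => Nat.beq (actX i) i) 185046 400 = true := by decide +kernel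
theorem c_xq_14_16 : allRange (fun i => Nat.beq (actX i) i) 185446 400 = true := by decide +kernel
theorem c_xq_14_17 : allRange (fun i => Nat.beq (actX i) i) 185846 400 = true := by decide +kernel
theorem c_xq_14_18 : allRange (fun i => Nat.beq (actX i) i) 186246 400 = true := by decide +kernel
theorem c_xq_14_19 : allRange (fun i => Nat.beq (actX i) i) 186646 400 = true := by decide +kernel
theorem c_xq_14_20 : allRange (fun i => Nat.beq (actX i) i) 187046 400 = true := by decide +kernel
theorem c_xq_14_21 : allRange (fun i => Nat.beq (actX i) i) 187446 400 = true := by decide +kernel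
theorem c_xq_14_22 : allRange (fun i => Nat.beq (actX i) i) 187846 400 = true := by decide +kernel
theorem c_xq_14_23 : allRange (fun i => Nat.beq (actX i) i) 188246 400 = true := by decide +kernel
theorem c_xq_14_24 : allRange (fun i => Nat.beq (actX i) i) 188646 400 = true := by decide +kernel
theorem c_xq_14_25 : allRange (fun i => Nat.beq (actX i) i) 189046 400 = true := by decide +kernel
theorem c_xq_14_26 : allRange (fun i => Nat.beq (actX i) i) 189446 400 = true := by decide +kernel
theorem c_xq_14_27 : allRange (fun i => Nat.beq (actX i) i) 189846 400 = true := by decide +kernel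
theorem c_xq_14_28 : allRange (fun i => Nat.beq (actX i) i) 190246 400 = true := by decide +kernel
theorem c_xq_14_29 : allRange (fun i => Nat.beq (actX i) i) 190646 400 = true := by decide +kernel
theorem c_xq_14_30 : allRange (fun i => Nat.beq (actX i) i) 191046 400 = true := by decide +kernel
theorem c_xq_14_31 : allRange (fun i => Nat.beq (actX i) i) 191446 389 = true := by decide +kernel
theorem h_xq_p14 : ∀ i, 179046 ≤ i → i < 191835 → Nat.beq (actX i) i = true :=
  (range_glue (range_of_allRange c_xq_14_0) (range_glue (range_of_allRange c_xq_14_1) (range_glue (range_of_allRange c_xq_14_2) (range_glue (range_of_allRange c_xq_14_3) (range_glue (range_of_allRange c_xq_14_4) (range_glue (range_of_allRange c_xq_14_5) (range_glue (range_of_allRange c_xq_14_6) (range_glue (range_of_allRange c_xq_14_7) (range_glue (range_of_allRange c_xq_14_8) (range_glue (range_of_allRange c_xq_14_9) (range_glue (range_of_allRange c_xq_14_10) (range_glue (range_of_allRange c_xq_14_11) (range_glue (range_of_allRange c_xq_14_12) (range_glue (range_of_allRange c_xq_14_13) (range_glue (range_of_allRange c_xq_14_14) (range_glue (range_of_allRange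 c_xq_14_15) (range_glue (range_of_allRange c_xq_14_16) (range_glue (range_of_allRange c_xq_14_17) (range_glue (range_of_allRange c_xq_14_18) (range_glue (range_of_allRange c_xq_14_19) (range_glue (range_of_allRange c_xq_14_20) (range_glue (range_of_allRange c_xq_14_21) (range_glue (range_of_allRange c_xq_14_22) (range_glue (range_of_allRange c_xq_14_23) (range_glue (range_of_allRange c_xq_14_24) (range_glue (range_of_allRange c_xq_14_25) (range_glue (range_of_allRange c_xq_14_26) (range_glue (range_of_allRange c_xq_14_27) (range_glue (range_of_allRange c_xq_14_28) (range_glue (range_of_allRange c_xq_14_29) (range_glue (range_of_allRange c_xq_14_30) (range_of_allRange c_xq_14_31))))))))))))))))))))))))))))))))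

end Cfsg.Agent.Lib.Helper4.TCD.Fi24x29Q
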