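import Cfsg.Agent.Lib.Helper4.TCD_Fi24x29Q_Acc

namespace Cfsg.Agent.Lib.Helper4.TCD.Fi24x29Q

open Cfsg.Agent.Lib.Helper4.TC Cfsg.Agent.Lib.Helper4.TCD.Fi24a

set_option maxRecDepth 100000
set_option Elab.async false

theorem c_xq_15_0 : allRange (fun i => Nat.beq (actX i) i) 191835 400 = true := by decide +kernel
theorem c_xq_15_1 : allRange (fun i => Nat.beq (actX i) i) 192235 400 = true := by decide +kernel
theorem c_xq_15_2 : allRange (fun i => Nat.beq (actX i) i) 192635 400 = true := by decide +kernel
theorem c_xq_15_3 : allRange (fun i => Nat.beq (actX i) i) 193035 400 = true := by decide +kernel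
theorem c_xq_15_4 : allRange (fun i => Nat.beq (actX i) i) 193435 400 = true := by decide +kernel
theorem c_xq_15_5 : allRange (fun i => Nat.beq (actX i) i) 193835 400 = true := by decide +kernel
theorem c_xq_15_6 : allRange (fun i => Nat.beq (actX i) i) 194235 400 = true := by decide +kernel
theorem c_xq_15_7 : allRange (fun i => Nat.beq (actX i) i) 194635 400 = true := by decide +kernel
theorem c_xq_15_8 : allRange (fun i => Nat.beq (actX i) i) 195035 400 = true := by decide +kernel
theorem c_xq_15_9 : allRange (fun i => Nat.beq (actX i) i) 195435 400 = true := by decide +kernel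
theorem c_xq_15_10 : allRange (fun i => Nat.beq (actX i) i) 195835 400 = true := by decide +kernel
theorem c_xq_15_11 : allRange (fun i => Nat.beq (actX i) i) 196235 400 = true := by decide +kernel
theorem c_xq_15_12 : allRange (fun i => Nat.beq (actX i) i) 196635 400 = true := by decide +kernel
theorem c_xq_15_13 : allRange (fun i => Nat.beq (actX i) i) 197035 400 = true := by decide +kernel
theorem c_xq_15_14 : allRange (fun i => Nat.beq (actX i) i) 197435 400 = true := by decide +kernel
theorem c_xq_15_15 : allRange (fun i => Nat.beq (actX i) i) 197835 400 = true := by decide +kernel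
theorem c_xq_15_16 : allRange (fun i => Nat.beq (actX i) i) 198235 400 = true := by decide +kernel
theorem c_xq_15_17 : allRange (fun i => Nat.beq (actX i) i) 198635 400 = true := by decide +kernel
theorem c_xq_15_18 : allRange (fun i => Nat.beq (actX i) i) 199035 400 = true := by decide +kernel
theorem c_xq_15_19 : allRange (fun i => Nat.beq (actX i) i) 199435 400 = true := by decide +kernel
theorem c_xq_15_20 : allRange (fun i => Nat.beq (actX i) i) 199835 400 = true := by decide +kernel
theorem c_xq_15_21 : allRange (fun i => Nat.beq (actX i) i) 200235 400 = true := by decide +kernel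
theorem c_xq_15_22 : allRange (fun i => Nat.beq (actX i) i) 200635 400 = true := by decide +kernel
theorem c_xq_15_23 : allRange (fun i => Nat.beq (actX i) i) 201035 400 = true := by decide +kernel
theorem c_xq_15_24 : allRange (fun i => Nat.beq (actX i) i) 201435 400 = true := by decide +kernel
theorem c_xq_15_25 : allRange (fun i => Nat.beq (actX i) i) 201835 400 = true := by decide +kernel
theorem c_xq_15_26 : allRange (fun i => Nat.beq (actX i) i) 202235 400 = true := by decide +kernel
theorem c_xq_15_27 : allRange (fun i => Nat.beq (actX i) i) 202635 400 = true := by decide +kernel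
theorem c_xq_15_28 : allRange (fun i => Nat.beq (actX i) i) 203035 400 = true := by decide +kernel
theorem c_xq_15_29 : allRange (fun i => Nat.beq (actX i) i) 203435 400 = true := by decide +kernel
theorem c_xq_15_30 : allRange (fun i => Nat.beq (actX i) i) 203835 400 = true := by decide +kernel
theorem c_xq_15_31 : allRange (fun i => Nat.beq (actX i) i) 204235 389 = true := by decide +kernel
theorem h_xq_p15 : ∀ i, 191835 ≤ i → i < 204624 → Nat.beq (actX i) i = true :=
  (range_glue (range_of_allRange c_xq_15_0) (range_glue (range_of_allRange c_xq_15_1) (range_glue (range_of_allRange c_xq_15_2) (range_glue (range_of_allRange c_xq_15_3) (range_glue (range_of_allRange c_xq_15_4) (range_glue (range_of_allRange c_xq_15_5) (range_glue (range_of_allRange c_xq_15_6) (range_glue (range_of_allRange c_xq_15_7) (range_glue (range_of_allRange c_xq_15_8) (range_glue (range_of_allRange c_xq_15_9) (range_glue (range_of_allRange c_xq_15_10) (range_glue (range_of_allRange c_xq_15_11) (range_glue (range_of_allRange c_xq_15_12) (range_glue (range_of_allRange c_xq_15_13) (range_glue (range_of_allRange c_xq_15_14) (range_glue (range_of_allRange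 c_xq_15_15) (range_glue (range_of_allRange c_xq_15_16) (range_glue (range_of_allRange c_xq_15_17) (range_glue (range_of_allRange c_xq_15_18) (range_glue (range_of_allRange c_xq_15_19) (range_glue (range_of_allRange c_xq_15_20) (range_glue (range_of_allRange c_xq_15_21) (range_glue (range_of_allRange c_xq_15_22) (range_glue (range_of_allRange c_xq_15_23) (range_glue (range_of_allRange c_xq_15_24) (range_glue (range_of_allRange c_xq_15_25) (range_glue (range_of_allRange c_xq_15_26) (range_glue (range_of_allRange c_xq_15_27) (range_glue (range_of_allRange c_xq_15_28) (range_glue (range_of_allRange c_xq_15_29) (range_glue (range_of_allRange c_xq_15_30) (range_of_allRange c_xq_15_31))))))))))))))))))))))))))))))))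

end Cfsg.Agent.Lib.Helper4.TCD.Fi24x29Q
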