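import Cfsg.Agent.Lib.Helper4.TCD_Fi24x29Q_Acc

namespace Cfsg.Agent.Lib.Helper4.TCD.Fi24x29Q

open Cfsg.Agent.Lib.Helper4.TC Cfsg.Agent.Lib.Helper4.TCD.Fi24a

set_option maxRecDepth 100000
set_option Elab.async false

theorem c_xq_16_0 : allRange (fun i => Nat.beq (actX i) i) 204624 400 = true := by decide +kernel
theorem c_xq_16_1 : allRange (fun i => Nat.beq (actX i) i) 205024 400 = true := by decide +kernel
theorem c_xq_16_2 : allRange (fun i => Nat.beq (actX i) i) 205424 400 = true := by decide +kernel
theorem c_xq_16_3 : allRange (fun i => Nat.beq (actX i) i) 205824 400 = true := by decide +kernel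
theorem c_xq_16_4 : allRange (fun i => Nat.beq (actX i) i) 206224 400 = true := by decide +kernel
theorem c_xq_16_5 : allRange (fun i => Nat.beq (actX i) i) 206624 400 = true := by decide +kernel
theorem c_xq_16_6 : allRange (fun i => Nat.beq (actX i) i) 207024 400 = true := by decide +kernel
theorem c_xq_16_7 : allRange (fun i => Nat.beq (actX i) i) 207424 400 = true := by decide +kernel
theorem c_xq_16_8 : allRange (fun i => Nat.beq (actX i) i) 207824 400 = true := by decide +kernel
theorem c_xq_16_9 : allRange (fun i => Nat.beq (actX i) i) 208224 400 = true := by decide +kernel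
theorem c_xq_16_10 : allRange (fun i => Nat.beq (actX i) i) 208624 400 = true := by decide +kernel
theorem c_xq_16_11 : allRange (fun i => Nat.beq (actX i) i) 209024 400 = true := by decide +kernel
theorem c_xq_16_12 : allRange (fun i => Nat.beq (actX i) i) 209424 400 = true := by decide +kernel
theorem c_xq_16_13 : allRange (fun i => Nat.beq (actX i) i) 209824 400 = true := by decide +kernel
theorem c_xq_16_14 : allRange (fun i => Nat.beq (actX i) i) 210224 400 = true := by decide +kernel
theorem c_xq_16_15 : allRange (fun i => Nat.beq (actX i) i) 210624 400 = true := by decide +kernel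
theorem c_xq_16_16 : allRange (fun i => Nat.beq (actX i) i) 211024 400 = true := by decide +kernel
theorem c_xq_16_17 : allRange (fun i => Nat.beq (actX i) i) 211424 400 = true := by decide +kernel
theorem c_xq_16_18 : allRange (fun i => Nat.beq (actX i) i) 211824 400 = true := by decide +kernel
theorem c_xq_16_19 : allRange (fun i => Nat.beq (actX i) i) 212224 400 = true := by decide +kernel
theorem c_xq_16_20 : allRange (fun i => Nat.beq (actX i) i) 212624 400 = true := by decide +kernel
theorem c_xq_16_21 : allRange (fun i => Nat.beq (actX i) i) 213024 400 = true := by decide +kernel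
theorem c_xq_16_22 : allRange (fun i => Nat.beq (actX i) i) 213424 400 = true := by decide +kernel
theorem c_xq_16_23 : allRange (fun i => Nat.beq (actX i) i) 213824 400 = true := by decide +kernel
theorem c_xq_16_24 : allRange (fun i => Nat.beq (actX i) i) 214224 400 = true := by decide +kernel
theorem c_xq_16_25 : allRange (fun i => Nat.beq (actX i) i) 214624 400 = true := by decide +kernel
theorem c_xq_16_26 : allRange (fun i => Nat.beq (actX i) i) 215024 400 = true := by decide +kernel
theorem c_xq_16_27 : allRange (fun i => Nat.beq (actX i) i) 215424 400 = true := by decide +kernel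
theorem c_xq_16_28 : allRange (fun i => Nat.beq (actX i) i) 215824 400 = true := by decide +kernel
theorem c_xq_16_29 : allRange (fun i => Nat.beq (actX i) i) 216224 400 = true := by decide +kernel
theorem c_xq_16_30 : allRange (fun i => Nat.beq (actX i) i) 216624 400 = true := by decide +kernel
theorem c_xq_16_31 : allRange (fun i => Nat.beq (actX i) i) 217024 389 = true := by decide +kernel
theorem h_xq_p16 : ∀ i, 204624 ≤ i → i < 217413 → Nat.beq (actX i) i = true :=
  (range_glue (range_of_allRange c_xq_16_0) (range_glue (range_of_allRange c_xq_16_1) (range_glue (range_of_allRange c_xq_16_2) (range_glue (range_of_allRange c_xq_16_3) (range_glue (range_of_allRange c_xq_16_4) (range_glue (range_of_allRange c_xq_16_5) (range_glue (range_of_allRange c_xq_16_6) (range_glue (range_of_allRange c_xq_16_7) (range_glue (range_of_allRange c_xq_16_8) (range_glue (range_of_allRange c_xq_16_9) (range_glue (range_of_allRange c_xq_16_10) (range_glue (range_of_allRange c_xq_16_11) (range_glue (range_of_allRange c_xq_16_12) (range_glue (range_of_allRange c_xq_16_13) (range_glue (range_of_allRange c_xq_16_14) (range_glue (range_of_allRange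 c_xq_16_15) (range_glue (range_of_allRange c_xq_16_16) (range_glue (range_of_allRange c_xq_16_17) (range_glue (range_of_allRange c_xq_16_18) (range_glue (range_of_allRange c_xq_16_19) (range_glue (range_of_allRange c_xq_16_20) (range_glue (range_of_allRange c_xq_16_21) (range_glue (range_of_allRange c_xq_16_22) (range_glue (range_of_allRange c_xq_16_23) (range_glue (range_of_allRange c_xq_16_24) (range_glue (range_of_allRange c_xq_16_25) (range_glue (range_of_allRange c_xq_16_26) (range_glue (range_of_allRange c_xq_16_27) (range_glue (range_of_allRange c_xq_16_28) (range_glue (range_of_allRange c_xq_16_29) (range_glue (range_of_allRange c_xq_16_30) (range_of_allRange c_xq_16_31))))))))))))))))))))))))))))))))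

end Cfsg.Agent.Lib.Helper4.TCD.Fi24x29Q
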