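import Cfsg.Agent.Lib.Helper4.TCD_Fi24x29Q_Acc

namespace Cfsg.Agent.Lib.Helper4.TCD.Fi24x29Q

open Cfsg.Agent.Lib.Helper4.TC Cfsg.Agent.Lib.Helper4.TCD.Fi24a

set_option maxRecDepth 100000
set_option Elab.async false

theorem c_xq_17_0 : allRange (fun i => Nat.beq (actX i) i) 217413 400 = true := by decide +kernel
theorem c_xq_17_1 : allRange (fun i => Nat.beq (actX i) i) 217813 400 = true := by decide +kernel
theorem c_xq_17_2 : allRange (fun i => Nat.beq (actX i) i) 218213 400 = true := by decide +kernel
theorem c_xq_17_3 : allRange (fun i => Nat.beq (actX i) i) 218613 400 = true := by decide +kernel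
theorem c_xq_17_4 : allRange (fun i => Nat.beq (actX i) i) 219013 400 = true := by decide +kernel
theorem c_xq_17_5 : allRange (fun i => Nat.beq (actX i) i) 219413 400 = true := by decide +kernel
theorem c_xq_17_6 : allRange (fun i => Nat.beq (actX i) i) 219813 400 = true := by decide +kernel
theorem c_xq_17_7 : allRange (fun i => Nat.beq (actX i) i) 220213 400 = true := by decide +kernel
theorem c_xq_17_8 : allRange (fun i => Nat.beq (actX i) i) 220613 400 = true := by decide +kernel
theorem c_xq_17_9 : allRange (fun i => Nat.beq (actX i) i) 221013 400 = true := by decide +kernel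
theorem c_xq_17_10 : allRange (fun i => Nat.beq (actX i) i) 221413 400 = true := by decide +kernel
theorem c_xq_17_11 : allRange (fun i => Nat.beq (actX i) i) 221813 400 = true := by decide +kernel
theorem c_xq_17_12 : allRange (fun i => Nat.beq (actX i) i) 222213 400 = true := by decide +kernel
theorem c_xq_17_13 : allRange (fun i => Nat.beq (actX i) i) 222613 400 = true := by decide +kernel
theorem c_xq_17_14 : allRange (fun i => Nat.beq (actX i) i) 223013 400 = true := by decide +kernel
theorem c_xq_17_15 : allRange (fun i => Nat.beq (actX i) i) 223413 400 = true := by decide +kernel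
theorem c_xq_17_16 : allRange (fun i => Nat.beq (actX i) i) 223813 400 = true := by decide +kernel
theorem c_xq_17_17 : allRange (fun i => Nat.beq (actX i) i) 224213 400 = true := by decide +kernel
theorem c_xq_17_18 : allRange (fun i => Nat.beq (actX i) i) 224613 400 = true := by decide +kernel
theorem c_xq_17_19 : allRange (fun i => Nat.beq (actX i) i) 225013 400 = true := by decide +kernel
theorem c_xq_17_20 : allRange (fun i => Nat.beq (actX i) i) 225413 400 = true := by decide +kernel
theorem c_xq_17_21 : allRange (fun i => Nat.beq (actX i) i) 225813 400 = true := by decide +kernel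
theorem c_xq_17_22 : allRange (fun i => Nat.beq (actX i) i) 226213 400 = true := by decide +kernel
theorem c_xq_17_23 : allRange (fun i => Nat.beq (actX i) i) 226613 400 = true := by decide +kernel
theorem c_xq_17_24 : allRange (fun i => Nat.beq (actX i) i) 227013 400 = true := by decide +kernel
theorem c_xq_17_25 : allRange (fun i => Nat.beq (actX i) i) 227413 400 = true := by decide +kernel
theorem c_xq_17_26 : allRange (fun i => Nat.beq (actX i) i) 227813 400 = true := by decide +kernel
theorem c_xq_17_27 : allRange (fun i => Nat.beq (actX i) i) 228213 400 = true := by decide +kernel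
theorem c_xq_17_28 : allRange (fun i => Nat.beq (actX i) i) 228613 400 = true := by decide +kernel
theorem c_xq_17_29 : allRange (fun i => Nat.beq (actX i) i) 229013 400 = true := by decide +kernel
theorem c_xq_17_30 : allRange (fun i => Nat.beq (actX i) i) 229413 400 = true := by decide +kernel
theorem c_xq_17_31 : allRange (fun i => Nat.beq (actX i) i) 229813 389 = true := by decide +kernel
theorem h_xq_p17 : ∀ i, 217413 ≤ i → i < 230202 → Nat.beq (actX i) i = true :=
  (range_glue (range_of_allRange c_xq_17_0) (range_glue (range_of_allRange c_xq_17_1) (range_glue (range_of_allRange c_xq_17_2) (range_glue (range_of_allRange c_xq_17_3) (range_glue (range_of_allRange c_xq_17_4) (range_glue (range_of_allRange c_xq_17_5) (range_glue (range_of_allRange c_xq_17_6) (range_glue (range_of_allRange c_xq_17_7) (range_glue (range_of_allRange c_xq_17_8) (range_glue (range_of_allRange c_xq_17_9) (range_glue (range_of_allRange c_xq_17_10) (range_glue (range_of_allRange c_xq_17_11) (range_glue (range_of_allRange c_xq_17_12) (range_glue (range_of_allRange c_xq_17_13) (range_glue (range_of_allRange c_xq_17_14) (range_glue (range_of_allRange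 c_xq_17_15) (range_glue (range_of_allRange c_xq_17_16) (range_glue (range_of_allRange c_xq_17_17) (range_glue (range_of_allRange c_xq_17_18) (range_glue (range_of_allRange c_xq_17_19) (range_glue (range_of_allRange c_xq_17_20) (range_glue (range_of_allRange c_xq_17_21) (range_glue (range_of_allRange c_xq_17_22) (range_glue (range_of_allRange c_xq_17_23) (range_glue (range_of_allRange c_xq_17_24) (range_glue (range_of_allRange c_xq_17_25) (range_glue (range_of_allRange c_xq_17_26) (range_glue (range_of_allRange c_xq_17_27) (range_glue (range_of_allRange c_xq_17_28) (range_glue (range_of_allRange c_xq_17_29) (range_glue (range_of_allRange c_xq_17_30) (range_of_allRange c_xq_17_31))))))))))))))))))))))))))))))))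

end Cfsg.Agent.Lib.Helper4.TCD.Fi24x29Q
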