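import Cfsg.Agent.Lib.Helper4.TCD_Fi24x29Q_Acc

namespace Cfsg.Agent.Lib.Helper4.TCD.Fi24x29Q

open Cfsg.Agent.Lib.Helper4.TC Cfsg.Agent.Lib.Helper4.TCD.Fi24a

set_option maxRecDepth 100000
set_option Elab.async false

theorem c_xq_19_0 : allRange (fun i => Nat.beq (actX i) i) 242991 400 = true := by decide +kernel
theorem c_xq_19_1 : allRange (fun i => Nat.beq (actX i) i) 243391 400 = true := by decide +kernel
theorem c_xq_19_2 : allRange (fun i => Nat.beq (actX i) i) 243791 400 = true := by decide +kernel
theorem c_xq_19_3 : allRange (fun i => Nat.beq (actX i) i) 244191 400 = true := by decide +kernel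
theorem c_xq_19_4 : allRange (fun i => Nat.beq (actX i) i) 244591 400 = true := by decide +kernel
theorem c_xq_19_5 : allRange (fun i => Nat.beq (actX i) i) 244991 400 = true := by decide +kernel
theorem c_xq_19_6 : allRange (fun i => Nat.beq (actX i) i) 245391 400 = true := by decide +kernel
theorem c_xq_19_7 : allRange (fun i => Nat.beq (actX i) i) 245791 400 = true := by decide +kernel
theorem c_xq_19_8 : allRange (fun i => Nat.beq (actX i) i) 246191 400 = true := by decide +kernel
theorem c_xq_19_9 : allRange (fun i => Nat.beq (actX i) i) 246591 400 = true := by decide +kernel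
theorem c_xq_19_10 : allRange (fun i => Nat.beq (actX i) i) 246991 400 = true := by decide +kernel
theorem c_xq_19_11 : allRange (fun i => Nat.beq (actX i) i) 247391 400 = true := by decide +kernel
theorem c_xq_19_12 : allRange (fun i => Nat.beq (actX i) i) 247791 400 = true := by decide +kernel
theorem c_xq_19_13 : allRange (fun i => Nat.beq (actX i) i) 248191 400 = true := by decide +kernel
theorem c_xq_19_14 : allRange (fun i => Nat.beq (actX i) i) 248591 400 = true := by decide +kernel
theorem c_xq_19_15 : allRange (fun i => Nat.beq (actX i) i) 248991 400 = true := by decide +kernel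
theorem c_xq_19_16 : allRange (fun i => Nat.beq (actX i) i) 249391 400 = true := by decide +kernel
theorem c_xq_19_17 : allRange (fun i => Nat.beq (actX i) i) 249791 400 = true := by decide +kernel
theorem c_xq_19_18 : allRange (fun i => Nat.beq (actX i) i) 250191 400 = true := by decide +kernel
theorem c_xq_19_19 : allRange (fun i => Nat.beq (actX i) i) 250591 400 = true := by decide +kernel
theorem c_xq_19_20 : allRange (fun i => Nat.beq (actX i) i) 250991 400 = true := by decide +kernel
theorem c_xq_19_21 : allRange (fun i => Nat.beq (actX i) i) 251391 400 = true := by decide +kernel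
theorem c_xq_19_22 : allRange (fun i => Nat.beq (actX i) i) 251791 400 = true := by decide +kernel
theorem c_xq_19_23 : allRange (fun i => Nat.beq (actX i) i) 252191 400 = true := by decide +kernel
theorem c_xq_19_24 : allRange (fun i => Nat.beq (actX i) i) 252591 400 = true := by decide +kernel
theorem c_xq_19_25 : allRange (fun i => Nat.beq (actX i) i) 252991 400 = true := by decide +kernel
theorem c_xq_19_26 : allRange (fun i => Nat.beq (actX i) i) 253391 400 = true := by decide +kernel
theorem c_xq_19_27 : allRange (fun i => Nat.beq (actX i) i) 253791 400 = true := by decide +kernel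
theorem c_xq_19_28 : allRange (fun i => Nat.beq (actX i) i) 254191 400 = true := by decide +kernel
theorem c_xq_19_29 : allRange (fun i => Nat.beq (actX i) i) 254591 400 = true := by decide +kernel
theorem c_xq_19_30 : allRange (fun i => Nat.beq (actX i) i) 254991 400 = true := by decide +kernel
theorem c_xq_19_31 : allRange (fun i => Nat.beq (actX i) i) 255391 389 = true := by decide +kernel
theorem h_xq_p19 : ∀ i, 242991 ≤ i → i < 255780 → Nat.beq (actX i) i = true :=
  (range_glue (range_of_allRange c_xq_19_0) (range_glue (range_of_allRange c_xq_19_1) (range_glue (range_of_allRange c_xq_19_2) (range_glue (range_of_allRange c_xq_19_3) (range_glue (range_of_allRange c_xq_19_4) (range_glue (range_of_allRange c_xq_19_5) (range_glue (range_of_allRange c_xq_19_6) (range_glue (range_of_allRange c_xq_19_7) (range_glue (range_of_allRange c_xq_19_8) (range_glue (range_of_allRange c_xq_19_9) (range_glue (range_of_allRange c_xq_19_10) (range_glue (range_of_allRange c_xq_19_11) (range_glue (range_of_allRange c_xq_19_12) (range_glue (range_of_allRange c_xq_19_13) (range_glue (range_of_allRange c_xq_19_14) (range_glue (range_of_allRange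 c_xq_19_15) (range_glue (range_of_allRange c_xq_19_16) (range_glue (range_of_allRange c_xq_19_17) (range_glue (range_of_allRange c_xq_19_18) (range_glue (range_of_allRange c_xq_19_19) (range_glue (range_of_allRange c_xq_19_20) (range_glue (range_of_allRange c_xq_19_21) (range_glue (range_of_allRange c_xq_19_22) (range_glue (range_of_allRange c_xq_19_23) (range_glue (range_of_allRange c_xq_19_24) (range_glue (range_of_allRange c_xq_19_25) (range_glue (range_of_allRange c_xq_19_26) (range_glue (range_of_allRange c_xq_19_27) (range_glue (range_of_allRange c_xq_19_28) (range_glue (range_of_allRange c_xq_19_29) (range_glue (range_of_allRange c_xq_19_30) (range_of_allRange c_xq_19_31))))))))))))))))))))))))))))))))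

end Cfsg.Agent.Lib.Helper4.TCD.Fi24x29Q
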