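import Cfsg.Agent.Lib.Helper4.TCD_Fi24x29Q_Acc

namespace Cfsg.Agent.Lib.Helper4.TCD.Fi24x29Q

open Cfsg.Agent.Lib.Helper4.TC Cfsg.Agent.Lib.Helper4.TCD.Fi24a

set_option maxRecDepth 100000
set_option Elab.async false

theorem c_xq_2_0 : allRange (fun i => Nat.beq (actX i) i) 25578 400 = true := by decide +kernel
theorem c_xq_2_1 : allRange (fun i => Nat.beq (actX i) i) 25978 400 = true := by decide +kernel
theorem c_xq_2_2 : allRange (fun i => Nat.beq (actX i) i) 26378 400 = true := by decide +kernel
theorem c_xq_2_3 : allRange (fun i => Nat.beq (actX i) i) 26778 400 = true := by decide +kernel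
theorem c_xq_2_4 : allRange (fun i => Nat.beq (actX i) i) 27178 400 = true := by decide +kernel
theorem c_xq_2_5 : allRange (fun i => Nat.beq (actX i) i) 27578 400 = true := by decide +kernel
theorem c_xq_2_6 : allRange (fun i => Nat.beq (actX i) i) 27978 400 = true := by decide +kernel
theorem c_xq_2_7 : allRange (fun i => Nat.beq (actX i) i) 28378 400 = true := by decide +kernel
theorem c_xq_2_8 : allRange (fun i => Nat.beq (actX i) i) 28778 400 = true := by decide +kernel
theorem c_xq_2_9 : allRange (fun i => Nat.beq (actX i) i) 29178 400 = true := by decide +kernel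
theorem c_xq_2_10 : allRange (fun i => Nat.beq (actX i) i) 29578 400 = true := by decide +kernel
theorem c_xq_2_11 : allRange (fun i => Nat.beq (actX i) i) 29978 400 = true := by decide +kernel
theorem c_xq_2_12 : allRange (fun i => Nat.beq (actX i) i) 30378 400 = true := by decide +kernel
theorem c_xq_2_13 : allRange (fun i => Nat.beq (actX i) i) 30778 400 = true := by decide +kernel
theorem c_xq_2_14 : allRange (fun i => Nat.beq (actX i) i) 31178 400 = true := by decide +kernel
theorem c_xq_2_15 : allRange (fun i => Nat.beq (actX i) i) 31578 400 = true := by decide +kernel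
theorem c_xq_2_16 : allRange (fun i => Nat.beq (actX i) i) 31978 400 = true := by decide +kernel
theorem c_xq_2_17 : allRange (fun i => Nat.beq (actX i) i) 32378 400 = true := by decide +kernel
theorem c_xq_2_18 : allRange (fun i => Nat.beq (actX i) i) 32778 400 = true := by decide +kernel
theorem c_xq_2_19 : allRange (fun i => Nat.beq (actX i) i) 33178 400 = true := by decide +kernel
theorem c_xq_2_20 : allRange (fun i => Nat.beq (actX i) i) 33578 400 = true := by decide +kernel
theorem c_xq_2_21 : allRange (fun i => Nat.beq (actX i) i) 33978 400 = true := by decide +kernel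
theorem c_xq_2_22 : allRange (fun i => Nat.beq (actX i) i) 34378 400 = true := by decide +kernel
theorem c_xq_2_23 : allRange (fun i => Nat.beq (actX i) i) 34778 400 = true := by decide +kernel
theorem c_xq_2_24 : allRange (fun i => Nat.beq (actX i) i) 35178 400 = true := by decide +kernel
theorem c_xq_2_25 : allRange (fun i => Nat.beq (actX i) i) 35578 400 = true := by decide +kernel
theorem c_xq_2_26 : allRange (fun i => Nat.beq (actX i) i) 35978 400 = true := by decide +kernel
theorem c_xq_2_27 : allRange (fun i => Nat.beq (actX i) i) 36378 400 = true := by decide +kernel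
theorem c_xq_2_28 : allRange (fun i => Nat.beq (actX i) i) 36778 400 = true := by decide +kernel
theorem c_xq_2_29 : allRange (fun i => Nat.beq (actX i) i) 37178 400 = true := by decide +kernel
theorem c_xq_2_30 : allRange (fun i => Nat.beq (actX i) i) 37578 400 = true := by decide +kernel
theorem c_xq_2_31 : allRange (fun i => Nat.beq (actX i) i) 37978 389 = true := by decide +kernel
theorem h_xq_p2 : ∀ i, 25578 ≤ i → i < 38367 → Nat.beq (actX i) i = true :=
  (range_glue (range_of_allRange c_xq_2_0) (range_glue (range_of_allRange c_xq_2_1) (range_glue (range_of_allRange c_xq_2_2) (range_glue (range_of_allRange c_xq_2_3) (range_glue (range_of_allRange c_xq_2_4) (range_glue (range_of_allRange c_xq_2_5) (range_glue (range_of_allRange c_xq_2_6) (range_glue (range_of_allRange c_xq_2_7) (range_glue (range_of_allRange c_xq_2_8) (range_glue (range_of_allRange c_xq_2_9) (range_glue (range_of_allRange c_xq_2_10) (range_glue (range_of_allRange c_xq_2_11) (range_glue (range_of_allRange c_xq_2_12) (range_glue (range_of_allRange c_xq_2_13) (range_glue (range_of_allRange c_xq_2_14) (range_glue (range_of_allRange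 c_xq_2_15) (range_glue (range_of_allRange c_xq_2_16) (range_glue (range_of_allRange c_xq_2_17) (range_glue (range_of_allRange c_xq_2_18) (range_glue (range_of_allRange c_xq_2_19) (range_glue (range_of_allRange c_xq_2_20) (range_glue (range_of_allRange c_xq_2_21) (range_glue (range_of_allRange c_xq_2_22) (range_glue (range_of_allRange c_xq_2_23) (range_glue (range_of_allRange c_xq_2_24) (range_glue (range_of_allRange c_xq_2_25) (range_glue (range_of_allRange c_xq_2_26) (range_glue (range_of_allRange c_xq_2_27) (range_glue (range_of_allRange c_xq_2_28) (range_glue (range_of_allRange c_xq_2_29) (range_glue (range_of_allRange c_xq_2_30) (range_of_allRange c_xq_2_31))))))))))))))))))))))))))))))))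

end Cfsg.Agent.Lib.Helper4.TCD.Fi24x29Q
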