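import Cfsg.Agent.Lib.Helper4.TCD_Fi24x29Q_Acc

namespace Cfsg.Agent.Lib.Helper4.TCD.Fi24x29Q

open Cfsg.Agent.Lib.Helper4.TC Cfsg.Agent.Lib.Helper4.TCD.Fi24a

set_option maxRecDepth 100000
set_option Elab.async false

theorem c_xq_20_0 : allRange (fun i => Nat.beq (actX i) i) 255780 400 = true := by decide +kernel
theorem c_xq_20_1 : allRange (fun i => Nat.beq (actX i) i) 256180 400 = true := by decide +kernel
theorem c_xq_20_2 : allRange (fun i => Nat.beq (actX i) i) 256580 400 = true := by decide +kernel
theorem c_xq_20_3 : allRange (fun i => Nat.beq (actX i) i) 256980 400 = true := by decide +kernel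
theorem c_xq_20_4 : allRange (fun i => Nat.beq (actX i) i) 257380 400 = true := by decide +kernel
theorem c_xq_20_5 : allRange (fun i => Nat.beq (actX i) i) 257780 400 = true := by decide +kernel
theorem c_xq_20_6 : allRange (fun i => Nat.beq (actX i) i) 258180 400 = true := by decide +kernel
theorem c_xq_20_7 : allRange (fun i => Nat.beq (actX i) i) 258580 400 = true := by decide +kernel
theorem c_xq_20_8 : allRange (fun i => Nat.beq (actX i) i) 258980 400 = true := by decide +kernel
theorem c_xq_20_9 : allRange (fun i => Nat.beq (actX i) i) 259380 400 = true := by decide +kernel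
theorem c_xq_20_10 : allRange (fun i => Nat.beq (actX i) i) 259780 400 = true := by decide +kernel
theorem c_xq_20_11 : allRange (fun i => Nat.beq (actX i) i) 260180 400 = true := by decide +kernel
theorem c_xq_20_12 : allRange (fun i => Nat.beq (actX i) i) 260580 400 = true := by decide +kernel
theorem c_xq_20_13 : allRange (fun i => Nat.beq (actX i) i) 260980 400 = true := by decide +kernel
theorem c_xq_20_14 : allRange (fun i => Nat.beq (actX i) i) 261380 400 = true := by decide +kernel
theorem c_xq_20_15 : allRange (fun i => Nat.beq (actX i) i) 261780 400 = true := by decide +kernel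
theorem c_xq_20_16 : allRange (fun i => Nat.beq (actX i) i) 262180 400 = true := by decide +kernel
theorem c_xq_20_17 : allRange (fun i => Nat.beq (actX i) i) 262580 400 = true := by decide +kernel
theorem c_xq_20_18 : allRange (fun i => Nat.beq (actX i) i) 262980 400 = true := by decide +kernel
theorem c_xq_20_19 : allRange (fun i => Nat.beq (actX i) i) 263380 400 = true := by decide +kernel
theorem c_xq_20_20 : allRange (fun i => Nat.beq (actX i) i) 263780 400 = true := by decide +kernel
theorem c_xq_20_21 : allRange (fun i => Nat.beq (actX i) i) 264180 400 = true := by decide +kernel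
theorem c_xq_20_22 : allRange (fun i => Nat.beq (actX i) i) 264580 400 = true := by decide +kernel
theorem c_xq_20_23 : allRange (fun i => Nat.beq (actX i) i) 264980 400 = true := by decide +kernel
theorem c_xq_20_24 : allRange (fun i => Nat.beq (actX i) i) 265380 400 = true := by decide +kernel
theorem c_xq_20_25 : allRange (fun i => Nat.beq (actX i) i) 265780 400 = true := by decide +kernel
theorem c_xq_20_26 : allRange (fun i => Nat.beq (actX i) i) 266180 400 = true := by decide +kernel
theorem c_xq_20_27 : allRange (fun i => Nat.beq (actX i) i) 266580 400 = true := by decide +kernel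
theorem c_xq_20_28 : allRange (fun i => Nat.beq (actX i) i) 266980 400 = true := by decide +kernel
theorem c_xq_20_29 : allRange (fun i => Nat.beq (actX i) i) 267380 400 = true := by decide +kernel
theorem c_xq_20_30 : allRange (fun i => Nat.beq (actX i) i) 267780 400 = true := by decide +kernel
theorem c_xq_20_31 : allRange (fun i => Nat.beq (actX i) i) 268180 389 = true := by decide +kernel
theorem h_xq_p20 : ∀ i, 255780 ≤ i → i < 268569 → Nat.beq (actX i) i = true :=
  (range_glue (range_of_allRange c_xq_20_0) (range_glue (range_of_allRange c_xq_20_1) (range_glue (range_of_allRange c_xq_20_2) (range_glue (range_of_allRange c_xq_20_3) (range_glue (range_of_allRange c_xq_20_4) (range_glue (range_of_allRange c_xq_20_5) (range_glue (range_of_allRange c_xq_20_6) (range_glue (range_of_allRange c_xq_20_7) (range_glue (range_of_allRange c_xq_20_8) (range_glue (range_of_allRange c_xq_20_9) (range_glue (range_of_allRange c_xq_20_10) (range_glue (range_of_allRange c_xq_20_11) (range_glue (range_of_allRange c_xq_20_12) (range_glue (range_of_allRange c_xq_20_13) (range_glue (range_of_allRange c_xq_20_14) (range_glue (range_of_allRange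 c_xq_20_15) (range_glue (range_of_allRange c_xq_20_16) (range_glue (range_of_allRange c_xq_20_17) (range_glue (range_of_allRange c_xq_20_18) (range_glue (range_of_allRange c_xq_20_19) (range_glue (range_of_allRange c_xq_20_20) (range_glue (range_of_allRange c_xq_20_21) (range_glue (range_of_allRange c_xq_20_22) (range_glue (range_of_allRange c_xq_20_23) (range_glue (range_of_allRange c_xq_20_24) (range_glue (range_of_allRange c_xq_20_25) (range_glue (range_of_allRange c_xq_20_26) (range_glue (range_of_allRange c_xq_20_27) (range_glue (range_of_allRange c_xq_20_28) (range_glue (range_of_allRange c_xq_20_29) (range_glue (range_of_allRange c_xq_20_30) (range_of_allRange c_xq_20_31))))))))))))))))))))))))))))))))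

end Cfsg.Agent.Lib.Helper4.TCD.Fi24x29Q
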