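import Cfsg.Agent.Lib.Helper4.TCD_Fi24x29Q_Acc

namespace Cfsg.Agent.Lib.Helper4.TCD.Fi24x29Q

open Cfsg.Agent.Lib.Helper4.TC Cfsg.Agent.Lib.Helper4.TCD.Fi24a

set_option maxRecDepth 100000
set_option Elab.async false

theorem c_xq_21_0 : allRange (fun i => Nat.beq (actX i) i) 268569 400 = true := by decide +kernel
theorem c_xq_21_1 : allRange (fun i => Nat.beq (actX i) i) 268969 400 = true := by decide +kernel
theorem c_xq_21_2 : allRange (fun i => Nat.beq (actX i) i) 269369 400 = true := by decide +kernel
theorem c_xq_21_3 : allRange (fun i => Nat.beq (actX i) i) 269769 400 = true := by decide +kernel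
theorem c_xq_21_4 : allRange (fun i => Nat.beq (actX i) i) 270169 400 = true := by decide +kernel
theorem c_xq_21_5 : allRange (fun i => Nat.beq (actX i) i) 270569 400 = true := by decide +kernel
theorem c_xq_21_6 : allRange (fun i => Nat.beq (actX i) i) 270969 400 = true := by decide +kernel
theorem c_xq_21_7 : allRange (fun i => Nat.beq (actX i) i) 271369 400 = true := by decide +kernel
theorem c_xq_21_8 : allRange (fun i => Nat.beq (actX i) i) 271769 400 = true := by decide +kernel
theorem c_xq_21_9 : allRange (fun i => Nat.beq (actX i) i) 272169 400 = true := by decide +kernel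
theorem c_xq_21_10 : allRange (fun i => Nat.beq (actX i) i) 272569 400 = true := by decide +kernel
theorem c_xq_21_11 : allRange (fun i => Nat.beq (actX i) i) 272969 400 = true := by decide +kernel
theorem c_xq_21_12 : allRange (fun i => Nat.beq (actX i) i) 273369 400 = true := by decide +kernel
theorem c_xq_21_13 : allRange (fun i => Nat.beq (actX i) i) 273769 400 = true := by decide +kernel
theorem c_xq_21_14 : allRange (fun i => Nat.beq (actX i) i) 274169 400 = true := by decide +kernel
theorem c_xq_21_15 : allRange (fun i => Nat.beq (actX i) i) 274569 400 = true := by decide +kernel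
theorem c_xq_21_16 : allRange (fun i => Nat.beq (actX i) i) 274969 400 = true := by decide +kernel
theorem c_xq_21_17 : allRange (fun i => Nat.beq (actX i) i) 275369 400 = true := by decide +kernel
theorem c_xq_21_18 : allRange (fun i => Nat.beq (actX i) i) 275769 400 = true := by decide +kernel
theorem c_xq_21_19 : allRange (fun i => Nat.beq (actX i) i) 276169 400 = true := by decide +kernel
theorem c_xq_21_20 : allRange (fun i => Nat.beq (actX i) i) 276569 400 = true := by decide +kernel
theorem c_xq_21_21 : allRange (fun i => Nat.beq (actX i) i) 276969 400 = true := by decide +kernel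
theorem c_xq_21_22 : allRange (fun i => Nat.beq (actX i) i) 277369 400 = true := by decide +kernel
theorem c_xq_21_23 : allRange (fun i => Nat.beq (actX i) i) 277769 400 = true := by decide +kernel
theorem c_xq_21_24 : allRange (fun i => Nat.beq (actX i) i) 278169 400 = true := by decide +kernel
theorem c_xq_21_25 : allRange (fun i => Nat.beq (actX i) i) 278569 400 = true := by decide +kernel
theorem c_xq_21_26 : allRange (fun i => Nat.beq (actX i) i) 278969 400 = true := by decide +kernel
theorem c_xq_21_27 : allRange (fun i => Nat.beq (actX i) i) 279369 400 = true := by decide +kernel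
theorem c_xq_21_28 : allRange (fun i => Nat.beq (actX i) i) 279769 400 = true := by decide +kernel
theorem c_xq_21_29 : allRange (fun i => Nat.beq (actX i) i) 280169 400 = true := by decide +kernel
theorem c_xq_21_30 : allRange (fun i => Nat.beq (actX i) i) 280569 400 = true := by decide +kernel
theorem c_xq_21_31 : allRange (fun i => Nat.beq (actX i) i) 280969 389 = true := by decide +kernel
theorem h_xq_p21 : ∀ i, 268569 ≤ i → i < 281358 → Nat.beq (actX i) i = true :=
  (range_glue (range_of_allRange c_xq_21_0) (range_glue (range_of_allRange c_xq_21_1) (range_glue (range_of_allRange c_xq_21_2) (range_glue (range_of_allRange c_xq_21_3) (range_glue (range_of_allRange c_xq_21_4) (range_glue (range_of_allRange c_xq_21_5) (range_glue (range_of_allRange c_xq_21_6) (range_glue (range_of_allRange c_xq_21_7) (range_glue (range_of_allRange c_xq_21_8) (range_glue (range_of_allRange c_xq_21_9) (range_glue (range_of_allRange c_xq_21_10) (range_glue (range_of_allRange c_xq_21_11) (range_glue (range_of_allRange c_xq_21_12) (range_glue (range_of_allRange c_xq_21_13) (range_glue (range_of_allRange c_xq_21_14) (range_glue (range_of_allRange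 c_xq_21_15) (range_glue (range_of_allRange c_xq_21_16) (range_glue (range_of_allRange c_xq_21_17) (range_glue (range_of_allRange c_xq_21_18) (range_glue (range_of_allRange c_xq_21_19) (range_glue (range_of_allRange c_xq_21_20) (range_glue (range_of_allRange c_xq_21_21) (range_glue (range_of_allRange c_xq_21_22) (range_glue (range_of_allRange c_xq_21_23) (range_glue (range_of_allRange c_xq_21_24) (range_glue (range_of_allRange c_xq_21_25) (range_glue (range_of_allRange c_xq_21_26) (range_glue (range_of_allRange c_xq_21_27) (range_glue (range_of_allRange c_xq_21_28) (range_glue (range_of_allRange c_xq_21_29) (range_glue (range_of_allRange c_xq_21_30) (range_of_allRange c_xq_21_31))))))))))))))))))))))))))))))))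

end Cfsg.Agent.Lib.Helper4.TCD.Fi24x29Q
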