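import Cfsg.Agent.Lib.Helper4.TCD_Fi24x29Q_Acc

namespace Cfsg.Agent.Lib.Helper4.TCD.Fi24x29Q

open Cfsg.Agent.Lib.Helper4.TC Cfsg.Agent.Lib.Helper4.TCD.Fi24a

set_option maxRecDepth 100000
set_option Elab.async false

theorem c_xq_22_0 : allRange (fun i => Nat.beq (actX i) i) 281358 400 = true := by decide +kernel
theorem c_xq_22_1 : allRange (fun i => Nat.beq (actX i) i) 281758 400 = true := by decide +kernel
theorem c_xq_22_2 : allRange (fun i => Nat.beq (actX i) i) 282158 400 = true := by decide +kernel
theorem c_xq_22_3 : allRange (fun i => Nat.beq (actX i) i) 282558 400 = true := by decide +kernel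
theorem c_xq_22_4 : allRange (fun i => Nat.beq (actX i) i) 282958 400 = true := by decide +kernel
theorem c_xq_22_5 : allRange (fun i => Nat.beq (actX i) i) 283358 400 = true := by decide +kernel
theorem c_xq_22_6 : allRange (fun i => Nat.beq (actX i) i) 283758 400 = true := by decide +kernel
theorem c_xq_22_7 : allRange (fun i => Nat.beq (actX i) i) 284158 400 = true := by decide +kernel
theorem c_xq_22_8 : allRange (fun i => Nat.beq (actX i) i) 284558 400 = true := by decide +kernel
theorem c_xq_22_9 : allRange (fun i => Nat.beq (actX i) i) 284958 400 = true := by decide +kernel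
theorem c_xq_22_10 : allRange (fun i => Nat.beq (actX i) i) 285358 400 = true := by decide +kernel
theorem c_xq_22_11 : allRange (fun i => Nat.beq (actX i) i) 285758 400 = true := by decide +kernel
theorem c_xq_22_12 : allRange (fun i => Nat.beq (actX i) i) 286158 400 = true := by decide +kernel
theorem c_xq_22_13 : allRange (fun i => Nat.beq (actX i) i) 286558 400 = true := by decide +kernel
theorem c_xq_22_14 : allRange (fun i => Nat.beq (actX i) i) 286958 400 = true := by decide +kernel
theorem c_xq_22_15 : allRange (fun i => Nat.beq (actX i) i) 287358 400 = true := by decide +kernel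
theorem c_xq_22_16 : allRange (fun i => Nat.beq (actX i) i) 287758 400 = true := by decide +kernel
theorem c_xq_22_17 : allRange (fun i => Nat.beq (actX i) i) 288158 400 = true := by decide +kernel
theorem c_xq_22_18 : allRange (fun i => Nat.beq (actX i) i) 288558 400 = true := by decide +kernel
theorem c_xq_22_19 : allRange (fun i => Nat.beq (actX i) i) 288958 400 = true := by decide +kernel
theorem c_xq_22_20 : allRange (fun i => Nat.beq (actX i) i) 289358 400 = true := by decide +kernel
theorem c_xq_22_21 : allRange (fun i => Nat.beq (actX i) i) 289758 400 = true := by decide +kernel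
theorem c_xq_22_22 : allRange (fun i => Nat.beq (actX i) i) 290158 400 = true := by decide +kernel
theorem c_xq_22_23 : allRange (fun i => Nat.beq (actX i) i) 290558 400 = true := by decide +kernel
theorem c_xq_22_24 : allRange (fun i => Nat.beq (actX i) i) 290958 400 = true := by decide +kernel
theorem c_xq_22_25 : allRange (fun i => Nat.beq (actX i) i) 291358 400 = true := by decide +kernel
theorem c_xq_22_26 : allRange (fun i => Nat.beq (actX i) i) 291758 400 = true := by decide +kernel
theorem c_xq_22_27 : allRange (fun i => Nat.beq (actX i) i) 292158 400 = true := by decide +kernel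
theorem c_xq_22_28 : allRange (fun i => Nat.beq (actX i) i) 292558 400 = true := by decide +kernel
theorem c_xq_22_29 : allRange (fun i => Nat.beq (actX i) i) 292958 400 = true := by decide +kernel
theorem c_xq_22_30 : allRange (fun i => Nat.beq (actX i) i) 293358 400 = true := by decide +kernel
theorem c_xq_22_31 : allRange (fun i => Nat.beq (actX i) i) 293758 389 = true := by decide +kernel
theorem h_xq_p22 : ∀ i, 281358 ≤ i → i < 294147 → Nat.beq (actX i) i = true :=
  (range_glue (range_of_allRange c_xq_22_0) (range_glue (range_of_allRange c_xq_22_1) (range_glue (range_of_allRange c_xq_22_2) (range_glue (range_of_allRange c_xq_22_3) (range_glue (range_of_allRange c_xq_22_4) (range_glue (range_of_allRange c_xq_22_5) (range_glue (range_of_allRange c_xq_22_6) (range_glue (range_of_allRange c_xq_22_7) (range_glue (range_of_allRange c_xq_22_8) (range_glue (range_of_allRange c_xq_22_9) (range_glue (range_of_allRange c_xq_22_10) (range_glue (range_of_allRange c_xq_22_11) (range_glue (range_of_allRange c_xq_22_12) (range_glue (range_of_allRange c_xq_22_13) (range_glue (range_of_allRange c_xq_22_14) (range_glue (range_of_allRange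 c_xq_22_15) (range_glue (range_of_allRange c_xq_22_16) (range_glue (range_of_allRange c_xq_22_17) (range_glue (range_of_allRange c_xq_22_18) (range_glue (range_of_allRange c_xq_22_19) (range_glue (range_of_allRange c_xq_22_20) (range_glue (range_of_allRange c_xq_22_21) (range_glue (range_of_allRange c_xq_22_22) (range_glue (range_of_allRange c_xq_22_23) (range_glue (range_of_allRange c_xq_22_24) (range_glue (range_of_allRange c_xq_22_25) (range_glue (range_of_allRange c_xq_22_26) (range_glue (range_of_allRange c_xq_22_27) (range_glue (range_of_allRange c_xq_22_28) (range_glue (range_of_allRange c_xq_22_29) (range_glue (range_of_allRange c_xq_22_30) (range_of_allRange c_xq_22_31))))))))))))))))))))))))))))))))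

end Cfsg.Agent.Lib.Helper4.TCD.Fi24x29Q
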