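import Cfsg.Agent.Lib.Helper4.TCD_Fi24x29Q_Acc

namespace Cfsg.Agent.Lib.Helper4.TCD.Fi24x29Q

open Cfsg.Agent.Lib.Helper4.TC Cfsg.Agent.Lib.Helper4.TCD.Fi24a

set_option maxRecDepth 100000
set_option Elab.async false

theorem c_xq_23_0 : allRange (fun i => Nat.beq (actX i) i) 294147 400 = true := by decide +kernel
theorem c_xq_23_1 : allRange (fun i => Nat.beq (actX i) i) 294547 400 = true := by decide +kernel
theorem c_xq_23_2 : allRange (fun i => Nat.beq (actX i) i) 294947 400 = true := by decide +kernel
theorem c_xq_23_3 : allRange (fun i => Nat.beq (actX i) i) 295347 400 = true := by decide +kernel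
theorem c_xq_23_4 : allRange (fun i => Nat.beq (actX i) i) 295747 400 = true := by decide +kernel
theorem c_xq_23_5 : allRange (fun i => Nat.beq (actX i) i) 296147 400 = true := by decide +kernel
theorem c_xq_23_6 : allRange (fun i => Nat.beq (actX i) i) 296547 400 = true := by decide +kernel
theorem c_xq_23_7 : allRange (fun i => Nat.beq (actX i) i) 296947 400 = true := by decide +kernel
theorem c_xq_23_8 : allRange (fun i => Nat.beq (actX i) i) 297347 400 = true := by decide +kernel
theorem c_xq_23_9 : allRange (fun i => Nat.beq (actX i) i) 297747 400 = true := by decide +kernel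
theorem c_xq_23_10 : allRange (fun i => Nat.beq (actX i) i) 298147 400 = true := by decide +kernel
theorem c_xq_23_11 : allRange (fun i => Nat.beq (actX i) i) 298547 400 = true := by decide +kernel
theorem c_xq_23_12 : allRange (fun i => Nat.beq (actX i) i) 298947 400 = true := by decide +kernel
theorem c_xq_23_13 : allRange (fun i => Nat.beq (actX i) i) 299347 400 = true := by decide +kernel
theorem c_xq_23_14 : allRange (fun i => Nat.beq (actX i) i) 299747 400 = true := by decide +kernel
theorem c_xq_23_15 : allRange (fun i => Nat.beq (actX i) i) 300147 400 = true := by decide +kernel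
theorem c_xq_23_16 : allRange (fun i => Nat.beq (actX i) i) 300547 400 = true := by decide +kernel
theorem c_xq_23_17 : allRange (fun i => Nat.beq (actX i) i) 300947 400 = true := by decide +kernel
theorem c_xq_23_18 : allRange (fun i => Nat.beq (actX i) i) 301347 400 = true := by decide +kernel
theorem c_xq_23_19 : allRange (fun i => Nat.beq (actX i) i) 301747 400 = true := by decide +kernel
theorem c_xq_23_20 : allRange (fun i => Nat.beq (actX i) i) 302147 400 = true := by decide +kernel
theorem c_xq_23_21 : allRange (fun i => Nat.beq (actX i) i) 302547 400 = true := by decide +kernel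
theorem c_xq_23_22 : allRange (fun i => Nat.beq (actX i) i) 302947 400 = true := by decide +kernel
theorem c_xq_23_23 : allRange (fun i => Nat.beq (actX i) i) 303347 400 = true := by decide +kernel
theorem c_xq_23_24 : allRange (fun i => Nat.beq (actX i) i) 303747 400 = true := by decide +kernel
theorem c_xq_23_25 : allRange (fun i => Nat.beq (actX i) i) 304147 400 = true := by decide +kernel
theorem c_xq_23_26 : allRange (fun i => Nat.beq (actX i) i) 304547 400 = true := by decide +kernel
theorem c_xq_23_27 : allRange (fun i => Nat.beq (actX i) i) 304947 400 = true := by decide +kernel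
theorem c_xq_23_28 : allRange (fun i => Nat.beq (actX i) i) 305347 400 = true := by decide +kernel
theorem c_xq_23_29 : allRange (fun i => Nat.beq (actX i) i) 305747 400 = true := by decide +kernel
theorem c_xq_23_30 : allRange (fun i => Nat.beq (actX i) i) 306147 400 = true := by decide +kernel
theorem c_xq_23_31 : allRange (fun i => Nat.beq (actX i) i) 306547 389 = true := by decide +kernel
theorem h_xq_p23 : ∀ i, 294147 ≤ i → i < 306936 → Nat.beq (actX i) i = true :=
  (range_glue (range_of_allRange c_xq_23_0) (range_glue (range_of_allRange c_xq_23_1) (range_glue (range_of_allRange c_xq_23_2) (range_glue (range_of_allRange c_xq_23_3) (range_glue (range_of_allRange c_xq_23_4) (range_glue (range_of_allRange c_xq_23_5) (range_glue (range_of_allRange c_xq_23_6) (range_glue (range_of_allRange c_xq_23_7) (range_glue (range_of_allRange c_xq_23_8) (range_glue (range_of_allRange c_xq_23_9) (range_glue (range_of_allRange c_xq_23_10) (range_glue (range_of_allRange c_xq_23_11) (range_glue (range_of_allRange c_xq_23_12) (range_glue (range_of_allRange c_xq_23_13) (range_glue (range_of_allRange c_xq_23_14) (range_glue (range_of_allRange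 c_xq_23_15) (range_glue (range_of_allRange c_xq_23_16) (range_glue (range_of_allRange c_xq_23_17) (range_glue (range_of_allRange c_xq_23_18) (range_glue (range_of_allRange c_xq_23_19) (range_glue (range_of_allRange c_xq_23_20) (range_glue (range_of_allRange c_xq_23_21) (range_glue (range_of_allRange c_xq_23_22) (range_glue (range_of_allRange c_xq_23_23) (range_glue (range_of_allRange c_xq_23_24) (range_glue (range_of_allRange c_xq_23_25) (range_glue (range_of_allRange c_xq_23_26) (range_glue (range_of_allRange c_xq_23_27) (range_glue (range_of_allRange c_xq_23_28) (range_glue (range_of_allRange c_xq_23_29) (range_glue (range_of_allRange c_xq_23_30) (range_of_allRange c_xq_23_31))))))))))))))))))))))))))))))))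

end Cfsg.Agent.Lib.Helper4.TCD.Fi24x29Q
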