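import Cfsg.Agent.Lib.Helper4.TCD_Fi24x29Q_Acc

namespace Cfsg.Agent.Lib.Helper4.TCD.Fi24x29Q

open Cfsg.Agent.Lib.Helper4.TC Cfsg.Agent.Lib.Helper4.TCD.Fi24a

set_option maxRecDepth 100000
set_option Elab.async false

theorem c_xq_3_0 : allRange (fun i => Nat.beq (actX i) i) 38367 400 = true := by decide +kernel
theorem c_xq_3_1 : allRange (fun i => Nat.beq (actX i) i) 38767 400 = true := by decide +kernel
theorem c_xq_3_2 : allRange (fun i => Nat.beq (actX i) i) 39167 400 = true := by decide +kernel
theorem c_xq_3_3 : allRange (fun i => Nat.beq (actX i) i) 39567 400 = true := by decide +kernel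
theorem c_xq_3_4 : allRange (fun i => Nat.beq (actX i) i) 39967 400 = true := by decide +kernel
theorem c_xq_3_5 : allRange (fun i => Nat.beq (actX i) i) 40367 400 = true := by decide +kernel
theorem c_xq_3_6 : allRange (fun i => Nat.beq (actX i) i) 40767 400 = true := by decide +kernel
theorem c_xq_3_7 : allRange (fun i => Nat.beq (actX i) i) 41167 400 = true := by decide +kernel
theorem c_xq_3_8 : allRange (fun i => Nat.beq (actX i) i) 41567 400 = true := by decide +kernel
theorem c_xq_3_9 : allRange (fun i => Nat.beq (actX i) i) 41967 400 = true := by decide +kernel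
theorem c_xq_3_10 : allRange (fun i => Nat.beq (actX i) i) 42367 400 = true := by decide +kernel
theorem c_xq_3_11 : allRange (fun i => Nat.beq (actX i) i) 42767 400 = true := by decide +kernel
theorem c_xq_3_12 : allRange (fun i => Nat.beq (actX i) i) 43167 400 = true := by decide +kernel
theorem c_xq_3_13 : allRange (fun i => Nat.beq (actX i) i) 43567 400 = true := by decide +kernel
theorem c_xq_3_14 : allRange (fun i => Nat.beq (actX i) i) 43967 400 = true := by decide +kernel
theorem c_xq_3_15 : allRange (fun i => Nat.beq (actX i) i) 44367 400 = true := by decide +kernel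
theorem c_xq_3_16 : allRange (fun i => Nat.beq (actX i) i) 44767 400 = true := by decide +kernel
theorem c_xq_3_17 : allRange (fun i => Nat.beq (actX i) i) 45167 400 = true := by decide +kernel
theorem c_xq_3_18 : allRange (fun i => Nat.beq (actX i) i) 45567 400 = true := by decide +kernel
theorem c_xq_3_19 : allRange (fun i => Nat.beq (actX i) i) 45967 400 = true := by decide +kernel
theorem c_xq_3_20 : allRange (fun i => Nat.beq (actX i) i) 46367 400 = true := by decide +kernel
theorem c_xq_3_21 : allRange (fun i => Nat.beq (actX i) i) 46767 400 = true := by decide +kernel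
theorem c_xq_3_22 : allRange (fun i => Nat.beq (actX i) i) 47167 400 = true := by decide +kernel
theorem c_xq_3_23 : allRange (fun i => Nat.beq (actX i) i) 47567 400 = true := by decide +kernel
theorem c_xq_3_24 : allRange (fun i => Nat.beq (actX i) i) 47967 400 = true := by decide +kernel
theorem c_xq_3_25 : allRange (fun i => Nat.beq (actX i) i) 48367 400 = true := by decide +kernel
theorem c_xq_3_26 : allRange (fun i => Nat.beq (actX i) i) 48767 400 = true := by decide +kernel
theorem c_xq_3_27 : allRange (fun i => Nat.beq (actX i) i) 49167 400 = true := by decide +kernel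
theorem c_xq_3_28 : allRange (fun i => Nat.beq (actX i) i) 49567 400 = true := by decide +kernel
theorem c_xq_3_29 : allRange (fun i => Nat.beq (actX i) i) 49967 400 = true := by decide +kernel
theorem c_xq_3_30 : allRange (fun i => Nat.beq (actX i) i) 50367 400 = true := by decide +kernel
theorem c_xq_3_31 : allRange (fun i => Nat.beq (actX i) i) 50767 389 = true := by decide +kernel
theorem h_xq_p3 : ∀ i, 38367 ≤ i → i < 51156 → Nat.beq (actX i) i = true :=
  (range_glue (range_of_allRange c_xq_3_0) (range_glue (range_of_allRange c_xq_3_1) (range_glue (range_of_allRange c_xq_3_2) (range_glue (range_of_allRange c_xq_3_3) (range_glue (range_of_allRange c_xq_3_4) (range_glue (range_of_allRange c_xq_3_5) (range_glue (range_of_allRange c_xq_3_6) (range_glue (range_of_allRange c_xq_3_7) (range_glue (range_of_allRange c_xq_3_8) (range_glue (range_of_allRange c_xq_3_9) (range_glue (range_of_allRange c_xq_3_10) (range_glue (range_of_allRange c_xq_3_11) (range_glue (range_of_allRange c_xq_3_12) (range_glue (range_of_allRange c_xq_3_13) (range_glue (range_of_allRange c_xq_3_14) (range_glue (range_of_allRange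 c_xq_3_15) (range_glue (range_of_allRange c_xq_3_16) (range_glue (range_of_allRange c_xq_3_17) (range_glue (range_of_allRange c_xq_3_18) (range_glue (range_of_allRange c_xq_3_19) (range_glue (range_of_allRange c_xq_3_20) (range_glue (range_of_allRange c_xq_3_21) (range_glue (range_of_allRange c_xq_3_22) (range_glue (range_of_allRange c_xq_3_23) (range_glue (range_of_allRange c_xq_3_24) (range_glue (range_of_allRange c_xq_3_25) (range_glue (range_of_allRange c_xq_3_26) (range_glue (range_of_allRange c_xq_3_27) (range_glue (range_of_allRange c_xq_3_28) (range_glue (range_of_allRange c_xq_3_29) (range_glue (range_of_allRange c_xq_3_30) (range_of_allRange c_xq_3_31))))))))))))))))))))))))))))))))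

end Cfsg.Agent.Lib.Helper4.TCD.Fi24x29Q
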