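import Cfsg.Agent.Lib.Helper4.TCD_Fi24x29Q_Acc

namespace Cfsg.Agent.Lib.Helper4.TCD.Fi24x29Q

open Cfsg.Agent.Lib.Helper4.TC Cfsg.Agent.Lib.Helper4.TCD.Fi24a

set_option maxRecDepth 100000
set_option Elab.async false

theorem c_xq_4_0 : allRange (fun i => Nat.beq (actX i) i) 51156 400 = true := by decide +kernel
theorem c_xq_4_1 : allRange (fun i => Nat.beq (actX i) i) 51556 400 = true := by decide +kernel
theorem c_xq_4_2 : allRange (fun i => Nat.beq (actX i) i) 51956 400 = true := by decide +kernel
theorem c_xq_4_3 : allRange (fun i => Nat.beq (actX i) i) 52356 400 = true := by decide +kernel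
theorem c_xq_4_4 : allRange (fun i => Nat.beq (actX i) i) 52756 400 = true := by decide +kernel
theorem c_xq_4_5 : allRange (fun i => Nat.beq (actX i) i) 53156 400 = true := by decide +kernel
theorem c_xq_4_6 : allRange (fun i => Nat.beq (actX i) i) 53556 400 = true := by decide +kernel
theorem c_xq_4_7 : allRange (fun i => Nat.beq (actX i) i) 53956 400 = true := by decide +kernel
theorem c_xq_4_8 : allRange (fun i => Nat.beq (actX i) i) 54356 400 = true := by decide +kernel
theorem c_xq_4_9 : allRange (fun i => Nat.beq (actX i) i) 54756 400 = true := by decide +kernel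
theorem c_xq_4_10 : allRange (fun i => Nat.beq (actX i) i) 55156 400 = true := by decide +kernel
theorem c_xq_4_11 : allRange (fun i => Nat.beq (actX i) i) 55556 400 = true := by decide +kernel
theorem c_xq_4_12 : allRange (fun i => Nat.beq (actX i) i) 55956 400 = true := by decide +kernel
theorem c_xq_4_13 : allRange (fun i => Nat.beq (actX i) i) 56356 400 = true := by decide +kernel
theorem c_xq_4_14 : allRange (fun i => Nat.beq (actX i) i) 56756 400 = true := by decide +kernel
theorem c_xq_4_15 : allRange (fun i => Nat.beq (actX i) i) 57156 400 = true := by decide +kernel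
theorem c_xq_4_16 : allRange (fun i => Nat.beq (actX i) i) 57556 400 = true := by decide +kernel
theorem c_xq_4_17 : allRange (fun i => Nat.beq (actX i) i) 57956 400 = true := by decide +kernel
theorem c_xq_4_18 : allRange (fun i => Nat.beq (actX i) i) 58356 400 = true := by decide +kernel
theorem c_xq_4_19 : allRange (fun i => Nat.beq (actX i) i) 58756 400 = true := by decide +kernel
theorem c_xq_4_20 : allRange (fun i => Nat.beq (actX i) i) 59156 400 = true := by decide +kernel
theorem c_xq_4_21 : allRange (fun i => Nat.beq (actX i) i) 59556 400 = true := by decide +kernel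
theorem c_xq_4_22 : allRange (fun i => Nat.beq (actX i) i) 59956 400 = true := by decide +kernel
theorem c_xq_4_23 : allRange (fun i => Nat.beq (actX i) i) 60356 400 = true := by decide +kernel
theorem c_xq_4_24 : allRange (fun i => Nat.beq (actX i) i) 60756 400 = true := by decide +kernel
theorem c_xq_4_25 : allRange (fun i => Nat.beq (actX i) i) 61156 400 = true := by decide +kernel
theorem c_xq_4_26 : allRange (fun i => Nat.beq (actX i) i) 61556 400 = true := by decide +kernel
theorem c_xq_4_27 : allRange (fun i => Nat.beq (actX i) i) 61956 400 = true := by decide +kernel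
theorem c_xq_4_28 : allRange (fun i => Nat.beq (actX i) i) 62356 400 = true := by decide +kernel
theorem c_xq_4_29 : allRange (fun i => Nat.beq (actX i) i) 62756 400 = true := by decide +kernel
theorem c_xq_4_30 : allRange (fun i => Nat.beq (actX i) i) 63156 400 = true := by decide +kernel
theorem c_xq_4_31 : allRange (fun i => Nat.beq (actX i) i) 63556 389 = true := by decide +kernel
theorem h_xq_p4 : ∀ i, 51156 ≤ i → i < 63945 → Nat.beq (actX i) i = true :=
  (range_glue (range_of_allRange c_xq_4_0) (range_glue (range_of_allRange c_xq_4_1) (range_glue (range_of_allRange c_xq_4_2) (range_glue (range_of_allRange c_xq_4_3) (range_glue (range_of_allRange c_xq_4_4) (range_glue (range_of_allRange c_xq_4_5) (range_glue (range_of_allRange c_xq_4_6) (range_glue (range_of_allRange c_xq_4_7) (range_glue (range_of_allRange c_xq_4_8) (range_glue (range_of_allRange c_xq_4_9) (range_glue (range_of_allRange c_xq_4_10) (range_glue (range_of_allRange c_xq_4_11) (range_glue (range_of_allRange c_xq_4_12) (range_glue (range_of_allRange c_xq_4_13) (range_glue (range_of_allRange c_xq_4_14) (range_glue (range_of_allRange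 c_xq_4_15) (range_glue (range_of_allRange c_xq_4_16) (range_glue (range_of_allRange c_xq_4_17) (range_glue (range_of_allRange c_xq_4_18) (range_glue (range_of_allRange c_xq_4_19) (range_glue (range_of_allRange c_xq_4_20) (range_glue (range_of_allRange c_xq_4_21) (range_glue (range_of_allRange c_xq_4_22) (range_glue (range_of_allRange c_xq_4_23) (range_glue (range_of_allRange c_xq_4_24) (range_glue (range_of_allRange c_xq_4_25) (range_glue (range_of_allRange c_xq_4_26) (range_glue (range_of_allRange c_xq_4_27) (range_glue (range_of_allRange c_xq_4_28) (range_glue (range_of_allRange c_xq_4_29) (range_glue (range_of_allRange c_xq_4_30) (range_of_allRange c_xq_4_31))))))))))))))))))))))))))))))))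

end Cfsg.Agent.Lib.Helper4.TCD.Fi24x29Q
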