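import Cfsg.Agent.Lib.Helper4.TCD_Fi24x29Q_Acc

namespace Cfsg.Agent.Lib.Helper4.TCD.Fi24x29Q

open Cfsg.Agent.Lib.Helper4.TC Cfsg.Agent.Lib.Helper4.TCD.Fi24a

set_option maxRecDepth 100000
set_option Elab.async false

theorem c_xq_5_0 : allRange (fun i => Nat.beq (actX i) i) 63945 400 = true := by decide +kernel
theorem c_xq_5_1 : allRange (fun i => Nat.beq (actX i) i) 64345 400 = true := by decide +kernel
theorem c_xq_5_2 : allRange (fun i => Nat.beq (actX i) i) 64745 400 = true := by decide +kernel
theorem c_xq_5_3 : allRange (fun i => Nat.beq (actX i) i) 65145 400 = true := by decide +kernel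
theorem c_xq_5_4 : allRange (fun i => Nat.beq (actX i) i) 65545 400 = true := by decide +kernel
theorem c_xq_5_5 : allRange (fun i => Nat.beq (actX i) i) 65945 400 = true := by decide +kernel
theorem c_xq_5_6 : allRange (fun i => Nat.beq (actX i) i) 66345 400 = true := by decide +kernel
theorem c_xq_5_7 : allRange (fun i => Nat.beq (actX i) i) 66745 400 = true := by decide +kernel
theorem c_xq_5_8 : allRange (fun i => Nat.beq (actX i) i) 67145 400 = true := by decide +kernel
theorem c_xq_5_9 : allRange (fun i => Nat.beq (actX i) i) 67545 400 = true := by decide +kernel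
theorem c_xq_5_10 : allRange (fun i => Nat.beq (actX i) i) 67945 400 = true := by decide +kernel
theorem c_xq_5_11 : allRange (fun i => Nat.beq (actX i) i) 68345 400 = true := by decide +kernel
theorem c_xq_5_12 : allRange (fun i => Nat.beq (actX i) i) 68745 400 = true := by decide +kernel
theorem c_xq_5_13 : allRange (fun i => Nat.beq (actX i) i) 69145 400 = true := by decide +kernel
theorem c_xq_5_14 : allRange (fun i => Nat.beq (actX i) i) 69545 400 = true := by decide +kernel
theorem c_xq_5_15 : allRange (fun i => Nat.beq (actX i) i) 69945 400 = true := by decide +kernel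
theorem c_xq_5_16 : allRange (fun i => Nat.beq (actX i) i) 70345 400 = true := by decide +kernel
theorem c_xq_5_17 : allRange (fun i => Nat.beq (actX i) i) 70745 400 = true := by decide +kernel
theorem c_xq_5_18 : allRange (fun i => Nat.beq (actX i) i) 71145 400 = true := by decide +kernel
theorem c_xq_5_19 : allRange (fun i => Nat.beq (actX i) i) 71545 400 = true := by decide +kernel
theorem c_xq_5_20 : allRange (fun i => Nat.beq (actX i) i) 71945 400 = true := by decide +kernel
theorem c_xq_5_21 : allRange (fun i => Nat.beq (actX i) i) 72345 400 = true := by decide +kernel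
theorem c_xq_5_22 : allRange (fun i => Nat.beq (actX i) i) 72745 400 = true := by decide +kernel
theorem c_xq_5_23 : allRange (fun i => Nat.beq (actX i) i) 73145 400 = true := by decide +kernel
theorem c_xq_5_24 : allRange (fun i => Nat.beq (actX i) i) 73545 400 = true := by decide +kernel
theorem c_xq_5_25 : allRange (fun i => Nat.beq (actX i) i) 73945 400 = true := by decide +kernel
theorem c_xq_5_26 : allRange (fun i => Nat.beq (actX i) i) 74345 400 = true := by decide +kernel
theorem c_xq_5_27 : allRange (fun i => Nat.beq (actX i) i) 74745 400 = true := by decide +kernel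
theorem c_xq_5_28 : allRange (fun i => Nat.beq (actX i) i) 75145 400 = true := by decide +kernel
theorem c_xq_5_29 : allRange (fun i => Nat.beq (actX i) i) 75545 400 = true := by decide +kernel
theorem c_xq_5_30 : allRange (fun i => Nat.beq (actX i) i) 75945 400 = true := by decide +kernel
theorem c_xq_5_31 : allRange (fun i => Nat.beq (actX i) i) 76345 389 = true := by decide +kernel
theorem h_xq_p5 : ∀ i, 63945 ≤ i → i < 76734 → Nat.beq (actX i) i = true :=
  (range_glue (range_of_allRange c_xq_5_0) (range_glue (range_of_allRange c_xq_5_1) (range_glue (range_of_allRange c_xq_5_2) (range_glue (range_of_allRange c_xq_5_3) (range_glue (range_of_allRange c_xq_5_4) (range_glue (range_of_allRange c_xq_5_5) (range_glue (range_of_allRange c_xq_5_6) (range_glue (range_of_allRange c_xq_5_7) (range_glue (range_of_allRange c_xq_5_8) (range_glue (range_of_allRange c_xq_5_9) (range_glue (range_of_allRange c_xq_5_10) (range_glue (range_of_allRange c_xq_5_11) (range_glue (range_of_allRange c_xq_5_12) (range_glue (range_of_allRange c_xq_5_13) (range_glue (range_of_allRange c_xq_5_14) (range_glue (range_of_allRange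 c_xq_5_15) (range_glue (range_of_allRange c_xq_5_16) (range_glue (range_of_allRange c_xq_5_17) (range_glue (range_of_allRange c_xq_5_18) (range_glue (range_of_allRange c_xq_5_19) (range_glue (range_of_allRange c_xq_5_20) (range_glue (range_of_allRange c_xq_5_21) (range_glue (range_of_allRange c_xq_5_22) (range_glue (range_of_allRange c_xq_5_23) (range_glue (range_of_allRange c_xq_5_24) (range_glue (range_of_allRange c_xq_5_25) (range_glue (range_of_allRange c_xq_5_26) (range_glue (range_of_allRange c_xq_5_27) (range_glue (range_of_allRange c_xq_5_28) (range_glue (range_of_allRange c_xq_5_29) (range_glue (range_of_allRange c_xq_5_30) (range_of_allRange c_xq_5_31))))))))))))))))))))))))))))))))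

end Cfsg.Agent.Lib.Helper4.TCD.Fi24x29Q
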