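import Cfsg.Agent.Lib.Helper4.TCD_Fi24x29Q_Acc

namespace Cfsg.Agent.Lib.Helper4.TCD.Fi24x29Q

open Cfsg.Agent.Lib.Helper4.TC Cfsg.Agent.Lib.Helper4.TCD.Fi24a

set_option maxRecDepth 100000
set_option Elab.async false

theorem c_xq_6_0 : allRange (fun i => Nat.beq (actX i) i) 76734 400 = true := by decide +kernel
theorem c_xq_6_1 : allRange (fun i => Nat.beq (actX i) i) 77134 400 = true := by decide +kernel
theorem c_xq_6_2 : allRange (fun i => Nat.beq (actX i) i) 77534 400 = true := by decide +kernel
theorem c_xq_6_3 : allRange (fun i => Nat.beq (actX i) i) 77934 400 = true := by decide +kernel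
theorem c_xq_6_4 : allRange (fun i => Nat.beq (actX i) i) 78334 400 = true := by decide +kernel
theorem c_xq_6_5 : allRange (fun i => Nat.beq (actX i) i) 78734 400 = true := by decide +kernel
theorem c_xq_6_6 : allRange (fun i => Nat.beq (actX i) i) 79134 400 = true := by decide +kernel
theorem c_xq_6_7 : allRange (fun i => Nat.beq (actX i) i) 79534 400 = true := by decide +kernel
theorem c_xq_6_8 : allRange (fun i => Nat.beq (actX i) i) 79934 400 = true := by decide +kernel
theorem c_xq_6_9 : allRange (fun i => Nat.beq (actX i) i) 80334 400 = true := by decide +kernel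
theorem c_xq_6_10 : allRange (fun i => Nat.beq (actX i) i) 80734 400 = true := by decide +kernel
theorem c_xq_6_11 : allRange (fun i => Nat.beq (actX i) i) 81134 400 = true := by decide +kernel
theorem c_xq_6_12 : allRange (fun i => Nat.beq (actX i) i) 81534 400 = true := by decide +kernel
theorem c_xq_6_13 : allRange (fun i => Nat.beq (actX i) i) 81934 400 = true := by decide +kernel
theorem c_xq_6_14 : allRange (fun i => Nat.beq (actX i) i) 82334 400 = true := by decide +kernel
theorem c_xq_6_15 : allRange (fun i => Nat.beq (actX i) i) 82734 400 = true := by decide +kernel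
theorem c_xq_6_16 : allRange (fun i => Nat.beq (actX i) i) 83134 400 = true := by decide +kernel
theorem c_xq_6_17 : allRange (fun i => Nat.beq (actX i) i) 83534 400 = true := by decide +kernel
theorem c_xq_6_18 : allRange (fun i => Nat.beq (actX i) i) 83934 400 = true := by decide +kernel
theorem c_xq_6_19 : allRange (fun i => Nat.beq (actX i) i) 84334 400 = true := by decide +kernel
theorem c_xq_6_20 : allRange (fun i => Nat.beq (actX i) i) 84734 400 = true := by decide +kernel
theorem c_xq_6_21 : allRange (fun i => Nat.beq (actX i) i) 85134 400 = true := by decide +kernel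
theorem c_xq_6_22 : allRange (fun i => Nat.beq (actX i) i) 85534 400 = true := by decide +kernel
theorem c_xq_6_23 : allRange (fun i => Nat.beq (actX i) i) 85934 400 = true := by decide +kernel
theorem c_xq_6_24 : allRange (fun i => Nat.beq (actX i) i) 86334 400 = true := by decide +kernel
theorem c_xq_6_25 : allRange (fun i => Nat.beq (actX i) i) 86734 400 = true := by decide +kernel
theorem c_xq_6_26 : allRange (fun i => Nat.beq (actX i) i) 87134 400 = true := by decide +kernel
theorem c_xq_6_27 : allRange (fun i => Nat.beq (actX i) i) 87534 400 = true := by decide +kernel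
theorem c_xq_6_28 : allRange (fun i => Nat.beq (actX i) i) 87934 400 = true := by decide +kernel
theorem c_xq_6_29 : allRange (fun i => Nat.beq (actX i) i) 88334 400 = true := by decide +kernel
theorem c_xq_6_30 : allRange (fun i => Nat.beq (actX i) i) 88734 400 = true := by decide +kernel
theorem c_xq_6_31 : allRange (fun i => Nat.beq (actX i) i) 89134 389 = true := by decide +kernel
theorem h_xq_p6 : ∀ i, 76734 ≤ i → i < 89523 → Nat.beq (actX i) i = true :=
  (range_glue (range_of_allRange c_xq_6_0) (range_glue (range_of_allRange c_xq_6_1) (range_glue (range_of_allRange c_xq_6_2) (range_glue (range_of_allRange c_xq_6_3) (range_glue (range_of_allRange c_xq_6_4) (range_glue (range_of_allRange c_xq_6_5) (range_glue (range_of_allRange c_xq_6_6) (range_glue (range_of_allRange c_xq_6_7) (range_glue (range_of_allRange c_xq_6_8) (range_glue (range_of_allRange c_xq_6_9) (range_glue (range_of_allRange c_xq_6_10) (range_glue (range_of_allRange c_xq_6_11) (range_glue (range_of_allRange c_xq_6_12) (range_glue (range_of_allRange c_xq_6_13) (range_glue (range_of_allRange c_xq_6_14) (range_glue (range_of_allRange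 c_xq_6_15) (range_glue (range_of_allRange c_xq_6_16) (range_glue (range_of_allRange c_xq_6_17) (range_glue (range_of_allRange c_xq_6_18) (range_glue (range_of_allRange c_xq_6_19) (range_glue (range_of_allRange c_xq_6_20) (range_glue (range_of_allRange c_xq_6_21) (range_glue (range_of_allRange c_xq_6_22) (range_glue (range_of_allRange c_xq_6_23) (range_glue (range_of_allRange c_xq_6_24) (range_glue (range_of_allRange c_xq_6_25) (range_glue (range_of_allRange c_xq_6_26) (range_glue (range_of_allRange c_xq_6_27) (range_glue (range_of_allRange c_xq_6_28) (range_glue (range_of_allRange c_xq_6_29) (range_glue (range_of_allRange c_xq_6_30) (range_of_allRange c_xq_6_31))))))))))))))))))))))))))))))))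

end Cfsg.Agent.Lib.Helper4.TCD.Fi24x29Q
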