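import Cfsg.Agent.Lib.Helper4.TCD_Fi24x29Q_Acc

namespace Cfsg.Agent.Lib.Helper4.TCD.Fi24x29Q

open Cfsg.Agent.Lib.Helper4.TC Cfsg.Agent.Lib.Helper4.TCD.Fi24a

set_option maxRecDepth 100000
set_option Elab.async false

theorem c_xq_7_0 : allRange (fun i => Nat.beq (actX i) i) 89523 400 = true := by decide +kernel
theorem c_xq_7_1 : allRange (fun i => Nat.beq (actX i) i) 89923 400 = true := by decide +kernel
theorem c_xq_7_2 : allRange (fun i => Nat.beq (actX i) i) 90323 400 = true := by decide +kernel
theorem c_xq_7_3 : allRange (fun i => Nat.beq (actX i) i) 90723 400 = true := by decide +kernel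
theorem c_xq_7_4 : allRange (fun i => Nat.beq (actX i) i) 91123 400 = true := by decide +kernel
theorem c_xq_7_5 : allRange (fun i => Nat.beq (actX i) i) 91523 400 = true := by decide +kernel
theorem c_xq_7_6 : allRange (fun i => Nat.beq (actX i) i) 91923 400 = true := by decide +kernel
theorem c_xq_7_7 : allRange (fun i => Nat.beq (actX i) i) 92323 400 = true := by decide +kernel
theorem c_xq_7_8 : allRange (fun i => Nat.beq (actX i) i) 92723 400 = true := by decide +kernel
theorem c_xq_7_9 : allRange (fun i => Nat.beq (actX i) i) 93123 400 = true := by decide +kernel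
theorem c_xq_7_10 : allRange (fun i => Nat.beq (actX i) i) 93523 400 = true := by decide +kernel
theorem c_xq_7_11 : allRange (fun i => Nat.beq (actX i) i) 93923 400 = true := by decide +kernel
theorem c_xq_7_12 : allRange (fun i => Nat.beq (actX i) i) 94323 400 = true := by decide +kernel
theorem c_xq_7_13 : allRange (fun i => Nat.beq (actX i) i) 94723 400 = true := by decide +kernel
theorem c_xq_7_14 : allRange (fun i => Nat.beq (actX i) i) 95123 400 = true := by decide +kernel
theorem c_xq_7_15 : allRange (fun i => Nat.beq (actX i) i) 95523 400 = true := by decide +kernel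
theorem c_xq_7_16 : allRange (fun i => Nat.beq (actX i) i) 95923 400 = true := by decide +kernel
theorem c_xq_7_17 : allRange (fun i => Nat.beq (actX i) i) 96323 400 = true := by decide +kernel
theorem c_xq_7_18 : allRange (fun i => Nat.beq (actX i) i) 96723 400 = true := by decide +kernel
theorem c_xq_7_19 : allRange (fun i => Nat.beq (actX i) i) 97123 400 = true := by decide +kernel
theorem c_xq_7_20 : allRange (fun i => Nat.beq (actX i) i) 97523 400 = true := by decide +kernel
theorem c_xq_7_21 : allRange (fun i => Nat.beq (actX i) i) 97923 400 = true := by decide +kernel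
theorem c_xq_7_22 : allRange (fun i => Nat.beq (actX i) i) 98323 400 = true := by decide +kernel
theorem c_xq_7_23 : allRange (fun i => Nat.beq (actX i) i) 98723 400 = true := by decide +kernel
theorem c_xq_7_24 : allRange (fun i => Nat.beq (actX i) i) 99123 400 = true := by decide +kernel
theorem c_xq_7_25 : allRange (fun i => Nat.beq (actX i) i) 99523 400 = true := by decide +kernel
theorem c_xq_7_26 : allRange (fun i => Nat.beq (actX i) i) 99923 400 = true := by decide +kernel
theorem c_xq_7_27 : allRange (fun i => Nat.beq (actX i) i) 100323 400 = true := by decide +kernel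
theorem c_xq_7_28 : allRange (fun i => Nat.beq (actX i) i) 100723 400 = true := by decide +kernel
theorem c_xq_7_29 : allRange (fun i => Nat.beq (actX i) i) 101123 400 = true := by decide +kernel
theorem c_xq_7_30 : allRange (fun i => Nat.beq (actX i) i) 101523 400 = true := by decide +kernel
theorem c_xq_7_31 : allRange (fun i => Nat.beq (actX i) i) 101923 389 = true := by decide +kernel
theorem h_xq_p7 : ∀ i, 89523 ≤ i → i < 102312 → Nat.beq (actX i) i = true :=
  (range_glue (range_of_allRange c_xq_7_0) (range_glue (range_of_allRange c_xq_7_1) (range_glue (range_of_allRange c_xq_7_2) (range_glue (range_of_allRange c_xq_7_3) (range_glue (range_of_allRange c_xq_7_4) (range_glue (range_of_allRange c_xq_7_5) (range_glue (range_of_allRange c_xq_7_6) (range_glue (range_of_allRange c_xq_7_7) (range_glue (range_of_allRange c_xq_7_8) (range_glue (range_of_allRange c_xq_7_9) (range_glue (range_of_allRange c_xq_7_10) (range_glue (range_of_allRange c_xq_7_11) (range_glue (range_of_allRange c_xq_7_12) (range_glue (range_of_allRange c_xq_7_13) (range_glue (range_of_allRange c_xq_7_14) (range_glue (range_of_allRange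 c_xq_7_15) (range_glue (range_of_allRange c_xq_7_16) (range_glue (range_of_allRange c_xq_7_17) (range_glue (range_of_allRange c_xq_7_18) (range_glue (range_of_allRange c_xq_7_19) (range_glue (range_of_allRange c_xq_7_20) (range_glue (range_of_allRange c_xq_7_21) (range_glue (range_of_allRange c_xq_7_22) (range_glue (range_of_allRange c_xq_7_23) (range_glue (range_of_allRange c_xq_7_24) (range_glue (range_of_allRange c_xq_7_25) (range_glue (range_of_allRange c_xq_7_26) (range_glue (range_of_allRange c_xq_7_27) (range_glue (range_of_allRange c_xq_7_28) (range_glue (range_of_allRange c_xq_7_29) (range_glue (range_of_allRange c_xq_7_30) (range_of_allRange c_xq_7_31))))))))))))))))))))))))))))))))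

end Cfsg.Agent.Lib.Helper4.TCD.Fi24x29Q
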