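import Cfsg.Agent.Lib.Helper4.TCD_Fi24x29Q_Acc

namespace Cfsg.Agent.Lib.Helper4.TCD.Fi24x29Q

open Cfsg.Agent.Lib.Helper4.TC Cfsg.Agent.Lib.Helper4.TCD.Fi24a

set_option maxRecDepth 100000
set_option Elab.async false

theorem c_xq_8_0 : allRange (fun i => Nat.beq (actX i) i) 102312 400 = true := by decide +kernel
theorem c_xq_8_1 : allRange (fun i => Nat.beq (actX i) i) 102712 400 = true := by decide +kernel
theorem c_xq_8_2 : allRange (fun i => Nat.beq (actX i) i) 103112 400 = true := by decide +kernel
theorem c_xq_8_3 : allRange (fun i => Nat.beq (actX i) i) 103512 400 = true := by decide +kernel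
theorem c_xq_8_4 : allRange (fun i => Nat.beq (actX i) i) 103912 400 = true := by decide +kernel
theorem c_xq_8_5 : allRange (fun i => Nat.beq (actX i) i) 104312 400 = true := by decide +kernel
theorem c_xq_8_6 : allRange (fun i => Nat.beq (actX i) i) 104712 400 = true := by decide +kernel
theorem c_xq_8_7 : allRange (fun i => Nat.beq (actX i) i) 105112 400 = true := by decide +kernel
theorem c_xq_8_8 : allRange (fun i => Nat.beq (actX i) i) 105512 400 = true := by decide +kernel
theorem c_xq_8_9 : allRange (fun i => Nat.beq (actX i) i) 105912 400 = true := by decide +kernel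
theorem c_xq_8_10 : allRange (fun i => Nat.beq (actX i) i) 106312 400 = true := by decide +kernel
theorem c_xq_8_11 : allRange (fun i => Nat.beq (actX i) i) 106712 400 = true := by decide +kernel
theorem c_xq_8_12 : allRange (fun i => Nat.beq (actX i) i) 107112 400 = true := by decide +kernel
theorem c_xq_8_13 : allRange (fun i => Nat.beq (actX i) i) 107512 400 = true := by decide +kernel
theorem c_xq_8_14 : allRange (fun i => Nat.beq (actX i) i) 107912 400 = true := by decide +kernel
theorem c_xq_8_15 : allRange (fun i => Nat.beq (actX i) i) 108312 400 = true := by decide +kernel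
theorem c_xq_8_16 : allRange (fun i => Nat.beq (actX i) i) 108712 400 = true := by decide +kernel
theorem c_xq_8_17 : allRange (fun i => Nat.beq (actX i) i) 109112 400 = true := by decide +kernel
theorem c_xq_8_18 : allRange (fun i => Nat.beq (actX i) i) 109512 400 = true := by decide +kernel
theorem c_xq_8_19 : allRange (fun i => Nat.beq (actX i) i) 109912 400 = true := by decide +kernel
theorem c_xq_8_20 : allRange (fun i => Nat.beq (actX i) i) 110312 400 = true := by decide +kernel
theorem c_xq_8_21 : allRange (fun i => Nat.beq (actX i) i) 110712 400 = true := by decide +kernel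
theorem c_xq_8_22 : allRange (fun i => Nat.beq (actX i) i) 111112 400 = true := by decide +kernel
theorem c_xq_8_23 : allRange (fun i => Nat.beq (actX i) i) 111512 400 = true := by decide +kernel
theorem c_xq_8_24 : allRange (fun i => Nat.beq (actX i) i) 111912 400 = true := by decide +kernel
theorem c_xq_8_25 : allRange (fun i => Nat.beq (actX i) i) 112312 400 = true := by decide +kernel
theorem c_xq_8_26 : allRange (fun i => Nat.beq (actX i) i) 112712 400 = true := by decide +kernel
theorem c_xq_8_27 : allRange (fun i => Nat.beq (actX i) i) 113112 400 = true := by decide +kernel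
theorem c_xq_8_28 : allRange (fun i => Nat.beq (actX i) i) 113512 400 = true := by decide +kernel
theorem c_xq_8_29 : allRange (fun i => Nat.beq (actX i) i) 113912 400 = true := by decide +kernel
theorem c_xq_8_30 : allRange (fun i => Nat.beq (actX i) i) 114312 400 = true := by decide +kernel
theorem c_xq_8_31 : allRange (fun i => Nat.beq (actX i) i) 114712 389 = true := by decide +kernel
theorem h_xq_p8 : ∀ i, 102312 ≤ i → i < 115101 → Nat.beq (actX i) i = true :=
  (range_glue (range_of_allRange c_xq_8_0) (range_glue (range_of_allRange c_xq_8_1) (range_glue (range_of_allRange c_xq_8_2) (range_glue (range_of_allRange c_xq_8_3) (range_glue (range_of_allRange c_xq_8_4) (range_glue (range_of_allRange c_xq_8_5) (range_glue (range_of_allRange c_xq_8_6) (range_glue (range_of_allRange c_xq_8_7) (range_glue (range_of_allRange c_xq_8_8) (range_glue (range_of_allRange c_xq_8_9) (range_glue (range_of_allRange c_xq_8_10) (range_glue (range_of_allRange c_xq_8_11) (range_glue (range_of_allRange c_xq_8_12) (range_glue (range_of_allRange c_xq_8_13) (range_glue (range_of_allRange c_xq_8_14) (range_glue (range_of_allRange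 c_xq_8_15) (range_glue (range_of_allRange c_xq_8_16) (range_glue (range_of_allRange c_xq_8_17) (range_glue (range_of_allRange c_xq_8_18) (range_glue (range_of_allRange c_xq_8_19) (range_glue (range_of_allRange c_xq_8_20) (range_glue (range_of_allRange c_xq_8_21) (range_glue (range_of_allRange c_xq_8_22) (range_glue (range_of_allRange c_xq_8_23) (range_glue (range_of_allRange c_xq_8_24) (range_glue (range_of_allRange c_xq_8_25) (range_glue (range_of_allRange c_xq_8_26) (range_glue (range_of_allRange c_xq_8_27) (range_glue (range_of_allRange c_xq_8_28) (range_glue (range_of_allRange c_xq_8_29) (range_glue (range_of_allRange c_xq_8_30) (range_of_allRange c_xq_8_31))))))))))))))))))))))))))))))))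

end Cfsg.Agent.Lib.Helper4.TCD.Fi24x29Q
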