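import Cfsg.Agent.Lib.Helper4.TCD_Fi24x29Q_C0
import Cfsg.Agent.Lib.Helper4.TCD_Fi24x29Q_C1
import Cfsg.Agent.Lib.Helper4.TCD_Fi24x29Q_C2
import Cfsg.Agent.Lib.Helper4.TCD_Fi24x29Q_C3
import Cfsg.Agent.Lib.Helper4.TCD_Fi24x29Q_C4
import Cfsg.Agent.Lib.Helper4.TCD_Fi24x29Q_C5
import Cfsg.Agent.Lib.Helper4.TCD_Fi24x29Q_C6
import Cfsg.Agent.Lib.Helper4.TCD_Fi24x29Q_C7
import Cfsg.Agent.Lib.Helper4.TCD_Fi24x29Q_C8
import Cfsg.Agent.Lib.Helper4.TCD_Fi24x29Q_C9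
import Cfsg.Agent.Lib.Helper4.TCD_Fi24x29Q_C10
import Cfsg.Agent.Lib.Helper4.TCD_Fi24x29Q_C11
import Cfsg.Agent.Lib.Helper4.TCD_Fi24x29Q_C12
import Cfsg.Agent.Lib.Helper4.TCD_Fi24x29Q_C13
import Cfsg.Agent.Lib.Helper4.TCD_Fi24x29Q_C14
import Cfsg.Agent.Lib.Helper4.TCD_Fi24x29Q_C15
import Cfsg.Agent.Lib.Helper4.TCD_Fi24x29Q_C16
import Cfsg.Agent.Lib.Helper4.TCD_Fi24x29Q_C17
import Cfsg.Agent.Lib.Helper4.TCD_Fi24x29Q_C18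
import Cfsg.Agent.Lib.Helper4.TCD_Fi24x29Q_C19
import Cfsg.Agent.Lib.Helper4.TCD_Fi24x29Q_C20
import Cfsg.Agent.Lib.Helper4.TCD_Fi24x29Q_C21
import Cfsg.Agent.Lib.Helper4.TCD_Fi24x29Q_C22
import Cfsg.Agent.Lib.Helper4.TCD_Fi24x29Q_C23

namespace Cfsg.Agent.Lib.Helper4.TCD.Fi24x29Q

open Cfsg.Agent.Lib.Helper4.TC Cfsg.Agent.Lib.Helper4.TCD.Fi24a

theorem h_xq : ∀ i, i < T.N → Tab.relActOK T D (List.replicate 29 xw).flatten i = true := by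
  intro i hi
  rw [Tab.relActOK, ← actX_eq]
  exact (range_glue h_xq_p0 (range_glue h_xq_p1 (range_glue h_xq_p2 (range_glue h_xq_p3 (range_glue h_xq_p4 (range_glue h_xq_p5 (range_glue h_xq_p6 (range_glue h_xq_p7 (range_glue h_xq_p8 (range_glue h_xq_p9 (range_glue h_xq_p10 (range_glue h_xq_p11 (range_glue h_xq_p12 (range_glue h_xq_p13 (range_glue h_xq_p14 (range_glue h_xq_p15 (range_glue h_xq_p16 (range_glue h_xq_p17 (range_glue h_xq_p18 (range_glue h_xq_p19 (range_glue h_xq_p20 (range_glue h_xq_p21 (range_glue h_xq_p22 h_xq_p23))))))))))))))))))))))) i (Nat.zero_le _) hi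

end Cfsg.Agent.Lib.Helper4.TCD.Fi24x29Q
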