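import Mathlib
import Cfsg.Agent.Lib.Helper4.Fi24Sub
import Cfsg.Agent.Lib.Helper4.TCD_Fi24L_Fin
import Cfsg.Agent.Lib.Helper4.TCD_Fi24aO_Fin
import Cfsg.Agent.Lib.Helper4.TCD_Fi24X29_Fin
import Cfsg.Agent.Lib.Helper4.TCD_Fi24x29Q_Fin
import Cfsg.Agent.Lib.Helper4.TC22
import Cfsg.Agent.S1691

/-!
The presented Fischer group Fi₂₄ has order `2 · 1255205709190661721292800`, acts faithfully and
primitively on the 306936 cosets of the subgroup generated by all generators but `k`, and its
commutator subgroup is simple of order `1255205709190661721292800`.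
-/

namespace Cfsg.Agent.Lib.Helper4.Fi24Main

open Cfsg.Agent.Lib.Helper4.TC Cfsg.Agent.Lib.Helper4.TCD Cfsg.Agent.Lib.Helper4.TC.Log

/-- the order and the faithful permutation representation -/
theorem order_aux : Finite PFi24.P.Grp ∧ Function.Injective Fi24a.inst.phi ∧
    Nat.card PFi24.P.Grp = 2510411418381323442585600 := by
  obtain ⟨fs, cs⟩ := Fi24Sub.card_H_le
  have fs' : Finite (Inst.subG PFi24.P Fi24a.subs) := fs
  have cs' : Nat.card (Inst.subG PFi24.P Fi24a.subs) ≤ 2 * 4089470473293004800 := cs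
  obtain ⟨fG, cG⟩ := Fi24a.inst.card_le _ fs' cs'
  have hub : Nat.card PFi24.P.Grp ≤ 2510411418381323442585600 := le_trans cG (by decide)
  obtain ⟨hinj, hcard⟩ := Fi24a.inst.card_eq Fi24L.S rfl rfl Fi24L.htab0 Fi24L.ok
    2510411418381323442585600 (by decide) Fi24L.prod_eq fG hub
  exact ⟨fG, hinj, hcard⟩

theorem index_comm : (commutator PFi24.P.Grp).index = 2 := Cfsg.Agent.S1691.result

theorem card_comm : Nat.card (commutator PFi24.P.Grp) = 1255205709190661721292800 := by
  obtain ⟨fG, _, hcard⟩ := order_aux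
  have := (commutator PFi24.P.Grp).index_mul_card
  rw [index_comm, hcard] at this
  omega

theorem not_sq : ∀ m : ℕ, m * m ≠ 1255205709190661721292800 := by
  intro m hm
  rcases le_or_gt m 1120359633863 with h | h
  · have := Nat.mul_le_mul h h
    omega
  · have h' : 1120359633864 ≤ m := h
    have := Nat.mul_le_mul h' h'
    omega

theorem simple_comm : IsSimpleGroup (commutator PFi24.P.Grp) := by
  obtain ⟨fG, hinj, hcard⟩ := order_aux
  have hidx := Fi24a.index_eq
  have hH : Nat.card (Inst.subG PFi24.P Fi24a.subs) = 8178940946586009600 := by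
    have := (Inst.subG PFi24.P Fi24a.subs).index_mul_card
    rw [hidx, hcard] at this
    omega
  apply Fi24a.inst.commutator_simple hinj fG [1, 275264, 31671] (by decide) _ (by decide) 29 (by norm_num)
    (by rw [hH]; decide) Fi24x29Q.xw (by decide) Fi24x29Q.h_xq Fi24X29.commutator_le index_comm
    (by rw [card_comm]; exact not_sq)
  refine ⟨?_, ?_, ?_, trivial⟩
  · intro j j' _ h2 _ h4
    have e1 : j = j' := Fin.ext (by omega)
    exact ⟨1, one_mem _, by rw [one_smul, e1]⟩
  · intro j j' h1 h2 h3 h4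
    exact Fi24a.inst.trans_of_orbit_eq 1 275265 (by decide) (by decide)
      (Fi24a.inst.orbit_eq Fi24a.oparTab Fi24a.olabTab 1 275265 (by decide) (by decide) Fi24aO.orb_inv_0 Fi24aO.orb_tree_0)
      j j' (by omega) (by omega) (by omega) (by omega)
  · intro j j' h1 h2 h3 h4
    exact Fi24a.inst.trans_of_orbit_eq 275265 306936 (by decide) (by decide)
      (Fi24a.inst.orbit_eq Fi24a.oparTab Fi24a.olabTab 275265 306936 (by decide) (by decide) Fi24aO.orb_inv_1 Fi24aO.orb_tree_1)
      j j' (by omega) (by omega) (by omega) (by omega)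

end Cfsg.Agent.Lib.Helper4.Fi24Main
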