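import Mathlib
import Cfsg.Prelude.Def_SporadicB
import Cfsg.Agent.Lib.Helper4.Fi24Main
import Cfsg.Agent.Lib.Helper4.BaseLib
import Cfsg.Agent.S1697

/-!
The presented Fischer group Fi₂₄ as a 3-transposition group: the class of the generator `l` has 306936
elements, any two of which have a product of order at most 3; the centraliser of each is the subgroup
generated by the other generators but `k`, of order `2 · |Fi₂₃|`, and contains a copy of the presented Fi₂₃.
-/

namespace Cfsg.Agent.Lib.Helper4.Fi24Trans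

open Cfsg.Agent.Lib.Helper4.TC Cfsg.Agent.Lib.Helper4.TCD Cfsg.Agent.Lib.Helper4.TC.Log

/-- the ambient group -/
abbrev G : Type := PFi24.P.Grp

/-- the subgroup generated by all generators but `k` -/
noncomputable def H : Subgroup G := Inst.subG PFi24.P Fi24a.subs

/-- the transposition -/
noncomputable def z : G := PFi24.P.gR 0

theorem finG : Finite G := Fi24Main.order_aux.1

theorem card_G : Nat.card G = 2510411418381323442585600 := Fi24Main.order_aux.2.2

/-- the faithful permutation representation -/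
noncomputable def φ : G →* Equiv.Perm (Fin Fi24a.T.N) := Fi24a.inst.phi

theorem φ_inj : Function.Injective φ := Fi24Main.order_aux.2.1

theorem φ_word (u : List ℕ) (hu : ∀ x ∈ u, x < 12) (p : Fin Fi24a.T.N) :
    (φ (wordP PFi24.P.gR u) p).1 = Tab.act Fi24a.T Fi24a.D u p.1 := by
  have hu' : ∀ x ∈ u, x < Fi24a.D.k := hu
  have hword : wordP (Inst.gE PFi24.P Fi24a.subs) u = wordP PFi24.P.gR u :=
    Fi24a.inst.gE_word _ hu
  rw [← hword]
  exact Fi24a.inst.hC.phi_word Fi24a.inst.phi Fi24a.inst.hphi u hu' p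

/-- the test that a word fixes the twelve base points -/
def baseOK (u : List ℕ) : Prop :=
  ∀ t, t < 12 → Nat.beq (Tab.act Fi24a.T Fi24a.D u (Fi24L.S.beta t)) (Fi24L.S.beta t) = true

noncomputable instance baseOK_dec (u : List ℕ) : Decidable (baseOK u) := by
  unfold baseOK
  infer_instance

/-- a word fixing the base points is trivial -/
theorem word_one (u : List ℕ) (hu : ∀ x ∈ u, x < 12) (h : baseOK u) : wordP PFi24.P.gR u = 1 := by
  apply Fi24a.inst.word_eq_one_of_base Fi24L.S rfl rfl Fi24L.htab0 Fi24L.ok Fi24Main.order_aux.2.1 finG _ u hu h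
  rw [Fi24L.prod_eq]
  exact le_of_eq card_G

theorem gR_sq (x : ℕ) (hx : x < 12) : PFi24.P.gR x * PFi24.P.gR x = 1 := Fi24Sub.sq x hx

theorem gR_inv (x : ℕ) (hx : x < 12) : (PFi24.P.gR x)⁻¹ = PFi24.P.gR x :=
  inv_eq_of_mul_eq_one_right (gR_sq x hx)

theorem word_inv (u : List ℕ) (hu : ∀ x ∈ u, x < 12) :
    (wordP PFi24.P.gR u)⁻¹ = wordP PFi24.P.gR u.reverse := by
  induction u with
  | nil => simp
  | cons x u ih =>
    rw [wordP_cons, mul_inv_rev, ih fun y hy => hu y (List.mem_cons_of_mem _ hy),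
      gR_inv x (hu x List.mem_cons_self), List.reverse_cons, wordP_append, wordP_cons, wordP_nil, mul_one]

theorem z_word : z = wordP PFi24.P.gR [0] := by
  rw [wordP_cons, wordP_nil, mul_one]
  rfl

/-! ### Primitivity and the centraliser of `z` -/

theorem orb0 (j j' : Fin Fi24a.T.N) (h1 : 1 ≤ j.1) (h2 : j.1 < 275265) (h3 : 1 ≤ j'.1) (h4 : j'.1 < 275265) :
    ∃ h ∈ H, h • Fi24a.inst.equiv j = Fi24a.inst.equiv j' :=
  Fi24a.inst.trans_of_orbit_eq 1 275265 (by decide) (by decide)
    (Fi24a.inst.orbit_eq Fi24a.oparTab Fi24a.olabTab 1 275265 (by decide) (by decide) Fi24aO.orb_inv_0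
      Fi24aO.orb_tree_0) j j' h1 h2 h3 h4

theorem orb1 (j j' : Fin Fi24a.T.N) (h1 : 275265 ≤ j.1) (h2 : j.1 < 306936) (h3 : 275265 ≤ j'.1)
    (h4 : j'.1 < 306936) : ∃ h ∈ H, h • Fi24a.inst.equiv j = Fi24a.inst.equiv j' :=
  Fi24a.inst.trans_of_orbit_eq 275265 306936 (by decide) (by decide)
    (Fi24a.inst.orbit_eq Fi24a.oparTab Fi24a.olabTab 275265 306936 (by decide) (by decide) Fi24aO.orb_inv_1
      Fi24aO.orb_tree_1) j j' h1 h2 h3 h4

theorem prim : MulAction.IsPreprimitive G (G ⧸ H) := by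
  apply preprimitive_of_intervals H Fi24a.inst.equiv [1, 275264, 31671] Fi24a.inst.hC.hN (by decide) _ _
    (by decide)
  · intro h hh
    rw [Fi24a.inst.smul_equiv, Fi24a.inst.hfix h hh]
  · refine ⟨?_, ?_, ?_, trivial⟩
    · intro j j' _ h2 _ h4
      have e1 : j = j' := Fin.ext (by omega)
      exact ⟨1, one_mem _, by rw [one_smul, e1]⟩
    · intro j j' h1 h2 h3 h4
      exact orb0 j j' (by omega) (by omega) (by omega) (by omega)
    · intro j j' h1 h2 h3 h4
      exact orb1 j j' (by omega) (by omega) (by omega) (by omega)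

theorem H_index : (H : Subgroup G).index = 306936 := Fi24a.index_eq

theorem card_H : Nat.card H = 2 * 4089470473293004800 := by
  have := (H : Subgroup G).index_mul_card
  rw [H_index, card_G] at this
  omega

theorem H_coatom : IsCoatom H := by
  have := prim
  have : Nontrivial (G ⧸ H) := by
    have := finG
    rw [← Finite.one_lt_card_iff_nontrivial]
    have : Nat.card (G ⧸ H) = 306936 := H_index
    omega
  have h := MulAction.IsPreprimitive.isCoatom_stabilizer_of_isPreprimitive (G := G) (X := G ⧸ H)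
    ((1 : G) : G ⧸ H)
  rwa [MulAction.stabilizer_quotient] at h

theorem z_comm_H (y : G) (hy : y ∈ H) : z * y = y * z := Fi24Sub.central y hy

theorem z_sq : z * z = 1 := gR_sq 0 (by norm_num)

theorem z_inv : z⁻¹ = z := inv_eq_of_mul_eq_one_right z_sq

theorem not_comm_zk : z * PFi24.P.gR 1 ≠ PFi24.P.gR 1 * z := by
  intro h
  have h1 : wordP PFi24.P.gR [0, 1] = wordP PFi24.P.gR [1, 0] := by
    simp only [wordP_cons, wordP_nil, mul_one]
    exact h
  have h2 : (φ (wordP PFi24.P.gR [0, 1]) ⟨0, Fi24a.inst.hC.hN⟩).1 =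
      (φ (wordP PFi24.P.gR [1, 0]) ⟨0, Fi24a.inst.hC.hN⟩).1 := by rw [h1]
  rw [φ_word _ (by decide), φ_word _ (by decide)] at h2
  revert h2
  decide +kernel

theorem z_ne_one : z ≠ 1 := by
  intro h
  apply not_comm_zk
  rw [h, one_mul, mul_one]

theorem orderOf_z : orderOf z = 2 := orderOf_eq_prime (by rw [pow_two]; exact z_sq) z_ne_one

theorem centralizer_z : Subgroup.centralizer {z} = H := by
  have hle : H ≤ Subgroup.centralizer {z} := by
    intro y hy
    rw [Subgroup.mem_centralizer_iff]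
    intro w hw
    rw [Set.mem_singleton_iff] at hw
    rw [hw]
    exact z_comm_H y hy
  rcases eq_or_lt_of_le hle with h | h
  · exact h.symm
  · exfalso
    have htop := H_coatom.2 _ h
    have : PFi24.P.gR 1 ∈ Subgroup.centralizer {z} := by rw [htop]; trivial
    rw [Subgroup.mem_centralizer_iff] at this
    exact not_comm_zk (this z rfl)

/-! ### The three suborbit representatives -/

def g1 : List ℕ := [1]
def g2 : List ℕ := [1, 2, 0, 1]

noncomputable def G1 : G := wordP PFi24.P.gR g1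
noncomputable def G2 : G := wordP PFi24.P.gR g2
noncomputable def e1 : G := G1 * z * G1⁻¹
noncomputable def e2 : G := G2 * z * G2⁻¹

theorem ze1_word : z * e1 = wordP PFi24.P.gR ([0] ++ g1 ++ [0] ++ g1.reverse) := by
  rw [e1, G1, word_inv _ (by decide), wordP_append, wordP_append, wordP_append, ← z_word]
  group

theorem ze2_word : z * e2 = wordP PFi24.P.gR ([0] ++ g2 ++ [0] ++ g2.reverse) := by
  rw [e2, G2, word_inv _ (by decide), wordP_append, wordP_append, wordP_append, ← z_word]
  group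

theorem ze1_cube : (z * e1) ^ 3 = 1 := by
  rw [ze1_word, ← wordP_replicate_flatten]
  exact word_one _ (by decide) (by decide +kernel)

theorem ze2_sq : (z * e2) ^ 2 = 1 := by
  rw [ze2_word, ← wordP_replicate_flatten]
  exact word_one _ (by decide) (by decide +kernel)

/-- the coset of `g` corresponds to the image of the base point -/
theorem mk_eq_equiv (g : G) :
    (QuotientGroup.mk g : G ⧸ H) = Fi24a.inst.equiv (φ g ⟨0, Fi24a.inst.hC.hN⟩) := by
  have h0 : Fi24a.inst.equiv ⟨0, Fi24a.inst.hC.hN⟩ = (QuotientGroup.mk (1 : G) : G ⧸ H) := by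
    show cosetEquiv _ _ _ _ _ _ _ _ = _
    rw [cosetEquiv_apply, Tab.repG]
    have : Fi24a.T.nameOf 0 = 0 := Fi24a.inst.hC.hname0
    rw [this, Log.V_zero, inv_one]
    rfl
  have := Fi24a.inst.smul_equiv g ⟨0, Fi24a.inst.hC.hN⟩
  rw [h0] at this
  show _ = Fi24a.inst.equiv (Fi24a.inst.phi g ⟨0, Fi24a.inst.hC.hN⟩)
  rw [← this]
  show _ = (QuotientGroup.mk (g * 1) : G ⧸ H)
  rw [mul_one]

/-- every conjugate of `z` is conjugate under `H` to `z`, `e1` or `e2` -/
theorem conj_cases (g : G) : ∃ k ∈ H, k * (g * z * g⁻¹) * k⁻¹ = z ∨ k * (g * z * g⁻¹) * k⁻¹ = e1 ∨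
    k * (g * z * g⁻¹) * k⁻¹ = e2 := by
  have step : ∀ (k g' : G), k ∈ H → (QuotientGroup.mk (k * g) : G ⧸ H) = QuotientGroup.mk g' →
      k * (g * z * g⁻¹) * k⁻¹ = g' * z * g'⁻¹ := by
    intro k g' _ h
    have hk' : (k * g)⁻¹ * g' ∈ H := QuotientGroup.eq.1 h
    set k' := (k * g)⁻¹ * g' with hk'def
    have hg' : g' = k * g * k' := by rw [hk'def]; group
    have hc := z_comm_H k' hk'
    rw [hg']
    have : k * g * k' * z * (k * g * k')⁻¹ = k * g * (k' * z * k'⁻¹) * g⁻¹ * k⁻¹ := by group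
    rw [this]
    have : k' * z * k'⁻¹ = z := by rw [← hc, mul_inv_cancel_right]
    rw [this]
    group
  set j := φ g ⟨0, Fi24a.inst.hC.hN⟩ with hj
  have hjN : j.1 < 306936 := j.2
  have hmk : ∀ k : G, (QuotientGroup.mk (k * g) : G ⧸ H) = k • Fi24a.inst.equiv j := by
    intro k
    rw [hj, ← mk_eq_equiv]
    rfl
  rcases Nat.lt_or_ge j.1 1 with h0 | h0
  · refine ⟨1, one_mem _, Or.inl ?_⟩
    have hj0 : j = ⟨0, Fi24a.inst.hC.hN⟩ := Fin.ext (show j.1 = 0 by omega)
    have := step 1 1 (one_mem _) (by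
      rw [hmk 1, one_smul, hj0]
      have := mk_eq_equiv 1
      rw [map_one] at this
      exact this.symm)
    rw [this]
    group
  rcases Nat.lt_or_ge j.1 275265 with h1 | h1
  · have hj1 : (φ G1 ⟨0, Fi24a.inst.hC.hN⟩).1 = 1 := by
      rw [G1, φ_word _ (by decide)]
      decide +kernel
    obtain ⟨k, hk, hke⟩ := orb0 j (φ G1 ⟨0, Fi24a.inst.hC.hN⟩) h0 h1 (by omega) (by omega)
    refine ⟨k, hk, Or.inr (Or.inl ?_)⟩
    rw [e1]
    apply step k G1 hk
    rw [hmk k, hke, ← mk_eq_equiv]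
  · have hj2 : (φ G2 ⟨0, Fi24a.inst.hC.hN⟩).1 = 275265 := by
      rw [G2, φ_word _ (by decide)]
      decide +kernel
    obtain ⟨k, hk, hke⟩ := orb1 j (φ G2 ⟨0, Fi24a.inst.hC.hN⟩) h1 hjN (by omega) (by omega)
    refine ⟨k, hk, Or.inr (Or.inr ?_)⟩
    rw [e2]
    apply step k G2 hk
    rw [hmk k, hke, ← mk_eq_equiv]

/-- products of `z` with its conjugates -/
theorem z_conj_pow (g : G) : (z * (g * z * g⁻¹)) ^ 2 = 1 ∨ (z * (g * z * g⁻¹)) ^ 3 = 1 := by
  obtain ⟨k, hk, hcase⟩ := conj_cases g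
  have hkz : k * z * k⁻¹ = z := by
    have := z_comm_H k hk
    rw [← this, mul_inv_cancel_right]
  have hconj : ∀ y : G, k * (z * y) * k⁻¹ = z * (k * y * k⁻¹) := by
    intro y
    calc k * (z * y) * k⁻¹ = (k * z * k⁻¹) * (k * y * k⁻¹) := by group
      _ = z * (k * y * k⁻¹) := by rw [hkz]
  have hpow : ∀ n : ℕ, (z * (k * (g * z * g⁻¹) * k⁻¹)) ^ n = 1 → (z * (g * z * g⁻¹)) ^ n = 1 := by
    intro n hn
    rw [← hconj, conj_pow] at hn
    have : (z * (g * z * g⁻¹)) ^ n = k⁻¹ * (k * (z * (g * z * g⁻¹)) ^ n * k⁻¹) * k := by group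
    rw [this, hn]
    group
  rcases hcase with h | h | h
  · left
    apply hpow
    rw [h, z_sq, one_pow]
  · right
    apply hpow
    rw [h]
    exact ze1_cube
  · left
    apply hpow
    rw [h]
    exact ze2_sq

/-- the class of 3-transpositions -/
def Dz : Set G := conjugatesOf z

theorem mem_Dz (d : G) : d ∈ Dz ↔ ∃ c : G, c * z * c⁻¹ = d := by
  show IsConj z d ↔ _
  exact isConj_iff

theorem three_transposition_set : Cfsg.IsThreeTranspositionSet Dz := by
  refine ⟨?_, ?_⟩
  · intro d hd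
    obtain ⟨c, rfl⟩ := (mem_Dz d).1 hd
    have : c * z * c⁻¹ = MulAut.conj c z := rfl
    rw [this, MulEquiv.orderOf_eq]
    exact orderOf_z
  · intro d hd e he
    obtain ⟨c, rfl⟩ := (mem_Dz d).1 hd
    obtain ⟨c', rfl⟩ := (mem_Dz e).1 he
    have key : c * z * c⁻¹ * (c' * z * c'⁻¹) = c * (z * ((c⁻¹ * c') * z * (c⁻¹ * c')⁻¹)) * c⁻¹ := by group
    rw [key, conj_pow, conj_pow]
    rcases z_conj_pow (c⁻¹ * c') with h | h
    · left; rw [h]; group
    · right; rw [h]; group

/-- conjugating along an edge of the diagram -/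
theorem edge_mem (x y : ℕ) (hx : x < 12) (hy : y < 12) (h : baseOK [x, y, x, y, x, y])
    (hm : PFi24.P.gR x ∈ Dz) : PFi24.P.gR y ∈ Dz := by
  obtain ⟨c, hc⟩ := (mem_Dz _).1 hm
  rw [mem_Dz]
  refine ⟨PFi24.P.gR x * PFi24.P.gR y * c, ?_⟩
  have hrel := word_one [x, y, x, y, x, y] (by
    intro t ht
    simp only [List.mem_cons, List.not_mem_nil, or_false] at ht
    omega) h
  simp only [wordP_cons, wordP_nil, mul_one] at hrel
  have e : PFi24.P.gR x * PFi24.P.gR y * c * z * (PFi24.P.gR x * PFi24.P.gR y * c)⁻¹ =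
      PFi24.P.gR x * PFi24.P.gR y * (c * z * c⁻¹) * (PFi24.P.gR y)⁻¹ * (PFi24.P.gR x)⁻¹ := by group
  rw [e, hc, gR_inv x hx, gR_inv y hy]
  have h5 : PFi24.P.gR x * PFi24.P.gR y * PFi24.P.gR x * PFi24.P.gR y * PFi24.P.gR x =
      (PFi24.P.gR y)⁻¹ := by
    apply eq_inv_of_mul_eq_one_left
    rw [← hrel]
    group
  rw [h5, gR_inv y hy]

theorem gen_mem : ∀ x, x < 12 → PFi24.P.gR x ∈ Dz := by
  have m0 : PFi24.P.gR 0 ∈ Dz := mem_conjugatesOf_self
  have m1 := edge_mem 0 1 (by decide) (by decide) (by decide +kernel) m0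
  have m2 := edge_mem 1 2 (by decide) (by decide) (by decide +kernel) m1
  have m3 := edge_mem 2 3 (by decide) (by decide) (by decide +kernel) m2
  have m4 := edge_mem 3 4 (by decide) (by decide) (by decide +kernel) m3
  have m5 := edge_mem 4 5 (by decide) (by decide) (by decide +kernel) m4
  have m6 := edge_mem 5 6 (by decide) (by decide) (by decide +kernel) m5
  have m7 := edge_mem 6 7 (by decide) (by decide) (by decide +kernel) m6
  have m8 := edge_mem 7 8 (by decide) (by decide) (by decide +kernel) m7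
  have m9 := edge_mem 8 9 (by decide) (by decide) (by decide +kernel) m8
  have m10 := edge_mem 5 10 (by decide) (by decide) (by decide +kernel) m5
  have m11 := edge_mem 10 11 (by decide) (by decide) (by decide +kernel) m10
  intro x hx
  interval_cases x
  · exact m0
  · exact m1
  · exact m2
  · exact m3
  · exact m4
  · exact m5
  · exact m6
  · exact m7
  · exact m8
  · exact m9
  · exact m10
  · exact m11

theorem closure_Dz : Subgroup.closure Dz = ⊤ := by
  rw [eq_top_iff, ← letG_all PFi24.P PFi24.valid, letG, Subgroup.closure_le]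
  rintro s ⟨x, hx, rfl⟩
  apply Subgroup.subset_closure
  apply gen_mem
  have : x < PFi24.P.k := List.mem_range.1 hx
  exact this

theorem three_transposition_class : Cfsg.IsThreeTranspositionClass Dz :=
  ⟨three_transposition_set, ⟨z, mem_conjugatesOf_self, rfl⟩, closure_Dz⟩

/-! ### The size of the class -/

theorem card_Dz : Nat.card Dz = 306936 := by
  have hwd : ∀ a b : G, (QuotientGroup.leftRel H) a b → a * z * a⁻¹ = b * z * b⁻¹ := by
    intro a b hab
    have hk : a⁻¹ * b ∈ H := QuotientGroup.leftRel_apply.1 hab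
    have hc := z_comm_H _ hk
    have : b = a * (a⁻¹ * b) := by group
    rw [this]
    have : a * (a⁻¹ * b) * z * (a * (a⁻¹ * b))⁻¹ = a * ((a⁻¹ * b) * z * (a⁻¹ * b)⁻¹) * a⁻¹ := by group
    rw [this, ← hc, mul_inv_cancel_right]
  let F : G ⧸ H → Dz := fun q => Quotient.liftOn' q (fun a => (⟨a * z * a⁻¹, (mem_Dz _).2 ⟨a, rfl⟩⟩ : Dz))
    (fun a b hab => Subtype.ext (hwd a b hab))
  have hF : Function.Bijective F := by
    constructor
    · intro q q' h
      induction q using QuotientGroup.induction_on with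
      | H a =>
        induction q' using QuotientGroup.induction_on with
        | H b =>
          have h1 : a * z * a⁻¹ = b * z * b⁻¹ := congrArg Subtype.val h
          apply QuotientGroup.eq.2
          rw [← centralizer_z, Subgroup.mem_centralizer_iff]
          intro w hw
          rw [Set.mem_singleton_iff] at hw
          rw [hw]
          have : z = a⁻¹ * (b * z * b⁻¹) * a := by rw [← h1]; group
          calc z * (a⁻¹ * b) = a⁻¹ * (b * z * b⁻¹) * a * (a⁻¹ * b) := by rw [← this]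
            _ = a⁻¹ * b * z := by group
    · rintro ⟨d, hd⟩
      obtain ⟨c, rfl⟩ := (mem_Dz d).1 hd
      exact ⟨QuotientGroup.mk c, rfl⟩
  rw [← Nat.card_congr (Equiv.ofBijective F hF)]
  exact H_index

/-! ### The centralisers -/

/-- the centraliser of a conjugate of `z` is the conjugate of `H` -/
theorem centralizer_conj (c : G) :
    Subgroup.centralizer ({c * z * c⁻¹} : Set G) = H.map (MulAut.conj c).toMonoidHom := by
  ext y
  rw [Subgroup.mem_centralizer_iff, Subgroup.mem_map]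
  constructor
  · intro hy
    refine ⟨c⁻¹ * y * c, ?_, ?_⟩
    · rw [← centralizer_z, Subgroup.mem_centralizer_iff]
      intro w hw
      rw [Set.mem_singleton_iff] at hw
      rw [hw]
      have h1 := hy (c * z * c⁻¹) rfl
      calc z * (c⁻¹ * y * c) = c⁻¹ * (c * z * c⁻¹ * y) * c := by group
        _ = c⁻¹ * (y * (c * z * c⁻¹)) * c := by rw [h1]
        _ = c⁻¹ * y * c * z := by group
    · show c * (c⁻¹ * y * c) * c⁻¹ = y
      group
  · rintro ⟨k, hk, rfl⟩ w hw
    rw [Set.mem_singleton_iff] at hw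
    rw [hw]
    have hc := z_comm_H k hk
    show c * z * c⁻¹ * (c * k * c⁻¹) = c * k * c⁻¹ * (c * z * c⁻¹)
    calc c * z * c⁻¹ * (c * k * c⁻¹) = c * (z * k) * c⁻¹ := by group
      _ = c * (k * z) * c⁻¹ := by rw [hc]
      _ = c * k * c⁻¹ * (c * z * c⁻¹) := by group

theorem card_centralizer (d : G) (hd : d ∈ Dz) :
    Nat.card (Subgroup.centralizer ({d} : Set G)) = 2 * 4089470473293004800 := by
  obtain ⟨c, rfl⟩ := (mem_Dz d).1 hd
  rw [centralizer_conj, ← card_H]
  exact (Nat.card_congr ((MulAut.conj c).subgroupMap H).toEquiv).symm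

end Cfsg.Agent.Lib.Helper4.Fi24Trans
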