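import Mathlib
import Cfsg.Agent.Lib.Helper4.Fi24Trans
import Cfsg.Agent.Lib.Helper4.TC19

/-!
Simple subgroups of the presented Fischer group Fi₂₄: a homomorphism from a simple group whose images do not
all commute is injective with image in the commutator subgroup; the presented Fi₂₃ maps to Fi₂₄ by
`x ↦ x · l`.
-/

namespace Cfsg.Agent.Lib.Helper4.Fi24Emb

open Cfsg.Agent.Lib.Helper4.TC Cfsg.Agent.Lib.Helper4.TCD Cfsg.Agent.Lib.Helper4.TC.Log
open Cfsg.Agent.Lib.Helper4.Fi24Trans
open scoped commutatorElement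

/-- a homomorphism from a simple group with two non-commuting images is injective, and its image lies in the
commutator subgroup -/
theorem simple_hom {S Γ : Type*} [Group S] [Group Γ] (hS : IsSimpleGroup S) (ψ : S →* Γ) (a b : S)
    (hab : ψ a * ψ b ≠ ψ b * ψ a) : Function.Injective ψ ∧ ψ.range ≤ commutator Γ := by
  have hker : ψ.ker = ⊥ := by
    rcases hS.eq_bot_or_eq_top_of_normal ψ.ker inferInstance with h | h
    · exact h
    · exfalso
      have ha : ψ a = 1 := by
        have : a ∈ ψ.ker := by rw [h]; trivial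
        exact this
      apply hab
      rw [ha, one_mul, mul_one]
  have hcomm : commutator S = ⊤ := by
    rcases hS.eq_bot_or_eq_top_of_normal (commutator S) inferInstance with h | h
    · exfalso
      have hm : (⁅a, b⁆ : S) ∈ commutator S :=
        Subgroup.commutator_mem_commutator (Subgroup.mem_top a) (Subgroup.mem_top b)
      rw [h, Subgroup.mem_bot, commutatorElement_eq_one_iff_mul_comm] at hm
      apply hab
      rw [← map_mul, hm, map_mul]
    · exact h
  refine ⟨(MonoidHom.ker_eq_bot_iff ψ).1 hker, ?_⟩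
  rw [MonoidHom.range_eq_map, ← hcomm, commutator_def, Subgroup.map_commutator]
  exact Subgroup.commutator_mono le_top le_top

/-- the properties of the image of a simple group -/
theorem simple_range {S Γ : Type*} [Group S] [Group Γ] (hS : IsSimpleGroup S) (ψ : S →* Γ) (a b : S)
    (hab : ψ a * ψ b ≠ ψ b * ψ a) :
    IsSimpleGroup ψ.range ∧ Nat.card ψ.range = Nat.card S ∧ ψ.range ≤ commutator Γ := by
  obtain ⟨hinj, hle⟩ := simple_hom hS ψ a b hab
  have e : S ≃* ψ.range := MonoidHom.ofInjective hinj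
  exact ⟨@MulEquiv.isSimpleGroup _ _ _ _ hS e.symm, (Nat.card_congr e.toEquiv).symm, hle⟩

/-- a simple group of the same order inside a conjugate -/
theorem simple_conj {Γ : Type*} [Group Γ] (K : Subgroup Γ) (c : Γ) (hK : IsSimpleGroup K) :
    IsSimpleGroup (K.map (MulAut.conj c).toMonoidHom) ∧
      Nat.card (K.map (MulAut.conj c).toMonoidHom) = Nat.card K := by
  have e : K ≃* K.map (MulAut.conj c).toMonoidHom := (MulAut.conj c).subgroupMap K
  exact ⟨@MulEquiv.isSimpleGroup _ _ _ _ hK e.symm, (Nat.card_congr e.toEquiv).symm⟩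

/-- a simple group of the same order inside a larger subgroup -/
theorem simple_subgroupOf {Γ : Type*} [Group Γ] (K L : Subgroup Γ) (h : K ≤ L) (hK : IsSimpleGroup K) :
    IsSimpleGroup (K.subgroupOf L) ∧ Nat.card (K.subgroupOf L) = Nat.card K := by
  have e : K.subgroupOf L ≃* K := Subgroup.subgroupOfEquivOfLe h
  exact ⟨@MulEquiv.isSimpleGroup _ _ _ _ hK e, Nat.card_congr e.toEquiv⟩

/-! ### The presented Fi₂₃ inside Fi₂₄ -/

/-- the images of the generators of Fi₂₃: `x ↦ x · l` -/
def W23 (x : ℕ) : List ℕ := [x + 2, 0]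

theorem W23_inv : ∀ x, x < 10 → baseOK (W23 x ++ W23 (PFi23.P.invR x)) := by decide +kernel

theorem W23_lt : ∀ L ∈ PFi23.P.real, ∀ x ∈ L.flatMap W23, x < 12 := by decide +kernel

theorem W23_rel : ∀ L ∈ PFi23.P.real, baseOK (L.flatMap W23) := by decide +kernel

theorem emb23 : WordEmb PFi23.P PFi24.P.gR W23 where
  hP := PFi23.valid
  hinv := by
    intro x hx
    have hx10 : x < 10 := hx
    apply word_one _ _ (W23_inv x hx10)
    intro y hy
    have e : PFi23.P.invR x = x := rfl
    rw [e] at hy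
    simp only [W23, List.cons_append, List.nil_append, List.mem_cons, List.not_mem_nil, or_false] at hy
    omega
  hrel := by
    intro L hL
    exact word_one _ (W23_lt L hL) (W23_rel L hL)

/-- the homomorphism from the presented Fi₂₃ -/
noncomputable def ψ23 : PFi23.P.Grp →* G := emb23.hom

theorem ψ23_gR (x : ℕ) (hx : x < 10) : ψ23 (PFi23.P.gR x) = PFi24.P.gR (x + 2) * PFi24.P.gR 0 := by
  rw [ψ23, emb23.hom_gR x hx, W23, wordP_cons, wordP_cons, wordP_nil, mul_one]

theorem ψ23_not_comm : ψ23 (PFi23.P.gR 0) * ψ23 (PFi23.P.gR 1) ≠ ψ23 (PFi23.P.gR 1) * ψ23 (PFi23.P.gR 0) := by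
  intro h
  rw [ψ23_gR 0 (by decide), ψ23_gR 1 (by decide)] at h
  have h1 : wordP PFi24.P.gR [2, 0, 3, 0] = wordP PFi24.P.gR [3, 0, 2, 0] := by
    simp only [wordP_cons, wordP_nil, mul_one]
    simpa [mul_assoc] using h
  have h2 : (φ (wordP PFi24.P.gR [2, 0, 3, 0]) ⟨1, by decide⟩).1 =
      (φ (wordP PFi24.P.gR [3, 0, 2, 0]) ⟨1, by decide⟩).1 := by rw [h1]
  rw [φ_word _ (by decide), φ_word _ (by decide)] at h2
  revert h2
  decide +kernel

/-- the copy of Fi₂₃ -/
noncomputable def K23 : Subgroup G := ψ23.range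

theorem K23_props : IsSimpleGroup K23 ∧ Nat.card K23 = 4089470473293004800 ∧ K23 ≤ commutator G := by
  obtain ⟨h1, h2, h3⟩ := simple_range Cfsg.Agent.S1697.simple_aux ψ23 _ _ ψ23_not_comm
  exact ⟨h1, by rw [K23, h2]; exact Cfsg.Agent.S1697.order_aux.2.2, h3⟩

theorem K23_le_H : K23 ≤ H := by
  rw [K23, MonoidHom.range_eq_map, ← letG_all PFi23.P PFi23.valid, letG, Subgroup.map_le_iff_le_comap,
    Subgroup.closure_le]
  rintro s ⟨x, hx, rfl⟩
  have hx10 : x < 10 := List.mem_range.1 hx
  rw [SetLike.mem_coe, Subgroup.mem_comap, ψ23_gR x hx10]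
  have hm : ∀ y, y < 10 → y + 2 ∈ Fi24Sub.lettersH := by decide
  exact mul_mem (Fi24Sub.mem_H (x + 2) (hm x hx10)) (Fi24Sub.mem_H 0 (by decide))

/-- a copy of Fi₂₃ in the centraliser of each transposition -/
theorem exists_fi23_centralizer (d : G) (hd : d ∈ Dz) :
    ∃ K : Subgroup G, K ≤ Subgroup.centralizer ({d} : Set G) ∧ Cfsg.IsFi23 K := by
  obtain ⟨c, rfl⟩ := (mem_Dz d).1 hd
  obtain ⟨h1, h2, _⟩ := K23_props
  obtain ⟨h4, h5⟩ := simple_conj K23 c h1
  refine ⟨K23.map (MulAut.conj c).toMonoidHom, ?_, h4, by rw [h5, h2]⟩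
  rw [centralizer_conj]
  exact Subgroup.map_mono K23_le_H

/-- a copy of Fi₂₃ in the commutator subgroup -/
theorem exists_fi23_comm : ∃ K : Subgroup (commutator G), Cfsg.IsFi23 K := by
  obtain ⟨h1, h2, h3⟩ := K23_props
  obtain ⟨h4, h5⟩ := simple_subgroupOf K23 (commutator G) h3 h1
  exact ⟨K23.subgroupOf (commutator G), h4, by rw [h5, h2]⟩

end Cfsg.Agent.Lib.Helper4.Fi24Emb
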