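import Cfsg.Agent.Lib.Helper4.TCD_He1_Acc

namespace Cfsg.Agent.Lib.Helper4.TCD.He1

open Cfsg.Agent.Lib.Helper4.TC

set_option maxRecDepth 100000

theorem c_rel_0 : allRange D.relOK 5480 4096 = true := by decide +kernel
theorem c_rel_1 : allRange D.relOK 9576 4096 = true := by decide +kernel
theorem c_rel_2 : allRange D.relOK 13672 4096 = true := by decide +kernel
theorem c_rel_3 : allRange D.relOK 17768 903 = true := by decide +kernel

end Cfsg.Agent.Lib.Helper4.TCD.He1
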