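import Cfsg.Agent.Lib.Helper4.TCD_He1_Acc

namespace Cfsg.Agent.Lib.Helper4.TCD.He1

open Cfsg.Agent.Lib.Helper4.TC

set_option maxRecDepth 100000

theorem c_oinv_0 : allRange (Tab.orbInvOK T D subs 1 137) 1 136 = true := by decide +kernel
theorem c_otree_0 : allRange (Tab.orbTreeOK T D subs oparTab olabTab 1) 2 135 = true := by decide +kernel
theorem c_oinv_1 : allRange (Tab.orbInvOK T D subs 137 273) 137 136 = true := by decide +kernel
theorem c_otree_1 : allRange (Tab.orbTreeOK T D subs oparTab olabTab 137) 138 135 = true := by decide +kernel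
theorem c_oinv_2 : allRange (Tab.orbInvOK T D subs 273 698) 273 425 = true := by decide +kernel
theorem c_otree_2 : allRange (Tab.orbTreeOK T D subs oparTab olabTab 273) 274 424 = true := by decide +kernel
theorem c_oinv_3 : allRange (Tab.orbInvOK T D subs 698 2058) 698 1360 = true := by decide +kernel
theorem c_otree_3 : allRange (Tab.orbTreeOK T D subs oparTab olabTab 698) 699 1359 = true := by decide +kernel

end Cfsg.Agent.Lib.Helper4.TCD.He1
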