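import Cfsg.Agent.Lib.Helper4.TCD_He1_C0
import Cfsg.Agent.Lib.Helper4.TCD_He1_C1
import Cfsg.Agent.Lib.Helper4.TCD_He1_C2
import Cfsg.Agent.Lib.Helper4.TCD_He1_C3
import Cfsg.Agent.Lib.Helper4.TCD_He1_C4

namespace Cfsg.Agent.Lib.Helper4.TCD.He1

open Cfsg.Agent.Lib.Helper4.TC

theorem h_rel : ∀ t, 5480 ≤ t → t < 18671 → D.relOK t = true :=
  (range_glue (range_of_allRange c_rel_0) (range_glue (range_of_allRange c_rel_1) (range_glue (range_of_allRange c_rel_2) (range_of_allRange c_rel_3))))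
theorem h_fin : ∀ i, 0 ≤ i → i < 2058 → ∀ x, x < 7 → T.finOK D i x = true :=
  (range_of_allGrid c_fin_0)
theorem h_perm : ∀ i, 0 ≤ i → i < 2058 → ∀ x, x < 7 → T.permOK1 D i x = true :=
  (range_of_allGrid c_perm_0)

theorem checked : T.Checked D where
  hz := c_zero
  hn := fun d h0 hd => range_of_allRange c_names d h0 hd
  hb := fun j hj => allBelow_eq_true.1 c_base j hj
  hr := fun t h1 h2 => h_rel t h1 h2
  hfin := fun i x hi hx => h_fin i (Nat.zero_le _) hi x hx
  hperm := fun i x hi hx => h_perm i (Nat.zero_le _) hi x hx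
  hlet := fun x hx => allBelow_eq_true.1 c_let x hx
  hcls := fun d h0 hd => range_of_allRange c_cls d h0 hd
  hrep := fun i hi => allBelow_eq_true.1 c_rep i hi
  hcls0 := c_cls0
  hname0 := c_name0
  hN := by decide
  hM := by decide

theorem h_act : ∀ L ∈ PHe.P.real, ∀ i, i < T.N → Tab.relActOK T D L i = true := by
  rw [c_real]
  intro L hL
  simp only [realLit, List.mem_cons, List.not_mem_nil, or_false] at hL
  rcases hL with rfl | rfl | rfl | rfl | rfl | rfl | rfl | rfl | rfl | rfl | rfl | rfl | rfl | rfl | rfl | rfl | rfl | rfl | rfl | rfl | rfl | rfl | rfl | rfl | rfl | rfl | rfl | rfl | rfl | rfl | rfl | rfl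
  · intro i hi
    rw [Tab.relActOK, ← actR0_eq]
    exact allBelow_eq_true.1 c_act_0 i hi
  · intro i hi
    rw [Tab.relActOK, ← actR1_eq]
    exact allBelow_eq_true.1 c_act_1 i hi
  · intro i hi
    rw [Tab.relActOK, ← actR2_eq]
    exact allBelow_eq_true.1 c_act_2 i hi
  · intro i hi
    rw [Tab.relActOK, ← actR3_eq]
    exact allBelow_eq_true.1 c_act_3 i hi
  · intro i hi
    rw [Tab.relActOK, ← actR4_eq]
    exact allBelow_eq_true.1 c_act_4 i hi
  · intro i hi
    rw [Tab.relActOK, ← actR5_eq]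
    exact allBelow_eq_true.1 c_act_5 i hi
  · intro i hi
    rw [Tab.relActOK, ← actR6_eq]
    exact allBelow_eq_true.1 c_act_6 i hi
  · intro i hi
    rw [Tab.relActOK, ← actR7_eq]
    exact allBelow_eq_true.1 c_act_7 i hi
  · intro i hi
    rw [Tab.relActOK, ← actR8_eq]
    exact allBelow_eq_true.1 c_act_8 i hi
  · intro i hi
    rw [Tab.relActOK, ← actR9_eq]
    exact allBelow_eq_true.1 c_act_9 i hi
  · intro i hi
    rw [Tab.relActOK, ← actR10_eq]
    exact allBelow_eq_true.1 c_act_10 i hi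
  · intro i hi
    rw [Tab.relActOK, ← actR11_eq]
    exact allBelow_eq_true.1 c_act_11 i hi
  · intro i hi
    rw [Tab.relActOK, ← actR12_eq]
    exact allBelow_eq_true.1 c_act_12 i hi
  · intro i hi
    rw [Tab.relActOK, ← actR13_eq]
    exact allBelow_eq_true.1 c_act_13 i hi
  · intro i hi
    rw [Tab.relActOK, ← actR14_eq]
    exact allBelow_eq_true.1 c_act_14 i hi
  · intro i hi
    rw [Tab.relActOK, ← actR15_eq]
    exact allBelow_eq_true.1 c_act_15 i hi
  · intro i hi
    rw [Tab.relActOK, ← actR16_eq]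
    exact allBelow_eq_true.1 c_act_16 i hi
  · intro i hi
    rw [Tab.relActOK, ← actR17_eq]
    exact allBelow_eq_true.1 c_act_17 i hi
  · intro i hi
    rw [Tab.relActOK, ← actR18_eq]
    exact allBelow_eq_true.1 c_act_18 i hi
  · intro i hi
    rw [Tab.relActOK, ← actR19_eq]
    exact allBelow_eq_true.1 c_act_19 i hi
  · intro i hi
    rw [Tab.relActOK, ← actR20_eq]
    exact allBelow_eq_true.1 c_act_20 i hi
  · intro i hi
    rw [Tab.relActOK, ← actR21_eq]
    exact allBelow_eq_true.1 c_act_21 i hi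
  · intro i hi
    rw [Tab.relActOK, ← actR22_eq]
    exact allBelow_eq_true.1 c_act_22 i hi
  · intro i hi
    rw [Tab.relActOK, ← actR23_eq]
    exact allBelow_eq_true.1 c_act_23 i hi
  · intro i hi
    rw [Tab.relActOK, ← actR24_eq]
    exact allBelow_eq_true.1 c_act_24 i hi
  · intro i hi
    rw [Tab.relActOK, ← actR25_eq]
    exact allBelow_eq_true.1 c_act_25 i hi
  · intro i hi
    rw [Tab.relActOK, ← actR26_eq]
    exact allBelow_eq_true.1 c_act_26 i hi
  · intro i hi
    rw [Tab.relActOK, ← actR27_eq]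
    exact allBelow_eq_true.1 c_act_27 i hi
  · intro i hi
    rw [Tab.relActOK, ← actR28_eq]
    exact allBelow_eq_true.1 c_act_28 i hi
  · intro i hi
    rw [Tab.relActOK, ← actR29_eq]
    exact allBelow_eq_true.1 c_act_29 i hi
  · intro i hi
    rw [Tab.relActOK, ← actR30_eq]
    exact allBelow_eq_true.1 c_act_30 i hi
  · intro i hi
    rw [Tab.relActOK, ← actR31_eq]
    exact allBelow_eq_true.1 c_act_31 i hi

theorem inst : Inst PHe.P T D subs where
  hP := PHe.valid
  hk := rfl
  hinv := rfl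
  hsubs := by
    intro u hu x hx
    have h1 := List.all_eq_true.1 c_subs u hu
    exact ble_succ (List.all_eq_true.1 h1 x hx)
  htab := c_tab
  hC := checked
  hact := h_act
  hsubfix := fun u hu => beq_eq (List.all_eq_true.1 c_subfix u hu)

theorem index_eq : (Inst.subG PHe.P subs).index = 2058 := inst.index_eq

theorem orb_inv_0 : ∀ j, 1 ≤ j → j < 137 → Tab.orbInvOK T D subs 1 137 j = true :=
  range_of_allRange c_oinv_0
theorem orb_tree_0 : ∀ j, 1 < j → j < 137 → Tab.orbTreeOK T D subs oparTab olabTab 1 j = true :=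
  fun j h1 h2 => range_of_allRange c_otree_0 j h1 h2
theorem orb_inv_1 : ∀ j, 137 ≤ j → j < 273 → Tab.orbInvOK T D subs 137 273 j = true :=
  range_of_allRange c_oinv_1
theorem orb_tree_1 : ∀ j, 137 < j → j < 273 → Tab.orbTreeOK T D subs oparTab olabTab 137 j = true :=
  fun j h1 h2 => range_of_allRange c_otree_1 j h1 h2
theorem orb_inv_2 : ∀ j, 273 ≤ j → j < 698 → Tab.orbInvOK T D subs 273 698 j = true :=
  range_of_allRange c_oinv_2
theorem orb_tree_2 : ∀ j, 273 < j → j < 698 → Tab.orbTreeOK T D subs oparTab olabTab 273 j = true :=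
  fun j h1 h2 => range_of_allRange c_otree_2 j h1 h2
theorem orb_inv_3 : ∀ j, 698 ≤ j → j < 2058 → Tab.orbInvOK T D subs 698 2058 j = true :=
  range_of_allRange c_oinv_3
theorem orb_tree_3 : ∀ j, 698 < j → j < 2058 → Tab.orbTreeOK T D subs oparTab olabTab 698 j = true :=
  fun j h1 h2 => range_of_allRange c_otree_3 j h1 h2

end Cfsg.Agent.Lib.Helper4.TCD.He1
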