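import Cfsg.Agent.Lib.Helper4.TCD_HeU1_Acc

namespace Cfsg.Agent.Lib.Helper4.TCD.HeU1

open Cfsg.Agent.Lib.Helper4.TC

set_option maxRecDepth 100000
set_option Elab.async false

theorem c_rel_37 : allRange D.relOK 382815 3006 = true := by decide +kernel
theorem c_rel_38 : allRange D.relOK 385821 3008 = true := by decide +kernel
theorem c_rel_39 : allRange D.relOK 388829 2943 = true := by decide +kernel
theorem c_rel_40 : allRange D.relOK 391772 2937 = true := by decide +kernel
theorem c_rel_41 : allRange D.relOK 394709 2957 = true := by decide +kernel
theorem c_rel_42 : allRange D.relOK 397666 2936 = true := by decide +kernel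
theorem c_rel_43 : allRange D.relOK 400602 3028 = true := by decide +kernel
theorem c_rel_44 : allRange D.relOK 403630 2947 = true := by decide +kernel
theorem c_rel_45 : allRange D.relOK 406577 2961 = true := by decide +kernel
theorem c_rel_46 : allRange D.relOK 409538 2990 = true := by decide +kernel
theorem c_rel_47 : allRange D.relOK 412528 2945 = true := by decide +kernel
theorem c_rel_48 : allRange D.relOK 415473 3100 = true := by decide +kernel
theorem c_rel_49 : allRange D.relOK 418573 3102 = true := by decide +kernel
theorem c_rel_50 : allRange D.relOK 421675 2984 = true := by decide +kernel
theorem c_rel_51 : allRange D.relOK 424659 2986 = true := by decide +kernel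
theorem c_rel_52 : allRange D.relOK 427645 3034 = true := by decide +kernel
theorem c_rel_53 : allRange D.relOK 430679 2985 = true := by decide +kernel
theorem c_rel_54 : allRange D.relOK 433664 2967 = true := by decide +kernel
theorem c_rel_55 : allRange D.relOK 436631 2984 = true := by decide +kernel
theorem c_rel_56 : allRange D.relOK 439615 2951 = true := by decide +kernel
theorem c_rel_57 : allRange D.relOK 442566 2908 = true := by decide +kernel
theorem c_rel_58 : allRange D.relOK 445474 2989 = true := by decide +kernel
theorem c_rel_59 : allRange D.relOK 448463 2989 = true := by decide +kernel
theorem c_rel_60 : allRange D.relOK 451452 2969 = true := by decide +kernel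
theorem c_rel_61 : allRange D.relOK 454421 3012 = true := by decide +kernel
theorem c_rel_62 : allRange D.relOK 457433 2908 = true := by decide +kernel
theorem c_rel_63 : allRange D.relOK 460341 2928 = true := by decide +kernel
theorem c_rel_64 : allRange D.relOK 463269 2949 = true := by decide +kernel
theorem c_rel_65 : allRange D.relOK 466218 3062 = true := by decide +kernel
theorem c_rel_66 : allRange D.relOK 469280 3058 = true := by decide +kernel
theorem c_rel_67 : allRange D.relOK 472338 3015 = true := by decide +kernel
theorem c_rel_68 : allRange D.relOK 475353 3003 = true := by decide +kernel
theorem c_rel_69 : allRange D.relOK 478356 2929 = true := by decide +kernel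
theorem c_rel_70 : allRange D.relOK 481285 2960 = true := by decide +kernel
theorem c_rel_71 : allRange D.relOK 484245 2975 = true := by decide +kernel
theorem c_rel_72 : allRange D.relOK 487220 2999 = true := by decide +kernel
theorem c_rel_73 : allRange D.relOK 490219 2978 = true := by decide +kernel
theorem c_rel_74 : allRange D.relOK 493197 2949 = true := by decide +kernel
theorem c_rel_75 : allRange D.relOK 496146 3016 = true := by decide +kernel
theorem c_rel_76 : allRange D.relOK 499162 3009 = true := by decide +kernel
theorem c_rel_77 : allRange D.relOK 502171 3094 = true := by decide +kernel
theorem c_rel_78 : allRange D.relOK 505265 3087 = true := by decide +kernel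
theorem c_rel_79 : allRange D.relOK 508352 3076 = true := by decide +kernel
theorem c_rel_80 : allRange D.relOK 511428 2966 = true := by decide +kernel
theorem c_rel_81 : allRange D.relOK 514394 3003 = true := by decide +kernel
theorem c_rel_82 : allRange D.relOK 517397 3028 = true := by decide +kernel
theorem c_rel_83 : allRange D.relOK 520425 2987 = true := by decide +kernel
theorem c_rel_84 : allRange D.relOK 523412 2922 = true := by decide +kernel
theorem c_rel_85 : allRange D.relOK 526334 2970 = true := by decide +kernel
theorem c_rel_86 : allRange D.relOK 529304 2957 = true := by decide +kernel
theorem c_rel_87 : allRange D.relOK 532261 2956 = true := by decide +kernel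
theorem c_rel_88 : allRange D.relOK 535217 2948 = true := by decide +kernel
theorem c_rel_89 : allRange D.relOK 538165 2956 = true := by decide +kernel
theorem c_rel_90 : allRange D.relOK 541121 2926 = true := by decide +kernel
theorem c_rel_91 : allRange D.relOK 544047 2955 = true := by decide +kernel
theorem c_rel_92 : allRange D.relOK 547002 3015 = true := by decide +kernel
theorem c_rel_93 : allRange D.relOK 550017 3015 = true := by decide +kernel
theorem c_rel_94 : allRange D.relOK 553032 3001 = true := by decide +kernel
theorem c_rel_95 : allRange D.relOK 556033 2944 = true := by decide +kernel
theorem c_rel_96 : allRange D.relOK 558977 3037 = true := by decide +kernel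
theorem c_rel_97 : allRange D.relOK 562014 3070 = true := by decide +kernel
theorem c_rel_98 : allRange D.relOK 565084 3035 = true := by decide +kernel
theorem c_rel_99 : allRange D.relOK 568119 3027 = true := by decide +kernel
theorem c_rel_100 : allRange D.relOK 571146 2909 = true := by decide +kernel
theorem c_rel_101 : allRange D.relOK 574055 2981 = true := by decide +kernel
theorem c_rel_102 : allRange D.relOK 577036 3021 = true := by decide +kernel
theorem c_rel_103 : allRange D.relOK 580057 3037 = true := by decide +kernel
theorem c_rel_104 : allRange D.relOK 583094 2949 = true := by decide +kernel
theorem c_rel_105 : allRange D.relOK 586043 2930 = true := by decide +kernel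
theorem c_rel_106 : allRange D.relOK 588973 3004 = true := by decide +kernel
theorem c_rel_107 : allRange D.relOK 591977 2920 = true := by decide +kernel
theorem c_rel_108 : allRange D.relOK 594897 2997 = true := by decide +kernel
theorem c_rel_109 : allRange D.relOK 597894 2992 = true := by decide +kernel
theorem c_rel_110 : allRange D.relOK 600886 2984 = true := by decide +kernel
theorem c_rel_111 : allRange D.relOK 603870 2972 = true := by decide +kernel
theorem c_rel_112 : allRange D.relOK 606842 2939 = true := by decide +kernel
theorem c_rel_113 : allRange D.relOK 609781 2936 = true := by decide +kernel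
theorem c_rel_114 : allRange D.relOK 612717 2965 = true := by decide +kernel
theorem c_rel_115 : allRange D.relOK 615682 2892 = true := by decide +kernel
theorem c_rel_116 : allRange D.relOK 618574 2976 = true := by decide +kernel
theorem c_rel_117 : allRange D.relOK 621550 2930 = true := by decide +kernel
theorem c_rel_118 : allRange D.relOK 624480 2891 = true := by decide +kernel
theorem c_rel_119 : allRange D.relOK 627371 2943 = true := by decide +kernel
theorem c_rel_120 : allRange D.relOK 630314 2920 = true := by decide +kernel
theorem c_rel_121 : allRange D.relOK 633234 2904 = true := by decide +kernel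
theorem c_rel_122 : allRange D.relOK 636138 2863 = true := by decide +kernel
theorem c_rel_123 : allRange D.relOK 639001 2930 = true := by decide +kernel
theorem c_rel_124 : allRange D.relOK 641931 2911 = true := by decide +kernel
theorem c_rel_125 : allRange D.relOK 644842 2969 = true := by decide +kernel
theorem c_rel_126 : allRange D.relOK 647811 2960 = true := by decide +kernel
theorem c_rel_127 : allRange D.relOK 650771 2926 = true := by decide +kernel
theorem c_rel_128 : allRange D.relOK 653697 2906 = true := by decide +kernel
theorem c_rel_129 : allRange D.relOK 656603 2891 = true := by decide +kernel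
theorem c_rel_130 : allRange D.relOK 659494 2883 = true := by decide +kernel
theorem c_rel_131 : allRange D.relOK 662377 2952 = true := by decide +kernel
theorem c_rel_132 : allRange D.relOK 665329 2914 = true := by decide +kernel
theorem c_rel_133 : allRange D.relOK 668243 2947 = true := by decide +kernel
theorem c_rel_134 : allRange D.relOK 671190 2892 = true := by decide +kernel
theorem c_rel_135 : allRange D.relOK 674082 2886 = true := by decide +kernel

end Cfsg.Agent.Lib.Helper4.TCD.HeU1
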