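import Cfsg.Agent.Lib.Helper4.TCD_HeU1_Acc

namespace Cfsg.Agent.Lib.Helper4.TCD.HeU1

open Cfsg.Agent.Lib.Helper4.TC

set_option maxRecDepth 100000
set_option Elab.async false

theorem c_rel_136 : allRange D.relOK 676968 2930 = true := by decide +kernel
theorem c_rel_137 : allRange D.relOK 679898 2922 = true := by decide +kernel
theorem c_rel_138 : allRange D.relOK 682820 2911 = true := by decide +kernel
theorem c_rel_139 : allRange D.relOK 685731 2929 = true := by decide +kernel
theorem c_rel_140 : allRange D.relOK 688660 2854 = true := by decide +kernel
theorem c_rel_141 : allRange D.relOK 691514 2933 = true := by decide +kernel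
theorem c_rel_142 : allRange D.relOK 694447 2869 = true := by decide +kernel
theorem c_rel_143 : allRange D.relOK 697316 2897 = true := by decide +kernel
theorem c_rel_144 : allRange D.relOK 700213 2847 = true := by decide +kernel
theorem c_rel_145 : allRange D.relOK 703060 2887 = true := by decide +kernel
theorem c_rel_146 : allRange D.relOK 705947 2931 = true := by decide +kernel
theorem c_rel_147 : allRange D.relOK 708878 2878 = true := by decide +kernel
theorem c_rel_148 : allRange D.relOK 711756 2869 = true := by decide +kernel
theorem c_rel_149 : allRange D.relOK 714625 2923 = true := by decide +kernel
theorem c_rel_150 : allRange D.relOK 717548 2876 = true := by decide +kernel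
theorem c_rel_151 : allRange D.relOK 720424 2822 = true := by decide +kernel
theorem c_rel_152 : allRange D.relOK 723246 2944 = true := by decide +kernel
theorem c_rel_153 : allRange D.relOK 726190 2934 = true := by decide +kernel
theorem c_rel_154 : allRange D.relOK 729124 2898 = true := by decide +kernel
theorem c_rel_155 : allRange D.relOK 732022 2884 = true := by decide +kernel
theorem c_rel_156 : allRange D.relOK 734906 2903 = true := by decide +kernel
theorem c_rel_157 : allRange D.relOK 737809 2855 = true := by decide +kernel
theorem c_rel_158 : allRange D.relOK 740664 2868 = true := by decide +kernel
theorem c_rel_159 : allRange D.relOK 743532 2911 = true := by decide +kernel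
theorem c_rel_160 : allRange D.relOK 746443 2817 = true := by decide +kernel
theorem c_rel_161 : allRange D.relOK 749260 2844 = true := by decide +kernel
theorem c_rel_162 : allRange D.relOK 752104 2831 = true := by decide +kernel
theorem c_rel_163 : allRange D.relOK 754935 2829 = true := by decide +kernel
theorem c_rel_164 : allRange D.relOK 757764 2917 = true := by decide +kernel
theorem c_rel_165 : allRange D.relOK 760681 2840 = true := by decide +kernel
theorem c_rel_166 : allRange D.relOK 763521 2865 = true := by decide +kernel
theorem c_rel_167 : allRange D.relOK 766386 2843 = true := by decide +kernel
theorem c_rel_168 : allRange D.relOK 769229 2843 = true := by decide +kernel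
theorem c_rel_169 : allRange D.relOK 772072 2815 = true := by decide +kernel
theorem c_rel_170 : allRange D.relOK 774887 2787 = true := by decide +kernel
theorem c_rel_171 : allRange D.relOK 777674 2860 = true := by decide +kernel
theorem c_rel_172 : allRange D.relOK 780534 2789 = true := by decide +kernel
theorem c_rel_173 : allRange D.relOK 783323 2836 = true := by decide +kernel
theorem c_rel_174 : allRange D.relOK 786159 2781 = true := by decide +kernel
theorem c_rel_175 : allRange D.relOK 788940 2827 = true := by decide +kernel
theorem c_rel_176 : allRange D.relOK 791767 2834 = true := by decide +kernel
theorem c_rel_177 : allRange D.relOK 794601 2787 = true := by decide +kernel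
theorem c_rel_178 : allRange D.relOK 797388 2810 = true := by decide +kernel
theorem c_rel_179 : allRange D.relOK 800198 2844 = true := by decide +kernel
theorem c_rel_180 : allRange D.relOK 803042 2884 = true := by decide +kernel
theorem c_rel_181 : allRange D.relOK 805926 2835 = true := by decide +kernel
theorem c_rel_182 : allRange D.relOK 808761 2888 = true := by decide +kernel
theorem c_rel_183 : allRange D.relOK 811649 2803 = true := by decide +kernel
theorem c_rel_184 : allRange D.relOK 814452 2795 = true := by decide +kernel
theorem c_rel_185 : allRange D.relOK 817247 2804 = true := by decide +kernel
theorem c_rel_186 : allRange D.relOK 820051 2796 = true := by decide +kernel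
theorem c_rel_187 : allRange D.relOK 822847 2838 = true := by decide +kernel
theorem c_rel_188 : allRange D.relOK 825685 2858 = true := by decide +kernel
theorem c_rel_189 : allRange D.relOK 828543 2772 = true := by decide +kernel
theorem c_rel_190 : allRange D.relOK 831315 2802 = true := by decide +kernel
theorem c_rel_191 : allRange D.relOK 834117 2822 = true := by decide +kernel
theorem c_rel_192 : allRange D.relOK 836939 2818 = true := by decide +kernel
theorem c_rel_193 : allRange D.relOK 839757 2753 = true := by decide +kernel
theorem c_rel_194 : allRange D.relOK 842510 2840 = true := by decide +kernel
theorem c_rel_195 : allRange D.relOK 845350 2794 = true := by decide +kernel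
theorem c_rel_196 : allRange D.relOK 848144 2697 = true := by decide +kernel
theorem c_rel_197 : allRange D.relOK 850841 2801 = true := by decide +kernel
theorem c_rel_198 : allRange D.relOK 853642 2803 = true := by decide +kernel
theorem c_rel_199 : allRange D.relOK 856445 2819 = true := by decide +kernel
theorem c_rel_200 : allRange D.relOK 859264 2824 = true := by decide +kernel
theorem c_rel_201 : allRange D.relOK 862088 2711 = true := by decide +kernel
theorem c_rel_202 : allRange D.relOK 864799 2777 = true := by decide +kernel
theorem c_rel_203 : allRange D.relOK 867576 2782 = true := by decide +kernel
theorem c_rel_204 : allRange D.relOK 870358 2820 = true := by decide +kernel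
theorem c_rel_205 : allRange D.relOK 873178 2787 = true := by decide +kernel
theorem c_rel_206 : allRange D.relOK 875965 2757 = true := by decide +kernel
theorem c_rel_207 : allRange D.relOK 878722 2772 = true := by decide +kernel
theorem c_rel_208 : allRange D.relOK 881494 2727 = true := by decide +kernel
theorem c_rel_209 : allRange D.relOK 884221 2764 = true := by decide +kernel
theorem c_rel_210 : allRange D.relOK 886985 2755 = true := by decide +kernel
theorem c_rel_211 : allRange D.relOK 889740 2723 = true := by decide +kernel
theorem c_rel_212 : allRange D.relOK 892463 2699 = true := by decide +kernel
theorem c_rel_213 : allRange D.relOK 895162 2737 = true := by decide +kernel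
theorem c_rel_214 : allRange D.relOK 897899 2743 = true := by decide +kernel
theorem c_rel_215 : allRange D.relOK 900642 2725 = true := by decide +kernel
theorem c_rel_216 : allRange D.relOK 903367 2726 = true := by decide +kernel
theorem c_rel_217 : allRange D.relOK 906093 2733 = true := by decide +kernel
theorem c_rel_218 : allRange D.relOK 908826 2754 = true := by decide +kernel
theorem c_rel_219 : allRange D.relOK 911580 2725 = true := by decide +kernel
theorem c_rel_220 : allRange D.relOK 914305 2725 = true := by decide +kernel
theorem c_rel_221 : allRange D.relOK 917030 2693 = true := by decide +kernel
theorem c_rel_222 : allRange D.relOK 919723 2715 = true := by decide +kernel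
theorem c_rel_223 : allRange D.relOK 922438 2696 = true := by decide +kernel
theorem c_rel_224 : allRange D.relOK 925134 2667 = true := by decide +kernel
theorem c_rel_225 : allRange D.relOK 927801 2682 = true := by decide +kernel
theorem c_rel_226 : allRange D.relOK 930483 2687 = true := by decide +kernel
theorem c_rel_227 : allRange D.relOK 933170 2676 = true := by decide +kernel
theorem c_rel_228 : allRange D.relOK 935846 2687 = true := by decide +kernel
theorem c_rel_229 : allRange D.relOK 938533 3588 = true := by decide +kernel
theorem c_rel_230 : allRange D.relOK 942121 4996 = true := by decide +kernel
theorem c_rel_231 : allRange D.relOK 947117 681 = true := by decide +kernel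
theorem c_fin_0 : allGrid (T.finOK D) 0 1714 7 = true := by decide +kernel
theorem c_fin_1 : allGrid (T.finOK D) 1714 1714 7 = true := by decide +kernel

end Cfsg.Agent.Lib.Helper4.TCD.HeU1
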