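import Cfsg.Agent.Lib.Helper4.TCD_HeU1_Acc

namespace Cfsg.Agent.Lib.Helper4.TCD.HeU1

open Cfsg.Agent.Lib.Helper4.TC

set_option maxRecDepth 100000
set_option Elab.async false

theorem c_fin_2 : allGrid (T.finOK D) 3428 1714 7 = true := by decide +kernel
theorem c_fin_3 : allGrid (T.finOK D) 5142 1714 7 = true := by decide +kernel
theorem c_fin_4 : allGrid (T.finOK D) 6856 1714 7 = true := by decide +kernel
theorem c_fin_5 : allGrid (T.finOK D) 8570 1714 7 = true := by decide +kernel
theorem c_fin_6 : allGrid (T.finOK D) 10284 1714 7 = true := by decide +kernel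
theorem c_fin_7 : allGrid (T.finOK D) 11998 1714 7 = true := by decide +kernel
theorem c_fin_8 : allGrid (T.finOK D) 13712 1714 7 = true := by decide +kernel
theorem c_fin_9 : allGrid (T.finOK D) 15426 1714 7 = true := by decide +kernel
theorem c_fin_10 : allGrid (T.finOK D) 17140 1714 7 = true := by decide +kernel
theorem c_fin_11 : allGrid (T.finOK D) 18854 1714 7 = true := by decide +kernel
theorem c_fin_12 : allGrid (T.finOK D) 20568 1714 7 = true := by decide +kernel
theorem c_fin_13 : allGrid (T.finOK D) 22282 1714 7 = true := by decide +kernel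
theorem c_fin_14 : allGrid (T.finOK D) 23996 1714 7 = true := by decide +kernel
theorem c_fin_15 : allGrid (T.finOK D) 25710 1714 7 = true := by decide +kernel
theorem c_fin_16 : allGrid (T.finOK D) 27424 1714 7 = true := by decide +kernel
theorem c_fin_17 : allGrid (T.finOK D) 29138 1714 7 = true := by decide +kernel
theorem c_fin_18 : allGrid (T.finOK D) 30852 1714 7 = true := by decide +kernel
theorem c_fin_19 : allGrid (T.finOK D) 32566 1714 7 = true := by decide +kernel
theorem c_fin_20 : allGrid (T.finOK D) 34280 1714 7 = true := by decide +kernel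
theorem c_fin_21 : allGrid (T.finOK D) 35994 1714 7 = true := by decide +kernel
theorem c_fin_22 : allGrid (T.finOK D) 37708 1714 7 = true := by decide +kernel
theorem c_fin_23 : allGrid (T.finOK D) 39422 1714 7 = true := by decide +kernel
theorem c_fin_24 : allGrid (T.finOK D) 41136 1714 7 = true := by decide +kernel
theorem c_fin_25 : allGrid (T.finOK D) 42850 1714 7 = true := by decide +kernel
theorem c_fin_26 : allGrid (T.finOK D) 44564 1714 7 = true := by decide +kernel
theorem c_fin_27 : allGrid (T.finOK D) 46278 1714 7 = true := by decide +kernel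
theorem c_fin_28 : allGrid (T.finOK D) 47992 1714 7 = true := by decide +kernel
theorem c_fin_29 : allGrid (T.finOK D) 49706 1714 7 = true := by decide +kernel
theorem c_fin_30 : allGrid (T.finOK D) 51420 1714 7 = true := by decide +kernel
theorem c_fin_31 : allGrid (T.finOK D) 53134 1714 7 = true := by decide +kernel
theorem c_fin_32 : allGrid (T.finOK D) 54848 1714 7 = true := by decide +kernel
theorem c_fin_33 : allGrid (T.finOK D) 56562 1714 7 = true := by decide +kernel
theorem c_fin_34 : allGrid (T.finOK D) 58276 1714 7 = true := by decide +kernel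
theorem c_fin_35 : allGrid (T.finOK D) 59990 1714 7 = true := by decide +kernel
theorem c_fin_36 : allGrid (T.finOK D) 61704 1714 7 = true := by decide +kernel
theorem c_fin_37 : allGrid (T.finOK D) 63418 1714 7 = true := by decide +kernel
theorem c_fin_38 : allGrid (T.finOK D) 65132 1714 7 = true := by decide +kernel
theorem c_fin_39 : allGrid (T.finOK D) 66846 1714 7 = true := by decide +kernel
theorem c_fin_40 : allGrid (T.finOK D) 68560 1714 7 = true := by decide +kernel
theorem c_fin_41 : allGrid (T.finOK D) 70274 1714 7 = true := by decide +kernel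
theorem c_fin_42 : allGrid (T.finOK D) 71988 1714 7 = true := by decide +kernel
theorem c_fin_43 : allGrid (T.finOK D) 73702 1714 7 = true := by decide +kernel
theorem c_fin_44 : allGrid (T.finOK D) 75416 1714 7 = true := by decide +kernel
theorem c_fin_45 : allGrid (T.finOK D) 77130 1714 7 = true := by decide +kernel
theorem c_fin_46 : allGrid (T.finOK D) 78844 1714 7 = true := by decide +kernel
theorem c_fin_47 : allGrid (T.finOK D) 80558 1714 7 = true := by decide +kernel
theorem c_fin_48 : allGrid (T.finOK D) 82272 1714 7 = true := by decide +kernel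
theorem c_fin_49 : allGrid (T.finOK D) 83986 1714 7 = true := by decide +kernel
theorem c_fin_50 : allGrid (T.finOK D) 85700 1714 7 = true := by decide +kernel
theorem c_fin_51 : allGrid (T.finOK D) 87414 1714 7 = true := by decide +kernel

end Cfsg.Agent.Lib.Helper4.TCD.HeU1
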