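import Cfsg.Agent.Lib.Helper4.TCD_HeU1_Acc

namespace Cfsg.Agent.Lib.Helper4.TCD.HeU1

open Cfsg.Agent.Lib.Helper4.TC

set_option maxRecDepth 100000
set_option Elab.async false

theorem c_fin_52 : allGrid (T.finOK D) 89128 1714 7 = true := by decide +kernel
theorem c_fin_53 : allGrid (T.finOK D) 90842 1714 7 = true := by decide +kernel
theorem c_fin_54 : allGrid (T.finOK D) 92556 1714 7 = true := by decide +kernel
theorem c_fin_55 : allGrid (T.finOK D) 94270 1714 7 = true := by decide +kernel
theorem c_fin_56 : allGrid (T.finOK D) 95984 1714 7 = true := by decide +kernel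
theorem c_fin_57 : allGrid (T.finOK D) 97698 1714 7 = true := by decide +kernel
theorem c_fin_58 : allGrid (T.finOK D) 99412 1714 7 = true := by decide +kernel
theorem c_fin_59 : allGrid (T.finOK D) 101126 1714 7 = true := by decide +kernel
theorem c_fin_60 : allGrid (T.finOK D) 102840 1714 7 = true := by decide +kernel
theorem c_fin_61 : allGrid (T.finOK D) 104554 1714 7 = true := by decide +kernel
theorem c_fin_62 : allGrid (T.finOK D) 106268 1714 7 = true := by decide +kernel
theorem c_fin_63 : allGrid (T.finOK D) 107982 1714 7 = true := by decide +kernel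
theorem c_fin_64 : allGrid (T.finOK D) 109696 1714 7 = true := by decide +kernel
theorem c_fin_65 : allGrid (T.finOK D) 111410 1714 7 = true := by decide +kernel
theorem c_fin_66 : allGrid (T.finOK D) 113124 1714 7 = true := by decide +kernel
theorem c_fin_67 : allGrid (T.finOK D) 114838 1714 7 = true := by decide +kernel
theorem c_fin_68 : allGrid (T.finOK D) 116552 1714 7 = true := by decide +kernel
theorem c_fin_69 : allGrid (T.finOK D) 118266 1714 7 = true := by decide +kernel
theorem c_fin_70 : allGrid (T.finOK D) 119980 1714 7 = true := by decide +kernel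
theorem c_fin_71 : allGrid (T.finOK D) 121694 1714 7 = true := by decide +kernel
theorem c_fin_72 : allGrid (T.finOK D) 123408 1714 7 = true := by decide +kernel
theorem c_fin_73 : allGrid (T.finOK D) 125122 1714 7 = true := by decide +kernel
theorem c_fin_74 : allGrid (T.finOK D) 126836 1714 7 = true := by decide +kernel
theorem c_fin_75 : allGrid (T.finOK D) 128550 1714 7 = true := by decide +kernel
theorem c_fin_76 : allGrid (T.finOK D) 130264 1714 7 = true := by decide +kernel
theorem c_fin_77 : allGrid (T.finOK D) 131978 1714 7 = true := by decide +kernel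
theorem c_fin_78 : allGrid (T.finOK D) 133692 1714 7 = true := by decide +kernel
theorem c_fin_79 : allGrid (T.finOK D) 135406 1714 7 = true := by decide +kernel
theorem c_fin_80 : allGrid (T.finOK D) 137120 1714 7 = true := by decide +kernel
theorem c_fin_81 : allGrid (T.finOK D) 138834 1714 7 = true := by decide +kernel
theorem c_fin_82 : allGrid (T.finOK D) 140548 1714 7 = true := by decide +kernel
theorem c_fin_83 : allGrid (T.finOK D) 142262 1714 7 = true := by decide +kernel
theorem c_fin_84 : allGrid (T.finOK D) 143976 1714 7 = true := by decide +kernel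
theorem c_fin_85 : allGrid (T.finOK D) 145690 1714 7 = true := by decide +kernel
theorem c_fin_86 : allGrid (T.finOK D) 147404 1714 7 = true := by decide +kernel
theorem c_fin_87 : allGrid (T.finOK D) 149118 1714 7 = true := by decide +kernel
theorem c_fin_88 : allGrid (T.finOK D) 150832 1714 7 = true := by decide +kernel
theorem c_fin_89 : allGrid (T.finOK D) 152546 1714 7 = true := by decide +kernel
theorem c_fin_90 : allGrid (T.finOK D) 154260 1714 7 = true := by decide +kernel
theorem c_fin_91 : allGrid (T.finOK D) 155974 1714 7 = true := by decide +kernel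
theorem c_fin_92 : allGrid (T.finOK D) 157688 1714 7 = true := by decide +kernel
theorem c_fin_93 : allGrid (T.finOK D) 159402 1714 7 = true := by decide +kernel
theorem c_fin_94 : allGrid (T.finOK D) 161116 1714 7 = true := by decide +kernel
theorem c_fin_95 : allGrid (T.finOK D) 162830 1714 7 = true := by decide +kernel
theorem c_fin_96 : allGrid (T.finOK D) 164544 1714 7 = true := by decide +kernel
theorem c_fin_97 : allGrid (T.finOK D) 166258 1714 7 = true := by decide +kernel
theorem c_fin_98 : allGrid (T.finOK D) 167972 1714 7 = true := by decide +kernel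
theorem c_fin_99 : allGrid (T.finOK D) 169686 1714 7 = true := by decide +kernel
theorem c_fin_100 : allGrid (T.finOK D) 171400 1714 7 = true := by decide +kernel
theorem c_fin_101 : allGrid (T.finOK D) 173114 1714 7 = true := by decide +kernel

end Cfsg.Agent.Lib.Helper4.TCD.HeU1
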