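import Cfsg.Agent.Lib.Helper4.TCD_HeU1_Acc

namespace Cfsg.Agent.Lib.Helper4.TCD.HeU1

open Cfsg.Agent.Lib.Helper4.TC

set_option maxRecDepth 100000
set_option Elab.async false

theorem c_fin_102 : allGrid (T.finOK D) 174828 1714 7 = true := by decide +kernel
theorem c_fin_103 : allGrid (T.finOK D) 176542 1714 7 = true := by decide +kernel
theorem c_fin_104 : allGrid (T.finOK D) 178256 1714 7 = true := by decide +kernel
theorem c_fin_105 : allGrid (T.finOK D) 179970 1714 7 = true := by decide +kernel
theorem c_fin_106 : allGrid (T.finOK D) 181684 1714 7 = true := by decide +kernel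
theorem c_fin_107 : allGrid (T.finOK D) 183398 1714 7 = true := by decide +kernel
theorem c_fin_108 : allGrid (T.finOK D) 185112 1714 7 = true := by decide +kernel
theorem c_fin_109 : allGrid (T.finOK D) 186826 1714 7 = true := by decide +kernel
theorem c_fin_110 : allGrid (T.finOK D) 188540 1714 7 = true := by decide +kernel
theorem c_fin_111 : allGrid (T.finOK D) 190254 1714 7 = true := by decide +kernel
theorem c_fin_112 : allGrid (T.finOK D) 191968 1714 7 = true := by decide +kernel
theorem c_fin_113 : allGrid (T.finOK D) 193682 1714 7 = true := by decide +kernel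
theorem c_fin_114 : allGrid (T.finOK D) 195396 1714 7 = true := by decide +kernel
theorem c_fin_115 : allGrid (T.finOK D) 197110 1714 7 = true := by decide +kernel
theorem c_fin_116 : allGrid (T.finOK D) 198824 1714 7 = true := by decide +kernel
theorem c_fin_117 : allGrid (T.finOK D) 200538 1714 7 = true := by decide +kernel
theorem c_fin_118 : allGrid (T.finOK D) 202252 1714 7 = true := by decide +kernel
theorem c_fin_119 : allGrid (T.finOK D) 203966 1714 7 = true := by decide +kernel
theorem c_fin_120 : allGrid (T.finOK D) 205680 1714 7 = true := by decide +kernel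
theorem c_fin_121 : allGrid (T.finOK D) 207394 1714 7 = true := by decide +kernel
theorem c_fin_122 : allGrid (T.finOK D) 209108 1714 7 = true := by decide +kernel
theorem c_fin_123 : allGrid (T.finOK D) 210822 1714 7 = true := by decide +kernel
theorem c_fin_124 : allGrid (T.finOK D) 212536 1714 7 = true := by decide +kernel
theorem c_fin_125 : allGrid (T.finOK D) 214250 1714 7 = true := by decide +kernel
theorem c_fin_126 : allGrid (T.finOK D) 215964 1714 7 = true := by decide +kernel
theorem c_fin_127 : allGrid (T.finOK D) 217678 1714 7 = true := by decide +kernel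
theorem c_fin_128 : allGrid (T.finOK D) 219392 1714 7 = true := by decide +kernel
theorem c_fin_129 : allGrid (T.finOK D) 221106 1714 7 = true := by decide +kernel
theorem c_fin_130 : allGrid (T.finOK D) 222820 1714 7 = true := by decide +kernel
theorem c_fin_131 : allGrid (T.finOK D) 224534 1714 7 = true := by decide +kernel
theorem c_fin_132 : allGrid (T.finOK D) 226248 1714 7 = true := by decide +kernel
theorem c_fin_133 : allGrid (T.finOK D) 227962 1714 7 = true := by decide +kernel
theorem c_fin_134 : allGrid (T.finOK D) 229676 1714 7 = true := by decide +kernel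
theorem c_fin_135 : allGrid (T.finOK D) 231390 1714 7 = true := by decide +kernel
theorem c_fin_136 : allGrid (T.finOK D) 233104 1714 7 = true := by decide +kernel
theorem c_fin_137 : allGrid (T.finOK D) 234818 1714 7 = true := by decide +kernel
theorem c_fin_138 : allGrid (T.finOK D) 236532 1714 7 = true := by decide +kernel
theorem c_fin_139 : allGrid (T.finOK D) 238246 1714 7 = true := by decide +kernel
theorem c_fin_140 : allGrid (T.finOK D) 239960 1714 7 = true := by decide +kernel
theorem c_fin_141 : allGrid (T.finOK D) 241674 1714 7 = true := by decide +kernel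
theorem c_fin_142 : allGrid (T.finOK D) 243388 1714 7 = true := by decide +kernel
theorem c_fin_143 : allGrid (T.finOK D) 245102 1714 7 = true := by decide +kernel
theorem c_fin_144 : allGrid (T.finOK D) 246816 1714 7 = true := by decide +kernel
theorem c_fin_145 : allGrid (T.finOK D) 248530 1714 7 = true := by decide +kernel
theorem c_fin_146 : allGrid (T.finOK D) 250244 1714 7 = true := by decide +kernel
theorem c_fin_147 : allGrid (T.finOK D) 251958 1714 7 = true := by decide +kernel
theorem c_fin_148 : allGrid (T.finOK D) 253672 1714 7 = true := by decide +kernel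
theorem c_fin_149 : allGrid (T.finOK D) 255386 1714 7 = true := by decide +kernel
theorem c_fin_150 : allGrid (T.finOK D) 257100 1714 7 = true := by decide +kernel
theorem c_fin_151 : allGrid (T.finOK D) 258814 1714 7 = true := by decide +kernel

end Cfsg.Agent.Lib.Helper4.TCD.HeU1
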