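import Cfsg.Agent.Lib.Helper4.TCD_HeU1_Acc

namespace Cfsg.Agent.Lib.Helper4.TCD.HeU1

open Cfsg.Agent.Lib.Helper4.TC

set_option maxRecDepth 100000
set_option Elab.async false

theorem c_fin_152 : allGrid (T.finOK D) 260528 1714 7 = true := by decide +kernel
theorem c_fin_153 : allGrid (T.finOK D) 262242 1714 7 = true := by decide +kernel
theorem c_fin_154 : allGrid (T.finOK D) 263956 1714 7 = true := by decide +kernel
theorem c_fin_155 : allGrid (T.finOK D) 265670 890 7 = true := by decide +kernel
theorem c_perm_0 : allGrid (T.permOK1 D) 0 4285 7 = true := by decide +kernel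
theorem c_perm_1 : allGrid (T.permOK1 D) 4285 4285 7 = true := by decide +kernel
theorem c_perm_2 : allGrid (T.permOK1 D) 8570 4285 7 = true := by decide +kernel
theorem c_perm_3 : allGrid (T.permOK1 D) 12855 4285 7 = true := by decide +kernel
theorem c_perm_4 : allGrid (T.permOK1 D) 17140 4285 7 = true := by decide +kernel
theorem c_perm_5 : allGrid (T.permOK1 D) 21425 4285 7 = true := by decide +kernel
theorem c_perm_6 : allGrid (T.permOK1 D) 25710 4285 7 = true := by decide +kernel
theorem c_perm_7 : allGrid (T.permOK1 D) 29995 4285 7 = true := by decide +kernel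
theorem c_perm_8 : allGrid (T.permOK1 D) 34280 4285 7 = true := by decide +kernel
theorem c_perm_9 : allGrid (T.permOK1 D) 38565 4285 7 = true := by decide +kernel
theorem c_perm_10 : allGrid (T.permOK1 D) 42850 4285 7 = true := by decide +kernel
theorem c_perm_11 : allGrid (T.permOK1 D) 47135 4285 7 = true := by decide +kernel
theorem c_perm_12 : allGrid (T.permOK1 D) 51420 4285 7 = true := by decide +kernel
theorem c_perm_13 : allGrid (T.permOK1 D) 55705 4285 7 = true := by decide +kernel
theorem c_perm_14 : allGrid (T.permOK1 D) 59990 4285 7 = true := by decide +kernel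
theorem c_perm_15 : allGrid (T.permOK1 D) 64275 4285 7 = true := by decide +kernel
theorem c_perm_16 : allGrid (T.permOK1 D) 68560 4285 7 = true := by decide +kernel
theorem c_perm_17 : allGrid (T.permOK1 D) 72845 4285 7 = true := by decide +kernel
theorem c_perm_18 : allGrid (T.permOK1 D) 77130 4285 7 = true := by decide +kernel
theorem c_perm_19 : allGrid (T.permOK1 D) 81415 4285 7 = true := by decide +kernel
theorem c_perm_20 : allGrid (T.permOK1 D) 85700 4285 7 = true := by decide +kernel
theorem c_perm_21 : allGrid (T.permOK1 D) 89985 4285 7 = true := by decide +kernel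
theorem c_perm_22 : allGrid (T.permOK1 D) 94270 4285 7 = true := by decide +kernel
theorem c_perm_23 : allGrid (T.permOK1 D) 98555 4285 7 = true := by decide +kernel
theorem c_perm_24 : allGrid (T.permOK1 D) 102840 4285 7 = true := by decide +kernel
theorem c_perm_25 : allGrid (T.permOK1 D) 107125 4285 7 = true := by decide +kernel
theorem c_perm_26 : allGrid (T.permOK1 D) 111410 4285 7 = true := by decide +kernel
theorem c_perm_27 : allGrid (T.permOK1 D) 115695 4285 7 = true := by decide +kernel
theorem c_perm_28 : allGrid (T.permOK1 D) 119980 4285 7 = true := by decide +kernel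
theorem c_perm_29 : allGrid (T.permOK1 D) 124265 4285 7 = true := by decide +kernel
theorem c_perm_30 : allGrid (T.permOK1 D) 128550 4285 7 = true := by decide +kernel
theorem c_perm_31 : allGrid (T.permOK1 D) 132835 4285 7 = true := by decide +kernel
theorem c_perm_32 : allGrid (T.permOK1 D) 137120 4285 7 = true := by decide +kernel
theorem c_perm_33 : allGrid (T.permOK1 D) 141405 4285 7 = true := by decide +kernel
theorem c_perm_34 : allGrid (T.permOK1 D) 145690 4285 7 = true := by decide +kernel
theorem c_perm_35 : allGrid (T.permOK1 D) 149975 4285 7 = true := by decide +kernel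
theorem c_perm_36 : allGrid (T.permOK1 D) 154260 4285 7 = true := by decide +kernel
theorem c_perm_37 : allGrid (T.permOK1 D) 158545 4285 7 = true := by decide +kernel
theorem c_perm_38 : allGrid (T.permOK1 D) 162830 4285 7 = true := by decide +kernel
theorem c_perm_39 : allGrid (T.permOK1 D) 167115 4285 7 = true := by decide +kernel
theorem c_perm_40 : allGrid (T.permOK1 D) 171400 4285 7 = true := by decide +kernel
theorem c_perm_41 : allGrid (T.permOK1 D) 175685 4285 7 = true := by decide +kernel
theorem c_perm_42 : allGrid (T.permOK1 D) 179970 4285 7 = true := by decide +kernel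
theorem c_perm_43 : allGrid (T.permOK1 D) 184255 4285 7 = true := by decide +kernel
theorem c_perm_44 : allGrid (T.permOK1 D) 188540 4285 7 = true := by decide +kernel
theorem c_perm_45 : allGrid (T.permOK1 D) 192825 4285 7 = true := by decide +kernel

end Cfsg.Agent.Lib.Helper4.TCD.HeU1
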