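import Cfsg.Agent.Lib.Helper4.TCD_HeU1_Acc

namespace Cfsg.Agent.Lib.Helper4.TCD.HeU1

open Cfsg.Agent.Lib.Helper4.TC

set_option maxRecDepth 100000
set_option Elab.async false

theorem c_perm_46 : allGrid (T.permOK1 D) 197110 4285 7 = true := by decide +kernel
theorem c_perm_47 : allGrid (T.permOK1 D) 201395 4285 7 = true := by decide +kernel
theorem c_perm_48 : allGrid (T.permOK1 D) 205680 4285 7 = true := by decide +kernel
theorem c_perm_49 : allGrid (T.permOK1 D) 209965 4285 7 = true := by decide +kernel
theorem c_perm_50 : allGrid (T.permOK1 D) 214250 4285 7 = true := by decide +kernel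
theorem c_perm_51 : allGrid (T.permOK1 D) 218535 4285 7 = true := by decide +kernel
theorem c_perm_52 : allGrid (T.permOK1 D) 222820 4285 7 = true := by decide +kernel
theorem c_perm_53 : allGrid (T.permOK1 D) 227105 4285 7 = true := by decide +kernel
theorem c_perm_54 : allGrid (T.permOK1 D) 231390 4285 7 = true := by decide +kernel
theorem c_perm_55 : allGrid (T.permOK1 D) 235675 4285 7 = true := by decide +kernel
theorem c_perm_56 : allGrid (T.permOK1 D) 239960 4285 7 = true := by decide +kernel
theorem c_perm_57 : allGrid (T.permOK1 D) 244245 4285 7 = true := by decide +kernel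
theorem c_perm_58 : allGrid (T.permOK1 D) 248530 4285 7 = true := by decide +kernel
theorem c_perm_59 : allGrid (T.permOK1 D) 252815 4285 7 = true := by decide +kernel
theorem c_perm_60 : allGrid (T.permOK1 D) 257100 4285 7 = true := by decide +kernel
theorem c_perm_61 : allGrid (T.permOK1 D) 261385 4285 7 = true := by decide +kernel
theorem c_perm_62 : allGrid (T.permOK1 D) 265670 890 7 = true := by decide +kernel

end Cfsg.Agent.Lib.Helper4.TCD.HeU1
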