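import Cfsg.Agent.Lib.Helper4.TCD_HeU1_C0
import Cfsg.Agent.Lib.Helper4.TCD_HeU1_C1
import Cfsg.Agent.Lib.Helper4.TCD_HeU1_C2
import Cfsg.Agent.Lib.Helper4.TCD_HeU1_C3
import Cfsg.Agent.Lib.Helper4.TCD_HeU1_C4
import Cfsg.Agent.Lib.Helper4.TCD_HeU1_C5
import Cfsg.Agent.Lib.Helper4.TCD_HeU1_C6
import Cfsg.Agent.Lib.Helper4.TCD_HeU1_C7

namespace Cfsg.Agent.Lib.Helper4.TCD.HeU1

open Cfsg.Agent.Lib.Helper4.TC

theorem h_rel_p0 : ∀ t, 268986 ≤ t → t < 391772 → D.relOK t = true :=
  (range_glue (range_of_allRange c_rel_0) (range_glue (range_of_allRange c_rel_1) (range_glue (range_of_allRange c_rel_2) (range_glue (range_of_allRange c_rel_3) (range_glue (range_of_allRange c_rel_4) (range_glue (range_of_allRange c_rel_5) (range_glue (range_of_allRange c_rel_6) (range_glue (range_of_allRange c_rel_7) (range_glue (range_of_allRange c_rel_8) (range_glue (range_of_allRange c_rel_9) (range_glue (range_of_allRange c_rel_10) (range_glue (range_of_allRange c_rel_11) (range_glue (range_of_allRange c_rel_12) (range_glue (range_of_allRange c_rel_13) (range_glue (range_of_allRange c_rel_14) (range_glue (range_of_allRange c_rel_15) (range_glue (range_of_allRange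 c_rel_16) (range_glue (range_of_allRange c_rel_17) (range_glue (range_of_allRange c_rel_18) (range_glue (range_of_allRange c_rel_19) (range_glue (range_of_allRange c_rel_20) (range_glue (range_of_allRange c_rel_21) (range_glue (range_of_allRange c_rel_22) (range_glue (range_of_allRange c_rel_23) (range_glue (range_of_allRange c_rel_24) (range_glue (range_of_allRange c_rel_25) (range_glue (range_of_allRange c_rel_26) (range_glue (range_of_allRange c_rel_27) (range_glue (range_of_allRange c_rel_28) (range_glue (range_of_allRange c_rel_29) (range_glue (range_of_allRange c_rel_30) (range_glue (range_of_allRange c_rel_31) (range_glue (range_of_allRange c_rel_32) (range_glue (range_of_allRange c_rel_33) (range_glue (range_of_allRange c_rel_34) (range_glue (range_of_allRange c_rel_35) (range_glue (range_of_allRange c_rel_36) (range_glue (range_of_allRange c_rel_37) (range_glue (range_of_allRange c_rel_38) (range_of_allRange c_rel_39))))))))))))))))))))))))))))))))))))))))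
theorem h_rel_p1 : ∀ t, 391772 ≤ t → t < 511428 → D.relOK t = true :=
  (range_glue (range_of_allRange c_rel_40) (range_glue (range_of_allRange c_rel_41) (range_glue (range_of_allRange c_rel_42) (range_glue (range_of_allRange c_rel_43) (range_glue (range_of_allRange c_rel_44) (range_glue (range_of_allRange c_rel_45) (range_glue (range_of_allRange c_rel_46) (range_glue (range_of_allRange c_rel_47) (range_glue (range_of_allRange c_rel_48) (range_glue (range_of_allRange c_rel_49) (range_glue (range_of_allRange c_rel_50) (range_glue (range_of_allRange c_rel_51) (range_glue (range_of_allRange c_rel_52) (range_glue (range_of_allRange c_rel_53) (range_glue (range_of_allRange c_rel_54) (range_glue (range_of_allRange c_rel_55) (range_glue (range_of_allRange c_rel_56) (range_glue (range_of_allRange c_rel_57) (range_glue (range_of_allRange c_rel_58) (range_glue (range_of_allRange c_rel_59) (range_glue (range_of_allRange c_rel_60) (range_glue (range_of_allRange c_rel_61) (range_glue (range_of_allRange c_rel_62) (range_glue (range_of_allRange c_rel_63) (range_glue (range_of_allRange c_rel_64) (range_glue (range_of_allRange c_rel_65) (range_glue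 (range_of_allRange c_rel_66) (range_glue (range_of_allRange c_rel_67) (range_glue (range_of_allRange c_rel_68) (range_glue (range_of_allRange c_rel_69) (range_glue (range_of_allRange c_rel_70) (range_glue (range_of_allRange c_rel_71) (range_glue (range_of_allRange c_rel_72) (range_glue (range_of_allRange c_rel_73) (range_glue (range_of_allRange c_rel_74) (range_glue (range_of_allRange c_rel_75) (range_glue (range_of_allRange c_rel_76) (range_glue (range_of_allRange c_rel_77) (range_glue (range_of_allRange c_rel_78) (range_of_allRange c_rel_79))))))))))))))))))))))))))))))))))))))))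
theorem h_rel_p2 : ∀ t, 511428 ≤ t → t < 630314 → D.relOK t = true :=
  (range_glue (range_of_allRange c_rel_80) (range_glue (range_of_allRange c_rel_81) (range_glue (range_of_allRange c_rel_82) (range_glue (range_of_allRange c_rel_83) (range_glue (range_of_allRange c_rel_84) (range_glue (range_of_allRange c_rel_85) (range_glue (range_of_allRange c_rel_86) (range_glue (range_of_allRange c_rel_87) (range_glue (range_of_allRange c_rel_88) (range_glue (range_of_allRange c_rel_89) (range_glue (range_of_allRange c_rel_90) (range_glue (range_of_allRange c_rel_91) (range_glue (range_of_allRange c_rel_92) (range_glue (range_of_allRange c_rel_93) (range_glue (range_of_allRange c_rel_94) (range_glue (range_of_allRange c_rel_95) (range_glue (range_of_allRange c_rel_96) (range_glue (range_of_allRange c_rel_97) (range_glue (range_of_allRange c_rel_98) (range_glue (range_of_allRange c_rel_99) (range_glue (range_of_allRange c_rel_100) (range_glue (range_of_allRange c_rel_101) (range_glue (range_of_allRange c_rel_102) (range_glue (range_of_allRange c_rel_103) (range_glue (range_of_allRange c_rel_104) (range_glue (range_of_allRange c_rel_105) (range_glue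 (range_of_allRange c_rel_106) (range_glue (range_of_allRange c_rel_107) (range_glue (range_of_allRange c_rel_108) (range_glue (range_of_allRange c_rel_109) (range_glue (range_of_allRange c_rel_110) (range_glue (range_of_allRange c_rel_111) (range_glue (range_of_allRange c_rel_112) (range_glue (range_of_allRange c_rel_113) (range_glue (range_of_allRange c_rel_114) (range_glue (range_of_allRange c_rel_115) (range_glue (range_of_allRange c_rel_116) (range_glue (range_of_allRange c_rel_117) (range_glue (range_of_allRange c_rel_118) (range_of_allRange c_rel_119))))))))))))))))))))))))))))))))))))))))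
theorem h_rel_p3 : ∀ t, 630314 ≤ t → t < 746443 → D.relOK t = true :=
  (range_glue (range_of_allRange c_rel_120) (range_glue (range_of_allRange c_rel_121) (range_glue (range_of_allRange c_rel_122) (range_glue (range_of_allRange c_rel_123) (range_glue (range_of_allRange c_rel_124) (range_glue (range_of_allRange c_rel_125) (range_glue (range_of_allRange c_rel_126) (range_glue (range_of_allRange c_rel_127) (range_glue (range_of_allRange c_rel_128) (range_glue (range_of_allRange c_rel_129) (range_glue (range_of_allRange c_rel_130) (range_glue (range_of_allRange c_rel_131) (range_glue (range_of_allRange c_rel_132) (range_glue (range_of_allRange c_rel_133) (range_glue (range_of_allRange c_rel_134) (range_glue (range_of_allRange c_rel_135) (range_glue (range_of_allRange c_rel_136) (range_glue (range_of_allRange c_rel_137) (range_glue (range_of_allRange c_rel_138) (range_glue (range_of_allRange c_rel_139) (range_glue (range_of_allRange c_rel_140) (range_glue (range_of_allRange c_rel_141) (range_glue (range_of_allRange c_rel_142) (range_glue (range_of_allRange c_rel_143) (range_glue (range_of_allRange c_rel_144) (range_glue (range_of_allRange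 c_rel_145) (range_glue (range_of_allRange c_rel_146) (range_glue (range_of_allRange c_rel_147) (range_glue (range_of_allRange c_rel_148) (range_glue (range_of_allRange c_rel_149) (range_glue (range_of_allRange c_rel_150) (range_glue (range_of_allRange c_rel_151) (range_glue (range_of_allRange c_rel_152) (range_glue (range_of_allRange c_rel_153) (range_glue (range_of_allRange c_rel_154) (range_glue (range_of_allRange c_rel_155) (range_glue (range_of_allRange c_rel_156) (range_glue (range_of_allRange c_rel_157) (range_glue (range_of_allRange c_rel_158) (range_of_allRange c_rel_159))))))))))))))))))))))))))))))))))))))))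
theorem h_rel_p4 : ∀ t, 746443 ≤ t → t < 859264 → D.relOK t = true :=
  (range_glue (range_of_allRange c_rel_160) (range_glue (range_of_allRange c_rel_161) (range_glue (range_of_allRange c_rel_162) (range_glue (range_of_allRange c_rel_163) (range_glue (range_of_allRange c_rel_164) (range_glue (range_of_allRange c_rel_165) (range_glue (range_of_allRange c_rel_166) (range_glue (range_of_allRange c_rel_167) (range_glue (range_of_allRange c_rel_168) (range_glue (range_of_allRange c_rel_169) (range_glue (range_of_allRange c_rel_170) (range_glue (range_of_allRange c_rel_171) (range_glue (range_of_allRange c_rel_172) (range_glue (range_of_allRange c_rel_173) (range_glue (range_of_allRange c_rel_174) (range_glue (range_of_allRange c_rel_175) (range_glue (range_of_allRange c_rel_176) (range_glue (range_of_allRange c_rel_177) (range_glue (range_of_allRange c_rel_178) (range_glue (range_of_allRange c_rel_179) (range_glue (range_of_allRange c_rel_180) (range_glue (range_of_allRange c_rel_181) (range_glue (range_of_allRange c_rel_182) (range_glue (range_of_allRange c_rel_183) (range_glue (range_of_allRange c_rel_184) (range_glue (range_of_allRange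 c_rel_185) (range_glue (range_of_allRange c_rel_186) (range_glue (range_of_allRange c_rel_187) (range_glue (range_of_allRange c_rel_188) (range_glue (range_of_allRange c_rel_189) (range_glue (range_of_allRange c_rel_190) (range_glue (range_of_allRange c_rel_191) (range_glue (range_of_allRange c_rel_192) (range_glue (range_of_allRange c_rel_193) (range_glue (range_of_allRange c_rel_194) (range_glue (range_of_allRange c_rel_195) (range_glue (range_of_allRange c_rel_196) (range_glue (range_of_allRange c_rel_197) (range_glue (range_of_allRange c_rel_198) (range_of_allRange c_rel_199))))))))))))))))))))))))))))))))))))))))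
theorem h_rel_p5 : ∀ t, 859264 ≤ t → t < 947798 → D.relOK t = true :=
  (range_glue (range_of_allRange c_rel_200) (range_glue (range_of_allRange c_rel_201) (range_glue (range_of_allRange c_rel_202) (range_glue (range_of_allRange c_rel_203) (range_glue (range_of_allRange c_rel_204) (range_glue (range_of_allRange c_rel_205) (range_glue (range_of_allRange c_rel_206) (range_glue (range_of_allRange c_rel_207) (range_glue (range_of_allRange c_rel_208) (range_glue (range_of_allRange c_rel_209) (range_glue (range_of_allRange c_rel_210) (range_glue (range_of_allRange c_rel_211) (range_glue (range_of_allRange c_rel_212) (range_glue (range_of_allRange c_rel_213) (range_glue (range_of_allRange c_rel_214) (range_glue (range_of_allRange c_rel_215) (range_glue (range_of_allRange c_rel_216) (range_glue (range_of_allRange c_rel_217) (range_glue (range_of_allRange c_rel_218) (range_glue (range_of_allRange c_rel_219) (range_glue (range_of_allRange c_rel_220) (range_glue (range_of_allRange c_rel_221) (range_glue (range_of_allRange c_rel_222) (range_glue (range_of_allRange c_rel_223) (range_glue (range_of_allRange c_rel_224) (range_glue (range_of_allRange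 c_rel_225) (range_glue (range_of_allRange c_rel_226) (range_glue (range_of_allRange c_rel_227) (range_glue (range_of_allRange c_rel_228) (range_glue (range_of_allRange c_rel_229) (range_glue (range_of_allRange c_rel_230) (range_of_allRange c_rel_231))))))))))))))))))))))))))))))))
theorem h_rel : ∀ t, 268986 ≤ t → t < 947798 → D.relOK t = true :=
  (range_glue h_rel_p0 (range_glue h_rel_p1 (range_glue h_rel_p2 (range_glue h_rel_p3 (range_glue h_rel_p4 h_rel_p5)))))
theorem h_names : ∀ t, 1 ≤ t → t < 268976 → D.nameOK t = true :=
  (range_glue (range_of_allRange c_names_0) (range_glue (range_of_allRange c_names_1) (range_glue (range_of_allRange c_names_2) (range_glue (range_of_allRange c_names_3) (range_of_allRange c_names_4)))))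
theorem h_cls : ∀ t, 1 ≤ t → t < 268976 → T.clsOK D t = true :=
  (range_glue (range_of_allRange c_cls_0) (range_glue (range_of_allRange c_cls_1) (range_glue (range_of_allRange c_cls_2) (range_glue (range_of_allRange c_cls_3) (range_glue (range_of_allRange c_cls_4) (range_glue (range_of_allRange c_cls_5) (range_glue (range_of_allRange c_cls_6) (range_glue (range_of_allRange c_cls_7) (range_glue (range_of_allRange c_cls_8) (range_glue (range_of_allRange c_cls_9) (range_glue (range_of_allRange c_cls_10) (range_glue (range_of_allRange c_cls_11) (range_glue (range_of_allRange c_cls_12) (range_glue (range_of_allRange c_cls_13) (range_glue (range_of_allRange c_cls_14) (range_glue (range_of_allRange c_cls_15) (range_glue (range_of_allRange c_cls_16) (range_of_allRange c_cls_17))))))))))))))))))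
theorem h_rep : ∀ t, 0 ≤ t → t < 266560 → T.repOK D t = true :=
  (range_glue (range_of_allRange c_rep_0) (range_glue (range_of_allRange c_rep_1) (range_glue (range_of_allRange c_rep_2) (range_glue (range_of_allRange c_rep_3) (range_glue (range_of_allRange c_rep_4) (range_glue (range_of_allRange c_rep_5) (range_glue (range_of_allRange c_rep_6) (range_glue (range_of_allRange c_rep_7) (range_of_allRange c_rep_8)))))))))
theorem h_fin_p0 : ∀ i, 0 ≤ i → i < 68560 → ∀ x, x < 7 → T.finOK D i x = true :=
  (range_glue (range_of_allGrid c_fin_0) (range_glue (range_of_allGrid c_fin_1) (range_glue (range_of_allGrid c_fin_2) (range_glue (range_of_allGrid c_fin_3) (range_glue (range_of_allGrid c_fin_4) (range_glue (range_of_allGrid c_fin_5) (range_glue (range_of_allGrid c_fin_6) (range_glue (range_of_allGrid c_fin_7) (range_glue (range_of_allGrid c_fin_8) (range_glue (range_of_allGrid c_fin_9) (range_glue (range_of_allGrid c_fin_10) (range_glue (range_of_allGrid c_fin_11) (range_glue (range_of_allGrid c_fin_12) (range_glue (range_of_allGrid c_fin_13) (range_glue (range_of_allGrid c_fin_14) (range_glue (range_of_allGrid c_fin_15) (range_glue (range_of_allGrid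 c_fin_16) (range_glue (range_of_allGrid c_fin_17) (range_glue (range_of_allGrid c_fin_18) (range_glue (range_of_allGrid c_fin_19) (range_glue (range_of_allGrid c_fin_20) (range_glue (range_of_allGrid c_fin_21) (range_glue (range_of_allGrid c_fin_22) (range_glue (range_of_allGrid c_fin_23) (range_glue (range_of_allGrid c_fin_24) (range_glue (range_of_allGrid c_fin_25) (range_glue (range_of_allGrid c_fin_26) (range_glue (range_of_allGrid c_fin_27) (range_glue (range_of_allGrid c_fin_28) (range_glue (range_of_allGrid c_fin_29) (range_glue (range_of_allGrid c_fin_30) (range_glue (range_of_allGrid c_fin_31) (range_glue (range_of_allGrid c_fin_32) (range_glue (range_of_allGrid c_fin_33) (range_glue (range_of_allGrid c_fin_34) (range_glue (range_of_allGrid c_fin_35) (range_glue (range_of_allGrid c_fin_36) (range_glue (range_of_allGrid c_fin_37) (range_glue (range_of_allGrid c_fin_38) (range_of_allGrid c_fin_39))))))))))))))))))))))))))))))))))))))))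
theorem h_fin_p1 : ∀ i, 68560 ≤ i → i < 137120 → ∀ x, x < 7 → T.finOK D i x = true :=
  (range_glue (range_of_allGrid c_fin_40) (range_glue (range_of_allGrid c_fin_41) (range_glue (range_of_allGrid c_fin_42) (range_glue (range_of_allGrid c_fin_43) (range_glue (range_of_allGrid c_fin_44) (range_glue (range_of_allGrid c_fin_45) (range_glue (range_of_allGrid c_fin_46) (range_glue (range_of_allGrid c_fin_47) (range_glue (range_of_allGrid c_fin_48) (range_glue (range_of_allGrid c_fin_49) (range_glue (range_of_allGrid c_fin_50) (range_glue (range_of_allGrid c_fin_51) (range_glue (range_of_allGrid c_fin_52) (range_glue (range_of_allGrid c_fin_53) (range_glue (range_of_allGrid c_fin_54) (range_glue (range_of_allGrid c_fin_55) (range_glue (range_of_allGrid c_fin_56) (range_glue (range_of_allGrid c_fin_57) (range_glue (range_of_allGrid c_fin_58) (range_glue (range_of_allGrid c_fin_59) (range_glue (range_of_allGrid c_fin_60) (range_glue (range_of_allGrid c_fin_61) (range_glue (range_of_allGrid c_fin_62) (range_glue (range_of_allGrid c_fin_63) (range_glue (range_of_allGrid c_fin_64) (range_glue (range_of_allGrid c_fin_65) (range_glue (range_of_allGrid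 c_fin_66) (range_glue (range_of_allGrid c_fin_67) (range_glue (range_of_allGrid c_fin_68) (range_glue (range_of_allGrid c_fin_69) (range_glue (range_of_allGrid c_fin_70) (range_glue (range_of_allGrid c_fin_71) (range_glue (range_of_allGrid c_fin_72) (range_glue (range_of_allGrid c_fin_73) (range_glue (range_of_allGrid c_fin_74) (range_glue (range_of_allGrid c_fin_75) (range_glue (range_of_allGrid c_fin_76) (range_glue (range_of_allGrid c_fin_77) (range_glue (range_of_allGrid c_fin_78) (range_of_allGrid c_fin_79))))))))))))))))))))))))))))))))))))))))
theorem h_fin_p2 : ∀ i, 137120 ≤ i → i < 205680 → ∀ x, x < 7 → T.finOK D i x = true :=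
  (range_glue (range_of_allGrid c_fin_80) (range_glue (range_of_allGrid c_fin_81) (range_glue (range_of_allGrid c_fin_82) (range_glue (range_of_allGrid c_fin_83) (range_glue (range_of_allGrid c_fin_84) (range_glue (range_of_allGrid c_fin_85) (range_glue (range_of_allGrid c_fin_86) (range_glue (range_of_allGrid c_fin_87) (range_glue (range_of_allGrid c_fin_88) (range_glue (range_of_allGrid c_fin_89) (range_glue (range_of_allGrid c_fin_90) (range_glue (range_of_allGrid c_fin_91) (range_glue (range_of_allGrid c_fin_92) (range_glue (range_of_allGrid c_fin_93) (range_glue (range_of_allGrid c_fin_94) (range_glue (range_of_allGrid c_fin_95) (range_glue (range_of_allGrid c_fin_96) (range_glue (range_of_allGrid c_fin_97) (range_glue (range_of_allGrid c_fin_98) (range_glue (range_of_allGrid c_fin_99) (range_glue (range_of_allGrid c_fin_100) (range_glue (range_of_allGrid c_fin_101) (range_glue (range_of_allGrid c_fin_102) (range_glue (range_of_allGrid c_fin_103) (range_glue (range_of_allGrid c_fin_104) (range_glue (range_of_allGrid c_fin_105) (range_glue (range_of_allGrid c_fin_106) (range_glue (range_of_allGrid c_fin_107) (range_glue (range_of_allGrid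 c_fin_108) (range_glue (range_of_allGrid c_fin_109) (range_glue (range_of_allGrid c_fin_110) (range_glue (range_of_allGrid c_fin_111) (range_glue (range_of_allGrid c_fin_112) (range_glue (range_of_allGrid c_fin_113) (range_glue (range_of_allGrid c_fin_114) (range_glue (range_of_allGrid c_fin_115) (range_glue (range_of_allGrid c_fin_116) (range_glue (range_of_allGrid c_fin_117) (range_glue (range_of_allGrid c_fin_118) (range_of_allGrid c_fin_119))))))))))))))))))))))))))))))))))))))))
theorem h_fin_p3 : ∀ i, 205680 ≤ i → i < 266560 → ∀ x, x < 7 → T.finOK D i x = true :=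
  (range_glue (range_of_allGrid c_fin_120) (range_glue (range_of_allGrid c_fin_121) (range_glue (range_of_allGrid c_fin_122) (range_glue (range_of_allGrid c_fin_123) (range_glue (range_of_allGrid c_fin_124) (range_glue (range_of_allGrid c_fin_125) (range_glue (range_of_allGrid c_fin_126) (range_glue (range_of_allGrid c_fin_127) (range_glue (range_of_allGrid c_fin_128) (range_glue (range_of_allGrid c_fin_129) (range_glue (range_of_allGrid c_fin_130) (range_glue (range_of_allGrid c_fin_131) (range_glue (range_of_allGrid c_fin_132) (range_glue (range_of_allGrid c_fin_133) (range_glue (range_of_allGrid c_fin_134) (range_glue (range_of_allGrid c_fin_135) (range_glue (range_of_allGrid c_fin_136) (range_glue (range_of_allGrid c_fin_137) (range_glue (range_of_allGrid c_fin_138) (range_glue (range_of_allGrid c_fin_139) (range_glue (range_of_allGrid c_fin_140) (range_glue (range_of_allGrid c_fin_141) (range_glue (range_of_allGrid c_fin_142) (range_glue (range_of_allGrid c_fin_143) (range_glue (range_of_allGrid c_fin_144) (range_glue (range_of_allGrid c_fin_145) (range_glue (range_of_allGrid c_fin_146) (range_glue (range_of_allGrid c_fin_147)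 (range_glue (range_of_allGrid c_fin_148) (range_glue (range_of_allGrid c_fin_149) (range_glue (range_of_allGrid c_fin_150) (range_glue (range_of_allGrid c_fin_151) (range_glue (range_of_allGrid c_fin_152) (range_glue (range_of_allGrid c_fin_153) (range_glue (range_of_allGrid c_fin_154) (range_of_allGrid c_fin_155))))))))))))))))))))))))))))))))))))
theorem h_fin : ∀ i, 0 ≤ i → i < 266560 → ∀ x, x < 7 → T.finOK D i x = true :=
  (range_glue h_fin_p0 (range_glue h_fin_p1 (range_glue h_fin_p2 h_fin_p3)))
theorem h_perm_p0 : ∀ i, 0 ≤ i → i < 171400 → ∀ x, x < 7 → T.permOK1 D i x = true :=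
  (range_glue (range_of_allGrid c_perm_0) (range_glue (range_of_allGrid c_perm_1) (range_glue (range_of_allGrid c_perm_2) (range_glue (range_of_allGrid c_perm_3) (range_glue (range_of_allGrid c_perm_4) (range_glue (range_of_allGrid c_perm_5) (range_glue (range_of_allGrid c_perm_6) (range_glue (range_of_allGrid c_perm_7) (range_glue (range_of_allGrid c_perm_8) (range_glue (range_of_allGrid c_perm_9) (range_glue (range_of_allGrid c_perm_10) (range_glue (range_of_allGrid c_perm_11) (range_glue (range_of_allGrid c_perm_12) (range_glue (range_of_allGrid c_perm_13) (range_glue (range_of_allGrid c_perm_14) (range_glue (range_of_allGrid c_perm_15) (range_glue (range_of_allGrid c_perm_16) (range_glue (range_of_allGrid c_perm_17) (range_glue (range_of_allGrid c_perm_18) (range_glue (range_of_allGrid c_perm_19) (range_glue (range_of_allGrid c_perm_20) (range_glue (range_of_allGrid c_perm_21) (range_glue (range_of_allGrid c_perm_22) (range_glue (range_of_allGrid c_perm_23) (range_glue (range_of_allGrid c_perm_24) (range_glue (range_of_allGrid c_perm_25) (range_glue (range_of_allGrid c_perm_26) (range_glue (range_of_allGrid c_perm_27) (range_glue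 (range_of_allGrid c_perm_28) (range_glue (range_of_allGrid c_perm_29) (range_glue (range_of_allGrid c_perm_30) (range_glue (range_of_allGrid c_perm_31) (range_glue (range_of_allGrid c_perm_32) (range_glue (range_of_allGrid c_perm_33) (range_glue (range_of_allGrid c_perm_34) (range_glue (range_of_allGrid c_perm_35) (range_glue (range_of_allGrid c_perm_36) (range_glue (range_of_allGrid c_perm_37) (range_glue (range_of_allGrid c_perm_38) (range_of_allGrid c_perm_39))))))))))))))))))))))))))))))))))))))))
theorem h_perm_p1 : ∀ i, 171400 ≤ i → i < 266560 → ∀ x, x < 7 → T.permOK1 D i x = true :=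
  (range_glue (range_of_allGrid c_perm_40) (range_glue (range_of_allGrid c_perm_41) (range_glue (range_of_allGrid c_perm_42) (range_glue (range_of_allGrid c_perm_43) (range_glue (range_of_allGrid c_perm_44) (range_glue (range_of_allGrid c_perm_45) (range_glue (range_of_allGrid c_perm_46) (range_glue (range_of_allGrid c_perm_47) (range_glue (range_of_allGrid c_perm_48) (range_glue (range_of_allGrid c_perm_49) (range_glue (range_of_allGrid c_perm_50) (range_glue (range_of_allGrid c_perm_51) (range_glue (range_of_allGrid c_perm_52) (range_glue (range_of_allGrid c_perm_53) (range_glue (range_of_allGrid c_perm_54) (range_glue (range_of_allGrid c_perm_55) (range_glue (range_of_allGrid c_perm_56) (range_glue (range_of_allGrid c_perm_57) (range_glue (range_of_allGrid c_perm_58) (range_glue (range_of_allGrid c_perm_59) (range_glue (range_of_allGrid c_perm_60) (range_glue (range_of_allGrid c_perm_61) (range_of_allGrid c_perm_62)))))))))))))))))))))))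
theorem h_perm : ∀ i, 0 ≤ i → i < 266560 → ∀ x, x < 7 → T.permOK1 D i x = true :=
  (range_glue h_perm_p0 h_perm_p1)

theorem checked : T.Checked D where
  hz := c_zero
  hn := fun d h0 hd => h_names d h0 hd
  hb := fun j hj => allBelow_eq_true.1 c_base j hj
  hr := fun t h1 h2 => h_rel t h1 h2
  hfin := fun i x hi hx => h_fin i (Nat.zero_le _) hi x hx
  hperm := fun i x hi hx => h_perm i (Nat.zero_le _) hi x hx
  hlet := fun x hx => allBelow_eq_true.1 c_let x hx
  hcls := fun d h0 hd => h_cls d h0 hd
  hrep := fun i hi => h_rep i (Nat.zero_le _) hi
  hcls0 := c_cls0
  hname0 := c_name0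
  hN := by decide
  hM := by decide

theorem sinst : SubInst PHe.P emb T D subs realLoc invLoc where
  hP := PHe.valid
  hk := rfl
  hinv := rfl
  hemb := by decide
  hinvLoc := by decide
  hreal := by decide +kernel
  hsubs := by
    intro u hu x hx
    have h1 := List.all_eq_true.1 c_subs u hu
    exact ble_succ (List.all_eq_true.1 h1 x hx)
  htab := c_tab
  hC := checked

theorem card_le (hfin : Finite (letG PHe.P [0, 1, 2, 3, 4])) :
    Finite (letG PHe.P [0, 1, 2, 3, 4, 5, 6]) ∧ Nat.card (letG PHe.P [0, 1, 2, 3, 4, 5, 6]) ≤ 266560 * Nat.card (letG PHe.P [0, 1, 2, 3, 4]) := by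
  have h1 : SubInst.subH PHe.P emb subs = letG PHe.P [0, 1, 2, 3, 4] := sinst.subH_eq_letG _ (by decide)
  have h2 := sinst.card_le (by rw [h1]; exact hfin)
  rw [h1] at h2
  exact h2

end Cfsg.Agent.Lib.Helper4.TCD.HeU1
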