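import Cfsg.Agent.Lib.Helper4.TCD_HeX_C0

namespace Cfsg.Agent.Lib.Helper4.TCD.HeX

open Cfsg.Agent.Lib.Helper4.TC

theorem h_rel : ∀ t, 11 ≤ t → t < 49 → D.relOK t = true :=
  (range_of_allRange c_rel_0)
theorem h_names : ∀ t, 1 ≤ t → t < 11 → D.nameOK t = true :=
  (range_of_allRange c_names_0)
theorem h_cls : ∀ t, 1 ≤ t → t < 11 → T.clsOK D t = true :=
  (range_of_allRange c_cls_0)
theorem h_rep : ∀ t, 0 ≤ t → t < 1 → T.repOK D t = true :=
  (range_of_allRange c_rep_0)
theorem h_fin : ∀ i, 0 ≤ i → i < 1 → ∀ x, x < 7 → T.finOK D i x = true :=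
  (range_of_allGrid c_fin_0)
theorem h_perm : ∀ i, 0 ≤ i → i < 1 → ∀ x, x < 7 → T.permOK1 D i x = true :=
  (range_of_allGrid c_perm_0)

theorem checked : T.Checked D where
  hz := c_zero
  hn := fun d h0 hd => h_names d h0 hd
  hb := fun j hj => allBelow_eq_true.1 c_base j hj
  hr := fun t h1 h2 => h_rel t h1 h2
  hfin := fun i x hi hx => h_fin i (Nat.zero_le _) hi x hx
  hperm := fun i x hi hx => h_perm i (Nat.zero_le _) hi x hx
  hlet := fun x hx => allBelow_eq_true.1 c_let x hx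
  hcls := fun d h0 hd => h_cls d h0 hd
  hrep := fun i hi => h_rep i (Nat.zero_le _) hi
  hcls0 := c_cls0
  hname0 := c_name0
  hN := by decide
  hM := by decide

theorem ginst : GInst PHe.P.k PHe.invR (xw :: PHe.P.real) [] T D where
  hk := rfl
  hinv := rfl
  hsubs := by simp
  htab := c_tab
  hC := checked

theorem normalClosure_eq_top : Subgroup.normalClosure {Log.wordP PHe.P.gR xw} = ⊤ :=
  Cfsg.Agent.Lib.Helper4.TC.normalClosure_eq_top PHe.valid xw (by decide) ginst rfl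

end Cfsg.Agent.Lib.Helper4.TCD.HeX
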