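import Mathlib
import Cfsg.Agent.Lib.Helper4.Fi24Emb
import Cfsg.Agent.Lib.Helper4.Fi24HeW
import Cfsg.Agent.S1695

/-!
The presented Held group inside the commutator subgroup of the presented Fi₂₄: the images of the seven generators
are explicit words; the relations are verified on the base points of the permutation representation.
-/

namespace Cfsg.Agent.Lib.Helper4.Fi24He

open Cfsg.Agent.Lib.Helper4.TC Cfsg.Agent.Lib.Helper4.TCD Cfsg.Agent.Lib.Helper4.TC.Log
open Cfsg.Agent.Lib.Helper4.Fi24Trans Cfsg.Agent.Lib.Helper4.Fi24Emb Cfsg.Agent.Lib.Helper4.Fi24HeW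

set_option maxRecDepth 1000000 in
theorem WHe_lt' : ∀ x, x < 7 → ∀ y ∈ WHe x, y < 12 := by decide +kernel

theorem WHe_lt (L : List ℕ) (hL : ∀ x ∈ L, x < 7) : ∀ y ∈ L.flatMap WHe, y < 12 := by
  intro y hy
  obtain ⟨x, hx, hyx⟩ := List.mem_flatMap.1 hy
  exact WHe_lt' x (hL x hx) y hyx

set_option maxRecDepth 1000000 in
theorem WHe_inv : ∀ x, x < 7 → baseOK (WHe x ++ WHe (PHe.P.invR x)) := by decide +kernel

/-- the relator words of the presentation of He -/
def realHe : List (List ℕ) := [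
  [0, 0],
  [0, 1, 0, 1, 0, 1, 0, 1],
  [0, 2, 0, 2],
  [0, 3, 0, 3],
  [0, 4, 0, 4],
  [0, 5, 0, 5],
  [0, 6, 0, 6],
  [1, 1],
  [1, 2, 1, 2, 1, 2],
  [1, 3, 1, 3],
  [1, 4, 1, 4],
  [1, 5, 1, 5],
  [1, 6, 1, 6],
  [2, 2],
  [2, 3, 2, 3, 2, 3, 2, 3, 2, 3, 2, 3, 2, 3, 2, 3, 2, 3, 2, 3],
  [2, 4, 2, 4],
  [2, 5, 2, 5],
  [2, 6, 2, 6],
  [3, 3],
  [3, 4, 3, 4, 3, 4],
  [3, 5, 3, 5, 3, 5],
  [3, 6, 3, 6, 3, 6],
  [4, 4],
  [4, 5, 4, 5],
  [4, 6, 4, 6],
  [5, 5],
  [5, 6, 5, 6, 5, 6, 5, 6],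
  [6, 6],
  [4, 6, 5, 6, 5],
  [4, 2, 1, 0, 2, 1, 0, 2, 1, 0],
  [0, 3, 2, 3, 2, 3, 2, 3, 2, 3, 2],
  [2, 3, 5, 6, 2, 3, 5, 6, 2, 3, 5, 6, 2, 3, 5, 6] ]

theorem realHe_eq : PHe.P.real = realHe := by decide +kernel

set_option maxRecDepth 1000000 in
theorem rel_0 : baseOK (List.flatMap WHe [0, 0]) := by decide +kernel

set_option maxRecDepth 1000000 in
theorem rel_1 : baseOK (List.flatMap WHe [0, 1, 0, 1, 0, 1, 0, 1]) := by decide +kernel

set_option maxRecDepth 1000000 in
theorem rel_2 : baseOK (List.flatMap WHe [0, 2, 0, 2]) := by decide +kernel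

set_option maxRecDepth 1000000 in
theorem rel_3 : baseOK (List.flatMap WHe [0, 3, 0, 3]) := by decide +kernel

set_option maxRecDepth 1000000 in
theorem rel_4 : baseOK (List.flatMap WHe [0, 4, 0, 4]) := by decide +kernel

set_option maxRecDepth 1000000 in
theorem rel_5 : baseOK (List.flatMap WHe [0, 5, 0, 5]) := by decide +kernel

set_option maxRecDepth 1000000 in
theorem rel_6 : baseOK (List.flatMap WHe [0, 6, 0, 6]) := by decide +kernel

set_option maxRecDepth 1000000 in
theorem rel_7 : baseOK (List.flatMap WHe [1, 1]) := by decide +kernel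

set_option maxRecDepth 1000000 in
theorem rel_8 : baseOK (List.flatMap WHe [1, 2, 1, 2, 1, 2]) := by decide +kernel

set_option maxRecDepth 1000000 in
theorem rel_9 : baseOK (List.flatMap WHe [1, 3, 1, 3]) := by decide +kernel

set_option maxRecDepth 1000000 in
theorem rel_10 : baseOK (List.flatMap WHe [1, 4, 1, 4]) := by decide +kernel

set_option maxRecDepth 1000000 in
theorem rel_11 : baseOK (List.flatMap WHe [1, 5, 1, 5]) := by decide +kernel

set_option maxRecDepth 1000000 in
theorem rel_12 : baseOK (List.flatMap WHe [1, 6, 1, 6]) := by decide +kernel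

set_option maxRecDepth 1000000 in
theorem rel_13 : baseOK (List.flatMap WHe [2, 2]) := by decide +kernel

set_option maxRecDepth 1000000 in
theorem rel_14 : baseOK (List.flatMap WHe [2, 3, 2, 3, 2, 3, 2, 3, 2, 3, 2, 3, 2, 3, 2, 3, 2, 3, 2, 3]) := by decide +kernel

set_option maxRecDepth 1000000 in
theorem rel_15 : baseOK (List.flatMap WHe [2, 4, 2, 4]) := by decide +kernel

set_option maxRecDepth 1000000 in
theorem rel_16 : baseOK (List.flatMap WHe [2, 5, 2, 5]) := by decide +kernel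

set_option maxRecDepth 1000000 in
theorem rel_17 : baseOK (List.flatMap WHe [2, 6, 2, 6]) := by decide +kernel

set_option maxRecDepth 1000000 in
theorem rel_18 : baseOK (List.flatMap WHe [3, 3]) := by decide +kernel

set_option maxRecDepth 1000000 in
theorem rel_19 : baseOK (List.flatMap WHe [3, 4, 3, 4, 3, 4]) := by decide +kernel

set_option maxRecDepth 1000000 in
theorem rel_20 : baseOK (List.flatMap WHe [3, 5, 3, 5, 3, 5]) := by decide +kernel

set_option maxRecDepth 1000000 in
theorem rel_21 : baseOK (List.flatMap WHe [3, 6, 3, 6, 3, 6]) := by decide +kernel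

set_option maxRecDepth 1000000 in
theorem rel_22 : baseOK (List.flatMap WHe [4, 4]) := by decide +kernel

set_option maxRecDepth 1000000 in
theorem rel_23 : baseOK (List.flatMap WHe [4, 5, 4, 5]) := by decide +kernel

set_option maxRecDepth 1000000 in
theorem rel_24 : baseOK (List.flatMap WHe [4, 6, 4, 6]) := by decide +kernel

set_option maxRecDepth 1000000 in
theorem rel_25 : baseOK (List.flatMap WHe [5, 5]) := by decide +kernel

set_option maxRecDepth 1000000 in
theorem rel_26 : baseOK (List.flatMap WHe [5, 6, 5, 6, 5, 6, 5, 6]) := by decide +kernel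

set_option maxRecDepth 1000000 in
theorem rel_27 : baseOK (List.flatMap WHe [6, 6]) := by decide +kernel

set_option maxRecDepth 1000000 in
theorem rel_28 : baseOK (List.flatMap WHe [4, 6, 5, 6, 5]) := by decide +kernel

set_option maxRecDepth 1000000 in
theorem rel_29 : baseOK (List.flatMap WHe [4, 2, 1, 0, 2, 1, 0, 2, 1, 0]) := by decide +kernel

set_option maxRecDepth 1000000 in
theorem rel_30 : baseOK (List.flatMap WHe [0, 3, 2, 3, 2, 3, 2, 3, 2, 3, 2]) := by decide +kernel

set_option maxRecDepth 1000000 in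
theorem rel_31 : baseOK (List.flatMap WHe [2, 3, 5, 6, 2, 3, 5, 6, 2, 3, 5, 6, 2, 3, 5, 6]) := by decide +kernel

theorem WHe_rel : ∀ L ∈ PHe.P.real, baseOK (L.flatMap WHe) := by
  rw [realHe_eq]
  intro L hL
  simp only [realHe, List.mem_cons, List.not_mem_nil, or_false] at hL
  rcases hL with rfl | rfl | rfl | rfl | rfl | rfl | rfl | rfl | rfl | rfl | rfl | rfl | rfl | rfl | rfl | rfl | rfl | rfl | rfl | rfl | rfl | rfl | rfl | rfl | rfl | rfl | rfl | rfl | rfl | rfl | rfl | rfl
  · exact rel_0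
  · exact rel_1
  · exact rel_2
  · exact rel_3
  · exact rel_4
  · exact rel_5
  · exact rel_6
  · exact rel_7
  · exact rel_8
  · exact rel_9
  · exact rel_10
  · exact rel_11
  · exact rel_12
  · exact rel_13
  · exact rel_14
  · exact rel_15
  · exact rel_16
  · exact rel_17
  · exact rel_18
  · exact rel_19
  · exact rel_20
  · exact rel_21
  · exact rel_22
  · exact rel_23
  · exact rel_24
  · exact rel_25
  · exact rel_26
  · exact rel_27
  · exact rel_28
  · exact rel_29
  · exact rel_30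
  · exact rel_31

theorem embHe : WordEmb PHe.P PFi24.P.gR WHe where
  hP := PHe.valid
  hinv := by
    intro x hx
    have hx7 : x < 7 := hx
    apply word_one _ _ (WHe_inv x hx7)
    intro y hy
    have e : PHe.P.invR x = x := rfl
    rw [e] at hy
    rcases List.mem_append.1 hy with h | h
    · exact WHe_lt' x hx7 y h
    · exact WHe_lt' x hx7 y h
  hrel := by
    intro L hL
    exact word_one _ (WHe_lt L (PHe.valid.real_lt L hL)) (WHe_rel L hL)

/-- the homomorphism from the presented He -/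
noncomputable def ψHe : PHe.P.Grp →* G := embHe.hom

theorem ψHe_gR (x : ℕ) (hx : x < 7) : ψHe (PHe.P.gR x) = wordP PFi24.P.gR (WHe x) := by
  rw [ψHe, embHe.hom_gR x hx]

set_option maxRecDepth 1000000 in
theorem ψHe_not_comm : ψHe (PHe.P.gR 0) * ψHe (PHe.P.gR 1) ≠ ψHe (PHe.P.gR 1) * ψHe (PHe.P.gR 0) := by
  intro h
  rw [ψHe_gR 0 (by decide), ψHe_gR 1 (by decide), ← wordP_append, ← wordP_append] at h
  have h2 : (φ (wordP PFi24.P.gR (WHe 0 ++ WHe 1)) ⟨0, by decide⟩).1 =
      (φ (wordP PFi24.P.gR (WHe 1 ++ WHe 0)) ⟨0, by decide⟩).1 := by rw [h]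
  rw [φ_word _ (by decide +kernel), φ_word _ (by decide +kernel)] at h2
  revert h2
  decide +kernel

/-- the copy of He -/
noncomputable def KHe : Subgroup G := ψHe.range

theorem KHe_props : IsSimpleGroup KHe ∧ Nat.card KHe = 4030387200 ∧ KHe ≤ commutator G := by
  obtain ⟨h1, h2, h3⟩ := simple_range Cfsg.Agent.S1695.simple_aux ψHe _ _ ψHe_not_comm
  exact ⟨h1, by rw [KHe, h2]; exact Cfsg.Agent.S1695.order_aux.2.2, h3⟩

/-- a copy of He in the commutator subgroup -/
theorem exists_he_comm : ∃ K : Subgroup (commutator G), Cfsg.IsHe K := by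
  obtain ⟨h1, h2, h3⟩ := KHe_props
  obtain ⟨h4, h5⟩ := simple_subgroupOf KHe (commutator G) h3 h1
  exact ⟨KHe.subgroupOf (commutator G), h4, by rw [h5, h2]⟩

end Cfsg.Agent.Lib.Helper4.Fi24He
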