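import Mathlib
import Cfsg.Prelude.Def_SporCoxeter

/-!
An auxiliary presentation used in the analysis of the presented Fischer group Fi₂₄: the generators
`l, k, a, b, c, d, e, f, h, i` of the Y₅₄₂ diagram without `g` and `j` (a Y₅₂₂ diagram: centre `d`,
arms `d – c – b – a – k – l`, `d – e – f`, `d – h – i`), with the single further relation
`l = (a b c d e f h)^9`.
-/

namespace Cfsg.Agent.Lib.Helper4

namespace Fi24Q

/-- the ten generators -/
inductive Gen
  | l
  | k
  | a
  | b
  | c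
  | d
  | e
  | f
  | h
  | i
  deriving DecidableEq

abbrev l : FreeGroup Gen := FreeGroup.of Gen.l
abbrev k : FreeGroup Gen := FreeGroup.of Gen.k
abbrev a : FreeGroup Gen := FreeGroup.of Gen.a
abbrev b : FreeGroup Gen := FreeGroup.of Gen.b
abbrev c : FreeGroup Gen := FreeGroup.of Gen.c
abbrev d : FreeGroup Gen := FreeGroup.of Gen.d
abbrev e : FreeGroup Gen := FreeGroup.of Gen.e
abbrev f : FreeGroup Gen := FreeGroup.of Gen.f
abbrev h : FreeGroup Gen := FreeGroup.of Gen.h
abbrev i : FreeGroup Gen := FreeGroup.of Gen.i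

/-- the Coxeter graph Y₅₂₂ -/
def edges : List (Gen × ℕ × Gen) :=
  [(.l, 3, .k), (.k, 3, .a), (.a, 3, .b), (.b, 3, .c), (.c, 3, .d), (.d, 3, .e), (.d, 3, .h), (.e, 3, .f), (.h, 3, .i)]

/-- the further relator -/
def extra : List (FreeGroup Gen) := [
  l * (((a * b * c * d * e * f * h) ^ 9)⁻¹) ]

end Fi24Q

end Cfsg.Agent.Lib.Helper4
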