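import Mathlib
import Cfsg.Agent.Lib.Helper4.TC1

/-!
Sparse 78 × 78 matrices over `ZMod 13`, given as lists of rows of `(column, value)` pairs, acting on
vectors given as lists of naturals; the action is computed with packed naturals so that the kernel
evaluates it quickly, and it is shown to agree with `Matrix.mulVec`.
-/

namespace Cfsg.Agent.Lib.Helper4.Fi78

open Cfsg.Agent.Lib.Helper4.TC

/-- sparse matrices: the list of rows, each a list of `(column, value)` -/
abbrev SpMat := List (List (ℕ × ℕ))

/-- pack a list of digits (base 65536) -/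
def pack : List ℕ → ℕ
  | [] => 0
  | x :: L => Nat.add x (Nat.mul 65536 (pack L))

/-- the `k`-th digit -/
def dg (V k : ℕ) : ℕ := Nat.mod (Nat.div V (Nat.pow 65536 k)) 65536

/-- the dot product of a sparse row with a packed vector -/
def rowDot (V : ℕ) : List (ℕ × ℕ) → ℕ
  | [] => 0
  | e :: row => Nat.add (Nat.mul e.2 (dg V e.1)) (rowDot V row)

/-- apply to a packed vector -/
def applyV (V : ℕ) : SpMat → List ℕ
  | [] => []
  | row :: R => Nat.mod (rowDot V row) 13 :: applyV V R

/-- apply a sparse matrix to a vector -/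
def apply (R : SpMat) (L : List ℕ) : List ℕ := applyV (pack L) R

/-- apply a word of matrices (the first letter acts last) -/
def applyWord (Rs : ℕ → SpMat) : List ℕ → List ℕ → List ℕ
  | [], L => L
  | g :: w, L => apply (Rs g) (applyWord Rs w L)

/-- equality of lists of naturals, kernel friendly -/
def beqL : List ℕ → List ℕ → Bool
  | [], [] => true
  | x :: L, y :: L' => band (Nat.beq x y) (beqL L L')
  | _, _ => false

theorem beqL_eq : ∀ {L L' : List ℕ}, beqL L L' = true → L = L'
  | [], [], _ => rfl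
  | x :: L, y :: L', h => by
    rw [beqL, band_eq_true] at h
    rw [beq_eq h.1, beqL_eq h.2]
  | [], _ :: _, h => by simp [beqL] at h
  | _ :: _, [], h => by simp [beqL] at h

/-- the entries `i, i+1, …` of the `j`-th unit vector, `n` of them -/
def unitFrom : ℕ → ℕ → ℕ → List ℕ
  | 0, _, _ => []
  | n+1, i, j => bsel (Nat.beq i j) 0 1 :: unitFrom n (Nat.succ i) j

/-- the `j`-th unit vector of length `n` -/
def unitL (n j : ℕ) : List ℕ := unitFrom n 0 j

/-! ### semantics -/

/-- the vector of a list -/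
def vecOf (L : List ℕ) : Fin 78 → ZMod 13 := fun i => ((L.getD i.1 0 : ℕ) : ZMod 13)

/-- the value of a row at a column -/
def rowVal (row : List (ℕ × ℕ)) (j : ℕ) : ZMod 13 :=
  (row.map fun e => if e.1 = j then ((e.2 : ℕ) : ZMod 13) else 0).sum

/-- the matrix of a sparse matrix -/
def matOf (R : SpMat) : Matrix (Fin 78) (Fin 78) (ZMod 13) :=
  fun i j => rowVal (R.getD i.1 []) j.1

theorem pack_cons (x : ℕ) (L : List ℕ) : pack (x :: L) = x + 65536 * pack L := rfl

theorem dg_pack : ∀ (L : List ℕ) (k : ℕ), (∀ x ∈ L, x < 65536) → dg (pack L) k = L.getD k 0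
  | [], k, _ => by
    show (0 / 65536 ^ k) % 65536 = 0
    simp
  | x :: L, 0, h => by
    show ((x + 65536 * pack L) / 65536 ^ 0) % 65536 = x
    have hx : x < 65536 := h x (by simp)
    rw [pow_zero, Nat.div_one, Nat.add_mul_mod_self_left, Nat.mod_eq_of_lt hx]
  | x :: L, k+1, h => by
    have hx : x < 65536 := h x (by simp)
    have ih := dg_pack L k (fun y hy => h y (by simp [hy]))
    show ((x + 65536 * pack L) / 65536 ^ (k+1)) % 65536 = L.getD k 0
    rw [pow_succ, mul_comm (65536 ^ k) 65536, ← Nat.div_div_eq_div_mul,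
      Nat.add_mul_div_left _ _ (by norm_num : 0 < 65536), Nat.div_eq_of_lt hx, zero_add]
    exact ih

theorem applyV_length (V : ℕ) : ∀ R : SpMat, (applyV V R).length = R.length
  | [] => rfl
  | _ :: R => by simp [applyV, applyV_length V R]

theorem applyV_getD (V : ℕ) : ∀ (R : SpMat) (i : ℕ), i < R.length →
    (applyV V R).getD i 0 = rowDot V (R.getD i []) % 13
  | [], i, h => by simp at h
  | row :: R, 0, _ => rfl
  | row :: R, i+1, h => by
    have := applyV_getD V R i (by simpa using h)
    simpa [applyV] using this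

theorem applyV_lt (V : ℕ) : ∀ (R : SpMat), ∀ x ∈ applyV V R, x < 65536
  | [], x, h => by simp [applyV] at h
  | row :: R, x, h => by
    simp only [applyV, List.mem_cons] at h
    rcases h with rfl | h
    · exact lt_of_lt_of_le (Nat.mod_lt _ (by norm_num)) (by norm_num)
    · exact applyV_lt V R x h

theorem rowDot_cast (L : List ℕ) (hL : ∀ x ∈ L, x < 65536) (hlen : L.length = 78) :
    ∀ row : List (ℕ × ℕ), ((rowDot (pack L) row : ℕ) : ZMod 13) = ∑ j : Fin 78, rowVal row j.1 * vecOf L j
  | [] => by simp [rowDot, rowVal]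
  | e :: row => by
    have ih := rowDot_cast L hL hlen row
    show (((e.2 * dg (pack L) e.1 + rowDot (pack L) row : ℕ)) : ZMod 13) = _
    rw [Nat.cast_add, Nat.cast_mul, ih, dg_pack L e.1 hL]
    have hsplit : ∀ j : Fin 78, rowVal (e :: row) j.1 * vecOf L j =
        (if e.1 = j.1 then ((e.2 : ℕ) : ZMod 13) else 0) * vecOf L j + rowVal row j.1 * vecOf L j := by
      intro j
      simp [rowVal, add_mul]
    rw [Finset.sum_congr rfl (fun j _ => hsplit j), Finset.sum_add_distrib]
    have h1 : ∑ j : Fin 78, (if e.1 = j.1 then ((e.2 : ℕ) : ZMod 13) else 0) * vecOf L j =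
        ((e.2 : ℕ) : ZMod 13) * ((L.getD e.1 0 : ℕ) : ZMod 13) := by
      by_cases hk : e.1 < 78
      · rw [Finset.sum_eq_single (⟨e.1, hk⟩ : Fin 78)]
        · simp [vecOf]
        · intro j _ hj
          have : ¬ e.1 = j.1 := fun h => hj (Fin.ext h.symm)
          simp [this]
        · intro h; exact absurd (Finset.mem_univ _) h
      · have h0 : L.getD e.1 0 = 0 := by
          rw [List.getD_eq_default]
          omega
        rw [h0, Nat.cast_zero, mul_zero]
        apply Finset.sum_eq_zero
        intro j _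
        have : ¬ e.1 = j.1 := fun h => hk (h ▸ j.2)
        simp [this]
    rw [h1]

/-- applying a sparse matrix is `mulVec` -/
theorem apply_sound (R : SpMat) (hR : R.length = 78) (L : List ℕ) (hL : ∀ x ∈ L, x < 65536)
    (hlen : L.length = 78) : vecOf (apply R L) = (matOf R).mulVec (vecOf L) := by
  funext i
  show (((applyV (pack L) R).getD i.1 0 : ℕ) : ZMod 13) = _
  rw [applyV_getD _ R i.1 (by rw [hR]; exact i.2), ZMod.natCast_mod, rowDot_cast L hL hlen]
  rfl

theorem apply_length (R : SpMat) (L : List ℕ) : (apply R L).length = R.length := applyV_length _ R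

theorem apply_lt (R : SpMat) (L : List ℕ) : ∀ x ∈ apply R L, x < 65536 := applyV_lt _ R

/-- the matrix of a word -/
def wordM (Rs : ℕ → SpMat) (w : List ℕ) : Matrix (Fin 78) (Fin 78) (ZMod 13) :=
  (w.map fun g => matOf (Rs g)).prod

theorem applyWord_sound (Rs : ℕ → SpMat) (hRs : ∀ g, (Rs g).length = 78) (L : List ℕ)
    (hL : ∀ x ∈ L, x < 65536) (hlen : L.length = 78) :
    ∀ w : List ℕ, ((applyWord Rs w L).length = 78 ∧ ∀ x ∈ applyWord Rs w L, x < 65536) ∧
      vecOf (applyWord Rs w L) = (wordM Rs w).mulVec (vecOf L)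
  | [] => by
    refine ⟨⟨hlen, hL⟩, ?_⟩
    simp [applyWord, wordM]
  | g :: w => by
    obtain ⟨⟨h1, h2⟩, h3⟩ := applyWord_sound Rs hRs L hL hlen w
    refine ⟨⟨?_, ?_⟩, ?_⟩
    · show (apply (Rs g) _).length = 78
      rw [apply_length, hRs]
    · exact apply_lt _ _
    · show vecOf (apply (Rs g) (applyWord Rs w L)) = _
      rw [apply_sound (Rs g) (hRs g) _ h2 h1, h3, Matrix.mulVec_mulVec]
      simp [wordM]

theorem unitFrom_length : ∀ n i j : ℕ, (unitFrom n i j).length = n
  | 0, _, _ => rfl
  | n+1, i, j => by simp [unitFrom, unitFrom_length n]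

theorem unitL_length (n j : ℕ) : (unitL n j).length = n := unitFrom_length n 0 j

theorem unitFrom_getD : ∀ n i j t : ℕ, t < n → (unitFrom n i j).getD t 0 = if i + t = j then 1 else 0
  | 0, _, _, _, h => by simp at h
  | n+1, i, j, 0, _ => by
    show bsel (Nat.beq i j) 0 1 = _
    by_cases h : i = j
    · subst h
      simp
    · have : Nat.beq i j = false := by
        cases hb : Nat.beq i j
        · rfl
        · exact absurd (Nat.eq_of_beq_eq_true hb) h
      simp [this, h]
  | n+1, i, j, t+1, h => by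
    have ih := unitFrom_getD n (i+1) j t (by omega)
    show (unitFrom n (Nat.succ i) j).getD t 0 = _
    rw [ih]
    have : i + 1 + t = i + (t + 1) := by omega
    rw [this]

theorem unitL_getD (n j i : ℕ) (h : i < n) : (unitL n j).getD i 0 = if i = j then 1 else 0 := by
  rw [unitL, unitFrom_getD n 0 j i h, zero_add]

theorem unitFrom_lt : ∀ n i j : ℕ, ∀ x ∈ unitFrom n i j, x < 65536
  | 0, _, _, x, h => by simp [unitFrom] at h
  | n+1, i, j, x, h => by
    simp only [unitFrom, List.mem_cons] at h
    rcases h with rfl | h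
    · cases Nat.beq i j <;> simp
    · exact unitFrom_lt n _ j x h

theorem unitL_lt (n j : ℕ) : ∀ x ∈ unitL n j, x < 65536 := unitFrom_lt n 0 j

theorem vecOf_unitL (j : Fin 78) : vecOf (unitL 78 j.1) = Pi.single j 1 := by
  funext i
  show (((unitL 78 j.1).getD i.1 0 : ℕ) : ZMod 13) = _
  rw [unitL_getD 78 j.1 i.1 i.2]
  by_cases h : i = j
  · subst h; simp
  · have : ¬ i.1 = j.1 := fun e => h (Fin.ext e)
    simp [this, h]

/-- the check of a relator -/
def chkWord (Rs : ℕ → SpMat) (w : List ℕ) : Bool :=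
  allBelow (fun j => beqL (applyWord Rs w (unitL 78 j)) (unitL 78 j)) 78

theorem wordM_eq_one (Rs : ℕ → SpMat) (hRs : ∀ g, (Rs g).length = 78) (w : List ℕ)
    (h : chkWord Rs w = true) : wordM Rs w = 1 := by
  rw [chkWord, allBelow_eq_true] at h
  ext i j
  have hj := beqL_eq (h j.1 j.2)
  have := (applyWord_sound Rs hRs (unitL 78 j.1) (unitL_lt 78 j.1) (unitL_length 78 j.1) w).2
  rw [hj, vecOf_unitL] at this
  have e := congrFun this i
  rw [Matrix.mulVec_single_one] at e
  rw [Matrix.one_apply]
  rw [Matrix.col_apply] at e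
  rw [← e]
  simp [Pi.single_apply]

end Cfsg.Agent.Lib.Helper4.Fi78
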