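import Mathlib
import Cfsg.Agent.Lib.Helper4.Fi78Lib

/-! The nine generators of Fi22 as sparse 78 × 78 matrices over `ZMod 13` (generated). -/

namespace Cfsg.Agent.Lib.Helper4.Fi78

set_option maxRecDepth 100000

def R0 : SpMat := [
  [(0, 1)],
  [(0, 12), (1, 12)],
  [(2, 1)],
  [(3, 1)],
  [(4, 1)],
  [(5, 1)],
  [(2, 12), (6, 12)],
  [(3, 12), (7, 12)],
  [(4, 12), (8, 12)],
  [(5, 12), (9, 12)],
  [(0, 1), (2, 1), (10, 12)],
  [(11, 1)],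
  [(3, 1), (4, 1), (12, 12)],
  [(13, 1)],
  [(11, 12), (14, 12)],
  [(0, 12), (3, 12), (11, 1), (15, 12)],
  [(0, 1), (4, 12), (11, 12), (16, 12)],
  [(4, 1), (11, 1), (17, 12)],
  [(18, 1)],
  [(19, 1)],
  [(13, 12), (20, 12)],
  [(5, 1), (13, 1), (21, 12)],
  [(22, 1)],
  [(18, 1), (19, 1), (23, 12)],
  [(5, 12), (18, 12), (22, 1), (24, 12)],
  [(25, 1)],
  [(5, 1), (19, 12), (22, 12), (26, 12)],
  [(19, 1), (22, 1), (27, 12)],
  [(19, 12), (28, 12)],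
  [(22, 12), (29, 12)],
  [(25, 12), (30, 12)],
  [(0, 12), (5, 12), (31, 12), (45, 12), (61, 12)],
  [(2, 12), (3, 12), (4, 12), (13, 12), (32, 12), (48, 12), (61, 1)],
  [(0, 1), (2, 1), (3, 1), (4, 1), (5, 1), (13, 1), (18, 1), (33, 12), (58, 12), (61, 12)],
  [(0, 1), (2, 1), (3, 1), (4, 1), (5, 1), (13, 1), (34, 12), (45, 1), (48, 1)],
  [(39, 1)],
  [(5, 12), (13, 12), (36, 12), (45, 12), (48, 12)],
  [(2, 1), (4, 1), (13, 1), (19, 1), (37, 12), (48, 1)],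
  [(18, 12), (38, 12)],
  [(35, 1)],
  [(0, 1), (3, 1), (5, 1), (18, 1), (40, 12), (45, 1)],
  [(5, 1), (13, 1), (22, 12), (41, 12), (48, 1)],
  [(42, 12), (61, 12)],
  [(0, 12), (5, 12), (25, 1), (43, 12)],
  [(44, 12), (45, 12)],
  [(45, 1)],
  [(3, 12), (18, 12), (46, 12), (61, 1)],
  [(0, 1), (13, 12), (25, 12), (47, 12)],
  [(48, 1)],
  [(45, 1), (49, 12), (61, 1)],
  [(0, 12), (2, 12), (3, 12), (4, 12), (5, 12), (13, 12), (18, 12), (19, 12), (50, 12), (58, 1)],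
  [(3, 1), (19, 12), (51, 12), (61, 12)],
  [(48, 12), (52, 12)],
  [(13, 1), (25, 1), (53, 12)],
  [(0, 12), (3, 12), (22, 12), (45, 12), (54, 12)],
  [(19, 1), (55, 12), (61, 1)],
  [(2, 12), (4, 12), (5, 12), (13, 12), (22, 1), (48, 12), (56, 12)],
  [(57, 12), (58, 12)],
  [(58, 1)],
  [(65, 1)],
  [(22, 1), (45, 1), (60, 12)],
  [(61, 1)],
  [(13, 12), (19, 12), (25, 12), (61, 12), (62, 12)],
  [(3, 1), (4, 1), (48, 1), (61, 12), (63, 12)],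
  [(73, 1)],
  [(59, 1)],
  [(69, 1)],
  [(0, 1), (2, 1), (3, 1), (4, 1), (5, 1), (13, 1), (18, 1), (22, 12), (58, 12), (67, 12)],
  [(0, 12), (13, 1), (22, 12), (25, 1), (45, 12), (68, 12)],
  [(66, 1)],
  [(3, 12), (4, 12), (18, 12), (58, 1), (61, 1), (70, 12)],
  [(5, 12), (13, 12), (18, 12), (22, 1), (58, 1), (71, 12)],
  [(3, 12), (4, 12), (45, 12), (48, 12), (72, 12)],
  [(64, 1)],
  [(0, 6), (1, 5), (4, 8), (5, 10), (8, 4), (9, 2), (11, 8), (12, 1), (14, 4), (15, 1), (23, 2), (24, 2), (28, 7), (29, 7), (32, 3), (34, 3), (37, 7), (40, 1), (42, 6), (44, 6), (45, 1), (46, 1), (47, 7), (50, 12), (51, 5), (53, 7), (54, 5), (55, 1), (56, 7), (60, 1), (61, 1), (62, 12), (63, 10), (64, 1), (67, 12), (68, 12), (72, 10), (73, 12), (74, 1)],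
  [(0, 1), (1, 10), (2, 1), (3, 4), (4, 9), (5, 10), (6, 11), (7, 9), (8, 8), (9, 8), (10, 5), (11, 2), (12, 11), (13, 8), (14, 5), (15, 2), (16, 7), (17, 6), (18, 6), (19, 4), (20, 4), (21, 8), (22, 5), (23, 2), (24, 11), (25, 5), (26, 6), (27, 7), (28, 11), (29, 2), (30, 11), (31, 7), (32, 12), (33, 1), (35, 12), (37, 1), (39, 1), (40, 2), (42, 1), (43, 12), (44, 11), (45, 2), (46, 8), (47, 9), (48, 12), (49, 6), (50, 12), (51, 4), (52, 1), (53, 12), (54, 11), (55, 1), (57, 12), (58, 1), (59, 12), (60, 2), (62, 12), (63, 1), (64, 1), (65, 1), (66, 1), (68, 11), (69, 12), (70, 12), (73, 12), (75, 1)],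
  [(3, 1), (4, 1), (5, 1), (13, 1), (18, 1), (19, 1), (45, 1), (48, 1), (76, 12)],
  [(0, 3), (1, 5), (3, 9), (4, 5), (6, 6), (7, 10), (8, 2), (10, 11), (11, 5), (12, 10), (13, 11), (14, 9), (15, 12), (18, 10), (19, 11), (20, 2), (21, 12), (23, 10), (24, 11), (25, 7), (28, 8), (29, 6), (30, 12), (32, 10), (36, 3), (37, 6), (38, 2), (40, 12), (41, 7), (42, 6), (43, 1), (44, 7), (45, 12), (47, 5), (50, 1), (51, 7), (53, 1), (54, 1), (55, 7), (60, 5), (61, 6), (63, 3), (64, 12), (68, 1), (71, 12), (73, 1), (76, 10), (77, 1)]]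

def R1 : SpMat := [
  [(1, 1)],
  [(0, 1)],
  [(6, 1)],
  [(7, 1)],
  [(8, 1)],
  [(9, 1)],
  [(2, 1)],
  [(3, 1)],
  [(4, 1)],
  [(5, 1)],
  [(0, 1), (1, 1), (10, 12)],
  [(14, 1)],
  [(3, 1), (7, 1), (12, 12)],
  [(20, 1)],
  [(11, 1)],
  [(0, 12), (1, 12), (3, 12), (7, 12), (15, 12)],
  [(2, 12), (4, 12), (6, 12), (8, 12), (16, 12)],
  [(0, 1), (1, 1), (2, 1), (3, 1), (4, 1), (6, 1), (7, 1), (8, 1), (17, 12)],
  [(38, 1)],
  [(28, 1)],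
  [(13, 1)],
  [(5, 1), (9, 1), (21, 12)],
  [(29, 1)],
  [(18, 1), (23, 12), (38, 1)],
  [(5, 12), (9, 12), (18, 12), (24, 12), (38, 12)],
  [(30, 1)],
  [(13, 12), (19, 12), (20, 12), (26, 12), (28, 12)],
  [(5, 1), (9, 1), (13, 1), (18, 1), (19, 1), (20, 1), (27, 12), (28, 1), (38, 1)],
  [(19, 1)],
  [(22, 1)],
  [(25, 1)],
  [(25, 12), (30, 12), (31, 12), (42, 12), (61, 12)],
  [(0, 12), (1, 12), (2, 12), (3, 12), (4, 12), (6, 12), (7, 12), (8, 12), (25, 1), (30, 1), (32, 12), (42, 1), (61, 1)],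
  [(35, 1)],
  [(0, 2), (1, 2), (2, 1), (3, 1), (5, 1), (6, 1), (7, 1), (9, 1), (11, 12), (14, 12), (25, 12), (30, 12), (34, 12), (44, 1), (45, 1)],
  [(33, 1)],
  [(0, 12), (1, 12), (4, 1), (5, 12), (8, 1), (9, 12), (11, 1), (14, 1), (36, 12), (42, 12), (44, 12), (45, 12), (61, 12)],
  [(2, 1), (4, 1), (6, 1), (8, 1), (13, 1), (19, 1), (20, 1), (28, 1), (37, 12)],
  [(18, 1)],
  [(0, 12), (1, 12), (2, 12), (3, 12), (4, 12), (5, 12), (6, 12), (7, 12), (8, 12), (9, 12), (13, 12), (18, 12), (20, 12), (38, 12), (39, 12), (42, 1), (61, 1), (65, 12)],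
  [(0, 1), (1, 1), (3, 1), (5, 1), (7, 1), (9, 1), (18, 1), (38, 1), (40, 12)],
  [(0, 1), (1, 1), (4, 12), (5, 1), (8, 12), (9, 1), (11, 12), (14, 12), (19, 12), (22, 12), (28, 12), (29, 12), (41, 12)],
  [(61, 1)],
  [(0, 12), (1, 12), (5, 12), (9, 12), (43, 12)],
  [(45, 1)],
  [(44, 1)],
  [(3, 12), (7, 12), (18, 12), (38, 12), (46, 12)],
  [(2, 12), (6, 12), (13, 12), (20, 12), (47, 12)],
  [(52, 1)],
  [(0, 12), (1, 12), (3, 12), (5, 12), (7, 12), (9, 12), (18, 12), (25, 1), (30, 1), (38, 12), (42, 1), (49, 12), (61, 1)],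
  [(64, 1)],
  [(4, 12), (8, 12), (19, 12), (28, 12), (51, 12)],
  [(48, 1)],
  [(0, 1), (1, 1), (2, 1), (5, 1), (6, 1), (9, 1), (13, 1), (20, 1), (53, 12)],
  [(11, 12), (14, 12), (22, 12), (29, 12), (54, 12)],
  [(3, 1), (4, 1), (7, 1), (8, 1), (18, 1), (19, 1), (28, 1), (38, 1), (55, 12)],
  [(0, 12), (1, 12), (2, 12), (5, 12), (6, 12), (9, 12), (11, 1), (13, 12), (14, 1), (20, 12), (22, 1), (29, 1), (56, 12)],
  [(66, 1)],
  [(59, 1)],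
  [(58, 1)],
  [(0, 12), (1, 12), (3, 12), (5, 12), (7, 12), (9, 12), (11, 1), (14, 1), (18, 12), (22, 1), (29, 1), (38, 12), (60, 12)],
  [(42, 1)],
  [(0, 12), (1, 12), (2, 12), (3, 12), (4, 12), (5, 12), (6, 12), (7, 12), (8, 12), (9, 12), (13, 12), (18, 12), (19, 12), (20, 12), (28, 12), (38, 12), (62, 12)],
  [(0, 1), (1, 1), (3, 1), (7, 1), (13, 12), (19, 12), (20, 12), (25, 12), (28, 12), (30, 12), (42, 12), (61, 12), (63, 12)],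
  [(50, 1)],
  [(65, 1)],
  [(57, 1)],
  [(74, 1)],
  [(0, 1), (1, 1), (2, 1), (3, 1), (5, 1), (6, 1), (7, 1), (9, 1), (11, 12), (13, 1), (14, 12), (18, 1), (20, 1), (22, 12), (29, 12), (38, 1), (68, 12)],
  [(65, 12), (69, 12)],
  [(75, 1)],
  [(77, 1)],
  [(0, 12), (1, 12), (3, 12), (7, 12), (13, 1), (20, 1), (22, 12), (25, 1), (29, 12), (30, 1), (44, 12), (45, 12), (72, 12)],
  [(0, 1), (1, 1), (2, 1), (3, 1), (4, 1), (5, 1), (6, 1), (7, 1), (8, 1), (9, 1), (13, 1), (18, 1), (19, 1), (20, 1), (28, 1), (38, 1), (65, 1), (73, 12)],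
  [(67, 1)],
  [(70, 1)],
  [(19, 1), (22, 1), (28, 1), (29, 1), (42, 1), (44, 1), (45, 1), (61, 1), (76, 12)],
  [(71, 1)]]

def R2 : SpMat := [
  [(0, 1)],
  [(0, 12), (1, 12)],
  [(0, 12), (2, 12)],
  [(3, 1)],
  [(3, 12), (4, 12)],
  [(5, 1)],
  [(10, 1)],
  [(3, 12), (7, 12)],
  [(12, 1)],
  [(5, 12), (9, 12)],
  [(6, 1)],
  [(0, 1), (3, 1), (11, 12)],
  [(8, 1)],
  [(5, 12), (13, 12)],
  [(15, 1)],
  [(14, 1)],
  [(0, 1), (6, 12), (10, 12), (16, 12)],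
  [(6, 1), (10, 1), (17, 12)],
  [(18, 1)],
  [(18, 12), (19, 12)],
  [(21, 1)],
  [(20, 1)],
  [(5, 1), (18, 1), (22, 12)],
  [(28, 1)],
  [(29, 1)],
  [(0, 1), (5, 1), (25, 12)],
  [(5, 1), (20, 12), (21, 12), (26, 12)],
  [(20, 1), (21, 1), (27, 12)],
  [(23, 1)],
  [(24, 1)],
  [(43, 1)],
  [(0, 12), (5, 12), (30, 12), (31, 12), (43, 12)],
  [(33, 1)],
  [(32, 1)],
  [(23, 1), (24, 1), (28, 1), (29, 1), (32, 12), (33, 12), (34, 12), (37, 12), (40, 1), (42, 1), (44, 1), (46, 1), (50, 12), (56, 12), (67, 12)],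
  [(0, 12), (3, 12), (5, 12), (6, 1), (8, 1), (10, 1), (12, 1), (18, 12), (30, 12), (35, 12), (42, 12), (43, 12), (46, 12)],
  [(0, 1), (3, 1), (23, 12), (24, 12), (28, 12), (29, 12), (32, 1), (33, 1), (36, 12), (37, 1), (40, 12), (41, 12), (42, 12), (44, 12), (46, 12), (50, 1), (71, 12)],
  [(50, 1)],
  [(18, 12), (38, 12)],
  [(0, 1), (3, 1), (6, 12), (8, 12), (10, 12), (12, 12), (30, 1), (39, 12), (42, 1), (43, 1), (46, 1)],
  [(44, 1)],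
  [(71, 1)],
  [(46, 1)],
  [(30, 1)],
  [(40, 1)],
  [(0, 12), (3, 12), (5, 12), (18, 12), (45, 12)],
  [(42, 1)],
  [(0, 1), (6, 12), (10, 12), (47, 12)],
  [(58, 1)],
  [(30, 1), (43, 1), (49, 12)],
  [(37, 1)],
  [(3, 1), (8, 12), (12, 12), (51, 12)],
  [(57, 1)],
  [(6, 1), (10, 1), (53, 12)],
  [(0, 12), (3, 12), (14, 12), (15, 12), (54, 12)],
  [(8, 1), (12, 1), (55, 12)],
  [(67, 1)],
  [(52, 1)],
  [(48, 1)],
  [(66, 1)],
  [(14, 1), (15, 1), (60, 12)],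
  [(3, 1), (18, 1), (61, 12)],
  [(6, 12), (8, 12), (10, 12), (12, 12), (62, 12)],
  [(70, 1)],
  [(0, 1), (3, 1), (5, 1), (6, 12), (8, 12), (10, 12), (12, 12), (18, 1), (20, 12), (21, 12), (23, 12), (28, 12), (64, 12)],
  [(69, 1)],
  [(59, 1)],
  [(56, 1)],
  [(0, 12), (6, 1), (10, 1), (14, 12), (15, 12), (68, 12)],
  [(65, 1)],
  [(63, 1)],
  [(41, 1)],
  [(0, 1), (5, 1), (23, 12), (24, 12), (28, 12), (29, 12), (37, 1), (40, 12), (42, 12), (44, 12), (46, 12), (50, 1), (56, 1), (63, 12), (67, 1), (70, 12), (72, 12)],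
  [(6, 1), (8, 1), (10, 1), (12, 1), (20, 1), (21, 1), (23, 1), (28, 1), (73, 12)],
  [(0, 12), (3, 12), (5, 12), (6, 1), (10, 1), (14, 12), (15, 12), (18, 12), (20, 1), (21, 1), (24, 12), (29, 12), (74, 12)],
  [(20, 1), (21, 1), (23, 1), (28, 1), (30, 1), (42, 1), (43, 1), (46, 1), (75, 12)],
  [(0, 11), (3, 12), (5, 12), (6, 1), (8, 1), (10, 1), (12, 1), (20, 1), (21, 1), (23, 2), (24, 1), (28, 2), (29, 1), (37, 12), (40, 1), (41, 1), (42, 1), (44, 1), (46, 1), (50, 12), (63, 1), (70, 1), (71, 1), (76, 12)],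
  [(8, 1), (12, 1), (14, 1), (15, 1), (23, 1), (24, 1), (28, 1), (29, 1), (77, 12)]]

def R3 : SpMat := [
  [(2, 1)],
  [(6, 1)],
  [(0, 1)],
  [(4, 1)],
  [(3, 1)],
  [(13, 1)],
  [(1, 1)],
  [(8, 1)],
  [(7, 1)],
  [(20, 1)],
  [(0, 1), (2, 1), (10, 12)],
  [(0, 1), (2, 1), (11, 12)],
  [(3, 1), (4, 1), (12, 12)],
  [(5, 1)],
  [(1, 1), (6, 1), (14, 12)],
  [(16, 1)],
  [(15, 1)],
  [(0, 1), (1, 1), (2, 1), (3, 1), (4, 1), (6, 1), (7, 1), (8, 1), (17, 12)],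
  [(19, 1)],
  [(18, 1)],
  [(9, 1)],
  [(5, 1), (13, 1), (21, 12)],
  [(5, 1), (13, 1), (22, 12)],
  [(18, 1), (19, 1), (23, 12)],
  [(26, 1)],
  [(0, 1), (2, 1), (25, 12)],
  [(24, 1)],
  [(5, 1), (9, 1), (13, 1), (18, 1), (19, 1), (20, 1), (27, 12), (28, 1), (38, 1)],
  [(38, 1)],
  [(9, 1), (20, 1), (29, 12)],
  [(1, 1), (6, 1), (30, 12)],
  [(32, 1)],
  [(31, 1)],
  [(0, 1), (1, 1), (2, 1), (5, 1), (6, 1), (13, 1), (33, 12), (43, 1), (47, 1)],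
  [(0, 1), (2, 1), (3, 1), (4, 1), (5, 1), (13, 1), (34, 12), (45, 1), (48, 1)],
  [(5, 12), (13, 12), (35, 12), (43, 12), (47, 12)],
  [(5, 12), (13, 12), (36, 12), (45, 12), (48, 12)],
  [(40, 1)],
  [(28, 1)],
  [(39, 12), (43, 1), (47, 1)],
  [(37, 1)],
  [(60, 1)],
  [(7, 1), (8, 1), (42, 12)],
  [(47, 1)],
  [(52, 1)],
  [(48, 1)],
  [(51, 1)],
  [(43, 1)],
  [(45, 1)],
  [(63, 1)],
  [(57, 1)],
  [(46, 1)],
  [(44, 1)],
  [(0, 1), (1, 1), (2, 1), (5, 1), (6, 1), (9, 1), (13, 1), (20, 1), (53, 12)],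
  [(56, 1)],
  [(3, 1), (4, 1), (7, 1), (8, 1), (18, 1), (19, 1), (28, 1), (38, 1), (55, 12)],
  [(54, 1)],
  [(50, 1)],
  [(0, 1), (2, 1), (3, 1), (4, 1), (5, 1), (13, 1), (18, 1), (19, 1), (58, 12)],
  [(1, 1), (6, 1), (7, 1), (8, 1), (9, 1), (20, 1), (28, 1), (38, 1), (59, 12)],
  [(41, 1)],
  [(3, 1), (4, 1), (61, 12)],
  [(0, 12), (1, 12), (2, 12), (3, 12), (4, 12), (5, 12), (6, 12), (7, 12), (8, 12), (9, 12), (13, 12), (18, 12), (19, 12), (20, 12), (28, 12), (38, 12), (62, 12)],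
  [(49, 1)],
  [(66, 1)],
  [(0, 12), (1, 12), (2, 12), (3, 12), (4, 12), (5, 12), (6, 12), (7, 12), (8, 12), (9, 12), (13, 12), (18, 12), (19, 12), (20, 12), (28, 12), (38, 12), (65, 12)],
  [(64, 1)],
  [(0, 1), (1, 1), (2, 1), (3, 1), (4, 1), (6, 1), (15, 1), (16, 1), (67, 12)],
  [(0, 11), (1, 3), (2, 11), (3, 3), (4, 3), (5, 8), (6, 3), (7, 12), (8, 12), (9, 4), (13, 8), (15, 11), (16, 11), (18, 4), (19, 4), (20, 4), (24, 2), (26, 2), (28, 9), (31, 3), (32, 3), (37, 8), (38, 9), (40, 8), (41, 1), (43, 7), (44, 6), (45, 7), (46, 6), (47, 7), (48, 7), (49, 10), (50, 12), (51, 6), (52, 6), (54, 12), (56, 12), (57, 12), (60, 1), (63, 10), (64, 1), (66, 1), (68, 12), (69, 12), (73, 12)],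
  [(73, 1)],
  [(1, 12), (6, 12), (43, 12), (47, 12), (70, 12)],
  [(1, 12), (6, 12), (15, 12), (16, 12), (71, 12)],
  [(3, 12), (4, 12), (45, 12), (48, 12), (72, 12)],
  [(69, 1)],
  [(3, 12), (4, 12), (15, 12), (16, 12), (74, 12)],
  [(1, 1), (5, 1), (6, 1), (9, 1), (13, 1), (20, 1), (43, 1), (47, 1), (75, 12)],
  [(3, 1), (4, 1), (5, 1), (13, 1), (18, 1), (19, 1), (45, 1), (48, 1), (76, 12)],
  [(1, 1), (3, 1), (4, 1), (6, 1), (7, 1), (8, 1), (15, 1), (16, 1), (77, 12)]]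

def R4 : SpMat := [
  [(0, 1)],
  [(1, 1)],
  [(0, 12), (2, 12)],
  [(0, 12), (3, 12)],
  [(11, 1)],
  [(5, 1)],
  [(1, 12), (6, 12)],
  [(1, 12), (7, 12)],
  [(14, 1)],
  [(9, 1)],
  [(0, 1), (1, 1), (10, 12)],
  [(4, 1)],
  [(15, 1)],
  [(5, 12), (13, 12)],
  [(8, 1)],
  [(12, 1)],
  [(0, 1), (4, 12), (11, 12), (16, 12)],
  [(4, 1), (11, 1), (17, 12)],
  [(5, 12), (18, 12)],
  [(22, 1)],
  [(9, 12), (20, 12)],
  [(5, 1), (9, 1), (21, 12)],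
  [(19, 1)],
  [(24, 1)],
  [(23, 1)],
  [(0, 1), (5, 1), (25, 12)],
  [(5, 1), (19, 12), (22, 12), (26, 12)],
  [(19, 1), (22, 1), (27, 12)],
  [(29, 1)],
  [(28, 1)],
  [(1, 1), (9, 1), (30, 12)],
  [(0, 12), (5, 12), (31, 12), (45, 12), (61, 12)],
  [(34, 1)],
  [(23, 1), (24, 1), (28, 1), (29, 1), (32, 12), (33, 12), (34, 12), (37, 12), (40, 1), (42, 1), (44, 1), (46, 1), (50, 12), (56, 12), (67, 12)],
  [(32, 1)],
  [(0, 1), (1, 1), (23, 12), (24, 12), (28, 12), (29, 12), (32, 1), (34, 1), (35, 12), (37, 1), (40, 12), (42, 12), (44, 12), (46, 12), (56, 1), (64, 12), (74, 12)],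
  [(0, 12), (1, 12), (4, 1), (5, 12), (8, 1), (9, 12), (11, 1), (14, 1), (36, 12), (42, 12), (44, 12), (45, 12), (61, 12)],
  [(56, 1)],
  [(9, 12), (38, 12)],
  [(0, 7), (1, 7), (4, 5), (5, 3), (8, 9), (9, 11), (11, 5), (12, 12), (14, 9), (15, 12), (19, 1), (22, 1), (23, 12), (24, 12), (28, 7), (29, 7), (32, 9), (34, 9), (37, 5), (39, 12), (42, 8), (44, 8), (47, 6), (50, 1), (51, 8), (53, 6), (54, 8), (55, 12), (56, 5), (60, 12), (62, 1), (63, 3), (64, 12), (67, 1), (68, 1), (72, 3), (74, 12)],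
  [(46, 1)],
  [(0, 1), (1, 1), (4, 12), (5, 1), (8, 12), (9, 1), (11, 12), (14, 12), (19, 12), (22, 12), (28, 12), (29, 12), (41, 12)],
  [(44, 1)],
  [(0, 12), (1, 12), (5, 12), (9, 12), (43, 12)],
  [(42, 1)],
  [(61, 1)],
  [(40, 1)],
  [(53, 1)],
  [(0, 1), (4, 12), (11, 12), (48, 12)],
  [(45, 1), (49, 12), (61, 1)],
  [(67, 1)],
  [(54, 1)],
  [(1, 1), (8, 12), (14, 12), (52, 12)],
  [(47, 1)],
  [(51, 1)],
  [(60, 1)],
  [(37, 1)],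
  [(0, 12), (1, 12), (12, 12), (15, 12), (57, 12)],
  [(4, 1), (11, 1), (58, 12)],
  [(8, 1), (14, 1), (59, 12)],
  [(55, 1)],
  [(45, 1)],
  [(68, 1)],
  [(72, 1)],
  [(74, 1)],
  [(4, 12), (8, 12), (11, 12), (14, 12), (65, 12)],
  [(12, 1), (15, 1), (66, 12)],
  [(50, 1)],
  [(62, 1)],
  [(0, 12), (4, 1), (11, 1), (12, 12), (15, 12), (69, 12)],
  [(0, 1), (5, 1), (23, 12), (24, 12), (28, 12), (29, 12), (37, 1), (40, 12), (42, 12), (44, 12), (46, 12), (50, 1), (56, 1), (63, 12), (67, 1), (70, 12), (72, 12)],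
  [(0, 12), (1, 12), (4, 1), (5, 12), (9, 12), (11, 1), (12, 12), (15, 12), (19, 1), (22, 1), (23, 12), (24, 12), (71, 12)],
  [(63, 1)],
  [(0, 6), (1, 5), (4, 8), (5, 10), (8, 4), (9, 2), (11, 8), (12, 1), (14, 4), (15, 1), (23, 2), (24, 2), (28, 7), (29, 7), (32, 3), (34, 3), (37, 7), (40, 1), (42, 6), (44, 6), (45, 1), (46, 1), (47, 7), (50, 12), (51, 5), (53, 7), (54, 5), (55, 1), (56, 7), (60, 1), (61, 1), (62, 12), (63, 10), (64, 1), (67, 12), (68, 12), (72, 10), (73, 12), (74, 1)],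
  [(64, 1)],
  [(0, 11), (1, 12), (4, 1), (5, 12), (8, 1), (11, 1), (14, 1), (19, 1), (22, 1), (23, 1), (24, 1), (28, 2), (29, 2), (37, 12), (40, 1), (42, 1), (44, 1), (46, 1), (56, 12), (63, 1), (64, 1), (72, 1), (74, 1), (75, 12)],
  [(19, 1), (22, 1), (28, 1), (29, 1), (42, 1), (44, 1), (45, 1), (61, 1), (76, 12)],
  [(8, 1), (12, 1), (14, 1), (15, 1), (23, 1), (24, 1), (28, 1), (29, 1), (77, 12)]]

def R5 : SpMat := [
  [(3, 1)],
  [(7, 1)],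
  [(4, 1)],
  [(0, 1)],
  [(2, 1)],
  [(18, 1)],
  [(8, 1)],
  [(1, 1)],
  [(6, 1)],
  [(38, 1)],
  [(12, 1)],
  [(0, 1), (3, 1), (11, 12)],
  [(10, 1)],
  [(19, 1)],
  [(1, 1), (7, 1), (14, 12)],
  [(0, 12), (1, 12), (3, 12), (7, 12), (15, 12)],
  [(2, 12), (4, 12), (6, 12), (8, 12), (16, 12)],
  [(0, 1), (1, 1), (2, 1), (3, 1), (4, 1), (6, 1), (7, 1), (8, 1), (17, 12)],
  [(5, 1)],
  [(13, 1)],
  [(28, 1)],
  [(23, 1)],
  [(5, 1), (18, 1), (22, 12)],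
  [(21, 1)],
  [(5, 12), (9, 12), (18, 12), (24, 12), (38, 12)],
  [(61, 1)],
  [(13, 12), (19, 12), (20, 12), (26, 12), (28, 12)],
  [(5, 1), (9, 1), (13, 1), (18, 1), (19, 1), (20, 1), (27, 12), (28, 1), (38, 1)],
  [(20, 1)],
  [(9, 1), (29, 12), (38, 1)],
  [(42, 1)],
  [(25, 12), (30, 12), (31, 12), (42, 12), (61, 12)],
  [(0, 12), (1, 12), (2, 12), (3, 12), (4, 12), (6, 12), (7, 12), (8, 12), (25, 1), (30, 1), (32, 12), (42, 1), (61, 1)],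
  [(0, 2), (1, 1), (2, 1), (3, 2), (4, 1), (5, 1), (7, 1), (10, 12), (12, 12), (18, 1), (25, 12), (33, 12), (43, 1), (46, 1), (61, 12)],
  [(36, 1)],
  [(0, 12), (3, 12), (5, 12), (6, 1), (8, 1), (10, 1), (12, 1), (18, 12), (30, 12), (35, 12), (42, 12), (43, 12), (46, 12)],
  [(34, 1)],
  [(2, 1), (4, 1), (6, 1), (8, 1), (13, 1), (19, 1), (20, 1), (28, 1), (37, 12)],
  [(9, 1)],
  [(0, 1), (3, 1), (6, 12), (8, 12), (10, 12), (12, 12), (30, 1), (39, 12), (42, 1), (43, 1), (46, 1)],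
  [(0, 1), (1, 1), (3, 1), (5, 1), (7, 1), (9, 1), (18, 1), (38, 1), (40, 12)],
  [(56, 1)],
  [(30, 1)],
  [(46, 1)],
  [(1, 12), (7, 12), (9, 12), (38, 12), (44, 12)],
  [(0, 12), (3, 12), (5, 12), (18, 12), (45, 12)],
  [(43, 1)],
  [(51, 1)],
  [(2, 12), (4, 12), (13, 12), (19, 12), (48, 12)],
  [(0, 12), (1, 12), (3, 12), (5, 12), (7, 12), (9, 12), (18, 12), (25, 1), (30, 1), (38, 12), (42, 1), (49, 12), (61, 1)],
  [(0, 12), (2, 12), (3, 12), (4, 12), (5, 12), (10, 1), (12, 1), (13, 12), (18, 12), (19, 12), (21, 1), (23, 1), (50, 12)],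
  [(47, 1)],
  [(6, 12), (8, 12), (20, 12), (28, 12), (52, 12)],
  [(55, 1)],
  [(60, 1)],
  [(53, 1)],
  [(41, 1)],
  [(10, 12), (12, 12), (21, 12), (23, 12), (57, 12)],
  [(0, 1), (2, 1), (3, 1), (4, 1), (5, 1), (13, 1), (18, 1), (19, 1), (58, 12)],
  [(1, 1), (6, 1), (7, 1), (8, 1), (9, 1), (20, 1), (28, 1), (38, 1), (59, 12)],
  [(54, 1)],
  [(25, 1)],
  [(62, 1)],
  [(0, 1), (1, 1), (3, 1), (7, 1), (13, 12), (19, 12), (20, 12), (25, 12), (28, 12), (30, 12), (42, 12), (61, 12), (63, 12)],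
  [(0, 1), (3, 1), (5, 1), (6, 12), (8, 12), (10, 12), (12, 12), (18, 1), (20, 12), (21, 12), (23, 12), (28, 12), (64, 12)],
  [(0, 12), (1, 12), (2, 12), (3, 12), (4, 12), (5, 12), (6, 12), (7, 12), (8, 12), (9, 12), (13, 12), (18, 12), (19, 12), (20, 12), (28, 12), (38, 12), (65, 12)],
  [(0, 12), (1, 12), (3, 12), (5, 12), (7, 12), (9, 12), (10, 1), (12, 1), (18, 12), (21, 1), (23, 1), (38, 12), (66, 12)],
  [(71, 1)],
  [(62, 12), (68, 12)],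
  [(0, 1), (1, 1), (2, 1), (3, 1), (4, 1), (5, 1), (7, 1), (9, 1), (10, 12), (12, 12), (13, 1), (18, 1), (19, 1), (21, 12), (23, 12), (38, 1), (69, 12)],
  [(0, 12), (1, 12), (3, 12), (7, 12), (13, 1), (19, 1), (21, 12), (23, 12), (25, 1), (43, 12), (46, 12), (61, 1), (70, 12)],
  [(67, 1)],
  [(76, 1)],
  [(6, 1), (8, 1), (10, 1), (12, 1), (20, 1), (21, 1), (23, 1), (28, 1), (73, 12)],
  [(77, 1)],
  [(20, 1), (21, 1), (23, 1), (28, 1), (30, 1), (42, 1), (43, 1), (46, 1), (75, 12)],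
  [(72, 1)],
  [(74, 1)]]

def R6 : SpMat := [
  [(0, 1)],
  [(1, 1)],
  [(2, 1)],
  [(0, 12), (3, 12)],
  [(2, 12), (4, 12)],
  [(5, 1)],
  [(6, 1)],
  [(1, 12), (7, 12)],
  [(6, 12), (8, 12)],
  [(9, 1)],
  [(10, 1)],
  [(0, 1), (2, 1), (11, 12)],
  [(10, 12), (12, 12)],
  [(13, 1)],
  [(1, 1), (6, 1), (14, 12)],
  [(0, 12), (1, 12), (10, 1), (15, 12)],
  [(0, 1), (6, 12), (10, 12), (16, 12)],
  [(6, 1), (10, 1), (17, 12)],
  [(5, 12), (18, 12)],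
  [(13, 12), (19, 12)],
  [(20, 1)],
  [(21, 1)],
  [(5, 1), (13, 1), (22, 12)],
  [(21, 12), (23, 12)],
  [(5, 12), (9, 12), (21, 1), (24, 12)],
  [(25, 1)],
  [(5, 1), (20, 12), (21, 12), (26, 12)],
  [(20, 1), (21, 1), (27, 12)],
  [(20, 12), (28, 12)],
  [(9, 1), (20, 1), (29, 12)],
  [(30, 1)],
  [(0, 12), (5, 12), (30, 12), (31, 12), (43, 12)],
  [(1, 12), (2, 12), (6, 12), (13, 12), (30, 1), (32, 12), (47, 12)],
  [(0, 1), (1, 1), (2, 1), (5, 1), (6, 1), (13, 1), (33, 12), (43, 1), (47, 1)],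
  [(0, 1), (1, 1), (2, 1), (5, 1), (6, 1), (9, 1), (13, 1), (30, 12), (34, 12), (53, 12)],
  [(5, 12), (13, 12), (35, 12), (43, 12), (47, 12)],
  [(0, 9), (1, 2), (2, 2), (3, 2), (4, 10), (5, 5), (6, 10), (7, 3), (8, 1), (9, 9), (15, 2), (17, 11), (18, 9), (19, 10), (20, 10), (21, 10), (22, 10), (23, 6), (24, 8), (25, 8), (26, 3), (27, 10), (28, 3), (29, 6), (30, 1), (31, 2), (32, 8), (33, 12), (34, 12), (35, 1), (36, 1), (37, 3), (38, 4), (39, 12), (40, 2), (42, 12), (43, 3), (45, 3), (47, 6), (48, 6), (51, 7), (52, 7), (54, 1), (57, 1), (60, 12), (61, 1), (63, 3), (66, 12), (68, 1), (69, 1)],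
  [(2, 1), (6, 1), (13, 1), (20, 1), (37, 12), (47, 1)],
  [(9, 12), (38, 12)],
  [(39, 12), (43, 1), (47, 1)],
  [(0, 1), (1, 1), (5, 1), (9, 1), (40, 12), (43, 1)],
  [(0, 11), (1, 3), (2, 11), (3, 3), (4, 3), (5, 8), (6, 3), (7, 12), (8, 12), (9, 4), (13, 8), (15, 11), (16, 11), (18, 4), (19, 4), (20, 4), (24, 2), (26, 2), (28, 9), (31, 3), (32, 3), (37, 8), (38, 9), (40, 8), (41, 1), (43, 7), (44, 6), (45, 7), (46, 6), (47, 7), (48, 7), (49, 10), (50, 12), (51, 6), (52, 6), (54, 12), (56, 12), (57, 12), (60, 1), (63, 10), (64, 1), (66, 1), (68, 12), (69, 12), (73, 12)],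
  [(30, 12), (42, 12)],
  [(43, 1)],
  [(1, 12), (9, 12), (30, 1), (44, 12)],
  [(0, 12), (5, 12), (25, 1), (45, 12)],
  [(43, 12), (46, 12)],
  [(47, 1)],
  [(0, 1), (13, 12), (25, 12), (48, 12)],
  [(30, 1), (43, 1), (49, 12)],
  [(2, 12), (5, 12), (6, 12), (13, 12), (21, 1), (47, 12), (50, 12)],
  [(47, 12), (51, 12)],
  [(1, 1), (20, 12), (30, 12), (52, 12)],
  [(53, 1)],
  [(53, 12), (54, 12)],
  [(62, 1)],
  [(0, 12), (1, 12), (2, 12), (5, 12), (6, 12), (9, 12), (13, 12), (20, 12), (53, 1), (56, 12)],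
  [(0, 12), (1, 12), (21, 12), (43, 12), (57, 12)],
  [(13, 1), (25, 1), (58, 12)],
  [(20, 1), (30, 1), (59, 12)],
  [(68, 1)],
  [(25, 12), (61, 12)],
  [(55, 1)],
  [(1, 1), (6, 1), (30, 12), (47, 1), (63, 12)],
  [(5, 1), (13, 1), (21, 12), (47, 1), (64, 12)],
  [(13, 12), (20, 12), (25, 12), (30, 12), (65, 12)],
  [(21, 1), (43, 1), (66, 12)],
  [(0, 1), (1, 1), (2, 1), (5, 1), (6, 1), (9, 1), (13, 1), (21, 12), (53, 12), (67, 12)],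
  [(60, 1)],
  [(0, 12), (13, 1), (21, 12), (25, 1), (43, 12), (69, 12)],
  [(1, 12), (6, 12), (43, 12), (47, 12), (70, 12)],
  [(0, 8), (1, 10), (2, 2), (3, 2), (4, 10), (5, 2), (6, 5), (7, 1), (8, 5), (9, 9), (10, 8), (12, 4), (13, 5), (14, 1), (15, 3), (16, 2), (18, 11), (19, 9), (20, 9), (23, 7), (26, 11), (28, 11), (29, 2), (30, 1), (31, 10), (33, 3), (37, 12), (38, 4), (40, 6), (42, 6), (43, 7), (44, 8), (45, 6), (47, 6), (49, 3), (50, 8), (51, 7), (52, 12), (54, 1), (57, 6), (58, 7), (59, 1), (60, 12), (64, 12), (65, 12), (67, 12), (68, 1), (70, 10), (71, 1), (73, 1)],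
  [(1, 12), (6, 12), (9, 12), (30, 1), (53, 1), (72, 12)],
  [(0, 1), (13, 12), (21, 1), (25, 12), (47, 12), (73, 12)],
  [(5, 12), (9, 12), (13, 12), (21, 1), (53, 1), (74, 12)],
  [(1, 1), (5, 1), (6, 1), (9, 1), (13, 1), (20, 1), (43, 1), (47, 1), (75, 12)],
  [(0, 12), (1, 3), (2, 5), (3, 9), (4, 5), (5, 7), (6, 3), (8, 10), (9, 11), (10, 2), (11, 5), (12, 5), (14, 11), (15, 6), (16, 9), (17, 4), (19, 10), (20, 10), (21, 2), (22, 5), (23, 8), (24, 4), (26, 7), (27, 4), (28, 5), (29, 8), (30, 1), (31, 6), (32, 4), (33, 12), (35, 1), (37, 9), (38, 8), (39, 12), (40, 9), (43, 11), (44, 2), (45, 8), (46, 5), (47, 11), (48, 8), (49, 9), (50, 1), (51, 2), (52, 5), (53, 1), (54, 1), (55, 12), (58, 12), (59, 1), (60, 12), (61, 12), (62, 1), (63, 7), (64, 12), (65, 12), (68, 1), (72, 12), (73, 1), (76, 1)],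
  [(0, 1), (1, 12), (2, 11), (3, 8), (4, 9), (5, 8), (6, 8), (7, 9), (8, 1), (9, 1), (10, 5), (11, 11), (12, 9), (13, 6), (14, 10), (15, 10), (16, 11), (18, 4), (19, 6), (20, 2), (22, 12), (23, 6), (25, 7), (26, 2), (28, 4), (29, 10), (30, 6), (31, 3), (35, 3), (37, 1), (38, 11), (40, 7), (42, 6), (43, 6), (44, 6), (45, 8), (47, 7), (48, 12), (49, 10), (50, 12), (51, 6), (54, 12), (58, 1), (59, 7), (60, 1), (61, 12), (64, 8), (66, 6), (68, 12), (73, 12), (74, 12), (75, 10), (77, 1)]]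

def R7 : SpMat := [
  [(0, 1)],
  [(1, 1)],
  [(0, 12), (2, 12)],
  [(3, 1)],
  [(3, 12), (4, 12)],
  [(0, 12), (5, 12)],
  [(1, 12), (6, 12)],
  [(7, 1)],
  [(7, 12), (8, 12)],
  [(1, 12), (9, 12)],
  [(0, 1), (1, 1), (10, 12)],
  [(0, 1), (3, 1), (11, 12)],
  [(3, 1), (7, 1), (12, 12)],
  [(25, 1)],
  [(1, 1), (7, 1), (14, 12)],
  [(0, 12), (1, 12), (3, 12), (7, 12), (15, 12)],
  [(17, 1)],
  [(16, 1)],
  [(3, 12), (18, 12)],
  [(61, 1)],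
  [(30, 1)],
  [(43, 1)],
  [(45, 1)],
  [(46, 1)],
  [(40, 1)],
  [(13, 1)],
  [(31, 1)],
  [(49, 1)],
  [(42, 1)],
  [(44, 1)],
  [(20, 1)],
  [(26, 1)],
  [(37, 1)],
  [(50, 1)],
  [(56, 1)],
  [(64, 1)],
  [(41, 1)],
  [(32, 1)],
  [(7, 12), (38, 12)],
  [(73, 1)],
  [(24, 1)],
  [(36, 1)],
  [(28, 1)],
  [(21, 1)],
  [(29, 1)],
  [(22, 1)],
  [(23, 1)],
  [(0, 1), (13, 12), (25, 12), (47, 12)],
  [(0, 1), (13, 12), (25, 12), (48, 12)],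
  [(27, 1)],
  [(33, 1)],
  [(3, 1), (19, 12), (51, 12), (61, 12)],
  [(1, 1), (20, 12), (30, 12), (52, 12)],
  [(13, 1), (25, 1), (53, 12)],
  [(0, 12), (3, 12), (22, 12), (45, 12), (54, 12)],
  [(19, 1), (55, 12), (61, 1)],
  [(34, 1)],
  [(0, 12), (1, 12), (21, 12), (43, 12), (57, 12)],
  [(13, 1), (25, 1), (58, 12)],
  [(20, 1), (30, 1), (59, 12)],
  [(22, 1), (45, 1), (60, 12)],
  [(19, 1)],
  [(13, 12), (19, 12), (25, 12), (61, 12), (62, 12)],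
  [(0, 1), (1, 1), (3, 1), (7, 1), (13, 12), (19, 12), (20, 12), (25, 12), (28, 12), (30, 12), (42, 12), (61, 12), (63, 12)],
  [(35, 1)],
  [(13, 12), (20, 12), (25, 12), (30, 12), (65, 12)],
  [(21, 1), (43, 1), (66, 12)],
  [(23, 1), (24, 1), (28, 1), (29, 1), (32, 12), (33, 12), (34, 12), (37, 12), (40, 1), (42, 1), (44, 1), (46, 1), (50, 12), (56, 12), (67, 12)],
  [(0, 12), (13, 1), (22, 12), (25, 1), (45, 12), (68, 12)],
  [(0, 12), (13, 1), (21, 12), (25, 1), (43, 12), (69, 12)],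
  [(0, 12), (1, 12), (3, 12), (7, 12), (13, 1), (19, 1), (21, 12), (23, 12), (25, 1), (43, 12), (46, 12), (61, 1), (70, 12)],
  [(0, 1), (3, 1), (23, 12), (24, 12), (28, 12), (29, 12), (32, 1), (33, 1), (36, 12), (37, 1), (40, 12), (41, 12), (42, 12), (44, 12), (46, 12), (50, 1), (71, 12)],
  [(0, 12), (1, 12), (3, 12), (7, 12), (13, 1), (20, 1), (22, 12), (25, 1), (29, 12), (30, 1), (44, 12), (45, 12), (72, 12)],
  [(39, 1)],
  [(0, 1), (1, 1), (23, 12), (24, 12), (28, 12), (29, 12), (32, 1), (34, 1), (35, 12), (37, 1), (40, 12), (42, 12), (44, 12), (46, 12), (56, 1), (64, 12), (74, 12)],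
  [(20, 1), (21, 1), (23, 1), (28, 1), (30, 1), (42, 1), (43, 1), (46, 1), (75, 12)],
  [(19, 1), (22, 1), (28, 1), (29, 1), (42, 1), (44, 1), (45, 1), (61, 1), (76, 12)],
  [(0, 11), (1, 12), (3, 12), (13, 1), (19, 1), (20, 1), (23, 1), (24, 1), (25, 1), (28, 2), (29, 1), (30, 1), (32, 12), (35, 1), (36, 1), (37, 12), (40, 1), (41, 1), (42, 2), (44, 1), (46, 1), (61, 1), (64, 1), (77, 12)]]

def R8 : SpMat := [
  [(5, 1)],
  [(9, 1)],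
  [(13, 1)],
  [(18, 1)],
  [(19, 1)],
  [(0, 1)],
  [(20, 1)],
  [(38, 1)],
  [(28, 1)],
  [(1, 1)],
  [(21, 1)],
  [(22, 1)],
  [(23, 1)],
  [(2, 1)],
  [(29, 1)],
  [(24, 1)],
  [(26, 1)],
  [(27, 1)],
  [(3, 1)],
  [(4, 1)],
  [(6, 1)],
  [(10, 1)],
  [(11, 1)],
  [(12, 1)],
  [(15, 1)],
  [(0, 1), (5, 1), (25, 12)],
  [(16, 1)],
  [(17, 1)],
  [(8, 1)],
  [(14, 1)],
  [(1, 1), (9, 1), (30, 12)],
  [(49, 1)],
  [(63, 1)],
  [(70, 1)],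
  [(72, 1)],
  [(75, 1)],
  [(76, 1)],
  [(2, 1), (4, 1), (6, 1), (8, 1), (13, 1), (19, 1), (20, 1), (28, 1), (37, 12)],
  [(7, 1)],
  [(0, 1), (1, 10), (2, 1), (3, 4), (4, 9), (5, 10), (6, 11), (7, 9), (8, 8), (9, 8), (10, 5), (11, 2), (12, 11), (13, 8), (14, 5), (15, 2), (16, 7), (17, 6), (18, 6), (19, 4), (20, 4), (21, 8), (22, 5), (23, 2), (24, 11), (25, 5), (26, 6), (27, 7), (28, 11), (29, 2), (30, 11), (31, 7), (32, 12), (33, 1), (35, 12), (37, 1), (39, 1), (40, 2), (42, 1), (43, 12), (44, 11), (45, 2), (46, 8), (47, 9), (48, 12), (49, 6), (50, 12), (51, 4), (52, 1), (53, 12), (54, 11), (55, 1), (57, 12), (58, 1), (59, 12), (60, 2), (62, 12), (63, 1), (64, 1), (65, 1), (66, 1), (68, 11), (69, 12), (70, 12), (73, 12), (75, 1)],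
  [(0, 1), (1, 1), (3, 1), (5, 1), (7, 1), (9, 1), (18, 1), (38, 1), (40, 12)],
  [(0, 1), (1, 1), (4, 12), (5, 1), (8, 12), (9, 1), (11, 12), (14, 12), (19, 12), (22, 12), (28, 12), (29, 12), (41, 12)],
  [(7, 1), (38, 1), (42, 12)],
  [(0, 12), (1, 12), (5, 12), (9, 12), (43, 12)],
  [(1, 12), (7, 12), (9, 12), (38, 12), (44, 12)],
  [(0, 12), (3, 12), (5, 12), (18, 12), (45, 12)],
  [(3, 12), (7, 12), (18, 12), (38, 12), (46, 12)],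
  [(2, 12), (6, 12), (13, 12), (20, 12), (47, 12)],
  [(2, 12), (4, 12), (13, 12), (19, 12), (48, 12)],
  [(31, 1)],
  [(0, 12), (2, 12), (3, 12), (4, 12), (5, 12), (10, 1), (12, 1), (13, 12), (18, 12), (19, 12), (21, 1), (23, 1), (50, 12)],
  [(4, 12), (8, 12), (19, 12), (28, 12), (51, 12)],
  [(6, 12), (8, 12), (20, 12), (28, 12), (52, 12)],
  [(0, 1), (1, 1), (2, 1), (5, 1), (6, 1), (9, 1), (13, 1), (20, 1), (53, 12)],
  [(11, 12), (14, 12), (22, 12), (29, 12), (54, 12)],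
  [(3, 1), (4, 1), (7, 1), (8, 1), (18, 1), (19, 1), (28, 1), (38, 1), (55, 12)],
  [(0, 12), (1, 12), (2, 12), (5, 12), (6, 12), (9, 12), (11, 1), (13, 12), (14, 1), (20, 12), (22, 1), (29, 1), (56, 12)],
  [(10, 12), (12, 12), (21, 12), (23, 12), (57, 12)],
  [(0, 1), (2, 1), (3, 1), (4, 1), (5, 1), (13, 1), (18, 1), (19, 1), (58, 12)],
  [(1, 1), (6, 1), (7, 1), (8, 1), (9, 1), (20, 1), (28, 1), (38, 1), (59, 12)],
  [(0, 12), (1, 12), (3, 12), (5, 12), (7, 12), (9, 12), (11, 1), (14, 1), (18, 12), (22, 1), (29, 1), (38, 12), (60, 12)],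
  [(3, 1), (18, 1), (61, 12)],
  [(0, 12), (1, 12), (2, 12), (3, 12), (4, 12), (5, 12), (6, 12), (7, 12), (8, 12), (9, 12), (13, 12), (18, 12), (19, 12), (20, 12), (28, 12), (38, 12), (62, 12)],
  [(32, 1)],
  [(0, 1), (3, 1), (5, 1), (6, 12), (8, 12), (10, 12), (12, 12), (18, 1), (20, 12), (21, 12), (23, 12), (28, 12), (64, 12)],
  [(0, 12), (1, 12), (2, 12), (3, 12), (4, 12), (5, 12), (6, 12), (7, 12), (8, 12), (9, 12), (13, 12), (18, 12), (19, 12), (20, 12), (28, 12), (38, 12), (65, 12)],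
  [(0, 12), (1, 12), (3, 12), (5, 12), (7, 12), (9, 12), (10, 1), (12, 1), (18, 12), (21, 1), (23, 1), (38, 12), (66, 12)],
  [(0, 2), (1, 1), (2, 1), (3, 1), (5, 2), (9, 1), (10, 12), (11, 12), (13, 1), (15, 1), (18, 1), (21, 12), (22, 12), (24, 1), (67, 12)],
  [(0, 1), (1, 1), (2, 1), (3, 1), (5, 1), (6, 1), (7, 1), (9, 1), (11, 12), (13, 1), (14, 12), (18, 1), (20, 1), (22, 12), (29, 12), (38, 1), (68, 12)],
  [(0, 1), (1, 1), (2, 1), (3, 1), (4, 1), (5, 1), (7, 1), (9, 1), (10, 12), (12, 12), (13, 1), (18, 1), (19, 1), (21, 12), (23, 12), (38, 1), (69, 12)],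
  [(33, 1)],
  [(0, 12), (1, 12), (4, 1), (5, 12), (9, 12), (11, 1), (12, 12), (15, 12), (19, 1), (22, 1), (23, 12), (24, 12), (71, 12)],
  [(34, 1)],
  [(6, 1), (8, 1), (10, 1), (12, 1), (20, 1), (21, 1), (23, 1), (28, 1), (73, 12)],
  [(0, 12), (3, 12), (5, 12), (6, 1), (10, 1), (14, 12), (15, 12), (18, 12), (20, 1), (21, 1), (24, 12), (29, 12), (74, 12)],
  [(35, 1)],
  [(36, 1)],
  [(8, 1), (12, 1), (14, 1), (15, 1), (23, 1), (24, 1), (28, 1), (29, 1), (77, 12)]]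

/-- the matrices of the letters -/
def Rs : ℕ → SpMat
  | 1 => R1
  | 2 => R2
  | 3 => R3
  | 4 => R4
  | 5 => R5
  | 6 => R6
  | 7 => R7
  | 8 => R8
  | _ => R0

theorem Rs_length : ∀ g, (Rs g).length = 78
  | 0 => by decide
  | 1 => by decide
  | 2 => by decide
  | 3 => by decide
  | 4 => by decide
  | 5 => by decide
  | 6 => by decide
  | 7 => by decide
  | 8 => by decide
  | (_ + 9) => by show R0.length = 78; decide

end Cfsg.Agent.Lib.Helper4.Fi78
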