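import Mathlib
import Cfsg.Agent.Lib.Helper4.Fi78Data

/-! Kernel checks (generated): the relators of Fi22 hold for the 78 × 78 matrices, part 0. -/

namespace Cfsg.Agent.Lib.Helper4.Fi78

set_option maxRecDepth 100000
set_option Elab.async false

theorem c_0 : chkWord Rs [0, 0] = true := by decide +kernel
theorem c_1 : chkWord Rs [0, 1, 0, 1, 0, 1] = true := by decide +kernel
theorem c_2 : chkWord Rs [0, 2, 0, 2] = true := by decide +kernel
theorem c_3 : chkWord Rs [0, 3, 0, 3] = true := by decide +kernel
theorem c_4 : chkWord Rs [0, 4, 0, 4] = true := by decide +kernel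
theorem c_5 : chkWord Rs [0, 7, 0, 7] = true := by decide +kernel
theorem c_6 : chkWord Rs [0, 5, 0, 5] = true := by decide +kernel
theorem c_7 : chkWord Rs [0, 6, 0, 6] = true := by decide +kernel
theorem c_8 : chkWord Rs [0, 8, 0, 8] = true := by decide +kernel
theorem c_9 : chkWord Rs [1, 1] = true := by decide +kernel
theorem c_10 : chkWord Rs [1, 2, 1, 2, 1, 2] = true := by decide +kernel
theorem c_11 : chkWord Rs [1, 3, 1, 3] = true := by decide +kernel
theorem c_12 : chkWord Rs [1, 4, 1, 4] = true := by decide +kernel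
theorem c_13 : chkWord Rs [1, 7, 1, 7] = true := by decide +kernel
theorem c_14 : chkWord Rs [1, 5, 1, 5] = true := by decide +kernel
theorem c_15 : chkWord Rs [1, 6, 1, 6] = true := by decide +kernel
theorem c_16 : chkWord Rs [1, 8, 1, 8] = true := by decide +kernel
theorem c_17 : chkWord Rs [2, 2] = true := by decide +kernel
theorem c_18 : chkWord Rs [2, 3, 2, 3, 2, 3] = true := by decide +kernel
theorem c_19 : chkWord Rs [2, 4, 2, 4] = true := by decide +kernel
theorem c_20 : chkWord Rs [2, 7, 2, 7] = true := by decide +kernel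
theorem c_21 : chkWord Rs [2, 5, 2, 5] = true := by decide +kernel
theorem c_22 : chkWord Rs [2, 6, 2, 6] = true := by decide +kernel
theorem c_23 : chkWord Rs [2, 8, 2, 8] = true := by decide +kernel
theorem c_24 : chkWord Rs [3, 3] = true := by decide +kernel

end Cfsg.Agent.Lib.Helper4.Fi78
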