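import Mathlib
import Cfsg.Agent.Lib.Helper4.Fi78Data

/-! Kernel checks (generated): the relators of Fi22 hold for the 78 × 78 matrices, part 1. -/

namespace Cfsg.Agent.Lib.Helper4.Fi78

set_option maxRecDepth 100000
set_option Elab.async false

theorem c_25 : chkWord Rs [3, 4, 3, 4, 3, 4] = true := by decide +kernel
theorem c_26 : chkWord Rs [3, 7, 3, 7, 3, 7] = true := by decide +kernel
theorem c_27 : chkWord Rs [3, 5, 3, 5] = true := by decide +kernel
theorem c_28 : chkWord Rs [3, 6, 3, 6] = true := by decide +kernel
theorem c_29 : chkWord Rs [3, 8, 3, 8] = true := by decide +kernel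
theorem c_30 : chkWord Rs [4, 4] = true := by decide +kernel
theorem c_31 : chkWord Rs [4, 7, 4, 7] = true := by decide +kernel
theorem c_32 : chkWord Rs [4, 5, 4, 5, 4, 5] = true := by decide +kernel
theorem c_33 : chkWord Rs [4, 6, 4, 6] = true := by decide +kernel
theorem c_34 : chkWord Rs [4, 8, 4, 8] = true := by decide +kernel
theorem c_35 : chkWord Rs [7, 7] = true := by decide +kernel
theorem c_36 : chkWord Rs [7, 5, 7, 5] = true := by decide +kernel
theorem c_37 : chkWord Rs [7, 6, 7, 6] = true := by decide +kernel
theorem c_38 : chkWord Rs [7, 8, 7, 8, 7, 8] = true := by decide +kernel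
theorem c_39 : chkWord Rs [5, 5] = true := by decide +kernel
theorem c_40 : chkWord Rs [5, 6, 5, 6, 5, 6] = true := by decide +kernel
theorem c_41 : chkWord Rs [5, 8, 5, 8] = true := by decide +kernel
theorem c_42 : chkWord Rs [6, 6] = true := by decide +kernel
theorem c_43 : chkWord Rs [6, 8, 6, 8] = true := by decide +kernel
theorem c_44 : chkWord Rs [8, 8] = true := by decide +kernel

end Cfsg.Agent.Lib.Helper4.Fi78
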