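import Mathlib
import Cfsg.Agent.Lib.Helper4.Fi78Lib

/-! Checking a relator on a range of unit vectors, so that long relators can be split. -/

namespace Cfsg.Agent.Lib.Helper4.Fi78

open Cfsg.Agent.Lib.Helper4.TC

/-- the check of a relator on the unit vectors `lo ≤ j < lo + n` -/
def chkWordR (Rs : ℕ → SpMat) (w : List ℕ) (lo n : ℕ) : Bool :=
  allRange (fun j => beqL (applyWord Rs w (unitL 78 j)) (unitL 78 j)) lo n

theorem chkWordR_spec {Rs : ℕ → SpMat} {w : List ℕ} {lo n : ℕ} (h : chkWordR Rs w lo n = true)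
    (j : ℕ) (h1 : lo ≤ j) (h2 : j < lo + n) :
    beqL (applyWord Rs w (unitL 78 j)) (unitL 78 j) = true :=
  allRange_eq_true.1 h j h1 h2

theorem chkWord_of_all (Rs : ℕ → SpMat) (w : List ℕ)
    (h : ∀ j, j < 78 → beqL (applyWord Rs w (unitL 78 j)) (unitL 78 j) = true) :
    chkWord Rs w = true := by
  rw [chkWord, allBelow_eq_true]
  exact h

end Cfsg.Agent.Lib.Helper4.Fi78
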