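import Mathlib
import Cfsg.Agent.Lib.Helper4.Fi78Data
import Cfsg.Agent.Lib.Helper4.Fi78Lib2

/-! Kernel checks (generated): a long relator of Fi22 holds for the 78 × 78 matrices, part 3. -/

namespace Cfsg.Agent.Lib.Helper4.Fi78

set_option maxRecDepth 100000
set_option Elab.async false

/-- the relator -/
def w_46 : List ℕ := [0, 1, 2, 3, 4, 5, 7, 0, 1, 2, 3, 4, 5, 7, 0, 1, 2, 3, 4, 5, 7, 0, 1, 2, 3, 4, 5, 7, 0, 1, 2, 3, 4, 5, 7, 0, 1, 2, 3, 4, 5, 7, 0, 1, 2, 3, 4, 5, 7, 0, 1, 2, 3, 4, 5, 7, 0, 1, 2, 3, 4, 5, 7]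

theorem c_46_0 : chkWordR Rs w_46 0 6 = true := by decide +kernel
theorem c_46_1 : chkWordR Rs w_46 6 6 = true := by decide +kernel
theorem c_46_2 : chkWordR Rs w_46 12 6 = true := by decide +kernel
theorem c_46_3 : chkWordR Rs w_46 18 6 = true := by decide +kernel
theorem c_46_4 : chkWordR Rs w_46 24 6 = true := by decide +kernel
theorem c_46_5 : chkWordR Rs w_46 30 6 = true := by decide +kernel
theorem c_46_6 : chkWordR Rs w_46 36 6 = true := by decide +kernel
theorem c_46_7 : chkWordR Rs w_46 42 6 = true := by decide +kernel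
theorem c_46_8 : chkWordR Rs w_46 48 6 = true := by decide +kernel
theorem c_46_9 : chkWordR Rs w_46 54 6 = true := by decide +kernel
theorem c_46_10 : chkWordR Rs w_46 60 6 = true := by decide +kernel
theorem c_46_11 : chkWordR Rs w_46 66 6 = true := by decide +kernel
theorem c_46_12 : chkWordR Rs w_46 72 6 = true := by decide +kernel

theorem c_46 : chkWord Rs [0, 1, 2, 3, 4, 5, 7, 0, 1, 2, 3, 4, 5, 7, 0, 1, 2, 3, 4, 5, 7, 0, 1, 2, 3, 4, 5, 7, 0, 1, 2, 3, 4, 5, 7, 0, 1, 2, 3, 4, 5, 7, 0, 1, 2, 3, 4, 5, 7, 0, 1, 2, 3, 4, 5, 7, 0, 1, 2, 3, 4, 5, 7] = true := by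
  apply chkWord_of_all Rs w_46
  intro j hj
  interval_cases j
  · exact chkWordR_spec c_46_0 0 (by norm_num) (by norm_num)
  · exact chkWordR_spec c_46_0 1 (by norm_num) (by norm_num)
  · exact chkWordR_spec c_46_0 2 (by norm_num) (by norm_num)
  · exact chkWordR_spec c_46_0 3 (by norm_num) (by norm_num)
  · exact chkWordR_spec c_46_0 4 (by norm_num) (by norm_num)
  · exact chkWordR_spec c_46_0 5 (by norm_num) (by norm_num)
  · exact chkWordR_spec c_46_1 6 (by norm_num) (by norm_num)
  · exact chkWordR_spec c_46_1 7 (by norm_num) (by norm_num)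
  · exact chkWordR_spec c_46_1 8 (by norm_num) (by norm_num)
  · exact chkWordR_spec c_46_1 9 (by norm_num) (by norm_num)
  · exact chkWordR_spec c_46_1 10 (by norm_num) (by norm_num)
  · exact chkWordR_spec c_46_1 11 (by norm_num) (by norm_num)
  · exact chkWordR_spec c_46_2 12 (by norm_num) (by norm_num)
  · exact chkWordR_spec c_46_2 13 (by norm_num) (by norm_num)
  · exact chkWordR_spec c_46_2 14 (by norm_num) (by norm_num)
  · exact chkWordR_spec c_46_2 15 (by norm_num) (by norm_num)
  · exact chkWordR_spec c_46_2 16 (by norm_num) (by norm_num)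
  · exact chkWordR_spec c_46_2 17 (by norm_num) (by norm_num)
  · exact chkWordR_spec c_46_3 18 (by norm_num) (by norm_num)
  · exact chkWordR_spec c_46_3 19 (by norm_num) (by norm_num)
  · exact chkWordR_spec c_46_3 20 (by norm_num) (by norm_num)
  · exact chkWordR_spec c_46_3 21 (by norm_num) (by norm_num)
  · exact chkWordR_spec c_46_3 22 (by norm_num) (by norm_num)
  · exact chkWordR_spec c_46_3 23 (by norm_num) (by norm_num)
  · exact chkWordR_spec c_46_4 24 (by norm_num) (by norm_num)
  · exact chkWordR_spec c_46_4 25 (by norm_num) (by norm_num)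
  · exact chkWordR_spec c_46_4 26 (by norm_num) (by norm_num)
  · exact chkWordR_spec c_46_4 27 (by norm_num) (by norm_num)
  · exact chkWordR_spec c_46_4 28 (by norm_num) (by norm_num)
  · exact chkWordR_spec c_46_4 29 (by norm_num) (by norm_num)
  · exact chkWordR_spec c_46_5 30 (by norm_num) (by norm_num)
  · exact chkWordR_spec c_46_5 31 (by norm_num) (by norm_num)
  · exact chkWordR_spec c_46_5 32 (by norm_num) (by norm_num)
  · exact chkWordR_spec c_46_5 33 (by norm_num) (by norm_num)
  · exact chkWordR_spec c_46_5 34 (by norm_num) (by norm_num)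
  · exact chkWordR_spec c_46_5 35 (by norm_num) (by norm_num)
  · exact chkWordR_spec c_46_6 36 (by norm_num) (by norm_num)
  · exact chkWordR_spec c_46_6 37 (by norm_num) (by norm_num)
  · exact chkWordR_spec c_46_6 38 (by norm_num) (by norm_num)
  · exact chkWordR_spec c_46_6 39 (by norm_num) (by norm_num)
  · exact chkWordR_spec c_46_6 40 (by norm_num) (by norm_num)
  · exact chkWordR_spec c_46_6 41 (by norm_num) (by norm_num)
  · exact chkWordR_spec c_46_7 42 (by norm_num) (by norm_num)
  · exact chkWordR_spec c_46_7 43 (by norm_num) (by norm_num)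
  · exact chkWordR_spec c_46_7 44 (by norm_num) (by norm_num)
  · exact chkWordR_spec c_46_7 45 (by norm_num) (by norm_num)
  · exact chkWordR_spec c_46_7 46 (by norm_num) (by norm_num)
  · exact chkWordR_spec c_46_7 47 (by norm_num) (by norm_num)
  · exact chkWordR_spec c_46_8 48 (by norm_num) (by norm_num)
  · exact chkWordR_spec c_46_8 49 (by norm_num) (by norm_num)
  · exact chkWordR_spec c_46_8 50 (by norm_num) (by norm_num)
  · exact chkWordR_spec c_46_8 51 (by norm_num) (by norm_num)
  · exact chkWordR_spec c_46_8 52 (by norm_num) (by norm_num)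
  · exact chkWordR_spec c_46_8 53 (by norm_num) (by norm_num)
  · exact chkWordR_spec c_46_9 54 (by norm_num) (by norm_num)
  · exact chkWordR_spec c_46_9 55 (by norm_num) (by norm_num)
  · exact chkWordR_spec c_46_9 56 (by norm_num) (by norm_num)
  · exact chkWordR_spec c_46_9 57 (by norm_num) (by norm_num)
  · exact chkWordR_spec c_46_9 58 (by norm_num) (by norm_num)
  · exact chkWordR_spec c_46_9 59 (by norm_num) (by norm_num)
  · exact chkWordR_spec c_46_10 60 (by norm_num) (by norm_num)
  · exact chkWordR_spec c_46_10 61 (by norm_num) (by norm_num)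
  · exact chkWordR_spec c_46_10 62 (by norm_num) (by norm_num)
  · exact chkWordR_spec c_46_10 63 (by norm_num) (by norm_num)
  · exact chkWordR_spec c_46_10 64 (by norm_num) (by norm_num)
  · exact chkWordR_spec c_46_10 65 (by norm_num) (by norm_num)
  · exact chkWordR_spec c_46_11 66 (by norm_num) (by norm_num)
  · exact chkWordR_spec c_46_11 67 (by norm_num) (by norm_num)
  · exact chkWordR_spec c_46_11 68 (by norm_num) (by norm_num)
  · exact chkWordR_spec c_46_11 69 (by norm_num) (by norm_num)
  · exact chkWordR_spec c_46_11 70 (by norm_num) (by norm_num)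
  · exact chkWordR_spec c_46_11 71 (by norm_num) (by norm_num)
  · exact chkWordR_spec c_46_12 72 (by norm_num) (by norm_num)
  · exact chkWordR_spec c_46_12 73 (by norm_num) (by norm_num)
  · exact chkWordR_spec c_46_12 74 (by norm_num) (by norm_num)
  · exact chkWordR_spec c_46_12 75 (by norm_num) (by norm_num)
  · exact chkWordR_spec c_46_12 76 (by norm_num) (by norm_num)
  · exact chkWordR_spec c_46_12 77 (by norm_num) (by norm_num)

end Cfsg.Agent.Lib.Helper4.Fi78
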