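import Mathlib
import Cfsg.Agent.Lib.Helper4.TCP_Fi22
import Cfsg.Agent.Lib.Helper4.Fi78Chk0
import Cfsg.Agent.Lib.Helper4.Fi78Chk1
import Cfsg.Agent.Lib.Helper4.Fi78Chk2
import Cfsg.Agent.Lib.Helper4.Fi78Chk3
import Cfsg.Agent.Lib.Helper4.Fi78Chk4

/-! All relators of Fi22 hold for the 78 × 78 matrices (generated). -/

namespace Cfsg.Agent.Lib.Helper4.Fi78

open Cfsg.Agent.Lib.Helper4.TC

set_option maxRecDepth 100000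

/-- the relator words, written out -/
def wordsList : List (List ℕ) := [
  [0, 0],
  [0, 1, 0, 1, 0, 1],
  [0, 2, 0, 2],
  [0, 3, 0, 3],
  [0, 4, 0, 4],
  [0, 7, 0, 7],
  [0, 5, 0, 5],
  [0, 6, 0, 6],
  [0, 8, 0, 8],
  [1, 1],
  [1, 2, 1, 2, 1, 2],
  [1, 3, 1, 3],
  [1, 4, 1, 4],
  [1, 7, 1, 7],
  [1, 5, 1, 5],
  [1, 6, 1, 6],
  [1, 8, 1, 8],
  [2, 2],
  [2, 3, 2, 3, 2, 3],
  [2, 4, 2, 4],
  [2, 7, 2, 7],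
  [2, 5, 2, 5],
  [2, 6, 2, 6],
  [2, 8, 2, 8],
  [3, 3],
  [3, 4, 3, 4, 3, 4],
  [3, 7, 3, 7, 3, 7],
  [3, 5, 3, 5],
  [3, 6, 3, 6],
  [3, 8, 3, 8],
  [4, 4],
  [4, 7, 4, 7],
  [4, 5, 4, 5, 4, 5],
  [4, 6, 4, 6],
  [4, 8, 4, 8],
  [7, 7],
  [7, 5, 7, 5],
  [7, 6, 7, 6],
  [7, 8, 7, 8, 7, 8],
  [5, 5],
  [5, 6, 5, 6, 5, 6],
  [5, 8, 5, 8],
  [6, 6],
  [6, 8, 6, 8],
  [8, 8],
  [3, 2, 1, 3, 4, 5, 3, 7, 8, 3, 2, 1, 3, 4, 5, 3, 7, 8, 3, 2, 1, 3, 4, 5, 3, 7, 8, 3, 2, 1, 3, 4, 5, 3, 7, 8, 3, 2, 1, 3, 4, 5, 3, 7, 8, 3, 2, 1, 3, 4, 5, 3, 7, 8, 3, 2, 1, 3, 4, 5, 3, 7, 8, 3, 2, 1, 3, 4, 5, 3, 7, 8, 3, 2, 1, 3, 4, 5, 3, 7, 8, 3, 2, 1, 3, 4, 5, 3, 7, 8],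
  [0, 1, 2, 3, 4, 5, 7, 0, 1, 2, 3, 4, 5, 7, 0, 1, 2, 3, 4, 5, 7, 0, 1, 2, 3, 4, 5, 7, 0, 1, 2, 3, 4, 5, 7, 0, 1, 2, 3, 4, 5, 7, 0, 1, 2, 3, 4, 5, 7, 0, 1, 2, 3, 4, 5, 7, 0, 1, 2, 3, 4, 5, 7],
  [1, 2, 3, 4, 5, 6, 7, 1, 2, 3, 4, 5, 6, 7, 1, 2, 3, 4, 5, 6, 7, 1, 2, 3, 4, 5, 6, 7, 1, 2, 3, 4, 5, 6, 7, 1, 2, 3, 4, 5, 6, 7, 1, 2, 3, 4, 5, 6, 7, 1, 2, 3, 4, 5, 6, 7, 1, 2, 3, 4, 5, 6, 7]]

theorem real_eq : PFi22.P.real = wordsList := by decide +kernel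

theorem all_chk : ∀ L ∈ PFi22.P.real, chkWord Rs L = true := by
  intro L hL
  rw [real_eq] at hL
  simp only [wordsList, List.mem_cons, List.mem_nil_iff, or_false] at hL
  rcases hL with rfl | rfl | rfl | rfl | rfl | rfl | rfl | rfl | rfl | rfl | rfl | rfl | rfl | rfl | rfl | rfl | rfl | rfl | rfl | rfl | rfl | rfl | rfl | rfl | rfl | rfl | rfl | rfl | rfl | rfl | rfl | rfl | rfl | rfl | rfl | rfl | rfl | rfl | rfl | rfl | rfl | rfl | rfl | rfl | rfl | rfl | rfl | rfl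
  · exact c_0
  · exact c_1
  · exact c_2
  · exact c_3
  · exact c_4
  · exact c_5
  · exact c_6
  · exact c_7
  · exact c_8
  · exact c_9
  · exact c_10
  · exact c_11
  · exact c_12
  · exact c_13
  · exact c_14
  · exact c_15
  · exact c_16
  · exact c_17
  · exact c_18
  · exact c_19
  · exact c_20
  · exact c_21
  · exact c_22
  · exact c_23
  · exact c_24
  · exact c_25
  · exact c_26
  · exact c_27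
  · exact c_28
  · exact c_29
  · exact c_30
  · exact c_31
  · exact c_32
  · exact c_33
  · exact c_34
  · exact c_35
  · exact c_36
  · exact c_37
  · exact c_38
  · exact c_39
  · exact c_40
  · exact c_41
  · exact c_42
  · exact c_43
  · exact c_44
  · exact c_45
  · exact c_46
  · exact c_47

end Cfsg.Agent.Lib.Helper4.Fi78
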