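import Mathlib
import Cfsg.Prelude.Def_Spor_Fi22
import Cfsg.Agent.Lib.Helper4.TC20
import Cfsg.Agent.Lib.Helper4.TCP_Fi22
import Cfsg.Agent.Lib.Helper4.Fi78ChkAll
import Cfsg.Agent.S1696

/-!
The presented group Fi22 embeds in `GL (Fin 78) (ZMod 13)`: the nine generators go to explicit
involutory matrices satisfying the relators, and the presented group is simple.
-/

namespace Cfsg.Agent.Lib.Helper4.Fi78

open Cfsg.Agent.Lib.Helper4.TC Cfsg.Agent.Lib.Helper4.TC.Log

set_option maxRecDepth 100000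

theorem wordM_real : ∀ L ∈ PFi22.P.real, wordM Rs L = 1 :=
  fun L hL => wordM_eq_one Rs Rs_length L (all_chk L hL)

theorem wordM_cons (x : ℕ) (L : List ℕ) : wordM Rs (x :: L) = matOf (Rs x) * wordM Rs L := by
  simp [wordM]

theorem sq_mem' : ∀ l, l < 9 → [l, l] ∈ PFi22.P.real := by decide +kernel

theorem sq_lt (l : ℕ) (hl : l < 9) : matOf (Rs l) * matOf (Rs l) = 1 := by
  have h := wordM_real [l, l] (sq_mem' l hl)
  rw [wordM_cons, wordM_cons] at h
  simpa [wordM] using h

theorem sq (l : ℕ) : matOf (Rs l) * matOf (Rs l) = 1 := by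
  by_cases hl : l < 9
  · exact sq_lt l hl
  · obtain ⟨n, rfl⟩ : ∃ n, l = n + 9 := ⟨l - 9, by omega⟩
    exact sq_lt 0 (by norm_num)

/-- the images of the letters -/
noncomputable def gU (l : ℕ) : GL (Fin 78) (ZMod 13) := ⟨matOf (Rs l), matOf (Rs l), sq l, sq l⟩

theorem coe_wordP (L : List ℕ) :
    ((wordP gU L : GL (Fin 78) (ZMod 13)) : Matrix (Fin 78) (Fin 78) (ZMod 13)) = wordM Rs L := by
  induction L with
  | nil => simp [wordM]
  | cons x L ih =>
    rw [wordP_cons, Units.val_mul, ih, wordM_cons]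
    rfl

theorem exists_hom : ∃ φ : PFi22.P.Grp →* GL (Fin 78) (ZMod 13),
    ∀ l, l < PFi22.P.k → φ (PFi22.P.gR l) = gU l := by
  apply exists_hom_of_letters PFi22.P PFi22.valid gU
  · intro l _
    apply Units.ext
    show matOf (Rs l) * matOf (Rs (PFi22.P.invR l)) = 1
    exact sq l
  · intro L hL
    apply Units.ext
    rw [coe_wordP, wordM_real L hL]
    rfl

theorem gU_ne_one : gU 0 ≠ 1 := by
  intro h
  have h1 : matOf (Rs 0) = 1 := congrArg Units.val h
  have h2 := congrFun (congrFun h1 ⟨1, by norm_num⟩) ⟨0, by norm_num⟩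
  rw [Matrix.one_apply_ne (by decide)] at h2
  revert h2
  show rowVal (R0.getD 1 []) 0 = 0 → False
  simp [rowVal, R0]
  decide

theorem main_P : ∃ f : PFi22.P.Grp →* GL (Fin 78) (ZMod 13), Function.Injective f := by
  obtain ⟨φ, hφ⟩ := exists_hom
  have hs : IsSimpleGroup PFi22.P.Grp := Cfsg.Agent.S1696.result.1
  refine ⟨φ, ?_⟩
  rw [← MonoidHom.ker_eq_bot_iff]
  rcases hs.eq_bot_or_eq_top_of_normal φ.ker inferInstance with h | h
  · exact h
  · exfalso
    have : PFi22.P.gR 0 ∈ φ.ker := by rw [h]; exact Subgroup.mem_top _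
    rw [MonoidHom.mem_ker, hφ 0 (by show 0 < 9; norm_num)] at this
    exact gU_ne_one this

theorem main : ∃ f : Cfsg.Spor.Fi22 →* GL (Fin 78) (ZMod 13), Function.Injective f := main_P

end Cfsg.Agent.Lib.Helper4.Fi78
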