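import Mathlib

namespace Cfsg.Agent.Lib.Helper4.FieldAut

section Fixed

variable {F : Type*} [Field F] [Fintype F]

theorem mem_fixed_iff (σ : F ≃+* F) (a : F) :
    a ∈ FixedPoints.subfield (Subgroup.zpowers σ) F ↔ σ a = a := by
  change a ∈ MulAction.fixedPoints (Subgroup.zpowers σ) F ↔ _
  rw [MulAction.mem_fixedPoints]
  constructor
  · intro h
    exact h ⟨σ, Subgroup.mem_zpowers σ⟩
  · intro h g
    obtain ⟨g, hg⟩ := g
    change g a = a
    have hnat : ∀ k : ℕ, (σ ^ k) a = a := by
      intro k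
      induction k with
      | zero => rfl
      | succ k ih => rw [pow_succ', RingAut.mul_apply, ih, h]
    have : ∀ τ ∈ Subgroup.zpowers σ, τ a = a := by
      intro τ hτ
      rw [Subgroup.mem_zpowers_iff] at hτ
      obtain ⟨k, rfl⟩ := hτ
      obtain ⟨m, rfl | rfl⟩ := Int.eq_nat_or_neg k
      · rw [zpow_natCast]; exact hnat m
      · rw [zpow_neg, zpow_natCast]
        have := congrArg ((σ ^ m)⁻¹ : F ≃+* F) (hnat m)
        rw [← RingAut.mul_apply, inv_mul_cancel, RingAut.one_apply] at this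
        exact this.symm
    exact this g hg

theorem card_fixed {q₀ r : ℕ} (hr : r.Prime) (hF : Fintype.card F = q₀ ^ r) (σ : F ≃+* F)
    (hσ : orderOf σ = r) :
    Nat.card (FixedPoints.subfield (Subgroup.zpowers σ) F) = q₀ := by
  classical
  haveI : Finite (F ≃+* F) := Finite.of_injective (fun e => (e : F → F)) DFunLike.coe_injective
  haveI : Fintype (Subgroup.zpowers σ) := Fintype.ofFinite _
  haveI : Fintype (FixedPoints.subfield (Subgroup.zpowers σ) F) := Fintype.ofFinite _
  have h1 := FixedPoints.finrank_eq_card (Subgroup.zpowers σ) F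
  have h2 : Fintype.card (Subgroup.zpowers σ) = r := by
    rw [← Nat.card_eq_fintype_card, Nat.card_zpowers, hσ]
  have h3 := Module.card_eq_pow_finrank (K := FixedPoints.subfield (Subgroup.zpowers σ) F)
    (V := F)
  rw [h1, h2, hF] at h3
  rw [Nat.card_eq_fintype_card]
  exact (Nat.pow_left_injective hr.ne_zero h3).symm

end Fixed

section H90

variable {F : Type*} [Field F]

/-- partial norms -/
def pn (σ : F ≃+* F) (c : F) : ℕ → F
  | 0 => 1
  | (k+1) => c * σ (pn σ c k)

theorem hilbert90 (σ : F ≃+* F) {r : ℕ} (hr : 0 < r) (hσ : orderOf σ = r) (c : F)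
    (hc : pn σ c r = 1) : ∃ d : F, d ≠ 0 ∧ c * σ d = d := by
  classical
  let χ : Fin r → (F →* F) := fun k => ((σ ^ (k : ℕ) : F ≃+* F) : F →* F)
  have hχinj : Function.Injective χ := by
    intro j k hjk
    have h1 : σ ^ (j : ℕ) = σ ^ (k : ℕ) := by
      ext y
      exact DFunLike.congr_fun hjk y
    have := pow_injOn_Iio_orderOf (x := σ) (by rw [hσ]; exact j.2) (by rw [hσ]; exact k.2) h1
    exact Fin.ext this
  have hli := (linearIndependent_monoidHom F F).comp χ hχinj
  have hex : ∃ y : F, ∑ k ∈ Finset.range r, pn σ c k * (σ ^ k) y ≠ 0 := by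
    by_contra hno
    push Not at hno
    have h0 : ∑ k : Fin r, pn σ c (k : ℕ) • ((fun f : F →* F => (f : F → F)) ∘ χ) k = 0 := by
      funext y
      rw [Finset.sum_apply, Pi.zero_apply, ← hno y, Finset.sum_range]
      rfl
    have := Fintype.linearIndependent_iff.1 hli (fun k => pn σ c (k : ℕ)) h0 ⟨0, hr⟩
    simp [pn] at this
  obtain ⟨y, hy⟩ := hex
  refine ⟨_, hy, ?_⟩
  rw [map_sum, Finset.mul_sum]
  have h1 : ∀ k ∈ Finset.range r, c * σ (pn σ c k * (σ ^ k) y)
      = (fun k => pn σ c k * (σ ^ k) y) (k + 1) := by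
    intro k _
    simp only [pn]
    rw [map_mul, pow_succ', RingAut.mul_apply, mul_assoc]
  rw [Finset.sum_congr rfl h1]
  have h2 := Finset.sum_range_succ' (fun k => pn σ c k * (σ ^ k) y) r
  have h3 := Finset.sum_range_succ (fun k => pn σ c k * (σ ^ k) y) r
  have h4 : pn σ c r * (σ ^ r) y = pn σ c 0 * (σ ^ 0) y := by
    rw [hc, ← hσ, pow_orderOf_eq_one, pow_zero]
    rfl
  rw [h3, h4] at h2
  exact (add_right_cancel h2).symm

end H90

end Cfsg.Agent.Lib.Helper4.FieldAut
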