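import Mathlib
import Cfsg.Agent.Lib.Helper4.FieldAut1

namespace Cfsg.Agent.Lib.Helper4.FieldAut

section Count

variable {F : Type*} [Field F] {n : ℕ}

/-- scalar matrices as a hom -/
noncomputable def sc (R : Type*) [CommRing R] (n : ℕ) : Rˣ →* GL (Fin n) R :=
  Units.map (Matrix.scalar (Fin n)).toMonoidHom

theorem sc_val (R : Type*) [CommRing R] (n : ℕ) (d : Rˣ) :
    ((sc R n d : GL (Fin n) R) : Matrix (Fin n) (Fin n) R) = (d : R) • 1 := by
  change Matrix.scalar (Fin n) (d : R) = _
  rw [Matrix.smul_one_eq_diagonal]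
  rfl

/-- inclusion of `GL_n` of a subfield -/
noncomputable def inc (F₀ : Subfield F) (n : ℕ) : GL (Fin n) F₀ →* GL (Fin n) F :=
  Matrix.GeneralLinearGroup.map F₀.subtype

theorem inc_val (F₀ : Subfield F) (h : GL (Fin n) F₀) :
    ((inc F₀ n h : GL (Fin n) F) : Matrix (Fin n) (Fin n) F)
      = (h : Matrix (Fin n) (Fin n) F₀).map F₀.subtype := rfl

theorem inc_injective (F₀ : Subfield F) : Function.Injective (inc F₀ n) := by
  intro h h' hh
  apply Units.ext
  have := congrArg (fun z : GL (Fin n) F => (z : Matrix (Fin n) (Fin n) F)) hh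
  simp only [inc_val] at this
  ext i j
  have h2 := congrFun (congrFun this i) j
  simp only [Matrix.map_apply, Subfield.coe_subtype] at h2
  exact h2

/-- the product map -/
noncomputable def Phi (F₀ : Subfield F) (n : ℕ) : Fˣ × GL (Fin n) F₀ →* GL (Fin n) F where
  toFun x := sc F n x.1 * inc F₀ n x.2
  map_one' := by simp
  map_mul' x y := by
    simp only [Prod.fst_mul, Prod.snd_mul, map_mul]
    apply Units.ext
    simp only [Units.val_mul, sc_val]
    simp only [Matrix.smul_mul, Matrix.mul_smul, Matrix.one_mul, Matrix.mul_one, smul_smul]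

theorem Phi_val (F₀ : Subfield F) (d : Fˣ) (h : GL (Fin n) F₀) :
    ((Phi F₀ n (d, h) : GL (Fin n) F) : Matrix (Fin n) (Fin n) F)
      = (d : F) • (h : Matrix (Fin n) (Fin n) F₀).map F₀.subtype := by
  change ((sc F n d * inc F₀ n h : GL (Fin n) F) : Matrix (Fin n) (Fin n) F) = _
  rw [Units.val_mul, sc_val, inc_val, Matrix.smul_mul, Matrix.one_mul]

theorem card_ker_Phi [Finite F] (hn : 1 ≤ n) (F₀ : Subfield F) :
    Nat.card (Phi F₀ n).ker = Nat.card F₀ - 1 := by
  classical
  let ψ : (F₀)ˣ →* Fˣ × GL (Fin n) F₀ :=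
    MonoidHom.prod ((Units.map (F₀.subtype : F₀ →* F)).comp
      (MonoidHom.id _ : (F₀)ˣ →* (F₀)ˣ)⁻¹) (sc F₀ n)
  have hψ1 : ∀ e, (ψ e).1 = Units.map (F₀.subtype : F₀ →* F) e⁻¹ := fun _ => rfl
  have hψ2 : ∀ e, (ψ e).2 = sc F₀ n e := fun _ => rfl
  have hψinj : Function.Injective ψ := by
    intro e e' h
    have h1 := congrArg Prod.fst h
    rw [hψ1, hψ1] at h1
    have h2 : (e⁻¹ : (F₀)ˣ) = e'⁻¹ := by
      apply Units.ext
      have := congrArg (fun z : Fˣ => (z : F)) h1
      simp only [Units.coe_map, MonoidHom.coe_coe, Subfield.coe_subtype] at this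
      exact Subtype.ext this
    exact inv_injective h2
  have hrange : ψ.range = (Phi F₀ n).ker := by
    ext ⟨d, h⟩
    rw [MonoidHom.mem_range, MonoidHom.mem_ker]
    constructor
    · rintro ⟨e, he⟩
      rw [← he]
      apply Units.ext
      rw [show ψ e = ((ψ e).1, (ψ e).2) from rfl, Phi_val, hψ1, hψ2, sc_val]
      ext i j
      simp only [Units.coe_map, MonoidHom.coe_coe, Subfield.coe_subtype, Matrix.smul_apply,
        Matrix.map_apply, Matrix.one_apply, Units.val_one, smul_eq_mul]
      by_cases hij : i = j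
      · simp [hij]
      · simp [hij]
    · intro hker
      have h1 := congrArg (fun z : GL (Fin n) F => (z : Matrix (Fin n) (Fin n) F)) hker
      simp only [Phi_val, Units.val_one] at h1
      have hent : ∀ i j, (d : F) * ((h : Matrix (Fin n) (Fin n) F₀) i j : F)
          = (1 : Matrix (Fin n) (Fin n) F) i j := by
        intro i j
        have := congrFun (congrFun h1 i) j
        simpa using this
      have h00 := hent ⟨0, hn⟩ ⟨0, hn⟩
      rw [Matrix.one_apply_eq] at h00
      have hdinv : ((d⁻¹ : Fˣ) : F) = ((h : Matrix (Fin n) (Fin n) F₀) ⟨0, hn⟩ ⟨0, hn⟩ : F) := by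
        rw [Units.val_inv_eq_inv_val]
        exact (eq_inv_of_mul_eq_one_right h00).symm
      have hne : (h : Matrix (Fin n) (Fin n) F₀) ⟨0, hn⟩ ⟨0, hn⟩ ≠ 0 := by
        intro h0
        rw [h0] at hdinv
        exact (d⁻¹).ne_zero hdinv
      refine ⟨Units.mk0 _ hne, ?_⟩
      apply Prod.ext
      · rw [hψ1]
        apply Units.ext
        simp only [Units.coe_map, MonoidHom.coe_coe, Subfield.coe_subtype]
        rw [Units.val_inv_eq_inv_val, Units.val_mk0, Subfield.coe_inv, ← hdinv,
          Units.val_inv_eq_inv_val, inv_inv]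
      · rw [hψ2]
        apply Units.ext
        rw [sc_val]
        ext i j
        have hd0 : (d : F) ≠ 0 := d.ne_zero
        have := hent i j
        simp only [Units.val_mk0, Matrix.smul_apply, Matrix.one_apply, smul_eq_mul]
        by_cases hij : i = j
        · subst hij
          rw [Matrix.one_apply_eq] at this
          simp only [if_true, mul_one]
          have h3 : ((h : Matrix (Fin n) (Fin n) F₀) i i : F) = (d : F)⁻¹ :=
            eq_inv_of_mul_eq_one_right this
          rw [h3, ← hdinv, Units.val_inv_eq_inv_val]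
        · rw [Matrix.one_apply_ne hij] at this
          simp only [if_neg hij, mul_zero]
          rcases mul_eq_zero.1 this with h4 | h4
          · exact absurd h4 hd0
          · rw [h4]; rfl
  rw [← hrange, ← Nat.card_congr (MonoidHom.ofInjective hψinj).toEquiv]
  haveI : Fintype F₀ := Fintype.ofFinite _
  rw [Nat.card_eq_fintype_card, Fintype.card_units, Nat.card_eq_fintype_card]

end Count

end Cfsg.Agent.Lib.Helper4.FieldAut
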