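import Mathlib
import Cfsg.Agent.Lib.Helper4.FieldAut2

namespace Cfsg.Agent.Lib.Helper4.FieldAut

section Range

variable {F : Type*} [Field F] {n : ℕ}

theorem map_pow_eq (σ : F ≃+* F) (c : F) (M : Matrix (Fin n) (Fin n) F)
    (h : M.map σ = c • M) (k : ℕ) : M.map (σ ^ k : F ≃+* F) = pn σ c k • M := by
  induction k with
  | zero =>
    ext i j
    simp [pn]
  | succ k ih =>
    ext i j
    have h1 := congrFun (congrFun ih i) j
    have h2 := congrFun (congrFun h i) j
    simp only [Matrix.map_apply, Matrix.smul_apply, smul_eq_mul] at h1 h2 ⊢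
    rw [pow_succ', RingAut.mul_apply, h1, map_mul, h2]
    simp only [pn]
    ring

theorem mem_range_Phi_iff (hn : 1 ≤ n) (σ : F ≃+* F) {r : ℕ} (hr : 0 < r) (hσ : orderOf σ = r)
    (F₀ : Subfield F) (hF₀ : ∀ a, a ∈ F₀ ↔ σ a = a) (g : GL (Fin n) F) :
    g ∈ (Phi F₀ n).range ↔ ∃ c : F, c ≠ 0 ∧
      (g : Matrix (Fin n) (Fin n) F).map σ = c • (g : Matrix (Fin n) (Fin n) F) := by
  classical
  constructor
  · rintro ⟨⟨d, h⟩, rfl⟩
    refine ⟨σ d / d, div_ne_zero ((map_ne_zero σ).2 d.ne_zero) d.ne_zero, ?_⟩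
    rw [Phi_val]
    ext i j
    simp only [Matrix.map_apply, Matrix.smul_apply, smul_eq_mul, Subfield.coe_subtype, map_mul]
    have : σ ((h : Matrix (Fin n) (Fin n) F₀) i j : F) = ((h : Matrix (Fin n) (Fin n) F₀) i j : F) :=
      (hF₀ _).1 (SetLike.coe_mem _)
    rw [this]
    field_simp
  · rintro ⟨c, hc0, hc⟩
    have h1 := map_pow_eq σ c _ hc r
    rw [← hσ, pow_orderOf_eq_one, hσ] at h1
    have hg0 : ∃ i j, (g : Matrix (Fin n) (Fin n) F) i j ≠ 0 := by
      by_contra hno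
      push Not at hno
      have : (g : Matrix (Fin n) (Fin n) F) = 0 := by
        ext i j
        exact hno i j
      have hu := g.isUnit
      rw [this] at hu
      haveI : Nonempty (Fin n) := ⟨⟨0, hn⟩⟩
      exact not_isUnit_zero hu
    obtain ⟨i, j, hij⟩ := hg0
    have hpn : pn σ c r = 1 := by
      have := congrFun (congrFun h1 i) j
      simp only [Matrix.map_apply, RingAut.one_apply, Matrix.smul_apply, smul_eq_mul] at this
      have h2 : (pn σ c r - 1) * (g : Matrix (Fin n) (Fin n) F) i j = 0 := by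
        rw [sub_mul, one_mul, ← this, sub_self]
      rcases mul_eq_zero.1 h2 with h3 | h3
      · exact sub_eq_zero.1 h3
      · exact absurd h3 hij
    obtain ⟨d, hd0, hd⟩ := hilbert90 σ hr hσ c hpn
    -- the matrix d • g has entries in F₀
    have hfix : ∀ i j, d * (g : Matrix (Fin n) (Fin n) F) i j ∈ F₀ := by
      intro i j
      rw [hF₀, map_mul]
      have := congrFun (congrFun hc i) j
      simp only [Matrix.map_apply, Matrix.smul_apply, smul_eq_mul] at this
      rw [this, ← mul_assoc, mul_comm (σ d) c, hd]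
    let M₀ : Matrix (Fin n) (Fin n) F₀ := fun i j => ⟨d * (g : Matrix (Fin n) (Fin n) F) i j, hfix i j⟩
    have hM₀ : M₀.map F₀.subtype = d • (g : Matrix (Fin n) (Fin n) F) := by
      ext i j
      simp only [Matrix.map_apply, Subfield.coe_subtype, Matrix.smul_apply, smul_eq_mul]
      rfl
    have hdet : M₀.det ≠ 0 := by
      intro h0
      have h2 := congrArg F₀.subtype h0
      rw [RingHom.map_det, map_zero] at h2
      have h3 : (F₀.subtype.mapMatrix M₀) = d • (g : Matrix (Fin n) (Fin n) F) := hM₀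
      rw [h3, Matrix.det_smul] at h2
      rcases mul_eq_zero.1 h2 with h4 | h4
      · exact hd0 (pow_eq_zero_iff (by simpa using (by omega : n ≠ 0))|>.1 h4)
      · exact ((Matrix.isUnit_iff_isUnit_det _).1 g.isUnit).ne_zero h4
    refine ⟨((Units.mk0 d hd0)⁻¹, Matrix.GeneralLinearGroup.mkOfDetNeZero M₀ hdet), ?_⟩
    apply Units.ext
    rw [Phi_val]
    change ((Units.mk0 d hd0)⁻¹ : Fˣ).val • M₀.map F₀.subtype = _
    rw [hM₀, smul_smul, Units.val_inv_eq_inv_val, Units.val_mk0, inv_mul_cancel₀ hd0, one_smul]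

end Range

section Final

variable {F : Type*} [Field F] [Fintype F] {n : ℕ}

theorem card_fixed_cosets {q₀ r : ℕ} (hr : r.Prime) (hn : 1 ≤ n) (hF : Fintype.card F = q₀ ^ r)
    (σ : F ≃+* F) (hσ : orderOf σ = r) :
    Nat.card {g : GL (Fin n) F // ∃ c : F, c ≠ 0 ∧
      (g : Matrix (Fin n) (Fin n) F).map σ = c • (g : Matrix (Fin n) (Fin n) F)}
      = (q₀ ^ r - 1) / (q₀ - 1) * ∏ i : Fin n, (q₀ ^ n - q₀ ^ (i : ℕ)) := by
  classical
  set F₀ := FixedPoints.subfield (Subgroup.zpowers σ) F with hF₀def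
  have hF₀ : ∀ a, a ∈ F₀ ↔ σ a = a := mem_fixed_iff σ
  have hcard₀ : Nat.card F₀ = q₀ := card_fixed hr hF σ hσ
  haveI : Fintype F₀ := Fintype.ofFinite _
  have hq₀ : 2 ≤ q₀ := by
    rw [← hcard₀, Nat.card_eq_fintype_card]
    exact Fintype.one_lt_card
  have e1 : {g : GL (Fin n) F // ∃ c : F, c ≠ 0 ∧
      (g : Matrix (Fin n) (Fin n) F).map σ = c • (g : Matrix (Fin n) (Fin n) F)}
      ≃ (Phi F₀ n).range :=
    Equiv.subtypeEquivRight (fun g => (mem_range_Phi_iff hn σ hr.pos hσ F₀ hF₀ g).symm)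
  rw [Nat.card_congr e1]
  have h1 := Subgroup.card_mul_index (Phi F₀ n).ker
  rw [Subgroup.index_ker, card_ker_Phi hn F₀, hcard₀, Nat.card_prod, Nat.card_eq_fintype_card (α := Fˣ),
    Fintype.card_units, hF, Matrix.card_GL_field, ← Nat.card_eq_fintype_card, hcard₀] at h1
  have hdvd : q₀ - 1 ∣ q₀ ^ r - 1 := by
    exact Nat.sub_one_dvd_pow_sub_one q₀ r
  obtain ⟨k, hk⟩ := hdvd
  have hpos : 0 < q₀ - 1 := by omega
  rw [hk, Nat.mul_div_cancel_left _ hpos]
  rw [hk, mul_assoc] at h1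
  exact Nat.eq_of_mul_eq_mul_left hpos h1

end Final

end Cfsg.Agent.Lib.Helper4.FieldAut
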