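import Mathlib
import Cfsg.Agent.Lib.Helper4.FieldAut3
import Cfsg.Agent.Lib.Helper5.HermCount
import Cfsg.Agent.Lib.Helper5.HermCard
import Cfsg.Agent.Lib.Helper5.HermBlock

namespace Cfsg.Agent.Lib.Helper4.FieldAut

open Cfsg.Agent.Lib.Helper5

section Facts

variable {K : Type*} [Field K] [Fintype K] {q₀ q r : ℕ}

theorem card_eq_pow (hq : q = q₀ ^ r) (hK : Fintype.card K = q ^ 2) :
    Fintype.card K = (q₀ ^ 2) ^ r := by
  rw [hK, hq, ← pow_mul, ← pow_mul, mul_comm]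

/-- for `a` in the fixed field of order `q₀²` and `r` odd, `a^q = a^q₀`. -/
theorem pow_q_eq_pow_q0 (hr : r.Prime) (hr2 : r ≠ 2) (hq : q = q₀ ^ r)
    (hK : Fintype.card K = q ^ 2) (σ : K ≃+* K) (hσ : orderOf σ = r) (a : K) (ha : σ a = a) :
    a ^ q = a ^ q₀ := by
  classical
  set K₀ := FixedPoints.subfield (Subgroup.zpowers σ) K
  have hcard₀ : Nat.card K₀ = q₀ ^ 2 := card_fixed hr (card_eq_pow hq hK) σ hσ
  haveI : Fintype K₀ := Fintype.ofFinite _
  have hmem : a ∈ K₀ := (mem_fixed_iff σ a).2 ha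
  have h1 : a ^ (q₀ ^ 2) = a := by
    have := FiniteField.pow_card (⟨a, hmem⟩ : K₀)
    rw [← Nat.card_eq_fintype_card, hcard₀] at this
    have h2 := congrArg (fun x : K₀ => (x : K)) this
    simpa using h2
  have h2 : ∀ k : ℕ, a ^ ((q₀ ^ 2) ^ k) = a := by
    intro k
    induction k with
    | zero => simp
    | succ k ih => rw [pow_succ, pow_mul, ih, h1]
  obtain ⟨k, hk⟩ := hr.odd_of_ne_two hr2
  rw [hq, hk, pow_succ, pow_mul a, pow_mul q₀, h2]

theorem unitary_hilbert90 (hr : r.Prime) (hr2 : r ≠ 2) (hq : q = q₀ ^ r)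
    (hK : Fintype.card K = q ^ 2) (σ : K ≃+* K) (hσ : orderOf σ = r) (c : K)
    (hcU : c ^ (q + 1) = 1) (hc : pn σ c r = 1) :
    ∃ d : K, d ^ (q + 1) = 1 ∧ c * σ d = d := by
  classical
  set K₀ := FixedPoints.subfield (Subgroup.zpowers σ) K with hK₀
  have hcard₀ : Nat.card K₀ = q₀ ^ 2 := card_fixed hr (card_eq_pow hq hK) σ hσ
  haveI : Fintype K₀ := Fintype.ofFinite _
  have hcard₀' : Fintype.card K₀ = q₀ ^ 2 := by rw [← Nat.card_eq_fintype_card]; exact hcard₀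
  obtain ⟨d', hd'0, hd'⟩ := hilbert90 σ hr.pos hσ c hc
  have hc0 : c ≠ 0 := by
    rintro rfl
    rw [zero_pow (by omega)] at hcU
    exact zero_ne_one hcU
  set ν := d' ^ (q + 1) with hν
  have hν0 : ν ≠ 0 := pow_ne_zero _ hd'0
  have hσν : σ ν = ν := by
    have h1 : σ d' = d' / c := by
      rw [eq_div_iff hc0, mul_comm]; exact hd'
    rw [hν, map_pow, h1, div_pow, hcU, div_one]
  have hνq : ν ^ q = ν := by
    rw [hν, ← pow_mul, show (q + 1) * q = q ^ 2 + q by ring, pow_add, ← hK,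
      FiniteField.pow_card, pow_succ, mul_comm]
  have hνq0 : ν ^ q₀ = ν := by
    rw [← pow_q_eq_pow_q0 hr hr2 hq hK σ hσ ν hσν]; exact hνq
  have hνmem : ν⁻¹ ∈ K₀ := by
    rw [mem_fixed_iff, map_inv₀, hσν]
  obtain ⟨e, he⟩ := HermCount.exists_norm_eq hcard₀' (⟨ν⁻¹, hνmem⟩ : K₀)
    (by
      intro h0
      have := congrArg (fun x : K₀ => (x : K)) h0
      simp only [ZeroMemClass.coe_zero] at this
      exact inv_ne_zero hν0 this)
    (by
      apply Subtype.ext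
      simp only [SubmonoidClass.mk_pow]
      rw [inv_pow, hνq0])
  have he' : (e : K) ^ (q₀ + 1) = ν⁻¹ := by
    have := congrArg (fun x : K₀ => (x : K)) he
    simpa using this
  have hσe : σ (e : K) = e := (mem_fixed_iff σ _).1 e.2
  refine ⟨d' * e, ?_, ?_⟩
  · rw [mul_pow, ← hν, pow_succ (e : K), pow_q_eq_pow_q0 hr hr2 hq hK σ hσ _ hσe, ← pow_succ, he',
      mul_inv_cancel₀ hν0]
  · rw [map_mul, hσe, ← mul_assoc, hd']

end Facts

end Cfsg.Agent.Lib.Helper4.FieldAut
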