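import Mathlib
import Cfsg.Agent.Lib.Helper4.FieldAutU1

namespace Cfsg.Agent.Lib.Helper4.FieldAut

open Cfsg.Agent.Lib.Helper5

section KerPhi

variable {F : Type*} [Field F] {n : ℕ}

theorem Phi_eq_one_iff (hn : 1 ≤ n) (F₀ : Subfield F) (d : Fˣ) (h : GL (Fin n) F₀) :
    Phi F₀ n (d, h) = 1 ↔
      ∃ e : (F₀)ˣ, d = Units.map (F₀.subtype : F₀ →* F) e⁻¹ ∧ h = sc F₀ n e := by
  classical
  constructor
  · intro hker
    have h1 := congrArg (fun z : GL (Fin n) F => (z : Matrix (Fin n) (Fin n) F)) hker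
    simp only [Phi_val, Units.val_one] at h1
    have hent : ∀ i j, (d : F) * ((h : Matrix (Fin n) (Fin n) F₀) i j : F)
        = (1 : Matrix (Fin n) (Fin n) F) i j := by
      intro i j
      have := congrFun (congrFun h1 i) j
      simpa using this
    have h00 := hent ⟨0, hn⟩ ⟨0, hn⟩
    rw [Matrix.one_apply_eq] at h00
    have hdinv : ((d⁻¹ : Fˣ) : F) = ((h : Matrix (Fin n) (Fin n) F₀) ⟨0, hn⟩ ⟨0, hn⟩ : F) := by
      rw [Units.val_inv_eq_inv_val]
      exact (eq_inv_of_mul_eq_one_right h00).symm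
    have hne : (h : Matrix (Fin n) (Fin n) F₀) ⟨0, hn⟩ ⟨0, hn⟩ ≠ 0 := by
      intro h0
      rw [h0] at hdinv
      exact (d⁻¹).ne_zero hdinv
    refine ⟨Units.mk0 _ hne, ?_, ?_⟩
    · apply Units.ext
      simp only [Units.coe_map, MonoidHom.coe_coe, Subfield.coe_subtype]
      rw [Units.val_inv_eq_inv_val, Units.val_mk0, Subfield.coe_inv, ← hdinv,
        Units.val_inv_eq_inv_val, inv_inv]
    · apply Units.ext
      rw [sc_val]
      ext i j
      have hd0 : (d : F) ≠ 0 := d.ne_zero
      have := hent i j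
      simp only [Units.val_mk0, Matrix.smul_apply, Matrix.one_apply, smul_eq_mul]
      by_cases hij : i = j
      · subst hij
        rw [Matrix.one_apply_eq] at this
        simp only [if_true, mul_one]
        have h3 : ((h : Matrix (Fin n) (Fin n) F₀) i i : F) = (d : F)⁻¹ :=
          eq_inv_of_mul_eq_one_right this
        rw [h3, ← hdinv, Units.val_inv_eq_inv_val]
      · rw [Matrix.one_apply_ne hij] at this
        simp only [if_neg hij, mul_zero]
        rcases mul_eq_zero.1 this with h4 | h4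
        · exact absurd h4 hd0
        · rw [h4]; rfl
  · rintro ⟨e, rfl, rfl⟩
    apply Units.ext
    rw [Phi_val, sc_val]
    ext i j
    simp only [Units.coe_map, MonoidHom.coe_coe, Subfield.coe_subtype, Matrix.smul_apply,
      Matrix.map_apply, Matrix.one_apply, Units.val_one, smul_eq_mul]
    by_cases hij : i = j
    · simp [hij]
    · simp [hij]

end KerPhi

section LemmaA

variable {K : Type*} [Field K] [Fintype K] {q₀ q r n : ℕ}

theorem Phi_mem_GU_iff (hK : Fintype.card K = q ^ 2) (K₀ : Subfield K) [Fintype K₀]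
    (hcard₀' : Fintype.card K₀ = q₀ ^ 2) (hpow : ∀ a ∈ K₀, a ^ q = a ^ q₀)
    (d : Kˣ) (hd : (d : K) ^ (q + 1) = 1) (h : GL (Fin n) K₀) :
    Phi K₀ n (d, h) ∈ Cfsg.GU n K q ↔ h ∈ Cfsg.GU n K₀ q₀ := by
  classical
  rw [HermBlock.mem_GU_iff hK, HermBlock.mem_GU_iff hcard₀', Phi_val]
  set H : Matrix (Fin n) (Fin n) K₀ := (h : Matrix (Fin n) (Fin n) K₀) with hH
  have h1 : ((d : K) • H.map K₀.subtype).map (· ^ q)
      = (d : K) ^ q • (H.map (· ^ q₀)).map K₀.subtype := by
    ext i j
    simp only [Matrix.map_apply, Matrix.smul_apply, smul_eq_mul, Subfield.coe_subtype, mul_pow,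
      SubmonoidClass.coe_pow]
    rw [hpow _ (H i j).2]
  have h2 : ((d : K) • H.map K₀.subtype).transpose * ((d : K) • H.map K₀.subtype).map (· ^ q)
      = (H.transpose * H.map (· ^ q₀)).map K₀.subtype := by
    rw [h1, Matrix.transpose_smul, Matrix.smul_mul, Matrix.mul_smul, smul_smul, ← pow_succ', hd,
      one_smul, Matrix.map_mul, Matrix.transpose_map]
  rw [h2]
  constructor
  · intro h3
    ext i j
    have := congrFun (congrFun h3 i) j
    simp only [Matrix.map_apply, Subfield.coe_subtype] at this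
    rw [this, Matrix.one_apply, Matrix.one_apply]
    split_ifs <;> simp
  · intro h3
    rw [h3]
    ext i j
    simp only [Matrix.map_apply, Subfield.coe_subtype, Matrix.one_apply]
    split_ifs <;> simp

end LemmaA

end Cfsg.Agent.Lib.Helper4.FieldAut
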