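import Mathlib
import Cfsg.Agent.Lib.Helper4.FieldAutU2

namespace Cfsg.Agent.Lib.Helper4.FieldAut

open Cfsg.Agent.Lib.Helper5

section LemmaB

variable {K : Type*} [Field K] [Fintype K] {q₀ q r n : ℕ}

theorem scalar_pow_eq_one_of_GU (hn : 1 ≤ n) (hK : Fintype.card K = q ^ 2) (σ : K ≃+* K)
    (g : GL (Fin n) K) (hg : g ∈ Cfsg.GU n K q) (c : K)
    (hc : (g : Matrix (Fin n) (Fin n) K).map σ = c • (g : Matrix (Fin n) (Fin n) K)) :
    c ^ (q + 1) = 1 := by
  classical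
  rw [HermBlock.mem_GU_iff hK] at hg
  set G : Matrix (Fin n) (Fin n) K := (g : Matrix (Fin n) (Fin n) K) with hG
  have h1 : (G.transpose * G.map (· ^ q)).map σ = (G.map σ).transpose * (G.map σ).map (· ^ q) := by
    rw [Matrix.map_mul, Matrix.transpose_map]
    congr 1
    ext i j
    simp [Matrix.map_apply]
  rw [hg, hc] at h1
  have h2 : (c • G).map (· ^ q) = c ^ q • G.map (· ^ q) := by
    ext i j
    simp [Matrix.map_apply, mul_pow]
  rw [h2, Matrix.transpose_smul, Matrix.smul_mul, Matrix.mul_smul, smul_smul, hg, ← pow_succ'] at h1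
  have := congrFun (congrFun h1 ⟨0, hn⟩) ⟨0, hn⟩
  simp only [Matrix.map_apply, Matrix.one_apply_eq, map_one, Matrix.smul_apply, smul_eq_mul,
    mul_one] at this
  exact this.symm

theorem exists_Phi_of_GU (hr : r.Prime) (hr2 : r ≠ 2) (hn : 1 ≤ n) (hq : q = q₀ ^ r)
    (hK : Fintype.card K = q ^ 2) (σ : K ≃+* K) (hσ : orderOf σ = r)
    (K₀ : Subfield K) (hK₀ : K₀ = FixedPoints.subfield (Subgroup.zpowers σ) K)
    [Fintype K₀] (g : GL (Fin n) K) (hg : g ∈ Cfsg.GU n K q) (c : K)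
    (hc : (g : Matrix (Fin n) (Fin n) K).map σ = c • (g : Matrix (Fin n) (Fin n) K)) :
    ∃ (d : Kˣ) (h : GL (Fin n) K₀), (d : K) ^ (q + 1) = 1 ∧ h ∈ Cfsg.GU n K₀ q₀ ∧
      Phi K₀ n (d, h) = g := by
  classical
  have hF₀ : ∀ a, a ∈ K₀ ↔ σ a = a := by
    intro a; rw [hK₀]; exact mem_fixed_iff σ a
  have hcard₀ : Nat.card K₀ = q₀ ^ 2 := by
    subst hK₀
    exact card_fixed hr (card_eq_pow hq hK) σ hσ
  have hcard₀' : Fintype.card K₀ = q₀ ^ 2 := by rw [← Nat.card_eq_fintype_card]; exact hcard₀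
  have hpow : ∀ a ∈ K₀, a ^ q = a ^ q₀ := fun a ha =>
    pow_q_eq_pow_q0 hr hr2 hq hK σ hσ a ((hF₀ a).1 ha)
  have hcU := scalar_pow_eq_one_of_GU hn hK σ g hg c hc
  have h1 := map_pow_eq σ c _ hc r
  rw [← hσ, pow_orderOf_eq_one, hσ] at h1
  have hg0 : ∃ i j, (g : Matrix (Fin n) (Fin n) K) i j ≠ 0 := by
    by_contra hno
    push Not at hno
    have : (g : Matrix (Fin n) (Fin n) K) = 0 := by
      ext i j
      exact hno i j
    have hu := g.isUnit
    rw [this] at hu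
    haveI : Nonempty (Fin n) := ⟨⟨0, hn⟩⟩
    exact not_isUnit_zero hu
  obtain ⟨i, j, hij⟩ := hg0
  have hpn : pn σ c r = 1 := by
    have := congrFun (congrFun h1 i) j
    simp only [Matrix.map_apply, RingAut.one_apply, Matrix.smul_apply, smul_eq_mul] at this
    have h2 : (pn σ c r - 1) * (g : Matrix (Fin n) (Fin n) K) i j = 0 := by
      rw [sub_mul, one_mul, ← this, sub_self]
    rcases mul_eq_zero.1 h2 with h3 | h3
    · exact sub_eq_zero.1 h3
    · exact absurd h3 hij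
  obtain ⟨d, hdU, hd⟩ := unitary_hilbert90 hr hr2 hq hK σ hσ c hcU hpn
  have hd0 : d ≠ 0 := by
    rintro rfl
    rw [zero_pow (by omega)] at hdU
    exact zero_ne_one hdU
  have hfix : ∀ i j, d * (g : Matrix (Fin n) (Fin n) K) i j ∈ K₀ := by
    intro i j
    rw [hF₀, map_mul]
    have := congrFun (congrFun hc i) j
    simp only [Matrix.map_apply, Matrix.smul_apply, smul_eq_mul] at this
    rw [this, ← mul_assoc, mul_comm (σ d) c, hd]
  let M₀ : Matrix (Fin n) (Fin n) K₀ := fun i j => ⟨d * (g : Matrix (Fin n) (Fin n) K) i j, hfix i j⟩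
  have hM₀ : M₀.map K₀.subtype = d • (g : Matrix (Fin n) (Fin n) K) := by
    ext i j
    simp only [Matrix.map_apply, Subfield.coe_subtype, Matrix.smul_apply, smul_eq_mul]
    rfl
  have hdet : M₀.det ≠ 0 := by
    intro h0
    have h2 := congrArg K₀.subtype h0
    rw [RingHom.map_det, map_zero] at h2
    have h3 : (K₀.subtype.mapMatrix M₀) = d • (g : Matrix (Fin n) (Fin n) K) := hM₀
    rw [h3, Matrix.det_smul] at h2
    rcases mul_eq_zero.1 h2 with h4 | h4
    · exact hd0 (pow_eq_zero_iff (by simpa using (by omega : n ≠ 0))|>.1 h4)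
    · exact ((Matrix.isUnit_iff_isUnit_det _).1 g.isUnit).ne_zero h4
  have hdinvU : (((Units.mk0 d hd0)⁻¹ : Kˣ) : K) ^ (q + 1) = 1 := by
    rw [Units.val_inv_eq_inv_val, Units.val_mk0, inv_pow, hdU, inv_one]
  have hPhi : Phi K₀ n ((Units.mk0 d hd0)⁻¹, Matrix.GeneralLinearGroup.mkOfDetNeZero M₀ hdet) = g := by
    apply Units.ext
    rw [Phi_val]
    change ((Units.mk0 d hd0)⁻¹ : Kˣ).val • M₀.map K₀.subtype = _
    rw [hM₀, smul_smul, Units.val_inv_eq_inv_val, Units.val_mk0, inv_mul_cancel₀ hd0, one_smul]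
  refine ⟨(Units.mk0 d hd0)⁻¹, Matrix.GeneralLinearGroup.mkOfDetNeZero M₀ hdet, hdinvU, ?_, hPhi⟩
  rw [← Phi_mem_GU_iff hK K₀ hcard₀' hpow _ hdinvU, hPhi]
  exact hg

end LemmaB

end Cfsg.Agent.Lib.Helper4.FieldAut
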