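import Mathlib
import Cfsg.Agent.Lib.Helper4.FieldAutU3

namespace Cfsg.Agent.Lib.Helper4.FieldAut

open Cfsg.Agent.Lib.Helper5

theorem mem_normKer_iff {F : Type*} [Field F] (q : ℕ) (d : Fˣ) :
    d ∈ (HermCount.normHom F q).ker ↔ (d : F) ^ (q + 1) = 1 := by
  rw [MonoidHom.mem_ker]
  change d ^ (q + 1) = 1 ↔ _
  rw [Units.ext_iff, Units.val_pow_eq_pow_val, Units.val_one]

theorem prod_cast_eq (q n : ℕ) (hq : 1 ≤ q) :
    ((∏ i ∈ Finset.range n, (if Even i then q ^ (i + 1) + 1 else q ^ (i + 1) - 1) : ℕ) : ℤ)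
      = ∏ i : Fin n, ((q : ℤ) ^ ((i : ℕ) + 1) - (-1) ^ ((i : ℕ) + 1)) := by
  rw [Fin.prod_univ_eq_prod_range (fun i => ((q : ℤ) ^ (i + 1) - (-1) ^ (i + 1))) n,
    Nat.cast_prod]
  refine Finset.prod_congr rfl (fun i _ => ?_)
  have h1 : 1 ≤ q ^ (i + 1) := Nat.one_le_pow _ _ hq
  by_cases hi : Even i
  · rw [if_pos hi, Odd.neg_one_pow hi.add_one]
    push_cast
    ring
  · rw [if_neg hi]
    have : Even (i + 1) := by
      rw [Nat.even_add_one]; exact hi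
    rw [Even.neg_one_pow this, Nat.cast_sub h1]
    push_cast
    ring

section Count

variable {K : Type*} [Field K] [Fintype K] {q₀ q r n : ℕ}

theorem card_fixed_cosets_GU (hr : r.Prime) (hr2 : r ≠ 2) (hn : 1 ≤ n) (hq : q = q₀ ^ r)
    (hK : Fintype.card K = q ^ 2) (σ : K ≃+* K) (hσ : orderOf σ = r) :
    (Nat.card {g : ↥(Cfsg.GU n K q) // ∃ c : K, c ≠ 0 ∧
        ((g : GL (Fin n) K) : Matrix (Fin n) (Fin n) K).map σ
          = c • ((g : GL (Fin n) K) : Matrix (Fin n) (Fin n) K)} : ℤ)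
      = ((q + 1) / (q₀ + 1) : ℕ) * ((q₀ : ℤ) ^ (n * (n - 1) / 2) *
          ∏ i : Fin n, ((q₀ : ℤ) ^ ((i : ℕ) + 1) - (-1) ^ ((i : ℕ) + 1))) := by
  classical
  obtain ⟨K₀, hK₀⟩ : ∃ K₀ : Subfield K, K₀ = FixedPoints.subfield (Subgroup.zpowers σ) K :=
    ⟨_, rfl⟩
  haveI : Fintype K₀ := Fintype.ofFinite _
  have hF₀ : ∀ a, a ∈ K₀ ↔ σ a = a := by
    intro a; rw [hK₀]; exact mem_fixed_iff σ a
  have hcard₀ : Nat.card K₀ = q₀ ^ 2 := by
    rw [hK₀]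
    exact card_fixed hr (card_eq_pow hq hK) σ hσ
  have hcard₀' : Fintype.card K₀ = q₀ ^ 2 := by rw [← Nat.card_eq_fintype_card]; exact hcard₀
  have hpow : ∀ a ∈ K₀, a ^ q = a ^ q₀ := fun a ha =>
    pow_q_eq_pow_q0 hr hr2 hq hK σ hσ a ((hF₀ a).1 ha)
  have hq₀ : 2 ≤ q₀ := Herm.two_le_q hcard₀'
  set U := (HermCount.normHom K q).ker with hU
  set U₀ := (HermCount.normHom K₀ q₀).ker with hU₀
  let Φ' : ↥U × ↥(Cfsg.GU n K₀ q₀) →* GL (Fin n) K :=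
    (Phi K₀ n).comp (MonoidHom.prodMap U.subtype (Cfsg.GU n K₀ q₀).subtype)
  have hΦ' : ∀ x, Φ' x = Phi K₀ n ((x.1 : Kˣ), (x.2 : GL (Fin n) K₀)) := fun _ => rfl
  have hrange : ∀ g : GL (Fin n) K, g ∈ Φ'.range ↔ (g ∈ Cfsg.GU n K q ∧ ∃ c : K, c ≠ 0 ∧
      (g : Matrix (Fin n) (Fin n) K).map σ = c • (g : Matrix (Fin n) (Fin n) K)) := by
    intro g
    constructor
    · rintro ⟨⟨⟨d, hd⟩, ⟨h, hh⟩⟩, rfl⟩
      rw [hΦ']
      refine ⟨(Phi_mem_GU_iff hK K₀ hcard₀' hpow d ((mem_normKer_iff q d).1 hd) h).2 hh, ?_⟩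
      exact (mem_range_Phi_iff hn σ hr.pos hσ K₀ hF₀ _).1 ⟨(d, h), rfl⟩
    · rintro ⟨hg, c, _, hc⟩
      obtain ⟨d, h, hd, hh, hPhi⟩ := exists_Phi_of_GU hr hr2 hn hq hK σ hσ K₀ hK₀ g hg c hc
      exact ⟨(⟨d, (mem_normKer_iff q d).2 hd⟩, ⟨h, hh⟩), hPhi⟩
  have e1 : {g : ↥(Cfsg.GU n K q) // ∃ c : K, c ≠ 0 ∧
        ((g : GL (Fin n) K) : Matrix (Fin n) (Fin n) K).map σ
          = c • ((g : GL (Fin n) K) : Matrix (Fin n) (Fin n) K)} ≃ Φ'.range :=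
    (Equiv.subtypeSubtypeEquivSubtypeInter (fun g : GL (Fin n) K => g ∈ Cfsg.GU n K q)
      (fun g => ∃ c : K, c ≠ 0 ∧
        (g : Matrix (Fin n) (Fin n) K).map σ = c • (g : Matrix (Fin n) (Fin n) K))).trans
      (Equiv.subtypeEquivRight (fun g => (hrange g).symm))
  rw [Nat.card_congr e1]
  -- kernel
  have hUmem : ∀ e : (K₀)ˣ, e ∈ U₀ →
      Units.map (K₀.subtype : K₀ →* K) e⁻¹ ∈ U := by
    intro e he
    rw [mem_normKer_iff] at he ⊢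
    have he' : ((e : K₀) : K) ^ (q₀ + 1) = 1 := by
      have := congrArg (fun x : K₀ => (x : K)) he
      simpa using this
    simp only [Units.coe_map, MonoidHom.coe_coe, Subfield.coe_subtype]
    rw [Units.val_inv_eq_inv_val, Subfield.coe_inv, inv_pow, pow_succ, hpow _ (e : K₀).2,
      ← pow_succ, he', inv_one]
  have hGmem : ∀ e : (K₀)ˣ, e ∈ U₀ → sc K₀ n e ∈ Cfsg.GU n K₀ q₀ := by
    intro e he
    rw [← Phi_mem_GU_iff hK K₀ hcard₀' hpow _ ((mem_normKer_iff q _).1 (hUmem e he)),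
      (Phi_eq_one_iff hn K₀ _ _).2 ⟨e, rfl, rfl⟩]
    exact Subgroup.one_mem _
  let f : ↥U₀ → ↥Φ'.ker := fun e =>
    ⟨(⟨Units.map (K₀.subtype : K₀ →* K) (e : (K₀)ˣ)⁻¹, hUmem e.1 e.2⟩,
      ⟨sc K₀ n (e : (K₀)ˣ), hGmem e.1 e.2⟩), by
      rw [MonoidHom.mem_ker, hΦ']
      exact (Phi_eq_one_iff hn K₀ _ _).2 ⟨e.1, rfl, rfl⟩⟩
  have hfinj : Function.Injective f := by
    intro e e' hee
    have h1 := congrArg (fun x : ↥Φ'.ker => ((x : ↥U × ↥(Cfsg.GU n K₀ q₀)).1 : Kˣ)) hee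
    simp only [f] at h1
    have h2 : ((e : (K₀)ˣ)⁻¹ : (K₀)ˣ) = (e' : (K₀)ˣ)⁻¹ := by
      apply Units.ext
      have := congrArg (fun z : Kˣ => (z : K)) h1
      simp only [Units.coe_map, MonoidHom.coe_coe, Subfield.coe_subtype] at this
      exact Subtype.ext this
    exact Subtype.ext (inv_injective h2)
  have hfsurj : Function.Surjective f := by
    rintro ⟨⟨⟨d, hd⟩, ⟨h, hh⟩⟩, hx⟩
    rw [MonoidHom.mem_ker, hΦ'] at hx
    obtain ⟨e, rfl, rfl⟩ := (Phi_eq_one_iff hn K₀ _ _).1 hx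
    have he : e ∈ U₀ := by
      rw [mem_normKer_iff] at hd ⊢
      simp only [Units.coe_map, MonoidHom.coe_coe, Subfield.coe_subtype] at hd
      rw [Units.val_inv_eq_inv_val, Subfield.coe_inv, inv_pow, inv_eq_one, pow_succ,
        hpow _ (e : K₀).2, ← pow_succ] at hd
      apply Subtype.ext
      simpa using hd
    exact ⟨⟨e, he⟩, rfl⟩
  have hker : Nat.card Φ'.ker = q₀ + 1 := by
    rw [← Nat.card_congr (Equiv.ofBijective f ⟨hfinj, hfsurj⟩), hU₀, HermCount.card_ker hcard₀']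
  have h1 := Subgroup.card_mul_index Φ'.ker
  have hUcard : Nat.card ↥U = q + 1 := HermCount.card_ker hK
  rw [Subgroup.index_ker, hker, Nat.card_prod, hUcard, HermCard.card_GU hcard₀' n] at h1
  have hdvd : q₀ + 1 ∣ q + 1 := by
    have := Odd.nat_add_dvd_pow_add_pow q₀ 1 (hr.odd_of_ne_two hr2)
    rw [one_pow, ← hq] at this
    exact this
  obtain ⟨k, hk⟩ := hdvd
  have hpos : 0 < q₀ + 1 := by omega
  rw [hk, Nat.mul_div_cancel_left _ hpos]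
  rw [hk, mul_assoc] at h1
  have h2 := Nat.eq_of_mul_eq_mul_left hpos h1
  rw [h2]
  push_cast
  rw [← prod_cast_eq q₀ n (by omega)]
  push_cast
  ring

end Count

end Cfsg.Agent.Lib.Helper4.FieldAut
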