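import Mathlib

set_option autoImplicit false

open Polynomial Matrix
open scoped Pointwise

namespace Cfsg.Agent.Lib.Helper4.PP

universe u

variable {F : Type u} [Field F]

/-- upper unitriangular -/
noncomputable def Up (h : F[X]) : Matrix.SpecialLinearGroup (Fin 2) F[X] :=
  ⟨!![1, h; 0, 1], by simp [Matrix.det_fin_two]⟩

/-- lower unitriangular -/
noncomputable def Lo (h : F[X]) : Matrix.SpecialLinearGroup (Fin 2) F[X] :=
  ⟨!![1, 0; h, 1], by simp [Matrix.det_fin_two]⟩

theorem Up_coe (h : F[X]) : (Up h : Matrix (Fin 2) (Fin 2) F[X]) = !![1, h; 0, 1] := rfl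
theorem Lo_coe (h : F[X]) : (Lo h : Matrix (Fin 2) (Fin 2) F[X]) = !![1, 0; h, 1] := rfl

theorem Up_mul (h k : F[X]) : Up h * Up k = Up (h + k) := by
  apply Subtype.ext
  rw [Matrix.SpecialLinearGroup.coe_mul, Up_coe, Up_coe, Up_coe]
  ext i j; fin_cases i <;> fin_cases j <;> simp [Matrix.mul_apply, Fin.sum_univ_two, add_comm]

theorem Lo_mul (h k : F[X]) : Lo h * Lo k = Lo (h + k) := by
  apply Subtype.ext
  rw [Matrix.SpecialLinearGroup.coe_mul, Lo_coe, Lo_coe, Lo_coe]
  ext i j; fin_cases i <;> fin_cases j <;> simp [Matrix.mul_apply, Fin.sum_univ_two, add_comm]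

theorem Up_zero : Up (0 : F[X]) = 1 := by
  apply Subtype.ext
  rw [Up_coe]
  ext i j; fin_cases i <;> fin_cases j <;> simp

theorem Lo_zero : Lo (0 : F[X]) = 1 := by
  apply Subtype.ext
  rw [Lo_coe]
  ext i j; fin_cases i <;> fin_cases j <;> simp

theorem Up_inv (h : F[X]) : (Up h)⁻¹ = Up (-h) := by
  rw [inv_eq_iff_mul_eq_one, Up_mul, add_neg_cancel, Up_zero]

theorem Lo_inv (h : F[X]) : (Lo h)⁻¹ = Lo (-h) := by
  rw [inv_eq_iff_mul_eq_one, Lo_mul, add_neg_cancel, Lo_zero]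

/-- nonzero vectors -/
abbrev NZ (F : Type u) [Field F] := {x : Fin 2 → F[X] // x ≠ 0}

noncomputable instance : MulAction (Matrix.SpecialLinearGroup (Fin 2) F[X]) (NZ F) where
  smul g x := ⟨(g : Matrix (Fin 2) (Fin 2) F[X]).mulVec x.1, by
    intro h
    apply x.2
    have := congrArg ((g⁻¹ : Matrix.SpecialLinearGroup (Fin 2) F[X]) :
      Matrix (Fin 2) (Fin 2) F[X]).mulVec h
    rw [Matrix.mulVec_mulVec, ← Matrix.SpecialLinearGroup.coe_mul, inv_mul_cancel] at this
    simpa using this⟩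
  one_smul x := by
    apply Subtype.ext
    change ((1 : Matrix.SpecialLinearGroup (Fin 2) F[X]) : Matrix (Fin 2) (Fin 2) F[X]).mulVec x.1 = x.1
    simp
  mul_smul g h x := by
    apply Subtype.ext
    change ((g * h : Matrix.SpecialLinearGroup (Fin 2) F[X]) : Matrix (Fin 2) (Fin 2) F[X]).mulVec x.1
      = (g : Matrix (Fin 2) (Fin 2) F[X]).mulVec ((h : Matrix (Fin 2) (Fin 2) F[X]).mulVec x.1)
    rw [Matrix.mulVec_mulVec, Matrix.SpecialLinearGroup.coe_mul]

theorem smul_coe (g : Matrix.SpecialLinearGroup (Fin 2) F[X]) (x : NZ F) :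
    (g • x).1 = (g : Matrix (Fin 2) (Fin 2) F[X]).mulVec x.1 := rfl

theorem Up_smul_zero (h : F[X]) (x : NZ F) : (Up h • x).1 0 = x.1 0 + h * x.1 1 := by
  rw [smul_coe, Up_coe]; simp [Matrix.mulVec, dotProduct, Fin.sum_univ_two]

theorem Up_smul_one (h : F[X]) (x : NZ F) : (Up h • x).1 1 = x.1 1 := by
  rw [smul_coe, Up_coe]; simp [Matrix.mulVec, dotProduct, Fin.sum_univ_two]

theorem Lo_smul_zero (h : F[X]) (x : NZ F) : (Lo h • x).1 0 = x.1 0 := by
  rw [smul_coe, Lo_coe]; simp [Matrix.mulVec, dotProduct, Fin.sum_univ_two]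

theorem Lo_smul_one (h : F[X]) (x : NZ F) : (Lo h • x).1 1 = h * x.1 0 + x.1 1 := by
  rw [smul_coe, Lo_coe]; simp [Matrix.mulVec, dotProduct, Fin.sum_univ_two]

/-- the set `deg u ≤ deg v` -/
def setA (F : Type u) [Field F] : Set (NZ F) := {x | (x.1 0).degree ≤ (x.1 1).degree}
/-- the set `deg v ≤ deg u` -/
def setB (F : Type u) [Field F] : Set (NZ F) := {x | (x.1 1).degree ≤ (x.1 0).degree}

theorem deg_lt_aux {h u v : F[X]} (hh : 1 ≤ h.degree) (hv : v ≠ 0) (huv : u.degree ≤ v.degree) :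
    v.degree < (u + h * v).degree := by
  have h1 : v.degree < (h * v).degree := by
    rw [degree_mul]
    have hv' : v.degree ≠ ⊥ := by rwa [Ne, degree_eq_bot]
    obtain ⟨n, hn⟩ := WithBot.ne_bot_iff_exists.mp hv'
    have hh' : h.degree ≠ ⊥ := by
      intro h0; rw [h0] at hh; simp at hh
    obtain ⟨m, hm⟩ := WithBot.ne_bot_iff_exists.mp hh'
    rw [← hn, ← hm, ← WithBot.coe_add, WithBot.coe_lt_coe]
    rw [← hm] at hh
    have hh2 : ((1 : ℕ) : WithBot ℕ) ≤ (m : WithBot ℕ) := hh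
    have : 1 ≤ m := WithBot.coe_le_coe.mp hh2
    omega
  rw [degree_add_eq_right_of_degree_lt (lt_of_le_of_lt huv h1)]
  exact h1

theorem Up_setA {h : F[X]} (hh : 1 ≤ h.degree) (x : NZ F) (hx : x ∈ setA F) :
    Up h • x ∉ setB F → False := by
  intro hnot
  apply hnot
  change ((Up h • x).1 1).degree ≤ ((Up h • x).1 0).degree
  rw [Up_smul_one, Up_smul_zero]
  have hv : x.1 1 ≠ 0 := by
    intro h1
    apply x.2
    have h0 : x.1 0 = 0 := by
      have : (x.1 0).degree ≤ ⊥ := by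
        have := hx
        change (x.1 0).degree ≤ (x.1 1).degree at this
        rwa [h1, degree_zero] at this
      exact degree_eq_bot.mp (le_bot_iff.mp this)
    funext i; fin_cases i
    · exact h0
    · exact h1
  exact (deg_lt_aux hh hv hx).le


theorem nz_snd_ne_zero (x : NZ F) (hx : x ∈ setA F) : x.1 1 ≠ 0 := by
  intro h1
  apply x.2
  have h0 : x.1 0 = 0 := by
    have : (x.1 0).degree ≤ ⊥ := by
      have := hx
      change (x.1 0).degree ≤ (x.1 1).degree at this
      rwa [h1, degree_zero] at this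
    exact degree_eq_bot.mp (le_bot_iff.mp this)
  funext i; fin_cases i
  · exact h0
  · exact h1

theorem nz_fst_ne_zero (x : NZ F) (hx : x ∈ setB F) : x.1 0 ≠ 0 := by
  intro h1
  apply x.2
  have h0 : x.1 1 = 0 := by
    have : (x.1 1).degree ≤ ⊥ := by
      have := hx
      change (x.1 1).degree ≤ (x.1 0).degree at this
      rwa [h1, degree_zero] at this
    exact degree_eq_bot.mp (le_bot_iff.mp this)
  funext i; fin_cases i
  · exact h1
  · exact h0

theorem Up_strict {h : F[X]} (hh : 1 ≤ h.degree) (x : NZ F) (hx : x ∈ setA F) :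
    ((Up h • x).1 1).degree < ((Up h • x).1 0).degree := by
  rw [Up_smul_one, Up_smul_zero]
  exact deg_lt_aux hh (nz_snd_ne_zero x hx) hx

theorem Lo_strict {h : F[X]} (hh : 1 ≤ h.degree) (x : NZ F) (hx : x ∈ setB F) :
    ((Lo h • x).1 0).degree < ((Lo h • x).1 1).degree := by
  rw [Lo_smul_one, Lo_smul_zero, add_comm]
  exact deg_lt_aux hh (nz_fst_ne_zero x hx) hx

theorem degree_X_pow_sub {i j : ℕ} (hij : i ≠ j) :
    1 ≤ ((X : F[X]) ^ (i + 1) - X ^ (j + 1)).degree := by
  rcases lt_or_gt_of_ne hij with h | h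
  · have h1 : ((X : F[X]) ^ (i + 1)).degree < ((X : F[X]) ^ (j + 1)).degree := by
      rw [degree_X_pow, degree_X_pow]; exact_mod_cast (by omega : i + 1 < j + 1)
    rw [degree_sub_eq_right_of_degree_lt h1, degree_X_pow]
    exact_mod_cast (by omega : 1 ≤ j + 1)
  · have h1 : ((X : F[X]) ^ (j + 1)).degree < ((X : F[X]) ^ (i + 1)).degree := by
      rw [degree_X_pow, degree_X_pow]; exact_mod_cast (by omega : j + 1 < i + 1)
    rw [degree_sub_eq_left_of_degree_lt h1, degree_X_pow]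
    exact_mod_cast (by omega : 1 ≤ i + 1)

theorem degree_X_pow_succ (i : ℕ) : 1 ≤ ((X : F[X]) ^ (i + 1)).degree := by
  rw [degree_X_pow]
  exact_mod_cast (by omega : 1 ≤ i + 1)

/-- the generators -/
noncomputable def gen (F : Type u) [Field F] (i : ULift.{u} ℕ) :
    Matrix.SpecialLinearGroup (Fin 2) F[X] :=
  Up (X ^ (i.down + 1)) * Lo (X ^ (i.down + 1))

/-- attracting sets -/
def setX (F : Type u) [Field F] (i : ULift.{u} ℕ) : Set (NZ F) :=
  {x | Up (-(X : F[X]) ^ (i.down + 1)) • x ∈ setA F}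

/-- repelling sets -/
def setY (F : Type u) [Field F] (i : ULift.{u} ℕ) : Set (NZ F) :=
  {x | Lo ((X : F[X]) ^ (i.down + 1)) • x ∈ setB F}

theorem setX_sub (i : ULift.{u} ℕ) (x : NZ F) (hx : x ∈ setX F i) :
    (x.1 1).degree < (x.1 0).degree := by
  have h := Up_strict (degree_X_pow_succ (F := F) i.down) _ hx
  rwa [← mul_smul, Up_mul, add_neg_cancel, Up_zero, one_smul] at h

theorem setY_sub (i : ULift.{u} ℕ) (x : NZ F) (hx : x ∈ setY F i) :
    (x.1 0).degree < (x.1 1).degree := by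
  have h1 : 1 ≤ (-(X : F[X]) ^ (i.down + 1)).degree := by
    rw [degree_neg]; exact degree_X_pow_succ _
  have h := Lo_strict h1 _ hx
  rwa [← mul_smul, Lo_mul, neg_add_cancel, Lo_zero, one_smul] at h

theorem mem_setX_iff (i : ULift.{u} ℕ) (x : NZ F) :
    x ∈ setX F i ↔ Up (-(X : F[X]) ^ (i.down + 1)) • x ∈ setA F := Iff.rfl

theorem mem_setY_iff (i : ULift.{u} ℕ) (x : NZ F) :
    x ∈ setY F i ↔ Lo ((X : F[X]) ^ (i.down + 1)) • x ∈ setB F := Iff.rfl

theorem mem_setA_iff (x : NZ F) : x ∈ setA F ↔ (x.1 0).degree ≤ (x.1 1).degree := Iff.rfl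
theorem mem_setB_iff (x : NZ F) : x ∈ setB F ↔ (x.1 1).degree ≤ (x.1 0).degree := Iff.rfl

theorem setX_nonempty (i : ULift.{u} ℕ) : (setX F i).Nonempty := by
  have hne : (![0, 1] : Fin 2 → F[X]) ≠ 0 := by
    intro h
    have := congrFun h 1
    simp at this
  refine ⟨Up ((X : F[X]) ^ (i.down + 1)) • (⟨![0, 1], hne⟩ : NZ F), ?_⟩
  rw [mem_setX_iff, ← mul_smul, Up_mul, neg_add_cancel, Up_zero, one_smul, mem_setA_iff]
  simp

theorem setX_disjoint (i j : ULift.{u} ℕ) (hij : i ≠ j) : Disjoint (setX F i) (setX F j) := by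
  rw [Set.disjoint_left]
  intro x hxi hxj
  have hd : i.down ≠ j.down := fun h => hij (ULift.ext _ _ h)
  rw [mem_setX_iff] at hxi hxj
  have h1 := Up_strict (degree_X_pow_sub (F := F) hd.symm) _ hxj
  rw [← mul_smul, Up_mul] at h1
  have h2 : (X : F[X]) ^ (j.down + 1) - X ^ (i.down + 1) + -(X : F[X]) ^ (j.down + 1)
      = -(X : F[X]) ^ (i.down + 1) := by ring
  rw [h2] at h1
  rw [mem_setA_iff] at hxi
  exact absurd hxi (not_le.mpr h1)

theorem setY_disjoint (i j : ULift.{u} ℕ) (hij : i ≠ j) : Disjoint (setY F i) (setY F j) := by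
  rw [Set.disjoint_left]
  intro x hxi hxj
  have hd : i.down ≠ j.down := fun h => hij (ULift.ext _ _ h)
  rw [mem_setY_iff] at hxi hxj
  have h1 := Lo_strict (degree_X_pow_sub (F := F) hd) _ hxj
  rw [← mul_smul, Lo_mul] at h1
  have h2 : (X : F[X]) ^ (i.down + 1) - X ^ (j.down + 1) + (X : F[X]) ^ (j.down + 1)
      = (X : F[X]) ^ (i.down + 1) := by ring
  rw [h2] at h1
  rw [mem_setB_iff] at hxi
  exact absurd hxi (not_le.mpr h1)

theorem setXY_disjoint (i j : ULift.{u} ℕ) : Disjoint (setX F i) (setY F j) := by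
  rw [Set.disjoint_left]
  intro x hxi hxj
  exact absurd (setX_sub i x hxi) (not_lt.mpr (setY_sub j x hxj).le)

theorem gen_smul_compl (i : ULift.{u} ℕ) : gen F i • (setY F i)ᶜ ⊆ setX F i := by
  rw [Set.smul_set_subset_iff]
  intro x hx
  rw [Set.mem_compl_iff, mem_setY_iff, mem_setB_iff, not_le] at hx
  rw [mem_setX_iff, gen, ← mul_smul, ← mul_assoc, Up_mul, neg_add_cancel, Up_zero, one_mul,
    mem_setA_iff]
  exact hx.le

theorem gen_inv_smul_compl (i : ULift.{u} ℕ) : (gen F)⁻¹ i • (setX F i)ᶜ ⊆ setY F i := by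
  rw [Set.smul_set_subset_iff]
  intro x hx
  rw [Set.mem_compl_iff, mem_setX_iff, mem_setA_iff, not_le] at hx
  rw [mem_setY_iff, Pi.inv_apply, gen, _root_.mul_inv_rev, ← mul_smul, ← mul_assoc, Lo_inv, Up_inv,
    Lo_mul, add_neg_cancel, Lo_zero, one_mul, mem_setB_iff]
  exact hx.le

theorem gen_injective : Function.Injective (FreeGroup.lift (gen F)) := by
  apply FreeGroup.injective_lift_of_ping_pong (gen F) (setX F) (setY F)
  · exact setX_nonempty
  · intro i j hij
    exact setX_disjoint i j hij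
  · intro i j hij
    exact setY_disjoint i j hij
  · exact setXY_disjoint
  · exact gen_smul_compl
  · exact gen_inv_smul_compl


/-- generators indexed by `ℕ` -/
noncomputable def genN (F : Type u) [Field F] (i : ℕ) : Matrix.SpecialLinearGroup (Fin 2) F[X] :=
  gen F (ULift.up i)

theorem genN_injective : Function.Injective (FreeGroup.lift (genN F)) := by
  have h : (FreeGroup.lift (genN F)) = (FreeGroup.lift (gen F)).comp
      (FreeGroup.freeGroupCongr (Equiv.ulift.{u, 0}.symm)).toMonoidHom := by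
    ext i
    simp [genN]
  rw [h]
  exact gen_injective.comp (FreeGroup.freeGroupCongr (Equiv.ulift.{u, 0}.symm)).injective

/-- entrywise degree bound -/
def DegLE (M : Matrix (Fin 2) (Fin 2) F[X]) (d : ℕ) : Prop := ∀ i j, (M i j).natDegree ≤ d

theorem DegLE.mul {M N : Matrix (Fin 2) (Fin 2) F[X]} {a b : ℕ} (hM : DegLE M a) (hN : DegLE N b) :
    DegLE (M * N) (a + b) := by
  intro i j
  rw [Matrix.mul_apply, Fin.sum_univ_two]
  refine (natDegree_add_le _ _).trans (max_le ?_ ?_)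
  · exact natDegree_mul_le.trans (add_le_add (hM _ _) (hN _ _))
  · exact natDegree_mul_le.trans (add_le_add (hM _ _) (hN _ _))

theorem DegLE.one : DegLE (1 : Matrix (Fin 2) (Fin 2) F[X]) 0 := by
  intro i j
  fin_cases i <;> fin_cases j <;> simp

theorem genN_coe (i : ℕ) : (genN F i : Matrix (Fin 2) (Fin 2) F[X]) =
    !![1 + X ^ (i + 1) * X ^ (i + 1), X ^ (i + 1); X ^ (i + 1), 1] := by
  rw [genN, gen, Matrix.SpecialLinearGroup.coe_mul, Up_coe, Lo_coe]
  refine Matrix.ext fun a b => ?_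
  fin_cases a <;> fin_cases b <;> simp [Matrix.mul_apply, Fin.sum_univ_two]

theorem genN_inv_coe (i : ℕ) : ((genN F i)⁻¹ : Matrix.SpecialLinearGroup (Fin 2) F[X]).1 =
    !![1, -X ^ (i + 1); -X ^ (i + 1), 1 + X ^ (i + 1) * X ^ (i + 1)] := by
  rw [genN, gen, _root_.mul_inv_rev, Up_inv, Lo_inv]
  change ((Lo (-(X : F[X]) ^ (i + 1)) * Up (-(X : F[X]) ^ (i + 1)) :
    Matrix.SpecialLinearGroup (Fin 2) F[X]) : Matrix (Fin 2) (Fin 2) F[X]) = _
  rw [Matrix.SpecialLinearGroup.coe_mul, Up_coe, Lo_coe]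
  refine Matrix.ext fun a b => ?_
  fin_cases a <;> fin_cases b <;> simp [Matrix.mul_apply, Fin.sum_univ_two, add_comm]

theorem natDegree_aux (i : ℕ) : ((1 : F[X]) + X ^ (i + 1) * X ^ (i + 1)).natDegree ≤ 2 * (i + 1) := by
  refine (natDegree_add_le _ _).trans (max_le (by simp) ?_)
  refine natDegree_mul_le.trans ?_
  rw [natDegree_X_pow]; omega

theorem degLE_genN (i : ℕ) : DegLE (genN F i : Matrix (Fin 2) (Fin 2) F[X]) (2 * (i + 1)) := by
  rw [genN_coe]
  intro a b
  fin_cases a <;> fin_cases b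
  · exact natDegree_aux i
  · simp
  · simp
  · simp

theorem degLE_genN_inv (i : ℕ) :
    DegLE ((genN F i)⁻¹ : Matrix.SpecialLinearGroup (Fin 2) F[X]).1 (2 * (i + 1)) := by
  rw [genN_inv_coe]
  intro a b
  fin_cases a <;> fin_cases b
  · simp
  · simp
  · simp
  · exact natDegree_aux i

theorem degLE_prod (L : List (ℕ × Bool)) :
    DegLE ((L.map fun x => cond x.2 (genN F x.1) (genN F x.1)⁻¹).prod :
      Matrix.SpecialLinearGroup (Fin 2) F[X]).1 (L.map fun x => 2 * (x.1 + 1)).sum := by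
  induction L with
  | nil => simpa using DegLE.one
  | cons x L ih =>
    rw [List.map_cons, List.prod_cons, List.map_cons, List.sum_cons]
    change DegLE (_ * _) _
    refine DegLE.mul ?_ ih
    rcases x with ⟨i, b⟩
    cases b
    · exact degLE_genN_inv i
    · exact degLE_genN i


theorem lift_genN_eq (w : FreeGroup ℕ) :
    FreeGroup.lift (genN F) w =
      (w.toWord.map fun x => cond x.2 (genN F x.1) (genN F x.1)⁻¹).prod := by
  conv_lhs => rw [← FreeGroup.mk_toWord (x := w)]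
  rw [FreeGroup.lift_mk]

/-- a nontrivial word gives a non-diagonal matrix -/
theorem exists_offdiag [Fintype F] (w : FreeGroup ℕ) (hw : w ≠ 1) :
    ∃ i j : Fin 2, i ≠ j ∧
      (FreeGroup.lift (genN F) w : Matrix (Fin 2) (Fin 2) F[X]) i j ≠ 0 := by
  classical
  by_contra hcon
  push Not at hcon
  set P := FreeGroup.lift (genN F) w with hP
  have h01 : (P : Matrix (Fin 2) (Fin 2) F[X]) 0 1 = 0 := hcon 0 1 (by decide)
  have h10 : (P : Matrix (Fin 2) (Fin 2) F[X]) 1 0 = 0 := hcon 1 0 (by decide)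
  have hdet : (P : Matrix (Fin 2) (Fin 2) F[X]) 0 0 * (P : Matrix (Fin 2) (Fin 2) F[X]) 1 1 = 1 := by
    have := P.2
    rw [Matrix.det_fin_two, h01, h10] at this
    simpa using this
  have hu : IsUnit ((P : Matrix (Fin 2) (Fin 2) F[X]) 0 0) := IsUnit.of_mul_eq_one _ hdet
  obtain ⟨a, ha, hPa⟩ := Polynomial.isUnit_iff.mp hu
  have hu' : IsUnit ((P : Matrix (Fin 2) (Fin 2) F[X]) 1 1) :=
    IsUnit.of_mul_eq_one _ (by rw [mul_comm]; exact hdet)
  obtain ⟨b, hb, hPb⟩ := Polynomial.isUnit_iff.mp hu'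
  have hdiag : (P : Matrix (Fin 2) (Fin 2) F[X]) = Matrix.diagonal ![C a, C b] := by
    refine Matrix.ext fun i j => ?_
    fin_cases i <;> fin_cases j
    · simpa using hPa.symm
    · simpa using h01
    · simpa using h10
    · simpa using hPb.symm
  have hq : Fintype.card F - 1 ≠ 0 := by
    have := Fintype.one_lt_card (α := F)
    omega
  have hpow : P ^ (Fintype.card F - 1) = 1 := by
    apply Subtype.ext
    rw [Matrix.SpecialLinearGroup.coe_pow, hdiag, Matrix.diagonal_pow]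
    change Matrix.diagonal (![C a, C b] ^ (Fintype.card F - 1)) = 1
    have h1 : (![C a, C b] : Fin 2 → F[X]) ^ (Fintype.card F - 1) = 1 := by
      funext i
      fin_cases i
      · change (C a) ^ (Fintype.card F - 1) = 1
        rw [← C_pow, FiniteField.pow_card_sub_one_eq_one a ha.ne_zero, C_1]
      · change (C b) ^ (Fintype.card F - 1) = 1
        rw [← C_pow, FiniteField.pow_card_sub_one_eq_one b hb.ne_zero, C_1]
    rw [h1]
    exact Matrix.diagonal_one
  rw [hP, ← map_pow] at hpow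
  have h1 : w ^ (Fintype.card F - 1) = 1 := by
    apply genN_injective (F := F)
    rw [hpow, map_one]
  have h2 : w ^ (Fintype.card F - 1) = 1 ^ (Fintype.card F - 1) := by rw [h1, one_pow]
  exact hw (IsMulTorsionFree.pow_left_injective hq h2)

end Cfsg.Agent.Lib.Helper4.PP
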