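import Mathlib
import Cfsg.Agent.S4252
import Cfsg.Agent.S3383
import Cfsg.Agent.Lib.Helper1.FrobeniusTheorem
import Cfsg.Agent.Lib.Helper1.FrobeniusCount

set_option autoImplicit false

/-!
Frobenius permutation groups: transitive, non-regular, only the identity fixes two points.
Existence of the regular normal subgroup (Frobenius kernel).
-/

namespace Cfsg.Agent.Lib.Helper4.FrobPerm

open Cfsg MulAction

theorem frobPerm {X Δ : Type*} [Group X] [Finite X] [Fintype Δ] [MulAction X Δ]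
    (hΔ : 1 < Fintype.card Δ)
    (htrans : ∀ α β : Δ, ∃ g : X, g • α = β) (hnreg : ∃ g : X, g ≠ 1 ∧ ∃ α : Δ, g • α = α)
    (hfix : ∀ g : X, g ≠ 1 → ∀ α β : Δ, g • α = α → g • β = β → α = β) :
    ∃ K : Subgroup X, K.Normal ∧ (∀ x, x ∈ K ↔ x = 1 ∨ ∀ ω : Δ, x • ω ≠ ω) ∧
      Nat.card K = Fintype.card Δ ∧ (∀ α β : Δ, ∃ k ∈ K, k • α = β) ∧
      ∀ D : Subgroup X, D.Normal → K ≤ D ∨ D ≤ K := by
  classical
  have hne : Nonempty Δ := by
    rw [← Fintype.card_pos_iff]; omega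
  obtain ⟨α⟩ := hne
  obtain ⟨hH, hker⟩ := Cfsg.Agent.S4252.result hΔ htrans hnreg hfix α
  obtain ⟨K, hK, hKn, _⟩ := Cfsg.Agent.Lib.Helper1.frobenius_theorem _ hH
  have hmem : ∀ x, x ∈ K ↔ x = 1 ∨ ∀ ω : Δ, x • ω ≠ ω := by
    intro x
    have : x ∈ (K : Set X) ↔ x ∈ {g : X | g = 1 ∨ ∀ ω : Δ, g • ω ≠ ω} := by rw [hK, hker]
    exact this
  have hcard : Nat.card K = Fintype.card Δ := by
    haveI : IsPretransitive X Δ := ⟨htrans⟩
    have h1 : Nat.card K = Nat.card (Cfsg.frobeniusKernel (stabilizer X α)) := by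
      rw [← hK]; rfl
    rw [h1, Cfsg.Agent.Lib.Helper1.card_frobeniusKernel hH, index_stabilizer_of_transitive,
      Nat.card_eq_fintype_card]
  refine ⟨K, hKn, hmem, hcard, ?_, (Cfsg.Agent.S3383.result _ hH K hK).2⟩
  intro α' β'
  have hinj : Function.Injective (fun k : K => (k : X) • α') := by
    intro k k' hkk
    have hkk' : (k : X) • α' = (k' : X) • α' := hkk
    have h1 : ((k' : X)⁻¹ * k) • α' = α' := by
      rw [mul_smul, hkk', inv_smul_smul]
    have h2 : (k' : X)⁻¹ * k ∈ K := K.mul_mem (K.inv_mem k'.2) k.2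
    rcases (hmem _).1 h2 with h3 | h3
    · apply Subtype.ext
      have : (k : X) = k' * ((k' : X)⁻¹ * k) := by group
      rw [this, h3, mul_one]
    · exact absurd h1 (h3 α')
  haveI : Finite K := inferInstance
  have hbij : Function.Bijective (fun k : K => (k : X) • α') := by
    rw [Nat.bijective_iff_injective_and_card]
    refine ⟨hinj, ?_⟩
    rw [hcard, Nat.card_eq_fintype_card]
  obtain ⟨k, hk⟩ := hbij.2 β'
  exact ⟨k, k.2, hk⟩

/-- The point stabiliser of a group in which `Y_a` acts as a Frobenius group on the other points. -/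
theorem frobStab {Y Ω : Type*} [Group Y] [Finite Y] [Fintype Ω] [MulAction Y Ω] (a : Ω)
    (hcard : 2 < Fintype.card Ω)
    (ht : ∀ b c : Ω, b ≠ a → c ≠ a → ∃ y : Y, y • a = a ∧ y • b = c)
    (hnr : ∃ y : Y, y ≠ 1 ∧ y • a = a ∧ ∃ b, b ≠ a ∧ y • b = b)
    (hf : ∀ y : Y, y ≠ 1 → y • a = a → ∀ b c : Ω, b ≠ a → c ≠ a → y • b = b → y • c = c → b = c) :
    ∃ K : Subgroup Y, (∀ x, x ∈ K ↔ x • a = a ∧ (x = 1 ∨ ∀ b, b ≠ a → x • b ≠ b)) ∧
      (∀ y : Y, y • a = a → ∀ k ∈ K, y * k * y⁻¹ ∈ K) ∧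
      Nat.card K = Fintype.card Ω - 1 ∧
      (∀ b c : Ω, b ≠ a → c ≠ a → ∃ k ∈ K, k • b = c) ∧
      ∀ D : Subgroup Y, D ≤ stabilizer Y a → (∀ y : Y, y • a = a → ∀ d ∈ D, y * d * y⁻¹ ∈ D) →
        K ≤ D ∨ D ≤ K := by
  classical
  let X := stabilizer Y a
  let Δ := SubMulAction.ofStabilizer Y a
  haveI : Fintype Δ := Fintype.ofFinite _
  have hΔcard : Fintype.card Δ = Fintype.card Ω - 1 := by
    rw [← Nat.card_eq_fintype_card, SubMulAction.nat_card_ofStabilizer_eq, Nat.card_eq_fintype_card]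
  have hsmul : ∀ (x : X) (δ : Δ), ((x • δ : Δ) : Ω) = (x : Y) • (δ : Ω) := fun _ _ => rfl
  have hΔ : 1 < Fintype.card Δ := by rw [hΔcard]; omega
  have htrans : ∀ α β : Δ, ∃ g : X, g • α = β := by
    intro α β
    obtain ⟨y, hya, hy⟩ := ht α β α.2 β.2
    refine ⟨⟨y, hya⟩, ?_⟩
    apply Subtype.ext
    rw [hsmul]; exact hy
  have hnreg : ∃ g : X, g ≠ 1 ∧ ∃ α : Δ, g • α = α := by
    obtain ⟨y, hy1, hya, b, hb, hyb⟩ := hnr
    refine ⟨⟨y, hya⟩, ?_, ⟨b, hb⟩, ?_⟩
    · intro h; apply hy1; exact congrArg Subtype.val h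
    · apply Subtype.ext
      rw [hsmul]; exact hyb
  have hfix : ∀ g : X, g ≠ 1 → ∀ α β : Δ, g • α = α → g • β = β → α = β := by
    intro g hg α β hα hβ
    apply Subtype.ext
    apply hf g.1 (fun h => hg (Subtype.ext h)) g.2 α β α.2 β.2
    · have := congrArg Subtype.val hα
      rwa [hsmul] at this
    · have := congrArg Subtype.val hβ
      rwa [hsmul] at this
  obtain ⟨K0, hK0n, hK0mem, hK0card, hK0t, hK0d⟩ := frobPerm hΔ htrans hnreg hfix
  refine ⟨K0.map X.subtype, ?_, ?_, ?_, ?_, ?_⟩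
  · intro x
    constructor
    · rintro ⟨k, hk, rfl⟩
      refine ⟨k.2, ?_⟩
      rcases (hK0mem k).1 hk with h | h
      · left; rw [h]; rfl
      · right
        intro b hb hkb
        apply h ⟨b, hb⟩
        apply Subtype.ext
        rw [hsmul]; exact hkb
    · rintro ⟨hxa, hx⟩
      refine ⟨⟨x, hxa⟩, ?_, rfl⟩
      rw [SetLike.mem_coe, hK0mem]
      rcases hx with h | h
      · left; exact Subtype.ext h
      · right
        intro ω hω
        apply h ω ω.2
        have := congrArg Subtype.val hω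
        rwa [hsmul] at this
  · rintro y hya _ ⟨k, hk, rfl⟩
    refine ⟨(⟨y, hya⟩ : X) * k * (⟨y, hya⟩ : X)⁻¹, ?_, rfl⟩
    exact hK0n.conj_mem k hk _
  · rw [← hΔcard, ← hK0card]
    exact Nat.card_congr (Subgroup.equivMapOfInjective K0 X.subtype X.subtype_injective).symm.toEquiv
  · intro b c hb hc
    obtain ⟨k, hk, hkb⟩ := hK0t ⟨b, hb⟩ ⟨c, hc⟩
    refine ⟨k, ⟨k, hk, rfl⟩, ?_⟩
    have := congrArg Subtype.val hkb
    rwa [hsmul] at this
  · intro D hD hDn
    have hD0n : (D.subgroupOf X).Normal := by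
      constructor
      intro d hd g
      rw [Subgroup.mem_subgroupOf] at hd ⊢
      exact hDn g.1 g.2 d.1 hd
    rcases hK0d (D.subgroupOf X) hD0n with h | h
    · left
      rintro _ ⟨k, hk, rfl⟩
      have := h hk
      rwa [Subgroup.mem_subgroupOf] at this
    · right
      intro d hd
      refine ⟨⟨d, hD hd⟩, ?_, rfl⟩
      apply h
      rw [Subgroup.mem_subgroupOf]
      exact hd

end Cfsg.Agent.Lib.Helper4.FrobPerm
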