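import Cfsg.Agent.Lib.Helper4.TCD_J2pB_C0

namespace Cfsg.Agent.Lib.Helper4.TCD.J2pB

open Cfsg.Agent.Lib.Helper4.TC

theorem h_rel : ∀ t, 456 ≤ t → t < 1467 → D.relOK t = true :=
  (range_of_allRange c_rel_0)
theorem h_names : ∀ t, 1 ≤ t → t < 440 → D.nameOK t = true :=
  (range_of_allRange c_names_0)
theorem h_cls : ∀ t, 1 ≤ t → t < 440 → T.clsOK D t = true :=
  (range_of_allRange c_cls_0)
theorem h_rep : ∀ t, 0 ≤ t → t < 315 → T.repOK D t = true :=
  (range_of_allRange c_rep_0)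
theorem h_fin : ∀ i, 0 ≤ i → i < 315 → ∀ x, x < 6 → T.finOK D i x = true :=
  (range_of_allGrid c_fin_0)
theorem h_perm : ∀ i, 0 ≤ i → i < 315 → ∀ x, x < 6 → T.permOK1 D i x = true :=
  (range_of_allGrid c_perm_0)
theorem h_act0 : ∀ i, 0 ≤ i → i < 315 → Nat.beq (actR0 i) i = true :=
  (range_of_allRange c_act0_0)
theorem h_act1 : ∀ i, 0 ≤ i → i < 315 → Nat.beq (actR1 i) i = true :=
  (range_of_allRange c_act1_0)
theorem h_act2 : ∀ i, 0 ≤ i → i < 315 → Nat.beq (actR2 i) i = true :=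
  (range_of_allRange c_act2_0)
theorem h_act3 : ∀ i, 0 ≤ i → i < 315 → Nat.beq (actR3 i) i = true :=
  (range_of_allRange c_act3_0)
theorem h_act4 : ∀ i, 0 ≤ i → i < 315 → Nat.beq (actR4 i) i = true :=
  (range_of_allRange c_act4_0)
theorem h_act5 : ∀ i, 0 ≤ i → i < 315 → Nat.beq (actR5 i) i = true :=
  (range_of_allRange c_act5_0)
theorem h_act6 : ∀ i, 0 ≤ i → i < 315 → Nat.beq (actR6 i) i = true :=
  (range_of_allRange c_act6_0)

theorem checked : T.Checked D where
  hz := c_zero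
  hn := fun d h0 hd => h_names d h0 hd
  hb := fun j hj => allBelow_eq_true.1 c_base j hj
  hr := fun t h1 h2 => h_rel t h1 h2
  hfin := fun i x hi hx => h_fin i (Nat.zero_le _) hi x hx
  hperm := fun i x hi hx => h_perm i (Nat.zero_le _) hi x hx
  hlet := fun x hx => allBelow_eq_true.1 c_let x hx
  hcls := fun d h0 hd => h_cls d h0 hd
  hrep := fun i hi => h_rep i (Nat.zero_le _) hi
  hcls0 := c_cls0
  hname0 := c_name0
  hN := by decide
  hM := by decide

set_option maxRecDepth 100000 in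
theorem h_act : ∀ L ∈ PJ2p.P.real, ∀ i, i < T.N → Tab.relActOK T D L i = true := by
  rw [c_real]
  intro L hL
  simp only [realLit, List.mem_cons, List.not_mem_nil, or_false] at hL
  rcases hL with rfl | rfl | rfl | rfl | rfl | rfl | rfl
  · intro i hi
    rw [Tab.relActOK, ← actR0_eq]
    exact h_act0 i (Nat.zero_le _) hi
  · intro i hi
    rw [Tab.relActOK, ← actR1_eq]
    exact h_act1 i (Nat.zero_le _) hi
  · intro i hi
    rw [Tab.relActOK, ← actR2_eq]
    exact h_act2 i (Nat.zero_le _) hi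
  · intro i hi
    rw [Tab.relActOK, ← actR3_eq]
    exact h_act3 i (Nat.zero_le _) hi
  · intro i hi
    rw [Tab.relActOK, ← actR4_eq]
    exact h_act4 i (Nat.zero_le _) hi
  · intro i hi
    rw [Tab.relActOK, ← actR5_eq]
    exact h_act5 i (Nat.zero_le _) hi
  · intro i hi
    rw [Tab.relActOK, ← actR6_eq]
    exact h_act6 i (Nat.zero_le _) hi

theorem inst : Inst PJ2p.P T D subs where
  hP := PJ2p.valid
  hk := rfl
  hinv := rfl
  hsubs := by
    intro u hu x hx
    have h1 := List.all_eq_true.1 c_subs u hu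
    exact ble_succ (List.all_eq_true.1 h1 x hx)
  htab := c_tab
  hC := checked
  hact := h_act
  hsubfix := fun u hu => beq_eq (List.all_eq_true.1 c_subfix u hu)

theorem index_eq : (Inst.subG PJ2p.P subs).index = 315 := inst.index_eq

theorem orb_inv_0 : ∀ j, 1 ≤ j → j < 11 → Tab.orbInvOK T D subs 1 11 j = true :=
  (range_of_allRange c_oinv0_0)
theorem orb_tree0_0 : ∀ j, 2 ≤ j → j < 11 → Tab.orbTreeOK T D subs oparTab olabTab 1 j = true :=
  (range_of_allRange c_otree0_0)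
theorem orb_tree_0 : ∀ j, 1 < j → j < 11 → Tab.orbTreeOK T D subs oparTab olabTab 1 j = true :=
  fun j h1 h2 => orb_tree0_0 j h1 h2
theorem orb_inv_1 : ∀ j, 11 ≤ j → j < 43 → Tab.orbInvOK T D subs 11 43 j = true :=
  (range_of_allRange c_oinv1_0)
theorem orb_tree0_1 : ∀ j, 12 ≤ j → j < 43 → Tab.orbTreeOK T D subs oparTab olabTab 11 j = true :=
  (range_of_allRange c_otree1_0)
theorem orb_tree_1 : ∀ j, 11 < j → j < 43 → Tab.orbTreeOK T D subs oparTab olabTab 11 j = true :=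
  fun j h1 h2 => orb_tree0_1 j h1 h2
theorem orb_inv_2 : ∀ j, 43 ≤ j → j < 75 → Tab.orbInvOK T D subs 43 75 j = true :=
  (range_of_allRange c_oinv2_0)
theorem orb_tree0_2 : ∀ j, 44 ≤ j → j < 75 → Tab.orbTreeOK T D subs oparTab olabTab 43 j = true :=
  (range_of_allRange c_otree2_0)
theorem orb_tree_2 : ∀ j, 43 < j → j < 75 → Tab.orbTreeOK T D subs oparTab olabTab 43 j = true :=
  fun j h1 h2 => orb_tree0_2 j h1 h2
theorem orb_inv_3 : ∀ j, 75 ≤ j → j < 155 → Tab.orbInvOK T D subs 75 155 j = true :=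
  (range_of_allRange c_oinv3_0)
theorem orb_tree0_3 : ∀ j, 76 ≤ j → j < 155 → Tab.orbTreeOK T D subs oparTab olabTab 75 j = true :=
  (range_of_allRange c_otree3_0)
theorem orb_tree_3 : ∀ j, 75 < j → j < 155 → Tab.orbTreeOK T D subs oparTab olabTab 75 j = true :=
  fun j h1 h2 => orb_tree0_3 j h1 h2
theorem orb_inv_4 : ∀ j, 155 ≤ j → j < 315 → Tab.orbInvOK T D subs 155 315 j = true :=
  (range_of_allRange c_oinv4_0)
theorem orb_tree0_4 : ∀ j, 156 ≤ j → j < 315 → Tab.orbTreeOK T D subs oparTab olabTab 155 j = true :=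
  (range_of_allRange c_otree4_0)
theorem orb_tree_4 : ∀ j, 155 < j → j < 315 → Tab.orbTreeOK T D subs oparTab olabTab 155 j = true :=
  fun j h1 h2 => orb_tree0_4 j h1 h2

end Cfsg.Agent.Lib.Helper4.TCD.J2pB
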