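import Mathlib
import Cfsg.Agent.Lib.Helper4.ExtPrimLib
import Cfsg.Agent.Lib.Helper4.J2pIso
import Cfsg.Agent.Lib.Helper4.TCD_J2pB_Fin

/-!
The presented Hall–Janko group `J2p`: the subgroups `⟨c, d⟩` of index 100 and `⟨t, d c t d, …⟩` of index 315
are maximal (the coset actions are primitive, by the suborbit lengths `1 + 36 + 63` and
`1 + 10 + 32 + 32 + 80 + 160`).
-/

set_option autoImplicit false
set_option linter.unusedSectionVars false
set_option linter.unusedVariables false

namespace Cfsg.Agent.Lib.Helper4.G24J2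

open MulAction Cfsg.Agent.Lib.Helper4.TC Cfsg.Agent.Lib.Helper4.TCD Cfsg.Agent.Lib.Helper4.TC.Log

/-- the subgroup `U₃(3)` of index 100 -/
abbrev S1 : Subgroup PJ2p.P.Grp := Inst.subG PJ2p.P J2pA.subs

/-- the subgroup `2^{1+4} : A₅` of index 315 -/
abbrev S2 : Subgroup PJ2p.P.Grp := Inst.subG PJ2p.P J2pB.subs

theorem horbA : OrbCond S1 J2pA.inst.equiv [1, 36, 63] 0 := by
  refine ⟨?_, ?_, ?_, trivial⟩
  · intro j j' _ h2 _ h4
    have e1 : j = j' := Fin.ext (by omega)
    exact ⟨1, one_mem _, by rw [one_smul, e1]⟩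
  · intro j j' h1 h2 h3 h4
    exact J2pA.inst.trans_of_orbit_eq 1 37 (by decide) (by decide)
      (J2pA.inst.orbit_eq J2pA.oparTab J2pA.olabTab 1 37 (by decide) (by decide) J2pA.orb_inv_0 J2pA.orb_tree_0)
      j j' (by omega) (by omega) (by omega) (by omega)
  · intro j j' h1 h2 h3 h4
    exact J2pA.inst.trans_of_orbit_eq 37 100 (by decide) (by decide)
      (J2pA.inst.orbit_eq J2pA.oparTab J2pA.olabTab 37 100 (by decide) (by decide) J2pA.orb_inv_1 J2pA.orb_tree_1)
      j j' (by omega) (by omega) (by omega) (by omega)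

theorem horbB : OrbCond S2 J2pB.inst.equiv [1, 10, 32, 32, 80, 160] 0 := by
  refine ⟨?_, ?_, ?_, ?_, ?_, ?_, trivial⟩
  · intro j j' _ h2 _ h4
    have e1 : j = j' := Fin.ext (by omega)
    exact ⟨1, one_mem _, by rw [one_smul, e1]⟩
  · intro j j' h1 h2 h3 h4
    exact J2pB.inst.trans_of_orbit_eq 1 11 (by decide) (by decide)
      (J2pB.inst.orbit_eq J2pB.oparTab J2pB.olabTab 1 11 (by decide) (by decide) J2pB.orb_inv_0 J2pB.orb_tree_0)
      j j' (by omega) (by omega) (by omega) (by omega)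
  · intro j j' h1 h2 h3 h4
    exact J2pB.inst.trans_of_orbit_eq 11 43 (by decide) (by decide)
      (J2pB.inst.orbit_eq J2pB.oparTab J2pB.olabTab 11 43 (by decide) (by decide) J2pB.orb_inv_1 J2pB.orb_tree_1)
      j j' (by omega) (by omega) (by omega) (by omega)
  · intro j j' h1 h2 h3 h4
    exact J2pB.inst.trans_of_orbit_eq 43 75 (by decide) (by decide)
      (J2pB.inst.orbit_eq J2pB.oparTab J2pB.olabTab 43 75 (by decide) (by decide) J2pB.orb_inv_2 J2pB.orb_tree_2)
      j j' (by omega) (by omega) (by omega) (by omega)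
  · intro j j' h1 h2 h3 h4
    exact J2pB.inst.trans_of_orbit_eq 75 155 (by decide) (by decide)
      (J2pB.inst.orbit_eq J2pB.oparTab J2pB.olabTab 75 155 (by decide) (by decide) J2pB.orb_inv_3 J2pB.orb_tree_3)
      j j' (by omega) (by omega) (by omega) (by omega)
  · intro j j' h1 h2 h3 h4
    exact J2pB.inst.trans_of_orbit_eq 155 315 (by decide) (by decide)
      (J2pB.inst.orbit_eq J2pB.oparTab J2pB.olabTab 155 315 (by decide) (by decide) J2pB.orb_inv_4 J2pB.orb_tree_4)
      j j' (by omega) (by omega) (by omega) (by omega)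

theorem primA : IsPreprimitive PJ2p.P.Grp (PJ2p.P.Grp ⧸ S1) := by
  apply preprimitive_of_intervals S1 J2pA.inst.equiv [1, 36, 63] (by decide) (by decide) _ horbA
  · decide
  · intro h hh
    rw [J2pA.inst.smul_equiv, J2pA.inst.hfix h hh]

theorem primB : IsPreprimitive PJ2p.P.Grp (PJ2p.P.Grp ⧸ S2) := by
  apply preprimitive_of_intervals S2 J2pB.inst.equiv [1, 10, 32, 32, 80, 160] (by decide) (by decide) _ horbB
  · decide +kernel
  · intro h hh
    rw [J2pB.inst.smul_equiv, J2pB.inst.hfix h hh]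

theorem nontrivial_of_index {G : Type*} [Group G] (H : Subgroup G) (n : ℕ) (hn : 1 < n) (h : H.index = n) :
    Nontrivial (G ⧸ H) := by
  have h1 : Nat.card (G ⧸ H) = n := h
  have hfin : Finite (G ⧸ H) := Nat.finite_of_card_ne_zero (by rw [h1]; omega)
  exact (Finite.one_lt_card_iff_nontrivial).1 (by rw [h1]; exact hn)

theorem coatomA : IsCoatom S1 := by
  have hnt : Nontrivial (PJ2p.P.Grp ⧸ S1) := nontrivial_of_index S1 100 (by norm_num) J2pA.index_eq
  have h := (isCoatom_stabilizer_iff_preprimitive PJ2p.P.Grp (((1 : PJ2p.P.Grp) : PJ2p.P.Grp ⧸ S1))).2 primA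
  rwa [stabilizer_quotient] at h

theorem coatomB : IsCoatom S2 := by
  have hnt : Nontrivial (PJ2p.P.Grp ⧸ S2) := nontrivial_of_index S2 315 (by norm_num) J2pB.index_eq
  have h := (isCoatom_stabilizer_iff_preprimitive PJ2p.P.Grp (((1 : PJ2p.P.Grp) : PJ2p.P.Grp ⧸ S2))).2 primB
  rwa [stabilizer_quotient] at h

end Cfsg.Agent.Lib.Helper4.G24J2
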