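import Mathlib
import Cfsg.Agent.Lib.Helper4.G24J2PrimA
import Cfsg.Agent.Lib.Helper4.G24pIso

/-!
The presented group `G24p` (the Chevalley group `G₂(4)`) acts on the 416 cosets of its subgroup `⟨c, d, t⟩ ≅ J₂`
extremely primitively: the subgroup is maximal, and its two-point stabilisers `U₃(3)` and `2^{1+4} : A₅` are
maximal subgroups of it.
-/

set_option autoImplicit false
set_option linter.unusedSectionVars false
set_option linter.unusedVariables false

namespace Cfsg.Agent.Lib.Helper4.G24J2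

open MulAction Cfsg.Agent.Lib.Helper4.TC Cfsg.Agent.Lib.Helper4.TCD Cfsg.Agent.Lib.Helper4.TC.Log

/-- the subgroup `J₂` of index 416 -/
abbrev K : Subgroup PG24p.P.Grp := Inst.subG PG24p.P G24pA.subs

theorem cardG : Nat.card PG24p.P.Grp = 251596800 := G24pMain.order_aux.2.2

theorem cardJ : Nat.card PJ2p.P.Grp = 604800 := J2pMain.order_aux.2.2

theorem cardK : Nat.card K = 604800 := by
  have h := Subgroup.card_mul_index K
  rw [G24pA.index_eq, cardG] at h
  have h2 : Nat.card K * 416 = 604800 * 416 := by rw [h]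
  exact Nat.eq_of_mul_eq_mul_right (by norm_num) h2

/-- the embedding of `J2p` -/
noncomputable def ι0 : PJ2p.P.Grp →* PG24p.P.Grp := G24pMain.embK_emb.hom

theorem ι0_mem (s : PJ2p.P.Grp) : ι0 s ∈ K := by
  have h : ι0 s ∈ ι0.range := ⟨s, rfl⟩
  rw [ι0, G24pMain.range_hom] at h
  exact h

noncomputable def ιK : PJ2p.P.Grp →* K := ι0.codRestrict K ι0_mem

theorem ιK_surjective : Function.Surjective ιK := by
  rintro ⟨k, hk⟩
  have h : k ∈ ι0.range := by
    rw [ι0, G24pMain.range_hom]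
    exact hk
  obtain ⟨s, hs⟩ := h
  exact ⟨s, Subtype.ext hs⟩

theorem ιK_bijective : Function.Bijective ιK := by
  have := J2pMain.order_aux.1
  apply ιK_surjective.bijective_of_nat_card_le
  rw [cardJ, cardK]

/-- the isomorphism of `J2p` with the subgroup -/
noncomputable def ι : PJ2p.P.Grp ≃* K := MulEquiv.ofBijective ιK ιK_bijective

theorem ι_coe (s : PJ2p.P.Grp) : ((ι s : K) : PG24p.P.Grp) = ι0 s := rfl

theorem isoJ2_K : Cfsg.Spor.IsoJ2 K := by
  obtain ⟨e⟩ := J2pIso.iso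
  exact ⟨ι.symm.trans e⟩

theorem primG : IsPreprimitive PG24p.P.Grp (PG24p.P.Grp ⧸ K) := by
  apply preprimitive_of_intervals K G24pA.inst.equiv [1, 100, 315] (by decide) (by decide) _ G24pMain.horb
  · decide
  · intro h hh
    rw [G24pA.inst.smul_equiv, G24pA.inst.hfix h hh]

theorem coatomK : IsCoatom K := by
  have hnt : Nontrivial (PG24p.P.Grp ⧸ K) := nontrivial_of_index K 416 (by norm_num) G24pA.index_eq
  have h := (isCoatom_stabilizer_iff_preprimitive PG24p.P.Grp (((1 : PG24p.P.Grp) : PG24p.P.Grp ⧸ K))).2 primG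
  rwa [stabilizer_quotient] at h

/-- the base point of the table is the trivial coset -/
theorem equiv_zero : G24pA.inst.equiv ⟨0, G24pA.inst.hC.hN⟩ = ((1 : PG24p.P.Grp) : PG24p.P.Grp ⧸ K) := by
  have h1 : ∀ i, thetaMap K G24pA.inst.phi ⟨0, G24pA.inst.hC.hN⟩ G24pA.inst.hfix (G24pA.inst.equiv i) = i :=
    fun i => theta_cosetEquiv K G24pA.inst.phi ⟨0, G24pA.inst.hC.hN⟩ _ G24pA.inst.hfix _ _ i
  have h2 : thetaMap K G24pA.inst.phi ⟨0, G24pA.inst.hC.hN⟩ G24pA.inst.hfix
      ((1 : PG24p.P.Grp) : PG24p.P.Grp ⧸ K) = ⟨0, G24pA.inst.hC.hN⟩ := by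
    rw [thetaMap_mk, map_one]
    rfl
  obtain ⟨j, hj⟩ := G24pA.inst.equiv.surjective ((1 : PG24p.P.Grp) : PG24p.P.Grp ⧸ K)
  have h3 := h1 j
  rw [hj, h2] at h3
  rw [h3, hj]

/-- words act through the table -/
theorem word_smul (u : List ℕ) (hu : ∀ x ∈ u, x < 8) (i : Fin G24pA.T.N) :
    wordP PG24p.P.gR u • G24pA.inst.equiv i =
      G24pA.inst.equiv ⟨Tab.act G24pA.T G24pA.D u i.1,
        G24pA.inst.hC.act_lt u hu i.2⟩ := by
  rw [G24pA.inst.smul_equiv]
  congr 1
  apply Fin.ext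
  have hw : wordP (Inst.gE PG24p.P G24pA.subs) u = wordP PG24p.P.gR u := G24pA.inst.gE_word u hu
  rw [← hw]
  exact G24pA.inst.hC.phi_word G24pA.inst.phi G24pA.inst.hphi u hu i

end Cfsg.Agent.Lib.Helper4.G24J2
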