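import Mathlib
import Cfsg.Agent.Lib.Helper4.G24J2PrimB

/-!
The two-point stabilisers of `G₂(4)` on the 416 cosets of `J₂` are maximal subgroups of `J₂`; the statement for
the Chevalley group of type `G₂` over a field with four elements.
-/

set_option autoImplicit false
set_option linter.unusedSectionVars false
set_option linter.unusedVariables false

namespace Cfsg.Agent.Lib.Helper4.G24J2

open MulAction Cfsg.Agent.Lib.Helper4.TC Cfsg.Agent.Lib.Helper4.TCD Cfsg.Agent.Lib.Helper4.TC.Log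

/-- a point of the suborbit of length 100 fixed by `c` and `d` -/
def a1 : Fin G24pA.T.N := ⟨100, by decide⟩

/-- a point of the suborbit of length 315 fixed by `t` and `d c t d` -/
def a2 : Fin G24pA.T.N := ⟨296, by decide⟩

set_option maxRecDepth 100000 in
theorem fixA : ∀ u ∈ J2pA.subs, Tab.act G24pA.T G24pA.D (u.map G24pMain.embK) 100 = 100 := by decide +kernel

set_option maxRecDepth 100000 in
theorem fixB : ∀ u ∈ J2pB.subs, Tab.act G24pA.T G24pA.D (u.map G24pMain.embK) 296 = 296 := by decide +kernel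

theorem ltA : ∀ u ∈ J2pA.subs, ∀ x ∈ u, x < 6 := by decide

theorem ltB : ∀ u ∈ J2pB.subs, ∀ x ∈ u, x < 6 := by decide

theorem ltA' : ∀ u ∈ J2pA.subs, ∀ x ∈ u.map G24pMain.embK, x < 8 := by decide

theorem ltB' : ∀ u ∈ J2pB.subs, ∀ x ∈ u.map G24pMain.embK, x < 8 := by decide

theorem fix_of_words (subs : List (List ℕ)) (hsubs : ∀ u ∈ subs, ∀ x ∈ u, x < 6)
    (hsubs' : ∀ u ∈ subs, ∀ x ∈ u.map G24pMain.embK, x < 8) (p : Fin G24pA.T.N)
    (h : ∀ u ∈ subs, Tab.act G24pA.T G24pA.D (u.map G24pMain.embK) p.1 = p.1) :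
    ∀ s ∈ Inst.subG PJ2p.P subs, ι s • G24pA.inst.equiv p = G24pA.inst.equiv p := by
  intro s hs
  have hle : Inst.subG PJ2p.P subs ≤ (stabilizer ↥K (G24pA.inst.equiv p)).comap ι.toMonoidHom := by
    unfold Inst.subG
    rw [Subgroup.closure_le]
    rintro _ ⟨u, hu, rfl⟩
    show ι (wordP PJ2p.P.gR u) ∈ stabilizer ↥K (G24pA.inst.equiv p)
    rw [mem_stabilizer_iff]
    show ((ι (wordP PJ2p.P.gR u) : K) : PG24p.P.Grp) • G24pA.inst.equiv p = G24pA.inst.equiv p
    rw [ι_coe, ι0, G24pMain.embK_emb.hom_word u (hsubs u hu), word_smul _ (hsubs' u hu)]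
    congr 1
    apply Fin.ext
    exact h u hu
  exact mem_stabilizer_iff.1 (hle hs)

theorem orbit_a1 : (orbit ↥K (G24pA.inst.equiv a1)).ncard = 100 := by
  have h := G24pA.inst.orbit_eq G24pA.oparTab G24pA.olabTab 1 101 (by decide) (by decide)
    G24pA.orb_inv_0 G24pA.orb_tree_0
  have hn := G24pA.inst.orbit_ncard G24pA.oparTab G24pA.olabTab 1 101 (by decide) (by decide)
    G24pA.orb_inv_0 G24pA.orb_tree_0
  have hmem : G24pA.inst.equiv a1 ∈ orbit ↥K (G24pA.inst.equiv ⟨1, by decide⟩) := by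
    rw [h]
    exact ⟨a1, ⟨by decide, by decide⟩, rfl⟩
  rw [orbit_eq_iff.2 hmem]
  exact hn

theorem orbit_a2 : (orbit ↥K (G24pA.inst.equiv a2)).ncard = 315 := by
  have h := G24pA.inst.orbit_eq G24pA.oparTab G24pA.olabTab 101 416 (by decide) (by decide)
    G24pA.orb_inv_1 G24pA.orb_tree_1
  have hn := G24pA.inst.orbit_ncard G24pA.oparTab G24pA.olabTab 101 416 (by decide) (by decide)
    G24pA.orb_inv_1 G24pA.orb_tree_1
  have hmem : G24pA.inst.equiv a2 ∈ orbit ↥K (G24pA.inst.equiv ⟨101, by decide⟩) := by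
    rw [h]
    exact ⟨a2, ⟨by decide, by decide⟩, rfl⟩
  rw [orbit_eq_iff.2 hmem]
  exact hn

theorem finK : Finite ↥K := by
  have := G24pMain.order_aux.1
  infer_instance

theorem stab_a1 : IsCoatom (stabilizer ↥K (G24pA.inst.equiv a1)) := by
  have := finK
  exact ExtPrim.isCoatom_stabilizer_of_iso ι _ S1 coatomA
    (fix_of_words J2pA.subs ltA ltA' a1 fixA) 100 (by norm_num) J2pA.index_eq orbit_a1

theorem stab_a2 : IsCoatom (stabilizer ↥K (G24pA.inst.equiv a2)) := by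
  have := finK
  exact ExtPrim.isCoatom_stabilizer_of_iso ι _ S2 coatomB
    (fix_of_words J2pB.subs ltB ltB' a2 fixB) 315 (by norm_num) J2pB.index_eq orbit_a2

theorem two_point (x : PG24p.P.Grp) (hx : x ∉ K) :
    IsCoatom ((K ⊓ K.map (MulAut.conj x).toMonoidHom).subgroupOf K) := by
  rw [ExtPrim.inf_conj_subgroupOf]
  obtain ⟨j, hj⟩ := G24pA.inst.equiv.surjective (x • ((1 : PG24p.P.Grp) : PG24p.P.Grp ⧸ K))
  have hj0 : j.1 ≠ 0 := by
    intro h0
    have hj' : j = ⟨0, G24pA.inst.hC.hN⟩ := Fin.ext h0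
    rw [hj', equiv_zero] at hj
    apply hx
    have h1 : x • ((1 : PG24p.P.Grp) : PG24p.P.Grp ⧸ K) = ((x * 1 : PG24p.P.Grp) : PG24p.P.Grp ⧸ K) := rfl
    rw [h1, mul_one] at hj
    have h2 := QuotientGroup.eq.1 hj
    rw [inv_one, one_mul] at h2
    exact h2
  have hK := G24pMain.horb
  have hjN : j.1 < 416 := j.2
  by_cases hlt : j.1 < 101
  · obtain ⟨k, hk, hka⟩ := hK.2.1 a1 j (by decide) (by decide) (by omega) (by omega)
    rw [← hj, ← hka]
    exact ExtPrim.isCoatom_stabilizer_smul (⟨k, hk⟩ : K) _ stab_a1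
  · obtain ⟨k, hk, hka⟩ := hK.2.2.1 a2 j (by decide) (by decide) (by omega) (by omega)
    rw [← hj, ← hka]
    exact ExtPrim.isCoatom_stabilizer_smul (⟨k, hk⟩ : K) _ stab_a2

/-- the statement for the presented group -/
theorem phi_G24p : ExtPrim.Phi PG24p.P.Grp :=
  ⟨K, coatomK, isoJ2_K, two_point⟩

/-- the statement for the Chevalley group -/
theorem phi_chev {F : Type*} [Field F] [Fintype F] (hF : Fintype.card F = 4) :
    ExtPrim.Phi ↥(Cfsg.Lie.chevG2.group F) := by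
  obtain ⟨e⟩ := G24pIso.iso hF
  exact ExtPrim.Phi_of_equiv e phi_G24p

end Cfsg.Agent.Lib.Helper4.G24J2
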