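import Mathlib
import Cfsg.Prelude.Def_SporCoxeter

/-! The group G2(4) of order 251596800 presented on generators `c`, `d`, `t` of a subgroup J2 (satisfying the relators of `J2p`) and an involution `s` (generated). -/

namespace Cfsg.Agent.Lib.Helper4

namespace G24p

/-- the generators -/
inductive Gen
  | c
  | d
  | t
  | s
  deriving DecidableEq

abbrev c : FreeGroup Gen := FreeGroup.of Gen.c
abbrev d : FreeGroup Gen := FreeGroup.of Gen.d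
abbrev t : FreeGroup Gen := FreeGroup.of Gen.t
abbrev s : FreeGroup Gen := FreeGroup.of Gen.s

/-- no Coxeter graph -/
def edges : List (Gen × ℕ × Gen) := []

/-- the relators -/
def extra : List (FreeGroup Gen) := [
  c ^ 7,
  c * c * d * c⁻¹ * d * c * d⁻¹ * c * d * c⁻¹ * d,
  (c * c * c * d) ^ 3,
  c * c * d * d * c * c * d⁻¹ * d⁻¹ * c * c * d⁻¹ * d⁻¹,
  t ^ 2,
  c * t * d⁻¹ * t * d * c⁻¹ * d * c⁻¹ * c⁻¹ * t * d,
  c * t * c⁻¹ * d⁻¹ * c⁻¹ * d⁻¹ * c * t * c⁻¹ * d⁻¹ * c⁻¹ * d⁻¹,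
  s * s,
  c * d * c⁻¹ * t * s * d * s⁻¹ * t,
  c * d * c⁻¹ * s⁻¹ * t * c⁻¹ * d * c * t * s,
  c * c * t * d⁻¹ * c⁻¹ * d⁻¹ * c⁻¹ * t * d * t * d⁻¹ * c * s * c * s * t * s⁻¹ ]

end G24p

end Cfsg.Agent.Lib.Helper4
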