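import Mathlib
import Cfsg.Agent.Lib.Helper4.G2Ree3

/-! The generators of `²G₂(3)` as words in the images of `a`, `b` and powers of `σ` (generated). -/

namespace Cfsg.Agent.Lib.Helper4.G2Ree3

open Cfsg.Lie Cfsg.Agent.Lib.Helper4.LaneMat

local notation "mu" => C14.mul
local notation "i14" => C14.one

set_option maxRecDepth 100000 in
theorem gU_0_0_0 : wordTab (reeWordU 1 0 0 0) = mu (C14.evalW gT []) (powS 0) := by decide +kernel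
set_option maxRecDepth 100000 in
theorem gU_0_0_1 : wordTab (reeWordU 1 0 0 1) = mu (C14.evalW gT [3]) (powS 0) := by decide +kernel
set_option maxRecDepth 100000 in
theorem gU_0_0_2 : wordTab (reeWordU 1 0 0 2) = mu (C14.evalW gT [2]) (powS 0) := by decide +kernel
set_option maxRecDepth 100000 in
theorem gU_0_1_0 : wordTab (reeWordU 1 0 1 0) = mu (C14.evalW gT []) (powS 1) := by decide +kernel
set_option maxRecDepth 100000 in
theorem gU_0_1_1 : wordTab (reeWordU 1 0 1 1) = mu (C14.evalW gT [3]) (powS 1) := by decide +kernel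
set_option maxRecDepth 100000 in
theorem gU_0_1_2 : wordTab (reeWordU 1 0 1 2) = mu (C14.evalW gT [2]) (powS 1) := by decide +kernel
set_option maxRecDepth 100000 in
theorem gU_0_2_0 : wordTab (reeWordU 1 0 2 0) = mu (C14.evalW gT []) (powS 2) := by decide +kernel
set_option maxRecDepth 100000 in
theorem gU_0_2_1 : wordTab (reeWordU 1 0 2 1) = mu (C14.evalW gT [3]) (powS 2) := by decide +kernel
set_option maxRecDepth 100000 in
theorem gU_0_2_2 : wordTab (reeWordU 1 0 2 2) = mu (C14.evalW gT [2]) (powS 2) := by decide +kernel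
set_option maxRecDepth 100000 in
theorem gU_1_0_0 : wordTab (reeWordU 1 1 0 0) = mu (C14.evalW gT [0, 3, 0, 2, 0, 3, 0, 3, 0, 2, 0, 3, 0, 3]) (powS 2) := by decide +kernel
set_option maxRecDepth 100000 in
theorem gU_1_0_1 : wordTab (reeWordU 1 1 0 1) = mu (C14.evalW gT [0, 3, 0, 2, 0, 3, 0, 3, 0, 2, 0, 3, 0, 2]) (powS 2) := by decide +kernel
set_option maxRecDepth 100000 in
theorem gU_1_0_2 : wordTab (reeWordU 1 1 0 2) = mu (C14.evalW gT [0, 3, 0, 2, 0, 3, 0, 3, 0, 2, 0, 3, 0]) (powS 2) := by decide +kernel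
set_option maxRecDepth 100000 in
theorem gU_1_1_0 : wordTab (reeWordU 1 1 1 0) = mu (C14.evalW gT [0, 3, 0, 2, 0, 3, 0, 3, 0, 2, 0, 3, 0, 3]) (powS 0) := by decide +kernel
set_option maxRecDepth 100000 in
theorem gU_1_1_1 : wordTab (reeWordU 1 1 1 1) = mu (C14.evalW gT [0, 3, 0, 2, 0, 3, 0, 3, 0, 2, 0, 3, 0, 2]) (powS 0) := by decide +kernel
set_option maxRecDepth 100000 in
theorem gU_1_1_2 : wordTab (reeWordU 1 1 1 2) = mu (C14.evalW gT [0, 3, 0, 2, 0, 3, 0, 3, 0, 2, 0, 3, 0]) (powS 0) := by decide +kernel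
set_option maxRecDepth 100000 in
theorem gU_1_2_0 : wordTab (reeWordU 1 1 2 0) = mu (C14.evalW gT [0, 3, 0, 2, 0, 3, 0, 3, 0, 2, 0, 3, 0, 3]) (powS 1) := by decide +kernel
set_option maxRecDepth 100000 in
theorem gU_1_2_1 : wordTab (reeWordU 1 1 2 1) = mu (C14.evalW gT [0, 3, 0, 2, 0, 3, 0, 3, 0, 2, 0, 3, 0, 2]) (powS 1) := by decide +kernel
set_option maxRecDepth 100000 in
theorem gU_1_2_2 : wordTab (reeWordU 1 1 2 2) = mu (C14.evalW gT [0, 3, 0, 2, 0, 3, 0, 3, 0, 2, 0, 3, 0]) (powS 1) := by decide +kernel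
set_option maxRecDepth 100000 in
theorem gU_2_0_0 : wordTab (reeWordU 1 2 0 0) = mu (C14.evalW gT [0, 2, 0, 3, 0, 2, 0, 2, 0, 3, 0, 2, 0, 2]) (powS 2) := by decide +kernel
set_option maxRecDepth 100000 in
theorem gU_2_0_1 : wordTab (reeWordU 1 2 0 1) = mu (C14.evalW gT [0, 2, 0, 3, 0, 2, 0, 2, 0, 3, 0, 2, 0]) (powS 2) := by decide +kernel
set_option maxRecDepth 100000 in
theorem gU_2_0_2 : wordTab (reeWordU 1 2 0 2) = mu (C14.evalW gT [0, 2, 0, 3, 0, 2, 0, 2, 0, 3, 0, 2, 0, 3]) (powS 2) := by decide +kernel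
set_option maxRecDepth 100000 in
theorem gU_2_1_0 : wordTab (reeWordU 1 2 1 0) = mu (C14.evalW gT [0, 2, 0, 3, 0, 2, 0, 2, 0, 3, 0, 2, 0, 2]) (powS 0) := by decide +kernel
set_option maxRecDepth 100000 in
theorem gU_2_1_1 : wordTab (reeWordU 1 2 1 1) = mu (C14.evalW gT [0, 2, 0, 3, 0, 2, 0, 2, 0, 3, 0, 2, 0]) (powS 0) := by decide +kernel
set_option maxRecDepth 100000 in
theorem gU_2_1_2 : wordTab (reeWordU 1 2 1 2) = mu (C14.evalW gT [0, 2, 0, 3, 0, 2, 0, 2, 0, 3, 0, 2, 0, 3]) (powS 0) := by decide +kernel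
set_option maxRecDepth 100000 in
theorem gU_2_2_0 : wordTab (reeWordU 1 2 2 0) = mu (C14.evalW gT [0, 2, 0, 3, 0, 2, 0, 2, 0, 3, 0, 2, 0, 2]) (powS 1) := by decide +kernel
set_option maxRecDepth 100000 in
theorem gU_2_2_1 : wordTab (reeWordU 1 2 2 1) = mu (C14.evalW gT [0, 2, 0, 3, 0, 2, 0, 2, 0, 3, 0, 2, 0]) (powS 1) := by decide +kernel
set_option maxRecDepth 100000 in
theorem gU_2_2_2 : wordTab (reeWordU 1 2 2 2) = mu (C14.evalW gT [0, 2, 0, 3, 0, 2, 0, 2, 0, 3, 0, 2, 0, 3]) (powS 1) := by decide +kernel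

theorem genU_eq (t u v : ZMod 3) : ∃ W k, wordTab (reeWordU 1 t u v) = mu (C14.evalW gT W) (powS k) := by
  fin_cases t <;> fin_cases u <;> fin_cases v
  · exact ⟨_, _, gU_0_0_0⟩
  · exact ⟨_, _, gU_0_0_1⟩
  · exact ⟨_, _, gU_0_0_2⟩
  · exact ⟨_, _, gU_0_1_0⟩
  · exact ⟨_, _, gU_0_1_1⟩
  · exact ⟨_, _, gU_0_1_2⟩
  · exact ⟨_, _, gU_0_2_0⟩
  · exact ⟨_, _, gU_0_2_1⟩
  · exact ⟨_, _, gU_0_2_2⟩
  · exact ⟨_, _, gU_1_0_0⟩
  · exact ⟨_, _, gU_1_0_1⟩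
  · exact ⟨_, _, gU_1_0_2⟩
  · exact ⟨_, _, gU_1_1_0⟩
  · exact ⟨_, _, gU_1_1_1⟩
  · exact ⟨_, _, gU_1_1_2⟩
  · exact ⟨_, _, gU_1_2_0⟩
  · exact ⟨_, _, gU_1_2_1⟩
  · exact ⟨_, _, gU_1_2_2⟩
  · exact ⟨_, _, gU_2_0_0⟩
  · exact ⟨_, _, gU_2_0_1⟩
  · exact ⟨_, _, gU_2_0_2⟩
  · exact ⟨_, _, gU_2_1_0⟩
  · exact ⟨_, _, gU_2_1_1⟩
  · exact ⟨_, _, gU_2_1_2⟩
  · exact ⟨_, _, gU_2_2_0⟩
  · exact ⟨_, _, gU_2_2_1⟩
  · exact ⟨_, _, gU_2_2_2⟩

set_option maxRecDepth 100000 in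
theorem gV_0_0_0 : wordTab (reeWordV 1 0 0 0) = mu (C14.evalW gT []) (powS 0) := by decide +kernel
set_option maxRecDepth 100000 in
theorem gV_0_0_1 : wordTab (reeWordV 1 0 0 1) = mu (C14.evalW gT [0, 2, 0, 3, 0, 3, 0]) (powS 0) := by decide +kernel
set_option maxRecDepth 100000 in
theorem gV_0_0_2 : wordTab (reeWordV 1 0 0 2) = mu (C14.evalW gT [0, 2, 0, 2, 0, 3, 0]) (powS 0) := by decide +kernel
set_option maxRecDepth 100000 in
theorem gV_0_1_0 : wordTab (reeWordV 1 0 1 0) = mu (C14.evalW gT [0, 2, 0, 2, 0, 3, 0, 2, 0, 3, 0, 2, 0, 3, 0, 2]) (powS 1) := by decide +kernel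
set_option maxRecDepth 100000 in
theorem gV_0_1_1 : wordTab (reeWordV 1 0 1 1) = mu (C14.evalW gT [2, 0, 3, 0, 2, 0, 3, 0, 2]) (powS 1) := by decide +kernel
set_option maxRecDepth 100000 in
theorem gV_0_1_2 : wordTab (reeWordV 1 0 1 2) = mu (C14.evalW gT [3, 0, 2, 0, 2, 0, 3, 0, 2, 0, 3, 0, 2, 0, 3]) (powS 1) := by decide +kernel
set_option maxRecDepth 100000 in
theorem gV_0_2_0 : wordTab (reeWordV 1 0 2 0) = mu (C14.evalW gT [2, 0, 2, 0, 3, 0, 2, 0, 3, 0, 3]) (powS 2) := by decide +kernel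
set_option maxRecDepth 100000 in
theorem gV_0_2_1 : wordTab (reeWordV 1 0 2 1) = mu (C14.evalW gT [3, 0, 2, 0, 3, 0, 2, 0, 3, 0, 3, 0, 2]) (powS 2) := by decide +kernel
set_option maxRecDepth 100000 in
theorem gV_0_2_2 : wordTab (reeWordV 1 0 2 2) = mu (C14.evalW gT [2, 0, 3, 0, 2, 0, 2, 0, 3, 0]) (powS 2) := by decide +kernel
set_option maxRecDepth 100000 in
theorem gV_1_0_0 : wordTab (reeWordV 1 1 0 0) = mu (C14.evalW gT [0, 3, 0, 2, 0, 3, 0, 2, 0, 3, 0, 2, 0, 3, 0, 2]) (powS 2) := by decide +kernel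
set_option maxRecDepth 100000 in
theorem gV_1_0_1 : wordTab (reeWordV 1 1 0 1) = mu (C14.evalW gT [3, 0, 2, 0, 3, 0, 2, 0, 3, 0, 2, 0, 2, 0, 3]) (powS 2) := by decide +kernel
set_option maxRecDepth 100000 in
theorem gV_1_0_2 : wordTab (reeWordV 1 1 0 2) = mu (C14.evalW gT [0, 3, 0, 3, 0, 2, 0, 3, 0, 2, 0, 3, 0, 3, 0]) (powS 2) := by decide +kernel
set_option maxRecDepth 100000 in
theorem gV_1_1_0 : wordTab (reeWordV 1 1 1 0) = mu (C14.evalW gT [3, 0, 2, 0, 2, 0, 3, 0, 2, 0, 2]) (powS 0) := by decide +kernel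
set_option maxRecDepth 100000 in
theorem gV_1_1_1 : wordTab (reeWordV 1 1 1 1) = mu (C14.evalW gT [2, 0, 3, 0, 3, 0, 2, 0, 3, 0, 2, 0, 3, 0]) (powS 0) := by decide +kernel
set_option maxRecDepth 100000 in
theorem gV_1_1_2 : wordTab (reeWordV 1 1 1 2) = mu (C14.evalW gT [2, 0, 3, 0, 3, 0, 2, 0, 2, 0]) (powS 0) := by decide +kernel
set_option maxRecDepth 100000 in
theorem gV_1_2_0 : wordTab (reeWordV 1 1 2 0) = mu (C14.evalW gT [3, 0, 3, 0, 3, 0, 2, 0, 2, 0, 3, 0, 3]) (powS 1) := by decide +kernel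
set_option maxRecDepth 100000 in
theorem gV_1_2_1 : wordTab (reeWordV 1 1 2 1) = mu (C14.evalW gT [0, 3, 0, 3, 0, 2, 0, 3, 0, 3]) (powS 1) := by decide +kernel
set_option maxRecDepth 100000 in
theorem gV_1_2_2 : wordTab (reeWordV 1 1 2 2) = mu (C14.evalW gT [0, 2, 0, 3, 0, 2, 0, 3, 0, 2, 0, 3, 0, 3]) (powS 1) := by decide +kernel
set_option maxRecDepth 100000 in
theorem gV_2_0_0 : wordTab (reeWordV 1 2 0 0) = mu (C14.evalW gT [2, 0, 2, 0, 2, 0, 3, 0, 3, 0]) (powS 2) := by decide +kernel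
set_option maxRecDepth 100000 in
theorem gV_2_0_1 : wordTab (reeWordV 1 2 0 1) = mu (C14.evalW gT [3, 0, 2, 0, 3, 0, 3, 0, 2, 0, 3, 0, 2]) (powS 2) := by decide +kernel
set_option maxRecDepth 100000 in
theorem gV_2_0_2 : wordTab (reeWordV 1 2 0 2) = mu (C14.evalW gT [3, 0, 3, 0, 3, 0, 2, 0, 3, 0, 2, 0, 3, 0]) (powS 2) := by decide +kernel
set_option maxRecDepth 100000 in
theorem gV_2_1_0 : wordTab (reeWordV 1 2 1 0) = mu (C14.evalW gT [3, 0, 3, 0, 2, 0, 3, 0, 3, 0, 2]) (powS 0) := by decide +kernel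
set_option maxRecDepth 100000 in
theorem gV_2_1_1 : wordTab (reeWordV 1 2 1 1) = mu (C14.evalW gT [0, 3, 0, 3, 0, 2, 0, 2, 0, 3]) (powS 0) := by decide +kernel
set_option maxRecDepth 100000 in
theorem gV_2_1_2 : wordTab (reeWordV 1 2 1 2) = mu (C14.evalW gT [0, 2, 0, 3, 0, 2, 0, 3, 0, 2, 0, 2, 0, 3]) (powS 0) := by decide +kernel
set_option maxRecDepth 100000 in
theorem gV_2_2_0 : wordTab (reeWordV 1 2 2 0) = mu (C14.evalW gT [0, 2, 0, 3, 0, 3, 0, 2, 0, 2, 0, 3]) (powS 1) := by decide +kernel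
set_option maxRecDepth 100000 in
theorem gV_2_2_1 : wordTab (reeWordV 1 2 2 1) = mu (C14.evalW gT [0, 2, 0, 2, 0, 3, 0, 2, 0, 2, 0, 3]) (powS 1) := by decide +kernel
set_option maxRecDepth 100000 in
theorem gV_2_2_2 : wordTab (reeWordV 1 2 2 2) = mu (C14.evalW gT [2, 0, 2, 0, 3]) (powS 1) := by decide +kernel

theorem genV_eq (t u v : ZMod 3) : ∃ W k, wordTab (reeWordV 1 t u v) = mu (C14.evalW gT W) (powS k) := by
  fin_cases t <;> fin_cases u <;> fin_cases v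
  · exact ⟨_, _, gV_0_0_0⟩
  · exact ⟨_, _, gV_0_0_1⟩
  · exact ⟨_, _, gV_0_0_2⟩
  · exact ⟨_, _, gV_0_1_0⟩
  · exact ⟨_, _, gV_0_1_1⟩
  · exact ⟨_, _, gV_0_1_2⟩
  · exact ⟨_, _, gV_0_2_0⟩
  · exact ⟨_, _, gV_0_2_1⟩
  · exact ⟨_, _, gV_0_2_2⟩
  · exact ⟨_, _, gV_1_0_0⟩
  · exact ⟨_, _, gV_1_0_1⟩
  · exact ⟨_, _, gV_1_0_2⟩
  · exact ⟨_, _, gV_1_1_0⟩
  · exact ⟨_, _, gV_1_1_1⟩
  · exact ⟨_, _, gV_1_1_2⟩
  · exact ⟨_, _, gV_1_2_0⟩
  · exact ⟨_, _, gV_1_2_1⟩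
  · exact ⟨_, _, gV_1_2_2⟩
  · exact ⟨_, _, gV_2_0_0⟩
  · exact ⟨_, _, gV_2_0_1⟩
  · exact ⟨_, _, gV_2_0_2⟩
  · exact ⟨_, _, gV_2_1_0⟩
  · exact ⟨_, _, gV_2_1_1⟩
  · exact ⟨_, _, gV_2_1_2⟩
  · exact ⟨_, _, gV_2_2_0⟩
  · exact ⟨_, _, gV_2_2_1⟩
  · exact ⟨_, _, gV_2_2_2⟩

end Cfsg.Agent.Lib.Helper4.G2Ree3
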