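import Mathlib
import Cfsg.Prelude.Def_LieTwisted
import Cfsg.Agent.Lib.Helper4.G2Ree3Gen
import Cfsg.Agent.Lib.Helper4.TC20
import Cfsg.Agent.Lib.Helper4.L28pMain
import Cfsg.Agent.Lib.Helper4.RepLib
import Cfsg.Agent.Lib.Helper4.CycExt

/-!
The derived subgroup of `²G₂(3)` is the image of the presented group `L28p` (simple of order 504) under an
explicit homomorphism to `GL₁₄(𝔽₃)`.
-/

namespace Cfsg.Agent.Lib.Helper4.G2Ree3

open Cfsg.Lie Cfsg.Agent.Lib.Helper4.LaneMat Cfsg.Agent.Lib.Helper4.TC Cfsg.Agent.Lib.Helper4.TC.Log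

local notation "tm" => C14.toMat eG
local notation "mu" => C14.mul
local notation "i14" => C14.one

abbrev G14 : Type := GL Idx (ZMod 3)

/-- the inverse letters -/
def invL : ℕ → ℕ
  | 0 => 1
  | 1 => 0
  | 2 => 3
  | 3 => 2
  | n => n

theorem gT_ge (l : ℕ) (h : ¬ l < 4) : gT l = i14 := by
  match l, h with
  | 0, h => exact absurd (by norm_num) h
  | 1, h => exact absurd (by norm_num) h
  | 2, h => exact absurd (by norm_num) h
  | 3, h => exact absurd (by norm_num) h
  | (n + 4), _ => rfl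

set_option maxRecDepth 100000 in
theorem gT_valid4 : ∀ l, l < 4 → C14.Valid (gT l) := by decide +kernel

theorem gT_valid (l : ℕ) : C14.Valid (gT l) := by
  by_cases h : l < 4
  · exact gT_valid4 l h
  · rw [gT_ge l h]; exact C14.valid_one

set_option maxRecDepth 100000 in
theorem c_inv : ∀ l, l < 4 → mu (gT l) (gT (invL l)) = i14 ∧ mu (gT (invL l)) (gT l) = i14 := by
  decide +kernel

set_option maxRecDepth 100000 in
theorem c_rel : ∀ L ∈ PL28p.P.real, C14.evalW gT L = i14 := by decide +kernel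

/-- the images of the letters -/
def gU (l : ℕ) : G14 :=
  if h : l < 4 then C14.toGL eG (gT l) (gT (invL l)) (gT_valid _) (gT_valid _) (c_inv l h).1 (c_inv l h).2 else 1

theorem val_gU (l : ℕ) : ((gU l : G14) : M14) = tm (gT l) := by
  unfold gU
  split_ifs with h
  · rfl
  · rw [gT_ge l h, C14.toMat_one]; rfl

theorem val_wordP (L : List ℕ) : ((wordP gU L : G14) : M14) = tm (C14.evalW gT L) := by
  rw [C14.toMat_evalW eG gT L fun x _ => gT_valid x]
  induction L with
  | nil => rfl
  | cons x L ih => rw [wordP_cons, Units.val_mul, ih, val_gU, List.map_cons, List.prod_cons]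

theorem gU_mul_inv (l : ℕ) (h : l < 4) : gU l * gU (invL l) = 1 := by
  apply Units.ext
  rw [Units.val_mul, val_gU, val_gU, ← C14.toMat_mul eG (gT_valid _) (gT_valid _), (c_inv l h).1, C14.toMat_one]
  rfl

theorem exists_hom : ∃ φ : PL28p.P.Grp →* G14, ∀ l, l < 4 → φ (PL28p.P.gR l) = gU l := by
  apply exists_hom_of_letters PL28p.P PL28p.valid gU
  · intro l hl
    have hl : l < 4 := hl
    interval_cases l
    · exact gU_mul_inv 0 (by norm_num)
    · exact gU_mul_inv 1 (by norm_num)
    · exact gU_mul_inv 2 (by norm_num)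
    · exact gU_mul_inv 3 (by norm_num)
  · intro L hL
    apply Units.ext
    rw [val_wordP, c_rel L hL, C14.toMat_one]
    rfl

/-- the homomorphism -/
noncomputable def phi : PL28p.P.Grp →* G14 := Classical.choose exists_hom

theorem phi_gR (l : ℕ) (h : l < 4) : phi (PL28p.P.gR l) = gU l := Classical.choose_spec exists_hom l h

set_option maxRecDepth 100000 in
theorem tA_ne : tm tA ≠ 1 := by decide +kernel

set_option maxRecDepth 100000 in
theorem tAB_ne : tm (mu tA tB) ≠ tm (mu tB tA) := by decide +kernel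

theorem phi_injective : Function.Injective phi := by
  apply RepLib.injective_of_simple L28pMain.simple_aux phi (PL28p.P.gR 0)
  rw [phi_gR 0 (by norm_num)]
  intro h
  apply tA_ne
  have h1 := val_gU 0
  rw [h] at h1
  exact h1.symm

theorem gU_not_comm : gU 0 * gU 2 ≠ gU 2 * gU 0 := by
  intro h
  apply tAB_ne
  show tm (mu (gT 0) (gT 2)) = tm (mu (gT 2) (gT 0))
  rw [C14.toMat_mul eG (gT_valid 0) (gT_valid 2), C14.toMat_mul eG (gT_valid 2) (gT_valid 0),
    ← val_gU 0, ← val_gU 2, ← Units.val_mul, ← Units.val_mul, h]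

theorem commutator_P : commutator PL28p.P.Grp = ⊤ := by
  apply CycExt.commutator_eq_top_of_simple L28pMain.simple_aux (PL28p.P.gR 0) (PL28p.P.gR 2)
  intro h
  apply gU_not_comm
  rw [← phi_gR 0 (by norm_num), ← phi_gR 2 (by norm_num), ← map_mul, ← map_mul, h]

theorem card_range : Nat.card phi.range = 504 := by
  rw [← L28pMain.order_aux.2.2]
  exact (Nat.card_congr (MonoidHom.ofInjective phi_injective).toEquiv).symm

/-- the range is generated by the images of `a` and `b` -/
theorem range_eq : phi.range = Subgroup.closure {gU 0, gU 2} := by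
  have h1 : gU 1 = gU 0 := by
    apply Units.ext
    rw [val_gU, val_gU]
    rfl
  have h3 : gU 3 = (gU 2)⁻¹ := eq_inv_of_mul_eq_one_left (gU_mul_inv 3 (by norm_num))
  rw [MonoidHom.range_eq_map, ← PL28p.valid.gen_top, MonoidHom.map_closure]
  apply le_antisymm
  · rw [Subgroup.closure_le]
    rintro _ ⟨_, ⟨l, hl, rfl⟩, rfl⟩
    have hl : l < 4 := hl
    rw [phi_gR l hl]
    interval_cases l
    · exact Subgroup.subset_closure (by simp)
    · rw [h1]; exact Subgroup.subset_closure (by simp)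
    · exact Subgroup.subset_closure (by simp)
    · rw [h3]; exact inv_mem (Subgroup.subset_closure (by simp))
  · rw [Subgroup.closure_le]
    intro x hx
    simp only [Set.mem_insert_iff, Set.mem_singleton_iff] at hx
    rcases hx with rfl | rfl
    · exact Subgroup.subset_closure ⟨_, ⟨0, by show 0 < 4; norm_num, rfl⟩, phi_gR 0 (by norm_num)⟩
    · exact Subgroup.subset_closure ⟨_, ⟨2, by show 2 < 4; norm_num, rfl⟩, phi_gR 2 (by norm_num)⟩

theorem wordP_mem_range (W : List ℕ) : wordP gU W ∈ phi.range := by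
  rw [range_eq]
  have h1 : gU 1 = gU 0 := by
    apply Units.ext
    rw [val_gU, val_gU]
    rfl
  have h3 : gU 3 = (gU 2)⁻¹ := eq_inv_of_mul_eq_one_left (gU_mul_inv 3 (by norm_num))
  apply Sgs.wordP_mem_closure
  intro l _
  by_cases hl : l < 4
  · interval_cases l
    · exact Subgroup.subset_closure (by simp)
    · rw [h1]; exact Subgroup.subset_closure (by simp)
    · exact Subgroup.subset_closure (by simp)
    · rw [h3]; exact inv_mem (Subgroup.subset_closure (by simp))
  · have : gU l = 1 := by unfold gU; rw [dif_neg hl]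
    rw [this]; exact one_mem _

set_option maxRecDepth 100000 in
theorem tS_facts : C14.Valid tS ∧ C14.Valid tSi ∧ mu tS tSi = i14 ∧ mu tSi tS = i14 ∧
    mu (mu tS tS) tS = i14 := by decide +kernel

/-- the element `σ` -/
def sig : G14 := C14.toGL eG tS tSi tS_facts.1 tS_facts.2.1 tS_facts.2.2.1 tS_facts.2.2.2.1

theorem val_sig : ((sig : G14) : M14) = tm tS := rfl

theorem powS_valid (k : ℕ) : C14.Valid (powS k) := by
  match k with
  | 0 => exact C14.valid_one
  | 1 => exact tS_facts.1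
  | (n + 2) => exact C14.valid_mul _ _

theorem val_powS (k : ℕ) : tm (powS k) = ((sig ^ (min k 2) : G14) : M14) := by
  match k with
  | 0 =>
    show tm i14 = _
    rw [C14.toMat_one]; rfl
  | 1 =>
    show tm tS = _
    rw [show min 1 2 = 1 from rfl, pow_one, val_sig]
  | (n + 2) =>
    show tm (mu tS tS) = _
    rw [show min (n + 2) 2 = 2 by omega, pow_two, Units.val_mul, val_sig,
      C14.toMat_mul eG tS_facts.1 tS_facts.1]

theorem sig_pow_three : sig ^ 3 = 1 := by
  apply Units.ext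
  rw [pow_succ, pow_two, Units.val_mul, Units.val_mul, val_sig, ← C14.toMat_mul eG tS_facts.1 tS_facts.1,
    ← C14.toMat_mul eG (C14.valid_mul _ _) tS_facts.1, tS_facts.2.2.2.2, C14.toMat_one]
  rfl

/-- the group `²G₂(3)` -/
abbrev R : Subgroup G14 := twistedG2 (ZMod 3) 1

theorem mem_R {g : G14} {w : List (ℕ × ZMod 3)} (hw : w ∈ g2Words (ZMod 3) 1) (h : (g : M14) = tm (wordTab w)) :
    g ∈ R :=
  Subgroup.subset_closure ⟨w, hw, h.trans (wordMat_eq w).symm⟩

theorem gens_form : ∀ g ∈ {g : G14 | ∃ w ∈ g2Words (ZMod 3) 1, (g : M14) = chevG2.wordMat (ZMod 3) w},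
    ∃ x ∈ phi.range, ∃ k : ℕ, g = x * sig ^ k := by
  rintro g ⟨w, ⟨t, u, v, hw⟩, hg⟩
  rcases hw with rfl | rfl
  · obtain ⟨W, k, h⟩ := genU_eq t u v
    refine ⟨wordP gU W, wordP_mem_range W, min k 2, ?_⟩
    apply Units.ext
    rw [hg, wordMat_eq, h, C14.toMat_mul eG (C14.valid_evalW gT W) (powS_valid k), Units.val_mul, val_wordP,
      val_powS]
  · obtain ⟨W, k, h⟩ := genV_eq t u v
    refine ⟨wordP gU W, wordP_mem_range W, min k 2, ?_⟩
    apply Units.ext
    rw [hg, wordMat_eq, h, C14.toMat_mul eG (C14.valid_evalW gT W) (powS_valid k), Units.val_mul, val_wordP,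
      val_powS]

set_option maxRecDepth 100000 in
theorem conj_tab : mu tS tA = mu (C14.evalW gT wCA) tS ∧ mu tS tB = mu tB tS := by decide +kernel

theorem conjA : sig * gU 0 * sig⁻¹ = wordP gU wCA := by
  rw [mul_inv_eq_iff_eq_mul]
  apply Units.ext
  rw [Units.val_mul, Units.val_mul, val_sig, val_gU, val_wordP, ← C14.toMat_mul eG tS_facts.1 (gT_valid 0),
    ← C14.toMat_mul eG (C14.valid_evalW gT wCA) tS_facts.1]
  exact congrArg _ conj_tab.1

theorem conjB : sig * gU 2 * sig⁻¹ = gU 2 := by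
  rw [mul_inv_eq_iff_eq_mul]
  apply Units.ext
  rw [Units.val_mul, Units.val_mul, val_sig, val_gU, ← C14.toMat_mul eG tS_facts.1 (gT_valid 2),
    ← C14.toMat_mul eG (gT_valid 2) tS_facts.1]
  exact congrArg _ conj_tab.2

theorem conj_mem (x : G14) (hx : x ∈ phi.range) : sig * x * sig⁻¹ ∈ phi.range := by
  rw [range_eq] at hx
  induction hx using Subgroup.closure_induction with
  | mem x hx =>
    simp only [Set.mem_insert_iff, Set.mem_singleton_iff] at hx
    rcases hx with rfl | rfl
    · rw [conjA]; exact wordP_mem_range wCA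
    · rw [conjB, range_eq]; exact Subgroup.subset_closure (by simp)
  | one => simp
  | mul x y _ _ hx hy =>
    have : sig * (x * y) * sig⁻¹ = (sig * x * sig⁻¹) * (sig * y * sig⁻¹) := by group
    rw [this]; exact mul_mem hx hy
  | inv x _ hx =>
    have : sig * x⁻¹ * sig⁻¹ = (sig * x * sig⁻¹)⁻¹ := by group
    rw [this]; exact inv_mem hx

theorem sig_mem_normalizer : sig ∈ Subgroup.normalizer (phi.range : Set G14) := by
  rw [Subgroup.mem_normalizer_iff]
  intro h
  refine ⟨conj_mem h, fun hh => ?_⟩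
  have h1 := conj_mem _ (conj_mem _ hh)
  have h2 : sig * (sig * (sig * h * sig⁻¹) * sig⁻¹) * sig⁻¹ = sig ^ 3 * h * (sig ^ 3)⁻¹ := by
    simp only [pow_succ, pow_zero, one_mul, mul_inv_rev, mul_assoc]
  rw [h2, sig_pow_three] at h1
  simpa using h1

theorem comm_le : ⁅R, R⁆ ≤ phi.range :=
  CycExt.commutator_closure_le phi.range sig sig_mem_normalizer _ gens_form

set_option maxRecDepth 100000 in
theorem tab_eqs : wordTab (reeWordU 1 0 0 2) = tB ∧ wordTab (reeWordU 1 0 1 0) = tS ∧
    mu (wordTab (reeWordU 1 1 0 1)) (wordTab (reeWordV 1 1 2 1)) = tA ∧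
    C14.Valid tU101i ∧ C14.Valid tV121i ∧
    mu (wordTab (reeWordU 1 1 0 1)) tU101i = i14 ∧ mu tU101i (wordTab (reeWordU 1 1 0 1)) = i14 ∧
    mu (wordTab (reeWordV 1 1 2 1)) tV121i = i14 ∧ mu tV121i (wordTab (reeWordV 1 1 2 1)) = i14 := by
  decide +kernel

/-- the generator `U(1,0,1)` -/
def uA1 : G14 := C14.toGL eG (wordTab (reeWordU 1 1 0 1)) tU101i (wordTab_valid _) tab_eqs.2.2.2.1
  tab_eqs.2.2.2.2.2.1 tab_eqs.2.2.2.2.2.2.1

/-- the generator `V(1,2,1)` -/
def uA2 : G14 := C14.toGL eG (wordTab (reeWordV 1 1 2 1)) tV121i (wordTab_valid _) tab_eqs.2.2.2.2.1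
  tab_eqs.2.2.2.2.2.2.2.1 tab_eqs.2.2.2.2.2.2.2.2

theorem gU0_mem : gU 0 ∈ R := by
  have h1 : uA1 ∈ R := mem_R ⟨1, 0, 1, Or.inl rfl⟩ rfl
  have h2 : uA2 ∈ R := mem_R ⟨1, 2, 1, Or.inr rfl⟩ rfl
  have h3 : gU 0 = uA1 * uA2 := by
    apply Units.ext
    rw [Units.val_mul, val_gU]
    show tm tA = tm (wordTab (reeWordU 1 1 0 1)) * tm (wordTab (reeWordV 1 1 2 1))
    rw [← C14.toMat_mul eG (wordTab_valid _) (wordTab_valid _), tab_eqs.2.2.1]
  rw [h3]
  exact mul_mem h1 h2

theorem gU2_mem : gU 2 ∈ R := by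
  apply mem_R (w := reeWordU 1 0 0 2) ⟨0, 0, 2, Or.inl rfl⟩
  rw [val_gU, tab_eqs.1]
  rfl

theorem range_le : phi.range ≤ R := by
  rw [range_eq, Subgroup.closure_le]
  intro x hx
  simp only [Set.mem_insert_iff, Set.mem_singleton_iff] at hx
  rcases hx with rfl | rfl
  · exact gU0_mem
  · exact gU2_mem

theorem comm_eq : ⁅R, R⁆ = phi.range := by
  apply le_antisymm comm_le
  have h1 : phi.range = Subgroup.map phi ⁅(⊤ : Subgroup PL28p.P.Grp), ⊤⁆ := by
    rw [MonoidHom.range_eq_map]
    congr 1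
    exact commutator_P.symm
  rw [h1, Subgroup.map_commutator, ← MonoidHom.range_eq_map]
  exact Subgroup.commutator_mono range_le range_le

/-- the derived subgroup of `²G₂(3)` is a copy of the presented group -/
theorem equiv_commutator : Nonempty (commutator ↥(twistedG2 (ZMod 3) 1) ≃* PL28p.P.Grp) := by
  have e1 : commutator ↥R ≃* (commutator ↥R).map R.subtype :=
    Subgroup.equivMapOfInjective _ _ R.subtype_injective
  have e2 : (commutator ↥R).map R.subtype ≃* phi.range :=
    MulEquiv.subgroupCongr (by rw [Subgroup.map_subtype_commutator, comm_eq])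
  exact ⟨(e1.trans e2).trans (MonoidHom.ofInjective phi_injective).symm⟩

end Cfsg.Agent.Lib.Helper4.G2Ree3
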