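import Mathlib
import Cfsg.Agent.Lib.Helper4.GH7B8Nab1

set_option autoImplicit false
set_option linter.unusedVariables false
set_option linter.unusedSectionVars false
set_option linter.style.longLine false

/-! # GH7 = S3105 tool: `L = SL(3,2)` acting on 8 points, generalisation of `fixed_of_order4_fixed` -/

namespace Cfsg.Agent.Lib.Helper4.GH7

open Cfsg.Agent.Lib.Helper2.GH7

universe u v

/-- `L` acting on 8 points: if an element whose order does not divide 21 (e.g. a nontrivial 2-element) fixes a point,
then `L` fixes a point. -/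
theorem fixed_of_two_elt_fixed {X : Type v} [MulAction L X] (hX : Nat.card X = 8) (l : L)
    (hl : ¬ orderOf l ∣ 21) (p : X) (hp : l • p = p) : ∃ p₀ : X, ∀ g : L, g • p₀ = p₀ := by
  classical
  haveI : Finite X := Nat.finite_of_card_ne_zero (by rw [hX]; norm_num)
  haveI : Fintype X := Fintype.ofFinite X
  have hcardL : Nat.card L = 168 := Cfsg.Agent.Lib.Helper1.Dv.card_SL32
  haveI hsimple : IsSimpleGroup L := Cfsg.Agent.Lib.Helper1.Dv.simple_SL32
  -- orbit-stabiliser
  have h1 : Nat.card (MulAction.orbit L p) * Nat.card (MulAction.stabilizer L p) = 168 := by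
    rw [← Nat.card_prod, Nat.card_congr (MulAction.orbitProdStabilizerEquivGroup L p), hcardL]
  have h2 : orderOf l ∣ Nat.card (MulAction.stabilizer L p) := by
    have hmem : l ∈ MulAction.stabilizer L p := hp
    have := orderOf_dvd_natCard (⟨l, hmem⟩ : MulAction.stabilizer L p)
    rwa [Subgroup.orderOf_mk] at this
  have h3 : Nat.card (MulAction.orbit L p) ≤ 8 := by
    rw [← hX]
    exact Finite.card_subtype_le _
  -- small orbits are trivial
  have hsmall : Nat.card (MulAction.orbit L p) ≤ 6 → ∀ g : L, g • p = p := by
    intro hle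
    let φ : L →* Equiv.Perm (MulAction.orbit L p) := MulAction.toPermHom L (MulAction.orbit L p)
    rcases (φ.normal_ker).eq_bot_or_eq_top with hb | ht
    · exfalso
      have hinj : Function.Injective φ := (MonoidHom.ker_eq_bot_iff φ).mp hb
      have hdvd := Subgroup.card_dvd_of_injective φ hinj
      rw [hcardL, Nat.card_eq_fintype_card, Fintype.card_perm, ← Nat.card_eq_fintype_card] at hdvd
      have h4 : (Nat.card (MulAction.orbit L p)).factorial ∣ (6 : ℕ).factorial :=
        Nat.factorial_dvd_factorial hle
      have h5 : 168 ∣ (6 : ℕ).factorial := dvd_trans hdvd h4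
      revert h5
      decide
    · intro g
      have hg : g ∈ φ.ker := by rw [ht]; exact Subgroup.mem_top g
      have h4 : φ g = 1 := MonoidHom.mem_ker.mp hg
      have h5 : φ g ⟨p, MulAction.mem_orbit_self p⟩ = ⟨p, MulAction.mem_orbit_self p⟩ := by
        rw [h4]; rfl
      exact congrArg Subtype.val h5
  by_cases hle : Nat.card (MulAction.orbit L p) ≤ 6
  · exact ⟨p, hsmall hle⟩
  · -- the orbit has 7 points
    have h7 : Nat.card (MulAction.orbit L p) = 7 := by
      have h8 : Nat.card (MulAction.orbit L p) = 7 ∨ Nat.card (MulAction.orbit L p) = 8 := by omega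
      rcases h8 with h8 | h8
      · exact h8
      · exfalso
        rw [h8] at h1
        have h9 : Nat.card (MulAction.stabilizer L p) = 21 := by omega
        rw [h9] at h2
        exact hl h2
    -- a point outside the orbit
    have hex : ∃ p₀ : X, p₀ ∉ MulAction.orbit L p := by
      by_contra hcon
      push_neg at hcon
      have : Nat.card (MulAction.orbit L p) = Nat.card X :=
        Nat.card_congr (Equiv.subtypeUnivEquiv hcon)
      omega
    obtain ⟨p₀, hp₀⟩ := hex
    refine ⟨p₀, fun g => ?_⟩
    by_contra hne
    have hgp₀ : g • p₀ ∉ MulAction.orbit L p := by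
      intro h
      apply hp₀
      have : p₀ = g⁻¹ • (g • p₀) := by rw [inv_smul_smul]
      rw [this]
      exact MulAction.mem_orbit_of_mem_orbit g⁻¹ h
    -- count: orbit ∪ {p₀, g p₀} has 9 points
    have hfin : (MulAction.orbit L p).toFinset.card = 7 := by
      rw [Set.toFinset_card, ← Nat.card_eq_fintype_card, h7]
    have h9 : (insert p₀ (insert (g • p₀) (MulAction.orbit L p).toFinset)).card = 9 := by
      rw [Finset.card_insert_of_notMem, Finset.card_insert_of_notMem, hfin]
      · simpa using hgp₀
      · simp only [Finset.mem_insert, Set.mem_toFinset, not_or]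
        exact ⟨fun h => hne h.symm, hp₀⟩
    have h10 := Finset.card_le_univ (insert p₀ (insert (g • p₀) (MulAction.orbit L p).toFinset))
    rw [h9, ← Nat.card_eq_fintype_card, hX] at h10
    omega

/-- the same for involutions -/
theorem fixed_of_invol_fixed {X : Type v} [MulAction L X] (hX : Nat.card X = 8) (l : L)
    (hl1 : l ≠ 1) (hl2 : l * l = 1) (p : X) (hp : l • p = p) : ∃ p₀ : X, ∀ g : L, g • p₀ = p₀ := by
  apply fixed_of_two_elt_fixed hX l _ p hp
  have h2 : orderOf l = 2 := orderOf_eq_prime (by rw [sq]; exact hl2) hl1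
  rw [h2]
  decide

end Cfsg.Agent.Lib.Helper4.GH7
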