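import Mathlib
import Cfsg.Agent.Lib.Helper4.GL2Cusp2
import Cfsg.Agent.Lib.Helper4.SLCard
import Cfsg.Agent.Lib.Helper4.ConjClass

set_option autoImplicit false

namespace Cfsg.Agent.Lib.Helper4

open Matrix Cfsg.Agent.S2308
open scoped MatrixGroups Pointwise

variable {F : Type*} [Field F]

/-- the unipotent one-parameter subgroup of `GL₂` -/
noncomputable def uGL (F : Type*) [Field F] : Multiplicative F →* GL (Fin 2) F where
  toFun b := mkGL 1 1 (Multiplicative.toAdd b)
  map_one' := mkGL_one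
  map_mul' a b := by
    rw [mkGL_mul]
    simp [add_comm]

theorem uGL_apply (b : Multiplicative F) : uGL F b = mkGL 1 1 (Multiplicative.toAdd b) := rfl

theorem uGL_injective : Function.Injective (uGL F) := by
  intro a b hab
  exact Multiplicative.toAdd.injective (mkGL_injective _ _ _ _ _ _ hab).2.2

/-- the upper unitriangular subgroup of `GL₂` -/
noncomputable def unipGL (F : Type*) [Field F] : Subgroup (GL (Fin 2) F) := (uGL F).range

theorem mem_unipGL_iff (g : GL (Fin 2) F) : g ∈ unipGL F ↔ ∃ b : F, g = mkGL 1 1 b := by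
  constructor
  · rintro ⟨b, rfl⟩
    exact ⟨Multiplicative.toAdd b, rfl⟩
  · rintro ⟨b, rfl⟩
    exact ⟨Multiplicative.ofAdd b, rfl⟩

theorem card_unipGL [Fintype F] : Nat.card (unipGL F) = Fintype.card F := by
  have e : Multiplicative F ≃* unipGL F := MonoidHom.ofInjective uGL_injective
  rw [← Nat.card_congr e.toEquiv, Nat.card_eq_fintype_card]
  exact Fintype.card_congr Multiplicative.toAdd

/-- if `k u(b) = u(b') k` with `b ≠ 0` then `k` is upper triangular -/
theorem mem_borel_of_semiconj (k : GL (Fin 2) F) (b b' : F) (hb : b ≠ 0)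
    (h : k * mkGL 1 1 b = mkGL 1 1 b' * k) : k ∈ Cfsg.upperTriangularGL 2 F := by
  rw [mem_B_iff]
  rw [gl2_ext_iff] at h
  have h11 := h.2.2.2
  simp only [Matrix.GeneralLinearGroup.coe_mul, mkGL_coe, Matrix.mul_apply, Fin.sum_univ_two,
    Matrix.of_apply, Matrix.cons_val', Matrix.cons_val_zero, Matrix.cons_val_one,
    Matrix.cons_val_fin_one, Units.val_one] at h11
  have : (k : Matrix (Fin 2) (Fin 2) F) 1 0 * b = 0 := by linear_combination h11
  rcases mul_eq_zero.mp this with h0 | h0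
  · exact h0
  · exact absurd h0 hb

theorem borel_conj_unip (g : GL (Fin 2) F) (hg : g ∈ Cfsg.upperTriangularGL 2 F) (b : F) :
    ∃ b' : F, g * mkGL 1 1 b * g⁻¹ = mkGL 1 1 b' := by
  obtain ⟨a, d, u, rfl⟩ := exists_mkGL g hg
  refine ⟨(a : F) * b * ((d : F))⁻¹, ?_⟩
  rw [mul_inv_eq_iff_eq_mul, mkGL_mul, mkGL_mul]
  rw [gl2_ext_iff]
  simp only [mkGL_coe, Matrix.of_apply, Matrix.cons_val', Matrix.cons_val_zero, Matrix.cons_val_one,
    Matrix.cons_val_fin_one, Units.val_mul, Units.val_one]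
  refine ⟨by ring, ?_, trivial, by ring⟩
  have hd : (d : F) ≠ 0 := d.ne_zero
  field_simp
  ring

theorem normalizer_unipGL :
    Subgroup.normalizer ((unipGL F : Subgroup (GL (Fin 2) F)) : Set (GL (Fin 2) F)) =
      Cfsg.upperTriangularGL 2 F := by
  ext g
  rw [Subgroup.mem_normalizer_iff]
  constructor
  · intro h
    have h1 : mkGL 1 1 (1 : F) ∈ unipGL F := (mem_unipGL_iff _).mpr ⟨1, rfl⟩
    have h2 := (h _).mp h1
    obtain ⟨b', hb'⟩ := (mem_unipGL_iff _).mp h2
    apply mem_borel_of_semiconj g 1 b' one_ne_zero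
    rw [← hb', inv_mul_cancel_right]
  · intro hg x
    constructor
    · intro hx
      obtain ⟨b, rfl⟩ := (mem_unipGL_iff _).mp hx
      obtain ⟨b', hb'⟩ := borel_conj_unip g hg b
      exact (mem_unipGL_iff _).mpr ⟨b', hb'⟩
    · intro hx
      obtain ⟨b, hb⟩ := (mem_unipGL_iff _).mp hx
      have hg' : g⁻¹ ∈ Cfsg.upperTriangularGL 2 F := inv_mem hg
      obtain ⟨b', hb'⟩ := borel_conj_unip g⁻¹ hg' b
      rw [← hb, inv_inv] at hb'
      have : x = mkGL 1 1 b' := by
        rw [← hb']; group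
      exact (mem_unipGL_iff _).mpr ⟨b', this⟩


section finite

variable [Fintype F] (p : ℕ) [Fact p.Prime] [CharP F p]

theorem card_GL2_param (t : ℕ) (ht : Fintype.card F = t + 2) :
    Nat.card (GL (Fin 2) F) = (t + 2) * (t + 1) * (t + 1) * (t + 3) := by
  rw [card_GL2, ht]
  have h1 : (t + 2) ^ 2 - 1 = (t + 1) * (t + 3) := Nat.sub_eq_of_eq_add (by ring)
  have h2 : (t + 2) ^ 2 - (t + 2) = (t + 2) * (t + 1) := Nat.sub_eq_of_eq_add (by ring)
  rw [h1, h2]; ring

theorem exists_card_param : ∃ t, Fintype.card F = t + 2 :=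
  Nat.exists_eq_add_of_le' (Fintype.one_lt_card (α := F))

omit [Fact p.Prime] in
theorem isPGroup_unipGL : IsPGroup p (unipGL F) := by
  obtain ⟨n, -, hn⟩ := FiniteField.card F p
  exact IsPGroup.of_card (n := n) (by rw [card_unipGL, hn])

omit [Fact p.Prime] in
theorem not_dvd_index_unipGL : ¬ p ∣ (unipGL F).index := by
  obtain ⟨n, hp, hn⟩ := FiniteField.card F p
  obtain ⟨t, ht⟩ := exists_card_param (F := F)
  intro hdvd
  have h1 := (unipGL F).card_mul_index
  rw [card_unipGL, card_GL2_param t ht, ht] at h1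
  have h2 : (unipGL F).index = (t + 1) * (t + 1) * (t + 3) := by
    apply Nat.eq_of_mul_eq_mul_left (show 0 < t + 2 by omega)
    rw [h1]; ring
  rw [h2] at hdvd
  have hpq : p ∣ t + 2 := by
    rw [← ht, hn]; exact dvd_pow_self p n.ne_zero
  have hp2 : 2 ≤ p := hp.two_le
  rcases (Nat.Prime.dvd_mul hp).mp hdvd with h | h
  · rcases (Nat.Prime.dvd_mul hp).mp h with h | h
    · have := (Nat.dvd_sub hpq h)
      rw [show t + 2 - (t + 1) = 1 by omega] at this
      exact hp.one_lt.ne' (Nat.dvd_one.mp this)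
    · have := (Nat.dvd_sub hpq h)
      rw [show t + 2 - (t + 1) = 1 by omega] at this
      exact hp.one_lt.ne' (Nat.dvd_one.mp this)
  · have := (Nat.dvd_sub h hpq)
    rw [show t + 3 - (t + 2) = 1 by omega] at this
    exact hp.one_lt.ne' (Nat.dvd_one.mp this)

/-- the upper unitriangular Sylow subgroup of `GL₂` -/
noncomputable def sylowUnipGL : Sylow p (GL (Fin 2) F) :=
  (isPGroup_unipGL p).toSylow (not_dvd_index_unipGL p)

theorem sylowUnipGL_coe : ((sylowUnipGL p : Sylow p (GL (Fin 2) F)) : Subgroup (GL (Fin 2) F)) =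
    unipGL F := rfl

theorem card_sylow_GL2 : Nat.card (Sylow p (GL (Fin 2) F)) = Fintype.card F + 1 := by
  obtain ⟨t, ht⟩ := exists_card_param (F := F)
  rw [(sylowUnipGL p).card_eq_index_normalizer]
  change (Subgroup.normalizer ((unipGL F : Subgroup (GL (Fin 2) F)) : Set (GL (Fin 2) F))).index = _
  rw [normalizer_unipGL]
  have h1 := (Cfsg.upperTriangularGL 2 F).card_mul_index
  rw [card_borelGL2, card_GL2_param t ht, ht] at h1
  rw [ht]
  have h3 : t + 2 - 1 = t + 1 := by omega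
  rw [h3] at h1
  apply Nat.eq_of_mul_eq_mul_left (show 0 < (t + 1) * ((t + 1) * (t + 2)) by positivity)
  rw [h1]; ring

theorem card_normalizer_sylow_GL2 (P : Sylow p (GL (Fin 2) F)) :
    Nat.card (Subgroup.normalizer ((P : Subgroup (GL (Fin 2) F)) : Set (GL (Fin 2) F))) =
      Fintype.card F * (Fintype.card F - 1) ^ 2 := by
  obtain ⟨t, ht⟩ := exists_card_param (F := F)
  have h1 := (Subgroup.normalizer ((P : Subgroup (GL (Fin 2) F)) : Set (GL (Fin 2) F))).card_mul_index
  have h0 : Nat.card (Sylow p (GL (Fin 2) F)) =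
      (Subgroup.normalizer ((P : Subgroup (GL (Fin 2) F)) : Set (GL (Fin 2) F))).index :=
    P.card_eq_index_normalizer
  rw [← h0, card_sylow_GL2, card_GL2_param t ht, ht] at h1
  rw [ht, show t + 2 - 1 = t + 1 by omega]
  apply Nat.eq_of_mul_eq_mul_right (show 0 < t + 2 + 1 by omega)
  rw [h1]; ring


omit [Fact p.Prime] in
theorem mem_smul_sylow_iff {G : Type*} [Group G] (g x : G) (P : Sylow p G) :
    x ∈ g • P ↔ g⁻¹ * x * g ∈ P := by
  change x ∈ ((g • P : Sylow p G) : Subgroup G) ↔ _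
  rw [Sylow.coe_subgroup_smul, Subgroup.mem_pointwise_smul_iff_inv_smul_mem, MulAut.smul_def,
    MulAut.inv_apply, MulAut.conj_symm_apply]
  rfl

/-- every element of a Sylow `p`-subgroup of `GL₂` is conjugate to a unipotent element -/
theorem exists_conj_unip (P : Sylow p (GL (Fin 2) F)) :
    ∃ g : GL (Fin 2) F, g • sylowUnipGL p = P ∧
      ∀ x ∈ P, ∃ b : F, g⁻¹ * x * g = mkGL 1 1 b := by
  obtain ⟨g, hg⟩ := MulAction.exists_smul_eq (GL (Fin 2) F) (sylowUnipGL p) P
  refine ⟨g, hg, fun x hx => ?_⟩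
  rw [← hg, mem_smul_sylow_iff] at hx
  exact (mem_unipGL_iff _).mp hx

theorem sylow_GL2_inf_eq_bot (P Q : Sylow p (GL (Fin 2) F)) (h : P ≠ Q) :
    (P : Subgroup (GL (Fin 2) F)) ⊓ (Q : Subgroup (GL (Fin 2) F)) = ⊥ := by
  rw [Subgroup.eq_bot_iff_forall]
  rintro x ⟨hxP, hxQ⟩
  by_contra hx1
  obtain ⟨g, hg, hgP⟩ := exists_conj_unip p P
  obtain ⟨k, hk, hkQ⟩ := exists_conj_unip p Q
  obtain ⟨b, hb⟩ := hgP x hxP
  obtain ⟨b', hb'⟩ := hkQ x hxQ
  have hb0 : b ≠ 0 := by
    rintro rfl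
    rw [mkGL_one] at hb
    apply hx1
    have : x = g * 1 * g⁻¹ := by rw [← hb]; group
    rw [this]; group
  apply h
  -- `k⁻¹ g` normalizes the unipotent subgroup
  have hsemi : (k⁻¹ * g) * mkGL 1 1 b = mkGL 1 1 b' * (k⁻¹ * g) := by
    rw [← hb, ← hb']; group
  have hmem := mem_borel_of_semiconj _ b b' hb0 hsemi
  rw [← normalizer_unipGL] at hmem
  have hfix : (k⁻¹ * g) • sylowUnipGL p = sylowUnipGL p :=
    Sylow.smul_eq_iff_mem_normalizer.mpr hmem
  rw [← hg, ← hk]
  rw [mul_smul] at hfix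
  calc g • sylowUnipGL p = k • (k⁻¹ • g • sylowUnipGL p) := by rw [smul_inv_smul]
    _ = k • sylowUnipGL p := by rw [hfix]


omit [Fintype F] in
theorem mem_centralizer_unip_iff (b : F) (hb : b ≠ 0) (k : GL (Fin 2) F) :
    k ∈ Subgroup.centralizer ({mkGL 1 1 b} : Set (GL (Fin 2) F)) ↔
      ∃ (a : Fˣ) (u : F), k = mkGL a a u := by
  rw [Subgroup.mem_centralizer_singleton_iff]
  constructor
  · intro h
    have hB := mem_borel_of_semiconj k b b hb h
    obtain ⟨a, d, u, rfl⟩ := exists_mkGL k hB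
    rw [mkGL_mul, mkGL_mul] at h
    have h3 := (mkGL_injective _ _ _ _ _ _ h).2.2
    simp only [Units.val_one, one_mul, mul_one] at h3
    have had : (a : F) = d := by
      have : b * ((a : F) - d) = 0 := by linear_combination h3
      rcases mul_eq_zero.mp this with h0 | h0
      · exact absurd h0 hb
      · linear_combination h0
    have : a = d := Units.ext had
    subst this
    exact ⟨a, u, rfl⟩
  · rintro ⟨a, u, rfl⟩
    rw [mkGL_mul, mkGL_mul]
    congr 1
    · rw [mul_comm]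
    · rw [mul_comm]
    · simp only [Units.val_one, one_mul, mul_one]; ring

theorem card_centralizer_unip (b : F) (hb : b ≠ 0) :
    Nat.card (Subgroup.centralizer ({mkGL 1 1 b} : Set (GL (Fin 2) F))) =
      Fintype.card F * (Fintype.card F - 1) := by
  classical
  let f : Fˣ × F → Subgroup.centralizer ({mkGL 1 1 b} : Set (GL (Fin 2) F)) := fun x =>
    ⟨mkGL x.1 x.1 x.2, (mem_centralizer_unip_iff b hb _).mpr ⟨x.1, x.2, rfl⟩⟩
  have hf : Function.Bijective f := by
    constructor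
    · rintro ⟨a, u⟩ ⟨a', u'⟩ h
      have := mkGL_injective _ _ _ _ _ _ (congrArg Subtype.val h)
      simp only at this
      rw [this.1, this.2.2]
    · rintro ⟨k, hk⟩
      obtain ⟨a, u, rfl⟩ := (mem_centralizer_unip_iff b hb _).mp hk
      exact ⟨(a, u), rfl⟩
  rw [← Nat.card_congr (Equiv.ofBijective f hf), Nat.card_prod, Nat.card_units,
    Nat.card_eq_fintype_card, mul_comm]

theorem card_centralizer_sylow_elt (P : Sylow p (GL (Fin 2) F)) (a : GL (Fin 2) F) (ha : a ∈ P)
    (ha1 : a ≠ 1) :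
    Nat.card (Subgroup.centralizer ({a} : Set (GL (Fin 2) F))) =
      Fintype.card F * (Fintype.card F - 1) := by
  obtain ⟨g, -, hgP⟩ := exists_conj_unip p P
  obtain ⟨b, hb⟩ := hgP a ha
  have hb0 : b ≠ 0 := by
    rintro rfl
    rw [mkGL_one] at hb
    apply ha1
    have : a = g * 1 * g⁻¹ := by rw [← hb]; group
    rw [this]; group
  have hconj : IsConj (mkGL 1 1 b) a := by
    rw [isConj_iff]
    refine ⟨g, ?_⟩
    rw [← hb]; group
  rw [← card_centralizer_eq_of_isConj hconj, card_centralizer_unip b hb0]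

end finite

end Cfsg.Agent.Lib.Helper4
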