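import Mathlib

set_option autoImplicit false

namespace Cfsg.Agent.Lib.Helper4.GL52

open Matrix

/-- The natural action of `GL₅(𝔽₂)` on column vectors. -/
@[reducible] def glAction : MulAction (GL (Fin 5) (ZMod 2)) (Fin 5 → ZMod 2) where
  smul g v := (g : Matrix (Fin 5) (Fin 5) (ZMod 2)).mulVec v
  one_smul v := by
    show (((1 : GL (Fin 5) (ZMod 2)) : Matrix (Fin 5) (Fin 5) (ZMod 2))).mulVec v = v
    simp
  mul_smul g h v := by
    show ((g * h : GL (Fin 5) (ZMod 2)) : Matrix (Fin 5) (Fin 5) (ZMod 2)).mulVec v =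
      (g : Matrix (Fin 5) (Fin 5) (ZMod 2)).mulVec ((h : Matrix (Fin 5) (Fin 5) (ZMod 2)).mulVec v)
    simp [Matrix.mulVec_mulVec]

attribute [local instance] glAction

theorem smul_def (g : GL (Fin 5) (ZMod 2)) (v : Fin 5 → ZMod 2) :
    g • v = (g : Matrix (Fin 5) (Fin 5) (ZMod 2)).mulVec v := rfl

/-- Fixed vectors of `B` form a submodule. -/
def fixSub (B : GL (Fin 5) (ZMod 2)) : Submodule (ZMod 2) (Fin 5 → ZMod 2) where
  carrier := {v | B • v = v}
  add_mem' := by
    intro a b ha hb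
    simp only [Set.mem_setOf_eq, smul_def] at *
    rw [Matrix.mulVec_add, ha, hb]
  zero_mem' := by
    simp only [Set.mem_setOf_eq, smul_def]
    rw [Matrix.mulVec_zero]
  smul_mem' := by
    intro c a ha
    simp only [Set.mem_setOf_eq, smul_def] at *
    rw [Matrix.mulVec_smul, ha]

theorem mem_fixSub (B : GL (Fin 5) (ZMod 2)) (v : Fin 5 → ZMod 2) : v ∈ fixSub B ↔ B • v = v :=
  Iff.rfl

/-- The moved vectors of `A^3` as a sub-action of `zpowers A`. -/
def moved (A : GL (Fin 5) (ZMod 2)) : SubMulAction (Subgroup.zpowers A) (Fin 5 → ZMod 2) where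
  carrier := {v | (A ^ 3) • v ≠ v}
  smul_mem' := by
    rintro ⟨g, hg⟩ v hv
    simp only [Set.mem_setOf_eq] at *
    intro h
    apply hv
    have hc : A ^ 3 * g = g * A ^ 3 := by
      obtain ⟨k, rfl⟩ := Subgroup.mem_zpowers_iff.1 hg
      have : Commute (A ^ 3) (A ^ k) := (Commute.refl A).pow_left 3 |>.zpow_right k
      exact this.eq
    have h' : (A ^ 3) • (g • v) = g • v := h
    rw [← mul_smul, hc, mul_smul] at h'
    exact smul_left_cancel g h'

theorem mem_moved (A : GL (Fin 5) (ZMod 2)) (v : Fin 5 → ZMod 2) :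
    v ∈ moved A ↔ (A ^ 3) • v ≠ v := Iff.rfl

theorem stabilizer_eq_bot (A : GL (Fin 5) (ZMod 2)) (h9 : A ^ 9 = 1) (v : moved A) :
    MulAction.stabilizer (Subgroup.zpowers A) v = ⊥ := by
  rw [Subgroup.eq_bot_iff_forall]
  rintro ⟨g, hg⟩ hgv
  rw [MulAction.mem_stabilizer_iff] at hgv
  have hgv' : g • (v : Fin 5 → ZMod 2) = v := congrArg Subtype.val hgv
  obtain ⟨k, rfl⟩ := Subgroup.mem_zpowers_iff.1 hg
  apply Subtype.ext
  show A ^ k = 1
  set S := MulAction.stabilizer (GL (Fin 5) (ZMod 2)) (v : Fin 5 → ZMod 2) with hS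
  have hk : A ^ k ∈ S := hgv'
  have hgcd : A ^ ((Int.gcd k 9 : ℕ) : ℤ) ∈ S := by
    rw [Int.gcd_eq_gcd_ab k 9, _root_.zpow_add, _root_.zpow_mul, _root_.zpow_mul]
    apply S.mul_mem (S.zpow_mem hk _)
    have : A ^ (9 : ℤ) = 1 := by exact_mod_cast h9
    rw [this, _root_.one_zpow]
    exact S.one_mem
  have hdvd : Int.gcd k 9 ∣ 9 := Int.gcd_dvd_right k 9 |> Int.natCast_dvd_natCast.1 |> fun h => by simpa using h
  have hv : (A ^ 3) • (v : Fin 5 → ZMod 2) ≠ v := v.2
  have hle : Int.gcd k 9 ≤ 9 := Nat.le_of_dvd (by norm_num) hdvd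
  have hpos : 0 < Int.gcd k 9 := Nat.pos_of_dvd_of_pos hdvd (by norm_num)
  rw [zpow_natCast] at hgcd
  have h3 : ¬ (A ^ 3 ∈ S) := fun h => hv h
  interval_cases hg' : Int.gcd k 9
  · exfalso; apply h3
    have := S.pow_mem hgcd 3
    simpa using this
  · omega
  · exact absurd hgcd h3
  · omega
  · omega
  · omega
  · omega
  · omega
  · have h9k : (9 : ℤ) ∣ k := by
      have := Int.gcd_dvd_left k 9
      rw [hg'] at this
      exact_mod_cast this
    obtain ⟨c, rfl⟩ := h9k
    rw [_root_.zpow_mul]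
    have : A ^ (9 : ℤ) = 1 := by exact_mod_cast h9
    rw [this, _root_.one_zpow]

theorem pow_three_eq_one (A : GL (Fin 5) (ZMod 2)) (h9 : A ^ 9 = 1) : A ^ 3 = 1 := by
  classical
  by_contra h3
  have hord : orderOf A = 9 := by
    have := orderOf_eq_prime_pow (p := 3) (n := 1) (x := A) (by simpa using h3) (by simpa using h9)
    simpa using this
  have e := MulAction.selfEquivOrbitsQuotientProd (G := Subgroup.zpowers A) (X := moved A)
    (stabilizer_eq_bot A h9)
  have hcard : Nat.card (moved A) =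
      Nat.card (Quotient (MulAction.orbitRel (Subgroup.zpowers A) (moved A))) * 9 := by
    rw [Nat.card_congr e, Nat.card_prod, Nat.card_zpowers, hord]
  -- complement
  have hcompl : Nat.card (moved A) + Nat.card (fixSub (A ^ 3)) = 32 := by
    have h1 : Nat.card (Fin 5 → ZMod 2) = 32 := by
      rw [Nat.card_eq_fintype_card]; simp
    rw [← h1, Nat.card_eq_fintype_card, Nat.card_eq_fintype_card, Nat.card_eq_fintype_card]
    have : Fintype.card (moved A) = Fintype.card {v : Fin 5 → ZMod 2 // ¬ (v ∈ fixSub (A ^ 3))} := by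
      apply Fintype.card_congr
      exact Equiv.subtypeEquivRight (fun v => by rw [mem_fixSub]; rfl)
    rw [this, add_comm]
    exact Fintype.card_subtype_compl (fun v => v ∈ fixSub (A ^ 3)) |> fun h => by
      rw [h]
      have hle : Fintype.card {v : Fin 5 → ZMod 2 // v ∈ fixSub (A ^ 3)} ≤
          Fintype.card (Fin 5 → ZMod 2) := Fintype.card_subtype_le _
      have : Fintype.card (fixSub (A ^ 3)) = Fintype.card {v : Fin 5 → ZMod 2 // v ∈ fixSub (A ^ 3)} :=
        Fintype.card_congr (Equiv.refl _)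
      omega
  have hpow : Nat.card (fixSub (A ^ 3)) = 2 ^ Module.finrank (ZMod 2) (fixSub (A ^ 3)) := by
    rw [Nat.card_eq_fintype_card, Module.card_eq_pow_finrank (K := ZMod 2) (V := fixSub (A ^ 3))]
    simp
  have hfr : Module.finrank (ZMod 2) (fixSub (A ^ 3)) ≤ 5 := by
    have := Submodule.finrank_le (fixSub (A ^ 3))
    simpa using this
  -- nonempty moved
  have hne : 0 < Nat.card (moved A) := by
    have : ∃ v : Fin 5 → ZMod 2, (A ^ 3) • v ≠ v := by
      by_contra hall
      push Not at hall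
      apply h3
      apply Units.ext
      apply Matrix.mulVec_injective
      funext v
      have := hall v
      rw [smul_def] at this
      rw [this]
      simp
    obtain ⟨v, hv⟩ := this
    haveI : Nonempty (moved A) := ⟨⟨v, hv⟩⟩
    exact Nat.card_pos
  generalize Module.finrank (ZMod 2) (fixSub (A ^ 3)) = k at hpow hfr
  generalize Nat.card (Quotient (MulAction.orbitRel (Subgroup.zpowers A) (moved A))) = r at hcard
  rw [hpow, hcard] at hcompl
  rw [hcard] at hne
  interval_cases k <;> omega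

end Cfsg.Agent.Lib.Helper4.GL52
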