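import Mathlib
import Cfsg.Prelude.Def_SporCoxeter

/-! The unitary group GU4(2) = 3 x U4(2) of order 77760 presented on generators `a`, `b` of the subgroup U4(2) (satisfying the relators of `U42p`) and a central element `w` of order 3 (generated). -/

namespace Cfsg.Agent.Lib.Helper4

namespace GU42p

/-- the generators -/
inductive Gen
  | a
  | b
  | w
  deriving DecidableEq

abbrev a : FreeGroup Gen := FreeGroup.of Gen.a
abbrev b : FreeGroup Gen := FreeGroup.of Gen.b
abbrev w : FreeGroup Gen := FreeGroup.of Gen.w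

/-- no Coxeter graph -/
def edges : List (Gen × ℕ × Gen) := []

/-- the relators -/
def extra : List (FreeGroup Gen) := [
  a ^ 2,
  b ^ 5,
  (a * b) ^ 9,
  (a⁻¹ * b⁻¹ * a * b) ^ 3,
  (a⁻¹ * b⁻¹ * a⁻¹ * b⁻¹ * a * b * a * b) ^ 2,
  w ^ 3,
  w⁻¹ * a⁻¹ * w * a,
  w⁻¹ * b⁻¹ * w * b ]

end GU42p

end Cfsg.Agent.Lib.Helper4
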