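import Mathlib
import Cfsg.Agent.Lib.Helper6.GUCDefs

set_option autoImplicit false

/-!
Farm GUC (S2646), unit J2: the symmetric part of the kernel has the square root of the size of the
kernel (`(s, s') ↦ s + θ s'` is a bijection for `σ θ ≠ θ`).
-/

namespace Cfsg.Agent.Lib.Helper4.GUC

open Matrix Cfsg.Agent.Lib.Helper6.GLC Cfsg.Agent.Lib.Helper6.GUC

/-- abstract version: a `σ`-semilinear additive involution `τ` on a `K`-space, a `τ`-stable
subspace `P`; then `|{x ∈ P | τ x = x}|² = |P|`. -/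
theorem h4_card_fixed_sq {K M : Type*} [Field K] [AddCommGroup M] [Module K M]
    (σ : K →+* K) (hσ : ∀ a, σ (σ a) = a) (τ : M → M)
    (hadd : ∀ x y, τ (x + y) = τ x + τ y) (hsmul : ∀ (a : K) (x : M), τ (a • x) = σ a • τ x)
    (hinv : ∀ x, τ (τ x) = x) (P : M → Prop)
    (hPadd : ∀ x y, P x → P y → P (x + y)) (hPsmul : ∀ (a : K) (x : M), P x → P (a • x))
    (hPτ : ∀ x, P x → P (τ x)) {θ : K} (hθ : σ θ ≠ θ) :
    Nat.card {x : M // P x ∧ τ x = x} ^ 2 = Nat.card {x : M // P x} := by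
  have hθ' : θ - σ θ ≠ 0 := sub_ne_zero.2 (Ne.symm hθ)
  have hneg : ∀ x, P x → P (-x) := fun x hx => by
    have := hPsmul (-1) x hx
    rwa [neg_one_smul] at this
  have hsub : ∀ x y, P x → P y → P (x - y) := fun x y hx hy => by
    rw [sub_eq_add_neg]; exact hPadd _ _ hx (hneg _ hy)
  have hτneg : ∀ x, τ (-x) = -τ x := fun x => by
    have h := hsmul (-1) x
    rwa [neg_one_smul, map_neg, map_one, neg_one_smul] at h
  have hτsub : ∀ x y, τ (x - y) = τ x - τ y := fun x y => by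
    rw [sub_eq_add_neg, hadd, hτneg, sub_eq_add_neg]
  let f : {x : M // P x ∧ τ x = x} × {x : M // P x ∧ τ x = x} → {x : M // P x} :=
    fun p => ⟨p.1.1 + θ • p.2.1, hPadd _ _ p.1.2.1 (hPsmul _ _ p.2.2.1)⟩
  have hf : Function.Bijective f := by
    constructor
    · rintro ⟨⟨s, hs, hss⟩, ⟨s', hs', hss'⟩⟩ ⟨⟨r, hr, hrr⟩, ⟨r', hr', hrr'⟩⟩ h
      have h1 : s + θ • s' = r + θ • r' := congrArg Subtype.val h
      have h2 : s + σ θ • s' = r + σ θ • r' := by
        have := congrArg τ h1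
        rwa [hadd, hadd, hsmul, hsmul, hss, hss', hrr, hrr'] at this
      have h3 : (θ - σ θ) • s' = (θ - σ θ) • r' := by
        rw [sub_smul, sub_smul]
        have e1 : θ • s' = r + θ • r' - s := by rw [← h1]; abel
        have e2 : σ θ • s' = r + σ θ • r' - s := by rw [← h2]; abel
        rw [e1, e2]; abel
      have h4 : s' = r' := smul_right_injective M hθ' h3
      subst h4
      have h5 : s = r := add_right_cancel h1
      subst h5
      rfl
    · rintro ⟨x, hx⟩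
      have hs'P : P ((θ - σ θ)⁻¹ • (x - τ x)) := hPsmul _ _ (hsub _ _ hx (hPτ _ hx))
      have hs'τ : τ ((θ - σ θ)⁻¹ • (x - τ x)) = (θ - σ θ)⁻¹ • (x - τ x) := by
        rw [hsmul, hτsub, hinv, map_inv₀, map_sub, hσ]
        have e : (σ θ - θ)⁻¹ = -(θ - σ θ)⁻¹ := by
          rw [← neg_sub θ (σ θ), inv_neg]
        rw [e, neg_smul, ← smul_neg, neg_sub]
      have hkey : (θ - σ θ) • ((θ - σ θ)⁻¹ • (x - τ x)) = x - τ x := by
        rw [smul_smul, mul_inv_cancel₀ hθ', one_smul]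
      obtain ⟨y, hyP, hτy, hy⟩ : ∃ y, P y ∧ τ y = y ∧ θ • y - σ θ • y = x - τ x :=
        ⟨_, hs'P, hs'τ, by rw [← sub_smul]; exact hkey⟩
      have hτx : τ x = x - (θ • y - σ θ • y) := by rw [hy]; abel
      have hsP : P (x - θ • y) := hsub _ _ hx (hPsmul _ _ hyP)
      have hsτ : τ (x - θ • y) = x - θ • y := by
        rw [hτsub, hsmul, hτy, hτx]; abel
      refine ⟨(⟨_, hsP, hsτ⟩, ⟨_, hyP, hτy⟩), ?_⟩
      apply Subtype.ext
      show x - θ • y + θ • y = x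
      abel
  rw [sq, ← Nat.card_prod]
  exact Nat.card_congr (Equiv.ofBijective f hf)

variable {K : Type*} [Field K] (σ : K →+* K) {t : ℕ}

theorem h4_dag_add (ε : K) (d : Fin t → ℕ) (x y : Matrix (Idx d) (Idx d) K) :
    dag σ ε d (x + y) = dag σ ε d x + dag σ ε d y := by
  unfold dag
  rw [ct_add, Matrix.mul_add, Matrix.add_mul]

theorem h4_dag_smul (ε : K) (d : Fin t → ℕ) (a : K) (x : Matrix (Idx d) (Idx d) K) :
    dag σ ε d (a • x) = σ a • dag σ ε d x := by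
  unfold dag
  rw [ct_smul, Matrix.mul_smul, Matrix.smul_mul]

theorem h4_piFun_add (d : Fin t → ℕ) (hd : ∀ k, 1 ≤ d k) (N : ℕ)
    (x y : Matrix (Idx d) (Idx d) K) :
    piFun d hd N (x + y) = piFun d hd N x + piFun d hd N y := by
  funext i
  ext k l
  rfl

theorem h4_piFun_smul (d : Fin t → ℕ) (hd : ∀ k, 1 ≤ d k) (N : ℕ) (a : K)
    (x : Matrix (Idx d) (Idx d) K) :
    piFun d hd N (a • x) = a • piFun d hd N x := by
  funext i
  ext k l
  rfl

theorem h4_smul_mem_Rc (d : Fin t → ℕ) (a : K) {x : Matrix (Idx d) (Idx d) K}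
    (hx : x ∈ Rc K d) : a • x ∈ Rc K d := by
  rw [mem_Rc] at hx ⊢
  rw [Matrix.smul_mul, Matrix.mul_smul, hx]

/-- unit J2 with the unit D facts as hypotheses -/
theorem card_symker_sq_of [Fintype K] (d : Fin t → ℕ) (hd : ∀ k, 1 ≤ d k) (N : ℕ)
    (hσ : ∀ a, σ (σ a) = a) {ε : K}
    (hinv : ∀ x : Matrix (Idx d) (Idx d) K, dag σ ε d (dag σ ε d x) = x)
    (hRc : ∀ x : Matrix (Idx d) (Idx d) K, x ∈ Rc K d → dag σ ε d x ∈ Rc K d)
    (hpi : ∀ x : Matrix (Idx d) (Idx d) K, x ∈ Rc K d →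
      piFun d hd N (dag σ ε d x) = ctB σ d N (piFun d hd N x))
    {θ : K} (hθ : σ θ ≠ θ) :
    Nat.card {x : Matrix (Idx d) (Idx d) K // x ∈ Rc K d ∧ piFun d hd N x = 0 ∧
        dag σ ε d x = x} ^ 2 =
      Nat.card {x : Matrix (Idx d) (Idx d) K // x ∈ Rc K d ∧ piFun d hd N x = 0} := by
  have h := h4_card_fixed_sq (M := Matrix (Idx d) (Idx d) K) σ hσ (dag σ ε d)
    (h4_dag_add σ ε d) (h4_dag_smul σ ε d) hinv
    (fun x => x ∈ Rc K d ∧ piFun d hd N x = 0)
    (fun x y hx hy => ⟨(Rc K d).add_mem hx.1 hy.1, by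
      rw [h4_piFun_add, hx.2, hy.2, add_zero]⟩)
    (fun a x hx => ⟨h4_smul_mem_Rc d a hx.1, by rw [h4_piFun_smul, hx.2, smul_zero]⟩)
    (fun x hx => ⟨hRc x hx.1, by
      rw [hpi x hx.1, hx.2]
      funext i
      exact ct_zero σ⟩)
    hθ
  rw [← h]
  congr 1
  exact Nat.card_congr (Equiv.subtypeEquivRight (fun x => and_assoc.symm))

end Cfsg.Agent.Lib.Helper4.GUC
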