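import Mathlib
import Cfsg.Agent.Lib.Helper6.GUCDefs
import Cfsg.Agent.Lib.Helper3.GUCD
import Cfsg.Agent.Lib.Helper4.GUCJ2

set_option autoImplicit false

/-!
Farm GUC (S2646), unit J2, verbatim statement (from `card_symker_sq_of` and helper3's unit D).
-/

namespace Cfsg.Agent.Lib.Helper4.GUC

open Matrix Cfsg.Agent.Lib.Helper6.GLC Cfsg.Agent.Lib.Helper6.GUC

universe u

variable {K : Type u} [Field K] (σ : K →+* K) {t : ℕ}

/-- `(s, s') ↦ s + θ s'` is a bijection `Sym × Sym → J` for `θ` with `σ θ ≠ θ` -/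
theorem card_symker_sq [Fintype K] (d : Fin t → ℕ) (hd : ∀ k, 1 ≤ d k) (N : ℕ)
    (hσ : ∀ a, σ (σ a) = a) {ε : K} (hε0 : ε ≠ 0) (hε : σ ε = -ε)
    {θ : K} (hθ : σ θ ≠ θ) :
    Nat.card {x : Matrix (Idx d) (Idx d) K // x ∈ Rc K d ∧ piFun d hd N x = 0 ∧
        dag σ ε d x = x} ^ 2 =
      Nat.card {x : Matrix (Idx d) (Idx d) K // x ∈ Rc K d ∧ piFun d hd N x = 0} :=
  card_symker_sq_of σ d hd N hσ
    (Cfsg.Agent.Lib.Helper3.GUC.dag_isInvol σ d hσ hε0 hε).invol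
    (fun _ hx => Cfsg.Agent.Lib.Helper3.GUC.dag_mem_Rc σ d hσ hε0 hε hx)
    (fun _ hx => Cfsg.Agent.Lib.Helper3.GUC.piFun_dag σ d hε0 hε hd N hx) hθ

end Cfsg.Agent.Lib.Helper4.GUC
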