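import Cfsg.Agent.Lib.Helper2.HIGDefs
import Cfsg.Agent.Lib.Helper4.HIGF

/-!
HIG farm (S3050), unit UF: packaging into `ActsAsSL2OnSection` (verbatim from the owner's stub).
-/

namespace Cfsg.Agent.Lib.Helper4.HIG

open Cfsg.Agent.Lib.Helper2.HIG

open scoped IsMulCommutative in
/-- UF: packaging into `ActsAsSL2OnSection`. -/
theorem partF {G : Type*} [Group G] [Finite G] (Q : Subgroup G) [hQn : Q.Normal]
    {K : Type*} [Field K] (e : G ⧸ Q ≃* SL2 K) [IsMulCommutative ↥Q]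
    (ρ : SL2 K →* AddMonoid.End (Additive ↥Q))
    (hρ : ∀ (g : G) (a : ↥Q), ρ (e (QuotientGroup.mk g)) (Additive.ofMul a) =
        Additive.ofMul (⟨g * (a : G) * g⁻¹, hQn.conj_mem a a.2 g⟩ : ↥Q))
    (k : ℕ) (Ψ : Additive ↥Q ≃+ (Fin k → Fin 2 → K))
    (hΨ : ∀ (g : SL2 K) (v : Additive ↥Q) (i : Fin k),
        Ψ (ρ g v) i = (g : Matrix (Fin 2) (Fin 2) K).mulVec (Ψ v i)) :
    ∃ V : Fin k → Subgroup G,
      (∀ i, V i ≤ Q ∧ (V i).Normal ∧ Cfsg.ActsAsSL2OnSection K ⊤ ⊤ (V i) ⊥) ∧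
        iSupIndep V ∧ ⨆ i, V i = Q := by
  classical
  -- conjugation in coordinates
  have hconjΨ : ∀ (g : G) (q : Q) (j : Fin k),
      Ψ (Additive.ofMul (⟨g * (q : G) * g⁻¹, hQn.conj_mem q q.2 g⟩ : ↥Q)) j =
        ((e (QuotientGroup.mk g) : Matrix.SpecialLinearGroup (Fin 2) K) :
          Matrix (Fin 2) (Fin 2) K).mulVec (Ψ (Additive.ofMul q) j) := by
    intro g q j
    rw [← hρ]
    exact hΨ (e (QuotientGroup.mk g)) (Additive.ofMul q) j
  have hVQ : ∀ i, (blockSub Ψ i).map Q.subtype ≤ Q := fun i => Subgroup.map_subtype_le _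
  have hVn : ∀ i, ((blockSub Ψ i).map Q.subtype).Normal := by
    intro i
    refine ⟨fun n hn g => ?_⟩
    obtain ⟨q, hq, rfl⟩ := hn
    refine ⟨⟨g * (q : G) * g⁻¹, hQn.conj_mem q q.2 g⟩, ?_, rfl⟩
    intro j hj
    rw [hconjΨ, hq j hj, Matrix.mulVec_zero]
  refine ⟨fun i => (blockSub Ψ i).map Q.subtype, ?_, ?_, ?_⟩
  · intro i
    refine ⟨hVQ i, hVn i, ?_⟩
    have := hVn i
    refine ⟨?_, bot_le, ?_⟩
    · rw [Subgroup.normalizer_eq_top_iff.mpr (hVn i)]
    -- the two maps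
    have hmemQ : ∀ u : ↥((blockSub Ψ i).map Q.subtype), (u : G) ∈ Q := fun u => hVQ i u.2
    have hmemB : ∀ u : ↥((blockSub Ψ i).map Q.subtype),
        (⟨(u : G), hmemQ u⟩ : Q) ∈ blockSub Ψ i := by
      intro u
      obtain ⟨q, hq, hqu⟩ := u.2
      have : (⟨(u : G), hmemQ u⟩ : Q) = q := Subtype.ext hqu.symm
      rw [this]; exact hq
    let ρ' : ↥(⊤ : Subgroup G) →* Matrix.SpecialLinearGroup (Fin 2) K :=
      (e.toMonoidHom.comp (QuotientGroup.mk' Q)).comp (⊤ : Subgroup G).subtype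
    let ψ : ↥((blockSub Ψ i).map Q.subtype) →* Multiplicative (Fin 2 → K) :=
      { toFun := fun u => Multiplicative.ofAdd (Ψ (Additive.ofMul (⟨(u : G), hmemQ u⟩ : Q)) i)
        map_one' := by
          have : (⟨((1 : ↥((blockSub Ψ i).map Q.subtype)) : G), hmemQ 1⟩ : Q) = 1 :=
            Subtype.ext rfl
          rw [this, ofMul_one, map_zero]
          rfl
        map_mul' := fun a b => by
          have : (⟨((a * b : ↥((blockSub Ψ i).map Q.subtype)) : G), hmemQ (a * b)⟩ : Q) =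
              (⟨(a : G), hmemQ a⟩ : Q) * ⟨(b : G), hmemQ b⟩ := Subtype.ext rfl
          rw [this, ofMul_mul, map_add, Pi.add_apply, ofAdd_add] }
    have hψ : ∀ u, Multiplicative.toAdd (ψ u) =
        Ψ (Additive.ofMul (⟨(u : G), hmemQ u⟩ : Q)) i := fun u => rfl
    refine ⟨ρ', ψ, ?_, ?_, ?_, ?_⟩
    · rw [MonoidHom.range_eq_top]
      intro s
      obtain ⟨gq, hgq⟩ := e.surjective s
      obtain ⟨g, rfl⟩ := QuotientGroup.mk_surjective gq
      exact ⟨⟨g, Subgroup.mem_top g⟩, hgq⟩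
    · intro w
      obtain ⟨q, hq, hqw⟩ := blockSub_exists Ψ i (Multiplicative.toAdd w)
      refine ⟨⟨(q : G), ⟨q, hq, rfl⟩⟩, ?_⟩
      apply Multiplicative.toAdd.injective
      rw [hψ]
      exact hqw
    · intro u
      constructor
      · intro h
        have h0 : Ψ (Additive.ofMul (⟨(u : G), hmemQ u⟩ : Q)) i = 0 := by
          rw [← hψ, h]; rfl
        have h1 := blockSub_eq_one Ψ i _ (hmemB u) h0
        rw [Subgroup.mem_bot]
        exact congrArg Subtype.val h1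
      · intro h
        rw [Subgroup.mem_bot] at h
        have h1 : (⟨(u : G), hmemQ u⟩ : Q) = 1 := Subtype.ext h
        apply Multiplicative.toAdd.injective
        rw [hψ, h1, ofMul_one, map_zero]
        rfl
    · intro g u
      have hw : (g : G) * (u : G) * (g : G)⁻¹ ∈ (blockSub Ψ i).map Q.subtype :=
        (hVn i).conj_mem _ u.2 _
      refine ⟨⟨_, hw⟩, rfl, ?_⟩
      rw [hψ, hψ]
      exact hconjΨ (g : G) ⟨(u : G), hmemQ u⟩ i
  · -- independence
    have hind := blockSub_indep Ψ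
    intro i
    have h1 : (⨆ (j) (_ : j ≠ i), (blockSub Ψ j).map Q.subtype) =
        (⨆ (j) (_ : j ≠ i), blockSub Ψ j).map Q.subtype := by
      rw [Subgroup.map_iSup]
      congr 1
      funext j
      rw [Subgroup.map_iSup]
    rw [h1, disjoint_iff, ← Subgroup.map_inf _ _ _ Q.subtype_injective,
      disjoint_iff.mp (hind i), Subgroup.map_bot]
  · rw [← Subgroup.map_iSup, blockSub_iSup, ← MonoidHom.range_eq_map, Subgroup.range_subtype]

end Cfsg.Agent.Lib.Helper4.HIG
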