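import Mathlib

/-!
HIG farm (S3050), sub-lemma for UG2 route (b) (the `ℤ/4` lemma): the `[q^k, p]`-induction as an
abstract statement about two endomorphisms `p, q` of an abelian group `Y` with `4 Y = 0`.
-/

namespace Cfsg.Agent.Lib.Helper4.HIG

theorem pq_lemma {Y : Type*} [AddCommGroup Y] (h4 : ∀ y : Y, (y + y) + (y + y) = 0)
    (p q : AddMonoid.End Y) (N : ℕ) (hN : Odd N)
    (hp1 : ∀ y, y + y = 0 → p y = 0)
    (hp2 : ∀ y, p y + p y = 0)
    (hstar : ∀ y, p (q y) + q (p y) + (q (q y) + q (q y)) + (q y + q y) = 0)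
    (hq1 : ∀ y, y + y = 0 → (q ^ N) y = y)
    (hq2 : ∀ y, ((q ^ N) y - y) + ((q ^ N) y - y) = 0)
    (hc : ∀ y, (q (q y) + q y) + (q (q y) + q y) = 0 → y + y = 0) :
    ∀ y : Y, y + y = 0 := by
  -- ring-level facts in `D = End Y`
  have h4D : (4 : AddMonoid.End Y) = 0 := by
    apply AddMonoidHom.ext
    intro y
    show (4 : AddMonoid.End Y) y = 0
    rw [AddMonoid.End.ofNat_apply]
    have : (4 : ℕ) • y = (y + y) + (y + y) := by
      rw [show (4 : ℕ) = 2 + 2 from rfl, add_nsmul, two_nsmul]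
    rw [this]
    exact h4 y
  have h2P : 2 * p = 0 := by
    apply AddMonoidHom.ext
    intro y
    show (2 : AddMonoid.End Y) (p y) = 0
    rw [AddMonoid.End.ofNat_apply, two_nsmul]
    exact hp2 y
  have hcomm2 : ∀ z : AddMonoid.End Y, (2 : AddMonoid.End Y) * z = z * 2 := by
    intro z
    exact (Nat.cast_commute 2 z).eq
  set C : AddMonoid.End Y := q * q + q with hC
  have hCq : C * q = q * C := by
    rw [hC]; noncomm_ring
  have hCqk : ∀ k : ℕ, C * q ^ k = q ^ k * C := by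
    intro k
    induction k with
    | zero => simp
    | succ k ih => rw [pow_succ, ← mul_assoc, ih, mul_assoc, hCq, ← mul_assoc]
  have hstarD : p * q + q * p + 2 * C = 0 := by
    apply AddMonoidHom.ext
    intro y
    have h := hstar y
    show p (q y) + q (p y) + (2 : AddMonoid.End Y) (C y) = 0
    rw [AddMonoid.End.ofNat_apply, two_nsmul]
    have hCy : C y = q (q y) + q y := rfl
    rw [hCy]
    rw [← h]
    abel
  have hPQ : p * q = -(q * p) - 2 * C := by
    rw [← sub_eq_zero]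
    have h : p * q - (-(q * p) - 2 * C) = p * q + q * p + 2 * C := by abel
    rw [h]
    exact hstarD
  -- the induction
  have hind : ∀ k : ℕ, p * q ^ (k + 1) + q ^ (k + 1) * p + (2 * (k + 1 : ℕ)) * (q ^ k * C) = 0 := by
    intro k
    induction k with
    | zero =>
      simpa using hstarD
    | succ k ih =>
      have e1 : p * q ^ (k + 1) = -(q ^ (k + 1) * p) - (2 * (k + 1 : ℕ)) * (q ^ k * C) := by
        rw [← sub_eq_zero]
        have h : p * q ^ (k + 1) - (-(q ^ (k + 1) * p) - (2 * (k + 1 : ℕ)) * (q ^ k * C)) =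
            p * q ^ (k + 1) + q ^ (k + 1) * p + (2 * (k + 1 : ℕ)) * (q ^ k * C) := by abel
        rw [h]
        exact ih
      have e2 : p * q ^ (k + 1 + 1) = q ^ (k + 1 + 1) * p - (2 * (k : ℕ)) * (q ^ (k + 1) * C) := by
        calc p * q ^ (k + 1 + 1) = (p * q ^ (k + 1)) * q := by rw [pow_succ _ (k + 1), mul_assoc]
          _ = (-(q ^ (k + 1) * p) - (2 * (k + 1 : ℕ)) * (q ^ k * C)) * q := by rw [e1]
          _ = -(q ^ (k + 1) * (p * q)) - (2 * (k + 1 : ℕ)) * (q ^ k * (C * q)) := by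
            noncomm_ring
          _ = -(q ^ (k + 1) * (-(q * p) - 2 * C)) - (2 * (k + 1 : ℕ)) * (q ^ k * (q * C)) := by
            rw [hPQ, hCq]
          _ = q ^ (k + 1 + 1) * p + q ^ (k + 1) * (2 * C)
              - (2 * (k + 1 : ℕ)) * (q ^ (k + 1) * C) := by
            rw [pow_succ _ (k + 1), pow_succ _ k]
            noncomm_ring
          _ = q ^ (k + 1 + 1) * p - (2 * (k : ℕ)) * (q ^ (k + 1) * C) := by
            rw [← mul_assoc (q ^ (k + 1)) 2 C, ← hcomm2 (q ^ (k + 1)), mul_assoc 2]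
            push_cast
            noncomm_ring
      rw [e2]
      have e3 : q ^ (k + 1 + 1) * p + q ^ (k + 1 + 1) * p = 0 := by
        rw [← mul_add, ← two_mul, h2P, mul_zero]
      have e4 : (2 * ((k + 1 + 1 : ℕ) : AddMonoid.End Y)) * (q ^ (k + 1) * C)
          - (2 * (k : ℕ)) * (q ^ (k + 1) * C) = 0 := by
        have : (2 * ((k + 1 + 1 : ℕ) : AddMonoid.End Y)) - 2 * (k : ℕ) = 4 := by
          have h22 : (2 : AddMonoid.End Y) * 2 = 4 := by norm_num
          rw [← h22]
          push_cast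
          rw [← mul_sub]
          congr 1
          rw [add_assoc, add_sub_cancel_left, one_add_one_eq_two]
        rw [← sub_mul, this, h4D, zero_mul]
      calc q ^ (k + 1 + 1) * p - 2 * (k : ℕ) * (q ^ (k + 1) * C) + q ^ (k + 1 + 1) * p +
            2 * ((k + 1 + 1 : ℕ) : AddMonoid.End Y) * (q ^ (k + 1) * C)
          = (q ^ (k + 1 + 1) * p + q ^ (k + 1 + 1) * p) +
            ((2 * ((k + 1 + 1 : ℕ) : AddMonoid.End Y)) * (q ^ (k + 1) * C)
              - (2 * (k : ℕ)) * (q ^ (k + 1) * C)) := by abel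
        _ = 0 := by rw [e3, e4, add_zero]
  intro y
  obtain ⟨k, hk⟩ := hN
  -- N = 2k+1 = (2k) + 1
  have hN' : N = 2 * k + 1 := hk
  have hmain := hind (2 * k)
  rw [← hN'] at hmain
  -- evaluate at `y`
  have hev := DFunLike.congr_fun hmain y
  have hev' : p ((q ^ N) y) + (q ^ N) (p y) +
      ((2 * ((N : ℕ) : AddMonoid.End Y)) * (q ^ (2 * k) * C)) y = 0 := hev
  have hΩq : ∀ z : Y, z + z = 0 → q z + q z = 0 := by
    intro z hz
    rw [← map_add, hz, map_zero]
  have t1 : p ((q ^ N) y) = p y := by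
    have h1 : (q ^ N) y = y + ((q ^ N) y - y) := by abel
    rw [h1, map_add, hp1 _ (hq2 y), add_zero]
  have t2 : (q ^ N) (p y) = p y := hq1 _ (hp2 y)
  set z : Y := (q ^ (2 * k) * C) y with hz
  have t3 : ((2 * ((N : ℕ) : AddMonoid.End Y)) * (q ^ (2 * k) * C)) y = (2 * N) • z := by
    have : (2 * ((N : ℕ) : AddMonoid.End Y)) = ((2 * N : ℕ) : AddMonoid.End Y) := by push_cast; rfl
    rw [this]
    show ((2 * N : ℕ) : AddMonoid.End Y) z = (2 * N) • z
    rw [AddMonoid.End.natCast_apply]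
  rw [t1, t2, t3, hp2 y, zero_add] at hev'
  -- `2 N z = 2 z`
  have hz2 : z + z = 0 := by
    have h5 : (2 * N) • z = z + z + (4 * k) • z := by
      rw [hN', show 2 * (2 * k + 1) = 2 + 4 * k by ring, add_nsmul, two_nsmul]
    have h6 : (4 * k) • z = 0 := by
      rw [mul_nsmul]
      have : (4 : ℕ) • z = 0 := by
        have h7 : (4 : ℕ) • z = (z + z) + (z + z) := by
          rw [show (4 : ℕ) = 2 + 2 from rfl, add_nsmul, two_nsmul]
        rw [h7]; exact h4 z
      rw [this, smul_zero]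
    rw [h5, h6, add_zero] at hev'
    exact hev'
  -- z = C (q^(2k) y)
  have hz' : z = q (q ((q ^ (2 * k)) y)) + q ((q ^ (2 * k)) y) := by
    rw [hz, ← hCqk]
    rfl
  rw [hz'] at hz2
  have h8 : (q ^ (2 * k)) y + (q ^ (2 * k)) y = 0 := hc _ hz2
  have h9 : (q ^ N) y + (q ^ N) y = 0 := by
    have : (q ^ N) y = q ((q ^ (2 * k)) y) := by
      rw [hN', pow_succ']
      rfl
    rw [this]
    exact hΩq _ h8
  have h10 := hq2 y
  have : y + y = ((q ^ N) y + (q ^ N) y) - (((q ^ N) y - y) + ((q ^ N) y - y)) := by abel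
  rw [this, h9, h10, sub_zero]

end Cfsg.Agent.Lib.Helper4.HIG
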