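import Mathlib

/-!
HIG farm (S3050), unit U4: the abstract "two-step" lemma M8 on additive maps
`φ_a : X →+ Y` between `K`-vector spaces satisfying (A), (B), (C), (D).
-/

namespace Cfsg.Agent.Lib.Helper4.HIG

/-- In a finite field of characteristic 2 every element is a square. -/
theorem exists_sq_of_finite_char2 {K : Type*} [Field K] [Finite K] [CharP K 2] (a : K) :
    ∃ m : K, m ^ 2 = a := by
  have hinj : Function.Injective (frobenius K 2) := frobenius_inj K 2
  obtain ⟨m, hm⟩ := Finite.surjective_of_injective hinj a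
  exact ⟨m, by simpa [frobenius_def] using hm⟩

/-- A field with at least 3 elements has an element different from 0 and 1. -/
theorem exists_ne_zero_ne_one_of_card {K : Type*} [Field K] [Finite K]
    (h : 3 ≤ Nat.card K) : ∃ m : K, m ≠ 0 ∧ m ≠ 1 := by
  classical
  have := Fintype.ofFinite K
  by_contra hcon
  push Not at hcon
  have hsub : (Finset.univ : Finset K) ⊆ {0, 1} := by
    intro m _
    by_cases hm : m = 0
    · simp [hm]
    · simp [hcon m hm]
  have hcard := Finset.card_le_card hsub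
  have h2 : ({0, 1} : Finset K).card ≤ 2 := Finset.card_le_two
  rw [Nat.card_eq_fintype_card, ← Finset.card_univ] at h
  omega

theorem m8_phi_zero {K : Type*} [Field K] [CharP K 2]
    (hsq : ∀ a : K, ∃ m : K, m ^ 2 = a) (hK : ∃ m : K, m ≠ 0 ∧ m ≠ 1)
    {X Y : Type*} [AddCommGroup X] [Module K X] [AddCommGroup Y] [Module K Y]
    (φ : K → X →+ Y)
    (hA : ∀ a b, φ (a + b) = φ a + φ b) (h1 : φ 1 = 0)
    (hB : ∀ a b x, b • φ a x + φ a (b • x) = a • φ b x + φ b (a • x))
    (hD : ∀ a x, φ a (a • x) = a • φ a x)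
    (hC : ∀ a c x, c ≠ 0 →
      φ (c ^ 2 * a) x = c • φ a (c⁻¹ • x) + (c * a) • (φ c x + φ c⁻¹ x)) :
    ∀ a, φ a = 0 := by
  -- every `φ b` is `K`-linear
  have hlin : ∀ (b d : K) (x : X), φ b (d • x) = d • φ b x := by
    intro b d x
    obtain ⟨a, rfl⟩ := hsq d
    have E1 := hB a b x
    have E2 := hB a b (a • x)
    have D1 := hD a x
    have D2 := hD a (b • x)
    rw [smul_comm b a x, D2, D1] at E2
    have E1' : a • b • φ a x + a • φ a (b • x) = a • a • φ b x + a • φ b (a • x) := by
      rw [← smul_add, ← smul_add, E1]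
    have h3 : a • φ b (a • x) + φ b (a • a • x) = a • φ b (a • x) + a • a • φ b x := by
      rw [← E2, smul_comm b a, E1', add_comm]
    have h4 := add_left_cancel h3
    rw [pow_two, mul_smul, mul_smul]; exact h4
  -- multiplicativity rule
  have hsqr : ∀ (c : K) (x : X), c ≠ 0 → φ (c ^ 2) x = c • (φ c x + φ c⁻¹ x) := by
    intro c x hc
    have h := hC 1 c x hc
    rw [mul_one, h1] at h
    simpa using h
  have hmul : ∀ (m a : K) (x : X), m ≠ 0 → φ (m * a) x = φ a x + a • φ m x := by
    intro m a x hm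
    obtain ⟨c, rfl⟩ := hsq m
    have hc : c ≠ 0 := by
      rintro rfl
      exact hm (by simp)
    rw [hC a c x hc, hlin, smul_smul, mul_inv_cancel₀ hc, one_smul, hsqr c x hc, smul_smul,
      mul_comm c a]
  -- symmetry
  have hsymm : ∀ (m a : K) (x : X), m ≠ 0 → a ≠ 0 → (1 - m) • φ a x = (1 - a) • φ m x := by
    intro m a x hm ha
    have e1 := hmul m a x hm
    have e2 := hmul a m x ha
    rw [mul_comm a m, e1] at e2
    -- e2 : φ a x + a • φ m x = φ m x + m • φ a x
    rw [sub_smul, sub_smul, one_smul, one_smul, sub_eq_sub_iff_add_eq_add]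
    exact e2
  obtain ⟨m0, hm0, hm1⟩ := hK
  have h2 : (2 : K) = 0 := CharP.cast_eq_zero K 2 |> fun h => by exact_mod_cast h
  have hm0' : m0 + 1 ≠ 0 := by
    intro h
    apply hm1
    have : m0 = -1 := eq_neg_of_add_eq_zero_left h
    rw [this]
    have h3 : (1 : K) + 1 = 0 := by rw [one_add_one_eq_two, h2]
    exact (eq_neg_of_add_eq_zero_left h3).symm
  have hne : (1 - m0) ≠ 0 := by
    intro h
    exact hm1 (sub_eq_zero.mp h).symm
  -- κ = 0
  have hκ : ∀ x : X, φ m0 x = 0 := by
    intro x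
    -- φ (m0 + 1) = φ m0
    have e1 : φ (m0 + 1) x = φ m0 x := by rw [hA, h1, add_zero]
    have e2 := hsymm m0 (m0 + 1) x hm0 hm0'
    rw [e1] at e2
    -- (1 - m0) • φ m0 x = (1 - (m0+1)) • φ m0 x
    have e3 : ((1 - m0) - (1 - (m0 + 1))) • φ m0 x = 0 := by
      rw [sub_smul, e2, sub_self]
    have e4 : (1 - m0) - (1 - (m0 + 1)) = (1 : K) := by ring
    rw [e4, one_smul] at e3
    exact e3
  have hzero : ∀ (a : K) (x : X), a ≠ 0 → φ a x = 0 := by
    intro a x ha
    have e := hsymm m0 a x hm0 ha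
    rw [hκ x, smul_zero] at e
    exact (smul_eq_zero.mp e).resolve_left hne
  intro a
  ext x
  by_cases ha : a = 0
  · subst ha
    have h0 : φ 0 = 0 := by
      have := hA 0 0
      rw [add_zero] at this
      exact left_eq_add.mp this |> fun h => h
    rw [h0]
  · simpa using hzero a x ha

end Cfsg.Agent.Lib.Helper4.HIG
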