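import Cfsg.Agent.Lib.Helper2.HIGDefs
import Cfsg.Agent.Lib.Helper3.HIGU0c
import Cfsg.Agent.Lib.Helper8.HIGRing
import Cfsg.Agent.Lib.Helper4.HIGU3
import Cfsg.Agent.Lib.Helper4.HIGU4

/-!
HIG farm (S3050), unit UM: the module theorem in coordinates (`module_coords`, verbatim
from the owner's stub), from helper8's `ring_lemma`, helper3's `sl2_closure` and
`module_coords_core`.
-/

namespace Cfsg.Agent.Lib.Helper4.HIG

open Cfsg.Agent.Lib.Helper2.HIG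

/-- UM: the module theorem in coordinates. -/
theorem module_coords {K : Type*} [Field K] [Finite K] [CharP K 2] (hK : ∃ m : K, m ≠ 0 ∧ m ≠ 1)
    {V : Type*} [AddCommGroup V] [Finite V] (h2V : ∀ v : V, v + v = 0)
    (ρ : SL2 K →* AddMonoid.End V)
    (H3 : ∀ v, ρ (x0 K) (ρ (x0 K) v) + ρ (x0 K) v + v = 0) :
    ∃ (k : ℕ) (Ψ : V ≃+ (Fin k → Fin 2 → K)),
      ∀ (g : SL2 K) (v : V) (i : Fin k),
        Ψ (ρ g v) i = (g : Matrix (Fin 2) (Fin 2) K).mulVec (Ψ v i) := by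
  have _ := hK
  have h2 : (2 : AddMonoid.End V) = 0 := by
    apply AddMonoidHom.ext
    intro v
    show (2 : AddMonoid.End V) v = 0
    rw [AddMonoid.End.ofNat_apply, two_nsmul]
    exact h2V v
  have hu8 : ∀ a : K, Cfsg.Agent.Lib.Helper8.HIG.uM a = uM a := fun a => Subtype.ext rfl
  have hl8 : ∀ a : K, Cfsg.Agent.Lib.Helper8.HIG.lM a = lM a := fun a => Subtype.ext rfl
  have H3' : ρ (Cfsg.Agent.Lib.Helper8.HIG.uM 1 * Cfsg.Agent.Lib.Helper8.HIG.lM 1) *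
      ρ (Cfsg.Agent.Lib.Helper8.HIG.uM 1 * Cfsg.Agent.Lib.Helper8.HIG.lM 1) +
      ρ (Cfsg.Agent.Lib.Helper8.HIG.uM 1 * Cfsg.Agent.Lib.Helper8.HIG.lM 1) + 1 = 0 := by
    rw [hu8, hl8]
    apply AddMonoidHom.ext
    intro v
    exact H3 v
  obtain ⟨e, A, B, γ, -, -, he, hee, hAA, hBB, hAB, heγ, hγe, hadd, hmul, h1, h0, hu, hl⟩ :=
    Cfsg.Agent.Lib.Helper8.HIG.ring_lemma (K := K) exists_sq_of_finite_char2 h2 ρ H3'
  exact module_coords_core uM lM (fun a => rfl) (fun a => rfl)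
    (Cfsg.Agent.Lib.Helper3.HIG.sl2_closure K) ρ e A B γ he hee hAA hBB hAB heγ hγe hadd hmul h1 h0
    (fun a => by rw [← hu8]; exact hu a) (fun a => by rw [← hl8]; exact hl a)

end Cfsg.Agent.Lib.Helper4.HIG
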