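import Mathlib

/-!
HIG farm (S3050), unit U9: the abstract "Π-functional" lemma used in step G2
(exponent 2).
-/

namespace Cfsg.Agent.Lib.Helper4.HIG

/-- A finite field with at least 4 elements has `a, b` with `a, b, a + b ≠ 0`. -/
theorem exists_three_ne_zero_of_card {K : Type*} [Field K] [Finite K] [CharP K 2]
    (h : 3 ≤ Nat.card K) : ∃ a b : K, a ≠ 0 ∧ b ≠ 0 ∧ a + b ≠ 0 := by
  classical
  have := Fintype.ofFinite K
  have hex : ∃ m : K, m ≠ 0 ∧ m ≠ 1 := by
    by_contra hcon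
    push Not at hcon
    have hsub : (Finset.univ : Finset K) ⊆ {0, 1} := by
      intro m _
      by_cases hm : m = 0
      · simp [hm]
      · simp [hcon m hm]
    have hcard := Finset.card_le_card hsub
    have h2 : ({0, 1} : Finset K).card ≤ 2 := Finset.card_le_two
    rw [Nat.card_eq_fintype_card, ← Finset.card_univ] at h
    omega
  obtain ⟨m, hm0, hm1⟩ := hex
  refine ⟨m, 1, hm0, one_ne_zero, ?_⟩
  intro h0
  apply hm1
  have h2 : (2 : K) = 0 := by exact_mod_cast CharP.cast_eq_zero K 2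
  have h3 : (1 : K) + 1 = 0 := by rw [one_add_one_eq_two, h2]
  rw [eq_neg_of_add_eq_zero_left h0]
  exact (eq_neg_of_add_eq_zero_left h3).symm

theorem g2_pi_lemma {K : Type*} [Field K] [Finite K] [CharP K 2]
    (hK : ∃ a b : K, a ≠ 0 ∧ b ≠ 0 ∧ a + b ≠ 0)
    {Vp Zp : Type*} [AddCommGroup Vp] [Module K Vp] [AddCommGroup Zp] [Module K Zp]
    (σ : Vp →+ Zp) (hσ : ∀ (c : K) (y : Vp), σ (c • y) = c • σ y)
    (R ε : K → Vp →+ Zp)
    (hR : ∀ a b : K, a ≠ 0 → b ≠ 0 → a + b ≠ 0 → R (a + b) = R a + R b)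
    (hε : ∀ a b : K, a ≠ 0 → b ≠ 0 → a + b ≠ 0 → ε (a + b) = ε a + ε b)
    (hRel : ∀ (a : K) (y : Vp), a ≠ 0 → a • R a y = σ (a • y) + ε a (a • y)) :
    σ = 0 := by
  classical
  have := Fintype.ofFinite K
  ext y0
  simp only [AddMonoidHom.zero_apply]
  -- the key relation, summed over the units
  have hsum : ∀ a : K, a ≠ 0 →
      ∑ c : Kˣ, ((c⁻¹ : Kˣ) : K) • R a ((c : K) • y0) =
        (Fintype.card Kˣ) • σ y0 + ∑ c : Kˣ, ((c⁻¹ : Kˣ) : K) • ε a ((c : K) • y0) := by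
    intro a ha
    have hterm : ∀ c : Kˣ, ((c⁻¹ : Kˣ) : K) • R a ((c : K) • y0) =
        σ y0 + (((Units.mk0 a ha * c)⁻¹ : Kˣ) : K) • ε a (((Units.mk0 a ha * c : Kˣ) : K) • y0) := by
      intro c
      have h1 := hRel a ((c : K) • y0) ha
      have h2 : R a ((c : K) • y0) = a⁻¹ • (σ (a • (c : K) • y0) + ε a (a • (c : K) • y0)) := by
        rw [← h1, smul_smul, inv_mul_cancel₀ ha, one_smul]
      rw [h2, hσ, hσ, smul_add, smul_add, smul_smul, smul_smul, smul_smul, smul_smul]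
      have hc : ((c⁻¹ : Kˣ) : K) * a⁻¹ * a * (c : K) = 1 := by
        rw [Units.val_inv_eq_inv_val]
        have hc0 : (c : K) ≠ 0 := c.ne_zero
        field_simp
      rw [hc, one_smul]
      have hv : ((Units.mk0 a ha * c : Kˣ) : K) = a * (c : K) := by simp
      have hvi : (((Units.mk0 a ha * c)⁻¹ : Kˣ) : K) = ((c⁻¹ : Kˣ) : K) * a⁻¹ := by
        simp [mul_inv_rev]
      rw [hv, hvi, mul_smul a]
    rw [Finset.sum_congr rfl (fun c _ => hterm c), Finset.sum_add_distrib, Finset.sum_const,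
      Finset.card_univ]
    congr 1
    exact Equiv.sum_comp (Equiv.mulLeft (Units.mk0 a ha))
      (fun c : Kˣ => ((c⁻¹ : Kˣ) : K) • ε a ((c : K) • y0))
  obtain ⟨a, b, ha, hb, hab⟩ := hK
  have e1 := hsum a ha
  have e2 := hsum b hb
  have e3 := hsum (a + b) hab
  rw [hR a b ha hb hab, hε a b ha hb hab] at e3
  simp only [AddMonoidHom.add_apply, smul_add, Finset.sum_add_distrib] at e3
  rw [e1, e2] at e3
  -- e3 : N•σ + Pa + (N•σ + Pb) = N•σ + (Pa + Pb)
  have hN : (Fintype.card Kˣ) • σ y0 = 0 := by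
    have gen : ∀ (n pa pb : Zp), (n + pa) + (n + pb) = n + (pa + pb) → n = 0 := by
      intro n pa pb h
      have h' : n + (n + (pa + pb)) = 0 + (n + (pa + pb)) := by
        rw [zero_add]
        exact (by abel : n + (n + (pa + pb)) = (n + pa) + (n + pb)).trans h
      exact add_right_cancel h'
    exact gen _ _ _ e3
  -- `card Kˣ = q - 1` is invertible in `K`
  have hNK : ((Fintype.card Kˣ : ℕ) : K) = -1 := by
    rw [Fintype.card_units, Nat.cast_sub Fintype.card_pos, FiniteField.cast_card_eq_zero]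
    simp
  rw [← Nat.cast_smul_eq_nsmul K, hNK, neg_smul, one_smul, neg_eq_zero] at hN
  exact hN

end Cfsg.Agent.Lib.Helper4.HIG
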