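import Cfsg.Agent.Lib.Helper4.TCD_HNK1_Acc

namespace Cfsg.Agent.Lib.Helper4.TCD.HNK1

open Cfsg.Agent.Lib.Helper4.TC

set_option maxRecDepth 100000
set_option Elab.async false

theorem c_rel_7 : allRange D.relOK 468034 2125 = true := by decide +kernel
theorem c_rel_8 : allRange D.relOK 470159 2233 = true := by decide +kernel
theorem c_rel_9 : allRange D.relOK 472392 2183 = true := by decide +kernel
theorem c_rel_10 : allRange D.relOK 474575 2151 = true := by decide +kernel
theorem c_rel_11 : allRange D.relOK 476726 2170 = true := by decide +kernel
theorem c_rel_12 : allRange D.relOK 478896 2238 = true := by decide +kernel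
theorem c_rel_13 : allRange D.relOK 481134 2137 = true := by decide +kernel
theorem c_rel_14 : allRange D.relOK 483271 2130 = true := by decide +kernel
theorem c_rel_15 : allRange D.relOK 485401 2188 = true := by decide +kernel
theorem c_rel_16 : allRange D.relOK 487589 2217 = true := by decide +kernel
theorem c_rel_17 : allRange D.relOK 489806 2177 = true := by decide +kernel
theorem c_rel_18 : allRange D.relOK 491983 2236 = true := by decide +kernel
theorem c_rel_19 : allRange D.relOK 494219 2164 = true := by decide +kernel
theorem c_rel_20 : allRange D.relOK 496383 2144 = true := by decide +kernel
theorem c_rel_21 : allRange D.relOK 498527 2160 = true := by decide +kernel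
theorem c_rel_22 : allRange D.relOK 500687 2183 = true := by decide +kernel
theorem c_rel_23 : allRange D.relOK 502870 2139 = true := by decide +kernel
theorem c_rel_24 : allRange D.relOK 505009 2201 = true := by decide +kernel
theorem c_rel_25 : allRange D.relOK 507210 2116 = true := by decide +kernel
theorem c_rel_26 : allRange D.relOK 509326 2095 = true := by decide +kernel
theorem c_rel_27 : allRange D.relOK 511421 2127 = true := by decide +kernel
theorem c_rel_28 : allRange D.relOK 513548 2153 = true := by decide +kernel
theorem c_rel_29 : allRange D.relOK 515701 2154 = true := by decide +kernel
theorem c_rel_30 : allRange D.relOK 517855 2119 = true := by decide +kernel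
theorem c_rel_31 : allRange D.relOK 519974 2191 = true := by decide +kernel
theorem c_rel_32 : allRange D.relOK 522165 2149 = true := by decide +kernel
theorem c_rel_33 : allRange D.relOK 524314 2185 = true := by decide +kernel
theorem c_rel_34 : allRange D.relOK 526499 2072 = true := by decide +kernel
theorem c_rel_35 : allRange D.relOK 528571 2014 = true := by decide +kernel
theorem c_rel_36 : allRange D.relOK 530585 2091 = true := by decide +kernel
theorem c_rel_37 : allRange D.relOK 532676 2132 = true := by decide +kernel
theorem c_rel_38 : allRange D.relOK 534808 2043 = true := by decide +kernel
theorem c_rel_39 : allRange D.relOK 536851 2121 = true := by decide +kernel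
theorem c_rel_40 : allRange D.relOK 538972 2143 = true := by decide +kernel
theorem c_rel_41 : allRange D.relOK 541115 2155 = true := by decide +kernel
theorem c_rel_42 : allRange D.relOK 543270 2100 = true := by decide +kernel
theorem c_rel_43 : allRange D.relOK 545370 2102 = true := by decide +kernel
theorem c_rel_44 : allRange D.relOK 547472 2175 = true := by decide +kernel
theorem c_rel_45 : allRange D.relOK 549647 2064 = true := by decide +kernel
theorem c_rel_46 : allRange D.relOK 551711 2112 = true := by decide +kernel
theorem c_rel_47 : allRange D.relOK 553823 2153 = true := by decide +kernel
theorem c_rel_48 : allRange D.relOK 555976 2085 = true := by decide +kernel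
theorem c_rel_49 : allRange D.relOK 558061 2058 = true := by decide +kernel
theorem c_rel_50 : allRange D.relOK 560119 2085 = true := by decide +kernel
theorem c_rel_51 : allRange D.relOK 562204 2114 = true := by decide +kernel
theorem c_rel_52 : allRange D.relOK 564318 2033 = true := by decide +kernel
theorem c_rel_53 : allRange D.relOK 566351 2136 = true := by decide +kernel
theorem c_rel_54 : allRange D.relOK 568487 2064 = true := by decide +kernel
theorem c_rel_55 : allRange D.relOK 570551 2147 = true := by decide +kernel
theorem c_rel_56 : allRange D.relOK 572698 2016 = true := by decide +kernel
theorem c_rel_57 : allRange D.relOK 574714 2009 = true := by decide +kernel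
theorem c_rel_58 : allRange D.relOK 576723 2092 = true := by decide +kernel
theorem c_rel_59 : allRange D.relOK 578815 2020 = true := by decide +kernel
theorem c_rel_60 : allRange D.relOK 580835 1997 = true := by decide +kernel
theorem c_rel_61 : allRange D.relOK 582832 2019 = true := by decide +kernel
theorem c_rel_62 : allRange D.relOK 584851 2044 = true := by decide +kernel
theorem c_rel_63 : allRange D.relOK 586895 2011 = true := by decide +kernel
theorem c_rel_64 : allRange D.relOK 588906 2057 = true := by decide +kernel
theorem c_rel_65 : allRange D.relOK 590963 2034 = true := by decide +kernel
theorem c_rel_66 : allRange D.relOK 592997 2081 = true := by decide +kernel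
theorem c_rel_67 : allRange D.relOK 595078 2021 = true := by decide +kernel
theorem c_rel_68 : allRange D.relOK 597099 2062 = true := by decide +kernel
theorem c_rel_69 : allRange D.relOK 599161 1949 = true := by decide +kernel
theorem c_rel_70 : allRange D.relOK 601110 2031 = true := by decide +kernel
theorem c_rel_71 : allRange D.relOK 603141 2062 = true := by decide +kernel
theorem c_rel_72 : allRange D.relOK 605203 2007 = true := by decide +kernel
theorem c_rel_73 : allRange D.relOK 607210 2016 = true := by decide +kernel
theorem c_rel_74 : allRange D.relOK 609226 2078 = true := by decide +kernel
theorem c_rel_75 : allRange D.relOK 611304 1952 = true := by decide +kernel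
theorem c_rel_76 : allRange D.relOK 613256 2028 = true := by decide +kernel
theorem c_rel_77 : allRange D.relOK 615284 1973 = true := by decide +kernel
theorem c_rel_78 : allRange D.relOK 617257 1929 = true := by decide +kernel
theorem c_rel_79 : allRange D.relOK 619186 1902 = true := by decide +kernel
theorem c_rel_80 : allRange D.relOK 621088 1995 = true := by decide +kernel
theorem c_rel_81 : allRange D.relOK 623083 1961 = true := by decide +kernel
theorem c_rel_82 : allRange D.relOK 625044 1989 = true := by decide +kernel
theorem c_rel_83 : allRange D.relOK 627033 2535 = true := by decide +kernel
theorem c_rel_84 : allRange D.relOK 629568 3715 = true := by decide +kernel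
theorem c_rel_85 : allRange D.relOK 633283 3703 = true := by decide +kernel
theorem c_rel_86 : allRange D.relOK 636986 3025 = true := by decide +kernel
theorem c_rel_87 : allRange D.relOK 640011 2107 = true := by decide +kernel
theorem c_rel_88 : allRange D.relOK 642118 1840 = true := by decide +kernel
theorem c_rel_89 : allRange D.relOK 643958 1651 = true := by decide +kernel
theorem c_rel_90 : allRange D.relOK 645609 1565 = true := by decide +kernel
theorem c_rel_91 : allRange D.relOK 647174 1536 = true := by decide +kernel
theorem c_rel_92 : allRange D.relOK 648710 1624 = true := by decide +kernel
theorem c_rel_93 : allRange D.relOK 650334 1771 = true := by decide +kernel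
theorem c_rel_94 : allRange D.relOK 652105 1862 = true := by decide +kernel
theorem c_rel_95 : allRange D.relOK 653967 1904 = true := by decide +kernel
theorem c_rel_96 : allRange D.relOK 655871 1823 = true := by decide +kernel
theorem c_rel_97 : allRange D.relOK 657694 1845 = true := by decide +kernel
theorem c_rel_98 : allRange D.relOK 659539 1802 = true := by decide +kernel
theorem c_rel_99 : allRange D.relOK 661341 1829 = true := by decide +kernel
theorem c_rel_100 : allRange D.relOK 663170 1748 = true := by decide +kernel
theorem c_rel_101 : allRange D.relOK 664918 1895 = true := by decide +kernel
theorem c_rel_102 : allRange D.relOK 666813 1815 = true := by decide +kernel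
theorem c_rel_103 : allRange D.relOK 668628 1832 = true := by decide +kernel
theorem c_rel_104 : allRange D.relOK 670460 1848 = true := by decide +kernel
theorem c_rel_105 : allRange D.relOK 672308 1829 = true := by decide +kernel

end Cfsg.Agent.Lib.Helper4.TCD.HNK1
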