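import Cfsg.Agent.Lib.Helper4.TCD_HNK1_Acc

namespace Cfsg.Agent.Lib.Helper4.TCD.HNK1

open Cfsg.Agent.Lib.Helper4.TC

set_option maxRecDepth 100000
set_option Elab.async false

theorem c_act4_66 : allRange (fun i => Nat.beq (actR4 i) i) 247500 3750 = true := by decide +kernel
theorem c_act4_67 : allRange (fun i => Nat.beq (actR4 i) i) 251250 750 = true := by decide +kernel
theorem c_act5_0 : allRange (fun i => Nat.beq (actR5 i) i) 0 2500 = true := by decide +kernel
theorem c_act5_1 : allRange (fun i => Nat.beq (actR5 i) i) 2500 2500 = true := by decide +kernel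
theorem c_act5_2 : allRange (fun i => Nat.beq (actR5 i) i) 5000 2500 = true := by decide +kernel
theorem c_act5_3 : allRange (fun i => Nat.beq (actR5 i) i) 7500 2500 = true := by decide +kernel
theorem c_act5_4 : allRange (fun i => Nat.beq (actR5 i) i) 10000 2500 = true := by decide +kernel
theorem c_act5_5 : allRange (fun i => Nat.beq (actR5 i) i) 12500 2500 = true := by decide +kernel
theorem c_act5_6 : allRange (fun i => Nat.beq (actR5 i) i) 15000 2500 = true := by decide +kernel
theorem c_act5_7 : allRange (fun i => Nat.beq (actR5 i) i) 17500 2500 = true := by decide +kernel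
theorem c_act5_8 : allRange (fun i => Nat.beq (actR5 i) i) 20000 2500 = true := by decide +kernel
theorem c_act5_9 : allRange (fun i => Nat.beq (actR5 i) i) 22500 2500 = true := by decide +kernel
theorem c_act5_10 : allRange (fun i => Nat.beq (actR5 i) i) 25000 2500 = true := by decide +kernel
theorem c_act5_11 : allRange (fun i => Nat.beq (actR5 i) i) 27500 2500 = true := by decide +kernel
theorem c_act5_12 : allRange (fun i => Nat.beq (actR5 i) i) 30000 2500 = true := by decide +kernel
theorem c_act5_13 : allRange (fun i => Nat.beq (actR5 i) i) 32500 2500 = true := by decide +kernel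
theorem c_act5_14 : allRange (fun i => Nat.beq (actR5 i) i) 35000 2500 = true := by decide +kernel
theorem c_act5_15 : allRange (fun i => Nat.beq (actR5 i) i) 37500 2500 = true := by decide +kernel
theorem c_act5_16 : allRange (fun i => Nat.beq (actR5 i) i) 40000 2500 = true := by decide +kernel
theorem c_act5_17 : allRange (fun i => Nat.beq (actR5 i) i) 42500 2500 = true := by decide +kernel
theorem c_act5_18 : allRange (fun i => Nat.beq (actR5 i) i) 45000 2500 = true := by decide +kernel
theorem c_act5_19 : allRange (fun i => Nat.beq (actR5 i) i) 47500 2500 = true := by decide +kernel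
theorem c_act5_20 : allRange (fun i => Nat.beq (actR5 i) i) 50000 2500 = true := by decide +kernel
theorem c_act5_21 : allRange (fun i => Nat.beq (actR5 i) i) 52500 2500 = true := by decide +kernel
theorem c_act5_22 : allRange (fun i => Nat.beq (actR5 i) i) 55000 2500 = true := by decide +kernel
theorem c_act5_23 : allRange (fun i => Nat.beq (actR5 i) i) 57500 2500 = true := by decide +kernel
theorem c_act5_24 : allRange (fun i => Nat.beq (actR5 i) i) 60000 2500 = true := by decide +kernel
theorem c_act5_25 : allRange (fun i => Nat.beq (actR5 i) i) 62500 2500 = true := by decide +kernel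
theorem c_act5_26 : allRange (fun i => Nat.beq (actR5 i) i) 65000 2500 = true := by decide +kernel
theorem c_act5_27 : allRange (fun i => Nat.beq (actR5 i) i) 67500 2500 = true := by decide +kernel
theorem c_act5_28 : allRange (fun i => Nat.beq (actR5 i) i) 70000 2500 = true := by decide +kernel
theorem c_act5_29 : allRange (fun i => Nat.beq (actR5 i) i) 72500 2500 = true := by decide +kernel
theorem c_act5_30 : allRange (fun i => Nat.beq (actR5 i) i) 75000 2500 = true := by decide +kernel
theorem c_act5_31 : allRange (fun i => Nat.beq (actR5 i) i) 77500 2500 = true := by decide +kernel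
theorem c_act5_32 : allRange (fun i => Nat.beq (actR5 i) i) 80000 2500 = true := by decide +kernel
theorem c_act5_33 : allRange (fun i => Nat.beq (actR5 i) i) 82500 2500 = true := by decide +kernel
theorem c_act5_34 : allRange (fun i => Nat.beq (actR5 i) i) 85000 2500 = true := by decide +kernel
theorem c_act5_35 : allRange (fun i => Nat.beq (actR5 i) i) 87500 2500 = true := by decide +kernel
theorem c_act5_36 : allRange (fun i => Nat.beq (actR5 i) i) 90000 2500 = true := by decide +kernel
theorem c_act5_37 : allRange (fun i => Nat.beq (actR5 i) i) 92500 2500 = true := by decide +kernel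
theorem c_act5_38 : allRange (fun i => Nat.beq (actR5 i) i) 95000 2500 = true := by decide +kernel
theorem c_act5_39 : allRange (fun i => Nat.beq (actR5 i) i) 97500 2500 = true := by decide +kernel
theorem c_act5_40 : allRange (fun i => Nat.beq (actR5 i) i) 100000 2500 = true := by decide +kernel
theorem c_act5_41 : allRange (fun i => Nat.beq (actR5 i) i) 102500 2500 = true := by decide +kernel
theorem c_act5_42 : allRange (fun i => Nat.beq (actR5 i) i) 105000 2500 = true := by decide +kernel
theorem c_act5_43 : allRange (fun i => Nat.beq (actR5 i) i) 107500 2500 = true := by decide +kernel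
theorem c_act5_44 : allRange (fun i => Nat.beq (actR5 i) i) 110000 2500 = true := by decide +kernel
theorem c_act5_45 : allRange (fun i => Nat.beq (actR5 i) i) 112500 2500 = true := by decide +kernel
theorem c_act5_46 : allRange (fun i => Nat.beq (actR5 i) i) 115000 2500 = true := by decide +kernel
theorem c_act5_47 : allRange (fun i => Nat.beq (actR5 i) i) 117500 2500 = true := by decide +kernel

end Cfsg.Agent.Lib.Helper4.TCD.HNK1
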