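import Cfsg.Agent.Lib.Helper4.TCD_HNK1_Acc

namespace Cfsg.Agent.Lib.Helper4.TCD.HNK1

open Cfsg.Agent.Lib.Helper4.TC

set_option maxRecDepth 100000
set_option Elab.async false

theorem c_rel_106 : allRange D.relOK 674137 1864 = true := by decide +kernel
theorem c_rel_107 : allRange D.relOK 676001 1783 = true := by decide +kernel
theorem c_rel_108 : allRange D.relOK 677784 1830 = true := by decide +kernel
theorem c_rel_109 : allRange D.relOK 679614 1894 = true := by decide +kernel
theorem c_rel_110 : allRange D.relOK 681508 1842 = true := by decide +kernel
theorem c_rel_111 : allRange D.relOK 683350 1834 = true := by decide +kernel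
theorem c_rel_112 : allRange D.relOK 685184 1877 = true := by decide +kernel
theorem c_rel_113 : allRange D.relOK 687061 1801 = true := by decide +kernel
theorem c_rel_114 : allRange D.relOK 688862 1842 = true := by decide +kernel
theorem c_rel_115 : allRange D.relOK 690704 3380 = true := by decide +kernel
theorem c_rel_116 : allRange D.relOK 694084 3601 = true := by decide +kernel
theorem c_rel_117 : allRange D.relOK 697685 3611 = true := by decide +kernel
theorem c_rel_118 : allRange D.relOK 701296 3612 = true := by decide +kernel
theorem c_rel_119 : allRange D.relOK 704908 3592 = true := by decide +kernel
theorem c_rel_120 : allRange D.relOK 708500 3299 = true := by decide +kernel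
theorem c_rel_121 : allRange D.relOK 711799 1778 = true := by decide +kernel
theorem c_rel_122 : allRange D.relOK 713577 3541 = true := by decide +kernel
theorem c_rel_123 : allRange D.relOK 717118 3210 = true := by decide +kernel
theorem c_rel_124 : allRange D.relOK 720328 3596 = true := by decide +kernel
theorem c_rel_125 : allRange D.relOK 723924 3599 = true := by decide +kernel
theorem c_rel_126 : allRange D.relOK 727523 3575 = true := by decide +kernel
theorem c_rel_127 : allRange D.relOK 731098 3577 = true := by decide +kernel
theorem c_rel_128 : allRange D.relOK 734675 3577 = true := by decide +kernel
theorem c_rel_129 : allRange D.relOK 738252 3561 = true := by decide +kernel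
theorem c_rel_130 : allRange D.relOK 741813 3560 = true := by decide +kernel
theorem c_rel_131 : allRange D.relOK 745373 3568 = true := by decide +kernel
theorem c_rel_132 : allRange D.relOK 748941 3567 = true := by decide +kernel
theorem c_rel_133 : allRange D.relOK 752508 3588 = true := by decide +kernel
theorem c_rel_134 : allRange D.relOK 756096 3607 = true := by decide +kernel
theorem c_rel_135 : allRange D.relOK 759703 3576 = true := by decide +kernel
theorem c_rel_136 : allRange D.relOK 763279 3590 = true := by decide +kernel
theorem c_rel_137 : allRange D.relOK 766869 3616 = true := by decide +kernel
theorem c_rel_138 : allRange D.relOK 770485 2634 = true := by decide +kernel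
theorem c_rel_139 : allRange D.relOK 773119 2244 = true := by decide +kernel
theorem c_rel_140 : allRange D.relOK 775363 2153 = true := by decide +kernel
theorem c_rel_141 : allRange D.relOK 777516 2391 = true := by decide +kernel
theorem c_rel_142 : allRange D.relOK 779907 2341 = true := by decide +kernel
theorem c_rel_143 : allRange D.relOK 782248 2086 = true := by decide +kernel
theorem c_rel_144 : allRange D.relOK 784334 2106 = true := by decide +kernel
theorem c_rel_145 : allRange D.relOK 786440 2053 = true := by decide +kernel
theorem c_rel_146 : allRange D.relOK 788493 2211 = true := by decide +kernel
theorem c_rel_147 : allRange D.relOK 790704 2094 = true := by decide +kernel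
theorem c_rel_148 : allRange D.relOK 792798 2048 = true := by decide +kernel
theorem c_rel_149 : allRange D.relOK 794846 2036 = true := by decide +kernel
theorem c_rel_150 : allRange D.relOK 796882 1838 = true := by decide +kernel
theorem c_rel_151 : allRange D.relOK 798720 1896 = true := by decide +kernel
theorem c_rel_152 : allRange D.relOK 800616 1867 = true := by decide +kernel
theorem c_rel_153 : allRange D.relOK 802483 1722 = true := by decide +kernel
theorem c_rel_154 : allRange D.relOK 804205 1823 = true := by decide +kernel
theorem c_rel_155 : allRange D.relOK 806028 1760 = true := by decide +kernel
theorem c_rel_156 : allRange D.relOK 807788 1704 = true := by decide +kernel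
theorem c_rel_157 : allRange D.relOK 809492 1692 = true := by decide +kernel
theorem c_rel_158 : allRange D.relOK 811184 1598 = true := by decide +kernel
theorem c_rel_159 : allRange D.relOK 812782 1750 = true := by decide +kernel
theorem c_rel_160 : allRange D.relOK 814532 1543 = true := by decide +kernel
theorem c_rel_161 : allRange D.relOK 816075 1696 = true := by decide +kernel
theorem c_rel_162 : allRange D.relOK 817771 1470 = true := by decide +kernel
theorem c_rel_163 : allRange D.relOK 819241 1530 = true := by decide +kernel
theorem c_rel_164 : allRange D.relOK 820771 1503 = true := by decide +kernel
theorem c_rel_165 : allRange D.relOK 822274 1535 = true := by decide +kernel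
theorem c_rel_166 : allRange D.relOK 823809 1436 = true := by decide +kernel
theorem c_rel_167 : allRange D.relOK 825245 1455 = true := by decide +kernel
theorem c_rel_168 : allRange D.relOK 826700 1398 = true := by decide +kernel
theorem c_rel_169 : allRange D.relOK 828098 1377 = true := by decide +kernel
theorem c_rel_170 : allRange D.relOK 829475 1359 = true := by decide +kernel
theorem c_rel_171 : allRange D.relOK 830834 1354 = true := by decide +kernel
theorem c_rel_172 : allRange D.relOK 832188 1315 = true := by decide +kernel
theorem c_rel_173 : allRange D.relOK 833503 1281 = true := by decide +kernel
theorem c_rel_174 : allRange D.relOK 834784 1226 = true := by decide +kernel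
theorem c_rel_175 : allRange D.relOK 836010 1200 = true := by decide +kernel
theorem c_rel_176 : allRange D.relOK 837210 1152 = true := by decide +kernel
theorem c_rel_177 : allRange D.relOK 838362 1169 = true := by decide +kernel
theorem c_rel_178 : allRange D.relOK 839531 1178 = true := by decide +kernel
theorem c_rel_179 : allRange D.relOK 840709 1228 = true := by decide +kernel
theorem c_rel_180 : allRange D.relOK 841937 1228 = true := by decide +kernel
theorem c_rel_181 : allRange D.relOK 843165 1342 = true := by decide +kernel
theorem c_rel_182 : allRange D.relOK 844507 1354 = true := by decide +kernel
theorem c_rel_183 : allRange D.relOK 845861 1333 = true := by decide +kernel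
theorem c_rel_184 : allRange D.relOK 847194 1320 = true := by decide +kernel
theorem c_rel_185 : allRange D.relOK 848514 1334 = true := by decide +kernel
theorem c_rel_186 : allRange D.relOK 849848 1356 = true := by decide +kernel
theorem c_rel_187 : allRange D.relOK 851204 1375 = true := by decide +kernel
theorem c_rel_188 : allRange D.relOK 852579 1331 = true := by decide +kernel
theorem c_rel_189 : allRange D.relOK 853910 1363 = true := by decide +kernel
theorem c_rel_190 : allRange D.relOK 855273 1368 = true := by decide +kernel
theorem c_rel_191 : allRange D.relOK 856641 1321 = true := by decide +kernel
theorem c_rel_192 : allRange D.relOK 857962 1380 = true := by decide +kernel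
theorem c_rel_193 : allRange D.relOK 859342 1329 = true := by decide +kernel
theorem c_rel_194 : allRange D.relOK 860671 1340 = true := by decide +kernel
theorem c_rel_195 : allRange D.relOK 862011 1345 = true := by decide +kernel
theorem c_rel_196 : allRange D.relOK 863356 1327 = true := by decide +kernel
theorem c_rel_197 : allRange D.relOK 864683 1329 = true := by decide +kernel
theorem c_rel_198 : allRange D.relOK 866012 1377 = true := by decide +kernel
theorem c_rel_199 : allRange D.relOK 867389 1366 = true := by decide +kernel
theorem c_rel_200 : allRange D.relOK 868755 1361 = true := by decide +kernel
theorem c_rel_201 : allRange D.relOK 870116 1347 = true := by decide +kernel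
theorem c_rel_202 : allRange D.relOK 871463 1373 = true := by decide +kernel
theorem c_rel_203 : allRange D.relOK 872836 1346 = true := by decide +kernel
theorem c_rel_204 : allRange D.relOK 874182 1341 = true := by decide +kernel

end Cfsg.Agent.Lib.Helper4.TCD.HNK1
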