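import Cfsg.Agent.Lib.Helper4.TCD_HNK1_Acc

namespace Cfsg.Agent.Lib.Helper4.TCD.HNK1

open Cfsg.Agent.Lib.Helper4.TC

set_option maxRecDepth 100000
set_option Elab.async false

theorem c_rel_205 : allRange D.relOK 875523 1353 = true := by decide +kernel
theorem c_rel_206 : allRange D.relOK 876876 1354 = true := by decide +kernel
theorem c_rel_207 : allRange D.relOK 878230 1354 = true := by decide +kernel
theorem c_rel_208 : allRange D.relOK 879584 1356 = true := by decide +kernel
theorem c_rel_209 : allRange D.relOK 880940 1364 = true := by decide +kernel
theorem c_rel_210 : allRange D.relOK 882304 1391 = true := by decide +kernel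
theorem c_rel_211 : allRange D.relOK 883695 1390 = true := by decide +kernel
theorem c_rel_212 : allRange D.relOK 885085 1351 = true := by decide +kernel
theorem c_rel_213 : allRange D.relOK 886436 1402 = true := by decide +kernel
theorem c_rel_214 : allRange D.relOK 887838 1393 = true := by decide +kernel
theorem c_rel_215 : allRange D.relOK 889231 1401 = true := by decide +kernel
theorem c_rel_216 : allRange D.relOK 890632 1400 = true := by decide +kernel
theorem c_rel_217 : allRange D.relOK 892032 1399 = true := by decide +kernel
theorem c_rel_218 : allRange D.relOK 893431 1356 = true := by decide +kernel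
theorem c_rel_219 : allRange D.relOK 894787 1414 = true := by decide +kernel
theorem c_rel_220 : allRange D.relOK 896201 1435 = true := by decide +kernel
theorem c_rel_221 : allRange D.relOK 897636 1439 = true := by decide +kernel
theorem c_rel_222 : allRange D.relOK 899075 1423 = true := by decide +kernel
theorem c_rel_223 : allRange D.relOK 900498 1450 = true := by decide +kernel
theorem c_rel_224 : allRange D.relOK 901948 4188 = true := by decide +kernel
theorem c_rel_225 : allRange D.relOK 906136 4948 = true := by decide +kernel
theorem c_rel_226 : allRange D.relOK 911084 4922 = true := by decide +kernel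
theorem c_rel_227 : allRange D.relOK 916006 4931 = true := by decide +kernel
theorem c_rel_228 : allRange D.relOK 920937 4920 = true := by decide +kernel
theorem c_rel_229 : allRange D.relOK 925857 4930 = true := by decide +kernel
theorem c_rel_230 : allRange D.relOK 930787 4938 = true := by decide +kernel
theorem c_rel_231 : allRange D.relOK 935725 4930 = true := by decide +kernel
theorem c_rel_232 : allRange D.relOK 940655 4913 = true := by decide +kernel
theorem c_rel_233 : allRange D.relOK 945568 4931 = true := by decide +kernel
theorem c_rel_234 : allRange D.relOK 950499 4925 = true := by decide +kernel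
theorem c_rel_235 : allRange D.relOK 955424 4926 = true := by decide +kernel
theorem c_rel_236 : allRange D.relOK 960350 4923 = true := by decide +kernel
theorem c_rel_237 : allRange D.relOK 965273 4935 = true := by decide +kernel
theorem c_rel_238 : allRange D.relOK 970208 4925 = true := by decide +kernel
theorem c_rel_239 : allRange D.relOK 975133 4943 = true := by decide +kernel
theorem c_rel_240 : allRange D.relOK 980076 4944 = true := by decide +kernel
theorem c_rel_241 : allRange D.relOK 985020 4944 = true := by decide +kernel
theorem c_rel_242 : allRange D.relOK 989964 4946 = true := by decide +kernel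
theorem c_rel_243 : allRange D.relOK 994910 4945 = true := by decide +kernel
theorem c_rel_244 : allRange D.relOK 999855 4935 = true := by decide +kernel
theorem c_rel_245 : allRange D.relOK 1004790 4951 = true := by decide +kernel
theorem c_rel_246 : allRange D.relOK 1009741 4943 = true := by decide +kernel
theorem c_rel_247 : allRange D.relOK 1014684 4946 = true := by decide +kernel
theorem c_rel_248 : allRange D.relOK 1019630 4932 = true := by decide +kernel
theorem c_rel_249 : allRange D.relOK 1024562 4936 = true := by decide +kernel
theorem c_rel_250 : allRange D.relOK 1029498 4929 = true := by decide +kernel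
theorem c_rel_251 : allRange D.relOK 1034427 4888 = true := by decide +kernel
theorem c_rel_252 : allRange D.relOK 1039315 4894 = true := by decide +kernel
theorem c_rel_253 : allRange D.relOK 1044209 4910 = true := by decide +kernel
theorem c_rel_254 : allRange D.relOK 1049119 4254 = true := by decide +kernel
theorem c_fin_0 : allGrid (T.finOK D) 0 3000 4 = true := by decide +kernel
theorem c_fin_1 : allGrid (T.finOK D) 3000 3000 4 = true := by decide +kernel
theorem c_fin_2 : allGrid (T.finOK D) 6000 3000 4 = true := by decide +kernel
theorem c_fin_3 : allGrid (T.finOK D) 9000 3000 4 = true := by decide +kernel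
theorem c_fin_4 : allGrid (T.finOK D) 12000 3000 4 = true := by decide +kernel
theorem c_fin_5 : allGrid (T.finOK D) 15000 3000 4 = true := by decide +kernel
theorem c_fin_6 : allGrid (T.finOK D) 18000 3000 4 = true := by decide +kernel
theorem c_fin_7 : allGrid (T.finOK D) 21000 3000 4 = true := by decide +kernel
theorem c_fin_8 : allGrid (T.finOK D) 24000 3000 4 = true := by decide +kernel
theorem c_fin_9 : allGrid (T.finOK D) 27000 3000 4 = true := by decide +kernel
theorem c_fin_10 : allGrid (T.finOK D) 30000 3000 4 = true := by decide +kernel
theorem c_fin_11 : allGrid (T.finOK D) 33000 3000 4 = true := by decide +kernel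
theorem c_fin_12 : allGrid (T.finOK D) 36000 3000 4 = true := by decide +kernel
theorem c_fin_13 : allGrid (T.finOK D) 39000 3000 4 = true := by decide +kernel
theorem c_fin_14 : allGrid (T.finOK D) 42000 3000 4 = true := by decide +kernel
theorem c_fin_15 : allGrid (T.finOK D) 45000 3000 4 = true := by decide +kernel
theorem c_fin_16 : allGrid (T.finOK D) 48000 3000 4 = true := by decide +kernel
theorem c_fin_17 : allGrid (T.finOK D) 51000 3000 4 = true := by decide +kernel
theorem c_fin_18 : allGrid (T.finOK D) 54000 3000 4 = true := by decide +kernel
theorem c_fin_19 : allGrid (T.finOK D) 57000 3000 4 = true := by decide +kernel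
theorem c_fin_20 : allGrid (T.finOK D) 60000 3000 4 = true := by decide +kernel
theorem c_fin_21 : allGrid (T.finOK D) 63000 3000 4 = true := by decide +kernel
theorem c_fin_22 : allGrid (T.finOK D) 66000 3000 4 = true := by decide +kernel
theorem c_fin_23 : allGrid (T.finOK D) 69000 3000 4 = true := by decide +kernel
theorem c_fin_24 : allGrid (T.finOK D) 72000 3000 4 = true := by decide +kernel

end Cfsg.Agent.Lib.Helper4.TCD.HNK1
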