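import Cfsg.Agent.Lib.Helper4.TCD_HNK1_Acc

namespace Cfsg.Agent.Lib.Helper4.TCD.HNK1

open Cfsg.Agent.Lib.Helper4.TC

set_option maxRecDepth 100000
set_option Elab.async false

theorem c_fin_25 : allGrid (T.finOK D) 75000 3000 4 = true := by decide +kernel
theorem c_fin_26 : allGrid (T.finOK D) 78000 3000 4 = true := by decide +kernel
theorem c_fin_27 : allGrid (T.finOK D) 81000 3000 4 = true := by decide +kernel
theorem c_fin_28 : allGrid (T.finOK D) 84000 3000 4 = true := by decide +kernel
theorem c_fin_29 : allGrid (T.finOK D) 87000 3000 4 = true := by decide +kernel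
theorem c_fin_30 : allGrid (T.finOK D) 90000 3000 4 = true := by decide +kernel
theorem c_fin_31 : allGrid (T.finOK D) 93000 3000 4 = true := by decide +kernel
theorem c_fin_32 : allGrid (T.finOK D) 96000 3000 4 = true := by decide +kernel
theorem c_fin_33 : allGrid (T.finOK D) 99000 3000 4 = true := by decide +kernel
theorem c_fin_34 : allGrid (T.finOK D) 102000 3000 4 = true := by decide +kernel
theorem c_fin_35 : allGrid (T.finOK D) 105000 3000 4 = true := by decide +kernel
theorem c_fin_36 : allGrid (T.finOK D) 108000 3000 4 = true := by decide +kernel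
theorem c_fin_37 : allGrid (T.finOK D) 111000 3000 4 = true := by decide +kernel
theorem c_fin_38 : allGrid (T.finOK D) 114000 3000 4 = true := by decide +kernel
theorem c_fin_39 : allGrid (T.finOK D) 117000 3000 4 = true := by decide +kernel
theorem c_fin_40 : allGrid (T.finOK D) 120000 3000 4 = true := by decide +kernel
theorem c_fin_41 : allGrid (T.finOK D) 123000 3000 4 = true := by decide +kernel
theorem c_fin_42 : allGrid (T.finOK D) 126000 3000 4 = true := by decide +kernel
theorem c_fin_43 : allGrid (T.finOK D) 129000 3000 4 = true := by decide +kernel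
theorem c_fin_44 : allGrid (T.finOK D) 132000 3000 4 = true := by decide +kernel
theorem c_fin_45 : allGrid (T.finOK D) 135000 3000 4 = true := by decide +kernel
theorem c_fin_46 : allGrid (T.finOK D) 138000 3000 4 = true := by decide +kernel
theorem c_fin_47 : allGrid (T.finOK D) 141000 3000 4 = true := by decide +kernel
theorem c_fin_48 : allGrid (T.finOK D) 144000 3000 4 = true := by decide +kernel
theorem c_fin_49 : allGrid (T.finOK D) 147000 3000 4 = true := by decide +kernel
theorem c_fin_50 : allGrid (T.finOK D) 150000 3000 4 = true := by decide +kernel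
theorem c_fin_51 : allGrid (T.finOK D) 153000 3000 4 = true := by decide +kernel
theorem c_fin_52 : allGrid (T.finOK D) 156000 3000 4 = true := by decide +kernel
theorem c_fin_53 : allGrid (T.finOK D) 159000 3000 4 = true := by decide +kernel
theorem c_fin_54 : allGrid (T.finOK D) 162000 3000 4 = true := by decide +kernel
theorem c_fin_55 : allGrid (T.finOK D) 165000 3000 4 = true := by decide +kernel
theorem c_fin_56 : allGrid (T.finOK D) 168000 3000 4 = true := by decide +kernel
theorem c_fin_57 : allGrid (T.finOK D) 171000 3000 4 = true := by decide +kernel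
theorem c_fin_58 : allGrid (T.finOK D) 174000 3000 4 = true := by decide +kernel
theorem c_fin_59 : allGrid (T.finOK D) 177000 3000 4 = true := by decide +kernel
theorem c_fin_60 : allGrid (T.finOK D) 180000 3000 4 = true := by decide +kernel
theorem c_fin_61 : allGrid (T.finOK D) 183000 3000 4 = true := by decide +kernel
theorem c_fin_62 : allGrid (T.finOK D) 186000 3000 4 = true := by decide +kernel
theorem c_fin_63 : allGrid (T.finOK D) 189000 3000 4 = true := by decide +kernel
theorem c_fin_64 : allGrid (T.finOK D) 192000 3000 4 = true := by decide +kernel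
theorem c_fin_65 : allGrid (T.finOK D) 195000 3000 4 = true := by decide +kernel
theorem c_fin_66 : allGrid (T.finOK D) 198000 3000 4 = true := by decide +kernel
theorem c_fin_67 : allGrid (T.finOK D) 201000 3000 4 = true := by decide +kernel
theorem c_fin_68 : allGrid (T.finOK D) 204000 3000 4 = true := by decide +kernel
theorem c_fin_69 : allGrid (T.finOK D) 207000 3000 4 = true := by decide +kernel
theorem c_fin_70 : allGrid (T.finOK D) 210000 3000 4 = true := by decide +kernel
theorem c_fin_71 : allGrid (T.finOK D) 213000 3000 4 = true := by decide +kernel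
theorem c_fin_72 : allGrid (T.finOK D) 216000 3000 4 = true := by decide +kernel
theorem c_fin_73 : allGrid (T.finOK D) 219000 3000 4 = true := by decide +kernel
theorem c_fin_74 : allGrid (T.finOK D) 222000 3000 4 = true := by decide +kernel

end Cfsg.Agent.Lib.Helper4.TCD.HNK1
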