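import Cfsg.Agent.Lib.Helper4.TCD_HNK1_Acc

namespace Cfsg.Agent.Lib.Helper4.TCD.HNK1

open Cfsg.Agent.Lib.Helper4.TC

set_option maxRecDepth 100000
set_option Elab.async false

theorem c_fin_75 : allGrid (T.finOK D) 225000 3000 4 = true := by decide +kernel
theorem c_fin_76 : allGrid (T.finOK D) 228000 3000 4 = true := by decide +kernel
theorem c_fin_77 : allGrid (T.finOK D) 231000 3000 4 = true := by decide +kernel
theorem c_fin_78 : allGrid (T.finOK D) 234000 3000 4 = true := by decide +kernel
theorem c_fin_79 : allGrid (T.finOK D) 237000 3000 4 = true := by decide +kernel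
theorem c_fin_80 : allGrid (T.finOK D) 240000 3000 4 = true := by decide +kernel
theorem c_fin_81 : allGrid (T.finOK D) 243000 3000 4 = true := by decide +kernel
theorem c_fin_82 : allGrid (T.finOK D) 246000 3000 4 = true := by decide +kernel
theorem c_fin_83 : allGrid (T.finOK D) 249000 3000 4 = true := by decide +kernel
theorem c_perm_0 : allGrid (T.permOK1 D) 0 7500 4 = true := by decide +kernel
theorem c_perm_1 : allGrid (T.permOK1 D) 7500 7500 4 = true := by decide +kernel
theorem c_perm_2 : allGrid (T.permOK1 D) 15000 7500 4 = true := by decide +kernel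
theorem c_perm_3 : allGrid (T.permOK1 D) 22500 7500 4 = true := by decide +kernel
theorem c_perm_4 : allGrid (T.permOK1 D) 30000 7500 4 = true := by decide +kernel
theorem c_perm_5 : allGrid (T.permOK1 D) 37500 7500 4 = true := by decide +kernel
theorem c_perm_6 : allGrid (T.permOK1 D) 45000 7500 4 = true := by decide +kernel
theorem c_perm_7 : allGrid (T.permOK1 D) 52500 7500 4 = true := by decide +kernel
theorem c_perm_8 : allGrid (T.permOK1 D) 60000 7500 4 = true := by decide +kernel
theorem c_perm_9 : allGrid (T.permOK1 D) 67500 7500 4 = true := by decide +kernel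
theorem c_perm_10 : allGrid (T.permOK1 D) 75000 7500 4 = true := by decide +kernel
theorem c_perm_11 : allGrid (T.permOK1 D) 82500 7500 4 = true := by decide +kernel
theorem c_perm_12 : allGrid (T.permOK1 D) 90000 7500 4 = true := by decide +kernel
theorem c_perm_13 : allGrid (T.permOK1 D) 97500 7500 4 = true := by decide +kernel
theorem c_perm_14 : allGrid (T.permOK1 D) 105000 7500 4 = true := by decide +kernel
theorem c_perm_15 : allGrid (T.permOK1 D) 112500 7500 4 = true := by decide +kernel
theorem c_perm_16 : allGrid (T.permOK1 D) 120000 7500 4 = true := by decide +kernel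
theorem c_perm_17 : allGrid (T.permOK1 D) 127500 7500 4 = true := by decide +kernel
theorem c_perm_18 : allGrid (T.permOK1 D) 135000 7500 4 = true := by decide +kernel
theorem c_perm_19 : allGrid (T.permOK1 D) 142500 7500 4 = true := by decide +kernel
theorem c_perm_20 : allGrid (T.permOK1 D) 150000 7500 4 = true := by decide +kernel
theorem c_perm_21 : allGrid (T.permOK1 D) 157500 7500 4 = true := by decide +kernel
theorem c_perm_22 : allGrid (T.permOK1 D) 165000 7500 4 = true := by decide +kernel
theorem c_perm_23 : allGrid (T.permOK1 D) 172500 7500 4 = true := by decide +kernel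
theorem c_perm_24 : allGrid (T.permOK1 D) 180000 7500 4 = true := by decide +kernel
theorem c_perm_25 : allGrid (T.permOK1 D) 187500 7500 4 = true := by decide +kernel
theorem c_perm_26 : allGrid (T.permOK1 D) 195000 7500 4 = true := by decide +kernel
theorem c_perm_27 : allGrid (T.permOK1 D) 202500 7500 4 = true := by decide +kernel
theorem c_perm_28 : allGrid (T.permOK1 D) 210000 7500 4 = true := by decide +kernel
theorem c_perm_29 : allGrid (T.permOK1 D) 217500 7500 4 = true := by decide +kernel
theorem c_perm_30 : allGrid (T.permOK1 D) 225000 7500 4 = true := by decide +kernel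
theorem c_perm_31 : allGrid (T.permOK1 D) 232500 7500 4 = true := by decide +kernel
theorem c_perm_32 : allGrid (T.permOK1 D) 240000 7500 4 = true := by decide +kernel
theorem c_perm_33 : allGrid (T.permOK1 D) 247500 4500 4 = true := by decide +kernel
theorem c_act0_0 : allRange (fun i => Nat.beq (actR0 i) i) 0 10000 = true := by decide +kernel
theorem c_act0_1 : allRange (fun i => Nat.beq (actR0 i) i) 10000 10000 = true := by decide +kernel
theorem c_act0_2 : allRange (fun i => Nat.beq (actR0 i) i) 20000 10000 = true := by decide +kernel
theorem c_act0_3 : allRange (fun i => Nat.beq (actR0 i) i) 30000 10000 = true := by decide +kernel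
theorem c_act0_4 : allRange (fun i => Nat.beq (actR0 i) i) 40000 10000 = true := by decide +kernel
theorem c_act0_5 : allRange (fun i => Nat.beq (actR0 i) i) 50000 10000 = true := by decide +kernel
theorem c_act0_6 : allRange (fun i => Nat.beq (actR0 i) i) 60000 10000 = true := by decide +kernel

end Cfsg.Agent.Lib.Helper4.TCD.HNK1
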