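import Cfsg.Agent.Lib.Helper4.TCD_HNK1_Acc

namespace Cfsg.Agent.Lib.Helper4.TCD.HNK1

open Cfsg.Agent.Lib.Helper4.TC

set_option maxRecDepth 100000
set_option Elab.async false

theorem c_act0_7 : allRange (fun i => Nat.beq (actR0 i) i) 70000 10000 = true := by decide +kernel
theorem c_act0_8 : allRange (fun i => Nat.beq (actR0 i) i) 80000 10000 = true := by decide +kernel
theorem c_act0_9 : allRange (fun i => Nat.beq (actR0 i) i) 90000 10000 = true := by decide +kernel
theorem c_act0_10 : allRange (fun i => Nat.beq (actR0 i) i) 100000 10000 = true := by decide +kernel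
theorem c_act0_11 : allRange (fun i => Nat.beq (actR0 i) i) 110000 10000 = true := by decide +kernel
theorem c_act0_12 : allRange (fun i => Nat.beq (actR0 i) i) 120000 10000 = true := by decide +kernel
theorem c_act0_13 : allRange (fun i => Nat.beq (actR0 i) i) 130000 10000 = true := by decide +kernel
theorem c_act0_14 : allRange (fun i => Nat.beq (actR0 i) i) 140000 10000 = true := by decide +kernel
theorem c_act0_15 : allRange (fun i => Nat.beq (actR0 i) i) 150000 10000 = true := by decide +kernel
theorem c_act0_16 : allRange (fun i => Nat.beq (actR0 i) i) 160000 10000 = true := by decide +kernel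
theorem c_act0_17 : allRange (fun i => Nat.beq (actR0 i) i) 170000 10000 = true := by decide +kernel
theorem c_act0_18 : allRange (fun i => Nat.beq (actR0 i) i) 180000 10000 = true := by decide +kernel
theorem c_act0_19 : allRange (fun i => Nat.beq (actR0 i) i) 190000 10000 = true := by decide +kernel
theorem c_act0_20 : allRange (fun i => Nat.beq (actR0 i) i) 200000 10000 = true := by decide +kernel
theorem c_act0_21 : allRange (fun i => Nat.beq (actR0 i) i) 210000 10000 = true := by decide +kernel
theorem c_act0_22 : allRange (fun i => Nat.beq (actR0 i) i) 220000 10000 = true := by decide +kernel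
theorem c_act0_23 : allRange (fun i => Nat.beq (actR0 i) i) 230000 10000 = true := by decide +kernel
theorem c_act0_24 : allRange (fun i => Nat.beq (actR0 i) i) 240000 10000 = true := by decide +kernel
theorem c_act0_25 : allRange (fun i => Nat.beq (actR0 i) i) 250000 2000 = true := by decide +kernel
theorem c_act1_0 : allRange (fun i => Nat.beq (actR1 i) i) 0 10000 = true := by decide +kernel
theorem c_act1_1 : allRange (fun i => Nat.beq (actR1 i) i) 10000 10000 = true := by decide +kernel
theorem c_act1_2 : allRange (fun i => Nat.beq (actR1 i) i) 20000 10000 = true := by decide +kernel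
theorem c_act1_3 : allRange (fun i => Nat.beq (actR1 i) i) 30000 10000 = true := by decide +kernel
theorem c_act1_4 : allRange (fun i => Nat.beq (actR1 i) i) 40000 10000 = true := by decide +kernel
theorem c_act1_5 : allRange (fun i => Nat.beq (actR1 i) i) 50000 10000 = true := by decide +kernel
theorem c_act1_6 : allRange (fun i => Nat.beq (actR1 i) i) 60000 10000 = true := by decide +kernel
theorem c_act1_7 : allRange (fun i => Nat.beq (actR1 i) i) 70000 10000 = true := by decide +kernel
theorem c_act1_8 : allRange (fun i => Nat.beq (actR1 i) i) 80000 10000 = true := by decide +kernel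
theorem c_act1_9 : allRange (fun i => Nat.beq (actR1 i) i) 90000 10000 = true := by decide +kernel
theorem c_act1_10 : allRange (fun i => Nat.beq (actR1 i) i) 100000 10000 = true := by decide +kernel
theorem c_act1_11 : allRange (fun i => Nat.beq (actR1 i) i) 110000 10000 = true := by decide +kernel
theorem c_act1_12 : allRange (fun i => Nat.beq (actR1 i) i) 120000 10000 = true := by decide +kernel
theorem c_act1_13 : allRange (fun i => Nat.beq (actR1 i) i) 130000 10000 = true := by decide +kernel
theorem c_act1_14 : allRange (fun i => Nat.beq (actR1 i) i) 140000 10000 = true := by decide +kernel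
theorem c_act1_15 : allRange (fun i => Nat.beq (actR1 i) i) 150000 10000 = true := by decide +kernel
theorem c_act1_16 : allRange (fun i => Nat.beq (actR1 i) i) 160000 10000 = true := by decide +kernel
theorem c_act1_17 : allRange (fun i => Nat.beq (actR1 i) i) 170000 10000 = true := by decide +kernel
theorem c_act1_18 : allRange (fun i => Nat.beq (actR1 i) i) 180000 10000 = true := by decide +kernel
theorem c_act1_19 : allRange (fun i => Nat.beq (actR1 i) i) 190000 10000 = true := by decide +kernel
theorem c_act1_20 : allRange (fun i => Nat.beq (actR1 i) i) 200000 10000 = true := by decide +kernel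
theorem c_act1_21 : allRange (fun i => Nat.beq (actR1 i) i) 210000 10000 = true := by decide +kernel
theorem c_act1_22 : allRange (fun i => Nat.beq (actR1 i) i) 220000 10000 = true := by decide +kernel
theorem c_act1_23 : allRange (fun i => Nat.beq (actR1 i) i) 230000 10000 = true := by decide +kernel
theorem c_act1_24 : allRange (fun i => Nat.beq (actR1 i) i) 240000 10000 = true := by decide +kernel
theorem c_act1_25 : allRange (fun i => Nat.beq (actR1 i) i) 250000 2000 = true := by decide +kernel
theorem c_act2_0 : allRange (fun i => Nat.beq (actR2 i) i) 0 5000 = true := by decide +kernel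
theorem c_act2_1 : allRange (fun i => Nat.beq (actR2 i) i) 5000 5000 = true := by decide +kernel
theorem c_act2_2 : allRange (fun i => Nat.beq (actR2 i) i) 10000 5000 = true := by decide +kernel
theorem c_act2_3 : allRange (fun i => Nat.beq (actR2 i) i) 15000 5000 = true := by decide +kernel
theorem c_act2_4 : allRange (fun i => Nat.beq (actR2 i) i) 20000 5000 = true := by decide +kernel
theorem c_act2_5 : allRange (fun i => Nat.beq (actR2 i) i) 25000 5000 = true := by decide +kernel

end Cfsg.Agent.Lib.Helper4.TCD.HNK1
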