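import Cfsg.Agent.Lib.Helper4.TCD_HNK1_Acc

namespace Cfsg.Agent.Lib.Helper4.TCD.HNK1

open Cfsg.Agent.Lib.Helper4.TC

set_option maxRecDepth 100000
set_option Elab.async false

theorem c_act2_6 : allRange (fun i => Nat.beq (actR2 i) i) 30000 5000 = true := by decide +kernel
theorem c_act2_7 : allRange (fun i => Nat.beq (actR2 i) i) 35000 5000 = true := by decide +kernel
theorem c_act2_8 : allRange (fun i => Nat.beq (actR2 i) i) 40000 5000 = true := by decide +kernel
theorem c_act2_9 : allRange (fun i => Nat.beq (actR2 i) i) 45000 5000 = true := by decide +kernel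
theorem c_act2_10 : allRange (fun i => Nat.beq (actR2 i) i) 50000 5000 = true := by decide +kernel
theorem c_act2_11 : allRange (fun i => Nat.beq (actR2 i) i) 55000 5000 = true := by decide +kernel
theorem c_act2_12 : allRange (fun i => Nat.beq (actR2 i) i) 60000 5000 = true := by decide +kernel
theorem c_act2_13 : allRange (fun i => Nat.beq (actR2 i) i) 65000 5000 = true := by decide +kernel
theorem c_act2_14 : allRange (fun i => Nat.beq (actR2 i) i) 70000 5000 = true := by decide +kernel
theorem c_act2_15 : allRange (fun i => Nat.beq (actR2 i) i) 75000 5000 = true := by decide +kernel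
theorem c_act2_16 : allRange (fun i => Nat.beq (actR2 i) i) 80000 5000 = true := by decide +kernel
theorem c_act2_17 : allRange (fun i => Nat.beq (actR2 i) i) 85000 5000 = true := by decide +kernel
theorem c_act2_18 : allRange (fun i => Nat.beq (actR2 i) i) 90000 5000 = true := by decide +kernel
theorem c_act2_19 : allRange (fun i => Nat.beq (actR2 i) i) 95000 5000 = true := by decide +kernel
theorem c_act2_20 : allRange (fun i => Nat.beq (actR2 i) i) 100000 5000 = true := by decide +kernel
theorem c_act2_21 : allRange (fun i => Nat.beq (actR2 i) i) 105000 5000 = true := by decide +kernel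
theorem c_act2_22 : allRange (fun i => Nat.beq (actR2 i) i) 110000 5000 = true := by decide +kernel
theorem c_act2_23 : allRange (fun i => Nat.beq (actR2 i) i) 115000 5000 = true := by decide +kernel
theorem c_act2_24 : allRange (fun i => Nat.beq (actR2 i) i) 120000 5000 = true := by decide +kernel
theorem c_act2_25 : allRange (fun i => Nat.beq (actR2 i) i) 125000 5000 = true := by decide +kernel
theorem c_act2_26 : allRange (fun i => Nat.beq (actR2 i) i) 130000 5000 = true := by decide +kernel
theorem c_act2_27 : allRange (fun i => Nat.beq (actR2 i) i) 135000 5000 = true := by decide +kernel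
theorem c_act2_28 : allRange (fun i => Nat.beq (actR2 i) i) 140000 5000 = true := by decide +kernel
theorem c_act2_29 : allRange (fun i => Nat.beq (actR2 i) i) 145000 5000 = true := by decide +kernel
theorem c_act2_30 : allRange (fun i => Nat.beq (actR2 i) i) 150000 5000 = true := by decide +kernel
theorem c_act2_31 : allRange (fun i => Nat.beq (actR2 i) i) 155000 5000 = true := by decide +kernel
theorem c_act2_32 : allRange (fun i => Nat.beq (actR2 i) i) 160000 5000 = true := by decide +kernel
theorem c_act2_33 : allRange (fun i => Nat.beq (actR2 i) i) 165000 5000 = true := by decide +kernel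
theorem c_act2_34 : allRange (fun i => Nat.beq (actR2 i) i) 170000 5000 = true := by decide +kernel
theorem c_act2_35 : allRange (fun i => Nat.beq (actR2 i) i) 175000 5000 = true := by decide +kernel
theorem c_act2_36 : allRange (fun i => Nat.beq (actR2 i) i) 180000 5000 = true := by decide +kernel
theorem c_act2_37 : allRange (fun i => Nat.beq (actR2 i) i) 185000 5000 = true := by decide +kernel
theorem c_act2_38 : allRange (fun i => Nat.beq (actR2 i) i) 190000 5000 = true := by decide +kernel
theorem c_act2_39 : allRange (fun i => Nat.beq (actR2 i) i) 195000 5000 = true := by decide +kernel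
theorem c_act2_40 : allRange (fun i => Nat.beq (actR2 i) i) 200000 5000 = true := by decide +kernel
theorem c_act2_41 : allRange (fun i => Nat.beq (actR2 i) i) 205000 5000 = true := by decide +kernel
theorem c_act2_42 : allRange (fun i => Nat.beq (actR2 i) i) 210000 5000 = true := by decide +kernel
theorem c_act2_43 : allRange (fun i => Nat.beq (actR2 i) i) 215000 5000 = true := by decide +kernel
theorem c_act2_44 : allRange (fun i => Nat.beq (actR2 i) i) 220000 5000 = true := by decide +kernel
theorem c_act2_45 : allRange (fun i => Nat.beq (actR2 i) i) 225000 5000 = true := by decide +kernel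
theorem c_act2_46 : allRange (fun i => Nat.beq (actR2 i) i) 230000 5000 = true := by decide +kernel
theorem c_act2_47 : allRange (fun i => Nat.beq (actR2 i) i) 235000 5000 = true := by decide +kernel
theorem c_act2_48 : allRange (fun i => Nat.beq (actR2 i) i) 240000 5000 = true := by decide +kernel
theorem c_act2_49 : allRange (fun i => Nat.beq (actR2 i) i) 245000 5000 = true := by decide +kernel
theorem c_act2_50 : allRange (fun i => Nat.beq (actR2 i) i) 250000 2000 = true := by decide +kernel
theorem c_act3_0 : allRange (fun i => Nat.beq (actR3 i) i) 0 2857 = true := by decide +kernel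
theorem c_act3_1 : allRange (fun i => Nat.beq (actR3 i) i) 2857 2857 = true := by decide +kernel
theorem c_act3_2 : allRange (fun i => Nat.beq (actR3 i) i) 5714 2857 = true := by decide +kernel
theorem c_act3_3 : allRange (fun i => Nat.beq (actR3 i) i) 8571 2857 = true := by decide +kernel
theorem c_act3_4 : allRange (fun i => Nat.beq (actR3 i) i) 11428 2857 = true := by decide +kernel

end Cfsg.Agent.Lib.Helper4.TCD.HNK1
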