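import Cfsg.Agent.Lib.Helper4.TCD_HNK1_Acc

namespace Cfsg.Agent.Lib.Helper4.TCD.HNK1

open Cfsg.Agent.Lib.Helper4.TC

set_option maxRecDepth 100000
set_option Elab.async false

theorem c_act3_5 : allRange (fun i => Nat.beq (actR3 i) i) 14285 2857 = true := by decide +kernel
theorem c_act3_6 : allRange (fun i => Nat.beq (actR3 i) i) 17142 2857 = true := by decide +kernel
theorem c_act3_7 : allRange (fun i => Nat.beq (actR3 i) i) 19999 2857 = true := by decide +kernel
theorem c_act3_8 : allRange (fun i => Nat.beq (actR3 i) i) 22856 2857 = true := by decide +kernel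
theorem c_act3_9 : allRange (fun i => Nat.beq (actR3 i) i) 25713 2857 = true := by decide +kernel
theorem c_act3_10 : allRange (fun i => Nat.beq (actR3 i) i) 28570 2857 = true := by decide +kernel
theorem c_act3_11 : allRange (fun i => Nat.beq (actR3 i) i) 31427 2857 = true := by decide +kernel
theorem c_act3_12 : allRange (fun i => Nat.beq (actR3 i) i) 34284 2857 = true := by decide +kernel
theorem c_act3_13 : allRange (fun i => Nat.beq (actR3 i) i) 37141 2857 = true := by decide +kernel
theorem c_act3_14 : allRange (fun i => Nat.beq (actR3 i) i) 39998 2857 = true := by decide +kernel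
theorem c_act3_15 : allRange (fun i => Nat.beq (actR3 i) i) 42855 2857 = true := by decide +kernel
theorem c_act3_16 : allRange (fun i => Nat.beq (actR3 i) i) 45712 2857 = true := by decide +kernel
theorem c_act3_17 : allRange (fun i => Nat.beq (actR3 i) i) 48569 2857 = true := by decide +kernel
theorem c_act3_18 : allRange (fun i => Nat.beq (actR3 i) i) 51426 2857 = true := by decide +kernel
theorem c_act3_19 : allRange (fun i => Nat.beq (actR3 i) i) 54283 2857 = true := by decide +kernel
theorem c_act3_20 : allRange (fun i => Nat.beq (actR3 i) i) 57140 2857 = true := by decide +kernel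
theorem c_act3_21 : allRange (fun i => Nat.beq (actR3 i) i) 59997 2857 = true := by decide +kernel
theorem c_act3_22 : allRange (fun i => Nat.beq (actR3 i) i) 62854 2857 = true := by decide +kernel
theorem c_act3_23 : allRange (fun i => Nat.beq (actR3 i) i) 65711 2857 = true := by decide +kernel
theorem c_act3_24 : allRange (fun i => Nat.beq (actR3 i) i) 68568 2857 = true := by decide +kernel
theorem c_act3_25 : allRange (fun i => Nat.beq (actR3 i) i) 71425 2857 = true := by decide +kernel
theorem c_act3_26 : allRange (fun i => Nat.beq (actR3 i) i) 74282 2857 = true := by decide +kernel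
theorem c_act3_27 : allRange (fun i => Nat.beq (actR3 i) i) 77139 2857 = true := by decide +kernel
theorem c_act3_28 : allRange (fun i => Nat.beq (actR3 i) i) 79996 2857 = true := by decide +kernel
theorem c_act3_29 : allRange (fun i => Nat.beq (actR3 i) i) 82853 2857 = true := by decide +kernel
theorem c_act3_30 : allRange (fun i => Nat.beq (actR3 i) i) 85710 2857 = true := by decide +kernel
theorem c_act3_31 : allRange (fun i => Nat.beq (actR3 i) i) 88567 2857 = true := by decide +kernel
theorem c_act3_32 : allRange (fun i => Nat.beq (actR3 i) i) 91424 2857 = true := by decide +kernel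
theorem c_act3_33 : allRange (fun i => Nat.beq (actR3 i) i) 94281 2857 = true := by decide +kernel
theorem c_act3_34 : allRange (fun i => Nat.beq (actR3 i) i) 97138 2857 = true := by decide +kernel
theorem c_act3_35 : allRange (fun i => Nat.beq (actR3 i) i) 99995 2857 = true := by decide +kernel
theorem c_act3_36 : allRange (fun i => Nat.beq (actR3 i) i) 102852 2857 = true := by decide +kernel
theorem c_act3_37 : allRange (fun i => Nat.beq (actR3 i) i) 105709 2857 = true := by decide +kernel
theorem c_act3_38 : allRange (fun i => Nat.beq (actR3 i) i) 108566 2857 = true := by decide +kernel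
theorem c_act3_39 : allRange (fun i => Nat.beq (actR3 i) i) 111423 2857 = true := by decide +kernel
theorem c_act3_40 : allRange (fun i => Nat.beq (actR3 i) i) 114280 2857 = true := by decide +kernel
theorem c_act3_41 : allRange (fun i => Nat.beq (actR3 i) i) 117137 2857 = true := by decide +kernel
theorem c_act3_42 : allRange (fun i => Nat.beq (actR3 i) i) 119994 2857 = true := by decide +kernel
theorem c_act3_43 : allRange (fun i => Nat.beq (actR3 i) i) 122851 2857 = true := by decide +kernel
theorem c_act3_44 : allRange (fun i => Nat.beq (actR3 i) i) 125708 2857 = true := by decide +kernel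
theorem c_act3_45 : allRange (fun i => Nat.beq (actR3 i) i) 128565 2857 = true := by decide +kernel
theorem c_act3_46 : allRange (fun i => Nat.beq (actR3 i) i) 131422 2857 = true := by decide +kernel
theorem c_act3_47 : allRange (fun i => Nat.beq (actR3 i) i) 134279 2857 = true := by decide +kernel
theorem c_act3_48 : allRange (fun i => Nat.beq (actR3 i) i) 137136 2857 = true := by decide +kernel
theorem c_act3_49 : allRange (fun i => Nat.beq (actR3 i) i) 139993 2857 = true := by decide +kernel
theorem c_act3_50 : allRange (fun i => Nat.beq (actR3 i) i) 142850 2857 = true := by decide +kernel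
theorem c_act3_51 : allRange (fun i => Nat.beq (actR3 i) i) 145707 2857 = true := by decide +kernel
theorem c_act3_52 : allRange (fun i => Nat.beq (actR3 i) i) 148564 2857 = true := by decide +kernel
theorem c_act3_53 : allRange (fun i => Nat.beq (actR3 i) i) 151421 2857 = true := by decide +kernel
theorem c_act3_54 : allRange (fun i => Nat.beq (actR3 i) i) 154278 2857 = true := by decide +kernel

end Cfsg.Agent.Lib.Helper4.TCD.HNK1
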