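import Cfsg.Agent.Lib.Helper4.TCD_HNK1_Acc

namespace Cfsg.Agent.Lib.Helper4.TCD.HNK1

open Cfsg.Agent.Lib.Helper4.TC

set_option maxRecDepth 100000
set_option Elab.async false

theorem c_act3_55 : allRange (fun i => Nat.beq (actR3 i) i) 157135 2857 = true := by decide +kernel
theorem c_act3_56 : allRange (fun i => Nat.beq (actR3 i) i) 159992 2857 = true := by decide +kernel
theorem c_act3_57 : allRange (fun i => Nat.beq (actR3 i) i) 162849 2857 = true := by decide +kernel
theorem c_act3_58 : allRange (fun i => Nat.beq (actR3 i) i) 165706 2857 = true := by decide +kernel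
theorem c_act3_59 : allRange (fun i => Nat.beq (actR3 i) i) 168563 2857 = true := by decide +kernel
theorem c_act3_60 : allRange (fun i => Nat.beq (actR3 i) i) 171420 2857 = true := by decide +kernel
theorem c_act3_61 : allRange (fun i => Nat.beq (actR3 i) i) 174277 2857 = true := by decide +kernel
theorem c_act3_62 : allRange (fun i => Nat.beq (actR3 i) i) 177134 2857 = true := by decide +kernel
theorem c_act3_63 : allRange (fun i => Nat.beq (actR3 i) i) 179991 2857 = true := by decide +kernel
theorem c_act3_64 : allRange (fun i => Nat.beq (actR3 i) i) 182848 2857 = true := by decide +kernel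
theorem c_act3_65 : allRange (fun i => Nat.beq (actR3 i) i) 185705 2857 = true := by decide +kernel
theorem c_act3_66 : allRange (fun i => Nat.beq (actR3 i) i) 188562 2857 = true := by decide +kernel
theorem c_act3_67 : allRange (fun i => Nat.beq (actR3 i) i) 191419 2857 = true := by decide +kernel
theorem c_act3_68 : allRange (fun i => Nat.beq (actR3 i) i) 194276 2857 = true := by decide +kernel
theorem c_act3_69 : allRange (fun i => Nat.beq (actR3 i) i) 197133 2857 = true := by decide +kernel
theorem c_act3_70 : allRange (fun i => Nat.beq (actR3 i) i) 199990 2857 = true := by decide +kernel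
theorem c_act3_71 : allRange (fun i => Nat.beq (actR3 i) i) 202847 2857 = true := by decide +kernel
theorem c_act3_72 : allRange (fun i => Nat.beq (actR3 i) i) 205704 2857 = true := by decide +kernel
theorem c_act3_73 : allRange (fun i => Nat.beq (actR3 i) i) 208561 2857 = true := by decide +kernel
theorem c_act3_74 : allRange (fun i => Nat.beq (actR3 i) i) 211418 2857 = true := by decide +kernel
theorem c_act3_75 : allRange (fun i => Nat.beq (actR3 i) i) 214275 2857 = true := by decide +kernel
theorem c_act3_76 : allRange (fun i => Nat.beq (actR3 i) i) 217132 2857 = true := by decide +kernel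
theorem c_act3_77 : allRange (fun i => Nat.beq (actR3 i) i) 219989 2857 = true := by decide +kernel
theorem c_act3_78 : allRange (fun i => Nat.beq (actR3 i) i) 222846 2857 = true := by decide +kernel
theorem c_act3_79 : allRange (fun i => Nat.beq (actR3 i) i) 225703 2857 = true := by decide +kernel
theorem c_act3_80 : allRange (fun i => Nat.beq (actR3 i) i) 228560 2857 = true := by decide +kernel
theorem c_act3_81 : allRange (fun i => Nat.beq (actR3 i) i) 231417 2857 = true := by decide +kernel
theorem c_act3_82 : allRange (fun i => Nat.beq (actR3 i) i) 234274 2857 = true := by decide +kernel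
theorem c_act3_83 : allRange (fun i => Nat.beq (actR3 i) i) 237131 2857 = true := by decide +kernel
theorem c_act3_84 : allRange (fun i => Nat.beq (actR3 i) i) 239988 2857 = true := by decide +kernel
theorem c_act3_85 : allRange (fun i => Nat.beq (actR3 i) i) 242845 2857 = true := by decide +kernel
theorem c_act3_86 : allRange (fun i => Nat.beq (actR3 i) i) 245702 2857 = true := by decide +kernel
theorem c_act3_87 : allRange (fun i => Nat.beq (actR3 i) i) 248559 2857 = true := by decide +kernel
theorem c_act3_88 : allRange (fun i => Nat.beq (actR3 i) i) 251416 584 = true := by decide +kernel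
theorem c_act4_0 : allRange (fun i => Nat.beq (actR4 i) i) 0 3750 = true := by decide +kernel
theorem c_act4_1 : allRange (fun i => Nat.beq (actR4 i) i) 3750 3750 = true := by decide +kernel
theorem c_act4_2 : allRange (fun i => Nat.beq (actR4 i) i) 7500 3750 = true := by decide +kernel
theorem c_act4_3 : allRange (fun i => Nat.beq (actR4 i) i) 11250 3750 = true := by decide +kernel
theorem c_act4_4 : allRange (fun i => Nat.beq (actR4 i) i) 15000 3750 = true := by decide +kernel
theorem c_act4_5 : allRange (fun i => Nat.beq (actR4 i) i) 18750 3750 = true := by decide +kernel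
theorem c_act4_6 : allRange (fun i => Nat.beq (actR4 i) i) 22500 3750 = true := by decide +kernel
theorem c_act4_7 : allRange (fun i => Nat.beq (actR4 i) i) 26250 3750 = true := by decide +kernel
theorem c_act4_8 : allRange (fun i => Nat.beq (actR4 i) i) 30000 3750 = true := by decide +kernel
theorem c_act4_9 : allRange (fun i => Nat.beq (actR4 i) i) 33750 3750 = true := by decide +kernel
theorem c_act4_10 : allRange (fun i => Nat.beq (actR4 i) i) 37500 3750 = true := by decide +kernel
theorem c_act4_11 : allRange (fun i => Nat.beq (actR4 i) i) 41250 3750 = true := by decide +kernel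
theorem c_act4_12 : allRange (fun i => Nat.beq (actR4 i) i) 45000 3750 = true := by decide +kernel
theorem c_act4_13 : allRange (fun i => Nat.beq (actR4 i) i) 48750 3750 = true := by decide +kernel
theorem c_act4_14 : allRange (fun i => Nat.beq (actR4 i) i) 52500 3750 = true := by decide +kernel
theorem c_act4_15 : allRange (fun i => Nat.beq (actR4 i) i) 56250 3750 = true := by decide +kernel

end Cfsg.Agent.Lib.Helper4.TCD.HNK1
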