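import Cfsg.Agent.Lib.Helper4.TCD_HNK1_C0
import Cfsg.Agent.Lib.Helper4.TCD_HNK1_C1
import Cfsg.Agent.Lib.Helper4.TCD_HNK1_C2
import Cfsg.Agent.Lib.Helper4.TCD_HNK1_C3
import Cfsg.Agent.Lib.Helper4.TCD_HNK1_C4
import Cfsg.Agent.Lib.Helper4.TCD_HNK1_C5
import Cfsg.Agent.Lib.Helper4.TCD_HNK1_C6
import Cfsg.Agent.Lib.Helper4.TCD_HNK1_C7
import Cfsg.Agent.Lib.Helper4.TCD_HNK1_C8
import Cfsg.Agent.Lib.Helper4.TCD_HNK1_C9
import Cfsg.Agent.Lib.Helper4.TCD_HNK1_C10
import Cfsg.Agent.Lib.Helper4.TCD_HNK1_C11
import Cfsg.Agent.Lib.Helper4.TCD_HNK1_C12
import Cfsg.Agent.Lib.Helper4.TCD_HNK1_C13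

namespace Cfsg.Agent.Lib.Helper4.TCD.HNK1

open Cfsg.Agent.Lib.Helper4.TC

theorem h_rel_p0 : ∀ t, 452526 ≤ t → t < 538972 → D.relOK t = true :=
  (range_glue (range_of_allRange c_rel_0) (range_glue (range_of_allRange c_rel_1) (range_glue (range_of_allRange c_rel_2) (range_glue (range_of_allRange c_rel_3) (range_glue (range_of_allRange c_rel_4) (range_glue (range_of_allRange c_rel_5) (range_glue (range_of_allRange c_rel_6) (range_glue (range_of_allRange c_rel_7) (range_glue (range_of_allRange c_rel_8) (range_glue (range_of_allRange c_rel_9) (range_glue (range_of_allRange c_rel_10) (range_glue (range_of_allRange c_rel_11) (range_glue (range_of_allRange c_rel_12) (range_glue (range_of_allRange c_rel_13) (range_glue (range_of_allRange c_rel_14) (range_glue (range_of_allRange c_rel_15) (range_glue (range_of_allRange c_rel_16) (range_glue (range_of_allRange c_rel_17) (range_glue (range_of_allRange c_rel_18) (range_glue (range_of_allRange c_rel_19) (range_glue (range_of_allRange c_rel_20) (range_glue (range_of_allRange c_rel_21) (range_glue (range_of_allRange c_rel_22) (range_glue (range_of_allRange c_rel_23) (range_glue (range_of_allRange c_rel_24) (range_glue (range_of_allRange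 c_rel_25) (range_glue (range_of_allRange c_rel_26) (range_glue (range_of_allRange c_rel_27) (range_glue (range_of_allRange c_rel_28) (range_glue (range_of_allRange c_rel_29) (range_glue (range_of_allRange c_rel_30) (range_glue (range_of_allRange c_rel_31) (range_glue (range_of_allRange c_rel_32) (range_glue (range_of_allRange c_rel_33) (range_glue (range_of_allRange c_rel_34) (range_glue (range_of_allRange c_rel_35) (range_glue (range_of_allRange c_rel_36) (range_glue (range_of_allRange c_rel_37) (range_glue (range_of_allRange c_rel_38) (range_of_allRange c_rel_39))))))))))))))))))))))))))))))))))))))))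
theorem h_rel_p1 : ∀ t, 538972 ≤ t → t < 621088 → D.relOK t = true :=
  (range_glue (range_of_allRange c_rel_40) (range_glue (range_of_allRange c_rel_41) (range_glue (range_of_allRange c_rel_42) (range_glue (range_of_allRange c_rel_43) (range_glue (range_of_allRange c_rel_44) (range_glue (range_of_allRange c_rel_45) (range_glue (range_of_allRange c_rel_46) (range_glue (range_of_allRange c_rel_47) (range_glue (range_of_allRange c_rel_48) (range_glue (range_of_allRange c_rel_49) (range_glue (range_of_allRange c_rel_50) (range_glue (range_of_allRange c_rel_51) (range_glue (range_of_allRange c_rel_52) (range_glue (range_of_allRange c_rel_53) (range_glue (range_of_allRange c_rel_54) (range_glue (range_of_allRange c_rel_55) (range_glue (range_of_allRange c_rel_56) (range_glue (range_of_allRange c_rel_57) (range_glue (range_of_allRange c_rel_58) (range_glue (range_of_allRange c_rel_59) (range_glue (range_of_allRange c_rel_60) (range_glue (range_of_allRange c_rel_61) (range_glue (range_of_allRange c_rel_62) (range_glue (range_of_allRange c_rel_63) (range_glue (range_of_allRange c_rel_64) (range_glue (range_of_allRange c_rel_65) (range_glue (range_of_allRange c_rel_66)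 (range_glue (range_of_allRange c_rel_67) (range_glue (range_of_allRange c_rel_68) (range_glue (range_of_allRange c_rel_69) (range_glue (range_of_allRange c_rel_70) (range_glue (range_of_allRange c_rel_71) (range_glue (range_of_allRange c_rel_72) (range_glue (range_of_allRange c_rel_73) (range_glue (range_of_allRange c_rel_74) (range_glue (range_of_allRange c_rel_75) (range_glue (range_of_allRange c_rel_76) (range_glue (range_of_allRange c_rel_77) (range_glue (range_of_allRange c_rel_78) (range_of_allRange c_rel_79))))))))))))))))))))))))))))))))))))))))
theorem h_rel_p2 : ∀ t, 621088 ≤ t → t < 708500 → D.relOK t = true :=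
  (range_glue (range_of_allRange c_rel_80) (range_glue (range_of_allRange c_rel_81) (range_glue (range_of_allRange c_rel_82) (range_glue (range_of_allRange c_rel_83) (range_glue (range_of_allRange c_rel_84) (range_glue (range_of_allRange c_rel_85) (range_glue (range_of_allRange c_rel_86) (range_glue (range_of_allRange c_rel_87) (range_glue (range_of_allRange c_rel_88) (range_glue (range_of_allRange c_rel_89) (range_glue (range_of_allRange c_rel_90) (range_glue (range_of_allRange c_rel_91) (range_glue (range_of_allRange c_rel_92) (range_glue (range_of_allRange c_rel_93) (range_glue (range_of_allRange c_rel_94) (range_glue (range_of_allRange c_rel_95) (range_glue (range_of_allRange c_rel_96) (range_glue (range_of_allRange c_rel_97) (range_glue (range_of_allRange c_rel_98) (range_glue (range_of_allRange c_rel_99) (range_glue (range_of_allRange c_rel_100) (range_glue (range_of_allRange c_rel_101) (range_glue (range_of_allRange c_rel_102) (range_glue (range_of_allRange c_rel_103) (range_glue (range_of_allRange c_rel_104) (range_glue (range_of_allRange c_rel_105) (range_glue (range_of_allRange c_rel_106) (range_glue (range_of_allRange c_rel_107) (range_glue (range_of_allRange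 c_rel_108) (range_glue (range_of_allRange c_rel_109) (range_glue (range_of_allRange c_rel_110) (range_glue (range_of_allRange c_rel_111) (range_glue (range_of_allRange c_rel_112) (range_glue (range_of_allRange c_rel_113) (range_glue (range_of_allRange c_rel_114) (range_glue (range_of_allRange c_rel_115) (range_glue (range_of_allRange c_rel_116) (range_glue (range_of_allRange c_rel_117) (range_glue (range_of_allRange c_rel_118) (range_of_allRange c_rel_119))))))))))))))))))))))))))))))))))))))))
theorem h_rel_p3 : ∀ t, 708500 ≤ t → t < 814532 → D.relOK t = true :=
  (range_glue (range_of_allRange c_rel_120) (range_glue (range_of_allRange c_rel_121) (range_glue (range_of_allRange c_rel_122) (range_glue (range_of_allRange c_rel_123) (range_glue (range_of_allRange c_rel_124) (range_glue (range_of_allRange c_rel_125) (range_glue (range_of_allRange c_rel_126) (range_glue (range_of_allRange c_rel_127) (range_glue (range_of_allRange c_rel_128) (range_glue (range_of_allRange c_rel_129) (range_glue (range_of_allRange c_rel_130) (range_glue (range_of_allRange c_rel_131) (range_glue (range_of_allRange c_rel_132) (range_glue (range_of_allRange c_rel_133) (range_glue (range_of_allRange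 c_rel_134) (range_glue (range_of_allRange c_rel_135) (range_glue (range_of_allRange c_rel_136) (range_glue (range_of_allRange c_rel_137) (range_glue (range_of_allRange c_rel_138) (range_glue (range_of_allRange c_rel_139) (range_glue (range_of_allRange c_rel_140) (range_glue (range_of_allRange c_rel_141) (range_glue (range_of_allRange c_rel_142) (range_glue (range_of_allRange c_rel_143) (range_glue (range_of_allRange c_rel_144) (range_glue (range_of_allRange c_rel_145) (range_glue (range_of_allRange c_rel_146) (range_glue (range_of_allRange c_rel_147) (range_glue (range_of_allRange c_rel_148) (range_glue (range_of_allRange c_rel_149) (range_glue (range_of_allRange c_rel_150) (range_glue (range_of_allRange c_rel_151) (range_glue (range_of_allRange c_rel_152) (range_glue (range_of_allRange c_rel_153) (range_glue (range_of_allRange c_rel_154) (range_glue (range_of_allRange c_rel_155) (range_glue (range_of_allRange c_rel_156) (range_glue (range_of_allRange c_rel_157) (range_glue (range_of_allRange c_rel_158) (range_of_allRange c_rel_159))))))))))))))))))))))))))))))))))))))))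
theorem h_rel_p4 : ∀ t, 814532 ≤ t → t < 868755 → D.relOK t = true :=
  (range_glue (range_of_allRange c_rel_160) (range_glue (range_of_allRange c_rel_161) (range_glue (range_of_allRange c_rel_162) (range_glue (range_of_allRange c_rel_163) (range_glue (range_of_allRange c_rel_164) (range_glue (range_of_allRange c_rel_165) (range_glue (range_of_allRange c_rel_166) (range_glue (range_of_allRange c_rel_167) (range_glue (range_of_allRange c_rel_168) (range_glue (range_of_allRange c_rel_169) (range_glue (range_of_allRange c_rel_170) (range_glue (range_of_allRange c_rel_171) (range_glue (range_of_allRange c_rel_172) (range_glue (range_of_allRange c_rel_173) (range_glue (range_of_allRange c_rel_174) (range_glue (range_of_allRange c_rel_175) (range_glue (range_of_allRange c_rel_176) (range_glue (range_of_allRange c_rel_177) (range_glue (range_of_allRange c_rel_178) (range_glue (range_of_allRange c_rel_179) (range_glue (range_of_allRange c_rel_180) (range_glue (range_of_allRange c_rel_181) (range_glue (range_of_allRange c_rel_182) (range_glue (range_of_allRange c_rel_183) (range_glue (range_of_allRange c_rel_184) (range_glue (range_of_allRange c_rel_185) (range_glue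 (range_of_allRange c_rel_186) (range_glue (range_of_allRange c_rel_187) (range_glue (range_of_allRange c_rel_188) (range_glue (range_of_allRange c_rel_189) (range_glue (range_of_allRange c_rel_190) (range_glue (range_of_allRange c_rel_191) (range_glue (range_of_allRange c_rel_192) (range_glue (range_of_allRange c_rel_193) (range_glue (range_of_allRange c_rel_194) (range_glue (range_of_allRange c_rel_195) (range_glue (range_of_allRange c_rel_196) (range_glue (range_of_allRange c_rel_197) (range_glue (range_of_allRange c_rel_198) (range_of_allRange c_rel_199))))))))))))))))))))))))))))))))))))))))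
theorem h_rel_p5 : ∀ t, 868755 ≤ t → t < 980076 → D.relOK t = true :=
  (range_glue (range_of_allRange c_rel_200) (range_glue (range_of_allRange c_rel_201) (range_glue (range_of_allRange c_rel_202) (range_glue (range_of_allRange c_rel_203) (range_glue (range_of_allRange c_rel_204) (range_glue (range_of_allRange c_rel_205) (range_glue (range_of_allRange c_rel_206) (range_glue (range_of_allRange c_rel_207) (range_glue (range_of_allRange c_rel_208) (range_glue (range_of_allRange c_rel_209) (range_glue (range_of_allRange c_rel_210) (range_glue (range_of_allRange c_rel_211) (range_glue (range_of_allRange c_rel_212) (range_glue (range_of_allRange c_rel_213) (range_glue (range_of_allRange c_rel_214) (range_glue (range_of_allRange c_rel_215) (range_glue (range_of_allRange c_rel_216) (range_glue (range_of_allRange c_rel_217) (range_glue (range_of_allRange c_rel_218) (range_glue (range_of_allRange c_rel_219) (range_glue (range_of_allRange c_rel_220) (range_glue (range_of_allRange c_rel_221) (range_glue (range_of_allRange c_rel_222) (range_glue (range_of_allRange c_rel_223) (range_glue (range_of_allRange c_rel_224) (range_glue (range_of_allRange c_rel_225) (range_glue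 (range_of_allRange c_rel_226) (range_glue (range_of_allRange c_rel_227) (range_glue (range_of_allRange c_rel_228) (range_glue (range_of_allRange c_rel_229) (range_glue (range_of_allRange c_rel_230) (range_glue (range_of_allRange c_rel_231) (range_glue (range_of_allRange c_rel_232) (range_glue (range_of_allRange c_rel_233) (range_glue (range_of_allRange c_rel_234) (range_glue (range_of_allRange c_rel_235) (range_glue (range_of_allRange c_rel_236) (range_glue (range_of_allRange c_rel_237) (range_glue (range_of_allRange c_rel_238) (range_of_allRange c_rel_239))))))))))))))))))))))))))))))))))))))))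
theorem h_rel_p6 : ∀ t, 980076 ≤ t → t < 1053373 → D.relOK t = true :=
  (range_glue (range_of_allRange c_rel_240) (range_glue (range_of_allRange c_rel_241) (range_glue (range_of_allRange c_rel_242) (range_glue (range_of_allRange c_rel_243) (range_glue (range_of_allRange c_rel_244) (range_glue (range_of_allRange c_rel_245) (range_glue (range_of_allRange c_rel_246) (range_glue (range_of_allRange c_rel_247) (range_glue (range_of_allRange c_rel_248) (range_glue (range_of_allRange c_rel_249) (range_glue (range_of_allRange c_rel_250) (range_glue (range_of_allRange c_rel_251) (range_glue (range_of_allRange c_rel_252) (range_glue (range_of_allRange c_rel_253) (range_of_allRange c_rel_254)))))))))))))))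
theorem h_rel : ∀ t, 452526 ≤ t → t < 1053373 → D.relOK t = true :=
  (range_glue h_rel_p0 (range_glue h_rel_p1 (range_glue h_rel_p2 (range_glue h_rel_p3 (range_glue h_rel_p4 (range_glue h_rel_p5 h_rel_p6))))))
theorem h_names : ∀ t, 1 ≤ t → t < 452524 → D.nameOK t = true :=
  (range_glue (range_of_allRange c_names_0) (range_glue (range_of_allRange c_names_1) (range_glue (range_of_allRange c_names_2) (range_glue (range_of_allRange c_names_3) (range_glue (range_of_allRange c_names_4) (range_glue (range_of_allRange c_names_5) (range_glue (range_of_allRange c_names_6) (range_of_allRange c_names_7))))))))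
theorem h_cls : ∀ t, 1 ≤ t → t < 452524 → T.clsOK D t = true :=
  (range_glue (range_of_allRange c_cls_0) (range_glue (range_of_allRange c_cls_1) (range_glue (range_of_allRange c_cls_2) (range_glue (range_of_allRange c_cls_3) (range_glue (range_of_allRange c_cls_4) (range_glue (range_of_allRange c_cls_5) (range_glue (range_of_allRange c_cls_6) (range_glue (range_of_allRange c_cls_7) (range_glue (range_of_allRange c_cls_8) (range_glue (range_of_allRange c_cls_9) (range_glue (range_of_allRange c_cls_10) (range_glue (range_of_allRange c_cls_11) (range_glue (range_of_allRange c_cls_12) (range_glue (range_of_allRange c_cls_13) (range_glue (range_of_allRange c_cls_14) (range_glue (range_of_allRange c_cls_15) (range_glue (range_of_allRange c_cls_16) (range_glue (range_of_allRange c_cls_17) (range_glue (range_of_allRange c_cls_18) (range_glue (range_of_allRange c_cls_19) (range_glue (range_of_allRange c_cls_20) (range_glue (range_of_allRange c_cls_21) (range_glue (range_of_allRange c_cls_22) (range_glue (range_of_allRange c_cls_23) (range_glue (range_of_allRange c_cls_24) (range_glue (range_of_allRange c_cls_25) (range_glue (range_of_allRange c_cls_26) (range_glue (range_of_allRange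 c_cls_27) (range_glue (range_of_allRange c_cls_28) (range_glue (range_of_allRange c_cls_29) (range_of_allRange c_cls_30)))))))))))))))))))))))))))))))
theorem h_rep : ∀ t, 0 ≤ t → t < 252000 → T.repOK D t = true :=
  (range_glue (range_of_allRange c_rep_0) (range_glue (range_of_allRange c_rep_1) (range_glue (range_of_allRange c_rep_2) (range_glue (range_of_allRange c_rep_3) (range_glue (range_of_allRange c_rep_4) (range_glue (range_of_allRange c_rep_5) (range_glue (range_of_allRange c_rep_6) (range_glue (range_of_allRange c_rep_7) (range_of_allRange c_rep_8)))))))))
theorem h_fin_p0 : ∀ i, 0 ≤ i → i < 120000 → ∀ x, x < 4 → T.finOK D i x = true :=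
  (range_glue (range_of_allGrid c_fin_0) (range_glue (range_of_allGrid c_fin_1) (range_glue (range_of_allGrid c_fin_2) (range_glue (range_of_allGrid c_fin_3) (range_glue (range_of_allGrid c_fin_4) (range_glue (range_of_allGrid c_fin_5) (range_glue (range_of_allGrid c_fin_6) (range_glue (range_of_allGrid c_fin_7) (range_glue (range_of_allGrid c_fin_8) (range_glue (range_of_allGrid c_fin_9) (range_glue (range_of_allGrid c_fin_10) (range_glue (range_of_allGrid c_fin_11) (range_glue (range_of_allGrid c_fin_12) (range_glue (range_of_allGrid c_fin_13) (range_glue (range_of_allGrid c_fin_14) (range_glue (range_of_allGrid c_fin_15) (range_glue (range_of_allGrid c_fin_16) (range_glue (range_of_allGrid c_fin_17) (range_glue (range_of_allGrid c_fin_18) (range_glue (range_of_allGrid c_fin_19) (range_glue (range_of_allGrid c_fin_20) (range_glue (range_of_allGrid c_fin_21) (range_glue (range_of_allGrid c_fin_22) (range_glue (range_of_allGrid c_fin_23) (range_glue (range_of_allGrid c_fin_24) (range_glue (range_of_allGrid c_fin_25) (range_glue (range_of_allGrid c_fin_26) (range_glue (range_of_allGrid c_fin_27) (range_glue (range_of_allGrid c_fin_28) (range_glue (range_of_allGrid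 c_fin_29) (range_glue (range_of_allGrid c_fin_30) (range_glue (range_of_allGrid c_fin_31) (range_glue (range_of_allGrid c_fin_32) (range_glue (range_of_allGrid c_fin_33) (range_glue (range_of_allGrid c_fin_34) (range_glue (range_of_allGrid c_fin_35) (range_glue (range_of_allGrid c_fin_36) (range_glue (range_of_allGrid c_fin_37) (range_glue (range_of_allGrid c_fin_38) (range_of_allGrid c_fin_39))))))))))))))))))))))))))))))))))))))))
theorem h_fin_p1 : ∀ i, 120000 ≤ i → i < 240000 → ∀ x, x < 4 → T.finOK D i x = true :=
  (range_glue (range_of_allGrid c_fin_40) (range_glue (range_of_allGrid c_fin_41) (range_glue (range_of_allGrid c_fin_42) (range_glue (range_of_allGrid c_fin_43) (range_glue (range_of_allGrid c_fin_44) (range_glue (range_of_allGrid c_fin_45) (range_glue (range_of_allGrid c_fin_46) (range_glue (range_of_allGrid c_fin_47) (range_glue (range_of_allGrid c_fin_48) (range_glue (range_of_allGrid c_fin_49) (range_glue (range_of_allGrid c_fin_50) (range_glue (range_of_allGrid c_fin_51) (range_glue (range_of_allGrid c_fin_52) (range_glue (range_of_allGrid c_fin_53) (range_glue (range_of_allGrid c_fin_54) (range_glue (range_of_allGrid c_fin_55) (range_glue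 (range_of_allGrid c_fin_56) (range_glue (range_of_allGrid c_fin_57) (range_glue (range_of_allGrid c_fin_58) (range_glue (range_of_allGrid c_fin_59) (range_glue (range_of_allGrid c_fin_60) (range_glue (range_of_allGrid c_fin_61) (range_glue (range_of_allGrid c_fin_62) (range_glue (range_of_allGrid c_fin_63) (range_glue (range_of_allGrid c_fin_64) (range_glue (range_of_allGrid c_fin_65) (range_glue (range_of_allGrid c_fin_66) (range_glue (range_of_allGrid c_fin_67) (range_glue (range_of_allGrid c_fin_68) (range_glue (range_of_allGrid c_fin_69) (range_glue (range_of_allGrid c_fin_70) (range_glue (range_of_allGrid c_fin_71) (range_glue (range_of_allGrid c_fin_72) (range_glue (range_of_allGrid c_fin_73) (range_glue (range_of_allGrid c_fin_74) (range_glue (range_of_allGrid c_fin_75) (range_glue (range_of_allGrid c_fin_76) (range_glue (range_of_allGrid c_fin_77) (range_glue (range_of_allGrid c_fin_78) (range_of_allGrid c_fin_79))))))))))))))))))))))))))))))))))))))))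
theorem h_fin_p2 : ∀ i, 240000 ≤ i → i < 252000 → ∀ x, x < 4 → T.finOK D i x = true :=
  (range_glue (range_of_allGrid c_fin_80) (range_glue (range_of_allGrid c_fin_81) (range_glue (range_of_allGrid c_fin_82) (range_of_allGrid c_fin_83))))
theorem h_fin : ∀ i, 0 ≤ i → i < 252000 → ∀ x, x < 4 → T.finOK D i x = true :=
  (range_glue h_fin_p0 (range_glue h_fin_p1 h_fin_p2))
theorem h_perm : ∀ i, 0 ≤ i → i < 252000 → ∀ x, x < 4 → T.permOK1 D i x = true :=
  (range_glue (range_of_allGrid c_perm_0) (range_glue (range_of_allGrid c_perm_1) (range_glue (range_of_allGrid c_perm_2) (range_glue (range_of_allGrid c_perm_3) (range_glue (range_of_allGrid c_perm_4) (range_glue (range_of_allGrid c_perm_5) (range_glue (range_of_allGrid c_perm_6) (range_glue (range_of_allGrid c_perm_7) (range_glue (range_of_allGrid c_perm_8) (range_glue (range_of_allGrid c_perm_9) (range_glue (range_of_allGrid c_perm_10) (range_glue (range_of_allGrid c_perm_11) (range_glue (range_of_allGrid c_perm_12) (range_glue (range_of_allGrid c_perm_13) (range_glue (range_of_allGrid c_perm_14) (range_glue (range_of_allGrid c_perm_15) (range_glue (range_of_allGrid c_perm_16) (range_glue (range_of_allGrid c_perm_17)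 (range_glue (range_of_allGrid c_perm_18) (range_glue (range_of_allGrid c_perm_19) (range_glue (range_of_allGrid c_perm_20) (range_glue (range_of_allGrid c_perm_21) (range_glue (range_of_allGrid c_perm_22) (range_glue (range_of_allGrid c_perm_23) (range_glue (range_of_allGrid c_perm_24) (range_glue (range_of_allGrid c_perm_25) (range_glue (range_of_allGrid c_perm_26) (range_glue (range_of_allGrid c_perm_27) (range_glue (range_of_allGrid c_perm_28) (range_glue (range_of_allGrid c_perm_29) (range_glue (range_of_allGrid c_perm_30) (range_glue (range_of_allGrid c_perm_31) (range_glue (range_of_allGrid c_perm_32) (range_of_allGrid c_perm_33))))))))))))))))))))))))))))))))))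
theorem h_act0 : ∀ i, 0 ≤ i → i < 252000 → Nat.beq (actR0 i) i = true :=
  (range_glue (range_of_allRange c_act0_0) (range_glue (range_of_allRange c_act0_1) (range_glue (range_of_allRange c_act0_2) (range_glue (range_of_allRange c_act0_3) (range_glue (range_of_allRange c_act0_4) (range_glue (range_of_allRange c_act0_5) (range_glue (range_of_allRange c_act0_6) (range_glue (range_of_allRange c_act0_7) (range_glue (range_of_allRange c_act0_8) (range_glue (range_of_allRange c_act0_9) (range_glue (range_of_allRange c_act0_10) (range_glue (range_of_allRange c_act0_11) (range_glue (range_of_allRange c_act0_12) (range_glue (range_of_allRange c_act0_13) (range_glue (range_of_allRange c_act0_14) (range_glue (range_of_allRange c_act0_15) (range_glue (range_of_allRange c_act0_16) (range_glue (range_of_allRange c_act0_17) (range_glue (range_of_allRange c_act0_18) (range_glue (range_of_allRange c_act0_19) (range_glue (range_of_allRange c_act0_20) (range_glue (range_of_allRange c_act0_21) (range_glue (range_of_allRange c_act0_22) (range_glue (range_of_allRange c_act0_23) (range_glue (range_of_allRange c_act0_24) (range_of_allRange c_act0_25))))))))))))))))))))))))))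
theorem h_act1 : ∀ i, 0 ≤ i → i < 252000 → Nat.beq (actR1 i) i = true :=
  (range_glue (range_of_allRange c_act1_0) (range_glue (range_of_allRange c_act1_1) (range_glue (range_of_allRange c_act1_2) (range_glue (range_of_allRange c_act1_3) (range_glue (range_of_allRange c_act1_4) (range_glue (range_of_allRange c_act1_5) (range_glue (range_of_allRange c_act1_6) (range_glue (range_of_allRange c_act1_7) (range_glue (range_of_allRange c_act1_8) (range_glue (range_of_allRange c_act1_9) (range_glue (range_of_allRange c_act1_10) (range_glue (range_of_allRange c_act1_11) (range_glue (range_of_allRange c_act1_12) (range_glue (range_of_allRange c_act1_13) (range_glue (range_of_allRange c_act1_14) (range_glue (range_of_allRange c_act1_15) (range_glue (range_of_allRange c_act1_16) (range_glue (range_of_allRange c_act1_17) (range_glue (range_of_allRange c_act1_18) (range_glue (range_of_allRange c_act1_19) (range_glue (range_of_allRange c_act1_20) (range_glue (range_of_allRange c_act1_21) (range_glue (range_of_allRange c_act1_22) (range_glue (range_of_allRange c_act1_23) (range_glue (range_of_allRange c_act1_24) (range_of_allRange c_act1_25))))))))))))))))))))))))))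
theorem h_act2_p0 : ∀ i, 0 ≤ i → i < 200000 → Nat.beq (actR2 i) i = true :=
  (range_glue (range_of_allRange c_act2_0) (range_glue (range_of_allRange c_act2_1) (range_glue (range_of_allRange c_act2_2) (range_glue (range_of_allRange c_act2_3) (range_glue (range_of_allRange c_act2_4) (range_glue (range_of_allRange c_act2_5) (range_glue (range_of_allRange c_act2_6) (range_glue (range_of_allRange c_act2_7) (range_glue (range_of_allRange c_act2_8) (range_glue (range_of_allRange c_act2_9) (range_glue (range_of_allRange c_act2_10) (range_glue (range_of_allRange c_act2_11) (range_glue (range_of_allRange c_act2_12) (range_glue (range_of_allRange c_act2_13) (range_glue (range_of_allRange c_act2_14) (range_glue (range_of_allRange c_act2_15) (range_glue (range_of_allRange c_act2_16) (range_glue (range_of_allRange c_act2_17) (range_glue (range_of_allRange c_act2_18) (range_glue (range_of_allRange c_act2_19) (range_glue (range_of_allRange c_act2_20) (range_glue (range_of_allRange c_act2_21) (range_glue (range_of_allRange c_act2_22) (range_glue (range_of_allRange c_act2_23) (range_glue (range_of_allRange c_act2_24) (range_glue (range_of_allRange c_act2_25) (range_glue (range_of_allRange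 c_act2_26) (range_glue (range_of_allRange c_act2_27) (range_glue (range_of_allRange c_act2_28) (range_glue (range_of_allRange c_act2_29) (range_glue (range_of_allRange c_act2_30) (range_glue (range_of_allRange c_act2_31) (range_glue (range_of_allRange c_act2_32) (range_glue (range_of_allRange c_act2_33) (range_glue (range_of_allRange c_act2_34) (range_glue (range_of_allRange c_act2_35) (range_glue (range_of_allRange c_act2_36) (range_glue (range_of_allRange c_act2_37) (range_glue (range_of_allRange c_act2_38) (range_of_allRange c_act2_39))))))))))))))))))))))))))))))))))))))))
theorem h_act2_p1 : ∀ i, 200000 ≤ i → i < 252000 → Nat.beq (actR2 i) i = true :=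
  (range_glue (range_of_allRange c_act2_40) (range_glue (range_of_allRange c_act2_41) (range_glue (range_of_allRange c_act2_42) (range_glue (range_of_allRange c_act2_43) (range_glue (range_of_allRange c_act2_44) (range_glue (range_of_allRange c_act2_45) (range_glue (range_of_allRange c_act2_46) (range_glue (range_of_allRange c_act2_47) (range_glue (range_of_allRange c_act2_48) (range_glue (range_of_allRange c_act2_49) (range_of_allRange c_act2_50)))))))))))
theorem h_act2 : ∀ i, 0 ≤ i → i < 252000 → Nat.beq (actR2 i) i = true :=
  (range_glue h_act2_p0 h_act2_p1)
theorem h_act3_p0 : ∀ i, 0 ≤ i → i < 114280 → Nat.beq (actR3 i) i = true :=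
  (range_glue (range_of_allRange c_act3_0) (range_glue (range_of_allRange c_act3_1) (range_glue (range_of_allRange c_act3_2) (range_glue (range_of_allRange c_act3_3) (range_glue (range_of_allRange c_act3_4) (range_glue (range_of_allRange c_act3_5) (range_glue (range_of_allRange c_act3_6) (range_glue (range_of_allRange c_act3_7) (range_glue (range_of_allRange c_act3_8) (range_glue (range_of_allRange c_act3_9) (range_glue (range_of_allRange c_act3_10) (range_glue (range_of_allRange c_act3_11) (range_glue (range_of_allRange c_act3_12) (range_glue (range_of_allRange c_act3_13) (range_glue (range_of_allRange c_act3_14) (range_glue (range_of_allRange c_act3_15) (range_glue (range_of_allRange c_act3_16) (range_glue (range_of_allRange c_act3_17) (range_glue (range_of_allRange c_act3_18) (range_glue (range_of_allRange c_act3_19) (range_glue (range_of_allRange c_act3_20) (range_glue (range_of_allRange c_act3_21) (range_glue (range_of_allRange c_act3_22) (range_glue (range_of_allRange c_act3_23) (range_glue (range_of_allRange c_act3_24) (range_glue (range_of_allRange c_act3_25) (range_glue (range_of_allRange c_act3_26) (range_glue (range_of_allRange c_act3_27) (range_glue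 (range_of_allRange c_act3_28) (range_glue (range_of_allRange c_act3_29) (range_glue (range_of_allRange c_act3_30) (range_glue (range_of_allRange c_act3_31) (range_glue (range_of_allRange c_act3_32) (range_glue (range_of_allRange c_act3_33) (range_glue (range_of_allRange c_act3_34) (range_glue (range_of_allRange c_act3_35) (range_glue (range_of_allRange c_act3_36) (range_glue (range_of_allRange c_act3_37) (range_glue (range_of_allRange c_act3_38) (range_of_allRange c_act3_39))))))))))))))))))))))))))))))))))))))))
theorem h_act3_p1 : ∀ i, 114280 ≤ i → i < 228560 → Nat.beq (actR3 i) i = true :=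
  (range_glue (range_of_allRange c_act3_40) (range_glue (range_of_allRange c_act3_41) (range_glue (range_of_allRange c_act3_42) (range_glue (range_of_allRange c_act3_43) (range_glue (range_of_allRange c_act3_44) (range_glue (range_of_allRange c_act3_45) (range_glue (range_of_allRange c_act3_46) (range_glue (range_of_allRange c_act3_47) (range_glue (range_of_allRange c_act3_48) (range_glue (range_of_allRange c_act3_49) (range_glue (range_of_allRange c_act3_50) (range_glue (range_of_allRange c_act3_51) (range_glue (range_of_allRange c_act3_52) (range_glue (range_of_allRange c_act3_53) (range_glue (range_of_allRange c_act3_54) (range_glue (range_of_allRange c_act3_55) (range_glue (range_of_allRange c_act3_56) (range_glue (range_of_allRange c_act3_57) (range_glue (range_of_allRange c_act3_58) (range_glue (range_of_allRange c_act3_59) (range_glue (range_of_allRange c_act3_60) (range_glue (range_of_allRange c_act3_61) (range_glue (range_of_allRange c_act3_62) (range_glue (range_of_allRange c_act3_63) (range_glue (range_of_allRange c_act3_64) (range_glue (range_of_allRange c_act3_65) (range_glue (range_of_allRange c_act3_66) (range_glue (range_of_allRange c_act3_67)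 (range_glue (range_of_allRange c_act3_68) (range_glue (range_of_allRange c_act3_69) (range_glue (range_of_allRange c_act3_70) (range_glue (range_of_allRange c_act3_71) (range_glue (range_of_allRange c_act3_72) (range_glue (range_of_allRange c_act3_73) (range_glue (range_of_allRange c_act3_74) (range_glue (range_of_allRange c_act3_75) (range_glue (range_of_allRange c_act3_76) (range_glue (range_of_allRange c_act3_77) (range_glue (range_of_allRange c_act3_78) (range_of_allRange c_act3_79))))))))))))))))))))))))))))))))))))))))
theorem h_act3_p2 : ∀ i, 228560 ≤ i → i < 252000 → Nat.beq (actR3 i) i = true :=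
  (range_glue (range_of_allRange c_act3_80) (range_glue (range_of_allRange c_act3_81) (range_glue (range_of_allRange c_act3_82) (range_glue (range_of_allRange c_act3_83) (range_glue (range_of_allRange c_act3_84) (range_glue (range_of_allRange c_act3_85) (range_glue (range_of_allRange c_act3_86) (range_glue (range_of_allRange c_act3_87) (range_of_allRange c_act3_88)))))))))
theorem h_act3 : ∀ i, 0 ≤ i → i < 252000 → Nat.beq (actR3 i) i = true :=
  (range_glue h_act3_p0 (range_glue h_act3_p1 h_act3_p2))
theorem h_act4_p0 : ∀ i, 0 ≤ i → i < 150000 → Nat.beq (actR4 i) i = true :=
  (range_glue (range_of_allRange c_act4_0) (range_glue (range_of_allRange c_act4_1) (range_glue (range_of_allRange c_act4_2) (range_glue (range_of_allRange c_act4_3) (range_glue (range_of_allRange c_act4_4) (range_glue (range_of_allRange c_act4_5) (range_glue (range_of_allRange c_act4_6) (range_glue (range_of_allRange c_act4_7) (range_glue (range_of_allRange c_act4_8) (range_glue (range_of_allRange c_act4_9) (range_glue (range_of_allRange c_act4_10) (range_glue (range_of_allRange c_act4_11) (range_glue (range_of_allRange c_act4_12) (range_glue (range_of_allRange c_act4_13) (range_glue (range_of_allRange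 c_act4_14) (range_glue (range_of_allRange c_act4_15) (range_glue (range_of_allRange c_act4_16) (range_glue (range_of_allRange c_act4_17) (range_glue (range_of_allRange c_act4_18) (range_glue (range_of_allRange c_act4_19) (range_glue (range_of_allRange c_act4_20) (range_glue (range_of_allRange c_act4_21) (range_glue (range_of_allRange c_act4_22) (range_glue (range_of_allRange c_act4_23) (range_glue (range_of_allRange c_act4_24) (range_glue (range_of_allRange c_act4_25) (range_glue (range_of_allRange c_act4_26) (range_glue (range_of_allRange c_act4_27) (range_glue (range_of_allRange c_act4_28) (range_glue (range_of_allRange c_act4_29) (range_glue (range_of_allRange c_act4_30) (range_glue (range_of_allRange c_act4_31) (range_glue (range_of_allRange c_act4_32) (range_glue (range_of_allRange c_act4_33) (range_glue (range_of_allRange c_act4_34) (range_glue (range_of_allRange c_act4_35) (range_glue (range_of_allRange c_act4_36) (range_glue (range_of_allRange c_act4_37) (range_glue (range_of_allRange c_act4_38) (range_of_allRange c_act4_39))))))))))))))))))))))))))))))))))))))))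
theorem h_act4_p1 : ∀ i, 150000 ≤ i → i < 252000 → Nat.beq (actR4 i) i = true :=
  (range_glue (range_of_allRange c_act4_40) (range_glue (range_of_allRange c_act4_41) (range_glue (range_of_allRange c_act4_42) (range_glue (range_of_allRange c_act4_43) (range_glue (range_of_allRange c_act4_44) (range_glue (range_of_allRange c_act4_45) (range_glue (range_of_allRange c_act4_46) (range_glue (range_of_allRange c_act4_47) (range_glue (range_of_allRange c_act4_48) (range_glue (range_of_allRange c_act4_49) (range_glue (range_of_allRange c_act4_50) (range_glue (range_of_allRange c_act4_51) (range_glue (range_of_allRange c_act4_52) (range_glue (range_of_allRange c_act4_53) (range_glue (range_of_allRange c_act4_54) (range_glue (range_of_allRange c_act4_55) (range_glue (range_of_allRange c_act4_56) (range_glue (range_of_allRange c_act4_57) (range_glue (range_of_allRange c_act4_58) (range_glue (range_of_allRange c_act4_59) (range_glue (range_of_allRange c_act4_60) (range_glue (range_of_allRange c_act4_61) (range_glue (range_of_allRange c_act4_62) (range_glue (range_of_allRange c_act4_63) (range_glue (range_of_allRange c_act4_64) (range_glue (range_of_allRange c_act4_65) (range_glue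 (range_of_allRange c_act4_66) (range_of_allRange c_act4_67))))))))))))))))))))))))))))
theorem h_act4 : ∀ i, 0 ≤ i → i < 252000 → Nat.beq (actR4 i) i = true :=
  (range_glue h_act4_p0 h_act4_p1)
theorem h_act5_p0 : ∀ i, 0 ≤ i → i < 100000 → Nat.beq (actR5 i) i = true :=
  (range_glue (range_of_allRange c_act5_0) (range_glue (range_of_allRange c_act5_1) (range_glue (range_of_allRange c_act5_2) (range_glue (range_of_allRange c_act5_3) (range_glue (range_of_allRange c_act5_4) (range_glue (range_of_allRange c_act5_5) (range_glue (range_of_allRange c_act5_6) (range_glue (range_of_allRange c_act5_7) (range_glue (range_of_allRange c_act5_8) (range_glue (range_of_allRange c_act5_9) (range_glue (range_of_allRange c_act5_10) (range_glue (range_of_allRange c_act5_11) (range_glue (range_of_allRange c_act5_12) (range_glue (range_of_allRange c_act5_13) (range_glue (range_of_allRange c_act5_14) (range_glue (range_of_allRange c_act5_15) (range_glue (range_of_allRange c_act5_16) (range_glue (range_of_allRange c_act5_17) (range_glue (range_of_allRange c_act5_18) (range_glue (range_of_allRange c_act5_19) (range_glue (range_of_allRange c_act5_20) (range_glue (range_of_allRange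 c_act5_21) (range_glue (range_of_allRange c_act5_22) (range_glue (range_of_allRange c_act5_23) (range_glue (range_of_allRange c_act5_24) (range_glue (range_of_allRange c_act5_25) (range_glue (range_of_allRange c_act5_26) (range_glue (range_of_allRange c_act5_27) (range_glue (range_of_allRange c_act5_28) (range_glue (range_of_allRange c_act5_29) (range_glue (range_of_allRange c_act5_30) (range_glue (range_of_allRange c_act5_31) (range_glue (range_of_allRange c_act5_32) (range_glue (range_of_allRange c_act5_33) (range_glue (range_of_allRange c_act5_34) (range_glue (range_of_allRange c_act5_35) (range_glue (range_of_allRange c_act5_36) (range_glue (range_of_allRange c_act5_37) (range_glue (range_of_allRange c_act5_38) (range_of_allRange c_act5_39))))))))))))))))))))))))))))))))))))))))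
theorem h_act5_p1 : ∀ i, 100000 ≤ i → i < 200000 → Nat.beq (actR5 i) i = true :=
  (range_glue (range_of_allRange c_act5_40) (range_glue (range_of_allRange c_act5_41) (range_glue (range_of_allRange c_act5_42) (range_glue (range_of_allRange c_act5_43) (range_glue (range_of_allRange c_act5_44) (range_glue (range_of_allRange c_act5_45) (range_glue (range_of_allRange c_act5_46) (range_glue (range_of_allRange c_act5_47) (range_glue (range_of_allRange c_act5_48) (range_glue (range_of_allRange c_act5_49) (range_glue (range_of_allRange c_act5_50) (range_glue (range_of_allRange c_act5_51) (range_glue (range_of_allRange c_act5_52) (range_glue (range_of_allRange c_act5_53) (range_glue (range_of_allRange c_act5_54) (range_glue (range_of_allRange c_act5_55) (range_glue (range_of_allRange c_act5_56) (range_glue (range_of_allRange c_act5_57) (range_glue (range_of_allRange c_act5_58) (range_glue (range_of_allRange c_act5_59) (range_glue (range_of_allRange c_act5_60) (range_glue (range_of_allRange c_act5_61) (range_glue (range_of_allRange c_act5_62) (range_glue (range_of_allRange c_act5_63) (range_glue (range_of_allRange c_act5_64) (range_glue (range_of_allRange c_act5_65) (range_glue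 (range_of_allRange c_act5_66) (range_glue (range_of_allRange c_act5_67) (range_glue (range_of_allRange c_act5_68) (range_glue (range_of_allRange c_act5_69) (range_glue (range_of_allRange c_act5_70) (range_glue (range_of_allRange c_act5_71) (range_glue (range_of_allRange c_act5_72) (range_glue (range_of_allRange c_act5_73) (range_glue (range_of_allRange c_act5_74) (range_glue (range_of_allRange c_act5_75) (range_glue (range_of_allRange c_act5_76) (range_glue (range_of_allRange c_act5_77) (range_glue (range_of_allRange c_act5_78) (range_of_allRange c_act5_79))))))))))))))))))))))))))))))))))))))))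
theorem h_act5_p2 : ∀ i, 200000 ≤ i → i < 252000 → Nat.beq (actR5 i) i = true :=
  (range_glue (range_of_allRange c_act5_80) (range_glue (range_of_allRange c_act5_81) (range_glue (range_of_allRange c_act5_82) (range_glue (range_of_allRange c_act5_83) (range_glue (range_of_allRange c_act5_84) (range_glue (range_of_allRange c_act5_85) (range_glue (range_of_allRange c_act5_86) (range_glue (range_of_allRange c_act5_87) (range_glue (range_of_allRange c_act5_88) (range_glue (range_of_allRange c_act5_89) (range_glue (range_of_allRange c_act5_90) (range_glue (range_of_allRange c_act5_91) (range_glue (range_of_allRange c_act5_92) (range_glue (range_of_allRange c_act5_93) (range_glue (range_of_allRange c_act5_94) (range_glue (range_of_allRange c_act5_95) (range_glue (range_of_allRange c_act5_96) (range_glue (range_of_allRange c_act5_97) (range_glue (range_of_allRange c_act5_98) (range_glue (range_of_allRange c_act5_99) (range_of_allRange c_act5_100)))))))))))))))))))))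
theorem h_act5 : ∀ i, 0 ≤ i → i < 252000 → Nat.beq (actR5 i) i = true :=
  (range_glue h_act5_p0 (range_glue h_act5_p1 h_act5_p2))

theorem checked : T.Checked D where
  hz := c_zero
  hn := fun d h0 hd => h_names d h0 hd
  hb := fun j hj => allBelow_eq_true.1 c_base j hj
  hr := fun t h1 h2 => h_rel t h1 h2
  hfin := fun i x hi hx => h_fin i (Nat.zero_le _) hi x hx
  hperm := fun i x hi hx => h_perm i (Nat.zero_le _) hi x hx
  hlet := fun x hx => allBelow_eq_true.1 c_let x hx
  hcls := fun d h0 hd => h_cls d h0 hd
  hrep := fun i hi => h_rep i (Nat.zero_le _) hi
  hcls0 := c_cls0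
  hname0 := c_name0
  hN := by decide
  hM := by decide

theorem h_act : ∀ L ∈ PHNK.P.real, ∀ i, i < T.N → Tab.relActOK T D L i = true := by
  rw [c_real]
  intro L hL
  simp only [realLit, List.mem_cons, List.not_mem_nil, or_false] at hL
  rcases hL with rfl | rfl | rfl | rfl | rfl | rfl
  · intro i hi
    rw [Tab.relActOK, ← actR0_eq]
    exact h_act0 i (Nat.zero_le _) hi
  · intro i hi
    rw [Tab.relActOK, ← actR1_eq]
    exact h_act1 i (Nat.zero_le _) hi
  · intro i hi
    rw [Tab.relActOK, ← actR2_eq]
    exact h_act2 i (Nat.zero_le _) hi
  · intro i hi
    rw [Tab.relActOK, ← actR3_eq]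
    exact h_act3 i (Nat.zero_le _) hi
  · intro i hi
    rw [Tab.relActOK, ← actR4_eq]
    exact h_act4 i (Nat.zero_le _) hi
  · intro i hi
    rw [Tab.relActOK, ← actR5_eq]
    exact h_act5 i (Nat.zero_le _) hi

theorem inst : Inst PHNK.P T D subs where
  hP := PHNK.valid
  hk := rfl
  hinv := rfl
  hsubs := by
    intro u hu x hx
    have h1 := List.all_eq_true.1 c_subs u hu
    exact ble_succ (List.all_eq_true.1 h1 x hx)
  htab := c_tab
  hC := checked
  hact := h_act
  hsubfix := fun u hu => beq_eq (List.all_eq_true.1 c_subfix u hu)

theorem index_eq : (Inst.subG PHNK.P subs).index = 252000 := inst.index_eq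


end Cfsg.Agent.Lib.Helper4.TCD.HNK1
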