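import Cfsg.Agent.Lib.Helper4.TCD_HNKR_Acc

namespace Cfsg.Agent.Lib.Helper4.TCD.HNKR

open Cfsg.Agent.Lib.Helper4.TC

set_option maxRecDepth 100000
set_option Elab.async false

theorem c_w_kx81_0 : allRange (fun i => Nat.beq (actW_kx81 i) i) 0 1786 = true := by decide +kernel
theorem c_w_kx82_0 : allRange (fun i => Nat.beq (actW_kx82 i) i) 0 1786 = true := by decide +kernel
theorem c_w_kx83_0 : allRange (fun i => Nat.beq (actW_kx83 i) i) 0 1786 = true := by decide +kernel
theorem c_w_kx84_0 : allRange (fun i => Nat.beq (actW_kx84 i) i) 0 1786 = true := by decide +kernel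
theorem c_w_kx85_0 : allRange (fun i => Nat.beq (actW_kx85 i) i) 0 1786 = true := by decide +kernel
theorem c_w_kx86_0 : allRange (fun i => Nat.beq (actW_kx86 i) i) 0 1786 = true := by decide +kernel
theorem c_w_kx87_0 : allRange (fun i => Nat.beq (actW_kx87 i) i) 0 1786 = true := by decide +kernel
theorem c_w_kx88_0 : allRange (fun i => Nat.beq (actW_kx88 i) i) 0 1786 = true := by decide +kernel
theorem c_w_kx89_0 : allRange (fun i => Nat.beq (actW_kx89 i) i) 0 1786 = true := by decide +kernel
theorem c_w_kx90_0 : allRange (fun i => Nat.beq (actW_kx90 i) i) 0 1786 = true := by decide +kernel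
theorem c_w_kx91_0 : allRange (fun i => Nat.beq (actW_kx91 i) i) 0 1786 = true := by decide +kernel
theorem c_w_kx92_0 : allRange (fun i => Nat.beq (actW_kx92 i) i) 0 1786 = true := by decide +kernel
theorem c_w_kx93_0 : allRange (fun i => Nat.beq (actW_kx93 i) i) 0 1786 = true := by decide +kernel
theorem c_w_kx94_0 : allRange (fun i => Nat.beq (actW_kx94 i) i) 0 1786 = true := by decide +kernel
theorem c_w_kx95_0 : allRange (fun i => Nat.beq (actW_kx95 i) i) 0 1786 = true := by decide +kernel
theorem c_w_kx96_0 : allRange (fun i => Nat.beq (actW_kx96 i) i) 0 1786 = true := by decide +kernel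
theorem c_w_kx97_0 : allRange (fun i => Nat.beq (actW_kx97 i) i) 0 1786 = true := by decide +kernel
theorem c_w_kx98_0 : allRange (fun i => Nat.beq (actW_kx98 i) i) 0 1786 = true := by decide +kernel
theorem c_w_kx99_0 : allRange (fun i => Nat.beq (actW_kx99 i) i) 0 1786 = true := by decide +kernel
theorem c_w_kx100_0 : allRange (fun i => Nat.beq (actW_kx100 i) i) 0 1786 = true := by decide +kernel
theorem c_w_kx101_0 : allRange (fun i => Nat.beq (actW_kx101 i) i) 0 1786 = true := by decide +kernel
theorem c_w_kx102_0 : allRange (fun i => Nat.beq (actW_kx102 i) i) 0 1786 = true := by decide +kernel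
theorem c_w_kx103_0 : allRange (fun i => Nat.beq (actW_kx103 i) i) 0 1786 = true := by decide +kernel
theorem c_w_kx104_0 : allRange (fun i => Nat.beq (actW_kx104 i) i) 0 1786 = true := by decide +kernel
theorem c_w_kx105_0 : allRange (fun i => Nat.beq (actW_kx105 i) i) 0 1786 = true := by decide +kernel
theorem c_w_kx106_0 : allRange (fun i => Nat.beq (actW_kx106 i) i) 0 1786 = true := by decide +kernel
theorem c_w_kx107_0 : allRange (fun i => Nat.beq (actW_kx107 i) i) 0 1786 = true := by decide +kernel
theorem c_w_kx108_0 : allRange (fun i => Nat.beq (actW_kx108 i) i) 0 1786 = true := by decide +kernel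
theorem c_w_kx109_0 : allRange (fun i => Nat.beq (actW_kx109 i) i) 0 1786 = true := by decide +kernel
theorem c_w_kx110_0 : allRange (fun i => Nat.beq (actW_kx110 i) i) 0 1786 = true := by decide +kernel
theorem c_w_kx111_0 : allRange (fun i => Nat.beq (actW_kx111 i) i) 0 1786 = true := by decide +kernel
theorem c_w_kx112_0 : allRange (fun i => Nat.beq (actW_kx112 i) i) 0 1786 = true := by decide +kernel
theorem c_w_kx113_0 : allRange (fun i => Nat.beq (actW_kx113 i) i) 0 1786 = true := by decide +kernel
theorem c_w_kx114_0 : allRange (fun i => Nat.beq (actW_kx114 i) i) 0 1786 = true := by decide +kernel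
theorem c_w_kx115_0 : allRange (fun i => Nat.beq (actW_kx115 i) i) 0 1786 = true := by decide +kernel
theorem c_w_kx116_0 : allRange (fun i => Nat.beq (actW_kx116 i) i) 0 1786 = true := by decide +kernel
theorem c_w_kx117_0 : allRange (fun i => Nat.beq (actW_kx117 i) i) 0 1786 = true := by decide +kernel
theorem c_w_kx118_0 : allRange (fun i => Nat.beq (actW_kx118 i) i) 0 1786 = true := by decide +kernel
theorem c_w_kx119_0 : allRange (fun i => Nat.beq (actW_kx119 i) i) 0 1786 = true := by decide +kernel
theorem c_w_kx120_0 : allRange (fun i => Nat.beq (actW_kx120 i) i) 0 1786 = true := by decide +kernel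

end Cfsg.Agent.Lib.Helper4.TCD.HNKR
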