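import Cfsg.Agent.Lib.Helper4.TCD_HNKR_C0
import Cfsg.Agent.Lib.Helper4.TCD_HNKR_C1

namespace Cfsg.Agent.Lib.Helper4.TCD.HNKR

open Cfsg.Agent.Lib.Helper4.TC

theorem h_perm : ∀ i, 0 ≤ i → i < 1786 → ∀ x, x < 4 → T.permOK1 D i x = true :=
  (range_of_allGrid c_perm_0)
theorem h_act0 : ∀ i, 0 ≤ i → i < 1786 → Nat.beq (actR0 i) i = true :=
  (range_of_allRange c_act0_0)
theorem h_act1 : ∀ i, 0 ≤ i → i < 1786 → Nat.beq (actR1 i) i = true :=
  (range_of_allRange c_act1_0)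
theorem h_act2 : ∀ i, 0 ≤ i → i < 1786 → Nat.beq (actR2 i) i = true :=
  (range_of_allRange c_act2_0)
theorem h_act3 : ∀ i, 0 ≤ i → i < 1786 → Nat.beq (actR3 i) i = true :=
  (range_of_allRange c_act3_0)
theorem h_act4 : ∀ i, 0 ≤ i → i < 1786 → Nat.beq (actR4 i) i = true :=
  (range_of_allRange c_act4_0)
theorem h_act5 : ∀ i, 0 ≤ i → i < 1786 → Nat.beq (actR5 i) i = true :=
  (range_of_allRange c_act5_0)
theorem h_w0_kx0 : ∀ i, 0 ≤ i → i < 1786 → Nat.beq (actW_kx0 i) i = true :=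
  (range_of_allRange c_w_kx0_0)
theorem h_w0_kx1 : ∀ i, 0 ≤ i → i < 1786 → Nat.beq (actW_kx1 i) i = true :=
  (range_of_allRange c_w_kx1_0)
theorem h_w0_kx2 : ∀ i, 0 ≤ i → i < 1786 → Nat.beq (actW_kx2 i) i = true :=
  (range_of_allRange c_w_kx2_0)
theorem h_w0_kx3 : ∀ i, 0 ≤ i → i < 1786 → Nat.beq (actW_kx3 i) i = true :=
  (range_of_allRange c_w_kx3_0)
theorem h_w0_kx4 : ∀ i, 0 ≤ i → i < 1786 → Nat.beq (actW_kx4 i) i = true :=
  (range_of_allRange c_w_kx4_0)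
theorem h_w0_kx5 : ∀ i, 0 ≤ i → i < 1786 → Nat.beq (actW_kx5 i) i = true :=
  (range_of_allRange c_w_kx5_0)
theorem h_w0_kx6 : ∀ i, 0 ≤ i → i < 1786 → Nat.beq (actW_kx6 i) i = true :=
  (range_of_allRange c_w_kx6_0)
theorem h_w0_kx7 : ∀ i, 0 ≤ i → i < 1786 → Nat.beq (actW_kx7 i) i = true :=
  (range_of_allRange c_w_kx7_0)
theorem h_w0_kx8 : ∀ i, 0 ≤ i → i < 1786 → Nat.beq (actW_kx8 i) i = true :=
  (range_of_allRange c_w_kx8_0)
theorem h_w0_kx9 : ∀ i, 0 ≤ i → i < 1786 → Nat.beq (actW_kx9 i) i = true :=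
  (range_of_allRange c_w_kx9_0)
theorem h_w0_kx10 : ∀ i, 0 ≤ i → i < 1786 → Nat.beq (actW_kx10 i) i = true :=
  (range_of_allRange c_w_kx10_0)
theorem h_w0_kx11 : ∀ i, 0 ≤ i → i < 1786 → Nat.beq (actW_kx11 i) i = true :=
  (range_of_allRange c_w_kx11_0)
theorem h_w0_kx12 : ∀ i, 0 ≤ i → i < 1786 → Nat.beq (actW_kx12 i) i = true :=
  (range_of_allRange c_w_kx12_0)
theorem h_w0_kx13 : ∀ i, 0 ≤ i → i < 1786 → Nat.beq (actW_kx13 i) i = true :=
  (range_of_allRange c_w_kx13_0)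
theorem h_w0_kx14 : ∀ i, 0 ≤ i → i < 1786 → Nat.beq (actW_kx14 i) i = true :=
  (range_of_allRange c_w_kx14_0)
theorem h_w0_kx15 : ∀ i, 0 ≤ i → i < 1786 → Nat.beq (actW_kx15 i) i = true :=
  (range_of_allRange c_w_kx15_0)
theorem h_w0_kx16 : ∀ i, 0 ≤ i → i < 1786 → Nat.beq (actW_kx16 i) i = true :=
  (range_of_allRange c_w_kx16_0)
theorem h_w0_kx17 : ∀ i, 0 ≤ i → i < 1786 → Nat.beq (actW_kx17 i) i = true :=
  (range_of_allRange c_w_kx17_0)
theorem h_w0_kx18 : ∀ i, 0 ≤ i → i < 1786 → Nat.beq (actW_kx18 i) i = true :=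
  (range_of_allRange c_w_kx18_0)
theorem h_w0_kx19 : ∀ i, 0 ≤ i → i < 1786 → Nat.beq (actW_kx19 i) i = true :=
  (range_of_allRange c_w_kx19_0)
theorem h_w0_kx20 : ∀ i, 0 ≤ i → i < 1786 → Nat.beq (actW_kx20 i) i = true :=
  (range_of_allRange c_w_kx20_0)
theorem h_w0_kx21 : ∀ i, 0 ≤ i → i < 1786 → Nat.beq (actW_kx21 i) i = true :=
  (range_of_allRange c_w_kx21_0)
theorem h_w0_kx22 : ∀ i, 0 ≤ i → i < 1786 → Nat.beq (actW_kx22 i) i = true :=
  (range_of_allRange c_w_kx22_0)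
theorem h_w0_kx23 : ∀ i, 0 ≤ i → i < 1786 → Nat.beq (actW_kx23 i) i = true :=
  (range_of_allRange c_w_kx23_0)
theorem h_w0_kx24 : ∀ i, 0 ≤ i → i < 1786 → Nat.beq (actW_kx24 i) i = true :=
  (range_of_allRange c_w_kx24_0)
theorem h_w0_kx25 : ∀ i, 0 ≤ i → i < 1786 → Nat.beq (actW_kx25 i) i = true :=
  (range_of_allRange c_w_kx25_0)
theorem h_w0_kx26 : ∀ i, 0 ≤ i → i < 1786 → Nat.beq (actW_kx26 i) i = true :=
  (range_of_allRange c_w_kx26_0)
theorem h_w0_kx27 : ∀ i, 0 ≤ i → i < 1786 → Nat.beq (actW_kx27 i) i = true :=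
  (range_of_allRange c_w_kx27_0)
theorem h_w0_kx28 : ∀ i, 0 ≤ i → i < 1786 → Nat.beq (actW_kx28 i) i = true :=
  (range_of_allRange c_w_kx28_0)
theorem h_w0_kx29 : ∀ i, 0 ≤ i → i < 1786 → Nat.beq (actW_kx29 i) i = true :=
  (range_of_allRange c_w_kx29_0)
theorem h_w0_kx30 : ∀ i, 0 ≤ i → i < 1786 → Nat.beq (actW_kx30 i) i = true :=
  (range_of_allRange c_w_kx30_0)
theorem h_w0_kx31 : ∀ i, 0 ≤ i → i < 1786 → Nat.beq (actW_kx31 i) i = true :=
  (range_of_allRange c_w_kx31_0)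
theorem h_w0_kx32 : ∀ i, 0 ≤ i → i < 1786 → Nat.beq (actW_kx32 i) i = true :=
  (range_of_allRange c_w_kx32_0)
theorem h_w0_kx33 : ∀ i, 0 ≤ i → i < 1786 → Nat.beq (actW_kx33 i) i = true :=
  (range_of_allRange c_w_kx33_0)
theorem h_w0_kx34 : ∀ i, 0 ≤ i → i < 1786 → Nat.beq (actW_kx34 i) i = true :=
  (range_of_allRange c_w_kx34_0)
theorem h_w0_kx35 : ∀ i, 0 ≤ i → i < 1786 → Nat.beq (actW_kx35 i) i = true :=
  (range_of_allRange c_w_kx35_0)
theorem h_w0_kx36 : ∀ i, 0 ≤ i → i < 1786 → Nat.beq (actW_kx36 i) i = true :=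
  (range_of_allRange c_w_kx36_0)
theorem h_w0_kx37 : ∀ i, 0 ≤ i → i < 1786 → Nat.beq (actW_kx37 i) i = true :=
  (range_of_allRange c_w_kx37_0)
theorem h_w0_kx38 : ∀ i, 0 ≤ i → i < 1786 → Nat.beq (actW_kx38 i) i = true :=
  (range_of_allRange c_w_kx38_0)
theorem h_w0_kx39 : ∀ i, 0 ≤ i → i < 1786 → Nat.beq (actW_kx39 i) i = true :=
  (range_of_allRange c_w_kx39_0)
theorem h_w0_kx40 : ∀ i, 0 ≤ i → i < 1786 → Nat.beq (actW_kx40 i) i = true :=
  (range_of_allRange c_w_kx40_0)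
theorem h_w0_kx41 : ∀ i, 0 ≤ i → i < 1786 → Nat.beq (actW_kx41 i) i = true :=
  (range_of_allRange c_w_kx41_0)
theorem h_w0_kx42 : ∀ i, 0 ≤ i → i < 1786 → Nat.beq (actW_kx42 i) i = true :=
  (range_of_allRange c_w_kx42_0)
theorem h_w0_kx43 : ∀ i, 0 ≤ i → i < 1786 → Nat.beq (actW_kx43 i) i = true :=
  (range_of_allRange c_w_kx43_0)
theorem h_w0_kx44 : ∀ i, 0 ≤ i → i < 1786 → Nat.beq (actW_kx44 i) i = true :=
  (range_of_allRange c_w_kx44_0)
theorem h_w0_kx45 : ∀ i, 0 ≤ i → i < 1786 → Nat.beq (actW_kx45 i) i = true :=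
  (range_of_allRange c_w_kx45_0)
theorem h_w0_kx46 : ∀ i, 0 ≤ i → i < 1786 → Nat.beq (actW_kx46 i) i = true :=
  (range_of_allRange c_w_kx46_0)
theorem h_w0_kx47 : ∀ i, 0 ≤ i → i < 1786 → Nat.beq (actW_kx47 i) i = true :=
  (range_of_allRange c_w_kx47_0)
theorem h_w0_kx48 : ∀ i, 0 ≤ i → i < 1786 → Nat.beq (actW_kx48 i) i = true :=
  (range_of_allRange c_w_kx48_0)
theorem h_w0_kx49 : ∀ i, 0 ≤ i → i < 1786 → Nat.beq (actW_kx49 i) i = true :=
  (range_of_allRange c_w_kx49_0)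
theorem h_w0_kx50 : ∀ i, 0 ≤ i → i < 1786 → Nat.beq (actW_kx50 i) i = true :=
  (range_of_allRange c_w_kx50_0)
theorem h_w0_kx51 : ∀ i, 0 ≤ i → i < 1786 → Nat.beq (actW_kx51 i) i = true :=
  (range_of_allRange c_w_kx51_0)
theorem h_w0_kx52 : ∀ i, 0 ≤ i → i < 1786 → Nat.beq (actW_kx52 i) i = true :=
  (range_of_allRange c_w_kx52_0)
theorem h_w0_kx53 : ∀ i, 0 ≤ i → i < 1786 → Nat.beq (actW_kx53 i) i = true :=
  (range_of_allRange c_w_kx53_0)
theorem h_w0_kx54 : ∀ i, 0 ≤ i → i < 1786 → Nat.beq (actW_kx54 i) i = true :=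
  (range_of_allRange c_w_kx54_0)
theorem h_w0_kx55 : ∀ i, 0 ≤ i → i < 1786 → Nat.beq (actW_kx55 i) i = true :=
  (range_of_allRange c_w_kx55_0)
theorem h_w0_kx56 : ∀ i, 0 ≤ i → i < 1786 → Nat.beq (actW_kx56 i) i = true :=
  (range_of_allRange c_w_kx56_0)
theorem h_w0_kx57 : ∀ i, 0 ≤ i → i < 1786 → Nat.beq (actW_kx57 i) i = true :=
  (range_of_allRange c_w_kx57_0)
theorem h_w0_kx58 : ∀ i, 0 ≤ i → i < 1786 → Nat.beq (actW_kx58 i) i = true :=
  (range_of_allRange c_w_kx58_0)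
theorem h_w0_kx59 : ∀ i, 0 ≤ i → i < 1786 → Nat.beq (actW_kx59 i) i = true :=
  (range_of_allRange c_w_kx59_0)
theorem h_w0_kx60 : ∀ i, 0 ≤ i → i < 1786 → Nat.beq (actW_kx60 i) i = true :=
  (range_of_allRange c_w_kx60_0)
theorem h_w0_kx61 : ∀ i, 0 ≤ i → i < 1786 → Nat.beq (actW_kx61 i) i = true :=
  (range_of_allRange c_w_kx61_0)
theorem h_w0_kx62 : ∀ i, 0 ≤ i → i < 1786 → Nat.beq (actW_kx62 i) i = true :=
  (range_of_allRange c_w_kx62_0)
theorem h_w0_kx63 : ∀ i, 0 ≤ i → i < 1786 → Nat.beq (actW_kx63 i) i = true :=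
  (range_of_allRange c_w_kx63_0)
theorem h_w0_kx64 : ∀ i, 0 ≤ i → i < 1786 → Nat.beq (actW_kx64 i) i = true :=
  (range_of_allRange c_w_kx64_0)
theorem h_w0_kx65 : ∀ i, 0 ≤ i → i < 1786 → Nat.beq (actW_kx65 i) i = true :=
  (range_of_allRange c_w_kx65_0)
theorem h_w0_kx66 : ∀ i, 0 ≤ i → i < 1786 → Nat.beq (actW_kx66 i) i = true :=
  (range_of_allRange c_w_kx66_0)
theorem h_w0_kx67 : ∀ i, 0 ≤ i → i < 1786 → Nat.beq (actW_kx67 i) i = true :=
  (range_of_allRange c_w_kx67_0)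
theorem h_w0_kx68 : ∀ i, 0 ≤ i → i < 1786 → Nat.beq (actW_kx68 i) i = true :=
  (range_of_allRange c_w_kx68_0)
theorem h_w0_kx69 : ∀ i, 0 ≤ i → i < 1786 → Nat.beq (actW_kx69 i) i = true :=
  (range_of_allRange c_w_kx69_0)
theorem h_w0_kx70 : ∀ i, 0 ≤ i → i < 1786 → Nat.beq (actW_kx70 i) i = true :=
  (range_of_allRange c_w_kx70_0)
theorem h_w0_kx71 : ∀ i, 0 ≤ i → i < 1786 → Nat.beq (actW_kx71 i) i = true :=
  (range_of_allRange c_w_kx71_0)
theorem h_w0_kx72 : ∀ i, 0 ≤ i → i < 1786 → Nat.beq (actW_kx72 i) i = true :=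
  (range_of_allRange c_w_kx72_0)
theorem h_w0_kx73 : ∀ i, 0 ≤ i → i < 1786 → Nat.beq (actW_kx73 i) i = true :=
  (range_of_allRange c_w_kx73_0)
theorem h_w0_kx74 : ∀ i, 0 ≤ i → i < 1786 → Nat.beq (actW_kx74 i) i = true :=
  (range_of_allRange c_w_kx74_0)
theorem h_w0_kx75 : ∀ i, 0 ≤ i → i < 1786 → Nat.beq (actW_kx75 i) i = true :=
  (range_of_allRange c_w_kx75_0)
theorem h_w0_kx76 : ∀ i, 0 ≤ i → i < 1786 → Nat.beq (actW_kx76 i) i = true :=
  (range_of_allRange c_w_kx76_0)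
theorem h_w0_kx77 : ∀ i, 0 ≤ i → i < 1786 → Nat.beq (actW_kx77 i) i = true :=
  (range_of_allRange c_w_kx77_0)
theorem h_w0_kx78 : ∀ i, 0 ≤ i → i < 1786 → Nat.beq (actW_kx78 i) i = true :=
  (range_of_allRange c_w_kx78_0)
theorem h_w0_kx79 : ∀ i, 0 ≤ i → i < 1786 → Nat.beq (actW_kx79 i) i = true :=
  (range_of_allRange c_w_kx79_0)
theorem h_w0_kx80 : ∀ i, 0 ≤ i → i < 1786 → Nat.beq (actW_kx80 i) i = true :=
  (range_of_allRange c_w_kx80_0)
theorem h_w0_kx81 : ∀ i, 0 ≤ i → i < 1786 → Nat.beq (actW_kx81 i) i = true :=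
  (range_of_allRange c_w_kx81_0)
theorem h_w0_kx82 : ∀ i, 0 ≤ i → i < 1786 → Nat.beq (actW_kx82 i) i = true :=
  (range_of_allRange c_w_kx82_0)
theorem h_w0_kx83 : ∀ i, 0 ≤ i → i < 1786 → Nat.beq (actW_kx83 i) i = true :=
  (range_of_allRange c_w_kx83_0)
theorem h_w0_kx84 : ∀ i, 0 ≤ i → i < 1786 → Nat.beq (actW_kx84 i) i = true :=
  (range_of_allRange c_w_kx84_0)
theorem h_w0_kx85 : ∀ i, 0 ≤ i → i < 1786 → Nat.beq (actW_kx85 i) i = true :=
  (range_of_allRange c_w_kx85_0)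
theorem h_w0_kx86 : ∀ i, 0 ≤ i → i < 1786 → Nat.beq (actW_kx86 i) i = true :=
  (range_of_allRange c_w_kx86_0)
theorem h_w0_kx87 : ∀ i, 0 ≤ i → i < 1786 → Nat.beq (actW_kx87 i) i = true :=
  (range_of_allRange c_w_kx87_0)
theorem h_w0_kx88 : ∀ i, 0 ≤ i → i < 1786 → Nat.beq (actW_kx88 i) i = true :=
  (range_of_allRange c_w_kx88_0)
theorem h_w0_kx89 : ∀ i, 0 ≤ i → i < 1786 → Nat.beq (actW_kx89 i) i = true :=
  (range_of_allRange c_w_kx89_0)
theorem h_w0_kx90 : ∀ i, 0 ≤ i → i < 1786 → Nat.beq (actW_kx90 i) i = true :=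
  (range_of_allRange c_w_kx90_0)
theorem h_w0_kx91 : ∀ i, 0 ≤ i → i < 1786 → Nat.beq (actW_kx91 i) i = true :=
  (range_of_allRange c_w_kx91_0)
theorem h_w0_kx92 : ∀ i, 0 ≤ i → i < 1786 → Nat.beq (actW_kx92 i) i = true :=
  (range_of_allRange c_w_kx92_0)
theorem h_w0_kx93 : ∀ i, 0 ≤ i → i < 1786 → Nat.beq (actW_kx93 i) i = true :=
  (range_of_allRange c_w_kx93_0)
theorem h_w0_kx94 : ∀ i, 0 ≤ i → i < 1786 → Nat.beq (actW_kx94 i) i = true :=
  (range_of_allRange c_w_kx94_0)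
theorem h_w0_kx95 : ∀ i, 0 ≤ i → i < 1786 → Nat.beq (actW_kx95 i) i = true :=
  (range_of_allRange c_w_kx95_0)
theorem h_w0_kx96 : ∀ i, 0 ≤ i → i < 1786 → Nat.beq (actW_kx96 i) i = true :=
  (range_of_allRange c_w_kx96_0)
theorem h_w0_kx97 : ∀ i, 0 ≤ i → i < 1786 → Nat.beq (actW_kx97 i) i = true :=
  (range_of_allRange c_w_kx97_0)
theorem h_w0_kx98 : ∀ i, 0 ≤ i → i < 1786 → Nat.beq (actW_kx98 i) i = true :=
  (range_of_allRange c_w_kx98_0)
theorem h_w0_kx99 : ∀ i, 0 ≤ i → i < 1786 → Nat.beq (actW_kx99 i) i = true :=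
  (range_of_allRange c_w_kx99_0)
theorem h_w0_kx100 : ∀ i, 0 ≤ i → i < 1786 → Nat.beq (actW_kx100 i) i = true :=
  (range_of_allRange c_w_kx100_0)
theorem h_w0_kx101 : ∀ i, 0 ≤ i → i < 1786 → Nat.beq (actW_kx101 i) i = true :=
  (range_of_allRange c_w_kx101_0)
theorem h_w0_kx102 : ∀ i, 0 ≤ i → i < 1786 → Nat.beq (actW_kx102 i) i = true :=
  (range_of_allRange c_w_kx102_0)
theorem h_w0_kx103 : ∀ i, 0 ≤ i → i < 1786 → Nat.beq (actW_kx103 i) i = true :=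
  (range_of_allRange c_w_kx103_0)
theorem h_w0_kx104 : ∀ i, 0 ≤ i → i < 1786 → Nat.beq (actW_kx104 i) i = true :=
  (range_of_allRange c_w_kx104_0)
theorem h_w0_kx105 : ∀ i, 0 ≤ i → i < 1786 → Nat.beq (actW_kx105 i) i = true :=
  (range_of_allRange c_w_kx105_0)
theorem h_w0_kx106 : ∀ i, 0 ≤ i → i < 1786 → Nat.beq (actW_kx106 i) i = true :=
  (range_of_allRange c_w_kx106_0)
theorem h_w0_kx107 : ∀ i, 0 ≤ i → i < 1786 → Nat.beq (actW_kx107 i) i = true :=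
  (range_of_allRange c_w_kx107_0)
theorem h_w0_kx108 : ∀ i, 0 ≤ i → i < 1786 → Nat.beq (actW_kx108 i) i = true :=
  (range_of_allRange c_w_kx108_0)
theorem h_w0_kx109 : ∀ i, 0 ≤ i → i < 1786 → Nat.beq (actW_kx109 i) i = true :=
  (range_of_allRange c_w_kx109_0)
theorem h_w0_kx110 : ∀ i, 0 ≤ i → i < 1786 → Nat.beq (actW_kx110 i) i = true :=
  (range_of_allRange c_w_kx110_0)
theorem h_w0_kx111 : ∀ i, 0 ≤ i → i < 1786 → Nat.beq (actW_kx111 i) i = true :=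
  (range_of_allRange c_w_kx111_0)
theorem h_w0_kx112 : ∀ i, 0 ≤ i → i < 1786 → Nat.beq (actW_kx112 i) i = true :=
  (range_of_allRange c_w_kx112_0)
theorem h_w0_kx113 : ∀ i, 0 ≤ i → i < 1786 → Nat.beq (actW_kx113 i) i = true :=
  (range_of_allRange c_w_kx113_0)
theorem h_w0_kx114 : ∀ i, 0 ≤ i → i < 1786 → Nat.beq (actW_kx114 i) i = true :=
  (range_of_allRange c_w_kx114_0)
theorem h_w0_kx115 : ∀ i, 0 ≤ i → i < 1786 → Nat.beq (actW_kx115 i) i = true :=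
  (range_of_allRange c_w_kx115_0)
theorem h_w0_kx116 : ∀ i, 0 ≤ i → i < 1786 → Nat.beq (actW_kx116 i) i = true :=
  (range_of_allRange c_w_kx116_0)
theorem h_w0_kx117 : ∀ i, 0 ≤ i → i < 1786 → Nat.beq (actW_kx117 i) i = true :=
  (range_of_allRange c_w_kx117_0)
theorem h_w0_kx118 : ∀ i, 0 ≤ i → i < 1786 → Nat.beq (actW_kx118 i) i = true :=
  (range_of_allRange c_w_kx118_0)
theorem h_w0_kx119 : ∀ i, 0 ≤ i → i < 1786 → Nat.beq (actW_kx119 i) i = true :=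
  (range_of_allRange c_w_kx119_0)
theorem h_w0_kx120 : ∀ i, 0 ≤ i → i < 1786 → Nat.beq (actW_kx120 i) i = true :=
  (range_of_allRange c_w_kx120_0)

theorem h_act : ∀ L ∈ PHNK.P.real, ∀ i, i < T.N → Tab.relActOK T D L i = true := by
  rw [c_real]
  intro L hL
  simp only [realLit, List.mem_cons, List.not_mem_nil, or_false] at hL
  rcases hL with rfl | rfl | rfl | rfl | rfl | rfl
  · intro i hi
    rw [Tab.relActOK, ← actR0_eq]
    exact h_act0 i (Nat.zero_le _) hi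
  · intro i hi
    rw [Tab.relActOK, ← actR1_eq]
    exact h_act1 i (Nat.zero_le _) hi
  · intro i hi
    rw [Tab.relActOK, ← actR2_eq]
    exact h_act2 i (Nat.zero_le _) hi
  · intro i hi
    rw [Tab.relActOK, ← actR3_eq]
    exact h_act3 i (Nat.zero_le _) hi
  · intro i hi
    rw [Tab.relActOK, ← actR4_eq]
    exact h_act4 i (Nat.zero_le _) hi
  · intro i hi
    rw [Tab.relActOK, ← actR5_eq]
    exact h_act5 i (Nat.zero_le _) hi

theorem h_w_kx0 : ∀ i, i < T.N → Tab.relActOK T D kx0 i = true := by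
  intro i hi
  rw [Tab.relActOK, ← actW_kx0_eq]
  exact h_w0_kx0 i (Nat.zero_le _) hi

theorem h_w_kx1 : ∀ i, i < T.N → Tab.relActOK T D kx1 i = true := by
  intro i hi
  rw [Tab.relActOK, ← actW_kx1_eq]
  exact h_w0_kx1 i (Nat.zero_le _) hi

theorem h_w_kx2 : ∀ i, i < T.N → Tab.relActOK T D kx2 i = true := by
  intro i hi
  rw [Tab.relActOK, ← actW_kx2_eq]
  exact h_w0_kx2 i (Nat.zero_le _) hi

theorem h_w_kx3 : ∀ i, i < T.N → Tab.relActOK T D kx3 i = true := by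
  intro i hi
  rw [Tab.relActOK, ← actW_kx3_eq]
  exact h_w0_kx3 i (Nat.zero_le _) hi

theorem h_w_kx4 : ∀ i, i < T.N → Tab.relActOK T D kx4 i = true := by
  intro i hi
  rw [Tab.relActOK, ← actW_kx4_eq]
  exact h_w0_kx4 i (Nat.zero_le _) hi

theorem h_w_kx5 : ∀ i, i < T.N → Tab.relActOK T D kx5 i = true := by
  intro i hi
  rw [Tab.relActOK, ← actW_kx5_eq]
  exact h_w0_kx5 i (Nat.zero_le _) hi

theorem h_w_kx6 : ∀ i, i < T.N → Tab.relActOK T D kx6 i = true := by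
  intro i hi
  rw [Tab.relActOK, ← actW_kx6_eq]
  exact h_w0_kx6 i (Nat.zero_le _) hi

theorem h_w_kx7 : ∀ i, i < T.N → Tab.relActOK T D kx7 i = true := by
  intro i hi
  rw [Tab.relActOK, ← actW_kx7_eq]
  exact h_w0_kx7 i (Nat.zero_le _) hi

theorem h_w_kx8 : ∀ i, i < T.N → Tab.relActOK T D kx8 i = true := by
  intro i hi
  rw [Tab.relActOK, ← actW_kx8_eq]
  exact h_w0_kx8 i (Nat.zero_le _) hi

theorem h_w_kx9 : ∀ i, i < T.N → Tab.relActOK T D kx9 i = true := by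
  intro i hi
  rw [Tab.relActOK, ← actW_kx9_eq]
  exact h_w0_kx9 i (Nat.zero_le _) hi

theorem h_w_kx10 : ∀ i, i < T.N → Tab.relActOK T D kx10 i = true := by
  intro i hi
  rw [Tab.relActOK, ← actW_kx10_eq]
  exact h_w0_kx10 i (Nat.zero_le _) hi

theorem h_w_kx11 : ∀ i, i < T.N → Tab.relActOK T D kx11 i = true := by
  intro i hi
  rw [Tab.relActOK, ← actW_kx11_eq]
  exact h_w0_kx11 i (Nat.zero_le _) hi

theorem h_w_kx12 : ∀ i, i < T.N → Tab.relActOK T D kx12 i = true := by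
  intro i hi
  rw [Tab.relActOK, ← actW_kx12_eq]
  exact h_w0_kx12 i (Nat.zero_le _) hi

theorem h_w_kx13 : ∀ i, i < T.N → Tab.relActOK T D kx13 i = true := by
  intro i hi
  rw [Tab.relActOK, ← actW_kx13_eq]
  exact h_w0_kx13 i (Nat.zero_le _) hi

theorem h_w_kx14 : ∀ i, i < T.N → Tab.relActOK T D kx14 i = true := by
  intro i hi
  rw [Tab.relActOK, ← actW_kx14_eq]
  exact h_w0_kx14 i (Nat.zero_le _) hi

theorem h_w_kx15 : ∀ i, i < T.N → Tab.relActOK T D kx15 i = true := by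
  intro i hi
  rw [Tab.relActOK, ← actW_kx15_eq]
  exact h_w0_kx15 i (Nat.zero_le _) hi

theorem h_w_kx16 : ∀ i, i < T.N → Tab.relActOK T D kx16 i = true := by
  intro i hi
  rw [Tab.relActOK, ← actW_kx16_eq]
  exact h_w0_kx16 i (Nat.zero_le _) hi

theorem h_w_kx17 : ∀ i, i < T.N → Tab.relActOK T D kx17 i = true := by
  intro i hi
  rw [Tab.relActOK, ← actW_kx17_eq]
  exact h_w0_kx17 i (Nat.zero_le _) hi

theorem h_w_kx18 : ∀ i, i < T.N → Tab.relActOK T D kx18 i = true := by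
  intro i hi
  rw [Tab.relActOK, ← actW_kx18_eq]
  exact h_w0_kx18 i (Nat.zero_le _) hi

theorem h_w_kx19 : ∀ i, i < T.N → Tab.relActOK T D kx19 i = true := by
  intro i hi
  rw [Tab.relActOK, ← actW_kx19_eq]
  exact h_w0_kx19 i (Nat.zero_le _) hi

theorem h_w_kx20 : ∀ i, i < T.N → Tab.relActOK T D kx20 i = true := by
  intro i hi
  rw [Tab.relActOK, ← actW_kx20_eq]
  exact h_w0_kx20 i (Nat.zero_le _) hi

theorem h_w_kx21 : ∀ i, i < T.N → Tab.relActOK T D kx21 i = true := by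
  intro i hi
  rw [Tab.relActOK, ← actW_kx21_eq]
  exact h_w0_kx21 i (Nat.zero_le _) hi

theorem h_w_kx22 : ∀ i, i < T.N → Tab.relActOK T D kx22 i = true := by
  intro i hi
  rw [Tab.relActOK, ← actW_kx22_eq]
  exact h_w0_kx22 i (Nat.zero_le _) hi

theorem h_w_kx23 : ∀ i, i < T.N → Tab.relActOK T D kx23 i = true := by
  intro i hi
  rw [Tab.relActOK, ← actW_kx23_eq]
  exact h_w0_kx23 i (Nat.zero_le _) hi

theorem h_w_kx24 : ∀ i, i < T.N → Tab.relActOK T D kx24 i = true := by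
  intro i hi
  rw [Tab.relActOK, ← actW_kx24_eq]
  exact h_w0_kx24 i (Nat.zero_le _) hi

theorem h_w_kx25 : ∀ i, i < T.N → Tab.relActOK T D kx25 i = true := by
  intro i hi
  rw [Tab.relActOK, ← actW_kx25_eq]
  exact h_w0_kx25 i (Nat.zero_le _) hi

theorem h_w_kx26 : ∀ i, i < T.N → Tab.relActOK T D kx26 i = true := by
  intro i hi
  rw [Tab.relActOK, ← actW_kx26_eq]
  exact h_w0_kx26 i (Nat.zero_le _) hi

theorem h_w_kx27 : ∀ i, i < T.N → Tab.relActOK T D kx27 i = true := by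
  intro i hi
  rw [Tab.relActOK, ← actW_kx27_eq]
  exact h_w0_kx27 i (Nat.zero_le _) hi

theorem h_w_kx28 : ∀ i, i < T.N → Tab.relActOK T D kx28 i = true := by
  intro i hi
  rw [Tab.relActOK, ← actW_kx28_eq]
  exact h_w0_kx28 i (Nat.zero_le _) hi

theorem h_w_kx29 : ∀ i, i < T.N → Tab.relActOK T D kx29 i = true := by
  intro i hi
  rw [Tab.relActOK, ← actW_kx29_eq]
  exact h_w0_kx29 i (Nat.zero_le _) hi

theorem h_w_kx30 : ∀ i, i < T.N → Tab.relActOK T D kx30 i = true := by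
  intro i hi
  rw [Tab.relActOK, ← actW_kx30_eq]
  exact h_w0_kx30 i (Nat.zero_le _) hi

theorem h_w_kx31 : ∀ i, i < T.N → Tab.relActOK T D kx31 i = true := by
  intro i hi
  rw [Tab.relActOK, ← actW_kx31_eq]
  exact h_w0_kx31 i (Nat.zero_le _) hi

theorem h_w_kx32 : ∀ i, i < T.N → Tab.relActOK T D kx32 i = true := by
  intro i hi
  rw [Tab.relActOK, ← actW_kx32_eq]
  exact h_w0_kx32 i (Nat.zero_le _) hi

theorem h_w_kx33 : ∀ i, i < T.N → Tab.relActOK T D kx33 i = true := by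
  intro i hi
  rw [Tab.relActOK, ← actW_kx33_eq]
  exact h_w0_kx33 i (Nat.zero_le _) hi

theorem h_w_kx34 : ∀ i, i < T.N → Tab.relActOK T D kx34 i = true := by
  intro i hi
  rw [Tab.relActOK, ← actW_kx34_eq]
  exact h_w0_kx34 i (Nat.zero_le _) hi

theorem h_w_kx35 : ∀ i, i < T.N → Tab.relActOK T D kx35 i = true := by
  intro i hi
  rw [Tab.relActOK, ← actW_kx35_eq]
  exact h_w0_kx35 i (Nat.zero_le _) hi

theorem h_w_kx36 : ∀ i, i < T.N → Tab.relActOK T D kx36 i = true := by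
  intro i hi
  rw [Tab.relActOK, ← actW_kx36_eq]
  exact h_w0_kx36 i (Nat.zero_le _) hi

theorem h_w_kx37 : ∀ i, i < T.N → Tab.relActOK T D kx37 i = true := by
  intro i hi
  rw [Tab.relActOK, ← actW_kx37_eq]
  exact h_w0_kx37 i (Nat.zero_le _) hi

theorem h_w_kx38 : ∀ i, i < T.N → Tab.relActOK T D kx38 i = true := by
  intro i hi
  rw [Tab.relActOK, ← actW_kx38_eq]
  exact h_w0_kx38 i (Nat.zero_le _) hi

theorem h_w_kx39 : ∀ i, i < T.N → Tab.relActOK T D kx39 i = true := by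
  intro i hi
  rw [Tab.relActOK, ← actW_kx39_eq]
  exact h_w0_kx39 i (Nat.zero_le _) hi

theorem h_w_kx40 : ∀ i, i < T.N → Tab.relActOK T D kx40 i = true := by
  intro i hi
  rw [Tab.relActOK, ← actW_kx40_eq]
  exact h_w0_kx40 i (Nat.zero_le _) hi

theorem h_w_kx41 : ∀ i, i < T.N → Tab.relActOK T D kx41 i = true := by
  intro i hi
  rw [Tab.relActOK, ← actW_kx41_eq]
  exact h_w0_kx41 i (Nat.zero_le _) hi

theorem h_w_kx42 : ∀ i, i < T.N → Tab.relActOK T D kx42 i = true := by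
  intro i hi
  rw [Tab.relActOK, ← actW_kx42_eq]
  exact h_w0_kx42 i (Nat.zero_le _) hi

theorem h_w_kx43 : ∀ i, i < T.N → Tab.relActOK T D kx43 i = true := by
  intro i hi
  rw [Tab.relActOK, ← actW_kx43_eq]
  exact h_w0_kx43 i (Nat.zero_le _) hi

theorem h_w_kx44 : ∀ i, i < T.N → Tab.relActOK T D kx44 i = true := by
  intro i hi
  rw [Tab.relActOK, ← actW_kx44_eq]
  exact h_w0_kx44 i (Nat.zero_le _) hi

theorem h_w_kx45 : ∀ i, i < T.N → Tab.relActOK T D kx45 i = true := by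
  intro i hi
  rw [Tab.relActOK, ← actW_kx45_eq]
  exact h_w0_kx45 i (Nat.zero_le _) hi

theorem h_w_kx46 : ∀ i, i < T.N → Tab.relActOK T D kx46 i = true := by
  intro i hi
  rw [Tab.relActOK, ← actW_kx46_eq]
  exact h_w0_kx46 i (Nat.zero_le _) hi

theorem h_w_kx47 : ∀ i, i < T.N → Tab.relActOK T D kx47 i = true := by
  intro i hi
  rw [Tab.relActOK, ← actW_kx47_eq]
  exact h_w0_kx47 i (Nat.zero_le _) hi

theorem h_w_kx48 : ∀ i, i < T.N → Tab.relActOK T D kx48 i = true := by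
  intro i hi
  rw [Tab.relActOK, ← actW_kx48_eq]
  exact h_w0_kx48 i (Nat.zero_le _) hi

theorem h_w_kx49 : ∀ i, i < T.N → Tab.relActOK T D kx49 i = true := by
  intro i hi
  rw [Tab.relActOK, ← actW_kx49_eq]
  exact h_w0_kx49 i (Nat.zero_le _) hi

theorem h_w_kx50 : ∀ i, i < T.N → Tab.relActOK T D kx50 i = true := by
  intro i hi
  rw [Tab.relActOK, ← actW_kx50_eq]
  exact h_w0_kx50 i (Nat.zero_le _) hi

theorem h_w_kx51 : ∀ i, i < T.N → Tab.relActOK T D kx51 i = true := by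
  intro i hi
  rw [Tab.relActOK, ← actW_kx51_eq]
  exact h_w0_kx51 i (Nat.zero_le _) hi

theorem h_w_kx52 : ∀ i, i < T.N → Tab.relActOK T D kx52 i = true := by
  intro i hi
  rw [Tab.relActOK, ← actW_kx52_eq]
  exact h_w0_kx52 i (Nat.zero_le _) hi

theorem h_w_kx53 : ∀ i, i < T.N → Tab.relActOK T D kx53 i = true := by
  intro i hi
  rw [Tab.relActOK, ← actW_kx53_eq]
  exact h_w0_kx53 i (Nat.zero_le _) hi

theorem h_w_kx54 : ∀ i, i < T.N → Tab.relActOK T D kx54 i = true := by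
  intro i hi
  rw [Tab.relActOK, ← actW_kx54_eq]
  exact h_w0_kx54 i (Nat.zero_le _) hi

theorem h_w_kx55 : ∀ i, i < T.N → Tab.relActOK T D kx55 i = true := by
  intro i hi
  rw [Tab.relActOK, ← actW_kx55_eq]
  exact h_w0_kx55 i (Nat.zero_le _) hi

theorem h_w_kx56 : ∀ i, i < T.N → Tab.relActOK T D kx56 i = true := by
  intro i hi
  rw [Tab.relActOK, ← actW_kx56_eq]
  exact h_w0_kx56 i (Nat.zero_le _) hi

theorem h_w_kx57 : ∀ i, i < T.N → Tab.relActOK T D kx57 i = true := by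
  intro i hi
  rw [Tab.relActOK, ← actW_kx57_eq]
  exact h_w0_kx57 i (Nat.zero_le _) hi

theorem h_w_kx58 : ∀ i, i < T.N → Tab.relActOK T D kx58 i = true := by
  intro i hi
  rw [Tab.relActOK, ← actW_kx58_eq]
  exact h_w0_kx58 i (Nat.zero_le _) hi

theorem h_w_kx59 : ∀ i, i < T.N → Tab.relActOK T D kx59 i = true := by
  intro i hi
  rw [Tab.relActOK, ← actW_kx59_eq]
  exact h_w0_kx59 i (Nat.zero_le _) hi

theorem h_w_kx60 : ∀ i, i < T.N → Tab.relActOK T D kx60 i = true := by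
  intro i hi
  rw [Tab.relActOK, ← actW_kx60_eq]
  exact h_w0_kx60 i (Nat.zero_le _) hi

theorem h_w_kx61 : ∀ i, i < T.N → Tab.relActOK T D kx61 i = true := by
  intro i hi
  rw [Tab.relActOK, ← actW_kx61_eq]
  exact h_w0_kx61 i (Nat.zero_le _) hi

theorem h_w_kx62 : ∀ i, i < T.N → Tab.relActOK T D kx62 i = true := by
  intro i hi
  rw [Tab.relActOK, ← actW_kx62_eq]
  exact h_w0_kx62 i (Nat.zero_le _) hi

theorem h_w_kx63 : ∀ i, i < T.N → Tab.relActOK T D kx63 i = true := by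
  intro i hi
  rw [Tab.relActOK, ← actW_kx63_eq]
  exact h_w0_kx63 i (Nat.zero_le _) hi

theorem h_w_kx64 : ∀ i, i < T.N → Tab.relActOK T D kx64 i = true := by
  intro i hi
  rw [Tab.relActOK, ← actW_kx64_eq]
  exact h_w0_kx64 i (Nat.zero_le _) hi

theorem h_w_kx65 : ∀ i, i < T.N → Tab.relActOK T D kx65 i = true := by
  intro i hi
  rw [Tab.relActOK, ← actW_kx65_eq]
  exact h_w0_kx65 i (Nat.zero_le _) hi

theorem h_w_kx66 : ∀ i, i < T.N → Tab.relActOK T D kx66 i = true := by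
  intro i hi
  rw [Tab.relActOK, ← actW_kx66_eq]
  exact h_w0_kx66 i (Nat.zero_le _) hi

theorem h_w_kx67 : ∀ i, i < T.N → Tab.relActOK T D kx67 i = true := by
  intro i hi
  rw [Tab.relActOK, ← actW_kx67_eq]
  exact h_w0_kx67 i (Nat.zero_le _) hi

theorem h_w_kx68 : ∀ i, i < T.N → Tab.relActOK T D kx68 i = true := by
  intro i hi
  rw [Tab.relActOK, ← actW_kx68_eq]
  exact h_w0_kx68 i (Nat.zero_le _) hi

theorem h_w_kx69 : ∀ i, i < T.N → Tab.relActOK T D kx69 i = true := by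
  intro i hi
  rw [Tab.relActOK, ← actW_kx69_eq]
  exact h_w0_kx69 i (Nat.zero_le _) hi

theorem h_w_kx70 : ∀ i, i < T.N → Tab.relActOK T D kx70 i = true := by
  intro i hi
  rw [Tab.relActOK, ← actW_kx70_eq]
  exact h_w0_kx70 i (Nat.zero_le _) hi

theorem h_w_kx71 : ∀ i, i < T.N → Tab.relActOK T D kx71 i = true := by
  intro i hi
  rw [Tab.relActOK, ← actW_kx71_eq]
  exact h_w0_kx71 i (Nat.zero_le _) hi

theorem h_w_kx72 : ∀ i, i < T.N → Tab.relActOK T D kx72 i = true := by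
  intro i hi
  rw [Tab.relActOK, ← actW_kx72_eq]
  exact h_w0_kx72 i (Nat.zero_le _) hi

theorem h_w_kx73 : ∀ i, i < T.N → Tab.relActOK T D kx73 i = true := by
  intro i hi
  rw [Tab.relActOK, ← actW_kx73_eq]
  exact h_w0_kx73 i (Nat.zero_le _) hi

theorem h_w_kx74 : ∀ i, i < T.N → Tab.relActOK T D kx74 i = true := by
  intro i hi
  rw [Tab.relActOK, ← actW_kx74_eq]
  exact h_w0_kx74 i (Nat.zero_le _) hi

theorem h_w_kx75 : ∀ i, i < T.N → Tab.relActOK T D kx75 i = true := by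
  intro i hi
  rw [Tab.relActOK, ← actW_kx75_eq]
  exact h_w0_kx75 i (Nat.zero_le _) hi

theorem h_w_kx76 : ∀ i, i < T.N → Tab.relActOK T D kx76 i = true := by
  intro i hi
  rw [Tab.relActOK, ← actW_kx76_eq]
  exact h_w0_kx76 i (Nat.zero_le _) hi

theorem h_w_kx77 : ∀ i, i < T.N → Tab.relActOK T D kx77 i = true := by
  intro i hi
  rw [Tab.relActOK, ← actW_kx77_eq]
  exact h_w0_kx77 i (Nat.zero_le _) hi

theorem h_w_kx78 : ∀ i, i < T.N → Tab.relActOK T D kx78 i = true := by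
  intro i hi
  rw [Tab.relActOK, ← actW_kx78_eq]
  exact h_w0_kx78 i (Nat.zero_le _) hi

theorem h_w_kx79 : ∀ i, i < T.N → Tab.relActOK T D kx79 i = true := by
  intro i hi
  rw [Tab.relActOK, ← actW_kx79_eq]
  exact h_w0_kx79 i (Nat.zero_le _) hi

theorem h_w_kx80 : ∀ i, i < T.N → Tab.relActOK T D kx80 i = true := by
  intro i hi
  rw [Tab.relActOK, ← actW_kx80_eq]
  exact h_w0_kx80 i (Nat.zero_le _) hi

theorem h_w_kx81 : ∀ i, i < T.N → Tab.relActOK T D kx81 i = true := by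
  intro i hi
  rw [Tab.relActOK, ← actW_kx81_eq]
  exact h_w0_kx81 i (Nat.zero_le _) hi

theorem h_w_kx82 : ∀ i, i < T.N → Tab.relActOK T D kx82 i = true := by
  intro i hi
  rw [Tab.relActOK, ← actW_kx82_eq]
  exact h_w0_kx82 i (Nat.zero_le _) hi

theorem h_w_kx83 : ∀ i, i < T.N → Tab.relActOK T D kx83 i = true := by
  intro i hi
  rw [Tab.relActOK, ← actW_kx83_eq]
  exact h_w0_kx83 i (Nat.zero_le _) hi

theorem h_w_kx84 : ∀ i, i < T.N → Tab.relActOK T D kx84 i = true := by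
  intro i hi
  rw [Tab.relActOK, ← actW_kx84_eq]
  exact h_w0_kx84 i (Nat.zero_le _) hi

theorem h_w_kx85 : ∀ i, i < T.N → Tab.relActOK T D kx85 i = true := by
  intro i hi
  rw [Tab.relActOK, ← actW_kx85_eq]
  exact h_w0_kx85 i (Nat.zero_le _) hi

theorem h_w_kx86 : ∀ i, i < T.N → Tab.relActOK T D kx86 i = true := by
  intro i hi
  rw [Tab.relActOK, ← actW_kx86_eq]
  exact h_w0_kx86 i (Nat.zero_le _) hi

theorem h_w_kx87 : ∀ i, i < T.N → Tab.relActOK T D kx87 i = true := by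
  intro i hi
  rw [Tab.relActOK, ← actW_kx87_eq]
  exact h_w0_kx87 i (Nat.zero_le _) hi

theorem h_w_kx88 : ∀ i, i < T.N → Tab.relActOK T D kx88 i = true := by
  intro i hi
  rw [Tab.relActOK, ← actW_kx88_eq]
  exact h_w0_kx88 i (Nat.zero_le _) hi

theorem h_w_kx89 : ∀ i, i < T.N → Tab.relActOK T D kx89 i = true := by
  intro i hi
  rw [Tab.relActOK, ← actW_kx89_eq]
  exact h_w0_kx89 i (Nat.zero_le _) hi

theorem h_w_kx90 : ∀ i, i < T.N → Tab.relActOK T D kx90 i = true := by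
  intro i hi
  rw [Tab.relActOK, ← actW_kx90_eq]
  exact h_w0_kx90 i (Nat.zero_le _) hi

theorem h_w_kx91 : ∀ i, i < T.N → Tab.relActOK T D kx91 i = true := by
  intro i hi
  rw [Tab.relActOK, ← actW_kx91_eq]
  exact h_w0_kx91 i (Nat.zero_le _) hi

theorem h_w_kx92 : ∀ i, i < T.N → Tab.relActOK T D kx92 i = true := by
  intro i hi
  rw [Tab.relActOK, ← actW_kx92_eq]
  exact h_w0_kx92 i (Nat.zero_le _) hi

theorem h_w_kx93 : ∀ i, i < T.N → Tab.relActOK T D kx93 i = true := by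
  intro i hi
  rw [Tab.relActOK, ← actW_kx93_eq]
  exact h_w0_kx93 i (Nat.zero_le _) hi

theorem h_w_kx94 : ∀ i, i < T.N → Tab.relActOK T D kx94 i = true := by
  intro i hi
  rw [Tab.relActOK, ← actW_kx94_eq]
  exact h_w0_kx94 i (Nat.zero_le _) hi

theorem h_w_kx95 : ∀ i, i < T.N → Tab.relActOK T D kx95 i = true := by
  intro i hi
  rw [Tab.relActOK, ← actW_kx95_eq]
  exact h_w0_kx95 i (Nat.zero_le _) hi

theorem h_w_kx96 : ∀ i, i < T.N → Tab.relActOK T D kx96 i = true := by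
  intro i hi
  rw [Tab.relActOK, ← actW_kx96_eq]
  exact h_w0_kx96 i (Nat.zero_le _) hi

theorem h_w_kx97 : ∀ i, i < T.N → Tab.relActOK T D kx97 i = true := by
  intro i hi
  rw [Tab.relActOK, ← actW_kx97_eq]
  exact h_w0_kx97 i (Nat.zero_le _) hi

theorem h_w_kx98 : ∀ i, i < T.N → Tab.relActOK T D kx98 i = true := by
  intro i hi
  rw [Tab.relActOK, ← actW_kx98_eq]
  exact h_w0_kx98 i (Nat.zero_le _) hi

theorem h_w_kx99 : ∀ i, i < T.N → Tab.relActOK T D kx99 i = true := by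
  intro i hi
  rw [Tab.relActOK, ← actW_kx99_eq]
  exact h_w0_kx99 i (Nat.zero_le _) hi

theorem h_w_kx100 : ∀ i, i < T.N → Tab.relActOK T D kx100 i = true := by
  intro i hi
  rw [Tab.relActOK, ← actW_kx100_eq]
  exact h_w0_kx100 i (Nat.zero_le _) hi

theorem h_w_kx101 : ∀ i, i < T.N → Tab.relActOK T D kx101 i = true := by
  intro i hi
  rw [Tab.relActOK, ← actW_kx101_eq]
  exact h_w0_kx101 i (Nat.zero_le _) hi

theorem h_w_kx102 : ∀ i, i < T.N → Tab.relActOK T D kx102 i = true := by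
  intro i hi
  rw [Tab.relActOK, ← actW_kx102_eq]
  exact h_w0_kx102 i (Nat.zero_le _) hi

theorem h_w_kx103 : ∀ i, i < T.N → Tab.relActOK T D kx103 i = true := by
  intro i hi
  rw [Tab.relActOK, ← actW_kx103_eq]
  exact h_w0_kx103 i (Nat.zero_le _) hi

theorem h_w_kx104 : ∀ i, i < T.N → Tab.relActOK T D kx104 i = true := by
  intro i hi
  rw [Tab.relActOK, ← actW_kx104_eq]
  exact h_w0_kx104 i (Nat.zero_le _) hi

theorem h_w_kx105 : ∀ i, i < T.N → Tab.relActOK T D kx105 i = true := by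
  intro i hi
  rw [Tab.relActOK, ← actW_kx105_eq]
  exact h_w0_kx105 i (Nat.zero_le _) hi

theorem h_w_kx106 : ∀ i, i < T.N → Tab.relActOK T D kx106 i = true := by
  intro i hi
  rw [Tab.relActOK, ← actW_kx106_eq]
  exact h_w0_kx106 i (Nat.zero_le _) hi

theorem h_w_kx107 : ∀ i, i < T.N → Tab.relActOK T D kx107 i = true := by
  intro i hi
  rw [Tab.relActOK, ← actW_kx107_eq]
  exact h_w0_kx107 i (Nat.zero_le _) hi

theorem h_w_kx108 : ∀ i, i < T.N → Tab.relActOK T D kx108 i = true := by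
  intro i hi
  rw [Tab.relActOK, ← actW_kx108_eq]
  exact h_w0_kx108 i (Nat.zero_le _) hi

theorem h_w_kx109 : ∀ i, i < T.N → Tab.relActOK T D kx109 i = true := by
  intro i hi
  rw [Tab.relActOK, ← actW_kx109_eq]
  exact h_w0_kx109 i (Nat.zero_le _) hi

theorem h_w_kx110 : ∀ i, i < T.N → Tab.relActOK T D kx110 i = true := by
  intro i hi
  rw [Tab.relActOK, ← actW_kx110_eq]
  exact h_w0_kx110 i (Nat.zero_le _) hi

theorem h_w_kx111 : ∀ i, i < T.N → Tab.relActOK T D kx111 i = true := by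
  intro i hi
  rw [Tab.relActOK, ← actW_kx111_eq]
  exact h_w0_kx111 i (Nat.zero_le _) hi

theorem h_w_kx112 : ∀ i, i < T.N → Tab.relActOK T D kx112 i = true := by
  intro i hi
  rw [Tab.relActOK, ← actW_kx112_eq]
  exact h_w0_kx112 i (Nat.zero_le _) hi

theorem h_w_kx113 : ∀ i, i < T.N → Tab.relActOK T D kx113 i = true := by
  intro i hi
  rw [Tab.relActOK, ← actW_kx113_eq]
  exact h_w0_kx113 i (Nat.zero_le _) hi

theorem h_w_kx114 : ∀ i, i < T.N → Tab.relActOK T D kx114 i = true := by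
  intro i hi
  rw [Tab.relActOK, ← actW_kx114_eq]
  exact h_w0_kx114 i (Nat.zero_le _) hi

theorem h_w_kx115 : ∀ i, i < T.N → Tab.relActOK T D kx115 i = true := by
  intro i hi
  rw [Tab.relActOK, ← actW_kx115_eq]
  exact h_w0_kx115 i (Nat.zero_le _) hi

theorem h_w_kx116 : ∀ i, i < T.N → Tab.relActOK T D kx116 i = true := by
  intro i hi
  rw [Tab.relActOK, ← actW_kx116_eq]
  exact h_w0_kx116 i (Nat.zero_le _) hi

theorem h_w_kx117 : ∀ i, i < T.N → Tab.relActOK T D kx117 i = true := by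
  intro i hi
  rw [Tab.relActOK, ← actW_kx117_eq]
  exact h_w0_kx117 i (Nat.zero_le _) hi

theorem h_w_kx118 : ∀ i, i < T.N → Tab.relActOK T D kx118 i = true := by
  intro i hi
  rw [Tab.relActOK, ← actW_kx118_eq]
  exact h_w0_kx118 i (Nat.zero_le _) hi

theorem h_w_kx119 : ∀ i, i < T.N → Tab.relActOK T D kx119 i = true := by
  intro i hi
  rw [Tab.relActOK, ← actW_kx119_eq]
  exact h_w0_kx119 i (Nat.zero_le _) hi

theorem h_w_kx120 : ∀ i, i < T.N → Tab.relActOK T D kx120 i = true := by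
  intro i hi
  rw [Tab.relActOK, ← actW_kx120_eq]
  exact h_w0_kx120 i (Nat.zero_le _) hi

theorem prep : PRep PHNK.P T D where
  hP := PHNK.valid
  hk := rfl
  hinv := fun _ _ => rfl
  hperm := fun i x hi hx => h_perm i (Nat.zero_le _) hi x hx
  hlet := fun x hx => allBelow_eq_true.1 c_let x hx
  hact := h_act

end Cfsg.Agent.Lib.Helper4.TCD.HNKR
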