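import Mathlib
import Cfsg.Agent.Lib.Helper4.TCD_HNK1_Fin
import Cfsg.Agent.Lib.Helper4.TCD_HNK2_Fin
import Cfsg.Agent.Lib.Helper4.TCD_HNKR_Fin
import Cfsg.Agent.Lib.Helper4.TCD_HNKL_Fin
import Cfsg.Agent.Lib.Helper4.TC18

/-! The auxiliary presented group `HNK` on `x`, `y`: its order is 1512000, a table of permutations on 1786
points represents it faithfully, and a list of further relator words holds in it (generated). -/

namespace Cfsg.Agent.Lib.Helper4.HNKMain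

open Cfsg.Agent.Lib.Helper4.TC Cfsg.Agent.Lib.Helper4.TCD Cfsg.Agent.Lib.Helper4.TC.Log

theorem y_pow : (PHNK.P.gR 2) ^ 6 = 1 := by
  have hmem : HNK1.rw0 ∈ PHNK.P.real := by rw [HNK1.c_real]; exact List.mem_cons_self
  have h := (PHNK.valid.real_sound HNK1.rw0 hmem).2
  have e : HNK1.rw0 = (List.replicate 6 [2]).flatten := by decide
  rw [e, wordP_replicate_flatten, wordP_cons, wordP_nil, mul_one] at h
  exact h

theorem subG_y : Inst.subG PHNK.P HNK1.subs = Subgroup.zpowers (PHNK.P.gR 2) := by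
  rw [Subgroup.zpowers_eq_closure]
  unfold Inst.subG
  congr 1
  ext s
  simp only [HNK1.subs, List.mem_cons, List.not_mem_nil, or_false, exists_eq_left, Set.mem_setOf_eq,
    Set.mem_singleton_iff, wordP_cons, wordP_nil, mul_one]

theorem card_y : Nat.card (Inst.subG PHNK.P HNK1.subs) ≤ 6 := by
  rw [subG_y, Nat.card_zpowers]
  exact orderOf_le_of_pow_eq_one (by norm_num) y_pow

theorem fin_y : Finite (Inst.subG PHNK.P HNK1.subs) := by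
  apply Nat.finite_of_card_ne_zero
  rw [subG_y, Nat.card_zpowers]
  have : 0 < orderOf (PHNK.P.gR 2) := by
    rw [orderOf_pos_iff, isOfFinOrder_iff_pow_eq_one]
    exact ⟨6, by norm_num, y_pow⟩
  omega

/-- the order and the faithful permutation representation -/
theorem order_aux : Finite PHNK.P.Grp ∧ Function.Injective HNKR.prep.phi ∧ Nat.card PHNK.P.Grp = 1512000 := by
  obtain ⟨fG, cG⟩ := HNK1.inst.card_le 6 fin_y card_y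
  have hub : Nat.card PHNK.P.Grp ≤ 1512000 := le_trans cG (by decide)
  obtain ⟨hinj, hcard⟩ := HNKR.prep.card_eq HNKL.S rfl rfl HNKL.htab0 HNKL.ok 1512000 (by decide)
    HNKL.prod_eq fG hub
  exact ⟨fG, hinj, hcard⟩

/-- the subgroup of order 4000 -/
theorem card_H1 : Finite (Inst.subG PHNK.P HNK2.subs) ∧ Nat.card (Inst.subG PHNK.P HNK2.subs) = 4000 := by
  obtain ⟨fG, _, hcard⟩ := order_aux
  have h1 := (Inst.subG PHNK.P HNK2.subs).index_mul_card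
  rw [HNK2.index_eq, hcard] at h1
  refine ⟨inferInstance, ?_⟩
  omega

/-- the further relator words -/
def extraK : List (List ℕ) := [
  HNKR.kx0,
  HNKR.kx1,
  HNKR.kx2,
  HNKR.kx3,
  HNKR.kx4,
  HNKR.kx5,
  HNKR.kx6,
  HNKR.kx7,
  HNKR.kx8,
  HNKR.kx9,
  HNKR.kx10,
  HNKR.kx11,
  HNKR.kx12,
  HNKR.kx13,
  HNKR.kx14,
  HNKR.kx15,
  HNKR.kx16,
  HNKR.kx17,
  HNKR.kx18,
  HNKR.kx19,
  HNKR.kx20,
  HNKR.kx21,
  HNKR.kx22,
  HNKR.kx23,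
  HNKR.kx24,
  HNKR.kx25,
  HNKR.kx26,
  HNKR.kx27,
  HNKR.kx28,
  HNKR.kx29,
  HNKR.kx30,
  HNKR.kx31,
  HNKR.kx32,
  HNKR.kx33,
  HNKR.kx34,
  HNKR.kx35,
  HNKR.kx36,
  HNKR.kx37,
  HNKR.kx38,
  HNKR.kx39,
  HNKR.kx40,
  HNKR.kx41,
  HNKR.kx42,
  HNKR.kx43,
  HNKR.kx44,
  HNKR.kx45,
  HNKR.kx46,
  HNKR.kx47,
  HNKR.kx48,
  HNKR.kx49,
  HNKR.kx50,
  HNKR.kx51,
  HNKR.kx52,
  HNKR.kx53,
  HNKR.kx54,
  HNKR.kx55,
  HNKR.kx56,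
  HNKR.kx57,
  HNKR.kx58,
  HNKR.kx59,
  HNKR.kx60,
  HNKR.kx61,
  HNKR.kx62,
  HNKR.kx63,
  HNKR.kx64,
  HNKR.kx65,
  HNKR.kx66,
  HNKR.kx67,
  HNKR.kx68,
  HNKR.kx69,
  HNKR.kx70,
  HNKR.kx71,
  HNKR.kx72,
  HNKR.kx73,
  HNKR.kx74,
  HNKR.kx75,
  HNKR.kx76,
  HNKR.kx77,
  HNKR.kx78,
  HNKR.kx79,
  HNKR.kx80,
  HNKR.kx81,
  HNKR.kx82,
  HNKR.kx83,
  HNKR.kx84,
  HNKR.kx85,
  HNKR.kx86,
  HNKR.kx87,
  HNKR.kx88,
  HNKR.kx89,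
  HNKR.kx90,
  HNKR.kx91,
  HNKR.kx92,
  HNKR.kx93,
  HNKR.kx94,
  HNKR.kx95,
  HNKR.kx96,
  HNKR.kx97,
  HNKR.kx98,
  HNKR.kx99,
  HNKR.kx100,
  HNKR.kx101,
  HNKR.kx102,
  HNKR.kx103,
  HNKR.kx104,
  HNKR.kx105,
  HNKR.kx106,
  HNKR.kx107,
  HNKR.kx108,
  HNKR.kx109,
  HNKR.kx110,
  HNKR.kx111,
  HNKR.kx112,
  HNKR.kx113,
  HNKR.kx114,
  HNKR.kx115,
  HNKR.kx116,
  HNKR.kx117,
  HNKR.kx118,
  HNKR.kx119,
  HNKR.kx120 ]

theorem extraK_lt : ∀ r ∈ extraK, ∀ x ∈ r, x < 4 := by decide +kernel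

theorem extraK_sound : ∀ r ∈ extraK, wordP PHNK.P.gR r = 1 := by
  have hinj := order_aux.2.1
  unfold extraK
  refine List.forall_mem_cons.2 ⟨HNKR.prep.word_eq_one hinj HNKR.kx0 (by decide) HNKR.h_w_kx0, ?_⟩
  refine List.forall_mem_cons.2 ⟨HNKR.prep.word_eq_one hinj HNKR.kx1 (by decide) HNKR.h_w_kx1, ?_⟩
  refine List.forall_mem_cons.2 ⟨HNKR.prep.word_eq_one hinj HNKR.kx2 (by decide) HNKR.h_w_kx2, ?_⟩
  refine List.forall_mem_cons.2 ⟨HNKR.prep.word_eq_one hinj HNKR.kx3 (by decide) HNKR.h_w_kx3, ?_⟩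
  refine List.forall_mem_cons.2 ⟨HNKR.prep.word_eq_one hinj HNKR.kx4 (by decide) HNKR.h_w_kx4, ?_⟩
  refine List.forall_mem_cons.2 ⟨HNKR.prep.word_eq_one hinj HNKR.kx5 (by decide) HNKR.h_w_kx5, ?_⟩
  refine List.forall_mem_cons.2 ⟨HNKR.prep.word_eq_one hinj HNKR.kx6 (by decide) HNKR.h_w_kx6, ?_⟩
  refine List.forall_mem_cons.2 ⟨HNKR.prep.word_eq_one hinj HNKR.kx7 (by decide) HNKR.h_w_kx7, ?_⟩
  refine List.forall_mem_cons.2 ⟨HNKR.prep.word_eq_one hinj HNKR.kx8 (by decide) HNKR.h_w_kx8, ?_⟩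
  refine List.forall_mem_cons.2 ⟨HNKR.prep.word_eq_one hinj HNKR.kx9 (by decide) HNKR.h_w_kx9, ?_⟩
  refine List.forall_mem_cons.2 ⟨HNKR.prep.word_eq_one hinj HNKR.kx10 (by decide) HNKR.h_w_kx10, ?_⟩
  refine List.forall_mem_cons.2 ⟨HNKR.prep.word_eq_one hinj HNKR.kx11 (by decide) HNKR.h_w_kx11, ?_⟩
  refine List.forall_mem_cons.2 ⟨HNKR.prep.word_eq_one hinj HNKR.kx12 (by decide) HNKR.h_w_kx12, ?_⟩
  refine List.forall_mem_cons.2 ⟨HNKR.prep.word_eq_one hinj HNKR.kx13 (by decide) HNKR.h_w_kx13, ?_⟩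
  refine List.forall_mem_cons.2 ⟨HNKR.prep.word_eq_one hinj HNKR.kx14 (by decide) HNKR.h_w_kx14, ?_⟩
  refine List.forall_mem_cons.2 ⟨HNKR.prep.word_eq_one hinj HNKR.kx15 (by decide) HNKR.h_w_kx15, ?_⟩
  refine List.forall_mem_cons.2 ⟨HNKR.prep.word_eq_one hinj HNKR.kx16 (by decide) HNKR.h_w_kx16, ?_⟩
  refine List.forall_mem_cons.2 ⟨HNKR.prep.word_eq_one hinj HNKR.kx17 (by decide) HNKR.h_w_kx17, ?_⟩
  refine List.forall_mem_cons.2 ⟨HNKR.prep.word_eq_one hinj HNKR.kx18 (by decide) HNKR.h_w_kx18, ?_⟩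
  refine List.forall_mem_cons.2 ⟨HNKR.prep.word_eq_one hinj HNKR.kx19 (by decide) HNKR.h_w_kx19, ?_⟩
  refine List.forall_mem_cons.2 ⟨HNKR.prep.word_eq_one hinj HNKR.kx20 (by decide) HNKR.h_w_kx20, ?_⟩
  refine List.forall_mem_cons.2 ⟨HNKR.prep.word_eq_one hinj HNKR.kx21 (by decide) HNKR.h_w_kx21, ?_⟩
  refine List.forall_mem_cons.2 ⟨HNKR.prep.word_eq_one hinj HNKR.kx22 (by decide) HNKR.h_w_kx22, ?_⟩
  refine List.forall_mem_cons.2 ⟨HNKR.prep.word_eq_one hinj HNKR.kx23 (by decide) HNKR.h_w_kx23, ?_⟩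
  refine List.forall_mem_cons.2 ⟨HNKR.prep.word_eq_one hinj HNKR.kx24 (by decide) HNKR.h_w_kx24, ?_⟩
  refine List.forall_mem_cons.2 ⟨HNKR.prep.word_eq_one hinj HNKR.kx25 (by decide) HNKR.h_w_kx25, ?_⟩
  refine List.forall_mem_cons.2 ⟨HNKR.prep.word_eq_one hinj HNKR.kx26 (by decide) HNKR.h_w_kx26, ?_⟩
  refine List.forall_mem_cons.2 ⟨HNKR.prep.word_eq_one hinj HNKR.kx27 (by decide) HNKR.h_w_kx27, ?_⟩
  refine List.forall_mem_cons.2 ⟨HNKR.prep.word_eq_one hinj HNKR.kx28 (by decide) HNKR.h_w_kx28, ?_⟩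
  refine List.forall_mem_cons.2 ⟨HNKR.prep.word_eq_one hinj HNKR.kx29 (by decide) HNKR.h_w_kx29, ?_⟩
  refine List.forall_mem_cons.2 ⟨HNKR.prep.word_eq_one hinj HNKR.kx30 (by decide) HNKR.h_w_kx30, ?_⟩
  refine List.forall_mem_cons.2 ⟨HNKR.prep.word_eq_one hinj HNKR.kx31 (by decide) HNKR.h_w_kx31, ?_⟩
  refine List.forall_mem_cons.2 ⟨HNKR.prep.word_eq_one hinj HNKR.kx32 (by decide) HNKR.h_w_kx32, ?_⟩
  refine List.forall_mem_cons.2 ⟨HNKR.prep.word_eq_one hinj HNKR.kx33 (by decide) HNKR.h_w_kx33, ?_⟩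
  refine List.forall_mem_cons.2 ⟨HNKR.prep.word_eq_one hinj HNKR.kx34 (by decide) HNKR.h_w_kx34, ?_⟩
  refine List.forall_mem_cons.2 ⟨HNKR.prep.word_eq_one hinj HNKR.kx35 (by decide) HNKR.h_w_kx35, ?_⟩
  refine List.forall_mem_cons.2 ⟨HNKR.prep.word_eq_one hinj HNKR.kx36 (by decide) HNKR.h_w_kx36, ?_⟩
  refine List.forall_mem_cons.2 ⟨HNKR.prep.word_eq_one hinj HNKR.kx37 (by decide) HNKR.h_w_kx37, ?_⟩
  refine List.forall_mem_cons.2 ⟨HNKR.prep.word_eq_one hinj HNKR.kx38 (by decide) HNKR.h_w_kx38, ?_⟩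
  refine List.forall_mem_cons.2 ⟨HNKR.prep.word_eq_one hinj HNKR.kx39 (by decide) HNKR.h_w_kx39, ?_⟩
  refine List.forall_mem_cons.2 ⟨HNKR.prep.word_eq_one hinj HNKR.kx40 (by decide) HNKR.h_w_kx40, ?_⟩
  refine List.forall_mem_cons.2 ⟨HNKR.prep.word_eq_one hinj HNKR.kx41 (by decide) HNKR.h_w_kx41, ?_⟩
  refine List.forall_mem_cons.2 ⟨HNKR.prep.word_eq_one hinj HNKR.kx42 (by decide) HNKR.h_w_kx42, ?_⟩
  refine List.forall_mem_cons.2 ⟨HNKR.prep.word_eq_one hinj HNKR.kx43 (by decide) HNKR.h_w_kx43, ?_⟩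
  refine List.forall_mem_cons.2 ⟨HNKR.prep.word_eq_one hinj HNKR.kx44 (by decide) HNKR.h_w_kx44, ?_⟩
  refine List.forall_mem_cons.2 ⟨HNKR.prep.word_eq_one hinj HNKR.kx45 (by decide) HNKR.h_w_kx45, ?_⟩
  refine List.forall_mem_cons.2 ⟨HNKR.prep.word_eq_one hinj HNKR.kx46 (by decide) HNKR.h_w_kx46, ?_⟩
  refine List.forall_mem_cons.2 ⟨HNKR.prep.word_eq_one hinj HNKR.kx47 (by decide) HNKR.h_w_kx47, ?_⟩
  refine List.forall_mem_cons.2 ⟨HNKR.prep.word_eq_one hinj HNKR.kx48 (by decide) HNKR.h_w_kx48, ?_⟩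
  refine List.forall_mem_cons.2 ⟨HNKR.prep.word_eq_one hinj HNKR.kx49 (by decide) HNKR.h_w_kx49, ?_⟩
  refine List.forall_mem_cons.2 ⟨HNKR.prep.word_eq_one hinj HNKR.kx50 (by decide) HNKR.h_w_kx50, ?_⟩
  refine List.forall_mem_cons.2 ⟨HNKR.prep.word_eq_one hinj HNKR.kx51 (by decide) HNKR.h_w_kx51, ?_⟩
  refine List.forall_mem_cons.2 ⟨HNKR.prep.word_eq_one hinj HNKR.kx52 (by decide) HNKR.h_w_kx52, ?_⟩
  refine List.forall_mem_cons.2 ⟨HNKR.prep.word_eq_one hinj HNKR.kx53 (by decide) HNKR.h_w_kx53, ?_⟩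
  refine List.forall_mem_cons.2 ⟨HNKR.prep.word_eq_one hinj HNKR.kx54 (by decide) HNKR.h_w_kx54, ?_⟩
  refine List.forall_mem_cons.2 ⟨HNKR.prep.word_eq_one hinj HNKR.kx55 (by decide) HNKR.h_w_kx55, ?_⟩
  refine List.forall_mem_cons.2 ⟨HNKR.prep.word_eq_one hinj HNKR.kx56 (by decide) HNKR.h_w_kx56, ?_⟩
  refine List.forall_mem_cons.2 ⟨HNKR.prep.word_eq_one hinj HNKR.kx57 (by decide) HNKR.h_w_kx57, ?_⟩
  refine List.forall_mem_cons.2 ⟨HNKR.prep.word_eq_one hinj HNKR.kx58 (by decide) HNKR.h_w_kx58, ?_⟩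
  refine List.forall_mem_cons.2 ⟨HNKR.prep.word_eq_one hinj HNKR.kx59 (by decide) HNKR.h_w_kx59, ?_⟩
  refine List.forall_mem_cons.2 ⟨HNKR.prep.word_eq_one hinj HNKR.kx60 (by decide) HNKR.h_w_kx60, ?_⟩
  refine List.forall_mem_cons.2 ⟨HNKR.prep.word_eq_one hinj HNKR.kx61 (by decide) HNKR.h_w_kx61, ?_⟩
  refine List.forall_mem_cons.2 ⟨HNKR.prep.word_eq_one hinj HNKR.kx62 (by decide) HNKR.h_w_kx62, ?_⟩
  refine List.forall_mem_cons.2 ⟨HNKR.prep.word_eq_one hinj HNKR.kx63 (by decide) HNKR.h_w_kx63, ?_⟩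
  refine List.forall_mem_cons.2 ⟨HNKR.prep.word_eq_one hinj HNKR.kx64 (by decide) HNKR.h_w_kx64, ?_⟩
  refine List.forall_mem_cons.2 ⟨HNKR.prep.word_eq_one hinj HNKR.kx65 (by decide) HNKR.h_w_kx65, ?_⟩
  refine List.forall_mem_cons.2 ⟨HNKR.prep.word_eq_one hinj HNKR.kx66 (by decide) HNKR.h_w_kx66, ?_⟩
  refine List.forall_mem_cons.2 ⟨HNKR.prep.word_eq_one hinj HNKR.kx67 (by decide) HNKR.h_w_kx67, ?_⟩
  refine List.forall_mem_cons.2 ⟨HNKR.prep.word_eq_one hinj HNKR.kx68 (by decide) HNKR.h_w_kx68, ?_⟩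
  refine List.forall_mem_cons.2 ⟨HNKR.prep.word_eq_one hinj HNKR.kx69 (by decide) HNKR.h_w_kx69, ?_⟩
  refine List.forall_mem_cons.2 ⟨HNKR.prep.word_eq_one hinj HNKR.kx70 (by decide) HNKR.h_w_kx70, ?_⟩
  refine List.forall_mem_cons.2 ⟨HNKR.prep.word_eq_one hinj HNKR.kx71 (by decide) HNKR.h_w_kx71, ?_⟩
  refine List.forall_mem_cons.2 ⟨HNKR.prep.word_eq_one hinj HNKR.kx72 (by decide) HNKR.h_w_kx72, ?_⟩
  refine List.forall_mem_cons.2 ⟨HNKR.prep.word_eq_one hinj HNKR.kx73 (by decide) HNKR.h_w_kx73, ?_⟩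
  refine List.forall_mem_cons.2 ⟨HNKR.prep.word_eq_one hinj HNKR.kx74 (by decide) HNKR.h_w_kx74, ?_⟩
  refine List.forall_mem_cons.2 ⟨HNKR.prep.word_eq_one hinj HNKR.kx75 (by decide) HNKR.h_w_kx75, ?_⟩
  refine List.forall_mem_cons.2 ⟨HNKR.prep.word_eq_one hinj HNKR.kx76 (by decide) HNKR.h_w_kx76, ?_⟩
  refine List.forall_mem_cons.2 ⟨HNKR.prep.word_eq_one hinj HNKR.kx77 (by decide) HNKR.h_w_kx77, ?_⟩
  refine List.forall_mem_cons.2 ⟨HNKR.prep.word_eq_one hinj HNKR.kx78 (by decide) HNKR.h_w_kx78, ?_⟩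
  refine List.forall_mem_cons.2 ⟨HNKR.prep.word_eq_one hinj HNKR.kx79 (by decide) HNKR.h_w_kx79, ?_⟩
  refine List.forall_mem_cons.2 ⟨HNKR.prep.word_eq_one hinj HNKR.kx80 (by decide) HNKR.h_w_kx80, ?_⟩
  refine List.forall_mem_cons.2 ⟨HNKR.prep.word_eq_one hinj HNKR.kx81 (by decide) HNKR.h_w_kx81, ?_⟩
  refine List.forall_mem_cons.2 ⟨HNKR.prep.word_eq_one hinj HNKR.kx82 (by decide) HNKR.h_w_kx82, ?_⟩
  refine List.forall_mem_cons.2 ⟨HNKR.prep.word_eq_one hinj HNKR.kx83 (by decide) HNKR.h_w_kx83, ?_⟩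
  refine List.forall_mem_cons.2 ⟨HNKR.prep.word_eq_one hinj HNKR.kx84 (by decide) HNKR.h_w_kx84, ?_⟩
  refine List.forall_mem_cons.2 ⟨HNKR.prep.word_eq_one hinj HNKR.kx85 (by decide) HNKR.h_w_kx85, ?_⟩
  refine List.forall_mem_cons.2 ⟨HNKR.prep.word_eq_one hinj HNKR.kx86 (by decide) HNKR.h_w_kx86, ?_⟩
  refine List.forall_mem_cons.2 ⟨HNKR.prep.word_eq_one hinj HNKR.kx87 (by decide) HNKR.h_w_kx87, ?_⟩
  refine List.forall_mem_cons.2 ⟨HNKR.prep.word_eq_one hinj HNKR.kx88 (by decide) HNKR.h_w_kx88, ?_⟩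
  refine List.forall_mem_cons.2 ⟨HNKR.prep.word_eq_one hinj HNKR.kx89 (by decide) HNKR.h_w_kx89, ?_⟩
  refine List.forall_mem_cons.2 ⟨HNKR.prep.word_eq_one hinj HNKR.kx90 (by decide) HNKR.h_w_kx90, ?_⟩
  refine List.forall_mem_cons.2 ⟨HNKR.prep.word_eq_one hinj HNKR.kx91 (by decide) HNKR.h_w_kx91, ?_⟩
  refine List.forall_mem_cons.2 ⟨HNKR.prep.word_eq_one hinj HNKR.kx92 (by decide) HNKR.h_w_kx92, ?_⟩
  refine List.forall_mem_cons.2 ⟨HNKR.prep.word_eq_one hinj HNKR.kx93 (by decide) HNKR.h_w_kx93, ?_⟩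
  refine List.forall_mem_cons.2 ⟨HNKR.prep.word_eq_one hinj HNKR.kx94 (by decide) HNKR.h_w_kx94, ?_⟩
  refine List.forall_mem_cons.2 ⟨HNKR.prep.word_eq_one hinj HNKR.kx95 (by decide) HNKR.h_w_kx95, ?_⟩
  refine List.forall_mem_cons.2 ⟨HNKR.prep.word_eq_one hinj HNKR.kx96 (by decide) HNKR.h_w_kx96, ?_⟩
  refine List.forall_mem_cons.2 ⟨HNKR.prep.word_eq_one hinj HNKR.kx97 (by decide) HNKR.h_w_kx97, ?_⟩
  refine List.forall_mem_cons.2 ⟨HNKR.prep.word_eq_one hinj HNKR.kx98 (by decide) HNKR.h_w_kx98, ?_⟩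
  refine List.forall_mem_cons.2 ⟨HNKR.prep.word_eq_one hinj HNKR.kx99 (by decide) HNKR.h_w_kx99, ?_⟩
  refine List.forall_mem_cons.2 ⟨HNKR.prep.word_eq_one hinj HNKR.kx100 (by decide) HNKR.h_w_kx100, ?_⟩
  refine List.forall_mem_cons.2 ⟨HNKR.prep.word_eq_one hinj HNKR.kx101 (by decide) HNKR.h_w_kx101, ?_⟩
  refine List.forall_mem_cons.2 ⟨HNKR.prep.word_eq_one hinj HNKR.kx102 (by decide) HNKR.h_w_kx102, ?_⟩
  refine List.forall_mem_cons.2 ⟨HNKR.prep.word_eq_one hinj HNKR.kx103 (by decide) HNKR.h_w_kx103, ?_⟩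
  refine List.forall_mem_cons.2 ⟨HNKR.prep.word_eq_one hinj HNKR.kx104 (by decide) HNKR.h_w_kx104, ?_⟩
  refine List.forall_mem_cons.2 ⟨HNKR.prep.word_eq_one hinj HNKR.kx105 (by decide) HNKR.h_w_kx105, ?_⟩
  refine List.forall_mem_cons.2 ⟨HNKR.prep.word_eq_one hinj HNKR.kx106 (by decide) HNKR.h_w_kx106, ?_⟩
  refine List.forall_mem_cons.2 ⟨HNKR.prep.word_eq_one hinj HNKR.kx107 (by decide) HNKR.h_w_kx107, ?_⟩
  refine List.forall_mem_cons.2 ⟨HNKR.prep.word_eq_one hinj HNKR.kx108 (by decide) HNKR.h_w_kx108, ?_⟩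
  refine List.forall_mem_cons.2 ⟨HNKR.prep.word_eq_one hinj HNKR.kx109 (by decide) HNKR.h_w_kx109, ?_⟩
  refine List.forall_mem_cons.2 ⟨HNKR.prep.word_eq_one hinj HNKR.kx110 (by decide) HNKR.h_w_kx110, ?_⟩
  refine List.forall_mem_cons.2 ⟨HNKR.prep.word_eq_one hinj HNKR.kx111 (by decide) HNKR.h_w_kx111, ?_⟩
  refine List.forall_mem_cons.2 ⟨HNKR.prep.word_eq_one hinj HNKR.kx112 (by decide) HNKR.h_w_kx112, ?_⟩
  refine List.forall_mem_cons.2 ⟨HNKR.prep.word_eq_one hinj HNKR.kx113 (by decide) HNKR.h_w_kx113, ?_⟩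
  refine List.forall_mem_cons.2 ⟨HNKR.prep.word_eq_one hinj HNKR.kx114 (by decide) HNKR.h_w_kx114, ?_⟩
  refine List.forall_mem_cons.2 ⟨HNKR.prep.word_eq_one hinj HNKR.kx115 (by decide) HNKR.h_w_kx115, ?_⟩
  refine List.forall_mem_cons.2 ⟨HNKR.prep.word_eq_one hinj HNKR.kx116 (by decide) HNKR.h_w_kx116, ?_⟩
  refine List.forall_mem_cons.2 ⟨HNKR.prep.word_eq_one hinj HNKR.kx117 (by decide) HNKR.h_w_kx117, ?_⟩
  refine List.forall_mem_cons.2 ⟨HNKR.prep.word_eq_one hinj HNKR.kx118 (by decide) HNKR.h_w_kx118, ?_⟩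
  refine List.forall_mem_cons.2 ⟨HNKR.prep.word_eq_one hinj HNKR.kx119 (by decide) HNKR.h_w_kx119, ?_⟩
  refine List.forall_mem_cons.2 ⟨HNKR.prep.word_eq_one hinj HNKR.kx120 (by decide) HNKR.h_w_kx120, ?_⟩
  intro r hr
  exact absurd hr List.not_mem_nil

end Cfsg.Agent.Lib.Helper4.HNKMain
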