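import Cfsg.Agent.Lib.Helper4.TCD_HNN3_Acc

namespace Cfsg.Agent.Lib.Helper4.TCD.HNN3

open Cfsg.Agent.Lib.Helper4.TC

set_option maxRecDepth 100000
set_option Elab.async false

theorem c_rel_24 : allRange D.relOK 504587 2930 = true := by decide +kernel
theorem c_rel_25 : allRange D.relOK 507517 3054 = true := by decide +kernel
theorem c_rel_26 : allRange D.relOK 510571 3049 = true := by decide +kernel
theorem c_rel_27 : allRange D.relOK 513620 2991 = true := by decide +kernel
theorem c_rel_28 : allRange D.relOK 516611 2970 = true := by decide +kernel
theorem c_rel_29 : allRange D.relOK 519581 2887 = true := by decide +kernel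
theorem c_rel_30 : allRange D.relOK 522468 2845 = true := by decide +kernel
theorem c_rel_31 : allRange D.relOK 525313 2845 = true := by decide +kernel
theorem c_rel_32 : allRange D.relOK 528158 2962 = true := by decide +kernel
theorem c_rel_33 : allRange D.relOK 531120 2917 = true := by decide +kernel
theorem c_rel_34 : allRange D.relOK 534037 2866 = true := by decide +kernel
theorem c_rel_35 : allRange D.relOK 536903 2720 = true := by decide +kernel
theorem c_rel_36 : allRange D.relOK 539623 2986 = true := by decide +kernel
theorem c_rel_37 : allRange D.relOK 542609 2618 = true := by decide +kernel
theorem c_rel_38 : allRange D.relOK 545227 2458 = true := by decide +kernel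
theorem c_rel_39 : allRange D.relOK 547685 2350 = true := by decide +kernel
theorem c_rel_40 : allRange D.relOK 550035 2444 = true := by decide +kernel
theorem c_rel_41 : allRange D.relOK 552479 2700 = true := by decide +kernel
theorem c_rel_42 : allRange D.relOK 555179 2146 = true := by decide +kernel
theorem c_rel_43 : allRange D.relOK 557325 3425 = true := by decide +kernel
theorem c_rel_44 : allRange D.relOK 560750 3374 = true := by decide +kernel
theorem c_rel_45 : allRange D.relOK 564124 3374 = true := by decide +kernel
theorem c_rel_46 : allRange D.relOK 567498 3467 = true := by decide +kernel
theorem c_rel_47 : allRange D.relOK 570965 3556 = true := by decide +kernel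
theorem c_rel_48 : allRange D.relOK 574521 3622 = true := by decide +kernel
theorem c_rel_49 : allRange D.relOK 578143 3647 = true := by decide +kernel
theorem c_rel_50 : allRange D.relOK 581790 3642 = true := by decide +kernel
theorem c_rel_51 : allRange D.relOK 585432 3698 = true := by decide +kernel
theorem c_rel_52 : allRange D.relOK 589130 3697 = true := by decide +kernel
theorem c_rel_53 : allRange D.relOK 592827 3723 = true := by decide +kernel
theorem c_rel_54 : allRange D.relOK 596550 3711 = true := by decide +kernel
theorem c_rel_55 : allRange D.relOK 600261 3735 = true := by decide +kernel
theorem c_rel_56 : allRange D.relOK 603996 3740 = true := by decide +kernel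
theorem c_rel_57 : allRange D.relOK 607736 3736 = true := by decide +kernel
theorem c_rel_58 : allRange D.relOK 611472 3745 = true := by decide +kernel
theorem c_rel_59 : allRange D.relOK 615217 3744 = true := by decide +kernel
theorem c_rel_60 : allRange D.relOK 618961 3746 = true := by decide +kernel
theorem c_rel_61 : allRange D.relOK 622707 3748 = true := by decide +kernel
theorem c_rel_62 : allRange D.relOK 626455 3746 = true := by decide +kernel
theorem c_rel_63 : allRange D.relOK 630201 3747 = true := by decide +kernel
theorem c_rel_64 : allRange D.relOK 633948 3748 = true := by decide +kernel
theorem c_rel_65 : allRange D.relOK 637696 3747 = true := by decide +kernel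
theorem c_rel_66 : allRange D.relOK 641443 1363 = true := by decide +kernel
theorem c_rel_67 : allRange D.relOK 642806 2372 = true := by decide +kernel
theorem c_rel_68 : allRange D.relOK 645178 3169 = true := by decide +kernel
theorem c_rel_69 : allRange D.relOK 648347 2912 = true := by decide +kernel
theorem c_rel_70 : allRange D.relOK 651259 1612 = true := by decide +kernel
theorem c_rel_71 : allRange D.relOK 652871 949 = true := by decide +kernel
theorem c_rel_72 : allRange D.relOK 653820 700 = true := by decide +kernel
theorem c_rel_73 : allRange D.relOK 654520 660 = true := by decide +kernel
theorem c_rel_74 : allRange D.relOK 655180 1019 = true := by decide +kernel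
theorem c_rel_75 : allRange D.relOK 656199 1064 = true := by decide +kernel
theorem c_rel_76 : allRange D.relOK 657263 1746 = true := by decide +kernel
theorem c_rel_77 : allRange D.relOK 659009 1893 = true := by decide +kernel
theorem c_rel_78 : allRange D.relOK 660902 2757 = true := by decide +kernel
theorem c_rel_79 : allRange D.relOK 663659 2410 = true := by decide +kernel
theorem c_rel_80 : allRange D.relOK 666069 2059 = true := by decide +kernel
theorem c_rel_81 : allRange D.relOK 668128 2093 = true := by decide +kernel
theorem c_rel_82 : allRange D.relOK 670221 2184 = true := by decide +kernel
theorem c_rel_83 : allRange D.relOK 672405 2204 = true := by decide +kernel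
theorem c_rel_84 : allRange D.relOK 674609 2626 = true := by decide +kernel
theorem c_rel_85 : allRange D.relOK 677235 2263 = true := by decide +kernel
theorem c_rel_86 : allRange D.relOK 679498 2162 = true := by decide +kernel
theorem c_rel_87 : allRange D.relOK 681660 2545 = true := by decide +kernel
theorem c_rel_88 : allRange D.relOK 684205 2378 = true := by decide +kernel
theorem c_rel_89 : allRange D.relOK 686583 2492 = true := by decide +kernel
theorem c_rel_90 : allRange D.relOK 689075 2593 = true := by decide +kernel
theorem c_rel_91 : allRange D.relOK 691668 2355 = true := by decide +kernel
theorem c_rel_92 : allRange D.relOK 694023 2437 = true := by decide +kernel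
theorem c_rel_93 : allRange D.relOK 696460 2351 = true := by decide +kernel
theorem c_rel_94 : allRange D.relOK 698811 2236 = true := by decide +kernel
theorem c_rel_95 : allRange D.relOK 701047 2233 = true := by decide +kernel
theorem c_rel_96 : allRange D.relOK 703280 2179 = true := by decide +kernel
theorem c_rel_97 : allRange D.relOK 705459 2263 = true := by decide +kernel
theorem c_rel_98 : allRange D.relOK 707722 2294 = true := by decide +kernel
theorem c_rel_99 : allRange D.relOK 710016 2157 = true := by decide +kernel
theorem c_rel_100 : allRange D.relOK 712173 2213 = true := by decide +kernel
theorem c_rel_101 : allRange D.relOK 714386 2383 = true := by decide +kernel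
theorem c_rel_102 : allRange D.relOK 716769 2008 = true := by decide +kernel
theorem c_rel_103 : allRange D.relOK 718777 2003 = true := by decide +kernel
theorem c_rel_104 : allRange D.relOK 720780 2178 = true := by decide +kernel
theorem c_rel_105 : allRange D.relOK 722958 1913 = true := by decide +kernel
theorem c_rel_106 : allRange D.relOK 724871 1889 = true := by decide +kernel
theorem c_rel_107 : allRange D.relOK 726760 1835 = true := by decide +kernel
theorem c_rel_108 : allRange D.relOK 728595 1661 = true := by decide +kernel
theorem c_rel_109 : allRange D.relOK 730256 2277 = true := by decide +kernel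
theorem c_rel_110 : allRange D.relOK 732533 2250 = true := by decide +kernel
theorem c_rel_111 : allRange D.relOK 734783 2701 = true := by decide +kernel
theorem c_rel_112 : allRange D.relOK 737484 2559 = true := by decide +kernel
theorem c_rel_113 : allRange D.relOK 740043 2412 = true := by decide +kernel
theorem c_rel_114 : allRange D.relOK 742455 2075 = true := by decide +kernel
theorem c_rel_115 : allRange D.relOK 744530 2001 = true := by decide +kernel
theorem c_rel_116 : allRange D.relOK 746531 2074 = true := by decide +kernel
theorem c_rel_117 : allRange D.relOK 748605 1859 = true := by decide +kernel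
theorem c_rel_118 : allRange D.relOK 750464 2346 = true := by decide +kernel
theorem c_rel_119 : allRange D.relOK 752810 2297 = true := by decide +kernel
theorem c_rel_120 : allRange D.relOK 755107 1931 = true := by decide +kernel
theorem c_rel_121 : allRange D.relOK 757038 1773 = true := by decide +kernel
theorem c_rel_122 : allRange D.relOK 758811 2229 = true := by decide +kernel

end Cfsg.Agent.Lib.Helper4.TCD.HNN3
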