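import Cfsg.Agent.Lib.Helper4.TCD_HNN3_Acc

namespace Cfsg.Agent.Lib.Helper4.TCD.HNN3

open Cfsg.Agent.Lib.Helper4.TC

set_option maxRecDepth 100000
set_option Elab.async false

theorem c_rel_123 : allRange D.relOK 761040 2233 = true := by decide +kernel
theorem c_rel_124 : allRange D.relOK 763273 2167 = true := by decide +kernel
theorem c_rel_125 : allRange D.relOK 765440 2220 = true := by decide +kernel
theorem c_rel_126 : allRange D.relOK 767660 2248 = true := by decide +kernel
theorem c_rel_127 : allRange D.relOK 769908 2016 = true := by decide +kernel
theorem c_rel_128 : allRange D.relOK 771924 2205 = true := by decide +kernel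
theorem c_rel_129 : allRange D.relOK 774129 1986 = true := by decide +kernel
theorem c_rel_130 : allRange D.relOK 776115 1746 = true := by decide +kernel
theorem c_rel_131 : allRange D.relOK 777861 1782 = true := by decide +kernel
theorem c_rel_132 : allRange D.relOK 779643 1659 = true := by decide +kernel
theorem c_rel_133 : allRange D.relOK 781302 1684 = true := by decide +kernel
theorem c_rel_134 : allRange D.relOK 782986 1702 = true := by decide +kernel
theorem c_rel_135 : allRange D.relOK 784688 1622 = true := by decide +kernel
theorem c_rel_136 : allRange D.relOK 786310 1646 = true := by decide +kernel
theorem c_rel_137 : allRange D.relOK 787956 1562 = true := by decide +kernel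
theorem c_rel_138 : allRange D.relOK 789518 1627 = true := by decide +kernel
theorem c_rel_139 : allRange D.relOK 791145 1847 = true := by decide +kernel
theorem c_rel_140 : allRange D.relOK 792992 2061 = true := by decide +kernel
theorem c_rel_141 : allRange D.relOK 795053 3336 = true := by decide +kernel
theorem c_rel_142 : allRange D.relOK 798389 1463 = true := by decide +kernel
theorem c_rel_143 : allRange D.relOK 799852 3032 = true := by decide +kernel
theorem c_rel_144 : allRange D.relOK 802884 3317 = true := by decide +kernel
theorem c_rel_145 : allRange D.relOK 806201 3282 = true := by decide +kernel
theorem c_rel_146 : allRange D.relOK 809483 3320 = true := by decide +kernel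
theorem c_rel_147 : allRange D.relOK 812803 3459 = true := by decide +kernel
theorem c_rel_148 : allRange D.relOK 816262 3562 = true := by decide +kernel
theorem c_rel_149 : allRange D.relOK 819824 3535 = true := by decide +kernel
theorem c_rel_150 : allRange D.relOK 823359 3379 = true := by decide +kernel
theorem c_rel_151 : allRange D.relOK 826738 3305 = true := by decide +kernel
theorem c_rel_152 : allRange D.relOK 830043 3329 = true := by decide +kernel
theorem c_rel_153 : allRange D.relOK 833372 3290 = true := by decide +kernel
theorem c_rel_154 : allRange D.relOK 836662 3303 = true := by decide +kernel
theorem c_rel_155 : allRange D.relOK 839965 3266 = true := by decide +kernel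
theorem c_rel_156 : allRange D.relOK 843231 3281 = true := by decide +kernel
theorem c_rel_157 : allRange D.relOK 846512 3288 = true := by decide +kernel
theorem c_rel_158 : allRange D.relOK 849800 3254 = true := by decide +kernel
theorem c_rel_159 : allRange D.relOK 853054 2786 = true := by decide +kernel
theorem c_rel_160 : allRange D.relOK 855840 3308 = true := by decide +kernel
theorem c_rel_161 : allRange D.relOK 859148 3347 = true := by decide +kernel
theorem c_rel_162 : allRange D.relOK 862495 2497 = true := by decide +kernel
theorem c_rel_163 : allRange D.relOK 864992 2669 = true := by decide +kernel
theorem c_rel_164 : allRange D.relOK 867661 3179 = true := by decide +kernel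
theorem c_rel_165 : allRange D.relOK 870840 3389 = true := by decide +kernel
theorem c_rel_166 : allRange D.relOK 874229 3388 = true := by decide +kernel
theorem c_rel_167 : allRange D.relOK 877617 3369 = true := by decide +kernel
theorem c_rel_168 : allRange D.relOK 880986 3366 = true := by decide +kernel
theorem c_rel_169 : allRange D.relOK 884352 3323 = true := by decide +kernel
theorem c_rel_170 : allRange D.relOK 887675 3312 = true := by decide +kernel
theorem c_rel_171 : allRange D.relOK 890987 3311 = true := by decide +kernel
theorem c_rel_172 : allRange D.relOK 894298 3290 = true := by decide +kernel
theorem c_rel_173 : allRange D.relOK 897588 3307 = true := by decide +kernel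
theorem c_rel_174 : allRange D.relOK 900895 3290 = true := by decide +kernel
theorem c_rel_175 : allRange D.relOK 904185 3277 = true := by decide +kernel
theorem c_rel_176 : allRange D.relOK 907462 3281 = true := by decide +kernel
theorem c_rel_177 : allRange D.relOK 910743 2966 = true := by decide +kernel
theorem c_rel_178 : allRange D.relOK 913709 2228 = true := by decide +kernel
theorem c_rel_179 : allRange D.relOK 915937 1953 = true := by decide +kernel
theorem c_rel_180 : allRange D.relOK 917890 1720 = true := by decide +kernel
theorem c_rel_181 : allRange D.relOK 919610 1761 = true := by decide +kernel
theorem c_rel_182 : allRange D.relOK 921371 1401 = true := by decide +kernel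
theorem c_rel_183 : allRange D.relOK 922772 1600 = true := by decide +kernel
theorem c_rel_184 : allRange D.relOK 924372 1307 = true := by decide +kernel
theorem c_rel_185 : allRange D.relOK 925679 1236 = true := by decide +kernel
theorem c_rel_186 : allRange D.relOK 926915 974 = true := by decide +kernel
theorem c_rel_187 : allRange D.relOK 927889 649 = true := by decide +kernel
theorem c_rel_188 : allRange D.relOK 928538 531 = true := by decide +kernel
theorem c_rel_189 : allRange D.relOK 929069 590 = true := by decide +kernel
theorem c_rel_190 : allRange D.relOK 929659 440 = true := by decide +kernel
theorem c_rel_191 : allRange D.relOK 930099 428 = true := by decide +kernel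
theorem c_rel_192 : allRange D.relOK 930527 480 = true := by decide +kernel
theorem c_rel_193 : allRange D.relOK 931007 642 = true := by decide +kernel
theorem c_rel_194 : allRange D.relOK 931649 655 = true := by decide +kernel
theorem c_rel_195 : allRange D.relOK 932304 937 = true := by decide +kernel
theorem c_rel_196 : allRange D.relOK 933241 1035 = true := by decide +kernel
theorem c_rel_197 : allRange D.relOK 934276 1024 = true := by decide +kernel
theorem c_rel_198 : allRange D.relOK 935300 910 = true := by decide +kernel
theorem c_rel_199 : allRange D.relOK 936210 849 = true := by decide +kernel
theorem c_rel_200 : allRange D.relOK 937059 826 = true := by decide +kernel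
theorem c_rel_201 : allRange D.relOK 937885 924 = true := by decide +kernel
theorem c_rel_202 : allRange D.relOK 938809 1088 = true := by decide +kernel
theorem c_rel_203 : allRange D.relOK 939897 856 = true := by decide +kernel
theorem c_rel_204 : allRange D.relOK 940753 1305 = true := by decide +kernel
theorem c_rel_205 : allRange D.relOK 942058 1002 = true := by decide +kernel
theorem c_rel_206 : allRange D.relOK 943060 1036 = true := by decide +kernel
theorem c_rel_207 : allRange D.relOK 944096 1050 = true := by decide +kernel
theorem c_rel_208 : allRange D.relOK 945146 1735 = true := by decide +kernel
theorem c_rel_209 : allRange D.relOK 946881 983 = true := by decide +kernel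
theorem c_rel_210 : allRange D.relOK 947864 1059 = true := by decide +kernel
theorem c_rel_211 : allRange D.relOK 948923 1038 = true := by decide +kernel
theorem c_rel_212 : allRange D.relOK 949961 944 = true := by decide +kernel
theorem c_rel_213 : allRange D.relOK 950905 832 = true := by decide +kernel
theorem c_rel_214 : allRange D.relOK 951737 888 = true := by decide +kernel
theorem c_rel_215 : allRange D.relOK 952625 1088 = true := by decide +kernel
theorem c_rel_216 : allRange D.relOK 953713 1869 = true := by decide +kernel
theorem c_rel_217 : allRange D.relOK 955582 1669 = true := by decide +kernel
theorem c_rel_218 : allRange D.relOK 957251 2064 = true := by decide +kernel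
theorem c_rel_219 : allRange D.relOK 959315 3396 = true := by decide +kernel
theorem c_rel_220 : allRange D.relOK 962711 3156 = true := by decide +kernel
theorem c_rel_221 : allRange D.relOK 965867 3204 = true := by decide +kernel

end Cfsg.Agent.Lib.Helper4.TCD.HNN3
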