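import Cfsg.Agent.Lib.Helper4.TCD_HNN3_Acc

namespace Cfsg.Agent.Lib.Helper4.TCD.HNN3

open Cfsg.Agent.Lib.Helper4.TC

set_option maxRecDepth 100000
set_option Elab.async false

theorem c_rel_222 : allRange D.relOK 969071 3425 = true := by decide +kernel
theorem c_rel_223 : allRange D.relOK 972496 3406 = true := by decide +kernel
theorem c_rel_224 : allRange D.relOK 975902 3405 = true := by decide +kernel
theorem c_rel_225 : allRange D.relOK 979307 3359 = true := by decide +kernel
theorem c_rel_226 : allRange D.relOK 982666 3363 = true := by decide +kernel
theorem c_rel_227 : allRange D.relOK 986029 3342 = true := by decide +kernel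
theorem c_rel_228 : allRange D.relOK 989371 3335 = true := by decide +kernel
theorem c_rel_229 : allRange D.relOK 992706 3308 = true := by decide +kernel
theorem c_rel_230 : allRange D.relOK 996014 3323 = true := by decide +kernel
theorem c_rel_231 : allRange D.relOK 999337 3318 = true := by decide +kernel
theorem c_rel_232 : allRange D.relOK 1002655 3321 = true := by decide +kernel
theorem c_rel_233 : allRange D.relOK 1005976 3294 = true := by decide +kernel
theorem c_rel_234 : allRange D.relOK 1009270 3299 = true := by decide +kernel
theorem c_rel_235 : allRange D.relOK 1012569 3286 = true := by decide +kernel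
theorem c_rel_236 : allRange D.relOK 1015855 3276 = true := by decide +kernel
theorem c_rel_237 : allRange D.relOK 1019131 3270 = true := by decide +kernel
theorem c_rel_238 : allRange D.relOK 1022401 3270 = true := by decide +kernel
theorem c_rel_239 : allRange D.relOK 1025671 3267 = true := by decide +kernel
theorem c_rel_240 : allRange D.relOK 1028938 3281 = true := by decide +kernel
theorem c_rel_241 : allRange D.relOK 1032219 3262 = true := by decide +kernel
theorem c_rel_242 : allRange D.relOK 1035481 3263 = true := by decide +kernel
theorem c_rel_243 : allRange D.relOK 1038744 3268 = true := by decide +kernel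
theorem c_rel_244 : allRange D.relOK 1042012 3260 = true := by decide +kernel
theorem c_rel_245 : allRange D.relOK 1045272 1689 = true := by decide +kernel
theorem c_rel_246 : allRange D.relOK 1046961 1537 = true := by decide +kernel
theorem c_rel_247 : allRange D.relOK 1048498 1171 = true := by decide +kernel
theorem c_rel_248 : allRange D.relOK 1049669 1061 = true := by decide +kernel
theorem c_rel_249 : allRange D.relOK 1050730 1021 = true := by decide +kernel
theorem c_rel_250 : allRange D.relOK 1051751 986 = true := by decide +kernel
theorem c_rel_251 : allRange D.relOK 1052737 1040 = true := by decide +kernel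
theorem c_rel_252 : allRange D.relOK 1053777 937 = true := by decide +kernel
theorem c_rel_253 : allRange D.relOK 1054714 905 = true := by decide +kernel
theorem c_rel_254 : allRange D.relOK 1055619 928 = true := by decide +kernel
theorem c_rel_255 : allRange D.relOK 1056547 938 = true := by decide +kernel
theorem c_rel_256 : allRange D.relOK 1057485 909 = true := by decide +kernel
theorem c_rel_257 : allRange D.relOK 1058394 950 = true := by decide +kernel
theorem c_rel_258 : allRange D.relOK 1059344 840 = true := by decide +kernel
theorem c_rel_259 : allRange D.relOK 1060184 884 = true := by decide +kernel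
theorem c_rel_260 : allRange D.relOK 1061068 3941 = true := by decide +kernel
theorem c_rel_261 : allRange D.relOK 1065009 4859 = true := by decide +kernel
theorem c_rel_262 : allRange D.relOK 1069868 4859 = true := by decide +kernel
theorem c_rel_263 : allRange D.relOK 1074727 4870 = true := by decide +kernel
theorem c_rel_264 : allRange D.relOK 1079597 4862 = true := by decide +kernel
theorem c_rel_265 : allRange D.relOK 1084459 4867 = true := by decide +kernel
theorem c_rel_266 : allRange D.relOK 1089326 4876 = true := by decide +kernel
theorem c_rel_267 : allRange D.relOK 1094202 4866 = true := by decide +kernel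
theorem c_rel_268 : allRange D.relOK 1099068 4886 = true := by decide +kernel
theorem c_rel_269 : allRange D.relOK 1103954 4871 = true := by decide +kernel
theorem c_rel_270 : allRange D.relOK 1108825 4854 = true := by decide +kernel
theorem c_rel_271 : allRange D.relOK 1113679 4883 = true := by decide +kernel
theorem c_rel_272 : allRange D.relOK 1118562 4873 = true := by decide +kernel
theorem c_rel_273 : allRange D.relOK 1123435 4869 = true := by decide +kernel
theorem c_rel_274 : allRange D.relOK 1128304 4868 = true := by decide +kernel
theorem c_rel_275 : allRange D.relOK 1133172 4870 = true := by decide +kernel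
theorem c_rel_276 : allRange D.relOK 1138042 4880 = true := by decide +kernel
theorem c_rel_277 : allRange D.relOK 1142922 4862 = true := by decide +kernel
theorem c_rel_278 : allRange D.relOK 1147784 4855 = true := by decide +kernel
theorem c_rel_279 : allRange D.relOK 1152639 4859 = true := by decide +kernel
theorem c_rel_280 : allRange D.relOK 1157498 4875 = true := by decide +kernel
theorem c_rel_281 : allRange D.relOK 1162373 4854 = true := by decide +kernel
theorem c_rel_282 : allRange D.relOK 1167227 4843 = true := by decide +kernel
theorem c_rel_283 : allRange D.relOK 1172070 4849 = true := by decide +kernel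
theorem c_rel_284 : allRange D.relOK 1176919 4850 = true := by decide +kernel
theorem c_rel_285 : allRange D.relOK 1181769 4824 = true := by decide +kernel
theorem c_rel_286 : allRange D.relOK 1186593 4801 = true := by decide +kernel
theorem c_rel_287 : allRange D.relOK 1191394 4790 = true := by decide +kernel
theorem c_rel_288 : allRange D.relOK 1196184 2493 = true := by decide +kernel
theorem c_fin_0 : allGrid (T.finOK D) 0 2000 6 = true := by decide +kernel
theorem c_fin_1 : allGrid (T.finOK D) 2000 2000 6 = true := by decide +kernel
theorem c_fin_2 : allGrid (T.finOK D) 4000 2000 6 = true := by decide +kernel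
theorem c_fin_3 : allGrid (T.finOK D) 6000 2000 6 = true := by decide +kernel
theorem c_fin_4 : allGrid (T.finOK D) 8000 2000 6 = true := by decide +kernel
theorem c_fin_5 : allGrid (T.finOK D) 10000 2000 6 = true := by decide +kernel
theorem c_fin_6 : allGrid (T.finOK D) 12000 2000 6 = true := by decide +kernel
theorem c_fin_7 : allGrid (T.finOK D) 14000 2000 6 = true := by decide +kernel
theorem c_fin_8 : allGrid (T.finOK D) 16000 2000 6 = true := by decide +kernel
theorem c_fin_9 : allGrid (T.finOK D) 18000 2000 6 = true := by decide +kernel
theorem c_fin_10 : allGrid (T.finOK D) 20000 2000 6 = true := by decide +kernel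
theorem c_fin_11 : allGrid (T.finOK D) 22000 2000 6 = true := by decide +kernel
theorem c_fin_12 : allGrid (T.finOK D) 24000 2000 6 = true := by decide +kernel
theorem c_fin_13 : allGrid (T.finOK D) 26000 2000 6 = true := by decide +kernel
theorem c_fin_14 : allGrid (T.finOK D) 28000 2000 6 = true := by decide +kernel
theorem c_fin_15 : allGrid (T.finOK D) 30000 2000 6 = true := by decide +kernel

end Cfsg.Agent.Lib.Helper4.TCD.HNN3
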