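import Cfsg.Agent.Lib.Helper4.TCD_HNN3_C0
import Cfsg.Agent.Lib.Helper4.TCD_HNN3_C1
import Cfsg.Agent.Lib.Helper4.TCD_HNN3_C2
import Cfsg.Agent.Lib.Helper4.TCD_HNN3_C3
import Cfsg.Agent.Lib.Helper4.TCD_HNN3_C4

namespace Cfsg.Agent.Lib.Helper4.TCD.HNN3

open Cfsg.Agent.Lib.Helper4.TC

theorem h_rel_p0 : ∀ t, 435317 ≤ t → t < 550035 → D.relOK t = true :=
  (range_glue (range_of_allRange c_rel_0) (range_glue (range_of_allRange c_rel_1) (range_glue (range_of_allRange c_rel_2) (range_glue (range_of_allRange c_rel_3) (range_glue (range_of_allRange c_rel_4) (range_glue (range_of_allRange c_rel_5) (range_glue (range_of_allRange c_rel_6) (range_glue (range_of_allRange c_rel_7) (range_glue (range_of_allRange c_rel_8) (range_glue (range_of_allRange c_rel_9) (range_glue (range_of_allRange c_rel_10) (range_glue (range_of_allRange c_rel_11) (range_glue (range_of_allRange c_rel_12) (range_glue (range_of_allRange c_rel_13) (range_glue (range_of_allRange c_rel_14) (range_glue (range_of_allRange c_rel_15) (range_glue (range_of_allRange c_rel_16) (range_glue (range_of_allRange c_rel_17) (range_glue (range_of_allRange c_rel_18) (range_glue (range_of_allRange c_rel_19) (range_glue (range_of_allRange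 c_rel_20) (range_glue (range_of_allRange c_rel_21) (range_glue (range_of_allRange c_rel_22) (range_glue (range_of_allRange c_rel_23) (range_glue (range_of_allRange c_rel_24) (range_glue (range_of_allRange c_rel_25) (range_glue (range_of_allRange c_rel_26) (range_glue (range_of_allRange c_rel_27) (range_glue (range_of_allRange c_rel_28) (range_glue (range_of_allRange c_rel_29) (range_glue (range_of_allRange c_rel_30) (range_glue (range_of_allRange c_rel_31) (range_glue (range_of_allRange c_rel_32) (range_glue (range_of_allRange c_rel_33) (range_glue (range_of_allRange c_rel_34) (range_glue (range_of_allRange c_rel_35) (range_glue (range_of_allRange c_rel_36) (range_glue (range_of_allRange c_rel_37) (range_glue (range_of_allRange c_rel_38) (range_of_allRange c_rel_39))))))))))))))))))))))))))))))))))))))))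
theorem h_rel_p1 : ∀ t, 550035 ≤ t → t < 666069 → D.relOK t = true :=
  (range_glue (range_of_allRange c_rel_40) (range_glue (range_of_allRange c_rel_41) (range_glue (range_of_allRange c_rel_42) (range_glue (range_of_allRange c_rel_43) (range_glue (range_of_allRange c_rel_44) (range_glue (range_of_allRange c_rel_45) (range_glue (range_of_allRange c_rel_46) (range_glue (range_of_allRange c_rel_47) (range_glue (range_of_allRange c_rel_48) (range_glue (range_of_allRange c_rel_49) (range_glue (range_of_allRange c_rel_50) (range_glue (range_of_allRange c_rel_51) (range_glue (range_of_allRange c_rel_52) (range_glue (range_of_allRange c_rel_53) (range_glue (range_of_allRange c_rel_54) (range_glue (range_of_allRange c_rel_55) (range_glue (range_of_allRange c_rel_56) (range_glue (range_of_allRange c_rel_57) (range_glue (range_of_allRange c_rel_58) (range_glue (range_of_allRange c_rel_59) (range_glue (range_of_allRange c_rel_60) (range_glue (range_of_allRange c_rel_61) (range_glue (range_of_allRange c_rel_62) (range_glue (range_of_allRange c_rel_63) (range_glue (range_of_allRange c_rel_64) (range_glue (range_of_allRange c_rel_65) (range_glue (range_of_allRange c_rel_66) (range_glue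 (range_of_allRange c_rel_67) (range_glue (range_of_allRange c_rel_68) (range_glue (range_of_allRange c_rel_69) (range_glue (range_of_allRange c_rel_70) (range_glue (range_of_allRange c_rel_71) (range_glue (range_of_allRange c_rel_72) (range_glue (range_of_allRange c_rel_73) (range_glue (range_of_allRange c_rel_74) (range_glue (range_of_allRange c_rel_75) (range_glue (range_of_allRange c_rel_76) (range_glue (range_of_allRange c_rel_77) (range_glue (range_of_allRange c_rel_78) (range_of_allRange c_rel_79))))))))))))))))))))))))))))))))))))))))
theorem h_rel_p2 : ∀ t, 666069 ≤ t → t < 755107 → D.relOK t = true :=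
  (range_glue (range_of_allRange c_rel_80) (range_glue (range_of_allRange c_rel_81) (range_glue (range_of_allRange c_rel_82) (range_glue (range_of_allRange c_rel_83) (range_glue (range_of_allRange c_rel_84) (range_glue (range_of_allRange c_rel_85) (range_glue (range_of_allRange c_rel_86) (range_glue (range_of_allRange c_rel_87) (range_glue (range_of_allRange c_rel_88) (range_glue (range_of_allRange c_rel_89) (range_glue (range_of_allRange c_rel_90) (range_glue (range_of_allRange c_rel_91) (range_glue (range_of_allRange c_rel_92) (range_glue (range_of_allRange c_rel_93) (range_glue (range_of_allRange c_rel_94) (range_glue (range_of_allRange c_rel_95) (range_glue (range_of_allRange c_rel_96) (range_glue (range_of_allRange c_rel_97) (range_glue (range_of_allRange c_rel_98) (range_glue (range_of_allRange c_rel_99) (range_glue (range_of_allRange c_rel_100) (range_glue (range_of_allRange c_rel_101) (range_glue (range_of_allRange c_rel_102) (range_glue (range_of_allRange c_rel_103) (range_glue (range_of_allRange c_rel_104) (range_glue (range_of_allRange c_rel_105) (range_glue (range_of_allRange c_rel_106) (range_glue (range_of_allRange c_rel_107) (range_glue (range_of_allRange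 c_rel_108) (range_glue (range_of_allRange c_rel_109) (range_glue (range_of_allRange c_rel_110) (range_glue (range_of_allRange c_rel_111) (range_glue (range_of_allRange c_rel_112) (range_glue (range_of_allRange c_rel_113) (range_glue (range_of_allRange c_rel_114) (range_glue (range_of_allRange c_rel_115) (range_glue (range_of_allRange c_rel_116) (range_glue (range_of_allRange c_rel_117) (range_glue (range_of_allRange c_rel_118) (range_of_allRange c_rel_119))))))))))))))))))))))))))))))))))))))))
theorem h_rel_p3 : ∀ t, 755107 ≤ t → t < 855840 → D.relOK t = true :=
  (range_glue (range_of_allRange c_rel_120) (range_glue (range_of_allRange c_rel_121) (range_glue (range_of_allRange c_rel_122) (range_glue (range_of_allRange c_rel_123) (range_glue (range_of_allRange c_rel_124) (range_glue (range_of_allRange c_rel_125) (range_glue (range_of_allRange c_rel_126) (range_glue (range_of_allRange c_rel_127) (range_glue (range_of_allRange c_rel_128) (range_glue (range_of_allRange c_rel_129) (range_glue (range_of_allRange c_rel_130) (range_glue (range_of_allRange c_rel_131) (range_glue (range_of_allRange c_rel_132) (range_glue (range_of_allRange c_rel_133) (range_glue (range_of_allRange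 c_rel_134) (range_glue (range_of_allRange c_rel_135) (range_glue (range_of_allRange c_rel_136) (range_glue (range_of_allRange c_rel_137) (range_glue (range_of_allRange c_rel_138) (range_glue (range_of_allRange c_rel_139) (range_glue (range_of_allRange c_rel_140) (range_glue (range_of_allRange c_rel_141) (range_glue (range_of_allRange c_rel_142) (range_glue (range_of_allRange c_rel_143) (range_glue (range_of_allRange c_rel_144) (range_glue (range_of_allRange c_rel_145) (range_glue (range_of_allRange c_rel_146) (range_glue (range_of_allRange c_rel_147) (range_glue (range_of_allRange c_rel_148) (range_glue (range_of_allRange c_rel_149) (range_glue (range_of_allRange c_rel_150) (range_glue (range_of_allRange c_rel_151) (range_glue (range_of_allRange c_rel_152) (range_glue (range_of_allRange c_rel_153) (range_glue (range_of_allRange c_rel_154) (range_glue (range_of_allRange c_rel_155) (range_glue (range_of_allRange c_rel_156) (range_glue (range_of_allRange c_rel_157) (range_glue (range_of_allRange c_rel_158) (range_of_allRange c_rel_159))))))))))))))))))))))))))))))))))))))))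
theorem h_rel_p4 : ∀ t, 855840 ≤ t → t < 937059 → D.relOK t = true :=
  (range_glue (range_of_allRange c_rel_160) (range_glue (range_of_allRange c_rel_161) (range_glue (range_of_allRange c_rel_162) (range_glue (range_of_allRange c_rel_163) (range_glue (range_of_allRange c_rel_164) (range_glue (range_of_allRange c_rel_165) (range_glue (range_of_allRange c_rel_166) (range_glue (range_of_allRange c_rel_167) (range_glue (range_of_allRange c_rel_168) (range_glue (range_of_allRange c_rel_169) (range_glue (range_of_allRange c_rel_170) (range_glue (range_of_allRange c_rel_171) (range_glue (range_of_allRange c_rel_172) (range_glue (range_of_allRange c_rel_173) (range_glue (range_of_allRange c_rel_174) (range_glue (range_of_allRange c_rel_175) (range_glue (range_of_allRange c_rel_176) (range_glue (range_of_allRange c_rel_177) (range_glue (range_of_allRange c_rel_178) (range_glue (range_of_allRange c_rel_179) (range_glue (range_of_allRange c_rel_180) (range_glue (range_of_allRange c_rel_181) (range_glue (range_of_allRange c_rel_182) (range_glue (range_of_allRange c_rel_183) (range_glue (range_of_allRange c_rel_184) (range_glue (range_of_allRange c_rel_185) (range_glue (range_of_allRange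 c_rel_186) (range_glue (range_of_allRange c_rel_187) (range_glue (range_of_allRange c_rel_188) (range_glue (range_of_allRange c_rel_189) (range_glue (range_of_allRange c_rel_190) (range_glue (range_of_allRange c_rel_191) (range_glue (range_of_allRange c_rel_192) (range_glue (range_of_allRange c_rel_193) (range_glue (range_of_allRange c_rel_194) (range_glue (range_of_allRange c_rel_195) (range_glue (range_of_allRange c_rel_196) (range_glue (range_of_allRange c_rel_197) (range_glue (range_of_allRange c_rel_198) (range_of_allRange c_rel_199))))))))))))))))))))))))))))))))))))))))
theorem h_rel_p5 : ∀ t, 937059 ≤ t → t < 1028938 → D.relOK t = true :=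
  (range_glue (range_of_allRange c_rel_200) (range_glue (range_of_allRange c_rel_201) (range_glue (range_of_allRange c_rel_202) (range_glue (range_of_allRange c_rel_203) (range_glue (range_of_allRange c_rel_204) (range_glue (range_of_allRange c_rel_205) (range_glue (range_of_allRange c_rel_206) (range_glue (range_of_allRange c_rel_207) (range_glue (range_of_allRange c_rel_208) (range_glue (range_of_allRange c_rel_209) (range_glue (range_of_allRange c_rel_210) (range_glue (range_of_allRange c_rel_211) (range_glue (range_of_allRange c_rel_212) (range_glue (range_of_allRange c_rel_213) (range_glue (range_of_allRange c_rel_214) (range_glue (range_of_allRange c_rel_215) (range_glue (range_of_allRange c_rel_216) (range_glue (range_of_allRange c_rel_217) (range_glue (range_of_allRange c_rel_218) (range_glue (range_of_allRange c_rel_219) (range_glue (range_of_allRange c_rel_220) (range_glue (range_of_allRange c_rel_221) (range_glue (range_of_allRange c_rel_222) (range_glue (range_of_allRange c_rel_223) (range_glue (range_of_allRange c_rel_224) (range_glue (range_of_allRange c_rel_225) (range_glue (range_of_allRange c_rel_226) (range_glue (range_of_allRange c_rel_227) (range_glue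 (range_of_allRange c_rel_228) (range_glue (range_of_allRange c_rel_229) (range_glue (range_of_allRange c_rel_230) (range_glue (range_of_allRange c_rel_231) (range_glue (range_of_allRange c_rel_232) (range_glue (range_of_allRange c_rel_233) (range_glue (range_of_allRange c_rel_234) (range_glue (range_of_allRange c_rel_235) (range_glue (range_of_allRange c_rel_236) (range_glue (range_of_allRange c_rel_237) (range_glue (range_of_allRange c_rel_238) (range_of_allRange c_rel_239))))))))))))))))))))))))))))))))))))))))
theorem h_rel_p6 : ∀ t, 1028938 ≤ t → t < 1157498 → D.relOK t = true :=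
  (range_glue (range_of_allRange c_rel_240) (range_glue (range_of_allRange c_rel_241) (range_glue (range_of_allRange c_rel_242) (range_glue (range_of_allRange c_rel_243) (range_glue (range_of_allRange c_rel_244) (range_glue (range_of_allRange c_rel_245) (range_glue (range_of_allRange c_rel_246) (range_glue (range_of_allRange c_rel_247) (range_glue (range_of_allRange c_rel_248) (range_glue (range_of_allRange c_rel_249) (range_glue (range_of_allRange c_rel_250) (range_glue (range_of_allRange c_rel_251) (range_glue (range_of_allRange c_rel_252) (range_glue (range_of_allRange c_rel_253) (range_glue (range_of_allRange c_rel_254) (range_glue (range_of_allRange c_rel_255) (range_glue (range_of_allRange c_rel_256) (range_glue (range_of_allRange c_rel_257) (range_glue (range_of_allRange c_rel_258) (range_glue (range_of_allRange c_rel_259) (range_glue (range_of_allRange c_rel_260) (range_glue (range_of_allRange c_rel_261) (range_glue (range_of_allRange c_rel_262) (range_glue (range_of_allRange c_rel_263) (range_glue (range_of_allRange c_rel_264) (range_glue (range_of_allRange c_rel_265) (range_glue (range_of_allRange c_rel_266) (range_glue (range_of_allRange c_rel_267) (range_glue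 (range_of_allRange c_rel_268) (range_glue (range_of_allRange c_rel_269) (range_glue (range_of_allRange c_rel_270) (range_glue (range_of_allRange c_rel_271) (range_glue (range_of_allRange c_rel_272) (range_glue (range_of_allRange c_rel_273) (range_glue (range_of_allRange c_rel_274) (range_glue (range_of_allRange c_rel_275) (range_glue (range_of_allRange c_rel_276) (range_glue (range_of_allRange c_rel_277) (range_glue (range_of_allRange c_rel_278) (range_of_allRange c_rel_279))))))))))))))))))))))))))))))))))))))))
theorem h_rel_p7 : ∀ t, 1157498 ≤ t → t < 1198677 → D.relOK t = true :=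
  (range_glue (range_of_allRange c_rel_280) (range_glue (range_of_allRange c_rel_281) (range_glue (range_of_allRange c_rel_282) (range_glue (range_of_allRange c_rel_283) (range_glue (range_of_allRange c_rel_284) (range_glue (range_of_allRange c_rel_285) (range_glue (range_of_allRange c_rel_286) (range_glue (range_of_allRange c_rel_287) (range_of_allRange c_rel_288)))))))))
theorem h_rel : ∀ t, 435317 ≤ t → t < 1198677 → D.relOK t = true :=
  (range_glue h_rel_p0 (range_glue h_rel_p1 (range_glue h_rel_p2 (range_glue h_rel_p3 (range_glue h_rel_p4 (range_glue h_rel_p5 (range_glue h_rel_p6 h_rel_p7)))))))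
theorem h_names : ∀ t, 1 ≤ t → t < 435311 → D.nameOK t = true :=
  (range_glue (range_of_allRange c_names_0) (range_glue (range_of_allRange c_names_1) (range_glue (range_of_allRange c_names_2) (range_glue (range_of_allRange c_names_3) (range_glue (range_of_allRange c_names_4) (range_glue (range_of_allRange c_names_5) (range_glue (range_of_allRange c_names_6) (range_of_allRange c_names_7))))))))
theorem h_cls : ∀ t, 1 ≤ t → t < 435311 → T.clsOK D t = true :=
  (range_glue (range_of_allRange c_cls_0) (range_glue (range_of_allRange c_cls_1) (range_glue (range_of_allRange c_cls_2) (range_glue (range_of_allRange c_cls_3) (range_glue (range_of_allRange c_cls_4) (range_glue (range_of_allRange c_cls_5) (range_glue (range_of_allRange c_cls_6) (range_glue (range_of_allRange c_cls_7) (range_glue (range_of_allRange c_cls_8) (range_glue (range_of_allRange c_cls_9) (range_glue (range_of_allRange c_cls_10) (range_glue (range_of_allRange c_cls_11) (range_glue (range_of_allRange c_cls_12) (range_glue (range_of_allRange c_cls_13) (range_glue (range_of_allRange c_cls_14) (range_glue (range_of_allRange c_cls_15) (range_glue (range_of_allRange c_cls_16) (range_glue (range_of_allRange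 c_cls_17) (range_glue (range_of_allRange c_cls_18) (range_glue (range_of_allRange c_cls_19) (range_glue (range_of_allRange c_cls_20) (range_glue (range_of_allRange c_cls_21) (range_glue (range_of_allRange c_cls_22) (range_glue (range_of_allRange c_cls_23) (range_glue (range_of_allRange c_cls_24) (range_glue (range_of_allRange c_cls_25) (range_glue (range_of_allRange c_cls_26) (range_glue (range_of_allRange c_cls_27) (range_glue (range_of_allRange c_cls_28) (range_of_allRange c_cls_29))))))))))))))))))))))))))))))
theorem h_rep : ∀ t, 0 ≤ t → t < 44352 → T.repOK D t = true :=
  (range_glue (range_of_allRange c_rep_0) (range_of_allRange c_rep_1))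
theorem h_fin : ∀ i, 0 ≤ i → i < 44352 → ∀ x, x < 6 → T.finOK D i x = true :=
  (range_glue (range_of_allGrid c_fin_0) (range_glue (range_of_allGrid c_fin_1) (range_glue (range_of_allGrid c_fin_2) (range_glue (range_of_allGrid c_fin_3) (range_glue (range_of_allGrid c_fin_4) (range_glue (range_of_allGrid c_fin_5) (range_glue (range_of_allGrid c_fin_6) (range_glue (range_of_allGrid c_fin_7) (range_glue (range_of_allGrid c_fin_8) (range_glue (range_of_allGrid c_fin_9) (range_glue (range_of_allGrid c_fin_10) (range_glue (range_of_allGrid c_fin_11) (range_glue (range_of_allGrid c_fin_12) (range_glue (range_of_allGrid c_fin_13) (range_glue (range_of_allGrid c_fin_14) (range_glue (range_of_allGrid c_fin_15) (range_glue (range_of_allGrid c_fin_16) (range_glue (range_of_allGrid c_fin_17) (range_glue (range_of_allGrid c_fin_18) (range_glue (range_of_allGrid c_fin_19) (range_glue (range_of_allGrid c_fin_20) (range_glue (range_of_allGrid c_fin_21) (range_of_allGrid c_fin_22)))))))))))))))))))))))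
theorem h_perm : ∀ i, 0 ≤ i → i < 44352 → ∀ x, x < 6 → T.permOK1 D i x = true :=
  (range_glue (range_of_allGrid c_perm_0) (range_glue (range_of_allGrid c_perm_1) (range_glue (range_of_allGrid c_perm_2) (range_glue (range_of_allGrid c_perm_3) (range_glue (range_of_allGrid c_perm_4) (range_glue (range_of_allGrid c_perm_5) (range_glue (range_of_allGrid c_perm_6) (range_glue (range_of_allGrid c_perm_7) (range_of_allGrid c_perm_8)))))))))

theorem checked : T.Checked D where
  hz := c_zero
  hn := fun d h0 hd => h_names d h0 hd
  hb := fun j hj => allBelow_eq_true.1 c_base j hj
  hr := fun t h1 h2 => h_rel t h1 h2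
  hfin := fun i x hi hx => h_fin i (Nat.zero_le _) hi x hx
  hperm := fun i x hi hx => h_perm i (Nat.zero_le _) hi x hx
  hlet := fun x hx => allBelow_eq_true.1 c_let x hx
  hcls := fun d h0 hd => h_cls d h0 hd
  hrep := fun i hi => h_rep i (Nat.zero_le _) hi
  hcls0 := c_cls0
  hname0 := c_name0
  hN := by decide
  hM := by decide

theorem extra_le : ∀ r ∈ extraL, ∀ x ∈ r, x ≤ PHNN.P.k := by
  intro u hu x hx
  have h1 := List.all_eq_true.1 c_extra u hu
  exact le_of_lt (ble_succ (List.all_eq_true.1 h1 x hx))

theorem ginst : GInst PHNN.P.k PHNN.invR (PHNN.P.real ++ extraL) subs T D where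
  hk := rfl
  hinv := rfl
  hsubs := by
    intro u hu x hx
    have h1 := List.all_eq_true.1 c_subs u hu
    exact le_of_lt (ble_succ (List.all_eq_true.1 h1 x hx))
  htab := c_tab
  hC := checked

end Cfsg.Agent.Lib.Helper4.TCD.HNN3
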