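import Cfsg.Agent.Lib.Helper4.TCD_HNNR_C0

namespace Cfsg.Agent.Lib.Helper4.TCD.HNNR

open Cfsg.Agent.Lib.Helper4.TC

theorem h_perm : ∀ i, 0 ≤ i → i < 1408 → ∀ x, x < 6 → T.permOK1 D i x = true :=
  (range_of_allGrid c_perm_0)
theorem h_act0 : ∀ i, 0 ≤ i → i < 1408 → Nat.beq (actR0 i) i = true :=
  (range_of_allRange c_act0_0)
theorem h_act1 : ∀ i, 0 ≤ i → i < 1408 → Nat.beq (actR1 i) i = true :=
  (range_of_allRange c_act1_0)
theorem h_act2 : ∀ i, 0 ≤ i → i < 1408 → Nat.beq (actR2 i) i = true :=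
  (range_of_allRange c_act2_0)
theorem h_act3 : ∀ i, 0 ≤ i → i < 1408 → Nat.beq (actR3 i) i = true :=
  (range_of_allRange c_act3_0)
theorem h_act4 : ∀ i, 0 ≤ i → i < 1408 → Nat.beq (actR4 i) i = true :=
  (range_of_allRange c_act4_0)
theorem h_act5 : ∀ i, 0 ≤ i → i < 1408 → Nat.beq (actR5 i) i = true :=
  (range_of_allRange c_act5_0)
theorem h_act6 : ∀ i, 0 ≤ i → i < 1408 → Nat.beq (actR6 i) i = true :=
  (range_of_allRange c_act6_0)
theorem h_act7 : ∀ i, 0 ≤ i → i < 1408 → Nat.beq (actR7 i) i = true :=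
  (range_of_allRange c_act7_0)
theorem h_act8 : ∀ i, 0 ≤ i → i < 1408 → Nat.beq (actR8 i) i = true :=
  (range_of_allRange c_act8_0)
theorem h_act9 : ∀ i, 0 ≤ i → i < 1408 → Nat.beq (actR9 i) i = true :=
  (range_glue (range_of_allRange c_act9_0) (range_of_allRange c_act9_1))
theorem h_w0_zx0 : ∀ i, 0 ≤ i → i < 1408 → Nat.beq (actW_zx0 i) i = true :=
  (range_of_allRange c_w_zx0_0)
theorem h_w0_zx1 : ∀ i, 0 ≤ i → i < 1408 → Nat.beq (actW_zx1 i) i = true :=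
  (range_of_allRange c_w_zx1_0)
theorem h_w0_zx2 : ∀ i, 0 ≤ i → i < 1408 → Nat.beq (actW_zx2 i) i = true :=
  (range_of_allRange c_w_zx2_0)
theorem h_w0_zx3 : ∀ i, 0 ≤ i → i < 1408 → Nat.beq (actW_zx3 i) i = true :=
  (range_of_allRange c_w_zx3_0)
theorem h_w0_zx4 : ∀ i, 0 ≤ i → i < 1408 → Nat.beq (actW_zx4 i) i = true :=
  (range_of_allRange c_w_zx4_0)
theorem h_w0_zx5 : ∀ i, 0 ≤ i → i < 1408 → Nat.beq (actW_zx5 i) i = true :=
  (range_of_allRange c_w_zx5_0)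
theorem h_w0_zx6 : ∀ i, 0 ≤ i → i < 1408 → Nat.beq (actW_zx6 i) i = true :=
  (range_of_allRange c_w_zx6_0)
theorem h_w0_zx7 : ∀ i, 0 ≤ i → i < 1408 → Nat.beq (actW_zx7 i) i = true :=
  (range_of_allRange c_w_zx7_0)
theorem h_w0_zx8 : ∀ i, 0 ≤ i → i < 1408 → Nat.beq (actW_zx8 i) i = true :=
  (range_of_allRange c_w_zx8_0)
theorem h_w0_zx9 : ∀ i, 0 ≤ i → i < 1408 → Nat.beq (actW_zx9 i) i = true :=
  (range_of_allRange c_w_zx9_0)
theorem h_w0_zx10 : ∀ i, 0 ≤ i → i < 1408 → Nat.beq (actW_zx10 i) i = true :=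
  (range_of_allRange c_w_zx10_0)

theorem h_act : ∀ L ∈ PHNN.P.real, ∀ i, i < T.N → Tab.relActOK T D L i = true := by
  rw [c_real]
  intro L hL
  simp only [realLit, List.mem_cons, List.not_mem_nil, or_false] at hL
  rcases hL with rfl | rfl | rfl | rfl | rfl | rfl | rfl | rfl | rfl | rfl
  · intro i hi
    rw [Tab.relActOK, ← actR0_eq]
    exact h_act0 i (Nat.zero_le _) hi
  · intro i hi
    rw [Tab.relActOK, ← actR1_eq]
    exact h_act1 i (Nat.zero_le _) hi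
  · intro i hi
    rw [Tab.relActOK, ← actR2_eq]
    exact h_act2 i (Nat.zero_le _) hi
  · intro i hi
    rw [Tab.relActOK, ← actR3_eq]
    exact h_act3 i (Nat.zero_le _) hi
  · intro i hi
    rw [Tab.relActOK, ← actR4_eq]
    exact h_act4 i (Nat.zero_le _) hi
  · intro i hi
    rw [Tab.relActOK, ← actR5_eq]
    exact h_act5 i (Nat.zero_le _) hi
  · intro i hi
    rw [Tab.relActOK, ← actR6_eq]
    exact h_act6 i (Nat.zero_le _) hi
  · intro i hi
    rw [Tab.relActOK, ← actR7_eq]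
    exact h_act7 i (Nat.zero_le _) hi
  · intro i hi
    rw [Tab.relActOK, ← actR8_eq]
    exact h_act8 i (Nat.zero_le _) hi
  · intro i hi
    rw [Tab.relActOK, ← actR9_eq]
    exact h_act9 i (Nat.zero_le _) hi

theorem h_w_zx0 : ∀ i, i < T.N → Tab.relActOK T D zx0 i = true := by
  intro i hi
  rw [Tab.relActOK, ← actW_zx0_eq]
  exact h_w0_zx0 i (Nat.zero_le _) hi

theorem h_w_zx1 : ∀ i, i < T.N → Tab.relActOK T D zx1 i = true := by
  intro i hi
  rw [Tab.relActOK, ← actW_zx1_eq]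
  exact h_w0_zx1 i (Nat.zero_le _) hi

theorem h_w_zx2 : ∀ i, i < T.N → Tab.relActOK T D zx2 i = true := by
  intro i hi
  rw [Tab.relActOK, ← actW_zx2_eq]
  exact h_w0_zx2 i (Nat.zero_le _) hi

theorem h_w_zx3 : ∀ i, i < T.N → Tab.relActOK T D zx3 i = true := by
  intro i hi
  rw [Tab.relActOK, ← actW_zx3_eq]
  exact h_w0_zx3 i (Nat.zero_le _) hi

theorem h_w_zx4 : ∀ i, i < T.N → Tab.relActOK T D zx4 i = true := by
  intro i hi
  rw [Tab.relActOK, ← actW_zx4_eq]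
  exact h_w0_zx4 i (Nat.zero_le _) hi

theorem h_w_zx5 : ∀ i, i < T.N → Tab.relActOK T D zx5 i = true := by
  intro i hi
  rw [Tab.relActOK, ← actW_zx5_eq]
  exact h_w0_zx5 i (Nat.zero_le _) hi

theorem h_w_zx6 : ∀ i, i < T.N → Tab.relActOK T D zx6 i = true := by
  intro i hi
  rw [Tab.relActOK, ← actW_zx6_eq]
  exact h_w0_zx6 i (Nat.zero_le _) hi

theorem h_w_zx7 : ∀ i, i < T.N → Tab.relActOK T D zx7 i = true := by
  intro i hi
  rw [Tab.relActOK, ← actW_zx7_eq]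
  exact h_w0_zx7 i (Nat.zero_le _) hi

theorem h_w_zx8 : ∀ i, i < T.N → Tab.relActOK T D zx8 i = true := by
  intro i hi
  rw [Tab.relActOK, ← actW_zx8_eq]
  exact h_w0_zx8 i (Nat.zero_le _) hi

theorem h_w_zx9 : ∀ i, i < T.N → Tab.relActOK T D zx9 i = true := by
  intro i hi
  rw [Tab.relActOK, ← actW_zx9_eq]
  exact h_w0_zx9 i (Nat.zero_le _) hi

theorem h_w_zx10 : ∀ i, i < T.N → Tab.relActOK T D zx10 i = true := by
  intro i hi
  rw [Tab.relActOK, ← actW_zx10_eq]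
  exact h_w0_zx10 i (Nat.zero_le _) hi

theorem prep : PRep PHNN.P T D where
  hP := PHNN.valid
  hk := rfl
  hinv := fun _ _ => rfl
  hperm := fun i x hi hx => h_perm i (Nat.zero_le _) hi x hx
  hlet := fun x hx => allBelow_eq_true.1 c_let x hx
  hact := h_act

end Cfsg.Agent.Lib.Helper4.TCD.HNNR
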