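import Mathlib
import Cfsg.Agent.Lib.Helper4.HNKMain
import Cfsg.Agent.Lib.Helper4.TCD_HNN3_Fin
import Cfsg.Agent.Lib.Helper4.TCD_HNNR_Fin
import Cfsg.Agent.Lib.Helper4.TCD_HNNL_Fin

/-! The auxiliary presented group `HNN` on `x`, `y`, `z`: its order is 177408000, a table of permutations on
1408 points represents it faithfully, and a list of further relator words holds in it. -/

namespace Cfsg.Agent.Lib.Helper4.HNNMain

open Cfsg.Agent.Lib.Helper4.TC Cfsg.Agent.Lib.Helper4.TCD Cfsg.Agent.Lib.Helper4.TC.Log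

theorem real_sub : ∀ L ∈ PHNK.P.real, L ∈ PHNN.P.real := by decide +kernel

/-- the letters of `HNK` are letters of `HNN` -/
theorem embK : LetterEmb PHNK.P PHNN.P id where
  hP := PHNK.valid
  hQ := PHNN.valid
  hlt := by
    intro l hl
    have hl : l < 4 := hl
    show l < 6
    omega
  hinv := by
    intro l hl
    have hl : l < 4 := hl
    interval_cases l <;> rfl
  hrel := by
    intro L hL
    rw [List.map_id]
    exact (PHNN.valid.real_sound L (real_sub L hL)).2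

theorem extraL_eq : HNN3.extraL = HNKMain.extraK := by decide +kernel

theorem extras_sound : ∀ r ∈ HNN3.extraL, wordP PHNN.P.gR r = 1 := by
  intro r hr
  rw [extraL_eq] at hr
  have h := embK.word_eq_one r (HNKMain.extraK_lt r hr) (HNKMain.extraK_sound r hr)
  rwa [List.map_id] at h

theorem gsound : GSound PHNN.P.gR PHNN.P.k PHNN.invR (PHNN.P.real ++ HNN3.extraL) where
  heps := by rw [CoxEnc.gR, if_neg (lt_irrefl _)]
  hinvR := PHNN.valid.invR_sound
  hrels := by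
    intro r hr
    rcases List.mem_append.1 hr with hr | hr
    · exact PHNN.valid.real_sound r hr
    · exact ⟨HNN3.extra_le r hr, extras_sound r hr⟩

theorem subs_eq : HNN3.subs = HNK2.subs.map (List.map id) := by decide +kernel

theorem subK_eq : GInst.subK PHNN.P.gR HNN3.subs = (Inst.subG PHNK.P HNK2.subs).map embK.hom := by
  rw [embK.map_subG HNK2.subs HNK2.inst.hsubs, ← subs_eq]
  rfl

theorem card_H1 : Finite (GInst.subK PHNN.P.gR HNN3.subs) ∧ Nat.card (GInst.subK PHNN.P.gR HNN3.subs) ≤ 4000 := by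
  rw [subK_eq]
  obtain ⟨hf, hc⟩ := HNKMain.card_H1
  have := LetterEmb.card_map_le embK.hom (Inst.subG PHNK.P HNK2.subs)
  rw [hc] at this
  exact this

/-- the order and the faithful permutation representation -/
theorem order_aux : Finite PHNN.P.Grp ∧ Function.Injective HNNR.prep.phi ∧ Nat.card PHNN.P.Grp = 177408000 := by
  obtain ⟨hf, hc⟩ := card_H1
  have hcov := card_le_of_cover (⊤ : Subgroup PHNN.P.Grp) (GInst.subK PHNN.P.gR HNN3.subs) HNN3.T.N
    (fun i => HNN3.D.V (extG PHNN.P.k PHNN.P.gR (HNN3.subs.map (wordP PHNN.P.gR))) (HNN3.T.nameOf i))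
    (fun γ _ => HNN3.ginst.cover gsound γ (by rw [PHNN.valid.gen_top]; trivial)) hf
  obtain ⟨fT, cT⟩ := hcov
  have fG : Finite PHNN.P.Grp := Finite.of_equiv _ (Subgroup.topEquiv (G := PHNN.P.Grp)).toEquiv
  have hN : HNN3.T.N = 44352 := rfl
  have hub : Nat.card PHNN.P.Grp ≤ 177408000 := by
    rw [← Subgroup.card_top (G := PHNN.P.Grp)]
    calc Nat.card (⊤ : Subgroup PHNN.P.Grp) ≤ HNN3.T.N * Nat.card (GInst.subK PHNN.P.gR HNN3.subs) := cT
      _ ≤ 44352 * 4000 := by rw [hN]; exact Nat.mul_le_mul_left _ hc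
      _ = 177408000 := by norm_num
  obtain ⟨hinj, hcard⟩ := HNNR.prep.card_eq HNNL.S rfl rfl HNNL.htab0 HNNL.ok 177408000 (by decide)
    HNNL.prod_eq fG hub
  exact ⟨fG, hinj, hcard⟩

/-- the further relator words in `x`, `y`, `z` -/
def extraZ : List (List ℕ) := [HNNR.zx0, HNNR.zx1, HNNR.zx2, HNNR.zx3, HNNR.zx4, HNNR.zx5, HNNR.zx6, HNNR.zx7,
  HNNR.zx8, HNNR.zx9, HNNR.zx10]

theorem extraZ_lt : ∀ r ∈ extraZ, ∀ x ∈ r, x < 6 := by decide +kernel

theorem extraZ_sound : ∀ r ∈ extraZ, wordP PHNN.P.gR r = 1 := by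
  have hinj := order_aux.2.1
  unfold extraZ
  refine List.forall_mem_cons.2 ⟨HNNR.prep.word_eq_one hinj HNNR.zx0 (by decide) HNNR.h_w_zx0, ?_⟩
  refine List.forall_mem_cons.2 ⟨HNNR.prep.word_eq_one hinj HNNR.zx1 (by decide) HNNR.h_w_zx1, ?_⟩
  refine List.forall_mem_cons.2 ⟨HNNR.prep.word_eq_one hinj HNNR.zx2 (by decide) HNNR.h_w_zx2, ?_⟩
  refine List.forall_mem_cons.2 ⟨HNNR.prep.word_eq_one hinj HNNR.zx3 (by decide) HNNR.h_w_zx3, ?_⟩
  refine List.forall_mem_cons.2 ⟨HNNR.prep.word_eq_one hinj HNNR.zx4 (by decide) HNNR.h_w_zx4, ?_⟩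
  refine List.forall_mem_cons.2 ⟨HNNR.prep.word_eq_one hinj HNNR.zx5 (by decide) HNNR.h_w_zx5, ?_⟩
  refine List.forall_mem_cons.2 ⟨HNNR.prep.word_eq_one hinj HNNR.zx6 (by decide) HNNR.h_w_zx6, ?_⟩
  refine List.forall_mem_cons.2 ⟨HNNR.prep.word_eq_one hinj HNNR.zx7 (by decide) HNNR.h_w_zx7, ?_⟩
  refine List.forall_mem_cons.2 ⟨HNNR.prep.word_eq_one hinj HNNR.zx8 (by decide) HNNR.h_w_zx8, ?_⟩
  refine List.forall_mem_cons.2 ⟨HNNR.prep.word_eq_one hinj HNNR.zx9 (by decide) HNNR.h_w_zx9, ?_⟩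
  refine List.forall_mem_cons.2 ⟨HNNR.prep.word_eq_one hinj HNNR.zx10 (by decide) HNNR.h_w_zx10, ?_⟩
  intro r hr
  exact absurd hr List.not_mem_nil

end Cfsg.Agent.Lib.Helper4.HNNMain
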