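import Cfsg.Agent.Lib.Helper4.TCD_HNm_Acc

namespace Cfsg.Agent.Lib.Helper4.TCD.HNm

open Cfsg.Agent.Lib.Helper4.TC

set_option maxRecDepth 100000
set_option Elab.async false

theorem c_cls_22 : allRange (T.clsOK D) 330001 15000 = true := by decide +kernel
theorem c_cls_23 : allRange (T.clsOK D) 345001 15000 = true := by decide +kernel
theorem c_cls_24 : allRange (T.clsOK D) 360001 15000 = true := by decide +kernel
theorem c_cls_25 : allRange (T.clsOK D) 375001 15000 = true := by decide +kernel
theorem c_cls_26 : allRange (T.clsOK D) 390001 15000 = true := by decide +kernel
theorem c_cls_27 : allRange (T.clsOK D) 405001 15000 = true := by decide +kernel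
theorem c_cls_28 : allRange (T.clsOK D) 420001 15000 = true := by decide +kernel
theorem c_cls_29 : allRange (T.clsOK D) 435001 15000 = true := by decide +kernel
theorem c_cls_30 : allRange (T.clsOK D) 450001 15000 = true := by decide +kernel
theorem c_cls_31 : allRange (T.clsOK D) 465001 15000 = true := by decide +kernel
theorem c_cls_32 : allRange (T.clsOK D) 480001 15000 = true := by decide +kernel
theorem c_cls_33 : allRange (T.clsOK D) 495001 15000 = true := by decide +kernel
theorem c_cls_34 : allRange (T.clsOK D) 510001 15000 = true := by decide +kernel
theorem c_cls_35 : allRange (T.clsOK D) 525001 15000 = true := by decide +kernel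
theorem c_cls_36 : allRange (T.clsOK D) 540001 15000 = true := by decide +kernel
theorem c_cls_37 : allRange (T.clsOK D) 555001 15000 = true := by decide +kernel
theorem c_cls_38 : allRange (T.clsOK D) 570001 15000 = true := by decide +kernel
theorem c_cls_39 : allRange (T.clsOK D) 585001 15000 = true := by decide +kernel
theorem c_cls_40 : allRange (T.clsOK D) 600001 15000 = true := by decide +kernel
theorem c_cls_41 : allRange (T.clsOK D) 615001 15000 = true := by decide +kernel
theorem c_cls_42 : allRange (T.clsOK D) 630001 15000 = true := by decide +kernel
theorem c_cls_43 : allRange (T.clsOK D) 645001 15000 = true := by decide +kernel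
theorem c_cls_44 : allRange (T.clsOK D) 660001 15000 = true := by decide +kernel
theorem c_cls_45 : allRange (T.clsOK D) 675001 15000 = true := by decide +kernel
theorem c_cls_46 : allRange (T.clsOK D) 690001 15000 = true := by decide +kernel
theorem c_cls_47 : allRange (T.clsOK D) 705001 15000 = true := by decide +kernel
theorem c_cls_48 : allRange (T.clsOK D) 720001 15000 = true := by decide +kernel
theorem c_cls_49 : allRange (T.clsOK D) 735001 15000 = true := by decide +kernel
theorem c_cls_50 : allRange (T.clsOK D) 750001 15000 = true := by decide +kernel
theorem c_cls_51 : allRange (T.clsOK D) 765001 15000 = true := by decide +kernel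
theorem c_cls_52 : allRange (T.clsOK D) 780001 15000 = true := by decide +kernel
theorem c_cls_53 : allRange (T.clsOK D) 795001 15000 = true := by decide +kernel
theorem c_cls_54 : allRange (T.clsOK D) 810001 15000 = true := by decide +kernel
theorem c_cls_55 : allRange (T.clsOK D) 825001 15000 = true := by decide +kernel
theorem c_cls_56 : allRange (T.clsOK D) 840001 15000 = true := by decide +kernel
theorem c_cls_57 : allRange (T.clsOK D) 855001 15000 = true := by decide +kernel
theorem c_cls_58 : allRange (T.clsOK D) 870001 15000 = true := by decide +kernel
theorem c_cls_59 : allRange (T.clsOK D) 885001 15000 = true := by decide +kernel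
theorem c_cls_60 : allRange (T.clsOK D) 900001 15000 = true := by decide +kernel
theorem c_cls_61 : allRange (T.clsOK D) 915001 15000 = true := by decide +kernel
theorem c_cls_62 : allRange (T.clsOK D) 930001 15000 = true := by decide +kernel
theorem c_cls_63 : allRange (T.clsOK D) 945001 15000 = true := by decide +kernel
theorem c_cls_64 : allRange (T.clsOK D) 960001 15000 = true := by decide +kernel
theorem c_cls_65 : allRange (T.clsOK D) 975001 15000 = true := by decide +kernel
theorem c_cls_66 : allRange (T.clsOK D) 990001 15000 = true := by decide +kernel
theorem c_cls_67 : allRange (T.clsOK D) 1005001 15000 = true := by decide +kernel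
theorem c_cls_68 : allRange (T.clsOK D) 1020001 15000 = true := by decide +kernel
theorem c_cls_69 : allRange (T.clsOK D) 1035001 15000 = true := by decide +kernel
theorem c_cls_70 : allRange (T.clsOK D) 1050001 15000 = true := by decide +kernel
theorem c_cls_71 : allRange (T.clsOK D) 1065001 15000 = true := by decide +kernel

end Cfsg.Agent.Lib.Helper4.TCD.HNm
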