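import Cfsg.Agent.Lib.Helper4.TCD_HNm_Acc

namespace Cfsg.Agent.Lib.Helper4.TCD.HNm

open Cfsg.Agent.Lib.Helper4.TC

set_option maxRecDepth 100000
set_option Elab.async false

theorem c_rel_617 : allRange D.relOK 3229664 2388 = true := by decide +kernel
theorem c_rel_618 : allRange D.relOK 3232052 2499 = true := by decide +kernel
theorem c_rel_619 : allRange D.relOK 3234551 2601 = true := by decide +kernel
theorem c_rel_620 : allRange D.relOK 3237152 2502 = true := by decide +kernel
theorem c_rel_621 : allRange D.relOK 3239654 2383 = true := by decide +kernel
theorem c_rel_622 : allRange D.relOK 3242037 2541 = true := by decide +kernel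
theorem c_rel_623 : allRange D.relOK 3244578 2571 = true := by decide +kernel
theorem c_rel_624 : allRange D.relOK 3247149 2375 = true := by decide +kernel
theorem c_rel_625 : allRange D.relOK 3249524 2405 = true := by decide +kernel
theorem c_rel_626 : allRange D.relOK 3251929 2396 = true := by decide +kernel
theorem c_rel_627 : allRange D.relOK 3254325 2534 = true := by decide +kernel
theorem c_rel_628 : allRange D.relOK 3256859 2343 = true := by decide +kernel
theorem c_rel_629 : allRange D.relOK 3259202 2318 = true := by decide +kernel
theorem c_rel_630 : allRange D.relOK 3261520 2309 = true := by decide +kernel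
theorem c_rel_631 : allRange D.relOK 3263829 2464 = true := by decide +kernel
theorem c_rel_632 : allRange D.relOK 3266293 2688 = true := by decide +kernel
theorem c_rel_633 : allRange D.relOK 3268981 2404 = true := by decide +kernel
theorem c_rel_634 : allRange D.relOK 3271385 2321 = true := by decide +kernel
theorem c_rel_635 : allRange D.relOK 3273706 2292 = true := by decide +kernel
theorem c_rel_636 : allRange D.relOK 3275998 2425 = true := by decide +kernel
theorem c_rel_637 : allRange D.relOK 3278423 2312 = true := by decide +kernel
theorem c_rel_638 : allRange D.relOK 3280735 2322 = true := by decide +kernel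
theorem c_rel_639 : allRange D.relOK 3283057 2332 = true := by decide +kernel
theorem c_rel_640 : allRange D.relOK 3285389 2370 = true := by decide +kernel
theorem c_rel_641 : allRange D.relOK 3287759 2489 = true := by decide +kernel
theorem c_rel_642 : allRange D.relOK 3290248 2626 = true := by decide +kernel
theorem c_rel_643 : allRange D.relOK 3292874 2316 = true := by decide +kernel
theorem c_rel_644 : allRange D.relOK 3295190 2173 = true := by decide +kernel
theorem c_rel_645 : allRange D.relOK 3297363 2245 = true := by decide +kernel
theorem c_rel_646 : allRange D.relOK 3299608 2376 = true := by decide +kernel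
theorem c_rel_647 : allRange D.relOK 3301984 2600 = true := by decide +kernel
theorem c_rel_648 : allRange D.relOK 3304584 2455 = true := by decide +kernel
theorem c_rel_649 : allRange D.relOK 3307039 2356 = true := by decide +kernel
theorem c_rel_650 : allRange D.relOK 3309395 2535 = true := by decide +kernel
theorem c_rel_651 : allRange D.relOK 3311930 2405 = true := by decide +kernel
theorem c_rel_652 : allRange D.relOK 3314335 2242 = true := by decide +kernel
theorem c_rel_653 : allRange D.relOK 3316577 2321 = true := by decide +kernel
theorem c_rel_654 : allRange D.relOK 3318898 2393 = true := by decide +kernel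
theorem c_rel_655 : allRange D.relOK 3321291 2363 = true := by decide +kernel
theorem c_rel_656 : allRange D.relOK 3323654 2331 = true := by decide +kernel
theorem c_rel_657 : allRange D.relOK 3325985 2532 = true := by decide +kernel
theorem c_rel_658 : allRange D.relOK 3328517 2390 = true := by decide +kernel
theorem c_rel_659 : allRange D.relOK 3330907 2461 = true := by decide +kernel
theorem c_rel_660 : allRange D.relOK 3333368 2447 = true := by decide +kernel
theorem c_rel_661 : allRange D.relOK 3335815 2235 = true := by decide +kernel
theorem c_rel_662 : allRange D.relOK 3338050 2399 = true := by decide +kernel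
theorem c_rel_663 : allRange D.relOK 3340449 2231 = true := by decide +kernel
theorem c_rel_664 : allRange D.relOK 3342680 2356 = true := by decide +kernel
theorem c_rel_665 : allRange D.relOK 3345036 2407 = true := by decide +kernel
theorem c_rel_666 : allRange D.relOK 3347443 2670 = true := by decide +kernel
theorem c_rel_667 : allRange D.relOK 3350113 2431 = true := by decide +kernel
theorem c_rel_668 : allRange D.relOK 3352544 2325 = true := by decide +kernel
theorem c_rel_669 : allRange D.relOK 3354869 2285 = true := by decide +kernel
theorem c_rel_670 : allRange D.relOK 3357154 2175 = true := by decide +kernel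
theorem c_rel_671 : allRange D.relOK 3359329 2466 = true := by decide +kernel
theorem c_rel_672 : allRange D.relOK 3361795 2258 = true := by decide +kernel
theorem c_rel_673 : allRange D.relOK 3364053 2372 = true := by decide +kernel
theorem c_rel_674 : allRange D.relOK 3366425 2546 = true := by decide +kernel
theorem c_rel_675 : allRange D.relOK 3368971 2215 = true := by decide +kernel
theorem c_rel_676 : allRange D.relOK 3371186 2549 = true := by decide +kernel
theorem c_rel_677 : allRange D.relOK 3373735 2519 = true := by decide +kernel
theorem c_rel_678 : allRange D.relOK 3376254 2280 = true := by decide +kernel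
theorem c_rel_679 : allRange D.relOK 3378534 2493 = true := by decide +kernel
theorem c_rel_680 : allRange D.relOK 3381027 2551 = true := by decide +kernel
theorem c_rel_681 : allRange D.relOK 3383578 2149 = true := by decide +kernel
theorem c_rel_682 : allRange D.relOK 3385727 2297 = true := by decide +kernel
theorem c_rel_683 : allRange D.relOK 3388024 2382 = true := by decide +kernel
theorem c_rel_684 : allRange D.relOK 3390406 2344 = true := by decide +kernel
theorem c_rel_685 : allRange D.relOK 3392750 2441 = true := by decide +kernel
theorem c_rel_686 : allRange D.relOK 3395191 2348 = true := by decide +kernel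
theorem c_rel_687 : allRange D.relOK 3397539 2345 = true := by decide +kernel
theorem c_rel_688 : allRange D.relOK 3399884 2249 = true := by decide +kernel
theorem c_rel_689 : allRange D.relOK 3402133 2492 = true := by decide +kernel
theorem c_rel_690 : allRange D.relOK 3404625 2340 = true := by decide +kernel
theorem c_rel_691 : allRange D.relOK 3406965 2522 = true := by decide +kernel
theorem c_rel_692 : allRange D.relOK 3409487 2391 = true := by decide +kernel
theorem c_rel_693 : allRange D.relOK 3411878 2432 = true := by decide +kernel
theorem c_rel_694 : allRange D.relOK 3414310 2350 = true := by decide +kernel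
theorem c_rel_695 : allRange D.relOK 3416660 2380 = true := by decide +kernel
theorem c_rel_696 : allRange D.relOK 3419040 2474 = true := by decide +kernel
theorem c_rel_697 : allRange D.relOK 3421514 2397 = true := by decide +kernel
theorem c_rel_698 : allRange D.relOK 3423911 2183 = true := by decide +kernel
theorem c_rel_699 : allRange D.relOK 3426094 2244 = true := by decide +kernel
theorem c_rel_700 : allRange D.relOK 3428338 2362 = true := by decide +kernel
theorem c_rel_701 : allRange D.relOK 3430700 2379 = true := by decide +kernel
theorem c_rel_702 : allRange D.relOK 3433079 2390 = true := by decide +kernel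
theorem c_rel_703 : allRange D.relOK 3435469 2269 = true := by decide +kernel
theorem c_rel_704 : allRange D.relOK 3437738 2416 = true := by decide +kernel
theorem c_rel_705 : allRange D.relOK 3440154 2317 = true := by decide +kernel
theorem c_rel_706 : allRange D.relOK 3442471 2305 = true := by decide +kernel
theorem c_rel_707 : allRange D.relOK 3444776 2203 = true := by decide +kernel
theorem c_rel_708 : allRange D.relOK 3446979 2182 = true := by decide +kernel
theorem c_rel_709 : allRange D.relOK 3449161 2543 = true := by decide +kernel
theorem c_rel_710 : allRange D.relOK 3451704 2372 = true := by decide +kernel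
theorem c_rel_711 : allRange D.relOK 3454076 2238 = true := by decide +kernel
theorem c_rel_712 : allRange D.relOK 3456314 2120 = true := by decide +kernel
theorem c_rel_713 : allRange D.relOK 3458434 2375 = true := by decide +kernel
theorem c_rel_714 : allRange D.relOK 3460809 2459 = true := by decide +kernel
theorem c_rel_715 : allRange D.relOK 3463268 2393 = true := by decide +kernel

end Cfsg.Agent.Lib.Helper4.TCD.HNm
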