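import Cfsg.Agent.Lib.Helper4.TCD_HNm_Acc

namespace Cfsg.Agent.Lib.Helper4.TCD.HNm

open Cfsg.Agent.Lib.Helper4.TC

set_option maxRecDepth 100000
set_option Elab.async false

theorem c_act5_564 : allRange (fun i => Nat.beq (actR5 i) i) 1410000 2500 = true := by decide +kernel
theorem c_act5_565 : allRange (fun i => Nat.beq (actR5 i) i) 1412500 2500 = true := by decide +kernel
theorem c_act5_566 : allRange (fun i => Nat.beq (actR5 i) i) 1415000 2500 = true := by decide +kernel
theorem c_act5_567 : allRange (fun i => Nat.beq (actR5 i) i) 1417500 2500 = true := by decide +kernel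
theorem c_act5_568 : allRange (fun i => Nat.beq (actR5 i) i) 1420000 2500 = true := by decide +kernel
theorem c_act5_569 : allRange (fun i => Nat.beq (actR5 i) i) 1422500 2500 = true := by decide +kernel
theorem c_act5_570 : allRange (fun i => Nat.beq (actR5 i) i) 1425000 2500 = true := by decide +kernel
theorem c_act5_571 : allRange (fun i => Nat.beq (actR5 i) i) 1427500 2500 = true := by decide +kernel
theorem c_act5_572 : allRange (fun i => Nat.beq (actR5 i) i) 1430000 2500 = true := by decide +kernel
theorem c_act5_573 : allRange (fun i => Nat.beq (actR5 i) i) 1432500 2500 = true := by decide +kernel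
theorem c_act5_574 : allRange (fun i => Nat.beq (actR5 i) i) 1435000 2500 = true := by decide +kernel
theorem c_act5_575 : allRange (fun i => Nat.beq (actR5 i) i) 1437500 2500 = true := by decide +kernel
theorem c_act5_576 : allRange (fun i => Nat.beq (actR5 i) i) 1440000 2500 = true := by decide +kernel
theorem c_act5_577 : allRange (fun i => Nat.beq (actR5 i) i) 1442500 2500 = true := by decide +kernel
theorem c_act5_578 : allRange (fun i => Nat.beq (actR5 i) i) 1445000 2500 = true := by decide +kernel
theorem c_act5_579 : allRange (fun i => Nat.beq (actR5 i) i) 1447500 2500 = true := by decide +kernel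
theorem c_act5_580 : allRange (fun i => Nat.beq (actR5 i) i) 1450000 2500 = true := by decide +kernel
theorem c_act5_581 : allRange (fun i => Nat.beq (actR5 i) i) 1452500 2500 = true := by decide +kernel
theorem c_act5_582 : allRange (fun i => Nat.beq (actR5 i) i) 1455000 2500 = true := by decide +kernel
theorem c_act5_583 : allRange (fun i => Nat.beq (actR5 i) i) 1457500 2500 = true := by decide +kernel
theorem c_act5_584 : allRange (fun i => Nat.beq (actR5 i) i) 1460000 2500 = true := by decide +kernel
theorem c_act5_585 : allRange (fun i => Nat.beq (actR5 i) i) 1462500 2500 = true := by decide +kernel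
theorem c_act5_586 : allRange (fun i => Nat.beq (actR5 i) i) 1465000 2500 = true := by decide +kernel
theorem c_act5_587 : allRange (fun i => Nat.beq (actR5 i) i) 1467500 2500 = true := by decide +kernel
theorem c_act5_588 : allRange (fun i => Nat.beq (actR5 i) i) 1470000 2500 = true := by decide +kernel
theorem c_act5_589 : allRange (fun i => Nat.beq (actR5 i) i) 1472500 2500 = true := by decide +kernel
theorem c_act5_590 : allRange (fun i => Nat.beq (actR5 i) i) 1475000 2500 = true := by decide +kernel
theorem c_act5_591 : allRange (fun i => Nat.beq (actR5 i) i) 1477500 2500 = true := by decide +kernel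
theorem c_act5_592 : allRange (fun i => Nat.beq (actR5 i) i) 1480000 2500 = true := by decide +kernel
theorem c_act5_593 : allRange (fun i => Nat.beq (actR5 i) i) 1482500 2500 = true := by decide +kernel
theorem c_act5_594 : allRange (fun i => Nat.beq (actR5 i) i) 1485000 2500 = true := by decide +kernel
theorem c_act5_595 : allRange (fun i => Nat.beq (actR5 i) i) 1487500 2500 = true := by decide +kernel
theorem c_act5_596 : allRange (fun i => Nat.beq (actR5 i) i) 1490000 2500 = true := by decide +kernel
theorem c_act5_597 : allRange (fun i => Nat.beq (actR5 i) i) 1492500 2500 = true := by decide +kernel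
theorem c_act5_598 : allRange (fun i => Nat.beq (actR5 i) i) 1495000 2500 = true := by decide +kernel
theorem c_act5_599 : allRange (fun i => Nat.beq (actR5 i) i) 1497500 2500 = true := by decide +kernel
theorem c_act5_600 : allRange (fun i => Nat.beq (actR5 i) i) 1500000 2500 = true := by decide +kernel
theorem c_act5_601 : allRange (fun i => Nat.beq (actR5 i) i) 1502500 2500 = true := by decide +kernel
theorem c_act5_602 : allRange (fun i => Nat.beq (actR5 i) i) 1505000 2500 = true := by decide +kernel
theorem c_act5_603 : allRange (fun i => Nat.beq (actR5 i) i) 1507500 2500 = true := by decide +kernel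
theorem c_act5_604 : allRange (fun i => Nat.beq (actR5 i) i) 1510000 2500 = true := by decide +kernel
theorem c_act5_605 : allRange (fun i => Nat.beq (actR5 i) i) 1512500 2500 = true := by decide +kernel
theorem c_act5_606 : allRange (fun i => Nat.beq (actR5 i) i) 1515000 2500 = true := by decide +kernel
theorem c_act5_607 : allRange (fun i => Nat.beq (actR5 i) i) 1517500 2500 = true := by decide +kernel
theorem c_act5_608 : allRange (fun i => Nat.beq (actR5 i) i) 1520000 2500 = true := by decide +kernel
theorem c_act5_609 : allRange (fun i => Nat.beq (actR5 i) i) 1522500 2500 = true := by decide +kernel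
theorem c_act5_610 : allRange (fun i => Nat.beq (actR5 i) i) 1525000 2500 = true := by decide +kernel
theorem c_act5_611 : allRange (fun i => Nat.beq (actR5 i) i) 1527500 2500 = true := by decide +kernel
theorem c_act5_612 : allRange (fun i => Nat.beq (actR5 i) i) 1530000 2500 = true := by decide +kernel
theorem c_act5_613 : allRange (fun i => Nat.beq (actR5 i) i) 1532500 2500 = true := by decide +kernel

end Cfsg.Agent.Lib.Helper4.TCD.HNm
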