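import Cfsg.Agent.Lib.Helper4.TCD_HNm_Acc

namespace Cfsg.Agent.Lib.Helper4.TCD.HNm

open Cfsg.Agent.Lib.Helper4.TC

set_option maxRecDepth 100000
set_option Elab.async false

theorem c_act5_614 : allRange (fun i => Nat.beq (actR5 i) i) 1535000 2500 = true := by decide +kernel
theorem c_act5_615 : allRange (fun i => Nat.beq (actR5 i) i) 1537500 1500 = true := by decide +kernel
theorem c_act6_0 : allRange (fun i => Nat.beq (actR6 i) i) 0 30000 = true := by decide +kernel
theorem c_act6_1 : allRange (fun i => Nat.beq (actR6 i) i) 30000 30000 = true := by decide +kernel
theorem c_act6_2 : allRange (fun i => Nat.beq (actR6 i) i) 60000 30000 = true := by decide +kernel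
theorem c_act6_3 : allRange (fun i => Nat.beq (actR6 i) i) 90000 30000 = true := by decide +kernel
theorem c_act6_4 : allRange (fun i => Nat.beq (actR6 i) i) 120000 30000 = true := by decide +kernel
theorem c_act6_5 : allRange (fun i => Nat.beq (actR6 i) i) 150000 30000 = true := by decide +kernel
theorem c_act6_6 : allRange (fun i => Nat.beq (actR6 i) i) 180000 30000 = true := by decide +kernel
theorem c_act6_7 : allRange (fun i => Nat.beq (actR6 i) i) 210000 30000 = true := by decide +kernel
theorem c_act6_8 : allRange (fun i => Nat.beq (actR6 i) i) 240000 30000 = true := by decide +kernel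
theorem c_act6_9 : allRange (fun i => Nat.beq (actR6 i) i) 270000 30000 = true := by decide +kernel
theorem c_act6_10 : allRange (fun i => Nat.beq (actR6 i) i) 300000 30000 = true := by decide +kernel
theorem c_act6_11 : allRange (fun i => Nat.beq (actR6 i) i) 330000 30000 = true := by decide +kernel
theorem c_act6_12 : allRange (fun i => Nat.beq (actR6 i) i) 360000 30000 = true := by decide +kernel
theorem c_act6_13 : allRange (fun i => Nat.beq (actR6 i) i) 390000 30000 = true := by decide +kernel
theorem c_act6_14 : allRange (fun i => Nat.beq (actR6 i) i) 420000 30000 = true := by decide +kernel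
theorem c_act6_15 : allRange (fun i => Nat.beq (actR6 i) i) 450000 30000 = true := by decide +kernel
theorem c_act6_16 : allRange (fun i => Nat.beq (actR6 i) i) 480000 30000 = true := by decide +kernel
theorem c_act6_17 : allRange (fun i => Nat.beq (actR6 i) i) 510000 30000 = true := by decide +kernel
theorem c_act6_18 : allRange (fun i => Nat.beq (actR6 i) i) 540000 30000 = true := by decide +kernel
theorem c_act6_19 : allRange (fun i => Nat.beq (actR6 i) i) 570000 30000 = true := by decide +kernel
theorem c_act6_20 : allRange (fun i => Nat.beq (actR6 i) i) 600000 30000 = true := by decide +kernel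
theorem c_act6_21 : allRange (fun i => Nat.beq (actR6 i) i) 630000 30000 = true := by decide +kernel
theorem c_act6_22 : allRange (fun i => Nat.beq (actR6 i) i) 660000 30000 = true := by decide +kernel
theorem c_act6_23 : allRange (fun i => Nat.beq (actR6 i) i) 690000 30000 = true := by decide +kernel
theorem c_act6_24 : allRange (fun i => Nat.beq (actR6 i) i) 720000 30000 = true := by decide +kernel
theorem c_act6_25 : allRange (fun i => Nat.beq (actR6 i) i) 750000 30000 = true := by decide +kernel
theorem c_act6_26 : allRange (fun i => Nat.beq (actR6 i) i) 780000 30000 = true := by decide +kernel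
theorem c_act6_27 : allRange (fun i => Nat.beq (actR6 i) i) 810000 30000 = true := by decide +kernel
theorem c_act6_28 : allRange (fun i => Nat.beq (actR6 i) i) 840000 30000 = true := by decide +kernel
theorem c_act6_29 : allRange (fun i => Nat.beq (actR6 i) i) 870000 30000 = true := by decide +kernel
theorem c_act6_30 : allRange (fun i => Nat.beq (actR6 i) i) 900000 30000 = true := by decide +kernel
theorem c_act6_31 : allRange (fun i => Nat.beq (actR6 i) i) 930000 30000 = true := by decide +kernel
theorem c_act6_32 : allRange (fun i => Nat.beq (actR6 i) i) 960000 30000 = true := by decide +kernel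
theorem c_act6_33 : allRange (fun i => Nat.beq (actR6 i) i) 990000 30000 = true := by decide +kernel
theorem c_act6_34 : allRange (fun i => Nat.beq (actR6 i) i) 1020000 30000 = true := by decide +kernel
theorem c_act6_35 : allRange (fun i => Nat.beq (actR6 i) i) 1050000 30000 = true := by decide +kernel
theorem c_act6_36 : allRange (fun i => Nat.beq (actR6 i) i) 1080000 30000 = true := by decide +kernel
theorem c_act6_37 : allRange (fun i => Nat.beq (actR6 i) i) 1110000 30000 = true := by decide +kernel
theorem c_act6_38 : allRange (fun i => Nat.beq (actR6 i) i) 1140000 30000 = true := by decide +kernel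
theorem c_act6_39 : allRange (fun i => Nat.beq (actR6 i) i) 1170000 30000 = true := by decide +kernel
theorem c_act6_40 : allRange (fun i => Nat.beq (actR6 i) i) 1200000 30000 = true := by decide +kernel
theorem c_act6_41 : allRange (fun i => Nat.beq (actR6 i) i) 1230000 30000 = true := by decide +kernel
theorem c_act6_42 : allRange (fun i => Nat.beq (actR6 i) i) 1260000 30000 = true := by decide +kernel
theorem c_act6_43 : allRange (fun i => Nat.beq (actR6 i) i) 1290000 30000 = true := by decide +kernel
theorem c_act6_44 : allRange (fun i => Nat.beq (actR6 i) i) 1320000 30000 = true := by decide +kernel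
theorem c_act6_45 : allRange (fun i => Nat.beq (actR6 i) i) 1350000 30000 = true := by decide +kernel
theorem c_act6_46 : allRange (fun i => Nat.beq (actR6 i) i) 1380000 30000 = true := by decide +kernel
theorem c_act6_47 : allRange (fun i => Nat.beq (actR6 i) i) 1410000 30000 = true := by decide +kernel

end Cfsg.Agent.Lib.Helper4.TCD.HNm
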