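import Cfsg.Agent.Lib.Helper4.TCD_HNm_Acc

namespace Cfsg.Agent.Lib.Helper4.TCD.HNm

open Cfsg.Agent.Lib.Helper4.TC

set_option maxRecDepth 100000
set_option Elab.async false

theorem c_act6_48 : allRange (fun i => Nat.beq (actR6 i) i) 1440000 30000 = true := by decide +kernel
theorem c_act6_49 : allRange (fun i => Nat.beq (actR6 i) i) 1470000 30000 = true := by decide +kernel
theorem c_act6_50 : allRange (fun i => Nat.beq (actR6 i) i) 1500000 30000 = true := by decide +kernel
theorem c_act6_51 : allRange (fun i => Nat.beq (actR6 i) i) 1530000 9000 = true := by decide +kernel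
theorem c_act7_0 : allRange (fun i => Nat.beq (actR7 i) i) 0 15000 = true := by decide +kernel
theorem c_act7_1 : allRange (fun i => Nat.beq (actR7 i) i) 15000 15000 = true := by decide +kernel
theorem c_act7_2 : allRange (fun i => Nat.beq (actR7 i) i) 30000 15000 = true := by decide +kernel
theorem c_act7_3 : allRange (fun i => Nat.beq (actR7 i) i) 45000 15000 = true := by decide +kernel
theorem c_act7_4 : allRange (fun i => Nat.beq (actR7 i) i) 60000 15000 = true := by decide +kernel
theorem c_act7_5 : allRange (fun i => Nat.beq (actR7 i) i) 75000 15000 = true := by decide +kernel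
theorem c_act7_6 : allRange (fun i => Nat.beq (actR7 i) i) 90000 15000 = true := by decide +kernel
theorem c_act7_7 : allRange (fun i => Nat.beq (actR7 i) i) 105000 15000 = true := by decide +kernel
theorem c_act7_8 : allRange (fun i => Nat.beq (actR7 i) i) 120000 15000 = true := by decide +kernel
theorem c_act7_9 : allRange (fun i => Nat.beq (actR7 i) i) 135000 15000 = true := by decide +kernel
theorem c_act7_10 : allRange (fun i => Nat.beq (actR7 i) i) 150000 15000 = true := by decide +kernel
theorem c_act7_11 : allRange (fun i => Nat.beq (actR7 i) i) 165000 15000 = true := by decide +kernel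
theorem c_act7_12 : allRange (fun i => Nat.beq (actR7 i) i) 180000 15000 = true := by decide +kernel
theorem c_act7_13 : allRange (fun i => Nat.beq (actR7 i) i) 195000 15000 = true := by decide +kernel
theorem c_act7_14 : allRange (fun i => Nat.beq (actR7 i) i) 210000 15000 = true := by decide +kernel
theorem c_act7_15 : allRange (fun i => Nat.beq (actR7 i) i) 225000 15000 = true := by decide +kernel
theorem c_act7_16 : allRange (fun i => Nat.beq (actR7 i) i) 240000 15000 = true := by decide +kernel
theorem c_act7_17 : allRange (fun i => Nat.beq (actR7 i) i) 255000 15000 = true := by decide +kernel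
theorem c_act7_18 : allRange (fun i => Nat.beq (actR7 i) i) 270000 15000 = true := by decide +kernel
theorem c_act7_19 : allRange (fun i => Nat.beq (actR7 i) i) 285000 15000 = true := by decide +kernel
theorem c_act7_20 : allRange (fun i => Nat.beq (actR7 i) i) 300000 15000 = true := by decide +kernel
theorem c_act7_21 : allRange (fun i => Nat.beq (actR7 i) i) 315000 15000 = true := by decide +kernel
theorem c_act7_22 : allRange (fun i => Nat.beq (actR7 i) i) 330000 15000 = true := by decide +kernel
theorem c_act7_23 : allRange (fun i => Nat.beq (actR7 i) i) 345000 15000 = true := by decide +kernel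
theorem c_act7_24 : allRange (fun i => Nat.beq (actR7 i) i) 360000 15000 = true := by decide +kernel
theorem c_act7_25 : allRange (fun i => Nat.beq (actR7 i) i) 375000 15000 = true := by decide +kernel
theorem c_act7_26 : allRange (fun i => Nat.beq (actR7 i) i) 390000 15000 = true := by decide +kernel
theorem c_act7_27 : allRange (fun i => Nat.beq (actR7 i) i) 405000 15000 = true := by decide +kernel
theorem c_act7_28 : allRange (fun i => Nat.beq (actR7 i) i) 420000 15000 = true := by decide +kernel
theorem c_act7_29 : allRange (fun i => Nat.beq (actR7 i) i) 435000 15000 = true := by decide +kernel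
theorem c_act7_30 : allRange (fun i => Nat.beq (actR7 i) i) 450000 15000 = true := by decide +kernel
theorem c_act7_31 : allRange (fun i => Nat.beq (actR7 i) i) 465000 15000 = true := by decide +kernel
theorem c_act7_32 : allRange (fun i => Nat.beq (actR7 i) i) 480000 15000 = true := by decide +kernel
theorem c_act7_33 : allRange (fun i => Nat.beq (actR7 i) i) 495000 15000 = true := by decide +kernel
theorem c_act7_34 : allRange (fun i => Nat.beq (actR7 i) i) 510000 15000 = true := by decide +kernel
theorem c_act7_35 : allRange (fun i => Nat.beq (actR7 i) i) 525000 15000 = true := by decide +kernel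
theorem c_act7_36 : allRange (fun i => Nat.beq (actR7 i) i) 540000 15000 = true := by decide +kernel
theorem c_act7_37 : allRange (fun i => Nat.beq (actR7 i) i) 555000 15000 = true := by decide +kernel
theorem c_act7_38 : allRange (fun i => Nat.beq (actR7 i) i) 570000 15000 = true := by decide +kernel
theorem c_act7_39 : allRange (fun i => Nat.beq (actR7 i) i) 585000 15000 = true := by decide +kernel
theorem c_act7_40 : allRange (fun i => Nat.beq (actR7 i) i) 600000 15000 = true := by decide +kernel
theorem c_act7_41 : allRange (fun i => Nat.beq (actR7 i) i) 615000 15000 = true := by decide +kernel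
theorem c_act7_42 : allRange (fun i => Nat.beq (actR7 i) i) 630000 15000 = true := by decide +kernel
theorem c_act7_43 : allRange (fun i => Nat.beq (actR7 i) i) 645000 15000 = true := by decide +kernel
theorem c_act7_44 : allRange (fun i => Nat.beq (actR7 i) i) 660000 15000 = true := by decide +kernel
theorem c_act7_45 : allRange (fun i => Nat.beq (actR7 i) i) 675000 15000 = true := by decide +kernel

end Cfsg.Agent.Lib.Helper4.TCD.HNm
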