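import Cfsg.Agent.Lib.Helper4.TCD_HNm_Acc

namespace Cfsg.Agent.Lib.Helper4.TCD.HNm

open Cfsg.Agent.Lib.Helper4.TC

set_option maxRecDepth 100000
set_option Elab.async false

theorem c_act7_46 : allRange (fun i => Nat.beq (actR7 i) i) 690000 15000 = true := by decide +kernel
theorem c_act7_47 : allRange (fun i => Nat.beq (actR7 i) i) 705000 15000 = true := by decide +kernel
theorem c_act7_48 : allRange (fun i => Nat.beq (actR7 i) i) 720000 15000 = true := by decide +kernel
theorem c_act7_49 : allRange (fun i => Nat.beq (actR7 i) i) 735000 15000 = true := by decide +kernel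
theorem c_act7_50 : allRange (fun i => Nat.beq (actR7 i) i) 750000 15000 = true := by decide +kernel
theorem c_act7_51 : allRange (fun i => Nat.beq (actR7 i) i) 765000 15000 = true := by decide +kernel
theorem c_act7_52 : allRange (fun i => Nat.beq (actR7 i) i) 780000 15000 = true := by decide +kernel
theorem c_act7_53 : allRange (fun i => Nat.beq (actR7 i) i) 795000 15000 = true := by decide +kernel
theorem c_act7_54 : allRange (fun i => Nat.beq (actR7 i) i) 810000 15000 = true := by decide +kernel
theorem c_act7_55 : allRange (fun i => Nat.beq (actR7 i) i) 825000 15000 = true := by decide +kernel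
theorem c_act7_56 : allRange (fun i => Nat.beq (actR7 i) i) 840000 15000 = true := by decide +kernel
theorem c_act7_57 : allRange (fun i => Nat.beq (actR7 i) i) 855000 15000 = true := by decide +kernel
theorem c_act7_58 : allRange (fun i => Nat.beq (actR7 i) i) 870000 15000 = true := by decide +kernel
theorem c_act7_59 : allRange (fun i => Nat.beq (actR7 i) i) 885000 15000 = true := by decide +kernel
theorem c_act7_60 : allRange (fun i => Nat.beq (actR7 i) i) 900000 15000 = true := by decide +kernel
theorem c_act7_61 : allRange (fun i => Nat.beq (actR7 i) i) 915000 15000 = true := by decide +kernel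
theorem c_act7_62 : allRange (fun i => Nat.beq (actR7 i) i) 930000 15000 = true := by decide +kernel
theorem c_act7_63 : allRange (fun i => Nat.beq (actR7 i) i) 945000 15000 = true := by decide +kernel
theorem c_act7_64 : allRange (fun i => Nat.beq (actR7 i) i) 960000 15000 = true := by decide +kernel
theorem c_act7_65 : allRange (fun i => Nat.beq (actR7 i) i) 975000 15000 = true := by decide +kernel
theorem c_act7_66 : allRange (fun i => Nat.beq (actR7 i) i) 990000 15000 = true := by decide +kernel
theorem c_act7_67 : allRange (fun i => Nat.beq (actR7 i) i) 1005000 15000 = true := by decide +kernel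
theorem c_act7_68 : allRange (fun i => Nat.beq (actR7 i) i) 1020000 15000 = true := by decide +kernel
theorem c_act7_69 : allRange (fun i => Nat.beq (actR7 i) i) 1035000 15000 = true := by decide +kernel
theorem c_act7_70 : allRange (fun i => Nat.beq (actR7 i) i) 1050000 15000 = true := by decide +kernel
theorem c_act7_71 : allRange (fun i => Nat.beq (actR7 i) i) 1065000 15000 = true := by decide +kernel
theorem c_act7_72 : allRange (fun i => Nat.beq (actR7 i) i) 1080000 15000 = true := by decide +kernel
theorem c_act7_73 : allRange (fun i => Nat.beq (actR7 i) i) 1095000 15000 = true := by decide +kernel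
theorem c_act7_74 : allRange (fun i => Nat.beq (actR7 i) i) 1110000 15000 = true := by decide +kernel
theorem c_act7_75 : allRange (fun i => Nat.beq (actR7 i) i) 1125000 15000 = true := by decide +kernel
theorem c_act7_76 : allRange (fun i => Nat.beq (actR7 i) i) 1140000 15000 = true := by decide +kernel
theorem c_act7_77 : allRange (fun i => Nat.beq (actR7 i) i) 1155000 15000 = true := by decide +kernel
theorem c_act7_78 : allRange (fun i => Nat.beq (actR7 i) i) 1170000 15000 = true := by decide +kernel
theorem c_act7_79 : allRange (fun i => Nat.beq (actR7 i) i) 1185000 15000 = true := by decide +kernel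
theorem c_act7_80 : allRange (fun i => Nat.beq (actR7 i) i) 1200000 15000 = true := by decide +kernel
theorem c_act7_81 : allRange (fun i => Nat.beq (actR7 i) i) 1215000 15000 = true := by decide +kernel
theorem c_act7_82 : allRange (fun i => Nat.beq (actR7 i) i) 1230000 15000 = true := by decide +kernel
theorem c_act7_83 : allRange (fun i => Nat.beq (actR7 i) i) 1245000 15000 = true := by decide +kernel
theorem c_act7_84 : allRange (fun i => Nat.beq (actR7 i) i) 1260000 15000 = true := by decide +kernel
theorem c_act7_85 : allRange (fun i => Nat.beq (actR7 i) i) 1275000 15000 = true := by decide +kernel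
theorem c_act7_86 : allRange (fun i => Nat.beq (actR7 i) i) 1290000 15000 = true := by decide +kernel
theorem c_act7_87 : allRange (fun i => Nat.beq (actR7 i) i) 1305000 15000 = true := by decide +kernel
theorem c_act7_88 : allRange (fun i => Nat.beq (actR7 i) i) 1320000 15000 = true := by decide +kernel
theorem c_act7_89 : allRange (fun i => Nat.beq (actR7 i) i) 1335000 15000 = true := by decide +kernel
theorem c_act7_90 : allRange (fun i => Nat.beq (actR7 i) i) 1350000 15000 = true := by decide +kernel
theorem c_act7_91 : allRange (fun i => Nat.beq (actR7 i) i) 1365000 15000 = true := by decide +kernel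
theorem c_act7_92 : allRange (fun i => Nat.beq (actR7 i) i) 1380000 15000 = true := by decide +kernel
theorem c_act7_93 : allRange (fun i => Nat.beq (actR7 i) i) 1395000 15000 = true := by decide +kernel
theorem c_act7_94 : allRange (fun i => Nat.beq (actR7 i) i) 1410000 15000 = true := by decide +kernel
theorem c_act7_95 : allRange (fun i => Nat.beq (actR7 i) i) 1425000 15000 = true := by decide +kernel

end Cfsg.Agent.Lib.Helper4.TCD.HNm
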