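import Cfsg.Agent.Lib.Helper4.TCD_HNm_Acc

namespace Cfsg.Agent.Lib.Helper4.TCD.HNm

open Cfsg.Agent.Lib.Helper4.TC

set_option maxRecDepth 100000
set_option Elab.async false

theorem c_act8_43 : allRange (fun i => Nat.beq (actR8 i) i) 129000 3000 = true := by decide +kernel
theorem c_act8_44 : allRange (fun i => Nat.beq (actR8 i) i) 132000 3000 = true := by decide +kernel
theorem c_act8_45 : allRange (fun i => Nat.beq (actR8 i) i) 135000 3000 = true := by decide +kernel
theorem c_act8_46 : allRange (fun i => Nat.beq (actR8 i) i) 138000 3000 = true := by decide +kernel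
theorem c_act8_47 : allRange (fun i => Nat.beq (actR8 i) i) 141000 3000 = true := by decide +kernel
theorem c_act8_48 : allRange (fun i => Nat.beq (actR8 i) i) 144000 3000 = true := by decide +kernel
theorem c_act8_49 : allRange (fun i => Nat.beq (actR8 i) i) 147000 3000 = true := by decide +kernel
theorem c_act8_50 : allRange (fun i => Nat.beq (actR8 i) i) 150000 3000 = true := by decide +kernel
theorem c_act8_51 : allRange (fun i => Nat.beq (actR8 i) i) 153000 3000 = true := by decide +kernel
theorem c_act8_52 : allRange (fun i => Nat.beq (actR8 i) i) 156000 3000 = true := by decide +kernel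
theorem c_act8_53 : allRange (fun i => Nat.beq (actR8 i) i) 159000 3000 = true := by decide +kernel
theorem c_act8_54 : allRange (fun i => Nat.beq (actR8 i) i) 162000 3000 = true := by decide +kernel
theorem c_act8_55 : allRange (fun i => Nat.beq (actR8 i) i) 165000 3000 = true := by decide +kernel
theorem c_act8_56 : allRange (fun i => Nat.beq (actR8 i) i) 168000 3000 = true := by decide +kernel
theorem c_act8_57 : allRange (fun i => Nat.beq (actR8 i) i) 171000 3000 = true := by decide +kernel
theorem c_act8_58 : allRange (fun i => Nat.beq (actR8 i) i) 174000 3000 = true := by decide +kernel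
theorem c_act8_59 : allRange (fun i => Nat.beq (actR8 i) i) 177000 3000 = true := by decide +kernel
theorem c_act8_60 : allRange (fun i => Nat.beq (actR8 i) i) 180000 3000 = true := by decide +kernel
theorem c_act8_61 : allRange (fun i => Nat.beq (actR8 i) i) 183000 3000 = true := by decide +kernel
theorem c_act8_62 : allRange (fun i => Nat.beq (actR8 i) i) 186000 3000 = true := by decide +kernel
theorem c_act8_63 : allRange (fun i => Nat.beq (actR8 i) i) 189000 3000 = true := by decide +kernel
theorem c_act8_64 : allRange (fun i => Nat.beq (actR8 i) i) 192000 3000 = true := by decide +kernel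
theorem c_act8_65 : allRange (fun i => Nat.beq (actR8 i) i) 195000 3000 = true := by decide +kernel
theorem c_act8_66 : allRange (fun i => Nat.beq (actR8 i) i) 198000 3000 = true := by decide +kernel
theorem c_act8_67 : allRange (fun i => Nat.beq (actR8 i) i) 201000 3000 = true := by decide +kernel
theorem c_act8_68 : allRange (fun i => Nat.beq (actR8 i) i) 204000 3000 = true := by decide +kernel
theorem c_act8_69 : allRange (fun i => Nat.beq (actR8 i) i) 207000 3000 = true := by decide +kernel
theorem c_act8_70 : allRange (fun i => Nat.beq (actR8 i) i) 210000 3000 = true := by decide +kernel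
theorem c_act8_71 : allRange (fun i => Nat.beq (actR8 i) i) 213000 3000 = true := by decide +kernel
theorem c_act8_72 : allRange (fun i => Nat.beq (actR8 i) i) 216000 3000 = true := by decide +kernel
theorem c_act8_73 : allRange (fun i => Nat.beq (actR8 i) i) 219000 3000 = true := by decide +kernel
theorem c_act8_74 : allRange (fun i => Nat.beq (actR8 i) i) 222000 3000 = true := by decide +kernel
theorem c_act8_75 : allRange (fun i => Nat.beq (actR8 i) i) 225000 3000 = true := by decide +kernel
theorem c_act8_76 : allRange (fun i => Nat.beq (actR8 i) i) 228000 3000 = true := by decide +kernel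
theorem c_act8_77 : allRange (fun i => Nat.beq (actR8 i) i) 231000 3000 = true := by decide +kernel
theorem c_act8_78 : allRange (fun i => Nat.beq (actR8 i) i) 234000 3000 = true := by decide +kernel
theorem c_act8_79 : allRange (fun i => Nat.beq (actR8 i) i) 237000 3000 = true := by decide +kernel
theorem c_act8_80 : allRange (fun i => Nat.beq (actR8 i) i) 240000 3000 = true := by decide +kernel
theorem c_act8_81 : allRange (fun i => Nat.beq (actR8 i) i) 243000 3000 = true := by decide +kernel
theorem c_act8_82 : allRange (fun i => Nat.beq (actR8 i) i) 246000 3000 = true := by decide +kernel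
theorem c_act8_83 : allRange (fun i => Nat.beq (actR8 i) i) 249000 3000 = true := by decide +kernel
theorem c_act8_84 : allRange (fun i => Nat.beq (actR8 i) i) 252000 3000 = true := by decide +kernel
theorem c_act8_85 : allRange (fun i => Nat.beq (actR8 i) i) 255000 3000 = true := by decide +kernel
theorem c_act8_86 : allRange (fun i => Nat.beq (actR8 i) i) 258000 3000 = true := by decide +kernel
theorem c_act8_87 : allRange (fun i => Nat.beq (actR8 i) i) 261000 3000 = true := by decide +kernel
theorem c_act8_88 : allRange (fun i => Nat.beq (actR8 i) i) 264000 3000 = true := by decide +kernel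
theorem c_act8_89 : allRange (fun i => Nat.beq (actR8 i) i) 267000 3000 = true := by decide +kernel
theorem c_act8_90 : allRange (fun i => Nat.beq (actR8 i) i) 270000 3000 = true := by decide +kernel
theorem c_act8_91 : allRange (fun i => Nat.beq (actR8 i) i) 273000 3000 = true := by decide +kernel
theorem c_act8_92 : allRange (fun i => Nat.beq (actR8 i) i) 276000 3000 = true := by decide +kernel

end Cfsg.Agent.Lib.Helper4.TCD.HNm
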