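import Cfsg.Agent.Lib.Helper4.TCD_HNm_Acc

namespace Cfsg.Agent.Lib.Helper4.TCD.HNm

open Cfsg.Agent.Lib.Helper4.TC

set_option maxRecDepth 100000
set_option Elab.async false

theorem c_act8_93 : allRange (fun i => Nat.beq (actR8 i) i) 279000 3000 = true := by decide +kernel
theorem c_act8_94 : allRange (fun i => Nat.beq (actR8 i) i) 282000 3000 = true := by decide +kernel
theorem c_act8_95 : allRange (fun i => Nat.beq (actR8 i) i) 285000 3000 = true := by decide +kernel
theorem c_act8_96 : allRange (fun i => Nat.beq (actR8 i) i) 288000 3000 = true := by decide +kernel
theorem c_act8_97 : allRange (fun i => Nat.beq (actR8 i) i) 291000 3000 = true := by decide +kernel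
theorem c_act8_98 : allRange (fun i => Nat.beq (actR8 i) i) 294000 3000 = true := by decide +kernel
theorem c_act8_99 : allRange (fun i => Nat.beq (actR8 i) i) 297000 3000 = true := by decide +kernel
theorem c_act8_100 : allRange (fun i => Nat.beq (actR8 i) i) 300000 3000 = true := by decide +kernel
theorem c_act8_101 : allRange (fun i => Nat.beq (actR8 i) i) 303000 3000 = true := by decide +kernel
theorem c_act8_102 : allRange (fun i => Nat.beq (actR8 i) i) 306000 3000 = true := by decide +kernel
theorem c_act8_103 : allRange (fun i => Nat.beq (actR8 i) i) 309000 3000 = true := by decide +kernel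
theorem c_act8_104 : allRange (fun i => Nat.beq (actR8 i) i) 312000 3000 = true := by decide +kernel
theorem c_act8_105 : allRange (fun i => Nat.beq (actR8 i) i) 315000 3000 = true := by decide +kernel
theorem c_act8_106 : allRange (fun i => Nat.beq (actR8 i) i) 318000 3000 = true := by decide +kernel
theorem c_act8_107 : allRange (fun i => Nat.beq (actR8 i) i) 321000 3000 = true := by decide +kernel
theorem c_act8_108 : allRange (fun i => Nat.beq (actR8 i) i) 324000 3000 = true := by decide +kernel
theorem c_act8_109 : allRange (fun i => Nat.beq (actR8 i) i) 327000 3000 = true := by decide +kernel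
theorem c_act8_110 : allRange (fun i => Nat.beq (actR8 i) i) 330000 3000 = true := by decide +kernel
theorem c_act8_111 : allRange (fun i => Nat.beq (actR8 i) i) 333000 3000 = true := by decide +kernel
theorem c_act8_112 : allRange (fun i => Nat.beq (actR8 i) i) 336000 3000 = true := by decide +kernel
theorem c_act8_113 : allRange (fun i => Nat.beq (actR8 i) i) 339000 3000 = true := by decide +kernel
theorem c_act8_114 : allRange (fun i => Nat.beq (actR8 i) i) 342000 3000 = true := by decide +kernel
theorem c_act8_115 : allRange (fun i => Nat.beq (actR8 i) i) 345000 3000 = true := by decide +kernel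
theorem c_act8_116 : allRange (fun i => Nat.beq (actR8 i) i) 348000 3000 = true := by decide +kernel
theorem c_act8_117 : allRange (fun i => Nat.beq (actR8 i) i) 351000 3000 = true := by decide +kernel
theorem c_act8_118 : allRange (fun i => Nat.beq (actR8 i) i) 354000 3000 = true := by decide +kernel
theorem c_act8_119 : allRange (fun i => Nat.beq (actR8 i) i) 357000 3000 = true := by decide +kernel
theorem c_act8_120 : allRange (fun i => Nat.beq (actR8 i) i) 360000 3000 = true := by decide +kernel
theorem c_act8_121 : allRange (fun i => Nat.beq (actR8 i) i) 363000 3000 = true := by decide +kernel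
theorem c_act8_122 : allRange (fun i => Nat.beq (actR8 i) i) 366000 3000 = true := by decide +kernel
theorem c_act8_123 : allRange (fun i => Nat.beq (actR8 i) i) 369000 3000 = true := by decide +kernel
theorem c_act8_124 : allRange (fun i => Nat.beq (actR8 i) i) 372000 3000 = true := by decide +kernel
theorem c_act8_125 : allRange (fun i => Nat.beq (actR8 i) i) 375000 3000 = true := by decide +kernel
theorem c_act8_126 : allRange (fun i => Nat.beq (actR8 i) i) 378000 3000 = true := by decide +kernel
theorem c_act8_127 : allRange (fun i => Nat.beq (actR8 i) i) 381000 3000 = true := by decide +kernel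
theorem c_act8_128 : allRange (fun i => Nat.beq (actR8 i) i) 384000 3000 = true := by decide +kernel
theorem c_act8_129 : allRange (fun i => Nat.beq (actR8 i) i) 387000 3000 = true := by decide +kernel
theorem c_act8_130 : allRange (fun i => Nat.beq (actR8 i) i) 390000 3000 = true := by decide +kernel
theorem c_act8_131 : allRange (fun i => Nat.beq (actR8 i) i) 393000 3000 = true := by decide +kernel
theorem c_act8_132 : allRange (fun i => Nat.beq (actR8 i) i) 396000 3000 = true := by decide +kernel
theorem c_act8_133 : allRange (fun i => Nat.beq (actR8 i) i) 399000 3000 = true := by decide +kernel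
theorem c_act8_134 : allRange (fun i => Nat.beq (actR8 i) i) 402000 3000 = true := by decide +kernel
theorem c_act8_135 : allRange (fun i => Nat.beq (actR8 i) i) 405000 3000 = true := by decide +kernel
theorem c_act8_136 : allRange (fun i => Nat.beq (actR8 i) i) 408000 3000 = true := by decide +kernel
theorem c_act8_137 : allRange (fun i => Nat.beq (actR8 i) i) 411000 3000 = true := by decide +kernel
theorem c_act8_138 : allRange (fun i => Nat.beq (actR8 i) i) 414000 3000 = true := by decide +kernel
theorem c_act8_139 : allRange (fun i => Nat.beq (actR8 i) i) 417000 3000 = true := by decide +kernel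
theorem c_act8_140 : allRange (fun i => Nat.beq (actR8 i) i) 420000 3000 = true := by decide +kernel
theorem c_act8_141 : allRange (fun i => Nat.beq (actR8 i) i) 423000 3000 = true := by decide +kernel
theorem c_act8_142 : allRange (fun i => Nat.beq (actR8 i) i) 426000 3000 = true := by decide +kernel

end Cfsg.Agent.Lib.Helper4.TCD.HNm
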