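import Cfsg.Agent.Lib.Helper4.TCD_HNm_Acc

namespace Cfsg.Agent.Lib.Helper4.TCD.HNm

open Cfsg.Agent.Lib.Helper4.TC

set_option maxRecDepth 100000
set_option Elab.async false

theorem c_act8_143 : allRange (fun i => Nat.beq (actR8 i) i) 429000 3000 = true := by decide +kernel
theorem c_act8_144 : allRange (fun i => Nat.beq (actR8 i) i) 432000 3000 = true := by decide +kernel
theorem c_act8_145 : allRange (fun i => Nat.beq (actR8 i) i) 435000 3000 = true := by decide +kernel
theorem c_act8_146 : allRange (fun i => Nat.beq (actR8 i) i) 438000 3000 = true := by decide +kernel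
theorem c_act8_147 : allRange (fun i => Nat.beq (actR8 i) i) 441000 3000 = true := by decide +kernel
theorem c_act8_148 : allRange (fun i => Nat.beq (actR8 i) i) 444000 3000 = true := by decide +kernel
theorem c_act8_149 : allRange (fun i => Nat.beq (actR8 i) i) 447000 3000 = true := by decide +kernel
theorem c_act8_150 : allRange (fun i => Nat.beq (actR8 i) i) 450000 3000 = true := by decide +kernel
theorem c_act8_151 : allRange (fun i => Nat.beq (actR8 i) i) 453000 3000 = true := by decide +kernel
theorem c_act8_152 : allRange (fun i => Nat.beq (actR8 i) i) 456000 3000 = true := by decide +kernel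
theorem c_act8_153 : allRange (fun i => Nat.beq (actR8 i) i) 459000 3000 = true := by decide +kernel
theorem c_act8_154 : allRange (fun i => Nat.beq (actR8 i) i) 462000 3000 = true := by decide +kernel
theorem c_act8_155 : allRange (fun i => Nat.beq (actR8 i) i) 465000 3000 = true := by decide +kernel
theorem c_act8_156 : allRange (fun i => Nat.beq (actR8 i) i) 468000 3000 = true := by decide +kernel
theorem c_act8_157 : allRange (fun i => Nat.beq (actR8 i) i) 471000 3000 = true := by decide +kernel
theorem c_act8_158 : allRange (fun i => Nat.beq (actR8 i) i) 474000 3000 = true := by decide +kernel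
theorem c_act8_159 : allRange (fun i => Nat.beq (actR8 i) i) 477000 3000 = true := by decide +kernel
theorem c_act8_160 : allRange (fun i => Nat.beq (actR8 i) i) 480000 3000 = true := by decide +kernel
theorem c_act8_161 : allRange (fun i => Nat.beq (actR8 i) i) 483000 3000 = true := by decide +kernel
theorem c_act8_162 : allRange (fun i => Nat.beq (actR8 i) i) 486000 3000 = true := by decide +kernel
theorem c_act8_163 : allRange (fun i => Nat.beq (actR8 i) i) 489000 3000 = true := by decide +kernel
theorem c_act8_164 : allRange (fun i => Nat.beq (actR8 i) i) 492000 3000 = true := by decide +kernel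
theorem c_act8_165 : allRange (fun i => Nat.beq (actR8 i) i) 495000 3000 = true := by decide +kernel
theorem c_act8_166 : allRange (fun i => Nat.beq (actR8 i) i) 498000 3000 = true := by decide +kernel
theorem c_act8_167 : allRange (fun i => Nat.beq (actR8 i) i) 501000 3000 = true := by decide +kernel
theorem c_act8_168 : allRange (fun i => Nat.beq (actR8 i) i) 504000 3000 = true := by decide +kernel
theorem c_act8_169 : allRange (fun i => Nat.beq (actR8 i) i) 507000 3000 = true := by decide +kernel
theorem c_act8_170 : allRange (fun i => Nat.beq (actR8 i) i) 510000 3000 = true := by decide +kernel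
theorem c_act8_171 : allRange (fun i => Nat.beq (actR8 i) i) 513000 3000 = true := by decide +kernel
theorem c_act8_172 : allRange (fun i => Nat.beq (actR8 i) i) 516000 3000 = true := by decide +kernel
theorem c_act8_173 : allRange (fun i => Nat.beq (actR8 i) i) 519000 3000 = true := by decide +kernel
theorem c_act8_174 : allRange (fun i => Nat.beq (actR8 i) i) 522000 3000 = true := by decide +kernel
theorem c_act8_175 : allRange (fun i => Nat.beq (actR8 i) i) 525000 3000 = true := by decide +kernel
theorem c_act8_176 : allRange (fun i => Nat.beq (actR8 i) i) 528000 3000 = true := by decide +kernel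
theorem c_act8_177 : allRange (fun i => Nat.beq (actR8 i) i) 531000 3000 = true := by decide +kernel
theorem c_act8_178 : allRange (fun i => Nat.beq (actR8 i) i) 534000 3000 = true := by decide +kernel
theorem c_act8_179 : allRange (fun i => Nat.beq (actR8 i) i) 537000 3000 = true := by decide +kernel
theorem c_act8_180 : allRange (fun i => Nat.beq (actR8 i) i) 540000 3000 = true := by decide +kernel
theorem c_act8_181 : allRange (fun i => Nat.beq (actR8 i) i) 543000 3000 = true := by decide +kernel
theorem c_act8_182 : allRange (fun i => Nat.beq (actR8 i) i) 546000 3000 = true := by decide +kernel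
theorem c_act8_183 : allRange (fun i => Nat.beq (actR8 i) i) 549000 3000 = true := by decide +kernel
theorem c_act8_184 : allRange (fun i => Nat.beq (actR8 i) i) 552000 3000 = true := by decide +kernel
theorem c_act8_185 : allRange (fun i => Nat.beq (actR8 i) i) 555000 3000 = true := by decide +kernel
theorem c_act8_186 : allRange (fun i => Nat.beq (actR8 i) i) 558000 3000 = true := by decide +kernel
theorem c_act8_187 : allRange (fun i => Nat.beq (actR8 i) i) 561000 3000 = true := by decide +kernel
theorem c_act8_188 : allRange (fun i => Nat.beq (actR8 i) i) 564000 3000 = true := by decide +kernel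
theorem c_act8_189 : allRange (fun i => Nat.beq (actR8 i) i) 567000 3000 = true := by decide +kernel
theorem c_act8_190 : allRange (fun i => Nat.beq (actR8 i) i) 570000 3000 = true := by decide +kernel
theorem c_act8_191 : allRange (fun i => Nat.beq (actR8 i) i) 573000 3000 = true := by decide +kernel
theorem c_act8_192 : allRange (fun i => Nat.beq (actR8 i) i) 576000 3000 = true := by decide +kernel

end Cfsg.Agent.Lib.Helper4.TCD.HNm
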