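import Cfsg.Agent.Lib.Helper4.TCD_HNm_Acc

namespace Cfsg.Agent.Lib.Helper4.TCD.HNm

open Cfsg.Agent.Lib.Helper4.TC

set_option maxRecDepth 100000
set_option Elab.async false

theorem c_act8_193 : allRange (fun i => Nat.beq (actR8 i) i) 579000 3000 = true := by decide +kernel
theorem c_act8_194 : allRange (fun i => Nat.beq (actR8 i) i) 582000 3000 = true := by decide +kernel
theorem c_act8_195 : allRange (fun i => Nat.beq (actR8 i) i) 585000 3000 = true := by decide +kernel
theorem c_act8_196 : allRange (fun i => Nat.beq (actR8 i) i) 588000 3000 = true := by decide +kernel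
theorem c_act8_197 : allRange (fun i => Nat.beq (actR8 i) i) 591000 3000 = true := by decide +kernel
theorem c_act8_198 : allRange (fun i => Nat.beq (actR8 i) i) 594000 3000 = true := by decide +kernel
theorem c_act8_199 : allRange (fun i => Nat.beq (actR8 i) i) 597000 3000 = true := by decide +kernel
theorem c_act8_200 : allRange (fun i => Nat.beq (actR8 i) i) 600000 3000 = true := by decide +kernel
theorem c_act8_201 : allRange (fun i => Nat.beq (actR8 i) i) 603000 3000 = true := by decide +kernel
theorem c_act8_202 : allRange (fun i => Nat.beq (actR8 i) i) 606000 3000 = true := by decide +kernel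
theorem c_act8_203 : allRange (fun i => Nat.beq (actR8 i) i) 609000 3000 = true := by decide +kernel
theorem c_act8_204 : allRange (fun i => Nat.beq (actR8 i) i) 612000 3000 = true := by decide +kernel
theorem c_act8_205 : allRange (fun i => Nat.beq (actR8 i) i) 615000 3000 = true := by decide +kernel
theorem c_act8_206 : allRange (fun i => Nat.beq (actR8 i) i) 618000 3000 = true := by decide +kernel
theorem c_act8_207 : allRange (fun i => Nat.beq (actR8 i) i) 621000 3000 = true := by decide +kernel
theorem c_act8_208 : allRange (fun i => Nat.beq (actR8 i) i) 624000 3000 = true := by decide +kernel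
theorem c_act8_209 : allRange (fun i => Nat.beq (actR8 i) i) 627000 3000 = true := by decide +kernel
theorem c_act8_210 : allRange (fun i => Nat.beq (actR8 i) i) 630000 3000 = true := by decide +kernel
theorem c_act8_211 : allRange (fun i => Nat.beq (actR8 i) i) 633000 3000 = true := by decide +kernel
theorem c_act8_212 : allRange (fun i => Nat.beq (actR8 i) i) 636000 3000 = true := by decide +kernel
theorem c_act8_213 : allRange (fun i => Nat.beq (actR8 i) i) 639000 3000 = true := by decide +kernel
theorem c_act8_214 : allRange (fun i => Nat.beq (actR8 i) i) 642000 3000 = true := by decide +kernel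
theorem c_act8_215 : allRange (fun i => Nat.beq (actR8 i) i) 645000 3000 = true := by decide +kernel
theorem c_act8_216 : allRange (fun i => Nat.beq (actR8 i) i) 648000 3000 = true := by decide +kernel
theorem c_act8_217 : allRange (fun i => Nat.beq (actR8 i) i) 651000 3000 = true := by decide +kernel
theorem c_act8_218 : allRange (fun i => Nat.beq (actR8 i) i) 654000 3000 = true := by decide +kernel
theorem c_act8_219 : allRange (fun i => Nat.beq (actR8 i) i) 657000 3000 = true := by decide +kernel
theorem c_act8_220 : allRange (fun i => Nat.beq (actR8 i) i) 660000 3000 = true := by decide +kernel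
theorem c_act8_221 : allRange (fun i => Nat.beq (actR8 i) i) 663000 3000 = true := by decide +kernel
theorem c_act8_222 : allRange (fun i => Nat.beq (actR8 i) i) 666000 3000 = true := by decide +kernel
theorem c_act8_223 : allRange (fun i => Nat.beq (actR8 i) i) 669000 3000 = true := by decide +kernel
theorem c_act8_224 : allRange (fun i => Nat.beq (actR8 i) i) 672000 3000 = true := by decide +kernel
theorem c_act8_225 : allRange (fun i => Nat.beq (actR8 i) i) 675000 3000 = true := by decide +kernel
theorem c_act8_226 : allRange (fun i => Nat.beq (actR8 i) i) 678000 3000 = true := by decide +kernel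
theorem c_act8_227 : allRange (fun i => Nat.beq (actR8 i) i) 681000 3000 = true := by decide +kernel
theorem c_act8_228 : allRange (fun i => Nat.beq (actR8 i) i) 684000 3000 = true := by decide +kernel
theorem c_act8_229 : allRange (fun i => Nat.beq (actR8 i) i) 687000 3000 = true := by decide +kernel
theorem c_act8_230 : allRange (fun i => Nat.beq (actR8 i) i) 690000 3000 = true := by decide +kernel
theorem c_act8_231 : allRange (fun i => Nat.beq (actR8 i) i) 693000 3000 = true := by decide +kernel
theorem c_act8_232 : allRange (fun i => Nat.beq (actR8 i) i) 696000 3000 = true := by decide +kernel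
theorem c_act8_233 : allRange (fun i => Nat.beq (actR8 i) i) 699000 3000 = true := by decide +kernel
theorem c_act8_234 : allRange (fun i => Nat.beq (actR8 i) i) 702000 3000 = true := by decide +kernel
theorem c_act8_235 : allRange (fun i => Nat.beq (actR8 i) i) 705000 3000 = true := by decide +kernel
theorem c_act8_236 : allRange (fun i => Nat.beq (actR8 i) i) 708000 3000 = true := by decide +kernel
theorem c_act8_237 : allRange (fun i => Nat.beq (actR8 i) i) 711000 3000 = true := by decide +kernel
theorem c_act8_238 : allRange (fun i => Nat.beq (actR8 i) i) 714000 3000 = true := by decide +kernel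
theorem c_act8_239 : allRange (fun i => Nat.beq (actR8 i) i) 717000 3000 = true := by decide +kernel
theorem c_act8_240 : allRange (fun i => Nat.beq (actR8 i) i) 720000 3000 = true := by decide +kernel
theorem c_act8_241 : allRange (fun i => Nat.beq (actR8 i) i) 723000 3000 = true := by decide +kernel
theorem c_act8_242 : allRange (fun i => Nat.beq (actR8 i) i) 726000 3000 = true := by decide +kernel

end Cfsg.Agent.Lib.Helper4.TCD.HNm
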