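import Cfsg.Agent.Lib.Helper4.TCD_HNm_Acc

namespace Cfsg.Agent.Lib.Helper4.TCD.HNm

open Cfsg.Agent.Lib.Helper4.TC

set_option maxRecDepth 100000
set_option Elab.async false

theorem c_act8_243 : allRange (fun i => Nat.beq (actR8 i) i) 729000 3000 = true := by decide +kernel
theorem c_act8_244 : allRange (fun i => Nat.beq (actR8 i) i) 732000 3000 = true := by decide +kernel
theorem c_act8_245 : allRange (fun i => Nat.beq (actR8 i) i) 735000 3000 = true := by decide +kernel
theorem c_act8_246 : allRange (fun i => Nat.beq (actR8 i) i) 738000 3000 = true := by decide +kernel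
theorem c_act8_247 : allRange (fun i => Nat.beq (actR8 i) i) 741000 3000 = true := by decide +kernel
theorem c_act8_248 : allRange (fun i => Nat.beq (actR8 i) i) 744000 3000 = true := by decide +kernel
theorem c_act8_249 : allRange (fun i => Nat.beq (actR8 i) i) 747000 3000 = true := by decide +kernel
theorem c_act8_250 : allRange (fun i => Nat.beq (actR8 i) i) 750000 3000 = true := by decide +kernel
theorem c_act8_251 : allRange (fun i => Nat.beq (actR8 i) i) 753000 3000 = true := by decide +kernel
theorem c_act8_252 : allRange (fun i => Nat.beq (actR8 i) i) 756000 3000 = true := by decide +kernel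
theorem c_act8_253 : allRange (fun i => Nat.beq (actR8 i) i) 759000 3000 = true := by decide +kernel
theorem c_act8_254 : allRange (fun i => Nat.beq (actR8 i) i) 762000 3000 = true := by decide +kernel
theorem c_act8_255 : allRange (fun i => Nat.beq (actR8 i) i) 765000 3000 = true := by decide +kernel
theorem c_act8_256 : allRange (fun i => Nat.beq (actR8 i) i) 768000 3000 = true := by decide +kernel
theorem c_act8_257 : allRange (fun i => Nat.beq (actR8 i) i) 771000 3000 = true := by decide +kernel
theorem c_act8_258 : allRange (fun i => Nat.beq (actR8 i) i) 774000 3000 = true := by decide +kernel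
theorem c_act8_259 : allRange (fun i => Nat.beq (actR8 i) i) 777000 3000 = true := by decide +kernel
theorem c_act8_260 : allRange (fun i => Nat.beq (actR8 i) i) 780000 3000 = true := by decide +kernel
theorem c_act8_261 : allRange (fun i => Nat.beq (actR8 i) i) 783000 3000 = true := by decide +kernel
theorem c_act8_262 : allRange (fun i => Nat.beq (actR8 i) i) 786000 3000 = true := by decide +kernel
theorem c_act8_263 : allRange (fun i => Nat.beq (actR8 i) i) 789000 3000 = true := by decide +kernel
theorem c_act8_264 : allRange (fun i => Nat.beq (actR8 i) i) 792000 3000 = true := by decide +kernel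
theorem c_act8_265 : allRange (fun i => Nat.beq (actR8 i) i) 795000 3000 = true := by decide +kernel
theorem c_act8_266 : allRange (fun i => Nat.beq (actR8 i) i) 798000 3000 = true := by decide +kernel
theorem c_act8_267 : allRange (fun i => Nat.beq (actR8 i) i) 801000 3000 = true := by decide +kernel
theorem c_act8_268 : allRange (fun i => Nat.beq (actR8 i) i) 804000 3000 = true := by decide +kernel
theorem c_act8_269 : allRange (fun i => Nat.beq (actR8 i) i) 807000 3000 = true := by decide +kernel
theorem c_act8_270 : allRange (fun i => Nat.beq (actR8 i) i) 810000 3000 = true := by decide +kernel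
theorem c_act8_271 : allRange (fun i => Nat.beq (actR8 i) i) 813000 3000 = true := by decide +kernel
theorem c_act8_272 : allRange (fun i => Nat.beq (actR8 i) i) 816000 3000 = true := by decide +kernel
theorem c_act8_273 : allRange (fun i => Nat.beq (actR8 i) i) 819000 3000 = true := by decide +kernel
theorem c_act8_274 : allRange (fun i => Nat.beq (actR8 i) i) 822000 3000 = true := by decide +kernel
theorem c_act8_275 : allRange (fun i => Nat.beq (actR8 i) i) 825000 3000 = true := by decide +kernel
theorem c_act8_276 : allRange (fun i => Nat.beq (actR8 i) i) 828000 3000 = true := by decide +kernel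
theorem c_act8_277 : allRange (fun i => Nat.beq (actR8 i) i) 831000 3000 = true := by decide +kernel
theorem c_act8_278 : allRange (fun i => Nat.beq (actR8 i) i) 834000 3000 = true := by decide +kernel
theorem c_act8_279 : allRange (fun i => Nat.beq (actR8 i) i) 837000 3000 = true := by decide +kernel
theorem c_act8_280 : allRange (fun i => Nat.beq (actR8 i) i) 840000 3000 = true := by decide +kernel
theorem c_act8_281 : allRange (fun i => Nat.beq (actR8 i) i) 843000 3000 = true := by decide +kernel
theorem c_act8_282 : allRange (fun i => Nat.beq (actR8 i) i) 846000 3000 = true := by decide +kernel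
theorem c_act8_283 : allRange (fun i => Nat.beq (actR8 i) i) 849000 3000 = true := by decide +kernel
theorem c_act8_284 : allRange (fun i => Nat.beq (actR8 i) i) 852000 3000 = true := by decide +kernel
theorem c_act8_285 : allRange (fun i => Nat.beq (actR8 i) i) 855000 3000 = true := by decide +kernel
theorem c_act8_286 : allRange (fun i => Nat.beq (actR8 i) i) 858000 3000 = true := by decide +kernel
theorem c_act8_287 : allRange (fun i => Nat.beq (actR8 i) i) 861000 3000 = true := by decide +kernel
theorem c_act8_288 : allRange (fun i => Nat.beq (actR8 i) i) 864000 3000 = true := by decide +kernel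
theorem c_act8_289 : allRange (fun i => Nat.beq (actR8 i) i) 867000 3000 = true := by decide +kernel
theorem c_act8_290 : allRange (fun i => Nat.beq (actR8 i) i) 870000 3000 = true := by decide +kernel
theorem c_act8_291 : allRange (fun i => Nat.beq (actR8 i) i) 873000 3000 = true := by decide +kernel
theorem c_act8_292 : allRange (fun i => Nat.beq (actR8 i) i) 876000 3000 = true := by decide +kernel

end Cfsg.Agent.Lib.Helper4.TCD.HNm
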