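import Cfsg.Agent.Lib.Helper4.TCD_HNm_Acc

namespace Cfsg.Agent.Lib.Helper4.TCD.HNm

open Cfsg.Agent.Lib.Helper4.TC

set_option maxRecDepth 100000
set_option Elab.async false

theorem c_rel_716 : allRange D.relOK 3465661 2314 = true := by decide +kernel
theorem c_rel_717 : allRange D.relOK 3467975 2329 = true := by decide +kernel
theorem c_rel_718 : allRange D.relOK 3470304 2314 = true := by decide +kernel
theorem c_rel_719 : allRange D.relOK 3472618 2319 = true := by decide +kernel
theorem c_rel_720 : allRange D.relOK 3474937 2191 = true := by decide +kernel
theorem c_rel_721 : allRange D.relOK 3477128 2176 = true := by decide +kernel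
theorem c_rel_722 : allRange D.relOK 3479304 2439 = true := by decide +kernel
theorem c_rel_723 : allRange D.relOK 3481743 2473 = true := by decide +kernel
theorem c_rel_724 : allRange D.relOK 3484216 2269 = true := by decide +kernel
theorem c_rel_725 : allRange D.relOK 3486485 2005 = true := by decide +kernel
theorem c_rel_726 : allRange D.relOK 3488490 2342 = true := by decide +kernel
theorem c_rel_727 : allRange D.relOK 3490832 2374 = true := by decide +kernel
theorem c_rel_728 : allRange D.relOK 3493206 2424 = true := by decide +kernel
theorem c_rel_729 : allRange D.relOK 3495630 2261 = true := by decide +kernel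
theorem c_rel_730 : allRange D.relOK 3497891 2274 = true := by decide +kernel
theorem c_rel_731 : allRange D.relOK 3500165 2367 = true := by decide +kernel
theorem c_rel_732 : allRange D.relOK 3502532 2373 = true := by decide +kernel
theorem c_rel_733 : allRange D.relOK 3504905 2351 = true := by decide +kernel
theorem c_rel_734 : allRange D.relOK 3507256 2369 = true := by decide +kernel
theorem c_rel_735 : allRange D.relOK 3509625 2233 = true := by decide +kernel
theorem c_rel_736 : allRange D.relOK 3511858 2325 = true := by decide +kernel
theorem c_rel_737 : allRange D.relOK 3514183 2473 = true := by decide +kernel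
theorem c_rel_738 : allRange D.relOK 3516656 2277 = true := by decide +kernel
theorem c_rel_739 : allRange D.relOK 3518933 2130 = true := by decide +kernel
theorem c_rel_740 : allRange D.relOK 3521063 2296 = true := by decide +kernel
theorem c_rel_741 : allRange D.relOK 3523359 2145 = true := by decide +kernel
theorem c_rel_742 : allRange D.relOK 3525504 2402 = true := by decide +kernel
theorem c_rel_743 : allRange D.relOK 3527906 2413 = true := by decide +kernel
theorem c_rel_744 : allRange D.relOK 3530319 2635 = true := by decide +kernel
theorem c_rel_745 : allRange D.relOK 3532954 2316 = true := by decide +kernel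
theorem c_rel_746 : allRange D.relOK 3535270 2142 = true := by decide +kernel
theorem c_rel_747 : allRange D.relOK 3537412 2344 = true := by decide +kernel
theorem c_rel_748 : allRange D.relOK 3539756 2205 = true := by decide +kernel
theorem c_rel_749 : allRange D.relOK 3541961 2351 = true := by decide +kernel
theorem c_rel_750 : allRange D.relOK 3544312 2221 = true := by decide +kernel
theorem c_rel_751 : allRange D.relOK 3546533 2429 = true := by decide +kernel
theorem c_rel_752 : allRange D.relOK 3548962 2288 = true := by decide +kernel
theorem c_rel_753 : allRange D.relOK 3551250 2345 = true := by decide +kernel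
theorem c_rel_754 : allRange D.relOK 3553595 2212 = true := by decide +kernel
theorem c_rel_755 : allRange D.relOK 3555807 2382 = true := by decide +kernel
theorem c_rel_756 : allRange D.relOK 3558189 2412 = true := by decide +kernel
theorem c_rel_757 : allRange D.relOK 3560601 2343 = true := by decide +kernel
theorem c_rel_758 : allRange D.relOK 3562944 2289 = true := by decide +kernel
theorem c_rel_759 : allRange D.relOK 3565233 2376 = true := by decide +kernel
theorem c_rel_760 : allRange D.relOK 3567609 2291 = true := by decide +kernel
theorem c_rel_761 : allRange D.relOK 3569900 2296 = true := by decide +kernel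
theorem c_rel_762 : allRange D.relOK 3572196 2317 = true := by decide +kernel
theorem c_rel_763 : allRange D.relOK 3574513 2408 = true := by decide +kernel
theorem c_rel_764 : allRange D.relOK 3576921 2250 = true := by decide +kernel
theorem c_rel_765 : allRange D.relOK 3579171 2519 = true := by decide +kernel
theorem c_rel_766 : allRange D.relOK 3581690 2428 = true := by decide +kernel
theorem c_rel_767 : allRange D.relOK 3584118 2403 = true := by decide +kernel
theorem c_rel_768 : allRange D.relOK 3586521 2349 = true := by decide +kernel
theorem c_rel_769 : allRange D.relOK 3588870 2073 = true := by decide +kernel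
theorem c_rel_770 : allRange D.relOK 3590943 2301 = true := by decide +kernel
theorem c_rel_771 : allRange D.relOK 3593244 2281 = true := by decide +kernel
theorem c_rel_772 : allRange D.relOK 3595525 2370 = true := by decide +kernel
theorem c_rel_773 : allRange D.relOK 3597895 2346 = true := by decide +kernel
theorem c_rel_774 : allRange D.relOK 3600241 2184 = true := by decide +kernel
theorem c_rel_775 : allRange D.relOK 3602425 2068 = true := by decide +kernel
theorem c_rel_776 : allRange D.relOK 3604493 2171 = true := by decide +kernel
theorem c_rel_777 : allRange D.relOK 3606664 2001 = true := by decide +kernel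
theorem c_rel_778 : allRange D.relOK 3608665 2191 = true := by decide +kernel
theorem c_rel_779 : allRange D.relOK 3610856 2213 = true := by decide +kernel
theorem c_rel_780 : allRange D.relOK 3613069 2099 = true := by decide +kernel
theorem c_rel_781 : allRange D.relOK 3615168 2329 = true := by decide +kernel
theorem c_rel_782 : allRange D.relOK 3617497 2420 = true := by decide +kernel
theorem c_rel_783 : allRange D.relOK 3619917 2466 = true := by decide +kernel
theorem c_rel_784 : allRange D.relOK 3622383 2205 = true := by decide +kernel
theorem c_rel_785 : allRange D.relOK 3624588 2336 = true := by decide +kernel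
theorem c_rel_786 : allRange D.relOK 3626924 2361 = true := by decide +kernel
theorem c_rel_787 : allRange D.relOK 3629285 2235 = true := by decide +kernel
theorem c_rel_788 : allRange D.relOK 3631520 2420 = true := by decide +kernel
theorem c_rel_789 : allRange D.relOK 3633940 2279 = true := by decide +kernel
theorem c_rel_790 : allRange D.relOK 3636219 2364 = true := by decide +kernel
theorem c_rel_791 : allRange D.relOK 3638583 2095 = true := by decide +kernel
theorem c_rel_792 : allRange D.relOK 3640678 2392 = true := by decide +kernel
theorem c_rel_793 : allRange D.relOK 3643070 2355 = true := by decide +kernel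
theorem c_rel_794 : allRange D.relOK 3645425 2081 = true := by decide +kernel
theorem c_rel_795 : allRange D.relOK 3647506 2254 = true := by decide +kernel
theorem c_rel_796 : allRange D.relOK 3649760 1900 = true := by decide +kernel
theorem c_rel_797 : allRange D.relOK 3651660 2133 = true := by decide +kernel
theorem c_rel_798 : allRange D.relOK 3653793 2202 = true := by decide +kernel
theorem c_rel_799 : allRange D.relOK 3655995 2254 = true := by decide +kernel
theorem c_rel_800 : allRange D.relOK 3658249 2117 = true := by decide +kernel
theorem c_rel_801 : allRange D.relOK 3660366 2154 = true := by decide +kernel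
theorem c_rel_802 : allRange D.relOK 3662520 2084 = true := by decide +kernel
theorem c_rel_803 : allRange D.relOK 3664604 2252 = true := by decide +kernel
theorem c_rel_804 : allRange D.relOK 3666856 2144 = true := by decide +kernel
theorem c_rel_805 : allRange D.relOK 3669000 2173 = true := by decide +kernel
theorem c_rel_806 : allRange D.relOK 3671173 2179 = true := by decide +kernel
theorem c_rel_807 : allRange D.relOK 3673352 2223 = true := by decide +kernel
theorem c_rel_808 : allRange D.relOK 3675575 2171 = true := by decide +kernel
theorem c_rel_809 : allRange D.relOK 3677746 2303 = true := by decide +kernel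
theorem c_rel_810 : allRange D.relOK 3680049 2245 = true := by decide +kernel
theorem c_rel_811 : allRange D.relOK 3682294 2198 = true := by decide +kernel
theorem c_rel_812 : allRange D.relOK 3684492 2318 = true := by decide +kernel
theorem c_rel_813 : allRange D.relOK 3686810 2268 = true := by decide +kernel
theorem c_rel_814 : allRange D.relOK 3689078 2337 = true := by decide +kernel

end Cfsg.Agent.Lib.Helper4.TCD.HNm
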