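import Cfsg.Agent.Lib.Helper4.TCD_HNm_Acc

namespace Cfsg.Agent.Lib.Helper4.TCD.HNm

open Cfsg.Agent.Lib.Helper4.TC

set_option maxRecDepth 100000
set_option Elab.async false

theorem c_act8_293 : allRange (fun i => Nat.beq (actR8 i) i) 879000 3000 = true := by decide +kernel
theorem c_act8_294 : allRange (fun i => Nat.beq (actR8 i) i) 882000 3000 = true := by decide +kernel
theorem c_act8_295 : allRange (fun i => Nat.beq (actR8 i) i) 885000 3000 = true := by decide +kernel
theorem c_act8_296 : allRange (fun i => Nat.beq (actR8 i) i) 888000 3000 = true := by decide +kernel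
theorem c_act8_297 : allRange (fun i => Nat.beq (actR8 i) i) 891000 3000 = true := by decide +kernel
theorem c_act8_298 : allRange (fun i => Nat.beq (actR8 i) i) 894000 3000 = true := by decide +kernel
theorem c_act8_299 : allRange (fun i => Nat.beq (actR8 i) i) 897000 3000 = true := by decide +kernel
theorem c_act8_300 : allRange (fun i => Nat.beq (actR8 i) i) 900000 3000 = true := by decide +kernel
theorem c_act8_301 : allRange (fun i => Nat.beq (actR8 i) i) 903000 3000 = true := by decide +kernel
theorem c_act8_302 : allRange (fun i => Nat.beq (actR8 i) i) 906000 3000 = true := by decide +kernel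
theorem c_act8_303 : allRange (fun i => Nat.beq (actR8 i) i) 909000 3000 = true := by decide +kernel
theorem c_act8_304 : allRange (fun i => Nat.beq (actR8 i) i) 912000 3000 = true := by decide +kernel
theorem c_act8_305 : allRange (fun i => Nat.beq (actR8 i) i) 915000 3000 = true := by decide +kernel
theorem c_act8_306 : allRange (fun i => Nat.beq (actR8 i) i) 918000 3000 = true := by decide +kernel
theorem c_act8_307 : allRange (fun i => Nat.beq (actR8 i) i) 921000 3000 = true := by decide +kernel
theorem c_act8_308 : allRange (fun i => Nat.beq (actR8 i) i) 924000 3000 = true := by decide +kernel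
theorem c_act8_309 : allRange (fun i => Nat.beq (actR8 i) i) 927000 3000 = true := by decide +kernel
theorem c_act8_310 : allRange (fun i => Nat.beq (actR8 i) i) 930000 3000 = true := by decide +kernel
theorem c_act8_311 : allRange (fun i => Nat.beq (actR8 i) i) 933000 3000 = true := by decide +kernel
theorem c_act8_312 : allRange (fun i => Nat.beq (actR8 i) i) 936000 3000 = true := by decide +kernel
theorem c_act8_313 : allRange (fun i => Nat.beq (actR8 i) i) 939000 3000 = true := by decide +kernel
theorem c_act8_314 : allRange (fun i => Nat.beq (actR8 i) i) 942000 3000 = true := by decide +kernel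
theorem c_act8_315 : allRange (fun i => Nat.beq (actR8 i) i) 945000 3000 = true := by decide +kernel
theorem c_act8_316 : allRange (fun i => Nat.beq (actR8 i) i) 948000 3000 = true := by decide +kernel
theorem c_act8_317 : allRange (fun i => Nat.beq (actR8 i) i) 951000 3000 = true := by decide +kernel
theorem c_act8_318 : allRange (fun i => Nat.beq (actR8 i) i) 954000 3000 = true := by decide +kernel
theorem c_act8_319 : allRange (fun i => Nat.beq (actR8 i) i) 957000 3000 = true := by decide +kernel
theorem c_act8_320 : allRange (fun i => Nat.beq (actR8 i) i) 960000 3000 = true := by decide +kernel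
theorem c_act8_321 : allRange (fun i => Nat.beq (actR8 i) i) 963000 3000 = true := by decide +kernel
theorem c_act8_322 : allRange (fun i => Nat.beq (actR8 i) i) 966000 3000 = true := by decide +kernel
theorem c_act8_323 : allRange (fun i => Nat.beq (actR8 i) i) 969000 3000 = true := by decide +kernel
theorem c_act8_324 : allRange (fun i => Nat.beq (actR8 i) i) 972000 3000 = true := by decide +kernel
theorem c_act8_325 : allRange (fun i => Nat.beq (actR8 i) i) 975000 3000 = true := by decide +kernel
theorem c_act8_326 : allRange (fun i => Nat.beq (actR8 i) i) 978000 3000 = true := by decide +kernel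
theorem c_act8_327 : allRange (fun i => Nat.beq (actR8 i) i) 981000 3000 = true := by decide +kernel
theorem c_act8_328 : allRange (fun i => Nat.beq (actR8 i) i) 984000 3000 = true := by decide +kernel
theorem c_act8_329 : allRange (fun i => Nat.beq (actR8 i) i) 987000 3000 = true := by decide +kernel
theorem c_act8_330 : allRange (fun i => Nat.beq (actR8 i) i) 990000 3000 = true := by decide +kernel
theorem c_act8_331 : allRange (fun i => Nat.beq (actR8 i) i) 993000 3000 = true := by decide +kernel
theorem c_act8_332 : allRange (fun i => Nat.beq (actR8 i) i) 996000 3000 = true := by decide +kernel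
theorem c_act8_333 : allRange (fun i => Nat.beq (actR8 i) i) 999000 3000 = true := by decide +kernel
theorem c_act8_334 : allRange (fun i => Nat.beq (actR8 i) i) 1002000 3000 = true := by decide +kernel
theorem c_act8_335 : allRange (fun i => Nat.beq (actR8 i) i) 1005000 3000 = true := by decide +kernel
theorem c_act8_336 : allRange (fun i => Nat.beq (actR8 i) i) 1008000 3000 = true := by decide +kernel
theorem c_act8_337 : allRange (fun i => Nat.beq (actR8 i) i) 1011000 3000 = true := by decide +kernel
theorem c_act8_338 : allRange (fun i => Nat.beq (actR8 i) i) 1014000 3000 = true := by decide +kernel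
theorem c_act8_339 : allRange (fun i => Nat.beq (actR8 i) i) 1017000 3000 = true := by decide +kernel
theorem c_act8_340 : allRange (fun i => Nat.beq (actR8 i) i) 1020000 3000 = true := by decide +kernel
theorem c_act8_341 : allRange (fun i => Nat.beq (actR8 i) i) 1023000 3000 = true := by decide +kernel
theorem c_act8_342 : allRange (fun i => Nat.beq (actR8 i) i) 1026000 3000 = true := by decide +kernel

end Cfsg.Agent.Lib.Helper4.TCD.HNm
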