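import Cfsg.Agent.Lib.Helper4.TCD_HNm_Acc

namespace Cfsg.Agent.Lib.Helper4.TCD.HNm

open Cfsg.Agent.Lib.Helper4.TC

set_option maxRecDepth 100000
set_option Elab.async false

theorem c_act8_343 : allRange (fun i => Nat.beq (actR8 i) i) 1029000 3000 = true := by decide +kernel
theorem c_act8_344 : allRange (fun i => Nat.beq (actR8 i) i) 1032000 3000 = true := by decide +kernel
theorem c_act8_345 : allRange (fun i => Nat.beq (actR8 i) i) 1035000 3000 = true := by decide +kernel
theorem c_act8_346 : allRange (fun i => Nat.beq (actR8 i) i) 1038000 3000 = true := by decide +kernel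
theorem c_act8_347 : allRange (fun i => Nat.beq (actR8 i) i) 1041000 3000 = true := by decide +kernel
theorem c_act8_348 : allRange (fun i => Nat.beq (actR8 i) i) 1044000 3000 = true := by decide +kernel
theorem c_act8_349 : allRange (fun i => Nat.beq (actR8 i) i) 1047000 3000 = true := by decide +kernel
theorem c_act8_350 : allRange (fun i => Nat.beq (actR8 i) i) 1050000 3000 = true := by decide +kernel
theorem c_act8_351 : allRange (fun i => Nat.beq (actR8 i) i) 1053000 3000 = true := by decide +kernel
theorem c_act8_352 : allRange (fun i => Nat.beq (actR8 i) i) 1056000 3000 = true := by decide +kernel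
theorem c_act8_353 : allRange (fun i => Nat.beq (actR8 i) i) 1059000 3000 = true := by decide +kernel
theorem c_act8_354 : allRange (fun i => Nat.beq (actR8 i) i) 1062000 3000 = true := by decide +kernel
theorem c_act8_355 : allRange (fun i => Nat.beq (actR8 i) i) 1065000 3000 = true := by decide +kernel
theorem c_act8_356 : allRange (fun i => Nat.beq (actR8 i) i) 1068000 3000 = true := by decide +kernel
theorem c_act8_357 : allRange (fun i => Nat.beq (actR8 i) i) 1071000 3000 = true := by decide +kernel
theorem c_act8_358 : allRange (fun i => Nat.beq (actR8 i) i) 1074000 3000 = true := by decide +kernel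
theorem c_act8_359 : allRange (fun i => Nat.beq (actR8 i) i) 1077000 3000 = true := by decide +kernel
theorem c_act8_360 : allRange (fun i => Nat.beq (actR8 i) i) 1080000 3000 = true := by decide +kernel
theorem c_act8_361 : allRange (fun i => Nat.beq (actR8 i) i) 1083000 3000 = true := by decide +kernel
theorem c_act8_362 : allRange (fun i => Nat.beq (actR8 i) i) 1086000 3000 = true := by decide +kernel
theorem c_act8_363 : allRange (fun i => Nat.beq (actR8 i) i) 1089000 3000 = true := by decide +kernel
theorem c_act8_364 : allRange (fun i => Nat.beq (actR8 i) i) 1092000 3000 = true := by decide +kernel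
theorem c_act8_365 : allRange (fun i => Nat.beq (actR8 i) i) 1095000 3000 = true := by decide +kernel
theorem c_act8_366 : allRange (fun i => Nat.beq (actR8 i) i) 1098000 3000 = true := by decide +kernel
theorem c_act8_367 : allRange (fun i => Nat.beq (actR8 i) i) 1101000 3000 = true := by decide +kernel
theorem c_act8_368 : allRange (fun i => Nat.beq (actR8 i) i) 1104000 3000 = true := by decide +kernel
theorem c_act8_369 : allRange (fun i => Nat.beq (actR8 i) i) 1107000 3000 = true := by decide +kernel
theorem c_act8_370 : allRange (fun i => Nat.beq (actR8 i) i) 1110000 3000 = true := by decide +kernel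
theorem c_act8_371 : allRange (fun i => Nat.beq (actR8 i) i) 1113000 3000 = true := by decide +kernel
theorem c_act8_372 : allRange (fun i => Nat.beq (actR8 i) i) 1116000 3000 = true := by decide +kernel
theorem c_act8_373 : allRange (fun i => Nat.beq (actR8 i) i) 1119000 3000 = true := by decide +kernel
theorem c_act8_374 : allRange (fun i => Nat.beq (actR8 i) i) 1122000 3000 = true := by decide +kernel
theorem c_act8_375 : allRange (fun i => Nat.beq (actR8 i) i) 1125000 3000 = true := by decide +kernel
theorem c_act8_376 : allRange (fun i => Nat.beq (actR8 i) i) 1128000 3000 = true := by decide +kernel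
theorem c_act8_377 : allRange (fun i => Nat.beq (actR8 i) i) 1131000 3000 = true := by decide +kernel
theorem c_act8_378 : allRange (fun i => Nat.beq (actR8 i) i) 1134000 3000 = true := by decide +kernel
theorem c_act8_379 : allRange (fun i => Nat.beq (actR8 i) i) 1137000 3000 = true := by decide +kernel
theorem c_act8_380 : allRange (fun i => Nat.beq (actR8 i) i) 1140000 3000 = true := by decide +kernel
theorem c_act8_381 : allRange (fun i => Nat.beq (actR8 i) i) 1143000 3000 = true := by decide +kernel
theorem c_act8_382 : allRange (fun i => Nat.beq (actR8 i) i) 1146000 3000 = true := by decide +kernel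
theorem c_act8_383 : allRange (fun i => Nat.beq (actR8 i) i) 1149000 3000 = true := by decide +kernel
theorem c_act8_384 : allRange (fun i => Nat.beq (actR8 i) i) 1152000 3000 = true := by decide +kernel
theorem c_act8_385 : allRange (fun i => Nat.beq (actR8 i) i) 1155000 3000 = true := by decide +kernel
theorem c_act8_386 : allRange (fun i => Nat.beq (actR8 i) i) 1158000 3000 = true := by decide +kernel
theorem c_act8_387 : allRange (fun i => Nat.beq (actR8 i) i) 1161000 3000 = true := by decide +kernel
theorem c_act8_388 : allRange (fun i => Nat.beq (actR8 i) i) 1164000 3000 = true := by decide +kernel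
theorem c_act8_389 : allRange (fun i => Nat.beq (actR8 i) i) 1167000 3000 = true := by decide +kernel
theorem c_act8_390 : allRange (fun i => Nat.beq (actR8 i) i) 1170000 3000 = true := by decide +kernel
theorem c_act8_391 : allRange (fun i => Nat.beq (actR8 i) i) 1173000 3000 = true := by decide +kernel
theorem c_act8_392 : allRange (fun i => Nat.beq (actR8 i) i) 1176000 3000 = true := by decide +kernel

end Cfsg.Agent.Lib.Helper4.TCD.HNm
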