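import Cfsg.Agent.Lib.Helper4.TCD_HNm_Acc

namespace Cfsg.Agent.Lib.Helper4.TCD.HNm

open Cfsg.Agent.Lib.Helper4.TC

set_option maxRecDepth 100000
set_option Elab.async false

theorem c_act8_393 : allRange (fun i => Nat.beq (actR8 i) i) 1179000 3000 = true := by decide +kernel
theorem c_act8_394 : allRange (fun i => Nat.beq (actR8 i) i) 1182000 3000 = true := by decide +kernel
theorem c_act8_395 : allRange (fun i => Nat.beq (actR8 i) i) 1185000 3000 = true := by decide +kernel
theorem c_act8_396 : allRange (fun i => Nat.beq (actR8 i) i) 1188000 3000 = true := by decide +kernel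
theorem c_act8_397 : allRange (fun i => Nat.beq (actR8 i) i) 1191000 3000 = true := by decide +kernel
theorem c_act8_398 : allRange (fun i => Nat.beq (actR8 i) i) 1194000 3000 = true := by decide +kernel
theorem c_act8_399 : allRange (fun i => Nat.beq (actR8 i) i) 1197000 3000 = true := by decide +kernel
theorem c_act8_400 : allRange (fun i => Nat.beq (actR8 i) i) 1200000 3000 = true := by decide +kernel
theorem c_act8_401 : allRange (fun i => Nat.beq (actR8 i) i) 1203000 3000 = true := by decide +kernel
theorem c_act8_402 : allRange (fun i => Nat.beq (actR8 i) i) 1206000 3000 = true := by decide +kernel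
theorem c_act8_403 : allRange (fun i => Nat.beq (actR8 i) i) 1209000 3000 = true := by decide +kernel
theorem c_act8_404 : allRange (fun i => Nat.beq (actR8 i) i) 1212000 3000 = true := by decide +kernel
theorem c_act8_405 : allRange (fun i => Nat.beq (actR8 i) i) 1215000 3000 = true := by decide +kernel
theorem c_act8_406 : allRange (fun i => Nat.beq (actR8 i) i) 1218000 3000 = true := by decide +kernel
theorem c_act8_407 : allRange (fun i => Nat.beq (actR8 i) i) 1221000 3000 = true := by decide +kernel
theorem c_act8_408 : allRange (fun i => Nat.beq (actR8 i) i) 1224000 3000 = true := by decide +kernel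
theorem c_act8_409 : allRange (fun i => Nat.beq (actR8 i) i) 1227000 3000 = true := by decide +kernel
theorem c_act8_410 : allRange (fun i => Nat.beq (actR8 i) i) 1230000 3000 = true := by decide +kernel
theorem c_act8_411 : allRange (fun i => Nat.beq (actR8 i) i) 1233000 3000 = true := by decide +kernel
theorem c_act8_412 : allRange (fun i => Nat.beq (actR8 i) i) 1236000 3000 = true := by decide +kernel
theorem c_act8_413 : allRange (fun i => Nat.beq (actR8 i) i) 1239000 3000 = true := by decide +kernel
theorem c_act8_414 : allRange (fun i => Nat.beq (actR8 i) i) 1242000 3000 = true := by decide +kernel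
theorem c_act8_415 : allRange (fun i => Nat.beq (actR8 i) i) 1245000 3000 = true := by decide +kernel
theorem c_act8_416 : allRange (fun i => Nat.beq (actR8 i) i) 1248000 3000 = true := by decide +kernel
theorem c_act8_417 : allRange (fun i => Nat.beq (actR8 i) i) 1251000 3000 = true := by decide +kernel
theorem c_act8_418 : allRange (fun i => Nat.beq (actR8 i) i) 1254000 3000 = true := by decide +kernel
theorem c_act8_419 : allRange (fun i => Nat.beq (actR8 i) i) 1257000 3000 = true := by decide +kernel
theorem c_act8_420 : allRange (fun i => Nat.beq (actR8 i) i) 1260000 3000 = true := by decide +kernel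
theorem c_act8_421 : allRange (fun i => Nat.beq (actR8 i) i) 1263000 3000 = true := by decide +kernel
theorem c_act8_422 : allRange (fun i => Nat.beq (actR8 i) i) 1266000 3000 = true := by decide +kernel
theorem c_act8_423 : allRange (fun i => Nat.beq (actR8 i) i) 1269000 3000 = true := by decide +kernel
theorem c_act8_424 : allRange (fun i => Nat.beq (actR8 i) i) 1272000 3000 = true := by decide +kernel
theorem c_act8_425 : allRange (fun i => Nat.beq (actR8 i) i) 1275000 3000 = true := by decide +kernel
theorem c_act8_426 : allRange (fun i => Nat.beq (actR8 i) i) 1278000 3000 = true := by decide +kernel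
theorem c_act8_427 : allRange (fun i => Nat.beq (actR8 i) i) 1281000 3000 = true := by decide +kernel
theorem c_act8_428 : allRange (fun i => Nat.beq (actR8 i) i) 1284000 3000 = true := by decide +kernel
theorem c_act8_429 : allRange (fun i => Nat.beq (actR8 i) i) 1287000 3000 = true := by decide +kernel
theorem c_act8_430 : allRange (fun i => Nat.beq (actR8 i) i) 1290000 3000 = true := by decide +kernel
theorem c_act8_431 : allRange (fun i => Nat.beq (actR8 i) i) 1293000 3000 = true := by decide +kernel
theorem c_act8_432 : allRange (fun i => Nat.beq (actR8 i) i) 1296000 3000 = true := by decide +kernel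
theorem c_act8_433 : allRange (fun i => Nat.beq (actR8 i) i) 1299000 3000 = true := by decide +kernel
theorem c_act8_434 : allRange (fun i => Nat.beq (actR8 i) i) 1302000 3000 = true := by decide +kernel
theorem c_act8_435 : allRange (fun i => Nat.beq (actR8 i) i) 1305000 3000 = true := by decide +kernel
theorem c_act8_436 : allRange (fun i => Nat.beq (actR8 i) i) 1308000 3000 = true := by decide +kernel
theorem c_act8_437 : allRange (fun i => Nat.beq (actR8 i) i) 1311000 3000 = true := by decide +kernel
theorem c_act8_438 : allRange (fun i => Nat.beq (actR8 i) i) 1314000 3000 = true := by decide +kernel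
theorem c_act8_439 : allRange (fun i => Nat.beq (actR8 i) i) 1317000 3000 = true := by decide +kernel
theorem c_act8_440 : allRange (fun i => Nat.beq (actR8 i) i) 1320000 3000 = true := by decide +kernel
theorem c_act8_441 : allRange (fun i => Nat.beq (actR8 i) i) 1323000 3000 = true := by decide +kernel
theorem c_act8_442 : allRange (fun i => Nat.beq (actR8 i) i) 1326000 3000 = true := by decide +kernel

end Cfsg.Agent.Lib.Helper4.TCD.HNm
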