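import Cfsg.Agent.Lib.Helper4.TCD_HNm_Acc

namespace Cfsg.Agent.Lib.Helper4.TCD.HNm

open Cfsg.Agent.Lib.Helper4.TC

set_option maxRecDepth 100000
set_option Elab.async false

theorem c_act8_443 : allRange (fun i => Nat.beq (actR8 i) i) 1329000 3000 = true := by decide +kernel
theorem c_act8_444 : allRange (fun i => Nat.beq (actR8 i) i) 1332000 3000 = true := by decide +kernel
theorem c_act8_445 : allRange (fun i => Nat.beq (actR8 i) i) 1335000 3000 = true := by decide +kernel
theorem c_act8_446 : allRange (fun i => Nat.beq (actR8 i) i) 1338000 3000 = true := by decide +kernel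
theorem c_act8_447 : allRange (fun i => Nat.beq (actR8 i) i) 1341000 3000 = true := by decide +kernel
theorem c_act8_448 : allRange (fun i => Nat.beq (actR8 i) i) 1344000 3000 = true := by decide +kernel
theorem c_act8_449 : allRange (fun i => Nat.beq (actR8 i) i) 1347000 3000 = true := by decide +kernel
theorem c_act8_450 : allRange (fun i => Nat.beq (actR8 i) i) 1350000 3000 = true := by decide +kernel
theorem c_act8_451 : allRange (fun i => Nat.beq (actR8 i) i) 1353000 3000 = true := by decide +kernel
theorem c_act8_452 : allRange (fun i => Nat.beq (actR8 i) i) 1356000 3000 = true := by decide +kernel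
theorem c_act8_453 : allRange (fun i => Nat.beq (actR8 i) i) 1359000 3000 = true := by decide +kernel
theorem c_act8_454 : allRange (fun i => Nat.beq (actR8 i) i) 1362000 3000 = true := by decide +kernel
theorem c_act8_455 : allRange (fun i => Nat.beq (actR8 i) i) 1365000 3000 = true := by decide +kernel
theorem c_act8_456 : allRange (fun i => Nat.beq (actR8 i) i) 1368000 3000 = true := by decide +kernel
theorem c_act8_457 : allRange (fun i => Nat.beq (actR8 i) i) 1371000 3000 = true := by decide +kernel
theorem c_act8_458 : allRange (fun i => Nat.beq (actR8 i) i) 1374000 3000 = true := by decide +kernel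
theorem c_act8_459 : allRange (fun i => Nat.beq (actR8 i) i) 1377000 3000 = true := by decide +kernel
theorem c_act8_460 : allRange (fun i => Nat.beq (actR8 i) i) 1380000 3000 = true := by decide +kernel
theorem c_act8_461 : allRange (fun i => Nat.beq (actR8 i) i) 1383000 3000 = true := by decide +kernel
theorem c_act8_462 : allRange (fun i => Nat.beq (actR8 i) i) 1386000 3000 = true := by decide +kernel
theorem c_act8_463 : allRange (fun i => Nat.beq (actR8 i) i) 1389000 3000 = true := by decide +kernel
theorem c_act8_464 : allRange (fun i => Nat.beq (actR8 i) i) 1392000 3000 = true := by decide +kernel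
theorem c_act8_465 : allRange (fun i => Nat.beq (actR8 i) i) 1395000 3000 = true := by decide +kernel
theorem c_act8_466 : allRange (fun i => Nat.beq (actR8 i) i) 1398000 3000 = true := by decide +kernel
theorem c_act8_467 : allRange (fun i => Nat.beq (actR8 i) i) 1401000 3000 = true := by decide +kernel
theorem c_act8_468 : allRange (fun i => Nat.beq (actR8 i) i) 1404000 3000 = true := by decide +kernel
theorem c_act8_469 : allRange (fun i => Nat.beq (actR8 i) i) 1407000 3000 = true := by decide +kernel
theorem c_act8_470 : allRange (fun i => Nat.beq (actR8 i) i) 1410000 3000 = true := by decide +kernel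
theorem c_act8_471 : allRange (fun i => Nat.beq (actR8 i) i) 1413000 3000 = true := by decide +kernel
theorem c_act8_472 : allRange (fun i => Nat.beq (actR8 i) i) 1416000 3000 = true := by decide +kernel
theorem c_act8_473 : allRange (fun i => Nat.beq (actR8 i) i) 1419000 3000 = true := by decide +kernel
theorem c_act8_474 : allRange (fun i => Nat.beq (actR8 i) i) 1422000 3000 = true := by decide +kernel
theorem c_act8_475 : allRange (fun i => Nat.beq (actR8 i) i) 1425000 3000 = true := by decide +kernel
theorem c_act8_476 : allRange (fun i => Nat.beq (actR8 i) i) 1428000 3000 = true := by decide +kernel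
theorem c_act8_477 : allRange (fun i => Nat.beq (actR8 i) i) 1431000 3000 = true := by decide +kernel
theorem c_act8_478 : allRange (fun i => Nat.beq (actR8 i) i) 1434000 3000 = true := by decide +kernel
theorem c_act8_479 : allRange (fun i => Nat.beq (actR8 i) i) 1437000 3000 = true := by decide +kernel
theorem c_act8_480 : allRange (fun i => Nat.beq (actR8 i) i) 1440000 3000 = true := by decide +kernel
theorem c_act8_481 : allRange (fun i => Nat.beq (actR8 i) i) 1443000 3000 = true := by decide +kernel
theorem c_act8_482 : allRange (fun i => Nat.beq (actR8 i) i) 1446000 3000 = true := by decide +kernel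
theorem c_act8_483 : allRange (fun i => Nat.beq (actR8 i) i) 1449000 3000 = true := by decide +kernel
theorem c_act8_484 : allRange (fun i => Nat.beq (actR8 i) i) 1452000 3000 = true := by decide +kernel
theorem c_act8_485 : allRange (fun i => Nat.beq (actR8 i) i) 1455000 3000 = true := by decide +kernel
theorem c_act8_486 : allRange (fun i => Nat.beq (actR8 i) i) 1458000 3000 = true := by decide +kernel
theorem c_act8_487 : allRange (fun i => Nat.beq (actR8 i) i) 1461000 3000 = true := by decide +kernel
theorem c_act8_488 : allRange (fun i => Nat.beq (actR8 i) i) 1464000 3000 = true := by decide +kernel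
theorem c_act8_489 : allRange (fun i => Nat.beq (actR8 i) i) 1467000 3000 = true := by decide +kernel
theorem c_act8_490 : allRange (fun i => Nat.beq (actR8 i) i) 1470000 3000 = true := by decide +kernel
theorem c_act8_491 : allRange (fun i => Nat.beq (actR8 i) i) 1473000 3000 = true := by decide +kernel
theorem c_act8_492 : allRange (fun i => Nat.beq (actR8 i) i) 1476000 3000 = true := by decide +kernel

end Cfsg.Agent.Lib.Helper4.TCD.HNm
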