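import Cfsg.Agent.Lib.Helper4.TCD_HNm_Acc

namespace Cfsg.Agent.Lib.Helper4.TCD.HNm

open Cfsg.Agent.Lib.Helper4.TC

set_option maxRecDepth 100000
set_option Elab.async false

theorem c_act8_493 : allRange (fun i => Nat.beq (actR8 i) i) 1479000 3000 = true := by decide +kernel
theorem c_act8_494 : allRange (fun i => Nat.beq (actR8 i) i) 1482000 3000 = true := by decide +kernel
theorem c_act8_495 : allRange (fun i => Nat.beq (actR8 i) i) 1485000 3000 = true := by decide +kernel
theorem c_act8_496 : allRange (fun i => Nat.beq (actR8 i) i) 1488000 3000 = true := by decide +kernel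
theorem c_act8_497 : allRange (fun i => Nat.beq (actR8 i) i) 1491000 3000 = true := by decide +kernel
theorem c_act8_498 : allRange (fun i => Nat.beq (actR8 i) i) 1494000 3000 = true := by decide +kernel
theorem c_act8_499 : allRange (fun i => Nat.beq (actR8 i) i) 1497000 3000 = true := by decide +kernel
theorem c_act8_500 : allRange (fun i => Nat.beq (actR8 i) i) 1500000 3000 = true := by decide +kernel
theorem c_act8_501 : allRange (fun i => Nat.beq (actR8 i) i) 1503000 3000 = true := by decide +kernel
theorem c_act8_502 : allRange (fun i => Nat.beq (actR8 i) i) 1506000 3000 = true := by decide +kernel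
theorem c_act8_503 : allRange (fun i => Nat.beq (actR8 i) i) 1509000 3000 = true := by decide +kernel
theorem c_act8_504 : allRange (fun i => Nat.beq (actR8 i) i) 1512000 3000 = true := by decide +kernel
theorem c_act8_505 : allRange (fun i => Nat.beq (actR8 i) i) 1515000 3000 = true := by decide +kernel
theorem c_act8_506 : allRange (fun i => Nat.beq (actR8 i) i) 1518000 3000 = true := by decide +kernel
theorem c_act8_507 : allRange (fun i => Nat.beq (actR8 i) i) 1521000 3000 = true := by decide +kernel
theorem c_act8_508 : allRange (fun i => Nat.beq (actR8 i) i) 1524000 3000 = true := by decide +kernel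
theorem c_act8_509 : allRange (fun i => Nat.beq (actR8 i) i) 1527000 3000 = true := by decide +kernel
theorem c_act8_510 : allRange (fun i => Nat.beq (actR8 i) i) 1530000 3000 = true := by decide +kernel
theorem c_act8_511 : allRange (fun i => Nat.beq (actR8 i) i) 1533000 3000 = true := by decide +kernel
theorem c_act8_512 : allRange (fun i => Nat.beq (actR8 i) i) 1536000 3000 = true := by decide +kernel
theorem c_act9_0 : allRange (fun i => Nat.beq (actR9 i) i) 0 1224 = true := by decide +kernel
theorem c_act9_1 : allRange (fun i => Nat.beq (actR9 i) i) 1224 1224 = true := by decide +kernel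
theorem c_act9_2 : allRange (fun i => Nat.beq (actR9 i) i) 2448 1224 = true := by decide +kernel
theorem c_act9_3 : allRange (fun i => Nat.beq (actR9 i) i) 3672 1224 = true := by decide +kernel
theorem c_act9_4 : allRange (fun i => Nat.beq (actR9 i) i) 4896 1224 = true := by decide +kernel
theorem c_act9_5 : allRange (fun i => Nat.beq (actR9 i) i) 6120 1224 = true := by decide +kernel
theorem c_act9_6 : allRange (fun i => Nat.beq (actR9 i) i) 7344 1224 = true := by decide +kernel
theorem c_act9_7 : allRange (fun i => Nat.beq (actR9 i) i) 8568 1224 = true := by decide +kernel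
theorem c_act9_8 : allRange (fun i => Nat.beq (actR9 i) i) 9792 1224 = true := by decide +kernel
theorem c_act9_9 : allRange (fun i => Nat.beq (actR9 i) i) 11016 1224 = true := by decide +kernel
theorem c_act9_10 : allRange (fun i => Nat.beq (actR9 i) i) 12240 1224 = true := by decide +kernel
theorem c_act9_11 : allRange (fun i => Nat.beq (actR9 i) i) 13464 1224 = true := by decide +kernel
theorem c_act9_12 : allRange (fun i => Nat.beq (actR9 i) i) 14688 1224 = true := by decide +kernel
theorem c_act9_13 : allRange (fun i => Nat.beq (actR9 i) i) 15912 1224 = true := by decide +kernel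
theorem c_act9_14 : allRange (fun i => Nat.beq (actR9 i) i) 17136 1224 = true := by decide +kernel
theorem c_act9_15 : allRange (fun i => Nat.beq (actR9 i) i) 18360 1224 = true := by decide +kernel
theorem c_act9_16 : allRange (fun i => Nat.beq (actR9 i) i) 19584 1224 = true := by decide +kernel
theorem c_act9_17 : allRange (fun i => Nat.beq (actR9 i) i) 20808 1224 = true := by decide +kernel
theorem c_act9_18 : allRange (fun i => Nat.beq (actR9 i) i) 22032 1224 = true := by decide +kernel
theorem c_act9_19 : allRange (fun i => Nat.beq (actR9 i) i) 23256 1224 = true := by decide +kernel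
theorem c_act9_20 : allRange (fun i => Nat.beq (actR9 i) i) 24480 1224 = true := by decide +kernel
theorem c_act9_21 : allRange (fun i => Nat.beq (actR9 i) i) 25704 1224 = true := by decide +kernel
theorem c_act9_22 : allRange (fun i => Nat.beq (actR9 i) i) 26928 1224 = true := by decide +kernel
theorem c_act9_23 : allRange (fun i => Nat.beq (actR9 i) i) 28152 1224 = true := by decide +kernel
theorem c_act9_24 : allRange (fun i => Nat.beq (actR9 i) i) 29376 1224 = true := by decide +kernel
theorem c_act9_25 : allRange (fun i => Nat.beq (actR9 i) i) 30600 1224 = true := by decide +kernel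
theorem c_act9_26 : allRange (fun i => Nat.beq (actR9 i) i) 31824 1224 = true := by decide +kernel
theorem c_act9_27 : allRange (fun i => Nat.beq (actR9 i) i) 33048 1224 = true := by decide +kernel
theorem c_act9_28 : allRange (fun i => Nat.beq (actR9 i) i) 34272 1224 = true := by decide +kernel
theorem c_act9_29 : allRange (fun i => Nat.beq (actR9 i) i) 35496 1224 = true := by decide +kernel

end Cfsg.Agent.Lib.Helper4.TCD.HNm
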