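import Cfsg.Agent.Lib.Helper4.TCD_HNm_Acc

namespace Cfsg.Agent.Lib.Helper4.TCD.HNm

open Cfsg.Agent.Lib.Helper4.TC

set_option maxRecDepth 100000
set_option Elab.async false

theorem c_act9_30 : allRange (fun i => Nat.beq (actR9 i) i) 36720 1224 = true := by decide +kernel
theorem c_act9_31 : allRange (fun i => Nat.beq (actR9 i) i) 37944 1224 = true := by decide +kernel
theorem c_act9_32 : allRange (fun i => Nat.beq (actR9 i) i) 39168 1224 = true := by decide +kernel
theorem c_act9_33 : allRange (fun i => Nat.beq (actR9 i) i) 40392 1224 = true := by decide +kernel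
theorem c_act9_34 : allRange (fun i => Nat.beq (actR9 i) i) 41616 1224 = true := by decide +kernel
theorem c_act9_35 : allRange (fun i => Nat.beq (actR9 i) i) 42840 1224 = true := by decide +kernel
theorem c_act9_36 : allRange (fun i => Nat.beq (actR9 i) i) 44064 1224 = true := by decide +kernel
theorem c_act9_37 : allRange (fun i => Nat.beq (actR9 i) i) 45288 1224 = true := by decide +kernel
theorem c_act9_38 : allRange (fun i => Nat.beq (actR9 i) i) 46512 1224 = true := by decide +kernel
theorem c_act9_39 : allRange (fun i => Nat.beq (actR9 i) i) 47736 1224 = true := by decide +kernel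
theorem c_act9_40 : allRange (fun i => Nat.beq (actR9 i) i) 48960 1224 = true := by decide +kernel
theorem c_act9_41 : allRange (fun i => Nat.beq (actR9 i) i) 50184 1224 = true := by decide +kernel
theorem c_act9_42 : allRange (fun i => Nat.beq (actR9 i) i) 51408 1224 = true := by decide +kernel
theorem c_act9_43 : allRange (fun i => Nat.beq (actR9 i) i) 52632 1224 = true := by decide +kernel
theorem c_act9_44 : allRange (fun i => Nat.beq (actR9 i) i) 53856 1224 = true := by decide +kernel
theorem c_act9_45 : allRange (fun i => Nat.beq (actR9 i) i) 55080 1224 = true := by decide +kernel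
theorem c_act9_46 : allRange (fun i => Nat.beq (actR9 i) i) 56304 1224 = true := by decide +kernel
theorem c_act9_47 : allRange (fun i => Nat.beq (actR9 i) i) 57528 1224 = true := by decide +kernel
theorem c_act9_48 : allRange (fun i => Nat.beq (actR9 i) i) 58752 1224 = true := by decide +kernel
theorem c_act9_49 : allRange (fun i => Nat.beq (actR9 i) i) 59976 1224 = true := by decide +kernel
theorem c_act9_50 : allRange (fun i => Nat.beq (actR9 i) i) 61200 1224 = true := by decide +kernel
theorem c_act9_51 : allRange (fun i => Nat.beq (actR9 i) i) 62424 1224 = true := by decide +kernel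
theorem c_act9_52 : allRange (fun i => Nat.beq (actR9 i) i) 63648 1224 = true := by decide +kernel
theorem c_act9_53 : allRange (fun i => Nat.beq (actR9 i) i) 64872 1224 = true := by decide +kernel
theorem c_act9_54 : allRange (fun i => Nat.beq (actR9 i) i) 66096 1224 = true := by decide +kernel
theorem c_act9_55 : allRange (fun i => Nat.beq (actR9 i) i) 67320 1224 = true := by decide +kernel
theorem c_act9_56 : allRange (fun i => Nat.beq (actR9 i) i) 68544 1224 = true := by decide +kernel
theorem c_act9_57 : allRange (fun i => Nat.beq (actR9 i) i) 69768 1224 = true := by decide +kernel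
theorem c_act9_58 : allRange (fun i => Nat.beq (actR9 i) i) 70992 1224 = true := by decide +kernel
theorem c_act9_59 : allRange (fun i => Nat.beq (actR9 i) i) 72216 1224 = true := by decide +kernel
theorem c_act9_60 : allRange (fun i => Nat.beq (actR9 i) i) 73440 1224 = true := by decide +kernel
theorem c_act9_61 : allRange (fun i => Nat.beq (actR9 i) i) 74664 1224 = true := by decide +kernel
theorem c_act9_62 : allRange (fun i => Nat.beq (actR9 i) i) 75888 1224 = true := by decide +kernel
theorem c_act9_63 : allRange (fun i => Nat.beq (actR9 i) i) 77112 1224 = true := by decide +kernel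
theorem c_act9_64 : allRange (fun i => Nat.beq (actR9 i) i) 78336 1224 = true := by decide +kernel
theorem c_act9_65 : allRange (fun i => Nat.beq (actR9 i) i) 79560 1224 = true := by decide +kernel
theorem c_act9_66 : allRange (fun i => Nat.beq (actR9 i) i) 80784 1224 = true := by decide +kernel
theorem c_act9_67 : allRange (fun i => Nat.beq (actR9 i) i) 82008 1224 = true := by decide +kernel
theorem c_act9_68 : allRange (fun i => Nat.beq (actR9 i) i) 83232 1224 = true := by decide +kernel
theorem c_act9_69 : allRange (fun i => Nat.beq (actR9 i) i) 84456 1224 = true := by decide +kernel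
theorem c_act9_70 : allRange (fun i => Nat.beq (actR9 i) i) 85680 1224 = true := by decide +kernel
theorem c_act9_71 : allRange (fun i => Nat.beq (actR9 i) i) 86904 1224 = true := by decide +kernel
theorem c_act9_72 : allRange (fun i => Nat.beq (actR9 i) i) 88128 1224 = true := by decide +kernel
theorem c_act9_73 : allRange (fun i => Nat.beq (actR9 i) i) 89352 1224 = true := by decide +kernel
theorem c_act9_74 : allRange (fun i => Nat.beq (actR9 i) i) 90576 1224 = true := by decide +kernel
theorem c_act9_75 : allRange (fun i => Nat.beq (actR9 i) i) 91800 1224 = true := by decide +kernel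
theorem c_act9_76 : allRange (fun i => Nat.beq (actR9 i) i) 93024 1224 = true := by decide +kernel
theorem c_act9_77 : allRange (fun i => Nat.beq (actR9 i) i) 94248 1224 = true := by decide +kernel
theorem c_act9_78 : allRange (fun i => Nat.beq (actR9 i) i) 95472 1224 = true := by decide +kernel
theorem c_act9_79 : allRange (fun i => Nat.beq (actR9 i) i) 96696 1224 = true := by decide +kernel

end Cfsg.Agent.Lib.Helper4.TCD.HNm
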