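import Cfsg.Agent.Lib.Helper4.TCD_HNm_Acc

namespace Cfsg.Agent.Lib.Helper4.TCD.HNm

open Cfsg.Agent.Lib.Helper4.TC

set_option maxRecDepth 100000
set_option Elab.async false

theorem c_act9_80 : allRange (fun i => Nat.beq (actR9 i) i) 97920 1224 = true := by decide +kernel
theorem c_act9_81 : allRange (fun i => Nat.beq (actR9 i) i) 99144 1224 = true := by decide +kernel
theorem c_act9_82 : allRange (fun i => Nat.beq (actR9 i) i) 100368 1224 = true := by decide +kernel
theorem c_act9_83 : allRange (fun i => Nat.beq (actR9 i) i) 101592 1224 = true := by decide +kernel
theorem c_act9_84 : allRange (fun i => Nat.beq (actR9 i) i) 102816 1224 = true := by decide +kernel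
theorem c_act9_85 : allRange (fun i => Nat.beq (actR9 i) i) 104040 1224 = true := by decide +kernel
theorem c_act9_86 : allRange (fun i => Nat.beq (actR9 i) i) 105264 1224 = true := by decide +kernel
theorem c_act9_87 : allRange (fun i => Nat.beq (actR9 i) i) 106488 1224 = true := by decide +kernel
theorem c_act9_88 : allRange (fun i => Nat.beq (actR9 i) i) 107712 1224 = true := by decide +kernel
theorem c_act9_89 : allRange (fun i => Nat.beq (actR9 i) i) 108936 1224 = true := by decide +kernel
theorem c_act9_90 : allRange (fun i => Nat.beq (actR9 i) i) 110160 1224 = true := by decide +kernel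
theorem c_act9_91 : allRange (fun i => Nat.beq (actR9 i) i) 111384 1224 = true := by decide +kernel
theorem c_act9_92 : allRange (fun i => Nat.beq (actR9 i) i) 112608 1224 = true := by decide +kernel
theorem c_act9_93 : allRange (fun i => Nat.beq (actR9 i) i) 113832 1224 = true := by decide +kernel
theorem c_act9_94 : allRange (fun i => Nat.beq (actR9 i) i) 115056 1224 = true := by decide +kernel
theorem c_act9_95 : allRange (fun i => Nat.beq (actR9 i) i) 116280 1224 = true := by decide +kernel
theorem c_act9_96 : allRange (fun i => Nat.beq (actR9 i) i) 117504 1224 = true := by decide +kernel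
theorem c_act9_97 : allRange (fun i => Nat.beq (actR9 i) i) 118728 1224 = true := by decide +kernel
theorem c_act9_98 : allRange (fun i => Nat.beq (actR9 i) i) 119952 1224 = true := by decide +kernel
theorem c_act9_99 : allRange (fun i => Nat.beq (actR9 i) i) 121176 1224 = true := by decide +kernel
theorem c_act9_100 : allRange (fun i => Nat.beq (actR9 i) i) 122400 1224 = true := by decide +kernel
theorem c_act9_101 : allRange (fun i => Nat.beq (actR9 i) i) 123624 1224 = true := by decide +kernel
theorem c_act9_102 : allRange (fun i => Nat.beq (actR9 i) i) 124848 1224 = true := by decide +kernel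
theorem c_act9_103 : allRange (fun i => Nat.beq (actR9 i) i) 126072 1224 = true := by decide +kernel
theorem c_act9_104 : allRange (fun i => Nat.beq (actR9 i) i) 127296 1224 = true := by decide +kernel
theorem c_act9_105 : allRange (fun i => Nat.beq (actR9 i) i) 128520 1224 = true := by decide +kernel
theorem c_act9_106 : allRange (fun i => Nat.beq (actR9 i) i) 129744 1224 = true := by decide +kernel
theorem c_act9_107 : allRange (fun i => Nat.beq (actR9 i) i) 130968 1224 = true := by decide +kernel
theorem c_act9_108 : allRange (fun i => Nat.beq (actR9 i) i) 132192 1224 = true := by decide +kernel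
theorem c_act9_109 : allRange (fun i => Nat.beq (actR9 i) i) 133416 1224 = true := by decide +kernel
theorem c_act9_110 : allRange (fun i => Nat.beq (actR9 i) i) 134640 1224 = true := by decide +kernel
theorem c_act9_111 : allRange (fun i => Nat.beq (actR9 i) i) 135864 1224 = true := by decide +kernel
theorem c_act9_112 : allRange (fun i => Nat.beq (actR9 i) i) 137088 1224 = true := by decide +kernel
theorem c_act9_113 : allRange (fun i => Nat.beq (actR9 i) i) 138312 1224 = true := by decide +kernel
theorem c_act9_114 : allRange (fun i => Nat.beq (actR9 i) i) 139536 1224 = true := by decide +kernel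
theorem c_act9_115 : allRange (fun i => Nat.beq (actR9 i) i) 140760 1224 = true := by decide +kernel
theorem c_act9_116 : allRange (fun i => Nat.beq (actR9 i) i) 141984 1224 = true := by decide +kernel
theorem c_act9_117 : allRange (fun i => Nat.beq (actR9 i) i) 143208 1224 = true := by decide +kernel
theorem c_act9_118 : allRange (fun i => Nat.beq (actR9 i) i) 144432 1224 = true := by decide +kernel
theorem c_act9_119 : allRange (fun i => Nat.beq (actR9 i) i) 145656 1224 = true := by decide +kernel
theorem c_act9_120 : allRange (fun i => Nat.beq (actR9 i) i) 146880 1224 = true := by decide +kernel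
theorem c_act9_121 : allRange (fun i => Nat.beq (actR9 i) i) 148104 1224 = true := by decide +kernel
theorem c_act9_122 : allRange (fun i => Nat.beq (actR9 i) i) 149328 1224 = true := by decide +kernel
theorem c_act9_123 : allRange (fun i => Nat.beq (actR9 i) i) 150552 1224 = true := by decide +kernel
theorem c_act9_124 : allRange (fun i => Nat.beq (actR9 i) i) 151776 1224 = true := by decide +kernel
theorem c_act9_125 : allRange (fun i => Nat.beq (actR9 i) i) 153000 1224 = true := by decide +kernel
theorem c_act9_126 : allRange (fun i => Nat.beq (actR9 i) i) 154224 1224 = true := by decide +kernel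
theorem c_act9_127 : allRange (fun i => Nat.beq (actR9 i) i) 155448 1224 = true := by decide +kernel
theorem c_act9_128 : allRange (fun i => Nat.beq (actR9 i) i) 156672 1224 = true := by decide +kernel
theorem c_act9_129 : allRange (fun i => Nat.beq (actR9 i) i) 157896 1224 = true := by decide +kernel

end Cfsg.Agent.Lib.Helper4.TCD.HNm
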