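import Cfsg.Agent.Lib.Helper4.TCD_HNm_Acc

namespace Cfsg.Agent.Lib.Helper4.TCD.HNm

open Cfsg.Agent.Lib.Helper4.TC

set_option maxRecDepth 100000
set_option Elab.async false

theorem c_act9_130 : allRange (fun i => Nat.beq (actR9 i) i) 159120 1224 = true := by decide +kernel
theorem c_act9_131 : allRange (fun i => Nat.beq (actR9 i) i) 160344 1224 = true := by decide +kernel
theorem c_act9_132 : allRange (fun i => Nat.beq (actR9 i) i) 161568 1224 = true := by decide +kernel
theorem c_act9_133 : allRange (fun i => Nat.beq (actR9 i) i) 162792 1224 = true := by decide +kernel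
theorem c_act9_134 : allRange (fun i => Nat.beq (actR9 i) i) 164016 1224 = true := by decide +kernel
theorem c_act9_135 : allRange (fun i => Nat.beq (actR9 i) i) 165240 1224 = true := by decide +kernel
theorem c_act9_136 : allRange (fun i => Nat.beq (actR9 i) i) 166464 1224 = true := by decide +kernel
theorem c_act9_137 : allRange (fun i => Nat.beq (actR9 i) i) 167688 1224 = true := by decide +kernel
theorem c_act9_138 : allRange (fun i => Nat.beq (actR9 i) i) 168912 1224 = true := by decide +kernel
theorem c_act9_139 : allRange (fun i => Nat.beq (actR9 i) i) 170136 1224 = true := by decide +kernel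
theorem c_act9_140 : allRange (fun i => Nat.beq (actR9 i) i) 171360 1224 = true := by decide +kernel
theorem c_act9_141 : allRange (fun i => Nat.beq (actR9 i) i) 172584 1224 = true := by decide +kernel
theorem c_act9_142 : allRange (fun i => Nat.beq (actR9 i) i) 173808 1224 = true := by decide +kernel
theorem c_act9_143 : allRange (fun i => Nat.beq (actR9 i) i) 175032 1224 = true := by decide +kernel
theorem c_act9_144 : allRange (fun i => Nat.beq (actR9 i) i) 176256 1224 = true := by decide +kernel
theorem c_act9_145 : allRange (fun i => Nat.beq (actR9 i) i) 177480 1224 = true := by decide +kernel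
theorem c_act9_146 : allRange (fun i => Nat.beq (actR9 i) i) 178704 1224 = true := by decide +kernel
theorem c_act9_147 : allRange (fun i => Nat.beq (actR9 i) i) 179928 1224 = true := by decide +kernel
theorem c_act9_148 : allRange (fun i => Nat.beq (actR9 i) i) 181152 1224 = true := by decide +kernel
theorem c_act9_149 : allRange (fun i => Nat.beq (actR9 i) i) 182376 1224 = true := by decide +kernel
theorem c_act9_150 : allRange (fun i => Nat.beq (actR9 i) i) 183600 1224 = true := by decide +kernel
theorem c_act9_151 : allRange (fun i => Nat.beq (actR9 i) i) 184824 1224 = true := by decide +kernel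
theorem c_act9_152 : allRange (fun i => Nat.beq (actR9 i) i) 186048 1224 = true := by decide +kernel
theorem c_act9_153 : allRange (fun i => Nat.beq (actR9 i) i) 187272 1224 = true := by decide +kernel
theorem c_act9_154 : allRange (fun i => Nat.beq (actR9 i) i) 188496 1224 = true := by decide +kernel
theorem c_act9_155 : allRange (fun i => Nat.beq (actR9 i) i) 189720 1224 = true := by decide +kernel
theorem c_act9_156 : allRange (fun i => Nat.beq (actR9 i) i) 190944 1224 = true := by decide +kernel
theorem c_act9_157 : allRange (fun i => Nat.beq (actR9 i) i) 192168 1224 = true := by decide +kernel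
theorem c_act9_158 : allRange (fun i => Nat.beq (actR9 i) i) 193392 1224 = true := by decide +kernel
theorem c_act9_159 : allRange (fun i => Nat.beq (actR9 i) i) 194616 1224 = true := by decide +kernel
theorem c_act9_160 : allRange (fun i => Nat.beq (actR9 i) i) 195840 1224 = true := by decide +kernel
theorem c_act9_161 : allRange (fun i => Nat.beq (actR9 i) i) 197064 1224 = true := by decide +kernel
theorem c_act9_162 : allRange (fun i => Nat.beq (actR9 i) i) 198288 1224 = true := by decide +kernel
theorem c_act9_163 : allRange (fun i => Nat.beq (actR9 i) i) 199512 1224 = true := by decide +kernel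
theorem c_act9_164 : allRange (fun i => Nat.beq (actR9 i) i) 200736 1224 = true := by decide +kernel
theorem c_act9_165 : allRange (fun i => Nat.beq (actR9 i) i) 201960 1224 = true := by decide +kernel
theorem c_act9_166 : allRange (fun i => Nat.beq (actR9 i) i) 203184 1224 = true := by decide +kernel
theorem c_act9_167 : allRange (fun i => Nat.beq (actR9 i) i) 204408 1224 = true := by decide +kernel
theorem c_act9_168 : allRange (fun i => Nat.beq (actR9 i) i) 205632 1224 = true := by decide +kernel
theorem c_act9_169 : allRange (fun i => Nat.beq (actR9 i) i) 206856 1224 = true := by decide +kernel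
theorem c_act9_170 : allRange (fun i => Nat.beq (actR9 i) i) 208080 1224 = true := by decide +kernel
theorem c_act9_171 : allRange (fun i => Nat.beq (actR9 i) i) 209304 1224 = true := by decide +kernel
theorem c_act9_172 : allRange (fun i => Nat.beq (actR9 i) i) 210528 1224 = true := by decide +kernel
theorem c_act9_173 : allRange (fun i => Nat.beq (actR9 i) i) 211752 1224 = true := by decide +kernel
theorem c_act9_174 : allRange (fun i => Nat.beq (actR9 i) i) 212976 1224 = true := by decide +kernel
theorem c_act9_175 : allRange (fun i => Nat.beq (actR9 i) i) 214200 1224 = true := by decide +kernel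
theorem c_act9_176 : allRange (fun i => Nat.beq (actR9 i) i) 215424 1224 = true := by decide +kernel
theorem c_act9_177 : allRange (fun i => Nat.beq (actR9 i) i) 216648 1224 = true := by decide +kernel
theorem c_act9_178 : allRange (fun i => Nat.beq (actR9 i) i) 217872 1224 = true := by decide +kernel
theorem c_act9_179 : allRange (fun i => Nat.beq (actR9 i) i) 219096 1224 = true := by decide +kernel

end Cfsg.Agent.Lib.Helper4.TCD.HNm
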