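import Cfsg.Agent.Lib.Helper4.TCD_HNm_Acc

namespace Cfsg.Agent.Lib.Helper4.TCD.HNm

open Cfsg.Agent.Lib.Helper4.TC

set_option maxRecDepth 100000
set_option Elab.async false

theorem c_act9_180 : allRange (fun i => Nat.beq (actR9 i) i) 220320 1224 = true := by decide +kernel
theorem c_act9_181 : allRange (fun i => Nat.beq (actR9 i) i) 221544 1224 = true := by decide +kernel
theorem c_act9_182 : allRange (fun i => Nat.beq (actR9 i) i) 222768 1224 = true := by decide +kernel
theorem c_act9_183 : allRange (fun i => Nat.beq (actR9 i) i) 223992 1224 = true := by decide +kernel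
theorem c_act9_184 : allRange (fun i => Nat.beq (actR9 i) i) 225216 1224 = true := by decide +kernel
theorem c_act9_185 : allRange (fun i => Nat.beq (actR9 i) i) 226440 1224 = true := by decide +kernel
theorem c_act9_186 : allRange (fun i => Nat.beq (actR9 i) i) 227664 1224 = true := by decide +kernel
theorem c_act9_187 : allRange (fun i => Nat.beq (actR9 i) i) 228888 1224 = true := by decide +kernel
theorem c_act9_188 : allRange (fun i => Nat.beq (actR9 i) i) 230112 1224 = true := by decide +kernel
theorem c_act9_189 : allRange (fun i => Nat.beq (actR9 i) i) 231336 1224 = true := by decide +kernel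
theorem c_act9_190 : allRange (fun i => Nat.beq (actR9 i) i) 232560 1224 = true := by decide +kernel
theorem c_act9_191 : allRange (fun i => Nat.beq (actR9 i) i) 233784 1224 = true := by decide +kernel
theorem c_act9_192 : allRange (fun i => Nat.beq (actR9 i) i) 235008 1224 = true := by decide +kernel
theorem c_act9_193 : allRange (fun i => Nat.beq (actR9 i) i) 236232 1224 = true := by decide +kernel
theorem c_act9_194 : allRange (fun i => Nat.beq (actR9 i) i) 237456 1224 = true := by decide +kernel
theorem c_act9_195 : allRange (fun i => Nat.beq (actR9 i) i) 238680 1224 = true := by decide +kernel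
theorem c_act9_196 : allRange (fun i => Nat.beq (actR9 i) i) 239904 1224 = true := by decide +kernel
theorem c_act9_197 : allRange (fun i => Nat.beq (actR9 i) i) 241128 1224 = true := by decide +kernel
theorem c_act9_198 : allRange (fun i => Nat.beq (actR9 i) i) 242352 1224 = true := by decide +kernel
theorem c_act9_199 : allRange (fun i => Nat.beq (actR9 i) i) 243576 1224 = true := by decide +kernel
theorem c_act9_200 : allRange (fun i => Nat.beq (actR9 i) i) 244800 1224 = true := by decide +kernel
theorem c_act9_201 : allRange (fun i => Nat.beq (actR9 i) i) 246024 1224 = true := by decide +kernel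
theorem c_act9_202 : allRange (fun i => Nat.beq (actR9 i) i) 247248 1224 = true := by decide +kernel
theorem c_act9_203 : allRange (fun i => Nat.beq (actR9 i) i) 248472 1224 = true := by decide +kernel
theorem c_act9_204 : allRange (fun i => Nat.beq (actR9 i) i) 249696 1224 = true := by decide +kernel
theorem c_act9_205 : allRange (fun i => Nat.beq (actR9 i) i) 250920 1224 = true := by decide +kernel
theorem c_act9_206 : allRange (fun i => Nat.beq (actR9 i) i) 252144 1224 = true := by decide +kernel
theorem c_act9_207 : allRange (fun i => Nat.beq (actR9 i) i) 253368 1224 = true := by decide +kernel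
theorem c_act9_208 : allRange (fun i => Nat.beq (actR9 i) i) 254592 1224 = true := by decide +kernel
theorem c_act9_209 : allRange (fun i => Nat.beq (actR9 i) i) 255816 1224 = true := by decide +kernel
theorem c_act9_210 : allRange (fun i => Nat.beq (actR9 i) i) 257040 1224 = true := by decide +kernel
theorem c_act9_211 : allRange (fun i => Nat.beq (actR9 i) i) 258264 1224 = true := by decide +kernel
theorem c_act9_212 : allRange (fun i => Nat.beq (actR9 i) i) 259488 1224 = true := by decide +kernel
theorem c_act9_213 : allRange (fun i => Nat.beq (actR9 i) i) 260712 1224 = true := by decide +kernel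
theorem c_act9_214 : allRange (fun i => Nat.beq (actR9 i) i) 261936 1224 = true := by decide +kernel
theorem c_act9_215 : allRange (fun i => Nat.beq (actR9 i) i) 263160 1224 = true := by decide +kernel
theorem c_act9_216 : allRange (fun i => Nat.beq (actR9 i) i) 264384 1224 = true := by decide +kernel
theorem c_act9_217 : allRange (fun i => Nat.beq (actR9 i) i) 265608 1224 = true := by decide +kernel
theorem c_act9_218 : allRange (fun i => Nat.beq (actR9 i) i) 266832 1224 = true := by decide +kernel
theorem c_act9_219 : allRange (fun i => Nat.beq (actR9 i) i) 268056 1224 = true := by decide +kernel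
theorem c_act9_220 : allRange (fun i => Nat.beq (actR9 i) i) 269280 1224 = true := by decide +kernel
theorem c_act9_221 : allRange (fun i => Nat.beq (actR9 i) i) 270504 1224 = true := by decide +kernel
theorem c_act9_222 : allRange (fun i => Nat.beq (actR9 i) i) 271728 1224 = true := by decide +kernel
theorem c_act9_223 : allRange (fun i => Nat.beq (actR9 i) i) 272952 1224 = true := by decide +kernel
theorem c_act9_224 : allRange (fun i => Nat.beq (actR9 i) i) 274176 1224 = true := by decide +kernel
theorem c_act9_225 : allRange (fun i => Nat.beq (actR9 i) i) 275400 1224 = true := by decide +kernel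
theorem c_act9_226 : allRange (fun i => Nat.beq (actR9 i) i) 276624 1224 = true := by decide +kernel
theorem c_act9_227 : allRange (fun i => Nat.beq (actR9 i) i) 277848 1224 = true := by decide +kernel
theorem c_act9_228 : allRange (fun i => Nat.beq (actR9 i) i) 279072 1224 = true := by decide +kernel
theorem c_act9_229 : allRange (fun i => Nat.beq (actR9 i) i) 280296 1224 = true := by decide +kernel

end Cfsg.Agent.Lib.Helper4.TCD.HNm
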