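import Cfsg.Agent.Lib.Helper4.TCD_HNm_Acc

namespace Cfsg.Agent.Lib.Helper4.TCD.HNm

open Cfsg.Agent.Lib.Helper4.TC

set_option maxRecDepth 100000
set_option Elab.async false

theorem c_rel_815 : allRange D.relOK 3691415 2175 = true := by decide +kernel
theorem c_rel_816 : allRange D.relOK 3693590 2175 = true := by decide +kernel
theorem c_rel_817 : allRange D.relOK 3695765 2193 = true := by decide +kernel
theorem c_rel_818 : allRange D.relOK 3697958 2142 = true := by decide +kernel
theorem c_rel_819 : allRange D.relOK 3700100 2107 = true := by decide +kernel
theorem c_rel_820 : allRange D.relOK 3702207 2316 = true := by decide +kernel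
theorem c_rel_821 : allRange D.relOK 3704523 2011 = true := by decide +kernel
theorem c_rel_822 : allRange D.relOK 3706534 2243 = true := by decide +kernel
theorem c_rel_823 : allRange D.relOK 3708777 2259 = true := by decide +kernel
theorem c_rel_824 : allRange D.relOK 3711036 2346 = true := by decide +kernel
theorem c_rel_825 : allRange D.relOK 3713382 2224 = true := by decide +kernel
theorem c_rel_826 : allRange D.relOK 3715606 2340 = true := by decide +kernel
theorem c_rel_827 : allRange D.relOK 3717946 2432 = true := by decide +kernel
theorem c_rel_828 : allRange D.relOK 3720378 2324 = true := by decide +kernel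
theorem c_rel_829 : allRange D.relOK 3722702 2311 = true := by decide +kernel
theorem c_rel_830 : allRange D.relOK 3725013 2185 = true := by decide +kernel
theorem c_rel_831 : allRange D.relOK 3727198 2338 = true := by decide +kernel
theorem c_rel_832 : allRange D.relOK 3729536 2090 = true := by decide +kernel
theorem c_rel_833 : allRange D.relOK 3731626 2363 = true := by decide +kernel
theorem c_rel_834 : allRange D.relOK 3733989 2068 = true := by decide +kernel
theorem c_rel_835 : allRange D.relOK 3736057 2103 = true := by decide +kernel
theorem c_rel_836 : allRange D.relOK 3738160 1963 = true := by decide +kernel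
theorem c_rel_837 : allRange D.relOK 3740123 2074 = true := by decide +kernel
theorem c_rel_838 : allRange D.relOK 3742197 2220 = true := by decide +kernel
theorem c_rel_839 : allRange D.relOK 3744417 2092 = true := by decide +kernel
theorem c_rel_840 : allRange D.relOK 3746509 2074 = true := by decide +kernel
theorem c_rel_841 : allRange D.relOK 3748583 2366 = true := by decide +kernel
theorem c_rel_842 : allRange D.relOK 3750949 2126 = true := by decide +kernel
theorem c_rel_843 : allRange D.relOK 3753075 2013 = true := by decide +kernel
theorem c_rel_844 : allRange D.relOK 3755088 2105 = true := by decide +kernel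
theorem c_rel_845 : allRange D.relOK 3757193 2274 = true := by decide +kernel
theorem c_rel_846 : allRange D.relOK 3759467 2122 = true := by decide +kernel
theorem c_rel_847 : allRange D.relOK 3761589 2241 = true := by decide +kernel
theorem c_rel_848 : allRange D.relOK 3763830 2345 = true := by decide +kernel
theorem c_rel_849 : allRange D.relOK 3766175 2315 = true := by decide +kernel
theorem c_rel_850 : allRange D.relOK 3768490 2278 = true := by decide +kernel
theorem c_rel_851 : allRange D.relOK 3770768 2103 = true := by decide +kernel
theorem c_rel_852 : allRange D.relOK 3772871 2133 = true := by decide +kernel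
theorem c_rel_853 : allRange D.relOK 3775004 2107 = true := by decide +kernel
theorem c_rel_854 : allRange D.relOK 3777111 2095 = true := by decide +kernel
theorem c_rel_855 : allRange D.relOK 3779206 2115 = true := by decide +kernel
theorem c_rel_856 : allRange D.relOK 3781321 2005 = true := by decide +kernel
theorem c_rel_857 : allRange D.relOK 3783326 2157 = true := by decide +kernel
theorem c_rel_858 : allRange D.relOK 3785483 2075 = true := by decide +kernel
theorem c_rel_859 : allRange D.relOK 3787558 2069 = true := by decide +kernel
theorem c_rel_860 : allRange D.relOK 3789627 2183 = true := by decide +kernel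
theorem c_rel_861 : allRange D.relOK 3791810 2170 = true := by decide +kernel
theorem c_rel_862 : allRange D.relOK 3793980 2194 = true := by decide +kernel
theorem c_rel_863 : allRange D.relOK 3796174 2078 = true := by decide +kernel
theorem c_rel_864 : allRange D.relOK 3798252 2037 = true := by decide +kernel
theorem c_rel_865 : allRange D.relOK 3800289 2234 = true := by decide +kernel
theorem c_rel_866 : allRange D.relOK 3802523 2280 = true := by decide +kernel
theorem c_rel_867 : allRange D.relOK 3804803 2285 = true := by decide +kernel
theorem c_rel_868 : allRange D.relOK 3807088 2207 = true := by decide +kernel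
theorem c_rel_869 : allRange D.relOK 3809295 2267 = true := by decide +kernel
theorem c_rel_870 : allRange D.relOK 3811562 1934 = true := by decide +kernel
theorem c_rel_871 : allRange D.relOK 3813496 2191 = true := by decide +kernel
theorem c_rel_872 : allRange D.relOK 3815687 2047 = true := by decide +kernel
theorem c_rel_873 : allRange D.relOK 3817734 2065 = true := by decide +kernel
theorem c_rel_874 : allRange D.relOK 3819799 2495 = true := by decide +kernel
theorem c_rel_875 : allRange D.relOK 3822294 2327 = true := by decide +kernel
theorem c_rel_876 : allRange D.relOK 3824621 2144 = true := by decide +kernel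
theorem c_rel_877 : allRange D.relOK 3826765 2114 = true := by decide +kernel
theorem c_rel_878 : allRange D.relOK 3828879 2130 = true := by decide +kernel
theorem c_rel_879 : allRange D.relOK 3831009 2220 = true := by decide +kernel
theorem c_rel_880 : allRange D.relOK 3833229 2145 = true := by decide +kernel
theorem c_rel_881 : allRange D.relOK 3835374 2295 = true := by decide +kernel
theorem c_rel_882 : allRange D.relOK 3837669 2349 = true := by decide +kernel
theorem c_rel_883 : allRange D.relOK 3840018 2139 = true := by decide +kernel
theorem c_rel_884 : allRange D.relOK 3842157 2186 = true := by decide +kernel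
theorem c_rel_885 : allRange D.relOK 3844343 2074 = true := by decide +kernel
theorem c_rel_886 : allRange D.relOK 3846417 2065 = true := by decide +kernel
theorem c_rel_887 : allRange D.relOK 3848482 2102 = true := by decide +kernel
theorem c_rel_888 : allRange D.relOK 3850584 2102 = true := by decide +kernel
theorem c_rel_889 : allRange D.relOK 3852686 2051 = true := by decide +kernel
theorem c_rel_890 : allRange D.relOK 3854737 2113 = true := by decide +kernel
theorem c_rel_891 : allRange D.relOK 3856850 1940 = true := by decide +kernel
theorem c_rel_892 : allRange D.relOK 3858790 1933 = true := by decide +kernel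
theorem c_rel_893 : allRange D.relOK 3860723 2155 = true := by decide +kernel
theorem c_rel_894 : allRange D.relOK 3862878 2185 = true := by decide +kernel
theorem c_rel_895 : allRange D.relOK 3865063 2182 = true := by decide +kernel
theorem c_rel_896 : allRange D.relOK 3867245 2261 = true := by decide +kernel
theorem c_rel_897 : allRange D.relOK 3869506 2072 = true := by decide +kernel
theorem c_rel_898 : allRange D.relOK 3871578 2141 = true := by decide +kernel
theorem c_rel_899 : allRange D.relOK 3873719 2254 = true := by decide +kernel
theorem c_rel_900 : allRange D.relOK 3875973 1989 = true := by decide +kernel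
theorem c_rel_901 : allRange D.relOK 3877962 1972 = true := by decide +kernel
theorem c_rel_902 : allRange D.relOK 3879934 1955 = true := by decide +kernel
theorem c_rel_903 : allRange D.relOK 3881889 2016 = true := by decide +kernel
theorem c_rel_904 : allRange D.relOK 3883905 2118 = true := by decide +kernel
theorem c_rel_905 : allRange D.relOK 3886023 2251 = true := by decide +kernel
theorem c_rel_906 : allRange D.relOK 3888274 2044 = true := by decide +kernel
theorem c_rel_907 : allRange D.relOK 3890318 2171 = true := by decide +kernel
theorem c_rel_908 : allRange D.relOK 3892489 2080 = true := by decide +kernel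
theorem c_rel_909 : allRange D.relOK 3894569 2121 = true := by decide +kernel
theorem c_rel_910 : allRange D.relOK 3896690 2145 = true := by decide +kernel
theorem c_rel_911 : allRange D.relOK 3898835 2149 = true := by decide +kernel
theorem c_rel_912 : allRange D.relOK 3900984 1893 = true := by decide +kernel
theorem c_rel_913 : allRange D.relOK 3902877 2361 = true := by decide +kernel

end Cfsg.Agent.Lib.Helper4.TCD.HNm
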