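import Cfsg.Agent.Lib.Helper4.TCD_HNm_Acc

namespace Cfsg.Agent.Lib.Helper4.TCD.HNm

open Cfsg.Agent.Lib.Helper4.TC

set_option maxRecDepth 100000
set_option Elab.async false

theorem c_act9_280 : allRange (fun i => Nat.beq (actR9 i) i) 342720 1224 = true := by decide +kernel
theorem c_act9_281 : allRange (fun i => Nat.beq (actR9 i) i) 343944 1224 = true := by decide +kernel
theorem c_act9_282 : allRange (fun i => Nat.beq (actR9 i) i) 345168 1224 = true := by decide +kernel
theorem c_act9_283 : allRange (fun i => Nat.beq (actR9 i) i) 346392 1224 = true := by decide +kernel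
theorem c_act9_284 : allRange (fun i => Nat.beq (actR9 i) i) 347616 1224 = true := by decide +kernel
theorem c_act9_285 : allRange (fun i => Nat.beq (actR9 i) i) 348840 1224 = true := by decide +kernel
theorem c_act9_286 : allRange (fun i => Nat.beq (actR9 i) i) 350064 1224 = true := by decide +kernel
theorem c_act9_287 : allRange (fun i => Nat.beq (actR9 i) i) 351288 1224 = true := by decide +kernel
theorem c_act9_288 : allRange (fun i => Nat.beq (actR9 i) i) 352512 1224 = true := by decide +kernel
theorem c_act9_289 : allRange (fun i => Nat.beq (actR9 i) i) 353736 1224 = true := by decide +kernel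
theorem c_act9_290 : allRange (fun i => Nat.beq (actR9 i) i) 354960 1224 = true := by decide +kernel
theorem c_act9_291 : allRange (fun i => Nat.beq (actR9 i) i) 356184 1224 = true := by decide +kernel
theorem c_act9_292 : allRange (fun i => Nat.beq (actR9 i) i) 357408 1224 = true := by decide +kernel
theorem c_act9_293 : allRange (fun i => Nat.beq (actR9 i) i) 358632 1224 = true := by decide +kernel
theorem c_act9_294 : allRange (fun i => Nat.beq (actR9 i) i) 359856 1224 = true := by decide +kernel
theorem c_act9_295 : allRange (fun i => Nat.beq (actR9 i) i) 361080 1224 = true := by decide +kernel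
theorem c_act9_296 : allRange (fun i => Nat.beq (actR9 i) i) 362304 1224 = true := by decide +kernel
theorem c_act9_297 : allRange (fun i => Nat.beq (actR9 i) i) 363528 1224 = true := by decide +kernel
theorem c_act9_298 : allRange (fun i => Nat.beq (actR9 i) i) 364752 1224 = true := by decide +kernel
theorem c_act9_299 : allRange (fun i => Nat.beq (actR9 i) i) 365976 1224 = true := by decide +kernel
theorem c_act9_300 : allRange (fun i => Nat.beq (actR9 i) i) 367200 1224 = true := by decide +kernel
theorem c_act9_301 : allRange (fun i => Nat.beq (actR9 i) i) 368424 1224 = true := by decide +kernel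
theorem c_act9_302 : allRange (fun i => Nat.beq (actR9 i) i) 369648 1224 = true := by decide +kernel
theorem c_act9_303 : allRange (fun i => Nat.beq (actR9 i) i) 370872 1224 = true := by decide +kernel
theorem c_act9_304 : allRange (fun i => Nat.beq (actR9 i) i) 372096 1224 = true := by decide +kernel
theorem c_act9_305 : allRange (fun i => Nat.beq (actR9 i) i) 373320 1224 = true := by decide +kernel
theorem c_act9_306 : allRange (fun i => Nat.beq (actR9 i) i) 374544 1224 = true := by decide +kernel
theorem c_act9_307 : allRange (fun i => Nat.beq (actR9 i) i) 375768 1224 = true := by decide +kernel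
theorem c_act9_308 : allRange (fun i => Nat.beq (actR9 i) i) 376992 1224 = true := by decide +kernel
theorem c_act9_309 : allRange (fun i => Nat.beq (actR9 i) i) 378216 1224 = true := by decide +kernel
theorem c_act9_310 : allRange (fun i => Nat.beq (actR9 i) i) 379440 1224 = true := by decide +kernel
theorem c_act9_311 : allRange (fun i => Nat.beq (actR9 i) i) 380664 1224 = true := by decide +kernel
theorem c_act9_312 : allRange (fun i => Nat.beq (actR9 i) i) 381888 1224 = true := by decide +kernel
theorem c_act9_313 : allRange (fun i => Nat.beq (actR9 i) i) 383112 1224 = true := by decide +kernel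
theorem c_act9_314 : allRange (fun i => Nat.beq (actR9 i) i) 384336 1224 = true := by decide +kernel
theorem c_act9_315 : allRange (fun i => Nat.beq (actR9 i) i) 385560 1224 = true := by decide +kernel
theorem c_act9_316 : allRange (fun i => Nat.beq (actR9 i) i) 386784 1224 = true := by decide +kernel
theorem c_act9_317 : allRange (fun i => Nat.beq (actR9 i) i) 388008 1224 = true := by decide +kernel
theorem c_act9_318 : allRange (fun i => Nat.beq (actR9 i) i) 389232 1224 = true := by decide +kernel
theorem c_act9_319 : allRange (fun i => Nat.beq (actR9 i) i) 390456 1224 = true := by decide +kernel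
theorem c_act9_320 : allRange (fun i => Nat.beq (actR9 i) i) 391680 1224 = true := by decide +kernel
theorem c_act9_321 : allRange (fun i => Nat.beq (actR9 i) i) 392904 1224 = true := by decide +kernel
theorem c_act9_322 : allRange (fun i => Nat.beq (actR9 i) i) 394128 1224 = true := by decide +kernel
theorem c_act9_323 : allRange (fun i => Nat.beq (actR9 i) i) 395352 1224 = true := by decide +kernel
theorem c_act9_324 : allRange (fun i => Nat.beq (actR9 i) i) 396576 1224 = true := by decide +kernel
theorem c_act9_325 : allRange (fun i => Nat.beq (actR9 i) i) 397800 1224 = true := by decide +kernel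
theorem c_act9_326 : allRange (fun i => Nat.beq (actR9 i) i) 399024 1224 = true := by decide +kernel
theorem c_act9_327 : allRange (fun i => Nat.beq (actR9 i) i) 400248 1224 = true := by decide +kernel
theorem c_act9_328 : allRange (fun i => Nat.beq (actR9 i) i) 401472 1224 = true := by decide +kernel
theorem c_act9_329 : allRange (fun i => Nat.beq (actR9 i) i) 402696 1224 = true := by decide +kernel

end Cfsg.Agent.Lib.Helper4.TCD.HNm
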