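import Cfsg.Agent.Lib.Helper4.TCD_HNm_Acc

namespace Cfsg.Agent.Lib.Helper4.TCD.HNm

open Cfsg.Agent.Lib.Helper4.TC

set_option maxRecDepth 100000
set_option Elab.async false

theorem c_act9_330 : allRange (fun i => Nat.beq (actR9 i) i) 403920 1224 = true := by decide +kernel
theorem c_act9_331 : allRange (fun i => Nat.beq (actR9 i) i) 405144 1224 = true := by decide +kernel
theorem c_act9_332 : allRange (fun i => Nat.beq (actR9 i) i) 406368 1224 = true := by decide +kernel
theorem c_act9_333 : allRange (fun i => Nat.beq (actR9 i) i) 407592 1224 = true := by decide +kernel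
theorem c_act9_334 : allRange (fun i => Nat.beq (actR9 i) i) 408816 1224 = true := by decide +kernel
theorem c_act9_335 : allRange (fun i => Nat.beq (actR9 i) i) 410040 1224 = true := by decide +kernel
theorem c_act9_336 : allRange (fun i => Nat.beq (actR9 i) i) 411264 1224 = true := by decide +kernel
theorem c_act9_337 : allRange (fun i => Nat.beq (actR9 i) i) 412488 1224 = true := by decide +kernel
theorem c_act9_338 : allRange (fun i => Nat.beq (actR9 i) i) 413712 1224 = true := by decide +kernel
theorem c_act9_339 : allRange (fun i => Nat.beq (actR9 i) i) 414936 1224 = true := by decide +kernel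
theorem c_act9_340 : allRange (fun i => Nat.beq (actR9 i) i) 416160 1224 = true := by decide +kernel
theorem c_act9_341 : allRange (fun i => Nat.beq (actR9 i) i) 417384 1224 = true := by decide +kernel
theorem c_act9_342 : allRange (fun i => Nat.beq (actR9 i) i) 418608 1224 = true := by decide +kernel
theorem c_act9_343 : allRange (fun i => Nat.beq (actR9 i) i) 419832 1224 = true := by decide +kernel
theorem c_act9_344 : allRange (fun i => Nat.beq (actR9 i) i) 421056 1224 = true := by decide +kernel
theorem c_act9_345 : allRange (fun i => Nat.beq (actR9 i) i) 422280 1224 = true := by decide +kernel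
theorem c_act9_346 : allRange (fun i => Nat.beq (actR9 i) i) 423504 1224 = true := by decide +kernel
theorem c_act9_347 : allRange (fun i => Nat.beq (actR9 i) i) 424728 1224 = true := by decide +kernel
theorem c_act9_348 : allRange (fun i => Nat.beq (actR9 i) i) 425952 1224 = true := by decide +kernel
theorem c_act9_349 : allRange (fun i => Nat.beq (actR9 i) i) 427176 1224 = true := by decide +kernel
theorem c_act9_350 : allRange (fun i => Nat.beq (actR9 i) i) 428400 1224 = true := by decide +kernel
theorem c_act9_351 : allRange (fun i => Nat.beq (actR9 i) i) 429624 1224 = true := by decide +kernel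
theorem c_act9_352 : allRange (fun i => Nat.beq (actR9 i) i) 430848 1224 = true := by decide +kernel
theorem c_act9_353 : allRange (fun i => Nat.beq (actR9 i) i) 432072 1224 = true := by decide +kernel
theorem c_act9_354 : allRange (fun i => Nat.beq (actR9 i) i) 433296 1224 = true := by decide +kernel
theorem c_act9_355 : allRange (fun i => Nat.beq (actR9 i) i) 434520 1224 = true := by decide +kernel
theorem c_act9_356 : allRange (fun i => Nat.beq (actR9 i) i) 435744 1224 = true := by decide +kernel
theorem c_act9_357 : allRange (fun i => Nat.beq (actR9 i) i) 436968 1224 = true := by decide +kernel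
theorem c_act9_358 : allRange (fun i => Nat.beq (actR9 i) i) 438192 1224 = true := by decide +kernel
theorem c_act9_359 : allRange (fun i => Nat.beq (actR9 i) i) 439416 1224 = true := by decide +kernel
theorem c_act9_360 : allRange (fun i => Nat.beq (actR9 i) i) 440640 1224 = true := by decide +kernel
theorem c_act9_361 : allRange (fun i => Nat.beq (actR9 i) i) 441864 1224 = true := by decide +kernel
theorem c_act9_362 : allRange (fun i => Nat.beq (actR9 i) i) 443088 1224 = true := by decide +kernel
theorem c_act9_363 : allRange (fun i => Nat.beq (actR9 i) i) 444312 1224 = true := by decide +kernel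
theorem c_act9_364 : allRange (fun i => Nat.beq (actR9 i) i) 445536 1224 = true := by decide +kernel
theorem c_act9_365 : allRange (fun i => Nat.beq (actR9 i) i) 446760 1224 = true := by decide +kernel
theorem c_act9_366 : allRange (fun i => Nat.beq (actR9 i) i) 447984 1224 = true := by decide +kernel
theorem c_act9_367 : allRange (fun i => Nat.beq (actR9 i) i) 449208 1224 = true := by decide +kernel
theorem c_act9_368 : allRange (fun i => Nat.beq (actR9 i) i) 450432 1224 = true := by decide +kernel
theorem c_act9_369 : allRange (fun i => Nat.beq (actR9 i) i) 451656 1224 = true := by decide +kernel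
theorem c_act9_370 : allRange (fun i => Nat.beq (actR9 i) i) 452880 1224 = true := by decide +kernel
theorem c_act9_371 : allRange (fun i => Nat.beq (actR9 i) i) 454104 1224 = true := by decide +kernel
theorem c_act9_372 : allRange (fun i => Nat.beq (actR9 i) i) 455328 1224 = true := by decide +kernel
theorem c_act9_373 : allRange (fun i => Nat.beq (actR9 i) i) 456552 1224 = true := by decide +kernel
theorem c_act9_374 : allRange (fun i => Nat.beq (actR9 i) i) 457776 1224 = true := by decide +kernel
theorem c_act9_375 : allRange (fun i => Nat.beq (actR9 i) i) 459000 1224 = true := by decide +kernel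
theorem c_act9_376 : allRange (fun i => Nat.beq (actR9 i) i) 460224 1224 = true := by decide +kernel
theorem c_act9_377 : allRange (fun i => Nat.beq (actR9 i) i) 461448 1224 = true := by decide +kernel
theorem c_act9_378 : allRange (fun i => Nat.beq (actR9 i) i) 462672 1224 = true := by decide +kernel
theorem c_act9_379 : allRange (fun i => Nat.beq (actR9 i) i) 463896 1224 = true := by decide +kernel

end Cfsg.Agent.Lib.Helper4.TCD.HNm
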