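import Cfsg.Agent.Lib.Helper4.TCD_HNm_Acc

namespace Cfsg.Agent.Lib.Helper4.TCD.HNm

open Cfsg.Agent.Lib.Helper4.TC

set_option maxRecDepth 100000
set_option Elab.async false

theorem c_act9_380 : allRange (fun i => Nat.beq (actR9 i) i) 465120 1224 = true := by decide +kernel
theorem c_act9_381 : allRange (fun i => Nat.beq (actR9 i) i) 466344 1224 = true := by decide +kernel
theorem c_act9_382 : allRange (fun i => Nat.beq (actR9 i) i) 467568 1224 = true := by decide +kernel
theorem c_act9_383 : allRange (fun i => Nat.beq (actR9 i) i) 468792 1224 = true := by decide +kernel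
theorem c_act9_384 : allRange (fun i => Nat.beq (actR9 i) i) 470016 1224 = true := by decide +kernel
theorem c_act9_385 : allRange (fun i => Nat.beq (actR9 i) i) 471240 1224 = true := by decide +kernel
theorem c_act9_386 : allRange (fun i => Nat.beq (actR9 i) i) 472464 1224 = true := by decide +kernel
theorem c_act9_387 : allRange (fun i => Nat.beq (actR9 i) i) 473688 1224 = true := by decide +kernel
theorem c_act9_388 : allRange (fun i => Nat.beq (actR9 i) i) 474912 1224 = true := by decide +kernel
theorem c_act9_389 : allRange (fun i => Nat.beq (actR9 i) i) 476136 1224 = true := by decide +kernel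
theorem c_act9_390 : allRange (fun i => Nat.beq (actR9 i) i) 477360 1224 = true := by decide +kernel
theorem c_act9_391 : allRange (fun i => Nat.beq (actR9 i) i) 478584 1224 = true := by decide +kernel
theorem c_act9_392 : allRange (fun i => Nat.beq (actR9 i) i) 479808 1224 = true := by decide +kernel
theorem c_act9_393 : allRange (fun i => Nat.beq (actR9 i) i) 481032 1224 = true := by decide +kernel
theorem c_act9_394 : allRange (fun i => Nat.beq (actR9 i) i) 482256 1224 = true := by decide +kernel
theorem c_act9_395 : allRange (fun i => Nat.beq (actR9 i) i) 483480 1224 = true := by decide +kernel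
theorem c_act9_396 : allRange (fun i => Nat.beq (actR9 i) i) 484704 1224 = true := by decide +kernel
theorem c_act9_397 : allRange (fun i => Nat.beq (actR9 i) i) 485928 1224 = true := by decide +kernel
theorem c_act9_398 : allRange (fun i => Nat.beq (actR9 i) i) 487152 1224 = true := by decide +kernel
theorem c_act9_399 : allRange (fun i => Nat.beq (actR9 i) i) 488376 1224 = true := by decide +kernel
theorem c_act9_400 : allRange (fun i => Nat.beq (actR9 i) i) 489600 1224 = true := by decide +kernel
theorem c_act9_401 : allRange (fun i => Nat.beq (actR9 i) i) 490824 1224 = true := by decide +kernel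
theorem c_act9_402 : allRange (fun i => Nat.beq (actR9 i) i) 492048 1224 = true := by decide +kernel
theorem c_act9_403 : allRange (fun i => Nat.beq (actR9 i) i) 493272 1224 = true := by decide +kernel
theorem c_act9_404 : allRange (fun i => Nat.beq (actR9 i) i) 494496 1224 = true := by decide +kernel
theorem c_act9_405 : allRange (fun i => Nat.beq (actR9 i) i) 495720 1224 = true := by decide +kernel
theorem c_act9_406 : allRange (fun i => Nat.beq (actR9 i) i) 496944 1224 = true := by decide +kernel
theorem c_act9_407 : allRange (fun i => Nat.beq (actR9 i) i) 498168 1224 = true := by decide +kernel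
theorem c_act9_408 : allRange (fun i => Nat.beq (actR9 i) i) 499392 1224 = true := by decide +kernel
theorem c_act9_409 : allRange (fun i => Nat.beq (actR9 i) i) 500616 1224 = true := by decide +kernel
theorem c_act9_410 : allRange (fun i => Nat.beq (actR9 i) i) 501840 1224 = true := by decide +kernel
theorem c_act9_411 : allRange (fun i => Nat.beq (actR9 i) i) 503064 1224 = true := by decide +kernel
theorem c_act9_412 : allRange (fun i => Nat.beq (actR9 i) i) 504288 1224 = true := by decide +kernel
theorem c_act9_413 : allRange (fun i => Nat.beq (actR9 i) i) 505512 1224 = true := by decide +kernel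
theorem c_act9_414 : allRange (fun i => Nat.beq (actR9 i) i) 506736 1224 = true := by decide +kernel
theorem c_act9_415 : allRange (fun i => Nat.beq (actR9 i) i) 507960 1224 = true := by decide +kernel
theorem c_act9_416 : allRange (fun i => Nat.beq (actR9 i) i) 509184 1224 = true := by decide +kernel
theorem c_act9_417 : allRange (fun i => Nat.beq (actR9 i) i) 510408 1224 = true := by decide +kernel
theorem c_act9_418 : allRange (fun i => Nat.beq (actR9 i) i) 511632 1224 = true := by decide +kernel
theorem c_act9_419 : allRange (fun i => Nat.beq (actR9 i) i) 512856 1224 = true := by decide +kernel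
theorem c_act9_420 : allRange (fun i => Nat.beq (actR9 i) i) 514080 1224 = true := by decide +kernel
theorem c_act9_421 : allRange (fun i => Nat.beq (actR9 i) i) 515304 1224 = true := by decide +kernel
theorem c_act9_422 : allRange (fun i => Nat.beq (actR9 i) i) 516528 1224 = true := by decide +kernel
theorem c_act9_423 : allRange (fun i => Nat.beq (actR9 i) i) 517752 1224 = true := by decide +kernel
theorem c_act9_424 : allRange (fun i => Nat.beq (actR9 i) i) 518976 1224 = true := by decide +kernel
theorem c_act9_425 : allRange (fun i => Nat.beq (actR9 i) i) 520200 1224 = true := by decide +kernel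
theorem c_act9_426 : allRange (fun i => Nat.beq (actR9 i) i) 521424 1224 = true := by decide +kernel
theorem c_act9_427 : allRange (fun i => Nat.beq (actR9 i) i) 522648 1224 = true := by decide +kernel
theorem c_act9_428 : allRange (fun i => Nat.beq (actR9 i) i) 523872 1224 = true := by decide +kernel
theorem c_act9_429 : allRange (fun i => Nat.beq (actR9 i) i) 525096 1224 = true := by decide +kernel

end Cfsg.Agent.Lib.Helper4.TCD.HNm
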