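import Cfsg.Agent.Lib.Helper4.TCD_HNm_Acc

namespace Cfsg.Agent.Lib.Helper4.TCD.HNm

open Cfsg.Agent.Lib.Helper4.TC

set_option maxRecDepth 100000
set_option Elab.async false

theorem c_act9_430 : allRange (fun i => Nat.beq (actR9 i) i) 526320 1224 = true := by decide +kernel
theorem c_act9_431 : allRange (fun i => Nat.beq (actR9 i) i) 527544 1224 = true := by decide +kernel
theorem c_act9_432 : allRange (fun i => Nat.beq (actR9 i) i) 528768 1224 = true := by decide +kernel
theorem c_act9_433 : allRange (fun i => Nat.beq (actR9 i) i) 529992 1224 = true := by decide +kernel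
theorem c_act9_434 : allRange (fun i => Nat.beq (actR9 i) i) 531216 1224 = true := by decide +kernel
theorem c_act9_435 : allRange (fun i => Nat.beq (actR9 i) i) 532440 1224 = true := by decide +kernel
theorem c_act9_436 : allRange (fun i => Nat.beq (actR9 i) i) 533664 1224 = true := by decide +kernel
theorem c_act9_437 : allRange (fun i => Nat.beq (actR9 i) i) 534888 1224 = true := by decide +kernel
theorem c_act9_438 : allRange (fun i => Nat.beq (actR9 i) i) 536112 1224 = true := by decide +kernel
theorem c_act9_439 : allRange (fun i => Nat.beq (actR9 i) i) 537336 1224 = true := by decide +kernel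
theorem c_act9_440 : allRange (fun i => Nat.beq (actR9 i) i) 538560 1224 = true := by decide +kernel
theorem c_act9_441 : allRange (fun i => Nat.beq (actR9 i) i) 539784 1224 = true := by decide +kernel
theorem c_act9_442 : allRange (fun i => Nat.beq (actR9 i) i) 541008 1224 = true := by decide +kernel
theorem c_act9_443 : allRange (fun i => Nat.beq (actR9 i) i) 542232 1224 = true := by decide +kernel
theorem c_act9_444 : allRange (fun i => Nat.beq (actR9 i) i) 543456 1224 = true := by decide +kernel
theorem c_act9_445 : allRange (fun i => Nat.beq (actR9 i) i) 544680 1224 = true := by decide +kernel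
theorem c_act9_446 : allRange (fun i => Nat.beq (actR9 i) i) 545904 1224 = true := by decide +kernel
theorem c_act9_447 : allRange (fun i => Nat.beq (actR9 i) i) 547128 1224 = true := by decide +kernel
theorem c_act9_448 : allRange (fun i => Nat.beq (actR9 i) i) 548352 1224 = true := by decide +kernel
theorem c_act9_449 : allRange (fun i => Nat.beq (actR9 i) i) 549576 1224 = true := by decide +kernel
theorem c_act9_450 : allRange (fun i => Nat.beq (actR9 i) i) 550800 1224 = true := by decide +kernel
theorem c_act9_451 : allRange (fun i => Nat.beq (actR9 i) i) 552024 1224 = true := by decide +kernel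
theorem c_act9_452 : allRange (fun i => Nat.beq (actR9 i) i) 553248 1224 = true := by decide +kernel
theorem c_act9_453 : allRange (fun i => Nat.beq (actR9 i) i) 554472 1224 = true := by decide +kernel
theorem c_act9_454 : allRange (fun i => Nat.beq (actR9 i) i) 555696 1224 = true := by decide +kernel
theorem c_act9_455 : allRange (fun i => Nat.beq (actR9 i) i) 556920 1224 = true := by decide +kernel
theorem c_act9_456 : allRange (fun i => Nat.beq (actR9 i) i) 558144 1224 = true := by decide +kernel
theorem c_act9_457 : allRange (fun i => Nat.beq (actR9 i) i) 559368 1224 = true := by decide +kernel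
theorem c_act9_458 : allRange (fun i => Nat.beq (actR9 i) i) 560592 1224 = true := by decide +kernel
theorem c_act9_459 : allRange (fun i => Nat.beq (actR9 i) i) 561816 1224 = true := by decide +kernel
theorem c_act9_460 : allRange (fun i => Nat.beq (actR9 i) i) 563040 1224 = true := by decide +kernel
theorem c_act9_461 : allRange (fun i => Nat.beq (actR9 i) i) 564264 1224 = true := by decide +kernel
theorem c_act9_462 : allRange (fun i => Nat.beq (actR9 i) i) 565488 1224 = true := by decide +kernel
theorem c_act9_463 : allRange (fun i => Nat.beq (actR9 i) i) 566712 1224 = true := by decide +kernel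
theorem c_act9_464 : allRange (fun i => Nat.beq (actR9 i) i) 567936 1224 = true := by decide +kernel
theorem c_act9_465 : allRange (fun i => Nat.beq (actR9 i) i) 569160 1224 = true := by decide +kernel
theorem c_act9_466 : allRange (fun i => Nat.beq (actR9 i) i) 570384 1224 = true := by decide +kernel
theorem c_act9_467 : allRange (fun i => Nat.beq (actR9 i) i) 571608 1224 = true := by decide +kernel
theorem c_act9_468 : allRange (fun i => Nat.beq (actR9 i) i) 572832 1224 = true := by decide +kernel
theorem c_act9_469 : allRange (fun i => Nat.beq (actR9 i) i) 574056 1224 = true := by decide +kernel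
theorem c_act9_470 : allRange (fun i => Nat.beq (actR9 i) i) 575280 1224 = true := by decide +kernel
theorem c_act9_471 : allRange (fun i => Nat.beq (actR9 i) i) 576504 1224 = true := by decide +kernel
theorem c_act9_472 : allRange (fun i => Nat.beq (actR9 i) i) 577728 1224 = true := by decide +kernel
theorem c_act9_473 : allRange (fun i => Nat.beq (actR9 i) i) 578952 1224 = true := by decide +kernel
theorem c_act9_474 : allRange (fun i => Nat.beq (actR9 i) i) 580176 1224 = true := by decide +kernel
theorem c_act9_475 : allRange (fun i => Nat.beq (actR9 i) i) 581400 1224 = true := by decide +kernel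
theorem c_act9_476 : allRange (fun i => Nat.beq (actR9 i) i) 582624 1224 = true := by decide +kernel
theorem c_act9_477 : allRange (fun i => Nat.beq (actR9 i) i) 583848 1224 = true := by decide +kernel
theorem c_act9_478 : allRange (fun i => Nat.beq (actR9 i) i) 585072 1224 = true := by decide +kernel
theorem c_act9_479 : allRange (fun i => Nat.beq (actR9 i) i) 586296 1224 = true := by decide +kernel

end Cfsg.Agent.Lib.Helper4.TCD.HNm
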