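import Cfsg.Agent.Lib.Helper4.TCD_HNm_Acc

namespace Cfsg.Agent.Lib.Helper4.TCD.HNm

open Cfsg.Agent.Lib.Helper4.TC

set_option maxRecDepth 100000
set_option Elab.async false

theorem c_act9_480 : allRange (fun i => Nat.beq (actR9 i) i) 587520 1224 = true := by decide +kernel
theorem c_act9_481 : allRange (fun i => Nat.beq (actR9 i) i) 588744 1224 = true := by decide +kernel
theorem c_act9_482 : allRange (fun i => Nat.beq (actR9 i) i) 589968 1224 = true := by decide +kernel
theorem c_act9_483 : allRange (fun i => Nat.beq (actR9 i) i) 591192 1224 = true := by decide +kernel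
theorem c_act9_484 : allRange (fun i => Nat.beq (actR9 i) i) 592416 1224 = true := by decide +kernel
theorem c_act9_485 : allRange (fun i => Nat.beq (actR9 i) i) 593640 1224 = true := by decide +kernel
theorem c_act9_486 : allRange (fun i => Nat.beq (actR9 i) i) 594864 1224 = true := by decide +kernel
theorem c_act9_487 : allRange (fun i => Nat.beq (actR9 i) i) 596088 1224 = true := by decide +kernel
theorem c_act9_488 : allRange (fun i => Nat.beq (actR9 i) i) 597312 1224 = true := by decide +kernel
theorem c_act9_489 : allRange (fun i => Nat.beq (actR9 i) i) 598536 1224 = true := by decide +kernel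
theorem c_act9_490 : allRange (fun i => Nat.beq (actR9 i) i) 599760 1224 = true := by decide +kernel
theorem c_act9_491 : allRange (fun i => Nat.beq (actR9 i) i) 600984 1224 = true := by decide +kernel
theorem c_act9_492 : allRange (fun i => Nat.beq (actR9 i) i) 602208 1224 = true := by decide +kernel
theorem c_act9_493 : allRange (fun i => Nat.beq (actR9 i) i) 603432 1224 = true := by decide +kernel
theorem c_act9_494 : allRange (fun i => Nat.beq (actR9 i) i) 604656 1224 = true := by decide +kernel
theorem c_act9_495 : allRange (fun i => Nat.beq (actR9 i) i) 605880 1224 = true := by decide +kernel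
theorem c_act9_496 : allRange (fun i => Nat.beq (actR9 i) i) 607104 1224 = true := by decide +kernel
theorem c_act9_497 : allRange (fun i => Nat.beq (actR9 i) i) 608328 1224 = true := by decide +kernel
theorem c_act9_498 : allRange (fun i => Nat.beq (actR9 i) i) 609552 1224 = true := by decide +kernel
theorem c_act9_499 : allRange (fun i => Nat.beq (actR9 i) i) 610776 1224 = true := by decide +kernel
theorem c_act9_500 : allRange (fun i => Nat.beq (actR9 i) i) 612000 1224 = true := by decide +kernel
theorem c_act9_501 : allRange (fun i => Nat.beq (actR9 i) i) 613224 1224 = true := by decide +kernel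
theorem c_act9_502 : allRange (fun i => Nat.beq (actR9 i) i) 614448 1224 = true := by decide +kernel
theorem c_act9_503 : allRange (fun i => Nat.beq (actR9 i) i) 615672 1224 = true := by decide +kernel
theorem c_act9_504 : allRange (fun i => Nat.beq (actR9 i) i) 616896 1224 = true := by decide +kernel
theorem c_act9_505 : allRange (fun i => Nat.beq (actR9 i) i) 618120 1224 = true := by decide +kernel
theorem c_act9_506 : allRange (fun i => Nat.beq (actR9 i) i) 619344 1224 = true := by decide +kernel
theorem c_act9_507 : allRange (fun i => Nat.beq (actR9 i) i) 620568 1224 = true := by decide +kernel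
theorem c_act9_508 : allRange (fun i => Nat.beq (actR9 i) i) 621792 1224 = true := by decide +kernel
theorem c_act9_509 : allRange (fun i => Nat.beq (actR9 i) i) 623016 1224 = true := by decide +kernel
theorem c_act9_510 : allRange (fun i => Nat.beq (actR9 i) i) 624240 1224 = true := by decide +kernel
theorem c_act9_511 : allRange (fun i => Nat.beq (actR9 i) i) 625464 1224 = true := by decide +kernel
theorem c_act9_512 : allRange (fun i => Nat.beq (actR9 i) i) 626688 1224 = true := by decide +kernel
theorem c_act9_513 : allRange (fun i => Nat.beq (actR9 i) i) 627912 1224 = true := by decide +kernel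
theorem c_act9_514 : allRange (fun i => Nat.beq (actR9 i) i) 629136 1224 = true := by decide +kernel
theorem c_act9_515 : allRange (fun i => Nat.beq (actR9 i) i) 630360 1224 = true := by decide +kernel
theorem c_act9_516 : allRange (fun i => Nat.beq (actR9 i) i) 631584 1224 = true := by decide +kernel
theorem c_act9_517 : allRange (fun i => Nat.beq (actR9 i) i) 632808 1224 = true := by decide +kernel
theorem c_act9_518 : allRange (fun i => Nat.beq (actR9 i) i) 634032 1224 = true := by decide +kernel
theorem c_act9_519 : allRange (fun i => Nat.beq (actR9 i) i) 635256 1224 = true := by decide +kernel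
theorem c_act9_520 : allRange (fun i => Nat.beq (actR9 i) i) 636480 1224 = true := by decide +kernel
theorem c_act9_521 : allRange (fun i => Nat.beq (actR9 i) i) 637704 1224 = true := by decide +kernel
theorem c_act9_522 : allRange (fun i => Nat.beq (actR9 i) i) 638928 1224 = true := by decide +kernel
theorem c_act9_523 : allRange (fun i => Nat.beq (actR9 i) i) 640152 1224 = true := by decide +kernel
theorem c_act9_524 : allRange (fun i => Nat.beq (actR9 i) i) 641376 1224 = true := by decide +kernel
theorem c_act9_525 : allRange (fun i => Nat.beq (actR9 i) i) 642600 1224 = true := by decide +kernel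
theorem c_act9_526 : allRange (fun i => Nat.beq (actR9 i) i) 643824 1224 = true := by decide +kernel
theorem c_act9_527 : allRange (fun i => Nat.beq (actR9 i) i) 645048 1224 = true := by decide +kernel
theorem c_act9_528 : allRange (fun i => Nat.beq (actR9 i) i) 646272 1224 = true := by decide +kernel
theorem c_act9_529 : allRange (fun i => Nat.beq (actR9 i) i) 647496 1224 = true := by decide +kernel

end Cfsg.Agent.Lib.Helper4.TCD.HNm
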