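import Cfsg.Agent.Lib.Helper4.TCD_HNm_Acc

namespace Cfsg.Agent.Lib.Helper4.TCD.HNm

open Cfsg.Agent.Lib.Helper4.TC

set_option maxRecDepth 100000
set_option Elab.async false

theorem c_act9_530 : allRange (fun i => Nat.beq (actR9 i) i) 648720 1224 = true := by decide +kernel
theorem c_act9_531 : allRange (fun i => Nat.beq (actR9 i) i) 649944 1224 = true := by decide +kernel
theorem c_act9_532 : allRange (fun i => Nat.beq (actR9 i) i) 651168 1224 = true := by decide +kernel
theorem c_act9_533 : allRange (fun i => Nat.beq (actR9 i) i) 652392 1224 = true := by decide +kernel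
theorem c_act9_534 : allRange (fun i => Nat.beq (actR9 i) i) 653616 1224 = true := by decide +kernel
theorem c_act9_535 : allRange (fun i => Nat.beq (actR9 i) i) 654840 1224 = true := by decide +kernel
theorem c_act9_536 : allRange (fun i => Nat.beq (actR9 i) i) 656064 1224 = true := by decide +kernel
theorem c_act9_537 : allRange (fun i => Nat.beq (actR9 i) i) 657288 1224 = true := by decide +kernel
theorem c_act9_538 : allRange (fun i => Nat.beq (actR9 i) i) 658512 1224 = true := by decide +kernel
theorem c_act9_539 : allRange (fun i => Nat.beq (actR9 i) i) 659736 1224 = true := by decide +kernel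
theorem c_act9_540 : allRange (fun i => Nat.beq (actR9 i) i) 660960 1224 = true := by decide +kernel
theorem c_act9_541 : allRange (fun i => Nat.beq (actR9 i) i) 662184 1224 = true := by decide +kernel
theorem c_act9_542 : allRange (fun i => Nat.beq (actR9 i) i) 663408 1224 = true := by decide +kernel
theorem c_act9_543 : allRange (fun i => Nat.beq (actR9 i) i) 664632 1224 = true := by decide +kernel
theorem c_act9_544 : allRange (fun i => Nat.beq (actR9 i) i) 665856 1224 = true := by decide +kernel
theorem c_act9_545 : allRange (fun i => Nat.beq (actR9 i) i) 667080 1224 = true := by decide +kernel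
theorem c_act9_546 : allRange (fun i => Nat.beq (actR9 i) i) 668304 1224 = true := by decide +kernel
theorem c_act9_547 : allRange (fun i => Nat.beq (actR9 i) i) 669528 1224 = true := by decide +kernel
theorem c_act9_548 : allRange (fun i => Nat.beq (actR9 i) i) 670752 1224 = true := by decide +kernel
theorem c_act9_549 : allRange (fun i => Nat.beq (actR9 i) i) 671976 1224 = true := by decide +kernel
theorem c_act9_550 : allRange (fun i => Nat.beq (actR9 i) i) 673200 1224 = true := by decide +kernel
theorem c_act9_551 : allRange (fun i => Nat.beq (actR9 i) i) 674424 1224 = true := by decide +kernel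
theorem c_act9_552 : allRange (fun i => Nat.beq (actR9 i) i) 675648 1224 = true := by decide +kernel
theorem c_act9_553 : allRange (fun i => Nat.beq (actR9 i) i) 676872 1224 = true := by decide +kernel
theorem c_act9_554 : allRange (fun i => Nat.beq (actR9 i) i) 678096 1224 = true := by decide +kernel
theorem c_act9_555 : allRange (fun i => Nat.beq (actR9 i) i) 679320 1224 = true := by decide +kernel
theorem c_act9_556 : allRange (fun i => Nat.beq (actR9 i) i) 680544 1224 = true := by decide +kernel
theorem c_act9_557 : allRange (fun i => Nat.beq (actR9 i) i) 681768 1224 = true := by decide +kernel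
theorem c_act9_558 : allRange (fun i => Nat.beq (actR9 i) i) 682992 1224 = true := by decide +kernel
theorem c_act9_559 : allRange (fun i => Nat.beq (actR9 i) i) 684216 1224 = true := by decide +kernel
theorem c_act9_560 : allRange (fun i => Nat.beq (actR9 i) i) 685440 1224 = true := by decide +kernel
theorem c_act9_561 : allRange (fun i => Nat.beq (actR9 i) i) 686664 1224 = true := by decide +kernel
theorem c_act9_562 : allRange (fun i => Nat.beq (actR9 i) i) 687888 1224 = true := by decide +kernel
theorem c_act9_563 : allRange (fun i => Nat.beq (actR9 i) i) 689112 1224 = true := by decide +kernel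
theorem c_act9_564 : allRange (fun i => Nat.beq (actR9 i) i) 690336 1224 = true := by decide +kernel
theorem c_act9_565 : allRange (fun i => Nat.beq (actR9 i) i) 691560 1224 = true := by decide +kernel
theorem c_act9_566 : allRange (fun i => Nat.beq (actR9 i) i) 692784 1224 = true := by decide +kernel
theorem c_act9_567 : allRange (fun i => Nat.beq (actR9 i) i) 694008 1224 = true := by decide +kernel
theorem c_act9_568 : allRange (fun i => Nat.beq (actR9 i) i) 695232 1224 = true := by decide +kernel
theorem c_act9_569 : allRange (fun i => Nat.beq (actR9 i) i) 696456 1224 = true := by decide +kernel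
theorem c_act9_570 : allRange (fun i => Nat.beq (actR9 i) i) 697680 1224 = true := by decide +kernel
theorem c_act9_571 : allRange (fun i => Nat.beq (actR9 i) i) 698904 1224 = true := by decide +kernel
theorem c_act9_572 : allRange (fun i => Nat.beq (actR9 i) i) 700128 1224 = true := by decide +kernel
theorem c_act9_573 : allRange (fun i => Nat.beq (actR9 i) i) 701352 1224 = true := by decide +kernel
theorem c_act9_574 : allRange (fun i => Nat.beq (actR9 i) i) 702576 1224 = true := by decide +kernel
theorem c_act9_575 : allRange (fun i => Nat.beq (actR9 i) i) 703800 1224 = true := by decide +kernel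
theorem c_act9_576 : allRange (fun i => Nat.beq (actR9 i) i) 705024 1224 = true := by decide +kernel
theorem c_act9_577 : allRange (fun i => Nat.beq (actR9 i) i) 706248 1224 = true := by decide +kernel
theorem c_act9_578 : allRange (fun i => Nat.beq (actR9 i) i) 707472 1224 = true := by decide +kernel
theorem c_act9_579 : allRange (fun i => Nat.beq (actR9 i) i) 708696 1224 = true := by decide +kernel

end Cfsg.Agent.Lib.Helper4.TCD.HNm
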