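import Cfsg.Agent.Lib.Helper4.TCD_HNm_Acc

namespace Cfsg.Agent.Lib.Helper4.TCD.HNm

open Cfsg.Agent.Lib.Helper4.TC

set_option maxRecDepth 100000
set_option Elab.async false

theorem c_act9_580 : allRange (fun i => Nat.beq (actR9 i) i) 709920 1224 = true := by decide +kernel
theorem c_act9_581 : allRange (fun i => Nat.beq (actR9 i) i) 711144 1224 = true := by decide +kernel
theorem c_act9_582 : allRange (fun i => Nat.beq (actR9 i) i) 712368 1224 = true := by decide +kernel
theorem c_act9_583 : allRange (fun i => Nat.beq (actR9 i) i) 713592 1224 = true := by decide +kernel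
theorem c_act9_584 : allRange (fun i => Nat.beq (actR9 i) i) 714816 1224 = true := by decide +kernel
theorem c_act9_585 : allRange (fun i => Nat.beq (actR9 i) i) 716040 1224 = true := by decide +kernel
theorem c_act9_586 : allRange (fun i => Nat.beq (actR9 i) i) 717264 1224 = true := by decide +kernel
theorem c_act9_587 : allRange (fun i => Nat.beq (actR9 i) i) 718488 1224 = true := by decide +kernel
theorem c_act9_588 : allRange (fun i => Nat.beq (actR9 i) i) 719712 1224 = true := by decide +kernel
theorem c_act9_589 : allRange (fun i => Nat.beq (actR9 i) i) 720936 1224 = true := by decide +kernel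
theorem c_act9_590 : allRange (fun i => Nat.beq (actR9 i) i) 722160 1224 = true := by decide +kernel
theorem c_act9_591 : allRange (fun i => Nat.beq (actR9 i) i) 723384 1224 = true := by decide +kernel
theorem c_act9_592 : allRange (fun i => Nat.beq (actR9 i) i) 724608 1224 = true := by decide +kernel
theorem c_act9_593 : allRange (fun i => Nat.beq (actR9 i) i) 725832 1224 = true := by decide +kernel
theorem c_act9_594 : allRange (fun i => Nat.beq (actR9 i) i) 727056 1224 = true := by decide +kernel
theorem c_act9_595 : allRange (fun i => Nat.beq (actR9 i) i) 728280 1224 = true := by decide +kernel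
theorem c_act9_596 : allRange (fun i => Nat.beq (actR9 i) i) 729504 1224 = true := by decide +kernel
theorem c_act9_597 : allRange (fun i => Nat.beq (actR9 i) i) 730728 1224 = true := by decide +kernel
theorem c_act9_598 : allRange (fun i => Nat.beq (actR9 i) i) 731952 1224 = true := by decide +kernel
theorem c_act9_599 : allRange (fun i => Nat.beq (actR9 i) i) 733176 1224 = true := by decide +kernel
theorem c_act9_600 : allRange (fun i => Nat.beq (actR9 i) i) 734400 1224 = true := by decide +kernel
theorem c_act9_601 : allRange (fun i => Nat.beq (actR9 i) i) 735624 1224 = true := by decide +kernel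
theorem c_act9_602 : allRange (fun i => Nat.beq (actR9 i) i) 736848 1224 = true := by decide +kernel
theorem c_act9_603 : allRange (fun i => Nat.beq (actR9 i) i) 738072 1224 = true := by decide +kernel
theorem c_act9_604 : allRange (fun i => Nat.beq (actR9 i) i) 739296 1224 = true := by decide +kernel
theorem c_act9_605 : allRange (fun i => Nat.beq (actR9 i) i) 740520 1224 = true := by decide +kernel
theorem c_act9_606 : allRange (fun i => Nat.beq (actR9 i) i) 741744 1224 = true := by decide +kernel
theorem c_act9_607 : allRange (fun i => Nat.beq (actR9 i) i) 742968 1224 = true := by decide +kernel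
theorem c_act9_608 : allRange (fun i => Nat.beq (actR9 i) i) 744192 1224 = true := by decide +kernel
theorem c_act9_609 : allRange (fun i => Nat.beq (actR9 i) i) 745416 1224 = true := by decide +kernel
theorem c_act9_610 : allRange (fun i => Nat.beq (actR9 i) i) 746640 1224 = true := by decide +kernel
theorem c_act9_611 : allRange (fun i => Nat.beq (actR9 i) i) 747864 1224 = true := by decide +kernel
theorem c_act9_612 : allRange (fun i => Nat.beq (actR9 i) i) 749088 1224 = true := by decide +kernel
theorem c_act9_613 : allRange (fun i => Nat.beq (actR9 i) i) 750312 1224 = true := by decide +kernel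
theorem c_act9_614 : allRange (fun i => Nat.beq (actR9 i) i) 751536 1224 = true := by decide +kernel
theorem c_act9_615 : allRange (fun i => Nat.beq (actR9 i) i) 752760 1224 = true := by decide +kernel
theorem c_act9_616 : allRange (fun i => Nat.beq (actR9 i) i) 753984 1224 = true := by decide +kernel
theorem c_act9_617 : allRange (fun i => Nat.beq (actR9 i) i) 755208 1224 = true := by decide +kernel
theorem c_act9_618 : allRange (fun i => Nat.beq (actR9 i) i) 756432 1224 = true := by decide +kernel
theorem c_act9_619 : allRange (fun i => Nat.beq (actR9 i) i) 757656 1224 = true := by decide +kernel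
theorem c_act9_620 : allRange (fun i => Nat.beq (actR9 i) i) 758880 1224 = true := by decide +kernel
theorem c_act9_621 : allRange (fun i => Nat.beq (actR9 i) i) 760104 1224 = true := by decide +kernel
theorem c_act9_622 : allRange (fun i => Nat.beq (actR9 i) i) 761328 1224 = true := by decide +kernel
theorem c_act9_623 : allRange (fun i => Nat.beq (actR9 i) i) 762552 1224 = true := by decide +kernel
theorem c_act9_624 : allRange (fun i => Nat.beq (actR9 i) i) 763776 1224 = true := by decide +kernel
theorem c_act9_625 : allRange (fun i => Nat.beq (actR9 i) i) 765000 1224 = true := by decide +kernel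
theorem c_act9_626 : allRange (fun i => Nat.beq (actR9 i) i) 766224 1224 = true := by decide +kernel
theorem c_act9_627 : allRange (fun i => Nat.beq (actR9 i) i) 767448 1224 = true := by decide +kernel
theorem c_act9_628 : allRange (fun i => Nat.beq (actR9 i) i) 768672 1224 = true := by decide +kernel
theorem c_act9_629 : allRange (fun i => Nat.beq (actR9 i) i) 769896 1224 = true := by decide +kernel

end Cfsg.Agent.Lib.Helper4.TCD.HNm
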