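import Cfsg.Agent.Lib.Helper4.TCD_HNm_Acc

namespace Cfsg.Agent.Lib.Helper4.TCD.HNm

open Cfsg.Agent.Lib.Helper4.TC

set_option maxRecDepth 100000
set_option Elab.async false

theorem c_act9_630 : allRange (fun i => Nat.beq (actR9 i) i) 771120 1224 = true := by decide +kernel
theorem c_act9_631 : allRange (fun i => Nat.beq (actR9 i) i) 772344 1224 = true := by decide +kernel
theorem c_act9_632 : allRange (fun i => Nat.beq (actR9 i) i) 773568 1224 = true := by decide +kernel
theorem c_act9_633 : allRange (fun i => Nat.beq (actR9 i) i) 774792 1224 = true := by decide +kernel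
theorem c_act9_634 : allRange (fun i => Nat.beq (actR9 i) i) 776016 1224 = true := by decide +kernel
theorem c_act9_635 : allRange (fun i => Nat.beq (actR9 i) i) 777240 1224 = true := by decide +kernel
theorem c_act9_636 : allRange (fun i => Nat.beq (actR9 i) i) 778464 1224 = true := by decide +kernel
theorem c_act9_637 : allRange (fun i => Nat.beq (actR9 i) i) 779688 1224 = true := by decide +kernel
theorem c_act9_638 : allRange (fun i => Nat.beq (actR9 i) i) 780912 1224 = true := by decide +kernel
theorem c_act9_639 : allRange (fun i => Nat.beq (actR9 i) i) 782136 1224 = true := by decide +kernel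
theorem c_act9_640 : allRange (fun i => Nat.beq (actR9 i) i) 783360 1224 = true := by decide +kernel
theorem c_act9_641 : allRange (fun i => Nat.beq (actR9 i) i) 784584 1224 = true := by decide +kernel
theorem c_act9_642 : allRange (fun i => Nat.beq (actR9 i) i) 785808 1224 = true := by decide +kernel
theorem c_act9_643 : allRange (fun i => Nat.beq (actR9 i) i) 787032 1224 = true := by decide +kernel
theorem c_act9_644 : allRange (fun i => Nat.beq (actR9 i) i) 788256 1224 = true := by decide +kernel
theorem c_act9_645 : allRange (fun i => Nat.beq (actR9 i) i) 789480 1224 = true := by decide +kernel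
theorem c_act9_646 : allRange (fun i => Nat.beq (actR9 i) i) 790704 1224 = true := by decide +kernel
theorem c_act9_647 : allRange (fun i => Nat.beq (actR9 i) i) 791928 1224 = true := by decide +kernel
theorem c_act9_648 : allRange (fun i => Nat.beq (actR9 i) i) 793152 1224 = true := by decide +kernel
theorem c_act9_649 : allRange (fun i => Nat.beq (actR9 i) i) 794376 1224 = true := by decide +kernel
theorem c_act9_650 : allRange (fun i => Nat.beq (actR9 i) i) 795600 1224 = true := by decide +kernel
theorem c_act9_651 : allRange (fun i => Nat.beq (actR9 i) i) 796824 1224 = true := by decide +kernel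
theorem c_act9_652 : allRange (fun i => Nat.beq (actR9 i) i) 798048 1224 = true := by decide +kernel
theorem c_act9_653 : allRange (fun i => Nat.beq (actR9 i) i) 799272 1224 = true := by decide +kernel
theorem c_act9_654 : allRange (fun i => Nat.beq (actR9 i) i) 800496 1224 = true := by decide +kernel
theorem c_act9_655 : allRange (fun i => Nat.beq (actR9 i) i) 801720 1224 = true := by decide +kernel
theorem c_act9_656 : allRange (fun i => Nat.beq (actR9 i) i) 802944 1224 = true := by decide +kernel
theorem c_act9_657 : allRange (fun i => Nat.beq (actR9 i) i) 804168 1224 = true := by decide +kernel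
theorem c_act9_658 : allRange (fun i => Nat.beq (actR9 i) i) 805392 1224 = true := by decide +kernel
theorem c_act9_659 : allRange (fun i => Nat.beq (actR9 i) i) 806616 1224 = true := by decide +kernel
theorem c_act9_660 : allRange (fun i => Nat.beq (actR9 i) i) 807840 1224 = true := by decide +kernel
theorem c_act9_661 : allRange (fun i => Nat.beq (actR9 i) i) 809064 1224 = true := by decide +kernel
theorem c_act9_662 : allRange (fun i => Nat.beq (actR9 i) i) 810288 1224 = true := by decide +kernel
theorem c_act9_663 : allRange (fun i => Nat.beq (actR9 i) i) 811512 1224 = true := by decide +kernel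
theorem c_act9_664 : allRange (fun i => Nat.beq (actR9 i) i) 812736 1224 = true := by decide +kernel
theorem c_act9_665 : allRange (fun i => Nat.beq (actR9 i) i) 813960 1224 = true := by decide +kernel
theorem c_act9_666 : allRange (fun i => Nat.beq (actR9 i) i) 815184 1224 = true := by decide +kernel
theorem c_act9_667 : allRange (fun i => Nat.beq (actR9 i) i) 816408 1224 = true := by decide +kernel
theorem c_act9_668 : allRange (fun i => Nat.beq (actR9 i) i) 817632 1224 = true := by decide +kernel
theorem c_act9_669 : allRange (fun i => Nat.beq (actR9 i) i) 818856 1224 = true := by decide +kernel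
theorem c_act9_670 : allRange (fun i => Nat.beq (actR9 i) i) 820080 1224 = true := by decide +kernel
theorem c_act9_671 : allRange (fun i => Nat.beq (actR9 i) i) 821304 1224 = true := by decide +kernel
theorem c_act9_672 : allRange (fun i => Nat.beq (actR9 i) i) 822528 1224 = true := by decide +kernel
theorem c_act9_673 : allRange (fun i => Nat.beq (actR9 i) i) 823752 1224 = true := by decide +kernel
theorem c_act9_674 : allRange (fun i => Nat.beq (actR9 i) i) 824976 1224 = true := by decide +kernel
theorem c_act9_675 : allRange (fun i => Nat.beq (actR9 i) i) 826200 1224 = true := by decide +kernel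
theorem c_act9_676 : allRange (fun i => Nat.beq (actR9 i) i) 827424 1224 = true := by decide +kernel
theorem c_act9_677 : allRange (fun i => Nat.beq (actR9 i) i) 828648 1224 = true := by decide +kernel
theorem c_act9_678 : allRange (fun i => Nat.beq (actR9 i) i) 829872 1224 = true := by decide +kernel
theorem c_act9_679 : allRange (fun i => Nat.beq (actR9 i) i) 831096 1224 = true := by decide +kernel

end Cfsg.Agent.Lib.Helper4.TCD.HNm
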