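import Cfsg.Agent.Lib.Helper4.TCD_HNm_Acc

namespace Cfsg.Agent.Lib.Helper4.TCD.HNm

open Cfsg.Agent.Lib.Helper4.TC

set_option maxRecDepth 100000
set_option Elab.async false

theorem c_act9_680 : allRange (fun i => Nat.beq (actR9 i) i) 832320 1224 = true := by decide +kernel
theorem c_act9_681 : allRange (fun i => Nat.beq (actR9 i) i) 833544 1224 = true := by decide +kernel
theorem c_act9_682 : allRange (fun i => Nat.beq (actR9 i) i) 834768 1224 = true := by decide +kernel
theorem c_act9_683 : allRange (fun i => Nat.beq (actR9 i) i) 835992 1224 = true := by decide +kernel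
theorem c_act9_684 : allRange (fun i => Nat.beq (actR9 i) i) 837216 1224 = true := by decide +kernel
theorem c_act9_685 : allRange (fun i => Nat.beq (actR9 i) i) 838440 1224 = true := by decide +kernel
theorem c_act9_686 : allRange (fun i => Nat.beq (actR9 i) i) 839664 1224 = true := by decide +kernel
theorem c_act9_687 : allRange (fun i => Nat.beq (actR9 i) i) 840888 1224 = true := by decide +kernel
theorem c_act9_688 : allRange (fun i => Nat.beq (actR9 i) i) 842112 1224 = true := by decide +kernel
theorem c_act9_689 : allRange (fun i => Nat.beq (actR9 i) i) 843336 1224 = true := by decide +kernel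
theorem c_act9_690 : allRange (fun i => Nat.beq (actR9 i) i) 844560 1224 = true := by decide +kernel
theorem c_act9_691 : allRange (fun i => Nat.beq (actR9 i) i) 845784 1224 = true := by decide +kernel
theorem c_act9_692 : allRange (fun i => Nat.beq (actR9 i) i) 847008 1224 = true := by decide +kernel
theorem c_act9_693 : allRange (fun i => Nat.beq (actR9 i) i) 848232 1224 = true := by decide +kernel
theorem c_act9_694 : allRange (fun i => Nat.beq (actR9 i) i) 849456 1224 = true := by decide +kernel
theorem c_act9_695 : allRange (fun i => Nat.beq (actR9 i) i) 850680 1224 = true := by decide +kernel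
theorem c_act9_696 : allRange (fun i => Nat.beq (actR9 i) i) 851904 1224 = true := by decide +kernel
theorem c_act9_697 : allRange (fun i => Nat.beq (actR9 i) i) 853128 1224 = true := by decide +kernel
theorem c_act9_698 : allRange (fun i => Nat.beq (actR9 i) i) 854352 1224 = true := by decide +kernel
theorem c_act9_699 : allRange (fun i => Nat.beq (actR9 i) i) 855576 1224 = true := by decide +kernel
theorem c_act9_700 : allRange (fun i => Nat.beq (actR9 i) i) 856800 1224 = true := by decide +kernel
theorem c_act9_701 : allRange (fun i => Nat.beq (actR9 i) i) 858024 1224 = true := by decide +kernel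
theorem c_act9_702 : allRange (fun i => Nat.beq (actR9 i) i) 859248 1224 = true := by decide +kernel
theorem c_act9_703 : allRange (fun i => Nat.beq (actR9 i) i) 860472 1224 = true := by decide +kernel
theorem c_act9_704 : allRange (fun i => Nat.beq (actR9 i) i) 861696 1224 = true := by decide +kernel
theorem c_act9_705 : allRange (fun i => Nat.beq (actR9 i) i) 862920 1224 = true := by decide +kernel
theorem c_act9_706 : allRange (fun i => Nat.beq (actR9 i) i) 864144 1224 = true := by decide +kernel
theorem c_act9_707 : allRange (fun i => Nat.beq (actR9 i) i) 865368 1224 = true := by decide +kernel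
theorem c_act9_708 : allRange (fun i => Nat.beq (actR9 i) i) 866592 1224 = true := by decide +kernel
theorem c_act9_709 : allRange (fun i => Nat.beq (actR9 i) i) 867816 1224 = true := by decide +kernel
theorem c_act9_710 : allRange (fun i => Nat.beq (actR9 i) i) 869040 1224 = true := by decide +kernel
theorem c_act9_711 : allRange (fun i => Nat.beq (actR9 i) i) 870264 1224 = true := by decide +kernel
theorem c_act9_712 : allRange (fun i => Nat.beq (actR9 i) i) 871488 1224 = true := by decide +kernel
theorem c_act9_713 : allRange (fun i => Nat.beq (actR9 i) i) 872712 1224 = true := by decide +kernel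
theorem c_act9_714 : allRange (fun i => Nat.beq (actR9 i) i) 873936 1224 = true := by decide +kernel
theorem c_act9_715 : allRange (fun i => Nat.beq (actR9 i) i) 875160 1224 = true := by decide +kernel
theorem c_act9_716 : allRange (fun i => Nat.beq (actR9 i) i) 876384 1224 = true := by decide +kernel
theorem c_act9_717 : allRange (fun i => Nat.beq (actR9 i) i) 877608 1224 = true := by decide +kernel
theorem c_act9_718 : allRange (fun i => Nat.beq (actR9 i) i) 878832 1224 = true := by decide +kernel
theorem c_act9_719 : allRange (fun i => Nat.beq (actR9 i) i) 880056 1224 = true := by decide +kernel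
theorem c_act9_720 : allRange (fun i => Nat.beq (actR9 i) i) 881280 1224 = true := by decide +kernel
theorem c_act9_721 : allRange (fun i => Nat.beq (actR9 i) i) 882504 1224 = true := by decide +kernel
theorem c_act9_722 : allRange (fun i => Nat.beq (actR9 i) i) 883728 1224 = true := by decide +kernel
theorem c_act9_723 : allRange (fun i => Nat.beq (actR9 i) i) 884952 1224 = true := by decide +kernel
theorem c_act9_724 : allRange (fun i => Nat.beq (actR9 i) i) 886176 1224 = true := by decide +kernel
theorem c_act9_725 : allRange (fun i => Nat.beq (actR9 i) i) 887400 1224 = true := by decide +kernel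
theorem c_act9_726 : allRange (fun i => Nat.beq (actR9 i) i) 888624 1224 = true := by decide +kernel
theorem c_act9_727 : allRange (fun i => Nat.beq (actR9 i) i) 889848 1224 = true := by decide +kernel
theorem c_act9_728 : allRange (fun i => Nat.beq (actR9 i) i) 891072 1224 = true := by decide +kernel
theorem c_act9_729 : allRange (fun i => Nat.beq (actR9 i) i) 892296 1224 = true := by decide +kernel

end Cfsg.Agent.Lib.Helper4.TCD.HNm
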