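import Cfsg.Agent.Lib.Helper4.TCD_HNm_Acc

namespace Cfsg.Agent.Lib.Helper4.TCD.HNm

open Cfsg.Agent.Lib.Helper4.TC

set_option maxRecDepth 100000
set_option Elab.async false

theorem c_act9_730 : allRange (fun i => Nat.beq (actR9 i) i) 893520 1224 = true := by decide +kernel
theorem c_act9_731 : allRange (fun i => Nat.beq (actR9 i) i) 894744 1224 = true := by decide +kernel
theorem c_act9_732 : allRange (fun i => Nat.beq (actR9 i) i) 895968 1224 = true := by decide +kernel
theorem c_act9_733 : allRange (fun i => Nat.beq (actR9 i) i) 897192 1224 = true := by decide +kernel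
theorem c_act9_734 : allRange (fun i => Nat.beq (actR9 i) i) 898416 1224 = true := by decide +kernel
theorem c_act9_735 : allRange (fun i => Nat.beq (actR9 i) i) 899640 1224 = true := by decide +kernel
theorem c_act9_736 : allRange (fun i => Nat.beq (actR9 i) i) 900864 1224 = true := by decide +kernel
theorem c_act9_737 : allRange (fun i => Nat.beq (actR9 i) i) 902088 1224 = true := by decide +kernel
theorem c_act9_738 : allRange (fun i => Nat.beq (actR9 i) i) 903312 1224 = true := by decide +kernel
theorem c_act9_739 : allRange (fun i => Nat.beq (actR9 i) i) 904536 1224 = true := by decide +kernel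
theorem c_act9_740 : allRange (fun i => Nat.beq (actR9 i) i) 905760 1224 = true := by decide +kernel
theorem c_act9_741 : allRange (fun i => Nat.beq (actR9 i) i) 906984 1224 = true := by decide +kernel
theorem c_act9_742 : allRange (fun i => Nat.beq (actR9 i) i) 908208 1224 = true := by decide +kernel
theorem c_act9_743 : allRange (fun i => Nat.beq (actR9 i) i) 909432 1224 = true := by decide +kernel
theorem c_act9_744 : allRange (fun i => Nat.beq (actR9 i) i) 910656 1224 = true := by decide +kernel
theorem c_act9_745 : allRange (fun i => Nat.beq (actR9 i) i) 911880 1224 = true := by decide +kernel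
theorem c_act9_746 : allRange (fun i => Nat.beq (actR9 i) i) 913104 1224 = true := by decide +kernel
theorem c_act9_747 : allRange (fun i => Nat.beq (actR9 i) i) 914328 1224 = true := by decide +kernel
theorem c_act9_748 : allRange (fun i => Nat.beq (actR9 i) i) 915552 1224 = true := by decide +kernel
theorem c_act9_749 : allRange (fun i => Nat.beq (actR9 i) i) 916776 1224 = true := by decide +kernel
theorem c_act9_750 : allRange (fun i => Nat.beq (actR9 i) i) 918000 1224 = true := by decide +kernel
theorem c_act9_751 : allRange (fun i => Nat.beq (actR9 i) i) 919224 1224 = true := by decide +kernel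
theorem c_act9_752 : allRange (fun i => Nat.beq (actR9 i) i) 920448 1224 = true := by decide +kernel
theorem c_act9_753 : allRange (fun i => Nat.beq (actR9 i) i) 921672 1224 = true := by decide +kernel
theorem c_act9_754 : allRange (fun i => Nat.beq (actR9 i) i) 922896 1224 = true := by decide +kernel
theorem c_act9_755 : allRange (fun i => Nat.beq (actR9 i) i) 924120 1224 = true := by decide +kernel
theorem c_act9_756 : allRange (fun i => Nat.beq (actR9 i) i) 925344 1224 = true := by decide +kernel
theorem c_act9_757 : allRange (fun i => Nat.beq (actR9 i) i) 926568 1224 = true := by decide +kernel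
theorem c_act9_758 : allRange (fun i => Nat.beq (actR9 i) i) 927792 1224 = true := by decide +kernel
theorem c_act9_759 : allRange (fun i => Nat.beq (actR9 i) i) 929016 1224 = true := by decide +kernel
theorem c_act9_760 : allRange (fun i => Nat.beq (actR9 i) i) 930240 1224 = true := by decide +kernel
theorem c_act9_761 : allRange (fun i => Nat.beq (actR9 i) i) 931464 1224 = true := by decide +kernel
theorem c_act9_762 : allRange (fun i => Nat.beq (actR9 i) i) 932688 1224 = true := by decide +kernel
theorem c_act9_763 : allRange (fun i => Nat.beq (actR9 i) i) 933912 1224 = true := by decide +kernel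
theorem c_act9_764 : allRange (fun i => Nat.beq (actR9 i) i) 935136 1224 = true := by decide +kernel
theorem c_act9_765 : allRange (fun i => Nat.beq (actR9 i) i) 936360 1224 = true := by decide +kernel
theorem c_act9_766 : allRange (fun i => Nat.beq (actR9 i) i) 937584 1224 = true := by decide +kernel
theorem c_act9_767 : allRange (fun i => Nat.beq (actR9 i) i) 938808 1224 = true := by decide +kernel
theorem c_act9_768 : allRange (fun i => Nat.beq (actR9 i) i) 940032 1224 = true := by decide +kernel
theorem c_act9_769 : allRange (fun i => Nat.beq (actR9 i) i) 941256 1224 = true := by decide +kernel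
theorem c_act9_770 : allRange (fun i => Nat.beq (actR9 i) i) 942480 1224 = true := by decide +kernel
theorem c_act9_771 : allRange (fun i => Nat.beq (actR9 i) i) 943704 1224 = true := by decide +kernel
theorem c_act9_772 : allRange (fun i => Nat.beq (actR9 i) i) 944928 1224 = true := by decide +kernel
theorem c_act9_773 : allRange (fun i => Nat.beq (actR9 i) i) 946152 1224 = true := by decide +kernel
theorem c_act9_774 : allRange (fun i => Nat.beq (actR9 i) i) 947376 1224 = true := by decide +kernel
theorem c_act9_775 : allRange (fun i => Nat.beq (actR9 i) i) 948600 1224 = true := by decide +kernel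
theorem c_act9_776 : allRange (fun i => Nat.beq (actR9 i) i) 949824 1224 = true := by decide +kernel
theorem c_act9_777 : allRange (fun i => Nat.beq (actR9 i) i) 951048 1224 = true := by decide +kernel
theorem c_act9_778 : allRange (fun i => Nat.beq (actR9 i) i) 952272 1224 = true := by decide +kernel
theorem c_act9_779 : allRange (fun i => Nat.beq (actR9 i) i) 953496 1224 = true := by decide +kernel

end Cfsg.Agent.Lib.Helper4.TCD.HNm
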