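import Cfsg.Agent.Lib.Helper4.TCD_HNm_Acc

namespace Cfsg.Agent.Lib.Helper4.TCD.HNm

open Cfsg.Agent.Lib.Helper4.TC

set_option maxRecDepth 100000
set_option Elab.async false

theorem c_rel_914 : allRange D.relOK 3905238 2232 = true := by decide +kernel
theorem c_rel_915 : allRange D.relOK 3907470 2007 = true := by decide +kernel
theorem c_rel_916 : allRange D.relOK 3909477 2118 = true := by decide +kernel
theorem c_rel_917 : allRange D.relOK 3911595 1898 = true := by decide +kernel
theorem c_rel_918 : allRange D.relOK 3913493 2264 = true := by decide +kernel
theorem c_rel_919 : allRange D.relOK 3915757 2090 = true := by decide +kernel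
theorem c_rel_920 : allRange D.relOK 3917847 2043 = true := by decide +kernel
theorem c_rel_921 : allRange D.relOK 3919890 2193 = true := by decide +kernel
theorem c_rel_922 : allRange D.relOK 3922083 2079 = true := by decide +kernel
theorem c_rel_923 : allRange D.relOK 3924162 2237 = true := by decide +kernel
theorem c_rel_924 : allRange D.relOK 3926399 2077 = true := by decide +kernel
theorem c_rel_925 : allRange D.relOK 3928476 2276 = true := by decide +kernel
theorem c_rel_926 : allRange D.relOK 3930752 2058 = true := by decide +kernel
theorem c_rel_927 : allRange D.relOK 3932810 2110 = true := by decide +kernel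
theorem c_rel_928 : allRange D.relOK 3934920 2131 = true := by decide +kernel
theorem c_rel_929 : allRange D.relOK 3937051 2052 = true := by decide +kernel
theorem c_rel_930 : allRange D.relOK 3939103 1901 = true := by decide +kernel
theorem c_rel_931 : allRange D.relOK 3941004 2046 = true := by decide +kernel
theorem c_rel_932 : allRange D.relOK 3943050 2124 = true := by decide +kernel
theorem c_rel_933 : allRange D.relOK 3945174 2154 = true := by decide +kernel
theorem c_rel_934 : allRange D.relOK 3947328 2145 = true := by decide +kernel
theorem c_rel_935 : allRange D.relOK 3949473 1749 = true := by decide +kernel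
theorem c_rel_936 : allRange D.relOK 3951222 2018 = true := by decide +kernel
theorem c_rel_937 : allRange D.relOK 3953240 2168 = true := by decide +kernel
theorem c_rel_938 : allRange D.relOK 3955408 2181 = true := by decide +kernel
theorem c_rel_939 : allRange D.relOK 3957589 2197 = true := by decide +kernel
theorem c_rel_940 : allRange D.relOK 3959786 2158 = true := by decide +kernel
theorem c_rel_941 : allRange D.relOK 3961944 2221 = true := by decide +kernel
theorem c_rel_942 : allRange D.relOK 3964165 1932 = true := by decide +kernel
theorem c_rel_943 : allRange D.relOK 3966097 1776 = true := by decide +kernel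
theorem c_rel_944 : allRange D.relOK 3967873 1943 = true := by decide +kernel
theorem c_rel_945 : allRange D.relOK 3969816 2086 = true := by decide +kernel
theorem c_rel_946 : allRange D.relOK 3971902 2186 = true := by decide +kernel
theorem c_rel_947 : allRange D.relOK 3974088 1903 = true := by decide +kernel
theorem c_rel_948 : allRange D.relOK 3975991 2180 = true := by decide +kernel
theorem c_rel_949 : allRange D.relOK 3978171 2294 = true := by decide +kernel
theorem c_rel_950 : allRange D.relOK 3980465 2106 = true := by decide +kernel
theorem c_rel_951 : allRange D.relOK 3982571 2148 = true := by decide +kernel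
theorem c_rel_952 : allRange D.relOK 3984719 2006 = true := by decide +kernel
theorem c_rel_953 : allRange D.relOK 3986725 1975 = true := by decide +kernel
theorem c_rel_954 : allRange D.relOK 3988700 2114 = true := by decide +kernel
theorem c_rel_955 : allRange D.relOK 3990814 2138 = true := by decide +kernel
theorem c_rel_956 : allRange D.relOK 3992952 2291 = true := by decide +kernel
theorem c_rel_957 : allRange D.relOK 3995243 2085 = true := by decide +kernel
theorem c_rel_958 : allRange D.relOK 3997328 1895 = true := by decide +kernel
theorem c_rel_959 : allRange D.relOK 3999223 2039 = true := by decide +kernel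
theorem c_rel_960 : allRange D.relOK 4001262 2049 = true := by decide +kernel
theorem c_rel_961 : allRange D.relOK 4003311 2118 = true := by decide +kernel
theorem c_rel_962 : allRange D.relOK 4005429 1899 = true := by decide +kernel
theorem c_rel_963 : allRange D.relOK 4007328 1945 = true := by decide +kernel
theorem c_rel_964 : allRange D.relOK 4009273 2221 = true := by decide +kernel
theorem c_rel_965 : allRange D.relOK 4011494 2119 = true := by decide +kernel
theorem c_rel_966 : allRange D.relOK 4013613 1907 = true := by decide +kernel
theorem c_rel_967 : allRange D.relOK 4015520 1874 = true := by decide +kernel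
theorem c_rel_968 : allRange D.relOK 4017394 1707 = true := by decide +kernel
theorem c_rel_969 : allRange D.relOK 4019101 1884 = true := by decide +kernel
theorem c_rel_970 : allRange D.relOK 4020985 2044 = true := by decide +kernel
theorem c_rel_971 : allRange D.relOK 4023029 1991 = true := by decide +kernel
theorem c_rel_972 : allRange D.relOK 4025020 1915 = true := by decide +kernel
theorem c_rel_973 : allRange D.relOK 4026935 2080 = true := by decide +kernel
theorem c_rel_974 : allRange D.relOK 4029015 2094 = true := by decide +kernel
theorem c_rel_975 : allRange D.relOK 4031109 1981 = true := by decide +kernel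
theorem c_rel_976 : allRange D.relOK 4033090 1971 = true := by decide +kernel
theorem c_rel_977 : allRange D.relOK 4035061 1769 = true := by decide +kernel
theorem c_rel_978 : allRange D.relOK 4036830 2102 = true := by decide +kernel
theorem c_rel_979 : allRange D.relOK 4038932 2017 = true := by decide +kernel
theorem c_rel_980 : allRange D.relOK 4040949 1991 = true := by decide +kernel
theorem c_rel_981 : allRange D.relOK 4042940 1878 = true := by decide +kernel
theorem c_rel_982 : allRange D.relOK 4044818 1888 = true := by decide +kernel
theorem c_rel_983 : allRange D.relOK 4046706 2039 = true := by decide +kernel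
theorem c_rel_984 : allRange D.relOK 4048745 1721 = true := by decide +kernel
theorem c_rel_985 : allRange D.relOK 4050466 1879 = true := by decide +kernel
theorem c_rel_986 : allRange D.relOK 4052345 1817 = true := by decide +kernel
theorem c_rel_987 : allRange D.relOK 4054162 2011 = true := by decide +kernel
theorem c_rel_988 : allRange D.relOK 4056173 1949 = true := by decide +kernel
theorem c_rel_989 : allRange D.relOK 4058122 1888 = true := by decide +kernel
theorem c_rel_990 : allRange D.relOK 4060010 1963 = true := by decide +kernel
theorem c_rel_991 : allRange D.relOK 4061973 2054 = true := by decide +kernel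
theorem c_rel_992 : allRange D.relOK 4064027 1843 = true := by decide +kernel
theorem c_rel_993 : allRange D.relOK 4065870 1887 = true := by decide +kernel
theorem c_rel_994 : allRange D.relOK 4067757 1896 = true := by decide +kernel
theorem c_rel_995 : allRange D.relOK 4069653 1679 = true := by decide +kernel
theorem c_rel_996 : allRange D.relOK 4071332 2112 = true := by decide +kernel
theorem c_rel_997 : allRange D.relOK 4073444 2058 = true := by decide +kernel
theorem c_rel_998 : allRange D.relOK 4075502 1690 = true := by decide +kernel
theorem c_rel_999 : allRange D.relOK 4077192 1900 = true := by decide +kernel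
theorem c_rel_1000 : allRange D.relOK 4079092 1893 = true := by decide +kernel
theorem c_rel_1001 : allRange D.relOK 4080985 1747 = true := by decide +kernel
theorem c_rel_1002 : allRange D.relOK 4082732 2001 = true := by decide +kernel
theorem c_rel_1003 : allRange D.relOK 4084733 1893 = true := by decide +kernel
theorem c_rel_1004 : allRange D.relOK 4086626 1845 = true := by decide +kernel
theorem c_rel_1005 : allRange D.relOK 4088471 2046 = true := by decide +kernel
theorem c_rel_1006 : allRange D.relOK 4090517 1893 = true := by decide +kernel
theorem c_rel_1007 : allRange D.relOK 4092410 1870 = true := by decide +kernel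
theorem c_rel_1008 : allRange D.relOK 4094280 1948 = true := by decide +kernel
theorem c_rel_1009 : allRange D.relOK 4096228 1686 = true := by decide +kernel
theorem c_rel_1010 : allRange D.relOK 4097914 2041 = true := by decide +kernel
theorem c_rel_1011 : allRange D.relOK 4099955 2038 = true := by decide +kernel
theorem c_rel_1012 : allRange D.relOK 4101993 1617 = true := by decide +kernel

end Cfsg.Agent.Lib.Helper4.TCD.HNm
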