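import Cfsg.Agent.Lib.Helper4.TCD_HNm_Acc

namespace Cfsg.Agent.Lib.Helper4.TCD.HNm

open Cfsg.Agent.Lib.Helper4.TC

set_option maxRecDepth 100000
set_option Elab.async false

theorem c_act9_780 : allRange (fun i => Nat.beq (actR9 i) i) 954720 1224 = true := by decide +kernel
theorem c_act9_781 : allRange (fun i => Nat.beq (actR9 i) i) 955944 1224 = true := by decide +kernel
theorem c_act9_782 : allRange (fun i => Nat.beq (actR9 i) i) 957168 1224 = true := by decide +kernel
theorem c_act9_783 : allRange (fun i => Nat.beq (actR9 i) i) 958392 1224 = true := by decide +kernel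
theorem c_act9_784 : allRange (fun i => Nat.beq (actR9 i) i) 959616 1224 = true := by decide +kernel
theorem c_act9_785 : allRange (fun i => Nat.beq (actR9 i) i) 960840 1224 = true := by decide +kernel
theorem c_act9_786 : allRange (fun i => Nat.beq (actR9 i) i) 962064 1224 = true := by decide +kernel
theorem c_act9_787 : allRange (fun i => Nat.beq (actR9 i) i) 963288 1224 = true := by decide +kernel
theorem c_act9_788 : allRange (fun i => Nat.beq (actR9 i) i) 964512 1224 = true := by decide +kernel
theorem c_act9_789 : allRange (fun i => Nat.beq (actR9 i) i) 965736 1224 = true := by decide +kernel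
theorem c_act9_790 : allRange (fun i => Nat.beq (actR9 i) i) 966960 1224 = true := by decide +kernel
theorem c_act9_791 : allRange (fun i => Nat.beq (actR9 i) i) 968184 1224 = true := by decide +kernel
theorem c_act9_792 : allRange (fun i => Nat.beq (actR9 i) i) 969408 1224 = true := by decide +kernel
theorem c_act9_793 : allRange (fun i => Nat.beq (actR9 i) i) 970632 1224 = true := by decide +kernel
theorem c_act9_794 : allRange (fun i => Nat.beq (actR9 i) i) 971856 1224 = true := by decide +kernel
theorem c_act9_795 : allRange (fun i => Nat.beq (actR9 i) i) 973080 1224 = true := by decide +kernel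
theorem c_act9_796 : allRange (fun i => Nat.beq (actR9 i) i) 974304 1224 = true := by decide +kernel
theorem c_act9_797 : allRange (fun i => Nat.beq (actR9 i) i) 975528 1224 = true := by decide +kernel
theorem c_act9_798 : allRange (fun i => Nat.beq (actR9 i) i) 976752 1224 = true := by decide +kernel
theorem c_act9_799 : allRange (fun i => Nat.beq (actR9 i) i) 977976 1224 = true := by decide +kernel
theorem c_act9_800 : allRange (fun i => Nat.beq (actR9 i) i) 979200 1224 = true := by decide +kernel
theorem c_act9_801 : allRange (fun i => Nat.beq (actR9 i) i) 980424 1224 = true := by decide +kernel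
theorem c_act9_802 : allRange (fun i => Nat.beq (actR9 i) i) 981648 1224 = true := by decide +kernel
theorem c_act9_803 : allRange (fun i => Nat.beq (actR9 i) i) 982872 1224 = true := by decide +kernel
theorem c_act9_804 : allRange (fun i => Nat.beq (actR9 i) i) 984096 1224 = true := by decide +kernel
theorem c_act9_805 : allRange (fun i => Nat.beq (actR9 i) i) 985320 1224 = true := by decide +kernel
theorem c_act9_806 : allRange (fun i => Nat.beq (actR9 i) i) 986544 1224 = true := by decide +kernel
theorem c_act9_807 : allRange (fun i => Nat.beq (actR9 i) i) 987768 1224 = true := by decide +kernel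
theorem c_act9_808 : allRange (fun i => Nat.beq (actR9 i) i) 988992 1224 = true := by decide +kernel
theorem c_act9_809 : allRange (fun i => Nat.beq (actR9 i) i) 990216 1224 = true := by decide +kernel
theorem c_act9_810 : allRange (fun i => Nat.beq (actR9 i) i) 991440 1224 = true := by decide +kernel
theorem c_act9_811 : allRange (fun i => Nat.beq (actR9 i) i) 992664 1224 = true := by decide +kernel
theorem c_act9_812 : allRange (fun i => Nat.beq (actR9 i) i) 993888 1224 = true := by decide +kernel
theorem c_act9_813 : allRange (fun i => Nat.beq (actR9 i) i) 995112 1224 = true := by decide +kernel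
theorem c_act9_814 : allRange (fun i => Nat.beq (actR9 i) i) 996336 1224 = true := by decide +kernel
theorem c_act9_815 : allRange (fun i => Nat.beq (actR9 i) i) 997560 1224 = true := by decide +kernel
theorem c_act9_816 : allRange (fun i => Nat.beq (actR9 i) i) 998784 1224 = true := by decide +kernel
theorem c_act9_817 : allRange (fun i => Nat.beq (actR9 i) i) 1000008 1224 = true := by decide +kernel
theorem c_act9_818 : allRange (fun i => Nat.beq (actR9 i) i) 1001232 1224 = true := by decide +kernel
theorem c_act9_819 : allRange (fun i => Nat.beq (actR9 i) i) 1002456 1224 = true := by decide +kernel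
theorem c_act9_820 : allRange (fun i => Nat.beq (actR9 i) i) 1003680 1224 = true := by decide +kernel
theorem c_act9_821 : allRange (fun i => Nat.beq (actR9 i) i) 1004904 1224 = true := by decide +kernel
theorem c_act9_822 : allRange (fun i => Nat.beq (actR9 i) i) 1006128 1224 = true := by decide +kernel
theorem c_act9_823 : allRange (fun i => Nat.beq (actR9 i) i) 1007352 1224 = true := by decide +kernel
theorem c_act9_824 : allRange (fun i => Nat.beq (actR9 i) i) 1008576 1224 = true := by decide +kernel
theorem c_act9_825 : allRange (fun i => Nat.beq (actR9 i) i) 1009800 1224 = true := by decide +kernel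
theorem c_act9_826 : allRange (fun i => Nat.beq (actR9 i) i) 1011024 1224 = true := by decide +kernel
theorem c_act9_827 : allRange (fun i => Nat.beq (actR9 i) i) 1012248 1224 = true := by decide +kernel
theorem c_act9_828 : allRange (fun i => Nat.beq (actR9 i) i) 1013472 1224 = true := by decide +kernel
theorem c_act9_829 : allRange (fun i => Nat.beq (actR9 i) i) 1014696 1224 = true := by decide +kernel

end Cfsg.Agent.Lib.Helper4.TCD.HNm
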