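import Cfsg.Agent.Lib.Helper4.TCD_HNm_Acc

namespace Cfsg.Agent.Lib.Helper4.TCD.HNm

open Cfsg.Agent.Lib.Helper4.TC

set_option maxRecDepth 100000
set_option Elab.async false

theorem c_act9_830 : allRange (fun i => Nat.beq (actR9 i) i) 1015920 1224 = true := by decide +kernel
theorem c_act9_831 : allRange (fun i => Nat.beq (actR9 i) i) 1017144 1224 = true := by decide +kernel
theorem c_act9_832 : allRange (fun i => Nat.beq (actR9 i) i) 1018368 1224 = true := by decide +kernel
theorem c_act9_833 : allRange (fun i => Nat.beq (actR9 i) i) 1019592 1224 = true := by decide +kernel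
theorem c_act9_834 : allRange (fun i => Nat.beq (actR9 i) i) 1020816 1224 = true := by decide +kernel
theorem c_act9_835 : allRange (fun i => Nat.beq (actR9 i) i) 1022040 1224 = true := by decide +kernel
theorem c_act9_836 : allRange (fun i => Nat.beq (actR9 i) i) 1023264 1224 = true := by decide +kernel
theorem c_act9_837 : allRange (fun i => Nat.beq (actR9 i) i) 1024488 1224 = true := by decide +kernel
theorem c_act9_838 : allRange (fun i => Nat.beq (actR9 i) i) 1025712 1224 = true := by decide +kernel
theorem c_act9_839 : allRange (fun i => Nat.beq (actR9 i) i) 1026936 1224 = true := by decide +kernel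
theorem c_act9_840 : allRange (fun i => Nat.beq (actR9 i) i) 1028160 1224 = true := by decide +kernel
theorem c_act9_841 : allRange (fun i => Nat.beq (actR9 i) i) 1029384 1224 = true := by decide +kernel
theorem c_act9_842 : allRange (fun i => Nat.beq (actR9 i) i) 1030608 1224 = true := by decide +kernel
theorem c_act9_843 : allRange (fun i => Nat.beq (actR9 i) i) 1031832 1224 = true := by decide +kernel
theorem c_act9_844 : allRange (fun i => Nat.beq (actR9 i) i) 1033056 1224 = true := by decide +kernel
theorem c_act9_845 : allRange (fun i => Nat.beq (actR9 i) i) 1034280 1224 = true := by decide +kernel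
theorem c_act9_846 : allRange (fun i => Nat.beq (actR9 i) i) 1035504 1224 = true := by decide +kernel
theorem c_act9_847 : allRange (fun i => Nat.beq (actR9 i) i) 1036728 1224 = true := by decide +kernel
theorem c_act9_848 : allRange (fun i => Nat.beq (actR9 i) i) 1037952 1224 = true := by decide +kernel
theorem c_act9_849 : allRange (fun i => Nat.beq (actR9 i) i) 1039176 1224 = true := by decide +kernel
theorem c_act9_850 : allRange (fun i => Nat.beq (actR9 i) i) 1040400 1224 = true := by decide +kernel
theorem c_act9_851 : allRange (fun i => Nat.beq (actR9 i) i) 1041624 1224 = true := by decide +kernel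
theorem c_act9_852 : allRange (fun i => Nat.beq (actR9 i) i) 1042848 1224 = true := by decide +kernel
theorem c_act9_853 : allRange (fun i => Nat.beq (actR9 i) i) 1044072 1224 = true := by decide +kernel
theorem c_act9_854 : allRange (fun i => Nat.beq (actR9 i) i) 1045296 1224 = true := by decide +kernel
theorem c_act9_855 : allRange (fun i => Nat.beq (actR9 i) i) 1046520 1224 = true := by decide +kernel
theorem c_act9_856 : allRange (fun i => Nat.beq (actR9 i) i) 1047744 1224 = true := by decide +kernel
theorem c_act9_857 : allRange (fun i => Nat.beq (actR9 i) i) 1048968 1224 = true := by decide +kernel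
theorem c_act9_858 : allRange (fun i => Nat.beq (actR9 i) i) 1050192 1224 = true := by decide +kernel
theorem c_act9_859 : allRange (fun i => Nat.beq (actR9 i) i) 1051416 1224 = true := by decide +kernel
theorem c_act9_860 : allRange (fun i => Nat.beq (actR9 i) i) 1052640 1224 = true := by decide +kernel
theorem c_act9_861 : allRange (fun i => Nat.beq (actR9 i) i) 1053864 1224 = true := by decide +kernel
theorem c_act9_862 : allRange (fun i => Nat.beq (actR9 i) i) 1055088 1224 = true := by decide +kernel
theorem c_act9_863 : allRange (fun i => Nat.beq (actR9 i) i) 1056312 1224 = true := by decide +kernel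
theorem c_act9_864 : allRange (fun i => Nat.beq (actR9 i) i) 1057536 1224 = true := by decide +kernel
theorem c_act9_865 : allRange (fun i => Nat.beq (actR9 i) i) 1058760 1224 = true := by decide +kernel
theorem c_act9_866 : allRange (fun i => Nat.beq (actR9 i) i) 1059984 1224 = true := by decide +kernel
theorem c_act9_867 : allRange (fun i => Nat.beq (actR9 i) i) 1061208 1224 = true := by decide +kernel
theorem c_act9_868 : allRange (fun i => Nat.beq (actR9 i) i) 1062432 1224 = true := by decide +kernel
theorem c_act9_869 : allRange (fun i => Nat.beq (actR9 i) i) 1063656 1224 = true := by decide +kernel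
theorem c_act9_870 : allRange (fun i => Nat.beq (actR9 i) i) 1064880 1224 = true := by decide +kernel
theorem c_act9_871 : allRange (fun i => Nat.beq (actR9 i) i) 1066104 1224 = true := by decide +kernel
theorem c_act9_872 : allRange (fun i => Nat.beq (actR9 i) i) 1067328 1224 = true := by decide +kernel
theorem c_act9_873 : allRange (fun i => Nat.beq (actR9 i) i) 1068552 1224 = true := by decide +kernel
theorem c_act9_874 : allRange (fun i => Nat.beq (actR9 i) i) 1069776 1224 = true := by decide +kernel
theorem c_act9_875 : allRange (fun i => Nat.beq (actR9 i) i) 1071000 1224 = true := by decide +kernel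
theorem c_act9_876 : allRange (fun i => Nat.beq (actR9 i) i) 1072224 1224 = true := by decide +kernel
theorem c_act9_877 : allRange (fun i => Nat.beq (actR9 i) i) 1073448 1224 = true := by decide +kernel
theorem c_act9_878 : allRange (fun i => Nat.beq (actR9 i) i) 1074672 1224 = true := by decide +kernel
theorem c_act9_879 : allRange (fun i => Nat.beq (actR9 i) i) 1075896 1224 = true := by decide +kernel

end Cfsg.Agent.Lib.Helper4.TCD.HNm
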