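import Cfsg.Agent.Lib.Helper4.TCD_HNm_Acc

namespace Cfsg.Agent.Lib.Helper4.TCD.HNm

open Cfsg.Agent.Lib.Helper4.TC

set_option maxRecDepth 100000
set_option Elab.async false

theorem c_act9_880 : allRange (fun i => Nat.beq (actR9 i) i) 1077120 1224 = true := by decide +kernel
theorem c_act9_881 : allRange (fun i => Nat.beq (actR9 i) i) 1078344 1224 = true := by decide +kernel
theorem c_act9_882 : allRange (fun i => Nat.beq (actR9 i) i) 1079568 1224 = true := by decide +kernel
theorem c_act9_883 : allRange (fun i => Nat.beq (actR9 i) i) 1080792 1224 = true := by decide +kernel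
theorem c_act9_884 : allRange (fun i => Nat.beq (actR9 i) i) 1082016 1224 = true := by decide +kernel
theorem c_act9_885 : allRange (fun i => Nat.beq (actR9 i) i) 1083240 1224 = true := by decide +kernel
theorem c_act9_886 : allRange (fun i => Nat.beq (actR9 i) i) 1084464 1224 = true := by decide +kernel
theorem c_act9_887 : allRange (fun i => Nat.beq (actR9 i) i) 1085688 1224 = true := by decide +kernel
theorem c_act9_888 : allRange (fun i => Nat.beq (actR9 i) i) 1086912 1224 = true := by decide +kernel
theorem c_act9_889 : allRange (fun i => Nat.beq (actR9 i) i) 1088136 1224 = true := by decide +kernel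
theorem c_act9_890 : allRange (fun i => Nat.beq (actR9 i) i) 1089360 1224 = true := by decide +kernel
theorem c_act9_891 : allRange (fun i => Nat.beq (actR9 i) i) 1090584 1224 = true := by decide +kernel
theorem c_act9_892 : allRange (fun i => Nat.beq (actR9 i) i) 1091808 1224 = true := by decide +kernel
theorem c_act9_893 : allRange (fun i => Nat.beq (actR9 i) i) 1093032 1224 = true := by decide +kernel
theorem c_act9_894 : allRange (fun i => Nat.beq (actR9 i) i) 1094256 1224 = true := by decide +kernel
theorem c_act9_895 : allRange (fun i => Nat.beq (actR9 i) i) 1095480 1224 = true := by decide +kernel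
theorem c_act9_896 : allRange (fun i => Nat.beq (actR9 i) i) 1096704 1224 = true := by decide +kernel
theorem c_act9_897 : allRange (fun i => Nat.beq (actR9 i) i) 1097928 1224 = true := by decide +kernel
theorem c_act9_898 : allRange (fun i => Nat.beq (actR9 i) i) 1099152 1224 = true := by decide +kernel
theorem c_act9_899 : allRange (fun i => Nat.beq (actR9 i) i) 1100376 1224 = true := by decide +kernel
theorem c_act9_900 : allRange (fun i => Nat.beq (actR9 i) i) 1101600 1224 = true := by decide +kernel
theorem c_act9_901 : allRange (fun i => Nat.beq (actR9 i) i) 1102824 1224 = true := by decide +kernel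
theorem c_act9_902 : allRange (fun i => Nat.beq (actR9 i) i) 1104048 1224 = true := by decide +kernel
theorem c_act9_903 : allRange (fun i => Nat.beq (actR9 i) i) 1105272 1224 = true := by decide +kernel
theorem c_act9_904 : allRange (fun i => Nat.beq (actR9 i) i) 1106496 1224 = true := by decide +kernel
theorem c_act9_905 : allRange (fun i => Nat.beq (actR9 i) i) 1107720 1224 = true := by decide +kernel
theorem c_act9_906 : allRange (fun i => Nat.beq (actR9 i) i) 1108944 1224 = true := by decide +kernel
theorem c_act9_907 : allRange (fun i => Nat.beq (actR9 i) i) 1110168 1224 = true := by decide +kernel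
theorem c_act9_908 : allRange (fun i => Nat.beq (actR9 i) i) 1111392 1224 = true := by decide +kernel
theorem c_act9_909 : allRange (fun i => Nat.beq (actR9 i) i) 1112616 1224 = true := by decide +kernel
theorem c_act9_910 : allRange (fun i => Nat.beq (actR9 i) i) 1113840 1224 = true := by decide +kernel
theorem c_act9_911 : allRange (fun i => Nat.beq (actR9 i) i) 1115064 1224 = true := by decide +kernel
theorem c_act9_912 : allRange (fun i => Nat.beq (actR9 i) i) 1116288 1224 = true := by decide +kernel
theorem c_act9_913 : allRange (fun i => Nat.beq (actR9 i) i) 1117512 1224 = true := by decide +kernel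
theorem c_act9_914 : allRange (fun i => Nat.beq (actR9 i) i) 1118736 1224 = true := by decide +kernel
theorem c_act9_915 : allRange (fun i => Nat.beq (actR9 i) i) 1119960 1224 = true := by decide +kernel
theorem c_act9_916 : allRange (fun i => Nat.beq (actR9 i) i) 1121184 1224 = true := by decide +kernel
theorem c_act9_917 : allRange (fun i => Nat.beq (actR9 i) i) 1122408 1224 = true := by decide +kernel
theorem c_act9_918 : allRange (fun i => Nat.beq (actR9 i) i) 1123632 1224 = true := by decide +kernel
theorem c_act9_919 : allRange (fun i => Nat.beq (actR9 i) i) 1124856 1224 = true := by decide +kernel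
theorem c_act9_920 : allRange (fun i => Nat.beq (actR9 i) i) 1126080 1224 = true := by decide +kernel
theorem c_act9_921 : allRange (fun i => Nat.beq (actR9 i) i) 1127304 1224 = true := by decide +kernel
theorem c_act9_922 : allRange (fun i => Nat.beq (actR9 i) i) 1128528 1224 = true := by decide +kernel
theorem c_act9_923 : allRange (fun i => Nat.beq (actR9 i) i) 1129752 1224 = true := by decide +kernel
theorem c_act9_924 : allRange (fun i => Nat.beq (actR9 i) i) 1130976 1224 = true := by decide +kernel
theorem c_act9_925 : allRange (fun i => Nat.beq (actR9 i) i) 1132200 1224 = true := by decide +kernel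
theorem c_act9_926 : allRange (fun i => Nat.beq (actR9 i) i) 1133424 1224 = true := by decide +kernel
theorem c_act9_927 : allRange (fun i => Nat.beq (actR9 i) i) 1134648 1224 = true := by decide +kernel
theorem c_act9_928 : allRange (fun i => Nat.beq (actR9 i) i) 1135872 1224 = true := by decide +kernel
theorem c_act9_929 : allRange (fun i => Nat.beq (actR9 i) i) 1137096 1224 = true := by decide +kernel

end Cfsg.Agent.Lib.Helper4.TCD.HNm
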