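import Cfsg.Agent.Lib.Helper4.TCD_HNm_Acc

namespace Cfsg.Agent.Lib.Helper4.TCD.HNm

open Cfsg.Agent.Lib.Helper4.TC

set_option maxRecDepth 100000
set_option Elab.async false

theorem c_act9_930 : allRange (fun i => Nat.beq (actR9 i) i) 1138320 1224 = true := by decide +kernel
theorem c_act9_931 : allRange (fun i => Nat.beq (actR9 i) i) 1139544 1224 = true := by decide +kernel
theorem c_act9_932 : allRange (fun i => Nat.beq (actR9 i) i) 1140768 1224 = true := by decide +kernel
theorem c_act9_933 : allRange (fun i => Nat.beq (actR9 i) i) 1141992 1224 = true := by decide +kernel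
theorem c_act9_934 : allRange (fun i => Nat.beq (actR9 i) i) 1143216 1224 = true := by decide +kernel
theorem c_act9_935 : allRange (fun i => Nat.beq (actR9 i) i) 1144440 1224 = true := by decide +kernel
theorem c_act9_936 : allRange (fun i => Nat.beq (actR9 i) i) 1145664 1224 = true := by decide +kernel
theorem c_act9_937 : allRange (fun i => Nat.beq (actR9 i) i) 1146888 1224 = true := by decide +kernel
theorem c_act9_938 : allRange (fun i => Nat.beq (actR9 i) i) 1148112 1224 = true := by decide +kernel
theorem c_act9_939 : allRange (fun i => Nat.beq (actR9 i) i) 1149336 1224 = true := by decide +kernel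
theorem c_act9_940 : allRange (fun i => Nat.beq (actR9 i) i) 1150560 1224 = true := by decide +kernel
theorem c_act9_941 : allRange (fun i => Nat.beq (actR9 i) i) 1151784 1224 = true := by decide +kernel
theorem c_act9_942 : allRange (fun i => Nat.beq (actR9 i) i) 1153008 1224 = true := by decide +kernel
theorem c_act9_943 : allRange (fun i => Nat.beq (actR9 i) i) 1154232 1224 = true := by decide +kernel
theorem c_act9_944 : allRange (fun i => Nat.beq (actR9 i) i) 1155456 1224 = true := by decide +kernel
theorem c_act9_945 : allRange (fun i => Nat.beq (actR9 i) i) 1156680 1224 = true := by decide +kernel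
theorem c_act9_946 : allRange (fun i => Nat.beq (actR9 i) i) 1157904 1224 = true := by decide +kernel
theorem c_act9_947 : allRange (fun i => Nat.beq (actR9 i) i) 1159128 1224 = true := by decide +kernel
theorem c_act9_948 : allRange (fun i => Nat.beq (actR9 i) i) 1160352 1224 = true := by decide +kernel
theorem c_act9_949 : allRange (fun i => Nat.beq (actR9 i) i) 1161576 1224 = true := by decide +kernel
theorem c_act9_950 : allRange (fun i => Nat.beq (actR9 i) i) 1162800 1224 = true := by decide +kernel
theorem c_act9_951 : allRange (fun i => Nat.beq (actR9 i) i) 1164024 1224 = true := by decide +kernel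
theorem c_act9_952 : allRange (fun i => Nat.beq (actR9 i) i) 1165248 1224 = true := by decide +kernel
theorem c_act9_953 : allRange (fun i => Nat.beq (actR9 i) i) 1166472 1224 = true := by decide +kernel
theorem c_act9_954 : allRange (fun i => Nat.beq (actR9 i) i) 1167696 1224 = true := by decide +kernel
theorem c_act9_955 : allRange (fun i => Nat.beq (actR9 i) i) 1168920 1224 = true := by decide +kernel
theorem c_act9_956 : allRange (fun i => Nat.beq (actR9 i) i) 1170144 1224 = true := by decide +kernel
theorem c_act9_957 : allRange (fun i => Nat.beq (actR9 i) i) 1171368 1224 = true := by decide +kernel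
theorem c_act9_958 : allRange (fun i => Nat.beq (actR9 i) i) 1172592 1224 = true := by decide +kernel
theorem c_act9_959 : allRange (fun i => Nat.beq (actR9 i) i) 1173816 1224 = true := by decide +kernel
theorem c_act9_960 : allRange (fun i => Nat.beq (actR9 i) i) 1175040 1224 = true := by decide +kernel
theorem c_act9_961 : allRange (fun i => Nat.beq (actR9 i) i) 1176264 1224 = true := by decide +kernel
theorem c_act9_962 : allRange (fun i => Nat.beq (actR9 i) i) 1177488 1224 = true := by decide +kernel
theorem c_act9_963 : allRange (fun i => Nat.beq (actR9 i) i) 1178712 1224 = true := by decide +kernel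
theorem c_act9_964 : allRange (fun i => Nat.beq (actR9 i) i) 1179936 1224 = true := by decide +kernel
theorem c_act9_965 : allRange (fun i => Nat.beq (actR9 i) i) 1181160 1224 = true := by decide +kernel
theorem c_act9_966 : allRange (fun i => Nat.beq (actR9 i) i) 1182384 1224 = true := by decide +kernel
theorem c_act9_967 : allRange (fun i => Nat.beq (actR9 i) i) 1183608 1224 = true := by decide +kernel
theorem c_act9_968 : allRange (fun i => Nat.beq (actR9 i) i) 1184832 1224 = true := by decide +kernel
theorem c_act9_969 : allRange (fun i => Nat.beq (actR9 i) i) 1186056 1224 = true := by decide +kernel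
theorem c_act9_970 : allRange (fun i => Nat.beq (actR9 i) i) 1187280 1224 = true := by decide +kernel
theorem c_act9_971 : allRange (fun i => Nat.beq (actR9 i) i) 1188504 1224 = true := by decide +kernel
theorem c_act9_972 : allRange (fun i => Nat.beq (actR9 i) i) 1189728 1224 = true := by decide +kernel
theorem c_act9_973 : allRange (fun i => Nat.beq (actR9 i) i) 1190952 1224 = true := by decide +kernel
theorem c_act9_974 : allRange (fun i => Nat.beq (actR9 i) i) 1192176 1224 = true := by decide +kernel
theorem c_act9_975 : allRange (fun i => Nat.beq (actR9 i) i) 1193400 1224 = true := by decide +kernel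
theorem c_act9_976 : allRange (fun i => Nat.beq (actR9 i) i) 1194624 1224 = true := by decide +kernel
theorem c_act9_977 : allRange (fun i => Nat.beq (actR9 i) i) 1195848 1224 = true := by decide +kernel
theorem c_act9_978 : allRange (fun i => Nat.beq (actR9 i) i) 1197072 1224 = true := by decide +kernel
theorem c_act9_979 : allRange (fun i => Nat.beq (actR9 i) i) 1198296 1224 = true := by decide +kernel

end Cfsg.Agent.Lib.Helper4.TCD.HNm
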