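import Cfsg.Agent.Lib.Helper4.TCD_HNm_Acc

namespace Cfsg.Agent.Lib.Helper4.TCD.HNm

open Cfsg.Agent.Lib.Helper4.TC

set_option maxRecDepth 100000
set_option Elab.async false

theorem c_act9_1030 : allRange (fun i => Nat.beq (actR9 i) i) 1260720 1224 = true := by decide +kernel
theorem c_act9_1031 : allRange (fun i => Nat.beq (actR9 i) i) 1261944 1224 = true := by decide +kernel
theorem c_act9_1032 : allRange (fun i => Nat.beq (actR9 i) i) 1263168 1224 = true := by decide +kernel
theorem c_act9_1033 : allRange (fun i => Nat.beq (actR9 i) i) 1264392 1224 = true := by decide +kernel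
theorem c_act9_1034 : allRange (fun i => Nat.beq (actR9 i) i) 1265616 1224 = true := by decide +kernel
theorem c_act9_1035 : allRange (fun i => Nat.beq (actR9 i) i) 1266840 1224 = true := by decide +kernel
theorem c_act9_1036 : allRange (fun i => Nat.beq (actR9 i) i) 1268064 1224 = true := by decide +kernel
theorem c_act9_1037 : allRange (fun i => Nat.beq (actR9 i) i) 1269288 1224 = true := by decide +kernel
theorem c_act9_1038 : allRange (fun i => Nat.beq (actR9 i) i) 1270512 1224 = true := by decide +kernel
theorem c_act9_1039 : allRange (fun i => Nat.beq (actR9 i) i) 1271736 1224 = true := by decide +kernel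
theorem c_act9_1040 : allRange (fun i => Nat.beq (actR9 i) i) 1272960 1224 = true := by decide +kernel
theorem c_act9_1041 : allRange (fun i => Nat.beq (actR9 i) i) 1274184 1224 = true := by decide +kernel
theorem c_act9_1042 : allRange (fun i => Nat.beq (actR9 i) i) 1275408 1224 = true := by decide +kernel
theorem c_act9_1043 : allRange (fun i => Nat.beq (actR9 i) i) 1276632 1224 = true := by decide +kernel
theorem c_act9_1044 : allRange (fun i => Nat.beq (actR9 i) i) 1277856 1224 = true := by decide +kernel
theorem c_act9_1045 : allRange (fun i => Nat.beq (actR9 i) i) 1279080 1224 = true := by decide +kernel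
theorem c_act9_1046 : allRange (fun i => Nat.beq (actR9 i) i) 1280304 1224 = true := by decide +kernel
theorem c_act9_1047 : allRange (fun i => Nat.beq (actR9 i) i) 1281528 1224 = true := by decide +kernel
theorem c_act9_1048 : allRange (fun i => Nat.beq (actR9 i) i) 1282752 1224 = true := by decide +kernel
theorem c_act9_1049 : allRange (fun i => Nat.beq (actR9 i) i) 1283976 1224 = true := by decide +kernel
theorem c_act9_1050 : allRange (fun i => Nat.beq (actR9 i) i) 1285200 1224 = true := by decide +kernel
theorem c_act9_1051 : allRange (fun i => Nat.beq (actR9 i) i) 1286424 1224 = true := by decide +kernel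
theorem c_act9_1052 : allRange (fun i => Nat.beq (actR9 i) i) 1287648 1224 = true := by decide +kernel
theorem c_act9_1053 : allRange (fun i => Nat.beq (actR9 i) i) 1288872 1224 = true := by decide +kernel
theorem c_act9_1054 : allRange (fun i => Nat.beq (actR9 i) i) 1290096 1224 = true := by decide +kernel
theorem c_act9_1055 : allRange (fun i => Nat.beq (actR9 i) i) 1291320 1224 = true := by decide +kernel
theorem c_act9_1056 : allRange (fun i => Nat.beq (actR9 i) i) 1292544 1224 = true := by decide +kernel
theorem c_act9_1057 : allRange (fun i => Nat.beq (actR9 i) i) 1293768 1224 = true := by decide +kernel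
theorem c_act9_1058 : allRange (fun i => Nat.beq (actR9 i) i) 1294992 1224 = true := by decide +kernel
theorem c_act9_1059 : allRange (fun i => Nat.beq (actR9 i) i) 1296216 1224 = true := by decide +kernel
theorem c_act9_1060 : allRange (fun i => Nat.beq (actR9 i) i) 1297440 1224 = true := by decide +kernel
theorem c_act9_1061 : allRange (fun i => Nat.beq (actR9 i) i) 1298664 1224 = true := by decide +kernel
theorem c_act9_1062 : allRange (fun i => Nat.beq (actR9 i) i) 1299888 1224 = true := by decide +kernel
theorem c_act9_1063 : allRange (fun i => Nat.beq (actR9 i) i) 1301112 1224 = true := by decide +kernel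
theorem c_act9_1064 : allRange (fun i => Nat.beq (actR9 i) i) 1302336 1224 = true := by decide +kernel
theorem c_act9_1065 : allRange (fun i => Nat.beq (actR9 i) i) 1303560 1224 = true := by decide +kernel
theorem c_act9_1066 : allRange (fun i => Nat.beq (actR9 i) i) 1304784 1224 = true := by decide +kernel
theorem c_act9_1067 : allRange (fun i => Nat.beq (actR9 i) i) 1306008 1224 = true := by decide +kernel
theorem c_act9_1068 : allRange (fun i => Nat.beq (actR9 i) i) 1307232 1224 = true := by decide +kernel
theorem c_act9_1069 : allRange (fun i => Nat.beq (actR9 i) i) 1308456 1224 = true := by decide +kernel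
theorem c_act9_1070 : allRange (fun i => Nat.beq (actR9 i) i) 1309680 1224 = true := by decide +kernel
theorem c_act9_1071 : allRange (fun i => Nat.beq (actR9 i) i) 1310904 1224 = true := by decide +kernel
theorem c_act9_1072 : allRange (fun i => Nat.beq (actR9 i) i) 1312128 1224 = true := by decide +kernel
theorem c_act9_1073 : allRange (fun i => Nat.beq (actR9 i) i) 1313352 1224 = true := by decide +kernel
theorem c_act9_1074 : allRange (fun i => Nat.beq (actR9 i) i) 1314576 1224 = true := by decide +kernel
theorem c_act9_1075 : allRange (fun i => Nat.beq (actR9 i) i) 1315800 1224 = true := by decide +kernel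
theorem c_act9_1076 : allRange (fun i => Nat.beq (actR9 i) i) 1317024 1224 = true := by decide +kernel
theorem c_act9_1077 : allRange (fun i => Nat.beq (actR9 i) i) 1318248 1224 = true := by decide +kernel
theorem c_act9_1078 : allRange (fun i => Nat.beq (actR9 i) i) 1319472 1224 = true := by decide +kernel
theorem c_act9_1079 : allRange (fun i => Nat.beq (actR9 i) i) 1320696 1224 = true := by decide +kernel

end Cfsg.Agent.Lib.Helper4.TCD.HNm
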