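import Cfsg.Agent.Lib.Helper4.TCD_HNm_Acc

namespace Cfsg.Agent.Lib.Helper4.TCD.HNm

open Cfsg.Agent.Lib.Helper4.TC

set_option maxRecDepth 100000
set_option Elab.async false

theorem c_act9_1080 : allRange (fun i => Nat.beq (actR9 i) i) 1321920 1224 = true := by decide +kernel
theorem c_act9_1081 : allRange (fun i => Nat.beq (actR9 i) i) 1323144 1224 = true := by decide +kernel
theorem c_act9_1082 : allRange (fun i => Nat.beq (actR9 i) i) 1324368 1224 = true := by decide +kernel
theorem c_act9_1083 : allRange (fun i => Nat.beq (actR9 i) i) 1325592 1224 = true := by decide +kernel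
theorem c_act9_1084 : allRange (fun i => Nat.beq (actR9 i) i) 1326816 1224 = true := by decide +kernel
theorem c_act9_1085 : allRange (fun i => Nat.beq (actR9 i) i) 1328040 1224 = true := by decide +kernel
theorem c_act9_1086 : allRange (fun i => Nat.beq (actR9 i) i) 1329264 1224 = true := by decide +kernel
theorem c_act9_1087 : allRange (fun i => Nat.beq (actR9 i) i) 1330488 1224 = true := by decide +kernel
theorem c_act9_1088 : allRange (fun i => Nat.beq (actR9 i) i) 1331712 1224 = true := by decide +kernel
theorem c_act9_1089 : allRange (fun i => Nat.beq (actR9 i) i) 1332936 1224 = true := by decide +kernel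
theorem c_act9_1090 : allRange (fun i => Nat.beq (actR9 i) i) 1334160 1224 = true := by decide +kernel
theorem c_act9_1091 : allRange (fun i => Nat.beq (actR9 i) i) 1335384 1224 = true := by decide +kernel
theorem c_act9_1092 : allRange (fun i => Nat.beq (actR9 i) i) 1336608 1224 = true := by decide +kernel
theorem c_act9_1093 : allRange (fun i => Nat.beq (actR9 i) i) 1337832 1224 = true := by decide +kernel
theorem c_act9_1094 : allRange (fun i => Nat.beq (actR9 i) i) 1339056 1224 = true := by decide +kernel
theorem c_act9_1095 : allRange (fun i => Nat.beq (actR9 i) i) 1340280 1224 = true := by decide +kernel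
theorem c_act9_1096 : allRange (fun i => Nat.beq (actR9 i) i) 1341504 1224 = true := by decide +kernel
theorem c_act9_1097 : allRange (fun i => Nat.beq (actR9 i) i) 1342728 1224 = true := by decide +kernel
theorem c_act9_1098 : allRange (fun i => Nat.beq (actR9 i) i) 1343952 1224 = true := by decide +kernel
theorem c_act9_1099 : allRange (fun i => Nat.beq (actR9 i) i) 1345176 1224 = true := by decide +kernel
theorem c_act9_1100 : allRange (fun i => Nat.beq (actR9 i) i) 1346400 1224 = true := by decide +kernel
theorem c_act9_1101 : allRange (fun i => Nat.beq (actR9 i) i) 1347624 1224 = true := by decide +kernel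
theorem c_act9_1102 : allRange (fun i => Nat.beq (actR9 i) i) 1348848 1224 = true := by decide +kernel
theorem c_act9_1103 : allRange (fun i => Nat.beq (actR9 i) i) 1350072 1224 = true := by decide +kernel
theorem c_act9_1104 : allRange (fun i => Nat.beq (actR9 i) i) 1351296 1224 = true := by decide +kernel
theorem c_act9_1105 : allRange (fun i => Nat.beq (actR9 i) i) 1352520 1224 = true := by decide +kernel
theorem c_act9_1106 : allRange (fun i => Nat.beq (actR9 i) i) 1353744 1224 = true := by decide +kernel
theorem c_act9_1107 : allRange (fun i => Nat.beq (actR9 i) i) 1354968 1224 = true := by decide +kernel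
theorem c_act9_1108 : allRange (fun i => Nat.beq (actR9 i) i) 1356192 1224 = true := by decide +kernel
theorem c_act9_1109 : allRange (fun i => Nat.beq (actR9 i) i) 1357416 1224 = true := by decide +kernel
theorem c_act9_1110 : allRange (fun i => Nat.beq (actR9 i) i) 1358640 1224 = true := by decide +kernel
theorem c_act9_1111 : allRange (fun i => Nat.beq (actR9 i) i) 1359864 1224 = true := by decide +kernel
theorem c_act9_1112 : allRange (fun i => Nat.beq (actR9 i) i) 1361088 1224 = true := by decide +kernel
theorem c_act9_1113 : allRange (fun i => Nat.beq (actR9 i) i) 1362312 1224 = true := by decide +kernel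
theorem c_act9_1114 : allRange (fun i => Nat.beq (actR9 i) i) 1363536 1224 = true := by decide +kernel
theorem c_act9_1115 : allRange (fun i => Nat.beq (actR9 i) i) 1364760 1224 = true := by decide +kernel
theorem c_act9_1116 : allRange (fun i => Nat.beq (actR9 i) i) 1365984 1224 = true := by decide +kernel
theorem c_act9_1117 : allRange (fun i => Nat.beq (actR9 i) i) 1367208 1224 = true := by decide +kernel
theorem c_act9_1118 : allRange (fun i => Nat.beq (actR9 i) i) 1368432 1224 = true := by decide +kernel
theorem c_act9_1119 : allRange (fun i => Nat.beq (actR9 i) i) 1369656 1224 = true := by decide +kernel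
theorem c_act9_1120 : allRange (fun i => Nat.beq (actR9 i) i) 1370880 1224 = true := by decide +kernel
theorem c_act9_1121 : allRange (fun i => Nat.beq (actR9 i) i) 1372104 1224 = true := by decide +kernel
theorem c_act9_1122 : allRange (fun i => Nat.beq (actR9 i) i) 1373328 1224 = true := by decide +kernel
theorem c_act9_1123 : allRange (fun i => Nat.beq (actR9 i) i) 1374552 1224 = true := by decide +kernel
theorem c_act9_1124 : allRange (fun i => Nat.beq (actR9 i) i) 1375776 1224 = true := by decide +kernel
theorem c_act9_1125 : allRange (fun i => Nat.beq (actR9 i) i) 1377000 1224 = true := by decide +kernel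
theorem c_act9_1126 : allRange (fun i => Nat.beq (actR9 i) i) 1378224 1224 = true := by decide +kernel
theorem c_act9_1127 : allRange (fun i => Nat.beq (actR9 i) i) 1379448 1224 = true := by decide +kernel
theorem c_act9_1128 : allRange (fun i => Nat.beq (actR9 i) i) 1380672 1224 = true := by decide +kernel
theorem c_act9_1129 : allRange (fun i => Nat.beq (actR9 i) i) 1381896 1224 = true := by decide +kernel

end Cfsg.Agent.Lib.Helper4.TCD.HNm
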