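import Cfsg.Agent.Lib.Helper4.TCD_HNm_Acc

namespace Cfsg.Agent.Lib.Helper4.TCD.HNm

open Cfsg.Agent.Lib.Helper4.TC

set_option maxRecDepth 100000
set_option Elab.async false

theorem c_act9_1130 : allRange (fun i => Nat.beq (actR9 i) i) 1383120 1224 = true := by decide +kernel
theorem c_act9_1131 : allRange (fun i => Nat.beq (actR9 i) i) 1384344 1224 = true := by decide +kernel
theorem c_act9_1132 : allRange (fun i => Nat.beq (actR9 i) i) 1385568 1224 = true := by decide +kernel
theorem c_act9_1133 : allRange (fun i => Nat.beq (actR9 i) i) 1386792 1224 = true := by decide +kernel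
theorem c_act9_1134 : allRange (fun i => Nat.beq (actR9 i) i) 1388016 1224 = true := by decide +kernel
theorem c_act9_1135 : allRange (fun i => Nat.beq (actR9 i) i) 1389240 1224 = true := by decide +kernel
theorem c_act9_1136 : allRange (fun i => Nat.beq (actR9 i) i) 1390464 1224 = true := by decide +kernel
theorem c_act9_1137 : allRange (fun i => Nat.beq (actR9 i) i) 1391688 1224 = true := by decide +kernel
theorem c_act9_1138 : allRange (fun i => Nat.beq (actR9 i) i) 1392912 1224 = true := by decide +kernel
theorem c_act9_1139 : allRange (fun i => Nat.beq (actR9 i) i) 1394136 1224 = true := by decide +kernel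
theorem c_act9_1140 : allRange (fun i => Nat.beq (actR9 i) i) 1395360 1224 = true := by decide +kernel
theorem c_act9_1141 : allRange (fun i => Nat.beq (actR9 i) i) 1396584 1224 = true := by decide +kernel
theorem c_act9_1142 : allRange (fun i => Nat.beq (actR9 i) i) 1397808 1224 = true := by decide +kernel
theorem c_act9_1143 : allRange (fun i => Nat.beq (actR9 i) i) 1399032 1224 = true := by decide +kernel
theorem c_act9_1144 : allRange (fun i => Nat.beq (actR9 i) i) 1400256 1224 = true := by decide +kernel
theorem c_act9_1145 : allRange (fun i => Nat.beq (actR9 i) i) 1401480 1224 = true := by decide +kernel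
theorem c_act9_1146 : allRange (fun i => Nat.beq (actR9 i) i) 1402704 1224 = true := by decide +kernel
theorem c_act9_1147 : allRange (fun i => Nat.beq (actR9 i) i) 1403928 1224 = true := by decide +kernel
theorem c_act9_1148 : allRange (fun i => Nat.beq (actR9 i) i) 1405152 1224 = true := by decide +kernel
theorem c_act9_1149 : allRange (fun i => Nat.beq (actR9 i) i) 1406376 1224 = true := by decide +kernel
theorem c_act9_1150 : allRange (fun i => Nat.beq (actR9 i) i) 1407600 1224 = true := by decide +kernel
theorem c_act9_1151 : allRange (fun i => Nat.beq (actR9 i) i) 1408824 1224 = true := by decide +kernel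
theorem c_act9_1152 : allRange (fun i => Nat.beq (actR9 i) i) 1410048 1224 = true := by decide +kernel
theorem c_act9_1153 : allRange (fun i => Nat.beq (actR9 i) i) 1411272 1224 = true := by decide +kernel
theorem c_act9_1154 : allRange (fun i => Nat.beq (actR9 i) i) 1412496 1224 = true := by decide +kernel
theorem c_act9_1155 : allRange (fun i => Nat.beq (actR9 i) i) 1413720 1224 = true := by decide +kernel
theorem c_act9_1156 : allRange (fun i => Nat.beq (actR9 i) i) 1414944 1224 = true := by decide +kernel
theorem c_act9_1157 : allRange (fun i => Nat.beq (actR9 i) i) 1416168 1224 = true := by decide +kernel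
theorem c_act9_1158 : allRange (fun i => Nat.beq (actR9 i) i) 1417392 1224 = true := by decide +kernel
theorem c_act9_1159 : allRange (fun i => Nat.beq (actR9 i) i) 1418616 1224 = true := by decide +kernel
theorem c_act9_1160 : allRange (fun i => Nat.beq (actR9 i) i) 1419840 1224 = true := by decide +kernel
theorem c_act9_1161 : allRange (fun i => Nat.beq (actR9 i) i) 1421064 1224 = true := by decide +kernel
theorem c_act9_1162 : allRange (fun i => Nat.beq (actR9 i) i) 1422288 1224 = true := by decide +kernel
theorem c_act9_1163 : allRange (fun i => Nat.beq (actR9 i) i) 1423512 1224 = true := by decide +kernel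
theorem c_act9_1164 : allRange (fun i => Nat.beq (actR9 i) i) 1424736 1224 = true := by decide +kernel
theorem c_act9_1165 : allRange (fun i => Nat.beq (actR9 i) i) 1425960 1224 = true := by decide +kernel
theorem c_act9_1166 : allRange (fun i => Nat.beq (actR9 i) i) 1427184 1224 = true := by decide +kernel
theorem c_act9_1167 : allRange (fun i => Nat.beq (actR9 i) i) 1428408 1224 = true := by decide +kernel
theorem c_act9_1168 : allRange (fun i => Nat.beq (actR9 i) i) 1429632 1224 = true := by decide +kernel
theorem c_act9_1169 : allRange (fun i => Nat.beq (actR9 i) i) 1430856 1224 = true := by decide +kernel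
theorem c_act9_1170 : allRange (fun i => Nat.beq (actR9 i) i) 1432080 1224 = true := by decide +kernel
theorem c_act9_1171 : allRange (fun i => Nat.beq (actR9 i) i) 1433304 1224 = true := by decide +kernel
theorem c_act9_1172 : allRange (fun i => Nat.beq (actR9 i) i) 1434528 1224 = true := by decide +kernel
theorem c_act9_1173 : allRange (fun i => Nat.beq (actR9 i) i) 1435752 1224 = true := by decide +kernel
theorem c_act9_1174 : allRange (fun i => Nat.beq (actR9 i) i) 1436976 1224 = true := by decide +kernel
theorem c_act9_1175 : allRange (fun i => Nat.beq (actR9 i) i) 1438200 1224 = true := by decide +kernel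
theorem c_act9_1176 : allRange (fun i => Nat.beq (actR9 i) i) 1439424 1224 = true := by decide +kernel
theorem c_act9_1177 : allRange (fun i => Nat.beq (actR9 i) i) 1440648 1224 = true := by decide +kernel
theorem c_act9_1178 : allRange (fun i => Nat.beq (actR9 i) i) 1441872 1224 = true := by decide +kernel
theorem c_act9_1179 : allRange (fun i => Nat.beq (actR9 i) i) 1443096 1224 = true := by decide +kernel

end Cfsg.Agent.Lib.Helper4.TCD.HNm
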