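import Cfsg.Agent.Lib.Helper4.TCD_HNm_Acc

namespace Cfsg.Agent.Lib.Helper4.TCD.HNm

open Cfsg.Agent.Lib.Helper4.TC

set_option maxRecDepth 100000
set_option Elab.async false

theorem c_act9_1180 : allRange (fun i => Nat.beq (actR9 i) i) 1444320 1224 = true := by decide +kernel
theorem c_act9_1181 : allRange (fun i => Nat.beq (actR9 i) i) 1445544 1224 = true := by decide +kernel
theorem c_act9_1182 : allRange (fun i => Nat.beq (actR9 i) i) 1446768 1224 = true := by decide +kernel
theorem c_act9_1183 : allRange (fun i => Nat.beq (actR9 i) i) 1447992 1224 = true := by decide +kernel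
theorem c_act9_1184 : allRange (fun i => Nat.beq (actR9 i) i) 1449216 1224 = true := by decide +kernel
theorem c_act9_1185 : allRange (fun i => Nat.beq (actR9 i) i) 1450440 1224 = true := by decide +kernel
theorem c_act9_1186 : allRange (fun i => Nat.beq (actR9 i) i) 1451664 1224 = true := by decide +kernel
theorem c_act9_1187 : allRange (fun i => Nat.beq (actR9 i) i) 1452888 1224 = true := by decide +kernel
theorem c_act9_1188 : allRange (fun i => Nat.beq (actR9 i) i) 1454112 1224 = true := by decide +kernel
theorem c_act9_1189 : allRange (fun i => Nat.beq (actR9 i) i) 1455336 1224 = true := by decide +kernel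
theorem c_act9_1190 : allRange (fun i => Nat.beq (actR9 i) i) 1456560 1224 = true := by decide +kernel
theorem c_act9_1191 : allRange (fun i => Nat.beq (actR9 i) i) 1457784 1224 = true := by decide +kernel
theorem c_act9_1192 : allRange (fun i => Nat.beq (actR9 i) i) 1459008 1224 = true := by decide +kernel
theorem c_act9_1193 : allRange (fun i => Nat.beq (actR9 i) i) 1460232 1224 = true := by decide +kernel
theorem c_act9_1194 : allRange (fun i => Nat.beq (actR9 i) i) 1461456 1224 = true := by decide +kernel
theorem c_act9_1195 : allRange (fun i => Nat.beq (actR9 i) i) 1462680 1224 = true := by decide +kernel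
theorem c_act9_1196 : allRange (fun i => Nat.beq (actR9 i) i) 1463904 1224 = true := by decide +kernel
theorem c_act9_1197 : allRange (fun i => Nat.beq (actR9 i) i) 1465128 1224 = true := by decide +kernel
theorem c_act9_1198 : allRange (fun i => Nat.beq (actR9 i) i) 1466352 1224 = true := by decide +kernel
theorem c_act9_1199 : allRange (fun i => Nat.beq (actR9 i) i) 1467576 1224 = true := by decide +kernel
theorem c_act9_1200 : allRange (fun i => Nat.beq (actR9 i) i) 1468800 1224 = true := by decide +kernel
theorem c_act9_1201 : allRange (fun i => Nat.beq (actR9 i) i) 1470024 1224 = true := by decide +kernel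
theorem c_act9_1202 : allRange (fun i => Nat.beq (actR9 i) i) 1471248 1224 = true := by decide +kernel
theorem c_act9_1203 : allRange (fun i => Nat.beq (actR9 i) i) 1472472 1224 = true := by decide +kernel
theorem c_act9_1204 : allRange (fun i => Nat.beq (actR9 i) i) 1473696 1224 = true := by decide +kernel
theorem c_act9_1205 : allRange (fun i => Nat.beq (actR9 i) i) 1474920 1224 = true := by decide +kernel
theorem c_act9_1206 : allRange (fun i => Nat.beq (actR9 i) i) 1476144 1224 = true := by decide +kernel
theorem c_act9_1207 : allRange (fun i => Nat.beq (actR9 i) i) 1477368 1224 = true := by decide +kernel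
theorem c_act9_1208 : allRange (fun i => Nat.beq (actR9 i) i) 1478592 1224 = true := by decide +kernel
theorem c_act9_1209 : allRange (fun i => Nat.beq (actR9 i) i) 1479816 1224 = true := by decide +kernel
theorem c_act9_1210 : allRange (fun i => Nat.beq (actR9 i) i) 1481040 1224 = true := by decide +kernel
theorem c_act9_1211 : allRange (fun i => Nat.beq (actR9 i) i) 1482264 1224 = true := by decide +kernel
theorem c_act9_1212 : allRange (fun i => Nat.beq (actR9 i) i) 1483488 1224 = true := by decide +kernel
theorem c_act9_1213 : allRange (fun i => Nat.beq (actR9 i) i) 1484712 1224 = true := by decide +kernel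
theorem c_act9_1214 : allRange (fun i => Nat.beq (actR9 i) i) 1485936 1224 = true := by decide +kernel
theorem c_act9_1215 : allRange (fun i => Nat.beq (actR9 i) i) 1487160 1224 = true := by decide +kernel
theorem c_act9_1216 : allRange (fun i => Nat.beq (actR9 i) i) 1488384 1224 = true := by decide +kernel
theorem c_act9_1217 : allRange (fun i => Nat.beq (actR9 i) i) 1489608 1224 = true := by decide +kernel
theorem c_act9_1218 : allRange (fun i => Nat.beq (actR9 i) i) 1490832 1224 = true := by decide +kernel
theorem c_act9_1219 : allRange (fun i => Nat.beq (actR9 i) i) 1492056 1224 = true := by decide +kernel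
theorem c_act9_1220 : allRange (fun i => Nat.beq (actR9 i) i) 1493280 1224 = true := by decide +kernel
theorem c_act9_1221 : allRange (fun i => Nat.beq (actR9 i) i) 1494504 1224 = true := by decide +kernel
theorem c_act9_1222 : allRange (fun i => Nat.beq (actR9 i) i) 1495728 1224 = true := by decide +kernel
theorem c_act9_1223 : allRange (fun i => Nat.beq (actR9 i) i) 1496952 1224 = true := by decide +kernel
theorem c_act9_1224 : allRange (fun i => Nat.beq (actR9 i) i) 1498176 1224 = true := by decide +kernel
theorem c_act9_1225 : allRange (fun i => Nat.beq (actR9 i) i) 1499400 1224 = true := by decide +kernel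
theorem c_act9_1226 : allRange (fun i => Nat.beq (actR9 i) i) 1500624 1224 = true := by decide +kernel
theorem c_act9_1227 : allRange (fun i => Nat.beq (actR9 i) i) 1501848 1224 = true := by decide +kernel
theorem c_act9_1228 : allRange (fun i => Nat.beq (actR9 i) i) 1503072 1224 = true := by decide +kernel
theorem c_act9_1229 : allRange (fun i => Nat.beq (actR9 i) i) 1504296 1224 = true := by decide +kernel

end Cfsg.Agent.Lib.Helper4.TCD.HNm
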