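import Cfsg.Agent.Lib.Helper4.TCD_HNm_Acc

namespace Cfsg.Agent.Lib.Helper4.TCD.HNm

open Cfsg.Agent.Lib.Helper4.TC

set_option maxRecDepth 100000
set_option Elab.async false

theorem c_act9_1230 : allRange (fun i => Nat.beq (actR9 i) i) 1505520 1224 = true := by decide +kernel
theorem c_act9_1231 : allRange (fun i => Nat.beq (actR9 i) i) 1506744 1224 = true := by decide +kernel
theorem c_act9_1232 : allRange (fun i => Nat.beq (actR9 i) i) 1507968 1224 = true := by decide +kernel
theorem c_act9_1233 : allRange (fun i => Nat.beq (actR9 i) i) 1509192 1224 = true := by decide +kernel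
theorem c_act9_1234 : allRange (fun i => Nat.beq (actR9 i) i) 1510416 1224 = true := by decide +kernel
theorem c_act9_1235 : allRange (fun i => Nat.beq (actR9 i) i) 1511640 1224 = true := by decide +kernel
theorem c_act9_1236 : allRange (fun i => Nat.beq (actR9 i) i) 1512864 1224 = true := by decide +kernel
theorem c_act9_1237 : allRange (fun i => Nat.beq (actR9 i) i) 1514088 1224 = true := by decide +kernel
theorem c_act9_1238 : allRange (fun i => Nat.beq (actR9 i) i) 1515312 1224 = true := by decide +kernel
theorem c_act9_1239 : allRange (fun i => Nat.beq (actR9 i) i) 1516536 1224 = true := by decide +kernel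
theorem c_act9_1240 : allRange (fun i => Nat.beq (actR9 i) i) 1517760 1224 = true := by decide +kernel
theorem c_act9_1241 : allRange (fun i => Nat.beq (actR9 i) i) 1518984 1224 = true := by decide +kernel
theorem c_act9_1242 : allRange (fun i => Nat.beq (actR9 i) i) 1520208 1224 = true := by decide +kernel
theorem c_act9_1243 : allRange (fun i => Nat.beq (actR9 i) i) 1521432 1224 = true := by decide +kernel
theorem c_act9_1244 : allRange (fun i => Nat.beq (actR9 i) i) 1522656 1224 = true := by decide +kernel
theorem c_act9_1245 : allRange (fun i => Nat.beq (actR9 i) i) 1523880 1224 = true := by decide +kernel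
theorem c_act9_1246 : allRange (fun i => Nat.beq (actR9 i) i) 1525104 1224 = true := by decide +kernel
theorem c_act9_1247 : allRange (fun i => Nat.beq (actR9 i) i) 1526328 1224 = true := by decide +kernel
theorem c_act9_1248 : allRange (fun i => Nat.beq (actR9 i) i) 1527552 1224 = true := by decide +kernel
theorem c_act9_1249 : allRange (fun i => Nat.beq (actR9 i) i) 1528776 1224 = true := by decide +kernel
theorem c_act9_1250 : allRange (fun i => Nat.beq (actR9 i) i) 1530000 1224 = true := by decide +kernel
theorem c_act9_1251 : allRange (fun i => Nat.beq (actR9 i) i) 1531224 1224 = true := by decide +kernel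
theorem c_act9_1252 : allRange (fun i => Nat.beq (actR9 i) i) 1532448 1224 = true := by decide +kernel
theorem c_act9_1253 : allRange (fun i => Nat.beq (actR9 i) i) 1533672 1224 = true := by decide +kernel
theorem c_act9_1254 : allRange (fun i => Nat.beq (actR9 i) i) 1534896 1224 = true := by decide +kernel
theorem c_act9_1255 : allRange (fun i => Nat.beq (actR9 i) i) 1536120 1224 = true := by decide +kernel
theorem c_act9_1256 : allRange (fun i => Nat.beq (actR9 i) i) 1537344 1224 = true := by decide +kernel
theorem c_act9_1257 : allRange (fun i => Nat.beq (actR9 i) i) 1538568 432 = true := by decide +kernel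
theorem c_act10_0 : allRange (fun i => Nat.beq (actR10 i) i) 0 12000 = true := by decide +kernel
theorem c_act10_1 : allRange (fun i => Nat.beq (actR10 i) i) 12000 12000 = true := by decide +kernel
theorem c_act10_2 : allRange (fun i => Nat.beq (actR10 i) i) 24000 12000 = true := by decide +kernel
theorem c_act10_3 : allRange (fun i => Nat.beq (actR10 i) i) 36000 12000 = true := by decide +kernel
theorem c_act10_4 : allRange (fun i => Nat.beq (actR10 i) i) 48000 12000 = true := by decide +kernel
theorem c_act10_5 : allRange (fun i => Nat.beq (actR10 i) i) 60000 12000 = true := by decide +kernel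
theorem c_act10_6 : allRange (fun i => Nat.beq (actR10 i) i) 72000 12000 = true := by decide +kernel
theorem c_act10_7 : allRange (fun i => Nat.beq (actR10 i) i) 84000 12000 = true := by decide +kernel
theorem c_act10_8 : allRange (fun i => Nat.beq (actR10 i) i) 96000 12000 = true := by decide +kernel
theorem c_act10_9 : allRange (fun i => Nat.beq (actR10 i) i) 108000 12000 = true := by decide +kernel
theorem c_act10_10 : allRange (fun i => Nat.beq (actR10 i) i) 120000 12000 = true := by decide +kernel
theorem c_act10_11 : allRange (fun i => Nat.beq (actR10 i) i) 132000 12000 = true := by decide +kernel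
theorem c_act10_12 : allRange (fun i => Nat.beq (actR10 i) i) 144000 12000 = true := by decide +kernel
theorem c_act10_13 : allRange (fun i => Nat.beq (actR10 i) i) 156000 12000 = true := by decide +kernel
theorem c_act10_14 : allRange (fun i => Nat.beq (actR10 i) i) 168000 12000 = true := by decide +kernel
theorem c_act10_15 : allRange (fun i => Nat.beq (actR10 i) i) 180000 12000 = true := by decide +kernel
theorem c_act10_16 : allRange (fun i => Nat.beq (actR10 i) i) 192000 12000 = true := by decide +kernel
theorem c_act10_17 : allRange (fun i => Nat.beq (actR10 i) i) 204000 12000 = true := by decide +kernel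
theorem c_act10_18 : allRange (fun i => Nat.beq (actR10 i) i) 216000 12000 = true := by decide +kernel
theorem c_act10_19 : allRange (fun i => Nat.beq (actR10 i) i) 228000 12000 = true := by decide +kernel
theorem c_act10_20 : allRange (fun i => Nat.beq (actR10 i) i) 240000 12000 = true := by decide +kernel
theorem c_act10_21 : allRange (fun i => Nat.beq (actR10 i) i) 252000 12000 = true := by decide +kernel

end Cfsg.Agent.Lib.Helper4.TCD.HNm
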