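import Cfsg.Agent.Lib.Helper4.TCD_HNm_Acc

namespace Cfsg.Agent.Lib.Helper4.TCD.HNm

open Cfsg.Agent.Lib.Helper4.TC

set_option maxRecDepth 100000
set_option Elab.async false

theorem c_act10_22 : allRange (fun i => Nat.beq (actR10 i) i) 264000 12000 = true := by decide +kernel
theorem c_act10_23 : allRange (fun i => Nat.beq (actR10 i) i) 276000 12000 = true := by decide +kernel
theorem c_act10_24 : allRange (fun i => Nat.beq (actR10 i) i) 288000 12000 = true := by decide +kernel
theorem c_act10_25 : allRange (fun i => Nat.beq (actR10 i) i) 300000 12000 = true := by decide +kernel
theorem c_act10_26 : allRange (fun i => Nat.beq (actR10 i) i) 312000 12000 = true := by decide +kernel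
theorem c_act10_27 : allRange (fun i => Nat.beq (actR10 i) i) 324000 12000 = true := by decide +kernel
theorem c_act10_28 : allRange (fun i => Nat.beq (actR10 i) i) 336000 12000 = true := by decide +kernel
theorem c_act10_29 : allRange (fun i => Nat.beq (actR10 i) i) 348000 12000 = true := by decide +kernel
theorem c_act10_30 : allRange (fun i => Nat.beq (actR10 i) i) 360000 12000 = true := by decide +kernel
theorem c_act10_31 : allRange (fun i => Nat.beq (actR10 i) i) 372000 12000 = true := by decide +kernel
theorem c_act10_32 : allRange (fun i => Nat.beq (actR10 i) i) 384000 12000 = true := by decide +kernel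
theorem c_act10_33 : allRange (fun i => Nat.beq (actR10 i) i) 396000 12000 = true := by decide +kernel
theorem c_act10_34 : allRange (fun i => Nat.beq (actR10 i) i) 408000 12000 = true := by decide +kernel
theorem c_act10_35 : allRange (fun i => Nat.beq (actR10 i) i) 420000 12000 = true := by decide +kernel
theorem c_act10_36 : allRange (fun i => Nat.beq (actR10 i) i) 432000 12000 = true := by decide +kernel
theorem c_act10_37 : allRange (fun i => Nat.beq (actR10 i) i) 444000 12000 = true := by decide +kernel
theorem c_act10_38 : allRange (fun i => Nat.beq (actR10 i) i) 456000 12000 = true := by decide +kernel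
theorem c_act10_39 : allRange (fun i => Nat.beq (actR10 i) i) 468000 12000 = true := by decide +kernel
theorem c_act10_40 : allRange (fun i => Nat.beq (actR10 i) i) 480000 12000 = true := by decide +kernel
theorem c_act10_41 : allRange (fun i => Nat.beq (actR10 i) i) 492000 12000 = true := by decide +kernel
theorem c_act10_42 : allRange (fun i => Nat.beq (actR10 i) i) 504000 12000 = true := by decide +kernel
theorem c_act10_43 : allRange (fun i => Nat.beq (actR10 i) i) 516000 12000 = true := by decide +kernel
theorem c_act10_44 : allRange (fun i => Nat.beq (actR10 i) i) 528000 12000 = true := by decide +kernel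
theorem c_act10_45 : allRange (fun i => Nat.beq (actR10 i) i) 540000 12000 = true := by decide +kernel
theorem c_act10_46 : allRange (fun i => Nat.beq (actR10 i) i) 552000 12000 = true := by decide +kernel
theorem c_act10_47 : allRange (fun i => Nat.beq (actR10 i) i) 564000 12000 = true := by decide +kernel
theorem c_act10_48 : allRange (fun i => Nat.beq (actR10 i) i) 576000 12000 = true := by decide +kernel
theorem c_act10_49 : allRange (fun i => Nat.beq (actR10 i) i) 588000 12000 = true := by decide +kernel
theorem c_act10_50 : allRange (fun i => Nat.beq (actR10 i) i) 600000 12000 = true := by decide +kernel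
theorem c_act10_51 : allRange (fun i => Nat.beq (actR10 i) i) 612000 12000 = true := by decide +kernel
theorem c_act10_52 : allRange (fun i => Nat.beq (actR10 i) i) 624000 12000 = true := by decide +kernel
theorem c_act10_53 : allRange (fun i => Nat.beq (actR10 i) i) 636000 12000 = true := by decide +kernel
theorem c_act10_54 : allRange (fun i => Nat.beq (actR10 i) i) 648000 12000 = true := by decide +kernel
theorem c_act10_55 : allRange (fun i => Nat.beq (actR10 i) i) 660000 12000 = true := by decide +kernel
theorem c_act10_56 : allRange (fun i => Nat.beq (actR10 i) i) 672000 12000 = true := by decide +kernel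
theorem c_act10_57 : allRange (fun i => Nat.beq (actR10 i) i) 684000 12000 = true := by decide +kernel
theorem c_act10_58 : allRange (fun i => Nat.beq (actR10 i) i) 696000 12000 = true := by decide +kernel
theorem c_act10_59 : allRange (fun i => Nat.beq (actR10 i) i) 708000 12000 = true := by decide +kernel
theorem c_act10_60 : allRange (fun i => Nat.beq (actR10 i) i) 720000 12000 = true := by decide +kernel
theorem c_act10_61 : allRange (fun i => Nat.beq (actR10 i) i) 732000 12000 = true := by decide +kernel
theorem c_act10_62 : allRange (fun i => Nat.beq (actR10 i) i) 744000 12000 = true := by decide +kernel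
theorem c_act10_63 : allRange (fun i => Nat.beq (actR10 i) i) 756000 12000 = true := by decide +kernel
theorem c_act10_64 : allRange (fun i => Nat.beq (actR10 i) i) 768000 12000 = true := by decide +kernel
theorem c_act10_65 : allRange (fun i => Nat.beq (actR10 i) i) 780000 12000 = true := by decide +kernel
theorem c_act10_66 : allRange (fun i => Nat.beq (actR10 i) i) 792000 12000 = true := by decide +kernel
theorem c_act10_67 : allRange (fun i => Nat.beq (actR10 i) i) 804000 12000 = true := by decide +kernel
theorem c_act10_68 : allRange (fun i => Nat.beq (actR10 i) i) 816000 12000 = true := by decide +kernel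
theorem c_act10_69 : allRange (fun i => Nat.beq (actR10 i) i) 828000 12000 = true := by decide +kernel
theorem c_act10_70 : allRange (fun i => Nat.beq (actR10 i) i) 840000 12000 = true := by decide +kernel
theorem c_act10_71 : allRange (fun i => Nat.beq (actR10 i) i) 852000 12000 = true := by decide +kernel

end Cfsg.Agent.Lib.Helper4.TCD.HNm
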