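import Cfsg.Agent.Lib.Helper4.TCD_HNm_Acc

namespace Cfsg.Agent.Lib.Helper4.TCD.HNm

open Cfsg.Agent.Lib.Helper4.TC

set_option maxRecDepth 100000
set_option Elab.async false

theorem c_act10_72 : allRange (fun i => Nat.beq (actR10 i) i) 864000 12000 = true := by decide +kernel
theorem c_act10_73 : allRange (fun i => Nat.beq (actR10 i) i) 876000 12000 = true := by decide +kernel
theorem c_act10_74 : allRange (fun i => Nat.beq (actR10 i) i) 888000 12000 = true := by decide +kernel
theorem c_act10_75 : allRange (fun i => Nat.beq (actR10 i) i) 900000 12000 = true := by decide +kernel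
theorem c_act10_76 : allRange (fun i => Nat.beq (actR10 i) i) 912000 12000 = true := by decide +kernel
theorem c_act10_77 : allRange (fun i => Nat.beq (actR10 i) i) 924000 12000 = true := by decide +kernel
theorem c_act10_78 : allRange (fun i => Nat.beq (actR10 i) i) 936000 12000 = true := by decide +kernel
theorem c_act10_79 : allRange (fun i => Nat.beq (actR10 i) i) 948000 12000 = true := by decide +kernel
theorem c_act10_80 : allRange (fun i => Nat.beq (actR10 i) i) 960000 12000 = true := by decide +kernel
theorem c_act10_81 : allRange (fun i => Nat.beq (actR10 i) i) 972000 12000 = true := by decide +kernel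
theorem c_act10_82 : allRange (fun i => Nat.beq (actR10 i) i) 984000 12000 = true := by decide +kernel
theorem c_act10_83 : allRange (fun i => Nat.beq (actR10 i) i) 996000 12000 = true := by decide +kernel
theorem c_act10_84 : allRange (fun i => Nat.beq (actR10 i) i) 1008000 12000 = true := by decide +kernel
theorem c_act10_85 : allRange (fun i => Nat.beq (actR10 i) i) 1020000 12000 = true := by decide +kernel
theorem c_act10_86 : allRange (fun i => Nat.beq (actR10 i) i) 1032000 12000 = true := by decide +kernel
theorem c_act10_87 : allRange (fun i => Nat.beq (actR10 i) i) 1044000 12000 = true := by decide +kernel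
theorem c_act10_88 : allRange (fun i => Nat.beq (actR10 i) i) 1056000 12000 = true := by decide +kernel
theorem c_act10_89 : allRange (fun i => Nat.beq (actR10 i) i) 1068000 12000 = true := by decide +kernel
theorem c_act10_90 : allRange (fun i => Nat.beq (actR10 i) i) 1080000 12000 = true := by decide +kernel
theorem c_act10_91 : allRange (fun i => Nat.beq (actR10 i) i) 1092000 12000 = true := by decide +kernel
theorem c_act10_92 : allRange (fun i => Nat.beq (actR10 i) i) 1104000 12000 = true := by decide +kernel
theorem c_act10_93 : allRange (fun i => Nat.beq (actR10 i) i) 1116000 12000 = true := by decide +kernel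
theorem c_act10_94 : allRange (fun i => Nat.beq (actR10 i) i) 1128000 12000 = true := by decide +kernel
theorem c_act10_95 : allRange (fun i => Nat.beq (actR10 i) i) 1140000 12000 = true := by decide +kernel
theorem c_act10_96 : allRange (fun i => Nat.beq (actR10 i) i) 1152000 12000 = true := by decide +kernel
theorem c_act10_97 : allRange (fun i => Nat.beq (actR10 i) i) 1164000 12000 = true := by decide +kernel
theorem c_act10_98 : allRange (fun i => Nat.beq (actR10 i) i) 1176000 12000 = true := by decide +kernel
theorem c_act10_99 : allRange (fun i => Nat.beq (actR10 i) i) 1188000 12000 = true := by decide +kernel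
theorem c_act10_100 : allRange (fun i => Nat.beq (actR10 i) i) 1200000 12000 = true := by decide +kernel
theorem c_act10_101 : allRange (fun i => Nat.beq (actR10 i) i) 1212000 12000 = true := by decide +kernel
theorem c_act10_102 : allRange (fun i => Nat.beq (actR10 i) i) 1224000 12000 = true := by decide +kernel
theorem c_act10_103 : allRange (fun i => Nat.beq (actR10 i) i) 1236000 12000 = true := by decide +kernel
theorem c_act10_104 : allRange (fun i => Nat.beq (actR10 i) i) 1248000 12000 = true := by decide +kernel
theorem c_act10_105 : allRange (fun i => Nat.beq (actR10 i) i) 1260000 12000 = true := by decide +kernel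
theorem c_act10_106 : allRange (fun i => Nat.beq (actR10 i) i) 1272000 12000 = true := by decide +kernel
theorem c_act10_107 : allRange (fun i => Nat.beq (actR10 i) i) 1284000 12000 = true := by decide +kernel
theorem c_act10_108 : allRange (fun i => Nat.beq (actR10 i) i) 1296000 12000 = true := by decide +kernel
theorem c_act10_109 : allRange (fun i => Nat.beq (actR10 i) i) 1308000 12000 = true := by decide +kernel
theorem c_act10_110 : allRange (fun i => Nat.beq (actR10 i) i) 1320000 12000 = true := by decide +kernel
theorem c_act10_111 : allRange (fun i => Nat.beq (actR10 i) i) 1332000 12000 = true := by decide +kernel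
theorem c_act10_112 : allRange (fun i => Nat.beq (actR10 i) i) 1344000 12000 = true := by decide +kernel
theorem c_act10_113 : allRange (fun i => Nat.beq (actR10 i) i) 1356000 12000 = true := by decide +kernel
theorem c_act10_114 : allRange (fun i => Nat.beq (actR10 i) i) 1368000 12000 = true := by decide +kernel
theorem c_act10_115 : allRange (fun i => Nat.beq (actR10 i) i) 1380000 12000 = true := by decide +kernel
theorem c_act10_116 : allRange (fun i => Nat.beq (actR10 i) i) 1392000 12000 = true := by decide +kernel
theorem c_act10_117 : allRange (fun i => Nat.beq (actR10 i) i) 1404000 12000 = true := by decide +kernel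
theorem c_act10_118 : allRange (fun i => Nat.beq (actR10 i) i) 1416000 12000 = true := by decide +kernel
theorem c_act10_119 : allRange (fun i => Nat.beq (actR10 i) i) 1428000 12000 = true := by decide +kernel
theorem c_act10_120 : allRange (fun i => Nat.beq (actR10 i) i) 1440000 12000 = true := by decide +kernel
theorem c_act10_121 : allRange (fun i => Nat.beq (actR10 i) i) 1452000 12000 = true := by decide +kernel

end Cfsg.Agent.Lib.Helper4.TCD.HNm
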