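import Cfsg.Agent.Lib.Helper4.TCD_HNm_Acc

namespace Cfsg.Agent.Lib.Helper4.TCD.HNm

open Cfsg.Agent.Lib.Helper4.TC

set_option maxRecDepth 100000
set_option Elab.async false

theorem c_act10_122 : allRange (fun i => Nat.beq (actR10 i) i) 1464000 12000 = true := by decide +kernel
theorem c_act10_123 : allRange (fun i => Nat.beq (actR10 i) i) 1476000 12000 = true := by decide +kernel
theorem c_act10_124 : allRange (fun i => Nat.beq (actR10 i) i) 1488000 12000 = true := by decide +kernel
theorem c_act10_125 : allRange (fun i => Nat.beq (actR10 i) i) 1500000 12000 = true := by decide +kernel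
theorem c_act10_126 : allRange (fun i => Nat.beq (actR10 i) i) 1512000 12000 = true := by decide +kernel
theorem c_act10_127 : allRange (fun i => Nat.beq (actR10 i) i) 1524000 12000 = true := by decide +kernel
theorem c_act10_128 : allRange (fun i => Nat.beq (actR10 i) i) 1536000 3000 = true := by decide +kernel
theorem c_act11_0 : allRange (fun i => Nat.beq (actR11 i) i) 0 12000 = true := by decide +kernel
theorem c_act11_1 : allRange (fun i => Nat.beq (actR11 i) i) 12000 12000 = true := by decide +kernel
theorem c_act11_2 : allRange (fun i => Nat.beq (actR11 i) i) 24000 12000 = true := by decide +kernel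
theorem c_act11_3 : allRange (fun i => Nat.beq (actR11 i) i) 36000 12000 = true := by decide +kernel
theorem c_act11_4 : allRange (fun i => Nat.beq (actR11 i) i) 48000 12000 = true := by decide +kernel
theorem c_act11_5 : allRange (fun i => Nat.beq (actR11 i) i) 60000 12000 = true := by decide +kernel
theorem c_act11_6 : allRange (fun i => Nat.beq (actR11 i) i) 72000 12000 = true := by decide +kernel
theorem c_act11_7 : allRange (fun i => Nat.beq (actR11 i) i) 84000 12000 = true := by decide +kernel
theorem c_act11_8 : allRange (fun i => Nat.beq (actR11 i) i) 96000 12000 = true := by decide +kernel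
theorem c_act11_9 : allRange (fun i => Nat.beq (actR11 i) i) 108000 12000 = true := by decide +kernel
theorem c_act11_10 : allRange (fun i => Nat.beq (actR11 i) i) 120000 12000 = true := by decide +kernel
theorem c_act11_11 : allRange (fun i => Nat.beq (actR11 i) i) 132000 12000 = true := by decide +kernel
theorem c_act11_12 : allRange (fun i => Nat.beq (actR11 i) i) 144000 12000 = true := by decide +kernel
theorem c_act11_13 : allRange (fun i => Nat.beq (actR11 i) i) 156000 12000 = true := by decide +kernel
theorem c_act11_14 : allRange (fun i => Nat.beq (actR11 i) i) 168000 12000 = true := by decide +kernel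
theorem c_act11_15 : allRange (fun i => Nat.beq (actR11 i) i) 180000 12000 = true := by decide +kernel
theorem c_act11_16 : allRange (fun i => Nat.beq (actR11 i) i) 192000 12000 = true := by decide +kernel
theorem c_act11_17 : allRange (fun i => Nat.beq (actR11 i) i) 204000 12000 = true := by decide +kernel
theorem c_act11_18 : allRange (fun i => Nat.beq (actR11 i) i) 216000 12000 = true := by decide +kernel
theorem c_act11_19 : allRange (fun i => Nat.beq (actR11 i) i) 228000 12000 = true := by decide +kernel
theorem c_act11_20 : allRange (fun i => Nat.beq (actR11 i) i) 240000 12000 = true := by decide +kernel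
theorem c_act11_21 : allRange (fun i => Nat.beq (actR11 i) i) 252000 12000 = true := by decide +kernel
theorem c_act11_22 : allRange (fun i => Nat.beq (actR11 i) i) 264000 12000 = true := by decide +kernel
theorem c_act11_23 : allRange (fun i => Nat.beq (actR11 i) i) 276000 12000 = true := by decide +kernel
theorem c_act11_24 : allRange (fun i => Nat.beq (actR11 i) i) 288000 12000 = true := by decide +kernel
theorem c_act11_25 : allRange (fun i => Nat.beq (actR11 i) i) 300000 12000 = true := by decide +kernel
theorem c_act11_26 : allRange (fun i => Nat.beq (actR11 i) i) 312000 12000 = true := by decide +kernel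
theorem c_act11_27 : allRange (fun i => Nat.beq (actR11 i) i) 324000 12000 = true := by decide +kernel
theorem c_act11_28 : allRange (fun i => Nat.beq (actR11 i) i) 336000 12000 = true := by decide +kernel
theorem c_act11_29 : allRange (fun i => Nat.beq (actR11 i) i) 348000 12000 = true := by decide +kernel
theorem c_act11_30 : allRange (fun i => Nat.beq (actR11 i) i) 360000 12000 = true := by decide +kernel
theorem c_act11_31 : allRange (fun i => Nat.beq (actR11 i) i) 372000 12000 = true := by decide +kernel
theorem c_act11_32 : allRange (fun i => Nat.beq (actR11 i) i) 384000 12000 = true := by decide +kernel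
theorem c_act11_33 : allRange (fun i => Nat.beq (actR11 i) i) 396000 12000 = true := by decide +kernel
theorem c_act11_34 : allRange (fun i => Nat.beq (actR11 i) i) 408000 12000 = true := by decide +kernel
theorem c_act11_35 : allRange (fun i => Nat.beq (actR11 i) i) 420000 12000 = true := by decide +kernel
theorem c_act11_36 : allRange (fun i => Nat.beq (actR11 i) i) 432000 12000 = true := by decide +kernel
theorem c_act11_37 : allRange (fun i => Nat.beq (actR11 i) i) 444000 12000 = true := by decide +kernel
theorem c_act11_38 : allRange (fun i => Nat.beq (actR11 i) i) 456000 12000 = true := by decide +kernel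
theorem c_act11_39 : allRange (fun i => Nat.beq (actR11 i) i) 468000 12000 = true := by decide +kernel
theorem c_act11_40 : allRange (fun i => Nat.beq (actR11 i) i) 480000 12000 = true := by decide +kernel
theorem c_act11_41 : allRange (fun i => Nat.beq (actR11 i) i) 492000 12000 = true := by decide +kernel
theorem c_act11_42 : allRange (fun i => Nat.beq (actR11 i) i) 504000 12000 = true := by decide +kernel

end Cfsg.Agent.Lib.Helper4.TCD.HNm
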