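import Cfsg.Agent.Lib.Helper4.TCD_HNm_Acc

namespace Cfsg.Agent.Lib.Helper4.TCD.HNm

open Cfsg.Agent.Lib.Helper4.TC

set_option maxRecDepth 100000
set_option Elab.async false

theorem c_act11_43 : allRange (fun i => Nat.beq (actR11 i) i) 516000 12000 = true := by decide +kernel
theorem c_act11_44 : allRange (fun i => Nat.beq (actR11 i) i) 528000 12000 = true := by decide +kernel
theorem c_act11_45 : allRange (fun i => Nat.beq (actR11 i) i) 540000 12000 = true := by decide +kernel
theorem c_act11_46 : allRange (fun i => Nat.beq (actR11 i) i) 552000 12000 = true := by decide +kernel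
theorem c_act11_47 : allRange (fun i => Nat.beq (actR11 i) i) 564000 12000 = true := by decide +kernel
theorem c_act11_48 : allRange (fun i => Nat.beq (actR11 i) i) 576000 12000 = true := by decide +kernel
theorem c_act11_49 : allRange (fun i => Nat.beq (actR11 i) i) 588000 12000 = true := by decide +kernel
theorem c_act11_50 : allRange (fun i => Nat.beq (actR11 i) i) 600000 12000 = true := by decide +kernel
theorem c_act11_51 : allRange (fun i => Nat.beq (actR11 i) i) 612000 12000 = true := by decide +kernel
theorem c_act11_52 : allRange (fun i => Nat.beq (actR11 i) i) 624000 12000 = true := by decide +kernel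
theorem c_act11_53 : allRange (fun i => Nat.beq (actR11 i) i) 636000 12000 = true := by decide +kernel
theorem c_act11_54 : allRange (fun i => Nat.beq (actR11 i) i) 648000 12000 = true := by decide +kernel
theorem c_act11_55 : allRange (fun i => Nat.beq (actR11 i) i) 660000 12000 = true := by decide +kernel
theorem c_act11_56 : allRange (fun i => Nat.beq (actR11 i) i) 672000 12000 = true := by decide +kernel
theorem c_act11_57 : allRange (fun i => Nat.beq (actR11 i) i) 684000 12000 = true := by decide +kernel
theorem c_act11_58 : allRange (fun i => Nat.beq (actR11 i) i) 696000 12000 = true := by decide +kernel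
theorem c_act11_59 : allRange (fun i => Nat.beq (actR11 i) i) 708000 12000 = true := by decide +kernel
theorem c_act11_60 : allRange (fun i => Nat.beq (actR11 i) i) 720000 12000 = true := by decide +kernel
theorem c_act11_61 : allRange (fun i => Nat.beq (actR11 i) i) 732000 12000 = true := by decide +kernel
theorem c_act11_62 : allRange (fun i => Nat.beq (actR11 i) i) 744000 12000 = true := by decide +kernel
theorem c_act11_63 : allRange (fun i => Nat.beq (actR11 i) i) 756000 12000 = true := by decide +kernel
theorem c_act11_64 : allRange (fun i => Nat.beq (actR11 i) i) 768000 12000 = true := by decide +kernel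
theorem c_act11_65 : allRange (fun i => Nat.beq (actR11 i) i) 780000 12000 = true := by decide +kernel
theorem c_act11_66 : allRange (fun i => Nat.beq (actR11 i) i) 792000 12000 = true := by decide +kernel
theorem c_act11_67 : allRange (fun i => Nat.beq (actR11 i) i) 804000 12000 = true := by decide +kernel
theorem c_act11_68 : allRange (fun i => Nat.beq (actR11 i) i) 816000 12000 = true := by decide +kernel
theorem c_act11_69 : allRange (fun i => Nat.beq (actR11 i) i) 828000 12000 = true := by decide +kernel
theorem c_act11_70 : allRange (fun i => Nat.beq (actR11 i) i) 840000 12000 = true := by decide +kernel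
theorem c_act11_71 : allRange (fun i => Nat.beq (actR11 i) i) 852000 12000 = true := by decide +kernel
theorem c_act11_72 : allRange (fun i => Nat.beq (actR11 i) i) 864000 12000 = true := by decide +kernel
theorem c_act11_73 : allRange (fun i => Nat.beq (actR11 i) i) 876000 12000 = true := by decide +kernel
theorem c_act11_74 : allRange (fun i => Nat.beq (actR11 i) i) 888000 12000 = true := by decide +kernel
theorem c_act11_75 : allRange (fun i => Nat.beq (actR11 i) i) 900000 12000 = true := by decide +kernel
theorem c_act11_76 : allRange (fun i => Nat.beq (actR11 i) i) 912000 12000 = true := by decide +kernel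
theorem c_act11_77 : allRange (fun i => Nat.beq (actR11 i) i) 924000 12000 = true := by decide +kernel
theorem c_act11_78 : allRange (fun i => Nat.beq (actR11 i) i) 936000 12000 = true := by decide +kernel
theorem c_act11_79 : allRange (fun i => Nat.beq (actR11 i) i) 948000 12000 = true := by decide +kernel
theorem c_act11_80 : allRange (fun i => Nat.beq (actR11 i) i) 960000 12000 = true := by decide +kernel
theorem c_act11_81 : allRange (fun i => Nat.beq (actR11 i) i) 972000 12000 = true := by decide +kernel
theorem c_act11_82 : allRange (fun i => Nat.beq (actR11 i) i) 984000 12000 = true := by decide +kernel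
theorem c_act11_83 : allRange (fun i => Nat.beq (actR11 i) i) 996000 12000 = true := by decide +kernel
theorem c_act11_84 : allRange (fun i => Nat.beq (actR11 i) i) 1008000 12000 = true := by decide +kernel
theorem c_act11_85 : allRange (fun i => Nat.beq (actR11 i) i) 1020000 12000 = true := by decide +kernel
theorem c_act11_86 : allRange (fun i => Nat.beq (actR11 i) i) 1032000 12000 = true := by decide +kernel
theorem c_act11_87 : allRange (fun i => Nat.beq (actR11 i) i) 1044000 12000 = true := by decide +kernel
theorem c_act11_88 : allRange (fun i => Nat.beq (actR11 i) i) 1056000 12000 = true := by decide +kernel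
theorem c_act11_89 : allRange (fun i => Nat.beq (actR11 i) i) 1068000 12000 = true := by decide +kernel
theorem c_act11_90 : allRange (fun i => Nat.beq (actR11 i) i) 1080000 12000 = true := by decide +kernel
theorem c_act11_91 : allRange (fun i => Nat.beq (actR11 i) i) 1092000 12000 = true := by decide +kernel
theorem c_act11_92 : allRange (fun i => Nat.beq (actR11 i) i) 1104000 12000 = true := by decide +kernel

end Cfsg.Agent.Lib.Helper4.TCD.HNm
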