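import Cfsg.Agent.Lib.Helper4.TCD_HNm_Acc

namespace Cfsg.Agent.Lib.Helper4.TCD.HNm

open Cfsg.Agent.Lib.Helper4.TC

set_option maxRecDepth 100000
set_option Elab.async false

theorem c_act11_93 : allRange (fun i => Nat.beq (actR11 i) i) 1116000 12000 = true := by decide +kernel
theorem c_act11_94 : allRange (fun i => Nat.beq (actR11 i) i) 1128000 12000 = true := by decide +kernel
theorem c_act11_95 : allRange (fun i => Nat.beq (actR11 i) i) 1140000 12000 = true := by decide +kernel
theorem c_act11_96 : allRange (fun i => Nat.beq (actR11 i) i) 1152000 12000 = true := by decide +kernel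
theorem c_act11_97 : allRange (fun i => Nat.beq (actR11 i) i) 1164000 12000 = true := by decide +kernel
theorem c_act11_98 : allRange (fun i => Nat.beq (actR11 i) i) 1176000 12000 = true := by decide +kernel
theorem c_act11_99 : allRange (fun i => Nat.beq (actR11 i) i) 1188000 12000 = true := by decide +kernel
theorem c_act11_100 : allRange (fun i => Nat.beq (actR11 i) i) 1200000 12000 = true := by decide +kernel
theorem c_act11_101 : allRange (fun i => Nat.beq (actR11 i) i) 1212000 12000 = true := by decide +kernel
theorem c_act11_102 : allRange (fun i => Nat.beq (actR11 i) i) 1224000 12000 = true := by decide +kernel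
theorem c_act11_103 : allRange (fun i => Nat.beq (actR11 i) i) 1236000 12000 = true := by decide +kernel
theorem c_act11_104 : allRange (fun i => Nat.beq (actR11 i) i) 1248000 12000 = true := by decide +kernel
theorem c_act11_105 : allRange (fun i => Nat.beq (actR11 i) i) 1260000 12000 = true := by decide +kernel
theorem c_act11_106 : allRange (fun i => Nat.beq (actR11 i) i) 1272000 12000 = true := by decide +kernel
theorem c_act11_107 : allRange (fun i => Nat.beq (actR11 i) i) 1284000 12000 = true := by decide +kernel
theorem c_act11_108 : allRange (fun i => Nat.beq (actR11 i) i) 1296000 12000 = true := by decide +kernel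
theorem c_act11_109 : allRange (fun i => Nat.beq (actR11 i) i) 1308000 12000 = true := by decide +kernel
theorem c_act11_110 : allRange (fun i => Nat.beq (actR11 i) i) 1320000 12000 = true := by decide +kernel
theorem c_act11_111 : allRange (fun i => Nat.beq (actR11 i) i) 1332000 12000 = true := by decide +kernel
theorem c_act11_112 : allRange (fun i => Nat.beq (actR11 i) i) 1344000 12000 = true := by decide +kernel
theorem c_act11_113 : allRange (fun i => Nat.beq (actR11 i) i) 1356000 12000 = true := by decide +kernel
theorem c_act11_114 : allRange (fun i => Nat.beq (actR11 i) i) 1368000 12000 = true := by decide +kernel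
theorem c_act11_115 : allRange (fun i => Nat.beq (actR11 i) i) 1380000 12000 = true := by decide +kernel
theorem c_act11_116 : allRange (fun i => Nat.beq (actR11 i) i) 1392000 12000 = true := by decide +kernel
theorem c_act11_117 : allRange (fun i => Nat.beq (actR11 i) i) 1404000 12000 = true := by decide +kernel
theorem c_act11_118 : allRange (fun i => Nat.beq (actR11 i) i) 1416000 12000 = true := by decide +kernel
theorem c_act11_119 : allRange (fun i => Nat.beq (actR11 i) i) 1428000 12000 = true := by decide +kernel
theorem c_act11_120 : allRange (fun i => Nat.beq (actR11 i) i) 1440000 12000 = true := by decide +kernel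
theorem c_act11_121 : allRange (fun i => Nat.beq (actR11 i) i) 1452000 12000 = true := by decide +kernel
theorem c_act11_122 : allRange (fun i => Nat.beq (actR11 i) i) 1464000 12000 = true := by decide +kernel
theorem c_act11_123 : allRange (fun i => Nat.beq (actR11 i) i) 1476000 12000 = true := by decide +kernel
theorem c_act11_124 : allRange (fun i => Nat.beq (actR11 i) i) 1488000 12000 = true := by decide +kernel
theorem c_act11_125 : allRange (fun i => Nat.beq (actR11 i) i) 1500000 12000 = true := by decide +kernel
theorem c_act11_126 : allRange (fun i => Nat.beq (actR11 i) i) 1512000 12000 = true := by decide +kernel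
theorem c_act11_127 : allRange (fun i => Nat.beq (actR11 i) i) 1524000 12000 = true := by decide +kernel
theorem c_act11_128 : allRange (fun i => Nat.beq (actR11 i) i) 1536000 3000 = true := by decide +kernel
theorem c_act12_0 : allRange (fun i => Nat.beq (actR12 i) i) 0 15000 = true := by decide +kernel
theorem c_act12_1 : allRange (fun i => Nat.beq (actR12 i) i) 15000 15000 = true := by decide +kernel
theorem c_act12_2 : allRange (fun i => Nat.beq (actR12 i) i) 30000 15000 = true := by decide +kernel
theorem c_act12_3 : allRange (fun i => Nat.beq (actR12 i) i) 45000 15000 = true := by decide +kernel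
theorem c_act12_4 : allRange (fun i => Nat.beq (actR12 i) i) 60000 15000 = true := by decide +kernel
theorem c_act12_5 : allRange (fun i => Nat.beq (actR12 i) i) 75000 15000 = true := by decide +kernel
theorem c_act12_6 : allRange (fun i => Nat.beq (actR12 i) i) 90000 15000 = true := by decide +kernel
theorem c_act12_7 : allRange (fun i => Nat.beq (actR12 i) i) 105000 15000 = true := by decide +kernel
theorem c_act12_8 : allRange (fun i => Nat.beq (actR12 i) i) 120000 15000 = true := by decide +kernel
theorem c_act12_9 : allRange (fun i => Nat.beq (actR12 i) i) 135000 15000 = true := by decide +kernel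
theorem c_act12_10 : allRange (fun i => Nat.beq (actR12 i) i) 150000 15000 = true := by decide +kernel
theorem c_act12_11 : allRange (fun i => Nat.beq (actR12 i) i) 165000 15000 = true := by decide +kernel
theorem c_act12_12 : allRange (fun i => Nat.beq (actR12 i) i) 180000 15000 = true := by decide +kernel
theorem c_act12_13 : allRange (fun i => Nat.beq (actR12 i) i) 195000 15000 = true := by decide +kernel

end Cfsg.Agent.Lib.Helper4.TCD.HNm
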