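import Cfsg.Agent.Lib.Helper4.TCD_HNm_Acc

namespace Cfsg.Agent.Lib.Helper4.TCD.HNm

open Cfsg.Agent.Lib.Helper4.TC

set_option maxRecDepth 100000
set_option Elab.async false

theorem c_act12_14 : allRange (fun i => Nat.beq (actR12 i) i) 210000 15000 = true := by decide +kernel
theorem c_act12_15 : allRange (fun i => Nat.beq (actR12 i) i) 225000 15000 = true := by decide +kernel
theorem c_act12_16 : allRange (fun i => Nat.beq (actR12 i) i) 240000 15000 = true := by decide +kernel
theorem c_act12_17 : allRange (fun i => Nat.beq (actR12 i) i) 255000 15000 = true := by decide +kernel
theorem c_act12_18 : allRange (fun i => Nat.beq (actR12 i) i) 270000 15000 = true := by decide +kernel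
theorem c_act12_19 : allRange (fun i => Nat.beq (actR12 i) i) 285000 15000 = true := by decide +kernel
theorem c_act12_20 : allRange (fun i => Nat.beq (actR12 i) i) 300000 15000 = true := by decide +kernel
theorem c_act12_21 : allRange (fun i => Nat.beq (actR12 i) i) 315000 15000 = true := by decide +kernel
theorem c_act12_22 : allRange (fun i => Nat.beq (actR12 i) i) 330000 15000 = true := by decide +kernel
theorem c_act12_23 : allRange (fun i => Nat.beq (actR12 i) i) 345000 15000 = true := by decide +kernel
theorem c_act12_24 : allRange (fun i => Nat.beq (actR12 i) i) 360000 15000 = true := by decide +kernel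
theorem c_act12_25 : allRange (fun i => Nat.beq (actR12 i) i) 375000 15000 = true := by decide +kernel
theorem c_act12_26 : allRange (fun i => Nat.beq (actR12 i) i) 390000 15000 = true := by decide +kernel
theorem c_act12_27 : allRange (fun i => Nat.beq (actR12 i) i) 405000 15000 = true := by decide +kernel
theorem c_act12_28 : allRange (fun i => Nat.beq (actR12 i) i) 420000 15000 = true := by decide +kernel
theorem c_act12_29 : allRange (fun i => Nat.beq (actR12 i) i) 435000 15000 = true := by decide +kernel
theorem c_act12_30 : allRange (fun i => Nat.beq (actR12 i) i) 450000 15000 = true := by decide +kernel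
theorem c_act12_31 : allRange (fun i => Nat.beq (actR12 i) i) 465000 15000 = true := by decide +kernel
theorem c_act12_32 : allRange (fun i => Nat.beq (actR12 i) i) 480000 15000 = true := by decide +kernel
theorem c_act12_33 : allRange (fun i => Nat.beq (actR12 i) i) 495000 15000 = true := by decide +kernel
theorem c_act12_34 : allRange (fun i => Nat.beq (actR12 i) i) 510000 15000 = true := by decide +kernel
theorem c_act12_35 : allRange (fun i => Nat.beq (actR12 i) i) 525000 15000 = true := by decide +kernel
theorem c_act12_36 : allRange (fun i => Nat.beq (actR12 i) i) 540000 15000 = true := by decide +kernel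
theorem c_act12_37 : allRange (fun i => Nat.beq (actR12 i) i) 555000 15000 = true := by decide +kernel
theorem c_act12_38 : allRange (fun i => Nat.beq (actR12 i) i) 570000 15000 = true := by decide +kernel
theorem c_act12_39 : allRange (fun i => Nat.beq (actR12 i) i) 585000 15000 = true := by decide +kernel
theorem c_act12_40 : allRange (fun i => Nat.beq (actR12 i) i) 600000 15000 = true := by decide +kernel
theorem c_act12_41 : allRange (fun i => Nat.beq (actR12 i) i) 615000 15000 = true := by decide +kernel
theorem c_act12_42 : allRange (fun i => Nat.beq (actR12 i) i) 630000 15000 = true := by decide +kernel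
theorem c_act12_43 : allRange (fun i => Nat.beq (actR12 i) i) 645000 15000 = true := by decide +kernel
theorem c_act12_44 : allRange (fun i => Nat.beq (actR12 i) i) 660000 15000 = true := by decide +kernel
theorem c_act12_45 : allRange (fun i => Nat.beq (actR12 i) i) 675000 15000 = true := by decide +kernel
theorem c_act12_46 : allRange (fun i => Nat.beq (actR12 i) i) 690000 15000 = true := by decide +kernel
theorem c_act12_47 : allRange (fun i => Nat.beq (actR12 i) i) 705000 15000 = true := by decide +kernel
theorem c_act12_48 : allRange (fun i => Nat.beq (actR12 i) i) 720000 15000 = true := by decide +kernel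
theorem c_act12_49 : allRange (fun i => Nat.beq (actR12 i) i) 735000 15000 = true := by decide +kernel
theorem c_act12_50 : allRange (fun i => Nat.beq (actR12 i) i) 750000 15000 = true := by decide +kernel
theorem c_act12_51 : allRange (fun i => Nat.beq (actR12 i) i) 765000 15000 = true := by decide +kernel
theorem c_act12_52 : allRange (fun i => Nat.beq (actR12 i) i) 780000 15000 = true := by decide +kernel
theorem c_act12_53 : allRange (fun i => Nat.beq (actR12 i) i) 795000 15000 = true := by decide +kernel
theorem c_act12_54 : allRange (fun i => Nat.beq (actR12 i) i) 810000 15000 = true := by decide +kernel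
theorem c_act12_55 : allRange (fun i => Nat.beq (actR12 i) i) 825000 15000 = true := by decide +kernel
theorem c_act12_56 : allRange (fun i => Nat.beq (actR12 i) i) 840000 15000 = true := by decide +kernel
theorem c_act12_57 : allRange (fun i => Nat.beq (actR12 i) i) 855000 15000 = true := by decide +kernel
theorem c_act12_58 : allRange (fun i => Nat.beq (actR12 i) i) 870000 15000 = true := by decide +kernel
theorem c_act12_59 : allRange (fun i => Nat.beq (actR12 i) i) 885000 15000 = true := by decide +kernel
theorem c_act12_60 : allRange (fun i => Nat.beq (actR12 i) i) 900000 15000 = true := by decide +kernel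
theorem c_act12_61 : allRange (fun i => Nat.beq (actR12 i) i) 915000 15000 = true := by decide +kernel
theorem c_act12_62 : allRange (fun i => Nat.beq (actR12 i) i) 930000 15000 = true := by decide +kernel
theorem c_act12_63 : allRange (fun i => Nat.beq (actR12 i) i) 945000 15000 = true := by decide +kernel

end Cfsg.Agent.Lib.Helper4.TCD.HNm
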