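import Cfsg.Agent.Lib.Helper4.TCD_HNm_Acc

namespace Cfsg.Agent.Lib.Helper4.TCD.HNm

open Cfsg.Agent.Lib.Helper4.TC

set_option maxRecDepth 100000
set_option Elab.async false

theorem c_act12_64 : allRange (fun i => Nat.beq (actR12 i) i) 960000 15000 = true := by decide +kernel
theorem c_act12_65 : allRange (fun i => Nat.beq (actR12 i) i) 975000 15000 = true := by decide +kernel
theorem c_act12_66 : allRange (fun i => Nat.beq (actR12 i) i) 990000 15000 = true := by decide +kernel
theorem c_act12_67 : allRange (fun i => Nat.beq (actR12 i) i) 1005000 15000 = true := by decide +kernel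
theorem c_act12_68 : allRange (fun i => Nat.beq (actR12 i) i) 1020000 15000 = true := by decide +kernel
theorem c_act12_69 : allRange (fun i => Nat.beq (actR12 i) i) 1035000 15000 = true := by decide +kernel
theorem c_act12_70 : allRange (fun i => Nat.beq (actR12 i) i) 1050000 15000 = true := by decide +kernel
theorem c_act12_71 : allRange (fun i => Nat.beq (actR12 i) i) 1065000 15000 = true := by decide +kernel
theorem c_act12_72 : allRange (fun i => Nat.beq (actR12 i) i) 1080000 15000 = true := by decide +kernel
theorem c_act12_73 : allRange (fun i => Nat.beq (actR12 i) i) 1095000 15000 = true := by decide +kernel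
theorem c_act12_74 : allRange (fun i => Nat.beq (actR12 i) i) 1110000 15000 = true := by decide +kernel
theorem c_act12_75 : allRange (fun i => Nat.beq (actR12 i) i) 1125000 15000 = true := by decide +kernel
theorem c_act12_76 : allRange (fun i => Nat.beq (actR12 i) i) 1140000 15000 = true := by decide +kernel
theorem c_act12_77 : allRange (fun i => Nat.beq (actR12 i) i) 1155000 15000 = true := by decide +kernel
theorem c_act12_78 : allRange (fun i => Nat.beq (actR12 i) i) 1170000 15000 = true := by decide +kernel
theorem c_act12_79 : allRange (fun i => Nat.beq (actR12 i) i) 1185000 15000 = true := by decide +kernel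
theorem c_act12_80 : allRange (fun i => Nat.beq (actR12 i) i) 1200000 15000 = true := by decide +kernel
theorem c_act12_81 : allRange (fun i => Nat.beq (actR12 i) i) 1215000 15000 = true := by decide +kernel
theorem c_act12_82 : allRange (fun i => Nat.beq (actR12 i) i) 1230000 15000 = true := by decide +kernel
theorem c_act12_83 : allRange (fun i => Nat.beq (actR12 i) i) 1245000 15000 = true := by decide +kernel
theorem c_act12_84 : allRange (fun i => Nat.beq (actR12 i) i) 1260000 15000 = true := by decide +kernel
theorem c_act12_85 : allRange (fun i => Nat.beq (actR12 i) i) 1275000 15000 = true := by decide +kernel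
theorem c_act12_86 : allRange (fun i => Nat.beq (actR12 i) i) 1290000 15000 = true := by decide +kernel
theorem c_act12_87 : allRange (fun i => Nat.beq (actR12 i) i) 1305000 15000 = true := by decide +kernel
theorem c_act12_88 : allRange (fun i => Nat.beq (actR12 i) i) 1320000 15000 = true := by decide +kernel
theorem c_act12_89 : allRange (fun i => Nat.beq (actR12 i) i) 1335000 15000 = true := by decide +kernel
theorem c_act12_90 : allRange (fun i => Nat.beq (actR12 i) i) 1350000 15000 = true := by decide +kernel
theorem c_act12_91 : allRange (fun i => Nat.beq (actR12 i) i) 1365000 15000 = true := by decide +kernel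
theorem c_act12_92 : allRange (fun i => Nat.beq (actR12 i) i) 1380000 15000 = true := by decide +kernel
theorem c_act12_93 : allRange (fun i => Nat.beq (actR12 i) i) 1395000 15000 = true := by decide +kernel
theorem c_act12_94 : allRange (fun i => Nat.beq (actR12 i) i) 1410000 15000 = true := by decide +kernel
theorem c_act12_95 : allRange (fun i => Nat.beq (actR12 i) i) 1425000 15000 = true := by decide +kernel
theorem c_act12_96 : allRange (fun i => Nat.beq (actR12 i) i) 1440000 15000 = true := by decide +kernel
theorem c_act12_97 : allRange (fun i => Nat.beq (actR12 i) i) 1455000 15000 = true := by decide +kernel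
theorem c_act12_98 : allRange (fun i => Nat.beq (actR12 i) i) 1470000 15000 = true := by decide +kernel
theorem c_act12_99 : allRange (fun i => Nat.beq (actR12 i) i) 1485000 15000 = true := by decide +kernel
theorem c_act12_100 : allRange (fun i => Nat.beq (actR12 i) i) 1500000 15000 = true := by decide +kernel
theorem c_act12_101 : allRange (fun i => Nat.beq (actR12 i) i) 1515000 15000 = true := by decide +kernel
theorem c_act12_102 : allRange (fun i => Nat.beq (actR12 i) i) 1530000 9000 = true := by decide +kernel
theorem c_act13_0 : allRange (fun i => Nat.beq (actR13 i) i) 0 10000 = true := by decide +kernel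
theorem c_act13_1 : allRange (fun i => Nat.beq (actR13 i) i) 10000 10000 = true := by decide +kernel
theorem c_act13_2 : allRange (fun i => Nat.beq (actR13 i) i) 20000 10000 = true := by decide +kernel
theorem c_act13_3 : allRange (fun i => Nat.beq (actR13 i) i) 30000 10000 = true := by decide +kernel
theorem c_act13_4 : allRange (fun i => Nat.beq (actR13 i) i) 40000 10000 = true := by decide +kernel
theorem c_act13_5 : allRange (fun i => Nat.beq (actR13 i) i) 50000 10000 = true := by decide +kernel
theorem c_act13_6 : allRange (fun i => Nat.beq (actR13 i) i) 60000 10000 = true := by decide +kernel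
theorem c_act13_7 : allRange (fun i => Nat.beq (actR13 i) i) 70000 10000 = true := by decide +kernel
theorem c_act13_8 : allRange (fun i => Nat.beq (actR13 i) i) 80000 10000 = true := by decide +kernel
theorem c_act13_9 : allRange (fun i => Nat.beq (actR13 i) i) 90000 10000 = true := by decide +kernel
theorem c_act13_10 : allRange (fun i => Nat.beq (actR13 i) i) 100000 10000 = true := by decide +kernel

end Cfsg.Agent.Lib.Helper4.TCD.HNm
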