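import Cfsg.Agent.Lib.Helper4.TCD_HNm_Acc

namespace Cfsg.Agent.Lib.Helper4.TCD.HNm

open Cfsg.Agent.Lib.Helper4.TC

set_option maxRecDepth 100000
set_option Elab.async false

theorem c_act13_11 : allRange (fun i => Nat.beq (actR13 i) i) 110000 10000 = true := by decide +kernel
theorem c_act13_12 : allRange (fun i => Nat.beq (actR13 i) i) 120000 10000 = true := by decide +kernel
theorem c_act13_13 : allRange (fun i => Nat.beq (actR13 i) i) 130000 10000 = true := by decide +kernel
theorem c_act13_14 : allRange (fun i => Nat.beq (actR13 i) i) 140000 10000 = true := by decide +kernel
theorem c_act13_15 : allRange (fun i => Nat.beq (actR13 i) i) 150000 10000 = true := by decide +kernel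
theorem c_act13_16 : allRange (fun i => Nat.beq (actR13 i) i) 160000 10000 = true := by decide +kernel
theorem c_act13_17 : allRange (fun i => Nat.beq (actR13 i) i) 170000 10000 = true := by decide +kernel
theorem c_act13_18 : allRange (fun i => Nat.beq (actR13 i) i) 180000 10000 = true := by decide +kernel
theorem c_act13_19 : allRange (fun i => Nat.beq (actR13 i) i) 190000 10000 = true := by decide +kernel
theorem c_act13_20 : allRange (fun i => Nat.beq (actR13 i) i) 200000 10000 = true := by decide +kernel
theorem c_act13_21 : allRange (fun i => Nat.beq (actR13 i) i) 210000 10000 = true := by decide +kernel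
theorem c_act13_22 : allRange (fun i => Nat.beq (actR13 i) i) 220000 10000 = true := by decide +kernel
theorem c_act13_23 : allRange (fun i => Nat.beq (actR13 i) i) 230000 10000 = true := by decide +kernel
theorem c_act13_24 : allRange (fun i => Nat.beq (actR13 i) i) 240000 10000 = true := by decide +kernel
theorem c_act13_25 : allRange (fun i => Nat.beq (actR13 i) i) 250000 10000 = true := by decide +kernel
theorem c_act13_26 : allRange (fun i => Nat.beq (actR13 i) i) 260000 10000 = true := by decide +kernel
theorem c_act13_27 : allRange (fun i => Nat.beq (actR13 i) i) 270000 10000 = true := by decide +kernel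
theorem c_act13_28 : allRange (fun i => Nat.beq (actR13 i) i) 280000 10000 = true := by decide +kernel
theorem c_act13_29 : allRange (fun i => Nat.beq (actR13 i) i) 290000 10000 = true := by decide +kernel
theorem c_act13_30 : allRange (fun i => Nat.beq (actR13 i) i) 300000 10000 = true := by decide +kernel
theorem c_act13_31 : allRange (fun i => Nat.beq (actR13 i) i) 310000 10000 = true := by decide +kernel
theorem c_act13_32 : allRange (fun i => Nat.beq (actR13 i) i) 320000 10000 = true := by decide +kernel
theorem c_act13_33 : allRange (fun i => Nat.beq (actR13 i) i) 330000 10000 = true := by decide +kernel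
theorem c_act13_34 : allRange (fun i => Nat.beq (actR13 i) i) 340000 10000 = true := by decide +kernel
theorem c_act13_35 : allRange (fun i => Nat.beq (actR13 i) i) 350000 10000 = true := by decide +kernel
theorem c_act13_36 : allRange (fun i => Nat.beq (actR13 i) i) 360000 10000 = true := by decide +kernel
theorem c_act13_37 : allRange (fun i => Nat.beq (actR13 i) i) 370000 10000 = true := by decide +kernel
theorem c_act13_38 : allRange (fun i => Nat.beq (actR13 i) i) 380000 10000 = true := by decide +kernel
theorem c_act13_39 : allRange (fun i => Nat.beq (actR13 i) i) 390000 10000 = true := by decide +kernel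
theorem c_act13_40 : allRange (fun i => Nat.beq (actR13 i) i) 400000 10000 = true := by decide +kernel
theorem c_act13_41 : allRange (fun i => Nat.beq (actR13 i) i) 410000 10000 = true := by decide +kernel
theorem c_act13_42 : allRange (fun i => Nat.beq (actR13 i) i) 420000 10000 = true := by decide +kernel
theorem c_act13_43 : allRange (fun i => Nat.beq (actR13 i) i) 430000 10000 = true := by decide +kernel
theorem c_act13_44 : allRange (fun i => Nat.beq (actR13 i) i) 440000 10000 = true := by decide +kernel
theorem c_act13_45 : allRange (fun i => Nat.beq (actR13 i) i) 450000 10000 = true := by decide +kernel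
theorem c_act13_46 : allRange (fun i => Nat.beq (actR13 i) i) 460000 10000 = true := by decide +kernel
theorem c_act13_47 : allRange (fun i => Nat.beq (actR13 i) i) 470000 10000 = true := by decide +kernel
theorem c_act13_48 : allRange (fun i => Nat.beq (actR13 i) i) 480000 10000 = true := by decide +kernel
theorem c_act13_49 : allRange (fun i => Nat.beq (actR13 i) i) 490000 10000 = true := by decide +kernel
theorem c_act13_50 : allRange (fun i => Nat.beq (actR13 i) i) 500000 10000 = true := by decide +kernel
theorem c_act13_51 : allRange (fun i => Nat.beq (actR13 i) i) 510000 10000 = true := by decide +kernel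
theorem c_act13_52 : allRange (fun i => Nat.beq (actR13 i) i) 520000 10000 = true := by decide +kernel
theorem c_act13_53 : allRange (fun i => Nat.beq (actR13 i) i) 530000 10000 = true := by decide +kernel
theorem c_act13_54 : allRange (fun i => Nat.beq (actR13 i) i) 540000 10000 = true := by decide +kernel
theorem c_act13_55 : allRange (fun i => Nat.beq (actR13 i) i) 550000 10000 = true := by decide +kernel
theorem c_act13_56 : allRange (fun i => Nat.beq (actR13 i) i) 560000 10000 = true := by decide +kernel
theorem c_act13_57 : allRange (fun i => Nat.beq (actR13 i) i) 570000 10000 = true := by decide +kernel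
theorem c_act13_58 : allRange (fun i => Nat.beq (actR13 i) i) 580000 10000 = true := by decide +kernel
theorem c_act13_59 : allRange (fun i => Nat.beq (actR13 i) i) 590000 10000 = true := by decide +kernel
theorem c_act13_60 : allRange (fun i => Nat.beq (actR13 i) i) 600000 10000 = true := by decide +kernel

end Cfsg.Agent.Lib.Helper4.TCD.HNm
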