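import Cfsg.Agent.Lib.Helper4.TCD_HNm_Acc

namespace Cfsg.Agent.Lib.Helper4.TCD.HNm

open Cfsg.Agent.Lib.Helper4.TC

set_option maxRecDepth 100000
set_option Elab.async false

theorem c_act13_61 : allRange (fun i => Nat.beq (actR13 i) i) 610000 10000 = true := by decide +kernel
theorem c_act13_62 : allRange (fun i => Nat.beq (actR13 i) i) 620000 10000 = true := by decide +kernel
theorem c_act13_63 : allRange (fun i => Nat.beq (actR13 i) i) 630000 10000 = true := by decide +kernel
theorem c_act13_64 : allRange (fun i => Nat.beq (actR13 i) i) 640000 10000 = true := by decide +kernel
theorem c_act13_65 : allRange (fun i => Nat.beq (actR13 i) i) 650000 10000 = true := by decide +kernel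
theorem c_act13_66 : allRange (fun i => Nat.beq (actR13 i) i) 660000 10000 = true := by decide +kernel
theorem c_act13_67 : allRange (fun i => Nat.beq (actR13 i) i) 670000 10000 = true := by decide +kernel
theorem c_act13_68 : allRange (fun i => Nat.beq (actR13 i) i) 680000 10000 = true := by decide +kernel
theorem c_act13_69 : allRange (fun i => Nat.beq (actR13 i) i) 690000 10000 = true := by decide +kernel
theorem c_act13_70 : allRange (fun i => Nat.beq (actR13 i) i) 700000 10000 = true := by decide +kernel
theorem c_act13_71 : allRange (fun i => Nat.beq (actR13 i) i) 710000 10000 = true := by decide +kernel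
theorem c_act13_72 : allRange (fun i => Nat.beq (actR13 i) i) 720000 10000 = true := by decide +kernel
theorem c_act13_73 : allRange (fun i => Nat.beq (actR13 i) i) 730000 10000 = true := by decide +kernel
theorem c_act13_74 : allRange (fun i => Nat.beq (actR13 i) i) 740000 10000 = true := by decide +kernel
theorem c_act13_75 : allRange (fun i => Nat.beq (actR13 i) i) 750000 10000 = true := by decide +kernel
theorem c_act13_76 : allRange (fun i => Nat.beq (actR13 i) i) 760000 10000 = true := by decide +kernel
theorem c_act13_77 : allRange (fun i => Nat.beq (actR13 i) i) 770000 10000 = true := by decide +kernel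
theorem c_act13_78 : allRange (fun i => Nat.beq (actR13 i) i) 780000 10000 = true := by decide +kernel
theorem c_act13_79 : allRange (fun i => Nat.beq (actR13 i) i) 790000 10000 = true := by decide +kernel
theorem c_act13_80 : allRange (fun i => Nat.beq (actR13 i) i) 800000 10000 = true := by decide +kernel
theorem c_act13_81 : allRange (fun i => Nat.beq (actR13 i) i) 810000 10000 = true := by decide +kernel
theorem c_act13_82 : allRange (fun i => Nat.beq (actR13 i) i) 820000 10000 = true := by decide +kernel
theorem c_act13_83 : allRange (fun i => Nat.beq (actR13 i) i) 830000 10000 = true := by decide +kernel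
theorem c_act13_84 : allRange (fun i => Nat.beq (actR13 i) i) 840000 10000 = true := by decide +kernel
theorem c_act13_85 : allRange (fun i => Nat.beq (actR13 i) i) 850000 10000 = true := by decide +kernel
theorem c_act13_86 : allRange (fun i => Nat.beq (actR13 i) i) 860000 10000 = true := by decide +kernel
theorem c_act13_87 : allRange (fun i => Nat.beq (actR13 i) i) 870000 10000 = true := by decide +kernel
theorem c_act13_88 : allRange (fun i => Nat.beq (actR13 i) i) 880000 10000 = true := by decide +kernel
theorem c_act13_89 : allRange (fun i => Nat.beq (actR13 i) i) 890000 10000 = true := by decide +kernel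
theorem c_act13_90 : allRange (fun i => Nat.beq (actR13 i) i) 900000 10000 = true := by decide +kernel
theorem c_act13_91 : allRange (fun i => Nat.beq (actR13 i) i) 910000 10000 = true := by decide +kernel
theorem c_act13_92 : allRange (fun i => Nat.beq (actR13 i) i) 920000 10000 = true := by decide +kernel
theorem c_act13_93 : allRange (fun i => Nat.beq (actR13 i) i) 930000 10000 = true := by decide +kernel
theorem c_act13_94 : allRange (fun i => Nat.beq (actR13 i) i) 940000 10000 = true := by decide +kernel
theorem c_act13_95 : allRange (fun i => Nat.beq (actR13 i) i) 950000 10000 = true := by decide +kernel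
theorem c_act13_96 : allRange (fun i => Nat.beq (actR13 i) i) 960000 10000 = true := by decide +kernel
theorem c_act13_97 : allRange (fun i => Nat.beq (actR13 i) i) 970000 10000 = true := by decide +kernel
theorem c_act13_98 : allRange (fun i => Nat.beq (actR13 i) i) 980000 10000 = true := by decide +kernel
theorem c_act13_99 : allRange (fun i => Nat.beq (actR13 i) i) 990000 10000 = true := by decide +kernel
theorem c_act13_100 : allRange (fun i => Nat.beq (actR13 i) i) 1000000 10000 = true := by decide +kernel
theorem c_act13_101 : allRange (fun i => Nat.beq (actR13 i) i) 1010000 10000 = true := by decide +kernel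
theorem c_act13_102 : allRange (fun i => Nat.beq (actR13 i) i) 1020000 10000 = true := by decide +kernel
theorem c_act13_103 : allRange (fun i => Nat.beq (actR13 i) i) 1030000 10000 = true := by decide +kernel
theorem c_act13_104 : allRange (fun i => Nat.beq (actR13 i) i) 1040000 10000 = true := by decide +kernel
theorem c_act13_105 : allRange (fun i => Nat.beq (actR13 i) i) 1050000 10000 = true := by decide +kernel
theorem c_act13_106 : allRange (fun i => Nat.beq (actR13 i) i) 1060000 10000 = true := by decide +kernel
theorem c_act13_107 : allRange (fun i => Nat.beq (actR13 i) i) 1070000 10000 = true := by decide +kernel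
theorem c_act13_108 : allRange (fun i => Nat.beq (actR13 i) i) 1080000 10000 = true := by decide +kernel
theorem c_act13_109 : allRange (fun i => Nat.beq (actR13 i) i) 1090000 10000 = true := by decide +kernel
theorem c_act13_110 : allRange (fun i => Nat.beq (actR13 i) i) 1100000 10000 = true := by decide +kernel

end Cfsg.Agent.Lib.Helper4.TCD.HNm
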