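import Cfsg.Agent.Lib.Helper4.TCD_HNm_Acc

namespace Cfsg.Agent.Lib.Helper4.TCD.HNm

open Cfsg.Agent.Lib.Helper4.TC

set_option maxRecDepth 100000
set_option Elab.async false

theorem c_rel_1112 : allRange D.relOK 4295937 1870 = true := by decide +kernel
theorem c_rel_1113 : allRange D.relOK 4297807 1930 = true := by decide +kernel
theorem c_rel_1114 : allRange D.relOK 4299737 2055 = true := by decide +kernel
theorem c_rel_1115 : allRange D.relOK 4301792 1863 = true := by decide +kernel
theorem c_rel_1116 : allRange D.relOK 4303655 1550 = true := by decide +kernel
theorem c_rel_1117 : allRange D.relOK 4305205 1873 = true := by decide +kernel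
theorem c_rel_1118 : allRange D.relOK 4307078 1893 = true := by decide +kernel
theorem c_rel_1119 : allRange D.relOK 4308971 1630 = true := by decide +kernel
theorem c_rel_1120 : allRange D.relOK 4310601 2002 = true := by decide +kernel
theorem c_rel_1121 : allRange D.relOK 4312603 1978 = true := by decide +kernel
theorem c_rel_1122 : allRange D.relOK 4314581 1963 = true := by decide +kernel
theorem c_rel_1123 : allRange D.relOK 4316544 1920 = true := by decide +kernel
theorem c_rel_1124 : allRange D.relOK 4318464 2084 = true := by decide +kernel
theorem c_rel_1125 : allRange D.relOK 4320548 1858 = true := by decide +kernel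
theorem c_rel_1126 : allRange D.relOK 4322406 1921 = true := by decide +kernel
theorem c_rel_1127 : allRange D.relOK 4324327 2038 = true := by decide +kernel
theorem c_rel_1128 : allRange D.relOK 4326365 2008 = true := by decide +kernel
theorem c_rel_1129 : allRange D.relOK 4328373 1845 = true := by decide +kernel
theorem c_rel_1130 : allRange D.relOK 4330218 1775 = true := by decide +kernel
theorem c_rel_1131 : allRange D.relOK 4331993 1619 = true := by decide +kernel
theorem c_rel_1132 : allRange D.relOK 4333612 1944 = true := by decide +kernel
theorem c_rel_1133 : allRange D.relOK 4335556 1918 = true := by decide +kernel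
theorem c_rel_1134 : allRange D.relOK 4337474 1822 = true := by decide +kernel
theorem c_rel_1135 : allRange D.relOK 4339296 1770 = true := by decide +kernel
theorem c_rel_1136 : allRange D.relOK 4341066 1991 = true := by decide +kernel
theorem c_rel_1137 : allRange D.relOK 4343057 1853 = true := by decide +kernel
theorem c_rel_1138 : allRange D.relOK 4344910 1877 = true := by decide +kernel
theorem c_rel_1139 : allRange D.relOK 4346787 1913 = true := by decide +kernel
theorem c_rel_1140 : allRange D.relOK 4348700 2024 = true := by decide +kernel
theorem c_rel_1141 : allRange D.relOK 4350724 1952 = true := by decide +kernel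
theorem c_rel_1142 : allRange D.relOK 4352676 2014 = true := by decide +kernel
theorem c_rel_1143 : allRange D.relOK 4354690 1867 = true := by decide +kernel
theorem c_rel_1144 : allRange D.relOK 4356557 2005 = true := by decide +kernel
theorem c_rel_1145 : allRange D.relOK 4358562 2090 = true := by decide +kernel
theorem c_rel_1146 : allRange D.relOK 4360652 2036 = true := by decide +kernel
theorem c_rel_1147 : allRange D.relOK 4362688 2067 = true := by decide +kernel
theorem c_rel_1148 : allRange D.relOK 4364755 2047 = true := by decide +kernel
theorem c_rel_1149 : allRange D.relOK 4366802 1869 = true := by decide +kernel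
theorem c_rel_1150 : allRange D.relOK 4368671 2047 = true := by decide +kernel
theorem c_rel_1151 : allRange D.relOK 4370718 1940 = true := by decide +kernel
theorem c_rel_1152 : allRange D.relOK 4372658 1926 = true := by decide +kernel
theorem c_rel_1153 : allRange D.relOK 4374584 1934 = true := by decide +kernel
theorem c_rel_1154 : allRange D.relOK 4376518 1690 = true := by decide +kernel
theorem c_rel_1155 : allRange D.relOK 4378208 2033 = true := by decide +kernel
theorem c_rel_1156 : allRange D.relOK 4380241 1898 = true := by decide +kernel
theorem c_rel_1157 : allRange D.relOK 4382139 1991 = true := by decide +kernel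
theorem c_rel_1158 : allRange D.relOK 4384130 1998 = true := by decide +kernel
theorem c_rel_1159 : allRange D.relOK 4386128 2106 = true := by decide +kernel
theorem c_rel_1160 : allRange D.relOK 4388234 1982 = true := by decide +kernel
theorem c_rel_1161 : allRange D.relOK 4390216 1884 = true := by decide +kernel
theorem c_rel_1162 : allRange D.relOK 4392100 1841 = true := by decide +kernel
theorem c_rel_1163 : allRange D.relOK 4393941 2002 = true := by decide +kernel
theorem c_rel_1164 : allRange D.relOK 4395943 1979 = true := by decide +kernel
theorem c_rel_1165 : allRange D.relOK 4397922 1868 = true := by decide +kernel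
theorem c_rel_1166 : allRange D.relOK 4399790 1979 = true := by decide +kernel
theorem c_rel_1167 : allRange D.relOK 4401769 2137 = true := by decide +kernel
theorem c_rel_1168 : allRange D.relOK 4403906 1893 = true := by decide +kernel
theorem c_rel_1169 : allRange D.relOK 4405799 1599 = true := by decide +kernel
theorem c_rel_1170 : allRange D.relOK 4407398 1959 = true := by decide +kernel
theorem c_rel_1171 : allRange D.relOK 4409357 1763 = true := by decide +kernel
theorem c_rel_1172 : allRange D.relOK 4411120 2020 = true := by decide +kernel
theorem c_rel_1173 : allRange D.relOK 4413140 1756 = true := by decide +kernel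
theorem c_rel_1174 : allRange D.relOK 4414896 2027 = true := by decide +kernel
theorem c_rel_1175 : allRange D.relOK 4416923 1969 = true := by decide +kernel
theorem c_rel_1176 : allRange D.relOK 4418892 1945 = true := by decide +kernel
theorem c_rel_1177 : allRange D.relOK 4420837 1894 = true := by decide +kernel
theorem c_rel_1178 : allRange D.relOK 4422731 2024 = true := by decide +kernel
theorem c_rel_1179 : allRange D.relOK 4424755 1891 = true := by decide +kernel
theorem c_rel_1180 : allRange D.relOK 4426646 1916 = true := by decide +kernel
theorem c_rel_1181 : allRange D.relOK 4428562 2024 = true := by decide +kernel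
theorem c_rel_1182 : allRange D.relOK 4430586 1941 = true := by decide +kernel
theorem c_rel_1183 : allRange D.relOK 4432527 1927 = true := by decide +kernel
theorem c_rel_1184 : allRange D.relOK 4434454 1938 = true := by decide +kernel
theorem c_rel_1185 : allRange D.relOK 4436392 1953 = true := by decide +kernel
theorem c_rel_1186 : allRange D.relOK 4438345 1710 = true := by decide +kernel
theorem c_rel_1187 : allRange D.relOK 4440055 1858 = true := by decide +kernel
theorem c_rel_1188 : allRange D.relOK 4441913 2010 = true := by decide +kernel
theorem c_rel_1189 : allRange D.relOK 4443923 1859 = true := by decide +kernel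
theorem c_rel_1190 : allRange D.relOK 4445782 1845 = true := by decide +kernel
theorem c_rel_1191 : allRange D.relOK 4447627 1836 = true := by decide +kernel
theorem c_rel_1192 : allRange D.relOK 4449463 2083 = true := by decide +kernel
theorem c_rel_1193 : allRange D.relOK 4451546 2113 = true := by decide +kernel
theorem c_rel_1194 : allRange D.relOK 4453659 1852 = true := by decide +kernel
theorem c_rel_1195 : allRange D.relOK 4455511 1911 = true := by decide +kernel
theorem c_rel_1196 : allRange D.relOK 4457422 1915 = true := by decide +kernel
theorem c_rel_1197 : allRange D.relOK 4459337 2042 = true := by decide +kernel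
theorem c_rel_1198 : allRange D.relOK 4461379 1916 = true := by decide +kernel
theorem c_rel_1199 : allRange D.relOK 4463295 1899 = true := by decide +kernel
theorem c_rel_1200 : allRange D.relOK 4465194 1833 = true := by decide +kernel
theorem c_rel_1201 : allRange D.relOK 4467027 1445 = true := by decide +kernel
theorem c_rel_1202 : allRange D.relOK 4468472 1794 = true := by decide +kernel
theorem c_rel_1203 : allRange D.relOK 4470266 1925 = true := by decide +kernel
theorem c_rel_1204 : allRange D.relOK 4472191 1684 = true := by decide +kernel
theorem c_rel_1205 : allRange D.relOK 4473875 1960 = true := by decide +kernel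
theorem c_rel_1206 : allRange D.relOK 4475835 1886 = true := by decide +kernel
theorem c_rel_1207 : allRange D.relOK 4477721 1814 = true := by decide +kernel
theorem c_rel_1208 : allRange D.relOK 4479535 1909 = true := by decide +kernel
theorem c_rel_1209 : allRange D.relOK 4481444 1961 = true := by decide +kernel
theorem c_rel_1210 : allRange D.relOK 4483405 1695 = true := by decide +kernel

end Cfsg.Agent.Lib.Helper4.TCD.HNm
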