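import Cfsg.Agent.Lib.Helper4.TCD_HNm_Acc

namespace Cfsg.Agent.Lib.Helper4.TCD.HNm

open Cfsg.Agent.Lib.Helper4.TC

set_option maxRecDepth 100000
set_option Elab.async false

theorem c_oinv4_0 : allRange (Tab.orbInvOK T D subs 44584 167784) 44584 10000 = true := by decide +kernel
theorem c_oinv4_1 : allRange (Tab.orbInvOK T D subs 44584 167784) 54584 10000 = true := by decide +kernel
theorem c_oinv4_2 : allRange (Tab.orbInvOK T D subs 44584 167784) 64584 10000 = true := by decide +kernel
theorem c_oinv4_3 : allRange (Tab.orbInvOK T D subs 44584 167784) 74584 10000 = true := by decide +kernel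
theorem c_oinv4_4 : allRange (Tab.orbInvOK T D subs 44584 167784) 84584 10000 = true := by decide +kernel
theorem c_oinv4_5 : allRange (Tab.orbInvOK T D subs 44584 167784) 94584 10000 = true := by decide +kernel
theorem c_oinv4_6 : allRange (Tab.orbInvOK T D subs 44584 167784) 104584 10000 = true := by decide +kernel
theorem c_oinv4_7 : allRange (Tab.orbInvOK T D subs 44584 167784) 114584 10000 = true := by decide +kernel
theorem c_oinv4_8 : allRange (Tab.orbInvOK T D subs 44584 167784) 124584 10000 = true := by decide +kernel
theorem c_oinv4_9 : allRange (Tab.orbInvOK T D subs 44584 167784) 134584 10000 = true := by decide +kernel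
theorem c_oinv4_10 : allRange (Tab.orbInvOK T D subs 44584 167784) 144584 10000 = true := by decide +kernel
theorem c_oinv4_11 : allRange (Tab.orbInvOK T D subs 44584 167784) 154584 10000 = true := by decide +kernel
theorem c_oinv4_12 : allRange (Tab.orbInvOK T D subs 44584 167784) 164584 3200 = true := by decide +kernel
theorem c_otree4_0 : allRange (Tab.orbTreeOK T D subs oparTab olabTab 44584) 44585 20000 = true := by decide +kernel
theorem c_otree4_1 : allRange (Tab.orbTreeOK T D subs oparTab olabTab 44584) 64585 20000 = true := by decide +kernel
theorem c_otree4_2 : allRange (Tab.orbTreeOK T D subs oparTab olabTab 44584) 84585 20000 = true := by decide +kernel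
theorem c_otree4_3 : allRange (Tab.orbTreeOK T D subs oparTab olabTab 44584) 104585 20000 = true := by decide +kernel
theorem c_otree4_4 : allRange (Tab.orbTreeOK T D subs oparTab olabTab 44584) 124585 20000 = true := by decide +kernel
theorem c_otree4_5 : allRange (Tab.orbTreeOK T D subs oparTab olabTab 44584) 144585 20000 = true := by decide +kernel
theorem c_otree4_6 : allRange (Tab.orbTreeOK T D subs oparTab olabTab 44584) 164585 3199 = true := by decide +kernel
theorem c_oinv5_0 : allRange (Tab.orbInvOK T D subs 167784 444984) 167784 10000 = true := by decide +kernel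
theorem c_oinv5_1 : allRange (Tab.orbInvOK T D subs 167784 444984) 177784 10000 = true := by decide +kernel
theorem c_oinv5_2 : allRange (Tab.orbInvOK T D subs 167784 444984) 187784 10000 = true := by decide +kernel
theorem c_oinv5_3 : allRange (Tab.orbInvOK T D subs 167784 444984) 197784 10000 = true := by decide +kernel
theorem c_oinv5_4 : allRange (Tab.orbInvOK T D subs 167784 444984) 207784 10000 = true := by decide +kernel
theorem c_oinv5_5 : allRange (Tab.orbInvOK T D subs 167784 444984) 217784 10000 = true := by decide +kernel
theorem c_oinv5_6 : allRange (Tab.orbInvOK T D subs 167784 444984) 227784 10000 = true := by decide +kernel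
theorem c_oinv5_7 : allRange (Tab.orbInvOK T D subs 167784 444984) 237784 10000 = true := by decide +kernel
theorem c_oinv5_8 : allRange (Tab.orbInvOK T D subs 167784 444984) 247784 10000 = true := by decide +kernel
theorem c_oinv5_9 : allRange (Tab.orbInvOK T D subs 167784 444984) 257784 10000 = true := by decide +kernel
theorem c_oinv5_10 : allRange (Tab.orbInvOK T D subs 167784 444984) 267784 10000 = true := by decide +kernel
theorem c_oinv5_11 : allRange (Tab.orbInvOK T D subs 167784 444984) 277784 10000 = true := by decide +kernel
theorem c_oinv5_12 : allRange (Tab.orbInvOK T D subs 167784 444984) 287784 10000 = true := by decide +kernel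
theorem c_oinv5_13 : allRange (Tab.orbInvOK T D subs 167784 444984) 297784 10000 = true := by decide +kernel
theorem c_oinv5_14 : allRange (Tab.orbInvOK T D subs 167784 444984) 307784 10000 = true := by decide +kernel
theorem c_oinv5_15 : allRange (Tab.orbInvOK T D subs 167784 444984) 317784 10000 = true := by decide +kernel
theorem c_oinv5_16 : allRange (Tab.orbInvOK T D subs 167784 444984) 327784 10000 = true := by decide +kernel
theorem c_oinv5_17 : allRange (Tab.orbInvOK T D subs 167784 444984) 337784 10000 = true := by decide +kernel
theorem c_oinv5_18 : allRange (Tab.orbInvOK T D subs 167784 444984) 347784 10000 = true := by decide +kernel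
theorem c_oinv5_19 : allRange (Tab.orbInvOK T D subs 167784 444984) 357784 10000 = true := by decide +kernel
theorem c_oinv5_20 : allRange (Tab.orbInvOK T D subs 167784 444984) 367784 10000 = true := by decide +kernel
theorem c_oinv5_21 : allRange (Tab.orbInvOK T D subs 167784 444984) 377784 10000 = true := by decide +kernel
theorem c_oinv5_22 : allRange (Tab.orbInvOK T D subs 167784 444984) 387784 10000 = true := by decide +kernel
theorem c_oinv5_23 : allRange (Tab.orbInvOK T D subs 167784 444984) 397784 10000 = true := by decide +kernel
theorem c_oinv5_24 : allRange (Tab.orbInvOK T D subs 167784 444984) 407784 10000 = true := by decide +kernel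
theorem c_oinv5_25 : allRange (Tab.orbInvOK T D subs 167784 444984) 417784 10000 = true := by decide +kernel
theorem c_oinv5_26 : allRange (Tab.orbInvOK T D subs 167784 444984) 427784 10000 = true := by decide +kernel
theorem c_oinv5_27 : allRange (Tab.orbInvOK T D subs 167784 444984) 437784 7200 = true := by decide +kernel
theorem c_otree5_0 : allRange (Tab.orbTreeOK T D subs oparTab olabTab 167784) 167785 20000 = true := by decide +kernel
theorem c_otree5_1 : allRange (Tab.orbTreeOK T D subs oparTab olabTab 167784) 187785 20000 = true := by decide +kernel
theorem c_otree5_2 : allRange (Tab.orbTreeOK T D subs oparTab olabTab 167784) 207785 20000 = true := by decide +kernel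

end Cfsg.Agent.Lib.Helper4.TCD.HNm
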