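import Cfsg.Agent.Lib.Helper4.TCD_HNm_Acc

namespace Cfsg.Agent.Lib.Helper4.TCD.HNm

open Cfsg.Agent.Lib.Helper4.TC

set_option maxRecDepth 100000
set_option Elab.async false

theorem c_otree5_3 : allRange (Tab.orbTreeOK T D subs oparTab olabTab 167784) 227785 20000 = true := by decide +kernel
theorem c_otree5_4 : allRange (Tab.orbTreeOK T D subs oparTab olabTab 167784) 247785 20000 = true := by decide +kernel
theorem c_otree5_5 : allRange (Tab.orbTreeOK T D subs oparTab olabTab 167784) 267785 20000 = true := by decide +kernel
theorem c_otree5_6 : allRange (Tab.orbTreeOK T D subs oparTab olabTab 167784) 287785 20000 = true := by decide +kernel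
theorem c_otree5_7 : allRange (Tab.orbTreeOK T D subs oparTab olabTab 167784) 307785 20000 = true := by decide +kernel
theorem c_otree5_8 : allRange (Tab.orbTreeOK T D subs oparTab olabTab 167784) 327785 20000 = true := by decide +kernel
theorem c_otree5_9 : allRange (Tab.orbTreeOK T D subs oparTab olabTab 167784) 347785 20000 = true := by decide +kernel
theorem c_otree5_10 : allRange (Tab.orbTreeOK T D subs oparTab olabTab 167784) 367785 20000 = true := by decide +kernel
theorem c_otree5_11 : allRange (Tab.orbTreeOK T D subs oparTab olabTab 167784) 387785 20000 = true := by decide +kernel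
theorem c_otree5_12 : allRange (Tab.orbTreeOK T D subs oparTab olabTab 167784) 407785 20000 = true := by decide +kernel
theorem c_otree5_13 : allRange (Tab.orbTreeOK T D subs oparTab olabTab 167784) 427785 17199 = true := by decide +kernel
theorem c_oinv6_0 : allRange (Tab.orbInvOK T D subs 444984 799800) 444984 10000 = true := by decide +kernel
theorem c_oinv6_1 : allRange (Tab.orbInvOK T D subs 444984 799800) 454984 10000 = true := by decide +kernel
theorem c_oinv6_2 : allRange (Tab.orbInvOK T D subs 444984 799800) 464984 10000 = true := by decide +kernel
theorem c_oinv6_3 : allRange (Tab.orbInvOK T D subs 444984 799800) 474984 10000 = true := by decide +kernel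
theorem c_oinv6_4 : allRange (Tab.orbInvOK T D subs 444984 799800) 484984 10000 = true := by decide +kernel
theorem c_oinv6_5 : allRange (Tab.orbInvOK T D subs 444984 799800) 494984 10000 = true := by decide +kernel
theorem c_oinv6_6 : allRange (Tab.orbInvOK T D subs 444984 799800) 504984 10000 = true := by decide +kernel
theorem c_oinv6_7 : allRange (Tab.orbInvOK T D subs 444984 799800) 514984 10000 = true := by decide +kernel
theorem c_oinv6_8 : allRange (Tab.orbInvOK T D subs 444984 799800) 524984 10000 = true := by decide +kernel
theorem c_oinv6_9 : allRange (Tab.orbInvOK T D subs 444984 799800) 534984 10000 = true := by decide +kernel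
theorem c_oinv6_10 : allRange (Tab.orbInvOK T D subs 444984 799800) 544984 10000 = true := by decide +kernel
theorem c_oinv6_11 : allRange (Tab.orbInvOK T D subs 444984 799800) 554984 10000 = true := by decide +kernel
theorem c_oinv6_12 : allRange (Tab.orbInvOK T D subs 444984 799800) 564984 10000 = true := by decide +kernel
theorem c_oinv6_13 : allRange (Tab.orbInvOK T D subs 444984 799800) 574984 10000 = true := by decide +kernel
theorem c_oinv6_14 : allRange (Tab.orbInvOK T D subs 444984 799800) 584984 10000 = true := by decide +kernel
theorem c_oinv6_15 : allRange (Tab.orbInvOK T D subs 444984 799800) 594984 10000 = true := by decide +kernel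
theorem c_oinv6_16 : allRange (Tab.orbInvOK T D subs 444984 799800) 604984 10000 = true := by decide +kernel
theorem c_oinv6_17 : allRange (Tab.orbInvOK T D subs 444984 799800) 614984 10000 = true := by decide +kernel
theorem c_oinv6_18 : allRange (Tab.orbInvOK T D subs 444984 799800) 624984 10000 = true := by decide +kernel
theorem c_oinv6_19 : allRange (Tab.orbInvOK T D subs 444984 799800) 634984 10000 = true := by decide +kernel
theorem c_oinv6_20 : allRange (Tab.orbInvOK T D subs 444984 799800) 644984 10000 = true := by decide +kernel
theorem c_oinv6_21 : allRange (Tab.orbInvOK T D subs 444984 799800) 654984 10000 = true := by decide +kernel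
theorem c_oinv6_22 : allRange (Tab.orbInvOK T D subs 444984 799800) 664984 10000 = true := by decide +kernel
theorem c_oinv6_23 : allRange (Tab.orbInvOK T D subs 444984 799800) 674984 10000 = true := by decide +kernel
theorem c_oinv6_24 : allRange (Tab.orbInvOK T D subs 444984 799800) 684984 10000 = true := by decide +kernel
theorem c_oinv6_25 : allRange (Tab.orbInvOK T D subs 444984 799800) 694984 10000 = true := by decide +kernel
theorem c_oinv6_26 : allRange (Tab.orbInvOK T D subs 444984 799800) 704984 10000 = true := by decide +kernel
theorem c_oinv6_27 : allRange (Tab.orbInvOK T D subs 444984 799800) 714984 10000 = true := by decide +kernel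
theorem c_oinv6_28 : allRange (Tab.orbInvOK T D subs 444984 799800) 724984 10000 = true := by decide +kernel
theorem c_oinv6_29 : allRange (Tab.orbInvOK T D subs 444984 799800) 734984 10000 = true := by decide +kernel
theorem c_oinv6_30 : allRange (Tab.orbInvOK T D subs 444984 799800) 744984 10000 = true := by decide +kernel
theorem c_oinv6_31 : allRange (Tab.orbInvOK T D subs 444984 799800) 754984 10000 = true := by decide +kernel
theorem c_oinv6_32 : allRange (Tab.orbInvOK T D subs 444984 799800) 764984 10000 = true := by decide +kernel
theorem c_oinv6_33 : allRange (Tab.orbInvOK T D subs 444984 799800) 774984 10000 = true := by decide +kernel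
theorem c_oinv6_34 : allRange (Tab.orbInvOK T D subs 444984 799800) 784984 10000 = true := by decide +kernel
theorem c_oinv6_35 : allRange (Tab.orbInvOK T D subs 444984 799800) 794984 4816 = true := by decide +kernel
theorem c_otree6_0 : allRange (Tab.orbTreeOK T D subs oparTab olabTab 444984) 444985 20000 = true := by decide +kernel
theorem c_otree6_1 : allRange (Tab.orbTreeOK T D subs oparTab olabTab 444984) 464985 20000 = true := by decide +kernel
theorem c_otree6_2 : allRange (Tab.orbTreeOK T D subs oparTab olabTab 444984) 484985 20000 = true := by decide +kernel

end Cfsg.Agent.Lib.Helper4.TCD.HNm
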