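import Cfsg.Agent.Lib.Helper4.TCD_HNm_Acc

namespace Cfsg.Agent.Lib.Helper4.TCD.HNm

open Cfsg.Agent.Lib.Helper4.TC

set_option maxRecDepth 100000
set_option Elab.async false

theorem c_otree6_3 : allRange (Tab.orbTreeOK T D subs oparTab olabTab 444984) 504985 20000 = true := by decide +kernel
theorem c_otree6_4 : allRange (Tab.orbTreeOK T D subs oparTab olabTab 444984) 524985 20000 = true := by decide +kernel
theorem c_otree6_5 : allRange (Tab.orbTreeOK T D subs oparTab olabTab 444984) 544985 20000 = true := by decide +kernel
theorem c_otree6_6 : allRange (Tab.orbTreeOK T D subs oparTab olabTab 444984) 564985 20000 = true := by decide +kernel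
theorem c_otree6_7 : allRange (Tab.orbTreeOK T D subs oparTab olabTab 444984) 584985 20000 = true := by decide +kernel
theorem c_otree6_8 : allRange (Tab.orbTreeOK T D subs oparTab olabTab 444984) 604985 20000 = true := by decide +kernel
theorem c_otree6_9 : allRange (Tab.orbTreeOK T D subs oparTab olabTab 444984) 624985 20000 = true := by decide +kernel
theorem c_otree6_10 : allRange (Tab.orbTreeOK T D subs oparTab olabTab 444984) 644985 20000 = true := by decide +kernel
theorem c_otree6_11 : allRange (Tab.orbTreeOK T D subs oparTab olabTab 444984) 664985 20000 = true := by decide +kernel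
theorem c_otree6_12 : allRange (Tab.orbTreeOK T D subs oparTab olabTab 444984) 684985 20000 = true := by decide +kernel
theorem c_otree6_13 : allRange (Tab.orbTreeOK T D subs oparTab olabTab 444984) 704985 20000 = true := by decide +kernel
theorem c_otree6_14 : allRange (Tab.orbTreeOK T D subs oparTab olabTab 444984) 724985 20000 = true := by decide +kernel
theorem c_otree6_15 : allRange (Tab.orbTreeOK T D subs oparTab olabTab 444984) 744985 20000 = true := by decide +kernel
theorem c_otree6_16 : allRange (Tab.orbTreeOK T D subs oparTab olabTab 444984) 764985 20000 = true := by decide +kernel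
theorem c_otree6_17 : allRange (Tab.orbTreeOK T D subs oparTab olabTab 444984) 784985 14815 = true := by decide +kernel
theorem c_oinv7_0 : allRange (Tab.orbInvOK T D subs 799800 1539000) 799800 10000 = true := by decide +kernel
theorem c_oinv7_1 : allRange (Tab.orbInvOK T D subs 799800 1539000) 809800 10000 = true := by decide +kernel
theorem c_oinv7_2 : allRange (Tab.orbInvOK T D subs 799800 1539000) 819800 10000 = true := by decide +kernel
theorem c_oinv7_3 : allRange (Tab.orbInvOK T D subs 799800 1539000) 829800 10000 = true := by decide +kernel
theorem c_oinv7_4 : allRange (Tab.orbInvOK T D subs 799800 1539000) 839800 10000 = true := by decide +kernel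
theorem c_oinv7_5 : allRange (Tab.orbInvOK T D subs 799800 1539000) 849800 10000 = true := by decide +kernel
theorem c_oinv7_6 : allRange (Tab.orbInvOK T D subs 799800 1539000) 859800 10000 = true := by decide +kernel
theorem c_oinv7_7 : allRange (Tab.orbInvOK T D subs 799800 1539000) 869800 10000 = true := by decide +kernel
theorem c_oinv7_8 : allRange (Tab.orbInvOK T D subs 799800 1539000) 879800 10000 = true := by decide +kernel
theorem c_oinv7_9 : allRange (Tab.orbInvOK T D subs 799800 1539000) 889800 10000 = true := by decide +kernel
theorem c_oinv7_10 : allRange (Tab.orbInvOK T D subs 799800 1539000) 899800 10000 = true := by decide +kernel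
theorem c_oinv7_11 : allRange (Tab.orbInvOK T D subs 799800 1539000) 909800 10000 = true := by decide +kernel
theorem c_oinv7_12 : allRange (Tab.orbInvOK T D subs 799800 1539000) 919800 10000 = true := by decide +kernel
theorem c_oinv7_13 : allRange (Tab.orbInvOK T D subs 799800 1539000) 929800 10000 = true := by decide +kernel
theorem c_oinv7_14 : allRange (Tab.orbInvOK T D subs 799800 1539000) 939800 10000 = true := by decide +kernel
theorem c_oinv7_15 : allRange (Tab.orbInvOK T D subs 799800 1539000) 949800 10000 = true := by decide +kernel
theorem c_oinv7_16 : allRange (Tab.orbInvOK T D subs 799800 1539000) 959800 10000 = true := by decide +kernel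
theorem c_oinv7_17 : allRange (Tab.orbInvOK T D subs 799800 1539000) 969800 10000 = true := by decide +kernel
theorem c_oinv7_18 : allRange (Tab.orbInvOK T D subs 799800 1539000) 979800 10000 = true := by decide +kernel
theorem c_oinv7_19 : allRange (Tab.orbInvOK T D subs 799800 1539000) 989800 10000 = true := by decide +kernel
theorem c_oinv7_20 : allRange (Tab.orbInvOK T D subs 799800 1539000) 999800 10000 = true := by decide +kernel
theorem c_oinv7_21 : allRange (Tab.orbInvOK T D subs 799800 1539000) 1009800 10000 = true := by decide +kernel
theorem c_oinv7_22 : allRange (Tab.orbInvOK T D subs 799800 1539000) 1019800 10000 = true := by decide +kernel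
theorem c_oinv7_23 : allRange (Tab.orbInvOK T D subs 799800 1539000) 1029800 10000 = true := by decide +kernel
theorem c_oinv7_24 : allRange (Tab.orbInvOK T D subs 799800 1539000) 1039800 10000 = true := by decide +kernel
theorem c_oinv7_25 : allRange (Tab.orbInvOK T D subs 799800 1539000) 1049800 10000 = true := by decide +kernel
theorem c_oinv7_26 : allRange (Tab.orbInvOK T D subs 799800 1539000) 1059800 10000 = true := by decide +kernel
theorem c_oinv7_27 : allRange (Tab.orbInvOK T D subs 799800 1539000) 1069800 10000 = true := by decide +kernel
theorem c_oinv7_28 : allRange (Tab.orbInvOK T D subs 799800 1539000) 1079800 10000 = true := by decide +kernel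
theorem c_oinv7_29 : allRange (Tab.orbInvOK T D subs 799800 1539000) 1089800 10000 = true := by decide +kernel
theorem c_oinv7_30 : allRange (Tab.orbInvOK T D subs 799800 1539000) 1099800 10000 = true := by decide +kernel
theorem c_oinv7_31 : allRange (Tab.orbInvOK T D subs 799800 1539000) 1109800 10000 = true := by decide +kernel
theorem c_oinv7_32 : allRange (Tab.orbInvOK T D subs 799800 1539000) 1119800 10000 = true := by decide +kernel
theorem c_oinv7_33 : allRange (Tab.orbInvOK T D subs 799800 1539000) 1129800 10000 = true := by decide +kernel
theorem c_oinv7_34 : allRange (Tab.orbInvOK T D subs 799800 1539000) 1139800 10000 = true := by decide +kernel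

end Cfsg.Agent.Lib.Helper4.TCD.HNm
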