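import Cfsg.Agent.Lib.Helper4.TCD_HNm_Acc

namespace Cfsg.Agent.Lib.Helper4.TCD.HNm

open Cfsg.Agent.Lib.Helper4.TC

set_option maxRecDepth 100000
set_option Elab.async false

theorem c_oinv7_35 : allRange (Tab.orbInvOK T D subs 799800 1539000) 1149800 10000 = true := by decide +kernel
theorem c_oinv7_36 : allRange (Tab.orbInvOK T D subs 799800 1539000) 1159800 10000 = true := by decide +kernel
theorem c_oinv7_37 : allRange (Tab.orbInvOK T D subs 799800 1539000) 1169800 10000 = true := by decide +kernel
theorem c_oinv7_38 : allRange (Tab.orbInvOK T D subs 799800 1539000) 1179800 10000 = true := by decide +kernel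
theorem c_oinv7_39 : allRange (Tab.orbInvOK T D subs 799800 1539000) 1189800 10000 = true := by decide +kernel
theorem c_oinv7_40 : allRange (Tab.orbInvOK T D subs 799800 1539000) 1199800 10000 = true := by decide +kernel
theorem c_oinv7_41 : allRange (Tab.orbInvOK T D subs 799800 1539000) 1209800 10000 = true := by decide +kernel
theorem c_oinv7_42 : allRange (Tab.orbInvOK T D subs 799800 1539000) 1219800 10000 = true := by decide +kernel
theorem c_oinv7_43 : allRange (Tab.orbInvOK T D subs 799800 1539000) 1229800 10000 = true := by decide +kernel
theorem c_oinv7_44 : allRange (Tab.orbInvOK T D subs 799800 1539000) 1239800 10000 = true := by decide +kernel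
theorem c_oinv7_45 : allRange (Tab.orbInvOK T D subs 799800 1539000) 1249800 10000 = true := by decide +kernel
theorem c_oinv7_46 : allRange (Tab.orbInvOK T D subs 799800 1539000) 1259800 10000 = true := by decide +kernel
theorem c_oinv7_47 : allRange (Tab.orbInvOK T D subs 799800 1539000) 1269800 10000 = true := by decide +kernel
theorem c_oinv7_48 : allRange (Tab.orbInvOK T D subs 799800 1539000) 1279800 10000 = true := by decide +kernel
theorem c_oinv7_49 : allRange (Tab.orbInvOK T D subs 799800 1539000) 1289800 10000 = true := by decide +kernel
theorem c_oinv7_50 : allRange (Tab.orbInvOK T D subs 799800 1539000) 1299800 10000 = true := by decide +kernel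
theorem c_oinv7_51 : allRange (Tab.orbInvOK T D subs 799800 1539000) 1309800 10000 = true := by decide +kernel
theorem c_oinv7_52 : allRange (Tab.orbInvOK T D subs 799800 1539000) 1319800 10000 = true := by decide +kernel
theorem c_oinv7_53 : allRange (Tab.orbInvOK T D subs 799800 1539000) 1329800 10000 = true := by decide +kernel
theorem c_oinv7_54 : allRange (Tab.orbInvOK T D subs 799800 1539000) 1339800 10000 = true := by decide +kernel
theorem c_oinv7_55 : allRange (Tab.orbInvOK T D subs 799800 1539000) 1349800 10000 = true := by decide +kernel
theorem c_oinv7_56 : allRange (Tab.orbInvOK T D subs 799800 1539000) 1359800 10000 = true := by decide +kernel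
theorem c_oinv7_57 : allRange (Tab.orbInvOK T D subs 799800 1539000) 1369800 10000 = true := by decide +kernel
theorem c_oinv7_58 : allRange (Tab.orbInvOK T D subs 799800 1539000) 1379800 10000 = true := by decide +kernel
theorem c_oinv7_59 : allRange (Tab.orbInvOK T D subs 799800 1539000) 1389800 10000 = true := by decide +kernel
theorem c_oinv7_60 : allRange (Tab.orbInvOK T D subs 799800 1539000) 1399800 10000 = true := by decide +kernel
theorem c_oinv7_61 : allRange (Tab.orbInvOK T D subs 799800 1539000) 1409800 10000 = true := by decide +kernel
theorem c_oinv7_62 : allRange (Tab.orbInvOK T D subs 799800 1539000) 1419800 10000 = true := by decide +kernel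
theorem c_oinv7_63 : allRange (Tab.orbInvOK T D subs 799800 1539000) 1429800 10000 = true := by decide +kernel
theorem c_oinv7_64 : allRange (Tab.orbInvOK T D subs 799800 1539000) 1439800 10000 = true := by decide +kernel
theorem c_oinv7_65 : allRange (Tab.orbInvOK T D subs 799800 1539000) 1449800 10000 = true := by decide +kernel
theorem c_oinv7_66 : allRange (Tab.orbInvOK T D subs 799800 1539000) 1459800 10000 = true := by decide +kernel
theorem c_oinv7_67 : allRange (Tab.orbInvOK T D subs 799800 1539000) 1469800 10000 = true := by decide +kernel
theorem c_oinv7_68 : allRange (Tab.orbInvOK T D subs 799800 1539000) 1479800 10000 = true := by decide +kernel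
theorem c_oinv7_69 : allRange (Tab.orbInvOK T D subs 799800 1539000) 1489800 10000 = true := by decide +kernel
theorem c_oinv7_70 : allRange (Tab.orbInvOK T D subs 799800 1539000) 1499800 10000 = true := by decide +kernel
theorem c_oinv7_71 : allRange (Tab.orbInvOK T D subs 799800 1539000) 1509800 10000 = true := by decide +kernel
theorem c_oinv7_72 : allRange (Tab.orbInvOK T D subs 799800 1539000) 1519800 10000 = true := by decide +kernel
theorem c_oinv7_73 : allRange (Tab.orbInvOK T D subs 799800 1539000) 1529800 9200 = true := by decide +kernel
theorem c_otree7_0 : allRange (Tab.orbTreeOK T D subs oparTab olabTab 799800) 799801 20000 = true := by decide +kernel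
theorem c_otree7_1 : allRange (Tab.orbTreeOK T D subs oparTab olabTab 799800) 819801 20000 = true := by decide +kernel
theorem c_otree7_2 : allRange (Tab.orbTreeOK T D subs oparTab olabTab 799800) 839801 20000 = true := by decide +kernel
theorem c_otree7_3 : allRange (Tab.orbTreeOK T D subs oparTab olabTab 799800) 859801 20000 = true := by decide +kernel
theorem c_otree7_4 : allRange (Tab.orbTreeOK T D subs oparTab olabTab 799800) 879801 20000 = true := by decide +kernel
theorem c_otree7_5 : allRange (Tab.orbTreeOK T D subs oparTab olabTab 799800) 899801 20000 = true := by decide +kernel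
theorem c_otree7_6 : allRange (Tab.orbTreeOK T D subs oparTab olabTab 799800) 919801 20000 = true := by decide +kernel
theorem c_otree7_7 : allRange (Tab.orbTreeOK T D subs oparTab olabTab 799800) 939801 20000 = true := by decide +kernel
theorem c_otree7_8 : allRange (Tab.orbTreeOK T D subs oparTab olabTab 799800) 959801 20000 = true := by decide +kernel
theorem c_otree7_9 : allRange (Tab.orbTreeOK T D subs oparTab olabTab 799800) 979801 20000 = true := by decide +kernel
theorem c_otree7_10 : allRange (Tab.orbTreeOK T D subs oparTab olabTab 799800) 999801 20000 = true := by decide +kernel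

end Cfsg.Agent.Lib.Helper4.TCD.HNm
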