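import Cfsg.Agent.Lib.Helper4.TCD_HNm_Acc

namespace Cfsg.Agent.Lib.Helper4.TCD.HNm

open Cfsg.Agent.Lib.Helper4.TC

set_option maxRecDepth 100000
set_option Elab.async false

theorem c_otree7_11 : allRange (Tab.orbTreeOK T D subs oparTab olabTab 799800) 1019801 20000 = true := by decide +kernel
theorem c_otree7_12 : allRange (Tab.orbTreeOK T D subs oparTab olabTab 799800) 1039801 20000 = true := by decide +kernel
theorem c_otree7_13 : allRange (Tab.orbTreeOK T D subs oparTab olabTab 799800) 1059801 20000 = true := by decide +kernel
theorem c_otree7_14 : allRange (Tab.orbTreeOK T D subs oparTab olabTab 799800) 1079801 20000 = true := by decide +kernel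
theorem c_otree7_15 : allRange (Tab.orbTreeOK T D subs oparTab olabTab 799800) 1099801 20000 = true := by decide +kernel
theorem c_otree7_16 : allRange (Tab.orbTreeOK T D subs oparTab olabTab 799800) 1119801 20000 = true := by decide +kernel
theorem c_otree7_17 : allRange (Tab.orbTreeOK T D subs oparTab olabTab 799800) 1139801 20000 = true := by decide +kernel
theorem c_otree7_18 : allRange (Tab.orbTreeOK T D subs oparTab olabTab 799800) 1159801 20000 = true := by decide +kernel
theorem c_otree7_19 : allRange (Tab.orbTreeOK T D subs oparTab olabTab 799800) 1179801 20000 = true := by decide +kernel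
theorem c_otree7_20 : allRange (Tab.orbTreeOK T D subs oparTab olabTab 799800) 1199801 20000 = true := by decide +kernel
theorem c_otree7_21 : allRange (Tab.orbTreeOK T D subs oparTab olabTab 799800) 1219801 20000 = true := by decide +kernel
theorem c_otree7_22 : allRange (Tab.orbTreeOK T D subs oparTab olabTab 799800) 1239801 20000 = true := by decide +kernel
theorem c_otree7_23 : allRange (Tab.orbTreeOK T D subs oparTab olabTab 799800) 1259801 20000 = true := by decide +kernel
theorem c_otree7_24 : allRange (Tab.orbTreeOK T D subs oparTab olabTab 799800) 1279801 20000 = true := by decide +kernel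
theorem c_otree7_25 : allRange (Tab.orbTreeOK T D subs oparTab olabTab 799800) 1299801 20000 = true := by decide +kernel
theorem c_otree7_26 : allRange (Tab.orbTreeOK T D subs oparTab olabTab 799800) 1319801 20000 = true := by decide +kernel
theorem c_otree7_27 : allRange (Tab.orbTreeOK T D subs oparTab olabTab 799800) 1339801 20000 = true := by decide +kernel
theorem c_otree7_28 : allRange (Tab.orbTreeOK T D subs oparTab olabTab 799800) 1359801 20000 = true := by decide +kernel
theorem c_otree7_29 : allRange (Tab.orbTreeOK T D subs oparTab olabTab 799800) 1379801 20000 = true := by decide +kernel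
theorem c_otree7_30 : allRange (Tab.orbTreeOK T D subs oparTab olabTab 799800) 1399801 20000 = true := by decide +kernel
theorem c_otree7_31 : allRange (Tab.orbTreeOK T D subs oparTab olabTab 799800) 1419801 20000 = true := by decide +kernel
theorem c_otree7_32 : allRange (Tab.orbTreeOK T D subs oparTab olabTab 799800) 1439801 20000 = true := by decide +kernel
theorem c_otree7_33 : allRange (Tab.orbTreeOK T D subs oparTab olabTab 799800) 1459801 20000 = true := by decide +kernel
theorem c_otree7_34 : allRange (Tab.orbTreeOK T D subs oparTab olabTab 799800) 1479801 20000 = true := by decide +kernel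
theorem c_otree7_35 : allRange (Tab.orbTreeOK T D subs oparTab olabTab 799800) 1499801 20000 = true := by decide +kernel
theorem c_otree7_36 : allRange (Tab.orbTreeOK T D subs oparTab olabTab 799800) 1519801 19199 = true := by decide +kernel

end Cfsg.Agent.Lib.Helper4.TCD.HNm
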