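import Cfsg.Agent.Lib.Helper4.TCD_HNm_Acc

namespace Cfsg.Agent.Lib.Helper4.TCD.HNm

open Cfsg.Agent.Lib.Helper4.TC

set_option maxRecDepth 100000
set_option Elab.async false

theorem c_rel_1211 : allRange D.relOK 4485100 1936 = true := by decide +kernel
theorem c_rel_1212 : allRange D.relOK 4487036 1954 = true := by decide +kernel
theorem c_rel_1213 : allRange D.relOK 4488990 1994 = true := by decide +kernel
theorem c_rel_1214 : allRange D.relOK 4490984 1942 = true := by decide +kernel
theorem c_rel_1215 : allRange D.relOK 4492926 1985 = true := by decide +kernel
theorem c_rel_1216 : allRange D.relOK 4494911 1925 = true := by decide +kernel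
theorem c_rel_1217 : allRange D.relOK 4496836 1806 = true := by decide +kernel
theorem c_rel_1218 : allRange D.relOK 4498642 1704 = true := by decide +kernel
theorem c_rel_1219 : allRange D.relOK 4500346 1979 = true := by decide +kernel
theorem c_rel_1220 : allRange D.relOK 4502325 1871 = true := by decide +kernel
theorem c_rel_1221 : allRange D.relOK 4504196 1957 = true := by decide +kernel
theorem c_rel_1222 : allRange D.relOK 4506153 1874 = true := by decide +kernel
theorem c_rel_1223 : allRange D.relOK 4508027 1870 = true := by decide +kernel
theorem c_rel_1224 : allRange D.relOK 4509897 2005 = true := by decide +kernel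
theorem c_rel_1225 : allRange D.relOK 4511902 1928 = true := by decide +kernel
theorem c_rel_1226 : allRange D.relOK 4513830 1859 = true := by decide +kernel
theorem c_rel_1227 : allRange D.relOK 4515689 1920 = true := by decide +kernel
theorem c_rel_1228 : allRange D.relOK 4517609 1949 = true := by decide +kernel
theorem c_rel_1229 : allRange D.relOK 4519558 1950 = true := by decide +kernel
theorem c_rel_1230 : allRange D.relOK 4521508 1903 = true := by decide +kernel
theorem c_rel_1231 : allRange D.relOK 4523411 2018 = true := by decide +kernel
theorem c_rel_1232 : allRange D.relOK 4525429 2020 = true := by decide +kernel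
theorem c_rel_1233 : allRange D.relOK 4527449 1984 = true := by decide +kernel
theorem c_rel_1234 : allRange D.relOK 4529433 2016 = true := by decide +kernel
theorem c_rel_1235 : allRange D.relOK 4531449 1815 = true := by decide +kernel
theorem c_rel_1236 : allRange D.relOK 4533264 1827 = true := by decide +kernel
theorem c_rel_1237 : allRange D.relOK 4535091 1926 = true := by decide +kernel
theorem c_rel_1238 : allRange D.relOK 4537017 1895 = true := by decide +kernel
theorem c_rel_1239 : allRange D.relOK 4538912 1915 = true := by decide +kernel
theorem c_rel_1240 : allRange D.relOK 4540827 1855 = true := by decide +kernel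
theorem c_rel_1241 : allRange D.relOK 4542682 1971 = true := by decide +kernel
theorem c_rel_1242 : allRange D.relOK 4544653 1849 = true := by decide +kernel
theorem c_rel_1243 : allRange D.relOK 4546502 1647 = true := by decide +kernel
theorem c_rel_1244 : allRange D.relOK 4548149 1942 = true := by decide +kernel
theorem c_rel_1245 : allRange D.relOK 4550091 1842 = true := by decide +kernel
theorem c_rel_1246 : allRange D.relOK 4551933 1880 = true := by decide +kernel
theorem c_rel_1247 : allRange D.relOK 4553813 1913 = true := by decide +kernel
theorem c_rel_1248 : allRange D.relOK 4555726 1941 = true := by decide +kernel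
theorem c_rel_1249 : allRange D.relOK 4557667 1938 = true := by decide +kernel
theorem c_rel_1250 : allRange D.relOK 4559605 1581 = true := by decide +kernel
theorem c_rel_1251 : allRange D.relOK 4561186 1865 = true := by decide +kernel
theorem c_rel_1252 : allRange D.relOK 4563051 1848 = true := by decide +kernel
theorem c_rel_1253 : allRange D.relOK 4564899 1882 = true := by decide +kernel
theorem c_rel_1254 : allRange D.relOK 4566781 1947 = true := by decide +kernel
theorem c_rel_1255 : allRange D.relOK 4568728 1817 = true := by decide +kernel
theorem c_rel_1256 : allRange D.relOK 4570545 1944 = true := by decide +kernel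
theorem c_rel_1257 : allRange D.relOK 4572489 1794 = true := by decide +kernel
theorem c_rel_1258 : allRange D.relOK 4574283 1940 = true := by decide +kernel
theorem c_rel_1259 : allRange D.relOK 4576223 1854 = true := by decide +kernel
theorem c_rel_1260 : allRange D.relOK 4578077 1835 = true := by decide +kernel
theorem c_rel_1261 : allRange D.relOK 4579912 1845 = true := by decide +kernel
theorem c_rel_1262 : allRange D.relOK 4581757 1869 = true := by decide +kernel
theorem c_rel_1263 : allRange D.relOK 4583626 1819 = true := by decide +kernel
theorem c_rel_1264 : allRange D.relOK 4585445 1981 = true := by decide +kernel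
theorem c_rel_1265 : allRange D.relOK 4587426 1914 = true := by decide +kernel
theorem c_rel_1266 : allRange D.relOK 4589340 1761 = true := by decide +kernel
theorem c_rel_1267 : allRange D.relOK 4591101 1817 = true := by decide +kernel
theorem c_rel_1268 : allRange D.relOK 4592918 1892 = true := by decide +kernel
theorem c_rel_1269 : allRange D.relOK 4594810 1921 = true := by decide +kernel
theorem c_rel_1270 : allRange D.relOK 4596731 1952 = true := by decide +kernel
theorem c_rel_1271 : allRange D.relOK 4598683 1905 = true := by decide +kernel
theorem c_rel_1272 : allRange D.relOK 4600588 1985 = true := by decide +kernel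
theorem c_rel_1273 : allRange D.relOK 4602573 1821 = true := by decide +kernel
theorem c_rel_1274 : allRange D.relOK 4604394 1872 = true := by decide +kernel
theorem c_rel_1275 : allRange D.relOK 4606266 1786 = true := by decide +kernel
theorem c_rel_1276 : allRange D.relOK 4608052 1925 = true := by decide +kernel
theorem c_rel_1277 : allRange D.relOK 4609977 1895 = true := by decide +kernel
theorem c_rel_1278 : allRange D.relOK 4611872 1819 = true := by decide +kernel
theorem c_rel_1279 : allRange D.relOK 4613691 1868 = true := by decide +kernel
theorem c_rel_1280 : allRange D.relOK 4615559 1841 = true := by decide +kernel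
theorem c_rel_1281 : allRange D.relOK 4617400 1907 = true := by decide +kernel
theorem c_rel_1282 : allRange D.relOK 4619307 1873 = true := by decide +kernel
theorem c_rel_1283 : allRange D.relOK 4621180 1921 = true := by decide +kernel
theorem c_rel_1284 : allRange D.relOK 4623101 1914 = true := by decide +kernel
theorem c_rel_1285 : allRange D.relOK 4625015 1861 = true := by decide +kernel
theorem c_rel_1286 : allRange D.relOK 4626876 1862 = true := by decide +kernel
theorem c_rel_1287 : allRange D.relOK 4628738 1785 = true := by decide +kernel
theorem c_rel_1288 : allRange D.relOK 4630523 1765 = true := by decide +kernel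
theorem c_rel_1289 : allRange D.relOK 4632288 1847 = true := by decide +kernel
theorem c_rel_1290 : allRange D.relOK 4634135 1776 = true := by decide +kernel
theorem c_rel_1291 : allRange D.relOK 4635911 1838 = true := by decide +kernel
theorem c_rel_1292 : allRange D.relOK 4637749 1842 = true := by decide +kernel
theorem c_rel_1293 : allRange D.relOK 4639591 1784 = true := by decide +kernel
theorem c_rel_1294 : allRange D.relOK 4641375 1709 = true := by decide +kernel
theorem c_rel_1295 : allRange D.relOK 4643084 1805 = true := by decide +kernel
theorem c_rel_1296 : allRange D.relOK 4644889 1565 = true := by decide +kernel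
theorem c_rel_1297 : allRange D.relOK 4646454 1866 = true := by decide +kernel
theorem c_rel_1298 : allRange D.relOK 4648320 1785 = true := by decide +kernel
theorem c_rel_1299 : allRange D.relOK 4650105 1798 = true := by decide +kernel
theorem c_rel_1300 : allRange D.relOK 4651903 1804 = true := by decide +kernel
theorem c_rel_1301 : allRange D.relOK 4653707 1858 = true := by decide +kernel
theorem c_rel_1302 : allRange D.relOK 4655565 1730 = true := by decide +kernel
theorem c_rel_1303 : allRange D.relOK 4657295 1784 = true := by decide +kernel
theorem c_rel_1304 : allRange D.relOK 4659079 1867 = true := by decide +kernel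
theorem c_rel_1305 : allRange D.relOK 4660946 1846 = true := by decide +kernel
theorem c_rel_1306 : allRange D.relOK 4662792 1764 = true := by decide +kernel
theorem c_rel_1307 : allRange D.relOK 4664556 1848 = true := by decide +kernel
theorem c_rel_1308 : allRange D.relOK 4666404 1767 = true := by decide +kernel
theorem c_rel_1309 : allRange D.relOK 4668171 1709 = true := by decide +kernel

end Cfsg.Agent.Lib.Helper4.TCD.HNm
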