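import Cfsg.Agent.Lib.Helper4.TCD_HNm_Acc

namespace Cfsg.Agent.Lib.Helper4.TCD.HNm

open Cfsg.Agent.Lib.Helper4.TC

set_option maxRecDepth 100000
set_option Elab.async false

theorem c_rel_1310 : allRange D.relOK 4669880 1855 = true := by decide +kernel
theorem c_rel_1311 : allRange D.relOK 4671735 1862 = true := by decide +kernel
theorem c_rel_1312 : allRange D.relOK 4673597 1809 = true := by decide +kernel
theorem c_rel_1313 : allRange D.relOK 4675406 1843 = true := by decide +kernel
theorem c_rel_1314 : allRange D.relOK 4677249 1766 = true := by decide +kernel
theorem c_rel_1315 : allRange D.relOK 4679015 1904 = true := by decide +kernel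
theorem c_rel_1316 : allRange D.relOK 4680919 1653 = true := by decide +kernel
theorem c_rel_1317 : allRange D.relOK 4682572 1986 = true := by decide +kernel
theorem c_rel_1318 : allRange D.relOK 4684558 1888 = true := by decide +kernel
theorem c_rel_1319 : allRange D.relOK 4686446 1790 = true := by decide +kernel
theorem c_rel_1320 : allRange D.relOK 4688236 1881 = true := by decide +kernel
theorem c_rel_1321 : allRange D.relOK 4690117 1793 = true := by decide +kernel
theorem c_rel_1322 : allRange D.relOK 4691910 1773 = true := by decide +kernel
theorem c_rel_1323 : allRange D.relOK 4693683 1800 = true := by decide +kernel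
theorem c_rel_1324 : allRange D.relOK 4695483 1926 = true := by decide +kernel
theorem c_rel_1325 : allRange D.relOK 4697409 1771 = true := by decide +kernel
theorem c_rel_1326 : allRange D.relOK 4699180 1619 = true := by decide +kernel
theorem c_rel_1327 : allRange D.relOK 4700799 1950 = true := by decide +kernel
theorem c_rel_1328 : allRange D.relOK 4702749 1859 = true := by decide +kernel
theorem c_rel_1329 : allRange D.relOK 4704608 1793 = true := by decide +kernel
theorem c_rel_1330 : allRange D.relOK 4706401 1774 = true := by decide +kernel
theorem c_rel_1331 : allRange D.relOK 4708175 1727 = true := by decide +kernel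
theorem c_rel_1332 : allRange D.relOK 4709902 1787 = true := by decide +kernel
theorem c_rel_1333 : allRange D.relOK 4711689 1798 = true := by decide +kernel
theorem c_rel_1334 : allRange D.relOK 4713487 1691 = true := by decide +kernel
theorem c_rel_1335 : allRange D.relOK 4715178 1772 = true := by decide +kernel
theorem c_rel_1336 : allRange D.relOK 4716950 1792 = true := by decide +kernel
theorem c_rel_1337 : allRange D.relOK 4718742 1712 = true := by decide +kernel
theorem c_rel_1338 : allRange D.relOK 4720454 1661 = true := by decide +kernel
theorem c_rel_1339 : allRange D.relOK 4722115 1854 = true := by decide +kernel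
theorem c_rel_1340 : allRange D.relOK 4723969 1777 = true := by decide +kernel
theorem c_rel_1341 : allRange D.relOK 4725746 1834 = true := by decide +kernel
theorem c_rel_1342 : allRange D.relOK 4727580 1835 = true := by decide +kernel
theorem c_rel_1343 : allRange D.relOK 4729415 1772 = true := by decide +kernel
theorem c_rel_1344 : allRange D.relOK 4731187 1714 = true := by decide +kernel
theorem c_rel_1345 : allRange D.relOK 4732901 1619 = true := by decide +kernel
theorem c_rel_1346 : allRange D.relOK 4734520 1748 = true := by decide +kernel
theorem c_rel_1347 : allRange D.relOK 4736268 1887 = true := by decide +kernel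
theorem c_rel_1348 : allRange D.relOK 4738155 1781 = true := by decide +kernel
theorem c_rel_1349 : allRange D.relOK 4739936 1941 = true := by decide +kernel
theorem c_rel_1350 : allRange D.relOK 4741877 1732 = true := by decide +kernel
theorem c_rel_1351 : allRange D.relOK 4743609 1756 = true := by decide +kernel
theorem c_rel_1352 : allRange D.relOK 4745365 1771 = true := by decide +kernel
theorem c_rel_1353 : allRange D.relOK 4747136 1791 = true := by decide +kernel
theorem c_rel_1354 : allRange D.relOK 4748927 1662 = true := by decide +kernel
theorem c_rel_1355 : allRange D.relOK 4750589 1710 = true := by decide +kernel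
theorem c_rel_1356 : allRange D.relOK 4752299 1731 = true := by decide +kernel
theorem c_rel_1357 : allRange D.relOK 4754030 1834 = true := by decide +kernel
theorem c_rel_1358 : allRange D.relOK 4755864 1904 = true := by decide +kernel
theorem c_rel_1359 : allRange D.relOK 4757768 1738 = true := by decide +kernel
theorem c_rel_1360 : allRange D.relOK 4759506 1819 = true := by decide +kernel
theorem c_rel_1361 : allRange D.relOK 4761325 1779 = true := by decide +kernel
theorem c_rel_1362 : allRange D.relOK 4763104 1738 = true := by decide +kernel
theorem c_rel_1363 : allRange D.relOK 4764842 1816 = true := by decide +kernel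
theorem c_rel_1364 : allRange D.relOK 4766658 1782 = true := by decide +kernel
theorem c_rel_1365 : allRange D.relOK 4768440 1706 = true := by decide +kernel
theorem c_rel_1366 : allRange D.relOK 4770146 1871 = true := by decide +kernel
theorem c_rel_1367 : allRange D.relOK 4772017 1836 = true := by decide +kernel
theorem c_rel_1368 : allRange D.relOK 4773853 1791 = true := by decide +kernel
theorem c_rel_1369 : allRange D.relOK 4775644 1842 = true := by decide +kernel
theorem c_rel_1370 : allRange D.relOK 4777486 1856 = true := by decide +kernel
theorem c_rel_1371 : allRange D.relOK 4779342 1797 = true := by decide +kernel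
theorem c_rel_1372 : allRange D.relOK 4781139 1781 = true := by decide +kernel
theorem c_rel_1373 : allRange D.relOK 4782920 1777 = true := by decide +kernel
theorem c_rel_1374 : allRange D.relOK 4784697 1907 = true := by decide +kernel
theorem c_rel_1375 : allRange D.relOK 4786604 1783 = true := by decide +kernel
theorem c_rel_1376 : allRange D.relOK 4788387 1732 = true := by decide +kernel
theorem c_rel_1377 : allRange D.relOK 4790119 1857 = true := by decide +kernel
theorem c_rel_1378 : allRange D.relOK 4791976 1809 = true := by decide +kernel
theorem c_rel_1379 : allRange D.relOK 4793785 1734 = true := by decide +kernel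
theorem c_rel_1380 : allRange D.relOK 4795519 1762 = true := by decide +kernel
theorem c_rel_1381 : allRange D.relOK 4797281 1848 = true := by decide +kernel
theorem c_rel_1382 : allRange D.relOK 4799129 1826 = true := by decide +kernel
theorem c_rel_1383 : allRange D.relOK 4800955 1706 = true := by decide +kernel
theorem c_rel_1384 : allRange D.relOK 4802661 1791 = true := by decide +kernel
theorem c_rel_1385 : allRange D.relOK 4804452 1691 = true := by decide +kernel
theorem c_rel_1386 : allRange D.relOK 4806143 1825 = true := by decide +kernel
theorem c_rel_1387 : allRange D.relOK 4807968 1909 = true := by decide +kernel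
theorem c_rel_1388 : allRange D.relOK 4809877 1698 = true := by decide +kernel
theorem c_rel_1389 : allRange D.relOK 4811575 1669 = true := by decide +kernel
theorem c_rel_1390 : allRange D.relOK 4813244 1763 = true := by decide +kernel
theorem c_rel_1391 : allRange D.relOK 4815007 1726 = true := by decide +kernel
theorem c_rel_1392 : allRange D.relOK 4816733 1797 = true := by decide +kernel
theorem c_rel_1393 : allRange D.relOK 4818530 1731 = true := by decide +kernel
theorem c_rel_1394 : allRange D.relOK 4820261 1800 = true := by decide +kernel
theorem c_rel_1395 : allRange D.relOK 4822061 1754 = true := by decide +kernel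
theorem c_rel_1396 : allRange D.relOK 4823815 1782 = true := by decide +kernel
theorem c_rel_1397 : allRange D.relOK 4825597 1817 = true := by decide +kernel
theorem c_rel_1398 : allRange D.relOK 4827414 1693 = true := by decide +kernel
theorem c_rel_1399 : allRange D.relOK 4829107 1720 = true := by decide +kernel
theorem c_rel_1400 : allRange D.relOK 4830827 1784 = true := by decide +kernel
theorem c_rel_1401 : allRange D.relOK 4832611 1738 = true := by decide +kernel
theorem c_rel_1402 : allRange D.relOK 4834349 1588 = true := by decide +kernel
theorem c_rel_1403 : allRange D.relOK 4835937 1769 = true := by decide +kernel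
theorem c_rel_1404 : allRange D.relOK 4837706 1830 = true := by decide +kernel
theorem c_rel_1405 : allRange D.relOK 4839536 1721 = true := by decide +kernel
theorem c_rel_1406 : allRange D.relOK 4841257 1734 = true := by decide +kernel
theorem c_rel_1407 : allRange D.relOK 4842991 1702 = true := by decide +kernel
theorem c_rel_1408 : allRange D.relOK 4844693 1784 = true := by decide +kernel

end Cfsg.Agent.Lib.Helper4.TCD.HNm
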