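import Cfsg.Agent.Lib.Helper4.TCD_HNm_Acc

namespace Cfsg.Agent.Lib.Helper4.TCD.HNm

open Cfsg.Agent.Lib.Helper4.TC

set_option maxRecDepth 100000
set_option Elab.async false

theorem c_rel_1409 : allRange D.relOK 4846477 1732 = true := by decide +kernel
theorem c_rel_1410 : allRange D.relOK 4848209 1697 = true := by decide +kernel
theorem c_rel_1411 : allRange D.relOK 4849906 1678 = true := by decide +kernel
theorem c_rel_1412 : allRange D.relOK 4851584 1861 = true := by decide +kernel
theorem c_rel_1413 : allRange D.relOK 4853445 1599 = true := by decide +kernel
theorem c_rel_1414 : allRange D.relOK 4855044 1812 = true := by decide +kernel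
theorem c_rel_1415 : allRange D.relOK 4856856 1781 = true := by decide +kernel
theorem c_rel_1416 : allRange D.relOK 4858637 1557 = true := by decide +kernel
theorem c_rel_1417 : allRange D.relOK 4860194 1732 = true := by decide +kernel
theorem c_rel_1418 : allRange D.relOK 4861926 1653 = true := by decide +kernel
theorem c_rel_1419 : allRange D.relOK 4863579 1653 = true := by decide +kernel
theorem c_rel_1420 : allRange D.relOK 4865232 1686 = true := by decide +kernel
theorem c_rel_1421 : allRange D.relOK 4866918 1811 = true := by decide +kernel
theorem c_rel_1422 : allRange D.relOK 4868729 1697 = true := by decide +kernel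
theorem c_rel_1423 : allRange D.relOK 4870426 1722 = true := by decide +kernel
theorem c_rel_1424 : allRange D.relOK 4872148 1805 = true := by decide +kernel
theorem c_rel_1425 : allRange D.relOK 4873953 1760 = true := by decide +kernel
theorem c_rel_1426 : allRange D.relOK 4875713 1709 = true := by decide +kernel
theorem c_rel_1427 : allRange D.relOK 4877422 1680 = true := by decide +kernel
theorem c_rel_1428 : allRange D.relOK 4879102 1759 = true := by decide +kernel
theorem c_rel_1429 : allRange D.relOK 4880861 1778 = true := by decide +kernel
theorem c_rel_1430 : allRange D.relOK 4882639 1601 = true := by decide +kernel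
theorem c_rel_1431 : allRange D.relOK 4884240 1704 = true := by decide +kernel
theorem c_rel_1432 : allRange D.relOK 4885944 1715 = true := by decide +kernel
theorem c_rel_1433 : allRange D.relOK 4887659 1695 = true := by decide +kernel
theorem c_rel_1434 : allRange D.relOK 4889354 1718 = true := by decide +kernel
theorem c_rel_1435 : allRange D.relOK 4891072 1623 = true := by decide +kernel
theorem c_rel_1436 : allRange D.relOK 4892695 1739 = true := by decide +kernel
theorem c_rel_1437 : allRange D.relOK 4894434 1695 = true := by decide +kernel
theorem c_rel_1438 : allRange D.relOK 4896129 1681 = true := by decide +kernel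
theorem c_rel_1439 : allRange D.relOK 4897810 1622 = true := by decide +kernel
theorem c_rel_1440 : allRange D.relOK 4899432 1703 = true := by decide +kernel
theorem c_rel_1441 : allRange D.relOK 4901135 1530 = true := by decide +kernel
theorem c_rel_1442 : allRange D.relOK 4902665 1758 = true := by decide +kernel
theorem c_rel_1443 : allRange D.relOK 4904423 1672 = true := by decide +kernel
theorem c_rel_1444 : allRange D.relOK 4906095 1769 = true := by decide +kernel
theorem c_rel_1445 : allRange D.relOK 4907864 1574 = true := by decide +kernel
theorem c_rel_1446 : allRange D.relOK 4909438 1643 = true := by decide +kernel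
theorem c_rel_1447 : allRange D.relOK 4911081 1696 = true := by decide +kernel
theorem c_rel_1448 : allRange D.relOK 4912777 1709 = true := by decide +kernel
theorem c_rel_1449 : allRange D.relOK 4914486 1680 = true := by decide +kernel
theorem c_rel_1450 : allRange D.relOK 4916166 1719 = true := by decide +kernel
theorem c_rel_1451 : allRange D.relOK 4917885 1694 = true := by decide +kernel
theorem c_rel_1452 : allRange D.relOK 4919579 1689 = true := by decide +kernel
theorem c_rel_1453 : allRange D.relOK 4921268 1648 = true := by decide +kernel
theorem c_rel_1454 : allRange D.relOK 4922916 1763 = true := by decide +kernel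
theorem c_rel_1455 : allRange D.relOK 4924679 1686 = true := by decide +kernel
theorem c_rel_1456 : allRange D.relOK 4926365 1743 = true := by decide +kernel
theorem c_rel_1457 : allRange D.relOK 4928108 1660 = true := by decide +kernel
theorem c_rel_1458 : allRange D.relOK 4929768 1628 = true := by decide +kernel
theorem c_rel_1459 : allRange D.relOK 4931396 1702 = true := by decide +kernel
theorem c_rel_1460 : allRange D.relOK 4933098 1703 = true := by decide +kernel
theorem c_rel_1461 : allRange D.relOK 4934801 1643 = true := by decide +kernel
theorem c_rel_1462 : allRange D.relOK 4936444 1752 = true := by decide +kernel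
theorem c_rel_1463 : allRange D.relOK 4938196 1697 = true := by decide +kernel
theorem c_rel_1464 : allRange D.relOK 4939893 1670 = true := by decide +kernel
theorem c_rel_1465 : allRange D.relOK 4941563 1659 = true := by decide +kernel
theorem c_rel_1466 : allRange D.relOK 4943222 1543 = true := by decide +kernel
theorem c_rel_1467 : allRange D.relOK 4944765 1653 = true := by decide +kernel
theorem c_rel_1468 : allRange D.relOK 4946418 1769 = true := by decide +kernel
theorem c_rel_1469 : allRange D.relOK 4948187 1802 = true := by decide +kernel
theorem c_rel_1470 : allRange D.relOK 4949989 1640 = true := by decide +kernel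
theorem c_rel_1471 : allRange D.relOK 4951629 1681 = true := by decide +kernel
theorem c_rel_1472 : allRange D.relOK 4953310 1574 = true := by decide +kernel
theorem c_rel_1473 : allRange D.relOK 4954884 1673 = true := by decide +kernel
theorem c_rel_1474 : allRange D.relOK 4956557 1715 = true := by decide +kernel
theorem c_rel_1475 : allRange D.relOK 4958272 1630 = true := by decide +kernel
theorem c_rel_1476 : allRange D.relOK 4959902 1639 = true := by decide +kernel
theorem c_rel_1477 : allRange D.relOK 4961541 1666 = true := by decide +kernel
theorem c_rel_1478 : allRange D.relOK 4963207 1607 = true := by decide +kernel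
theorem c_rel_1479 : allRange D.relOK 4964814 1724 = true := by decide +kernel
theorem c_rel_1480 : allRange D.relOK 4966538 1555 = true := by decide +kernel
theorem c_rel_1481 : allRange D.relOK 4968093 1639 = true := by decide +kernel
theorem c_rel_1482 : allRange D.relOK 4969732 1724 = true := by decide +kernel
theorem c_rel_1483 : allRange D.relOK 4971456 1623 = true := by decide +kernel
theorem c_rel_1484 : allRange D.relOK 4973079 1712 = true := by decide +kernel
theorem c_rel_1485 : allRange D.relOK 4974791 1706 = true := by decide +kernel
theorem c_rel_1486 : allRange D.relOK 4976497 1582 = true := by decide +kernel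
theorem c_rel_1487 : allRange D.relOK 4978079 1696 = true := by decide +kernel
theorem c_rel_1488 : allRange D.relOK 4979775 1771 = true := by decide +kernel
theorem c_rel_1489 : allRange D.relOK 4981546 1698 = true := by decide +kernel
theorem c_rel_1490 : allRange D.relOK 4983244 1560 = true := by decide +kernel
theorem c_rel_1491 : allRange D.relOK 4984804 1699 = true := by decide +kernel
theorem c_rel_1492 : allRange D.relOK 4986503 1627 = true := by decide +kernel
theorem c_rel_1493 : allRange D.relOK 4988130 1690 = true := by decide +kernel
theorem c_rel_1494 : allRange D.relOK 4989820 1632 = true := by decide +kernel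
theorem c_rel_1495 : allRange D.relOK 4991452 1605 = true := by decide +kernel
theorem c_rel_1496 : allRange D.relOK 4993057 1549 = true := by decide +kernel
theorem c_rel_1497 : allRange D.relOK 4994606 1600 = true := by decide +kernel
theorem c_rel_1498 : allRange D.relOK 4996206 1656 = true := by decide +kernel
theorem c_rel_1499 : allRange D.relOK 4997862 1616 = true := by decide +kernel
theorem c_rel_1500 : allRange D.relOK 4999478 1731 = true := by decide +kernel
theorem c_rel_1501 : allRange D.relOK 5001209 1548 = true := by decide +kernel
theorem c_rel_1502 : allRange D.relOK 5002757 1750 = true := by decide +kernel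
theorem c_rel_1503 : allRange D.relOK 5004507 1758 = true := by decide +kernel
theorem c_rel_1504 : allRange D.relOK 5006265 1505 = true := by decide +kernel
theorem c_rel_1505 : allRange D.relOK 5007770 1629 = true := by decide +kernel
theorem c_rel_1506 : allRange D.relOK 5009399 1432 = true := by decide +kernel
theorem c_rel_1507 : allRange D.relOK 5010831 1687 = true := by decide +kernel

end Cfsg.Agent.Lib.Helper4.TCD.HNm
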