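import Cfsg.Agent.Lib.Helper4.TCD_HNm_Acc

namespace Cfsg.Agent.Lib.Helper4.TCD.HNm

open Cfsg.Agent.Lib.Helper4.TC

set_option maxRecDepth 100000
set_option Elab.async false

theorem c_rel_1508 : allRange D.relOK 5012518 1674 = true := by decide +kernel
theorem c_rel_1509 : allRange D.relOK 5014192 1591 = true := by decide +kernel
theorem c_rel_1510 : allRange D.relOK 5015783 1565 = true := by decide +kernel
theorem c_rel_1511 : allRange D.relOK 5017348 1561 = true := by decide +kernel
theorem c_rel_1512 : allRange D.relOK 5018909 1548 = true := by decide +kernel
theorem c_rel_1513 : allRange D.relOK 5020457 1628 = true := by decide +kernel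
theorem c_rel_1514 : allRange D.relOK 5022085 1587 = true := by decide +kernel
theorem c_rel_1515 : allRange D.relOK 5023672 1681 = true := by decide +kernel
theorem c_rel_1516 : allRange D.relOK 5025353 1710 = true := by decide +kernel
theorem c_rel_1517 : allRange D.relOK 5027063 1592 = true := by decide +kernel
theorem c_rel_1518 : allRange D.relOK 5028655 1744 = true := by decide +kernel
theorem c_rel_1519 : allRange D.relOK 5030399 1634 = true := by decide +kernel
theorem c_rel_1520 : allRange D.relOK 5032033 1628 = true := by decide +kernel
theorem c_rel_1521 : allRange D.relOK 5033661 1702 = true := by decide +kernel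
theorem c_rel_1522 : allRange D.relOK 5035363 1607 = true := by decide +kernel
theorem c_rel_1523 : allRange D.relOK 5036970 1650 = true := by decide +kernel
theorem c_rel_1524 : allRange D.relOK 5038620 1575 = true := by decide +kernel
theorem c_rel_1525 : allRange D.relOK 5040195 1643 = true := by decide +kernel
theorem c_rel_1526 : allRange D.relOK 5041838 1686 = true := by decide +kernel
theorem c_rel_1527 : allRange D.relOK 5043524 1555 = true := by decide +kernel
theorem c_rel_1528 : allRange D.relOK 5045079 1665 = true := by decide +kernel
theorem c_rel_1529 : allRange D.relOK 5046744 1583 = true := by decide +kernel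
theorem c_rel_1530 : allRange D.relOK 5048327 1639 = true := by decide +kernel
theorem c_rel_1531 : allRange D.relOK 5049966 1645 = true := by decide +kernel
theorem c_rel_1532 : allRange D.relOK 5051611 1517 = true := by decide +kernel
theorem c_rel_1533 : allRange D.relOK 5053128 1678 = true := by decide +kernel
theorem c_rel_1534 : allRange D.relOK 5054806 1608 = true := by decide +kernel
theorem c_rel_1535 : allRange D.relOK 5056414 1681 = true := by decide +kernel
theorem c_rel_1536 : allRange D.relOK 5058095 1533 = true := by decide +kernel
theorem c_rel_1537 : allRange D.relOK 5059628 1562 = true := by decide +kernel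
theorem c_rel_1538 : allRange D.relOK 5061190 1566 = true := by decide +kernel
theorem c_rel_1539 : allRange D.relOK 5062756 1644 = true := by decide +kernel
theorem c_rel_1540 : allRange D.relOK 5064400 1734 = true := by decide +kernel
theorem c_rel_1541 : allRange D.relOK 5066134 1651 = true := by decide +kernel
theorem c_rel_1542 : allRange D.relOK 5067785 1749 = true := by decide +kernel
theorem c_rel_1543 : allRange D.relOK 5069534 1569 = true := by decide +kernel
theorem c_rel_1544 : allRange D.relOK 5071103 1626 = true := by decide +kernel
theorem c_rel_1545 : allRange D.relOK 5072729 1535 = true := by decide +kernel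
theorem c_rel_1546 : allRange D.relOK 5074264 1546 = true := by decide +kernel
theorem c_rel_1547 : allRange D.relOK 5075810 1515 = true := by decide +kernel
theorem c_rel_1548 : allRange D.relOK 5077325 1507 = true := by decide +kernel
theorem c_rel_1549 : allRange D.relOK 5078832 1693 = true := by decide +kernel
theorem c_rel_1550 : allRange D.relOK 5080525 1577 = true := by decide +kernel
theorem c_rel_1551 : allRange D.relOK 5082102 1674 = true := by decide +kernel
theorem c_rel_1552 : allRange D.relOK 5083776 1630 = true := by decide +kernel
theorem c_rel_1553 : allRange D.relOK 5085406 1495 = true := by decide +kernel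
theorem c_rel_1554 : allRange D.relOK 5086901 1626 = true := by decide +kernel
theorem c_rel_1555 : allRange D.relOK 5088527 1768 = true := by decide +kernel
theorem c_rel_1556 : allRange D.relOK 5090295 1661 = true := by decide +kernel
theorem c_rel_1557 : allRange D.relOK 5091956 1676 = true := by decide +kernel
theorem c_rel_1558 : allRange D.relOK 5093632 1492 = true := by decide +kernel
theorem c_rel_1559 : allRange D.relOK 5095124 1671 = true := by decide +kernel
theorem c_rel_1560 : allRange D.relOK 5096795 1596 = true := by decide +kernel
theorem c_rel_1561 : allRange D.relOK 5098391 1596 = true := by decide +kernel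
theorem c_rel_1562 : allRange D.relOK 5099987 1626 = true := by decide +kernel
theorem c_rel_1563 : allRange D.relOK 5101613 1600 = true := by decide +kernel
theorem c_rel_1564 : allRange D.relOK 5103213 1563 = true := by decide +kernel
theorem c_rel_1565 : allRange D.relOK 5104776 1635 = true := by decide +kernel
theorem c_rel_1566 : allRange D.relOK 5106411 1625 = true := by decide +kernel
theorem c_rel_1567 : allRange D.relOK 5108036 1560 = true := by decide +kernel
theorem c_rel_1568 : allRange D.relOK 5109596 1484 = true := by decide +kernel
theorem c_rel_1569 : allRange D.relOK 5111080 1599 = true := by decide +kernel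
theorem c_rel_1570 : allRange D.relOK 5112679 1636 = true := by decide +kernel
theorem c_rel_1571 : allRange D.relOK 5114315 1551 = true := by decide +kernel
theorem c_rel_1572 : allRange D.relOK 5115866 1510 = true := by decide +kernel
theorem c_rel_1573 : allRange D.relOK 5117376 1689 = true := by decide +kernel
theorem c_rel_1574 : allRange D.relOK 5119065 1508 = true := by decide +kernel
theorem c_rel_1575 : allRange D.relOK 5120573 1573 = true := by decide +kernel
theorem c_rel_1576 : allRange D.relOK 5122146 1577 = true := by decide +kernel
theorem c_rel_1577 : allRange D.relOK 5123723 1578 = true := by decide +kernel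
theorem c_rel_1578 : allRange D.relOK 5125301 1517 = true := by decide +kernel
theorem c_rel_1579 : allRange D.relOK 5126818 1715 = true := by decide +kernel
theorem c_rel_1580 : allRange D.relOK 5128533 1614 = true := by decide +kernel
theorem c_rel_1581 : allRange D.relOK 5130147 1588 = true := by decide +kernel
theorem c_rel_1582 : allRange D.relOK 5131735 1538 = true := by decide +kernel
theorem c_rel_1583 : allRange D.relOK 5133273 1653 = true := by decide +kernel
theorem c_rel_1584 : allRange D.relOK 5134926 1470 = true := by decide +kernel
theorem c_rel_1585 : allRange D.relOK 5136396 1635 = true := by decide +kernel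
theorem c_rel_1586 : allRange D.relOK 5138031 1580 = true := by decide +kernel
theorem c_rel_1587 : allRange D.relOK 5139611 1572 = true := by decide +kernel
theorem c_rel_1588 : allRange D.relOK 5141183 1533 = true := by decide +kernel
theorem c_rel_1589 : allRange D.relOK 5142716 1600 = true := by decide +kernel
theorem c_rel_1590 : allRange D.relOK 5144316 1619 = true := by decide +kernel
theorem c_rel_1591 : allRange D.relOK 5145935 1749 = true := by decide +kernel
theorem c_rel_1592 : allRange D.relOK 5147684 1436 = true := by decide +kernel
theorem c_rel_1593 : allRange D.relOK 5149120 1554 = true := by decide +kernel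
theorem c_rel_1594 : allRange D.relOK 5150674 1623 = true := by decide +kernel
theorem c_rel_1595 : allRange D.relOK 5152297 1609 = true := by decide +kernel
theorem c_rel_1596 : allRange D.relOK 5153906 1688 = true := by decide +kernel
theorem c_rel_1597 : allRange D.relOK 5155594 1667 = true := by decide +kernel
theorem c_rel_1598 : allRange D.relOK 5157261 1710 = true := by decide +kernel
theorem c_rel_1599 : allRange D.relOK 5158971 1697 = true := by decide +kernel
theorem c_rel_1600 : allRange D.relOK 5160668 1601 = true := by decide +kernel
theorem c_rel_1601 : allRange D.relOK 5162269 1605 = true := by decide +kernel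
theorem c_rel_1602 : allRange D.relOK 5163874 1661 = true := by decide +kernel
theorem c_rel_1603 : allRange D.relOK 5165535 1672 = true := by decide +kernel
theorem c_rel_1604 : allRange D.relOK 5167207 1667 = true := by decide +kernel
theorem c_rel_1605 : allRange D.relOK 5168874 1510 = true := by decide +kernel
theorem c_rel_1606 : allRange D.relOK 5170384 1553 = true := by decide +kernel

end Cfsg.Agent.Lib.Helper4.TCD.HNm
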