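import Cfsg.Agent.Lib.Helper4.TCD_HNm_Acc

namespace Cfsg.Agent.Lib.Helper4.TCD.HNm

open Cfsg.Agent.Lib.Helper4.TC

set_option maxRecDepth 100000
set_option Elab.async false

theorem c_cls_72 : allRange (T.clsOK D) 1080001 15000 = true := by decide +kernel
theorem c_cls_73 : allRange (T.clsOK D) 1095001 15000 = true := by decide +kernel
theorem c_cls_74 : allRange (T.clsOK D) 1110001 15000 = true := by decide +kernel
theorem c_cls_75 : allRange (T.clsOK D) 1125001 15000 = true := by decide +kernel
theorem c_cls_76 : allRange (T.clsOK D) 1140001 15000 = true := by decide +kernel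
theorem c_cls_77 : allRange (T.clsOK D) 1155001 15000 = true := by decide +kernel
theorem c_cls_78 : allRange (T.clsOK D) 1170001 15000 = true := by decide +kernel
theorem c_cls_79 : allRange (T.clsOK D) 1185001 15000 = true := by decide +kernel
theorem c_cls_80 : allRange (T.clsOK D) 1200001 15000 = true := by decide +kernel
theorem c_cls_81 : allRange (T.clsOK D) 1215001 15000 = true := by decide +kernel
theorem c_cls_82 : allRange (T.clsOK D) 1230001 15000 = true := by decide +kernel
theorem c_cls_83 : allRange (T.clsOK D) 1245001 15000 = true := by decide +kernel
theorem c_cls_84 : allRange (T.clsOK D) 1260001 15000 = true := by decide +kernel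
theorem c_cls_85 : allRange (T.clsOK D) 1275001 15000 = true := by decide +kernel
theorem c_cls_86 : allRange (T.clsOK D) 1290001 15000 = true := by decide +kernel
theorem c_cls_87 : allRange (T.clsOK D) 1305001 15000 = true := by decide +kernel
theorem c_cls_88 : allRange (T.clsOK D) 1320001 15000 = true := by decide +kernel
theorem c_cls_89 : allRange (T.clsOK D) 1335001 15000 = true := by decide +kernel
theorem c_cls_90 : allRange (T.clsOK D) 1350001 15000 = true := by decide +kernel
theorem c_cls_91 : allRange (T.clsOK D) 1365001 15000 = true := by decide +kernel
theorem c_cls_92 : allRange (T.clsOK D) 1380001 15000 = true := by decide +kernel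
theorem c_cls_93 : allRange (T.clsOK D) 1395001 15000 = true := by decide +kernel
theorem c_cls_94 : allRange (T.clsOK D) 1410001 15000 = true := by decide +kernel
theorem c_cls_95 : allRange (T.clsOK D) 1425001 15000 = true := by decide +kernel
theorem c_cls_96 : allRange (T.clsOK D) 1440001 15000 = true := by decide +kernel
theorem c_cls_97 : allRange (T.clsOK D) 1455001 15000 = true := by decide +kernel
theorem c_cls_98 : allRange (T.clsOK D) 1470001 15000 = true := by decide +kernel
theorem c_cls_99 : allRange (T.clsOK D) 1485001 15000 = true := by decide +kernel
theorem c_cls_100 : allRange (T.clsOK D) 1500001 15000 = true := by decide +kernel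
theorem c_cls_101 : allRange (T.clsOK D) 1515001 15000 = true := by decide +kernel
theorem c_cls_102 : allRange (T.clsOK D) 1530001 15000 = true := by decide +kernel
theorem c_cls_103 : allRange (T.clsOK D) 1545001 15000 = true := by decide +kernel
theorem c_cls_104 : allRange (T.clsOK D) 1560001 15000 = true := by decide +kernel
theorem c_cls_105 : allRange (T.clsOK D) 1575001 15000 = true := by decide +kernel
theorem c_cls_106 : allRange (T.clsOK D) 1590001 15000 = true := by decide +kernel
theorem c_cls_107 : allRange (T.clsOK D) 1605001 15000 = true := by decide +kernel
theorem c_cls_108 : allRange (T.clsOK D) 1620001 2367 = true := by decide +kernel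
theorem c_rep_0 : allRange (T.repOK D) 0 30000 = true := by decide +kernel
theorem c_rep_1 : allRange (T.repOK D) 30000 30000 = true := by decide +kernel
theorem c_rep_2 : allRange (T.repOK D) 60000 30000 = true := by decide +kernel
theorem c_rep_3 : allRange (T.repOK D) 90000 30000 = true := by decide +kernel
theorem c_rep_4 : allRange (T.repOK D) 120000 30000 = true := by decide +kernel
theorem c_rep_5 : allRange (T.repOK D) 150000 30000 = true := by decide +kernel
theorem c_rep_6 : allRange (T.repOK D) 180000 30000 = true := by decide +kernel
theorem c_rep_7 : allRange (T.repOK D) 210000 30000 = true := by decide +kernel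
theorem c_rep_8 : allRange (T.repOK D) 240000 30000 = true := by decide +kernel
theorem c_rep_9 : allRange (T.repOK D) 270000 30000 = true := by decide +kernel
theorem c_rep_10 : allRange (T.repOK D) 300000 30000 = true := by decide +kernel
theorem c_rep_11 : allRange (T.repOK D) 330000 30000 = true := by decide +kernel
theorem c_rep_12 : allRange (T.repOK D) 360000 30000 = true := by decide +kernel

end Cfsg.Agent.Lib.Helper4.TCD.HNm
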