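import Cfsg.Agent.Lib.Helper4.TCD_HNm_Acc

namespace Cfsg.Agent.Lib.Helper4.TCD.HNm

open Cfsg.Agent.Lib.Helper4.TC

set_option maxRecDepth 100000
set_option Elab.async false

theorem c_rel_1607 : allRange D.relOK 5171937 1475 = true := by decide +kernel
theorem c_rel_1608 : allRange D.relOK 5173412 1559 = true := by decide +kernel
theorem c_rel_1609 : allRange D.relOK 5174971 1527 = true := by decide +kernel
theorem c_rel_1610 : allRange D.relOK 5176498 1543 = true := by decide +kernel
theorem c_rel_1611 : allRange D.relOK 5178041 1534 = true := by decide +kernel
theorem c_rel_1612 : allRange D.relOK 5179575 1555 = true := by decide +kernel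
theorem c_rel_1613 : allRange D.relOK 5181130 1506 = true := by decide +kernel
theorem c_rel_1614 : allRange D.relOK 5182636 1502 = true := by decide +kernel
theorem c_rel_1615 : allRange D.relOK 5184138 1642 = true := by decide +kernel
theorem c_rel_1616 : allRange D.relOK 5185780 1618 = true := by decide +kernel
theorem c_rel_1617 : allRange D.relOK 5187398 1434 = true := by decide +kernel
theorem c_rel_1618 : allRange D.relOK 5188832 1456 = true := by decide +kernel
theorem c_rel_1619 : allRange D.relOK 5190288 1591 = true := by decide +kernel
theorem c_rel_1620 : allRange D.relOK 5191879 1579 = true := by decide +kernel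
theorem c_rel_1621 : allRange D.relOK 5193458 1598 = true := by decide +kernel
theorem c_rel_1622 : allRange D.relOK 5195056 1679 = true := by decide +kernel
theorem c_rel_1623 : allRange D.relOK 5196735 1668 = true := by decide +kernel
theorem c_rel_1624 : allRange D.relOK 5198403 1598 = true := by decide +kernel
theorem c_rel_1625 : allRange D.relOK 5200001 1559 = true := by decide +kernel
theorem c_rel_1626 : allRange D.relOK 5201560 1493 = true := by decide +kernel
theorem c_rel_1627 : allRange D.relOK 5203053 1473 = true := by decide +kernel
theorem c_rel_1628 : allRange D.relOK 5204526 1589 = true := by decide +kernel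
theorem c_rel_1629 : allRange D.relOK 5206115 1553 = true := by decide +kernel
theorem c_rel_1630 : allRange D.relOK 5207668 1581 = true := by decide +kernel
theorem c_rel_1631 : allRange D.relOK 5209249 1515 = true := by decide +kernel
theorem c_rel_1632 : allRange D.relOK 5210764 1459 = true := by decide +kernel
theorem c_rel_1633 : allRange D.relOK 5212223 1503 = true := by decide +kernel
theorem c_rel_1634 : allRange D.relOK 5213726 1456 = true := by decide +kernel
theorem c_rel_1635 : allRange D.relOK 5215182 1461 = true := by decide +kernel
theorem c_rel_1636 : allRange D.relOK 5216643 1690 = true := by decide +kernel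
theorem c_rel_1637 : allRange D.relOK 5218333 1645 = true := by decide +kernel
theorem c_rel_1638 : allRange D.relOK 5219978 1492 = true := by decide +kernel
theorem c_rel_1639 : allRange D.relOK 5221470 1714 = true := by decide +kernel
theorem c_rel_1640 : allRange D.relOK 5223184 1514 = true := by decide +kernel
theorem c_rel_1641 : allRange D.relOK 5224698 1598 = true := by decide +kernel
theorem c_rel_1642 : allRange D.relOK 5226296 1619 = true := by decide +kernel
theorem c_rel_1643 : allRange D.relOK 5227915 1716 = true := by decide +kernel
theorem c_rel_1644 : allRange D.relOK 5229631 1468 = true := by decide +kernel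
theorem c_rel_1645 : allRange D.relOK 5231099 1575 = true := by decide +kernel
theorem c_rel_1646 : allRange D.relOK 5232674 1659 = true := by decide +kernel
theorem c_rel_1647 : allRange D.relOK 5234333 1531 = true := by decide +kernel
theorem c_rel_1648 : allRange D.relOK 5235864 1598 = true := by decide +kernel
theorem c_rel_1649 : allRange D.relOK 5237462 1562 = true := by decide +kernel
theorem c_rel_1650 : allRange D.relOK 5239024 1460 = true := by decide +kernel
theorem c_rel_1651 : allRange D.relOK 5240484 1527 = true := by decide +kernel
theorem c_rel_1652 : allRange D.relOK 5242011 1549 = true := by decide +kernel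
theorem c_rel_1653 : allRange D.relOK 5243560 1556 = true := by decide +kernel
theorem c_rel_1654 : allRange D.relOK 5245116 1537 = true := by decide +kernel
theorem c_rel_1655 : allRange D.relOK 5246653 1647 = true := by decide +kernel
theorem c_rel_1656 : allRange D.relOK 5248300 1504 = true := by decide +kernel
theorem c_rel_1657 : allRange D.relOK 5249804 1593 = true := by decide +kernel
theorem c_rel_1658 : allRange D.relOK 5251397 1602 = true := by decide +kernel
theorem c_rel_1659 : allRange D.relOK 5252999 1605 = true := by decide +kernel
theorem c_rel_1660 : allRange D.relOK 5254604 1604 = true := by decide +kernel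
theorem c_rel_1661 : allRange D.relOK 5256208 1676 = true := by decide +kernel
theorem c_rel_1662 : allRange D.relOK 5257884 1657 = true := by decide +kernel
theorem c_rel_1663 : allRange D.relOK 5259541 1496 = true := by decide +kernel
theorem c_rel_1664 : allRange D.relOK 5261037 1629 = true := by decide +kernel
theorem c_rel_1665 : allRange D.relOK 5262666 1522 = true := by decide +kernel
theorem c_rel_1666 : allRange D.relOK 5264188 1663 = true := by decide +kernel
theorem c_rel_1667 : allRange D.relOK 5265851 1456 = true := by decide +kernel
theorem c_rel_1668 : allRange D.relOK 5267307 1432 = true := by decide +kernel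
theorem c_rel_1669 : allRange D.relOK 5268739 1580 = true := by decide +kernel
theorem c_rel_1670 : allRange D.relOK 5270319 1707 = true := by decide +kernel
theorem c_rel_1671 : allRange D.relOK 5272026 1403 = true := by decide +kernel
theorem c_rel_1672 : allRange D.relOK 5273429 1586 = true := by decide +kernel
theorem c_rel_1673 : allRange D.relOK 5275015 1555 = true := by decide +kernel
theorem c_rel_1674 : allRange D.relOK 5276570 1646 = true := by decide +kernel
theorem c_rel_1675 : allRange D.relOK 5278216 1473 = true := by decide +kernel
theorem c_rel_1676 : allRange D.relOK 5279689 1482 = true := by decide +kernel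
theorem c_rel_1677 : allRange D.relOK 5281171 1496 = true := by decide +kernel
theorem c_rel_1678 : allRange D.relOK 5282667 1561 = true := by decide +kernel
theorem c_rel_1679 : allRange D.relOK 5284228 1375 = true := by decide +kernel
theorem c_rel_1680 : allRange D.relOK 5285603 1555 = true := by decide +kernel
theorem c_rel_1681 : allRange D.relOK 5287158 1492 = true := by decide +kernel
theorem c_rel_1682 : allRange D.relOK 5288650 1557 = true := by decide +kernel
theorem c_rel_1683 : allRange D.relOK 5290207 1637 = true := by decide +kernel
theorem c_rel_1684 : allRange D.relOK 5291844 1605 = true := by decide +kernel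
theorem c_rel_1685 : allRange D.relOK 5293449 1478 = true := by decide +kernel
theorem c_rel_1686 : allRange D.relOK 5294927 1578 = true := by decide +kernel
theorem c_rel_1687 : allRange D.relOK 5296505 1534 = true := by decide +kernel
theorem c_rel_1688 : allRange D.relOK 5298039 1527 = true := by decide +kernel
theorem c_rel_1689 : allRange D.relOK 5299566 1575 = true := by decide +kernel
theorem c_rel_1690 : allRange D.relOK 5301141 1458 = true := by decide +kernel
theorem c_rel_1691 : allRange D.relOK 5302599 1434 = true := by decide +kernel
theorem c_rel_1692 : allRange D.relOK 5304033 1493 = true := by decide +kernel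
theorem c_rel_1693 : allRange D.relOK 5305526 1657 = true := by decide +kernel
theorem c_rel_1694 : allRange D.relOK 5307183 1495 = true := by decide +kernel
theorem c_rel_1695 : allRange D.relOK 5308678 1465 = true := by decide +kernel
theorem c_rel_1696 : allRange D.relOK 5310143 1366 = true := by decide +kernel
theorem c_rel_1697 : allRange D.relOK 5311509 1577 = true := by decide +kernel
theorem c_rel_1698 : allRange D.relOK 5313086 1607 = true := by decide +kernel
theorem c_rel_1699 : allRange D.relOK 5314693 1432 = true := by decide +kernel
theorem c_rel_1700 : allRange D.relOK 5316125 1402 = true := by decide +kernel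
theorem c_rel_1701 : allRange D.relOK 5317527 1495 = true := by decide +kernel
theorem c_rel_1702 : allRange D.relOK 5319022 1425 = true := by decide +kernel
theorem c_rel_1703 : allRange D.relOK 5320447 1507 = true := by decide +kernel
theorem c_rel_1704 : allRange D.relOK 5321954 1431 = true := by decide +kernel
theorem c_rel_1705 : allRange D.relOK 5323385 1562 = true := by decide +kernel

end Cfsg.Agent.Lib.Helper4.TCD.HNm
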