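import Cfsg.Agent.Lib.Helper4.TCD_HNm_Acc

namespace Cfsg.Agent.Lib.Helper4.TCD.HNm

open Cfsg.Agent.Lib.Helper4.TC

set_option maxRecDepth 100000
set_option Elab.async false

theorem c_rel_1706 : allRange D.relOK 5324947 1603 = true := by decide +kernel
theorem c_rel_1707 : allRange D.relOK 5326550 1504 = true := by decide +kernel
theorem c_rel_1708 : allRange D.relOK 5328054 1427 = true := by decide +kernel
theorem c_rel_1709 : allRange D.relOK 5329481 1555 = true := by decide +kernel
theorem c_rel_1710 : allRange D.relOK 5331036 1502 = true := by decide +kernel
theorem c_rel_1711 : allRange D.relOK 5332538 1638 = true := by decide +kernel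
theorem c_rel_1712 : allRange D.relOK 5334176 1517 = true := by decide +kernel
theorem c_rel_1713 : allRange D.relOK 5335693 1447 = true := by decide +kernel
theorem c_rel_1714 : allRange D.relOK 5337140 1498 = true := by decide +kernel
theorem c_rel_1715 : allRange D.relOK 5338638 1478 = true := by decide +kernel
theorem c_rel_1716 : allRange D.relOK 5340116 1543 = true := by decide +kernel
theorem c_rel_1717 : allRange D.relOK 5341659 1611 = true := by decide +kernel
theorem c_rel_1718 : allRange D.relOK 5343270 1590 = true := by decide +kernel
theorem c_rel_1719 : allRange D.relOK 5344860 1719 = true := by decide +kernel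
theorem c_rel_1720 : allRange D.relOK 5346579 1676 = true := by decide +kernel
theorem c_rel_1721 : allRange D.relOK 5348255 1516 = true := by decide +kernel
theorem c_rel_1722 : allRange D.relOK 5349771 1572 = true := by decide +kernel
theorem c_rel_1723 : allRange D.relOK 5351343 1462 = true := by decide +kernel
theorem c_rel_1724 : allRange D.relOK 5352805 1418 = true := by decide +kernel
theorem c_rel_1725 : allRange D.relOK 5354223 1345 = true := by decide +kernel
theorem c_rel_1726 : allRange D.relOK 5355568 1512 = true := by decide +kernel
theorem c_rel_1727 : allRange D.relOK 5357080 1510 = true := by decide +kernel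
theorem c_rel_1728 : allRange D.relOK 5358590 1421 = true := by decide +kernel
theorem c_rel_1729 : allRange D.relOK 5360011 1579 = true := by decide +kernel
theorem c_rel_1730 : allRange D.relOK 5361590 1378 = true := by decide +kernel
theorem c_rel_1731 : allRange D.relOK 5362968 1457 = true := by decide +kernel
theorem c_rel_1732 : allRange D.relOK 5364425 1552 = true := by decide +kernel
theorem c_rel_1733 : allRange D.relOK 5365977 1446 = true := by decide +kernel
theorem c_rel_1734 : allRange D.relOK 5367423 1508 = true := by decide +kernel
theorem c_rel_1735 : allRange D.relOK 5368931 1419 = true := by decide +kernel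
theorem c_rel_1736 : allRange D.relOK 5370350 1667 = true := by decide +kernel
theorem c_rel_1737 : allRange D.relOK 5372017 1505 = true := by decide +kernel
theorem c_rel_1738 : allRange D.relOK 5373522 1556 = true := by decide +kernel
theorem c_rel_1739 : allRange D.relOK 5375078 1488 = true := by decide +kernel
theorem c_rel_1740 : allRange D.relOK 5376566 1509 = true := by decide +kernel
theorem c_rel_1741 : allRange D.relOK 5378075 1475 = true := by decide +kernel
theorem c_rel_1742 : allRange D.relOK 5379550 1399 = true := by decide +kernel
theorem c_rel_1743 : allRange D.relOK 5380949 1480 = true := by decide +kernel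
theorem c_rel_1744 : allRange D.relOK 5382429 1555 = true := by decide +kernel
theorem c_rel_1745 : allRange D.relOK 5383984 1502 = true := by decide +kernel
theorem c_rel_1746 : allRange D.relOK 5385486 1430 = true := by decide +kernel
theorem c_rel_1747 : allRange D.relOK 5386916 1449 = true := by decide +kernel
theorem c_rel_1748 : allRange D.relOK 5388365 1466 = true := by decide +kernel
theorem c_rel_1749 : allRange D.relOK 5389831 1536 = true := by decide +kernel
theorem c_rel_1750 : allRange D.relOK 5391367 1527 = true := by decide +kernel
theorem c_rel_1751 : allRange D.relOK 5392894 1384 = true := by decide +kernel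
theorem c_rel_1752 : allRange D.relOK 5394278 1492 = true := by decide +kernel
theorem c_rel_1753 : allRange D.relOK 5395770 1312 = true := by decide +kernel
theorem c_rel_1754 : allRange D.relOK 5397082 1438 = true := by decide +kernel
theorem c_rel_1755 : allRange D.relOK 5398520 1505 = true := by decide +kernel
theorem c_rel_1756 : allRange D.relOK 5400025 1578 = true := by decide +kernel
theorem c_rel_1757 : allRange D.relOK 5401603 1563 = true := by decide +kernel
theorem c_rel_1758 : allRange D.relOK 5403166 1501 = true := by decide +kernel
theorem c_rel_1759 : allRange D.relOK 5404667 1528 = true := by decide +kernel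
theorem c_rel_1760 : allRange D.relOK 5406195 1553 = true := by decide +kernel
theorem c_rel_1761 : allRange D.relOK 5407748 1575 = true := by decide +kernel
theorem c_rel_1762 : allRange D.relOK 5409323 1511 = true := by decide +kernel
theorem c_rel_1763 : allRange D.relOK 5410834 1598 = true := by decide +kernel
theorem c_rel_1764 : allRange D.relOK 5412432 1554 = true := by decide +kernel
theorem c_rel_1765 : allRange D.relOK 5413986 1529 = true := by decide +kernel
theorem c_rel_1766 : allRange D.relOK 5415515 1456 = true := by decide +kernel
theorem c_rel_1767 : allRange D.relOK 5416971 1447 = true := by decide +kernel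
theorem c_rel_1768 : allRange D.relOK 5418418 1525 = true := by decide +kernel
theorem c_rel_1769 : allRange D.relOK 5419943 1413 = true := by decide +kernel
theorem c_rel_1770 : allRange D.relOK 5421356 1509 = true := by decide +kernel
theorem c_rel_1771 : allRange D.relOK 5422865 1476 = true := by decide +kernel
theorem c_rel_1772 : allRange D.relOK 5424341 1436 = true := by decide +kernel
theorem c_rel_1773 : allRange D.relOK 5425777 1529 = true := by decide +kernel
theorem c_rel_1774 : allRange D.relOK 5427306 1569 = true := by decide +kernel
theorem c_rel_1775 : allRange D.relOK 5428875 1507 = true := by decide +kernel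
theorem c_rel_1776 : allRange D.relOK 5430382 1607 = true := by decide +kernel
theorem c_rel_1777 : allRange D.relOK 5431989 1542 = true := by decide +kernel
theorem c_rel_1778 : allRange D.relOK 5433531 1274 = true := by decide +kernel
theorem c_rel_1779 : allRange D.relOK 5434805 1464 = true := by decide +kernel
theorem c_rel_1780 : allRange D.relOK 5436269 1609 = true := by decide +kernel
theorem c_rel_1781 : allRange D.relOK 5437878 1603 = true := by decide +kernel
theorem c_rel_1782 : allRange D.relOK 5439481 1363 = true := by decide +kernel
theorem c_rel_1783 : allRange D.relOK 5440844 1548 = true := by decide +kernel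
theorem c_rel_1784 : allRange D.relOK 5442392 1456 = true := by decide +kernel
theorem c_rel_1785 : allRange D.relOK 5443848 1445 = true := by decide +kernel
theorem c_rel_1786 : allRange D.relOK 5445293 1472 = true := by decide +kernel
theorem c_rel_1787 : allRange D.relOK 5446765 1457 = true := by decide +kernel
theorem c_rel_1788 : allRange D.relOK 5448222 1510 = true := by decide +kernel
theorem c_rel_1789 : allRange D.relOK 5449732 1444 = true := by decide +kernel
theorem c_rel_1790 : allRange D.relOK 5451176 1594 = true := by decide +kernel
theorem c_rel_1791 : allRange D.relOK 5452770 1539 = true := by decide +kernel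
theorem c_rel_1792 : allRange D.relOK 5454309 1500 = true := by decide +kernel
theorem c_rel_1793 : allRange D.relOK 5455809 1443 = true := by decide +kernel
theorem c_rel_1794 : allRange D.relOK 5457252 1471 = true := by decide +kernel
theorem c_rel_1795 : allRange D.relOK 5458723 1598 = true := by decide +kernel
theorem c_rel_1796 : allRange D.relOK 5460321 1517 = true := by decide +kernel
theorem c_rel_1797 : allRange D.relOK 5461838 1500 = true := by decide +kernel
theorem c_rel_1798 : allRange D.relOK 5463338 1399 = true := by decide +kernel
theorem c_rel_1799 : allRange D.relOK 5464737 1411 = true := by decide +kernel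
theorem c_rel_1800 : allRange D.relOK 5466148 1471 = true := by decide +kernel
theorem c_rel_1801 : allRange D.relOK 5467619 1414 = true := by decide +kernel
theorem c_rel_1802 : allRange D.relOK 5469033 1603 = true := by decide +kernel
theorem c_rel_1803 : allRange D.relOK 5470636 1451 = true := by decide +kernel
theorem c_rel_1804 : allRange D.relOK 5472087 1511 = true := by decide +kernel

end Cfsg.Agent.Lib.Helper4.TCD.HNm
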