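import Cfsg.Agent.Lib.Helper4.TCD_HNm_Acc

namespace Cfsg.Agent.Lib.Helper4.TCD.HNm

open Cfsg.Agent.Lib.Helper4.TC

set_option maxRecDepth 100000
set_option Elab.async false

theorem c_rel_1805 : allRange D.relOK 5473598 1481 = true := by decide +kernel
theorem c_rel_1806 : allRange D.relOK 5475079 1391 = true := by decide +kernel
theorem c_rel_1807 : allRange D.relOK 5476470 1430 = true := by decide +kernel
theorem c_rel_1808 : allRange D.relOK 5477900 1426 = true := by decide +kernel
theorem c_rel_1809 : allRange D.relOK 5479326 1553 = true := by decide +kernel
theorem c_rel_1810 : allRange D.relOK 5480879 1379 = true := by decide +kernel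
theorem c_rel_1811 : allRange D.relOK 5482258 1548 = true := by decide +kernel
theorem c_rel_1812 : allRange D.relOK 5483806 1565 = true := by decide +kernel
theorem c_rel_1813 : allRange D.relOK 5485371 1407 = true := by decide +kernel
theorem c_rel_1814 : allRange D.relOK 5486778 1575 = true := by decide +kernel
theorem c_rel_1815 : allRange D.relOK 5488353 1450 = true := by decide +kernel
theorem c_rel_1816 : allRange D.relOK 5489803 1371 = true := by decide +kernel
theorem c_rel_1817 : allRange D.relOK 5491174 1532 = true := by decide +kernel
theorem c_rel_1818 : allRange D.relOK 5492706 1454 = true := by decide +kernel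
theorem c_rel_1819 : allRange D.relOK 5494160 1687 = true := by decide +kernel
theorem c_rel_1820 : allRange D.relOK 5495847 1634 = true := by decide +kernel
theorem c_rel_1821 : allRange D.relOK 5497481 1431 = true := by decide +kernel
theorem c_rel_1822 : allRange D.relOK 5498912 1559 = true := by decide +kernel
theorem c_rel_1823 : allRange D.relOK 5500471 1479 = true := by decide +kernel
theorem c_rel_1824 : allRange D.relOK 5501950 1620 = true := by decide +kernel
theorem c_rel_1825 : allRange D.relOK 5503570 1491 = true := by decide +kernel
theorem c_rel_1826 : allRange D.relOK 5505061 1617 = true := by decide +kernel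
theorem c_rel_1827 : allRange D.relOK 5506678 1688 = true := by decide +kernel
theorem c_rel_1828 : allRange D.relOK 5508366 1445 = true := by decide +kernel
theorem c_rel_1829 : allRange D.relOK 5509811 1352 = true := by decide +kernel
theorem c_rel_1830 : allRange D.relOK 5511163 1429 = true := by decide +kernel
theorem c_rel_1831 : allRange D.relOK 5512592 1487 = true := by decide +kernel
theorem c_rel_1832 : allRange D.relOK 5514079 1446 = true := by decide +kernel
theorem c_rel_1833 : allRange D.relOK 5515525 1446 = true := by decide +kernel
theorem c_rel_1834 : allRange D.relOK 5516971 1466 = true := by decide +kernel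
theorem c_rel_1835 : allRange D.relOK 5518437 1567 = true := by decide +kernel
theorem c_rel_1836 : allRange D.relOK 5520004 1582 = true := by decide +kernel
theorem c_rel_1837 : allRange D.relOK 5521586 1681 = true := by decide +kernel
theorem c_rel_1838 : allRange D.relOK 5523267 1504 = true := by decide +kernel
theorem c_rel_1839 : allRange D.relOK 5524771 1300 = true := by decide +kernel
theorem c_rel_1840 : allRange D.relOK 5526071 1523 = true := by decide +kernel
theorem c_rel_1841 : allRange D.relOK 5527594 1461 = true := by decide +kernel
theorem c_rel_1842 : allRange D.relOK 5529055 1468 = true := by decide +kernel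
theorem c_rel_1843 : allRange D.relOK 5530523 1372 = true := by decide +kernel
theorem c_rel_1844 : allRange D.relOK 5531895 1486 = true := by decide +kernel
theorem c_rel_1845 : allRange D.relOK 5533381 1545 = true := by decide +kernel
theorem c_rel_1846 : allRange D.relOK 5534926 1482 = true := by decide +kernel
theorem c_rel_1847 : allRange D.relOK 5536408 1670 = true := by decide +kernel
theorem c_rel_1848 : allRange D.relOK 5538078 1575 = true := by decide +kernel
theorem c_rel_1849 : allRange D.relOK 5539653 1486 = true := by decide +kernel
theorem c_rel_1850 : allRange D.relOK 5541139 1558 = true := by decide +kernel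
theorem c_rel_1851 : allRange D.relOK 5542697 1656 = true := by decide +kernel
theorem c_rel_1852 : allRange D.relOK 5544353 1343 = true := by decide +kernel
theorem c_rel_1853 : allRange D.relOK 5545696 1391 = true := by decide +kernel
theorem c_rel_1854 : allRange D.relOK 5547087 1327 = true := by decide +kernel
theorem c_rel_1855 : allRange D.relOK 5548414 1526 = true := by decide +kernel
theorem c_rel_1856 : allRange D.relOK 5549940 1586 = true := by decide +kernel
theorem c_rel_1857 : allRange D.relOK 5551526 1517 = true := by decide +kernel
theorem c_rel_1858 : allRange D.relOK 5553043 1546 = true := by decide +kernel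
theorem c_rel_1859 : allRange D.relOK 5554589 1558 = true := by decide +kernel
theorem c_rel_1860 : allRange D.relOK 5556147 1418 = true := by decide +kernel
theorem c_rel_1861 : allRange D.relOK 5557565 1517 = true := by decide +kernel
theorem c_rel_1862 : allRange D.relOK 5559082 1387 = true := by decide +kernel
theorem c_rel_1863 : allRange D.relOK 5560469 1392 = true := by decide +kernel
theorem c_rel_1864 : allRange D.relOK 5561861 1417 = true := by decide +kernel
theorem c_rel_1865 : allRange D.relOK 5563278 1446 = true := by decide +kernel
theorem c_rel_1866 : allRange D.relOK 5564724 1516 = true := by decide +kernel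
theorem c_rel_1867 : allRange D.relOK 5566240 1433 = true := by decide +kernel
theorem c_rel_1868 : allRange D.relOK 5567673 1419 = true := by decide +kernel
theorem c_rel_1869 : allRange D.relOK 5569092 1317 = true := by decide +kernel
theorem c_rel_1870 : allRange D.relOK 5570409 1578 = true := by decide +kernel
theorem c_rel_1871 : allRange D.relOK 5571987 1509 = true := by decide +kernel
theorem c_rel_1872 : allRange D.relOK 5573496 1536 = true := by decide +kernel
theorem c_rel_1873 : allRange D.relOK 5575032 1459 = true := by decide +kernel
theorem c_rel_1874 : allRange D.relOK 5576491 1595 = true := by decide +kernel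
theorem c_rel_1875 : allRange D.relOK 5578086 1459 = true := by decide +kernel
theorem c_rel_1876 : allRange D.relOK 5579545 1623 = true := by decide +kernel
theorem c_rel_1877 : allRange D.relOK 5581168 1445 = true := by decide +kernel
theorem c_rel_1878 : allRange D.relOK 5582613 1565 = true := by decide +kernel
theorem c_rel_1879 : allRange D.relOK 5584178 1647 = true := by decide +kernel
theorem c_rel_1880 : allRange D.relOK 5585825 1401 = true := by decide +kernel
theorem c_rel_1881 : allRange D.relOK 5587226 1471 = true := by decide +kernel
theorem c_rel_1882 : allRange D.relOK 5588697 1513 = true := by decide +kernel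
theorem c_rel_1883 : allRange D.relOK 5590210 1550 = true := by decide +kernel
theorem c_rel_1884 : allRange D.relOK 5591760 1479 = true := by decide +kernel
theorem c_rel_1885 : allRange D.relOK 5593239 1366 = true := by decide +kernel
theorem c_rel_1886 : allRange D.relOK 5594605 1525 = true := by decide +kernel
theorem c_rel_1887 : allRange D.relOK 5596130 1359 = true := by decide +kernel
theorem c_rel_1888 : allRange D.relOK 5597489 1465 = true := by decide +kernel
theorem c_rel_1889 : allRange D.relOK 5598954 1511 = true := by decide +kernel
theorem c_rel_1890 : allRange D.relOK 5600465 1579 = true := by decide +kernel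
theorem c_rel_1891 : allRange D.relOK 5602044 1263 = true := by decide +kernel
theorem c_rel_1892 : allRange D.relOK 5603307 1430 = true := by decide +kernel
theorem c_rel_1893 : allRange D.relOK 5604737 1486 = true := by decide +kernel
theorem c_rel_1894 : allRange D.relOK 5606223 1552 = true := by decide +kernel
theorem c_rel_1895 : allRange D.relOK 5607775 1492 = true := by decide +kernel
theorem c_rel_1896 : allRange D.relOK 5609267 1500 = true := by decide +kernel
theorem c_rel_1897 : allRange D.relOK 5610767 1425 = true := by decide +kernel
theorem c_rel_1898 : allRange D.relOK 5612192 1352 = true := by decide +kernel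
theorem c_rel_1899 : allRange D.relOK 5613544 1571 = true := by decide +kernel
theorem c_rel_1900 : allRange D.relOK 5615115 1498 = true := by decide +kernel
theorem c_rel_1901 : allRange D.relOK 5616613 1328 = true := by decide +kernel
theorem c_rel_1902 : allRange D.relOK 5617941 1650 = true := by decide +kernel
theorem c_rel_1903 : allRange D.relOK 5619591 1450 = true := by decide +kernel

end Cfsg.Agent.Lib.Helper4.TCD.HNm
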