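import Cfsg.Agent.Lib.Helper4.TCD_HNm_Acc

namespace Cfsg.Agent.Lib.Helper4.TCD.HNm

open Cfsg.Agent.Lib.Helper4.TC

set_option maxRecDepth 100000
set_option Elab.async false

theorem c_rel_1904 : allRange D.relOK 5621041 1397 = true := by decide +kernel
theorem c_rel_1905 : allRange D.relOK 5622438 1577 = true := by decide +kernel
theorem c_rel_1906 : allRange D.relOK 5624015 1409 = true := by decide +kernel
theorem c_rel_1907 : allRange D.relOK 5625424 1555 = true := by decide +kernel
theorem c_rel_1908 : allRange D.relOK 5626979 1612 = true := by decide +kernel
theorem c_rel_1909 : allRange D.relOK 5628591 1386 = true := by decide +kernel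
theorem c_rel_1910 : allRange D.relOK 5629977 1510 = true := by decide +kernel
theorem c_rel_1911 : allRange D.relOK 5631487 1599 = true := by decide +kernel
theorem c_rel_1912 : allRange D.relOK 5633086 1472 = true := by decide +kernel
theorem c_rel_1913 : allRange D.relOK 5634558 1509 = true := by decide +kernel
theorem c_rel_1914 : allRange D.relOK 5636067 1619 = true := by decide +kernel
theorem c_rel_1915 : allRange D.relOK 5637686 1522 = true := by decide +kernel
theorem c_rel_1916 : allRange D.relOK 5639208 1450 = true := by decide +kernel
theorem c_rel_1917 : allRange D.relOK 5640658 1592 = true := by decide +kernel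
theorem c_rel_1918 : allRange D.relOK 5642250 1490 = true := by decide +kernel
theorem c_rel_1919 : allRange D.relOK 5643740 1506 = true := by decide +kernel
theorem c_rel_1920 : allRange D.relOK 5645246 1697 = true := by decide +kernel
theorem c_rel_1921 : allRange D.relOK 5646943 1386 = true := by decide +kernel
theorem c_rel_1922 : allRange D.relOK 5648329 1280 = true := by decide +kernel
theorem c_rel_1923 : allRange D.relOK 5649609 1633 = true := by decide +kernel
theorem c_rel_1924 : allRange D.relOK 5651242 1668 = true := by decide +kernel
theorem c_rel_1925 : allRange D.relOK 5652910 1543 = true := by decide +kernel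
theorem c_rel_1926 : allRange D.relOK 5654453 1499 = true := by decide +kernel
theorem c_rel_1927 : allRange D.relOK 5655952 1486 = true := by decide +kernel
theorem c_rel_1928 : allRange D.relOK 5657438 1548 = true := by decide +kernel
theorem c_rel_1929 : allRange D.relOK 5658986 1424 = true := by decide +kernel
theorem c_rel_1930 : allRange D.relOK 5660410 1327 = true := by decide +kernel
theorem c_rel_1931 : allRange D.relOK 5661737 1553 = true := by decide +kernel
theorem c_rel_1932 : allRange D.relOK 5663290 1573 = true := by decide +kernel
theorem c_rel_1933 : allRange D.relOK 5664863 1469 = true := by decide +kernel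
theorem c_rel_1934 : allRange D.relOK 5666332 1655 = true := by decide +kernel
theorem c_rel_1935 : allRange D.relOK 5667987 1529 = true := by decide +kernel
theorem c_rel_1936 : allRange D.relOK 5669516 1416 = true := by decide +kernel
theorem c_rel_1937 : allRange D.relOK 5670932 1611 = true := by decide +kernel
theorem c_rel_1938 : allRange D.relOK 5672543 1546 = true := by decide +kernel
theorem c_rel_1939 : allRange D.relOK 5674089 1478 = true := by decide +kernel
theorem c_rel_1940 : allRange D.relOK 5675567 1345 = true := by decide +kernel
theorem c_rel_1941 : allRange D.relOK 5676912 1569 = true := by decide +kernel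
theorem c_rel_1942 : allRange D.relOK 5678481 1497 = true := by decide +kernel
theorem c_rel_1943 : allRange D.relOK 5679978 1643 = true := by decide +kernel
theorem c_rel_1944 : allRange D.relOK 5681621 1593 = true := by decide +kernel
theorem c_rel_1945 : allRange D.relOK 5683214 1438 = true := by decide +kernel
theorem c_rel_1946 : allRange D.relOK 5684652 1536 = true := by decide +kernel
theorem c_rel_1947 : allRange D.relOK 5686188 1603 = true := by decide +kernel
theorem c_rel_1948 : allRange D.relOK 5687791 1358 = true := by decide +kernel
theorem c_rel_1949 : allRange D.relOK 5689149 1558 = true := by decide +kernel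
theorem c_rel_1950 : allRange D.relOK 5690707 1623 = true := by decide +kernel
theorem c_rel_1951 : allRange D.relOK 5692330 1367 = true := by decide +kernel
theorem c_rel_1952 : allRange D.relOK 5693697 1590 = true := by decide +kernel
theorem c_rel_1953 : allRange D.relOK 5695287 1580 = true := by decide +kernel
theorem c_rel_1954 : allRange D.relOK 5696867 1501 = true := by decide +kernel
theorem c_rel_1955 : allRange D.relOK 5698368 1490 = true := by decide +kernel
theorem c_rel_1956 : allRange D.relOK 5699858 1516 = true := by decide +kernel
theorem c_rel_1957 : allRange D.relOK 5701374 1417 = true := by decide +kernel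
theorem c_rel_1958 : allRange D.relOK 5702791 1595 = true := by decide +kernel
theorem c_rel_1959 : allRange D.relOK 5704386 1465 = true := by decide +kernel
theorem c_rel_1960 : allRange D.relOK 5705851 1484 = true := by decide +kernel
theorem c_rel_1961 : allRange D.relOK 5707335 1544 = true := by decide +kernel
theorem c_rel_1962 : allRange D.relOK 5708879 1588 = true := by decide +kernel
theorem c_rel_1963 : allRange D.relOK 5710467 1658 = true := by decide +kernel
theorem c_rel_1964 : allRange D.relOK 5712125 1512 = true := by decide +kernel
theorem c_rel_1965 : allRange D.relOK 5713637 1635 = true := by decide +kernel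
theorem c_rel_1966 : allRange D.relOK 5715272 1562 = true := by decide +kernel
theorem c_rel_1967 : allRange D.relOK 5716834 1434 = true := by decide +kernel
theorem c_rel_1968 : allRange D.relOK 5718268 1547 = true := by decide +kernel
theorem c_rel_1969 : allRange D.relOK 5719815 1508 = true := by decide +kernel
theorem c_rel_1970 : allRange D.relOK 5721323 1579 = true := by decide +kernel
theorem c_rel_1971 : allRange D.relOK 5722902 1592 = true := by decide +kernel
theorem c_rel_1972 : allRange D.relOK 5724494 1413 = true := by decide +kernel
theorem c_rel_1973 : allRange D.relOK 5725907 1539 = true := by decide +kernel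
theorem c_rel_1974 : allRange D.relOK 5727446 1356 = true := by decide +kernel
theorem c_rel_1975 : allRange D.relOK 5728802 1518 = true := by decide +kernel
theorem c_rel_1976 : allRange D.relOK 5730320 1622 = true := by decide +kernel
theorem c_rel_1977 : allRange D.relOK 5731942 1513 = true := by decide +kernel
theorem c_rel_1978 : allRange D.relOK 5733455 1571 = true := by decide +kernel
theorem c_rel_1979 : allRange D.relOK 5735026 1571 = true := by decide +kernel
theorem c_rel_1980 : allRange D.relOK 5736597 1465 = true := by decide +kernel
theorem c_rel_1981 : allRange D.relOK 5738062 1579 = true := by decide +kernel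
theorem c_rel_1982 : allRange D.relOK 5739641 1373 = true := by decide +kernel
theorem c_rel_1983 : allRange D.relOK 5741014 1563 = true := by decide +kernel
theorem c_rel_1984 : allRange D.relOK 5742577 1543 = true := by decide +kernel
theorem c_rel_1985 : allRange D.relOK 5744120 1473 = true := by decide +kernel
theorem c_rel_1986 : allRange D.relOK 5745593 1561 = true := by decide +kernel
theorem c_rel_1987 : allRange D.relOK 5747154 1530 = true := by decide +kernel
theorem c_rel_1988 : allRange D.relOK 5748684 1379 = true := by decide +kernel
theorem c_rel_1989 : allRange D.relOK 5750063 1551 = true := by decide +kernel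
theorem c_rel_1990 : allRange D.relOK 5751614 1460 = true := by decide +kernel
theorem c_rel_1991 : allRange D.relOK 5753074 1451 = true := by decide +kernel
theorem c_rel_1992 : allRange D.relOK 5754525 1593 = true := by decide +kernel
theorem c_rel_1993 : allRange D.relOK 5756118 1468 = true := by decide +kernel
theorem c_rel_1994 : allRange D.relOK 5757586 1584 = true := by decide +kernel
theorem c_rel_1995 : allRange D.relOK 5759170 1510 = true := by decide +kernel
theorem c_rel_1996 : allRange D.relOK 5760680 1438 = true := by decide +kernel
theorem c_rel_1997 : allRange D.relOK 5762118 1473 = true := by decide +kernel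
theorem c_rel_1998 : allRange D.relOK 5763591 1488 = true := by decide +kernel
theorem c_rel_1999 : allRange D.relOK 5765079 1623 = true := by decide +kernel
theorem c_rel_2000 : allRange D.relOK 5766702 1502 = true := by decide +kernel
theorem c_rel_2001 : allRange D.relOK 5768204 1493 = true := by decide +kernel
theorem c_rel_2002 : allRange D.relOK 5769697 1537 = true := by decide +kernel

end Cfsg.Agent.Lib.Helper4.TCD.HNm
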