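import Cfsg.Agent.Lib.Helper4.TCD_HNm_Acc

namespace Cfsg.Agent.Lib.Helper4.TCD.HNm

open Cfsg.Agent.Lib.Helper4.TC

set_option maxRecDepth 100000
set_option Elab.async false

theorem c_rel_2003 : allRange D.relOK 5771234 1500 = true := by decide +kernel
theorem c_rel_2004 : allRange D.relOK 5772734 1489 = true := by decide +kernel
theorem c_rel_2005 : allRange D.relOK 5774223 1521 = true := by decide +kernel
theorem c_rel_2006 : allRange D.relOK 5775744 1608 = true := by decide +kernel
theorem c_rel_2007 : allRange D.relOK 5777352 1472 = true := by decide +kernel
theorem c_rel_2008 : allRange D.relOK 5778824 1588 = true := by decide +kernel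
theorem c_rel_2009 : allRange D.relOK 5780412 1465 = true := by decide +kernel
theorem c_rel_2010 : allRange D.relOK 5781877 1456 = true := by decide +kernel
theorem c_rel_2011 : allRange D.relOK 5783333 1547 = true := by decide +kernel
theorem c_rel_2012 : allRange D.relOK 5784880 1537 = true := by decide +kernel
theorem c_rel_2013 : allRange D.relOK 5786417 1574 = true := by decide +kernel
theorem c_rel_2014 : allRange D.relOK 5787991 1458 = true := by decide +kernel
theorem c_rel_2015 : allRange D.relOK 5789449 1574 = true := by decide +kernel
theorem c_rel_2016 : allRange D.relOK 5791023 1465 = true := by decide +kernel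
theorem c_rel_2017 : allRange D.relOK 5792488 1459 = true := by decide +kernel
theorem c_rel_2018 : allRange D.relOK 5793947 1500 = true := by decide +kernel
theorem c_rel_2019 : allRange D.relOK 5795447 1511 = true := by decide +kernel
theorem c_rel_2020 : allRange D.relOK 5796958 1530 = true := by decide +kernel
theorem c_rel_2021 : allRange D.relOK 5798488 1550 = true := by decide +kernel
theorem c_rel_2022 : allRange D.relOK 5800038 1307 = true := by decide +kernel
theorem c_rel_2023 : allRange D.relOK 5801345 1500 = true := by decide +kernel
theorem c_rel_2024 : allRange D.relOK 5802845 1499 = true := by decide +kernel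
theorem c_rel_2025 : allRange D.relOK 5804344 1445 = true := by decide +kernel
theorem c_rel_2026 : allRange D.relOK 5805789 1613 = true := by decide +kernel
theorem c_rel_2027 : allRange D.relOK 5807402 1392 = true := by decide +kernel
theorem c_rel_2028 : allRange D.relOK 5808794 1343 = true := by decide +kernel
theorem c_rel_2029 : allRange D.relOK 5810137 1457 = true := by decide +kernel
theorem c_rel_2030 : allRange D.relOK 5811594 1555 = true := by decide +kernel
theorem c_rel_2031 : allRange D.relOK 5813149 1535 = true := by decide +kernel
theorem c_rel_2032 : allRange D.relOK 5814684 1565 = true := by decide +kernel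
theorem c_rel_2033 : allRange D.relOK 5816249 1535 = true := by decide +kernel
theorem c_rel_2034 : allRange D.relOK 5817784 1561 = true := by decide +kernel
theorem c_rel_2035 : allRange D.relOK 5819345 1559 = true := by decide +kernel
theorem c_rel_2036 : allRange D.relOK 5820904 1375 = true := by decide +kernel
theorem c_rel_2037 : allRange D.relOK 5822279 1455 = true := by decide +kernel
theorem c_rel_2038 : allRange D.relOK 5823734 1395 = true := by decide +kernel
theorem c_rel_2039 : allRange D.relOK 5825129 1542 = true := by decide +kernel
theorem c_rel_2040 : allRange D.relOK 5826671 1472 = true := by decide +kernel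
theorem c_rel_2041 : allRange D.relOK 5828143 1463 = true := by decide +kernel
theorem c_rel_2042 : allRange D.relOK 5829606 1458 = true := by decide +kernel
theorem c_rel_2043 : allRange D.relOK 5831064 1403 = true := by decide +kernel
theorem c_rel_2044 : allRange D.relOK 5832467 1427 = true := by decide +kernel
theorem c_rel_2045 : allRange D.relOK 5833894 1443 = true := by decide +kernel
theorem c_rel_2046 : allRange D.relOK 5835337 1548 = true := by decide +kernel
theorem c_rel_2047 : allRange D.relOK 5836885 1423 = true := by decide +kernel
theorem c_rel_2048 : allRange D.relOK 5838308 1498 = true := by decide +kernel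
theorem c_rel_2049 : allRange D.relOK 5839806 1513 = true := by decide +kernel
theorem c_rel_2050 : allRange D.relOK 5841319 1399 = true := by decide +kernel
theorem c_rel_2051 : allRange D.relOK 5842718 1450 = true := by decide +kernel
theorem c_rel_2052 : allRange D.relOK 5844168 1539 = true := by decide +kernel
theorem c_rel_2053 : allRange D.relOK 5845707 1459 = true := by decide +kernel
theorem c_rel_2054 : allRange D.relOK 5847166 1569 = true := by decide +kernel
theorem c_rel_2055 : allRange D.relOK 5848735 1505 = true := by decide +kernel
theorem c_rel_2056 : allRange D.relOK 5850240 1463 = true := by decide +kernel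
theorem c_rel_2057 : allRange D.relOK 5851703 1550 = true := by decide +kernel
theorem c_rel_2058 : allRange D.relOK 5853253 1453 = true := by decide +kernel
theorem c_rel_2059 : allRange D.relOK 5854706 1391 = true := by decide +kernel
theorem c_rel_2060 : allRange D.relOK 5856097 1451 = true := by decide +kernel
theorem c_rel_2061 : allRange D.relOK 5857548 1462 = true := by decide +kernel
theorem c_rel_2062 : allRange D.relOK 5859010 1570 = true := by decide +kernel
theorem c_rel_2063 : allRange D.relOK 5860580 1496 = true := by decide +kernel
theorem c_rel_2064 : allRange D.relOK 5862076 1481 = true := by decide +kernel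
theorem c_rel_2065 : allRange D.relOK 5863557 1498 = true := by decide +kernel
theorem c_rel_2066 : allRange D.relOK 5865055 1519 = true := by decide +kernel
theorem c_rel_2067 : allRange D.relOK 5866574 1453 = true := by decide +kernel
theorem c_rel_2068 : allRange D.relOK 5868027 1536 = true := by decide +kernel
theorem c_rel_2069 : allRange D.relOK 5869563 1468 = true := by decide +kernel
theorem c_rel_2070 : allRange D.relOK 5871031 1514 = true := by decide +kernel
theorem c_rel_2071 : allRange D.relOK 5872545 1526 = true := by decide +kernel
theorem c_rel_2072 : allRange D.relOK 5874071 1425 = true := by decide +kernel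
theorem c_rel_2073 : allRange D.relOK 5875496 1504 = true := by decide +kernel
theorem c_rel_2074 : allRange D.relOK 5877000 1383 = true := by decide +kernel
theorem c_rel_2075 : allRange D.relOK 5878383 1435 = true := by decide +kernel
theorem c_rel_2076 : allRange D.relOK 5879818 1440 = true := by decide +kernel
theorem c_rel_2077 : allRange D.relOK 5881258 1535 = true := by decide +kernel
theorem c_rel_2078 : allRange D.relOK 5882793 1495 = true := by decide +kernel
theorem c_rel_2079 : allRange D.relOK 5884288 1490 = true := by decide +kernel
theorem c_rel_2080 : allRange D.relOK 5885778 1515 = true := by decide +kernel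
theorem c_rel_2081 : allRange D.relOK 5887293 1425 = true := by decide +kernel
theorem c_rel_2082 : allRange D.relOK 5888718 1545 = true := by decide +kernel
theorem c_rel_2083 : allRange D.relOK 5890263 1480 = true := by decide +kernel
theorem c_rel_2084 : allRange D.relOK 5891743 1512 = true := by decide +kernel
theorem c_rel_2085 : allRange D.relOK 5893255 1458 = true := by decide +kernel
theorem c_rel_2086 : allRange D.relOK 5894713 1475 = true := by decide +kernel
theorem c_rel_2087 : allRange D.relOK 5896188 1471 = true := by decide +kernel
theorem c_rel_2088 : allRange D.relOK 5897659 1428 = true := by decide +kernel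
theorem c_rel_2089 : allRange D.relOK 5899087 1518 = true := by decide +kernel
theorem c_rel_2090 : allRange D.relOK 5900605 1522 = true := by decide +kernel
theorem c_rel_2091 : allRange D.relOK 5902127 1434 = true := by decide +kernel
theorem c_rel_2092 : allRange D.relOK 5903561 1419 = true := by decide +kernel
theorem c_rel_2093 : allRange D.relOK 5904980 1507 = true := by decide +kernel
theorem c_rel_2094 : allRange D.relOK 5906487 1506 = true := by decide +kernel
theorem c_rel_2095 : allRange D.relOK 5907993 1370 = true := by decide +kernel
theorem c_rel_2096 : allRange D.relOK 5909363 1467 = true := by decide +kernel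
theorem c_rel_2097 : allRange D.relOK 5910830 1496 = true := by decide +kernel
theorem c_rel_2098 : allRange D.relOK 5912326 1519 = true := by decide +kernel
theorem c_rel_2099 : allRange D.relOK 5913845 1320 = true := by decide +kernel
theorem c_rel_2100 : allRange D.relOK 5915165 1441 = true := by decide +kernel
theorem c_rel_2101 : allRange D.relOK 5916606 1444 = true := by decide +kernel

end Cfsg.Agent.Lib.Helper4.TCD.HNm
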