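import Cfsg.Agent.Lib.Helper4.TCD_HNm_Acc

namespace Cfsg.Agent.Lib.Helper4.TCD.HNm

open Cfsg.Agent.Lib.Helper4.TC

set_option maxRecDepth 100000
set_option Elab.async false

theorem c_rel_2102 : allRange D.relOK 5918050 1453 = true := by decide +kernel
theorem c_rel_2103 : allRange D.relOK 5919503 1585 = true := by decide +kernel
theorem c_rel_2104 : allRange D.relOK 5921088 1442 = true := by decide +kernel
theorem c_rel_2105 : allRange D.relOK 5922530 1421 = true := by decide +kernel
theorem c_rel_2106 : allRange D.relOK 5923951 1432 = true := by decide +kernel
theorem c_rel_2107 : allRange D.relOK 5925383 1423 = true := by decide +kernel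
theorem c_rel_2108 : allRange D.relOK 5926806 1407 = true := by decide +kernel
theorem c_rel_2109 : allRange D.relOK 5928213 1378 = true := by decide +kernel
theorem c_rel_2110 : allRange D.relOK 5929591 1392 = true := by decide +kernel
theorem c_rel_2111 : allRange D.relOK 5930983 1500 = true := by decide +kernel
theorem c_rel_2112 : allRange D.relOK 5932483 1532 = true := by decide +kernel
theorem c_rel_2113 : allRange D.relOK 5934015 1447 = true := by decide +kernel
theorem c_rel_2114 : allRange D.relOK 5935462 1461 = true := by decide +kernel
theorem c_rel_2115 : allRange D.relOK 5936923 1458 = true := by decide +kernel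
theorem c_rel_2116 : allRange D.relOK 5938381 1510 = true := by decide +kernel
theorem c_rel_2117 : allRange D.relOK 5939891 1379 = true := by decide +kernel
theorem c_rel_2118 : allRange D.relOK 5941270 1482 = true := by decide +kernel
theorem c_rel_2119 : allRange D.relOK 5942752 1457 = true := by decide +kernel
theorem c_rel_2120 : allRange D.relOK 5944209 1467 = true := by decide +kernel
theorem c_rel_2121 : allRange D.relOK 5945676 1544 = true := by decide +kernel
theorem c_rel_2122 : allRange D.relOK 5947220 1460 = true := by decide +kernel
theorem c_rel_2123 : allRange D.relOK 5948680 1414 = true := by decide +kernel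
theorem c_rel_2124 : allRange D.relOK 5950094 1428 = true := by decide +kernel
theorem c_rel_2125 : allRange D.relOK 5951522 1515 = true := by decide +kernel
theorem c_rel_2126 : allRange D.relOK 5953037 1474 = true := by decide +kernel
theorem c_rel_2127 : allRange D.relOK 5954511 1456 = true := by decide +kernel
theorem c_rel_2128 : allRange D.relOK 5955967 1455 = true := by decide +kernel
theorem c_rel_2129 : allRange D.relOK 5957422 1474 = true := by decide +kernel
theorem c_rel_2130 : allRange D.relOK 5958896 1354 = true := by decide +kernel
theorem c_rel_2131 : allRange D.relOK 5960250 1467 = true := by decide +kernel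
theorem c_rel_2132 : allRange D.relOK 5961717 1440 = true := by decide +kernel
theorem c_rel_2133 : allRange D.relOK 5963157 1443 = true := by decide +kernel
theorem c_rel_2134 : allRange D.relOK 5964600 1511 = true := by decide +kernel
theorem c_rel_2135 : allRange D.relOK 5966111 1470 = true := by decide +kernel
theorem c_rel_2136 : allRange D.relOK 5967581 1445 = true := by decide +kernel
theorem c_rel_2137 : allRange D.relOK 5969026 1425 = true := by decide +kernel
theorem c_rel_2138 : allRange D.relOK 5970451 1346 = true := by decide +kernel
theorem c_rel_2139 : allRange D.relOK 5971797 1516 = true := by decide +kernel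
theorem c_rel_2140 : allRange D.relOK 5973313 1530 = true := by decide +kernel
theorem c_rel_2141 : allRange D.relOK 5974843 1425 = true := by decide +kernel
theorem c_rel_2142 : allRange D.relOK 5976268 1437 = true := by decide +kernel
theorem c_rel_2143 : allRange D.relOK 5977705 1459 = true := by decide +kernel
theorem c_rel_2144 : allRange D.relOK 5979164 1458 = true := by decide +kernel
theorem c_rel_2145 : allRange D.relOK 5980622 1363 = true := by decide +kernel
theorem c_rel_2146 : allRange D.relOK 5981985 1460 = true := by decide +kernel
theorem c_rel_2147 : allRange D.relOK 5983445 1473 = true := by decide +kernel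
theorem c_rel_2148 : allRange D.relOK 5984918 1502 = true := by decide +kernel
theorem c_rel_2149 : allRange D.relOK 5986420 1314 = true := by decide +kernel
theorem c_rel_2150 : allRange D.relOK 5987734 1396 = true := by decide +kernel
theorem c_rel_2151 : allRange D.relOK 5989130 1444 = true := by decide +kernel
theorem c_rel_2152 : allRange D.relOK 5990574 1384 = true := by decide +kernel
theorem c_rel_2153 : allRange D.relOK 5991958 1444 = true := by decide +kernel
theorem c_rel_2154 : allRange D.relOK 5993402 1383 = true := by decide +kernel
theorem c_rel_2155 : allRange D.relOK 5994785 1402 = true := by decide +kernel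
theorem c_rel_2156 : allRange D.relOK 5996187 1371 = true := by decide +kernel
theorem c_rel_2157 : allRange D.relOK 5997558 1266 = true := by decide +kernel
theorem c_rel_2158 : allRange D.relOK 5998824 1406 = true := by decide +kernel
theorem c_rel_2159 : allRange D.relOK 6000230 1306 = true := by decide +kernel
theorem c_rel_2160 : allRange D.relOK 6001536 1382 = true := by decide +kernel
theorem c_rel_2161 : allRange D.relOK 6002918 1429 = true := by decide +kernel
theorem c_rel_2162 : allRange D.relOK 6004347 1488 = true := by decide +kernel
theorem c_rel_2163 : allRange D.relOK 6005835 1396 = true := by decide +kernel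
theorem c_rel_2164 : allRange D.relOK 6007231 1470 = true := by decide +kernel
theorem c_rel_2165 : allRange D.relOK 6008701 1475 = true := by decide +kernel
theorem c_rel_2166 : allRange D.relOK 6010176 1440 = true := by decide +kernel
theorem c_rel_2167 : allRange D.relOK 6011616 1400 = true := by decide +kernel
theorem c_rel_2168 : allRange D.relOK 6013016 1414 = true := by decide +kernel
theorem c_rel_2169 : allRange D.relOK 6014430 1447 = true := by decide +kernel
theorem c_rel_2170 : allRange D.relOK 6015877 1427 = true := by decide +kernel
theorem c_rel_2171 : allRange D.relOK 6017304 1419 = true := by decide +kernel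
theorem c_rel_2172 : allRange D.relOK 6018723 1418 = true := by decide +kernel
theorem c_rel_2173 : allRange D.relOK 6020141 1462 = true := by decide +kernel
theorem c_rel_2174 : allRange D.relOK 6021603 1460 = true := by decide +kernel
theorem c_rel_2175 : allRange D.relOK 6023063 1456 = true := by decide +kernel
theorem c_rel_2176 : allRange D.relOK 6024519 1382 = true := by decide +kernel
theorem c_rel_2177 : allRange D.relOK 6025901 1444 = true := by decide +kernel
theorem c_rel_2178 : allRange D.relOK 6027345 1449 = true := by decide +kernel
theorem c_rel_2179 : allRange D.relOK 6028794 1488 = true := by decide +kernel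
theorem c_rel_2180 : allRange D.relOK 6030282 1442 = true := by decide +kernel
theorem c_rel_2181 : allRange D.relOK 6031724 1392 = true := by decide +kernel
theorem c_rel_2182 : allRange D.relOK 6033116 1334 = true := by decide +kernel
theorem c_rel_2183 : allRange D.relOK 6034450 1464 = true := by decide +kernel
theorem c_rel_2184 : allRange D.relOK 6035914 1420 = true := by decide +kernel
theorem c_rel_2185 : allRange D.relOK 6037334 1398 = true := by decide +kernel
theorem c_rel_2186 : allRange D.relOK 6038732 1390 = true := by decide +kernel
theorem c_rel_2187 : allRange D.relOK 6040122 1446 = true := by decide +kernel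
theorem c_rel_2188 : allRange D.relOK 6041568 1428 = true := by decide +kernel
theorem c_rel_2189 : allRange D.relOK 6042996 1463 = true := by decide +kernel
theorem c_rel_2190 : allRange D.relOK 6044459 1369 = true := by decide +kernel
theorem c_rel_2191 : allRange D.relOK 6045828 1408 = true := by decide +kernel
theorem c_rel_2192 : allRange D.relOK 6047236 1437 = true := by decide +kernel
theorem c_rel_2193 : allRange D.relOK 6048673 1371 = true := by decide +kernel
theorem c_rel_2194 : allRange D.relOK 6050044 1431 = true := by decide +kernel
theorem c_rel_2195 : allRange D.relOK 6051475 1366 = true := by decide +kernel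
theorem c_rel_2196 : allRange D.relOK 6052841 1374 = true := by decide +kernel
theorem c_rel_2197 : allRange D.relOK 6054215 1426 = true := by decide +kernel
theorem c_rel_2198 : allRange D.relOK 6055641 1433 = true := by decide +kernel
theorem c_rel_2199 : allRange D.relOK 6057074 1442 = true := by decide +kernel
theorem c_rel_2200 : allRange D.relOK 6058516 1415 = true := by decide +kernel

end Cfsg.Agent.Lib.Helper4.TCD.HNm
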