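import Cfsg.Agent.Lib.Helper4.TCD_HNm_Acc

namespace Cfsg.Agent.Lib.Helper4.TCD.HNm

open Cfsg.Agent.Lib.Helper4.TC

set_option maxRecDepth 100000
set_option Elab.async false

theorem c_rel_2201 : allRange D.relOK 6059931 1488 = true := by decide +kernel
theorem c_rel_2202 : allRange D.relOK 6061419 1403 = true := by decide +kernel
theorem c_rel_2203 : allRange D.relOK 6062822 1417 = true := by decide +kernel
theorem c_rel_2204 : allRange D.relOK 6064239 1425 = true := by decide +kernel
theorem c_rel_2205 : allRange D.relOK 6065664 1420 = true := by decide +kernel
theorem c_rel_2206 : allRange D.relOK 6067084 1397 = true := by decide +kernel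
theorem c_rel_2207 : allRange D.relOK 6068481 1437 = true := by decide +kernel
theorem c_rel_2208 : allRange D.relOK 6069918 1402 = true := by decide +kernel
theorem c_rel_2209 : allRange D.relOK 6071320 1495 = true := by decide +kernel
theorem c_rel_2210 : allRange D.relOK 6072815 1380 = true := by decide +kernel
theorem c_rel_2211 : allRange D.relOK 6074195 1449 = true := by decide +kernel
theorem c_rel_2212 : allRange D.relOK 6075644 1377 = true := by decide +kernel
theorem c_rel_2213 : allRange D.relOK 6077021 1389 = true := by decide +kernel
theorem c_rel_2214 : allRange D.relOK 6078410 1370 = true := by decide +kernel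
theorem c_rel_2215 : allRange D.relOK 6079780 1491 = true := by decide +kernel
theorem c_rel_2216 : allRange D.relOK 6081271 1418 = true := by decide +kernel
theorem c_rel_2217 : allRange D.relOK 6082689 1427 = true := by decide +kernel
theorem c_rel_2218 : allRange D.relOK 6084116 1373 = true := by decide +kernel
theorem c_rel_2219 : allRange D.relOK 6085489 1486 = true := by decide +kernel
theorem c_rel_2220 : allRange D.relOK 6086975 1365 = true := by decide +kernel
theorem c_rel_2221 : allRange D.relOK 6088340 1388 = true := by decide +kernel
theorem c_rel_2222 : allRange D.relOK 6089728 1414 = true := by decide +kernel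
theorem c_rel_2223 : allRange D.relOK 6091142 1427 = true := by decide +kernel
theorem c_rel_2224 : allRange D.relOK 6092569 1441 = true := by decide +kernel
theorem c_rel_2225 : allRange D.relOK 6094010 1371 = true := by decide +kernel
theorem c_rel_2226 : allRange D.relOK 6095381 1473 = true := by decide +kernel
theorem c_rel_2227 : allRange D.relOK 6096854 1458 = true := by decide +kernel
theorem c_rel_2228 : allRange D.relOK 6098312 1391 = true := by decide +kernel
theorem c_rel_2229 : allRange D.relOK 6099703 1225 = true := by decide +kernel
theorem c_rel_2230 : allRange D.relOK 6100928 1354 = true := by decide +kernel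
theorem c_rel_2231 : allRange D.relOK 6102282 1440 = true := by decide +kernel
theorem c_rel_2232 : allRange D.relOK 6103722 1409 = true := by decide +kernel
theorem c_rel_2233 : allRange D.relOK 6105131 1373 = true := by decide +kernel
theorem c_rel_2234 : allRange D.relOK 6106504 1434 = true := by decide +kernel
theorem c_rel_2235 : allRange D.relOK 6107938 1392 = true := by decide +kernel
theorem c_rel_2236 : allRange D.relOK 6109330 1406 = true := by decide +kernel
theorem c_rel_2237 : allRange D.relOK 6110736 1406 = true := by decide +kernel
theorem c_rel_2238 : allRange D.relOK 6112142 1373 = true := by decide +kernel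
theorem c_rel_2239 : allRange D.relOK 6113515 1464 = true := by decide +kernel
theorem c_rel_2240 : allRange D.relOK 6114979 1417 = true := by decide +kernel
theorem c_rel_2241 : allRange D.relOK 6116396 1383 = true := by decide +kernel
theorem c_rel_2242 : allRange D.relOK 6117779 1423 = true := by decide +kernel
theorem c_rel_2243 : allRange D.relOK 6119202 1393 = true := by decide +kernel
theorem c_rel_2244 : allRange D.relOK 6120595 1446 = true := by decide +kernel
theorem c_rel_2245 : allRange D.relOK 6122041 1357 = true := by decide +kernel
theorem c_rel_2246 : allRange D.relOK 6123398 1436 = true := by decide +kernel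
theorem c_rel_2247 : allRange D.relOK 6124834 1466 = true := by decide +kernel
theorem c_rel_2248 : allRange D.relOK 6126300 1376 = true := by decide +kernel
theorem c_rel_2249 : allRange D.relOK 6127676 1341 = true := by decide +kernel
theorem c_rel_2250 : allRange D.relOK 6129017 1394 = true := by decide +kernel
theorem c_rel_2251 : allRange D.relOK 6130411 1379 = true := by decide +kernel
theorem c_rel_2252 : allRange D.relOK 6131790 1448 = true := by decide +kernel
theorem c_rel_2253 : allRange D.relOK 6133238 1418 = true := by decide +kernel
theorem c_rel_2254 : allRange D.relOK 6134656 1435 = true := by decide +kernel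
theorem c_rel_2255 : allRange D.relOK 6136091 1392 = true := by decide +kernel
theorem c_rel_2256 : allRange D.relOK 6137483 1306 = true := by decide +kernel
theorem c_rel_2257 : allRange D.relOK 6138789 1374 = true := by decide +kernel
theorem c_rel_2258 : allRange D.relOK 6140163 1409 = true := by decide +kernel
theorem c_rel_2259 : allRange D.relOK 6141572 1384 = true := by decide +kernel
theorem c_rel_2260 : allRange D.relOK 6142956 1426 = true := by decide +kernel
theorem c_rel_2261 : allRange D.relOK 6144382 1355 = true := by decide +kernel
theorem c_rel_2262 : allRange D.relOK 6145737 1415 = true := by decide +kernel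
theorem c_rel_2263 : allRange D.relOK 6147152 1454 = true := by decide +kernel
theorem c_rel_2264 : allRange D.relOK 6148606 1392 = true := by decide +kernel
theorem c_rel_2265 : allRange D.relOK 6149998 1412 = true := by decide +kernel
theorem c_rel_2266 : allRange D.relOK 6151410 1472 = true := by decide +kernel
theorem c_rel_2267 : allRange D.relOK 6152882 1389 = true := by decide +kernel
theorem c_rel_2268 : allRange D.relOK 6154271 1450 = true := by decide +kernel
theorem c_rel_2269 : allRange D.relOK 6155721 1415 = true := by decide +kernel
theorem c_rel_2270 : allRange D.relOK 6157136 1462 = true := by decide +kernel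
theorem c_rel_2271 : allRange D.relOK 6158598 1403 = true := by decide +kernel
theorem c_rel_2272 : allRange D.relOK 6160001 1299 = true := by decide +kernel
theorem c_rel_2273 : allRange D.relOK 6161300 1403 = true := by decide +kernel
theorem c_rel_2274 : allRange D.relOK 6162703 1377 = true := by decide +kernel
theorem c_rel_2275 : allRange D.relOK 6164080 1384 = true := by decide +kernel
theorem c_rel_2276 : allRange D.relOK 6165464 1339 = true := by decide +kernel
theorem c_rel_2277 : allRange D.relOK 6166803 1379 = true := by decide +kernel
theorem c_rel_2278 : allRange D.relOK 6168182 1353 = true := by decide +kernel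
theorem c_rel_2279 : allRange D.relOK 6169535 1338 = true := by decide +kernel
theorem c_rel_2280 : allRange D.relOK 6170873 1405 = true := by decide +kernel
theorem c_rel_2281 : allRange D.relOK 6172278 1377 = true := by decide +kernel
theorem c_rel_2282 : allRange D.relOK 6173655 1342 = true := by decide +kernel
theorem c_rel_2283 : allRange D.relOK 6174997 1368 = true := by decide +kernel
theorem c_rel_2284 : allRange D.relOK 6176365 1355 = true := by decide +kernel
theorem c_rel_2285 : allRange D.relOK 6177720 1404 = true := by decide +kernel
theorem c_rel_2286 : allRange D.relOK 6179124 1395 = true := by decide +kernel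
theorem c_rel_2287 : allRange D.relOK 6180519 1323 = true := by decide +kernel
theorem c_rel_2288 : allRange D.relOK 6181842 1418 = true := by decide +kernel
theorem c_rel_2289 : allRange D.relOK 6183260 1398 = true := by decide +kernel
theorem c_rel_2290 : allRange D.relOK 6184658 1344 = true := by decide +kernel
theorem c_rel_2291 : allRange D.relOK 6186002 1354 = true := by decide +kernel
theorem c_rel_2292 : allRange D.relOK 6187356 1346 = true := by decide +kernel
theorem c_rel_2293 : allRange D.relOK 6188702 1354 = true := by decide +kernel
theorem c_rel_2294 : allRange D.relOK 6190056 1349 = true := by decide +kernel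
theorem c_rel_2295 : allRange D.relOK 6191405 1374 = true := by decide +kernel
theorem c_rel_2296 : allRange D.relOK 6192779 1347 = true := by decide +kernel
theorem c_rel_2297 : allRange D.relOK 6194126 1383 = true := by decide +kernel
theorem c_rel_2298 : allRange D.relOK 6195509 1307 = true := by decide +kernel
theorem c_rel_2299 : allRange D.relOK 6196816 1379 = true := by decide +kernel

end Cfsg.Agent.Lib.Helper4.TCD.HNm
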