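import Cfsg.Agent.Lib.Helper4.TCD_HNm_Acc

namespace Cfsg.Agent.Lib.Helper4.TCD.HNm

open Cfsg.Agent.Lib.Helper4.TC

set_option maxRecDepth 100000
set_option Elab.async false

theorem c_rel_2300 : allRange D.relOK 6198195 1341 = true := by decide +kernel
theorem c_rel_2301 : allRange D.relOK 6199536 1349 = true := by decide +kernel
theorem c_rel_2302 : allRange D.relOK 6200885 1384 = true := by decide +kernel
theorem c_rel_2303 : allRange D.relOK 6202269 1306 = true := by decide +kernel
theorem c_rel_2304 : allRange D.relOK 6203575 1401 = true := by decide +kernel
theorem c_rel_2305 : allRange D.relOK 6204976 1368 = true := by decide +kernel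
theorem c_rel_2306 : allRange D.relOK 6206344 1367 = true := by decide +kernel
theorem c_rel_2307 : allRange D.relOK 6207711 1359 = true := by decide +kernel
theorem c_rel_2308 : allRange D.relOK 6209070 1401 = true := by decide +kernel
theorem c_rel_2309 : allRange D.relOK 6210471 1330 = true := by decide +kernel
theorem c_rel_2310 : allRange D.relOK 6211801 1334 = true := by decide +kernel
theorem c_rel_2311 : allRange D.relOK 6213135 1405 = true := by decide +kernel
theorem c_rel_2312 : allRange D.relOK 6214540 1402 = true := by decide +kernel
theorem c_rel_2313 : allRange D.relOK 6215942 1362 = true := by decide +kernel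
theorem c_rel_2314 : allRange D.relOK 6217304 1330 = true := by decide +kernel
theorem c_rel_2315 : allRange D.relOK 6218634 1350 = true := by decide +kernel
theorem c_rel_2316 : allRange D.relOK 6219984 1355 = true := by decide +kernel
theorem c_rel_2317 : allRange D.relOK 6221339 1338 = true := by decide +kernel
theorem c_rel_2318 : allRange D.relOK 6222677 1330 = true := by decide +kernel
theorem c_rel_2319 : allRange D.relOK 6224007 1405 = true := by decide +kernel
theorem c_rel_2320 : allRange D.relOK 6225412 1350 = true := by decide +kernel
theorem c_rel_2321 : allRange D.relOK 6226762 1353 = true := by decide +kernel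
theorem c_rel_2322 : allRange D.relOK 6228115 1389 = true := by decide +kernel
theorem c_rel_2323 : allRange D.relOK 6229504 1355 = true := by decide +kernel
theorem c_rel_2324 : allRange D.relOK 6230859 1388 = true := by decide +kernel
theorem c_rel_2325 : allRange D.relOK 6232247 1414 = true := by decide +kernel
theorem c_rel_2326 : allRange D.relOK 6233661 1357 = true := by decide +kernel
theorem c_rel_2327 : allRange D.relOK 6235018 1379 = true := by decide +kernel
theorem c_rel_2328 : allRange D.relOK 6236397 1276 = true := by decide +kernel
theorem c_rel_2329 : allRange D.relOK 6237673 1324 = true := by decide +kernel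
theorem c_rel_2330 : allRange D.relOK 6238997 1293 = true := by decide +kernel
theorem c_rel_2331 : allRange D.relOK 6240290 1365 = true := by decide +kernel
theorem c_rel_2332 : allRange D.relOK 6241655 1335 = true := by decide +kernel
theorem c_rel_2333 : allRange D.relOK 6242990 1341 = true := by decide +kernel
theorem c_rel_2334 : allRange D.relOK 6244331 1310 = true := by decide +kernel
theorem c_rel_2335 : allRange D.relOK 6245641 1284 = true := by decide +kernel
theorem c_rel_2336 : allRange D.relOK 6246925 1342 = true := by decide +kernel
theorem c_rel_2337 : allRange D.relOK 6248267 1387 = true := by decide +kernel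
theorem c_rel_2338 : allRange D.relOK 6249654 1273 = true := by decide +kernel
theorem c_rel_2339 : allRange D.relOK 6250927 1249 = true := by decide +kernel
theorem c_rel_2340 : allRange D.relOK 6252176 1420 = true := by decide +kernel
theorem c_rel_2341 : allRange D.relOK 6253596 1334 = true := by decide +kernel
theorem c_rel_2342 : allRange D.relOK 6254930 1388 = true := by decide +kernel
theorem c_rel_2343 : allRange D.relOK 6256318 1266 = true := by decide +kernel
theorem c_rel_2344 : allRange D.relOK 6257584 1377 = true := by decide +kernel
theorem c_rel_2345 : allRange D.relOK 6258961 1326 = true := by decide +kernel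
theorem c_rel_2346 : allRange D.relOK 6260287 1383 = true := by decide +kernel
theorem c_rel_2347 : allRange D.relOK 6261670 1310 = true := by decide +kernel
theorem c_rel_2348 : allRange D.relOK 6262980 1394 = true := by decide +kernel
theorem c_rel_2349 : allRange D.relOK 6264374 1318 = true := by decide +kernel
theorem c_rel_2350 : allRange D.relOK 6265692 1373 = true := by decide +kernel
theorem c_rel_2351 : allRange D.relOK 6267065 1290 = true := by decide +kernel
theorem c_rel_2352 : allRange D.relOK 6268355 1423 = true := by decide +kernel
theorem c_rel_2353 : allRange D.relOK 6269778 1369 = true := by decide +kernel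
theorem c_rel_2354 : allRange D.relOK 6271147 1297 = true := by decide +kernel
theorem c_rel_2355 : allRange D.relOK 6272444 1327 = true := by decide +kernel
theorem c_rel_2356 : allRange D.relOK 6273771 1361 = true := by decide +kernel
theorem c_rel_2357 : allRange D.relOK 6275132 1359 = true := by decide +kernel
theorem c_rel_2358 : allRange D.relOK 6276491 1279 = true := by decide +kernel
theorem c_rel_2359 : allRange D.relOK 6277770 1406 = true := by decide +kernel
theorem c_rel_2360 : allRange D.relOK 6279176 1316 = true := by decide +kernel
theorem c_rel_2361 : allRange D.relOK 6280492 1288 = true := by decide +kernel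
theorem c_rel_2362 : allRange D.relOK 6281780 1363 = true := by decide +kernel
theorem c_rel_2363 : allRange D.relOK 6283143 1353 = true := by decide +kernel
theorem c_rel_2364 : allRange D.relOK 6284496 1390 = true := by decide +kernel
theorem c_rel_2365 : allRange D.relOK 6285886 1325 = true := by decide +kernel
theorem c_rel_2366 : allRange D.relOK 6287211 1274 = true := by decide +kernel
theorem c_rel_2367 : allRange D.relOK 6288485 1369 = true := by decide +kernel
theorem c_rel_2368 : allRange D.relOK 6289854 1258 = true := by decide +kernel
theorem c_rel_2369 : allRange D.relOK 6291112 1449 = true := by decide +kernel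
theorem c_rel_2370 : allRange D.relOK 6292561 1260 = true := by decide +kernel
theorem c_rel_2371 : allRange D.relOK 6293821 1373 = true := by decide +kernel
theorem c_rel_2372 : allRange D.relOK 6295194 1363 = true := by decide +kernel
theorem c_rel_2373 : allRange D.relOK 6296557 1334 = true := by decide +kernel
theorem c_rel_2374 : allRange D.relOK 6297891 1453 = true := by decide +kernel
theorem c_rel_2375 : allRange D.relOK 6299344 1411 = true := by decide +kernel
theorem c_rel_2376 : allRange D.relOK 6300755 1204 = true := by decide +kernel
theorem c_rel_2377 : allRange D.relOK 6301959 1345 = true := by decide +kernel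
theorem c_rel_2378 : allRange D.relOK 6303304 1304 = true := by decide +kernel
theorem c_rel_2379 : allRange D.relOK 6304608 1302 = true := by decide +kernel
theorem c_rel_2380 : allRange D.relOK 6305910 1251 = true := by decide +kernel
theorem c_rel_2381 : allRange D.relOK 6307161 1288 = true := by decide +kernel
theorem c_rel_2382 : allRange D.relOK 6308449 1323 = true := by decide +kernel
theorem c_rel_2383 : allRange D.relOK 6309772 1473 = true := by decide +kernel
theorem c_rel_2384 : allRange D.relOK 6311245 1385 = true := by decide +kernel
theorem c_rel_2385 : allRange D.relOK 6312630 1318 = true := by decide +kernel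
theorem c_rel_2386 : allRange D.relOK 6313948 1321 = true := by decide +kernel
theorem c_rel_2387 : allRange D.relOK 6315269 1239 = true := by decide +kernel
theorem c_rel_2388 : allRange D.relOK 6316508 1280 = true := by decide +kernel
theorem c_rel_2389 : allRange D.relOK 6317788 1358 = true := by decide +kernel
theorem c_rel_2390 : allRange D.relOK 6319146 1386 = true := by decide +kernel
theorem c_rel_2391 : allRange D.relOK 6320532 1408 = true := by decide +kernel
theorem c_rel_2392 : allRange D.relOK 6321940 1290 = true := by decide +kernel
theorem c_rel_2393 : allRange D.relOK 6323230 1303 = true := by decide +kernel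
theorem c_rel_2394 : allRange D.relOK 6324533 1349 = true := by decide +kernel
theorem c_rel_2395 : allRange D.relOK 6325882 1302 = true := by decide +kernel
theorem c_rel_2396 : allRange D.relOK 6327184 1487 = true := by decide +kernel
theorem c_rel_2397 : allRange D.relOK 6328671 1309 = true := by decide +kernel
theorem c_rel_2398 : allRange D.relOK 6329980 1294 = true := by decide +kernel

end Cfsg.Agent.Lib.Helper4.TCD.HNm
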