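import Cfsg.Agent.Lib.Helper4.TCD_HNm_Acc

namespace Cfsg.Agent.Lib.Helper4.TCD.HNm

open Cfsg.Agent.Lib.Helper4.TC

set_option maxRecDepth 100000
set_option Elab.async false

theorem c_rel_2399 : allRange D.relOK 6331274 1292 = true := by decide +kernel
theorem c_rel_2400 : allRange D.relOK 6332566 1290 = true := by decide +kernel
theorem c_rel_2401 : allRange D.relOK 6333856 1289 = true := by decide +kernel
theorem c_rel_2402 : allRange D.relOK 6335145 1305 = true := by decide +kernel
theorem c_rel_2403 : allRange D.relOK 6336450 1406 = true := by decide +kernel
theorem c_rel_2404 : allRange D.relOK 6337856 1267 = true := by decide +kernel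
theorem c_rel_2405 : allRange D.relOK 6339123 1438 = true := by decide +kernel
theorem c_rel_2406 : allRange D.relOK 6340561 1441 = true := by decide +kernel
theorem c_rel_2407 : allRange D.relOK 6342002 1507 = true := by decide +kernel
theorem c_rel_2408 : allRange D.relOK 6343509 1590 = true := by decide +kernel
theorem c_rel_2409 : allRange D.relOK 6345099 1508 = true := by decide +kernel
theorem c_rel_2410 : allRange D.relOK 6346607 1478 = true := by decide +kernel
theorem c_rel_2411 : allRange D.relOK 6348085 1567 = true := by decide +kernel
theorem c_rel_2412 : allRange D.relOK 6349652 1414 = true := by decide +kernel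
theorem c_rel_2413 : allRange D.relOK 6351066 1428 = true := by decide +kernel
theorem c_rel_2414 : allRange D.relOK 6352494 1427 = true := by decide +kernel
theorem c_rel_2415 : allRange D.relOK 6353921 1332 = true := by decide +kernel
theorem c_rel_2416 : allRange D.relOK 6355253 1432 = true := by decide +kernel
theorem c_rel_2417 : allRange D.relOK 6356685 1374 = true := by decide +kernel
theorem c_rel_2418 : allRange D.relOK 6358059 1408 = true := by decide +kernel
theorem c_rel_2419 : allRange D.relOK 6359467 1418 = true := by decide +kernel
theorem c_rel_2420 : allRange D.relOK 6360885 1243 = true := by decide +kernel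
theorem c_rel_2421 : allRange D.relOK 6362128 1161 = true := by decide +kernel
theorem c_rel_2422 : allRange D.relOK 6363289 1185 = true := by decide +kernel
theorem c_rel_2423 : allRange D.relOK 6364474 1284 = true := by decide +kernel
theorem c_rel_2424 : allRange D.relOK 6365758 1308 = true := by decide +kernel
theorem c_rel_2425 : allRange D.relOK 6367066 1327 = true := by decide +kernel
theorem c_rel_2426 : allRange D.relOK 6368393 1215 = true := by decide +kernel
theorem c_rel_2427 : allRange D.relOK 6369608 1203 = true := by decide +kernel
theorem c_rel_2428 : allRange D.relOK 6370811 1174 = true := by decide +kernel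
theorem c_rel_2429 : allRange D.relOK 6371985 1214 = true := by decide +kernel
theorem c_rel_2430 : allRange D.relOK 6373199 1311 = true := by decide +kernel
theorem c_rel_2431 : allRange D.relOK 6374510 1380 = true := by decide +kernel
theorem c_rel_2432 : allRange D.relOK 6375890 1173 = true := by decide +kernel
theorem c_rel_2433 : allRange D.relOK 6377063 1230 = true := by decide +kernel
theorem c_rel_2434 : allRange D.relOK 6378293 1277 = true := by decide +kernel
theorem c_rel_2435 : allRange D.relOK 6379570 1272 = true := by decide +kernel
theorem c_rel_2436 : allRange D.relOK 6380842 1222 = true := by decide +kernel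
theorem c_rel_2437 : allRange D.relOK 6382064 2064 = true := by decide +kernel
theorem c_rel_2438 : allRange D.relOK 6384128 4718 = true := by decide +kernel
theorem c_rel_2439 : allRange D.relOK 6388846 4714 = true := by decide +kernel
theorem c_rel_2440 : allRange D.relOK 6393560 4779 = true := by decide +kernel
theorem c_rel_2441 : allRange D.relOK 6398339 4768 = true := by decide +kernel
theorem c_rel_2442 : allRange D.relOK 6403107 4735 = true := by decide +kernel
theorem c_rel_2443 : allRange D.relOK 6407842 4808 = true := by decide +kernel
theorem c_rel_2444 : allRange D.relOK 6412650 4762 = true := by decide +kernel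
theorem c_rel_2445 : allRange D.relOK 6417412 4787 = true := by decide +kernel
theorem c_rel_2446 : allRange D.relOK 6422199 4812 = true := by decide +kernel
theorem c_rel_2447 : allRange D.relOK 6427011 4827 = true := by decide +kernel
theorem c_rel_2448 : allRange D.relOK 6431838 4856 = true := by decide +kernel
theorem c_rel_2449 : allRange D.relOK 6436694 4835 = true := by decide +kernel
theorem c_rel_2450 : allRange D.relOK 6441529 4830 = true := by decide +kernel
theorem c_rel_2451 : allRange D.relOK 6446359 4865 = true := by decide +kernel
theorem c_rel_2452 : allRange D.relOK 6451224 4852 = true := by decide +kernel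
theorem c_rel_2453 : allRange D.relOK 6456076 4888 = true := by decide +kernel
theorem c_rel_2454 : allRange D.relOK 6460964 4899 = true := by decide +kernel
theorem c_rel_2455 : allRange D.relOK 6465863 4902 = true := by decide +kernel
theorem c_rel_2456 : allRange D.relOK 6470765 4883 = true := by decide +kernel
theorem c_rel_2457 : allRange D.relOK 6475648 4910 = true := by decide +kernel
theorem c_rel_2458 : allRange D.relOK 6480558 4935 = true := by decide +kernel
theorem c_rel_2459 : allRange D.relOK 6485493 4943 = true := by decide +kernel
theorem c_rel_2460 : allRange D.relOK 6490436 4933 = true := by decide +kernel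
theorem c_rel_2461 : allRange D.relOK 6495369 4970 = true := by decide +kernel
theorem c_rel_2462 : allRange D.relOK 6500339 4991 = true := by decide +kernel
theorem c_rel_2463 : allRange D.relOK 6505330 561 = true := by decide +kernel
theorem c_fin_0 : allGrid (T.finOK D) 0 1500 8 = true := by decide +kernel
theorem c_fin_1 : allGrid (T.finOK D) 1500 1500 8 = true := by decide +kernel
theorem c_fin_2 : allGrid (T.finOK D) 3000 1500 8 = true := by decide +kernel
theorem c_fin_3 : allGrid (T.finOK D) 4500 1500 8 = true := by decide +kernel
theorem c_fin_4 : allGrid (T.finOK D) 6000 1500 8 = true := by decide +kernel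
theorem c_fin_5 : allGrid (T.finOK D) 7500 1500 8 = true := by decide +kernel
theorem c_fin_6 : allGrid (T.finOK D) 9000 1500 8 = true := by decide +kernel
theorem c_fin_7 : allGrid (T.finOK D) 10500 1500 8 = true := by decide +kernel
theorem c_fin_8 : allGrid (T.finOK D) 12000 1500 8 = true := by decide +kernel
theorem c_fin_9 : allGrid (T.finOK D) 13500 1500 8 = true := by decide +kernel
theorem c_fin_10 : allGrid (T.finOK D) 15000 1500 8 = true := by decide +kernel
theorem c_fin_11 : allGrid (T.finOK D) 16500 1500 8 = true := by decide +kernel
theorem c_fin_12 : allGrid (T.finOK D) 18000 1500 8 = true := by decide +kernel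
theorem c_fin_13 : allGrid (T.finOK D) 19500 1500 8 = true := by decide +kernel
theorem c_fin_14 : allGrid (T.finOK D) 21000 1500 8 = true := by decide +kernel
theorem c_fin_15 : allGrid (T.finOK D) 22500 1500 8 = true := by decide +kernel
theorem c_fin_16 : allGrid (T.finOK D) 24000 1500 8 = true := by decide +kernel

end Cfsg.Agent.Lib.Helper4.TCD.HNm
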