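import Cfsg.Agent.Lib.Helper4.TCD_HNm_Acc

namespace Cfsg.Agent.Lib.Helper4.TCD.HNm

open Cfsg.Agent.Lib.Helper4.TC

set_option maxRecDepth 100000
set_option Elab.async false

theorem c_rep_13 : allRange (T.repOK D) 390000 30000 = true := by decide +kernel
theorem c_rep_14 : allRange (T.repOK D) 420000 30000 = true := by decide +kernel
theorem c_rep_15 : allRange (T.repOK D) 450000 30000 = true := by decide +kernel
theorem c_rep_16 : allRange (T.repOK D) 480000 30000 = true := by decide +kernel
theorem c_rep_17 : allRange (T.repOK D) 510000 30000 = true := by decide +kernel
theorem c_rep_18 : allRange (T.repOK D) 540000 30000 = true := by decide +kernel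
theorem c_rep_19 : allRange (T.repOK D) 570000 30000 = true := by decide +kernel
theorem c_rep_20 : allRange (T.repOK D) 600000 30000 = true := by decide +kernel
theorem c_rep_21 : allRange (T.repOK D) 630000 30000 = true := by decide +kernel
theorem c_rep_22 : allRange (T.repOK D) 660000 30000 = true := by decide +kernel
theorem c_rep_23 : allRange (T.repOK D) 690000 30000 = true := by decide +kernel
theorem c_rep_24 : allRange (T.repOK D) 720000 30000 = true := by decide +kernel
theorem c_rep_25 : allRange (T.repOK D) 750000 30000 = true := by decide +kernel
theorem c_rep_26 : allRange (T.repOK D) 780000 30000 = true := by decide +kernel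
theorem c_rep_27 : allRange (T.repOK D) 810000 30000 = true := by decide +kernel
theorem c_rep_28 : allRange (T.repOK D) 840000 30000 = true := by decide +kernel
theorem c_rep_29 : allRange (T.repOK D) 870000 30000 = true := by decide +kernel
theorem c_rep_30 : allRange (T.repOK D) 900000 30000 = true := by decide +kernel
theorem c_rep_31 : allRange (T.repOK D) 930000 30000 = true := by decide +kernel
theorem c_rep_32 : allRange (T.repOK D) 960000 30000 = true := by decide +kernel
theorem c_rep_33 : allRange (T.repOK D) 990000 30000 = true := by decide +kernel
theorem c_rep_34 : allRange (T.repOK D) 1020000 30000 = true := by decide +kernel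
theorem c_rep_35 : allRange (T.repOK D) 1050000 30000 = true := by decide +kernel
theorem c_rep_36 : allRange (T.repOK D) 1080000 30000 = true := by decide +kernel
theorem c_rep_37 : allRange (T.repOK D) 1110000 30000 = true := by decide +kernel
theorem c_rep_38 : allRange (T.repOK D) 1140000 30000 = true := by decide +kernel
theorem c_rep_39 : allRange (T.repOK D) 1170000 30000 = true := by decide +kernel
theorem c_rep_40 : allRange (T.repOK D) 1200000 30000 = true := by decide +kernel
theorem c_rep_41 : allRange (T.repOK D) 1230000 30000 = true := by decide +kernel
theorem c_rep_42 : allRange (T.repOK D) 1260000 30000 = true := by decide +kernel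
theorem c_rep_43 : allRange (T.repOK D) 1290000 30000 = true := by decide +kernel
theorem c_rep_44 : allRange (T.repOK D) 1320000 30000 = true := by decide +kernel
theorem c_rep_45 : allRange (T.repOK D) 1350000 30000 = true := by decide +kernel
theorem c_rep_46 : allRange (T.repOK D) 1380000 30000 = true := by decide +kernel
theorem c_rep_47 : allRange (T.repOK D) 1410000 30000 = true := by decide +kernel
theorem c_rep_48 : allRange (T.repOK D) 1440000 30000 = true := by decide +kernel
theorem c_rep_49 : allRange (T.repOK D) 1470000 30000 = true := by decide +kernel
theorem c_rep_50 : allRange (T.repOK D) 1500000 30000 = true := by decide +kernel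
theorem c_rep_51 : allRange (T.repOK D) 1530000 9000 = true := by decide +kernel
theorem c_rel_0 : allRange D.relOK 1622374 3273 = true := by decide +kernel
theorem c_rel_1 : allRange D.relOK 1625647 3198 = true := by decide +kernel
theorem c_rel_2 : allRange D.relOK 1628845 3316 = true := by decide +kernel
theorem c_rel_3 : allRange D.relOK 1632161 3338 = true := by decide +kernel
theorem c_rel_4 : allRange D.relOK 1635499 3320 = true := by decide +kernel
theorem c_rel_5 : allRange D.relOK 1638819 3128 = true := by decide +kernel
theorem c_rel_6 : allRange D.relOK 1641947 3290 = true := by decide +kernel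
theorem c_rel_7 : allRange D.relOK 1645237 3258 = true := by decide +kernel
theorem c_rel_8 : allRange D.relOK 1648495 3305 = true := by decide +kernel
theorem c_rel_9 : allRange D.relOK 1651800 3292 = true := by decide +kernel
theorem c_rel_10 : allRange D.relOK 1655092 3314 = true := by decide +kernel
theorem c_rel_11 : allRange D.relOK 1658406 3271 = true := by decide +kernel
theorem c_rel_12 : allRange D.relOK 1661677 3263 = true := by decide +kernel
theorem c_rel_13 : allRange D.relOK 1664940 3290 = true := by decide +kernel
theorem c_rel_14 : allRange D.relOK 1668230 3198 = true := by decide +kernel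
theorem c_rel_15 : allRange D.relOK 1671428 3265 = true := by decide +kernel
theorem c_rel_16 : allRange D.relOK 1674693 3177 = true := by decide +kernel
theorem c_rel_17 : allRange D.relOK 1677870 3245 = true := by decide +kernel
theorem c_rel_18 : allRange D.relOK 1681115 3220 = true := by decide +kernel
theorem c_rel_19 : allRange D.relOK 1684335 3213 = true := by decide +kernel
theorem c_rel_20 : allRange D.relOK 1687548 3320 = true := by decide +kernel
theorem c_rel_21 : allRange D.relOK 1690868 3304 = true := by decide +kernel
theorem c_rel_22 : allRange D.relOK 1694172 3154 = true := by decide +kernel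

end Cfsg.Agent.Lib.Helper4.TCD.HNm
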