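import Cfsg.Agent.Lib.Helper4.TCD_HNm_Acc

namespace Cfsg.Agent.Lib.Helper4.TCD.HNm

open Cfsg.Agent.Lib.Helper4.TC

set_option maxRecDepth 100000
set_option Elab.async false

theorem c_fin_67 : allGrid (T.finOK D) 100500 1500 8 = true := by decide +kernel
theorem c_fin_68 : allGrid (T.finOK D) 102000 1500 8 = true := by decide +kernel
theorem c_fin_69 : allGrid (T.finOK D) 103500 1500 8 = true := by decide +kernel
theorem c_fin_70 : allGrid (T.finOK D) 105000 1500 8 = true := by decide +kernel
theorem c_fin_71 : allGrid (T.finOK D) 106500 1500 8 = true := by decide +kernel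
theorem c_fin_72 : allGrid (T.finOK D) 108000 1500 8 = true := by decide +kernel
theorem c_fin_73 : allGrid (T.finOK D) 109500 1500 8 = true := by decide +kernel
theorem c_fin_74 : allGrid (T.finOK D) 111000 1500 8 = true := by decide +kernel
theorem c_fin_75 : allGrid (T.finOK D) 112500 1500 8 = true := by decide +kernel
theorem c_fin_76 : allGrid (T.finOK D) 114000 1500 8 = true := by decide +kernel
theorem c_fin_77 : allGrid (T.finOK D) 115500 1500 8 = true := by decide +kernel
theorem c_fin_78 : allGrid (T.finOK D) 117000 1500 8 = true := by decide +kernel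
theorem c_fin_79 : allGrid (T.finOK D) 118500 1500 8 = true := by decide +kernel
theorem c_fin_80 : allGrid (T.finOK D) 120000 1500 8 = true := by decide +kernel
theorem c_fin_81 : allGrid (T.finOK D) 121500 1500 8 = true := by decide +kernel
theorem c_fin_82 : allGrid (T.finOK D) 123000 1500 8 = true := by decide +kernel
theorem c_fin_83 : allGrid (T.finOK D) 124500 1500 8 = true := by decide +kernel
theorem c_fin_84 : allGrid (T.finOK D) 126000 1500 8 = true := by decide +kernel
theorem c_fin_85 : allGrid (T.finOK D) 127500 1500 8 = true := by decide +kernel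
theorem c_fin_86 : allGrid (T.finOK D) 129000 1500 8 = true := by decide +kernel
theorem c_fin_87 : allGrid (T.finOK D) 130500 1500 8 = true := by decide +kernel
theorem c_fin_88 : allGrid (T.finOK D) 132000 1500 8 = true := by decide +kernel
theorem c_fin_89 : allGrid (T.finOK D) 133500 1500 8 = true := by decide +kernel
theorem c_fin_90 : allGrid (T.finOK D) 135000 1500 8 = true := by decide +kernel
theorem c_fin_91 : allGrid (T.finOK D) 136500 1500 8 = true := by decide +kernel
theorem c_fin_92 : allGrid (T.finOK D) 138000 1500 8 = true := by decide +kernel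
theorem c_fin_93 : allGrid (T.finOK D) 139500 1500 8 = true := by decide +kernel
theorem c_fin_94 : allGrid (T.finOK D) 141000 1500 8 = true := by decide +kernel
theorem c_fin_95 : allGrid (T.finOK D) 142500 1500 8 = true := by decide +kernel
theorem c_fin_96 : allGrid (T.finOK D) 144000 1500 8 = true := by decide +kernel
theorem c_fin_97 : allGrid (T.finOK D) 145500 1500 8 = true := by decide +kernel
theorem c_fin_98 : allGrid (T.finOK D) 147000 1500 8 = true := by decide +kernel
theorem c_fin_99 : allGrid (T.finOK D) 148500 1500 8 = true := by decide +kernel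
theorem c_fin_100 : allGrid (T.finOK D) 150000 1500 8 = true := by decide +kernel
theorem c_fin_101 : allGrid (T.finOK D) 151500 1500 8 = true := by decide +kernel
theorem c_fin_102 : allGrid (T.finOK D) 153000 1500 8 = true := by decide +kernel
theorem c_fin_103 : allGrid (T.finOK D) 154500 1500 8 = true := by decide +kernel
theorem c_fin_104 : allGrid (T.finOK D) 156000 1500 8 = true := by decide +kernel
theorem c_fin_105 : allGrid (T.finOK D) 157500 1500 8 = true := by decide +kernel
theorem c_fin_106 : allGrid (T.finOK D) 159000 1500 8 = true := by decide +kernel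
theorem c_fin_107 : allGrid (T.finOK D) 160500 1500 8 = true := by decide +kernel
theorem c_fin_108 : allGrid (T.finOK D) 162000 1500 8 = true := by decide +kernel
theorem c_fin_109 : allGrid (T.finOK D) 163500 1500 8 = true := by decide +kernel
theorem c_fin_110 : allGrid (T.finOK D) 165000 1500 8 = true := by decide +kernel
theorem c_fin_111 : allGrid (T.finOK D) 166500 1500 8 = true := by decide +kernel
theorem c_fin_112 : allGrid (T.finOK D) 168000 1500 8 = true := by decide +kernel
theorem c_fin_113 : allGrid (T.finOK D) 169500 1500 8 = true := by decide +kernel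
theorem c_fin_114 : allGrid (T.finOK D) 171000 1500 8 = true := by decide +kernel
theorem c_fin_115 : allGrid (T.finOK D) 172500 1500 8 = true := by decide +kernel
theorem c_fin_116 : allGrid (T.finOK D) 174000 1500 8 = true := by decide +kernel

end Cfsg.Agent.Lib.Helper4.TCD.HNm
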