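import Cfsg.Agent.Lib.Helper4.TCD_HNm_Acc

namespace Cfsg.Agent.Lib.Helper4.TCD.HNm

open Cfsg.Agent.Lib.Helper4.TC

set_option maxRecDepth 100000
set_option Elab.async false

theorem c_fin_117 : allGrid (T.finOK D) 175500 1500 8 = true := by decide +kernel
theorem c_fin_118 : allGrid (T.finOK D) 177000 1500 8 = true := by decide +kernel
theorem c_fin_119 : allGrid (T.finOK D) 178500 1500 8 = true := by decide +kernel
theorem c_fin_120 : allGrid (T.finOK D) 180000 1500 8 = true := by decide +kernel
theorem c_fin_121 : allGrid (T.finOK D) 181500 1500 8 = true := by decide +kernel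
theorem c_fin_122 : allGrid (T.finOK D) 183000 1500 8 = true := by decide +kernel
theorem c_fin_123 : allGrid (T.finOK D) 184500 1500 8 = true := by decide +kernel
theorem c_fin_124 : allGrid (T.finOK D) 186000 1500 8 = true := by decide +kernel
theorem c_fin_125 : allGrid (T.finOK D) 187500 1500 8 = true := by decide +kernel
theorem c_fin_126 : allGrid (T.finOK D) 189000 1500 8 = true := by decide +kernel
theorem c_fin_127 : allGrid (T.finOK D) 190500 1500 8 = true := by decide +kernel
theorem c_fin_128 : allGrid (T.finOK D) 192000 1500 8 = true := by decide +kernel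
theorem c_fin_129 : allGrid (T.finOK D) 193500 1500 8 = true := by decide +kernel
theorem c_fin_130 : allGrid (T.finOK D) 195000 1500 8 = true := by decide +kernel
theorem c_fin_131 : allGrid (T.finOK D) 196500 1500 8 = true := by decide +kernel
theorem c_fin_132 : allGrid (T.finOK D) 198000 1500 8 = true := by decide +kernel
theorem c_fin_133 : allGrid (T.finOK D) 199500 1500 8 = true := by decide +kernel
theorem c_fin_134 : allGrid (T.finOK D) 201000 1500 8 = true := by decide +kernel
theorem c_fin_135 : allGrid (T.finOK D) 202500 1500 8 = true := by decide +kernel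
theorem c_fin_136 : allGrid (T.finOK D) 204000 1500 8 = true := by decide +kernel
theorem c_fin_137 : allGrid (T.finOK D) 205500 1500 8 = true := by decide +kernel
theorem c_fin_138 : allGrid (T.finOK D) 207000 1500 8 = true := by decide +kernel
theorem c_fin_139 : allGrid (T.finOK D) 208500 1500 8 = true := by decide +kernel
theorem c_fin_140 : allGrid (T.finOK D) 210000 1500 8 = true := by decide +kernel
theorem c_fin_141 : allGrid (T.finOK D) 211500 1500 8 = true := by decide +kernel
theorem c_fin_142 : allGrid (T.finOK D) 213000 1500 8 = true := by decide +kernel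
theorem c_fin_143 : allGrid (T.finOK D) 214500 1500 8 = true := by decide +kernel
theorem c_fin_144 : allGrid (T.finOK D) 216000 1500 8 = true := by decide +kernel
theorem c_fin_145 : allGrid (T.finOK D) 217500 1500 8 = true := by decide +kernel
theorem c_fin_146 : allGrid (T.finOK D) 219000 1500 8 = true := by decide +kernel
theorem c_fin_147 : allGrid (T.finOK D) 220500 1500 8 = true := by decide +kernel
theorem c_fin_148 : allGrid (T.finOK D) 222000 1500 8 = true := by decide +kernel
theorem c_fin_149 : allGrid (T.finOK D) 223500 1500 8 = true := by decide +kernel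
theorem c_fin_150 : allGrid (T.finOK D) 225000 1500 8 = true := by decide +kernel
theorem c_fin_151 : allGrid (T.finOK D) 226500 1500 8 = true := by decide +kernel
theorem c_fin_152 : allGrid (T.finOK D) 228000 1500 8 = true := by decide +kernel
theorem c_fin_153 : allGrid (T.finOK D) 229500 1500 8 = true := by decide +kernel
theorem c_fin_154 : allGrid (T.finOK D) 231000 1500 8 = true := by decide +kernel
theorem c_fin_155 : allGrid (T.finOK D) 232500 1500 8 = true := by decide +kernel
theorem c_fin_156 : allGrid (T.finOK D) 234000 1500 8 = true := by decide +kernel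
theorem c_fin_157 : allGrid (T.finOK D) 235500 1500 8 = true := by decide +kernel
theorem c_fin_158 : allGrid (T.finOK D) 237000 1500 8 = true := by decide +kernel
theorem c_fin_159 : allGrid (T.finOK D) 238500 1500 8 = true := by decide +kernel
theorem c_fin_160 : allGrid (T.finOK D) 240000 1500 8 = true := by decide +kernel
theorem c_fin_161 : allGrid (T.finOK D) 241500 1500 8 = true := by decide +kernel
theorem c_fin_162 : allGrid (T.finOK D) 243000 1500 8 = true := by decide +kernel
theorem c_fin_163 : allGrid (T.finOK D) 244500 1500 8 = true := by decide +kernel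
theorem c_fin_164 : allGrid (T.finOK D) 246000 1500 8 = true := by decide +kernel
theorem c_fin_165 : allGrid (T.finOK D) 247500 1500 8 = true := by decide +kernel
theorem c_fin_166 : allGrid (T.finOK D) 249000 1500 8 = true := by decide +kernel

end Cfsg.Agent.Lib.Helper4.TCD.HNm
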