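import Cfsg.Agent.Lib.Helper4.TCD_HNm_Acc

namespace Cfsg.Agent.Lib.Helper4.TCD.HNm

open Cfsg.Agent.Lib.Helper4.TC

set_option maxRecDepth 100000
set_option Elab.async false

theorem c_fin_167 : allGrid (T.finOK D) 250500 1500 8 = true := by decide +kernel
theorem c_fin_168 : allGrid (T.finOK D) 252000 1500 8 = true := by decide +kernel
theorem c_fin_169 : allGrid (T.finOK D) 253500 1500 8 = true := by decide +kernel
theorem c_fin_170 : allGrid (T.finOK D) 255000 1500 8 = true := by decide +kernel
theorem c_fin_171 : allGrid (T.finOK D) 256500 1500 8 = true := by decide +kernel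
theorem c_fin_172 : allGrid (T.finOK D) 258000 1500 8 = true := by decide +kernel
theorem c_fin_173 : allGrid (T.finOK D) 259500 1500 8 = true := by decide +kernel
theorem c_fin_174 : allGrid (T.finOK D) 261000 1500 8 = true := by decide +kernel
theorem c_fin_175 : allGrid (T.finOK D) 262500 1500 8 = true := by decide +kernel
theorem c_fin_176 : allGrid (T.finOK D) 264000 1500 8 = true := by decide +kernel
theorem c_fin_177 : allGrid (T.finOK D) 265500 1500 8 = true := by decide +kernel
theorem c_fin_178 : allGrid (T.finOK D) 267000 1500 8 = true := by decide +kernel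
theorem c_fin_179 : allGrid (T.finOK D) 268500 1500 8 = true := by decide +kernel
theorem c_fin_180 : allGrid (T.finOK D) 270000 1500 8 = true := by decide +kernel
theorem c_fin_181 : allGrid (T.finOK D) 271500 1500 8 = true := by decide +kernel
theorem c_fin_182 : allGrid (T.finOK D) 273000 1500 8 = true := by decide +kernel
theorem c_fin_183 : allGrid (T.finOK D) 274500 1500 8 = true := by decide +kernel
theorem c_fin_184 : allGrid (T.finOK D) 276000 1500 8 = true := by decide +kernel
theorem c_fin_185 : allGrid (T.finOK D) 277500 1500 8 = true := by decide +kernel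
theorem c_fin_186 : allGrid (T.finOK D) 279000 1500 8 = true := by decide +kernel
theorem c_fin_187 : allGrid (T.finOK D) 280500 1500 8 = true := by decide +kernel
theorem c_fin_188 : allGrid (T.finOK D) 282000 1500 8 = true := by decide +kernel
theorem c_fin_189 : allGrid (T.finOK D) 283500 1500 8 = true := by decide +kernel
theorem c_fin_190 : allGrid (T.finOK D) 285000 1500 8 = true := by decide +kernel
theorem c_fin_191 : allGrid (T.finOK D) 286500 1500 8 = true := by decide +kernel
theorem c_fin_192 : allGrid (T.finOK D) 288000 1500 8 = true := by decide +kernel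
theorem c_fin_193 : allGrid (T.finOK D) 289500 1500 8 = true := by decide +kernel
theorem c_fin_194 : allGrid (T.finOK D) 291000 1500 8 = true := by decide +kernel
theorem c_fin_195 : allGrid (T.finOK D) 292500 1500 8 = true := by decide +kernel
theorem c_fin_196 : allGrid (T.finOK D) 294000 1500 8 = true := by decide +kernel
theorem c_fin_197 : allGrid (T.finOK D) 295500 1500 8 = true := by decide +kernel
theorem c_fin_198 : allGrid (T.finOK D) 297000 1500 8 = true := by decide +kernel
theorem c_fin_199 : allGrid (T.finOK D) 298500 1500 8 = true := by decide +kernel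
theorem c_fin_200 : allGrid (T.finOK D) 300000 1500 8 = true := by decide +kernel
theorem c_fin_201 : allGrid (T.finOK D) 301500 1500 8 = true := by decide +kernel
theorem c_fin_202 : allGrid (T.finOK D) 303000 1500 8 = true := by decide +kernel
theorem c_fin_203 : allGrid (T.finOK D) 304500 1500 8 = true := by decide +kernel
theorem c_fin_204 : allGrid (T.finOK D) 306000 1500 8 = true := by decide +kernel
theorem c_fin_205 : allGrid (T.finOK D) 307500 1500 8 = true := by decide +kernel
theorem c_fin_206 : allGrid (T.finOK D) 309000 1500 8 = true := by decide +kernel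
theorem c_fin_207 : allGrid (T.finOK D) 310500 1500 8 = true := by decide +kernel
theorem c_fin_208 : allGrid (T.finOK D) 312000 1500 8 = true := by decide +kernel
theorem c_fin_209 : allGrid (T.finOK D) 313500 1500 8 = true := by decide +kernel
theorem c_fin_210 : allGrid (T.finOK D) 315000 1500 8 = true := by decide +kernel
theorem c_fin_211 : allGrid (T.finOK D) 316500 1500 8 = true := by decide +kernel
theorem c_fin_212 : allGrid (T.finOK D) 318000 1500 8 = true := by decide +kernel
theorem c_fin_213 : allGrid (T.finOK D) 319500 1500 8 = true := by decide +kernel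
theorem c_fin_214 : allGrid (T.finOK D) 321000 1500 8 = true := by decide +kernel
theorem c_fin_215 : allGrid (T.finOK D) 322500 1500 8 = true := by decide +kernel
theorem c_fin_216 : allGrid (T.finOK D) 324000 1500 8 = true := by decide +kernel

end Cfsg.Agent.Lib.Helper4.TCD.HNm
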