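import Cfsg.Agent.Lib.Helper4.TCD_HNm_Acc

namespace Cfsg.Agent.Lib.Helper4.TCD.HNm

open Cfsg.Agent.Lib.Helper4.TC

set_option maxRecDepth 100000
set_option Elab.async false

theorem c_fin_217 : allGrid (T.finOK D) 325500 1500 8 = true := by decide +kernel
theorem c_fin_218 : allGrid (T.finOK D) 327000 1500 8 = true := by decide +kernel
theorem c_fin_219 : allGrid (T.finOK D) 328500 1500 8 = true := by decide +kernel
theorem c_fin_220 : allGrid (T.finOK D) 330000 1500 8 = true := by decide +kernel
theorem c_fin_221 : allGrid (T.finOK D) 331500 1500 8 = true := by decide +kernel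
theorem c_fin_222 : allGrid (T.finOK D) 333000 1500 8 = true := by decide +kernel
theorem c_fin_223 : allGrid (T.finOK D) 334500 1500 8 = true := by decide +kernel
theorem c_fin_224 : allGrid (T.finOK D) 336000 1500 8 = true := by decide +kernel
theorem c_fin_225 : allGrid (T.finOK D) 337500 1500 8 = true := by decide +kernel
theorem c_fin_226 : allGrid (T.finOK D) 339000 1500 8 = true := by decide +kernel
theorem c_fin_227 : allGrid (T.finOK D) 340500 1500 8 = true := by decide +kernel
theorem c_fin_228 : allGrid (T.finOK D) 342000 1500 8 = true := by decide +kernel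
theorem c_fin_229 : allGrid (T.finOK D) 343500 1500 8 = true := by decide +kernel
theorem c_fin_230 : allGrid (T.finOK D) 345000 1500 8 = true := by decide +kernel
theorem c_fin_231 : allGrid (T.finOK D) 346500 1500 8 = true := by decide +kernel
theorem c_fin_232 : allGrid (T.finOK D) 348000 1500 8 = true := by decide +kernel
theorem c_fin_233 : allGrid (T.finOK D) 349500 1500 8 = true := by decide +kernel
theorem c_fin_234 : allGrid (T.finOK D) 351000 1500 8 = true := by decide +kernel
theorem c_fin_235 : allGrid (T.finOK D) 352500 1500 8 = true := by decide +kernel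
theorem c_fin_236 : allGrid (T.finOK D) 354000 1500 8 = true := by decide +kernel
theorem c_fin_237 : allGrid (T.finOK D) 355500 1500 8 = true := by decide +kernel
theorem c_fin_238 : allGrid (T.finOK D) 357000 1500 8 = true := by decide +kernel
theorem c_fin_239 : allGrid (T.finOK D) 358500 1500 8 = true := by decide +kernel
theorem c_fin_240 : allGrid (T.finOK D) 360000 1500 8 = true := by decide +kernel
theorem c_fin_241 : allGrid (T.finOK D) 361500 1500 8 = true := by decide +kernel
theorem c_fin_242 : allGrid (T.finOK D) 363000 1500 8 = true := by decide +kernel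
theorem c_fin_243 : allGrid (T.finOK D) 364500 1500 8 = true := by decide +kernel
theorem c_fin_244 : allGrid (T.finOK D) 366000 1500 8 = true := by decide +kernel
theorem c_fin_245 : allGrid (T.finOK D) 367500 1500 8 = true := by decide +kernel
theorem c_fin_246 : allGrid (T.finOK D) 369000 1500 8 = true := by decide +kernel
theorem c_fin_247 : allGrid (T.finOK D) 370500 1500 8 = true := by decide +kernel
theorem c_fin_248 : allGrid (T.finOK D) 372000 1500 8 = true := by decide +kernel
theorem c_fin_249 : allGrid (T.finOK D) 373500 1500 8 = true := by decide +kernel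
theorem c_fin_250 : allGrid (T.finOK D) 375000 1500 8 = true := by decide +kernel
theorem c_fin_251 : allGrid (T.finOK D) 376500 1500 8 = true := by decide +kernel
theorem c_fin_252 : allGrid (T.finOK D) 378000 1500 8 = true := by decide +kernel
theorem c_fin_253 : allGrid (T.finOK D) 379500 1500 8 = true := by decide +kernel
theorem c_fin_254 : allGrid (T.finOK D) 381000 1500 8 = true := by decide +kernel
theorem c_fin_255 : allGrid (T.finOK D) 382500 1500 8 = true := by decide +kernel
theorem c_fin_256 : allGrid (T.finOK D) 384000 1500 8 = true := by decide +kernel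
theorem c_fin_257 : allGrid (T.finOK D) 385500 1500 8 = true := by decide +kernel
theorem c_fin_258 : allGrid (T.finOK D) 387000 1500 8 = true := by decide +kernel
theorem c_fin_259 : allGrid (T.finOK D) 388500 1500 8 = true := by decide +kernel
theorem c_fin_260 : allGrid (T.finOK D) 390000 1500 8 = true := by decide +kernel
theorem c_fin_261 : allGrid (T.finOK D) 391500 1500 8 = true := by decide +kernel
theorem c_fin_262 : allGrid (T.finOK D) 393000 1500 8 = true := by decide +kernel
theorem c_fin_263 : allGrid (T.finOK D) 394500 1500 8 = true := by decide +kernel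
theorem c_fin_264 : allGrid (T.finOK D) 396000 1500 8 = true := by decide +kernel
theorem c_fin_265 : allGrid (T.finOK D) 397500 1500 8 = true := by decide +kernel
theorem c_fin_266 : allGrid (T.finOK D) 399000 1500 8 = true := by decide +kernel

end Cfsg.Agent.Lib.Helper4.TCD.HNm
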