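import Cfsg.Agent.Lib.Helper4.TCD_HNm_Acc

namespace Cfsg.Agent.Lib.Helper4.TCD.HNm

open Cfsg.Agent.Lib.Helper4.TC

set_option maxRecDepth 100000
set_option Elab.async false

theorem c_fin_267 : allGrid (T.finOK D) 400500 1500 8 = true := by decide +kernel
theorem c_fin_268 : allGrid (T.finOK D) 402000 1500 8 = true := by decide +kernel
theorem c_fin_269 : allGrid (T.finOK D) 403500 1500 8 = true := by decide +kernel
theorem c_fin_270 : allGrid (T.finOK D) 405000 1500 8 = true := by decide +kernel
theorem c_fin_271 : allGrid (T.finOK D) 406500 1500 8 = true := by decide +kernel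
theorem c_fin_272 : allGrid (T.finOK D) 408000 1500 8 = true := by decide +kernel
theorem c_fin_273 : allGrid (T.finOK D) 409500 1500 8 = true := by decide +kernel
theorem c_fin_274 : allGrid (T.finOK D) 411000 1500 8 = true := by decide +kernel
theorem c_fin_275 : allGrid (T.finOK D) 412500 1500 8 = true := by decide +kernel
theorem c_fin_276 : allGrid (T.finOK D) 414000 1500 8 = true := by decide +kernel
theorem c_fin_277 : allGrid (T.finOK D) 415500 1500 8 = true := by decide +kernel
theorem c_fin_278 : allGrid (T.finOK D) 417000 1500 8 = true := by decide +kernel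
theorem c_fin_279 : allGrid (T.finOK D) 418500 1500 8 = true := by decide +kernel
theorem c_fin_280 : allGrid (T.finOK D) 420000 1500 8 = true := by decide +kernel
theorem c_fin_281 : allGrid (T.finOK D) 421500 1500 8 = true := by decide +kernel
theorem c_fin_282 : allGrid (T.finOK D) 423000 1500 8 = true := by decide +kernel
theorem c_fin_283 : allGrid (T.finOK D) 424500 1500 8 = true := by decide +kernel
theorem c_fin_284 : allGrid (T.finOK D) 426000 1500 8 = true := by decide +kernel
theorem c_fin_285 : allGrid (T.finOK D) 427500 1500 8 = true := by decide +kernel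
theorem c_fin_286 : allGrid (T.finOK D) 429000 1500 8 = true := by decide +kernel
theorem c_fin_287 : allGrid (T.finOK D) 430500 1500 8 = true := by decide +kernel
theorem c_fin_288 : allGrid (T.finOK D) 432000 1500 8 = true := by decide +kernel
theorem c_fin_289 : allGrid (T.finOK D) 433500 1500 8 = true := by decide +kernel
theorem c_fin_290 : allGrid (T.finOK D) 435000 1500 8 = true := by decide +kernel
theorem c_fin_291 : allGrid (T.finOK D) 436500 1500 8 = true := by decide +kernel
theorem c_fin_292 : allGrid (T.finOK D) 438000 1500 8 = true := by decide +kernel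
theorem c_fin_293 : allGrid (T.finOK D) 439500 1500 8 = true := by decide +kernel
theorem c_fin_294 : allGrid (T.finOK D) 441000 1500 8 = true := by decide +kernel
theorem c_fin_295 : allGrid (T.finOK D) 442500 1500 8 = true := by decide +kernel
theorem c_fin_296 : allGrid (T.finOK D) 444000 1500 8 = true := by decide +kernel
theorem c_fin_297 : allGrid (T.finOK D) 445500 1500 8 = true := by decide +kernel
theorem c_fin_298 : allGrid (T.finOK D) 447000 1500 8 = true := by decide +kernel
theorem c_fin_299 : allGrid (T.finOK D) 448500 1500 8 = true := by decide +kernel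
theorem c_fin_300 : allGrid (T.finOK D) 450000 1500 8 = true := by decide +kernel
theorem c_fin_301 : allGrid (T.finOK D) 451500 1500 8 = true := by decide +kernel
theorem c_fin_302 : allGrid (T.finOK D) 453000 1500 8 = true := by decide +kernel
theorem c_fin_303 : allGrid (T.finOK D) 454500 1500 8 = true := by decide +kernel
theorem c_fin_304 : allGrid (T.finOK D) 456000 1500 8 = true := by decide +kernel
theorem c_fin_305 : allGrid (T.finOK D) 457500 1500 8 = true := by decide +kernel
theorem c_fin_306 : allGrid (T.finOK D) 459000 1500 8 = true := by decide +kernel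
theorem c_fin_307 : allGrid (T.finOK D) 460500 1500 8 = true := by decide +kernel
theorem c_fin_308 : allGrid (T.finOK D) 462000 1500 8 = true := by decide +kernel
theorem c_fin_309 : allGrid (T.finOK D) 463500 1500 8 = true := by decide +kernel
theorem c_fin_310 : allGrid (T.finOK D) 465000 1500 8 = true := by decide +kernel
theorem c_fin_311 : allGrid (T.finOK D) 466500 1500 8 = true := by decide +kernel
theorem c_fin_312 : allGrid (T.finOK D) 468000 1500 8 = true := by decide +kernel
theorem c_fin_313 : allGrid (T.finOK D) 469500 1500 8 = true := by decide +kernel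
theorem c_fin_314 : allGrid (T.finOK D) 471000 1500 8 = true := by decide +kernel
theorem c_fin_315 : allGrid (T.finOK D) 472500 1500 8 = true := by decide +kernel
theorem c_fin_316 : allGrid (T.finOK D) 474000 1500 8 = true := by decide +kernel

end Cfsg.Agent.Lib.Helper4.TCD.HNm
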