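import Cfsg.Agent.Lib.Helper4.TCD_HNm_Acc

namespace Cfsg.Agent.Lib.Helper4.TCD.HNm

open Cfsg.Agent.Lib.Helper4.TC

set_option maxRecDepth 100000
set_option Elab.async false

theorem c_fin_317 : allGrid (T.finOK D) 475500 1500 8 = true := by decide +kernel
theorem c_fin_318 : allGrid (T.finOK D) 477000 1500 8 = true := by decide +kernel
theorem c_fin_319 : allGrid (T.finOK D) 478500 1500 8 = true := by decide +kernel
theorem c_fin_320 : allGrid (T.finOK D) 480000 1500 8 = true := by decide +kernel
theorem c_fin_321 : allGrid (T.finOK D) 481500 1500 8 = true := by decide +kernel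
theorem c_fin_322 : allGrid (T.finOK D) 483000 1500 8 = true := by decide +kernel
theorem c_fin_323 : allGrid (T.finOK D) 484500 1500 8 = true := by decide +kernel
theorem c_fin_324 : allGrid (T.finOK D) 486000 1500 8 = true := by decide +kernel
theorem c_fin_325 : allGrid (T.finOK D) 487500 1500 8 = true := by decide +kernel
theorem c_fin_326 : allGrid (T.finOK D) 489000 1500 8 = true := by decide +kernel
theorem c_fin_327 : allGrid (T.finOK D) 490500 1500 8 = true := by decide +kernel
theorem c_fin_328 : allGrid (T.finOK D) 492000 1500 8 = true := by decide +kernel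
theorem c_fin_329 : allGrid (T.finOK D) 493500 1500 8 = true := by decide +kernel
theorem c_fin_330 : allGrid (T.finOK D) 495000 1500 8 = true := by decide +kernel
theorem c_fin_331 : allGrid (T.finOK D) 496500 1500 8 = true := by decide +kernel
theorem c_fin_332 : allGrid (T.finOK D) 498000 1500 8 = true := by decide +kernel
theorem c_fin_333 : allGrid (T.finOK D) 499500 1500 8 = true := by decide +kernel
theorem c_fin_334 : allGrid (T.finOK D) 501000 1500 8 = true := by decide +kernel
theorem c_fin_335 : allGrid (T.finOK D) 502500 1500 8 = true := by decide +kernel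
theorem c_fin_336 : allGrid (T.finOK D) 504000 1500 8 = true := by decide +kernel
theorem c_fin_337 : allGrid (T.finOK D) 505500 1500 8 = true := by decide +kernel
theorem c_fin_338 : allGrid (T.finOK D) 507000 1500 8 = true := by decide +kernel
theorem c_fin_339 : allGrid (T.finOK D) 508500 1500 8 = true := by decide +kernel
theorem c_fin_340 : allGrid (T.finOK D) 510000 1500 8 = true := by decide +kernel
theorem c_fin_341 : allGrid (T.finOK D) 511500 1500 8 = true := by decide +kernel
theorem c_fin_342 : allGrid (T.finOK D) 513000 1500 8 = true := by decide +kernel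
theorem c_fin_343 : allGrid (T.finOK D) 514500 1500 8 = true := by decide +kernel
theorem c_fin_344 : allGrid (T.finOK D) 516000 1500 8 = true := by decide +kernel
theorem c_fin_345 : allGrid (T.finOK D) 517500 1500 8 = true := by decide +kernel
theorem c_fin_346 : allGrid (T.finOK D) 519000 1500 8 = true := by decide +kernel
theorem c_fin_347 : allGrid (T.finOK D) 520500 1500 8 = true := by decide +kernel
theorem c_fin_348 : allGrid (T.finOK D) 522000 1500 8 = true := by decide +kernel
theorem c_fin_349 : allGrid (T.finOK D) 523500 1500 8 = true := by decide +kernel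
theorem c_fin_350 : allGrid (T.finOK D) 525000 1500 8 = true := by decide +kernel
theorem c_fin_351 : allGrid (T.finOK D) 526500 1500 8 = true := by decide +kernel
theorem c_fin_352 : allGrid (T.finOK D) 528000 1500 8 = true := by decide +kernel
theorem c_fin_353 : allGrid (T.finOK D) 529500 1500 8 = true := by decide +kernel
theorem c_fin_354 : allGrid (T.finOK D) 531000 1500 8 = true := by decide +kernel
theorem c_fin_355 : allGrid (T.finOK D) 532500 1500 8 = true := by decide +kernel
theorem c_fin_356 : allGrid (T.finOK D) 534000 1500 8 = true := by decide +kernel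
theorem c_fin_357 : allGrid (T.finOK D) 535500 1500 8 = true := by decide +kernel
theorem c_fin_358 : allGrid (T.finOK D) 537000 1500 8 = true := by decide +kernel
theorem c_fin_359 : allGrid (T.finOK D) 538500 1500 8 = true := by decide +kernel
theorem c_fin_360 : allGrid (T.finOK D) 540000 1500 8 = true := by decide +kernel
theorem c_fin_361 : allGrid (T.finOK D) 541500 1500 8 = true := by decide +kernel
theorem c_fin_362 : allGrid (T.finOK D) 543000 1500 8 = true := by decide +kernel
theorem c_fin_363 : allGrid (T.finOK D) 544500 1500 8 = true := by decide +kernel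
theorem c_fin_364 : allGrid (T.finOK D) 546000 1500 8 = true := by decide +kernel
theorem c_fin_365 : allGrid (T.finOK D) 547500 1500 8 = true := by decide +kernel
theorem c_fin_366 : allGrid (T.finOK D) 549000 1500 8 = true := by decide +kernel

end Cfsg.Agent.Lib.Helper4.TCD.HNm
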