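import Cfsg.Agent.Lib.Helper4.TCD_HNm_Acc

namespace Cfsg.Agent.Lib.Helper4.TCD.HNm

open Cfsg.Agent.Lib.Helper4.TC

set_option maxRecDepth 100000
set_option Elab.async false

theorem c_fin_367 : allGrid (T.finOK D) 550500 1500 8 = true := by decide +kernel
theorem c_fin_368 : allGrid (T.finOK D) 552000 1500 8 = true := by decide +kernel
theorem c_fin_369 : allGrid (T.finOK D) 553500 1500 8 = true := by decide +kernel
theorem c_fin_370 : allGrid (T.finOK D) 555000 1500 8 = true := by decide +kernel
theorem c_fin_371 : allGrid (T.finOK D) 556500 1500 8 = true := by decide +kernel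
theorem c_fin_372 : allGrid (T.finOK D) 558000 1500 8 = true := by decide +kernel
theorem c_fin_373 : allGrid (T.finOK D) 559500 1500 8 = true := by decide +kernel
theorem c_fin_374 : allGrid (T.finOK D) 561000 1500 8 = true := by decide +kernel
theorem c_fin_375 : allGrid (T.finOK D) 562500 1500 8 = true := by decide +kernel
theorem c_fin_376 : allGrid (T.finOK D) 564000 1500 8 = true := by decide +kernel
theorem c_fin_377 : allGrid (T.finOK D) 565500 1500 8 = true := by decide +kernel
theorem c_fin_378 : allGrid (T.finOK D) 567000 1500 8 = true := by decide +kernel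
theorem c_fin_379 : allGrid (T.finOK D) 568500 1500 8 = true := by decide +kernel
theorem c_fin_380 : allGrid (T.finOK D) 570000 1500 8 = true := by decide +kernel
theorem c_fin_381 : allGrid (T.finOK D) 571500 1500 8 = true := by decide +kernel
theorem c_fin_382 : allGrid (T.finOK D) 573000 1500 8 = true := by decide +kernel
theorem c_fin_383 : allGrid (T.finOK D) 574500 1500 8 = true := by decide +kernel
theorem c_fin_384 : allGrid (T.finOK D) 576000 1500 8 = true := by decide +kernel
theorem c_fin_385 : allGrid (T.finOK D) 577500 1500 8 = true := by decide +kernel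
theorem c_fin_386 : allGrid (T.finOK D) 579000 1500 8 = true := by decide +kernel
theorem c_fin_387 : allGrid (T.finOK D) 580500 1500 8 = true := by decide +kernel
theorem c_fin_388 : allGrid (T.finOK D) 582000 1500 8 = true := by decide +kernel
theorem c_fin_389 : allGrid (T.finOK D) 583500 1500 8 = true := by decide +kernel
theorem c_fin_390 : allGrid (T.finOK D) 585000 1500 8 = true := by decide +kernel
theorem c_fin_391 : allGrid (T.finOK D) 586500 1500 8 = true := by decide +kernel
theorem c_fin_392 : allGrid (T.finOK D) 588000 1500 8 = true := by decide +kernel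
theorem c_fin_393 : allGrid (T.finOK D) 589500 1500 8 = true := by decide +kernel
theorem c_fin_394 : allGrid (T.finOK D) 591000 1500 8 = true := by decide +kernel
theorem c_fin_395 : allGrid (T.finOK D) 592500 1500 8 = true := by decide +kernel
theorem c_fin_396 : allGrid (T.finOK D) 594000 1500 8 = true := by decide +kernel
theorem c_fin_397 : allGrid (T.finOK D) 595500 1500 8 = true := by decide +kernel
theorem c_fin_398 : allGrid (T.finOK D) 597000 1500 8 = true := by decide +kernel
theorem c_fin_399 : allGrid (T.finOK D) 598500 1500 8 = true := by decide +kernel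
theorem c_fin_400 : allGrid (T.finOK D) 600000 1500 8 = true := by decide +kernel
theorem c_fin_401 : allGrid (T.finOK D) 601500 1500 8 = true := by decide +kernel
theorem c_fin_402 : allGrid (T.finOK D) 603000 1500 8 = true := by decide +kernel
theorem c_fin_403 : allGrid (T.finOK D) 604500 1500 8 = true := by decide +kernel
theorem c_fin_404 : allGrid (T.finOK D) 606000 1500 8 = true := by decide +kernel
theorem c_fin_405 : allGrid (T.finOK D) 607500 1500 8 = true := by decide +kernel
theorem c_fin_406 : allGrid (T.finOK D) 609000 1500 8 = true := by decide +kernel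
theorem c_fin_407 : allGrid (T.finOK D) 610500 1500 8 = true := by decide +kernel
theorem c_fin_408 : allGrid (T.finOK D) 612000 1500 8 = true := by decide +kernel
theorem c_fin_409 : allGrid (T.finOK D) 613500 1500 8 = true := by decide +kernel
theorem c_fin_410 : allGrid (T.finOK D) 615000 1500 8 = true := by decide +kernel
theorem c_fin_411 : allGrid (T.finOK D) 616500 1500 8 = true := by decide +kernel
theorem c_fin_412 : allGrid (T.finOK D) 618000 1500 8 = true := by decide +kernel
theorem c_fin_413 : allGrid (T.finOK D) 619500 1500 8 = true := by decide +kernel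
theorem c_fin_414 : allGrid (T.finOK D) 621000 1500 8 = true := by decide +kernel
theorem c_fin_415 : allGrid (T.finOK D) 622500 1500 8 = true := by decide +kernel
theorem c_fin_416 : allGrid (T.finOK D) 624000 1500 8 = true := by decide +kernel

end Cfsg.Agent.Lib.Helper4.TCD.HNm
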