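import Cfsg.Agent.Lib.Helper4.TCD_HNm_Acc

namespace Cfsg.Agent.Lib.Helper4.TCD.HNm

open Cfsg.Agent.Lib.Helper4.TC

set_option maxRecDepth 100000
set_option Elab.async false

theorem c_fin_417 : allGrid (T.finOK D) 625500 1500 8 = true := by decide +kernel
theorem c_fin_418 : allGrid (T.finOK D) 627000 1500 8 = true := by decide +kernel
theorem c_fin_419 : allGrid (T.finOK D) 628500 1500 8 = true := by decide +kernel
theorem c_fin_420 : allGrid (T.finOK D) 630000 1500 8 = true := by decide +kernel
theorem c_fin_421 : allGrid (T.finOK D) 631500 1500 8 = true := by decide +kernel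
theorem c_fin_422 : allGrid (T.finOK D) 633000 1500 8 = true := by decide +kernel
theorem c_fin_423 : allGrid (T.finOK D) 634500 1500 8 = true := by decide +kernel
theorem c_fin_424 : allGrid (T.finOK D) 636000 1500 8 = true := by decide +kernel
theorem c_fin_425 : allGrid (T.finOK D) 637500 1500 8 = true := by decide +kernel
theorem c_fin_426 : allGrid (T.finOK D) 639000 1500 8 = true := by decide +kernel
theorem c_fin_427 : allGrid (T.finOK D) 640500 1500 8 = true := by decide +kernel
theorem c_fin_428 : allGrid (T.finOK D) 642000 1500 8 = true := by decide +kernel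
theorem c_fin_429 : allGrid (T.finOK D) 643500 1500 8 = true := by decide +kernel
theorem c_fin_430 : allGrid (T.finOK D) 645000 1500 8 = true := by decide +kernel
theorem c_fin_431 : allGrid (T.finOK D) 646500 1500 8 = true := by decide +kernel
theorem c_fin_432 : allGrid (T.finOK D) 648000 1500 8 = true := by decide +kernel
theorem c_fin_433 : allGrid (T.finOK D) 649500 1500 8 = true := by decide +kernel
theorem c_fin_434 : allGrid (T.finOK D) 651000 1500 8 = true := by decide +kernel
theorem c_fin_435 : allGrid (T.finOK D) 652500 1500 8 = true := by decide +kernel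
theorem c_fin_436 : allGrid (T.finOK D) 654000 1500 8 = true := by decide +kernel
theorem c_fin_437 : allGrid (T.finOK D) 655500 1500 8 = true := by decide +kernel
theorem c_fin_438 : allGrid (T.finOK D) 657000 1500 8 = true := by decide +kernel
theorem c_fin_439 : allGrid (T.finOK D) 658500 1500 8 = true := by decide +kernel
theorem c_fin_440 : allGrid (T.finOK D) 660000 1500 8 = true := by decide +kernel
theorem c_fin_441 : allGrid (T.finOK D) 661500 1500 8 = true := by decide +kernel
theorem c_fin_442 : allGrid (T.finOK D) 663000 1500 8 = true := by decide +kernel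
theorem c_fin_443 : allGrid (T.finOK D) 664500 1500 8 = true := by decide +kernel
theorem c_fin_444 : allGrid (T.finOK D) 666000 1500 8 = true := by decide +kernel
theorem c_fin_445 : allGrid (T.finOK D) 667500 1500 8 = true := by decide +kernel
theorem c_fin_446 : allGrid (T.finOK D) 669000 1500 8 = true := by decide +kernel
theorem c_fin_447 : allGrid (T.finOK D) 670500 1500 8 = true := by decide +kernel
theorem c_fin_448 : allGrid (T.finOK D) 672000 1500 8 = true := by decide +kernel
theorem c_fin_449 : allGrid (T.finOK D) 673500 1500 8 = true := by decide +kernel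
theorem c_fin_450 : allGrid (T.finOK D) 675000 1500 8 = true := by decide +kernel
theorem c_fin_451 : allGrid (T.finOK D) 676500 1500 8 = true := by decide +kernel
theorem c_fin_452 : allGrid (T.finOK D) 678000 1500 8 = true := by decide +kernel
theorem c_fin_453 : allGrid (T.finOK D) 679500 1500 8 = true := by decide +kernel
theorem c_fin_454 : allGrid (T.finOK D) 681000 1500 8 = true := by decide +kernel
theorem c_fin_455 : allGrid (T.finOK D) 682500 1500 8 = true := by decide +kernel
theorem c_fin_456 : allGrid (T.finOK D) 684000 1500 8 = true := by decide +kernel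
theorem c_fin_457 : allGrid (T.finOK D) 685500 1500 8 = true := by decide +kernel
theorem c_fin_458 : allGrid (T.finOK D) 687000 1500 8 = true := by decide +kernel
theorem c_fin_459 : allGrid (T.finOK D) 688500 1500 8 = true := by decide +kernel
theorem c_fin_460 : allGrid (T.finOK D) 690000 1500 8 = true := by decide +kernel
theorem c_fin_461 : allGrid (T.finOK D) 691500 1500 8 = true := by decide +kernel
theorem c_fin_462 : allGrid (T.finOK D) 693000 1500 8 = true := by decide +kernel
theorem c_fin_463 : allGrid (T.finOK D) 694500 1500 8 = true := by decide +kernel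
theorem c_fin_464 : allGrid (T.finOK D) 696000 1500 8 = true := by decide +kernel
theorem c_fin_465 : allGrid (T.finOK D) 697500 1500 8 = true := by decide +kernel
theorem c_fin_466 : allGrid (T.finOK D) 699000 1500 8 = true := by decide +kernel

end Cfsg.Agent.Lib.Helper4.TCD.HNm
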