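import Cfsg.Agent.Lib.Helper4.TCD_HNm_Acc

namespace Cfsg.Agent.Lib.Helper4.TCD.HNm

open Cfsg.Agent.Lib.Helper4.TC

set_option maxRecDepth 100000
set_option Elab.async false

theorem c_fin_467 : allGrid (T.finOK D) 700500 1500 8 = true := by decide +kernel
theorem c_fin_468 : allGrid (T.finOK D) 702000 1500 8 = true := by decide +kernel
theorem c_fin_469 : allGrid (T.finOK D) 703500 1500 8 = true := by decide +kernel
theorem c_fin_470 : allGrid (T.finOK D) 705000 1500 8 = true := by decide +kernel
theorem c_fin_471 : allGrid (T.finOK D) 706500 1500 8 = true := by decide +kernel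
theorem c_fin_472 : allGrid (T.finOK D) 708000 1500 8 = true := by decide +kernel
theorem c_fin_473 : allGrid (T.finOK D) 709500 1500 8 = true := by decide +kernel
theorem c_fin_474 : allGrid (T.finOK D) 711000 1500 8 = true := by decide +kernel
theorem c_fin_475 : allGrid (T.finOK D) 712500 1500 8 = true := by decide +kernel
theorem c_fin_476 : allGrid (T.finOK D) 714000 1500 8 = true := by decide +kernel
theorem c_fin_477 : allGrid (T.finOK D) 715500 1500 8 = true := by decide +kernel
theorem c_fin_478 : allGrid (T.finOK D) 717000 1500 8 = true := by decide +kernel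
theorem c_fin_479 : allGrid (T.finOK D) 718500 1500 8 = true := by decide +kernel
theorem c_fin_480 : allGrid (T.finOK D) 720000 1500 8 = true := by decide +kernel
theorem c_fin_481 : allGrid (T.finOK D) 721500 1500 8 = true := by decide +kernel
theorem c_fin_482 : allGrid (T.finOK D) 723000 1500 8 = true := by decide +kernel
theorem c_fin_483 : allGrid (T.finOK D) 724500 1500 8 = true := by decide +kernel
theorem c_fin_484 : allGrid (T.finOK D) 726000 1500 8 = true := by decide +kernel
theorem c_fin_485 : allGrid (T.finOK D) 727500 1500 8 = true := by decide +kernel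
theorem c_fin_486 : allGrid (T.finOK D) 729000 1500 8 = true := by decide +kernel
theorem c_fin_487 : allGrid (T.finOK D) 730500 1500 8 = true := by decide +kernel
theorem c_fin_488 : allGrid (T.finOK D) 732000 1500 8 = true := by decide +kernel
theorem c_fin_489 : allGrid (T.finOK D) 733500 1500 8 = true := by decide +kernel
theorem c_fin_490 : allGrid (T.finOK D) 735000 1500 8 = true := by decide +kernel
theorem c_fin_491 : allGrid (T.finOK D) 736500 1500 8 = true := by decide +kernel
theorem c_fin_492 : allGrid (T.finOK D) 738000 1500 8 = true := by decide +kernel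
theorem c_fin_493 : allGrid (T.finOK D) 739500 1500 8 = true := by decide +kernel
theorem c_fin_494 : allGrid (T.finOK D) 741000 1500 8 = true := by decide +kernel
theorem c_fin_495 : allGrid (T.finOK D) 742500 1500 8 = true := by decide +kernel
theorem c_fin_496 : allGrid (T.finOK D) 744000 1500 8 = true := by decide +kernel
theorem c_fin_497 : allGrid (T.finOK D) 745500 1500 8 = true := by decide +kernel
theorem c_fin_498 : allGrid (T.finOK D) 747000 1500 8 = true := by decide +kernel
theorem c_fin_499 : allGrid (T.finOK D) 748500 1500 8 = true := by decide +kernel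
theorem c_fin_500 : allGrid (T.finOK D) 750000 1500 8 = true := by decide +kernel
theorem c_fin_501 : allGrid (T.finOK D) 751500 1500 8 = true := by decide +kernel
theorem c_fin_502 : allGrid (T.finOK D) 753000 1500 8 = true := by decide +kernel
theorem c_fin_503 : allGrid (T.finOK D) 754500 1500 8 = true := by decide +kernel
theorem c_fin_504 : allGrid (T.finOK D) 756000 1500 8 = true := by decide +kernel
theorem c_fin_505 : allGrid (T.finOK D) 757500 1500 8 = true := by decide +kernel
theorem c_fin_506 : allGrid (T.finOK D) 759000 1500 8 = true := by decide +kernel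
theorem c_fin_507 : allGrid (T.finOK D) 760500 1500 8 = true := by decide +kernel
theorem c_fin_508 : allGrid (T.finOK D) 762000 1500 8 = true := by decide +kernel
theorem c_fin_509 : allGrid (T.finOK D) 763500 1500 8 = true := by decide +kernel
theorem c_fin_510 : allGrid (T.finOK D) 765000 1500 8 = true := by decide +kernel
theorem c_fin_511 : allGrid (T.finOK D) 766500 1500 8 = true := by decide +kernel
theorem c_fin_512 : allGrid (T.finOK D) 768000 1500 8 = true := by decide +kernel
theorem c_fin_513 : allGrid (T.finOK D) 769500 1500 8 = true := by decide +kernel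
theorem c_fin_514 : allGrid (T.finOK D) 771000 1500 8 = true := by decide +kernel
theorem c_fin_515 : allGrid (T.finOK D) 772500 1500 8 = true := by decide +kernel
theorem c_fin_516 : allGrid (T.finOK D) 774000 1500 8 = true := by decide +kernel

end Cfsg.Agent.Lib.Helper4.TCD.HNm
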