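import Cfsg.Agent.Lib.Helper4.TCD_HNm_Acc

namespace Cfsg.Agent.Lib.Helper4.TCD.HNm

open Cfsg.Agent.Lib.Helper4.TC

set_option maxRecDepth 100000
set_option Elab.async false

theorem c_fin_517 : allGrid (T.finOK D) 775500 1500 8 = true := by decide +kernel
theorem c_fin_518 : allGrid (T.finOK D) 777000 1500 8 = true := by decide +kernel
theorem c_fin_519 : allGrid (T.finOK D) 778500 1500 8 = true := by decide +kernel
theorem c_fin_520 : allGrid (T.finOK D) 780000 1500 8 = true := by decide +kernel
theorem c_fin_521 : allGrid (T.finOK D) 781500 1500 8 = true := by decide +kernel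
theorem c_fin_522 : allGrid (T.finOK D) 783000 1500 8 = true := by decide +kernel
theorem c_fin_523 : allGrid (T.finOK D) 784500 1500 8 = true := by decide +kernel
theorem c_fin_524 : allGrid (T.finOK D) 786000 1500 8 = true := by decide +kernel
theorem c_fin_525 : allGrid (T.finOK D) 787500 1500 8 = true := by decide +kernel
theorem c_fin_526 : allGrid (T.finOK D) 789000 1500 8 = true := by decide +kernel
theorem c_fin_527 : allGrid (T.finOK D) 790500 1500 8 = true := by decide +kernel
theorem c_fin_528 : allGrid (T.finOK D) 792000 1500 8 = true := by decide +kernel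
theorem c_fin_529 : allGrid (T.finOK D) 793500 1500 8 = true := by decide +kernel
theorem c_fin_530 : allGrid (T.finOK D) 795000 1500 8 = true := by decide +kernel
theorem c_fin_531 : allGrid (T.finOK D) 796500 1500 8 = true := by decide +kernel
theorem c_fin_532 : allGrid (T.finOK D) 798000 1500 8 = true := by decide +kernel
theorem c_fin_533 : allGrid (T.finOK D) 799500 1500 8 = true := by decide +kernel
theorem c_fin_534 : allGrid (T.finOK D) 801000 1500 8 = true := by decide +kernel
theorem c_fin_535 : allGrid (T.finOK D) 802500 1500 8 = true := by decide +kernel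
theorem c_fin_536 : allGrid (T.finOK D) 804000 1500 8 = true := by decide +kernel
theorem c_fin_537 : allGrid (T.finOK D) 805500 1500 8 = true := by decide +kernel
theorem c_fin_538 : allGrid (T.finOK D) 807000 1500 8 = true := by decide +kernel
theorem c_fin_539 : allGrid (T.finOK D) 808500 1500 8 = true := by decide +kernel
theorem c_fin_540 : allGrid (T.finOK D) 810000 1500 8 = true := by decide +kernel
theorem c_fin_541 : allGrid (T.finOK D) 811500 1500 8 = true := by decide +kernel
theorem c_fin_542 : allGrid (T.finOK D) 813000 1500 8 = true := by decide +kernel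
theorem c_fin_543 : allGrid (T.finOK D) 814500 1500 8 = true := by decide +kernel
theorem c_fin_544 : allGrid (T.finOK D) 816000 1500 8 = true := by decide +kernel
theorem c_fin_545 : allGrid (T.finOK D) 817500 1500 8 = true := by decide +kernel
theorem c_fin_546 : allGrid (T.finOK D) 819000 1500 8 = true := by decide +kernel
theorem c_fin_547 : allGrid (T.finOK D) 820500 1500 8 = true := by decide +kernel
theorem c_fin_548 : allGrid (T.finOK D) 822000 1500 8 = true := by decide +kernel
theorem c_fin_549 : allGrid (T.finOK D) 823500 1500 8 = true := by decide +kernel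
theorem c_fin_550 : allGrid (T.finOK D) 825000 1500 8 = true := by decide +kernel
theorem c_fin_551 : allGrid (T.finOK D) 826500 1500 8 = true := by decide +kernel
theorem c_fin_552 : allGrid (T.finOK D) 828000 1500 8 = true := by decide +kernel
theorem c_fin_553 : allGrid (T.finOK D) 829500 1500 8 = true := by decide +kernel
theorem c_fin_554 : allGrid (T.finOK D) 831000 1500 8 = true := by decide +kernel
theorem c_fin_555 : allGrid (T.finOK D) 832500 1500 8 = true := by decide +kernel
theorem c_fin_556 : allGrid (T.finOK D) 834000 1500 8 = true := by decide +kernel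
theorem c_fin_557 : allGrid (T.finOK D) 835500 1500 8 = true := by decide +kernel
theorem c_fin_558 : allGrid (T.finOK D) 837000 1500 8 = true := by decide +kernel
theorem c_fin_559 : allGrid (T.finOK D) 838500 1500 8 = true := by decide +kernel
theorem c_fin_560 : allGrid (T.finOK D) 840000 1500 8 = true := by decide +kernel
theorem c_fin_561 : allGrid (T.finOK D) 841500 1500 8 = true := by decide +kernel
theorem c_fin_562 : allGrid (T.finOK D) 843000 1500 8 = true := by decide +kernel
theorem c_fin_563 : allGrid (T.finOK D) 844500 1500 8 = true := by decide +kernel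
theorem c_fin_564 : allGrid (T.finOK D) 846000 1500 8 = true := by decide +kernel
theorem c_fin_565 : allGrid (T.finOK D) 847500 1500 8 = true := by decide +kernel
theorem c_fin_566 : allGrid (T.finOK D) 849000 1500 8 = true := by decide +kernel

end Cfsg.Agent.Lib.Helper4.TCD.HNm
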