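import Cfsg.Agent.Lib.Helper4.TCD_HNm_Acc

namespace Cfsg.Agent.Lib.Helper4.TCD.HNm

open Cfsg.Agent.Lib.Helper4.TC

set_option maxRecDepth 100000
set_option Elab.async false

theorem c_rel_23 : allRange D.relOK 1697326 3177 = true := by decide +kernel
theorem c_rel_24 : allRange D.relOK 1700503 3278 = true := by decide +kernel
theorem c_rel_25 : allRange D.relOK 1703781 3158 = true := by decide +kernel
theorem c_rel_26 : allRange D.relOK 1706939 3223 = true := by decide +kernel
theorem c_rel_27 : allRange D.relOK 1710162 3254 = true := by decide +kernel
theorem c_rel_28 : allRange D.relOK 1713416 3258 = true := by decide +kernel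
theorem c_rel_29 : allRange D.relOK 1716674 3235 = true := by decide +kernel
theorem c_rel_30 : allRange D.relOK 1719909 3287 = true := by decide +kernel
theorem c_rel_31 : allRange D.relOK 1723196 3186 = true := by decide +kernel
theorem c_rel_32 : allRange D.relOK 1726382 3263 = true := by decide +kernel
theorem c_rel_33 : allRange D.relOK 1729645 3413 = true := by decide +kernel
theorem c_rel_34 : allRange D.relOK 1733058 3198 = true := by decide +kernel
theorem c_rel_35 : allRange D.relOK 1736256 3314 = true := by decide +kernel
theorem c_rel_36 : allRange D.relOK 1739570 3262 = true := by decide +kernel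
theorem c_rel_37 : allRange D.relOK 1742832 3310 = true := by decide +kernel
theorem c_rel_38 : allRange D.relOK 1746142 3399 = true := by decide +kernel
theorem c_rel_39 : allRange D.relOK 1749541 3263 = true := by decide +kernel
theorem c_rel_40 : allRange D.relOK 1752804 3395 = true := by decide +kernel
theorem c_rel_41 : allRange D.relOK 1756199 3390 = true := by decide +kernel
theorem c_rel_42 : allRange D.relOK 1759589 3217 = true := by decide +kernel
theorem c_rel_43 : allRange D.relOK 1762806 3193 = true := by decide +kernel
theorem c_rel_44 : allRange D.relOK 1765999 3226 = true := by decide +kernel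
theorem c_rel_45 : allRange D.relOK 1769225 3219 = true := by decide +kernel
theorem c_rel_46 : allRange D.relOK 1772444 3242 = true := by decide +kernel
theorem c_rel_47 : allRange D.relOK 1775686 3265 = true := by decide +kernel
theorem c_rel_48 : allRange D.relOK 1778951 3294 = true := by decide +kernel
theorem c_rel_49 : allRange D.relOK 1782245 3187 = true := by decide +kernel
theorem c_rel_50 : allRange D.relOK 1785432 3372 = true := by decide +kernel
theorem c_rel_51 : allRange D.relOK 1788804 2613 = true := by decide +kernel
theorem c_rel_52 : allRange D.relOK 1791417 1541 = true := by decide +kernel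
theorem c_rel_53 : allRange D.relOK 1792958 1850 = true := by decide +kernel
theorem c_rel_54 : allRange D.relOK 1794808 3367 = true := by decide +kernel
theorem c_rel_55 : allRange D.relOK 1798175 3346 = true := by decide +kernel
theorem c_rel_56 : allRange D.relOK 1801521 3106 = true := by decide +kernel
theorem c_rel_57 : allRange D.relOK 1804627 3135 = true := by decide +kernel
theorem c_rel_58 : allRange D.relOK 1807762 2816 = true := by decide +kernel
theorem c_rel_59 : allRange D.relOK 1810578 2975 = true := by decide +kernel
theorem c_rel_60 : allRange D.relOK 1813553 3009 = true := by decide +kernel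
theorem c_rel_61 : allRange D.relOK 1816562 3217 = true := by decide +kernel
theorem c_rel_62 : allRange D.relOK 1819779 3229 = true := by decide +kernel
theorem c_rel_63 : allRange D.relOK 1823008 3309 = true := by decide +kernel
theorem c_rel_64 : allRange D.relOK 1826317 3292 = true := by decide +kernel
theorem c_rel_65 : allRange D.relOK 1829609 3135 = true := by decide +kernel
theorem c_rel_66 : allRange D.relOK 1832744 3394 = true := by decide +kernel
theorem c_rel_67 : allRange D.relOK 1836138 3288 = true := by decide +kernel
theorem c_rel_68 : allRange D.relOK 1839426 3408 = true := by decide +kernel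
theorem c_rel_69 : allRange D.relOK 1842834 3300 = true := by decide +kernel
theorem c_rel_70 : allRange D.relOK 1846134 3297 = true := by decide +kernel
theorem c_rel_71 : allRange D.relOK 1849431 3202 = true := by decide +kernel
theorem c_rel_72 : allRange D.relOK 1852633 3458 = true := by decide +kernel
theorem c_rel_73 : allRange D.relOK 1856091 3403 = true := by decide +kernel
theorem c_rel_74 : allRange D.relOK 1859494 3417 = true := by decide +kernel
theorem c_rel_75 : allRange D.relOK 1862911 3289 = true := by decide +kernel
theorem c_rel_76 : allRange D.relOK 1866200 3353 = true := by decide +kernel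
theorem c_rel_77 : allRange D.relOK 1869553 3327 = true := by decide +kernel
theorem c_rel_78 : allRange D.relOK 1872880 3305 = true := by decide +kernel
theorem c_rel_79 : allRange D.relOK 1876185 3194 = true := by decide +kernel
theorem c_rel_80 : allRange D.relOK 1879379 3194 = true := by decide +kernel
theorem c_rel_81 : allRange D.relOK 1882573 2950 = true := by decide +kernel
theorem c_rel_82 : allRange D.relOK 1885523 3425 = true := by decide +kernel
theorem c_rel_83 : allRange D.relOK 1888948 2255 = true := by decide +kernel
theorem c_rel_84 : allRange D.relOK 1891203 2620 = true := by decide +kernel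
theorem c_rel_85 : allRange D.relOK 1893823 2557 = true := by decide +kernel
theorem c_rel_86 : allRange D.relOK 1896380 2626 = true := by decide +kernel
theorem c_rel_87 : allRange D.relOK 1899006 1688 = true := by decide +kernel
theorem c_rel_88 : allRange D.relOK 1900694 2071 = true := by decide +kernel
theorem c_rel_89 : allRange D.relOK 1902765 2151 = true := by decide +kernel
theorem c_rel_90 : allRange D.relOK 1904916 2502 = true := by decide +kernel
theorem c_rel_91 : allRange D.relOK 1907418 1889 = true := by decide +kernel
theorem c_rel_92 : allRange D.relOK 1909307 1415 = true := by decide +kernel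
theorem c_rel_93 : allRange D.relOK 1910722 1742 = true := by decide +kernel
theorem c_rel_94 : allRange D.relOK 1912464 2871 = true := by decide +kernel
theorem c_rel_95 : allRange D.relOK 1915335 3078 = true := by decide +kernel
theorem c_rel_96 : allRange D.relOK 1918413 3173 = true := by decide +kernel
theorem c_rel_97 : allRange D.relOK 1921586 3240 = true := by decide +kernel
theorem c_rel_98 : allRange D.relOK 1924826 2213 = true := by decide +kernel
theorem c_rel_99 : allRange D.relOK 1927039 2810 = true := by decide +kernel
theorem c_rel_100 : allRange D.relOK 1929849 3182 = true := by decide +kernel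
theorem c_rel_101 : allRange D.relOK 1933031 2897 = true := by decide +kernel
theorem c_rel_102 : allRange D.relOK 1935928 3311 = true := by decide +kernel
theorem c_rel_103 : allRange D.relOK 1939239 3172 = true := by decide +kernel
theorem c_rel_104 : allRange D.relOK 1942411 2973 = true := by decide +kernel
theorem c_rel_105 : allRange D.relOK 1945384 2694 = true := by decide +kernel
theorem c_rel_106 : allRange D.relOK 1948078 3312 = true := by decide +kernel
theorem c_rel_107 : allRange D.relOK 1951390 3051 = true := by decide +kernel
theorem c_rel_108 : allRange D.relOK 1954441 2300 = true := by decide +kernel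
theorem c_rel_109 : allRange D.relOK 1956741 2689 = true := by decide +kernel
theorem c_rel_110 : allRange D.relOK 1959430 2867 = true := by decide +kernel
theorem c_rel_111 : allRange D.relOK 1962297 3053 = true := by decide +kernel
theorem c_rel_112 : allRange D.relOK 1965350 3050 = true := by decide +kernel
theorem c_rel_113 : allRange D.relOK 1968400 3298 = true := by decide +kernel
theorem c_rel_114 : allRange D.relOK 1971698 2870 = true := by decide +kernel
theorem c_rel_115 : allRange D.relOK 1974568 3332 = true := by decide +kernel
theorem c_rel_116 : allRange D.relOK 1977900 3330 = true := by decide +kernel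
theorem c_rel_117 : allRange D.relOK 1981230 3219 = true := by decide +kernel
theorem c_rel_118 : allRange D.relOK 1984449 3102 = true := by decide +kernel
theorem c_rel_119 : allRange D.relOK 1987551 2925 = true := by decide +kernel
theorem c_rel_120 : allRange D.relOK 1990476 2073 = true := by decide +kernel
theorem c_rel_121 : allRange D.relOK 1992549 2319 = true := by decide +kernel

end Cfsg.Agent.Lib.Helper4.TCD.HNm
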