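import Cfsg.Agent.Lib.Helper4.TCD_HNm_Acc

namespace Cfsg.Agent.Lib.Helper4.TCD.HNm

open Cfsg.Agent.Lib.Helper4.TC

set_option maxRecDepth 100000
set_option Elab.async false

theorem c_fin_567 : allGrid (T.finOK D) 850500 1500 8 = true := by decide +kernel
theorem c_fin_568 : allGrid (T.finOK D) 852000 1500 8 = true := by decide +kernel
theorem c_fin_569 : allGrid (T.finOK D) 853500 1500 8 = true := by decide +kernel
theorem c_fin_570 : allGrid (T.finOK D) 855000 1500 8 = true := by decide +kernel
theorem c_fin_571 : allGrid (T.finOK D) 856500 1500 8 = true := by decide +kernel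
theorem c_fin_572 : allGrid (T.finOK D) 858000 1500 8 = true := by decide +kernel
theorem c_fin_573 : allGrid (T.finOK D) 859500 1500 8 = true := by decide +kernel
theorem c_fin_574 : allGrid (T.finOK D) 861000 1500 8 = true := by decide +kernel
theorem c_fin_575 : allGrid (T.finOK D) 862500 1500 8 = true := by decide +kernel
theorem c_fin_576 : allGrid (T.finOK D) 864000 1500 8 = true := by decide +kernel
theorem c_fin_577 : allGrid (T.finOK D) 865500 1500 8 = true := by decide +kernel
theorem c_fin_578 : allGrid (T.finOK D) 867000 1500 8 = true := by decide +kernel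
theorem c_fin_579 : allGrid (T.finOK D) 868500 1500 8 = true := by decide +kernel
theorem c_fin_580 : allGrid (T.finOK D) 870000 1500 8 = true := by decide +kernel
theorem c_fin_581 : allGrid (T.finOK D) 871500 1500 8 = true := by decide +kernel
theorem c_fin_582 : allGrid (T.finOK D) 873000 1500 8 = true := by decide +kernel
theorem c_fin_583 : allGrid (T.finOK D) 874500 1500 8 = true := by decide +kernel
theorem c_fin_584 : allGrid (T.finOK D) 876000 1500 8 = true := by decide +kernel
theorem c_fin_585 : allGrid (T.finOK D) 877500 1500 8 = true := by decide +kernel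
theorem c_fin_586 : allGrid (T.finOK D) 879000 1500 8 = true := by decide +kernel
theorem c_fin_587 : allGrid (T.finOK D) 880500 1500 8 = true := by decide +kernel
theorem c_fin_588 : allGrid (T.finOK D) 882000 1500 8 = true := by decide +kernel
theorem c_fin_589 : allGrid (T.finOK D) 883500 1500 8 = true := by decide +kernel
theorem c_fin_590 : allGrid (T.finOK D) 885000 1500 8 = true := by decide +kernel
theorem c_fin_591 : allGrid (T.finOK D) 886500 1500 8 = true := by decide +kernel
theorem c_fin_592 : allGrid (T.finOK D) 888000 1500 8 = true := by decide +kernel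
theorem c_fin_593 : allGrid (T.finOK D) 889500 1500 8 = true := by decide +kernel
theorem c_fin_594 : allGrid (T.finOK D) 891000 1500 8 = true := by decide +kernel
theorem c_fin_595 : allGrid (T.finOK D) 892500 1500 8 = true := by decide +kernel
theorem c_fin_596 : allGrid (T.finOK D) 894000 1500 8 = true := by decide +kernel
theorem c_fin_597 : allGrid (T.finOK D) 895500 1500 8 = true := by decide +kernel
theorem c_fin_598 : allGrid (T.finOK D) 897000 1500 8 = true := by decide +kernel
theorem c_fin_599 : allGrid (T.finOK D) 898500 1500 8 = true := by decide +kernel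
theorem c_fin_600 : allGrid (T.finOK D) 900000 1500 8 = true := by decide +kernel
theorem c_fin_601 : allGrid (T.finOK D) 901500 1500 8 = true := by decide +kernel
theorem c_fin_602 : allGrid (T.finOK D) 903000 1500 8 = true := by decide +kernel
theorem c_fin_603 : allGrid (T.finOK D) 904500 1500 8 = true := by decide +kernel
theorem c_fin_604 : allGrid (T.finOK D) 906000 1500 8 = true := by decide +kernel
theorem c_fin_605 : allGrid (T.finOK D) 907500 1500 8 = true := by decide +kernel
theorem c_fin_606 : allGrid (T.finOK D) 909000 1500 8 = true := by decide +kernel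
theorem c_fin_607 : allGrid (T.finOK D) 910500 1500 8 = true := by decide +kernel
theorem c_fin_608 : allGrid (T.finOK D) 912000 1500 8 = true := by decide +kernel
theorem c_fin_609 : allGrid (T.finOK D) 913500 1500 8 = true := by decide +kernel
theorem c_fin_610 : allGrid (T.finOK D) 915000 1500 8 = true := by decide +kernel
theorem c_fin_611 : allGrid (T.finOK D) 916500 1500 8 = true := by decide +kernel
theorem c_fin_612 : allGrid (T.finOK D) 918000 1500 8 = true := by decide +kernel
theorem c_fin_613 : allGrid (T.finOK D) 919500 1500 8 = true := by decide +kernel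
theorem c_fin_614 : allGrid (T.finOK D) 921000 1500 8 = true := by decide +kernel
theorem c_fin_615 : allGrid (T.finOK D) 922500 1500 8 = true := by decide +kernel
theorem c_fin_616 : allGrid (T.finOK D) 924000 1500 8 = true := by decide +kernel

end Cfsg.Agent.Lib.Helper4.TCD.HNm
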