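import Cfsg.Agent.Lib.Helper4.TCD_HNm_Acc

namespace Cfsg.Agent.Lib.Helper4.TCD.HNm

open Cfsg.Agent.Lib.Helper4.TC

set_option maxRecDepth 100000
set_option Elab.async false

theorem c_fin_617 : allGrid (T.finOK D) 925500 1500 8 = true := by decide +kernel
theorem c_fin_618 : allGrid (T.finOK D) 927000 1500 8 = true := by decide +kernel
theorem c_fin_619 : allGrid (T.finOK D) 928500 1500 8 = true := by decide +kernel
theorem c_fin_620 : allGrid (T.finOK D) 930000 1500 8 = true := by decide +kernel
theorem c_fin_621 : allGrid (T.finOK D) 931500 1500 8 = true := by decide +kernel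
theorem c_fin_622 : allGrid (T.finOK D) 933000 1500 8 = true := by decide +kernel
theorem c_fin_623 : allGrid (T.finOK D) 934500 1500 8 = true := by decide +kernel
theorem c_fin_624 : allGrid (T.finOK D) 936000 1500 8 = true := by decide +kernel
theorem c_fin_625 : allGrid (T.finOK D) 937500 1500 8 = true := by decide +kernel
theorem c_fin_626 : allGrid (T.finOK D) 939000 1500 8 = true := by decide +kernel
theorem c_fin_627 : allGrid (T.finOK D) 940500 1500 8 = true := by decide +kernel
theorem c_fin_628 : allGrid (T.finOK D) 942000 1500 8 = true := by decide +kernel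
theorem c_fin_629 : allGrid (T.finOK D) 943500 1500 8 = true := by decide +kernel
theorem c_fin_630 : allGrid (T.finOK D) 945000 1500 8 = true := by decide +kernel
theorem c_fin_631 : allGrid (T.finOK D) 946500 1500 8 = true := by decide +kernel
theorem c_fin_632 : allGrid (T.finOK D) 948000 1500 8 = true := by decide +kernel
theorem c_fin_633 : allGrid (T.finOK D) 949500 1500 8 = true := by decide +kernel
theorem c_fin_634 : allGrid (T.finOK D) 951000 1500 8 = true := by decide +kernel
theorem c_fin_635 : allGrid (T.finOK D) 952500 1500 8 = true := by decide +kernel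
theorem c_fin_636 : allGrid (T.finOK D) 954000 1500 8 = true := by decide +kernel
theorem c_fin_637 : allGrid (T.finOK D) 955500 1500 8 = true := by decide +kernel
theorem c_fin_638 : allGrid (T.finOK D) 957000 1500 8 = true := by decide +kernel
theorem c_fin_639 : allGrid (T.finOK D) 958500 1500 8 = true := by decide +kernel
theorem c_fin_640 : allGrid (T.finOK D) 960000 1500 8 = true := by decide +kernel
theorem c_fin_641 : allGrid (T.finOK D) 961500 1500 8 = true := by decide +kernel
theorem c_fin_642 : allGrid (T.finOK D) 963000 1500 8 = true := by decide +kernel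
theorem c_fin_643 : allGrid (T.finOK D) 964500 1500 8 = true := by decide +kernel
theorem c_fin_644 : allGrid (T.finOK D) 966000 1500 8 = true := by decide +kernel
theorem c_fin_645 : allGrid (T.finOK D) 967500 1500 8 = true := by decide +kernel
theorem c_fin_646 : allGrid (T.finOK D) 969000 1500 8 = true := by decide +kernel
theorem c_fin_647 : allGrid (T.finOK D) 970500 1500 8 = true := by decide +kernel
theorem c_fin_648 : allGrid (T.finOK D) 972000 1500 8 = true := by decide +kernel
theorem c_fin_649 : allGrid (T.finOK D) 973500 1500 8 = true := by decide +kernel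
theorem c_fin_650 : allGrid (T.finOK D) 975000 1500 8 = true := by decide +kernel
theorem c_fin_651 : allGrid (T.finOK D) 976500 1500 8 = true := by decide +kernel
theorem c_fin_652 : allGrid (T.finOK D) 978000 1500 8 = true := by decide +kernel
theorem c_fin_653 : allGrid (T.finOK D) 979500 1500 8 = true := by decide +kernel
theorem c_fin_654 : allGrid (T.finOK D) 981000 1500 8 = true := by decide +kernel
theorem c_fin_655 : allGrid (T.finOK D) 982500 1500 8 = true := by decide +kernel
theorem c_fin_656 : allGrid (T.finOK D) 984000 1500 8 = true := by decide +kernel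
theorem c_fin_657 : allGrid (T.finOK D) 985500 1500 8 = true := by decide +kernel
theorem c_fin_658 : allGrid (T.finOK D) 987000 1500 8 = true := by decide +kernel
theorem c_fin_659 : allGrid (T.finOK D) 988500 1500 8 = true := by decide +kernel
theorem c_fin_660 : allGrid (T.finOK D) 990000 1500 8 = true := by decide +kernel
theorem c_fin_661 : allGrid (T.finOK D) 991500 1500 8 = true := by decide +kernel
theorem c_fin_662 : allGrid (T.finOK D) 993000 1500 8 = true := by decide +kernel
theorem c_fin_663 : allGrid (T.finOK D) 994500 1500 8 = true := by decide +kernel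
theorem c_fin_664 : allGrid (T.finOK D) 996000 1500 8 = true := by decide +kernel
theorem c_fin_665 : allGrid (T.finOK D) 997500 1500 8 = true := by decide +kernel
theorem c_fin_666 : allGrid (T.finOK D) 999000 1500 8 = true := by decide +kernel

end Cfsg.Agent.Lib.Helper4.TCD.HNm
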