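import Cfsg.Agent.Lib.Helper4.TCD_HNm_Acc

namespace Cfsg.Agent.Lib.Helper4.TCD.HNm

open Cfsg.Agent.Lib.Helper4.TC

set_option maxRecDepth 100000
set_option Elab.async false

theorem c_fin_667 : allGrid (T.finOK D) 1000500 1500 8 = true := by decide +kernel
theorem c_fin_668 : allGrid (T.finOK D) 1002000 1500 8 = true := by decide +kernel
theorem c_fin_669 : allGrid (T.finOK D) 1003500 1500 8 = true := by decide +kernel
theorem c_fin_670 : allGrid (T.finOK D) 1005000 1500 8 = true := by decide +kernel
theorem c_fin_671 : allGrid (T.finOK D) 1006500 1500 8 = true := by decide +kernel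
theorem c_fin_672 : allGrid (T.finOK D) 1008000 1500 8 = true := by decide +kernel
theorem c_fin_673 : allGrid (T.finOK D) 1009500 1500 8 = true := by decide +kernel
theorem c_fin_674 : allGrid (T.finOK D) 1011000 1500 8 = true := by decide +kernel
theorem c_fin_675 : allGrid (T.finOK D) 1012500 1500 8 = true := by decide +kernel
theorem c_fin_676 : allGrid (T.finOK D) 1014000 1500 8 = true := by decide +kernel
theorem c_fin_677 : allGrid (T.finOK D) 1015500 1500 8 = true := by decide +kernel
theorem c_fin_678 : allGrid (T.finOK D) 1017000 1500 8 = true := by decide +kernel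
theorem c_fin_679 : allGrid (T.finOK D) 1018500 1500 8 = true := by decide +kernel
theorem c_fin_680 : allGrid (T.finOK D) 1020000 1500 8 = true := by decide +kernel
theorem c_fin_681 : allGrid (T.finOK D) 1021500 1500 8 = true := by decide +kernel
theorem c_fin_682 : allGrid (T.finOK D) 1023000 1500 8 = true := by decide +kernel
theorem c_fin_683 : allGrid (T.finOK D) 1024500 1500 8 = true := by decide +kernel
theorem c_fin_684 : allGrid (T.finOK D) 1026000 1500 8 = true := by decide +kernel
theorem c_fin_685 : allGrid (T.finOK D) 1027500 1500 8 = true := by decide +kernel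
theorem c_fin_686 : allGrid (T.finOK D) 1029000 1500 8 = true := by decide +kernel
theorem c_fin_687 : allGrid (T.finOK D) 1030500 1500 8 = true := by decide +kernel
theorem c_fin_688 : allGrid (T.finOK D) 1032000 1500 8 = true := by decide +kernel
theorem c_fin_689 : allGrid (T.finOK D) 1033500 1500 8 = true := by decide +kernel
theorem c_fin_690 : allGrid (T.finOK D) 1035000 1500 8 = true := by decide +kernel
theorem c_fin_691 : allGrid (T.finOK D) 1036500 1500 8 = true := by decide +kernel
theorem c_fin_692 : allGrid (T.finOK D) 1038000 1500 8 = true := by decide +kernel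
theorem c_fin_693 : allGrid (T.finOK D) 1039500 1500 8 = true := by decide +kernel
theorem c_fin_694 : allGrid (T.finOK D) 1041000 1500 8 = true := by decide +kernel
theorem c_fin_695 : allGrid (T.finOK D) 1042500 1500 8 = true := by decide +kernel
theorem c_fin_696 : allGrid (T.finOK D) 1044000 1500 8 = true := by decide +kernel
theorem c_fin_697 : allGrid (T.finOK D) 1045500 1500 8 = true := by decide +kernel
theorem c_fin_698 : allGrid (T.finOK D) 1047000 1500 8 = true := by decide +kernel
theorem c_fin_699 : allGrid (T.finOK D) 1048500 1500 8 = true := by decide +kernel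
theorem c_fin_700 : allGrid (T.finOK D) 1050000 1500 8 = true := by decide +kernel
theorem c_fin_701 : allGrid (T.finOK D) 1051500 1500 8 = true := by decide +kernel
theorem c_fin_702 : allGrid (T.finOK D) 1053000 1500 8 = true := by decide +kernel
theorem c_fin_703 : allGrid (T.finOK D) 1054500 1500 8 = true := by decide +kernel
theorem c_fin_704 : allGrid (T.finOK D) 1056000 1500 8 = true := by decide +kernel
theorem c_fin_705 : allGrid (T.finOK D) 1057500 1500 8 = true := by decide +kernel
theorem c_fin_706 : allGrid (T.finOK D) 1059000 1500 8 = true := by decide +kernel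
theorem c_fin_707 : allGrid (T.finOK D) 1060500 1500 8 = true := by decide +kernel
theorem c_fin_708 : allGrid (T.finOK D) 1062000 1500 8 = true := by decide +kernel
theorem c_fin_709 : allGrid (T.finOK D) 1063500 1500 8 = true := by decide +kernel
theorem c_fin_710 : allGrid (T.finOK D) 1065000 1500 8 = true := by decide +kernel
theorem c_fin_711 : allGrid (T.finOK D) 1066500 1500 8 = true := by decide +kernel
theorem c_fin_712 : allGrid (T.finOK D) 1068000 1500 8 = true := by decide +kernel
theorem c_fin_713 : allGrid (T.finOK D) 1069500 1500 8 = true := by decide +kernel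
theorem c_fin_714 : allGrid (T.finOK D) 1071000 1500 8 = true := by decide +kernel
theorem c_fin_715 : allGrid (T.finOK D) 1072500 1500 8 = true := by decide +kernel
theorem c_fin_716 : allGrid (T.finOK D) 1074000 1500 8 = true := by decide +kernel

end Cfsg.Agent.Lib.Helper4.TCD.HNm
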