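import Cfsg.Agent.Lib.Helper4.TCD_HNm_Acc

namespace Cfsg.Agent.Lib.Helper4.TCD.HNm

open Cfsg.Agent.Lib.Helper4.TC

set_option maxRecDepth 100000
set_option Elab.async false

theorem c_fin_717 : allGrid (T.finOK D) 1075500 1500 8 = true := by decide +kernel
theorem c_fin_718 : allGrid (T.finOK D) 1077000 1500 8 = true := by decide +kernel
theorem c_fin_719 : allGrid (T.finOK D) 1078500 1500 8 = true := by decide +kernel
theorem c_fin_720 : allGrid (T.finOK D) 1080000 1500 8 = true := by decide +kernel
theorem c_fin_721 : allGrid (T.finOK D) 1081500 1500 8 = true := by decide +kernel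
theorem c_fin_722 : allGrid (T.finOK D) 1083000 1500 8 = true := by decide +kernel
theorem c_fin_723 : allGrid (T.finOK D) 1084500 1500 8 = true := by decide +kernel
theorem c_fin_724 : allGrid (T.finOK D) 1086000 1500 8 = true := by decide +kernel
theorem c_fin_725 : allGrid (T.finOK D) 1087500 1500 8 = true := by decide +kernel
theorem c_fin_726 : allGrid (T.finOK D) 1089000 1500 8 = true := by decide +kernel
theorem c_fin_727 : allGrid (T.finOK D) 1090500 1500 8 = true := by decide +kernel
theorem c_fin_728 : allGrid (T.finOK D) 1092000 1500 8 = true := by decide +kernel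
theorem c_fin_729 : allGrid (T.finOK D) 1093500 1500 8 = true := by decide +kernel
theorem c_fin_730 : allGrid (T.finOK D) 1095000 1500 8 = true := by decide +kernel
theorem c_fin_731 : allGrid (T.finOK D) 1096500 1500 8 = true := by decide +kernel
theorem c_fin_732 : allGrid (T.finOK D) 1098000 1500 8 = true := by decide +kernel
theorem c_fin_733 : allGrid (T.finOK D) 1099500 1500 8 = true := by decide +kernel
theorem c_fin_734 : allGrid (T.finOK D) 1101000 1500 8 = true := by decide +kernel
theorem c_fin_735 : allGrid (T.finOK D) 1102500 1500 8 = true := by decide +kernel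
theorem c_fin_736 : allGrid (T.finOK D) 1104000 1500 8 = true := by decide +kernel
theorem c_fin_737 : allGrid (T.finOK D) 1105500 1500 8 = true := by decide +kernel
theorem c_fin_738 : allGrid (T.finOK D) 1107000 1500 8 = true := by decide +kernel
theorem c_fin_739 : allGrid (T.finOK D) 1108500 1500 8 = true := by decide +kernel
theorem c_fin_740 : allGrid (T.finOK D) 1110000 1500 8 = true := by decide +kernel
theorem c_fin_741 : allGrid (T.finOK D) 1111500 1500 8 = true := by decide +kernel
theorem c_fin_742 : allGrid (T.finOK D) 1113000 1500 8 = true := by decide +kernel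
theorem c_fin_743 : allGrid (T.finOK D) 1114500 1500 8 = true := by decide +kernel
theorem c_fin_744 : allGrid (T.finOK D) 1116000 1500 8 = true := by decide +kernel
theorem c_fin_745 : allGrid (T.finOK D) 1117500 1500 8 = true := by decide +kernel
theorem c_fin_746 : allGrid (T.finOK D) 1119000 1500 8 = true := by decide +kernel
theorem c_fin_747 : allGrid (T.finOK D) 1120500 1500 8 = true := by decide +kernel
theorem c_fin_748 : allGrid (T.finOK D) 1122000 1500 8 = true := by decide +kernel
theorem c_fin_749 : allGrid (T.finOK D) 1123500 1500 8 = true := by decide +kernel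
theorem c_fin_750 : allGrid (T.finOK D) 1125000 1500 8 = true := by decide +kernel
theorem c_fin_751 : allGrid (T.finOK D) 1126500 1500 8 = true := by decide +kernel
theorem c_fin_752 : allGrid (T.finOK D) 1128000 1500 8 = true := by decide +kernel
theorem c_fin_753 : allGrid (T.finOK D) 1129500 1500 8 = true := by decide +kernel
theorem c_fin_754 : allGrid (T.finOK D) 1131000 1500 8 = true := by decide +kernel
theorem c_fin_755 : allGrid (T.finOK D) 1132500 1500 8 = true := by decide +kernel
theorem c_fin_756 : allGrid (T.finOK D) 1134000 1500 8 = true := by decide +kernel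
theorem c_fin_757 : allGrid (T.finOK D) 1135500 1500 8 = true := by decide +kernel
theorem c_fin_758 : allGrid (T.finOK D) 1137000 1500 8 = true := by decide +kernel
theorem c_fin_759 : allGrid (T.finOK D) 1138500 1500 8 = true := by decide +kernel
theorem c_fin_760 : allGrid (T.finOK D) 1140000 1500 8 = true := by decide +kernel
theorem c_fin_761 : allGrid (T.finOK D) 1141500 1500 8 = true := by decide +kernel
theorem c_fin_762 : allGrid (T.finOK D) 1143000 1500 8 = true := by decide +kernel
theorem c_fin_763 : allGrid (T.finOK D) 1144500 1500 8 = true := by decide +kernel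
theorem c_fin_764 : allGrid (T.finOK D) 1146000 1500 8 = true := by decide +kernel
theorem c_fin_765 : allGrid (T.finOK D) 1147500 1500 8 = true := by decide +kernel
theorem c_fin_766 : allGrid (T.finOK D) 1149000 1500 8 = true := by decide +kernel

end Cfsg.Agent.Lib.Helper4.TCD.HNm
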