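import Cfsg.Agent.Lib.Helper4.TCD_HNm_Acc

namespace Cfsg.Agent.Lib.Helper4.TCD.HNm

open Cfsg.Agent.Lib.Helper4.TC

set_option maxRecDepth 100000
set_option Elab.async false

theorem c_fin_817 : allGrid (T.finOK D) 1225500 1500 8 = true := by decide +kernel
theorem c_fin_818 : allGrid (T.finOK D) 1227000 1500 8 = true := by decide +kernel
theorem c_fin_819 : allGrid (T.finOK D) 1228500 1500 8 = true := by decide +kernel
theorem c_fin_820 : allGrid (T.finOK D) 1230000 1500 8 = true := by decide +kernel
theorem c_fin_821 : allGrid (T.finOK D) 1231500 1500 8 = true := by decide +kernel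
theorem c_fin_822 : allGrid (T.finOK D) 1233000 1500 8 = true := by decide +kernel
theorem c_fin_823 : allGrid (T.finOK D) 1234500 1500 8 = true := by decide +kernel
theorem c_fin_824 : allGrid (T.finOK D) 1236000 1500 8 = true := by decide +kernel
theorem c_fin_825 : allGrid (T.finOK D) 1237500 1500 8 = true := by decide +kernel
theorem c_fin_826 : allGrid (T.finOK D) 1239000 1500 8 = true := by decide +kernel
theorem c_fin_827 : allGrid (T.finOK D) 1240500 1500 8 = true := by decide +kernel
theorem c_fin_828 : allGrid (T.finOK D) 1242000 1500 8 = true := by decide +kernel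
theorem c_fin_829 : allGrid (T.finOK D) 1243500 1500 8 = true := by decide +kernel
theorem c_fin_830 : allGrid (T.finOK D) 1245000 1500 8 = true := by decide +kernel
theorem c_fin_831 : allGrid (T.finOK D) 1246500 1500 8 = true := by decide +kernel
theorem c_fin_832 : allGrid (T.finOK D) 1248000 1500 8 = true := by decide +kernel
theorem c_fin_833 : allGrid (T.finOK D) 1249500 1500 8 = true := by decide +kernel
theorem c_fin_834 : allGrid (T.finOK D) 1251000 1500 8 = true := by decide +kernel
theorem c_fin_835 : allGrid (T.finOK D) 1252500 1500 8 = true := by decide +kernel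
theorem c_fin_836 : allGrid (T.finOK D) 1254000 1500 8 = true := by decide +kernel
theorem c_fin_837 : allGrid (T.finOK D) 1255500 1500 8 = true := by decide +kernel
theorem c_fin_838 : allGrid (T.finOK D) 1257000 1500 8 = true := by decide +kernel
theorem c_fin_839 : allGrid (T.finOK D) 1258500 1500 8 = true := by decide +kernel
theorem c_fin_840 : allGrid (T.finOK D) 1260000 1500 8 = true := by decide +kernel
theorem c_fin_841 : allGrid (T.finOK D) 1261500 1500 8 = true := by decide +kernel
theorem c_fin_842 : allGrid (T.finOK D) 1263000 1500 8 = true := by decide +kernel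
theorem c_fin_843 : allGrid (T.finOK D) 1264500 1500 8 = true := by decide +kernel
theorem c_fin_844 : allGrid (T.finOK D) 1266000 1500 8 = true := by decide +kernel
theorem c_fin_845 : allGrid (T.finOK D) 1267500 1500 8 = true := by decide +kernel
theorem c_fin_846 : allGrid (T.finOK D) 1269000 1500 8 = true := by decide +kernel
theorem c_fin_847 : allGrid (T.finOK D) 1270500 1500 8 = true := by decide +kernel
theorem c_fin_848 : allGrid (T.finOK D) 1272000 1500 8 = true := by decide +kernel
theorem c_fin_849 : allGrid (T.finOK D) 1273500 1500 8 = true := by decide +kernel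
theorem c_fin_850 : allGrid (T.finOK D) 1275000 1500 8 = true := by decide +kernel
theorem c_fin_851 : allGrid (T.finOK D) 1276500 1500 8 = true := by decide +kernel
theorem c_fin_852 : allGrid (T.finOK D) 1278000 1500 8 = true := by decide +kernel
theorem c_fin_853 : allGrid (T.finOK D) 1279500 1500 8 = true := by decide +kernel
theorem c_fin_854 : allGrid (T.finOK D) 1281000 1500 8 = true := by decide +kernel
theorem c_fin_855 : allGrid (T.finOK D) 1282500 1500 8 = true := by decide +kernel
theorem c_fin_856 : allGrid (T.finOK D) 1284000 1500 8 = true := by decide +kernel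
theorem c_fin_857 : allGrid (T.finOK D) 1285500 1500 8 = true := by decide +kernel
theorem c_fin_858 : allGrid (T.finOK D) 1287000 1500 8 = true := by decide +kernel
theorem c_fin_859 : allGrid (T.finOK D) 1288500 1500 8 = true := by decide +kernel
theorem c_fin_860 : allGrid (T.finOK D) 1290000 1500 8 = true := by decide +kernel
theorem c_fin_861 : allGrid (T.finOK D) 1291500 1500 8 = true := by decide +kernel
theorem c_fin_862 : allGrid (T.finOK D) 1293000 1500 8 = true := by decide +kernel
theorem c_fin_863 : allGrid (T.finOK D) 1294500 1500 8 = true := by decide +kernel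
theorem c_fin_864 : allGrid (T.finOK D) 1296000 1500 8 = true := by decide +kernel
theorem c_fin_865 : allGrid (T.finOK D) 1297500 1500 8 = true := by decide +kernel
theorem c_fin_866 : allGrid (T.finOK D) 1299000 1500 8 = true := by decide +kernel

end Cfsg.Agent.Lib.Helper4.TCD.HNm
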