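import Cfsg.Agent.Lib.Helper4.TCD_HNm_Acc

namespace Cfsg.Agent.Lib.Helper4.TCD.HNm

open Cfsg.Agent.Lib.Helper4.TC

set_option maxRecDepth 100000
set_option Elab.async false

theorem c_fin_867 : allGrid (T.finOK D) 1300500 1500 8 = true := by decide +kernel
theorem c_fin_868 : allGrid (T.finOK D) 1302000 1500 8 = true := by decide +kernel
theorem c_fin_869 : allGrid (T.finOK D) 1303500 1500 8 = true := by decide +kernel
theorem c_fin_870 : allGrid (T.finOK D) 1305000 1500 8 = true := by decide +kernel
theorem c_fin_871 : allGrid (T.finOK D) 1306500 1500 8 = true := by decide +kernel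
theorem c_fin_872 : allGrid (T.finOK D) 1308000 1500 8 = true := by decide +kernel
theorem c_fin_873 : allGrid (T.finOK D) 1309500 1500 8 = true := by decide +kernel
theorem c_fin_874 : allGrid (T.finOK D) 1311000 1500 8 = true := by decide +kernel
theorem c_fin_875 : allGrid (T.finOK D) 1312500 1500 8 = true := by decide +kernel
theorem c_fin_876 : allGrid (T.finOK D) 1314000 1500 8 = true := by decide +kernel
theorem c_fin_877 : allGrid (T.finOK D) 1315500 1500 8 = true := by decide +kernel
theorem c_fin_878 : allGrid (T.finOK D) 1317000 1500 8 = true := by decide +kernel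
theorem c_fin_879 : allGrid (T.finOK D) 1318500 1500 8 = true := by decide +kernel
theorem c_fin_880 : allGrid (T.finOK D) 1320000 1500 8 = true := by decide +kernel
theorem c_fin_881 : allGrid (T.finOK D) 1321500 1500 8 = true := by decide +kernel
theorem c_fin_882 : allGrid (T.finOK D) 1323000 1500 8 = true := by decide +kernel
theorem c_fin_883 : allGrid (T.finOK D) 1324500 1500 8 = true := by decide +kernel
theorem c_fin_884 : allGrid (T.finOK D) 1326000 1500 8 = true := by decide +kernel
theorem c_fin_885 : allGrid (T.finOK D) 1327500 1500 8 = true := by decide +kernel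
theorem c_fin_886 : allGrid (T.finOK D) 1329000 1500 8 = true := by decide +kernel
theorem c_fin_887 : allGrid (T.finOK D) 1330500 1500 8 = true := by decide +kernel
theorem c_fin_888 : allGrid (T.finOK D) 1332000 1500 8 = true := by decide +kernel
theorem c_fin_889 : allGrid (T.finOK D) 1333500 1500 8 = true := by decide +kernel
theorem c_fin_890 : allGrid (T.finOK D) 1335000 1500 8 = true := by decide +kernel
theorem c_fin_891 : allGrid (T.finOK D) 1336500 1500 8 = true := by decide +kernel
theorem c_fin_892 : allGrid (T.finOK D) 1338000 1500 8 = true := by decide +kernel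
theorem c_fin_893 : allGrid (T.finOK D) 1339500 1500 8 = true := by decide +kernel
theorem c_fin_894 : allGrid (T.finOK D) 1341000 1500 8 = true := by decide +kernel
theorem c_fin_895 : allGrid (T.finOK D) 1342500 1500 8 = true := by decide +kernel
theorem c_fin_896 : allGrid (T.finOK D) 1344000 1500 8 = true := by decide +kernel
theorem c_fin_897 : allGrid (T.finOK D) 1345500 1500 8 = true := by decide +kernel
theorem c_fin_898 : allGrid (T.finOK D) 1347000 1500 8 = true := by decide +kernel
theorem c_fin_899 : allGrid (T.finOK D) 1348500 1500 8 = true := by decide +kernel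
theorem c_fin_900 : allGrid (T.finOK D) 1350000 1500 8 = true := by decide +kernel
theorem c_fin_901 : allGrid (T.finOK D) 1351500 1500 8 = true := by decide +kernel
theorem c_fin_902 : allGrid (T.finOK D) 1353000 1500 8 = true := by decide +kernel
theorem c_fin_903 : allGrid (T.finOK D) 1354500 1500 8 = true := by decide +kernel
theorem c_fin_904 : allGrid (T.finOK D) 1356000 1500 8 = true := by decide +kernel
theorem c_fin_905 : allGrid (T.finOK D) 1357500 1500 8 = true := by decide +kernel
theorem c_fin_906 : allGrid (T.finOK D) 1359000 1500 8 = true := by decide +kernel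
theorem c_fin_907 : allGrid (T.finOK D) 1360500 1500 8 = true := by decide +kernel
theorem c_fin_908 : allGrid (T.finOK D) 1362000 1500 8 = true := by decide +kernel
theorem c_fin_909 : allGrid (T.finOK D) 1363500 1500 8 = true := by decide +kernel
theorem c_fin_910 : allGrid (T.finOK D) 1365000 1500 8 = true := by decide +kernel
theorem c_fin_911 : allGrid (T.finOK D) 1366500 1500 8 = true := by decide +kernel
theorem c_fin_912 : allGrid (T.finOK D) 1368000 1500 8 = true := by decide +kernel
theorem c_fin_913 : allGrid (T.finOK D) 1369500 1500 8 = true := by decide +kernel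
theorem c_fin_914 : allGrid (T.finOK D) 1371000 1500 8 = true := by decide +kernel
theorem c_fin_915 : allGrid (T.finOK D) 1372500 1500 8 = true := by decide +kernel
theorem c_fin_916 : allGrid (T.finOK D) 1374000 1500 8 = true := by decide +kernel

end Cfsg.Agent.Lib.Helper4.TCD.HNm
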