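import Cfsg.Agent.Lib.Helper4.TCD_HNm_Acc

namespace Cfsg.Agent.Lib.Helper4.TCD.HNm

open Cfsg.Agent.Lib.Helper4.TC

set_option maxRecDepth 100000
set_option Elab.async false

theorem c_fin_917 : allGrid (T.finOK D) 1375500 1500 8 = true := by decide +kernel
theorem c_fin_918 : allGrid (T.finOK D) 1377000 1500 8 = true := by decide +kernel
theorem c_fin_919 : allGrid (T.finOK D) 1378500 1500 8 = true := by decide +kernel
theorem c_fin_920 : allGrid (T.finOK D) 1380000 1500 8 = true := by decide +kernel
theorem c_fin_921 : allGrid (T.finOK D) 1381500 1500 8 = true := by decide +kernel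
theorem c_fin_922 : allGrid (T.finOK D) 1383000 1500 8 = true := by decide +kernel
theorem c_fin_923 : allGrid (T.finOK D) 1384500 1500 8 = true := by decide +kernel
theorem c_fin_924 : allGrid (T.finOK D) 1386000 1500 8 = true := by decide +kernel
theorem c_fin_925 : allGrid (T.finOK D) 1387500 1500 8 = true := by decide +kernel
theorem c_fin_926 : allGrid (T.finOK D) 1389000 1500 8 = true := by decide +kernel
theorem c_fin_927 : allGrid (T.finOK D) 1390500 1500 8 = true := by decide +kernel
theorem c_fin_928 : allGrid (T.finOK D) 1392000 1500 8 = true := by decide +kernel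
theorem c_fin_929 : allGrid (T.finOK D) 1393500 1500 8 = true := by decide +kernel
theorem c_fin_930 : allGrid (T.finOK D) 1395000 1500 8 = true := by decide +kernel
theorem c_fin_931 : allGrid (T.finOK D) 1396500 1500 8 = true := by decide +kernel
theorem c_fin_932 : allGrid (T.finOK D) 1398000 1500 8 = true := by decide +kernel
theorem c_fin_933 : allGrid (T.finOK D) 1399500 1500 8 = true := by decide +kernel
theorem c_fin_934 : allGrid (T.finOK D) 1401000 1500 8 = true := by decide +kernel
theorem c_fin_935 : allGrid (T.finOK D) 1402500 1500 8 = true := by decide +kernel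
theorem c_fin_936 : allGrid (T.finOK D) 1404000 1500 8 = true := by decide +kernel
theorem c_fin_937 : allGrid (T.finOK D) 1405500 1500 8 = true := by decide +kernel
theorem c_fin_938 : allGrid (T.finOK D) 1407000 1500 8 = true := by decide +kernel
theorem c_fin_939 : allGrid (T.finOK D) 1408500 1500 8 = true := by decide +kernel
theorem c_fin_940 : allGrid (T.finOK D) 1410000 1500 8 = true := by decide +kernel
theorem c_fin_941 : allGrid (T.finOK D) 1411500 1500 8 = true := by decide +kernel
theorem c_fin_942 : allGrid (T.finOK D) 1413000 1500 8 = true := by decide +kernel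
theorem c_fin_943 : allGrid (T.finOK D) 1414500 1500 8 = true := by decide +kernel
theorem c_fin_944 : allGrid (T.finOK D) 1416000 1500 8 = true := by decide +kernel
theorem c_fin_945 : allGrid (T.finOK D) 1417500 1500 8 = true := by decide +kernel
theorem c_fin_946 : allGrid (T.finOK D) 1419000 1500 8 = true := by decide +kernel
theorem c_fin_947 : allGrid (T.finOK D) 1420500 1500 8 = true := by decide +kernel
theorem c_fin_948 : allGrid (T.finOK D) 1422000 1500 8 = true := by decide +kernel
theorem c_fin_949 : allGrid (T.finOK D) 1423500 1500 8 = true := by decide +kernel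
theorem c_fin_950 : allGrid (T.finOK D) 1425000 1500 8 = true := by decide +kernel
theorem c_fin_951 : allGrid (T.finOK D) 1426500 1500 8 = true := by decide +kernel
theorem c_fin_952 : allGrid (T.finOK D) 1428000 1500 8 = true := by decide +kernel
theorem c_fin_953 : allGrid (T.finOK D) 1429500 1500 8 = true := by decide +kernel
theorem c_fin_954 : allGrid (T.finOK D) 1431000 1500 8 = true := by decide +kernel
theorem c_fin_955 : allGrid (T.finOK D) 1432500 1500 8 = true := by decide +kernel
theorem c_fin_956 : allGrid (T.finOK D) 1434000 1500 8 = true := by decide +kernel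
theorem c_fin_957 : allGrid (T.finOK D) 1435500 1500 8 = true := by decide +kernel
theorem c_fin_958 : allGrid (T.finOK D) 1437000 1500 8 = true := by decide +kernel
theorem c_fin_959 : allGrid (T.finOK D) 1438500 1500 8 = true := by decide +kernel
theorem c_fin_960 : allGrid (T.finOK D) 1440000 1500 8 = true := by decide +kernel
theorem c_fin_961 : allGrid (T.finOK D) 1441500 1500 8 = true := by decide +kernel
theorem c_fin_962 : allGrid (T.finOK D) 1443000 1500 8 = true := by decide +kernel
theorem c_fin_963 : allGrid (T.finOK D) 1444500 1500 8 = true := by decide +kernel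
theorem c_fin_964 : allGrid (T.finOK D) 1446000 1500 8 = true := by decide +kernel
theorem c_fin_965 : allGrid (T.finOK D) 1447500 1500 8 = true := by decide +kernel
theorem c_fin_966 : allGrid (T.finOK D) 1449000 1500 8 = true := by decide +kernel

end Cfsg.Agent.Lib.Helper4.TCD.HNm
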