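import Cfsg.Agent.Lib.Helper4.TCD_HNm_Acc

namespace Cfsg.Agent.Lib.Helper4.TCD.HNm

open Cfsg.Agent.Lib.Helper4.TC

set_option maxRecDepth 100000
set_option Elab.async false

theorem c_fin_967 : allGrid (T.finOK D) 1450500 1500 8 = true := by decide +kernel
theorem c_fin_968 : allGrid (T.finOK D) 1452000 1500 8 = true := by decide +kernel
theorem c_fin_969 : allGrid (T.finOK D) 1453500 1500 8 = true := by decide +kernel
theorem c_fin_970 : allGrid (T.finOK D) 1455000 1500 8 = true := by decide +kernel
theorem c_fin_971 : allGrid (T.finOK D) 1456500 1500 8 = true := by decide +kernel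
theorem c_fin_972 : allGrid (T.finOK D) 1458000 1500 8 = true := by decide +kernel
theorem c_fin_973 : allGrid (T.finOK D) 1459500 1500 8 = true := by decide +kernel
theorem c_fin_974 : allGrid (T.finOK D) 1461000 1500 8 = true := by decide +kernel
theorem c_fin_975 : allGrid (T.finOK D) 1462500 1500 8 = true := by decide +kernel
theorem c_fin_976 : allGrid (T.finOK D) 1464000 1500 8 = true := by decide +kernel
theorem c_fin_977 : allGrid (T.finOK D) 1465500 1500 8 = true := by decide +kernel
theorem c_fin_978 : allGrid (T.finOK D) 1467000 1500 8 = true := by decide +kernel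
theorem c_fin_979 : allGrid (T.finOK D) 1468500 1500 8 = true := by decide +kernel
theorem c_fin_980 : allGrid (T.finOK D) 1470000 1500 8 = true := by decide +kernel
theorem c_fin_981 : allGrid (T.finOK D) 1471500 1500 8 = true := by decide +kernel
theorem c_fin_982 : allGrid (T.finOK D) 1473000 1500 8 = true := by decide +kernel
theorem c_fin_983 : allGrid (T.finOK D) 1474500 1500 8 = true := by decide +kernel
theorem c_fin_984 : allGrid (T.finOK D) 1476000 1500 8 = true := by decide +kernel
theorem c_fin_985 : allGrid (T.finOK D) 1477500 1500 8 = true := by decide +kernel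
theorem c_fin_986 : allGrid (T.finOK D) 1479000 1500 8 = true := by decide +kernel
theorem c_fin_987 : allGrid (T.finOK D) 1480500 1500 8 = true := by decide +kernel
theorem c_fin_988 : allGrid (T.finOK D) 1482000 1500 8 = true := by decide +kernel
theorem c_fin_989 : allGrid (T.finOK D) 1483500 1500 8 = true := by decide +kernel
theorem c_fin_990 : allGrid (T.finOK D) 1485000 1500 8 = true := by decide +kernel
theorem c_fin_991 : allGrid (T.finOK D) 1486500 1500 8 = true := by decide +kernel
theorem c_fin_992 : allGrid (T.finOK D) 1488000 1500 8 = true := by decide +kernel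
theorem c_fin_993 : allGrid (T.finOK D) 1489500 1500 8 = true := by decide +kernel
theorem c_fin_994 : allGrid (T.finOK D) 1491000 1500 8 = true := by decide +kernel
theorem c_fin_995 : allGrid (T.finOK D) 1492500 1500 8 = true := by decide +kernel
theorem c_fin_996 : allGrid (T.finOK D) 1494000 1500 8 = true := by decide +kernel
theorem c_fin_997 : allGrid (T.finOK D) 1495500 1500 8 = true := by decide +kernel
theorem c_fin_998 : allGrid (T.finOK D) 1497000 1500 8 = true := by decide +kernel
theorem c_fin_999 : allGrid (T.finOK D) 1498500 1500 8 = true := by decide +kernel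
theorem c_fin_1000 : allGrid (T.finOK D) 1500000 1500 8 = true := by decide +kernel
theorem c_fin_1001 : allGrid (T.finOK D) 1501500 1500 8 = true := by decide +kernel
theorem c_fin_1002 : allGrid (T.finOK D) 1503000 1500 8 = true := by decide +kernel
theorem c_fin_1003 : allGrid (T.finOK D) 1504500 1500 8 = true := by decide +kernel
theorem c_fin_1004 : allGrid (T.finOK D) 1506000 1500 8 = true := by decide +kernel
theorem c_fin_1005 : allGrid (T.finOK D) 1507500 1500 8 = true := by decide +kernel
theorem c_fin_1006 : allGrid (T.finOK D) 1509000 1500 8 = true := by decide +kernel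
theorem c_fin_1007 : allGrid (T.finOK D) 1510500 1500 8 = true := by decide +kernel
theorem c_fin_1008 : allGrid (T.finOK D) 1512000 1500 8 = true := by decide +kernel
theorem c_fin_1009 : allGrid (T.finOK D) 1513500 1500 8 = true := by decide +kernel
theorem c_fin_1010 : allGrid (T.finOK D) 1515000 1500 8 = true := by decide +kernel
theorem c_fin_1011 : allGrid (T.finOK D) 1516500 1500 8 = true := by decide +kernel
theorem c_fin_1012 : allGrid (T.finOK D) 1518000 1500 8 = true := by decide +kernel
theorem c_fin_1013 : allGrid (T.finOK D) 1519500 1500 8 = true := by decide +kernel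
theorem c_fin_1014 : allGrid (T.finOK D) 1521000 1500 8 = true := by decide +kernel
theorem c_fin_1015 : allGrid (T.finOK D) 1522500 1500 8 = true := by decide +kernel
theorem c_fin_1016 : allGrid (T.finOK D) 1524000 1500 8 = true := by decide +kernel

end Cfsg.Agent.Lib.Helper4.TCD.HNm
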