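import Cfsg.Agent.Lib.Helper4.TCD_HNm_Acc

namespace Cfsg.Agent.Lib.Helper4.TCD.HNm

open Cfsg.Agent.Lib.Helper4.TC

set_option maxRecDepth 100000
set_option Elab.async false

theorem c_fin_1017 : allGrid (T.finOK D) 1525500 1500 8 = true := by decide +kernel
theorem c_fin_1018 : allGrid (T.finOK D) 1527000 1500 8 = true := by decide +kernel
theorem c_fin_1019 : allGrid (T.finOK D) 1528500 1500 8 = true := by decide +kernel
theorem c_fin_1020 : allGrid (T.finOK D) 1530000 1500 8 = true := by decide +kernel
theorem c_fin_1021 : allGrid (T.finOK D) 1531500 1500 8 = true := by decide +kernel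
theorem c_fin_1022 : allGrid (T.finOK D) 1533000 1500 8 = true := by decide +kernel
theorem c_fin_1023 : allGrid (T.finOK D) 1534500 1500 8 = true := by decide +kernel
theorem c_fin_1024 : allGrid (T.finOK D) 1536000 1500 8 = true := by decide +kernel
theorem c_fin_1025 : allGrid (T.finOK D) 1537500 1500 8 = true := by decide +kernel
theorem c_perm_0 : allGrid (T.permOK1 D) 0 3750 8 = true := by decide +kernel
theorem c_perm_1 : allGrid (T.permOK1 D) 3750 3750 8 = true := by decide +kernel
theorem c_perm_2 : allGrid (T.permOK1 D) 7500 3750 8 = true := by decide +kernel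
theorem c_perm_3 : allGrid (T.permOK1 D) 11250 3750 8 = true := by decide +kernel
theorem c_perm_4 : allGrid (T.permOK1 D) 15000 3750 8 = true := by decide +kernel
theorem c_perm_5 : allGrid (T.permOK1 D) 18750 3750 8 = true := by decide +kernel
theorem c_perm_6 : allGrid (T.permOK1 D) 22500 3750 8 = true := by decide +kernel
theorem c_perm_7 : allGrid (T.permOK1 D) 26250 3750 8 = true := by decide +kernel
theorem c_perm_8 : allGrid (T.permOK1 D) 30000 3750 8 = true := by decide +kernel
theorem c_perm_9 : allGrid (T.permOK1 D) 33750 3750 8 = true := by decide +kernel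
theorem c_perm_10 : allGrid (T.permOK1 D) 37500 3750 8 = true := by decide +kernel
theorem c_perm_11 : allGrid (T.permOK1 D) 41250 3750 8 = true := by decide +kernel
theorem c_perm_12 : allGrid (T.permOK1 D) 45000 3750 8 = true := by decide +kernel
theorem c_perm_13 : allGrid (T.permOK1 D) 48750 3750 8 = true := by decide +kernel
theorem c_perm_14 : allGrid (T.permOK1 D) 52500 3750 8 = true := by decide +kernel
theorem c_perm_15 : allGrid (T.permOK1 D) 56250 3750 8 = true := by decide +kernel
theorem c_perm_16 : allGrid (T.permOK1 D) 60000 3750 8 = true := by decide +kernel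
theorem c_perm_17 : allGrid (T.permOK1 D) 63750 3750 8 = true := by decide +kernel
theorem c_perm_18 : allGrid (T.permOK1 D) 67500 3750 8 = true := by decide +kernel
theorem c_perm_19 : allGrid (T.permOK1 D) 71250 3750 8 = true := by decide +kernel
theorem c_perm_20 : allGrid (T.permOK1 D) 75000 3750 8 = true := by decide +kernel
theorem c_perm_21 : allGrid (T.permOK1 D) 78750 3750 8 = true := by decide +kernel
theorem c_perm_22 : allGrid (T.permOK1 D) 82500 3750 8 = true := by decide +kernel
theorem c_perm_23 : allGrid (T.permOK1 D) 86250 3750 8 = true := by decide +kernel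
theorem c_perm_24 : allGrid (T.permOK1 D) 90000 3750 8 = true := by decide +kernel
theorem c_perm_25 : allGrid (T.permOK1 D) 93750 3750 8 = true := by decide +kernel
theorem c_perm_26 : allGrid (T.permOK1 D) 97500 3750 8 = true := by decide +kernel
theorem c_perm_27 : allGrid (T.permOK1 D) 101250 3750 8 = true := by decide +kernel
theorem c_perm_28 : allGrid (T.permOK1 D) 105000 3750 8 = true := by decide +kernel
theorem c_perm_29 : allGrid (T.permOK1 D) 108750 3750 8 = true := by decide +kernel
theorem c_perm_30 : allGrid (T.permOK1 D) 112500 3750 8 = true := by decide +kernel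
theorem c_perm_31 : allGrid (T.permOK1 D) 116250 3750 8 = true := by decide +kernel
theorem c_perm_32 : allGrid (T.permOK1 D) 120000 3750 8 = true := by decide +kernel
theorem c_perm_33 : allGrid (T.permOK1 D) 123750 3750 8 = true := by decide +kernel
theorem c_perm_34 : allGrid (T.permOK1 D) 127500 3750 8 = true := by decide +kernel
theorem c_perm_35 : allGrid (T.permOK1 D) 131250 3750 8 = true := by decide +kernel
theorem c_perm_36 : allGrid (T.permOK1 D) 135000 3750 8 = true := by decide +kernel
theorem c_perm_37 : allGrid (T.permOK1 D) 138750 3750 8 = true := by decide +kernel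
theorem c_perm_38 : allGrid (T.permOK1 D) 142500 3750 8 = true := by decide +kernel
theorem c_perm_39 : allGrid (T.permOK1 D) 146250 3750 8 = true := by decide +kernel
theorem c_perm_40 : allGrid (T.permOK1 D) 150000 3750 8 = true := by decide +kernel

end Cfsg.Agent.Lib.Helper4.TCD.HNm
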