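import Cfsg.Agent.Lib.Helper4.TCD_HNm_Acc

namespace Cfsg.Agent.Lib.Helper4.TCD.HNm

open Cfsg.Agent.Lib.Helper4.TC

set_option maxRecDepth 100000
set_option Elab.async false

theorem c_rel_122 : allRange D.relOK 1994868 2506 = true := by decide +kernel
theorem c_rel_123 : allRange D.relOK 1997374 2846 = true := by decide +kernel
theorem c_rel_124 : allRange D.relOK 2000220 2501 = true := by decide +kernel
theorem c_rel_125 : allRange D.relOK 2002721 2772 = true := by decide +kernel
theorem c_rel_126 : allRange D.relOK 2005493 2701 = true := by decide +kernel
theorem c_rel_127 : allRange D.relOK 2008194 2985 = true := by decide +kernel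
theorem c_rel_128 : allRange D.relOK 2011179 2994 = true := by decide +kernel
theorem c_rel_129 : allRange D.relOK 2014173 2786 = true := by decide +kernel
theorem c_rel_130 : allRange D.relOK 2016959 2961 = true := by decide +kernel
theorem c_rel_131 : allRange D.relOK 2019920 2987 = true := by decide +kernel
theorem c_rel_132 : allRange D.relOK 2022907 2046 = true := by decide +kernel
theorem c_rel_133 : allRange D.relOK 2024953 1735 = true := by decide +kernel
theorem c_rel_134 : allRange D.relOK 2026688 1995 = true := by decide +kernel
theorem c_rel_135 : allRange D.relOK 2028683 2787 = true := by decide +kernel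
theorem c_rel_136 : allRange D.relOK 2031470 2928 = true := by decide +kernel
theorem c_rel_137 : allRange D.relOK 2034398 3037 = true := by decide +kernel
theorem c_rel_138 : allRange D.relOK 2037435 2877 = true := by decide +kernel
theorem c_rel_139 : allRange D.relOK 2040312 2913 = true := by decide +kernel
theorem c_rel_140 : allRange D.relOK 2043225 3009 = true := by decide +kernel
theorem c_rel_141 : allRange D.relOK 2046234 3195 = true := by decide +kernel
theorem c_rel_142 : allRange D.relOK 2049429 2821 = true := by decide +kernel
theorem c_rel_143 : allRange D.relOK 2052250 2729 = true := by decide +kernel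
theorem c_rel_144 : allRange D.relOK 2054979 3112 = true := by decide +kernel
theorem c_rel_145 : allRange D.relOK 2058091 3147 = true := by decide +kernel
theorem c_rel_146 : allRange D.relOK 2061238 3310 = true := by decide +kernel
theorem c_rel_147 : allRange D.relOK 2064548 3221 = true := by decide +kernel
theorem c_rel_148 : allRange D.relOK 2067769 3229 = true := by decide +kernel
theorem c_rel_149 : allRange D.relOK 2070998 2671 = true := by decide +kernel
theorem c_rel_150 : allRange D.relOK 2073669 2542 = true := by decide +kernel
theorem c_rel_151 : allRange D.relOK 2076211 2908 = true := by decide +kernel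
theorem c_rel_152 : allRange D.relOK 2079119 2654 = true := by decide +kernel
theorem c_rel_153 : allRange D.relOK 2081773 2654 = true := by decide +kernel
theorem c_rel_154 : allRange D.relOK 2084427 2938 = true := by decide +kernel
theorem c_rel_155 : allRange D.relOK 2087365 2748 = true := by decide +kernel
theorem c_rel_156 : allRange D.relOK 2090113 2756 = true := by decide +kernel
theorem c_rel_157 : allRange D.relOK 2092869 2729 = true := by decide +kernel
theorem c_rel_158 : allRange D.relOK 2095598 2819 = true := by decide +kernel
theorem c_rel_159 : allRange D.relOK 2098417 2869 = true := by decide +kernel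
theorem c_rel_160 : allRange D.relOK 2101286 2892 = true := by decide +kernel
theorem c_rel_161 : allRange D.relOK 2104178 2499 = true := by decide +kernel
theorem c_rel_162 : allRange D.relOK 2106677 2207 = true := by decide +kernel
theorem c_rel_163 : allRange D.relOK 2108884 2875 = true := by decide +kernel
theorem c_rel_164 : allRange D.relOK 2111759 3181 = true := by decide +kernel
theorem c_rel_165 : allRange D.relOK 2114940 3260 = true := by decide +kernel
theorem c_rel_166 : allRange D.relOK 2118200 2516 = true := by decide +kernel
theorem c_rel_167 : allRange D.relOK 2120716 2669 = true := by decide +kernel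
theorem c_rel_168 : allRange D.relOK 2123385 2162 = true := by decide +kernel
theorem c_rel_169 : allRange D.relOK 2125547 2437 = true := by decide +kernel
theorem c_rel_170 : allRange D.relOK 2127984 2475 = true := by decide +kernel
theorem c_rel_171 : allRange D.relOK 2130459 2539 = true := by decide +kernel
theorem c_rel_172 : allRange D.relOK 2132998 2758 = true := by decide +kernel
theorem c_rel_173 : allRange D.relOK 2135756 2686 = true := by decide +kernel
theorem c_rel_174 : allRange D.relOK 2138442 2108 = true := by decide +kernel
theorem c_rel_175 : allRange D.relOK 2140550 2275 = true := by decide +kernel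
theorem c_rel_176 : allRange D.relOK 2142825 2659 = true := by decide +kernel
theorem c_rel_177 : allRange D.relOK 2145484 2660 = true := by decide +kernel
theorem c_rel_178 : allRange D.relOK 2148144 2520 = true := by decide +kernel
theorem c_rel_179 : allRange D.relOK 2150664 2443 = true := by decide +kernel
theorem c_rel_180 : allRange D.relOK 2153107 2390 = true := by decide +kernel
theorem c_rel_181 : allRange D.relOK 2155497 2193 = true := by decide +kernel
theorem c_rel_182 : allRange D.relOK 2157690 2461 = true := by decide +kernel
theorem c_rel_183 : allRange D.relOK 2160151 2708 = true := by decide +kernel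
theorem c_rel_184 : allRange D.relOK 2162859 3068 = true := by decide +kernel
theorem c_rel_185 : allRange D.relOK 2165927 2290 = true := by decide +kernel
theorem c_rel_186 : allRange D.relOK 2168217 2239 = true := by decide +kernel
theorem c_rel_187 : allRange D.relOK 2170456 2547 = true := by decide +kernel
theorem c_rel_188 : allRange D.relOK 2173003 2767 = true := by decide +kernel
theorem c_rel_189 : allRange D.relOK 2175770 2753 = true := by decide +kernel
theorem c_rel_190 : allRange D.relOK 2178523 2547 = true := by decide +kernel
theorem c_rel_191 : allRange D.relOK 2181070 2390 = true := by decide +kernel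
theorem c_rel_192 : allRange D.relOK 2183460 2366 = true := by decide +kernel
theorem c_rel_193 : allRange D.relOK 2185826 2275 = true := by decide +kernel
theorem c_rel_194 : allRange D.relOK 2188101 2313 = true := by decide +kernel
theorem c_rel_195 : allRange D.relOK 2190414 2523 = true := by decide +kernel
theorem c_rel_196 : allRange D.relOK 2192937 2476 = true := by decide +kernel
theorem c_rel_197 : allRange D.relOK 2195413 2064 = true := by decide +kernel
theorem c_rel_198 : allRange D.relOK 2197477 2361 = true := by decide +kernel
theorem c_rel_199 : allRange D.relOK 2199838 2161 = true := by decide +kernel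
theorem c_rel_200 : allRange D.relOK 2201999 2136 = true := by decide +kernel
theorem c_rel_201 : allRange D.relOK 2204135 2349 = true := by decide +kernel
theorem c_rel_202 : allRange D.relOK 2206484 2681 = true := by decide +kernel
theorem c_rel_203 : allRange D.relOK 2209165 2119 = true := by decide +kernel
theorem c_rel_204 : allRange D.relOK 2211284 2677 = true := by decide +kernel
theorem c_rel_205 : allRange D.relOK 2213961 2258 = true := by decide +kernel
theorem c_rel_206 : allRange D.relOK 2216219 2207 = true := by decide +kernel
theorem c_rel_207 : allRange D.relOK 2218426 2663 = true := by decide +kernel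
theorem c_rel_208 : allRange D.relOK 2221089 2564 = true := by decide +kernel
theorem c_rel_209 : allRange D.relOK 2223653 2356 = true := by decide +kernel
theorem c_rel_210 : allRange D.relOK 2226009 2296 = true := by decide +kernel
theorem c_rel_211 : allRange D.relOK 2228305 2438 = true := by decide +kernel
theorem c_rel_212 : allRange D.relOK 2230743 2542 = true := by decide +kernel
theorem c_rel_213 : allRange D.relOK 2233285 1977 = true := by decide +kernel
theorem c_rel_214 : allRange D.relOK 2235262 2163 = true := by decide +kernel
theorem c_rel_215 : allRange D.relOK 2237425 2186 = true := by decide +kernel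
theorem c_rel_216 : allRange D.relOK 2239611 2125 = true := by decide +kernel
theorem c_rel_217 : allRange D.relOK 2241736 2100 = true := by decide +kernel
theorem c_rel_218 : allRange D.relOK 2243836 2100 = true := by decide +kernel
theorem c_rel_219 : allRange D.relOK 2245936 2289 = true := by decide +kernel
theorem c_rel_220 : allRange D.relOK 2248225 2497 = true := by decide +kernel

end Cfsg.Agent.Lib.Helper4.TCD.HNm
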