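import Cfsg.Agent.Lib.Helper4.TCD_HNm_Acc

namespace Cfsg.Agent.Lib.Helper4.TCD.HNm

open Cfsg.Agent.Lib.Helper4.TC

set_option maxRecDepth 100000
set_option Elab.async false

theorem c_perm_41 : allGrid (T.permOK1 D) 153750 3750 8 = true := by decide +kernel
theorem c_perm_42 : allGrid (T.permOK1 D) 157500 3750 8 = true := by decide +kernel
theorem c_perm_43 : allGrid (T.permOK1 D) 161250 3750 8 = true := by decide +kernel
theorem c_perm_44 : allGrid (T.permOK1 D) 165000 3750 8 = true := by decide +kernel
theorem c_perm_45 : allGrid (T.permOK1 D) 168750 3750 8 = true := by decide +kernel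
theorem c_perm_46 : allGrid (T.permOK1 D) 172500 3750 8 = true := by decide +kernel
theorem c_perm_47 : allGrid (T.permOK1 D) 176250 3750 8 = true := by decide +kernel
theorem c_perm_48 : allGrid (T.permOK1 D) 180000 3750 8 = true := by decide +kernel
theorem c_perm_49 : allGrid (T.permOK1 D) 183750 3750 8 = true := by decide +kernel
theorem c_perm_50 : allGrid (T.permOK1 D) 187500 3750 8 = true := by decide +kernel
theorem c_perm_51 : allGrid (T.permOK1 D) 191250 3750 8 = true := by decide +kernel
theorem c_perm_52 : allGrid (T.permOK1 D) 195000 3750 8 = true := by decide +kernel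
theorem c_perm_53 : allGrid (T.permOK1 D) 198750 3750 8 = true := by decide +kernel
theorem c_perm_54 : allGrid (T.permOK1 D) 202500 3750 8 = true := by decide +kernel
theorem c_perm_55 : allGrid (T.permOK1 D) 206250 3750 8 = true := by decide +kernel
theorem c_perm_56 : allGrid (T.permOK1 D) 210000 3750 8 = true := by decide +kernel
theorem c_perm_57 : allGrid (T.permOK1 D) 213750 3750 8 = true := by decide +kernel
theorem c_perm_58 : allGrid (T.permOK1 D) 217500 3750 8 = true := by decide +kernel
theorem c_perm_59 : allGrid (T.permOK1 D) 221250 3750 8 = true := by decide +kernel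
theorem c_perm_60 : allGrid (T.permOK1 D) 225000 3750 8 = true := by decide +kernel
theorem c_perm_61 : allGrid (T.permOK1 D) 228750 3750 8 = true := by decide +kernel
theorem c_perm_62 : allGrid (T.permOK1 D) 232500 3750 8 = true := by decide +kernel
theorem c_perm_63 : allGrid (T.permOK1 D) 236250 3750 8 = true := by decide +kernel
theorem c_perm_64 : allGrid (T.permOK1 D) 240000 3750 8 = true := by decide +kernel
theorem c_perm_65 : allGrid (T.permOK1 D) 243750 3750 8 = true := by decide +kernel
theorem c_perm_66 : allGrid (T.permOK1 D) 247500 3750 8 = true := by decide +kernel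
theorem c_perm_67 : allGrid (T.permOK1 D) 251250 3750 8 = true := by decide +kernel
theorem c_perm_68 : allGrid (T.permOK1 D) 255000 3750 8 = true := by decide +kernel
theorem c_perm_69 : allGrid (T.permOK1 D) 258750 3750 8 = true := by decide +kernel
theorem c_perm_70 : allGrid (T.permOK1 D) 262500 3750 8 = true := by decide +kernel
theorem c_perm_71 : allGrid (T.permOK1 D) 266250 3750 8 = true := by decide +kernel
theorem c_perm_72 : allGrid (T.permOK1 D) 270000 3750 8 = true := by decide +kernel
theorem c_perm_73 : allGrid (T.permOK1 D) 273750 3750 8 = true := by decide +kernel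
theorem c_perm_74 : allGrid (T.permOK1 D) 277500 3750 8 = true := by decide +kernel
theorem c_perm_75 : allGrid (T.permOK1 D) 281250 3750 8 = true := by decide +kernel
theorem c_perm_76 : allGrid (T.permOK1 D) 285000 3750 8 = true := by decide +kernel
theorem c_perm_77 : allGrid (T.permOK1 D) 288750 3750 8 = true := by decide +kernel
theorem c_perm_78 : allGrid (T.permOK1 D) 292500 3750 8 = true := by decide +kernel
theorem c_perm_79 : allGrid (T.permOK1 D) 296250 3750 8 = true := by decide +kernel
theorem c_perm_80 : allGrid (T.permOK1 D) 300000 3750 8 = true := by decide +kernel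
theorem c_perm_81 : allGrid (T.permOK1 D) 303750 3750 8 = true := by decide +kernel
theorem c_perm_82 : allGrid (T.permOK1 D) 307500 3750 8 = true := by decide +kernel
theorem c_perm_83 : allGrid (T.permOK1 D) 311250 3750 8 = true := by decide +kernel
theorem c_perm_84 : allGrid (T.permOK1 D) 315000 3750 8 = true := by decide +kernel
theorem c_perm_85 : allGrid (T.permOK1 D) 318750 3750 8 = true := by decide +kernel
theorem c_perm_86 : allGrid (T.permOK1 D) 322500 3750 8 = true := by decide +kernel
theorem c_perm_87 : allGrid (T.permOK1 D) 326250 3750 8 = true := by decide +kernel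
theorem c_perm_88 : allGrid (T.permOK1 D) 330000 3750 8 = true := by decide +kernel
theorem c_perm_89 : allGrid (T.permOK1 D) 333750 3750 8 = true := by decide +kernel
theorem c_perm_90 : allGrid (T.permOK1 D) 337500 3750 8 = true := by decide +kernel

end Cfsg.Agent.Lib.Helper4.TCD.HNm
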