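import Cfsg.Agent.Lib.Helper4.TCD_HNm_Acc

namespace Cfsg.Agent.Lib.Helper4.TCD.HNm

open Cfsg.Agent.Lib.Helper4.TC

set_option maxRecDepth 100000
set_option Elab.async false

theorem c_perm_91 : allGrid (T.permOK1 D) 341250 3750 8 = true := by decide +kernel
theorem c_perm_92 : allGrid (T.permOK1 D) 345000 3750 8 = true := by decide +kernel
theorem c_perm_93 : allGrid (T.permOK1 D) 348750 3750 8 = true := by decide +kernel
theorem c_perm_94 : allGrid (T.permOK1 D) 352500 3750 8 = true := by decide +kernel
theorem c_perm_95 : allGrid (T.permOK1 D) 356250 3750 8 = true := by decide +kernel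
theorem c_perm_96 : allGrid (T.permOK1 D) 360000 3750 8 = true := by decide +kernel
theorem c_perm_97 : allGrid (T.permOK1 D) 363750 3750 8 = true := by decide +kernel
theorem c_perm_98 : allGrid (T.permOK1 D) 367500 3750 8 = true := by decide +kernel
theorem c_perm_99 : allGrid (T.permOK1 D) 371250 3750 8 = true := by decide +kernel
theorem c_perm_100 : allGrid (T.permOK1 D) 375000 3750 8 = true := by decide +kernel
theorem c_perm_101 : allGrid (T.permOK1 D) 378750 3750 8 = true := by decide +kernel
theorem c_perm_102 : allGrid (T.permOK1 D) 382500 3750 8 = true := by decide +kernel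
theorem c_perm_103 : allGrid (T.permOK1 D) 386250 3750 8 = true := by decide +kernel
theorem c_perm_104 : allGrid (T.permOK1 D) 390000 3750 8 = true := by decide +kernel
theorem c_perm_105 : allGrid (T.permOK1 D) 393750 3750 8 = true := by decide +kernel
theorem c_perm_106 : allGrid (T.permOK1 D) 397500 3750 8 = true := by decide +kernel
theorem c_perm_107 : allGrid (T.permOK1 D) 401250 3750 8 = true := by decide +kernel
theorem c_perm_108 : allGrid (T.permOK1 D) 405000 3750 8 = true := by decide +kernel
theorem c_perm_109 : allGrid (T.permOK1 D) 408750 3750 8 = true := by decide +kernel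
theorem c_perm_110 : allGrid (T.permOK1 D) 412500 3750 8 = true := by decide +kernel
theorem c_perm_111 : allGrid (T.permOK1 D) 416250 3750 8 = true := by decide +kernel
theorem c_perm_112 : allGrid (T.permOK1 D) 420000 3750 8 = true := by decide +kernel
theorem c_perm_113 : allGrid (T.permOK1 D) 423750 3750 8 = true := by decide +kernel
theorem c_perm_114 : allGrid (T.permOK1 D) 427500 3750 8 = true := by decide +kernel
theorem c_perm_115 : allGrid (T.permOK1 D) 431250 3750 8 = true := by decide +kernel
theorem c_perm_116 : allGrid (T.permOK1 D) 435000 3750 8 = true := by decide +kernel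
theorem c_perm_117 : allGrid (T.permOK1 D) 438750 3750 8 = true := by decide +kernel
theorem c_perm_118 : allGrid (T.permOK1 D) 442500 3750 8 = true := by decide +kernel
theorem c_perm_119 : allGrid (T.permOK1 D) 446250 3750 8 = true := by decide +kernel
theorem c_perm_120 : allGrid (T.permOK1 D) 450000 3750 8 = true := by decide +kernel
theorem c_perm_121 : allGrid (T.permOK1 D) 453750 3750 8 = true := by decide +kernel
theorem c_perm_122 : allGrid (T.permOK1 D) 457500 3750 8 = true := by decide +kernel
theorem c_perm_123 : allGrid (T.permOK1 D) 461250 3750 8 = true := by decide +kernel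
theorem c_perm_124 : allGrid (T.permOK1 D) 465000 3750 8 = true := by decide +kernel
theorem c_perm_125 : allGrid (T.permOK1 D) 468750 3750 8 = true := by decide +kernel
theorem c_perm_126 : allGrid (T.permOK1 D) 472500 3750 8 = true := by decide +kernel
theorem c_perm_127 : allGrid (T.permOK1 D) 476250 3750 8 = true := by decide +kernel
theorem c_perm_128 : allGrid (T.permOK1 D) 480000 3750 8 = true := by decide +kernel
theorem c_perm_129 : allGrid (T.permOK1 D) 483750 3750 8 = true := by decide +kernel
theorem c_perm_130 : allGrid (T.permOK1 D) 487500 3750 8 = true := by decide +kernel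
theorem c_perm_131 : allGrid (T.permOK1 D) 491250 3750 8 = true := by decide +kernel
theorem c_perm_132 : allGrid (T.permOK1 D) 495000 3750 8 = true := by decide +kernel
theorem c_perm_133 : allGrid (T.permOK1 D) 498750 3750 8 = true := by decide +kernel
theorem c_perm_134 : allGrid (T.permOK1 D) 502500 3750 8 = true := by decide +kernel
theorem c_perm_135 : allGrid (T.permOK1 D) 506250 3750 8 = true := by decide +kernel
theorem c_perm_136 : allGrid (T.permOK1 D) 510000 3750 8 = true := by decide +kernel
theorem c_perm_137 : allGrid (T.permOK1 D) 513750 3750 8 = true := by decide +kernel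
theorem c_perm_138 : allGrid (T.permOK1 D) 517500 3750 8 = true := by decide +kernel
theorem c_perm_139 : allGrid (T.permOK1 D) 521250 3750 8 = true := by decide +kernel
theorem c_perm_140 : allGrid (T.permOK1 D) 525000 3750 8 = true := by decide +kernel

end Cfsg.Agent.Lib.Helper4.TCD.HNm
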