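import Cfsg.Agent.Lib.Helper4.TCD_HNm_Acc

namespace Cfsg.Agent.Lib.Helper4.TCD.HNm

open Cfsg.Agent.Lib.Helper4.TC

set_option maxRecDepth 100000
set_option Elab.async false

theorem c_perm_141 : allGrid (T.permOK1 D) 528750 3750 8 = true := by decide +kernel
theorem c_perm_142 : allGrid (T.permOK1 D) 532500 3750 8 = true := by decide +kernel
theorem c_perm_143 : allGrid (T.permOK1 D) 536250 3750 8 = true := by decide +kernel
theorem c_perm_144 : allGrid (T.permOK1 D) 540000 3750 8 = true := by decide +kernel
theorem c_perm_145 : allGrid (T.permOK1 D) 543750 3750 8 = true := by decide +kernel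
theorem c_perm_146 : allGrid (T.permOK1 D) 547500 3750 8 = true := by decide +kernel
theorem c_perm_147 : allGrid (T.permOK1 D) 551250 3750 8 = true := by decide +kernel
theorem c_perm_148 : allGrid (T.permOK1 D) 555000 3750 8 = true := by decide +kernel
theorem c_perm_149 : allGrid (T.permOK1 D) 558750 3750 8 = true := by decide +kernel
theorem c_perm_150 : allGrid (T.permOK1 D) 562500 3750 8 = true := by decide +kernel
theorem c_perm_151 : allGrid (T.permOK1 D) 566250 3750 8 = true := by decide +kernel
theorem c_perm_152 : allGrid (T.permOK1 D) 570000 3750 8 = true := by decide +kernel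
theorem c_perm_153 : allGrid (T.permOK1 D) 573750 3750 8 = true := by decide +kernel
theorem c_perm_154 : allGrid (T.permOK1 D) 577500 3750 8 = true := by decide +kernel
theorem c_perm_155 : allGrid (T.permOK1 D) 581250 3750 8 = true := by decide +kernel
theorem c_perm_156 : allGrid (T.permOK1 D) 585000 3750 8 = true := by decide +kernel
theorem c_perm_157 : allGrid (T.permOK1 D) 588750 3750 8 = true := by decide +kernel
theorem c_perm_158 : allGrid (T.permOK1 D) 592500 3750 8 = true := by decide +kernel
theorem c_perm_159 : allGrid (T.permOK1 D) 596250 3750 8 = true := by decide +kernel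
theorem c_perm_160 : allGrid (T.permOK1 D) 600000 3750 8 = true := by decide +kernel
theorem c_perm_161 : allGrid (T.permOK1 D) 603750 3750 8 = true := by decide +kernel
theorem c_perm_162 : allGrid (T.permOK1 D) 607500 3750 8 = true := by decide +kernel
theorem c_perm_163 : allGrid (T.permOK1 D) 611250 3750 8 = true := by decide +kernel
theorem c_perm_164 : allGrid (T.permOK1 D) 615000 3750 8 = true := by decide +kernel
theorem c_perm_165 : allGrid (T.permOK1 D) 618750 3750 8 = true := by decide +kernel
theorem c_perm_166 : allGrid (T.permOK1 D) 622500 3750 8 = true := by decide +kernel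
theorem c_perm_167 : allGrid (T.permOK1 D) 626250 3750 8 = true := by decide +kernel
theorem c_perm_168 : allGrid (T.permOK1 D) 630000 3750 8 = true := by decide +kernel
theorem c_perm_169 : allGrid (T.permOK1 D) 633750 3750 8 = true := by decide +kernel
theorem c_perm_170 : allGrid (T.permOK1 D) 637500 3750 8 = true := by decide +kernel
theorem c_perm_171 : allGrid (T.permOK1 D) 641250 3750 8 = true := by decide +kernel
theorem c_perm_172 : allGrid (T.permOK1 D) 645000 3750 8 = true := by decide +kernel
theorem c_perm_173 : allGrid (T.permOK1 D) 648750 3750 8 = true := by decide +kernel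
theorem c_perm_174 : allGrid (T.permOK1 D) 652500 3750 8 = true := by decide +kernel
theorem c_perm_175 : allGrid (T.permOK1 D) 656250 3750 8 = true := by decide +kernel
theorem c_perm_176 : allGrid (T.permOK1 D) 660000 3750 8 = true := by decide +kernel
theorem c_perm_177 : allGrid (T.permOK1 D) 663750 3750 8 = true := by decide +kernel
theorem c_perm_178 : allGrid (T.permOK1 D) 667500 3750 8 = true := by decide +kernel
theorem c_perm_179 : allGrid (T.permOK1 D) 671250 3750 8 = true := by decide +kernel
theorem c_perm_180 : allGrid (T.permOK1 D) 675000 3750 8 = true := by decide +kernel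
theorem c_perm_181 : allGrid (T.permOK1 D) 678750 3750 8 = true := by decide +kernel
theorem c_perm_182 : allGrid (T.permOK1 D) 682500 3750 8 = true := by decide +kernel
theorem c_perm_183 : allGrid (T.permOK1 D) 686250 3750 8 = true := by decide +kernel
theorem c_perm_184 : allGrid (T.permOK1 D) 690000 3750 8 = true := by decide +kernel
theorem c_perm_185 : allGrid (T.permOK1 D) 693750 3750 8 = true := by decide +kernel
theorem c_perm_186 : allGrid (T.permOK1 D) 697500 3750 8 = true := by decide +kernel
theorem c_perm_187 : allGrid (T.permOK1 D) 701250 3750 8 = true := by decide +kernel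
theorem c_perm_188 : allGrid (T.permOK1 D) 705000 3750 8 = true := by decide +kernel
theorem c_perm_189 : allGrid (T.permOK1 D) 708750 3750 8 = true := by decide +kernel
theorem c_perm_190 : allGrid (T.permOK1 D) 712500 3750 8 = true := by decide +kernel

end Cfsg.Agent.Lib.Helper4.TCD.HNm
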