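import Cfsg.Agent.Lib.Helper4.TCD_HNm_Acc

namespace Cfsg.Agent.Lib.Helper4.TCD.HNm

open Cfsg.Agent.Lib.Helper4.TC

set_option maxRecDepth 100000
set_option Elab.async false

theorem c_perm_191 : allGrid (T.permOK1 D) 716250 3750 8 = true := by decide +kernel
theorem c_perm_192 : allGrid (T.permOK1 D) 720000 3750 8 = true := by decide +kernel
theorem c_perm_193 : allGrid (T.permOK1 D) 723750 3750 8 = true := by decide +kernel
theorem c_perm_194 : allGrid (T.permOK1 D) 727500 3750 8 = true := by decide +kernel
theorem c_perm_195 : allGrid (T.permOK1 D) 731250 3750 8 = true := by decide +kernel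
theorem c_perm_196 : allGrid (T.permOK1 D) 735000 3750 8 = true := by decide +kernel
theorem c_perm_197 : allGrid (T.permOK1 D) 738750 3750 8 = true := by decide +kernel
theorem c_perm_198 : allGrid (T.permOK1 D) 742500 3750 8 = true := by decide +kernel
theorem c_perm_199 : allGrid (T.permOK1 D) 746250 3750 8 = true := by decide +kernel
theorem c_perm_200 : allGrid (T.permOK1 D) 750000 3750 8 = true := by decide +kernel
theorem c_perm_201 : allGrid (T.permOK1 D) 753750 3750 8 = true := by decide +kernel
theorem c_perm_202 : allGrid (T.permOK1 D) 757500 3750 8 = true := by decide +kernel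
theorem c_perm_203 : allGrid (T.permOK1 D) 761250 3750 8 = true := by decide +kernel
theorem c_perm_204 : allGrid (T.permOK1 D) 765000 3750 8 = true := by decide +kernel
theorem c_perm_205 : allGrid (T.permOK1 D) 768750 3750 8 = true := by decide +kernel
theorem c_perm_206 : allGrid (T.permOK1 D) 772500 3750 8 = true := by decide +kernel
theorem c_perm_207 : allGrid (T.permOK1 D) 776250 3750 8 = true := by decide +kernel
theorem c_perm_208 : allGrid (T.permOK1 D) 780000 3750 8 = true := by decide +kernel
theorem c_perm_209 : allGrid (T.permOK1 D) 783750 3750 8 = true := by decide +kernel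
theorem c_perm_210 : allGrid (T.permOK1 D) 787500 3750 8 = true := by decide +kernel
theorem c_perm_211 : allGrid (T.permOK1 D) 791250 3750 8 = true := by decide +kernel
theorem c_perm_212 : allGrid (T.permOK1 D) 795000 3750 8 = true := by decide +kernel
theorem c_perm_213 : allGrid (T.permOK1 D) 798750 3750 8 = true := by decide +kernel
theorem c_perm_214 : allGrid (T.permOK1 D) 802500 3750 8 = true := by decide +kernel
theorem c_perm_215 : allGrid (T.permOK1 D) 806250 3750 8 = true := by decide +kernel
theorem c_perm_216 : allGrid (T.permOK1 D) 810000 3750 8 = true := by decide +kernel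
theorem c_perm_217 : allGrid (T.permOK1 D) 813750 3750 8 = true := by decide +kernel
theorem c_perm_218 : allGrid (T.permOK1 D) 817500 3750 8 = true := by decide +kernel
theorem c_perm_219 : allGrid (T.permOK1 D) 821250 3750 8 = true := by decide +kernel
theorem c_perm_220 : allGrid (T.permOK1 D) 825000 3750 8 = true := by decide +kernel
theorem c_perm_221 : allGrid (T.permOK1 D) 828750 3750 8 = true := by decide +kernel
theorem c_perm_222 : allGrid (T.permOK1 D) 832500 3750 8 = true := by decide +kernel
theorem c_perm_223 : allGrid (T.permOK1 D) 836250 3750 8 = true := by decide +kernel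
theorem c_perm_224 : allGrid (T.permOK1 D) 840000 3750 8 = true := by decide +kernel
theorem c_perm_225 : allGrid (T.permOK1 D) 843750 3750 8 = true := by decide +kernel
theorem c_perm_226 : allGrid (T.permOK1 D) 847500 3750 8 = true := by decide +kernel
theorem c_perm_227 : allGrid (T.permOK1 D) 851250 3750 8 = true := by decide +kernel
theorem c_perm_228 : allGrid (T.permOK1 D) 855000 3750 8 = true := by decide +kernel
theorem c_perm_229 : allGrid (T.permOK1 D) 858750 3750 8 = true := by decide +kernel
theorem c_perm_230 : allGrid (T.permOK1 D) 862500 3750 8 = true := by decide +kernel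
theorem c_perm_231 : allGrid (T.permOK1 D) 866250 3750 8 = true := by decide +kernel
theorem c_perm_232 : allGrid (T.permOK1 D) 870000 3750 8 = true := by decide +kernel
theorem c_perm_233 : allGrid (T.permOK1 D) 873750 3750 8 = true := by decide +kernel
theorem c_perm_234 : allGrid (T.permOK1 D) 877500 3750 8 = true := by decide +kernel
theorem c_perm_235 : allGrid (T.permOK1 D) 881250 3750 8 = true := by decide +kernel
theorem c_perm_236 : allGrid (T.permOK1 D) 885000 3750 8 = true := by decide +kernel
theorem c_perm_237 : allGrid (T.permOK1 D) 888750 3750 8 = true := by decide +kernel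
theorem c_perm_238 : allGrid (T.permOK1 D) 892500 3750 8 = true := by decide +kernel
theorem c_perm_239 : allGrid (T.permOK1 D) 896250 3750 8 = true := by decide +kernel
theorem c_perm_240 : allGrid (T.permOK1 D) 900000 3750 8 = true := by decide +kernel

end Cfsg.Agent.Lib.Helper4.TCD.HNm
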