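import Cfsg.Agent.Lib.Helper4.TCD_HNm_Acc

namespace Cfsg.Agent.Lib.Helper4.TCD.HNm

open Cfsg.Agent.Lib.Helper4.TC

set_option maxRecDepth 100000
set_option Elab.async false

theorem c_perm_241 : allGrid (T.permOK1 D) 903750 3750 8 = true := by decide +kernel
theorem c_perm_242 : allGrid (T.permOK1 D) 907500 3750 8 = true := by decide +kernel
theorem c_perm_243 : allGrid (T.permOK1 D) 911250 3750 8 = true := by decide +kernel
theorem c_perm_244 : allGrid (T.permOK1 D) 915000 3750 8 = true := by decide +kernel
theorem c_perm_245 : allGrid (T.permOK1 D) 918750 3750 8 = true := by decide +kernel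
theorem c_perm_246 : allGrid (T.permOK1 D) 922500 3750 8 = true := by decide +kernel
theorem c_perm_247 : allGrid (T.permOK1 D) 926250 3750 8 = true := by decide +kernel
theorem c_perm_248 : allGrid (T.permOK1 D) 930000 3750 8 = true := by decide +kernel
theorem c_perm_249 : allGrid (T.permOK1 D) 933750 3750 8 = true := by decide +kernel
theorem c_perm_250 : allGrid (T.permOK1 D) 937500 3750 8 = true := by decide +kernel
theorem c_perm_251 : allGrid (T.permOK1 D) 941250 3750 8 = true := by decide +kernel
theorem c_perm_252 : allGrid (T.permOK1 D) 945000 3750 8 = true := by decide +kernel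
theorem c_perm_253 : allGrid (T.permOK1 D) 948750 3750 8 = true := by decide +kernel
theorem c_perm_254 : allGrid (T.permOK1 D) 952500 3750 8 = true := by decide +kernel
theorem c_perm_255 : allGrid (T.permOK1 D) 956250 3750 8 = true := by decide +kernel
theorem c_perm_256 : allGrid (T.permOK1 D) 960000 3750 8 = true := by decide +kernel
theorem c_perm_257 : allGrid (T.permOK1 D) 963750 3750 8 = true := by decide +kernel
theorem c_perm_258 : allGrid (T.permOK1 D) 967500 3750 8 = true := by decide +kernel
theorem c_perm_259 : allGrid (T.permOK1 D) 971250 3750 8 = true := by decide +kernel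
theorem c_perm_260 : allGrid (T.permOK1 D) 975000 3750 8 = true := by decide +kernel
theorem c_perm_261 : allGrid (T.permOK1 D) 978750 3750 8 = true := by decide +kernel
theorem c_perm_262 : allGrid (T.permOK1 D) 982500 3750 8 = true := by decide +kernel
theorem c_perm_263 : allGrid (T.permOK1 D) 986250 3750 8 = true := by decide +kernel
theorem c_perm_264 : allGrid (T.permOK1 D) 990000 3750 8 = true := by decide +kernel
theorem c_perm_265 : allGrid (T.permOK1 D) 993750 3750 8 = true := by decide +kernel
theorem c_perm_266 : allGrid (T.permOK1 D) 997500 3750 8 = true := by decide +kernel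
theorem c_perm_267 : allGrid (T.permOK1 D) 1001250 3750 8 = true := by decide +kernel
theorem c_perm_268 : allGrid (T.permOK1 D) 1005000 3750 8 = true := by decide +kernel
theorem c_perm_269 : allGrid (T.permOK1 D) 1008750 3750 8 = true := by decide +kernel
theorem c_perm_270 : allGrid (T.permOK1 D) 1012500 3750 8 = true := by decide +kernel
theorem c_perm_271 : allGrid (T.permOK1 D) 1016250 3750 8 = true := by decide +kernel
theorem c_perm_272 : allGrid (T.permOK1 D) 1020000 3750 8 = true := by decide +kernel
theorem c_perm_273 : allGrid (T.permOK1 D) 1023750 3750 8 = true := by decide +kernel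
theorem c_perm_274 : allGrid (T.permOK1 D) 1027500 3750 8 = true := by decide +kernel
theorem c_perm_275 : allGrid (T.permOK1 D) 1031250 3750 8 = true := by decide +kernel
theorem c_perm_276 : allGrid (T.permOK1 D) 1035000 3750 8 = true := by decide +kernel
theorem c_perm_277 : allGrid (T.permOK1 D) 1038750 3750 8 = true := by decide +kernel
theorem c_perm_278 : allGrid (T.permOK1 D) 1042500 3750 8 = true := by decide +kernel
theorem c_perm_279 : allGrid (T.permOK1 D) 1046250 3750 8 = true := by decide +kernel
theorem c_perm_280 : allGrid (T.permOK1 D) 1050000 3750 8 = true := by decide +kernel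
theorem c_perm_281 : allGrid (T.permOK1 D) 1053750 3750 8 = true := by decide +kernel
theorem c_perm_282 : allGrid (T.permOK1 D) 1057500 3750 8 = true := by decide +kernel
theorem c_perm_283 : allGrid (T.permOK1 D) 1061250 3750 8 = true := by decide +kernel
theorem c_perm_284 : allGrid (T.permOK1 D) 1065000 3750 8 = true := by decide +kernel
theorem c_perm_285 : allGrid (T.permOK1 D) 1068750 3750 8 = true := by decide +kernel
theorem c_perm_286 : allGrid (T.permOK1 D) 1072500 3750 8 = true := by decide +kernel
theorem c_perm_287 : allGrid (T.permOK1 D) 1076250 3750 8 = true := by decide +kernel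
theorem c_perm_288 : allGrid (T.permOK1 D) 1080000 3750 8 = true := by decide +kernel
theorem c_perm_289 : allGrid (T.permOK1 D) 1083750 3750 8 = true := by decide +kernel
theorem c_perm_290 : allGrid (T.permOK1 D) 1087500 3750 8 = true := by decide +kernel

end Cfsg.Agent.Lib.Helper4.TCD.HNm
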