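import Cfsg.Agent.Lib.Helper4.TCD_HNm_Acc

namespace Cfsg.Agent.Lib.Helper4.TCD.HNm

open Cfsg.Agent.Lib.Helper4.TC

set_option maxRecDepth 100000
set_option Elab.async false

theorem c_perm_291 : allGrid (T.permOK1 D) 1091250 3750 8 = true := by decide +kernel
theorem c_perm_292 : allGrid (T.permOK1 D) 1095000 3750 8 = true := by decide +kernel
theorem c_perm_293 : allGrid (T.permOK1 D) 1098750 3750 8 = true := by decide +kernel
theorem c_perm_294 : allGrid (T.permOK1 D) 1102500 3750 8 = true := by decide +kernel
theorem c_perm_295 : allGrid (T.permOK1 D) 1106250 3750 8 = true := by decide +kernel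
theorem c_perm_296 : allGrid (T.permOK1 D) 1110000 3750 8 = true := by decide +kernel
theorem c_perm_297 : allGrid (T.permOK1 D) 1113750 3750 8 = true := by decide +kernel
theorem c_perm_298 : allGrid (T.permOK1 D) 1117500 3750 8 = true := by decide +kernel
theorem c_perm_299 : allGrid (T.permOK1 D) 1121250 3750 8 = true := by decide +kernel
theorem c_perm_300 : allGrid (T.permOK1 D) 1125000 3750 8 = true := by decide +kernel
theorem c_perm_301 : allGrid (T.permOK1 D) 1128750 3750 8 = true := by decide +kernel
theorem c_perm_302 : allGrid (T.permOK1 D) 1132500 3750 8 = true := by decide +kernel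
theorem c_perm_303 : allGrid (T.permOK1 D) 1136250 3750 8 = true := by decide +kernel
theorem c_perm_304 : allGrid (T.permOK1 D) 1140000 3750 8 = true := by decide +kernel
theorem c_perm_305 : allGrid (T.permOK1 D) 1143750 3750 8 = true := by decide +kernel
theorem c_perm_306 : allGrid (T.permOK1 D) 1147500 3750 8 = true := by decide +kernel
theorem c_perm_307 : allGrid (T.permOK1 D) 1151250 3750 8 = true := by decide +kernel
theorem c_perm_308 : allGrid (T.permOK1 D) 1155000 3750 8 = true := by decide +kernel
theorem c_perm_309 : allGrid (T.permOK1 D) 1158750 3750 8 = true := by decide +kernel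
theorem c_perm_310 : allGrid (T.permOK1 D) 1162500 3750 8 = true := by decide +kernel
theorem c_perm_311 : allGrid (T.permOK1 D) 1166250 3750 8 = true := by decide +kernel
theorem c_perm_312 : allGrid (T.permOK1 D) 1170000 3750 8 = true := by decide +kernel
theorem c_perm_313 : allGrid (T.permOK1 D) 1173750 3750 8 = true := by decide +kernel
theorem c_perm_314 : allGrid (T.permOK1 D) 1177500 3750 8 = true := by decide +kernel
theorem c_perm_315 : allGrid (T.permOK1 D) 1181250 3750 8 = true := by decide +kernel
theorem c_perm_316 : allGrid (T.permOK1 D) 1185000 3750 8 = true := by decide +kernel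
theorem c_perm_317 : allGrid (T.permOK1 D) 1188750 3750 8 = true := by decide +kernel
theorem c_perm_318 : allGrid (T.permOK1 D) 1192500 3750 8 = true := by decide +kernel
theorem c_perm_319 : allGrid (T.permOK1 D) 1196250 3750 8 = true := by decide +kernel
theorem c_perm_320 : allGrid (T.permOK1 D) 1200000 3750 8 = true := by decide +kernel
theorem c_perm_321 : allGrid (T.permOK1 D) 1203750 3750 8 = true := by decide +kernel
theorem c_perm_322 : allGrid (T.permOK1 D) 1207500 3750 8 = true := by decide +kernel
theorem c_perm_323 : allGrid (T.permOK1 D) 1211250 3750 8 = true := by decide +kernel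
theorem c_perm_324 : allGrid (T.permOK1 D) 1215000 3750 8 = true := by decide +kernel
theorem c_perm_325 : allGrid (T.permOK1 D) 1218750 3750 8 = true := by decide +kernel
theorem c_perm_326 : allGrid (T.permOK1 D) 1222500 3750 8 = true := by decide +kernel
theorem c_perm_327 : allGrid (T.permOK1 D) 1226250 3750 8 = true := by decide +kernel
theorem c_perm_328 : allGrid (T.permOK1 D) 1230000 3750 8 = true := by decide +kernel
theorem c_perm_329 : allGrid (T.permOK1 D) 1233750 3750 8 = true := by decide +kernel
theorem c_perm_330 : allGrid (T.permOK1 D) 1237500 3750 8 = true := by decide +kernel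
theorem c_perm_331 : allGrid (T.permOK1 D) 1241250 3750 8 = true := by decide +kernel
theorem c_perm_332 : allGrid (T.permOK1 D) 1245000 3750 8 = true := by decide +kernel
theorem c_perm_333 : allGrid (T.permOK1 D) 1248750 3750 8 = true := by decide +kernel
theorem c_perm_334 : allGrid (T.permOK1 D) 1252500 3750 8 = true := by decide +kernel
theorem c_perm_335 : allGrid (T.permOK1 D) 1256250 3750 8 = true := by decide +kernel
theorem c_perm_336 : allGrid (T.permOK1 D) 1260000 3750 8 = true := by decide +kernel
theorem c_perm_337 : allGrid (T.permOK1 D) 1263750 3750 8 = true := by decide +kernel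
theorem c_perm_338 : allGrid (T.permOK1 D) 1267500 3750 8 = true := by decide +kernel
theorem c_perm_339 : allGrid (T.permOK1 D) 1271250 3750 8 = true := by decide +kernel
theorem c_perm_340 : allGrid (T.permOK1 D) 1275000 3750 8 = true := by decide +kernel

end Cfsg.Agent.Lib.Helper4.TCD.HNm
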