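import Cfsg.Agent.Lib.Helper4.TCD_HNm_Acc

namespace Cfsg.Agent.Lib.Helper4.TCD.HNm

open Cfsg.Agent.Lib.Helper4.TC

set_option maxRecDepth 100000
set_option Elab.async false

theorem c_perm_341 : allGrid (T.permOK1 D) 1278750 3750 8 = true := by decide +kernel
theorem c_perm_342 : allGrid (T.permOK1 D) 1282500 3750 8 = true := by decide +kernel
theorem c_perm_343 : allGrid (T.permOK1 D) 1286250 3750 8 = true := by decide +kernel
theorem c_perm_344 : allGrid (T.permOK1 D) 1290000 3750 8 = true := by decide +kernel
theorem c_perm_345 : allGrid (T.permOK1 D) 1293750 3750 8 = true := by decide +kernel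
theorem c_perm_346 : allGrid (T.permOK1 D) 1297500 3750 8 = true := by decide +kernel
theorem c_perm_347 : allGrid (T.permOK1 D) 1301250 3750 8 = true := by decide +kernel
theorem c_perm_348 : allGrid (T.permOK1 D) 1305000 3750 8 = true := by decide +kernel
theorem c_perm_349 : allGrid (T.permOK1 D) 1308750 3750 8 = true := by decide +kernel
theorem c_perm_350 : allGrid (T.permOK1 D) 1312500 3750 8 = true := by decide +kernel
theorem c_perm_351 : allGrid (T.permOK1 D) 1316250 3750 8 = true := by decide +kernel
theorem c_perm_352 : allGrid (T.permOK1 D) 1320000 3750 8 = true := by decide +kernel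
theorem c_perm_353 : allGrid (T.permOK1 D) 1323750 3750 8 = true := by decide +kernel
theorem c_perm_354 : allGrid (T.permOK1 D) 1327500 3750 8 = true := by decide +kernel
theorem c_perm_355 : allGrid (T.permOK1 D) 1331250 3750 8 = true := by decide +kernel
theorem c_perm_356 : allGrid (T.permOK1 D) 1335000 3750 8 = true := by decide +kernel
theorem c_perm_357 : allGrid (T.permOK1 D) 1338750 3750 8 = true := by decide +kernel
theorem c_perm_358 : allGrid (T.permOK1 D) 1342500 3750 8 = true := by decide +kernel
theorem c_perm_359 : allGrid (T.permOK1 D) 1346250 3750 8 = true := by decide +kernel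
theorem c_perm_360 : allGrid (T.permOK1 D) 1350000 3750 8 = true := by decide +kernel
theorem c_perm_361 : allGrid (T.permOK1 D) 1353750 3750 8 = true := by decide +kernel
theorem c_perm_362 : allGrid (T.permOK1 D) 1357500 3750 8 = true := by decide +kernel
theorem c_perm_363 : allGrid (T.permOK1 D) 1361250 3750 8 = true := by decide +kernel
theorem c_perm_364 : allGrid (T.permOK1 D) 1365000 3750 8 = true := by decide +kernel
theorem c_perm_365 : allGrid (T.permOK1 D) 1368750 3750 8 = true := by decide +kernel
theorem c_perm_366 : allGrid (T.permOK1 D) 1372500 3750 8 = true := by decide +kernel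
theorem c_perm_367 : allGrid (T.permOK1 D) 1376250 3750 8 = true := by decide +kernel
theorem c_perm_368 : allGrid (T.permOK1 D) 1380000 3750 8 = true := by decide +kernel
theorem c_perm_369 : allGrid (T.permOK1 D) 1383750 3750 8 = true := by decide +kernel
theorem c_perm_370 : allGrid (T.permOK1 D) 1387500 3750 8 = true := by decide +kernel
theorem c_perm_371 : allGrid (T.permOK1 D) 1391250 3750 8 = true := by decide +kernel
theorem c_perm_372 : allGrid (T.permOK1 D) 1395000 3750 8 = true := by decide +kernel
theorem c_perm_373 : allGrid (T.permOK1 D) 1398750 3750 8 = true := by decide +kernel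
theorem c_perm_374 : allGrid (T.permOK1 D) 1402500 3750 8 = true := by decide +kernel
theorem c_perm_375 : allGrid (T.permOK1 D) 1406250 3750 8 = true := by decide +kernel
theorem c_perm_376 : allGrid (T.permOK1 D) 1410000 3750 8 = true := by decide +kernel
theorem c_perm_377 : allGrid (T.permOK1 D) 1413750 3750 8 = true := by decide +kernel
theorem c_perm_378 : allGrid (T.permOK1 D) 1417500 3750 8 = true := by decide +kernel
theorem c_perm_379 : allGrid (T.permOK1 D) 1421250 3750 8 = true := by decide +kernel
theorem c_perm_380 : allGrid (T.permOK1 D) 1425000 3750 8 = true := by decide +kernel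
theorem c_perm_381 : allGrid (T.permOK1 D) 1428750 3750 8 = true := by decide +kernel
theorem c_perm_382 : allGrid (T.permOK1 D) 1432500 3750 8 = true := by decide +kernel
theorem c_perm_383 : allGrid (T.permOK1 D) 1436250 3750 8 = true := by decide +kernel
theorem c_perm_384 : allGrid (T.permOK1 D) 1440000 3750 8 = true := by decide +kernel
theorem c_perm_385 : allGrid (T.permOK1 D) 1443750 3750 8 = true := by decide +kernel
theorem c_perm_386 : allGrid (T.permOK1 D) 1447500 3750 8 = true := by decide +kernel
theorem c_perm_387 : allGrid (T.permOK1 D) 1451250 3750 8 = true := by decide +kernel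
theorem c_perm_388 : allGrid (T.permOK1 D) 1455000 3750 8 = true := by decide +kernel
theorem c_perm_389 : allGrid (T.permOK1 D) 1458750 3750 8 = true := by decide +kernel
theorem c_perm_390 : allGrid (T.permOK1 D) 1462500 3750 8 = true := by decide +kernel

end Cfsg.Agent.Lib.Helper4.TCD.HNm
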