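import Cfsg.Agent.Lib.Helper4.TCD_HNm_Acc

namespace Cfsg.Agent.Lib.Helper4.TCD.HNm

open Cfsg.Agent.Lib.Helper4.TC

set_option maxRecDepth 100000
set_option Elab.async false

theorem c_perm_391 : allGrid (T.permOK1 D) 1466250 3750 8 = true := by decide +kernel
theorem c_perm_392 : allGrid (T.permOK1 D) 1470000 3750 8 = true := by decide +kernel
theorem c_perm_393 : allGrid (T.permOK1 D) 1473750 3750 8 = true := by decide +kernel
theorem c_perm_394 : allGrid (T.permOK1 D) 1477500 3750 8 = true := by decide +kernel
theorem c_perm_395 : allGrid (T.permOK1 D) 1481250 3750 8 = true := by decide +kernel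
theorem c_perm_396 : allGrid (T.permOK1 D) 1485000 3750 8 = true := by decide +kernel
theorem c_perm_397 : allGrid (T.permOK1 D) 1488750 3750 8 = true := by decide +kernel
theorem c_perm_398 : allGrid (T.permOK1 D) 1492500 3750 8 = true := by decide +kernel
theorem c_perm_399 : allGrid (T.permOK1 D) 1496250 3750 8 = true := by decide +kernel
theorem c_perm_400 : allGrid (T.permOK1 D) 1500000 3750 8 = true := by decide +kernel
theorem c_perm_401 : allGrid (T.permOK1 D) 1503750 3750 8 = true := by decide +kernel
theorem c_perm_402 : allGrid (T.permOK1 D) 1507500 3750 8 = true := by decide +kernel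
theorem c_perm_403 : allGrid (T.permOK1 D) 1511250 3750 8 = true := by decide +kernel
theorem c_perm_404 : allGrid (T.permOK1 D) 1515000 3750 8 = true := by decide +kernel
theorem c_perm_405 : allGrid (T.permOK1 D) 1518750 3750 8 = true := by decide +kernel
theorem c_perm_406 : allGrid (T.permOK1 D) 1522500 3750 8 = true := by decide +kernel
theorem c_perm_407 : allGrid (T.permOK1 D) 1526250 3750 8 = true := by decide +kernel
theorem c_perm_408 : allGrid (T.permOK1 D) 1530000 3750 8 = true := by decide +kernel
theorem c_perm_409 : allGrid (T.permOK1 D) 1533750 3750 8 = true := by decide +kernel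
theorem c_perm_410 : allGrid (T.permOK1 D) 1537500 1500 8 = true := by decide +kernel
theorem c_act0_0 : allRange (fun i => Nat.beq (actR0 i) i) 0 10000 = true := by decide +kernel
theorem c_act0_1 : allRange (fun i => Nat.beq (actR0 i) i) 10000 10000 = true := by decide +kernel
theorem c_act0_2 : allRange (fun i => Nat.beq (actR0 i) i) 20000 10000 = true := by decide +kernel
theorem c_act0_3 : allRange (fun i => Nat.beq (actR0 i) i) 30000 10000 = true := by decide +kernel
theorem c_act0_4 : allRange (fun i => Nat.beq (actR0 i) i) 40000 10000 = true := by decide +kernel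
theorem c_act0_5 : allRange (fun i => Nat.beq (actR0 i) i) 50000 10000 = true := by decide +kernel
theorem c_act0_6 : allRange (fun i => Nat.beq (actR0 i) i) 60000 10000 = true := by decide +kernel
theorem c_act0_7 : allRange (fun i => Nat.beq (actR0 i) i) 70000 10000 = true := by decide +kernel
theorem c_act0_8 : allRange (fun i => Nat.beq (actR0 i) i) 80000 10000 = true := by decide +kernel
theorem c_act0_9 : allRange (fun i => Nat.beq (actR0 i) i) 90000 10000 = true := by decide +kernel
theorem c_act0_10 : allRange (fun i => Nat.beq (actR0 i) i) 100000 10000 = true := by decide +kernel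
theorem c_act0_11 : allRange (fun i => Nat.beq (actR0 i) i) 110000 10000 = true := by decide +kernel
theorem c_act0_12 : allRange (fun i => Nat.beq (actR0 i) i) 120000 10000 = true := by decide +kernel
theorem c_act0_13 : allRange (fun i => Nat.beq (actR0 i) i) 130000 10000 = true := by decide +kernel
theorem c_act0_14 : allRange (fun i => Nat.beq (actR0 i) i) 140000 10000 = true := by decide +kernel
theorem c_act0_15 : allRange (fun i => Nat.beq (actR0 i) i) 150000 10000 = true := by decide +kernel
theorem c_act0_16 : allRange (fun i => Nat.beq (actR0 i) i) 160000 10000 = true := by decide +kernel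
theorem c_act0_17 : allRange (fun i => Nat.beq (actR0 i) i) 170000 10000 = true := by decide +kernel
theorem c_act0_18 : allRange (fun i => Nat.beq (actR0 i) i) 180000 10000 = true := by decide +kernel
theorem c_act0_19 : allRange (fun i => Nat.beq (actR0 i) i) 190000 10000 = true := by decide +kernel
theorem c_act0_20 : allRange (fun i => Nat.beq (actR0 i) i) 200000 10000 = true := by decide +kernel
theorem c_act0_21 : allRange (fun i => Nat.beq (actR0 i) i) 210000 10000 = true := by decide +kernel
theorem c_act0_22 : allRange (fun i => Nat.beq (actR0 i) i) 220000 10000 = true := by decide +kernel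
theorem c_act0_23 : allRange (fun i => Nat.beq (actR0 i) i) 230000 10000 = true := by decide +kernel
theorem c_act0_24 : allRange (fun i => Nat.beq (actR0 i) i) 240000 10000 = true := by decide +kernel
theorem c_act0_25 : allRange (fun i => Nat.beq (actR0 i) i) 250000 10000 = true := by decide +kernel
theorem c_act0_26 : allRange (fun i => Nat.beq (actR0 i) i) 260000 10000 = true := by decide +kernel
theorem c_act0_27 : allRange (fun i => Nat.beq (actR0 i) i) 270000 10000 = true := by decide +kernel
theorem c_act0_28 : allRange (fun i => Nat.beq (actR0 i) i) 280000 10000 = true := by decide +kernel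
theorem c_act0_29 : allRange (fun i => Nat.beq (actR0 i) i) 290000 10000 = true := by decide +kernel

end Cfsg.Agent.Lib.Helper4.TCD.HNm
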