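import Cfsg.Agent.Lib.Helper4.TCD_HNm_Acc

namespace Cfsg.Agent.Lib.Helper4.TCD.HNm

open Cfsg.Agent.Lib.Helper4.TC

set_option maxRecDepth 100000
set_option Elab.async false

theorem c_act0_30 : allRange (fun i => Nat.beq (actR0 i) i) 300000 10000 = true := by decide +kernel
theorem c_act0_31 : allRange (fun i => Nat.beq (actR0 i) i) 310000 10000 = true := by decide +kernel
theorem c_act0_32 : allRange (fun i => Nat.beq (actR0 i) i) 320000 10000 = true := by decide +kernel
theorem c_act0_33 : allRange (fun i => Nat.beq (actR0 i) i) 330000 10000 = true := by decide +kernel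
theorem c_act0_34 : allRange (fun i => Nat.beq (actR0 i) i) 340000 10000 = true := by decide +kernel
theorem c_act0_35 : allRange (fun i => Nat.beq (actR0 i) i) 350000 10000 = true := by decide +kernel
theorem c_act0_36 : allRange (fun i => Nat.beq (actR0 i) i) 360000 10000 = true := by decide +kernel
theorem c_act0_37 : allRange (fun i => Nat.beq (actR0 i) i) 370000 10000 = true := by decide +kernel
theorem c_act0_38 : allRange (fun i => Nat.beq (actR0 i) i) 380000 10000 = true := by decide +kernel
theorem c_act0_39 : allRange (fun i => Nat.beq (actR0 i) i) 390000 10000 = true := by decide +kernel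
theorem c_act0_40 : allRange (fun i => Nat.beq (actR0 i) i) 400000 10000 = true := by decide +kernel
theorem c_act0_41 : allRange (fun i => Nat.beq (actR0 i) i) 410000 10000 = true := by decide +kernel
theorem c_act0_42 : allRange (fun i => Nat.beq (actR0 i) i) 420000 10000 = true := by decide +kernel
theorem c_act0_43 : allRange (fun i => Nat.beq (actR0 i) i) 430000 10000 = true := by decide +kernel
theorem c_act0_44 : allRange (fun i => Nat.beq (actR0 i) i) 440000 10000 = true := by decide +kernel
theorem c_act0_45 : allRange (fun i => Nat.beq (actR0 i) i) 450000 10000 = true := by decide +kernel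
theorem c_act0_46 : allRange (fun i => Nat.beq (actR0 i) i) 460000 10000 = true := by decide +kernel
theorem c_act0_47 : allRange (fun i => Nat.beq (actR0 i) i) 470000 10000 = true := by decide +kernel
theorem c_act0_48 : allRange (fun i => Nat.beq (actR0 i) i) 480000 10000 = true := by decide +kernel
theorem c_act0_49 : allRange (fun i => Nat.beq (actR0 i) i) 490000 10000 = true := by decide +kernel
theorem c_act0_50 : allRange (fun i => Nat.beq (actR0 i) i) 500000 10000 = true := by decide +kernel
theorem c_act0_51 : allRange (fun i => Nat.beq (actR0 i) i) 510000 10000 = true := by decide +kernel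
theorem c_act0_52 : allRange (fun i => Nat.beq (actR0 i) i) 520000 10000 = true := by decide +kernel
theorem c_act0_53 : allRange (fun i => Nat.beq (actR0 i) i) 530000 10000 = true := by decide +kernel
theorem c_act0_54 : allRange (fun i => Nat.beq (actR0 i) i) 540000 10000 = true := by decide +kernel
theorem c_act0_55 : allRange (fun i => Nat.beq (actR0 i) i) 550000 10000 = true := by decide +kernel
theorem c_act0_56 : allRange (fun i => Nat.beq (actR0 i) i) 560000 10000 = true := by decide +kernel
theorem c_act0_57 : allRange (fun i => Nat.beq (actR0 i) i) 570000 10000 = true := by decide +kernel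
theorem c_act0_58 : allRange (fun i => Nat.beq (actR0 i) i) 580000 10000 = true := by decide +kernel
theorem c_act0_59 : allRange (fun i => Nat.beq (actR0 i) i) 590000 10000 = true := by decide +kernel
theorem c_act0_60 : allRange (fun i => Nat.beq (actR0 i) i) 600000 10000 = true := by decide +kernel
theorem c_act0_61 : allRange (fun i => Nat.beq (actR0 i) i) 610000 10000 = true := by decide +kernel
theorem c_act0_62 : allRange (fun i => Nat.beq (actR0 i) i) 620000 10000 = true := by decide +kernel
theorem c_act0_63 : allRange (fun i => Nat.beq (actR0 i) i) 630000 10000 = true := by decide +kernel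
theorem c_act0_64 : allRange (fun i => Nat.beq (actR0 i) i) 640000 10000 = true := by decide +kernel
theorem c_act0_65 : allRange (fun i => Nat.beq (actR0 i) i) 650000 10000 = true := by decide +kernel
theorem c_act0_66 : allRange (fun i => Nat.beq (actR0 i) i) 660000 10000 = true := by decide +kernel
theorem c_act0_67 : allRange (fun i => Nat.beq (actR0 i) i) 670000 10000 = true := by decide +kernel
theorem c_act0_68 : allRange (fun i => Nat.beq (actR0 i) i) 680000 10000 = true := by decide +kernel
theorem c_act0_69 : allRange (fun i => Nat.beq (actR0 i) i) 690000 10000 = true := by decide +kernel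
theorem c_act0_70 : allRange (fun i => Nat.beq (actR0 i) i) 700000 10000 = true := by decide +kernel
theorem c_act0_71 : allRange (fun i => Nat.beq (actR0 i) i) 710000 10000 = true := by decide +kernel
theorem c_act0_72 : allRange (fun i => Nat.beq (actR0 i) i) 720000 10000 = true := by decide +kernel
theorem c_act0_73 : allRange (fun i => Nat.beq (actR0 i) i) 730000 10000 = true := by decide +kernel
theorem c_act0_74 : allRange (fun i => Nat.beq (actR0 i) i) 740000 10000 = true := by decide +kernel
theorem c_act0_75 : allRange (fun i => Nat.beq (actR0 i) i) 750000 10000 = true := by decide +kernel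
theorem c_act0_76 : allRange (fun i => Nat.beq (actR0 i) i) 760000 10000 = true := by decide +kernel
theorem c_act0_77 : allRange (fun i => Nat.beq (actR0 i) i) 770000 10000 = true := by decide +kernel
theorem c_act0_78 : allRange (fun i => Nat.beq (actR0 i) i) 780000 10000 = true := by decide +kernel
theorem c_act0_79 : allRange (fun i => Nat.beq (actR0 i) i) 790000 10000 = true := by decide +kernel

end Cfsg.Agent.Lib.Helper4.TCD.HNm
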