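import Cfsg.Agent.Lib.Helper4.TCD_HNm_Acc

namespace Cfsg.Agent.Lib.Helper4.TCD.HNm

open Cfsg.Agent.Lib.Helper4.TC

set_option maxRecDepth 100000
set_option Elab.async false

theorem c_rel_221 : allRange D.relOK 2250722 2324 = true := by decide +kernel
theorem c_rel_222 : allRange D.relOK 2253046 2060 = true := by decide +kernel
theorem c_rel_223 : allRange D.relOK 2255106 2278 = true := by decide +kernel
theorem c_rel_224 : allRange D.relOK 2257384 2340 = true := by decide +kernel
theorem c_rel_225 : allRange D.relOK 2259724 2434 = true := by decide +kernel
theorem c_rel_226 : allRange D.relOK 2262158 2114 = true := by decide +kernel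
theorem c_rel_227 : allRange D.relOK 2264272 1874 = true := by decide +kernel
theorem c_rel_228 : allRange D.relOK 2266146 2148 = true := by decide +kernel
theorem c_rel_229 : allRange D.relOK 2268294 2136 = true := by decide +kernel
theorem c_rel_230 : allRange D.relOK 2270430 2158 = true := by decide +kernel
theorem c_rel_231 : allRange D.relOK 2272588 2076 = true := by decide +kernel
theorem c_rel_232 : allRange D.relOK 2274664 2040 = true := by decide +kernel
theorem c_rel_233 : allRange D.relOK 2276704 2196 = true := by decide +kernel
theorem c_rel_234 : allRange D.relOK 2278900 1987 = true := by decide +kernel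
theorem c_rel_235 : allRange D.relOK 2280887 1841 = true := by decide +kernel
theorem c_rel_236 : allRange D.relOK 2282728 2034 = true := by decide +kernel
theorem c_rel_237 : allRange D.relOK 2284762 2015 = true := by decide +kernel
theorem c_rel_238 : allRange D.relOK 2286777 1913 = true := by decide +kernel
theorem c_rel_239 : allRange D.relOK 2288690 2589 = true := by decide +kernel
theorem c_rel_240 : allRange D.relOK 2291279 1814 = true := by decide +kernel
theorem c_rel_241 : allRange D.relOK 2293093 2109 = true := by decide +kernel
theorem c_rel_242 : allRange D.relOK 2295202 1955 = true := by decide +kernel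
theorem c_rel_243 : allRange D.relOK 2297157 1777 = true := by decide +kernel
theorem c_rel_244 : allRange D.relOK 2298934 1970 = true := by decide +kernel
theorem c_rel_245 : allRange D.relOK 2300904 1876 = true := by decide +kernel
theorem c_rel_246 : allRange D.relOK 2302780 1997 = true := by decide +kernel
theorem c_rel_247 : allRange D.relOK 2304777 1990 = true := by decide +kernel
theorem c_rel_248 : allRange D.relOK 2306767 2018 = true := by decide +kernel
theorem c_rel_249 : allRange D.relOK 2308785 1671 = true := by decide +kernel
theorem c_rel_250 : allRange D.relOK 2310456 1667 = true := by decide +kernel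
theorem c_rel_251 : allRange D.relOK 2312123 1778 = true := by decide +kernel
theorem c_rel_252 : allRange D.relOK 2313901 2015 = true := by decide +kernel
theorem c_rel_253 : allRange D.relOK 2315916 1979 = true := by decide +kernel
theorem c_rel_254 : allRange D.relOK 2317895 1639 = true := by decide +kernel
theorem c_rel_255 : allRange D.relOK 2319534 1838 = true := by decide +kernel
theorem c_rel_256 : allRange D.relOK 2321372 1871 = true := by decide +kernel
theorem c_rel_257 : allRange D.relOK 2323243 1838 = true := by decide +kernel
theorem c_rel_258 : allRange D.relOK 2325081 1779 = true := by decide +kernel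
theorem c_rel_259 : allRange D.relOK 2326860 1849 = true := by decide +kernel
theorem c_rel_260 : allRange D.relOK 2328709 1920 = true := by decide +kernel
theorem c_rel_261 : allRange D.relOK 2330629 1979 = true := by decide +kernel
theorem c_rel_262 : allRange D.relOK 2332608 2815 = true := by decide +kernel
theorem c_rel_263 : allRange D.relOK 2335423 2295 = true := by decide +kernel
theorem c_rel_264 : allRange D.relOK 2337718 2813 = true := by decide +kernel
theorem c_rel_265 : allRange D.relOK 2340531 3061 = true := by decide +kernel
theorem c_rel_266 : allRange D.relOK 2343592 2539 = true := by decide +kernel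
theorem c_rel_267 : allRange D.relOK 2346131 2016 = true := by decide +kernel
theorem c_rel_268 : allRange D.relOK 2348147 2232 = true := by decide +kernel
theorem c_rel_269 : allRange D.relOK 2350379 1944 = true := by decide +kernel
theorem c_rel_270 : allRange D.relOK 2352323 1747 = true := by decide +kernel
theorem c_rel_271 : allRange D.relOK 2354070 2003 = true := by decide +kernel
theorem c_rel_272 : allRange D.relOK 2356073 2296 = true := by decide +kernel
theorem c_rel_273 : allRange D.relOK 2358369 2047 = true := by decide +kernel
theorem c_rel_274 : allRange D.relOK 2360416 1878 = true := by decide +kernel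
theorem c_rel_275 : allRange D.relOK 2362294 1764 = true := by decide +kernel
theorem c_rel_276 : allRange D.relOK 2364058 1950 = true := by decide +kernel
theorem c_rel_277 : allRange D.relOK 2366008 1882 = true := by decide +kernel
theorem c_rel_278 : allRange D.relOK 2367890 2522 = true := by decide +kernel
theorem c_rel_279 : allRange D.relOK 2370412 2302 = true := by decide +kernel
theorem c_rel_280 : allRange D.relOK 2372714 1896 = true := by decide +kernel
theorem c_rel_281 : allRange D.relOK 2374610 2059 = true := by decide +kernel
theorem c_rel_282 : allRange D.relOK 2376669 2195 = true := by decide +kernel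
theorem c_rel_283 : allRange D.relOK 2378864 2449 = true := by decide +kernel
theorem c_rel_284 : allRange D.relOK 2381313 2926 = true := by decide +kernel
theorem c_rel_285 : allRange D.relOK 2384239 2466 = true := by decide +kernel
theorem c_rel_286 : allRange D.relOK 2386705 2036 = true := by decide +kernel
theorem c_rel_287 : allRange D.relOK 2388741 2132 = true := by decide +kernel
theorem c_rel_288 : allRange D.relOK 2390873 2021 = true := by decide +kernel
theorem c_rel_289 : allRange D.relOK 2392894 1969 = true := by decide +kernel
theorem c_rel_290 : allRange D.relOK 2394863 1896 = true := by decide +kernel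
theorem c_rel_291 : allRange D.relOK 2396759 2166 = true := by decide +kernel
theorem c_rel_292 : allRange D.relOK 2398925 2332 = true := by decide +kernel
theorem c_rel_293 : allRange D.relOK 2401257 3036 = true := by decide +kernel
theorem c_rel_294 : allRange D.relOK 2404293 2413 = true := by decide +kernel
theorem c_rel_295 : allRange D.relOK 2406706 2237 = true := by decide +kernel
theorem c_rel_296 : allRange D.relOK 2408943 2032 = true := by decide +kernel
theorem c_rel_297 : allRange D.relOK 2410975 2178 = true := by decide +kernel
theorem c_rel_298 : allRange D.relOK 2413153 2306 = true := by decide +kernel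
theorem c_rel_299 : allRange D.relOK 2415459 2407 = true := by decide +kernel
theorem c_rel_300 : allRange D.relOK 2417866 1820 = true := by decide +kernel
theorem c_rel_301 : allRange D.relOK 2419686 2204 = true := by decide +kernel
theorem c_rel_302 : allRange D.relOK 2421890 2169 = true := by decide +kernel
theorem c_rel_303 : allRange D.relOK 2424059 2151 = true := by decide +kernel
theorem c_rel_304 : allRange D.relOK 2426210 2971 = true := by decide +kernel
theorem c_rel_305 : allRange D.relOK 2429181 2654 = true := by decide +kernel
theorem c_rel_306 : allRange D.relOK 2431835 2723 = true := by decide +kernel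
theorem c_rel_307 : allRange D.relOK 2434558 2763 = true := by decide +kernel
theorem c_rel_308 : allRange D.relOK 2437321 2741 = true := by decide +kernel
theorem c_rel_309 : allRange D.relOK 2440062 2880 = true := by decide +kernel
theorem c_rel_310 : allRange D.relOK 2442942 2922 = true := by decide +kernel
theorem c_rel_311 : allRange D.relOK 2445864 2651 = true := by decide +kernel
theorem c_rel_312 : allRange D.relOK 2448515 3059 = true := by decide +kernel
theorem c_rel_313 : allRange D.relOK 2451574 2774 = true := by decide +kernel
theorem c_rel_314 : allRange D.relOK 2454348 2266 = true := by decide +kernel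
theorem c_rel_315 : allRange D.relOK 2456614 3009 = true := by decide +kernel
theorem c_rel_316 : allRange D.relOK 2459623 3321 = true := by decide +kernel
theorem c_rel_317 : allRange D.relOK 2462944 3161 = true := by decide +kernel
theorem c_rel_318 : allRange D.relOK 2466105 3265 = true := by decide +kernel
theorem c_rel_319 : allRange D.relOK 2469370 2960 = true := by decide +kernel

end Cfsg.Agent.Lib.Helper4.TCD.HNm
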