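import Cfsg.Agent.Lib.Helper4.TCD_HNm_Acc

namespace Cfsg.Agent.Lib.Helper4.TCD.HNm

open Cfsg.Agent.Lib.Helper4.TC

set_option maxRecDepth 100000
set_option Elab.async false

theorem c_act0_130 : allRange (fun i => Nat.beq (actR0 i) i) 1300000 10000 = true := by decide +kernel
theorem c_act0_131 : allRange (fun i => Nat.beq (actR0 i) i) 1310000 10000 = true := by decide +kernel
theorem c_act0_132 : allRange (fun i => Nat.beq (actR0 i) i) 1320000 10000 = true := by decide +kernel
theorem c_act0_133 : allRange (fun i => Nat.beq (actR0 i) i) 1330000 10000 = true := by decide +kernel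
theorem c_act0_134 : allRange (fun i => Nat.beq (actR0 i) i) 1340000 10000 = true := by decide +kernel
theorem c_act0_135 : allRange (fun i => Nat.beq (actR0 i) i) 1350000 10000 = true := by decide +kernel
theorem c_act0_136 : allRange (fun i => Nat.beq (actR0 i) i) 1360000 10000 = true := by decide +kernel
theorem c_act0_137 : allRange (fun i => Nat.beq (actR0 i) i) 1370000 10000 = true := by decide +kernel
theorem c_act0_138 : allRange (fun i => Nat.beq (actR0 i) i) 1380000 10000 = true := by decide +kernel
theorem c_act0_139 : allRange (fun i => Nat.beq (actR0 i) i) 1390000 10000 = true := by decide +kernel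
theorem c_act0_140 : allRange (fun i => Nat.beq (actR0 i) i) 1400000 10000 = true := by decide +kernel
theorem c_act0_141 : allRange (fun i => Nat.beq (actR0 i) i) 1410000 10000 = true := by decide +kernel
theorem c_act0_142 : allRange (fun i => Nat.beq (actR0 i) i) 1420000 10000 = true := by decide +kernel
theorem c_act0_143 : allRange (fun i => Nat.beq (actR0 i) i) 1430000 10000 = true := by decide +kernel
theorem c_act0_144 : allRange (fun i => Nat.beq (actR0 i) i) 1440000 10000 = true := by decide +kernel
theorem c_act0_145 : allRange (fun i => Nat.beq (actR0 i) i) 1450000 10000 = true := by decide +kernel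
theorem c_act0_146 : allRange (fun i => Nat.beq (actR0 i) i) 1460000 10000 = true := by decide +kernel
theorem c_act0_147 : allRange (fun i => Nat.beq (actR0 i) i) 1470000 10000 = true := by decide +kernel
theorem c_act0_148 : allRange (fun i => Nat.beq (actR0 i) i) 1480000 10000 = true := by decide +kernel
theorem c_act0_149 : allRange (fun i => Nat.beq (actR0 i) i) 1490000 10000 = true := by decide +kernel
theorem c_act0_150 : allRange (fun i => Nat.beq (actR0 i) i) 1500000 10000 = true := by decide +kernel
theorem c_act0_151 : allRange (fun i => Nat.beq (actR0 i) i) 1510000 10000 = true := by decide +kernel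
theorem c_act0_152 : allRange (fun i => Nat.beq (actR0 i) i) 1520000 10000 = true := by decide +kernel
theorem c_act0_153 : allRange (fun i => Nat.beq (actR0 i) i) 1530000 9000 = true := by decide +kernel
theorem c_act1_0 : allRange (fun i => Nat.beq (actR1 i) i) 0 10000 = true := by decide +kernel
theorem c_act1_1 : allRange (fun i => Nat.beq (actR1 i) i) 10000 10000 = true := by decide +kernel
theorem c_act1_2 : allRange (fun i => Nat.beq (actR1 i) i) 20000 10000 = true := by decide +kernel
theorem c_act1_3 : allRange (fun i => Nat.beq (actR1 i) i) 30000 10000 = true := by decide +kernel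
theorem c_act1_4 : allRange (fun i => Nat.beq (actR1 i) i) 40000 10000 = true := by decide +kernel
theorem c_act1_5 : allRange (fun i => Nat.beq (actR1 i) i) 50000 10000 = true := by decide +kernel
theorem c_act1_6 : allRange (fun i => Nat.beq (actR1 i) i) 60000 10000 = true := by decide +kernel
theorem c_act1_7 : allRange (fun i => Nat.beq (actR1 i) i) 70000 10000 = true := by decide +kernel
theorem c_act1_8 : allRange (fun i => Nat.beq (actR1 i) i) 80000 10000 = true := by decide +kernel
theorem c_act1_9 : allRange (fun i => Nat.beq (actR1 i) i) 90000 10000 = true := by decide +kernel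
theorem c_act1_10 : allRange (fun i => Nat.beq (actR1 i) i) 100000 10000 = true := by decide +kernel
theorem c_act1_11 : allRange (fun i => Nat.beq (actR1 i) i) 110000 10000 = true := by decide +kernel
theorem c_act1_12 : allRange (fun i => Nat.beq (actR1 i) i) 120000 10000 = true := by decide +kernel
theorem c_act1_13 : allRange (fun i => Nat.beq (actR1 i) i) 130000 10000 = true := by decide +kernel
theorem c_act1_14 : allRange (fun i => Nat.beq (actR1 i) i) 140000 10000 = true := by decide +kernel
theorem c_act1_15 : allRange (fun i => Nat.beq (actR1 i) i) 150000 10000 = true := by decide +kernel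
theorem c_act1_16 : allRange (fun i => Nat.beq (actR1 i) i) 160000 10000 = true := by decide +kernel
theorem c_act1_17 : allRange (fun i => Nat.beq (actR1 i) i) 170000 10000 = true := by decide +kernel
theorem c_act1_18 : allRange (fun i => Nat.beq (actR1 i) i) 180000 10000 = true := by decide +kernel
theorem c_act1_19 : allRange (fun i => Nat.beq (actR1 i) i) 190000 10000 = true := by decide +kernel
theorem c_act1_20 : allRange (fun i => Nat.beq (actR1 i) i) 200000 10000 = true := by decide +kernel
theorem c_act1_21 : allRange (fun i => Nat.beq (actR1 i) i) 210000 10000 = true := by decide +kernel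
theorem c_act1_22 : allRange (fun i => Nat.beq (actR1 i) i) 220000 10000 = true := by decide +kernel
theorem c_act1_23 : allRange (fun i => Nat.beq (actR1 i) i) 230000 10000 = true := by decide +kernel
theorem c_act1_24 : allRange (fun i => Nat.beq (actR1 i) i) 240000 10000 = true := by decide +kernel
theorem c_act1_25 : allRange (fun i => Nat.beq (actR1 i) i) 250000 10000 = true := by decide +kernel

end Cfsg.Agent.Lib.Helper4.TCD.HNm
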