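import Cfsg.Agent.Lib.Helper4.TCD_HNm_Acc

namespace Cfsg.Agent.Lib.Helper4.TCD.HNm

open Cfsg.Agent.Lib.Helper4.TC

set_option maxRecDepth 100000
set_option Elab.async false

theorem c_act1_26 : allRange (fun i => Nat.beq (actR1 i) i) 260000 10000 = true := by decide +kernel
theorem c_act1_27 : allRange (fun i => Nat.beq (actR1 i) i) 270000 10000 = true := by decide +kernel
theorem c_act1_28 : allRange (fun i => Nat.beq (actR1 i) i) 280000 10000 = true := by decide +kernel
theorem c_act1_29 : allRange (fun i => Nat.beq (actR1 i) i) 290000 10000 = true := by decide +kernel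
theorem c_act1_30 : allRange (fun i => Nat.beq (actR1 i) i) 300000 10000 = true := by decide +kernel
theorem c_act1_31 : allRange (fun i => Nat.beq (actR1 i) i) 310000 10000 = true := by decide +kernel
theorem c_act1_32 : allRange (fun i => Nat.beq (actR1 i) i) 320000 10000 = true := by decide +kernel
theorem c_act1_33 : allRange (fun i => Nat.beq (actR1 i) i) 330000 10000 = true := by decide +kernel
theorem c_act1_34 : allRange (fun i => Nat.beq (actR1 i) i) 340000 10000 = true := by decide +kernel
theorem c_act1_35 : allRange (fun i => Nat.beq (actR1 i) i) 350000 10000 = true := by decide +kernel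
theorem c_act1_36 : allRange (fun i => Nat.beq (actR1 i) i) 360000 10000 = true := by decide +kernel
theorem c_act1_37 : allRange (fun i => Nat.beq (actR1 i) i) 370000 10000 = true := by decide +kernel
theorem c_act1_38 : allRange (fun i => Nat.beq (actR1 i) i) 380000 10000 = true := by decide +kernel
theorem c_act1_39 : allRange (fun i => Nat.beq (actR1 i) i) 390000 10000 = true := by decide +kernel
theorem c_act1_40 : allRange (fun i => Nat.beq (actR1 i) i) 400000 10000 = true := by decide +kernel
theorem c_act1_41 : allRange (fun i => Nat.beq (actR1 i) i) 410000 10000 = true := by decide +kernel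
theorem c_act1_42 : allRange (fun i => Nat.beq (actR1 i) i) 420000 10000 = true := by decide +kernel
theorem c_act1_43 : allRange (fun i => Nat.beq (actR1 i) i) 430000 10000 = true := by decide +kernel
theorem c_act1_44 : allRange (fun i => Nat.beq (actR1 i) i) 440000 10000 = true := by decide +kernel
theorem c_act1_45 : allRange (fun i => Nat.beq (actR1 i) i) 450000 10000 = true := by decide +kernel
theorem c_act1_46 : allRange (fun i => Nat.beq (actR1 i) i) 460000 10000 = true := by decide +kernel
theorem c_act1_47 : allRange (fun i => Nat.beq (actR1 i) i) 470000 10000 = true := by decide +kernel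
theorem c_act1_48 : allRange (fun i => Nat.beq (actR1 i) i) 480000 10000 = true := by decide +kernel
theorem c_act1_49 : allRange (fun i => Nat.beq (actR1 i) i) 490000 10000 = true := by decide +kernel
theorem c_act1_50 : allRange (fun i => Nat.beq (actR1 i) i) 500000 10000 = true := by decide +kernel
theorem c_act1_51 : allRange (fun i => Nat.beq (actR1 i) i) 510000 10000 = true := by decide +kernel
theorem c_act1_52 : allRange (fun i => Nat.beq (actR1 i) i) 520000 10000 = true := by decide +kernel
theorem c_act1_53 : allRange (fun i => Nat.beq (actR1 i) i) 530000 10000 = true := by decide +kernel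
theorem c_act1_54 : allRange (fun i => Nat.beq (actR1 i) i) 540000 10000 = true := by decide +kernel
theorem c_act1_55 : allRange (fun i => Nat.beq (actR1 i) i) 550000 10000 = true := by decide +kernel
theorem c_act1_56 : allRange (fun i => Nat.beq (actR1 i) i) 560000 10000 = true := by decide +kernel
theorem c_act1_57 : allRange (fun i => Nat.beq (actR1 i) i) 570000 10000 = true := by decide +kernel
theorem c_act1_58 : allRange (fun i => Nat.beq (actR1 i) i) 580000 10000 = true := by decide +kernel
theorem c_act1_59 : allRange (fun i => Nat.beq (actR1 i) i) 590000 10000 = true := by decide +kernel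
theorem c_act1_60 : allRange (fun i => Nat.beq (actR1 i) i) 600000 10000 = true := by decide +kernel
theorem c_act1_61 : allRange (fun i => Nat.beq (actR1 i) i) 610000 10000 = true := by decide +kernel
theorem c_act1_62 : allRange (fun i => Nat.beq (actR1 i) i) 620000 10000 = true := by decide +kernel
theorem c_act1_63 : allRange (fun i => Nat.beq (actR1 i) i) 630000 10000 = true := by decide +kernel
theorem c_act1_64 : allRange (fun i => Nat.beq (actR1 i) i) 640000 10000 = true := by decide +kernel
theorem c_act1_65 : allRange (fun i => Nat.beq (actR1 i) i) 650000 10000 = true := by decide +kernel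
theorem c_act1_66 : allRange (fun i => Nat.beq (actR1 i) i) 660000 10000 = true := by decide +kernel
theorem c_act1_67 : allRange (fun i => Nat.beq (actR1 i) i) 670000 10000 = true := by decide +kernel
theorem c_act1_68 : allRange (fun i => Nat.beq (actR1 i) i) 680000 10000 = true := by decide +kernel
theorem c_act1_69 : allRange (fun i => Nat.beq (actR1 i) i) 690000 10000 = true := by decide +kernel
theorem c_act1_70 : allRange (fun i => Nat.beq (actR1 i) i) 700000 10000 = true := by decide +kernel
theorem c_act1_71 : allRange (fun i => Nat.beq (actR1 i) i) 710000 10000 = true := by decide +kernel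
theorem c_act1_72 : allRange (fun i => Nat.beq (actR1 i) i) 720000 10000 = true := by decide +kernel
theorem c_act1_73 : allRange (fun i => Nat.beq (actR1 i) i) 730000 10000 = true := by decide +kernel
theorem c_act1_74 : allRange (fun i => Nat.beq (actR1 i) i) 740000 10000 = true := by decide +kernel
theorem c_act1_75 : allRange (fun i => Nat.beq (actR1 i) i) 750000 10000 = true := by decide +kernel

end Cfsg.Agent.Lib.Helper4.TCD.HNm
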