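import Cfsg.Agent.Lib.Helper4.TCD_HNm_Acc

namespace Cfsg.Agent.Lib.Helper4.TCD.HNm

open Cfsg.Agent.Lib.Helper4.TC

set_option maxRecDepth 100000
set_option Elab.async false

theorem c_act1_76 : allRange (fun i => Nat.beq (actR1 i) i) 760000 10000 = true := by decide +kernel
theorem c_act1_77 : allRange (fun i => Nat.beq (actR1 i) i) 770000 10000 = true := by decide +kernel
theorem c_act1_78 : allRange (fun i => Nat.beq (actR1 i) i) 780000 10000 = true := by decide +kernel
theorem c_act1_79 : allRange (fun i => Nat.beq (actR1 i) i) 790000 10000 = true := by decide +kernel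
theorem c_act1_80 : allRange (fun i => Nat.beq (actR1 i) i) 800000 10000 = true := by decide +kernel
theorem c_act1_81 : allRange (fun i => Nat.beq (actR1 i) i) 810000 10000 = true := by decide +kernel
theorem c_act1_82 : allRange (fun i => Nat.beq (actR1 i) i) 820000 10000 = true := by decide +kernel
theorem c_act1_83 : allRange (fun i => Nat.beq (actR1 i) i) 830000 10000 = true := by decide +kernel
theorem c_act1_84 : allRange (fun i => Nat.beq (actR1 i) i) 840000 10000 = true := by decide +kernel
theorem c_act1_85 : allRange (fun i => Nat.beq (actR1 i) i) 850000 10000 = true := by decide +kernel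
theorem c_act1_86 : allRange (fun i => Nat.beq (actR1 i) i) 860000 10000 = true := by decide +kernel
theorem c_act1_87 : allRange (fun i => Nat.beq (actR1 i) i) 870000 10000 = true := by decide +kernel
theorem c_act1_88 : allRange (fun i => Nat.beq (actR1 i) i) 880000 10000 = true := by decide +kernel
theorem c_act1_89 : allRange (fun i => Nat.beq (actR1 i) i) 890000 10000 = true := by decide +kernel
theorem c_act1_90 : allRange (fun i => Nat.beq (actR1 i) i) 900000 10000 = true := by decide +kernel
theorem c_act1_91 : allRange (fun i => Nat.beq (actR1 i) i) 910000 10000 = true := by decide +kernel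
theorem c_act1_92 : allRange (fun i => Nat.beq (actR1 i) i) 920000 10000 = true := by decide +kernel
theorem c_act1_93 : allRange (fun i => Nat.beq (actR1 i) i) 930000 10000 = true := by decide +kernel
theorem c_act1_94 : allRange (fun i => Nat.beq (actR1 i) i) 940000 10000 = true := by decide +kernel
theorem c_act1_95 : allRange (fun i => Nat.beq (actR1 i) i) 950000 10000 = true := by decide +kernel
theorem c_act1_96 : allRange (fun i => Nat.beq (actR1 i) i) 960000 10000 = true := by decide +kernel
theorem c_act1_97 : allRange (fun i => Nat.beq (actR1 i) i) 970000 10000 = true := by decide +kernel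
theorem c_act1_98 : allRange (fun i => Nat.beq (actR1 i) i) 980000 10000 = true := by decide +kernel
theorem c_act1_99 : allRange (fun i => Nat.beq (actR1 i) i) 990000 10000 = true := by decide +kernel
theorem c_act1_100 : allRange (fun i => Nat.beq (actR1 i) i) 1000000 10000 = true := by decide +kernel
theorem c_act1_101 : allRange (fun i => Nat.beq (actR1 i) i) 1010000 10000 = true := by decide +kernel
theorem c_act1_102 : allRange (fun i => Nat.beq (actR1 i) i) 1020000 10000 = true := by decide +kernel
theorem c_act1_103 : allRange (fun i => Nat.beq (actR1 i) i) 1030000 10000 = true := by decide +kernel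
theorem c_act1_104 : allRange (fun i => Nat.beq (actR1 i) i) 1040000 10000 = true := by decide +kernel
theorem c_act1_105 : allRange (fun i => Nat.beq (actR1 i) i) 1050000 10000 = true := by decide +kernel
theorem c_act1_106 : allRange (fun i => Nat.beq (actR1 i) i) 1060000 10000 = true := by decide +kernel
theorem c_act1_107 : allRange (fun i => Nat.beq (actR1 i) i) 1070000 10000 = true := by decide +kernel
theorem c_act1_108 : allRange (fun i => Nat.beq (actR1 i) i) 1080000 10000 = true := by decide +kernel
theorem c_act1_109 : allRange (fun i => Nat.beq (actR1 i) i) 1090000 10000 = true := by decide +kernel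
theorem c_act1_110 : allRange (fun i => Nat.beq (actR1 i) i) 1100000 10000 = true := by decide +kernel
theorem c_act1_111 : allRange (fun i => Nat.beq (actR1 i) i) 1110000 10000 = true := by decide +kernel
theorem c_act1_112 : allRange (fun i => Nat.beq (actR1 i) i) 1120000 10000 = true := by decide +kernel
theorem c_act1_113 : allRange (fun i => Nat.beq (actR1 i) i) 1130000 10000 = true := by decide +kernel
theorem c_act1_114 : allRange (fun i => Nat.beq (actR1 i) i) 1140000 10000 = true := by decide +kernel
theorem c_act1_115 : allRange (fun i => Nat.beq (actR1 i) i) 1150000 10000 = true := by decide +kernel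
theorem c_act1_116 : allRange (fun i => Nat.beq (actR1 i) i) 1160000 10000 = true := by decide +kernel
theorem c_act1_117 : allRange (fun i => Nat.beq (actR1 i) i) 1170000 10000 = true := by decide +kernel
theorem c_act1_118 : allRange (fun i => Nat.beq (actR1 i) i) 1180000 10000 = true := by decide +kernel
theorem c_act1_119 : allRange (fun i => Nat.beq (actR1 i) i) 1190000 10000 = true := by decide +kernel
theorem c_act1_120 : allRange (fun i => Nat.beq (actR1 i) i) 1200000 10000 = true := by decide +kernel
theorem c_act1_121 : allRange (fun i => Nat.beq (actR1 i) i) 1210000 10000 = true := by decide +kernel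
theorem c_act1_122 : allRange (fun i => Nat.beq (actR1 i) i) 1220000 10000 = true := by decide +kernel
theorem c_act1_123 : allRange (fun i => Nat.beq (actR1 i) i) 1230000 10000 = true := by decide +kernel
theorem c_act1_124 : allRange (fun i => Nat.beq (actR1 i) i) 1240000 10000 = true := by decide +kernel
theorem c_act1_125 : allRange (fun i => Nat.beq (actR1 i) i) 1250000 10000 = true := by decide +kernel

end Cfsg.Agent.Lib.Helper4.TCD.HNm
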