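import Cfsg.Agent.Lib.Helper4.TCD_HNm_Acc

namespace Cfsg.Agent.Lib.Helper4.TCD.HNm

open Cfsg.Agent.Lib.Helper4.TC

set_option maxRecDepth 100000
set_option Elab.async false

theorem c_act1_126 : allRange (fun i => Nat.beq (actR1 i) i) 1260000 10000 = true := by decide +kernel
theorem c_act1_127 : allRange (fun i => Nat.beq (actR1 i) i) 1270000 10000 = true := by decide +kernel
theorem c_act1_128 : allRange (fun i => Nat.beq (actR1 i) i) 1280000 10000 = true := by decide +kernel
theorem c_act1_129 : allRange (fun i => Nat.beq (actR1 i) i) 1290000 10000 = true := by decide +kernel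
theorem c_act1_130 : allRange (fun i => Nat.beq (actR1 i) i) 1300000 10000 = true := by decide +kernel
theorem c_act1_131 : allRange (fun i => Nat.beq (actR1 i) i) 1310000 10000 = true := by decide +kernel
theorem c_act1_132 : allRange (fun i => Nat.beq (actR1 i) i) 1320000 10000 = true := by decide +kernel
theorem c_act1_133 : allRange (fun i => Nat.beq (actR1 i) i) 1330000 10000 = true := by decide +kernel
theorem c_act1_134 : allRange (fun i => Nat.beq (actR1 i) i) 1340000 10000 = true := by decide +kernel
theorem c_act1_135 : allRange (fun i => Nat.beq (actR1 i) i) 1350000 10000 = true := by decide +kernel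
theorem c_act1_136 : allRange (fun i => Nat.beq (actR1 i) i) 1360000 10000 = true := by decide +kernel
theorem c_act1_137 : allRange (fun i => Nat.beq (actR1 i) i) 1370000 10000 = true := by decide +kernel
theorem c_act1_138 : allRange (fun i => Nat.beq (actR1 i) i) 1380000 10000 = true := by decide +kernel
theorem c_act1_139 : allRange (fun i => Nat.beq (actR1 i) i) 1390000 10000 = true := by decide +kernel
theorem c_act1_140 : allRange (fun i => Nat.beq (actR1 i) i) 1400000 10000 = true := by decide +kernel
theorem c_act1_141 : allRange (fun i => Nat.beq (actR1 i) i) 1410000 10000 = true := by decide +kernel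
theorem c_act1_142 : allRange (fun i => Nat.beq (actR1 i) i) 1420000 10000 = true := by decide +kernel
theorem c_act1_143 : allRange (fun i => Nat.beq (actR1 i) i) 1430000 10000 = true := by decide +kernel
theorem c_act1_144 : allRange (fun i => Nat.beq (actR1 i) i) 1440000 10000 = true := by decide +kernel
theorem c_act1_145 : allRange (fun i => Nat.beq (actR1 i) i) 1450000 10000 = true := by decide +kernel
theorem c_act1_146 : allRange (fun i => Nat.beq (actR1 i) i) 1460000 10000 = true := by decide +kernel
theorem c_act1_147 : allRange (fun i => Nat.beq (actR1 i) i) 1470000 10000 = true := by decide +kernel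
theorem c_act1_148 : allRange (fun i => Nat.beq (actR1 i) i) 1480000 10000 = true := by decide +kernel
theorem c_act1_149 : allRange (fun i => Nat.beq (actR1 i) i) 1490000 10000 = true := by decide +kernel
theorem c_act1_150 : allRange (fun i => Nat.beq (actR1 i) i) 1500000 10000 = true := by decide +kernel
theorem c_act1_151 : allRange (fun i => Nat.beq (actR1 i) i) 1510000 10000 = true := by decide +kernel
theorem c_act1_152 : allRange (fun i => Nat.beq (actR1 i) i) 1520000 10000 = true := by decide +kernel
theorem c_act1_153 : allRange (fun i => Nat.beq (actR1 i) i) 1530000 9000 = true := by decide +kernel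
theorem c_act2_0 : allRange (fun i => Nat.beq (actR2 i) i) 0 5000 = true := by decide +kernel
theorem c_act2_1 : allRange (fun i => Nat.beq (actR2 i) i) 5000 5000 = true := by decide +kernel
theorem c_act2_2 : allRange (fun i => Nat.beq (actR2 i) i) 10000 5000 = true := by decide +kernel
theorem c_act2_3 : allRange (fun i => Nat.beq (actR2 i) i) 15000 5000 = true := by decide +kernel
theorem c_act2_4 : allRange (fun i => Nat.beq (actR2 i) i) 20000 5000 = true := by decide +kernel
theorem c_act2_5 : allRange (fun i => Nat.beq (actR2 i) i) 25000 5000 = true := by decide +kernel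
theorem c_act2_6 : allRange (fun i => Nat.beq (actR2 i) i) 30000 5000 = true := by decide +kernel
theorem c_act2_7 : allRange (fun i => Nat.beq (actR2 i) i) 35000 5000 = true := by decide +kernel
theorem c_act2_8 : allRange (fun i => Nat.beq (actR2 i) i) 40000 5000 = true := by decide +kernel
theorem c_act2_9 : allRange (fun i => Nat.beq (actR2 i) i) 45000 5000 = true := by decide +kernel
theorem c_act2_10 : allRange (fun i => Nat.beq (actR2 i) i) 50000 5000 = true := by decide +kernel
theorem c_act2_11 : allRange (fun i => Nat.beq (actR2 i) i) 55000 5000 = true := by decide +kernel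
theorem c_act2_12 : allRange (fun i => Nat.beq (actR2 i) i) 60000 5000 = true := by decide +kernel
theorem c_act2_13 : allRange (fun i => Nat.beq (actR2 i) i) 65000 5000 = true := by decide +kernel
theorem c_act2_14 : allRange (fun i => Nat.beq (actR2 i) i) 70000 5000 = true := by decide +kernel
theorem c_act2_15 : allRange (fun i => Nat.beq (actR2 i) i) 75000 5000 = true := by decide +kernel
theorem c_act2_16 : allRange (fun i => Nat.beq (actR2 i) i) 80000 5000 = true := by decide +kernel
theorem c_act2_17 : allRange (fun i => Nat.beq (actR2 i) i) 85000 5000 = true := by decide +kernel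
theorem c_act2_18 : allRange (fun i => Nat.beq (actR2 i) i) 90000 5000 = true := by decide +kernel
theorem c_act2_19 : allRange (fun i => Nat.beq (actR2 i) i) 95000 5000 = true := by decide +kernel
theorem c_act2_20 : allRange (fun i => Nat.beq (actR2 i) i) 100000 5000 = true := by decide +kernel
theorem c_act2_21 : allRange (fun i => Nat.beq (actR2 i) i) 105000 5000 = true := by decide +kernel

end Cfsg.Agent.Lib.Helper4.TCD.HNm
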