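import Cfsg.Agent.Lib.Helper4.TCD_HNm_Acc

namespace Cfsg.Agent.Lib.Helper4.TCD.HNm

open Cfsg.Agent.Lib.Helper4.TC

set_option maxRecDepth 100000
set_option Elab.async false

theorem c_act2_22 : allRange (fun i => Nat.beq (actR2 i) i) 110000 5000 = true := by decide +kernel
theorem c_act2_23 : allRange (fun i => Nat.beq (actR2 i) i) 115000 5000 = true := by decide +kernel
theorem c_act2_24 : allRange (fun i => Nat.beq (actR2 i) i) 120000 5000 = true := by decide +kernel
theorem c_act2_25 : allRange (fun i => Nat.beq (actR2 i) i) 125000 5000 = true := by decide +kernel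
theorem c_act2_26 : allRange (fun i => Nat.beq (actR2 i) i) 130000 5000 = true := by decide +kernel
theorem c_act2_27 : allRange (fun i => Nat.beq (actR2 i) i) 135000 5000 = true := by decide +kernel
theorem c_act2_28 : allRange (fun i => Nat.beq (actR2 i) i) 140000 5000 = true := by decide +kernel
theorem c_act2_29 : allRange (fun i => Nat.beq (actR2 i) i) 145000 5000 = true := by decide +kernel
theorem c_act2_30 : allRange (fun i => Nat.beq (actR2 i) i) 150000 5000 = true := by decide +kernel
theorem c_act2_31 : allRange (fun i => Nat.beq (actR2 i) i) 155000 5000 = true := by decide +kernel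
theorem c_act2_32 : allRange (fun i => Nat.beq (actR2 i) i) 160000 5000 = true := by decide +kernel
theorem c_act2_33 : allRange (fun i => Nat.beq (actR2 i) i) 165000 5000 = true := by decide +kernel
theorem c_act2_34 : allRange (fun i => Nat.beq (actR2 i) i) 170000 5000 = true := by decide +kernel
theorem c_act2_35 : allRange (fun i => Nat.beq (actR2 i) i) 175000 5000 = true := by decide +kernel
theorem c_act2_36 : allRange (fun i => Nat.beq (actR2 i) i) 180000 5000 = true := by decide +kernel
theorem c_act2_37 : allRange (fun i => Nat.beq (actR2 i) i) 185000 5000 = true := by decide +kernel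
theorem c_act2_38 : allRange (fun i => Nat.beq (actR2 i) i) 190000 5000 = true := by decide +kernel
theorem c_act2_39 : allRange (fun i => Nat.beq (actR2 i) i) 195000 5000 = true := by decide +kernel
theorem c_act2_40 : allRange (fun i => Nat.beq (actR2 i) i) 200000 5000 = true := by decide +kernel
theorem c_act2_41 : allRange (fun i => Nat.beq (actR2 i) i) 205000 5000 = true := by decide +kernel
theorem c_act2_42 : allRange (fun i => Nat.beq (actR2 i) i) 210000 5000 = true := by decide +kernel
theorem c_act2_43 : allRange (fun i => Nat.beq (actR2 i) i) 215000 5000 = true := by decide +kernel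
theorem c_act2_44 : allRange (fun i => Nat.beq (actR2 i) i) 220000 5000 = true := by decide +kernel
theorem c_act2_45 : allRange (fun i => Nat.beq (actR2 i) i) 225000 5000 = true := by decide +kernel
theorem c_act2_46 : allRange (fun i => Nat.beq (actR2 i) i) 230000 5000 = true := by decide +kernel
theorem c_act2_47 : allRange (fun i => Nat.beq (actR2 i) i) 235000 5000 = true := by decide +kernel
theorem c_act2_48 : allRange (fun i => Nat.beq (actR2 i) i) 240000 5000 = true := by decide +kernel
theorem c_act2_49 : allRange (fun i => Nat.beq (actR2 i) i) 245000 5000 = true := by decide +kernel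
theorem c_act2_50 : allRange (fun i => Nat.beq (actR2 i) i) 250000 5000 = true := by decide +kernel
theorem c_act2_51 : allRange (fun i => Nat.beq (actR2 i) i) 255000 5000 = true := by decide +kernel
theorem c_act2_52 : allRange (fun i => Nat.beq (actR2 i) i) 260000 5000 = true := by decide +kernel
theorem c_act2_53 : allRange (fun i => Nat.beq (actR2 i) i) 265000 5000 = true := by decide +kernel
theorem c_act2_54 : allRange (fun i => Nat.beq (actR2 i) i) 270000 5000 = true := by decide +kernel
theorem c_act2_55 : allRange (fun i => Nat.beq (actR2 i) i) 275000 5000 = true := by decide +kernel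
theorem c_act2_56 : allRange (fun i => Nat.beq (actR2 i) i) 280000 5000 = true := by decide +kernel
theorem c_act2_57 : allRange (fun i => Nat.beq (actR2 i) i) 285000 5000 = true := by decide +kernel
theorem c_act2_58 : allRange (fun i => Nat.beq (actR2 i) i) 290000 5000 = true := by decide +kernel
theorem c_act2_59 : allRange (fun i => Nat.beq (actR2 i) i) 295000 5000 = true := by decide +kernel
theorem c_act2_60 : allRange (fun i => Nat.beq (actR2 i) i) 300000 5000 = true := by decide +kernel
theorem c_act2_61 : allRange (fun i => Nat.beq (actR2 i) i) 305000 5000 = true := by decide +kernel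
theorem c_act2_62 : allRange (fun i => Nat.beq (actR2 i) i) 310000 5000 = true := by decide +kernel
theorem c_act2_63 : allRange (fun i => Nat.beq (actR2 i) i) 315000 5000 = true := by decide +kernel
theorem c_act2_64 : allRange (fun i => Nat.beq (actR2 i) i) 320000 5000 = true := by decide +kernel
theorem c_act2_65 : allRange (fun i => Nat.beq (actR2 i) i) 325000 5000 = true := by decide +kernel
theorem c_act2_66 : allRange (fun i => Nat.beq (actR2 i) i) 330000 5000 = true := by decide +kernel
theorem c_act2_67 : allRange (fun i => Nat.beq (actR2 i) i) 335000 5000 = true := by decide +kernel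
theorem c_act2_68 : allRange (fun i => Nat.beq (actR2 i) i) 340000 5000 = true := by decide +kernel
theorem c_act2_69 : allRange (fun i => Nat.beq (actR2 i) i) 345000 5000 = true := by decide +kernel
theorem c_act2_70 : allRange (fun i => Nat.beq (actR2 i) i) 350000 5000 = true := by decide +kernel
theorem c_act2_71 : allRange (fun i => Nat.beq (actR2 i) i) 355000 5000 = true := by decide +kernel

end Cfsg.Agent.Lib.Helper4.TCD.HNm
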