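import Cfsg.Agent.Lib.Helper4.TCD_HNm_Acc

namespace Cfsg.Agent.Lib.Helper4.TCD.HNm

open Cfsg.Agent.Lib.Helper4.TC

set_option maxRecDepth 100000
set_option Elab.async false

theorem c_act2_72 : allRange (fun i => Nat.beq (actR2 i) i) 360000 5000 = true := by decide +kernel
theorem c_act2_73 : allRange (fun i => Nat.beq (actR2 i) i) 365000 5000 = true := by decide +kernel
theorem c_act2_74 : allRange (fun i => Nat.beq (actR2 i) i) 370000 5000 = true := by decide +kernel
theorem c_act2_75 : allRange (fun i => Nat.beq (actR2 i) i) 375000 5000 = true := by decide +kernel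
theorem c_act2_76 : allRange (fun i => Nat.beq (actR2 i) i) 380000 5000 = true := by decide +kernel
theorem c_act2_77 : allRange (fun i => Nat.beq (actR2 i) i) 385000 5000 = true := by decide +kernel
theorem c_act2_78 : allRange (fun i => Nat.beq (actR2 i) i) 390000 5000 = true := by decide +kernel
theorem c_act2_79 : allRange (fun i => Nat.beq (actR2 i) i) 395000 5000 = true := by decide +kernel
theorem c_act2_80 : allRange (fun i => Nat.beq (actR2 i) i) 400000 5000 = true := by decide +kernel
theorem c_act2_81 : allRange (fun i => Nat.beq (actR2 i) i) 405000 5000 = true := by decide +kernel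
theorem c_act2_82 : allRange (fun i => Nat.beq (actR2 i) i) 410000 5000 = true := by decide +kernel
theorem c_act2_83 : allRange (fun i => Nat.beq (actR2 i) i) 415000 5000 = true := by decide +kernel
theorem c_act2_84 : allRange (fun i => Nat.beq (actR2 i) i) 420000 5000 = true := by decide +kernel
theorem c_act2_85 : allRange (fun i => Nat.beq (actR2 i) i) 425000 5000 = true := by decide +kernel
theorem c_act2_86 : allRange (fun i => Nat.beq (actR2 i) i) 430000 5000 = true := by decide +kernel
theorem c_act2_87 : allRange (fun i => Nat.beq (actR2 i) i) 435000 5000 = true := by decide +kernel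
theorem c_act2_88 : allRange (fun i => Nat.beq (actR2 i) i) 440000 5000 = true := by decide +kernel
theorem c_act2_89 : allRange (fun i => Nat.beq (actR2 i) i) 445000 5000 = true := by decide +kernel
theorem c_act2_90 : allRange (fun i => Nat.beq (actR2 i) i) 450000 5000 = true := by decide +kernel
theorem c_act2_91 : allRange (fun i => Nat.beq (actR2 i) i) 455000 5000 = true := by decide +kernel
theorem c_act2_92 : allRange (fun i => Nat.beq (actR2 i) i) 460000 5000 = true := by decide +kernel
theorem c_act2_93 : allRange (fun i => Nat.beq (actR2 i) i) 465000 5000 = true := by decide +kernel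
theorem c_act2_94 : allRange (fun i => Nat.beq (actR2 i) i) 470000 5000 = true := by decide +kernel
theorem c_act2_95 : allRange (fun i => Nat.beq (actR2 i) i) 475000 5000 = true := by decide +kernel
theorem c_act2_96 : allRange (fun i => Nat.beq (actR2 i) i) 480000 5000 = true := by decide +kernel
theorem c_act2_97 : allRange (fun i => Nat.beq (actR2 i) i) 485000 5000 = true := by decide +kernel
theorem c_act2_98 : allRange (fun i => Nat.beq (actR2 i) i) 490000 5000 = true := by decide +kernel
theorem c_act2_99 : allRange (fun i => Nat.beq (actR2 i) i) 495000 5000 = true := by decide +kernel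
theorem c_act2_100 : allRange (fun i => Nat.beq (actR2 i) i) 500000 5000 = true := by decide +kernel
theorem c_act2_101 : allRange (fun i => Nat.beq (actR2 i) i) 505000 5000 = true := by decide +kernel
theorem c_act2_102 : allRange (fun i => Nat.beq (actR2 i) i) 510000 5000 = true := by decide +kernel
theorem c_act2_103 : allRange (fun i => Nat.beq (actR2 i) i) 515000 5000 = true := by decide +kernel
theorem c_act2_104 : allRange (fun i => Nat.beq (actR2 i) i) 520000 5000 = true := by decide +kernel
theorem c_act2_105 : allRange (fun i => Nat.beq (actR2 i) i) 525000 5000 = true := by decide +kernel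
theorem c_act2_106 : allRange (fun i => Nat.beq (actR2 i) i) 530000 5000 = true := by decide +kernel
theorem c_act2_107 : allRange (fun i => Nat.beq (actR2 i) i) 535000 5000 = true := by decide +kernel
theorem c_act2_108 : allRange (fun i => Nat.beq (actR2 i) i) 540000 5000 = true := by decide +kernel
theorem c_act2_109 : allRange (fun i => Nat.beq (actR2 i) i) 545000 5000 = true := by decide +kernel
theorem c_act2_110 : allRange (fun i => Nat.beq (actR2 i) i) 550000 5000 = true := by decide +kernel
theorem c_act2_111 : allRange (fun i => Nat.beq (actR2 i) i) 555000 5000 = true := by decide +kernel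
theorem c_act2_112 : allRange (fun i => Nat.beq (actR2 i) i) 560000 5000 = true := by decide +kernel
theorem c_act2_113 : allRange (fun i => Nat.beq (actR2 i) i) 565000 5000 = true := by decide +kernel
theorem c_act2_114 : allRange (fun i => Nat.beq (actR2 i) i) 570000 5000 = true := by decide +kernel
theorem c_act2_115 : allRange (fun i => Nat.beq (actR2 i) i) 575000 5000 = true := by decide +kernel
theorem c_act2_116 : allRange (fun i => Nat.beq (actR2 i) i) 580000 5000 = true := by decide +kernel
theorem c_act2_117 : allRange (fun i => Nat.beq (actR2 i) i) 585000 5000 = true := by decide +kernel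
theorem c_act2_118 : allRange (fun i => Nat.beq (actR2 i) i) 590000 5000 = true := by decide +kernel
theorem c_act2_119 : allRange (fun i => Nat.beq (actR2 i) i) 595000 5000 = true := by decide +kernel
theorem c_act2_120 : allRange (fun i => Nat.beq (actR2 i) i) 600000 5000 = true := by decide +kernel
theorem c_act2_121 : allRange (fun i => Nat.beq (actR2 i) i) 605000 5000 = true := by decide +kernel

end Cfsg.Agent.Lib.Helper4.TCD.HNm
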