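import Cfsg.Agent.Lib.Helper4.TCD_HNm_Acc

namespace Cfsg.Agent.Lib.Helper4.TCD.HNm

open Cfsg.Agent.Lib.Helper4.TC

set_option maxRecDepth 100000
set_option Elab.async false

theorem c_act2_122 : allRange (fun i => Nat.beq (actR2 i) i) 610000 5000 = true := by decide +kernel
theorem c_act2_123 : allRange (fun i => Nat.beq (actR2 i) i) 615000 5000 = true := by decide +kernel
theorem c_act2_124 : allRange (fun i => Nat.beq (actR2 i) i) 620000 5000 = true := by decide +kernel
theorem c_act2_125 : allRange (fun i => Nat.beq (actR2 i) i) 625000 5000 = true := by decide +kernel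
theorem c_act2_126 : allRange (fun i => Nat.beq (actR2 i) i) 630000 5000 = true := by decide +kernel
theorem c_act2_127 : allRange (fun i => Nat.beq (actR2 i) i) 635000 5000 = true := by decide +kernel
theorem c_act2_128 : allRange (fun i => Nat.beq (actR2 i) i) 640000 5000 = true := by decide +kernel
theorem c_act2_129 : allRange (fun i => Nat.beq (actR2 i) i) 645000 5000 = true := by decide +kernel
theorem c_act2_130 : allRange (fun i => Nat.beq (actR2 i) i) 650000 5000 = true := by decide +kernel
theorem c_act2_131 : allRange (fun i => Nat.beq (actR2 i) i) 655000 5000 = true := by decide +kernel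
theorem c_act2_132 : allRange (fun i => Nat.beq (actR2 i) i) 660000 5000 = true := by decide +kernel
theorem c_act2_133 : allRange (fun i => Nat.beq (actR2 i) i) 665000 5000 = true := by decide +kernel
theorem c_act2_134 : allRange (fun i => Nat.beq (actR2 i) i) 670000 5000 = true := by decide +kernel
theorem c_act2_135 : allRange (fun i => Nat.beq (actR2 i) i) 675000 5000 = true := by decide +kernel
theorem c_act2_136 : allRange (fun i => Nat.beq (actR2 i) i) 680000 5000 = true := by decide +kernel
theorem c_act2_137 : allRange (fun i => Nat.beq (actR2 i) i) 685000 5000 = true := by decide +kernel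
theorem c_act2_138 : allRange (fun i => Nat.beq (actR2 i) i) 690000 5000 = true := by decide +kernel
theorem c_act2_139 : allRange (fun i => Nat.beq (actR2 i) i) 695000 5000 = true := by decide +kernel
theorem c_act2_140 : allRange (fun i => Nat.beq (actR2 i) i) 700000 5000 = true := by decide +kernel
theorem c_act2_141 : allRange (fun i => Nat.beq (actR2 i) i) 705000 5000 = true := by decide +kernel
theorem c_act2_142 : allRange (fun i => Nat.beq (actR2 i) i) 710000 5000 = true := by decide +kernel
theorem c_act2_143 : allRange (fun i => Nat.beq (actR2 i) i) 715000 5000 = true := by decide +kernel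
theorem c_act2_144 : allRange (fun i => Nat.beq (actR2 i) i) 720000 5000 = true := by decide +kernel
theorem c_act2_145 : allRange (fun i => Nat.beq (actR2 i) i) 725000 5000 = true := by decide +kernel
theorem c_act2_146 : allRange (fun i => Nat.beq (actR2 i) i) 730000 5000 = true := by decide +kernel
theorem c_act2_147 : allRange (fun i => Nat.beq (actR2 i) i) 735000 5000 = true := by decide +kernel
theorem c_act2_148 : allRange (fun i => Nat.beq (actR2 i) i) 740000 5000 = true := by decide +kernel
theorem c_act2_149 : allRange (fun i => Nat.beq (actR2 i) i) 745000 5000 = true := by decide +kernel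
theorem c_act2_150 : allRange (fun i => Nat.beq (actR2 i) i) 750000 5000 = true := by decide +kernel
theorem c_act2_151 : allRange (fun i => Nat.beq (actR2 i) i) 755000 5000 = true := by decide +kernel
theorem c_act2_152 : allRange (fun i => Nat.beq (actR2 i) i) 760000 5000 = true := by decide +kernel
theorem c_act2_153 : allRange (fun i => Nat.beq (actR2 i) i) 765000 5000 = true := by decide +kernel
theorem c_act2_154 : allRange (fun i => Nat.beq (actR2 i) i) 770000 5000 = true := by decide +kernel
theorem c_act2_155 : allRange (fun i => Nat.beq (actR2 i) i) 775000 5000 = true := by decide +kernel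
theorem c_act2_156 : allRange (fun i => Nat.beq (actR2 i) i) 780000 5000 = true := by decide +kernel
theorem c_act2_157 : allRange (fun i => Nat.beq (actR2 i) i) 785000 5000 = true := by decide +kernel
theorem c_act2_158 : allRange (fun i => Nat.beq (actR2 i) i) 790000 5000 = true := by decide +kernel
theorem c_act2_159 : allRange (fun i => Nat.beq (actR2 i) i) 795000 5000 = true := by decide +kernel
theorem c_act2_160 : allRange (fun i => Nat.beq (actR2 i) i) 800000 5000 = true := by decide +kernel
theorem c_act2_161 : allRange (fun i => Nat.beq (actR2 i) i) 805000 5000 = true := by decide +kernel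
theorem c_act2_162 : allRange (fun i => Nat.beq (actR2 i) i) 810000 5000 = true := by decide +kernel
theorem c_act2_163 : allRange (fun i => Nat.beq (actR2 i) i) 815000 5000 = true := by decide +kernel
theorem c_act2_164 : allRange (fun i => Nat.beq (actR2 i) i) 820000 5000 = true := by decide +kernel
theorem c_act2_165 : allRange (fun i => Nat.beq (actR2 i) i) 825000 5000 = true := by decide +kernel
theorem c_act2_166 : allRange (fun i => Nat.beq (actR2 i) i) 830000 5000 = true := by decide +kernel
theorem c_act2_167 : allRange (fun i => Nat.beq (actR2 i) i) 835000 5000 = true := by decide +kernel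
theorem c_act2_168 : allRange (fun i => Nat.beq (actR2 i) i) 840000 5000 = true := by decide +kernel
theorem c_act2_169 : allRange (fun i => Nat.beq (actR2 i) i) 845000 5000 = true := by decide +kernel
theorem c_act2_170 : allRange (fun i => Nat.beq (actR2 i) i) 850000 5000 = true := by decide +kernel
theorem c_act2_171 : allRange (fun i => Nat.beq (actR2 i) i) 855000 5000 = true := by decide +kernel

end Cfsg.Agent.Lib.Helper4.TCD.HNm
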