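import Cfsg.Agent.Lib.Helper4.TCD_HNm_Acc

namespace Cfsg.Agent.Lib.Helper4.TCD.HNm

open Cfsg.Agent.Lib.Helper4.TC

set_option maxRecDepth 100000
set_option Elab.async false

theorem c_act2_172 : allRange (fun i => Nat.beq (actR2 i) i) 860000 5000 = true := by decide +kernel
theorem c_act2_173 : allRange (fun i => Nat.beq (actR2 i) i) 865000 5000 = true := by decide +kernel
theorem c_act2_174 : allRange (fun i => Nat.beq (actR2 i) i) 870000 5000 = true := by decide +kernel
theorem c_act2_175 : allRange (fun i => Nat.beq (actR2 i) i) 875000 5000 = true := by decide +kernel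
theorem c_act2_176 : allRange (fun i => Nat.beq (actR2 i) i) 880000 5000 = true := by decide +kernel
theorem c_act2_177 : allRange (fun i => Nat.beq (actR2 i) i) 885000 5000 = true := by decide +kernel
theorem c_act2_178 : allRange (fun i => Nat.beq (actR2 i) i) 890000 5000 = true := by decide +kernel
theorem c_act2_179 : allRange (fun i => Nat.beq (actR2 i) i) 895000 5000 = true := by decide +kernel
theorem c_act2_180 : allRange (fun i => Nat.beq (actR2 i) i) 900000 5000 = true := by decide +kernel
theorem c_act2_181 : allRange (fun i => Nat.beq (actR2 i) i) 905000 5000 = true := by decide +kernel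
theorem c_act2_182 : allRange (fun i => Nat.beq (actR2 i) i) 910000 5000 = true := by decide +kernel
theorem c_act2_183 : allRange (fun i => Nat.beq (actR2 i) i) 915000 5000 = true := by decide +kernel
theorem c_act2_184 : allRange (fun i => Nat.beq (actR2 i) i) 920000 5000 = true := by decide +kernel
theorem c_act2_185 : allRange (fun i => Nat.beq (actR2 i) i) 925000 5000 = true := by decide +kernel
theorem c_act2_186 : allRange (fun i => Nat.beq (actR2 i) i) 930000 5000 = true := by decide +kernel
theorem c_act2_187 : allRange (fun i => Nat.beq (actR2 i) i) 935000 5000 = true := by decide +kernel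
theorem c_act2_188 : allRange (fun i => Nat.beq (actR2 i) i) 940000 5000 = true := by decide +kernel
theorem c_act2_189 : allRange (fun i => Nat.beq (actR2 i) i) 945000 5000 = true := by decide +kernel
theorem c_act2_190 : allRange (fun i => Nat.beq (actR2 i) i) 950000 5000 = true := by decide +kernel
theorem c_act2_191 : allRange (fun i => Nat.beq (actR2 i) i) 955000 5000 = true := by decide +kernel
theorem c_act2_192 : allRange (fun i => Nat.beq (actR2 i) i) 960000 5000 = true := by decide +kernel
theorem c_act2_193 : allRange (fun i => Nat.beq (actR2 i) i) 965000 5000 = true := by decide +kernel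
theorem c_act2_194 : allRange (fun i => Nat.beq (actR2 i) i) 970000 5000 = true := by decide +kernel
theorem c_act2_195 : allRange (fun i => Nat.beq (actR2 i) i) 975000 5000 = true := by decide +kernel
theorem c_act2_196 : allRange (fun i => Nat.beq (actR2 i) i) 980000 5000 = true := by decide +kernel
theorem c_act2_197 : allRange (fun i => Nat.beq (actR2 i) i) 985000 5000 = true := by decide +kernel
theorem c_act2_198 : allRange (fun i => Nat.beq (actR2 i) i) 990000 5000 = true := by decide +kernel
theorem c_act2_199 : allRange (fun i => Nat.beq (actR2 i) i) 995000 5000 = true := by decide +kernel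
theorem c_act2_200 : allRange (fun i => Nat.beq (actR2 i) i) 1000000 5000 = true := by decide +kernel
theorem c_act2_201 : allRange (fun i => Nat.beq (actR2 i) i) 1005000 5000 = true := by decide +kernel
theorem c_act2_202 : allRange (fun i => Nat.beq (actR2 i) i) 1010000 5000 = true := by decide +kernel
theorem c_act2_203 : allRange (fun i => Nat.beq (actR2 i) i) 1015000 5000 = true := by decide +kernel
theorem c_act2_204 : allRange (fun i => Nat.beq (actR2 i) i) 1020000 5000 = true := by decide +kernel
theorem c_act2_205 : allRange (fun i => Nat.beq (actR2 i) i) 1025000 5000 = true := by decide +kernel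
theorem c_act2_206 : allRange (fun i => Nat.beq (actR2 i) i) 1030000 5000 = true := by decide +kernel
theorem c_act2_207 : allRange (fun i => Nat.beq (actR2 i) i) 1035000 5000 = true := by decide +kernel
theorem c_act2_208 : allRange (fun i => Nat.beq (actR2 i) i) 1040000 5000 = true := by decide +kernel
theorem c_act2_209 : allRange (fun i => Nat.beq (actR2 i) i) 1045000 5000 = true := by decide +kernel
theorem c_act2_210 : allRange (fun i => Nat.beq (actR2 i) i) 1050000 5000 = true := by decide +kernel
theorem c_act2_211 : allRange (fun i => Nat.beq (actR2 i) i) 1055000 5000 = true := by decide +kernel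
theorem c_act2_212 : allRange (fun i => Nat.beq (actR2 i) i) 1060000 5000 = true := by decide +kernel
theorem c_act2_213 : allRange (fun i => Nat.beq (actR2 i) i) 1065000 5000 = true := by decide +kernel
theorem c_act2_214 : allRange (fun i => Nat.beq (actR2 i) i) 1070000 5000 = true := by decide +kernel
theorem c_act2_215 : allRange (fun i => Nat.beq (actR2 i) i) 1075000 5000 = true := by decide +kernel
theorem c_act2_216 : allRange (fun i => Nat.beq (actR2 i) i) 1080000 5000 = true := by decide +kernel
theorem c_act2_217 : allRange (fun i => Nat.beq (actR2 i) i) 1085000 5000 = true := by decide +kernel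
theorem c_act2_218 : allRange (fun i => Nat.beq (actR2 i) i) 1090000 5000 = true := by decide +kernel
theorem c_act2_219 : allRange (fun i => Nat.beq (actR2 i) i) 1095000 5000 = true := by decide +kernel
theorem c_act2_220 : allRange (fun i => Nat.beq (actR2 i) i) 1100000 5000 = true := by decide +kernel
theorem c_act2_221 : allRange (fun i => Nat.beq (actR2 i) i) 1105000 5000 = true := by decide +kernel

end Cfsg.Agent.Lib.Helper4.TCD.HNm
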