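import Cfsg.Agent.Lib.Helper4.TCD_HNm_Acc

namespace Cfsg.Agent.Lib.Helper4.TCD.HNm

open Cfsg.Agent.Lib.Helper4.TC

set_option maxRecDepth 100000
set_option Elab.async false

theorem c_act2_222 : allRange (fun i => Nat.beq (actR2 i) i) 1110000 5000 = true := by decide +kernel
theorem c_act2_223 : allRange (fun i => Nat.beq (actR2 i) i) 1115000 5000 = true := by decide +kernel
theorem c_act2_224 : allRange (fun i => Nat.beq (actR2 i) i) 1120000 5000 = true := by decide +kernel
theorem c_act2_225 : allRange (fun i => Nat.beq (actR2 i) i) 1125000 5000 = true := by decide +kernel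
theorem c_act2_226 : allRange (fun i => Nat.beq (actR2 i) i) 1130000 5000 = true := by decide +kernel
theorem c_act2_227 : allRange (fun i => Nat.beq (actR2 i) i) 1135000 5000 = true := by decide +kernel
theorem c_act2_228 : allRange (fun i => Nat.beq (actR2 i) i) 1140000 5000 = true := by decide +kernel
theorem c_act2_229 : allRange (fun i => Nat.beq (actR2 i) i) 1145000 5000 = true := by decide +kernel
theorem c_act2_230 : allRange (fun i => Nat.beq (actR2 i) i) 1150000 5000 = true := by decide +kernel
theorem c_act2_231 : allRange (fun i => Nat.beq (actR2 i) i) 1155000 5000 = true := by decide +kernel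
theorem c_act2_232 : allRange (fun i => Nat.beq (actR2 i) i) 1160000 5000 = true := by decide +kernel
theorem c_act2_233 : allRange (fun i => Nat.beq (actR2 i) i) 1165000 5000 = true := by decide +kernel
theorem c_act2_234 : allRange (fun i => Nat.beq (actR2 i) i) 1170000 5000 = true := by decide +kernel
theorem c_act2_235 : allRange (fun i => Nat.beq (actR2 i) i) 1175000 5000 = true := by decide +kernel
theorem c_act2_236 : allRange (fun i => Nat.beq (actR2 i) i) 1180000 5000 = true := by decide +kernel
theorem c_act2_237 : allRange (fun i => Nat.beq (actR2 i) i) 1185000 5000 = true := by decide +kernel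
theorem c_act2_238 : allRange (fun i => Nat.beq (actR2 i) i) 1190000 5000 = true := by decide +kernel
theorem c_act2_239 : allRange (fun i => Nat.beq (actR2 i) i) 1195000 5000 = true := by decide +kernel
theorem c_act2_240 : allRange (fun i => Nat.beq (actR2 i) i) 1200000 5000 = true := by decide +kernel
theorem c_act2_241 : allRange (fun i => Nat.beq (actR2 i) i) 1205000 5000 = true := by decide +kernel
theorem c_act2_242 : allRange (fun i => Nat.beq (actR2 i) i) 1210000 5000 = true := by decide +kernel
theorem c_act2_243 : allRange (fun i => Nat.beq (actR2 i) i) 1215000 5000 = true := by decide +kernel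
theorem c_act2_244 : allRange (fun i => Nat.beq (actR2 i) i) 1220000 5000 = true := by decide +kernel
theorem c_act2_245 : allRange (fun i => Nat.beq (actR2 i) i) 1225000 5000 = true := by decide +kernel
theorem c_act2_246 : allRange (fun i => Nat.beq (actR2 i) i) 1230000 5000 = true := by decide +kernel
theorem c_act2_247 : allRange (fun i => Nat.beq (actR2 i) i) 1235000 5000 = true := by decide +kernel
theorem c_act2_248 : allRange (fun i => Nat.beq (actR2 i) i) 1240000 5000 = true := by decide +kernel
theorem c_act2_249 : allRange (fun i => Nat.beq (actR2 i) i) 1245000 5000 = true := by decide +kernel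
theorem c_act2_250 : allRange (fun i => Nat.beq (actR2 i) i) 1250000 5000 = true := by decide +kernel
theorem c_act2_251 : allRange (fun i => Nat.beq (actR2 i) i) 1255000 5000 = true := by decide +kernel
theorem c_act2_252 : allRange (fun i => Nat.beq (actR2 i) i) 1260000 5000 = true := by decide +kernel
theorem c_act2_253 : allRange (fun i => Nat.beq (actR2 i) i) 1265000 5000 = true := by decide +kernel
theorem c_act2_254 : allRange (fun i => Nat.beq (actR2 i) i) 1270000 5000 = true := by decide +kernel
theorem c_act2_255 : allRange (fun i => Nat.beq (actR2 i) i) 1275000 5000 = true := by decide +kernel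
theorem c_act2_256 : allRange (fun i => Nat.beq (actR2 i) i) 1280000 5000 = true := by decide +kernel
theorem c_act2_257 : allRange (fun i => Nat.beq (actR2 i) i) 1285000 5000 = true := by decide +kernel
theorem c_act2_258 : allRange (fun i => Nat.beq (actR2 i) i) 1290000 5000 = true := by decide +kernel
theorem c_act2_259 : allRange (fun i => Nat.beq (actR2 i) i) 1295000 5000 = true := by decide +kernel
theorem c_act2_260 : allRange (fun i => Nat.beq (actR2 i) i) 1300000 5000 = true := by decide +kernel
theorem c_act2_261 : allRange (fun i => Nat.beq (actR2 i) i) 1305000 5000 = true := by decide +kernel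
theorem c_act2_262 : allRange (fun i => Nat.beq (actR2 i) i) 1310000 5000 = true := by decide +kernel
theorem c_act2_263 : allRange (fun i => Nat.beq (actR2 i) i) 1315000 5000 = true := by decide +kernel
theorem c_act2_264 : allRange (fun i => Nat.beq (actR2 i) i) 1320000 5000 = true := by decide +kernel
theorem c_act2_265 : allRange (fun i => Nat.beq (actR2 i) i) 1325000 5000 = true := by decide +kernel
theorem c_act2_266 : allRange (fun i => Nat.beq (actR2 i) i) 1330000 5000 = true := by decide +kernel
theorem c_act2_267 : allRange (fun i => Nat.beq (actR2 i) i) 1335000 5000 = true := by decide +kernel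
theorem c_act2_268 : allRange (fun i => Nat.beq (actR2 i) i) 1340000 5000 = true := by decide +kernel
theorem c_act2_269 : allRange (fun i => Nat.beq (actR2 i) i) 1345000 5000 = true := by decide +kernel
theorem c_act2_270 : allRange (fun i => Nat.beq (actR2 i) i) 1350000 5000 = true := by decide +kernel
theorem c_act2_271 : allRange (fun i => Nat.beq (actR2 i) i) 1355000 5000 = true := by decide +kernel

end Cfsg.Agent.Lib.Helper4.TCD.HNm
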