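import Cfsg.Agent.Lib.Helper4.TCD_HNm_Acc

namespace Cfsg.Agent.Lib.Helper4.TCD.HNm

open Cfsg.Agent.Lib.Helper4.TC

set_option maxRecDepth 100000
set_option Elab.async false

theorem c_act2_272 : allRange (fun i => Nat.beq (actR2 i) i) 1360000 5000 = true := by decide +kernel
theorem c_act2_273 : allRange (fun i => Nat.beq (actR2 i) i) 1365000 5000 = true := by decide +kernel
theorem c_act2_274 : allRange (fun i => Nat.beq (actR2 i) i) 1370000 5000 = true := by decide +kernel
theorem c_act2_275 : allRange (fun i => Nat.beq (actR2 i) i) 1375000 5000 = true := by decide +kernel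
theorem c_act2_276 : allRange (fun i => Nat.beq (actR2 i) i) 1380000 5000 = true := by decide +kernel
theorem c_act2_277 : allRange (fun i => Nat.beq (actR2 i) i) 1385000 5000 = true := by decide +kernel
theorem c_act2_278 : allRange (fun i => Nat.beq (actR2 i) i) 1390000 5000 = true := by decide +kernel
theorem c_act2_279 : allRange (fun i => Nat.beq (actR2 i) i) 1395000 5000 = true := by decide +kernel
theorem c_act2_280 : allRange (fun i => Nat.beq (actR2 i) i) 1400000 5000 = true := by decide +kernel
theorem c_act2_281 : allRange (fun i => Nat.beq (actR2 i) i) 1405000 5000 = true := by decide +kernel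
theorem c_act2_282 : allRange (fun i => Nat.beq (actR2 i) i) 1410000 5000 = true := by decide +kernel
theorem c_act2_283 : allRange (fun i => Nat.beq (actR2 i) i) 1415000 5000 = true := by decide +kernel
theorem c_act2_284 : allRange (fun i => Nat.beq (actR2 i) i) 1420000 5000 = true := by decide +kernel
theorem c_act2_285 : allRange (fun i => Nat.beq (actR2 i) i) 1425000 5000 = true := by decide +kernel
theorem c_act2_286 : allRange (fun i => Nat.beq (actR2 i) i) 1430000 5000 = true := by decide +kernel
theorem c_act2_287 : allRange (fun i => Nat.beq (actR2 i) i) 1435000 5000 = true := by decide +kernel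
theorem c_act2_288 : allRange (fun i => Nat.beq (actR2 i) i) 1440000 5000 = true := by decide +kernel
theorem c_act2_289 : allRange (fun i => Nat.beq (actR2 i) i) 1445000 5000 = true := by decide +kernel
theorem c_act2_290 : allRange (fun i => Nat.beq (actR2 i) i) 1450000 5000 = true := by decide +kernel
theorem c_act2_291 : allRange (fun i => Nat.beq (actR2 i) i) 1455000 5000 = true := by decide +kernel
theorem c_act2_292 : allRange (fun i => Nat.beq (actR2 i) i) 1460000 5000 = true := by decide +kernel
theorem c_act2_293 : allRange (fun i => Nat.beq (actR2 i) i) 1465000 5000 = true := by decide +kernel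
theorem c_act2_294 : allRange (fun i => Nat.beq (actR2 i) i) 1470000 5000 = true := by decide +kernel
theorem c_act2_295 : allRange (fun i => Nat.beq (actR2 i) i) 1475000 5000 = true := by decide +kernel
theorem c_act2_296 : allRange (fun i => Nat.beq (actR2 i) i) 1480000 5000 = true := by decide +kernel
theorem c_act2_297 : allRange (fun i => Nat.beq (actR2 i) i) 1485000 5000 = true := by decide +kernel
theorem c_act2_298 : allRange (fun i => Nat.beq (actR2 i) i) 1490000 5000 = true := by decide +kernel
theorem c_act2_299 : allRange (fun i => Nat.beq (actR2 i) i) 1495000 5000 = true := by decide +kernel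
theorem c_act2_300 : allRange (fun i => Nat.beq (actR2 i) i) 1500000 5000 = true := by decide +kernel
theorem c_act2_301 : allRange (fun i => Nat.beq (actR2 i) i) 1505000 5000 = true := by decide +kernel
theorem c_act2_302 : allRange (fun i => Nat.beq (actR2 i) i) 1510000 5000 = true := by decide +kernel
theorem c_act2_303 : allRange (fun i => Nat.beq (actR2 i) i) 1515000 5000 = true := by decide +kernel
theorem c_act2_304 : allRange (fun i => Nat.beq (actR2 i) i) 1520000 5000 = true := by decide +kernel
theorem c_act2_305 : allRange (fun i => Nat.beq (actR2 i) i) 1525000 5000 = true := by decide +kernel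
theorem c_act2_306 : allRange (fun i => Nat.beq (actR2 i) i) 1530000 5000 = true := by decide +kernel
theorem c_act2_307 : allRange (fun i => Nat.beq (actR2 i) i) 1535000 4000 = true := by decide +kernel
theorem c_act3_0 : allRange (fun i => Nat.beq (actR3 i) i) 0 2857 = true := by decide +kernel
theorem c_act3_1 : allRange (fun i => Nat.beq (actR3 i) i) 2857 2857 = true := by decide +kernel
theorem c_act3_2 : allRange (fun i => Nat.beq (actR3 i) i) 5714 2857 = true := by decide +kernel
theorem c_act3_3 : allRange (fun i => Nat.beq (actR3 i) i) 8571 2857 = true := by decide +kernel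
theorem c_act3_4 : allRange (fun i => Nat.beq (actR3 i) i) 11428 2857 = true := by decide +kernel
theorem c_act3_5 : allRange (fun i => Nat.beq (actR3 i) i) 14285 2857 = true := by decide +kernel
theorem c_act3_6 : allRange (fun i => Nat.beq (actR3 i) i) 17142 2857 = true := by decide +kernel
theorem c_act3_7 : allRange (fun i => Nat.beq (actR3 i) i) 19999 2857 = true := by decide +kernel
theorem c_act3_8 : allRange (fun i => Nat.beq (actR3 i) i) 22856 2857 = true := by decide +kernel
theorem c_act3_9 : allRange (fun i => Nat.beq (actR3 i) i) 25713 2857 = true := by decide +kernel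
theorem c_act3_10 : allRange (fun i => Nat.beq (actR3 i) i) 28570 2857 = true := by decide +kernel
theorem c_act3_11 : allRange (fun i => Nat.beq (actR3 i) i) 31427 2857 = true := by decide +kernel
theorem c_act3_12 : allRange (fun i => Nat.beq (actR3 i) i) 34284 2857 = true := by decide +kernel
theorem c_act3_13 : allRange (fun i => Nat.beq (actR3 i) i) 37141 2857 = true := by decide +kernel

end Cfsg.Agent.Lib.Helper4.TCD.HNm
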