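import Cfsg.Agent.Lib.Helper4.TCD_HNm_Acc

namespace Cfsg.Agent.Lib.Helper4.TCD.HNm

open Cfsg.Agent.Lib.Helper4.TC

set_option maxRecDepth 100000
set_option Elab.async false

theorem c_rel_320 : allRange D.relOK 2472330 3092 = true := by decide +kernel
theorem c_rel_321 : allRange D.relOK 2475422 2439 = true := by decide +kernel
theorem c_rel_322 : allRange D.relOK 2477861 2943 = true := by decide +kernel
theorem c_rel_323 : allRange D.relOK 2480804 2968 = true := by decide +kernel
theorem c_rel_324 : allRange D.relOK 2483772 2602 = true := by decide +kernel
theorem c_rel_325 : allRange D.relOK 2486374 2895 = true := by decide +kernel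
theorem c_rel_326 : allRange D.relOK 2489269 2682 = true := by decide +kernel
theorem c_rel_327 : allRange D.relOK 2491951 2292 = true := by decide +kernel
theorem c_rel_328 : allRange D.relOK 2494243 2800 = true := by decide +kernel
theorem c_rel_329 : allRange D.relOK 2497043 2945 = true := by decide +kernel
theorem c_rel_330 : allRange D.relOK 2499988 2379 = true := by decide +kernel
theorem c_rel_331 : allRange D.relOK 2502367 2811 = true := by decide +kernel
theorem c_rel_332 : allRange D.relOK 2505178 2380 = true := by decide +kernel
theorem c_rel_333 : allRange D.relOK 2507558 2397 = true := by decide +kernel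
theorem c_rel_334 : allRange D.relOK 2509955 2635 = true := by decide +kernel
theorem c_rel_335 : allRange D.relOK 2512590 2763 = true := by decide +kernel
theorem c_rel_336 : allRange D.relOK 2515353 2620 = true := by decide +kernel
theorem c_rel_337 : allRange D.relOK 2517973 2372 = true := by decide +kernel
theorem c_rel_338 : allRange D.relOK 2520345 2324 = true := by decide +kernel
theorem c_rel_339 : allRange D.relOK 2522669 2442 = true := by decide +kernel
theorem c_rel_340 : allRange D.relOK 2525111 1776 = true := by decide +kernel
theorem c_rel_341 : allRange D.relOK 2526887 2139 = true := by decide +kernel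
theorem c_rel_342 : allRange D.relOK 2529026 2913 = true := by decide +kernel
theorem c_rel_343 : allRange D.relOK 2531939 2935 = true := by decide +kernel
theorem c_rel_344 : allRange D.relOK 2534874 2764 = true := by decide +kernel
theorem c_rel_345 : allRange D.relOK 2537638 2829 = true := by decide +kernel
theorem c_rel_346 : allRange D.relOK 2540467 3101 = true := by decide +kernel
theorem c_rel_347 : allRange D.relOK 2543568 2841 = true := by decide +kernel
theorem c_rel_348 : allRange D.relOK 2546409 2313 = true := by decide +kernel
theorem c_rel_349 : allRange D.relOK 2548722 2294 = true := by decide +kernel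
theorem c_rel_350 : allRange D.relOK 2551016 2494 = true := by decide +kernel
theorem c_rel_351 : allRange D.relOK 2553510 2282 = true := by decide +kernel
theorem c_rel_352 : allRange D.relOK 2555792 2578 = true := by decide +kernel
theorem c_rel_353 : allRange D.relOK 2558370 2249 = true := by decide +kernel
theorem c_rel_354 : allRange D.relOK 2560619 2519 = true := by decide +kernel
theorem c_rel_355 : allRange D.relOK 2563138 3003 = true := by decide +kernel
theorem c_rel_356 : allRange D.relOK 2566141 2793 = true := by decide +kernel
theorem c_rel_357 : allRange D.relOK 2568934 2863 = true := by decide +kernel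
theorem c_rel_358 : allRange D.relOK 2571797 2507 = true := by decide +kernel
theorem c_rel_359 : allRange D.relOK 2574304 2679 = true := by decide +kernel
theorem c_rel_360 : allRange D.relOK 2576983 2609 = true := by decide +kernel
theorem c_rel_361 : allRange D.relOK 2579592 2619 = true := by decide +kernel
theorem c_rel_362 : allRange D.relOK 2582211 2585 = true := by decide +kernel
theorem c_rel_363 : allRange D.relOK 2584796 2798 = true := by decide +kernel
theorem c_rel_364 : allRange D.relOK 2587594 2399 = true := by decide +kernel
theorem c_rel_365 : allRange D.relOK 2589993 2629 = true := by decide +kernel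
theorem c_rel_366 : allRange D.relOK 2592622 2504 = true := by decide +kernel
theorem c_rel_367 : allRange D.relOK 2595126 2711 = true := by decide +kernel
theorem c_rel_368 : allRange D.relOK 2597837 2892 = true := by decide +kernel
theorem c_rel_369 : allRange D.relOK 2600729 2967 = true := by decide +kernel
theorem c_rel_370 : allRange D.relOK 2603696 2655 = true := by decide +kernel
theorem c_rel_371 : allRange D.relOK 2606351 2781 = true := by decide +kernel
theorem c_rel_372 : allRange D.relOK 2609132 2496 = true := by decide +kernel
theorem c_rel_373 : allRange D.relOK 2611628 2665 = true := by decide +kernel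
theorem c_rel_374 : allRange D.relOK 2614293 2490 = true := by decide +kernel
theorem c_rel_375 : allRange D.relOK 2616783 2134 = true := by decide +kernel
theorem c_rel_376 : allRange D.relOK 2618917 2626 = true := by decide +kernel
theorem c_rel_377 : allRange D.relOK 2621543 2481 = true := by decide +kernel
theorem c_rel_378 : allRange D.relOK 2624024 2423 = true := by decide +kernel
theorem c_rel_379 : allRange D.relOK 2626447 2500 = true := by decide +kernel
theorem c_rel_380 : allRange D.relOK 2628947 2557 = true := by decide +kernel
theorem c_rel_381 : allRange D.relOK 2631504 2476 = true := by decide +kernel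
theorem c_rel_382 : allRange D.relOK 2633980 2904 = true := by decide +kernel
theorem c_rel_383 : allRange D.relOK 2636884 2546 = true := by decide +kernel
theorem c_rel_384 : allRange D.relOK 2639430 2413 = true := by decide +kernel
theorem c_rel_385 : allRange D.relOK 2641843 2540 = true := by decide +kernel
theorem c_rel_386 : allRange D.relOK 2644383 2727 = true := by decide +kernel
theorem c_rel_387 : allRange D.relOK 2647110 2525 = true := by decide +kernel
theorem c_rel_388 : allRange D.relOK 2649635 2548 = true := by decide +kernel
theorem c_rel_389 : allRange D.relOK 2652183 2622 = true := by decide +kernel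
theorem c_rel_390 : allRange D.relOK 2654805 2553 = true := by decide +kernel
theorem c_rel_391 : allRange D.relOK 2657358 2371 = true := by decide +kernel
theorem c_rel_392 : allRange D.relOK 2659729 2447 = true := by decide +kernel
theorem c_rel_393 : allRange D.relOK 2662176 2457 = true := by decide +kernel
theorem c_rel_394 : allRange D.relOK 2664633 2369 = true := by decide +kernel
theorem c_rel_395 : allRange D.relOK 2667002 2639 = true := by decide +kernel
theorem c_rel_396 : allRange D.relOK 2669641 2452 = true := by decide +kernel
theorem c_rel_397 : allRange D.relOK 2672093 2643 = true := by decide +kernel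
theorem c_rel_398 : allRange D.relOK 2674736 2483 = true := by decide +kernel
theorem c_rel_399 : allRange D.relOK 2677219 2700 = true := by decide +kernel
theorem c_rel_400 : allRange D.relOK 2679919 2436 = true := by decide +kernel
theorem c_rel_401 : allRange D.relOK 2682355 2405 = true := by decide +kernel
theorem c_rel_402 : allRange D.relOK 2684760 2684 = true := by decide +kernel
theorem c_rel_403 : allRange D.relOK 2687444 2564 = true := by decide +kernel
theorem c_rel_404 : allRange D.relOK 2690008 2591 = true := by decide +kernel
theorem c_rel_405 : allRange D.relOK 2692599 2509 = true := by decide +kernel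
theorem c_rel_406 : allRange D.relOK 2695108 2561 = true := by decide +kernel
theorem c_rel_407 : allRange D.relOK 2697669 2670 = true := by decide +kernel
theorem c_rel_408 : allRange D.relOK 2700339 2851 = true := by decide +kernel
theorem c_rel_409 : allRange D.relOK 2703190 2614 = true := by decide +kernel
theorem c_rel_410 : allRange D.relOK 2705804 2870 = true := by decide +kernel
theorem c_rel_411 : allRange D.relOK 2708674 2604 = true := by decide +kernel
theorem c_rel_412 : allRange D.relOK 2711278 2770 = true := by decide +kernel
theorem c_rel_413 : allRange D.relOK 2714048 2845 = true := by decide +kernel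
theorem c_rel_414 : allRange D.relOK 2716893 2634 = true := by decide +kernel
theorem c_rel_415 : allRange D.relOK 2719527 2446 = true := by decide +kernel
theorem c_rel_416 : allRange D.relOK 2721973 2753 = true := by decide +kernel
theorem c_rel_417 : allRange D.relOK 2724726 2519 = true := by decide +kernel
theorem c_rel_418 : allRange D.relOK 2727245 2229 = true := by decide +kernel

end Cfsg.Agent.Lib.Helper4.TCD.HNm
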