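import Cfsg.Agent.Lib.Helper4.TCD_HNm_Acc

namespace Cfsg.Agent.Lib.Helper4.TCD.HNm

open Cfsg.Agent.Lib.Helper4.TC

set_option maxRecDepth 100000
set_option Elab.async false

theorem c_act3_64 : allRange (fun i => Nat.beq (actR3 i) i) 182848 2857 = true := by decide +kernel
theorem c_act3_65 : allRange (fun i => Nat.beq (actR3 i) i) 185705 2857 = true := by decide +kernel
theorem c_act3_66 : allRange (fun i => Nat.beq (actR3 i) i) 188562 2857 = true := by decide +kernel
theorem c_act3_67 : allRange (fun i => Nat.beq (actR3 i) i) 191419 2857 = true := by decide +kernel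
theorem c_act3_68 : allRange (fun i => Nat.beq (actR3 i) i) 194276 2857 = true := by decide +kernel
theorem c_act3_69 : allRange (fun i => Nat.beq (actR3 i) i) 197133 2857 = true := by decide +kernel
theorem c_act3_70 : allRange (fun i => Nat.beq (actR3 i) i) 199990 2857 = true := by decide +kernel
theorem c_act3_71 : allRange (fun i => Nat.beq (actR3 i) i) 202847 2857 = true := by decide +kernel
theorem c_act3_72 : allRange (fun i => Nat.beq (actR3 i) i) 205704 2857 = true := by decide +kernel
theorem c_act3_73 : allRange (fun i => Nat.beq (actR3 i) i) 208561 2857 = true := by decide +kernel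
theorem c_act3_74 : allRange (fun i => Nat.beq (actR3 i) i) 211418 2857 = true := by decide +kernel
theorem c_act3_75 : allRange (fun i => Nat.beq (actR3 i) i) 214275 2857 = true := by decide +kernel
theorem c_act3_76 : allRange (fun i => Nat.beq (actR3 i) i) 217132 2857 = true := by decide +kernel
theorem c_act3_77 : allRange (fun i => Nat.beq (actR3 i) i) 219989 2857 = true := by decide +kernel
theorem c_act3_78 : allRange (fun i => Nat.beq (actR3 i) i) 222846 2857 = true := by decide +kernel
theorem c_act3_79 : allRange (fun i => Nat.beq (actR3 i) i) 225703 2857 = true := by decide +kernel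
theorem c_act3_80 : allRange (fun i => Nat.beq (actR3 i) i) 228560 2857 = true := by decide +kernel
theorem c_act3_81 : allRange (fun i => Nat.beq (actR3 i) i) 231417 2857 = true := by decide +kernel
theorem c_act3_82 : allRange (fun i => Nat.beq (actR3 i) i) 234274 2857 = true := by decide +kernel
theorem c_act3_83 : allRange (fun i => Nat.beq (actR3 i) i) 237131 2857 = true := by decide +kernel
theorem c_act3_84 : allRange (fun i => Nat.beq (actR3 i) i) 239988 2857 = true := by decide +kernel
theorem c_act3_85 : allRange (fun i => Nat.beq (actR3 i) i) 242845 2857 = true := by decide +kernel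
theorem c_act3_86 : allRange (fun i => Nat.beq (actR3 i) i) 245702 2857 = true := by decide +kernel
theorem c_act3_87 : allRange (fun i => Nat.beq (actR3 i) i) 248559 2857 = true := by decide +kernel
theorem c_act3_88 : allRange (fun i => Nat.beq (actR3 i) i) 251416 2857 = true := by decide +kernel
theorem c_act3_89 : allRange (fun i => Nat.beq (actR3 i) i) 254273 2857 = true := by decide +kernel
theorem c_act3_90 : allRange (fun i => Nat.beq (actR3 i) i) 257130 2857 = true := by decide +kernel
theorem c_act3_91 : allRange (fun i => Nat.beq (actR3 i) i) 259987 2857 = true := by decide +kernel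
theorem c_act3_92 : allRange (fun i => Nat.beq (actR3 i) i) 262844 2857 = true := by decide +kernel
theorem c_act3_93 : allRange (fun i => Nat.beq (actR3 i) i) 265701 2857 = true := by decide +kernel
theorem c_act3_94 : allRange (fun i => Nat.beq (actR3 i) i) 268558 2857 = true := by decide +kernel
theorem c_act3_95 : allRange (fun i => Nat.beq (actR3 i) i) 271415 2857 = true := by decide +kernel
theorem c_act3_96 : allRange (fun i => Nat.beq (actR3 i) i) 274272 2857 = true := by decide +kernel
theorem c_act3_97 : allRange (fun i => Nat.beq (actR3 i) i) 277129 2857 = true := by decide +kernel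
theorem c_act3_98 : allRange (fun i => Nat.beq (actR3 i) i) 279986 2857 = true := by decide +kernel
theorem c_act3_99 : allRange (fun i => Nat.beq (actR3 i) i) 282843 2857 = true := by decide +kernel
theorem c_act3_100 : allRange (fun i => Nat.beq (actR3 i) i) 285700 2857 = true := by decide +kernel
theorem c_act3_101 : allRange (fun i => Nat.beq (actR3 i) i) 288557 2857 = true := by decide +kernel
theorem c_act3_102 : allRange (fun i => Nat.beq (actR3 i) i) 291414 2857 = true := by decide +kernel
theorem c_act3_103 : allRange (fun i => Nat.beq (actR3 i) i) 294271 2857 = true := by decide +kernel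
theorem c_act3_104 : allRange (fun i => Nat.beq (actR3 i) i) 297128 2857 = true := by decide +kernel
theorem c_act3_105 : allRange (fun i => Nat.beq (actR3 i) i) 299985 2857 = true := by decide +kernel
theorem c_act3_106 : allRange (fun i => Nat.beq (actR3 i) i) 302842 2857 = true := by decide +kernel
theorem c_act3_107 : allRange (fun i => Nat.beq (actR3 i) i) 305699 2857 = true := by decide +kernel
theorem c_act3_108 : allRange (fun i => Nat.beq (actR3 i) i) 308556 2857 = true := by decide +kernel
theorem c_act3_109 : allRange (fun i => Nat.beq (actR3 i) i) 311413 2857 = true := by decide +kernel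
theorem c_act3_110 : allRange (fun i => Nat.beq (actR3 i) i) 314270 2857 = true := by decide +kernel
theorem c_act3_111 : allRange (fun i => Nat.beq (actR3 i) i) 317127 2857 = true := by decide +kernel
theorem c_act3_112 : allRange (fun i => Nat.beq (actR3 i) i) 319984 2857 = true := by decide +kernel
theorem c_act3_113 : allRange (fun i => Nat.beq (actR3 i) i) 322841 2857 = true := by decide +kernel

end Cfsg.Agent.Lib.Helper4.TCD.HNm
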