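import Cfsg.Agent.Lib.Helper4.TCD_HNm_Acc

namespace Cfsg.Agent.Lib.Helper4.TCD.HNm

open Cfsg.Agent.Lib.Helper4.TC

set_option maxRecDepth 100000
set_option Elab.async false

theorem c_act3_114 : allRange (fun i => Nat.beq (actR3 i) i) 325698 2857 = true := by decide +kernel
theorem c_act3_115 : allRange (fun i => Nat.beq (actR3 i) i) 328555 2857 = true := by decide +kernel
theorem c_act3_116 : allRange (fun i => Nat.beq (actR3 i) i) 331412 2857 = true := by decide +kernel
theorem c_act3_117 : allRange (fun i => Nat.beq (actR3 i) i) 334269 2857 = true := by decide +kernel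
theorem c_act3_118 : allRange (fun i => Nat.beq (actR3 i) i) 337126 2857 = true := by decide +kernel
theorem c_act3_119 : allRange (fun i => Nat.beq (actR3 i) i) 339983 2857 = true := by decide +kernel
theorem c_act3_120 : allRange (fun i => Nat.beq (actR3 i) i) 342840 2857 = true := by decide +kernel
theorem c_act3_121 : allRange (fun i => Nat.beq (actR3 i) i) 345697 2857 = true := by decide +kernel
theorem c_act3_122 : allRange (fun i => Nat.beq (actR3 i) i) 348554 2857 = true := by decide +kernel
theorem c_act3_123 : allRange (fun i => Nat.beq (actR3 i) i) 351411 2857 = true := by decide +kernel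
theorem c_act3_124 : allRange (fun i => Nat.beq (actR3 i) i) 354268 2857 = true := by decide +kernel
theorem c_act3_125 : allRange (fun i => Nat.beq (actR3 i) i) 357125 2857 = true := by decide +kernel
theorem c_act3_126 : allRange (fun i => Nat.beq (actR3 i) i) 359982 2857 = true := by decide +kernel
theorem c_act3_127 : allRange (fun i => Nat.beq (actR3 i) i) 362839 2857 = true := by decide +kernel
theorem c_act3_128 : allRange (fun i => Nat.beq (actR3 i) i) 365696 2857 = true := by decide +kernel
theorem c_act3_129 : allRange (fun i => Nat.beq (actR3 i) i) 368553 2857 = true := by decide +kernel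
theorem c_act3_130 : allRange (fun i => Nat.beq (actR3 i) i) 371410 2857 = true := by decide +kernel
theorem c_act3_131 : allRange (fun i => Nat.beq (actR3 i) i) 374267 2857 = true := by decide +kernel
theorem c_act3_132 : allRange (fun i => Nat.beq (actR3 i) i) 377124 2857 = true := by decide +kernel
theorem c_act3_133 : allRange (fun i => Nat.beq (actR3 i) i) 379981 2857 = true := by decide +kernel
theorem c_act3_134 : allRange (fun i => Nat.beq (actR3 i) i) 382838 2857 = true := by decide +kernel
theorem c_act3_135 : allRange (fun i => Nat.beq (actR3 i) i) 385695 2857 = true := by decide +kernel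
theorem c_act3_136 : allRange (fun i => Nat.beq (actR3 i) i) 388552 2857 = true := by decide +kernel
theorem c_act3_137 : allRange (fun i => Nat.beq (actR3 i) i) 391409 2857 = true := by decide +kernel
theorem c_act3_138 : allRange (fun i => Nat.beq (actR3 i) i) 394266 2857 = true := by decide +kernel
theorem c_act3_139 : allRange (fun i => Nat.beq (actR3 i) i) 397123 2857 = true := by decide +kernel
theorem c_act3_140 : allRange (fun i => Nat.beq (actR3 i) i) 399980 2857 = true := by decide +kernel
theorem c_act3_141 : allRange (fun i => Nat.beq (actR3 i) i) 402837 2857 = true := by decide +kernel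
theorem c_act3_142 : allRange (fun i => Nat.beq (actR3 i) i) 405694 2857 = true := by decide +kernel
theorem c_act3_143 : allRange (fun i => Nat.beq (actR3 i) i) 408551 2857 = true := by decide +kernel
theorem c_act3_144 : allRange (fun i => Nat.beq (actR3 i) i) 411408 2857 = true := by decide +kernel
theorem c_act3_145 : allRange (fun i => Nat.beq (actR3 i) i) 414265 2857 = true := by decide +kernel
theorem c_act3_146 : allRange (fun i => Nat.beq (actR3 i) i) 417122 2857 = true := by decide +kernel
theorem c_act3_147 : allRange (fun i => Nat.beq (actR3 i) i) 419979 2857 = true := by decide +kernel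
theorem c_act3_148 : allRange (fun i => Nat.beq (actR3 i) i) 422836 2857 = true := by decide +kernel
theorem c_act3_149 : allRange (fun i => Nat.beq (actR3 i) i) 425693 2857 = true := by decide +kernel
theorem c_act3_150 : allRange (fun i => Nat.beq (actR3 i) i) 428550 2857 = true := by decide +kernel
theorem c_act3_151 : allRange (fun i => Nat.beq (actR3 i) i) 431407 2857 = true := by decide +kernel
theorem c_act3_152 : allRange (fun i => Nat.beq (actR3 i) i) 434264 2857 = true := by decide +kernel
theorem c_act3_153 : allRange (fun i => Nat.beq (actR3 i) i) 437121 2857 = true := by decide +kernel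
theorem c_act3_154 : allRange (fun i => Nat.beq (actR3 i) i) 439978 2857 = true := by decide +kernel
theorem c_act3_155 : allRange (fun i => Nat.beq (actR3 i) i) 442835 2857 = true := by decide +kernel
theorem c_act3_156 : allRange (fun i => Nat.beq (actR3 i) i) 445692 2857 = true := by decide +kernel
theorem c_act3_157 : allRange (fun i => Nat.beq (actR3 i) i) 448549 2857 = true := by decide +kernel
theorem c_act3_158 : allRange (fun i => Nat.beq (actR3 i) i) 451406 2857 = true := by decide +kernel
theorem c_act3_159 : allRange (fun i => Nat.beq (actR3 i) i) 454263 2857 = true := by decide +kernel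
theorem c_act3_160 : allRange (fun i => Nat.beq (actR3 i) i) 457120 2857 = true := by decide +kernel
theorem c_act3_161 : allRange (fun i => Nat.beq (actR3 i) i) 459977 2857 = true := by decide +kernel
theorem c_act3_162 : allRange (fun i => Nat.beq (actR3 i) i) 462834 2857 = true := by decide +kernel
theorem c_act3_163 : allRange (fun i => Nat.beq (actR3 i) i) 465691 2857 = true := by decide +kernel

end Cfsg.Agent.Lib.Helper4.TCD.HNm
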