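import Cfsg.Agent.Lib.Helper4.TCD_HNm_Acc

namespace Cfsg.Agent.Lib.Helper4.TCD.HNm

open Cfsg.Agent.Lib.Helper4.TC

set_option maxRecDepth 100000
set_option Elab.async false

theorem c_act3_164 : allRange (fun i => Nat.beq (actR3 i) i) 468548 2857 = true := by decide +kernel
theorem c_act3_165 : allRange (fun i => Nat.beq (actR3 i) i) 471405 2857 = true := by decide +kernel
theorem c_act3_166 : allRange (fun i => Nat.beq (actR3 i) i) 474262 2857 = true := by decide +kernel
theorem c_act3_167 : allRange (fun i => Nat.beq (actR3 i) i) 477119 2857 = true := by decide +kernel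
theorem c_act3_168 : allRange (fun i => Nat.beq (actR3 i) i) 479976 2857 = true := by decide +kernel
theorem c_act3_169 : allRange (fun i => Nat.beq (actR3 i) i) 482833 2857 = true := by decide +kernel
theorem c_act3_170 : allRange (fun i => Nat.beq (actR3 i) i) 485690 2857 = true := by decide +kernel
theorem c_act3_171 : allRange (fun i => Nat.beq (actR3 i) i) 488547 2857 = true := by decide +kernel
theorem c_act3_172 : allRange (fun i => Nat.beq (actR3 i) i) 491404 2857 = true := by decide +kernel
theorem c_act3_173 : allRange (fun i => Nat.beq (actR3 i) i) 494261 2857 = true := by decide +kernel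
theorem c_act3_174 : allRange (fun i => Nat.beq (actR3 i) i) 497118 2857 = true := by decide +kernel
theorem c_act3_175 : allRange (fun i => Nat.beq (actR3 i) i) 499975 2857 = true := by decide +kernel
theorem c_act3_176 : allRange (fun i => Nat.beq (actR3 i) i) 502832 2857 = true := by decide +kernel
theorem c_act3_177 : allRange (fun i => Nat.beq (actR3 i) i) 505689 2857 = true := by decide +kernel
theorem c_act3_178 : allRange (fun i => Nat.beq (actR3 i) i) 508546 2857 = true := by decide +kernel
theorem c_act3_179 : allRange (fun i => Nat.beq (actR3 i) i) 511403 2857 = true := by decide +kernel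
theorem c_act3_180 : allRange (fun i => Nat.beq (actR3 i) i) 514260 2857 = true := by decide +kernel
theorem c_act3_181 : allRange (fun i => Nat.beq (actR3 i) i) 517117 2857 = true := by decide +kernel
theorem c_act3_182 : allRange (fun i => Nat.beq (actR3 i) i) 519974 2857 = true := by decide +kernel
theorem c_act3_183 : allRange (fun i => Nat.beq (actR3 i) i) 522831 2857 = true := by decide +kernel
theorem c_act3_184 : allRange (fun i => Nat.beq (actR3 i) i) 525688 2857 = true := by decide +kernel
theorem c_act3_185 : allRange (fun i => Nat.beq (actR3 i) i) 528545 2857 = true := by decide +kernel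
theorem c_act3_186 : allRange (fun i => Nat.beq (actR3 i) i) 531402 2857 = true := by decide +kernel
theorem c_act3_187 : allRange (fun i => Nat.beq (actR3 i) i) 534259 2857 = true := by decide +kernel
theorem c_act3_188 : allRange (fun i => Nat.beq (actR3 i) i) 537116 2857 = true := by decide +kernel
theorem c_act3_189 : allRange (fun i => Nat.beq (actR3 i) i) 539973 2857 = true := by decide +kernel
theorem c_act3_190 : allRange (fun i => Nat.beq (actR3 i) i) 542830 2857 = true := by decide +kernel
theorem c_act3_191 : allRange (fun i => Nat.beq (actR3 i) i) 545687 2857 = true := by decide +kernel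
theorem c_act3_192 : allRange (fun i => Nat.beq (actR3 i) i) 548544 2857 = true := by decide +kernel
theorem c_act3_193 : allRange (fun i => Nat.beq (actR3 i) i) 551401 2857 = true := by decide +kernel
theorem c_act3_194 : allRange (fun i => Nat.beq (actR3 i) i) 554258 2857 = true := by decide +kernel
theorem c_act3_195 : allRange (fun i => Nat.beq (actR3 i) i) 557115 2857 = true := by decide +kernel
theorem c_act3_196 : allRange (fun i => Nat.beq (actR3 i) i) 559972 2857 = true := by decide +kernel
theorem c_act3_197 : allRange (fun i => Nat.beq (actR3 i) i) 562829 2857 = true := by decide +kernel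
theorem c_act3_198 : allRange (fun i => Nat.beq (actR3 i) i) 565686 2857 = true := by decide +kernel
theorem c_act3_199 : allRange (fun i => Nat.beq (actR3 i) i) 568543 2857 = true := by decide +kernel
theorem c_act3_200 : allRange (fun i => Nat.beq (actR3 i) i) 571400 2857 = true := by decide +kernel
theorem c_act3_201 : allRange (fun i => Nat.beq (actR3 i) i) 574257 2857 = true := by decide +kernel
theorem c_act3_202 : allRange (fun i => Nat.beq (actR3 i) i) 577114 2857 = true := by decide +kernel
theorem c_act3_203 : allRange (fun i => Nat.beq (actR3 i) i) 579971 2857 = true := by decide +kernel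
theorem c_act3_204 : allRange (fun i => Nat.beq (actR3 i) i) 582828 2857 = true := by decide +kernel
theorem c_act3_205 : allRange (fun i => Nat.beq (actR3 i) i) 585685 2857 = true := by decide +kernel
theorem c_act3_206 : allRange (fun i => Nat.beq (actR3 i) i) 588542 2857 = true := by decide +kernel
theorem c_act3_207 : allRange (fun i => Nat.beq (actR3 i) i) 591399 2857 = true := by decide +kernel
theorem c_act3_208 : allRange (fun i => Nat.beq (actR3 i) i) 594256 2857 = true := by decide +kernel
theorem c_act3_209 : allRange (fun i => Nat.beq (actR3 i) i) 597113 2857 = true := by decide +kernel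
theorem c_act3_210 : allRange (fun i => Nat.beq (actR3 i) i) 599970 2857 = true := by decide +kernel
theorem c_act3_211 : allRange (fun i => Nat.beq (actR3 i) i) 602827 2857 = true := by decide +kernel
theorem c_act3_212 : allRange (fun i => Nat.beq (actR3 i) i) 605684 2857 = true := by decide +kernel
theorem c_act3_213 : allRange (fun i => Nat.beq (actR3 i) i) 608541 2857 = true := by decide +kernel

end Cfsg.Agent.Lib.Helper4.TCD.HNm
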