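import Cfsg.Agent.Lib.Helper4.TCD_HNm_Acc

namespace Cfsg.Agent.Lib.Helper4.TCD.HNm

open Cfsg.Agent.Lib.Helper4.TC

set_option maxRecDepth 100000
set_option Elab.async false

theorem c_act3_264 : allRange (fun i => Nat.beq (actR3 i) i) 754248 2857 = true := by decide +kernel
theorem c_act3_265 : allRange (fun i => Nat.beq (actR3 i) i) 757105 2857 = true := by decide +kernel
theorem c_act3_266 : allRange (fun i => Nat.beq (actR3 i) i) 759962 2857 = true := by decide +kernel
theorem c_act3_267 : allRange (fun i => Nat.beq (actR3 i) i) 762819 2857 = true := by decide +kernel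
theorem c_act3_268 : allRange (fun i => Nat.beq (actR3 i) i) 765676 2857 = true := by decide +kernel
theorem c_act3_269 : allRange (fun i => Nat.beq (actR3 i) i) 768533 2857 = true := by decide +kernel
theorem c_act3_270 : allRange (fun i => Nat.beq (actR3 i) i) 771390 2857 = true := by decide +kernel
theorem c_act3_271 : allRange (fun i => Nat.beq (actR3 i) i) 774247 2857 = true := by decide +kernel
theorem c_act3_272 : allRange (fun i => Nat.beq (actR3 i) i) 777104 2857 = true := by decide +kernel
theorem c_act3_273 : allRange (fun i => Nat.beq (actR3 i) i) 779961 2857 = true := by decide +kernel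
theorem c_act3_274 : allRange (fun i => Nat.beq (actR3 i) i) 782818 2857 = true := by decide +kernel
theorem c_act3_275 : allRange (fun i => Nat.beq (actR3 i) i) 785675 2857 = true := by decide +kernel
theorem c_act3_276 : allRange (fun i => Nat.beq (actR3 i) i) 788532 2857 = true := by decide +kernel
theorem c_act3_277 : allRange (fun i => Nat.beq (actR3 i) i) 791389 2857 = true := by decide +kernel
theorem c_act3_278 : allRange (fun i => Nat.beq (actR3 i) i) 794246 2857 = true := by decide +kernel
theorem c_act3_279 : allRange (fun i => Nat.beq (actR3 i) i) 797103 2857 = true := by decide +kernel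
theorem c_act3_280 : allRange (fun i => Nat.beq (actR3 i) i) 799960 2857 = true := by decide +kernel
theorem c_act3_281 : allRange (fun i => Nat.beq (actR3 i) i) 802817 2857 = true := by decide +kernel
theorem c_act3_282 : allRange (fun i => Nat.beq (actR3 i) i) 805674 2857 = true := by decide +kernel
theorem c_act3_283 : allRange (fun i => Nat.beq (actR3 i) i) 808531 2857 = true := by decide +kernel
theorem c_act3_284 : allRange (fun i => Nat.beq (actR3 i) i) 811388 2857 = true := by decide +kernel
theorem c_act3_285 : allRange (fun i => Nat.beq (actR3 i) i) 814245 2857 = true := by decide +kernel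
theorem c_act3_286 : allRange (fun i => Nat.beq (actR3 i) i) 817102 2857 = true := by decide +kernel
theorem c_act3_287 : allRange (fun i => Nat.beq (actR3 i) i) 819959 2857 = true := by decide +kernel
theorem c_act3_288 : allRange (fun i => Nat.beq (actR3 i) i) 822816 2857 = true := by decide +kernel
theorem c_act3_289 : allRange (fun i => Nat.beq (actR3 i) i) 825673 2857 = true := by decide +kernel
theorem c_act3_290 : allRange (fun i => Nat.beq (actR3 i) i) 828530 2857 = true := by decide +kernel
theorem c_act3_291 : allRange (fun i => Nat.beq (actR3 i) i) 831387 2857 = true := by decide +kernel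
theorem c_act3_292 : allRange (fun i => Nat.beq (actR3 i) i) 834244 2857 = true := by decide +kernel
theorem c_act3_293 : allRange (fun i => Nat.beq (actR3 i) i) 837101 2857 = true := by decide +kernel
theorem c_act3_294 : allRange (fun i => Nat.beq (actR3 i) i) 839958 2857 = true := by decide +kernel
theorem c_act3_295 : allRange (fun i => Nat.beq (actR3 i) i) 842815 2857 = true := by decide +kernel
theorem c_act3_296 : allRange (fun i => Nat.beq (actR3 i) i) 845672 2857 = true := by decide +kernel
theorem c_act3_297 : allRange (fun i => Nat.beq (actR3 i) i) 848529 2857 = true := by decide +kernel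
theorem c_act3_298 : allRange (fun i => Nat.beq (actR3 i) i) 851386 2857 = true := by decide +kernel
theorem c_act3_299 : allRange (fun i => Nat.beq (actR3 i) i) 854243 2857 = true := by decide +kernel
theorem c_act3_300 : allRange (fun i => Nat.beq (actR3 i) i) 857100 2857 = true := by decide +kernel
theorem c_act3_301 : allRange (fun i => Nat.beq (actR3 i) i) 859957 2857 = true := by decide +kernel
theorem c_act3_302 : allRange (fun i => Nat.beq (actR3 i) i) 862814 2857 = true := by decide +kernel
theorem c_act3_303 : allRange (fun i => Nat.beq (actR3 i) i) 865671 2857 = true := by decide +kernel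
theorem c_act3_304 : allRange (fun i => Nat.beq (actR3 i) i) 868528 2857 = true := by decide +kernel
theorem c_act3_305 : allRange (fun i => Nat.beq (actR3 i) i) 871385 2857 = true := by decide +kernel
theorem c_act3_306 : allRange (fun i => Nat.beq (actR3 i) i) 874242 2857 = true := by decide +kernel
theorem c_act3_307 : allRange (fun i => Nat.beq (actR3 i) i) 877099 2857 = true := by decide +kernel
theorem c_act3_308 : allRange (fun i => Nat.beq (actR3 i) i) 879956 2857 = true := by decide +kernel
theorem c_act3_309 : allRange (fun i => Nat.beq (actR3 i) i) 882813 2857 = true := by decide +kernel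
theorem c_act3_310 : allRange (fun i => Nat.beq (actR3 i) i) 885670 2857 = true := by decide +kernel
theorem c_act3_311 : allRange (fun i => Nat.beq (actR3 i) i) 888527 2857 = true := by decide +kernel
theorem c_act3_312 : allRange (fun i => Nat.beq (actR3 i) i) 891384 2857 = true := by decide +kernel
theorem c_act3_313 : allRange (fun i => Nat.beq (actR3 i) i) 894241 2857 = true := by decide +kernel

end Cfsg.Agent.Lib.Helper4.TCD.HNm
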