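import Cfsg.Agent.Lib.Helper4.TCD_HNm_Acc

namespace Cfsg.Agent.Lib.Helper4.TCD.HNm

open Cfsg.Agent.Lib.Helper4.TC

set_option maxRecDepth 100000
set_option Elab.async false

theorem c_act3_314 : allRange (fun i => Nat.beq (actR3 i) i) 897098 2857 = true := by decide +kernel
theorem c_act3_315 : allRange (fun i => Nat.beq (actR3 i) i) 899955 2857 = true := by decide +kernel
theorem c_act3_316 : allRange (fun i => Nat.beq (actR3 i) i) 902812 2857 = true := by decide +kernel
theorem c_act3_317 : allRange (fun i => Nat.beq (actR3 i) i) 905669 2857 = true := by decide +kernel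
theorem c_act3_318 : allRange (fun i => Nat.beq (actR3 i) i) 908526 2857 = true := by decide +kernel
theorem c_act3_319 : allRange (fun i => Nat.beq (actR3 i) i) 911383 2857 = true := by decide +kernel
theorem c_act3_320 : allRange (fun i => Nat.beq (actR3 i) i) 914240 2857 = true := by decide +kernel
theorem c_act3_321 : allRange (fun i => Nat.beq (actR3 i) i) 917097 2857 = true := by decide +kernel
theorem c_act3_322 : allRange (fun i => Nat.beq (actR3 i) i) 919954 2857 = true := by decide +kernel
theorem c_act3_323 : allRange (fun i => Nat.beq (actR3 i) i) 922811 2857 = true := by decide +kernel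
theorem c_act3_324 : allRange (fun i => Nat.beq (actR3 i) i) 925668 2857 = true := by decide +kernel
theorem c_act3_325 : allRange (fun i => Nat.beq (actR3 i) i) 928525 2857 = true := by decide +kernel
theorem c_act3_326 : allRange (fun i => Nat.beq (actR3 i) i) 931382 2857 = true := by decide +kernel
theorem c_act3_327 : allRange (fun i => Nat.beq (actR3 i) i) 934239 2857 = true := by decide +kernel
theorem c_act3_328 : allRange (fun i => Nat.beq (actR3 i) i) 937096 2857 = true := by decide +kernel
theorem c_act3_329 : allRange (fun i => Nat.beq (actR3 i) i) 939953 2857 = true := by decide +kernel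
theorem c_act3_330 : allRange (fun i => Nat.beq (actR3 i) i) 942810 2857 = true := by decide +kernel
theorem c_act3_331 : allRange (fun i => Nat.beq (actR3 i) i) 945667 2857 = true := by decide +kernel
theorem c_act3_332 : allRange (fun i => Nat.beq (actR3 i) i) 948524 2857 = true := by decide +kernel
theorem c_act3_333 : allRange (fun i => Nat.beq (actR3 i) i) 951381 2857 = true := by decide +kernel
theorem c_act3_334 : allRange (fun i => Nat.beq (actR3 i) i) 954238 2857 = true := by decide +kernel
theorem c_act3_335 : allRange (fun i => Nat.beq (actR3 i) i) 957095 2857 = true := by decide +kernel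
theorem c_act3_336 : allRange (fun i => Nat.beq (actR3 i) i) 959952 2857 = true := by decide +kernel
theorem c_act3_337 : allRange (fun i => Nat.beq (actR3 i) i) 962809 2857 = true := by decide +kernel
theorem c_act3_338 : allRange (fun i => Nat.beq (actR3 i) i) 965666 2857 = true := by decide +kernel
theorem c_act3_339 : allRange (fun i => Nat.beq (actR3 i) i) 968523 2857 = true := by decide +kernel
theorem c_act3_340 : allRange (fun i => Nat.beq (actR3 i) i) 971380 2857 = true := by decide +kernel
theorem c_act3_341 : allRange (fun i => Nat.beq (actR3 i) i) 974237 2857 = true := by decide +kernel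
theorem c_act3_342 : allRange (fun i => Nat.beq (actR3 i) i) 977094 2857 = true := by decide +kernel
theorem c_act3_343 : allRange (fun i => Nat.beq (actR3 i) i) 979951 2857 = true := by decide +kernel
theorem c_act3_344 : allRange (fun i => Nat.beq (actR3 i) i) 982808 2857 = true := by decide +kernel
theorem c_act3_345 : allRange (fun i => Nat.beq (actR3 i) i) 985665 2857 = true := by decide +kernel
theorem c_act3_346 : allRange (fun i => Nat.beq (actR3 i) i) 988522 2857 = true := by decide +kernel
theorem c_act3_347 : allRange (fun i => Nat.beq (actR3 i) i) 991379 2857 = true := by decide +kernel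
theorem c_act3_348 : allRange (fun i => Nat.beq (actR3 i) i) 994236 2857 = true := by decide +kernel
theorem c_act3_349 : allRange (fun i => Nat.beq (actR3 i) i) 997093 2857 = true := by decide +kernel
theorem c_act3_350 : allRange (fun i => Nat.beq (actR3 i) i) 999950 2857 = true := by decide +kernel
theorem c_act3_351 : allRange (fun i => Nat.beq (actR3 i) i) 1002807 2857 = true := by decide +kernel
theorem c_act3_352 : allRange (fun i => Nat.beq (actR3 i) i) 1005664 2857 = true := by decide +kernel
theorem c_act3_353 : allRange (fun i => Nat.beq (actR3 i) i) 1008521 2857 = true := by decide +kernel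
theorem c_act3_354 : allRange (fun i => Nat.beq (actR3 i) i) 1011378 2857 = true := by decide +kernel
theorem c_act3_355 : allRange (fun i => Nat.beq (actR3 i) i) 1014235 2857 = true := by decide +kernel
theorem c_act3_356 : allRange (fun i => Nat.beq (actR3 i) i) 1017092 2857 = true := by decide +kernel
theorem c_act3_357 : allRange (fun i => Nat.beq (actR3 i) i) 1019949 2857 = true := by decide +kernel
theorem c_act3_358 : allRange (fun i => Nat.beq (actR3 i) i) 1022806 2857 = true := by decide +kernel
theorem c_act3_359 : allRange (fun i => Nat.beq (actR3 i) i) 1025663 2857 = true := by decide +kernel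
theorem c_act3_360 : allRange (fun i => Nat.beq (actR3 i) i) 1028520 2857 = true := by decide +kernel
theorem c_act3_361 : allRange (fun i => Nat.beq (actR3 i) i) 1031377 2857 = true := by decide +kernel
theorem c_act3_362 : allRange (fun i => Nat.beq (actR3 i) i) 1034234 2857 = true := by decide +kernel
theorem c_act3_363 : allRange (fun i => Nat.beq (actR3 i) i) 1037091 2857 = true := by decide +kernel

end Cfsg.Agent.Lib.Helper4.TCD.HNm
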