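import Cfsg.Agent.Lib.Helper4.TCD_HNm_Acc

namespace Cfsg.Agent.Lib.Helper4.TCD.HNm

open Cfsg.Agent.Lib.Helper4.TC

set_option maxRecDepth 100000
set_option Elab.async false

theorem c_act3_364 : allRange (fun i => Nat.beq (actR3 i) i) 1039948 2857 = true := by decide +kernel
theorem c_act3_365 : allRange (fun i => Nat.beq (actR3 i) i) 1042805 2857 = true := by decide +kernel
theorem c_act3_366 : allRange (fun i => Nat.beq (actR3 i) i) 1045662 2857 = true := by decide +kernel
theorem c_act3_367 : allRange (fun i => Nat.beq (actR3 i) i) 1048519 2857 = true := by decide +kernel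
theorem c_act3_368 : allRange (fun i => Nat.beq (actR3 i) i) 1051376 2857 = true := by decide +kernel
theorem c_act3_369 : allRange (fun i => Nat.beq (actR3 i) i) 1054233 2857 = true := by decide +kernel
theorem c_act3_370 : allRange (fun i => Nat.beq (actR3 i) i) 1057090 2857 = true := by decide +kernel
theorem c_act3_371 : allRange (fun i => Nat.beq (actR3 i) i) 1059947 2857 = true := by decide +kernel
theorem c_act3_372 : allRange (fun i => Nat.beq (actR3 i) i) 1062804 2857 = true := by decide +kernel
theorem c_act3_373 : allRange (fun i => Nat.beq (actR3 i) i) 1065661 2857 = true := by decide +kernel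
theorem c_act3_374 : allRange (fun i => Nat.beq (actR3 i) i) 1068518 2857 = true := by decide +kernel
theorem c_act3_375 : allRange (fun i => Nat.beq (actR3 i) i) 1071375 2857 = true := by decide +kernel
theorem c_act3_376 : allRange (fun i => Nat.beq (actR3 i) i) 1074232 2857 = true := by decide +kernel
theorem c_act3_377 : allRange (fun i => Nat.beq (actR3 i) i) 1077089 2857 = true := by decide +kernel
theorem c_act3_378 : allRange (fun i => Nat.beq (actR3 i) i) 1079946 2857 = true := by decide +kernel
theorem c_act3_379 : allRange (fun i => Nat.beq (actR3 i) i) 1082803 2857 = true := by decide +kernel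
theorem c_act3_380 : allRange (fun i => Nat.beq (actR3 i) i) 1085660 2857 = true := by decide +kernel
theorem c_act3_381 : allRange (fun i => Nat.beq (actR3 i) i) 1088517 2857 = true := by decide +kernel
theorem c_act3_382 : allRange (fun i => Nat.beq (actR3 i) i) 1091374 2857 = true := by decide +kernel
theorem c_act3_383 : allRange (fun i => Nat.beq (actR3 i) i) 1094231 2857 = true := by decide +kernel
theorem c_act3_384 : allRange (fun i => Nat.beq (actR3 i) i) 1097088 2857 = true := by decide +kernel
theorem c_act3_385 : allRange (fun i => Nat.beq (actR3 i) i) 1099945 2857 = true := by decide +kernel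
theorem c_act3_386 : allRange (fun i => Nat.beq (actR3 i) i) 1102802 2857 = true := by decide +kernel
theorem c_act3_387 : allRange (fun i => Nat.beq (actR3 i) i) 1105659 2857 = true := by decide +kernel
theorem c_act3_388 : allRange (fun i => Nat.beq (actR3 i) i) 1108516 2857 = true := by decide +kernel
theorem c_act3_389 : allRange (fun i => Nat.beq (actR3 i) i) 1111373 2857 = true := by decide +kernel
theorem c_act3_390 : allRange (fun i => Nat.beq (actR3 i) i) 1114230 2857 = true := by decide +kernel
theorem c_act3_391 : allRange (fun i => Nat.beq (actR3 i) i) 1117087 2857 = true := by decide +kernel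
theorem c_act3_392 : allRange (fun i => Nat.beq (actR3 i) i) 1119944 2857 = true := by decide +kernel
theorem c_act3_393 : allRange (fun i => Nat.beq (actR3 i) i) 1122801 2857 = true := by decide +kernel
theorem c_act3_394 : allRange (fun i => Nat.beq (actR3 i) i) 1125658 2857 = true := by decide +kernel
theorem c_act3_395 : allRange (fun i => Nat.beq (actR3 i) i) 1128515 2857 = true := by decide +kernel
theorem c_act3_396 : allRange (fun i => Nat.beq (actR3 i) i) 1131372 2857 = true := by decide +kernel
theorem c_act3_397 : allRange (fun i => Nat.beq (actR3 i) i) 1134229 2857 = true := by decide +kernel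
theorem c_act3_398 : allRange (fun i => Nat.beq (actR3 i) i) 1137086 2857 = true := by decide +kernel
theorem c_act3_399 : allRange (fun i => Nat.beq (actR3 i) i) 1139943 2857 = true := by decide +kernel
theorem c_act3_400 : allRange (fun i => Nat.beq (actR3 i) i) 1142800 2857 = true := by decide +kernel
theorem c_act3_401 : allRange (fun i => Nat.beq (actR3 i) i) 1145657 2857 = true := by decide +kernel
theorem c_act3_402 : allRange (fun i => Nat.beq (actR3 i) i) 1148514 2857 = true := by decide +kernel
theorem c_act3_403 : allRange (fun i => Nat.beq (actR3 i) i) 1151371 2857 = true := by decide +kernel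
theorem c_act3_404 : allRange (fun i => Nat.beq (actR3 i) i) 1154228 2857 = true := by decide +kernel
theorem c_act3_405 : allRange (fun i => Nat.beq (actR3 i) i) 1157085 2857 = true := by decide +kernel
theorem c_act3_406 : allRange (fun i => Nat.beq (actR3 i) i) 1159942 2857 = true := by decide +kernel
theorem c_act3_407 : allRange (fun i => Nat.beq (actR3 i) i) 1162799 2857 = true := by decide +kernel
theorem c_act3_408 : allRange (fun i => Nat.beq (actR3 i) i) 1165656 2857 = true := by decide +kernel
theorem c_act3_409 : allRange (fun i => Nat.beq (actR3 i) i) 1168513 2857 = true := by decide +kernel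
theorem c_act3_410 : allRange (fun i => Nat.beq (actR3 i) i) 1171370 2857 = true := by decide +kernel
theorem c_act3_411 : allRange (fun i => Nat.beq (actR3 i) i) 1174227 2857 = true := by decide +kernel
theorem c_act3_412 : allRange (fun i => Nat.beq (actR3 i) i) 1177084 2857 = true := by decide +kernel
theorem c_act3_413 : allRange (fun i => Nat.beq (actR3 i) i) 1179941 2857 = true := by decide +kernel

end Cfsg.Agent.Lib.Helper4.TCD.HNm
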