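import Cfsg.Agent.Lib.Helper4.TCD_HNm_Acc

namespace Cfsg.Agent.Lib.Helper4.TCD.HNm

open Cfsg.Agent.Lib.Helper4.TC

set_option maxRecDepth 100000
set_option Elab.async false

theorem c_act3_414 : allRange (fun i => Nat.beq (actR3 i) i) 1182798 2857 = true := by decide +kernel
theorem c_act3_415 : allRange (fun i => Nat.beq (actR3 i) i) 1185655 2857 = true := by decide +kernel
theorem c_act3_416 : allRange (fun i => Nat.beq (actR3 i) i) 1188512 2857 = true := by decide +kernel
theorem c_act3_417 : allRange (fun i => Nat.beq (actR3 i) i) 1191369 2857 = true := by decide +kernel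
theorem c_act3_418 : allRange (fun i => Nat.beq (actR3 i) i) 1194226 2857 = true := by decide +kernel
theorem c_act3_419 : allRange (fun i => Nat.beq (actR3 i) i) 1197083 2857 = true := by decide +kernel
theorem c_act3_420 : allRange (fun i => Nat.beq (actR3 i) i) 1199940 2857 = true := by decide +kernel
theorem c_act3_421 : allRange (fun i => Nat.beq (actR3 i) i) 1202797 2857 = true := by decide +kernel
theorem c_act3_422 : allRange (fun i => Nat.beq (actR3 i) i) 1205654 2857 = true := by decide +kernel
theorem c_act3_423 : allRange (fun i => Nat.beq (actR3 i) i) 1208511 2857 = true := by decide +kernel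
theorem c_act3_424 : allRange (fun i => Nat.beq (actR3 i) i) 1211368 2857 = true := by decide +kernel
theorem c_act3_425 : allRange (fun i => Nat.beq (actR3 i) i) 1214225 2857 = true := by decide +kernel
theorem c_act3_426 : allRange (fun i => Nat.beq (actR3 i) i) 1217082 2857 = true := by decide +kernel
theorem c_act3_427 : allRange (fun i => Nat.beq (actR3 i) i) 1219939 2857 = true := by decide +kernel
theorem c_act3_428 : allRange (fun i => Nat.beq (actR3 i) i) 1222796 2857 = true := by decide +kernel
theorem c_act3_429 : allRange (fun i => Nat.beq (actR3 i) i) 1225653 2857 = true := by decide +kernel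
theorem c_act3_430 : allRange (fun i => Nat.beq (actR3 i) i) 1228510 2857 = true := by decide +kernel
theorem c_act3_431 : allRange (fun i => Nat.beq (actR3 i) i) 1231367 2857 = true := by decide +kernel
theorem c_act3_432 : allRange (fun i => Nat.beq (actR3 i) i) 1234224 2857 = true := by decide +kernel
theorem c_act3_433 : allRange (fun i => Nat.beq (actR3 i) i) 1237081 2857 = true := by decide +kernel
theorem c_act3_434 : allRange (fun i => Nat.beq (actR3 i) i) 1239938 2857 = true := by decide +kernel
theorem c_act3_435 : allRange (fun i => Nat.beq (actR3 i) i) 1242795 2857 = true := by decide +kernel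
theorem c_act3_436 : allRange (fun i => Nat.beq (actR3 i) i) 1245652 2857 = true := by decide +kernel
theorem c_act3_437 : allRange (fun i => Nat.beq (actR3 i) i) 1248509 2857 = true := by decide +kernel
theorem c_act3_438 : allRange (fun i => Nat.beq (actR3 i) i) 1251366 2857 = true := by decide +kernel
theorem c_act3_439 : allRange (fun i => Nat.beq (actR3 i) i) 1254223 2857 = true := by decide +kernel
theorem c_act3_440 : allRange (fun i => Nat.beq (actR3 i) i) 1257080 2857 = true := by decide +kernel
theorem c_act3_441 : allRange (fun i => Nat.beq (actR3 i) i) 1259937 2857 = true := by decide +kernel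
theorem c_act3_442 : allRange (fun i => Nat.beq (actR3 i) i) 1262794 2857 = true := by decide +kernel
theorem c_act3_443 : allRange (fun i => Nat.beq (actR3 i) i) 1265651 2857 = true := by decide +kernel
theorem c_act3_444 : allRange (fun i => Nat.beq (actR3 i) i) 1268508 2857 = true := by decide +kernel
theorem c_act3_445 : allRange (fun i => Nat.beq (actR3 i) i) 1271365 2857 = true := by decide +kernel
theorem c_act3_446 : allRange (fun i => Nat.beq (actR3 i) i) 1274222 2857 = true := by decide +kernel
theorem c_act3_447 : allRange (fun i => Nat.beq (actR3 i) i) 1277079 2857 = true := by decide +kernel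
theorem c_act3_448 : allRange (fun i => Nat.beq (actR3 i) i) 1279936 2857 = true := by decide +kernel
theorem c_act3_449 : allRange (fun i => Nat.beq (actR3 i) i) 1282793 2857 = true := by decide +kernel
theorem c_act3_450 : allRange (fun i => Nat.beq (actR3 i) i) 1285650 2857 = true := by decide +kernel
theorem c_act3_451 : allRange (fun i => Nat.beq (actR3 i) i) 1288507 2857 = true := by decide +kernel
theorem c_act3_452 : allRange (fun i => Nat.beq (actR3 i) i) 1291364 2857 = true := by decide +kernel
theorem c_act3_453 : allRange (fun i => Nat.beq (actR3 i) i) 1294221 2857 = true := by decide +kernel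
theorem c_act3_454 : allRange (fun i => Nat.beq (actR3 i) i) 1297078 2857 = true := by decide +kernel
theorem c_act3_455 : allRange (fun i => Nat.beq (actR3 i) i) 1299935 2857 = true := by decide +kernel
theorem c_act3_456 : allRange (fun i => Nat.beq (actR3 i) i) 1302792 2857 = true := by decide +kernel
theorem c_act3_457 : allRange (fun i => Nat.beq (actR3 i) i) 1305649 2857 = true := by decide +kernel
theorem c_act3_458 : allRange (fun i => Nat.beq (actR3 i) i) 1308506 2857 = true := by decide +kernel
theorem c_act3_459 : allRange (fun i => Nat.beq (actR3 i) i) 1311363 2857 = true := by decide +kernel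
theorem c_act3_460 : allRange (fun i => Nat.beq (actR3 i) i) 1314220 2857 = true := by decide +kernel
theorem c_act3_461 : allRange (fun i => Nat.beq (actR3 i) i) 1317077 2857 = true := by decide +kernel
theorem c_act3_462 : allRange (fun i => Nat.beq (actR3 i) i) 1319934 2857 = true := by decide +kernel
theorem c_act3_463 : allRange (fun i => Nat.beq (actR3 i) i) 1322791 2857 = true := by decide +kernel

end Cfsg.Agent.Lib.Helper4.TCD.HNm
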