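import Cfsg.Agent.Lib.Helper4.TCD_HNm_Acc

namespace Cfsg.Agent.Lib.Helper4.TCD.HNm

open Cfsg.Agent.Lib.Helper4.TC

set_option maxRecDepth 100000
set_option Elab.async false

theorem c_act3_464 : allRange (fun i => Nat.beq (actR3 i) i) 1325648 2857 = true := by decide +kernel
theorem c_act3_465 : allRange (fun i => Nat.beq (actR3 i) i) 1328505 2857 = true := by decide +kernel
theorem c_act3_466 : allRange (fun i => Nat.beq (actR3 i) i) 1331362 2857 = true := by decide +kernel
theorem c_act3_467 : allRange (fun i => Nat.beq (actR3 i) i) 1334219 2857 = true := by decide +kernel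
theorem c_act3_468 : allRange (fun i => Nat.beq (actR3 i) i) 1337076 2857 = true := by decide +kernel
theorem c_act3_469 : allRange (fun i => Nat.beq (actR3 i) i) 1339933 2857 = true := by decide +kernel
theorem c_act3_470 : allRange (fun i => Nat.beq (actR3 i) i) 1342790 2857 = true := by decide +kernel
theorem c_act3_471 : allRange (fun i => Nat.beq (actR3 i) i) 1345647 2857 = true := by decide +kernel
theorem c_act3_472 : allRange (fun i => Nat.beq (actR3 i) i) 1348504 2857 = true := by decide +kernel
theorem c_act3_473 : allRange (fun i => Nat.beq (actR3 i) i) 1351361 2857 = true := by decide +kernel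
theorem c_act3_474 : allRange (fun i => Nat.beq (actR3 i) i) 1354218 2857 = true := by decide +kernel
theorem c_act3_475 : allRange (fun i => Nat.beq (actR3 i) i) 1357075 2857 = true := by decide +kernel
theorem c_act3_476 : allRange (fun i => Nat.beq (actR3 i) i) 1359932 2857 = true := by decide +kernel
theorem c_act3_477 : allRange (fun i => Nat.beq (actR3 i) i) 1362789 2857 = true := by decide +kernel
theorem c_act3_478 : allRange (fun i => Nat.beq (actR3 i) i) 1365646 2857 = true := by decide +kernel
theorem c_act3_479 : allRange (fun i => Nat.beq (actR3 i) i) 1368503 2857 = true := by decide +kernel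
theorem c_act3_480 : allRange (fun i => Nat.beq (actR3 i) i) 1371360 2857 = true := by decide +kernel
theorem c_act3_481 : allRange (fun i => Nat.beq (actR3 i) i) 1374217 2857 = true := by decide +kernel
theorem c_act3_482 : allRange (fun i => Nat.beq (actR3 i) i) 1377074 2857 = true := by decide +kernel
theorem c_act3_483 : allRange (fun i => Nat.beq (actR3 i) i) 1379931 2857 = true := by decide +kernel
theorem c_act3_484 : allRange (fun i => Nat.beq (actR3 i) i) 1382788 2857 = true := by decide +kernel
theorem c_act3_485 : allRange (fun i => Nat.beq (actR3 i) i) 1385645 2857 = true := by decide +kernel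
theorem c_act3_486 : allRange (fun i => Nat.beq (actR3 i) i) 1388502 2857 = true := by decide +kernel
theorem c_act3_487 : allRange (fun i => Nat.beq (actR3 i) i) 1391359 2857 = true := by decide +kernel
theorem c_act3_488 : allRange (fun i => Nat.beq (actR3 i) i) 1394216 2857 = true := by decide +kernel
theorem c_act3_489 : allRange (fun i => Nat.beq (actR3 i) i) 1397073 2857 = true := by decide +kernel
theorem c_act3_490 : allRange (fun i => Nat.beq (actR3 i) i) 1399930 2857 = true := by decide +kernel
theorem c_act3_491 : allRange (fun i => Nat.beq (actR3 i) i) 1402787 2857 = true := by decide +kernel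
theorem c_act3_492 : allRange (fun i => Nat.beq (actR3 i) i) 1405644 2857 = true := by decide +kernel
theorem c_act3_493 : allRange (fun i => Nat.beq (actR3 i) i) 1408501 2857 = true := by decide +kernel
theorem c_act3_494 : allRange (fun i => Nat.beq (actR3 i) i) 1411358 2857 = true := by decide +kernel
theorem c_act3_495 : allRange (fun i => Nat.beq (actR3 i) i) 1414215 2857 = true := by decide +kernel
theorem c_act3_496 : allRange (fun i => Nat.beq (actR3 i) i) 1417072 2857 = true := by decide +kernel
theorem c_act3_497 : allRange (fun i => Nat.beq (actR3 i) i) 1419929 2857 = true := by decide +kernel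
theorem c_act3_498 : allRange (fun i => Nat.beq (actR3 i) i) 1422786 2857 = true := by decide +kernel
theorem c_act3_499 : allRange (fun i => Nat.beq (actR3 i) i) 1425643 2857 = true := by decide +kernel
theorem c_act3_500 : allRange (fun i => Nat.beq (actR3 i) i) 1428500 2857 = true := by decide +kernel
theorem c_act3_501 : allRange (fun i => Nat.beq (actR3 i) i) 1431357 2857 = true := by decide +kernel
theorem c_act3_502 : allRange (fun i => Nat.beq (actR3 i) i) 1434214 2857 = true := by decide +kernel
theorem c_act3_503 : allRange (fun i => Nat.beq (actR3 i) i) 1437071 2857 = true := by decide +kernel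
theorem c_act3_504 : allRange (fun i => Nat.beq (actR3 i) i) 1439928 2857 = true := by decide +kernel
theorem c_act3_505 : allRange (fun i => Nat.beq (actR3 i) i) 1442785 2857 = true := by decide +kernel
theorem c_act3_506 : allRange (fun i => Nat.beq (actR3 i) i) 1445642 2857 = true := by decide +kernel
theorem c_act3_507 : allRange (fun i => Nat.beq (actR3 i) i) 1448499 2857 = true := by decide +kernel
theorem c_act3_508 : allRange (fun i => Nat.beq (actR3 i) i) 1451356 2857 = true := by decide +kernel
theorem c_act3_509 : allRange (fun i => Nat.beq (actR3 i) i) 1454213 2857 = true := by decide +kernel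
theorem c_act3_510 : allRange (fun i => Nat.beq (actR3 i) i) 1457070 2857 = true := by decide +kernel
theorem c_act3_511 : allRange (fun i => Nat.beq (actR3 i) i) 1459927 2857 = true := by decide +kernel
theorem c_act3_512 : allRange (fun i => Nat.beq (actR3 i) i) 1462784 2857 = true := by decide +kernel
theorem c_act3_513 : allRange (fun i => Nat.beq (actR3 i) i) 1465641 2857 = true := by decide +kernel

end Cfsg.Agent.Lib.Helper4.TCD.HNm
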