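import Cfsg.Agent.Lib.Helper4.TCD_HNm_Acc

namespace Cfsg.Agent.Lib.Helper4.TCD.HNm

open Cfsg.Agent.Lib.Helper4.TC

set_option maxRecDepth 100000
set_option Elab.async false

theorem c_rel_419 : allRange D.relOK 2729474 2500 = true := by decide +kernel
theorem c_rel_420 : allRange D.relOK 2731974 2409 = true := by decide +kernel
theorem c_rel_421 : allRange D.relOK 2734383 2475 = true := by decide +kernel
theorem c_rel_422 : allRange D.relOK 2736858 2506 = true := by decide +kernel
theorem c_rel_423 : allRange D.relOK 2739364 2507 = true := by decide +kernel
theorem c_rel_424 : allRange D.relOK 2741871 2370 = true := by decide +kernel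
theorem c_rel_425 : allRange D.relOK 2744241 2211 = true := by decide +kernel
theorem c_rel_426 : allRange D.relOK 2746452 2431 = true := by decide +kernel
theorem c_rel_427 : allRange D.relOK 2748883 2130 = true := by decide +kernel
theorem c_rel_428 : allRange D.relOK 2751013 2531 = true := by decide +kernel
theorem c_rel_429 : allRange D.relOK 2753544 2293 = true := by decide +kernel
theorem c_rel_430 : allRange D.relOK 2755837 2443 = true := by decide +kernel
theorem c_rel_431 : allRange D.relOK 2758280 2553 = true := by decide +kernel
theorem c_rel_432 : allRange D.relOK 2760833 2484 = true := by decide +kernel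
theorem c_rel_433 : allRange D.relOK 2763317 2510 = true := by decide +kernel
theorem c_rel_434 : allRange D.relOK 2765827 2481 = true := by decide +kernel
theorem c_rel_435 : allRange D.relOK 2768308 2504 = true := by decide +kernel
theorem c_rel_436 : allRange D.relOK 2770812 2316 = true := by decide +kernel
theorem c_rel_437 : allRange D.relOK 2773128 2497 = true := by decide +kernel
theorem c_rel_438 : allRange D.relOK 2775625 2670 = true := by decide +kernel
theorem c_rel_439 : allRange D.relOK 2778295 2442 = true := by decide +kernel
theorem c_rel_440 : allRange D.relOK 2780737 2503 = true := by decide +kernel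
theorem c_rel_441 : allRange D.relOK 2783240 2671 = true := by decide +kernel
theorem c_rel_442 : allRange D.relOK 2785911 2575 = true := by decide +kernel
theorem c_rel_443 : allRange D.relOK 2788486 2528 = true := by decide +kernel
theorem c_rel_444 : allRange D.relOK 2791014 2657 = true := by decide +kernel
theorem c_rel_445 : allRange D.relOK 2793671 2259 = true := by decide +kernel
theorem c_rel_446 : allRange D.relOK 2795930 2483 = true := by decide +kernel
theorem c_rel_447 : allRange D.relOK 2798413 2539 = true := by decide +kernel
theorem c_rel_448 : allRange D.relOK 2800952 2434 = true := by decide +kernel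
theorem c_rel_449 : allRange D.relOK 2803386 2344 = true := by decide +kernel
theorem c_rel_450 : allRange D.relOK 2805730 2517 = true := by decide +kernel
theorem c_rel_451 : allRange D.relOK 2808247 2733 = true := by decide +kernel
theorem c_rel_452 : allRange D.relOK 2810980 2461 = true := by decide +kernel
theorem c_rel_453 : allRange D.relOK 2813441 2524 = true := by decide +kernel
theorem c_rel_454 : allRange D.relOK 2815965 2737 = true := by decide +kernel
theorem c_rel_455 : allRange D.relOK 2818702 2612 = true := by decide +kernel
theorem c_rel_456 : allRange D.relOK 2821314 2586 = true := by decide +kernel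
theorem c_rel_457 : allRange D.relOK 2823900 2528 = true := by decide +kernel
theorem c_rel_458 : allRange D.relOK 2826428 2360 = true := by decide +kernel
theorem c_rel_459 : allRange D.relOK 2828788 2497 = true := by decide +kernel
theorem c_rel_460 : allRange D.relOK 2831285 2319 = true := by decide +kernel
theorem c_rel_461 : allRange D.relOK 2833604 2693 = true := by decide +kernel
theorem c_rel_462 : allRange D.relOK 2836297 2610 = true := by decide +kernel
theorem c_rel_463 : allRange D.relOK 2838907 2924 = true := by decide +kernel
theorem c_rel_464 : allRange D.relOK 2841831 2514 = true := by decide +kernel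
theorem c_rel_465 : allRange D.relOK 2844345 2451 = true := by decide +kernel
theorem c_rel_466 : allRange D.relOK 2846796 2540 = true := by decide +kernel
theorem c_rel_467 : allRange D.relOK 2849336 2892 = true := by decide +kernel
theorem c_rel_468 : allRange D.relOK 2852228 2730 = true := by decide +kernel
theorem c_rel_469 : allRange D.relOK 2854958 2796 = true := by decide +kernel
theorem c_rel_470 : allRange D.relOK 2857754 2931 = true := by decide +kernel
theorem c_rel_471 : allRange D.relOK 2860685 2734 = true := by decide +kernel
theorem c_rel_472 : allRange D.relOK 2863419 2870 = true := by decide +kernel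
theorem c_rel_473 : allRange D.relOK 2866289 2802 = true := by decide +kernel
theorem c_rel_474 : allRange D.relOK 2869091 2937 = true := by decide +kernel
theorem c_rel_475 : allRange D.relOK 2872028 2851 = true := by decide +kernel
theorem c_rel_476 : allRange D.relOK 2874879 2643 = true := by decide +kernel
theorem c_rel_477 : allRange D.relOK 2877522 2770 = true := by decide +kernel
theorem c_rel_478 : allRange D.relOK 2880292 2599 = true := by decide +kernel
theorem c_rel_479 : allRange D.relOK 2882891 2622 = true := by decide +kernel
theorem c_rel_480 : allRange D.relOK 2885513 2614 = true := by decide +kernel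
theorem c_rel_481 : allRange D.relOK 2888127 2406 = true := by decide +kernel
theorem c_rel_482 : allRange D.relOK 2890533 2597 = true := by decide +kernel
theorem c_rel_483 : allRange D.relOK 2893130 2596 = true := by decide +kernel
theorem c_rel_484 : allRange D.relOK 2895726 2620 = true := by decide +kernel
theorem c_rel_485 : allRange D.relOK 2898346 2447 = true := by decide +kernel
theorem c_rel_486 : allRange D.relOK 2900793 2563 = true := by decide +kernel
theorem c_rel_487 : allRange D.relOK 2903356 2796 = true := by decide +kernel
theorem c_rel_488 : allRange D.relOK 2906152 2358 = true := by decide +kernel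
theorem c_rel_489 : allRange D.relOK 2908510 2776 = true := by decide +kernel
theorem c_rel_490 : allRange D.relOK 2911286 2787 = true := by decide +kernel
theorem c_rel_491 : allRange D.relOK 2914073 2488 = true := by decide +kernel
theorem c_rel_492 : allRange D.relOK 2916561 2462 = true := by decide +kernel
theorem c_rel_493 : allRange D.relOK 2919023 2495 = true := by decide +kernel
theorem c_rel_494 : allRange D.relOK 2921518 2601 = true := by decide +kernel
theorem c_rel_495 : allRange D.relOK 2924119 2672 = true := by decide +kernel
theorem c_rel_496 : allRange D.relOK 2926791 2986 = true := by decide +kernel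
theorem c_rel_497 : allRange D.relOK 2929777 2591 = true := by decide +kernel
theorem c_rel_498 : allRange D.relOK 2932368 2615 = true := by decide +kernel
theorem c_rel_499 : allRange D.relOK 2934983 2664 = true := by decide +kernel
theorem c_rel_500 : allRange D.relOK 2937647 2542 = true := by decide +kernel
theorem c_rel_501 : allRange D.relOK 2940189 2375 = true := by decide +kernel
theorem c_rel_502 : allRange D.relOK 2942564 2370 = true := by decide +kernel
theorem c_rel_503 : allRange D.relOK 2944934 2557 = true := by decide +kernel
theorem c_rel_504 : allRange D.relOK 2947491 2643 = true := by decide +kernel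
theorem c_rel_505 : allRange D.relOK 2950134 2695 = true := by decide +kernel
theorem c_rel_506 : allRange D.relOK 2952829 2629 = true := by decide +kernel
theorem c_rel_507 : allRange D.relOK 2955458 2578 = true := by decide +kernel
theorem c_rel_508 : allRange D.relOK 2958036 2439 = true := by decide +kernel
theorem c_rel_509 : allRange D.relOK 2960475 2469 = true := by decide +kernel
theorem c_rel_510 : allRange D.relOK 2962944 2954 = true := by decide +kernel
theorem c_rel_511 : allRange D.relOK 2965898 2700 = true := by decide +kernel
theorem c_rel_512 : allRange D.relOK 2968598 2390 = true := by decide +kernel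
theorem c_rel_513 : allRange D.relOK 2970988 2432 = true := by decide +kernel
theorem c_rel_514 : allRange D.relOK 2973420 2392 = true := by decide +kernel
theorem c_rel_515 : allRange D.relOK 2975812 2729 = true := by decide +kernel
theorem c_rel_516 : allRange D.relOK 2978541 2784 = true := by decide +kernel
theorem c_rel_517 : allRange D.relOK 2981325 2834 = true := by decide +kernel

end Cfsg.Agent.Lib.Helper4.TCD.HNm
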