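import Cfsg.Agent.Lib.Helper4.TCD_HNm_Acc

namespace Cfsg.Agent.Lib.Helper4.TCD.HNm

open Cfsg.Agent.Lib.Helper4.TC

set_option maxRecDepth 100000
set_option Elab.async false

theorem c_act3_514 : allRange (fun i => Nat.beq (actR3 i) i) 1468498 2857 = true := by decide +kernel
theorem c_act3_515 : allRange (fun i => Nat.beq (actR3 i) i) 1471355 2857 = true := by decide +kernel
theorem c_act3_516 : allRange (fun i => Nat.beq (actR3 i) i) 1474212 2857 = true := by decide +kernel
theorem c_act3_517 : allRange (fun i => Nat.beq (actR3 i) i) 1477069 2857 = true := by decide +kernel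
theorem c_act3_518 : allRange (fun i => Nat.beq (actR3 i) i) 1479926 2857 = true := by decide +kernel
theorem c_act3_519 : allRange (fun i => Nat.beq (actR3 i) i) 1482783 2857 = true := by decide +kernel
theorem c_act3_520 : allRange (fun i => Nat.beq (actR3 i) i) 1485640 2857 = true := by decide +kernel
theorem c_act3_521 : allRange (fun i => Nat.beq (actR3 i) i) 1488497 2857 = true := by decide +kernel
theorem c_act3_522 : allRange (fun i => Nat.beq (actR3 i) i) 1491354 2857 = true := by decide +kernel
theorem c_act3_523 : allRange (fun i => Nat.beq (actR3 i) i) 1494211 2857 = true := by decide +kernel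
theorem c_act3_524 : allRange (fun i => Nat.beq (actR3 i) i) 1497068 2857 = true := by decide +kernel
theorem c_act3_525 : allRange (fun i => Nat.beq (actR3 i) i) 1499925 2857 = true := by decide +kernel
theorem c_act3_526 : allRange (fun i => Nat.beq (actR3 i) i) 1502782 2857 = true := by decide +kernel
theorem c_act3_527 : allRange (fun i => Nat.beq (actR3 i) i) 1505639 2857 = true := by decide +kernel
theorem c_act3_528 : allRange (fun i => Nat.beq (actR3 i) i) 1508496 2857 = true := by decide +kernel
theorem c_act3_529 : allRange (fun i => Nat.beq (actR3 i) i) 1511353 2857 = true := by decide +kernel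
theorem c_act3_530 : allRange (fun i => Nat.beq (actR3 i) i) 1514210 2857 = true := by decide +kernel
theorem c_act3_531 : allRange (fun i => Nat.beq (actR3 i) i) 1517067 2857 = true := by decide +kernel
theorem c_act3_532 : allRange (fun i => Nat.beq (actR3 i) i) 1519924 2857 = true := by decide +kernel
theorem c_act3_533 : allRange (fun i => Nat.beq (actR3 i) i) 1522781 2857 = true := by decide +kernel
theorem c_act3_534 : allRange (fun i => Nat.beq (actR3 i) i) 1525638 2857 = true := by decide +kernel
theorem c_act3_535 : allRange (fun i => Nat.beq (actR3 i) i) 1528495 2857 = true := by decide +kernel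
theorem c_act3_536 : allRange (fun i => Nat.beq (actR3 i) i) 1531352 2857 = true := by decide +kernel
theorem c_act3_537 : allRange (fun i => Nat.beq (actR3 i) i) 1534209 2857 = true := by decide +kernel
theorem c_act3_538 : allRange (fun i => Nat.beq (actR3 i) i) 1537066 1934 = true := by decide +kernel
theorem c_act4_0 : allRange (fun i => Nat.beq (actR4 i) i) 0 3750 = true := by decide +kernel
theorem c_act4_1 : allRange (fun i => Nat.beq (actR4 i) i) 3750 3750 = true := by decide +kernel
theorem c_act4_2 : allRange (fun i => Nat.beq (actR4 i) i) 7500 3750 = true := by decide +kernel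
theorem c_act4_3 : allRange (fun i => Nat.beq (actR4 i) i) 11250 3750 = true := by decide +kernel
theorem c_act4_4 : allRange (fun i => Nat.beq (actR4 i) i) 15000 3750 = true := by decide +kernel
theorem c_act4_5 : allRange (fun i => Nat.beq (actR4 i) i) 18750 3750 = true := by decide +kernel
theorem c_act4_6 : allRange (fun i => Nat.beq (actR4 i) i) 22500 3750 = true := by decide +kernel
theorem c_act4_7 : allRange (fun i => Nat.beq (actR4 i) i) 26250 3750 = true := by decide +kernel
theorem c_act4_8 : allRange (fun i => Nat.beq (actR4 i) i) 30000 3750 = true := by decide +kernel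
theorem c_act4_9 : allRange (fun i => Nat.beq (actR4 i) i) 33750 3750 = true := by decide +kernel
theorem c_act4_10 : allRange (fun i => Nat.beq (actR4 i) i) 37500 3750 = true := by decide +kernel
theorem c_act4_11 : allRange (fun i => Nat.beq (actR4 i) i) 41250 3750 = true := by decide +kernel
theorem c_act4_12 : allRange (fun i => Nat.beq (actR4 i) i) 45000 3750 = true := by decide +kernel
theorem c_act4_13 : allRange (fun i => Nat.beq (actR4 i) i) 48750 3750 = true := by decide +kernel
theorem c_act4_14 : allRange (fun i => Nat.beq (actR4 i) i) 52500 3750 = true := by decide +kernel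
theorem c_act4_15 : allRange (fun i => Nat.beq (actR4 i) i) 56250 3750 = true := by decide +kernel
theorem c_act4_16 : allRange (fun i => Nat.beq (actR4 i) i) 60000 3750 = true := by decide +kernel
theorem c_act4_17 : allRange (fun i => Nat.beq (actR4 i) i) 63750 3750 = true := by decide +kernel
theorem c_act4_18 : allRange (fun i => Nat.beq (actR4 i) i) 67500 3750 = true := by decide +kernel
theorem c_act4_19 : allRange (fun i => Nat.beq (actR4 i) i) 71250 3750 = true := by decide +kernel
theorem c_act4_20 : allRange (fun i => Nat.beq (actR4 i) i) 75000 3750 = true := by decide +kernel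
theorem c_act4_21 : allRange (fun i => Nat.beq (actR4 i) i) 78750 3750 = true := by decide +kernel
theorem c_act4_22 : allRange (fun i => Nat.beq (actR4 i) i) 82500 3750 = true := by decide +kernel
theorem c_act4_23 : allRange (fun i => Nat.beq (actR4 i) i) 86250 3750 = true := by decide +kernel
theorem c_act4_24 : allRange (fun i => Nat.beq (actR4 i) i) 90000 3750 = true := by decide +kernel

end Cfsg.Agent.Lib.Helper4.TCD.HNm
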