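import Cfsg.Agent.Lib.Helper4.TCD_HNm_Acc

namespace Cfsg.Agent.Lib.Helper4.TCD.HNm

open Cfsg.Agent.Lib.Helper4.TC

set_option maxRecDepth 100000
set_option Elab.async false

theorem c_act4_25 : allRange (fun i => Nat.beq (actR4 i) i) 93750 3750 = true := by decide +kernel
theorem c_act4_26 : allRange (fun i => Nat.beq (actR4 i) i) 97500 3750 = true := by decide +kernel
theorem c_act4_27 : allRange (fun i => Nat.beq (actR4 i) i) 101250 3750 = true := by decide +kernel
theorem c_act4_28 : allRange (fun i => Nat.beq (actR4 i) i) 105000 3750 = true := by decide +kernel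
theorem c_act4_29 : allRange (fun i => Nat.beq (actR4 i) i) 108750 3750 = true := by decide +kernel
theorem c_act4_30 : allRange (fun i => Nat.beq (actR4 i) i) 112500 3750 = true := by decide +kernel
theorem c_act4_31 : allRange (fun i => Nat.beq (actR4 i) i) 116250 3750 = true := by decide +kernel
theorem c_act4_32 : allRange (fun i => Nat.beq (actR4 i) i) 120000 3750 = true := by decide +kernel
theorem c_act4_33 : allRange (fun i => Nat.beq (actR4 i) i) 123750 3750 = true := by decide +kernel
theorem c_act4_34 : allRange (fun i => Nat.beq (actR4 i) i) 127500 3750 = true := by decide +kernel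
theorem c_act4_35 : allRange (fun i => Nat.beq (actR4 i) i) 131250 3750 = true := by decide +kernel
theorem c_act4_36 : allRange (fun i => Nat.beq (actR4 i) i) 135000 3750 = true := by decide +kernel
theorem c_act4_37 : allRange (fun i => Nat.beq (actR4 i) i) 138750 3750 = true := by decide +kernel
theorem c_act4_38 : allRange (fun i => Nat.beq (actR4 i) i) 142500 3750 = true := by decide +kernel
theorem c_act4_39 : allRange (fun i => Nat.beq (actR4 i) i) 146250 3750 = true := by decide +kernel
theorem c_act4_40 : allRange (fun i => Nat.beq (actR4 i) i) 150000 3750 = true := by decide +kernel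
theorem c_act4_41 : allRange (fun i => Nat.beq (actR4 i) i) 153750 3750 = true := by decide +kernel
theorem c_act4_42 : allRange (fun i => Nat.beq (actR4 i) i) 157500 3750 = true := by decide +kernel
theorem c_act4_43 : allRange (fun i => Nat.beq (actR4 i) i) 161250 3750 = true := by decide +kernel
theorem c_act4_44 : allRange (fun i => Nat.beq (actR4 i) i) 165000 3750 = true := by decide +kernel
theorem c_act4_45 : allRange (fun i => Nat.beq (actR4 i) i) 168750 3750 = true := by decide +kernel
theorem c_act4_46 : allRange (fun i => Nat.beq (actR4 i) i) 172500 3750 = true := by decide +kernel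
theorem c_act4_47 : allRange (fun i => Nat.beq (actR4 i) i) 176250 3750 = true := by decide +kernel
theorem c_act4_48 : allRange (fun i => Nat.beq (actR4 i) i) 180000 3750 = true := by decide +kernel
theorem c_act4_49 : allRange (fun i => Nat.beq (actR4 i) i) 183750 3750 = true := by decide +kernel
theorem c_act4_50 : allRange (fun i => Nat.beq (actR4 i) i) 187500 3750 = true := by decide +kernel
theorem c_act4_51 : allRange (fun i => Nat.beq (actR4 i) i) 191250 3750 = true := by decide +kernel
theorem c_act4_52 : allRange (fun i => Nat.beq (actR4 i) i) 195000 3750 = true := by decide +kernel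
theorem c_act4_53 : allRange (fun i => Nat.beq (actR4 i) i) 198750 3750 = true := by decide +kernel
theorem c_act4_54 : allRange (fun i => Nat.beq (actR4 i) i) 202500 3750 = true := by decide +kernel
theorem c_act4_55 : allRange (fun i => Nat.beq (actR4 i) i) 206250 3750 = true := by decide +kernel
theorem c_act4_56 : allRange (fun i => Nat.beq (actR4 i) i) 210000 3750 = true := by decide +kernel
theorem c_act4_57 : allRange (fun i => Nat.beq (actR4 i) i) 213750 3750 = true := by decide +kernel
theorem c_act4_58 : allRange (fun i => Nat.beq (actR4 i) i) 217500 3750 = true := by decide +kernel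
theorem c_act4_59 : allRange (fun i => Nat.beq (actR4 i) i) 221250 3750 = true := by decide +kernel
theorem c_act4_60 : allRange (fun i => Nat.beq (actR4 i) i) 225000 3750 = true := by decide +kernel
theorem c_act4_61 : allRange (fun i => Nat.beq (actR4 i) i) 228750 3750 = true := by decide +kernel
theorem c_act4_62 : allRange (fun i => Nat.beq (actR4 i) i) 232500 3750 = true := by decide +kernel
theorem c_act4_63 : allRange (fun i => Nat.beq (actR4 i) i) 236250 3750 = true := by decide +kernel
theorem c_act4_64 : allRange (fun i => Nat.beq (actR4 i) i) 240000 3750 = true := by decide +kernel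
theorem c_act4_65 : allRange (fun i => Nat.beq (actR4 i) i) 243750 3750 = true := by decide +kernel
theorem c_act4_66 : allRange (fun i => Nat.beq (actR4 i) i) 247500 3750 = true := by decide +kernel
theorem c_act4_67 : allRange (fun i => Nat.beq (actR4 i) i) 251250 3750 = true := by decide +kernel
theorem c_act4_68 : allRange (fun i => Nat.beq (actR4 i) i) 255000 3750 = true := by decide +kernel
theorem c_act4_69 : allRange (fun i => Nat.beq (actR4 i) i) 258750 3750 = true := by decide +kernel
theorem c_act4_70 : allRange (fun i => Nat.beq (actR4 i) i) 262500 3750 = true := by decide +kernel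
theorem c_act4_71 : allRange (fun i => Nat.beq (actR4 i) i) 266250 3750 = true := by decide +kernel
theorem c_act4_72 : allRange (fun i => Nat.beq (actR4 i) i) 270000 3750 = true := by decide +kernel
theorem c_act4_73 : allRange (fun i => Nat.beq (actR4 i) i) 273750 3750 = true := by decide +kernel
theorem c_act4_74 : allRange (fun i => Nat.beq (actR4 i) i) 277500 3750 = true := by decide +kernel

end Cfsg.Agent.Lib.Helper4.TCD.HNm
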