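import Cfsg.Agent.Lib.Helper4.TCD_HNm_Acc

namespace Cfsg.Agent.Lib.Helper4.TCD.HNm

open Cfsg.Agent.Lib.Helper4.TC

set_option maxRecDepth 100000
set_option Elab.async false

theorem c_act4_75 : allRange (fun i => Nat.beq (actR4 i) i) 281250 3750 = true := by decide +kernel
theorem c_act4_76 : allRange (fun i => Nat.beq (actR4 i) i) 285000 3750 = true := by decide +kernel
theorem c_act4_77 : allRange (fun i => Nat.beq (actR4 i) i) 288750 3750 = true := by decide +kernel
theorem c_act4_78 : allRange (fun i => Nat.beq (actR4 i) i) 292500 3750 = true := by decide +kernel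
theorem c_act4_79 : allRange (fun i => Nat.beq (actR4 i) i) 296250 3750 = true := by decide +kernel
theorem c_act4_80 : allRange (fun i => Nat.beq (actR4 i) i) 300000 3750 = true := by decide +kernel
theorem c_act4_81 : allRange (fun i => Nat.beq (actR4 i) i) 303750 3750 = true := by decide +kernel
theorem c_act4_82 : allRange (fun i => Nat.beq (actR4 i) i) 307500 3750 = true := by decide +kernel
theorem c_act4_83 : allRange (fun i => Nat.beq (actR4 i) i) 311250 3750 = true := by decide +kernel
theorem c_act4_84 : allRange (fun i => Nat.beq (actR4 i) i) 315000 3750 = true := by decide +kernel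
theorem c_act4_85 : allRange (fun i => Nat.beq (actR4 i) i) 318750 3750 = true := by decide +kernel
theorem c_act4_86 : allRange (fun i => Nat.beq (actR4 i) i) 322500 3750 = true := by decide +kernel
theorem c_act4_87 : allRange (fun i => Nat.beq (actR4 i) i) 326250 3750 = true := by decide +kernel
theorem c_act4_88 : allRange (fun i => Nat.beq (actR4 i) i) 330000 3750 = true := by decide +kernel
theorem c_act4_89 : allRange (fun i => Nat.beq (actR4 i) i) 333750 3750 = true := by decide +kernel
theorem c_act4_90 : allRange (fun i => Nat.beq (actR4 i) i) 337500 3750 = true := by decide +kernel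
theorem c_act4_91 : allRange (fun i => Nat.beq (actR4 i) i) 341250 3750 = true := by decide +kernel
theorem c_act4_92 : allRange (fun i => Nat.beq (actR4 i) i) 345000 3750 = true := by decide +kernel
theorem c_act4_93 : allRange (fun i => Nat.beq (actR4 i) i) 348750 3750 = true := by decide +kernel
theorem c_act4_94 : allRange (fun i => Nat.beq (actR4 i) i) 352500 3750 = true := by decide +kernel
theorem c_act4_95 : allRange (fun i => Nat.beq (actR4 i) i) 356250 3750 = true := by decide +kernel
theorem c_act4_96 : allRange (fun i => Nat.beq (actR4 i) i) 360000 3750 = true := by decide +kernel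
theorem c_act4_97 : allRange (fun i => Nat.beq (actR4 i) i) 363750 3750 = true := by decide +kernel
theorem c_act4_98 : allRange (fun i => Nat.beq (actR4 i) i) 367500 3750 = true := by decide +kernel
theorem c_act4_99 : allRange (fun i => Nat.beq (actR4 i) i) 371250 3750 = true := by decide +kernel
theorem c_act4_100 : allRange (fun i => Nat.beq (actR4 i) i) 375000 3750 = true := by decide +kernel
theorem c_act4_101 : allRange (fun i => Nat.beq (actR4 i) i) 378750 3750 = true := by decide +kernel
theorem c_act4_102 : allRange (fun i => Nat.beq (actR4 i) i) 382500 3750 = true := by decide +kernel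
theorem c_act4_103 : allRange (fun i => Nat.beq (actR4 i) i) 386250 3750 = true := by decide +kernel
theorem c_act4_104 : allRange (fun i => Nat.beq (actR4 i) i) 390000 3750 = true := by decide +kernel
theorem c_act4_105 : allRange (fun i => Nat.beq (actR4 i) i) 393750 3750 = true := by decide +kernel
theorem c_act4_106 : allRange (fun i => Nat.beq (actR4 i) i) 397500 3750 = true := by decide +kernel
theorem c_act4_107 : allRange (fun i => Nat.beq (actR4 i) i) 401250 3750 = true := by decide +kernel
theorem c_act4_108 : allRange (fun i => Nat.beq (actR4 i) i) 405000 3750 = true := by decide +kernel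
theorem c_act4_109 : allRange (fun i => Nat.beq (actR4 i) i) 408750 3750 = true := by decide +kernel
theorem c_act4_110 : allRange (fun i => Nat.beq (actR4 i) i) 412500 3750 = true := by decide +kernel
theorem c_act4_111 : allRange (fun i => Nat.beq (actR4 i) i) 416250 3750 = true := by decide +kernel
theorem c_act4_112 : allRange (fun i => Nat.beq (actR4 i) i) 420000 3750 = true := by decide +kernel
theorem c_act4_113 : allRange (fun i => Nat.beq (actR4 i) i) 423750 3750 = true := by decide +kernel
theorem c_act4_114 : allRange (fun i => Nat.beq (actR4 i) i) 427500 3750 = true := by decide +kernel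
theorem c_act4_115 : allRange (fun i => Nat.beq (actR4 i) i) 431250 3750 = true := by decide +kernel
theorem c_act4_116 : allRange (fun i => Nat.beq (actR4 i) i) 435000 3750 = true := by decide +kernel
theorem c_act4_117 : allRange (fun i => Nat.beq (actR4 i) i) 438750 3750 = true := by decide +kernel
theorem c_act4_118 : allRange (fun i => Nat.beq (actR4 i) i) 442500 3750 = true := by decide +kernel
theorem c_act4_119 : allRange (fun i => Nat.beq (actR4 i) i) 446250 3750 = true := by decide +kernel
theorem c_act4_120 : allRange (fun i => Nat.beq (actR4 i) i) 450000 3750 = true := by decide +kernel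
theorem c_act4_121 : allRange (fun i => Nat.beq (actR4 i) i) 453750 3750 = true := by decide +kernel
theorem c_act4_122 : allRange (fun i => Nat.beq (actR4 i) i) 457500 3750 = true := by decide +kernel
theorem c_act4_123 : allRange (fun i => Nat.beq (actR4 i) i) 461250 3750 = true := by decide +kernel
theorem c_act4_124 : allRange (fun i => Nat.beq (actR4 i) i) 465000 3750 = true := by decide +kernel

end Cfsg.Agent.Lib.Helper4.TCD.HNm
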