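import Cfsg.Agent.Lib.Helper4.TCD_HNm_Acc

namespace Cfsg.Agent.Lib.Helper4.TCD.HNm

open Cfsg.Agent.Lib.Helper4.TC

set_option maxRecDepth 100000
set_option Elab.async false

theorem c_act4_125 : allRange (fun i => Nat.beq (actR4 i) i) 468750 3750 = true := by decide +kernel
theorem c_act4_126 : allRange (fun i => Nat.beq (actR4 i) i) 472500 3750 = true := by decide +kernel
theorem c_act4_127 : allRange (fun i => Nat.beq (actR4 i) i) 476250 3750 = true := by decide +kernel
theorem c_act4_128 : allRange (fun i => Nat.beq (actR4 i) i) 480000 3750 = true := by decide +kernel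
theorem c_act4_129 : allRange (fun i => Nat.beq (actR4 i) i) 483750 3750 = true := by decide +kernel
theorem c_act4_130 : allRange (fun i => Nat.beq (actR4 i) i) 487500 3750 = true := by decide +kernel
theorem c_act4_131 : allRange (fun i => Nat.beq (actR4 i) i) 491250 3750 = true := by decide +kernel
theorem c_act4_132 : allRange (fun i => Nat.beq (actR4 i) i) 495000 3750 = true := by decide +kernel
theorem c_act4_133 : allRange (fun i => Nat.beq (actR4 i) i) 498750 3750 = true := by decide +kernel
theorem c_act4_134 : allRange (fun i => Nat.beq (actR4 i) i) 502500 3750 = true := by decide +kernel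
theorem c_act4_135 : allRange (fun i => Nat.beq (actR4 i) i) 506250 3750 = true := by decide +kernel
theorem c_act4_136 : allRange (fun i => Nat.beq (actR4 i) i) 510000 3750 = true := by decide +kernel
theorem c_act4_137 : allRange (fun i => Nat.beq (actR4 i) i) 513750 3750 = true := by decide +kernel
theorem c_act4_138 : allRange (fun i => Nat.beq (actR4 i) i) 517500 3750 = true := by decide +kernel
theorem c_act4_139 : allRange (fun i => Nat.beq (actR4 i) i) 521250 3750 = true := by decide +kernel
theorem c_act4_140 : allRange (fun i => Nat.beq (actR4 i) i) 525000 3750 = true := by decide +kernel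
theorem c_act4_141 : allRange (fun i => Nat.beq (actR4 i) i) 528750 3750 = true := by decide +kernel
theorem c_act4_142 : allRange (fun i => Nat.beq (actR4 i) i) 532500 3750 = true := by decide +kernel
theorem c_act4_143 : allRange (fun i => Nat.beq (actR4 i) i) 536250 3750 = true := by decide +kernel
theorem c_act4_144 : allRange (fun i => Nat.beq (actR4 i) i) 540000 3750 = true := by decide +kernel
theorem c_act4_145 : allRange (fun i => Nat.beq (actR4 i) i) 543750 3750 = true := by decide +kernel
theorem c_act4_146 : allRange (fun i => Nat.beq (actR4 i) i) 547500 3750 = true := by decide +kernel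
theorem c_act4_147 : allRange (fun i => Nat.beq (actR4 i) i) 551250 3750 = true := by decide +kernel
theorem c_act4_148 : allRange (fun i => Nat.beq (actR4 i) i) 555000 3750 = true := by decide +kernel
theorem c_act4_149 : allRange (fun i => Nat.beq (actR4 i) i) 558750 3750 = true := by decide +kernel
theorem c_act4_150 : allRange (fun i => Nat.beq (actR4 i) i) 562500 3750 = true := by decide +kernel
theorem c_act4_151 : allRange (fun i => Nat.beq (actR4 i) i) 566250 3750 = true := by decide +kernel
theorem c_act4_152 : allRange (fun i => Nat.beq (actR4 i) i) 570000 3750 = true := by decide +kernel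
theorem c_act4_153 : allRange (fun i => Nat.beq (actR4 i) i) 573750 3750 = true := by decide +kernel
theorem c_act4_154 : allRange (fun i => Nat.beq (actR4 i) i) 577500 3750 = true := by decide +kernel
theorem c_act4_155 : allRange (fun i => Nat.beq (actR4 i) i) 581250 3750 = true := by decide +kernel
theorem c_act4_156 : allRange (fun i => Nat.beq (actR4 i) i) 585000 3750 = true := by decide +kernel
theorem c_act4_157 : allRange (fun i => Nat.beq (actR4 i) i) 588750 3750 = true := by decide +kernel
theorem c_act4_158 : allRange (fun i => Nat.beq (actR4 i) i) 592500 3750 = true := by decide +kernel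
theorem c_act4_159 : allRange (fun i => Nat.beq (actR4 i) i) 596250 3750 = true := by decide +kernel
theorem c_act4_160 : allRange (fun i => Nat.beq (actR4 i) i) 600000 3750 = true := by decide +kernel
theorem c_act4_161 : allRange (fun i => Nat.beq (actR4 i) i) 603750 3750 = true := by decide +kernel
theorem c_act4_162 : allRange (fun i => Nat.beq (actR4 i) i) 607500 3750 = true := by decide +kernel
theorem c_act4_163 : allRange (fun i => Nat.beq (actR4 i) i) 611250 3750 = true := by decide +kernel
theorem c_act4_164 : allRange (fun i => Nat.beq (actR4 i) i) 615000 3750 = true := by decide +kernel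
theorem c_act4_165 : allRange (fun i => Nat.beq (actR4 i) i) 618750 3750 = true := by decide +kernel
theorem c_act4_166 : allRange (fun i => Nat.beq (actR4 i) i) 622500 3750 = true := by decide +kernel
theorem c_act4_167 : allRange (fun i => Nat.beq (actR4 i) i) 626250 3750 = true := by decide +kernel
theorem c_act4_168 : allRange (fun i => Nat.beq (actR4 i) i) 630000 3750 = true := by decide +kernel
theorem c_act4_169 : allRange (fun i => Nat.beq (actR4 i) i) 633750 3750 = true := by decide +kernel
theorem c_act4_170 : allRange (fun i => Nat.beq (actR4 i) i) 637500 3750 = true := by decide +kernel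
theorem c_act4_171 : allRange (fun i => Nat.beq (actR4 i) i) 641250 3750 = true := by decide +kernel
theorem c_act4_172 : allRange (fun i => Nat.beq (actR4 i) i) 645000 3750 = true := by decide +kernel
theorem c_act4_173 : allRange (fun i => Nat.beq (actR4 i) i) 648750 3750 = true := by decide +kernel
theorem c_act4_174 : allRange (fun i => Nat.beq (actR4 i) i) 652500 3750 = true := by decide +kernel

end Cfsg.Agent.Lib.Helper4.TCD.HNm
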