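import Cfsg.Agent.Lib.Helper4.TCD_HNm_Acc

namespace Cfsg.Agent.Lib.Helper4.TCD.HNm

open Cfsg.Agent.Lib.Helper4.TC

set_option maxRecDepth 100000
set_option Elab.async false

theorem c_act4_175 : allRange (fun i => Nat.beq (actR4 i) i) 656250 3750 = true := by decide +kernel
theorem c_act4_176 : allRange (fun i => Nat.beq (actR4 i) i) 660000 3750 = true := by decide +kernel
theorem c_act4_177 : allRange (fun i => Nat.beq (actR4 i) i) 663750 3750 = true := by decide +kernel
theorem c_act4_178 : allRange (fun i => Nat.beq (actR4 i) i) 667500 3750 = true := by decide +kernel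
theorem c_act4_179 : allRange (fun i => Nat.beq (actR4 i) i) 671250 3750 = true := by decide +kernel
theorem c_act4_180 : allRange (fun i => Nat.beq (actR4 i) i) 675000 3750 = true := by decide +kernel
theorem c_act4_181 : allRange (fun i => Nat.beq (actR4 i) i) 678750 3750 = true := by decide +kernel
theorem c_act4_182 : allRange (fun i => Nat.beq (actR4 i) i) 682500 3750 = true := by decide +kernel
theorem c_act4_183 : allRange (fun i => Nat.beq (actR4 i) i) 686250 3750 = true := by decide +kernel
theorem c_act4_184 : allRange (fun i => Nat.beq (actR4 i) i) 690000 3750 = true := by decide +kernel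
theorem c_act4_185 : allRange (fun i => Nat.beq (actR4 i) i) 693750 3750 = true := by decide +kernel
theorem c_act4_186 : allRange (fun i => Nat.beq (actR4 i) i) 697500 3750 = true := by decide +kernel
theorem c_act4_187 : allRange (fun i => Nat.beq (actR4 i) i) 701250 3750 = true := by decide +kernel
theorem c_act4_188 : allRange (fun i => Nat.beq (actR4 i) i) 705000 3750 = true := by decide +kernel
theorem c_act4_189 : allRange (fun i => Nat.beq (actR4 i) i) 708750 3750 = true := by decide +kernel
theorem c_act4_190 : allRange (fun i => Nat.beq (actR4 i) i) 712500 3750 = true := by decide +kernel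
theorem c_act4_191 : allRange (fun i => Nat.beq (actR4 i) i) 716250 3750 = true := by decide +kernel
theorem c_act4_192 : allRange (fun i => Nat.beq (actR4 i) i) 720000 3750 = true := by decide +kernel
theorem c_act4_193 : allRange (fun i => Nat.beq (actR4 i) i) 723750 3750 = true := by decide +kernel
theorem c_act4_194 : allRange (fun i => Nat.beq (actR4 i) i) 727500 3750 = true := by decide +kernel
theorem c_act4_195 : allRange (fun i => Nat.beq (actR4 i) i) 731250 3750 = true := by decide +kernel
theorem c_act4_196 : allRange (fun i => Nat.beq (actR4 i) i) 735000 3750 = true := by decide +kernel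
theorem c_act4_197 : allRange (fun i => Nat.beq (actR4 i) i) 738750 3750 = true := by decide +kernel
theorem c_act4_198 : allRange (fun i => Nat.beq (actR4 i) i) 742500 3750 = true := by decide +kernel
theorem c_act4_199 : allRange (fun i => Nat.beq (actR4 i) i) 746250 3750 = true := by decide +kernel
theorem c_act4_200 : allRange (fun i => Nat.beq (actR4 i) i) 750000 3750 = true := by decide +kernel
theorem c_act4_201 : allRange (fun i => Nat.beq (actR4 i) i) 753750 3750 = true := by decide +kernel
theorem c_act4_202 : allRange (fun i => Nat.beq (actR4 i) i) 757500 3750 = true := by decide +kernel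
theorem c_act4_203 : allRange (fun i => Nat.beq (actR4 i) i) 761250 3750 = true := by decide +kernel
theorem c_act4_204 : allRange (fun i => Nat.beq (actR4 i) i) 765000 3750 = true := by decide +kernel
theorem c_act4_205 : allRange (fun i => Nat.beq (actR4 i) i) 768750 3750 = true := by decide +kernel
theorem c_act4_206 : allRange (fun i => Nat.beq (actR4 i) i) 772500 3750 = true := by decide +kernel
theorem c_act4_207 : allRange (fun i => Nat.beq (actR4 i) i) 776250 3750 = true := by decide +kernel
theorem c_act4_208 : allRange (fun i => Nat.beq (actR4 i) i) 780000 3750 = true := by decide +kernel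
theorem c_act4_209 : allRange (fun i => Nat.beq (actR4 i) i) 783750 3750 = true := by decide +kernel
theorem c_act4_210 : allRange (fun i => Nat.beq (actR4 i) i) 787500 3750 = true := by decide +kernel
theorem c_act4_211 : allRange (fun i => Nat.beq (actR4 i) i) 791250 3750 = true := by decide +kernel
theorem c_act4_212 : allRange (fun i => Nat.beq (actR4 i) i) 795000 3750 = true := by decide +kernel
theorem c_act4_213 : allRange (fun i => Nat.beq (actR4 i) i) 798750 3750 = true := by decide +kernel
theorem c_act4_214 : allRange (fun i => Nat.beq (actR4 i) i) 802500 3750 = true := by decide +kernel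
theorem c_act4_215 : allRange (fun i => Nat.beq (actR4 i) i) 806250 3750 = true := by decide +kernel
theorem c_act4_216 : allRange (fun i => Nat.beq (actR4 i) i) 810000 3750 = true := by decide +kernel
theorem c_act4_217 : allRange (fun i => Nat.beq (actR4 i) i) 813750 3750 = true := by decide +kernel
theorem c_act4_218 : allRange (fun i => Nat.beq (actR4 i) i) 817500 3750 = true := by decide +kernel
theorem c_act4_219 : allRange (fun i => Nat.beq (actR4 i) i) 821250 3750 = true := by decide +kernel
theorem c_act4_220 : allRange (fun i => Nat.beq (actR4 i) i) 825000 3750 = true := by decide +kernel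
theorem c_act4_221 : allRange (fun i => Nat.beq (actR4 i) i) 828750 3750 = true := by decide +kernel
theorem c_act4_222 : allRange (fun i => Nat.beq (actR4 i) i) 832500 3750 = true := by decide +kernel
theorem c_act4_223 : allRange (fun i => Nat.beq (actR4 i) i) 836250 3750 = true := by decide +kernel
theorem c_act4_224 : allRange (fun i => Nat.beq (actR4 i) i) 840000 3750 = true := by decide +kernel

end Cfsg.Agent.Lib.Helper4.TCD.HNm
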