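import Cfsg.Agent.Lib.Helper4.TCD_HNm_Acc

namespace Cfsg.Agent.Lib.Helper4.TCD.HNm

open Cfsg.Agent.Lib.Helper4.TC

set_option maxRecDepth 100000
set_option Elab.async false

theorem c_act4_225 : allRange (fun i => Nat.beq (actR4 i) i) 843750 3750 = true := by decide +kernel
theorem c_act4_226 : allRange (fun i => Nat.beq (actR4 i) i) 847500 3750 = true := by decide +kernel
theorem c_act4_227 : allRange (fun i => Nat.beq (actR4 i) i) 851250 3750 = true := by decide +kernel
theorem c_act4_228 : allRange (fun i => Nat.beq (actR4 i) i) 855000 3750 = true := by decide +kernel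
theorem c_act4_229 : allRange (fun i => Nat.beq (actR4 i) i) 858750 3750 = true := by decide +kernel
theorem c_act4_230 : allRange (fun i => Nat.beq (actR4 i) i) 862500 3750 = true := by decide +kernel
theorem c_act4_231 : allRange (fun i => Nat.beq (actR4 i) i) 866250 3750 = true := by decide +kernel
theorem c_act4_232 : allRange (fun i => Nat.beq (actR4 i) i) 870000 3750 = true := by decide +kernel
theorem c_act4_233 : allRange (fun i => Nat.beq (actR4 i) i) 873750 3750 = true := by decide +kernel
theorem c_act4_234 : allRange (fun i => Nat.beq (actR4 i) i) 877500 3750 = true := by decide +kernel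
theorem c_act4_235 : allRange (fun i => Nat.beq (actR4 i) i) 881250 3750 = true := by decide +kernel
theorem c_act4_236 : allRange (fun i => Nat.beq (actR4 i) i) 885000 3750 = true := by decide +kernel
theorem c_act4_237 : allRange (fun i => Nat.beq (actR4 i) i) 888750 3750 = true := by decide +kernel
theorem c_act4_238 : allRange (fun i => Nat.beq (actR4 i) i) 892500 3750 = true := by decide +kernel
theorem c_act4_239 : allRange (fun i => Nat.beq (actR4 i) i) 896250 3750 = true := by decide +kernel
theorem c_act4_240 : allRange (fun i => Nat.beq (actR4 i) i) 900000 3750 = true := by decide +kernel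
theorem c_act4_241 : allRange (fun i => Nat.beq (actR4 i) i) 903750 3750 = true := by decide +kernel
theorem c_act4_242 : allRange (fun i => Nat.beq (actR4 i) i) 907500 3750 = true := by decide +kernel
theorem c_act4_243 : allRange (fun i => Nat.beq (actR4 i) i) 911250 3750 = true := by decide +kernel
theorem c_act4_244 : allRange (fun i => Nat.beq (actR4 i) i) 915000 3750 = true := by decide +kernel
theorem c_act4_245 : allRange (fun i => Nat.beq (actR4 i) i) 918750 3750 = true := by decide +kernel
theorem c_act4_246 : allRange (fun i => Nat.beq (actR4 i) i) 922500 3750 = true := by decide +kernel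
theorem c_act4_247 : allRange (fun i => Nat.beq (actR4 i) i) 926250 3750 = true := by decide +kernel
theorem c_act4_248 : allRange (fun i => Nat.beq (actR4 i) i) 930000 3750 = true := by decide +kernel
theorem c_act4_249 : allRange (fun i => Nat.beq (actR4 i) i) 933750 3750 = true := by decide +kernel
theorem c_act4_250 : allRange (fun i => Nat.beq (actR4 i) i) 937500 3750 = true := by decide +kernel
theorem c_act4_251 : allRange (fun i => Nat.beq (actR4 i) i) 941250 3750 = true := by decide +kernel
theorem c_act4_252 : allRange (fun i => Nat.beq (actR4 i) i) 945000 3750 = true := by decide +kernel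
theorem c_act4_253 : allRange (fun i => Nat.beq (actR4 i) i) 948750 3750 = true := by decide +kernel
theorem c_act4_254 : allRange (fun i => Nat.beq (actR4 i) i) 952500 3750 = true := by decide +kernel
theorem c_act4_255 : allRange (fun i => Nat.beq (actR4 i) i) 956250 3750 = true := by decide +kernel
theorem c_act4_256 : allRange (fun i => Nat.beq (actR4 i) i) 960000 3750 = true := by decide +kernel
theorem c_act4_257 : allRange (fun i => Nat.beq (actR4 i) i) 963750 3750 = true := by decide +kernel
theorem c_act4_258 : allRange (fun i => Nat.beq (actR4 i) i) 967500 3750 = true := by decide +kernel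
theorem c_act4_259 : allRange (fun i => Nat.beq (actR4 i) i) 971250 3750 = true := by decide +kernel
theorem c_act4_260 : allRange (fun i => Nat.beq (actR4 i) i) 975000 3750 = true := by decide +kernel
theorem c_act4_261 : allRange (fun i => Nat.beq (actR4 i) i) 978750 3750 = true := by decide +kernel
theorem c_act4_262 : allRange (fun i => Nat.beq (actR4 i) i) 982500 3750 = true := by decide +kernel
theorem c_act4_263 : allRange (fun i => Nat.beq (actR4 i) i) 986250 3750 = true := by decide +kernel
theorem c_act4_264 : allRange (fun i => Nat.beq (actR4 i) i) 990000 3750 = true := by decide +kernel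
theorem c_act4_265 : allRange (fun i => Nat.beq (actR4 i) i) 993750 3750 = true := by decide +kernel
theorem c_act4_266 : allRange (fun i => Nat.beq (actR4 i) i) 997500 3750 = true := by decide +kernel
theorem c_act4_267 : allRange (fun i => Nat.beq (actR4 i) i) 1001250 3750 = true := by decide +kernel
theorem c_act4_268 : allRange (fun i => Nat.beq (actR4 i) i) 1005000 3750 = true := by decide +kernel
theorem c_act4_269 : allRange (fun i => Nat.beq (actR4 i) i) 1008750 3750 = true := by decide +kernel
theorem c_act4_270 : allRange (fun i => Nat.beq (actR4 i) i) 1012500 3750 = true := by decide +kernel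
theorem c_act4_271 : allRange (fun i => Nat.beq (actR4 i) i) 1016250 3750 = true := by decide +kernel
theorem c_act4_272 : allRange (fun i => Nat.beq (actR4 i) i) 1020000 3750 = true := by decide +kernel
theorem c_act4_273 : allRange (fun i => Nat.beq (actR4 i) i) 1023750 3750 = true := by decide +kernel
theorem c_act4_274 : allRange (fun i => Nat.beq (actR4 i) i) 1027500 3750 = true := by decide +kernel

end Cfsg.Agent.Lib.Helper4.TCD.HNm
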