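import Cfsg.Agent.Lib.Helper4.TCD_HNm_Acc

namespace Cfsg.Agent.Lib.Helper4.TCD.HNm

open Cfsg.Agent.Lib.Helper4.TC

set_option maxRecDepth 100000
set_option Elab.async false

theorem c_act4_275 : allRange (fun i => Nat.beq (actR4 i) i) 1031250 3750 = true := by decide +kernel
theorem c_act4_276 : allRange (fun i => Nat.beq (actR4 i) i) 1035000 3750 = true := by decide +kernel
theorem c_act4_277 : allRange (fun i => Nat.beq (actR4 i) i) 1038750 3750 = true := by decide +kernel
theorem c_act4_278 : allRange (fun i => Nat.beq (actR4 i) i) 1042500 3750 = true := by decide +kernel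
theorem c_act4_279 : allRange (fun i => Nat.beq (actR4 i) i) 1046250 3750 = true := by decide +kernel
theorem c_act4_280 : allRange (fun i => Nat.beq (actR4 i) i) 1050000 3750 = true := by decide +kernel
theorem c_act4_281 : allRange (fun i => Nat.beq (actR4 i) i) 1053750 3750 = true := by decide +kernel
theorem c_act4_282 : allRange (fun i => Nat.beq (actR4 i) i) 1057500 3750 = true := by decide +kernel
theorem c_act4_283 : allRange (fun i => Nat.beq (actR4 i) i) 1061250 3750 = true := by decide +kernel
theorem c_act4_284 : allRange (fun i => Nat.beq (actR4 i) i) 1065000 3750 = true := by decide +kernel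
theorem c_act4_285 : allRange (fun i => Nat.beq (actR4 i) i) 1068750 3750 = true := by decide +kernel
theorem c_act4_286 : allRange (fun i => Nat.beq (actR4 i) i) 1072500 3750 = true := by decide +kernel
theorem c_act4_287 : allRange (fun i => Nat.beq (actR4 i) i) 1076250 3750 = true := by decide +kernel
theorem c_act4_288 : allRange (fun i => Nat.beq (actR4 i) i) 1080000 3750 = true := by decide +kernel
theorem c_act4_289 : allRange (fun i => Nat.beq (actR4 i) i) 1083750 3750 = true := by decide +kernel
theorem c_act4_290 : allRange (fun i => Nat.beq (actR4 i) i) 1087500 3750 = true := by decide +kernel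
theorem c_act4_291 : allRange (fun i => Nat.beq (actR4 i) i) 1091250 3750 = true := by decide +kernel
theorem c_act4_292 : allRange (fun i => Nat.beq (actR4 i) i) 1095000 3750 = true := by decide +kernel
theorem c_act4_293 : allRange (fun i => Nat.beq (actR4 i) i) 1098750 3750 = true := by decide +kernel
theorem c_act4_294 : allRange (fun i => Nat.beq (actR4 i) i) 1102500 3750 = true := by decide +kernel
theorem c_act4_295 : allRange (fun i => Nat.beq (actR4 i) i) 1106250 3750 = true := by decide +kernel
theorem c_act4_296 : allRange (fun i => Nat.beq (actR4 i) i) 1110000 3750 = true := by decide +kernel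
theorem c_act4_297 : allRange (fun i => Nat.beq (actR4 i) i) 1113750 3750 = true := by decide +kernel
theorem c_act4_298 : allRange (fun i => Nat.beq (actR4 i) i) 1117500 3750 = true := by decide +kernel
theorem c_act4_299 : allRange (fun i => Nat.beq (actR4 i) i) 1121250 3750 = true := by decide +kernel
theorem c_act4_300 : allRange (fun i => Nat.beq (actR4 i) i) 1125000 3750 = true := by decide +kernel
theorem c_act4_301 : allRange (fun i => Nat.beq (actR4 i) i) 1128750 3750 = true := by decide +kernel
theorem c_act4_302 : allRange (fun i => Nat.beq (actR4 i) i) 1132500 3750 = true := by decide +kernel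
theorem c_act4_303 : allRange (fun i => Nat.beq (actR4 i) i) 1136250 3750 = true := by decide +kernel
theorem c_act4_304 : allRange (fun i => Nat.beq (actR4 i) i) 1140000 3750 = true := by decide +kernel
theorem c_act4_305 : allRange (fun i => Nat.beq (actR4 i) i) 1143750 3750 = true := by decide +kernel
theorem c_act4_306 : allRange (fun i => Nat.beq (actR4 i) i) 1147500 3750 = true := by decide +kernel
theorem c_act4_307 : allRange (fun i => Nat.beq (actR4 i) i) 1151250 3750 = true := by decide +kernel
theorem c_act4_308 : allRange (fun i => Nat.beq (actR4 i) i) 1155000 3750 = true := by decide +kernel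
theorem c_act4_309 : allRange (fun i => Nat.beq (actR4 i) i) 1158750 3750 = true := by decide +kernel
theorem c_act4_310 : allRange (fun i => Nat.beq (actR4 i) i) 1162500 3750 = true := by decide +kernel
theorem c_act4_311 : allRange (fun i => Nat.beq (actR4 i) i) 1166250 3750 = true := by decide +kernel
theorem c_act4_312 : allRange (fun i => Nat.beq (actR4 i) i) 1170000 3750 = true := by decide +kernel
theorem c_act4_313 : allRange (fun i => Nat.beq (actR4 i) i) 1173750 3750 = true := by decide +kernel
theorem c_act4_314 : allRange (fun i => Nat.beq (actR4 i) i) 1177500 3750 = true := by decide +kernel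
theorem c_act4_315 : allRange (fun i => Nat.beq (actR4 i) i) 1181250 3750 = true := by decide +kernel
theorem c_act4_316 : allRange (fun i => Nat.beq (actR4 i) i) 1185000 3750 = true := by decide +kernel
theorem c_act4_317 : allRange (fun i => Nat.beq (actR4 i) i) 1188750 3750 = true := by decide +kernel
theorem c_act4_318 : allRange (fun i => Nat.beq (actR4 i) i) 1192500 3750 = true := by decide +kernel
theorem c_act4_319 : allRange (fun i => Nat.beq (actR4 i) i) 1196250 3750 = true := by decide +kernel
theorem c_act4_320 : allRange (fun i => Nat.beq (actR4 i) i) 1200000 3750 = true := by decide +kernel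
theorem c_act4_321 : allRange (fun i => Nat.beq (actR4 i) i) 1203750 3750 = true := by decide +kernel
theorem c_act4_322 : allRange (fun i => Nat.beq (actR4 i) i) 1207500 3750 = true := by decide +kernel
theorem c_act4_323 : allRange (fun i => Nat.beq (actR4 i) i) 1211250 3750 = true := by decide +kernel
theorem c_act4_324 : allRange (fun i => Nat.beq (actR4 i) i) 1215000 3750 = true := by decide +kernel

end Cfsg.Agent.Lib.Helper4.TCD.HNm
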