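import Cfsg.Agent.Lib.Helper4.TCD_HNm_Acc

namespace Cfsg.Agent.Lib.Helper4.TCD.HNm

open Cfsg.Agent.Lib.Helper4.TC

set_option maxRecDepth 100000
set_option Elab.async false

theorem c_act4_325 : allRange (fun i => Nat.beq (actR4 i) i) 1218750 3750 = true := by decide +kernel
theorem c_act4_326 : allRange (fun i => Nat.beq (actR4 i) i) 1222500 3750 = true := by decide +kernel
theorem c_act4_327 : allRange (fun i => Nat.beq (actR4 i) i) 1226250 3750 = true := by decide +kernel
theorem c_act4_328 : allRange (fun i => Nat.beq (actR4 i) i) 1230000 3750 = true := by decide +kernel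
theorem c_act4_329 : allRange (fun i => Nat.beq (actR4 i) i) 1233750 3750 = true := by decide +kernel
theorem c_act4_330 : allRange (fun i => Nat.beq (actR4 i) i) 1237500 3750 = true := by decide +kernel
theorem c_act4_331 : allRange (fun i => Nat.beq (actR4 i) i) 1241250 3750 = true := by decide +kernel
theorem c_act4_332 : allRange (fun i => Nat.beq (actR4 i) i) 1245000 3750 = true := by decide +kernel
theorem c_act4_333 : allRange (fun i => Nat.beq (actR4 i) i) 1248750 3750 = true := by decide +kernel
theorem c_act4_334 : allRange (fun i => Nat.beq (actR4 i) i) 1252500 3750 = true := by decide +kernel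
theorem c_act4_335 : allRange (fun i => Nat.beq (actR4 i) i) 1256250 3750 = true := by decide +kernel
theorem c_act4_336 : allRange (fun i => Nat.beq (actR4 i) i) 1260000 3750 = true := by decide +kernel
theorem c_act4_337 : allRange (fun i => Nat.beq (actR4 i) i) 1263750 3750 = true := by decide +kernel
theorem c_act4_338 : allRange (fun i => Nat.beq (actR4 i) i) 1267500 3750 = true := by decide +kernel
theorem c_act4_339 : allRange (fun i => Nat.beq (actR4 i) i) 1271250 3750 = true := by decide +kernel
theorem c_act4_340 : allRange (fun i => Nat.beq (actR4 i) i) 1275000 3750 = true := by decide +kernel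
theorem c_act4_341 : allRange (fun i => Nat.beq (actR4 i) i) 1278750 3750 = true := by decide +kernel
theorem c_act4_342 : allRange (fun i => Nat.beq (actR4 i) i) 1282500 3750 = true := by decide +kernel
theorem c_act4_343 : allRange (fun i => Nat.beq (actR4 i) i) 1286250 3750 = true := by decide +kernel
theorem c_act4_344 : allRange (fun i => Nat.beq (actR4 i) i) 1290000 3750 = true := by decide +kernel
theorem c_act4_345 : allRange (fun i => Nat.beq (actR4 i) i) 1293750 3750 = true := by decide +kernel
theorem c_act4_346 : allRange (fun i => Nat.beq (actR4 i) i) 1297500 3750 = true := by decide +kernel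
theorem c_act4_347 : allRange (fun i => Nat.beq (actR4 i) i) 1301250 3750 = true := by decide +kernel
theorem c_act4_348 : allRange (fun i => Nat.beq (actR4 i) i) 1305000 3750 = true := by decide +kernel
theorem c_act4_349 : allRange (fun i => Nat.beq (actR4 i) i) 1308750 3750 = true := by decide +kernel
theorem c_act4_350 : allRange (fun i => Nat.beq (actR4 i) i) 1312500 3750 = true := by decide +kernel
theorem c_act4_351 : allRange (fun i => Nat.beq (actR4 i) i) 1316250 3750 = true := by decide +kernel
theorem c_act4_352 : allRange (fun i => Nat.beq (actR4 i) i) 1320000 3750 = true := by decide +kernel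
theorem c_act4_353 : allRange (fun i => Nat.beq (actR4 i) i) 1323750 3750 = true := by decide +kernel
theorem c_act4_354 : allRange (fun i => Nat.beq (actR4 i) i) 1327500 3750 = true := by decide +kernel
theorem c_act4_355 : allRange (fun i => Nat.beq (actR4 i) i) 1331250 3750 = true := by decide +kernel
theorem c_act4_356 : allRange (fun i => Nat.beq (actR4 i) i) 1335000 3750 = true := by decide +kernel
theorem c_act4_357 : allRange (fun i => Nat.beq (actR4 i) i) 1338750 3750 = true := by decide +kernel
theorem c_act4_358 : allRange (fun i => Nat.beq (actR4 i) i) 1342500 3750 = true := by decide +kernel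
theorem c_act4_359 : allRange (fun i => Nat.beq (actR4 i) i) 1346250 3750 = true := by decide +kernel
theorem c_act4_360 : allRange (fun i => Nat.beq (actR4 i) i) 1350000 3750 = true := by decide +kernel
theorem c_act4_361 : allRange (fun i => Nat.beq (actR4 i) i) 1353750 3750 = true := by decide +kernel
theorem c_act4_362 : allRange (fun i => Nat.beq (actR4 i) i) 1357500 3750 = true := by decide +kernel
theorem c_act4_363 : allRange (fun i => Nat.beq (actR4 i) i) 1361250 3750 = true := by decide +kernel
theorem c_act4_364 : allRange (fun i => Nat.beq (actR4 i) i) 1365000 3750 = true := by decide +kernel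
theorem c_act4_365 : allRange (fun i => Nat.beq (actR4 i) i) 1368750 3750 = true := by decide +kernel
theorem c_act4_366 : allRange (fun i => Nat.beq (actR4 i) i) 1372500 3750 = true := by decide +kernel
theorem c_act4_367 : allRange (fun i => Nat.beq (actR4 i) i) 1376250 3750 = true := by decide +kernel
theorem c_act4_368 : allRange (fun i => Nat.beq (actR4 i) i) 1380000 3750 = true := by decide +kernel
theorem c_act4_369 : allRange (fun i => Nat.beq (actR4 i) i) 1383750 3750 = true := by decide +kernel
theorem c_act4_370 : allRange (fun i => Nat.beq (actR4 i) i) 1387500 3750 = true := by decide +kernel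
theorem c_act4_371 : allRange (fun i => Nat.beq (actR4 i) i) 1391250 3750 = true := by decide +kernel
theorem c_act4_372 : allRange (fun i => Nat.beq (actR4 i) i) 1395000 3750 = true := by decide +kernel
theorem c_act4_373 : allRange (fun i => Nat.beq (actR4 i) i) 1398750 3750 = true := by decide +kernel
theorem c_act4_374 : allRange (fun i => Nat.beq (actR4 i) i) 1402500 3750 = true := by decide +kernel

end Cfsg.Agent.Lib.Helper4.TCD.HNm
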