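import Cfsg.Agent.Lib.Helper4.TCD_HNm_Acc

namespace Cfsg.Agent.Lib.Helper4.TCD.HNm

open Cfsg.Agent.Lib.Helper4.TC

set_option maxRecDepth 100000
set_option Elab.async false

theorem c_act4_375 : allRange (fun i => Nat.beq (actR4 i) i) 1406250 3750 = true := by decide +kernel
theorem c_act4_376 : allRange (fun i => Nat.beq (actR4 i) i) 1410000 3750 = true := by decide +kernel
theorem c_act4_377 : allRange (fun i => Nat.beq (actR4 i) i) 1413750 3750 = true := by decide +kernel
theorem c_act4_378 : allRange (fun i => Nat.beq (actR4 i) i) 1417500 3750 = true := by decide +kernel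
theorem c_act4_379 : allRange (fun i => Nat.beq (actR4 i) i) 1421250 3750 = true := by decide +kernel
theorem c_act4_380 : allRange (fun i => Nat.beq (actR4 i) i) 1425000 3750 = true := by decide +kernel
theorem c_act4_381 : allRange (fun i => Nat.beq (actR4 i) i) 1428750 3750 = true := by decide +kernel
theorem c_act4_382 : allRange (fun i => Nat.beq (actR4 i) i) 1432500 3750 = true := by decide +kernel
theorem c_act4_383 : allRange (fun i => Nat.beq (actR4 i) i) 1436250 3750 = true := by decide +kernel
theorem c_act4_384 : allRange (fun i => Nat.beq (actR4 i) i) 1440000 3750 = true := by decide +kernel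
theorem c_act4_385 : allRange (fun i => Nat.beq (actR4 i) i) 1443750 3750 = true := by decide +kernel
theorem c_act4_386 : allRange (fun i => Nat.beq (actR4 i) i) 1447500 3750 = true := by decide +kernel
theorem c_act4_387 : allRange (fun i => Nat.beq (actR4 i) i) 1451250 3750 = true := by decide +kernel
theorem c_act4_388 : allRange (fun i => Nat.beq (actR4 i) i) 1455000 3750 = true := by decide +kernel
theorem c_act4_389 : allRange (fun i => Nat.beq (actR4 i) i) 1458750 3750 = true := by decide +kernel
theorem c_act4_390 : allRange (fun i => Nat.beq (actR4 i) i) 1462500 3750 = true := by decide +kernel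
theorem c_act4_391 : allRange (fun i => Nat.beq (actR4 i) i) 1466250 3750 = true := by decide +kernel
theorem c_act4_392 : allRange (fun i => Nat.beq (actR4 i) i) 1470000 3750 = true := by decide +kernel
theorem c_act4_393 : allRange (fun i => Nat.beq (actR4 i) i) 1473750 3750 = true := by decide +kernel
theorem c_act4_394 : allRange (fun i => Nat.beq (actR4 i) i) 1477500 3750 = true := by decide +kernel
theorem c_act4_395 : allRange (fun i => Nat.beq (actR4 i) i) 1481250 3750 = true := by decide +kernel
theorem c_act4_396 : allRange (fun i => Nat.beq (actR4 i) i) 1485000 3750 = true := by decide +kernel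
theorem c_act4_397 : allRange (fun i => Nat.beq (actR4 i) i) 1488750 3750 = true := by decide +kernel
theorem c_act4_398 : allRange (fun i => Nat.beq (actR4 i) i) 1492500 3750 = true := by decide +kernel
theorem c_act4_399 : allRange (fun i => Nat.beq (actR4 i) i) 1496250 3750 = true := by decide +kernel
theorem c_act4_400 : allRange (fun i => Nat.beq (actR4 i) i) 1500000 3750 = true := by decide +kernel
theorem c_act4_401 : allRange (fun i => Nat.beq (actR4 i) i) 1503750 3750 = true := by decide +kernel
theorem c_act4_402 : allRange (fun i => Nat.beq (actR4 i) i) 1507500 3750 = true := by decide +kernel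
theorem c_act4_403 : allRange (fun i => Nat.beq (actR4 i) i) 1511250 3750 = true := by decide +kernel
theorem c_act4_404 : allRange (fun i => Nat.beq (actR4 i) i) 1515000 3750 = true := by decide +kernel
theorem c_act4_405 : allRange (fun i => Nat.beq (actR4 i) i) 1518750 3750 = true := by decide +kernel
theorem c_act4_406 : allRange (fun i => Nat.beq (actR4 i) i) 1522500 3750 = true := by decide +kernel
theorem c_act4_407 : allRange (fun i => Nat.beq (actR4 i) i) 1526250 3750 = true := by decide +kernel
theorem c_act4_408 : allRange (fun i => Nat.beq (actR4 i) i) 1530000 3750 = true := by decide +kernel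
theorem c_act4_409 : allRange (fun i => Nat.beq (actR4 i) i) 1533750 3750 = true := by decide +kernel
theorem c_act4_410 : allRange (fun i => Nat.beq (actR4 i) i) 1537500 1500 = true := by decide +kernel
theorem c_act5_0 : allRange (fun i => Nat.beq (actR5 i) i) 0 2500 = true := by decide +kernel
theorem c_act5_1 : allRange (fun i => Nat.beq (actR5 i) i) 2500 2500 = true := by decide +kernel
theorem c_act5_2 : allRange (fun i => Nat.beq (actR5 i) i) 5000 2500 = true := by decide +kernel
theorem c_act5_3 : allRange (fun i => Nat.beq (actR5 i) i) 7500 2500 = true := by decide +kernel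
theorem c_act5_4 : allRange (fun i => Nat.beq (actR5 i) i) 10000 2500 = true := by decide +kernel
theorem c_act5_5 : allRange (fun i => Nat.beq (actR5 i) i) 12500 2500 = true := by decide +kernel
theorem c_act5_6 : allRange (fun i => Nat.beq (actR5 i) i) 15000 2500 = true := by decide +kernel
theorem c_act5_7 : allRange (fun i => Nat.beq (actR5 i) i) 17500 2500 = true := by decide +kernel
theorem c_act5_8 : allRange (fun i => Nat.beq (actR5 i) i) 20000 2500 = true := by decide +kernel
theorem c_act5_9 : allRange (fun i => Nat.beq (actR5 i) i) 22500 2500 = true := by decide +kernel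
theorem c_act5_10 : allRange (fun i => Nat.beq (actR5 i) i) 25000 2500 = true := by decide +kernel
theorem c_act5_11 : allRange (fun i => Nat.beq (actR5 i) i) 27500 2500 = true := by decide +kernel
theorem c_act5_12 : allRange (fun i => Nat.beq (actR5 i) i) 30000 2500 = true := by decide +kernel
theorem c_act5_13 : allRange (fun i => Nat.beq (actR5 i) i) 32500 2500 = true := by decide +kernel

end Cfsg.Agent.Lib.Helper4.TCD.HNm
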