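import Cfsg.Agent.Lib.Helper4.TCD_HNm_Acc

namespace Cfsg.Agent.Lib.Helper4.TCD.HNm

open Cfsg.Agent.Lib.Helper4.TC

set_option maxRecDepth 100000
set_option Elab.async false

theorem c_rel_518 : allRange D.relOK 2984159 2484 = true := by decide +kernel
theorem c_rel_519 : allRange D.relOK 2986643 2642 = true := by decide +kernel
theorem c_rel_520 : allRange D.relOK 2989285 2481 = true := by decide +kernel
theorem c_rel_521 : allRange D.relOK 2991766 2488 = true := by decide +kernel
theorem c_rel_522 : allRange D.relOK 2994254 2699 = true := by decide +kernel
theorem c_rel_523 : allRange D.relOK 2996953 2499 = true := by decide +kernel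
theorem c_rel_524 : allRange D.relOK 2999452 2565 = true := by decide +kernel
theorem c_rel_525 : allRange D.relOK 3002017 2459 = true := by decide +kernel
theorem c_rel_526 : allRange D.relOK 3004476 2428 = true := by decide +kernel
theorem c_rel_527 : allRange D.relOK 3006904 2600 = true := by decide +kernel
theorem c_rel_528 : allRange D.relOK 3009504 2427 = true := by decide +kernel
theorem c_rel_529 : allRange D.relOK 3011931 2324 = true := by decide +kernel
theorem c_rel_530 : allRange D.relOK 3014255 2525 = true := by decide +kernel
theorem c_rel_531 : allRange D.relOK 3016780 2413 = true := by decide +kernel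
theorem c_rel_532 : allRange D.relOK 3019193 2570 = true := by decide +kernel
theorem c_rel_533 : allRange D.relOK 3021763 2667 = true := by decide +kernel
theorem c_rel_534 : allRange D.relOK 3024430 2408 = true := by decide +kernel
theorem c_rel_535 : allRange D.relOK 3026838 2431 = true := by decide +kernel
theorem c_rel_536 : allRange D.relOK 3029269 2607 = true := by decide +kernel
theorem c_rel_537 : allRange D.relOK 3031876 2384 = true := by decide +kernel
theorem c_rel_538 : allRange D.relOK 3034260 2508 = true := by decide +kernel
theorem c_rel_539 : allRange D.relOK 3036768 2571 = true := by decide +kernel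
theorem c_rel_540 : allRange D.relOK 3039339 2805 = true := by decide +kernel
theorem c_rel_541 : allRange D.relOK 3042144 2140 = true := by decide +kernel
theorem c_rel_542 : allRange D.relOK 3044284 2596 = true := by decide +kernel
theorem c_rel_543 : allRange D.relOK 3046880 2340 = true := by decide +kernel
theorem c_rel_544 : allRange D.relOK 3049220 2514 = true := by decide +kernel
theorem c_rel_545 : allRange D.relOK 3051734 2392 = true := by decide +kernel
theorem c_rel_546 : allRange D.relOK 3054126 2542 = true := by decide +kernel
theorem c_rel_547 : allRange D.relOK 3056668 2578 = true := by decide +kernel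
theorem c_rel_548 : allRange D.relOK 3059246 2378 = true := by decide +kernel
theorem c_rel_549 : allRange D.relOK 3061624 2465 = true := by decide +kernel
theorem c_rel_550 : allRange D.relOK 3064089 2430 = true := by decide +kernel
theorem c_rel_551 : allRange D.relOK 3066519 2694 = true := by decide +kernel
theorem c_rel_552 : allRange D.relOK 3069213 2443 = true := by decide +kernel
theorem c_rel_553 : allRange D.relOK 3071656 2371 = true := by decide +kernel
theorem c_rel_554 : allRange D.relOK 3074027 2664 = true := by decide +kernel
theorem c_rel_555 : allRange D.relOK 3076691 2348 = true := by decide +kernel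
theorem c_rel_556 : allRange D.relOK 3079039 2508 = true := by decide +kernel
theorem c_rel_557 : allRange D.relOK 3081547 2389 = true := by decide +kernel
theorem c_rel_558 : allRange D.relOK 3083936 2574 = true := by decide +kernel
theorem c_rel_559 : allRange D.relOK 3086510 2589 = true := by decide +kernel
theorem c_rel_560 : allRange D.relOK 3089099 2661 = true := by decide +kernel
theorem c_rel_561 : allRange D.relOK 3091760 2399 = true := by decide +kernel
theorem c_rel_562 : allRange D.relOK 3094159 2371 = true := by decide +kernel
theorem c_rel_563 : allRange D.relOK 3096530 2441 = true := by decide +kernel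
theorem c_rel_564 : allRange D.relOK 3098971 2528 = true := by decide +kernel
theorem c_rel_565 : allRange D.relOK 3101499 2505 = true := by decide +kernel
theorem c_rel_566 : allRange D.relOK 3104004 2315 = true := by decide +kernel
theorem c_rel_567 : allRange D.relOK 3106319 2435 = true := by decide +kernel
theorem c_rel_568 : allRange D.relOK 3108754 2437 = true := by decide +kernel
theorem c_rel_569 : allRange D.relOK 3111191 2438 = true := by decide +kernel
theorem c_rel_570 : allRange D.relOK 3113629 2549 = true := by decide +kernel
theorem c_rel_571 : allRange D.relOK 3116178 2378 = true := by decide +kernel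
theorem c_rel_572 : allRange D.relOK 3118556 2485 = true := by decide +kernel
theorem c_rel_573 : allRange D.relOK 3121041 2338 = true := by decide +kernel
theorem c_rel_574 : allRange D.relOK 3123379 2294 = true := by decide +kernel
theorem c_rel_575 : allRange D.relOK 3125673 2417 = true := by decide +kernel
theorem c_rel_576 : allRange D.relOK 3128090 2494 = true := by decide +kernel
theorem c_rel_577 : allRange D.relOK 3130584 2389 = true := by decide +kernel
theorem c_rel_578 : allRange D.relOK 3132973 2416 = true := by decide +kernel
theorem c_rel_579 : allRange D.relOK 3135389 2505 = true := by decide +kernel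
theorem c_rel_580 : allRange D.relOK 3137894 2292 = true := by decide +kernel
theorem c_rel_581 : allRange D.relOK 3140186 2616 = true := by decide +kernel
theorem c_rel_582 : allRange D.relOK 3142802 2573 = true := by decide +kernel
theorem c_rel_583 : allRange D.relOK 3145375 2587 = true := by decide +kernel
theorem c_rel_584 : allRange D.relOK 3147962 2595 = true := by decide +kernel
theorem c_rel_585 : allRange D.relOK 3150557 2602 = true := by decide +kernel
theorem c_rel_586 : allRange D.relOK 3153159 2446 = true := by decide +kernel
theorem c_rel_587 : allRange D.relOK 3155605 2497 = true := by decide +kernel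
theorem c_rel_588 : allRange D.relOK 3158102 2492 = true := by decide +kernel
theorem c_rel_589 : allRange D.relOK 3160594 2546 = true := by decide +kernel
theorem c_rel_590 : allRange D.relOK 3163140 2418 = true := by decide +kernel
theorem c_rel_591 : allRange D.relOK 3165558 2691 = true := by decide +kernel
theorem c_rel_592 : allRange D.relOK 3168249 2430 = true := by decide +kernel
theorem c_rel_593 : allRange D.relOK 3170679 2567 = true := by decide +kernel
theorem c_rel_594 : allRange D.relOK 3173246 2441 = true := by decide +kernel
theorem c_rel_595 : allRange D.relOK 3175687 2295 = true := by decide +kernel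
theorem c_rel_596 : allRange D.relOK 3177982 2611 = true := by decide +kernel
theorem c_rel_597 : allRange D.relOK 3180593 2518 = true := by decide +kernel
theorem c_rel_598 : allRange D.relOK 3183111 2627 = true := by decide +kernel
theorem c_rel_599 : allRange D.relOK 3185738 2601 = true := by decide +kernel
theorem c_rel_600 : allRange D.relOK 3188339 2543 = true := by decide +kernel
theorem c_rel_601 : allRange D.relOK 3190882 2617 = true := by decide +kernel
theorem c_rel_602 : allRange D.relOK 3193499 2431 = true := by decide +kernel
theorem c_rel_603 : allRange D.relOK 3195930 2420 = true := by decide +kernel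
theorem c_rel_604 : allRange D.relOK 3198350 2421 = true := by decide +kernel
theorem c_rel_605 : allRange D.relOK 3200771 2395 = true := by decide +kernel
theorem c_rel_606 : allRange D.relOK 3203166 2436 = true := by decide +kernel
theorem c_rel_607 : allRange D.relOK 3205602 2262 = true := by decide +kernel
theorem c_rel_608 : allRange D.relOK 3207864 2456 = true := by decide +kernel
theorem c_rel_609 : allRange D.relOK 3210320 2157 = true := by decide +kernel
theorem c_rel_610 : allRange D.relOK 3212477 2405 = true := by decide +kernel
theorem c_rel_611 : allRange D.relOK 3214882 2328 = true := by decide +kernel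
theorem c_rel_612 : allRange D.relOK 3217210 2427 = true := by decide +kernel
theorem c_rel_613 : allRange D.relOK 3219637 2597 = true := by decide +kernel
theorem c_rel_614 : allRange D.relOK 3222234 2427 = true := by decide +kernel
theorem c_rel_615 : allRange D.relOK 3224661 2422 = true := by decide +kernel
theorem c_rel_616 : allRange D.relOK 3227083 2581 = true := by decide +kernel

end Cfsg.Agent.Lib.Helper4.TCD.HNm
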