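import Cfsg.Agent.Lib.Helper4.TCD_HNm_Acc

namespace Cfsg.Agent.Lib.Helper4.TCD.HNm

open Cfsg.Agent.Lib.Helper4.TC

set_option maxRecDepth 100000
set_option Elab.async false

theorem c_act5_64 : allRange (fun i => Nat.beq (actR5 i) i) 160000 2500 = true := by decide +kernel
theorem c_act5_65 : allRange (fun i => Nat.beq (actR5 i) i) 162500 2500 = true := by decide +kernel
theorem c_act5_66 : allRange (fun i => Nat.beq (actR5 i) i) 165000 2500 = true := by decide +kernel
theorem c_act5_67 : allRange (fun i => Nat.beq (actR5 i) i) 167500 2500 = true := by decide +kernel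
theorem c_act5_68 : allRange (fun i => Nat.beq (actR5 i) i) 170000 2500 = true := by decide +kernel
theorem c_act5_69 : allRange (fun i => Nat.beq (actR5 i) i) 172500 2500 = true := by decide +kernel
theorem c_act5_70 : allRange (fun i => Nat.beq (actR5 i) i) 175000 2500 = true := by decide +kernel
theorem c_act5_71 : allRange (fun i => Nat.beq (actR5 i) i) 177500 2500 = true := by decide +kernel
theorem c_act5_72 : allRange (fun i => Nat.beq (actR5 i) i) 180000 2500 = true := by decide +kernel
theorem c_act5_73 : allRange (fun i => Nat.beq (actR5 i) i) 182500 2500 = true := by decide +kernel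
theorem c_act5_74 : allRange (fun i => Nat.beq (actR5 i) i) 185000 2500 = true := by decide +kernel
theorem c_act5_75 : allRange (fun i => Nat.beq (actR5 i) i) 187500 2500 = true := by decide +kernel
theorem c_act5_76 : allRange (fun i => Nat.beq (actR5 i) i) 190000 2500 = true := by decide +kernel
theorem c_act5_77 : allRange (fun i => Nat.beq (actR5 i) i) 192500 2500 = true := by decide +kernel
theorem c_act5_78 : allRange (fun i => Nat.beq (actR5 i) i) 195000 2500 = true := by decide +kernel
theorem c_act5_79 : allRange (fun i => Nat.beq (actR5 i) i) 197500 2500 = true := by decide +kernel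
theorem c_act5_80 : allRange (fun i => Nat.beq (actR5 i) i) 200000 2500 = true := by decide +kernel
theorem c_act5_81 : allRange (fun i => Nat.beq (actR5 i) i) 202500 2500 = true := by decide +kernel
theorem c_act5_82 : allRange (fun i => Nat.beq (actR5 i) i) 205000 2500 = true := by decide +kernel
theorem c_act5_83 : allRange (fun i => Nat.beq (actR5 i) i) 207500 2500 = true := by decide +kernel
theorem c_act5_84 : allRange (fun i => Nat.beq (actR5 i) i) 210000 2500 = true := by decide +kernel
theorem c_act5_85 : allRange (fun i => Nat.beq (actR5 i) i) 212500 2500 = true := by decide +kernel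
theorem c_act5_86 : allRange (fun i => Nat.beq (actR5 i) i) 215000 2500 = true := by decide +kernel
theorem c_act5_87 : allRange (fun i => Nat.beq (actR5 i) i) 217500 2500 = true := by decide +kernel
theorem c_act5_88 : allRange (fun i => Nat.beq (actR5 i) i) 220000 2500 = true := by decide +kernel
theorem c_act5_89 : allRange (fun i => Nat.beq (actR5 i) i) 222500 2500 = true := by decide +kernel
theorem c_act5_90 : allRange (fun i => Nat.beq (actR5 i) i) 225000 2500 = true := by decide +kernel
theorem c_act5_91 : allRange (fun i => Nat.beq (actR5 i) i) 227500 2500 = true := by decide +kernel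
theorem c_act5_92 : allRange (fun i => Nat.beq (actR5 i) i) 230000 2500 = true := by decide +kernel
theorem c_act5_93 : allRange (fun i => Nat.beq (actR5 i) i) 232500 2500 = true := by decide +kernel
theorem c_act5_94 : allRange (fun i => Nat.beq (actR5 i) i) 235000 2500 = true := by decide +kernel
theorem c_act5_95 : allRange (fun i => Nat.beq (actR5 i) i) 237500 2500 = true := by decide +kernel
theorem c_act5_96 : allRange (fun i => Nat.beq (actR5 i) i) 240000 2500 = true := by decide +kernel
theorem c_act5_97 : allRange (fun i => Nat.beq (actR5 i) i) 242500 2500 = true := by decide +kernel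
theorem c_act5_98 : allRange (fun i => Nat.beq (actR5 i) i) 245000 2500 = true := by decide +kernel
theorem c_act5_99 : allRange (fun i => Nat.beq (actR5 i) i) 247500 2500 = true := by decide +kernel
theorem c_act5_100 : allRange (fun i => Nat.beq (actR5 i) i) 250000 2500 = true := by decide +kernel
theorem c_act5_101 : allRange (fun i => Nat.beq (actR5 i) i) 252500 2500 = true := by decide +kernel
theorem c_act5_102 : allRange (fun i => Nat.beq (actR5 i) i) 255000 2500 = true := by decide +kernel
theorem c_act5_103 : allRange (fun i => Nat.beq (actR5 i) i) 257500 2500 = true := by decide +kernel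
theorem c_act5_104 : allRange (fun i => Nat.beq (actR5 i) i) 260000 2500 = true := by decide +kernel
theorem c_act5_105 : allRange (fun i => Nat.beq (actR5 i) i) 262500 2500 = true := by decide +kernel
theorem c_act5_106 : allRange (fun i => Nat.beq (actR5 i) i) 265000 2500 = true := by decide +kernel
theorem c_act5_107 : allRange (fun i => Nat.beq (actR5 i) i) 267500 2500 = true := by decide +kernel
theorem c_act5_108 : allRange (fun i => Nat.beq (actR5 i) i) 270000 2500 = true := by decide +kernel
theorem c_act5_109 : allRange (fun i => Nat.beq (actR5 i) i) 272500 2500 = true := by decide +kernel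
theorem c_act5_110 : allRange (fun i => Nat.beq (actR5 i) i) 275000 2500 = true := by decide +kernel
theorem c_act5_111 : allRange (fun i => Nat.beq (actR5 i) i) 277500 2500 = true := by decide +kernel
theorem c_act5_112 : allRange (fun i => Nat.beq (actR5 i) i) 280000 2500 = true := by decide +kernel
theorem c_act5_113 : allRange (fun i => Nat.beq (actR5 i) i) 282500 2500 = true := by decide +kernel

end Cfsg.Agent.Lib.Helper4.TCD.HNm
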