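import Cfsg.Agent.Lib.Helper4.TCD_HNm_Acc

namespace Cfsg.Agent.Lib.Helper4.TCD.HNm

open Cfsg.Agent.Lib.Helper4.TC

set_option maxRecDepth 100000
set_option Elab.async false

theorem c_act5_114 : allRange (fun i => Nat.beq (actR5 i) i) 285000 2500 = true := by decide +kernel
theorem c_act5_115 : allRange (fun i => Nat.beq (actR5 i) i) 287500 2500 = true := by decide +kernel
theorem c_act5_116 : allRange (fun i => Nat.beq (actR5 i) i) 290000 2500 = true := by decide +kernel
theorem c_act5_117 : allRange (fun i => Nat.beq (actR5 i) i) 292500 2500 = true := by decide +kernel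
theorem c_act5_118 : allRange (fun i => Nat.beq (actR5 i) i) 295000 2500 = true := by decide +kernel
theorem c_act5_119 : allRange (fun i => Nat.beq (actR5 i) i) 297500 2500 = true := by decide +kernel
theorem c_act5_120 : allRange (fun i => Nat.beq (actR5 i) i) 300000 2500 = true := by decide +kernel
theorem c_act5_121 : allRange (fun i => Nat.beq (actR5 i) i) 302500 2500 = true := by decide +kernel
theorem c_act5_122 : allRange (fun i => Nat.beq (actR5 i) i) 305000 2500 = true := by decide +kernel
theorem c_act5_123 : allRange (fun i => Nat.beq (actR5 i) i) 307500 2500 = true := by decide +kernel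
theorem c_act5_124 : allRange (fun i => Nat.beq (actR5 i) i) 310000 2500 = true := by decide +kernel
theorem c_act5_125 : allRange (fun i => Nat.beq (actR5 i) i) 312500 2500 = true := by decide +kernel
theorem c_act5_126 : allRange (fun i => Nat.beq (actR5 i) i) 315000 2500 = true := by decide +kernel
theorem c_act5_127 : allRange (fun i => Nat.beq (actR5 i) i) 317500 2500 = true := by decide +kernel
theorem c_act5_128 : allRange (fun i => Nat.beq (actR5 i) i) 320000 2500 = true := by decide +kernel
theorem c_act5_129 : allRange (fun i => Nat.beq (actR5 i) i) 322500 2500 = true := by decide +kernel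
theorem c_act5_130 : allRange (fun i => Nat.beq (actR5 i) i) 325000 2500 = true := by decide +kernel
theorem c_act5_131 : allRange (fun i => Nat.beq (actR5 i) i) 327500 2500 = true := by decide +kernel
theorem c_act5_132 : allRange (fun i => Nat.beq (actR5 i) i) 330000 2500 = true := by decide +kernel
theorem c_act5_133 : allRange (fun i => Nat.beq (actR5 i) i) 332500 2500 = true := by decide +kernel
theorem c_act5_134 : allRange (fun i => Nat.beq (actR5 i) i) 335000 2500 = true := by decide +kernel
theorem c_act5_135 : allRange (fun i => Nat.beq (actR5 i) i) 337500 2500 = true := by decide +kernel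
theorem c_act5_136 : allRange (fun i => Nat.beq (actR5 i) i) 340000 2500 = true := by decide +kernel
theorem c_act5_137 : allRange (fun i => Nat.beq (actR5 i) i) 342500 2500 = true := by decide +kernel
theorem c_act5_138 : allRange (fun i => Nat.beq (actR5 i) i) 345000 2500 = true := by decide +kernel
theorem c_act5_139 : allRange (fun i => Nat.beq (actR5 i) i) 347500 2500 = true := by decide +kernel
theorem c_act5_140 : allRange (fun i => Nat.beq (actR5 i) i) 350000 2500 = true := by decide +kernel
theorem c_act5_141 : allRange (fun i => Nat.beq (actR5 i) i) 352500 2500 = true := by decide +kernel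
theorem c_act5_142 : allRange (fun i => Nat.beq (actR5 i) i) 355000 2500 = true := by decide +kernel
theorem c_act5_143 : allRange (fun i => Nat.beq (actR5 i) i) 357500 2500 = true := by decide +kernel
theorem c_act5_144 : allRange (fun i => Nat.beq (actR5 i) i) 360000 2500 = true := by decide +kernel
theorem c_act5_145 : allRange (fun i => Nat.beq (actR5 i) i) 362500 2500 = true := by decide +kernel
theorem c_act5_146 : allRange (fun i => Nat.beq (actR5 i) i) 365000 2500 = true := by decide +kernel
theorem c_act5_147 : allRange (fun i => Nat.beq (actR5 i) i) 367500 2500 = true := by decide +kernel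
theorem c_act5_148 : allRange (fun i => Nat.beq (actR5 i) i) 370000 2500 = true := by decide +kernel
theorem c_act5_149 : allRange (fun i => Nat.beq (actR5 i) i) 372500 2500 = true := by decide +kernel
theorem c_act5_150 : allRange (fun i => Nat.beq (actR5 i) i) 375000 2500 = true := by decide +kernel
theorem c_act5_151 : allRange (fun i => Nat.beq (actR5 i) i) 377500 2500 = true := by decide +kernel
theorem c_act5_152 : allRange (fun i => Nat.beq (actR5 i) i) 380000 2500 = true := by decide +kernel
theorem c_act5_153 : allRange (fun i => Nat.beq (actR5 i) i) 382500 2500 = true := by decide +kernel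
theorem c_act5_154 : allRange (fun i => Nat.beq (actR5 i) i) 385000 2500 = true := by decide +kernel
theorem c_act5_155 : allRange (fun i => Nat.beq (actR5 i) i) 387500 2500 = true := by decide +kernel
theorem c_act5_156 : allRange (fun i => Nat.beq (actR5 i) i) 390000 2500 = true := by decide +kernel
theorem c_act5_157 : allRange (fun i => Nat.beq (actR5 i) i) 392500 2500 = true := by decide +kernel
theorem c_act5_158 : allRange (fun i => Nat.beq (actR5 i) i) 395000 2500 = true := by decide +kernel
theorem c_act5_159 : allRange (fun i => Nat.beq (actR5 i) i) 397500 2500 = true := by decide +kernel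
theorem c_act5_160 : allRange (fun i => Nat.beq (actR5 i) i) 400000 2500 = true := by decide +kernel
theorem c_act5_161 : allRange (fun i => Nat.beq (actR5 i) i) 402500 2500 = true := by decide +kernel
theorem c_act5_162 : allRange (fun i => Nat.beq (actR5 i) i) 405000 2500 = true := by decide +kernel
theorem c_act5_163 : allRange (fun i => Nat.beq (actR5 i) i) 407500 2500 = true := by decide +kernel

end Cfsg.Agent.Lib.Helper4.TCD.HNm
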