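import Cfsg.Agent.Lib.Helper4.TCD_HNm_Acc

namespace Cfsg.Agent.Lib.Helper4.TCD.HNm

open Cfsg.Agent.Lib.Helper4.TC

set_option maxRecDepth 100000
set_option Elab.async false

theorem c_act5_164 : allRange (fun i => Nat.beq (actR5 i) i) 410000 2500 = true := by decide +kernel
theorem c_act5_165 : allRange (fun i => Nat.beq (actR5 i) i) 412500 2500 = true := by decide +kernel
theorem c_act5_166 : allRange (fun i => Nat.beq (actR5 i) i) 415000 2500 = true := by decide +kernel
theorem c_act5_167 : allRange (fun i => Nat.beq (actR5 i) i) 417500 2500 = true := by decide +kernel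
theorem c_act5_168 : allRange (fun i => Nat.beq (actR5 i) i) 420000 2500 = true := by decide +kernel
theorem c_act5_169 : allRange (fun i => Nat.beq (actR5 i) i) 422500 2500 = true := by decide +kernel
theorem c_act5_170 : allRange (fun i => Nat.beq (actR5 i) i) 425000 2500 = true := by decide +kernel
theorem c_act5_171 : allRange (fun i => Nat.beq (actR5 i) i) 427500 2500 = true := by decide +kernel
theorem c_act5_172 : allRange (fun i => Nat.beq (actR5 i) i) 430000 2500 = true := by decide +kernel
theorem c_act5_173 : allRange (fun i => Nat.beq (actR5 i) i) 432500 2500 = true := by decide +kernel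
theorem c_act5_174 : allRange (fun i => Nat.beq (actR5 i) i) 435000 2500 = true := by decide +kernel
theorem c_act5_175 : allRange (fun i => Nat.beq (actR5 i) i) 437500 2500 = true := by decide +kernel
theorem c_act5_176 : allRange (fun i => Nat.beq (actR5 i) i) 440000 2500 = true := by decide +kernel
theorem c_act5_177 : allRange (fun i => Nat.beq (actR5 i) i) 442500 2500 = true := by decide +kernel
theorem c_act5_178 : allRange (fun i => Nat.beq (actR5 i) i) 445000 2500 = true := by decide +kernel
theorem c_act5_179 : allRange (fun i => Nat.beq (actR5 i) i) 447500 2500 = true := by decide +kernel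
theorem c_act5_180 : allRange (fun i => Nat.beq (actR5 i) i) 450000 2500 = true := by decide +kernel
theorem c_act5_181 : allRange (fun i => Nat.beq (actR5 i) i) 452500 2500 = true := by decide +kernel
theorem c_act5_182 : allRange (fun i => Nat.beq (actR5 i) i) 455000 2500 = true := by decide +kernel
theorem c_act5_183 : allRange (fun i => Nat.beq (actR5 i) i) 457500 2500 = true := by decide +kernel
theorem c_act5_184 : allRange (fun i => Nat.beq (actR5 i) i) 460000 2500 = true := by decide +kernel
theorem c_act5_185 : allRange (fun i => Nat.beq (actR5 i) i) 462500 2500 = true := by decide +kernel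
theorem c_act5_186 : allRange (fun i => Nat.beq (actR5 i) i) 465000 2500 = true := by decide +kernel
theorem c_act5_187 : allRange (fun i => Nat.beq (actR5 i) i) 467500 2500 = true := by decide +kernel
theorem c_act5_188 : allRange (fun i => Nat.beq (actR5 i) i) 470000 2500 = true := by decide +kernel
theorem c_act5_189 : allRange (fun i => Nat.beq (actR5 i) i) 472500 2500 = true := by decide +kernel
theorem c_act5_190 : allRange (fun i => Nat.beq (actR5 i) i) 475000 2500 = true := by decide +kernel
theorem c_act5_191 : allRange (fun i => Nat.beq (actR5 i) i) 477500 2500 = true := by decide +kernel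
theorem c_act5_192 : allRange (fun i => Nat.beq (actR5 i) i) 480000 2500 = true := by decide +kernel
theorem c_act5_193 : allRange (fun i => Nat.beq (actR5 i) i) 482500 2500 = true := by decide +kernel
theorem c_act5_194 : allRange (fun i => Nat.beq (actR5 i) i) 485000 2500 = true := by decide +kernel
theorem c_act5_195 : allRange (fun i => Nat.beq (actR5 i) i) 487500 2500 = true := by decide +kernel
theorem c_act5_196 : allRange (fun i => Nat.beq (actR5 i) i) 490000 2500 = true := by decide +kernel
theorem c_act5_197 : allRange (fun i => Nat.beq (actR5 i) i) 492500 2500 = true := by decide +kernel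
theorem c_act5_198 : allRange (fun i => Nat.beq (actR5 i) i) 495000 2500 = true := by decide +kernel
theorem c_act5_199 : allRange (fun i => Nat.beq (actR5 i) i) 497500 2500 = true := by decide +kernel
theorem c_act5_200 : allRange (fun i => Nat.beq (actR5 i) i) 500000 2500 = true := by decide +kernel
theorem c_act5_201 : allRange (fun i => Nat.beq (actR5 i) i) 502500 2500 = true := by decide +kernel
theorem c_act5_202 : allRange (fun i => Nat.beq (actR5 i) i) 505000 2500 = true := by decide +kernel
theorem c_act5_203 : allRange (fun i => Nat.beq (actR5 i) i) 507500 2500 = true := by decide +kernel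
theorem c_act5_204 : allRange (fun i => Nat.beq (actR5 i) i) 510000 2500 = true := by decide +kernel
theorem c_act5_205 : allRange (fun i => Nat.beq (actR5 i) i) 512500 2500 = true := by decide +kernel
theorem c_act5_206 : allRange (fun i => Nat.beq (actR5 i) i) 515000 2500 = true := by decide +kernel
theorem c_act5_207 : allRange (fun i => Nat.beq (actR5 i) i) 517500 2500 = true := by decide +kernel
theorem c_act5_208 : allRange (fun i => Nat.beq (actR5 i) i) 520000 2500 = true := by decide +kernel
theorem c_act5_209 : allRange (fun i => Nat.beq (actR5 i) i) 522500 2500 = true := by decide +kernel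
theorem c_act5_210 : allRange (fun i => Nat.beq (actR5 i) i) 525000 2500 = true := by decide +kernel
theorem c_act5_211 : allRange (fun i => Nat.beq (actR5 i) i) 527500 2500 = true := by decide +kernel
theorem c_act5_212 : allRange (fun i => Nat.beq (actR5 i) i) 530000 2500 = true := by decide +kernel
theorem c_act5_213 : allRange (fun i => Nat.beq (actR5 i) i) 532500 2500 = true := by decide +kernel

end Cfsg.Agent.Lib.Helper4.TCD.HNm
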