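import Cfsg.Agent.Lib.Helper4.TCD_HNm_Acc

namespace Cfsg.Agent.Lib.Helper4.TCD.HNm

open Cfsg.Agent.Lib.Helper4.TC

set_option maxRecDepth 100000
set_option Elab.async false

theorem c_act5_214 : allRange (fun i => Nat.beq (actR5 i) i) 535000 2500 = true := by decide +kernel
theorem c_act5_215 : allRange (fun i => Nat.beq (actR5 i) i) 537500 2500 = true := by decide +kernel
theorem c_act5_216 : allRange (fun i => Nat.beq (actR5 i) i) 540000 2500 = true := by decide +kernel
theorem c_act5_217 : allRange (fun i => Nat.beq (actR5 i) i) 542500 2500 = true := by decide +kernel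
theorem c_act5_218 : allRange (fun i => Nat.beq (actR5 i) i) 545000 2500 = true := by decide +kernel
theorem c_act5_219 : allRange (fun i => Nat.beq (actR5 i) i) 547500 2500 = true := by decide +kernel
theorem c_act5_220 : allRange (fun i => Nat.beq (actR5 i) i) 550000 2500 = true := by decide +kernel
theorem c_act5_221 : allRange (fun i => Nat.beq (actR5 i) i) 552500 2500 = true := by decide +kernel
theorem c_act5_222 : allRange (fun i => Nat.beq (actR5 i) i) 555000 2500 = true := by decide +kernel
theorem c_act5_223 : allRange (fun i => Nat.beq (actR5 i) i) 557500 2500 = true := by decide +kernel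
theorem c_act5_224 : allRange (fun i => Nat.beq (actR5 i) i) 560000 2500 = true := by decide +kernel
theorem c_act5_225 : allRange (fun i => Nat.beq (actR5 i) i) 562500 2500 = true := by decide +kernel
theorem c_act5_226 : allRange (fun i => Nat.beq (actR5 i) i) 565000 2500 = true := by decide +kernel
theorem c_act5_227 : allRange (fun i => Nat.beq (actR5 i) i) 567500 2500 = true := by decide +kernel
theorem c_act5_228 : allRange (fun i => Nat.beq (actR5 i) i) 570000 2500 = true := by decide +kernel
theorem c_act5_229 : allRange (fun i => Nat.beq (actR5 i) i) 572500 2500 = true := by decide +kernel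
theorem c_act5_230 : allRange (fun i => Nat.beq (actR5 i) i) 575000 2500 = true := by decide +kernel
theorem c_act5_231 : allRange (fun i => Nat.beq (actR5 i) i) 577500 2500 = true := by decide +kernel
theorem c_act5_232 : allRange (fun i => Nat.beq (actR5 i) i) 580000 2500 = true := by decide +kernel
theorem c_act5_233 : allRange (fun i => Nat.beq (actR5 i) i) 582500 2500 = true := by decide +kernel
theorem c_act5_234 : allRange (fun i => Nat.beq (actR5 i) i) 585000 2500 = true := by decide +kernel
theorem c_act5_235 : allRange (fun i => Nat.beq (actR5 i) i) 587500 2500 = true := by decide +kernel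
theorem c_act5_236 : allRange (fun i => Nat.beq (actR5 i) i) 590000 2500 = true := by decide +kernel
theorem c_act5_237 : allRange (fun i => Nat.beq (actR5 i) i) 592500 2500 = true := by decide +kernel
theorem c_act5_238 : allRange (fun i => Nat.beq (actR5 i) i) 595000 2500 = true := by decide +kernel
theorem c_act5_239 : allRange (fun i => Nat.beq (actR5 i) i) 597500 2500 = true := by decide +kernel
theorem c_act5_240 : allRange (fun i => Nat.beq (actR5 i) i) 600000 2500 = true := by decide +kernel
theorem c_act5_241 : allRange (fun i => Nat.beq (actR5 i) i) 602500 2500 = true := by decide +kernel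
theorem c_act5_242 : allRange (fun i => Nat.beq (actR5 i) i) 605000 2500 = true := by decide +kernel
theorem c_act5_243 : allRange (fun i => Nat.beq (actR5 i) i) 607500 2500 = true := by decide +kernel
theorem c_act5_244 : allRange (fun i => Nat.beq (actR5 i) i) 610000 2500 = true := by decide +kernel
theorem c_act5_245 : allRange (fun i => Nat.beq (actR5 i) i) 612500 2500 = true := by decide +kernel
theorem c_act5_246 : allRange (fun i => Nat.beq (actR5 i) i) 615000 2500 = true := by decide +kernel
theorem c_act5_247 : allRange (fun i => Nat.beq (actR5 i) i) 617500 2500 = true := by decide +kernel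
theorem c_act5_248 : allRange (fun i => Nat.beq (actR5 i) i) 620000 2500 = true := by decide +kernel
theorem c_act5_249 : allRange (fun i => Nat.beq (actR5 i) i) 622500 2500 = true := by decide +kernel
theorem c_act5_250 : allRange (fun i => Nat.beq (actR5 i) i) 625000 2500 = true := by decide +kernel
theorem c_act5_251 : allRange (fun i => Nat.beq (actR5 i) i) 627500 2500 = true := by decide +kernel
theorem c_act5_252 : allRange (fun i => Nat.beq (actR5 i) i) 630000 2500 = true := by decide +kernel
theorem c_act5_253 : allRange (fun i => Nat.beq (actR5 i) i) 632500 2500 = true := by decide +kernel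
theorem c_act5_254 : allRange (fun i => Nat.beq (actR5 i) i) 635000 2500 = true := by decide +kernel
theorem c_act5_255 : allRange (fun i => Nat.beq (actR5 i) i) 637500 2500 = true := by decide +kernel
theorem c_act5_256 : allRange (fun i => Nat.beq (actR5 i) i) 640000 2500 = true := by decide +kernel
theorem c_act5_257 : allRange (fun i => Nat.beq (actR5 i) i) 642500 2500 = true := by decide +kernel
theorem c_act5_258 : allRange (fun i => Nat.beq (actR5 i) i) 645000 2500 = true := by decide +kernel
theorem c_act5_259 : allRange (fun i => Nat.beq (actR5 i) i) 647500 2500 = true := by decide +kernel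
theorem c_act5_260 : allRange (fun i => Nat.beq (actR5 i) i) 650000 2500 = true := by decide +kernel
theorem c_act5_261 : allRange (fun i => Nat.beq (actR5 i) i) 652500 2500 = true := by decide +kernel
theorem c_act5_262 : allRange (fun i => Nat.beq (actR5 i) i) 655000 2500 = true := by decide +kernel
theorem c_act5_263 : allRange (fun i => Nat.beq (actR5 i) i) 657500 2500 = true := by decide +kernel

end Cfsg.Agent.Lib.Helper4.TCD.HNm
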