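import Cfsg.Agent.Lib.Helper4.TCD_HNm_Acc

namespace Cfsg.Agent.Lib.Helper4.TCD.HNm

open Cfsg.Agent.Lib.Helper4.TC

set_option maxRecDepth 100000
set_option Elab.async false

theorem c_act5_264 : allRange (fun i => Nat.beq (actR5 i) i) 660000 2500 = true := by decide +kernel
theorem c_act5_265 : allRange (fun i => Nat.beq (actR5 i) i) 662500 2500 = true := by decide +kernel
theorem c_act5_266 : allRange (fun i => Nat.beq (actR5 i) i) 665000 2500 = true := by decide +kernel
theorem c_act5_267 : allRange (fun i => Nat.beq (actR5 i) i) 667500 2500 = true := by decide +kernel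
theorem c_act5_268 : allRange (fun i => Nat.beq (actR5 i) i) 670000 2500 = true := by decide +kernel
theorem c_act5_269 : allRange (fun i => Nat.beq (actR5 i) i) 672500 2500 = true := by decide +kernel
theorem c_act5_270 : allRange (fun i => Nat.beq (actR5 i) i) 675000 2500 = true := by decide +kernel
theorem c_act5_271 : allRange (fun i => Nat.beq (actR5 i) i) 677500 2500 = true := by decide +kernel
theorem c_act5_272 : allRange (fun i => Nat.beq (actR5 i) i) 680000 2500 = true := by decide +kernel
theorem c_act5_273 : allRange (fun i => Nat.beq (actR5 i) i) 682500 2500 = true := by decide +kernel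
theorem c_act5_274 : allRange (fun i => Nat.beq (actR5 i) i) 685000 2500 = true := by decide +kernel
theorem c_act5_275 : allRange (fun i => Nat.beq (actR5 i) i) 687500 2500 = true := by decide +kernel
theorem c_act5_276 : allRange (fun i => Nat.beq (actR5 i) i) 690000 2500 = true := by decide +kernel
theorem c_act5_277 : allRange (fun i => Nat.beq (actR5 i) i) 692500 2500 = true := by decide +kernel
theorem c_act5_278 : allRange (fun i => Nat.beq (actR5 i) i) 695000 2500 = true := by decide +kernel
theorem c_act5_279 : allRange (fun i => Nat.beq (actR5 i) i) 697500 2500 = true := by decide +kernel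
theorem c_act5_280 : allRange (fun i => Nat.beq (actR5 i) i) 700000 2500 = true := by decide +kernel
theorem c_act5_281 : allRange (fun i => Nat.beq (actR5 i) i) 702500 2500 = true := by decide +kernel
theorem c_act5_282 : allRange (fun i => Nat.beq (actR5 i) i) 705000 2500 = true := by decide +kernel
theorem c_act5_283 : allRange (fun i => Nat.beq (actR5 i) i) 707500 2500 = true := by decide +kernel
theorem c_act5_284 : allRange (fun i => Nat.beq (actR5 i) i) 710000 2500 = true := by decide +kernel
theorem c_act5_285 : allRange (fun i => Nat.beq (actR5 i) i) 712500 2500 = true := by decide +kernel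
theorem c_act5_286 : allRange (fun i => Nat.beq (actR5 i) i) 715000 2500 = true := by decide +kernel
theorem c_act5_287 : allRange (fun i => Nat.beq (actR5 i) i) 717500 2500 = true := by decide +kernel
theorem c_act5_288 : allRange (fun i => Nat.beq (actR5 i) i) 720000 2500 = true := by decide +kernel
theorem c_act5_289 : allRange (fun i => Nat.beq (actR5 i) i) 722500 2500 = true := by decide +kernel
theorem c_act5_290 : allRange (fun i => Nat.beq (actR5 i) i) 725000 2500 = true := by decide +kernel
theorem c_act5_291 : allRange (fun i => Nat.beq (actR5 i) i) 727500 2500 = true := by decide +kernel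
theorem c_act5_292 : allRange (fun i => Nat.beq (actR5 i) i) 730000 2500 = true := by decide +kernel
theorem c_act5_293 : allRange (fun i => Nat.beq (actR5 i) i) 732500 2500 = true := by decide +kernel
theorem c_act5_294 : allRange (fun i => Nat.beq (actR5 i) i) 735000 2500 = true := by decide +kernel
theorem c_act5_295 : allRange (fun i => Nat.beq (actR5 i) i) 737500 2500 = true := by decide +kernel
theorem c_act5_296 : allRange (fun i => Nat.beq (actR5 i) i) 740000 2500 = true := by decide +kernel
theorem c_act5_297 : allRange (fun i => Nat.beq (actR5 i) i) 742500 2500 = true := by decide +kernel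
theorem c_act5_298 : allRange (fun i => Nat.beq (actR5 i) i) 745000 2500 = true := by decide +kernel
theorem c_act5_299 : allRange (fun i => Nat.beq (actR5 i) i) 747500 2500 = true := by decide +kernel
theorem c_act5_300 : allRange (fun i => Nat.beq (actR5 i) i) 750000 2500 = true := by decide +kernel
theorem c_act5_301 : allRange (fun i => Nat.beq (actR5 i) i) 752500 2500 = true := by decide +kernel
theorem c_act5_302 : allRange (fun i => Nat.beq (actR5 i) i) 755000 2500 = true := by decide +kernel
theorem c_act5_303 : allRange (fun i => Nat.beq (actR5 i) i) 757500 2500 = true := by decide +kernel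
theorem c_act5_304 : allRange (fun i => Nat.beq (actR5 i) i) 760000 2500 = true := by decide +kernel
theorem c_act5_305 : allRange (fun i => Nat.beq (actR5 i) i) 762500 2500 = true := by decide +kernel
theorem c_act5_306 : allRange (fun i => Nat.beq (actR5 i) i) 765000 2500 = true := by decide +kernel
theorem c_act5_307 : allRange (fun i => Nat.beq (actR5 i) i) 767500 2500 = true := by decide +kernel
theorem c_act5_308 : allRange (fun i => Nat.beq (actR5 i) i) 770000 2500 = true := by decide +kernel
theorem c_act5_309 : allRange (fun i => Nat.beq (actR5 i) i) 772500 2500 = true := by decide +kernel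
theorem c_act5_310 : allRange (fun i => Nat.beq (actR5 i) i) 775000 2500 = true := by decide +kernel
theorem c_act5_311 : allRange (fun i => Nat.beq (actR5 i) i) 777500 2500 = true := by decide +kernel
theorem c_act5_312 : allRange (fun i => Nat.beq (actR5 i) i) 780000 2500 = true := by decide +kernel
theorem c_act5_313 : allRange (fun i => Nat.beq (actR5 i) i) 782500 2500 = true := by decide +kernel

end Cfsg.Agent.Lib.Helper4.TCD.HNm
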