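import Cfsg.Agent.Lib.Helper4.TCD_HNm_Acc

namespace Cfsg.Agent.Lib.Helper4.TCD.HNm

open Cfsg.Agent.Lib.Helper4.TC

set_option maxRecDepth 100000
set_option Elab.async false

theorem c_act5_314 : allRange (fun i => Nat.beq (actR5 i) i) 785000 2500 = true := by decide +kernel
theorem c_act5_315 : allRange (fun i => Nat.beq (actR5 i) i) 787500 2500 = true := by decide +kernel
theorem c_act5_316 : allRange (fun i => Nat.beq (actR5 i) i) 790000 2500 = true := by decide +kernel
theorem c_act5_317 : allRange (fun i => Nat.beq (actR5 i) i) 792500 2500 = true := by decide +kernel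
theorem c_act5_318 : allRange (fun i => Nat.beq (actR5 i) i) 795000 2500 = true := by decide +kernel
theorem c_act5_319 : allRange (fun i => Nat.beq (actR5 i) i) 797500 2500 = true := by decide +kernel
theorem c_act5_320 : allRange (fun i => Nat.beq (actR5 i) i) 800000 2500 = true := by decide +kernel
theorem c_act5_321 : allRange (fun i => Nat.beq (actR5 i) i) 802500 2500 = true := by decide +kernel
theorem c_act5_322 : allRange (fun i => Nat.beq (actR5 i) i) 805000 2500 = true := by decide +kernel
theorem c_act5_323 : allRange (fun i => Nat.beq (actR5 i) i) 807500 2500 = true := by decide +kernel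
theorem c_act5_324 : allRange (fun i => Nat.beq (actR5 i) i) 810000 2500 = true := by decide +kernel
theorem c_act5_325 : allRange (fun i => Nat.beq (actR5 i) i) 812500 2500 = true := by decide +kernel
theorem c_act5_326 : allRange (fun i => Nat.beq (actR5 i) i) 815000 2500 = true := by decide +kernel
theorem c_act5_327 : allRange (fun i => Nat.beq (actR5 i) i) 817500 2500 = true := by decide +kernel
theorem c_act5_328 : allRange (fun i => Nat.beq (actR5 i) i) 820000 2500 = true := by decide +kernel
theorem c_act5_329 : allRange (fun i => Nat.beq (actR5 i) i) 822500 2500 = true := by decide +kernel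
theorem c_act5_330 : allRange (fun i => Nat.beq (actR5 i) i) 825000 2500 = true := by decide +kernel
theorem c_act5_331 : allRange (fun i => Nat.beq (actR5 i) i) 827500 2500 = true := by decide +kernel
theorem c_act5_332 : allRange (fun i => Nat.beq (actR5 i) i) 830000 2500 = true := by decide +kernel
theorem c_act5_333 : allRange (fun i => Nat.beq (actR5 i) i) 832500 2500 = true := by decide +kernel
theorem c_act5_334 : allRange (fun i => Nat.beq (actR5 i) i) 835000 2500 = true := by decide +kernel
theorem c_act5_335 : allRange (fun i => Nat.beq (actR5 i) i) 837500 2500 = true := by decide +kernel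
theorem c_act5_336 : allRange (fun i => Nat.beq (actR5 i) i) 840000 2500 = true := by decide +kernel
theorem c_act5_337 : allRange (fun i => Nat.beq (actR5 i) i) 842500 2500 = true := by decide +kernel
theorem c_act5_338 : allRange (fun i => Nat.beq (actR5 i) i) 845000 2500 = true := by decide +kernel
theorem c_act5_339 : allRange (fun i => Nat.beq (actR5 i) i) 847500 2500 = true := by decide +kernel
theorem c_act5_340 : allRange (fun i => Nat.beq (actR5 i) i) 850000 2500 = true := by decide +kernel
theorem c_act5_341 : allRange (fun i => Nat.beq (actR5 i) i) 852500 2500 = true := by decide +kernel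
theorem c_act5_342 : allRange (fun i => Nat.beq (actR5 i) i) 855000 2500 = true := by decide +kernel
theorem c_act5_343 : allRange (fun i => Nat.beq (actR5 i) i) 857500 2500 = true := by decide +kernel
theorem c_act5_344 : allRange (fun i => Nat.beq (actR5 i) i) 860000 2500 = true := by decide +kernel
theorem c_act5_345 : allRange (fun i => Nat.beq (actR5 i) i) 862500 2500 = true := by decide +kernel
theorem c_act5_346 : allRange (fun i => Nat.beq (actR5 i) i) 865000 2500 = true := by decide +kernel
theorem c_act5_347 : allRange (fun i => Nat.beq (actR5 i) i) 867500 2500 = true := by decide +kernel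
theorem c_act5_348 : allRange (fun i => Nat.beq (actR5 i) i) 870000 2500 = true := by decide +kernel
theorem c_act5_349 : allRange (fun i => Nat.beq (actR5 i) i) 872500 2500 = true := by decide +kernel
theorem c_act5_350 : allRange (fun i => Nat.beq (actR5 i) i) 875000 2500 = true := by decide +kernel
theorem c_act5_351 : allRange (fun i => Nat.beq (actR5 i) i) 877500 2500 = true := by decide +kernel
theorem c_act5_352 : allRange (fun i => Nat.beq (actR5 i) i) 880000 2500 = true := by decide +kernel
theorem c_act5_353 : allRange (fun i => Nat.beq (actR5 i) i) 882500 2500 = true := by decide +kernel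
theorem c_act5_354 : allRange (fun i => Nat.beq (actR5 i) i) 885000 2500 = true := by decide +kernel
theorem c_act5_355 : allRange (fun i => Nat.beq (actR5 i) i) 887500 2500 = true := by decide +kernel
theorem c_act5_356 : allRange (fun i => Nat.beq (actR5 i) i) 890000 2500 = true := by decide +kernel
theorem c_act5_357 : allRange (fun i => Nat.beq (actR5 i) i) 892500 2500 = true := by decide +kernel
theorem c_act5_358 : allRange (fun i => Nat.beq (actR5 i) i) 895000 2500 = true := by decide +kernel
theorem c_act5_359 : allRange (fun i => Nat.beq (actR5 i) i) 897500 2500 = true := by decide +kernel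
theorem c_act5_360 : allRange (fun i => Nat.beq (actR5 i) i) 900000 2500 = true := by decide +kernel
theorem c_act5_361 : allRange (fun i => Nat.beq (actR5 i) i) 902500 2500 = true := by decide +kernel
theorem c_act5_362 : allRange (fun i => Nat.beq (actR5 i) i) 905000 2500 = true := by decide +kernel
theorem c_act5_363 : allRange (fun i => Nat.beq (actR5 i) i) 907500 2500 = true := by decide +kernel

end Cfsg.Agent.Lib.Helper4.TCD.HNm
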