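import Cfsg.Agent.Lib.Helper4.TCD_HNm_Acc

namespace Cfsg.Agent.Lib.Helper4.TCD.HNm

open Cfsg.Agent.Lib.Helper4.TC

set_option maxRecDepth 100000
set_option Elab.async false

theorem c_act5_364 : allRange (fun i => Nat.beq (actR5 i) i) 910000 2500 = true := by decide +kernel
theorem c_act5_365 : allRange (fun i => Nat.beq (actR5 i) i) 912500 2500 = true := by decide +kernel
theorem c_act5_366 : allRange (fun i => Nat.beq (actR5 i) i) 915000 2500 = true := by decide +kernel
theorem c_act5_367 : allRange (fun i => Nat.beq (actR5 i) i) 917500 2500 = true := by decide +kernel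
theorem c_act5_368 : allRange (fun i => Nat.beq (actR5 i) i) 920000 2500 = true := by decide +kernel
theorem c_act5_369 : allRange (fun i => Nat.beq (actR5 i) i) 922500 2500 = true := by decide +kernel
theorem c_act5_370 : allRange (fun i => Nat.beq (actR5 i) i) 925000 2500 = true := by decide +kernel
theorem c_act5_371 : allRange (fun i => Nat.beq (actR5 i) i) 927500 2500 = true := by decide +kernel
theorem c_act5_372 : allRange (fun i => Nat.beq (actR5 i) i) 930000 2500 = true := by decide +kernel
theorem c_act5_373 : allRange (fun i => Nat.beq (actR5 i) i) 932500 2500 = true := by decide +kernel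
theorem c_act5_374 : allRange (fun i => Nat.beq (actR5 i) i) 935000 2500 = true := by decide +kernel
theorem c_act5_375 : allRange (fun i => Nat.beq (actR5 i) i) 937500 2500 = true := by decide +kernel
theorem c_act5_376 : allRange (fun i => Nat.beq (actR5 i) i) 940000 2500 = true := by decide +kernel
theorem c_act5_377 : allRange (fun i => Nat.beq (actR5 i) i) 942500 2500 = true := by decide +kernel
theorem c_act5_378 : allRange (fun i => Nat.beq (actR5 i) i) 945000 2500 = true := by decide +kernel
theorem c_act5_379 : allRange (fun i => Nat.beq (actR5 i) i) 947500 2500 = true := by decide +kernel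
theorem c_act5_380 : allRange (fun i => Nat.beq (actR5 i) i) 950000 2500 = true := by decide +kernel
theorem c_act5_381 : allRange (fun i => Nat.beq (actR5 i) i) 952500 2500 = true := by decide +kernel
theorem c_act5_382 : allRange (fun i => Nat.beq (actR5 i) i) 955000 2500 = true := by decide +kernel
theorem c_act5_383 : allRange (fun i => Nat.beq (actR5 i) i) 957500 2500 = true := by decide +kernel
theorem c_act5_384 : allRange (fun i => Nat.beq (actR5 i) i) 960000 2500 = true := by decide +kernel
theorem c_act5_385 : allRange (fun i => Nat.beq (actR5 i) i) 962500 2500 = true := by decide +kernel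
theorem c_act5_386 : allRange (fun i => Nat.beq (actR5 i) i) 965000 2500 = true := by decide +kernel
theorem c_act5_387 : allRange (fun i => Nat.beq (actR5 i) i) 967500 2500 = true := by decide +kernel
theorem c_act5_388 : allRange (fun i => Nat.beq (actR5 i) i) 970000 2500 = true := by decide +kernel
theorem c_act5_389 : allRange (fun i => Nat.beq (actR5 i) i) 972500 2500 = true := by decide +kernel
theorem c_act5_390 : allRange (fun i => Nat.beq (actR5 i) i) 975000 2500 = true := by decide +kernel
theorem c_act5_391 : allRange (fun i => Nat.beq (actR5 i) i) 977500 2500 = true := by decide +kernel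
theorem c_act5_392 : allRange (fun i => Nat.beq (actR5 i) i) 980000 2500 = true := by decide +kernel
theorem c_act5_393 : allRange (fun i => Nat.beq (actR5 i) i) 982500 2500 = true := by decide +kernel
theorem c_act5_394 : allRange (fun i => Nat.beq (actR5 i) i) 985000 2500 = true := by decide +kernel
theorem c_act5_395 : allRange (fun i => Nat.beq (actR5 i) i) 987500 2500 = true := by decide +kernel
theorem c_act5_396 : allRange (fun i => Nat.beq (actR5 i) i) 990000 2500 = true := by decide +kernel
theorem c_act5_397 : allRange (fun i => Nat.beq (actR5 i) i) 992500 2500 = true := by decide +kernel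
theorem c_act5_398 : allRange (fun i => Nat.beq (actR5 i) i) 995000 2500 = true := by decide +kernel
theorem c_act5_399 : allRange (fun i => Nat.beq (actR5 i) i) 997500 2500 = true := by decide +kernel
theorem c_act5_400 : allRange (fun i => Nat.beq (actR5 i) i) 1000000 2500 = true := by decide +kernel
theorem c_act5_401 : allRange (fun i => Nat.beq (actR5 i) i) 1002500 2500 = true := by decide +kernel
theorem c_act5_402 : allRange (fun i => Nat.beq (actR5 i) i) 1005000 2500 = true := by decide +kernel
theorem c_act5_403 : allRange (fun i => Nat.beq (actR5 i) i) 1007500 2500 = true := by decide +kernel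
theorem c_act5_404 : allRange (fun i => Nat.beq (actR5 i) i) 1010000 2500 = true := by decide +kernel
theorem c_act5_405 : allRange (fun i => Nat.beq (actR5 i) i) 1012500 2500 = true := by decide +kernel
theorem c_act5_406 : allRange (fun i => Nat.beq (actR5 i) i) 1015000 2500 = true := by decide +kernel
theorem c_act5_407 : allRange (fun i => Nat.beq (actR5 i) i) 1017500 2500 = true := by decide +kernel
theorem c_act5_408 : allRange (fun i => Nat.beq (actR5 i) i) 1020000 2500 = true := by decide +kernel
theorem c_act5_409 : allRange (fun i => Nat.beq (actR5 i) i) 1022500 2500 = true := by decide +kernel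
theorem c_act5_410 : allRange (fun i => Nat.beq (actR5 i) i) 1025000 2500 = true := by decide +kernel
theorem c_act5_411 : allRange (fun i => Nat.beq (actR5 i) i) 1027500 2500 = true := by decide +kernel
theorem c_act5_412 : allRange (fun i => Nat.beq (actR5 i) i) 1030000 2500 = true := by decide +kernel
theorem c_act5_413 : allRange (fun i => Nat.beq (actR5 i) i) 1032500 2500 = true := by decide +kernel

end Cfsg.Agent.Lib.Helper4.TCD.HNm
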