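import Cfsg.Agent.Lib.Helper4.TCD_HNm_Acc

namespace Cfsg.Agent.Lib.Helper4.TCD.HNm

open Cfsg.Agent.Lib.Helper4.TC

set_option maxRecDepth 100000
set_option Elab.async false

theorem c_act5_414 : allRange (fun i => Nat.beq (actR5 i) i) 1035000 2500 = true := by decide +kernel
theorem c_act5_415 : allRange (fun i => Nat.beq (actR5 i) i) 1037500 2500 = true := by decide +kernel
theorem c_act5_416 : allRange (fun i => Nat.beq (actR5 i) i) 1040000 2500 = true := by decide +kernel
theorem c_act5_417 : allRange (fun i => Nat.beq (actR5 i) i) 1042500 2500 = true := by decide +kernel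
theorem c_act5_418 : allRange (fun i => Nat.beq (actR5 i) i) 1045000 2500 = true := by decide +kernel
theorem c_act5_419 : allRange (fun i => Nat.beq (actR5 i) i) 1047500 2500 = true := by decide +kernel
theorem c_act5_420 : allRange (fun i => Nat.beq (actR5 i) i) 1050000 2500 = true := by decide +kernel
theorem c_act5_421 : allRange (fun i => Nat.beq (actR5 i) i) 1052500 2500 = true := by decide +kernel
theorem c_act5_422 : allRange (fun i => Nat.beq (actR5 i) i) 1055000 2500 = true := by decide +kernel
theorem c_act5_423 : allRange (fun i => Nat.beq (actR5 i) i) 1057500 2500 = true := by decide +kernel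
theorem c_act5_424 : allRange (fun i => Nat.beq (actR5 i) i) 1060000 2500 = true := by decide +kernel
theorem c_act5_425 : allRange (fun i => Nat.beq (actR5 i) i) 1062500 2500 = true := by decide +kernel
theorem c_act5_426 : allRange (fun i => Nat.beq (actR5 i) i) 1065000 2500 = true := by decide +kernel
theorem c_act5_427 : allRange (fun i => Nat.beq (actR5 i) i) 1067500 2500 = true := by decide +kernel
theorem c_act5_428 : allRange (fun i => Nat.beq (actR5 i) i) 1070000 2500 = true := by decide +kernel
theorem c_act5_429 : allRange (fun i => Nat.beq (actR5 i) i) 1072500 2500 = true := by decide +kernel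
theorem c_act5_430 : allRange (fun i => Nat.beq (actR5 i) i) 1075000 2500 = true := by decide +kernel
theorem c_act5_431 : allRange (fun i => Nat.beq (actR5 i) i) 1077500 2500 = true := by decide +kernel
theorem c_act5_432 : allRange (fun i => Nat.beq (actR5 i) i) 1080000 2500 = true := by decide +kernel
theorem c_act5_433 : allRange (fun i => Nat.beq (actR5 i) i) 1082500 2500 = true := by decide +kernel
theorem c_act5_434 : allRange (fun i => Nat.beq (actR5 i) i) 1085000 2500 = true := by decide +kernel
theorem c_act5_435 : allRange (fun i => Nat.beq (actR5 i) i) 1087500 2500 = true := by decide +kernel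
theorem c_act5_436 : allRange (fun i => Nat.beq (actR5 i) i) 1090000 2500 = true := by decide +kernel
theorem c_act5_437 : allRange (fun i => Nat.beq (actR5 i) i) 1092500 2500 = true := by decide +kernel
theorem c_act5_438 : allRange (fun i => Nat.beq (actR5 i) i) 1095000 2500 = true := by decide +kernel
theorem c_act5_439 : allRange (fun i => Nat.beq (actR5 i) i) 1097500 2500 = true := by decide +kernel
theorem c_act5_440 : allRange (fun i => Nat.beq (actR5 i) i) 1100000 2500 = true := by decide +kernel
theorem c_act5_441 : allRange (fun i => Nat.beq (actR5 i) i) 1102500 2500 = true := by decide +kernel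
theorem c_act5_442 : allRange (fun i => Nat.beq (actR5 i) i) 1105000 2500 = true := by decide +kernel
theorem c_act5_443 : allRange (fun i => Nat.beq (actR5 i) i) 1107500 2500 = true := by decide +kernel
theorem c_act5_444 : allRange (fun i => Nat.beq (actR5 i) i) 1110000 2500 = true := by decide +kernel
theorem c_act5_445 : allRange (fun i => Nat.beq (actR5 i) i) 1112500 2500 = true := by decide +kernel
theorem c_act5_446 : allRange (fun i => Nat.beq (actR5 i) i) 1115000 2500 = true := by decide +kernel
theorem c_act5_447 : allRange (fun i => Nat.beq (actR5 i) i) 1117500 2500 = true := by decide +kernel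
theorem c_act5_448 : allRange (fun i => Nat.beq (actR5 i) i) 1120000 2500 = true := by decide +kernel
theorem c_act5_449 : allRange (fun i => Nat.beq (actR5 i) i) 1122500 2500 = true := by decide +kernel
theorem c_act5_450 : allRange (fun i => Nat.beq (actR5 i) i) 1125000 2500 = true := by decide +kernel
theorem c_act5_451 : allRange (fun i => Nat.beq (actR5 i) i) 1127500 2500 = true := by decide +kernel
theorem c_act5_452 : allRange (fun i => Nat.beq (actR5 i) i) 1130000 2500 = true := by decide +kernel
theorem c_act5_453 : allRange (fun i => Nat.beq (actR5 i) i) 1132500 2500 = true := by decide +kernel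
theorem c_act5_454 : allRange (fun i => Nat.beq (actR5 i) i) 1135000 2500 = true := by decide +kernel
theorem c_act5_455 : allRange (fun i => Nat.beq (actR5 i) i) 1137500 2500 = true := by decide +kernel
theorem c_act5_456 : allRange (fun i => Nat.beq (actR5 i) i) 1140000 2500 = true := by decide +kernel
theorem c_act5_457 : allRange (fun i => Nat.beq (actR5 i) i) 1142500 2500 = true := by decide +kernel
theorem c_act5_458 : allRange (fun i => Nat.beq (actR5 i) i) 1145000 2500 = true := by decide +kernel
theorem c_act5_459 : allRange (fun i => Nat.beq (actR5 i) i) 1147500 2500 = true := by decide +kernel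
theorem c_act5_460 : allRange (fun i => Nat.beq (actR5 i) i) 1150000 2500 = true := by decide +kernel
theorem c_act5_461 : allRange (fun i => Nat.beq (actR5 i) i) 1152500 2500 = true := by decide +kernel
theorem c_act5_462 : allRange (fun i => Nat.beq (actR5 i) i) 1155000 2500 = true := by decide +kernel
theorem c_act5_463 : allRange (fun i => Nat.beq (actR5 i) i) 1157500 2500 = true := by decide +kernel

end Cfsg.Agent.Lib.Helper4.TCD.HNm
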