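import Cfsg.Agent.Lib.Helper4.TCD_HNm_Acc

namespace Cfsg.Agent.Lib.Helper4.TCD.HNm

open Cfsg.Agent.Lib.Helper4.TC

set_option maxRecDepth 100000
set_option Elab.async false

theorem c_act5_464 : allRange (fun i => Nat.beq (actR5 i) i) 1160000 2500 = true := by decide +kernel
theorem c_act5_465 : allRange (fun i => Nat.beq (actR5 i) i) 1162500 2500 = true := by decide +kernel
theorem c_act5_466 : allRange (fun i => Nat.beq (actR5 i) i) 1165000 2500 = true := by decide +kernel
theorem c_act5_467 : allRange (fun i => Nat.beq (actR5 i) i) 1167500 2500 = true := by decide +kernel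
theorem c_act5_468 : allRange (fun i => Nat.beq (actR5 i) i) 1170000 2500 = true := by decide +kernel
theorem c_act5_469 : allRange (fun i => Nat.beq (actR5 i) i) 1172500 2500 = true := by decide +kernel
theorem c_act5_470 : allRange (fun i => Nat.beq (actR5 i) i) 1175000 2500 = true := by decide +kernel
theorem c_act5_471 : allRange (fun i => Nat.beq (actR5 i) i) 1177500 2500 = true := by decide +kernel
theorem c_act5_472 : allRange (fun i => Nat.beq (actR5 i) i) 1180000 2500 = true := by decide +kernel
theorem c_act5_473 : allRange (fun i => Nat.beq (actR5 i) i) 1182500 2500 = true := by decide +kernel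
theorem c_act5_474 : allRange (fun i => Nat.beq (actR5 i) i) 1185000 2500 = true := by decide +kernel
theorem c_act5_475 : allRange (fun i => Nat.beq (actR5 i) i) 1187500 2500 = true := by decide +kernel
theorem c_act5_476 : allRange (fun i => Nat.beq (actR5 i) i) 1190000 2500 = true := by decide +kernel
theorem c_act5_477 : allRange (fun i => Nat.beq (actR5 i) i) 1192500 2500 = true := by decide +kernel
theorem c_act5_478 : allRange (fun i => Nat.beq (actR5 i) i) 1195000 2500 = true := by decide +kernel
theorem c_act5_479 : allRange (fun i => Nat.beq (actR5 i) i) 1197500 2500 = true := by decide +kernel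
theorem c_act5_480 : allRange (fun i => Nat.beq (actR5 i) i) 1200000 2500 = true := by decide +kernel
theorem c_act5_481 : allRange (fun i => Nat.beq (actR5 i) i) 1202500 2500 = true := by decide +kernel
theorem c_act5_482 : allRange (fun i => Nat.beq (actR5 i) i) 1205000 2500 = true := by decide +kernel
theorem c_act5_483 : allRange (fun i => Nat.beq (actR5 i) i) 1207500 2500 = true := by decide +kernel
theorem c_act5_484 : allRange (fun i => Nat.beq (actR5 i) i) 1210000 2500 = true := by decide +kernel
theorem c_act5_485 : allRange (fun i => Nat.beq (actR5 i) i) 1212500 2500 = true := by decide +kernel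
theorem c_act5_486 : allRange (fun i => Nat.beq (actR5 i) i) 1215000 2500 = true := by decide +kernel
theorem c_act5_487 : allRange (fun i => Nat.beq (actR5 i) i) 1217500 2500 = true := by decide +kernel
theorem c_act5_488 : allRange (fun i => Nat.beq (actR5 i) i) 1220000 2500 = true := by decide +kernel
theorem c_act5_489 : allRange (fun i => Nat.beq (actR5 i) i) 1222500 2500 = true := by decide +kernel
theorem c_act5_490 : allRange (fun i => Nat.beq (actR5 i) i) 1225000 2500 = true := by decide +kernel
theorem c_act5_491 : allRange (fun i => Nat.beq (actR5 i) i) 1227500 2500 = true := by decide +kernel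
theorem c_act5_492 : allRange (fun i => Nat.beq (actR5 i) i) 1230000 2500 = true := by decide +kernel
theorem c_act5_493 : allRange (fun i => Nat.beq (actR5 i) i) 1232500 2500 = true := by decide +kernel
theorem c_act5_494 : allRange (fun i => Nat.beq (actR5 i) i) 1235000 2500 = true := by decide +kernel
theorem c_act5_495 : allRange (fun i => Nat.beq (actR5 i) i) 1237500 2500 = true := by decide +kernel
theorem c_act5_496 : allRange (fun i => Nat.beq (actR5 i) i) 1240000 2500 = true := by decide +kernel
theorem c_act5_497 : allRange (fun i => Nat.beq (actR5 i) i) 1242500 2500 = true := by decide +kernel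
theorem c_act5_498 : allRange (fun i => Nat.beq (actR5 i) i) 1245000 2500 = true := by decide +kernel
theorem c_act5_499 : allRange (fun i => Nat.beq (actR5 i) i) 1247500 2500 = true := by decide +kernel
theorem c_act5_500 : allRange (fun i => Nat.beq (actR5 i) i) 1250000 2500 = true := by decide +kernel
theorem c_act5_501 : allRange (fun i => Nat.beq (actR5 i) i) 1252500 2500 = true := by decide +kernel
theorem c_act5_502 : allRange (fun i => Nat.beq (actR5 i) i) 1255000 2500 = true := by decide +kernel
theorem c_act5_503 : allRange (fun i => Nat.beq (actR5 i) i) 1257500 2500 = true := by decide +kernel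
theorem c_act5_504 : allRange (fun i => Nat.beq (actR5 i) i) 1260000 2500 = true := by decide +kernel
theorem c_act5_505 : allRange (fun i => Nat.beq (actR5 i) i) 1262500 2500 = true := by decide +kernel
theorem c_act5_506 : allRange (fun i => Nat.beq (actR5 i) i) 1265000 2500 = true := by decide +kernel
theorem c_act5_507 : allRange (fun i => Nat.beq (actR5 i) i) 1267500 2500 = true := by decide +kernel
theorem c_act5_508 : allRange (fun i => Nat.beq (actR5 i) i) 1270000 2500 = true := by decide +kernel
theorem c_act5_509 : allRange (fun i => Nat.beq (actR5 i) i) 1272500 2500 = true := by decide +kernel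
theorem c_act5_510 : allRange (fun i => Nat.beq (actR5 i) i) 1275000 2500 = true := by decide +kernel
theorem c_act5_511 : allRange (fun i => Nat.beq (actR5 i) i) 1277500 2500 = true := by decide +kernel
theorem c_act5_512 : allRange (fun i => Nat.beq (actR5 i) i) 1280000 2500 = true := by decide +kernel
theorem c_act5_513 : allRange (fun i => Nat.beq (actR5 i) i) 1282500 2500 = true := by decide +kernel

end Cfsg.Agent.Lib.Helper4.TCD.HNm
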