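import Cfsg.Agent.Lib.Helper4.TCD_HNm_Acc

namespace Cfsg.Agent.Lib.Helper4.TCD.HNm

open Cfsg.Agent.Lib.Helper4.TC

set_option maxRecDepth 100000
set_option Elab.async false

theorem c_act5_514 : allRange (fun i => Nat.beq (actR5 i) i) 1285000 2500 = true := by decide +kernel
theorem c_act5_515 : allRange (fun i => Nat.beq (actR5 i) i) 1287500 2500 = true := by decide +kernel
theorem c_act5_516 : allRange (fun i => Nat.beq (actR5 i) i) 1290000 2500 = true := by decide +kernel
theorem c_act5_517 : allRange (fun i => Nat.beq (actR5 i) i) 1292500 2500 = true := by decide +kernel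
theorem c_act5_518 : allRange (fun i => Nat.beq (actR5 i) i) 1295000 2500 = true := by decide +kernel
theorem c_act5_519 : allRange (fun i => Nat.beq (actR5 i) i) 1297500 2500 = true := by decide +kernel
theorem c_act5_520 : allRange (fun i => Nat.beq (actR5 i) i) 1300000 2500 = true := by decide +kernel
theorem c_act5_521 : allRange (fun i => Nat.beq (actR5 i) i) 1302500 2500 = true := by decide +kernel
theorem c_act5_522 : allRange (fun i => Nat.beq (actR5 i) i) 1305000 2500 = true := by decide +kernel
theorem c_act5_523 : allRange (fun i => Nat.beq (actR5 i) i) 1307500 2500 = true := by decide +kernel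
theorem c_act5_524 : allRange (fun i => Nat.beq (actR5 i) i) 1310000 2500 = true := by decide +kernel
theorem c_act5_525 : allRange (fun i => Nat.beq (actR5 i) i) 1312500 2500 = true := by decide +kernel
theorem c_act5_526 : allRange (fun i => Nat.beq (actR5 i) i) 1315000 2500 = true := by decide +kernel
theorem c_act5_527 : allRange (fun i => Nat.beq (actR5 i) i) 1317500 2500 = true := by decide +kernel
theorem c_act5_528 : allRange (fun i => Nat.beq (actR5 i) i) 1320000 2500 = true := by decide +kernel
theorem c_act5_529 : allRange (fun i => Nat.beq (actR5 i) i) 1322500 2500 = true := by decide +kernel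
theorem c_act5_530 : allRange (fun i => Nat.beq (actR5 i) i) 1325000 2500 = true := by decide +kernel
theorem c_act5_531 : allRange (fun i => Nat.beq (actR5 i) i) 1327500 2500 = true := by decide +kernel
theorem c_act5_532 : allRange (fun i => Nat.beq (actR5 i) i) 1330000 2500 = true := by decide +kernel
theorem c_act5_533 : allRange (fun i => Nat.beq (actR5 i) i) 1332500 2500 = true := by decide +kernel
theorem c_act5_534 : allRange (fun i => Nat.beq (actR5 i) i) 1335000 2500 = true := by decide +kernel
theorem c_act5_535 : allRange (fun i => Nat.beq (actR5 i) i) 1337500 2500 = true := by decide +kernel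
theorem c_act5_536 : allRange (fun i => Nat.beq (actR5 i) i) 1340000 2500 = true := by decide +kernel
theorem c_act5_537 : allRange (fun i => Nat.beq (actR5 i) i) 1342500 2500 = true := by decide +kernel
theorem c_act5_538 : allRange (fun i => Nat.beq (actR5 i) i) 1345000 2500 = true := by decide +kernel
theorem c_act5_539 : allRange (fun i => Nat.beq (actR5 i) i) 1347500 2500 = true := by decide +kernel
theorem c_act5_540 : allRange (fun i => Nat.beq (actR5 i) i) 1350000 2500 = true := by decide +kernel
theorem c_act5_541 : allRange (fun i => Nat.beq (actR5 i) i) 1352500 2500 = true := by decide +kernel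
theorem c_act5_542 : allRange (fun i => Nat.beq (actR5 i) i) 1355000 2500 = true := by decide +kernel
theorem c_act5_543 : allRange (fun i => Nat.beq (actR5 i) i) 1357500 2500 = true := by decide +kernel
theorem c_act5_544 : allRange (fun i => Nat.beq (actR5 i) i) 1360000 2500 = true := by decide +kernel
theorem c_act5_545 : allRange (fun i => Nat.beq (actR5 i) i) 1362500 2500 = true := by decide +kernel
theorem c_act5_546 : allRange (fun i => Nat.beq (actR5 i) i) 1365000 2500 = true := by decide +kernel
theorem c_act5_547 : allRange (fun i => Nat.beq (actR5 i) i) 1367500 2500 = true := by decide +kernel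
theorem c_act5_548 : allRange (fun i => Nat.beq (actR5 i) i) 1370000 2500 = true := by decide +kernel
theorem c_act5_549 : allRange (fun i => Nat.beq (actR5 i) i) 1372500 2500 = true := by decide +kernel
theorem c_act5_550 : allRange (fun i => Nat.beq (actR5 i) i) 1375000 2500 = true := by decide +kernel
theorem c_act5_551 : allRange (fun i => Nat.beq (actR5 i) i) 1377500 2500 = true := by decide +kernel
theorem c_act5_552 : allRange (fun i => Nat.beq (actR5 i) i) 1380000 2500 = true := by decide +kernel
theorem c_act5_553 : allRange (fun i => Nat.beq (actR5 i) i) 1382500 2500 = true := by decide +kernel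
theorem c_act5_554 : allRange (fun i => Nat.beq (actR5 i) i) 1385000 2500 = true := by decide +kernel
theorem c_act5_555 : allRange (fun i => Nat.beq (actR5 i) i) 1387500 2500 = true := by decide +kernel
theorem c_act5_556 : allRange (fun i => Nat.beq (actR5 i) i) 1390000 2500 = true := by decide +kernel
theorem c_act5_557 : allRange (fun i => Nat.beq (actR5 i) i) 1392500 2500 = true := by decide +kernel
theorem c_act5_558 : allRange (fun i => Nat.beq (actR5 i) i) 1395000 2500 = true := by decide +kernel
theorem c_act5_559 : allRange (fun i => Nat.beq (actR5 i) i) 1397500 2500 = true := by decide +kernel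
theorem c_act5_560 : allRange (fun i => Nat.beq (actR5 i) i) 1400000 2500 = true := by decide +kernel
theorem c_act5_561 : allRange (fun i => Nat.beq (actR5 i) i) 1402500 2500 = true := by decide +kernel
theorem c_act5_562 : allRange (fun i => Nat.beq (actR5 i) i) 1405000 2500 = true := by decide +kernel
theorem c_act5_563 : allRange (fun i => Nat.beq (actR5 i) i) 1407500 2500 = true := by decide +kernel

end Cfsg.Agent.Lib.Helper4.TCD.HNm
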