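import Cfsg.Agent.Lib.Helper4.TCD_HNm_C0
import Cfsg.Agent.Lib.Helper4.TCD_HNm_C1
import Cfsg.Agent.Lib.Helper4.TCD_HNm_C2
import Cfsg.Agent.Lib.Helper4.TCD_HNm_C3
import Cfsg.Agent.Lib.Helper4.TCD_HNm_C4
import Cfsg.Agent.Lib.Helper4.TCD_HNm_C5
import Cfsg.Agent.Lib.Helper4.TCD_HNm_C6
import Cfsg.Agent.Lib.Helper4.TCD_HNm_C7
import Cfsg.Agent.Lib.Helper4.TCD_HNm_C8
import Cfsg.Agent.Lib.Helper4.TCD_HNm_C9
import Cfsg.Agent.Lib.Helper4.TCD_HNm_C10
import Cfsg.Agent.Lib.Helper4.TCD_HNm_C11
import Cfsg.Agent.Lib.Helper4.TCD_HNm_C12
import Cfsg.Agent.Lib.Helper4.TCD_HNm_C13
import Cfsg.Agent.Lib.Helper4.TCD_HNm_C14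
import Cfsg.Agent.Lib.Helper4.TCD_HNm_C15
import Cfsg.Agent.Lib.Helper4.TCD_HNm_C16
import Cfsg.Agent.Lib.Helper4.TCD_HNm_C17
import Cfsg.Agent.Lib.Helper4.TCD_HNm_C18
import Cfsg.Agent.Lib.Helper4.TCD_HNm_C19
import Cfsg.Agent.Lib.Helper4.TCD_HNm_C20
import Cfsg.Agent.Lib.Helper4.TCD_HNm_C21
import Cfsg.Agent.Lib.Helper4.TCD_HNm_C22
import Cfsg.Agent.Lib.Helper4.TCD_HNm_C23
import Cfsg.Agent.Lib.Helper4.TCD_HNm_C24
import Cfsg.Agent.Lib.Helper4.TCD_HNm_C25
import Cfsg.Agent.Lib.Helper4.TCD_HNm_C26
import Cfsg.Agent.Lib.Helper4.TCD_HNm_C27
import Cfsg.Agent.Lib.Helper4.TCD_HNm_C28
import Cfsg.Agent.Lib.Helper4.TCD_HNm_C29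
import Cfsg.Agent.Lib.Helper4.TCD_HNm_C30
import Cfsg.Agent.Lib.Helper4.TCD_HNm_C31
import Cfsg.Agent.Lib.Helper4.TCD_HNm_C32
import Cfsg.Agent.Lib.Helper4.TCD_HNm_C33
import Cfsg.Agent.Lib.Helper4.TCD_HNm_C34
import Cfsg.Agent.Lib.Helper4.TCD_HNm_C35
import Cfsg.Agent.Lib.Helper4.TCD_HNm_C36
import Cfsg.Agent.Lib.Helper4.TCD_HNm_C37
import Cfsg.Agent.Lib.Helper4.TCD_HNm_C38
import Cfsg.Agent.Lib.Helper4.TCD_HNm_C39
import Cfsg.Agent.Lib.Helper4.TCD_HNm_C40
import Cfsg.Agent.Lib.Helper4.TCD_HNm_C41
import Cfsg.Agent.Lib.Helper4.TCD_HNm_C42
import Cfsg.Agent.Lib.Helper4.TCD_HNm_C43
import Cfsg.Agent.Lib.Helper4.TCD_HNm_C44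
import Cfsg.Agent.Lib.Helper4.TCD_HNm_C45
import Cfsg.Agent.Lib.Helper4.TCD_HNm_C46
import Cfsg.Agent.Lib.Helper4.TCD_HNm_C47
import Cfsg.Agent.Lib.Helper4.TCD_HNm_C48
import Cfsg.Agent.Lib.Helper4.TCD_HNm_C49
import Cfsg.Agent.Lib.Helper4.TCD_HNm_C50
import Cfsg.Agent.Lib.Helper4.TCD_HNm_C51
import Cfsg.Agent.Lib.Helper4.TCD_HNm_C52
import Cfsg.Agent.Lib.Helper4.TCD_HNm_C53
import Cfsg.Agent.Lib.Helper4.TCD_HNm_C54
import Cfsg.Agent.Lib.Helper4.TCD_HNm_C55
import Cfsg.Agent.Lib.Helper4.TCD_HNm_C56
import Cfsg.Agent.Lib.Helper4.TCD_HNm_C57
import Cfsg.Agent.Lib.Helper4.TCD_HNm_C58
import Cfsg.Agent.Lib.Helper4.TCD_HNm_C59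
import Cfsg.Agent.Lib.Helper4.TCD_HNm_C60
import Cfsg.Agent.Lib.Helper4.TCD_HNm_C61
import Cfsg.Agent.Lib.Helper4.TCD_HNm_C62
import Cfsg.Agent.Lib.Helper4.TCD_HNm_C63
import Cfsg.Agent.Lib.Helper4.TCD_HNm_C64
import Cfsg.Agent.Lib.Helper4.TCD_HNm_C65
import Cfsg.Agent.Lib.Helper4.TCD_HNm_C66
import Cfsg.Agent.Lib.Helper4.TCD_HNm_C67
import Cfsg.Agent.Lib.Helper4.TCD_HNm_C68
import Cfsg.Agent.Lib.Helper4.TCD_HNm_C69
import Cfsg.Agent.Lib.Helper4.TCD_HNm_C70
import Cfsg.Agent.Lib.Helper4.TCD_HNm_C71
import Cfsg.Agent.Lib.Helper4.TCD_HNm_C72
import Cfsg.Agent.Lib.Helper4.TCD_HNm_C73
import Cfsg.Agent.Lib.Helper4.TCD_HNm_C74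
import Cfsg.Agent.Lib.Helper4.TCD_HNm_C75
import Cfsg.Agent.Lib.Helper4.TCD_HNm_C76
import Cfsg.Agent.Lib.Helper4.TCD_HNm_C77
import Cfsg.Agent.Lib.Helper4.TCD_HNm_C78
import Cfsg.Agent.Lib.Helper4.TCD_HNm_C79
import Cfsg.Agent.Lib.Helper4.TCD_HNm_C80
import Cfsg.Agent.Lib.Helper4.TCD_HNm_C81
import Cfsg.Agent.Lib.Helper4.TCD_HNm_C82
import Cfsg.Agent.Lib.Helper4.TCD_HNm_C83
import Cfsg.Agent.Lib.Helper4.TCD_HNm_C84
import Cfsg.Agent.Lib.Helper4.TCD_HNm_C85
import Cfsg.Agent.Lib.Helper4.TCD_HNm_C86
import Cfsg.Agent.Lib.Helper4.TCD_HNm_C87
import Cfsg.Agent.Lib.Helper4.TCD_HNm_C88
import Cfsg.Agent.Lib.Helper4.TCD_HNm_C89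
import Cfsg.Agent.Lib.Helper4.TCD_HNm_C90
import Cfsg.Agent.Lib.Helper4.TCD_HNm_C91
import Cfsg.Agent.Lib.Helper4.TCD_HNm_C92
import Cfsg.Agent.Lib.Helper4.TCD_HNm_C93
import Cfsg.Agent.Lib.Helper4.TCD_HNm_C94
import Cfsg.Agent.Lib.Helper4.TCD_HNm_C95
import Cfsg.Agent.Lib.Helper4.TCD_HNm_C96
import Cfsg.Agent.Lib.Helper4.TCD_HNm_C97
import Cfsg.Agent.Lib.Helper4.TCD_HNm_C98
import Cfsg.Agent.Lib.Helper4.TCD_HNm_C99
import Cfsg.Agent.Lib.Helper4.TCD_HNm_C100
import Cfsg.Agent.Lib.Helper4.TCD_HNm_C101
import Cfsg.Agent.Lib.Helper4.TCD_HNm_C102
import Cfsg.Agent.Lib.Helper4.TCD_HNm_C103
import Cfsg.Agent.Lib.Helper4.TCD_HNm_C104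
import Cfsg.Agent.Lib.Helper4.TCD_HNm_C105
import Cfsg.Agent.Lib.Helper4.TCD_HNm_C106
import Cfsg.Agent.Lib.Helper4.TCD_HNm_C107
import Cfsg.Agent.Lib.Helper4.TCD_HNm_C108
import Cfsg.Agent.Lib.Helper4.TCD_HNm_C109
import Cfsg.Agent.Lib.Helper4.TCD_HNm_C110
import Cfsg.Agent.Lib.Helper4.TCD_HNm_C111
import Cfsg.Agent.Lib.Helper4.TCD_HNm_C112
import Cfsg.Agent.Lib.Helper4.TCD_HNm_C113
import Cfsg.Agent.Lib.Helper4.TCD_HNm_C114
import Cfsg.Agent.Lib.Helper4.TCD_HNm_C115
import Cfsg.Agent.Lib.Helper4.TCD_HNm_C116
import Cfsg.Agent.Lib.Helper4.TCD_HNm_C117
import Cfsg.Agent.Lib.Helper4.TCD_HNm_C118
import Cfsg.Agent.Lib.Helper4.TCD_HNm_C119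
import Cfsg.Agent.Lib.Helper4.TCD_HNm_C120
import Cfsg.Agent.Lib.Helper4.TCD_HNm_C121
import Cfsg.Agent.Lib.Helper4.TCD_HNm_C122
import Cfsg.Agent.Lib.Helper4.TCD_HNm_C123
import Cfsg.Agent.Lib.Helper4.TCD_HNm_C124
import Cfsg.Agent.Lib.Helper4.TCD_HNm_C125
import Cfsg.Agent.Lib.Helper4.TCD_HNm_C126
import Cfsg.Agent.Lib.Helper4.TCD_HNm_C127
import Cfsg.Agent.Lib.Helper4.TCD_HNm_C128
import Cfsg.Agent.Lib.Helper4.TCD_HNm_C129
import Cfsg.Agent.Lib.Helper4.TCD_HNm_C130
import Cfsg.Agent.Lib.Helper4.TCD_HNm_C131
import Cfsg.Agent.Lib.Helper4.TCD_HNm_C132
import Cfsg.Agent.Lib.Helper4.TCD_HNm_C133
import Cfsg.Agent.Lib.Helper4.TCD_HNm_C134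
import Cfsg.Agent.Lib.Helper4.TCD_HNm_C135
import Cfsg.Agent.Lib.Helper4.TCD_HNm_C136
import Cfsg.Agent.Lib.Helper4.TCD_HNm_C137
import Cfsg.Agent.Lib.Helper4.TCD_HNm_C138
import Cfsg.Agent.Lib.Helper4.TCD_HNm_C139
import Cfsg.Agent.Lib.Helper4.TCD_HNm_C140
import Cfsg.Agent.Lib.Helper4.TCD_HNm_C141
import Cfsg.Agent.Lib.Helper4.TCD_HNm_C142
import Cfsg.Agent.Lib.Helper4.TCD_HNm_C143
import Cfsg.Agent.Lib.Helper4.TCD_HNm_C144
import Cfsg.Agent.Lib.Helper4.TCD_HNm_C145
import Cfsg.Agent.Lib.Helper4.TCD_HNm_C146
import Cfsg.Agent.Lib.Helper4.TCD_HNm_C147
import Cfsg.Agent.Lib.Helper4.TCD_HNm_C148
import Cfsg.Agent.Lib.Helper4.TCD_HNm_C149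
import Cfsg.Agent.Lib.Helper4.TCD_HNm_C150
import Cfsg.Agent.Lib.Helper4.TCD_HNm_C151
import Cfsg.Agent.Lib.Helper4.TCD_HNm_C152
import Cfsg.Agent.Lib.Helper4.TCD_HNm_C153
import Cfsg.Agent.Lib.Helper4.TCD_HNm_C154

namespace Cfsg.Agent.Lib.Helper4.TCD.HNm

open Cfsg.Agent.Lib.Helper4.TC

theorem h_rel_p0 : ∀ t, 1622374 ≤ t → t < 1752804 → D.relOK t = true :=
  (range_glue (range_of_allRange c_rel_0) (range_glue (range_of_allRange c_rel_1) (range_glue (range_of_allRange c_rel_2) (range_glue (range_of_allRange c_rel_3) (range_glue (range_of_allRange c_rel_4) (range_glue (range_of_allRange c_rel_5) (range_glue (range_of_allRange c_rel_6) (range_glue (range_of_allRange c_rel_7) (range_glue (range_of_allRange c_rel_8) (range_glue (range_of_allRange c_rel_9) (range_glue (range_of_allRange c_rel_10) (range_glue (range_of_allRange c_rel_11) (range_glue (range_of_allRange c_rel_12) (range_glue (range_of_allRange c_rel_13) (range_glue (range_of_allRange c_rel_14) (range_glue (range_of_allRange c_rel_15) (range_glue (range_of_allRange c_rel_16) (range_glue (range_of_allRange c_rel_17) (range_glue (range_of_allRange c_rel_18) (range_glue (range_of_allRange c_rel_19) (range_glue (range_of_allRange c_rel_20)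 (range_glue (range_of_allRange c_rel_21) (range_glue (range_of_allRange c_rel_22) (range_glue (range_of_allRange c_rel_23) (range_glue (range_of_allRange c_rel_24) (range_glue (range_of_allRange c_rel_25) (range_glue (range_of_allRange c_rel_26) (range_glue (range_of_allRange c_rel_27) (range_glue (range_of_allRange c_rel_28) (range_glue (range_of_allRange c_rel_29) (range_glue (range_of_allRange c_rel_30) (range_glue (range_of_allRange c_rel_31) (range_glue (range_of_allRange c_rel_32) (range_glue (range_of_allRange c_rel_33) (range_glue (range_of_allRange c_rel_34) (range_glue (range_of_allRange c_rel_35) (range_glue (range_of_allRange c_rel_36) (range_glue (range_of_allRange c_rel_37) (range_glue (range_of_allRange c_rel_38) (range_of_allRange c_rel_39))))))))))))))))))))))))))))))))))))))))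
theorem h_rel_p1 : ∀ t, 1752804 ≤ t → t < 1879379 → D.relOK t = true :=
  (range_glue (range_of_allRange c_rel_40) (range_glue (range_of_allRange c_rel_41) (range_glue (range_of_allRange c_rel_42) (range_glue (range_of_allRange c_rel_43) (range_glue (range_of_allRange c_rel_44) (range_glue (range_of_allRange c_rel_45) (range_glue (range_of_allRange c_rel_46) (range_glue (range_of_allRange c_rel_47) (range_glue (range_of_allRange c_rel_48) (range_glue (range_of_allRange c_rel_49) (range_glue (range_of_allRange c_rel_50) (range_glue (range_of_allRange c_rel_51) (range_glue (range_of_allRange c_rel_52) (range_glue (range_of_allRange c_rel_53) (range_glue (range_of_allRange c_rel_54) (range_glue (range_of_allRange c_rel_55) (range_glue (range_of_allRange c_rel_56) (range_glue (range_of_allRange c_rel_57) (range_glue (range_of_allRange c_rel_58) (range_glue (range_of_allRange c_rel_59) (range_glue (range_of_allRange c_rel_60) (range_glue (range_of_allRange c_rel_61) (range_glue (range_of_allRange c_rel_62) (range_glue (range_of_allRange c_rel_63) (range_glue (range_of_allRange c_rel_64) (range_glue (range_of_allRange c_rel_65) (range_glue (range_of_allRange c_rel_66) (range_glue (range_of_allRange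 c_rel_67) (range_glue (range_of_allRange c_rel_68) (range_glue (range_of_allRange c_rel_69) (range_glue (range_of_allRange c_rel_70) (range_glue (range_of_allRange c_rel_71) (range_glue (range_of_allRange c_rel_72) (range_glue (range_of_allRange c_rel_73) (range_glue (range_of_allRange c_rel_74) (range_glue (range_of_allRange c_rel_75) (range_glue (range_of_allRange c_rel_76) (range_glue (range_of_allRange c_rel_77) (range_glue (range_of_allRange c_rel_78) (range_of_allRange c_rel_79))))))))))))))))))))))))))))))))))))))))
theorem h_rel_p2 : ∀ t, 1879379 ≤ t → t < 1990476 → D.relOK t = true :=
  (range_glue (range_of_allRange c_rel_80) (range_glue (range_of_allRange c_rel_81) (range_glue (range_of_allRange c_rel_82) (range_glue (range_of_allRange c_rel_83) (range_glue (range_of_allRange c_rel_84) (range_glue (range_of_allRange c_rel_85) (range_glue (range_of_allRange c_rel_86) (range_glue (range_of_allRange c_rel_87) (range_glue (range_of_allRange c_rel_88) (range_glue (range_of_allRange c_rel_89) (range_glue (range_of_allRange c_rel_90) (range_glue (range_of_allRange c_rel_91) (range_glue (range_of_allRange c_rel_92) (range_glue (range_of_allRange c_rel_93) (range_glue (range_of_allRange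 c_rel_94) (range_glue (range_of_allRange c_rel_95) (range_glue (range_of_allRange c_rel_96) (range_glue (range_of_allRange c_rel_97) (range_glue (range_of_allRange c_rel_98) (range_glue (range_of_allRange c_rel_99) (range_glue (range_of_allRange c_rel_100) (range_glue (range_of_allRange c_rel_101) (range_glue (range_of_allRange c_rel_102) (range_glue (range_of_allRange c_rel_103) (range_glue (range_of_allRange c_rel_104) (range_glue (range_of_allRange c_rel_105) (range_glue (range_of_allRange c_rel_106) (range_glue (range_of_allRange c_rel_107) (range_glue (range_of_allRange c_rel_108) (range_glue (range_of_allRange c_rel_109) (range_glue (range_of_allRange c_rel_110) (range_glue (range_of_allRange c_rel_111) (range_glue (range_of_allRange c_rel_112) (range_glue (range_of_allRange c_rel_113) (range_glue (range_of_allRange c_rel_114) (range_glue (range_of_allRange c_rel_115) (range_glue (range_of_allRange c_rel_116) (range_glue (range_of_allRange c_rel_117) (range_glue (range_of_allRange c_rel_118) (range_of_allRange c_rel_119))))))))))))))))))))))))))))))))))))))))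
theorem h_rel_p3 : ∀ t, 1990476 ≤ t → t < 2101286 → D.relOK t = true :=
  (range_glue (range_of_allRange c_rel_120) (range_glue (range_of_allRange c_rel_121) (range_glue (range_of_allRange c_rel_122) (range_glue (range_of_allRange c_rel_123) (range_glue (range_of_allRange c_rel_124) (range_glue (range_of_allRange c_rel_125) (range_glue (range_of_allRange c_rel_126) (range_glue (range_of_allRange c_rel_127) (range_glue (range_of_allRange c_rel_128) (range_glue (range_of_allRange c_rel_129) (range_glue (range_of_allRange c_rel_130) (range_glue (range_of_allRange c_rel_131) (range_glue (range_of_allRange c_rel_132) (range_glue (range_of_allRange c_rel_133) (range_glue (range_of_allRange c_rel_134) (range_glue (range_of_allRange c_rel_135) (range_glue (range_of_allRange c_rel_136) (range_glue (range_of_allRange c_rel_137) (range_glue (range_of_allRange c_rel_138) (range_glue (range_of_allRange c_rel_139) (range_glue (range_of_allRange c_rel_140) (range_glue (range_of_allRange c_rel_141) (range_glue (range_of_allRange c_rel_142) (range_glue (range_of_allRange c_rel_143) (range_glue (range_of_allRange c_rel_144) (range_glue (range_of_allRange c_rel_145) (range_glue (range_of_allRange c_rel_146)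 (range_glue (range_of_allRange c_rel_147) (range_glue (range_of_allRange c_rel_148) (range_glue (range_of_allRange c_rel_149) (range_glue (range_of_allRange c_rel_150) (range_glue (range_of_allRange c_rel_151) (range_glue (range_of_allRange c_rel_152) (range_glue (range_of_allRange c_rel_153) (range_glue (range_of_allRange c_rel_154) (range_glue (range_of_allRange c_rel_155) (range_glue (range_of_allRange c_rel_156) (range_glue (range_of_allRange c_rel_157) (range_glue (range_of_allRange c_rel_158) (range_of_allRange c_rel_159))))))))))))))))))))))))))))))))))))))))
theorem h_rel_p4 : ∀ t, 2101286 ≤ t → t < 2201999 → D.relOK t = true :=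
  (range_glue (range_of_allRange c_rel_160) (range_glue (range_of_allRange c_rel_161) (range_glue (range_of_allRange c_rel_162) (range_glue (range_of_allRange c_rel_163) (range_glue (range_of_allRange c_rel_164) (range_glue (range_of_allRange c_rel_165) (range_glue (range_of_allRange c_rel_166) (range_glue (range_of_allRange c_rel_167) (range_glue (range_of_allRange c_rel_168) (range_glue (range_of_allRange c_rel_169) (range_glue (range_of_allRange c_rel_170) (range_glue (range_of_allRange c_rel_171) (range_glue (range_of_allRange c_rel_172) (range_glue (range_of_allRange c_rel_173) (range_glue (range_of_allRange c_rel_174) (range_glue (range_of_allRange c_rel_175) (range_glue (range_of_allRange c_rel_176) (range_glue (range_of_allRange c_rel_177) (range_glue (range_of_allRange c_rel_178) (range_glue (range_of_allRange c_rel_179) (range_glue (range_of_allRange c_rel_180) (range_glue (range_of_allRange c_rel_181) (range_glue (range_of_allRange c_rel_182) (range_glue (range_of_allRange c_rel_183) (range_glue (range_of_allRange c_rel_184) (range_glue (range_of_allRange c_rel_185) (range_glue (range_of_allRange c_rel_186) (range_glue (range_of_allRange c_rel_187) (range_glue (range_of_allRange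 c_rel_188) (range_glue (range_of_allRange c_rel_189) (range_glue (range_of_allRange c_rel_190) (range_glue (range_of_allRange c_rel_191) (range_glue (range_of_allRange c_rel_192) (range_glue (range_of_allRange c_rel_193) (range_glue (range_of_allRange c_rel_194) (range_glue (range_of_allRange c_rel_195) (range_glue (range_of_allRange c_rel_196) (range_glue (range_of_allRange c_rel_197) (range_glue (range_of_allRange c_rel_198) (range_of_allRange c_rel_199))))))))))))))))))))))))))))))))))))))))
theorem h_rel_p5 : ∀ t, 2201999 ≤ t → t < 2291279 → D.relOK t = true :=
  (range_glue (range_of_allRange c_rel_200) (range_glue (range_of_allRange c_rel_201) (range_glue (range_of_allRange c_rel_202) (range_glue (range_of_allRange c_rel_203) (range_glue (range_of_allRange c_rel_204) (range_glue (range_of_allRange c_rel_205) (range_glue (range_of_allRange c_rel_206) (range_glue (range_of_allRange c_rel_207) (range_glue (range_of_allRange c_rel_208) (range_glue (range_of_allRange c_rel_209) (range_glue (range_of_allRange c_rel_210) (range_glue (range_of_allRange c_rel_211) (range_glue (range_of_allRange c_rel_212) (range_glue (range_of_allRange c_rel_213) (range_glue (range_of_allRange c_rel_214) (range_glue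 (range_of_allRange c_rel_215) (range_glue (range_of_allRange c_rel_216) (range_glue (range_of_allRange c_rel_217) (range_glue (range_of_allRange c_rel_218) (range_glue (range_of_allRange c_rel_219) (range_glue (range_of_allRange c_rel_220) (range_glue (range_of_allRange c_rel_221) (range_glue (range_of_allRange c_rel_222) (range_glue (range_of_allRange c_rel_223) (range_glue (range_of_allRange c_rel_224) (range_glue (range_of_allRange c_rel_225) (range_glue (range_of_allRange c_rel_226) (range_glue (range_of_allRange c_rel_227) (range_glue (range_of_allRange c_rel_228) (range_glue (range_of_allRange c_rel_229) (range_glue (range_of_allRange c_rel_230) (range_glue (range_of_allRange c_rel_231) (range_glue (range_of_allRange c_rel_232) (range_glue (range_of_allRange c_rel_233) (range_glue (range_of_allRange c_rel_234) (range_glue (range_of_allRange c_rel_235) (range_glue (range_of_allRange c_rel_236) (range_glue (range_of_allRange c_rel_237) (range_glue (range_of_allRange c_rel_238) (range_of_allRange c_rel_239))))))))))))))))))))))))))))))))))))))))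
theorem h_rel_p6 : ∀ t, 2291279 ≤ t → t < 2372714 → D.relOK t = true :=
  (range_glue (range_of_allRange c_rel_240) (range_glue (range_of_allRange c_rel_241) (range_glue (range_of_allRange c_rel_242) (range_glue (range_of_allRange c_rel_243) (range_glue (range_of_allRange c_rel_244) (range_glue (range_of_allRange c_rel_245) (range_glue (range_of_allRange c_rel_246) (range_glue (range_of_allRange c_rel_247) (range_glue (range_of_allRange c_rel_248) (range_glue (range_of_allRange c_rel_249) (range_glue (range_of_allRange c_rel_250) (range_glue (range_of_allRange c_rel_251) (range_glue (range_of_allRange c_rel_252) (range_glue (range_of_allRange c_rel_253) (range_glue (range_of_allRange c_rel_254) (range_glue (range_of_allRange c_rel_255) (range_glue (range_of_allRange c_rel_256) (range_glue (range_of_allRange c_rel_257) (range_glue (range_of_allRange c_rel_258) (range_glue (range_of_allRange c_rel_259) (range_glue (range_of_allRange c_rel_260) (range_glue (range_of_allRange c_rel_261) (range_glue (range_of_allRange c_rel_262) (range_glue (range_of_allRange c_rel_263) (range_glue (range_of_allRange c_rel_264) (range_glue (range_of_allRange c_rel_265) (range_glue (range_of_allRange c_rel_266)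 (range_glue (range_of_allRange c_rel_267) (range_glue (range_of_allRange c_rel_268) (range_glue (range_of_allRange c_rel_269) (range_glue (range_of_allRange c_rel_270) (range_glue (range_of_allRange c_rel_271) (range_glue (range_of_allRange c_rel_272) (range_glue (range_of_allRange c_rel_273) (range_glue (range_of_allRange c_rel_274) (range_glue (range_of_allRange c_rel_275) (range_glue (range_of_allRange c_rel_276) (range_glue (range_of_allRange c_rel_277) (range_glue (range_of_allRange c_rel_278) (range_of_allRange c_rel_279))))))))))))))))))))))))))))))))))))))))
theorem h_rel_p7 : ∀ t, 2372714 ≤ t → t < 2472330 → D.relOK t = true :=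
  (range_glue (range_of_allRange c_rel_280) (range_glue (range_of_allRange c_rel_281) (range_glue (range_of_allRange c_rel_282) (range_glue (range_of_allRange c_rel_283) (range_glue (range_of_allRange c_rel_284) (range_glue (range_of_allRange c_rel_285) (range_glue (range_of_allRange c_rel_286) (range_glue (range_of_allRange c_rel_287) (range_glue (range_of_allRange c_rel_288) (range_glue (range_of_allRange c_rel_289) (range_glue (range_of_allRange c_rel_290) (range_glue (range_of_allRange c_rel_291) (range_glue (range_of_allRange c_rel_292) (range_glue (range_of_allRange c_rel_293) (range_glue (range_of_allRange c_rel_294) (range_glue (range_of_allRange c_rel_295) (range_glue (range_of_allRange c_rel_296) (range_glue (range_of_allRange c_rel_297) (range_glue (range_of_allRange c_rel_298) (range_glue (range_of_allRange c_rel_299) (range_glue (range_of_allRange c_rel_300) (range_glue (range_of_allRange c_rel_301) (range_glue (range_of_allRange c_rel_302) (range_glue (range_of_allRange c_rel_303) (range_glue (range_of_allRange c_rel_304) (range_glue (range_of_allRange c_rel_305) (range_glue (range_of_allRange c_rel_306) (range_glue (range_of_allRange c_rel_307) (range_glue (range_of_allRange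 c_rel_308) (range_glue (range_of_allRange c_rel_309) (range_glue (range_of_allRange c_rel_310) (range_glue (range_of_allRange c_rel_311) (range_glue (range_of_allRange c_rel_312) (range_glue (range_of_allRange c_rel_313) (range_glue (range_of_allRange c_rel_314) (range_glue (range_of_allRange c_rel_315) (range_glue (range_of_allRange c_rel_316) (range_glue (range_of_allRange c_rel_317) (range_glue (range_of_allRange c_rel_318) (range_of_allRange c_rel_319))))))))))))))))))))))))))))))))))))))))
theorem h_rel_p8 : ∀ t, 2472330 ≤ t → t < 2576983 → D.relOK t = true :=
  (range_glue (range_of_allRange c_rel_320) (range_glue (range_of_allRange c_rel_321) (range_glue (range_of_allRange c_rel_322) (range_glue (range_of_allRange c_rel_323) (range_glue (range_of_allRange c_rel_324) (range_glue (range_of_allRange c_rel_325) (range_glue (range_of_allRange c_rel_326) (range_glue (range_of_allRange c_rel_327) (range_glue (range_of_allRange c_rel_328) (range_glue (range_of_allRange c_rel_329) (range_glue (range_of_allRange c_rel_330) (range_glue (range_of_allRange c_rel_331) (range_glue (range_of_allRange c_rel_332) (range_glue (range_of_allRange c_rel_333) (range_glue (range_of_allRange c_rel_334) (range_glue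 (range_of_allRange c_rel_335) (range_glue (range_of_allRange c_rel_336) (range_glue (range_of_allRange c_rel_337) (range_glue (range_of_allRange c_rel_338) (range_glue (range_of_allRange c_rel_339) (range_glue (range_of_allRange c_rel_340) (range_glue (range_of_allRange c_rel_341) (range_glue (range_of_allRange c_rel_342) (range_glue (range_of_allRange c_rel_343) (range_glue (range_of_allRange c_rel_344) (range_glue (range_of_allRange c_rel_345) (range_glue (range_of_allRange c_rel_346) (range_glue (range_of_allRange c_rel_347) (range_glue (range_of_allRange c_rel_348) (range_glue (range_of_allRange c_rel_349) (range_glue (range_of_allRange c_rel_350) (range_glue (range_of_allRange c_rel_351) (range_glue (range_of_allRange c_rel_352) (range_glue (range_of_allRange c_rel_353) (range_glue (range_of_allRange c_rel_354) (range_glue (range_of_allRange c_rel_355) (range_glue (range_of_allRange c_rel_356) (range_glue (range_of_allRange c_rel_357) (range_glue (range_of_allRange c_rel_358) (range_of_allRange c_rel_359))))))))))))))))))))))))))))))))))))))))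
theorem h_rel_p9 : ∀ t, 2576983 ≤ t → t < 2679919 → D.relOK t = true :=
  (range_glue (range_of_allRange c_rel_360) (range_glue (range_of_allRange c_rel_361) (range_glue (range_of_allRange c_rel_362) (range_glue (range_of_allRange c_rel_363) (range_glue (range_of_allRange c_rel_364) (range_glue (range_of_allRange c_rel_365) (range_glue (range_of_allRange c_rel_366) (range_glue (range_of_allRange c_rel_367) (range_glue (range_of_allRange c_rel_368) (range_glue (range_of_allRange c_rel_369) (range_glue (range_of_allRange c_rel_370) (range_glue (range_of_allRange c_rel_371) (range_glue (range_of_allRange c_rel_372) (range_glue (range_of_allRange c_rel_373) (range_glue (range_of_allRange c_rel_374) (range_glue (range_of_allRange c_rel_375) (range_glue (range_of_allRange c_rel_376) (range_glue (range_of_allRange c_rel_377) (range_glue (range_of_allRange c_rel_378) (range_glue (range_of_allRange c_rel_379) (range_glue (range_of_allRange c_rel_380) (range_glue (range_of_allRange c_rel_381) (range_glue (range_of_allRange c_rel_382) (range_glue (range_of_allRange c_rel_383) (range_glue (range_of_allRange c_rel_384) (range_glue (range_of_allRange c_rel_385) (range_glue (range_of_allRange c_rel_386)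 (range_glue (range_of_allRange c_rel_387) (range_glue (range_of_allRange c_rel_388) (range_glue (range_of_allRange c_rel_389) (range_glue (range_of_allRange c_rel_390) (range_glue (range_of_allRange c_rel_391) (range_glue (range_of_allRange c_rel_392) (range_glue (range_of_allRange c_rel_393) (range_glue (range_of_allRange c_rel_394) (range_glue (range_of_allRange c_rel_395) (range_glue (range_of_allRange c_rel_396) (range_glue (range_of_allRange c_rel_397) (range_glue (range_of_allRange c_rel_398) (range_of_allRange c_rel_399))))))))))))))))))))))))))))))))))))))))
theorem h_rel_p10 : ∀ t, 2679919 ≤ t → t < 2780737 → D.relOK t = true :=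
  (range_glue (range_of_allRange c_rel_400) (range_glue (range_of_allRange c_rel_401) (range_glue (range_of_allRange c_rel_402) (range_glue (range_of_allRange c_rel_403) (range_glue (range_of_allRange c_rel_404) (range_glue (range_of_allRange c_rel_405) (range_glue (range_of_allRange c_rel_406) (range_glue (range_of_allRange c_rel_407) (range_glue (range_of_allRange c_rel_408) (range_glue (range_of_allRange c_rel_409) (range_glue (range_of_allRange c_rel_410) (range_glue (range_of_allRange c_rel_411) (range_glue (range_of_allRange c_rel_412) (range_glue (range_of_allRange c_rel_413) (range_glue (range_of_allRange c_rel_414) (range_glue (range_of_allRange c_rel_415) (range_glue (range_of_allRange c_rel_416) (range_glue (range_of_allRange c_rel_417) (range_glue (range_of_allRange c_rel_418) (range_glue (range_of_allRange c_rel_419) (range_glue (range_of_allRange c_rel_420) (range_glue (range_of_allRange c_rel_421) (range_glue (range_of_allRange c_rel_422) (range_glue (range_of_allRange c_rel_423) (range_glue (range_of_allRange c_rel_424) (range_glue (range_of_allRange c_rel_425) (range_glue (range_of_allRange c_rel_426) (range_glue (range_of_allRange c_rel_427) (range_glue (range_of_allRange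 c_rel_428) (range_glue (range_of_allRange c_rel_429) (range_glue (range_of_allRange c_rel_430) (range_glue (range_of_allRange c_rel_431) (range_glue (range_of_allRange c_rel_432) (range_glue (range_of_allRange c_rel_433) (range_glue (range_of_allRange c_rel_434) (range_glue (range_of_allRange c_rel_435) (range_glue (range_of_allRange c_rel_436) (range_glue (range_of_allRange c_rel_437) (range_glue (range_of_allRange c_rel_438) (range_of_allRange c_rel_439))))))))))))))))))))))))))))))))))))))))
theorem h_rel_p11 : ∀ t, 2780737 ≤ t → t < 2885513 → D.relOK t = true :=
  (range_glue (range_of_allRange c_rel_440) (range_glue (range_of_allRange c_rel_441) (range_glue (range_of_allRange c_rel_442) (range_glue (range_of_allRange c_rel_443) (range_glue (range_of_allRange c_rel_444) (range_glue (range_of_allRange c_rel_445) (range_glue (range_of_allRange c_rel_446) (range_glue (range_of_allRange c_rel_447) (range_glue (range_of_allRange c_rel_448) (range_glue (range_of_allRange c_rel_449) (range_glue (range_of_allRange c_rel_450) (range_glue (range_of_allRange c_rel_451) (range_glue (range_of_allRange c_rel_452) (range_glue (range_of_allRange c_rel_453) (range_glue (range_of_allRange c_rel_454) (range_glue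 (range_of_allRange c_rel_455) (range_glue (range_of_allRange c_rel_456) (range_glue (range_of_allRange c_rel_457) (range_glue (range_of_allRange c_rel_458) (range_glue (range_of_allRange c_rel_459) (range_glue (range_of_allRange c_rel_460) (range_glue (range_of_allRange c_rel_461) (range_glue (range_of_allRange c_rel_462) (range_glue (range_of_allRange c_rel_463) (range_glue (range_of_allRange c_rel_464) (range_glue (range_of_allRange c_rel_465) (range_glue (range_of_allRange c_rel_466) (range_glue (range_of_allRange c_rel_467) (range_glue (range_of_allRange c_rel_468) (range_glue (range_of_allRange c_rel_469) (range_glue (range_of_allRange c_rel_470) (range_glue (range_of_allRange c_rel_471) (range_glue (range_of_allRange c_rel_472) (range_glue (range_of_allRange c_rel_473) (range_glue (range_of_allRange c_rel_474) (range_glue (range_of_allRange c_rel_475) (range_glue (range_of_allRange c_rel_476) (range_glue (range_of_allRange c_rel_477) (range_glue (range_of_allRange c_rel_478) (range_of_allRange c_rel_479))))))))))))))))))))))))))))))))))))))))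
theorem h_rel_p12 : ∀ t, 2885513 ≤ t → t < 2989285 → D.relOK t = true :=
  (range_glue (range_of_allRange c_rel_480) (range_glue (range_of_allRange c_rel_481) (range_glue (range_of_allRange c_rel_482) (range_glue (range_of_allRange c_rel_483) (range_glue (range_of_allRange c_rel_484) (range_glue (range_of_allRange c_rel_485) (range_glue (range_of_allRange c_rel_486) (range_glue (range_of_allRange c_rel_487) (range_glue (range_of_allRange c_rel_488) (range_glue (range_of_allRange c_rel_489) (range_glue (range_of_allRange c_rel_490) (range_glue (range_of_allRange c_rel_491) (range_glue (range_of_allRange c_rel_492) (range_glue (range_of_allRange c_rel_493) (range_glue (range_of_allRange c_rel_494) (range_glue (range_of_allRange c_rel_495) (range_glue (range_of_allRange c_rel_496) (range_glue (range_of_allRange c_rel_497) (range_glue (range_of_allRange c_rel_498) (range_glue (range_of_allRange c_rel_499) (range_glue (range_of_allRange c_rel_500) (range_glue (range_of_allRange c_rel_501) (range_glue (range_of_allRange c_rel_502) (range_glue (range_of_allRange c_rel_503) (range_glue (range_of_allRange c_rel_504) (range_glue (range_of_allRange c_rel_505) (range_glue (range_of_allRange c_rel_506)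 (range_glue (range_of_allRange c_rel_507) (range_glue (range_of_allRange c_rel_508) (range_glue (range_of_allRange c_rel_509) (range_glue (range_of_allRange c_rel_510) (range_glue (range_of_allRange c_rel_511) (range_glue (range_of_allRange c_rel_512) (range_glue (range_of_allRange c_rel_513) (range_glue (range_of_allRange c_rel_514) (range_glue (range_of_allRange c_rel_515) (range_glue (range_of_allRange c_rel_516) (range_glue (range_of_allRange c_rel_517) (range_glue (range_of_allRange c_rel_518) (range_of_allRange c_rel_519))))))))))))))))))))))))))))))))))))))))
theorem h_rel_p13 : ∀ t, 2989285 ≤ t → t < 3089099 → D.relOK t = true :=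
  (range_glue (range_of_allRange c_rel_520) (range_glue (range_of_allRange c_rel_521) (range_glue (range_of_allRange c_rel_522) (range_glue (range_of_allRange c_rel_523) (range_glue (range_of_allRange c_rel_524) (range_glue (range_of_allRange c_rel_525) (range_glue (range_of_allRange c_rel_526) (range_glue (range_of_allRange c_rel_527) (range_glue (range_of_allRange c_rel_528) (range_glue (range_of_allRange c_rel_529) (range_glue (range_of_allRange c_rel_530) (range_glue (range_of_allRange c_rel_531) (range_glue (range_of_allRange c_rel_532) (range_glue (range_of_allRange c_rel_533) (range_glue (range_of_allRange c_rel_534) (range_glue (range_of_allRange c_rel_535) (range_glue (range_of_allRange c_rel_536) (range_glue (range_of_allRange c_rel_537) (range_glue (range_of_allRange c_rel_538) (range_glue (range_of_allRange c_rel_539) (range_glue (range_of_allRange c_rel_540) (range_glue (range_of_allRange c_rel_541) (range_glue (range_of_allRange c_rel_542) (range_glue (range_of_allRange c_rel_543) (range_glue (range_of_allRange c_rel_544) (range_glue (range_of_allRange c_rel_545) (range_glue (range_of_allRange c_rel_546) (range_glue (range_of_allRange c_rel_547) (range_glue (range_of_allRange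 c_rel_548) (range_glue (range_of_allRange c_rel_549) (range_glue (range_of_allRange c_rel_550) (range_glue (range_of_allRange c_rel_551) (range_glue (range_of_allRange c_rel_552) (range_glue (range_of_allRange c_rel_553) (range_glue (range_of_allRange c_rel_554) (range_glue (range_of_allRange c_rel_555) (range_glue (range_of_allRange c_rel_556) (range_glue (range_of_allRange c_rel_557) (range_glue (range_of_allRange c_rel_558) (range_of_allRange c_rel_559))))))))))))))))))))))))))))))))))))))))
theorem h_rel_p14 : ∀ t, 3089099 ≤ t → t < 3188339 → D.relOK t = true :=
  (range_glue (range_of_allRange c_rel_560) (range_glue (range_of_allRange c_rel_561) (range_glue (range_of_allRange c_rel_562) (range_glue (range_of_allRange c_rel_563) (range_glue (range_of_allRange c_rel_564) (range_glue (range_of_allRange c_rel_565) (range_glue (range_of_allRange c_rel_566) (range_glue (range_of_allRange c_rel_567) (range_glue (range_of_allRange c_rel_568) (range_glue (range_of_allRange c_rel_569) (range_glue (range_of_allRange c_rel_570) (range_glue (range_of_allRange c_rel_571) (range_glue (range_of_allRange c_rel_572) (range_glue (range_of_allRange c_rel_573) (range_glue (range_of_allRange c_rel_574) (range_glue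 (range_of_allRange c_rel_575) (range_glue (range_of_allRange c_rel_576) (range_glue (range_of_allRange c_rel_577) (range_glue (range_of_allRange c_rel_578) (range_glue (range_of_allRange c_rel_579) (range_glue (range_of_allRange c_rel_580) (range_glue (range_of_allRange c_rel_581) (range_glue (range_of_allRange c_rel_582) (range_glue (range_of_allRange c_rel_583) (range_glue (range_of_allRange c_rel_584) (range_glue (range_of_allRange c_rel_585) (range_glue (range_of_allRange c_rel_586) (range_glue (range_of_allRange c_rel_587) (range_glue (range_of_allRange c_rel_588) (range_glue (range_of_allRange c_rel_589) (range_glue (range_of_allRange c_rel_590) (range_glue (range_of_allRange c_rel_591) (range_glue (range_of_allRange c_rel_592) (range_glue (range_of_allRange c_rel_593) (range_glue (range_of_allRange c_rel_594) (range_glue (range_of_allRange c_rel_595) (range_glue (range_of_allRange c_rel_596) (range_glue (range_of_allRange c_rel_597) (range_glue (range_of_allRange c_rel_598) (range_of_allRange c_rel_599))))))))))))))))))))))))))))))))))))))))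
theorem h_rel_p15 : ∀ t, 3188339 ≤ t → t < 3285389 → D.relOK t = true :=
  (range_glue (range_of_allRange c_rel_600) (range_glue (range_of_allRange c_rel_601) (range_glue (range_of_allRange c_rel_602) (range_glue (range_of_allRange c_rel_603) (range_glue (range_of_allRange c_rel_604) (range_glue (range_of_allRange c_rel_605) (range_glue (range_of_allRange c_rel_606) (range_glue (range_of_allRange c_rel_607) (range_glue (range_of_allRange c_rel_608) (range_glue (range_of_allRange c_rel_609) (range_glue (range_of_allRange c_rel_610) (range_glue (range_of_allRange c_rel_611) (range_glue (range_of_allRange c_rel_612) (range_glue (range_of_allRange c_rel_613) (range_glue (range_of_allRange c_rel_614) (range_glue (range_of_allRange c_rel_615) (range_glue (range_of_allRange c_rel_616) (range_glue (range_of_allRange c_rel_617) (range_glue (range_of_allRange c_rel_618) (range_glue (range_of_allRange c_rel_619) (range_glue (range_of_allRange c_rel_620) (range_glue (range_of_allRange c_rel_621) (range_glue (range_of_allRange c_rel_622) (range_glue (range_of_allRange c_rel_623) (range_glue (range_of_allRange c_rel_624) (range_glue (range_of_allRange c_rel_625) (range_glue (range_of_allRange c_rel_626)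 (range_glue (range_of_allRange c_rel_627) (range_glue (range_of_allRange c_rel_628) (range_glue (range_of_allRange c_rel_629) (range_glue (range_of_allRange c_rel_630) (range_glue (range_of_allRange c_rel_631) (range_glue (range_of_allRange c_rel_632) (range_glue (range_of_allRange c_rel_633) (range_glue (range_of_allRange c_rel_634) (range_glue (range_of_allRange c_rel_635) (range_glue (range_of_allRange c_rel_636) (range_glue (range_of_allRange c_rel_637) (range_glue (range_of_allRange c_rel_638) (range_of_allRange c_rel_639))))))))))))))))))))))))))))))))))))))))
theorem h_rel_p16 : ∀ t, 3285389 ≤ t → t < 3381027 → D.relOK t = true :=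
  (range_glue (range_of_allRange c_rel_640) (range_glue (range_of_allRange c_rel_641) (range_glue (range_of_allRange c_rel_642) (range_glue (range_of_allRange c_rel_643) (range_glue (range_of_allRange c_rel_644) (range_glue (range_of_allRange c_rel_645) (range_glue (range_of_allRange c_rel_646) (range_glue (range_of_allRange c_rel_647) (range_glue (range_of_allRange c_rel_648) (range_glue (range_of_allRange c_rel_649) (range_glue (range_of_allRange c_rel_650) (range_glue (range_of_allRange c_rel_651) (range_glue (range_of_allRange c_rel_652) (range_glue (range_of_allRange c_rel_653) (range_glue (range_of_allRange c_rel_654) (range_glue (range_of_allRange c_rel_655) (range_glue (range_of_allRange c_rel_656) (range_glue (range_of_allRange c_rel_657) (range_glue (range_of_allRange c_rel_658) (range_glue (range_of_allRange c_rel_659) (range_glue (range_of_allRange c_rel_660) (range_glue (range_of_allRange c_rel_661) (range_glue (range_of_allRange c_rel_662) (range_glue (range_of_allRange c_rel_663) (range_glue (range_of_allRange c_rel_664) (range_glue (range_of_allRange c_rel_665) (range_glue (range_of_allRange c_rel_666) (range_glue (range_of_allRange c_rel_667) (range_glue (range_of_allRange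 c_rel_668) (range_glue (range_of_allRange c_rel_669) (range_glue (range_of_allRange c_rel_670) (range_glue (range_of_allRange c_rel_671) (range_glue (range_of_allRange c_rel_672) (range_glue (range_of_allRange c_rel_673) (range_glue (range_of_allRange c_rel_674) (range_glue (range_of_allRange c_rel_675) (range_glue (range_of_allRange c_rel_676) (range_glue (range_of_allRange c_rel_677) (range_glue (range_of_allRange c_rel_678) (range_of_allRange c_rel_679))))))))))))))))))))))))))))))))))))))))
theorem h_rel_p17 : ∀ t, 3381027 ≤ t → t < 3474937 → D.relOK t = true :=
  (range_glue (range_of_allRange c_rel_680) (range_glue (range_of_allRange c_rel_681) (range_glue (range_of_allRange c_rel_682) (range_glue (range_of_allRange c_rel_683) (range_glue (range_of_allRange c_rel_684) (range_glue (range_of_allRange c_rel_685) (range_glue (range_of_allRange c_rel_686) (range_glue (range_of_allRange c_rel_687) (range_glue (range_of_allRange c_rel_688) (range_glue (range_of_allRange c_rel_689) (range_glue (range_of_allRange c_rel_690) (range_glue (range_of_allRange c_rel_691) (range_glue (range_of_allRange c_rel_692) (range_glue (range_of_allRange c_rel_693) (range_glue (range_of_allRange c_rel_694) (range_glue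 (range_of_allRange c_rel_695) (range_glue (range_of_allRange c_rel_696) (range_glue (range_of_allRange c_rel_697) (range_glue (range_of_allRange c_rel_698) (range_glue (range_of_allRange c_rel_699) (range_glue (range_of_allRange c_rel_700) (range_glue (range_of_allRange c_rel_701) (range_glue (range_of_allRange c_rel_702) (range_glue (range_of_allRange c_rel_703) (range_glue (range_of_allRange c_rel_704) (range_glue (range_of_allRange c_rel_705) (range_glue (range_of_allRange c_rel_706) (range_glue (range_of_allRange c_rel_707) (range_glue (range_of_allRange c_rel_708) (range_glue (range_of_allRange c_rel_709) (range_glue (range_of_allRange c_rel_710) (range_glue (range_of_allRange c_rel_711) (range_glue (range_of_allRange c_rel_712) (range_glue (range_of_allRange c_rel_713) (range_glue (range_of_allRange c_rel_714) (range_glue (range_of_allRange c_rel_715) (range_glue (range_of_allRange c_rel_716) (range_glue (range_of_allRange c_rel_717) (range_glue (range_of_allRange c_rel_718) (range_of_allRange c_rel_719))))))))))))))))))))))))))))))))))))))))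
theorem h_rel_p18 : ∀ t, 3474937 ≤ t → t < 3567609 → D.relOK t = true :=
  (range_glue (range_of_allRange c_rel_720) (range_glue (range_of_allRange c_rel_721) (range_glue (range_of_allRange c_rel_722) (range_glue (range_of_allRange c_rel_723) (range_glue (range_of_allRange c_rel_724) (range_glue (range_of_allRange c_rel_725) (range_glue (range_of_allRange c_rel_726) (range_glue (range_of_allRange c_rel_727) (range_glue (range_of_allRange c_rel_728) (range_glue (range_of_allRange c_rel_729) (range_glue (range_of_allRange c_rel_730) (range_glue (range_of_allRange c_rel_731) (range_glue (range_of_allRange c_rel_732) (range_glue (range_of_allRange c_rel_733) (range_glue (range_of_allRange c_rel_734) (range_glue (range_of_allRange c_rel_735) (range_glue (range_of_allRange c_rel_736) (range_glue (range_of_allRange c_rel_737) (range_glue (range_of_allRange c_rel_738) (range_glue (range_of_allRange c_rel_739) (range_glue (range_of_allRange c_rel_740) (range_glue (range_of_allRange c_rel_741) (range_glue (range_of_allRange c_rel_742) (range_glue (range_of_allRange c_rel_743) (range_glue (range_of_allRange c_rel_744) (range_glue (range_of_allRange c_rel_745) (range_glue (range_of_allRange c_rel_746)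 (range_glue (range_of_allRange c_rel_747) (range_glue (range_of_allRange c_rel_748) (range_glue (range_of_allRange c_rel_749) (range_glue (range_of_allRange c_rel_750) (range_glue (range_of_allRange c_rel_751) (range_glue (range_of_allRange c_rel_752) (range_glue (range_of_allRange c_rel_753) (range_glue (range_of_allRange c_rel_754) (range_glue (range_of_allRange c_rel_755) (range_glue (range_of_allRange c_rel_756) (range_glue (range_of_allRange c_rel_757) (range_glue (range_of_allRange c_rel_758) (range_of_allRange c_rel_759))))))))))))))))))))))))))))))))))))))))
theorem h_rel_p19 : ∀ t, 3567609 ≤ t → t < 3658249 → D.relOK t = true :=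
  (range_glue (range_of_allRange c_rel_760) (range_glue (range_of_allRange c_rel_761) (range_glue (range_of_allRange c_rel_762) (range_glue (range_of_allRange c_rel_763) (range_glue (range_of_allRange c_rel_764) (range_glue (range_of_allRange c_rel_765) (range_glue (range_of_allRange c_rel_766) (range_glue (range_of_allRange c_rel_767) (range_glue (range_of_allRange c_rel_768) (range_glue (range_of_allRange c_rel_769) (range_glue (range_of_allRange c_rel_770) (range_glue (range_of_allRange c_rel_771) (range_glue (range_of_allRange c_rel_772) (range_glue (range_of_allRange c_rel_773) (range_glue (range_of_allRange c_rel_774) (range_glue (range_of_allRange c_rel_775) (range_glue (range_of_allRange c_rel_776) (range_glue (range_of_allRange c_rel_777) (range_glue (range_of_allRange c_rel_778) (range_glue (range_of_allRange c_rel_779) (range_glue (range_of_allRange c_rel_780) (range_glue (range_of_allRange c_rel_781) (range_glue (range_of_allRange c_rel_782) (range_glue (range_of_allRange c_rel_783) (range_glue (range_of_allRange c_rel_784) (range_glue (range_of_allRange c_rel_785) (range_glue (range_of_allRange c_rel_786) (range_glue (range_of_allRange c_rel_787) (range_glue (range_of_allRange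 c_rel_788) (range_glue (range_of_allRange c_rel_789) (range_glue (range_of_allRange c_rel_790) (range_glue (range_of_allRange c_rel_791) (range_glue (range_of_allRange c_rel_792) (range_glue (range_of_allRange c_rel_793) (range_glue (range_of_allRange c_rel_794) (range_glue (range_of_allRange c_rel_795) (range_glue (range_of_allRange c_rel_796) (range_glue (range_of_allRange c_rel_797) (range_glue (range_of_allRange c_rel_798) (range_of_allRange c_rel_799))))))))))))))))))))))))))))))))))))))))
theorem h_rel_p20 : ∀ t, 3658249 ≤ t → t < 3746509 → D.relOK t = true :=
  (range_glue (range_of_allRange c_rel_800) (range_glue (range_of_allRange c_rel_801) (range_glue (range_of_allRange c_rel_802) (range_glue (range_of_allRange c_rel_803) (range_glue (range_of_allRange c_rel_804) (range_glue (range_of_allRange c_rel_805) (range_glue (range_of_allRange c_rel_806) (range_glue (range_of_allRange c_rel_807) (range_glue (range_of_allRange c_rel_808) (range_glue (range_of_allRange c_rel_809) (range_glue (range_of_allRange c_rel_810) (range_glue (range_of_allRange c_rel_811) (range_glue (range_of_allRange c_rel_812) (range_glue (range_of_allRange c_rel_813) (range_glue (range_of_allRange c_rel_814) (range_glue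 (range_of_allRange c_rel_815) (range_glue (range_of_allRange c_rel_816) (range_glue (range_of_allRange c_rel_817) (range_glue (range_of_allRange c_rel_818) (range_glue (range_of_allRange c_rel_819) (range_glue (range_of_allRange c_rel_820) (range_glue (range_of_allRange c_rel_821) (range_glue (range_of_allRange c_rel_822) (range_glue (range_of_allRange c_rel_823) (range_glue (range_of_allRange c_rel_824) (range_glue (range_of_allRange c_rel_825) (range_glue (range_of_allRange c_rel_826) (range_glue (range_of_allRange c_rel_827) (range_glue (range_of_allRange c_rel_828) (range_glue (range_of_allRange c_rel_829) (range_glue (range_of_allRange c_rel_830) (range_glue (range_of_allRange c_rel_831) (range_glue (range_of_allRange c_rel_832) (range_glue (range_of_allRange c_rel_833) (range_glue (range_of_allRange c_rel_834) (range_glue (range_of_allRange c_rel_835) (range_glue (range_of_allRange c_rel_836) (range_glue (range_of_allRange c_rel_837) (range_glue (range_of_allRange c_rel_838) (range_of_allRange c_rel_839))))))))))))))))))))))))))))))))))))))))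
theorem h_rel_p21 : ∀ t, 3746509 ≤ t → t < 3833229 → D.relOK t = true :=
  (range_glue (range_of_allRange c_rel_840) (range_glue (range_of_allRange c_rel_841) (range_glue (range_of_allRange c_rel_842) (range_glue (range_of_allRange c_rel_843) (range_glue (range_of_allRange c_rel_844) (range_glue (range_of_allRange c_rel_845) (range_glue (range_of_allRange c_rel_846) (range_glue (range_of_allRange c_rel_847) (range_glue (range_of_allRange c_rel_848) (range_glue (range_of_allRange c_rel_849) (range_glue (range_of_allRange c_rel_850) (range_glue (range_of_allRange c_rel_851) (range_glue (range_of_allRange c_rel_852) (range_glue (range_of_allRange c_rel_853) (range_glue (range_of_allRange c_rel_854) (range_glue (range_of_allRange c_rel_855) (range_glue (range_of_allRange c_rel_856) (range_glue (range_of_allRange c_rel_857) (range_glue (range_of_allRange c_rel_858) (range_glue (range_of_allRange c_rel_859) (range_glue (range_of_allRange c_rel_860) (range_glue (range_of_allRange c_rel_861) (range_glue (range_of_allRange c_rel_862) (range_glue (range_of_allRange c_rel_863) (range_glue (range_of_allRange c_rel_864) (range_glue (range_of_allRange c_rel_865) (range_glue (range_of_allRange c_rel_866)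 (range_glue (range_of_allRange c_rel_867) (range_glue (range_of_allRange c_rel_868) (range_glue (range_of_allRange c_rel_869) (range_glue (range_of_allRange c_rel_870) (range_glue (range_of_allRange c_rel_871) (range_glue (range_of_allRange c_rel_872) (range_glue (range_of_allRange c_rel_873) (range_glue (range_of_allRange c_rel_874) (range_glue (range_of_allRange c_rel_875) (range_glue (range_of_allRange c_rel_876) (range_glue (range_of_allRange c_rel_877) (range_glue (range_of_allRange c_rel_878) (range_of_allRange c_rel_879))))))))))))))))))))))))))))))))))))))))
theorem h_rel_p22 : ∀ t, 3833229 ≤ t → t < 3917847 → D.relOK t = true :=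
  (range_glue (range_of_allRange c_rel_880) (range_glue (range_of_allRange c_rel_881) (range_glue (range_of_allRange c_rel_882) (range_glue (range_of_allRange c_rel_883) (range_glue (range_of_allRange c_rel_884) (range_glue (range_of_allRange c_rel_885) (range_glue (range_of_allRange c_rel_886) (range_glue (range_of_allRange c_rel_887) (range_glue (range_of_allRange c_rel_888) (range_glue (range_of_allRange c_rel_889) (range_glue (range_of_allRange c_rel_890) (range_glue (range_of_allRange c_rel_891) (range_glue (range_of_allRange c_rel_892) (range_glue (range_of_allRange c_rel_893) (range_glue (range_of_allRange c_rel_894) (range_glue (range_of_allRange c_rel_895) (range_glue (range_of_allRange c_rel_896) (range_glue (range_of_allRange c_rel_897) (range_glue (range_of_allRange c_rel_898) (range_glue (range_of_allRange c_rel_899) (range_glue (range_of_allRange c_rel_900) (range_glue (range_of_allRange c_rel_901) (range_glue (range_of_allRange c_rel_902) (range_glue (range_of_allRange c_rel_903) (range_glue (range_of_allRange c_rel_904) (range_glue (range_of_allRange c_rel_905) (range_glue (range_of_allRange c_rel_906) (range_glue (range_of_allRange c_rel_907) (range_glue (range_of_allRange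 c_rel_908) (range_glue (range_of_allRange c_rel_909) (range_glue (range_of_allRange c_rel_910) (range_glue (range_of_allRange c_rel_911) (range_glue (range_of_allRange c_rel_912) (range_glue (range_of_allRange c_rel_913) (range_glue (range_of_allRange c_rel_914) (range_glue (range_of_allRange c_rel_915) (range_glue (range_of_allRange c_rel_916) (range_glue (range_of_allRange c_rel_917) (range_glue (range_of_allRange c_rel_918) (range_of_allRange c_rel_919))))))))))))))))))))))))))))))))))))))))
theorem h_rel_p23 : ∀ t, 3917847 ≤ t → t < 4001262 → D.relOK t = true :=
  (range_glue (range_of_allRange c_rel_920) (range_glue (range_of_allRange c_rel_921) (range_glue (range_of_allRange c_rel_922) (range_glue (range_of_allRange c_rel_923) (range_glue (range_of_allRange c_rel_924) (range_glue (range_of_allRange c_rel_925) (range_glue (range_of_allRange c_rel_926) (range_glue (range_of_allRange c_rel_927) (range_glue (range_of_allRange c_rel_928) (range_glue (range_of_allRange c_rel_929) (range_glue (range_of_allRange c_rel_930) (range_glue (range_of_allRange c_rel_931) (range_glue (range_of_allRange c_rel_932) (range_glue (range_of_allRange c_rel_933) (range_glue (range_of_allRange c_rel_934) (range_glue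 (range_of_allRange c_rel_935) (range_glue (range_of_allRange c_rel_936) (range_glue (range_of_allRange c_rel_937) (range_glue (range_of_allRange c_rel_938) (range_glue (range_of_allRange c_rel_939) (range_glue (range_of_allRange c_rel_940) (range_glue (range_of_allRange c_rel_941) (range_glue (range_of_allRange c_rel_942) (range_glue (range_of_allRange c_rel_943) (range_glue (range_of_allRange c_rel_944) (range_glue (range_of_allRange c_rel_945) (range_glue (range_of_allRange c_rel_946) (range_glue (range_of_allRange c_rel_947) (range_glue (range_of_allRange c_rel_948) (range_glue (range_of_allRange c_rel_949) (range_glue (range_of_allRange c_rel_950) (range_glue (range_of_allRange c_rel_951) (range_glue (range_of_allRange c_rel_952) (range_glue (range_of_allRange c_rel_953) (range_glue (range_of_allRange c_rel_954) (range_glue (range_of_allRange c_rel_955) (range_glue (range_of_allRange c_rel_956) (range_glue (range_of_allRange c_rel_957) (range_glue (range_of_allRange c_rel_958) (range_of_allRange c_rel_959))))))))))))))))))))))))))))))))))))))))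
theorem h_rel_p24 : ∀ t, 4001262 ≤ t → t < 4079092 → D.relOK t = true :=
  (range_glue (range_of_allRange c_rel_960) (range_glue (range_of_allRange c_rel_961) (range_glue (range_of_allRange c_rel_962) (range_glue (range_of_allRange c_rel_963) (range_glue (range_of_allRange c_rel_964) (range_glue (range_of_allRange c_rel_965) (range_glue (range_of_allRange c_rel_966) (range_glue (range_of_allRange c_rel_967) (range_glue (range_of_allRange c_rel_968) (range_glue (range_of_allRange c_rel_969) (range_glue (range_of_allRange c_rel_970) (range_glue (range_of_allRange c_rel_971) (range_glue (range_of_allRange c_rel_972) (range_glue (range_of_allRange c_rel_973) (range_glue (range_of_allRange c_rel_974) (range_glue (range_of_allRange c_rel_975) (range_glue (range_of_allRange c_rel_976) (range_glue (range_of_allRange c_rel_977) (range_glue (range_of_allRange c_rel_978) (range_glue (range_of_allRange c_rel_979) (range_glue (range_of_allRange c_rel_980) (range_glue (range_of_allRange c_rel_981) (range_glue (range_of_allRange c_rel_982) (range_glue (range_of_allRange c_rel_983) (range_glue (range_of_allRange c_rel_984) (range_glue (range_of_allRange c_rel_985) (range_glue (range_of_allRange c_rel_986)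 (range_glue (range_of_allRange c_rel_987) (range_glue (range_of_allRange c_rel_988) (range_glue (range_of_allRange c_rel_989) (range_glue (range_of_allRange c_rel_990) (range_glue (range_of_allRange c_rel_991) (range_glue (range_of_allRange c_rel_992) (range_glue (range_of_allRange c_rel_993) (range_glue (range_of_allRange c_rel_994) (range_glue (range_of_allRange c_rel_995) (range_glue (range_of_allRange c_rel_996) (range_glue (range_of_allRange c_rel_997) (range_glue (range_of_allRange c_rel_998) (range_of_allRange c_rel_999))))))))))))))))))))))))))))))))))))))))
theorem h_rel_p25 : ∀ t, 4079092 ≤ t → t < 4157703 → D.relOK t = true :=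
  (range_glue (range_of_allRange c_rel_1000) (range_glue (range_of_allRange c_rel_1001) (range_glue (range_of_allRange c_rel_1002) (range_glue (range_of_allRange c_rel_1003) (range_glue (range_of_allRange c_rel_1004) (range_glue (range_of_allRange c_rel_1005) (range_glue (range_of_allRange c_rel_1006) (range_glue (range_of_allRange c_rel_1007) (range_glue (range_of_allRange c_rel_1008) (range_glue (range_of_allRange c_rel_1009) (range_glue (range_of_allRange c_rel_1010) (range_glue (range_of_allRange c_rel_1011) (range_glue (range_of_allRange c_rel_1012) (range_glue (range_of_allRange c_rel_1013) (range_glue (range_of_allRange c_rel_1014) (range_glue (range_of_allRange c_rel_1015) (range_glue (range_of_allRange c_rel_1016) (range_glue (range_of_allRange c_rel_1017) (range_glue (range_of_allRange c_rel_1018) (range_glue (range_of_allRange c_rel_1019) (range_glue (range_of_allRange c_rel_1020) (range_glue (range_of_allRange c_rel_1021) (range_glue (range_of_allRange c_rel_1022) (range_glue (range_of_allRange c_rel_1023) (range_glue (range_of_allRange c_rel_1024) (range_glue (range_of_allRange c_rel_1025) (range_glue (range_of_allRange c_rel_1026) (range_glue (range_of_allRange c_rel_1027)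 (range_glue (range_of_allRange c_rel_1028) (range_glue (range_of_allRange c_rel_1029) (range_glue (range_of_allRange c_rel_1030) (range_glue (range_of_allRange c_rel_1031) (range_glue (range_of_allRange c_rel_1032) (range_glue (range_of_allRange c_rel_1033) (range_glue (range_of_allRange c_rel_1034) (range_glue (range_of_allRange c_rel_1035) (range_glue (range_of_allRange c_rel_1036) (range_glue (range_of_allRange c_rel_1037) (range_glue (range_of_allRange c_rel_1038) (range_of_allRange c_rel_1039))))))))))))))))))))))))))))))))))))))))
theorem h_rel_p26 : ∀ t, 4157703 ≤ t → t < 4234690 → D.relOK t = true :=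
  (range_glue (range_of_allRange c_rel_1040) (range_glue (range_of_allRange c_rel_1041) (range_glue (range_of_allRange c_rel_1042) (range_glue (range_of_allRange c_rel_1043) (range_glue (range_of_allRange c_rel_1044) (range_glue (range_of_allRange c_rel_1045) (range_glue (range_of_allRange c_rel_1046) (range_glue (range_of_allRange c_rel_1047) (range_glue (range_of_allRange c_rel_1048) (range_glue (range_of_allRange c_rel_1049) (range_glue (range_of_allRange c_rel_1050) (range_glue (range_of_allRange c_rel_1051) (range_glue (range_of_allRange c_rel_1052) (range_glue (range_of_allRange c_rel_1053) (range_glue (range_of_allRange c_rel_1054) (range_glue (range_of_allRange c_rel_1055) (range_glue (range_of_allRange c_rel_1056) (range_glue (range_of_allRange c_rel_1057) (range_glue (range_of_allRange c_rel_1058) (range_glue (range_of_allRange c_rel_1059) (range_glue (range_of_allRange c_rel_1060) (range_glue (range_of_allRange c_rel_1061) (range_glue (range_of_allRange c_rel_1062) (range_glue (range_of_allRange c_rel_1063) (range_glue (range_of_allRange c_rel_1064) (range_glue (range_of_allRange c_rel_1065) (range_glue (range_of_allRange c_rel_1066) (range_glue (range_of_allRange c_rel_1067)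 (range_glue (range_of_allRange c_rel_1068) (range_glue (range_of_allRange c_rel_1069) (range_glue (range_of_allRange c_rel_1070) (range_glue (range_of_allRange c_rel_1071) (range_glue (range_of_allRange c_rel_1072) (range_glue (range_of_allRange c_rel_1073) (range_glue (range_of_allRange c_rel_1074) (range_glue (range_of_allRange c_rel_1075) (range_glue (range_of_allRange c_rel_1076) (range_glue (range_of_allRange c_rel_1077) (range_glue (range_of_allRange c_rel_1078) (range_of_allRange c_rel_1079))))))))))))))))))))))))))))))))))))))))
theorem h_rel_p27 : ∀ t, 4234690 ≤ t → t < 4310601 → D.relOK t = true :=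
  (range_glue (range_of_allRange c_rel_1080) (range_glue (range_of_allRange c_rel_1081) (range_glue (range_of_allRange c_rel_1082) (range_glue (range_of_allRange c_rel_1083) (range_glue (range_of_allRange c_rel_1084) (range_glue (range_of_allRange c_rel_1085) (range_glue (range_of_allRange c_rel_1086) (range_glue (range_of_allRange c_rel_1087) (range_glue (range_of_allRange c_rel_1088) (range_glue (range_of_allRange c_rel_1089) (range_glue (range_of_allRange c_rel_1090) (range_glue (range_of_allRange c_rel_1091) (range_glue (range_of_allRange c_rel_1092) (range_glue (range_of_allRange c_rel_1093) (range_glue (range_of_allRange c_rel_1094) (range_glue (range_of_allRange c_rel_1095) (range_glue (range_of_allRange c_rel_1096) (range_glue (range_of_allRange c_rel_1097) (range_glue (range_of_allRange c_rel_1098) (range_glue (range_of_allRange c_rel_1099) (range_glue (range_of_allRange c_rel_1100) (range_glue (range_of_allRange c_rel_1101) (range_glue (range_of_allRange c_rel_1102) (range_glue (range_of_allRange c_rel_1103) (range_glue (range_of_allRange c_rel_1104) (range_glue (range_of_allRange c_rel_1105) (range_glue (range_of_allRange c_rel_1106) (range_glue (range_of_allRange c_rel_1107)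 (range_glue (range_of_allRange c_rel_1108) (range_glue (range_of_allRange c_rel_1109) (range_glue (range_of_allRange c_rel_1110) (range_glue (range_of_allRange c_rel_1111) (range_glue (range_of_allRange c_rel_1112) (range_glue (range_of_allRange c_rel_1113) (range_glue (range_of_allRange c_rel_1114) (range_glue (range_of_allRange c_rel_1115) (range_glue (range_of_allRange c_rel_1116) (range_glue (range_of_allRange c_rel_1117) (range_glue (range_of_allRange c_rel_1118) (range_of_allRange c_rel_1119))))))))))))))))))))))))))))))))))))))))
theorem h_rel_p28 : ∀ t, 4310601 ≤ t → t < 4388234 → D.relOK t = true :=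
  (range_glue (range_of_allRange c_rel_1120) (range_glue (range_of_allRange c_rel_1121) (range_glue (range_of_allRange c_rel_1122) (range_glue (range_of_allRange c_rel_1123) (range_glue (range_of_allRange c_rel_1124) (range_glue (range_of_allRange c_rel_1125) (range_glue (range_of_allRange c_rel_1126) (range_glue (range_of_allRange c_rel_1127) (range_glue (range_of_allRange c_rel_1128) (range_glue (range_of_allRange c_rel_1129) (range_glue (range_of_allRange c_rel_1130) (range_glue (range_of_allRange c_rel_1131) (range_glue (range_of_allRange c_rel_1132) (range_glue (range_of_allRange c_rel_1133) (range_glue (range_of_allRange c_rel_1134) (range_glue (range_of_allRange c_rel_1135) (range_glue (range_of_allRange c_rel_1136) (range_glue (range_of_allRange c_rel_1137) (range_glue (range_of_allRange c_rel_1138) (range_glue (range_of_allRange c_rel_1139) (range_glue (range_of_allRange c_rel_1140) (range_glue (range_of_allRange c_rel_1141) (range_glue (range_of_allRange c_rel_1142) (range_glue (range_of_allRange c_rel_1143) (range_glue (range_of_allRange c_rel_1144) (range_glue (range_of_allRange c_rel_1145) (range_glue (range_of_allRange c_rel_1146) (range_glue (range_of_allRange c_rel_1147)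 (range_glue (range_of_allRange c_rel_1148) (range_glue (range_of_allRange c_rel_1149) (range_glue (range_of_allRange c_rel_1150) (range_glue (range_of_allRange c_rel_1151) (range_glue (range_of_allRange c_rel_1152) (range_glue (range_of_allRange c_rel_1153) (range_glue (range_of_allRange c_rel_1154) (range_glue (range_of_allRange c_rel_1155) (range_glue (range_of_allRange c_rel_1156) (range_glue (range_of_allRange c_rel_1157) (range_glue (range_of_allRange c_rel_1158) (range_of_allRange c_rel_1159))))))))))))))))))))))))))))))))))))))))
theorem h_rel_p29 : ∀ t, 4388234 ≤ t → t < 4465194 → D.relOK t = true :=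
  (range_glue (range_of_allRange c_rel_1160) (range_glue (range_of_allRange c_rel_1161) (range_glue (range_of_allRange c_rel_1162) (range_glue (range_of_allRange c_rel_1163) (range_glue (range_of_allRange c_rel_1164) (range_glue (range_of_allRange c_rel_1165) (range_glue (range_of_allRange c_rel_1166) (range_glue (range_of_allRange c_rel_1167) (range_glue (range_of_allRange c_rel_1168) (range_glue (range_of_allRange c_rel_1169) (range_glue (range_of_allRange c_rel_1170) (range_glue (range_of_allRange c_rel_1171) (range_glue (range_of_allRange c_rel_1172) (range_glue (range_of_allRange c_rel_1173) (range_glue (range_of_allRange c_rel_1174) (range_glue (range_of_allRange c_rel_1175) (range_glue (range_of_allRange c_rel_1176) (range_glue (range_of_allRange c_rel_1177) (range_glue (range_of_allRange c_rel_1178) (range_glue (range_of_allRange c_rel_1179) (range_glue (range_of_allRange c_rel_1180) (range_glue (range_of_allRange c_rel_1181) (range_glue (range_of_allRange c_rel_1182) (range_glue (range_of_allRange c_rel_1183) (range_glue (range_of_allRange c_rel_1184) (range_glue (range_of_allRange c_rel_1185) (range_glue (range_of_allRange c_rel_1186) (range_glue (range_of_allRange c_rel_1187)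 (range_glue (range_of_allRange c_rel_1188) (range_glue (range_of_allRange c_rel_1189) (range_glue (range_of_allRange c_rel_1190) (range_glue (range_of_allRange c_rel_1191) (range_glue (range_of_allRange c_rel_1192) (range_glue (range_of_allRange c_rel_1193) (range_glue (range_of_allRange c_rel_1194) (range_glue (range_of_allRange c_rel_1195) (range_glue (range_of_allRange c_rel_1196) (range_glue (range_of_allRange c_rel_1197) (range_glue (range_of_allRange c_rel_1198) (range_of_allRange c_rel_1199))))))))))))))))))))))))))))))))))))))))
theorem h_rel_p30 : ∀ t, 4465194 ≤ t → t < 4540827 → D.relOK t = true :=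
  (range_glue (range_of_allRange c_rel_1200) (range_glue (range_of_allRange c_rel_1201) (range_glue (range_of_allRange c_rel_1202) (range_glue (range_of_allRange c_rel_1203) (range_glue (range_of_allRange c_rel_1204) (range_glue (range_of_allRange c_rel_1205) (range_glue (range_of_allRange c_rel_1206) (range_glue (range_of_allRange c_rel_1207) (range_glue (range_of_allRange c_rel_1208) (range_glue (range_of_allRange c_rel_1209) (range_glue (range_of_allRange c_rel_1210) (range_glue (range_of_allRange c_rel_1211) (range_glue (range_of_allRange c_rel_1212) (range_glue (range_of_allRange c_rel_1213) (range_glue (range_of_allRange c_rel_1214) (range_glue (range_of_allRange c_rel_1215) (range_glue (range_of_allRange c_rel_1216) (range_glue (range_of_allRange c_rel_1217) (range_glue (range_of_allRange c_rel_1218) (range_glue (range_of_allRange c_rel_1219) (range_glue (range_of_allRange c_rel_1220) (range_glue (range_of_allRange c_rel_1221) (range_glue (range_of_allRange c_rel_1222) (range_glue (range_of_allRange c_rel_1223) (range_glue (range_of_allRange c_rel_1224) (range_glue (range_of_allRange c_rel_1225) (range_glue (range_of_allRange c_rel_1226) (range_glue (range_of_allRange c_rel_1227)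 (range_glue (range_of_allRange c_rel_1228) (range_glue (range_of_allRange c_rel_1229) (range_glue (range_of_allRange c_rel_1230) (range_glue (range_of_allRange c_rel_1231) (range_glue (range_of_allRange c_rel_1232) (range_glue (range_of_allRange c_rel_1233) (range_glue (range_of_allRange c_rel_1234) (range_glue (range_of_allRange c_rel_1235) (range_glue (range_of_allRange c_rel_1236) (range_glue (range_of_allRange c_rel_1237) (range_glue (range_of_allRange c_rel_1238) (range_of_allRange c_rel_1239))))))))))))))))))))))))))))))))))))))))
theorem h_rel_p31 : ∀ t, 4540827 ≤ t → t < 4615559 → D.relOK t = true :=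
  (range_glue (range_of_allRange c_rel_1240) (range_glue (range_of_allRange c_rel_1241) (range_glue (range_of_allRange c_rel_1242) (range_glue (range_of_allRange c_rel_1243) (range_glue (range_of_allRange c_rel_1244) (range_glue (range_of_allRange c_rel_1245) (range_glue (range_of_allRange c_rel_1246) (range_glue (range_of_allRange c_rel_1247) (range_glue (range_of_allRange c_rel_1248) (range_glue (range_of_allRange c_rel_1249) (range_glue (range_of_allRange c_rel_1250) (range_glue (range_of_allRange c_rel_1251) (range_glue (range_of_allRange c_rel_1252) (range_glue (range_of_allRange c_rel_1253) (range_glue (range_of_allRange c_rel_1254) (range_glue (range_of_allRange c_rel_1255) (range_glue (range_of_allRange c_rel_1256) (range_glue (range_of_allRange c_rel_1257) (range_glue (range_of_allRange c_rel_1258) (range_glue (range_of_allRange c_rel_1259) (range_glue (range_of_allRange c_rel_1260) (range_glue (range_of_allRange c_rel_1261) (range_glue (range_of_allRange c_rel_1262) (range_glue (range_of_allRange c_rel_1263) (range_glue (range_of_allRange c_rel_1264) (range_glue (range_of_allRange c_rel_1265) (range_glue (range_of_allRange c_rel_1266) (range_glue (range_of_allRange c_rel_1267)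 (range_glue (range_of_allRange c_rel_1268) (range_glue (range_of_allRange c_rel_1269) (range_glue (range_of_allRange c_rel_1270) (range_glue (range_of_allRange c_rel_1271) (range_glue (range_of_allRange c_rel_1272) (range_glue (range_of_allRange c_rel_1273) (range_glue (range_of_allRange c_rel_1274) (range_glue (range_of_allRange c_rel_1275) (range_glue (range_of_allRange c_rel_1276) (range_glue (range_of_allRange c_rel_1277) (range_glue (range_of_allRange c_rel_1278) (range_of_allRange c_rel_1279))))))))))))))))))))))))))))))))))))))))
theorem h_rel_p32 : ∀ t, 4615559 ≤ t → t < 4688236 → D.relOK t = true :=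
  (range_glue (range_of_allRange c_rel_1280) (range_glue (range_of_allRange c_rel_1281) (range_glue (range_of_allRange c_rel_1282) (range_glue (range_of_allRange c_rel_1283) (range_glue (range_of_allRange c_rel_1284) (range_glue (range_of_allRange c_rel_1285) (range_glue (range_of_allRange c_rel_1286) (range_glue (range_of_allRange c_rel_1287) (range_glue (range_of_allRange c_rel_1288) (range_glue (range_of_allRange c_rel_1289) (range_glue (range_of_allRange c_rel_1290) (range_glue (range_of_allRange c_rel_1291) (range_glue (range_of_allRange c_rel_1292) (range_glue (range_of_allRange c_rel_1293) (range_glue (range_of_allRange c_rel_1294) (range_glue (range_of_allRange c_rel_1295) (range_glue (range_of_allRange c_rel_1296) (range_glue (range_of_allRange c_rel_1297) (range_glue (range_of_allRange c_rel_1298) (range_glue (range_of_allRange c_rel_1299) (range_glue (range_of_allRange c_rel_1300) (range_glue (range_of_allRange c_rel_1301) (range_glue (range_of_allRange c_rel_1302) (range_glue (range_of_allRange c_rel_1303) (range_glue (range_of_allRange c_rel_1304) (range_glue (range_of_allRange c_rel_1305) (range_glue (range_of_allRange c_rel_1306) (range_glue (range_of_allRange c_rel_1307)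 (range_glue (range_of_allRange c_rel_1308) (range_glue (range_of_allRange c_rel_1309) (range_glue (range_of_allRange c_rel_1310) (range_glue (range_of_allRange c_rel_1311) (range_glue (range_of_allRange c_rel_1312) (range_glue (range_of_allRange c_rel_1313) (range_glue (range_of_allRange c_rel_1314) (range_glue (range_of_allRange c_rel_1315) (range_glue (range_of_allRange c_rel_1316) (range_glue (range_of_allRange c_rel_1317) (range_glue (range_of_allRange c_rel_1318) (range_of_allRange c_rel_1319))))))))))))))))))))))))))))))))))))))))
theorem h_rel_p33 : ∀ t, 4688236 ≤ t → t < 4759506 → D.relOK t = true :=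
  (range_glue (range_of_allRange c_rel_1320) (range_glue (range_of_allRange c_rel_1321) (range_glue (range_of_allRange c_rel_1322) (range_glue (range_of_allRange c_rel_1323) (range_glue (range_of_allRange c_rel_1324) (range_glue (range_of_allRange c_rel_1325) (range_glue (range_of_allRange c_rel_1326) (range_glue (range_of_allRange c_rel_1327) (range_glue (range_of_allRange c_rel_1328) (range_glue (range_of_allRange c_rel_1329) (range_glue (range_of_allRange c_rel_1330) (range_glue (range_of_allRange c_rel_1331) (range_glue (range_of_allRange c_rel_1332) (range_glue (range_of_allRange c_rel_1333) (range_glue (range_of_allRange c_rel_1334) (range_glue (range_of_allRange c_rel_1335) (range_glue (range_of_allRange c_rel_1336) (range_glue (range_of_allRange c_rel_1337) (range_glue (range_of_allRange c_rel_1338) (range_glue (range_of_allRange c_rel_1339) (range_glue (range_of_allRange c_rel_1340) (range_glue (range_of_allRange c_rel_1341) (range_glue (range_of_allRange c_rel_1342) (range_glue (range_of_allRange c_rel_1343) (range_glue (range_of_allRange c_rel_1344) (range_glue (range_of_allRange c_rel_1345) (range_glue (range_of_allRange c_rel_1346) (range_glue (range_of_allRange c_rel_1347)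 (range_glue (range_of_allRange c_rel_1348) (range_glue (range_of_allRange c_rel_1349) (range_glue (range_of_allRange c_rel_1350) (range_glue (range_of_allRange c_rel_1351) (range_glue (range_of_allRange c_rel_1352) (range_glue (range_of_allRange c_rel_1353) (range_glue (range_of_allRange c_rel_1354) (range_glue (range_of_allRange c_rel_1355) (range_glue (range_of_allRange c_rel_1356) (range_glue (range_of_allRange c_rel_1357) (range_glue (range_of_allRange c_rel_1358) (range_of_allRange c_rel_1359))))))))))))))))))))))))))))))))))))))))
theorem h_rel_p34 : ∀ t, 4759506 ≤ t → t < 4830827 → D.relOK t = true :=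
  (range_glue (range_of_allRange c_rel_1360) (range_glue (range_of_allRange c_rel_1361) (range_glue (range_of_allRange c_rel_1362) (range_glue (range_of_allRange c_rel_1363) (range_glue (range_of_allRange c_rel_1364) (range_glue (range_of_allRange c_rel_1365) (range_glue (range_of_allRange c_rel_1366) (range_glue (range_of_allRange c_rel_1367) (range_glue (range_of_allRange c_rel_1368) (range_glue (range_of_allRange c_rel_1369) (range_glue (range_of_allRange c_rel_1370) (range_glue (range_of_allRange c_rel_1371) (range_glue (range_of_allRange c_rel_1372) (range_glue (range_of_allRange c_rel_1373) (range_glue (range_of_allRange c_rel_1374) (range_glue (range_of_allRange c_rel_1375) (range_glue (range_of_allRange c_rel_1376) (range_glue (range_of_allRange c_rel_1377) (range_glue (range_of_allRange c_rel_1378) (range_glue (range_of_allRange c_rel_1379) (range_glue (range_of_allRange c_rel_1380) (range_glue (range_of_allRange c_rel_1381) (range_glue (range_of_allRange c_rel_1382) (range_glue (range_of_allRange c_rel_1383) (range_glue (range_of_allRange c_rel_1384) (range_glue (range_of_allRange c_rel_1385) (range_glue (range_of_allRange c_rel_1386) (range_glue (range_of_allRange c_rel_1387)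 (range_glue (range_of_allRange c_rel_1388) (range_glue (range_of_allRange c_rel_1389) (range_glue (range_of_allRange c_rel_1390) (range_glue (range_of_allRange c_rel_1391) (range_glue (range_of_allRange c_rel_1392) (range_glue (range_of_allRange c_rel_1393) (range_glue (range_of_allRange c_rel_1394) (range_glue (range_of_allRange c_rel_1395) (range_glue (range_of_allRange c_rel_1396) (range_glue (range_of_allRange c_rel_1397) (range_glue (range_of_allRange c_rel_1398) (range_of_allRange c_rel_1399))))))))))))))))))))))))))))))))))))))))
theorem h_rel_p35 : ∀ t, 4830827 ≤ t → t < 4899432 → D.relOK t = true :=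
  (range_glue (range_of_allRange c_rel_1400) (range_glue (range_of_allRange c_rel_1401) (range_glue (range_of_allRange c_rel_1402) (range_glue (range_of_allRange c_rel_1403) (range_glue (range_of_allRange c_rel_1404) (range_glue (range_of_allRange c_rel_1405) (range_glue (range_of_allRange c_rel_1406) (range_glue (range_of_allRange c_rel_1407) (range_glue (range_of_allRange c_rel_1408) (range_glue (range_of_allRange c_rel_1409) (range_glue (range_of_allRange c_rel_1410) (range_glue (range_of_allRange c_rel_1411) (range_glue (range_of_allRange c_rel_1412) (range_glue (range_of_allRange c_rel_1413) (range_glue (range_of_allRange c_rel_1414) (range_glue (range_of_allRange c_rel_1415) (range_glue (range_of_allRange c_rel_1416) (range_glue (range_of_allRange c_rel_1417) (range_glue (range_of_allRange c_rel_1418) (range_glue (range_of_allRange c_rel_1419) (range_glue (range_of_allRange c_rel_1420) (range_glue (range_of_allRange c_rel_1421) (range_glue (range_of_allRange c_rel_1422) (range_glue (range_of_allRange c_rel_1423) (range_glue (range_of_allRange c_rel_1424) (range_glue (range_of_allRange c_rel_1425) (range_glue (range_of_allRange c_rel_1426) (range_glue (range_of_allRange c_rel_1427)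 (range_glue (range_of_allRange c_rel_1428) (range_glue (range_of_allRange c_rel_1429) (range_glue (range_of_allRange c_rel_1430) (range_glue (range_of_allRange c_rel_1431) (range_glue (range_of_allRange c_rel_1432) (range_glue (range_of_allRange c_rel_1433) (range_glue (range_of_allRange c_rel_1434) (range_glue (range_of_allRange c_rel_1435) (range_glue (range_of_allRange c_rel_1436) (range_glue (range_of_allRange c_rel_1437) (range_glue (range_of_allRange c_rel_1438) (range_of_allRange c_rel_1439))))))))))))))))))))))))))))))))))))))))
theorem h_rel_p36 : ∀ t, 4899432 ≤ t → t < 4966538 → D.relOK t = true :=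
  (range_glue (range_of_allRange c_rel_1440) (range_glue (range_of_allRange c_rel_1441) (range_glue (range_of_allRange c_rel_1442) (range_glue (range_of_allRange c_rel_1443) (range_glue (range_of_allRange c_rel_1444) (range_glue (range_of_allRange c_rel_1445) (range_glue (range_of_allRange c_rel_1446) (range_glue (range_of_allRange c_rel_1447) (range_glue (range_of_allRange c_rel_1448) (range_glue (range_of_allRange c_rel_1449) (range_glue (range_of_allRange c_rel_1450) (range_glue (range_of_allRange c_rel_1451) (range_glue (range_of_allRange c_rel_1452) (range_glue (range_of_allRange c_rel_1453) (range_glue (range_of_allRange c_rel_1454) (range_glue (range_of_allRange c_rel_1455) (range_glue (range_of_allRange c_rel_1456) (range_glue (range_of_allRange c_rel_1457) (range_glue (range_of_allRange c_rel_1458) (range_glue (range_of_allRange c_rel_1459) (range_glue (range_of_allRange c_rel_1460) (range_glue (range_of_allRange c_rel_1461) (range_glue (range_of_allRange c_rel_1462) (range_glue (range_of_allRange c_rel_1463) (range_glue (range_of_allRange c_rel_1464) (range_glue (range_of_allRange c_rel_1465) (range_glue (range_of_allRange c_rel_1466) (range_glue (range_of_allRange c_rel_1467)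 (range_glue (range_of_allRange c_rel_1468) (range_glue (range_of_allRange c_rel_1469) (range_glue (range_of_allRange c_rel_1470) (range_glue (range_of_allRange c_rel_1471) (range_glue (range_of_allRange c_rel_1472) (range_glue (range_of_allRange c_rel_1473) (range_glue (range_of_allRange c_rel_1474) (range_glue (range_of_allRange c_rel_1475) (range_glue (range_of_allRange c_rel_1476) (range_glue (range_of_allRange c_rel_1477) (range_glue (range_of_allRange c_rel_1478) (range_of_allRange c_rel_1479))))))))))))))))))))))))))))))))))))))))
theorem h_rel_p37 : ∀ t, 4966538 ≤ t → t < 5032033 → D.relOK t = true :=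
  (range_glue (range_of_allRange c_rel_1480) (range_glue (range_of_allRange c_rel_1481) (range_glue (range_of_allRange c_rel_1482) (range_glue (range_of_allRange c_rel_1483) (range_glue (range_of_allRange c_rel_1484) (range_glue (range_of_allRange c_rel_1485) (range_glue (range_of_allRange c_rel_1486) (range_glue (range_of_allRange c_rel_1487) (range_glue (range_of_allRange c_rel_1488) (range_glue (range_of_allRange c_rel_1489) (range_glue (range_of_allRange c_rel_1490) (range_glue (range_of_allRange c_rel_1491) (range_glue (range_of_allRange c_rel_1492) (range_glue (range_of_allRange c_rel_1493) (range_glue (range_of_allRange c_rel_1494) (range_glue (range_of_allRange c_rel_1495) (range_glue (range_of_allRange c_rel_1496) (range_glue (range_of_allRange c_rel_1497) (range_glue (range_of_allRange c_rel_1498) (range_glue (range_of_allRange c_rel_1499) (range_glue (range_of_allRange c_rel_1500) (range_glue (range_of_allRange c_rel_1501) (range_glue (range_of_allRange c_rel_1502) (range_glue (range_of_allRange c_rel_1503) (range_glue (range_of_allRange c_rel_1504) (range_glue (range_of_allRange c_rel_1505) (range_glue (range_of_allRange c_rel_1506) (range_glue (range_of_allRange c_rel_1507)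 (range_glue (range_of_allRange c_rel_1508) (range_glue (range_of_allRange c_rel_1509) (range_glue (range_of_allRange c_rel_1510) (range_glue (range_of_allRange c_rel_1511) (range_glue (range_of_allRange c_rel_1512) (range_glue (range_of_allRange c_rel_1513) (range_glue (range_of_allRange c_rel_1514) (range_glue (range_of_allRange c_rel_1515) (range_glue (range_of_allRange c_rel_1516) (range_glue (range_of_allRange c_rel_1517) (range_glue (range_of_allRange c_rel_1518) (range_of_allRange c_rel_1519))))))))))))))))))))))))))))))))))))))))
theorem h_rel_p38 : ∀ t, 5032033 ≤ t → t < 5096795 → D.relOK t = true :=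
  (range_glue (range_of_allRange c_rel_1520) (range_glue (range_of_allRange c_rel_1521) (range_glue (range_of_allRange c_rel_1522) (range_glue (range_of_allRange c_rel_1523) (range_glue (range_of_allRange c_rel_1524) (range_glue (range_of_allRange c_rel_1525) (range_glue (range_of_allRange c_rel_1526) (range_glue (range_of_allRange c_rel_1527) (range_glue (range_of_allRange c_rel_1528) (range_glue (range_of_allRange c_rel_1529) (range_glue (range_of_allRange c_rel_1530) (range_glue (range_of_allRange c_rel_1531) (range_glue (range_of_allRange c_rel_1532) (range_glue (range_of_allRange c_rel_1533) (range_glue (range_of_allRange c_rel_1534) (range_glue (range_of_allRange c_rel_1535) (range_glue (range_of_allRange c_rel_1536) (range_glue (range_of_allRange c_rel_1537) (range_glue (range_of_allRange c_rel_1538) (range_glue (range_of_allRange c_rel_1539) (range_glue (range_of_allRange c_rel_1540) (range_glue (range_of_allRange c_rel_1541) (range_glue (range_of_allRange c_rel_1542) (range_glue (range_of_allRange c_rel_1543) (range_glue (range_of_allRange c_rel_1544) (range_glue (range_of_allRange c_rel_1545) (range_glue (range_of_allRange c_rel_1546) (range_glue (range_of_allRange c_rel_1547)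 (range_glue (range_of_allRange c_rel_1548) (range_glue (range_of_allRange c_rel_1549) (range_glue (range_of_allRange c_rel_1550) (range_glue (range_of_allRange c_rel_1551) (range_glue (range_of_allRange c_rel_1552) (range_glue (range_of_allRange c_rel_1553) (range_glue (range_of_allRange c_rel_1554) (range_glue (range_of_allRange c_rel_1555) (range_glue (range_of_allRange c_rel_1556) (range_glue (range_of_allRange c_rel_1557) (range_glue (range_of_allRange c_rel_1558) (range_of_allRange c_rel_1559))))))))))))))))))))))))))))))))))))))))
theorem h_rel_p39 : ∀ t, 5096795 ≤ t → t < 5160668 → D.relOK t = true :=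
  (range_glue (range_of_allRange c_rel_1560) (range_glue (range_of_allRange c_rel_1561) (range_glue (range_of_allRange c_rel_1562) (range_glue (range_of_allRange c_rel_1563) (range_glue (range_of_allRange c_rel_1564) (range_glue (range_of_allRange c_rel_1565) (range_glue (range_of_allRange c_rel_1566) (range_glue (range_of_allRange c_rel_1567) (range_glue (range_of_allRange c_rel_1568) (range_glue (range_of_allRange c_rel_1569) (range_glue (range_of_allRange c_rel_1570) (range_glue (range_of_allRange c_rel_1571) (range_glue (range_of_allRange c_rel_1572) (range_glue (range_of_allRange c_rel_1573) (range_glue (range_of_allRange c_rel_1574) (range_glue (range_of_allRange c_rel_1575) (range_glue (range_of_allRange c_rel_1576) (range_glue (range_of_allRange c_rel_1577) (range_glue (range_of_allRange c_rel_1578) (range_glue (range_of_allRange c_rel_1579) (range_glue (range_of_allRange c_rel_1580) (range_glue (range_of_allRange c_rel_1581) (range_glue (range_of_allRange c_rel_1582) (range_glue (range_of_allRange c_rel_1583) (range_glue (range_of_allRange c_rel_1584) (range_glue (range_of_allRange c_rel_1585) (range_glue (range_of_allRange c_rel_1586) (range_glue (range_of_allRange c_rel_1587)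 (range_glue (range_of_allRange c_rel_1588) (range_glue (range_of_allRange c_rel_1589) (range_glue (range_of_allRange c_rel_1590) (range_glue (range_of_allRange c_rel_1591) (range_glue (range_of_allRange c_rel_1592) (range_glue (range_of_allRange c_rel_1593) (range_glue (range_of_allRange c_rel_1594) (range_glue (range_of_allRange c_rel_1595) (range_glue (range_of_allRange c_rel_1596) (range_glue (range_of_allRange c_rel_1597) (range_glue (range_of_allRange c_rel_1598) (range_of_allRange c_rel_1599))))))))))))))))))))))))))))))))))))))))
theorem h_rel_p40 : ∀ t, 5160668 ≤ t → t < 5223184 → D.relOK t = true :=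
  (range_glue (range_of_allRange c_rel_1600) (range_glue (range_of_allRange c_rel_1601) (range_glue (range_of_allRange c_rel_1602) (range_glue (range_of_allRange c_rel_1603) (range_glue (range_of_allRange c_rel_1604) (range_glue (range_of_allRange c_rel_1605) (range_glue (range_of_allRange c_rel_1606) (range_glue (range_of_allRange c_rel_1607) (range_glue (range_of_allRange c_rel_1608) (range_glue (range_of_allRange c_rel_1609) (range_glue (range_of_allRange c_rel_1610) (range_glue (range_of_allRange c_rel_1611) (range_glue (range_of_allRange c_rel_1612) (range_glue (range_of_allRange c_rel_1613) (range_glue (range_of_allRange c_rel_1614) (range_glue (range_of_allRange c_rel_1615) (range_glue (range_of_allRange c_rel_1616) (range_glue (range_of_allRange c_rel_1617) (range_glue (range_of_allRange c_rel_1618) (range_glue (range_of_allRange c_rel_1619) (range_glue (range_of_allRange c_rel_1620) (range_glue (range_of_allRange c_rel_1621) (range_glue (range_of_allRange c_rel_1622) (range_glue (range_of_allRange c_rel_1623) (range_glue (range_of_allRange c_rel_1624) (range_glue (range_of_allRange c_rel_1625) (range_glue (range_of_allRange c_rel_1626) (range_glue (range_of_allRange c_rel_1627)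 (range_glue (range_of_allRange c_rel_1628) (range_glue (range_of_allRange c_rel_1629) (range_glue (range_of_allRange c_rel_1630) (range_glue (range_of_allRange c_rel_1631) (range_glue (range_of_allRange c_rel_1632) (range_glue (range_of_allRange c_rel_1633) (range_glue (range_of_allRange c_rel_1634) (range_glue (range_of_allRange c_rel_1635) (range_glue (range_of_allRange c_rel_1636) (range_glue (range_of_allRange c_rel_1637) (range_glue (range_of_allRange c_rel_1638) (range_of_allRange c_rel_1639))))))))))))))))))))))))))))))))))))))))
theorem h_rel_p41 : ∀ t, 5223184 ≤ t → t < 5285603 → D.relOK t = true :=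
  (range_glue (range_of_allRange c_rel_1640) (range_glue (range_of_allRange c_rel_1641) (range_glue (range_of_allRange c_rel_1642) (range_glue (range_of_allRange c_rel_1643) (range_glue (range_of_allRange c_rel_1644) (range_glue (range_of_allRange c_rel_1645) (range_glue (range_of_allRange c_rel_1646) (range_glue (range_of_allRange c_rel_1647) (range_glue (range_of_allRange c_rel_1648) (range_glue (range_of_allRange c_rel_1649) (range_glue (range_of_allRange c_rel_1650) (range_glue (range_of_allRange c_rel_1651) (range_glue (range_of_allRange c_rel_1652) (range_glue (range_of_allRange c_rel_1653) (range_glue (range_of_allRange c_rel_1654) (range_glue (range_of_allRange c_rel_1655) (range_glue (range_of_allRange c_rel_1656) (range_glue (range_of_allRange c_rel_1657) (range_glue (range_of_allRange c_rel_1658) (range_glue (range_of_allRange c_rel_1659) (range_glue (range_of_allRange c_rel_1660) (range_glue (range_of_allRange c_rel_1661) (range_glue (range_of_allRange c_rel_1662) (range_glue (range_of_allRange c_rel_1663) (range_glue (range_of_allRange c_rel_1664) (range_glue (range_of_allRange c_rel_1665) (range_glue (range_of_allRange c_rel_1666) (range_glue (range_of_allRange c_rel_1667)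 (range_glue (range_of_allRange c_rel_1668) (range_glue (range_of_allRange c_rel_1669) (range_glue (range_of_allRange c_rel_1670) (range_glue (range_of_allRange c_rel_1671) (range_glue (range_of_allRange c_rel_1672) (range_glue (range_of_allRange c_rel_1673) (range_glue (range_of_allRange c_rel_1674) (range_glue (range_of_allRange c_rel_1675) (range_glue (range_of_allRange c_rel_1676) (range_glue (range_of_allRange c_rel_1677) (range_glue (range_of_allRange c_rel_1678) (range_of_allRange c_rel_1679))))))))))))))))))))))))))))))))))))))))
theorem h_rel_p42 : ∀ t, 5285603 ≤ t → t < 5346579 → D.relOK t = true :=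
  (range_glue (range_of_allRange c_rel_1680) (range_glue (range_of_allRange c_rel_1681) (range_glue (range_of_allRange c_rel_1682) (range_glue (range_of_allRange c_rel_1683) (range_glue (range_of_allRange c_rel_1684) (range_glue (range_of_allRange c_rel_1685) (range_glue (range_of_allRange c_rel_1686) (range_glue (range_of_allRange c_rel_1687) (range_glue (range_of_allRange c_rel_1688) (range_glue (range_of_allRange c_rel_1689) (range_glue (range_of_allRange c_rel_1690) (range_glue (range_of_allRange c_rel_1691) (range_glue (range_of_allRange c_rel_1692) (range_glue (range_of_allRange c_rel_1693) (range_glue (range_of_allRange c_rel_1694) (range_glue (range_of_allRange c_rel_1695) (range_glue (range_of_allRange c_rel_1696) (range_glue (range_of_allRange c_rel_1697) (range_glue (range_of_allRange c_rel_1698) (range_glue (range_of_allRange c_rel_1699) (range_glue (range_of_allRange c_rel_1700) (range_glue (range_of_allRange c_rel_1701) (range_glue (range_of_allRange c_rel_1702) (range_glue (range_of_allRange c_rel_1703) (range_glue (range_of_allRange c_rel_1704) (range_glue (range_of_allRange c_rel_1705) (range_glue (range_of_allRange c_rel_1706) (range_glue (range_of_allRange c_rel_1707)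 (range_glue (range_of_allRange c_rel_1708) (range_glue (range_of_allRange c_rel_1709) (range_glue (range_of_allRange c_rel_1710) (range_glue (range_of_allRange c_rel_1711) (range_glue (range_of_allRange c_rel_1712) (range_glue (range_of_allRange c_rel_1713) (range_glue (range_of_allRange c_rel_1714) (range_glue (range_of_allRange c_rel_1715) (range_glue (range_of_allRange c_rel_1716) (range_glue (range_of_allRange c_rel_1717) (range_glue (range_of_allRange c_rel_1718) (range_of_allRange c_rel_1719))))))))))))))))))))))))))))))))))))))))
theorem h_rel_p43 : ∀ t, 5346579 ≤ t → t < 5406195 → D.relOK t = true :=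
  (range_glue (range_of_allRange c_rel_1720) (range_glue (range_of_allRange c_rel_1721) (range_glue (range_of_allRange c_rel_1722) (range_glue (range_of_allRange c_rel_1723) (range_glue (range_of_allRange c_rel_1724) (range_glue (range_of_allRange c_rel_1725) (range_glue (range_of_allRange c_rel_1726) (range_glue (range_of_allRange c_rel_1727) (range_glue (range_of_allRange c_rel_1728) (range_glue (range_of_allRange c_rel_1729) (range_glue (range_of_allRange c_rel_1730) (range_glue (range_of_allRange c_rel_1731) (range_glue (range_of_allRange c_rel_1732) (range_glue (range_of_allRange c_rel_1733) (range_glue (range_of_allRange c_rel_1734) (range_glue (range_of_allRange c_rel_1735) (range_glue (range_of_allRange c_rel_1736) (range_glue (range_of_allRange c_rel_1737) (range_glue (range_of_allRange c_rel_1738) (range_glue (range_of_allRange c_rel_1739) (range_glue (range_of_allRange c_rel_1740) (range_glue (range_of_allRange c_rel_1741) (range_glue (range_of_allRange c_rel_1742) (range_glue (range_of_allRange c_rel_1743) (range_glue (range_of_allRange c_rel_1744) (range_glue (range_of_allRange c_rel_1745) (range_glue (range_of_allRange c_rel_1746) (range_glue (range_of_allRange c_rel_1747)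 (range_glue (range_of_allRange c_rel_1748) (range_glue (range_of_allRange c_rel_1749) (range_glue (range_of_allRange c_rel_1750) (range_glue (range_of_allRange c_rel_1751) (range_glue (range_of_allRange c_rel_1752) (range_glue (range_of_allRange c_rel_1753) (range_glue (range_of_allRange c_rel_1754) (range_glue (range_of_allRange c_rel_1755) (range_glue (range_of_allRange c_rel_1756) (range_glue (range_of_allRange c_rel_1757) (range_glue (range_of_allRange c_rel_1758) (range_of_allRange c_rel_1759))))))))))))))))))))))))))))))))))))))))
theorem h_rel_p44 : ∀ t, 5406195 ≤ t → t < 5466148 → D.relOK t = true :=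
  (range_glue (range_of_allRange c_rel_1760) (range_glue (range_of_allRange c_rel_1761) (range_glue (range_of_allRange c_rel_1762) (range_glue (range_of_allRange c_rel_1763) (range_glue (range_of_allRange c_rel_1764) (range_glue (range_of_allRange c_rel_1765) (range_glue (range_of_allRange c_rel_1766) (range_glue (range_of_allRange c_rel_1767) (range_glue (range_of_allRange c_rel_1768) (range_glue (range_of_allRange c_rel_1769) (range_glue (range_of_allRange c_rel_1770) (range_glue (range_of_allRange c_rel_1771) (range_glue (range_of_allRange c_rel_1772) (range_glue (range_of_allRange c_rel_1773) (range_glue (range_of_allRange c_rel_1774) (range_glue (range_of_allRange c_rel_1775) (range_glue (range_of_allRange c_rel_1776) (range_glue (range_of_allRange c_rel_1777) (range_glue (range_of_allRange c_rel_1778) (range_glue (range_of_allRange c_rel_1779) (range_glue (range_of_allRange c_rel_1780) (range_glue (range_of_allRange c_rel_1781) (range_glue (range_of_allRange c_rel_1782) (range_glue (range_of_allRange c_rel_1783) (range_glue (range_of_allRange c_rel_1784) (range_glue (range_of_allRange c_rel_1785) (range_glue (range_of_allRange c_rel_1786) (range_glue (range_of_allRange c_rel_1787)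 (range_glue (range_of_allRange c_rel_1788) (range_glue (range_of_allRange c_rel_1789) (range_glue (range_of_allRange c_rel_1790) (range_glue (range_of_allRange c_rel_1791) (range_glue (range_of_allRange c_rel_1792) (range_glue (range_of_allRange c_rel_1793) (range_glue (range_of_allRange c_rel_1794) (range_glue (range_of_allRange c_rel_1795) (range_glue (range_of_allRange c_rel_1796) (range_glue (range_of_allRange c_rel_1797) (range_glue (range_of_allRange c_rel_1798) (range_of_allRange c_rel_1799))))))))))))))))))))))))))))))))))))))))
theorem h_rel_p45 : ∀ t, 5466148 ≤ t → t < 5526071 → D.relOK t = true :=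
  (range_glue (range_of_allRange c_rel_1800) (range_glue (range_of_allRange c_rel_1801) (range_glue (range_of_allRange c_rel_1802) (range_glue (range_of_allRange c_rel_1803) (range_glue (range_of_allRange c_rel_1804) (range_glue (range_of_allRange c_rel_1805) (range_glue (range_of_allRange c_rel_1806) (range_glue (range_of_allRange c_rel_1807) (range_glue (range_of_allRange c_rel_1808) (range_glue (range_of_allRange c_rel_1809) (range_glue (range_of_allRange c_rel_1810) (range_glue (range_of_allRange c_rel_1811) (range_glue (range_of_allRange c_rel_1812) (range_glue (range_of_allRange c_rel_1813) (range_glue (range_of_allRange c_rel_1814) (range_glue (range_of_allRange c_rel_1815) (range_glue (range_of_allRange c_rel_1816) (range_glue (range_of_allRange c_rel_1817) (range_glue (range_of_allRange c_rel_1818) (range_glue (range_of_allRange c_rel_1819) (range_glue (range_of_allRange c_rel_1820) (range_glue (range_of_allRange c_rel_1821) (range_glue (range_of_allRange c_rel_1822) (range_glue (range_of_allRange c_rel_1823) (range_glue (range_of_allRange c_rel_1824) (range_glue (range_of_allRange c_rel_1825) (range_glue (range_of_allRange c_rel_1826) (range_glue (range_of_allRange c_rel_1827)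 (range_glue (range_of_allRange c_rel_1828) (range_glue (range_of_allRange c_rel_1829) (range_glue (range_of_allRange c_rel_1830) (range_glue (range_of_allRange c_rel_1831) (range_glue (range_of_allRange c_rel_1832) (range_glue (range_of_allRange c_rel_1833) (range_glue (range_of_allRange c_rel_1834) (range_glue (range_of_allRange c_rel_1835) (range_glue (range_of_allRange c_rel_1836) (range_glue (range_of_allRange c_rel_1837) (range_glue (range_of_allRange c_rel_1838) (range_of_allRange c_rel_1839))))))))))))))))))))))))))))))))))))))))
theorem h_rel_p46 : ∀ t, 5526071 ≤ t → t < 5585825 → D.relOK t = true :=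
  (range_glue (range_of_allRange c_rel_1840) (range_glue (range_of_allRange c_rel_1841) (range_glue (range_of_allRange c_rel_1842) (range_glue (range_of_allRange c_rel_1843) (range_glue (range_of_allRange c_rel_1844) (range_glue (range_of_allRange c_rel_1845) (range_glue (range_of_allRange c_rel_1846) (range_glue (range_of_allRange c_rel_1847) (range_glue (range_of_allRange c_rel_1848) (range_glue (range_of_allRange c_rel_1849) (range_glue (range_of_allRange c_rel_1850) (range_glue (range_of_allRange c_rel_1851) (range_glue (range_of_allRange c_rel_1852) (range_glue (range_of_allRange c_rel_1853) (range_glue (range_of_allRange c_rel_1854) (range_glue (range_of_allRange c_rel_1855) (range_glue (range_of_allRange c_rel_1856) (range_glue (range_of_allRange c_rel_1857) (range_glue (range_of_allRange c_rel_1858) (range_glue (range_of_allRange c_rel_1859) (range_glue (range_of_allRange c_rel_1860) (range_glue (range_of_allRange c_rel_1861) (range_glue (range_of_allRange c_rel_1862) (range_glue (range_of_allRange c_rel_1863) (range_glue (range_of_allRange c_rel_1864) (range_glue (range_of_allRange c_rel_1865) (range_glue (range_of_allRange c_rel_1866) (range_glue (range_of_allRange c_rel_1867)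 (range_glue (range_of_allRange c_rel_1868) (range_glue (range_of_allRange c_rel_1869) (range_glue (range_of_allRange c_rel_1870) (range_glue (range_of_allRange c_rel_1871) (range_glue (range_of_allRange c_rel_1872) (range_glue (range_of_allRange c_rel_1873) (range_glue (range_of_allRange c_rel_1874) (range_glue (range_of_allRange c_rel_1875) (range_glue (range_of_allRange c_rel_1876) (range_glue (range_of_allRange c_rel_1877) (range_glue (range_of_allRange c_rel_1878) (range_of_allRange c_rel_1879))))))))))))))))))))))))))))))))))))))))
theorem h_rel_p47 : ∀ t, 5585825 ≤ t → t < 5645246 → D.relOK t = true :=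
  (range_glue (range_of_allRange c_rel_1880) (range_glue (range_of_allRange c_rel_1881) (range_glue (range_of_allRange c_rel_1882) (range_glue (range_of_allRange c_rel_1883) (range_glue (range_of_allRange c_rel_1884) (range_glue (range_of_allRange c_rel_1885) (range_glue (range_of_allRange c_rel_1886) (range_glue (range_of_allRange c_rel_1887) (range_glue (range_of_allRange c_rel_1888) (range_glue (range_of_allRange c_rel_1889) (range_glue (range_of_allRange c_rel_1890) (range_glue (range_of_allRange c_rel_1891) (range_glue (range_of_allRange c_rel_1892) (range_glue (range_of_allRange c_rel_1893) (range_glue (range_of_allRange c_rel_1894) (range_glue (range_of_allRange c_rel_1895) (range_glue (range_of_allRange c_rel_1896) (range_glue (range_of_allRange c_rel_1897) (range_glue (range_of_allRange c_rel_1898) (range_glue (range_of_allRange c_rel_1899) (range_glue (range_of_allRange c_rel_1900) (range_glue (range_of_allRange c_rel_1901) (range_glue (range_of_allRange c_rel_1902) (range_glue (range_of_allRange c_rel_1903) (range_glue (range_of_allRange c_rel_1904) (range_glue (range_of_allRange c_rel_1905) (range_glue (range_of_allRange c_rel_1906) (range_glue (range_of_allRange c_rel_1907)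 (range_glue (range_of_allRange c_rel_1908) (range_glue (range_of_allRange c_rel_1909) (range_glue (range_of_allRange c_rel_1910) (range_glue (range_of_allRange c_rel_1911) (range_glue (range_of_allRange c_rel_1912) (range_glue (range_of_allRange c_rel_1913) (range_glue (range_of_allRange c_rel_1914) (range_glue (range_of_allRange c_rel_1915) (range_glue (range_of_allRange c_rel_1916) (range_glue (range_of_allRange c_rel_1917) (range_glue (range_of_allRange c_rel_1918) (range_of_allRange c_rel_1919))))))))))))))))))))))))))))))))))))))))
theorem h_rel_p48 : ∀ t, 5645246 ≤ t → t < 5705851 → D.relOK t = true :=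
  (range_glue (range_of_allRange c_rel_1920) (range_glue (range_of_allRange c_rel_1921) (range_glue (range_of_allRange c_rel_1922) (range_glue (range_of_allRange c_rel_1923) (range_glue (range_of_allRange c_rel_1924) (range_glue (range_of_allRange c_rel_1925) (range_glue (range_of_allRange c_rel_1926) (range_glue (range_of_allRange c_rel_1927) (range_glue (range_of_allRange c_rel_1928) (range_glue (range_of_allRange c_rel_1929) (range_glue (range_of_allRange c_rel_1930) (range_glue (range_of_allRange c_rel_1931) (range_glue (range_of_allRange c_rel_1932) (range_glue (range_of_allRange c_rel_1933) (range_glue (range_of_allRange c_rel_1934) (range_glue (range_of_allRange c_rel_1935) (range_glue (range_of_allRange c_rel_1936) (range_glue (range_of_allRange c_rel_1937) (range_glue (range_of_allRange c_rel_1938) (range_glue (range_of_allRange c_rel_1939) (range_glue (range_of_allRange c_rel_1940) (range_glue (range_of_allRange c_rel_1941) (range_glue (range_of_allRange c_rel_1942) (range_glue (range_of_allRange c_rel_1943) (range_glue (range_of_allRange c_rel_1944) (range_glue (range_of_allRange c_rel_1945) (range_glue (range_of_allRange c_rel_1946) (range_glue (range_of_allRange c_rel_1947)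 (range_glue (range_of_allRange c_rel_1948) (range_glue (range_of_allRange c_rel_1949) (range_glue (range_of_allRange c_rel_1950) (range_glue (range_of_allRange c_rel_1951) (range_glue (range_of_allRange c_rel_1952) (range_glue (range_of_allRange c_rel_1953) (range_glue (range_of_allRange c_rel_1954) (range_glue (range_of_allRange c_rel_1955) (range_glue (range_of_allRange c_rel_1956) (range_glue (range_of_allRange c_rel_1957) (range_glue (range_of_allRange c_rel_1958) (range_of_allRange c_rel_1959))))))))))))))))))))))))))))))))))))))))
theorem h_rel_p49 : ∀ t, 5705851 ≤ t → t < 5766702 → D.relOK t = true :=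
  (range_glue (range_of_allRange c_rel_1960) (range_glue (range_of_allRange c_rel_1961) (range_glue (range_of_allRange c_rel_1962) (range_glue (range_of_allRange c_rel_1963) (range_glue (range_of_allRange c_rel_1964) (range_glue (range_of_allRange c_rel_1965) (range_glue (range_of_allRange c_rel_1966) (range_glue (range_of_allRange c_rel_1967) (range_glue (range_of_allRange c_rel_1968) (range_glue (range_of_allRange c_rel_1969) (range_glue (range_of_allRange c_rel_1970) (range_glue (range_of_allRange c_rel_1971) (range_glue (range_of_allRange c_rel_1972) (range_glue (range_of_allRange c_rel_1973) (range_glue (range_of_allRange c_rel_1974) (range_glue (range_of_allRange c_rel_1975) (range_glue (range_of_allRange c_rel_1976) (range_glue (range_of_allRange c_rel_1977) (range_glue (range_of_allRange c_rel_1978) (range_glue (range_of_allRange c_rel_1979) (range_glue (range_of_allRange c_rel_1980) (range_glue (range_of_allRange c_rel_1981) (range_glue (range_of_allRange c_rel_1982) (range_glue (range_of_allRange c_rel_1983) (range_glue (range_of_allRange c_rel_1984) (range_glue (range_of_allRange c_rel_1985) (range_glue (range_of_allRange c_rel_1986) (range_glue (range_of_allRange c_rel_1987)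 (range_glue (range_of_allRange c_rel_1988) (range_glue (range_of_allRange c_rel_1989) (range_glue (range_of_allRange c_rel_1990) (range_glue (range_of_allRange c_rel_1991) (range_glue (range_of_allRange c_rel_1992) (range_glue (range_of_allRange c_rel_1993) (range_glue (range_of_allRange c_rel_1994) (range_glue (range_of_allRange c_rel_1995) (range_glue (range_of_allRange c_rel_1996) (range_glue (range_of_allRange c_rel_1997) (range_glue (range_of_allRange c_rel_1998) (range_of_allRange c_rel_1999))))))))))))))))))))))))))))))))))))))))
theorem h_rel_p50 : ∀ t, 5766702 ≤ t → t < 5826671 → D.relOK t = true :=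
  (range_glue (range_of_allRange c_rel_2000) (range_glue (range_of_allRange c_rel_2001) (range_glue (range_of_allRange c_rel_2002) (range_glue (range_of_allRange c_rel_2003) (range_glue (range_of_allRange c_rel_2004) (range_glue (range_of_allRange c_rel_2005) (range_glue (range_of_allRange c_rel_2006) (range_glue (range_of_allRange c_rel_2007) (range_glue (range_of_allRange c_rel_2008) (range_glue (range_of_allRange c_rel_2009) (range_glue (range_of_allRange c_rel_2010) (range_glue (range_of_allRange c_rel_2011) (range_glue (range_of_allRange c_rel_2012) (range_glue (range_of_allRange c_rel_2013) (range_glue (range_of_allRange c_rel_2014) (range_glue (range_of_allRange c_rel_2015) (range_glue (range_of_allRange c_rel_2016) (range_glue (range_of_allRange c_rel_2017) (range_glue (range_of_allRange c_rel_2018) (range_glue (range_of_allRange c_rel_2019) (range_glue (range_of_allRange c_rel_2020) (range_glue (range_of_allRange c_rel_2021) (range_glue (range_of_allRange c_rel_2022) (range_glue (range_of_allRange c_rel_2023) (range_glue (range_of_allRange c_rel_2024) (range_glue (range_of_allRange c_rel_2025) (range_glue (range_of_allRange c_rel_2026) (range_glue (range_of_allRange c_rel_2027)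 (range_glue (range_of_allRange c_rel_2028) (range_glue (range_of_allRange c_rel_2029) (range_glue (range_of_allRange c_rel_2030) (range_glue (range_of_allRange c_rel_2031) (range_glue (range_of_allRange c_rel_2032) (range_glue (range_of_allRange c_rel_2033) (range_glue (range_of_allRange c_rel_2034) (range_glue (range_of_allRange c_rel_2035) (range_glue (range_of_allRange c_rel_2036) (range_glue (range_of_allRange c_rel_2037) (range_glue (range_of_allRange c_rel_2038) (range_of_allRange c_rel_2039))))))))))))))))))))))))))))))))))))))))
theorem h_rel_p51 : ∀ t, 5826671 ≤ t → t < 5885778 → D.relOK t = true :=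
  (range_glue (range_of_allRange c_rel_2040) (range_glue (range_of_allRange c_rel_2041) (range_glue (range_of_allRange c_rel_2042) (range_glue (range_of_allRange c_rel_2043) (range_glue (range_of_allRange c_rel_2044) (range_glue (range_of_allRange c_rel_2045) (range_glue (range_of_allRange c_rel_2046) (range_glue (range_of_allRange c_rel_2047) (range_glue (range_of_allRange c_rel_2048) (range_glue (range_of_allRange c_rel_2049) (range_glue (range_of_allRange c_rel_2050) (range_glue (range_of_allRange c_rel_2051) (range_glue (range_of_allRange c_rel_2052) (range_glue (range_of_allRange c_rel_2053) (range_glue (range_of_allRange c_rel_2054) (range_glue (range_of_allRange c_rel_2055) (range_glue (range_of_allRange c_rel_2056) (range_glue (range_of_allRange c_rel_2057) (range_glue (range_of_allRange c_rel_2058) (range_glue (range_of_allRange c_rel_2059) (range_glue (range_of_allRange c_rel_2060) (range_glue (range_of_allRange c_rel_2061) (range_glue (range_of_allRange c_rel_2062) (range_glue (range_of_allRange c_rel_2063) (range_glue (range_of_allRange c_rel_2064) (range_glue (range_of_allRange c_rel_2065) (range_glue (range_of_allRange c_rel_2066) (range_glue (range_of_allRange c_rel_2067)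 (range_glue (range_of_allRange c_rel_2068) (range_glue (range_of_allRange c_rel_2069) (range_glue (range_of_allRange c_rel_2070) (range_glue (range_of_allRange c_rel_2071) (range_glue (range_of_allRange c_rel_2072) (range_glue (range_of_allRange c_rel_2073) (range_glue (range_of_allRange c_rel_2074) (range_glue (range_of_allRange c_rel_2075) (range_glue (range_of_allRange c_rel_2076) (range_glue (range_of_allRange c_rel_2077) (range_glue (range_of_allRange c_rel_2078) (range_of_allRange c_rel_2079))))))))))))))))))))))))))))))))))))))))
theorem h_rel_p52 : ∀ t, 5885778 ≤ t → t < 5944209 → D.relOK t = true :=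
  (range_glue (range_of_allRange c_rel_2080) (range_glue (range_of_allRange c_rel_2081) (range_glue (range_of_allRange c_rel_2082) (range_glue (range_of_allRange c_rel_2083) (range_glue (range_of_allRange c_rel_2084) (range_glue (range_of_allRange c_rel_2085) (range_glue (range_of_allRange c_rel_2086) (range_glue (range_of_allRange c_rel_2087) (range_glue (range_of_allRange c_rel_2088) (range_glue (range_of_allRange c_rel_2089) (range_glue (range_of_allRange c_rel_2090) (range_glue (range_of_allRange c_rel_2091) (range_glue (range_of_allRange c_rel_2092) (range_glue (range_of_allRange c_rel_2093) (range_glue (range_of_allRange c_rel_2094) (range_glue (range_of_allRange c_rel_2095) (range_glue (range_of_allRange c_rel_2096) (range_glue (range_of_allRange c_rel_2097) (range_glue (range_of_allRange c_rel_2098) (range_glue (range_of_allRange c_rel_2099) (range_glue (range_of_allRange c_rel_2100) (range_glue (range_of_allRange c_rel_2101) (range_glue (range_of_allRange c_rel_2102) (range_glue (range_of_allRange c_rel_2103) (range_glue (range_of_allRange c_rel_2104) (range_glue (range_of_allRange c_rel_2105) (range_glue (range_of_allRange c_rel_2106) (range_glue (range_of_allRange c_rel_2107)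 (range_glue (range_of_allRange c_rel_2108) (range_glue (range_of_allRange c_rel_2109) (range_glue (range_of_allRange c_rel_2110) (range_glue (range_of_allRange c_rel_2111) (range_glue (range_of_allRange c_rel_2112) (range_glue (range_of_allRange c_rel_2113) (range_glue (range_of_allRange c_rel_2114) (range_glue (range_of_allRange c_rel_2115) (range_glue (range_of_allRange c_rel_2116) (range_glue (range_of_allRange c_rel_2117) (range_glue (range_of_allRange c_rel_2118) (range_of_allRange c_rel_2119))))))))))))))))))))))))))))))))))))))))
theorem h_rel_p53 : ∀ t, 5944209 ≤ t → t < 6001536 → D.relOK t = true :=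
  (range_glue (range_of_allRange c_rel_2120) (range_glue (range_of_allRange c_rel_2121) (range_glue (range_of_allRange c_rel_2122) (range_glue (range_of_allRange c_rel_2123) (range_glue (range_of_allRange c_rel_2124) (range_glue (range_of_allRange c_rel_2125) (range_glue (range_of_allRange c_rel_2126) (range_glue (range_of_allRange c_rel_2127) (range_glue (range_of_allRange c_rel_2128) (range_glue (range_of_allRange c_rel_2129) (range_glue (range_of_allRange c_rel_2130) (range_glue (range_of_allRange c_rel_2131) (range_glue (range_of_allRange c_rel_2132) (range_glue (range_of_allRange c_rel_2133) (range_glue (range_of_allRange c_rel_2134) (range_glue (range_of_allRange c_rel_2135) (range_glue (range_of_allRange c_rel_2136) (range_glue (range_of_allRange c_rel_2137) (range_glue (range_of_allRange c_rel_2138) (range_glue (range_of_allRange c_rel_2139) (range_glue (range_of_allRange c_rel_2140) (range_glue (range_of_allRange c_rel_2141) (range_glue (range_of_allRange c_rel_2142) (range_glue (range_of_allRange c_rel_2143) (range_glue (range_of_allRange c_rel_2144) (range_glue (range_of_allRange c_rel_2145) (range_glue (range_of_allRange c_rel_2146) (range_glue (range_of_allRange c_rel_2147)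 (range_glue (range_of_allRange c_rel_2148) (range_glue (range_of_allRange c_rel_2149) (range_glue (range_of_allRange c_rel_2150) (range_glue (range_of_allRange c_rel_2151) (range_glue (range_of_allRange c_rel_2152) (range_glue (range_of_allRange c_rel_2153) (range_glue (range_of_allRange c_rel_2154) (range_glue (range_of_allRange c_rel_2155) (range_glue (range_of_allRange c_rel_2156) (range_glue (range_of_allRange c_rel_2157) (range_glue (range_of_allRange c_rel_2158) (range_of_allRange c_rel_2159))))))))))))))))))))))))))))))))))))))))
theorem h_rel_p54 : ∀ t, 6001536 ≤ t → t < 6058516 → D.relOK t = true :=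
  (range_glue (range_of_allRange c_rel_2160) (range_glue (range_of_allRange c_rel_2161) (range_glue (range_of_allRange c_rel_2162) (range_glue (range_of_allRange c_rel_2163) (range_glue (range_of_allRange c_rel_2164) (range_glue (range_of_allRange c_rel_2165) (range_glue (range_of_allRange c_rel_2166) (range_glue (range_of_allRange c_rel_2167) (range_glue (range_of_allRange c_rel_2168) (range_glue (range_of_allRange c_rel_2169) (range_glue (range_of_allRange c_rel_2170) (range_glue (range_of_allRange c_rel_2171) (range_glue (range_of_allRange c_rel_2172) (range_glue (range_of_allRange c_rel_2173) (range_glue (range_of_allRange c_rel_2174) (range_glue (range_of_allRange c_rel_2175) (range_glue (range_of_allRange c_rel_2176) (range_glue (range_of_allRange c_rel_2177) (range_glue (range_of_allRange c_rel_2178) (range_glue (range_of_allRange c_rel_2179) (range_glue (range_of_allRange c_rel_2180) (range_glue (range_of_allRange c_rel_2181) (range_glue (range_of_allRange c_rel_2182) (range_glue (range_of_allRange c_rel_2183) (range_glue (range_of_allRange c_rel_2184) (range_glue (range_of_allRange c_rel_2185) (range_glue (range_of_allRange c_rel_2186) (range_glue (range_of_allRange c_rel_2187)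 (range_glue (range_of_allRange c_rel_2188) (range_glue (range_of_allRange c_rel_2189) (range_glue (range_of_allRange c_rel_2190) (range_glue (range_of_allRange c_rel_2191) (range_glue (range_of_allRange c_rel_2192) (range_glue (range_of_allRange c_rel_2193) (range_glue (range_of_allRange c_rel_2194) (range_glue (range_of_allRange c_rel_2195) (range_glue (range_of_allRange c_rel_2196) (range_glue (range_of_allRange c_rel_2197) (range_glue (range_of_allRange c_rel_2198) (range_of_allRange c_rel_2199))))))))))))))))))))))))))))))))))))))))
theorem h_rel_p55 : ∀ t, 6058516 ≤ t → t < 6114979 → D.relOK t = true :=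
  (range_glue (range_of_allRange c_rel_2200) (range_glue (range_of_allRange c_rel_2201) (range_glue (range_of_allRange c_rel_2202) (range_glue (range_of_allRange c_rel_2203) (range_glue (range_of_allRange c_rel_2204) (range_glue (range_of_allRange c_rel_2205) (range_glue (range_of_allRange c_rel_2206) (range_glue (range_of_allRange c_rel_2207) (range_glue (range_of_allRange c_rel_2208) (range_glue (range_of_allRange c_rel_2209) (range_glue (range_of_allRange c_rel_2210) (range_glue (range_of_allRange c_rel_2211) (range_glue (range_of_allRange c_rel_2212) (range_glue (range_of_allRange c_rel_2213) (range_glue (range_of_allRange c_rel_2214) (range_glue (range_of_allRange c_rel_2215) (range_glue (range_of_allRange c_rel_2216) (range_glue (range_of_allRange c_rel_2217) (range_glue (range_of_allRange c_rel_2218) (range_glue (range_of_allRange c_rel_2219) (range_glue (range_of_allRange c_rel_2220) (range_glue (range_of_allRange c_rel_2221) (range_glue (range_of_allRange c_rel_2222) (range_glue (range_of_allRange c_rel_2223) (range_glue (range_of_allRange c_rel_2224) (range_glue (range_of_allRange c_rel_2225) (range_glue (range_of_allRange c_rel_2226) (range_glue (range_of_allRange c_rel_2227)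 (range_glue (range_of_allRange c_rel_2228) (range_glue (range_of_allRange c_rel_2229) (range_glue (range_of_allRange c_rel_2230) (range_glue (range_of_allRange c_rel_2231) (range_glue (range_of_allRange c_rel_2232) (range_glue (range_of_allRange c_rel_2233) (range_glue (range_of_allRange c_rel_2234) (range_glue (range_of_allRange c_rel_2235) (range_glue (range_of_allRange c_rel_2236) (range_glue (range_of_allRange c_rel_2237) (range_glue (range_of_allRange c_rel_2238) (range_of_allRange c_rel_2239))))))))))))))))))))))))))))))))))))))))
theorem h_rel_p56 : ∀ t, 6114979 ≤ t → t < 6170873 → D.relOK t = true :=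
  (range_glue (range_of_allRange c_rel_2240) (range_glue (range_of_allRange c_rel_2241) (range_glue (range_of_allRange c_rel_2242) (range_glue (range_of_allRange c_rel_2243) (range_glue (range_of_allRange c_rel_2244) (range_glue (range_of_allRange c_rel_2245) (range_glue (range_of_allRange c_rel_2246) (range_glue (range_of_allRange c_rel_2247) (range_glue (range_of_allRange c_rel_2248) (range_glue (range_of_allRange c_rel_2249) (range_glue (range_of_allRange c_rel_2250) (range_glue (range_of_allRange c_rel_2251) (range_glue (range_of_allRange c_rel_2252) (range_glue (range_of_allRange c_rel_2253) (range_glue (range_of_allRange c_rel_2254) (range_glue (range_of_allRange c_rel_2255) (range_glue (range_of_allRange c_rel_2256) (range_glue (range_of_allRange c_rel_2257) (range_glue (range_of_allRange c_rel_2258) (range_glue (range_of_allRange c_rel_2259) (range_glue (range_of_allRange c_rel_2260) (range_glue (range_of_allRange c_rel_2261) (range_glue (range_of_allRange c_rel_2262) (range_glue (range_of_allRange c_rel_2263) (range_glue (range_of_allRange c_rel_2264) (range_glue (range_of_allRange c_rel_2265) (range_glue (range_of_allRange c_rel_2266) (range_glue (range_of_allRange c_rel_2267)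 (range_glue (range_of_allRange c_rel_2268) (range_glue (range_of_allRange c_rel_2269) (range_glue (range_of_allRange c_rel_2270) (range_glue (range_of_allRange c_rel_2271) (range_glue (range_of_allRange c_rel_2272) (range_glue (range_of_allRange c_rel_2273) (range_glue (range_of_allRange c_rel_2274) (range_glue (range_of_allRange c_rel_2275) (range_glue (range_of_allRange c_rel_2276) (range_glue (range_of_allRange c_rel_2277) (range_glue (range_of_allRange c_rel_2278) (range_of_allRange c_rel_2279))))))))))))))))))))))))))))))))))))))))
theorem h_rel_p57 : ∀ t, 6170873 ≤ t → t < 6225412 → D.relOK t = true :=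
  (range_glue (range_of_allRange c_rel_2280) (range_glue (range_of_allRange c_rel_2281) (range_glue (range_of_allRange c_rel_2282) (range_glue (range_of_allRange c_rel_2283) (range_glue (range_of_allRange c_rel_2284) (range_glue (range_of_allRange c_rel_2285) (range_glue (range_of_allRange c_rel_2286) (range_glue (range_of_allRange c_rel_2287) (range_glue (range_of_allRange c_rel_2288) (range_glue (range_of_allRange c_rel_2289) (range_glue (range_of_allRange c_rel_2290) (range_glue (range_of_allRange c_rel_2291) (range_glue (range_of_allRange c_rel_2292) (range_glue (range_of_allRange c_rel_2293) (range_glue (range_of_allRange c_rel_2294) (range_glue (range_of_allRange c_rel_2295) (range_glue (range_of_allRange c_rel_2296) (range_glue (range_of_allRange c_rel_2297) (range_glue (range_of_allRange c_rel_2298) (range_glue (range_of_allRange c_rel_2299) (range_glue (range_of_allRange c_rel_2300) (range_glue (range_of_allRange c_rel_2301) (range_glue (range_of_allRange c_rel_2302) (range_glue (range_of_allRange c_rel_2303) (range_glue (range_of_allRange c_rel_2304) (range_glue (range_of_allRange c_rel_2305) (range_glue (range_of_allRange c_rel_2306) (range_glue (range_of_allRange c_rel_2307)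 (range_glue (range_of_allRange c_rel_2308) (range_glue (range_of_allRange c_rel_2309) (range_glue (range_of_allRange c_rel_2310) (range_glue (range_of_allRange c_rel_2311) (range_glue (range_of_allRange c_rel_2312) (range_glue (range_of_allRange c_rel_2313) (range_glue (range_of_allRange c_rel_2314) (range_glue (range_of_allRange c_rel_2315) (range_glue (range_of_allRange c_rel_2316) (range_glue (range_of_allRange c_rel_2317) (range_glue (range_of_allRange c_rel_2318) (range_of_allRange c_rel_2319))))))))))))))))))))))))))))))))))))))))
theorem h_rel_p58 : ∀ t, 6225412 ≤ t → t < 6279176 → D.relOK t = true :=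
  (range_glue (range_of_allRange c_rel_2320) (range_glue (range_of_allRange c_rel_2321) (range_glue (range_of_allRange c_rel_2322) (range_glue (range_of_allRange c_rel_2323) (range_glue (range_of_allRange c_rel_2324) (range_glue (range_of_allRange c_rel_2325) (range_glue (range_of_allRange c_rel_2326) (range_glue (range_of_allRange c_rel_2327) (range_glue (range_of_allRange c_rel_2328) (range_glue (range_of_allRange c_rel_2329) (range_glue (range_of_allRange c_rel_2330) (range_glue (range_of_allRange c_rel_2331) (range_glue (range_of_allRange c_rel_2332) (range_glue (range_of_allRange c_rel_2333) (range_glue (range_of_allRange c_rel_2334) (range_glue (range_of_allRange c_rel_2335) (range_glue (range_of_allRange c_rel_2336) (range_glue (range_of_allRange c_rel_2337) (range_glue (range_of_allRange c_rel_2338) (range_glue (range_of_allRange c_rel_2339) (range_glue (range_of_allRange c_rel_2340) (range_glue (range_of_allRange c_rel_2341) (range_glue (range_of_allRange c_rel_2342) (range_glue (range_of_allRange c_rel_2343) (range_glue (range_of_allRange c_rel_2344) (range_glue (range_of_allRange c_rel_2345) (range_glue (range_of_allRange c_rel_2346) (range_glue (range_of_allRange c_rel_2347)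 (range_glue (range_of_allRange c_rel_2348) (range_glue (range_of_allRange c_rel_2349) (range_glue (range_of_allRange c_rel_2350) (range_glue (range_of_allRange c_rel_2351) (range_glue (range_of_allRange c_rel_2352) (range_glue (range_of_allRange c_rel_2353) (range_glue (range_of_allRange c_rel_2354) (range_glue (range_of_allRange c_rel_2355) (range_glue (range_of_allRange c_rel_2356) (range_glue (range_of_allRange c_rel_2357) (range_glue (range_of_allRange c_rel_2358) (range_of_allRange c_rel_2359))))))))))))))))))))))))))))))))))))))))
theorem h_rel_p59 : ∀ t, 6279176 ≤ t → t < 6332566 → D.relOK t = true :=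
  (range_glue (range_of_allRange c_rel_2360) (range_glue (range_of_allRange c_rel_2361) (range_glue (range_of_allRange c_rel_2362) (range_glue (range_of_allRange c_rel_2363) (range_glue (range_of_allRange c_rel_2364) (range_glue (range_of_allRange c_rel_2365) (range_glue (range_of_allRange c_rel_2366) (range_glue (range_of_allRange c_rel_2367) (range_glue (range_of_allRange c_rel_2368) (range_glue (range_of_allRange c_rel_2369) (range_glue (range_of_allRange c_rel_2370) (range_glue (range_of_allRange c_rel_2371) (range_glue (range_of_allRange c_rel_2372) (range_glue (range_of_allRange c_rel_2373) (range_glue (range_of_allRange c_rel_2374) (range_glue (range_of_allRange c_rel_2375) (range_glue (range_of_allRange c_rel_2376) (range_glue (range_of_allRange c_rel_2377) (range_glue (range_of_allRange c_rel_2378) (range_glue (range_of_allRange c_rel_2379) (range_glue (range_of_allRange c_rel_2380) (range_glue (range_of_allRange c_rel_2381) (range_glue (range_of_allRange c_rel_2382) (range_glue (range_of_allRange c_rel_2383) (range_glue (range_of_allRange c_rel_2384) (range_glue (range_of_allRange c_rel_2385) (range_glue (range_of_allRange c_rel_2386) (range_glue (range_of_allRange c_rel_2387)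 (range_glue (range_of_allRange c_rel_2388) (range_glue (range_of_allRange c_rel_2389) (range_glue (range_of_allRange c_rel_2390) (range_glue (range_of_allRange c_rel_2391) (range_glue (range_of_allRange c_rel_2392) (range_glue (range_of_allRange c_rel_2393) (range_glue (range_of_allRange c_rel_2394) (range_glue (range_of_allRange c_rel_2395) (range_glue (range_of_allRange c_rel_2396) (range_glue (range_of_allRange c_rel_2397) (range_glue (range_of_allRange c_rel_2398) (range_of_allRange c_rel_2399))))))))))))))))))))))))))))))))))))))))
theorem h_rel_p60 : ∀ t, 6332566 ≤ t → t < 6393560 → D.relOK t = true :=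
  (range_glue (range_of_allRange c_rel_2400) (range_glue (range_of_allRange c_rel_2401) (range_glue (range_of_allRange c_rel_2402) (range_glue (range_of_allRange c_rel_2403) (range_glue (range_of_allRange c_rel_2404) (range_glue (range_of_allRange c_rel_2405) (range_glue (range_of_allRange c_rel_2406) (range_glue (range_of_allRange c_rel_2407) (range_glue (range_of_allRange c_rel_2408) (range_glue (range_of_allRange c_rel_2409) (range_glue (range_of_allRange c_rel_2410) (range_glue (range_of_allRange c_rel_2411) (range_glue (range_of_allRange c_rel_2412) (range_glue (range_of_allRange c_rel_2413) (range_glue (range_of_allRange c_rel_2414) (range_glue (range_of_allRange c_rel_2415) (range_glue (range_of_allRange c_rel_2416) (range_glue (range_of_allRange c_rel_2417) (range_glue (range_of_allRange c_rel_2418) (range_glue (range_of_allRange c_rel_2419) (range_glue (range_of_allRange c_rel_2420) (range_glue (range_of_allRange c_rel_2421) (range_glue (range_of_allRange c_rel_2422) (range_glue (range_of_allRange c_rel_2423) (range_glue (range_of_allRange c_rel_2424) (range_glue (range_of_allRange c_rel_2425) (range_glue (range_of_allRange c_rel_2426) (range_glue (range_of_allRange c_rel_2427)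 (range_glue (range_of_allRange c_rel_2428) (range_glue (range_of_allRange c_rel_2429) (range_glue (range_of_allRange c_rel_2430) (range_glue (range_of_allRange c_rel_2431) (range_glue (range_of_allRange c_rel_2432) (range_glue (range_of_allRange c_rel_2433) (range_glue (range_of_allRange c_rel_2434) (range_glue (range_of_allRange c_rel_2435) (range_glue (range_of_allRange c_rel_2436) (range_glue (range_of_allRange c_rel_2437) (range_glue (range_of_allRange c_rel_2438) (range_of_allRange c_rel_2439))))))))))))))))))))))))))))))))))))))))
theorem h_rel_p61 : ∀ t, 6393560 ≤ t → t < 6505891 → D.relOK t = true :=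
  (range_glue (range_of_allRange c_rel_2440) (range_glue (range_of_allRange c_rel_2441) (range_glue (range_of_allRange c_rel_2442) (range_glue (range_of_allRange c_rel_2443) (range_glue (range_of_allRange c_rel_2444) (range_glue (range_of_allRange c_rel_2445) (range_glue (range_of_allRange c_rel_2446) (range_glue (range_of_allRange c_rel_2447) (range_glue (range_of_allRange c_rel_2448) (range_glue (range_of_allRange c_rel_2449) (range_glue (range_of_allRange c_rel_2450) (range_glue (range_of_allRange c_rel_2451) (range_glue (range_of_allRange c_rel_2452) (range_glue (range_of_allRange c_rel_2453) (range_glue (range_of_allRange c_rel_2454) (range_glue (range_of_allRange c_rel_2455) (range_glue (range_of_allRange c_rel_2456) (range_glue (range_of_allRange c_rel_2457) (range_glue (range_of_allRange c_rel_2458) (range_glue (range_of_allRange c_rel_2459) (range_glue (range_of_allRange c_rel_2460) (range_glue (range_of_allRange c_rel_2461) (range_glue (range_of_allRange c_rel_2462) (range_of_allRange c_rel_2463))))))))))))))))))))))))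
theorem h_rel_q0_0 : ∀ t, 1622374 ≤ t → t < 5160668 → D.relOK t = true :=
  (range_glue h_rel_p0 (range_glue h_rel_p1 (range_glue h_rel_p2 (range_glue h_rel_p3 (range_glue h_rel_p4 (range_glue h_rel_p5 (range_glue h_rel_p6 (range_glue h_rel_p7 (range_glue h_rel_p8 (range_glue h_rel_p9 (range_glue h_rel_p10 (range_glue h_rel_p11 (range_glue h_rel_p12 (range_glue h_rel_p13 (range_glue h_rel_p14 (range_glue h_rel_p15 (range_glue h_rel_p16 (range_glue h_rel_p17 (range_glue h_rel_p18 (range_glue h_rel_p19 (range_glue h_rel_p20 (range_glue h_rel_p21 (range_glue h_rel_p22 (range_glue h_rel_p23 (range_glue h_rel_p24 (range_glue h_rel_p25 (range_glue h_rel_p26 (range_glue h_rel_p27 (range_glue h_rel_p28 (range_glue h_rel_p29 (range_glue h_rel_p30 (range_glue h_rel_p31 (range_glue h_rel_p32 (range_glue h_rel_p33 (range_glue h_rel_p34 (range_glue h_rel_p35 (range_glue h_rel_p36 (range_glue h_rel_p37 (range_glue h_rel_p38 h_rel_p39)))))))))))))))))))))))))))))))))))))))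
theorem h_rel_q0_1 : ∀ t, 5160668 ≤ t → t < 6505891 → D.relOK t = true :=
  (range_glue h_rel_p40 (range_glue h_rel_p41 (range_glue h_rel_p42 (range_glue h_rel_p43 (range_glue h_rel_p44 (range_glue h_rel_p45 (range_glue h_rel_p46 (range_glue h_rel_p47 (range_glue h_rel_p48 (range_glue h_rel_p49 (range_glue h_rel_p50 (range_glue h_rel_p51 (range_glue h_rel_p52 (range_glue h_rel_p53 (range_glue h_rel_p54 (range_glue h_rel_p55 (range_glue h_rel_p56 (range_glue h_rel_p57 (range_glue h_rel_p58 (range_glue h_rel_p59 (range_glue h_rel_p60 h_rel_p61)))))))))))))))))))))
theorem h_rel : ∀ t, 1622374 ≤ t → t < 6505891 → D.relOK t = true :=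
  (range_glue h_rel_q0_0 h_rel_q0_1)
theorem h_names : ∀ t, 1 ≤ t → t < 1622368 → D.nameOK t = true :=
  (range_glue (range_of_allRange c_names_0) (range_glue (range_of_allRange c_names_1) (range_glue (range_of_allRange c_names_2) (range_glue (range_of_allRange c_names_3) (range_glue (range_of_allRange c_names_4) (range_glue (range_of_allRange c_names_5) (range_glue (range_of_allRange c_names_6) (range_glue (range_of_allRange c_names_7) (range_glue (range_of_allRange c_names_8) (range_glue (range_of_allRange c_names_9) (range_glue (range_of_allRange c_names_10) (range_glue (range_of_allRange c_names_11) (range_glue (range_of_allRange c_names_12) (range_glue (range_of_allRange c_names_13) (range_glue (range_of_allRange c_names_14) (range_glue (range_of_allRange c_names_15) (range_glue (range_of_allRange c_names_16) (range_glue (range_of_allRange c_names_17) (range_glue (range_of_allRange c_names_18) (range_glue (range_of_allRange c_names_19) (range_glue (range_of_allRange c_names_20) (range_glue (range_of_allRange c_names_21) (range_glue (range_of_allRange c_names_22) (range_glue (range_of_allRange c_names_23) (range_glue (range_of_allRange c_names_24) (range_glue (range_of_allRange c_names_25)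 (range_glue (range_of_allRange c_names_26) (range_of_allRange c_names_27))))))))))))))))))))))))))))
theorem h_cls_p0 : ∀ t, 1 ≤ t → t < 600001 → T.clsOK D t = true :=
  (range_glue (range_of_allRange c_cls_0) (range_glue (range_of_allRange c_cls_1) (range_glue (range_of_allRange c_cls_2) (range_glue (range_of_allRange c_cls_3) (range_glue (range_of_allRange c_cls_4) (range_glue (range_of_allRange c_cls_5) (range_glue (range_of_allRange c_cls_6) (range_glue (range_of_allRange c_cls_7) (range_glue (range_of_allRange c_cls_8) (range_glue (range_of_allRange c_cls_9) (range_glue (range_of_allRange c_cls_10) (range_glue (range_of_allRange c_cls_11) (range_glue (range_of_allRange c_cls_12) (range_glue (range_of_allRange c_cls_13) (range_glue (range_of_allRange c_cls_14) (range_glue (range_of_allRange c_cls_15) (range_glue (range_of_allRange c_cls_16) (range_glue (range_of_allRange c_cls_17) (range_glue (range_of_allRange c_cls_18) (range_glue (range_of_allRange c_cls_19) (range_glue (range_of_allRange c_cls_20) (range_glue (range_of_allRange c_cls_21) (range_glue (range_of_allRange c_cls_22) (range_glue (range_of_allRange c_cls_23) (range_glue (range_of_allRange c_cls_24) (range_glue (range_of_allRange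 c_cls_25) (range_glue (range_of_allRange c_cls_26) (range_glue (range_of_allRange c_cls_27) (range_glue (range_of_allRange c_cls_28) (range_glue (range_of_allRange c_cls_29) (range_glue (range_of_allRange c_cls_30) (range_glue (range_of_allRange c_cls_31) (range_glue (range_of_allRange c_cls_32) (range_glue (range_of_allRange c_cls_33) (range_glue (range_of_allRange c_cls_34) (range_glue (range_of_allRange c_cls_35) (range_glue (range_of_allRange c_cls_36) (range_glue (range_of_allRange c_cls_37) (range_glue (range_of_allRange c_cls_38) (range_of_allRange c_cls_39))))))))))))))))))))))))))))))))))))))))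
theorem h_cls_p1 : ∀ t, 600001 ≤ t → t < 1200001 → T.clsOK D t = true :=
  (range_glue (range_of_allRange c_cls_40) (range_glue (range_of_allRange c_cls_41) (range_glue (range_of_allRange c_cls_42) (range_glue (range_of_allRange c_cls_43) (range_glue (range_of_allRange c_cls_44) (range_glue (range_of_allRange c_cls_45) (range_glue (range_of_allRange c_cls_46) (range_glue (range_of_allRange c_cls_47) (range_glue (range_of_allRange c_cls_48) (range_glue (range_of_allRange c_cls_49) (range_glue (range_of_allRange c_cls_50) (range_glue (range_of_allRange c_cls_51) (range_glue (range_of_allRange c_cls_52) (range_glue (range_of_allRange c_cls_53) (range_glue (range_of_allRange c_cls_54) (range_glue (range_of_allRange c_cls_55) (range_glue (range_of_allRange c_cls_56) (range_glue (range_of_allRange c_cls_57) (range_glue (range_of_allRange c_cls_58) (range_glue (range_of_allRange c_cls_59) (range_glue (range_of_allRange c_cls_60) (range_glue (range_of_allRange c_cls_61) (range_glue (range_of_allRange c_cls_62) (range_glue (range_of_allRange c_cls_63) (range_glue (range_of_allRange c_cls_64) (range_glue (range_of_allRange c_cls_65) (range_glue (range_of_allRange c_cls_66) (range_glue (range_of_allRange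 c_cls_67) (range_glue (range_of_allRange c_cls_68) (range_glue (range_of_allRange c_cls_69) (range_glue (range_of_allRange c_cls_70) (range_glue (range_of_allRange c_cls_71) (range_glue (range_of_allRange c_cls_72) (range_glue (range_of_allRange c_cls_73) (range_glue (range_of_allRange c_cls_74) (range_glue (range_of_allRange c_cls_75) (range_glue (range_of_allRange c_cls_76) (range_glue (range_of_allRange c_cls_77) (range_glue (range_of_allRange c_cls_78) (range_of_allRange c_cls_79))))))))))))))))))))))))))))))))))))))))
theorem h_cls_p2 : ∀ t, 1200001 ≤ t → t < 1622368 → T.clsOK D t = true :=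
  (range_glue (range_of_allRange c_cls_80) (range_glue (range_of_allRange c_cls_81) (range_glue (range_of_allRange c_cls_82) (range_glue (range_of_allRange c_cls_83) (range_glue (range_of_allRange c_cls_84) (range_glue (range_of_allRange c_cls_85) (range_glue (range_of_allRange c_cls_86) (range_glue (range_of_allRange c_cls_87) (range_glue (range_of_allRange c_cls_88) (range_glue (range_of_allRange c_cls_89) (range_glue (range_of_allRange c_cls_90) (range_glue (range_of_allRange c_cls_91) (range_glue (range_of_allRange c_cls_92) (range_glue (range_of_allRange c_cls_93) (range_glue (range_of_allRange c_cls_94) (range_glue (range_of_allRange c_cls_95) (range_glue (range_of_allRange c_cls_96) (range_glue (range_of_allRange c_cls_97) (range_glue (range_of_allRange c_cls_98) (range_glue (range_of_allRange c_cls_99) (range_glue (range_of_allRange c_cls_100) (range_glue (range_of_allRange c_cls_101) (range_glue (range_of_allRange c_cls_102) (range_glue (range_of_allRange c_cls_103) (range_glue (range_of_allRange c_cls_104) (range_glue (range_of_allRange c_cls_105) (range_glue (range_of_allRange c_cls_106) (range_glue (range_of_allRange c_cls_107) (range_of_allRange c_cls_108)))))))))))))))))))))))))))))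
theorem h_cls : ∀ t, 1 ≤ t → t < 1622368 → T.clsOK D t = true :=
  (range_glue h_cls_p0 (range_glue h_cls_p1 h_cls_p2))
theorem h_rep_p0 : ∀ t, 0 ≤ t → t < 1200000 → T.repOK D t = true :=
  (range_glue (range_of_allRange c_rep_0) (range_glue (range_of_allRange c_rep_1) (range_glue (range_of_allRange c_rep_2) (range_glue (range_of_allRange c_rep_3) (range_glue (range_of_allRange c_rep_4) (range_glue (range_of_allRange c_rep_5) (range_glue (range_of_allRange c_rep_6) (range_glue (range_of_allRange c_rep_7) (range_glue (range_of_allRange c_rep_8) (range_glue (range_of_allRange c_rep_9) (range_glue (range_of_allRange c_rep_10) (range_glue (range_of_allRange c_rep_11) (range_glue (range_of_allRange c_rep_12) (range_glue (range_of_allRange c_rep_13) (range_glue (range_of_allRange c_rep_14) (range_glue (range_of_allRange c_rep_15) (range_glue (range_of_allRange c_rep_16) (range_glue (range_of_allRange c_rep_17) (range_glue (range_of_allRange c_rep_18) (range_glue (range_of_allRange c_rep_19) (range_glue (range_of_allRange c_rep_20) (range_glue (range_of_allRange c_rep_21) (range_glue (range_of_allRange c_rep_22) (range_glue (range_of_allRange c_rep_23) (range_glue (range_of_allRange c_rep_24) (range_glue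 (range_of_allRange c_rep_25) (range_glue (range_of_allRange c_rep_26) (range_glue (range_of_allRange c_rep_27) (range_glue (range_of_allRange c_rep_28) (range_glue (range_of_allRange c_rep_29) (range_glue (range_of_allRange c_rep_30) (range_glue (range_of_allRange c_rep_31) (range_glue (range_of_allRange c_rep_32) (range_glue (range_of_allRange c_rep_33) (range_glue (range_of_allRange c_rep_34) (range_glue (range_of_allRange c_rep_35) (range_glue (range_of_allRange c_rep_36) (range_glue (range_of_allRange c_rep_37) (range_glue (range_of_allRange c_rep_38) (range_of_allRange c_rep_39))))))))))))))))))))))))))))))))))))))))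
theorem h_rep_p1 : ∀ t, 1200000 ≤ t → t < 1539000 → T.repOK D t = true :=
  (range_glue (range_of_allRange c_rep_40) (range_glue (range_of_allRange c_rep_41) (range_glue (range_of_allRange c_rep_42) (range_glue (range_of_allRange c_rep_43) (range_glue (range_of_allRange c_rep_44) (range_glue (range_of_allRange c_rep_45) (range_glue (range_of_allRange c_rep_46) (range_glue (range_of_allRange c_rep_47) (range_glue (range_of_allRange c_rep_48) (range_glue (range_of_allRange c_rep_49) (range_glue (range_of_allRange c_rep_50) (range_of_allRange c_rep_51))))))))))))
theorem h_rep : ∀ t, 0 ≤ t → t < 1539000 → T.repOK D t = true :=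
  (range_glue h_rep_p0 h_rep_p1)
theorem h_fin_p0 : ∀ i, 0 ≤ i → i < 60000 → ∀ x, x < 8 → T.finOK D i x = true :=
  (range_glue (range_of_allGrid c_fin_0) (range_glue (range_of_allGrid c_fin_1) (range_glue (range_of_allGrid c_fin_2) (range_glue (range_of_allGrid c_fin_3) (range_glue (range_of_allGrid c_fin_4) (range_glue (range_of_allGrid c_fin_5) (range_glue (range_of_allGrid c_fin_6) (range_glue (range_of_allGrid c_fin_7) (range_glue (range_of_allGrid c_fin_8) (range_glue (range_of_allGrid c_fin_9) (range_glue (range_of_allGrid c_fin_10) (range_glue (range_of_allGrid c_fin_11) (range_glue (range_of_allGrid c_fin_12) (range_glue (range_of_allGrid c_fin_13) (range_glue (range_of_allGrid c_fin_14) (range_glue (range_of_allGrid c_fin_15) (range_glue (range_of_allGrid c_fin_16) (range_glue (range_of_allGrid c_fin_17) (range_glue (range_of_allGrid c_fin_18) (range_glue (range_of_allGrid c_fin_19) (range_glue (range_of_allGrid c_fin_20) (range_glue (range_of_allGrid c_fin_21) (range_glue (range_of_allGrid c_fin_22) (range_glue (range_of_allGrid c_fin_23) (range_glue (range_of_allGrid c_fin_24) (range_glue (range_of_allGrid c_fin_25) (range_glue (range_of_allGrid c_fin_26) (range_glue (range_of_allGrid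 c_fin_27) (range_glue (range_of_allGrid c_fin_28) (range_glue (range_of_allGrid c_fin_29) (range_glue (range_of_allGrid c_fin_30) (range_glue (range_of_allGrid c_fin_31) (range_glue (range_of_allGrid c_fin_32) (range_glue (range_of_allGrid c_fin_33) (range_glue (range_of_allGrid c_fin_34) (range_glue (range_of_allGrid c_fin_35) (range_glue (range_of_allGrid c_fin_36) (range_glue (range_of_allGrid c_fin_37) (range_glue (range_of_allGrid c_fin_38) (range_of_allGrid c_fin_39))))))))))))))))))))))))))))))))))))))))
theorem h_fin_p1 : ∀ i, 60000 ≤ i → i < 120000 → ∀ x, x < 8 → T.finOK D i x = true :=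
  (range_glue (range_of_allGrid c_fin_40) (range_glue (range_of_allGrid c_fin_41) (range_glue (range_of_allGrid c_fin_42) (range_glue (range_of_allGrid c_fin_43) (range_glue (range_of_allGrid c_fin_44) (range_glue (range_of_allGrid c_fin_45) (range_glue (range_of_allGrid c_fin_46) (range_glue (range_of_allGrid c_fin_47) (range_glue (range_of_allGrid c_fin_48) (range_glue (range_of_allGrid c_fin_49) (range_glue (range_of_allGrid c_fin_50) (range_glue (range_of_allGrid c_fin_51) (range_glue (range_of_allGrid c_fin_52) (range_glue (range_of_allGrid c_fin_53) (range_glue (range_of_allGrid c_fin_54) (range_glue (range_of_allGrid c_fin_55) (range_glue (range_of_allGrid c_fin_56) (range_glue (range_of_allGrid c_fin_57) (range_glue (range_of_allGrid c_fin_58) (range_glue (range_of_allGrid c_fin_59) (range_glue (range_of_allGrid c_fin_60) (range_glue (range_of_allGrid c_fin_61) (range_glue (range_of_allGrid c_fin_62) (range_glue (range_of_allGrid c_fin_63) (range_glue (range_of_allGrid c_fin_64) (range_glue (range_of_allGrid c_fin_65) (range_glue (range_of_allGrid c_fin_66) (range_glue (range_of_allGrid c_fin_67) (range_glue (range_of_allGrid c_fin_68) (range_glue (range_of_allGrid c_fin_69) (range_glue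 (range_of_allGrid c_fin_70) (range_glue (range_of_allGrid c_fin_71) (range_glue (range_of_allGrid c_fin_72) (range_glue (range_of_allGrid c_fin_73) (range_glue (range_of_allGrid c_fin_74) (range_glue (range_of_allGrid c_fin_75) (range_glue (range_of_allGrid c_fin_76) (range_glue (range_of_allGrid c_fin_77) (range_glue (range_of_allGrid c_fin_78) (range_of_allGrid c_fin_79))))))))))))))))))))))))))))))))))))))))
theorem h_fin_p2 : ∀ i, 120000 ≤ i → i < 180000 → ∀ x, x < 8 → T.finOK D i x = true :=
  (range_glue (range_of_allGrid c_fin_80) (range_glue (range_of_allGrid c_fin_81) (range_glue (range_of_allGrid c_fin_82) (range_glue (range_of_allGrid c_fin_83) (range_glue (range_of_allGrid c_fin_84) (range_glue (range_of_allGrid c_fin_85) (range_glue (range_of_allGrid c_fin_86) (range_glue (range_of_allGrid c_fin_87) (range_glue (range_of_allGrid c_fin_88) (range_glue (range_of_allGrid c_fin_89) (range_glue (range_of_allGrid c_fin_90) (range_glue (range_of_allGrid c_fin_91) (range_glue (range_of_allGrid c_fin_92) (range_glue (range_of_allGrid c_fin_93) (range_glue (range_of_allGrid c_fin_94) (range_glue (range_of_allGrid c_fin_95) (range_glue (range_of_allGrid c_fin_96) (range_glue (range_of_allGrid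 c_fin_97) (range_glue (range_of_allGrid c_fin_98) (range_glue (range_of_allGrid c_fin_99) (range_glue (range_of_allGrid c_fin_100) (range_glue (range_of_allGrid c_fin_101) (range_glue (range_of_allGrid c_fin_102) (range_glue (range_of_allGrid c_fin_103) (range_glue (range_of_allGrid c_fin_104) (range_glue (range_of_allGrid c_fin_105) (range_glue (range_of_allGrid c_fin_106) (range_glue (range_of_allGrid c_fin_107) (range_glue (range_of_allGrid c_fin_108) (range_glue (range_of_allGrid c_fin_109) (range_glue (range_of_allGrid c_fin_110) (range_glue (range_of_allGrid c_fin_111) (range_glue (range_of_allGrid c_fin_112) (range_glue (range_of_allGrid c_fin_113) (range_glue (range_of_allGrid c_fin_114) (range_glue (range_of_allGrid c_fin_115) (range_glue (range_of_allGrid c_fin_116) (range_glue (range_of_allGrid c_fin_117) (range_glue (range_of_allGrid c_fin_118) (range_of_allGrid c_fin_119))))))))))))))))))))))))))))))))))))))))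
theorem h_fin_p3 : ∀ i, 180000 ≤ i → i < 240000 → ∀ x, x < 8 → T.finOK D i x = true :=
  (range_glue (range_of_allGrid c_fin_120) (range_glue (range_of_allGrid c_fin_121) (range_glue (range_of_allGrid c_fin_122) (range_glue (range_of_allGrid c_fin_123) (range_glue (range_of_allGrid c_fin_124) (range_glue (range_of_allGrid c_fin_125) (range_glue (range_of_allGrid c_fin_126) (range_glue (range_of_allGrid c_fin_127) (range_glue (range_of_allGrid c_fin_128) (range_glue (range_of_allGrid c_fin_129) (range_glue (range_of_allGrid c_fin_130) (range_glue (range_of_allGrid c_fin_131) (range_glue (range_of_allGrid c_fin_132) (range_glue (range_of_allGrid c_fin_133) (range_glue (range_of_allGrid c_fin_134) (range_glue (range_of_allGrid c_fin_135) (range_glue (range_of_allGrid c_fin_136) (range_glue (range_of_allGrid c_fin_137) (range_glue (range_of_allGrid c_fin_138) (range_glue (range_of_allGrid c_fin_139) (range_glue (range_of_allGrid c_fin_140) (range_glue (range_of_allGrid c_fin_141) (range_glue (range_of_allGrid c_fin_142) (range_glue (range_of_allGrid c_fin_143) (range_glue (range_of_allGrid c_fin_144) (range_glue (range_of_allGrid c_fin_145) (range_glue (range_of_allGrid c_fin_146) (range_glue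 (range_of_allGrid c_fin_147) (range_glue (range_of_allGrid c_fin_148) (range_glue (range_of_allGrid c_fin_149) (range_glue (range_of_allGrid c_fin_150) (range_glue (range_of_allGrid c_fin_151) (range_glue (range_of_allGrid c_fin_152) (range_glue (range_of_allGrid c_fin_153) (range_glue (range_of_allGrid c_fin_154) (range_glue (range_of_allGrid c_fin_155) (range_glue (range_of_allGrid c_fin_156) (range_glue (range_of_allGrid c_fin_157) (range_glue (range_of_allGrid c_fin_158) (range_of_allGrid c_fin_159))))))))))))))))))))))))))))))))))))))))
theorem h_fin_p4 : ∀ i, 240000 ≤ i → i < 300000 → ∀ x, x < 8 → T.finOK D i x = true :=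
  (range_glue (range_of_allGrid c_fin_160) (range_glue (range_of_allGrid c_fin_161) (range_glue (range_of_allGrid c_fin_162) (range_glue (range_of_allGrid c_fin_163) (range_glue (range_of_allGrid c_fin_164) (range_glue (range_of_allGrid c_fin_165) (range_glue (range_of_allGrid c_fin_166) (range_glue (range_of_allGrid c_fin_167) (range_glue (range_of_allGrid c_fin_168) (range_glue (range_of_allGrid c_fin_169) (range_glue (range_of_allGrid c_fin_170) (range_glue (range_of_allGrid c_fin_171) (range_glue (range_of_allGrid c_fin_172) (range_glue (range_of_allGrid c_fin_173) (range_glue (range_of_allGrid c_fin_174) (range_glue (range_of_allGrid c_fin_175) (range_glue (range_of_allGrid c_fin_176) (range_glue (range_of_allGrid c_fin_177) (range_glue (range_of_allGrid c_fin_178) (range_glue (range_of_allGrid c_fin_179) (range_glue (range_of_allGrid c_fin_180) (range_glue (range_of_allGrid c_fin_181) (range_glue (range_of_allGrid c_fin_182) (range_glue (range_of_allGrid c_fin_183) (range_glue (range_of_allGrid c_fin_184) (range_glue (range_of_allGrid c_fin_185) (range_glue (range_of_allGrid c_fin_186) (range_glue (range_of_allGrid c_fin_187) (range_glue (range_of_allGrid c_fin_188) (range_glue (range_of_allGrid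 c_fin_189) (range_glue (range_of_allGrid c_fin_190) (range_glue (range_of_allGrid c_fin_191) (range_glue (range_of_allGrid c_fin_192) (range_glue (range_of_allGrid c_fin_193) (range_glue (range_of_allGrid c_fin_194) (range_glue (range_of_allGrid c_fin_195) (range_glue (range_of_allGrid c_fin_196) (range_glue (range_of_allGrid c_fin_197) (range_glue (range_of_allGrid c_fin_198) (range_of_allGrid c_fin_199))))))))))))))))))))))))))))))))))))))))
theorem h_fin_p5 : ∀ i, 300000 ≤ i → i < 360000 → ∀ x, x < 8 → T.finOK D i x = true :=
  (range_glue (range_of_allGrid c_fin_200) (range_glue (range_of_allGrid c_fin_201) (range_glue (range_of_allGrid c_fin_202) (range_glue (range_of_allGrid c_fin_203) (range_glue (range_of_allGrid c_fin_204) (range_glue (range_of_allGrid c_fin_205) (range_glue (range_of_allGrid c_fin_206) (range_glue (range_of_allGrid c_fin_207) (range_glue (range_of_allGrid c_fin_208) (range_glue (range_of_allGrid c_fin_209) (range_glue (range_of_allGrid c_fin_210) (range_glue (range_of_allGrid c_fin_211) (range_glue (range_of_allGrid c_fin_212) (range_glue (range_of_allGrid c_fin_213) (range_glue (range_of_allGrid c_fin_214) (range_glue (range_of_allGrid c_fin_215) (range_glue (range_of_allGrid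 c_fin_216) (range_glue (range_of_allGrid c_fin_217) (range_glue (range_of_allGrid c_fin_218) (range_glue (range_of_allGrid c_fin_219) (range_glue (range_of_allGrid c_fin_220) (range_glue (range_of_allGrid c_fin_221) (range_glue (range_of_allGrid c_fin_222) (range_glue (range_of_allGrid c_fin_223) (range_glue (range_of_allGrid c_fin_224) (range_glue (range_of_allGrid c_fin_225) (range_glue (range_of_allGrid c_fin_226) (range_glue (range_of_allGrid c_fin_227) (range_glue (range_of_allGrid c_fin_228) (range_glue (range_of_allGrid c_fin_229) (range_glue (range_of_allGrid c_fin_230) (range_glue (range_of_allGrid c_fin_231) (range_glue (range_of_allGrid c_fin_232) (range_glue (range_of_allGrid c_fin_233) (range_glue (range_of_allGrid c_fin_234) (range_glue (range_of_allGrid c_fin_235) (range_glue (range_of_allGrid c_fin_236) (range_glue (range_of_allGrid c_fin_237) (range_glue (range_of_allGrid c_fin_238) (range_of_allGrid c_fin_239))))))))))))))))))))))))))))))))))))))))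
theorem h_fin_p6 : ∀ i, 360000 ≤ i → i < 420000 → ∀ x, x < 8 → T.finOK D i x = true :=
  (range_glue (range_of_allGrid c_fin_240) (range_glue (range_of_allGrid c_fin_241) (range_glue (range_of_allGrid c_fin_242) (range_glue (range_of_allGrid c_fin_243) (range_glue (range_of_allGrid c_fin_244) (range_glue (range_of_allGrid c_fin_245) (range_glue (range_of_allGrid c_fin_246) (range_glue (range_of_allGrid c_fin_247) (range_glue (range_of_allGrid c_fin_248) (range_glue (range_of_allGrid c_fin_249) (range_glue (range_of_allGrid c_fin_250) (range_glue (range_of_allGrid c_fin_251) (range_glue (range_of_allGrid c_fin_252) (range_glue (range_of_allGrid c_fin_253) (range_glue (range_of_allGrid c_fin_254) (range_glue (range_of_allGrid c_fin_255) (range_glue (range_of_allGrid c_fin_256) (range_glue (range_of_allGrid c_fin_257) (range_glue (range_of_allGrid c_fin_258) (range_glue (range_of_allGrid c_fin_259) (range_glue (range_of_allGrid c_fin_260) (range_glue (range_of_allGrid c_fin_261) (range_glue (range_of_allGrid c_fin_262) (range_glue (range_of_allGrid c_fin_263) (range_glue (range_of_allGrid c_fin_264) (range_glue (range_of_allGrid c_fin_265) (range_glue (range_of_allGrid c_fin_266) (range_glue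 (range_of_allGrid c_fin_267) (range_glue (range_of_allGrid c_fin_268) (range_glue (range_of_allGrid c_fin_269) (range_glue (range_of_allGrid c_fin_270) (range_glue (range_of_allGrid c_fin_271) (range_glue (range_of_allGrid c_fin_272) (range_glue (range_of_allGrid c_fin_273) (range_glue (range_of_allGrid c_fin_274) (range_glue (range_of_allGrid c_fin_275) (range_glue (range_of_allGrid c_fin_276) (range_glue (range_of_allGrid c_fin_277) (range_glue (range_of_allGrid c_fin_278) (range_of_allGrid c_fin_279))))))))))))))))))))))))))))))))))))))))
theorem h_fin_p7 : ∀ i, 420000 ≤ i → i < 480000 → ∀ x, x < 8 → T.finOK D i x = true :=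
  (range_glue (range_of_allGrid c_fin_280) (range_glue (range_of_allGrid c_fin_281) (range_glue (range_of_allGrid c_fin_282) (range_glue (range_of_allGrid c_fin_283) (range_glue (range_of_allGrid c_fin_284) (range_glue (range_of_allGrid c_fin_285) (range_glue (range_of_allGrid c_fin_286) (range_glue (range_of_allGrid c_fin_287) (range_glue (range_of_allGrid c_fin_288) (range_glue (range_of_allGrid c_fin_289) (range_glue (range_of_allGrid c_fin_290) (range_glue (range_of_allGrid c_fin_291) (range_glue (range_of_allGrid c_fin_292) (range_glue (range_of_allGrid c_fin_293) (range_glue (range_of_allGrid c_fin_294) (range_glue (range_of_allGrid c_fin_295) (range_glue (range_of_allGrid c_fin_296) (range_glue (range_of_allGrid c_fin_297) (range_glue (range_of_allGrid c_fin_298) (range_glue (range_of_allGrid c_fin_299) (range_glue (range_of_allGrid c_fin_300) (range_glue (range_of_allGrid c_fin_301) (range_glue (range_of_allGrid c_fin_302) (range_glue (range_of_allGrid c_fin_303) (range_glue (range_of_allGrid c_fin_304) (range_glue (range_of_allGrid c_fin_305) (range_glue (range_of_allGrid c_fin_306) (range_glue (range_of_allGrid c_fin_307) (range_glue (range_of_allGrid c_fin_308) (range_glue (range_of_allGrid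 c_fin_309) (range_glue (range_of_allGrid c_fin_310) (range_glue (range_of_allGrid c_fin_311) (range_glue (range_of_allGrid c_fin_312) (range_glue (range_of_allGrid c_fin_313) (range_glue (range_of_allGrid c_fin_314) (range_glue (range_of_allGrid c_fin_315) (range_glue (range_of_allGrid c_fin_316) (range_glue (range_of_allGrid c_fin_317) (range_glue (range_of_allGrid c_fin_318) (range_of_allGrid c_fin_319))))))))))))))))))))))))))))))))))))))))
theorem h_fin_p8 : ∀ i, 480000 ≤ i → i < 540000 → ∀ x, x < 8 → T.finOK D i x = true :=
  (range_glue (range_of_allGrid c_fin_320) (range_glue (range_of_allGrid c_fin_321) (range_glue (range_of_allGrid c_fin_322) (range_glue (range_of_allGrid c_fin_323) (range_glue (range_of_allGrid c_fin_324) (range_glue (range_of_allGrid c_fin_325) (range_glue (range_of_allGrid c_fin_326) (range_glue (range_of_allGrid c_fin_327) (range_glue (range_of_allGrid c_fin_328) (range_glue (range_of_allGrid c_fin_329) (range_glue (range_of_allGrid c_fin_330) (range_glue (range_of_allGrid c_fin_331) (range_glue (range_of_allGrid c_fin_332) (range_glue (range_of_allGrid c_fin_333) (range_glue (range_of_allGrid c_fin_334) (range_glue (range_of_allGrid c_fin_335) (range_glue (range_of_allGrid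 c_fin_336) (range_glue (range_of_allGrid c_fin_337) (range_glue (range_of_allGrid c_fin_338) (range_glue (range_of_allGrid c_fin_339) (range_glue (range_of_allGrid c_fin_340) (range_glue (range_of_allGrid c_fin_341) (range_glue (range_of_allGrid c_fin_342) (range_glue (range_of_allGrid c_fin_343) (range_glue (range_of_allGrid c_fin_344) (range_glue (range_of_allGrid c_fin_345) (range_glue (range_of_allGrid c_fin_346) (range_glue (range_of_allGrid c_fin_347) (range_glue (range_of_allGrid c_fin_348) (range_glue (range_of_allGrid c_fin_349) (range_glue (range_of_allGrid c_fin_350) (range_glue (range_of_allGrid c_fin_351) (range_glue (range_of_allGrid c_fin_352) (range_glue (range_of_allGrid c_fin_353) (range_glue (range_of_allGrid c_fin_354) (range_glue (range_of_allGrid c_fin_355) (range_glue (range_of_allGrid c_fin_356) (range_glue (range_of_allGrid c_fin_357) (range_glue (range_of_allGrid c_fin_358) (range_of_allGrid c_fin_359))))))))))))))))))))))))))))))))))))))))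
theorem h_fin_p9 : ∀ i, 540000 ≤ i → i < 600000 → ∀ x, x < 8 → T.finOK D i x = true :=
  (range_glue (range_of_allGrid c_fin_360) (range_glue (range_of_allGrid c_fin_361) (range_glue (range_of_allGrid c_fin_362) (range_glue (range_of_allGrid c_fin_363) (range_glue (range_of_allGrid c_fin_364) (range_glue (range_of_allGrid c_fin_365) (range_glue (range_of_allGrid c_fin_366) (range_glue (range_of_allGrid c_fin_367) (range_glue (range_of_allGrid c_fin_368) (range_glue (range_of_allGrid c_fin_369) (range_glue (range_of_allGrid c_fin_370) (range_glue (range_of_allGrid c_fin_371) (range_glue (range_of_allGrid c_fin_372) (range_glue (range_of_allGrid c_fin_373) (range_glue (range_of_allGrid c_fin_374) (range_glue (range_of_allGrid c_fin_375) (range_glue (range_of_allGrid c_fin_376) (range_glue (range_of_allGrid c_fin_377) (range_glue (range_of_allGrid c_fin_378) (range_glue (range_of_allGrid c_fin_379) (range_glue (range_of_allGrid c_fin_380) (range_glue (range_of_allGrid c_fin_381) (range_glue (range_of_allGrid c_fin_382) (range_glue (range_of_allGrid c_fin_383) (range_glue (range_of_allGrid c_fin_384) (range_glue (range_of_allGrid c_fin_385) (range_glue (range_of_allGrid c_fin_386) (range_glue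 (range_of_allGrid c_fin_387) (range_glue (range_of_allGrid c_fin_388) (range_glue (range_of_allGrid c_fin_389) (range_glue (range_of_allGrid c_fin_390) (range_glue (range_of_allGrid c_fin_391) (range_glue (range_of_allGrid c_fin_392) (range_glue (range_of_allGrid c_fin_393) (range_glue (range_of_allGrid c_fin_394) (range_glue (range_of_allGrid c_fin_395) (range_glue (range_of_allGrid c_fin_396) (range_glue (range_of_allGrid c_fin_397) (range_glue (range_of_allGrid c_fin_398) (range_of_allGrid c_fin_399))))))))))))))))))))))))))))))))))))))))
theorem h_fin_p10 : ∀ i, 600000 ≤ i → i < 660000 → ∀ x, x < 8 → T.finOK D i x = true :=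
  (range_glue (range_of_allGrid c_fin_400) (range_glue (range_of_allGrid c_fin_401) (range_glue (range_of_allGrid c_fin_402) (range_glue (range_of_allGrid c_fin_403) (range_glue (range_of_allGrid c_fin_404) (range_glue (range_of_allGrid c_fin_405) (range_glue (range_of_allGrid c_fin_406) (range_glue (range_of_allGrid c_fin_407) (range_glue (range_of_allGrid c_fin_408) (range_glue (range_of_allGrid c_fin_409) (range_glue (range_of_allGrid c_fin_410) (range_glue (range_of_allGrid c_fin_411) (range_glue (range_of_allGrid c_fin_412) (range_glue (range_of_allGrid c_fin_413) (range_glue (range_of_allGrid c_fin_414) (range_glue (range_of_allGrid c_fin_415) (range_glue (range_of_allGrid c_fin_416) (range_glue (range_of_allGrid c_fin_417) (range_glue (range_of_allGrid c_fin_418) (range_glue (range_of_allGrid c_fin_419) (range_glue (range_of_allGrid c_fin_420) (range_glue (range_of_allGrid c_fin_421) (range_glue (range_of_allGrid c_fin_422) (range_glue (range_of_allGrid c_fin_423) (range_glue (range_of_allGrid c_fin_424) (range_glue (range_of_allGrid c_fin_425) (range_glue (range_of_allGrid c_fin_426) (range_glue (range_of_allGrid c_fin_427) (range_glue (range_of_allGrid c_fin_428) (range_glue (range_of_allGrid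 c_fin_429) (range_glue (range_of_allGrid c_fin_430) (range_glue (range_of_allGrid c_fin_431) (range_glue (range_of_allGrid c_fin_432) (range_glue (range_of_allGrid c_fin_433) (range_glue (range_of_allGrid c_fin_434) (range_glue (range_of_allGrid c_fin_435) (range_glue (range_of_allGrid c_fin_436) (range_glue (range_of_allGrid c_fin_437) (range_glue (range_of_allGrid c_fin_438) (range_of_allGrid c_fin_439))))))))))))))))))))))))))))))))))))))))
theorem h_fin_p11 : ∀ i, 660000 ≤ i → i < 720000 → ∀ x, x < 8 → T.finOK D i x = true :=
  (range_glue (range_of_allGrid c_fin_440) (range_glue (range_of_allGrid c_fin_441) (range_glue (range_of_allGrid c_fin_442) (range_glue (range_of_allGrid c_fin_443) (range_glue (range_of_allGrid c_fin_444) (range_glue (range_of_allGrid c_fin_445) (range_glue (range_of_allGrid c_fin_446) (range_glue (range_of_allGrid c_fin_447) (range_glue (range_of_allGrid c_fin_448) (range_glue (range_of_allGrid c_fin_449) (range_glue (range_of_allGrid c_fin_450) (range_glue (range_of_allGrid c_fin_451) (range_glue (range_of_allGrid c_fin_452) (range_glue (range_of_allGrid c_fin_453) (range_glue (range_of_allGrid c_fin_454) (range_glue (range_of_allGrid c_fin_455) (range_glue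 (range_of_allGrid c_fin_456) (range_glue (range_of_allGrid c_fin_457) (range_glue (range_of_allGrid c_fin_458) (range_glue (range_of_allGrid c_fin_459) (range_glue (range_of_allGrid c_fin_460) (range_glue (range_of_allGrid c_fin_461) (range_glue (range_of_allGrid c_fin_462) (range_glue (range_of_allGrid c_fin_463) (range_glue (range_of_allGrid c_fin_464) (range_glue (range_of_allGrid c_fin_465) (range_glue (range_of_allGrid c_fin_466) (range_glue (range_of_allGrid c_fin_467) (range_glue (range_of_allGrid c_fin_468) (range_glue (range_of_allGrid c_fin_469) (range_glue (range_of_allGrid c_fin_470) (range_glue (range_of_allGrid c_fin_471) (range_glue (range_of_allGrid c_fin_472) (range_glue (range_of_allGrid c_fin_473) (range_glue (range_of_allGrid c_fin_474) (range_glue (range_of_allGrid c_fin_475) (range_glue (range_of_allGrid c_fin_476) (range_glue (range_of_allGrid c_fin_477) (range_glue (range_of_allGrid c_fin_478) (range_of_allGrid c_fin_479))))))))))))))))))))))))))))))))))))))))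
theorem h_fin_p12 : ∀ i, 720000 ≤ i → i < 780000 → ∀ x, x < 8 → T.finOK D i x = true :=
  (range_glue (range_of_allGrid c_fin_480) (range_glue (range_of_allGrid c_fin_481) (range_glue (range_of_allGrid c_fin_482) (range_glue (range_of_allGrid c_fin_483) (range_glue (range_of_allGrid c_fin_484) (range_glue (range_of_allGrid c_fin_485) (range_glue (range_of_allGrid c_fin_486) (range_glue (range_of_allGrid c_fin_487) (range_glue (range_of_allGrid c_fin_488) (range_glue (range_of_allGrid c_fin_489) (range_glue (range_of_allGrid c_fin_490) (range_glue (range_of_allGrid c_fin_491) (range_glue (range_of_allGrid c_fin_492) (range_glue (range_of_allGrid c_fin_493) (range_glue (range_of_allGrid c_fin_494) (range_glue (range_of_allGrid c_fin_495) (range_glue (range_of_allGrid c_fin_496) (range_glue (range_of_allGrid c_fin_497) (range_glue (range_of_allGrid c_fin_498) (range_glue (range_of_allGrid c_fin_499) (range_glue (range_of_allGrid c_fin_500) (range_glue (range_of_allGrid c_fin_501) (range_glue (range_of_allGrid c_fin_502) (range_glue (range_of_allGrid c_fin_503) (range_glue (range_of_allGrid c_fin_504) (range_glue (range_of_allGrid c_fin_505) (range_glue (range_of_allGrid c_fin_506) (range_glue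 (range_of_allGrid c_fin_507) (range_glue (range_of_allGrid c_fin_508) (range_glue (range_of_allGrid c_fin_509) (range_glue (range_of_allGrid c_fin_510) (range_glue (range_of_allGrid c_fin_511) (range_glue (range_of_allGrid c_fin_512) (range_glue (range_of_allGrid c_fin_513) (range_glue (range_of_allGrid c_fin_514) (range_glue (range_of_allGrid c_fin_515) (range_glue (range_of_allGrid c_fin_516) (range_glue (range_of_allGrid c_fin_517) (range_glue (range_of_allGrid c_fin_518) (range_of_allGrid c_fin_519))))))))))))))))))))))))))))))))))))))))
theorem h_fin_p13 : ∀ i, 780000 ≤ i → i < 840000 → ∀ x, x < 8 → T.finOK D i x = true :=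
  (range_glue (range_of_allGrid c_fin_520) (range_glue (range_of_allGrid c_fin_521) (range_glue (range_of_allGrid c_fin_522) (range_glue (range_of_allGrid c_fin_523) (range_glue (range_of_allGrid c_fin_524) (range_glue (range_of_allGrid c_fin_525) (range_glue (range_of_allGrid c_fin_526) (range_glue (range_of_allGrid c_fin_527) (range_glue (range_of_allGrid c_fin_528) (range_glue (range_of_allGrid c_fin_529) (range_glue (range_of_allGrid c_fin_530) (range_glue (range_of_allGrid c_fin_531) (range_glue (range_of_allGrid c_fin_532) (range_glue (range_of_allGrid c_fin_533) (range_glue (range_of_allGrid c_fin_534) (range_glue (range_of_allGrid c_fin_535) (range_glue (range_of_allGrid c_fin_536) (range_glue (range_of_allGrid c_fin_537) (range_glue (range_of_allGrid c_fin_538) (range_glue (range_of_allGrid c_fin_539) (range_glue (range_of_allGrid c_fin_540) (range_glue (range_of_allGrid c_fin_541) (range_glue (range_of_allGrid c_fin_542) (range_glue (range_of_allGrid c_fin_543) (range_glue (range_of_allGrid c_fin_544) (range_glue (range_of_allGrid c_fin_545) (range_glue (range_of_allGrid c_fin_546) (range_glue (range_of_allGrid c_fin_547) (range_glue (range_of_allGrid c_fin_548) (range_glue (range_of_allGrid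 c_fin_549) (range_glue (range_of_allGrid c_fin_550) (range_glue (range_of_allGrid c_fin_551) (range_glue (range_of_allGrid c_fin_552) (range_glue (range_of_allGrid c_fin_553) (range_glue (range_of_allGrid c_fin_554) (range_glue (range_of_allGrid c_fin_555) (range_glue (range_of_allGrid c_fin_556) (range_glue (range_of_allGrid c_fin_557) (range_glue (range_of_allGrid c_fin_558) (range_of_allGrid c_fin_559))))))))))))))))))))))))))))))))))))))))
theorem h_fin_p14 : ∀ i, 840000 ≤ i → i < 900000 → ∀ x, x < 8 → T.finOK D i x = true :=
  (range_glue (range_of_allGrid c_fin_560) (range_glue (range_of_allGrid c_fin_561) (range_glue (range_of_allGrid c_fin_562) (range_glue (range_of_allGrid c_fin_563) (range_glue (range_of_allGrid c_fin_564) (range_glue (range_of_allGrid c_fin_565) (range_glue (range_of_allGrid c_fin_566) (range_glue (range_of_allGrid c_fin_567) (range_glue (range_of_allGrid c_fin_568) (range_glue (range_of_allGrid c_fin_569) (range_glue (range_of_allGrid c_fin_570) (range_glue (range_of_allGrid c_fin_571) (range_glue (range_of_allGrid c_fin_572) (range_glue (range_of_allGrid c_fin_573) (range_glue (range_of_allGrid c_fin_574) (range_glue (range_of_allGrid c_fin_575) (range_glue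 (range_of_allGrid c_fin_576) (range_glue (range_of_allGrid c_fin_577) (range_glue (range_of_allGrid c_fin_578) (range_glue (range_of_allGrid c_fin_579) (range_glue (range_of_allGrid c_fin_580) (range_glue (range_of_allGrid c_fin_581) (range_glue (range_of_allGrid c_fin_582) (range_glue (range_of_allGrid c_fin_583) (range_glue (range_of_allGrid c_fin_584) (range_glue (range_of_allGrid c_fin_585) (range_glue (range_of_allGrid c_fin_586) (range_glue (range_of_allGrid c_fin_587) (range_glue (range_of_allGrid c_fin_588) (range_glue (range_of_allGrid c_fin_589) (range_glue (range_of_allGrid c_fin_590) (range_glue (range_of_allGrid c_fin_591) (range_glue (range_of_allGrid c_fin_592) (range_glue (range_of_allGrid c_fin_593) (range_glue (range_of_allGrid c_fin_594) (range_glue (range_of_allGrid c_fin_595) (range_glue (range_of_allGrid c_fin_596) (range_glue (range_of_allGrid c_fin_597) (range_glue (range_of_allGrid c_fin_598) (range_of_allGrid c_fin_599))))))))))))))))))))))))))))))))))))))))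
theorem h_fin_p15 : ∀ i, 900000 ≤ i → i < 960000 → ∀ x, x < 8 → T.finOK D i x = true :=
  (range_glue (range_of_allGrid c_fin_600) (range_glue (range_of_allGrid c_fin_601) (range_glue (range_of_allGrid c_fin_602) (range_glue (range_of_allGrid c_fin_603) (range_glue (range_of_allGrid c_fin_604) (range_glue (range_of_allGrid c_fin_605) (range_glue (range_of_allGrid c_fin_606) (range_glue (range_of_allGrid c_fin_607) (range_glue (range_of_allGrid c_fin_608) (range_glue (range_of_allGrid c_fin_609) (range_glue (range_of_allGrid c_fin_610) (range_glue (range_of_allGrid c_fin_611) (range_glue (range_of_allGrid c_fin_612) (range_glue (range_of_allGrid c_fin_613) (range_glue (range_of_allGrid c_fin_614) (range_glue (range_of_allGrid c_fin_615) (range_glue (range_of_allGrid c_fin_616) (range_glue (range_of_allGrid c_fin_617) (range_glue (range_of_allGrid c_fin_618) (range_glue (range_of_allGrid c_fin_619) (range_glue (range_of_allGrid c_fin_620) (range_glue (range_of_allGrid c_fin_621) (range_glue (range_of_allGrid c_fin_622) (range_glue (range_of_allGrid c_fin_623) (range_glue (range_of_allGrid c_fin_624) (range_glue (range_of_allGrid c_fin_625) (range_glue (range_of_allGrid c_fin_626) (range_glue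 (range_of_allGrid c_fin_627) (range_glue (range_of_allGrid c_fin_628) (range_glue (range_of_allGrid c_fin_629) (range_glue (range_of_allGrid c_fin_630) (range_glue (range_of_allGrid c_fin_631) (range_glue (range_of_allGrid c_fin_632) (range_glue (range_of_allGrid c_fin_633) (range_glue (range_of_allGrid c_fin_634) (range_glue (range_of_allGrid c_fin_635) (range_glue (range_of_allGrid c_fin_636) (range_glue (range_of_allGrid c_fin_637) (range_glue (range_of_allGrid c_fin_638) (range_of_allGrid c_fin_639))))))))))))))))))))))))))))))))))))))))
theorem h_fin_p16 : ∀ i, 960000 ≤ i → i < 1020000 → ∀ x, x < 8 → T.finOK D i x = true :=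
  (range_glue (range_of_allGrid c_fin_640) (range_glue (range_of_allGrid c_fin_641) (range_glue (range_of_allGrid c_fin_642) (range_glue (range_of_allGrid c_fin_643) (range_glue (range_of_allGrid c_fin_644) (range_glue (range_of_allGrid c_fin_645) (range_glue (range_of_allGrid c_fin_646) (range_glue (range_of_allGrid c_fin_647) (range_glue (range_of_allGrid c_fin_648) (range_glue (range_of_allGrid c_fin_649) (range_glue (range_of_allGrid c_fin_650) (range_glue (range_of_allGrid c_fin_651) (range_glue (range_of_allGrid c_fin_652) (range_glue (range_of_allGrid c_fin_653) (range_glue (range_of_allGrid c_fin_654) (range_glue (range_of_allGrid c_fin_655) (range_glue (range_of_allGrid c_fin_656) (range_glue (range_of_allGrid c_fin_657) (range_glue (range_of_allGrid c_fin_658) (range_glue (range_of_allGrid c_fin_659) (range_glue (range_of_allGrid c_fin_660) (range_glue (range_of_allGrid c_fin_661) (range_glue (range_of_allGrid c_fin_662) (range_glue (range_of_allGrid c_fin_663) (range_glue (range_of_allGrid c_fin_664) (range_glue (range_of_allGrid c_fin_665) (range_glue (range_of_allGrid c_fin_666) (range_glue (range_of_allGrid c_fin_667) (range_glue (range_of_allGrid c_fin_668) (range_glue (range_of_allGrid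 c_fin_669) (range_glue (range_of_allGrid c_fin_670) (range_glue (range_of_allGrid c_fin_671) (range_glue (range_of_allGrid c_fin_672) (range_glue (range_of_allGrid c_fin_673) (range_glue (range_of_allGrid c_fin_674) (range_glue (range_of_allGrid c_fin_675) (range_glue (range_of_allGrid c_fin_676) (range_glue (range_of_allGrid c_fin_677) (range_glue (range_of_allGrid c_fin_678) (range_of_allGrid c_fin_679))))))))))))))))))))))))))))))))))))))))
theorem h_fin_p17 : ∀ i, 1020000 ≤ i → i < 1080000 → ∀ x, x < 8 → T.finOK D i x = true :=
  (range_glue (range_of_allGrid c_fin_680) (range_glue (range_of_allGrid c_fin_681) (range_glue (range_of_allGrid c_fin_682) (range_glue (range_of_allGrid c_fin_683) (range_glue (range_of_allGrid c_fin_684) (range_glue (range_of_allGrid c_fin_685) (range_glue (range_of_allGrid c_fin_686) (range_glue (range_of_allGrid c_fin_687) (range_glue (range_of_allGrid c_fin_688) (range_glue (range_of_allGrid c_fin_689) (range_glue (range_of_allGrid c_fin_690) (range_glue (range_of_allGrid c_fin_691) (range_glue (range_of_allGrid c_fin_692) (range_glue (range_of_allGrid c_fin_693) (range_glue (range_of_allGrid c_fin_694) (range_glue (range_of_allGrid c_fin_695) (range_glue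 (range_of_allGrid c_fin_696) (range_glue (range_of_allGrid c_fin_697) (range_glue (range_of_allGrid c_fin_698) (range_glue (range_of_allGrid c_fin_699) (range_glue (range_of_allGrid c_fin_700) (range_glue (range_of_allGrid c_fin_701) (range_glue (range_of_allGrid c_fin_702) (range_glue (range_of_allGrid c_fin_703) (range_glue (range_of_allGrid c_fin_704) (range_glue (range_of_allGrid c_fin_705) (range_glue (range_of_allGrid c_fin_706) (range_glue (range_of_allGrid c_fin_707) (range_glue (range_of_allGrid c_fin_708) (range_glue (range_of_allGrid c_fin_709) (range_glue (range_of_allGrid c_fin_710) (range_glue (range_of_allGrid c_fin_711) (range_glue (range_of_allGrid c_fin_712) (range_glue (range_of_allGrid c_fin_713) (range_glue (range_of_allGrid c_fin_714) (range_glue (range_of_allGrid c_fin_715) (range_glue (range_of_allGrid c_fin_716) (range_glue (range_of_allGrid c_fin_717) (range_glue (range_of_allGrid c_fin_718) (range_of_allGrid c_fin_719))))))))))))))))))))))))))))))))))))))))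
theorem h_fin_p18 : ∀ i, 1080000 ≤ i → i < 1140000 → ∀ x, x < 8 → T.finOK D i x = true :=
  (range_glue (range_of_allGrid c_fin_720) (range_glue (range_of_allGrid c_fin_721) (range_glue (range_of_allGrid c_fin_722) (range_glue (range_of_allGrid c_fin_723) (range_glue (range_of_allGrid c_fin_724) (range_glue (range_of_allGrid c_fin_725) (range_glue (range_of_allGrid c_fin_726) (range_glue (range_of_allGrid c_fin_727) (range_glue (range_of_allGrid c_fin_728) (range_glue (range_of_allGrid c_fin_729) (range_glue (range_of_allGrid c_fin_730) (range_glue (range_of_allGrid c_fin_731) (range_glue (range_of_allGrid c_fin_732) (range_glue (range_of_allGrid c_fin_733) (range_glue (range_of_allGrid c_fin_734) (range_glue (range_of_allGrid c_fin_735) (range_glue (range_of_allGrid c_fin_736) (range_glue (range_of_allGrid c_fin_737) (range_glue (range_of_allGrid c_fin_738) (range_glue (range_of_allGrid c_fin_739) (range_glue (range_of_allGrid c_fin_740) (range_glue (range_of_allGrid c_fin_741) (range_glue (range_of_allGrid c_fin_742) (range_glue (range_of_allGrid c_fin_743) (range_glue (range_of_allGrid c_fin_744) (range_glue (range_of_allGrid c_fin_745) (range_glue (range_of_allGrid c_fin_746) (range_glue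 (range_of_allGrid c_fin_747) (range_glue (range_of_allGrid c_fin_748) (range_glue (range_of_allGrid c_fin_749) (range_glue (range_of_allGrid c_fin_750) (range_glue (range_of_allGrid c_fin_751) (range_glue (range_of_allGrid c_fin_752) (range_glue (range_of_allGrid c_fin_753) (range_glue (range_of_allGrid c_fin_754) (range_glue (range_of_allGrid c_fin_755) (range_glue (range_of_allGrid c_fin_756) (range_glue (range_of_allGrid c_fin_757) (range_glue (range_of_allGrid c_fin_758) (range_of_allGrid c_fin_759))))))))))))))))))))))))))))))))))))))))
theorem h_fin_p19 : ∀ i, 1140000 ≤ i → i < 1200000 → ∀ x, x < 8 → T.finOK D i x = true :=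
  (range_glue (range_of_allGrid c_fin_760) (range_glue (range_of_allGrid c_fin_761) (range_glue (range_of_allGrid c_fin_762) (range_glue (range_of_allGrid c_fin_763) (range_glue (range_of_allGrid c_fin_764) (range_glue (range_of_allGrid c_fin_765) (range_glue (range_of_allGrid c_fin_766) (range_glue (range_of_allGrid c_fin_767) (range_glue (range_of_allGrid c_fin_768) (range_glue (range_of_allGrid c_fin_769) (range_glue (range_of_allGrid c_fin_770) (range_glue (range_of_allGrid c_fin_771) (range_glue (range_of_allGrid c_fin_772) (range_glue (range_of_allGrid c_fin_773) (range_glue (range_of_allGrid c_fin_774) (range_glue (range_of_allGrid c_fin_775) (range_glue (range_of_allGrid c_fin_776) (range_glue (range_of_allGrid c_fin_777) (range_glue (range_of_allGrid c_fin_778) (range_glue (range_of_allGrid c_fin_779) (range_glue (range_of_allGrid c_fin_780) (range_glue (range_of_allGrid c_fin_781) (range_glue (range_of_allGrid c_fin_782) (range_glue (range_of_allGrid c_fin_783) (range_glue (range_of_allGrid c_fin_784) (range_glue (range_of_allGrid c_fin_785) (range_glue (range_of_allGrid c_fin_786) (range_glue (range_of_allGrid c_fin_787) (range_glue (range_of_allGrid c_fin_788) (range_glue (range_of_allGrid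 c_fin_789) (range_glue (range_of_allGrid c_fin_790) (range_glue (range_of_allGrid c_fin_791) (range_glue (range_of_allGrid c_fin_792) (range_glue (range_of_allGrid c_fin_793) (range_glue (range_of_allGrid c_fin_794) (range_glue (range_of_allGrid c_fin_795) (range_glue (range_of_allGrid c_fin_796) (range_glue (range_of_allGrid c_fin_797) (range_glue (range_of_allGrid c_fin_798) (range_of_allGrid c_fin_799))))))))))))))))))))))))))))))))))))))))
theorem h_fin_p20 : ∀ i, 1200000 ≤ i → i < 1260000 → ∀ x, x < 8 → T.finOK D i x = true :=
  (range_glue (range_of_allGrid c_fin_800) (range_glue (range_of_allGrid c_fin_801) (range_glue (range_of_allGrid c_fin_802) (range_glue (range_of_allGrid c_fin_803) (range_glue (range_of_allGrid c_fin_804) (range_glue (range_of_allGrid c_fin_805) (range_glue (range_of_allGrid c_fin_806) (range_glue (range_of_allGrid c_fin_807) (range_glue (range_of_allGrid c_fin_808) (range_glue (range_of_allGrid c_fin_809) (range_glue (range_of_allGrid c_fin_810) (range_glue (range_of_allGrid c_fin_811) (range_glue (range_of_allGrid c_fin_812) (range_glue (range_of_allGrid c_fin_813) (range_glue (range_of_allGrid c_fin_814) (range_glue (range_of_allGrid c_fin_815) (range_glue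 (range_of_allGrid c_fin_816) (range_glue (range_of_allGrid c_fin_817) (range_glue (range_of_allGrid c_fin_818) (range_glue (range_of_allGrid c_fin_819) (range_glue (range_of_allGrid c_fin_820) (range_glue (range_of_allGrid c_fin_821) (range_glue (range_of_allGrid c_fin_822) (range_glue (range_of_allGrid c_fin_823) (range_glue (range_of_allGrid c_fin_824) (range_glue (range_of_allGrid c_fin_825) (range_glue (range_of_allGrid c_fin_826) (range_glue (range_of_allGrid c_fin_827) (range_glue (range_of_allGrid c_fin_828) (range_glue (range_of_allGrid c_fin_829) (range_glue (range_of_allGrid c_fin_830) (range_glue (range_of_allGrid c_fin_831) (range_glue (range_of_allGrid c_fin_832) (range_glue (range_of_allGrid c_fin_833) (range_glue (range_of_allGrid c_fin_834) (range_glue (range_of_allGrid c_fin_835) (range_glue (range_of_allGrid c_fin_836) (range_glue (range_of_allGrid c_fin_837) (range_glue (range_of_allGrid c_fin_838) (range_of_allGrid c_fin_839))))))))))))))))))))))))))))))))))))))))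
theorem h_fin_p21 : ∀ i, 1260000 ≤ i → i < 1320000 → ∀ x, x < 8 → T.finOK D i x = true :=
  (range_glue (range_of_allGrid c_fin_840) (range_glue (range_of_allGrid c_fin_841) (range_glue (range_of_allGrid c_fin_842) (range_glue (range_of_allGrid c_fin_843) (range_glue (range_of_allGrid c_fin_844) (range_glue (range_of_allGrid c_fin_845) (range_glue (range_of_allGrid c_fin_846) (range_glue (range_of_allGrid c_fin_847) (range_glue (range_of_allGrid c_fin_848) (range_glue (range_of_allGrid c_fin_849) (range_glue (range_of_allGrid c_fin_850) (range_glue (range_of_allGrid c_fin_851) (range_glue (range_of_allGrid c_fin_852) (range_glue (range_of_allGrid c_fin_853) (range_glue (range_of_allGrid c_fin_854) (range_glue (range_of_allGrid c_fin_855) (range_glue (range_of_allGrid c_fin_856) (range_glue (range_of_allGrid c_fin_857) (range_glue (range_of_allGrid c_fin_858) (range_glue (range_of_allGrid c_fin_859) (range_glue (range_of_allGrid c_fin_860) (range_glue (range_of_allGrid c_fin_861) (range_glue (range_of_allGrid c_fin_862) (range_glue (range_of_allGrid c_fin_863) (range_glue (range_of_allGrid c_fin_864) (range_glue (range_of_allGrid c_fin_865) (range_glue (range_of_allGrid c_fin_866) (range_glue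 (range_of_allGrid c_fin_867) (range_glue (range_of_allGrid c_fin_868) (range_glue (range_of_allGrid c_fin_869) (range_glue (range_of_allGrid c_fin_870) (range_glue (range_of_allGrid c_fin_871) (range_glue (range_of_allGrid c_fin_872) (range_glue (range_of_allGrid c_fin_873) (range_glue (range_of_allGrid c_fin_874) (range_glue (range_of_allGrid c_fin_875) (range_glue (range_of_allGrid c_fin_876) (range_glue (range_of_allGrid c_fin_877) (range_glue (range_of_allGrid c_fin_878) (range_of_allGrid c_fin_879))))))))))))))))))))))))))))))))))))))))
theorem h_fin_p22 : ∀ i, 1320000 ≤ i → i < 1380000 → ∀ x, x < 8 → T.finOK D i x = true :=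
  (range_glue (range_of_allGrid c_fin_880) (range_glue (range_of_allGrid c_fin_881) (range_glue (range_of_allGrid c_fin_882) (range_glue (range_of_allGrid c_fin_883) (range_glue (range_of_allGrid c_fin_884) (range_glue (range_of_allGrid c_fin_885) (range_glue (range_of_allGrid c_fin_886) (range_glue (range_of_allGrid c_fin_887) (range_glue (range_of_allGrid c_fin_888) (range_glue (range_of_allGrid c_fin_889) (range_glue (range_of_allGrid c_fin_890) (range_glue (range_of_allGrid c_fin_891) (range_glue (range_of_allGrid c_fin_892) (range_glue (range_of_allGrid c_fin_893) (range_glue (range_of_allGrid c_fin_894) (range_glue (range_of_allGrid c_fin_895) (range_glue (range_of_allGrid c_fin_896) (range_glue (range_of_allGrid c_fin_897) (range_glue (range_of_allGrid c_fin_898) (range_glue (range_of_allGrid c_fin_899) (range_glue (range_of_allGrid c_fin_900) (range_glue (range_of_allGrid c_fin_901) (range_glue (range_of_allGrid c_fin_902) (range_glue (range_of_allGrid c_fin_903) (range_glue (range_of_allGrid c_fin_904) (range_glue (range_of_allGrid c_fin_905) (range_glue (range_of_allGrid c_fin_906) (range_glue (range_of_allGrid c_fin_907) (range_glue (range_of_allGrid c_fin_908) (range_glue (range_of_allGrid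 c_fin_909) (range_glue (range_of_allGrid c_fin_910) (range_glue (range_of_allGrid c_fin_911) (range_glue (range_of_allGrid c_fin_912) (range_glue (range_of_allGrid c_fin_913) (range_glue (range_of_allGrid c_fin_914) (range_glue (range_of_allGrid c_fin_915) (range_glue (range_of_allGrid c_fin_916) (range_glue (range_of_allGrid c_fin_917) (range_glue (range_of_allGrid c_fin_918) (range_of_allGrid c_fin_919))))))))))))))))))))))))))))))))))))))))
theorem h_fin_p23 : ∀ i, 1380000 ≤ i → i < 1440000 → ∀ x, x < 8 → T.finOK D i x = true :=
  (range_glue (range_of_allGrid c_fin_920) (range_glue (range_of_allGrid c_fin_921) (range_glue (range_of_allGrid c_fin_922) (range_glue (range_of_allGrid c_fin_923) (range_glue (range_of_allGrid c_fin_924) (range_glue (range_of_allGrid c_fin_925) (range_glue (range_of_allGrid c_fin_926) (range_glue (range_of_allGrid c_fin_927) (range_glue (range_of_allGrid c_fin_928) (range_glue (range_of_allGrid c_fin_929) (range_glue (range_of_allGrid c_fin_930) (range_glue (range_of_allGrid c_fin_931) (range_glue (range_of_allGrid c_fin_932) (range_glue (range_of_allGrid c_fin_933) (range_glue (range_of_allGrid c_fin_934) (range_glue (range_of_allGrid c_fin_935) (range_glue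 (range_of_allGrid c_fin_936) (range_glue (range_of_allGrid c_fin_937) (range_glue (range_of_allGrid c_fin_938) (range_glue (range_of_allGrid c_fin_939) (range_glue (range_of_allGrid c_fin_940) (range_glue (range_of_allGrid c_fin_941) (range_glue (range_of_allGrid c_fin_942) (range_glue (range_of_allGrid c_fin_943) (range_glue (range_of_allGrid c_fin_944) (range_glue (range_of_allGrid c_fin_945) (range_glue (range_of_allGrid c_fin_946) (range_glue (range_of_allGrid c_fin_947) (range_glue (range_of_allGrid c_fin_948) (range_glue (range_of_allGrid c_fin_949) (range_glue (range_of_allGrid c_fin_950) (range_glue (range_of_allGrid c_fin_951) (range_glue (range_of_allGrid c_fin_952) (range_glue (range_of_allGrid c_fin_953) (range_glue (range_of_allGrid c_fin_954) (range_glue (range_of_allGrid c_fin_955) (range_glue (range_of_allGrid c_fin_956) (range_glue (range_of_allGrid c_fin_957) (range_glue (range_of_allGrid c_fin_958) (range_of_allGrid c_fin_959))))))))))))))))))))))))))))))))))))))))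
theorem h_fin_p24 : ∀ i, 1440000 ≤ i → i < 1500000 → ∀ x, x < 8 → T.finOK D i x = true :=
  (range_glue (range_of_allGrid c_fin_960) (range_glue (range_of_allGrid c_fin_961) (range_glue (range_of_allGrid c_fin_962) (range_glue (range_of_allGrid c_fin_963) (range_glue (range_of_allGrid c_fin_964) (range_glue (range_of_allGrid c_fin_965) (range_glue (range_of_allGrid c_fin_966) (range_glue (range_of_allGrid c_fin_967) (range_glue (range_of_allGrid c_fin_968) (range_glue (range_of_allGrid c_fin_969) (range_glue (range_of_allGrid c_fin_970) (range_glue (range_of_allGrid c_fin_971) (range_glue (range_of_allGrid c_fin_972) (range_glue (range_of_allGrid c_fin_973) (range_glue (range_of_allGrid c_fin_974) (range_glue (range_of_allGrid c_fin_975) (range_glue (range_of_allGrid c_fin_976) (range_glue (range_of_allGrid c_fin_977) (range_glue (range_of_allGrid c_fin_978) (range_glue (range_of_allGrid c_fin_979) (range_glue (range_of_allGrid c_fin_980) (range_glue (range_of_allGrid c_fin_981) (range_glue (range_of_allGrid c_fin_982) (range_glue (range_of_allGrid c_fin_983) (range_glue (range_of_allGrid c_fin_984) (range_glue (range_of_allGrid c_fin_985) (range_glue (range_of_allGrid c_fin_986) (range_glue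 (range_of_allGrid c_fin_987) (range_glue (range_of_allGrid c_fin_988) (range_glue (range_of_allGrid c_fin_989) (range_glue (range_of_allGrid c_fin_990) (range_glue (range_of_allGrid c_fin_991) (range_glue (range_of_allGrid c_fin_992) (range_glue (range_of_allGrid c_fin_993) (range_glue (range_of_allGrid c_fin_994) (range_glue (range_of_allGrid c_fin_995) (range_glue (range_of_allGrid c_fin_996) (range_glue (range_of_allGrid c_fin_997) (range_glue (range_of_allGrid c_fin_998) (range_of_allGrid c_fin_999))))))))))))))))))))))))))))))))))))))))
theorem h_fin_p25 : ∀ i, 1500000 ≤ i → i < 1539000 → ∀ x, x < 8 → T.finOK D i x = true :=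
  (range_glue (range_of_allGrid c_fin_1000) (range_glue (range_of_allGrid c_fin_1001) (range_glue (range_of_allGrid c_fin_1002) (range_glue (range_of_allGrid c_fin_1003) (range_glue (range_of_allGrid c_fin_1004) (range_glue (range_of_allGrid c_fin_1005) (range_glue (range_of_allGrid c_fin_1006) (range_glue (range_of_allGrid c_fin_1007) (range_glue (range_of_allGrid c_fin_1008) (range_glue (range_of_allGrid c_fin_1009) (range_glue (range_of_allGrid c_fin_1010) (range_glue (range_of_allGrid c_fin_1011) (range_glue (range_of_allGrid c_fin_1012) (range_glue (range_of_allGrid c_fin_1013) (range_glue (range_of_allGrid c_fin_1014) (range_glue (range_of_allGrid c_fin_1015) (range_glue (range_of_allGrid c_fin_1016) (range_glue (range_of_allGrid c_fin_1017) (range_glue (range_of_allGrid c_fin_1018) (range_glue (range_of_allGrid c_fin_1019) (range_glue (range_of_allGrid c_fin_1020) (range_glue (range_of_allGrid c_fin_1021) (range_glue (range_of_allGrid c_fin_1022) (range_glue (range_of_allGrid c_fin_1023) (range_glue (range_of_allGrid c_fin_1024) (range_of_allGrid c_fin_1025))))))))))))))))))))))))))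
theorem h_fin : ∀ i, 0 ≤ i → i < 1539000 → ∀ x, x < 8 → T.finOK D i x = true :=
  (range_glue h_fin_p0 (range_glue h_fin_p1 (range_glue h_fin_p2 (range_glue h_fin_p3 (range_glue h_fin_p4 (range_glue h_fin_p5 (range_glue h_fin_p6 (range_glue h_fin_p7 (range_glue h_fin_p8 (range_glue h_fin_p9 (range_glue h_fin_p10 (range_glue h_fin_p11 (range_glue h_fin_p12 (range_glue h_fin_p13 (range_glue h_fin_p14 (range_glue h_fin_p15 (range_glue h_fin_p16 (range_glue h_fin_p17 (range_glue h_fin_p18 (range_glue h_fin_p19 (range_glue h_fin_p20 (range_glue h_fin_p21 (range_glue h_fin_p22 (range_glue h_fin_p23 (range_glue h_fin_p24 h_fin_p25)))))))))))))))))))))))))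
theorem h_perm_p0 : ∀ i, 0 ≤ i → i < 150000 → ∀ x, x < 8 → T.permOK1 D i x = true :=
  (range_glue (range_of_allGrid c_perm_0) (range_glue (range_of_allGrid c_perm_1) (range_glue (range_of_allGrid c_perm_2) (range_glue (range_of_allGrid c_perm_3) (range_glue (range_of_allGrid c_perm_4) (range_glue (range_of_allGrid c_perm_5) (range_glue (range_of_allGrid c_perm_6) (range_glue (range_of_allGrid c_perm_7) (range_glue (range_of_allGrid c_perm_8) (range_glue (range_of_allGrid c_perm_9) (range_glue (range_of_allGrid c_perm_10) (range_glue (range_of_allGrid c_perm_11) (range_glue (range_of_allGrid c_perm_12) (range_glue (range_of_allGrid c_perm_13) (range_glue (range_of_allGrid c_perm_14) (range_glue (range_of_allGrid c_perm_15) (range_glue (range_of_allGrid c_perm_16) (range_glue (range_of_allGrid c_perm_17) (range_glue (range_of_allGrid c_perm_18) (range_glue (range_of_allGrid c_perm_19) (range_glue (range_of_allGrid c_perm_20) (range_glue (range_of_allGrid c_perm_21) (range_glue (range_of_allGrid c_perm_22) (range_glue (range_of_allGrid c_perm_23) (range_glue (range_of_allGrid c_perm_24) (range_glue (range_of_allGrid c_perm_25) (range_glue (range_of_allGrid c_perm_26) (range_glue (range_of_allGrid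 c_perm_27) (range_glue (range_of_allGrid c_perm_28) (range_glue (range_of_allGrid c_perm_29) (range_glue (range_of_allGrid c_perm_30) (range_glue (range_of_allGrid c_perm_31) (range_glue (range_of_allGrid c_perm_32) (range_glue (range_of_allGrid c_perm_33) (range_glue (range_of_allGrid c_perm_34) (range_glue (range_of_allGrid c_perm_35) (range_glue (range_of_allGrid c_perm_36) (range_glue (range_of_allGrid c_perm_37) (range_glue (range_of_allGrid c_perm_38) (range_of_allGrid c_perm_39))))))))))))))))))))))))))))))))))))))))
theorem h_perm_p1 : ∀ i, 150000 ≤ i → i < 300000 → ∀ x, x < 8 → T.permOK1 D i x = true :=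
  (range_glue (range_of_allGrid c_perm_40) (range_glue (range_of_allGrid c_perm_41) (range_glue (range_of_allGrid c_perm_42) (range_glue (range_of_allGrid c_perm_43) (range_glue (range_of_allGrid c_perm_44) (range_glue (range_of_allGrid c_perm_45) (range_glue (range_of_allGrid c_perm_46) (range_glue (range_of_allGrid c_perm_47) (range_glue (range_of_allGrid c_perm_48) (range_glue (range_of_allGrid c_perm_49) (range_glue (range_of_allGrid c_perm_50) (range_glue (range_of_allGrid c_perm_51) (range_glue (range_of_allGrid c_perm_52) (range_glue (range_of_allGrid c_perm_53) (range_glue (range_of_allGrid c_perm_54) (range_glue (range_of_allGrid c_perm_55) (range_glue (range_of_allGrid c_perm_56) (range_glue (range_of_allGrid c_perm_57) (range_glue (range_of_allGrid c_perm_58) (range_glue (range_of_allGrid c_perm_59) (range_glue (range_of_allGrid c_perm_60) (range_glue (range_of_allGrid c_perm_61) (range_glue (range_of_allGrid c_perm_62) (range_glue (range_of_allGrid c_perm_63) (range_glue (range_of_allGrid c_perm_64) (range_glue (range_of_allGrid c_perm_65) (range_glue (range_of_allGrid c_perm_66) (range_glue (range_of_allGrid c_perm_67) (range_glue (range_of_allGrid c_perm_68) (range_glue (range_of_allGrid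 c_perm_69) (range_glue (range_of_allGrid c_perm_70) (range_glue (range_of_allGrid c_perm_71) (range_glue (range_of_allGrid c_perm_72) (range_glue (range_of_allGrid c_perm_73) (range_glue (range_of_allGrid c_perm_74) (range_glue (range_of_allGrid c_perm_75) (range_glue (range_of_allGrid c_perm_76) (range_glue (range_of_allGrid c_perm_77) (range_glue (range_of_allGrid c_perm_78) (range_of_allGrid c_perm_79))))))))))))))))))))))))))))))))))))))))
theorem h_perm_p2 : ∀ i, 300000 ≤ i → i < 450000 → ∀ x, x < 8 → T.permOK1 D i x = true :=
  (range_glue (range_of_allGrid c_perm_80) (range_glue (range_of_allGrid c_perm_81) (range_glue (range_of_allGrid c_perm_82) (range_glue (range_of_allGrid c_perm_83) (range_glue (range_of_allGrid c_perm_84) (range_glue (range_of_allGrid c_perm_85) (range_glue (range_of_allGrid c_perm_86) (range_glue (range_of_allGrid c_perm_87) (range_glue (range_of_allGrid c_perm_88) (range_glue (range_of_allGrid c_perm_89) (range_glue (range_of_allGrid c_perm_90) (range_glue (range_of_allGrid c_perm_91) (range_glue (range_of_allGrid c_perm_92) (range_glue (range_of_allGrid c_perm_93) (range_glue (range_of_allGrid c_perm_94) (range_glue (range_of_allGrid c_perm_95) (range_glue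 (range_of_allGrid c_perm_96) (range_glue (range_of_allGrid c_perm_97) (range_glue (range_of_allGrid c_perm_98) (range_glue (range_of_allGrid c_perm_99) (range_glue (range_of_allGrid c_perm_100) (range_glue (range_of_allGrid c_perm_101) (range_glue (range_of_allGrid c_perm_102) (range_glue (range_of_allGrid c_perm_103) (range_glue (range_of_allGrid c_perm_104) (range_glue (range_of_allGrid c_perm_105) (range_glue (range_of_allGrid c_perm_106) (range_glue (range_of_allGrid c_perm_107) (range_glue (range_of_allGrid c_perm_108) (range_glue (range_of_allGrid c_perm_109) (range_glue (range_of_allGrid c_perm_110) (range_glue (range_of_allGrid c_perm_111) (range_glue (range_of_allGrid c_perm_112) (range_glue (range_of_allGrid c_perm_113) (range_glue (range_of_allGrid c_perm_114) (range_glue (range_of_allGrid c_perm_115) (range_glue (range_of_allGrid c_perm_116) (range_glue (range_of_allGrid c_perm_117) (range_glue (range_of_allGrid c_perm_118) (range_of_allGrid c_perm_119))))))))))))))))))))))))))))))))))))))))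
theorem h_perm_p3 : ∀ i, 450000 ≤ i → i < 600000 → ∀ x, x < 8 → T.permOK1 D i x = true :=
  (range_glue (range_of_allGrid c_perm_120) (range_glue (range_of_allGrid c_perm_121) (range_glue (range_of_allGrid c_perm_122) (range_glue (range_of_allGrid c_perm_123) (range_glue (range_of_allGrid c_perm_124) (range_glue (range_of_allGrid c_perm_125) (range_glue (range_of_allGrid c_perm_126) (range_glue (range_of_allGrid c_perm_127) (range_glue (range_of_allGrid c_perm_128) (range_glue (range_of_allGrid c_perm_129) (range_glue (range_of_allGrid c_perm_130) (range_glue (range_of_allGrid c_perm_131) (range_glue (range_of_allGrid c_perm_132) (range_glue (range_of_allGrid c_perm_133) (range_glue (range_of_allGrid c_perm_134) (range_glue (range_of_allGrid c_perm_135) (range_glue (range_of_allGrid c_perm_136) (range_glue (range_of_allGrid c_perm_137) (range_glue (range_of_allGrid c_perm_138) (range_glue (range_of_allGrid c_perm_139) (range_glue (range_of_allGrid c_perm_140) (range_glue (range_of_allGrid c_perm_141) (range_glue (range_of_allGrid c_perm_142) (range_glue (range_of_allGrid c_perm_143) (range_glue (range_of_allGrid c_perm_144) (range_glue (range_of_allGrid c_perm_145) (range_glue (range_of_allGrid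 c_perm_146) (range_glue (range_of_allGrid c_perm_147) (range_glue (range_of_allGrid c_perm_148) (range_glue (range_of_allGrid c_perm_149) (range_glue (range_of_allGrid c_perm_150) (range_glue (range_of_allGrid c_perm_151) (range_glue (range_of_allGrid c_perm_152) (range_glue (range_of_allGrid c_perm_153) (range_glue (range_of_allGrid c_perm_154) (range_glue (range_of_allGrid c_perm_155) (range_glue (range_of_allGrid c_perm_156) (range_glue (range_of_allGrid c_perm_157) (range_glue (range_of_allGrid c_perm_158) (range_of_allGrid c_perm_159))))))))))))))))))))))))))))))))))))))))
theorem h_perm_p4 : ∀ i, 600000 ≤ i → i < 750000 → ∀ x, x < 8 → T.permOK1 D i x = true :=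
  (range_glue (range_of_allGrid c_perm_160) (range_glue (range_of_allGrid c_perm_161) (range_glue (range_of_allGrid c_perm_162) (range_glue (range_of_allGrid c_perm_163) (range_glue (range_of_allGrid c_perm_164) (range_glue (range_of_allGrid c_perm_165) (range_glue (range_of_allGrid c_perm_166) (range_glue (range_of_allGrid c_perm_167) (range_glue (range_of_allGrid c_perm_168) (range_glue (range_of_allGrid c_perm_169) (range_glue (range_of_allGrid c_perm_170) (range_glue (range_of_allGrid c_perm_171) (range_glue (range_of_allGrid c_perm_172) (range_glue (range_of_allGrid c_perm_173) (range_glue (range_of_allGrid c_perm_174) (range_glue (range_of_allGrid c_perm_175) (range_glue (range_of_allGrid c_perm_176) (range_glue (range_of_allGrid c_perm_177) (range_glue (range_of_allGrid c_perm_178) (range_glue (range_of_allGrid c_perm_179) (range_glue (range_of_allGrid c_perm_180) (range_glue (range_of_allGrid c_perm_181) (range_glue (range_of_allGrid c_perm_182) (range_glue (range_of_allGrid c_perm_183) (range_glue (range_of_allGrid c_perm_184) (range_glue (range_of_allGrid c_perm_185) (range_glue (range_of_allGrid c_perm_186) (range_glue (range_of_allGrid c_perm_187) (range_glue (range_of_allGrid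 c_perm_188) (range_glue (range_of_allGrid c_perm_189) (range_glue (range_of_allGrid c_perm_190) (range_glue (range_of_allGrid c_perm_191) (range_glue (range_of_allGrid c_perm_192) (range_glue (range_of_allGrid c_perm_193) (range_glue (range_of_allGrid c_perm_194) (range_glue (range_of_allGrid c_perm_195) (range_glue (range_of_allGrid c_perm_196) (range_glue (range_of_allGrid c_perm_197) (range_glue (range_of_allGrid c_perm_198) (range_of_allGrid c_perm_199))))))))))))))))))))))))))))))))))))))))
theorem h_perm_p5 : ∀ i, 750000 ≤ i → i < 900000 → ∀ x, x < 8 → T.permOK1 D i x = true :=
  (range_glue (range_of_allGrid c_perm_200) (range_glue (range_of_allGrid c_perm_201) (range_glue (range_of_allGrid c_perm_202) (range_glue (range_of_allGrid c_perm_203) (range_glue (range_of_allGrid c_perm_204) (range_glue (range_of_allGrid c_perm_205) (range_glue (range_of_allGrid c_perm_206) (range_glue (range_of_allGrid c_perm_207) (range_glue (range_of_allGrid c_perm_208) (range_glue (range_of_allGrid c_perm_209) (range_glue (range_of_allGrid c_perm_210) (range_glue (range_of_allGrid c_perm_211) (range_glue (range_of_allGrid c_perm_212) (range_glue (range_of_allGrid c_perm_213) (range_glue (range_of_allGrid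 c_perm_214) (range_glue (range_of_allGrid c_perm_215) (range_glue (range_of_allGrid c_perm_216) (range_glue (range_of_allGrid c_perm_217) (range_glue (range_of_allGrid c_perm_218) (range_glue (range_of_allGrid c_perm_219) (range_glue (range_of_allGrid c_perm_220) (range_glue (range_of_allGrid c_perm_221) (range_glue (range_of_allGrid c_perm_222) (range_glue (range_of_allGrid c_perm_223) (range_glue (range_of_allGrid c_perm_224) (range_glue (range_of_allGrid c_perm_225) (range_glue (range_of_allGrid c_perm_226) (range_glue (range_of_allGrid c_perm_227) (range_glue (range_of_allGrid c_perm_228) (range_glue (range_of_allGrid c_perm_229) (range_glue (range_of_allGrid c_perm_230) (range_glue (range_of_allGrid c_perm_231) (range_glue (range_of_allGrid c_perm_232) (range_glue (range_of_allGrid c_perm_233) (range_glue (range_of_allGrid c_perm_234) (range_glue (range_of_allGrid c_perm_235) (range_glue (range_of_allGrid c_perm_236) (range_glue (range_of_allGrid c_perm_237) (range_glue (range_of_allGrid c_perm_238) (range_of_allGrid c_perm_239))))))))))))))))))))))))))))))))))))))))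
theorem h_perm_p6 : ∀ i, 900000 ≤ i → i < 1050000 → ∀ x, x < 8 → T.permOK1 D i x = true :=
  (range_glue (range_of_allGrid c_perm_240) (range_glue (range_of_allGrid c_perm_241) (range_glue (range_of_allGrid c_perm_242) (range_glue (range_of_allGrid c_perm_243) (range_glue (range_of_allGrid c_perm_244) (range_glue (range_of_allGrid c_perm_245) (range_glue (range_of_allGrid c_perm_246) (range_glue (range_of_allGrid c_perm_247) (range_glue (range_of_allGrid c_perm_248) (range_glue (range_of_allGrid c_perm_249) (range_glue (range_of_allGrid c_perm_250) (range_glue (range_of_allGrid c_perm_251) (range_glue (range_of_allGrid c_perm_252) (range_glue (range_of_allGrid c_perm_253) (range_glue (range_of_allGrid c_perm_254) (range_glue (range_of_allGrid c_perm_255) (range_glue (range_of_allGrid c_perm_256) (range_glue (range_of_allGrid c_perm_257) (range_glue (range_of_allGrid c_perm_258) (range_glue (range_of_allGrid c_perm_259) (range_glue (range_of_allGrid c_perm_260) (range_glue (range_of_allGrid c_perm_261) (range_glue (range_of_allGrid c_perm_262) (range_glue (range_of_allGrid c_perm_263) (range_glue (range_of_allGrid c_perm_264) (range_glue (range_of_allGrid c_perm_265) (range_glue (range_of_allGrid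 c_perm_266) (range_glue (range_of_allGrid c_perm_267) (range_glue (range_of_allGrid c_perm_268) (range_glue (range_of_allGrid c_perm_269) (range_glue (range_of_allGrid c_perm_270) (range_glue (range_of_allGrid c_perm_271) (range_glue (range_of_allGrid c_perm_272) (range_glue (range_of_allGrid c_perm_273) (range_glue (range_of_allGrid c_perm_274) (range_glue (range_of_allGrid c_perm_275) (range_glue (range_of_allGrid c_perm_276) (range_glue (range_of_allGrid c_perm_277) (range_glue (range_of_allGrid c_perm_278) (range_of_allGrid c_perm_279))))))))))))))))))))))))))))))))))))))))
theorem h_perm_p7 : ∀ i, 1050000 ≤ i → i < 1200000 → ∀ x, x < 8 → T.permOK1 D i x = true :=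
  (range_glue (range_of_allGrid c_perm_280) (range_glue (range_of_allGrid c_perm_281) (range_glue (range_of_allGrid c_perm_282) (range_glue (range_of_allGrid c_perm_283) (range_glue (range_of_allGrid c_perm_284) (range_glue (range_of_allGrid c_perm_285) (range_glue (range_of_allGrid c_perm_286) (range_glue (range_of_allGrid c_perm_287) (range_glue (range_of_allGrid c_perm_288) (range_glue (range_of_allGrid c_perm_289) (range_glue (range_of_allGrid c_perm_290) (range_glue (range_of_allGrid c_perm_291) (range_glue (range_of_allGrid c_perm_292) (range_glue (range_of_allGrid c_perm_293) (range_glue (range_of_allGrid c_perm_294) (range_glue (range_of_allGrid c_perm_295) (range_glue (range_of_allGrid c_perm_296) (range_glue (range_of_allGrid c_perm_297) (range_glue (range_of_allGrid c_perm_298) (range_glue (range_of_allGrid c_perm_299) (range_glue (range_of_allGrid c_perm_300) (range_glue (range_of_allGrid c_perm_301) (range_glue (range_of_allGrid c_perm_302) (range_glue (range_of_allGrid c_perm_303) (range_glue (range_of_allGrid c_perm_304) (range_glue (range_of_allGrid c_perm_305) (range_glue (range_of_allGrid c_perm_306) (range_glue (range_of_allGrid c_perm_307) (range_glue (range_of_allGrid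 c_perm_308) (range_glue (range_of_allGrid c_perm_309) (range_glue (range_of_allGrid c_perm_310) (range_glue (range_of_allGrid c_perm_311) (range_glue (range_of_allGrid c_perm_312) (range_glue (range_of_allGrid c_perm_313) (range_glue (range_of_allGrid c_perm_314) (range_glue (range_of_allGrid c_perm_315) (range_glue (range_of_allGrid c_perm_316) (range_glue (range_of_allGrid c_perm_317) (range_glue (range_of_allGrid c_perm_318) (range_of_allGrid c_perm_319))))))))))))))))))))))))))))))))))))))))
theorem h_perm_p8 : ∀ i, 1200000 ≤ i → i < 1350000 → ∀ x, x < 8 → T.permOK1 D i x = true :=
  (range_glue (range_of_allGrid c_perm_320) (range_glue (range_of_allGrid c_perm_321) (range_glue (range_of_allGrid c_perm_322) (range_glue (range_of_allGrid c_perm_323) (range_glue (range_of_allGrid c_perm_324) (range_glue (range_of_allGrid c_perm_325) (range_glue (range_of_allGrid c_perm_326) (range_glue (range_of_allGrid c_perm_327) (range_glue (range_of_allGrid c_perm_328) (range_glue (range_of_allGrid c_perm_329) (range_glue (range_of_allGrid c_perm_330) (range_glue (range_of_allGrid c_perm_331) (range_glue (range_of_allGrid c_perm_332) (range_glue (range_of_allGrid c_perm_333) (range_glue (range_of_allGrid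 c_perm_334) (range_glue (range_of_allGrid c_perm_335) (range_glue (range_of_allGrid c_perm_336) (range_glue (range_of_allGrid c_perm_337) (range_glue (range_of_allGrid c_perm_338) (range_glue (range_of_allGrid c_perm_339) (range_glue (range_of_allGrid c_perm_340) (range_glue (range_of_allGrid c_perm_341) (range_glue (range_of_allGrid c_perm_342) (range_glue (range_of_allGrid c_perm_343) (range_glue (range_of_allGrid c_perm_344) (range_glue (range_of_allGrid c_perm_345) (range_glue (range_of_allGrid c_perm_346) (range_glue (range_of_allGrid c_perm_347) (range_glue (range_of_allGrid c_perm_348) (range_glue (range_of_allGrid c_perm_349) (range_glue (range_of_allGrid c_perm_350) (range_glue (range_of_allGrid c_perm_351) (range_glue (range_of_allGrid c_perm_352) (range_glue (range_of_allGrid c_perm_353) (range_glue (range_of_allGrid c_perm_354) (range_glue (range_of_allGrid c_perm_355) (range_glue (range_of_allGrid c_perm_356) (range_glue (range_of_allGrid c_perm_357) (range_glue (range_of_allGrid c_perm_358) (range_of_allGrid c_perm_359))))))))))))))))))))))))))))))))))))))))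
theorem h_perm_p9 : ∀ i, 1350000 ≤ i → i < 1500000 → ∀ x, x < 8 → T.permOK1 D i x = true :=
  (range_glue (range_of_allGrid c_perm_360) (range_glue (range_of_allGrid c_perm_361) (range_glue (range_of_allGrid c_perm_362) (range_glue (range_of_allGrid c_perm_363) (range_glue (range_of_allGrid c_perm_364) (range_glue (range_of_allGrid c_perm_365) (range_glue (range_of_allGrid c_perm_366) (range_glue (range_of_allGrid c_perm_367) (range_glue (range_of_allGrid c_perm_368) (range_glue (range_of_allGrid c_perm_369) (range_glue (range_of_allGrid c_perm_370) (range_glue (range_of_allGrid c_perm_371) (range_glue (range_of_allGrid c_perm_372) (range_glue (range_of_allGrid c_perm_373) (range_glue (range_of_allGrid c_perm_374) (range_glue (range_of_allGrid c_perm_375) (range_glue (range_of_allGrid c_perm_376) (range_glue (range_of_allGrid c_perm_377) (range_glue (range_of_allGrid c_perm_378) (range_glue (range_of_allGrid c_perm_379) (range_glue (range_of_allGrid c_perm_380) (range_glue (range_of_allGrid c_perm_381) (range_glue (range_of_allGrid c_perm_382) (range_glue (range_of_allGrid c_perm_383) (range_glue (range_of_allGrid c_perm_384) (range_glue (range_of_allGrid c_perm_385) (range_glue (range_of_allGrid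 c_perm_386) (range_glue (range_of_allGrid c_perm_387) (range_glue (range_of_allGrid c_perm_388) (range_glue (range_of_allGrid c_perm_389) (range_glue (range_of_allGrid c_perm_390) (range_glue (range_of_allGrid c_perm_391) (range_glue (range_of_allGrid c_perm_392) (range_glue (range_of_allGrid c_perm_393) (range_glue (range_of_allGrid c_perm_394) (range_glue (range_of_allGrid c_perm_395) (range_glue (range_of_allGrid c_perm_396) (range_glue (range_of_allGrid c_perm_397) (range_glue (range_of_allGrid c_perm_398) (range_of_allGrid c_perm_399))))))))))))))))))))))))))))))))))))))))
theorem h_perm_p10 : ∀ i, 1500000 ≤ i → i < 1539000 → ∀ x, x < 8 → T.permOK1 D i x = true :=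
  (range_glue (range_of_allGrid c_perm_400) (range_glue (range_of_allGrid c_perm_401) (range_glue (range_of_allGrid c_perm_402) (range_glue (range_of_allGrid c_perm_403) (range_glue (range_of_allGrid c_perm_404) (range_glue (range_of_allGrid c_perm_405) (range_glue (range_of_allGrid c_perm_406) (range_glue (range_of_allGrid c_perm_407) (range_glue (range_of_allGrid c_perm_408) (range_glue (range_of_allGrid c_perm_409) (range_of_allGrid c_perm_410)))))))))))
theorem h_perm : ∀ i, 0 ≤ i → i < 1539000 → ∀ x, x < 8 → T.permOK1 D i x = true :=
  (range_glue h_perm_p0 (range_glue h_perm_p1 (range_glue h_perm_p2 (range_glue h_perm_p3 (range_glue h_perm_p4 (range_glue h_perm_p5 (range_glue h_perm_p6 (range_glue h_perm_p7 (range_glue h_perm_p8 (range_glue h_perm_p9 h_perm_p10))))))))))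
theorem h_act0_p0 : ∀ i, 0 ≤ i → i < 400000 → Nat.beq (actR0 i) i = true :=
  (range_glue (range_of_allRange c_act0_0) (range_glue (range_of_allRange c_act0_1) (range_glue (range_of_allRange c_act0_2) (range_glue (range_of_allRange c_act0_3) (range_glue (range_of_allRange c_act0_4) (range_glue (range_of_allRange c_act0_5) (range_glue (range_of_allRange c_act0_6) (range_glue (range_of_allRange c_act0_7) (range_glue (range_of_allRange c_act0_8) (range_glue (range_of_allRange c_act0_9) (range_glue (range_of_allRange c_act0_10) (range_glue (range_of_allRange c_act0_11) (range_glue (range_of_allRange c_act0_12) (range_glue (range_of_allRange c_act0_13) (range_glue (range_of_allRange c_act0_14) (range_glue (range_of_allRange c_act0_15) (range_glue (range_of_allRange c_act0_16) (range_glue (range_of_allRange c_act0_17) (range_glue (range_of_allRange c_act0_18) (range_glue (range_of_allRange c_act0_19) (range_glue (range_of_allRange c_act0_20) (range_glue (range_of_allRange c_act0_21) (range_glue (range_of_allRange c_act0_22) (range_glue (range_of_allRange c_act0_23) (range_glue (range_of_allRange c_act0_24) (range_glue (range_of_allRange c_act0_25) (range_glue (range_of_allRange c_act0_26) (range_glue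 (range_of_allRange c_act0_27) (range_glue (range_of_allRange c_act0_28) (range_glue (range_of_allRange c_act0_29) (range_glue (range_of_allRange c_act0_30) (range_glue (range_of_allRange c_act0_31) (range_glue (range_of_allRange c_act0_32) (range_glue (range_of_allRange c_act0_33) (range_glue (range_of_allRange c_act0_34) (range_glue (range_of_allRange c_act0_35) (range_glue (range_of_allRange c_act0_36) (range_glue (range_of_allRange c_act0_37) (range_glue (range_of_allRange c_act0_38) (range_of_allRange c_act0_39))))))))))))))))))))))))))))))))))))))))
theorem h_act0_p1 : ∀ i, 400000 ≤ i → i < 800000 → Nat.beq (actR0 i) i = true :=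
  (range_glue (range_of_allRange c_act0_40) (range_glue (range_of_allRange c_act0_41) (range_glue (range_of_allRange c_act0_42) (range_glue (range_of_allRange c_act0_43) (range_glue (range_of_allRange c_act0_44) (range_glue (range_of_allRange c_act0_45) (range_glue (range_of_allRange c_act0_46) (range_glue (range_of_allRange c_act0_47) (range_glue (range_of_allRange c_act0_48) (range_glue (range_of_allRange c_act0_49) (range_glue (range_of_allRange c_act0_50) (range_glue (range_of_allRange c_act0_51) (range_glue (range_of_allRange c_act0_52) (range_glue (range_of_allRange c_act0_53) (range_glue (range_of_allRange c_act0_54) (range_glue (range_of_allRange c_act0_55) (range_glue (range_of_allRange c_act0_56) (range_glue (range_of_allRange c_act0_57) (range_glue (range_of_allRange c_act0_58) (range_glue (range_of_allRange c_act0_59) (range_glue (range_of_allRange c_act0_60) (range_glue (range_of_allRange c_act0_61) (range_glue (range_of_allRange c_act0_62) (range_glue (range_of_allRange c_act0_63) (range_glue (range_of_allRange c_act0_64) (range_glue (range_of_allRange c_act0_65) (range_glue (range_of_allRange c_act0_66) (range_glue (range_of_allRange c_act0_67) (range_glue (range_of_allRange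 c_act0_68) (range_glue (range_of_allRange c_act0_69) (range_glue (range_of_allRange c_act0_70) (range_glue (range_of_allRange c_act0_71) (range_glue (range_of_allRange c_act0_72) (range_glue (range_of_allRange c_act0_73) (range_glue (range_of_allRange c_act0_74) (range_glue (range_of_allRange c_act0_75) (range_glue (range_of_allRange c_act0_76) (range_glue (range_of_allRange c_act0_77) (range_glue (range_of_allRange c_act0_78) (range_of_allRange c_act0_79))))))))))))))))))))))))))))))))))))))))
theorem h_act0_p2 : ∀ i, 800000 ≤ i → i < 1200000 → Nat.beq (actR0 i) i = true :=
  (range_glue (range_of_allRange c_act0_80) (range_glue (range_of_allRange c_act0_81) (range_glue (range_of_allRange c_act0_82) (range_glue (range_of_allRange c_act0_83) (range_glue (range_of_allRange c_act0_84) (range_glue (range_of_allRange c_act0_85) (range_glue (range_of_allRange c_act0_86) (range_glue (range_of_allRange c_act0_87) (range_glue (range_of_allRange c_act0_88) (range_glue (range_of_allRange c_act0_89) (range_glue (range_of_allRange c_act0_90) (range_glue (range_of_allRange c_act0_91) (range_glue (range_of_allRange c_act0_92) (range_glue (range_of_allRange c_act0_93) (range_glue (range_of_allRange c_act0_94)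 (range_glue (range_of_allRange c_act0_95) (range_glue (range_of_allRange c_act0_96) (range_glue (range_of_allRange c_act0_97) (range_glue (range_of_allRange c_act0_98) (range_glue (range_of_allRange c_act0_99) (range_glue (range_of_allRange c_act0_100) (range_glue (range_of_allRange c_act0_101) (range_glue (range_of_allRange c_act0_102) (range_glue (range_of_allRange c_act0_103) (range_glue (range_of_allRange c_act0_104) (range_glue (range_of_allRange c_act0_105) (range_glue (range_of_allRange c_act0_106) (range_glue (range_of_allRange c_act0_107) (range_glue (range_of_allRange c_act0_108) (range_glue (range_of_allRange c_act0_109) (range_glue (range_of_allRange c_act0_110) (range_glue (range_of_allRange c_act0_111) (range_glue (range_of_allRange c_act0_112) (range_glue (range_of_allRange c_act0_113) (range_glue (range_of_allRange c_act0_114) (range_glue (range_of_allRange c_act0_115) (range_glue (range_of_allRange c_act0_116) (range_glue (range_of_allRange c_act0_117) (range_glue (range_of_allRange c_act0_118) (range_of_allRange c_act0_119))))))))))))))))))))))))))))))))))))))))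
theorem h_act0_p3 : ∀ i, 1200000 ≤ i → i < 1539000 → Nat.beq (actR0 i) i = true :=
  (range_glue (range_of_allRange c_act0_120) (range_glue (range_of_allRange c_act0_121) (range_glue (range_of_allRange c_act0_122) (range_glue (range_of_allRange c_act0_123) (range_glue (range_of_allRange c_act0_124) (range_glue (range_of_allRange c_act0_125) (range_glue (range_of_allRange c_act0_126) (range_glue (range_of_allRange c_act0_127) (range_glue (range_of_allRange c_act0_128) (range_glue (range_of_allRange c_act0_129) (range_glue (range_of_allRange c_act0_130) (range_glue (range_of_allRange c_act0_131) (range_glue (range_of_allRange c_act0_132) (range_glue (range_of_allRange c_act0_133) (range_glue (range_of_allRange c_act0_134) (range_glue (range_of_allRange c_act0_135) (range_glue (range_of_allRange c_act0_136) (range_glue (range_of_allRange c_act0_137) (range_glue (range_of_allRange c_act0_138) (range_glue (range_of_allRange c_act0_139) (range_glue (range_of_allRange c_act0_140) (range_glue (range_of_allRange c_act0_141) (range_glue (range_of_allRange c_act0_142) (range_glue (range_of_allRange c_act0_143) (range_glue (range_of_allRange c_act0_144) (range_glue (range_of_allRange c_act0_145) (range_glue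 (range_of_allRange c_act0_146) (range_glue (range_of_allRange c_act0_147) (range_glue (range_of_allRange c_act0_148) (range_glue (range_of_allRange c_act0_149) (range_glue (range_of_allRange c_act0_150) (range_glue (range_of_allRange c_act0_151) (range_glue (range_of_allRange c_act0_152) (range_of_allRange c_act0_153))))))))))))))))))))))))))))))))))
theorem h_act0 : ∀ i, 0 ≤ i → i < 1539000 → Nat.beq (actR0 i) i = true :=
  (range_glue h_act0_p0 (range_glue h_act0_p1 (range_glue h_act0_p2 h_act0_p3)))
theorem h_act1_p0 : ∀ i, 0 ≤ i → i < 400000 → Nat.beq (actR1 i) i = true :=
  (range_glue (range_of_allRange c_act1_0) (range_glue (range_of_allRange c_act1_1) (range_glue (range_of_allRange c_act1_2) (range_glue (range_of_allRange c_act1_3) (range_glue (range_of_allRange c_act1_4) (range_glue (range_of_allRange c_act1_5) (range_glue (range_of_allRange c_act1_6) (range_glue (range_of_allRange c_act1_7) (range_glue (range_of_allRange c_act1_8) (range_glue (range_of_allRange c_act1_9) (range_glue (range_of_allRange c_act1_10) (range_glue (range_of_allRange c_act1_11) (range_glue (range_of_allRange c_act1_12) (range_glue (range_of_allRange c_act1_13) (range_glue (range_of_allRange c_act1_14)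 (range_glue (range_of_allRange c_act1_15) (range_glue (range_of_allRange c_act1_16) (range_glue (range_of_allRange c_act1_17) (range_glue (range_of_allRange c_act1_18) (range_glue (range_of_allRange c_act1_19) (range_glue (range_of_allRange c_act1_20) (range_glue (range_of_allRange c_act1_21) (range_glue (range_of_allRange c_act1_22) (range_glue (range_of_allRange c_act1_23) (range_glue (range_of_allRange c_act1_24) (range_glue (range_of_allRange c_act1_25) (range_glue (range_of_allRange c_act1_26) (range_glue (range_of_allRange c_act1_27) (range_glue (range_of_allRange c_act1_28) (range_glue (range_of_allRange c_act1_29) (range_glue (range_of_allRange c_act1_30) (range_glue (range_of_allRange c_act1_31) (range_glue (range_of_allRange c_act1_32) (range_glue (range_of_allRange c_act1_33) (range_glue (range_of_allRange c_act1_34) (range_glue (range_of_allRange c_act1_35) (range_glue (range_of_allRange c_act1_36) (range_glue (range_of_allRange c_act1_37) (range_glue (range_of_allRange c_act1_38) (range_of_allRange c_act1_39))))))))))))))))))))))))))))))))))))))))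
theorem h_act1_p1 : ∀ i, 400000 ≤ i → i < 800000 → Nat.beq (actR1 i) i = true :=
  (range_glue (range_of_allRange c_act1_40) (range_glue (range_of_allRange c_act1_41) (range_glue (range_of_allRange c_act1_42) (range_glue (range_of_allRange c_act1_43) (range_glue (range_of_allRange c_act1_44) (range_glue (range_of_allRange c_act1_45) (range_glue (range_of_allRange c_act1_46) (range_glue (range_of_allRange c_act1_47) (range_glue (range_of_allRange c_act1_48) (range_glue (range_of_allRange c_act1_49) (range_glue (range_of_allRange c_act1_50) (range_glue (range_of_allRange c_act1_51) (range_glue (range_of_allRange c_act1_52) (range_glue (range_of_allRange c_act1_53) (range_glue (range_of_allRange c_act1_54) (range_glue (range_of_allRange c_act1_55) (range_glue (range_of_allRange c_act1_56) (range_glue (range_of_allRange c_act1_57) (range_glue (range_of_allRange c_act1_58) (range_glue (range_of_allRange c_act1_59) (range_glue (range_of_allRange c_act1_60) (range_glue (range_of_allRange c_act1_61) (range_glue (range_of_allRange c_act1_62) (range_glue (range_of_allRange c_act1_63) (range_glue (range_of_allRange c_act1_64) (range_glue (range_of_allRange c_act1_65) (range_glue (range_of_allRange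 c_act1_66) (range_glue (range_of_allRange c_act1_67) (range_glue (range_of_allRange c_act1_68) (range_glue (range_of_allRange c_act1_69) (range_glue (range_of_allRange c_act1_70) (range_glue (range_of_allRange c_act1_71) (range_glue (range_of_allRange c_act1_72) (range_glue (range_of_allRange c_act1_73) (range_glue (range_of_allRange c_act1_74) (range_glue (range_of_allRange c_act1_75) (range_glue (range_of_allRange c_act1_76) (range_glue (range_of_allRange c_act1_77) (range_glue (range_of_allRange c_act1_78) (range_of_allRange c_act1_79))))))))))))))))))))))))))))))))))))))))
theorem h_act1_p2 : ∀ i, 800000 ≤ i → i < 1200000 → Nat.beq (actR1 i) i = true :=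
  (range_glue (range_of_allRange c_act1_80) (range_glue (range_of_allRange c_act1_81) (range_glue (range_of_allRange c_act1_82) (range_glue (range_of_allRange c_act1_83) (range_glue (range_of_allRange c_act1_84) (range_glue (range_of_allRange c_act1_85) (range_glue (range_of_allRange c_act1_86) (range_glue (range_of_allRange c_act1_87) (range_glue (range_of_allRange c_act1_88) (range_glue (range_of_allRange c_act1_89) (range_glue (range_of_allRange c_act1_90) (range_glue (range_of_allRange c_act1_91) (range_glue (range_of_allRange c_act1_92) (range_glue (range_of_allRange c_act1_93) (range_glue (range_of_allRange c_act1_94) (range_glue (range_of_allRange c_act1_95) (range_glue (range_of_allRange c_act1_96) (range_glue (range_of_allRange c_act1_97) (range_glue (range_of_allRange c_act1_98) (range_glue (range_of_allRange c_act1_99) (range_glue (range_of_allRange c_act1_100) (range_glue (range_of_allRange c_act1_101) (range_glue (range_of_allRange c_act1_102) (range_glue (range_of_allRange c_act1_103) (range_glue (range_of_allRange c_act1_104) (range_glue (range_of_allRange c_act1_105) (range_glue (range_of_allRange c_act1_106) (range_glue (range_of_allRange c_act1_107) (range_glue (range_of_allRange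 c_act1_108) (range_glue (range_of_allRange c_act1_109) (range_glue (range_of_allRange c_act1_110) (range_glue (range_of_allRange c_act1_111) (range_glue (range_of_allRange c_act1_112) (range_glue (range_of_allRange c_act1_113) (range_glue (range_of_allRange c_act1_114) (range_glue (range_of_allRange c_act1_115) (range_glue (range_of_allRange c_act1_116) (range_glue (range_of_allRange c_act1_117) (range_glue (range_of_allRange c_act1_118) (range_of_allRange c_act1_119))))))))))))))))))))))))))))))))))))))))
theorem h_act1_p3 : ∀ i, 1200000 ≤ i → i < 1539000 → Nat.beq (actR1 i) i = true :=
  (range_glue (range_of_allRange c_act1_120) (range_glue (range_of_allRange c_act1_121) (range_glue (range_of_allRange c_act1_122) (range_glue (range_of_allRange c_act1_123) (range_glue (range_of_allRange c_act1_124) (range_glue (range_of_allRange c_act1_125) (range_glue (range_of_allRange c_act1_126) (range_glue (range_of_allRange c_act1_127) (range_glue (range_of_allRange c_act1_128) (range_glue (range_of_allRange c_act1_129) (range_glue (range_of_allRange c_act1_130) (range_glue (range_of_allRange c_act1_131) (range_glue (range_of_allRange c_act1_132) (range_glue (range_of_allRange c_act1_133) (range_glue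 (range_of_allRange c_act1_134) (range_glue (range_of_allRange c_act1_135) (range_glue (range_of_allRange c_act1_136) (range_glue (range_of_allRange c_act1_137) (range_glue (range_of_allRange c_act1_138) (range_glue (range_of_allRange c_act1_139) (range_glue (range_of_allRange c_act1_140) (range_glue (range_of_allRange c_act1_141) (range_glue (range_of_allRange c_act1_142) (range_glue (range_of_allRange c_act1_143) (range_glue (range_of_allRange c_act1_144) (range_glue (range_of_allRange c_act1_145) (range_glue (range_of_allRange c_act1_146) (range_glue (range_of_allRange c_act1_147) (range_glue (range_of_allRange c_act1_148) (range_glue (range_of_allRange c_act1_149) (range_glue (range_of_allRange c_act1_150) (range_glue (range_of_allRange c_act1_151) (range_glue (range_of_allRange c_act1_152) (range_of_allRange c_act1_153))))))))))))))))))))))))))))))))))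
theorem h_act1 : ∀ i, 0 ≤ i → i < 1539000 → Nat.beq (actR1 i) i = true :=
  (range_glue h_act1_p0 (range_glue h_act1_p1 (range_glue h_act1_p2 h_act1_p3)))
theorem h_act2_p0 : ∀ i, 0 ≤ i → i < 200000 → Nat.beq (actR2 i) i = true :=
  (range_glue (range_of_allRange c_act2_0) (range_glue (range_of_allRange c_act2_1) (range_glue (range_of_allRange c_act2_2) (range_glue (range_of_allRange c_act2_3) (range_glue (range_of_allRange c_act2_4) (range_glue (range_of_allRange c_act2_5) (range_glue (range_of_allRange c_act2_6) (range_glue (range_of_allRange c_act2_7) (range_glue (range_of_allRange c_act2_8) (range_glue (range_of_allRange c_act2_9) (range_glue (range_of_allRange c_act2_10) (range_glue (range_of_allRange c_act2_11) (range_glue (range_of_allRange c_act2_12) (range_glue (range_of_allRange c_act2_13) (range_glue (range_of_allRange c_act2_14) (range_glue (range_of_allRange c_act2_15) (range_glue (range_of_allRange c_act2_16) (range_glue (range_of_allRange c_act2_17) (range_glue (range_of_allRange c_act2_18) (range_glue (range_of_allRange c_act2_19) (range_glue (range_of_allRange c_act2_20) (range_glue (range_of_allRange c_act2_21) (range_glue (range_of_allRange c_act2_22) (range_glue (range_of_allRange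 c_act2_23) (range_glue (range_of_allRange c_act2_24) (range_glue (range_of_allRange c_act2_25) (range_glue (range_of_allRange c_act2_26) (range_glue (range_of_allRange c_act2_27) (range_glue (range_of_allRange c_act2_28) (range_glue (range_of_allRange c_act2_29) (range_glue (range_of_allRange c_act2_30) (range_glue (range_of_allRange c_act2_31) (range_glue (range_of_allRange c_act2_32) (range_glue (range_of_allRange c_act2_33) (range_glue (range_of_allRange c_act2_34) (range_glue (range_of_allRange c_act2_35) (range_glue (range_of_allRange c_act2_36) (range_glue (range_of_allRange c_act2_37) (range_glue (range_of_allRange c_act2_38) (range_of_allRange c_act2_39))))))))))))))))))))))))))))))))))))))))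
theorem h_act2_p1 : ∀ i, 200000 ≤ i → i < 400000 → Nat.beq (actR2 i) i = true :=
  (range_glue (range_of_allRange c_act2_40) (range_glue (range_of_allRange c_act2_41) (range_glue (range_of_allRange c_act2_42) (range_glue (range_of_allRange c_act2_43) (range_glue (range_of_allRange c_act2_44) (range_glue (range_of_allRange c_act2_45) (range_glue (range_of_allRange c_act2_46) (range_glue (range_of_allRange c_act2_47) (range_glue (range_of_allRange c_act2_48) (range_glue (range_of_allRange c_act2_49) (range_glue (range_of_allRange c_act2_50) (range_glue (range_of_allRange c_act2_51) (range_glue (range_of_allRange c_act2_52) (range_glue (range_of_allRange c_act2_53) (range_glue (range_of_allRange c_act2_54) (range_glue (range_of_allRange c_act2_55) (range_glue (range_of_allRange c_act2_56) (range_glue (range_of_allRange c_act2_57) (range_glue (range_of_allRange c_act2_58) (range_glue (range_of_allRange c_act2_59) (range_glue (range_of_allRange c_act2_60) (range_glue (range_of_allRange c_act2_61) (range_glue (range_of_allRange c_act2_62) (range_glue (range_of_allRange c_act2_63) (range_glue (range_of_allRange c_act2_64) (range_glue (range_of_allRange c_act2_65) (range_glue (range_of_allRange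 c_act2_66) (range_glue (range_of_allRange c_act2_67) (range_glue (range_of_allRange c_act2_68) (range_glue (range_of_allRange c_act2_69) (range_glue (range_of_allRange c_act2_70) (range_glue (range_of_allRange c_act2_71) (range_glue (range_of_allRange c_act2_72) (range_glue (range_of_allRange c_act2_73) (range_glue (range_of_allRange c_act2_74) (range_glue (range_of_allRange c_act2_75) (range_glue (range_of_allRange c_act2_76) (range_glue (range_of_allRange c_act2_77) (range_glue (range_of_allRange c_act2_78) (range_of_allRange c_act2_79))))))))))))))))))))))))))))))))))))))))
theorem h_act2_p2 : ∀ i, 400000 ≤ i → i < 600000 → Nat.beq (actR2 i) i = true :=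
  (range_glue (range_of_allRange c_act2_80) (range_glue (range_of_allRange c_act2_81) (range_glue (range_of_allRange c_act2_82) (range_glue (range_of_allRange c_act2_83) (range_glue (range_of_allRange c_act2_84) (range_glue (range_of_allRange c_act2_85) (range_glue (range_of_allRange c_act2_86) (range_glue (range_of_allRange c_act2_87) (range_glue (range_of_allRange c_act2_88) (range_glue (range_of_allRange c_act2_89) (range_glue (range_of_allRange c_act2_90) (range_glue (range_of_allRange c_act2_91) (range_glue (range_of_allRange c_act2_92) (range_glue (range_of_allRange c_act2_93) (range_glue (range_of_allRange c_act2_94) (range_glue (range_of_allRange c_act2_95) (range_glue (range_of_allRange c_act2_96) (range_glue (range_of_allRange c_act2_97) (range_glue (range_of_allRange c_act2_98) (range_glue (range_of_allRange c_act2_99) (range_glue (range_of_allRange c_act2_100) (range_glue (range_of_allRange c_act2_101) (range_glue (range_of_allRange c_act2_102) (range_glue (range_of_allRange c_act2_103) (range_glue (range_of_allRange c_act2_104) (range_glue (range_of_allRange c_act2_105) (range_glue (range_of_allRange c_act2_106) (range_glue (range_of_allRange c_act2_107) (range_glue (range_of_allRange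 c_act2_108) (range_glue (range_of_allRange c_act2_109) (range_glue (range_of_allRange c_act2_110) (range_glue (range_of_allRange c_act2_111) (range_glue (range_of_allRange c_act2_112) (range_glue (range_of_allRange c_act2_113) (range_glue (range_of_allRange c_act2_114) (range_glue (range_of_allRange c_act2_115) (range_glue (range_of_allRange c_act2_116) (range_glue (range_of_allRange c_act2_117) (range_glue (range_of_allRange c_act2_118) (range_of_allRange c_act2_119))))))))))))))))))))))))))))))))))))))))
theorem h_act2_p3 : ∀ i, 600000 ≤ i → i < 800000 → Nat.beq (actR2 i) i = true :=
  (range_glue (range_of_allRange c_act2_120) (range_glue (range_of_allRange c_act2_121) (range_glue (range_of_allRange c_act2_122) (range_glue (range_of_allRange c_act2_123) (range_glue (range_of_allRange c_act2_124) (range_glue (range_of_allRange c_act2_125) (range_glue (range_of_allRange c_act2_126) (range_glue (range_of_allRange c_act2_127) (range_glue (range_of_allRange c_act2_128) (range_glue (range_of_allRange c_act2_129) (range_glue (range_of_allRange c_act2_130) (range_glue (range_of_allRange c_act2_131) (range_glue (range_of_allRange c_act2_132) (range_glue (range_of_allRange c_act2_133) (range_glue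 (range_of_allRange c_act2_134) (range_glue (range_of_allRange c_act2_135) (range_glue (range_of_allRange c_act2_136) (range_glue (range_of_allRange c_act2_137) (range_glue (range_of_allRange c_act2_138) (range_glue (range_of_allRange c_act2_139) (range_glue (range_of_allRange c_act2_140) (range_glue (range_of_allRange c_act2_141) (range_glue (range_of_allRange c_act2_142) (range_glue (range_of_allRange c_act2_143) (range_glue (range_of_allRange c_act2_144) (range_glue (range_of_allRange c_act2_145) (range_glue (range_of_allRange c_act2_146) (range_glue (range_of_allRange c_act2_147) (range_glue (range_of_allRange c_act2_148) (range_glue (range_of_allRange c_act2_149) (range_glue (range_of_allRange c_act2_150) (range_glue (range_of_allRange c_act2_151) (range_glue (range_of_allRange c_act2_152) (range_glue (range_of_allRange c_act2_153) (range_glue (range_of_allRange c_act2_154) (range_glue (range_of_allRange c_act2_155) (range_glue (range_of_allRange c_act2_156) (range_glue (range_of_allRange c_act2_157) (range_glue (range_of_allRange c_act2_158) (range_of_allRange c_act2_159))))))))))))))))))))))))))))))))))))))))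
theorem h_act2_p4 : ∀ i, 800000 ≤ i → i < 1000000 → Nat.beq (actR2 i) i = true :=
  (range_glue (range_of_allRange c_act2_160) (range_glue (range_of_allRange c_act2_161) (range_glue (range_of_allRange c_act2_162) (range_glue (range_of_allRange c_act2_163) (range_glue (range_of_allRange c_act2_164) (range_glue (range_of_allRange c_act2_165) (range_glue (range_of_allRange c_act2_166) (range_glue (range_of_allRange c_act2_167) (range_glue (range_of_allRange c_act2_168) (range_glue (range_of_allRange c_act2_169) (range_glue (range_of_allRange c_act2_170) (range_glue (range_of_allRange c_act2_171) (range_glue (range_of_allRange c_act2_172) (range_glue (range_of_allRange c_act2_173) (range_glue (range_of_allRange c_act2_174) (range_glue (range_of_allRange c_act2_175) (range_glue (range_of_allRange c_act2_176) (range_glue (range_of_allRange c_act2_177) (range_glue (range_of_allRange c_act2_178) (range_glue (range_of_allRange c_act2_179) (range_glue (range_of_allRange c_act2_180) (range_glue (range_of_allRange c_act2_181) (range_glue (range_of_allRange c_act2_182) (range_glue (range_of_allRange c_act2_183) (range_glue (range_of_allRange c_act2_184) (range_glue (range_of_allRange c_act2_185) (range_glue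 (range_of_allRange c_act2_186) (range_glue (range_of_allRange c_act2_187) (range_glue (range_of_allRange c_act2_188) (range_glue (range_of_allRange c_act2_189) (range_glue (range_of_allRange c_act2_190) (range_glue (range_of_allRange c_act2_191) (range_glue (range_of_allRange c_act2_192) (range_glue (range_of_allRange c_act2_193) (range_glue (range_of_allRange c_act2_194) (range_glue (range_of_allRange c_act2_195) (range_glue (range_of_allRange c_act2_196) (range_glue (range_of_allRange c_act2_197) (range_glue (range_of_allRange c_act2_198) (range_of_allRange c_act2_199))))))))))))))))))))))))))))))))))))))))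
theorem h_act2_p5 : ∀ i, 1000000 ≤ i → i < 1200000 → Nat.beq (actR2 i) i = true :=
  (range_glue (range_of_allRange c_act2_200) (range_glue (range_of_allRange c_act2_201) (range_glue (range_of_allRange c_act2_202) (range_glue (range_of_allRange c_act2_203) (range_glue (range_of_allRange c_act2_204) (range_glue (range_of_allRange c_act2_205) (range_glue (range_of_allRange c_act2_206) (range_glue (range_of_allRange c_act2_207) (range_glue (range_of_allRange c_act2_208) (range_glue (range_of_allRange c_act2_209) (range_glue (range_of_allRange c_act2_210) (range_glue (range_of_allRange c_act2_211) (range_glue (range_of_allRange c_act2_212) (range_glue (range_of_allRange c_act2_213) (range_glue (range_of_allRange c_act2_214) (range_glue (range_of_allRange c_act2_215) (range_glue (range_of_allRange c_act2_216) (range_glue (range_of_allRange c_act2_217) (range_glue (range_of_allRange c_act2_218) (range_glue (range_of_allRange c_act2_219) (range_glue (range_of_allRange c_act2_220) (range_glue (range_of_allRange c_act2_221) (range_glue (range_of_allRange c_act2_222) (range_glue (range_of_allRange c_act2_223) (range_glue (range_of_allRange c_act2_224) (range_glue (range_of_allRange c_act2_225) (range_glue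 (range_of_allRange c_act2_226) (range_glue (range_of_allRange c_act2_227) (range_glue (range_of_allRange c_act2_228) (range_glue (range_of_allRange c_act2_229) (range_glue (range_of_allRange c_act2_230) (range_glue (range_of_allRange c_act2_231) (range_glue (range_of_allRange c_act2_232) (range_glue (range_of_allRange c_act2_233) (range_glue (range_of_allRange c_act2_234) (range_glue (range_of_allRange c_act2_235) (range_glue (range_of_allRange c_act2_236) (range_glue (range_of_allRange c_act2_237) (range_glue (range_of_allRange c_act2_238) (range_of_allRange c_act2_239))))))))))))))))))))))))))))))))))))))))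
theorem h_act2_p6 : ∀ i, 1200000 ≤ i → i < 1400000 → Nat.beq (actR2 i) i = true :=
  (range_glue (range_of_allRange c_act2_240) (range_glue (range_of_allRange c_act2_241) (range_glue (range_of_allRange c_act2_242) (range_glue (range_of_allRange c_act2_243) (range_glue (range_of_allRange c_act2_244) (range_glue (range_of_allRange c_act2_245) (range_glue (range_of_allRange c_act2_246) (range_glue (range_of_allRange c_act2_247) (range_glue (range_of_allRange c_act2_248) (range_glue (range_of_allRange c_act2_249) (range_glue (range_of_allRange c_act2_250) (range_glue (range_of_allRange c_act2_251) (range_glue (range_of_allRange c_act2_252) (range_glue (range_of_allRange c_act2_253) (range_glue (range_of_allRange c_act2_254) (range_glue (range_of_allRange c_act2_255) (range_glue (range_of_allRange c_act2_256) (range_glue (range_of_allRange c_act2_257) (range_glue (range_of_allRange c_act2_258) (range_glue (range_of_allRange c_act2_259) (range_glue (range_of_allRange c_act2_260) (range_glue (range_of_allRange c_act2_261) (range_glue (range_of_allRange c_act2_262) (range_glue (range_of_allRange c_act2_263) (range_glue (range_of_allRange c_act2_264) (range_glue (range_of_allRange c_act2_265) (range_glue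 (range_of_allRange c_act2_266) (range_glue (range_of_allRange c_act2_267) (range_glue (range_of_allRange c_act2_268) (range_glue (range_of_allRange c_act2_269) (range_glue (range_of_allRange c_act2_270) (range_glue (range_of_allRange c_act2_271) (range_glue (range_of_allRange c_act2_272) (range_glue (range_of_allRange c_act2_273) (range_glue (range_of_allRange c_act2_274) (range_glue (range_of_allRange c_act2_275) (range_glue (range_of_allRange c_act2_276) (range_glue (range_of_allRange c_act2_277) (range_glue (range_of_allRange c_act2_278) (range_of_allRange c_act2_279))))))))))))))))))))))))))))))))))))))))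
theorem h_act2_p7 : ∀ i, 1400000 ≤ i → i < 1539000 → Nat.beq (actR2 i) i = true :=
  (range_glue (range_of_allRange c_act2_280) (range_glue (range_of_allRange c_act2_281) (range_glue (range_of_allRange c_act2_282) (range_glue (range_of_allRange c_act2_283) (range_glue (range_of_allRange c_act2_284) (range_glue (range_of_allRange c_act2_285) (range_glue (range_of_allRange c_act2_286) (range_glue (range_of_allRange c_act2_287) (range_glue (range_of_allRange c_act2_288) (range_glue (range_of_allRange c_act2_289) (range_glue (range_of_allRange c_act2_290) (range_glue (range_of_allRange c_act2_291) (range_glue (range_of_allRange c_act2_292) (range_glue (range_of_allRange c_act2_293) (range_glue (range_of_allRange c_act2_294) (range_glue (range_of_allRange c_act2_295) (range_glue (range_of_allRange c_act2_296) (range_glue (range_of_allRange c_act2_297) (range_glue (range_of_allRange c_act2_298) (range_glue (range_of_allRange c_act2_299) (range_glue (range_of_allRange c_act2_300) (range_glue (range_of_allRange c_act2_301) (range_glue (range_of_allRange c_act2_302) (range_glue (range_of_allRange c_act2_303) (range_glue (range_of_allRange c_act2_304) (range_glue (range_of_allRange c_act2_305) (range_glue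 (range_of_allRange c_act2_306) (range_of_allRange c_act2_307))))))))))))))))))))))))))))
theorem h_act2 : ∀ i, 0 ≤ i → i < 1539000 → Nat.beq (actR2 i) i = true :=
  (range_glue h_act2_p0 (range_glue h_act2_p1 (range_glue h_act2_p2 (range_glue h_act2_p3 (range_glue h_act2_p4 (range_glue h_act2_p5 (range_glue h_act2_p6 h_act2_p7)))))))
theorem h_act3_p0 : ∀ i, 0 ≤ i → i < 114280 → Nat.beq (actR3 i) i = true :=
  (range_glue (range_of_allRange c_act3_0) (range_glue (range_of_allRange c_act3_1) (range_glue (range_of_allRange c_act3_2) (range_glue (range_of_allRange c_act3_3) (range_glue (range_of_allRange c_act3_4) (range_glue (range_of_allRange c_act3_5) (range_glue (range_of_allRange c_act3_6) (range_glue (range_of_allRange c_act3_7) (range_glue (range_of_allRange c_act3_8) (range_glue (range_of_allRange c_act3_9) (range_glue (range_of_allRange c_act3_10) (range_glue (range_of_allRange c_act3_11) (range_glue (range_of_allRange c_act3_12) (range_glue (range_of_allRange c_act3_13) (range_glue (range_of_allRange c_act3_14) (range_glue (range_of_allRange c_act3_15) (range_glue (range_of_allRange c_act3_16) (range_glue (range_of_allRange c_act3_17) (range_glue (range_of_allRange c_act3_18) (range_glue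 (range_of_allRange c_act3_19) (range_glue (range_of_allRange c_act3_20) (range_glue (range_of_allRange c_act3_21) (range_glue (range_of_allRange c_act3_22) (range_glue (range_of_allRange c_act3_23) (range_glue (range_of_allRange c_act3_24) (range_glue (range_of_allRange c_act3_25) (range_glue (range_of_allRange c_act3_26) (range_glue (range_of_allRange c_act3_27) (range_glue (range_of_allRange c_act3_28) (range_glue (range_of_allRange c_act3_29) (range_glue (range_of_allRange c_act3_30) (range_glue (range_of_allRange c_act3_31) (range_glue (range_of_allRange c_act3_32) (range_glue (range_of_allRange c_act3_33) (range_glue (range_of_allRange c_act3_34) (range_glue (range_of_allRange c_act3_35) (range_glue (range_of_allRange c_act3_36) (range_glue (range_of_allRange c_act3_37) (range_glue (range_of_allRange c_act3_38) (range_of_allRange c_act3_39))))))))))))))))))))))))))))))))))))))))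
theorem h_act3_p1 : ∀ i, 114280 ≤ i → i < 228560 → Nat.beq (actR3 i) i = true :=
  (range_glue (range_of_allRange c_act3_40) (range_glue (range_of_allRange c_act3_41) (range_glue (range_of_allRange c_act3_42) (range_glue (range_of_allRange c_act3_43) (range_glue (range_of_allRange c_act3_44) (range_glue (range_of_allRange c_act3_45) (range_glue (range_of_allRange c_act3_46) (range_glue (range_of_allRange c_act3_47) (range_glue (range_of_allRange c_act3_48) (range_glue (range_of_allRange c_act3_49) (range_glue (range_of_allRange c_act3_50) (range_glue (range_of_allRange c_act3_51) (range_glue (range_of_allRange c_act3_52) (range_glue (range_of_allRange c_act3_53) (range_glue (range_of_allRange c_act3_54) (range_glue (range_of_allRange c_act3_55) (range_glue (range_of_allRange c_act3_56) (range_glue (range_of_allRange c_act3_57) (range_glue (range_of_allRange c_act3_58) (range_glue (range_of_allRange c_act3_59) (range_glue (range_of_allRange c_act3_60) (range_glue (range_of_allRange c_act3_61) (range_glue (range_of_allRange c_act3_62) (range_glue (range_of_allRange c_act3_63) (range_glue (range_of_allRange c_act3_64) (range_glue (range_of_allRange c_act3_65) (range_glue (range_of_allRange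 c_act3_66) (range_glue (range_of_allRange c_act3_67) (range_glue (range_of_allRange c_act3_68) (range_glue (range_of_allRange c_act3_69) (range_glue (range_of_allRange c_act3_70) (range_glue (range_of_allRange c_act3_71) (range_glue (range_of_allRange c_act3_72) (range_glue (range_of_allRange c_act3_73) (range_glue (range_of_allRange c_act3_74) (range_glue (range_of_allRange c_act3_75) (range_glue (range_of_allRange c_act3_76) (range_glue (range_of_allRange c_act3_77) (range_glue (range_of_allRange c_act3_78) (range_of_allRange c_act3_79))))))))))))))))))))))))))))))))))))))))
theorem h_act3_p2 : ∀ i, 228560 ≤ i → i < 342840 → Nat.beq (actR3 i) i = true :=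
  (range_glue (range_of_allRange c_act3_80) (range_glue (range_of_allRange c_act3_81) (range_glue (range_of_allRange c_act3_82) (range_glue (range_of_allRange c_act3_83) (range_glue (range_of_allRange c_act3_84) (range_glue (range_of_allRange c_act3_85) (range_glue (range_of_allRange c_act3_86) (range_glue (range_of_allRange c_act3_87) (range_glue (range_of_allRange c_act3_88) (range_glue (range_of_allRange c_act3_89) (range_glue (range_of_allRange c_act3_90) (range_glue (range_of_allRange c_act3_91) (range_glue (range_of_allRange c_act3_92) (range_glue (range_of_allRange c_act3_93) (range_glue (range_of_allRange c_act3_94) (range_glue (range_of_allRange c_act3_95) (range_glue (range_of_allRange c_act3_96) (range_glue (range_of_allRange c_act3_97) (range_glue (range_of_allRange c_act3_98) (range_glue (range_of_allRange c_act3_99) (range_glue (range_of_allRange c_act3_100) (range_glue (range_of_allRange c_act3_101) (range_glue (range_of_allRange c_act3_102) (range_glue (range_of_allRange c_act3_103) (range_glue (range_of_allRange c_act3_104) (range_glue (range_of_allRange c_act3_105) (range_glue (range_of_allRange c_act3_106) (range_glue (range_of_allRange c_act3_107) (range_glue (range_of_allRange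 c_act3_108) (range_glue (range_of_allRange c_act3_109) (range_glue (range_of_allRange c_act3_110) (range_glue (range_of_allRange c_act3_111) (range_glue (range_of_allRange c_act3_112) (range_glue (range_of_allRange c_act3_113) (range_glue (range_of_allRange c_act3_114) (range_glue (range_of_allRange c_act3_115) (range_glue (range_of_allRange c_act3_116) (range_glue (range_of_allRange c_act3_117) (range_glue (range_of_allRange c_act3_118) (range_of_allRange c_act3_119))))))))))))))))))))))))))))))))))))))))
theorem h_act3_p3 : ∀ i, 342840 ≤ i → i < 457120 → Nat.beq (actR3 i) i = true :=
  (range_glue (range_of_allRange c_act3_120) (range_glue (range_of_allRange c_act3_121) (range_glue (range_of_allRange c_act3_122) (range_glue (range_of_allRange c_act3_123) (range_glue (range_of_allRange c_act3_124) (range_glue (range_of_allRange c_act3_125) (range_glue (range_of_allRange c_act3_126) (range_glue (range_of_allRange c_act3_127) (range_glue (range_of_allRange c_act3_128) (range_glue (range_of_allRange c_act3_129) (range_glue (range_of_allRange c_act3_130) (range_glue (range_of_allRange c_act3_131) (range_glue (range_of_allRange c_act3_132) (range_glue (range_of_allRange c_act3_133) (range_glue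 (range_of_allRange c_act3_134) (range_glue (range_of_allRange c_act3_135) (range_glue (range_of_allRange c_act3_136) (range_glue (range_of_allRange c_act3_137) (range_glue (range_of_allRange c_act3_138) (range_glue (range_of_allRange c_act3_139) (range_glue (range_of_allRange c_act3_140) (range_glue (range_of_allRange c_act3_141) (range_glue (range_of_allRange c_act3_142) (range_glue (range_of_allRange c_act3_143) (range_glue (range_of_allRange c_act3_144) (range_glue (range_of_allRange c_act3_145) (range_glue (range_of_allRange c_act3_146) (range_glue (range_of_allRange c_act3_147) (range_glue (range_of_allRange c_act3_148) (range_glue (range_of_allRange c_act3_149) (range_glue (range_of_allRange c_act3_150) (range_glue (range_of_allRange c_act3_151) (range_glue (range_of_allRange c_act3_152) (range_glue (range_of_allRange c_act3_153) (range_glue (range_of_allRange c_act3_154) (range_glue (range_of_allRange c_act3_155) (range_glue (range_of_allRange c_act3_156) (range_glue (range_of_allRange c_act3_157) (range_glue (range_of_allRange c_act3_158) (range_of_allRange c_act3_159))))))))))))))))))))))))))))))))))))))))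
theorem h_act3_p4 : ∀ i, 457120 ≤ i → i < 571400 → Nat.beq (actR3 i) i = true :=
  (range_glue (range_of_allRange c_act3_160) (range_glue (range_of_allRange c_act3_161) (range_glue (range_of_allRange c_act3_162) (range_glue (range_of_allRange c_act3_163) (range_glue (range_of_allRange c_act3_164) (range_glue (range_of_allRange c_act3_165) (range_glue (range_of_allRange c_act3_166) (range_glue (range_of_allRange c_act3_167) (range_glue (range_of_allRange c_act3_168) (range_glue (range_of_allRange c_act3_169) (range_glue (range_of_allRange c_act3_170) (range_glue (range_of_allRange c_act3_171) (range_glue (range_of_allRange c_act3_172) (range_glue (range_of_allRange c_act3_173) (range_glue (range_of_allRange c_act3_174) (range_glue (range_of_allRange c_act3_175) (range_glue (range_of_allRange c_act3_176) (range_glue (range_of_allRange c_act3_177) (range_glue (range_of_allRange c_act3_178) (range_glue (range_of_allRange c_act3_179) (range_glue (range_of_allRange c_act3_180) (range_glue (range_of_allRange c_act3_181) (range_glue (range_of_allRange c_act3_182) (range_glue (range_of_allRange c_act3_183) (range_glue (range_of_allRange c_act3_184) (range_glue (range_of_allRange c_act3_185) (range_glue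 (range_of_allRange c_act3_186) (range_glue (range_of_allRange c_act3_187) (range_glue (range_of_allRange c_act3_188) (range_glue (range_of_allRange c_act3_189) (range_glue (range_of_allRange c_act3_190) (range_glue (range_of_allRange c_act3_191) (range_glue (range_of_allRange c_act3_192) (range_glue (range_of_allRange c_act3_193) (range_glue (range_of_allRange c_act3_194) (range_glue (range_of_allRange c_act3_195) (range_glue (range_of_allRange c_act3_196) (range_glue (range_of_allRange c_act3_197) (range_glue (range_of_allRange c_act3_198) (range_of_allRange c_act3_199))))))))))))))))))))))))))))))))))))))))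
theorem h_act3_p5 : ∀ i, 571400 ≤ i → i < 685680 → Nat.beq (actR3 i) i = true :=
  (range_glue (range_of_allRange c_act3_200) (range_glue (range_of_allRange c_act3_201) (range_glue (range_of_allRange c_act3_202) (range_glue (range_of_allRange c_act3_203) (range_glue (range_of_allRange c_act3_204) (range_glue (range_of_allRange c_act3_205) (range_glue (range_of_allRange c_act3_206) (range_glue (range_of_allRange c_act3_207) (range_glue (range_of_allRange c_act3_208) (range_glue (range_of_allRange c_act3_209) (range_glue (range_of_allRange c_act3_210) (range_glue (range_of_allRange c_act3_211) (range_glue (range_of_allRange c_act3_212) (range_glue (range_of_allRange c_act3_213) (range_glue (range_of_allRange c_act3_214) (range_glue (range_of_allRange c_act3_215) (range_glue (range_of_allRange c_act3_216) (range_glue (range_of_allRange c_act3_217) (range_glue (range_of_allRange c_act3_218) (range_glue (range_of_allRange c_act3_219) (range_glue (range_of_allRange c_act3_220) (range_glue (range_of_allRange c_act3_221) (range_glue (range_of_allRange c_act3_222) (range_glue (range_of_allRange c_act3_223) (range_glue (range_of_allRange c_act3_224) (range_glue (range_of_allRange c_act3_225) (range_glue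 (range_of_allRange c_act3_226) (range_glue (range_of_allRange c_act3_227) (range_glue (range_of_allRange c_act3_228) (range_glue (range_of_allRange c_act3_229) (range_glue (range_of_allRange c_act3_230) (range_glue (range_of_allRange c_act3_231) (range_glue (range_of_allRange c_act3_232) (range_glue (range_of_allRange c_act3_233) (range_glue (range_of_allRange c_act3_234) (range_glue (range_of_allRange c_act3_235) (range_glue (range_of_allRange c_act3_236) (range_glue (range_of_allRange c_act3_237) (range_glue (range_of_allRange c_act3_238) (range_of_allRange c_act3_239))))))))))))))))))))))))))))))))))))))))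
theorem h_act3_p6 : ∀ i, 685680 ≤ i → i < 799960 → Nat.beq (actR3 i) i = true :=
  (range_glue (range_of_allRange c_act3_240) (range_glue (range_of_allRange c_act3_241) (range_glue (range_of_allRange c_act3_242) (range_glue (range_of_allRange c_act3_243) (range_glue (range_of_allRange c_act3_244) (range_glue (range_of_allRange c_act3_245) (range_glue (range_of_allRange c_act3_246) (range_glue (range_of_allRange c_act3_247) (range_glue (range_of_allRange c_act3_248) (range_glue (range_of_allRange c_act3_249) (range_glue (range_of_allRange c_act3_250) (range_glue (range_of_allRange c_act3_251) (range_glue (range_of_allRange c_act3_252) (range_glue (range_of_allRange c_act3_253) (range_glue (range_of_allRange c_act3_254) (range_glue (range_of_allRange c_act3_255) (range_glue (range_of_allRange c_act3_256) (range_glue (range_of_allRange c_act3_257) (range_glue (range_of_allRange c_act3_258) (range_glue (range_of_allRange c_act3_259) (range_glue (range_of_allRange c_act3_260) (range_glue (range_of_allRange c_act3_261) (range_glue (range_of_allRange c_act3_262) (range_glue (range_of_allRange c_act3_263) (range_glue (range_of_allRange c_act3_264) (range_glue (range_of_allRange c_act3_265) (range_glue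 (range_of_allRange c_act3_266) (range_glue (range_of_allRange c_act3_267) (range_glue (range_of_allRange c_act3_268) (range_glue (range_of_allRange c_act3_269) (range_glue (range_of_allRange c_act3_270) (range_glue (range_of_allRange c_act3_271) (range_glue (range_of_allRange c_act3_272) (range_glue (range_of_allRange c_act3_273) (range_glue (range_of_allRange c_act3_274) (range_glue (range_of_allRange c_act3_275) (range_glue (range_of_allRange c_act3_276) (range_glue (range_of_allRange c_act3_277) (range_glue (range_of_allRange c_act3_278) (range_of_allRange c_act3_279))))))))))))))))))))))))))))))))))))))))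
theorem h_act3_p7 : ∀ i, 799960 ≤ i → i < 914240 → Nat.beq (actR3 i) i = true :=
  (range_glue (range_of_allRange c_act3_280) (range_glue (range_of_allRange c_act3_281) (range_glue (range_of_allRange c_act3_282) (range_glue (range_of_allRange c_act3_283) (range_glue (range_of_allRange c_act3_284) (range_glue (range_of_allRange c_act3_285) (range_glue (range_of_allRange c_act3_286) (range_glue (range_of_allRange c_act3_287) (range_glue (range_of_allRange c_act3_288) (range_glue (range_of_allRange c_act3_289) (range_glue (range_of_allRange c_act3_290) (range_glue (range_of_allRange c_act3_291) (range_glue (range_of_allRange c_act3_292) (range_glue (range_of_allRange c_act3_293) (range_glue (range_of_allRange c_act3_294) (range_glue (range_of_allRange c_act3_295) (range_glue (range_of_allRange c_act3_296) (range_glue (range_of_allRange c_act3_297) (range_glue (range_of_allRange c_act3_298) (range_glue (range_of_allRange c_act3_299) (range_glue (range_of_allRange c_act3_300) (range_glue (range_of_allRange c_act3_301) (range_glue (range_of_allRange c_act3_302) (range_glue (range_of_allRange c_act3_303) (range_glue (range_of_allRange c_act3_304) (range_glue (range_of_allRange c_act3_305) (range_glue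 (range_of_allRange c_act3_306) (range_glue (range_of_allRange c_act3_307) (range_glue (range_of_allRange c_act3_308) (range_glue (range_of_allRange c_act3_309) (range_glue (range_of_allRange c_act3_310) (range_glue (range_of_allRange c_act3_311) (range_glue (range_of_allRange c_act3_312) (range_glue (range_of_allRange c_act3_313) (range_glue (range_of_allRange c_act3_314) (range_glue (range_of_allRange c_act3_315) (range_glue (range_of_allRange c_act3_316) (range_glue (range_of_allRange c_act3_317) (range_glue (range_of_allRange c_act3_318) (range_of_allRange c_act3_319))))))))))))))))))))))))))))))))))))))))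
theorem h_act3_p8 : ∀ i, 914240 ≤ i → i < 1028520 → Nat.beq (actR3 i) i = true :=
  (range_glue (range_of_allRange c_act3_320) (range_glue (range_of_allRange c_act3_321) (range_glue (range_of_allRange c_act3_322) (range_glue (range_of_allRange c_act3_323) (range_glue (range_of_allRange c_act3_324) (range_glue (range_of_allRange c_act3_325) (range_glue (range_of_allRange c_act3_326) (range_glue (range_of_allRange c_act3_327) (range_glue (range_of_allRange c_act3_328) (range_glue (range_of_allRange c_act3_329) (range_glue (range_of_allRange c_act3_330) (range_glue (range_of_allRange c_act3_331) (range_glue (range_of_allRange c_act3_332) (range_glue (range_of_allRange c_act3_333) (range_glue (range_of_allRange c_act3_334) (range_glue (range_of_allRange c_act3_335) (range_glue (range_of_allRange c_act3_336) (range_glue (range_of_allRange c_act3_337) (range_glue (range_of_allRange c_act3_338) (range_glue (range_of_allRange c_act3_339) (range_glue (range_of_allRange c_act3_340) (range_glue (range_of_allRange c_act3_341) (range_glue (range_of_allRange c_act3_342) (range_glue (range_of_allRange c_act3_343) (range_glue (range_of_allRange c_act3_344) (range_glue (range_of_allRange c_act3_345) (range_glue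 (range_of_allRange c_act3_346) (range_glue (range_of_allRange c_act3_347) (range_glue (range_of_allRange c_act3_348) (range_glue (range_of_allRange c_act3_349) (range_glue (range_of_allRange c_act3_350) (range_glue (range_of_allRange c_act3_351) (range_glue (range_of_allRange c_act3_352) (range_glue (range_of_allRange c_act3_353) (range_glue (range_of_allRange c_act3_354) (range_glue (range_of_allRange c_act3_355) (range_glue (range_of_allRange c_act3_356) (range_glue (range_of_allRange c_act3_357) (range_glue (range_of_allRange c_act3_358) (range_of_allRange c_act3_359))))))))))))))))))))))))))))))))))))))))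
theorem h_act3_p9 : ∀ i, 1028520 ≤ i → i < 1142800 → Nat.beq (actR3 i) i = true :=
  (range_glue (range_of_allRange c_act3_360) (range_glue (range_of_allRange c_act3_361) (range_glue (range_of_allRange c_act3_362) (range_glue (range_of_allRange c_act3_363) (range_glue (range_of_allRange c_act3_364) (range_glue (range_of_allRange c_act3_365) (range_glue (range_of_allRange c_act3_366) (range_glue (range_of_allRange c_act3_367) (range_glue (range_of_allRange c_act3_368) (range_glue (range_of_allRange c_act3_369) (range_glue (range_of_allRange c_act3_370) (range_glue (range_of_allRange c_act3_371) (range_glue (range_of_allRange c_act3_372) (range_glue (range_of_allRange c_act3_373) (range_glue (range_of_allRange c_act3_374) (range_glue (range_of_allRange c_act3_375) (range_glue (range_of_allRange c_act3_376) (range_glue (range_of_allRange c_act3_377) (range_glue (range_of_allRange c_act3_378) (range_glue (range_of_allRange c_act3_379) (range_glue (range_of_allRange c_act3_380) (range_glue (range_of_allRange c_act3_381) (range_glue (range_of_allRange c_act3_382) (range_glue (range_of_allRange c_act3_383) (range_glue (range_of_allRange c_act3_384) (range_glue (range_of_allRange c_act3_385) (range_glue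 (range_of_allRange c_act3_386) (range_glue (range_of_allRange c_act3_387) (range_glue (range_of_allRange c_act3_388) (range_glue (range_of_allRange c_act3_389) (range_glue (range_of_allRange c_act3_390) (range_glue (range_of_allRange c_act3_391) (range_glue (range_of_allRange c_act3_392) (range_glue (range_of_allRange c_act3_393) (range_glue (range_of_allRange c_act3_394) (range_glue (range_of_allRange c_act3_395) (range_glue (range_of_allRange c_act3_396) (range_glue (range_of_allRange c_act3_397) (range_glue (range_of_allRange c_act3_398) (range_of_allRange c_act3_399))))))))))))))))))))))))))))))))))))))))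
theorem h_act3_p10 : ∀ i, 1142800 ≤ i → i < 1257080 → Nat.beq (actR3 i) i = true :=
  (range_glue (range_of_allRange c_act3_400) (range_glue (range_of_allRange c_act3_401) (range_glue (range_of_allRange c_act3_402) (range_glue (range_of_allRange c_act3_403) (range_glue (range_of_allRange c_act3_404) (range_glue (range_of_allRange c_act3_405) (range_glue (range_of_allRange c_act3_406) (range_glue (range_of_allRange c_act3_407) (range_glue (range_of_allRange c_act3_408) (range_glue (range_of_allRange c_act3_409) (range_glue (range_of_allRange c_act3_410) (range_glue (range_of_allRange c_act3_411) (range_glue (range_of_allRange c_act3_412) (range_glue (range_of_allRange c_act3_413) (range_glue (range_of_allRange c_act3_414) (range_glue (range_of_allRange c_act3_415) (range_glue (range_of_allRange c_act3_416) (range_glue (range_of_allRange c_act3_417) (range_glue (range_of_allRange c_act3_418) (range_glue (range_of_allRange c_act3_419) (range_glue (range_of_allRange c_act3_420) (range_glue (range_of_allRange c_act3_421) (range_glue (range_of_allRange c_act3_422) (range_glue (range_of_allRange c_act3_423) (range_glue (range_of_allRange c_act3_424) (range_glue (range_of_allRange c_act3_425) (range_glue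 (range_of_allRange c_act3_426) (range_glue (range_of_allRange c_act3_427) (range_glue (range_of_allRange c_act3_428) (range_glue (range_of_allRange c_act3_429) (range_glue (range_of_allRange c_act3_430) (range_glue (range_of_allRange c_act3_431) (range_glue (range_of_allRange c_act3_432) (range_glue (range_of_allRange c_act3_433) (range_glue (range_of_allRange c_act3_434) (range_glue (range_of_allRange c_act3_435) (range_glue (range_of_allRange c_act3_436) (range_glue (range_of_allRange c_act3_437) (range_glue (range_of_allRange c_act3_438) (range_of_allRange c_act3_439))))))))))))))))))))))))))))))))))))))))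
theorem h_act3_p11 : ∀ i, 1257080 ≤ i → i < 1371360 → Nat.beq (actR3 i) i = true :=
  (range_glue (range_of_allRange c_act3_440) (range_glue (range_of_allRange c_act3_441) (range_glue (range_of_allRange c_act3_442) (range_glue (range_of_allRange c_act3_443) (range_glue (range_of_allRange c_act3_444) (range_glue (range_of_allRange c_act3_445) (range_glue (range_of_allRange c_act3_446) (range_glue (range_of_allRange c_act3_447) (range_glue (range_of_allRange c_act3_448) (range_glue (range_of_allRange c_act3_449) (range_glue (range_of_allRange c_act3_450) (range_glue (range_of_allRange c_act3_451) (range_glue (range_of_allRange c_act3_452) (range_glue (range_of_allRange c_act3_453) (range_glue (range_of_allRange c_act3_454) (range_glue (range_of_allRange c_act3_455) (range_glue (range_of_allRange c_act3_456) (range_glue (range_of_allRange c_act3_457) (range_glue (range_of_allRange c_act3_458) (range_glue (range_of_allRange c_act3_459) (range_glue (range_of_allRange c_act3_460) (range_glue (range_of_allRange c_act3_461) (range_glue (range_of_allRange c_act3_462) (range_glue (range_of_allRange c_act3_463) (range_glue (range_of_allRange c_act3_464) (range_glue (range_of_allRange c_act3_465) (range_glue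 (range_of_allRange c_act3_466) (range_glue (range_of_allRange c_act3_467) (range_glue (range_of_allRange c_act3_468) (range_glue (range_of_allRange c_act3_469) (range_glue (range_of_allRange c_act3_470) (range_glue (range_of_allRange c_act3_471) (range_glue (range_of_allRange c_act3_472) (range_glue (range_of_allRange c_act3_473) (range_glue (range_of_allRange c_act3_474) (range_glue (range_of_allRange c_act3_475) (range_glue (range_of_allRange c_act3_476) (range_glue (range_of_allRange c_act3_477) (range_glue (range_of_allRange c_act3_478) (range_of_allRange c_act3_479))))))))))))))))))))))))))))))))))))))))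
theorem h_act3_p12 : ∀ i, 1371360 ≤ i → i < 1485640 → Nat.beq (actR3 i) i = true :=
  (range_glue (range_of_allRange c_act3_480) (range_glue (range_of_allRange c_act3_481) (range_glue (range_of_allRange c_act3_482) (range_glue (range_of_allRange c_act3_483) (range_glue (range_of_allRange c_act3_484) (range_glue (range_of_allRange c_act3_485) (range_glue (range_of_allRange c_act3_486) (range_glue (range_of_allRange c_act3_487) (range_glue (range_of_allRange c_act3_488) (range_glue (range_of_allRange c_act3_489) (range_glue (range_of_allRange c_act3_490) (range_glue (range_of_allRange c_act3_491) (range_glue (range_of_allRange c_act3_492) (range_glue (range_of_allRange c_act3_493) (range_glue (range_of_allRange c_act3_494) (range_glue (range_of_allRange c_act3_495) (range_glue (range_of_allRange c_act3_496) (range_glue (range_of_allRange c_act3_497) (range_glue (range_of_allRange c_act3_498) (range_glue (range_of_allRange c_act3_499) (range_glue (range_of_allRange c_act3_500) (range_glue (range_of_allRange c_act3_501) (range_glue (range_of_allRange c_act3_502) (range_glue (range_of_allRange c_act3_503) (range_glue (range_of_allRange c_act3_504) (range_glue (range_of_allRange c_act3_505) (range_glue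 (range_of_allRange c_act3_506) (range_glue (range_of_allRange c_act3_507) (range_glue (range_of_allRange c_act3_508) (range_glue (range_of_allRange c_act3_509) (range_glue (range_of_allRange c_act3_510) (range_glue (range_of_allRange c_act3_511) (range_glue (range_of_allRange c_act3_512) (range_glue (range_of_allRange c_act3_513) (range_glue (range_of_allRange c_act3_514) (range_glue (range_of_allRange c_act3_515) (range_glue (range_of_allRange c_act3_516) (range_glue (range_of_allRange c_act3_517) (range_glue (range_of_allRange c_act3_518) (range_of_allRange c_act3_519))))))))))))))))))))))))))))))))))))))))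
theorem h_act3_p13 : ∀ i, 1485640 ≤ i → i < 1539000 → Nat.beq (actR3 i) i = true :=
  (range_glue (range_of_allRange c_act3_520) (range_glue (range_of_allRange c_act3_521) (range_glue (range_of_allRange c_act3_522) (range_glue (range_of_allRange c_act3_523) (range_glue (range_of_allRange c_act3_524) (range_glue (range_of_allRange c_act3_525) (range_glue (range_of_allRange c_act3_526) (range_glue (range_of_allRange c_act3_527) (range_glue (range_of_allRange c_act3_528) (range_glue (range_of_allRange c_act3_529) (range_glue (range_of_allRange c_act3_530) (range_glue (range_of_allRange c_act3_531) (range_glue (range_of_allRange c_act3_532) (range_glue (range_of_allRange c_act3_533) (range_glue (range_of_allRange c_act3_534) (range_glue (range_of_allRange c_act3_535) (range_glue (range_of_allRange c_act3_536) (range_glue (range_of_allRange c_act3_537) (range_of_allRange c_act3_538)))))))))))))))))))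
theorem h_act3 : ∀ i, 0 ≤ i → i < 1539000 → Nat.beq (actR3 i) i = true :=
  (range_glue h_act3_p0 (range_glue h_act3_p1 (range_glue h_act3_p2 (range_glue h_act3_p3 (range_glue h_act3_p4 (range_glue h_act3_p5 (range_glue h_act3_p6 (range_glue h_act3_p7 (range_glue h_act3_p8 (range_glue h_act3_p9 (range_glue h_act3_p10 (range_glue h_act3_p11 (range_glue h_act3_p12 h_act3_p13)))))))))))))
theorem h_act4_p0 : ∀ i, 0 ≤ i → i < 150000 → Nat.beq (actR4 i) i = true :=
  (range_glue (range_of_allRange c_act4_0) (range_glue (range_of_allRange c_act4_1) (range_glue (range_of_allRange c_act4_2) (range_glue (range_of_allRange c_act4_3) (range_glue (range_of_allRange c_act4_4) (range_glue (range_of_allRange c_act4_5) (range_glue (range_of_allRange c_act4_6) (range_glue (range_of_allRange c_act4_7) (range_glue (range_of_allRange c_act4_8) (range_glue (range_of_allRange c_act4_9) (range_glue (range_of_allRange c_act4_10) (range_glue (range_of_allRange c_act4_11) (range_glue (range_of_allRange c_act4_12) (range_glue (range_of_allRange c_act4_13) (range_glue (range_of_allRange c_act4_14) (range_glue (range_of_allRange c_act4_15) (range_glue (range_of_allRange c_act4_16) (range_glue (range_of_allRange c_act4_17)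 (range_glue (range_of_allRange c_act4_18) (range_glue (range_of_allRange c_act4_19) (range_glue (range_of_allRange c_act4_20) (range_glue (range_of_allRange c_act4_21) (range_glue (range_of_allRange c_act4_22) (range_glue (range_of_allRange c_act4_23) (range_glue (range_of_allRange c_act4_24) (range_glue (range_of_allRange c_act4_25) (range_glue (range_of_allRange c_act4_26) (range_glue (range_of_allRange c_act4_27) (range_glue (range_of_allRange c_act4_28) (range_glue (range_of_allRange c_act4_29) (range_glue (range_of_allRange c_act4_30) (range_glue (range_of_allRange c_act4_31) (range_glue (range_of_allRange c_act4_32) (range_glue (range_of_allRange c_act4_33) (range_glue (range_of_allRange c_act4_34) (range_glue (range_of_allRange c_act4_35) (range_glue (range_of_allRange c_act4_36) (range_glue (range_of_allRange c_act4_37) (range_glue (range_of_allRange c_act4_38) (range_of_allRange c_act4_39))))))))))))))))))))))))))))))))))))))))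
theorem h_act4_p1 : ∀ i, 150000 ≤ i → i < 300000 → Nat.beq (actR4 i) i = true :=
  (range_glue (range_of_allRange c_act4_40) (range_glue (range_of_allRange c_act4_41) (range_glue (range_of_allRange c_act4_42) (range_glue (range_of_allRange c_act4_43) (range_glue (range_of_allRange c_act4_44) (range_glue (range_of_allRange c_act4_45) (range_glue (range_of_allRange c_act4_46) (range_glue (range_of_allRange c_act4_47) (range_glue (range_of_allRange c_act4_48) (range_glue (range_of_allRange c_act4_49) (range_glue (range_of_allRange c_act4_50) (range_glue (range_of_allRange c_act4_51) (range_glue (range_of_allRange c_act4_52) (range_glue (range_of_allRange c_act4_53) (range_glue (range_of_allRange c_act4_54) (range_glue (range_of_allRange c_act4_55) (range_glue (range_of_allRange c_act4_56) (range_glue (range_of_allRange c_act4_57) (range_glue (range_of_allRange c_act4_58) (range_glue (range_of_allRange c_act4_59) (range_glue (range_of_allRange c_act4_60) (range_glue (range_of_allRange c_act4_61) (range_glue (range_of_allRange c_act4_62) (range_glue (range_of_allRange c_act4_63) (range_glue (range_of_allRange c_act4_64) (range_glue (range_of_allRange c_act4_65) (range_glue (range_of_allRange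 c_act4_66) (range_glue (range_of_allRange c_act4_67) (range_glue (range_of_allRange c_act4_68) (range_glue (range_of_allRange c_act4_69) (range_glue (range_of_allRange c_act4_70) (range_glue (range_of_allRange c_act4_71) (range_glue (range_of_allRange c_act4_72) (range_glue (range_of_allRange c_act4_73) (range_glue (range_of_allRange c_act4_74) (range_glue (range_of_allRange c_act4_75) (range_glue (range_of_allRange c_act4_76) (range_glue (range_of_allRange c_act4_77) (range_glue (range_of_allRange c_act4_78) (range_of_allRange c_act4_79))))))))))))))))))))))))))))))))))))))))
theorem h_act4_p2 : ∀ i, 300000 ≤ i → i < 450000 → Nat.beq (actR4 i) i = true :=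
  (range_glue (range_of_allRange c_act4_80) (range_glue (range_of_allRange c_act4_81) (range_glue (range_of_allRange c_act4_82) (range_glue (range_of_allRange c_act4_83) (range_glue (range_of_allRange c_act4_84) (range_glue (range_of_allRange c_act4_85) (range_glue (range_of_allRange c_act4_86) (range_glue (range_of_allRange c_act4_87) (range_glue (range_of_allRange c_act4_88) (range_glue (range_of_allRange c_act4_89) (range_glue (range_of_allRange c_act4_90) (range_glue (range_of_allRange c_act4_91) (range_glue (range_of_allRange c_act4_92) (range_glue (range_of_allRange c_act4_93) (range_glue (range_of_allRange c_act4_94) (range_glue (range_of_allRange c_act4_95) (range_glue (range_of_allRange c_act4_96) (range_glue (range_of_allRange c_act4_97) (range_glue (range_of_allRange c_act4_98) (range_glue (range_of_allRange c_act4_99) (range_glue (range_of_allRange c_act4_100) (range_glue (range_of_allRange c_act4_101) (range_glue (range_of_allRange c_act4_102) (range_glue (range_of_allRange c_act4_103) (range_glue (range_of_allRange c_act4_104) (range_glue (range_of_allRange c_act4_105) (range_glue (range_of_allRange c_act4_106) (range_glue (range_of_allRange c_act4_107) (range_glue (range_of_allRange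 c_act4_108) (range_glue (range_of_allRange c_act4_109) (range_glue (range_of_allRange c_act4_110) (range_glue (range_of_allRange c_act4_111) (range_glue (range_of_allRange c_act4_112) (range_glue (range_of_allRange c_act4_113) (range_glue (range_of_allRange c_act4_114) (range_glue (range_of_allRange c_act4_115) (range_glue (range_of_allRange c_act4_116) (range_glue (range_of_allRange c_act4_117) (range_glue (range_of_allRange c_act4_118) (range_of_allRange c_act4_119))))))))))))))))))))))))))))))))))))))))
theorem h_act4_p3 : ∀ i, 450000 ≤ i → i < 600000 → Nat.beq (actR4 i) i = true :=
  (range_glue (range_of_allRange c_act4_120) (range_glue (range_of_allRange c_act4_121) (range_glue (range_of_allRange c_act4_122) (range_glue (range_of_allRange c_act4_123) (range_glue (range_of_allRange c_act4_124) (range_glue (range_of_allRange c_act4_125) (range_glue (range_of_allRange c_act4_126) (range_glue (range_of_allRange c_act4_127) (range_glue (range_of_allRange c_act4_128) (range_glue (range_of_allRange c_act4_129) (range_glue (range_of_allRange c_act4_130) (range_glue (range_of_allRange c_act4_131) (range_glue (range_of_allRange c_act4_132) (range_glue (range_of_allRange c_act4_133) (range_glue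 (range_of_allRange c_act4_134) (range_glue (range_of_allRange c_act4_135) (range_glue (range_of_allRange c_act4_136) (range_glue (range_of_allRange c_act4_137) (range_glue (range_of_allRange c_act4_138) (range_glue (range_of_allRange c_act4_139) (range_glue (range_of_allRange c_act4_140) (range_glue (range_of_allRange c_act4_141) (range_glue (range_of_allRange c_act4_142) (range_glue (range_of_allRange c_act4_143) (range_glue (range_of_allRange c_act4_144) (range_glue (range_of_allRange c_act4_145) (range_glue (range_of_allRange c_act4_146) (range_glue (range_of_allRange c_act4_147) (range_glue (range_of_allRange c_act4_148) (range_glue (range_of_allRange c_act4_149) (range_glue (range_of_allRange c_act4_150) (range_glue (range_of_allRange c_act4_151) (range_glue (range_of_allRange c_act4_152) (range_glue (range_of_allRange c_act4_153) (range_glue (range_of_allRange c_act4_154) (range_glue (range_of_allRange c_act4_155) (range_glue (range_of_allRange c_act4_156) (range_glue (range_of_allRange c_act4_157) (range_glue (range_of_allRange c_act4_158) (range_of_allRange c_act4_159))))))))))))))))))))))))))))))))))))))))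
theorem h_act4_p4 : ∀ i, 600000 ≤ i → i < 750000 → Nat.beq (actR4 i) i = true :=
  (range_glue (range_of_allRange c_act4_160) (range_glue (range_of_allRange c_act4_161) (range_glue (range_of_allRange c_act4_162) (range_glue (range_of_allRange c_act4_163) (range_glue (range_of_allRange c_act4_164) (range_glue (range_of_allRange c_act4_165) (range_glue (range_of_allRange c_act4_166) (range_glue (range_of_allRange c_act4_167) (range_glue (range_of_allRange c_act4_168) (range_glue (range_of_allRange c_act4_169) (range_glue (range_of_allRange c_act4_170) (range_glue (range_of_allRange c_act4_171) (range_glue (range_of_allRange c_act4_172) (range_glue (range_of_allRange c_act4_173) (range_glue (range_of_allRange c_act4_174) (range_glue (range_of_allRange c_act4_175) (range_glue (range_of_allRange c_act4_176) (range_glue (range_of_allRange c_act4_177) (range_glue (range_of_allRange c_act4_178) (range_glue (range_of_allRange c_act4_179) (range_glue (range_of_allRange c_act4_180) (range_glue (range_of_allRange c_act4_181) (range_glue (range_of_allRange c_act4_182) (range_glue (range_of_allRange c_act4_183) (range_glue (range_of_allRange c_act4_184) (range_glue (range_of_allRange c_act4_185) (range_glue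 (range_of_allRange c_act4_186) (range_glue (range_of_allRange c_act4_187) (range_glue (range_of_allRange c_act4_188) (range_glue (range_of_allRange c_act4_189) (range_glue (range_of_allRange c_act4_190) (range_glue (range_of_allRange c_act4_191) (range_glue (range_of_allRange c_act4_192) (range_glue (range_of_allRange c_act4_193) (range_glue (range_of_allRange c_act4_194) (range_glue (range_of_allRange c_act4_195) (range_glue (range_of_allRange c_act4_196) (range_glue (range_of_allRange c_act4_197) (range_glue (range_of_allRange c_act4_198) (range_of_allRange c_act4_199))))))))))))))))))))))))))))))))))))))))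
theorem h_act4_p5 : ∀ i, 750000 ≤ i → i < 900000 → Nat.beq (actR4 i) i = true :=
  (range_glue (range_of_allRange c_act4_200) (range_glue (range_of_allRange c_act4_201) (range_glue (range_of_allRange c_act4_202) (range_glue (range_of_allRange c_act4_203) (range_glue (range_of_allRange c_act4_204) (range_glue (range_of_allRange c_act4_205) (range_glue (range_of_allRange c_act4_206) (range_glue (range_of_allRange c_act4_207) (range_glue (range_of_allRange c_act4_208) (range_glue (range_of_allRange c_act4_209) (range_glue (range_of_allRange c_act4_210) (range_glue (range_of_allRange c_act4_211) (range_glue (range_of_allRange c_act4_212) (range_glue (range_of_allRange c_act4_213) (range_glue (range_of_allRange c_act4_214) (range_glue (range_of_allRange c_act4_215) (range_glue (range_of_allRange c_act4_216) (range_glue (range_of_allRange c_act4_217) (range_glue (range_of_allRange c_act4_218) (range_glue (range_of_allRange c_act4_219) (range_glue (range_of_allRange c_act4_220) (range_glue (range_of_allRange c_act4_221) (range_glue (range_of_allRange c_act4_222) (range_glue (range_of_allRange c_act4_223) (range_glue (range_of_allRange c_act4_224) (range_glue (range_of_allRange c_act4_225) (range_glue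 (range_of_allRange c_act4_226) (range_glue (range_of_allRange c_act4_227) (range_glue (range_of_allRange c_act4_228) (range_glue (range_of_allRange c_act4_229) (range_glue (range_of_allRange c_act4_230) (range_glue (range_of_allRange c_act4_231) (range_glue (range_of_allRange c_act4_232) (range_glue (range_of_allRange c_act4_233) (range_glue (range_of_allRange c_act4_234) (range_glue (range_of_allRange c_act4_235) (range_glue (range_of_allRange c_act4_236) (range_glue (range_of_allRange c_act4_237) (range_glue (range_of_allRange c_act4_238) (range_of_allRange c_act4_239))))))))))))))))))))))))))))))))))))))))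
theorem h_act4_p6 : ∀ i, 900000 ≤ i → i < 1050000 → Nat.beq (actR4 i) i = true :=
  (range_glue (range_of_allRange c_act4_240) (range_glue (range_of_allRange c_act4_241) (range_glue (range_of_allRange c_act4_242) (range_glue (range_of_allRange c_act4_243) (range_glue (range_of_allRange c_act4_244) (range_glue (range_of_allRange c_act4_245) (range_glue (range_of_allRange c_act4_246) (range_glue (range_of_allRange c_act4_247) (range_glue (range_of_allRange c_act4_248) (range_glue (range_of_allRange c_act4_249) (range_glue (range_of_allRange c_act4_250) (range_glue (range_of_allRange c_act4_251) (range_glue (range_of_allRange c_act4_252) (range_glue (range_of_allRange c_act4_253) (range_glue (range_of_allRange c_act4_254) (range_glue (range_of_allRange c_act4_255) (range_glue (range_of_allRange c_act4_256) (range_glue (range_of_allRange c_act4_257) (range_glue (range_of_allRange c_act4_258) (range_glue (range_of_allRange c_act4_259) (range_glue (range_of_allRange c_act4_260) (range_glue (range_of_allRange c_act4_261) (range_glue (range_of_allRange c_act4_262) (range_glue (range_of_allRange c_act4_263) (range_glue (range_of_allRange c_act4_264) (range_glue (range_of_allRange c_act4_265) (range_glue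 (range_of_allRange c_act4_266) (range_glue (range_of_allRange c_act4_267) (range_glue (range_of_allRange c_act4_268) (range_glue (range_of_allRange c_act4_269) (range_glue (range_of_allRange c_act4_270) (range_glue (range_of_allRange c_act4_271) (range_glue (range_of_allRange c_act4_272) (range_glue (range_of_allRange c_act4_273) (range_glue (range_of_allRange c_act4_274) (range_glue (range_of_allRange c_act4_275) (range_glue (range_of_allRange c_act4_276) (range_glue (range_of_allRange c_act4_277) (range_glue (range_of_allRange c_act4_278) (range_of_allRange c_act4_279))))))))))))))))))))))))))))))))))))))))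
theorem h_act4_p7 : ∀ i, 1050000 ≤ i → i < 1200000 → Nat.beq (actR4 i) i = true :=
  (range_glue (range_of_allRange c_act4_280) (range_glue (range_of_allRange c_act4_281) (range_glue (range_of_allRange c_act4_282) (range_glue (range_of_allRange c_act4_283) (range_glue (range_of_allRange c_act4_284) (range_glue (range_of_allRange c_act4_285) (range_glue (range_of_allRange c_act4_286) (range_glue (range_of_allRange c_act4_287) (range_glue (range_of_allRange c_act4_288) (range_glue (range_of_allRange c_act4_289) (range_glue (range_of_allRange c_act4_290) (range_glue (range_of_allRange c_act4_291) (range_glue (range_of_allRange c_act4_292) (range_glue (range_of_allRange c_act4_293) (range_glue (range_of_allRange c_act4_294) (range_glue (range_of_allRange c_act4_295) (range_glue (range_of_allRange c_act4_296) (range_glue (range_of_allRange c_act4_297) (range_glue (range_of_allRange c_act4_298) (range_glue (range_of_allRange c_act4_299) (range_glue (range_of_allRange c_act4_300) (range_glue (range_of_allRange c_act4_301) (range_glue (range_of_allRange c_act4_302) (range_glue (range_of_allRange c_act4_303) (range_glue (range_of_allRange c_act4_304) (range_glue (range_of_allRange c_act4_305) (range_glue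 (range_of_allRange c_act4_306) (range_glue (range_of_allRange c_act4_307) (range_glue (range_of_allRange c_act4_308) (range_glue (range_of_allRange c_act4_309) (range_glue (range_of_allRange c_act4_310) (range_glue (range_of_allRange c_act4_311) (range_glue (range_of_allRange c_act4_312) (range_glue (range_of_allRange c_act4_313) (range_glue (range_of_allRange c_act4_314) (range_glue (range_of_allRange c_act4_315) (range_glue (range_of_allRange c_act4_316) (range_glue (range_of_allRange c_act4_317) (range_glue (range_of_allRange c_act4_318) (range_of_allRange c_act4_319))))))))))))))))))))))))))))))))))))))))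
theorem h_act4_p8 : ∀ i, 1200000 ≤ i → i < 1350000 → Nat.beq (actR4 i) i = true :=
  (range_glue (range_of_allRange c_act4_320) (range_glue (range_of_allRange c_act4_321) (range_glue (range_of_allRange c_act4_322) (range_glue (range_of_allRange c_act4_323) (range_glue (range_of_allRange c_act4_324) (range_glue (range_of_allRange c_act4_325) (range_glue (range_of_allRange c_act4_326) (range_glue (range_of_allRange c_act4_327) (range_glue (range_of_allRange c_act4_328) (range_glue (range_of_allRange c_act4_329) (range_glue (range_of_allRange c_act4_330) (range_glue (range_of_allRange c_act4_331) (range_glue (range_of_allRange c_act4_332) (range_glue (range_of_allRange c_act4_333) (range_glue (range_of_allRange c_act4_334) (range_glue (range_of_allRange c_act4_335) (range_glue (range_of_allRange c_act4_336) (range_glue (range_of_allRange c_act4_337) (range_glue (range_of_allRange c_act4_338) (range_glue (range_of_allRange c_act4_339) (range_glue (range_of_allRange c_act4_340) (range_glue (range_of_allRange c_act4_341) (range_glue (range_of_allRange c_act4_342) (range_glue (range_of_allRange c_act4_343) (range_glue (range_of_allRange c_act4_344) (range_glue (range_of_allRange c_act4_345) (range_glue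 (range_of_allRange c_act4_346) (range_glue (range_of_allRange c_act4_347) (range_glue (range_of_allRange c_act4_348) (range_glue (range_of_allRange c_act4_349) (range_glue (range_of_allRange c_act4_350) (range_glue (range_of_allRange c_act4_351) (range_glue (range_of_allRange c_act4_352) (range_glue (range_of_allRange c_act4_353) (range_glue (range_of_allRange c_act4_354) (range_glue (range_of_allRange c_act4_355) (range_glue (range_of_allRange c_act4_356) (range_glue (range_of_allRange c_act4_357) (range_glue (range_of_allRange c_act4_358) (range_of_allRange c_act4_359))))))))))))))))))))))))))))))))))))))))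
theorem h_act4_p9 : ∀ i, 1350000 ≤ i → i < 1500000 → Nat.beq (actR4 i) i = true :=
  (range_glue (range_of_allRange c_act4_360) (range_glue (range_of_allRange c_act4_361) (range_glue (range_of_allRange c_act4_362) (range_glue (range_of_allRange c_act4_363) (range_glue (range_of_allRange c_act4_364) (range_glue (range_of_allRange c_act4_365) (range_glue (range_of_allRange c_act4_366) (range_glue (range_of_allRange c_act4_367) (range_glue (range_of_allRange c_act4_368) (range_glue (range_of_allRange c_act4_369) (range_glue (range_of_allRange c_act4_370) (range_glue (range_of_allRange c_act4_371) (range_glue (range_of_allRange c_act4_372) (range_glue (range_of_allRange c_act4_373) (range_glue (range_of_allRange c_act4_374) (range_glue (range_of_allRange c_act4_375) (range_glue (range_of_allRange c_act4_376) (range_glue (range_of_allRange c_act4_377) (range_glue (range_of_allRange c_act4_378) (range_glue (range_of_allRange c_act4_379) (range_glue (range_of_allRange c_act4_380) (range_glue (range_of_allRange c_act4_381) (range_glue (range_of_allRange c_act4_382) (range_glue (range_of_allRange c_act4_383) (range_glue (range_of_allRange c_act4_384) (range_glue (range_of_allRange c_act4_385) (range_glue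 (range_of_allRange c_act4_386) (range_glue (range_of_allRange c_act4_387) (range_glue (range_of_allRange c_act4_388) (range_glue (range_of_allRange c_act4_389) (range_glue (range_of_allRange c_act4_390) (range_glue (range_of_allRange c_act4_391) (range_glue (range_of_allRange c_act4_392) (range_glue (range_of_allRange c_act4_393) (range_glue (range_of_allRange c_act4_394) (range_glue (range_of_allRange c_act4_395) (range_glue (range_of_allRange c_act4_396) (range_glue (range_of_allRange c_act4_397) (range_glue (range_of_allRange c_act4_398) (range_of_allRange c_act4_399))))))))))))))))))))))))))))))))))))))))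
theorem h_act4_p10 : ∀ i, 1500000 ≤ i → i < 1539000 → Nat.beq (actR4 i) i = true :=
  (range_glue (range_of_allRange c_act4_400) (range_glue (range_of_allRange c_act4_401) (range_glue (range_of_allRange c_act4_402) (range_glue (range_of_allRange c_act4_403) (range_glue (range_of_allRange c_act4_404) (range_glue (range_of_allRange c_act4_405) (range_glue (range_of_allRange c_act4_406) (range_glue (range_of_allRange c_act4_407) (range_glue (range_of_allRange c_act4_408) (range_glue (range_of_allRange c_act4_409) (range_of_allRange c_act4_410)))))))))))
theorem h_act4 : ∀ i, 0 ≤ i → i < 1539000 → Nat.beq (actR4 i) i = true :=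
  (range_glue h_act4_p0 (range_glue h_act4_p1 (range_glue h_act4_p2 (range_glue h_act4_p3 (range_glue h_act4_p4 (range_glue h_act4_p5 (range_glue h_act4_p6 (range_glue h_act4_p7 (range_glue h_act4_p8 (range_glue h_act4_p9 h_act4_p10))))))))))
theorem h_act5_p0 : ∀ i, 0 ≤ i → i < 100000 → Nat.beq (actR5 i) i = true :=
  (range_glue (range_of_allRange c_act5_0) (range_glue (range_of_allRange c_act5_1) (range_glue (range_of_allRange c_act5_2) (range_glue (range_of_allRange c_act5_3) (range_glue (range_of_allRange c_act5_4) (range_glue (range_of_allRange c_act5_5) (range_glue (range_of_allRange c_act5_6) (range_glue (range_of_allRange c_act5_7) (range_glue (range_of_allRange c_act5_8) (range_glue (range_of_allRange c_act5_9) (range_glue (range_of_allRange c_act5_10) (range_glue (range_of_allRange c_act5_11) (range_glue (range_of_allRange c_act5_12) (range_glue (range_of_allRange c_act5_13) (range_glue (range_of_allRange c_act5_14) (range_glue (range_of_allRange c_act5_15) (range_glue (range_of_allRange c_act5_16) (range_glue (range_of_allRange c_act5_17) (range_glue (range_of_allRange c_act5_18) (range_glue (range_of_allRange c_act5_19) (range_glue (range_of_allRange c_act5_20) (range_glue (range_of_allRange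 c_act5_21) (range_glue (range_of_allRange c_act5_22) (range_glue (range_of_allRange c_act5_23) (range_glue (range_of_allRange c_act5_24) (range_glue (range_of_allRange c_act5_25) (range_glue (range_of_allRange c_act5_26) (range_glue (range_of_allRange c_act5_27) (range_glue (range_of_allRange c_act5_28) (range_glue (range_of_allRange c_act5_29) (range_glue (range_of_allRange c_act5_30) (range_glue (range_of_allRange c_act5_31) (range_glue (range_of_allRange c_act5_32) (range_glue (range_of_allRange c_act5_33) (range_glue (range_of_allRange c_act5_34) (range_glue (range_of_allRange c_act5_35) (range_glue (range_of_allRange c_act5_36) (range_glue (range_of_allRange c_act5_37) (range_glue (range_of_allRange c_act5_38) (range_of_allRange c_act5_39))))))))))))))))))))))))))))))))))))))))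
theorem h_act5_p1 : ∀ i, 100000 ≤ i → i < 200000 → Nat.beq (actR5 i) i = true :=
  (range_glue (range_of_allRange c_act5_40) (range_glue (range_of_allRange c_act5_41) (range_glue (range_of_allRange c_act5_42) (range_glue (range_of_allRange c_act5_43) (range_glue (range_of_allRange c_act5_44) (range_glue (range_of_allRange c_act5_45) (range_glue (range_of_allRange c_act5_46) (range_glue (range_of_allRange c_act5_47) (range_glue (range_of_allRange c_act5_48) (range_glue (range_of_allRange c_act5_49) (range_glue (range_of_allRange c_act5_50) (range_glue (range_of_allRange c_act5_51) (range_glue (range_of_allRange c_act5_52) (range_glue (range_of_allRange c_act5_53) (range_glue (range_of_allRange c_act5_54) (range_glue (range_of_allRange c_act5_55) (range_glue (range_of_allRange c_act5_56) (range_glue (range_of_allRange c_act5_57) (range_glue (range_of_allRange c_act5_58) (range_glue (range_of_allRange c_act5_59) (range_glue (range_of_allRange c_act5_60) (range_glue (range_of_allRange c_act5_61) (range_glue (range_of_allRange c_act5_62) (range_glue (range_of_allRange c_act5_63) (range_glue (range_of_allRange c_act5_64) (range_glue (range_of_allRange c_act5_65) (range_glue (range_of_allRange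 c_act5_66) (range_glue (range_of_allRange c_act5_67) (range_glue (range_of_allRange c_act5_68) (range_glue (range_of_allRange c_act5_69) (range_glue (range_of_allRange c_act5_70) (range_glue (range_of_allRange c_act5_71) (range_glue (range_of_allRange c_act5_72) (range_glue (range_of_allRange c_act5_73) (range_glue (range_of_allRange c_act5_74) (range_glue (range_of_allRange c_act5_75) (range_glue (range_of_allRange c_act5_76) (range_glue (range_of_allRange c_act5_77) (range_glue (range_of_allRange c_act5_78) (range_of_allRange c_act5_79))))))))))))))))))))))))))))))))))))))))
theorem h_act5_p2 : ∀ i, 200000 ≤ i → i < 300000 → Nat.beq (actR5 i) i = true :=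
  (range_glue (range_of_allRange c_act5_80) (range_glue (range_of_allRange c_act5_81) (range_glue (range_of_allRange c_act5_82) (range_glue (range_of_allRange c_act5_83) (range_glue (range_of_allRange c_act5_84) (range_glue (range_of_allRange c_act5_85) (range_glue (range_of_allRange c_act5_86) (range_glue (range_of_allRange c_act5_87) (range_glue (range_of_allRange c_act5_88) (range_glue (range_of_allRange c_act5_89) (range_glue (range_of_allRange c_act5_90) (range_glue (range_of_allRange c_act5_91) (range_glue (range_of_allRange c_act5_92) (range_glue (range_of_allRange c_act5_93) (range_glue (range_of_allRange c_act5_94) (range_glue (range_of_allRange c_act5_95) (range_glue (range_of_allRange c_act5_96) (range_glue (range_of_allRange c_act5_97) (range_glue (range_of_allRange c_act5_98) (range_glue (range_of_allRange c_act5_99) (range_glue (range_of_allRange c_act5_100) (range_glue (range_of_allRange c_act5_101) (range_glue (range_of_allRange c_act5_102) (range_glue (range_of_allRange c_act5_103) (range_glue (range_of_allRange c_act5_104) (range_glue (range_of_allRange c_act5_105) (range_glue (range_of_allRange c_act5_106) (range_glue (range_of_allRange c_act5_107) (range_glue (range_of_allRange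 c_act5_108) (range_glue (range_of_allRange c_act5_109) (range_glue (range_of_allRange c_act5_110) (range_glue (range_of_allRange c_act5_111) (range_glue (range_of_allRange c_act5_112) (range_glue (range_of_allRange c_act5_113) (range_glue (range_of_allRange c_act5_114) (range_glue (range_of_allRange c_act5_115) (range_glue (range_of_allRange c_act5_116) (range_glue (range_of_allRange c_act5_117) (range_glue (range_of_allRange c_act5_118) (range_of_allRange c_act5_119))))))))))))))))))))))))))))))))))))))))
theorem h_act5_p3 : ∀ i, 300000 ≤ i → i < 400000 → Nat.beq (actR5 i) i = true :=
  (range_glue (range_of_allRange c_act5_120) (range_glue (range_of_allRange c_act5_121) (range_glue (range_of_allRange c_act5_122) (range_glue (range_of_allRange c_act5_123) (range_glue (range_of_allRange c_act5_124) (range_glue (range_of_allRange c_act5_125) (range_glue (range_of_allRange c_act5_126) (range_glue (range_of_allRange c_act5_127) (range_glue (range_of_allRange c_act5_128) (range_glue (range_of_allRange c_act5_129) (range_glue (range_of_allRange c_act5_130) (range_glue (range_of_allRange c_act5_131) (range_glue (range_of_allRange c_act5_132) (range_glue (range_of_allRange c_act5_133) (range_glue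 (range_of_allRange c_act5_134) (range_glue (range_of_allRange c_act5_135) (range_glue (range_of_allRange c_act5_136) (range_glue (range_of_allRange c_act5_137) (range_glue (range_of_allRange c_act5_138) (range_glue (range_of_allRange c_act5_139) (range_glue (range_of_allRange c_act5_140) (range_glue (range_of_allRange c_act5_141) (range_glue (range_of_allRange c_act5_142) (range_glue (range_of_allRange c_act5_143) (range_glue (range_of_allRange c_act5_144) (range_glue (range_of_allRange c_act5_145) (range_glue (range_of_allRange c_act5_146) (range_glue (range_of_allRange c_act5_147) (range_glue (range_of_allRange c_act5_148) (range_glue (range_of_allRange c_act5_149) (range_glue (range_of_allRange c_act5_150) (range_glue (range_of_allRange c_act5_151) (range_glue (range_of_allRange c_act5_152) (range_glue (range_of_allRange c_act5_153) (range_glue (range_of_allRange c_act5_154) (range_glue (range_of_allRange c_act5_155) (range_glue (range_of_allRange c_act5_156) (range_glue (range_of_allRange c_act5_157) (range_glue (range_of_allRange c_act5_158) (range_of_allRange c_act5_159))))))))))))))))))))))))))))))))))))))))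
theorem h_act5_p4 : ∀ i, 400000 ≤ i → i < 500000 → Nat.beq (actR5 i) i = true :=
  (range_glue (range_of_allRange c_act5_160) (range_glue (range_of_allRange c_act5_161) (range_glue (range_of_allRange c_act5_162) (range_glue (range_of_allRange c_act5_163) (range_glue (range_of_allRange c_act5_164) (range_glue (range_of_allRange c_act5_165) (range_glue (range_of_allRange c_act5_166) (range_glue (range_of_allRange c_act5_167) (range_glue (range_of_allRange c_act5_168) (range_glue (range_of_allRange c_act5_169) (range_glue (range_of_allRange c_act5_170) (range_glue (range_of_allRange c_act5_171) (range_glue (range_of_allRange c_act5_172) (range_glue (range_of_allRange c_act5_173) (range_glue (range_of_allRange c_act5_174) (range_glue (range_of_allRange c_act5_175) (range_glue (range_of_allRange c_act5_176) (range_glue (range_of_allRange c_act5_177) (range_glue (range_of_allRange c_act5_178) (range_glue (range_of_allRange c_act5_179) (range_glue (range_of_allRange c_act5_180) (range_glue (range_of_allRange c_act5_181) (range_glue (range_of_allRange c_act5_182) (range_glue (range_of_allRange c_act5_183) (range_glue (range_of_allRange c_act5_184) (range_glue (range_of_allRange c_act5_185) (range_glue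 (range_of_allRange c_act5_186) (range_glue (range_of_allRange c_act5_187) (range_glue (range_of_allRange c_act5_188) (range_glue (range_of_allRange c_act5_189) (range_glue (range_of_allRange c_act5_190) (range_glue (range_of_allRange c_act5_191) (range_glue (range_of_allRange c_act5_192) (range_glue (range_of_allRange c_act5_193) (range_glue (range_of_allRange c_act5_194) (range_glue (range_of_allRange c_act5_195) (range_glue (range_of_allRange c_act5_196) (range_glue (range_of_allRange c_act5_197) (range_glue (range_of_allRange c_act5_198) (range_of_allRange c_act5_199))))))))))))))))))))))))))))))))))))))))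
theorem h_act5_p5 : ∀ i, 500000 ≤ i → i < 600000 → Nat.beq (actR5 i) i = true :=
  (range_glue (range_of_allRange c_act5_200) (range_glue (range_of_allRange c_act5_201) (range_glue (range_of_allRange c_act5_202) (range_glue (range_of_allRange c_act5_203) (range_glue (range_of_allRange c_act5_204) (range_glue (range_of_allRange c_act5_205) (range_glue (range_of_allRange c_act5_206) (range_glue (range_of_allRange c_act5_207) (range_glue (range_of_allRange c_act5_208) (range_glue (range_of_allRange c_act5_209) (range_glue (range_of_allRange c_act5_210) (range_glue (range_of_allRange c_act5_211) (range_glue (range_of_allRange c_act5_212) (range_glue (range_of_allRange c_act5_213) (range_glue (range_of_allRange c_act5_214) (range_glue (range_of_allRange c_act5_215) (range_glue (range_of_allRange c_act5_216) (range_glue (range_of_allRange c_act5_217) (range_glue (range_of_allRange c_act5_218) (range_glue (range_of_allRange c_act5_219) (range_glue (range_of_allRange c_act5_220) (range_glue (range_of_allRange c_act5_221) (range_glue (range_of_allRange c_act5_222) (range_glue (range_of_allRange c_act5_223) (range_glue (range_of_allRange c_act5_224) (range_glue (range_of_allRange c_act5_225) (range_glue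 (range_of_allRange c_act5_226) (range_glue (range_of_allRange c_act5_227) (range_glue (range_of_allRange c_act5_228) (range_glue (range_of_allRange c_act5_229) (range_glue (range_of_allRange c_act5_230) (range_glue (range_of_allRange c_act5_231) (range_glue (range_of_allRange c_act5_232) (range_glue (range_of_allRange c_act5_233) (range_glue (range_of_allRange c_act5_234) (range_glue (range_of_allRange c_act5_235) (range_glue (range_of_allRange c_act5_236) (range_glue (range_of_allRange c_act5_237) (range_glue (range_of_allRange c_act5_238) (range_of_allRange c_act5_239))))))))))))))))))))))))))))))))))))))))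
theorem h_act5_p6 : ∀ i, 600000 ≤ i → i < 700000 → Nat.beq (actR5 i) i = true :=
  (range_glue (range_of_allRange c_act5_240) (range_glue (range_of_allRange c_act5_241) (range_glue (range_of_allRange c_act5_242) (range_glue (range_of_allRange c_act5_243) (range_glue (range_of_allRange c_act5_244) (range_glue (range_of_allRange c_act5_245) (range_glue (range_of_allRange c_act5_246) (range_glue (range_of_allRange c_act5_247) (range_glue (range_of_allRange c_act5_248) (range_glue (range_of_allRange c_act5_249) (range_glue (range_of_allRange c_act5_250) (range_glue (range_of_allRange c_act5_251) (range_glue (range_of_allRange c_act5_252) (range_glue (range_of_allRange c_act5_253) (range_glue (range_of_allRange c_act5_254) (range_glue (range_of_allRange c_act5_255) (range_glue (range_of_allRange c_act5_256) (range_glue (range_of_allRange c_act5_257) (range_glue (range_of_allRange c_act5_258) (range_glue (range_of_allRange c_act5_259) (range_glue (range_of_allRange c_act5_260) (range_glue (range_of_allRange c_act5_261) (range_glue (range_of_allRange c_act5_262) (range_glue (range_of_allRange c_act5_263) (range_glue (range_of_allRange c_act5_264) (range_glue (range_of_allRange c_act5_265) (range_glue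 (range_of_allRange c_act5_266) (range_glue (range_of_allRange c_act5_267) (range_glue (range_of_allRange c_act5_268) (range_glue (range_of_allRange c_act5_269) (range_glue (range_of_allRange c_act5_270) (range_glue (range_of_allRange c_act5_271) (range_glue (range_of_allRange c_act5_272) (range_glue (range_of_allRange c_act5_273) (range_glue (range_of_allRange c_act5_274) (range_glue (range_of_allRange c_act5_275) (range_glue (range_of_allRange c_act5_276) (range_glue (range_of_allRange c_act5_277) (range_glue (range_of_allRange c_act5_278) (range_of_allRange c_act5_279))))))))))))))))))))))))))))))))))))))))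
theorem h_act5_p7 : ∀ i, 700000 ≤ i → i < 800000 → Nat.beq (actR5 i) i = true :=
  (range_glue (range_of_allRange c_act5_280) (range_glue (range_of_allRange c_act5_281) (range_glue (range_of_allRange c_act5_282) (range_glue (range_of_allRange c_act5_283) (range_glue (range_of_allRange c_act5_284) (range_glue (range_of_allRange c_act5_285) (range_glue (range_of_allRange c_act5_286) (range_glue (range_of_allRange c_act5_287) (range_glue (range_of_allRange c_act5_288) (range_glue (range_of_allRange c_act5_289) (range_glue (range_of_allRange c_act5_290) (range_glue (range_of_allRange c_act5_291) (range_glue (range_of_allRange c_act5_292) (range_glue (range_of_allRange c_act5_293) (range_glue (range_of_allRange c_act5_294) (range_glue (range_of_allRange c_act5_295) (range_glue (range_of_allRange c_act5_296) (range_glue (range_of_allRange c_act5_297) (range_glue (range_of_allRange c_act5_298) (range_glue (range_of_allRange c_act5_299) (range_glue (range_of_allRange c_act5_300) (range_glue (range_of_allRange c_act5_301) (range_glue (range_of_allRange c_act5_302) (range_glue (range_of_allRange c_act5_303) (range_glue (range_of_allRange c_act5_304) (range_glue (range_of_allRange c_act5_305) (range_glue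 (range_of_allRange c_act5_306) (range_glue (range_of_allRange c_act5_307) (range_glue (range_of_allRange c_act5_308) (range_glue (range_of_allRange c_act5_309) (range_glue (range_of_allRange c_act5_310) (range_glue (range_of_allRange c_act5_311) (range_glue (range_of_allRange c_act5_312) (range_glue (range_of_allRange c_act5_313) (range_glue (range_of_allRange c_act5_314) (range_glue (range_of_allRange c_act5_315) (range_glue (range_of_allRange c_act5_316) (range_glue (range_of_allRange c_act5_317) (range_glue (range_of_allRange c_act5_318) (range_of_allRange c_act5_319))))))))))))))))))))))))))))))))))))))))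
theorem h_act5_p8 : ∀ i, 800000 ≤ i → i < 900000 → Nat.beq (actR5 i) i = true :=
  (range_glue (range_of_allRange c_act5_320) (range_glue (range_of_allRange c_act5_321) (range_glue (range_of_allRange c_act5_322) (range_glue (range_of_allRange c_act5_323) (range_glue (range_of_allRange c_act5_324) (range_glue (range_of_allRange c_act5_325) (range_glue (range_of_allRange c_act5_326) (range_glue (range_of_allRange c_act5_327) (range_glue (range_of_allRange c_act5_328) (range_glue (range_of_allRange c_act5_329) (range_glue (range_of_allRange c_act5_330) (range_glue (range_of_allRange c_act5_331) (range_glue (range_of_allRange c_act5_332) (range_glue (range_of_allRange c_act5_333) (range_glue (range_of_allRange c_act5_334) (range_glue (range_of_allRange c_act5_335) (range_glue (range_of_allRange c_act5_336) (range_glue (range_of_allRange c_act5_337) (range_glue (range_of_allRange c_act5_338) (range_glue (range_of_allRange c_act5_339) (range_glue (range_of_allRange c_act5_340) (range_glue (range_of_allRange c_act5_341) (range_glue (range_of_allRange c_act5_342) (range_glue (range_of_allRange c_act5_343) (range_glue (range_of_allRange c_act5_344) (range_glue (range_of_allRange c_act5_345) (range_glue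 (range_of_allRange c_act5_346) (range_glue (range_of_allRange c_act5_347) (range_glue (range_of_allRange c_act5_348) (range_glue (range_of_allRange c_act5_349) (range_glue (range_of_allRange c_act5_350) (range_glue (range_of_allRange c_act5_351) (range_glue (range_of_allRange c_act5_352) (range_glue (range_of_allRange c_act5_353) (range_glue (range_of_allRange c_act5_354) (range_glue (range_of_allRange c_act5_355) (range_glue (range_of_allRange c_act5_356) (range_glue (range_of_allRange c_act5_357) (range_glue (range_of_allRange c_act5_358) (range_of_allRange c_act5_359))))))))))))))))))))))))))))))))))))))))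
theorem h_act5_p9 : ∀ i, 900000 ≤ i → i < 1000000 → Nat.beq (actR5 i) i = true :=
  (range_glue (range_of_allRange c_act5_360) (range_glue (range_of_allRange c_act5_361) (range_glue (range_of_allRange c_act5_362) (range_glue (range_of_allRange c_act5_363) (range_glue (range_of_allRange c_act5_364) (range_glue (range_of_allRange c_act5_365) (range_glue (range_of_allRange c_act5_366) (range_glue (range_of_allRange c_act5_367) (range_glue (range_of_allRange c_act5_368) (range_glue (range_of_allRange c_act5_369) (range_glue (range_of_allRange c_act5_370) (range_glue (range_of_allRange c_act5_371) (range_glue (range_of_allRange c_act5_372) (range_glue (range_of_allRange c_act5_373) (range_glue (range_of_allRange c_act5_374) (range_glue (range_of_allRange c_act5_375) (range_glue (range_of_allRange c_act5_376) (range_glue (range_of_allRange c_act5_377) (range_glue (range_of_allRange c_act5_378) (range_glue (range_of_allRange c_act5_379) (range_glue (range_of_allRange c_act5_380) (range_glue (range_of_allRange c_act5_381) (range_glue (range_of_allRange c_act5_382) (range_glue (range_of_allRange c_act5_383) (range_glue (range_of_allRange c_act5_384) (range_glue (range_of_allRange c_act5_385) (range_glue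 (range_of_allRange c_act5_386) (range_glue (range_of_allRange c_act5_387) (range_glue (range_of_allRange c_act5_388) (range_glue (range_of_allRange c_act5_389) (range_glue (range_of_allRange c_act5_390) (range_glue (range_of_allRange c_act5_391) (range_glue (range_of_allRange c_act5_392) (range_glue (range_of_allRange c_act5_393) (range_glue (range_of_allRange c_act5_394) (range_glue (range_of_allRange c_act5_395) (range_glue (range_of_allRange c_act5_396) (range_glue (range_of_allRange c_act5_397) (range_glue (range_of_allRange c_act5_398) (range_of_allRange c_act5_399))))))))))))))))))))))))))))))))))))))))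
theorem h_act5_p10 : ∀ i, 1000000 ≤ i → i < 1100000 → Nat.beq (actR5 i) i = true :=
  (range_glue (range_of_allRange c_act5_400) (range_glue (range_of_allRange c_act5_401) (range_glue (range_of_allRange c_act5_402) (range_glue (range_of_allRange c_act5_403) (range_glue (range_of_allRange c_act5_404) (range_glue (range_of_allRange c_act5_405) (range_glue (range_of_allRange c_act5_406) (range_glue (range_of_allRange c_act5_407) (range_glue (range_of_allRange c_act5_408) (range_glue (range_of_allRange c_act5_409) (range_glue (range_of_allRange c_act5_410) (range_glue (range_of_allRange c_act5_411) (range_glue (range_of_allRange c_act5_412) (range_glue (range_of_allRange c_act5_413) (range_glue (range_of_allRange c_act5_414) (range_glue (range_of_allRange c_act5_415) (range_glue (range_of_allRange c_act5_416) (range_glue (range_of_allRange c_act5_417) (range_glue (range_of_allRange c_act5_418) (range_glue (range_of_allRange c_act5_419) (range_glue (range_of_allRange c_act5_420) (range_glue (range_of_allRange c_act5_421) (range_glue (range_of_allRange c_act5_422) (range_glue (range_of_allRange c_act5_423) (range_glue (range_of_allRange c_act5_424) (range_glue (range_of_allRange c_act5_425) (range_glue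 (range_of_allRange c_act5_426) (range_glue (range_of_allRange c_act5_427) (range_glue (range_of_allRange c_act5_428) (range_glue (range_of_allRange c_act5_429) (range_glue (range_of_allRange c_act5_430) (range_glue (range_of_allRange c_act5_431) (range_glue (range_of_allRange c_act5_432) (range_glue (range_of_allRange c_act5_433) (range_glue (range_of_allRange c_act5_434) (range_glue (range_of_allRange c_act5_435) (range_glue (range_of_allRange c_act5_436) (range_glue (range_of_allRange c_act5_437) (range_glue (range_of_allRange c_act5_438) (range_of_allRange c_act5_439))))))))))))))))))))))))))))))))))))))))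
theorem h_act5_p11 : ∀ i, 1100000 ≤ i → i < 1200000 → Nat.beq (actR5 i) i = true :=
  (range_glue (range_of_allRange c_act5_440) (range_glue (range_of_allRange c_act5_441) (range_glue (range_of_allRange c_act5_442) (range_glue (range_of_allRange c_act5_443) (range_glue (range_of_allRange c_act5_444) (range_glue (range_of_allRange c_act5_445) (range_glue (range_of_allRange c_act5_446) (range_glue (range_of_allRange c_act5_447) (range_glue (range_of_allRange c_act5_448) (range_glue (range_of_allRange c_act5_449) (range_glue (range_of_allRange c_act5_450) (range_glue (range_of_allRange c_act5_451) (range_glue (range_of_allRange c_act5_452) (range_glue (range_of_allRange c_act5_453) (range_glue (range_of_allRange c_act5_454) (range_glue (range_of_allRange c_act5_455) (range_glue (range_of_allRange c_act5_456) (range_glue (range_of_allRange c_act5_457) (range_glue (range_of_allRange c_act5_458) (range_glue (range_of_allRange c_act5_459) (range_glue (range_of_allRange c_act5_460) (range_glue (range_of_allRange c_act5_461) (range_glue (range_of_allRange c_act5_462) (range_glue (range_of_allRange c_act5_463) (range_glue (range_of_allRange c_act5_464) (range_glue (range_of_allRange c_act5_465) (range_glue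 (range_of_allRange c_act5_466) (range_glue (range_of_allRange c_act5_467) (range_glue (range_of_allRange c_act5_468) (range_glue (range_of_allRange c_act5_469) (range_glue (range_of_allRange c_act5_470) (range_glue (range_of_allRange c_act5_471) (range_glue (range_of_allRange c_act5_472) (range_glue (range_of_allRange c_act5_473) (range_glue (range_of_allRange c_act5_474) (range_glue (range_of_allRange c_act5_475) (range_glue (range_of_allRange c_act5_476) (range_glue (range_of_allRange c_act5_477) (range_glue (range_of_allRange c_act5_478) (range_of_allRange c_act5_479))))))))))))))))))))))))))))))))))))))))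
theorem h_act5_p12 : ∀ i, 1200000 ≤ i → i < 1300000 → Nat.beq (actR5 i) i = true :=
  (range_glue (range_of_allRange c_act5_480) (range_glue (range_of_allRange c_act5_481) (range_glue (range_of_allRange c_act5_482) (range_glue (range_of_allRange c_act5_483) (range_glue (range_of_allRange c_act5_484) (range_glue (range_of_allRange c_act5_485) (range_glue (range_of_allRange c_act5_486) (range_glue (range_of_allRange c_act5_487) (range_glue (range_of_allRange c_act5_488) (range_glue (range_of_allRange c_act5_489) (range_glue (range_of_allRange c_act5_490) (range_glue (range_of_allRange c_act5_491) (range_glue (range_of_allRange c_act5_492) (range_glue (range_of_allRange c_act5_493) (range_glue (range_of_allRange c_act5_494) (range_glue (range_of_allRange c_act5_495) (range_glue (range_of_allRange c_act5_496) (range_glue (range_of_allRange c_act5_497) (range_glue (range_of_allRange c_act5_498) (range_glue (range_of_allRange c_act5_499) (range_glue (range_of_allRange c_act5_500) (range_glue (range_of_allRange c_act5_501) (range_glue (range_of_allRange c_act5_502) (range_glue (range_of_allRange c_act5_503) (range_glue (range_of_allRange c_act5_504) (range_glue (range_of_allRange c_act5_505) (range_glue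 (range_of_allRange c_act5_506) (range_glue (range_of_allRange c_act5_507) (range_glue (range_of_allRange c_act5_508) (range_glue (range_of_allRange c_act5_509) (range_glue (range_of_allRange c_act5_510) (range_glue (range_of_allRange c_act5_511) (range_glue (range_of_allRange c_act5_512) (range_glue (range_of_allRange c_act5_513) (range_glue (range_of_allRange c_act5_514) (range_glue (range_of_allRange c_act5_515) (range_glue (range_of_allRange c_act5_516) (range_glue (range_of_allRange c_act5_517) (range_glue (range_of_allRange c_act5_518) (range_of_allRange c_act5_519))))))))))))))))))))))))))))))))))))))))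
theorem h_act5_p13 : ∀ i, 1300000 ≤ i → i < 1400000 → Nat.beq (actR5 i) i = true :=
  (range_glue (range_of_allRange c_act5_520) (range_glue (range_of_allRange c_act5_521) (range_glue (range_of_allRange c_act5_522) (range_glue (range_of_allRange c_act5_523) (range_glue (range_of_allRange c_act5_524) (range_glue (range_of_allRange c_act5_525) (range_glue (range_of_allRange c_act5_526) (range_glue (range_of_allRange c_act5_527) (range_glue (range_of_allRange c_act5_528) (range_glue (range_of_allRange c_act5_529) (range_glue (range_of_allRange c_act5_530) (range_glue (range_of_allRange c_act5_531) (range_glue (range_of_allRange c_act5_532) (range_glue (range_of_allRange c_act5_533) (range_glue (range_of_allRange c_act5_534) (range_glue (range_of_allRange c_act5_535) (range_glue (range_of_allRange c_act5_536) (range_glue (range_of_allRange c_act5_537) (range_glue (range_of_allRange c_act5_538) (range_glue (range_of_allRange c_act5_539) (range_glue (range_of_allRange c_act5_540) (range_glue (range_of_allRange c_act5_541) (range_glue (range_of_allRange c_act5_542) (range_glue (range_of_allRange c_act5_543) (range_glue (range_of_allRange c_act5_544) (range_glue (range_of_allRange c_act5_545) (range_glue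 (range_of_allRange c_act5_546) (range_glue (range_of_allRange c_act5_547) (range_glue (range_of_allRange c_act5_548) (range_glue (range_of_allRange c_act5_549) (range_glue (range_of_allRange c_act5_550) (range_glue (range_of_allRange c_act5_551) (range_glue (range_of_allRange c_act5_552) (range_glue (range_of_allRange c_act5_553) (range_glue (range_of_allRange c_act5_554) (range_glue (range_of_allRange c_act5_555) (range_glue (range_of_allRange c_act5_556) (range_glue (range_of_allRange c_act5_557) (range_glue (range_of_allRange c_act5_558) (range_of_allRange c_act5_559))))))))))))))))))))))))))))))))))))))))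
theorem h_act5_p14 : ∀ i, 1400000 ≤ i → i < 1500000 → Nat.beq (actR5 i) i = true :=
  (range_glue (range_of_allRange c_act5_560) (range_glue (range_of_allRange c_act5_561) (range_glue (range_of_allRange c_act5_562) (range_glue (range_of_allRange c_act5_563) (range_glue (range_of_allRange c_act5_564) (range_glue (range_of_allRange c_act5_565) (range_glue (range_of_allRange c_act5_566) (range_glue (range_of_allRange c_act5_567) (range_glue (range_of_allRange c_act5_568) (range_glue (range_of_allRange c_act5_569) (range_glue (range_of_allRange c_act5_570) (range_glue (range_of_allRange c_act5_571) (range_glue (range_of_allRange c_act5_572) (range_glue (range_of_allRange c_act5_573) (range_glue (range_of_allRange c_act5_574) (range_glue (range_of_allRange c_act5_575) (range_glue (range_of_allRange c_act5_576) (range_glue (range_of_allRange c_act5_577) (range_glue (range_of_allRange c_act5_578) (range_glue (range_of_allRange c_act5_579) (range_glue (range_of_allRange c_act5_580) (range_glue (range_of_allRange c_act5_581) (range_glue (range_of_allRange c_act5_582) (range_glue (range_of_allRange c_act5_583) (range_glue (range_of_allRange c_act5_584) (range_glue (range_of_allRange c_act5_585) (range_glue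 (range_of_allRange c_act5_586) (range_glue (range_of_allRange c_act5_587) (range_glue (range_of_allRange c_act5_588) (range_glue (range_of_allRange c_act5_589) (range_glue (range_of_allRange c_act5_590) (range_glue (range_of_allRange c_act5_591) (range_glue (range_of_allRange c_act5_592) (range_glue (range_of_allRange c_act5_593) (range_glue (range_of_allRange c_act5_594) (range_glue (range_of_allRange c_act5_595) (range_glue (range_of_allRange c_act5_596) (range_glue (range_of_allRange c_act5_597) (range_glue (range_of_allRange c_act5_598) (range_of_allRange c_act5_599))))))))))))))))))))))))))))))))))))))))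
theorem h_act5_p15 : ∀ i, 1500000 ≤ i → i < 1539000 → Nat.beq (actR5 i) i = true :=
  (range_glue (range_of_allRange c_act5_600) (range_glue (range_of_allRange c_act5_601) (range_glue (range_of_allRange c_act5_602) (range_glue (range_of_allRange c_act5_603) (range_glue (range_of_allRange c_act5_604) (range_glue (range_of_allRange c_act5_605) (range_glue (range_of_allRange c_act5_606) (range_glue (range_of_allRange c_act5_607) (range_glue (range_of_allRange c_act5_608) (range_glue (range_of_allRange c_act5_609) (range_glue (range_of_allRange c_act5_610) (range_glue (range_of_allRange c_act5_611) (range_glue (range_of_allRange c_act5_612) (range_glue (range_of_allRange c_act5_613) (range_glue (range_of_allRange c_act5_614) (range_of_allRange c_act5_615))))))))))))))))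
theorem h_act5 : ∀ i, 0 ≤ i → i < 1539000 → Nat.beq (actR5 i) i = true :=
  (range_glue h_act5_p0 (range_glue h_act5_p1 (range_glue h_act5_p2 (range_glue h_act5_p3 (range_glue h_act5_p4 (range_glue h_act5_p5 (range_glue h_act5_p6 (range_glue h_act5_p7 (range_glue h_act5_p8 (range_glue h_act5_p9 (range_glue h_act5_p10 (range_glue h_act5_p11 (range_glue h_act5_p12 (range_glue h_act5_p13 (range_glue h_act5_p14 h_act5_p15)))))))))))))))
theorem h_act6_p0 : ∀ i, 0 ≤ i → i < 1200000 → Nat.beq (actR6 i) i = true :=
  (range_glue (range_of_allRange c_act6_0) (range_glue (range_of_allRange c_act6_1) (range_glue (range_of_allRange c_act6_2) (range_glue (range_of_allRange c_act6_3) (range_glue (range_of_allRange c_act6_4) (range_glue (range_of_allRange c_act6_5) (range_glue (range_of_allRange c_act6_6) (range_glue (range_of_allRange c_act6_7) (range_glue (range_of_allRange c_act6_8) (range_glue (range_of_allRange c_act6_9) (range_glue (range_of_allRange c_act6_10) (range_glue (range_of_allRange c_act6_11) (range_glue (range_of_allRange c_act6_12) (range_glue (range_of_allRange c_act6_13) (range_glue (range_of_allRange c_act6_14) (range_glue (range_of_allRange c_act6_15) (range_glue (range_of_allRange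 c_act6_16) (range_glue (range_of_allRange c_act6_17) (range_glue (range_of_allRange c_act6_18) (range_glue (range_of_allRange c_act6_19) (range_glue (range_of_allRange c_act6_20) (range_glue (range_of_allRange c_act6_21) (range_glue (range_of_allRange c_act6_22) (range_glue (range_of_allRange c_act6_23) (range_glue (range_of_allRange c_act6_24) (range_glue (range_of_allRange c_act6_25) (range_glue (range_of_allRange c_act6_26) (range_glue (range_of_allRange c_act6_27) (range_glue (range_of_allRange c_act6_28) (range_glue (range_of_allRange c_act6_29) (range_glue (range_of_allRange c_act6_30) (range_glue (range_of_allRange c_act6_31) (range_glue (range_of_allRange c_act6_32) (range_glue (range_of_allRange c_act6_33) (range_glue (range_of_allRange c_act6_34) (range_glue (range_of_allRange c_act6_35) (range_glue (range_of_allRange c_act6_36) (range_glue (range_of_allRange c_act6_37) (range_glue (range_of_allRange c_act6_38) (range_of_allRange c_act6_39))))))))))))))))))))))))))))))))))))))))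
theorem h_act6_p1 : ∀ i, 1200000 ≤ i → i < 1539000 → Nat.beq (actR6 i) i = true :=
  (range_glue (range_of_allRange c_act6_40) (range_glue (range_of_allRange c_act6_41) (range_glue (range_of_allRange c_act6_42) (range_glue (range_of_allRange c_act6_43) (range_glue (range_of_allRange c_act6_44) (range_glue (range_of_allRange c_act6_45) (range_glue (range_of_allRange c_act6_46) (range_glue (range_of_allRange c_act6_47) (range_glue (range_of_allRange c_act6_48) (range_glue (range_of_allRange c_act6_49) (range_glue (range_of_allRange c_act6_50) (range_of_allRange c_act6_51))))))))))))
theorem h_act6 : ∀ i, 0 ≤ i → i < 1539000 → Nat.beq (actR6 i) i = true :=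
  (range_glue h_act6_p0 h_act6_p1)
theorem h_act7_p0 : ∀ i, 0 ≤ i → i < 600000 → Nat.beq (actR7 i) i = true :=
  (range_glue (range_of_allRange c_act7_0) (range_glue (range_of_allRange c_act7_1) (range_glue (range_of_allRange c_act7_2) (range_glue (range_of_allRange c_act7_3) (range_glue (range_of_allRange c_act7_4) (range_glue (range_of_allRange c_act7_5) (range_glue (range_of_allRange c_act7_6) (range_glue (range_of_allRange c_act7_7) (range_glue (range_of_allRange c_act7_8) (range_glue (range_of_allRange c_act7_9) (range_glue (range_of_allRange c_act7_10) (range_glue (range_of_allRange c_act7_11) (range_glue (range_of_allRange c_act7_12) (range_glue (range_of_allRange c_act7_13) (range_glue (range_of_allRange c_act7_14) (range_glue (range_of_allRange c_act7_15) (range_glue (range_of_allRange c_act7_16) (range_glue (range_of_allRange c_act7_17) (range_glue (range_of_allRange c_act7_18) (range_glue (range_of_allRange c_act7_19) (range_glue (range_of_allRange c_act7_20) (range_glue (range_of_allRange c_act7_21) (range_glue (range_of_allRange c_act7_22) (range_glue (range_of_allRange c_act7_23) (range_glue (range_of_allRange c_act7_24) (range_glue (range_of_allRange c_act7_25) (range_glue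 (range_of_allRange c_act7_26) (range_glue (range_of_allRange c_act7_27) (range_glue (range_of_allRange c_act7_28) (range_glue (range_of_allRange c_act7_29) (range_glue (range_of_allRange c_act7_30) (range_glue (range_of_allRange c_act7_31) (range_glue (range_of_allRange c_act7_32) (range_glue (range_of_allRange c_act7_33) (range_glue (range_of_allRange c_act7_34) (range_glue (range_of_allRange c_act7_35) (range_glue (range_of_allRange c_act7_36) (range_glue (range_of_allRange c_act7_37) (range_glue (range_of_allRange c_act7_38) (range_of_allRange c_act7_39))))))))))))))))))))))))))))))))))))))))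
theorem h_act7_p1 : ∀ i, 600000 ≤ i → i < 1200000 → Nat.beq (actR7 i) i = true :=
  (range_glue (range_of_allRange c_act7_40) (range_glue (range_of_allRange c_act7_41) (range_glue (range_of_allRange c_act7_42) (range_glue (range_of_allRange c_act7_43) (range_glue (range_of_allRange c_act7_44) (range_glue (range_of_allRange c_act7_45) (range_glue (range_of_allRange c_act7_46) (range_glue (range_of_allRange c_act7_47) (range_glue (range_of_allRange c_act7_48) (range_glue (range_of_allRange c_act7_49) (range_glue (range_of_allRange c_act7_50) (range_glue (range_of_allRange c_act7_51) (range_glue (range_of_allRange c_act7_52) (range_glue (range_of_allRange c_act7_53) (range_glue (range_of_allRange c_act7_54) (range_glue (range_of_allRange c_act7_55) (range_glue (range_of_allRange c_act7_56) (range_glue (range_of_allRange c_act7_57) (range_glue (range_of_allRange c_act7_58) (range_glue (range_of_allRange c_act7_59) (range_glue (range_of_allRange c_act7_60) (range_glue (range_of_allRange c_act7_61) (range_glue (range_of_allRange c_act7_62) (range_glue (range_of_allRange c_act7_63) (range_glue (range_of_allRange c_act7_64) (range_glue (range_of_allRange c_act7_65) (range_glue (range_of_allRange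 c_act7_66) (range_glue (range_of_allRange c_act7_67) (range_glue (range_of_allRange c_act7_68) (range_glue (range_of_allRange c_act7_69) (range_glue (range_of_allRange c_act7_70) (range_glue (range_of_allRange c_act7_71) (range_glue (range_of_allRange c_act7_72) (range_glue (range_of_allRange c_act7_73) (range_glue (range_of_allRange c_act7_74) (range_glue (range_of_allRange c_act7_75) (range_glue (range_of_allRange c_act7_76) (range_glue (range_of_allRange c_act7_77) (range_glue (range_of_allRange c_act7_78) (range_of_allRange c_act7_79))))))))))))))))))))))))))))))))))))))))
theorem h_act7_p2 : ∀ i, 1200000 ≤ i → i < 1539000 → Nat.beq (actR7 i) i = true :=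
  (range_glue (range_of_allRange c_act7_80) (range_glue (range_of_allRange c_act7_81) (range_glue (range_of_allRange c_act7_82) (range_glue (range_of_allRange c_act7_83) (range_glue (range_of_allRange c_act7_84) (range_glue (range_of_allRange c_act7_85) (range_glue (range_of_allRange c_act7_86) (range_glue (range_of_allRange c_act7_87) (range_glue (range_of_allRange c_act7_88) (range_glue (range_of_allRange c_act7_89) (range_glue (range_of_allRange c_act7_90) (range_glue (range_of_allRange c_act7_91) (range_glue (range_of_allRange c_act7_92) (range_glue (range_of_allRange c_act7_93) (range_glue (range_of_allRange c_act7_94) (range_glue (range_of_allRange c_act7_95) (range_glue (range_of_allRange c_act7_96) (range_glue (range_of_allRange c_act7_97) (range_glue (range_of_allRange c_act7_98) (range_glue (range_of_allRange c_act7_99) (range_glue (range_of_allRange c_act7_100) (range_glue (range_of_allRange c_act7_101) (range_of_allRange c_act7_102)))))))))))))))))))))))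
theorem h_act7 : ∀ i, 0 ≤ i → i < 1539000 → Nat.beq (actR7 i) i = true :=
  (range_glue h_act7_p0 (range_glue h_act7_p1 h_act7_p2))
theorem h_act8_p0 : ∀ i, 0 ≤ i → i < 120000 → Nat.beq (actR8 i) i = true :=
  (range_glue (range_of_allRange c_act8_0) (range_glue (range_of_allRange c_act8_1) (range_glue (range_of_allRange c_act8_2) (range_glue (range_of_allRange c_act8_3) (range_glue (range_of_allRange c_act8_4) (range_glue (range_of_allRange c_act8_5) (range_glue (range_of_allRange c_act8_6) (range_glue (range_of_allRange c_act8_7) (range_glue (range_of_allRange c_act8_8) (range_glue (range_of_allRange c_act8_9) (range_glue (range_of_allRange c_act8_10) (range_glue (range_of_allRange c_act8_11) (range_glue (range_of_allRange c_act8_12) (range_glue (range_of_allRange c_act8_13) (range_glue (range_of_allRange c_act8_14) (range_glue (range_of_allRange c_act8_15) (range_glue (range_of_allRange c_act8_16) (range_glue (range_of_allRange c_act8_17) (range_glue (range_of_allRange c_act8_18) (range_glue (range_of_allRange c_act8_19) (range_glue (range_of_allRange c_act8_20) (range_glue (range_of_allRange c_act8_21) (range_glue (range_of_allRange c_act8_22) (range_glue (range_of_allRange c_act8_23)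 (range_glue (range_of_allRange c_act8_24) (range_glue (range_of_allRange c_act8_25) (range_glue (range_of_allRange c_act8_26) (range_glue (range_of_allRange c_act8_27) (range_glue (range_of_allRange c_act8_28) (range_glue (range_of_allRange c_act8_29) (range_glue (range_of_allRange c_act8_30) (range_glue (range_of_allRange c_act8_31) (range_glue (range_of_allRange c_act8_32) (range_glue (range_of_allRange c_act8_33) (range_glue (range_of_allRange c_act8_34) (range_glue (range_of_allRange c_act8_35) (range_glue (range_of_allRange c_act8_36) (range_glue (range_of_allRange c_act8_37) (range_glue (range_of_allRange c_act8_38) (range_of_allRange c_act8_39))))))))))))))))))))))))))))))))))))))))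
theorem h_act8_p1 : ∀ i, 120000 ≤ i → i < 240000 → Nat.beq (actR8 i) i = true :=
  (range_glue (range_of_allRange c_act8_40) (range_glue (range_of_allRange c_act8_41) (range_glue (range_of_allRange c_act8_42) (range_glue (range_of_allRange c_act8_43) (range_glue (range_of_allRange c_act8_44) (range_glue (range_of_allRange c_act8_45) (range_glue (range_of_allRange c_act8_46) (range_glue (range_of_allRange c_act8_47) (range_glue (range_of_allRange c_act8_48) (range_glue (range_of_allRange c_act8_49) (range_glue (range_of_allRange c_act8_50) (range_glue (range_of_allRange c_act8_51) (range_glue (range_of_allRange c_act8_52) (range_glue (range_of_allRange c_act8_53) (range_glue (range_of_allRange c_act8_54) (range_glue (range_of_allRange c_act8_55) (range_glue (range_of_allRange c_act8_56) (range_glue (range_of_allRange c_act8_57) (range_glue (range_of_allRange c_act8_58) (range_glue (range_of_allRange c_act8_59) (range_glue (range_of_allRange c_act8_60) (range_glue (range_of_allRange c_act8_61) (range_glue (range_of_allRange c_act8_62) (range_glue (range_of_allRange c_act8_63) (range_glue (range_of_allRange c_act8_64) (range_glue (range_of_allRange c_act8_65) (range_glue (range_of_allRange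 c_act8_66) (range_glue (range_of_allRange c_act8_67) (range_glue (range_of_allRange c_act8_68) (range_glue (range_of_allRange c_act8_69) (range_glue (range_of_allRange c_act8_70) (range_glue (range_of_allRange c_act8_71) (range_glue (range_of_allRange c_act8_72) (range_glue (range_of_allRange c_act8_73) (range_glue (range_of_allRange c_act8_74) (range_glue (range_of_allRange c_act8_75) (range_glue (range_of_allRange c_act8_76) (range_glue (range_of_allRange c_act8_77) (range_glue (range_of_allRange c_act8_78) (range_of_allRange c_act8_79))))))))))))))))))))))))))))))))))))))))
theorem h_act8_p2 : ∀ i, 240000 ≤ i → i < 360000 → Nat.beq (actR8 i) i = true :=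
  (range_glue (range_of_allRange c_act8_80) (range_glue (range_of_allRange c_act8_81) (range_glue (range_of_allRange c_act8_82) (range_glue (range_of_allRange c_act8_83) (range_glue (range_of_allRange c_act8_84) (range_glue (range_of_allRange c_act8_85) (range_glue (range_of_allRange c_act8_86) (range_glue (range_of_allRange c_act8_87) (range_glue (range_of_allRange c_act8_88) (range_glue (range_of_allRange c_act8_89) (range_glue (range_of_allRange c_act8_90) (range_glue (range_of_allRange c_act8_91) (range_glue (range_of_allRange c_act8_92) (range_glue (range_of_allRange c_act8_93) (range_glue (range_of_allRange c_act8_94) (range_glue (range_of_allRange c_act8_95) (range_glue (range_of_allRange c_act8_96) (range_glue (range_of_allRange c_act8_97) (range_glue (range_of_allRange c_act8_98) (range_glue (range_of_allRange c_act8_99) (range_glue (range_of_allRange c_act8_100) (range_glue (range_of_allRange c_act8_101) (range_glue (range_of_allRange c_act8_102) (range_glue (range_of_allRange c_act8_103) (range_glue (range_of_allRange c_act8_104) (range_glue (range_of_allRange c_act8_105) (range_glue (range_of_allRange c_act8_106) (range_glue (range_of_allRange c_act8_107) (range_glue (range_of_allRange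 c_act8_108) (range_glue (range_of_allRange c_act8_109) (range_glue (range_of_allRange c_act8_110) (range_glue (range_of_allRange c_act8_111) (range_glue (range_of_allRange c_act8_112) (range_glue (range_of_allRange c_act8_113) (range_glue (range_of_allRange c_act8_114) (range_glue (range_of_allRange c_act8_115) (range_glue (range_of_allRange c_act8_116) (range_glue (range_of_allRange c_act8_117) (range_glue (range_of_allRange c_act8_118) (range_of_allRange c_act8_119))))))))))))))))))))))))))))))))))))))))
theorem h_act8_p3 : ∀ i, 360000 ≤ i → i < 480000 → Nat.beq (actR8 i) i = true :=
  (range_glue (range_of_allRange c_act8_120) (range_glue (range_of_allRange c_act8_121) (range_glue (range_of_allRange c_act8_122) (range_glue (range_of_allRange c_act8_123) (range_glue (range_of_allRange c_act8_124) (range_glue (range_of_allRange c_act8_125) (range_glue (range_of_allRange c_act8_126) (range_glue (range_of_allRange c_act8_127) (range_glue (range_of_allRange c_act8_128) (range_glue (range_of_allRange c_act8_129) (range_glue (range_of_allRange c_act8_130) (range_glue (range_of_allRange c_act8_131) (range_glue (range_of_allRange c_act8_132) (range_glue (range_of_allRange c_act8_133) (range_glue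 (range_of_allRange c_act8_134) (range_glue (range_of_allRange c_act8_135) (range_glue (range_of_allRange c_act8_136) (range_glue (range_of_allRange c_act8_137) (range_glue (range_of_allRange c_act8_138) (range_glue (range_of_allRange c_act8_139) (range_glue (range_of_allRange c_act8_140) (range_glue (range_of_allRange c_act8_141) (range_glue (range_of_allRange c_act8_142) (range_glue (range_of_allRange c_act8_143) (range_glue (range_of_allRange c_act8_144) (range_glue (range_of_allRange c_act8_145) (range_glue (range_of_allRange c_act8_146) (range_glue (range_of_allRange c_act8_147) (range_glue (range_of_allRange c_act8_148) (range_glue (range_of_allRange c_act8_149) (range_glue (range_of_allRange c_act8_150) (range_glue (range_of_allRange c_act8_151) (range_glue (range_of_allRange c_act8_152) (range_glue (range_of_allRange c_act8_153) (range_glue (range_of_allRange c_act8_154) (range_glue (range_of_allRange c_act8_155) (range_glue (range_of_allRange c_act8_156) (range_glue (range_of_allRange c_act8_157) (range_glue (range_of_allRange c_act8_158) (range_of_allRange c_act8_159))))))))))))))))))))))))))))))))))))))))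
theorem h_act8_p4 : ∀ i, 480000 ≤ i → i < 600000 → Nat.beq (actR8 i) i = true :=
  (range_glue (range_of_allRange c_act8_160) (range_glue (range_of_allRange c_act8_161) (range_glue (range_of_allRange c_act8_162) (range_glue (range_of_allRange c_act8_163) (range_glue (range_of_allRange c_act8_164) (range_glue (range_of_allRange c_act8_165) (range_glue (range_of_allRange c_act8_166) (range_glue (range_of_allRange c_act8_167) (range_glue (range_of_allRange c_act8_168) (range_glue (range_of_allRange c_act8_169) (range_glue (range_of_allRange c_act8_170) (range_glue (range_of_allRange c_act8_171) (range_glue (range_of_allRange c_act8_172) (range_glue (range_of_allRange c_act8_173) (range_glue (range_of_allRange c_act8_174) (range_glue (range_of_allRange c_act8_175) (range_glue (range_of_allRange c_act8_176) (range_glue (range_of_allRange c_act8_177) (range_glue (range_of_allRange c_act8_178) (range_glue (range_of_allRange c_act8_179) (range_glue (range_of_allRange c_act8_180) (range_glue (range_of_allRange c_act8_181) (range_glue (range_of_allRange c_act8_182) (range_glue (range_of_allRange c_act8_183) (range_glue (range_of_allRange c_act8_184) (range_glue (range_of_allRange c_act8_185) (range_glue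 (range_of_allRange c_act8_186) (range_glue (range_of_allRange c_act8_187) (range_glue (range_of_allRange c_act8_188) (range_glue (range_of_allRange c_act8_189) (range_glue (range_of_allRange c_act8_190) (range_glue (range_of_allRange c_act8_191) (range_glue (range_of_allRange c_act8_192) (range_glue (range_of_allRange c_act8_193) (range_glue (range_of_allRange c_act8_194) (range_glue (range_of_allRange c_act8_195) (range_glue (range_of_allRange c_act8_196) (range_glue (range_of_allRange c_act8_197) (range_glue (range_of_allRange c_act8_198) (range_of_allRange c_act8_199))))))))))))))))))))))))))))))))))))))))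
theorem h_act8_p5 : ∀ i, 600000 ≤ i → i < 720000 → Nat.beq (actR8 i) i = true :=
  (range_glue (range_of_allRange c_act8_200) (range_glue (range_of_allRange c_act8_201) (range_glue (range_of_allRange c_act8_202) (range_glue (range_of_allRange c_act8_203) (range_glue (range_of_allRange c_act8_204) (range_glue (range_of_allRange c_act8_205) (range_glue (range_of_allRange c_act8_206) (range_glue (range_of_allRange c_act8_207) (range_glue (range_of_allRange c_act8_208) (range_glue (range_of_allRange c_act8_209) (range_glue (range_of_allRange c_act8_210) (range_glue (range_of_allRange c_act8_211) (range_glue (range_of_allRange c_act8_212) (range_glue (range_of_allRange c_act8_213) (range_glue (range_of_allRange c_act8_214) (range_glue (range_of_allRange c_act8_215) (range_glue (range_of_allRange c_act8_216) (range_glue (range_of_allRange c_act8_217) (range_glue (range_of_allRange c_act8_218) (range_glue (range_of_allRange c_act8_219) (range_glue (range_of_allRange c_act8_220) (range_glue (range_of_allRange c_act8_221) (range_glue (range_of_allRange c_act8_222) (range_glue (range_of_allRange c_act8_223) (range_glue (range_of_allRange c_act8_224) (range_glue (range_of_allRange c_act8_225) (range_glue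 (range_of_allRange c_act8_226) (range_glue (range_of_allRange c_act8_227) (range_glue (range_of_allRange c_act8_228) (range_glue (range_of_allRange c_act8_229) (range_glue (range_of_allRange c_act8_230) (range_glue (range_of_allRange c_act8_231) (range_glue (range_of_allRange c_act8_232) (range_glue (range_of_allRange c_act8_233) (range_glue (range_of_allRange c_act8_234) (range_glue (range_of_allRange c_act8_235) (range_glue (range_of_allRange c_act8_236) (range_glue (range_of_allRange c_act8_237) (range_glue (range_of_allRange c_act8_238) (range_of_allRange c_act8_239))))))))))))))))))))))))))))))))))))))))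
theorem h_act8_p6 : ∀ i, 720000 ≤ i → i < 840000 → Nat.beq (actR8 i) i = true :=
  (range_glue (range_of_allRange c_act8_240) (range_glue (range_of_allRange c_act8_241) (range_glue (range_of_allRange c_act8_242) (range_glue (range_of_allRange c_act8_243) (range_glue (range_of_allRange c_act8_244) (range_glue (range_of_allRange c_act8_245) (range_glue (range_of_allRange c_act8_246) (range_glue (range_of_allRange c_act8_247) (range_glue (range_of_allRange c_act8_248) (range_glue (range_of_allRange c_act8_249) (range_glue (range_of_allRange c_act8_250) (range_glue (range_of_allRange c_act8_251) (range_glue (range_of_allRange c_act8_252) (range_glue (range_of_allRange c_act8_253) (range_glue (range_of_allRange c_act8_254) (range_glue (range_of_allRange c_act8_255) (range_glue (range_of_allRange c_act8_256) (range_glue (range_of_allRange c_act8_257) (range_glue (range_of_allRange c_act8_258) (range_glue (range_of_allRange c_act8_259) (range_glue (range_of_allRange c_act8_260) (range_glue (range_of_allRange c_act8_261) (range_glue (range_of_allRange c_act8_262) (range_glue (range_of_allRange c_act8_263) (range_glue (range_of_allRange c_act8_264) (range_glue (range_of_allRange c_act8_265) (range_glue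 (range_of_allRange c_act8_266) (range_glue (range_of_allRange c_act8_267) (range_glue (range_of_allRange c_act8_268) (range_glue (range_of_allRange c_act8_269) (range_glue (range_of_allRange c_act8_270) (range_glue (range_of_allRange c_act8_271) (range_glue (range_of_allRange c_act8_272) (range_glue (range_of_allRange c_act8_273) (range_glue (range_of_allRange c_act8_274) (range_glue (range_of_allRange c_act8_275) (range_glue (range_of_allRange c_act8_276) (range_glue (range_of_allRange c_act8_277) (range_glue (range_of_allRange c_act8_278) (range_of_allRange c_act8_279))))))))))))))))))))))))))))))))))))))))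
theorem h_act8_p7 : ∀ i, 840000 ≤ i → i < 960000 → Nat.beq (actR8 i) i = true :=
  (range_glue (range_of_allRange c_act8_280) (range_glue (range_of_allRange c_act8_281) (range_glue (range_of_allRange c_act8_282) (range_glue (range_of_allRange c_act8_283) (range_glue (range_of_allRange c_act8_284) (range_glue (range_of_allRange c_act8_285) (range_glue (range_of_allRange c_act8_286) (range_glue (range_of_allRange c_act8_287) (range_glue (range_of_allRange c_act8_288) (range_glue (range_of_allRange c_act8_289) (range_glue (range_of_allRange c_act8_290) (range_glue (range_of_allRange c_act8_291) (range_glue (range_of_allRange c_act8_292) (range_glue (range_of_allRange c_act8_293) (range_glue (range_of_allRange c_act8_294) (range_glue (range_of_allRange c_act8_295) (range_glue (range_of_allRange c_act8_296) (range_glue (range_of_allRange c_act8_297) (range_glue (range_of_allRange c_act8_298) (range_glue (range_of_allRange c_act8_299) (range_glue (range_of_allRange c_act8_300) (range_glue (range_of_allRange c_act8_301) (range_glue (range_of_allRange c_act8_302) (range_glue (range_of_allRange c_act8_303) (range_glue (range_of_allRange c_act8_304) (range_glue (range_of_allRange c_act8_305) (range_glue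 (range_of_allRange c_act8_306) (range_glue (range_of_allRange c_act8_307) (range_glue (range_of_allRange c_act8_308) (range_glue (range_of_allRange c_act8_309) (range_glue (range_of_allRange c_act8_310) (range_glue (range_of_allRange c_act8_311) (range_glue (range_of_allRange c_act8_312) (range_glue (range_of_allRange c_act8_313) (range_glue (range_of_allRange c_act8_314) (range_glue (range_of_allRange c_act8_315) (range_glue (range_of_allRange c_act8_316) (range_glue (range_of_allRange c_act8_317) (range_glue (range_of_allRange c_act8_318) (range_of_allRange c_act8_319))))))))))))))))))))))))))))))))))))))))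
theorem h_act8_p8 : ∀ i, 960000 ≤ i → i < 1080000 → Nat.beq (actR8 i) i = true :=
  (range_glue (range_of_allRange c_act8_320) (range_glue (range_of_allRange c_act8_321) (range_glue (range_of_allRange c_act8_322) (range_glue (range_of_allRange c_act8_323) (range_glue (range_of_allRange c_act8_324) (range_glue (range_of_allRange c_act8_325) (range_glue (range_of_allRange c_act8_326) (range_glue (range_of_allRange c_act8_327) (range_glue (range_of_allRange c_act8_328) (range_glue (range_of_allRange c_act8_329) (range_glue (range_of_allRange c_act8_330) (range_glue (range_of_allRange c_act8_331) (range_glue (range_of_allRange c_act8_332) (range_glue (range_of_allRange c_act8_333) (range_glue (range_of_allRange c_act8_334) (range_glue (range_of_allRange c_act8_335) (range_glue (range_of_allRange c_act8_336) (range_glue (range_of_allRange c_act8_337) (range_glue (range_of_allRange c_act8_338) (range_glue (range_of_allRange c_act8_339) (range_glue (range_of_allRange c_act8_340) (range_glue (range_of_allRange c_act8_341) (range_glue (range_of_allRange c_act8_342) (range_glue (range_of_allRange c_act8_343) (range_glue (range_of_allRange c_act8_344) (range_glue (range_of_allRange c_act8_345) (range_glue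 (range_of_allRange c_act8_346) (range_glue (range_of_allRange c_act8_347) (range_glue (range_of_allRange c_act8_348) (range_glue (range_of_allRange c_act8_349) (range_glue (range_of_allRange c_act8_350) (range_glue (range_of_allRange c_act8_351) (range_glue (range_of_allRange c_act8_352) (range_glue (range_of_allRange c_act8_353) (range_glue (range_of_allRange c_act8_354) (range_glue (range_of_allRange c_act8_355) (range_glue (range_of_allRange c_act8_356) (range_glue (range_of_allRange c_act8_357) (range_glue (range_of_allRange c_act8_358) (range_of_allRange c_act8_359))))))))))))))))))))))))))))))))))))))))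
theorem h_act8_p9 : ∀ i, 1080000 ≤ i → i < 1200000 → Nat.beq (actR8 i) i = true :=
  (range_glue (range_of_allRange c_act8_360) (range_glue (range_of_allRange c_act8_361) (range_glue (range_of_allRange c_act8_362) (range_glue (range_of_allRange c_act8_363) (range_glue (range_of_allRange c_act8_364) (range_glue (range_of_allRange c_act8_365) (range_glue (range_of_allRange c_act8_366) (range_glue (range_of_allRange c_act8_367) (range_glue (range_of_allRange c_act8_368) (range_glue (range_of_allRange c_act8_369) (range_glue (range_of_allRange c_act8_370) (range_glue (range_of_allRange c_act8_371) (range_glue (range_of_allRange c_act8_372) (range_glue (range_of_allRange c_act8_373) (range_glue (range_of_allRange c_act8_374) (range_glue (range_of_allRange c_act8_375) (range_glue (range_of_allRange c_act8_376) (range_glue (range_of_allRange c_act8_377) (range_glue (range_of_allRange c_act8_378) (range_glue (range_of_allRange c_act8_379) (range_glue (range_of_allRange c_act8_380) (range_glue (range_of_allRange c_act8_381) (range_glue (range_of_allRange c_act8_382) (range_glue (range_of_allRange c_act8_383) (range_glue (range_of_allRange c_act8_384) (range_glue (range_of_allRange c_act8_385) (range_glue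 (range_of_allRange c_act8_386) (range_glue (range_of_allRange c_act8_387) (range_glue (range_of_allRange c_act8_388) (range_glue (range_of_allRange c_act8_389) (range_glue (range_of_allRange c_act8_390) (range_glue (range_of_allRange c_act8_391) (range_glue (range_of_allRange c_act8_392) (range_glue (range_of_allRange c_act8_393) (range_glue (range_of_allRange c_act8_394) (range_glue (range_of_allRange c_act8_395) (range_glue (range_of_allRange c_act8_396) (range_glue (range_of_allRange c_act8_397) (range_glue (range_of_allRange c_act8_398) (range_of_allRange c_act8_399))))))))))))))))))))))))))))))))))))))))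
theorem h_act8_p10 : ∀ i, 1200000 ≤ i → i < 1320000 → Nat.beq (actR8 i) i = true :=
  (range_glue (range_of_allRange c_act8_400) (range_glue (range_of_allRange c_act8_401) (range_glue (range_of_allRange c_act8_402) (range_glue (range_of_allRange c_act8_403) (range_glue (range_of_allRange c_act8_404) (range_glue (range_of_allRange c_act8_405) (range_glue (range_of_allRange c_act8_406) (range_glue (range_of_allRange c_act8_407) (range_glue (range_of_allRange c_act8_408) (range_glue (range_of_allRange c_act8_409) (range_glue (range_of_allRange c_act8_410) (range_glue (range_of_allRange c_act8_411) (range_glue (range_of_allRange c_act8_412) (range_glue (range_of_allRange c_act8_413) (range_glue (range_of_allRange c_act8_414) (range_glue (range_of_allRange c_act8_415) (range_glue (range_of_allRange c_act8_416) (range_glue (range_of_allRange c_act8_417) (range_glue (range_of_allRange c_act8_418) (range_glue (range_of_allRange c_act8_419) (range_glue (range_of_allRange c_act8_420) (range_glue (range_of_allRange c_act8_421) (range_glue (range_of_allRange c_act8_422) (range_glue (range_of_allRange c_act8_423) (range_glue (range_of_allRange c_act8_424) (range_glue (range_of_allRange c_act8_425) (range_glue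 (range_of_allRange c_act8_426) (range_glue (range_of_allRange c_act8_427) (range_glue (range_of_allRange c_act8_428) (range_glue (range_of_allRange c_act8_429) (range_glue (range_of_allRange c_act8_430) (range_glue (range_of_allRange c_act8_431) (range_glue (range_of_allRange c_act8_432) (range_glue (range_of_allRange c_act8_433) (range_glue (range_of_allRange c_act8_434) (range_glue (range_of_allRange c_act8_435) (range_glue (range_of_allRange c_act8_436) (range_glue (range_of_allRange c_act8_437) (range_glue (range_of_allRange c_act8_438) (range_of_allRange c_act8_439))))))))))))))))))))))))))))))))))))))))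
theorem h_act8_p11 : ∀ i, 1320000 ≤ i → i < 1440000 → Nat.beq (actR8 i) i = true :=
  (range_glue (range_of_allRange c_act8_440) (range_glue (range_of_allRange c_act8_441) (range_glue (range_of_allRange c_act8_442) (range_glue (range_of_allRange c_act8_443) (range_glue (range_of_allRange c_act8_444) (range_glue (range_of_allRange c_act8_445) (range_glue (range_of_allRange c_act8_446) (range_glue (range_of_allRange c_act8_447) (range_glue (range_of_allRange c_act8_448) (range_glue (range_of_allRange c_act8_449) (range_glue (range_of_allRange c_act8_450) (range_glue (range_of_allRange c_act8_451) (range_glue (range_of_allRange c_act8_452) (range_glue (range_of_allRange c_act8_453) (range_glue (range_of_allRange c_act8_454) (range_glue (range_of_allRange c_act8_455) (range_glue (range_of_allRange c_act8_456) (range_glue (range_of_allRange c_act8_457) (range_glue (range_of_allRange c_act8_458) (range_glue (range_of_allRange c_act8_459) (range_glue (range_of_allRange c_act8_460) (range_glue (range_of_allRange c_act8_461) (range_glue (range_of_allRange c_act8_462) (range_glue (range_of_allRange c_act8_463) (range_glue (range_of_allRange c_act8_464) (range_glue (range_of_allRange c_act8_465) (range_glue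 (range_of_allRange c_act8_466) (range_glue (range_of_allRange c_act8_467) (range_glue (range_of_allRange c_act8_468) (range_glue (range_of_allRange c_act8_469) (range_glue (range_of_allRange c_act8_470) (range_glue (range_of_allRange c_act8_471) (range_glue (range_of_allRange c_act8_472) (range_glue (range_of_allRange c_act8_473) (range_glue (range_of_allRange c_act8_474) (range_glue (range_of_allRange c_act8_475) (range_glue (range_of_allRange c_act8_476) (range_glue (range_of_allRange c_act8_477) (range_glue (range_of_allRange c_act8_478) (range_of_allRange c_act8_479))))))))))))))))))))))))))))))))))))))))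
theorem h_act8_p12 : ∀ i, 1440000 ≤ i → i < 1539000 → Nat.beq (actR8 i) i = true :=
  (range_glue (range_of_allRange c_act8_480) (range_glue (range_of_allRange c_act8_481) (range_glue (range_of_allRange c_act8_482) (range_glue (range_of_allRange c_act8_483) (range_glue (range_of_allRange c_act8_484) (range_glue (range_of_allRange c_act8_485) (range_glue (range_of_allRange c_act8_486) (range_glue (range_of_allRange c_act8_487) (range_glue (range_of_allRange c_act8_488) (range_glue (range_of_allRange c_act8_489) (range_glue (range_of_allRange c_act8_490) (range_glue (range_of_allRange c_act8_491) (range_glue (range_of_allRange c_act8_492) (range_glue (range_of_allRange c_act8_493) (range_glue (range_of_allRange c_act8_494) (range_glue (range_of_allRange c_act8_495) (range_glue (range_of_allRange c_act8_496) (range_glue (range_of_allRange c_act8_497) (range_glue (range_of_allRange c_act8_498) (range_glue (range_of_allRange c_act8_499) (range_glue (range_of_allRange c_act8_500) (range_glue (range_of_allRange c_act8_501) (range_glue (range_of_allRange c_act8_502) (range_glue (range_of_allRange c_act8_503) (range_glue (range_of_allRange c_act8_504) (range_glue (range_of_allRange c_act8_505) (range_glue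 (range_of_allRange c_act8_506) (range_glue (range_of_allRange c_act8_507) (range_glue (range_of_allRange c_act8_508) (range_glue (range_of_allRange c_act8_509) (range_glue (range_of_allRange c_act8_510) (range_glue (range_of_allRange c_act8_511) (range_of_allRange c_act8_512)))))))))))))))))))))))))))))))))
theorem h_act8 : ∀ i, 0 ≤ i → i < 1539000 → Nat.beq (actR8 i) i = true :=
  (range_glue h_act8_p0 (range_glue h_act8_p1 (range_glue h_act8_p2 (range_glue h_act8_p3 (range_glue h_act8_p4 (range_glue h_act8_p5 (range_glue h_act8_p6 (range_glue h_act8_p7 (range_glue h_act8_p8 (range_glue h_act8_p9 (range_glue h_act8_p10 (range_glue h_act8_p11 h_act8_p12))))))))))))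
theorem h_act9_p0 : ∀ i, 0 ≤ i → i < 48960 → Nat.beq (actR9 i) i = true :=
  (range_glue (range_of_allRange c_act9_0) (range_glue (range_of_allRange c_act9_1) (range_glue (range_of_allRange c_act9_2) (range_glue (range_of_allRange c_act9_3) (range_glue (range_of_allRange c_act9_4) (range_glue (range_of_allRange c_act9_5) (range_glue (range_of_allRange c_act9_6) (range_glue (range_of_allRange c_act9_7) (range_glue (range_of_allRange c_act9_8) (range_glue (range_of_allRange c_act9_9) (range_glue (range_of_allRange c_act9_10) (range_glue (range_of_allRange c_act9_11) (range_glue (range_of_allRange c_act9_12) (range_glue (range_of_allRange c_act9_13) (range_glue (range_of_allRange c_act9_14) (range_glue (range_of_allRange c_act9_15) (range_glue (range_of_allRange c_act9_16) (range_glue (range_of_allRange c_act9_17) (range_glue (range_of_allRange c_act9_18) (range_glue (range_of_allRange c_act9_19) (range_glue (range_of_allRange c_act9_20) (range_glue (range_of_allRange c_act9_21) (range_glue (range_of_allRange c_act9_22) (range_glue (range_of_allRange c_act9_23) (range_glue (range_of_allRange c_act9_24) (range_glue (range_of_allRange c_act9_25) (range_glue (range_of_allRange c_act9_26) (range_glue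 (range_of_allRange c_act9_27) (range_glue (range_of_allRange c_act9_28) (range_glue (range_of_allRange c_act9_29) (range_glue (range_of_allRange c_act9_30) (range_glue (range_of_allRange c_act9_31) (range_glue (range_of_allRange c_act9_32) (range_glue (range_of_allRange c_act9_33) (range_glue (range_of_allRange c_act9_34) (range_glue (range_of_allRange c_act9_35) (range_glue (range_of_allRange c_act9_36) (range_glue (range_of_allRange c_act9_37) (range_glue (range_of_allRange c_act9_38) (range_of_allRange c_act9_39))))))))))))))))))))))))))))))))))))))))
theorem h_act9_p1 : ∀ i, 48960 ≤ i → i < 97920 → Nat.beq (actR9 i) i = true :=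
  (range_glue (range_of_allRange c_act9_40) (range_glue (range_of_allRange c_act9_41) (range_glue (range_of_allRange c_act9_42) (range_glue (range_of_allRange c_act9_43) (range_glue (range_of_allRange c_act9_44) (range_glue (range_of_allRange c_act9_45) (range_glue (range_of_allRange c_act9_46) (range_glue (range_of_allRange c_act9_47) (range_glue (range_of_allRange c_act9_48) (range_glue (range_of_allRange c_act9_49) (range_glue (range_of_allRange c_act9_50) (range_glue (range_of_allRange c_act9_51) (range_glue (range_of_allRange c_act9_52) (range_glue (range_of_allRange c_act9_53) (range_glue (range_of_allRange c_act9_54) (range_glue (range_of_allRange c_act9_55) (range_glue (range_of_allRange c_act9_56) (range_glue (range_of_allRange c_act9_57) (range_glue (range_of_allRange c_act9_58) (range_glue (range_of_allRange c_act9_59) (range_glue (range_of_allRange c_act9_60) (range_glue (range_of_allRange c_act9_61) (range_glue (range_of_allRange c_act9_62) (range_glue (range_of_allRange c_act9_63) (range_glue (range_of_allRange c_act9_64) (range_glue (range_of_allRange c_act9_65) (range_glue (range_of_allRange c_act9_66) (range_glue (range_of_allRange c_act9_67) (range_glue (range_of_allRange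 c_act9_68) (range_glue (range_of_allRange c_act9_69) (range_glue (range_of_allRange c_act9_70) (range_glue (range_of_allRange c_act9_71) (range_glue (range_of_allRange c_act9_72) (range_glue (range_of_allRange c_act9_73) (range_glue (range_of_allRange c_act9_74) (range_glue (range_of_allRange c_act9_75) (range_glue (range_of_allRange c_act9_76) (range_glue (range_of_allRange c_act9_77) (range_glue (range_of_allRange c_act9_78) (range_of_allRange c_act9_79))))))))))))))))))))))))))))))))))))))))
theorem h_act9_p2 : ∀ i, 97920 ≤ i → i < 146880 → Nat.beq (actR9 i) i = true :=
  (range_glue (range_of_allRange c_act9_80) (range_glue (range_of_allRange c_act9_81) (range_glue (range_of_allRange c_act9_82) (range_glue (range_of_allRange c_act9_83) (range_glue (range_of_allRange c_act9_84) (range_glue (range_of_allRange c_act9_85) (range_glue (range_of_allRange c_act9_86) (range_glue (range_of_allRange c_act9_87) (range_glue (range_of_allRange c_act9_88) (range_glue (range_of_allRange c_act9_89) (range_glue (range_of_allRange c_act9_90) (range_glue (range_of_allRange c_act9_91) (range_glue (range_of_allRange c_act9_92) (range_glue (range_of_allRange c_act9_93) (range_glue (range_of_allRange c_act9_94)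 (range_glue (range_of_allRange c_act9_95) (range_glue (range_of_allRange c_act9_96) (range_glue (range_of_allRange c_act9_97) (range_glue (range_of_allRange c_act9_98) (range_glue (range_of_allRange c_act9_99) (range_glue (range_of_allRange c_act9_100) (range_glue (range_of_allRange c_act9_101) (range_glue (range_of_allRange c_act9_102) (range_glue (range_of_allRange c_act9_103) (range_glue (range_of_allRange c_act9_104) (range_glue (range_of_allRange c_act9_105) (range_glue (range_of_allRange c_act9_106) (range_glue (range_of_allRange c_act9_107) (range_glue (range_of_allRange c_act9_108) (range_glue (range_of_allRange c_act9_109) (range_glue (range_of_allRange c_act9_110) (range_glue (range_of_allRange c_act9_111) (range_glue (range_of_allRange c_act9_112) (range_glue (range_of_allRange c_act9_113) (range_glue (range_of_allRange c_act9_114) (range_glue (range_of_allRange c_act9_115) (range_glue (range_of_allRange c_act9_116) (range_glue (range_of_allRange c_act9_117) (range_glue (range_of_allRange c_act9_118) (range_of_allRange c_act9_119))))))))))))))))))))))))))))))))))))))))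
theorem h_act9_p3 : ∀ i, 146880 ≤ i → i < 195840 → Nat.beq (actR9 i) i = true :=
  (range_glue (range_of_allRange c_act9_120) (range_glue (range_of_allRange c_act9_121) (range_glue (range_of_allRange c_act9_122) (range_glue (range_of_allRange c_act9_123) (range_glue (range_of_allRange c_act9_124) (range_glue (range_of_allRange c_act9_125) (range_glue (range_of_allRange c_act9_126) (range_glue (range_of_allRange c_act9_127) (range_glue (range_of_allRange c_act9_128) (range_glue (range_of_allRange c_act9_129) (range_glue (range_of_allRange c_act9_130) (range_glue (range_of_allRange c_act9_131) (range_glue (range_of_allRange c_act9_132) (range_glue (range_of_allRange c_act9_133) (range_glue (range_of_allRange c_act9_134) (range_glue (range_of_allRange c_act9_135) (range_glue (range_of_allRange c_act9_136) (range_glue (range_of_allRange c_act9_137) (range_glue (range_of_allRange c_act9_138) (range_glue (range_of_allRange c_act9_139) (range_glue (range_of_allRange c_act9_140) (range_glue (range_of_allRange c_act9_141) (range_glue (range_of_allRange c_act9_142) (range_glue (range_of_allRange c_act9_143) (range_glue (range_of_allRange c_act9_144) (range_glue (range_of_allRange c_act9_145) (range_glue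 (range_of_allRange c_act9_146) (range_glue (range_of_allRange c_act9_147) (range_glue (range_of_allRange c_act9_148) (range_glue (range_of_allRange c_act9_149) (range_glue (range_of_allRange c_act9_150) (range_glue (range_of_allRange c_act9_151) (range_glue (range_of_allRange c_act9_152) (range_glue (range_of_allRange c_act9_153) (range_glue (range_of_allRange c_act9_154) (range_glue (range_of_allRange c_act9_155) (range_glue (range_of_allRange c_act9_156) (range_glue (range_of_allRange c_act9_157) (range_glue (range_of_allRange c_act9_158) (range_of_allRange c_act9_159))))))))))))))))))))))))))))))))))))))))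
theorem h_act9_p4 : ∀ i, 195840 ≤ i → i < 244800 → Nat.beq (actR9 i) i = true :=
  (range_glue (range_of_allRange c_act9_160) (range_glue (range_of_allRange c_act9_161) (range_glue (range_of_allRange c_act9_162) (range_glue (range_of_allRange c_act9_163) (range_glue (range_of_allRange c_act9_164) (range_glue (range_of_allRange c_act9_165) (range_glue (range_of_allRange c_act9_166) (range_glue (range_of_allRange c_act9_167) (range_glue (range_of_allRange c_act9_168) (range_glue (range_of_allRange c_act9_169) (range_glue (range_of_allRange c_act9_170) (range_glue (range_of_allRange c_act9_171) (range_glue (range_of_allRange c_act9_172) (range_glue (range_of_allRange c_act9_173) (range_glue (range_of_allRange c_act9_174) (range_glue (range_of_allRange c_act9_175) (range_glue (range_of_allRange c_act9_176) (range_glue (range_of_allRange c_act9_177) (range_glue (range_of_allRange c_act9_178) (range_glue (range_of_allRange c_act9_179) (range_glue (range_of_allRange c_act9_180) (range_glue (range_of_allRange c_act9_181) (range_glue (range_of_allRange c_act9_182) (range_glue (range_of_allRange c_act9_183) (range_glue (range_of_allRange c_act9_184) (range_glue (range_of_allRange c_act9_185) (range_glue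 (range_of_allRange c_act9_186) (range_glue (range_of_allRange c_act9_187) (range_glue (range_of_allRange c_act9_188) (range_glue (range_of_allRange c_act9_189) (range_glue (range_of_allRange c_act9_190) (range_glue (range_of_allRange c_act9_191) (range_glue (range_of_allRange c_act9_192) (range_glue (range_of_allRange c_act9_193) (range_glue (range_of_allRange c_act9_194) (range_glue (range_of_allRange c_act9_195) (range_glue (range_of_allRange c_act9_196) (range_glue (range_of_allRange c_act9_197) (range_glue (range_of_allRange c_act9_198) (range_of_allRange c_act9_199))))))))))))))))))))))))))))))))))))))))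
theorem h_act9_p5 : ∀ i, 244800 ≤ i → i < 293760 → Nat.beq (actR9 i) i = true :=
  (range_glue (range_of_allRange c_act9_200) (range_glue (range_of_allRange c_act9_201) (range_glue (range_of_allRange c_act9_202) (range_glue (range_of_allRange c_act9_203) (range_glue (range_of_allRange c_act9_204) (range_glue (range_of_allRange c_act9_205) (range_glue (range_of_allRange c_act9_206) (range_glue (range_of_allRange c_act9_207) (range_glue (range_of_allRange c_act9_208) (range_glue (range_of_allRange c_act9_209) (range_glue (range_of_allRange c_act9_210) (range_glue (range_of_allRange c_act9_211) (range_glue (range_of_allRange c_act9_212) (range_glue (range_of_allRange c_act9_213) (range_glue (range_of_allRange c_act9_214) (range_glue (range_of_allRange c_act9_215) (range_glue (range_of_allRange c_act9_216) (range_glue (range_of_allRange c_act9_217) (range_glue (range_of_allRange c_act9_218) (range_glue (range_of_allRange c_act9_219) (range_glue (range_of_allRange c_act9_220) (range_glue (range_of_allRange c_act9_221) (range_glue (range_of_allRange c_act9_222) (range_glue (range_of_allRange c_act9_223) (range_glue (range_of_allRange c_act9_224) (range_glue (range_of_allRange c_act9_225) (range_glue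 (range_of_allRange c_act9_226) (range_glue (range_of_allRange c_act9_227) (range_glue (range_of_allRange c_act9_228) (range_glue (range_of_allRange c_act9_229) (range_glue (range_of_allRange c_act9_230) (range_glue (range_of_allRange c_act9_231) (range_glue (range_of_allRange c_act9_232) (range_glue (range_of_allRange c_act9_233) (range_glue (range_of_allRange c_act9_234) (range_glue (range_of_allRange c_act9_235) (range_glue (range_of_allRange c_act9_236) (range_glue (range_of_allRange c_act9_237) (range_glue (range_of_allRange c_act9_238) (range_of_allRange c_act9_239))))))))))))))))))))))))))))))))))))))))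
theorem h_act9_p6 : ∀ i, 293760 ≤ i → i < 342720 → Nat.beq (actR9 i) i = true :=
  (range_glue (range_of_allRange c_act9_240) (range_glue (range_of_allRange c_act9_241) (range_glue (range_of_allRange c_act9_242) (range_glue (range_of_allRange c_act9_243) (range_glue (range_of_allRange c_act9_244) (range_glue (range_of_allRange c_act9_245) (range_glue (range_of_allRange c_act9_246) (range_glue (range_of_allRange c_act9_247) (range_glue (range_of_allRange c_act9_248) (range_glue (range_of_allRange c_act9_249) (range_glue (range_of_allRange c_act9_250) (range_glue (range_of_allRange c_act9_251) (range_glue (range_of_allRange c_act9_252) (range_glue (range_of_allRange c_act9_253) (range_glue (range_of_allRange c_act9_254) (range_glue (range_of_allRange c_act9_255) (range_glue (range_of_allRange c_act9_256) (range_glue (range_of_allRange c_act9_257) (range_glue (range_of_allRange c_act9_258) (range_glue (range_of_allRange c_act9_259) (range_glue (range_of_allRange c_act9_260) (range_glue (range_of_allRange c_act9_261) (range_glue (range_of_allRange c_act9_262) (range_glue (range_of_allRange c_act9_263) (range_glue (range_of_allRange c_act9_264) (range_glue (range_of_allRange c_act9_265) (range_glue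 (range_of_allRange c_act9_266) (range_glue (range_of_allRange c_act9_267) (range_glue (range_of_allRange c_act9_268) (range_glue (range_of_allRange c_act9_269) (range_glue (range_of_allRange c_act9_270) (range_glue (range_of_allRange c_act9_271) (range_glue (range_of_allRange c_act9_272) (range_glue (range_of_allRange c_act9_273) (range_glue (range_of_allRange c_act9_274) (range_glue (range_of_allRange c_act9_275) (range_glue (range_of_allRange c_act9_276) (range_glue (range_of_allRange c_act9_277) (range_glue (range_of_allRange c_act9_278) (range_of_allRange c_act9_279))))))))))))))))))))))))))))))))))))))))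
theorem h_act9_p7 : ∀ i, 342720 ≤ i → i < 391680 → Nat.beq (actR9 i) i = true :=
  (range_glue (range_of_allRange c_act9_280) (range_glue (range_of_allRange c_act9_281) (range_glue (range_of_allRange c_act9_282) (range_glue (range_of_allRange c_act9_283) (range_glue (range_of_allRange c_act9_284) (range_glue (range_of_allRange c_act9_285) (range_glue (range_of_allRange c_act9_286) (range_glue (range_of_allRange c_act9_287) (range_glue (range_of_allRange c_act9_288) (range_glue (range_of_allRange c_act9_289) (range_glue (range_of_allRange c_act9_290) (range_glue (range_of_allRange c_act9_291) (range_glue (range_of_allRange c_act9_292) (range_glue (range_of_allRange c_act9_293) (range_glue (range_of_allRange c_act9_294) (range_glue (range_of_allRange c_act9_295) (range_glue (range_of_allRange c_act9_296) (range_glue (range_of_allRange c_act9_297) (range_glue (range_of_allRange c_act9_298) (range_glue (range_of_allRange c_act9_299) (range_glue (range_of_allRange c_act9_300) (range_glue (range_of_allRange c_act9_301) (range_glue (range_of_allRange c_act9_302) (range_glue (range_of_allRange c_act9_303) (range_glue (range_of_allRange c_act9_304) (range_glue (range_of_allRange c_act9_305) (range_glue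 (range_of_allRange c_act9_306) (range_glue (range_of_allRange c_act9_307) (range_glue (range_of_allRange c_act9_308) (range_glue (range_of_allRange c_act9_309) (range_glue (range_of_allRange c_act9_310) (range_glue (range_of_allRange c_act9_311) (range_glue (range_of_allRange c_act9_312) (range_glue (range_of_allRange c_act9_313) (range_glue (range_of_allRange c_act9_314) (range_glue (range_of_allRange c_act9_315) (range_glue (range_of_allRange c_act9_316) (range_glue (range_of_allRange c_act9_317) (range_glue (range_of_allRange c_act9_318) (range_of_allRange c_act9_319))))))))))))))))))))))))))))))))))))))))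
theorem h_act9_p8 : ∀ i, 391680 ≤ i → i < 440640 → Nat.beq (actR9 i) i = true :=
  (range_glue (range_of_allRange c_act9_320) (range_glue (range_of_allRange c_act9_321) (range_glue (range_of_allRange c_act9_322) (range_glue (range_of_allRange c_act9_323) (range_glue (range_of_allRange c_act9_324) (range_glue (range_of_allRange c_act9_325) (range_glue (range_of_allRange c_act9_326) (range_glue (range_of_allRange c_act9_327) (range_glue (range_of_allRange c_act9_328) (range_glue (range_of_allRange c_act9_329) (range_glue (range_of_allRange c_act9_330) (range_glue (range_of_allRange c_act9_331) (range_glue (range_of_allRange c_act9_332) (range_glue (range_of_allRange c_act9_333) (range_glue (range_of_allRange c_act9_334) (range_glue (range_of_allRange c_act9_335) (range_glue (range_of_allRange c_act9_336) (range_glue (range_of_allRange c_act9_337) (range_glue (range_of_allRange c_act9_338) (range_glue (range_of_allRange c_act9_339) (range_glue (range_of_allRange c_act9_340) (range_glue (range_of_allRange c_act9_341) (range_glue (range_of_allRange c_act9_342) (range_glue (range_of_allRange c_act9_343) (range_glue (range_of_allRange c_act9_344) (range_glue (range_of_allRange c_act9_345) (range_glue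 (range_of_allRange c_act9_346) (range_glue (range_of_allRange c_act9_347) (range_glue (range_of_allRange c_act9_348) (range_glue (range_of_allRange c_act9_349) (range_glue (range_of_allRange c_act9_350) (range_glue (range_of_allRange c_act9_351) (range_glue (range_of_allRange c_act9_352) (range_glue (range_of_allRange c_act9_353) (range_glue (range_of_allRange c_act9_354) (range_glue (range_of_allRange c_act9_355) (range_glue (range_of_allRange c_act9_356) (range_glue (range_of_allRange c_act9_357) (range_glue (range_of_allRange c_act9_358) (range_of_allRange c_act9_359))))))))))))))))))))))))))))))))))))))))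
theorem h_act9_p9 : ∀ i, 440640 ≤ i → i < 489600 → Nat.beq (actR9 i) i = true :=
  (range_glue (range_of_allRange c_act9_360) (range_glue (range_of_allRange c_act9_361) (range_glue (range_of_allRange c_act9_362) (range_glue (range_of_allRange c_act9_363) (range_glue (range_of_allRange c_act9_364) (range_glue (range_of_allRange c_act9_365) (range_glue (range_of_allRange c_act9_366) (range_glue (range_of_allRange c_act9_367) (range_glue (range_of_allRange c_act9_368) (range_glue (range_of_allRange c_act9_369) (range_glue (range_of_allRange c_act9_370) (range_glue (range_of_allRange c_act9_371) (range_glue (range_of_allRange c_act9_372) (range_glue (range_of_allRange c_act9_373) (range_glue (range_of_allRange c_act9_374) (range_glue (range_of_allRange c_act9_375) (range_glue (range_of_allRange c_act9_376) (range_glue (range_of_allRange c_act9_377) (range_glue (range_of_allRange c_act9_378) (range_glue (range_of_allRange c_act9_379) (range_glue (range_of_allRange c_act9_380) (range_glue (range_of_allRange c_act9_381) (range_glue (range_of_allRange c_act9_382) (range_glue (range_of_allRange c_act9_383) (range_glue (range_of_allRange c_act9_384) (range_glue (range_of_allRange c_act9_385) (range_glue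 (range_of_allRange c_act9_386) (range_glue (range_of_allRange c_act9_387) (range_glue (range_of_allRange c_act9_388) (range_glue (range_of_allRange c_act9_389) (range_glue (range_of_allRange c_act9_390) (range_glue (range_of_allRange c_act9_391) (range_glue (range_of_allRange c_act9_392) (range_glue (range_of_allRange c_act9_393) (range_glue (range_of_allRange c_act9_394) (range_glue (range_of_allRange c_act9_395) (range_glue (range_of_allRange c_act9_396) (range_glue (range_of_allRange c_act9_397) (range_glue (range_of_allRange c_act9_398) (range_of_allRange c_act9_399))))))))))))))))))))))))))))))))))))))))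
theorem h_act9_p10 : ∀ i, 489600 ≤ i → i < 538560 → Nat.beq (actR9 i) i = true :=
  (range_glue (range_of_allRange c_act9_400) (range_glue (range_of_allRange c_act9_401) (range_glue (range_of_allRange c_act9_402) (range_glue (range_of_allRange c_act9_403) (range_glue (range_of_allRange c_act9_404) (range_glue (range_of_allRange c_act9_405) (range_glue (range_of_allRange c_act9_406) (range_glue (range_of_allRange c_act9_407) (range_glue (range_of_allRange c_act9_408) (range_glue (range_of_allRange c_act9_409) (range_glue (range_of_allRange c_act9_410) (range_glue (range_of_allRange c_act9_411) (range_glue (range_of_allRange c_act9_412) (range_glue (range_of_allRange c_act9_413) (range_glue (range_of_allRange c_act9_414) (range_glue (range_of_allRange c_act9_415) (range_glue (range_of_allRange c_act9_416) (range_glue (range_of_allRange c_act9_417) (range_glue (range_of_allRange c_act9_418) (range_glue (range_of_allRange c_act9_419) (range_glue (range_of_allRange c_act9_420) (range_glue (range_of_allRange c_act9_421) (range_glue (range_of_allRange c_act9_422) (range_glue (range_of_allRange c_act9_423) (range_glue (range_of_allRange c_act9_424) (range_glue (range_of_allRange c_act9_425) (range_glue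 (range_of_allRange c_act9_426) (range_glue (range_of_allRange c_act9_427) (range_glue (range_of_allRange c_act9_428) (range_glue (range_of_allRange c_act9_429) (range_glue (range_of_allRange c_act9_430) (range_glue (range_of_allRange c_act9_431) (range_glue (range_of_allRange c_act9_432) (range_glue (range_of_allRange c_act9_433) (range_glue (range_of_allRange c_act9_434) (range_glue (range_of_allRange c_act9_435) (range_glue (range_of_allRange c_act9_436) (range_glue (range_of_allRange c_act9_437) (range_glue (range_of_allRange c_act9_438) (range_of_allRange c_act9_439))))))))))))))))))))))))))))))))))))))))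
theorem h_act9_p11 : ∀ i, 538560 ≤ i → i < 587520 → Nat.beq (actR9 i) i = true :=
  (range_glue (range_of_allRange c_act9_440) (range_glue (range_of_allRange c_act9_441) (range_glue (range_of_allRange c_act9_442) (range_glue (range_of_allRange c_act9_443) (range_glue (range_of_allRange c_act9_444) (range_glue (range_of_allRange c_act9_445) (range_glue (range_of_allRange c_act9_446) (range_glue (range_of_allRange c_act9_447) (range_glue (range_of_allRange c_act9_448) (range_glue (range_of_allRange c_act9_449) (range_glue (range_of_allRange c_act9_450) (range_glue (range_of_allRange c_act9_451) (range_glue (range_of_allRange c_act9_452) (range_glue (range_of_allRange c_act9_453) (range_glue (range_of_allRange c_act9_454) (range_glue (range_of_allRange c_act9_455) (range_glue (range_of_allRange c_act9_456) (range_glue (range_of_allRange c_act9_457) (range_glue (range_of_allRange c_act9_458) (range_glue (range_of_allRange c_act9_459) (range_glue (range_of_allRange c_act9_460) (range_glue (range_of_allRange c_act9_461) (range_glue (range_of_allRange c_act9_462) (range_glue (range_of_allRange c_act9_463) (range_glue (range_of_allRange c_act9_464) (range_glue (range_of_allRange c_act9_465) (range_glue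 (range_of_allRange c_act9_466) (range_glue (range_of_allRange c_act9_467) (range_glue (range_of_allRange c_act9_468) (range_glue (range_of_allRange c_act9_469) (range_glue (range_of_allRange c_act9_470) (range_glue (range_of_allRange c_act9_471) (range_glue (range_of_allRange c_act9_472) (range_glue (range_of_allRange c_act9_473) (range_glue (range_of_allRange c_act9_474) (range_glue (range_of_allRange c_act9_475) (range_glue (range_of_allRange c_act9_476) (range_glue (range_of_allRange c_act9_477) (range_glue (range_of_allRange c_act9_478) (range_of_allRange c_act9_479))))))))))))))))))))))))))))))))))))))))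
theorem h_act9_p12 : ∀ i, 587520 ≤ i → i < 636480 → Nat.beq (actR9 i) i = true :=
  (range_glue (range_of_allRange c_act9_480) (range_glue (range_of_allRange c_act9_481) (range_glue (range_of_allRange c_act9_482) (range_glue (range_of_allRange c_act9_483) (range_glue (range_of_allRange c_act9_484) (range_glue (range_of_allRange c_act9_485) (range_glue (range_of_allRange c_act9_486) (range_glue (range_of_allRange c_act9_487) (range_glue (range_of_allRange c_act9_488) (range_glue (range_of_allRange c_act9_489) (range_glue (range_of_allRange c_act9_490) (range_glue (range_of_allRange c_act9_491) (range_glue (range_of_allRange c_act9_492) (range_glue (range_of_allRange c_act9_493) (range_glue (range_of_allRange c_act9_494) (range_glue (range_of_allRange c_act9_495) (range_glue (range_of_allRange c_act9_496) (range_glue (range_of_allRange c_act9_497) (range_glue (range_of_allRange c_act9_498) (range_glue (range_of_allRange c_act9_499) (range_glue (range_of_allRange c_act9_500) (range_glue (range_of_allRange c_act9_501) (range_glue (range_of_allRange c_act9_502) (range_glue (range_of_allRange c_act9_503) (range_glue (range_of_allRange c_act9_504) (range_glue (range_of_allRange c_act9_505) (range_glue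 (range_of_allRange c_act9_506) (range_glue (range_of_allRange c_act9_507) (range_glue (range_of_allRange c_act9_508) (range_glue (range_of_allRange c_act9_509) (range_glue (range_of_allRange c_act9_510) (range_glue (range_of_allRange c_act9_511) (range_glue (range_of_allRange c_act9_512) (range_glue (range_of_allRange c_act9_513) (range_glue (range_of_allRange c_act9_514) (range_glue (range_of_allRange c_act9_515) (range_glue (range_of_allRange c_act9_516) (range_glue (range_of_allRange c_act9_517) (range_glue (range_of_allRange c_act9_518) (range_of_allRange c_act9_519))))))))))))))))))))))))))))))))))))))))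
theorem h_act9_p13 : ∀ i, 636480 ≤ i → i < 685440 → Nat.beq (actR9 i) i = true :=
  (range_glue (range_of_allRange c_act9_520) (range_glue (range_of_allRange c_act9_521) (range_glue (range_of_allRange c_act9_522) (range_glue (range_of_allRange c_act9_523) (range_glue (range_of_allRange c_act9_524) (range_glue (range_of_allRange c_act9_525) (range_glue (range_of_allRange c_act9_526) (range_glue (range_of_allRange c_act9_527) (range_glue (range_of_allRange c_act9_528) (range_glue (range_of_allRange c_act9_529) (range_glue (range_of_allRange c_act9_530) (range_glue (range_of_allRange c_act9_531) (range_glue (range_of_allRange c_act9_532) (range_glue (range_of_allRange c_act9_533) (range_glue (range_of_allRange c_act9_534) (range_glue (range_of_allRange c_act9_535) (range_glue (range_of_allRange c_act9_536) (range_glue (range_of_allRange c_act9_537) (range_glue (range_of_allRange c_act9_538) (range_glue (range_of_allRange c_act9_539) (range_glue (range_of_allRange c_act9_540) (range_glue (range_of_allRange c_act9_541) (range_glue (range_of_allRange c_act9_542) (range_glue (range_of_allRange c_act9_543) (range_glue (range_of_allRange c_act9_544) (range_glue (range_of_allRange c_act9_545) (range_glue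 (range_of_allRange c_act9_546) (range_glue (range_of_allRange c_act9_547) (range_glue (range_of_allRange c_act9_548) (range_glue (range_of_allRange c_act9_549) (range_glue (range_of_allRange c_act9_550) (range_glue (range_of_allRange c_act9_551) (range_glue (range_of_allRange c_act9_552) (range_glue (range_of_allRange c_act9_553) (range_glue (range_of_allRange c_act9_554) (range_glue (range_of_allRange c_act9_555) (range_glue (range_of_allRange c_act9_556) (range_glue (range_of_allRange c_act9_557) (range_glue (range_of_allRange c_act9_558) (range_of_allRange c_act9_559))))))))))))))))))))))))))))))))))))))))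
theorem h_act9_p14 : ∀ i, 685440 ≤ i → i < 734400 → Nat.beq (actR9 i) i = true :=
  (range_glue (range_of_allRange c_act9_560) (range_glue (range_of_allRange c_act9_561) (range_glue (range_of_allRange c_act9_562) (range_glue (range_of_allRange c_act9_563) (range_glue (range_of_allRange c_act9_564) (range_glue (range_of_allRange c_act9_565) (range_glue (range_of_allRange c_act9_566) (range_glue (range_of_allRange c_act9_567) (range_glue (range_of_allRange c_act9_568) (range_glue (range_of_allRange c_act9_569) (range_glue (range_of_allRange c_act9_570) (range_glue (range_of_allRange c_act9_571) (range_glue (range_of_allRange c_act9_572) (range_glue (range_of_allRange c_act9_573) (range_glue (range_of_allRange c_act9_574) (range_glue (range_of_allRange c_act9_575) (range_glue (range_of_allRange c_act9_576) (range_glue (range_of_allRange c_act9_577) (range_glue (range_of_allRange c_act9_578) (range_glue (range_of_allRange c_act9_579) (range_glue (range_of_allRange c_act9_580) (range_glue (range_of_allRange c_act9_581) (range_glue (range_of_allRange c_act9_582) (range_glue (range_of_allRange c_act9_583) (range_glue (range_of_allRange c_act9_584) (range_glue (range_of_allRange c_act9_585) (range_glue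 (range_of_allRange c_act9_586) (range_glue (range_of_allRange c_act9_587) (range_glue (range_of_allRange c_act9_588) (range_glue (range_of_allRange c_act9_589) (range_glue (range_of_allRange c_act9_590) (range_glue (range_of_allRange c_act9_591) (range_glue (range_of_allRange c_act9_592) (range_glue (range_of_allRange c_act9_593) (range_glue (range_of_allRange c_act9_594) (range_glue (range_of_allRange c_act9_595) (range_glue (range_of_allRange c_act9_596) (range_glue (range_of_allRange c_act9_597) (range_glue (range_of_allRange c_act9_598) (range_of_allRange c_act9_599))))))))))))))))))))))))))))))))))))))))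
theorem h_act9_p15 : ∀ i, 734400 ≤ i → i < 783360 → Nat.beq (actR9 i) i = true :=
  (range_glue (range_of_allRange c_act9_600) (range_glue (range_of_allRange c_act9_601) (range_glue (range_of_allRange c_act9_602) (range_glue (range_of_allRange c_act9_603) (range_glue (range_of_allRange c_act9_604) (range_glue (range_of_allRange c_act9_605) (range_glue (range_of_allRange c_act9_606) (range_glue (range_of_allRange c_act9_607) (range_glue (range_of_allRange c_act9_608) (range_glue (range_of_allRange c_act9_609) (range_glue (range_of_allRange c_act9_610) (range_glue (range_of_allRange c_act9_611) (range_glue (range_of_allRange c_act9_612) (range_glue (range_of_allRange c_act9_613) (range_glue (range_of_allRange c_act9_614) (range_glue (range_of_allRange c_act9_615) (range_glue (range_of_allRange c_act9_616) (range_glue (range_of_allRange c_act9_617) (range_glue (range_of_allRange c_act9_618) (range_glue (range_of_allRange c_act9_619) (range_glue (range_of_allRange c_act9_620) (range_glue (range_of_allRange c_act9_621) (range_glue (range_of_allRange c_act9_622) (range_glue (range_of_allRange c_act9_623) (range_glue (range_of_allRange c_act9_624) (range_glue (range_of_allRange c_act9_625) (range_glue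 (range_of_allRange c_act9_626) (range_glue (range_of_allRange c_act9_627) (range_glue (range_of_allRange c_act9_628) (range_glue (range_of_allRange c_act9_629) (range_glue (range_of_allRange c_act9_630) (range_glue (range_of_allRange c_act9_631) (range_glue (range_of_allRange c_act9_632) (range_glue (range_of_allRange c_act9_633) (range_glue (range_of_allRange c_act9_634) (range_glue (range_of_allRange c_act9_635) (range_glue (range_of_allRange c_act9_636) (range_glue (range_of_allRange c_act9_637) (range_glue (range_of_allRange c_act9_638) (range_of_allRange c_act9_639))))))))))))))))))))))))))))))))))))))))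
theorem h_act9_p16 : ∀ i, 783360 ≤ i → i < 832320 → Nat.beq (actR9 i) i = true :=
  (range_glue (range_of_allRange c_act9_640) (range_glue (range_of_allRange c_act9_641) (range_glue (range_of_allRange c_act9_642) (range_glue (range_of_allRange c_act9_643) (range_glue (range_of_allRange c_act9_644) (range_glue (range_of_allRange c_act9_645) (range_glue (range_of_allRange c_act9_646) (range_glue (range_of_allRange c_act9_647) (range_glue (range_of_allRange c_act9_648) (range_glue (range_of_allRange c_act9_649) (range_glue (range_of_allRange c_act9_650) (range_glue (range_of_allRange c_act9_651) (range_glue (range_of_allRange c_act9_652) (range_glue (range_of_allRange c_act9_653) (range_glue (range_of_allRange c_act9_654) (range_glue (range_of_allRange c_act9_655) (range_glue (range_of_allRange c_act9_656) (range_glue (range_of_allRange c_act9_657) (range_glue (range_of_allRange c_act9_658) (range_glue (range_of_allRange c_act9_659) (range_glue (range_of_allRange c_act9_660) (range_glue (range_of_allRange c_act9_661) (range_glue (range_of_allRange c_act9_662) (range_glue (range_of_allRange c_act9_663) (range_glue (range_of_allRange c_act9_664) (range_glue (range_of_allRange c_act9_665) (range_glue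 (range_of_allRange c_act9_666) (range_glue (range_of_allRange c_act9_667) (range_glue (range_of_allRange c_act9_668) (range_glue (range_of_allRange c_act9_669) (range_glue (range_of_allRange c_act9_670) (range_glue (range_of_allRange c_act9_671) (range_glue (range_of_allRange c_act9_672) (range_glue (range_of_allRange c_act9_673) (range_glue (range_of_allRange c_act9_674) (range_glue (range_of_allRange c_act9_675) (range_glue (range_of_allRange c_act9_676) (range_glue (range_of_allRange c_act9_677) (range_glue (range_of_allRange c_act9_678) (range_of_allRange c_act9_679))))))))))))))))))))))))))))))))))))))))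
theorem h_act9_p17 : ∀ i, 832320 ≤ i → i < 881280 → Nat.beq (actR9 i) i = true :=
  (range_glue (range_of_allRange c_act9_680) (range_glue (range_of_allRange c_act9_681) (range_glue (range_of_allRange c_act9_682) (range_glue (range_of_allRange c_act9_683) (range_glue (range_of_allRange c_act9_684) (range_glue (range_of_allRange c_act9_685) (range_glue (range_of_allRange c_act9_686) (range_glue (range_of_allRange c_act9_687) (range_glue (range_of_allRange c_act9_688) (range_glue (range_of_allRange c_act9_689) (range_glue (range_of_allRange c_act9_690) (range_glue (range_of_allRange c_act9_691) (range_glue (range_of_allRange c_act9_692) (range_glue (range_of_allRange c_act9_693) (range_glue (range_of_allRange c_act9_694) (range_glue (range_of_allRange c_act9_695) (range_glue (range_of_allRange c_act9_696) (range_glue (range_of_allRange c_act9_697) (range_glue (range_of_allRange c_act9_698) (range_glue (range_of_allRange c_act9_699) (range_glue (range_of_allRange c_act9_700) (range_glue (range_of_allRange c_act9_701) (range_glue (range_of_allRange c_act9_702) (range_glue (range_of_allRange c_act9_703) (range_glue (range_of_allRange c_act9_704) (range_glue (range_of_allRange c_act9_705) (range_glue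 (range_of_allRange c_act9_706) (range_glue (range_of_allRange c_act9_707) (range_glue (range_of_allRange c_act9_708) (range_glue (range_of_allRange c_act9_709) (range_glue (range_of_allRange c_act9_710) (range_glue (range_of_allRange c_act9_711) (range_glue (range_of_allRange c_act9_712) (range_glue (range_of_allRange c_act9_713) (range_glue (range_of_allRange c_act9_714) (range_glue (range_of_allRange c_act9_715) (range_glue (range_of_allRange c_act9_716) (range_glue (range_of_allRange c_act9_717) (range_glue (range_of_allRange c_act9_718) (range_of_allRange c_act9_719))))))))))))))))))))))))))))))))))))))))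
theorem h_act9_p18 : ∀ i, 881280 ≤ i → i < 930240 → Nat.beq (actR9 i) i = true :=
  (range_glue (range_of_allRange c_act9_720) (range_glue (range_of_allRange c_act9_721) (range_glue (range_of_allRange c_act9_722) (range_glue (range_of_allRange c_act9_723) (range_glue (range_of_allRange c_act9_724) (range_glue (range_of_allRange c_act9_725) (range_glue (range_of_allRange c_act9_726) (range_glue (range_of_allRange c_act9_727) (range_glue (range_of_allRange c_act9_728) (range_glue (range_of_allRange c_act9_729) (range_glue (range_of_allRange c_act9_730) (range_glue (range_of_allRange c_act9_731) (range_glue (range_of_allRange c_act9_732) (range_glue (range_of_allRange c_act9_733) (range_glue (range_of_allRange c_act9_734) (range_glue (range_of_allRange c_act9_735) (range_glue (range_of_allRange c_act9_736) (range_glue (range_of_allRange c_act9_737) (range_glue (range_of_allRange c_act9_738) (range_glue (range_of_allRange c_act9_739) (range_glue (range_of_allRange c_act9_740) (range_glue (range_of_allRange c_act9_741) (range_glue (range_of_allRange c_act9_742) (range_glue (range_of_allRange c_act9_743) (range_glue (range_of_allRange c_act9_744) (range_glue (range_of_allRange c_act9_745) (range_glue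 (range_of_allRange c_act9_746) (range_glue (range_of_allRange c_act9_747) (range_glue (range_of_allRange c_act9_748) (range_glue (range_of_allRange c_act9_749) (range_glue (range_of_allRange c_act9_750) (range_glue (range_of_allRange c_act9_751) (range_glue (range_of_allRange c_act9_752) (range_glue (range_of_allRange c_act9_753) (range_glue (range_of_allRange c_act9_754) (range_glue (range_of_allRange c_act9_755) (range_glue (range_of_allRange c_act9_756) (range_glue (range_of_allRange c_act9_757) (range_glue (range_of_allRange c_act9_758) (range_of_allRange c_act9_759))))))))))))))))))))))))))))))))))))))))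
theorem h_act9_p19 : ∀ i, 930240 ≤ i → i < 979200 → Nat.beq (actR9 i) i = true :=
  (range_glue (range_of_allRange c_act9_760) (range_glue (range_of_allRange c_act9_761) (range_glue (range_of_allRange c_act9_762) (range_glue (range_of_allRange c_act9_763) (range_glue (range_of_allRange c_act9_764) (range_glue (range_of_allRange c_act9_765) (range_glue (range_of_allRange c_act9_766) (range_glue (range_of_allRange c_act9_767) (range_glue (range_of_allRange c_act9_768) (range_glue (range_of_allRange c_act9_769) (range_glue (range_of_allRange c_act9_770) (range_glue (range_of_allRange c_act9_771) (range_glue (range_of_allRange c_act9_772) (range_glue (range_of_allRange c_act9_773) (range_glue (range_of_allRange c_act9_774) (range_glue (range_of_allRange c_act9_775) (range_glue (range_of_allRange c_act9_776) (range_glue (range_of_allRange c_act9_777) (range_glue (range_of_allRange c_act9_778) (range_glue (range_of_allRange c_act9_779) (range_glue (range_of_allRange c_act9_780) (range_glue (range_of_allRange c_act9_781) (range_glue (range_of_allRange c_act9_782) (range_glue (range_of_allRange c_act9_783) (range_glue (range_of_allRange c_act9_784) (range_glue (range_of_allRange c_act9_785) (range_glue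 (range_of_allRange c_act9_786) (range_glue (range_of_allRange c_act9_787) (range_glue (range_of_allRange c_act9_788) (range_glue (range_of_allRange c_act9_789) (range_glue (range_of_allRange c_act9_790) (range_glue (range_of_allRange c_act9_791) (range_glue (range_of_allRange c_act9_792) (range_glue (range_of_allRange c_act9_793) (range_glue (range_of_allRange c_act9_794) (range_glue (range_of_allRange c_act9_795) (range_glue (range_of_allRange c_act9_796) (range_glue (range_of_allRange c_act9_797) (range_glue (range_of_allRange c_act9_798) (range_of_allRange c_act9_799))))))))))))))))))))))))))))))))))))))))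
theorem h_act9_p20 : ∀ i, 979200 ≤ i → i < 1028160 → Nat.beq (actR9 i) i = true :=
  (range_glue (range_of_allRange c_act9_800) (range_glue (range_of_allRange c_act9_801) (range_glue (range_of_allRange c_act9_802) (range_glue (range_of_allRange c_act9_803) (range_glue (range_of_allRange c_act9_804) (range_glue (range_of_allRange c_act9_805) (range_glue (range_of_allRange c_act9_806) (range_glue (range_of_allRange c_act9_807) (range_glue (range_of_allRange c_act9_808) (range_glue (range_of_allRange c_act9_809) (range_glue (range_of_allRange c_act9_810) (range_glue (range_of_allRange c_act9_811) (range_glue (range_of_allRange c_act9_812) (range_glue (range_of_allRange c_act9_813) (range_glue (range_of_allRange c_act9_814) (range_glue (range_of_allRange c_act9_815) (range_glue (range_of_allRange c_act9_816) (range_glue (range_of_allRange c_act9_817) (range_glue (range_of_allRange c_act9_818) (range_glue (range_of_allRange c_act9_819) (range_glue (range_of_allRange c_act9_820) (range_glue (range_of_allRange c_act9_821) (range_glue (range_of_allRange c_act9_822) (range_glue (range_of_allRange c_act9_823) (range_glue (range_of_allRange c_act9_824) (range_glue (range_of_allRange c_act9_825) (range_glue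 (range_of_allRange c_act9_826) (range_glue (range_of_allRange c_act9_827) (range_glue (range_of_allRange c_act9_828) (range_glue (range_of_allRange c_act9_829) (range_glue (range_of_allRange c_act9_830) (range_glue (range_of_allRange c_act9_831) (range_glue (range_of_allRange c_act9_832) (range_glue (range_of_allRange c_act9_833) (range_glue (range_of_allRange c_act9_834) (range_glue (range_of_allRange c_act9_835) (range_glue (range_of_allRange c_act9_836) (range_glue (range_of_allRange c_act9_837) (range_glue (range_of_allRange c_act9_838) (range_of_allRange c_act9_839))))))))))))))))))))))))))))))))))))))))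
theorem h_act9_p21 : ∀ i, 1028160 ≤ i → i < 1077120 → Nat.beq (actR9 i) i = true :=
  (range_glue (range_of_allRange c_act9_840) (range_glue (range_of_allRange c_act9_841) (range_glue (range_of_allRange c_act9_842) (range_glue (range_of_allRange c_act9_843) (range_glue (range_of_allRange c_act9_844) (range_glue (range_of_allRange c_act9_845) (range_glue (range_of_allRange c_act9_846) (range_glue (range_of_allRange c_act9_847) (range_glue (range_of_allRange c_act9_848) (range_glue (range_of_allRange c_act9_849) (range_glue (range_of_allRange c_act9_850) (range_glue (range_of_allRange c_act9_851) (range_glue (range_of_allRange c_act9_852) (range_glue (range_of_allRange c_act9_853) (range_glue (range_of_allRange c_act9_854) (range_glue (range_of_allRange c_act9_855) (range_glue (range_of_allRange c_act9_856) (range_glue (range_of_allRange c_act9_857) (range_glue (range_of_allRange c_act9_858) (range_glue (range_of_allRange c_act9_859) (range_glue (range_of_allRange c_act9_860) (range_glue (range_of_allRange c_act9_861) (range_glue (range_of_allRange c_act9_862) (range_glue (range_of_allRange c_act9_863) (range_glue (range_of_allRange c_act9_864) (range_glue (range_of_allRange c_act9_865) (range_glue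 (range_of_allRange c_act9_866) (range_glue (range_of_allRange c_act9_867) (range_glue (range_of_allRange c_act9_868) (range_glue (range_of_allRange c_act9_869) (range_glue (range_of_allRange c_act9_870) (range_glue (range_of_allRange c_act9_871) (range_glue (range_of_allRange c_act9_872) (range_glue (range_of_allRange c_act9_873) (range_glue (range_of_allRange c_act9_874) (range_glue (range_of_allRange c_act9_875) (range_glue (range_of_allRange c_act9_876) (range_glue (range_of_allRange c_act9_877) (range_glue (range_of_allRange c_act9_878) (range_of_allRange c_act9_879))))))))))))))))))))))))))))))))))))))))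
theorem h_act9_p22 : ∀ i, 1077120 ≤ i → i < 1126080 → Nat.beq (actR9 i) i = true :=
  (range_glue (range_of_allRange c_act9_880) (range_glue (range_of_allRange c_act9_881) (range_glue (range_of_allRange c_act9_882) (range_glue (range_of_allRange c_act9_883) (range_glue (range_of_allRange c_act9_884) (range_glue (range_of_allRange c_act9_885) (range_glue (range_of_allRange c_act9_886) (range_glue (range_of_allRange c_act9_887) (range_glue (range_of_allRange c_act9_888) (range_glue (range_of_allRange c_act9_889) (range_glue (range_of_allRange c_act9_890) (range_glue (range_of_allRange c_act9_891) (range_glue (range_of_allRange c_act9_892) (range_glue (range_of_allRange c_act9_893) (range_glue (range_of_allRange c_act9_894) (range_glue (range_of_allRange c_act9_895) (range_glue (range_of_allRange c_act9_896) (range_glue (range_of_allRange c_act9_897) (range_glue (range_of_allRange c_act9_898) (range_glue (range_of_allRange c_act9_899) (range_glue (range_of_allRange c_act9_900) (range_glue (range_of_allRange c_act9_901) (range_glue (range_of_allRange c_act9_902) (range_glue (range_of_allRange c_act9_903) (range_glue (range_of_allRange c_act9_904) (range_glue (range_of_allRange c_act9_905) (range_glue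 (range_of_allRange c_act9_906) (range_glue (range_of_allRange c_act9_907) (range_glue (range_of_allRange c_act9_908) (range_glue (range_of_allRange c_act9_909) (range_glue (range_of_allRange c_act9_910) (range_glue (range_of_allRange c_act9_911) (range_glue (range_of_allRange c_act9_912) (range_glue (range_of_allRange c_act9_913) (range_glue (range_of_allRange c_act9_914) (range_glue (range_of_allRange c_act9_915) (range_glue (range_of_allRange c_act9_916) (range_glue (range_of_allRange c_act9_917) (range_glue (range_of_allRange c_act9_918) (range_of_allRange c_act9_919))))))))))))))))))))))))))))))))))))))))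
theorem h_act9_p23 : ∀ i, 1126080 ≤ i → i < 1175040 → Nat.beq (actR9 i) i = true :=
  (range_glue (range_of_allRange c_act9_920) (range_glue (range_of_allRange c_act9_921) (range_glue (range_of_allRange c_act9_922) (range_glue (range_of_allRange c_act9_923) (range_glue (range_of_allRange c_act9_924) (range_glue (range_of_allRange c_act9_925) (range_glue (range_of_allRange c_act9_926) (range_glue (range_of_allRange c_act9_927) (range_glue (range_of_allRange c_act9_928) (range_glue (range_of_allRange c_act9_929) (range_glue (range_of_allRange c_act9_930) (range_glue (range_of_allRange c_act9_931) (range_glue (range_of_allRange c_act9_932) (range_glue (range_of_allRange c_act9_933) (range_glue (range_of_allRange c_act9_934) (range_glue (range_of_allRange c_act9_935) (range_glue (range_of_allRange c_act9_936) (range_glue (range_of_allRange c_act9_937) (range_glue (range_of_allRange c_act9_938) (range_glue (range_of_allRange c_act9_939) (range_glue (range_of_allRange c_act9_940) (range_glue (range_of_allRange c_act9_941) (range_glue (range_of_allRange c_act9_942) (range_glue (range_of_allRange c_act9_943) (range_glue (range_of_allRange c_act9_944) (range_glue (range_of_allRange c_act9_945) (range_glue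 (range_of_allRange c_act9_946) (range_glue (range_of_allRange c_act9_947) (range_glue (range_of_allRange c_act9_948) (range_glue (range_of_allRange c_act9_949) (range_glue (range_of_allRange c_act9_950) (range_glue (range_of_allRange c_act9_951) (range_glue (range_of_allRange c_act9_952) (range_glue (range_of_allRange c_act9_953) (range_glue (range_of_allRange c_act9_954) (range_glue (range_of_allRange c_act9_955) (range_glue (range_of_allRange c_act9_956) (range_glue (range_of_allRange c_act9_957) (range_glue (range_of_allRange c_act9_958) (range_of_allRange c_act9_959))))))))))))))))))))))))))))))))))))))))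
theorem h_act9_p24 : ∀ i, 1175040 ≤ i → i < 1224000 → Nat.beq (actR9 i) i = true :=
  (range_glue (range_of_allRange c_act9_960) (range_glue (range_of_allRange c_act9_961) (range_glue (range_of_allRange c_act9_962) (range_glue (range_of_allRange c_act9_963) (range_glue (range_of_allRange c_act9_964) (range_glue (range_of_allRange c_act9_965) (range_glue (range_of_allRange c_act9_966) (range_glue (range_of_allRange c_act9_967) (range_glue (range_of_allRange c_act9_968) (range_glue (range_of_allRange c_act9_969) (range_glue (range_of_allRange c_act9_970) (range_glue (range_of_allRange c_act9_971) (range_glue (range_of_allRange c_act9_972) (range_glue (range_of_allRange c_act9_973) (range_glue (range_of_allRange c_act9_974) (range_glue (range_of_allRange c_act9_975) (range_glue (range_of_allRange c_act9_976) (range_glue (range_of_allRange c_act9_977) (range_glue (range_of_allRange c_act9_978) (range_glue (range_of_allRange c_act9_979) (range_glue (range_of_allRange c_act9_980) (range_glue (range_of_allRange c_act9_981) (range_glue (range_of_allRange c_act9_982) (range_glue (range_of_allRange c_act9_983) (range_glue (range_of_allRange c_act9_984) (range_glue (range_of_allRange c_act9_985) (range_glue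 (range_of_allRange c_act9_986) (range_glue (range_of_allRange c_act9_987) (range_glue (range_of_allRange c_act9_988) (range_glue (range_of_allRange c_act9_989) (range_glue (range_of_allRange c_act9_990) (range_glue (range_of_allRange c_act9_991) (range_glue (range_of_allRange c_act9_992) (range_glue (range_of_allRange c_act9_993) (range_glue (range_of_allRange c_act9_994) (range_glue (range_of_allRange c_act9_995) (range_glue (range_of_allRange c_act9_996) (range_glue (range_of_allRange c_act9_997) (range_glue (range_of_allRange c_act9_998) (range_of_allRange c_act9_999))))))))))))))))))))))))))))))))))))))))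
theorem h_act9_p25 : ∀ i, 1224000 ≤ i → i < 1272960 → Nat.beq (actR9 i) i = true :=
  (range_glue (range_of_allRange c_act9_1000) (range_glue (range_of_allRange c_act9_1001) (range_glue (range_of_allRange c_act9_1002) (range_glue (range_of_allRange c_act9_1003) (range_glue (range_of_allRange c_act9_1004) (range_glue (range_of_allRange c_act9_1005) (range_glue (range_of_allRange c_act9_1006) (range_glue (range_of_allRange c_act9_1007) (range_glue (range_of_allRange c_act9_1008) (range_glue (range_of_allRange c_act9_1009) (range_glue (range_of_allRange c_act9_1010) (range_glue (range_of_allRange c_act9_1011) (range_glue (range_of_allRange c_act9_1012) (range_glue (range_of_allRange c_act9_1013) (range_glue (range_of_allRange c_act9_1014) (range_glue (range_of_allRange c_act9_1015) (range_glue (range_of_allRange c_act9_1016) (range_glue (range_of_allRange c_act9_1017) (range_glue (range_of_allRange c_act9_1018) (range_glue (range_of_allRange c_act9_1019) (range_glue (range_of_allRange c_act9_1020) (range_glue (range_of_allRange c_act9_1021) (range_glue (range_of_allRange c_act9_1022) (range_glue (range_of_allRange c_act9_1023) (range_glue (range_of_allRange c_act9_1024) (range_glue (range_of_allRange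 c_act9_1025) (range_glue (range_of_allRange c_act9_1026) (range_glue (range_of_allRange c_act9_1027) (range_glue (range_of_allRange c_act9_1028) (range_glue (range_of_allRange c_act9_1029) (range_glue (range_of_allRange c_act9_1030) (range_glue (range_of_allRange c_act9_1031) (range_glue (range_of_allRange c_act9_1032) (range_glue (range_of_allRange c_act9_1033) (range_glue (range_of_allRange c_act9_1034) (range_glue (range_of_allRange c_act9_1035) (range_glue (range_of_allRange c_act9_1036) (range_glue (range_of_allRange c_act9_1037) (range_glue (range_of_allRange c_act9_1038) (range_of_allRange c_act9_1039))))))))))))))))))))))))))))))))))))))))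
theorem h_act9_p26 : ∀ i, 1272960 ≤ i → i < 1321920 → Nat.beq (actR9 i) i = true :=
  (range_glue (range_of_allRange c_act9_1040) (range_glue (range_of_allRange c_act9_1041) (range_glue (range_of_allRange c_act9_1042) (range_glue (range_of_allRange c_act9_1043) (range_glue (range_of_allRange c_act9_1044) (range_glue (range_of_allRange c_act9_1045) (range_glue (range_of_allRange c_act9_1046) (range_glue (range_of_allRange c_act9_1047) (range_glue (range_of_allRange c_act9_1048) (range_glue (range_of_allRange c_act9_1049) (range_glue (range_of_allRange c_act9_1050) (range_glue (range_of_allRange c_act9_1051) (range_glue (range_of_allRange c_act9_1052) (range_glue (range_of_allRange c_act9_1053) (range_glue (range_of_allRange c_act9_1054) (range_glue (range_of_allRange c_act9_1055) (range_glue (range_of_allRange c_act9_1056) (range_glue (range_of_allRange c_act9_1057) (range_glue (range_of_allRange c_act9_1058) (range_glue (range_of_allRange c_act9_1059) (range_glue (range_of_allRange c_act9_1060) (range_glue (range_of_allRange c_act9_1061) (range_glue (range_of_allRange c_act9_1062) (range_glue (range_of_allRange c_act9_1063) (range_glue (range_of_allRange c_act9_1064) (range_glue (range_of_allRange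 c_act9_1065) (range_glue (range_of_allRange c_act9_1066) (range_glue (range_of_allRange c_act9_1067) (range_glue (range_of_allRange c_act9_1068) (range_glue (range_of_allRange c_act9_1069) (range_glue (range_of_allRange c_act9_1070) (range_glue (range_of_allRange c_act9_1071) (range_glue (range_of_allRange c_act9_1072) (range_glue (range_of_allRange c_act9_1073) (range_glue (range_of_allRange c_act9_1074) (range_glue (range_of_allRange c_act9_1075) (range_glue (range_of_allRange c_act9_1076) (range_glue (range_of_allRange c_act9_1077) (range_glue (range_of_allRange c_act9_1078) (range_of_allRange c_act9_1079))))))))))))))))))))))))))))))))))))))))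
theorem h_act9_p27 : ∀ i, 1321920 ≤ i → i < 1370880 → Nat.beq (actR9 i) i = true :=
  (range_glue (range_of_allRange c_act9_1080) (range_glue (range_of_allRange c_act9_1081) (range_glue (range_of_allRange c_act9_1082) (range_glue (range_of_allRange c_act9_1083) (range_glue (range_of_allRange c_act9_1084) (range_glue (range_of_allRange c_act9_1085) (range_glue (range_of_allRange c_act9_1086) (range_glue (range_of_allRange c_act9_1087) (range_glue (range_of_allRange c_act9_1088) (range_glue (range_of_allRange c_act9_1089) (range_glue (range_of_allRange c_act9_1090) (range_glue (range_of_allRange c_act9_1091) (range_glue (range_of_allRange c_act9_1092) (range_glue (range_of_allRange c_act9_1093) (range_glue (range_of_allRange c_act9_1094) (range_glue (range_of_allRange c_act9_1095) (range_glue (range_of_allRange c_act9_1096) (range_glue (range_of_allRange c_act9_1097) (range_glue (range_of_allRange c_act9_1098) (range_glue (range_of_allRange c_act9_1099) (range_glue (range_of_allRange c_act9_1100) (range_glue (range_of_allRange c_act9_1101) (range_glue (range_of_allRange c_act9_1102) (range_glue (range_of_allRange c_act9_1103) (range_glue (range_of_allRange c_act9_1104) (range_glue (range_of_allRange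 c_act9_1105) (range_glue (range_of_allRange c_act9_1106) (range_glue (range_of_allRange c_act9_1107) (range_glue (range_of_allRange c_act9_1108) (range_glue (range_of_allRange c_act9_1109) (range_glue (range_of_allRange c_act9_1110) (range_glue (range_of_allRange c_act9_1111) (range_glue (range_of_allRange c_act9_1112) (range_glue (range_of_allRange c_act9_1113) (range_glue (range_of_allRange c_act9_1114) (range_glue (range_of_allRange c_act9_1115) (range_glue (range_of_allRange c_act9_1116) (range_glue (range_of_allRange c_act9_1117) (range_glue (range_of_allRange c_act9_1118) (range_of_allRange c_act9_1119))))))))))))))))))))))))))))))))))))))))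
theorem h_act9_p28 : ∀ i, 1370880 ≤ i → i < 1419840 → Nat.beq (actR9 i) i = true :=
  (range_glue (range_of_allRange c_act9_1120) (range_glue (range_of_allRange c_act9_1121) (range_glue (range_of_allRange c_act9_1122) (range_glue (range_of_allRange c_act9_1123) (range_glue (range_of_allRange c_act9_1124) (range_glue (range_of_allRange c_act9_1125) (range_glue (range_of_allRange c_act9_1126) (range_glue (range_of_allRange c_act9_1127) (range_glue (range_of_allRange c_act9_1128) (range_glue (range_of_allRange c_act9_1129) (range_glue (range_of_allRange c_act9_1130) (range_glue (range_of_allRange c_act9_1131) (range_glue (range_of_allRange c_act9_1132) (range_glue (range_of_allRange c_act9_1133) (range_glue (range_of_allRange c_act9_1134) (range_glue (range_of_allRange c_act9_1135) (range_glue (range_of_allRange c_act9_1136) (range_glue (range_of_allRange c_act9_1137) (range_glue (range_of_allRange c_act9_1138) (range_glue (range_of_allRange c_act9_1139) (range_glue (range_of_allRange c_act9_1140) (range_glue (range_of_allRange c_act9_1141) (range_glue (range_of_allRange c_act9_1142) (range_glue (range_of_allRange c_act9_1143) (range_glue (range_of_allRange c_act9_1144) (range_glue (range_of_allRange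 c_act9_1145) (range_glue (range_of_allRange c_act9_1146) (range_glue (range_of_allRange c_act9_1147) (range_glue (range_of_allRange c_act9_1148) (range_glue (range_of_allRange c_act9_1149) (range_glue (range_of_allRange c_act9_1150) (range_glue (range_of_allRange c_act9_1151) (range_glue (range_of_allRange c_act9_1152) (range_glue (range_of_allRange c_act9_1153) (range_glue (range_of_allRange c_act9_1154) (range_glue (range_of_allRange c_act9_1155) (range_glue (range_of_allRange c_act9_1156) (range_glue (range_of_allRange c_act9_1157) (range_glue (range_of_allRange c_act9_1158) (range_of_allRange c_act9_1159))))))))))))))))))))))))))))))))))))))))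
theorem h_act9_p29 : ∀ i, 1419840 ≤ i → i < 1468800 → Nat.beq (actR9 i) i = true :=
  (range_glue (range_of_allRange c_act9_1160) (range_glue (range_of_allRange c_act9_1161) (range_glue (range_of_allRange c_act9_1162) (range_glue (range_of_allRange c_act9_1163) (range_glue (range_of_allRange c_act9_1164) (range_glue (range_of_allRange c_act9_1165) (range_glue (range_of_allRange c_act9_1166) (range_glue (range_of_allRange c_act9_1167) (range_glue (range_of_allRange c_act9_1168) (range_glue (range_of_allRange c_act9_1169) (range_glue (range_of_allRange c_act9_1170) (range_glue (range_of_allRange c_act9_1171) (range_glue (range_of_allRange c_act9_1172) (range_glue (range_of_allRange c_act9_1173) (range_glue (range_of_allRange c_act9_1174) (range_glue (range_of_allRange c_act9_1175) (range_glue (range_of_allRange c_act9_1176) (range_glue (range_of_allRange c_act9_1177) (range_glue (range_of_allRange c_act9_1178) (range_glue (range_of_allRange c_act9_1179) (range_glue (range_of_allRange c_act9_1180) (range_glue (range_of_allRange c_act9_1181) (range_glue (range_of_allRange c_act9_1182) (range_glue (range_of_allRange c_act9_1183) (range_glue (range_of_allRange c_act9_1184) (range_glue (range_of_allRange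 c_act9_1185) (range_glue (range_of_allRange c_act9_1186) (range_glue (range_of_allRange c_act9_1187) (range_glue (range_of_allRange c_act9_1188) (range_glue (range_of_allRange c_act9_1189) (range_glue (range_of_allRange c_act9_1190) (range_glue (range_of_allRange c_act9_1191) (range_glue (range_of_allRange c_act9_1192) (range_glue (range_of_allRange c_act9_1193) (range_glue (range_of_allRange c_act9_1194) (range_glue (range_of_allRange c_act9_1195) (range_glue (range_of_allRange c_act9_1196) (range_glue (range_of_allRange c_act9_1197) (range_glue (range_of_allRange c_act9_1198) (range_of_allRange c_act9_1199))))))))))))))))))))))))))))))))))))))))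
theorem h_act9_p30 : ∀ i, 1468800 ≤ i → i < 1517760 → Nat.beq (actR9 i) i = true :=
  (range_glue (range_of_allRange c_act9_1200) (range_glue (range_of_allRange c_act9_1201) (range_glue (range_of_allRange c_act9_1202) (range_glue (range_of_allRange c_act9_1203) (range_glue (range_of_allRange c_act9_1204) (range_glue (range_of_allRange c_act9_1205) (range_glue (range_of_allRange c_act9_1206) (range_glue (range_of_allRange c_act9_1207) (range_glue (range_of_allRange c_act9_1208) (range_glue (range_of_allRange c_act9_1209) (range_glue (range_of_allRange c_act9_1210) (range_glue (range_of_allRange c_act9_1211) (range_glue (range_of_allRange c_act9_1212) (range_glue (range_of_allRange c_act9_1213) (range_glue (range_of_allRange c_act9_1214) (range_glue (range_of_allRange c_act9_1215) (range_glue (range_of_allRange c_act9_1216) (range_glue (range_of_allRange c_act9_1217) (range_glue (range_of_allRange c_act9_1218) (range_glue (range_of_allRange c_act9_1219) (range_glue (range_of_allRange c_act9_1220) (range_glue (range_of_allRange c_act9_1221) (range_glue (range_of_allRange c_act9_1222) (range_glue (range_of_allRange c_act9_1223) (range_glue (range_of_allRange c_act9_1224) (range_glue (range_of_allRange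 c_act9_1225) (range_glue (range_of_allRange c_act9_1226) (range_glue (range_of_allRange c_act9_1227) (range_glue (range_of_allRange c_act9_1228) (range_glue (range_of_allRange c_act9_1229) (range_glue (range_of_allRange c_act9_1230) (range_glue (range_of_allRange c_act9_1231) (range_glue (range_of_allRange c_act9_1232) (range_glue (range_of_allRange c_act9_1233) (range_glue (range_of_allRange c_act9_1234) (range_glue (range_of_allRange c_act9_1235) (range_glue (range_of_allRange c_act9_1236) (range_glue (range_of_allRange c_act9_1237) (range_glue (range_of_allRange c_act9_1238) (range_of_allRange c_act9_1239))))))))))))))))))))))))))))))))))))))))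
theorem h_act9_p31 : ∀ i, 1517760 ≤ i → i < 1539000 → Nat.beq (actR9 i) i = true :=
  (range_glue (range_of_allRange c_act9_1240) (range_glue (range_of_allRange c_act9_1241) (range_glue (range_of_allRange c_act9_1242) (range_glue (range_of_allRange c_act9_1243) (range_glue (range_of_allRange c_act9_1244) (range_glue (range_of_allRange c_act9_1245) (range_glue (range_of_allRange c_act9_1246) (range_glue (range_of_allRange c_act9_1247) (range_glue (range_of_allRange c_act9_1248) (range_glue (range_of_allRange c_act9_1249) (range_glue (range_of_allRange c_act9_1250) (range_glue (range_of_allRange c_act9_1251) (range_glue (range_of_allRange c_act9_1252) (range_glue (range_of_allRange c_act9_1253) (range_glue (range_of_allRange c_act9_1254) (range_glue (range_of_allRange c_act9_1255) (range_glue (range_of_allRange c_act9_1256) (range_of_allRange c_act9_1257))))))))))))))))))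
theorem h_act9 : ∀ i, 0 ≤ i → i < 1539000 → Nat.beq (actR9 i) i = true :=
  (range_glue h_act9_p0 (range_glue h_act9_p1 (range_glue h_act9_p2 (range_glue h_act9_p3 (range_glue h_act9_p4 (range_glue h_act9_p5 (range_glue h_act9_p6 (range_glue h_act9_p7 (range_glue h_act9_p8 (range_glue h_act9_p9 (range_glue h_act9_p10 (range_glue h_act9_p11 (range_glue h_act9_p12 (range_glue h_act9_p13 (range_glue h_act9_p14 (range_glue h_act9_p15 (range_glue h_act9_p16 (range_glue h_act9_p17 (range_glue h_act9_p18 (range_glue h_act9_p19 (range_glue h_act9_p20 (range_glue h_act9_p21 (range_glue h_act9_p22 (range_glue h_act9_p23 (range_glue h_act9_p24 (range_glue h_act9_p25 (range_glue h_act9_p26 (range_glue h_act9_p27 (range_glue h_act9_p28 (range_glue h_act9_p29 (range_glue h_act9_p30 h_act9_p31)))))))))))))))))))))))))))))))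
theorem h_act10_p0 : ∀ i, 0 ≤ i → i < 480000 → Nat.beq (actR10 i) i = true :=
  (range_glue (range_of_allRange c_act10_0) (range_glue (range_of_allRange c_act10_1) (range_glue (range_of_allRange c_act10_2) (range_glue (range_of_allRange c_act10_3) (range_glue (range_of_allRange c_act10_4) (range_glue (range_of_allRange c_act10_5) (range_glue (range_of_allRange c_act10_6) (range_glue (range_of_allRange c_act10_7) (range_glue (range_of_allRange c_act10_8) (range_glue (range_of_allRange c_act10_9) (range_glue (range_of_allRange c_act10_10) (range_glue (range_of_allRange c_act10_11) (range_glue (range_of_allRange c_act10_12) (range_glue (range_of_allRange c_act10_13) (range_glue (range_of_allRange c_act10_14) (range_glue (range_of_allRange c_act10_15) (range_glue (range_of_allRange c_act10_16) (range_glue (range_of_allRange c_act10_17) (range_glue (range_of_allRange c_act10_18) (range_glue (range_of_allRange c_act10_19) (range_glue (range_of_allRange c_act10_20) (range_glue (range_of_allRange c_act10_21) (range_glue (range_of_allRange c_act10_22) (range_glue (range_of_allRange c_act10_23) (range_glue (range_of_allRange c_act10_24) (range_glue (range_of_allRange c_act10_25) (range_glue (range_of_allRange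 c_act10_26) (range_glue (range_of_allRange c_act10_27) (range_glue (range_of_allRange c_act10_28) (range_glue (range_of_allRange c_act10_29) (range_glue (range_of_allRange c_act10_30) (range_glue (range_of_allRange c_act10_31) (range_glue (range_of_allRange c_act10_32) (range_glue (range_of_allRange c_act10_33) (range_glue (range_of_allRange c_act10_34) (range_glue (range_of_allRange c_act10_35) (range_glue (range_of_allRange c_act10_36) (range_glue (range_of_allRange c_act10_37) (range_glue (range_of_allRange c_act10_38) (range_of_allRange c_act10_39))))))))))))))))))))))))))))))))))))))))
theorem h_act10_p1 : ∀ i, 480000 ≤ i → i < 960000 → Nat.beq (actR10 i) i = true :=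
  (range_glue (range_of_allRange c_act10_40) (range_glue (range_of_allRange c_act10_41) (range_glue (range_of_allRange c_act10_42) (range_glue (range_of_allRange c_act10_43) (range_glue (range_of_allRange c_act10_44) (range_glue (range_of_allRange c_act10_45) (range_glue (range_of_allRange c_act10_46) (range_glue (range_of_allRange c_act10_47) (range_glue (range_of_allRange c_act10_48) (range_glue (range_of_allRange c_act10_49) (range_glue (range_of_allRange c_act10_50) (range_glue (range_of_allRange c_act10_51) (range_glue (range_of_allRange c_act10_52) (range_glue (range_of_allRange c_act10_53) (range_glue (range_of_allRange c_act10_54) (range_glue (range_of_allRange c_act10_55) (range_glue (range_of_allRange c_act10_56) (range_glue (range_of_allRange c_act10_57) (range_glue (range_of_allRange c_act10_58) (range_glue (range_of_allRange c_act10_59) (range_glue (range_of_allRange c_act10_60) (range_glue (range_of_allRange c_act10_61) (range_glue (range_of_allRange c_act10_62) (range_glue (range_of_allRange c_act10_63) (range_glue (range_of_allRange c_act10_64) (range_glue (range_of_allRange c_act10_65) (range_glue (range_of_allRange c_act10_66) (range_glue (range_of_allRange c_act10_67)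 (range_glue (range_of_allRange c_act10_68) (range_glue (range_of_allRange c_act10_69) (range_glue (range_of_allRange c_act10_70) (range_glue (range_of_allRange c_act10_71) (range_glue (range_of_allRange c_act10_72) (range_glue (range_of_allRange c_act10_73) (range_glue (range_of_allRange c_act10_74) (range_glue (range_of_allRange c_act10_75) (range_glue (range_of_allRange c_act10_76) (range_glue (range_of_allRange c_act10_77) (range_glue (range_of_allRange c_act10_78) (range_of_allRange c_act10_79))))))))))))))))))))))))))))))))))))))))
theorem h_act10_p2 : ∀ i, 960000 ≤ i → i < 1440000 → Nat.beq (actR10 i) i = true :=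
  (range_glue (range_of_allRange c_act10_80) (range_glue (range_of_allRange c_act10_81) (range_glue (range_of_allRange c_act10_82) (range_glue (range_of_allRange c_act10_83) (range_glue (range_of_allRange c_act10_84) (range_glue (range_of_allRange c_act10_85) (range_glue (range_of_allRange c_act10_86) (range_glue (range_of_allRange c_act10_87) (range_glue (range_of_allRange c_act10_88) (range_glue (range_of_allRange c_act10_89) (range_glue (range_of_allRange c_act10_90) (range_glue (range_of_allRange c_act10_91) (range_glue (range_of_allRange c_act10_92) (range_glue (range_of_allRange c_act10_93) (range_glue (range_of_allRange c_act10_94) (range_glue (range_of_allRange c_act10_95) (range_glue (range_of_allRange c_act10_96) (range_glue (range_of_allRange c_act10_97) (range_glue (range_of_allRange c_act10_98) (range_glue (range_of_allRange c_act10_99) (range_glue (range_of_allRange c_act10_100) (range_glue (range_of_allRange c_act10_101) (range_glue (range_of_allRange c_act10_102) (range_glue (range_of_allRange c_act10_103) (range_glue (range_of_allRange c_act10_104) (range_glue (range_of_allRange c_act10_105) (range_glue (range_of_allRange c_act10_106) (range_glue (range_of_allRange c_act10_107)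 (range_glue (range_of_allRange c_act10_108) (range_glue (range_of_allRange c_act10_109) (range_glue (range_of_allRange c_act10_110) (range_glue (range_of_allRange c_act10_111) (range_glue (range_of_allRange c_act10_112) (range_glue (range_of_allRange c_act10_113) (range_glue (range_of_allRange c_act10_114) (range_glue (range_of_allRange c_act10_115) (range_glue (range_of_allRange c_act10_116) (range_glue (range_of_allRange c_act10_117) (range_glue (range_of_allRange c_act10_118) (range_of_allRange c_act10_119))))))))))))))))))))))))))))))))))))))))
theorem h_act10_p3 : ∀ i, 1440000 ≤ i → i < 1539000 → Nat.beq (actR10 i) i = true :=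
  (range_glue (range_of_allRange c_act10_120) (range_glue (range_of_allRange c_act10_121) (range_glue (range_of_allRange c_act10_122) (range_glue (range_of_allRange c_act10_123) (range_glue (range_of_allRange c_act10_124) (range_glue (range_of_allRange c_act10_125) (range_glue (range_of_allRange c_act10_126) (range_glue (range_of_allRange c_act10_127) (range_of_allRange c_act10_128)))))))))
theorem h_act10 : ∀ i, 0 ≤ i → i < 1539000 → Nat.beq (actR10 i) i = true :=
  (range_glue h_act10_p0 (range_glue h_act10_p1 (range_glue h_act10_p2 h_act10_p3)))
theorem h_act11_p0 : ∀ i, 0 ≤ i → i < 480000 → Nat.beq (actR11 i) i = true :=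
  (range_glue (range_of_allRange c_act11_0) (range_glue (range_of_allRange c_act11_1) (range_glue (range_of_allRange c_act11_2) (range_glue (range_of_allRange c_act11_3) (range_glue (range_of_allRange c_act11_4) (range_glue (range_of_allRange c_act11_5) (range_glue (range_of_allRange c_act11_6) (range_glue (range_of_allRange c_act11_7) (range_glue (range_of_allRange c_act11_8) (range_glue (range_of_allRange c_act11_9) (range_glue (range_of_allRange c_act11_10) (range_glue (range_of_allRange c_act11_11) (range_glue (range_of_allRange c_act11_12) (range_glue (range_of_allRange c_act11_13) (range_glue (range_of_allRange c_act11_14) (range_glue (range_of_allRange c_act11_15) (range_glue (range_of_allRange c_act11_16) (range_glue (range_of_allRange c_act11_17) (range_glue (range_of_allRange c_act11_18) (range_glue (range_of_allRange c_act11_19) (range_glue (range_of_allRange c_act11_20) (range_glue (range_of_allRange c_act11_21) (range_glue (range_of_allRange c_act11_22) (range_glue (range_of_allRange c_act11_23) (range_glue (range_of_allRange c_act11_24) (range_glue (range_of_allRange c_act11_25) (range_glue (range_of_allRange c_act11_26) (range_glue (range_of_allRange c_act11_27) (range_glue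 (range_of_allRange c_act11_28) (range_glue (range_of_allRange c_act11_29) (range_glue (range_of_allRange c_act11_30) (range_glue (range_of_allRange c_act11_31) (range_glue (range_of_allRange c_act11_32) (range_glue (range_of_allRange c_act11_33) (range_glue (range_of_allRange c_act11_34) (range_glue (range_of_allRange c_act11_35) (range_glue (range_of_allRange c_act11_36) (range_glue (range_of_allRange c_act11_37) (range_glue (range_of_allRange c_act11_38) (range_of_allRange c_act11_39))))))))))))))))))))))))))))))))))))))))
theorem h_act11_p1 : ∀ i, 480000 ≤ i → i < 960000 → Nat.beq (actR11 i) i = true :=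
  (range_glue (range_of_allRange c_act11_40) (range_glue (range_of_allRange c_act11_41) (range_glue (range_of_allRange c_act11_42) (range_glue (range_of_allRange c_act11_43) (range_glue (range_of_allRange c_act11_44) (range_glue (range_of_allRange c_act11_45) (range_glue (range_of_allRange c_act11_46) (range_glue (range_of_allRange c_act11_47) (range_glue (range_of_allRange c_act11_48) (range_glue (range_of_allRange c_act11_49) (range_glue (range_of_allRange c_act11_50) (range_glue (range_of_allRange c_act11_51) (range_glue (range_of_allRange c_act11_52) (range_glue (range_of_allRange c_act11_53) (range_glue (range_of_allRange c_act11_54) (range_glue (range_of_allRange c_act11_55) (range_glue (range_of_allRange c_act11_56) (range_glue (range_of_allRange c_act11_57) (range_glue (range_of_allRange c_act11_58) (range_glue (range_of_allRange c_act11_59) (range_glue (range_of_allRange c_act11_60) (range_glue (range_of_allRange c_act11_61) (range_glue (range_of_allRange c_act11_62) (range_glue (range_of_allRange c_act11_63) (range_glue (range_of_allRange c_act11_64) (range_glue (range_of_allRange c_act11_65) (range_glue (range_of_allRange c_act11_66) (range_glue (range_of_allRange c_act11_67)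 (range_glue (range_of_allRange c_act11_68) (range_glue (range_of_allRange c_act11_69) (range_glue (range_of_allRange c_act11_70) (range_glue (range_of_allRange c_act11_71) (range_glue (range_of_allRange c_act11_72) (range_glue (range_of_allRange c_act11_73) (range_glue (range_of_allRange c_act11_74) (range_glue (range_of_allRange c_act11_75) (range_glue (range_of_allRange c_act11_76) (range_glue (range_of_allRange c_act11_77) (range_glue (range_of_allRange c_act11_78) (range_of_allRange c_act11_79))))))))))))))))))))))))))))))))))))))))
theorem h_act11_p2 : ∀ i, 960000 ≤ i → i < 1440000 → Nat.beq (actR11 i) i = true :=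
  (range_glue (range_of_allRange c_act11_80) (range_glue (range_of_allRange c_act11_81) (range_glue (range_of_allRange c_act11_82) (range_glue (range_of_allRange c_act11_83) (range_glue (range_of_allRange c_act11_84) (range_glue (range_of_allRange c_act11_85) (range_glue (range_of_allRange c_act11_86) (range_glue (range_of_allRange c_act11_87) (range_glue (range_of_allRange c_act11_88) (range_glue (range_of_allRange c_act11_89) (range_glue (range_of_allRange c_act11_90) (range_glue (range_of_allRange c_act11_91) (range_glue (range_of_allRange c_act11_92) (range_glue (range_of_allRange c_act11_93) (range_glue (range_of_allRange c_act11_94) (range_glue (range_of_allRange c_act11_95) (range_glue (range_of_allRange c_act11_96) (range_glue (range_of_allRange c_act11_97) (range_glue (range_of_allRange c_act11_98) (range_glue (range_of_allRange c_act11_99) (range_glue (range_of_allRange c_act11_100) (range_glue (range_of_allRange c_act11_101) (range_glue (range_of_allRange c_act11_102) (range_glue (range_of_allRange c_act11_103) (range_glue (range_of_allRange c_act11_104) (range_glue (range_of_allRange c_act11_105) (range_glue (range_of_allRange c_act11_106) (range_glue (range_of_allRange c_act11_107)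 (range_glue (range_of_allRange c_act11_108) (range_glue (range_of_allRange c_act11_109) (range_glue (range_of_allRange c_act11_110) (range_glue (range_of_allRange c_act11_111) (range_glue (range_of_allRange c_act11_112) (range_glue (range_of_allRange c_act11_113) (range_glue (range_of_allRange c_act11_114) (range_glue (range_of_allRange c_act11_115) (range_glue (range_of_allRange c_act11_116) (range_glue (range_of_allRange c_act11_117) (range_glue (range_of_allRange c_act11_118) (range_of_allRange c_act11_119))))))))))))))))))))))))))))))))))))))))
theorem h_act11_p3 : ∀ i, 1440000 ≤ i → i < 1539000 → Nat.beq (actR11 i) i = true :=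
  (range_glue (range_of_allRange c_act11_120) (range_glue (range_of_allRange c_act11_121) (range_glue (range_of_allRange c_act11_122) (range_glue (range_of_allRange c_act11_123) (range_glue (range_of_allRange c_act11_124) (range_glue (range_of_allRange c_act11_125) (range_glue (range_of_allRange c_act11_126) (range_glue (range_of_allRange c_act11_127) (range_of_allRange c_act11_128)))))))))
theorem h_act11 : ∀ i, 0 ≤ i → i < 1539000 → Nat.beq (actR11 i) i = true :=
  (range_glue h_act11_p0 (range_glue h_act11_p1 (range_glue h_act11_p2 h_act11_p3)))
theorem h_act12_p0 : ∀ i, 0 ≤ i → i < 600000 → Nat.beq (actR12 i) i = true :=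
  (range_glue (range_of_allRange c_act12_0) (range_glue (range_of_allRange c_act12_1) (range_glue (range_of_allRange c_act12_2) (range_glue (range_of_allRange c_act12_3) (range_glue (range_of_allRange c_act12_4) (range_glue (range_of_allRange c_act12_5) (range_glue (range_of_allRange c_act12_6) (range_glue (range_of_allRange c_act12_7) (range_glue (range_of_allRange c_act12_8) (range_glue (range_of_allRange c_act12_9) (range_glue (range_of_allRange c_act12_10) (range_glue (range_of_allRange c_act12_11) (range_glue (range_of_allRange c_act12_12) (range_glue (range_of_allRange c_act12_13) (range_glue (range_of_allRange c_act12_14) (range_glue (range_of_allRange c_act12_15) (range_glue (range_of_allRange c_act12_16) (range_glue (range_of_allRange c_act12_17) (range_glue (range_of_allRange c_act12_18) (range_glue (range_of_allRange c_act12_19) (range_glue (range_of_allRange c_act12_20) (range_glue (range_of_allRange c_act12_21) (range_glue (range_of_allRange c_act12_22) (range_glue (range_of_allRange c_act12_23) (range_glue (range_of_allRange c_act12_24) (range_glue (range_of_allRange c_act12_25) (range_glue (range_of_allRange c_act12_26) (range_glue (range_of_allRange c_act12_27) (range_glue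 (range_of_allRange c_act12_28) (range_glue (range_of_allRange c_act12_29) (range_glue (range_of_allRange c_act12_30) (range_glue (range_of_allRange c_act12_31) (range_glue (range_of_allRange c_act12_32) (range_glue (range_of_allRange c_act12_33) (range_glue (range_of_allRange c_act12_34) (range_glue (range_of_allRange c_act12_35) (range_glue (range_of_allRange c_act12_36) (range_glue (range_of_allRange c_act12_37) (range_glue (range_of_allRange c_act12_38) (range_of_allRange c_act12_39))))))))))))))))))))))))))))))))))))))))
theorem h_act12_p1 : ∀ i, 600000 ≤ i → i < 1200000 → Nat.beq (actR12 i) i = true :=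
  (range_glue (range_of_allRange c_act12_40) (range_glue (range_of_allRange c_act12_41) (range_glue (range_of_allRange c_act12_42) (range_glue (range_of_allRange c_act12_43) (range_glue (range_of_allRange c_act12_44) (range_glue (range_of_allRange c_act12_45) (range_glue (range_of_allRange c_act12_46) (range_glue (range_of_allRange c_act12_47) (range_glue (range_of_allRange c_act12_48) (range_glue (range_of_allRange c_act12_49) (range_glue (range_of_allRange c_act12_50) (range_glue (range_of_allRange c_act12_51) (range_glue (range_of_allRange c_act12_52) (range_glue (range_of_allRange c_act12_53) (range_glue (range_of_allRange c_act12_54) (range_glue (range_of_allRange c_act12_55) (range_glue (range_of_allRange c_act12_56) (range_glue (range_of_allRange c_act12_57) (range_glue (range_of_allRange c_act12_58) (range_glue (range_of_allRange c_act12_59) (range_glue (range_of_allRange c_act12_60) (range_glue (range_of_allRange c_act12_61) (range_glue (range_of_allRange c_act12_62) (range_glue (range_of_allRange c_act12_63) (range_glue (range_of_allRange c_act12_64) (range_glue (range_of_allRange c_act12_65) (range_glue (range_of_allRange c_act12_66) (range_glue (range_of_allRange c_act12_67)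 (range_glue (range_of_allRange c_act12_68) (range_glue (range_of_allRange c_act12_69) (range_glue (range_of_allRange c_act12_70) (range_glue (range_of_allRange c_act12_71) (range_glue (range_of_allRange c_act12_72) (range_glue (range_of_allRange c_act12_73) (range_glue (range_of_allRange c_act12_74) (range_glue (range_of_allRange c_act12_75) (range_glue (range_of_allRange c_act12_76) (range_glue (range_of_allRange c_act12_77) (range_glue (range_of_allRange c_act12_78) (range_of_allRange c_act12_79))))))))))))))))))))))))))))))))))))))))
theorem h_act12_p2 : ∀ i, 1200000 ≤ i → i < 1539000 → Nat.beq (actR12 i) i = true :=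
  (range_glue (range_of_allRange c_act12_80) (range_glue (range_of_allRange c_act12_81) (range_glue (range_of_allRange c_act12_82) (range_glue (range_of_allRange c_act12_83) (range_glue (range_of_allRange c_act12_84) (range_glue (range_of_allRange c_act12_85) (range_glue (range_of_allRange c_act12_86) (range_glue (range_of_allRange c_act12_87) (range_glue (range_of_allRange c_act12_88) (range_glue (range_of_allRange c_act12_89) (range_glue (range_of_allRange c_act12_90) (range_glue (range_of_allRange c_act12_91) (range_glue (range_of_allRange c_act12_92) (range_glue (range_of_allRange c_act12_93) (range_glue (range_of_allRange c_act12_94) (range_glue (range_of_allRange c_act12_95) (range_glue (range_of_allRange c_act12_96) (range_glue (range_of_allRange c_act12_97) (range_glue (range_of_allRange c_act12_98) (range_glue (range_of_allRange c_act12_99) (range_glue (range_of_allRange c_act12_100) (range_glue (range_of_allRange c_act12_101) (range_of_allRange c_act12_102)))))))))))))))))))))))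
theorem h_act12 : ∀ i, 0 ≤ i → i < 1539000 → Nat.beq (actR12 i) i = true :=
  (range_glue h_act12_p0 (range_glue h_act12_p1 h_act12_p2))
theorem h_act13_p0 : ∀ i, 0 ≤ i → i < 400000 → Nat.beq (actR13 i) i = true :=
  (range_glue (range_of_allRange c_act13_0) (range_glue (range_of_allRange c_act13_1) (range_glue (range_of_allRange c_act13_2) (range_glue (range_of_allRange c_act13_3) (range_glue (range_of_allRange c_act13_4) (range_glue (range_of_allRange c_act13_5) (range_glue (range_of_allRange c_act13_6) (range_glue (range_of_allRange c_act13_7) (range_glue (range_of_allRange c_act13_8) (range_glue (range_of_allRange c_act13_9) (range_glue (range_of_allRange c_act13_10) (range_glue (range_of_allRange c_act13_11) (range_glue (range_of_allRange c_act13_12) (range_glue (range_of_allRange c_act13_13) (range_glue (range_of_allRange c_act13_14) (range_glue (range_of_allRange c_act13_15) (range_glue (range_of_allRange c_act13_16) (range_glue (range_of_allRange c_act13_17) (range_glue (range_of_allRange c_act13_18) (range_glue (range_of_allRange c_act13_19) (range_glue (range_of_allRange c_act13_20) (range_glue (range_of_allRange c_act13_21) (range_glue (range_of_allRange c_act13_22) (range_glue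 (range_of_allRange c_act13_23) (range_glue (range_of_allRange c_act13_24) (range_glue (range_of_allRange c_act13_25) (range_glue (range_of_allRange c_act13_26) (range_glue (range_of_allRange c_act13_27) (range_glue (range_of_allRange c_act13_28) (range_glue (range_of_allRange c_act13_29) (range_glue (range_of_allRange c_act13_30) (range_glue (range_of_allRange c_act13_31) (range_glue (range_of_allRange c_act13_32) (range_glue (range_of_allRange c_act13_33) (range_glue (range_of_allRange c_act13_34) (range_glue (range_of_allRange c_act13_35) (range_glue (range_of_allRange c_act13_36) (range_glue (range_of_allRange c_act13_37) (range_glue (range_of_allRange c_act13_38) (range_of_allRange c_act13_39))))))))))))))))))))))))))))))))))))))))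
theorem h_act13_p1 : ∀ i, 400000 ≤ i → i < 800000 → Nat.beq (actR13 i) i = true :=
  (range_glue (range_of_allRange c_act13_40) (range_glue (range_of_allRange c_act13_41) (range_glue (range_of_allRange c_act13_42) (range_glue (range_of_allRange c_act13_43) (range_glue (range_of_allRange c_act13_44) (range_glue (range_of_allRange c_act13_45) (range_glue (range_of_allRange c_act13_46) (range_glue (range_of_allRange c_act13_47) (range_glue (range_of_allRange c_act13_48) (range_glue (range_of_allRange c_act13_49) (range_glue (range_of_allRange c_act13_50) (range_glue (range_of_allRange c_act13_51) (range_glue (range_of_allRange c_act13_52) (range_glue (range_of_allRange c_act13_53) (range_glue (range_of_allRange c_act13_54) (range_glue (range_of_allRange c_act13_55) (range_glue (range_of_allRange c_act13_56) (range_glue (range_of_allRange c_act13_57) (range_glue (range_of_allRange c_act13_58) (range_glue (range_of_allRange c_act13_59) (range_glue (range_of_allRange c_act13_60) (range_glue (range_of_allRange c_act13_61) (range_glue (range_of_allRange c_act13_62) (range_glue (range_of_allRange c_act13_63) (range_glue (range_of_allRange c_act13_64) (range_glue (range_of_allRange c_act13_65) (range_glue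 (range_of_allRange c_act13_66) (range_glue (range_of_allRange c_act13_67) (range_glue (range_of_allRange c_act13_68) (range_glue (range_of_allRange c_act13_69) (range_glue (range_of_allRange c_act13_70) (range_glue (range_of_allRange c_act13_71) (range_glue (range_of_allRange c_act13_72) (range_glue (range_of_allRange c_act13_73) (range_glue (range_of_allRange c_act13_74) (range_glue (range_of_allRange c_act13_75) (range_glue (range_of_allRange c_act13_76) (range_glue (range_of_allRange c_act13_77) (range_glue (range_of_allRange c_act13_78) (range_of_allRange c_act13_79))))))))))))))))))))))))))))))))))))))))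
theorem h_act13_p2 : ∀ i, 800000 ≤ i → i < 1200000 → Nat.beq (actR13 i) i = true :=
  (range_glue (range_of_allRange c_act13_80) (range_glue (range_of_allRange c_act13_81) (range_glue (range_of_allRange c_act13_82) (range_glue (range_of_allRange c_act13_83) (range_glue (range_of_allRange c_act13_84) (range_glue (range_of_allRange c_act13_85) (range_glue (range_of_allRange c_act13_86) (range_glue (range_of_allRange c_act13_87) (range_glue (range_of_allRange c_act13_88) (range_glue (range_of_allRange c_act13_89) (range_glue (range_of_allRange c_act13_90) (range_glue (range_of_allRange c_act13_91) (range_glue (range_of_allRange c_act13_92) (range_glue (range_of_allRange c_act13_93) (range_glue (range_of_allRange c_act13_94) (range_glue (range_of_allRange c_act13_95) (range_glue (range_of_allRange c_act13_96) (range_glue (range_of_allRange c_act13_97) (range_glue (range_of_allRange c_act13_98) (range_glue (range_of_allRange c_act13_99) (range_glue (range_of_allRange c_act13_100) (range_glue (range_of_allRange c_act13_101) (range_glue (range_of_allRange c_act13_102) (range_glue (range_of_allRange c_act13_103) (range_glue (range_of_allRange c_act13_104) (range_glue (range_of_allRange c_act13_105)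 (range_glue (range_of_allRange c_act13_106) (range_glue (range_of_allRange c_act13_107) (range_glue (range_of_allRange c_act13_108) (range_glue (range_of_allRange c_act13_109) (range_glue (range_of_allRange c_act13_110) (range_glue (range_of_allRange c_act13_111) (range_glue (range_of_allRange c_act13_112) (range_glue (range_of_allRange c_act13_113) (range_glue (range_of_allRange c_act13_114) (range_glue (range_of_allRange c_act13_115) (range_glue (range_of_allRange c_act13_116) (range_glue (range_of_allRange c_act13_117) (range_glue (range_of_allRange c_act13_118) (range_of_allRange c_act13_119))))))))))))))))))))))))))))))))))))))))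
theorem h_act13_p3 : ∀ i, 1200000 ≤ i → i < 1539000 → Nat.beq (actR13 i) i = true :=
  (range_glue (range_of_allRange c_act13_120) (range_glue (range_of_allRange c_act13_121) (range_glue (range_of_allRange c_act13_122) (range_glue (range_of_allRange c_act13_123) (range_glue (range_of_allRange c_act13_124) (range_glue (range_of_allRange c_act13_125) (range_glue (range_of_allRange c_act13_126) (range_glue (range_of_allRange c_act13_127) (range_glue (range_of_allRange c_act13_128) (range_glue (range_of_allRange c_act13_129) (range_glue (range_of_allRange c_act13_130) (range_glue (range_of_allRange c_act13_131) (range_glue (range_of_allRange c_act13_132) (range_glue (range_of_allRange c_act13_133) (range_glue (range_of_allRange c_act13_134) (range_glue (range_of_allRange c_act13_135) (range_glue (range_of_allRange c_act13_136) (range_glue (range_of_allRange c_act13_137) (range_glue (range_of_allRange c_act13_138) (range_glue (range_of_allRange c_act13_139) (range_glue (range_of_allRange c_act13_140) (range_glue (range_of_allRange c_act13_141) (range_glue (range_of_allRange c_act13_142) (range_glue (range_of_allRange c_act13_143) (range_glue (range_of_allRange c_act13_144) (range_glue (range_of_allRange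 c_act13_145) (range_glue (range_of_allRange c_act13_146) (range_glue (range_of_allRange c_act13_147) (range_glue (range_of_allRange c_act13_148) (range_glue (range_of_allRange c_act13_149) (range_glue (range_of_allRange c_act13_150) (range_glue (range_of_allRange c_act13_151) (range_glue (range_of_allRange c_act13_152) (range_of_allRange c_act13_153))))))))))))))))))))))))))))))))))
theorem h_act13 : ∀ i, 0 ≤ i → i < 1539000 → Nat.beq (actR13 i) i = true :=
  (range_glue h_act13_p0 (range_glue h_act13_p1 (range_glue h_act13_p2 h_act13_p3)))

theorem checked : T.Checked D where
  hz := c_zero
  hn := fun d h0 hd => h_names d h0 hd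
  hb := fun j hj => allBelow_eq_true.1 c_base j hj
  hr := fun t h1 h2 => h_rel t h1 h2
  hfin := fun i x hi hx => h_fin i (Nat.zero_le _) hi x hx
  hperm := fun i x hi hx => h_perm i (Nat.zero_le _) hi x hx
  hlet := fun x hx => allBelow_eq_true.1 c_let x hx
  hcls := fun d h0 hd => h_cls d h0 hd
  hrep := fun i hi => h_rep i (Nat.zero_le _) hi
  hcls0 := c_cls0
  hname0 := c_name0
  hN := by decide
  hM := by decide

theorem extra_le : ∀ r ∈ extraL, ∀ x ∈ r, x ≤ PHN.P.k := by
  intro u hu x hx
  have h1 := List.all_eq_true.1 c_extra u hu
  exact le_of_lt (ble_succ (List.all_eq_true.1 h1 x hx))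

theorem h_act : ∀ L ∈ PHN.P.real, ∀ i, i < T.N → Tab.relActOK T D L i = true := by
  rw [c_real]
  intro L hL
  simp only [realLit, List.mem_cons, List.not_mem_nil, or_false] at hL
  rcases hL with rfl | rfl | rfl | rfl | rfl | rfl | rfl | rfl | rfl | rfl | rfl | rfl | rfl | rfl
  · intro i hi
    rw [Tab.relActOK, ← actR0_eq]
    exact h_act0 i (Nat.zero_le _) hi
  · intro i hi
    rw [Tab.relActOK, ← actR1_eq]
    exact h_act1 i (Nat.zero_le _) hi
  · intro i hi
    rw [Tab.relActOK, ← actR2_eq]
    exact h_act2 i (Nat.zero_le _) hi
  · intro i hi
    rw [Tab.relActOK, ← actR3_eq]
    exact h_act3 i (Nat.zero_le _) hi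
  · intro i hi
    rw [Tab.relActOK, ← actR4_eq]
    exact h_act4 i (Nat.zero_le _) hi
  · intro i hi
    rw [Tab.relActOK, ← actR5_eq]
    exact h_act5 i (Nat.zero_le _) hi
  · intro i hi
    rw [Tab.relActOK, ← actR6_eq]
    exact h_act6 i (Nat.zero_le _) hi
  · intro i hi
    rw [Tab.relActOK, ← actR7_eq]
    exact h_act7 i (Nat.zero_le _) hi
  · intro i hi
    rw [Tab.relActOK, ← actR8_eq]
    exact h_act8 i (Nat.zero_le _) hi
  · intro i hi
    rw [Tab.relActOK, ← actR9_eq]
    exact h_act9 i (Nat.zero_le _) hi
  · intro i hi
    rw [Tab.relActOK, ← actR10_eq]
    exact h_act10 i (Nat.zero_le _) hi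
  · intro i hi
    rw [Tab.relActOK, ← actR11_eq]
    exact h_act11 i (Nat.zero_le _) hi
  · intro i hi
    rw [Tab.relActOK, ← actR12_eq]
    exact h_act12 i (Nat.zero_le _) hi
  · intro i hi
    rw [Tab.relActOK, ← actR13_eq]
    exact h_act13 i (Nat.zero_le _) hi

theorem xinst (hx : ∀ r ∈ extraL, Log.wordP PHN.P.gR r = 1) : XInst PHN.P extraL T D subs where
  hP := PHN.valid
  hk := rfl
  hinv := rfl
  hsubs := by
    intro u hu x hx
    have h1 := List.all_eq_true.1 c_subs u hu
    exact ble_succ (List.all_eq_true.1 h1 x hx)
  hextra := fun r hr => ⟨extra_le r hr, hx r hr⟩
  htab := c_tab
  hC := checked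
  hact := h_act
  hsubfix := fun u hu => beq_eq (List.all_eq_true.1 c_subfix u hu)

theorem orb_inv_0 : ∀ j, 1 ≤ j → j < 1409 → Tab.orbInvOK T D subs 1 1409 j = true :=
  (range_of_allRange c_oinv0_0)
theorem orb_tree0_0 : ∀ j, 2 ≤ j → j < 1409 → Tab.orbTreeOK T D subs oparTab olabTab 1 j = true :=
  (range_of_allRange c_otree0_0)
theorem orb_tree_0 : ∀ j, 1 < j → j < 1409 → Tab.orbTreeOK T D subs oparTab olabTab 1 j = true :=
  fun j h1 h2 => orb_tree0_0 j h1 h2
theorem orb_inv_1 : ∀ j, 1409 ≤ j → j < 3609 → Tab.orbInvOK T D subs 1409 3609 j = true :=
  (range_of_allRange c_oinv1_0)
theorem orb_tree0_1 : ∀ j, 1410 ≤ j → j < 3609 → Tab.orbTreeOK T D subs oparTab olabTab 1409 j = true :=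
  (range_of_allRange c_otree1_0)
theorem orb_tree_1 : ∀ j, 1409 < j → j < 3609 → Tab.orbTreeOK T D subs oparTab olabTab 1409 j = true :=
  fun j h1 h2 => orb_tree0_1 j h1 h2
theorem orb_inv_2 : ∀ j, 3609 ≤ j → j < 9384 → Tab.orbInvOK T D subs 3609 9384 j = true :=
  (range_of_allRange c_oinv2_0)
theorem orb_tree0_2 : ∀ j, 3610 ≤ j → j < 9384 → Tab.orbTreeOK T D subs oparTab olabTab 3609 j = true :=
  (range_of_allRange c_otree2_0)
theorem orb_tree_2 : ∀ j, 3609 < j → j < 9384 → Tab.orbTreeOK T D subs oparTab olabTab 3609 j = true :=
  fun j h1 h2 => orb_tree0_2 j h1 h2
theorem orb_inv_3 : ∀ j, 9384 ≤ j → j < 44584 → Tab.orbInvOK T D subs 9384 44584 j = true :=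
  (range_glue (range_of_allRange c_oinv3_0) (range_glue (range_of_allRange c_oinv3_1) (range_glue (range_of_allRange c_oinv3_2) (range_of_allRange c_oinv3_3))))
theorem orb_tree0_3 : ∀ j, 9385 ≤ j → j < 44584 → Tab.orbTreeOK T D subs oparTab olabTab 9384 j = true :=
  (range_glue (range_of_allRange c_otree3_0) (range_of_allRange c_otree3_1))
theorem orb_tree_3 : ∀ j, 9384 < j → j < 44584 → Tab.orbTreeOK T D subs oparTab olabTab 9384 j = true :=
  fun j h1 h2 => orb_tree0_3 j h1 h2
theorem orb_inv_4 : ∀ j, 44584 ≤ j → j < 167784 → Tab.orbInvOK T D subs 44584 167784 j = true :=
  (range_glue (range_of_allRange c_oinv4_0) (range_glue (range_of_allRange c_oinv4_1) (range_glue (range_of_allRange c_oinv4_2) (range_glue (range_of_allRange c_oinv4_3) (range_glue (range_of_allRange c_oinv4_4) (range_glue (range_of_allRange c_oinv4_5) (range_glue (range_of_allRange c_oinv4_6) (range_glue (range_of_allRange c_oinv4_7) (range_glue (range_of_allRange c_oinv4_8) (range_glue (range_of_allRange c_oinv4_9) (range_glue (range_of_allRange c_oinv4_10) (range_glue (range_of_allRange c_oinv4_11) (range_of_allRange c_oinv4_12)))))))))))))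
theorem orb_tree0_4 : ∀ j, 44585 ≤ j → j < 167784 → Tab.orbTreeOK T D subs oparTab olabTab 44584 j = true :=
  (range_glue (range_of_allRange c_otree4_0) (range_glue (range_of_allRange c_otree4_1) (range_glue (range_of_allRange c_otree4_2) (range_glue (range_of_allRange c_otree4_3) (range_glue (range_of_allRange c_otree4_4) (range_glue (range_of_allRange c_otree4_5) (range_of_allRange c_otree4_6)))))))
theorem orb_tree_4 : ∀ j, 44584 < j → j < 167784 → Tab.orbTreeOK T D subs oparTab olabTab 44584 j = true :=
  fun j h1 h2 => orb_tree0_4 j h1 h2
theorem orb_inv_5 : ∀ j, 167784 ≤ j → j < 444984 → Tab.orbInvOK T D subs 167784 444984 j = true :=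
  (range_glue (range_of_allRange c_oinv5_0) (range_glue (range_of_allRange c_oinv5_1) (range_glue (range_of_allRange c_oinv5_2) (range_glue (range_of_allRange c_oinv5_3) (range_glue (range_of_allRange c_oinv5_4) (range_glue (range_of_allRange c_oinv5_5) (range_glue (range_of_allRange c_oinv5_6) (range_glue (range_of_allRange c_oinv5_7) (range_glue (range_of_allRange c_oinv5_8) (range_glue (range_of_allRange c_oinv5_9) (range_glue (range_of_allRange c_oinv5_10) (range_glue (range_of_allRange c_oinv5_11) (range_glue (range_of_allRange c_oinv5_12) (range_glue (range_of_allRange c_oinv5_13) (range_glue (range_of_allRange c_oinv5_14) (range_glue (range_of_allRange c_oinv5_15) (range_glue (range_of_allRange c_oinv5_16) (range_glue (range_of_allRange c_oinv5_17) (range_glue (range_of_allRange c_oinv5_18) (range_glue (range_of_allRange c_oinv5_19) (range_glue (range_of_allRange c_oinv5_20) (range_glue (range_of_allRange c_oinv5_21) (range_glue (range_of_allRange c_oinv5_22) (range_glue (range_of_allRange c_oinv5_23) (range_glue (range_of_allRange c_oinv5_24) (range_glue (range_of_allRange c_oinv5_25) (range_glue (range_of_allRange c_oinv5_26) (range_of_allRange c_oinv5_27))))))))))))))))))))))))))))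
theorem orb_tree0_5 : ∀ j, 167785 ≤ j → j < 444984 → Tab.orbTreeOK T D subs oparTab olabTab 167784 j = true :=
  (range_glue (range_of_allRange c_otree5_0) (range_glue (range_of_allRange c_otree5_1) (range_glue (range_of_allRange c_otree5_2) (range_glue (range_of_allRange c_otree5_3) (range_glue (range_of_allRange c_otree5_4) (range_glue (range_of_allRange c_otree5_5) (range_glue (range_of_allRange c_otree5_6) (range_glue (range_of_allRange c_otree5_7) (range_glue (range_of_allRange c_otree5_8) (range_glue (range_of_allRange c_otree5_9) (range_glue (range_of_allRange c_otree5_10) (range_glue (range_of_allRange c_otree5_11) (range_glue (range_of_allRange c_otree5_12) (range_of_allRange c_otree5_13))))))))))))))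
theorem orb_tree_5 : ∀ j, 167784 < j → j < 444984 → Tab.orbTreeOK T D subs oparTab olabTab 167784 j = true :=
  fun j h1 h2 => orb_tree0_5 j h1 h2
theorem orb_inv_6 : ∀ j, 444984 ≤ j → j < 799800 → Tab.orbInvOK T D subs 444984 799800 j = true :=
  (range_glue (range_of_allRange c_oinv6_0) (range_glue (range_of_allRange c_oinv6_1) (range_glue (range_of_allRange c_oinv6_2) (range_glue (range_of_allRange c_oinv6_3) (range_glue (range_of_allRange c_oinv6_4) (range_glue (range_of_allRange c_oinv6_5) (range_glue (range_of_allRange c_oinv6_6) (range_glue (range_of_allRange c_oinv6_7) (range_glue (range_of_allRange c_oinv6_8) (range_glue (range_of_allRange c_oinv6_9) (range_glue (range_of_allRange c_oinv6_10) (range_glue (range_of_allRange c_oinv6_11) (range_glue (range_of_allRange c_oinv6_12) (range_glue (range_of_allRange c_oinv6_13) (range_glue (range_of_allRange c_oinv6_14) (range_glue (range_of_allRange c_oinv6_15) (range_glue (range_of_allRange c_oinv6_16) (range_glue (range_of_allRange c_oinv6_17) (range_glue (range_of_allRange c_oinv6_18) (range_glue (range_of_allRange c_oinv6_19) (range_glue (range_of_allRange c_oinv6_20) (range_glue (range_of_allRange c_oinv6_21) (range_glue (range_of_allRange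 c_oinv6_22) (range_glue (range_of_allRange c_oinv6_23) (range_glue (range_of_allRange c_oinv6_24) (range_glue (range_of_allRange c_oinv6_25) (range_glue (range_of_allRange c_oinv6_26) (range_glue (range_of_allRange c_oinv6_27) (range_glue (range_of_allRange c_oinv6_28) (range_glue (range_of_allRange c_oinv6_29) (range_glue (range_of_allRange c_oinv6_30) (range_glue (range_of_allRange c_oinv6_31) (range_glue (range_of_allRange c_oinv6_32) (range_glue (range_of_allRange c_oinv6_33) (range_glue (range_of_allRange c_oinv6_34) (range_of_allRange c_oinv6_35))))))))))))))))))))))))))))))))))))
theorem orb_tree0_6 : ∀ j, 444985 ≤ j → j < 799800 → Tab.orbTreeOK T D subs oparTab olabTab 444984 j = true :=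
  (range_glue (range_of_allRange c_otree6_0) (range_glue (range_of_allRange c_otree6_1) (range_glue (range_of_allRange c_otree6_2) (range_glue (range_of_allRange c_otree6_3) (range_glue (range_of_allRange c_otree6_4) (range_glue (range_of_allRange c_otree6_5) (range_glue (range_of_allRange c_otree6_6) (range_glue (range_of_allRange c_otree6_7) (range_glue (range_of_allRange c_otree6_8) (range_glue (range_of_allRange c_otree6_9) (range_glue (range_of_allRange c_otree6_10) (range_glue (range_of_allRange c_otree6_11) (range_glue (range_of_allRange c_otree6_12) (range_glue (range_of_allRange c_otree6_13) (range_glue (range_of_allRange c_otree6_14) (range_glue (range_of_allRange c_otree6_15) (range_glue (range_of_allRange c_otree6_16) (range_of_allRange c_otree6_17))))))))))))))))))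
theorem orb_tree_6 : ∀ j, 444984 < j → j < 799800 → Tab.orbTreeOK T D subs oparTab olabTab 444984 j = true :=
  fun j h1 h2 => orb_tree0_6 j h1 h2
theorem orb_inv_7_p0 : ∀ j, 799800 ≤ j → j < 1199800 → Tab.orbInvOK T D subs 799800 1539000 j = true :=
  (range_glue (range_of_allRange c_oinv7_0) (range_glue (range_of_allRange c_oinv7_1) (range_glue (range_of_allRange c_oinv7_2) (range_glue (range_of_allRange c_oinv7_3) (range_glue (range_of_allRange c_oinv7_4) (range_glue (range_of_allRange c_oinv7_5) (range_glue (range_of_allRange c_oinv7_6) (range_glue (range_of_allRange c_oinv7_7) (range_glue (range_of_allRange c_oinv7_8) (range_glue (range_of_allRange c_oinv7_9) (range_glue (range_of_allRange c_oinv7_10) (range_glue (range_of_allRange c_oinv7_11) (range_glue (range_of_allRange c_oinv7_12) (range_glue (range_of_allRange c_oinv7_13) (range_glue (range_of_allRange c_oinv7_14) (range_glue (range_of_allRange c_oinv7_15) (range_glue (range_of_allRange c_oinv7_16) (range_glue (range_of_allRange c_oinv7_17) (range_glue (range_of_allRange c_oinv7_18) (range_glue (range_of_allRange c_oinv7_19) (range_glue (range_of_allRange c_oinv7_20) (range_glue (range_of_allRange c_oinv7_21) (range_glue (range_of_allRange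 c_oinv7_22) (range_glue (range_of_allRange c_oinv7_23) (range_glue (range_of_allRange c_oinv7_24) (range_glue (range_of_allRange c_oinv7_25) (range_glue (range_of_allRange c_oinv7_26) (range_glue (range_of_allRange c_oinv7_27) (range_glue (range_of_allRange c_oinv7_28) (range_glue (range_of_allRange c_oinv7_29) (range_glue (range_of_allRange c_oinv7_30) (range_glue (range_of_allRange c_oinv7_31) (range_glue (range_of_allRange c_oinv7_32) (range_glue (range_of_allRange c_oinv7_33) (range_glue (range_of_allRange c_oinv7_34) (range_glue (range_of_allRange c_oinv7_35) (range_glue (range_of_allRange c_oinv7_36) (range_glue (range_of_allRange c_oinv7_37) (range_glue (range_of_allRange c_oinv7_38) (range_of_allRange c_oinv7_39))))))))))))))))))))))))))))))))))))))))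
theorem orb_inv_7_p1 : ∀ j, 1199800 ≤ j → j < 1539000 → Tab.orbInvOK T D subs 799800 1539000 j = true :=
  (range_glue (range_of_allRange c_oinv7_40) (range_glue (range_of_allRange c_oinv7_41) (range_glue (range_of_allRange c_oinv7_42) (range_glue (range_of_allRange c_oinv7_43) (range_glue (range_of_allRange c_oinv7_44) (range_glue (range_of_allRange c_oinv7_45) (range_glue (range_of_allRange c_oinv7_46) (range_glue (range_of_allRange c_oinv7_47) (range_glue (range_of_allRange c_oinv7_48) (range_glue (range_of_allRange c_oinv7_49) (range_glue (range_of_allRange c_oinv7_50) (range_glue (range_of_allRange c_oinv7_51) (range_glue (range_of_allRange c_oinv7_52) (range_glue (range_of_allRange c_oinv7_53) (range_glue (range_of_allRange c_oinv7_54) (range_glue (range_of_allRange c_oinv7_55) (range_glue (range_of_allRange c_oinv7_56) (range_glue (range_of_allRange c_oinv7_57) (range_glue (range_of_allRange c_oinv7_58) (range_glue (range_of_allRange c_oinv7_59) (range_glue (range_of_allRange c_oinv7_60) (range_glue (range_of_allRange c_oinv7_61) (range_glue (range_of_allRange c_oinv7_62) (range_glue (range_of_allRange c_oinv7_63) (range_glue (range_of_allRange c_oinv7_64) (range_glue (range_of_allRange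 c_oinv7_65) (range_glue (range_of_allRange c_oinv7_66) (range_glue (range_of_allRange c_oinv7_67) (range_glue (range_of_allRange c_oinv7_68) (range_glue (range_of_allRange c_oinv7_69) (range_glue (range_of_allRange c_oinv7_70) (range_glue (range_of_allRange c_oinv7_71) (range_glue (range_of_allRange c_oinv7_72) (range_of_allRange c_oinv7_73))))))))))))))))))))))))))))))))))
theorem orb_inv_7 : ∀ j, 799800 ≤ j → j < 1539000 → Tab.orbInvOK T D subs 799800 1539000 j = true :=
  (range_glue orb_inv_7_p0 orb_inv_7_p1)
theorem orb_tree0_7 : ∀ j, 799801 ≤ j → j < 1539000 → Tab.orbTreeOK T D subs oparTab olabTab 799800 j = true :=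
  (range_glue (range_of_allRange c_otree7_0) (range_glue (range_of_allRange c_otree7_1) (range_glue (range_of_allRange c_otree7_2) (range_glue (range_of_allRange c_otree7_3) (range_glue (range_of_allRange c_otree7_4) (range_glue (range_of_allRange c_otree7_5) (range_glue (range_of_allRange c_otree7_6) (range_glue (range_of_allRange c_otree7_7) (range_glue (range_of_allRange c_otree7_8) (range_glue (range_of_allRange c_otree7_9) (range_glue (range_of_allRange c_otree7_10) (range_glue (range_of_allRange c_otree7_11) (range_glue (range_of_allRange c_otree7_12) (range_glue (range_of_allRange c_otree7_13) (range_glue (range_of_allRange c_otree7_14) (range_glue (range_of_allRange c_otree7_15) (range_glue (range_of_allRange c_otree7_16) (range_glue (range_of_allRange c_otree7_17) (range_glue (range_of_allRange c_otree7_18) (range_glue (range_of_allRange c_otree7_19) (range_glue (range_of_allRange c_otree7_20) (range_glue (range_of_allRange c_otree7_21) (range_glue (range_of_allRange c_otree7_22) (range_glue (range_of_allRange c_otree7_23) (range_glue (range_of_allRange c_otree7_24) (range_glue (range_of_allRange c_otree7_25) (range_glue (range_of_allRange c_otree7_26) (range_glue (range_of_allRange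 c_otree7_27) (range_glue (range_of_allRange c_otree7_28) (range_glue (range_of_allRange c_otree7_29) (range_glue (range_of_allRange c_otree7_30) (range_glue (range_of_allRange c_otree7_31) (range_glue (range_of_allRange c_otree7_32) (range_glue (range_of_allRange c_otree7_33) (range_glue (range_of_allRange c_otree7_34) (range_glue (range_of_allRange c_otree7_35) (range_of_allRange c_otree7_36)))))))))))))))))))))))))))))))))))))
theorem orb_tree_7 : ∀ j, 799800 < j → j < 1539000 → Tab.orbTreeOK T D subs oparTab olabTab 799800 j = true :=
  fun j h1 h2 => orb_tree0_7 j h1 h2

end Cfsg.Agent.Lib.Helper4.TCD.HNm
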