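import Mathlib
import Cfsg.Prelude.Def_Spor_HN
import Cfsg.Agent.Lib.Helper4.HNNMain
import Cfsg.Agent.Lib.Helper4.TCD_HNm_Fin

/-! The presented Harada–Norton group: the instance of the enumeration of the cosets of `⟨x, y, z⟩`,
and its index. -/

namespace Cfsg.Agent.Lib.Helper4.HNMain

open Cfsg.Agent.Lib.Helper4.TC Cfsg.Agent.Lib.Helper4.TCD Cfsg.Agent.Lib.Helper4.TC.Log

theorem real_sub : ∀ L ∈ PHNN.P.real, L ∈ PHN.P.real := by decide +kernel

/-- the letters of `HNN` are letters of `HN` -/
theorem embN : LetterEmb PHNN.P PHN.P id where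
  hP := PHNN.valid
  hQ := PHN.valid
  hlt := by
    intro l hl
    have hl : l < 6 := hl
    show l < 8
    omega
  hinv := by
    intro l hl
    have hl : l < 6 := hl
    interval_cases l <;> rfl
  hrel := by
    intro L hL
    rw [List.map_id]
    exact (PHN.valid.real_sound L (real_sub L hL)).2

theorem extraL_eq : HNm.extraL = HNNMain.extraZ := by decide +kernel

theorem extras_sound : ∀ r ∈ HNm.extraL, wordP PHN.P.gR r = 1 := by
  intro r hr
  rw [extraL_eq] at hr
  have h := embN.word_eq_one r (HNNMain.extraZ_lt r hr) (HNNMain.extraZ_sound r hr)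
  rwa [List.map_id] at h

/-- the instance -/
theorem xinst : XInst PHN.P HNm.extraL HNm.T HNm.D HNm.subs := HNm.xinst extras_sound

theorem index_eq : (Inst.subG PHN.P HNm.subs).index = 1539000 := xinst.index_eq

end Cfsg.Agent.Lib.Helper4.HNMain
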