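import Mathlib
import Cfsg.Prelude.Def_SporCoxeter

/-!
Two auxiliary presentations used in the analysis of the presented Harada–Norton group:
`HNK` on `x`, `y` with the six relators of the Harada–Norton presentation that involve only `x` and `y`,
and `HNN` on `x`, `y`, `z` with the ten relators that do not involve `t`
(written as groups presented by an empty Coxeter graph and a list of relators).
-/

namespace Cfsg.Agent.Lib.Helper4

namespace HNK

/-- the two generators -/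
inductive Gen
  | x
  | y
  deriving DecidableEq

abbrev x : FreeGroup Gen := FreeGroup.of Gen.x
abbrev y : FreeGroup Gen := FreeGroup.of Gen.y

/-- no Coxeter graph -/
def edges : List (Gen × ℕ × Gen) := []

/-- the relators -/
def extra : List (FreeGroup Gen) := [
  y ^ 6,
  (x ^ 2) * y * (x ^ 2) * (y⁻¹),
  (x⁻¹ * y⁻¹ * x * y) ^ 3,
  ((x⁻¹) * (y ^ 2) * x * (y ^ 3)) ^ 3,
  (x * y) ^ 8,
  (x * y * x * (y ^ 3)) ^ 4 ]

end HNK

namespace HNN

/-- the three generators -/
inductive Gen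
  | x
  | y
  | z
  deriving DecidableEq

abbrev x : FreeGroup Gen := FreeGroup.of Gen.x
abbrev y : FreeGroup Gen := FreeGroup.of Gen.y
abbrev z : FreeGroup Gen := FreeGroup.of Gen.z

/-- no Coxeter graph -/
def edges : List (Gen × ℕ × Gen) := []

/-- the relators -/
def extra : List (FreeGroup Gen) := [
  y ^ 6,
  (x ^ 2) * y * (x ^ 2) * (y⁻¹),
  (x⁻¹ * y⁻¹ * x * y) ^ 3,
  ((x⁻¹) * (y ^ 2) * x * (y ^ 3)) ^ 3,
  (x * y) ^ 8,
  (x * y * x * (y ^ 3)) ^ 4,
  z ^ 2,
  (z * x) ^ 2,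
  (z⁻¹ * (y * x * y * x * (y ^ 2) * x * (y⁻¹))⁻¹ * z * (y * x * y * x * (y ^ 2) * x * (y⁻¹))) * ((x ^ 2)⁻¹),
  z * (((((y ^ 3) * x * y * x * y)⁻¹ * z * ((y ^ 3) * x * y * x * y)) * x) ^ 3) ]

end HNN

end Cfsg.Agent.Lib.Helper4
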