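import Cfsg.Agent.Lib.Helper4.TC14
import Cfsg.Agent.Lib.Helper4.TCP_HNN
import Cfsg.Agent.Lib.Helper4.TCD_HNNR_D0

namespace Cfsg.Agent.Lib.Helper4.TCD.HNNR

open Cfsg.Agent.Lib.Helper4.TC

set_option maxRecDepth 100000

noncomputable def col0 (i : Nat) : Nat := rdw 11 2047 col0_0 i
noncomputable def col1 (i : Nat) : Nat := rdw 11 2047 col1_0 i
noncomputable def col2 (i : Nat) : Nat := rdw 11 2047 col2_0 i
noncomputable def col3 (i : Nat) : Nat := rdw 11 2047 col3_0 i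
noncomputable def col4 (i : Nat) : Nat := rdw 11 2047 col4_0 i
noncomputable def col5 (i : Nat) : Nat := rdw 11 2047 col5_0 i
noncomputable def tblF (i x : Nat) : Nat := @Bool.rec (fun _ => Nat) (@Bool.rec (fun _ => Nat) (col0 i) (@Bool.rec (fun _ => Nat) (col1 i) (col2 i) (Nat.ble 2 x)) (Nat.ble 1 x)) (@Bool.rec (fun _ => Nat) (col3 i) (@Bool.rec (fun _ => Nat) (col4 i) (col5 i) (Nat.ble 5 x)) (Nat.ble 4 x)) (Nat.ble 3 x)

noncomputable def D : Log :=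
  { k := 6, inv := PHNN.invR, nR := 0, rBase := fun _ => 0, rLen := fun _ => 0, RR := fun _ => 0,
    M := 0, nB := 0, F := 0, src := fun _ => 0, lt := fun _ => 0, tgt := fun _ => 0, rho := fun _ => 0, rot := fun _ => 0,
    off := fun _ => 0, len := fun _ => 0, pf := fun _ => 0, pd := fun _ => 0 }

noncomputable def T : Tab :=
  { N := 1408, nameOf := fun _ => 0, tbl := tblF, finF := fun _ _ => 0, finD := fun _ _ => 0, cls := fun _ => 0 }

def rw0 : List Nat := [2, 2, 2, 2, 2, 2]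
def rw1 : List Nat := [0, 0, 2, 0, 0, 3]
def rw2 : List Nat := [1, 3, 0, 2, 1, 3, 0, 2, 1, 3, 0, 2]
def rw3 : List Nat := [1, 2, 2, 0, 2, 2, 2, 1, 2, 2, 0, 2, 2, 2, 1, 2, 2, 0, 2, 2, 2]
def rw4 : List Nat := [0, 2, 0, 2, 0, 2, 0, 2, 0, 2, 0, 2, 0, 2, 0, 2]
def rw5 : List Nat := [0, 2, 0, 2, 2, 2, 0, 2, 0, 2, 2, 2, 0, 2, 0, 2, 2, 2, 0, 2, 0, 2, 2, 2]
def rw6 : List Nat := [4, 4]
def rw7 : List Nat := [4, 0, 4, 0]
def rw8 : List Nat := [5, 2, 1, 3, 3, 1, 3, 1, 3, 4, 2, 0, 2, 0, 2, 2, 0, 3, 1, 1]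
def rw9 : List Nat := [4, 3, 1, 3, 1, 3, 3, 3, 4, 2, 2, 2, 0, 2, 0, 2, 0, 3, 1, 3, 1, 3, 3, 3, 4, 2, 2, 2, 0, 2, 0, 2, 0, 3, 1, 3, 1, 3, 3, 3, 4, 2, 2, 2, 0, 2, 0, 2, 0]
def realLit : List (List Nat) := [rw0, rw1, rw2, rw3, rw4, rw5, rw6, rw7, rw8, rw9]
noncomputable def actR0 (i : Nat) : Nat := col3 (col3 (col3 (col3 (col3 (col3 (i))))))
theorem actR0_eq (i : Nat) : actR0 i = Tab.act T D rw0 i := rfl
noncomputable def actR1 (i : Nat) : Nat := col1 (col1 (col3 (col1 (col1 (col2 (i))))))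
theorem actR1_eq (i : Nat) : actR1 i = Tab.act T D rw1 i := rfl
noncomputable def actR2 (i : Nat) : Nat := col0 (col2 (col1 (col3 (col0 (col2 (col1 (col3 (col0 (col2 (col1 (col3 (i))))))))))))
theorem actR2_eq (i : Nat) : actR2 i = Tab.act T D rw2 i := rfl
noncomputable def actR3 (i : Nat) : Nat := col0 (col3 (col3 (col1 (col3 (col3 (col3 (col0 (col3 (col3 (col1 (col3 (col3 (col3 (col0 (col3 (col3 (col1 (col3 (col3 (col3 (i)))))))))))))))))))))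
theorem actR3_eq (i : Nat) : actR3 i = Tab.act T D rw3 i := rfl
noncomputable def actR4 (i : Nat) : Nat := col1 (col3 (col1 (col3 (col1 (col3 (col1 (col3 (col1 (col3 (col1 (col3 (col1 (col3 (col1 (col3 (i))))))))))))))))
theorem actR4_eq (i : Nat) : actR4 i = Tab.act T D rw4 i := rfl
noncomputable def actR5 (i : Nat) : Nat := col1 (col3 (col1 (col3 (col3 (col3 (col1 (col3 (col1 (col3 (col3 (col3 (col1 (col3 (col1 (col3 (col3 (col3 (col1 (col3 (col1 (col3 (col3 (col3 (i))))))))))))))))))))))))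
theorem actR5_eq (i : Nat) : actR5 i = Tab.act T D rw5 i := rfl
noncomputable def actR6 (i : Nat) : Nat := col5 (col5 (i))
theorem actR6_eq (i : Nat) : actR6 i = Tab.act T D rw6 i := rfl
noncomputable def actR7 (i : Nat) : Nat := col5 (col1 (col5 (col1 (i))))
theorem actR7_eq (i : Nat) : actR7 i = Tab.act T D rw7 i := rfl
noncomputable def actR8 (i : Nat) : Nat := col4 (col3 (col0 (col2 (col2 (col0 (col2 (col0 (col2 (col5 (col3 (col1 (col3 (col1 (col3 (col3 (col1 (col2 (col0 (col0 (i))))))))))))))))))))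
theorem actR8_eq (i : Nat) : actR8 i = Tab.act T D rw8 i := rfl
noncomputable def actR9 (i : Nat) : Nat := col5 (col2 (col0 (col2 (col0 (col2 (col2 (col2 (col5 (col3 (col3 (col3 (col1 (col3 (col1 (col3 (col1 (col2 (col0 (col2 (col0 (col2 (col2 (col2 (col5 (col3 (col3 (col3 (col1 (col3 (col1 (col3 (col1 (col2 (col0 (col2 (col0 (col2 (col2 (col2 (col5 (col3 (col3 (col3 (col1 (col3 (col1 (col3 (col1 (i)))))))))))))))))))))))))))))))))))))))))))))))))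
theorem actR9_eq (i : Nat) : actR9 i = Tab.act T D rw9 i := rfl
def zx0 : List Nat := [0, 3, 4, 0, 3, 4, 0, 3, 4, 0, 3, 4, 0, 3, 4, 0, 3, 4]
noncomputable def actW_zx0 (i : Nat) : Nat := col1 (col2 (col5 (col1 (col2 (col5 (col1 (col2 (col5 (col1 (col2 (col5 (col1 (col2 (col5 (col1 (col2 (col5 (i))))))))))))))))))
theorem actW_zx0_eq (i : Nat) : actW_zx0 i = Tab.act T D zx0 i := rfl
def zx1 : List Nat := [0, 3, 4, 2, 0, 4, 0, 3, 4, 2, 0, 4, 0, 3, 4, 2, 0, 4]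
noncomputable def actW_zx1 (i : Nat) : Nat := col1 (col2 (col5 (col3 (col1 (col5 (col1 (col2 (col5 (col3 (col1 (col5 (col1 (col2 (col5 (col3 (col1 (col5 (i))))))))))))))))))
theorem actW_zx1_eq (i : Nat) : actW_zx1 i = Tab.act T D zx1 i := rfl
def zx2 : List Nat := [2, 2, 4, 3, 3, 4, 2, 2, 4, 3, 3, 4, 2, 2, 4, 3, 3, 4]
noncomputable def actW_zx2 (i : Nat) : Nat := col3 (col3 (col5 (col2 (col2 (col5 (col3 (col3 (col5 (col2 (col2 (col5 (col3 (col3 (col5 (col2 (col2 (col5 (i))))))))))))))))))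
theorem actW_zx2_eq (i : Nat) : actW_zx2 i = Tab.act T D zx2 i := rfl
def zx3 : List Nat := [0, 2, 1, 3, 4, 0, 2, 1, 3, 4, 0, 2, 1, 3, 4, 0, 2, 1, 3, 4]
noncomputable def actW_zx3 (i : Nat) : Nat := col1 (col3 (col0 (col2 (col5 (col1 (col3 (col0 (col2 (col5 (col1 (col3 (col0 (col2 (col5 (col1 (col3 (col0 (col2 (col5 (i))))))))))))))))))))
theorem actW_zx3_eq (i : Nat) : actW_zx3 i = Tab.act T D zx3 i := rfl
def zx4 : List Nat := [0, 2, 2, 2, 4, 0, 2, 2, 2, 4, 0, 2, 2, 2, 4, 0, 2, 2, 2, 4]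
noncomputable def actW_zx4 (i : Nat) : Nat := col1 (col3 (col3 (col3 (col5 (col1 (col3 (col3 (col3 (col5 (col1 (col3 (col3 (col3 (col5 (col1 (col3 (col3 (col3 (col5 (i))))))))))))))))))))
theorem actW_zx4_eq (i : Nat) : actW_zx4 i = Tab.act T D zx4 i := rfl
def zx5 : List Nat := [0, 3, 3, 4, 0, 3, 4, 0, 3, 3, 4, 0, 3, 4, 0, 3, 3, 4, 0, 3, 4, 0, 3, 3, 4, 0, 3, 4]
noncomputable def actW_zx5 (i : Nat) : Nat := col1 (col2 (col2 (col5 (col1 (col2 (col5 (col1 (col2 (col2 (col5 (col1 (col2 (col5 (col1 (col2 (col2 (col5 (col1 (col2 (col5 (col1 (col2 (col2 (col5 (col1 (col2 (col5 (i))))))))))))))))))))))))))))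
theorem actW_zx5_eq (i : Nat) : actW_zx5 i = Tab.act T D zx5 i := rfl
def zx6 : List Nat := [0, 3, 3, 4, 1, 2, 2, 0, 3, 3, 4, 1, 2, 2, 0, 3, 3, 4, 1, 2, 2, 0, 3, 3, 4, 1, 2, 2]
noncomputable def actW_zx6 (i : Nat) : Nat := col1 (col2 (col2 (col5 (col0 (col3 (col3 (col1 (col2 (col2 (col5 (col0 (col3 (col3 (col1 (col2 (col2 (col5 (col0 (col3 (col3 (col1 (col2 (col2 (col5 (col0 (col3 (col3 (i))))))))))))))))))))))))))))
theorem actW_zx6_eq (i : Nat) : actW_zx6 i = Tab.act T D zx6 i := rfl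
def zx7 : List Nat := [0, 3, 3, 4, 2, 2, 4, 0, 3, 3, 4, 2, 2, 4, 0, 3, 3, 4, 2, 2, 4, 0, 3, 3, 4, 2, 2, 4]
noncomputable def actW_zx7 (i : Nat) : Nat := col1 (col2 (col2 (col5 (col3 (col3 (col5 (col1 (col2 (col2 (col5 (col3 (col3 (col5 (col1 (col2 (col2 (col5 (col3 (col3 (col5 (col1 (col2 (col2 (col5 (col3 (col3 (col5 (i))))))))))))))))))))))))))))
theorem actW_zx7_eq (i : Nat) : actW_zx7 i = Tab.act T D zx7 i := rfl
def zx8 : List Nat := [0, 3, 4, 0, 4, 2, 4, 0, 3, 4, 0, 4, 2, 4, 0, 3, 4, 0, 4, 2, 4, 0, 3, 4, 0, 4, 2, 4]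
noncomputable def actW_zx8 (i : Nat) : Nat := col1 (col2 (col5 (col1 (col5 (col3 (col5 (col1 (col2 (col5 (col1 (col5 (col3 (col5 (col1 (col2 (col5 (col1 (col5 (col3 (col5 (col1 (col2 (col5 (col1 (col5 (col3 (col5 (i))))))))))))))))))))))))))))
theorem actW_zx8_eq (i : Nat) : actW_zx8 i = Tab.act T D zx8 i := rfl
def zx9 : List Nat := [0, 3, 4, 1, 2, 0, 4, 0, 3, 4, 1, 2, 0, 4, 0, 3, 4, 1, 2, 0, 4, 0, 3, 4, 1, 2, 0, 4]
noncomputable def actW_zx9 (i : Nat) : Nat := col1 (col2 (col5 (col0 (col3 (col1 (col5 (col1 (col2 (col5 (col0 (col3 (col1 (col5 (col1 (col2 (col5 (col0 (col3 (col1 (col5 (col1 (col2 (col5 (col0 (col3 (col1 (col5 (i))))))))))))))))))))))))))))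
theorem actW_zx9_eq (i : Nat) : actW_zx9 i = Tab.act T D zx9 i := rfl
def zx10 : List Nat := [0, 2, 2, 1, 3, 0, 2, 2, 1, 3, 0, 2, 2, 1, 3, 0, 2, 2, 1, 3, 0, 2, 2, 1, 3, 0, 2, 2, 1, 3]
noncomputable def actW_zx10 (i : Nat) : Nat := col1 (col3 (col3 (col0 (col2 (col1 (col3 (col3 (col0 (col2 (col1 (col3 (col3 (col0 (col2 (col1 (col3 (col3 (col0 (col2 (col1 (col3 (col3 (col0 (col2 (col1 (col3 (col3 (col0 (col2 (i))))))))))))))))))))))))))))))
theorem actW_zx10_eq (i : Nat) : actW_zx10 i = Tab.act T D zx10 i := rfl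

end Cfsg.Agent.Lib.Helper4.TCD.HNNR
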