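import Cfsg.Agent.Lib.Helper4.TCD_HNm_Acc
import Cfsg.Agent.Lib.Helper4.TCD_HNNR_Acc
import Cfsg.Agent.Lib.Helper4.TCD_HNX_Acc

/-! Small checks on the table of the presented Harada–Norton group: the rows 1 to 1408 carry the table of the
auxiliary group on `x`, `y`, `z`, and the 19th power of a word fixes the rows 0 to 1408. -/

namespace Cfsg.Agent.Lib.Helper4.TCD.HNmQ

open Cfsg.Agent.Lib.Helper4.TC

set_option maxRecDepth 100000
set_option Elab.async false

theorem c_int : allGrid (fun i l => Nat.beq (HNm.T.tbl (Nat.succ i) (HNm.D.inv l))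
    (Nat.succ (HNNR.T.tbl i (HNNR.D.inv l)))) 0 1408 6 = true := by decide +kernel

theorem c_w19 : allRange (fun i => Nat.beq (Tab.act HNm.T HNm.D (List.replicate 19 HNX.xw).flatten i) i)
    0 1409 = true := by decide +kernel

end Cfsg.Agent.Lib.Helper4.TCD.HNmQ
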