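import Mathlib
import Cfsg.Prelude.Def_Sporadic
import Cfsg.Agent.Lib.Helper4.HNMain
import Cfsg.Agent.Lib.Helper4.TCD_HNX_Fin
import Cfsg.Agent.Lib.Helper4.TCD_HNmQ

/-! The presented Harada–Norton group is simple of order 273030912000000. -/

namespace Cfsg.Agent.Lib.Helper4.HNSimple

open Cfsg.Agent.Lib.Helper4.TC Cfsg.Agent.Lib.Helper4.TCD Cfsg.Agent.Lib.Helper4.TC.Log
open Cfsg.Agent.Lib.Helper4.HNMain

/-- the rows of the auxiliary table inside the table -/
def sh (i : Fin HNNR.T.N) : Fin HNm.T.N :=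
  ⟨i.1 + 1, by
    have h := i.2
    have h1 : HNNR.T.N = 1408 := rfl
    have h2 : HNm.T.N = 1539000 := rfl
    omega⟩

theorem sh_inj : Function.Injective sh := by
  intro i j h
  have : i.1 + 1 = j.1 + 1 := congrArg Fin.val h
  exact Fin.ext (by omega)

/-- the homomorphism from the auxiliary group -/
noncomputable def psi : PHNN.P.Grp →* PHN.P.Grp := embN.hom

theorem psi_gR (l : ℕ) (hl : l < 6) : psi (PHNN.P.gR l) = PHN.P.gR l := embN.hom_gR l hl

theorem hint : ∀ a : PHNN.P.Grp, ∀ i, xinst.phi (psi a) (sh i) = sh (HNNR.prep.phi a i) := by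
  apply intertwine_of_gens xinst.phi psi HNNR.prep.phi sh (PHNN.P.gR '' Set.Iio PHNN.P.k) PHNN.valid.gen_top
  rintro _ ⟨l, hl, rfl⟩ i
  have hl : l < 6 := hl
  apply Fin.ext
  show (xinst.phi (psi (PHNN.P.gR l)) (sh i)).1 = (HNNR.prep.phi (PHNN.P.gR l) i).1 + 1
  rw [psi_gR l hl, xinst.phi_gR l (by show l < 8; omega), HNNR.prep.phi_gR l hl]
  have h := range_of_allGrid HNmQ.c_int i.1 (Nat.zero_le _) (by have := i.2; have h1 : HNNR.T.N = 1408 := rfl; omega) l hl
  exact beq_eq h

theorem hsub : Inst.subG PHN.P HNm.subs ≤ psi.range := by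
  unfold Inst.subG
  rw [Subgroup.closure_le]
  rintro _ ⟨u, hu, rfl⟩
  simp only [HNm.subs, List.mem_cons, List.not_mem_nil, or_false] at hu
  rcases hu with rfl | rfl | rfl
  · exact ⟨wordP PHNN.P.gR [0], embN.hom_word [0] (by decide)⟩
  · exact ⟨wordP PHNN.P.gR [2], embN.hom_word [2] (by decide)⟩
  · exact ⟨wordP PHNN.P.gR [4], embN.hom_word [4] (by decide)⟩

theorem hrange : psi.range ≤ Inst.subG PHN.P HNm.subs := by
  rw [MonoidHom.range_eq_map, ← PHNN.valid.gen_top, MonoidHom.map_closure, Subgroup.closure_le]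
  rintro _ ⟨_, ⟨l, hl, rfl⟩, rfl⟩
  have hl : l < 6 := hl
  rw [show psi (PHNN.P.gR l) = PHN.P.gR l from psi_gR l hl]
  have g0 : PHN.P.gR 0 ∈ Inst.subG PHN.P HNm.subs :=
    Subgroup.subset_closure ⟨[0], by simp [HNm.subs], by simp⟩
  have g2 : PHN.P.gR 2 ∈ Inst.subG PHN.P HNm.subs :=
    Subgroup.subset_closure ⟨[2], by simp [HNm.subs], by simp⟩
  have g4 : PHN.P.gR 4 ∈ Inst.subG PHN.P HNm.subs :=
    Subgroup.subset_closure ⟨[4], by simp [HNm.subs], by simp⟩
  interval_cases l
  · exact g0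
  · rw [show PHN.P.gR 1 = (PHN.P.gR 0)⁻¹ from (PHN.valid.invR_sound 0 (by decide)).2]
    exact inv_mem g0
  · exact g2
  · rw [show PHN.P.gR 3 = (PHN.P.gR 2)⁻¹ from (PHN.valid.invR_sound 2 (by decide)).2]
    exact inv_mem g2
  · exact g4
  · rw [show PHN.P.gR 5 = (PHN.P.gR 4)⁻¹ from (PHN.valid.invR_sound 4 (by decide)).2]
    exact inv_mem g4

/-- the order and the faithful permutation representation -/
theorem order_aux : Finite PHN.P.Grp ∧ Function.Injective xinst.phi ∧ Nat.card PHN.P.Grp = 273030912000000 := by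
  obtain ⟨_, hρ, hcN⟩ := HNNMain.order_aux
  obtain ⟨hinj, hψ⟩ := xinst.injective_of_sub psi HNNR.prep.phi hρ sh sh_inj hsub hint
  have hcard := xinst.card_of_sub psi hψ (le_antisymm hsub hrange)
  rw [hcN] at hcard
  have hN : HNm.T.N = 1539000 := rfl
  rw [hN] at hcard
  have hc : Nat.card PHN.P.Grp = 273030912000000 := by rw [hcard]
  exact ⟨Nat.finite_of_card_ne_zero (by rw [hc]; norm_num), hinj, hc⟩

theorem w19 : (wordP PHN.P.gR HNX.xw) ^ 19 = 1 := by
  obtain ⟨_, hρ, _⟩ := HNNMain.order_aux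
  rw [← wordP_replicate_flatten]
  apply xinst.word_eq_one_of_fix psi HNNR.prep.phi hρ sh sh_inj hsub hint
  · decide
  · exact beq_eq (range_of_allRange HNmQ.c_w19 0 (Nat.zero_le _) (by norm_num))
  · intro i
    exact beq_eq (range_of_allRange HNmQ.c_w19 (sh i).1 (Nat.zero_le _) (by
      have := i.2
      have h1 : HNNR.T.N = 1408 := rfl
      show i.1 + 1 < 0 + 1409
      omega))

theorem horb : OrbCond (Inst.subG PHN.P HNm.subs) xinst.equiv [1, 1408, 2200, 5775, 35200, 123200, 277200, 354816, 739200] 0 := by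
  refine ⟨?_, ?_, ?_, ?_, ?_, ?_, ?_, ?_, ?_, trivial⟩
  · intro j j' _ h2 _ h4
    have e1 : j = j' := Fin.ext (by omega)
    exact ⟨1, one_mem _, by rw [one_smul, e1]⟩
  · intro j j' h1 h2 h3 h4
    exact xinst.trans_of_orbit_eq 1 1409 (by decide) (by decide)
      (xinst.orbit_eq HNm.oparTab HNm.olabTab 1 1409 (by decide) (by decide) HNm.orb_inv_0 HNm.orb_tree_0)
      j j' (by omega) (by omega) (by omega) (by omega)
  · intro j j' h1 h2 h3 h4
    exact xinst.trans_of_orbit_eq 1409 3609 (by decide) (by decide)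
      (xinst.orbit_eq HNm.oparTab HNm.olabTab 1409 3609 (by decide) (by decide) HNm.orb_inv_1 HNm.orb_tree_1)
      j j' (by omega) (by omega) (by omega) (by omega)
  · intro j j' h1 h2 h3 h4
    exact xinst.trans_of_orbit_eq 3609 9384 (by decide) (by decide)
      (xinst.orbit_eq HNm.oparTab HNm.olabTab 3609 9384 (by decide) (by decide) HNm.orb_inv_2 HNm.orb_tree_2)
      j j' (by omega) (by omega) (by omega) (by omega)
  · intro j j' h1 h2 h3 h4
    exact xinst.trans_of_orbit_eq 9384 44584 (by decide) (by decide)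
      (xinst.orbit_eq HNm.oparTab HNm.olabTab 9384 44584 (by decide) (by decide) HNm.orb_inv_3 HNm.orb_tree_3)
      j j' (by omega) (by omega) (by omega) (by omega)
  · intro j j' h1 h2 h3 h4
    exact xinst.trans_of_orbit_eq 44584 167784 (by decide) (by decide)
      (xinst.orbit_eq HNm.oparTab HNm.olabTab 44584 167784 (by decide) (by decide) HNm.orb_inv_4 HNm.orb_tree_4)
      j j' (by omega) (by omega) (by omega) (by omega)
  · intro j j' h1 h2 h3 h4
    exact xinst.trans_of_orbit_eq 167784 444984 (by decide) (by decide)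
      (xinst.orbit_eq HNm.oparTab HNm.olabTab 167784 444984 (by decide) (by decide) HNm.orb_inv_5 HNm.orb_tree_5)
      j j' (by omega) (by omega) (by omega) (by omega)
  · intro j j' h1 h2 h3 h4
    exact xinst.trans_of_orbit_eq 444984 799800 (by decide) (by decide)
      (xinst.orbit_eq HNm.oparTab HNm.olabTab 444984 799800 (by decide) (by decide) HNm.orb_inv_6 HNm.orb_tree_6)
      j j' (by omega) (by omega) (by omega) (by omega)
  · intro j j' h1 h2 h3 h4
    exact xinst.trans_of_orbit_eq 799800 1539000 (by decide) (by decide)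
      (xinst.orbit_eq HNm.oparTab HNm.olabTab 799800 1539000 (by decide) (by decide) HNm.orb_inv_7 HNm.orb_tree_7)
      j j' (by omega) (by omega) (by omega) (by omega)

theorem simple_aux : IsSimpleGroup PHN.P.Grp := by
  obtain ⟨fG, hinj, hcard⟩ := order_aux
  apply xinst.simple3 hinj fG [1, 1408, 2200, 5775, 35200, 123200, 277200, 354816, 739200] (by decide) horb (by decide) [19]
  · intro q hq
    simp only [List.mem_cons, List.not_mem_nil, or_false] at hq
    subst hq
    exact ⟨by norm_num, by rw [hcard]; decide, wordP PHN.P.gR HNX.xw, w19, HNX.normalClosure_eq_top⟩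
  · decide +kernel

theorem main : Cfsg.IsHN PHN.P.Grp := ⟨simple_aux, order_aux.2.2⟩

end Cfsg.Agent.Lib.Helper4.HNSimple
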