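import Mathlib
import Cfsg.Agent.Lib.Helper4.RepLib

/-!
A finite simple group with a proper subgroup of index `n` is realised as a transitive group of permutations of
`Fin n` in which the stabiliser of `0` is a copy of the subgroup.
-/

namespace Cfsg.Agent.Lib.Helper4.RepLib

open MulAction

/-- a bijection of the cosets with `Fin n` sending the trivial coset to `0` -/
theorem exists_equiv_fin {G : Type*} [Group G] (A : Subgroup G) (n : ℕ) [NeZero n] (hn : A.index = n) :
    ∃ e : G ⧸ A ≃ Fin n, e (QuotientGroup.mk 1) = 0 := by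
  have hc : Nat.card (G ⧸ A) = n := hn
  have hfin : Finite (G ⧸ A) := Nat.finite_of_card_ne_zero (by rw [hc]; exact NeZero.ne n)
  obtain ⟨e₀⟩ : Nonempty (G ⧸ A ≃ Fin n) := by
    have := Finite.equivFin (G ⧸ A)
    rw [hc] at this
    exact ⟨this⟩
  refine ⟨e₀.trans (Equiv.swap (e₀ (QuotientGroup.mk 1)) 0), ?_⟩
  simp

/-- the permutation realisation -/
theorem exists_perm_realization {G : Type*} [Group G] (hG : IsSimpleGroup G) (A : Subgroup G) (n : ℕ)
    [NeZero n] (hn : A.index = n) (h1 : 1 < n) :
    ∃ H : Subgroup (Equiv.Perm (Fin n)), Nonempty (G ≃* H) ∧ IsPretransitive H (Fin n) ∧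
      Nonempty (stabilizer H (0 : Fin n) ≃* A) := by
  obtain ⟨e, he⟩ := exists_equiv_fin A n hn
  let φ : G →* Equiv.Perm (Fin n) := (Equiv.permCongrHom e).toMonoidHom.comp (MulAction.toPermHom G (G ⧸ A))
  have hφ : ∀ (g : G) (i : Fin n), φ g i = e (g • e.symm i) := fun g i => rfl
  have hA : ∀ g : G, φ g 0 = 0 ↔ g ∈ A := by
    intro g
    rw [hφ, ← he, Equiv.symm_apply_apply, e.apply_eq_iff_eq]
    show (QuotientGroup.mk (g * 1) : G ⧸ A) = QuotientGroup.mk 1 ↔ _
    rw [QuotientGroup.eq]
    simp
  have hne : A ≠ ⊤ := by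
    intro h
    rw [h, Subgroup.index_top] at hn
    omega
  have hinj : Function.Injective φ := by
    rw [← MonoidHom.ker_eq_bot_iff]
    rcases hG.eq_bot_or_eq_top_of_normal φ.ker inferInstance with h | h
    · exact h
    · exfalso
      apply hne
      rw [eq_top_iff]
      intro g _
      rw [← hA g]
      have : g ∈ φ.ker := by rw [h]; trivial
      rw [MonoidHom.mem_ker.1 this]
      rfl
  refine ⟨φ.range, ⟨MonoidHom.ofInjective hinj⟩, ?_, ?_⟩
  · constructor
    intro i j
    obtain ⟨g, hg⟩ := exists_smul_eq G (e.symm i) (e.symm j)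
    refine ⟨⟨φ g, g, rfl⟩, ?_⟩
    show φ g i = j
    rw [hφ, hg, Equiv.apply_symm_apply]
  · let f : A →* stabilizer φ.range (0 : Fin n) :=
      { toFun := fun a => ⟨⟨φ a.1, a.1, rfl⟩, by
          rw [mem_stabilizer_iff]
          exact (hA a.1).2 a.2⟩
        map_one' := by
          apply Subtype.ext
          apply Subtype.ext
          exact map_one φ
        map_mul' := by
          intro a b
          apply Subtype.ext
          apply Subtype.ext
          exact map_mul φ a.1 b.1 }
    have hf : Function.Bijective f := by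
      constructor
      · intro a b hab
        have h2 : φ a.1 = φ b.1 := congrArg (fun z : stabilizer φ.range (0 : Fin n) => (z.1.1 : Equiv.Perm (Fin n))) hab
        exact Subtype.ext (hinj h2)
      · rintro ⟨⟨_, g, rfl⟩, hs⟩
        rw [mem_stabilizer_iff] at hs
        have hs' : φ g 0 = 0 := hs
        exact ⟨⟨g, (hA g).1 hs'⟩, rfl⟩
    exact ⟨(MulEquiv.ofBijective f hf).symm⟩

end Cfsg.Agent.Lib.Helper4.RepLib
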