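import Cfsg.Agent.Lib.Helper4.TCD_HNm_Acc
import Cfsg.Agent.Lib.Helper4.TCP_A12p

/-! Words in the presented Harada–Norton group for the generators of the presentation `A12p` of the
alternating group of degree 12, and the checks that the relator words act trivially on the rows 0 to 1408
(generated). -/

namespace Cfsg.Agent.Lib.Helper4.TCD.HNA12Q

open Cfsg.Agent.Lib.Helper4.TC Cfsg.Agent.Lib.Helper4.TCD.HNm

set_option maxRecDepth 100000
set_option Elab.async false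

/-- the words -/
def Wf : ℕ → List ℕ
  | 0 => [7, 4, 6, 0, 0, 7, 4, 6, 1, 7, 0, 0, 6, 0]
  | 1 => [1, 7, 1, 1, 6, 0, 7, 4, 6, 1, 1, 7, 4, 6]
  | 2 => [0, 0]
  | 3 => [7, 4, 6, 0, 0, 7, 4, 6]
  | 4 => [6, 3, 1, 3, 4, 7, 0, 0, 6, 4, 2, 0, 2, 7]
  | 5 => [3, 1, 3, 4, 6, 6, 3, 3, 3, 4, 7, 0, 0, 6, 4, 2, 2, 2, 7, 7, 4, 2, 0, 2]
  | 6 => [2, 1, 3, 3, 4, 1, 7, 3, 3, 3, 4, 1, 7, 0, 0, 6, 0, 4, 2, 2, 2, 6, 0, 4, 2, 2, 0, 3]
  | 7 => [3, 1, 3, 3, 4, 1, 3, 4, 6, 1, 3, 4, 7, 0, 0, 6, 4, 2, 0, 7, 4, 2, 0, 4, 2, 2, 0, 2]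
  | 8 => [3, 4, 2, 4, 6, 1, 3, 3, 4, 7, 0, 0, 6, 4, 2, 2, 0, 7, 4, 3, 4, 2]
  | 9 => [2, 4, 3, 4, 6, 1, 3, 4, 7, 0, 0, 6, 4, 2, 0, 7, 4, 2, 4, 3]
  | 10 => [2, 4, 3, 4, 6, 1, 3, 1, 3, 3, 3, 4, 1, 7, 0, 0, 6, 0, 4, 2, 2, 2, 0, 2, 0, 7, 4, 2, 4, 3]
  | _ => []

def rw0 : List Nat := [0, 0, 0, 0]
noncomputable def actW0 (i : Nat) : Nat := col1 (col1 (col1 (col1 (i))))
theorem actW0_eq (i : Nat) : actW0 i = Tab.act T D rw0 i := rfl
theorem c_w0_0 : allRange (fun i => Nat.beq (actW0 i) i) 0 1409 = true := by decide +kernel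
theorem h_w0 : ∀ i, i < 1409 → Nat.beq (Tab.act T D rw0 i) i = true := by
  intro i hi
  rw [← actW0_eq]
  exact (range_of_allRange c_w0_0) i (Nat.zero_le _) hi
theorem c_lt0 : ∀ x ∈ rw0, x < 8 := by decide

def rw1 : List Nat := [0, 0, 7, 4, 6, 0, 0, 7, 4, 6, 0, 0, 7, 4, 6, 0, 0, 7, 4, 6, 0, 0, 7, 4, 6, 0, 0, 7, 4, 6]
noncomputable def actW1 (i : Nat) : Nat := col1 (col1 (col6 (col5 (col7 (col1 (col1 (col6 (col5 (col7 (col1 (col1 (col6 (col5 (col7 (col1 (col1 (col6 (col5 (col7 (col1 (col1 (col6 (col5 (col7 (col1 (col1 (col6 (col5 (col7 (i))))))))))))))))))))))))))))))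
theorem actW1_eq (i : Nat) : actW1 i = Tab.act T D rw1 i := rfl
theorem c_w1_0 : allRange (fun i => Nat.beq (actW1 i) i) 0 1409 = true := by decide +kernel
theorem h_w1 : ∀ i, i < 1409 → Nat.beq (Tab.act T D rw1 i) i = true := by
  intro i hi
  rw [← actW1_eq]
  exact (range_of_allRange c_w1_0) i (Nat.zero_le _) hi
theorem c_lt1 : ∀ x ∈ rw1, x < 8 := by decide

def rw2 : List Nat := [0, 0, 6, 3, 1, 3, 4, 7, 0, 0, 6, 4, 2, 0, 2, 7, 0, 0, 6, 3, 1, 3, 4, 7, 0, 0, 6, 4, 2, 0, 2, 7]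
noncomputable def actW2 (i : Nat) : Nat := col1 (col1 (col7 (col2 (col0 (col2 (col5 (col6 (col1 (col1 (col7 (col5 (col3 (col1 (col3 (col6 (col1 (col1 (col7 (col2 (col0 (col2 (col5 (col6 (col1 (col1 (col7 (col5 (col3 (col1 (col3 (col6 (i))))))))))))))))))))))))))))))))
theorem actW2_eq (i : Nat) : actW2 i = Tab.act T D rw2 i := rfl
theorem c_w2_0 : allRange (fun i => Nat.beq (actW2 i) i) 0 1409 = true := by decide +kernel
theorem h_w2 : ∀ i, i < 1409 → Nat.beq (Tab.act T D rw2 i) i = true := by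
  intro i hi
  rw [← actW2_eq]
  exact (range_of_allRange c_w2_0) i (Nat.zero_le _) hi
theorem c_lt2 : ∀ x ∈ rw2, x < 8 := by decide

def rw3 : List Nat := [0, 0, 3, 1, 3, 4, 6, 6, 3, 3, 3, 4, 7, 0, 0, 6, 4, 2, 2, 2, 7, 7, 4, 2, 0, 2, 0, 0, 3, 1, 3, 4, 6, 6, 3, 3, 3, 4, 7, 0, 0, 6, 4, 2, 2, 2, 7, 7, 4, 2, 0, 2]
noncomputable def actW3 (i : Nat) : Nat := col1 (col1 (col2 (col0 (col2 (col5 (col7 (col7 (col2 (col2 (col2 (col5 (col6 (col1 (col1 (col7 (col5 (col3 (col3 (col3 (col6 (col6 (col5 (col3 (col1 (col3 (col1 (col1 (col2 (col0 (col2 (col5 (col7 (col7 (col2 (col2 (col2 (col5 (col6 (col1 (col1 (col7 (col5 (col3 (col3 (col3 (col6 (col6 (col5 (col3 (col1 (col3 (i))))))))))))))))))))))))))))))))))))))))))))))))))))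
theorem actW3_eq (i : Nat) : actW3 i = Tab.act T D rw3 i := rfl
theorem c_w3_0 : allRange (fun i => Nat.beq (actW3 i) i) 0 1153 = true := by decide +kernel
theorem c_w3_1 : allRange (fun i => Nat.beq (actW3 i) i) 1153 256 = true := by decide +kernel
theorem h_w3 : ∀ i, i < 1409 → Nat.beq (Tab.act T D rw3 i) i = true := by
  intro i hi
  rw [← actW3_eq]
  exact (range_glue (range_of_allRange c_w3_0) (range_of_allRange c_w3_1)) i (Nat.zero_le _) hi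
theorem c_lt3 : ∀ x ∈ rw3, x < 8 := by decide

def rw4 : List Nat := [0, 0, 2, 1, 3, 3, 4, 1, 7, 3, 3, 3, 4, 1, 7, 0, 0, 6, 0, 4, 2, 2, 2, 6, 0, 4, 2, 2, 0, 3, 0, 0, 2, 1, 3, 3, 4, 1, 7, 3, 3, 3, 4, 1, 7, 0, 0, 6, 0, 4, 2, 2, 2, 6, 0, 4, 2, 2, 0, 3]
noncomputable def actW4 (i : Nat) : Nat := col1 (col1 (col3 (col0 (col2 (col2 (col5 (col0 (col6 (col2 (col2 (col2 (col5 (col0 (col6 (col1 (col1 (col7 (col1 (col5 (col3 (col3 (col3 (col7 (col1 (col5 (col3 (col3 (col1 (col2 (col1 (col1 (col3 (col0 (col2 (col2 (col5 (col0 (col6 (col2 (col2 (col2 (col5 (col0 (col6 (col1 (col1 (col7 (col1 (col5 (col3 (col3 (col3 (col7 (col1 (col5 (col3 (col3 (col1 (col2 (i))))))))))))))))))))))))))))))))))))))))))))))))))))))))))))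
theorem actW4_eq (i : Nat) : actW4 i = Tab.act T D rw4 i := rfl
theorem c_w4_0 : allRange (fun i => Nat.beq (actW4 i) i) 0 1000 = true := by decide +kernel
theorem c_w4_1 : allRange (fun i => Nat.beq (actW4 i) i) 1000 409 = true := by decide +kernel
theorem h_w4 : ∀ i, i < 1409 → Nat.beq (Tab.act T D rw4 i) i = true := by
  intro i hi
  rw [← actW4_eq]
  exact (range_glue (range_of_allRange c_w4_0) (range_of_allRange c_w4_1)) i (Nat.zero_le _) hi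
theorem c_lt4 : ∀ x ∈ rw4, x < 8 := by decide

def rw5 : List Nat := [0, 0, 3, 1, 3, 3, 4, 1, 3, 4, 6, 1, 3, 4, 7, 0, 0, 6, 4, 2, 0, 7, 4, 2, 0, 4, 2, 2, 0, 2, 0, 0, 3, 1, 3, 3, 4, 1, 3, 4, 6, 1, 3, 4, 7, 0, 0, 6, 4, 2, 0, 7, 4, 2, 0, 4, 2, 2, 0, 2]
noncomputable def actW5 (i : Nat) : Nat := col1 (col1 (col2 (col0 (col2 (col2 (col5 (col0 (col2 (col5 (col7 (col0 (col2 (col5 (col6 (col1 (col1 (col7 (col5 (col3 (col1 (col6 (col5 (col3 (col1 (col5 (col3 (col3 (col1 (col3 (col1 (col1 (col2 (col0 (col2 (col2 (col5 (col0 (col2 (col5 (col7 (col0 (col2 (col5 (col6 (col1 (col1 (col7 (col5 (col3 (col1 (col6 (col5 (col3 (col1 (col5 (col3 (col3 (col1 (col3 (i))))))))))))))))))))))))))))))))))))))))))))))))))))))))))))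
theorem actW5_eq (i : Nat) : actW5 i = Tab.act T D rw5 i := rfl
theorem c_w5_0 : allRange (fun i => Nat.beq (actW5 i) i) 0 1000 = true := by decide +kernel
theorem c_w5_1 : allRange (fun i => Nat.beq (actW5 i) i) 1000 409 = true := by decide +kernel
theorem h_w5 : ∀ i, i < 1409 → Nat.beq (Tab.act T D rw5 i) i = true := by
  intro i hi
  rw [← actW5_eq]
  exact (range_glue (range_of_allRange c_w5_0) (range_of_allRange c_w5_1)) i (Nat.zero_le _) hi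
theorem c_lt5 : ∀ x ∈ rw5, x < 8 := by decide

def rw6 : List Nat := [0, 0, 3, 4, 2, 4, 6, 1, 3, 3, 4, 7, 0, 0, 6, 4, 2, 2, 0, 7, 4, 3, 4, 2, 0, 0, 3, 4, 2, 4, 6, 1, 3, 3, 4, 7, 0, 0, 6, 4, 2, 2, 0, 7, 4, 3, 4, 2]
noncomputable def actW6 (i : Nat) : Nat := col1 (col1 (col2 (col5 (col3 (col5 (col7 (col0 (col2 (col2 (col5 (col6 (col1 (col1 (col7 (col5 (col3 (col3 (col1 (col6 (col5 (col2 (col5 (col3 (col1 (col1 (col2 (col5 (col3 (col5 (col7 (col0 (col2 (col2 (col5 (col6 (col1 (col1 (col7 (col5 (col3 (col3 (col1 (col6 (col5 (col2 (col5 (col3 (i))))))))))))))))))))))))))))))))))))))))))))))))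
theorem actW6_eq (i : Nat) : actW6 i = Tab.act T D rw6 i := rfl
theorem c_w6_0 : allRange (fun i => Nat.beq (actW6 i) i) 0 1250 = true := by decide +kernel
theorem c_w6_1 : allRange (fun i => Nat.beq (actW6 i) i) 1250 159 = true := by decide +kernel
theorem h_w6 : ∀ i, i < 1409 → Nat.beq (Tab.act T D rw6 i) i = true := by
  intro i hi
  rw [← actW6_eq]
  exact (range_glue (range_of_allRange c_w6_0) (range_of_allRange c_w6_1)) i (Nat.zero_le _) hi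
theorem c_lt6 : ∀ x ∈ rw6, x < 8 := by decide

def rw7 : List Nat := [0, 0, 2, 4, 3, 4, 6, 1, 3, 4, 7, 0, 0, 6, 4, 2, 0, 7, 4, 2, 4, 3, 0, 0, 2, 4, 3, 4, 6, 1, 3, 4, 7, 0, 0, 6, 4, 2, 0, 7, 4, 2, 4, 3]
noncomputable def actW7 (i : Nat) : Nat := col1 (col1 (col3 (col5 (col2 (col5 (col7 (col0 (col2 (col5 (col6 (col1 (col1 (col7 (col5 (col3 (col1 (col6 (col5 (col3 (col5 (col2 (col1 (col1 (col3 (col5 (col2 (col5 (col7 (col0 (col2 (col5 (col6 (col1 (col1 (col7 (col5 (col3 (col1 (col6 (col5 (col3 (col5 (col2 (i))))))))))))))))))))))))))))))))))))))))))))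
theorem actW7_eq (i : Nat) : actW7 i = Tab.act T D rw7 i := rfl
theorem c_w7_0 : allRange (fun i => Nat.beq (actW7 i) i) 0 1363 = true := by decide +kernel
theorem c_w7_1 : allRange (fun i => Nat.beq (actW7 i) i) 1363 46 = true := by decide +kernel
theorem h_w7 : ∀ i, i < 1409 → Nat.beq (Tab.act T D rw7 i) i = true := by
  intro i hi
  rw [← actW7_eq]
  exact (range_glue (range_of_allRange c_w7_0) (range_of_allRange c_w7_1)) i (Nat.zero_le _) hi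
theorem c_lt7 : ∀ x ∈ rw7, x < 8 := by decide

def rw8 : List Nat := [0, 0, 2, 4, 3, 4, 6, 1, 3, 1, 3, 3, 3, 4, 1, 7, 0, 0, 6, 0, 4, 2, 2, 2, 0, 2, 0, 7, 4, 2, 4, 3, 0, 0, 2, 4, 3, 4, 6, 1, 3, 1, 3, 3, 3, 4, 1, 7, 0, 0, 6, 0, 4, 2, 2, 2, 0, 2, 0, 7, 4, 2, 4, 3]
noncomputable def actW8 (i : Nat) : Nat := col1 (col1 (col3 (col5 (col2 (col5 (col7 (col0 (col2 (col0 (col2 (col2 (col2 (col5 (col0 (col6 (col1 (col1 (col7 (col1 (col5 (col3 (col3 (col3 (col1 (col3 (col1 (col6 (col5 (col3 (col5 (col2 (col1 (col1 (col3 (col5 (col2 (col5 (col7 (col0 (col2 (col0 (col2 (col2 (col2 (col5 (col0 (col6 (col1 (col1 (col7 (col1 (col5 (col3 (col3 (col3 (col1 (col3 (col1 (col6 (col5 (col3 (col5 (col2 (i))))))))))))))))))))))))))))))))))))))))))))))))))))))))))))))))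
theorem actW8_eq (i : Nat) : actW8 i = Tab.act T D rw8 i := rfl
theorem c_w8_0 : allRange (fun i => Nat.beq (actW8 i) i) 0 937 = true := by decide +kernel
theorem c_w8_1 : allRange (fun i => Nat.beq (actW8 i) i) 937 472 = true := by decide +kernel
theorem h_w8 : ∀ i, i < 1409 → Nat.beq (Tab.act T D rw8 i) i = true := by
  intro i hi
  rw [← actW8_eq]
  exact (range_glue (range_of_allRange c_w8_0) (range_of_allRange c_w8_1)) i (Nat.zero_le _) hi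
theorem c_lt8 : ∀ x ∈ rw8, x < 8 := by decide

def rw9 : List Nat := [7, 4, 6, 0, 0, 7, 4, 6, 7, 4, 6, 0, 0, 7, 4, 6]
noncomputable def actW9 (i : Nat) : Nat := col6 (col5 (col7 (col1 (col1 (col6 (col5 (col7 (col6 (col5 (col7 (col1 (col1 (col6 (col5 (col7 (i))))))))))))))))
theorem actW9_eq (i : Nat) : actW9 i = Tab.act T D rw9 i := rfl
theorem c_w9_0 : allRange (fun i => Nat.beq (actW9 i) i) 0 1409 = true := by decide +kernel
theorem h_w9 : ∀ i, i < 1409 → Nat.beq (Tab.act T D rw9 i) i = true := by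
  intro i hi
  rw [← actW9_eq]
  exact (range_of_allRange c_w9_0) i (Nat.zero_le _) hi
theorem c_lt9 : ∀ x ∈ rw9, x < 8 := by decide

def rw10 : List Nat := [7, 4, 6, 0, 0, 7, 4, 6, 6, 3, 1, 3, 4, 7, 0, 0, 6, 4, 2, 0, 2, 7, 7, 4, 6, 0, 0, 7, 4, 6, 6, 3, 1, 3, 4, 7, 0, 0, 6, 4, 2, 0, 2, 7, 7, 4, 6, 0, 0, 7, 4, 6, 6, 3, 1, 3, 4, 7, 0, 0, 6, 4, 2, 0, 2, 7]
noncomputable def actW10 (i : Nat) : Nat := col6 (col5 (col7 (col1 (col1 (col6 (col5 (col7 (col7 (col2 (col0 (col2 (col5 (col6 (col1 (col1 (col7 (col5 (col3 (col1 (col3 (col6 (col6 (col5 (col7 (col1 (col1 (col6 (col5 (col7 (col7 (col2 (col0 (col2 (col5 (col6 (col1 (col1 (col7 (col5 (col3 (col1 (col3 (col6 (col6 (col5 (col7 (col1 (col1 (col6 (col5 (col7 (col7 (col2 (col0 (col2 (col5 (col6 (col1 (col1 (col7 (col5 (col3 (col1 (col3 (col6 (i))))))))))))))))))))))))))))))))))))))))))))))))))))))))))))))))))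
theorem actW10_eq (i : Nat) : actW10 i = Tab.act T D rw10 i := rfl
theorem c_w10_0 : allRange (fun i => Nat.beq (actW10 i) i) 0 909 = true := by decide +kernel
theorem c_w10_1 : allRange (fun i => Nat.beq (actW10 i) i) 909 500 = true := by decide +kernel
theorem h_w10 : ∀ i, i < 1409 → Nat.beq (Tab.act T D rw10 i) i = true := by
  intro i hi
  rw [← actW10_eq]
  exact (range_glue (range_of_allRange c_w10_0) (range_of_allRange c_w10_1)) i (Nat.zero_le _) hi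
theorem c_lt10 : ∀ x ∈ rw10, x < 8 := by decide

def rw11 : List Nat := [7, 4, 6, 0, 0, 7, 4, 6, 3, 1, 3, 4, 6, 6, 3, 3, 3, 4, 7, 0, 0, 6, 4, 2, 2, 2, 7, 7, 4, 2, 0, 2, 7, 4, 6, 0, 0, 7, 4, 6, 3, 1, 3, 4, 6, 6, 3, 3, 3, 4, 7, 0, 0, 6, 4, 2, 2, 2, 7, 7, 4, 2, 0, 2]
noncomputable def actW11 (i : Nat) : Nat := col6 (col5 (col7 (col1 (col1 (col6 (col5 (col7 (col2 (col0 (col2 (col5 (col7 (col7 (col2 (col2 (col2 (col5 (col6 (col1 (col1 (col7 (col5 (col3 (col3 (col3 (col6 (col6 (col5 (col3 (col1 (col3 (col6 (col5 (col7 (col1 (col1 (col6 (col5 (col7 (col2 (col0 (col2 (col5 (col7 (col7 (col2 (col2 (col2 (col5 (col6 (col1 (col1 (col7 (col5 (col3 (col3 (col3 (col6 (col6 (col5 (col3 (col1 (col3 (i))))))))))))))))))))))))))))))))))))))))))))))))))))))))))))))))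
theorem actW11_eq (i : Nat) : actW11 i = Tab.act T D rw11 i := rfl
theorem c_w11_0 : allRange (fun i => Nat.beq (actW11 i) i) 0 937 = true := by decide +kernel
theorem c_w11_1 : allRange (fun i => Nat.beq (actW11 i) i) 937 472 = true := by decide +kernel
theorem h_w11 : ∀ i, i < 1409 → Nat.beq (Tab.act T D rw11 i) i = true := by
  intro i hi
  rw [← actW11_eq]
  exact (range_glue (range_of_allRange c_w11_0) (range_of_allRange c_w11_1)) i (Nat.zero_le _) hi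
theorem c_lt11 : ∀ x ∈ rw11, x < 8 := by decide

def rw12 : List Nat := [7, 4, 6, 0, 0, 7, 4, 6, 2, 1, 3, 3, 4, 1, 7, 3, 3, 3, 4, 1, 7, 0, 0, 6, 0, 4, 2, 2, 2, 6, 0, 4, 2, 2, 0, 3, 7, 4, 6, 0, 0, 7, 4, 6, 2, 1, 3, 3, 4, 1, 7, 3, 3, 3, 4, 1, 7, 0, 0, 6, 0, 4, 2, 2, 2, 6, 0, 4, 2, 2, 0, 3]
noncomputable def actW12 (i : Nat) : Nat := col6 (col5 (col7 (col1 (col1 (col6 (col5 (col7 (col3 (col0 (col2 (col2 (col5 (col0 (col6 (col2 (col2 (col2 (col5 (col0 (col6 (col1 (col1 (col7 (col1 (col5 (col3 (col3 (col3 (col7 (col1 (col5 (col3 (col3 (col1 (col2 (col6 (col5 (col7 (col1 (col1 (col6 (col5 (col7 (col3 (col0 (col2 (col2 (col5 (col0 (col6 (col2 (col2 (col2 (col5 (col0 (col6 (col1 (col1 (col7 (col1 (col5 (col3 (col3 (col3 (col7 (col1 (col5 (col3 (col3 (col1 (col2 (i))))))))))))))))))))))))))))))))))))))))))))))))))))))))))))))))))))))))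
theorem actW12_eq (i : Nat) : actW12 i = Tab.act T D rw12 i := rfl
theorem c_w12_0 : allRange (fun i => Nat.beq (actW12 i) i) 0 833 = true := by decide +kernel
theorem c_w12_1 : allRange (fun i => Nat.beq (actW12 i) i) 833 576 = true := by decide +kernel
theorem h_w12 : ∀ i, i < 1409 → Nat.beq (Tab.act T D rw12 i) i = true := by
  intro i hi
  rw [← actW12_eq]
  exact (range_glue (range_of_allRange c_w12_0) (range_of_allRange c_w12_1)) i (Nat.zero_le _) hi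
theorem c_lt12 : ∀ x ∈ rw12, x < 8 := by decide

def rw13 : List Nat := [7, 4, 6, 0, 0, 7, 4, 6, 3, 1, 3, 3, 4, 1, 3, 4, 6, 1, 3, 4, 7, 0, 0, 6, 4, 2, 0, 7, 4, 2, 0, 4, 2, 2, 0, 2, 7, 4, 6, 0, 0, 7, 4, 6, 3, 1, 3, 3, 4, 1, 3, 4, 6, 1, 3, 4, 7, 0, 0, 6, 4, 2, 0, 7, 4, 2, 0, 4, 2, 2, 0, 2]
noncomputable def actW13 (i : Nat) : Nat := col6 (col5 (col7 (col1 (col1 (col6 (col5 (col7 (col2 (col0 (col2 (col2 (col5 (col0 (col2 (col5 (col7 (col0 (col2 (col5 (col6 (col1 (col1 (col7 (col5 (col3 (col1 (col6 (col5 (col3 (col1 (col5 (col3 (col3 (col1 (col3 (col6 (col5 (col7 (col1 (col1 (col6 (col5 (col7 (col2 (col0 (col2 (col2 (col5 (col0 (col2 (col5 (col7 (col0 (col2 (col5 (col6 (col1 (col1 (col7 (col5 (col3 (col1 (col6 (col5 (col3 (col1 (col5 (col3 (col3 (col1 (col3 (i))))))))))))))))))))))))))))))))))))))))))))))))))))))))))))))))))))))))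
theorem actW13_eq (i : Nat) : actW13 i = Tab.act T D rw13 i := rfl
theorem c_w13_0 : allRange (fun i => Nat.beq (actW13 i) i) 0 833 = true := by decide +kernel
theorem c_w13_1 : allRange (fun i => Nat.beq (actW13 i) i) 833 576 = true := by decide +kernel
theorem h_w13 : ∀ i, i < 1409 → Nat.beq (Tab.act T D rw13 i) i = true := by
  intro i hi
  rw [← actW13_eq]
  exact (range_glue (range_of_allRange c_w13_0) (range_of_allRange c_w13_1)) i (Nat.zero_le _) hi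
theorem c_lt13 : ∀ x ∈ rw13, x < 8 := by decide

def rw14 : List Nat := [7, 4, 6, 0, 0, 7, 4, 6, 3, 4, 2, 4, 6, 1, 3, 3, 4, 7, 0, 0, 6, 4, 2, 2, 0, 7, 4, 3, 4, 2, 7, 4, 6, 0, 0, 7, 4, 6, 3, 4, 2, 4, 6, 1, 3, 3, 4, 7, 0, 0, 6, 4, 2, 2, 0, 7, 4, 3, 4, 2]
noncomputable def actW14 (i : Nat) : Nat := col6 (col5 (col7 (col1 (col1 (col6 (col5 (col7 (col2 (col5 (col3 (col5 (col7 (col0 (col2 (col2 (col5 (col6 (col1 (col1 (col7 (col5 (col3 (col3 (col1 (col6 (col5 (col2 (col5 (col3 (col6 (col5 (col7 (col1 (col1 (col6 (col5 (col7 (col2 (col5 (col3 (col5 (col7 (col0 (col2 (col2 (col5 (col6 (col1 (col1 (col7 (col5 (col3 (col3 (col1 (col6 (col5 (col2 (col5 (col3 (i))))))))))))))))))))))))))))))))))))))))))))))))))))))))))))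
theorem actW14_eq (i : Nat) : actW14 i = Tab.act T D rw14 i := rfl
theorem c_w14_0 : allRange (fun i => Nat.beq (actW14 i) i) 0 1000 = true := by decide +kernel
theorem c_w14_1 : allRange (fun i => Nat.beq (actW14 i) i) 1000 409 = true := by decide +kernel
theorem h_w14 : ∀ i, i < 1409 → Nat.beq (Tab.act T D rw14 i) i = true := by
  intro i hi
  rw [← actW14_eq]
  exact (range_glue (range_of_allRange c_w14_0) (range_of_allRange c_w14_1)) i (Nat.zero_le _) hi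
theorem c_lt14 : ∀ x ∈ rw14, x < 8 := by decide

def rw15 : List Nat := [7, 4, 6, 0, 0, 7, 4, 6, 2, 4, 3, 4, 6, 1, 3, 4, 7, 0, 0, 6, 4, 2, 0, 7, 4, 2, 4, 3, 7, 4, 6, 0, 0, 7, 4, 6, 2, 4, 3, 4, 6, 1, 3, 4, 7, 0, 0, 6, 4, 2, 0, 7, 4, 2, 4, 3]
noncomputable def actW15 (i : Nat) : Nat := col6 (col5 (col7 (col1 (col1 (col6 (col5 (col7 (col3 (col5 (col2 (col5 (col7 (col0 (col2 (col5 (col6 (col1 (col1 (col7 (col5 (col3 (col1 (col6 (col5 (col3 (col5 (col2 (col6 (col5 (col7 (col1 (col1 (col6 (col5 (col7 (col3 (col5 (col2 (col5 (col7 (col0 (col2 (col5 (col6 (col1 (col1 (col7 (col5 (col3 (col1 (col6 (col5 (col3 (col5 (col2 (i))))))))))))))))))))))))))))))))))))))))))))))))))))))))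
theorem actW15_eq (i : Nat) : actW15 i = Tab.act T D rw15 i := rfl
theorem c_w15_0 : allRange (fun i => Nat.beq (actW15 i) i) 0 1071 = true := by decide +kernel
theorem c_w15_1 : allRange (fun i => Nat.beq (actW15 i) i) 1071 338 = true := by decide +kernel
theorem h_w15 : ∀ i, i < 1409 → Nat.beq (Tab.act T D rw15 i) i = true := by
  intro i hi
  rw [← actW15_eq]
  exact (range_glue (range_of_allRange c_w15_0) (range_of_allRange c_w15_1)) i (Nat.zero_le _) hi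
theorem c_lt15 : ∀ x ∈ rw15, x < 8 := by decide

def rw16 : List Nat := [7, 4, 6, 0, 0, 7, 4, 6, 2, 4, 3, 4, 6, 1, 3, 1, 3, 3, 3, 4, 1, 7, 0, 0, 6, 0, 4, 2, 2, 2, 0, 2, 0, 7, 4, 2, 4, 3, 7, 4, 6, 0, 0, 7, 4, 6, 2, 4, 3, 4, 6, 1, 3, 1, 3, 3, 3, 4, 1, 7, 0, 0, 6, 0, 4, 2, 2, 2, 0, 2, 0, 7, 4, 2, 4, 3]
noncomputable def actW16 (i : Nat) : Nat := col6 (col5 (col7 (col1 (col1 (col6 (col5 (col7 (col3 (col5 (col2 (col5 (col7 (col0 (col2 (col0 (col2 (col2 (col2 (col5 (col0 (col6 (col1 (col1 (col7 (col1 (col5 (col3 (col3 (col3 (col1 (col3 (col1 (col6 (col5 (col3 (col5 (col2 (col6 (col5 (col7 (col1 (col1 (col6 (col5 (col7 (col3 (col5 (col2 (col5 (col7 (col0 (col2 (col0 (col2 (col2 (col2 (col5 (col0 (col6 (col1 (col1 (col7 (col1 (col5 (col3 (col3 (col3 (col1 (col3 (col1 (col6 (col5 (col3 (col5 (col2 (i))))))))))))))))))))))))))))))))))))))))))))))))))))))))))))))))))))))))))))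
theorem actW16_eq (i : Nat) : actW16 i = Tab.act T D rw16 i := rfl
theorem c_w16_0 : allRange (fun i => Nat.beq (actW16 i) i) 0 789 = true := by decide +kernel
theorem c_w16_1 : allRange (fun i => Nat.beq (actW16 i) i) 789 620 = true := by decide +kernel
theorem h_w16 : ∀ i, i < 1409 → Nat.beq (Tab.act T D rw16 i) i = true := by
  intro i hi
  rw [← actW16_eq]
  exact (range_glue (range_of_allRange c_w16_0) (range_of_allRange c_w16_1)) i (Nat.zero_le _) hi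
theorem c_lt16 : ∀ x ∈ rw16, x < 8 := by decide

def rw17 : List Nat := [6, 3, 1, 3, 4, 7, 0, 0, 6, 4, 2, 0, 2, 7, 6, 3, 1, 3, 4, 7, 0, 0, 6, 4, 2, 0, 2, 7]
noncomputable def actW17 (i : Nat) : Nat := col7 (col2 (col0 (col2 (col5 (col6 (col1 (col1 (col7 (col5 (col3 (col1 (col3 (col6 (col7 (col2 (col0 (col2 (col5 (col6 (col1 (col1 (col7 (col5 (col3 (col1 (col3 (col6 (i))))))))))))))))))))))))))))
theorem actW17_eq (i : Nat) : actW17 i = Tab.act T D rw17 i := rfl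
theorem c_w17_0 : allRange (fun i => Nat.beq (actW17 i) i) 0 1409 = true := by decide +kernel
theorem h_w17 : ∀ i, i < 1409 → Nat.beq (Tab.act T D rw17 i) i = true := by
  intro i hi
  rw [← actW17_eq]
  exact (range_of_allRange c_w17_0) i (Nat.zero_le _) hi
theorem c_lt17 : ∀ x ∈ rw17, x < 8 := by decide

def rw18 : List Nat := [6, 3, 1, 3, 4, 7, 0, 0, 6, 4, 2, 0, 2, 7, 3, 1, 3, 4, 6, 6, 3, 3, 3, 4, 7, 0, 0, 6, 4, 2, 2, 2, 7, 7, 4, 2, 0, 2, 6, 3, 1, 3, 4, 7, 0, 0, 6, 4, 2, 0, 2, 7, 3, 1, 3, 4, 6, 6, 3, 3, 3, 4, 7, 0, 0, 6, 4, 2, 2, 2, 7, 7, 4, 2, 0, 2, 6, 3, 1, 3, 4, 7, 0, 0, 6, 4, 2, 0, 2, 7, 3, 1, 3, 4, 6, 6, 3, 3, 3, 4, 7, 0, 0, 6, 4, 2, 2, 2, 7, 7, 4, 2, 0, 2]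
noncomputable def actW18 (i : Nat) : Nat := col7 (col2 (col0 (col2 (col5 (col6 (col1 (col1 (col7 (col5 (col3 (col1 (col3 (col6 (col2 (col0 (col2 (col5 (col7 (col7 (col2 (col2 (col2 (col5 (col6 (col1 (col1 (col7 (col5 (col3 (col3 (col3 (col6 (col6 (col5 (col3 (col1 (col3 (col7 (col2 (col0 (col2 (col5 (col6 (col1 (col1 (col7 (col5 (col3 (col1 (col3 (col6 (col2 (col0 (col2 (col5 (col7 (col7 (col2 (col2 (col2 (col5 (col6 (col1 (col1 (col7 (col5 (col3 (col3 (col3 (col6 (col6 (col5 (col3 (col1 (col3 (col7 (col2 (col0 (col2 (col5 (col6 (col1 (col1 (col7 (col5 (col3 (col1 (col3 (col6 (col2 (col0 (col2 (col5 (col7 (col7 (col2 (col2 (col2 (col5 (col6 (col1 (col1 (col7 (col5 (col3 (col3 (col3 (col6 (col6 (col5 (col3 (col1 (col3 (i))))))))))))))))))))))))))))))))))))))))))))))))))))))))))))))))))))))))))))))))))))))))))))))))))))))))))))))))))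
theorem actW18_eq (i : Nat) : actW18 i = Tab.act T D rw18 i := rfl
theorem c_w18_0 : allRange (fun i => Nat.beq (actW18 i) i) 0 526 = true := by decide +kernel
theorem c_w18_1 : allRange (fun i => Nat.beq (actW18 i) i) 526 526 = true := by decide +kernel
theorem c_w18_2 : allRange (fun i => Nat.beq (actW18 i) i) 1052 357 = true := by decide +kernel
theorem h_w18 : ∀ i, i < 1409 → Nat.beq (Tab.act T D rw18 i) i = true := by
  intro i hi
  rw [← actW18_eq]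
  exact (range_glue (range_of_allRange c_w18_0) (range_glue (range_of_allRange c_w18_1) (range_of_allRange c_w18_2))) i (Nat.zero_le _) hi
theorem c_lt18 : ∀ x ∈ rw18, x < 8 := by decide

def rw19 : List Nat := [6, 3, 1, 3, 4, 7, 0, 0, 6, 4, 2, 0, 2, 7, 2, 1, 3, 3, 4, 1, 7, 3, 3, 3, 4, 1, 7, 0, 0, 6, 0, 4, 2, 2, 2, 6, 0, 4, 2, 2, 0, 3, 6, 3, 1, 3, 4, 7, 0, 0, 6, 4, 2, 0, 2, 7, 2, 1, 3, 3, 4, 1, 7, 3, 3, 3, 4, 1, 7, 0, 0, 6, 0, 4, 2, 2, 2, 6, 0, 4, 2, 2, 0, 3]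
noncomputable def actW19 (i : Nat) : Nat := col7 (col2 (col0 (col2 (col5 (col6 (col1 (col1 (col7 (col5 (col3 (col1 (col3 (col6 (col3 (col0 (col2 (col2 (col5 (col0 (col6 (col2 (col2 (col2 (col5 (col0 (col6 (col1 (col1 (col7 (col1 (col5 (col3 (col3 (col3 (col7 (col1 (col5 (col3 (col3 (col1 (col2 (col7 (col2 (col0 (col2 (col5 (col6 (col1 (col1 (col7 (col5 (col3 (col1 (col3 (col6 (col3 (col0 (col2 (col2 (col5 (col0 (col6 (col2 (col2 (col2 (col5 (col0 (col6 (col1 (col1 (col7 (col1 (col5 (col3 (col3 (col3 (col7 (col1 (col5 (col3 (col3 (col1 (col2 (i))))))))))))))))))))))))))))))))))))))))))))))))))))))))))))))))))))))))))))))))))))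
theorem actW19_eq (i : Nat) : actW19 i = Tab.act T D rw19 i := rfl
theorem c_w19_0 : allRange (fun i => Nat.beq (actW19 i) i) 0 714 = true := by decide +kernel
theorem c_w19_1 : allRange (fun i => Nat.beq (actW19 i) i) 714 695 = true := by decide +kernel
theorem h_w19 : ∀ i, i < 1409 → Nat.beq (Tab.act T D rw19 i) i = true := by
  intro i hi
  rw [← actW19_eq]
  exact (range_glue (range_of_allRange c_w19_0) (range_of_allRange c_w19_1)) i (Nat.zero_le _) hi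
theorem c_lt19 : ∀ x ∈ rw19, x < 8 := by decide

def rw20 : List Nat := [6, 3, 1, 3, 4, 7, 0, 0, 6, 4, 2, 0, 2, 7, 3, 1, 3, 3, 4, 1, 3, 4, 6, 1, 3, 4, 7, 0, 0, 6, 4, 2, 0, 7, 4, 2, 0, 4, 2, 2, 0, 2, 6, 3, 1, 3, 4, 7, 0, 0, 6, 4, 2, 0, 2, 7, 3, 1, 3, 3, 4, 1, 3, 4, 6, 1, 3, 4, 7, 0, 0, 6, 4, 2, 0, 7, 4, 2, 0, 4, 2, 2, 0, 2]
noncomputable def actW20 (i : Nat) : Nat := col7 (col2 (col0 (col2 (col5 (col6 (col1 (col1 (col7 (col5 (col3 (col1 (col3 (col6 (col2 (col0 (col2 (col2 (col5 (col0 (col2 (col5 (col7 (col0 (col2 (col5 (col6 (col1 (col1 (col7 (col5 (col3 (col1 (col6 (col5 (col3 (col1 (col5 (col3 (col3 (col1 (col3 (col7 (col2 (col0 (col2 (col5 (col6 (col1 (col1 (col7 (col5 (col3 (col1 (col3 (col6 (col2 (col0 (col2 (col2 (col5 (col0 (col2 (col5 (col7 (col0 (col2 (col5 (col6 (col1 (col1 (col7 (col5 (col3 (col1 (col6 (col5 (col3 (col1 (col5 (col3 (col3 (col1 (col3 (i))))))))))))))))))))))))))))))))))))))))))))))))))))))))))))))))))))))))))))))))))))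
theorem actW20_eq (i : Nat) : actW20 i = Tab.act T D rw20 i := rfl
theorem c_w20_0 : allRange (fun i => Nat.beq (actW20 i) i) 0 714 = true := by decide +kernel
theorem c_w20_1 : allRange (fun i => Nat.beq (actW20 i) i) 714 695 = true := by decide +kernel
theorem h_w20 : ∀ i, i < 1409 → Nat.beq (Tab.act T D rw20 i) i = true := by
  intro i hi
  rw [← actW20_eq]
  exact (range_glue (range_of_allRange c_w20_0) (range_of_allRange c_w20_1)) i (Nat.zero_le _) hi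
theorem c_lt20 : ∀ x ∈ rw20, x < 8 := by decide

def rw21 : List Nat := [6, 3, 1, 3, 4, 7, 0, 0, 6, 4, 2, 0, 2, 7, 3, 4, 2, 4, 6, 1, 3, 3, 4, 7, 0, 0, 6, 4, 2, 2, 0, 7, 4, 3, 4, 2, 6, 3, 1, 3, 4, 7, 0, 0, 6, 4, 2, 0, 2, 7, 3, 4, 2, 4, 6, 1, 3, 3, 4, 7, 0, 0, 6, 4, 2, 2, 0, 7, 4, 3, 4, 2]
noncomputable def actW21 (i : Nat) : Nat := col7 (col2 (col0 (col2 (col5 (col6 (col1 (col1 (col7 (col5 (col3 (col1 (col3 (col6 (col2 (col5 (col3 (col5 (col7 (col0 (col2 (col2 (col5 (col6 (col1 (col1 (col7 (col5 (col3 (col3 (col1 (col6 (col5 (col2 (col5 (col3 (col7 (col2 (col0 (col2 (col5 (col6 (col1 (col1 (col7 (col5 (col3 (col1 (col3 (col6 (col2 (col5 (col3 (col5 (col7 (col0 (col2 (col2 (col5 (col6 (col1 (col1 (col7 (col5 (col3 (col3 (col1 (col6 (col5 (col2 (col5 (col3 (i))))))))))))))))))))))))))))))))))))))))))))))))))))))))))))))))))))))))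
theorem actW21_eq (i : Nat) : actW21 i = Tab.act T D rw21 i := rfl
theorem c_w21_0 : allRange (fun i => Nat.beq (actW21 i) i) 0 833 = true := by decide +kernel
theorem c_w21_1 : allRange (fun i => Nat.beq (actW21 i) i) 833 576 = true := by decide +kernel
theorem h_w21 : ∀ i, i < 1409 → Nat.beq (Tab.act T D rw21 i) i = true := by
  intro i hi
  rw [← actW21_eq]
  exact (range_glue (range_of_allRange c_w21_0) (range_of_allRange c_w21_1)) i (Nat.zero_le _) hi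
theorem c_lt21 : ∀ x ∈ rw21, x < 8 := by decide

def rw22 : List Nat := [6, 3, 1, 3, 4, 7, 0, 0, 6, 4, 2, 0, 2, 7, 2, 4, 3, 4, 6, 1, 3, 4, 7, 0, 0, 6, 4, 2, 0, 7, 4, 2, 4, 3, 6, 3, 1, 3, 4, 7, 0, 0, 6, 4, 2, 0, 2, 7, 2, 4, 3, 4, 6, 1, 3, 4, 7, 0, 0, 6, 4, 2, 0, 7, 4, 2, 4, 3]
noncomputable def actW22 (i : Nat) : Nat := col7 (col2 (col0 (col2 (col5 (col6 (col1 (col1 (col7 (col5 (col3 (col1 (col3 (col6 (col3 (col5 (col2 (col5 (col7 (col0 (col2 (col5 (col6 (col1 (col1 (col7 (col5 (col3 (col1 (col6 (col5 (col3 (col5 (col2 (col7 (col2 (col0 (col2 (col5 (col6 (col1 (col1 (col7 (col5 (col3 (col1 (col3 (col6 (col3 (col5 (col2 (col5 (col7 (col0 (col2 (col5 (col6 (col1 (col1 (col7 (col5 (col3 (col1 (col6 (col5 (col3 (col5 (col2 (i))))))))))))))))))))))))))))))))))))))))))))))))))))))))))))))))))))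
theorem actW22_eq (i : Nat) : actW22 i = Tab.act T D rw22 i := rfl
theorem c_w22_0 : allRange (fun i => Nat.beq (actW22 i) i) 0 882 = true := by decide +kernel
theorem c_w22_1 : allRange (fun i => Nat.beq (actW22 i) i) 882 527 = true := by decide +kernel
theorem h_w22 : ∀ i, i < 1409 → Nat.beq (Tab.act T D rw22 i) i = true := by
  intro i hi
  rw [← actW22_eq]
  exact (range_glue (range_of_allRange c_w22_0) (range_of_allRange c_w22_1)) i (Nat.zero_le _) hi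
theorem c_lt22 : ∀ x ∈ rw22, x < 8 := by decide

def rw23 : List Nat := [6, 3, 1, 3, 4, 7, 0, 0, 6, 4, 2, 0, 2, 7, 2, 4, 3, 4, 6, 1, 3, 1, 3, 3, 3, 4, 1, 7, 0, 0, 6, 0, 4, 2, 2, 2, 0, 2, 0, 7, 4, 2, 4, 3, 6, 3, 1, 3, 4, 7, 0, 0, 6, 4, 2, 0, 2, 7, 2, 4, 3, 4, 6, 1, 3, 1, 3, 3, 3, 4, 1, 7, 0, 0, 6, 0, 4, 2, 2, 2, 0, 2, 0, 7, 4, 2, 4, 3]
noncomputable def actW23 (i : Nat) : Nat := col7 (col2 (col0 (col2 (col5 (col6 (col1 (col1 (col7 (col5 (col3 (col1 (col3 (col6 (col3 (col5 (col2 (col5 (col7 (col0 (col2 (col0 (col2 (col2 (col2 (col5 (col0 (col6 (col1 (col1 (col7 (col1 (col5 (col3 (col3 (col3 (col1 (col3 (col1 (col6 (col5 (col3 (col5 (col2 (col7 (col2 (col0 (col2 (col5 (col6 (col1 (col1 (col7 (col5 (col3 (col1 (col3 (col6 (col3 (col5 (col2 (col5 (col7 (col0 (col2 (col0 (col2 (col2 (col2 (col5 (col0 (col6 (col1 (col1 (col7 (col1 (col5 (col3 (col3 (col3 (col1 (col3 (col1 (col6 (col5 (col3 (col5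 (col2 (i))))))))))))))))))))))))))))))))))))))))))))))))))))))))))))))))))))))))))))))))))))))))
theorem actW23_eq (i : Nat) : actW23 i = Tab.act T D rw23 i := rfl
theorem c_w23_0 : allRange (fun i => Nat.beq (actW23 i) i) 0 681 = true := by decide +kernel
theorem c_w23_1 : allRange (fun i => Nat.beq (actW23 i) i) 681 681 = true := by decide +kernel
theorem c_w23_2 : allRange (fun i => Nat.beq (actW23 i) i) 1362 47 = true := by decide +kernel
theorem h_w23 : ∀ i, i < 1409 → Nat.beq (Tab.act T D rw23 i) i = true := by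
  intro i hi
  rw [← actW23_eq]
  exact (range_glue (range_of_allRange c_w23_0) (range_glue (range_of_allRange c_w23_1) (range_of_allRange c_w23_2))) i (Nat.zero_le _) hi
theorem c_lt23 : ∀ x ∈ rw23, x < 8 := by decide

def rw24 : List Nat := [3, 1, 3, 4, 6, 6, 3, 3, 3, 4, 7, 0, 0, 6, 4, 2, 2, 2, 7, 7, 4, 2, 0, 2, 3, 1, 3, 4, 6, 6, 3, 3, 3, 4, 7, 0, 0, 6, 4, 2, 2, 2, 7, 7, 4, 2, 0, 2]
noncomputable def actW24 (i : Nat) : Nat := col2 (col0 (col2 (col5 (col7 (col7 (col2 (col2 (col2 (col5 (col6 (col1 (col1 (col7 (col5 (col3 (col3 (col3 (col6 (col6 (col5 (col3 (col1 (col3 (col2 (col0 (col2 (col5 (col7 (col7 (col2 (col2 (col2 (col5 (col6 (col1 (col1 (col7 (col5 (col3 (col3 (col3 (col6 (col6 (col5 (col3 (col1 (col3 (i))))))))))))))))))))))))))))))))))))))))))))))))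
theorem actW24_eq (i : Nat) : actW24 i = Tab.act T D rw24 i := rfl
theorem c_w24_0 : allRange (fun i => Nat.beq (actW24 i) i) 0 1250 = true := by decide +kernel
theorem c_w24_1 : allRange (fun i => Nat.beq (actW24 i) i) 1250 159 = true := by decide +kernel
theorem h_w24 : ∀ i, i < 1409 → Nat.beq (Tab.act T D rw24 i) i = true := by
  intro i hi
  rw [← actW24_eq]
  exact (range_glue (range_of_allRange c_w24_0) (range_of_allRange c_w24_1)) i (Nat.zero_le _) hi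
theorem c_lt24 : ∀ x ∈ rw24, x < 8 := by decide

def rw25 : List Nat := [3, 1, 3, 4, 6, 6, 3, 3, 3, 4, 7, 0, 0, 6, 4, 2, 2, 2, 7, 7, 4, 2, 0, 2, 2, 1, 3, 3, 4, 1, 7, 3, 3, 3, 4, 1, 7, 0, 0, 6, 0, 4, 2, 2, 2, 6, 0, 4, 2, 2, 0, 3, 3, 1, 3, 4, 6, 6, 3, 3, 3, 4, 7, 0, 0, 6, 4, 2, 2, 2, 7, 7, 4, 2, 0, 2, 2, 1, 3, 3, 4, 1, 7, 3, 3, 3, 4, 1, 7, 0, 0, 6, 0, 4, 2, 2, 2, 6, 0, 4, 2, 2, 0, 3, 3, 1, 3, 4, 6, 6, 3, 3, 3, 4, 7, 0, 0, 6, 4, 2, 2, 2, 7, 7, 4, 2, 0, 2, 2, 1, 3, 3, 4, 1, 7, 3, 3, 3, 4, 1, 7, 0, 0, 6, 0, 4, 2, 2, 2, 6, 0, 4, 2, 2, 0, 3]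
noncomputable def actW25 (i : Nat) : Nat := col2 (col0 (col2 (col5 (col7 (col7 (col2 (col2 (col2 (col5 (col6 (col1 (col1 (col7 (col5 (col3 (col3 (col3 (col6 (col6 (col5 (col3 (col1 (col3 (col3 (col0 (col2 (col2 (col5 (col0 (col6 (col2 (col2 (col2 (col5 (col0 (col6 (col1 (col1 (col7 (col1 (col5 (col3 (col3 (col3 (col7 (col1 (col5 (col3 (col3 (col1 (col2 (col2 (col0 (col2 (col5 (col7 (col7 (col2 (col2 (col2 (col5 (col6 (col1 (col1 (col7 (col5 (col3 (col3 (col3 (col6 (col6 (col5 (col3 (col1 (col3 (col3 (col0 (col2 (col2 (col5 (col0 (col6 (col2 (col2 (col2 (col5 (col0 (col6 (col1 (col1 (col7 (col1 (col5 (col3 (col3 (col3 (col7 (col1 (col5 (col3 (col3 (col1 (col2 (col2 (col0 (col2 (col5 (col7 (col7 (col2 (col2 (col2 (col5 (col6 (col1 (col1 (col7 (col5 (col3 (col3 (col3 (col6 (col6 (col5 (col3 (col1 (col3 (col3 (col0 (col2 (col2 (col5 (col0 (col6 (col2 (col2 (col2 (col5 (col0 (col6 (col1 (col1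 (col7 (col1 (col5 (col3 (col3 (col3 (col7 (col1 (col5 (col3 (col3 (col1 (col2 (i))))))))))))))))))))))))))))))))))))))))))))))))))))))))))))))))))))))))))))))))))))))))))))))))))))))))))))))))))))))))))))))))))))))))))))))))))))))))))))
theorem actW25_eq (i : Nat) : actW25 i = Tab.act T D rw25 i := rfl
theorem c_w25_0 : allRange (fun i => Nat.beq (actW25 i) i) 0 384 = true := by decide +kernel
theorem c_w25_1 : allRange (fun i => Nat.beq (actW25 i) i) 384 384 = true := by decide +kernel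
theorem c_w25_2 : allRange (fun i => Nat.beq (actW25 i) i) 768 384 = true := by decide +kernel
theorem c_w25_3 : allRange (fun i => Nat.beq (actW25 i) i) 1152 257 = true := by decide +kernel
theorem h_w25 : ∀ i, i < 1409 → Nat.beq (Tab.act T D rw25 i) i = true := by
  intro i hi
  rw [← actW25_eq]
  exact (range_glue (range_of_allRange c_w25_0) (range_glue (range_of_allRange c_w25_1) (range_glue (range_of_allRange c_w25_2) (range_of_allRange c_w25_3)))) i (Nat.zero_le _) hi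
theorem c_lt25 : ∀ x ∈ rw25, x < 8 := by decide

def rw26 : List Nat := [3, 1, 3, 4, 6, 6, 3, 3, 3, 4, 7, 0, 0, 6, 4, 2, 2, 2, 7, 7, 4, 2, 0, 2, 3, 1, 3, 3, 4, 1, 3, 4, 6, 1, 3, 4, 7, 0, 0, 6, 4, 2, 0, 7, 4, 2, 0, 4, 2, 2, 0, 2, 3, 1, 3, 4, 6, 6, 3, 3, 3, 4, 7, 0, 0, 6, 4, 2, 2, 2, 7, 7, 4, 2, 0, 2, 3, 1, 3, 3, 4, 1, 3, 4, 6, 1, 3, 4, 7, 0, 0, 6, 4, 2, 0, 7, 4, 2, 0, 4, 2, 2, 0, 2]
noncomputable def actW26 (i : Nat) : Nat := col2 (col0 (col2 (col5 (col7 (col7 (col2 (col2 (col2 (col5 (col6 (col1 (col1 (col7 (col5 (col3 (col3 (col3 (col6 (col6 (col5 (col3 (col1 (col3 (col2 (col0 (col2 (col2 (col5 (col0 (col2 (col5 (col7 (col0 (col2 (col5 (col6 (col1 (col1 (col7 (col5 (col3 (col1 (col6 (col5 (col3 (col1 (col5 (col3 (col3 (col1 (col3 (col2 (col0 (col2 (col5 (col7 (col7 (col2 (col2 (col2 (col5 (col6 (col1 (col1 (col7 (col5 (col3 (col3 (col3 (col6 (col6 (col5 (col3 (col1 (col3 (col2 (col0 (col2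 (col2 (col5 (col0 (col2 (col5 (col7 (col0 (col2 (col5 (col6 (col1 (col1 (col7 (col5 (col3 (col1 (col6 (col5 (col3 (col1 (col5 (col3 (col3 (col1 (col3 (i))))))))))))))))))))))))))))))))))))))))))))))))))))))))))))))))))))))))))))))))))))))))))))))))))))))))
theorem actW26_eq (i : Nat) : actW26 i = Tab.act T D rw26 i := rfl
theorem c_w26_0 : allRange (fun i => Nat.beq (actW26 i) i) 0 576 = true := by decide +kernel
theorem c_w26_1 : allRange (fun i => Nat.beq (actW26 i) i) 576 576 = true := by decide +kernel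
theorem c_w26_2 : allRange (fun i => Nat.beq (actW26 i) i) 1152 257 = true := by decide +kernel
theorem h_w26 : ∀ i, i < 1409 → Nat.beq (Tab.act T D rw26 i) i = true := by
  intro i hi
  rw [← actW26_eq]
  exact (range_glue (range_of_allRange c_w26_0) (range_glue (range_of_allRange c_w26_1) (range_of_allRange c_w26_2))) i (Nat.zero_le _) hi
theorem c_lt26 : ∀ x ∈ rw26, x < 8 := by decide

def rw27 : List Nat := [3, 1, 3, 4, 6, 6, 3, 3, 3, 4, 7, 0, 0, 6, 4, 2, 2, 2, 7, 7, 4, 2, 0, 2, 3, 4, 2, 4, 6, 1, 3, 3, 4, 7, 0, 0, 6, 4, 2, 2, 0, 7, 4, 3, 4, 2, 3, 1, 3, 4, 6, 6, 3, 3, 3, 4, 7, 0, 0, 6, 4, 2, 2, 2, 7, 7, 4, 2, 0, 2, 3, 4, 2, 4, 6, 1, 3, 3, 4, 7, 0, 0, 6, 4, 2, 2, 0, 7, 4, 3, 4, 2]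
noncomputable def actW27 (i : Nat) : Nat := col2 (col0 (col2 (col5 (col7 (col7 (col2 (col2 (col2 (col5 (col6 (col1 (col1 (col7 (col5 (col3 (col3 (col3 (col6 (col6 (col5 (col3 (col1 (col3 (col2 (col5 (col3 (col5 (col7 (col0 (col2 (col2 (col5 (col6 (col1 (col1 (col7 (col5 (col3 (col3 (col1 (col6 (col5 (col2 (col5 (col3 (col2 (col0 (col2 (col5 (col7 (col7 (col2 (col2 (col2 (col5 (col6 (col1 (col1 (col7 (col5 (col3 (col3 (col3 (col6 (col6 (col5 (col3 (col1 (col3 (col2 (col5 (col3 (col5 (col7 (col0 (col2 (col2 (col5 (col6 (col1 (col1 (col7 (col5 (col3 (col3 (col1 (col6 (col5 (col2 (col5 (col3 (i))))))))))))))))))))))))))))))))))))))))))))))))))))))))))))))))))))))))))))))))))))))))))))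
theorem actW27_eq (i : Nat) : actW27 i = Tab.act T D rw27 i := rfl
theorem c_w27_0 : allRange (fun i => Nat.beq (actW27 i) i) 0 652 = true := by decide +kernel
theorem c_w27_1 : allRange (fun i => Nat.beq (actW27 i) i) 652 652 = true := by decide +kernel
theorem c_w27_2 : allRange (fun i => Nat.beq (actW27 i) i) 1304 105 = true := by decide +kernel
theorem h_w27 : ∀ i, i < 1409 → Nat.beq (Tab.act T D rw27 i) i = true := by
  intro i hi
  rw [← actW27_eq]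
  exact (range_glue (range_of_allRange c_w27_0) (range_glue (range_of_allRange c_w27_1) (range_of_allRange c_w27_2))) i (Nat.zero_le _) hi
theorem c_lt27 : ∀ x ∈ rw27, x < 8 := by decide

def rw28 : List Nat := [3, 1, 3, 4, 6, 6, 3, 3, 3, 4, 7, 0, 0, 6, 4, 2, 2, 2, 7, 7, 4, 2, 0, 2, 2, 4, 3, 4, 6, 1, 3, 4, 7, 0, 0, 6, 4, 2, 0, 7, 4, 2, 4, 3, 3, 1, 3, 4, 6, 6, 3, 3, 3, 4, 7, 0, 0, 6, 4, 2, 2, 2, 7, 7, 4, 2, 0, 2, 2, 4, 3, 4, 6, 1, 3, 4, 7, 0, 0, 6, 4, 2, 0, 7, 4, 2, 4, 3]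
noncomputable def actW28 (i : Nat) : Nat := col2 (col0 (col2 (col5 (col7 (col7 (col2 (col2 (col2 (col5 (col6 (col1 (col1 (col7 (col5 (col3 (col3 (col3 (col6 (col6 (col5 (col3 (col1 (col3 (col3 (col5 (col2 (col5 (col7 (col0 (col2 (col5 (col6 (col1 (col1 (col7 (col5 (col3 (col1 (col6 (col5 (col3 (col5 (col2 (col2 (col0 (col2 (col5 (col7 (col7 (col2 (col2 (col2 (col5 (col6 (col1 (col1 (col7 (col5 (col3 (col3 (col3 (col6 (col6 (col5 (col3 (col1 (col3 (col3 (col5 (col2 (col5 (col7 (col0 (col2 (col5 (col6 (col1 (col1 (col7 (col5 (col3 (col1 (col6 (col5 (col3 (col5 (col2 (i))))))))))))))))))))))))))))))))))))))))))))))))))))))))))))))))))))))))))))))))))))))))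
theorem actW28_eq (i : Nat) : actW28 i = Tab.act T D rw28 i := rfl
theorem c_w28_0 : allRange (fun i => Nat.beq (actW28 i) i) 0 681 = true := by decide +kernel
theorem c_w28_1 : allRange (fun i => Nat.beq (actW28 i) i) 681 681 = true := by decide +kernel
theorem c_w28_2 : allRange (fun i => Nat.beq (actW28 i) i) 1362 47 = true := by decide +kernel
theorem h_w28 : ∀ i, i < 1409 → Nat.beq (Tab.act T D rw28 i) i = true := by
  intro i hi
  rw [← actW28_eq]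
  exact (range_glue (range_of_allRange c_w28_0) (range_glue (range_of_allRange c_w28_1) (range_of_allRange c_w28_2))) i (Nat.zero_le _) hi
theorem c_lt28 : ∀ x ∈ rw28, x < 8 := by decide

def rw29 : List Nat := [3, 1, 3, 4, 6, 6, 3, 3, 3, 4, 7, 0, 0, 6, 4, 2, 2, 2, 7, 7, 4, 2, 0, 2, 2, 4, 3, 4, 6, 1, 3, 1, 3, 3, 3, 4, 1, 7, 0, 0, 6, 0, 4, 2, 2, 2, 0, 2, 0, 7, 4, 2, 4, 3, 3, 1, 3, 4, 6, 6, 3, 3, 3, 4, 7, 0, 0, 6, 4, 2, 2, 2, 7, 7, 4, 2, 0, 2, 2, 4, 3, 4, 6, 1, 3, 1, 3, 3, 3, 4, 1, 7, 0, 0, 6, 0, 4, 2, 2, 2, 0, 2, 0, 7, 4, 2, 4, 3]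
noncomputable def actW29 (i : Nat) : Nat := col2 (col0 (col2 (col5 (col7 (col7 (col2 (col2 (col2 (col5 (col6 (col1 (col1 (col7 (col5 (col3 (col3 (col3 (col6 (col6 (col5 (col3 (col1 (col3 (col3 (col5 (col2 (col5 (col7 (col0 (col2 (col0 (col2 (col2 (col2 (col5 (col0 (col6 (col1 (col1 (col7 (col1 (col5 (col3 (col3 (col3 (col1 (col3 (col1 (col6 (col5 (col3 (col5 (col2 (col2 (col0 (col2 (col5 (col7 (col7 (col2 (col2 (col2 (col5 (col6 (col1 (col1 (col7 (col5 (col3 (col3 (col3 (col6 (col6 (col5 (col3 (col1 (col3 (col3 (col5 (col2 (col5 (col7 (col0 (col2 (col0 (col2 (col2 (col2 (col5 (col0 (col6 (col1 (col1 (col7 (col1 (col5 (col3 (col3 (col3 (col1 (col3 (col1 (col6 (col5 (col3 (col5 (col2 (i))))))))))))))))))))))))))))))))))))))))))))))))))))))))))))))))))))))))))))))))))))))))))))))))))))))))))))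
theorem actW29_eq (i : Nat) : actW29 i = Tab.act T D rw29 i := rfl
theorem c_w29_0 : allRange (fun i => Nat.beq (actW29 i) i) 0 555 = true := by decide +kernel
theorem c_w29_1 : allRange (fun i => Nat.beq (actW29 i) i) 555 555 = true := by decide +kernel
theorem c_w29_2 : allRange (fun i => Nat.beq (actW29 i) i) 1110 299 = true := by decide +kernel
theorem h_w29 : ∀ i, i < 1409 → Nat.beq (Tab.act T D rw29 i) i = true := by
  intro i hi
  rw [← actW29_eq]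
  exact (range_glue (range_of_allRange c_w29_0) (range_glue (range_of_allRange c_w29_1) (range_of_allRange c_w29_2))) i (Nat.zero_le _) hi
theorem c_lt29 : ∀ x ∈ rw29, x < 8 := by decide

def rw30 : List Nat := [2, 1, 3, 3, 4, 1, 7, 3, 3, 3, 4, 1, 7, 0, 0, 6, 0, 4, 2, 2, 2, 6, 0, 4, 2, 2, 0, 3, 2, 1, 3, 3, 4, 1, 7, 3, 3, 3, 4, 1, 7, 0, 0, 6, 0, 4, 2, 2, 2, 6, 0, 4, 2, 2, 0, 3]
noncomputable def actW30 (i : Nat) : Nat := col3 (col0 (col2 (col2 (col5 (col0 (col6 (col2 (col2 (col2 (col5 (col0 (col6 (col1 (col1 (col7 (col1 (col5 (col3 (col3 (col3 (col7 (col1 (col5 (col3 (col3 (col1 (col2 (col3 (col0 (col2 (col2 (col5 (col0 (col6 (col2 (col2 (col2 (col5 (col0 (col6 (col1 (col1 (col7 (col1 (col5 (col3 (col3 (col3 (col7 (col1 (col5 (col3 (col3 (col1 (col2 (i))))))))))))))))))))))))))))))))))))))))))))))))))))))))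
theorem actW30_eq (i : Nat) : actW30 i = Tab.act T D rw30 i := rfl
theorem c_w30_0 : allRange (fun i => Nat.beq (actW30 i) i) 0 1071 = true := by decide +kernel
theorem c_w30_1 : allRange (fun i => Nat.beq (actW30 i) i) 1071 338 = true := by decide +kernel
theorem h_w30 : ∀ i, i < 1409 → Nat.beq (Tab.act T D rw30 i) i = true := by
  intro i hi
  rw [← actW30_eq]
  exact (range_glue (range_of_allRange c_w30_0) (range_of_allRange c_w30_1)) i (Nat.zero_le _) hi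
theorem c_lt30 : ∀ x ∈ rw30, x < 8 := by decide

def rw31 : List Nat := [2, 1, 3, 3, 4, 1, 7, 3, 3, 3, 4, 1, 7, 0, 0, 6, 0, 4, 2, 2, 2, 6, 0, 4, 2, 2, 0, 3, 3, 1, 3, 3, 4, 1, 3, 4, 6, 1, 3, 4, 7, 0, 0, 6, 4, 2, 0, 7, 4, 2, 0, 4, 2, 2, 0, 2, 2, 1, 3, 3, 4, 1, 7, 3, 3, 3, 4, 1, 7, 0, 0, 6, 0, 4, 2, 2, 2, 6, 0, 4, 2, 2, 0, 3, 3, 1, 3, 3, 4, 1, 3, 4, 6, 1, 3, 4, 7, 0, 0, 6, 4, 2, 0, 7, 4, 2, 0, 4, 2, 2, 0, 2, 2, 1, 3, 3, 4, 1, 7, 3, 3, 3, 4, 1, 7, 0, 0, 6, 0, 4, 2, 2, 2, 6, 0, 4, 2, 2, 0, 3, 3, 1, 3, 3, 4, 1, 3, 4, 6, 1, 3, 4, 7, 0, 0, 6, 4, 2, 0, 7, 4, 2, 0, 4, 2, 2, 0, 2]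
noncomputable def actW31 (i : Nat) : Nat := col3 (col0 (col2 (col2 (col5 (col0 (col6 (col2 (col2 (col2 (col5 (col0 (col6 (col1 (col1 (col7 (col1 (col5 (col3 (col3 (col3 (col7 (col1 (col5 (col3 (col3 (col1 (col2 (col2 (col0 (col2 (col2 (col5 (col0 (col2 (col5 (col7 (col0 (col2 (col5 (col6 (col1 (col1 (col7 (col5 (col3 (col1 (col6 (col5 (col3 (col1 (col5 (col3 (col3 (col1 (col3 (col3 (col0 (col2 (col2 (col5 (col0 (col6 (col2 (col2 (col2 (col5 (col0 (col6 (col1 (col1 (col7 (col1 (col5 (col3 (col3 (col3 (col7 (col1 (col5 (col3 (col3 (col1 (col2 (col2 (col0 (col2 (col2 (col5 (col0 (col2 (col5 (col7 (col0 (col2 (col5 (col6 (col1 (col1 (col7 (col5 (col3 (col1 (col6 (col5 (col3 (col1 (col5 (col3 (col3 (col1 (col3 (col3 (col0 (col2 (col2 (col5 (col0 (col6 (col2 (col2 (col2 (col5 (col0 (col6 (col1 (col1 (col7 (col1 (col5 (col3 (col3 (col3 (col7 (col1 (col5 (col3 (col3 (col1 (col2 (col2 (col0 (col2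 (col2 (col5 (col0 (col2 (col5 (col7 (col0 (col2 (col5 (col6 (col1 (col1 (col7 (col5 (col3 (col1 (col6 (col5 (col3 (col1 (col5 (col3 (col3 (col1 (col3 (i))))))))))))))))))))))))))))))))))))))))))))))))))))))))))))))))))))))))))))))))))))))))))))))))))))))))))))))))))))))))))))))))))))))))))))))))))))))))))))))))))))))))
theorem actW31_eq (i : Nat) : actW31 i = Tab.act T D rw31 i := rfl
theorem c_w31_0 : allRange (fun i => Nat.beq (actW31 i) i) 0 357 = true := by decide +kernel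
theorem c_w31_1 : allRange (fun i => Nat.beq (actW31 i) i) 357 357 = true := by decide +kernel
theorem c_w31_2 : allRange (fun i => Nat.beq (actW31 i) i) 714 357 = true := by decide +kernel
theorem c_w31_3 : allRange (fun i => Nat.beq (actW31 i) i) 1071 338 = true := by decide +kernel
theorem h_w31 : ∀ i, i < 1409 → Nat.beq (Tab.act T D rw31 i) i = true := by
  intro i hi
  rw [← actW31_eq]
  exact (range_glue (range_of_allRange c_w31_0) (range_glue (range_of_allRange c_w31_1) (range_glue (range_of_allRange c_w31_2) (range_of_allRange c_w31_3)))) i (Nat.zero_le _) hi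
theorem c_lt31 : ∀ x ∈ rw31, x < 8 := by decide

def rw32 : List Nat := [2, 1, 3, 3, 4, 1, 7, 3, 3, 3, 4, 1, 7, 0, 0, 6, 0, 4, 2, 2, 2, 6, 0, 4, 2, 2, 0, 3, 3, 4, 2, 4, 6, 1, 3, 3, 4, 7, 0, 0, 6, 4, 2, 2, 0, 7, 4, 3, 4, 2, 2, 1, 3, 3, 4, 1, 7, 3, 3, 3, 4, 1, 7, 0, 0, 6, 0, 4, 2, 2, 2, 6, 0, 4, 2, 2, 0, 3, 3, 4, 2, 4, 6, 1, 3, 3, 4, 7, 0, 0, 6, 4, 2, 2, 0, 7, 4, 3, 4, 2]
noncomputable def actW32 (i : Nat) : Nat := col3 (col0 (col2 (col2 (col5 (col0 (col6 (col2 (col2 (col2 (col5 (col0 (col6 (col1 (col1 (col7 (col1 (col5 (col3 (col3 (col3 (col7 (col1 (col5 (col3 (col3 (col1 (col2 (col2 (col5 (col3 (col5 (col7 (col0 (col2 (col2 (col5 (col6 (col1 (col1 (col7 (col5 (col3 (col3 (col1 (col6 (col5 (col2 (col5 (col3 (col3 (col0 (col2 (col2 (col5 (col0 (col6 (col2 (col2 (col2 (col5 (col0 (col6 (col1 (col1 (col7 (col1 (col5 (col3 (col3 (col3 (col7 (col1 (col5 (col3 (col3 (col1 (col2 (col2 (col5 (col3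 (col5 (col7 (col0 (col2 (col2 (col5 (col6 (col1 (col1 (col7 (col5 (col3 (col3 (col1 (col6 (col5 (col2 (col5 (col3 (i))))))))))))))))))))))))))))))))))))))))))))))))))))))))))))))))))))))))))))))))))))))))))))))))))))
theorem actW32_eq (i : Nat) : actW32 i = Tab.act T D rw32 i := rfl
theorem c_w32_0 : allRange (fun i => Nat.beq (actW32 i) i) 0 600 = true := by decide +kernel
theorem c_w32_1 : allRange (fun i => Nat.beq (actW32 i) i) 600 600 = true := by decide +kernel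
theorem c_w32_2 : allRange (fun i => Nat.beq (actW32 i) i) 1200 209 = true := by decide +kernel
theorem h_w32 : ∀ i, i < 1409 → Nat.beq (Tab.act T D rw32 i) i = true := by
  intro i hi
  rw [← actW32_eq]
  exact (range_glue (range_of_allRange c_w32_0) (range_glue (range_of_allRange c_w32_1) (range_of_allRange c_w32_2))) i (Nat.zero_le _) hi
theorem c_lt32 : ∀ x ∈ rw32, x < 8 := by decide

def rw33 : List Nat := [2, 1, 3, 3, 4, 1, 7, 3, 3, 3, 4, 1, 7, 0, 0, 6, 0, 4, 2, 2, 2, 6, 0, 4, 2, 2, 0, 3, 2, 4, 3, 4, 6, 1, 3, 4, 7, 0, 0, 6, 4, 2, 0, 7, 4, 2, 4, 3, 2, 1, 3, 3, 4, 1, 7, 3, 3, 3, 4, 1, 7, 0, 0, 6, 0, 4, 2, 2, 2, 6, 0, 4, 2, 2, 0, 3, 2, 4, 3, 4, 6, 1, 3, 4, 7, 0, 0, 6, 4, 2, 0, 7, 4, 2, 4, 3]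
noncomputable def actW33 (i : Nat) : Nat := col3 (col0 (col2 (col2 (col5 (col0 (col6 (col2 (col2 (col2 (col5 (col0 (col6 (col1 (col1 (col7 (col1 (col5 (col3 (col3 (col3 (col7 (col1 (col5 (col3 (col3 (col1 (col2 (col3 (col5 (col2 (col5 (col7 (col0 (col2 (col5 (col6 (col1 (col1 (col7 (col5 (col3 (col1 (col6 (col5 (col3 (col5 (col2 (col3 (col0 (col2 (col2 (col5 (col0 (col6 (col2 (col2 (col2 (col5 (col0 (col6 (col1 (col1 (col7 (col1 (col5 (col3 (col3 (col3 (col7 (col1 (col5 (col3 (col3 (col1 (col2 (col3 (col5 (col2 (col5 (col7 (col0 (col2 (col5 (col6 (col1 (col1 (col7 (col5 (col3 (col1 (col6 (col5 (col3 (col5 (col2 (i))))))))))))))))))))))))))))))))))))))))))))))))))))))))))))))))))))))))))))))))))))))))))))))))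
theorem actW33_eq (i : Nat) : actW33 i = Tab.act T D rw33 i := rfl
theorem c_w33_0 : allRange (fun i => Nat.beq (actW33 i) i) 0 625 = true := by decide +kernel
theorem c_w33_1 : allRange (fun i => Nat.beq (actW33 i) i) 625 625 = true := by decide +kernel
theorem c_w33_2 : allRange (fun i => Nat.beq (actW33 i) i) 1250 159 = true := by decide +kernel
theorem h_w33 : ∀ i, i < 1409 → Nat.beq (Tab.act T D rw33 i) i = true := by
  intro i hi
  rw [← actW33_eq]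
  exact (range_glue (range_of_allRange c_w33_0) (range_glue (range_of_allRange c_w33_1) (range_of_allRange c_w33_2))) i (Nat.zero_le _) hi
theorem c_lt33 : ∀ x ∈ rw33, x < 8 := by decide

def rw34 : List Nat := [2, 1, 3, 3, 4, 1, 7, 3, 3, 3, 4, 1, 7, 0, 0, 6, 0, 4, 2, 2, 2, 6, 0, 4, 2, 2, 0, 3, 2, 4, 3, 4, 6, 1, 3, 1, 3, 3, 3, 4, 1, 7, 0, 0, 6, 0, 4, 2, 2, 2, 0, 2, 0, 7, 4, 2, 4, 3, 2, 1, 3, 3, 4, 1, 7, 3, 3, 3, 4, 1, 7, 0, 0, 6, 0, 4, 2, 2, 2, 6, 0, 4, 2, 2, 0, 3, 2, 4, 3, 4, 6, 1, 3, 1, 3, 3, 3, 4, 1, 7, 0, 0, 6, 0, 4, 2, 2, 2, 0, 2, 0, 7, 4, 2, 4, 3]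
noncomputable def actW34 (i : Nat) : Nat := col3 (col0 (col2 (col2 (col5 (col0 (col6 (col2 (col2 (col2 (col5 (col0 (col6 (col1 (col1 (col7 (col1 (col5 (col3 (col3 (col3 (col7 (col1 (col5 (col3 (col3 (col1 (col2 (col3 (col5 (col2 (col5 (col7 (col0 (col2 (col0 (col2 (col2 (col2 (col5 (col0 (col6 (col1 (col1 (col7 (col1 (col5 (col3 (col3 (col3 (col1 (col3 (col1 (col6 (col5 (col3 (col5 (col2 (col3 (col0 (col2 (col2 (col5 (col0 (col6 (col2 (col2 (col2 (col5 (col0 (col6 (col1 (col1 (col7 (col1 (col5 (col3 (col3 (col3 (col7 (col1 (col5 (col3 (col3 (col1 (col2 (col3 (col5 (col2 (col5 (col7 (col0 (col2 (col0 (col2 (col2 (col2 (col5 (col0 (col6 (col1 (col1 (col7 (col1 (col5 (col3 (col3 (col3 (col1 (col3 (col1 (col6 (col5 (col3 (col5 (col2 (i))))))))))))))))))))))))))))))))))))))))))))))))))))))))))))))))))))))))))))))))))))))))))))))))))))))))))))))))))))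
theorem actW34_eq (i : Nat) : actW34 i = Tab.act T D rw34 i := rfl
theorem c_w34_0 : allRange (fun i => Nat.beq (actW34 i) i) 0 517 = true := by decide +kernel
theorem c_w34_1 : allRange (fun i => Nat.beq (actW34 i) i) 517 517 = true := by decide +kernel
theorem c_w34_2 : allRange (fun i => Nat.beq (actW34 i) i) 1034 375 = true := by decide +kernel
theorem h_w34 : ∀ i, i < 1409 → Nat.beq (Tab.act T D rw34 i) i = true := by
  intro i hi
  rw [← actW34_eq]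
  exact (range_glue (range_of_allRange c_w34_0) (range_glue (range_of_allRange c_w34_1) (range_of_allRange c_w34_2))) i (Nat.zero_le _) hi
theorem c_lt34 : ∀ x ∈ rw34, x < 8 := by decide

def rw35 : List Nat := [3, 1, 3, 3, 4, 1, 3, 4, 6, 1, 3, 4, 7, 0, 0, 6, 4, 2, 0, 7, 4, 2, 0, 4, 2, 2, 0, 2, 3, 1, 3, 3, 4, 1, 3, 4, 6, 1, 3, 4, 7, 0, 0, 6, 4, 2, 0, 7, 4, 2, 0, 4, 2, 2, 0, 2]
noncomputable def actW35 (i : Nat) : Nat := col2 (col0 (col2 (col2 (col5 (col0 (col2 (col5 (col7 (col0 (col2 (col5 (col6 (col1 (col1 (col7 (col5 (col3 (col1 (col6 (col5 (col3 (col1 (col5 (col3 (col3 (col1 (col3 (col2 (col0 (col2 (col2 (col5 (col0 (col2 (col5 (col7 (col0 (col2 (col5 (col6 (col1 (col1 (col7 (col5 (col3 (col1 (col6 (col5 (col3 (col1 (col5 (col3 (col3 (col1 (col3 (i))))))))))))))))))))))))))))))))))))))))))))))))))))))))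
theorem actW35_eq (i : Nat) : actW35 i = Tab.act T D rw35 i := rfl
theorem c_w35_0 : allRange (fun i => Nat.beq (actW35 i) i) 0 1071 = true := by decide +kernel
theorem c_w35_1 : allRange (fun i => Nat.beq (actW35 i) i) 1071 338 = true := by decide +kernel
theorem h_w35 : ∀ i, i < 1409 → Nat.beq (Tab.act T D rw35 i) i = true := by
  intro i hi
  rw [← actW35_eq]
  exact (range_glue (range_of_allRange c_w35_0) (range_of_allRange c_w35_1)) i (Nat.zero_le _) hi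
theorem c_lt35 : ∀ x ∈ rw35, x < 8 := by decide

def rw36 : List Nat := [3, 1, 3, 3, 4, 1, 3, 4, 6, 1, 3, 4, 7, 0, 0, 6, 4, 2, 0, 7, 4, 2, 0, 4, 2, 2, 0, 2, 3, 4, 2, 4, 6, 1, 3, 3, 4, 7, 0, 0, 6, 4, 2, 2, 0, 7, 4, 3, 4, 2, 3, 1, 3, 3, 4, 1, 3, 4, 6, 1, 3, 4, 7, 0, 0, 6, 4, 2, 0, 7, 4, 2, 0, 4, 2, 2, 0, 2, 3, 4, 2, 4, 6, 1, 3, 3, 4, 7, 0, 0, 6, 4, 2, 2, 0, 7, 4, 3, 4, 2, 3, 1, 3, 3, 4, 1, 3, 4, 6, 1, 3, 4, 7, 0, 0, 6, 4, 2, 0, 7, 4, 2, 0, 4, 2, 2, 0, 2, 3, 4, 2, 4, 6, 1, 3, 3, 4, 7, 0, 0, 6, 4, 2, 2, 0, 7, 4, 3, 4, 2]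
noncomputable def actW36 (i : Nat) : Nat := col2 (col0 (col2 (col2 (col5 (col0 (col2 (col5 (col7 (col0 (col2 (col5 (col6 (col1 (col1 (col7 (col5 (col3 (col1 (col6 (col5 (col3 (col1 (col5 (col3 (col3 (col1 (col3 (col2 (col5 (col3 (col5 (col7 (col0 (col2 (col2 (col5 (col6 (col1 (col1 (col7 (col5 (col3 (col3 (col1 (col6 (col5 (col2 (col5 (col3 (col2 (col0 (col2 (col2 (col5 (col0 (col2 (col5 (col7 (col0 (col2 (col5 (col6 (col1 (col1 (col7 (col5 (col3 (col1 (col6 (col5 (col3 (col1 (col5 (col3 (col3 (col1 (col3 (col2 (col5 (col3 (col5 (col7 (col0 (col2 (col2 (col5 (col6 (col1 (col1 (col7 (col5 (col3 (col3 (col1 (col6 (col5 (col2 (col5 (col3 (col2 (col0 (col2 (col2 (col5 (col0 (col2 (col5 (col7 (col0 (col2 (col5 (col6 (col1 (col1 (col7 (col5 (col3 (col1 (col6 (col5 (col3 (col1 (col5 (col3 (col3 (col1 (col3 (col2 (col5 (col3 (col5 (col7 (col0 (col2 (col2 (col5 (col6 (col1 (col1 (col7 (col5 (col3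 (col3 (col1 (col6 (col5 (col2 (col5 (col3 (i))))))))))))))))))))))))))))))))))))))))))))))))))))))))))))))))))))))))))))))))))))))))))))))))))))))))))))))))))))))))))))))))))))))))))))))))))))))
theorem actW36_eq (i : Nat) : actW36 i = Tab.act T D rw36 i := rfl
theorem c_w36_0 : allRange (fun i => Nat.beq (actW36 i) i) 0 400 = true := by decide +kernel
theorem c_w36_1 : allRange (fun i => Nat.beq (actW36 i) i) 400 400 = true := by decide +kernel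
theorem c_w36_2 : allRange (fun i => Nat.beq (actW36 i) i) 800 400 = true := by decide +kernel
theorem c_w36_3 : allRange (fun i => Nat.beq (actW36 i) i) 1200 209 = true := by decide +kernel
theorem h_w36 : ∀ i, i < 1409 → Nat.beq (Tab.act T D rw36 i) i = true := by
  intro i hi
  rw [← actW36_eq]
  exact (range_glue (range_of_allRange c_w36_0) (range_glue (range_of_allRange c_w36_1) (range_glue (range_of_allRange c_w36_2) (range_of_allRange c_w36_3)))) i (Nat.zero_le _) hi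
theorem c_lt36 : ∀ x ∈ rw36, x < 8 := by decide

def rw37 : List Nat := [3, 1, 3, 3, 4, 1, 3, 4, 6, 1, 3, 4, 7, 0, 0, 6, 4, 2, 0, 7, 4, 2, 0, 4, 2, 2, 0, 2, 2, 4, 3, 4, 6, 1, 3, 4, 7, 0, 0, 6, 4, 2, 0, 7, 4, 2, 4, 3, 3, 1, 3, 3, 4, 1, 3, 4, 6, 1, 3, 4, 7, 0, 0, 6, 4, 2, 0, 7, 4, 2, 0, 4, 2, 2, 0, 2, 2, 4, 3, 4, 6, 1, 3, 4, 7, 0, 0, 6, 4, 2, 0, 7, 4, 2, 4, 3]
noncomputable def actW37 (i : Nat) : Nat := col2 (col0 (col2 (col2 (col5 (col0 (col2 (col5 (col7 (col0 (col2 (col5 (col6 (col1 (col1 (col7 (col5 (col3 (col1 (col6 (col5 (col3 (col1 (col5 (col3 (col3 (col1 (col3 (col3 (col5 (col2 (col5 (col7 (col0 (col2 (col5 (col6 (col1 (col1 (col7 (col5 (col3 (col1 (col6 (col5 (col3 (col5 (col2 (col2 (col0 (col2 (col2 (col5 (col0 (col2 (col5 (col7 (col0 (col2 (col5 (col6 (col1 (col1 (col7 (col5 (col3 (col1 (col6 (col5 (col3 (col1 (col5 (col3 (col3 (col1 (col3 (col3 (col5 (col2 (col5 (col7 (col0 (col2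 (col5 (col6 (col1 (col1 (col7 (col5 (col3 (col1 (col6 (col5 (col3 (col5 (col2 (i))))))))))))))))))))))))))))))))))))))))))))))))))))))))))))))))))))))))))))))))))))))))))))))))
theorem actW37_eq (i : Nat) : actW37 i = Tab.act T D rw37 i := rfl
theorem c_w37_0 : allRange (fun i => Nat.beq (actW37 i) i) 0 625 = true := by decide +kernel
theorem c_w37_1 : allRange (fun i => Nat.beq (actW37 i) i) 625 625 = true := by decide +kernel
theorem c_w37_2 : allRange (fun i => Nat.beq (actW37 i) i) 1250 159 = true := by decide +kernel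
theorem h_w37 : ∀ i, i < 1409 → Nat.beq (Tab.act T D rw37 i) i = true := by
  intro i hi
  rw [← actW37_eq]
  exact (range_glue (range_of_allRange c_w37_0) (range_glue (range_of_allRange c_w37_1) (range_of_allRange c_w37_2))) i (Nat.zero_le _) hi
theorem c_lt37 : ∀ x ∈ rw37, x < 8 := by decide

def rw38 : List Nat := [3, 1, 3, 3, 4, 1, 3, 4, 6, 1, 3, 4, 7, 0, 0, 6, 4, 2, 0, 7, 4, 2, 0, 4, 2, 2, 0, 2, 2, 4, 3, 4, 6, 1, 3, 1, 3, 3, 3, 4, 1, 7, 0, 0, 6, 0, 4, 2, 2, 2, 0, 2, 0, 7, 4, 2, 4, 3, 3, 1, 3, 3, 4, 1, 3, 4, 6, 1, 3, 4, 7, 0, 0, 6, 4, 2, 0, 7, 4, 2, 0, 4, 2, 2, 0, 2, 2, 4, 3, 4, 6, 1, 3, 1, 3, 3, 3, 4, 1, 7, 0, 0, 6, 0, 4, 2, 2, 2, 0, 2, 0, 7, 4, 2, 4, 3]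
noncomputable def actW38 (i : Nat) : Nat := col2 (col0 (col2 (col2 (col5 (col0 (col2 (col5 (col7 (col0 (col2 (col5 (col6 (col1 (col1 (col7 (col5 (col3 (col1 (col6 (col5 (col3 (col1 (col5 (col3 (col3 (col1 (col3 (col3 (col5 (col2 (col5 (col7 (col0 (col2 (col0 (col2 (col2 (col2 (col5 (col0 (col6 (col1 (col1 (col7 (col1 (col5 (col3 (col3 (col3 (col1 (col3 (col1 (col6 (col5 (col3 (col5 (col2 (col2 (col0 (col2 (col2 (col5 (col0 (col2 (col5 (col7 (col0 (col2 (col5 (col6 (col1 (col1 (col7 (col5 (col3 (col1 (col6 (col5 (col3 (col1 (col5 (col3 (col3 (col1 (col3 (col3 (col5 (col2 (col5 (col7 (col0 (col2 (col0 (col2 (col2 (col2 (col5 (col0 (col6 (col1 (col1 (col7 (col1 (col5 (col3 (col3 (col3 (col1 (col3 (col1 (col6 (col5 (col3 (col5 (col2 (i))))))))))))))))))))))))))))))))))))))))))))))))))))))))))))))))))))))))))))))))))))))))))))))))))))))))))))))))))))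
theorem actW38_eq (i : Nat) : actW38 i = Tab.act T D rw38 i := rfl
theorem c_w38_0 : allRange (fun i => Nat.beq (actW38 i) i) 0 517 = true := by decide +kernel
theorem c_w38_1 : allRange (fun i => Nat.beq (actW38 i) i) 517 517 = true := by decide +kernel
theorem c_w38_2 : allRange (fun i => Nat.beq (actW38 i) i) 1034 375 = true := by decide +kernel
theorem h_w38 : ∀ i, i < 1409 → Nat.beq (Tab.act T D rw38 i) i = true := by
  intro i hi
  rw [← actW38_eq]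
  exact (range_glue (range_of_allRange c_w38_0) (range_glue (range_of_allRange c_w38_1) (range_of_allRange c_w38_2))) i (Nat.zero_le _) hi
theorem c_lt38 : ∀ x ∈ rw38, x < 8 := by decide

def rw39 : List Nat := [3, 4, 2, 4, 6, 1, 3, 3, 4, 7, 0, 0, 6, 4, 2, 2, 0, 7, 4, 3, 4, 2, 3, 4, 2, 4, 6, 1, 3, 3, 4, 7, 0, 0, 6, 4, 2, 2, 0, 7, 4, 3, 4, 2]
noncomputable def actW39 (i : Nat) : Nat := col2 (col5 (col3 (col5 (col7 (col0 (col2 (col2 (col5 (col6 (col1 (col1 (col7 (col5 (col3 (col3 (col1 (col6 (col5 (col2 (col5 (col3 (col2 (col5 (col3 (col5 (col7 (col0 (col2 (col2 (col5 (col6 (col1 (col1 (col7 (col5 (col3 (col3 (col1 (col6 (col5 (col2 (col5 (col3 (i))))))))))))))))))))))))))))))))))))))))))))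
theorem actW39_eq (i : Nat) : actW39 i = Tab.act T D rw39 i := rfl
theorem c_w39_0 : allRange (fun i => Nat.beq (actW39 i) i) 0 1363 = true := by decide +kernel
theorem c_w39_1 : allRange (fun i => Nat.beq (actW39 i) i) 1363 46 = true := by decide +kernel
theorem h_w39 : ∀ i, i < 1409 → Nat.beq (Tab.act T D rw39 i) i = true := by
  intro i hi
  rw [← actW39_eq]
  exact (range_glue (range_of_allRange c_w39_0) (range_of_allRange c_w39_1)) i (Nat.zero_le _) hi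
theorem c_lt39 : ∀ x ∈ rw39, x < 8 := by decide

def rw40 : List Nat := [3, 4, 2, 4, 6, 1, 3, 3, 4, 7, 0, 0, 6, 4, 2, 2, 0, 7, 4, 3, 4, 2, 2, 4, 3, 4, 6, 1, 3, 4, 7, 0, 0, 6, 4, 2, 0, 7, 4, 2, 4, 3, 3, 4, 2, 4, 6, 1, 3, 3, 4, 7, 0, 0, 6, 4, 2, 2, 0, 7, 4, 3, 4, 2, 2, 4, 3, 4, 6, 1, 3, 4, 7, 0, 0, 6, 4, 2, 0, 7, 4, 2, 4, 3, 3, 4, 2, 4, 6, 1, 3, 3, 4, 7, 0, 0, 6, 4, 2, 2, 0, 7, 4, 3, 4, 2, 2, 4, 3, 4, 6, 1, 3, 4, 7, 0, 0, 6, 4, 2, 0, 7, 4, 2, 4, 3]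
noncomputable def actW40 (i : Nat) : Nat := col2 (col5 (col3 (col5 (col7 (col0 (col2 (col2 (col5 (col6 (col1 (col1 (col7 (col5 (col3 (col3 (col1 (col6 (col5 (col2 (col5 (col3 (col3 (col5 (col2 (col5 (col7 (col0 (col2 (col5 (col6 (col1 (col1 (col7 (col5 (col3 (col1 (col6 (col5 (col3 (col5 (col2 (col2 (col5 (col3 (col5 (col7 (col0 (col2 (col2 (col5 (col6 (col1 (col1 (col7 (col5 (col3 (col3 (col1 (col6 (col5 (col2 (col5 (col3 (col3 (col5 (col2 (col5 (col7 (col0 (col2 (col5 (col6 (col1 (col1 (col7 (col5 (col3 (col1 (col6 (col5 (col3 (col5 (col2 (col2 (col5 (col3 (col5 (col7 (col0 (col2 (col2 (col5 (col6 (col1 (col1 (col7 (col5 (col3 (col3 (col1 (col6 (col5 (col2 (col5 (col3 (col3 (col5 (col2 (col5 (col7 (col0 (col2 (col5 (col6 (col1 (col1 (col7 (col5 (col3 (col1 (col6 (col5 (col3 (col5 (col2 (i))))))))))))))))))))))))))))))))))))))))))))))))))))))))))))))))))))))))))))))))))))))))))))))))))))))))))))))))))))))))))))))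
theorem actW40_eq (i : Nat) : actW40 i = Tab.act T D rw40 i := rfl
theorem c_w40_0 : allRange (fun i => Nat.beq (actW40 i) i) 0 476 = true := by decide +kernel
theorem c_w40_1 : allRange (fun i => Nat.beq (actW40 i) i) 476 476 = true := by decide +kernel
theorem c_w40_2 : allRange (fun i => Nat.beq (actW40 i) i) 952 457 = true := by decide +kernel
theorem h_w40 : ∀ i, i < 1409 → Nat.beq (Tab.act T D rw40 i) i = true := by
  intro i hi
  rw [← actW40_eq]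
  exact (range_glue (range_of_allRange c_w40_0) (range_glue (range_of_allRange c_w40_1) (range_of_allRange c_w40_2))) i (Nat.zero_le _) hi
theorem c_lt40 : ∀ x ∈ rw40, x < 8 := by decide

def rw41 : List Nat := [3, 4, 2, 4, 6, 1, 3, 3, 4, 7, 0, 0, 6, 4, 2, 2, 0, 7, 4, 3, 4, 2, 2, 4, 3, 4, 6, 1, 3, 1, 3, 3, 3, 4, 1, 7, 0, 0, 6, 0, 4, 2, 2, 2, 0, 2, 0, 7, 4, 2, 4, 3, 3, 4, 2, 4, 6, 1, 3, 3, 4, 7, 0, 0, 6, 4, 2, 2, 0, 7, 4, 3, 4, 2, 2, 4, 3, 4, 6, 1, 3, 1, 3, 3, 3, 4, 1, 7, 0, 0, 6, 0, 4, 2, 2, 2, 0, 2, 0, 7, 4, 2, 4, 3]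
noncomputable def actW41 (i : Nat) : Nat := col2 (col5 (col3 (col5 (col7 (col0 (col2 (col2 (col5 (col6 (col1 (col1 (col7 (col5 (col3 (col3 (col1 (col6 (col5 (col2 (col5 (col3 (col3 (col5 (col2 (col5 (col7 (col0 (col2 (col0 (col2 (col2 (col2 (col5 (col0 (col6 (col1 (col1 (col7 (col1 (col5 (col3 (col3 (col3 (col1 (col3 (col1 (col6 (col5 (col3 (col5 (col2 (col2 (col5 (col3 (col5 (col7 (col0 (col2 (col2 (col5 (col6 (col1 (col1 (col7 (col5 (col3 (col3 (col1 (col6 (col5 (col2 (col5 (col3 (col3 (col5 (col2 (col5 (col7 (col0 (col2 (col0 (col2 (col2 (col2 (col5 (col0 (col6 (col1 (col1 (col7 (col1 (col5 (col3 (col3 (col3 (col1 (col3 (col1 (col6 (col5 (col3 (col5 (col2 (i))))))))))))))))))))))))))))))))))))))))))))))))))))))))))))))))))))))))))))))))))))))))))))))))))))))))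
theorem actW41_eq (i : Nat) : actW41 i = Tab.act T D rw41 i := rfl
theorem c_w41_0 : allRange (fun i => Nat.beq (actW41 i) i) 0 576 = true := by decide +kernel
theorem c_w41_1 : allRange (fun i => Nat.beq (actW41 i) i) 576 576 = true := by decide +kernel
theorem c_w41_2 : allRange (fun i => Nat.beq (actW41 i) i) 1152 257 = true := by decide +kernel
theorem h_w41 : ∀ i, i < 1409 → Nat.beq (Tab.act T D rw41 i) i = true := by
  intro i hi
  rw [← actW41_eq]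
  exact (range_glue (range_of_allRange c_w41_0) (range_glue (range_of_allRange c_w41_1) (range_of_allRange c_w41_2))) i (Nat.zero_le _) hi
theorem c_lt41 : ∀ x ∈ rw41, x < 8 := by decide

def rw42 : List Nat := [2, 4, 3, 4, 6, 1, 3, 4, 7, 0, 0, 6, 4, 2, 0, 7, 4, 2, 4, 3, 2, 4, 3, 4, 6, 1, 3, 4, 7, 0, 0, 6, 4, 2, 0, 7, 4, 2, 4, 3]
noncomputable def actW42 (i : Nat) : Nat := col3 (col5 (col2 (col5 (col7 (col0 (col2 (col5 (col6 (col1 (col1 (col7 (col5 (col3 (col1 (col6 (col5 (col3 (col5 (col2 (col3 (col5 (col2 (col5 (col7 (col0 (col2 (col5 (col6 (col1 (col1 (col7 (col5 (col3 (col1 (col6 (col5 (col3 (col5 (col2 (i))))))))))))))))))))))))))))))))))))))))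
theorem actW42_eq (i : Nat) : actW42 i = Tab.act T D rw42 i := rfl
theorem c_w42_0 : allRange (fun i => Nat.beq (actW42 i) i) 0 1409 = true := by decide +kernel
theorem h_w42 : ∀ i, i < 1409 → Nat.beq (Tab.act T D rw42 i) i = true := by
  intro i hi
  rw [← actW42_eq]
  exact (range_of_allRange c_w42_0) i (Nat.zero_le _) hi
theorem c_lt42 : ∀ x ∈ rw42, x < 8 := by decide

def rw43 : List Nat := [2, 4, 3, 4, 6, 1, 3, 4, 7, 0, 0, 6, 4, 2, 0, 7, 4, 2, 4, 3, 2, 4, 3, 4, 6, 1, 3, 1, 3, 3, 3, 4, 1, 7, 0, 0, 6, 0, 4, 2, 2, 2, 0, 2, 0, 7, 4, 2, 4, 3, 2, 4, 3, 4, 6, 1, 3, 4, 7, 0, 0, 6, 4, 2, 0, 7, 4, 2, 4, 3, 2, 4, 3, 4, 6, 1, 3, 1, 3, 3, 3, 4, 1, 7, 0, 0, 6, 0, 4, 2, 2, 2, 0, 2, 0, 7, 4, 2, 4, 3, 2, 4, 3, 4, 6, 1, 3, 4, 7, 0, 0, 6, 4, 2, 0, 7, 4, 2, 4, 3, 2, 4, 3, 4, 6, 1, 3, 1, 3, 3, 3, 4, 1, 7, 0, 0, 6, 0, 4, 2, 2, 2, 0, 2, 0, 7, 4, 2, 4, 3]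
noncomputable def actW43 (i : Nat) : Nat := col3 (col5 (col2 (col5 (col7 (col0 (col2 (col5 (col6 (col1 (col1 (col7 (col5 (col3 (col1 (col6 (col5 (col3 (col5 (col2 (col3 (col5 (col2 (col5 (col7 (col0 (col2 (col0 (col2 (col2 (col2 (col5 (col0 (col6 (col1 (col1 (col7 (col1 (col5 (col3 (col3 (col3 (col1 (col3 (col1 (col6 (col5 (col3 (col5 (col2 (col3 (col5 (col2 (col5 (col7 (col0 (col2 (col5 (col6 (col1 (col1 (col7 (col5 (col3 (col1 (col6 (col5 (col3 (col5 (col2 (col3 (col5 (col2 (col5 (col7 (col0 (col2 (col0 (col2 (col2 (col2 (col5 (col0 (col6 (col1 (col1 (col7 (col1 (col5 (col3 (col3 (col3 (col1 (col3 (col1 (col6 (col5 (col3 (col5 (col2 (col3 (col5 (col2 (col5 (col7 (col0 (col2 (col5 (col6 (col1 (col1 (col7 (col5 (col3 (col1 (col6 (col5 (col3 (col5 (col2 (col3 (col5 (col2 (col5 (col7 (col0 (col2 (col0 (col2 (col2 (col2 (col5 (col0 (col6 (col1 (col1 (col7 (col1 (col5 (col3 (col3 (col3 (col1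 (col3 (col1 (col6 (col5 (col3 (col5 (col2 (i))))))))))))))))))))))))))))))))))))))))))))))))))))))))))))))))))))))))))))))))))))))))))))))))))))))))))))))))))))))))))))))))))))))))))))))))))))))
theorem actW43_eq (i : Nat) : actW43 i = Tab.act T D rw43 i := rfl
theorem c_w43_0 : allRange (fun i => Nat.beq (actW43 i) i) 0 400 = true := by decide +kernel
theorem c_w43_1 : allRange (fun i => Nat.beq (actW43 i) i) 400 400 = true := by decide +kernel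
theorem c_w43_2 : allRange (fun i => Nat.beq (actW43 i) i) 800 400 = true := by decide +kernel
theorem c_w43_3 : allRange (fun i => Nat.beq (actW43 i) i) 1200 209 = true := by decide +kernel
theorem h_w43 : ∀ i, i < 1409 → Nat.beq (Tab.act T D rw43 i) i = true := by
  intro i hi
  rw [← actW43_eq]
  exact (range_glue (range_of_allRange c_w43_0) (range_glue (range_of_allRange c_w43_1) (range_glue (range_of_allRange c_w43_2) (range_of_allRange c_w43_3)))) i (Nat.zero_le _) hi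
theorem c_lt43 : ∀ x ∈ rw43, x < 8 := by decide

def rw44 : List Nat := [2, 4, 3, 4, 6, 1, 3, 1, 3, 3, 3, 4, 1, 7, 0, 0, 6, 0, 4, 2, 2, 2, 0, 2, 0, 7, 4, 2, 4, 3, 2, 4, 3, 4, 6, 1, 3, 1, 3, 3, 3, 4, 1, 7, 0, 0, 6, 0, 4, 2, 2, 2, 0, 2, 0, 7, 4, 2, 4, 3]
noncomputable def actW44 (i : Nat) : Nat := col3 (col5 (col2 (col5 (col7 (col0 (col2 (col0 (col2 (col2 (col2 (col5 (col0 (col6 (col1 (col1 (col7 (col1 (col5 (col3 (col3 (col3 (col1 (col3 (col1 (col6 (col5 (col3 (col5 (col2 (col3 (col5 (col2 (col5 (col7 (col0 (col2 (col0 (col2 (col2 (col2 (col5 (col0 (col6 (col1 (col1 (col7 (col1 (col5 (col3 (col3 (col3 (col1 (col3 (col1 (col6 (col5 (col3 (col5 (col2 (i))))))))))))))))))))))))))))))))))))))))))))))))))))))))))))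
theorem actW44_eq (i : Nat) : actW44 i = Tab.act T D rw44 i := rfl
theorem c_w44_0 : allRange (fun i => Nat.beq (actW44 i) i) 0 1000 = true := by decide +kernel
theorem c_w44_1 : allRange (fun i => Nat.beq (actW44 i) i) 1000 409 = true := by decide +kernel
theorem h_w44 : ∀ i, i < 1409 → Nat.beq (Tab.act T D rw44 i) i = true := by
  intro i hi
  rw [← actW44_eq]
  exact (range_glue (range_of_allRange c_w44_0) (range_of_allRange c_w44_1)) i (Nat.zero_le _) hi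
theorem c_lt44 : ∀ x ∈ rw44, x < 8 := by decide

def rw45 : List Nat := [7, 4, 6, 0, 0, 7, 4, 6, 1, 7, 0, 0, 6, 0, 7, 4, 6, 0, 0, 7, 4, 6, 1, 7, 0, 0, 6, 0, 7, 4, 6, 0, 0, 7, 4, 6, 1, 7, 0, 0, 6, 0]
noncomputable def actW45 (i : Nat) : Nat := col6 (col5 (col7 (col1 (col1 (col6 (col5 (col7 (col0 (col6 (col1 (col1 (col7 (col1 (col6 (col5 (col7 (col1 (col1 (col6 (col5 (col7 (col0 (col6 (col1 (col1 (col7 (col1 (col6 (col5 (col7 (col1 (col1 (col6 (col5 (col7 (col0 (col6 (col1 (col1 (col7 (col1 (i))))))))))))))))))))))))))))))))))))))))))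
theorem actW45_eq (i : Nat) : actW45 i = Tab.act T D rw45 i := rfl
theorem c_w45_0 : allRange (fun i => Nat.beq (actW45 i) i) 0 1409 = true := by decide +kernel
theorem h_w45 : ∀ i, i < 1409 → Nat.beq (Tab.act T D rw45 i) i = true := by
  intro i hi
  rw [← actW45_eq]
  exact (range_of_allRange c_w45_0) i (Nat.zero_le _) hi
theorem c_lt45 : ∀ x ∈ rw45, x < 8 := by decide

def rw46 : List Nat := [7, 4, 6, 0, 0, 7, 4, 6, 1, 7, 0, 0, 6, 0, 0, 0, 7, 4, 6, 0, 0, 7, 4, 6, 1, 7, 0, 0, 6, 0, 0, 0, 7, 4, 6, 0, 0, 7, 4, 6, 1, 7, 0, 0, 6, 0, 0, 0]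
noncomputable def actW46 (i : Nat) : Nat := col6 (col5 (col7 (col1 (col1 (col6 (col5 (col7 (col0 (col6 (col1 (col1 (col7 (col1 (col1 (col1 (col6 (col5 (col7 (col1 (col1 (col6 (col5 (col7 (col0 (col6 (col1 (col1 (col7 (col1 (col1 (col1 (col6 (col5 (col7 (col1 (col1 (col6 (col5 (col7 (col0 (col6 (col1 (col1 (col7 (col1 (col1 (col1 (i))))))))))))))))))))))))))))))))))))))))))))))))
theorem actW46_eq (i : Nat) : actW46 i = Tab.act T D rw46 i := rfl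
theorem c_w46_0 : allRange (fun i => Nat.beq (actW46 i) i) 0 1250 = true := by decide +kernel
theorem c_w46_1 : allRange (fun i => Nat.beq (actW46 i) i) 1250 159 = true := by decide +kernel
theorem h_w46 : ∀ i, i < 1409 → Nat.beq (Tab.act T D rw46 i) i = true := by
  intro i hi
  rw [← actW46_eq]
  exact (range_glue (range_of_allRange c_w46_0) (range_of_allRange c_w46_1)) i (Nat.zero_le _) hi
theorem c_lt46 : ∀ x ∈ rw46, x < 8 := by decide

def rw47 : List Nat := [7, 4, 6, 0, 0, 7, 4, 6, 1, 7, 0, 0, 6, 0, 7, 4, 6, 0, 0, 7, 4, 6, 7, 4, 6, 0, 0, 7, 4, 6, 1, 7, 0, 0, 6, 0, 7, 4, 6, 0, 0, 7, 4, 6]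
noncomputable def actW47 (i : Nat) : Nat := col6 (col5 (col7 (col1 (col1 (col6 (col5 (col7 (col0 (col6 (col1 (col1 (col7 (col1 (col6 (col5 (col7 (col1 (col1 (col6 (col5 (col7 (col6 (col5 (col7 (col1 (col1 (col6 (col5 (col7 (col0 (col6 (col1 (col1 (col7 (col1 (col6 (col5 (col7 (col1 (col1 (col6 (col5 (col7 (i))))))))))))))))))))))))))))))))))))))))))))
theorem actW47_eq (i : Nat) : actW47 i = Tab.act T D rw47 i := rfl
theorem c_w47_0 : allRange (fun i => Nat.beq (actW47 i) i) 0 1363 = true := by decide +kernel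
theorem c_w47_1 : allRange (fun i => Nat.beq (actW47 i) i) 1363 46 = true := by decide +kernel
theorem h_w47 : ∀ i, i < 1409 → Nat.beq (Tab.act T D rw47 i) i = true := by
  intro i hi
  rw [← actW47_eq]
  exact (range_glue (range_of_allRange c_w47_0) (range_of_allRange c_w47_1)) i (Nat.zero_le _) hi
theorem c_lt47 : ∀ x ∈ rw47, x < 8 := by decide

def rw48 : List Nat := [7, 4, 6, 0, 0, 7, 4, 6, 1, 7, 0, 0, 6, 0, 6, 3, 1, 3, 4, 7, 0, 0, 6, 4, 2, 0, 2, 7, 7, 4, 6, 0, 0, 7, 4, 6, 1, 7, 0, 0, 6, 0, 6, 3, 1, 3, 4, 7, 0, 0, 6, 4, 2, 0, 2, 7]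
noncomputable def actW48 (i : Nat) : Nat := col6 (col5 (col7 (col1 (col1 (col6 (col5 (col7 (col0 (col6 (col1 (col1 (col7 (col1 (col7 (col2 (col0 (col2 (col5 (col6 (col1 (col1 (col7 (col5 (col3 (col1 (col3 (col6 (col6 (col5 (col7 (col1 (col1 (col6 (col5 (col7 (col0 (col6 (col1 (col1 (col7 (col1 (col7 (col2 (col0 (col2 (col5 (col6 (col1 (col1 (col7 (col5 (col3 (col1 (col3 (col6 (i))))))))))))))))))))))))))))))))))))))))))))))))))))))))
theorem actW48_eq (i : Nat) : actW48 i = Tab.act T D rw48 i := rfl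
theorem c_w48_0 : allRange (fun i => Nat.beq (actW48 i) i) 0 1071 = true := by decide +kernel
theorem c_w48_1 : allRange (fun i => Nat.beq (actW48 i) i) 1071 338 = true := by decide +kernel
theorem h_w48 : ∀ i, i < 1409 → Nat.beq (Tab.act T D rw48 i) i = true := by
  intro i hi
  rw [← actW48_eq]
  exact (range_glue (range_of_allRange c_w48_0) (range_of_allRange c_w48_1)) i (Nat.zero_le _) hi
theorem c_lt48 : ∀ x ∈ rw48, x < 8 := by decide

def rw49 : List Nat := [7, 4, 6, 0, 0, 7, 4, 6, 1, 7, 0, 0, 6, 0, 3, 1, 3, 4, 6, 6, 3, 3, 3, 4, 7, 0, 0, 6, 4, 2, 2, 2, 7, 7, 4, 2, 0, 2, 7, 4, 6, 0, 0, 7, 4, 6, 1, 7, 0, 0, 6, 0, 3, 1, 3, 4, 6, 6, 3, 3, 3, 4, 7, 0, 0, 6, 4, 2, 2, 2, 7, 7, 4, 2, 0, 2]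
noncomputable def actW49 (i : Nat) : Nat := col6 (col5 (col7 (col1 (col1 (col6 (col5 (col7 (col0 (col6 (col1 (col1 (col7 (col1 (col2 (col0 (col2 (col5 (col7 (col7 (col2 (col2 (col2 (col5 (col6 (col1 (col1 (col7 (col5 (col3 (col3 (col3 (col6 (col6 (col5 (col3 (col1 (col3 (col6 (col5 (col7 (col1 (col1 (col6 (col5 (col7 (col0 (col6 (col1 (col1 (col7 (col1 (col2 (col0 (col2 (col5 (col7 (col7 (col2 (col2 (col2 (col5 (col6 (col1 (col1 (col7 (col5 (col3 (col3 (col3 (col6 (col6 (col5 (col3 (col1 (col3 (i))))))))))))))))))))))))))))))))))))))))))))))))))))))))))))))))))))))))))))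
theorem actW49_eq (i : Nat) : actW49 i = Tab.act T D rw49 i := rfl
theorem c_w49_0 : allRange (fun i => Nat.beq (actW49 i) i) 0 789 = true := by decide +kernel
theorem c_w49_1 : allRange (fun i => Nat.beq (actW49 i) i) 789 620 = true := by decide +kernel
theorem h_w49 : ∀ i, i < 1409 → Nat.beq (Tab.act T D rw49 i) i = true := by
  intro i hi
  rw [← actW49_eq]
  exact (range_glue (range_of_allRange c_w49_0) (range_of_allRange c_w49_1)) i (Nat.zero_le _) hi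
theorem c_lt49 : ∀ x ∈ rw49, x < 8 := by decide

def rw50 : List Nat := [7, 4, 6, 0, 0, 7, 4, 6, 1, 7, 0, 0, 6, 0, 2, 1, 3, 3, 4, 1, 7, 3, 3, 3, 4, 1, 7, 0, 0, 6, 0, 4, 2, 2, 2, 6, 0, 4, 2, 2, 0, 3, 7, 4, 6, 0, 0, 7, 4, 6, 1, 7, 0, 0, 6, 0, 2, 1, 3, 3, 4, 1, 7, 3, 3, 3, 4, 1, 7, 0, 0, 6, 0, 4, 2, 2, 2, 6, 0, 4, 2, 2, 0, 3]
noncomputable def actW50 (i : Nat) : Nat := col6 (col5 (col7 (col1 (col1 (col6 (col5 (col7 (col0 (col6 (col1 (col1 (col7 (col1 (col3 (col0 (col2 (col2 (col5 (col0 (col6 (col2 (col2 (col2 (col5 (col0 (col6 (col1 (col1 (col7 (col1 (col5 (col3 (col3 (col3 (col7 (col1 (col5 (col3 (col3 (col1 (col2 (col6 (col5 (col7 (col1 (col1 (col6 (col5 (col7 (col0 (col6 (col1 (col1 (col7 (col1 (col3 (col0 (col2 (col2 (col5 (col0 (col6 (col2 (col2 (col2 (col5 (col0 (col6 (col1 (col1 (col7 (col1 (col5 (col3 (col3 (col3 (col7 (col1 (col5 (col3 (col3 (col1 (col2 (i))))))))))))))))))))))))))))))))))))))))))))))))))))))))))))))))))))))))))))))))))))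
theorem actW50_eq (i : Nat) : actW50 i = Tab.act T D rw50 i := rfl
theorem c_w50_0 : allRange (fun i => Nat.beq (actW50 i) i) 0 714 = true := by decide +kernel
theorem c_w50_1 : allRange (fun i => Nat.beq (actW50 i) i) 714 695 = true := by decide +kernel
theorem h_w50 : ∀ i, i < 1409 → Nat.beq (Tab.act T D rw50 i) i = true := by
  intro i hi
  rw [← actW50_eq]
  exact (range_glue (range_of_allRange c_w50_0) (range_of_allRange c_w50_1)) i (Nat.zero_le _) hi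
theorem c_lt50 : ∀ x ∈ rw50, x < 8 := by decide

def rw51 : List Nat := [7, 4, 6, 0, 0, 7, 4, 6, 1, 7, 0, 0, 6, 0, 3, 1, 3, 3, 4, 1, 3, 4, 6, 1, 3, 4, 7, 0, 0, 6, 4, 2, 0, 7, 4, 2, 0, 4, 2, 2, 0, 2, 7, 4, 6, 0, 0, 7, 4, 6, 1, 7, 0, 0, 6, 0, 3, 1, 3, 3, 4, 1, 3, 4, 6, 1, 3, 4, 7, 0, 0, 6, 4, 2, 0, 7, 4, 2, 0, 4, 2, 2, 0, 2]
noncomputable def actW51 (i : Nat) : Nat := col6 (col5 (col7 (col1 (col1 (col6 (col5 (col7 (col0 (col6 (col1 (col1 (col7 (col1 (col2 (col0 (col2 (col2 (col5 (col0 (col2 (col5 (col7 (col0 (col2 (col5 (col6 (col1 (col1 (col7 (col5 (col3 (col1 (col6 (col5 (col3 (col1 (col5 (col3 (col3 (col1 (col3 (col6 (col5 (col7 (col1 (col1 (col6 (col5 (col7 (col0 (col6 (col1 (col1 (col7 (col1 (col2 (col0 (col2 (col2 (col5 (col0 (col2 (col5 (col7 (col0 (col2 (col5 (col6 (col1 (col1 (col7 (col5 (col3 (col1 (col6 (col5 (col3 (col1 (col5 (col3 (col3 (col1 (col3 (i))))))))))))))))))))))))))))))))))))))))))))))))))))))))))))))))))))))))))))))))))))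
theorem actW51_eq (i : Nat) : actW51 i = Tab.act T D rw51 i := rfl
theorem c_w51_0 : allRange (fun i => Nat.beq (actW51 i) i) 0 714 = true := by decide +kernel
theorem c_w51_1 : allRange (fun i => Nat.beq (actW51 i) i) 714 695 = true := by decide +kernel
theorem h_w51 : ∀ i, i < 1409 → Nat.beq (Tab.act T D rw51 i) i = true := by
  intro i hi
  rw [← actW51_eq]
  exact (range_glue (range_of_allRange c_w51_0) (range_of_allRange c_w51_1)) i (Nat.zero_le _) hi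
theorem c_lt51 : ∀ x ∈ rw51, x < 8 := by decide

def rw52 : List Nat := [7, 4, 6, 0, 0, 7, 4, 6, 1, 7, 0, 0, 6, 0, 3, 4, 2, 4, 6, 1, 3, 3, 4, 7, 0, 0, 6, 4, 2, 2, 0, 7, 4, 3, 4, 2, 7, 4, 6, 0, 0, 7, 4, 6, 1, 7, 0, 0, 6, 0, 3, 4, 2, 4, 6, 1, 3, 3, 4, 7, 0, 0, 6, 4, 2, 2, 0, 7, 4, 3, 4, 2]
noncomputable def actW52 (i : Nat) : Nat := col6 (col5 (col7 (col1 (col1 (col6 (col5 (col7 (col0 (col6 (col1 (col1 (col7 (col1 (col2 (col5 (col3 (col5 (col7 (col0 (col2 (col2 (col5 (col6 (col1 (col1 (col7 (col5 (col3 (col3 (col1 (col6 (col5 (col2 (col5 (col3 (col6 (col5 (col7 (col1 (col1 (col6 (col5 (col7 (col0 (col6 (col1 (col1 (col7 (col1 (col2 (col5 (col3 (col5 (col7 (col0 (col2 (col2 (col5 (col6 (col1 (col1 (col7 (col5 (col3 (col3 (col1 (col6 (col5 (col2 (col5 (col3 (i))))))))))))))))))))))))))))))))))))))))))))))))))))))))))))))))))))))))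
theorem actW52_eq (i : Nat) : actW52 i = Tab.act T D rw52 i := rfl
theorem c_w52_0 : allRange (fun i => Nat.beq (actW52 i) i) 0 833 = true := by decide +kernel
theorem c_w52_1 : allRange (fun i => Nat.beq (actW52 i) i) 833 576 = true := by decide +kernel
theorem h_w52 : ∀ i, i < 1409 → Nat.beq (Tab.act T D rw52 i) i = true := by
  intro i hi
  rw [← actW52_eq]
  exact (range_glue (range_of_allRange c_w52_0) (range_of_allRange c_w52_1)) i (Nat.zero_le _) hi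
theorem c_lt52 : ∀ x ∈ rw52, x < 8 := by decide

def rw53 : List Nat := [7, 4, 6, 0, 0, 7, 4, 6, 1, 7, 0, 0, 6, 0, 2, 4, 3, 4, 6, 1, 3, 4, 7, 0, 0, 6, 4, 2, 0, 7, 4, 2, 4, 3, 7, 4, 6, 0, 0, 7, 4, 6, 1, 7, 0, 0, 6, 0, 2, 4, 3, 4, 6, 1, 3, 4, 7, 0, 0, 6, 4, 2, 0, 7, 4, 2, 4, 3]
noncomputable def actW53 (i : Nat) : Nat := col6 (col5 (col7 (col1 (col1 (col6 (col5 (col7 (col0 (col6 (col1 (col1 (col7 (col1 (col3 (col5 (col2 (col5 (col7 (col0 (col2 (col5 (col6 (col1 (col1 (col7 (col5 (col3 (col1 (col6 (col5 (col3 (col5 (col2 (col6 (col5 (col7 (col1 (col1 (col6 (col5 (col7 (col0 (col6 (col1 (col1 (col7 (col1 (col3 (col5 (col2 (col5 (col7 (col0 (col2 (col5 (col6 (col1 (col1 (col7 (col5 (col3 (col1 (col6 (col5 (col3 (col5 (col2 (i))))))))))))))))))))))))))))))))))))))))))))))))))))))))))))))))))))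
theorem actW53_eq (i : Nat) : actW53 i = Tab.act T D rw53 i := rfl
theorem c_w53_0 : allRange (fun i => Nat.beq (actW53 i) i) 0 882 = true := by decide +kernel
theorem c_w53_1 : allRange (fun i => Nat.beq (actW53 i) i) 882 527 = true := by decide +kernel
theorem h_w53 : ∀ i, i < 1409 → Nat.beq (Tab.act T D rw53 i) i = true := by
  intro i hi
  rw [← actW53_eq]
  exact (range_glue (range_of_allRange c_w53_0) (range_of_allRange c_w53_1)) i (Nat.zero_le _) hi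
theorem c_lt53 : ∀ x ∈ rw53, x < 8 := by decide

def rw54 : List Nat := [7, 4, 6, 0, 0, 7, 4, 6, 1, 7, 0, 0, 6, 0, 2, 4, 3, 4, 6, 1, 3, 1, 3, 3, 3, 4, 1, 7, 0, 0, 6, 0, 4, 2, 2, 2, 0, 2, 0, 7, 4, 2, 4, 3, 7, 4, 6, 0, 0, 7, 4, 6, 1, 7, 0, 0, 6, 0, 2, 4, 3, 4, 6, 1, 3, 1, 3, 3, 3, 4, 1, 7, 0, 0, 6, 0, 4, 2, 2, 2, 0, 2, 0, 7, 4, 2, 4, 3]
noncomputable def actW54 (i : Nat) : Nat := col6 (col5 (col7 (col1 (col1 (col6 (col5 (col7 (col0 (col6 (col1 (col1 (col7 (col1 (col3 (col5 (col2 (col5 (col7 (col0 (col2 (col0 (col2 (col2 (col2 (col5 (col0 (col6 (col1 (col1 (col7 (col1 (col5 (col3 (col3 (col3 (col1 (col3 (col1 (col6 (col5 (col3 (col5 (col2 (col6 (col5 (col7 (col1 (col1 (col6 (col5 (col7 (col0 (col6 (col1 (col1 (col7 (col1 (col3 (col5 (col2 (col5 (col7 (col0 (col2 (col0 (col2 (col2 (col2 (col5 (col0 (col6 (col1 (col1 (col7 (col1 (col5 (col3 (col3 (col3 (col1 (col3 (col1 (col6 (col5 (col3 (col5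 (col2 (i))))))))))))))))))))))))))))))))))))))))))))))))))))))))))))))))))))))))))))))))))))))))
theorem actW54_eq (i : Nat) : actW54 i = Tab.act T D rw54 i := rfl
theorem c_w54_0 : allRange (fun i => Nat.beq (actW54 i) i) 0 681 = true := by decide +kernel
theorem c_w54_1 : allRange (fun i => Nat.beq (actW54 i) i) 681 681 = true := by decide +kernel
theorem c_w54_2 : allRange (fun i => Nat.beq (actW54 i) i) 1362 47 = true := by decide +kernel
theorem h_w54 : ∀ i, i < 1409 → Nat.beq (Tab.act T D rw54 i) i = true := by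
  intro i hi
  rw [← actW54_eq]
  exact (range_glue (range_of_allRange c_w54_0) (range_glue (range_of_allRange c_w54_1) (range_of_allRange c_w54_2))) i (Nat.zero_le _) hi
theorem c_lt54 : ∀ x ∈ rw54, x < 8 := by decide

def rw55 : List Nat := [7, 4, 6, 0, 0, 7, 4, 6, 1, 7, 0, 0, 6, 0, 1, 7, 1, 1, 6, 0, 7, 4, 6, 1, 1, 7, 4, 6]
noncomputable def actW55 (i : Nat) : Nat := col6 (col5 (col7 (col1 (col1 (col6 (col5 (col7 (col0 (col6 (col1 (col1 (col7 (col1 (col0 (col6 (col0 (col0 (col7 (col1 (col6 (col5 (col7 (col0 (col0 (col6 (col5 (col7 (i))))))))))))))))))))))))))))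
theorem actW55_eq (i : Nat) : actW55 i = Tab.act T D rw55 i := rfl
theorem c_w55_0 : allRange (fun i => Nat.beq (actW55 i) i) 0 1409 = true := by decide +kernel
theorem h_w55 : ∀ i, i < 1409 → Nat.beq (Tab.act T D rw55 i) i = true := by
  intro i hi
  rw [← actW55_eq]
  exact (range_of_allRange c_w55_0) i (Nat.zero_le _) hi
theorem c_lt55 : ∀ x ∈ rw55, x < 8 := by decide

def rw56 : List Nat := [1, 7, 1, 1, 6, 0, 7, 4, 6, 1, 1, 7, 4, 6, 7, 4, 6, 0, 0, 7, 4, 6, 1, 7, 0, 0, 6, 0]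
noncomputable def actW56 (i : Nat) : Nat := col0 (col6 (col0 (col0 (col7 (col1 (col6 (col5 (col7 (col0 (col0 (col6 (col5 (col7 (col6 (col5 (col7 (col1 (col1 (col6 (col5 (col7 (col0 (col6 (col1 (col1 (col7 (col1 (i))))))))))))))))))))))))))))
theorem actW56_eq (i : Nat) : actW56 i = Tab.act T D rw56 i := rfl
theorem c_w56_0 : allRange (fun i => Nat.beq (actW56 i) i) 0 1409 = true := by decide +kernel
theorem h_w56 : ∀ i, i < 1409 → Nat.beq (Tab.act T D rw56 i) i = true := by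
  intro i hi
  rw [← actW56_eq]
  exact (range_of_allRange c_w56_0) i (Nat.zero_le _) hi
theorem c_lt56 : ∀ x ∈ rw56, x < 8 := by decide

def rw57 : List Nat := [0, 0, 0, 0]
noncomputable def actW57 (i : Nat) : Nat := col1 (col1 (col1 (col1 (i))))
theorem actW57_eq (i : Nat) : actW57 i = Tab.act T D rw57 i := rfl
theorem c_w57_0 : allRange (fun i => Nat.beq (actW57 i) i) 0 1409 = true := by decide +kernel
theorem h_w57 : ∀ i, i < 1409 → Nat.beq (Tab.act T D rw57 i) i = true := by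
  intro i hi
  rw [← actW57_eq]
  exact (range_of_allRange c_w57_0) i (Nat.zero_le _) hi
theorem c_lt57 : ∀ x ∈ rw57, x < 8 := by decide

def rw58 : List Nat := [7, 4, 6, 0, 0, 7, 4, 6, 7, 4, 6, 0, 0, 7, 4, 6]
noncomputable def actW58 (i : Nat) : Nat := col6 (col5 (col7 (col1 (col1 (col6 (col5 (col7 (col6 (col5 (col7 (col1 (col1 (col6 (col5 (col7 (i))))))))))))))))
theorem actW58_eq (i : Nat) : actW58 i = Tab.act T D rw58 i := rfl
theorem c_w58_0 : allRange (fun i => Nat.beq (actW58 i) i) 0 1409 = true := by decide +kernel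
theorem h_w58 : ∀ i, i < 1409 → Nat.beq (Tab.act T D rw58 i) i = true := by
  intro i hi
  rw [← actW58_eq]
  exact (range_of_allRange c_w58_0) i (Nat.zero_le _) hi
theorem c_lt58 : ∀ x ∈ rw58, x < 8 := by decide

def rw59 : List Nat := [6, 3, 1, 3, 4, 7, 0, 0, 6, 4, 2, 0, 2, 7, 6, 3, 1, 3, 4, 7, 0, 0, 6, 4, 2, 0, 2, 7]
noncomputable def actW59 (i : Nat) : Nat := col7 (col2 (col0 (col2 (col5 (col6 (col1 (col1 (col7 (col5 (col3 (col1 (col3 (col6 (col7 (col2 (col0 (col2 (col5 (col6 (col1 (col1 (col7 (col5 (col3 (col1 (col3 (col6 (i))))))))))))))))))))))))))))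
theorem actW59_eq (i : Nat) : actW59 i = Tab.act T D rw59 i := rfl
theorem c_w59_0 : allRange (fun i => Nat.beq (actW59 i) i) 0 1409 = true := by decide +kernel
theorem h_w59 : ∀ i, i < 1409 → Nat.beq (Tab.act T D rw59 i) i = true := by
  intro i hi
  rw [← actW59_eq]
  exact (range_of_allRange c_w59_0) i (Nat.zero_le _) hi
theorem c_lt59 : ∀ x ∈ rw59, x < 8 := by decide

def rw60 : List Nat := [3, 1, 3, 4, 6, 6, 3, 3, 3, 4, 7, 0, 0, 6, 4, 2, 2, 2, 7, 7, 4, 2, 0, 2, 3, 1, 3, 4, 6, 6, 3, 3, 3, 4, 7, 0, 0, 6, 4, 2, 2, 2, 7, 7, 4, 2, 0, 2]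
noncomputable def actW60 (i : Nat) : Nat := col2 (col0 (col2 (col5 (col7 (col7 (col2 (col2 (col2 (col5 (col6 (col1 (col1 (col7 (col5 (col3 (col3 (col3 (col6 (col6 (col5 (col3 (col1 (col3 (col2 (col0 (col2 (col5 (col7 (col7 (col2 (col2 (col2 (col5 (col6 (col1 (col1 (col7 (col5 (col3 (col3 (col3 (col6 (col6 (col5 (col3 (col1 (col3 (i))))))))))))))))))))))))))))))))))))))))))))))))
theorem actW60_eq (i : Nat) : actW60 i = Tab.act T D rw60 i := rfl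
theorem c_w60_0 : allRange (fun i => Nat.beq (actW60 i) i) 0 1250 = true := by decide +kernel
theorem c_w60_1 : allRange (fun i => Nat.beq (actW60 i) i) 1250 159 = true := by decide +kernel
theorem h_w60 : ∀ i, i < 1409 → Nat.beq (Tab.act T D rw60 i) i = true := by
  intro i hi
  rw [← actW60_eq]
  exact (range_glue (range_of_allRange c_w60_0) (range_of_allRange c_w60_1)) i (Nat.zero_le _) hi
theorem c_lt60 : ∀ x ∈ rw60, x < 8 := by decide

def rw61 : List Nat := [2, 1, 3, 3, 4, 1, 7, 3, 3, 3, 4, 1, 7, 0, 0, 6, 0, 4, 2, 2, 2, 6, 0, 4, 2, 2, 0, 3, 2, 1, 3, 3, 4, 1, 7, 3, 3, 3, 4, 1, 7, 0, 0, 6, 0, 4, 2, 2, 2, 6, 0, 4, 2, 2, 0, 3]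
noncomputable def actW61 (i : Nat) : Nat := col3 (col0 (col2 (col2 (col5 (col0 (col6 (col2 (col2 (col2 (col5 (col0 (col6 (col1 (col1 (col7 (col1 (col5 (col3 (col3 (col3 (col7 (col1 (col5 (col3 (col3 (col1 (col2 (col3 (col0 (col2 (col2 (col5 (col0 (col6 (col2 (col2 (col2 (col5 (col0 (col6 (col1 (col1 (col7 (col1 (col5 (col3 (col3 (col3 (col7 (col1 (col5 (col3 (col3 (col1 (col2 (i))))))))))))))))))))))))))))))))))))))))))))))))))))))))
theorem actW61_eq (i : Nat) : actW61 i = Tab.act T D rw61 i := rfl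
theorem c_w61_0 : allRange (fun i => Nat.beq (actW61 i) i) 0 1071 = true := by decide +kernel
theorem c_w61_1 : allRange (fun i => Nat.beq (actW61 i) i) 1071 338 = true := by decide +kernel
theorem h_w61 : ∀ i, i < 1409 → Nat.beq (Tab.act T D rw61 i) i = true := by
  intro i hi
  rw [← actW61_eq]
  exact (range_glue (range_of_allRange c_w61_0) (range_of_allRange c_w61_1)) i (Nat.zero_le _) hi
theorem c_lt61 : ∀ x ∈ rw61, x < 8 := by decide

def rw62 : List Nat := [3, 1, 3, 3, 4, 1, 3, 4, 6, 1, 3, 4, 7, 0, 0, 6, 4, 2, 0, 7, 4, 2, 0, 4, 2, 2, 0, 2, 3, 1, 3, 3, 4, 1, 3, 4, 6, 1, 3, 4, 7, 0, 0, 6, 4, 2, 0, 7, 4, 2, 0, 4, 2, 2, 0, 2]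
noncomputable def actW62 (i : Nat) : Nat := col2 (col0 (col2 (col2 (col5 (col0 (col2 (col5 (col7 (col0 (col2 (col5 (col6 (col1 (col1 (col7 (col5 (col3 (col1 (col6 (col5 (col3 (col1 (col5 (col3 (col3 (col1 (col3 (col2 (col0 (col2 (col2 (col5 (col0 (col2 (col5 (col7 (col0 (col2 (col5 (col6 (col1 (col1 (col7 (col5 (col3 (col1 (col6 (col5 (col3 (col1 (col5 (col3 (col3 (col1 (col3 (i))))))))))))))))))))))))))))))))))))))))))))))))))))))))
theorem actW62_eq (i : Nat) : actW62 i = Tab.act T D rw62 i := rfl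
theorem c_w62_0 : allRange (fun i => Nat.beq (actW62 i) i) 0 1071 = true := by decide +kernel
theorem c_w62_1 : allRange (fun i => Nat.beq (actW62 i) i) 1071 338 = true := by decide +kernel
theorem h_w62 : ∀ i, i < 1409 → Nat.beq (Tab.act T D rw62 i) i = true := by
  intro i hi
  rw [← actW62_eq]
  exact (range_glue (range_of_allRange c_w62_0) (range_of_allRange c_w62_1)) i (Nat.zero_le _) hi
theorem c_lt62 : ∀ x ∈ rw62, x < 8 := by decide

def rw63 : List Nat := [3, 4, 2, 4, 6, 1, 3, 3, 4, 7, 0, 0, 6, 4, 2, 2, 0, 7, 4, 3, 4, 2, 3, 4, 2, 4, 6, 1, 3, 3, 4, 7, 0, 0, 6, 4, 2, 2, 0, 7, 4, 3, 4, 2]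
noncomputable def actW63 (i : Nat) : Nat := col2 (col5 (col3 (col5 (col7 (col0 (col2 (col2 (col5 (col6 (col1 (col1 (col7 (col5 (col3 (col3 (col1 (col6 (col5 (col2 (col5 (col3 (col2 (col5 (col3 (col5 (col7 (col0 (col2 (col2 (col5 (col6 (col1 (col1 (col7 (col5 (col3 (col3 (col1 (col6 (col5 (col2 (col5 (col3 (i))))))))))))))))))))))))))))))))))))))))))))
theorem actW63_eq (i : Nat) : actW63 i = Tab.act T D rw63 i := rfl
theorem c_w63_0 : allRange (fun i => Nat.beq (actW63 i) i) 0 1363 = true := by decide +kernel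
theorem c_w63_1 : allRange (fun i => Nat.beq (actW63 i) i) 1363 46 = true := by decide +kernel
theorem h_w63 : ∀ i, i < 1409 → Nat.beq (Tab.act T D rw63 i) i = true := by
  intro i hi
  rw [← actW63_eq]
  exact (range_glue (range_of_allRange c_w63_0) (range_of_allRange c_w63_1)) i (Nat.zero_le _) hi
theorem c_lt63 : ∀ x ∈ rw63, x < 8 := by decide

def rw64 : List Nat := [2, 4, 3, 4, 6, 1, 3, 4, 7, 0, 0, 6, 4, 2, 0, 7, 4, 2, 4, 3, 2, 4, 3, 4, 6, 1, 3, 4, 7, 0, 0, 6, 4, 2, 0, 7, 4, 2, 4, 3]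
noncomputable def actW64 (i : Nat) : Nat := col3 (col5 (col2 (col5 (col7 (col0 (col2 (col5 (col6 (col1 (col1 (col7 (col5 (col3 (col1 (col6 (col5 (col3 (col5 (col2 (col3 (col5 (col2 (col5 (col7 (col0 (col2 (col5 (col6 (col1 (col1 (col7 (col5 (col3 (col1 (col6 (col5 (col3 (col5 (col2 (i))))))))))))))))))))))))))))))))))))))))
theorem actW64_eq (i : Nat) : actW64 i = Tab.act T D rw64 i := rfl
theorem c_w64_0 : allRange (fun i => Nat.beq (actW64 i) i) 0 1409 = true := by decide +kernel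
theorem h_w64 : ∀ i, i < 1409 → Nat.beq (Tab.act T D rw64 i) i = true := by
  intro i hi
  rw [← actW64_eq]
  exact (range_of_allRange c_w64_0) i (Nat.zero_le _) hi
theorem c_lt64 : ∀ x ∈ rw64, x < 8 := by decide

def rw65 : List Nat := [2, 4, 3, 4, 6, 1, 3, 1, 3, 3, 3, 4, 1, 7, 0, 0, 6, 0, 4, 2, 2, 2, 0, 2, 0, 7, 4, 2, 4, 3, 2, 4, 3, 4, 6, 1, 3, 1, 3, 3, 3, 4, 1, 7, 0, 0, 6, 0, 4, 2, 2, 2, 0, 2, 0, 7, 4, 2, 4, 3]
noncomputable def actW65 (i : Nat) : Nat := col3 (col5 (col2 (col5 (col7 (col0 (col2 (col0 (col2 (col2 (col2 (col5 (col0 (col6 (col1 (col1 (col7 (col1 (col5 (col3 (col3 (col3 (col1 (col3 (col1 (col6 (col5 (col3 (col5 (col2 (col3 (col5 (col2 (col5 (col7 (col0 (col2 (col0 (col2 (col2 (col2 (col5 (col0 (col6 (col1 (col1 (col7 (col1 (col5 (col3 (col3 (col3 (col1 (col3 (col1 (col6 (col5 (col3 (col5 (col2 (i))))))))))))))))))))))))))))))))))))))))))))))))))))))))))))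
theorem actW65_eq (i : Nat) : actW65 i = Tab.act T D rw65 i := rfl
theorem c_w65_0 : allRange (fun i => Nat.beq (actW65 i) i) 0 1000 = true := by decide +kernel
theorem c_w65_1 : allRange (fun i => Nat.beq (actW65 i) i) 1000 409 = true := by decide +kernel
theorem h_w65 : ∀ i, i < 1409 → Nat.beq (Tab.act T D rw65 i) i = true := by
  intro i hi
  rw [← actW65_eq]
  exact (range_glue (range_of_allRange c_w65_0) (range_of_allRange c_w65_1)) i (Nat.zero_le _) hi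
theorem c_lt65 : ∀ x ∈ rw65, x < 8 := by decide

/-- the relator words and the words of a letter followed by its inverse -/
def relWords : List (List Nat) := [rw0, rw1, rw2, rw3, rw4, rw5, rw6, rw7, rw8, rw9, rw10, rw11, rw12, rw13, rw14, rw15, rw16, rw17, rw18, rw19, rw20, rw21, rw22, rw23, rw24, rw25, rw26, rw27, rw28, rw29, rw30, rw31, rw32, rw33, rw34, rw35, rw36, rw37, rw38, rw39, rw40, rw41, rw42, rw43, rw44, rw45, rw46, rw47, rw48, rw49, rw50, rw51, rw52, rw53, rw54, rw55, rw56, rw57, rw58, rw59, rw60, rw61, rw62, rw63, rw64, rw65]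

theorem c_words_eq : PA12p.P.real.map (fun L => L.flatMap Wf) ++
    (List.range 11).map (fun l => Wf l ++ Wf (PA12p.P.invR l)) = relWords := by decide +kernel

theorem c_ne : Nat.beq (Tab.act T D (Wf 2) 1) 1 = false := by decide +kernel

end Cfsg.Agent.Lib.Helper4.TCD.HNA12Q
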