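import Mathlib
import Cfsg.Prelude.Def_Sporadic
import Cfsg.Agent.Lib.Helper4.HNSimple
import Cfsg.Agent.Lib.Helper4.A12pMain
import Cfsg.Agent.Lib.Helper4.TCD_HNA12Q
import Cfsg.Agent.Lib.Helper4.RepLib3

/-! The presented Harada–Norton group contains a copy of the alternating group of degree 12, of index 1140000,
and acts on its cosets. -/

namespace Cfsg.Agent.Lib.Helper4.HNA12

open Cfsg.Agent.Lib.Helper4.TC Cfsg.Agent.Lib.Helper4.TCD Cfsg.Agent.Lib.Helper4.TC.Log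
open Cfsg.Agent.Lib.Helper4.HNMain Cfsg.Agent.Lib.Helper4.HNSimple

/-- a word that fixes the rows 0 to 1408 is trivial -/
theorem word_one (u : List ℕ) (hu : ∀ x ∈ u, x < 8)
    (h : ∀ i, i < 1409 → Nat.beq (Tab.act HNm.T HNm.D u i) i = true) : wordP PHN.P.gR u = 1 := by
  obtain ⟨_, hρ, _⟩ := HNNMain.order_aux
  apply xinst.word_eq_one_of_fix psi HNNR.prep.phi hρ sh sh_inj hsub hint u hu
  · exact beq_eq (h 0 (by norm_num))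
  · intro i
    exact beq_eq (h (sh i).1 (by
      have := i.2
      have h1 : HNNR.T.N = 1408 := rfl
      show i.1 + 1 < 1409
      omega))

theorem all_one : ∀ u ∈ HNA12Q.relWords, wordP PHN.P.gR u = 1 := by
  unfold HNA12Q.relWords
  refine List.forall_mem_cons.2 ⟨word_one HNA12Q.rw0 HNA12Q.c_lt0 HNA12Q.h_w0, ?_⟩
  refine List.forall_mem_cons.2 ⟨word_one HNA12Q.rw1 HNA12Q.c_lt1 HNA12Q.h_w1, ?_⟩
  refine List.forall_mem_cons.2 ⟨word_one HNA12Q.rw2 HNA12Q.c_lt2 HNA12Q.h_w2, ?_⟩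
  refine List.forall_mem_cons.2 ⟨word_one HNA12Q.rw3 HNA12Q.c_lt3 HNA12Q.h_w3, ?_⟩
  refine List.forall_mem_cons.2 ⟨word_one HNA12Q.rw4 HNA12Q.c_lt4 HNA12Q.h_w4, ?_⟩
  refine List.forall_mem_cons.2 ⟨word_one HNA12Q.rw5 HNA12Q.c_lt5 HNA12Q.h_w5, ?_⟩
  refine List.forall_mem_cons.2 ⟨word_one HNA12Q.rw6 HNA12Q.c_lt6 HNA12Q.h_w6, ?_⟩
  refine List.forall_mem_cons.2 ⟨word_one HNA12Q.rw7 HNA12Q.c_lt7 HNA12Q.h_w7, ?_⟩
  refine List.forall_mem_cons.2 ⟨word_one HNA12Q.rw8 HNA12Q.c_lt8 HNA12Q.h_w8, ?_⟩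
  refine List.forall_mem_cons.2 ⟨word_one HNA12Q.rw9 HNA12Q.c_lt9 HNA12Q.h_w9, ?_⟩
  refine List.forall_mem_cons.2 ⟨word_one HNA12Q.rw10 HNA12Q.c_lt10 HNA12Q.h_w10, ?_⟩
  refine List.forall_mem_cons.2 ⟨word_one HNA12Q.rw11 HNA12Q.c_lt11 HNA12Q.h_w11, ?_⟩
  refine List.forall_mem_cons.2 ⟨word_one HNA12Q.rw12 HNA12Q.c_lt12 HNA12Q.h_w12, ?_⟩
  refine List.forall_mem_cons.2 ⟨word_one HNA12Q.rw13 HNA12Q.c_lt13 HNA12Q.h_w13, ?_⟩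
  refine List.forall_mem_cons.2 ⟨word_one HNA12Q.rw14 HNA12Q.c_lt14 HNA12Q.h_w14, ?_⟩
  refine List.forall_mem_cons.2 ⟨word_one HNA12Q.rw15 HNA12Q.c_lt15 HNA12Q.h_w15, ?_⟩
  refine List.forall_mem_cons.2 ⟨word_one HNA12Q.rw16 HNA12Q.c_lt16 HNA12Q.h_w16, ?_⟩
  refine List.forall_mem_cons.2 ⟨word_one HNA12Q.rw17 HNA12Q.c_lt17 HNA12Q.h_w17, ?_⟩
  refine List.forall_mem_cons.2 ⟨word_one HNA12Q.rw18 HNA12Q.c_lt18 HNA12Q.h_w18, ?_⟩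
  refine List.forall_mem_cons.2 ⟨word_one HNA12Q.rw19 HNA12Q.c_lt19 HNA12Q.h_w19, ?_⟩
  refine List.forall_mem_cons.2 ⟨word_one HNA12Q.rw20 HNA12Q.c_lt20 HNA12Q.h_w20, ?_⟩
  refine List.forall_mem_cons.2 ⟨word_one HNA12Q.rw21 HNA12Q.c_lt21 HNA12Q.h_w21, ?_⟩
  refine List.forall_mem_cons.2 ⟨word_one HNA12Q.rw22 HNA12Q.c_lt22 HNA12Q.h_w22, ?_⟩
  refine List.forall_mem_cons.2 ⟨word_one HNA12Q.rw23 HNA12Q.c_lt23 HNA12Q.h_w23, ?_⟩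
  refine List.forall_mem_cons.2 ⟨word_one HNA12Q.rw24 HNA12Q.c_lt24 HNA12Q.h_w24, ?_⟩
  refine List.forall_mem_cons.2 ⟨word_one HNA12Q.rw25 HNA12Q.c_lt25 HNA12Q.h_w25, ?_⟩
  refine List.forall_mem_cons.2 ⟨word_one HNA12Q.rw26 HNA12Q.c_lt26 HNA12Q.h_w26, ?_⟩
  refine List.forall_mem_cons.2 ⟨word_one HNA12Q.rw27 HNA12Q.c_lt27 HNA12Q.h_w27, ?_⟩
  refine List.forall_mem_cons.2 ⟨word_one HNA12Q.rw28 HNA12Q.c_lt28 HNA12Q.h_w28, ?_⟩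
  refine List.forall_mem_cons.2 ⟨word_one HNA12Q.rw29 HNA12Q.c_lt29 HNA12Q.h_w29, ?_⟩
  refine List.forall_mem_cons.2 ⟨word_one HNA12Q.rw30 HNA12Q.c_lt30 HNA12Q.h_w30, ?_⟩
  refine List.forall_mem_cons.2 ⟨word_one HNA12Q.rw31 HNA12Q.c_lt31 HNA12Q.h_w31, ?_⟩
  refine List.forall_mem_cons.2 ⟨word_one HNA12Q.rw32 HNA12Q.c_lt32 HNA12Q.h_w32, ?_⟩
  refine List.forall_mem_cons.2 ⟨word_one HNA12Q.rw33 HNA12Q.c_lt33 HNA12Q.h_w33, ?_⟩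
  refine List.forall_mem_cons.2 ⟨word_one HNA12Q.rw34 HNA12Q.c_lt34 HNA12Q.h_w34, ?_⟩
  refine List.forall_mem_cons.2 ⟨word_one HNA12Q.rw35 HNA12Q.c_lt35 HNA12Q.h_w35, ?_⟩
  refine List.forall_mem_cons.2 ⟨word_one HNA12Q.rw36 HNA12Q.c_lt36 HNA12Q.h_w36, ?_⟩
  refine List.forall_mem_cons.2 ⟨word_one HNA12Q.rw37 HNA12Q.c_lt37 HNA12Q.h_w37, ?_⟩
  refine List.forall_mem_cons.2 ⟨word_one HNA12Q.rw38 HNA12Q.c_lt38 HNA12Q.h_w38, ?_⟩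
  refine List.forall_mem_cons.2 ⟨word_one HNA12Q.rw39 HNA12Q.c_lt39 HNA12Q.h_w39, ?_⟩
  refine List.forall_mem_cons.2 ⟨word_one HNA12Q.rw40 HNA12Q.c_lt40 HNA12Q.h_w40, ?_⟩
  refine List.forall_mem_cons.2 ⟨word_one HNA12Q.rw41 HNA12Q.c_lt41 HNA12Q.h_w41, ?_⟩
  refine List.forall_mem_cons.2 ⟨word_one HNA12Q.rw42 HNA12Q.c_lt42 HNA12Q.h_w42, ?_⟩
  refine List.forall_mem_cons.2 ⟨word_one HNA12Q.rw43 HNA12Q.c_lt43 HNA12Q.h_w43, ?_⟩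
  refine List.forall_mem_cons.2 ⟨word_one HNA12Q.rw44 HNA12Q.c_lt44 HNA12Q.h_w44, ?_⟩
  refine List.forall_mem_cons.2 ⟨word_one HNA12Q.rw45 HNA12Q.c_lt45 HNA12Q.h_w45, ?_⟩
  refine List.forall_mem_cons.2 ⟨word_one HNA12Q.rw46 HNA12Q.c_lt46 HNA12Q.h_w46, ?_⟩
  refine List.forall_mem_cons.2 ⟨word_one HNA12Q.rw47 HNA12Q.c_lt47 HNA12Q.h_w47, ?_⟩
  refine List.forall_mem_cons.2 ⟨word_one HNA12Q.rw48 HNA12Q.c_lt48 HNA12Q.h_w48, ?_⟩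
  refine List.forall_mem_cons.2 ⟨word_one HNA12Q.rw49 HNA12Q.c_lt49 HNA12Q.h_w49, ?_⟩
  refine List.forall_mem_cons.2 ⟨word_one HNA12Q.rw50 HNA12Q.c_lt50 HNA12Q.h_w50, ?_⟩
  refine List.forall_mem_cons.2 ⟨word_one HNA12Q.rw51 HNA12Q.c_lt51 HNA12Q.h_w51, ?_⟩
  refine List.forall_mem_cons.2 ⟨word_one HNA12Q.rw52 HNA12Q.c_lt52 HNA12Q.h_w52, ?_⟩
  refine List.forall_mem_cons.2 ⟨word_one HNA12Q.rw53 HNA12Q.c_lt53 HNA12Q.h_w53, ?_⟩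
  refine List.forall_mem_cons.2 ⟨word_one HNA12Q.rw54 HNA12Q.c_lt54 HNA12Q.h_w54, ?_⟩
  refine List.forall_mem_cons.2 ⟨word_one HNA12Q.rw55 HNA12Q.c_lt55 HNA12Q.h_w55, ?_⟩
  refine List.forall_mem_cons.2 ⟨word_one HNA12Q.rw56 HNA12Q.c_lt56 HNA12Q.h_w56, ?_⟩
  refine List.forall_mem_cons.2 ⟨word_one HNA12Q.rw57 HNA12Q.c_lt57 HNA12Q.h_w57, ?_⟩
  refine List.forall_mem_cons.2 ⟨word_one HNA12Q.rw58 HNA12Q.c_lt58 HNA12Q.h_w58, ?_⟩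
  refine List.forall_mem_cons.2 ⟨word_one HNA12Q.rw59 HNA12Q.c_lt59 HNA12Q.h_w59, ?_⟩
  refine List.forall_mem_cons.2 ⟨word_one HNA12Q.rw60 HNA12Q.c_lt60 HNA12Q.h_w60, ?_⟩
  refine List.forall_mem_cons.2 ⟨word_one HNA12Q.rw61 HNA12Q.c_lt61 HNA12Q.h_w61, ?_⟩
  refine List.forall_mem_cons.2 ⟨word_one HNA12Q.rw62 HNA12Q.c_lt62 HNA12Q.h_w62, ?_⟩
  refine List.forall_mem_cons.2 ⟨word_one HNA12Q.rw63 HNA12Q.c_lt63 HNA12Q.h_w63, ?_⟩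
  refine List.forall_mem_cons.2 ⟨word_one HNA12Q.rw64 HNA12Q.c_lt64 HNA12Q.h_w64, ?_⟩
  refine List.forall_mem_cons.2 ⟨word_one HNA12Q.rw65 HNA12Q.c_lt65 HNA12Q.h_w65, ?_⟩
  intro r hr
  exact absurd hr List.not_mem_nil

theorem emb : WordEmb PA12p.P PHN.P.gR HNA12Q.Wf where
  hP := PA12p.valid
  hinv := by
    intro l hl
    apply all_one
    rw [← HNA12Q.c_words_eq]
    exact List.mem_append_right _ (List.mem_map.2 ⟨l, List.mem_range.2 hl, rfl⟩)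
  hrel := by
    intro L hL
    apply all_one
    rw [← HNA12Q.c_words_eq]
    exact List.mem_append_left _ (List.mem_map_of_mem hL)

/-- the homomorphism from the alternating group -/
noncomputable def f : PA12p.P.Grp →* PHN.P.Grp := emb.hom

theorem f_ne : f (PA12p.P.gR 2) ≠ 1 := by
  rw [f, emb.hom_gR 2 (by decide)]
  intro h
  have h1 := xinst.phi_word (HNA12Q.Wf 2) (by decide) ⟨1, by decide⟩
  rw [h, map_one] at h1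
  have h2 := HNA12Q.c_ne
  have h3 : Tab.act HNm.T HNm.D (HNA12Q.Wf 2) 1 = 1 := h1.symm
  rw [h3] at h2
  exact absurd h2 (by decide)

theorem f_inj : Function.Injective f := RepLib.injective_of_simple A12pMain.simple f _ f_ne

/-- the copy of the alternating group -/
noncomputable def A : Subgroup PHN.P.Grp := f.range

noncomputable def equivA : A ≃* alternatingGroup (Fin 12) :=
  (MonoidHom.ofInjective f_inj).symm.trans A12pMain.equivAlt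

theorem card_A : Nat.card A = 239500800 := by
  rw [← A12pMain.order_aux.2.2]
  exact (Nat.card_congr (MonoidHom.ofInjective f_inj).toEquiv).symm

theorem index_A : A.index = 1140000 := by
  have h := A.index_mul_card
  rw [card_A, order_aux.2.2] at h
  have h2 : A.index * 239500800 = 1140000 * 239500800 := by rw [h]
  exact Nat.eq_of_mul_eq_mul_right (by norm_num) h2

theorem main : ∃ H : Subgroup (Equiv.Perm (Fin 1140000)), Cfsg.IsHN H ∧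
    MulAction.IsPretransitive H (Fin 1140000) ∧
    Nonempty (MulAction.stabilizer H (0 : Fin 1140000) ≃* alternatingGroup (Fin 12)) := by
  obtain ⟨H, ⟨e⟩, ht, ⟨es⟩⟩ := RepLib.exists_perm_realization simple_aux A 1140000 index_A (by norm_num)
  refine ⟨H, ⟨RepLib.simple_of_equiv e simple_aux, ?_⟩, ht, ⟨es.trans equivA⟩⟩
  rw [RepLib.card_of_equiv e]
  exact order_aux.2.2

end Cfsg.Agent.Lib.Helper4.HNA12
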