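import Cfsg.Agent.Lib.Helper4.TCD_HNNR_Acc
import Cfsg.Agent.Lib.Helper4.TCP_C2HS

/-! Words in the presented group `HNN` for the generators of the presentation `C2HS` of the double cover of the
Higman–Sims group, and the checks that the relator words act trivially on the 1408 points (generated). -/

namespace Cfsg.Agent.Lib.Helper4.TCD.HNNC2Q

open Cfsg.Agent.Lib.Helper4.TC Cfsg.Agent.Lib.Helper4.TCD.HNNR

set_option maxRecDepth 100000
set_option Elab.async false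

/-- the words -/
def Wf : ℕ → List ℕ
  | 0 => [2, 0, 3, 0, 3, 3, 0, 3, 3, 3, 1, 2, 2, 1, 2, 1, 3]
  | 1 => [2, 0, 3, 0, 3, 3, 0, 2, 2, 2, 1, 2, 2, 1, 2, 1, 3]
  | 2 => [4, 3, 4, 2, 1, 2, 4, 2, 2, 4, 2, 2, 1]
  | 3 => [0, 3, 3, 5, 3, 3, 5, 3, 0, 3, 5, 2, 5]
  | 4 => [2, 2, 0, 4, 2, 0, 2, 4, 2, 4, 3, 4, 3, 4, 3, 4, 1, 3, 3]
  | 5 => [2, 2, 0, 5, 2, 5, 2, 5, 2, 5, 3, 5, 3, 1, 3, 5, 1, 3, 3]
  | 6 => [0, 0]
  | 7 => [1, 1]
  | _ => []

def rw0 : List Nat := [2, 0, 3, 0, 3, 3, 0, 3, 3, 3, 1, 2, 2, 1, 2, 1, 3, 2, 0, 3, 0, 3, 3, 0, 3, 3, 3, 1, 2, 2, 1, 2, 1, 3]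
noncomputable def actW0 (i : Nat) : Nat := col3 (col1 (col2 (col1 (col2 (col2 (col1 (col2 (col2 (col2 (col0 (col3 (col3 (col0 (col3 (col0 (col2 (col3 (col1 (col2 (col1 (col2 (col2 (col1 (col2 (col2 (col2 (col0 (col3 (col3 (col0 (col3 (col0 (col2 (i))))))))))))))))))))))))))))))))))
theorem actW0_eq (i : Nat) : actW0 i = Tab.act T D rw0 i := rfl
theorem c_w0_0 : allRange (fun i => Nat.beq (actW0 i) i) 0 1408 = true := by decide +kernel
theorem h_w0 : ∀ i, i < T.N → Tab.relActOK T D rw0 i = true := by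
  intro i hi
  rw [Tab.relActOK, ← actW0_eq]
  exact (range_of_allRange c_w0_0) i (Nat.zero_le _) hi
theorem c_lt0 : ∀ x ∈ rw0, x < 6 := by decide

def rw1 : List Nat := [4, 3, 4, 2, 1, 2, 4, 2, 2, 4, 2, 2, 1, 4, 3, 4, 2, 1, 2, 4, 2, 2, 4, 2, 2, 1, 4, 3, 4, 2, 1, 2, 4, 2, 2, 4, 2, 2, 1, 4, 3, 4, 2, 1, 2, 4, 2, 2, 4, 2, 2, 1]
noncomputable def actW1 (i : Nat) : Nat := col5 (col2 (col5 (col3 (col0 (col3 (col5 (col3 (col3 (col5 (col3 (col3 (col0 (col5 (col2 (col5 (col3 (col0 (col3 (col5 (col3 (col3 (col5 (col3 (col3 (col0 (col5 (col2 (col5 (col3 (col0 (col3 (col5 (col3 (col3 (col5 (col3 (col3 (col0 (col5 (col2 (col5 (col3 (col0 (col3 (col5 (col3 (col3 (col5 (col3 (col3 (col0 (i))))))))))))))))))))))))))))))))))))))))))))))))))))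
theorem actW1_eq (i : Nat) : actW1 i = Tab.act T D rw1 i := rfl
theorem c_w1_0 : allRange (fun i => Nat.beq (actW1 i) i) 0 1153 = true := by decide +kernel
theorem c_w1_1 : allRange (fun i => Nat.beq (actW1 i) i) 1153 255 = true := by decide +kernel
theorem h_w1 : ∀ i, i < T.N → Tab.relActOK T D rw1 i = true := by
  intro i hi
  rw [Tab.relActOK, ← actW1_eq]
  exact (range_glue (range_of_allRange c_w1_0) (range_of_allRange c_w1_1)) i (Nat.zero_le _) hi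
theorem c_lt1 : ∀ x ∈ rw1, x < 6 := by decide

def rw2 : List Nat := [2, 0, 3, 0, 3, 3, 0, 3, 3, 3, 1, 2, 2, 1, 2, 1, 3, 4, 3, 4, 2, 1, 2, 4, 2, 2, 4, 2, 2, 1, 2, 0, 3, 0, 3, 3, 0, 3, 3, 3, 1, 2, 2, 1, 2, 1, 3, 4, 3, 4, 2, 1, 2, 4, 2, 2, 4, 2, 2, 1, 2, 0, 3, 0, 3, 3, 0, 3, 3, 3, 1, 2, 2, 1, 2, 1, 3, 4, 3, 4, 2, 1, 2, 4, 2, 2, 4, 2, 2, 1, 2, 0, 3, 0, 3, 3, 0, 3, 3, 3, 1, 2, 2, 1, 2, 1, 3, 4, 3, 4, 2, 1, 2, 4, 2, 2, 4, 2, 2, 1, 2, 0, 3, 0, 3, 3, 0, 3, 3, 3, 1, 2, 2, 1, 2, 1, 3, 4, 3, 4, 2, 1, 2, 4, 2, 2, 4, 2, 2, 1, 2, 0, 3, 0, 3, 3, 0, 3, 3, 3, 1, 2, 2, 1, 2, 1, 3, 4, 3, 4, 2, 1, 2, 4, 2, 2, 4, 2, 2, 1, 2, 0, 3, 0, 3, 3, 0, 3, 3, 3, 1, 2, 2, 1, 2, 1, 3, 4, 3, 4, 2, 1, 2, 4, 2, 2, 4, 2, 2, 1, 2, 0, 3, 0, 3, 3, 0, 3, 3, 3, 1, 2, 2, 1, 2, 1, 3, 4, 3, 4, 2, 1, 2, 4, 2, 2, 4, 2, 2, 1, 2, 0, 3, 0, 3, 3, 0, 3, 3, 3, 1, 2, 2, 1, 2, 1, 3, 4, 3, 4, 2, 1, 2, 4, 2, 2, 4, 2, 2, 1, 2, 0,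 3, 0, 3, 3, 0, 3, 3, 3, 1, 2, 2, 1, 2, 1, 3, 4, 3, 4, 2, 1, 2, 4, 2, 2, 4, 2, 2, 1, 2, 0, 3, 0, 3, 3, 0, 3, 3, 3, 1, 2, 2, 1, 2, 1, 3, 4, 3, 4, 2, 1, 2, 4, 2, 2, 4, 2, 2, 1]
noncomputable def actW2 (i : Nat) : Nat := col3 (col1 (col2 (col1 (col2 (col2 (col1 (col2 (col2 (col2 (col0 (col3 (col3 (col0 (col3 (col0 (col2 (col5 (col2 (col5 (col3 (col0 (col3 (col5 (col3 (col3 (col5 (col3 (col3 (col0 (col3 (col1 (col2 (col1 (col2 (col2 (col1 (col2 (col2 (col2 (col0 (col3 (col3 (col0 (col3 (col0 (col2 (col5 (col2 (col5 (col3 (col0 (col3 (col5 (col3 (col3 (col5 (col3 (col3 (col0 (col3 (col1 (col2 (col1 (col2 (col2 (col1 (col2 (col2 (col2 (col0 (col3 (col3 (col0 (col3 (col0 (col2 (col5 (col2 (col5 (col3 (col0 (col3 (col5 (col3 (col3 (col5 (col3 (col3 (col0 (col3 (col1 (col2 (col1 (col2 (col2 (col1 (col2 (col2 (col2 (col0 (col3 (col3 (col0 (col3 (col0 (col2 (col5 (col2 (col5 (col3 (col0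 (col3 (col5 (col3 (col3 (col5 (col3 (col3 (col0 (col3 (col1 (col2 (col1 (col2 (col2 (col1 (col2 (col2 (col2 (col0 (col3 (col3 (col0 (col3 (col0 (col2 (col5 (col2 (col5 (col3 (col0 (col3 (col5 (col3 (col3 (col5 (col3 (col3 (col0 (col3 (col1 (col2 (col1 (col2 (col2 (col1 (col2 (col2 (col2 (col0 (col3 (col3 (col0 (col3 (col0 (col2 (col5 (col2 (col5 (col3 (col0 (col3 (col5 (col3 (col3 (col5 (col3 (col3 (col0 (col3 (col1 (col2 (col1 (col2 (col2 (col1 (col2 (col2 (col2 (col0 (col3 (col3 (col0 (col3 (col0 (col2 (col5 (col2 (col5 (col3 (col0 (col3 (col5 (col3 (col3 (col5 (col3 (col3 (col0 (col3 (col1 (col2 (col1 (col2 (col2 (col1 (col2 (col2 (col2 (col0 (col3 (col3 (col0 (col3 (col0 (col2 (col5 (col2 (col5 (col3 (col0 (col3 (col5 (col3 (col3 (col5 (col3 (col3 (col0 (col3 (col1 (col2 (col1 (col2 (col2 (col1 (col2 (col2 (col2 (col0 (col3 (col3 (col0 (col3 (col0 (col2 (col5 (col2 (col5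 (col3 (col0 (col3 (col5 (col3 (col3 (col5 (col3 (col3 (col0 (col3 (col1 (col2 (col1 (col2 (col2 (col1 (col2 (col2 (col2 (col0 (col3 (col3 (col0 (col3 (col0 (col2 (col5 (col2 (col5 (col3 (col0 (col3 (col5 (col3 (col3 (col5 (col3 (col3 (col0 (col3 (col1 (col2 (col1 (col2 (col2 (col1 (col2 (col2 (col2 (col0 (col3 (col3 (col0 (col3 (col0 (col2 (col5 (col2 (col5 (col3 (col0 (col3 (col5 (col3 (col3 (col5 (col3 (col3 (col0 (i))))))))))))))))))))))))))))))))))))))))))))))))))))))))))))))))))))))))))))))))))))))))))))))))))))))))))))))))))))))))))))))))))))))))))))))))))))))))))))))))))))))))))))))))))))))))))))))))))))))))))))))))))))))))))))))))))))))))))))))))))))))))))))))))))))))))))))))))))))))))))))))))))))))))))))))))))))))))))))))))))))))))))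
theorem actW2_eq (i : Nat) : actW2 i = Tab.act T D rw2 i := rfl
theorem c_w2_0 : allRange (fun i => Nat.beq (actW2 i) i) 0 181 = true := by decide +kernel
theorem c_w2_1 : allRange (fun i => Nat.beq (actW2 i) i) 181 181 = true := by decide +kernel
theorem c_w2_2 : allRange (fun i => Nat.beq (actW2 i) i) 362 181 = true := by decide +kernel
theorem c_w2_3 : allRange (fun i => Nat.beq (actW2 i) i) 543 181 = true := by decide +kernel
theorem c_w2_4 : allRange (fun i => Nat.beq (actW2 i) i) 724 181 = true := by decide +kernel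
theorem c_w2_5 : allRange (fun i => Nat.beq (actW2 i) i) 905 181 = true := by decide +kernel
theorem c_w2_6 : allRange (fun i => Nat.beq (actW2 i) i) 1086 181 = true := by decide +kernel
theorem c_w2_7 : allRange (fun i => Nat.beq (actW2 i) i) 1267 141 = true := by decide +kernel
theorem h_w2 : ∀ i, i < T.N → Tab.relActOK T D rw2 i = true := by
  intro i hi
  rw [Tab.relActOK, ← actW2_eq]
  exact (range_glue (range_of_allRange c_w2_0) (range_glue (range_of_allRange c_w2_1) (range_glue (range_of_allRange c_w2_2) (range_glue (range_of_allRange c_w2_3) (range_glue (range_of_allRange c_w2_4) (range_glue (range_of_allRange c_w2_5) (range_glue (range_of_allRange c_w2_6) (range_of_allRange c_w2_7)))))))) i (Nat.zero_le _) hi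
theorem c_lt2 : ∀ x ∈ rw2, x < 6 := by decide

def rw3 : List Nat := [2, 0, 3, 0, 3, 3, 0, 3, 3, 3, 1, 2, 2, 1, 2, 1, 3, 4, 3, 4, 2, 1, 2, 4, 2, 2, 4, 2, 2, 1, 4, 3, 4, 2, 1, 2, 4, 2, 2, 4, 2, 2, 1, 2, 0, 3, 0, 3, 3, 0, 3, 3, 3, 1, 2, 2, 1, 2, 1, 3, 4, 3, 4, 2, 1, 2, 4, 2, 2, 4, 2, 2, 1, 4, 3, 4, 2, 1, 2, 4, 2, 2, 4, 2, 2, 1, 2, 0, 3, 0, 3, 3, 0, 3, 3, 3, 1, 2, 2, 1, 2, 1, 3, 4, 3, 4, 2, 1, 2, 4, 2, 2, 4, 2, 2, 1, 4, 3, 4, 2, 1, 2, 4, 2, 2, 4, 2, 2, 1, 2, 0, 3, 0, 3, 3, 0, 3, 3, 3, 1, 2, 2, 1, 2, 1, 3, 4, 3, 4, 2, 1, 2, 4, 2, 2, 4, 2, 2, 1, 4, 3, 4, 2, 1, 2, 4, 2, 2, 4, 2, 2, 1, 2, 0, 3, 0, 3, 3, 0, 3, 3, 3, 1, 2, 2, 1, 2, 1, 3, 4, 3, 4, 2, 1, 2, 4, 2, 2, 4, 2, 2, 1, 4, 3, 4, 2, 1, 2, 4, 2, 2, 4, 2, 2, 1, 2, 0, 3, 0, 3, 3, 0, 3, 3, 3, 1, 2, 2, 1, 2, 1, 3, 4, 3, 4, 2, 1, 2, 4, 2, 2, 4, 2, 2, 1, 4, 3, 4, 2, 1, 2, 4, 2, 2, 4, 2, 2, 1]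
noncomputable def actW3 (i : Nat) : Nat := col3 (col1 (col2 (col1 (col2 (col2 (col1 (col2 (col2 (col2 (col0 (col3 (col3 (col0 (col3 (col0 (col2 (col5 (col2 (col5 (col3 (col0 (col3 (col5 (col3 (col3 (col5 (col3 (col3 (col0 (col5 (col2 (col5 (col3 (col0 (col3 (col5 (col3 (col3 (col5 (col3 (col3 (col0 (col3 (col1 (col2 (col1 (col2 (col2 (col1 (col2 (col2 (col2 (col0 (col3 (col3 (col0 (col3 (col0 (col2 (col5 (col2 (col5 (col3 (col0 (col3 (col5 (col3 (col3 (col5 (col3 (col3 (col0 (col5 (col2 (col5 (col3 (col0 (col3 (col5 (col3 (col3 (col5 (col3 (col3 (col0 (col3 (col1 (col2 (col1 (col2 (col2 (col1 (col2 (col2 (col2 (col0 (col3 (col3 (col0 (col3 (col0 (col2 (col5 (col2 (col5 (col3 (col0 (col3 (col5 (col3 (col3 (col5 (col3 (col3 (col0 (col5 (col2 (col5 (col3 (col0 (col3 (col5 (col3 (col3 (col5 (col3 (col3 (col0 (col3 (col1 (col2 (col1 (col2 (col2 (col1 (col2 (col2 (col2 (col0 (col3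 (col3 (col0 (col3 (col0 (col2 (col5 (col2 (col5 (col3 (col0 (col3 (col5 (col3 (col3 (col5 (col3 (col3 (col0 (col5 (col2 (col5 (col3 (col0 (col3 (col5 (col3 (col3 (col5 (col3 (col3 (col0 (col3 (col1 (col2 (col1 (col2 (col2 (col1 (col2 (col2 (col2 (col0 (col3 (col3 (col0 (col3 (col0 (col2 (col5 (col2 (col5 (col3 (col0 (col3 (col5 (col3 (col3 (col5 (col3 (col3 (col0 (col5 (col2 (col5 (col3 (col0 (col3 (col5 (col3 (col3 (col5 (col3 (col3 (col0 (col3 (col1 (col2 (col1 (col2 (col2 (col1 (col2 (col2 (col2 (col0 (col3 (col3 (col0 (col3 (col0 (col2 (col5 (col2 (col5 (col3 (col0 (col3 (col5 (col3 (col3 (col5 (col3 (col3 (col0 (col5 (col2 (col5 (col3 (col0 (col3 (col5 (col3 (col3 (col5 (col3 (col3 (col0 (i))))))))))))))))))))))))))))))))))))))))))))))))))))))))))))))))))))))))))))))))))))))))))))))))))))))))))))))))))))))))))))))))))))))))))))))))))))))))))))))))))))))))))))))))))))))))))))))))))))))))))))))))))))))))))))))))))))))))))))))))))))))))))))))))))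
theorem actW3_eq (i : Nat) : actW3 i = Tab.act T D rw3 i := rfl
theorem c_w3_0 : allRange (fun i => Nat.beq (actW3 i) i) 0 232 = true := by decide +kernel
theorem c_w3_1 : allRange (fun i => Nat.beq (actW3 i) i) 232 232 = true := by decide +kernel
theorem c_w3_2 : allRange (fun i => Nat.beq (actW3 i) i) 464 232 = true := by decide +kernel
theorem c_w3_3 : allRange (fun i => Nat.beq (actW3 i) i) 696 232 = true := by decide +kernel
theorem c_w3_4 : allRange (fun i => Nat.beq (actW3 i) i) 928 232 = true := by decide +kernel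
theorem c_w3_5 : allRange (fun i => Nat.beq (actW3 i) i) 1160 232 = true := by decide +kernel
theorem c_w3_6 : allRange (fun i => Nat.beq (actW3 i) i) 1392 16 = true := by decide +kernel
theorem h_w3 : ∀ i, i < T.N → Tab.relActOK T D rw3 i = true := by
  intro i hi
  rw [Tab.relActOK, ← actW3_eq]
  exact (range_glue (range_of_allRange c_w3_0) (range_glue (range_of_allRange c_w3_1) (range_glue (range_of_allRange c_w3_2) (range_glue (range_of_allRange c_w3_3) (range_glue (range_of_allRange c_w3_4) (range_glue (range_of_allRange c_w3_5) (range_of_allRange c_w3_6))))))) i (Nat.zero_le _) hi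
theorem c_lt3 : ∀ x ∈ rw3, x < 6 := by decide

def rw4 : List Nat := [2, 0, 3, 0, 3, 3, 0, 3, 3, 3, 1, 2, 2, 1, 2, 1, 3, 4, 3, 4, 2, 1, 2, 4, 2, 2, 4, 2, 2, 1, 2, 0, 3, 0, 3, 3, 0, 3, 3, 3, 1, 2, 2, 1, 2, 1, 3, 4, 3, 4, 2, 1, 2, 4, 2, 2, 4, 2, 2, 1, 2, 0, 3, 0, 3, 3, 0, 3, 3, 3, 1, 2, 2, 1, 2, 1, 3, 0, 3, 3, 5, 3, 3, 5, 3, 0, 3, 5, 2, 5, 2, 0, 3, 0, 3, 3, 0, 3, 3, 3, 1, 2, 2, 1, 2, 1, 3, 4, 3, 4, 2, 1, 2, 4, 2, 2, 4, 2, 2, 1, 2, 0, 3, 0, 3, 3, 0, 3, 3, 3, 1, 2, 2, 1, 2, 1, 3, 4, 3, 4, 2, 1, 2, 4, 2, 2, 4, 2, 2, 1, 4, 3, 4, 2, 1, 2, 4, 2, 2, 4, 2, 2, 1, 2, 0, 3, 0, 3, 3, 0, 3, 3, 3, 1, 2, 2, 1, 2, 1, 3, 0, 3, 3, 5, 3, 3, 5, 3, 0, 3, 5, 2, 5, 2, 0, 3, 0, 3, 3, 0, 3, 3, 3, 1, 2, 2, 1, 2, 1, 3, 4, 3, 4, 2, 1, 2, 4, 2, 2, 4, 2, 2, 1, 2, 0, 3, 0, 3, 3, 0, 3, 3, 3, 1, 2, 2, 1, 2, 1, 3, 0, 3, 3, 5, 3, 3, 5, 3, 0, 3, 5, 2, 5, 2, 0, 3, 0, 3, 3, 0, 3, 3, 3, 1, 2, 2, 1, 2, 1, 3, 0, 3,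 3, 5, 3, 3, 5, 3, 0, 3, 5, 2, 5]
noncomputable def actW4 (i : Nat) : Nat := col3 (col1 (col2 (col1 (col2 (col2 (col1 (col2 (col2 (col2 (col0 (col3 (col3 (col0 (col3 (col0 (col2 (col5 (col2 (col5 (col3 (col0 (col3 (col5 (col3 (col3 (col5 (col3 (col3 (col0 (col3 (col1 (col2 (col1 (col2 (col2 (col1 (col2 (col2 (col2 (col0 (col3 (col3 (col0 (col3 (col0 (col2 (col5 (col2 (col5 (col3 (col0 (col3 (col5 (col3 (col3 (col5 (col3 (col3 (col0 (col3 (col1 (col2 (col1 (col2 (col2 (col1 (col2 (col2 (col2 (col0 (col3 (col3 (col0 (col3 (col0 (col2 (col1 (col2 (col2 (col4 (col2 (col2 (col4 (col2 (col1 (col2 (col4 (col3 (col4 (col3 (col1 (col2 (col1 (col2 (col2 (col1 (col2 (col2 (col2 (col0 (col3 (col3 (col0 (col3 (col0 (col2 (col5 (col2 (col5 (col3 (col0 (col3 (col5 (col3 (col3 (col5 (col3 (col3 (col0 (col3 (col1 (col2 (col1 (col2 (col2 (col1 (col2 (col2 (col2 (col0 (col3 (col3 (col0 (col3 (col0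 (col2 (col5 (col2 (col5 (col3 (col0 (col3 (col5 (col3 (col3 (col5 (col3 (col3 (col0 (col5 (col2 (col5 (col3 (col0 (col3 (col5 (col3 (col3 (col5 (col3 (col3 (col0 (col3 (col1 (col2 (col1 (col2 (col2 (col1 (col2 (col2 (col2 (col0 (col3 (col3 (col0 (col3 (col0 (col2 (col1 (col2 (col2 (col4 (col2 (col2 (col4 (col2 (col1 (col2 (col4 (col3 (col4 (col3 (col1 (col2 (col1 (col2 (col2 (col1 (col2 (col2 (col2 (col0 (col3 (col3 (col0 (col3 (col0 (col2 (col5 (col2 (col5 (col3 (col0 (col3 (col5 (col3 (col3 (col5 (col3 (col3 (col0 (col3 (col1 (col2 (col1 (col2 (col2 (col1 (col2 (col2 (col2 (col0 (col3 (col3 (col0 (col3 (col0 (col2 (col1 (col2 (col2 (col4 (col2 (col2 (col4 (col2 (col1 (col2 (col4 (col3 (col4 (col3 (col1 (col2 (col1 (col2 (col2 (col1 (col2 (col2 (col2 (col0 (col3 (col3 (col0 (col3 (col0 (col2 (col1 (col2 (col2 (col4 (col2 (col2 (col4 (col2 (col1 (col2 (col4 (col3 (col4 (i)))))))))))))))))))))))))))))))))))))))))))))))))))))))))))))))))))))))))))))))))))))))))))))))))))))))))))))))))))))))))))))))))))))))))))))))))))))))))))))))))))))))))))))))))))))))))))))))))))))))))))))))))))))))))))))))))))))))))))))))))))))))))))))))))))))))))))))))))))))))))))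
theorem actW4_eq (i : Nat) : actW4 i = Tab.act T D rw4 i := rfl
theorem c_w4_0 : allRange (fun i => Nat.beq (actW4 i) i) 0 212 = true := by decide +kernel
theorem c_w4_1 : allRange (fun i => Nat.beq (actW4 i) i) 212 212 = true := by decide +kernel
theorem c_w4_2 : allRange (fun i => Nat.beq (actW4 i) i) 424 212 = true := by decide +kernel
theorem c_w4_3 : allRange (fun i => Nat.beq (actW4 i) i) 636 212 = true := by decide +kernel
theorem c_w4_4 : allRange (fun i => Nat.beq (actW4 i) i) 848 212 = true := by decide +kernel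
theorem c_w4_5 : allRange (fun i => Nat.beq (actW4 i) i) 1060 212 = true := by decide +kernel
theorem c_w4_6 : allRange (fun i => Nat.beq (actW4 i) i) 1272 136 = true := by decide +kernel
theorem h_w4 : ∀ i, i < T.N → Tab.relActOK T D rw4 i = true := by
  intro i hi
  rw [Tab.relActOK, ← actW4_eq]
  exact (range_glue (range_of_allRange c_w4_0) (range_glue (range_of_allRange c_w4_1) (range_glue (range_of_allRange c_w4_2) (range_glue (range_of_allRange c_w4_3) (range_glue (range_of_allRange c_w4_4) (range_glue (range_of_allRange c_w4_5) (range_of_allRange c_w4_6))))))) i (Nat.zero_le _) hi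
theorem c_lt4 : ∀ x ∈ rw4, x < 6 := by decide

def rw5 : List Nat := [2, 2, 0, 4, 2, 0, 2, 4, 2, 4, 3, 4, 3, 4, 3, 4, 1, 3, 3, 2, 2, 0, 4, 2, 0, 2, 4, 2, 4, 3, 4, 3, 4, 3, 4, 1, 3, 3]
noncomputable def actW5 (i : Nat) : Nat := col3 (col3 (col1 (col5 (col3 (col1 (col3 (col5 (col3 (col5 (col2 (col5 (col2 (col5 (col2 (col5 (col0 (col2 (col2 (col3 (col3 (col1 (col5 (col3 (col1 (col3 (col5 (col3 (col5 (col2 (col5 (col2 (col5 (col2 (col5 (col0 (col2 (col2 (i))))))))))))))))))))))))))))))))))))))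
theorem actW5_eq (i : Nat) : actW5 i = Tab.act T D rw5 i := rfl
theorem c_w5_0 : allRange (fun i => Nat.beq (actW5 i) i) 0 1408 = true := by decide +kernel
theorem h_w5 : ∀ i, i < T.N → Tab.relActOK T D rw5 i = true := by
  intro i hi
  rw [Tab.relActOK, ← actW5_eq]
  exact (range_of_allRange c_w5_0) i (Nat.zero_le _) hi
theorem c_lt5 : ∀ x ∈ rw5, x < 6 := by decide

def rw6 : List Nat := [2, 0, 3, 0, 3, 3, 0, 3, 3, 3, 1, 2, 2, 1, 2, 1, 3, 4, 3, 4, 2, 1, 2, 4, 2, 2, 4, 2, 2, 1, 2, 2, 0, 4, 2, 0, 2, 4, 2, 4, 3, 4, 3, 4, 3, 4, 1, 3, 3, 0, 3, 3, 5, 3, 3, 5, 3, 0, 3, 5, 2, 5, 2, 0, 3, 0, 3, 3, 0, 3, 3, 3, 1, 2, 2, 1, 2, 1, 3, 4, 3, 4, 2, 1, 2, 4, 2, 2, 4, 2, 2, 1, 2, 2, 0, 4, 2, 0, 2, 4, 2, 4, 3, 4, 3, 4, 3, 4, 1, 3, 3, 0, 3, 3, 5, 3, 3, 5, 3, 0, 3, 5, 2, 5]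
noncomputable def actW6 (i : Nat) : Nat := col3 (col1 (col2 (col1 (col2 (col2 (col1 (col2 (col2 (col2 (col0 (col3 (col3 (col0 (col3 (col0 (col2 (col5 (col2 (col5 (col3 (col0 (col3 (col5 (col3 (col3 (col5 (col3 (col3 (col0 (col3 (col3 (col1 (col5 (col3 (col1 (col3 (col5 (col3 (col5 (col2 (col5 (col2 (col5 (col2 (col5 (col0 (col2 (col2 (col1 (col2 (col2 (col4 (col2 (col2 (col4 (col2 (col1 (col2 (col4 (col3 (col4 (col3 (col1 (col2 (col1 (col2 (col2 (col1 (col2 (col2 (col2 (col0 (col3 (col3 (col0 (col3 (col0 (col2 (col5 (col2 (col5 (col3 (col0 (col3 (col5 (col3 (col3 (col5 (col3 (col3 (col0 (col3 (col3 (col1 (col5 (col3 (col1 (col3 (col5 (col3 (col5 (col2 (col5 (col2 (col5 (col2 (col5 (col0 (col2 (col2 (col1 (col2 (col2 (col4 (col2 (col2 (col4 (col2 (col1 (col2 (col4 (col3 (col4 (i))))))))))))))))))))))))))))))))))))))))))))))))))))))))))))))))))))))))))))))))))))))))))))))))))))))))))))))))))))))))))))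
theorem actW6_eq (i : Nat) : actW6 i = Tab.act T D rw6 i := rfl
theorem c_w6_0 : allRange (fun i => Nat.beq (actW6 i) i) 0 483 = true := by decide +kernel
theorem c_w6_1 : allRange (fun i => Nat.beq (actW6 i) i) 483 483 = true := by decide +kernel
theorem c_w6_2 : allRange (fun i => Nat.beq (actW6 i) i) 966 442 = true := by decide +kernel
theorem h_w6 : ∀ i, i < T.N → Tab.relActOK T D rw6 i = true := by
  intro i hi
  rw [Tab.relActOK, ← actW6_eq]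
  exact (range_glue (range_of_allRange c_w6_0) (range_glue (range_of_allRange c_w6_1) (range_of_allRange c_w6_2))) i (Nat.zero_le _) hi
theorem c_lt6 : ∀ x ∈ rw6, x < 6 := by decide

def rw7 : List Nat := [4, 3, 4, 2, 1, 2, 4, 2, 2, 4, 2, 2, 1, 4, 3, 4, 2, 1, 2, 4, 2, 2, 4, 2, 2, 1, 2, 2, 0, 4, 2, 0, 2, 4, 2, 4, 3, 4, 3, 4, 3, 4, 1, 3, 3, 4, 3, 4, 2, 1, 2, 4, 2, 2, 4, 2, 2, 1, 4, 3, 4, 2, 1, 2, 4, 2, 2, 4, 2, 2, 1, 2, 2, 0, 4, 2, 0, 2, 4, 2, 4, 3, 4, 3, 4, 3, 4, 1, 3, 3, 0, 3, 3, 5, 3, 3, 5, 3, 0, 3, 5, 2, 5, 0, 3, 3, 5, 3, 3, 5, 3, 0, 3, 5, 2, 5, 2, 2, 0, 4, 2, 0, 2, 4, 2, 4, 3, 4, 3, 4, 3, 4, 1, 3, 3]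
noncomputable def actW7 (i : Nat) : Nat := col5 (col2 (col5 (col3 (col0 (col3 (col5 (col3 (col3 (col5 (col3 (col3 (col0 (col5 (col2 (col5 (col3 (col0 (col3 (col5 (col3 (col3 (col5 (col3 (col3 (col0 (col3 (col3 (col1 (col5 (col3 (col1 (col3 (col5 (col3 (col5 (col2 (col5 (col2 (col5 (col2 (col5 (col0 (col2 (col2 (col5 (col2 (col5 (col3 (col0 (col3 (col5 (col3 (col3 (col5 (col3 (col3 (col0 (col5 (col2 (col5 (col3 (col0 (col3 (col5 (col3 (col3 (col5 (col3 (col3 (col0 (col3 (col3 (col1 (col5 (col3 (col1 (col3 (col5 (col3 (col5 (col2 (col5 (col2 (col5 (col2 (col5 (col0 (col2 (col2 (col1 (col2 (col2 (col4 (col2 (col2 (col4 (col2 (col1 (col2 (col4 (col3 (col4 (col1 (col2 (col2 (col4 (col2 (col2 (col4 (col2 (col1 (col2 (col4 (col3 (col4 (col3 (col3 (col1 (col5 (col3 (col1 (col3 (col5 (col3 (col5 (col2 (col5 (col2 (col5 (col2 (col5 (col0 (col2 (col2 (i)))))))))))))))))))))))))))))))))))))))))))))))))))))))))))))))))))))))))))))))))))))))))))))))))))))))))))))))))))))))))))))))))))))))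
theorem actW7_eq (i : Nat) : actW7 i = Tab.act T D rw7 i := rfl
theorem c_w7_0 : allRange (fun i => Nat.beq (actW7 i) i) 0 444 = true := by decide +kernel
theorem c_w7_1 : allRange (fun i => Nat.beq (actW7 i) i) 444 444 = true := by decide +kernel
theorem c_w7_2 : allRange (fun i => Nat.beq (actW7 i) i) 888 444 = true := by decide +kernel
theorem c_w7_3 : allRange (fun i => Nat.beq (actW7 i) i) 1332 76 = true := by decide +kernel
theorem h_w7 : ∀ i, i < T.N → Tab.relActOK T D rw7 i = true := by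
  intro i hi
  rw [Tab.relActOK, ← actW7_eq]
  exact (range_glue (range_of_allRange c_w7_0) (range_glue (range_of_allRange c_w7_1) (range_glue (range_of_allRange c_w7_2) (range_of_allRange c_w7_3)))) i (Nat.zero_le _) hi
theorem c_lt7 : ∀ x ∈ rw7, x < 6 := by decide

def rw8 : List Nat := [2, 0, 3, 0, 3, 3, 0, 3, 3, 3, 1, 2, 2, 1, 2, 1, 3, 2, 2, 0, 4, 2, 0, 2, 4, 2, 4, 3, 4, 3, 4, 3, 4, 1, 3, 3, 2, 0, 3, 0, 3, 3, 0, 3, 3, 3, 1, 2, 2, 1, 2, 1, 3, 2, 2, 0, 4, 2, 0, 2, 4, 2, 4, 3, 4, 3, 4, 3, 4, 1, 3, 3, 2, 0, 3, 0, 3, 3, 0, 3, 3, 3, 1, 2, 2, 1, 2, 1, 3, 2, 2, 0, 4, 2, 0, 2, 4, 2, 4, 3, 4, 3, 4, 3, 4, 1, 3, 3, 2, 0, 3, 0, 3, 3, 0, 3, 3, 3, 1, 2, 2, 1, 2, 1, 3, 2, 2, 0, 4, 2, 0, 2, 4, 2, 4, 3, 4, 3, 4, 3, 4, 1, 3, 3, 2, 0, 3, 0, 3, 3, 0, 3, 3, 3, 1, 2, 2, 1, 2, 1, 3, 2, 2, 0, 4, 2, 0, 2, 4, 2, 4, 3, 4, 3, 4, 3, 4, 1, 3, 3]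
noncomputable def actW8 (i : Nat) : Nat := col3 (col1 (col2 (col1 (col2 (col2 (col1 (col2 (col2 (col2 (col0 (col3 (col3 (col0 (col3 (col0 (col2 (col3 (col3 (col1 (col5 (col3 (col1 (col3 (col5 (col3 (col5 (col2 (col5 (col2 (col5 (col2 (col5 (col0 (col2 (col2 (col3 (col1 (col2 (col1 (col2 (col2 (col1 (col2 (col2 (col2 (col0 (col3 (col3 (col0 (col3 (col0 (col2 (col3 (col3 (col1 (col5 (col3 (col1 (col3 (col5 (col3 (col5 (col2 (col5 (col2 (col5 (col2 (col5 (col0 (col2 (col2 (col3 (col1 (col2 (col1 (col2 (col2 (col1 (col2 (col2 (col2 (col0 (col3 (col3 (col0 (col3 (col0 (col2 (col3 (col3 (col1 (col5 (col3 (col1 (col3 (col5 (col3 (col5 (col2 (col5 (col2 (col5 (col2 (col5 (col0 (col2 (col2 (col3 (col1 (col2 (col1 (col2 (col2 (col1 (col2 (col2 (col2 (col0 (col3 (col3 (col0 (col3 (col0 (col2 (col3 (col3 (col1 (col5 (col3 (col1 (col3 (col5 (col3 (col5 (col2 (col5 (col2 (col5 (col2 (col5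 (col0 (col2 (col2 (col3 (col1 (col2 (col1 (col2 (col2 (col1 (col2 (col2 (col2 (col0 (col3 (col3 (col0 (col3 (col0 (col2 (col3 (col3 (col1 (col5 (col3 (col1 (col3 (col5 (col3 (col5 (col2 (col5 (col2 (col5 (col2 (col5 (col0 (col2 (col2 (i))))))))))))))))))))))))))))))))))))))))))))))))))))))))))))))))))))))))))))))))))))))))))))))))))))))))))))))))))))))))))))))))))))))))))))))))))))))))))))))))))))))))))))))))))))
theorem actW8_eq (i : Nat) : actW8 i = Tab.act T D rw8 i := rfl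
theorem c_w8_0 : allRange (fun i => Nat.beq (actW8 i) i) 0 333 = true := by decide +kernel
theorem c_w8_1 : allRange (fun i => Nat.beq (actW8 i) i) 333 333 = true := by decide +kernel
theorem c_w8_2 : allRange (fun i => Nat.beq (actW8 i) i) 666 333 = true := by decide +kernel
theorem c_w8_3 : allRange (fun i => Nat.beq (actW8 i) i) 999 333 = true := by decide +kernel
theorem c_w8_4 : allRange (fun i => Nat.beq (actW8 i) i) 1332 76 = true := by decide +kernel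
theorem h_w8 : ∀ i, i < T.N → Tab.relActOK T D rw8 i = true := by
  intro i hi
  rw [Tab.relActOK, ← actW8_eq]
  exact (range_glue (range_of_allRange c_w8_0) (range_glue (range_of_allRange c_w8_1) (range_glue (range_of_allRange c_w8_2) (range_glue (range_of_allRange c_w8_3) (range_of_allRange c_w8_4))))) i (Nat.zero_le _) hi
theorem c_lt8 : ∀ x ∈ rw8, x < 6 := by decide

def rw9 : List Nat := [2, 0, 3, 0, 3, 3, 0, 3, 3, 3, 1, 2, 2, 1, 2, 1, 3, 4, 3, 4, 2, 1, 2, 4, 2, 2, 4, 2, 2, 1, 2, 0, 3, 0, 3, 3, 0, 3, 3, 3, 1, 2, 2, 1, 2, 1, 3, 0, 3, 3, 5, 3, 3, 5, 3, 0, 3, 5, 2, 5, 2, 2, 0, 4, 2, 0, 2, 4, 2, 4, 3, 4, 3, 4, 3, 4, 1, 3, 3, 4, 3, 4, 2, 1, 2, 4, 2, 2, 4, 2, 2, 1, 2, 0, 3, 0, 3, 3, 0, 3, 3, 3, 1, 2, 2, 1, 2, 1, 3, 4, 3, 4, 2, 1, 2, 4, 2, 2, 4, 2, 2, 1, 2, 0, 3, 0, 3, 3, 0, 3, 3, 3, 1, 2, 2, 1, 2, 1, 3, 0, 3, 3, 5, 3, 3, 5, 3, 0, 3, 5, 2, 5, 2, 2, 0, 4, 2, 0, 2, 4, 2, 4, 3,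 4, 3, 4, 3, 4, 1, 3, 3, 4, 3, 4, 2, 1, 2, 4, 2, 2, 4, 2, 2, 1, 0, 0]
noncomputable def actW9 (i : Nat) : Nat := col3 (col1 (col2 (col1 (col2 (col2 (col1 (col2 (col2 (col2 (col0 (col3 (col3 (col0 (col3 (col0 (col2 (col5 (col2 (col5 (col3 (col0 (col3 (col5 (col3 (col3 (col5 (col3 (col3 (col0 (col3 (col1 (col2 (col1 (col2 (col2 (col1 (col2 (col2 (col2 (col0 (col3 (col3 (col0 (col3 (col0 (col2 (col1 (col2 (col2 (col4 (col2 (col2 (col4 (col2 (col1 (col2 (col4 (col3 (col4 (col3 (col3 (col1 (col5 (col3 (col1 (col3 (col5 (col3 (col5 (col2 (col5 (col2 (col5 (col2 (col5 (col0 (col2 (col2 (col5 (col2 (col5 (col3 (col0 (col3 (col5 (col3 (col3 (col5 (col3 (col3 (col0 (col3 (col1 (col2 (col1 (col2 (col2 (col1 (col2 (col2 (col2 (col0 (col3 (col3 (col0 (col3 (col0 (col2 (col5 (col2 (col5 (col3 (col0 (col3 (col5 (col3 (col3 (col5 (col3 (col3 (col0 (col3 (col1 (col2 (col1 (col2 (col2 (col1 (col2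 (col2 (col2 (col0 (col3 (col3 (col0 (col3 (col0 (col2 (col1 (col2 (col2 (col4 (col2 (col2 (col4 (col2 (col1 (col2 (col4 (col3 (col4 (col3 (col3 (col1 (col5 (col3 (col1 (col3 (col5 (col3 (col5 (col2 (col5 (col2 (col5 (col2 (col5 (col0 (col2 (col2 (col5 (col2 (col5 (col3 (col0 (col3 (col5 (col3 (col3 (col5 (col3 (col3 (col0 (col1 (col1 (i))))))))))))))))))))))))))))))))))))))))))))))))))))))))))))))))))))))))))))))))))))))))))))))))))))))))))))))))))))))))))))))))))))))))))))))))))))))))))))))))))))))))))))))))))))))))))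
theorem actW9_eq (i : Nat) : actW9 i = Tab.act T D rw9 i := rfl
theorem c_w9_0 : allRange (fun i => Nat.beq (actW9 i) i) 0 322 = true := by decide +kernel
theorem c_w9_1 : allRange (fun i => Nat.beq (actW9 i) i) 322 322 = true := by decide +kernel
theorem c_w9_2 : allRange (fun i => Nat.beq (actW9 i) i) 644 322 = true := by decide +kernel
theorem c_w9_3 : allRange (fun i => Nat.beq (actW9 i) i) 966 322 = true := by decide +kernel
theorem c_w9_4 : allRange (fun i => Nat.beq (actW9 i) i) 1288 120 = true := by decide +kernel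
theorem h_w9 : ∀ i, i < T.N → Tab.relActOK T D rw9 i = true := by
  intro i hi
  rw [Tab.relActOK, ← actW9_eq]
  exact (range_glue (range_of_allRange c_w9_0) (range_glue (range_of_allRange c_w9_1) (range_glue (range_of_allRange c_w9_2) (range_glue (range_of_allRange c_w9_3) (range_of_allRange c_w9_4))))) i (Nat.zero_le _) hi
theorem c_lt9 : ∀ x ∈ rw9, x < 6 := by decide

def rw10 : List Nat := [4, 3, 4, 2, 1, 2, 4, 2, 2, 4, 2, 2, 1, 2, 2, 0, 4, 2, 0, 2, 4, 2, 4, 3, 4, 3, 4, 3, 4, 1, 3, 3, 4, 3, 4, 2, 1, 2, 4, 2, 2, 4, 2, 2, 1, 2, 2, 0, 4, 2, 0, 2, 4, 2, 4, 3, 4, 3, 4, 3, 4, 1, 3, 3, 4, 3, 4, 2, 1, 2, 4, 2, 2, 4, 2, 2, 1, 2, 2, 0, 4, 2, 0, 2, 4, 2, 4, 3, 4, 3, 4, 3, 4, 1, 3, 3, 4, 3, 4, 2, 1, 2, 4, 2, 2, 4, 2, 2, 1, 2, 2, 0, 4, 2, 0, 2, 4, 2, 4, 3, 4, 3, 4, 3, 4, 1, 3, 3, 4, 3, 4, 2, 1, 2, 4, 2, 2, 4, 2, 2, 1, 2, 2, 0, 4, 2, 0, 2, 4, 2, 4, 3, 4, 3, 4, 3, 4, 1, 3, 3, 4, 3, 4,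 2, 1, 2, 4, 2, 2, 4, 2, 2, 1, 2, 2, 0, 4, 2, 0, 2, 4, 2, 4, 3, 4, 3, 4, 3, 4, 1, 3, 3]
noncomputable def actW10 (i : Nat) : Nat := col5 (col2 (col5 (col3 (col0 (col3 (col5 (col3 (col3 (col5 (col3 (col3 (col0 (col3 (col3 (col1 (col5 (col3 (col1 (col3 (col5 (col3 (col5 (col2 (col5 (col2 (col5 (col2 (col5 (col0 (col2 (col2 (col5 (col2 (col5 (col3 (col0 (col3 (col5 (col3 (col3 (col5 (col3 (col3 (col0 (col3 (col3 (col1 (col5 (col3 (col1 (col3 (col5 (col3 (col5 (col2 (col5 (col2 (col5 (col2 (col5 (col0 (col2 (col2 (col5 (col2 (col5 (col3 (col0 (col3 (col5 (col3 (col3 (col5 (col3 (col3 (col0 (col3 (col3 (col1 (col5 (col3 (col1 (col3 (col5 (col3 (col5 (col2 (col5 (col2 (col5 (col2 (col5 (col0 (col2 (col2 (col5 (col2 (col5 (col3 (col0 (col3 (col5 (col3 (col3 (col5 (col3 (col3 (col0 (col3 (col3 (col1 (col5 (col3 (col1 (col3 (col5 (col3 (col5 (col2 (col5 (col2 (col5 (col2 (col5 (col0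 (col2 (col2 (col5 (col2 (col5 (col3 (col0 (col3 (col5 (col3 (col3 (col5 (col3 (col3 (col0 (col3 (col3 (col1 (col5 (col3 (col1 (col3 (col5 (col3 (col5 (col2 (col5 (col2 (col5 (col2 (col5 (col0 (col2 (col2 (col5 (col2 (col5 (col3 (col0 (col3 (col5 (col3 (col3 (col5 (col3 (col3 (col0 (col3 (col3 (col1 (col5 (col3 (col1 (col3 (col5 (col3 (col5 (col2 (col5 (col2 (col5 (col2 (col5 (col0 (col2 (col2 (i))))))))))))))))))))))))))))))))))))))))))))))))))))))))))))))))))))))))))))))))))))))))))))))))))))))))))))))))))))))))))))))))))))))))))))))))))))))))))))))))))))))))))))))))))))))))))))))))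
theorem actW10_eq (i : Nat) : actW10 i = Tab.act T D rw10 i := rfl
theorem c_w10_0 : allRange (fun i => Nat.beq (actW10 i) i) 0 312 = true := by decide +kernel
theorem c_w10_1 : allRange (fun i => Nat.beq (actW10 i) i) 312 312 = true := by decide +kernel
theorem c_w10_2 : allRange (fun i => Nat.beq (actW10 i) i) 624 312 = true := by decide +kernel
theorem c_w10_3 : allRange (fun i => Nat.beq (actW10 i) i) 936 312 = true := by decide +kernel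
theorem c_w10_4 : allRange (fun i => Nat.beq (actW10 i) i) 1248 160 = true := by decide +kernel
theorem h_w10 : ∀ i, i < T.N → Tab.relActOK T D rw10 i = true := by
  intro i hi
  rw [Tab.relActOK, ← actW10_eq]
  exact (range_glue (range_of_allRange c_w10_0) (range_glue (range_of_allRange c_w10_1) (range_glue (range_of_allRange c_w10_2) (range_glue (range_of_allRange c_w10_3) (range_of_allRange c_w10_4))))) i (Nat.zero_le _) hi
theorem c_lt10 : ∀ x ∈ rw10, x < 6 := by decide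

def rw11 : List Nat := [2, 0, 3, 0, 3, 3, 0, 3, 3, 3, 1, 2, 2, 1, 2, 1, 3, 2, 2, 0, 4, 2, 0, 2, 4, 2, 4, 3, 4, 3, 4, 3, 4, 1, 3, 3, 0, 3, 3, 5, 3, 3, 5, 3, 0, 3, 5, 2, 5, 2, 2, 0, 4, 2, 0, 2, 4, 2, 4, 3, 4, 3, 4, 3, 4, 1, 3, 3, 4, 3, 4, 2, 1, 2, 4, 2, 2, 4, 2, 2, 1, 2, 2, 0, 4, 2, 0, 2, 4, 2, 4, 3, 4, 3, 4, 3, 4, 1, 3, 3, 2, 0, 3, 0, 3, 3, 0, 3, 3, 3, 1, 2, 2, 1, 2, 1, 3, 2, 2, 0, 4, 2, 0, 2, 4, 2, 4, 3, 4, 3, 4, 3, 4, 1, 3, 3, 0, 3, 3, 5, 3, 3, 5, 3, 0, 3, 5, 2, 5, 2, 2, 0, 4, 2, 0, 2, 4, 2, 4, 3, 4, 3, 4, 3, 4, 1, 3, 3, 4, 3, 4, 2, 1, 2, 4, 2, 2, 4, 2, 2, 1, 2, 2, 0, 4, 2, 0, 2, 4, 2, 4, 3, 4, 3, 4, 3, 4, 1, 3, 3, 2, 0, 3, 0, 3, 3, 0, 3, 3, 3, 1, 2, 2, 1, 2, 1, 3, 2, 2, 0, 4, 2, 0, 2, 4, 2, 4, 3, 4, 3, 4, 3, 4, 1, 3, 3, 0, 3, 3, 5, 3, 3, 5, 3, 0, 3, 5, 2, 5, 2, 2, 0, 4, 2, 0, 2, 4, 2, 4, 3, 4, 3, 4, 3, 4, 1, 3, 3, 4, 3, 4, 2, 1, 2, 4, 2, 2, 4, 2, 2, 1, 2, 2, 0, 4, 2, 0,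 2, 4, 2, 4, 3, 4, 3, 4, 3, 4, 1, 3, 3]
noncomputable def actW11 (i : Nat) : Nat := col3 (col1 (col2 (col1 (col2 (col2 (col1 (col2 (col2 (col2 (col0 (col3 (col3 (col0 (col3 (col0 (col2 (col3 (col3 (col1 (col5 (col3 (col1 (col3 (col5 (col3 (col5 (col2 (col5 (col2 (col5 (col2 (col5 (col0 (col2 (col2 (col1 (col2 (col2 (col4 (col2 (col2 (col4 (col2 (col1 (col2 (col4 (col3 (col4 (col3 (col3 (col1 (col5 (col3 (col1 (col3 (col5 (col3 (col5 (col2 (col5 (col2 (col5 (col2 (col5 (col0 (col2 (col2 (col5 (col2 (col5 (col3 (col0 (col3 (col5 (col3 (col3 (col5 (col3 (col3 (col0 (col3 (col3 (col1 (col5 (col3 (col1 (col3 (col5 (col3 (col5 (col2 (col5 (col2 (col5 (col2 (col5 (col0 (col2 (col2 (col3 (col1 (col2 (col1 (col2 (col2 (col1 (col2 (col2 (col2 (col0 (col3 (col3 (col0 (col3 (col0 (col2 (col3 (col3 (col1 (col5 (col3 (col1 (col3 (col5 (col3 (col5 (col2 (col5 (col2 (col5 (col2 (col5 (col0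 (col2 (col2 (col1 (col2 (col2 (col4 (col2 (col2 (col4 (col2 (col1 (col2 (col4 (col3 (col4 (col3 (col3 (col1 (col5 (col3 (col1 (col3 (col5 (col3 (col5 (col2 (col5 (col2 (col5 (col2 (col5 (col0 (col2 (col2 (col5 (col2 (col5 (col3 (col0 (col3 (col5 (col3 (col3 (col5 (col3 (col3 (col0 (col3 (col3 (col1 (col5 (col3 (col1 (col3 (col5 (col3 (col5 (col2 (col5 (col2 (col5 (col2 (col5 (col0 (col2 (col2 (col3 (col1 (col2 (col1 (col2 (col2 (col1 (col2 (col2 (col2 (col0 (col3 (col3 (col0 (col3 (col0 (col2 (col3 (col3 (col1 (col5 (col3 (col1 (col3 (col5 (col3 (col5 (col2 (col5 (col2 (col5 (col2 (col5 (col0 (col2 (col2 (col1 (col2 (col2 (col4 (col2 (col2 (col4 (col2 (col1 (col2 (col4 (col3 (col4 (col3 (col3 (col1 (col5 (col3 (col1 (col3 (col5 (col3 (col5 (col2 (col5 (col2 (col5 (col2 (col5 (col0 (col2 (col2 (col5 (col2 (col5 (col3 (col0 (col3 (col5 (col3 (col3 (col5 (col3 (col3 (col0 (col3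 (col3 (col1 (col5 (col3 (col1 (col3 (col5 (col3 (col5 (col2 (col5 (col2 (col5 (col2 (col5 (col0 (col2 (col2 (i))))))))))))))))))))))))))))))))))))))))))))))))))))))))))))))))))))))))))))))))))))))))))))))))))))))))))))))))))))))))))))))))))))))))))))))))))))))))))))))))))))))))))))))))))))))))))))))))))))))))))))))))))))))))))))))))))))))))))))))))))))))))))))))))))))))))))))))))))))))))))))))))))))))))))))
theorem actW11_eq (i : Nat) : actW11 i = Tab.act T D rw11 i := rfl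
theorem c_w11_0 : allRange (fun i => Nat.beq (actW11 i) i) 0 200 = true := by decide +kernel
theorem c_w11_1 : allRange (fun i => Nat.beq (actW11 i) i) 200 200 = true := by decide +kernel
theorem c_w11_2 : allRange (fun i => Nat.beq (actW11 i) i) 400 200 = true := by decide +kernel
theorem c_w11_3 : allRange (fun i => Nat.beq (actW11 i) i) 600 200 = true := by decide +kernel
theorem c_w11_4 : allRange (fun i => Nat.beq (actW11 i) i) 800 200 = true := by decide +kernel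
theorem c_w11_5 : allRange (fun i => Nat.beq (actW11 i) i) 1000 200 = true := by decide +kernel
theorem c_w11_6 : allRange (fun i => Nat.beq (actW11 i) i) 1200 200 = true := by decide +kernel
theorem c_w11_7 : allRange (fun i => Nat.beq (actW11 i) i) 1400 8 = true := by decide +kernel
theorem h_w11 : ∀ i, i < T.N → Tab.relActOK T D rw11 i = true := by
  intro i hi
  rw [Tab.relActOK, ← actW11_eq]
  exact (range_glue (range_of_allRange c_w11_0) (range_glue (range_of_allRange c_w11_1) (range_glue (range_of_allRange c_w11_2) (range_glue (range_of_allRange c_w11_3) (range_glue (range_of_allRange c_w11_4) (range_glue (range_of_allRange c_w11_5) (range_glue (range_of_allRange c_w11_6) (range_of_allRange c_w11_7)))))))) i (Nat.zero_le _) hi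
theorem c_lt11 : ∀ x ∈ rw11, x < 6 := by decide

def rw12 : List Nat := [2, 0, 3, 0, 3, 3, 0, 3, 3, 3, 1, 2, 2, 1, 2, 1, 3, 0, 3, 3, 5, 3, 3, 5, 3, 0, 3, 5, 2, 5, 2, 2, 0, 4, 2, 0, 2, 4, 2, 4, 3, 4, 3, 4, 3, 4, 1, 3, 3, 2, 0, 3, 0, 3, 3, 0, 3, 3, 3, 1, 2, 2, 1, 2, 1, 3, 2, 2, 0, 4, 2, 0, 2, 4, 2, 4, 3, 4, 3, 4, 3, 4, 1, 3, 3, 2, 0, 3, 0, 3, 3, 0, 3, 3, 3, 1, 2, 2, 1, 2, 1, 3, 0, 3, 3, 5, 3, 3, 5, 3, 0, 3, 5, 2, 5, 2, 2, 0, 4, 2, 0, 2, 4, 2, 4, 3, 4, 3, 4, 3, 4, 1, 3, 3, 2, 0, 3, 0, 3, 3, 0, 3, 3, 3, 1, 2, 2, 1, 2, 1, 3, 2, 2, 0, 4, 2, 0, 2, 4, 2, 4, 3, 4, 3, 4, 3, 4, 1, 3, 3, 2, 0, 3, 0, 3, 3, 0, 3, 3, 3, 1, 2, 2, 1, 2, 1, 3, 0, 3, 3, 5, 3, 3, 5, 3, 0, 3, 5, 2, 5, 2, 2, 0, 4, 2, 0, 2, 4, 2, 4, 3, 4, 3, 4, 3, 4, 1, 3, 3, 2, 0, 3, 0, 3, 3, 0, 3, 3, 3, 1, 2, 2, 1, 2, 1, 3, 2, 2, 0, 4, 2, 0, 2, 4, 2, 4, 3, 4, 3, 4, 3, 4, 1, 3, 3, 2, 0, 3, 0, 3, 3, 0, 3, 3, 3, 1, 2, 2, 1, 2, 1,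 3, 0, 3, 3, 5, 3, 3, 5, 3, 0, 3, 5, 2, 5, 2, 2, 0, 4, 2, 0, 2, 4, 2, 4, 3, 4, 3, 4, 3, 4, 1, 3, 3, 2, 0, 3, 0, 3, 3, 0, 3, 3, 3, 1, 2, 2, 1, 2, 1, 3, 2, 2, 0, 4, 2, 0, 2, 4, 2, 4, 3, 4, 3, 4, 3, 4, 1, 3, 3]
noncomputable def actW12 (i : Nat) : Nat := col3 (col1 (col2 (col1 (col2 (col2 (col1 (col2 (col2 (col2 (col0 (col3 (col3 (col0 (col3 (col0 (col2 (col1 (col2 (col2 (col4 (col2 (col2 (col4 (col2 (col1 (col2 (col4 (col3 (col4 (col3 (col3 (col1 (col5 (col3 (col1 (col3 (col5 (col3 (col5 (col2 (col5 (col2 (col5 (col2 (col5 (col0 (col2 (col2 (col3 (col1 (col2 (col1 (col2 (col2 (col1 (col2 (col2 (col2 (col0 (col3 (col3 (col0 (col3 (col0 (col2 (col3 (col3 (col1 (col5 (col3 (col1 (col3 (col5 (col3 (col5 (col2 (col5 (col2 (col5 (col2 (col5 (col0 (col2 (col2 (col3 (col1 (col2 (col1 (col2 (col2 (col1 (col2 (col2 (col2 (col0 (col3 (col3 (col0 (col3 (col0 (col2 (col1 (col2 (col2 (col4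 (col2 (col2 (col4 (col2 (col1 (col2 (col4 (col3 (col4 (col3 (col3 (col1 (col5 (col3 (col1 (col3 (col5 (col3 (col5 (col2 (col5 (col2 (col5 (col2 (col5 (col0 (col2 (col2 (col3 (col1 (col2 (col1 (col2 (col2 (col1 (col2 (col2 (col2 (col0 (col3 (col3 (col0 (col3 (col0 (col2 (col3 (col3 (col1 (col5 (col3 (col1 (col3 (col5 (col3 (col5 (col2 (col5 (col2 (col5 (col2 (col5 (col0 (col2 (col2 (col3 (col1 (col2 (col1 (col2 (col2 (col1 (col2 (col2 (col2 (col0 (col3 (col3 (col0 (col3 (col0 (col2 (col1 (col2 (col2 (col4 (col2 (col2 (col4 (col2 (col1 (col2 (col4 (col3 (col4 (col3 (col3 (col1 (col5 (col3 (col1 (col3 (col5 (col3 (col5 (col2 (col5 (col2 (col5 (col2 (col5 (col0 (col2 (col2 (col3 (col1 (col2 (col1 (col2 (col2 (col1 (col2 (col2 (col2 (col0 (col3 (col3 (col0 (col3 (col0 (col2 (col3 (col3 (col1 (col5 (col3 (col1 (col3 (col5 (col3 (col5 (col2 (col5 (col2 (col5 (col2 (col5 (col0 (col2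 (col2 (col3 (col1 (col2 (col1 (col2 (col2 (col1 (col2 (col2 (col2 (col0 (col3 (col3 (col0 (col3 (col0 (col2 (col1 (col2 (col2 (col4 (col2 (col2 (col4 (col2 (col1 (col2 (col4 (col3 (col4 (col3 (col3 (col1 (col5 (col3 (col1 (col3 (col5 (col3 (col5 (col2 (col5 (col2 (col5 (col2 (col5 (col0 (col2 (col2 (col3 (col1 (col2 (col1 (col2 (col2 (col1 (col2 (col2 (col2 (col0 (col3 (col3 (col0 (col3 (col0 (col2 (col3 (col3 (col1 (col5 (col3 (col1 (col3 (col5 (col3 (col5 (col2 (col5 (col2 (col5 (col2 (col5 (col0 (col2 (col2 (i))))))))))))))))))))))))))))))))))))))))))))))))))))))))))))))))))))))))))))))))))))))))))))))))))))))))))))))))))))))))))))))))))))))))))))))))))))))))))))))))))))))))))))))))))))))))))))))))))))))))))))))))))))))))))))))))))))))))))))))))))))))))))))))))))))))))))))))))))))))))))))))))))))))))))))))))))))))))))))))))))))))))))))))))))))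
theorem actW12_eq (i : Nat) : actW12 i = Tab.act T D rw12 i := rfl
theorem c_w12_0 : allRange (fun i => Nat.beq (actW12 i) i) 0 176 = true := by decide +kernel
theorem c_w12_1 : allRange (fun i => Nat.beq (actW12 i) i) 176 176 = true := by decide +kernel
theorem c_w12_2 : allRange (fun i => Nat.beq (actW12 i) i) 352 176 = true := by decide +kernel
theorem c_w12_3 : allRange (fun i => Nat.beq (actW12 i) i) 528 176 = true := by decide +kernel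
theorem c_w12_4 : allRange (fun i => Nat.beq (actW12 i) i) 704 176 = true := by decide +kernel
theorem c_w12_5 : allRange (fun i => Nat.beq (actW12 i) i) 880 176 = true := by decide +kernel
theorem c_w12_6 : allRange (fun i => Nat.beq (actW12 i) i) 1056 176 = true := by decide +kernel
theorem c_w12_7 : allRange (fun i => Nat.beq (actW12 i) i) 1232 176 = true := by decide +kernel
theorem h_w12 : ∀ i, i < T.N → Tab.relActOK T D rw12 i = true := by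
  intro i hi
  rw [Tab.relActOK, ← actW12_eq]
  exact (range_glue (range_of_allRange c_w12_0) (range_glue (range_of_allRange c_w12_1) (range_glue (range_of_allRange c_w12_2) (range_glue (range_of_allRange c_w12_3) (range_glue (range_of_allRange c_w12_4) (range_glue (range_of_allRange c_w12_5) (range_glue (range_of_allRange c_w12_6) (range_of_allRange c_w12_7)))))))) i (Nat.zero_le _) hi
theorem c_lt12 : ∀ x ∈ rw12, x < 6 := by decide

def rw13 : List Nat := [0, 0, 0, 0]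
noncomputable def actW13 (i : Nat) : Nat := col1 (col1 (col1 (col1 (i))))
theorem actW13_eq (i : Nat) : actW13 i = Tab.act T D rw13 i := rfl
theorem c_w13_0 : allRange (fun i => Nat.beq (actW13 i) i) 0 1408 = true := by decide +kernel
theorem h_w13 : ∀ i, i < T.N → Tab.relActOK T D rw13 i = true := by
  intro i hi
  rw [Tab.relActOK, ← actW13_eq]
  exact (range_of_allRange c_w13_0) i (Nat.zero_le _) hi
theorem c_lt13 : ∀ x ∈ rw13, x < 6 := by decide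

def rw14 : List Nat := [1, 1, 2, 0, 3, 0, 3, 3, 0, 2, 2, 2, 1, 2, 2, 1, 2, 1, 3, 0, 0, 2, 0, 3, 0, 3, 3, 0, 3, 3, 3, 1, 2, 2, 1, 2, 1, 3]
noncomputable def actW14 (i : Nat) : Nat := col0 (col0 (col3 (col1 (col2 (col1 (col2 (col2 (col1 (col3 (col3 (col3 (col0 (col3 (col3 (col0 (col3 (col0 (col2 (col1 (col1 (col3 (col1 (col2 (col1 (col2 (col2 (col1 (col2 (col2 (col2 (col0 (col3 (col3 (col0 (col3 (col0 (col2 (i))))))))))))))))))))))))))))))))))))))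
theorem actW14_eq (i : Nat) : actW14 i = Tab.act T D rw14 i := rfl
theorem c_w14_0 : allRange (fun i => Nat.beq (actW14 i) i) 0 1408 = true := by decide +kernel
theorem h_w14 : ∀ i, i < T.N → Tab.relActOK T D rw14 i = true := by
  intro i hi
  rw [Tab.relActOK, ← actW14_eq]
  exact (range_of_allRange c_w14_0) i (Nat.zero_le _) hi
theorem c_lt14 : ∀ x ∈ rw14, x < 6 := by decide

def rw15 : List Nat := [1, 1, 0, 3, 3, 5, 3, 3, 5, 3, 0, 3, 5, 2, 5, 0, 0, 4, 3, 4, 2, 1, 2, 4, 2, 2, 4, 2, 2, 1]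
noncomputable def actW15 (i : Nat) : Nat := col0 (col0 (col1 (col2 (col2 (col4 (col2 (col2 (col4 (col2 (col1 (col2 (col4 (col3 (col4 (col1 (col1 (col5 (col2 (col5 (col3 (col0 (col3 (col5 (col3 (col3 (col5 (col3 (col3 (col0 (i))))))))))))))))))))))))))))))
theorem actW15_eq (i : Nat) : actW15 i = Tab.act T D rw15 i := rfl
theorem c_w15_0 : allRange (fun i => Nat.beq (actW15 i) i) 0 1408 = true := by decide +kernel
theorem h_w15 : ∀ i, i < T.N → Tab.relActOK T D rw15 i = true := by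
  intro i hi
  rw [Tab.relActOK, ← actW15_eq]
  exact (range_of_allRange c_w15_0) i (Nat.zero_le _) hi
theorem c_lt15 : ∀ x ∈ rw15, x < 6 := by decide

def rw16 : List Nat := [1, 1, 2, 2, 0, 5, 2, 5, 2, 5, 2, 5, 3, 5, 3, 1, 3, 5, 1, 3, 3, 0, 0, 2, 2, 0, 4, 2, 0, 2, 4, 2, 4, 3, 4, 3, 4, 3, 4, 1, 3, 3]
noncomputable def actW16 (i : Nat) : Nat := col0 (col0 (col3 (col3 (col1 (col4 (col3 (col4 (col3 (col4 (col3 (col4 (col2 (col4 (col2 (col0 (col2 (col4 (col0 (col2 (col2 (col1 (col1 (col3 (col3 (col1 (col5 (col3 (col1 (col3 (col5 (col3 (col5 (col2 (col5 (col2 (col5 (col2 (col5 (col0 (col2 (col2 (i))))))))))))))))))))))))))))))))))))))))))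
theorem actW16_eq (i : Nat) : actW16 i = Tab.act T D rw16 i := rfl
theorem c_w16_0 : allRange (fun i => Nat.beq (actW16 i) i) 0 1408 = true := by decide +kernel
theorem h_w16 : ∀ i, i < T.N → Tab.relActOK T D rw16 i = true := by
  intro i hi
  rw [Tab.relActOK, ← actW16_eq]
  exact (range_of_allRange c_w16_0) i (Nat.zero_le _) hi
theorem c_lt16 : ∀ x ∈ rw16, x < 6 := by decide

def rw17 : List Nat := [2, 0, 3, 0, 3, 3, 0, 3, 3, 3, 1, 2, 2, 1, 2, 1, 3, 2, 0, 3, 0, 3, 3, 0, 2, 2, 2, 1, 2, 2, 1, 2, 1, 3]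
noncomputable def actW17 (i : Nat) : Nat := col3 (col1 (col2 (col1 (col2 (col2 (col1 (col2 (col2 (col2 (col0 (col3 (col3 (col0 (col3 (col0 (col2 (col3 (col1 (col2 (col1 (col2 (col2 (col1 (col3 (col3 (col3 (col0 (col3 (col3 (col0 (col3 (col0 (col2 (i))))))))))))))))))))))))))))))))))
theorem actW17_eq (i : Nat) : actW17 i = Tab.act T D rw17 i := rfl
theorem c_w17_0 : allRange (fun i => Nat.beq (actW17 i) i) 0 1408 = true := by decide +kernel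
theorem h_w17 : ∀ i, i < T.N → Tab.relActOK T D rw17 i = true := by
  intro i hi
  rw [Tab.relActOK, ← actW17_eq]
  exact (range_of_allRange c_w17_0) i (Nat.zero_le _) hi
theorem c_lt17 : ∀ x ∈ rw17, x < 6 := by decide

def rw18 : List Nat := [2, 0, 3, 0, 3, 3, 0, 2, 2, 2, 1, 2, 2, 1, 2, 1, 3, 2, 0, 3, 0, 3, 3, 0, 3, 3, 3, 1, 2, 2, 1, 2, 1, 3]
noncomputable def actW18 (i : Nat) : Nat := col3 (col1 (col2 (col1 (col2 (col2 (col1 (col3 (col3 (col3 (col0 (col3 (col3 (col0 (col3 (col0 (col2 (col3 (col1 (col2 (col1 (col2 (col2 (col1 (col2 (col2 (col2 (col0 (col3 (col3 (col0 (col3 (col0 (col2 (i))))))))))))))))))))))))))))))))))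
theorem actW18_eq (i : Nat) : actW18 i = Tab.act T D rw18 i := rfl
theorem c_w18_0 : allRange (fun i => Nat.beq (actW18 i) i) 0 1408 = true := by decide +kernel
theorem h_w18 : ∀ i, i < T.N → Tab.relActOK T D rw18 i = true := by
  intro i hi
  rw [Tab.relActOK, ← actW18_eq]
  exact (range_of_allRange c_w18_0) i (Nat.zero_le _) hi
theorem c_lt18 : ∀ x ∈ rw18, x < 6 := by decide

def rw19 : List Nat := [4, 3, 4, 2, 1, 2, 4, 2, 2, 4, 2, 2, 1, 0, 3, 3, 5, 3, 3, 5, 3, 0, 3, 5, 2, 5]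
noncomputable def actW19 (i : Nat) : Nat := col5 (col2 (col5 (col3 (col0 (col3 (col5 (col3 (col3 (col5 (col3 (col3 (col0 (col1 (col2 (col2 (col4 (col2 (col2 (col4 (col2 (col1 (col2 (col4 (col3 (col4 (i))))))))))))))))))))))))))
theorem actW19_eq (i : Nat) : actW19 i = Tab.act T D rw19 i := rfl
theorem c_w19_0 : allRange (fun i => Nat.beq (actW19 i) i) 0 1408 = true := by decide +kernel
theorem h_w19 : ∀ i, i < T.N → Tab.relActOK T D rw19 i = true := by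
  intro i hi
  rw [Tab.relActOK, ← actW19_eq]
  exact (range_of_allRange c_w19_0) i (Nat.zero_le _) hi
theorem c_lt19 : ∀ x ∈ rw19, x < 6 := by decide

def rw20 : List Nat := [0, 3, 3, 5, 3, 3, 5, 3, 0, 3, 5, 2, 5, 4, 3, 4, 2, 1, 2, 4, 2, 2, 4, 2, 2, 1]
noncomputable def actW20 (i : Nat) : Nat := col1 (col2 (col2 (col4 (col2 (col2 (col4 (col2 (col1 (col2 (col4 (col3 (col4 (col5 (col2 (col5 (col3 (col0 (col3 (col5 (col3 (col3 (col5 (col3 (col3 (col0 (i))))))))))))))))))))))))))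
theorem actW20_eq (i : Nat) : actW20 i = Tab.act T D rw20 i := rfl
theorem c_w20_0 : allRange (fun i => Nat.beq (actW20 i) i) 0 1408 = true := by decide +kernel
theorem h_w20 : ∀ i, i < T.N → Tab.relActOK T D rw20 i = true := by
  intro i hi
  rw [Tab.relActOK, ← actW20_eq]
  exact (range_of_allRange c_w20_0) i (Nat.zero_le _) hi
theorem c_lt20 : ∀ x ∈ rw20, x < 6 := by decide

def rw21 : List Nat := [2, 2, 0, 4, 2, 0, 2, 4, 2, 4, 3, 4, 3, 4, 3, 4, 1, 3, 3, 2, 2, 0, 5, 2, 5, 2, 5, 2, 5, 3, 5, 3, 1, 3, 5, 1, 3, 3]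
noncomputable def actW21 (i : Nat) : Nat := col3 (col3 (col1 (col5 (col3 (col1 (col3 (col5 (col3 (col5 (col2 (col5 (col2 (col5 (col2 (col5 (col0 (col2 (col2 (col3 (col3 (col1 (col4 (col3 (col4 (col3 (col4 (col3 (col4 (col2 (col4 (col2 (col0 (col2 (col4 (col0 (col2 (col2 (i))))))))))))))))))))))))))))))))))))))
theorem actW21_eq (i : Nat) : actW21 i = Tab.act T D rw21 i := rfl
theorem c_w21_0 : allRange (fun i => Nat.beq (actW21 i) i) 0 1408 = true := by decide +kernel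
theorem h_w21 : ∀ i, i < T.N → Tab.relActOK T D rw21 i = true := by
  intro i hi
  rw [Tab.relActOK, ← actW21_eq]
  exact (range_of_allRange c_w21_0) i (Nat.zero_le _) hi
theorem c_lt21 : ∀ x ∈ rw21, x < 6 := by decide

def rw22 : List Nat := [2, 2, 0, 5, 2, 5, 2, 5, 2, 5, 3, 5, 3, 1, 3, 5, 1, 3, 3, 2, 2, 0, 4, 2, 0, 2, 4, 2, 4, 3, 4, 3, 4, 3, 4, 1, 3, 3]
noncomputable def actW22 (i : Nat) : Nat := col3 (col3 (col1 (col4 (col3 (col4 (col3 (col4 (col3 (col4 (col2 (col4 (col2 (col0 (col2 (col4 (col0 (col2 (col2 (col3 (col3 (col1 (col5 (col3 (col1 (col3 (col5 (col3 (col5 (col2 (col5 (col2 (col5 (col2 (col5 (col0 (col2 (col2 (i))))))))))))))))))))))))))))))))))))))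
theorem actW22_eq (i : Nat) : actW22 i = Tab.act T D rw22 i := rfl
theorem c_w22_0 : allRange (fun i => Nat.beq (actW22 i) i) 0 1408 = true := by decide +kernel
theorem h_w22 : ∀ i, i < T.N → Tab.relActOK T D rw22 i = true := by
  intro i hi
  rw [Tab.relActOK, ← actW22_eq]
  exact (range_of_allRange c_w22_0) i (Nat.zero_le _) hi
theorem c_lt22 : ∀ x ∈ rw22, x < 6 := by decide

def rw23 : List Nat := [0, 0, 1, 1]
noncomputable def actW23 (i : Nat) : Nat := col1 (col1 (col0 (col0 (i))))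
theorem actW23_eq (i : Nat) : actW23 i = Tab.act T D rw23 i := rfl
theorem c_w23_0 : allRange (fun i => Nat.beq (actW23 i) i) 0 1408 = true := by decide +kernel
theorem h_w23 : ∀ i, i < T.N → Tab.relActOK T D rw23 i = true := by
  intro i hi
  rw [Tab.relActOK, ← actW23_eq]
  exact (range_of_allRange c_w23_0) i (Nat.zero_le _) hi
theorem c_lt23 : ∀ x ∈ rw23, x < 6 := by decide

def rw24 : List Nat := [1, 1, 0, 0]
noncomputable def actW24 (i : Nat) : Nat := col0 (col0 (col1 (col1 (i))))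
theorem actW24_eq (i : Nat) : actW24 i = Tab.act T D rw24 i := rfl
theorem c_w24_0 : allRange (fun i => Nat.beq (actW24 i) i) 0 1408 = true := by decide +kernel
theorem h_w24 : ∀ i, i < T.N → Tab.relActOK T D rw24 i = true := by
  intro i hi
  rw [Tab.relActOK, ← actW24_eq]
  exact (range_of_allRange c_w24_0) i (Nat.zero_le _) hi
theorem c_lt24 : ∀ x ∈ rw24, x < 6 := by decide

/-- the relator words and the words of a letter followed by its inverse -/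
def relWords : List (List Nat) := [rw0, rw1, rw2, rw3, rw4, rw5, rw6, rw7, rw8, rw9, rw10, rw11, rw12, rw13, rw14, rw15, rw16, rw17, rw18, rw19, rw20, rw21, rw22, rw23, rw24]

theorem c_words_eq : PC2HS.P.real.map (fun L => L.flatMap Wf) ++
    (List.range 8).map (fun l => Wf l ++ Wf (PC2HS.P.invR l)) = relWords := by decide +kernel

theorem c_ne : Nat.beq (Tab.act T D (Wf 6) 0) 0 = false := by decide +kernel

end Cfsg.Agent.Lib.Helper4.TCD.HNNC2Q
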