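import Mathlib
import Cfsg.Prelude.Def_SporadicB
import Cfsg.Agent.Lib.Helper4.HNNMain
import Cfsg.Agent.Lib.Helper4.C2HSCover
import Cfsg.Agent.Lib.Helper4.HSpIso
import Cfsg.Agent.Lib.Helper4.TCD_HNNC2Q
import Cfsg.Agent.Lib.Helper4.CoverLib
import Cfsg.Agent.Lib.Helper4.DCoverLib
import Cfsg.Agent.Lib.Helper4.RepLib
import Cfsg.Agent.Lib.Helper4.TC19
import Cfsg.Agent.Lib.Helper9.HSsimple3
import Cfsg.Agent.Lib.Helper9.HSe

/-! The presented group `HNN` on `x`, `y`, `z` (of order 177408000) contains a copy of the presented double cover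
`C2HS` of the Higman–Sims group as a normal subgroup of index 2. -/

set_option autoImplicit false

namespace Cfsg.Agent.Lib.Helper4.HNNC2

open Cfsg.Agent.Lib.Helper4.TC Cfsg.Agent.Lib.Helper4.TCD Cfsg.Agent.Lib.Helper4.TC.Log
open Cfsg.Agent.Lib.Helper4.C2HSMain Cfsg.Agent.Lib.Helper4.C2HSCover

local notation "G" => PC2HS.P.Grp
local notation "gG" => PC2HS.P.gR

theorem word_one (u : List ℕ) (hu : ∀ x ∈ u, x < 6)
    (h : ∀ i, i < HNNR.T.N → Tab.relActOK HNNR.T HNNR.D u i = true) : wordP PHNN.P.gR u = 1 :=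
  HNNR.prep.word_eq_one HNNMain.order_aux.2.1 u hu h

theorem all_one : ∀ u ∈ HNNC2Q.relWords, wordP PHNN.P.gR u = 1 := by
  unfold HNNC2Q.relWords
  refine List.forall_mem_cons.2 ⟨word_one HNNC2Q.rw0 HNNC2Q.c_lt0 HNNC2Q.h_w0, ?_⟩
  refine List.forall_mem_cons.2 ⟨word_one HNNC2Q.rw1 HNNC2Q.c_lt1 HNNC2Q.h_w1, ?_⟩
  refine List.forall_mem_cons.2 ⟨word_one HNNC2Q.rw2 HNNC2Q.c_lt2 HNNC2Q.h_w2, ?_⟩
  refine List.forall_mem_cons.2 ⟨word_one HNNC2Q.rw3 HNNC2Q.c_lt3 HNNC2Q.h_w3, ?_⟩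
  refine List.forall_mem_cons.2 ⟨word_one HNNC2Q.rw4 HNNC2Q.c_lt4 HNNC2Q.h_w4, ?_⟩
  refine List.forall_mem_cons.2 ⟨word_one HNNC2Q.rw5 HNNC2Q.c_lt5 HNNC2Q.h_w5, ?_⟩
  refine List.forall_mem_cons.2 ⟨word_one HNNC2Q.rw6 HNNC2Q.c_lt6 HNNC2Q.h_w6, ?_⟩
  refine List.forall_mem_cons.2 ⟨word_one HNNC2Q.rw7 HNNC2Q.c_lt7 HNNC2Q.h_w7, ?_⟩
  refine List.forall_mem_cons.2 ⟨word_one HNNC2Q.rw8 HNNC2Q.c_lt8 HNNC2Q.h_w8, ?_⟩
  refine List.forall_mem_cons.2 ⟨word_one HNNC2Q.rw9 HNNC2Q.c_lt9 HNNC2Q.h_w9, ?_⟩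
  refine List.forall_mem_cons.2 ⟨word_one HNNC2Q.rw10 HNNC2Q.c_lt10 HNNC2Q.h_w10, ?_⟩
  refine List.forall_mem_cons.2 ⟨word_one HNNC2Q.rw11 HNNC2Q.c_lt11 HNNC2Q.h_w11, ?_⟩
  refine List.forall_mem_cons.2 ⟨word_one HNNC2Q.rw12 HNNC2Q.c_lt12 HNNC2Q.h_w12, ?_⟩
  refine List.forall_mem_cons.2 ⟨word_one HNNC2Q.rw13 HNNC2Q.c_lt13 HNNC2Q.h_w13, ?_⟩
  refine List.forall_mem_cons.2 ⟨word_one HNNC2Q.rw14 HNNC2Q.c_lt14 HNNC2Q.h_w14, ?_⟩
  refine List.forall_mem_cons.2 ⟨word_one HNNC2Q.rw15 HNNC2Q.c_lt15 HNNC2Q.h_w15, ?_⟩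
  refine List.forall_mem_cons.2 ⟨word_one HNNC2Q.rw16 HNNC2Q.c_lt16 HNNC2Q.h_w16, ?_⟩
  refine List.forall_mem_cons.2 ⟨word_one HNNC2Q.rw17 HNNC2Q.c_lt17 HNNC2Q.h_w17, ?_⟩
  refine List.forall_mem_cons.2 ⟨word_one HNNC2Q.rw18 HNNC2Q.c_lt18 HNNC2Q.h_w18, ?_⟩
  refine List.forall_mem_cons.2 ⟨word_one HNNC2Q.rw19 HNNC2Q.c_lt19 HNNC2Q.h_w19, ?_⟩
  refine List.forall_mem_cons.2 ⟨word_one HNNC2Q.rw20 HNNC2Q.c_lt20 HNNC2Q.h_w20, ?_⟩
  refine List.forall_mem_cons.2 ⟨word_one HNNC2Q.rw21 HNNC2Q.c_lt21 HNNC2Q.h_w21, ?_⟩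
  refine List.forall_mem_cons.2 ⟨word_one HNNC2Q.rw22 HNNC2Q.c_lt22 HNNC2Q.h_w22, ?_⟩
  refine List.forall_mem_cons.2 ⟨word_one HNNC2Q.rw23 HNNC2Q.c_lt23 HNNC2Q.h_w23, ?_⟩
  refine List.forall_mem_cons.2 ⟨word_one HNNC2Q.rw24 HNNC2Q.c_lt24 HNNC2Q.h_w24, ?_⟩
  intro r hr
  exact absurd hr List.not_mem_nil

theorem emb : WordEmb PC2HS.P PHNN.P.gR HNNC2Q.Wf where
  hP := PC2HS.valid
  hinv := by
    intro l hl
    apply all_one
    rw [← HNNC2Q.c_words_eq]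
    exact List.mem_append_right _ (List.mem_map.2 ⟨l, List.mem_range.2 hl, rfl⟩)
  hrel := by
    intro L hL
    apply all_one
    rw [← HNNC2Q.c_words_eq]
    exact List.mem_append_left _ (List.mem_map_of_mem hL)

/-- the homomorphism from the double cover -/
noncomputable def f : G →* PHNN.P.Grp := emb.hom

theorem f_z_ne : f z ≠ 1 := by
  rw [f, z, emb.hom_gR 6 (by decide)]
  intro h
  have h1 := HNNR.prep.phi_word (HNNC2Q.Wf 6) (by decide) ⟨0, by decide⟩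
  rw [h, map_one] at h1
  have h2 := HNNC2Q.c_ne
  have h3 : Tab.act HNNR.T HNNR.D (HNNC2Q.Wf 6) 0 = 0 := h1.symm
  rw [h3] at h2
  exact absurd h2 (by decide)

theorem simple_HS : IsSimpleGroup ↥Cfsg.Spor.HS :=
  RepLib.simple_of_equiv Cfsg.Agent.Lib.Helper9.HSe.isoA.symm Cfsg.Agent.Lib.Helper9.HSsimple3.simple_G0

theorem simple_HSp : IsSimpleGroup PHSp.P.Grp := by
  obtain ⟨e⟩ := HSpIso.iso
  exact RepLib.simple_of_equiv e.symm simple_HS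

theorem mem_Z (x : G) (hx : x ∈ Z) : x = 1 ∨ x = z := by
  rw [Z, Subgroup.mem_zpowers_iff] at hx
  obtain ⟨k, rfl⟩ := hx
  rcases Int.even_or_odd' k with ⟨m, rfl | rfl⟩
  · left
    rw [zpow_mul, zpow_ofNat, z_sq, one_zpow]
  · right
    rw [zpow_add, zpow_mul, zpow_ofNat, z_sq, one_zpow, one_mul, zpow_one]

theorem f_inj : Function.Injective f := by
  apply Stem.injective_of_central_simple π π_surjective (by rw [ker_eq]; exact Z_le_center)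
    simple_HSp perfect f _ ⟨z, f_z_ne⟩
  intro x hx hfx
  rw [ker_eq] at hx
  rcases mem_Z x hx with rfl | rfl
  · rfl
  · exact absurd hfx f_z_ne

/-- the copy of the double cover -/
noncomputable def K0 : Subgroup PHNN.P.Grp := f.range

noncomputable def equivK0 : G ≃* K0 := MonoidHom.ofInjective f_inj

theorem card_K0 : Nat.card K0 = 88704000 := by
  rw [← C2HSMain.order_aux.2.2]
  exact (Nat.card_congr equivK0.toEquiv).symm

theorem index_K0 : K0.index = 2 := by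
  have h := K0.index_mul_card
  rw [card_K0, HNNMain.order_aux.2.2] at h
  have h2 : K0.index * 88704000 = 2 * 88704000 := by rw [h]
  exact Nat.eq_of_mul_eq_mul_right (by norm_num) h2

theorem card_HSp_not_prime : ¬ (Nat.card PHSp.P.Grp).Prime := by
  rw [HSpMain.order_aux.2.2]
  intro h
  have := h.eq_one_or_self_of_dvd 2 (by norm_num)
  omega

theorem cover_G : Cfsg.IsNonsplitDoubleCover G ↥Cfsg.Spor.HS := by
  obtain ⟨e⟩ := HSpIso.iso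
  haveI : Finite G := C2HSMain.order_aux.1
  exact DCoverLib.nonsplit_of_central_ext π π_surjective (by rw [ker_eq]; exact Z_le_center) card_ker
    simple_HSp card_HSp_not_prime perfect e

theorem main : ∃ K : Subgroup PHNN.P.Grp, K.Normal ∧ K.index = 2 ∧
    Cfsg.IsNonsplitDoubleCover K ↥Cfsg.Spor.HS := by
  haveI : Finite G := C2HSMain.order_aux.1
  exact ⟨K0, Subgroup.normal_of_index_eq_two index_K0, index_K0, DCoverLib.nonsplit_of_equiv equivK0 cover_G⟩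

end Cfsg.Agent.Lib.Helper4.HNNC2
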