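import Mathlib

/-! Polynomial sequences in a filtered group (Lazard–Leibman): closure under products,
inverses and commutators. -/
set_option autoImplicit false
universe u
open scoped commutatorElement

namespace Cfsg.Agent.Lib.Helper4.HP

variable {G : Type u} [Group G]

/-- discrete derivative of a sequence. -/
def D (u : ℕ → G) : ℕ → G := fun n => u (n + 1) * (u n)⁻¹

/-- shift of a sequence. -/
def S (u : ℕ → G) : ℕ → G := fun n => u (n + 1)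

/-- a filtration: antitone with `[Γ i, Γ j] ≤ Γ (i+j)`. -/
structure Filt (Γ : ℕ → Subgroup G) : Prop where
  anti : Antitone Γ
  comm : ∀ i j, ⁅Γ i, Γ j⁆ ≤ Γ (i + j)

/-- `PolyT Γ i j u`: the first `i` derivatives of `u` lie in `Γ j, Γ (j+1), …`. -/
def PolyT (Γ : ℕ → Subgroup G) : ℕ → ℕ → (ℕ → G) → Prop
  | 0, j, u => ∀ n, u n ∈ Γ j
  | i + 1, j, u => (∀ n, u n ∈ Γ j) ∧ PolyT Γ i (j + 1) (D u)

variable {Γ : ℕ → Subgroup G}

theorem PolyT.val {i j : ℕ} {u : ℕ → G} (h : PolyT Γ i j u) (n : ℕ) : u n ∈ Γ j := by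
  cases i with
  | zero => exact h n
  | succ i => exact h.1 n

theorem PolyT.mono_j (hΓ : Antitone Γ) {i : ℕ} : ∀ {j j' : ℕ} {u : ℕ → G}, j ≤ j' →
    PolyT Γ i j' u → PolyT Γ i j u := by
  induction i with
  | zero => intro j j' u hj h n; exact hΓ hj (h n)
  | succ i ih =>
    intro j j' u hj h
    exact ⟨fun n => hΓ hj (h.1 n), ih (Nat.succ_le_succ hj) h.2⟩

theorem PolyT.pred {i : ℕ} : ∀ {j : ℕ} {u : ℕ → G}, PolyT Γ (i + 1) j u → PolyT Γ i j u := by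
  induction i with
  | zero => intro j u h; exact h.1
  | succ i ih => intro j u h; exact ⟨h.1, ih h.2⟩

theorem D_S (u : ℕ → G) : D (S u) = S (D u) := rfl

theorem PolyT.shift {i : ℕ} : ∀ {j : ℕ} {u : ℕ → G}, PolyT Γ i j u → PolyT Γ i j (S u) := by
  induction i with
  | zero => intro j u h n; exact h (n + 1)
  | succ i ih => intro j u h; exact ⟨fun n => h.1 (n + 1), ih h.2⟩

theorem D_one : D (1 : ℕ → G) = 1 := by
  funext n; simp [D]

theorem polyT_one {i : ℕ} : ∀ {j : ℕ}, PolyT Γ i j (1 : ℕ → G) := by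
  induction i with
  | zero => intro j n; exact one_mem _
  | succ i ih => intro j; exact ⟨fun n => one_mem _, by rw [D_one]; exact ih⟩

theorem D_mul (u v : ℕ → G) : D (u * v) = ⁅S u, D v⁆ * D v * D u := by
  funext n
  simp only [D, S, Pi.mul_apply, commutatorElement_def, Pi.inv_apply]
  group

theorem D_inv (u : ℕ → G) : D u⁻¹ = ⁅(S u)⁻¹, (D u)⁻¹⁆ * (D u)⁻¹ := by
  funext n
  simp only [D, S, Pi.mul_apply, commutatorElement_def, Pi.inv_apply]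
  group

theorem D_comm (u v : ℕ → G) : D ⁅u, v⁆ =
    (⁅D u, ⁅u, D v⁆⁆ * ⁅u, D v⁆) * ((⁅D u, ⁅D v, ⁅u, v⁆⁆⁆ * ⁅D v, ⁅u, v⁆⁆) * ⁅D u, ⁅u, v⁆⁆) *
      (⁅⁅u, v⁆, ⁅D u, S v⁆⁆ * ⁅D u, S v⁆) := by
  funext n
  simp only [D, S, Pi.mul_apply, commutatorElement_def, Pi.inv_apply]
  group

/-- the closure properties at level `i`. -/
def Good (Γ : ℕ → Subgroup G) (i : ℕ) : Prop :=
  (∀ (j : ℕ) (u v : ℕ → G), PolyT Γ i j u → PolyT Γ i j v → PolyT Γ i j (u * v)) ∧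
  (∀ (j : ℕ) (u : ℕ → G), PolyT Γ i j u → PolyT Γ i j u⁻¹) ∧
  (∀ (k l : ℕ) (u v : ℕ → G), PolyT Γ i k u → PolyT Γ i l v → PolyT Γ i (k + l) ⁅u, v⁆)

theorem good_zero (hF : Filt Γ) : Good Γ 0 := by
  refine ⟨?_, ?_, ?_⟩
  · intro j u v hu hv n
    exact mul_mem (hu n) (hv n)
  · intro j u hu n
    exact inv_mem (hu n)
  · intro k l u v hu hv n
    exact hF.comm k l (Subgroup.commutator_mem_commutator (hu n) (hv n))

theorem good_succ (hF : Filt Γ) (i : ℕ) (h : Good Γ i) : Good Γ (i + 1) := by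
  obtain ⟨hmul, hinv, hcomm⟩ := h
  have hc : ∀ (a b m : ℕ) (u v : ℕ → G), PolyT Γ i a u → PolyT Γ i b v → m ≤ a + b →
      PolyT Γ i m ⁅u, v⁆ := fun a b m u v hu hv hm => (hcomm a b u v hu hv).mono_j hF.anti hm
  refine ⟨?_, ?_, ?_⟩
  · intro j u v hu hv
    refine ⟨fun n => mul_mem (hu.1 n) (hv.1 n), ?_⟩
    rw [D_mul]
    exact hmul _ _ _ (hmul _ _ _ (hc j (j + 1) _ _ _ hu.pred.shift hv.2 (by omega)) hv.2) hu.2
  · intro j u hu
    refine ⟨fun n => inv_mem (hu.1 n), ?_⟩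
    rw [D_inv]
    exact hmul _ _ _ (hc j (j + 1) _ _ _ (hinv _ _ hu.pred.shift) (hinv _ _ hu.2) (by omega))
      (hinv _ _ hu.2)
  · intro k l u v hu hv
    refine ⟨fun n => hF.comm k l (Subgroup.commutator_mem_commutator (hu.1 n) (hv.1 n)), ?_⟩
    rw [D_comm]
    have huv : PolyT Γ i (k + l) ⁅u, v⁆ := hcomm k l u v hu.pred hv.pred
    have h1 : PolyT Γ i (k + l + 1) ⁅u, D v⁆ := hc k (l + 1) _ _ _ hu.pred hv.2 (by omega)
    have h2 : PolyT Γ i (k + l + 1) ⁅D v, ⁅u, v⁆⁆ := hc (l + 1) (k + l) _ _ _ hv.2 huv (by omega)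
    have h3 : PolyT Γ i (k + l + 1) ⁅D u, ⁅u, v⁆⁆ := hc (k + 1) (k + l) _ _ _ hu.2 huv (by omega)
    have h4 : PolyT Γ i (k + l + 1) ⁅D u, S v⁆ := hc (k + 1) l _ _ _ hu.2 hv.pred.shift (by omega)
    have h5 : PolyT Γ i (k + l + 1) ⁅D u, ⁅u, D v⁆⁆ := hc (k + 1) (k + l + 1) _ _ _ hu.2 h1 (by omega)
    have h6 : PolyT Γ i (k + l + 1) ⁅D u, ⁅D v, ⁅u, v⁆⁆⁆ :=
      hc (k + 1) (k + l + 1) _ _ _ hu.2 h2 (by omega)
    have h7 : PolyT Γ i (k + l + 1) ⁅⁅u, v⁆, ⁅D u, S v⁆⁆ :=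
      hc (k + l) (k + l + 1) _ _ _ huv h4 (by omega)
    exact hmul _ _ _ (hmul _ _ _ (hmul _ _ _ h5 h1) (hmul _ _ _ (hmul _ _ _ h6 h2) h3))
      (hmul _ _ _ h7 h4)

theorem good (hF : Filt Γ) : ∀ i, Good Γ i
  | 0 => good_zero hF
  | i + 1 => good_succ hF i (good hF i)

/-- polynomial sequences (all derivatives). -/
def Poly (Γ : ℕ → Subgroup G) (u : ℕ → G) : Prop := ∀ i, PolyT Γ i 0 u

theorem Poly.mul (hF : Filt Γ) {u v : ℕ → G} (hu : Poly Γ u) (hv : Poly Γ v) : Poly Γ (u * v) :=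
  fun i => (good hF i).1 0 u v (hu i) (hv i)

theorem Poly.inv (hF : Filt Γ) {u : ℕ → G} (hu : Poly Γ u) : Poly Γ u⁻¹ :=
  fun i => (good hF i).2.1 0 u (hu i)

theorem poly_one : Poly Γ (1 : ℕ → G) := fun _ => polyT_one

end Cfsg.Agent.Lib.Helper4.HP
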