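import Cfsg.Agent.Lib.Helper4.HP1

/-! Binomial sequences and Taylor expansion of polynomial sequences. -/
set_option autoImplicit false
universe u
open scoped commutatorElement

namespace Cfsg.Agent.Lib.Helper4.HP

variable {G : Type u} [Group G] {Γ : ℕ → Subgroup G}

theorem polyT_binom (hΓ : Antitone Γ) (i : ℕ) : ∀ (j m : ℕ) (x : G), x ∈ Γ (j + m) →
    PolyT Γ i m (fun n => x ^ (n.choose j)) := by
  induction i with
  | zero => intro j m x hx n; exact pow_mem (hΓ (Nat.le_add_left m j) hx) _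
  | succ i ih =>
    intro j m x hx
    refine ⟨fun n => pow_mem (hΓ (Nat.le_add_left m j) hx) _, ?_⟩
    cases j with
    | zero =>
      have : D (fun n => x ^ (n.choose 0)) = 1 := by
        funext n; simp [D]
      rw [this]; exact polyT_one
    | succ j =>
      have : D (fun n => x ^ (n.choose (j + 1))) = fun n => x ^ (n.choose j) := by
        funext n
        simp only [D]
        rw [Nat.choose_succ_succ, pow_add, mul_inv_cancel_right]
      rw [this]
      exact ih j (m + 1) x (by rwa [show j + (m + 1) = j + 1 + m by omega])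

theorem poly_binom (hΓ : Antitone Γ) (j : ℕ) (x : G) (hx : x ∈ Γ j) :
    Poly Γ (fun n => x ^ (n.choose j)) :=
  fun i => polyT_binom hΓ i j 0 x hx

theorem poly_pow (hΓ : Antitone Γ) (x : G) (hx : x ∈ Γ 1) : Poly Γ (fun n => x ^ n) := by
  have := poly_binom hΓ 1 x hx
  simpa using this

/-- partial Taylor product `a_0^{C(n,0)} ⋯ a_{k-1}^{C(n,k-1)}`. -/
def tay (a : ℕ → G) : ℕ → ℕ → G
  | 0, _ => 1
  | k + 1, n => tay a k n * (a k) ^ (n.choose k)

theorem tay_congr {a b : ℕ → G} (k n : ℕ) (h : ∀ j < k, a j = b j) : tay a k n = tay b k n := by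
  induction k with
  | zero => rfl
  | succ k ih =>
    simp only [tay]
    rw [ih (fun j hj => h j (Nat.lt_succ_of_lt hj)), h k (Nat.lt_succ_self k)]

theorem tay_zero_right (a : ℕ → G) (k : ℕ) : tay a (k + 1) 0 = a 0 := by
  induction k with
  | zero => simp [tay]
  | succ k ih => rw [tay, ih]; simp

theorem tay_one_right (a : ℕ → G) (k : ℕ) : tay a (k + 2) 1 = a 0 * a 1 := by
  induction k with
  | zero => simp [tay]
  | succ k ih =>
    rw [tay, ih, Nat.choose_eq_zero_of_lt (by omega : 1 < k + 2), pow_zero, mul_one]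

theorem PolyT.iter {i : ℕ} : ∀ {j : ℕ} {u : ℕ → G}, PolyT Γ i j u → ∀ n, (D^[i] u) n ∈ Γ (j + i) := by
  induction i with
  | zero => intro j u h n; exact h n
  | succ i ih =>
    intro j u h n
    rw [Function.iterate_succ_apply, show j + (i + 1) = j + 1 + i by omega]
    exact ih h.2 n

theorem iter_D_zero : ∀ (k : ℕ) (w : ℕ → G), (∀ n < k, w n = 1) → (D^[k] w) 0 = w k := by
  intro k
  induction k with
  | zero => intro w _; rfl
  | succ k ih =>
    intro w hw
    rw [Function.iterate_succ_apply, ih (D w)]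
    · simp [D, hw k (Nat.lt_succ_self k)]
    · intro n hn
      simp [D, hw n (Nat.lt_succ_of_lt hn), hw (n + 1) (Nat.succ_lt_succ hn)]

theorem eq_one_of_iter : ∀ (K : ℕ) (w : ℕ → G), (∀ n, (D^[K] w) n = 1) → (∀ n < K, w n = 1) →
    ∀ n, w n = 1 := by
  intro K
  induction K with
  | zero => intro w h _ n; exact h n
  | succ K ih =>
    intro w h hw
    have hD : ∀ n, D w n = 1 := by
      apply ih (D w)
      · intro n; rw [← Function.iterate_succ_apply]; exact h n
      · intro n hn
        simp [D, hw n (Nat.lt_succ_of_lt hn), hw (n + 1) (Nat.succ_lt_succ hn)]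
    intro n
    induction n with
    | zero => exact hw 0 (Nat.succ_pos K)
    | succ n ihn =>
      have := hD n
      simp only [D, ihn, inv_one, mul_one] at this
      exact this

theorem taylor_aux (hF : Filt Γ) (u : ℕ → G) (hu : Poly Γ u) (k : ℕ) :
    ∃ a : ℕ → G, (∀ j, a j ∈ Γ j) ∧ ∃ w : ℕ → G, Poly Γ w ∧ (∀ n < k, w n = 1) ∧
      ∀ n, u n = tay a k n * w n := by
  induction k with
  | zero =>
    exact ⟨1, fun j => one_mem _, u, hu, fun n hn => absurd hn (Nat.not_lt_zero n),
      fun n => by simp [tay]⟩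
  | succ k ih =>
    obtain ⟨a, ha, w, hw, hw0, huw⟩ := ih
    have hwk : w k ∈ Γ k := by
      have := (hw k).iter 0
      rw [iter_D_zero k w hw0, zero_add] at this
      exact this
    refine ⟨Function.update a k (w k), ?_, (fun n => (w k) ^ (n.choose k))⁻¹ * w, ?_, ?_, ?_⟩
    · intro j
      by_cases hj : j = k
      · subst hj; simpa using hwk
      · rw [Function.update_of_ne hj]; exact ha j
    · exact (poly_binom hF.anti k (w k) hwk).inv hF |>.mul hF hw
    · intro n hn
      rcases Nat.lt_succ_iff_lt_or_eq.mp hn with h | h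
      · simp [Nat.choose_eq_zero_of_lt h, hw0 n h]
      · subst h; simp
    · intro n
      rw [huw n]
      simp only [tay, Function.update_self, Pi.mul_apply, Pi.inv_apply]
      rw [tay_congr (a := Function.update a k (w k)) (b := a) k n
        (fun j hj => Function.update_of_ne (Nat.ne_of_lt hj) _ _)]
      group

/-- Taylor expansion of a polynomial sequence when the filtration terminates. -/
theorem taylor (hF : Filt Γ) (K : ℕ) (hK : Γ K = ⊥) (u : ℕ → G) (hu : Poly Γ u) :
    ∃ a : ℕ → G, (∀ j, a j ∈ Γ j) ∧ ∀ n, u n = tay a K n := by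
  obtain ⟨a, ha, w, hw, hw0, huw⟩ := taylor_aux hF u hu K
  refine ⟨a, ha, fun n => ?_⟩
  have h1 : ∀ n, (D^[K] w) n = 1 := by
    intro n
    have := (hw K).iter n
    rw [zero_add, hK, Subgroup.mem_bot] at this
    exact this
  rw [huw n, eq_one_of_iter K w h1 hw0 n, mul_one]

/-- Hall–Petrescu: `x^n y^n = (xy)^n a_2^{C(n,2)} ⋯` in Taylor form. -/
theorem hall_petrescu (hF : Filt Γ) (K : ℕ) (hK : Γ (K + 2) = ⊥) (x y : G) (hx : x ∈ Γ 1)
    (hy : y ∈ Γ 1) :
    ∃ a : ℕ → G, (∀ j, a j ∈ Γ j) ∧ a 0 = 1 ∧ a 1 = 1 ∧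
      ∀ n, x ^ n * y ^ n = (x * y) ^ n * tay a (K + 2) n := by
  have hu : Poly Γ ((fun n => (x * y) ^ n)⁻¹ * ((fun n => x ^ n) * (fun n => y ^ n))) :=
    ((poly_pow hF.anti (x * y) (mul_mem hx hy)).inv hF).mul hF
      ((poly_pow hF.anti x hx).mul hF (poly_pow hF.anti y hy))
  obtain ⟨a, ha, hau⟩ := taylor hF (K + 2) hK _ hu
  have h0 := hau 0
  have h1 := hau 1
  rw [tay_zero_right] at h0
  rw [tay_one_right] at h1
  simp only [Pi.mul_apply, Pi.inv_apply, pow_zero, inv_one, mul_one] at h0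
  simp only [Pi.mul_apply, Pi.inv_apply, pow_one, inv_mul_cancel, ← h0, one_mul] at h1
  refine ⟨a, ha, h0.symm, h1.symm, fun n => ?_⟩
  rw [← hau n]
  simp only [Pi.mul_apply, Pi.inv_apply]
  group

end Cfsg.Agent.Lib.Helper4.HP
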