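import Mathlib
import Cfsg.Prelude.Def_SporCoxeter

/-! The Higman-Sims group of order 44352000 presented on generators `a`, `b` of the Mathieu group M11 (satisfying the relators of `M11p`) and an involution `t` (generated). -/

namespace Cfsg.Agent.Lib.Helper4

namespace HSp

/-- the generators -/
inductive Gen
  | a
  | b
  | t
  deriving DecidableEq

abbrev a : FreeGroup Gen := FreeGroup.of Gen.a
abbrev b : FreeGroup Gen := FreeGroup.of Gen.b
abbrev t : FreeGroup Gen := FreeGroup.of Gen.t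

/-- no Coxeter graph -/
def edges : List (Gen × ℕ × Gen) := []

/-- the relators -/
def extra : List (FreeGroup Gen) := [
  a ^ 2,
  b ^ 4,
  (a * b) ^ 11,
  (a * b * b) ^ 6,
  a * b * a * b * a * b⁻¹ * a * b * a * b * b * a * b⁻¹ * a * b * a * b⁻¹ * a * b⁻¹,
  t ^ 2,
  (a * b * t * b⁻¹) ^ 2,
  b * b * t * b * b * t * b⁻¹ * b⁻¹ * t,
  (a * t) ^ 5,
  (a * b * a * b⁻¹ * t * b) ^ 2,
  (b * t) ^ 6,
  (a * t * b⁻¹ * t * b * t) ^ 3,
  (a * b⁻¹ * t * a * t) ^ 4 ]

end HSp

end Cfsg.Agent.Lib.Helper4
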