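import Mathlib
import Cfsg.Agent.S1695

/-! The order, the faithful permutation representation and the simplicity of the presented Held group, restated from
the proof of statement S1695 for use in the library. -/

set_option autoImplicit false

namespace Cfsg.Agent.Lib.Helper4.HeMain

open Cfsg.Agent.Lib.Helper4.TC Cfsg.Agent.Lib.Helper4.TCD

/-- the order and the faithful permutation representation -/
theorem order_aux : Finite PHe.P.Grp ∧ Function.Injective He1.inst.phi ∧ Nat.card PHe.P.Grp = 4030387200 :=
  Cfsg.Agent.S1695.order_aux

/-- the presented Held group is simple -/
theorem simple_aux : IsSimpleGroup PHe.P.Grp := Cfsg.Agent.S1695.simple_aux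

end Cfsg.Agent.Lib.Helper4.HeMain
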