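import Cfsg.Agent.Lib.Helper4.TCD_S44pU1_Acc

namespace Cfsg.Agent.Lib.Helper4.TCD.S44pU1

open Cfsg.Agent.Lib.Helper4.TC

set_option maxRecDepth 100000
set_option Elab.async false

theorem c_rel_37 : allRange D.relOK 509312 3852 = true := by decide +kernel
theorem c_rel_38 : allRange D.relOK 513164 3478 = true := by decide +kernel
theorem c_rel_39 : allRange D.relOK 516642 3014 = true := by decide +kernel
theorem c_rel_40 : allRange D.relOK 519656 2430 = true := by decide +kernel
theorem c_rel_41 : allRange D.relOK 522086 3508 = true := by decide +kernel
theorem c_rel_42 : allRange D.relOK 525594 3081 = true := by decide +kernel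
theorem c_rel_43 : allRange D.relOK 528675 2576 = true := by decide +kernel
theorem c_rel_44 : allRange D.relOK 531251 3129 = true := by decide +kernel
theorem c_rel_45 : allRange D.relOK 534380 2671 = true := by decide +kernel
theorem c_rel_46 : allRange D.relOK 537051 2894 = true := by decide +kernel
theorem c_rel_47 : allRange D.relOK 539945 2836 = true := by decide +kernel
theorem c_rel_48 : allRange D.relOK 542781 2670 = true := by decide +kernel
theorem c_rel_49 : allRange D.relOK 545451 2805 = true := by decide +kernel
theorem c_rel_50 : allRange D.relOK 548256 2475 = true := by decide +kernel
theorem c_rel_51 : allRange D.relOK 550731 2196 = true := by decide +kernel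
theorem c_rel_52 : allRange D.relOK 552927 2451 = true := by decide +kernel
theorem c_rel_53 : allRange D.relOK 555378 2150 = true := by decide +kernel
theorem c_rel_54 : allRange D.relOK 557528 2012 = true := by decide +kernel
theorem c_rel_55 : allRange D.relOK 559540 2371 = true := by decide +kernel
theorem c_rel_56 : allRange D.relOK 561911 2247 = true := by decide +kernel
theorem c_rel_57 : allRange D.relOK 564158 2600 = true := by decide +kernel
theorem c_rel_58 : allRange D.relOK 566758 2193 = true := by decide +kernel
theorem c_rel_59 : allRange D.relOK 568951 2360 = true := by decide +kernel
theorem c_rel_60 : allRange D.relOK 571311 2463 = true := by decide +kernel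
theorem c_rel_61 : allRange D.relOK 573774 2179 = true := by decide +kernel
theorem c_rel_62 : allRange D.relOK 575953 2254 = true := by decide +kernel
theorem c_rel_63 : allRange D.relOK 578207 2218 = true := by decide +kernel
theorem c_rel_64 : allRange D.relOK 580425 2244 = true := by decide +kernel
theorem c_rel_65 : allRange D.relOK 582669 2213 = true := by decide +kernel
theorem c_rel_66 : allRange D.relOK 584882 2094 = true := by decide +kernel
theorem c_rel_67 : allRange D.relOK 586976 2413 = true := by decide +kernel
theorem c_rel_68 : allRange D.relOK 589389 1950 = true := by decide +kernel
theorem c_rel_69 : allRange D.relOK 591339 2061 = true := by decide +kernel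
theorem c_rel_70 : allRange D.relOK 593400 1815 = true := by decide +kernel
theorem c_rel_71 : allRange D.relOK 595215 2110 = true := by decide +kernel
theorem c_rel_72 : allRange D.relOK 597325 3503 = true := by decide +kernel
theorem c_rel_73 : allRange D.relOK 600828 3169 = true := by decide +kernel
theorem c_rel_74 : allRange D.relOK 603997 2203 = true := by decide +kernel
theorem c_rel_75 : allRange D.relOK 606200 1870 = true := by decide +kernel
theorem c_rel_76 : allRange D.relOK 608070 2478 = true := by decide +kernel
theorem c_rel_77 : allRange D.relOK 610548 2517 = true := by decide +kernel
theorem c_rel_78 : allRange D.relOK 613065 3398 = true := by decide +kernel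
theorem c_rel_79 : allRange D.relOK 616463 3439 = true := by decide +kernel
theorem c_rel_80 : allRange D.relOK 619902 3504 = true := by decide +kernel
theorem c_rel_81 : allRange D.relOK 623406 3495 = true := by decide +kernel
theorem c_rel_82 : allRange D.relOK 626901 3496 = true := by decide +kernel
theorem c_rel_83 : allRange D.relOK 630397 3495 = true := by decide +kernel
theorem c_rel_84 : allRange D.relOK 633892 3513 = true := by decide +kernel
theorem c_rel_85 : allRange D.relOK 637405 3487 = true := by decide +kernel
theorem c_rel_86 : allRange D.relOK 640892 3466 = true := by decide +kernel
theorem c_rel_87 : allRange D.relOK 644358 3464 = true := by decide +kernel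
theorem c_rel_88 : allRange D.relOK 647822 3459 = true := by decide +kernel
theorem c_rel_89 : allRange D.relOK 651281 3441 = true := by decide +kernel
theorem c_rel_90 : allRange D.relOK 654722 3447 = true := by decide +kernel
theorem c_rel_91 : allRange D.relOK 658169 3446 = true := by decide +kernel
theorem c_rel_92 : allRange D.relOK 661615 3445 = true := by decide +kernel
theorem c_rel_93 : allRange D.relOK 665060 3466 = true := by decide +kernel
theorem c_rel_94 : allRange D.relOK 668526 3463 = true := by decide +kernel
theorem c_rel_95 : allRange D.relOK 671989 3465 = true := by decide +kernel
theorem c_rel_96 : allRange D.relOK 675454 3451 = true := by decide +kernel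
theorem c_rel_97 : allRange D.relOK 678905 3455 = true := by decide +kernel
theorem c_rel_98 : allRange D.relOK 682360 3463 = true := by decide +kernel
theorem c_rel_99 : allRange D.relOK 685823 3390 = true := by decide +kernel
theorem c_rel_100 : allRange D.relOK 689213 3442 = true := by decide +kernel
theorem c_rel_101 : allRange D.relOK 692655 2920 = true := by decide +kernel
theorem c_rel_102 : allRange D.relOK 695575 2782 = true := by decide +kernel
theorem c_rel_103 : allRange D.relOK 698357 2664 = true := by decide +kernel
theorem c_rel_104 : allRange D.relOK 701021 2650 = true := by decide +kernel
theorem c_rel_105 : allRange D.relOK 703671 2469 = true := by decide +kernel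
theorem c_rel_106 : allRange D.relOK 706140 2416 = true := by decide +kernel
theorem c_rel_107 : allRange D.relOK 708556 2670 = true := by decide +kernel
theorem c_rel_108 : allRange D.relOK 711226 2439 = true := by decide +kernel
theorem c_rel_109 : allRange D.relOK 713665 3010 = true := by decide +kernel
theorem c_rel_110 : allRange D.relOK 716675 2204 = true := by decide +kernel
theorem c_rel_111 : allRange D.relOK 718879 2796 = true := by decide +kernel
theorem c_rel_112 : allRange D.relOK 721675 3079 = true := by decide +kernel
theorem c_rel_113 : allRange D.relOK 724754 3078 = true := by decide +kernel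
theorem c_rel_114 : allRange D.relOK 727832 3096 = true := by decide +kernel
theorem c_rel_115 : allRange D.relOK 730928 2655 = true := by decide +kernel
theorem c_rel_116 : allRange D.relOK 733583 2584 = true := by decide +kernel
theorem c_rel_117 : allRange D.relOK 736167 2809 = true := by decide +kernel
theorem c_rel_118 : allRange D.relOK 738976 2464 = true := by decide +kernel
theorem c_rel_119 : allRange D.relOK 741440 2898 = true := by decide +kernel
theorem c_rel_120 : allRange D.relOK 744338 2482 = true := by decide +kernel
theorem c_rel_121 : allRange D.relOK 746820 2511 = true := by decide +kernel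
theorem c_rel_122 : allRange D.relOK 749331 2540 = true := by decide +kernel
theorem c_rel_123 : allRange D.relOK 751871 2654 = true := by decide +kernel
theorem c_rel_124 : allRange D.relOK 754525 2323 = true := by decide +kernel
theorem c_rel_125 : allRange D.relOK 756848 2591 = true := by decide +kernel
theorem c_rel_126 : allRange D.relOK 759439 2794 = true := by decide +kernel
theorem c_rel_127 : allRange D.relOK 762233 2438 = true := by decide +kernel
theorem c_rel_128 : allRange D.relOK 764671 2532 = true := by decide +kernel
theorem c_rel_129 : allRange D.relOK 767203 2457 = true := by decide +kernel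
theorem c_rel_130 : allRange D.relOK 769660 2600 = true := by decide +kernel
theorem c_rel_131 : allRange D.relOK 772260 2186 = true := by decide +kernel
theorem c_rel_132 : allRange D.relOK 774446 2289 = true := by decide +kernel
theorem c_rel_133 : allRange D.relOK 776735 2334 = true := by decide +kernel
theorem c_rel_134 : allRange D.relOK 779069 2140 = true := by decide +kernel
theorem c_rel_135 : allRange D.relOK 781209 2256 = true := by decide +kernel

end Cfsg.Agent.Lib.Helper4.TCD.S44pU1
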