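import Cfsg.Agent.Lib.Helper4.TCD_S44pU1_Acc

namespace Cfsg.Agent.Lib.Helper4.TCD.S44pU1

open Cfsg.Agent.Lib.Helper4.TC

set_option maxRecDepth 100000
set_option Elab.async false

theorem c_rel_136 : allRange D.relOK 783465 2379 = true := by decide +kernel
theorem c_rel_137 : allRange D.relOK 785844 2332 = true := by decide +kernel
theorem c_rel_138 : allRange D.relOK 788176 2203 = true := by decide +kernel
theorem c_rel_139 : allRange D.relOK 790379 2359 = true := by decide +kernel
theorem c_rel_140 : allRange D.relOK 792738 2309 = true := by decide +kernel
theorem c_rel_141 : allRange D.relOK 795047 2251 = true := by decide +kernel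
theorem c_rel_142 : allRange D.relOK 797298 2107 = true := by decide +kernel
theorem c_rel_143 : allRange D.relOK 799405 2180 = true := by decide +kernel
theorem c_rel_144 : allRange D.relOK 801585 2107 = true := by decide +kernel
theorem c_rel_145 : allRange D.relOK 803692 2127 = true := by decide +kernel
theorem c_rel_146 : allRange D.relOK 805819 2310 = true := by decide +kernel
theorem c_rel_147 : allRange D.relOK 808129 2279 = true := by decide +kernel
theorem c_rel_148 : allRange D.relOK 810408 2106 = true := by decide +kernel
theorem c_rel_149 : allRange D.relOK 812514 2185 = true := by decide +kernel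
theorem c_rel_150 : allRange D.relOK 814699 2323 = true := by decide +kernel
theorem c_rel_151 : allRange D.relOK 817022 2048 = true := by decide +kernel
theorem c_rel_152 : allRange D.relOK 819070 2174 = true := by decide +kernel
theorem c_rel_153 : allRange D.relOK 821244 2023 = true := by decide +kernel
theorem c_rel_154 : allRange D.relOK 823267 2102 = true := by decide +kernel
theorem c_rel_155 : allRange D.relOK 825369 1889 = true := by decide +kernel
theorem c_rel_156 : allRange D.relOK 827258 2044 = true := by decide +kernel
theorem c_rel_157 : allRange D.relOK 829302 2203 = true := by decide +kernel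
theorem c_rel_158 : allRange D.relOK 831505 2148 = true := by decide +kernel
theorem c_rel_159 : allRange D.relOK 833653 1866 = true := by decide +kernel
theorem c_rel_160 : allRange D.relOK 835519 1939 = true := by decide +kernel
theorem c_rel_161 : allRange D.relOK 837458 1861 = true := by decide +kernel
theorem c_rel_162 : allRange D.relOK 839319 1820 = true := by decide +kernel
theorem c_rel_163 : allRange D.relOK 841139 1838 = true := by decide +kernel
theorem c_rel_164 : allRange D.relOK 842977 1692 = true := by decide +kernel
theorem c_rel_165 : allRange D.relOK 844669 1734 = true := by decide +kernel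
theorem c_rel_166 : allRange D.relOK 846403 1729 = true := by decide +kernel
theorem c_rel_167 : allRange D.relOK 848132 2681 = true := by decide +kernel
theorem c_rel_168 : allRange D.relOK 850813 4890 = true := by decide +kernel
theorem c_rel_169 : allRange D.relOK 855703 4866 = true := by decide +kernel
theorem c_rel_170 : allRange D.relOK 860569 4883 = true := by decide +kernel
theorem c_rel_171 : allRange D.relOK 865452 4906 = true := by decide +kernel
theorem c_rel_172 : allRange D.relOK 870358 4893 = true := by decide +kernel
theorem c_rel_173 : allRange D.relOK 875251 4875 = true := by decide +kernel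
theorem c_rel_174 : allRange D.relOK 880126 4861 = true := by decide +kernel
theorem c_rel_175 : allRange D.relOK 884987 4866 = true := by decide +kernel
theorem c_rel_176 : allRange D.relOK 889853 4880 = true := by decide +kernel
theorem c_rel_177 : allRange D.relOK 894733 4879 = true := by decide +kernel
theorem c_rel_178 : allRange D.relOK 899612 4862 = true := by decide +kernel
theorem c_rel_179 : allRange D.relOK 904474 4870 = true := by decide +kernel
theorem c_rel_180 : allRange D.relOK 909344 4872 = true := by decide +kernel
theorem c_rel_181 : allRange D.relOK 914216 4867 = true := by decide +kernel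
theorem c_rel_182 : allRange D.relOK 919083 4853 = true := by decide +kernel
theorem c_rel_183 : allRange D.relOK 923936 4866 = true := by decide +kernel
theorem c_rel_184 : allRange D.relOK 928802 4873 = true := by decide +kernel
theorem c_rel_185 : allRange D.relOK 933675 4838 = true := by decide +kernel
theorem c_rel_186 : allRange D.relOK 938513 4854 = true := by decide +kernel
theorem c_rel_187 : allRange D.relOK 943367 4848 = true := by decide +kernel
theorem c_rel_188 : allRange D.relOK 948215 4849 = true := by decide +kernel
theorem c_rel_189 : allRange D.relOK 953064 4859 = true := by decide +kernel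
theorem c_rel_190 : allRange D.relOK 957923 4850 = true := by decide +kernel
theorem c_rel_191 : allRange D.relOK 962773 4847 = true := by decide +kernel
theorem c_rel_192 : allRange D.relOK 967620 4856 = true := by decide +kernel
theorem c_rel_193 : allRange D.relOK 972476 4825 = true := by decide +kernel
theorem c_rel_194 : allRange D.relOK 977301 4821 = true := by decide +kernel
theorem c_rel_195 : allRange D.relOK 982122 4843 = true := by decide +kernel
theorem c_rel_196 : allRange D.relOK 986965 4821 = true := by decide +kernel
theorem c_rel_197 : allRange D.relOK 991786 4836 = true := by decide +kernel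
theorem c_rel_198 : allRange D.relOK 996622 4827 = true := by decide +kernel
theorem c_rel_199 : allRange D.relOK 1001449 4225 = true := by decide +kernel
theorem c_fin_0 : allGrid (T.finOK D) 0 2000 6 = true := by decide +kernel
theorem c_fin_1 : allGrid (T.finOK D) 2000 2000 6 = true := by decide +kernel
theorem c_fin_2 : allGrid (T.finOK D) 4000 2000 6 = true := by decide +kernel
theorem c_fin_3 : allGrid (T.finOK D) 6000 2000 6 = true := by decide +kernel
theorem c_fin_4 : allGrid (T.finOK D) 8000 2000 6 = true := by decide +kernel
theorem c_fin_5 : allGrid (T.finOK D) 10000 2000 6 = true := by decide +kernel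
theorem c_fin_6 : allGrid (T.finOK D) 12000 2000 6 = true := by decide +kernel
theorem c_fin_7 : allGrid (T.finOK D) 14000 2000 6 = true := by decide +kernel
theorem c_fin_8 : allGrid (T.finOK D) 16000 2000 6 = true := by decide +kernel
theorem c_fin_9 : allGrid (T.finOK D) 18000 2000 6 = true := by decide +kernel
theorem c_fin_10 : allGrid (T.finOK D) 20000 2000 6 = true := by decide +kernel
theorem c_fin_11 : allGrid (T.finOK D) 22000 2000 6 = true := by decide +kernel
theorem c_fin_12 : allGrid (T.finOK D) 24000 2000 6 = true := by decide +kernel
theorem c_fin_13 : allGrid (T.finOK D) 26000 2000 6 = true := by decide +kernel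
theorem c_fin_14 : allGrid (T.finOK D) 28000 2000 6 = true := by decide +kernel
theorem c_fin_15 : allGrid (T.finOK D) 30000 2000 6 = true := by decide +kernel
theorem c_fin_16 : allGrid (T.finOK D) 32000 2000 6 = true := by decide +kernel
theorem c_fin_17 : allGrid (T.finOK D) 34000 2000 6 = true := by decide +kernel

end Cfsg.Agent.Lib.Helper4.TCD.S44pU1
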