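import Cfsg.Agent.Lib.Helper4.TCD_S44pU1_Acc

namespace Cfsg.Agent.Lib.Helper4.TCD.S44pU1

open Cfsg.Agent.Lib.Helper4.TC

set_option maxRecDepth 100000
set_option Elab.async false

theorem c_fin_18 : allGrid (T.finOK D) 36000 2000 6 = true := by decide +kernel
theorem c_fin_19 : allGrid (T.finOK D) 38000 2000 6 = true := by decide +kernel
theorem c_fin_20 : allGrid (T.finOK D) 40000 2000 6 = true := by decide +kernel
theorem c_fin_21 : allGrid (T.finOK D) 42000 2000 6 = true := by decide +kernel
theorem c_fin_22 : allGrid (T.finOK D) 44000 2000 6 = true := by decide +kernel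
theorem c_fin_23 : allGrid (T.finOK D) 46000 2000 6 = true := by decide +kernel
theorem c_fin_24 : allGrid (T.finOK D) 48000 2000 6 = true := by decide +kernel
theorem c_fin_25 : allGrid (T.finOK D) 50000 2000 6 = true := by decide +kernel
theorem c_fin_26 : allGrid (T.finOK D) 52000 2000 6 = true := by decide +kernel
theorem c_fin_27 : allGrid (T.finOK D) 54000 2000 6 = true := by decide +kernel
theorem c_fin_28 : allGrid (T.finOK D) 56000 1600 6 = true := by decide +kernel
theorem c_perm_0 : allGrid (T.permOK1 D) 0 5000 6 = true := by decide +kernel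
theorem c_perm_1 : allGrid (T.permOK1 D) 5000 5000 6 = true := by decide +kernel
theorem c_perm_2 : allGrid (T.permOK1 D) 10000 5000 6 = true := by decide +kernel
theorem c_perm_3 : allGrid (T.permOK1 D) 15000 5000 6 = true := by decide +kernel
theorem c_perm_4 : allGrid (T.permOK1 D) 20000 5000 6 = true := by decide +kernel
theorem c_perm_5 : allGrid (T.permOK1 D) 25000 5000 6 = true := by decide +kernel
theorem c_perm_6 : allGrid (T.permOK1 D) 30000 5000 6 = true := by decide +kernel
theorem c_perm_7 : allGrid (T.permOK1 D) 35000 5000 6 = true := by decide +kernel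
theorem c_perm_8 : allGrid (T.permOK1 D) 40000 5000 6 = true := by decide +kernel
theorem c_perm_9 : allGrid (T.permOK1 D) 45000 5000 6 = true := by decide +kernel
theorem c_perm_10 : allGrid (T.permOK1 D) 50000 5000 6 = true := by decide +kernel
theorem c_perm_11 : allGrid (T.permOK1 D) 55000 2600 6 = true := by decide +kernel

end Cfsg.Agent.Lib.Helper4.TCD.S44pU1
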