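import Mathlib
import Cfsg.Agent.Lib.Helper4.S44pMain
import Cfsg.Agent.Lib.Helper4.TCD_SS44pp3A_Fin
import Cfsg.Agent.Lib.Helper4.TCD_SS44pp3W
import Cfsg.Agent.Lib.Helper4.StemLib8
import Cfsg.Agent.Lib.Helper4.S44pSub

/-! `S44p` has no stem extension with kernel of order 3 (generated). -/

namespace Cfsg.Agent.Lib.Helper4.SS44pp3Main

open Cfsg.Agent.Lib.Helper4.TC Cfsg.Agent.Lib.Helper4.TCD Cfsg.Agent.Lib.Helper4.TC.Log Cfsg.Agent.Lib.Helper4.Stem

/-- the description of the auxiliary presentation -/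
def spec : Spec4 :=
  { p := 3
    items := [(0, [], 17),
      (2, [], 2),
      (4, [], 2),
      (6, [2, 4, 2, 4], 0),
      (8, [0, 4, 0, 4, 0, 4, 0, 4, 0, 4], 0),
      (10, [0, 2, 1, 2, 4, 1, 2, 0, 4, 0, 4, 2, 0, 4, 2, 0, 4], 0),
      (12, [0, 0, 2, 0, 4, 0, 4, 1, 1, 2, 1, 4, 0, 4, 0, 2, 0, 2], 0)]
    cen := [6, 8, 10, 12]
    R := []
    sub := [0, 2]
    PR := [[0, 0, 0, 0, 0, 0, 0, 0, 0, 0, 0, 0, 0, 0, 0, 0, 0], [2, 2], [0, 0, 0, 2, 1, 2, 0, 2, 0, 0, 0, 2, 1, 2, 0, 2], [0, 0, 0, 0, 0, 2, 0, 0, 0, 0, 0, 2, 0, 0, 0, 0, 0, 2]]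
    XR := [] }

/-- the letters of the auxiliary presentation as words of the base group -/
def Wl (l : ℕ) : List ℕ :=
  [[0], [1], [2], [3], [4], [5], [], [], [], [], [], [], [], []].getD l []

theorem checks_eq : checks spec.toSpec2 PS44p.P.invR Wl ++ checksX spec PSS44pp3.P.invR Wl = SS44pp3W.chkAll := by decide +kernel

theorem sub_eq : Subgroup.closure (xw PS44p.P Wl '' {l | l ∈ spec.sub}) = Inst.subG PS44p.P S44pB.subs := by
  rw [closure_xw_eq]
  rfl

set_option maxRecDepth 100000 in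
theorem noStem : NoStemPrime PS44p.P.Grp 3 := by
  obtain ⟨fG, hinj, hcard⟩ := S44pMain.order_aux
  have hall : ∀ w ∈ checks spec.toSpec2 PS44p.P.invR Wl ++ checksX spec PSS44pp3.P.invR Wl, wordP PS44p.P.gR w = 1 := by
    rw [checks_eq]
    intro w hw
    exact S44pA.inst.word_eq_one hinj w (SS44pp3W.hAll_lt w hw) (SS44pp3W.hAll w hw)
  exact noStemPrime_pres4 PS44p.P PS44p.valid PSS44pp3.P PSS44pp3.valid spec (by show Nat.Prime 3; norm_num) Wl
    (by decide +kernel) (by decide +kernel) (fun w hw => hall w (List.mem_append_left _ hw))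
    (fun w hw => hall w (List.mem_append_right _ hw)) (by decide +kernel)
    (by rw [sub_eq]; exact S44pSub.liftsP_sub 3 (by norm_num))
    4080 (by rw [sub_eq]; exact S44pSub.sub_card.2)
    240 (by decide) SS44pp3A.index_eq fG 979200 hcard (by decide)

end Cfsg.Agent.Lib.Helper4.SS44pp3Main
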