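import Mathlib
import Cfsg.Agent.Lib.Helper4.SS44pp2Main
import Cfsg.Agent.Lib.Helper4.SS44pp3Main
import Cfsg.Agent.Lib.Helper4.SS44pp5Main
import Cfsg.Agent.Lib.Helper4.S44pMain
import Cfsg.Agent.Lib.Helper4.StemLib2
import Cfsg.Agent.Lib.Helper4.AbelCert
import Cfsg.Agent.Lib.Helper4.StemLib6
import Cfsg.Agent.Lib.Helper4.RelLib

/-!
The presented group `S44p` (the symplectic group S4(4)) is perfect and has no stem extension with kernel of prime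
order.
-/

set_option autoImplicit false

namespace Cfsg.Agent.Lib.Helper4.S44pStem

open Cfsg Cfsg.Agent.Lib.Helper4.TC Cfsg.Agent.Lib.Helper4.TCD Cfsg.Agent.Lib.Helper4.TC.Log
  Cfsg.Agent.Lib.Helper4.Stem Cfsg.Agent.Lib.Helper4.AbelCert

theorem cert0 : PS44p.P.gR 0 ∈ commutator PS44p.P.Grp := by
  apply mem_commutator_of_perm PS44p.P PS44p.valid 0
    [[0, 0, 0, 0, 0, 0, 0, 0, 0, 0, 0, 0, 0, 0, 0, 0, 0], [3, 1, 3, 0, 3, 1, 1, 1, 3, 1, 3, 0, 3, 1, 1, 1], [4, 4], [4, 4], [2, 4, 2, 4], [2, 4, 2, 4], [2, 4, 2, 4], [5, 1, 5, 1, 5, 1, 5, 1, 5, 1], [5, 1, 5, 1, 5, 1, 5, 1, 5, 1]]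
    (by decide +kernel) (by decide +kernel)
    [0, 0, 0, 0, 0, 0, 0, 0, 0, 0, 0, 0, 0, 0, 0, 0, 0, 0, 2, 2, 2, 2, 2, 2, 4, 4, 4, 4, 4, 4, 4, 4, 4, 4]
    (by decide +kernel) (by decide +kernel)

theorem cert2 : PS44p.P.gR 2 ∈ commutator PS44p.P.Grp := by
  apply mem_commutator_of_perm PS44p.P PS44p.valid 2
    [[3, 3], [4, 4], [5, 1, 5, 1, 5, 1, 5, 1, 5, 1], [5, 1, 3, 5, 1, 3, 5, 1, 5, 1, 3, 0, 5, 3, 0, 3, 1], [0, 0, 2, 0, 4, 0, 4, 1, 1, 2, 1, 4, 0, 4, 0, 2, 0, 2], [0, 0, 2, 0, 4, 0, 4, 1, 1, 2, 1, 4, 0, 4, 0, 2, 0, 2]]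
    (by decide +kernel) (by decide +kernel)
    [0, 0, 0, 0, 0, 0, 0, 0, 0, 0, 0, 0, 0, 0, 0, 0, 2, 2, 2, 2, 2, 2, 2, 4, 4, 4, 4, 4, 4, 4, 4, 4, 4]
    (by decide +kernel) (by decide +kernel)

theorem cert4 : PS44p.P.gR 4 ∈ commutator PS44p.P.Grp := by
  apply mem_commutator_of_perm PS44p.P PS44p.valid 4
    [[1, 1, 1, 1, 1, 1, 1, 1, 1, 1, 1, 1, 1, 1, 1, 1, 1], [3, 3], [3, 3], [3, 3], [3, 3], [0, 0, 0, 2, 1, 2, 0, 2, 0, 0, 0, 2, 1, 2, 0, 2], [0, 0, 0, 2, 1, 2, 0, 2, 0, 0, 0, 2, 1, 2, 0, 2], [5, 3, 5, 3], [5, 3, 5, 3], [0, 4, 0, 4, 0, 4, 0, 4, 0, 4]]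
    (by decide +kernel) (by decide +kernel)
    [0, 0, 0, 0, 0, 0, 0, 0, 0, 0, 0, 0, 0, 0, 0, 0, 0, 0, 0, 0, 0, 2, 2, 2, 2, 2, 2, 2, 2, 2, 2, 2, 2, 4, 4, 4, 4]
    (by decide +kernel) (by decide +kernel)

/-- the generators are products of commutators -/
theorem gR_mem_commutator (l : ℕ) (hl : l < 6) : PS44p.P.gR l ∈ commutator PS44p.P.Grp := by
  have hinv : ∀ y, y < 6 → PS44p.P.gR (PS44p.P.invR y) = (PS44p.P.gR y)⁻¹ := fun y hy =>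
    (PS44p.valid.invR_sound y (by show y ≤ 6; omega)).2
  interval_cases l
  · exact cert0
  · rw [show (1 : ℕ) = PS44p.P.invR 0 from rfl, hinv 0 (by decide)]
    exact Subgroup.inv_mem _ cert0
  · exact cert2
  · rw [show (3 : ℕ) = PS44p.P.invR 2 from rfl, hinv 2 (by decide)]
    exact Subgroup.inv_mem _ cert2
  · exact cert4
  · rw [show (5 : ℕ) = PS44p.P.invR 4 from rfl, hinv 4 (by decide)]
    exact Subgroup.inv_mem _ cert4

theorem perfect : commutator PS44p.P.Grp = ⊤ :=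
  commutator_eq_top_of_letters PS44p.P PS44p.valid gR_mem_commutator

/-- no stem extension with kernel of prime order -/
theorem noStem : ∀ p, p.Prime → NoStemPrime PS44p.P.Grp p := by
  obtain ⟨fG, _, hcard⟩ := S44pMain.order_aux
  have := fG
  apply noStemPrime_all PS44p.P.Grp [2, 3, 5]
  · intro p hp
    simp only [List.mem_cons, List.not_mem_nil, or_false] at hp
    rcases hp with rfl | rfl | rfl
    · exact SS44pp2Main.noStem
    · exact SS44pp3Main.noStem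
    · exact SS44pp5Main.noStem
  · rw [hcard]
    exact sq_dvd_mem_of_factors 979200 [2, 2, 2, 2, 2, 2, 2, 2, 3, 3, 5, 5, 17] (by norm_num) (by decide) [2, 3, 5]
      (by decide)

end Cfsg.Agent.Lib.Helper4.S44pStem
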