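import Cfsg.Agent.Lib.Helper4.TCD_He1_Acc
import Cfsg.Agent.Lib.Helper4.TC13

namespace Cfsg.Agent.Lib.Helper4.TCD.HeS

open Cfsg.Agent.Lib.Helper4.TC Cfsg.Agent.Lib.Helper4.TCD.He1

set_option maxRecDepth 100000
set_option Elab.async false

def chk0 : List Nat := [2, 3, 1, 2, 3, 4, 1, 2, 3, 4, 1, 2, 3, 4, 1, 2, 3, 4, 1, 2, 3, 4, 1, 2, 3, 4, 1, 2, 3, 4, 5, 2, 3, 1, 2, 3, 4, 1, 2, 3, 4, 1, 2, 3, 4, 1, 2, 3, 4, 1, 2, 3, 4, 1, 2, 3, 4, 1, 2, 3, 4, 5, 2, 3, 1, 2, 3, 4, 1, 2, 3, 4, 1, 2, 3, 4, 1, 2, 3, 4, 1, 2, 3, 4, 1, 2, 3, 4, 1, 2, 3, 4, 5, 2, 3, 1, 2, 3, 4, 1, 2, 3, 4, 1, 2, 3, 4, 1, 2, 3, 4, 1, 2, 3, 4, 1, 2, 3, 4, 1, 2, 3, 4, 5, 2, 3, 1, 2, 3, 4, 1, 2, 3, 4, 1, 2, 3, 4, 1, 2, 3, 4, 1, 2, 3, 4, 1, 2, 3, 4, 1, 2, 3, 4, 5, 2, 3, 1, 2, 3, 4, 1, 2, 3, 4, 1, 2, 3, 4, 1, 2, 3, 4, 1, 2, 3, 4, 1, 2, 3, 4, 1, 2, 3, 4, 5, 2, 3, 1, 2, 3, 4, 1, 2, 3, 4, 1, 2, 3, 4, 1, 2, 3, 4, 1, 2, 3, 4, 1, 2, 3, 4, 1, 2, 3,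 4, 5, 2, 3, 1, 2, 3, 4, 1, 2, 3, 4, 1, 2, 3, 4, 1, 2, 3, 4, 1, 2, 3, 4, 1, 2, 3, 4, 1, 2, 3, 4, 5, 2, 3, 1, 2, 3, 4, 1, 2, 3, 4, 1, 2, 3, 4, 1, 2, 3, 4, 1, 2, 3, 4, 1, 2, 3, 4, 1, 2, 3, 4, 5, 2, 3, 1, 2, 3, 4, 1, 2, 3, 4, 1, 2, 3, 4, 1, 2, 3, 4, 1, 2, 3, 4, 1, 2, 3, 4, 1, 2, 3, 4, 5, 2, 3, 1, 2, 3, 4, 1, 2, 3, 4, 1, 2, 3, 4, 1, 2, 3, 4, 1, 2, 3, 4, 1, 2, 3, 4, 1, 2, 3, 4, 5, 2, 3, 1, 2, 3, 4, 1, 2, 3, 4, 1, 2, 3, 4, 1, 2, 3, 4, 1, 2, 3, 4, 1, 2, 3, 4, 1, 2, 3, 4, 5, 2, 3, 1, 2, 3, 4, 1, 2, 3, 4, 1, 2, 3, 4, 1, 2, 3, 4, 1, 2, 3, 4, 1, 2, 3, 4, 1, 2, 3, 4, 5, 2, 3, 1, 2, 3, 4, 1, 2, 3, 4, 1, 2, 3, 4, 1, 2, 3, 4, 1, 2, 3, 4, 1, 2, 3, 4, 1, 2, 3, 4, 5, 2, 3, 1, 2, 3, 4, 1, 2, 3, 4, 1, 2, 3, 4, 1, 2, 3, 4, 1, 2, 3, 4, 1, 2, 3, 4, 1, 2, 3, 4, 5, 2, 3, 1, 2, 3, 4, 1, 2, 3, 4, 1, 2, 3, 4, 1, 2, 3, 4, 1, 2, 3, 4, 1, 2, 3, 4, 1, 2, 3, 4, 5, 2, 3, 1, 2, 3, 4, 1, 2, 3, 4, 1, 2, 3, 4, 1, 2, 3, 4, 1, 2, 3, 4, 1,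 2, 3, 4, 1, 2, 3, 4, 5]
noncomputable def act0 (i : Nat) : Nat := col2 (col3 (col1 (col2 (col3 (col4 (col1 (col2 (col3 (col4 (col1 (col2 (col3 (col4 (col1 (col2 (col3 (col4 (col1 (col2 (col3 (col4 (col1 (col2 (col3 (col4 (col1 (col2 (col3 (col4 (col5 (col2 (col3 (col1 (col2 (col3 (col4 (col1 (col2 (col3 (col4 (col1 (col2 (col3 (col4 (col1 (col2 (col3 (col4 (col1 (col2 (col3 (col4 (col1 (col2 (col3 (col4 (col1 (col2 (col3 (col4 (col5 (col2 (col3 (col1 (col2 (col3 (col4 (col1 (col2 (col3 (col4 (col1 (col2 (col3 (col4 (col1 (col2 (col3 (col4 (col1 (col2 (col3 (col4 (col1 (col2 (col3 (col4 (col1 (col2 (col3 (col4 (col5 (col2 (col3 (col1 (col2 (col3 (col4 (col1 (col2 (col3 (col4 (col1 (col2 (col3 (col4 (col1 (col2 (col3 (col4 (col1 (col2 (col3 (col4 (col1 (col2 (col3 (col4 (col1 (col2 (col3 (col4 (col5 (col2 (col3 (col1 (col2 (col3 (col4 (col1 (col2 (col3 (col4 (col1 (col2 (col3 (col4 (col1 (col2 (col3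 (col4 (col1 (col2 (col3 (col4 (col1 (col2 (col3 (col4 (col1 (col2 (col3 (col4 (col5 (col2 (col3 (col1 (col2 (col3 (col4 (col1 (col2 (col3 (col4 (col1 (col2 (col3 (col4 (col1 (col2 (col3 (col4 (col1 (col2 (col3 (col4 (col1 (col2 (col3 (col4 (col1 (col2 (col3 (col4 (col5 (col2 (col3 (col1 (col2 (col3 (col4 (col1 (col2 (col3 (col4 (col1 (col2 (col3 (col4 (col1 (col2 (col3 (col4 (col1 (col2 (col3 (col4 (col1 (col2 (col3 (col4 (col1 (col2 (col3 (col4 (col5 (col2 (col3 (col1 (col2 (col3 (col4 (col1 (col2 (col3 (col4 (col1 (col2 (col3 (col4 (col1 (col2 (col3 (col4 (col1 (col2 (col3 (col4 (col1 (col2 (col3 (col4 (col1 (col2 (col3 (col4 (col5 (col2 (col3 (col1 (col2 (col3 (col4 (col1 (col2 (col3 (col4 (col1 (col2 (col3 (col4 (col1 (col2 (col3 (col4 (col1 (col2 (col3 (col4 (col1 (col2 (col3 (col4 (col1 (col2 (col3 (col4 (col5 (col2 (col3 (col1 (col2 (col3 (col4 (col1 (col2 (col3 (col4 (col1 (col2 (col3 (col4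 (col1 (col2 (col3 (col4 (col1 (col2 (col3 (col4 (col1 (col2 (col3 (col4 (col1 (col2 (col3 (col4 (col5 (col2 (col3 (col1 (col2 (col3 (col4 (col1 (col2 (col3 (col4 (col1 (col2 (col3 (col4 (col1 (col2 (col3 (col4 (col1 (col2 (col3 (col4 (col1 (col2 (col3 (col4 (col1 (col2 (col3 (col4 (col5 (col2 (col3 (col1 (col2 (col3 (col4 (col1 (col2 (col3 (col4 (col1 (col2 (col3 (col4 (col1 (col2 (col3 (col4 (col1 (col2 (col3 (col4 (col1 (col2 (col3 (col4 (col1 (col2 (col3 (col4 (col5 (col2 (col3 (col1 (col2 (col3 (col4 (col1 (col2 (col3 (col4 (col1 (col2 (col3 (col4 (col1 (col2 (col3 (col4 (col1 (col2 (col3 (col4 (col1 (col2 (col3 (col4 (col1 (col2 (col3 (col4 (col5 (col2 (col3 (col1 (col2 (col3 (col4 (col1 (col2 (col3 (col4 (col1 (col2 (col3 (col4 (col1 (col2 (col3 (col4 (col1 (col2 (col3 (col4 (col1 (col2 (col3 (col4 (col1 (col2 (col3 (col4 (col5 (col2 (col3 (col1 (col2 (col3 (col4 (col1 (col2 (col3 (col4 (col1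 (col2 (col3 (col4 (col1 (col2 (col3 (col4 (col1 (col2 (col3 (col4 (col1 (col2 (col3 (col4 (col1 (col2 (col3 (col4 (col5 (col2 (col3 (col1 (col2 (col3 (col4 (col1 (col2 (col3 (col4 (col1 (col2 (col3 (col4 (col1 (col2 (col3 (col4 (col1 (col2 (col3 (col4 (col1 (col2 (col3 (col4 (col1 (col2 (col3 (col4 (col5 (col2 (col3 (col1 (col2 (col3 (col4 (col1 (col2 (col3 (col4 (col1 (col2 (col3 (col4 (col1 (col2 (col3 (col4 (col1 (col2 (col3 (col4 (col1 (col2 (col3 (col4 (col1 (col2 (col3 (col4 (col5 (i)))))))))))))))))))))))))))))))))))))))))))))))))))))))))))))))))))))))))))))))))))))))))))))))))))))))))))))))))))))))))))))))))))))))))))))))))))))))))))))))))))))))))))))))))))))))))))))))))))))))))))))))))))))))))))))))))))))))))))))))))))))))))))))))))))))))))))))))))))))))))))))))))))))))))))))))))))))))))))))))))))))))))))))))))))))))))))))))))))))))))))))))))))))))))))))))))))))))))))))))))))))))))))))))))))))))))))))))))))))))))))))))))))))))))))))))))))))))))))))))))))))))))))))))))))))))))))))))))))))))))))))))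
theorem act0_eq (i : Nat) : act0 i = Tab.act T D chk0 i := rfl
theorem c0_0 : allRange (fun i => Nat.beq (act0 i) i) 0 113 = true := by decide +kernel
theorem c0_1 : allRange (fun i => Nat.beq (act0 i) i) 113 113 = true := by decide +kernel
theorem c0_2 : allRange (fun i => Nat.beq (act0 i) i) 226 113 = true := by decide +kernel
theorem c0_3 : allRange (fun i => Nat.beq (act0 i) i) 339 113 = true := by decide +kernel
theorem c0_4 : allRange (fun i => Nat.beq (act0 i) i) 452 113 = true := by decide +kernel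
theorem c0_5 : allRange (fun i => Nat.beq (act0 i) i) 565 113 = true := by decide +kernel
theorem c0_6 : allRange (fun i => Nat.beq (act0 i) i) 678 113 = true := by decide +kernel
theorem c0_7 : allRange (fun i => Nat.beq (act0 i) i) 791 113 = true := by decide +kernel
theorem c0_8 : allRange (fun i => Nat.beq (act0 i) i) 904 113 = true := by decide +kernel
theorem c0_9 : allRange (fun i => Nat.beq (act0 i) i) 1017 113 = true := by decide +kernel
theorem c0_10 : allRange (fun i => Nat.beq (act0 i) i) 1130 113 = true := by decide +kernel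
theorem c0_11 : allRange (fun i => Nat.beq (act0 i) i) 1243 113 = true := by decide +kernel
theorem c0_12 : allRange (fun i => Nat.beq (act0 i) i) 1356 113 = true := by decide +kernel
theorem c0_13 : allRange (fun i => Nat.beq (act0 i) i) 1469 113 = true := by decide +kernel
theorem c0_14 : allRange (fun i => Nat.beq (act0 i) i) 1582 113 = true := by decide +kernel
theorem c0_15 : allRange (fun i => Nat.beq (act0 i) i) 1695 113 = true := by decide +kernel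
theorem c0_16 : allRange (fun i => Nat.beq (act0 i) i) 1808 113 = true := by decide +kernel
theorem c0_17 : allRange (fun i => Nat.beq (act0 i) i) 1921 113 = true := by decide +kernel
theorem c0_18 : allRange (fun i => Nat.beq (act0 i) i) 2034 24 = true := by decide +kernel
theorem h0 : ∀ i, i < T.N → Tab.relActOK T D chk0 i = true := by
  intro i hi
  rw [Tab.relActOK, ← act0_eq]
  exact (range_glue (range_of_allRange c0_0) (range_glue (range_of_allRange c0_1) (range_glue (range_of_allRange c0_2) (range_glue (range_of_allRange c0_3) (range_glue (range_of_allRange c0_4) (range_glue (range_of_allRange c0_5) (range_glue (range_of_allRange c0_6) (range_glue (range_of_allRange c0_7) (range_glue (range_of_allRange c0_8) (range_glue (range_of_allRange c0_9) (range_glue (range_of_allRange c0_10) (range_glue (range_of_allRange c0_11) (range_glue (range_of_allRange c0_12) (range_glue (range_of_allRange c0_13)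 (range_glue (range_of_allRange c0_14) (range_glue (range_of_allRange c0_15) (range_glue (range_of_allRange c0_16) (range_glue (range_of_allRange c0_17) (range_of_allRange c0_18))))))))))))))))))) i (Nat.zero_le _) hi

def chk1 : List Nat := [4, 4]
noncomputable def act1 (i : Nat) : Nat := col4 (col4 (i))
theorem act1_eq (i : Nat) : act1 i = Tab.act T D chk1 i := rfl
theorem c1_0 : allRange (fun i => Nat.beq (act1 i) i) 0 2058 = true := by decide +kernel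
theorem h1 : ∀ i, i < T.N → Tab.relActOK T D chk1 i = true := by
  intro i hi
  rw [Tab.relActOK, ← act1_eq]
  exact (range_of_allRange c1_0) i (Nat.zero_le _) hi

def chk2 : List Nat := [2, 3, 1, 2, 3, 4, 1, 2, 3, 4, 1, 2, 3, 4, 1, 2, 3, 4, 1, 2, 3, 4, 1, 2, 3, 4, 1, 2, 3, 4, 5, 2, 3, 1, 2, 3, 4, 1, 2, 3, 4, 1, 2, 3, 4, 1, 2, 3, 4, 1, 2, 3, 4, 1, 2, 3, 4, 1, 2, 3, 4, 5, 2, 3, 1, 2, 3, 4, 1, 2, 3, 4, 1, 2, 3, 4, 1, 2, 3, 4, 1, 2, 3, 4, 1, 2, 3, 4, 1, 2, 3, 4, 5, 4, 5, 4, 3, 2, 1, 4, 3, 2, 1, 4, 3, 2, 1, 4, 3, 2, 1, 4, 3, 2, 1, 4, 3, 2, 1, 4, 3, 2, 1, 3, 2, 4, 2, 3, 1, 2, 3, 4, 1, 2, 3, 4, 1, 2, 3, 4, 1, 2, 3, 4, 1, 2, 3, 4, 1, 2, 3, 4, 1, 2, 3, 4, 5, 4, 2, 3, 1, 2, 3, 4, 1, 2, 3, 4, 1, 2, 3, 4, 1, 2, 3, 4, 1, 2, 3, 4, 1, 2, 3, 4, 1, 2, 3, 4, 5, 2, 3, 1, 2, 3, 4, 1, 2, 3, 4, 1, 2, 3, 4, 1, 2, 3, 4, 1, 2, 3, 4, 1, 2, 3, 4, 1, 2, 3, 4, 5, 2, 3, 1, 2, 3, 4, 1, 2, 3, 4, 1, 2, 3, 4, 1, 2, 3, 4, 1, 2, 3,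 4, 1, 2, 3, 4, 1, 2, 3, 4, 5, 4, 5, 4, 3, 2, 1, 4, 3, 2, 1, 4, 3, 2, 1, 4, 3, 2, 1, 4, 3, 2, 1, 4, 3, 2, 1, 4, 3, 2, 1, 3, 2, 4, 2, 3, 1, 2, 3, 4, 1, 2, 3, 4, 1, 2, 3, 4, 1, 2, 3, 4, 1, 2, 3, 4, 1, 2, 3, 4, 1, 2, 3, 4, 5, 4]
noncomputable def act2 (i : Nat) : Nat := col2 (col3 (col1 (col2 (col3 (col4 (col1 (col2 (col3 (col4 (col1 (col2 (col3 (col4 (col1 (col2 (col3 (col4 (col1 (col2 (col3 (col4 (col1 (col2 (col3 (col4 (col1 (col2 (col3 (col4 (col5 (col2 (col3 (col1 (col2 (col3 (col4 (col1 (col2 (col3 (col4 (col1 (col2 (col3 (col4 (col1 (col2 (col3 (col4 (col1 (col2 (col3 (col4 (col1 (col2 (col3 (col4 (col1 (col2 (col3 (col4 (col5 (col2 (col3 (col1 (col2 (col3 (col4 (col1 (col2 (col3 (col4 (col1 (col2 (col3 (col4 (col1 (col2 (col3 (col4 (col1 (col2 (col3 (col4 (col1 (col2 (col3 (col4 (col1 (col2 (col3 (col4 (col5 (col4 (col5 (col4 (col3 (col2 (col1 (col4 (col3 (col2 (col1 (col4 (col3 (col2 (col1 (col4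 (col3 (col2 (col1 (col4 (col3 (col2 (col1 (col4 (col3 (col2 (col1 (col4 (col3 (col2 (col1 (col3 (col2 (col4 (col2 (col3 (col1 (col2 (col3 (col4 (col1 (col2 (col3 (col4 (col1 (col2 (col3 (col4 (col1 (col2 (col3 (col4 (col1 (col2 (col3 (col4 (col1 (col2 (col3 (col4 (col1 (col2 (col3 (col4 (col5 (col4 (col2 (col3 (col1 (col2 (col3 (col4 (col1 (col2 (col3 (col4 (col1 (col2 (col3 (col4 (col1 (col2 (col3 (col4 (col1 (col2 (col3 (col4 (col1 (col2 (col3 (col4 (col1 (col2 (col3 (col4 (col5 (col2 (col3 (col1 (col2 (col3 (col4 (col1 (col2 (col3 (col4 (col1 (col2 (col3 (col4 (col1 (col2 (col3 (col4 (col1 (col2 (col3 (col4 (col1 (col2 (col3 (col4 (col1 (col2 (col3 (col4 (col5 (col2 (col3 (col1 (col2 (col3 (col4 (col1 (col2 (col3 (col4 (col1 (col2 (col3 (col4 (col1 (col2 (col3 (col4 (col1 (col2 (col3 (col4 (col1 (col2 (col3 (col4 (col1 (col2 (col3 (col4 (col5 (col4 (col5 (col4 (col3 (col2 (col1 (col4 (col3 (col2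 (col1 (col4 (col3 (col2 (col1 (col4 (col3 (col2 (col1 (col4 (col3 (col2 (col1 (col4 (col3 (col2 (col1 (col4 (col3 (col2 (col1 (col3 (col2 (col4 (col2 (col3 (col1 (col2 (col3 (col4 (col1 (col2 (col3 (col4 (col1 (col2 (col3 (col4 (col1 (col2 (col3 (col4 (col1 (col2 (col3 (col4 (col1 (col2 (col3 (col4 (col1 (col2 (col3 (col4 (col5 (col4 (i))))))))))))))))))))))))))))))))))))))))))))))))))))))))))))))))))))))))))))))))))))))))))))))))))))))))))))))))))))))))))))))))))))))))))))))))))))))))))))))))))))))))))))))))))))))))))))))))))))))))))))))))))))))))))))))))))))))))))))))))))))))))))))))))))))))))))))))))))))))))))))))))))))))))))))))))))))))))))))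
theorem act2_eq (i : Nat) : act2 i = Tab.act T D chk2 i := rfl
theorem c2_0 : allRange (fun i => Nat.beq (act2 i) i) 0 188 = true := by decide +kernel
theorem c2_1 : allRange (fun i => Nat.beq (act2 i) i) 188 188 = true := by decide +kernel
theorem c2_2 : allRange (fun i => Nat.beq (act2 i) i) 376 188 = true := by decide +kernel
theorem c2_3 : allRange (fun i => Nat.beq (act2 i) i) 564 188 = true := by decide +kernel
theorem c2_4 : allRange (fun i => Nat.beq (act2 i) i) 752 188 = true := by decide +kernel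
theorem c2_5 : allRange (fun i => Nat.beq (act2 i) i) 940 188 = true := by decide +kernel
theorem c2_6 : allRange (fun i => Nat.beq (act2 i) i) 1128 188 = true := by decide +kernel
theorem c2_7 : allRange (fun i => Nat.beq (act2 i) i) 1316 188 = true := by decide +kernel
theorem c2_8 : allRange (fun i => Nat.beq (act2 i) i) 1504 188 = true := by decide +kernel
theorem c2_9 : allRange (fun i => Nat.beq (act2 i) i) 1692 188 = true := by decide +kernel
theorem c2_10 : allRange (fun i => Nat.beq (act2 i) i) 1880 178 = true := by decide +kernel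
theorem h2 : ∀ i, i < T.N → Tab.relActOK T D chk2 i = true := by
  intro i hi
  rw [Tab.relActOK, ← act2_eq]
  exact (range_glue (range_of_allRange c2_0) (range_glue (range_of_allRange c2_1) (range_glue (range_of_allRange c2_2) (range_glue (range_of_allRange c2_3) (range_glue (range_of_allRange c2_4) (range_glue (range_of_allRange c2_5) (range_glue (range_of_allRange c2_6) (range_glue (range_of_allRange c2_7) (range_glue (range_of_allRange c2_8) (range_glue (range_of_allRange c2_9) (range_of_allRange c2_10))))))))))) i (Nat.zero_le _) hi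

def chk3 : List Nat := [2, 3, 1, 2, 3, 4, 1, 2, 3, 4, 1, 2, 3, 4, 1, 2, 3, 4, 1, 2, 3, 4, 1, 2, 3, 4, 1, 2, 3, 4, 5, 2, 3, 1, 2, 3, 4, 1, 2, 3, 4, 1, 2, 3, 4, 1, 2, 3, 4, 1, 2, 3, 4, 1, 2, 3, 4, 1, 2, 3, 4, 5, 2, 3, 1, 2, 3, 4, 1, 2, 3, 4, 1, 2, 3, 4, 1, 2, 3, 4, 1, 2, 3, 4, 1, 2, 3, 4, 1, 2, 3, 4, 5, 2, 3, 1, 2, 3, 4, 1, 2, 3, 4, 1, 2, 3, 4, 1, 2, 3, 4, 1, 2, 3, 4, 1, 2, 3, 4, 1, 2, 3, 4, 5, 2, 3, 1, 2, 3, 4, 1, 2, 3, 4, 1, 2, 3, 4, 1, 2, 3, 4, 1, 2, 3, 4, 1, 2, 3, 4, 1, 2, 3, 4, 5, 4, 2, 3, 1, 2, 3, 4, 1, 2, 3, 4, 1, 2, 3, 4, 1, 2, 3, 4, 1, 2, 3, 4, 1, 2, 3, 4, 1, 2, 3, 4, 5, 2, 3, 1, 2, 3, 4, 1, 2, 3, 4, 1, 2, 3, 4, 1, 2, 3, 4, 1, 2, 3, 4, 1, 2, 3, 4, 1, 2, 3, 4, 5, 2, 3, 1, 2, 3, 4, 1, 2, 3, 4, 1, 2, 3, 4, 1, 2, 3, 4, 1, 2, 3, 4, 1, 2, 3, 4, 1, 2, 3, 4, 5, 2, 3, 1, 2, 3, 4, 1, 2, 3, 4, 1, 2, 3, 4, 1, 2, 3, 4, 1, 2, 3, 4, 1, 2, 3, 4, 1, 2, 3, 4, 5, 2, 3, 1, 2, 3, 4, 1, 2, 3, 4, 1, 2, 3, 4, 1,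 2, 3, 4, 1, 2, 3, 4, 1, 2, 3, 4, 1, 2, 3, 4, 5, 4, 2, 3, 1, 2, 3, 4, 1, 2, 3, 4, 1, 2, 3, 4, 1, 2, 3, 4, 1, 2, 3, 4, 1, 2, 3, 4, 1, 2, 3, 4, 5, 2, 3, 1, 2, 3, 4, 1, 2, 3, 4, 1, 2, 3, 4, 1, 2, 3, 4, 1, 2, 3, 4, 1, 2, 3, 4, 1, 2, 3, 4, 5, 2, 3, 1, 2, 3, 4, 1, 2, 3, 4, 1, 2, 3, 4, 1, 2, 3, 4, 1, 2, 3, 4, 1, 2, 3, 4, 1, 2, 3, 4, 5, 2, 3, 1, 2, 3, 4, 1, 2, 3, 4, 1, 2, 3, 4, 1, 2, 3, 4, 1, 2, 3, 4, 1, 2, 3, 4, 1, 2, 3, 4, 5, 2, 3, 1, 2, 3, 4, 1, 2, 3, 4, 1, 2, 3, 4, 1, 2, 3, 4, 1, 2, 3, 4, 1, 2, 3, 4, 1, 2, 3, 4, 5, 4]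
noncomputable def act3 (i : Nat) : Nat := col2 (col3 (col1 (col2 (col3 (col4 (col1 (col2 (col3 (col4 (col1 (col2 (col3 (col4 (col1 (col2 (col3 (col4 (col1 (col2 (col3 (col4 (col1 (col2 (col3 (col4 (col1 (col2 (col3 (col4 (col5 (col2 (col3 (col1 (col2 (col3 (col4 (col1 (col2 (col3 (col4 (col1 (col2 (col3 (col4 (col1 (col2 (col3 (col4 (col1 (col2 (col3 (col4 (col1 (col2 (col3 (col4 (col1 (col2 (col3 (col4 (col5 (col2 (col3 (col1 (col2 (col3 (col4 (col1 (col2 (col3 (col4 (col1 (col2 (col3 (col4 (col1 (col2 (col3 (col4 (col1 (col2 (col3 (col4 (col1 (col2 (col3 (col4 (col1 (col2 (col3 (col4 (col5 (col2 (col3 (col1 (col2 (col3 (col4 (col1 (col2 (col3 (col4 (col1 (col2 (col3 (col4 (col1 (col2 (col3 (col4 (col1 (col2 (col3 (col4 (col1 (col2 (col3 (col4 (col1 (col2 (col3 (col4 (col5 (col2 (col3 (col1 (col2 (col3 (col4 (col1 (col2 (col3 (col4 (col1 (col2 (col3 (col4 (col1 (col2 (col3 (col4 (col1 (col2 (col3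 (col4 (col1 (col2 (col3 (col4 (col1 (col2 (col3 (col4 (col5 (col4 (col2 (col3 (col1 (col2 (col3 (col4 (col1 (col2 (col3 (col4 (col1 (col2 (col3 (col4 (col1 (col2 (col3 (col4 (col1 (col2 (col3 (col4 (col1 (col2 (col3 (col4 (col1 (col2 (col3 (col4 (col5 (col2 (col3 (col1 (col2 (col3 (col4 (col1 (col2 (col3 (col4 (col1 (col2 (col3 (col4 (col1 (col2 (col3 (col4 (col1 (col2 (col3 (col4 (col1 (col2 (col3 (col4 (col1 (col2 (col3 (col4 (col5 (col2 (col3 (col1 (col2 (col3 (col4 (col1 (col2 (col3 (col4 (col1 (col2 (col3 (col4 (col1 (col2 (col3 (col4 (col1 (col2 (col3 (col4 (col1 (col2 (col3 (col4 (col1 (col2 (col3 (col4 (col5 (col2 (col3 (col1 (col2 (col3 (col4 (col1 (col2 (col3 (col4 (col1 (col2 (col3 (col4 (col1 (col2 (col3 (col4 (col1 (col2 (col3 (col4 (col1 (col2 (col3 (col4 (col1 (col2 (col3 (col4 (col5 (col2 (col3 (col1 (col2 (col3 (col4 (col1 (col2 (col3 (col4 (col1 (col2 (col3 (col4 (col1 (col2 (col3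 (col4 (col1 (col2 (col3 (col4 (col1 (col2 (col3 (col4 (col1 (col2 (col3 (col4 (col5 (col4 (col2 (col3 (col1 (col2 (col3 (col4 (col1 (col2 (col3 (col4 (col1 (col2 (col3 (col4 (col1 (col2 (col3 (col4 (col1 (col2 (col3 (col4 (col1 (col2 (col3 (col4 (col1 (col2 (col3 (col4 (col5 (col2 (col3 (col1 (col2 (col3 (col4 (col1 (col2 (col3 (col4 (col1 (col2 (col3 (col4 (col1 (col2 (col3 (col4 (col1 (col2 (col3 (col4 (col1 (col2 (col3 (col4 (col1 (col2 (col3 (col4 (col5 (col2 (col3 (col1 (col2 (col3 (col4 (col1 (col2 (col3 (col4 (col1 (col2 (col3 (col4 (col1 (col2 (col3 (col4 (col1 (col2 (col3 (col4 (col1 (col2 (col3 (col4 (col1 (col2 (col3 (col4 (col5 (col2 (col3 (col1 (col2 (col3 (col4 (col1 (col2 (col3 (col4 (col1 (col2 (col3 (col4 (col1 (col2 (col3 (col4 (col1 (col2 (col3 (col4 (col1 (col2 (col3 (col4 (col1 (col2 (col3 (col4 (col5 (col2 (col3 (col1 (col2 (col3 (col4 (col1 (col2 (col3 (col4 (col1 (col2 (col3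 (col4 (col1 (col2 (col3 (col4 (col1 (col2 (col3 (col4 (col1 (col2 (col3 (col4 (col1 (col2 (col3 (col4 (col5 (col4 (i))))))))))))))))))))))))))))))))))))))))))))))))))))))))))))))))))))))))))))))))))))))))))))))))))))))))))))))))))))))))))))))))))))))))))))))))))))))))))))))))))))))))))))))))))))))))))))))))))))))))))))))))))))))))))))))))))))))))))))))))))))))))))))))))))))))))))))))))))))))))))))))))))))))))))))))))))))))))))))))))))))))))))))))))))))))))))))))))))))))))))))))))))))))))))))))))))))))))))))))))))))))))))))))))))))))))))))))))))))))))))))))))))))))))))))))))))))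
theorem act3_eq (i : Nat) : act3 i = Tab.act T D chk3 i := rfl
theorem c3_0 : allRange (fun i => Nat.beq (act3 i) i) 0 127 = true := by decide +kernel
theorem c3_1 : allRange (fun i => Nat.beq (act3 i) i) 127 127 = true := by decide +kernel
theorem c3_2 : allRange (fun i => Nat.beq (act3 i) i) 254 127 = true := by decide +kernel
theorem c3_3 : allRange (fun i => Nat.beq (act3 i) i) 381 127 = true := by decide +kernel
theorem c3_4 : allRange (fun i => Nat.beq (act3 i) i) 508 127 = true := by decide +kernel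
theorem c3_5 : allRange (fun i => Nat.beq (act3 i) i) 635 127 = true := by decide +kernel
theorem c3_6 : allRange (fun i => Nat.beq (act3 i) i) 762 127 = true := by decide +kernel
theorem c3_7 : allRange (fun i => Nat.beq (act3 i) i) 889 127 = true := by decide +kernel
theorem c3_8 : allRange (fun i => Nat.beq (act3 i) i) 1016 127 = true := by decide +kernel
theorem c3_9 : allRange (fun i => Nat.beq (act3 i) i) 1143 127 = true := by decide +kernel
theorem c3_10 : allRange (fun i => Nat.beq (act3 i) i) 1270 127 = true := by decide +kernel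
theorem c3_11 : allRange (fun i => Nat.beq (act3 i) i) 1397 127 = true := by decide +kernel
theorem c3_12 : allRange (fun i => Nat.beq (act3 i) i) 1524 127 = true := by decide +kernel
theorem c3_13 : allRange (fun i => Nat.beq (act3 i) i) 1651 127 = true := by decide +kernel
theorem c3_14 : allRange (fun i => Nat.beq (act3 i) i) 1778 127 = true := by decide +kernel
theorem c3_15 : allRange (fun i => Nat.beq (act3 i) i) 1905 127 = true := by decide +kernel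
theorem c3_16 : allRange (fun i => Nat.beq (act3 i) i) 2032 26 = true := by decide +kernel
theorem h3 : ∀ i, i < T.N → Tab.relActOK T D chk3 i = true := by
  intro i hi
  rw [Tab.relActOK, ← act3_eq]
  exact (range_glue (range_of_allRange c3_0) (range_glue (range_of_allRange c3_1) (range_glue (range_of_allRange c3_2) (range_glue (range_of_allRange c3_3) (range_glue (range_of_allRange c3_4) (range_glue (range_of_allRange c3_5) (range_glue (range_of_allRange c3_6) (range_glue (range_of_allRange c3_7) (range_glue (range_of_allRange c3_8) (range_glue (range_of_allRange c3_9) (range_glue (range_of_allRange c3_10) (range_glue (range_of_allRange c3_11) (range_glue (range_of_allRange c3_12) (range_glue (range_of_allRange c3_13) (range_glue (range_of_allRange c3_14) (range_glue (range_of_allRange c3_15) (range_of_allRange c3_16))))))))))))))))) i (Nat.zero_le _) hi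

def chk4 : List Nat := [2, 2]
noncomputable def act4 (i : Nat) : Nat := col2 (col2 (i))
theorem act4_eq (i : Nat) : act4 i = Tab.act T D chk4 i := rfl
theorem c4_0 : allRange (fun i => Nat.beq (act4 i) i) 0 2058 = true := by decide +kernel
theorem h4 : ∀ i, i < T.N → Tab.relActOK T D chk4 i = true := by
  intro i hi
  rw [Tab.relActOK, ← act4_eq]
  exact (range_of_allRange c4_0) i (Nat.zero_le _) hi

def chk5 : List Nat := [4, 2, 4, 2]
noncomputable def act5 (i : Nat) : Nat := col4 (col2 (col4 (col2 (i))))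
theorem act5_eq (i : Nat) : act5 i = Tab.act T D chk5 i := rfl
theorem c5_0 : allRange (fun i => Nat.beq (act5 i) i) 0 2058 = true := by decide +kernel
theorem h5 : ∀ i, i < T.N → Tab.relActOK T D chk5 i = true := by
  intro i hi
  rw [Tab.relActOK, ← act5_eq]
  exact (range_of_allRange c5_0) i (Nat.zero_le _) hi

def chk6 : List Nat := [2, 3, 1, 2, 3, 4, 1, 2, 3, 4, 1, 2, 3, 4, 1, 2, 3, 4, 1, 2, 3, 4, 1, 2, 3, 4, 1, 2, 3, 4, 5, 2, 2, 3, 1, 2, 3, 4, 1, 2, 3, 4, 1, 2, 3, 4, 1, 2, 3, 4, 1, 2, 3, 4, 1, 2, 3, 4, 1, 2, 3, 4, 5, 2, 2, 3, 1, 2, 3, 4, 1, 2, 3, 4, 1, 2, 3, 4, 1, 2, 3, 4, 1, 2, 3, 4, 1, 2, 3, 4, 1, 2, 3, 4, 5, 2, 2, 3, 1, 2, 3, 4, 1, 2, 3, 4, 1, 2, 3, 4, 1, 2, 3, 4, 1, 2, 3, 4, 1, 2, 3, 4, 1, 2, 3, 4, 5, 2, 2, 3, 1, 2, 3, 4, 1, 2, 3, 4, 1, 2, 3, 4, 1, 2, 3, 4, 1, 2, 3, 4, 1, 2, 3, 4, 1, 2, 3, 4, 5, 2]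
noncomputable def act6 (i : Nat) : Nat := col2 (col3 (col1 (col2 (col3 (col4 (col1 (col2 (col3 (col4 (col1 (col2 (col3 (col4 (col1 (col2 (col3 (col4 (col1 (col2 (col3 (col4 (col1 (col2 (col3 (col4 (col1 (col2 (col3 (col4 (col5 (col2 (col2 (col3 (col1 (col2 (col3 (col4 (col1 (col2 (col3 (col4 (col1 (col2 (col3 (col4 (col1 (col2 (col3 (col4 (col1 (col2 (col3 (col4 (col1 (col2 (col3 (col4 (col1 (col2 (col3 (col4 (col5 (col2 (col2 (col3 (col1 (col2 (col3 (col4 (col1 (col2 (col3 (col4 (col1 (col2 (col3 (col4 (col1 (col2 (col3 (col4 (col1 (col2 (col3 (col4 (col1 (col2 (col3 (col4 (col1 (col2 (col3 (col4 (col5 (col2 (col2 (col3 (col1 (col2 (col3 (col4 (col1 (col2 (col3 (col4 (col1 (col2 (col3 (col4 (col1 (col2 (col3 (col4 (col1 (col2 (col3 (col4 (col1 (col2 (col3 (col4 (col1 (col2 (col3 (col4 (col5 (col2 (col2 (col3 (col1 (col2 (col3 (col4 (col1 (col2 (col3 (col4 (col1 (col2 (col3 (col4 (col1 (col2 (col3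 (col4 (col1 (col2 (col3 (col4 (col1 (col2 (col3 (col4 (col1 (col2 (col3 (col4 (col5 (col2 (i))))))))))))))))))))))))))))))))))))))))))))))))))))))))))))))))))))))))))))))))))))))))))))))))))))))))))))))))))))))))))))))))))))))))))))))))))))))))))))))))
theorem act6_eq (i : Nat) : act6 i = Tab.act T D chk6 i := rfl
theorem c6_0 : allRange (fun i => Nat.beq (act6 i) i) 0 370 = true := by decide +kernel
theorem c6_1 : allRange (fun i => Nat.beq (act6 i) i) 370 370 = true := by decide +kernel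
theorem c6_2 : allRange (fun i => Nat.beq (act6 i) i) 740 370 = true := by decide +kernel
theorem c6_3 : allRange (fun i => Nat.beq (act6 i) i) 1110 370 = true := by decide +kernel
theorem c6_4 : allRange (fun i => Nat.beq (act6 i) i) 1480 370 = true := by decide +kernel
theorem c6_5 : allRange (fun i => Nat.beq (act6 i) i) 1850 208 = true := by decide +kernel
theorem h6 : ∀ i, i < T.N → Tab.relActOK T D chk6 i = true := by
  intro i hi
  rw [Tab.relActOK, ← act6_eq]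
  exact (range_glue (range_of_allRange c6_0) (range_glue (range_of_allRange c6_1) (range_glue (range_of_allRange c6_2) (range_glue (range_of_allRange c6_3) (range_glue (range_of_allRange c6_4) (range_of_allRange c6_5)))))) i (Nat.zero_le _) hi

def chk7 : List Nat := [2, 3, 1, 2, 3, 4, 1, 2, 3, 4, 1, 2, 3, 4, 1, 2, 3, 4, 1, 2, 3, 4, 1, 2, 3, 4, 1, 2, 3, 4, 5, 4, 5, 4, 3, 2, 1, 4, 3, 2, 1, 4, 3, 2, 1, 4, 3, 2, 1, 4, 3, 2, 1, 4, 3, 2, 1, 4, 3, 2, 1, 3, 2, 4, 2, 5, 4, 3, 2, 1, 4, 3, 2, 1, 4, 3, 2, 1, 4, 3, 2, 1, 4, 3, 2, 1, 4, 3, 2, 1, 4, 3, 2, 1, 3, 2, 4, 2, 3, 1, 2, 3, 4, 1, 2, 3, 4, 1, 2, 3, 4, 1, 2, 3, 4, 1, 2, 3, 4, 1, 2, 3, 4, 1, 2, 3, 4, 5, 2, 2, 3, 1, 2, 3, 4, 1, 2, 3, 4, 1, 2, 3, 4, 1, 2, 3, 4, 1, 2, 3, 4, 1, 2, 3, 4, 1, 2, 3, 4, 5, 2, 4, 2, 3, 1, 2, 3, 4, 1, 2, 3, 4, 1, 2, 3, 4, 1, 2, 3, 4, 1, 2, 3, 4, 1, 2, 3, 4, 1, 2, 3, 4, 5, 2, 4, 2, 3, 1, 2, 3, 4, 1, 2, 3, 4, 1, 2, 3, 4, 1, 2, 3, 4, 1,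 2, 3, 4, 1, 2, 3, 4, 1, 2, 3, 4, 5, 2]
noncomputable def act7 (i : Nat) : Nat := col2 (col3 (col1 (col2 (col3 (col4 (col1 (col2 (col3 (col4 (col1 (col2 (col3 (col4 (col1 (col2 (col3 (col4 (col1 (col2 (col3 (col4 (col1 (col2 (col3 (col4 (col1 (col2 (col3 (col4 (col5 (col4 (col5 (col4 (col3 (col2 (col1 (col4 (col3 (col2 (col1 (col4 (col3 (col2 (col1 (col4 (col3 (col2 (col1 (col4 (col3 (col2 (col1 (col4 (col3 (col2 (col1 (col4 (col3 (col2 (col1 (col3 (col2 (col4 (col2 (col5 (col4 (col3 (col2 (col1 (col4 (col3 (col2 (col1 (col4 (col3 (col2 (col1 (col4 (col3 (col2 (col1 (col4 (col3 (col2 (col1 (col4 (col3 (col2 (col1 (col4 (col3 (col2 (col1 (col3 (col2 (col4 (col2 (col3 (col1 (col2 (col3 (col4 (col1 (col2 (col3 (col4 (col1 (col2 (col3 (col4 (col1 (col2 (col3 (col4 (col1 (col2 (col3 (col4 (col1 (col2 (col3 (col4 (col1 (col2 (col3 (col4 (col5 (col2 (col2 (col3 (col1 (col2 (col3 (col4 (col1 (col2 (col3 (col4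 (col1 (col2 (col3 (col4 (col1 (col2 (col3 (col4 (col1 (col2 (col3 (col4 (col1 (col2 (col3 (col4 (col1 (col2 (col3 (col4 (col5 (col2 (col4 (col2 (col3 (col1 (col2 (col3 (col4 (col1 (col2 (col3 (col4 (col1 (col2 (col3 (col4 (col1 (col2 (col3 (col4 (col1 (col2 (col3 (col4 (col1 (col2 (col3 (col4 (col1 (col2 (col3 (col4 (col5 (col2 (col4 (col2 (col3 (col1 (col2 (col3 (col4 (col1 (col2 (col3 (col4 (col1 (col2 (col3 (col4 (col1 (col2 (col3 (col4 (col1 (col2 (col3 (col4 (col1 (col2 (col3 (col4 (col1 (col2 (col3 (col4 (col5 (col2 (i)))))))))))))))))))))))))))))))))))))))))))))))))))))))))))))))))))))))))))))))))))))))))))))))))))))))))))))))))))))))))))))))))))))))))))))))))))))))))))))))))))))))))))))))))))))))))))))))))))))))))))))))))))))))))))))))))))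
theorem act7_eq (i : Nat) : act7 i = Tab.act T D chk7 i := rfl
theorem c7_0 : allRange (fun i => Nat.beq (act7 i) i) 0 262 = true := by decide +kernel
theorem c7_1 : allRange (fun i => Nat.beq (act7 i) i) 262 262 = true := by decide +kernel
theorem c7_2 : allRange (fun i => Nat.beq (act7 i) i) 524 262 = true := by decide +kernel
theorem c7_3 : allRange (fun i => Nat.beq (act7 i) i) 786 262 = true := by decide +kernel
theorem c7_4 : allRange (fun i => Nat.beq (act7 i) i) 1048 262 = true := by decide +kernel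
theorem c7_5 : allRange (fun i => Nat.beq (act7 i) i) 1310 262 = true := by decide +kernel
theorem c7_6 : allRange (fun i => Nat.beq (act7 i) i) 1572 262 = true := by decide +kernel
theorem c7_7 : allRange (fun i => Nat.beq (act7 i) i) 1834 224 = true := by decide +kernel
theorem h7 : ∀ i, i < T.N → Tab.relActOK T D chk7 i = true := by
  intro i hi
  rw [Tab.relActOK, ← act7_eq]
  exact (range_glue (range_of_allRange c7_0) (range_glue (range_of_allRange c7_1) (range_glue (range_of_allRange c7_2) (range_glue (range_of_allRange c7_3) (range_glue (range_of_allRange c7_4) (range_glue (range_of_allRange c7_5) (range_glue (range_of_allRange c7_6) (range_of_allRange c7_7)))))))) i (Nat.zero_le _) hi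

def chk8 : List Nat := [2, 3, 1, 2, 3, 4, 1, 2, 3, 4, 1, 2, 3, 4, 1, 2, 3, 4, 1, 2, 3, 4, 1, 2, 3, 4, 1, 2, 3, 4, 5, 2, 3, 1, 2, 3, 4, 1, 2, 3, 4, 1, 2, 3, 4, 1, 2, 3, 4, 1, 2, 3, 4, 1, 2, 3, 4, 1, 2, 3, 4, 5, 4, 2, 3, 1, 2, 3, 4, 1, 2, 3, 4, 1, 2, 3, 4, 1, 2, 3, 4, 1, 2, 3, 4, 1, 2, 3, 4, 1, 2, 3, 4, 5, 2, 2, 3, 1, 2, 3, 4, 1, 2, 3, 4, 1, 2, 3, 4, 1, 2, 3, 4, 1, 2, 3, 4, 1, 2, 3, 4, 1, 2, 3, 4, 5, 2, 5, 4, 3, 2, 1, 4, 3, 2, 1, 4, 3, 2, 1, 4, 3, 2, 1, 4, 3, 2, 1, 4, 3, 2, 1, 4, 3, 2, 1, 3, 2, 5, 4, 3, 2, 1, 4, 3, 2, 1, 4, 3, 2, 1, 4, 3, 2, 1, 4, 3, 2, 1, 4, 3, 2, 1, 4, 3, 2, 1, 3, 2, 4, 5, 4, 3, 2, 1, 4, 3, 2, 1, 4, 3, 2, 1, 4, 3, 2, 1, 4, 3, 2, 1, 4, 3, 2, 1, 4, 3, 2, 1, 3, 2, 2, 2, 3, 1, 2, 3, 4, 1, 2, 3, 4, 1, 2, 3, 4, 1, 2, 3, 4, 1, 2, 3, 4, 1, 2, 3, 4, 1, 2, 3, 4, 5, 2, 2, 3, 1, 2, 3, 4, 1, 2, 3, 4, 1, 2, 3, 4, 1, 2, 3, 4, 1, 2, 3, 4, 1, 2, 3, 4, 1, 2, 3, 4, 5, 4, 2, 3, 1, 2, 3, 4, 1, 2, 3,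 4, 1, 2, 3, 4, 1, 2, 3, 4, 1, 2, 3, 4, 1, 2, 3, 4, 1, 2, 3, 4, 5, 4]
noncomputable def act8 (i : Nat) : Nat := col2 (col3 (col1 (col2 (col3 (col4 (col1 (col2 (col3 (col4 (col1 (col2 (col3 (col4 (col1 (col2 (col3 (col4 (col1 (col2 (col3 (col4 (col1 (col2 (col3 (col4 (col1 (col2 (col3 (col4 (col5 (col2 (col3 (col1 (col2 (col3 (col4 (col1 (col2 (col3 (col4 (col1 (col2 (col3 (col4 (col1 (col2 (col3 (col4 (col1 (col2 (col3 (col4 (col1 (col2 (col3 (col4 (col1 (col2 (col3 (col4 (col5 (col4 (col2 (col3 (col1 (col2 (col3 (col4 (col1 (col2 (col3 (col4 (col1 (col2 (col3 (col4 (col1 (col2 (col3 (col4 (col1 (col2 (col3 (col4 (col1 (col2 (col3 (col4 (col1 (col2 (col3 (col4 (col5 (col2 (col2 (col3 (col1 (col2 (col3 (col4 (col1 (col2 (col3 (col4 (col1 (col2 (col3 (col4 (col1 (col2 (col3 (col4 (col1 (col2 (col3 (col4 (col1 (col2 (col3 (col4 (col1 (col2 (col3 (col4 (col5 (col2 (col5 (col4 (col3 (col2 (col1 (col4 (col3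 (col2 (col1 (col4 (col3 (col2 (col1 (col4 (col3 (col2 (col1 (col4 (col3 (col2 (col1 (col4 (col3 (col2 (col1 (col4 (col3 (col2 (col1 (col3 (col2 (col5 (col4 (col3 (col2 (col1 (col4 (col3 (col2 (col1 (col4 (col3 (col2 (col1 (col4 (col3 (col2 (col1 (col4 (col3 (col2 (col1 (col4 (col3 (col2 (col1 (col4 (col3 (col2 (col1 (col3 (col2 (col4 (col5 (col4 (col3 (col2 (col1 (col4 (col3 (col2 (col1 (col4 (col3 (col2 (col1 (col4 (col3 (col2 (col1 (col4 (col3 (col2 (col1 (col4 (col3 (col2 (col1 (col4 (col3 (col2 (col1 (col3 (col2 (col2 (col2 (col3 (col1 (col2 (col3 (col4 (col1 (col2 (col3 (col4 (col1 (col2 (col3 (col4 (col1 (col2 (col3 (col4 (col1 (col2 (col3 (col4 (col1 (col2 (col3 (col4 (col1 (col2 (col3 (col4 (col5 (col2 (col2 (col3 (col1 (col2 (col3 (col4 (col1 (col2 (col3 (col4 (col1 (col2 (col3 (col4 (col1 (col2 (col3 (col4 (col1 (col2 (col3 (col4 (col1 (col2 (col3 (col4 (col1 (col2 (col3 (col4 (col5 (col4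 (col2 (col3 (col1 (col2 (col3 (col4 (col1 (col2 (col3 (col4 (col1 (col2 (col3 (col4 (col1 (col2 (col3 (col4 (col1 (col2 (col3 (col4 (col1 (col2 (col3 (col4 (col1 (col2 (col3 (col4 (col5 (col4 (i))))))))))))))))))))))))))))))))))))))))))))))))))))))))))))))))))))))))))))))))))))))))))))))))))))))))))))))))))))))))))))))))))))))))))))))))))))))))))))))))))))))))))))))))))))))))))))))))))))))))))))))))))))))))))))))))))))))))))))))))))))))))))))))))))))))))))))))))))))))))))))))))))))))))))))))))))))))))))))))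
theorem act8_eq (i : Nat) : act8 i = Tab.act T D chk8 i := rfl
theorem c8_0 : allRange (fun i => Nat.beq (act8 i) i) 0 187 = true := by decide +kernel
theorem c8_1 : allRange (fun i => Nat.beq (act8 i) i) 187 187 = true := by decide +kernel
theorem c8_2 : allRange (fun i => Nat.beq (act8 i) i) 374 187 = true := by decide +kernel
theorem c8_3 : allRange (fun i => Nat.beq (act8 i) i) 561 187 = true := by decide +kernel
theorem c8_4 : allRange (fun i => Nat.beq (act8 i) i) 748 187 = true := by decide +kernel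
theorem c8_5 : allRange (fun i => Nat.beq (act8 i) i) 935 187 = true := by decide +kernel
theorem c8_6 : allRange (fun i => Nat.beq (act8 i) i) 1122 187 = true := by decide +kernel
theorem c8_7 : allRange (fun i => Nat.beq (act8 i) i) 1309 187 = true := by decide +kernel
theorem c8_8 : allRange (fun i => Nat.beq (act8 i) i) 1496 187 = true := by decide +kernel
theorem c8_9 : allRange (fun i => Nat.beq (act8 i) i) 1683 187 = true := by decide +kernel
theorem c8_10 : allRange (fun i => Nat.beq (act8 i) i) 1870 187 = true := by decide +kernel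
theorem c8_11 : allRange (fun i => Nat.beq (act8 i) i) 2057 1 = true := by decide +kernel
theorem h8 : ∀ i, i < T.N → Tab.relActOK T D chk8 i = true := by
  intro i hi
  rw [Tab.relActOK, ← act8_eq]
  exact (range_glue (range_of_allRange c8_0) (range_glue (range_of_allRange c8_1) (range_glue (range_of_allRange c8_2) (range_glue (range_of_allRange c8_3) (range_glue (range_of_allRange c8_4) (range_glue (range_of_allRange c8_5) (range_glue (range_of_allRange c8_6) (range_glue (range_of_allRange c8_7) (range_glue (range_of_allRange c8_8) (range_glue (range_of_allRange c8_9) (range_glue (range_of_allRange c8_10) (range_of_allRange c8_11)))))))))))) i (Nat.zero_le _) hi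

def chk9 : List Nat := [2, 3, 1, 2, 3, 4, 1, 2, 3, 4, 1, 2, 3, 4, 1, 2, 3, 4, 1, 2, 3, 4, 1, 2, 3, 4, 1, 2, 3, 4, 5, 5, 4, 3, 2, 1, 4, 3, 2, 1, 4, 3, 2, 1, 4, 3, 2, 1, 4, 3, 2, 1, 4, 3, 2, 1, 4, 3, 2, 1, 3, 2]
noncomputable def act9 (i : Nat) : Nat := col2 (col3 (col1 (col2 (col3 (col4 (col1 (col2 (col3 (col4 (col1 (col2 (col3 (col4 (col1 (col2 (col3 (col4 (col1 (col2 (col3 (col4 (col1 (col2 (col3 (col4 (col1 (col2 (col3 (col4 (col5 (col5 (col4 (col3 (col2 (col1 (col4 (col3 (col2 (col1 (col4 (col3 (col2 (col1 (col4 (col3 (col2 (col1 (col4 (col3 (col2 (col1 (col4 (col3 (col2 (col1 (col4 (col3 (col2 (col1 (col3 (col2 (i))))))))))))))))))))))))))))))))))))))))))))))))))))))))))))))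
theorem act9_eq (i : Nat) : act9 i = Tab.act T D chk9 i := rfl
theorem c9_0 : allRange (fun i => Nat.beq (act9 i) i) 0 937 = true := by decide +kernel
theorem c9_1 : allRange (fun i => Nat.beq (act9 i) i) 937 937 = true := by decide +kernel
theorem c9_2 : allRange (fun i => Nat.beq (act9 i) i) 1874 184 = true := by decide +kernel
theorem h9 : ∀ i, i < T.N → Tab.relActOK T D chk9 i = true := by
  intro i hi
  rw [Tab.relActOK, ← act9_eq]
  exact (range_glue (range_of_allRange c9_0) (range_glue (range_of_allRange c9_1) (range_of_allRange c9_2))) i (Nat.zero_le _) hi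

def chk10 : List Nat := [5, 4, 3, 2, 1, 4, 3, 2, 1, 4, 3, 2, 1, 4, 3, 2, 1, 4, 3, 2, 1, 4, 3, 2, 1, 4, 3, 2, 1, 3, 2, 2, 3, 1, 2, 3, 4, 1, 2, 3, 4, 1, 2, 3, 4, 1, 2, 3, 4, 1, 2, 3, 4, 1, 2, 3, 4, 1, 2, 3, 4, 5]
noncomputable def act10 (i : Nat) : Nat := col5 (col4 (col3 (col2 (col1 (col4 (col3 (col2 (col1 (col4 (col3 (col2 (col1 (col4 (col3 (col2 (col1 (col4 (col3 (col2 (col1 (col4 (col3 (col2 (col1 (col4 (col3 (col2 (col1 (col3 (col2 (col2 (col3 (col1 (col2 (col3 (col4 (col1 (col2 (col3 (col4 (col1 (col2 (col3 (col4 (col1 (col2 (col3 (col4 (col1 (col2 (col3 (col4 (col1 (col2 (col3 (col4 (col1 (col2 (col3 (col4 (col5 (i))))))))))))))))))))))))))))))))))))))))))))))))))))))))))))))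
theorem act10_eq (i : Nat) : act10 i = Tab.act T D chk10 i := rfl
theorem c10_0 : allRange (fun i => Nat.beq (act10 i) i) 0 937 = true := by decide +kernel
theorem c10_1 : allRange (fun i => Nat.beq (act10 i) i) 937 937 = true := by decide +kernel
theorem c10_2 : allRange (fun i => Nat.beq (act10 i) i) 1874 184 = true := by decide +kernel
theorem h10 : ∀ i, i < T.N → Tab.relActOK T D chk10 i = true := by
  intro i hi
  rw [Tab.relActOK, ← act10_eq]
  exact (range_glue (range_of_allRange c10_0) (range_glue (range_of_allRange c10_1) (range_of_allRange c10_2))) i (Nat.zero_le _) hi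

def chk11 : List Nat := [4, 4]
noncomputable def act11 (i : Nat) : Nat := col4 (col4 (i))
theorem act11_eq (i : Nat) : act11 i = Tab.act T D chk11 i := rfl
theorem c11_0 : allRange (fun i => Nat.beq (act11 i) i) 0 2058 = true := by decide +kernel
theorem h11 : ∀ i, i < T.N → Tab.relActOK T D chk11 i = true := by
  intro i hi
  rw [Tab.relActOK, ← act11_eq]
  exact (range_of_allRange c11_0) i (Nat.zero_le _) hi

def chk12 : List Nat := [4, 4]
noncomputable def act12 (i : Nat) : Nat := col4 (col4 (i))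
theorem act12_eq (i : Nat) : act12 i = Tab.act T D chk12 i := rfl
theorem c12_0 : allRange (fun i => Nat.beq (act12 i) i) 0 2058 = true := by decide +kernel
theorem h12 : ∀ i, i < T.N → Tab.relActOK T D chk12 i = true := by
  intro i hi
  rw [Tab.relActOK, ← act12_eq]
  exact (range_of_allRange c12_0) i (Nat.zero_le _) hi

def chk13 : List Nat := [2, 2]
noncomputable def act13 (i : Nat) : Nat := col2 (col2 (i))
theorem act13_eq (i : Nat) : act13 i = Tab.act T D chk13 i := rfl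
theorem c13_0 : allRange (fun i => Nat.beq (act13 i) i) 0 2058 = true := by decide +kernel
theorem h13 : ∀ i, i < T.N → Tab.relActOK T D chk13 i = true := by
  intro i hi
  rw [Tab.relActOK, ← act13_eq]
  exact (range_of_allRange c13_0) i (Nat.zero_le _) hi

def chk14 : List Nat := [2, 2]
noncomputable def act14 (i : Nat) : Nat := col2 (col2 (i))
theorem act14_eq (i : Nat) : act14 i = Tab.act T D chk14 i := rfl
theorem c14_0 : allRange (fun i => Nat.beq (act14 i) i) 0 2058 = true := by decide +kernel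
theorem h14 : ∀ i, i < T.N → Tab.relActOK T D chk14 i = true := by
  intro i hi
  rw [Tab.relActOK, ← act14_eq]
  exact (range_of_allRange c14_0) i (Nat.zero_le _) hi

def chk15 : List Nat := [2, 3, 1, 2, 3, 4, 1, 2, 3, 4, 1, 2, 3, 4, 1, 2, 3, 4, 1, 2, 3, 4, 1, 2, 3, 4, 1, 2, 3, 4, 5, 2, 3, 1, 2, 3, 4, 1, 2, 3, 4, 1, 2, 3, 4, 1, 2, 3, 4, 1, 2, 3, 4, 1, 2, 3, 4, 1, 2, 3, 4, 5, 2, 3, 1, 2, 3, 4, 1, 2, 3, 4, 1, 2, 3, 4, 1, 2, 3, 4, 1, 2, 3, 4, 1, 2, 3, 4, 1, 2, 3, 4, 5, 2, 5, 4, 3, 2, 1, 4, 3, 2, 1, 4, 3, 2, 1, 4, 3, 2, 1, 4, 3, 2, 1, 4, 3, 2, 1, 4, 3, 2, 1, 3, 2, 2, 2, 3, 1, 2, 3, 4, 1, 2, 3, 4, 1, 2, 3, 4, 1, 2, 3, 4, 1, 2, 3, 4, 1, 2, 3, 4, 1, 2, 3, 4, 5, 2, 5, 4, 3, 2, 1, 4, 3, 2, 1, 4, 3, 2, 1, 4, 3, 2, 1, 4, 3, 2, 1, 4, 3, 2, 1, 4, 3, 2, 1, 3, 2, 5, 4, 3, 2, 1, 4, 3, 2, 1, 4, 3, 2, 1, 4, 3, 2, 1, 4, 3, 2, 1, 4, 3, 2, 1, 4, 3, 2, 1, 3, 2, 5, 4, 3, 2, 1, 4, 3, 2, 1, 4, 3, 2, 1, 4, 3, 2, 1, 4, 3,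 2, 1, 4, 3, 2, 1, 4, 3, 2, 1, 3, 2, 0]
noncomputable def act15 (i : Nat) : Nat := col2 (col3 (col1 (col2 (col3 (col4 (col1 (col2 (col3 (col4 (col1 (col2 (col3 (col4 (col1 (col2 (col3 (col4 (col1 (col2 (col3 (col4 (col1 (col2 (col3 (col4 (col1 (col2 (col3 (col4 (col5 (col2 (col3 (col1 (col2 (col3 (col4 (col1 (col2 (col3 (col4 (col1 (col2 (col3 (col4 (col1 (col2 (col3 (col4 (col1 (col2 (col3 (col4 (col1 (col2 (col3 (col4 (col1 (col2 (col3 (col4 (col5 (col2 (col3 (col1 (col2 (col3 (col4 (col1 (col2 (col3 (col4 (col1 (col2 (col3 (col4 (col1 (col2 (col3 (col4 (col1 (col2 (col3 (col4 (col1 (col2 (col3 (col4 (col1 (col2 (col3 (col4 (col5 (col2 (col5 (col4 (col3 (col2 (col1 (col4 (col3 (col2 (col1 (col4 (col3 (col2 (col1 (col4 (col3 (col2 (col1 (col4 (col3 (col2 (col1 (col4 (col3 (col2 (col1 (col4 (col3 (col2 (col1 (col3 (col2 (col2 (col2 (col3 (col1 (col2 (col3 (col4 (col1 (col2 (col3 (col4 (col1 (col2 (col3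 (col4 (col1 (col2 (col3 (col4 (col1 (col2 (col3 (col4 (col1 (col2 (col3 (col4 (col1 (col2 (col3 (col4 (col5 (col2 (col5 (col4 (col3 (col2 (col1 (col4 (col3 (col2 (col1 (col4 (col3 (col2 (col1 (col4 (col3 (col2 (col1 (col4 (col3 (col2 (col1 (col4 (col3 (col2 (col1 (col4 (col3 (col2 (col1 (col3 (col2 (col5 (col4 (col3 (col2 (col1 (col4 (col3 (col2 (col1 (col4 (col3 (col2 (col1 (col4 (col3 (col2 (col1 (col4 (col3 (col2 (col1 (col4 (col3 (col2 (col1 (col4 (col3 (col2 (col1 (col3 (col2 (col5 (col4 (col3 (col2 (col1 (col4 (col3 (col2 (col1 (col4 (col3 (col2 (col1 (col4 (col3 (col2 (col1 (col4 (col3 (col2 (col1 (col4 (col3 (col2 (col1 (col4 (col3 (col2 (col1 (col3 (col2 (col0 (i))))))))))))))))))))))))))))))))))))))))))))))))))))))))))))))))))))))))))))))))))))))))))))))))))))))))))))))))))))))))))))))))))))))))))))))))))))))))))))))))))))))))))))))))))))))))))))))))))))))))))))))))))))))))))))))))))))))))))))))))))))))))))))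
theorem act15_eq (i : Nat) : act15 i = Tab.act T D chk15 i := rfl
theorem c15_0 : allRange (fun i => Nat.beq (act15 i) i) 0 236 = true := by decide +kernel
theorem c15_1 : allRange (fun i => Nat.beq (act15 i) i) 236 236 = true := by decide +kernel
theorem c15_2 : allRange (fun i => Nat.beq (act15 i) i) 472 236 = true := by decide +kernel
theorem c15_3 : allRange (fun i => Nat.beq (act15 i) i) 708 236 = true := by decide +kernel
theorem c15_4 : allRange (fun i => Nat.beq (act15 i) i) 944 236 = true := by decide +kernel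
theorem c15_5 : allRange (fun i => Nat.beq (act15 i) i) 1180 236 = true := by decide +kernel
theorem c15_6 : allRange (fun i => Nat.beq (act15 i) i) 1416 236 = true := by decide +kernel
theorem c15_7 : allRange (fun i => Nat.beq (act15 i) i) 1652 236 = true := by decide +kernel
theorem c15_8 : allRange (fun i => Nat.beq (act15 i) i) 1888 170 = true := by decide +kernel
theorem h15 : ∀ i, i < T.N → Tab.relActOK T D chk15 i = true := by
  intro i hi
  rw [Tab.relActOK, ← act15_eq]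
  exact (range_glue (range_of_allRange c15_0) (range_glue (range_of_allRange c15_1) (range_glue (range_of_allRange c15_2) (range_glue (range_of_allRange c15_3) (range_glue (range_of_allRange c15_4) (range_glue (range_of_allRange c15_5) (range_glue (range_of_allRange c15_6) (range_glue (range_of_allRange c15_7) (range_of_allRange c15_8))))))))) i (Nat.zero_le _) hi

def chk16 : List Nat := [2, 3, 1, 2, 3, 4, 1, 2, 3, 4, 1, 2, 3, 4, 1, 2, 3, 4, 1, 2, 3, 4, 1, 2, 3, 4, 1, 2, 3, 4, 5, 4, 2, 5, 4, 3, 2, 1, 4, 3, 2, 1, 4, 3, 2, 1, 4, 3, 2, 1, 4, 3, 2, 1, 4, 3, 2, 1, 4, 3, 2, 1, 3, 2, 2, 2, 3, 1, 2, 3, 4, 1, 2, 3, 4, 1, 2, 3, 4, 1, 2, 3, 4, 1, 2, 3, 4, 1, 2, 3, 4, 1, 2, 3, 4, 5, 4, 5, 4, 3, 2, 1, 4, 3, 2, 1, 4, 3, 2, 1, 4, 3, 2, 1, 4, 3, 2, 1, 4, 3, 2, 1, 4, 3, 2, 1, 3, 2, 2, 2, 3, 1, 2, 3, 4, 1, 2, 3, 4, 1, 2, 3, 4, 1, 2, 3, 4, 1, 2, 3, 4, 1, 2, 3, 4, 1, 2, 3, 4, 5, 2, 5, 4, 3, 2, 1, 4, 3, 2, 1, 4, 3, 2,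 1, 4, 3, 2, 1, 4, 3, 2, 1, 4, 3, 2, 1, 4, 3, 2, 1, 3, 2, 4, 2, 3]
noncomputable def act16 (i : Nat) : Nat := col2 (col3 (col1 (col2 (col3 (col4 (col1 (col2 (col3 (col4 (col1 (col2 (col3 (col4 (col1 (col2 (col3 (col4 (col1 (col2 (col3 (col4 (col1 (col2 (col3 (col4 (col1 (col2 (col3 (col4 (col5 (col4 (col2 (col5 (col4 (col3 (col2 (col1 (col4 (col3 (col2 (col1 (col4 (col3 (col2 (col1 (col4 (col3 (col2 (col1 (col4 (col3 (col2 (col1 (col4 (col3 (col2 (col1 (col4 (col3 (col2 (col1 (col3 (col2 (col2 (col2 (col3 (col1 (col2 (col3 (col4 (col1 (col2 (col3 (col4 (col1 (col2 (col3 (col4 (col1 (col2 (col3 (col4 (col1 (col2 (col3 (col4 (col1 (col2 (col3 (col4 (col1 (col2 (col3 (col4 (col5 (col4 (col5 (col4 (col3 (col2 (col1 (col4 (col3 (col2 (col1 (col4 (col3 (col2 (col1 (col4 (col3 (col2 (col1 (col4 (col3 (col2 (col1 (col4 (col3 (col2 (col1 (col4 (col3 (col2 (col1 (col3 (col2 (col2 (col2 (col3 (col1 (col2 (col3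 (col4 (col1 (col2 (col3 (col4 (col1 (col2 (col3 (col4 (col1 (col2 (col3 (col4 (col1 (col2 (col3 (col4 (col1 (col2 (col3 (col4 (col1 (col2 (col3 (col4 (col5 (col2 (col5 (col4 (col3 (col2 (col1 (col4 (col3 (col2 (col1 (col4 (col3 (col2 (col1 (col4 (col3 (col2 (col1 (col4 (col3 (col2 (col1 (col4 (col3 (col2 (col1 (col4 (col3 (col2 (col1 (col3 (col2 (col4 (col2 (col3 (i)))))))))))))))))))))))))))))))))))))))))))))))))))))))))))))))))))))))))))))))))))))))))))))))))))))))))))))))))))))))))))))))))))))))))))))))))))))))))))))))))))))))))))))))))))))))))))))))))))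
theorem act16_eq (i : Nat) : act16 i = Tab.act T D chk16 i := rfl
theorem c16_0 : allRange (fun i => Nat.beq (act16 i) i) 0 304 = true := by decide +kernel
theorem c16_1 : allRange (fun i => Nat.beq (act16 i) i) 304 304 = true := by decide +kernel
theorem c16_2 : allRange (fun i => Nat.beq (act16 i) i) 608 304 = true := by decide +kernel
theorem c16_3 : allRange (fun i => Nat.beq (act16 i) i) 912 304 = true := by decide +kernel
theorem c16_4 : allRange (fun i => Nat.beq (act16 i) i) 1216 304 = true := by decide +kernel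
theorem c16_5 : allRange (fun i => Nat.beq (act16 i) i) 1520 304 = true := by decide +kernel
theorem c16_6 : allRange (fun i => Nat.beq (act16 i) i) 1824 234 = true := by decide +kernel
theorem h16 : ∀ i, i < T.N → Tab.relActOK T D chk16 i = true := by
  intro i hi
  rw [Tab.relActOK, ← act16_eq]
  exact (range_glue (range_of_allRange c16_0) (range_glue (range_of_allRange c16_1) (range_glue (range_of_allRange c16_2) (range_glue (range_of_allRange c16_3) (range_glue (range_of_allRange c16_4) (range_glue (range_of_allRange c16_5) (range_of_allRange c16_6))))))) i (Nat.zero_le _) hi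

def chk17 : List Nat := [2, 3, 1, 2, 3, 4, 1, 2, 3, 4, 1, 2, 3, 4, 1, 2, 3, 4, 1, 2, 3, 4, 1, 2, 3, 4, 1, 2, 3, 4, 5, 4, 5, 4, 3, 2, 1, 4, 3, 2, 1, 4, 3, 2, 1, 4, 3, 2, 1, 4, 3, 2, 1, 4, 3, 2, 1, 4, 3, 2, 1, 3, 2, 4, 2, 3, 1, 2, 3, 4, 1, 2, 3, 4, 1, 2, 3, 4, 1, 2, 3, 4, 1, 2, 3, 4, 1, 2, 3, 4, 1, 2, 3, 4, 5, 4, 2, 5]
noncomputable def act17 (i : Nat) : Nat := col2 (col3 (col1 (col2 (col3 (col4 (col1 (col2 (col3 (col4 (col1 (col2 (col3 (col4 (col1 (col2 (col3 (col4 (col1 (col2 (col3 (col4 (col1 (col2 (col3 (col4 (col1 (col2 (col3 (col4 (col5 (col4 (col5 (col4 (col3 (col2 (col1 (col4 (col3 (col2 (col1 (col4 (col3 (col2 (col1 (col4 (col3 (col2 (col1 (col4 (col3 (col2 (col1 (col4 (col3 (col2 (col1 (col4 (col3 (col2 (col1 (col3 (col2 (col4 (col2 (col3 (col1 (col2 (col3 (col4 (col1 (col2 (col3 (col4 (col1 (col2 (col3 (col4 (col1 (col2 (col3 (col4 (col1 (col2 (col3 (col4 (col1 (col2 (col3 (col4 (col1 (col2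 (col3 (col4 (col5 (col4 (col2 (col5 (i))))))))))))))))))))))))))))))))))))))))))))))))))))))))))))))))))))))))))))))))))))))))))))))))))
theorem act17_eq (i : Nat) : act17 i = Tab.act T D chk17 i := rfl
theorem c17_0 : allRange (fun i => Nat.beq (act17 i) i) 0 600 = true := by decide +kernel
theorem c17_1 : allRange (fun i => Nat.beq (act17 i) i) 600 600 = true := by decide +kernel
theorem c17_2 : allRange (fun i => Nat.beq (act17 i) i) 1200 600 = true := by decide +kernel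
theorem c17_3 : allRange (fun i => Nat.beq (act17 i) i) 1800 258 = true := by decide +kernel
theorem h17 : ∀ i, i < T.N → Tab.relActOK T D chk17 i = true := by
  intro i hi
  rw [Tab.relActOK, ← act17_eq]
  exact (range_glue (range_of_allRange c17_0) (range_glue (range_of_allRange c17_1) (range_glue (range_of_allRange c17_2) (range_of_allRange c17_3)))) i (Nat.zero_le _) hi

def chkAll : List (List Nat) := [chk0, chk1, chk2, chk3, chk4, chk5, chk6, chk7, chk8, chk9, chk10, chk11, chk12, chk13, chk14, chk15, chk16, chk17]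
theorem hAll : ∀ w ∈ chkAll, ∀ i, i < T.N → Tab.relActOK T D w i = true := by
  intro w hw
  simp only [chkAll, List.mem_cons, List.not_mem_nil, or_false] at hw
  rcases hw with rfl | rfl | rfl | rfl | rfl | rfl | rfl | rfl | rfl | rfl | rfl | rfl | rfl | rfl | rfl | rfl | rfl | rfl
  · exact h0
  · exact h1
  · exact h2
  · exact h3
  · exact h4
  · exact h5
  · exact h6
  · exact h7
  · exact h8
  · exact h9
  · exact h10
  · exact h11
  · exact h12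
  · exact h13
  · exact h14
  · exact h15
  · exact h16
  · exact h17
theorem hAll_lt : ∀ w ∈ chkAll, ∀ x ∈ w, x < 7 := by decide +kernel

end Cfsg.Agent.Lib.Helper4.TCD.HeS
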