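import Mathlib
import Cfsg.Agent.Lib.Helper4.HeMain
import Cfsg.Agent.Lib.Helper4.TCD_HeB_Fin
import Cfsg.Agent.Lib.Helper4.TCD_HeS
import Cfsg.Agent.Lib.Helper4.S44pStem
import Cfsg.Agent.Lib.Helper4.TC19
import Cfsg.Agent.Lib.Helper4.StemLib6
import Cfsg.Agent.Lib.Helper4.RelLib

/-! The presented Held group contains the presented group `S44p` (the symplectic group S4(4)) as a subgroup of index 4116,
and stem extensions with kernel of prime order split over it. -/

set_option autoImplicit false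

namespace Cfsg.Agent.Lib.Helper4.HeSub

open Cfsg.Agent.Lib.Helper4.TC Cfsg.Agent.Lib.Helper4.TCD Cfsg.Agent.Lib.Helper4.TC.Log Cfsg.Agent.Lib.Helper4.Stem

/-- the letters of `S44p` as words of `He` -/
def Wf (l : ℕ) : List ℕ := [[2, 3, 1, 2, 3, 4, 1, 2, 3, 4, 1, 2, 3, 4, 1, 2, 3, 4, 1, 2, 3, 4, 1, 2, 3, 4, 1, 2, 3, 4, 5], [5, 4, 3, 2, 1, 4, 3, 2, 1, 4, 3, 2, 1, 4, 3, 2, 1, 4, 3, 2, 1, 4, 3, 2, 1, 4, 3, 2, 1, 3, 2], [4], [4], [2], [2]].getD l []

/-- the words of `S44p` for the further generators of the subgroup -/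
def Xk : List (List ℕ) := [[0, 0, 0, 4, 1, 4, 0, 4, 1, 1, 1], [0, 2, 4, 1, 4, 0, 2, 1, 4, 0, 4, 1, 2, 4], [0, 2, 1, 2, 0, 2, 4]]
/-- the further generators of the subgroup -/
def Xg : List (List ℕ) := [[0], [3], [5]]

theorem checks_eq : PS44p.P.real.map (fun L => L.flatMap Wf) ++
    (List.range 6).map (fun l => Wf l ++ Wf (PS44p.P.invR l)) ++
    (List.zip Xk Xg).map (fun p => p.1.flatMap Wf ++ invWord PHe.P.invR p.2) = HeS.chkAll := by decide +kernel

theorem word_one (w : List ℕ) (hw : w ∈ HeS.chkAll) : wordP PHe.P.gR w = 1 := by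
  obtain ⟨fG, hinj, hcard⟩ := HeMain.order_aux
  exact He1.inst.word_eq_one hinj w (HeS.hAll_lt w hw) (HeS.hAll w hw)

theorem emb : WordEmb PS44p.P PHe.P.gR Wf where
  hP := PS44p.valid
  hinv := by
    intro l hl
    have hl : l < 6 := hl
    apply word_one
    rw [← checks_eq]
    apply List.mem_append_left
    apply List.mem_append_right
    exact List.mem_map.2 ⟨l, List.mem_range.2 hl, rfl⟩
  hrel := by
    intro L hL
    apply word_one
    rw [← checks_eq]
    apply List.mem_append_left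
    apply List.mem_append_left
    exact List.mem_map.2 ⟨L, hL, rfl⟩

/-- the homomorphism from `S44p` -/
noncomputable def f : PS44p.P.Grp →* PHe.P.Grp := emb.hom

theorem f_gR (l : ℕ) (hl : l < 6) : f (PS44p.P.gR l) = wordP PHe.P.gR (Wf l) := emb.hom_gR l hl

theorem f_word (L : List ℕ) (hL : ∀ x ∈ L, x < 6) : f (wordP PS44p.P.gR L) = wordP PHe.P.gR (L.flatMap Wf) := by
  induction L with
  | nil => simp [wordP_nil]
  | cons x L ih =>
    rw [wordP_cons, map_mul, List.flatMap_cons, wordP_append, f_gR x (hL x List.mem_cons_self),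
      ih fun y hy => hL y (List.mem_cons_of_mem _ hy)]

theorem hGinv (L : List ℕ) (hL : ∀ x ∈ L, x < 7) :
    wordP PHe.P.gR (invWord PHe.P.invR L) = (wordP PHe.P.gR L)⁻¹ := by
  apply Chain.wordP_invWord'
  intro y hy
  exact (PHe.valid.invR_sound y (le_of_lt (hL y hy))).2

theorem extra_mem : ∀ p ∈ List.zip Xk Xg, wordP PHe.P.gR p.2 ∈ f.range := by
  intro p hp
  have hk : ∀ x ∈ p.1, x < 6 := by
    revert p
    decide
  have hg : ∀ x ∈ p.2, x < 7 := by
    revert p
    decide
  have hm : p.1.flatMap Wf ++ invWord PHe.P.invR p.2 ∈ HeS.chkAll := by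
    rw [← checks_eq]
    apply List.mem_append_right
    exact List.mem_map.2 ⟨p, hp, rfl⟩
  have h1 := word_one _ hm
  rw [wordP_append, hGinv p.2 hg, mul_inv_eq_one] at h1
  exact ⟨wordP PS44p.P.gR p.1, by rw [f_word p.1 hk, h1]⟩

theorem range_eq : f.range = Inst.subG PHe.P HeB.subs := by
  have i1 : PS44p.P.gR 1 = (PS44p.P.gR 0)⁻¹ := (PS44p.valid.invR_sound 0 (by decide)).2
  have i3 : PS44p.P.gR 3 = (PS44p.P.gR 2)⁻¹ := (PS44p.valid.invR_sound 2 (by decide)).2
  have i5 : PS44p.P.gR 5 = (PS44p.P.gR 4)⁻¹ := (PS44p.valid.invR_sound 4 (by decide)).2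
  have m0 : f (PS44p.P.gR 0) ∈ Inst.subG PHe.P HeB.subs := by
    rw [f_gR 0 (by decide)]
    exact Subgroup.subset_closure ⟨Wf 0, by decide, rfl⟩
  have m2 : f (PS44p.P.gR 2) ∈ Inst.subG PHe.P HeB.subs := by
    rw [f_gR 2 (by decide)]
    exact Subgroup.subset_closure ⟨Wf 2, by decide, rfl⟩
  have m4 : f (PS44p.P.gR 4) ∈ Inst.subG PHe.P HeB.subs := by
    rw [f_gR 4 (by decide)]
    exact Subgroup.subset_closure ⟨Wf 4, by decide, rfl⟩
  rw [MonoidHom.range_eq_map, ← PS44p.valid.gen_top, MonoidHom.map_closure]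
  apply le_antisymm
  · rw [Subgroup.closure_le]
    rintro _ ⟨_, ⟨l, hl, rfl⟩, rfl⟩
    have hl : l < 6 := hl
    rw [SetLike.mem_coe]
    interval_cases l
    · exact m0
    · rw [i1, map_inv]; exact inv_mem m0
    · exact m2
    · rw [i3, map_inv]; exact inv_mem m2
    · exact m4
    · rw [i5, map_inv]; exact inv_mem m4
  · unfold Inst.subG
    rw [Subgroup.closure_le]
    rintro _ ⟨u, hu, rfl⟩
    have hu' : u ∈ [Wf 0, Wf 2, Wf 4] ∨ u ∈ Xg := by
      have : HeB.subs = [Wf 0, Wf 2, Wf 4] ++ Xg := by decide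
      rw [this] at hu
      exact List.mem_append.1 hu
    rcases hu' with hu' | hu'
    · simp only [List.mem_cons, List.not_mem_nil, or_false] at hu'
      rcases hu' with rfl | rfl | rfl
      · exact Subgroup.subset_closure ⟨PS44p.P.gR 0, ⟨0, by decide, rfl⟩, f_gR 0 (by decide)⟩
      · exact Subgroup.subset_closure ⟨PS44p.P.gR 2, ⟨2, by decide, rfl⟩, f_gR 2 (by decide)⟩
      · exact Subgroup.subset_closure ⟨PS44p.P.gR 4, ⟨4, by decide, rfl⟩, f_gR 4 (by decide)⟩
    · have hz : ∃ p ∈ List.zip Xk Xg, p.2 = u := by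
        revert u
        decide
      obtain ⟨p, hp, rfl⟩ := hz
      have := extra_mem p hp
      rw [MonoidHom.range_eq_map, ← PS44p.valid.gen_top, MonoidHom.map_closure] at this
      exact this

/-- the subgroup is an image of `S44p` -/
theorem sub_card : Finite (Inst.subG PHe.P HeB.subs) ∧
    Nat.card (Inst.subG PHe.P HeB.subs) ≤ 979200 := by
  obtain ⟨fK, _, cK⟩ := S44pMain.order_aux
  rw [← range_eq]
  have := fK
  refine ⟨Finite.of_surjective f.rangeRestrict f.rangeRestrict_surjective, ?_⟩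
  rw [← cK]
  exact Nat.card_le_card_of_surjective f.rangeRestrict f.rangeRestrict_surjective

/-- the subgroup has order 979200 -/
theorem sub_card_eq : Nat.card (Inst.subG PHe.P HeB.subs) = 979200 := by
  obtain ⟨fG, _, hcard⟩ := HeMain.order_aux
  have h := Subgroup.card_mul_index (Inst.subG PHe.P HeB.subs)
  rw [HeB.index_eq, hcard] at h
  have e : (4030387200 : ℕ) = 979200 * 4116 := by norm_num
  rw [e] at h
  exact Nat.eq_of_mul_eq_mul_right (by norm_num) h

/-- `S44p` embeds -/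
theorem hom_injective : Function.Injective f := by
  obtain ⟨fK, _, cK⟩ := S44pMain.order_aux
  have := fK
  have hs : Function.Surjective f.rangeRestrict := f.rangeRestrict_surjective
  have hc : Nat.card PS44p.P.Grp ≤ Nat.card f.range := by
    rw [range_eq, sub_card_eq, cK]
  have hb : Function.Bijective f.rangeRestrict := hs.bijective_of_nat_card_le hc
  intro x y hxy
  apply hb.1
  apply Subtype.ext
  exact hxy

/-- stem extensions split over the subgroup -/
theorem liftsP_sub (p : ℕ) (hp : p.Prime) :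
    LiftsP PHe.P.Grp (Inst.subG PHe.P HeB.subs) p :=
  liftsP_of_injective f hom_injective _ range_eq p hp S44pStem.perfect (S44pStem.noStem p hp)

end Cfsg.Agent.Lib.Helper4.HeSub
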