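import Cfsg.Agent.Lib.Helper4.TCD_SHep2A_Acc

namespace Cfsg.Agent.Lib.Helper4.TCD.SHep2A

open Cfsg.Agent.Lib.Helper4.TC

set_option maxRecDepth 100000
set_option Elab.async false

theorem c_rel_63 : allRange D.relOK 467400 4068 = true := by decide +kernel
theorem c_rel_64 : allRange D.relOK 471468 4089 = true := by decide +kernel
theorem c_rel_65 : allRange D.relOK 475557 4076 = true := by decide +kernel
theorem c_rel_66 : allRange D.relOK 479633 4039 = true := by decide +kernel
theorem c_rel_67 : allRange D.relOK 483672 4065 = true := by decide +kernel
theorem c_rel_68 : allRange D.relOK 487737 4050 = true := by decide +kernel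
theorem c_rel_69 : allRange D.relOK 491787 4043 = true := by decide +kernel
theorem c_rel_70 : allRange D.relOK 495830 4125 = true := by decide +kernel
theorem c_rel_71 : allRange D.relOK 499955 4170 = true := by decide +kernel
theorem c_rel_72 : allRange D.relOK 504125 4065 = true := by decide +kernel
theorem c_rel_73 : allRange D.relOK 508190 4080 = true := by decide +kernel
theorem c_rel_74 : allRange D.relOK 512270 4068 = true := by decide +kernel
theorem c_rel_75 : allRange D.relOK 516338 3981 = true := by decide +kernel
theorem c_rel_76 : allRange D.relOK 520319 2855 = true := by decide +kernel
theorem c_rel_77 : allRange D.relOK 523174 3436 = true := by decide +kernel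
theorem c_rel_78 : allRange D.relOK 526610 3949 = true := by decide +kernel
theorem c_rel_79 : allRange D.relOK 530559 4050 = true := by decide +kernel
theorem c_rel_80 : allRange D.relOK 534609 4008 = true := by decide +kernel
theorem c_rel_81 : allRange D.relOK 538617 4060 = true := by decide +kernel
theorem c_rel_82 : allRange D.relOK 542677 4068 = true := by decide +kernel
theorem c_rel_83 : allRange D.relOK 546745 4061 = true := by decide +kernel
theorem c_rel_84 : allRange D.relOK 550806 3976 = true := by decide +kernel
theorem c_rel_85 : allRange D.relOK 554782 3918 = true := by decide +kernel
theorem c_rel_86 : allRange D.relOK 558700 3833 = true := by decide +kernel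
theorem c_rel_87 : allRange D.relOK 562533 4033 = true := by decide +kernel
theorem c_rel_88 : allRange D.relOK 566566 3893 = true := by decide +kernel
theorem c_rel_89 : allRange D.relOK 570459 3879 = true := by decide +kernel
theorem c_rel_90 : allRange D.relOK 574338 3536 = true := by decide +kernel
theorem c_rel_91 : allRange D.relOK 577874 4028 = true := by decide +kernel
theorem c_rel_92 : allRange D.relOK 581902 3981 = true := by decide +kernel
theorem c_rel_93 : allRange D.relOK 585883 4001 = true := by decide +kernel
theorem c_rel_94 : allRange D.relOK 589884 3033 = true := by decide +kernel
theorem c_rel_95 : allRange D.relOK 592917 2308 = true := by decide +kernel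
theorem c_rel_96 : allRange D.relOK 595225 3390 = true := by decide +kernel
theorem c_rel_97 : allRange D.relOK 598615 3041 = true := by decide +kernel
theorem c_rel_98 : allRange D.relOK 601656 3304 = true := by decide +kernel
theorem c_rel_99 : allRange D.relOK 604960 3657 = true := by decide +kernel
theorem c_rel_100 : allRange D.relOK 608617 4010 = true := by decide +kernel
theorem c_rel_101 : allRange D.relOK 612627 4040 = true := by decide +kernel
theorem c_rel_102 : allRange D.relOK 616667 3993 = true := by decide +kernel
theorem c_rel_103 : allRange D.relOK 620660 3989 = true := by decide +kernel
theorem c_rel_104 : allRange D.relOK 624649 3968 = true := by decide +kernel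
theorem c_rel_105 : allRange D.relOK 628617 2921 = true := by decide +kernel
theorem c_rel_106 : allRange D.relOK 631538 2213 = true := by decide +kernel
theorem c_rel_107 : allRange D.relOK 633751 2238 = true := by decide +kernel
theorem c_rel_108 : allRange D.relOK 635989 2758 = true := by decide +kernel
theorem c_rel_109 : allRange D.relOK 638747 3116 = true := by decide +kernel
theorem c_rel_110 : allRange D.relOK 641863 3134 = true := by decide +kernel
theorem c_rel_111 : allRange D.relOK 644997 3974 = true := by decide +kernel
theorem c_rel_112 : allRange D.relOK 648971 3987 = true := by decide +kernel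
theorem c_rel_113 : allRange D.relOK 652958 3748 = true := by decide +kernel
theorem c_rel_114 : allRange D.relOK 656706 3879 = true := by decide +kernel
theorem c_rel_115 : allRange D.relOK 660585 3251 = true := by decide +kernel
theorem c_rel_116 : allRange D.relOK 663836 3362 = true := by decide +kernel
theorem c_rel_117 : allRange D.relOK 667198 3577 = true := by decide +kernel
theorem c_rel_118 : allRange D.relOK 670775 3872 = true := by decide +kernel
theorem c_rel_119 : allRange D.relOK 674647 3921 = true := by decide +kernel
theorem c_rel_120 : allRange D.relOK 678568 3765 = true := by decide +kernel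
theorem c_rel_121 : allRange D.relOK 682333 3971 = true := by decide +kernel
theorem c_rel_122 : allRange D.relOK 686304 3903 = true := by decide +kernel
theorem c_rel_123 : allRange D.relOK 690207 3799 = true := by decide +kernel
theorem c_rel_124 : allRange D.relOK 694006 3527 = true := by decide +kernel
theorem c_rel_125 : allRange D.relOK 697533 3477 = true := by decide +kernel
theorem c_rel_126 : allRange D.relOK 701010 3803 = true := by decide +kernel
theorem c_rel_127 : allRange D.relOK 704813 3845 = true := by decide +kernel
theorem c_rel_128 : allRange D.relOK 708658 3903 = true := by decide +kernel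
theorem c_rel_129 : allRange D.relOK 712561 3859 = true := by decide +kernel
theorem c_rel_130 : allRange D.relOK 716420 3789 = true := by decide +kernel
theorem c_rel_131 : allRange D.relOK 720209 2570 = true := by decide +kernel
theorem c_rel_132 : allRange D.relOK 722779 2516 = true := by decide +kernel
theorem c_rel_133 : allRange D.relOK 725295 3189 = true := by decide +kernel
theorem c_rel_134 : allRange D.relOK 728484 3787 = true := by decide +kernel
theorem c_rel_135 : allRange D.relOK 732271 3280 = true := by decide +kernel
theorem c_rel_136 : allRange D.relOK 735551 2486 = true := by decide +kernel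
theorem c_rel_137 : allRange D.relOK 738037 3477 = true := by decide +kernel
theorem c_rel_138 : allRange D.relOK 741514 3762 = true := by decide +kernel
theorem c_rel_139 : allRange D.relOK 745276 3531 = true := by decide +kernel
theorem c_rel_140 : allRange D.relOK 748807 3699 = true := by decide +kernel
theorem c_rel_141 : allRange D.relOK 752506 3079 = true := by decide +kernel
theorem c_rel_142 : allRange D.relOK 755585 3444 = true := by decide +kernel
theorem c_rel_143 : allRange D.relOK 759029 3527 = true := by decide +kernel
theorem c_rel_144 : allRange D.relOK 762556 3694 = true := by decide +kernel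
theorem c_rel_145 : allRange D.relOK 766250 2605 = true := by decide +kernel
theorem c_rel_146 : allRange D.relOK 768855 2399 = true := by decide +kernel
theorem c_rel_147 : allRange D.relOK 771254 2767 = true := by decide +kernel
theorem c_rel_148 : allRange D.relOK 774021 3428 = true := by decide +kernel
theorem c_rel_149 : allRange D.relOK 777449 3948 = true := by decide +kernel
theorem c_rel_150 : allRange D.relOK 781397 3747 = true := by decide +kernel
theorem c_rel_151 : allRange D.relOK 785144 3700 = true := by decide +kernel
theorem c_rel_152 : allRange D.relOK 788844 3401 = true := by decide +kernel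
theorem c_rel_153 : allRange D.relOK 792245 3001 = true := by decide +kernel
theorem c_rel_154 : allRange D.relOK 795246 2904 = true := by decide +kernel
theorem c_rel_155 : allRange D.relOK 798150 2914 = true := by decide +kernel
theorem c_rel_156 : allRange D.relOK 801064 2961 = true := by decide +kernel
theorem c_rel_157 : allRange D.relOK 804025 3022 = true := by decide +kernel
theorem c_rel_158 : allRange D.relOK 807047 3050 = true := by decide +kernel
theorem c_rel_159 : allRange D.relOK 810097 3059 = true := by decide +kernel
theorem c_rel_160 : allRange D.relOK 813156 2877 = true := by decide +kernel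
theorem c_rel_161 : allRange D.relOK 816033 3061 = true := by decide +kernel

end Cfsg.Agent.Lib.Helper4.TCD.SHep2A
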