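import Cfsg.Agent.Lib.Helper4.TCD_SHep2A_Acc

namespace Cfsg.Agent.Lib.Helper4.TCD.SHep2A

open Cfsg.Agent.Lib.Helper4.TC

set_option maxRecDepth 100000
set_option Elab.async false

theorem c_rel_162 : allRange D.relOK 819094 3005 = true := by decide +kernel
theorem c_rel_163 : allRange D.relOK 822099 2863 = true := by decide +kernel
theorem c_rel_164 : allRange D.relOK 824962 2816 = true := by decide +kernel
theorem c_rel_165 : allRange D.relOK 827778 2888 = true := by decide +kernel
theorem c_rel_166 : allRange D.relOK 830666 3167 = true := by decide +kernel
theorem c_rel_167 : allRange D.relOK 833833 2836 = true := by decide +kernel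
theorem c_rel_168 : allRange D.relOK 836669 2725 = true := by decide +kernel
theorem c_rel_169 : allRange D.relOK 839394 2720 = true := by decide +kernel
theorem c_rel_170 : allRange D.relOK 842114 2735 = true := by decide +kernel
theorem c_rel_171 : allRange D.relOK 844849 2601 = true := by decide +kernel
theorem c_rel_172 : allRange D.relOK 847450 2610 = true := by decide +kernel
theorem c_rel_173 : allRange D.relOK 850060 2822 = true := by decide +kernel
theorem c_rel_174 : allRange D.relOK 852882 2721 = true := by decide +kernel
theorem c_rel_175 : allRange D.relOK 855603 3009 = true := by decide +kernel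
theorem c_rel_176 : allRange D.relOK 858612 2595 = true := by decide +kernel
theorem c_rel_177 : allRange D.relOK 861207 2541 = true := by decide +kernel
theorem c_rel_178 : allRange D.relOK 863748 2549 = true := by decide +kernel
theorem c_rel_179 : allRange D.relOK 866297 2493 = true := by decide +kernel
theorem c_rel_180 : allRange D.relOK 868790 2499 = true := by decide +kernel
theorem c_rel_181 : allRange D.relOK 871289 2516 = true := by decide +kernel
theorem c_rel_182 : allRange D.relOK 873805 2490 = true := by decide +kernel
theorem c_rel_183 : allRange D.relOK 876295 2510 = true := by decide +kernel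
theorem c_rel_184 : allRange D.relOK 878805 2528 = true := by decide +kernel
theorem c_rel_185 : allRange D.relOK 881333 2486 = true := by decide +kernel
theorem c_rel_186 : allRange D.relOK 883819 2606 = true := by decide +kernel
theorem c_rel_187 : allRange D.relOK 886425 2605 = true := by decide +kernel
theorem c_rel_188 : allRange D.relOK 889030 2591 = true := by decide +kernel
theorem c_rel_189 : allRange D.relOK 891621 2582 = true := by decide +kernel
theorem c_rel_190 : allRange D.relOK 894203 2592 = true := by decide +kernel
theorem c_rel_191 : allRange D.relOK 896795 2629 = true := by decide +kernel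
theorem c_rel_192 : allRange D.relOK 899424 2570 = true := by decide +kernel
theorem c_rel_193 : allRange D.relOK 901994 2651 = true := by decide +kernel
theorem c_rel_194 : allRange D.relOK 904645 2542 = true := by decide +kernel
theorem c_rel_195 : allRange D.relOK 907187 2645 = true := by decide +kernel
theorem c_rel_196 : allRange D.relOK 909832 2615 = true := by decide +kernel
theorem c_rel_197 : allRange D.relOK 912447 2600 = true := by decide +kernel
theorem c_rel_198 : allRange D.relOK 915047 2591 = true := by decide +kernel
theorem c_rel_199 : allRange D.relOK 917638 2585 = true := by decide +kernel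
theorem c_rel_200 : allRange D.relOK 920223 2542 = true := by decide +kernel
theorem c_rel_201 : allRange D.relOK 922765 2502 = true := by decide +kernel
theorem c_rel_202 : allRange D.relOK 925267 2494 = true := by decide +kernel
theorem c_rel_203 : allRange D.relOK 927761 2468 = true := by decide +kernel
theorem c_rel_204 : allRange D.relOK 930229 2693 = true := by decide +kernel
theorem c_rel_205 : allRange D.relOK 932922 2517 = true := by decide +kernel
theorem c_rel_206 : allRange D.relOK 935439 4269 = true := by decide +kernel
theorem c_rel_207 : allRange D.relOK 939708 4277 = true := by decide +kernel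
theorem c_rel_208 : allRange D.relOK 943985 4126 = true := by decide +kernel
theorem c_rel_209 : allRange D.relOK 948111 4077 = true := by decide +kernel
theorem c_rel_210 : allRange D.relOK 952188 4001 = true := by decide +kernel
theorem c_rel_211 : allRange D.relOK 956189 4096 = true := by decide +kernel
theorem c_rel_212 : allRange D.relOK 960285 4029 = true := by decide +kernel
theorem c_rel_213 : allRange D.relOK 964314 3949 = true := by decide +kernel
theorem c_rel_214 : allRange D.relOK 968263 3925 = true := by decide +kernel
theorem c_rel_215 : allRange D.relOK 972188 3961 = true := by decide +kernel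
theorem c_rel_216 : allRange D.relOK 976149 4079 = true := by decide +kernel
theorem c_rel_217 : allRange D.relOK 980228 3896 = true := by decide +kernel
theorem c_rel_218 : allRange D.relOK 984124 3967 = true := by decide +kernel
theorem c_rel_219 : allRange D.relOK 988091 3927 = true := by decide +kernel
theorem c_rel_220 : allRange D.relOK 992018 3968 = true := by decide +kernel
theorem c_rel_221 : allRange D.relOK 995986 1289 = true := by decide +kernel
theorem c_fin_0 : allGrid (T.finOK D) 0 300 40 = true := by decide +kernel
theorem c_fin_1 : allGrid (T.finOK D) 300 300 40 = true := by decide +kernel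
theorem c_fin_2 : allGrid (T.finOK D) 600 300 40 = true := by decide +kernel
theorem c_fin_3 : allGrid (T.finOK D) 900 300 40 = true := by decide +kernel
theorem c_fin_4 : allGrid (T.finOK D) 1200 300 40 = true := by decide +kernel
theorem c_fin_5 : allGrid (T.finOK D) 1500 300 40 = true := by decide +kernel
theorem c_fin_6 : allGrid (T.finOK D) 1800 300 40 = true := by decide +kernel
theorem c_fin_7 : allGrid (T.finOK D) 2100 300 40 = true := by decide +kernel
theorem c_fin_8 : allGrid (T.finOK D) 2400 300 40 = true := by decide +kernel
theorem c_fin_9 : allGrid (T.finOK D) 2700 300 40 = true := by decide +kernel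
theorem c_fin_10 : allGrid (T.finOK D) 3000 300 40 = true := by decide +kernel
theorem c_fin_11 : allGrid (T.finOK D) 3300 300 40 = true := by decide +kernel
theorem c_fin_12 : allGrid (T.finOK D) 3600 300 40 = true := by decide +kernel
theorem c_fin_13 : allGrid (T.finOK D) 3900 216 40 = true := by decide +kernel
theorem c_perm_0 : allGrid (T.permOK1 D) 0 750 40 = true := by decide +kernel
theorem c_perm_1 : allGrid (T.permOK1 D) 750 750 40 = true := by decide +kernel
theorem c_perm_2 : allGrid (T.permOK1 D) 1500 750 40 = true := by decide +kernel
theorem c_perm_3 : allGrid (T.permOK1 D) 2250 750 40 = true := by decide +kernel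
theorem c_perm_4 : allGrid (T.permOK1 D) 3000 750 40 = true := by decide +kernel
theorem c_perm_5 : allGrid (T.permOK1 D) 3750 366 40 = true := by decide +kernel
theorem c_act0_0 : allRange (fun i => Nat.beq (actR0 i) i) 0 3529 = true := by decide +kernel

end Cfsg.Agent.Lib.Helper4.TCD.SHep2A
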