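import Cfsg.Agent.Lib.Helper4.TCD_SHep2A_Acc

namespace Cfsg.Agent.Lib.Helper4.TCD.SHep2A

open Cfsg.Agent.Lib.Helper4.TC

set_option maxRecDepth 100000
set_option Elab.async false

theorem c_act151_0 : allRange (fun i => Nat.beq (actR151 i) i) 0 4116 = true := by decide +kernel
theorem c_act152_0 : allRange (fun i => Nat.beq (actR152 i) i) 0 4116 = true := by decide +kernel
theorem c_act153_0 : allRange (fun i => Nat.beq (actR153 i) i) 0 4116 = true := by decide +kernel
theorem c_act154_0 : allRange (fun i => Nat.beq (actR154 i) i) 0 4116 = true := by decide +kernel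
theorem c_act155_0 : allRange (fun i => Nat.beq (actR155 i) i) 0 2500 = true := by decide +kernel
theorem c_act155_1 : allRange (fun i => Nat.beq (actR155 i) i) 2500 1616 = true := by decide +kernel
theorem c_act156_0 : allRange (fun i => Nat.beq (actR156 i) i) 0 4000 = true := by decide +kernel
theorem c_act156_1 : allRange (fun i => Nat.beq (actR156 i) i) 4000 116 = true := by decide +kernel
theorem c_act157_0 : allRange (fun i => Nat.beq (actR157 i) i) 0 4000 = true := by decide +kernel
theorem c_act157_1 : allRange (fun i => Nat.beq (actR157 i) i) 4000 116 = true := by decide +kernel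
theorem c_act158_0 : allRange (fun i => Nat.beq (actR158 i) i) 0 3529 = true := by decide +kernel
theorem c_act158_1 : allRange (fun i => Nat.beq (actR158 i) i) 3529 587 = true := by decide +kernel
theorem c_act159_0 : allRange (fun i => Nat.beq (actR159 i) i) 0 3529 = true := by decide +kernel
theorem c_act159_1 : allRange (fun i => Nat.beq (actR159 i) i) 3529 587 = true := by decide +kernel

end Cfsg.Agent.Lib.Helper4.TCD.SHep2A
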