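import Cfsg.Agent.Lib.Helper4.TCD_He1_Acc
import Cfsg.Agent.Lib.Helper4.TC13

namespace Cfsg.Agent.Lib.Helper4.TCD.SHep2W

open Cfsg.Agent.Lib.Helper4.TC Cfsg.Agent.Lib.Helper4.TCD.He1

set_option maxRecDepth 100000
set_option Elab.async false

def chk0 : List Nat := [2, 3, 1, 2, 3, 4, 1, 2, 3, 4, 1, 2, 3, 4, 1, 2, 3, 4, 1, 2, 3, 4, 1, 2, 3, 4, 1, 2, 3, 4, 5, 2, 3, 1, 2, 3, 4, 1, 2, 3, 4, 1, 2, 3, 4, 1, 2, 3, 4, 1, 2, 3, 4, 1, 2, 3, 4, 1, 2, 3, 4, 5, 2, 3, 1, 2, 3, 4, 1, 2, 3, 4, 1, 2, 3, 4, 1, 2, 3, 4, 1, 2, 3, 4, 1, 2, 3, 4, 1, 2, 3, 4, 5, 2, 3, 1, 2, 3, 4, 1, 2, 3, 4, 1, 2, 3, 4, 1, 2, 3, 4, 1, 2, 3, 4, 1, 2, 3, 4, 1, 2, 3, 4, 5, 2, 3, 1, 2, 3, 4, 1, 2, 3, 4, 1, 2, 3, 4, 1, 2, 3, 4, 1, 2, 3, 4, 1, 2, 3, 4, 1, 2, 3, 4, 5, 2, 3, 1, 2, 3, 4, 1, 2, 3, 4, 1, 2, 3, 4, 1, 2, 3, 4, 1, 2, 3, 4, 1, 2, 3, 4, 1, 2, 3, 4, 5, 2, 3, 1, 2, 3, 4, 1, 2, 3, 4, 1, 2, 3, 4, 1, 2, 3, 4, 1, 2, 3, 4, 1, 2, 3, 4, 1, 2, 3,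 4, 5, 2, 3, 1, 2, 3, 4, 1, 2, 3, 4, 1, 2, 3, 4, 1, 2, 3, 4, 1, 2, 3, 4, 1, 2, 3, 4, 1, 2, 3, 4, 5, 2, 3, 1, 2, 3, 4, 1, 2, 3, 4, 1, 2, 3, 4, 1, 2, 3, 4, 1, 2, 3, 4, 1, 2, 3, 4, 1, 2, 3, 4, 5, 2, 3, 1, 2, 3, 4, 1, 2, 3, 4, 1, 2, 3, 4, 1, 2, 3, 4, 1, 2, 3, 4, 1, 2, 3, 4, 1, 2, 3, 4, 5, 2, 3, 1, 2, 3, 4, 1, 2, 3, 4, 1, 2, 3, 4, 1, 2, 3, 4, 1, 2, 3, 4, 1, 2, 3, 4, 1, 2, 3, 4, 5, 2, 3, 1, 2, 3, 4, 1, 2, 3, 4, 1, 2, 3, 4, 1, 2, 3, 4, 1, 2, 3, 4, 1, 2, 3, 4, 1, 2, 3, 4, 5, 2, 3, 1, 2, 3, 4, 1, 2, 3, 4, 1, 2, 3, 4, 1, 2, 3, 4, 1, 2, 3, 4, 1, 2, 3, 4, 1, 2, 3, 4, 5, 2, 3, 1, 2, 3, 4, 1, 2, 3, 4, 1, 2, 3, 4, 1, 2, 3, 4, 1, 2, 3, 4, 1, 2, 3, 4, 1, 2, 3, 4, 5, 2, 3, 1, 2, 3, 4, 1, 2, 3, 4, 1, 2, 3, 4, 1, 2, 3, 4, 1, 2, 3, 4, 1, 2, 3, 4, 1, 2, 3, 4, 5, 2, 3, 1, 2, 3, 4, 1, 2, 3, 4, 1, 2, 3, 4, 1, 2, 3, 4, 1, 2, 3, 4, 1, 2, 3, 4, 1, 2, 3, 4, 5, 2, 3, 1, 2, 3, 4, 1, 2, 3, 4, 1, 2, 3, 4, 1, 2, 3, 4, 1, 2, 3, 4, 1,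 2, 3, 4, 1, 2, 3, 4, 5]
noncomputable def act0 (i : Nat) : Nat := col2 (col3 (col1 (col2 (col3 (col4 (col1 (col2 (col3 (col4 (col1 (col2 (col3 (col4 (col1 (col2 (col3 (col4 (col1 (col2 (col3 (col4 (col1 (col2 (col3 (col4 (col1 (col2 (col3 (col4 (col5 (col2 (col3 (col1 (col2 (col3 (col4 (col1 (col2 (col3 (col4 (col1 (col2 (col3 (col4 (col1 (col2 (col3 (col4 (col1 (col2 (col3 (col4 (col1 (col2 (col3 (col4 (col1 (col2 (col3 (col4 (col5 (col2 (col3 (col1 (col2 (col3 (col4 (col1 (col2 (col3 (col4 (col1 (col2 (col3 (col4 (col1 (col2 (col3 (col4 (col1 (col2 (col3 (col4 (col1 (col2 (col3 (col4 (col1 (col2 (col3 (col4 (col5 (col2 (col3 (col1 (col2 (col3 (col4 (col1 (col2 (col3 (col4 (col1 (col2 (col3 (col4 (col1 (col2 (col3 (col4 (col1 (col2 (col3 (col4 (col1 (col2 (col3 (col4 (col1 (col2 (col3 (col4 (col5 (col2 (col3 (col1 (col2 (col3 (col4 (col1 (col2 (col3 (col4 (col1 (col2 (col3 (col4 (col1 (col2 (col3 (col4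 (col1 (col2 (col3 (col4 (col1 (col2 (col3 (col4 (col1 (col2 (col3 (col4 (col5 (col2 (col3 (col1 (col2 (col3 (col4 (col1 (col2 (col3 (col4 (col1 (col2 (col3 (col4 (col1 (col2 (col3 (col4 (col1 (col2 (col3 (col4 (col1 (col2 (col3 (col4 (col1 (col2 (col3 (col4 (col5 (col2 (col3 (col1 (col2 (col3 (col4 (col1 (col2 (col3 (col4 (col1 (col2 (col3 (col4 (col1 (col2 (col3 (col4 (col1 (col2 (col3 (col4 (col1 (col2 (col3 (col4 (col1 (col2 (col3 (col4 (col5 (col2 (col3 (col1 (col2 (col3 (col4 (col1 (col2 (col3 (col4 (col1 (col2 (col3 (col4 (col1 (col2 (col3 (col4 (col1 (col2 (col3 (col4 (col1 (col2 (col3 (col4 (col1 (col2 (col3 (col4 (col5 (col2 (col3 (col1 (col2 (col3 (col4 (col1 (col2 (col3 (col4 (col1 (col2 (col3 (col4 (col1 (col2 (col3 (col4 (col1 (col2 (col3 (col4 (col1 (col2 (col3 (col4 (col1 (col2 (col3 (col4 (col5 (col2 (col3 (col1 (col2 (col3 (col4 (col1 (col2 (col3 (col4 (col1 (col2 (col3 (col4 (col1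 (col2 (col3 (col4 (col1 (col2 (col3 (col4 (col1 (col2 (col3 (col4 (col1 (col2 (col3 (col4 (col5 (col2 (col3 (col1 (col2 (col3 (col4 (col1 (col2 (col3 (col4 (col1 (col2 (col3 (col4 (col1 (col2 (col3 (col4 (col1 (col2 (col3 (col4 (col1 (col2 (col3 (col4 (col1 (col2 (col3 (col4 (col5 (col2 (col3 (col1 (col2 (col3 (col4 (col1 (col2 (col3 (col4 (col1 (col2 (col3 (col4 (col1 (col2 (col3 (col4 (col1 (col2 (col3 (col4 (col1 (col2 (col3 (col4 (col1 (col2 (col3 (col4 (col5 (col2 (col3 (col1 (col2 (col3 (col4 (col1 (col2 (col3 (col4 (col1 (col2 (col3 (col4 (col1 (col2 (col3 (col4 (col1 (col2 (col3 (col4 (col1 (col2 (col3 (col4 (col1 (col2 (col3 (col4 (col5 (col2 (col3 (col1 (col2 (col3 (col4 (col1 (col2 (col3 (col4 (col1 (col2 (col3 (col4 (col1 (col2 (col3 (col4 (col1 (col2 (col3 (col4 (col1 (col2 (col3 (col4 (col1 (col2 (col3 (col4 (col5 (col2 (col3 (col1 (col2 (col3 (col4 (col1 (col2 (col3 (col4 (col1 (col2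 (col3 (col4 (col1 (col2 (col3 (col4 (col1 (col2 (col3 (col4 (col1 (col2 (col3 (col4 (col1 (col2 (col3 (col4 (col5 (col2 (col3 (col1 (col2 (col3 (col4 (col1 (col2 (col3 (col4 (col1 (col2 (col3 (col4 (col1 (col2 (col3 (col4 (col1 (col2 (col3 (col4 (col1 (col2 (col3 (col4 (col1 (col2 (col3 (col4 (col5 (col2 (col3 (col1 (col2 (col3 (col4 (col1 (col2 (col3 (col4 (col1 (col2 (col3 (col4 (col1 (col2 (col3 (col4 (col1 (col2 (col3 (col4 (col1 (col2 (col3 (col4 (col1 (col2 (col3 (col4 (col5 (i)))))))))))))))))))))))))))))))))))))))))))))))))))))))))))))))))))))))))))))))))))))))))))))))))))))))))))))))))))))))))))))))))))))))))))))))))))))))))))))))))))))))))))))))))))))))))))))))))))))))))))))))))))))))))))))))))))))))))))))))))))))))))))))))))))))))))))))))))))))))))))))))))))))))))))))))))))))))))))))))))))))))))))))))))))))))))))))))))))))))))))))))))))))))))))))))))))))))))))))))))))))))))))))))))))))))))))))))))))))))))))))))))))))))))))))))))))))))))))))))))))))))))))))))))))))))))))))))))))))))))))))))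
theorem act0_eq (i : Nat) : act0 i = Tab.act T D chk0 i := rfl
theorem c0_0 : allRange (fun i => Nat.beq (act0 i) i) 0 113 = true := by decide +kernel
theorem c0_1 : allRange (fun i => Nat.beq (act0 i) i) 113 113 = true := by decide +kernel
theorem c0_2 : allRange (fun i => Nat.beq (act0 i) i) 226 113 = true := by decide +kernel
theorem c0_3 : allRange (fun i => Nat.beq (act0 i) i) 339 113 = true := by decide +kernel
theorem c0_4 : allRange (fun i => Nat.beq (act0 i) i) 452 113 = true := by decide +kernel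
theorem c0_5 : allRange (fun i => Nat.beq (act0 i) i) 565 113 = true := by decide +kernel
theorem c0_6 : allRange (fun i => Nat.beq (act0 i) i) 678 113 = true := by decide +kernel
theorem c0_7 : allRange (fun i => Nat.beq (act0 i) i) 791 113 = true := by decide +kernel
theorem c0_8 : allRange (fun i => Nat.beq (act0 i) i) 904 113 = true := by decide +kernel
theorem c0_9 : allRange (fun i => Nat.beq (act0 i) i) 1017 113 = true := by decide +kernel
theorem c0_10 : allRange (fun i => Nat.beq (act0 i) i) 1130 113 = true := by decide +kernel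
theorem c0_11 : allRange (fun i => Nat.beq (act0 i) i) 1243 113 = true := by decide +kernel
theorem c0_12 : allRange (fun i => Nat.beq (act0 i) i) 1356 113 = true := by decide +kernel
theorem c0_13 : allRange (fun i => Nat.beq (act0 i) i) 1469 113 = true := by decide +kernel
theorem c0_14 : allRange (fun i => Nat.beq (act0 i) i) 1582 113 = true := by decide +kernel
theorem c0_15 : allRange (fun i => Nat.beq (act0 i) i) 1695 113 = true := by decide +kernel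
theorem c0_16 : allRange (fun i => Nat.beq (act0 i) i) 1808 113 = true := by decide +kernel
theorem c0_17 : allRange (fun i => Nat.beq (act0 i) i) 1921 113 = true := by decide +kernel
theorem c0_18 : allRange (fun i => Nat.beq (act0 i) i) 2034 24 = true := by decide +kernel
theorem h0 : ∀ i, i < T.N → Tab.relActOK T D chk0 i = true := by
  intro i hi
  rw [Tab.relActOK, ← act0_eq]
  exact (range_glue (range_of_allRange c0_0) (range_glue (range_of_allRange c0_1) (range_glue (range_of_allRange c0_2) (range_glue (range_of_allRange c0_3) (range_glue (range_of_allRange c0_4) (range_glue (range_of_allRange c0_5) (range_glue (range_of_allRange c0_6) (range_glue (range_of_allRange c0_7) (range_glue (range_of_allRange c0_8) (range_glue (range_of_allRange c0_9) (range_glue (range_of_allRange c0_10) (range_glue (range_of_allRange c0_11) (range_glue (range_of_allRange c0_12) (range_glue (range_of_allRange c0_13)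 (range_glue (range_of_allRange c0_14) (range_glue (range_of_allRange c0_15) (range_glue (range_of_allRange c0_16) (range_glue (range_of_allRange c0_17) (range_of_allRange c0_18))))))))))))))))))) i (Nat.zero_le _) hi

def chk1 : List Nat := [4, 4]
noncomputable def act1 (i : Nat) : Nat := col4 (col4 (i))
theorem act1_eq (i : Nat) : act1 i = Tab.act T D chk1 i := rfl
theorem c1_0 : allRange (fun i => Nat.beq (act1 i) i) 0 2058 = true := by decide +kernel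
theorem h1 : ∀ i, i < T.N → Tab.relActOK T D chk1 i = true := by
  intro i hi
  rw [Tab.relActOK, ← act1_eq]
  exact (range_of_allRange c1_0) i (Nat.zero_le _) hi

def chk2 : List Nat := [2, 2]
noncomputable def act2 (i : Nat) : Nat := col2 (col2 (i))
theorem act2_eq (i : Nat) : act2 i = Tab.act T D chk2 i := rfl
theorem c2_0 : allRange (fun i => Nat.beq (act2 i) i) 0 2058 = true := by decide +kernel
theorem h2 : ∀ i, i < T.N → Tab.relActOK T D chk2 i = true := by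
  intro i hi
  rw [Tab.relActOK, ← act2_eq]
  exact (range_of_allRange c2_0) i (Nat.zero_le _) hi

def chk3 : List Nat := [0, 0]
noncomputable def act3 (i : Nat) : Nat := col0 (col0 (i))
theorem act3_eq (i : Nat) : act3 i = Tab.act T D chk3 i := rfl
theorem c3_0 : allRange (fun i => Nat.beq (act3 i) i) 0 2058 = true := by decide +kernel
theorem h3 : ∀ i, i < T.N → Tab.relActOK T D chk3 i = true := by
  intro i hi
  rw [Tab.relActOK, ← act3_eq]
  exact (range_of_allRange c3_0) i (Nat.zero_le _) hi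

def chk4 : List Nat := [3, 3]
noncomputable def act4 (i : Nat) : Nat := col3 (col3 (i))
theorem act4_eq (i : Nat) : act4 i = Tab.act T D chk4 i := rfl
theorem c4_0 : allRange (fun i => Nat.beq (act4 i) i) 0 2058 = true := by decide +kernel
theorem h4 : ∀ i, i < T.N → Tab.relActOK T D chk4 i = true := by
  intro i hi
  rw [Tab.relActOK, ← act4_eq]
  exact (range_of_allRange c4_0) i (Nat.zero_le _) hi

def chk5 : List Nat := [5, 5]
noncomputable def act5 (i : Nat) : Nat := col5 (col5 (i))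
theorem act5_eq (i : Nat) : act5 i = Tab.act T D chk5 i := rfl
theorem c5_0 : allRange (fun i => Nat.beq (act5 i) i) 0 2058 = true := by decide +kernel
theorem h5 : ∀ i, i < T.N → Tab.relActOK T D chk5 i = true := by
  intro i hi
  rw [Tab.relActOK, ← act5_eq]
  exact (range_of_allRange c5_0) i (Nat.zero_le _) hi

def chk6 : List Nat := [1, 2, 1, 2, 1, 2]
noncomputable def act6 (i : Nat) : Nat := col1 (col2 (col1 (col2 (col1 (col2 (i))))))
theorem act6_eq (i : Nat) : act6 i = Tab.act T D chk6 i := rfl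
theorem c6_0 : allRange (fun i => Nat.beq (act6 i) i) 0 2058 = true := by decide +kernel
theorem h6 : ∀ i, i < T.N → Tab.relActOK T D chk6 i = true := by
  intro i hi
  rw [Tab.relActOK, ← act6_eq]
  exact (range_of_allRange c6_0) i (Nat.zero_le _) hi

def chk7 : List Nat := [6, 3, 6, 3, 6, 3]
noncomputable def act7 (i : Nat) : Nat := col6 (col3 (col6 (col3 (col6 (col3 (i))))))
theorem act7_eq (i : Nat) : act7 i = Tab.act T D chk7 i := rfl
theorem c7_0 : allRange (fun i => Nat.beq (act7 i) i) 0 2058 = true := by decide +kernel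
theorem h7 : ∀ i, i < T.N → Tab.relActOK T D chk7 i = true := by
  intro i hi
  rw [Tab.relActOK, ← act7_eq]
  exact (range_of_allRange c7_0) i (Nat.zero_le _) hi

def chk8 : List Nat := [1, 2, 2, 1]
noncomputable def act8 (i : Nat) : Nat := col1 (col2 (col2 (col1 (i))))
theorem act8_eq (i : Nat) : act8 i = Tab.act T D chk8 i := rfl
theorem c8_0 : allRange (fun i => Nat.beq (act8 i) i) 0 2058 = true := by decide +kernel
theorem h8 : ∀ i, i < T.N → Tab.relActOK T D chk8 i = true := by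
  intro i hi
  rw [Tab.relActOK, ← act8_eq]
  exact (range_of_allRange c8_0) i (Nat.zero_le _) hi

def chk9 : List Nat := [6, 3, 3, 6]
noncomputable def act9 (i : Nat) : Nat := col6 (col3 (col3 (col6 (i))))
theorem act9_eq (i : Nat) : act9 i = Tab.act T D chk9 i := rfl
theorem c9_0 : allRange (fun i => Nat.beq (act9 i) i) 0 2058 = true := by decide +kernel
theorem h9 : ∀ i, i < T.N → Tab.relActOK T D chk9 i = true := by
  intro i hi
  rw [Tab.relActOK, ← act9_eq]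
  exact (range_of_allRange c9_0) i (Nat.zero_le _) hi

def chk10 : List Nat := [1, 3, 1, 3]
noncomputable def act10 (i : Nat) : Nat := col1 (col3 (col1 (col3 (i))))
theorem act10_eq (i : Nat) : act10 i = Tab.act T D chk10 i := rfl
theorem c10_0 : allRange (fun i => Nat.beq (act10 i) i) 0 2058 = true := by decide +kernel
theorem h10 : ∀ i, i < T.N → Tab.relActOK T D chk10 i = true := by
  intro i hi
  rw [Tab.relActOK, ← act10_eq]
  exact (range_of_allRange c10_0) i (Nat.zero_le _) hi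

def chk11 : List Nat := [1, 5, 1, 5]
noncomputable def act11 (i : Nat) : Nat := col1 (col5 (col1 (col5 (i))))
theorem act11_eq (i : Nat) : act11 i = Tab.act T D chk11 i := rfl
theorem c11_0 : allRange (fun i => Nat.beq (act11 i) i) 0 2058 = true := by decide +kernel
theorem h11 : ∀ i, i < T.N → Tab.relActOK T D chk11 i = true := by
  intro i hi
  rw [Tab.relActOK, ← act11_eq]
  exact (range_of_allRange c11_0) i (Nat.zero_le _) hi

def chk12 : List Nat := [1, 6, 1, 6]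
noncomputable def act12 (i : Nat) : Nat := col1 (col6 (col1 (col6 (i))))
theorem act12_eq (i : Nat) : act12 i = Tab.act T D chk12 i := rfl
theorem c12_0 : allRange (fun i => Nat.beq (act12 i) i) 0 2058 = true := by decide +kernel
theorem h12 : ∀ i, i < T.N → Tab.relActOK T D chk12 i = true := by
  intro i hi
  rw [Tab.relActOK, ← act12_eq]
  exact (range_of_allRange c12_0) i (Nat.zero_le _) hi

def chk13 : List Nat := [6, 0, 6, 0]
noncomputable def act13 (i : Nat) : Nat := col6 (col0 (col6 (col0 (i))))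
theorem act13_eq (i : Nat) : act13 i = Tab.act T D chk13 i := rfl
theorem c13_0 : allRange (fun i => Nat.beq (act13 i) i) 0 2058 = true := by decide +kernel
theorem h13 : ∀ i, i < T.N → Tab.relActOK T D chk13 i = true := by
  intro i hi
  rw [Tab.relActOK, ← act13_eq]
  exact (range_of_allRange c13_0) i (Nat.zero_le _) hi

def chk14 : List Nat := [6, 2, 6, 2]
noncomputable def act14 (i : Nat) : Nat := col6 (col2 (col6 (col2 (i))))
theorem act14_eq (i : Nat) : act14 i = Tab.act T D chk14 i := rfl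
theorem c14_0 : allRange (fun i => Nat.beq (act14 i) i) 0 2058 = true := by decide +kernel
theorem h14 : ∀ i, i < T.N → Tab.relActOK T D chk14 i = true := by
  intro i hi
  rw [Tab.relActOK, ← act14_eq]
  exact (range_of_allRange c14_0) i (Nat.zero_le _) hi

def chk15 : List Nat := [4, 6, 5, 6, 5]
noncomputable def act15 (i : Nat) : Nat := col4 (col6 (col5 (col6 (col5 (i)))))
theorem act15_eq (i : Nat) : act15 i = Tab.act T D chk15 i := rfl
theorem c15_0 : allRange (fun i => Nat.beq (act15 i) i) 0 2058 = true := by decide +kernel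
theorem h15 : ∀ i, i < T.N → Tab.relActOK T D chk15 i = true := by
  intro i hi
  rw [Tab.relActOK, ← act15_eq]
  exact (range_of_allRange c15_0) i (Nat.zero_le _) hi

def chk16 : List Nat := [2, 3, 5, 6, 2, 3, 5, 6, 2, 3, 5, 6, 2, 3, 5, 6]
noncomputable def act16 (i : Nat) : Nat := col2 (col3 (col5 (col6 (col2 (col3 (col5 (col6 (col2 (col3 (col5 (col6 (col2 (col3 (col5 (col6 (i))))))))))))))))
theorem act16_eq (i : Nat) : act16 i = Tab.act T D chk16 i := rfl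
theorem c16_0 : allRange (fun i => Nat.beq (act16 i) i) 0 2058 = true := by decide +kernel
theorem h16 : ∀ i, i < T.N → Tab.relActOK T D chk16 i = true := by
  intro i hi
  rw [Tab.relActOK, ← act16_eq]
  exact (range_of_allRange c16_0) i (Nat.zero_le _) hi

def chk17 : List Nat := [1, 2, 3, 4, 1, 2, 3, 4, 1, 2, 3, 4, 1, 2, 3, 4, 1, 2, 3, 4, 1, 2, 3, 4, 1, 2, 3, 4, 5, 5, 4, 3, 2, 1, 4, 3, 2, 1, 4, 3, 2, 1, 4, 3, 2, 1, 4, 3, 2, 1, 4, 3, 2, 1, 4, 3, 2, 1, 3, 2, 2, 3]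
noncomputable def act17 (i : Nat) : Nat := col1 (col2 (col3 (col4 (col1 (col2 (col3 (col4 (col1 (col2 (col3 (col4 (col1 (col2 (col3 (col4 (col1 (col2 (col3 (col4 (col1 (col2 (col3 (col4 (col1 (col2 (col3 (col4 (col5 (col5 (col4 (col3 (col2 (col1 (col4 (col3 (col2 (col1 (col4 (col3 (col2 (col1 (col4 (col3 (col2 (col1 (col4 (col3 (col2 (col1 (col4 (col3 (col2 (col1 (col4 (col3 (col2 (col1 (col3 (col2 (col2 (col3 (i))))))))))))))))))))))))))))))))))))))))))))))))))))))))))))))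
theorem act17_eq (i : Nat) : act17 i = Tab.act T D chk17 i := rfl
theorem c17_0 : allRange (fun i => Nat.beq (act17 i) i) 0 937 = true := by decide +kernel
theorem c17_1 : allRange (fun i => Nat.beq (act17 i) i) 937 937 = true := by decide +kernel
theorem c17_2 : allRange (fun i => Nat.beq (act17 i) i) 1874 184 = true := by decide +kernel
theorem h17 : ∀ i, i < T.N → Tab.relActOK T D chk17 i = true := by
  intro i hi
  rw [Tab.relActOK, ← act17_eq]
  exact (range_glue (range_of_allRange c17_0) (range_glue (range_of_allRange c17_1) (range_of_allRange c17_2))) i (Nat.zero_le _) hi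

def chk18 : List Nat := [1, 1]
noncomputable def act18 (i : Nat) : Nat := col1 (col1 (i))
theorem act18_eq (i : Nat) : act18 i = Tab.act T D chk18 i := rfl
theorem c18_0 : allRange (fun i => Nat.beq (act18 i) i) 0 2058 = true := by decide +kernel
theorem h18 : ∀ i, i < T.N → Tab.relActOK T D chk18 i = true := by
  intro i hi
  rw [Tab.relActOK, ← act18_eq]
  exact (range_of_allRange c18_0) i (Nat.zero_le _) hi

def chk19 : List Nat := [6, 6]
noncomputable def act19 (i : Nat) : Nat := col6 (col6 (i))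
theorem act19_eq (i : Nat) : act19 i = Tab.act T D chk19 i := rfl
theorem c19_0 : allRange (fun i => Nat.beq (act19 i) i) 0 2058 = true := by decide +kernel
theorem h19 : ∀ i, i < T.N → Tab.relActOK T D chk19 i = true := by
  intro i hi
  rw [Tab.relActOK, ← act19_eq]
  exact (range_of_allRange c19_0) i (Nat.zero_le _) hi

def chk20 : List Nat := [2, 3, 1, 2, 3, 4, 1, 2, 3, 4, 1, 2, 3, 4, 1, 2, 3, 4, 1, 2, 3, 4, 1, 2, 3, 4, 1, 2, 3, 4, 5, 2, 3, 1, 2, 3, 4, 1, 2, 3, 4, 1, 2, 3, 4, 1, 2, 3, 4, 1, 2, 3, 4, 1, 2, 3, 4, 1, 2, 3, 4, 5, 2, 3, 1, 2, 3, 4, 1, 2, 3, 4, 1, 2, 3, 4, 1, 2, 3, 4, 1, 2, 3, 4, 1, 2, 3, 4, 1, 2, 3, 4, 5, 2, 3, 1, 2, 3, 4, 1, 2, 3, 4, 1, 2, 3, 4, 1, 2, 3, 4, 1, 2, 3, 4, 1, 2, 3, 4, 1, 2, 3, 4, 5, 2, 3, 1, 2, 3, 4, 1, 2, 3, 4, 1, 2, 3, 4, 1, 2, 3, 4, 1, 2, 3, 4, 1, 2, 3, 4, 1, 2, 3, 4, 5, 2, 3, 1, 2, 3, 4, 1, 2, 3, 4, 1, 2, 3, 4, 1, 2, 3, 4, 1, 2, 3, 4, 1, 2, 3, 4, 1, 2, 3, 4, 5, 2, 3,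 1, 2, 3, 4, 1, 2, 3, 4, 1, 2, 3, 4, 1, 2, 3, 4, 1, 2, 3, 4, 1, 2, 3, 4, 1, 2, 3, 4, 5, 2, 3, 1, 2, 3, 4, 1, 2, 3, 4, 1, 2, 3, 4, 1, 2, 3, 4, 1, 2, 3, 4, 1, 2, 3, 4, 1, 2, 3, 4, 5, 2, 3, 1, 2, 3, 4, 1, 2, 3, 4, 1, 2, 3, 4, 1, 2, 3, 4, 1, 2, 3, 4, 1, 2, 3, 4, 1, 2, 3, 4, 5, 2, 3, 1, 2, 3, 4, 1, 2, 3, 4, 1, 2, 3, 4, 1, 2, 3, 4, 1, 2, 3, 4, 1, 2, 3, 4, 1, 2, 3, 4, 5, 2, 3, 1, 2, 3, 4, 1, 2, 3, 4, 1, 2, 3, 4, 1, 2, 3, 4, 1, 2, 3, 4, 1, 2, 3, 4, 1, 2, 3, 4, 5, 2, 3, 1, 2, 3, 4, 1, 2, 3, 4, 1, 2, 3, 4, 1, 2, 3, 4, 1, 2, 3, 4, 1, 2, 3, 4, 1, 2, 3, 4, 5, 2, 3, 1, 2, 3, 4, 1, 2, 3, 4, 1, 2, 3, 4, 1, 2, 3, 4, 1, 2, 3, 4, 1, 2, 3, 4, 1, 2, 3, 4, 5, 2, 3, 1, 2, 3, 4, 1, 2, 3, 4, 1, 2, 3, 4, 1, 2, 3, 4, 1, 2, 3, 4, 1, 2, 3, 4, 1, 2, 3, 4, 5, 2, 3, 1, 2, 3, 4, 1, 2, 3, 4, 1, 2, 3, 4, 1, 2, 3, 4, 1, 2, 3, 4, 1, 2, 3, 4, 1, 2, 3, 4, 5, 2, 3, 1, 2, 3, 4, 1, 2, 3, 4, 1, 2, 3, 4, 1, 2, 3, 4, 1, 2, 3, 4, 1, 2, 3, 4, 1,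 2, 3, 4, 5, 2, 3, 1, 2, 3, 4, 1, 2, 3, 4, 1, 2, 3, 4, 1, 2, 3, 4, 1, 2, 3, 4, 1, 2, 3, 4, 1, 2, 3, 4, 5]
noncomputable def act20 (i : Nat) : Nat := col2 (col3 (col1 (col2 (col3 (col4 (col1 (col2 (col3 (col4 (col1 (col2 (col3 (col4 (col1 (col2 (col3 (col4 (col1 (col2 (col3 (col4 (col1 (col2 (col3 (col4 (col1 (col2 (col3 (col4 (col5 (col2 (col3 (col1 (col2 (col3 (col4 (col1 (col2 (col3 (col4 (col1 (col2 (col3 (col4 (col1 (col2 (col3 (col4 (col1 (col2 (col3 (col4 (col1 (col2 (col3 (col4 (col1 (col2 (col3 (col4 (col5 (col2 (col3 (col1 (col2 (col3 (col4 (col1 (col2 (col3 (col4 (col1 (col2 (col3 (col4 (col1 (col2 (col3 (col4 (col1 (col2 (col3 (col4 (col1 (col2 (col3 (col4 (col1 (col2 (col3 (col4 (col5 (col2 (col3 (col1 (col2 (col3 (col4 (col1 (col2 (col3 (col4 (col1 (col2 (col3 (col4 (col1 (col2 (col3 (col4 (col1 (col2 (col3 (col4 (col1 (col2 (col3 (col4 (col1 (col2 (col3 (col4 (col5 (col2 (col3 (col1 (col2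 (col3 (col4 (col1 (col2 (col3 (col4 (col1 (col2 (col3 (col4 (col1 (col2 (col3 (col4 (col1 (col2 (col3 (col4 (col1 (col2 (col3 (col4 (col1 (col2 (col3 (col4 (col5 (col2 (col3 (col1 (col2 (col3 (col4 (col1 (col2 (col3 (col4 (col1 (col2 (col3 (col4 (col1 (col2 (col3 (col4 (col1 (col2 (col3 (col4 (col1 (col2 (col3 (col4 (col1 (col2 (col3 (col4 (col5 (col2 (col3 (col1 (col2 (col3 (col4 (col1 (col2 (col3 (col4 (col1 (col2 (col3 (col4 (col1 (col2 (col3 (col4 (col1 (col2 (col3 (col4 (col1 (col2 (col3 (col4 (col1 (col2 (col3 (col4 (col5 (col2 (col3 (col1 (col2 (col3 (col4 (col1 (col2 (col3 (col4 (col1 (col2 (col3 (col4 (col1 (col2 (col3 (col4 (col1 (col2 (col3 (col4 (col1 (col2 (col3 (col4 (col1 (col2 (col3 (col4 (col5 (col2 (col3 (col1 (col2 (col3 (col4 (col1 (col2 (col3 (col4 (col1 (col2 (col3 (col4 (col1 (col2 (col3 (col4 (col1 (col2 (col3 (col4 (col1 (col2 (col3 (col4 (col1 (col2 (col3 (col4 (col5 (col2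 (col3 (col1 (col2 (col3 (col4 (col1 (col2 (col3 (col4 (col1 (col2 (col3 (col4 (col1 (col2 (col3 (col4 (col1 (col2 (col3 (col4 (col1 (col2 (col3 (col4 (col1 (col2 (col3 (col4 (col5 (col2 (col3 (col1 (col2 (col3 (col4 (col1 (col2 (col3 (col4 (col1 (col2 (col3 (col4 (col1 (col2 (col3 (col4 (col1 (col2 (col3 (col4 (col1 (col2 (col3 (col4 (col1 (col2 (col3 (col4 (col5 (col2 (col3 (col1 (col2 (col3 (col4 (col1 (col2 (col3 (col4 (col1 (col2 (col3 (col4 (col1 (col2 (col3 (col4 (col1 (col2 (col3 (col4 (col1 (col2 (col3 (col4 (col1 (col2 (col3 (col4 (col5 (col2 (col3 (col1 (col2 (col3 (col4 (col1 (col2 (col3 (col4 (col1 (col2 (col3 (col4 (col1 (col2 (col3 (col4 (col1 (col2 (col3 (col4 (col1 (col2 (col3 (col4 (col1 (col2 (col3 (col4 (col5 (col2 (col3 (col1 (col2 (col3 (col4 (col1 (col2 (col3 (col4 (col1 (col2 (col3 (col4 (col1 (col2 (col3 (col4 (col1 (col2 (col3 (col4 (col1 (col2 (col3 (col4 (col1 (col2 (col3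 (col4 (col5 (col2 (col3 (col1 (col2 (col3 (col4 (col1 (col2 (col3 (col4 (col1 (col2 (col3 (col4 (col1 (col2 (col3 (col4 (col1 (col2 (col3 (col4 (col1 (col2 (col3 (col4 (col1 (col2 (col3 (col4 (col5 (col2 (col3 (col1 (col2 (col3 (col4 (col1 (col2 (col3 (col4 (col1 (col2 (col3 (col4 (col1 (col2 (col3 (col4 (col1 (col2 (col3 (col4 (col1 (col2 (col3 (col4 (col1 (col2 (col3 (col4 (col5 (col2 (col3 (col1 (col2 (col3 (col4 (col1 (col2 (col3 (col4 (col1 (col2 (col3 (col4 (col1 (col2 (col3 (col4 (col1 (col2 (col3 (col4 (col1 (col2 (col3 (col4 (col1 (col2 (col3 (col4 (col5 (i)))))))))))))))))))))))))))))))))))))))))))))))))))))))))))))))))))))))))))))))))))))))))))))))))))))))))))))))))))))))))))))))))))))))))))))))))))))))))))))))))))))))))))))))))))))))))))))))))))))))))))))))))))))))))))))))))))))))))))))))))))))))))))))))))))))))))))))))))))))))))))))))))))))))))))))))))))))))))))))))))))))))))))))))))))))))))))))))))))))))))))))))))))))))))))))))))))))))))))))))))))))))))))))))))))))))))))))))))))))))))))))))))))))))))))))))))))))))))))))))))))))))))))))))))))))))))))))))))))))))))))))))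
theorem act20_eq (i : Nat) : act20 i = Tab.act T D chk20 i := rfl
theorem c20_0 : allRange (fun i => Nat.beq (act20 i) i) 0 113 = true := by decide +kernel
theorem c20_1 : allRange (fun i => Nat.beq (act20 i) i) 113 113 = true := by decide +kernel
theorem c20_2 : allRange (fun i => Nat.beq (act20 i) i) 226 113 = true := by decide +kernel
theorem c20_3 : allRange (fun i => Nat.beq (act20 i) i) 339 113 = true := by decide +kernel
theorem c20_4 : allRange (fun i => Nat.beq (act20 i) i) 452 113 = true := by decide +kernel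
theorem c20_5 : allRange (fun i => Nat.beq (act20 i) i) 565 113 = true := by decide +kernel
theorem c20_6 : allRange (fun i => Nat.beq (act20 i) i) 678 113 = true := by decide +kernel
theorem c20_7 : allRange (fun i => Nat.beq (act20 i) i) 791 113 = true := by decide +kernel
theorem c20_8 : allRange (fun i => Nat.beq (act20 i) i) 904 113 = true := by decide +kernel
theorem c20_9 : allRange (fun i => Nat.beq (act20 i) i) 1017 113 = true := by decide +kernel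
theorem c20_10 : allRange (fun i => Nat.beq (act20 i) i) 1130 113 = true := by decide +kernel
theorem c20_11 : allRange (fun i => Nat.beq (act20 i) i) 1243 113 = true := by decide +kernel
theorem c20_12 : allRange (fun i => Nat.beq (act20 i) i) 1356 113 = true := by decide +kernel
theorem c20_13 : allRange (fun i => Nat.beq (act20 i) i) 1469 113 = true := by decide +kernel
theorem c20_14 : allRange (fun i => Nat.beq (act20 i) i) 1582 113 = true := by decide +kernel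
theorem c20_15 : allRange (fun i => Nat.beq (act20 i) i) 1695 113 = true := by decide +kernel
theorem c20_16 : allRange (fun i => Nat.beq (act20 i) i) 1808 113 = true := by decide +kernel
theorem c20_17 : allRange (fun i => Nat.beq (act20 i) i) 1921 113 = true := by decide +kernel
theorem c20_18 : allRange (fun i => Nat.beq (act20 i) i) 2034 24 = true := by decide +kernel
theorem h20 : ∀ i, i < T.N → Tab.relActOK T D chk20 i = true := by
  intro i hi
  rw [Tab.relActOK, ← act20_eq]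
  exact (range_glue (range_of_allRange c20_0) (range_glue (range_of_allRange c20_1) (range_glue (range_of_allRange c20_2) (range_glue (range_of_allRange c20_3) (range_glue (range_of_allRange c20_4) (range_glue (range_of_allRange c20_5) (range_glue (range_of_allRange c20_6) (range_glue (range_of_allRange c20_7) (range_glue (range_of_allRange c20_8) (range_glue (range_of_allRange c20_9) (range_glue (range_of_allRange c20_10) (range_glue (range_of_allRange c20_11) (range_glue (range_of_allRange c20_12) (range_glue (range_of_allRange c20_13) (range_glue (range_of_allRange c20_14) (range_glue (range_of_allRange c20_15) (range_glue (range_of_allRange c20_16) (range_glue (range_of_allRange c20_17) (range_of_allRange c20_18))))))))))))))))))) i (Nat.zero_le _) hi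

def chk21 : List Nat := [4, 4]
noncomputable def act21 (i : Nat) : Nat := col4 (col4 (i))
theorem act21_eq (i : Nat) : act21 i = Tab.act T D chk21 i := rfl
theorem c21_0 : allRange (fun i => Nat.beq (act21 i) i) 0 2058 = true := by decide +kernel
theorem h21 : ∀ i, i < T.N → Tab.relActOK T D chk21 i = true := by
  intro i hi
  rw [Tab.relActOK, ← act21_eq]
  exact (range_of_allRange c21_0) i (Nat.zero_le _) hi

def chk22 : List Nat := [2, 3, 1, 2, 3, 4, 1, 2, 3, 4, 1, 2, 3, 4, 1, 2, 3, 4, 1, 2, 3, 4, 1, 2, 3, 4, 1, 2, 3, 4, 5, 2, 3, 1, 2, 3, 4, 1, 2, 3, 4, 1, 2, 3, 4, 1, 2, 3, 4, 1, 2, 3, 4, 1, 2, 3, 4, 1, 2, 3, 4, 5, 2, 3, 1, 2, 3, 4, 1, 2, 3, 4, 1, 2, 3, 4, 1, 2, 3, 4, 1, 2, 3, 4, 1, 2, 3, 4, 1, 2, 3, 4, 5, 4, 5, 4, 3, 2, 1, 4, 3, 2, 1, 4, 3, 2, 1, 4, 3, 2, 1, 4, 3, 2, 1, 4, 3, 2, 1, 4, 3, 2, 1, 3, 2, 4, 2, 3, 1, 2, 3, 4, 1, 2, 3, 4, 1, 2, 3, 4, 1, 2, 3, 4, 1, 2, 3, 4, 1, 2, 3, 4, 1, 2, 3, 4, 5,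 4, 2, 3, 1, 2, 3, 4, 1, 2, 3, 4, 1, 2, 3, 4, 1, 2, 3, 4, 1, 2, 3, 4, 1, 2, 3, 4, 1, 2, 3, 4, 5, 2, 3, 1, 2, 3, 4, 1, 2, 3, 4, 1, 2, 3, 4, 1, 2, 3, 4, 1, 2, 3, 4, 1, 2, 3, 4, 1, 2, 3, 4, 5, 2, 3, 1, 2, 3, 4, 1, 2, 3, 4, 1, 2, 3, 4, 1, 2, 3, 4, 1, 2, 3, 4, 1, 2, 3, 4, 1, 2, 3, 4, 5, 4, 5, 4, 3, 2, 1, 4, 3, 2, 1, 4, 3, 2, 1, 4, 3, 2, 1, 4, 3, 2, 1, 4, 3, 2, 1, 4, 3, 2, 1, 3, 2, 4, 2, 3, 1, 2, 3, 4, 1, 2, 3, 4, 1, 2, 3, 4, 1, 2, 3, 4, 1, 2, 3, 4, 1, 2, 3, 4, 1, 2, 3, 4, 5, 4]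
noncomputable def act22 (i : Nat) : Nat := col2 (col3 (col1 (col2 (col3 (col4 (col1 (col2 (col3 (col4 (col1 (col2 (col3 (col4 (col1 (col2 (col3 (col4 (col1 (col2 (col3 (col4 (col1 (col2 (col3 (col4 (col1 (col2 (col3 (col4 (col5 (col2 (col3 (col1 (col2 (col3 (col4 (col1 (col2 (col3 (col4 (col1 (col2 (col3 (col4 (col1 (col2 (col3 (col4 (col1 (col2 (col3 (col4 (col1 (col2 (col3 (col4 (col1 (col2 (col3 (col4 (col5 (col2 (col3 (col1 (col2 (col3 (col4 (col1 (col2 (col3 (col4 (col1 (col2 (col3 (col4 (col1 (col2 (col3 (col4 (col1 (col2 (col3 (col4 (col1 (col2 (col3 (col4 (col1 (col2 (col3 (col4 (col5 (col4 (col5 (col4 (col3 (col2 (col1 (col4 (col3 (col2 (col1 (col4 (col3 (col2 (col1 (col4 (col3 (col2 (col1 (col4 (col3 (col2 (col1 (col4 (col3 (col2 (col1 (col4 (col3 (col2 (col1 (col3 (col2 (col4 (col2 (col3 (col1 (col2 (col3 (col4 (col1 (col2 (col3 (col4 (col1 (col2 (col3 (col4 (col1 (col2 (col3 (col4 (col1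 (col2 (col3 (col4 (col1 (col2 (col3 (col4 (col1 (col2 (col3 (col4 (col5 (col4 (col2 (col3 (col1 (col2 (col3 (col4 (col1 (col2 (col3 (col4 (col1 (col2 (col3 (col4 (col1 (col2 (col3 (col4 (col1 (col2 (col3 (col4 (col1 (col2 (col3 (col4 (col1 (col2 (col3 (col4 (col5 (col2 (col3 (col1 (col2 (col3 (col4 (col1 (col2 (col3 (col4 (col1 (col2 (col3 (col4 (col1 (col2 (col3 (col4 (col1 (col2 (col3 (col4 (col1 (col2 (col3 (col4 (col1 (col2 (col3 (col4 (col5 (col2 (col3 (col1 (col2 (col3 (col4 (col1 (col2 (col3 (col4 (col1 (col2 (col3 (col4 (col1 (col2 (col3 (col4 (col1 (col2 (col3 (col4 (col1 (col2 (col3 (col4 (col1 (col2 (col3 (col4 (col5 (col4 (col5 (col4 (col3 (col2 (col1 (col4 (col3 (col2 (col1 (col4 (col3 (col2 (col1 (col4 (col3 (col2 (col1 (col4 (col3 (col2 (col1 (col4 (col3 (col2 (col1 (col4 (col3 (col2 (col1 (col3 (col2 (col4 (col2 (col3 (col1 (col2 (col3 (col4 (col1 (col2 (col3 (col4 (col1 (col2 (col3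 (col4 (col1 (col2 (col3 (col4 (col1 (col2 (col3 (col4 (col1 (col2 (col3 (col4 (col1 (col2 (col3 (col4 (col5 (col4 (i))))))))))))))))))))))))))))))))))))))))))))))))))))))))))))))))))))))))))))))))))))))))))))))))))))))))))))))))))))))))))))))))))))))))))))))))))))))))))))))))))))))))))))))))))))))))))))))))))))))))))))))))))))))))))))))))))))))))))))))))))))))))))))))))))))))))))))))))))))))))))))))))))))))))))))))))))))))))))))
theorem act22_eq (i : Nat) : act22 i = Tab.act T D chk22 i := rfl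
theorem c22_0 : allRange (fun i => Nat.beq (act22 i) i) 0 188 = true := by decide +kernel
theorem c22_1 : allRange (fun i => Nat.beq (act22 i) i) 188 188 = true := by decide +kernel
theorem c22_2 : allRange (fun i => Nat.beq (act22 i) i) 376 188 = true := by decide +kernel
theorem c22_3 : allRange (fun i => Nat.beq (act22 i) i) 564 188 = true := by decide +kernel
theorem c22_4 : allRange (fun i => Nat.beq (act22 i) i) 752 188 = true := by decide +kernel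
theorem c22_5 : allRange (fun i => Nat.beq (act22 i) i) 940 188 = true := by decide +kernel
theorem c22_6 : allRange (fun i => Nat.beq (act22 i) i) 1128 188 = true := by decide +kernel
theorem c22_7 : allRange (fun i => Nat.beq (act22 i) i) 1316 188 = true := by decide +kernel
theorem c22_8 : allRange (fun i => Nat.beq (act22 i) i) 1504 188 = true := by decide +kernel
theorem c22_9 : allRange (fun i => Nat.beq (act22 i) i) 1692 188 = true := by decide +kernel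
theorem c22_10 : allRange (fun i => Nat.beq (act22 i) i) 1880 178 = true := by decide +kernel
theorem h22 : ∀ i, i < T.N → Tab.relActOK T D chk22 i = true := by
  intro i hi
  rw [Tab.relActOK, ← act22_eq]
  exact (range_glue (range_of_allRange c22_0) (range_glue (range_of_allRange c22_1) (range_glue (range_of_allRange c22_2) (range_glue (range_of_allRange c22_3) (range_glue (range_of_allRange c22_4) (range_glue (range_of_allRange c22_5) (range_glue (range_of_allRange c22_6) (range_glue (range_of_allRange c22_7) (range_glue (range_of_allRange c22_8) (range_glue (range_of_allRange c22_9) (range_of_allRange c22_10))))))))))) i (Nat.zero_le _) hi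

def chk23 : List Nat := [2, 3, 1, 2, 3, 4, 1, 2, 3, 4, 1, 2, 3, 4, 1, 2, 3, 4, 1, 2, 3, 4, 1, 2, 3, 4, 1, 2, 3, 4, 5, 2, 3, 1, 2, 3, 4, 1, 2, 3, 4, 1, 2, 3, 4, 1, 2, 3, 4, 1, 2, 3, 4, 1, 2, 3, 4, 1, 2, 3, 4, 5, 2, 3, 1, 2, 3, 4, 1, 2, 3, 4, 1, 2, 3, 4, 1, 2, 3, 4, 1, 2, 3, 4, 1, 2, 3, 4, 1, 2, 3, 4, 5, 2, 3, 1, 2, 3, 4, 1, 2, 3, 4, 1, 2, 3, 4, 1, 2, 3, 4, 1, 2, 3, 4, 1, 2, 3, 4, 1, 2, 3, 4, 5, 2, 3, 1, 2, 3, 4, 1, 2, 3, 4, 1, 2, 3, 4, 1, 2, 3, 4, 1, 2, 3, 4, 1, 2, 3, 4, 1, 2, 3, 4, 5, 4, 2, 3, 1, 2, 3, 4, 1, 2, 3, 4, 1, 2, 3, 4, 1, 2, 3, 4, 1, 2, 3, 4, 1, 2, 3, 4, 1, 2, 3, 4, 5, 2, 3, 1, 2, 3, 4, 1, 2, 3, 4, 1, 2, 3, 4, 1, 2, 3, 4, 1, 2, 3, 4, 1, 2, 3, 4, 1, 2, 3, 4, 5, 2, 3, 1, 2, 3, 4, 1, 2, 3, 4, 1, 2, 3, 4, 1, 2, 3, 4, 1, 2, 3, 4, 1, 2, 3, 4, 1, 2, 3, 4, 5, 2, 3, 1, 2, 3, 4, 1, 2, 3, 4, 1, 2, 3, 4, 1, 2, 3, 4, 1, 2, 3, 4, 1, 2, 3, 4, 1, 2, 3, 4, 5, 2, 3, 1, 2, 3, 4, 1, 2, 3, 4, 1, 2, 3, 4, 1, 2,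 3, 4, 1, 2, 3, 4, 1, 2, 3, 4, 1, 2, 3, 4, 5, 4, 2, 3, 1, 2, 3, 4, 1, 2, 3, 4, 1, 2, 3, 4, 1, 2, 3, 4, 1, 2, 3, 4, 1, 2, 3, 4, 1, 2, 3, 4, 5, 2, 3, 1, 2, 3, 4, 1, 2, 3, 4, 1, 2, 3, 4, 1, 2, 3, 4, 1, 2, 3, 4, 1, 2, 3, 4, 1, 2, 3, 4, 5, 2, 3, 1, 2, 3, 4, 1, 2, 3, 4, 1, 2, 3, 4, 1, 2, 3, 4, 1, 2, 3, 4, 1, 2, 3, 4, 1, 2, 3, 4, 5, 2, 3, 1, 2, 3, 4, 1, 2, 3, 4, 1, 2, 3, 4, 1, 2, 3, 4, 1, 2, 3, 4, 1, 2, 3, 4, 1, 2, 3, 4, 5, 2, 3, 1, 2, 3, 4, 1, 2, 3, 4, 1, 2, 3, 4, 1, 2, 3, 4, 1, 2, 3, 4, 1, 2, 3, 4, 1, 2, 3, 4, 5, 4]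
noncomputable def act23 (i : Nat) : Nat := col2 (col3 (col1 (col2 (col3 (col4 (col1 (col2 (col3 (col4 (col1 (col2 (col3 (col4 (col1 (col2 (col3 (col4 (col1 (col2 (col3 (col4 (col1 (col2 (col3 (col4 (col1 (col2 (col3 (col4 (col5 (col2 (col3 (col1 (col2 (col3 (col4 (col1 (col2 (col3 (col4 (col1 (col2 (col3 (col4 (col1 (col2 (col3 (col4 (col1 (col2 (col3 (col4 (col1 (col2 (col3 (col4 (col1 (col2 (col3 (col4 (col5 (col2 (col3 (col1 (col2 (col3 (col4 (col1 (col2 (col3 (col4 (col1 (col2 (col3 (col4 (col1 (col2 (col3 (col4 (col1 (col2 (col3 (col4 (col1 (col2 (col3 (col4 (col1 (col2 (col3 (col4 (col5 (col2 (col3 (col1 (col2 (col3 (col4 (col1 (col2 (col3 (col4 (col1 (col2 (col3 (col4 (col1 (col2 (col3 (col4 (col1 (col2 (col3 (col4 (col1 (col2 (col3 (col4 (col1 (col2 (col3 (col4 (col5 (col2 (col3 (col1 (col2 (col3 (col4 (col1 (col2 (col3 (col4 (col1 (col2 (col3 (col4 (col1 (col2 (col3 (col4 (col1 (col2 (col3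 (col4 (col1 (col2 (col3 (col4 (col1 (col2 (col3 (col4 (col5 (col4 (col2 (col3 (col1 (col2 (col3 (col4 (col1 (col2 (col3 (col4 (col1 (col2 (col3 (col4 (col1 (col2 (col3 (col4 (col1 (col2 (col3 (col4 (col1 (col2 (col3 (col4 (col1 (col2 (col3 (col4 (col5 (col2 (col3 (col1 (col2 (col3 (col4 (col1 (col2 (col3 (col4 (col1 (col2 (col3 (col4 (col1 (col2 (col3 (col4 (col1 (col2 (col3 (col4 (col1 (col2 (col3 (col4 (col1 (col2 (col3 (col4 (col5 (col2 (col3 (col1 (col2 (col3 (col4 (col1 (col2 (col3 (col4 (col1 (col2 (col3 (col4 (col1 (col2 (col3 (col4 (col1 (col2 (col3 (col4 (col1 (col2 (col3 (col4 (col1 (col2 (col3 (col4 (col5 (col2 (col3 (col1 (col2 (col3 (col4 (col1 (col2 (col3 (col4 (col1 (col2 (col3 (col4 (col1 (col2 (col3 (col4 (col1 (col2 (col3 (col4 (col1 (col2 (col3 (col4 (col1 (col2 (col3 (col4 (col5 (col2 (col3 (col1 (col2 (col3 (col4 (col1 (col2 (col3 (col4 (col1 (col2 (col3 (col4 (col1 (col2 (col3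 (col4 (col1 (col2 (col3 (col4 (col1 (col2 (col3 (col4 (col1 (col2 (col3 (col4 (col5 (col4 (col2 (col3 (col1 (col2 (col3 (col4 (col1 (col2 (col3 (col4 (col1 (col2 (col3 (col4 (col1 (col2 (col3 (col4 (col1 (col2 (col3 (col4 (col1 (col2 (col3 (col4 (col1 (col2 (col3 (col4 (col5 (col2 (col3 (col1 (col2 (col3 (col4 (col1 (col2 (col3 (col4 (col1 (col2 (col3 (col4 (col1 (col2 (col3 (col4 (col1 (col2 (col3 (col4 (col1 (col2 (col3 (col4 (col1 (col2 (col3 (col4 (col5 (col2 (col3 (col1 (col2 (col3 (col4 (col1 (col2 (col3 (col4 (col1 (col2 (col3 (col4 (col1 (col2 (col3 (col4 (col1 (col2 (col3 (col4 (col1 (col2 (col3 (col4 (col1 (col2 (col3 (col4 (col5 (col2 (col3 (col1 (col2 (col3 (col4 (col1 (col2 (col3 (col4 (col1 (col2 (col3 (col4 (col1 (col2 (col3 (col4 (col1 (col2 (col3 (col4 (col1 (col2 (col3 (col4 (col1 (col2 (col3 (col4 (col5 (col2 (col3 (col1 (col2 (col3 (col4 (col1 (col2 (col3 (col4 (col1 (col2 (col3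 (col4 (col1 (col2 (col3 (col4 (col1 (col2 (col3 (col4 (col1 (col2 (col3 (col4 (col1 (col2 (col3 (col4 (col5 (col4 (i))))))))))))))))))))))))))))))))))))))))))))))))))))))))))))))))))))))))))))))))))))))))))))))))))))))))))))))))))))))))))))))))))))))))))))))))))))))))))))))))))))))))))))))))))))))))))))))))))))))))))))))))))))))))))))))))))))))))))))))))))))))))))))))))))))))))))))))))))))))))))))))))))))))))))))))))))))))))))))))))))))))))))))))))))))))))))))))))))))))))))))))))))))))))))))))))))))))))))))))))))))))))))))))))))))))))))))))))))))))))))))))))))))))))))))))))))))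
theorem act23_eq (i : Nat) : act23 i = Tab.act T D chk23 i := rfl
theorem c23_0 : allRange (fun i => Nat.beq (act23 i) i) 0 127 = true := by decide +kernel
theorem c23_1 : allRange (fun i => Nat.beq (act23 i) i) 127 127 = true := by decide +kernel
theorem c23_2 : allRange (fun i => Nat.beq (act23 i) i) 254 127 = true := by decide +kernel
theorem c23_3 : allRange (fun i => Nat.beq (act23 i) i) 381 127 = true := by decide +kernel
theorem c23_4 : allRange (fun i => Nat.beq (act23 i) i) 508 127 = true := by decide +kernel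
theorem c23_5 : allRange (fun i => Nat.beq (act23 i) i) 635 127 = true := by decide +kernel
theorem c23_6 : allRange (fun i => Nat.beq (act23 i) i) 762 127 = true := by decide +kernel
theorem c23_7 : allRange (fun i => Nat.beq (act23 i) i) 889 127 = true := by decide +kernel
theorem c23_8 : allRange (fun i => Nat.beq (act23 i) i) 1016 127 = true := by decide +kernel
theorem c23_9 : allRange (fun i => Nat.beq (act23 i) i) 1143 127 = true := by decide +kernel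
theorem c23_10 : allRange (fun i => Nat.beq (act23 i) i) 1270 127 = true := by decide +kernel
theorem c23_11 : allRange (fun i => Nat.beq (act23 i) i) 1397 127 = true := by decide +kernel
theorem c23_12 : allRange (fun i => Nat.beq (act23 i) i) 1524 127 = true := by decide +kernel
theorem c23_13 : allRange (fun i => Nat.beq (act23 i) i) 1651 127 = true := by decide +kernel
theorem c23_14 : allRange (fun i => Nat.beq (act23 i) i) 1778 127 = true := by decide +kernel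
theorem c23_15 : allRange (fun i => Nat.beq (act23 i) i) 1905 127 = true := by decide +kernel
theorem c23_16 : allRange (fun i => Nat.beq (act23 i) i) 2032 26 = true := by decide +kernel
theorem h23 : ∀ i, i < T.N → Tab.relActOK T D chk23 i = true := by
  intro i hi
  rw [Tab.relActOK, ← act23_eq]
  exact (range_glue (range_of_allRange c23_0) (range_glue (range_of_allRange c23_1) (range_glue (range_of_allRange c23_2) (range_glue (range_of_allRange c23_3) (range_glue (range_of_allRange c23_4) (range_glue (range_of_allRange c23_5) (range_glue (range_of_allRange c23_6) (range_glue (range_of_allRange c23_7) (range_glue (range_of_allRange c23_8) (range_glue (range_of_allRange c23_9) (range_glue (range_of_allRange c23_10) (range_glue (range_of_allRange c23_11) (range_glue (range_of_allRange c23_12) (range_glue (range_of_allRange c23_13) (range_glue (range_of_allRange c23_14) (range_glue (range_of_allRange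 c23_15) (range_of_allRange c23_16))))))))))))))))) i (Nat.zero_le _) hi

def chk24 : List Nat := [2, 2]
noncomputable def act24 (i : Nat) : Nat := col2 (col2 (i))
theorem act24_eq (i : Nat) : act24 i = Tab.act T D chk24 i := rfl
theorem c24_0 : allRange (fun i => Nat.beq (act24 i) i) 0 2058 = true := by decide +kernel
theorem h24 : ∀ i, i < T.N → Tab.relActOK T D chk24 i = true := by
  intro i hi
  rw [Tab.relActOK, ← act24_eq]
  exact (range_of_allRange c24_0) i (Nat.zero_le _) hi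

def chk25 : List Nat := [4, 2, 4, 2]
noncomputable def act25 (i : Nat) : Nat := col4 (col2 (col4 (col2 (i))))
theorem act25_eq (i : Nat) : act25 i = Tab.act T D chk25 i := rfl
theorem c25_0 : allRange (fun i => Nat.beq (act25 i) i) 0 2058 = true := by decide +kernel
theorem h25 : ∀ i, i < T.N → Tab.relActOK T D chk25 i = true := by
  intro i hi
  rw [Tab.relActOK, ← act25_eq]
  exact (range_of_allRange c25_0) i (Nat.zero_le _) hi

def chk26 : List Nat := [2, 3, 1, 2, 3, 4, 1, 2, 3, 4, 1, 2, 3, 4, 1, 2, 3, 4, 1, 2, 3, 4, 1, 2, 3, 4, 1, 2, 3, 4, 5, 2, 2, 3, 1, 2, 3, 4, 1, 2, 3, 4, 1, 2, 3, 4, 1, 2, 3, 4, 1, 2, 3, 4, 1, 2, 3, 4, 1, 2, 3, 4, 5, 2, 2, 3, 1, 2, 3, 4, 1, 2, 3, 4, 1, 2, 3, 4, 1, 2, 3, 4, 1, 2, 3, 4, 1, 2, 3, 4, 1, 2, 3, 4, 5, 2, 2, 3, 1, 2, 3, 4, 1, 2, 3, 4, 1, 2, 3, 4, 1, 2, 3, 4, 1, 2, 3, 4, 1, 2, 3, 4, 1, 2, 3, 4, 5, 2, 2, 3, 1, 2, 3, 4, 1, 2, 3, 4, 1, 2, 3, 4, 1, 2, 3, 4, 1, 2, 3, 4, 1,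 2, 3, 4, 1, 2, 3, 4, 5, 2]
noncomputable def act26 (i : Nat) : Nat := col2 (col3 (col1 (col2 (col3 (col4 (col1 (col2 (col3 (col4 (col1 (col2 (col3 (col4 (col1 (col2 (col3 (col4 (col1 (col2 (col3 (col4 (col1 (col2 (col3 (col4 (col1 (col2 (col3 (col4 (col5 (col2 (col2 (col3 (col1 (col2 (col3 (col4 (col1 (col2 (col3 (col4 (col1 (col2 (col3 (col4 (col1 (col2 (col3 (col4 (col1 (col2 (col3 (col4 (col1 (col2 (col3 (col4 (col1 (col2 (col3 (col4 (col5 (col2 (col2 (col3 (col1 (col2 (col3 (col4 (col1 (col2 (col3 (col4 (col1 (col2 (col3 (col4 (col1 (col2 (col3 (col4 (col1 (col2 (col3 (col4 (col1 (col2 (col3 (col4 (col1 (col2 (col3 (col4 (col5 (col2 (col2 (col3 (col1 (col2 (col3 (col4 (col1 (col2 (col3 (col4 (col1 (col2 (col3 (col4 (col1 (col2 (col3 (col4 (col1 (col2 (col3 (col4 (col1 (col2 (col3 (col4 (col1 (col2 (col3 (col4 (col5 (col2 (col2 (col3 (col1 (col2 (col3 (col4 (col1 (col2 (col3 (col4 (col1 (col2 (col3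 (col4 (col1 (col2 (col3 (col4 (col1 (col2 (col3 (col4 (col1 (col2 (col3 (col4 (col1 (col2 (col3 (col4 (col5 (col2 (i))))))))))))))))))))))))))))))))))))))))))))))))))))))))))))))))))))))))))))))))))))))))))))))))))))))))))))))))))))))))))))))))))))))))))))))))))))))))))))))))
theorem act26_eq (i : Nat) : act26 i = Tab.act T D chk26 i := rfl
theorem c26_0 : allRange (fun i => Nat.beq (act26 i) i) 0 370 = true := by decide +kernel
theorem c26_1 : allRange (fun i => Nat.beq (act26 i) i) 370 370 = true := by decide +kernel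
theorem c26_2 : allRange (fun i => Nat.beq (act26 i) i) 740 370 = true := by decide +kernel
theorem c26_3 : allRange (fun i => Nat.beq (act26 i) i) 1110 370 = true := by decide +kernel
theorem c26_4 : allRange (fun i => Nat.beq (act26 i) i) 1480 370 = true := by decide +kernel
theorem c26_5 : allRange (fun i => Nat.beq (act26 i) i) 1850 208 = true := by decide +kernel
theorem h26 : ∀ i, i < T.N → Tab.relActOK T D chk26 i = true := by
  intro i hi
  rw [Tab.relActOK, ← act26_eq]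
  exact (range_glue (range_of_allRange c26_0) (range_glue (range_of_allRange c26_1) (range_glue (range_of_allRange c26_2) (range_glue (range_of_allRange c26_3) (range_glue (range_of_allRange c26_4) (range_of_allRange c26_5)))))) i (Nat.zero_le _) hi

def chk27 : List Nat := [2, 3, 1, 2, 3, 4, 1, 2, 3, 4, 1, 2, 3, 4, 1, 2, 3, 4, 1, 2, 3, 4, 1, 2, 3, 4, 1, 2, 3, 4, 5, 4, 5, 4, 3, 2, 1, 4, 3, 2, 1, 4, 3, 2, 1, 4, 3, 2, 1, 4, 3, 2, 1, 4, 3, 2, 1, 4, 3, 2, 1, 3, 2, 4, 2, 5, 4, 3, 2, 1, 4, 3, 2, 1, 4, 3, 2, 1, 4, 3, 2, 1, 4, 3, 2, 1, 4, 3, 2, 1, 4, 3, 2, 1, 3, 2, 4, 2, 3, 1, 2, 3, 4, 1, 2, 3, 4, 1, 2, 3, 4, 1, 2, 3, 4, 1, 2, 3, 4, 1, 2, 3, 4, 1, 2, 3, 4, 5, 2, 2, 3, 1, 2, 3, 4, 1, 2, 3, 4, 1, 2, 3, 4, 1, 2, 3, 4, 1, 2, 3, 4, 1, 2, 3, 4, 1, 2, 3, 4, 5, 2, 4, 2, 3, 1, 2, 3, 4, 1, 2, 3, 4, 1, 2, 3, 4, 1, 2, 3, 4, 1, 2, 3, 4, 1, 2, 3, 4, 1, 2, 3, 4, 5, 2, 4, 2, 3, 1, 2, 3, 4, 1, 2, 3, 4, 1, 2, 3, 4, 1, 2, 3,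 4, 1, 2, 3, 4, 1, 2, 3, 4, 1, 2, 3, 4, 5, 2]
noncomputable def act27 (i : Nat) : Nat := col2 (col3 (col1 (col2 (col3 (col4 (col1 (col2 (col3 (col4 (col1 (col2 (col3 (col4 (col1 (col2 (col3 (col4 (col1 (col2 (col3 (col4 (col1 (col2 (col3 (col4 (col1 (col2 (col3 (col4 (col5 (col4 (col5 (col4 (col3 (col2 (col1 (col4 (col3 (col2 (col1 (col4 (col3 (col2 (col1 (col4 (col3 (col2 (col1 (col4 (col3 (col2 (col1 (col4 (col3 (col2 (col1 (col4 (col3 (col2 (col1 (col3 (col2 (col4 (col2 (col5 (col4 (col3 (col2 (col1 (col4 (col3 (col2 (col1 (col4 (col3 (col2 (col1 (col4 (col3 (col2 (col1 (col4 (col3 (col2 (col1 (col4 (col3 (col2 (col1 (col4 (col3 (col2 (col1 (col3 (col2 (col4 (col2 (col3 (col1 (col2 (col3 (col4 (col1 (col2 (col3 (col4 (col1 (col2 (col3 (col4 (col1 (col2 (col3 (col4 (col1 (col2 (col3 (col4 (col1 (col2 (col3 (col4 (col1 (col2 (col3 (col4 (col5 (col2 (col2 (col3 (col1 (col2 (col3 (col4 (col1 (col2 (col3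 (col4 (col1 (col2 (col3 (col4 (col1 (col2 (col3 (col4 (col1 (col2 (col3 (col4 (col1 (col2 (col3 (col4 (col1 (col2 (col3 (col4 (col5 (col2 (col4 (col2 (col3 (col1 (col2 (col3 (col4 (col1 (col2 (col3 (col4 (col1 (col2 (col3 (col4 (col1 (col2 (col3 (col4 (col1 (col2 (col3 (col4 (col1 (col2 (col3 (col4 (col1 (col2 (col3 (col4 (col5 (col2 (col4 (col2 (col3 (col1 (col2 (col3 (col4 (col1 (col2 (col3 (col4 (col1 (col2 (col3 (col4 (col1 (col2 (col3 (col4 (col1 (col2 (col3 (col4 (col1 (col2 (col3 (col4 (col1 (col2 (col3 (col4 (col5 (col2 (i)))))))))))))))))))))))))))))))))))))))))))))))))))))))))))))))))))))))))))))))))))))))))))))))))))))))))))))))))))))))))))))))))))))))))))))))))))))))))))))))))))))))))))))))))))))))))))))))))))))))))))))))))))))))))))))))))))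
theorem act27_eq (i : Nat) : act27 i = Tab.act T D chk27 i := rfl
theorem c27_0 : allRange (fun i => Nat.beq (act27 i) i) 0 262 = true := by decide +kernel
theorem c27_1 : allRange (fun i => Nat.beq (act27 i) i) 262 262 = true := by decide +kernel
theorem c27_2 : allRange (fun i => Nat.beq (act27 i) i) 524 262 = true := by decide +kernel
theorem c27_3 : allRange (fun i => Nat.beq (act27 i) i) 786 262 = true := by decide +kernel
theorem c27_4 : allRange (fun i => Nat.beq (act27 i) i) 1048 262 = true := by decide +kernel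
theorem c27_5 : allRange (fun i => Nat.beq (act27 i) i) 1310 262 = true := by decide +kernel
theorem c27_6 : allRange (fun i => Nat.beq (act27 i) i) 1572 262 = true := by decide +kernel
theorem c27_7 : allRange (fun i => Nat.beq (act27 i) i) 1834 224 = true := by decide +kernel
theorem h27 : ∀ i, i < T.N → Tab.relActOK T D chk27 i = true := by
  intro i hi
  rw [Tab.relActOK, ← act27_eq]
  exact (range_glue (range_of_allRange c27_0) (range_glue (range_of_allRange c27_1) (range_glue (range_of_allRange c27_2) (range_glue (range_of_allRange c27_3) (range_glue (range_of_allRange c27_4) (range_glue (range_of_allRange c27_5) (range_glue (range_of_allRange c27_6) (range_of_allRange c27_7)))))))) i (Nat.zero_le _) hi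

def chk28 : List Nat := [2, 3, 1, 2, 3, 4, 1, 2, 3, 4, 1, 2, 3, 4, 1, 2, 3, 4, 1, 2, 3, 4, 1, 2, 3, 4, 1, 2, 3, 4, 5, 2, 3, 1, 2, 3, 4, 1, 2, 3, 4, 1, 2, 3, 4, 1, 2, 3, 4, 1, 2, 3, 4, 1, 2, 3, 4, 1, 2, 3, 4, 5, 4, 2, 3, 1, 2, 3, 4, 1, 2, 3, 4, 1, 2, 3, 4, 1, 2, 3, 4, 1, 2, 3, 4, 1, 2, 3, 4, 1, 2, 3, 4, 5, 2, 2, 3, 1, 2, 3, 4, 1, 2, 3, 4, 1, 2, 3, 4, 1, 2, 3, 4, 1, 2, 3, 4, 1, 2, 3, 4, 1, 2, 3, 4, 5, 2, 5, 4, 3, 2, 1, 4, 3, 2, 1, 4, 3, 2, 1, 4, 3, 2, 1, 4, 3, 2, 1, 4, 3, 2, 1, 4, 3, 2, 1, 3, 2, 5, 4, 3, 2, 1, 4, 3, 2, 1, 4, 3, 2, 1, 4, 3, 2, 1, 4, 3, 2, 1, 4, 3, 2, 1, 4, 3, 2, 1, 3, 2, 4, 5, 4, 3, 2, 1, 4, 3, 2, 1, 4, 3, 2, 1, 4, 3, 2, 1, 4, 3, 2, 1, 4, 3, 2, 1, 4, 3, 2, 1, 3, 2, 2, 2, 3, 1, 2, 3, 4, 1, 2, 3, 4, 1, 2, 3, 4, 1, 2, 3, 4, 1, 2, 3, 4, 1, 2, 3, 4, 1, 2, 3, 4, 5, 2, 2, 3, 1, 2, 3, 4, 1, 2, 3, 4, 1, 2, 3, 4, 1, 2, 3, 4, 1, 2, 3, 4, 1, 2, 3, 4, 1, 2, 3, 4, 5, 4, 2, 3, 1, 2, 3, 4, 1, 2, 3, 4,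 1, 2, 3, 4, 1, 2, 3, 4, 1, 2, 3, 4, 1, 2, 3, 4, 1, 2, 3, 4, 5, 4]
noncomputable def act28 (i : Nat) : Nat := col2 (col3 (col1 (col2 (col3 (col4 (col1 (col2 (col3 (col4 (col1 (col2 (col3 (col4 (col1 (col2 (col3 (col4 (col1 (col2 (col3 (col4 (col1 (col2 (col3 (col4 (col1 (col2 (col3 (col4 (col5 (col2 (col3 (col1 (col2 (col3 (col4 (col1 (col2 (col3 (col4 (col1 (col2 (col3 (col4 (col1 (col2 (col3 (col4 (col1 (col2 (col3 (col4 (col1 (col2 (col3 (col4 (col1 (col2 (col3 (col4 (col5 (col4 (col2 (col3 (col1 (col2 (col3 (col4 (col1 (col2 (col3 (col4 (col1 (col2 (col3 (col4 (col1 (col2 (col3 (col4 (col1 (col2 (col3 (col4 (col1 (col2 (col3 (col4 (col1 (col2 (col3 (col4 (col5 (col2 (col2 (col3 (col1 (col2 (col3 (col4 (col1 (col2 (col3 (col4 (col1 (col2 (col3 (col4 (col1 (col2 (col3 (col4 (col1 (col2 (col3 (col4 (col1 (col2 (col3 (col4 (col1 (col2 (col3 (col4 (col5 (col2 (col5 (col4 (col3 (col2 (col1 (col4 (col3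 (col2 (col1 (col4 (col3 (col2 (col1 (col4 (col3 (col2 (col1 (col4 (col3 (col2 (col1 (col4 (col3 (col2 (col1 (col4 (col3 (col2 (col1 (col3 (col2 (col5 (col4 (col3 (col2 (col1 (col4 (col3 (col2 (col1 (col4 (col3 (col2 (col1 (col4 (col3 (col2 (col1 (col4 (col3 (col2 (col1 (col4 (col3 (col2 (col1 (col4 (col3 (col2 (col1 (col3 (col2 (col4 (col5 (col4 (col3 (col2 (col1 (col4 (col3 (col2 (col1 (col4 (col3 (col2 (col1 (col4 (col3 (col2 (col1 (col4 (col3 (col2 (col1 (col4 (col3 (col2 (col1 (col4 (col3 (col2 (col1 (col3 (col2 (col2 (col2 (col3 (col1 (col2 (col3 (col4 (col1 (col2 (col3 (col4 (col1 (col2 (col3 (col4 (col1 (col2 (col3 (col4 (col1 (col2 (col3 (col4 (col1 (col2 (col3 (col4 (col1 (col2 (col3 (col4 (col5 (col2 (col2 (col3 (col1 (col2 (col3 (col4 (col1 (col2 (col3 (col4 (col1 (col2 (col3 (col4 (col1 (col2 (col3 (col4 (col1 (col2 (col3 (col4 (col1 (col2 (col3 (col4 (col1 (col2 (col3 (col4 (col5 (col4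 (col2 (col3 (col1 (col2 (col3 (col4 (col1 (col2 (col3 (col4 (col1 (col2 (col3 (col4 (col1 (col2 (col3 (col4 (col1 (col2 (col3 (col4 (col1 (col2 (col3 (col4 (col1 (col2 (col3 (col4 (col5 (col4 (i))))))))))))))))))))))))))))))))))))))))))))))))))))))))))))))))))))))))))))))))))))))))))))))))))))))))))))))))))))))))))))))))))))))))))))))))))))))))))))))))))))))))))))))))))))))))))))))))))))))))))))))))))))))))))))))))))))))))))))))))))))))))))))))))))))))))))))))))))))))))))))))))))))))))))))))))))))))))))))))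
theorem act28_eq (i : Nat) : act28 i = Tab.act T D chk28 i := rfl
theorem c28_0 : allRange (fun i => Nat.beq (act28 i) i) 0 187 = true := by decide +kernel
theorem c28_1 : allRange (fun i => Nat.beq (act28 i) i) 187 187 = true := by decide +kernel
theorem c28_2 : allRange (fun i => Nat.beq (act28 i) i) 374 187 = true := by decide +kernel
theorem c28_3 : allRange (fun i => Nat.beq (act28 i) i) 561 187 = true := by decide +kernel
theorem c28_4 : allRange (fun i => Nat.beq (act28 i) i) 748 187 = true := by decide +kernel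
theorem c28_5 : allRange (fun i => Nat.beq (act28 i) i) 935 187 = true := by decide +kernel
theorem c28_6 : allRange (fun i => Nat.beq (act28 i) i) 1122 187 = true := by decide +kernel
theorem c28_7 : allRange (fun i => Nat.beq (act28 i) i) 1309 187 = true := by decide +kernel
theorem c28_8 : allRange (fun i => Nat.beq (act28 i) i) 1496 187 = true := by decide +kernel
theorem c28_9 : allRange (fun i => Nat.beq (act28 i) i) 1683 187 = true := by decide +kernel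
theorem c28_10 : allRange (fun i => Nat.beq (act28 i) i) 1870 187 = true := by decide +kernel
theorem c28_11 : allRange (fun i => Nat.beq (act28 i) i) 2057 1 = true := by decide +kernel
theorem h28 : ∀ i, i < T.N → Tab.relActOK T D chk28 i = true := by
  intro i hi
  rw [Tab.relActOK, ← act28_eq]
  exact (range_glue (range_of_allRange c28_0) (range_glue (range_of_allRange c28_1) (range_glue (range_of_allRange c28_2) (range_glue (range_of_allRange c28_3) (range_glue (range_of_allRange c28_4) (range_glue (range_of_allRange c28_5) (range_glue (range_of_allRange c28_6) (range_glue (range_of_allRange c28_7) (range_glue (range_of_allRange c28_8) (range_glue (range_of_allRange c28_9) (range_glue (range_of_allRange c28_10) (range_of_allRange c28_11)))))))))))) i (Nat.zero_le _) hi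

def chk29 : List Nat := [0, 2, 3, 1, 2, 3, 4, 1, 2, 3, 4, 1, 2, 3, 4, 1, 2, 3, 4, 1, 2, 3, 4, 1, 2, 3, 4, 1, 2, 3, 4, 5, 2, 3, 1, 2, 3, 4, 1, 2, 3, 4, 1, 2, 3, 4, 1, 2, 3, 4, 1, 2, 3, 4, 1, 2, 3, 4, 1, 2, 3, 4, 5, 2, 3, 1, 2, 3, 4, 1, 2, 3, 4, 1, 2, 3, 4, 1, 2, 3, 4, 1, 2, 3, 4, 1, 2, 3, 4, 1, 2, 3, 4, 5, 2, 5, 4, 3, 2, 1, 4, 3, 2, 1, 4, 3, 2, 1, 4, 3, 2, 1, 4, 3, 2, 1, 4, 3, 2, 1, 4, 3, 2, 1, 3, 2, 2, 2, 3, 1, 2, 3, 4, 1, 2, 3, 4, 1, 2, 3, 4, 1, 2, 3, 4, 1, 2, 3, 4, 1, 2, 3, 4, 1, 2, 3, 4, 5, 2, 5, 4, 3, 2, 1, 4, 3, 2, 1, 4, 3, 2, 1, 4, 3, 2, 1, 4, 3, 2, 1, 4, 3, 2, 1, 4, 3, 2, 1, 3, 2, 5, 4, 3, 2, 1, 4, 3, 2, 1, 4, 3, 2, 1, 4, 3, 2, 1, 4, 3, 2, 1, 4, 3, 2, 1, 4, 3, 2, 1, 3, 2, 5, 4, 3, 2, 1, 4, 3, 2, 1, 4, 3, 2, 1, 4, 3, 2, 1, 4, 3, 2, 1, 4, 3, 2, 1, 4, 3, 2, 1, 3, 2]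
noncomputable def act29 (i : Nat) : Nat := col0 (col2 (col3 (col1 (col2 (col3 (col4 (col1 (col2 (col3 (col4 (col1 (col2 (col3 (col4 (col1 (col2 (col3 (col4 (col1 (col2 (col3 (col4 (col1 (col2 (col3 (col4 (col1 (col2 (col3 (col4 (col5 (col2 (col3 (col1 (col2 (col3 (col4 (col1 (col2 (col3 (col4 (col1 (col2 (col3 (col4 (col1 (col2 (col3 (col4 (col1 (col2 (col3 (col4 (col1 (col2 (col3 (col4 (col1 (col2 (col3 (col4 (col5 (col2 (col3 (col1 (col2 (col3 (col4 (col1 (col2 (col3 (col4 (col1 (col2 (col3 (col4 (col1 (col2 (col3 (col4 (col1 (col2 (col3 (col4 (col1 (col2 (col3 (col4 (col1 (col2 (col3 (col4 (col5 (col2 (col5 (col4 (col3 (col2 (col1 (col4 (col3 (col2 (col1 (col4 (col3 (col2 (col1 (col4 (col3 (col2 (col1 (col4 (col3 (col2 (col1 (col4 (col3 (col2 (col1 (col4 (col3 (col2 (col1 (col3 (col2 (col2 (col2 (col3 (col1 (col2 (col3 (col4 (col1 (col2 (col3 (col4 (col1 (col2 (col3 (col4 (col1 (col2 (col3 (col4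 (col1 (col2 (col3 (col4 (col1 (col2 (col3 (col4 (col1 (col2 (col3 (col4 (col5 (col2 (col5 (col4 (col3 (col2 (col1 (col4 (col3 (col2 (col1 (col4 (col3 (col2 (col1 (col4 (col3 (col2 (col1 (col4 (col3 (col2 (col1 (col4 (col3 (col2 (col1 (col4 (col3 (col2 (col1 (col3 (col2 (col5 (col4 (col3 (col2 (col1 (col4 (col3 (col2 (col1 (col4 (col3 (col2 (col1 (col4 (col3 (col2 (col1 (col4 (col3 (col2 (col1 (col4 (col3 (col2 (col1 (col4 (col3 (col2 (col1 (col3 (col2 (col5 (col4 (col3 (col2 (col1 (col4 (col3 (col2 (col1 (col4 (col3 (col2 (col1 (col4 (col3 (col2 (col1 (col4 (col3 (col2 (col1 (col4 (col3 (col2 (col1 (col4 (col3 (col2 (col1 (col3 (col2 (i))))))))))))))))))))))))))))))))))))))))))))))))))))))))))))))))))))))))))))))))))))))))))))))))))))))))))))))))))))))))))))))))))))))))))))))))))))))))))))))))))))))))))))))))))))))))))))))))))))))))))))))))))))))))))))))))))))))))))))))))))))))))))))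
theorem act29_eq (i : Nat) : act29 i = Tab.act T D chk29 i := rfl
theorem c29_0 : allRange (fun i => Nat.beq (act29 i) i) 0 236 = true := by decide +kernel
theorem c29_1 : allRange (fun i => Nat.beq (act29 i) i) 236 236 = true := by decide +kernel
theorem c29_2 : allRange (fun i => Nat.beq (act29 i) i) 472 236 = true := by decide +kernel
theorem c29_3 : allRange (fun i => Nat.beq (act29 i) i) 708 236 = true := by decide +kernel
theorem c29_4 : allRange (fun i => Nat.beq (act29 i) i) 944 236 = true := by decide +kernel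
theorem c29_5 : allRange (fun i => Nat.beq (act29 i) i) 1180 236 = true := by decide +kernel
theorem c29_6 : allRange (fun i => Nat.beq (act29 i) i) 1416 236 = true := by decide +kernel
theorem c29_7 : allRange (fun i => Nat.beq (act29 i) i) 1652 236 = true := by decide +kernel
theorem c29_8 : allRange (fun i => Nat.beq (act29 i) i) 1888 170 = true := by decide +kernel
theorem h29 : ∀ i, i < T.N → Tab.relActOK T D chk29 i = true := by
  intro i hi
  rw [Tab.relActOK, ← act29_eq]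
  exact (range_glue (range_of_allRange c29_0) (range_glue (range_of_allRange c29_1) (range_glue (range_of_allRange c29_2) (range_glue (range_of_allRange c29_3) (range_glue (range_of_allRange c29_4) (range_glue (range_of_allRange c29_5) (range_glue (range_of_allRange c29_6) (range_glue (range_of_allRange c29_7) (range_of_allRange c29_8))))))))) i (Nat.zero_le _) hi

def chk30 : List Nat := [3, 2, 3, 1, 2, 3, 4, 1, 2, 3, 4, 1, 2, 3, 4, 1, 2, 3, 4, 1, 2, 3, 4, 1, 2, 3, 4, 1, 2, 3, 4, 5, 4, 2, 5, 4, 3, 2, 1, 4, 3, 2, 1, 4, 3, 2, 1, 4, 3, 2, 1, 4, 3, 2, 1, 4, 3, 2, 1, 4, 3, 2, 1, 3, 2, 2, 2, 3, 1, 2, 3, 4, 1, 2, 3, 4, 1, 2, 3, 4, 1, 2, 3, 4, 1, 2, 3, 4, 1, 2, 3, 4, 1, 2, 3, 4, 5, 4, 5, 4, 3, 2, 1, 4, 3, 2, 1, 4, 3, 2, 1, 4, 3, 2, 1, 4, 3, 2, 1, 4, 3, 2, 1, 4, 3, 2, 1, 3, 2, 2, 2, 3, 1, 2, 3, 4, 1, 2, 3, 4, 1, 2, 3, 4, 1, 2, 3, 4, 1, 2, 3, 4, 1, 2, 3, 4, 1, 2, 3, 4, 5, 2, 5, 4, 3, 2, 1, 4, 3, 2, 1, 4, 3,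 2, 1, 4, 3, 2, 1, 4, 3, 2, 1, 4, 3, 2, 1, 4, 3, 2, 1, 3, 2, 4, 2]
noncomputable def act30 (i : Nat) : Nat := col3 (col2 (col3 (col1 (col2 (col3 (col4 (col1 (col2 (col3 (col4 (col1 (col2 (col3 (col4 (col1 (col2 (col3 (col4 (col1 (col2 (col3 (col4 (col1 (col2 (col3 (col4 (col1 (col2 (col3 (col4 (col5 (col4 (col2 (col5 (col4 (col3 (col2 (col1 (col4 (col3 (col2 (col1 (col4 (col3 (col2 (col1 (col4 (col3 (col2 (col1 (col4 (col3 (col2 (col1 (col4 (col3 (col2 (col1 (col4 (col3 (col2 (col1 (col3 (col2 (col2 (col2 (col3 (col1 (col2 (col3 (col4 (col1 (col2 (col3 (col4 (col1 (col2 (col3 (col4 (col1 (col2 (col3 (col4 (col1 (col2 (col3 (col4 (col1 (col2 (col3 (col4 (col1 (col2 (col3 (col4 (col5 (col4 (col5 (col4 (col3 (col2 (col1 (col4 (col3 (col2 (col1 (col4 (col3 (col2 (col1 (col4 (col3 (col2 (col1 (col4 (col3 (col2 (col1 (col4 (col3 (col2 (col1 (col4 (col3 (col2 (col1 (col3 (col2 (col2 (col2 (col3 (col1 (col2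 (col3 (col4 (col1 (col2 (col3 (col4 (col1 (col2 (col3 (col4 (col1 (col2 (col3 (col4 (col1 (col2 (col3 (col4 (col1 (col2 (col3 (col4 (col1 (col2 (col3 (col4 (col5 (col2 (col5 (col4 (col3 (col2 (col1 (col4 (col3 (col2 (col1 (col4 (col3 (col2 (col1 (col4 (col3 (col2 (col1 (col4 (col3 (col2 (col1 (col4 (col3 (col2 (col1 (col4 (col3 (col2 (col1 (col3 (col2 (col4 (col2 (i)))))))))))))))))))))))))))))))))))))))))))))))))))))))))))))))))))))))))))))))))))))))))))))))))))))))))))))))))))))))))))))))))))))))))))))))))))))))))))))))))))))))))))))))))))))))))))))))))))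
theorem act30_eq (i : Nat) : act30 i = Tab.act T D chk30 i := rfl
theorem c30_0 : allRange (fun i => Nat.beq (act30 i) i) 0 304 = true := by decide +kernel
theorem c30_1 : allRange (fun i => Nat.beq (act30 i) i) 304 304 = true := by decide +kernel
theorem c30_2 : allRange (fun i => Nat.beq (act30 i) i) 608 304 = true := by decide +kernel
theorem c30_3 : allRange (fun i => Nat.beq (act30 i) i) 912 304 = true := by decide +kernel
theorem c30_4 : allRange (fun i => Nat.beq (act30 i) i) 1216 304 = true := by decide +kernel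
theorem c30_5 : allRange (fun i => Nat.beq (act30 i) i) 1520 304 = true := by decide +kernel
theorem c30_6 : allRange (fun i => Nat.beq (act30 i) i) 1824 234 = true := by decide +kernel
theorem h30 : ∀ i, i < T.N → Tab.relActOK T D chk30 i = true := by
  intro i hi
  rw [Tab.relActOK, ← act30_eq]
  exact (range_glue (range_of_allRange c30_0) (range_glue (range_of_allRange c30_1) (range_glue (range_of_allRange c30_2) (range_glue (range_of_allRange c30_3) (range_glue (range_of_allRange c30_4) (range_glue (range_of_allRange c30_5) (range_of_allRange c30_6))))))) i (Nat.zero_le _) hi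

def chk31 : List Nat := [5, 2, 3, 1, 2, 3, 4, 1, 2, 3, 4, 1, 2, 3, 4, 1, 2, 3, 4, 1, 2, 3, 4, 1, 2, 3, 4, 1, 2, 3, 4, 5, 4, 5, 4, 3, 2, 1, 4, 3, 2, 1, 4, 3, 2, 1, 4, 3, 2, 1, 4, 3, 2, 1, 4, 3, 2, 1, 4, 3, 2, 1, 3, 2, 4, 2, 3, 1, 2, 3, 4, 1, 2, 3, 4, 1, 2, 3, 4, 1, 2, 3, 4, 1, 2, 3, 4, 1, 2, 3, 4, 1, 2, 3, 4, 5, 4, 2]
noncomputable def act31 (i : Nat) : Nat := col5 (col2 (col3 (col1 (col2 (col3 (col4 (col1 (col2 (col3 (col4 (col1 (col2 (col3 (col4 (col1 (col2 (col3 (col4 (col1 (col2 (col3 (col4 (col1 (col2 (col3 (col4 (col1 (col2 (col3 (col4 (col5 (col4 (col5 (col4 (col3 (col2 (col1 (col4 (col3 (col2 (col1 (col4 (col3 (col2 (col1 (col4 (col3 (col2 (col1 (col4 (col3 (col2 (col1 (col4 (col3 (col2 (col1 (col4 (col3 (col2 (col1 (col3 (col2 (col4 (col2 (col3 (col1 (col2 (col3 (col4 (col1 (col2 (col3 (col4 (col1 (col2 (col3 (col4 (col1 (col2 (col3 (col4 (col1 (col2 (col3 (col4 (col1 (col2 (col3 (col4 (col1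 (col2 (col3 (col4 (col5 (col4 (col2 (i))))))))))))))))))))))))))))))))))))))))))))))))))))))))))))))))))))))))))))))))))))))))))))))))))
theorem act31_eq (i : Nat) : act31 i = Tab.act T D chk31 i := rfl
theorem c31_0 : allRange (fun i => Nat.beq (act31 i) i) 0 600 = true := by decide +kernel
theorem c31_1 : allRange (fun i => Nat.beq (act31 i) i) 600 600 = true := by decide +kernel
theorem c31_2 : allRange (fun i => Nat.beq (act31 i) i) 1200 600 = true := by decide +kernel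
theorem c31_3 : allRange (fun i => Nat.beq (act31 i) i) 1800 258 = true := by decide +kernel
theorem h31 : ∀ i, i < T.N → Tab.relActOK T D chk31 i = true := by
  intro i hi
  rw [Tab.relActOK, ← act31_eq]
  exact (range_glue (range_of_allRange c31_0) (range_glue (range_of_allRange c31_1) (range_glue (range_of_allRange c31_2) (range_of_allRange c31_3)))) i (Nat.zero_le _) hi

def chk32 : List Nat := [2, 3, 2, 3, 2, 3, 2, 3, 2, 3, 2, 3, 2, 3, 2, 3, 2, 3, 2, 3]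
noncomputable def act32 (i : Nat) : Nat := col2 (col3 (col2 (col3 (col2 (col3 (col2 (col3 (col2 (col3 (col2 (col3 (col2 (col3 (col2 (col3 (col2 (col3 (col2 (col3 (i))))))))))))))))))))
theorem act32_eq (i : Nat) : act32 i = Tab.act T D chk32 i := rfl
theorem c32_0 : allRange (fun i => Nat.beq (act32 i) i) 0 2058 = true := by decide +kernel
theorem h32 : ∀ i, i < T.N → Tab.relActOK T D chk32 i = true := by
  intro i hi
  rw [Tab.relActOK, ← act32_eq]
  exact (range_of_allRange c32_0) i (Nat.zero_le _) hi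

def chk33 : List Nat := [3, 4, 3, 4, 3, 4]
noncomputable def act33 (i : Nat) : Nat := col3 (col4 (col3 (col4 (col3 (col4 (i))))))
theorem act33_eq (i : Nat) : act33 i = Tab.act T D chk33 i := rfl
theorem c33_0 : allRange (fun i => Nat.beq (act33 i) i) 0 2058 = true := by decide +kernel
theorem h33 : ∀ i, i < T.N → Tab.relActOK T D chk33 i = true := by
  intro i hi
  rw [Tab.relActOK, ← act33_eq]
  exact (range_of_allRange c33_0) i (Nat.zero_le _) hi

def chk34 : List Nat := [3, 5, 3, 5, 3, 5]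
noncomputable def act34 (i : Nat) : Nat := col3 (col5 (col3 (col5 (col3 (col5 (i))))))
theorem act34_eq (i : Nat) : act34 i = Tab.act T D chk34 i := rfl
theorem c34_0 : allRange (fun i => Nat.beq (act34 i) i) 0 2058 = true := by decide +kernel
theorem h34 : ∀ i, i < T.N → Tab.relActOK T D chk34 i = true := by
  intro i hi
  rw [Tab.relActOK, ← act34_eq]
  exact (range_of_allRange c34_0) i (Nat.zero_le _) hi

def chk35 : List Nat := [0, 2, 0, 2]
noncomputable def act35 (i : Nat) : Nat := col0 (col2 (col0 (col2 (i))))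
theorem act35_eq (i : Nat) : act35 i = Tab.act T D chk35 i := rfl
theorem c35_0 : allRange (fun i => Nat.beq (act35 i) i) 0 2058 = true := by decide +kernel
theorem h35 : ∀ i, i < T.N → Tab.relActOK T D chk35 i = true := by
  intro i hi
  rw [Tab.relActOK, ← act35_eq]
  exact (range_of_allRange c35_0) i (Nat.zero_le _) hi

def chk36 : List Nat := [0, 3, 0, 3]
noncomputable def act36 (i : Nat) : Nat := col0 (col3 (col0 (col3 (i))))
theorem act36_eq (i : Nat) : act36 i = Tab.act T D chk36 i := rfl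
theorem c36_0 : allRange (fun i => Nat.beq (act36 i) i) 0 2058 = true := by decide +kernel
theorem h36 : ∀ i, i < T.N → Tab.relActOK T D chk36 i = true := by
  intro i hi
  rw [Tab.relActOK, ← act36_eq]
  exact (range_of_allRange c36_0) i (Nat.zero_le _) hi

def chk37 : List Nat := [0, 4, 0, 4]
noncomputable def act37 (i : Nat) : Nat := col0 (col4 (col0 (col4 (i))))
theorem act37_eq (i : Nat) : act37 i = Tab.act T D chk37 i := rfl
theorem c37_0 : allRange (fun i => Nat.beq (act37 i) i) 0 2058 = true := by decide +kernel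
theorem h37 : ∀ i, i < T.N → Tab.relActOK T D chk37 i = true := by
  intro i hi
  rw [Tab.relActOK, ← act37_eq]
  exact (range_of_allRange c37_0) i (Nat.zero_le _) hi

def chk38 : List Nat := [0, 5, 0, 5]
noncomputable def act38 (i : Nat) : Nat := col0 (col5 (col0 (col5 (i))))
theorem act38_eq (i : Nat) : act38 i = Tab.act T D chk38 i := rfl
theorem c38_0 : allRange (fun i => Nat.beq (act38 i) i) 0 2058 = true := by decide +kernel
theorem h38 : ∀ i, i < T.N → Tab.relActOK T D chk38 i = true := by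
  intro i hi
  rw [Tab.relActOK, ← act38_eq]
  exact (range_of_allRange c38_0) i (Nat.zero_le _) hi

def chk39 : List Nat := [2, 4, 2, 4]
noncomputable def act39 (i : Nat) : Nat := col2 (col4 (col2 (col4 (i))))
theorem act39_eq (i : Nat) : act39 i = Tab.act T D chk39 i := rfl
theorem c39_0 : allRange (fun i => Nat.beq (act39 i) i) 0 2058 = true := by decide +kernel
theorem h39 : ∀ i, i < T.N → Tab.relActOK T D chk39 i = true := by
  intro i hi
  rw [Tab.relActOK, ← act39_eq]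
  exact (range_of_allRange c39_0) i (Nat.zero_le _) hi

def chk40 : List Nat := [2, 5, 2, 5]
noncomputable def act40 (i : Nat) : Nat := col2 (col5 (col2 (col5 (i))))
theorem act40_eq (i : Nat) : act40 i = Tab.act T D chk40 i := rfl
theorem c40_0 : allRange (fun i => Nat.beq (act40 i) i) 0 2058 = true := by decide +kernel
theorem h40 : ∀ i, i < T.N → Tab.relActOK T D chk40 i = true := by
  intro i hi
  rw [Tab.relActOK, ← act40_eq]
  exact (range_of_allRange c40_0) i (Nat.zero_le _) hi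

def chk41 : List Nat := [4, 5, 4, 5]
noncomputable def act41 (i : Nat) : Nat := col4 (col5 (col4 (col5 (i))))
theorem act41_eq (i : Nat) : act41 i = Tab.act T D chk41 i := rfl
theorem c41_0 : allRange (fun i => Nat.beq (act41 i) i) 0 2058 = true := by decide +kernel
theorem h41 : ∀ i, i < T.N → Tab.relActOK T D chk41 i = true := by
  intro i hi
  rw [Tab.relActOK, ← act41_eq]
  exact (range_of_allRange c41_0) i (Nat.zero_le _) hi

def chk42 : List Nat := [0, 3, 2, 3, 2, 3, 2, 3, 2, 3, 2]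
noncomputable def act42 (i : Nat) : Nat := col0 (col3 (col2 (col3 (col2 (col3 (col2 (col3 (col2 (col3 (col2 (i)))))))))))
theorem act42_eq (i : Nat) : act42 i = Tab.act T D chk42 i := rfl
theorem c42_0 : allRange (fun i => Nat.beq (act42 i) i) 0 2058 = true := by decide +kernel
theorem h42 : ∀ i, i < T.N → Tab.relActOK T D chk42 i = true := by
  intro i hi
  rw [Tab.relActOK, ← act42_eq]
  exact (range_of_allRange c42_0) i (Nat.zero_le _) hi

def chk43 : List Nat := [1, 2, 2, 3, 1, 2, 3, 4, 1, 2, 3, 4, 1, 2, 3, 4, 1, 2, 3, 4, 1, 2, 3, 4, 1, 2, 3, 4, 1, 2, 3, 4, 5, 1, 5, 4, 3, 2, 1, 4, 3, 2, 1, 4, 3, 2, 1, 4, 3, 2, 1, 4, 3, 2, 1, 4, 3, 2, 1, 4, 3, 2, 1, 3, 2, 2]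
noncomputable def act43 (i : Nat) : Nat := col1 (col2 (col2 (col3 (col1 (col2 (col3 (col4 (col1 (col2 (col3 (col4 (col1 (col2 (col3 (col4 (col1 (col2 (col3 (col4 (col1 (col2 (col3 (col4 (col1 (col2 (col3 (col4 (col1 (col2 (col3 (col4 (col5 (col1 (col5 (col4 (col3 (col2 (col1 (col4 (col3 (col2 (col1 (col4 (col3 (col2 (col1 (col4 (col3 (col2 (col1 (col4 (col3 (col2 (col1 (col4 (col3 (col2 (col1 (col4 (col3 (col2 (col1 (col3 (col2 (col2 (i))))))))))))))))))))))))))))))))))))))))))))))))))))))))))))))))))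
theorem act43_eq (i : Nat) : act43 i = Tab.act T D chk43 i := rfl
theorem c43_0 : allRange (fun i => Nat.beq (act43 i) i) 0 882 = true := by decide +kernel
theorem c43_1 : allRange (fun i => Nat.beq (act43 i) i) 882 882 = true := by decide +kernel
theorem c43_2 : allRange (fun i => Nat.beq (act43 i) i) 1764 294 = true := by decide +kernel
theorem h43 : ∀ i, i < T.N → Tab.relActOK T D chk43 i = true := by
  intro i hi
  rw [Tab.relActOK, ← act43_eq]
  exact (range_glue (range_of_allRange c43_0) (range_glue (range_of_allRange c43_1) (range_of_allRange c43_2))) i (Nat.zero_le _) hi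

def chk44 : List Nat := [2, 2, 3, 1, 2, 3, 4, 1, 2, 3, 4, 1, 2, 3, 4, 1, 2, 3, 4, 1, 2, 3, 4, 1, 2, 3, 4, 1, 2, 3, 4, 5, 2, 2, 3, 1, 2, 3, 4, 1, 2, 3, 4, 1, 2, 3, 4, 1, 2, 3, 4, 1, 2, 3, 4, 1, 2, 3, 4, 1, 2, 3, 4, 5, 2, 2, 3, 1, 2, 3, 4, 1, 2, 3, 4, 1, 2, 3, 4, 1, 2, 3, 4, 1, 2, 3, 4, 1, 2, 3, 4, 1, 2, 3, 4, 5, 2, 2, 3, 1, 2, 3, 4, 1, 2, 3, 4, 1, 2, 3, 4, 1, 2, 3, 4, 1, 2, 3, 4, 1, 2, 3, 4, 1, 2, 3, 4, 5, 2, 2, 3, 1, 2, 3, 4, 1, 2, 3, 4, 1, 2, 3, 4, 1, 2, 3, 4, 1, 2, 3, 4, 1, 2, 3, 4, 1, 2, 3, 4, 5]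
noncomputable def act44 (i : Nat) : Nat := col2 (col2 (col3 (col1 (col2 (col3 (col4 (col1 (col2 (col3 (col4 (col1 (col2 (col3 (col4 (col1 (col2 (col3 (col4 (col1 (col2 (col3 (col4 (col1 (col2 (col3 (col4 (col1 (col2 (col3 (col4 (col5 (col2 (col2 (col3 (col1 (col2 (col3 (col4 (col1 (col2 (col3 (col4 (col1 (col2 (col3 (col4 (col1 (col2 (col3 (col4 (col1 (col2 (col3 (col4 (col1 (col2 (col3 (col4 (col1 (col2 (col3 (col4 (col5 (col2 (col2 (col3 (col1 (col2 (col3 (col4 (col1 (col2 (col3 (col4 (col1 (col2 (col3 (col4 (col1 (col2 (col3 (col4 (col1 (col2 (col3 (col4 (col1 (col2 (col3 (col4 (col1 (col2 (col3 (col4 (col5 (col2 (col2 (col3 (col1 (col2 (col3 (col4 (col1 (col2 (col3 (col4 (col1 (col2 (col3 (col4 (col1 (col2 (col3 (col4 (col1 (col2 (col3 (col4 (col1 (col2 (col3 (col4 (col1 (col2 (col3 (col4 (col5 (col2 (col2 (col3 (col1 (col2 (col3 (col4 (col1 (col2 (col3 (col4 (col1 (col2 (col3 (col4 (col1 (col2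 (col3 (col4 (col1 (col2 (col3 (col4 (col1 (col2 (col3 (col4 (col1 (col2 (col3 (col4 (col5 (i))))))))))))))))))))))))))))))))))))))))))))))))))))))))))))))))))))))))))))))))))))))))))))))))))))))))))))))))))))))))))))))))))))))))))))))))))))))))))))))))
theorem act44_eq (i : Nat) : act44 i = Tab.act T D chk44 i := rfl
theorem c44_0 : allRange (fun i => Nat.beq (act44 i) i) 0 370 = true := by decide +kernel
theorem c44_1 : allRange (fun i => Nat.beq (act44 i) i) 370 370 = true := by decide +kernel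
theorem c44_2 : allRange (fun i => Nat.beq (act44 i) i) 740 370 = true := by decide +kernel
theorem c44_3 : allRange (fun i => Nat.beq (act44 i) i) 1110 370 = true := by decide +kernel
theorem c44_4 : allRange (fun i => Nat.beq (act44 i) i) 1480 370 = true := by decide +kernel
theorem c44_5 : allRange (fun i => Nat.beq (act44 i) i) 1850 208 = true := by decide +kernel
theorem h44 : ∀ i, i < T.N → Tab.relActOK T D chk44 i = true := by
  intro i hi
  rw [Tab.relActOK, ← act44_eq]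
  exact (range_glue (range_of_allRange c44_0) (range_glue (range_of_allRange c44_1) (range_glue (range_of_allRange c44_2) (range_glue (range_of_allRange c44_3) (range_glue (range_of_allRange c44_4) (range_of_allRange c44_5)))))) i (Nat.zero_le _) hi

def chk45 : List Nat := [2, 2, 3, 1, 2, 3, 4, 1, 2, 3, 4, 1, 2, 3, 4, 1, 2, 3, 4, 1, 2, 3, 4, 1, 2, 3, 4, 1, 2, 3, 4, 5, 2, 2, 3, 1, 2, 3, 4, 1, 2, 3, 4, 1, 2, 3, 4, 1, 2, 3, 4, 1, 2, 3, 4, 1, 2, 3, 4, 1, 2, 3, 4, 5, 2, 2, 3, 1, 2, 3, 4, 1, 2, 3, 4, 1, 2, 3, 4, 1, 2, 3, 4, 1, 2, 3, 4, 1, 2, 3, 4, 1, 2, 3, 4, 5, 2, 2, 3, 1, 2, 3, 4, 1, 2, 3, 4, 1, 2, 3, 4, 1, 2, 3, 4, 1, 2, 3, 4, 1, 2, 3, 4, 1, 2, 3, 4, 5, 2, 2, 3, 1, 2, 3, 4, 1, 2, 3, 4, 1, 2, 3, 4, 1, 2, 3, 4, 1, 2, 3, 4, 1, 2, 3, 4, 1, 2, 3, 4, 5]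
noncomputable def act45 (i : Nat) : Nat := col2 (col2 (col3 (col1 (col2 (col3 (col4 (col1 (col2 (col3 (col4 (col1 (col2 (col3 (col4 (col1 (col2 (col3 (col4 (col1 (col2 (col3 (col4 (col1 (col2 (col3 (col4 (col1 (col2 (col3 (col4 (col5 (col2 (col2 (col3 (col1 (col2 (col3 (col4 (col1 (col2 (col3 (col4 (col1 (col2 (col3 (col4 (col1 (col2 (col3 (col4 (col1 (col2 (col3 (col4 (col1 (col2 (col3 (col4 (col1 (col2 (col3 (col4 (col5 (col2 (col2 (col3 (col1 (col2 (col3 (col4 (col1 (col2 (col3 (col4 (col1 (col2 (col3 (col4 (col1 (col2 (col3 (col4 (col1 (col2 (col3 (col4 (col1 (col2 (col3 (col4 (col1 (col2 (col3 (col4 (col5 (col2 (col2 (col3 (col1 (col2 (col3 (col4 (col1 (col2 (col3 (col4 (col1 (col2 (col3 (col4 (col1 (col2 (col3 (col4 (col1 (col2 (col3 (col4 (col1 (col2 (col3 (col4 (col1 (col2 (col3 (col4 (col5 (col2 (col2 (col3 (col1 (col2 (col3 (col4 (col1 (col2 (col3 (col4 (col1 (col2 (col3 (col4 (col1 (col2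 (col3 (col4 (col1 (col2 (col3 (col4 (col1 (col2 (col3 (col4 (col1 (col2 (col3 (col4 (col5 (i))))))))))))))))))))))))))))))))))))))))))))))))))))))))))))))))))))))))))))))))))))))))))))))))))))))))))))))))))))))))))))))))))))))))))))))))))))))))))))))))
theorem act45_eq (i : Nat) : act45 i = Tab.act T D chk45 i := rfl
theorem c45_0 : allRange (fun i => Nat.beq (act45 i) i) 0 370 = true := by decide +kernel
theorem c45_1 : allRange (fun i => Nat.beq (act45 i) i) 370 370 = true := by decide +kernel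
theorem c45_2 : allRange (fun i => Nat.beq (act45 i) i) 740 370 = true := by decide +kernel
theorem c45_3 : allRange (fun i => Nat.beq (act45 i) i) 1110 370 = true := by decide +kernel
theorem c45_4 : allRange (fun i => Nat.beq (act45 i) i) 1480 370 = true := by decide +kernel
theorem c45_5 : allRange (fun i => Nat.beq (act45 i) i) 1850 208 = true := by decide +kernel
theorem h45 : ∀ i, i < T.N → Tab.relActOK T D chk45 i = true := by
  intro i hi
  rw [Tab.relActOK, ← act45_eq]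
  exact (range_glue (range_of_allRange c45_0) (range_glue (range_of_allRange c45_1) (range_glue (range_of_allRange c45_2) (range_glue (range_of_allRange c45_3) (range_glue (range_of_allRange c45_4) (range_of_allRange c45_5)))))) i (Nat.zero_le _) hi

def chk46 : List Nat := [1, 2, 2, 3, 1, 2, 3, 4, 1, 2, 3, 4, 1, 2, 3, 4, 1, 2, 3, 4, 1, 2, 3, 4, 1, 2, 3, 4, 1, 2, 3, 4, 5, 4, 1, 4, 5, 4, 3, 2, 1, 4, 3, 2, 1, 4, 3, 2, 1, 4, 3, 2, 1, 4, 3, 2, 1, 4, 3, 2, 1, 4, 3, 2, 1, 3, 2, 2]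
noncomputable def act46 (i : Nat) : Nat := col1 (col2 (col2 (col3 (col1 (col2 (col3 (col4 (col1 (col2 (col3 (col4 (col1 (col2 (col3 (col4 (col1 (col2 (col3 (col4 (col1 (col2 (col3 (col4 (col1 (col2 (col3 (col4 (col1 (col2 (col3 (col4 (col5 (col4 (col1 (col4 (col5 (col4 (col3 (col2 (col1 (col4 (col3 (col2 (col1 (col4 (col3 (col2 (col1 (col4 (col3 (col2 (col1 (col4 (col3 (col2 (col1 (col4 (col3 (col2 (col1 (col4 (col3 (col2 (col1 (col3 (col2 (col2 (i))))))))))))))))))))))))))))))))))))))))))))))))))))))))))))))))))))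
theorem act46_eq (i : Nat) : act46 i = Tab.act T D chk46 i := rfl
theorem c46_0 : allRange (fun i => Nat.beq (act46 i) i) 0 857 = true := by decide +kernel
theorem c46_1 : allRange (fun i => Nat.beq (act46 i) i) 857 857 = true := by decide +kernel
theorem c46_2 : allRange (fun i => Nat.beq (act46 i) i) 1714 344 = true := by decide +kernel
theorem h46 : ∀ i, i < T.N → Tab.relActOK T D chk46 i = true := by
  intro i hi
  rw [Tab.relActOK, ← act46_eq]
  exact (range_glue (range_of_allRange c46_0) (range_glue (range_of_allRange c46_1) (range_of_allRange c46_2))) i (Nat.zero_le _) hi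

def chk47 : List Nat := [2, 2, 3, 1, 2, 3, 4, 1, 2, 3, 4, 1, 2, 3, 4, 1, 2, 3, 4, 1, 2, 3, 4, 1, 2, 3, 4, 1, 2, 3, 4, 5, 4, 2, 2, 3, 1, 2, 3, 4, 1, 2, 3, 4, 1, 2, 3, 4, 1, 2, 3, 4, 1, 2, 3, 4, 1, 2, 3, 4, 1, 2, 3, 4, 5, 4, 2, 2, 3, 1, 2, 3, 4, 1, 2, 3, 4, 1, 2, 3, 4, 1, 2, 3, 4, 1, 2, 3, 4, 1, 2, 3, 4, 1, 2, 3, 4, 5, 4, 2, 2, 3, 1, 2, 3, 4, 1, 2, 3, 4, 1, 2, 3, 4, 1, 2, 3, 4, 1, 2, 3, 4, 1, 2, 3, 4, 1, 2, 3, 4, 5, 4, 2, 2, 3, 1, 2, 3, 4, 1, 2, 3, 4, 1, 2, 3, 4, 1, 2, 3, 4, 1, 2, 3, 4, 1, 2, 3, 4, 1, 2, 3, 4, 5, 4]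
noncomputable def act47 (i : Nat) : Nat := col2 (col2 (col3 (col1 (col2 (col3 (col4 (col1 (col2 (col3 (col4 (col1 (col2 (col3 (col4 (col1 (col2 (col3 (col4 (col1 (col2 (col3 (col4 (col1 (col2 (col3 (col4 (col1 (col2 (col3 (col4 (col5 (col4 (col2 (col2 (col3 (col1 (col2 (col3 (col4 (col1 (col2 (col3 (col4 (col1 (col2 (col3 (col4 (col1 (col2 (col3 (col4 (col1 (col2 (col3 (col4 (col1 (col2 (col3 (col4 (col1 (col2 (col3 (col4 (col5 (col4 (col2 (col2 (col3 (col1 (col2 (col3 (col4 (col1 (col2 (col3 (col4 (col1 (col2 (col3 (col4 (col1 (col2 (col3 (col4 (col1 (col2 (col3 (col4 (col1 (col2 (col3 (col4 (col1 (col2 (col3 (col4 (col5 (col4 (col2 (col2 (col3 (col1 (col2 (col3 (col4 (col1 (col2 (col3 (col4 (col1 (col2 (col3 (col4 (col1 (col2 (col3 (col4 (col1 (col2 (col3 (col4 (col1 (col2 (col3 (col4 (col1 (col2 (col3 (col4 (col5 (col4 (col2 (col2 (col3 (col1 (col2 (col3 (col4 (col1 (col2 (col3 (col4 (col1 (col2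 (col3 (col4 (col1 (col2 (col3 (col4 (col1 (col2 (col3 (col4 (col1 (col2 (col3 (col4 (col1 (col2 (col3 (col4 (col5 (col4 (i)))))))))))))))))))))))))))))))))))))))))))))))))))))))))))))))))))))))))))))))))))))))))))))))))))))))))))))))))))))))))))))))))))))))))))))))))))))))))))))))))))))
theorem act47_eq (i : Nat) : act47 i = Tab.act T D chk47 i := rfl
theorem c47_0 : allRange (fun i => Nat.beq (act47 i) i) 0 359 = true := by decide +kernel
theorem c47_1 : allRange (fun i => Nat.beq (act47 i) i) 359 359 = true := by decide +kernel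
theorem c47_2 : allRange (fun i => Nat.beq (act47 i) i) 718 359 = true := by decide +kernel
theorem c47_3 : allRange (fun i => Nat.beq (act47 i) i) 1077 359 = true := by decide +kernel
theorem c47_4 : allRange (fun i => Nat.beq (act47 i) i) 1436 359 = true := by decide +kernel
theorem c47_5 : allRange (fun i => Nat.beq (act47 i) i) 1795 263 = true := by decide +kernel
theorem h47 : ∀ i, i < T.N → Tab.relActOK T D chk47 i = true := by
  intro i hi
  rw [Tab.relActOK, ← act47_eq]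
  exact (range_glue (range_of_allRange c47_0) (range_glue (range_of_allRange c47_1) (range_glue (range_of_allRange c47_2) (range_glue (range_of_allRange c47_3) (range_glue (range_of_allRange c47_4) (range_of_allRange c47_5)))))) i (Nat.zero_le _) hi

def chk48 : List Nat := [2, 2, 3, 1, 2, 3, 4, 1, 2, 3, 4, 1, 2, 3, 4, 1, 2, 3, 4, 1, 2, 3, 4, 1, 2, 3, 4, 1, 2, 3, 4, 5, 4, 2, 2, 3, 1, 2, 3, 4, 1, 2, 3, 4, 1, 2, 3, 4, 1, 2, 3, 4, 1, 2, 3, 4, 1, 2, 3, 4, 1, 2, 3, 4, 5, 4, 2, 2, 3, 1, 2, 3, 4, 1, 2, 3, 4, 1, 2, 3, 4, 1, 2, 3, 4, 1, 2, 3, 4, 1, 2, 3, 4, 1, 2, 3, 4, 5, 4, 2, 2, 3, 1, 2, 3, 4, 1, 2, 3, 4, 1, 2, 3, 4, 1, 2, 3, 4, 1, 2, 3, 4, 1, 2, 3, 4, 1, 2, 3, 4, 5, 4, 2, 2, 3, 1, 2, 3, 4, 1, 2, 3, 4, 1, 2, 3, 4, 1, 2, 3, 4, 1, 2, 3, 4, 1, 2, 3, 4, 1, 2, 3, 4, 5, 4]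
noncomputable def act48 (i : Nat) : Nat := col2 (col2 (col3 (col1 (col2 (col3 (col4 (col1 (col2 (col3 (col4 (col1 (col2 (col3 (col4 (col1 (col2 (col3 (col4 (col1 (col2 (col3 (col4 (col1 (col2 (col3 (col4 (col1 (col2 (col3 (col4 (col5 (col4 (col2 (col2 (col3 (col1 (col2 (col3 (col4 (col1 (col2 (col3 (col4 (col1 (col2 (col3 (col4 (col1 (col2 (col3 (col4 (col1 (col2 (col3 (col4 (col1 (col2 (col3 (col4 (col1 (col2 (col3 (col4 (col5 (col4 (col2 (col2 (col3 (col1 (col2 (col3 (col4 (col1 (col2 (col3 (col4 (col1 (col2 (col3 (col4 (col1 (col2 (col3 (col4 (col1 (col2 (col3 (col4 (col1 (col2 (col3 (col4 (col1 (col2 (col3 (col4 (col5 (col4 (col2 (col2 (col3 (col1 (col2 (col3 (col4 (col1 (col2 (col3 (col4 (col1 (col2 (col3 (col4 (col1 (col2 (col3 (col4 (col1 (col2 (col3 (col4 (col1 (col2 (col3 (col4 (col1 (col2 (col3 (col4 (col5 (col4 (col2 (col2 (col3 (col1 (col2 (col3 (col4 (col1 (col2 (col3 (col4 (col1 (col2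 (col3 (col4 (col1 (col2 (col3 (col4 (col1 (col2 (col3 (col4 (col1 (col2 (col3 (col4 (col1 (col2 (col3 (col4 (col5 (col4 (i)))))))))))))))))))))))))))))))))))))))))))))))))))))))))))))))))))))))))))))))))))))))))))))))))))))))))))))))))))))))))))))))))))))))))))))))))))))))))))))))))))))
theorem act48_eq (i : Nat) : act48 i = Tab.act T D chk48 i := rfl
theorem c48_0 : allRange (fun i => Nat.beq (act48 i) i) 0 359 = true := by decide +kernel
theorem c48_1 : allRange (fun i => Nat.beq (act48 i) i) 359 359 = true := by decide +kernel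
theorem c48_2 : allRange (fun i => Nat.beq (act48 i) i) 718 359 = true := by decide +kernel
theorem c48_3 : allRange (fun i => Nat.beq (act48 i) i) 1077 359 = true := by decide +kernel
theorem c48_4 : allRange (fun i => Nat.beq (act48 i) i) 1436 359 = true := by decide +kernel
theorem c48_5 : allRange (fun i => Nat.beq (act48 i) i) 1795 263 = true := by decide +kernel
theorem h48 : ∀ i, i < T.N → Tab.relActOK T D chk48 i = true := by
  intro i hi
  rw [Tab.relActOK, ← act48_eq]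
  exact (range_glue (range_of_allRange c48_0) (range_glue (range_of_allRange c48_1) (range_glue (range_of_allRange c48_2) (range_glue (range_of_allRange c48_3) (range_glue (range_of_allRange c48_4) (range_of_allRange c48_5)))))) i (Nat.zero_le _) hi

def chk49 : List Nat := [1, 2, 5, 4, 3, 2, 1, 4, 3, 2, 1, 4, 3, 2, 1, 4, 3, 2, 1, 4, 3, 2, 1, 4, 3, 2, 1, 4, 3, 2, 1, 3, 2, 4, 2, 2, 3, 1, 2, 3, 4, 1, 2, 3, 4, 1, 2, 3, 4, 1, 2, 3, 4, 1, 2, 3, 4, 1, 2, 3, 4, 1, 2, 3, 4, 5, 2, 5, 4, 3, 2, 1, 4, 3, 2, 1, 4, 3, 2, 1, 4, 3, 2, 1, 4, 3, 2, 1, 4, 3, 2, 1, 4, 3, 2, 1, 3, 2, 4, 2, 3, 1, 2, 3, 4, 1, 2, 3, 4, 1, 2, 3, 4, 1, 2, 3, 4, 1, 2, 3, 4, 1, 2, 3, 4, 1, 2, 3, 4, 5, 2, 5, 4, 3, 2, 1, 4, 3, 2, 1, 4, 3, 2, 1, 4, 3, 2, 1, 4, 3, 2, 1, 4, 3, 2, 1, 4, 3, 2, 1, 3, 2, 1, 2, 3, 1, 2, 3, 4, 1, 2, 3, 4, 1, 2, 3, 4, 1, 2, 3, 4, 1, 2, 3, 4, 1, 2, 3, 4, 1, 2, 3, 4, 5, 2, 5, 4, 3, 2, 1, 4, 3, 2, 1, 4, 3, 2, 1, 4, 3, 2, 1,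 4, 3, 2, 1, 4, 3, 2, 1, 4, 3, 2, 1, 3, 2, 4, 2, 3, 1, 2, 3, 4, 1, 2, 3, 4, 1, 2, 3, 4, 1, 2, 3, 4, 1, 2, 3, 4, 1, 2, 3, 4, 1, 2, 3, 4, 5, 2, 5, 4, 3, 2, 1, 4, 3, 2, 1, 4, 3, 2, 1, 4, 3, 2, 1, 4, 3, 2, 1, 4, 3, 2, 1, 4, 3, 2, 1, 3, 2, 2, 4, 2, 3, 1, 2, 3, 4, 1, 2, 3, 4, 1, 2, 3, 4, 1, 2, 3, 4, 1, 2, 3, 4, 1, 2, 3, 4, 1, 2, 3, 4, 5, 2]
noncomputable def act49 (i : Nat) : Nat := col1 (col2 (col5 (col4 (col3 (col2 (col1 (col4 (col3 (col2 (col1 (col4 (col3 (col2 (col1 (col4 (col3 (col2 (col1 (col4 (col3 (col2 (col1 (col4 (col3 (col2 (col1 (col4 (col3 (col2 (col1 (col3 (col2 (col4 (col2 (col2 (col3 (col1 (col2 (col3 (col4 (col1 (col2 (col3 (col4 (col1 (col2 (col3 (col4 (col1 (col2 (col3 (col4 (col1 (col2 (col3 (col4 (col1 (col2 (col3 (col4 (col1 (col2 (col3 (col4 (col5 (col2 (col5 (col4 (col3 (col2 (col1 (col4 (col3 (col2 (col1 (col4 (col3 (col2 (col1 (col4 (col3 (col2 (col1 (col4 (col3 (col2 (col1 (col4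 (col3 (col2 (col1 (col4 (col3 (col2 (col1 (col3 (col2 (col4 (col2 (col3 (col1 (col2 (col3 (col4 (col1 (col2 (col3 (col4 (col1 (col2 (col3 (col4 (col1 (col2 (col3 (col4 (col1 (col2 (col3 (col4 (col1 (col2 (col3 (col4 (col1 (col2 (col3 (col4 (col5 (col2 (col5 (col4 (col3 (col2 (col1 (col4 (col3 (col2 (col1 (col4 (col3 (col2 (col1 (col4 (col3 (col2 (col1 (col4 (col3 (col2 (col1 (col4 (col3 (col2 (col1 (col4 (col3 (col2 (col1 (col3 (col2 (col1 (col2 (col3 (col1 (col2 (col3 (col4 (col1 (col2 (col3 (col4 (col1 (col2 (col3 (col4 (col1 (col2 (col3 (col4 (col1 (col2 (col3 (col4 (col1 (col2 (col3 (col4 (col1 (col2 (col3 (col4 (col5 (col2 (col5 (col4 (col3 (col2 (col1 (col4 (col3 (col2 (col1 (col4 (col3 (col2 (col1 (col4 (col3 (col2 (col1 (col4 (col3 (col2 (col1 (col4 (col3 (col2 (col1 (col4 (col3 (col2 (col1 (col3 (col2 (col4 (col2 (col3 (col1 (col2 (col3 (col4 (col1 (col2 (col3 (col4 (col1 (col2 (col3 (col4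 (col1 (col2 (col3 (col4 (col1 (col2 (col3 (col4 (col1 (col2 (col3 (col4 (col1 (col2 (col3 (col4 (col5 (col2 (col5 (col4 (col3 (col2 (col1 (col4 (col3 (col2 (col1 (col4 (col3 (col2 (col1 (col4 (col3 (col2 (col1 (col4 (col3 (col2 (col1 (col4 (col3 (col2 (col1 (col4 (col3 (col2 (col1 (col3 (col2 (col2 (col4 (col2 (col3 (col1 (col2 (col3 (col4 (col1 (col2 (col3 (col4 (col1 (col2 (col3 (col4 (col1 (col2 (col3 (col4 (col1 (col2 (col3 (col4 (col1 (col2 (col3 (col4 (col1 (col2 (col3 (col4 (col5 (col2 (i))))))))))))))))))))))))))))))))))))))))))))))))))))))))))))))))))))))))))))))))))))))))))))))))))))))))))))))))))))))))))))))))))))))))))))))))))))))))))))))))))))))))))))))))))))))))))))))))))))))))))))))))))))))))))))))))))))))))))))))))))))))))))))))))))))))))))))))))))))))))))))))))))))))))))))))))))))))))))))))))))))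
theorem act49_eq (i : Nat) : act49 i = Tab.act T D chk49 i := rfl
theorem c49_0 : allRange (fun i => Nat.beq (act49 i) i) 0 184 = true := by decide +kernel
theorem c49_1 : allRange (fun i => Nat.beq (act49 i) i) 184 184 = true := by decide +kernel
theorem c49_2 : allRange (fun i => Nat.beq (act49 i) i) 368 184 = true := by decide +kernel
theorem c49_3 : allRange (fun i => Nat.beq (act49 i) i) 552 184 = true := by decide +kernel
theorem c49_4 : allRange (fun i => Nat.beq (act49 i) i) 736 184 = true := by decide +kernel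
theorem c49_5 : allRange (fun i => Nat.beq (act49 i) i) 920 184 = true := by decide +kernel
theorem c49_6 : allRange (fun i => Nat.beq (act49 i) i) 1104 184 = true := by decide +kernel
theorem c49_7 : allRange (fun i => Nat.beq (act49 i) i) 1288 184 = true := by decide +kernel
theorem c49_8 : allRange (fun i => Nat.beq (act49 i) i) 1472 184 = true := by decide +kernel
theorem c49_9 : allRange (fun i => Nat.beq (act49 i) i) 1656 184 = true := by decide +kernel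
theorem c49_10 : allRange (fun i => Nat.beq (act49 i) i) 1840 184 = true := by decide +kernel
theorem c49_11 : allRange (fun i => Nat.beq (act49 i) i) 2024 34 = true := by decide +kernel
theorem h49 : ∀ i, i < T.N → Tab.relActOK T D chk49 i = true := by
  intro i hi
  rw [Tab.relActOK, ← act49_eq]
  exact (range_glue (range_of_allRange c49_0) (range_glue (range_of_allRange c49_1) (range_glue (range_of_allRange c49_2) (range_glue (range_of_allRange c49_3) (range_glue (range_of_allRange c49_4) (range_glue (range_of_allRange c49_5) (range_glue (range_of_allRange c49_6) (range_glue (range_of_allRange c49_7) (range_glue (range_of_allRange c49_8) (range_glue (range_of_allRange c49_9) (range_glue (range_of_allRange c49_10) (range_of_allRange c49_11)))))))))))) i (Nat.zero_le _) hi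

def chk50 : List Nat := [2, 5, 4, 3, 2, 1, 4, 3, 2, 1, 4, 3, 2, 1, 4, 3, 2, 1, 4, 3, 2, 1, 4, 3, 2, 1, 4, 3, 2, 1, 3, 2, 4, 2, 2, 3, 1, 2, 3, 4, 1, 2, 3, 4, 1, 2, 3, 4, 1, 2, 3, 4, 1, 2, 3, 4, 1, 2, 3, 4, 1, 2, 3, 4, 5, 2, 5, 4, 3, 2, 1, 4, 3, 2, 1, 4, 3, 2, 1, 4, 3, 2, 1, 4, 3, 2, 1, 4, 3, 2, 1, 4, 3, 2, 1, 3, 2, 4, 2, 3, 1, 2, 3, 4, 1, 2, 3, 4, 1, 2, 3, 4, 1, 2, 3, 4, 1, 2, 3, 4, 1, 2, 3, 4, 1, 2, 3, 4, 5, 2, 5, 4, 3, 2, 1, 4, 3, 2, 1, 4, 3, 2, 1, 4, 3, 2, 1, 4, 3, 2, 1, 4, 3, 2, 1, 4, 3, 2, 1, 3, 2, 2, 5, 4, 3, 2, 1, 4, 3, 2, 1, 4, 3, 2, 1, 4, 3, 2, 1, 4, 3, 2, 1, 4, 3, 2, 1, 4, 3, 2, 1, 3, 2, 4, 2, 2, 3, 1, 2, 3, 4, 1, 2, 3, 4, 1, 2, 3, 4, 1, 2, 3, 4, 1, 2, 3, 4, 1, 2, 3, 4, 1, 2, 3, 4, 5, 2, 5, 4, 3, 2, 1, 4, 3, 2, 1, 4, 3, 2, 1, 4, 3, 2, 1, 4, 3, 2, 1, 4, 3, 2, 1, 4, 3, 2, 1, 3, 2, 4, 2, 3, 1, 2, 3, 4, 1, 2, 3, 4, 1, 2, 3, 4, 1, 2, 3, 4, 1, 2, 3, 4, 1, 2, 3, 4, 1, 2, 3, 4, 5, 2, 5, 4, 3, 2, 1,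 4, 3, 2, 1, 4, 3, 2, 1, 4, 3, 2, 1, 4, 3, 2, 1, 4, 3, 2, 1, 4, 3, 2, 1, 3, 2, 2, 5, 4, 3, 2, 1, 4, 3, 2, 1, 4, 3, 2, 1, 4, 3, 2, 1, 4, 3, 2, 1, 4, 3, 2, 1, 4, 3, 2, 1, 3, 2, 4, 2, 2, 3, 1, 2, 3, 4, 1, 2, 3, 4, 1, 2, 3, 4, 1, 2, 3, 4, 1, 2, 3, 4, 1, 2, 3, 4, 1, 2, 3, 4, 5, 2, 5, 4, 3, 2, 1, 4, 3, 2, 1, 4, 3, 2, 1, 4, 3, 2, 1, 4, 3, 2, 1, 4, 3, 2, 1, 4, 3, 2, 1, 3, 2, 4, 2, 3, 1, 2, 3, 4, 1, 2, 3, 4, 1, 2, 3, 4, 1, 2, 3, 4, 1, 2, 3, 4, 1, 2, 3, 4, 1, 2, 3, 4, 5, 2, 5, 4, 3, 2, 1, 4, 3, 2, 1, 4, 3, 2, 1, 4, 3, 2, 1, 4, 3, 2, 1, 4, 3, 2, 1, 4, 3, 2, 1, 3, 2, 2, 5, 4, 3, 2, 1, 4, 3, 2, 1, 4, 3, 2, 1, 4, 3, 2, 1, 4, 3, 2, 1, 4, 3, 2, 1, 4, 3, 2, 1, 3, 2, 4, 2, 2, 3, 1, 2, 3, 4, 1, 2, 3, 4, 1, 2, 3, 4, 1, 2, 3, 4, 1, 2, 3, 4, 1, 2, 3, 4, 1, 2, 3, 4, 5, 2, 5, 4, 3, 2, 1, 4, 3, 2, 1, 4, 3, 2, 1, 4, 3, 2, 1, 4, 3, 2, 1, 4, 3, 2, 1, 4, 3, 2, 1, 3, 2, 4, 2, 3, 1, 2, 3, 4, 1, 2, 3, 4, 1, 2, 3, 4, 1, 2, 3, 4, 1,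 2, 3, 4, 1, 2, 3, 4, 1, 2, 3, 4, 5, 2, 5, 4, 3, 2, 1, 4, 3, 2, 1, 4, 3, 2, 1, 4, 3, 2, 1, 4, 3, 2, 1, 4, 3, 2, 1, 4, 3, 2, 1, 3, 2, 2, 5, 4, 3, 2, 1, 4, 3, 2, 1, 4, 3, 2, 1, 4, 3, 2, 1, 4, 3, 2, 1, 4, 3, 2, 1, 4, 3, 2, 1, 3, 2, 4, 2, 2, 3, 1, 2, 3, 4, 1, 2, 3, 4, 1, 2, 3, 4, 1, 2, 3, 4, 1, 2, 3, 4, 1, 2, 3, 4, 1, 2, 3, 4, 5, 2, 5, 4, 3, 2, 1, 4, 3, 2, 1, 4, 3, 2, 1, 4, 3, 2, 1, 4, 3, 2, 1, 4, 3, 2, 1, 4, 3, 2, 1, 3, 2, 4, 2, 3, 1, 2, 3, 4, 1, 2, 3, 4, 1, 2, 3, 4, 1, 2, 3, 4, 1, 2, 3, 4, 1, 2, 3, 4, 1, 2, 3, 4, 5, 2, 5, 4, 3, 2, 1, 4, 3, 2, 1, 4, 3, 2, 1, 4, 3, 2, 1, 4, 3, 2, 1, 4, 3, 2, 1, 4, 3, 2, 1, 3, 2]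
noncomputable def act50 (i : Nat) : Nat := col2 (col5 (col4 (col3 (col2 (col1 (col4 (col3 (col2 (col1 (col4 (col3 (col2 (col1 (col4 (col3 (col2 (col1 (col4 (col3 (col2 (col1 (col4 (col3 (col2 (col1 (col4 (col3 (col2 (col1 (col3 (col2 (col4 (col2 (col2 (col3 (col1 (col2 (col3 (col4 (col1 (col2 (col3 (col4 (col1 (col2 (col3 (col4 (col1 (col2 (col3 (col4 (col1 (col2 (col3 (col4 (col1 (col2 (col3 (col4 (col1 (col2 (col3 (col4 (col5 (col2 (col5 (col4 (col3 (col2 (col1 (col4 (col3 (col2 (col1 (col4 (col3 (col2 (col1 (col4 (col3 (col2 (col1 (col4 (col3 (col2 (col1 (col4 (col3 (col2 (col1 (col4 (col3 (col2 (col1 (col3 (col2 (col4 (col2 (col3 (col1 (col2 (col3 (col4 (col1 (col2 (col3 (col4 (col1 (col2 (col3 (col4 (col1 (col2 (col3 (col4 (col1 (col2 (col3 (col4 (col1 (col2 (col3 (col4 (col1 (col2 (col3 (col4 (col5 (col2 (col5 (col4 (col3 (col2 (col1 (col4 (col3 (col2 (col1 (col4 (col3 (col2 (col1 (col4 (col3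 (col2 (col1 (col4 (col3 (col2 (col1 (col4 (col3 (col2 (col1 (col4 (col3 (col2 (col1 (col3 (col2 (col2 (col5 (col4 (col3 (col2 (col1 (col4 (col3 (col2 (col1 (col4 (col3 (col2 (col1 (col4 (col3 (col2 (col1 (col4 (col3 (col2 (col1 (col4 (col3 (col2 (col1 (col4 (col3 (col2 (col1 (col3 (col2 (col4 (col2 (col2 (col3 (col1 (col2 (col3 (col4 (col1 (col2 (col3 (col4 (col1 (col2 (col3 (col4 (col1 (col2 (col3 (col4 (col1 (col2 (col3 (col4 (col1 (col2 (col3 (col4 (col1 (col2 (col3 (col4 (col5 (col2 (col5 (col4 (col3 (col2 (col1 (col4 (col3 (col2 (col1 (col4 (col3 (col2 (col1 (col4 (col3 (col2 (col1 (col4 (col3 (col2 (col1 (col4 (col3 (col2 (col1 (col4 (col3 (col2 (col1 (col3 (col2 (col4 (col2 (col3 (col1 (col2 (col3 (col4 (col1 (col2 (col3 (col4 (col1 (col2 (col3 (col4 (col1 (col2 (col3 (col4 (col1 (col2 (col3 (col4 (col1 (col2 (col3 (col4 (col1 (col2 (col3 (col4 (col5 (col2 (col5 (col4 (col3 (col2 (col1 (col4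 (col3 (col2 (col1 (col4 (col3 (col2 (col1 (col4 (col3 (col2 (col1 (col4 (col3 (col2 (col1 (col4 (col3 (col2 (col1 (col4 (col3 (col2 (col1 (col3 (col2 (col2 (col5 (col4 (col3 (col2 (col1 (col4 (col3 (col2 (col1 (col4 (col3 (col2 (col1 (col4 (col3 (col2 (col1 (col4 (col3 (col2 (col1 (col4 (col3 (col2 (col1 (col4 (col3 (col2 (col1 (col3 (col2 (col4 (col2 (col2 (col3 (col1 (col2 (col3 (col4 (col1 (col2 (col3 (col4 (col1 (col2 (col3 (col4 (col1 (col2 (col3 (col4 (col1 (col2 (col3 (col4 (col1 (col2 (col3 (col4 (col1 (col2 (col3 (col4 (col5 (col2 (col5 (col4 (col3 (col2 (col1 (col4 (col3 (col2 (col1 (col4 (col3 (col2 (col1 (col4 (col3 (col2 (col1 (col4 (col3 (col2 (col1 (col4 (col3 (col2 (col1 (col4 (col3 (col2 (col1 (col3 (col2 (col4 (col2 (col3 (col1 (col2 (col3 (col4 (col1 (col2 (col3 (col4 (col1 (col2 (col3 (col4 (col1 (col2 (col3 (col4 (col1 (col2 (col3 (col4 (col1 (col2 (col3 (col4 (col1 (col2 (col3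 (col4 (col5 (col2 (col5 (col4 (col3 (col2 (col1 (col4 (col3 (col2 (col1 (col4 (col3 (col2 (col1 (col4 (col3 (col2 (col1 (col4 (col3 (col2 (col1 (col4 (col3 (col2 (col1 (col4 (col3 (col2 (col1 (col3 (col2 (col2 (col5 (col4 (col3 (col2 (col1 (col4 (col3 (col2 (col1 (col4 (col3 (col2 (col1 (col4 (col3 (col2 (col1 (col4 (col3 (col2 (col1 (col4 (col3 (col2 (col1 (col4 (col3 (col2 (col1 (col3 (col2 (col4 (col2 (col2 (col3 (col1 (col2 (col3 (col4 (col1 (col2 (col3 (col4 (col1 (col2 (col3 (col4 (col1 (col2 (col3 (col4 (col1 (col2 (col3 (col4 (col1 (col2 (col3 (col4 (col1 (col2 (col3 (col4 (col5 (col2 (col5 (col4 (col3 (col2 (col1 (col4 (col3 (col2 (col1 (col4 (col3 (col2 (col1 (col4 (col3 (col2 (col1 (col4 (col3 (col2 (col1 (col4 (col3 (col2 (col1 (col4 (col3 (col2 (col1 (col3 (col2 (col4 (col2 (col3 (col1 (col2 (col3 (col4 (col1 (col2 (col3 (col4 (col1 (col2 (col3 (col4 (col1 (col2 (col3 (col4 (col1 (col2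 (col3 (col4 (col1 (col2 (col3 (col4 (col1 (col2 (col3 (col4 (col5 (col2 (col5 (col4 (col3 (col2 (col1 (col4 (col3 (col2 (col1 (col4 (col3 (col2 (col1 (col4 (col3 (col2 (col1 (col4 (col3 (col2 (col1 (col4 (col3 (col2 (col1 (col4 (col3 (col2 (col1 (col3 (col2 (col2 (col5 (col4 (col3 (col2 (col1 (col4 (col3 (col2 (col1 (col4 (col3 (col2 (col1 (col4 (col3 (col2 (col1 (col4 (col3 (col2 (col1 (col4 (col3 (col2 (col1 (col4 (col3 (col2 (col1 (col3 (col2 (col4 (col2 (col2 (col3 (col1 (col2 (col3 (col4 (col1 (col2 (col3 (col4 (col1 (col2 (col3 (col4 (col1 (col2 (col3 (col4 (col1 (col2 (col3 (col4 (col1 (col2 (col3 (col4 (col1 (col2 (col3 (col4 (col5 (col2 (col5 (col4 (col3 (col2 (col1 (col4 (col3 (col2 (col1 (col4 (col3 (col2 (col1 (col4 (col3 (col2 (col1 (col4 (col3 (col2 (col1 (col4 (col3 (col2 (col1 (col4 (col3 (col2 (col1 (col3 (col2 (col4 (col2 (col3 (col1 (col2 (col3 (col4 (col1 (col2 (col3 (col4 (col1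 (col2 (col3 (col4 (col1 (col2 (col3 (col4 (col1 (col2 (col3 (col4 (col1 (col2 (col3 (col4 (col1 (col2 (col3 (col4 (col5 (col2 (col5 (col4 (col3 (col2 (col1 (col4 (col3 (col2 (col1 (col4 (col3 (col2 (col1 (col4 (col3 (col2 (col1 (col4 (col3 (col2 (col1 (col4 (col3 (col2 (col1 (col4 (col3 (col2 (col1 (col3 (col2 (i)))))))))))))))))))))))))))))))))))))))))))))))))))))))))))))))))))))))))))))))))))))))))))))))))))))))))))))))))))))))))))))))))))))))))))))))))))))))))))))))))))))))))))))))))))))))))))))))))))))))))))))))))))))))))))))))))))))))))))))))))))))))))))))))))))))))))))))))))))))))))))))))))))))))))))))))))))))))))))))))))))))))))))))))))))))))))))))))))))))))))))))))))))))))))))))))))))))))))))))))))))))))))))))))))))))))))))))))))))))))))))))))))))))))))))))))))))))))))))))))))))))))))))))))))))))))))))))))))))))))))))))))))))))))))))))))))))))))))))))))))))))))))))))))))))))))))))))))))))))))))))))))))))))))))))))))))))))))))))))))))))))))))))))))))))))))))))))))))))))))))))))))))))))))))))))))))))))))))))))))))))))))))))))))))))))))))))))))))))))))))))))))))))))))))))))))))))))))))))))))))))))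
theorem act50_eq (i : Nat) : act50 i = Tab.act T D chk50 i := rfl
theorem c50_0 : allRange (fun i => Nat.beq (act50 i) i) 0 74 = true := by decide +kernel
theorem c50_1 : allRange (fun i => Nat.beq (act50 i) i) 74 74 = true := by decide +kernel
theorem c50_2 : allRange (fun i => Nat.beq (act50 i) i) 148 74 = true := by decide +kernel
theorem c50_3 : allRange (fun i => Nat.beq (act50 i) i) 222 74 = true := by decide +kernel
theorem c50_4 : allRange (fun i => Nat.beq (act50 i) i) 296 74 = true := by decide +kernel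
theorem c50_5 : allRange (fun i => Nat.beq (act50 i) i) 370 74 = true := by decide +kernel
theorem c50_6 : allRange (fun i => Nat.beq (act50 i) i) 444 74 = true := by decide +kernel
theorem c50_7 : allRange (fun i => Nat.beq (act50 i) i) 518 74 = true := by decide +kernel
theorem c50_8 : allRange (fun i => Nat.beq (act50 i) i) 592 74 = true := by decide +kernel
theorem c50_9 : allRange (fun i => Nat.beq (act50 i) i) 666 74 = true := by decide +kernel
theorem c50_10 : allRange (fun i => Nat.beq (act50 i) i) 740 74 = true := by decide +kernel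
theorem c50_11 : allRange (fun i => Nat.beq (act50 i) i) 814 74 = true := by decide +kernel
theorem c50_12 : allRange (fun i => Nat.beq (act50 i) i) 888 74 = true := by decide +kernel
theorem c50_13 : allRange (fun i => Nat.beq (act50 i) i) 962 74 = true := by decide +kernel
theorem c50_14 : allRange (fun i => Nat.beq (act50 i) i) 1036 74 = true := by decide +kernel
theorem c50_15 : allRange (fun i => Nat.beq (act50 i) i) 1110 74 = true := by decide +kernel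
theorem c50_16 : allRange (fun i => Nat.beq (act50 i) i) 1184 74 = true := by decide +kernel
theorem c50_17 : allRange (fun i => Nat.beq (act50 i) i) 1258 74 = true := by decide +kernel
theorem c50_18 : allRange (fun i => Nat.beq (act50 i) i) 1332 74 = true := by decide +kernel
theorem c50_19 : allRange (fun i => Nat.beq (act50 i) i) 1406 74 = true := by decide +kernel
theorem c50_20 : allRange (fun i => Nat.beq (act50 i) i) 1480 74 = true := by decide +kernel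
theorem c50_21 : allRange (fun i => Nat.beq (act50 i) i) 1554 74 = true := by decide +kernel
theorem c50_22 : allRange (fun i => Nat.beq (act50 i) i) 1628 74 = true := by decide +kernel
theorem c50_23 : allRange (fun i => Nat.beq (act50 i) i) 1702 74 = true := by decide +kernel
theorem c50_24 : allRange (fun i => Nat.beq (act50 i) i) 1776 74 = true := by decide +kernel
theorem c50_25 : allRange (fun i => Nat.beq (act50 i) i) 1850 74 = true := by decide +kernel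
theorem c50_26 : allRange (fun i => Nat.beq (act50 i) i) 1924 74 = true := by decide +kernel
theorem c50_27 : allRange (fun i => Nat.beq (act50 i) i) 1998 60 = true := by decide +kernel
theorem h50 : ∀ i, i < T.N → Tab.relActOK T D chk50 i = true := by
  intro i hi
  rw [Tab.relActOK, ← act50_eq]
  exact (range_glue (range_of_allRange c50_0) (range_glue (range_of_allRange c50_1) (range_glue (range_of_allRange c50_2) (range_glue (range_of_allRange c50_3) (range_glue (range_of_allRange c50_4) (range_glue (range_of_allRange c50_5) (range_glue (range_of_allRange c50_6) (range_glue (range_of_allRange c50_7) (range_glue (range_of_allRange c50_8) (range_glue (range_of_allRange c50_9) (range_glue (range_of_allRange c50_10) (range_glue (range_of_allRange c50_11) (range_glue (range_of_allRange c50_12) (range_glue (range_of_allRange c50_13) (range_glue (range_of_allRange c50_14) (range_glue (range_of_allRange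 c50_15) (range_glue (range_of_allRange c50_16) (range_glue (range_of_allRange c50_17) (range_glue (range_of_allRange c50_18) (range_glue (range_of_allRange c50_19) (range_glue (range_of_allRange c50_20) (range_glue (range_of_allRange c50_21) (range_glue (range_of_allRange c50_22) (range_glue (range_of_allRange c50_23) (range_glue (range_of_allRange c50_24) (range_glue (range_of_allRange c50_25) (range_glue (range_of_allRange c50_26) (range_of_allRange c50_27)))))))))))))))))))))))))))) i (Nat.zero_le _) hi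

def chk51 : List Nat := [2, 5, 4, 3, 2, 1, 4, 3, 2, 1, 4, 3, 2, 1, 4, 3, 2, 1, 4, 3, 2, 1, 4, 3, 2, 1, 4, 3, 2, 1, 3, 2, 4, 2, 2, 3, 1, 2, 3, 4, 1, 2, 3, 4, 1, 2, 3, 4, 1, 2, 3, 4, 1, 2, 3, 4, 1, 2, 3, 4, 1, 2, 3, 4, 5, 2, 5, 4, 3, 2, 1, 4, 3, 2, 1, 4, 3, 2, 1, 4, 3, 2, 1, 4, 3, 2, 1, 4, 3, 2, 1, 4, 3, 2, 1, 3, 2, 4, 2, 3, 1, 2, 3, 4, 1, 2, 3, 4, 1, 2, 3, 4, 1, 2, 3, 4, 1, 2, 3, 4, 1, 2, 3, 4, 1, 2, 3, 4, 5, 2, 5, 4, 3, 2, 1, 4, 3, 2, 1, 4, 3, 2, 1, 4, 3, 2, 1, 4, 3, 2, 1, 4, 3, 2, 1, 4, 3, 2, 1, 3, 2, 2, 5, 4, 3, 2, 1, 4, 3, 2, 1, 4, 3, 2, 1, 4, 3, 2, 1, 4, 3, 2, 1, 4, 3, 2, 1, 4, 3, 2, 1, 3, 2, 4, 2, 2, 3, 1, 2, 3, 4, 1, 2, 3, 4, 1, 2, 3, 4, 1, 2, 3, 4, 1, 2, 3, 4, 1, 2, 3, 4, 1, 2, 3, 4, 5, 2, 5, 4, 3, 2, 1, 4, 3, 2, 1, 4, 3, 2, 1, 4, 3, 2, 1, 4, 3, 2, 1, 4, 3, 2, 1, 4, 3, 2, 1, 3, 2, 4, 2, 3, 1, 2, 3, 4, 1, 2, 3, 4, 1, 2, 3, 4, 1, 2, 3, 4, 1, 2, 3, 4, 1, 2, 3, 4, 1, 2, 3, 4, 5, 2, 5, 4, 3, 2, 1,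 4, 3, 2, 1, 4, 3, 2, 1, 4, 3, 2, 1, 4, 3, 2, 1, 4, 3, 2, 1, 4, 3, 2, 1, 3, 2, 2, 5, 4, 3, 2, 1, 4, 3, 2, 1, 4, 3, 2, 1, 4, 3, 2, 1, 4, 3, 2, 1, 4, 3, 2, 1, 4, 3, 2, 1, 3, 2, 4, 2, 2, 3, 1, 2, 3, 4, 1, 2, 3, 4, 1, 2, 3, 4, 1, 2, 3, 4, 1, 2, 3, 4, 1, 2, 3, 4, 1, 2, 3, 4, 5, 2, 5, 4, 3, 2, 1, 4, 3, 2, 1, 4, 3, 2, 1, 4, 3, 2, 1, 4, 3, 2, 1, 4, 3, 2, 1, 4, 3, 2, 1, 3, 2, 4, 2, 3, 1, 2, 3, 4, 1, 2, 3, 4, 1, 2, 3, 4, 1, 2, 3, 4, 1, 2, 3, 4, 1, 2, 3, 4, 1, 2, 3, 4, 5, 2, 5, 4, 3, 2, 1, 4, 3, 2, 1, 4, 3, 2, 1, 4, 3, 2, 1, 4, 3, 2, 1, 4, 3, 2, 1, 4, 3, 2, 1, 3, 2, 2, 5, 4, 3, 2, 1, 4, 3, 2, 1, 4, 3, 2, 1, 4, 3, 2, 1, 4, 3, 2, 1, 4, 3, 2, 1, 4, 3, 2, 1, 3, 2, 4, 2, 2, 3, 1, 2, 3, 4, 1, 2, 3, 4, 1, 2, 3, 4, 1, 2, 3, 4, 1, 2, 3, 4, 1, 2, 3, 4, 1, 2, 3, 4, 5, 2, 5, 4, 3, 2, 1, 4, 3, 2, 1, 4, 3, 2, 1, 4, 3, 2, 1, 4, 3, 2, 1, 4, 3, 2, 1, 4, 3, 2, 1, 3, 2, 4, 2, 3, 1, 2, 3, 4, 1, 2, 3, 4, 1, 2, 3, 4, 1, 2, 3, 4, 1,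 2, 3, 4, 1, 2, 3, 4, 1, 2, 3, 4, 5, 2, 5, 4, 3, 2, 1, 4, 3, 2, 1, 4, 3, 2, 1, 4, 3, 2, 1, 4, 3, 2, 1, 4, 3, 2, 1, 4, 3, 2, 1, 3, 2, 2, 5, 4, 3, 2, 1, 4, 3, 2, 1, 4, 3, 2, 1, 4, 3, 2, 1, 4, 3, 2, 1, 4, 3, 2, 1, 4, 3, 2, 1, 3, 2, 4, 2, 2, 3, 1, 2, 3, 4, 1, 2, 3, 4, 1, 2, 3, 4, 1, 2, 3, 4, 1, 2, 3, 4, 1, 2, 3, 4, 1, 2, 3, 4, 5, 2, 5, 4, 3, 2, 1, 4, 3, 2, 1, 4, 3, 2, 1, 4, 3, 2, 1, 4, 3, 2, 1, 4, 3, 2, 1, 4, 3, 2, 1, 3, 2, 4, 2, 3, 1, 2, 3, 4, 1, 2, 3, 4, 1, 2, 3, 4, 1, 2, 3, 4, 1, 2, 3, 4, 1, 2, 3, 4, 1, 2, 3, 4, 5, 2, 5, 4, 3, 2, 1, 4, 3, 2, 1, 4, 3, 2, 1, 4, 3, 2, 1, 4, 3, 2, 1, 4, 3, 2, 1, 4, 3, 2, 1, 3, 2]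
noncomputable def act51 (i : Nat) : Nat := col2 (col5 (col4 (col3 (col2 (col1 (col4 (col3 (col2 (col1 (col4 (col3 (col2 (col1 (col4 (col3 (col2 (col1 (col4 (col3 (col2 (col1 (col4 (col3 (col2 (col1 (col4 (col3 (col2 (col1 (col3 (col2 (col4 (col2 (col2 (col3 (col1 (col2 (col3 (col4 (col1 (col2 (col3 (col4 (col1 (col2 (col3 (col4 (col1 (col2 (col3 (col4 (col1 (col2 (col3 (col4 (col1 (col2 (col3 (col4 (col1 (col2 (col3 (col4 (col5 (col2 (col5 (col4 (col3 (col2 (col1 (col4 (col3 (col2 (col1 (col4 (col3 (col2 (col1 (col4 (col3 (col2 (col1 (col4 (col3 (col2 (col1 (col4 (col3 (col2 (col1 (col4 (col3 (col2 (col1 (col3 (col2 (col4 (col2 (col3 (col1 (col2 (col3 (col4 (col1 (col2 (col3 (col4 (col1 (col2 (col3 (col4 (col1 (col2 (col3 (col4 (col1 (col2 (col3 (col4 (col1 (col2 (col3 (col4 (col1 (col2 (col3 (col4 (col5 (col2 (col5 (col4 (col3 (col2 (col1 (col4 (col3 (col2 (col1 (col4 (col3 (col2 (col1 (col4 (col3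 (col2 (col1 (col4 (col3 (col2 (col1 (col4 (col3 (col2 (col1 (col4 (col3 (col2 (col1 (col3 (col2 (col2 (col5 (col4 (col3 (col2 (col1 (col4 (col3 (col2 (col1 (col4 (col3 (col2 (col1 (col4 (col3 (col2 (col1 (col4 (col3 (col2 (col1 (col4 (col3 (col2 (col1 (col4 (col3 (col2 (col1 (col3 (col2 (col4 (col2 (col2 (col3 (col1 (col2 (col3 (col4 (col1 (col2 (col3 (col4 (col1 (col2 (col3 (col4 (col1 (col2 (col3 (col4 (col1 (col2 (col3 (col4 (col1 (col2 (col3 (col4 (col1 (col2 (col3 (col4 (col5 (col2 (col5 (col4 (col3 (col2 (col1 (col4 (col3 (col2 (col1 (col4 (col3 (col2 (col1 (col4 (col3 (col2 (col1 (col4 (col3 (col2 (col1 (col4 (col3 (col2 (col1 (col4 (col3 (col2 (col1 (col3 (col2 (col4 (col2 (col3 (col1 (col2 (col3 (col4 (col1 (col2 (col3 (col4 (col1 (col2 (col3 (col4 (col1 (col2 (col3 (col4 (col1 (col2 (col3 (col4 (col1 (col2 (col3 (col4 (col1 (col2 (col3 (col4 (col5 (col2 (col5 (col4 (col3 (col2 (col1 (col4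 (col3 (col2 (col1 (col4 (col3 (col2 (col1 (col4 (col3 (col2 (col1 (col4 (col3 (col2 (col1 (col4 (col3 (col2 (col1 (col4 (col3 (col2 (col1 (col3 (col2 (col2 (col5 (col4 (col3 (col2 (col1 (col4 (col3 (col2 (col1 (col4 (col3 (col2 (col1 (col4 (col3 (col2 (col1 (col4 (col3 (col2 (col1 (col4 (col3 (col2 (col1 (col4 (col3 (col2 (col1 (col3 (col2 (col4 (col2 (col2 (col3 (col1 (col2 (col3 (col4 (col1 (col2 (col3 (col4 (col1 (col2 (col3 (col4 (col1 (col2 (col3 (col4 (col1 (col2 (col3 (col4 (col1 (col2 (col3 (col4 (col1 (col2 (col3 (col4 (col5 (col2 (col5 (col4 (col3 (col2 (col1 (col4 (col3 (col2 (col1 (col4 (col3 (col2 (col1 (col4 (col3 (col2 (col1 (col4 (col3 (col2 (col1 (col4 (col3 (col2 (col1 (col4 (col3 (col2 (col1 (col3 (col2 (col4 (col2 (col3 (col1 (col2 (col3 (col4 (col1 (col2 (col3 (col4 (col1 (col2 (col3 (col4 (col1 (col2 (col3 (col4 (col1 (col2 (col3 (col4 (col1 (col2 (col3 (col4 (col1 (col2 (col3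 (col4 (col5 (col2 (col5 (col4 (col3 (col2 (col1 (col4 (col3 (col2 (col1 (col4 (col3 (col2 (col1 (col4 (col3 (col2 (col1 (col4 (col3 (col2 (col1 (col4 (col3 (col2 (col1 (col4 (col3 (col2 (col1 (col3 (col2 (col2 (col5 (col4 (col3 (col2 (col1 (col4 (col3 (col2 (col1 (col4 (col3 (col2 (col1 (col4 (col3 (col2 (col1 (col4 (col3 (col2 (col1 (col4 (col3 (col2 (col1 (col4 (col3 (col2 (col1 (col3 (col2 (col4 (col2 (col2 (col3 (col1 (col2 (col3 (col4 (col1 (col2 (col3 (col4 (col1 (col2 (col3 (col4 (col1 (col2 (col3 (col4 (col1 (col2 (col3 (col4 (col1 (col2 (col3 (col4 (col1 (col2 (col3 (col4 (col5 (col2 (col5 (col4 (col3 (col2 (col1 (col4 (col3 (col2 (col1 (col4 (col3 (col2 (col1 (col4 (col3 (col2 (col1 (col4 (col3 (col2 (col1 (col4 (col3 (col2 (col1 (col4 (col3 (col2 (col1 (col3 (col2 (col4 (col2 (col3 (col1 (col2 (col3 (col4 (col1 (col2 (col3 (col4 (col1 (col2 (col3 (col4 (col1 (col2 (col3 (col4 (col1 (col2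 (col3 (col4 (col1 (col2 (col3 (col4 (col1 (col2 (col3 (col4 (col5 (col2 (col5 (col4 (col3 (col2 (col1 (col4 (col3 (col2 (col1 (col4 (col3 (col2 (col1 (col4 (col3 (col2 (col1 (col4 (col3 (col2 (col1 (col4 (col3 (col2 (col1 (col4 (col3 (col2 (col1 (col3 (col2 (col2 (col5 (col4 (col3 (col2 (col1 (col4 (col3 (col2 (col1 (col4 (col3 (col2 (col1 (col4 (col3 (col2 (col1 (col4 (col3 (col2 (col1 (col4 (col3 (col2 (col1 (col4 (col3 (col2 (col1 (col3 (col2 (col4 (col2 (col2 (col3 (col1 (col2 (col3 (col4 (col1 (col2 (col3 (col4 (col1 (col2 (col3 (col4 (col1 (col2 (col3 (col4 (col1 (col2 (col3 (col4 (col1 (col2 (col3 (col4 (col1 (col2 (col3 (col4 (col5 (col2 (col5 (col4 (col3 (col2 (col1 (col4 (col3 (col2 (col1 (col4 (col3 (col2 (col1 (col4 (col3 (col2 (col1 (col4 (col3 (col2 (col1 (col4 (col3 (col2 (col1 (col4 (col3 (col2 (col1 (col3 (col2 (col4 (col2 (col3 (col1 (col2 (col3 (col4 (col1 (col2 (col3 (col4 (col1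 (col2 (col3 (col4 (col1 (col2 (col3 (col4 (col1 (col2 (col3 (col4 (col1 (col2 (col3 (col4 (col1 (col2 (col3 (col4 (col5 (col2 (col5 (col4 (col3 (col2 (col1 (col4 (col3 (col2 (col1 (col4 (col3 (col2 (col1 (col4 (col3 (col2 (col1 (col4 (col3 (col2 (col1 (col4 (col3 (col2 (col1 (col4 (col3 (col2 (col1 (col3 (col2 (i)))))))))))))))))))))))))))))))))))))))))))))))))))))))))))))))))))))))))))))))))))))))))))))))))))))))))))))))))))))))))))))))))))))))))))))))))))))))))))))))))))))))))))))))))))))))))))))))))))))))))))))))))))))))))))))))))))))))))))))))))))))))))))))))))))))))))))))))))))))))))))))))))))))))))))))))))))))))))))))))))))))))))))))))))))))))))))))))))))))))))))))))))))))))))))))))))))))))))))))))))))))))))))))))))))))))))))))))))))))))))))))))))))))))))))))))))))))))))))))))))))))))))))))))))))))))))))))))))))))))))))))))))))))))))))))))))))))))))))))))))))))))))))))))))))))))))))))))))))))))))))))))))))))))))))))))))))))))))))))))))))))))))))))))))))))))))))))))))))))))))))))))))))))))))))))))))))))))))))))))))))))))))))))))))))))))))))))))))))))))))))))))))))))))))))))))))))))))))))))))))))))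
theorem act51_eq (i : Nat) : act51 i = Tab.act T D chk51 i := rfl
theorem c51_0 : allRange (fun i => Nat.beq (act51 i) i) 0 74 = true := by decide +kernel
theorem c51_1 : allRange (fun i => Nat.beq (act51 i) i) 74 74 = true := by decide +kernel
theorem c51_2 : allRange (fun i => Nat.beq (act51 i) i) 148 74 = true := by decide +kernel
theorem c51_3 : allRange (fun i => Nat.beq (act51 i) i) 222 74 = true := by decide +kernel
theorem c51_4 : allRange (fun i => Nat.beq (act51 i) i) 296 74 = true := by decide +kernel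
theorem c51_5 : allRange (fun i => Nat.beq (act51 i) i) 370 74 = true := by decide +kernel
theorem c51_6 : allRange (fun i => Nat.beq (act51 i) i) 444 74 = true := by decide +kernel
theorem c51_7 : allRange (fun i => Nat.beq (act51 i) i) 518 74 = true := by decide +kernel
theorem c51_8 : allRange (fun i => Nat.beq (act51 i) i) 592 74 = true := by decide +kernel
theorem c51_9 : allRange (fun i => Nat.beq (act51 i) i) 666 74 = true := by decide +kernel
theorem c51_10 : allRange (fun i => Nat.beq (act51 i) i) 740 74 = true := by decide +kernel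
theorem c51_11 : allRange (fun i => Nat.beq (act51 i) i) 814 74 = true := by decide +kernel
theorem c51_12 : allRange (fun i => Nat.beq (act51 i) i) 888 74 = true := by decide +kernel
theorem c51_13 : allRange (fun i => Nat.beq (act51 i) i) 962 74 = true := by decide +kernel
theorem c51_14 : allRange (fun i => Nat.beq (act51 i) i) 1036 74 = true := by decide +kernel
theorem c51_15 : allRange (fun i => Nat.beq (act51 i) i) 1110 74 = true := by decide +kernel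
theorem c51_16 : allRange (fun i => Nat.beq (act51 i) i) 1184 74 = true := by decide +kernel
theorem c51_17 : allRange (fun i => Nat.beq (act51 i) i) 1258 74 = true := by decide +kernel
theorem c51_18 : allRange (fun i => Nat.beq (act51 i) i) 1332 74 = true := by decide +kernel
theorem c51_19 : allRange (fun i => Nat.beq (act51 i) i) 1406 74 = true := by decide +kernel
theorem c51_20 : allRange (fun i => Nat.beq (act51 i) i) 1480 74 = true := by decide +kernel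
theorem c51_21 : allRange (fun i => Nat.beq (act51 i) i) 1554 74 = true := by decide +kernel
theorem c51_22 : allRange (fun i => Nat.beq (act51 i) i) 1628 74 = true := by decide +kernel
theorem c51_23 : allRange (fun i => Nat.beq (act51 i) i) 1702 74 = true := by decide +kernel
theorem c51_24 : allRange (fun i => Nat.beq (act51 i) i) 1776 74 = true := by decide +kernel
theorem c51_25 : allRange (fun i => Nat.beq (act51 i) i) 1850 74 = true := by decide +kernel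
theorem c51_26 : allRange (fun i => Nat.beq (act51 i) i) 1924 74 = true := by decide +kernel
theorem c51_27 : allRange (fun i => Nat.beq (act51 i) i) 1998 60 = true := by decide +kernel
theorem h51 : ∀ i, i < T.N → Tab.relActOK T D chk51 i = true := by
  intro i hi
  rw [Tab.relActOK, ← act51_eq]
  exact (range_glue (range_of_allRange c51_0) (range_glue (range_of_allRange c51_1) (range_glue (range_of_allRange c51_2) (range_glue (range_of_allRange c51_3) (range_glue (range_of_allRange c51_4) (range_glue (range_of_allRange c51_5) (range_glue (range_of_allRange c51_6) (range_glue (range_of_allRange c51_7) (range_glue (range_of_allRange c51_8) (range_glue (range_of_allRange c51_9) (range_glue (range_of_allRange c51_10) (range_glue (range_of_allRange c51_11) (range_glue (range_of_allRange c51_12) (range_glue (range_of_allRange c51_13) (range_glue (range_of_allRange c51_14) (range_glue (range_of_allRange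 c51_15) (range_glue (range_of_allRange c51_16) (range_glue (range_of_allRange c51_17) (range_glue (range_of_allRange c51_18) (range_glue (range_of_allRange c51_19) (range_glue (range_of_allRange c51_20) (range_glue (range_of_allRange c51_21) (range_glue (range_of_allRange c51_22) (range_glue (range_of_allRange c51_23) (range_glue (range_of_allRange c51_24) (range_glue (range_of_allRange c51_25) (range_glue (range_of_allRange c51_26) (range_of_allRange c51_27)))))))))))))))))))))))))))) i (Nat.zero_le _) hi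

def chk52 : List Nat := [6, 5, 4, 3, 2, 1, 4, 3, 2, 1, 4, 3, 2, 1, 4, 3, 2, 1, 4, 3, 2, 1, 4, 3, 2, 1, 4, 3, 2, 1, 3, 2, 5, 4, 3, 2, 1, 4, 3, 2, 1, 4, 3, 2, 1, 4, 3, 2, 1, 4, 3, 2, 1, 4, 3, 2, 1, 4, 3, 2, 1, 3, 2, 4, 5, 4, 3, 2, 1, 4, 3, 2, 1, 4, 3, 2, 1, 4, 3, 2, 1, 4, 3, 2, 1, 4, 3, 2, 1, 4, 3, 2, 1, 3, 2, 5, 4, 3, 2, 1, 4, 3, 2, 1, 4, 3, 2, 1, 4, 3, 2, 1, 4, 3, 2, 1, 4, 3, 2, 1, 4, 3, 2, 1, 3, 2, 5, 4, 3, 2, 1, 4, 3, 2, 1, 4, 3, 2, 1, 4, 3, 2, 1, 4, 3, 2, 1, 4, 3, 2, 1, 4, 3, 2, 1, 3, 2, 2, 6, 2, 3, 1, 2, 3, 4, 1, 2, 3, 4, 1, 2, 3, 4, 1, 2, 3, 4, 1, 2, 3, 4, 1, 2, 3, 4, 1, 2, 3, 4, 5, 2, 3, 1, 2, 3, 4, 1, 2, 3, 4, 1, 2, 3, 4, 1, 2, 3, 4, 1, 2, 3, 4, 1, 2, 3, 4, 1, 2, 3, 4, 5, 2, 3, 1, 2, 3, 4, 1, 2, 3, 4, 1, 2, 3, 4, 1, 2, 3, 4, 1, 2, 3, 4, 1, 2, 3, 4, 1, 2, 3, 4, 5, 4, 2, 3, 1, 2, 3, 4, 1, 2, 3, 4, 1, 2, 3, 4, 1, 2, 3, 4, 1, 2, 3, 4, 1, 2, 3, 4, 1, 2, 3, 4, 5, 2, 3, 1, 2, 3, 4, 1, 2, 3, 4, 1, 2,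 3, 4, 1, 2, 3, 4, 1, 2, 3, 4, 1, 2, 3, 4, 1, 2, 3, 4, 5]
noncomputable def act52 (i : Nat) : Nat := col6 (col5 (col4 (col3 (col2 (col1 (col4 (col3 (col2 (col1 (col4 (col3 (col2 (col1 (col4 (col3 (col2 (col1 (col4 (col3 (col2 (col1 (col4 (col3 (col2 (col1 (col4 (col3 (col2 (col1 (col3 (col2 (col5 (col4 (col3 (col2 (col1 (col4 (col3 (col2 (col1 (col4 (col3 (col2 (col1 (col4 (col3 (col2 (col1 (col4 (col3 (col2 (col1 (col4 (col3 (col2 (col1 (col4 (col3 (col2 (col1 (col3 (col2 (col4 (col5 (col4 (col3 (col2 (col1 (col4 (col3 (col2 (col1 (col4 (col3 (col2 (col1 (col4 (col3 (col2 (col1 (col4 (col3 (col2 (col1 (col4 (col3 (col2 (col1 (col4 (col3 (col2 (col1 (col3 (col2 (col5 (col4 (col3 (col2 (col1 (col4 (col3 (col2 (col1 (col4 (col3 (col2 (col1 (col4 (col3 (col2 (col1 (col4 (col3 (col2 (col1 (col4 (col3 (col2 (col1 (col4 (col3 (col2 (col1 (col3 (col2 (col5 (col4 (col3 (col2 (col1 (col4 (col3 (col2 (col1 (col4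 (col3 (col2 (col1 (col4 (col3 (col2 (col1 (col4 (col3 (col2 (col1 (col4 (col3 (col2 (col1 (col4 (col3 (col2 (col1 (col3 (col2 (col2 (col6 (col2 (col3 (col1 (col2 (col3 (col4 (col1 (col2 (col3 (col4 (col1 (col2 (col3 (col4 (col1 (col2 (col3 (col4 (col1 (col2 (col3 (col4 (col1 (col2 (col3 (col4 (col1 (col2 (col3 (col4 (col5 (col2 (col3 (col1 (col2 (col3 (col4 (col1 (col2 (col3 (col4 (col1 (col2 (col3 (col4 (col1 (col2 (col3 (col4 (col1 (col2 (col3 (col4 (col1 (col2 (col3 (col4 (col1 (col2 (col3 (col4 (col5 (col2 (col3 (col1 (col2 (col3 (col4 (col1 (col2 (col3 (col4 (col1 (col2 (col3 (col4 (col1 (col2 (col3 (col4 (col1 (col2 (col3 (col4 (col1 (col2 (col3 (col4 (col1 (col2 (col3 (col4 (col5 (col4 (col2 (col3 (col1 (col2 (col3 (col4 (col1 (col2 (col3 (col4 (col1 (col2 (col3 (col4 (col1 (col2 (col3 (col4 (col1 (col2 (col3 (col4 (col1 (col2 (col3 (col4 (col1 (col2 (col3 (col4 (col5 (col2 (col3 (col1 (col2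 (col3 (col4 (col1 (col2 (col3 (col4 (col1 (col2 (col3 (col4 (col1 (col2 (col3 (col4 (col1 (col2 (col3 (col4 (col1 (col2 (col3 (col4 (col1 (col2 (col3 (col4 (col5 (i)))))))))))))))))))))))))))))))))))))))))))))))))))))))))))))))))))))))))))))))))))))))))))))))))))))))))))))))))))))))))))))))))))))))))))))))))))))))))))))))))))))))))))))))))))))))))))))))))))))))))))))))))))))))))))))))))))))))))))))))))))))))))))))))))))))))))))))))))))))))))))))))))))))))))))))))))))))))))))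
theorem act52_eq (i : Nat) : act52 i = Tab.act T D chk52 i := rfl
theorem c52_0 : allRange (fun i => Nat.beq (act52 i) i) 0 189 = true := by decide +kernel
theorem c52_1 : allRange (fun i => Nat.beq (act52 i) i) 189 189 = true := by decide +kernel
theorem c52_2 : allRange (fun i => Nat.beq (act52 i) i) 378 189 = true := by decide +kernel
theorem c52_3 : allRange (fun i => Nat.beq (act52 i) i) 567 189 = true := by decide +kernel
theorem c52_4 : allRange (fun i => Nat.beq (act52 i) i) 756 189 = true := by decide +kernel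
theorem c52_5 : allRange (fun i => Nat.beq (act52 i) i) 945 189 = true := by decide +kernel
theorem c52_6 : allRange (fun i => Nat.beq (act52 i) i) 1134 189 = true := by decide +kernel
theorem c52_7 : allRange (fun i => Nat.beq (act52 i) i) 1323 189 = true := by decide +kernel
theorem c52_8 : allRange (fun i => Nat.beq (act52 i) i) 1512 189 = true := by decide +kernel
theorem c52_9 : allRange (fun i => Nat.beq (act52 i) i) 1701 189 = true := by decide +kernel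
theorem c52_10 : allRange (fun i => Nat.beq (act52 i) i) 1890 168 = true := by decide +kernel
theorem h52 : ∀ i, i < T.N → Tab.relActOK T D chk52 i = true := by
  intro i hi
  rw [Tab.relActOK, ← act52_eq]
  exact (range_glue (range_of_allRange c52_0) (range_glue (range_of_allRange c52_1) (range_glue (range_of_allRange c52_2) (range_glue (range_of_allRange c52_3) (range_glue (range_of_allRange c52_4) (range_glue (range_of_allRange c52_5) (range_glue (range_of_allRange c52_6) (range_glue (range_of_allRange c52_7) (range_glue (range_of_allRange c52_8) (range_glue (range_of_allRange c52_9) (range_of_allRange c52_10))))))))))) i (Nat.zero_le _) hi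

def chk53 : List Nat := [5, 4, 3, 2, 1, 4, 3, 2, 1, 4, 3, 2, 1, 4, 3, 2, 1, 4, 3, 2, 1, 4, 3, 2, 1, 4, 3, 2, 1, 3, 2, 5, 4, 3, 2, 1, 4, 3, 2, 1, 4, 3, 2, 1, 4, 3, 2, 1, 4, 3, 2, 1, 4, 3, 2, 1, 4, 3, 2, 1, 3, 2, 4, 5, 4, 3, 2, 1, 4, 3, 2, 1, 4, 3, 2, 1, 4, 3, 2, 1, 4, 3, 2, 1, 4, 3, 2, 1, 4, 3, 2, 1, 3, 2, 5, 4, 3, 2, 1, 4, 3, 2, 1, 4, 3, 2, 1, 4, 3, 2, 1, 4, 3, 2, 1, 4, 3, 2, 1, 4, 3, 2, 1, 3, 2, 5, 4, 3, 2, 1, 4, 3, 2, 1, 4, 3, 2, 1, 4, 3, 2, 1, 4, 3, 2, 1, 4, 3, 2, 1, 4, 3, 2, 1, 3, 2, 2, 5, 4, 3, 2, 1, 4, 3, 2, 1, 4, 3, 2, 1, 4, 3, 2, 1, 4, 3, 2, 1, 4, 3, 2, 1, 4, 3, 2, 1, 3, 2, 5, 4, 3, 2, 1, 4, 3, 2, 1, 4, 3, 2, 1, 4, 3, 2, 1, 4, 3, 2, 1, 4, 3, 2, 1, 4, 3, 2, 1, 3, 2, 4, 5, 4, 3, 2, 1, 4, 3, 2, 1, 4, 3, 2, 1, 4, 3, 2, 1, 4, 3, 2, 1, 4, 3, 2, 1, 4, 3, 2, 1, 3, 2, 5, 4, 3, 2, 1, 4, 3, 2, 1, 4, 3, 2, 1, 4, 3, 2, 1, 4, 3, 2, 1, 4, 3, 2, 1, 4, 3, 2, 1, 3, 2, 5, 4, 3, 2, 1, 4, 3, 2, 1, 4, 3, 2, 1, 4,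 3, 2, 1, 4, 3, 2, 1, 4, 3, 2, 1, 4, 3, 2, 1, 3, 2, 2, 5, 4, 3, 2, 1, 4, 3, 2, 1, 4, 3, 2, 1, 4, 3, 2, 1, 4, 3, 2, 1, 4, 3, 2, 1, 4, 3, 2, 1, 3, 2, 5, 4, 3, 2, 1, 4, 3, 2, 1, 4, 3, 2, 1, 4, 3, 2, 1, 4, 3, 2, 1, 4, 3, 2, 1, 4, 3, 2, 1, 3, 2, 4, 5, 4, 3, 2, 1, 4, 3, 2, 1, 4, 3, 2, 1, 4, 3, 2, 1, 4, 3, 2, 1, 4, 3, 2, 1, 4, 3, 2, 1, 3, 2, 5, 4, 3, 2, 1, 4, 3, 2, 1, 4, 3, 2, 1, 4, 3, 2, 1, 4, 3, 2, 1, 4, 3, 2, 1, 4, 3, 2, 1, 3, 2, 5, 4, 3, 2, 1, 4, 3, 2, 1, 4, 3, 2, 1, 4, 3, 2, 1, 4, 3, 2, 1, 4, 3, 2, 1, 4, 3, 2, 1, 3, 2, 2]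
noncomputable def act53 (i : Nat) : Nat := col5 (col4 (col3 (col2 (col1 (col4 (col3 (col2 (col1 (col4 (col3 (col2 (col1 (col4 (col3 (col2 (col1 (col4 (col3 (col2 (col1 (col4 (col3 (col2 (col1 (col4 (col3 (col2 (col1 (col3 (col2 (col5 (col4 (col3 (col2 (col1 (col4 (col3 (col2 (col1 (col4 (col3 (col2 (col1 (col4 (col3 (col2 (col1 (col4 (col3 (col2 (col1 (col4 (col3 (col2 (col1 (col4 (col3 (col2 (col1 (col3 (col2 (col4 (col5 (col4 (col3 (col2 (col1 (col4 (col3 (col2 (col1 (col4 (col3 (col2 (col1 (col4 (col3 (col2 (col1 (col4 (col3 (col2 (col1 (col4 (col3 (col2 (col1 (col4 (col3 (col2 (col1 (col3 (col2 (col5 (col4 (col3 (col2 (col1 (col4 (col3 (col2 (col1 (col4 (col3 (col2 (col1 (col4 (col3 (col2 (col1 (col4 (col3 (col2 (col1 (col4 (col3 (col2 (col1 (col4 (col3 (col2 (col1 (col3 (col2 (col5 (col4 (col3 (col2 (col1 (col4 (col3 (col2 (col1 (col4 (col3 (col2 (col1 (col4 (col3 (col2 (col1 (col4 (col3 (col2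 (col1 (col4 (col3 (col2 (col1 (col4 (col3 (col2 (col1 (col3 (col2 (col2 (col5 (col4 (col3 (col2 (col1 (col4 (col3 (col2 (col1 (col4 (col3 (col2 (col1 (col4 (col3 (col2 (col1 (col4 (col3 (col2 (col1 (col4 (col3 (col2 (col1 (col4 (col3 (col2 (col1 (col3 (col2 (col5 (col4 (col3 (col2 (col1 (col4 (col3 (col2 (col1 (col4 (col3 (col2 (col1 (col4 (col3 (col2 (col1 (col4 (col3 (col2 (col1 (col4 (col3 (col2 (col1 (col4 (col3 (col2 (col1 (col3 (col2 (col4 (col5 (col4 (col3 (col2 (col1 (col4 (col3 (col2 (col1 (col4 (col3 (col2 (col1 (col4 (col3 (col2 (col1 (col4 (col3 (col2 (col1 (col4 (col3 (col2 (col1 (col4 (col3 (col2 (col1 (col3 (col2 (col5 (col4 (col3 (col2 (col1 (col4 (col3 (col2 (col1 (col4 (col3 (col2 (col1 (col4 (col3 (col2 (col1 (col4 (col3 (col2 (col1 (col4 (col3 (col2 (col1 (col4 (col3 (col2 (col1 (col3 (col2 (col5 (col4 (col3 (col2 (col1 (col4 (col3 (col2 (col1 (col4 (col3 (col2 (col1 (col4 (col3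 (col2 (col1 (col4 (col3 (col2 (col1 (col4 (col3 (col2 (col1 (col4 (col3 (col2 (col1 (col3 (col2 (col2 (col5 (col4 (col3 (col2 (col1 (col4 (col3 (col2 (col1 (col4 (col3 (col2 (col1 (col4 (col3 (col2 (col1 (col4 (col3 (col2 (col1 (col4 (col3 (col2 (col1 (col4 (col3 (col2 (col1 (col3 (col2 (col5 (col4 (col3 (col2 (col1 (col4 (col3 (col2 (col1 (col4 (col3 (col2 (col1 (col4 (col3 (col2 (col1 (col4 (col3 (col2 (col1 (col4 (col3 (col2 (col1 (col4 (col3 (col2 (col1 (col3 (col2 (col4 (col5 (col4 (col3 (col2 (col1 (col4 (col3 (col2 (col1 (col4 (col3 (col2 (col1 (col4 (col3 (col2 (col1 (col4 (col3 (col2 (col1 (col4 (col3 (col2 (col1 (col4 (col3 (col2 (col1 (col3 (col2 (col5 (col4 (col3 (col2 (col1 (col4 (col3 (col2 (col1 (col4 (col3 (col2 (col1 (col4 (col3 (col2 (col1 (col4 (col3 (col2 (col1 (col4 (col3 (col2 (col1 (col4 (col3 (col2 (col1 (col3 (col2 (col5 (col4 (col3 (col2 (col1 (col4 (col3 (col2 (col1 (col4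 (col3 (col2 (col1 (col4 (col3 (col2 (col1 (col4 (col3 (col2 (col1 (col4 (col3 (col2 (col1 (col4 (col3 (col2 (col1 (col3 (col2 (col2 (i)))))))))))))))))))))))))))))))))))))))))))))))))))))))))))))))))))))))))))))))))))))))))))))))))))))))))))))))))))))))))))))))))))))))))))))))))))))))))))))))))))))))))))))))))))))))))))))))))))))))))))))))))))))))))))))))))))))))))))))))))))))))))))))))))))))))))))))))))))))))))))))))))))))))))))))))))))))))))))))))))))))))))))))))))))))))))))))))))))))))))))))))))))))))))))))))))))))))))))))))))))))))))))))))))))))))))))))))))))))))))))))))))))))))))))))))))))))))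
theorem act53_eq (i : Nat) : act53 i = Tab.act T D chk53 i := rfl
theorem c53_0 : allRange (fun i => Nat.beq (act53 i) i) 0 126 = true := by decide +kernel
theorem c53_1 : allRange (fun i => Nat.beq (act53 i) i) 126 126 = true := by decide +kernel
theorem c53_2 : allRange (fun i => Nat.beq (act53 i) i) 252 126 = true := by decide +kernel
theorem c53_3 : allRange (fun i => Nat.beq (act53 i) i) 378 126 = true := by decide +kernel
theorem c53_4 : allRange (fun i => Nat.beq (act53 i) i) 504 126 = true := by decide +kernel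
theorem c53_5 : allRange (fun i => Nat.beq (act53 i) i) 630 126 = true := by decide +kernel
theorem c53_6 : allRange (fun i => Nat.beq (act53 i) i) 756 126 = true := by decide +kernel
theorem c53_7 : allRange (fun i => Nat.beq (act53 i) i) 882 126 = true := by decide +kernel
theorem c53_8 : allRange (fun i => Nat.beq (act53 i) i) 1008 126 = true := by decide +kernel
theorem c53_9 : allRange (fun i => Nat.beq (act53 i) i) 1134 126 = true := by decide +kernel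
theorem c53_10 : allRange (fun i => Nat.beq (act53 i) i) 1260 126 = true := by decide +kernel
theorem c53_11 : allRange (fun i => Nat.beq (act53 i) i) 1386 126 = true := by decide +kernel
theorem c53_12 : allRange (fun i => Nat.beq (act53 i) i) 1512 126 = true := by decide +kernel
theorem c53_13 : allRange (fun i => Nat.beq (act53 i) i) 1638 126 = true := by decide +kernel
theorem c53_14 : allRange (fun i => Nat.beq (act53 i) i) 1764 126 = true := by decide +kernel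
theorem c53_15 : allRange (fun i => Nat.beq (act53 i) i) 1890 126 = true := by decide +kernel
theorem c53_16 : allRange (fun i => Nat.beq (act53 i) i) 2016 42 = true := by decide +kernel
theorem h53 : ∀ i, i < T.N → Tab.relActOK T D chk53 i = true := by
  intro i hi
  rw [Tab.relActOK, ← act53_eq]
  exact (range_glue (range_of_allRange c53_0) (range_glue (range_of_allRange c53_1) (range_glue (range_of_allRange c53_2) (range_glue (range_of_allRange c53_3) (range_glue (range_of_allRange c53_4) (range_glue (range_of_allRange c53_5) (range_glue (range_of_allRange c53_6) (range_glue (range_of_allRange c53_7) (range_glue (range_of_allRange c53_8) (range_glue (range_of_allRange c53_9) (range_glue (range_of_allRange c53_10) (range_glue (range_of_allRange c53_11) (range_glue (range_of_allRange c53_12) (range_glue (range_of_allRange c53_13) (range_glue (range_of_allRange c53_14) (range_glue (range_of_allRange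 c53_15) (range_of_allRange c53_16))))))))))))))))) i (Nat.zero_le _) hi

def chk54 : List Nat := [5, 4, 3, 2, 1, 4, 3, 2, 1, 4, 3, 2, 1, 4, 3, 2, 1, 4, 3, 2, 1, 4, 3, 2, 1, 4, 3, 2, 1, 3, 2, 5, 4, 3, 2, 1, 4, 3, 2, 1, 4, 3, 2, 1, 4, 3, 2, 1, 4, 3, 2, 1, 4, 3, 2, 1, 4, 3, 2, 1, 3, 2, 4, 5, 4, 3, 2, 1, 4, 3, 2, 1, 4, 3, 2, 1, 4, 3, 2, 1, 4, 3, 2, 1, 4, 3, 2, 1, 4, 3, 2, 1, 3, 2, 5, 4, 3, 2, 1, 4, 3, 2, 1, 4, 3, 2, 1, 4, 3, 2, 1, 4, 3, 2, 1, 4, 3, 2, 1, 4, 3, 2, 1, 3, 2, 5, 4, 3, 2, 1, 4, 3, 2, 1, 4, 3, 2, 1, 4, 3, 2, 1, 4, 3, 2, 1, 4, 3, 2, 1, 4, 3, 2, 1, 3, 2, 5, 4, 3, 2, 1, 4, 3, 2, 1, 4, 3, 2, 1, 4, 3, 2, 1, 4, 3, 2, 1, 4, 3, 2, 1, 4, 3, 2, 1, 3, 2, 5, 4, 3, 2, 1, 4, 3, 2, 1, 4, 3, 2, 1, 4, 3, 2, 1, 4, 3, 2, 1, 4, 3, 2, 1, 4, 3, 2, 1, 3, 2, 4, 5, 4, 3, 2, 1, 4, 3, 2, 1, 4, 3, 2, 1, 4, 3, 2, 1, 4, 3, 2, 1, 4, 3, 2, 1, 4, 3, 2, 1, 3, 2, 5, 4, 3, 2, 1, 4, 3, 2, 1, 4, 3, 2, 1, 4, 3, 2, 1, 4, 3, 2, 1, 4,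 3, 2, 1, 4, 3, 2, 1, 3, 2, 5, 4, 3, 2, 1, 4, 3, 2, 1, 4, 3, 2, 1, 4, 3, 2, 1, 4, 3, 2, 1, 4, 3, 2, 1, 4, 3, 2, 1, 3, 2, 5, 4, 3, 2, 1, 4, 3, 2, 1, 4, 3, 2, 1, 4, 3, 2, 1, 4, 3, 2, 1, 4, 3, 2, 1, 4, 3, 2, 1, 3, 2, 5, 4, 3, 2, 1, 4, 3, 2, 1, 4, 3, 2, 1, 4, 3, 2, 1, 4, 3, 2, 1, 4, 3, 2, 1, 4, 3, 2, 1, 3, 2, 4, 5, 4, 3, 2, 1, 4, 3, 2, 1, 4, 3, 2, 1, 4, 3, 2, 1, 4, 3, 2, 1, 4, 3, 2, 1, 4, 3, 2, 1, 3, 2, 5, 4, 3, 2, 1, 4, 3, 2, 1, 4, 3, 2, 1, 4, 3, 2, 1, 4, 3, 2, 1, 4, 3, 2, 1, 4, 3, 2, 1, 3, 2, 5, 4, 3, 2, 1, 4, 3, 2, 1, 4, 3, 2, 1, 4, 3, 2, 1, 4, 3, 2, 1, 4, 3, 2, 1, 4, 3, 2, 1, 3, 2]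
noncomputable def act54 (i : Nat) : Nat := col5 (col4 (col3 (col2 (col1 (col4 (col3 (col2 (col1 (col4 (col3 (col2 (col1 (col4 (col3 (col2 (col1 (col4 (col3 (col2 (col1 (col4 (col3 (col2 (col1 (col4 (col3 (col2 (col1 (col3 (col2 (col5 (col4 (col3 (col2 (col1 (col4 (col3 (col2 (col1 (col4 (col3 (col2 (col1 (col4 (col3 (col2 (col1 (col4 (col3 (col2 (col1 (col4 (col3 (col2 (col1 (col4 (col3 (col2 (col1 (col3 (col2 (col4 (col5 (col4 (col3 (col2 (col1 (col4 (col3 (col2 (col1 (col4 (col3 (col2 (col1 (col4 (col3 (col2 (col1 (col4 (col3 (col2 (col1 (col4 (col3 (col2 (col1 (col4 (col3 (col2 (col1 (col3 (col2 (col5 (col4 (col3 (col2 (col1 (col4 (col3 (col2 (col1 (col4 (col3 (col2 (col1 (col4 (col3 (col2 (col1 (col4 (col3 (col2 (col1 (col4 (col3 (col2 (col1 (col4 (col3 (col2 (col1 (col3 (col2 (col5 (col4 (col3 (col2 (col1 (col4 (col3 (col2 (col1 (col4 (col3 (col2 (col1 (col4 (col3 (col2 (col1 (col4 (col3 (col2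 (col1 (col4 (col3 (col2 (col1 (col4 (col3 (col2 (col1 (col3 (col2 (col5 (col4 (col3 (col2 (col1 (col4 (col3 (col2 (col1 (col4 (col3 (col2 (col1 (col4 (col3 (col2 (col1 (col4 (col3 (col2 (col1 (col4 (col3 (col2 (col1 (col4 (col3 (col2 (col1 (col3 (col2 (col5 (col4 (col3 (col2 (col1 (col4 (col3 (col2 (col1 (col4 (col3 (col2 (col1 (col4 (col3 (col2 (col1 (col4 (col3 (col2 (col1 (col4 (col3 (col2 (col1 (col4 (col3 (col2 (col1 (col3 (col2 (col4 (col5 (col4 (col3 (col2 (col1 (col4 (col3 (col2 (col1 (col4 (col3 (col2 (col1 (col4 (col3 (col2 (col1 (col4 (col3 (col2 (col1 (col4 (col3 (col2 (col1 (col4 (col3 (col2 (col1 (col3 (col2 (col5 (col4 (col3 (col2 (col1 (col4 (col3 (col2 (col1 (col4 (col3 (col2 (col1 (col4 (col3 (col2 (col1 (col4 (col3 (col2 (col1 (col4 (col3 (col2 (col1 (col4 (col3 (col2 (col1 (col3 (col2 (col5 (col4 (col3 (col2 (col1 (col4 (col3 (col2 (col1 (col4 (col3 (col2 (col1 (col4 (col3 (col2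 (col1 (col4 (col3 (col2 (col1 (col4 (col3 (col2 (col1 (col4 (col3 (col2 (col1 (col3 (col2 (col5 (col4 (col3 (col2 (col1 (col4 (col3 (col2 (col1 (col4 (col3 (col2 (col1 (col4 (col3 (col2 (col1 (col4 (col3 (col2 (col1 (col4 (col3 (col2 (col1 (col4 (col3 (col2 (col1 (col3 (col2 (col5 (col4 (col3 (col2 (col1 (col4 (col3 (col2 (col1 (col4 (col3 (col2 (col1 (col4 (col3 (col2 (col1 (col4 (col3 (col2 (col1 (col4 (col3 (col2 (col1 (col4 (col3 (col2 (col1 (col3 (col2 (col4 (col5 (col4 (col3 (col2 (col1 (col4 (col3 (col2 (col1 (col4 (col3 (col2 (col1 (col4 (col3 (col2 (col1 (col4 (col3 (col2 (col1 (col4 (col3 (col2 (col1 (col4 (col3 (col2 (col1 (col3 (col2 (col5 (col4 (col3 (col2 (col1 (col4 (col3 (col2 (col1 (col4 (col3 (col2 (col1 (col4 (col3 (col2 (col1 (col4 (col3 (col2 (col1 (col4 (col3 (col2 (col1 (col4 (col3 (col2 (col1 (col3 (col2 (col5 (col4 (col3 (col2 (col1 (col4 (col3 (col2 (col1 (col4 (col3 (col2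 (col1 (col4 (col3 (col2 (col1 (col4 (col3 (col2 (col1 (col4 (col3 (col2 (col1 (col4 (col3 (col2 (col1 (col3 (col2 (i))))))))))))))))))))))))))))))))))))))))))))))))))))))))))))))))))))))))))))))))))))))))))))))))))))))))))))))))))))))))))))))))))))))))))))))))))))))))))))))))))))))))))))))))))))))))))))))))))))))))))))))))))))))))))))))))))))))))))))))))))))))))))))))))))))))))))))))))))))))))))))))))))))))))))))))))))))))))))))))))))))))))))))))))))))))))))))))))))))))))))))))))))))))))))))))))))))))))))))))))))))))))))))))))))))))))))))))))))))))))))))))))))))))))))))))))))))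
theorem act54_eq (i : Nat) : act54 i = Tab.act T D chk54 i := rfl
theorem c54_0 : allRange (fun i => Nat.beq (act54 i) i) 0 127 = true := by decide +kernel
theorem c54_1 : allRange (fun i => Nat.beq (act54 i) i) 127 127 = true := by decide +kernel
theorem c54_2 : allRange (fun i => Nat.beq (act54 i) i) 254 127 = true := by decide +kernel
theorem c54_3 : allRange (fun i => Nat.beq (act54 i) i) 381 127 = true := by decide +kernel
theorem c54_4 : allRange (fun i => Nat.beq (act54 i) i) 508 127 = true := by decide +kernel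
theorem c54_5 : allRange (fun i => Nat.beq (act54 i) i) 635 127 = true := by decide +kernel
theorem c54_6 : allRange (fun i => Nat.beq (act54 i) i) 762 127 = true := by decide +kernel
theorem c54_7 : allRange (fun i => Nat.beq (act54 i) i) 889 127 = true := by decide +kernel
theorem c54_8 : allRange (fun i => Nat.beq (act54 i) i) 1016 127 = true := by decide +kernel
theorem c54_9 : allRange (fun i => Nat.beq (act54 i) i) 1143 127 = true := by decide +kernel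
theorem c54_10 : allRange (fun i => Nat.beq (act54 i) i) 1270 127 = true := by decide +kernel
theorem c54_11 : allRange (fun i => Nat.beq (act54 i) i) 1397 127 = true := by decide +kernel
theorem c54_12 : allRange (fun i => Nat.beq (act54 i) i) 1524 127 = true := by decide +kernel
theorem c54_13 : allRange (fun i => Nat.beq (act54 i) i) 1651 127 = true := by decide +kernel
theorem c54_14 : allRange (fun i => Nat.beq (act54 i) i) 1778 127 = true := by decide +kernel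
theorem c54_15 : allRange (fun i => Nat.beq (act54 i) i) 1905 127 = true := by decide +kernel
theorem c54_16 : allRange (fun i => Nat.beq (act54 i) i) 2032 26 = true := by decide +kernel
theorem h54 : ∀ i, i < T.N → Tab.relActOK T D chk54 i = true := by
  intro i hi
  rw [Tab.relActOK, ← act54_eq]
  exact (range_glue (range_of_allRange c54_0) (range_glue (range_of_allRange c54_1) (range_glue (range_of_allRange c54_2) (range_glue (range_of_allRange c54_3) (range_glue (range_of_allRange c54_4) (range_glue (range_of_allRange c54_5) (range_glue (range_of_allRange c54_6) (range_glue (range_of_allRange c54_7) (range_glue (range_of_allRange c54_8) (range_glue (range_of_allRange c54_9) (range_glue (range_of_allRange c54_10) (range_glue (range_of_allRange c54_11) (range_glue (range_of_allRange c54_12) (range_glue (range_of_allRange c54_13) (range_glue (range_of_allRange c54_14) (range_glue (range_of_allRange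 c54_15) (range_of_allRange c54_16))))))))))))))))) i (Nat.zero_le _) hi

def chk55 : List Nat := [6, 5, 4, 3, 2, 1, 4, 3, 2, 1, 4, 3, 2, 1, 4, 3, 2, 1, 4, 3, 2, 1, 4, 3, 2, 1, 4, 3, 2, 1, 3, 2, 5, 4, 3, 2, 1, 4, 3, 2, 1, 4, 3, 2, 1, 4, 3, 2, 1, 4, 3, 2, 1, 4, 3, 2, 1, 4, 3, 2, 1, 3, 2, 4, 5, 4, 3, 2, 1, 4, 3, 2, 1, 4, 3, 2, 1, 4, 3, 2, 1, 4, 3, 2, 1, 4, 3, 2, 1, 4, 3, 2, 1, 3, 2, 5, 4, 3, 2, 1, 4, 3, 2, 1, 4, 3, 2, 1, 4, 3, 2, 1, 4, 3, 2, 1, 4, 3, 2, 1, 4, 3, 2, 1, 3, 2, 5, 4, 3, 2, 1, 4, 3, 2, 1, 4, 3, 2, 1, 4, 3, 2, 1, 4, 3, 2, 1, 4, 3, 2, 1, 4, 3, 2, 1, 3, 2, 6, 2, 2, 3, 1, 2, 3, 4, 1, 2, 3, 4, 1, 2, 3, 4, 1, 2, 3, 4, 1, 2, 3, 4, 1, 2, 3, 4, 1, 2, 3, 4, 5, 2, 3, 1, 2, 3, 4, 1, 2, 3, 4, 1, 2, 3, 4, 1, 2, 3, 4, 1, 2, 3, 4, 1, 2, 3, 4, 1, 2, 3, 4, 5, 2, 3, 1, 2, 3, 4, 1, 2, 3, 4, 1, 2, 3, 4, 1, 2, 3, 4, 1, 2, 3, 4, 1, 2, 3, 4, 1, 2, 3, 4, 5, 4, 2, 3, 1, 2, 3, 4, 1, 2, 3, 4, 1, 2, 3, 4, 1, 2, 3, 4, 1,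 2, 3, 4, 1, 2, 3, 4, 1, 2, 3, 4, 5, 2, 3, 1, 2, 3, 4, 1, 2, 3, 4, 1, 2, 3, 4, 1, 2, 3, 4, 1, 2, 3, 4, 1, 2, 3, 4, 1, 2, 3, 4, 5]
noncomputable def act55 (i : Nat) : Nat := col6 (col5 (col4 (col3 (col2 (col1 (col4 (col3 (col2 (col1 (col4 (col3 (col2 (col1 (col4 (col3 (col2 (col1 (col4 (col3 (col2 (col1 (col4 (col3 (col2 (col1 (col4 (col3 (col2 (col1 (col3 (col2 (col5 (col4 (col3 (col2 (col1 (col4 (col3 (col2 (col1 (col4 (col3 (col2 (col1 (col4 (col3 (col2 (col1 (col4 (col3 (col2 (col1 (col4 (col3 (col2 (col1 (col4 (col3 (col2 (col1 (col3 (col2 (col4 (col5 (col4 (col3 (col2 (col1 (col4 (col3 (col2 (col1 (col4 (col3 (col2 (col1 (col4 (col3 (col2 (col1 (col4 (col3 (col2 (col1 (col4 (col3 (col2 (col1 (col4 (col3 (col2 (col1 (col3 (col2 (col5 (col4 (col3 (col2 (col1 (col4 (col3 (col2 (col1 (col4 (col3 (col2 (col1 (col4 (col3 (col2 (col1 (col4 (col3 (col2 (col1 (col4 (col3 (col2 (col1 (col4 (col3 (col2 (col1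 (col3 (col2 (col5 (col4 (col3 (col2 (col1 (col4 (col3 (col2 (col1 (col4 (col3 (col2 (col1 (col4 (col3 (col2 (col1 (col4 (col3 (col2 (col1 (col4 (col3 (col2 (col1 (col4 (col3 (col2 (col1 (col3 (col2 (col6 (col2 (col2 (col3 (col1 (col2 (col3 (col4 (col1 (col2 (col3 (col4 (col1 (col2 (col3 (col4 (col1 (col2 (col3 (col4 (col1 (col2 (col3 (col4 (col1 (col2 (col3 (col4 (col1 (col2 (col3 (col4 (col5 (col2 (col3 (col1 (col2 (col3 (col4 (col1 (col2 (col3 (col4 (col1 (col2 (col3 (col4 (col1 (col2 (col3 (col4 (col1 (col2 (col3 (col4 (col1 (col2 (col3 (col4 (col1 (col2 (col3 (col4 (col5 (col2 (col3 (col1 (col2 (col3 (col4 (col1 (col2 (col3 (col4 (col1 (col2 (col3 (col4 (col1 (col2 (col3 (col4 (col1 (col2 (col3 (col4 (col1 (col2 (col3 (col4 (col1 (col2 (col3 (col4 (col5 (col4 (col2 (col3 (col1 (col2 (col3 (col4 (col1 (col2 (col3 (col4 (col1 (col2 (col3 (col4 (col1 (col2 (col3 (col4 (col1 (col2 (col3 (col4 (col1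 (col2 (col3 (col4 (col1 (col2 (col3 (col4 (col5 (col2 (col3 (col1 (col2 (col3 (col4 (col1 (col2 (col3 (col4 (col1 (col2 (col3 (col4 (col1 (col2 (col3 (col4 (col1 (col2 (col3 (col4 (col1 (col2 (col3 (col4 (col1 (col2 (col3 (col4 (col5 (i)))))))))))))))))))))))))))))))))))))))))))))))))))))))))))))))))))))))))))))))))))))))))))))))))))))))))))))))))))))))))))))))))))))))))))))))))))))))))))))))))))))))))))))))))))))))))))))))))))))))))))))))))))))))))))))))))))))))))))))))))))))))))))))))))))))))))))))))))))))))))))))))))))))))))))))))))))))))))))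
theorem act55_eq (i : Nat) : act55 i = Tab.act T D chk55 i := rfl
theorem c55_0 : allRange (fun i => Nat.beq (act55 i) i) 0 189 = true := by decide +kernel
theorem c55_1 : allRange (fun i => Nat.beq (act55 i) i) 189 189 = true := by decide +kernel
theorem c55_2 : allRange (fun i => Nat.beq (act55 i) i) 378 189 = true := by decide +kernel
theorem c55_3 : allRange (fun i => Nat.beq (act55 i) i) 567 189 = true := by decide +kernel
theorem c55_4 : allRange (fun i => Nat.beq (act55 i) i) 756 189 = true := by decide +kernel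
theorem c55_5 : allRange (fun i => Nat.beq (act55 i) i) 945 189 = true := by decide +kernel
theorem c55_6 : allRange (fun i => Nat.beq (act55 i) i) 1134 189 = true := by decide +kernel
theorem c55_7 : allRange (fun i => Nat.beq (act55 i) i) 1323 189 = true := by decide +kernel
theorem c55_8 : allRange (fun i => Nat.beq (act55 i) i) 1512 189 = true := by decide +kernel
theorem c55_9 : allRange (fun i => Nat.beq (act55 i) i) 1701 189 = true := by decide +kernel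
theorem c55_10 : allRange (fun i => Nat.beq (act55 i) i) 1890 168 = true := by decide +kernel
theorem h55 : ∀ i, i < T.N → Tab.relActOK T D chk55 i = true := by
  intro i hi
  rw [Tab.relActOK, ← act55_eq]
  exact (range_glue (range_of_allRange c55_0) (range_glue (range_of_allRange c55_1) (range_glue (range_of_allRange c55_2) (range_glue (range_of_allRange c55_3) (range_glue (range_of_allRange c55_4) (range_glue (range_of_allRange c55_5) (range_glue (range_of_allRange c55_6) (range_glue (range_of_allRange c55_7) (range_glue (range_of_allRange c55_8) (range_glue (range_of_allRange c55_9) (range_of_allRange c55_10))))))))))) i (Nat.zero_le _) hi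

def chk56 : List Nat := [5, 4, 3, 2, 1, 4, 3, 2, 1, 4, 3, 2, 1, 4, 3, 2, 1, 4, 3, 2, 1, 4, 3, 2, 1, 4, 3, 2, 1, 3, 2, 5, 4, 3, 2, 1, 4, 3, 2, 1, 4, 3, 2, 1, 4, 3, 2, 1, 4, 3, 2, 1, 4, 3, 2, 1, 4, 3, 2, 1, 3, 2, 4, 5, 4, 3, 2, 1, 4, 3, 2, 1, 4, 3, 2, 1, 4, 3, 2, 1, 4, 3, 2, 1, 4, 3, 2, 1, 4, 3, 2, 1, 3, 2, 5, 4, 3, 2, 1, 4, 3, 2, 1, 4, 3, 2, 1, 4, 3, 2, 1, 4, 3, 2, 1, 4, 3, 2, 1, 4, 3, 2, 1, 3, 2, 5, 4, 3, 2, 1, 4, 3, 2, 1, 4, 3, 2, 1, 4, 3, 2, 1, 4, 3, 2, 1, 4, 3, 2, 1, 4, 3, 2, 1, 3, 2, 5, 4, 3, 2, 1, 4, 3, 2, 1, 4, 3, 2, 1, 4, 3, 2, 1, 4, 3, 2, 1, 4, 3, 2, 1, 4, 3, 2, 1, 3, 2, 5, 4, 3, 2, 1, 4, 3, 2, 1, 4, 3, 2, 1, 4, 3, 2, 1, 4, 3, 2, 1, 4, 3, 2, 1, 4, 3, 2, 1, 3, 2, 4, 5, 4, 3, 2, 1, 4, 3, 2, 1, 4, 3, 2, 1, 4, 3, 2, 1, 4, 3, 2, 1, 4, 3, 2, 1, 4, 3, 2, 1, 3, 2, 5, 4, 3, 2, 1, 4, 3, 2, 1, 4, 3, 2, 1, 4, 3, 2, 1, 4, 3, 2, 1, 4, 3, 2, 1, 4, 3, 2, 1, 3, 2, 5, 4, 3, 2, 1, 4, 3, 2, 1, 4, 3, 2, 1, 4, 3,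 2, 1, 4, 3, 2, 1, 4, 3, 2, 1, 4, 3, 2, 1, 3, 2, 5, 4, 3, 2, 1, 4, 3, 2, 1, 4, 3, 2, 1, 4, 3, 2, 1, 4, 3, 2, 1, 4, 3, 2, 1, 4, 3, 2, 1, 3, 2, 5, 4, 3, 2, 1, 4, 3, 2, 1, 4, 3, 2, 1, 4, 3, 2, 1, 4, 3, 2, 1, 4, 3, 2, 1, 4, 3, 2, 1, 3, 2, 4, 5, 4, 3, 2, 1, 4, 3, 2, 1, 4, 3, 2, 1, 4, 3, 2, 1, 4, 3, 2, 1, 4, 3, 2, 1, 4, 3, 2, 1, 3, 2, 5, 4, 3, 2, 1, 4, 3, 2, 1, 4, 3, 2, 1, 4, 3, 2, 1, 4, 3, 2, 1, 4, 3, 2, 1, 4, 3, 2, 1, 3, 2, 5, 4, 3, 2, 1, 4, 3, 2, 1, 4, 3, 2, 1, 4, 3, 2, 1, 4, 3, 2, 1, 4, 3, 2, 1, 4, 3, 2, 1, 3, 2]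
noncomputable def act56 (i : Nat) : Nat := col5 (col4 (col3 (col2 (col1 (col4 (col3 (col2 (col1 (col4 (col3 (col2 (col1 (col4 (col3 (col2 (col1 (col4 (col3 (col2 (col1 (col4 (col3 (col2 (col1 (col4 (col3 (col2 (col1 (col3 (col2 (col5 (col4 (col3 (col2 (col1 (col4 (col3 (col2 (col1 (col4 (col3 (col2 (col1 (col4 (col3 (col2 (col1 (col4 (col3 (col2 (col1 (col4 (col3 (col2 (col1 (col4 (col3 (col2 (col1 (col3 (col2 (col4 (col5 (col4 (col3 (col2 (col1 (col4 (col3 (col2 (col1 (col4 (col3 (col2 (col1 (col4 (col3 (col2 (col1 (col4 (col3 (col2 (col1 (col4 (col3 (col2 (col1 (col4 (col3 (col2 (col1 (col3 (col2 (col5 (col4 (col3 (col2 (col1 (col4 (col3 (col2 (col1 (col4 (col3 (col2 (col1 (col4 (col3 (col2 (col1 (col4 (col3 (col2 (col1 (col4 (col3 (col2 (col1 (col4 (col3 (col2 (col1 (col3 (col2 (col5 (col4 (col3 (col2 (col1 (col4 (col3 (col2 (col1 (col4 (col3 (col2 (col1 (col4 (col3 (col2 (col1 (col4 (col3 (col2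 (col1 (col4 (col3 (col2 (col1 (col4 (col3 (col2 (col1 (col3 (col2 (col5 (col4 (col3 (col2 (col1 (col4 (col3 (col2 (col1 (col4 (col3 (col2 (col1 (col4 (col3 (col2 (col1 (col4 (col3 (col2 (col1 (col4 (col3 (col2 (col1 (col4 (col3 (col2 (col1 (col3 (col2 (col5 (col4 (col3 (col2 (col1 (col4 (col3 (col2 (col1 (col4 (col3 (col2 (col1 (col4 (col3 (col2 (col1 (col4 (col3 (col2 (col1 (col4 (col3 (col2 (col1 (col4 (col3 (col2 (col1 (col3 (col2 (col4 (col5 (col4 (col3 (col2 (col1 (col4 (col3 (col2 (col1 (col4 (col3 (col2 (col1 (col4 (col3 (col2 (col1 (col4 (col3 (col2 (col1 (col4 (col3 (col2 (col1 (col4 (col3 (col2 (col1 (col3 (col2 (col5 (col4 (col3 (col2 (col1 (col4 (col3 (col2 (col1 (col4 (col3 (col2 (col1 (col4 (col3 (col2 (col1 (col4 (col3 (col2 (col1 (col4 (col3 (col2 (col1 (col4 (col3 (col2 (col1 (col3 (col2 (col5 (col4 (col3 (col2 (col1 (col4 (col3 (col2 (col1 (col4 (col3 (col2 (col1 (col4 (col3 (col2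 (col1 (col4 (col3 (col2 (col1 (col4 (col3 (col2 (col1 (col4 (col3 (col2 (col1 (col3 (col2 (col5 (col4 (col3 (col2 (col1 (col4 (col3 (col2 (col1 (col4 (col3 (col2 (col1 (col4 (col3 (col2 (col1 (col4 (col3 (col2 (col1 (col4 (col3 (col2 (col1 (col4 (col3 (col2 (col1 (col3 (col2 (col5 (col4 (col3 (col2 (col1 (col4 (col3 (col2 (col1 (col4 (col3 (col2 (col1 (col4 (col3 (col2 (col1 (col4 (col3 (col2 (col1 (col4 (col3 (col2 (col1 (col4 (col3 (col2 (col1 (col3 (col2 (col4 (col5 (col4 (col3 (col2 (col1 (col4 (col3 (col2 (col1 (col4 (col3 (col2 (col1 (col4 (col3 (col2 (col1 (col4 (col3 (col2 (col1 (col4 (col3 (col2 (col1 (col4 (col3 (col2 (col1 (col3 (col2 (col5 (col4 (col3 (col2 (col1 (col4 (col3 (col2 (col1 (col4 (col3 (col2 (col1 (col4 (col3 (col2 (col1 (col4 (col3 (col2 (col1 (col4 (col3 (col2 (col1 (col4 (col3 (col2 (col1 (col3 (col2 (col5 (col4 (col3 (col2 (col1 (col4 (col3 (col2 (col1 (col4 (col3 (col2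 (col1 (col4 (col3 (col2 (col1 (col4 (col3 (col2 (col1 (col4 (col3 (col2 (col1 (col4 (col3 (col2 (col1 (col3 (col2 (i))))))))))))))))))))))))))))))))))))))))))))))))))))))))))))))))))))))))))))))))))))))))))))))))))))))))))))))))))))))))))))))))))))))))))))))))))))))))))))))))))))))))))))))))))))))))))))))))))))))))))))))))))))))))))))))))))))))))))))))))))))))))))))))))))))))))))))))))))))))))))))))))))))))))))))))))))))))))))))))))))))))))))))))))))))))))))))))))))))))))))))))))))))))))))))))))))))))))))))))))))))))))))))))))))))))))))))))))))))))))))))))))))))))))))))))))))))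
theorem act56_eq (i : Nat) : act56 i = Tab.act T D chk56 i := rfl
theorem c56_0 : allRange (fun i => Nat.beq (act56 i) i) 0 127 = true := by decide +kernel
theorem c56_1 : allRange (fun i => Nat.beq (act56 i) i) 127 127 = true := by decide +kernel
theorem c56_2 : allRange (fun i => Nat.beq (act56 i) i) 254 127 = true := by decide +kernel
theorem c56_3 : allRange (fun i => Nat.beq (act56 i) i) 381 127 = true := by decide +kernel
theorem c56_4 : allRange (fun i => Nat.beq (act56 i) i) 508 127 = true := by decide +kernel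
theorem c56_5 : allRange (fun i => Nat.beq (act56 i) i) 635 127 = true := by decide +kernel
theorem c56_6 : allRange (fun i => Nat.beq (act56 i) i) 762 127 = true := by decide +kernel
theorem c56_7 : allRange (fun i => Nat.beq (act56 i) i) 889 127 = true := by decide +kernel
theorem c56_8 : allRange (fun i => Nat.beq (act56 i) i) 1016 127 = true := by decide +kernel
theorem c56_9 : allRange (fun i => Nat.beq (act56 i) i) 1143 127 = true := by decide +kernel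
theorem c56_10 : allRange (fun i => Nat.beq (act56 i) i) 1270 127 = true := by decide +kernel
theorem c56_11 : allRange (fun i => Nat.beq (act56 i) i) 1397 127 = true := by decide +kernel
theorem c56_12 : allRange (fun i => Nat.beq (act56 i) i) 1524 127 = true := by decide +kernel
theorem c56_13 : allRange (fun i => Nat.beq (act56 i) i) 1651 127 = true := by decide +kernel
theorem c56_14 : allRange (fun i => Nat.beq (act56 i) i) 1778 127 = true := by decide +kernel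
theorem c56_15 : allRange (fun i => Nat.beq (act56 i) i) 1905 127 = true := by decide +kernel
theorem c56_16 : allRange (fun i => Nat.beq (act56 i) i) 2032 26 = true := by decide +kernel
theorem h56 : ∀ i, i < T.N → Tab.relActOK T D chk56 i = true := by
  intro i hi
  rw [Tab.relActOK, ← act56_eq]
  exact (range_glue (range_of_allRange c56_0) (range_glue (range_of_allRange c56_1) (range_glue (range_of_allRange c56_2) (range_glue (range_of_allRange c56_3) (range_glue (range_of_allRange c56_4) (range_glue (range_of_allRange c56_5) (range_glue (range_of_allRange c56_6) (range_glue (range_of_allRange c56_7) (range_glue (range_of_allRange c56_8) (range_glue (range_of_allRange c56_9) (range_glue (range_of_allRange c56_10) (range_glue (range_of_allRange c56_11) (range_glue (range_of_allRange c56_12) (range_glue (range_of_allRange c56_13) (range_glue (range_of_allRange c56_14) (range_glue (range_of_allRange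 c56_15) (range_of_allRange c56_16))))))))))))))))) i (Nat.zero_le _) hi

def chk57 : List Nat := [5, 4, 3, 2, 1, 4, 3, 2, 1, 4, 3, 2, 1, 4, 3, 2, 1, 4, 3, 2, 1, 4, 3, 2, 1, 4, 3, 2, 1, 3, 2, 5, 4, 3, 2, 1, 4, 3, 2, 1, 4, 3, 2, 1, 4, 3, 2, 1, 4, 3, 2, 1, 4, 3, 2, 1, 4, 3, 2, 1, 3, 2, 4, 5, 4, 3, 2, 1, 4, 3, 2, 1, 4, 3, 2, 1, 4, 3, 2, 1, 4, 3, 2, 1, 4, 3, 2, 1, 4, 3, 2, 1, 3, 2, 5, 4, 3, 2, 1, 4, 3, 2, 1, 4, 3, 2, 1, 4, 3, 2, 1, 4, 3, 2, 1, 4, 3, 2, 1, 4, 3, 2, 1, 3, 2, 5, 4, 3, 2, 1, 4, 3, 2, 1, 4, 3, 2, 1, 4, 3, 2, 1, 4, 3, 2, 1, 4, 3, 2, 1, 4, 3, 2, 1, 3, 2, 2, 5, 4, 3, 2, 1, 4, 3, 2, 1, 4, 3, 2, 1, 4, 3, 2, 1, 4, 3, 2, 1, 4, 3, 2, 1, 4, 3, 2, 1, 3, 2, 5, 4, 3, 2, 1, 4, 3, 2, 1, 4, 3, 2, 1, 4, 3, 2, 1, 4, 3, 2, 1, 4, 3, 2, 1, 4, 3, 2, 1, 3, 2, 4, 5, 4, 3, 2, 1, 4, 3, 2, 1, 4, 3, 2, 1, 4, 3, 2, 1, 4, 3, 2, 1, 4, 3, 2, 1, 4, 3, 2, 1, 3, 2, 5, 4, 3, 2, 1, 4, 3, 2, 1, 4, 3, 2, 1, 4, 3, 2, 1, 4, 3, 2, 1,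 4, 3, 2, 1, 4, 3, 2, 1, 3, 2, 5, 4, 3, 2, 1, 4, 3, 2, 1, 4, 3, 2, 1, 4, 3, 2, 1, 4, 3, 2, 1, 4, 3, 2, 1, 4, 3, 2, 1, 3, 2, 2, 5, 4, 3, 2, 1, 4, 3, 2, 1, 4, 3, 2, 1, 4, 3, 2, 1, 4, 3, 2, 1, 4, 3, 2, 1, 4, 3, 2, 1, 3, 2, 5, 4, 3, 2, 1, 4, 3, 2, 1, 4, 3, 2, 1, 4, 3, 2, 1, 4, 3, 2, 1, 4, 3, 2, 1, 4, 3, 2, 1, 3, 2, 4, 5, 4, 3, 2, 1, 4, 3, 2, 1, 4, 3, 2, 1, 4, 3, 2, 1, 4, 3, 2, 1, 4, 3, 2, 1, 4, 3, 2, 1, 3, 2, 5, 4, 3, 2, 1, 4, 3, 2, 1, 4, 3, 2, 1, 4, 3, 2, 1, 4, 3, 2, 1, 4, 3, 2, 1, 4, 3, 2, 1, 3, 2, 5, 4, 3, 2, 1, 4, 3, 2, 1, 4, 3, 2, 1, 4, 3, 2, 1, 4, 3, 2, 1, 4, 3, 2, 1, 4, 3, 2, 1, 3, 2, 2]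
noncomputable def act57 (i : Nat) : Nat := col5 (col4 (col3 (col2 (col1 (col4 (col3 (col2 (col1 (col4 (col3 (col2 (col1 (col4 (col3 (col2 (col1 (col4 (col3 (col2 (col1 (col4 (col3 (col2 (col1 (col4 (col3 (col2 (col1 (col3 (col2 (col5 (col4 (col3 (col2 (col1 (col4 (col3 (col2 (col1 (col4 (col3 (col2 (col1 (col4 (col3 (col2 (col1 (col4 (col3 (col2 (col1 (col4 (col3 (col2 (col1 (col4 (col3 (col2 (col1 (col3 (col2 (col4 (col5 (col4 (col3 (col2 (col1 (col4 (col3 (col2 (col1 (col4 (col3 (col2 (col1 (col4 (col3 (col2 (col1 (col4 (col3 (col2 (col1 (col4 (col3 (col2 (col1 (col4 (col3 (col2 (col1 (col3 (col2 (col5 (col4 (col3 (col2 (col1 (col4 (col3 (col2 (col1 (col4 (col3 (col2 (col1 (col4 (col3 (col2 (col1 (col4 (col3 (col2 (col1 (col4 (col3 (col2 (col1 (col4 (col3 (col2 (col1 (col3 (col2 (col5 (col4 (col3 (col2 (col1 (col4 (col3 (col2 (col1 (col4 (col3 (col2 (col1 (col4 (col3 (col2 (col1 (col4 (col3 (col2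 (col1 (col4 (col3 (col2 (col1 (col4 (col3 (col2 (col1 (col3 (col2 (col2 (col5 (col4 (col3 (col2 (col1 (col4 (col3 (col2 (col1 (col4 (col3 (col2 (col1 (col4 (col3 (col2 (col1 (col4 (col3 (col2 (col1 (col4 (col3 (col2 (col1 (col4 (col3 (col2 (col1 (col3 (col2 (col5 (col4 (col3 (col2 (col1 (col4 (col3 (col2 (col1 (col4 (col3 (col2 (col1 (col4 (col3 (col2 (col1 (col4 (col3 (col2 (col1 (col4 (col3 (col2 (col1 (col4 (col3 (col2 (col1 (col3 (col2 (col4 (col5 (col4 (col3 (col2 (col1 (col4 (col3 (col2 (col1 (col4 (col3 (col2 (col1 (col4 (col3 (col2 (col1 (col4 (col3 (col2 (col1 (col4 (col3 (col2 (col1 (col4 (col3 (col2 (col1 (col3 (col2 (col5 (col4 (col3 (col2 (col1 (col4 (col3 (col2 (col1 (col4 (col3 (col2 (col1 (col4 (col3 (col2 (col1 (col4 (col3 (col2 (col1 (col4 (col3 (col2 (col1 (col4 (col3 (col2 (col1 (col3 (col2 (col5 (col4 (col3 (col2 (col1 (col4 (col3 (col2 (col1 (col4 (col3 (col2 (col1 (col4 (col3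 (col2 (col1 (col4 (col3 (col2 (col1 (col4 (col3 (col2 (col1 (col4 (col3 (col2 (col1 (col3 (col2 (col2 (col5 (col4 (col3 (col2 (col1 (col4 (col3 (col2 (col1 (col4 (col3 (col2 (col1 (col4 (col3 (col2 (col1 (col4 (col3 (col2 (col1 (col4 (col3 (col2 (col1 (col4 (col3 (col2 (col1 (col3 (col2 (col5 (col4 (col3 (col2 (col1 (col4 (col3 (col2 (col1 (col4 (col3 (col2 (col1 (col4 (col3 (col2 (col1 (col4 (col3 (col2 (col1 (col4 (col3 (col2 (col1 (col4 (col3 (col2 (col1 (col3 (col2 (col4 (col5 (col4 (col3 (col2 (col1 (col4 (col3 (col2 (col1 (col4 (col3 (col2 (col1 (col4 (col3 (col2 (col1 (col4 (col3 (col2 (col1 (col4 (col3 (col2 (col1 (col4 (col3 (col2 (col1 (col3 (col2 (col5 (col4 (col3 (col2 (col1 (col4 (col3 (col2 (col1 (col4 (col3 (col2 (col1 (col4 (col3 (col2 (col1 (col4 (col3 (col2 (col1 (col4 (col3 (col2 (col1 (col4 (col3 (col2 (col1 (col3 (col2 (col5 (col4 (col3 (col2 (col1 (col4 (col3 (col2 (col1 (col4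 (col3 (col2 (col1 (col4 (col3 (col2 (col1 (col4 (col3 (col2 (col1 (col4 (col3 (col2 (col1 (col4 (col3 (col2 (col1 (col3 (col2 (col2 (i)))))))))))))))))))))))))))))))))))))))))))))))))))))))))))))))))))))))))))))))))))))))))))))))))))))))))))))))))))))))))))))))))))))))))))))))))))))))))))))))))))))))))))))))))))))))))))))))))))))))))))))))))))))))))))))))))))))))))))))))))))))))))))))))))))))))))))))))))))))))))))))))))))))))))))))))))))))))))))))))))))))))))))))))))))))))))))))))))))))))))))))))))))))))))))))))))))))))))))))))))))))))))))))))))))))))))))))))))))))))))))))))))))))))))))))))))))))))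
theorem act57_eq (i : Nat) : act57 i = Tab.act T D chk57 i := rfl
theorem c57_0 : allRange (fun i => Nat.beq (act57 i) i) 0 126 = true := by decide +kernel
theorem c57_1 : allRange (fun i => Nat.beq (act57 i) i) 126 126 = true := by decide +kernel
theorem c57_2 : allRange (fun i => Nat.beq (act57 i) i) 252 126 = true := by decide +kernel
theorem c57_3 : allRange (fun i => Nat.beq (act57 i) i) 378 126 = true := by decide +kernel
theorem c57_4 : allRange (fun i => Nat.beq (act57 i) i) 504 126 = true := by decide +kernel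
theorem c57_5 : allRange (fun i => Nat.beq (act57 i) i) 630 126 = true := by decide +kernel
theorem c57_6 : allRange (fun i => Nat.beq (act57 i) i) 756 126 = true := by decide +kernel
theorem c57_7 : allRange (fun i => Nat.beq (act57 i) i) 882 126 = true := by decide +kernel
theorem c57_8 : allRange (fun i => Nat.beq (act57 i) i) 1008 126 = true := by decide +kernel
theorem c57_9 : allRange (fun i => Nat.beq (act57 i) i) 1134 126 = true := by decide +kernel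
theorem c57_10 : allRange (fun i => Nat.beq (act57 i) i) 1260 126 = true := by decide +kernel
theorem c57_11 : allRange (fun i => Nat.beq (act57 i) i) 1386 126 = true := by decide +kernel
theorem c57_12 : allRange (fun i => Nat.beq (act57 i) i) 1512 126 = true := by decide +kernel
theorem c57_13 : allRange (fun i => Nat.beq (act57 i) i) 1638 126 = true := by decide +kernel
theorem c57_14 : allRange (fun i => Nat.beq (act57 i) i) 1764 126 = true := by decide +kernel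
theorem c57_15 : allRange (fun i => Nat.beq (act57 i) i) 1890 126 = true := by decide +kernel
theorem c57_16 : allRange (fun i => Nat.beq (act57 i) i) 2016 42 = true := by decide +kernel
theorem h57 : ∀ i, i < T.N → Tab.relActOK T D chk57 i = true := by
  intro i hi
  rw [Tab.relActOK, ← act57_eq]
  exact (range_glue (range_of_allRange c57_0) (range_glue (range_of_allRange c57_1) (range_glue (range_of_allRange c57_2) (range_glue (range_of_allRange c57_3) (range_glue (range_of_allRange c57_4) (range_glue (range_of_allRange c57_5) (range_glue (range_of_allRange c57_6) (range_glue (range_of_allRange c57_7) (range_glue (range_of_allRange c57_8) (range_glue (range_of_allRange c57_9) (range_glue (range_of_allRange c57_10) (range_glue (range_of_allRange c57_11) (range_glue (range_of_allRange c57_12) (range_glue (range_of_allRange c57_13) (range_glue (range_of_allRange c57_14) (range_glue (range_of_allRange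 c57_15) (range_of_allRange c57_16))))))))))))))))) i (Nat.zero_le _) hi

def chk58 : List Nat := [6, 5, 4, 3, 2, 1, 4, 3, 2, 1, 4, 3, 2, 1, 4, 3, 2, 1, 4, 3, 2, 1, 4, 3, 2, 1, 4, 3, 2, 1, 3, 2, 5, 4, 3, 2, 1, 4, 3, 2, 1, 4, 3, 2, 1, 4, 3, 2, 1, 4, 3, 2, 1, 4, 3, 2, 1, 4, 3, 2, 1, 3, 2, 4, 5, 4, 3, 2, 1, 4, 3, 2, 1, 4, 3, 2, 1, 4, 3, 2, 1, 4, 3, 2, 1, 4, 3, 2, 1, 4, 3, 2, 1, 3, 2, 5, 4, 3, 2, 1, 4, 3, 2, 1, 4, 3, 2, 1, 4, 3, 2, 1, 4, 3, 2, 1, 4, 3, 2, 1, 4, 3, 2, 1, 3, 2, 5, 4, 3, 2, 1, 4, 3, 2, 1, 4, 3, 2, 1, 4, 3, 2, 1, 4, 3, 2, 1, 4, 3, 2, 1, 4, 3, 2, 1, 3, 2, 4, 6, 2, 4, 2, 3, 1, 2, 3, 4, 1, 2, 3, 4, 1, 2, 3, 4, 1, 2, 3, 4, 1, 2, 3, 4, 1, 2, 3, 4, 1, 2, 3, 4, 5, 2, 3, 1, 2, 3, 4, 1, 2, 3, 4, 1, 2, 3, 4, 1, 2, 3, 4, 1, 2, 3, 4, 1, 2, 3, 4, 1, 2, 3, 4, 5, 2, 3, 1, 2, 3, 4, 1, 2, 3, 4, 1, 2, 3, 4, 1, 2, 3, 4, 1, 2, 3, 4, 1, 2, 3, 4, 1, 2, 3, 4, 5, 4, 2, 3, 1, 2, 3, 4, 1, 2, 3, 4, 1, 2, 3, 4, 1, 2, 3,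 4, 1, 2, 3, 4, 1, 2, 3, 4, 1, 2, 3, 4, 5, 2, 3, 1, 2, 3, 4, 1, 2, 3, 4, 1, 2, 3, 4, 1, 2, 3, 4, 1, 2, 3, 4, 1, 2, 3, 4, 1, 2, 3, 4, 5]
noncomputable def act58 (i : Nat) : Nat := col6 (col5 (col4 (col3 (col2 (col1 (col4 (col3 (col2 (col1 (col4 (col3 (col2 (col1 (col4 (col3 (col2 (col1 (col4 (col3 (col2 (col1 (col4 (col3 (col2 (col1 (col4 (col3 (col2 (col1 (col3 (col2 (col5 (col4 (col3 (col2 (col1 (col4 (col3 (col2 (col1 (col4 (col3 (col2 (col1 (col4 (col3 (col2 (col1 (col4 (col3 (col2 (col1 (col4 (col3 (col2 (col1 (col4 (col3 (col2 (col1 (col3 (col2 (col4 (col5 (col4 (col3 (col2 (col1 (col4 (col3 (col2 (col1 (col4 (col3 (col2 (col1 (col4 (col3 (col2 (col1 (col4 (col3 (col2 (col1 (col4 (col3 (col2 (col1 (col4 (col3 (col2 (col1 (col3 (col2 (col5 (col4 (col3 (col2 (col1 (col4 (col3 (col2 (col1 (col4 (col3 (col2 (col1 (col4 (col3 (col2 (col1 (col4 (col3 (col2 (col1 (col4 (col3 (col2 (col1 (col4 (col3 (col2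 (col1 (col3 (col2 (col5 (col4 (col3 (col2 (col1 (col4 (col3 (col2 (col1 (col4 (col3 (col2 (col1 (col4 (col3 (col2 (col1 (col4 (col3 (col2 (col1 (col4 (col3 (col2 (col1 (col4 (col3 (col2 (col1 (col3 (col2 (col4 (col6 (col2 (col4 (col2 (col3 (col1 (col2 (col3 (col4 (col1 (col2 (col3 (col4 (col1 (col2 (col3 (col4 (col1 (col2 (col3 (col4 (col1 (col2 (col3 (col4 (col1 (col2 (col3 (col4 (col1 (col2 (col3 (col4 (col5 (col2 (col3 (col1 (col2 (col3 (col4 (col1 (col2 (col3 (col4 (col1 (col2 (col3 (col4 (col1 (col2 (col3 (col4 (col1 (col2 (col3 (col4 (col1 (col2 (col3 (col4 (col1 (col2 (col3 (col4 (col5 (col2 (col3 (col1 (col2 (col3 (col4 (col1 (col2 (col3 (col4 (col1 (col2 (col3 (col4 (col1 (col2 (col3 (col4 (col1 (col2 (col3 (col4 (col1 (col2 (col3 (col4 (col1 (col2 (col3 (col4 (col5 (col4 (col2 (col3 (col1 (col2 (col3 (col4 (col1 (col2 (col3 (col4 (col1 (col2 (col3 (col4 (col1 (col2 (col3 (col4 (col1 (col2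 (col3 (col4 (col1 (col2 (col3 (col4 (col1 (col2 (col3 (col4 (col5 (col2 (col3 (col1 (col2 (col3 (col4 (col1 (col2 (col3 (col4 (col1 (col2 (col3 (col4 (col1 (col2 (col3 (col4 (col1 (col2 (col3 (col4 (col1 (col2 (col3 (col4 (col1 (col2 (col3 (col4 (col5 (i)))))))))))))))))))))))))))))))))))))))))))))))))))))))))))))))))))))))))))))))))))))))))))))))))))))))))))))))))))))))))))))))))))))))))))))))))))))))))))))))))))))))))))))))))))))))))))))))))))))))))))))))))))))))))))))))))))))))))))))))))))))))))))))))))))))))))))))))))))))))))))))))))))))))))))))))))))))))))))))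
theorem act58_eq (i : Nat) : act58 i = Tab.act T D chk58 i := rfl
theorem c58_0 : allRange (fun i => Nat.beq (act58 i) i) 0 188 = true := by decide +kernel
theorem c58_1 : allRange (fun i => Nat.beq (act58 i) i) 188 188 = true := by decide +kernel
theorem c58_2 : allRange (fun i => Nat.beq (act58 i) i) 376 188 = true := by decide +kernel
theorem c58_3 : allRange (fun i => Nat.beq (act58 i) i) 564 188 = true := by decide +kernel
theorem c58_4 : allRange (fun i => Nat.beq (act58 i) i) 752 188 = true := by decide +kernel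
theorem c58_5 : allRange (fun i => Nat.beq (act58 i) i) 940 188 = true := by decide +kernel
theorem c58_6 : allRange (fun i => Nat.beq (act58 i) i) 1128 188 = true := by decide +kernel
theorem c58_7 : allRange (fun i => Nat.beq (act58 i) i) 1316 188 = true := by decide +kernel
theorem c58_8 : allRange (fun i => Nat.beq (act58 i) i) 1504 188 = true := by decide +kernel
theorem c58_9 : allRange (fun i => Nat.beq (act58 i) i) 1692 188 = true := by decide +kernel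
theorem c58_10 : allRange (fun i => Nat.beq (act58 i) i) 1880 178 = true := by decide +kernel
theorem h58 : ∀ i, i < T.N → Tab.relActOK T D chk58 i = true := by
  intro i hi
  rw [Tab.relActOK, ← act58_eq]
  exact (range_glue (range_of_allRange c58_0) (range_glue (range_of_allRange c58_1) (range_glue (range_of_allRange c58_2) (range_glue (range_of_allRange c58_3) (range_glue (range_of_allRange c58_4) (range_glue (range_of_allRange c58_5) (range_glue (range_of_allRange c58_6) (range_glue (range_of_allRange c58_7) (range_glue (range_of_allRange c58_8) (range_glue (range_of_allRange c58_9) (range_of_allRange c58_10))))))))))) i (Nat.zero_le _) hi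

def chk59 : List Nat := [5, 4, 3, 2, 1, 4, 3, 2, 1, 4, 3, 2, 1, 4, 3, 2, 1, 4, 3, 2, 1, 4, 3, 2, 1, 4, 3, 2, 1, 3, 2, 5, 4, 3, 2, 1, 4, 3, 2, 1, 4, 3, 2, 1, 4, 3, 2, 1, 4, 3, 2, 1, 4, 3, 2, 1, 4, 3, 2, 1, 3, 2, 4, 5, 4, 3, 2, 1, 4, 3, 2, 1, 4, 3, 2, 1, 4, 3, 2, 1, 4, 3, 2, 1, 4, 3, 2, 1, 4, 3, 2, 1, 3, 2, 5, 4, 3, 2, 1, 4, 3, 2, 1, 4, 3, 2, 1, 4, 3, 2, 1, 4, 3, 2, 1, 4, 3, 2, 1, 4, 3, 2, 1, 3, 2, 5, 4, 3, 2, 1, 4, 3, 2, 1, 4, 3, 2, 1, 4, 3, 2, 1, 4, 3, 2, 1, 4, 3, 2, 1, 4, 3, 2, 1, 3, 2, 4, 5, 4, 3, 2, 1, 4, 3, 2, 1, 4, 3, 2, 1, 4, 3, 2, 1, 4, 3, 2, 1, 4, 3, 2, 1, 4, 3, 2, 1, 3, 2, 5, 4, 3, 2, 1, 4, 3, 2, 1, 4, 3, 2, 1, 4, 3, 2, 1, 4, 3, 2, 1, 4, 3, 2, 1, 4, 3, 2, 1, 3, 2, 4, 5, 4, 3, 2, 1, 4, 3, 2, 1, 4, 3, 2, 1, 4, 3, 2, 1, 4, 3, 2, 1, 4, 3, 2, 1, 4, 3, 2, 1, 3, 2, 5, 4, 3, 2, 1, 4, 3, 2, 1, 4, 3, 2, 1, 4, 3, 2, 1, 4, 3, 2, 1, 4, 3, 2, 1, 4, 3, 2, 1, 3, 2, 5, 4, 3, 2, 1, 4, 3, 2, 1, 4, 3, 2, 1, 4,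 3, 2, 1, 4, 3, 2, 1, 4, 3, 2, 1, 4, 3, 2, 1, 3, 2, 4, 5, 4, 3, 2, 1, 4, 3, 2, 1, 4, 3, 2, 1, 4, 3, 2, 1, 4, 3, 2, 1, 4, 3, 2, 1, 4, 3, 2, 1, 3, 2, 5, 4, 3, 2, 1, 4, 3, 2, 1, 4, 3, 2, 1, 4, 3, 2, 1, 4, 3, 2, 1, 4, 3, 2, 1, 4, 3, 2, 1, 3, 2, 4, 5, 4, 3, 2, 1, 4, 3, 2, 1, 4, 3, 2, 1, 4, 3, 2, 1, 4, 3, 2, 1, 4, 3, 2, 1, 4, 3, 2, 1, 3, 2, 5, 4, 3, 2, 1, 4, 3, 2, 1, 4, 3, 2, 1, 4, 3, 2, 1, 4, 3, 2, 1, 4, 3, 2, 1, 4, 3, 2, 1, 3, 2, 5, 4, 3, 2, 1, 4, 3, 2, 1, 4, 3, 2, 1, 4, 3, 2, 1, 4, 3, 2, 1, 4, 3, 2, 1, 4, 3, 2, 1, 3, 2, 4]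
noncomputable def act59 (i : Nat) : Nat := col5 (col4 (col3 (col2 (col1 (col4 (col3 (col2 (col1 (col4 (col3 (col2 (col1 (col4 (col3 (col2 (col1 (col4 (col3 (col2 (col1 (col4 (col3 (col2 (col1 (col4 (col3 (col2 (col1 (col3 (col2 (col5 (col4 (col3 (col2 (col1 (col4 (col3 (col2 (col1 (col4 (col3 (col2 (col1 (col4 (col3 (col2 (col1 (col4 (col3 (col2 (col1 (col4 (col3 (col2 (col1 (col4 (col3 (col2 (col1 (col3 (col2 (col4 (col5 (col4 (col3 (col2 (col1 (col4 (col3 (col2 (col1 (col4 (col3 (col2 (col1 (col4 (col3 (col2 (col1 (col4 (col3 (col2 (col1 (col4 (col3 (col2 (col1 (col4 (col3 (col2 (col1 (col3 (col2 (col5 (col4 (col3 (col2 (col1 (col4 (col3 (col2 (col1 (col4 (col3 (col2 (col1 (col4 (col3 (col2 (col1 (col4 (col3 (col2 (col1 (col4 (col3 (col2 (col1 (col4 (col3 (col2 (col1 (col3 (col2 (col5 (col4 (col3 (col2 (col1 (col4 (col3 (col2 (col1 (col4 (col3 (col2 (col1 (col4 (col3 (col2 (col1 (col4 (col3 (col2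 (col1 (col4 (col3 (col2 (col1 (col4 (col3 (col2 (col1 (col3 (col2 (col4 (col5 (col4 (col3 (col2 (col1 (col4 (col3 (col2 (col1 (col4 (col3 (col2 (col1 (col4 (col3 (col2 (col1 (col4 (col3 (col2 (col1 (col4 (col3 (col2 (col1 (col4 (col3 (col2 (col1 (col3 (col2 (col5 (col4 (col3 (col2 (col1 (col4 (col3 (col2 (col1 (col4 (col3 (col2 (col1 (col4 (col3 (col2 (col1 (col4 (col3 (col2 (col1 (col4 (col3 (col2 (col1 (col4 (col3 (col2 (col1 (col3 (col2 (col4 (col5 (col4 (col3 (col2 (col1 (col4 (col3 (col2 (col1 (col4 (col3 (col2 (col1 (col4 (col3 (col2 (col1 (col4 (col3 (col2 (col1 (col4 (col3 (col2 (col1 (col4 (col3 (col2 (col1 (col3 (col2 (col5 (col4 (col3 (col2 (col1 (col4 (col3 (col2 (col1 (col4 (col3 (col2 (col1 (col4 (col3 (col2 (col1 (col4 (col3 (col2 (col1 (col4 (col3 (col2 (col1 (col4 (col3 (col2 (col1 (col3 (col2 (col5 (col4 (col3 (col2 (col1 (col4 (col3 (col2 (col1 (col4 (col3 (col2 (col1 (col4 (col3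 (col2 (col1 (col4 (col3 (col2 (col1 (col4 (col3 (col2 (col1 (col4 (col3 (col2 (col1 (col3 (col2 (col4 (col5 (col4 (col3 (col2 (col1 (col4 (col3 (col2 (col1 (col4 (col3 (col2 (col1 (col4 (col3 (col2 (col1 (col4 (col3 (col2 (col1 (col4 (col3 (col2 (col1 (col4 (col3 (col2 (col1 (col3 (col2 (col5 (col4 (col3 (col2 (col1 (col4 (col3 (col2 (col1 (col4 (col3 (col2 (col1 (col4 (col3 (col2 (col1 (col4 (col3 (col2 (col1 (col4 (col3 (col2 (col1 (col4 (col3 (col2 (col1 (col3 (col2 (col4 (col5 (col4 (col3 (col2 (col1 (col4 (col3 (col2 (col1 (col4 (col3 (col2 (col1 (col4 (col3 (col2 (col1 (col4 (col3 (col2 (col1 (col4 (col3 (col2 (col1 (col4 (col3 (col2 (col1 (col3 (col2 (col5 (col4 (col3 (col2 (col1 (col4 (col3 (col2 (col1 (col4 (col3 (col2 (col1 (col4 (col3 (col2 (col1 (col4 (col3 (col2 (col1 (col4 (col3 (col2 (col1 (col4 (col3 (col2 (col1 (col3 (col2 (col5 (col4 (col3 (col2 (col1 (col4 (col3 (col2 (col1 (col4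 (col3 (col2 (col1 (col4 (col3 (col2 (col1 (col4 (col3 (col2 (col1 (col4 (col3 (col2 (col1 (col4 (col3 (col2 (col1 (col3 (col2 (col4 (i)))))))))))))))))))))))))))))))))))))))))))))))))))))))))))))))))))))))))))))))))))))))))))))))))))))))))))))))))))))))))))))))))))))))))))))))))))))))))))))))))))))))))))))))))))))))))))))))))))))))))))))))))))))))))))))))))))))))))))))))))))))))))))))))))))))))))))))))))))))))))))))))))))))))))))))))))))))))))))))))))))))))))))))))))))))))))))))))))))))))))))))))))))))))))))))))))))))))))))))))))))))))))))))))))))))))))))))))))))))))))))))))))))))))))))))))))))))))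
theorem act59_eq (i : Nat) : act59 i = Tab.act T D chk59 i := rfl
theorem c59_0 : allRange (fun i => Nat.beq (act59 i) i) 0 126 = true := by decide +kernel
theorem c59_1 : allRange (fun i => Nat.beq (act59 i) i) 126 126 = true := by decide +kernel
theorem c59_2 : allRange (fun i => Nat.beq (act59 i) i) 252 126 = true := by decide +kernel
theorem c59_3 : allRange (fun i => Nat.beq (act59 i) i) 378 126 = true := by decide +kernel
theorem c59_4 : allRange (fun i => Nat.beq (act59 i) i) 504 126 = true := by decide +kernel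
theorem c59_5 : allRange (fun i => Nat.beq (act59 i) i) 630 126 = true := by decide +kernel
theorem c59_6 : allRange (fun i => Nat.beq (act59 i) i) 756 126 = true := by decide +kernel
theorem c59_7 : allRange (fun i => Nat.beq (act59 i) i) 882 126 = true := by decide +kernel
theorem c59_8 : allRange (fun i => Nat.beq (act59 i) i) 1008 126 = true := by decide +kernel
theorem c59_9 : allRange (fun i => Nat.beq (act59 i) i) 1134 126 = true := by decide +kernel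
theorem c59_10 : allRange (fun i => Nat.beq (act59 i) i) 1260 126 = true := by decide +kernel
theorem c59_11 : allRange (fun i => Nat.beq (act59 i) i) 1386 126 = true := by decide +kernel
theorem c59_12 : allRange (fun i => Nat.beq (act59 i) i) 1512 126 = true := by decide +kernel
theorem c59_13 : allRange (fun i => Nat.beq (act59 i) i) 1638 126 = true := by decide +kernel
theorem c59_14 : allRange (fun i => Nat.beq (act59 i) i) 1764 126 = true := by decide +kernel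
theorem c59_15 : allRange (fun i => Nat.beq (act59 i) i) 1890 126 = true := by decide +kernel
theorem c59_16 : allRange (fun i => Nat.beq (act59 i) i) 2016 42 = true := by decide +kernel
theorem h59 : ∀ i, i < T.N → Tab.relActOK T D chk59 i = true := by
  intro i hi
  rw [Tab.relActOK, ← act59_eq]
  exact (range_glue (range_of_allRange c59_0) (range_glue (range_of_allRange c59_1) (range_glue (range_of_allRange c59_2) (range_glue (range_of_allRange c59_3) (range_glue (range_of_allRange c59_4) (range_glue (range_of_allRange c59_5) (range_glue (range_of_allRange c59_6) (range_glue (range_of_allRange c59_7) (range_glue (range_of_allRange c59_8) (range_glue (range_of_allRange c59_9) (range_glue (range_of_allRange c59_10) (range_glue (range_of_allRange c59_11) (range_glue (range_of_allRange c59_12) (range_glue (range_of_allRange c59_13) (range_glue (range_of_allRange c59_14) (range_glue (range_of_allRange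 c59_15) (range_of_allRange c59_16))))))))))))))))) i (Nat.zero_le _) hi

def chk60 : List Nat := [5, 4, 3, 2, 1, 4, 3, 2, 1, 4, 3, 2, 1, 4, 3, 2, 1, 4, 3, 2, 1, 4, 3, 2, 1, 4, 3, 2, 1, 3, 2, 5, 4, 3, 2, 1, 4, 3, 2, 1, 4, 3, 2, 1, 4, 3, 2, 1, 4, 3, 2, 1, 4, 3, 2, 1, 4, 3, 2, 1, 3, 2, 4, 5, 4, 3, 2, 1, 4, 3, 2, 1, 4, 3, 2, 1, 4, 3, 2, 1, 4, 3, 2, 1, 4, 3, 2, 1, 4, 3, 2, 1, 3, 2, 5, 4, 3, 2, 1, 4, 3, 2, 1, 4, 3, 2, 1, 4, 3, 2, 1, 4, 3, 2, 1, 4, 3, 2, 1, 4, 3, 2, 1, 3, 2, 5, 4, 3, 2, 1, 4, 3, 2, 1, 4, 3, 2, 1, 4, 3, 2, 1, 4, 3, 2, 1, 4, 3, 2, 1, 4, 3, 2, 1, 3, 2, 4, 2, 5, 4, 3, 2, 1, 4, 3, 2, 1, 4, 3, 2, 1, 4, 3, 2, 1, 4, 3, 2, 1, 4, 3, 2, 1, 4, 3, 2, 1, 3, 2, 5, 4, 3, 2, 1, 4, 3, 2, 1, 4, 3, 2, 1, 4, 3, 2, 1, 4, 3, 2, 1, 4, 3, 2, 1, 4, 3, 2, 1, 3, 2, 4, 5, 4, 3, 2, 1, 4, 3, 2, 1, 4, 3, 2, 1, 4, 3, 2, 1, 4, 3, 2, 1, 4, 3, 2, 1, 4, 3, 2, 1, 3, 2, 5, 4, 3, 2, 1, 4, 3, 2, 1, 4, 3, 2, 1, 4, 3, 2, 1, 4, 3, 2,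 1, 4, 3, 2, 1, 4, 3, 2, 1, 3, 2, 5, 4, 3, 2, 1, 4, 3, 2, 1, 4, 3, 2, 1, 4, 3, 2, 1, 4, 3, 2, 1, 4, 3, 2, 1, 4, 3, 2, 1, 3, 2, 4, 2, 5, 4, 3, 2, 1, 4, 3, 2, 1, 4, 3, 2, 1, 4, 3, 2, 1, 4, 3, 2, 1, 4, 3, 2, 1, 4, 3, 2, 1, 3, 2, 5, 4, 3, 2, 1, 4, 3, 2, 1, 4, 3, 2, 1, 4, 3, 2, 1, 4, 3, 2, 1, 4, 3, 2, 1, 4, 3, 2, 1, 3, 2, 4, 5, 4, 3, 2, 1, 4, 3, 2, 1, 4, 3, 2, 1, 4, 3, 2, 1, 4, 3, 2, 1, 4, 3, 2, 1, 4, 3, 2, 1, 3, 2, 5, 4, 3, 2, 1, 4, 3, 2, 1, 4, 3, 2, 1, 4, 3, 2, 1, 4, 3, 2, 1, 4, 3, 2, 1, 4, 3, 2, 1, 3, 2, 5, 4, 3, 2, 1, 4, 3, 2, 1, 4, 3, 2, 1, 4, 3, 2, 1, 4, 3, 2, 1, 4, 3, 2, 1, 4, 3, 2, 1, 3, 2, 4, 2]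
noncomputable def act60 (i : Nat) : Nat := col5 (col4 (col3 (col2 (col1 (col4 (col3 (col2 (col1 (col4 (col3 (col2 (col1 (col4 (col3 (col2 (col1 (col4 (col3 (col2 (col1 (col4 (col3 (col2 (col1 (col4 (col3 (col2 (col1 (col3 (col2 (col5 (col4 (col3 (col2 (col1 (col4 (col3 (col2 (col1 (col4 (col3 (col2 (col1 (col4 (col3 (col2 (col1 (col4 (col3 (col2 (col1 (col4 (col3 (col2 (col1 (col4 (col3 (col2 (col1 (col3 (col2 (col4 (col5 (col4 (col3 (col2 (col1 (col4 (col3 (col2 (col1 (col4 (col3 (col2 (col1 (col4 (col3 (col2 (col1 (col4 (col3 (col2 (col1 (col4 (col3 (col2 (col1 (col4 (col3 (col2 (col1 (col3 (col2 (col5 (col4 (col3 (col2 (col1 (col4 (col3 (col2 (col1 (col4 (col3 (col2 (col1 (col4 (col3 (col2 (col1 (col4 (col3 (col2 (col1 (col4 (col3 (col2 (col1 (col4 (col3 (col2 (col1 (col3 (col2 (col5 (col4 (col3 (col2 (col1 (col4 (col3 (col2 (col1 (col4 (col3 (col2 (col1 (col4 (col3 (col2 (col1 (col4 (col3 (col2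 (col1 (col4 (col3 (col2 (col1 (col4 (col3 (col2 (col1 (col3 (col2 (col4 (col2 (col5 (col4 (col3 (col2 (col1 (col4 (col3 (col2 (col1 (col4 (col3 (col2 (col1 (col4 (col3 (col2 (col1 (col4 (col3 (col2 (col1 (col4 (col3 (col2 (col1 (col4 (col3 (col2 (col1 (col3 (col2 (col5 (col4 (col3 (col2 (col1 (col4 (col3 (col2 (col1 (col4 (col3 (col2 (col1 (col4 (col3 (col2 (col1 (col4 (col3 (col2 (col1 (col4 (col3 (col2 (col1 (col4 (col3 (col2 (col1 (col3 (col2 (col4 (col5 (col4 (col3 (col2 (col1 (col4 (col3 (col2 (col1 (col4 (col3 (col2 (col1 (col4 (col3 (col2 (col1 (col4 (col3 (col2 (col1 (col4 (col3 (col2 (col1 (col4 (col3 (col2 (col1 (col3 (col2 (col5 (col4 (col3 (col2 (col1 (col4 (col3 (col2 (col1 (col4 (col3 (col2 (col1 (col4 (col3 (col2 (col1 (col4 (col3 (col2 (col1 (col4 (col3 (col2 (col1 (col4 (col3 (col2 (col1 (col3 (col2 (col5 (col4 (col3 (col2 (col1 (col4 (col3 (col2 (col1 (col4 (col3 (col2 (col1 (col4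 (col3 (col2 (col1 (col4 (col3 (col2 (col1 (col4 (col3 (col2 (col1 (col4 (col3 (col2 (col1 (col3 (col2 (col4 (col2 (col5 (col4 (col3 (col2 (col1 (col4 (col3 (col2 (col1 (col4 (col3 (col2 (col1 (col4 (col3 (col2 (col1 (col4 (col3 (col2 (col1 (col4 (col3 (col2 (col1 (col4 (col3 (col2 (col1 (col3 (col2 (col5 (col4 (col3 (col2 (col1 (col4 (col3 (col2 (col1 (col4 (col3 (col2 (col1 (col4 (col3 (col2 (col1 (col4 (col3 (col2 (col1 (col4 (col3 (col2 (col1 (col4 (col3 (col2 (col1 (col3 (col2 (col4 (col5 (col4 (col3 (col2 (col1 (col4 (col3 (col2 (col1 (col4 (col3 (col2 (col1 (col4 (col3 (col2 (col1 (col4 (col3 (col2 (col1 (col4 (col3 (col2 (col1 (col4 (col3 (col2 (col1 (col3 (col2 (col5 (col4 (col3 (col2 (col1 (col4 (col3 (col2 (col1 (col4 (col3 (col2 (col1 (col4 (col3 (col2 (col1 (col4 (col3 (col2 (col1 (col4 (col3 (col2 (col1 (col4 (col3 (col2 (col1 (col3 (col2 (col5 (col4 (col3 (col2 (col1 (col4 (col3 (col2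 (col1 (col4 (col3 (col2 (col1 (col4 (col3 (col2 (col1 (col4 (col3 (col2 (col1 (col4 (col3 (col2 (col1 (col4 (col3 (col2 (col1 (col3 (col2 (col4 (col2 (i))))))))))))))))))))))))))))))))))))))))))))))))))))))))))))))))))))))))))))))))))))))))))))))))))))))))))))))))))))))))))))))))))))))))))))))))))))))))))))))))))))))))))))))))))))))))))))))))))))))))))))))))))))))))))))))))))))))))))))))))))))))))))))))))))))))))))))))))))))))))))))))))))))))))))))))))))))))))))))))))))))))))))))))))))))))))))))))))))))))))))))))))))))))))))))))))))))))))))))))))))))))))))))))))))))))))))))))))))))))))))))))))))))))))))))))))))))))))))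
theorem act60_eq (i : Nat) : act60 i = Tab.act T D chk60 i := rfl
theorem c60_0 : allRange (fun i => Nat.beq (act60 i) i) 0 126 = true := by decide +kernel
theorem c60_1 : allRange (fun i => Nat.beq (act60 i) i) 126 126 = true := by decide +kernel
theorem c60_2 : allRange (fun i => Nat.beq (act60 i) i) 252 126 = true := by decide +kernel
theorem c60_3 : allRange (fun i => Nat.beq (act60 i) i) 378 126 = true := by decide +kernel
theorem c60_4 : allRange (fun i => Nat.beq (act60 i) i) 504 126 = true := by decide +kernel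
theorem c60_5 : allRange (fun i => Nat.beq (act60 i) i) 630 126 = true := by decide +kernel
theorem c60_6 : allRange (fun i => Nat.beq (act60 i) i) 756 126 = true := by decide +kernel
theorem c60_7 : allRange (fun i => Nat.beq (act60 i) i) 882 126 = true := by decide +kernel
theorem c60_8 : allRange (fun i => Nat.beq (act60 i) i) 1008 126 = true := by decide +kernel
theorem c60_9 : allRange (fun i => Nat.beq (act60 i) i) 1134 126 = true := by decide +kernel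
theorem c60_10 : allRange (fun i => Nat.beq (act60 i) i) 1260 126 = true := by decide +kernel
theorem c60_11 : allRange (fun i => Nat.beq (act60 i) i) 1386 126 = true := by decide +kernel
theorem c60_12 : allRange (fun i => Nat.beq (act60 i) i) 1512 126 = true := by decide +kernel
theorem c60_13 : allRange (fun i => Nat.beq (act60 i) i) 1638 126 = true := by decide +kernel
theorem c60_14 : allRange (fun i => Nat.beq (act60 i) i) 1764 126 = true := by decide +kernel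
theorem c60_15 : allRange (fun i => Nat.beq (act60 i) i) 1890 126 = true := by decide +kernel
theorem c60_16 : allRange (fun i => Nat.beq (act60 i) i) 2016 42 = true := by decide +kernel
theorem h60 : ∀ i, i < T.N → Tab.relActOK T D chk60 i = true := by
  intro i hi
  rw [Tab.relActOK, ← act60_eq]
  exact (range_glue (range_of_allRange c60_0) (range_glue (range_of_allRange c60_1) (range_glue (range_of_allRange c60_2) (range_glue (range_of_allRange c60_3) (range_glue (range_of_allRange c60_4) (range_glue (range_of_allRange c60_5) (range_glue (range_of_allRange c60_6) (range_glue (range_of_allRange c60_7) (range_glue (range_of_allRange c60_8) (range_glue (range_of_allRange c60_9) (range_glue (range_of_allRange c60_10) (range_glue (range_of_allRange c60_11) (range_glue (range_of_allRange c60_12) (range_glue (range_of_allRange c60_13) (range_glue (range_of_allRange c60_14) (range_glue (range_of_allRange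 c60_15) (range_of_allRange c60_16))))))))))))))))) i (Nat.zero_le _) hi

def chk61 : List Nat := [6, 2, 3, 1, 2, 3, 4, 1, 2, 3, 4, 1, 2, 3, 4, 1, 2, 3, 4, 1, 2, 3, 4, 1, 2, 3, 4, 1, 2, 3, 4, 5, 2, 3, 1, 2, 3, 4, 1, 2, 3, 4, 1, 2, 3, 4, 1, 2, 3, 4, 1, 2, 3, 4, 1, 2, 3, 4, 1, 2, 3, 4, 5, 4, 2, 3, 1, 2, 3, 4, 1, 2, 3, 4, 1, 2, 3, 4, 1, 2, 3, 4, 1, 2, 3, 4, 1, 2, 3, 4, 1, 2, 3, 4, 5, 2, 3, 1, 2, 3, 4, 1, 2, 3, 4, 1, 2, 3, 4, 1, 2, 3, 4, 1, 2, 3, 4, 1, 2, 3, 4, 1, 2, 3, 4, 5, 2, 3, 1, 2, 3, 4, 1, 2, 3, 4, 1, 2, 3, 4, 1, 2, 3, 4, 1, 2, 3, 4, 1, 2, 3, 4, 1, 2, 3, 4, 5, 4, 2, 6, 5, 4, 3, 2, 1, 4, 3, 2, 1, 4, 3, 2, 1, 4, 3, 2, 1, 4, 3, 2, 1, 4, 3, 2, 1, 4, 3, 2, 1, 3, 2, 5, 4, 3, 2, 1, 4, 3, 2, 1, 4, 3, 2, 1, 4, 3, 2, 1, 4, 3, 2, 1, 4, 3, 2, 1, 4, 3, 2, 1, 3, 2, 5, 4, 3, 2, 1, 4, 3, 2, 1, 4, 3, 2, 1, 4, 3, 2, 1, 4, 3, 2, 1, 4, 3, 2, 1, 4, 3, 2, 1, 3, 2, 4, 5, 4, 3, 2, 1, 4, 3, 2, 1, 4, 3, 2, 1, 4, 3, 2, 1, 4,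 3, 2, 1, 4, 3, 2, 1, 4, 3, 2, 1, 3, 2, 5, 4, 3, 2, 1, 4, 3, 2, 1, 4, 3, 2, 1, 4, 3, 2, 1, 4, 3, 2, 1, 4, 3, 2, 1, 4, 3, 2, 1, 3, 2, 4]
noncomputable def act61 (i : Nat) : Nat := col6 (col2 (col3 (col1 (col2 (col3 (col4 (col1 (col2 (col3 (col4 (col1 (col2 (col3 (col4 (col1 (col2 (col3 (col4 (col1 (col2 (col3 (col4 (col1 (col2 (col3 (col4 (col1 (col2 (col3 (col4 (col5 (col2 (col3 (col1 (col2 (col3 (col4 (col1 (col2 (col3 (col4 (col1 (col2 (col3 (col4 (col1 (col2 (col3 (col4 (col1 (col2 (col3 (col4 (col1 (col2 (col3 (col4 (col1 (col2 (col3 (col4 (col5 (col4 (col2 (col3 (col1 (col2 (col3 (col4 (col1 (col2 (col3 (col4 (col1 (col2 (col3 (col4 (col1 (col2 (col3 (col4 (col1 (col2 (col3 (col4 (col1 (col2 (col3 (col4 (col1 (col2 (col3 (col4 (col5 (col2 (col3 (col1 (col2 (col3 (col4 (col1 (col2 (col3 (col4 (col1 (col2 (col3 (col4 (col1 (col2 (col3 (col4 (col1 (col2 (col3 (col4 (col1 (col2 (col3 (col4 (col1 (col2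 (col3 (col4 (col5 (col2 (col3 (col1 (col2 (col3 (col4 (col1 (col2 (col3 (col4 (col1 (col2 (col3 (col4 (col1 (col2 (col3 (col4 (col1 (col2 (col3 (col4 (col1 (col2 (col3 (col4 (col1 (col2 (col3 (col4 (col5 (col4 (col2 (col6 (col5 (col4 (col3 (col2 (col1 (col4 (col3 (col2 (col1 (col4 (col3 (col2 (col1 (col4 (col3 (col2 (col1 (col4 (col3 (col2 (col1 (col4 (col3 (col2 (col1 (col4 (col3 (col2 (col1 (col3 (col2 (col5 (col4 (col3 (col2 (col1 (col4 (col3 (col2 (col1 (col4 (col3 (col2 (col1 (col4 (col3 (col2 (col1 (col4 (col3 (col2 (col1 (col4 (col3 (col2 (col1 (col4 (col3 (col2 (col1 (col3 (col2 (col5 (col4 (col3 (col2 (col1 (col4 (col3 (col2 (col1 (col4 (col3 (col2 (col1 (col4 (col3 (col2 (col1 (col4 (col3 (col2 (col1 (col4 (col3 (col2 (col1 (col4 (col3 (col2 (col1 (col3 (col2 (col4 (col5 (col4 (col3 (col2 (col1 (col4 (col3 (col2 (col1 (col4 (col3 (col2 (col1 (col4 (col3 (col2 (col1 (col4 (col3 (col2 (col1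 (col4 (col3 (col2 (col1 (col4 (col3 (col2 (col1 (col3 (col2 (col5 (col4 (col3 (col2 (col1 (col4 (col3 (col2 (col1 (col4 (col3 (col2 (col1 (col4 (col3 (col2 (col1 (col4 (col3 (col2 (col1 (col4 (col3 (col2 (col1 (col4 (col3 (col2 (col1 (col3 (col2 (col4 (i)))))))))))))))))))))))))))))))))))))))))))))))))))))))))))))))))))))))))))))))))))))))))))))))))))))))))))))))))))))))))))))))))))))))))))))))))))))))))))))))))))))))))))))))))))))))))))))))))))))))))))))))))))))))))))))))))))))))))))))))))))))))))))))))))))))))))))))))))))))))))))))))))))))))))))))))))))))))))))))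
theorem act61_eq (i : Nat) : act61 i = Tab.act T D chk61 i := rfl
theorem c61_0 : allRange (fun i => Nat.beq (act61 i) i) 0 188 = true := by decide +kernel
theorem c61_1 : allRange (fun i => Nat.beq (act61 i) i) 188 188 = true := by decide +kernel
theorem c61_2 : allRange (fun i => Nat.beq (act61 i) i) 376 188 = true := by decide +kernel
theorem c61_3 : allRange (fun i => Nat.beq (act61 i) i) 564 188 = true := by decide +kernel
theorem c61_4 : allRange (fun i => Nat.beq (act61 i) i) 752 188 = true := by decide +kernel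
theorem c61_5 : allRange (fun i => Nat.beq (act61 i) i) 940 188 = true := by decide +kernel
theorem c61_6 : allRange (fun i => Nat.beq (act61 i) i) 1128 188 = true := by decide +kernel
theorem c61_7 : allRange (fun i => Nat.beq (act61 i) i) 1316 188 = true := by decide +kernel
theorem c61_8 : allRange (fun i => Nat.beq (act61 i) i) 1504 188 = true := by decide +kernel
theorem c61_9 : allRange (fun i => Nat.beq (act61 i) i) 1692 188 = true := by decide +kernel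
theorem c61_10 : allRange (fun i => Nat.beq (act61 i) i) 1880 178 = true := by decide +kernel
theorem h61 : ∀ i, i < T.N → Tab.relActOK T D chk61 i = true := by
  intro i hi
  rw [Tab.relActOK, ← act61_eq]
  exact (range_glue (range_of_allRange c61_0) (range_glue (range_of_allRange c61_1) (range_glue (range_of_allRange c61_2) (range_glue (range_of_allRange c61_3) (range_glue (range_of_allRange c61_4) (range_glue (range_of_allRange c61_5) (range_glue (range_of_allRange c61_6) (range_glue (range_of_allRange c61_7) (range_glue (range_of_allRange c61_8) (range_glue (range_of_allRange c61_9) (range_of_allRange c61_10))))))))))) i (Nat.zero_le _) hi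

def chk62 : List Nat := [2, 3, 1, 2, 3, 4, 1, 2, 3, 4, 1, 2, 3, 4, 1, 2, 3, 4, 1, 2, 3, 4, 1, 2, 3, 4, 1, 2, 3, 4, 5, 2, 3, 1, 2, 3, 4, 1, 2, 3, 4, 1, 2, 3, 4, 1, 2, 3, 4, 1, 2, 3, 4, 1, 2, 3, 4, 1, 2, 3, 4, 5, 4, 2, 3, 1, 2, 3, 4, 1, 2, 3, 4, 1, 2, 3, 4, 1, 2, 3, 4, 1, 2, 3, 4, 1, 2, 3, 4, 1, 2, 3, 4, 5, 2, 3, 1, 2, 3, 4, 1, 2, 3, 4, 1, 2, 3, 4, 1, 2, 3, 4, 1, 2, 3, 4, 1, 2, 3, 4, 1, 2, 3, 4, 5, 2, 3, 1, 2, 3, 4, 1, 2, 3, 4, 1, 2, 3, 4, 1, 2, 3, 4, 1, 2, 3, 4, 1, 2, 3, 4, 1, 2, 3, 4, 5, 4, 2, 2, 3, 1, 2, 3, 4, 1, 2, 3, 4, 1, 2, 3, 4, 1, 2, 3, 4, 1, 2, 3, 4, 1, 2, 3, 4, 1, 2, 3, 4, 5, 2, 3, 1, 2, 3, 4, 1, 2, 3, 4, 1, 2, 3, 4, 1, 2, 3, 4, 1, 2, 3, 4, 1, 2, 3, 4, 1, 2, 3, 4, 5, 4, 2, 3, 1, 2, 3, 4, 1, 2, 3, 4, 1, 2, 3, 4, 1, 2, 3, 4, 1, 2, 3, 4, 1, 2, 3, 4, 1, 2, 3, 4, 5, 2, 3, 1, 2, 3, 4, 1, 2, 3, 4, 1, 2, 3, 4, 1, 2, 3, 4, 1, 2, 3, 4, 1, 2, 3, 4, 1, 2, 3, 4, 5, 2, 3, 1, 2, 3, 4, 1, 2, 3, 4, 1, 2, 3,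 4, 1, 2, 3, 4, 1, 2, 3, 4, 1, 2, 3, 4, 1, 2, 3, 4, 5, 4, 2, 2, 3, 1, 2, 3, 4, 1, 2, 3, 4, 1, 2, 3, 4, 1, 2, 3, 4, 1, 2, 3, 4, 1, 2, 3, 4, 1, 2, 3, 4, 5, 2, 3, 1, 2, 3, 4, 1, 2, 3, 4, 1, 2, 3, 4, 1, 2, 3, 4, 1, 2, 3, 4, 1, 2, 3, 4, 1, 2, 3, 4, 5, 4, 2, 3, 1, 2, 3, 4, 1, 2, 3, 4, 1, 2, 3, 4, 1, 2, 3, 4, 1, 2, 3, 4, 1, 2, 3, 4, 1, 2, 3, 4, 5, 2, 3, 1, 2, 3, 4, 1, 2, 3, 4, 1, 2, 3, 4, 1, 2, 3, 4, 1, 2, 3, 4, 1, 2, 3, 4, 1, 2, 3, 4, 5, 2, 3, 1, 2, 3, 4, 1, 2, 3, 4, 1, 2, 3, 4, 1, 2, 3, 4, 1, 2, 3, 4, 1, 2, 3, 4, 1, 2, 3, 4, 5, 4, 2]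
noncomputable def act62 (i : Nat) : Nat := col2 (col3 (col1 (col2 (col3 (col4 (col1 (col2 (col3 (col4 (col1 (col2 (col3 (col4 (col1 (col2 (col3 (col4 (col1 (col2 (col3 (col4 (col1 (col2 (col3 (col4 (col1 (col2 (col3 (col4 (col5 (col2 (col3 (col1 (col2 (col3 (col4 (col1 (col2 (col3 (col4 (col1 (col2 (col3 (col4 (col1 (col2 (col3 (col4 (col1 (col2 (col3 (col4 (col1 (col2 (col3 (col4 (col1 (col2 (col3 (col4 (col5 (col4 (col2 (col3 (col1 (col2 (col3 (col4 (col1 (col2 (col3 (col4 (col1 (col2 (col3 (col4 (col1 (col2 (col3 (col4 (col1 (col2 (col3 (col4 (col1 (col2 (col3 (col4 (col1 (col2 (col3 (col4 (col5 (col2 (col3 (col1 (col2 (col3 (col4 (col1 (col2 (col3 (col4 (col1 (col2 (col3 (col4 (col1 (col2 (col3 (col4 (col1 (col2 (col3 (col4 (col1 (col2 (col3 (col4 (col1 (col2 (col3 (col4 (col5 (col2 (col3 (col1 (col2 (col3 (col4 (col1 (col2 (col3 (col4 (col1 (col2 (col3 (col4 (col1 (col2 (col3 (col4 (col1 (col2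 (col3 (col4 (col1 (col2 (col3 (col4 (col1 (col2 (col3 (col4 (col5 (col4 (col2 (col2 (col3 (col1 (col2 (col3 (col4 (col1 (col2 (col3 (col4 (col1 (col2 (col3 (col4 (col1 (col2 (col3 (col4 (col1 (col2 (col3 (col4 (col1 (col2 (col3 (col4 (col1 (col2 (col3 (col4 (col5 (col2 (col3 (col1 (col2 (col3 (col4 (col1 (col2 (col3 (col4 (col1 (col2 (col3 (col4 (col1 (col2 (col3 (col4 (col1 (col2 (col3 (col4 (col1 (col2 (col3 (col4 (col1 (col2 (col3 (col4 (col5 (col4 (col2 (col3 (col1 (col2 (col3 (col4 (col1 (col2 (col3 (col4 (col1 (col2 (col3 (col4 (col1 (col2 (col3 (col4 (col1 (col2 (col3 (col4 (col1 (col2 (col3 (col4 (col1 (col2 (col3 (col4 (col5 (col2 (col3 (col1 (col2 (col3 (col4 (col1 (col2 (col3 (col4 (col1 (col2 (col3 (col4 (col1 (col2 (col3 (col4 (col1 (col2 (col3 (col4 (col1 (col2 (col3 (col4 (col1 (col2 (col3 (col4 (col5 (col2 (col3 (col1 (col2 (col3 (col4 (col1 (col2 (col3 (col4 (col1 (col2 (col3 (col4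 (col1 (col2 (col3 (col4 (col1 (col2 (col3 (col4 (col1 (col2 (col3 (col4 (col1 (col2 (col3 (col4 (col5 (col4 (col2 (col2 (col3 (col1 (col2 (col3 (col4 (col1 (col2 (col3 (col4 (col1 (col2 (col3 (col4 (col1 (col2 (col3 (col4 (col1 (col2 (col3 (col4 (col1 (col2 (col3 (col4 (col1 (col2 (col3 (col4 (col5 (col2 (col3 (col1 (col2 (col3 (col4 (col1 (col2 (col3 (col4 (col1 (col2 (col3 (col4 (col1 (col2 (col3 (col4 (col1 (col2 (col3 (col4 (col1 (col2 (col3 (col4 (col1 (col2 (col3 (col4 (col5 (col4 (col2 (col3 (col1 (col2 (col3 (col4 (col1 (col2 (col3 (col4 (col1 (col2 (col3 (col4 (col1 (col2 (col3 (col4 (col1 (col2 (col3 (col4 (col1 (col2 (col3 (col4 (col1 (col2 (col3 (col4 (col5 (col2 (col3 (col1 (col2 (col3 (col4 (col1 (col2 (col3 (col4 (col1 (col2 (col3 (col4 (col1 (col2 (col3 (col4 (col1 (col2 (col3 (col4 (col1 (col2 (col3 (col4 (col1 (col2 (col3 (col4 (col5 (col2 (col3 (col1 (col2 (col3 (col4 (col1 (col2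 (col3 (col4 (col1 (col2 (col3 (col4 (col1 (col2 (col3 (col4 (col1 (col2 (col3 (col4 (col1 (col2 (col3 (col4 (col1 (col2 (col3 (col4 (col5 (col4 (col2 (i))))))))))))))))))))))))))))))))))))))))))))))))))))))))))))))))))))))))))))))))))))))))))))))))))))))))))))))))))))))))))))))))))))))))))))))))))))))))))))))))))))))))))))))))))))))))))))))))))))))))))))))))))))))))))))))))))))))))))))))))))))))))))))))))))))))))))))))))))))))))))))))))))))))))))))))))))))))))))))))))))))))))))))))))))))))))))))))))))))))))))))))))))))))))))))))))))))))))))))))))))))))))))))))))))))))))))))))))))))))))))))))))))))))))))))))))))))))))))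
theorem act62_eq (i : Nat) : act62 i = Tab.act T D chk62 i := rfl
theorem c62_0 : allRange (fun i => Nat.beq (act62 i) i) 0 126 = true := by decide +kernel
theorem c62_1 : allRange (fun i => Nat.beq (act62 i) i) 126 126 = true := by decide +kernel
theorem c62_2 : allRange (fun i => Nat.beq (act62 i) i) 252 126 = true := by decide +kernel
theorem c62_3 : allRange (fun i => Nat.beq (act62 i) i) 378 126 = true := by decide +kernel
theorem c62_4 : allRange (fun i => Nat.beq (act62 i) i) 504 126 = true := by decide +kernel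
theorem c62_5 : allRange (fun i => Nat.beq (act62 i) i) 630 126 = true := by decide +kernel
theorem c62_6 : allRange (fun i => Nat.beq (act62 i) i) 756 126 = true := by decide +kernel
theorem c62_7 : allRange (fun i => Nat.beq (act62 i) i) 882 126 = true := by decide +kernel
theorem c62_8 : allRange (fun i => Nat.beq (act62 i) i) 1008 126 = true := by decide +kernel
theorem c62_9 : allRange (fun i => Nat.beq (act62 i) i) 1134 126 = true := by decide +kernel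
theorem c62_10 : allRange (fun i => Nat.beq (act62 i) i) 1260 126 = true := by decide +kernel
theorem c62_11 : allRange (fun i => Nat.beq (act62 i) i) 1386 126 = true := by decide +kernel
theorem c62_12 : allRange (fun i => Nat.beq (act62 i) i) 1512 126 = true := by decide +kernel
theorem c62_13 : allRange (fun i => Nat.beq (act62 i) i) 1638 126 = true := by decide +kernel
theorem c62_14 : allRange (fun i => Nat.beq (act62 i) i) 1764 126 = true := by decide +kernel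
theorem c62_15 : allRange (fun i => Nat.beq (act62 i) i) 1890 126 = true := by decide +kernel
theorem c62_16 : allRange (fun i => Nat.beq (act62 i) i) 2016 42 = true := by decide +kernel
theorem h62 : ∀ i, i < T.N → Tab.relActOK T D chk62 i = true := by
  intro i hi
  rw [Tab.relActOK, ← act62_eq]
  exact (range_glue (range_of_allRange c62_0) (range_glue (range_of_allRange c62_1) (range_glue (range_of_allRange c62_2) (range_glue (range_of_allRange c62_3) (range_glue (range_of_allRange c62_4) (range_glue (range_of_allRange c62_5) (range_glue (range_of_allRange c62_6) (range_glue (range_of_allRange c62_7) (range_glue (range_of_allRange c62_8) (range_glue (range_of_allRange c62_9) (range_glue (range_of_allRange c62_10) (range_glue (range_of_allRange c62_11) (range_glue (range_of_allRange c62_12) (range_glue (range_of_allRange c62_13) (range_glue (range_of_allRange c62_14) (range_glue (range_of_allRange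 c62_15) (range_of_allRange c62_16))))))))))))))))) i (Nat.zero_le _) hi

def chk63 : List Nat := [4, 2, 3, 1, 2, 3, 4, 1, 2, 3, 4, 1, 2, 3, 4, 1, 2, 3, 4, 1, 2, 3, 4, 1, 2, 3, 4, 1, 2, 3, 4, 5, 2, 3, 1, 2, 3, 4, 1, 2, 3, 4, 1, 2, 3, 4, 1, 2, 3, 4, 1, 2, 3, 4, 1, 2, 3, 4, 1, 2, 3, 4, 5, 4, 2, 3, 1, 2, 3, 4, 1, 2, 3, 4, 1, 2, 3, 4, 1, 2, 3, 4, 1, 2, 3, 4, 1, 2, 3, 4, 1, 2, 3, 4, 5, 2, 3, 1, 2, 3, 4, 1, 2, 3, 4, 1, 2, 3, 4, 1, 2, 3, 4, 1, 2, 3, 4, 1, 2, 3, 4, 1, 2, 3, 4, 5, 2, 3, 1, 2, 3, 4, 1, 2, 3, 4, 1, 2, 3, 4, 1, 2, 3, 4, 1, 2, 3, 4, 1, 2, 3, 4, 1, 2, 3, 4, 5, 4, 2, 3, 1, 2, 3, 4, 1, 2, 3, 4, 1, 2, 3, 4, 1, 2, 3, 4, 1, 2, 3, 4, 1, 2, 3, 4, 1, 2, 3, 4, 5, 2, 3, 1, 2, 3, 4, 1, 2, 3, 4, 1, 2, 3, 4, 1, 2, 3, 4, 1, 2, 3, 4, 1, 2, 3, 4, 1, 2, 3, 4, 5, 4, 2, 3, 1, 2, 3, 4, 1, 2, 3, 4, 1, 2, 3, 4, 1, 2, 3, 4, 1, 2, 3, 4, 1, 2, 3, 4, 1, 2, 3, 4, 5, 2, 3, 1, 2, 3, 4, 1, 2, 3, 4, 1, 2, 3, 4, 1, 2, 3, 4, 1, 2,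 3, 4, 1, 2, 3, 4, 1, 2, 3, 4, 5, 2, 3, 1, 2, 3, 4, 1, 2, 3, 4, 1, 2, 3, 4, 1, 2, 3, 4, 1, 2, 3, 4, 1, 2, 3, 4, 1, 2, 3, 4, 5, 4, 2, 3, 1, 2, 3, 4, 1, 2, 3, 4, 1, 2, 3, 4, 1, 2, 3, 4, 1, 2, 3, 4, 1, 2, 3, 4, 1, 2, 3, 4, 5, 2, 3, 1, 2, 3, 4, 1, 2, 3, 4, 1, 2, 3, 4, 1, 2, 3, 4, 1, 2, 3, 4, 1, 2, 3, 4, 1, 2, 3, 4, 5, 4, 2, 3, 1, 2, 3, 4, 1, 2, 3, 4, 1, 2, 3, 4, 1, 2, 3, 4, 1, 2, 3, 4, 1, 2, 3, 4, 1, 2, 3, 4, 5, 2, 3, 1, 2, 3, 4, 1, 2, 3, 4, 1, 2, 3, 4, 1, 2, 3, 4, 1, 2, 3, 4, 1, 2, 3, 4, 1, 2, 3, 4, 5, 2, 3, 1, 2, 3, 4, 1, 2, 3, 4, 1, 2, 3, 4, 1, 2, 3, 4, 1, 2, 3, 4, 1, 2, 3, 4, 1, 2, 3, 4, 5]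
noncomputable def act63 (i : Nat) : Nat := col4 (col2 (col3 (col1 (col2 (col3 (col4 (col1 (col2 (col3 (col4 (col1 (col2 (col3 (col4 (col1 (col2 (col3 (col4 (col1 (col2 (col3 (col4 (col1 (col2 (col3 (col4 (col1 (col2 (col3 (col4 (col5 (col2 (col3 (col1 (col2 (col3 (col4 (col1 (col2 (col3 (col4 (col1 (col2 (col3 (col4 (col1 (col2 (col3 (col4 (col1 (col2 (col3 (col4 (col1 (col2 (col3 (col4 (col1 (col2 (col3 (col4 (col5 (col4 (col2 (col3 (col1 (col2 (col3 (col4 (col1 (col2 (col3 (col4 (col1 (col2 (col3 (col4 (col1 (col2 (col3 (col4 (col1 (col2 (col3 (col4 (col1 (col2 (col3 (col4 (col1 (col2 (col3 (col4 (col5 (col2 (col3 (col1 (col2 (col3 (col4 (col1 (col2 (col3 (col4 (col1 (col2 (col3 (col4 (col1 (col2 (col3 (col4 (col1 (col2 (col3 (col4 (col1 (col2 (col3 (col4 (col1 (col2 (col3 (col4 (col5 (col2 (col3 (col1 (col2 (col3 (col4 (col1 (col2 (col3 (col4 (col1 (col2 (col3 (col4 (col1 (col2 (col3 (col4 (col1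 (col2 (col3 (col4 (col1 (col2 (col3 (col4 (col1 (col2 (col3 (col4 (col5 (col4 (col2 (col3 (col1 (col2 (col3 (col4 (col1 (col2 (col3 (col4 (col1 (col2 (col3 (col4 (col1 (col2 (col3 (col4 (col1 (col2 (col3 (col4 (col1 (col2 (col3 (col4 (col1 (col2 (col3 (col4 (col5 (col2 (col3 (col1 (col2 (col3 (col4 (col1 (col2 (col3 (col4 (col1 (col2 (col3 (col4 (col1 (col2 (col3 (col4 (col1 (col2 (col3 (col4 (col1 (col2 (col3 (col4 (col1 (col2 (col3 (col4 (col5 (col4 (col2 (col3 (col1 (col2 (col3 (col4 (col1 (col2 (col3 (col4 (col1 (col2 (col3 (col4 (col1 (col2 (col3 (col4 (col1 (col2 (col3 (col4 (col1 (col2 (col3 (col4 (col1 (col2 (col3 (col4 (col5 (col2 (col3 (col1 (col2 (col3 (col4 (col1 (col2 (col3 (col4 (col1 (col2 (col3 (col4 (col1 (col2 (col3 (col4 (col1 (col2 (col3 (col4 (col1 (col2 (col3 (col4 (col1 (col2 (col3 (col4 (col5 (col2 (col3 (col1 (col2 (col3 (col4 (col1 (col2 (col3 (col4 (col1 (col2 (col3 (col4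 (col1 (col2 (col3 (col4 (col1 (col2 (col3 (col4 (col1 (col2 (col3 (col4 (col1 (col2 (col3 (col4 (col5 (col4 (col2 (col3 (col1 (col2 (col3 (col4 (col1 (col2 (col3 (col4 (col1 (col2 (col3 (col4 (col1 (col2 (col3 (col4 (col1 (col2 (col3 (col4 (col1 (col2 (col3 (col4 (col1 (col2 (col3 (col4 (col5 (col2 (col3 (col1 (col2 (col3 (col4 (col1 (col2 (col3 (col4 (col1 (col2 (col3 (col4 (col1 (col2 (col3 (col4 (col1 (col2 (col3 (col4 (col1 (col2 (col3 (col4 (col1 (col2 (col3 (col4 (col5 (col4 (col2 (col3 (col1 (col2 (col3 (col4 (col1 (col2 (col3 (col4 (col1 (col2 (col3 (col4 (col1 (col2 (col3 (col4 (col1 (col2 (col3 (col4 (col1 (col2 (col3 (col4 (col1 (col2 (col3 (col4 (col5 (col2 (col3 (col1 (col2 (col3 (col4 (col1 (col2 (col3 (col4 (col1 (col2 (col3 (col4 (col1 (col2 (col3 (col4 (col1 (col2 (col3 (col4 (col1 (col2 (col3 (col4 (col1 (col2 (col3 (col4 (col5 (col2 (col3 (col1 (col2 (col3 (col4 (col1 (col2 (col3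 (col4 (col1 (col2 (col3 (col4 (col1 (col2 (col3 (col4 (col1 (col2 (col3 (col4 (col1 (col2 (col3 (col4 (col1 (col2 (col3 (col4 (col5 (i)))))))))))))))))))))))))))))))))))))))))))))))))))))))))))))))))))))))))))))))))))))))))))))))))))))))))))))))))))))))))))))))))))))))))))))))))))))))))))))))))))))))))))))))))))))))))))))))))))))))))))))))))))))))))))))))))))))))))))))))))))))))))))))))))))))))))))))))))))))))))))))))))))))))))))))))))))))))))))))))))))))))))))))))))))))))))))))))))))))))))))))))))))))))))))))))))))))))))))))))))))))))))))))))))))))))))))))))))))))))))))))))))))))))))))))))))))))))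
theorem act63_eq (i : Nat) : act63 i = Tab.act T D chk63 i := rfl
theorem c63_0 : allRange (fun i => Nat.beq (act63 i) i) 0 126 = true := by decide +kernel
theorem c63_1 : allRange (fun i => Nat.beq (act63 i) i) 126 126 = true := by decide +kernel
theorem c63_2 : allRange (fun i => Nat.beq (act63 i) i) 252 126 = true := by decide +kernel
theorem c63_3 : allRange (fun i => Nat.beq (act63 i) i) 378 126 = true := by decide +kernel
theorem c63_4 : allRange (fun i => Nat.beq (act63 i) i) 504 126 = true := by decide +kernel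
theorem c63_5 : allRange (fun i => Nat.beq (act63 i) i) 630 126 = true := by decide +kernel
theorem c63_6 : allRange (fun i => Nat.beq (act63 i) i) 756 126 = true := by decide +kernel
theorem c63_7 : allRange (fun i => Nat.beq (act63 i) i) 882 126 = true := by decide +kernel
theorem c63_8 : allRange (fun i => Nat.beq (act63 i) i) 1008 126 = true := by decide +kernel
theorem c63_9 : allRange (fun i => Nat.beq (act63 i) i) 1134 126 = true := by decide +kernel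
theorem c63_10 : allRange (fun i => Nat.beq (act63 i) i) 1260 126 = true := by decide +kernel
theorem c63_11 : allRange (fun i => Nat.beq (act63 i) i) 1386 126 = true := by decide +kernel
theorem c63_12 : allRange (fun i => Nat.beq (act63 i) i) 1512 126 = true := by decide +kernel
theorem c63_13 : allRange (fun i => Nat.beq (act63 i) i) 1638 126 = true := by decide +kernel
theorem c63_14 : allRange (fun i => Nat.beq (act63 i) i) 1764 126 = true := by decide +kernel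
theorem c63_15 : allRange (fun i => Nat.beq (act63 i) i) 1890 126 = true := by decide +kernel
theorem c63_16 : allRange (fun i => Nat.beq (act63 i) i) 2016 42 = true := by decide +kernel
theorem h63 : ∀ i, i < T.N → Tab.relActOK T D chk63 i = true := by
  intro i hi
  rw [Tab.relActOK, ← act63_eq]
  exact (range_glue (range_of_allRange c63_0) (range_glue (range_of_allRange c63_1) (range_glue (range_of_allRange c63_2) (range_glue (range_of_allRange c63_3) (range_glue (range_of_allRange c63_4) (range_glue (range_of_allRange c63_5) (range_glue (range_of_allRange c63_6) (range_glue (range_of_allRange c63_7) (range_glue (range_of_allRange c63_8) (range_glue (range_of_allRange c63_9) (range_glue (range_of_allRange c63_10) (range_glue (range_of_allRange c63_11) (range_glue (range_of_allRange c63_12) (range_glue (range_of_allRange c63_13) (range_glue (range_of_allRange c63_14) (range_glue (range_of_allRange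 c63_15) (range_of_allRange c63_16))))))))))))))))) i (Nat.zero_le _) hi

def chkAll : List (List Nat) := [chk0, chk1, chk2, chk3, chk4, chk5, chk6, chk7, chk8, chk9, chk10, chk11, chk12, chk13, chk14, chk15, chk16, chk17, chk18, chk19, chk20, chk21, chk22, chk23, chk24, chk25, chk26, chk27, chk28, chk29, chk30, chk31, chk32, chk33, chk34, chk35, chk36, chk37, chk38, chk39, chk40, chk41, chk42, chk43, chk44, chk45, chk46, chk47, chk48, chk49, chk50, chk51, chk52, chk53, chk54, chk55, chk56, chk57, chk58, chk59, chk60, chk61, chk62, chk63]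
theorem hAll : ∀ w ∈ chkAll, ∀ i, i < T.N → Tab.relActOK T D w i = true := by
  intro w hw
  simp only [chkAll, List.mem_cons, List.not_mem_nil, or_false] at hw
  rcases hw with rfl | rfl | rfl | rfl | rfl | rfl | rfl | rfl | rfl | rfl | rfl | rfl | rfl | rfl | rfl | rfl | rfl | rfl | rfl | rfl | rfl | rfl | rfl | rfl | rfl | rfl | rfl | rfl | rfl | rfl | rfl | rfl | rfl | rfl | rfl | rfl | rfl | rfl | rfl | rfl | rfl | rfl | rfl | rfl | rfl | rfl | rfl | rfl | rfl | rfl | rfl | rfl | rfl | rfl | rfl | rfl | rfl | rfl | rfl | rfl | rfl | rfl | rfl | rfl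
  · exact h0
  · exact h1
  · exact h2
  · exact h3
  · exact h4
  · exact h5
  · exact h6
  · exact h7
  · exact h8
  · exact h9
  · exact h10
  · exact h11
  · exact h12
  · exact h13
  · exact h14
  · exact h15
  · exact h16
  · exact h17
  · exact h18
  · exact h19
  · exact h20
  · exact h21
  · exact h22
  · exact h23
  · exact h24
  · exact h25
  · exact h26
  · exact h27
  · exact h28
  · exact h29
  · exact h30
  · exact h31
  · exact h32
  · exact h33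
  · exact h34
  · exact h35
  · exact h36
  · exact h37
  · exact h38
  · exact h39
  · exact h40
  · exact h41
  · exact h42
  · exact h43
  · exact h44
  · exact h45
  · exact h46
  · exact h47
  · exact h48
  · exact h49
  · exact h50
  · exact h51
  · exact h52
  · exact h53
  · exact h54
  · exact h55
  · exact h56
  · exact h57
  · exact h58
  · exact h59
  · exact h60
  · exact h61
  · exact h62
  · exact h63
theorem hAll_lt : ∀ w ∈ chkAll, ∀ x ∈ w, x < 7 := by decide +kernel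

end Cfsg.Agent.Lib.Helper4.TCD.SHep2W
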