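import Mathlib
import Cfsg.Agent.Lib.Helper4.HeMain
import Cfsg.Agent.Lib.Helper4.TCD_SHep2A_Fin
import Cfsg.Agent.Lib.Helper4.TCD_SHep2W
import Cfsg.Agent.Lib.Helper4.StemLib8
import Cfsg.Agent.Lib.Helper4.HeSub

/-! `He` has no stem extension with kernel of order 2 (generated). -/

namespace Cfsg.Agent.Lib.Helper4.SHep2Main

open Cfsg.Agent.Lib.Helper4.TC Cfsg.Agent.Lib.Helper4.TCD Cfsg.Agent.Lib.Helper4.TC.Log Cfsg.Agent.Lib.Helper4.Stem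

/-- the description of the auxiliary presentation -/
def spec : Spec4 :=
  { p := 2
    items := [(0, [], 17),
      (2, [], 2),
      (4, [], 2),
      (6, [], 2),
      (8, [], 2),
      (10, [], 2),
      (12, [], 3),
      (14, [], 3),
      (16, [12, 5], 0),
      (18, [14, 9], 0),
      (20, [16, 8, 17, 9], 0),
      (22, [16, 10, 17, 11], 0),
      (24, [16, 18, 17, 19], 0),
      (26, [18, 6, 19, 7], 0),
      (28, [18, 4, 19, 5], 0),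
      (30, [2, 19, 11, 19, 11], 0),
      (32, [4, 8, 10, 18, 4, 8, 10, 18, 4, 8, 10, 18, 4, 8, 10, 18], 0),
      (34, [16, 4, 8, 2, 16, 4, 8, 2, 16, 4, 8, 2, 16, 4, 8, 2, 16, 4, 8, 2, 16, 4, 8, 2, 16, 4, 8, 2, 11, 1, 5, 9], 0),
      (36, [16, 16], 0),
      (38, [18, 18], 0)]
    cen := [20, 22, 24, 26, 28, 30, 32, 34, 36, 38]
    R := []
    sub := [0, 2, 4, 6, 8, 10]
    PR := [[0, 0, 0, 0, 0, 0, 0, 0, 0, 0, 0, 0, 0, 0, 0, 0, 0], [2, 2], [0, 0, 0, 2, 1, 2, 0, 2, 0, 0, 0, 2, 1, 2, 0, 2], [0, 0, 0, 0, 0, 2, 0, 0, 0, 0, 0, 2, 0, 0, 0, 0, 0, 2], [4, 4], [2, 4, 2, 4], [0, 4, 0, 4, 0, 4, 0, 4, 0, 4], [0, 2, 1, 2, 4, 1, 2, 0, 4, 0, 4, 2, 0, 4, 2, 0, 4], [0, 0, 2, 0, 4, 0, 4, 1, 1, 2, 1, 4, 0, 4, 0, 2, 0, 2], [7, 0, 0, 0, 4, 1, 4, 0, 4, 1, 1, 1], [9, 0, 2, 4, 1, 4, 0, 2, 1, 4, 0, 4, 1, 2, 4], [11, 0, 2, 1, 2, 0, 2, 4], [4, 8, 4, 8, 4, 8, 4, 8, 4,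 8, 4, 8, 4, 8, 4, 8, 4, 8, 4, 8], [8, 2, 8, 2, 8, 2], [8, 10, 8, 10, 8, 10], [6, 4, 7, 5], [6, 8, 7, 9], [6, 2, 7, 3], [6, 10, 7, 11], [4, 2, 5, 3], [4, 10, 5, 11], [2, 10, 3, 11], [6, 9, 5, 9, 5, 9, 5, 9, 5, 9, 5]]
    XR := [([16], [4, 0], [4, 0], 5),
      ([16], [4, 0, 2], [4, 0, 2], 5),
      ([16], [4, 1, 2, 4, 0, 4, 1, 2, 0, 4, 1], [4, 1, 2, 4, 0, 4, 1, 2, 0, 4, 1], 5),
      ([18], [1, 1, 2, 1, 1, 1, 4], [1, 1, 2, 1, 1, 1], 3),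
      ([18], [1, 1, 2, 1, 1, 1], [1, 1, 2, 1, 1, 1, 4], 3),
      ([18], [1, 1, 2, 1, 1, 1, 2], [1, 1, 2, 1, 1, 1, 2, 4], 3),
      ([18], [0, 0, 2, 0, 0, 0, 2, 4], [2, 0, 0, 2, 0, 0, 0], 3)] }

/-- the letters of the auxiliary presentation as words of the base group -/
def Wl (l : ℕ) : List ℕ :=
  [[2, 3, 1, 2, 3, 4, 1, 2, 3, 4, 1, 2, 3, 4, 1, 2, 3, 4, 1, 2, 3, 4, 1, 2, 3, 4, 1, 2, 3, 4, 5], [5, 4, 3, 2, 1, 4, 3, 2, 1, 4, 3, 2, 1, 4, 3, 2, 1, 4, 3, 2, 1, 4, 3, 2, 1, 4, 3, 2, 1, 3, 2], [4], [4], [2], [2], [0], [0], [3], [3], [5], [5], [1, 2], [2, 1], [6, 3], [3, 6], [1], [1], [6], [6], [], [], [], [], [], [], [], [], [], [], [], [], [], [], [], [], [], [], [], []].getD l []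

theorem checks_eq : checks spec.toSpec2 PHe.P.invR Wl ++ checksX spec PSHep2.P.invR Wl = SHep2W.chkAll := by decide +kernel

theorem sub_eq : Subgroup.closure (xw PHe.P Wl '' {l | l ∈ spec.sub}) = Inst.subG PHe.P HeB.subs := by
  rw [closure_xw_eq]
  rfl

set_option maxRecDepth 100000 in
theorem noStem : NoStemPrime PHe.P.Grp 2 := by
  obtain ⟨fG, hinj, hcard⟩ := HeMain.order_aux
  have hall : ∀ w ∈ checks spec.toSpec2 PHe.P.invR Wl ++ checksX spec PSHep2.P.invR Wl, wordP PHe.P.gR w = 1 := by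
    rw [checks_eq]
    intro w hw
    exact He1.inst.word_eq_one hinj w (SHep2W.hAll_lt w hw) (SHep2W.hAll w hw)
  exact noStemPrime_pres4 PHe.P PHe.valid PSHep2.P PSHep2.valid spec (by show Nat.Prime 2; norm_num) Wl
    (by decide +kernel) (by decide +kernel) (fun w hw => hall w (List.mem_append_left _ hw))
    (fun w hw => hall w (List.mem_append_right _ hw)) (by decide +kernel)
    (by rw [sub_eq]; exact HeSub.liftsP_sub 2 (by norm_num))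
    979200 (by rw [sub_eq]; exact HeSub.sub_card.2)
    4116 (by decide) SHep2A.index_eq fG 4030387200 hcard (by decide)

end Cfsg.Agent.Lib.Helper4.SHep2Main
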