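import Cfsg.Agent.Lib.Helper4.TCD_SHep3A_Acc

namespace Cfsg.Agent.Lib.Helper4.TCD.SHep3A

open Cfsg.Agent.Lib.Helper4.TC

set_option maxRecDepth 100000
set_option Elab.async false

theorem c_rel_58 : allRange D.relOK 453753 2976 = true := by decide +kernel
theorem c_rel_59 : allRange D.relOK 456729 3263 = true := by decide +kernel
theorem c_rel_60 : allRange D.relOK 459992 3346 = true := by decide +kernel
theorem c_rel_61 : allRange D.relOK 463338 3437 = true := by decide +kernel
theorem c_rel_62 : allRange D.relOK 466775 3388 = true := by decide +kernel
theorem c_rel_63 : allRange D.relOK 470163 2831 = true := by decide +kernel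
theorem c_rel_64 : allRange D.relOK 472994 3530 = true := by decide +kernel
theorem c_rel_65 : allRange D.relOK 476524 2633 = true := by decide +kernel
theorem c_rel_66 : allRange D.relOK 479157 2759 = true := by decide +kernel
theorem c_rel_67 : allRange D.relOK 481916 3042 = true := by decide +kernel
theorem c_rel_68 : allRange D.relOK 484958 2964 = true := by decide +kernel
theorem c_rel_69 : allRange D.relOK 487922 3315 = true := by decide +kernel
theorem c_rel_70 : allRange D.relOK 491237 3576 = true := by decide +kernel
theorem c_rel_71 : allRange D.relOK 494813 3397 = true := by decide +kernel
theorem c_rel_72 : allRange D.relOK 498210 3604 = true := by decide +kernel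
theorem c_rel_73 : allRange D.relOK 501814 3351 = true := by decide +kernel
theorem c_rel_74 : allRange D.relOK 505165 2806 = true := by decide +kernel
theorem c_rel_75 : allRange D.relOK 507971 3014 = true := by decide +kernel
theorem c_rel_76 : allRange D.relOK 510985 2925 = true := by decide +kernel
theorem c_rel_77 : allRange D.relOK 513910 2782 = true := by decide +kernel
theorem c_rel_78 : allRange D.relOK 516692 3319 = true := by decide +kernel
theorem c_rel_79 : allRange D.relOK 520011 3081 = true := by decide +kernel
theorem c_rel_80 : allRange D.relOK 523092 3327 = true := by decide +kernel
theorem c_rel_81 : allRange D.relOK 526419 3303 = true := by decide +kernel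
theorem c_rel_82 : allRange D.relOK 529722 3471 = true := by decide +kernel
theorem c_rel_83 : allRange D.relOK 533193 2713 = true := by decide +kernel
theorem c_rel_84 : allRange D.relOK 535906 2587 = true := by decide +kernel
theorem c_rel_85 : allRange D.relOK 538493 3143 = true := by decide +kernel
theorem c_rel_86 : allRange D.relOK 541636 3371 = true := by decide +kernel
theorem c_rel_87 : allRange D.relOK 545007 3382 = true := by decide +kernel
theorem c_rel_88 : allRange D.relOK 548389 2954 = true := by decide +kernel
theorem c_rel_89 : allRange D.relOK 551343 3050 = true := by decide +kernel
theorem c_rel_90 : allRange D.relOK 554393 3112 = true := by decide +kernel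
theorem c_rel_91 : allRange D.relOK 557505 2772 = true := by decide +kernel
theorem c_rel_92 : allRange D.relOK 560277 3115 = true := by decide +kernel
theorem c_rel_93 : allRange D.relOK 563392 3346 = true := by decide +kernel
theorem c_rel_94 : allRange D.relOK 566738 3023 = true := by decide +kernel
theorem c_rel_95 : allRange D.relOK 569761 3062 = true := by decide +kernel
theorem c_rel_96 : allRange D.relOK 572823 3122 = true := by decide +kernel
theorem c_rel_97 : allRange D.relOK 575945 3087 = true := by decide +kernel
theorem c_rel_98 : allRange D.relOK 579032 3132 = true := by decide +kernel
theorem c_rel_99 : allRange D.relOK 582164 3142 = true := by decide +kernel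
theorem c_rel_100 : allRange D.relOK 585306 3093 = true := by decide +kernel
theorem c_rel_101 : allRange D.relOK 588399 3037 = true := by decide +kernel
theorem c_rel_102 : allRange D.relOK 591436 3092 = true := by decide +kernel
theorem c_rel_103 : allRange D.relOK 594528 3104 = true := by decide +kernel
theorem c_rel_104 : allRange D.relOK 597632 3096 = true := by decide +kernel
theorem c_rel_105 : allRange D.relOK 600728 3002 = true := by decide +kernel
theorem c_rel_106 : allRange D.relOK 603730 3018 = true := by decide +kernel
theorem c_rel_107 : allRange D.relOK 606748 3046 = true := by decide +kernel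
theorem c_rel_108 : allRange D.relOK 609794 3091 = true := by decide +kernel
theorem c_rel_109 : allRange D.relOK 612885 3032 = true := by decide +kernel
theorem c_rel_110 : allRange D.relOK 615917 2984 = true := by decide +kernel
theorem c_rel_111 : allRange D.relOK 618901 2981 = true := by decide +kernel
theorem c_rel_112 : allRange D.relOK 621882 2966 = true := by decide +kernel
theorem c_rel_113 : allRange D.relOK 624848 2959 = true := by decide +kernel
theorem c_rel_114 : allRange D.relOK 627807 2925 = true := by decide +kernel
theorem c_rel_115 : allRange D.relOK 630732 3013 = true := by decide +kernel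
theorem c_rel_116 : allRange D.relOK 633745 2809 = true := by decide +kernel
theorem c_rel_117 : allRange D.relOK 636554 2770 = true := by decide +kernel
theorem c_rel_118 : allRange D.relOK 639324 2708 = true := by decide +kernel
theorem c_rel_119 : allRange D.relOK 642032 2618 = true := by decide +kernel
theorem c_rel_120 : allRange D.relOK 644650 2674 = true := by decide +kernel
theorem c_rel_121 : allRange D.relOK 647324 2640 = true := by decide +kernel
theorem c_rel_122 : allRange D.relOK 649964 2578 = true := by decide +kernel
theorem c_rel_123 : allRange D.relOK 652542 2599 = true := by decide +kernel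
theorem c_rel_124 : allRange D.relOK 655141 2735 = true := by decide +kernel
theorem c_rel_125 : allRange D.relOK 657876 2608 = true := by decide +kernel
theorem c_rel_126 : allRange D.relOK 660484 2589 = true := by decide +kernel
theorem c_rel_127 : allRange D.relOK 663073 2528 = true := by decide +kernel
theorem c_rel_128 : allRange D.relOK 665601 2521 = true := by decide +kernel
theorem c_rel_129 : allRange D.relOK 668122 2568 = true := by decide +kernel
theorem c_rel_130 : allRange D.relOK 670690 2543 = true := by decide +kernel
theorem c_rel_131 : allRange D.relOK 673233 2518 = true := by decide +kernel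
theorem c_rel_132 : allRange D.relOK 675751 2538 = true := by decide +kernel
theorem c_rel_133 : allRange D.relOK 678289 2600 = true := by decide +kernel
theorem c_rel_134 : allRange D.relOK 680889 2599 = true := by decide +kernel
theorem c_rel_135 : allRange D.relOK 683488 2559 = true := by decide +kernel
theorem c_rel_136 : allRange D.relOK 686047 2606 = true := by decide +kernel
theorem c_rel_137 : allRange D.relOK 688653 2605 = true := by decide +kernel
theorem c_rel_138 : allRange D.relOK 691258 2612 = true := by decide +kernel
theorem c_rel_139 : allRange D.relOK 693870 2620 = true := by decide +kernel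
theorem c_rel_140 : allRange D.relOK 696490 2681 = true := by decide +kernel
theorem c_rel_141 : allRange D.relOK 699171 2613 = true := by decide +kernel
theorem c_rel_142 : allRange D.relOK 701784 2631 = true := by decide +kernel
theorem c_rel_143 : allRange D.relOK 704415 2651 = true := by decide +kernel
theorem c_rel_144 : allRange D.relOK 707066 2611 = true := by decide +kernel
theorem c_rel_145 : allRange D.relOK 709677 2616 = true := by decide +kernel
theorem c_rel_146 : allRange D.relOK 712293 2582 = true := by decide +kernel
theorem c_rel_147 : allRange D.relOK 714875 2591 = true := by decide +kernel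
theorem c_rel_148 : allRange D.relOK 717466 2556 = true := by decide +kernel
theorem c_rel_149 : allRange D.relOK 720022 2510 = true := by decide +kernel
theorem c_rel_150 : allRange D.relOK 722532 2533 = true := by decide +kernel
theorem c_rel_151 : allRange D.relOK 725065 2471 = true := by decide +kernel
theorem c_rel_152 : allRange D.relOK 727536 2487 = true := by decide +kernel
theorem c_rel_153 : allRange D.relOK 730023 2401 = true := by decide +kernel
theorem c_rel_154 : allRange D.relOK 732424 2392 = true := by decide +kernel
theorem c_rel_155 : allRange D.relOK 734816 2342 = true := by decide +kernel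
theorem c_rel_156 : allRange D.relOK 737158 3673 = true := by decide +kernel

end Cfsg.Agent.Lib.Helper4.TCD.SHep3A
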