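import Cfsg.Agent.Lib.Helper4.TCD_SHep3A_Acc

namespace Cfsg.Agent.Lib.Helper4.TCD.SHep3A

open Cfsg.Agent.Lib.Helper4.TC

set_option maxRecDepth 100000
set_option Elab.async false

theorem c_act74_0 : allRange (fun i => Nat.beq (actR74 i) i) 0 4116 = true := by decide +kernel
theorem c_act75_0 : allRange (fun i => Nat.beq (actR75 i) i) 0 2727 = true := by decide +kernel
theorem c_act75_1 : allRange (fun i => Nat.beq (actR75 i) i) 2727 1389 = true := by decide +kernel
theorem c_act76_0 : allRange (fun i => Nat.beq (actR76 i) i) 0 4116 = true := by decide +kernel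
theorem c_act77_0 : allRange (fun i => Nat.beq (actR77 i) i) 0 4116 = true := by decide +kernel
theorem c_act78_0 : allRange (fun i => Nat.beq (actR78 i) i) 0 4116 = true := by decide +kernel
theorem c_act79_0 : allRange (fun i => Nat.beq (actR79 i) i) 0 2857 = true := by decide +kernel
theorem c_act79_1 : allRange (fun i => Nat.beq (actR79 i) i) 2857 1259 = true := by decide +kernel
theorem c_act80_0 : allRange (fun i => Nat.beq (actR80 i) i) 0 2500 = true := by decide +kernel
theorem c_act80_1 : allRange (fun i => Nat.beq (actR80 i) i) 2500 1616 = true := by decide +kernel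
theorem c_act81_0 : allRange (fun i => Nat.beq (actR81 i) i) 0 2307 = true := by decide +kernel
theorem c_act81_1 : allRange (fun i => Nat.beq (actR81 i) i) 2307 1809 = true := by decide +kernel
theorem c_act82_0 : allRange (fun i => Nat.beq (actR82 i) i) 0 2222 = true := by decide +kernel
theorem c_act82_1 : allRange (fun i => Nat.beq (actR82 i) i) 2222 1894 = true := by decide +kernel
theorem c_act83_0 : allRange (fun i => Nat.beq (actR83 i) i) 0 2142 = true := by decide +kernel
theorem c_act83_1 : allRange (fun i => Nat.beq (actR83 i) i) 2142 1974 = true := by decide +kernel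

end Cfsg.Agent.Lib.Helper4.TCD.SHep3A
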