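import Cfsg.Agent.Lib.Helper4.TCD_He1_Acc
import Cfsg.Agent.Lib.Helper4.TC13

namespace Cfsg.Agent.Lib.Helper4.TCD.SHep3W

open Cfsg.Agent.Lib.Helper4.TC Cfsg.Agent.Lib.Helper4.TCD.He1

set_option maxRecDepth 100000
set_option Elab.async false

def chk0 : List Nat := [2, 3, 1, 2, 3, 4, 1, 2, 3, 4, 1, 2, 3, 4, 1, 2, 3, 4, 1, 2, 3, 4, 1, 2, 3, 4, 1, 2, 3, 4, 5, 2, 3, 1, 2, 3, 4, 1, 2, 3, 4, 1, 2, 3, 4, 1, 2, 3, 4, 1, 2, 3, 4, 1, 2, 3, 4, 1, 2, 3, 4, 5, 2, 3, 1, 2, 3, 4, 1, 2, 3, 4, 1, 2, 3, 4, 1, 2, 3, 4, 1, 2, 3, 4, 1, 2, 3, 4, 1, 2, 3, 4, 5, 2, 3, 1, 2, 3, 4, 1, 2, 3, 4, 1, 2, 3, 4, 1, 2, 3, 4, 1, 2, 3, 4, 1, 2, 3, 4, 1, 2, 3, 4, 5, 2, 3, 1, 2, 3, 4, 1, 2, 3, 4, 1, 2, 3, 4, 1, 2, 3, 4, 1, 2, 3, 4, 1, 2, 3, 4, 1, 2, 3, 4, 5, 2, 3, 1, 2, 3, 4, 1, 2, 3, 4, 1, 2, 3, 4, 1, 2, 3, 4, 1, 2, 3, 4, 1, 2, 3, 4, 1, 2, 3, 4, 5, 2, 3, 1, 2, 3, 4, 1, 2, 3, 4, 1, 2, 3, 4, 1, 2, 3, 4, 1, 2, 3, 4, 1, 2, 3, 4, 1, 2, 3, 4, 5, 2,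 3, 1, 2, 3, 4, 1, 2, 3, 4, 1, 2, 3, 4, 1, 2, 3, 4, 1, 2, 3, 4, 1, 2, 3, 4, 1, 2, 3, 4, 5, 2, 3, 1, 2, 3, 4, 1, 2, 3, 4, 1, 2, 3, 4, 1, 2, 3, 4, 1, 2, 3, 4, 1, 2, 3, 4, 1, 2, 3, 4, 5, 2, 3, 1, 2, 3, 4, 1, 2, 3, 4, 1, 2, 3, 4, 1, 2, 3, 4, 1, 2, 3, 4, 1, 2, 3, 4, 1, 2, 3, 4, 5, 2, 3, 1, 2, 3, 4, 1, 2, 3, 4, 1, 2, 3, 4, 1, 2, 3, 4, 1, 2, 3, 4, 1, 2, 3, 4, 1, 2, 3, 4, 5, 2, 3, 1, 2, 3, 4, 1, 2, 3, 4, 1, 2, 3, 4, 1, 2, 3, 4, 1, 2, 3, 4, 1, 2, 3, 4, 1, 2, 3, 4, 5, 2, 3, 1, 2, 3, 4, 1, 2, 3, 4, 1, 2, 3, 4, 1, 2, 3, 4, 1, 2, 3, 4, 1, 2, 3, 4, 1, 2, 3, 4, 5, 2, 3, 1, 2, 3, 4, 1, 2, 3, 4, 1, 2, 3, 4, 1, 2, 3, 4, 1, 2, 3, 4, 1, 2, 3, 4, 1, 2, 3, 4, 5, 2, 3, 1, 2, 3, 4, 1, 2, 3, 4, 1, 2, 3, 4, 1, 2, 3, 4, 1, 2, 3, 4, 1, 2, 3, 4, 1, 2, 3, 4, 5, 2, 3, 1, 2, 3, 4, 1, 2, 3, 4, 1, 2, 3, 4, 1, 2, 3, 4, 1, 2, 3, 4, 1, 2, 3, 4, 1, 2, 3, 4, 5, 2, 3, 1, 2, 3, 4, 1, 2, 3, 4, 1, 2, 3, 4, 1, 2, 3, 4, 1, 2, 3, 4, 1, 2, 3, 4, 1, 2, 3,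 4, 5]
noncomputable def act0 (i : Nat) : Nat := col2 (col3 (col1 (col2 (col3 (col4 (col1 (col2 (col3 (col4 (col1 (col2 (col3 (col4 (col1 (col2 (col3 (col4 (col1 (col2 (col3 (col4 (col1 (col2 (col3 (col4 (col1 (col2 (col3 (col4 (col5 (col2 (col3 (col1 (col2 (col3 (col4 (col1 (col2 (col3 (col4 (col1 (col2 (col3 (col4 (col1 (col2 (col3 (col4 (col1 (col2 (col3 (col4 (col1 (col2 (col3 (col4 (col1 (col2 (col3 (col4 (col5 (col2 (col3 (col1 (col2 (col3 (col4 (col1 (col2 (col3 (col4 (col1 (col2 (col3 (col4 (col1 (col2 (col3 (col4 (col1 (col2 (col3 (col4 (col1 (col2 (col3 (col4 (col1 (col2 (col3 (col4 (col5 (col2 (col3 (col1 (col2 (col3 (col4 (col1 (col2 (col3 (col4 (col1 (col2 (col3 (col4 (col1 (col2 (col3 (col4 (col1 (col2 (col3 (col4 (col1 (col2 (col3 (col4 (col1 (col2 (col3 (col4 (col5 (col2 (col3 (col1 (col2 (col3 (col4 (col1 (col2 (col3 (col4 (col1 (col2 (col3 (col4 (col1 (col2 (col3 (col4 (col1 (col2 (col3 (col4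 (col1 (col2 (col3 (col4 (col1 (col2 (col3 (col4 (col5 (col2 (col3 (col1 (col2 (col3 (col4 (col1 (col2 (col3 (col4 (col1 (col2 (col3 (col4 (col1 (col2 (col3 (col4 (col1 (col2 (col3 (col4 (col1 (col2 (col3 (col4 (col1 (col2 (col3 (col4 (col5 (col2 (col3 (col1 (col2 (col3 (col4 (col1 (col2 (col3 (col4 (col1 (col2 (col3 (col4 (col1 (col2 (col3 (col4 (col1 (col2 (col3 (col4 (col1 (col2 (col3 (col4 (col1 (col2 (col3 (col4 (col5 (col2 (col3 (col1 (col2 (col3 (col4 (col1 (col2 (col3 (col4 (col1 (col2 (col3 (col4 (col1 (col2 (col3 (col4 (col1 (col2 (col3 (col4 (col1 (col2 (col3 (col4 (col1 (col2 (col3 (col4 (col5 (col2 (col3 (col1 (col2 (col3 (col4 (col1 (col2 (col3 (col4 (col1 (col2 (col3 (col4 (col1 (col2 (col3 (col4 (col1 (col2 (col3 (col4 (col1 (col2 (col3 (col4 (col1 (col2 (col3 (col4 (col5 (col2 (col3 (col1 (col2 (col3 (col4 (col1 (col2 (col3 (col4 (col1 (col2 (col3 (col4 (col1 (col2 (col3 (col4 (col1 (col2 (col3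 (col4 (col1 (col2 (col3 (col4 (col1 (col2 (col3 (col4 (col5 (col2 (col3 (col1 (col2 (col3 (col4 (col1 (col2 (col3 (col4 (col1 (col2 (col3 (col4 (col1 (col2 (col3 (col4 (col1 (col2 (col3 (col4 (col1 (col2 (col3 (col4 (col1 (col2 (col3 (col4 (col5 (col2 (col3 (col1 (col2 (col3 (col4 (col1 (col2 (col3 (col4 (col1 (col2 (col3 (col4 (col1 (col2 (col3 (col4 (col1 (col2 (col3 (col4 (col1 (col2 (col3 (col4 (col1 (col2 (col3 (col4 (col5 (col2 (col3 (col1 (col2 (col3 (col4 (col1 (col2 (col3 (col4 (col1 (col2 (col3 (col4 (col1 (col2 (col3 (col4 (col1 (col2 (col3 (col4 (col1 (col2 (col3 (col4 (col1 (col2 (col3 (col4 (col5 (col2 (col3 (col1 (col2 (col3 (col4 (col1 (col2 (col3 (col4 (col1 (col2 (col3 (col4 (col1 (col2 (col3 (col4 (col1 (col2 (col3 (col4 (col1 (col2 (col3 (col4 (col1 (col2 (col3 (col4 (col5 (col2 (col3 (col1 (col2 (col3 (col4 (col1 (col2 (col3 (col4 (col1 (col2 (col3 (col4 (col1 (col2 (col3 (col4 (col1 (col2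 (col3 (col4 (col1 (col2 (col3 (col4 (col1 (col2 (col3 (col4 (col5 (col2 (col3 (col1 (col2 (col3 (col4 (col1 (col2 (col3 (col4 (col1 (col2 (col3 (col4 (col1 (col2 (col3 (col4 (col1 (col2 (col3 (col4 (col1 (col2 (col3 (col4 (col1 (col2 (col3 (col4 (col5 (col2 (col3 (col1 (col2 (col3 (col4 (col1 (col2 (col3 (col4 (col1 (col2 (col3 (col4 (col1 (col2 (col3 (col4 (col1 (col2 (col3 (col4 (col1 (col2 (col3 (col4 (col1 (col2 (col3 (col4 (col5 (i)))))))))))))))))))))))))))))))))))))))))))))))))))))))))))))))))))))))))))))))))))))))))))))))))))))))))))))))))))))))))))))))))))))))))))))))))))))))))))))))))))))))))))))))))))))))))))))))))))))))))))))))))))))))))))))))))))))))))))))))))))))))))))))))))))))))))))))))))))))))))))))))))))))))))))))))))))))))))))))))))))))))))))))))))))))))))))))))))))))))))))))))))))))))))))))))))))))))))))))))))))))))))))))))))))))))))))))))))))))))))))))))))))))))))))))))))))))))))))))))))))))))))))))))))))))))))))))))))))))))))))))))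
theorem act0_eq (i : Nat) : act0 i = Tab.act T D chk0 i := rfl
theorem c0_0 : allRange (fun i => Nat.beq (act0 i) i) 0 113 = true := by decide +kernel
theorem c0_1 : allRange (fun i => Nat.beq (act0 i) i) 113 113 = true := by decide +kernel
theorem c0_2 : allRange (fun i => Nat.beq (act0 i) i) 226 113 = true := by decide +kernel
theorem c0_3 : allRange (fun i => Nat.beq (act0 i) i) 339 113 = true := by decide +kernel
theorem c0_4 : allRange (fun i => Nat.beq (act0 i) i) 452 113 = true := by decide +kernel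
theorem c0_5 : allRange (fun i => Nat.beq (act0 i) i) 565 113 = true := by decide +kernel
theorem c0_6 : allRange (fun i => Nat.beq (act0 i) i) 678 113 = true := by decide +kernel
theorem c0_7 : allRange (fun i => Nat.beq (act0 i) i) 791 113 = true := by decide +kernel
theorem c0_8 : allRange (fun i => Nat.beq (act0 i) i) 904 113 = true := by decide +kernel
theorem c0_9 : allRange (fun i => Nat.beq (act0 i) i) 1017 113 = true := by decide +kernel
theorem c0_10 : allRange (fun i => Nat.beq (act0 i) i) 1130 113 = true := by decide +kernel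
theorem c0_11 : allRange (fun i => Nat.beq (act0 i) i) 1243 113 = true := by decide +kernel
theorem c0_12 : allRange (fun i => Nat.beq (act0 i) i) 1356 113 = true := by decide +kernel
theorem c0_13 : allRange (fun i => Nat.beq (act0 i) i) 1469 113 = true := by decide +kernel
theorem c0_14 : allRange (fun i => Nat.beq (act0 i) i) 1582 113 = true := by decide +kernel
theorem c0_15 : allRange (fun i => Nat.beq (act0 i) i) 1695 113 = true := by decide +kernel
theorem c0_16 : allRange (fun i => Nat.beq (act0 i) i) 1808 113 = true := by decide +kernel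
theorem c0_17 : allRange (fun i => Nat.beq (act0 i) i) 1921 113 = true := by decide +kernel
theorem c0_18 : allRange (fun i => Nat.beq (act0 i) i) 2034 24 = true := by decide +kernel
theorem h0 : ∀ i, i < T.N → Tab.relActOK T D chk0 i = true := by
  intro i hi
  rw [Tab.relActOK, ← act0_eq]
  exact (range_glue (range_of_allRange c0_0) (range_glue (range_of_allRange c0_1) (range_glue (range_of_allRange c0_2) (range_glue (range_of_allRange c0_3) (range_glue (range_of_allRange c0_4) (range_glue (range_of_allRange c0_5) (range_glue (range_of_allRange c0_6) (range_glue (range_of_allRange c0_7) (range_glue (range_of_allRange c0_8) (range_glue (range_of_allRange c0_9) (range_glue (range_of_allRange c0_10) (range_glue (range_of_allRange c0_11) (range_glue (range_of_allRange c0_12) (range_glue (range_of_allRange c0_13) (range_glue (range_of_allRange c0_14) (range_glue (range_of_allRange c0_15) (range_glue (range_of_allRange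 c0_16) (range_glue (range_of_allRange c0_17) (range_of_allRange c0_18))))))))))))))))))) i (Nat.zero_le _) hi

def chk1 : List Nat := [4, 4]
noncomputable def act1 (i : Nat) : Nat := col4 (col4 (i))
theorem act1_eq (i : Nat) : act1 i = Tab.act T D chk1 i := rfl
theorem c1_0 : allRange (fun i => Nat.beq (act1 i) i) 0 2058 = true := by decide +kernel
theorem h1 : ∀ i, i < T.N → Tab.relActOK T D chk1 i = true := by
  intro i hi
  rw [Tab.relActOK, ← act1_eq]
  exact (range_of_allRange c1_0) i (Nat.zero_le _) hi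

def chk2 : List Nat := [2, 2]
noncomputable def act2 (i : Nat) : Nat := col2 (col2 (i))
theorem act2_eq (i : Nat) : act2 i = Tab.act T D chk2 i := rfl
theorem c2_0 : allRange (fun i => Nat.beq (act2 i) i) 0 2058 = true := by decide +kernel
theorem h2 : ∀ i, i < T.N → Tab.relActOK T D chk2 i = true := by
  intro i hi
  rw [Tab.relActOK, ← act2_eq]
  exact (range_of_allRange c2_0) i (Nat.zero_le _) hi

def chk3 : List Nat := [0, 0]
noncomputable def act3 (i : Nat) : Nat := col0 (col0 (i))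
theorem act3_eq (i : Nat) : act3 i = Tab.act T D chk3 i := rfl
theorem c3_0 : allRange (fun i => Nat.beq (act3 i) i) 0 2058 = true := by decide +kernel
theorem h3 : ∀ i, i < T.N → Tab.relActOK T D chk3 i = true := by
  intro i hi
  rw [Tab.relActOK, ← act3_eq]
  exact (range_of_allRange c3_0) i (Nat.zero_le _) hi

def chk4 : List Nat := [3, 3]
noncomputable def act4 (i : Nat) : Nat := col3 (col3 (i))
theorem act4_eq (i : Nat) : act4 i = Tab.act T D chk4 i := rfl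
theorem c4_0 : allRange (fun i => Nat.beq (act4 i) i) 0 2058 = true := by decide +kernel
theorem h4 : ∀ i, i < T.N → Tab.relActOK T D chk4 i = true := by
  intro i hi
  rw [Tab.relActOK, ← act4_eq]
  exact (range_of_allRange c4_0) i (Nat.zero_le _) hi

def chk5 : List Nat := [5, 5]
noncomputable def act5 (i : Nat) : Nat := col5 (col5 (i))
theorem act5_eq (i : Nat) : act5 i = Tab.act T D chk5 i := rfl
theorem c5_0 : allRange (fun i => Nat.beq (act5 i) i) 0 2058 = true := by decide +kernel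
theorem h5 : ∀ i, i < T.N → Tab.relActOK T D chk5 i = true := by
  intro i hi
  rw [Tab.relActOK, ← act5_eq]
  exact (range_of_allRange c5_0) i (Nat.zero_le _) hi

def chk6 : List Nat := [1, 1]
noncomputable def act6 (i : Nat) : Nat := col1 (col1 (i))
theorem act6_eq (i : Nat) : act6 i = Tab.act T D chk6 i := rfl
theorem c6_0 : allRange (fun i => Nat.beq (act6 i) i) 0 2058 = true := by decide +kernel
theorem h6 : ∀ i, i < T.N → Tab.relActOK T D chk6 i = true := by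
  intro i hi
  rw [Tab.relActOK, ← act6_eq]
  exact (range_of_allRange c6_0) i (Nat.zero_le _) hi

def chk7 : List Nat := [6, 6]
noncomputable def act7 (i : Nat) : Nat := col6 (col6 (i))
theorem act7_eq (i : Nat) : act7 i = Tab.act T D chk7 i := rfl
theorem c7_0 : allRange (fun i => Nat.beq (act7 i) i) 0 2058 = true := by decide +kernel
theorem h7 : ∀ i, i < T.N → Tab.relActOK T D chk7 i = true := by
  intro i hi
  rw [Tab.relActOK, ← act7_eq]
  exact (range_of_allRange c7_0) i (Nat.zero_le _) hi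

def chk8 : List Nat := [4, 2, 1, 0, 2, 1, 0, 2, 1, 0]
noncomputable def act8 (i : Nat) : Nat := col4 (col2 (col1 (col0 (col2 (col1 (col0 (col2 (col1 (col0 (i))))))))))
theorem act8_eq (i : Nat) : act8 i = Tab.act T D chk8 i := rfl
theorem c8_0 : allRange (fun i => Nat.beq (act8 i) i) 0 2058 = true := by decide +kernel
theorem h8 : ∀ i, i < T.N → Tab.relActOK T D chk8 i = true := by
  intro i hi
  rw [Tab.relActOK, ← act8_eq]
  exact (range_of_allRange c8_0) i (Nat.zero_le _) hi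

def chk9 : List Nat := [2, 3, 5, 6, 2, 3, 5, 6, 2, 3, 5, 6, 2, 3, 5, 6]
noncomputable def act9 (i : Nat) : Nat := col2 (col3 (col5 (col6 (col2 (col3 (col5 (col6 (col2 (col3 (col5 (col6 (col2 (col3 (col5 (col6 (i))))))))))))))))
theorem act9_eq (i : Nat) : act9 i = Tab.act T D chk9 i := rfl
theorem c9_0 : allRange (fun i => Nat.beq (act9 i) i) 0 2058 = true := by decide +kernel
theorem h9 : ∀ i, i < T.N → Tab.relActOK T D chk9 i = true := by
  intro i hi
  rw [Tab.relActOK, ← act9_eq]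
  exact (range_of_allRange c9_0) i (Nat.zero_le _) hi

def chk10 : List Nat := [1, 2, 3, 4, 1, 2, 3, 4, 1, 2, 3, 4, 1, 2, 3, 4, 1, 2, 3, 4, 1, 2, 3, 4, 1, 2, 3, 4, 5, 5, 4, 3, 2, 1, 4, 3, 2, 1, 4, 3, 2, 1, 4, 3, 2, 1, 4, 3, 2, 1, 4, 3, 2, 1, 4, 3, 2, 1, 3, 2, 2, 3]
noncomputable def act10 (i : Nat) : Nat := col1 (col2 (col3 (col4 (col1 (col2 (col3 (col4 (col1 (col2 (col3 (col4 (col1 (col2 (col3 (col4 (col1 (col2 (col3 (col4 (col1 (col2 (col3 (col4 (col1 (col2 (col3 (col4 (col5 (col5 (col4 (col3 (col2 (col1 (col4 (col3 (col2 (col1 (col4 (col3 (col2 (col1 (col4 (col3 (col2 (col1 (col4 (col3 (col2 (col1 (col4 (col3 (col2 (col1 (col4 (col3 (col2 (col1 (col3 (col2 (col2 (col3 (i))))))))))))))))))))))))))))))))))))))))))))))))))))))))))))))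
theorem act10_eq (i : Nat) : act10 i = Tab.act T D chk10 i := rfl
theorem c10_0 : allRange (fun i => Nat.beq (act10 i) i) 0 937 = true := by decide +kernel
theorem c10_1 : allRange (fun i => Nat.beq (act10 i) i) 937 937 = true := by decide +kernel
theorem c10_2 : allRange (fun i => Nat.beq (act10 i) i) 1874 184 = true := by decide +kernel
theorem h10 : ∀ i, i < T.N → Tab.relActOK T D chk10 i = true := by
  intro i hi
  rw [Tab.relActOK, ← act10_eq]
  exact (range_glue (range_of_allRange c10_0) (range_glue (range_of_allRange c10_1) (range_of_allRange c10_2))) i (Nat.zero_le _) hi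

def chk11 : List Nat := [2, 3, 1, 2, 3, 4, 1, 2, 3, 4, 1, 2, 3, 4, 1, 2, 3, 4, 1, 2, 3, 4, 1, 2, 3, 4, 1, 2, 3, 4, 5, 2, 3, 1, 2, 3, 4, 1, 2, 3, 4, 1, 2, 3, 4, 1, 2, 3, 4, 1, 2, 3, 4, 1, 2, 3, 4, 1, 2, 3, 4, 5, 2, 3, 1, 2, 3, 4, 1, 2, 3, 4, 1, 2, 3, 4, 1, 2, 3, 4, 1, 2, 3, 4, 1, 2, 3, 4, 1, 2, 3, 4, 5, 2, 3, 1, 2, 3, 4, 1, 2, 3, 4, 1, 2, 3, 4, 1, 2, 3, 4, 1, 2, 3, 4, 1, 2, 3, 4, 1, 2, 3, 4, 5, 2, 3, 1, 2, 3, 4, 1, 2, 3, 4, 1, 2, 3, 4, 1, 2, 3, 4, 1, 2, 3, 4, 1, 2, 3, 4, 1, 2, 3, 4, 5, 2, 3, 1, 2, 3, 4, 1, 2, 3, 4, 1, 2, 3, 4, 1, 2, 3, 4, 1, 2, 3, 4, 1, 2, 3, 4, 1, 2, 3, 4, 5, 2, 3, 1, 2, 3, 4, 1, 2, 3, 4, 1, 2, 3, 4, 1, 2, 3, 4, 1, 2, 3, 4, 1, 2, 3, 4, 1, 2, 3, 4, 5, 2, 3, 1, 2, 3, 4, 1, 2, 3, 4, 1, 2, 3, 4, 1, 2, 3, 4, 1, 2, 3, 4, 1, 2, 3, 4, 1, 2, 3, 4, 5, 2, 3, 1, 2, 3, 4, 1, 2, 3, 4, 1, 2, 3, 4, 1, 2, 3, 4, 1, 2, 3, 4, 1, 2, 3, 4, 1, 2, 3, 4, 5, 2, 3, 1, 2, 3, 4, 1, 2, 3, 4, 1, 2, 3, 4, 1, 2, 3, 4, 1, 2,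 3, 4, 1, 2, 3, 4, 1, 2, 3, 4, 5, 2, 3, 1, 2, 3, 4, 1, 2, 3, 4, 1, 2, 3, 4, 1, 2, 3, 4, 1, 2, 3, 4, 1, 2, 3, 4, 1, 2, 3, 4, 5, 2, 3, 1, 2, 3, 4, 1, 2, 3, 4, 1, 2, 3, 4, 1, 2, 3, 4, 1, 2, 3, 4, 1, 2, 3, 4, 1, 2, 3, 4, 5, 2, 3, 1, 2, 3, 4, 1, 2, 3, 4, 1, 2, 3, 4, 1, 2, 3, 4, 1, 2, 3, 4, 1, 2, 3, 4, 1, 2, 3, 4, 5, 2, 3, 1, 2, 3, 4, 1, 2, 3, 4, 1, 2, 3, 4, 1, 2, 3, 4, 1, 2, 3, 4, 1, 2, 3, 4, 1, 2, 3, 4, 5, 2, 3, 1, 2, 3, 4, 1, 2, 3, 4, 1, 2, 3, 4, 1, 2, 3, 4, 1, 2, 3, 4, 1, 2, 3, 4, 1, 2, 3, 4, 5, 2, 3, 1, 2, 3, 4, 1, 2, 3, 4, 1, 2, 3, 4, 1, 2, 3, 4, 1, 2, 3, 4, 1, 2, 3, 4, 1, 2, 3, 4, 5, 2, 3, 1, 2, 3, 4, 1, 2, 3, 4, 1, 2, 3, 4, 1, 2, 3, 4, 1, 2, 3, 4, 1, 2, 3, 4, 1, 2, 3, 4, 5]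
noncomputable def act11 (i : Nat) : Nat := col2 (col3 (col1 (col2 (col3 (col4 (col1 (col2 (col3 (col4 (col1 (col2 (col3 (col4 (col1 (col2 (col3 (col4 (col1 (col2 (col3 (col4 (col1 (col2 (col3 (col4 (col1 (col2 (col3 (col4 (col5 (col2 (col3 (col1 (col2 (col3 (col4 (col1 (col2 (col3 (col4 (col1 (col2 (col3 (col4 (col1 (col2 (col3 (col4 (col1 (col2 (col3 (col4 (col1 (col2 (col3 (col4 (col1 (col2 (col3 (col4 (col5 (col2 (col3 (col1 (col2 (col3 (col4 (col1 (col2 (col3 (col4 (col1 (col2 (col3 (col4 (col1 (col2 (col3 (col4 (col1 (col2 (col3 (col4 (col1 (col2 (col3 (col4 (col1 (col2 (col3 (col4 (col5 (col2 (col3 (col1 (col2 (col3 (col4 (col1 (col2 (col3 (col4 (col1 (col2 (col3 (col4 (col1 (col2 (col3 (col4 (col1 (col2 (col3 (col4 (col1 (col2 (col3 (col4 (col1 (col2 (col3 (col4 (col5 (col2 (col3 (col1 (col2 (col3 (col4 (col1 (col2 (col3 (col4 (col1 (col2 (col3 (col4 (col1 (col2 (col3 (col4 (col1 (col2 (col3 (col4 (col1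 (col2 (col3 (col4 (col1 (col2 (col3 (col4 (col5 (col2 (col3 (col1 (col2 (col3 (col4 (col1 (col2 (col3 (col4 (col1 (col2 (col3 (col4 (col1 (col2 (col3 (col4 (col1 (col2 (col3 (col4 (col1 (col2 (col3 (col4 (col1 (col2 (col3 (col4 (col5 (col2 (col3 (col1 (col2 (col3 (col4 (col1 (col2 (col3 (col4 (col1 (col2 (col3 (col4 (col1 (col2 (col3 (col4 (col1 (col2 (col3 (col4 (col1 (col2 (col3 (col4 (col1 (col2 (col3 (col4 (col5 (col2 (col3 (col1 (col2 (col3 (col4 (col1 (col2 (col3 (col4 (col1 (col2 (col3 (col4 (col1 (col2 (col3 (col4 (col1 (col2 (col3 (col4 (col1 (col2 (col3 (col4 (col1 (col2 (col3 (col4 (col5 (col2 (col3 (col1 (col2 (col3 (col4 (col1 (col2 (col3 (col4 (col1 (col2 (col3 (col4 (col1 (col2 (col3 (col4 (col1 (col2 (col3 (col4 (col1 (col2 (col3 (col4 (col1 (col2 (col3 (col4 (col5 (col2 (col3 (col1 (col2 (col3 (col4 (col1 (col2 (col3 (col4 (col1 (col2 (col3 (col4 (col1 (col2 (col3 (col4 (col1 (col2 (col3 (col4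 (col1 (col2 (col3 (col4 (col1 (col2 (col3 (col4 (col5 (col2 (col3 (col1 (col2 (col3 (col4 (col1 (col2 (col3 (col4 (col1 (col2 (col3 (col4 (col1 (col2 (col3 (col4 (col1 (col2 (col3 (col4 (col1 (col2 (col3 (col4 (col1 (col2 (col3 (col4 (col5 (col2 (col3 (col1 (col2 (col3 (col4 (col1 (col2 (col3 (col4 (col1 (col2 (col3 (col4 (col1 (col2 (col3 (col4 (col1 (col2 (col3 (col4 (col1 (col2 (col3 (col4 (col1 (col2 (col3 (col4 (col5 (col2 (col3 (col1 (col2 (col3 (col4 (col1 (col2 (col3 (col4 (col1 (col2 (col3 (col4 (col1 (col2 (col3 (col4 (col1 (col2 (col3 (col4 (col1 (col2 (col3 (col4 (col1 (col2 (col3 (col4 (col5 (col2 (col3 (col1 (col2 (col3 (col4 (col1 (col2 (col3 (col4 (col1 (col2 (col3 (col4 (col1 (col2 (col3 (col4 (col1 (col2 (col3 (col4 (col1 (col2 (col3 (col4 (col1 (col2 (col3 (col4 (col5 (col2 (col3 (col1 (col2 (col3 (col4 (col1 (col2 (col3 (col4 (col1 (col2 (col3 (col4 (col1 (col2 (col3 (col4 (col1 (col2 (col3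 (col4 (col1 (col2 (col3 (col4 (col1 (col2 (col3 (col4 (col5 (col2 (col3 (col1 (col2 (col3 (col4 (col1 (col2 (col3 (col4 (col1 (col2 (col3 (col4 (col1 (col2 (col3 (col4 (col1 (col2 (col3 (col4 (col1 (col2 (col3 (col4 (col1 (col2 (col3 (col4 (col5 (col2 (col3 (col1 (col2 (col3 (col4 (col1 (col2 (col3 (col4 (col1 (col2 (col3 (col4 (col1 (col2 (col3 (col4 (col1 (col2 (col3 (col4 (col1 (col2 (col3 (col4 (col1 (col2 (col3 (col4 (col5 (i)))))))))))))))))))))))))))))))))))))))))))))))))))))))))))))))))))))))))))))))))))))))))))))))))))))))))))))))))))))))))))))))))))))))))))))))))))))))))))))))))))))))))))))))))))))))))))))))))))))))))))))))))))))))))))))))))))))))))))))))))))))))))))))))))))))))))))))))))))))))))))))))))))))))))))))))))))))))))))))))))))))))))))))))))))))))))))))))))))))))))))))))))))))))))))))))))))))))))))))))))))))))))))))))))))))))))))))))))))))))))))))))))))))))))))))))))))))))))))))))))))))))))))))))))))))))))))))))))))))))))))))))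
theorem act11_eq (i : Nat) : act11 i = Tab.act T D chk11 i := rfl
theorem c11_0 : allRange (fun i => Nat.beq (act11 i) i) 0 113 = true := by decide +kernel
theorem c11_1 : allRange (fun i => Nat.beq (act11 i) i) 113 113 = true := by decide +kernel
theorem c11_2 : allRange (fun i => Nat.beq (act11 i) i) 226 113 = true := by decide +kernel
theorem c11_3 : allRange (fun i => Nat.beq (act11 i) i) 339 113 = true := by decide +kernel
theorem c11_4 : allRange (fun i => Nat.beq (act11 i) i) 452 113 = true := by decide +kernel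
theorem c11_5 : allRange (fun i => Nat.beq (act11 i) i) 565 113 = true := by decide +kernel
theorem c11_6 : allRange (fun i => Nat.beq (act11 i) i) 678 113 = true := by decide +kernel
theorem c11_7 : allRange (fun i => Nat.beq (act11 i) i) 791 113 = true := by decide +kernel
theorem c11_8 : allRange (fun i => Nat.beq (act11 i) i) 904 113 = true := by decide +kernel
theorem c11_9 : allRange (fun i => Nat.beq (act11 i) i) 1017 113 = true := by decide +kernel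
theorem c11_10 : allRange (fun i => Nat.beq (act11 i) i) 1130 113 = true := by decide +kernel
theorem c11_11 : allRange (fun i => Nat.beq (act11 i) i) 1243 113 = true := by decide +kernel
theorem c11_12 : allRange (fun i => Nat.beq (act11 i) i) 1356 113 = true := by decide +kernel
theorem c11_13 : allRange (fun i => Nat.beq (act11 i) i) 1469 113 = true := by decide +kernel
theorem c11_14 : allRange (fun i => Nat.beq (act11 i) i) 1582 113 = true := by decide +kernel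
theorem c11_15 : allRange (fun i => Nat.beq (act11 i) i) 1695 113 = true := by decide +kernel
theorem c11_16 : allRange (fun i => Nat.beq (act11 i) i) 1808 113 = true := by decide +kernel
theorem c11_17 : allRange (fun i => Nat.beq (act11 i) i) 1921 113 = true := by decide +kernel
theorem c11_18 : allRange (fun i => Nat.beq (act11 i) i) 2034 24 = true := by decide +kernel
theorem h11 : ∀ i, i < T.N → Tab.relActOK T D chk11 i = true := by
  intro i hi
  rw [Tab.relActOK, ← act11_eq]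
  exact (range_glue (range_of_allRange c11_0) (range_glue (range_of_allRange c11_1) (range_glue (range_of_allRange c11_2) (range_glue (range_of_allRange c11_3) (range_glue (range_of_allRange c11_4) (range_glue (range_of_allRange c11_5) (range_glue (range_of_allRange c11_6) (range_glue (range_of_allRange c11_7) (range_glue (range_of_allRange c11_8) (range_glue (range_of_allRange c11_9) (range_glue (range_of_allRange c11_10) (range_glue (range_of_allRange c11_11) (range_glue (range_of_allRange c11_12) (range_glue (range_of_allRange c11_13) (range_glue (range_of_allRange c11_14) (range_glue (range_of_allRange c11_15) (range_glue (range_of_allRange c11_16) (range_glue (range_of_allRange c11_17) (range_of_allRange c11_18))))))))))))))))))) i (Nat.zero_le _) hi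

def chk12 : List Nat := [4, 4]
noncomputable def act12 (i : Nat) : Nat := col4 (col4 (i))
theorem act12_eq (i : Nat) : act12 i = Tab.act T D chk12 i := rfl
theorem c12_0 : allRange (fun i => Nat.beq (act12 i) i) 0 2058 = true := by decide +kernel
theorem h12 : ∀ i, i < T.N → Tab.relActOK T D chk12 i = true := by
  intro i hi
  rw [Tab.relActOK, ← act12_eq]
  exact (range_of_allRange c12_0) i (Nat.zero_le _) hi

def chk13 : List Nat := [2, 3, 1, 2, 3, 4, 1, 2, 3, 4, 1, 2, 3, 4, 1, 2, 3, 4, 1, 2, 3, 4, 1, 2, 3, 4, 1, 2, 3, 4, 5, 2, 3, 1, 2, 3, 4, 1, 2, 3, 4, 1, 2, 3, 4, 1, 2, 3, 4, 1, 2, 3, 4, 1, 2, 3, 4, 1, 2, 3, 4, 5, 2, 3, 1, 2, 3, 4, 1, 2, 3, 4, 1, 2, 3, 4, 1, 2, 3, 4, 1, 2, 3, 4, 1, 2, 3, 4, 1, 2, 3, 4, 5, 4, 5, 4, 3, 2, 1, 4, 3, 2, 1, 4, 3, 2, 1, 4, 3, 2, 1, 4, 3, 2, 1, 4, 3, 2, 1, 4, 3, 2, 1, 3, 2, 4, 2, 3, 1, 2, 3, 4, 1, 2, 3, 4, 1, 2, 3, 4, 1, 2, 3, 4, 1, 2, 3, 4, 1, 2, 3, 4, 1, 2, 3, 4, 5, 4, 2, 3,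 1, 2, 3, 4, 1, 2, 3, 4, 1, 2, 3, 4, 1, 2, 3, 4, 1, 2, 3, 4, 1, 2, 3, 4, 1, 2, 3, 4, 5, 2, 3, 1, 2, 3, 4, 1, 2, 3, 4, 1, 2, 3, 4, 1, 2, 3, 4, 1, 2, 3, 4, 1, 2, 3, 4, 1, 2, 3, 4, 5, 2, 3, 1, 2, 3, 4, 1, 2, 3, 4, 1, 2, 3, 4, 1, 2, 3, 4, 1, 2, 3, 4, 1, 2, 3, 4, 1, 2, 3, 4, 5, 4, 5, 4, 3, 2, 1, 4, 3, 2, 1, 4, 3, 2, 1, 4, 3, 2, 1, 4, 3, 2, 1, 4, 3, 2, 1, 4, 3, 2, 1, 3, 2, 4, 2, 3, 1, 2, 3, 4, 1, 2, 3, 4, 1, 2, 3, 4, 1, 2, 3, 4, 1, 2, 3, 4, 1, 2, 3, 4, 1, 2, 3, 4, 5, 4]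
noncomputable def act13 (i : Nat) : Nat := col2 (col3 (col1 (col2 (col3 (col4 (col1 (col2 (col3 (col4 (col1 (col2 (col3 (col4 (col1 (col2 (col3 (col4 (col1 (col2 (col3 (col4 (col1 (col2 (col3 (col4 (col1 (col2 (col3 (col4 (col5 (col2 (col3 (col1 (col2 (col3 (col4 (col1 (col2 (col3 (col4 (col1 (col2 (col3 (col4 (col1 (col2 (col3 (col4 (col1 (col2 (col3 (col4 (col1 (col2 (col3 (col4 (col1 (col2 (col3 (col4 (col5 (col2 (col3 (col1 (col2 (col3 (col4 (col1 (col2 (col3 (col4 (col1 (col2 (col3 (col4 (col1 (col2 (col3 (col4 (col1 (col2 (col3 (col4 (col1 (col2 (col3 (col4 (col1 (col2 (col3 (col4 (col5 (col4 (col5 (col4 (col3 (col2 (col1 (col4 (col3 (col2 (col1 (col4 (col3 (col2 (col1 (col4 (col3 (col2 (col1 (col4 (col3 (col2 (col1 (col4 (col3 (col2 (col1 (col4 (col3 (col2 (col1 (col3 (col2 (col4 (col2 (col3 (col1 (col2 (col3 (col4 (col1 (col2 (col3 (col4 (col1 (col2 (col3 (col4 (col1 (col2 (col3 (col4 (col1 (col2 (col3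 (col4 (col1 (col2 (col3 (col4 (col1 (col2 (col3 (col4 (col5 (col4 (col2 (col3 (col1 (col2 (col3 (col4 (col1 (col2 (col3 (col4 (col1 (col2 (col3 (col4 (col1 (col2 (col3 (col4 (col1 (col2 (col3 (col4 (col1 (col2 (col3 (col4 (col1 (col2 (col3 (col4 (col5 (col2 (col3 (col1 (col2 (col3 (col4 (col1 (col2 (col3 (col4 (col1 (col2 (col3 (col4 (col1 (col2 (col3 (col4 (col1 (col2 (col3 (col4 (col1 (col2 (col3 (col4 (col1 (col2 (col3 (col4 (col5 (col2 (col3 (col1 (col2 (col3 (col4 (col1 (col2 (col3 (col4 (col1 (col2 (col3 (col4 (col1 (col2 (col3 (col4 (col1 (col2 (col3 (col4 (col1 (col2 (col3 (col4 (col1 (col2 (col3 (col4 (col5 (col4 (col5 (col4 (col3 (col2 (col1 (col4 (col3 (col2 (col1 (col4 (col3 (col2 (col1 (col4 (col3 (col2 (col1 (col4 (col3 (col2 (col1 (col4 (col3 (col2 (col1 (col4 (col3 (col2 (col1 (col3 (col2 (col4 (col2 (col3 (col1 (col2 (col3 (col4 (col1 (col2 (col3 (col4 (col1 (col2 (col3 (col4 (col1 (col2 (col3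 (col4 (col1 (col2 (col3 (col4 (col1 (col2 (col3 (col4 (col1 (col2 (col3 (col4 (col5 (col4 (i))))))))))))))))))))))))))))))))))))))))))))))))))))))))))))))))))))))))))))))))))))))))))))))))))))))))))))))))))))))))))))))))))))))))))))))))))))))))))))))))))))))))))))))))))))))))))))))))))))))))))))))))))))))))))))))))))))))))))))))))))))))))))))))))))))))))))))))))))))))))))))))))))))))))))))))))))))))))))))
theorem act13_eq (i : Nat) : act13 i = Tab.act T D chk13 i := rfl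
theorem c13_0 : allRange (fun i => Nat.beq (act13 i) i) 0 188 = true := by decide +kernel
theorem c13_1 : allRange (fun i => Nat.beq (act13 i) i) 188 188 = true := by decide +kernel
theorem c13_2 : allRange (fun i => Nat.beq (act13 i) i) 376 188 = true := by decide +kernel
theorem c13_3 : allRange (fun i => Nat.beq (act13 i) i) 564 188 = true := by decide +kernel
theorem c13_4 : allRange (fun i => Nat.beq (act13 i) i) 752 188 = true := by decide +kernel
theorem c13_5 : allRange (fun i => Nat.beq (act13 i) i) 940 188 = true := by decide +kernel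
theorem c13_6 : allRange (fun i => Nat.beq (act13 i) i) 1128 188 = true := by decide +kernel
theorem c13_7 : allRange (fun i => Nat.beq (act13 i) i) 1316 188 = true := by decide +kernel
theorem c13_8 : allRange (fun i => Nat.beq (act13 i) i) 1504 188 = true := by decide +kernel
theorem c13_9 : allRange (fun i => Nat.beq (act13 i) i) 1692 188 = true := by decide +kernel
theorem c13_10 : allRange (fun i => Nat.beq (act13 i) i) 1880 178 = true := by decide +kernel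
theorem h13 : ∀ i, i < T.N → Tab.relActOK T D chk13 i = true := by
  intro i hi
  rw [Tab.relActOK, ← act13_eq]
  exact (range_glue (range_of_allRange c13_0) (range_glue (range_of_allRange c13_1) (range_glue (range_of_allRange c13_2) (range_glue (range_of_allRange c13_3) (range_glue (range_of_allRange c13_4) (range_glue (range_of_allRange c13_5) (range_glue (range_of_allRange c13_6) (range_glue (range_of_allRange c13_7) (range_glue (range_of_allRange c13_8) (range_glue (range_of_allRange c13_9) (range_of_allRange c13_10))))))))))) i (Nat.zero_le _) hi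

def chk14 : List Nat := [2, 3, 1, 2, 3, 4, 1, 2, 3, 4, 1, 2, 3, 4, 1, 2, 3, 4, 1, 2, 3, 4, 1, 2, 3, 4, 1, 2, 3, 4, 5, 2, 3, 1, 2, 3, 4, 1, 2, 3, 4, 1, 2, 3, 4, 1, 2, 3, 4, 1, 2, 3, 4, 1, 2, 3, 4, 1, 2, 3, 4, 5, 2, 3, 1, 2, 3, 4, 1, 2, 3, 4, 1, 2, 3, 4, 1, 2, 3, 4, 1, 2, 3, 4, 1, 2, 3, 4, 1, 2, 3, 4, 5, 2, 3, 1, 2, 3, 4, 1, 2, 3, 4, 1, 2, 3, 4, 1, 2, 3, 4, 1, 2, 3, 4, 1, 2, 3, 4, 1, 2, 3, 4, 5, 2, 3, 1, 2, 3, 4, 1, 2, 3, 4, 1, 2, 3, 4, 1, 2, 3, 4, 1, 2, 3, 4, 1, 2, 3, 4, 1, 2, 3, 4, 5, 4, 2, 3, 1, 2, 3, 4, 1, 2, 3, 4, 1, 2, 3, 4, 1, 2, 3, 4, 1, 2, 3, 4, 1, 2, 3, 4, 1, 2, 3, 4, 5, 2, 3, 1, 2, 3, 4, 1, 2, 3, 4, 1, 2, 3, 4, 1, 2, 3, 4, 1, 2, 3, 4, 1, 2, 3, 4, 1, 2, 3, 4, 5, 2, 3, 1, 2, 3, 4, 1, 2, 3, 4, 1, 2, 3, 4, 1, 2, 3, 4, 1, 2, 3, 4, 1, 2, 3, 4, 1, 2, 3, 4, 5, 2, 3, 1, 2, 3, 4, 1, 2, 3, 4, 1, 2, 3, 4, 1, 2, 3, 4, 1, 2, 3, 4, 1, 2, 3, 4, 1, 2, 3, 4, 5, 2, 3, 1, 2, 3, 4, 1, 2, 3, 4, 1, 2, 3, 4, 1, 2, 3, 4, 1,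 2, 3, 4, 1, 2, 3, 4, 1, 2, 3, 4, 5, 4, 2, 3, 1, 2, 3, 4, 1, 2, 3, 4, 1, 2, 3, 4, 1, 2, 3, 4, 1, 2, 3, 4, 1, 2, 3, 4, 1, 2, 3, 4, 5, 2, 3, 1, 2, 3, 4, 1, 2, 3, 4, 1, 2, 3, 4, 1, 2, 3, 4, 1, 2, 3, 4, 1, 2, 3, 4, 1, 2, 3, 4, 5, 2, 3, 1, 2, 3, 4, 1, 2, 3, 4, 1, 2, 3, 4, 1, 2, 3, 4, 1, 2, 3, 4, 1, 2, 3, 4, 1, 2, 3, 4, 5, 2, 3, 1, 2, 3, 4, 1, 2, 3, 4, 1, 2, 3, 4, 1, 2, 3, 4, 1, 2, 3, 4, 1, 2, 3, 4, 1, 2, 3, 4, 5, 2, 3, 1, 2, 3, 4, 1, 2, 3, 4, 1, 2, 3, 4, 1, 2, 3, 4, 1, 2, 3, 4, 1, 2, 3, 4, 1, 2, 3, 4, 5, 4]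
noncomputable def act14 (i : Nat) : Nat := col2 (col3 (col1 (col2 (col3 (col4 (col1 (col2 (col3 (col4 (col1 (col2 (col3 (col4 (col1 (col2 (col3 (col4 (col1 (col2 (col3 (col4 (col1 (col2 (col3 (col4 (col1 (col2 (col3 (col4 (col5 (col2 (col3 (col1 (col2 (col3 (col4 (col1 (col2 (col3 (col4 (col1 (col2 (col3 (col4 (col1 (col2 (col3 (col4 (col1 (col2 (col3 (col4 (col1 (col2 (col3 (col4 (col1 (col2 (col3 (col4 (col5 (col2 (col3 (col1 (col2 (col3 (col4 (col1 (col2 (col3 (col4 (col1 (col2 (col3 (col4 (col1 (col2 (col3 (col4 (col1 (col2 (col3 (col4 (col1 (col2 (col3 (col4 (col1 (col2 (col3 (col4 (col5 (col2 (col3 (col1 (col2 (col3 (col4 (col1 (col2 (col3 (col4 (col1 (col2 (col3 (col4 (col1 (col2 (col3 (col4 (col1 (col2 (col3 (col4 (col1 (col2 (col3 (col4 (col1 (col2 (col3 (col4 (col5 (col2 (col3 (col1 (col2 (col3 (col4 (col1 (col2 (col3 (col4 (col1 (col2 (col3 (col4 (col1 (col2 (col3 (col4 (col1 (col2 (col3 (col4 (col1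 (col2 (col3 (col4 (col1 (col2 (col3 (col4 (col5 (col4 (col2 (col3 (col1 (col2 (col3 (col4 (col1 (col2 (col3 (col4 (col1 (col2 (col3 (col4 (col1 (col2 (col3 (col4 (col1 (col2 (col3 (col4 (col1 (col2 (col3 (col4 (col1 (col2 (col3 (col4 (col5 (col2 (col3 (col1 (col2 (col3 (col4 (col1 (col2 (col3 (col4 (col1 (col2 (col3 (col4 (col1 (col2 (col3 (col4 (col1 (col2 (col3 (col4 (col1 (col2 (col3 (col4 (col1 (col2 (col3 (col4 (col5 (col2 (col3 (col1 (col2 (col3 (col4 (col1 (col2 (col3 (col4 (col1 (col2 (col3 (col4 (col1 (col2 (col3 (col4 (col1 (col2 (col3 (col4 (col1 (col2 (col3 (col4 (col1 (col2 (col3 (col4 (col5 (col2 (col3 (col1 (col2 (col3 (col4 (col1 (col2 (col3 (col4 (col1 (col2 (col3 (col4 (col1 (col2 (col3 (col4 (col1 (col2 (col3 (col4 (col1 (col2 (col3 (col4 (col1 (col2 (col3 (col4 (col5 (col2 (col3 (col1 (col2 (col3 (col4 (col1 (col2 (col3 (col4 (col1 (col2 (col3 (col4 (col1 (col2 (col3 (col4 (col1 (col2 (col3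 (col4 (col1 (col2 (col3 (col4 (col1 (col2 (col3 (col4 (col5 (col4 (col2 (col3 (col1 (col2 (col3 (col4 (col1 (col2 (col3 (col4 (col1 (col2 (col3 (col4 (col1 (col2 (col3 (col4 (col1 (col2 (col3 (col4 (col1 (col2 (col3 (col4 (col1 (col2 (col3 (col4 (col5 (col2 (col3 (col1 (col2 (col3 (col4 (col1 (col2 (col3 (col4 (col1 (col2 (col3 (col4 (col1 (col2 (col3 (col4 (col1 (col2 (col3 (col4 (col1 (col2 (col3 (col4 (col1 (col2 (col3 (col4 (col5 (col2 (col3 (col1 (col2 (col3 (col4 (col1 (col2 (col3 (col4 (col1 (col2 (col3 (col4 (col1 (col2 (col3 (col4 (col1 (col2 (col3 (col4 (col1 (col2 (col3 (col4 (col1 (col2 (col3 (col4 (col5 (col2 (col3 (col1 (col2 (col3 (col4 (col1 (col2 (col3 (col4 (col1 (col2 (col3 (col4 (col1 (col2 (col3 (col4 (col1 (col2 (col3 (col4 (col1 (col2 (col3 (col4 (col1 (col2 (col3 (col4 (col5 (col2 (col3 (col1 (col2 (col3 (col4 (col1 (col2 (col3 (col4 (col1 (col2 (col3 (col4 (col1 (col2 (col3 (col4 (col1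 (col2 (col3 (col4 (col1 (col2 (col3 (col4 (col1 (col2 (col3 (col4 (col5 (col4 (i))))))))))))))))))))))))))))))))))))))))))))))))))))))))))))))))))))))))))))))))))))))))))))))))))))))))))))))))))))))))))))))))))))))))))))))))))))))))))))))))))))))))))))))))))))))))))))))))))))))))))))))))))))))))))))))))))))))))))))))))))))))))))))))))))))))))))))))))))))))))))))))))))))))))))))))))))))))))))))))))))))))))))))))))))))))))))))))))))))))))))))))))))))))))))))))))))))))))))))))))))))))))))))))))))))))))))))))))))))))))))))))))))))))))))))))))))))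
theorem act14_eq (i : Nat) : act14 i = Tab.act T D chk14 i := rfl
theorem c14_0 : allRange (fun i => Nat.beq (act14 i) i) 0 127 = true := by decide +kernel
theorem c14_1 : allRange (fun i => Nat.beq (act14 i) i) 127 127 = true := by decide +kernel
theorem c14_2 : allRange (fun i => Nat.beq (act14 i) i) 254 127 = true := by decide +kernel
theorem c14_3 : allRange (fun i => Nat.beq (act14 i) i) 381 127 = true := by decide +kernel
theorem c14_4 : allRange (fun i => Nat.beq (act14 i) i) 508 127 = true := by decide +kernel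
theorem c14_5 : allRange (fun i => Nat.beq (act14 i) i) 635 127 = true := by decide +kernel
theorem c14_6 : allRange (fun i => Nat.beq (act14 i) i) 762 127 = true := by decide +kernel
theorem c14_7 : allRange (fun i => Nat.beq (act14 i) i) 889 127 = true := by decide +kernel
theorem c14_8 : allRange (fun i => Nat.beq (act14 i) i) 1016 127 = true := by decide +kernel
theorem c14_9 : allRange (fun i => Nat.beq (act14 i) i) 1143 127 = true := by decide +kernel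
theorem c14_10 : allRange (fun i => Nat.beq (act14 i) i) 1270 127 = true := by decide +kernel
theorem c14_11 : allRange (fun i => Nat.beq (act14 i) i) 1397 127 = true := by decide +kernel
theorem c14_12 : allRange (fun i => Nat.beq (act14 i) i) 1524 127 = true := by decide +kernel
theorem c14_13 : allRange (fun i => Nat.beq (act14 i) i) 1651 127 = true := by decide +kernel
theorem c14_14 : allRange (fun i => Nat.beq (act14 i) i) 1778 127 = true := by decide +kernel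
theorem c14_15 : allRange (fun i => Nat.beq (act14 i) i) 1905 127 = true := by decide +kernel
theorem c14_16 : allRange (fun i => Nat.beq (act14 i) i) 2032 26 = true := by decide +kernel
theorem h14 : ∀ i, i < T.N → Tab.relActOK T D chk14 i = true := by
  intro i hi
  rw [Tab.relActOK, ← act14_eq]
  exact (range_glue (range_of_allRange c14_0) (range_glue (range_of_allRange c14_1) (range_glue (range_of_allRange c14_2) (range_glue (range_of_allRange c14_3) (range_glue (range_of_allRange c14_4) (range_glue (range_of_allRange c14_5) (range_glue (range_of_allRange c14_6) (range_glue (range_of_allRange c14_7) (range_glue (range_of_allRange c14_8) (range_glue (range_of_allRange c14_9) (range_glue (range_of_allRange c14_10) (range_glue (range_of_allRange c14_11) (range_glue (range_of_allRange c14_12) (range_glue (range_of_allRange c14_13) (range_glue (range_of_allRange c14_14) (range_glue (range_of_allRange c14_15)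 (range_of_allRange c14_16))))))))))))))))) i (Nat.zero_le _) hi

def chk15 : List Nat := [2, 2]
noncomputable def act15 (i : Nat) : Nat := col2 (col2 (i))
theorem act15_eq (i : Nat) : act15 i = Tab.act T D chk15 i := rfl
theorem c15_0 : allRange (fun i => Nat.beq (act15 i) i) 0 2058 = true := by decide +kernel
theorem h15 : ∀ i, i < T.N → Tab.relActOK T D chk15 i = true := by
  intro i hi
  rw [Tab.relActOK, ← act15_eq]
  exact (range_of_allRange c15_0) i (Nat.zero_le _) hi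

def chk16 : List Nat := [4, 2, 4, 2]
noncomputable def act16 (i : Nat) : Nat := col4 (col2 (col4 (col2 (i))))
theorem act16_eq (i : Nat) : act16 i = Tab.act T D chk16 i := rfl
theorem c16_0 : allRange (fun i => Nat.beq (act16 i) i) 0 2058 = true := by decide +kernel
theorem h16 : ∀ i, i < T.N → Tab.relActOK T D chk16 i = true := by
  intro i hi
  rw [Tab.relActOK, ← act16_eq]
  exact (range_of_allRange c16_0) i (Nat.zero_le _) hi

def chk17 : List Nat := [2, 3, 1, 2, 3, 4, 1, 2, 3, 4, 1, 2, 3, 4, 1, 2, 3, 4, 1, 2, 3, 4, 1, 2, 3, 4, 1, 2, 3, 4, 5, 2, 2, 3, 1, 2, 3, 4, 1, 2, 3, 4, 1, 2, 3, 4, 1, 2, 3, 4, 1, 2, 3, 4, 1, 2, 3, 4, 1, 2, 3, 4, 5, 2, 2, 3, 1, 2, 3, 4, 1, 2, 3, 4, 1, 2, 3, 4, 1, 2, 3, 4, 1, 2, 3, 4, 1, 2, 3, 4, 1, 2, 3, 4, 5, 2, 2, 3, 1, 2, 3, 4, 1, 2, 3, 4, 1, 2, 3, 4, 1, 2, 3, 4, 1, 2, 3, 4, 1, 2, 3, 4, 1, 2, 3, 4, 5, 2, 2, 3, 1, 2, 3, 4, 1, 2, 3, 4, 1, 2, 3, 4, 1, 2, 3, 4, 1, 2, 3, 4, 1, 2, 3, 4,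 1, 2, 3, 4, 5, 2]
noncomputable def act17 (i : Nat) : Nat := col2 (col3 (col1 (col2 (col3 (col4 (col1 (col2 (col3 (col4 (col1 (col2 (col3 (col4 (col1 (col2 (col3 (col4 (col1 (col2 (col3 (col4 (col1 (col2 (col3 (col4 (col1 (col2 (col3 (col4 (col5 (col2 (col2 (col3 (col1 (col2 (col3 (col4 (col1 (col2 (col3 (col4 (col1 (col2 (col3 (col4 (col1 (col2 (col3 (col4 (col1 (col2 (col3 (col4 (col1 (col2 (col3 (col4 (col1 (col2 (col3 (col4 (col5 (col2 (col2 (col3 (col1 (col2 (col3 (col4 (col1 (col2 (col3 (col4 (col1 (col2 (col3 (col4 (col1 (col2 (col3 (col4 (col1 (col2 (col3 (col4 (col1 (col2 (col3 (col4 (col1 (col2 (col3 (col4 (col5 (col2 (col2 (col3 (col1 (col2 (col3 (col4 (col1 (col2 (col3 (col4 (col1 (col2 (col3 (col4 (col1 (col2 (col3 (col4 (col1 (col2 (col3 (col4 (col1 (col2 (col3 (col4 (col1 (col2 (col3 (col4 (col5 (col2 (col2 (col3 (col1 (col2 (col3 (col4 (col1 (col2 (col3 (col4 (col1 (col2 (col3 (col4 (col1 (col2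 (col3 (col4 (col1 (col2 (col3 (col4 (col1 (col2 (col3 (col4 (col1 (col2 (col3 (col4 (col5 (col2 (i))))))))))))))))))))))))))))))))))))))))))))))))))))))))))))))))))))))))))))))))))))))))))))))))))))))))))))))))))))))))))))))))))))))))))))))))))))))))))))))))
theorem act17_eq (i : Nat) : act17 i = Tab.act T D chk17 i := rfl
theorem c17_0 : allRange (fun i => Nat.beq (act17 i) i) 0 370 = true := by decide +kernel
theorem c17_1 : allRange (fun i => Nat.beq (act17 i) i) 370 370 = true := by decide +kernel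
theorem c17_2 : allRange (fun i => Nat.beq (act17 i) i) 740 370 = true := by decide +kernel
theorem c17_3 : allRange (fun i => Nat.beq (act17 i) i) 1110 370 = true := by decide +kernel
theorem c17_4 : allRange (fun i => Nat.beq (act17 i) i) 1480 370 = true := by decide +kernel
theorem c17_5 : allRange (fun i => Nat.beq (act17 i) i) 1850 208 = true := by decide +kernel
theorem h17 : ∀ i, i < T.N → Tab.relActOK T D chk17 i = true := by
  intro i hi
  rw [Tab.relActOK, ← act17_eq]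
  exact (range_glue (range_of_allRange c17_0) (range_glue (range_of_allRange c17_1) (range_glue (range_of_allRange c17_2) (range_glue (range_of_allRange c17_3) (range_glue (range_of_allRange c17_4) (range_of_allRange c17_5)))))) i (Nat.zero_le _) hi

def chk18 : List Nat := [2, 3, 1, 2, 3, 4, 1, 2, 3, 4, 1, 2, 3, 4, 1, 2, 3, 4, 1, 2, 3, 4, 1, 2, 3, 4, 1, 2, 3, 4, 5, 4, 5, 4, 3, 2, 1, 4, 3, 2, 1, 4, 3, 2, 1, 4, 3, 2, 1, 4, 3, 2, 1, 4, 3, 2, 1, 4, 3, 2, 1, 3, 2, 4, 2, 5, 4, 3, 2, 1, 4, 3, 2, 1, 4, 3, 2, 1, 4, 3, 2, 1, 4, 3, 2, 1, 4, 3, 2, 1, 4, 3, 2, 1, 3, 2, 4, 2, 3, 1, 2, 3, 4, 1, 2, 3, 4, 1, 2, 3, 4, 1, 2, 3, 4, 1, 2, 3, 4, 1, 2, 3, 4, 1, 2, 3, 4, 5, 2, 2, 3, 1, 2, 3, 4, 1, 2, 3, 4, 1, 2, 3, 4, 1, 2, 3, 4, 1, 2, 3, 4, 1, 2, 3, 4, 1, 2, 3, 4, 5, 2, 4, 2, 3, 1, 2, 3, 4, 1, 2, 3, 4, 1, 2, 3, 4, 1, 2, 3, 4, 1, 2, 3, 4, 1, 2, 3, 4, 1, 2, 3, 4, 5, 2, 4, 2, 3, 1, 2, 3, 4, 1, 2, 3, 4, 1, 2, 3, 4, 1, 2, 3, 4, 1, 2,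 3, 4, 1, 2, 3, 4, 1, 2, 3, 4, 5, 2]
noncomputable def act18 (i : Nat) : Nat := col2 (col3 (col1 (col2 (col3 (col4 (col1 (col2 (col3 (col4 (col1 (col2 (col3 (col4 (col1 (col2 (col3 (col4 (col1 (col2 (col3 (col4 (col1 (col2 (col3 (col4 (col1 (col2 (col3 (col4 (col5 (col4 (col5 (col4 (col3 (col2 (col1 (col4 (col3 (col2 (col1 (col4 (col3 (col2 (col1 (col4 (col3 (col2 (col1 (col4 (col3 (col2 (col1 (col4 (col3 (col2 (col1 (col4 (col3 (col2 (col1 (col3 (col2 (col4 (col2 (col5 (col4 (col3 (col2 (col1 (col4 (col3 (col2 (col1 (col4 (col3 (col2 (col1 (col4 (col3 (col2 (col1 (col4 (col3 (col2 (col1 (col4 (col3 (col2 (col1 (col4 (col3 (col2 (col1 (col3 (col2 (col4 (col2 (col3 (col1 (col2 (col3 (col4 (col1 (col2 (col3 (col4 (col1 (col2 (col3 (col4 (col1 (col2 (col3 (col4 (col1 (col2 (col3 (col4 (col1 (col2 (col3 (col4 (col1 (col2 (col3 (col4 (col5 (col2 (col2 (col3 (col1 (col2 (col3 (col4 (col1 (col2 (col3 (col4 (col1 (col2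 (col3 (col4 (col1 (col2 (col3 (col4 (col1 (col2 (col3 (col4 (col1 (col2 (col3 (col4 (col1 (col2 (col3 (col4 (col5 (col2 (col4 (col2 (col3 (col1 (col2 (col3 (col4 (col1 (col2 (col3 (col4 (col1 (col2 (col3 (col4 (col1 (col2 (col3 (col4 (col1 (col2 (col3 (col4 (col1 (col2 (col3 (col4 (col1 (col2 (col3 (col4 (col5 (col2 (col4 (col2 (col3 (col1 (col2 (col3 (col4 (col1 (col2 (col3 (col4 (col1 (col2 (col3 (col4 (col1 (col2 (col3 (col4 (col1 (col2 (col3 (col4 (col1 (col2 (col3 (col4 (col1 (col2 (col3 (col4 (col5 (col2 (i)))))))))))))))))))))))))))))))))))))))))))))))))))))))))))))))))))))))))))))))))))))))))))))))))))))))))))))))))))))))))))))))))))))))))))))))))))))))))))))))))))))))))))))))))))))))))))))))))))))))))))))))))))))))))))))))))))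
theorem act18_eq (i : Nat) : act18 i = Tab.act T D chk18 i := rfl
theorem c18_0 : allRange (fun i => Nat.beq (act18 i) i) 0 262 = true := by decide +kernel
theorem c18_1 : allRange (fun i => Nat.beq (act18 i) i) 262 262 = true := by decide +kernel
theorem c18_2 : allRange (fun i => Nat.beq (act18 i) i) 524 262 = true := by decide +kernel
theorem c18_3 : allRange (fun i => Nat.beq (act18 i) i) 786 262 = true := by decide +kernel
theorem c18_4 : allRange (fun i => Nat.beq (act18 i) i) 1048 262 = true := by decide +kernel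
theorem c18_5 : allRange (fun i => Nat.beq (act18 i) i) 1310 262 = true := by decide +kernel
theorem c18_6 : allRange (fun i => Nat.beq (act18 i) i) 1572 262 = true := by decide +kernel
theorem c18_7 : allRange (fun i => Nat.beq (act18 i) i) 1834 224 = true := by decide +kernel
theorem h18 : ∀ i, i < T.N → Tab.relActOK T D chk18 i = true := by
  intro i hi
  rw [Tab.relActOK, ← act18_eq]
  exact (range_glue (range_of_allRange c18_0) (range_glue (range_of_allRange c18_1) (range_glue (range_of_allRange c18_2) (range_glue (range_of_allRange c18_3) (range_glue (range_of_allRange c18_4) (range_glue (range_of_allRange c18_5) (range_glue (range_of_allRange c18_6) (range_of_allRange c18_7)))))))) i (Nat.zero_le _) hi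

def chk19 : List Nat := [2, 3, 1, 2, 3, 4, 1, 2, 3, 4, 1, 2, 3, 4, 1, 2, 3, 4, 1, 2, 3, 4, 1, 2, 3, 4, 1, 2, 3, 4, 5, 2, 3, 1, 2, 3, 4, 1, 2, 3, 4, 1, 2, 3, 4, 1, 2, 3, 4, 1, 2, 3, 4, 1, 2, 3, 4, 1, 2, 3, 4, 5, 4, 2, 3, 1, 2, 3, 4, 1, 2, 3, 4, 1, 2, 3, 4, 1, 2, 3, 4, 1, 2, 3, 4, 1, 2, 3, 4, 1, 2, 3, 4, 5, 2, 2, 3, 1, 2, 3, 4, 1, 2, 3, 4, 1, 2, 3, 4, 1, 2, 3, 4, 1, 2, 3, 4, 1, 2, 3, 4, 1, 2, 3, 4, 5, 2, 5, 4, 3, 2, 1, 4, 3, 2, 1, 4, 3, 2, 1, 4, 3, 2, 1, 4, 3, 2, 1, 4, 3, 2, 1, 4, 3, 2, 1, 3, 2, 5, 4, 3, 2, 1, 4, 3, 2, 1, 4, 3, 2, 1, 4, 3, 2, 1, 4, 3, 2, 1, 4, 3, 2, 1, 4, 3, 2, 1, 3, 2, 4, 5, 4, 3, 2, 1, 4, 3, 2, 1, 4, 3, 2, 1, 4, 3, 2, 1, 4, 3, 2, 1, 4, 3, 2, 1, 4, 3, 2, 1, 3, 2, 2, 2, 3, 1, 2, 3, 4, 1, 2, 3, 4, 1, 2, 3, 4, 1, 2, 3, 4, 1, 2, 3, 4, 1, 2, 3, 4, 1, 2, 3, 4, 5, 2, 2, 3, 1, 2, 3, 4, 1, 2, 3, 4, 1, 2, 3, 4, 1, 2, 3, 4, 1, 2, 3, 4, 1, 2, 3, 4, 1, 2, 3, 4, 5, 4, 2, 3, 1, 2, 3, 4, 1, 2, 3, 4, 1, 2, 3,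 4, 1, 2, 3, 4, 1, 2, 3, 4, 1, 2, 3, 4, 1, 2, 3, 4, 5, 4]
noncomputable def act19 (i : Nat) : Nat := col2 (col3 (col1 (col2 (col3 (col4 (col1 (col2 (col3 (col4 (col1 (col2 (col3 (col4 (col1 (col2 (col3 (col4 (col1 (col2 (col3 (col4 (col1 (col2 (col3 (col4 (col1 (col2 (col3 (col4 (col5 (col2 (col3 (col1 (col2 (col3 (col4 (col1 (col2 (col3 (col4 (col1 (col2 (col3 (col4 (col1 (col2 (col3 (col4 (col1 (col2 (col3 (col4 (col1 (col2 (col3 (col4 (col1 (col2 (col3 (col4 (col5 (col4 (col2 (col3 (col1 (col2 (col3 (col4 (col1 (col2 (col3 (col4 (col1 (col2 (col3 (col4 (col1 (col2 (col3 (col4 (col1 (col2 (col3 (col4 (col1 (col2 (col3 (col4 (col1 (col2 (col3 (col4 (col5 (col2 (col2 (col3 (col1 (col2 (col3 (col4 (col1 (col2 (col3 (col4 (col1 (col2 (col3 (col4 (col1 (col2 (col3 (col4 (col1 (col2 (col3 (col4 (col1 (col2 (col3 (col4 (col1 (col2 (col3 (col4 (col5 (col2 (col5 (col4 (col3 (col2 (col1 (col4 (col3 (col2 (col1 (col4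 (col3 (col2 (col1 (col4 (col3 (col2 (col1 (col4 (col3 (col2 (col1 (col4 (col3 (col2 (col1 (col4 (col3 (col2 (col1 (col3 (col2 (col5 (col4 (col3 (col2 (col1 (col4 (col3 (col2 (col1 (col4 (col3 (col2 (col1 (col4 (col3 (col2 (col1 (col4 (col3 (col2 (col1 (col4 (col3 (col2 (col1 (col4 (col3 (col2 (col1 (col3 (col2 (col4 (col5 (col4 (col3 (col2 (col1 (col4 (col3 (col2 (col1 (col4 (col3 (col2 (col1 (col4 (col3 (col2 (col1 (col4 (col3 (col2 (col1 (col4 (col3 (col2 (col1 (col4 (col3 (col2 (col1 (col3 (col2 (col2 (col2 (col3 (col1 (col2 (col3 (col4 (col1 (col2 (col3 (col4 (col1 (col2 (col3 (col4 (col1 (col2 (col3 (col4 (col1 (col2 (col3 (col4 (col1 (col2 (col3 (col4 (col1 (col2 (col3 (col4 (col5 (col2 (col2 (col3 (col1 (col2 (col3 (col4 (col1 (col2 (col3 (col4 (col1 (col2 (col3 (col4 (col1 (col2 (col3 (col4 (col1 (col2 (col3 (col4 (col1 (col2 (col3 (col4 (col1 (col2 (col3 (col4 (col5 (col4 (col2 (col3 (col1 (col2 (col3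 (col4 (col1 (col2 (col3 (col4 (col1 (col2 (col3 (col4 (col1 (col2 (col3 (col4 (col1 (col2 (col3 (col4 (col1 (col2 (col3 (col4 (col1 (col2 (col3 (col4 (col5 (col4 (i))))))))))))))))))))))))))))))))))))))))))))))))))))))))))))))))))))))))))))))))))))))))))))))))))))))))))))))))))))))))))))))))))))))))))))))))))))))))))))))))))))))))))))))))))))))))))))))))))))))))))))))))))))))))))))))))))))))))))))))))))))))))))))))))))))))))))))))))))))))))))))))))))))))))))))))))))))))))))))))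
theorem act19_eq (i : Nat) : act19 i = Tab.act T D chk19 i := rfl
theorem c19_0 : allRange (fun i => Nat.beq (act19 i) i) 0 187 = true := by decide +kernel
theorem c19_1 : allRange (fun i => Nat.beq (act19 i) i) 187 187 = true := by decide +kernel
theorem c19_2 : allRange (fun i => Nat.beq (act19 i) i) 374 187 = true := by decide +kernel
theorem c19_3 : allRange (fun i => Nat.beq (act19 i) i) 561 187 = true := by decide +kernel
theorem c19_4 : allRange (fun i => Nat.beq (act19 i) i) 748 187 = true := by decide +kernel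
theorem c19_5 : allRange (fun i => Nat.beq (act19 i) i) 935 187 = true := by decide +kernel
theorem c19_6 : allRange (fun i => Nat.beq (act19 i) i) 1122 187 = true := by decide +kernel
theorem c19_7 : allRange (fun i => Nat.beq (act19 i) i) 1309 187 = true := by decide +kernel
theorem c19_8 : allRange (fun i => Nat.beq (act19 i) i) 1496 187 = true := by decide +kernel
theorem c19_9 : allRange (fun i => Nat.beq (act19 i) i) 1683 187 = true := by decide +kernel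
theorem c19_10 : allRange (fun i => Nat.beq (act19 i) i) 1870 187 = true := by decide +kernel
theorem c19_11 : allRange (fun i => Nat.beq (act19 i) i) 2057 1 = true := by decide +kernel
theorem h19 : ∀ i, i < T.N → Tab.relActOK T D chk19 i = true := by
  intro i hi
  rw [Tab.relActOK, ← act19_eq]
  exact (range_glue (range_of_allRange c19_0) (range_glue (range_of_allRange c19_1) (range_glue (range_of_allRange c19_2) (range_glue (range_of_allRange c19_3) (range_glue (range_of_allRange c19_4) (range_glue (range_of_allRange c19_5) (range_glue (range_of_allRange c19_6) (range_glue (range_of_allRange c19_7) (range_glue (range_of_allRange c19_8) (range_glue (range_of_allRange c19_9) (range_glue (range_of_allRange c19_10) (range_of_allRange c19_11)))))))))))) i (Nat.zero_le _) hi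

def chk20 : List Nat := [0, 2, 3, 1, 2, 3, 4, 1, 2, 3, 4, 1, 2, 3, 4, 1, 2, 3, 4, 1, 2, 3, 4, 1, 2, 3, 4, 1, 2, 3, 4, 5, 2, 3, 1, 2, 3, 4, 1, 2, 3, 4, 1, 2, 3, 4, 1, 2, 3, 4, 1, 2, 3, 4, 1, 2, 3, 4, 1, 2, 3, 4, 5, 2, 3, 1, 2, 3, 4, 1, 2, 3, 4, 1, 2, 3, 4, 1, 2, 3, 4, 1, 2, 3, 4, 1, 2, 3, 4, 1, 2, 3, 4, 5, 2, 5, 4, 3, 2, 1, 4, 3, 2, 1, 4, 3, 2, 1, 4, 3, 2, 1, 4, 3, 2, 1, 4, 3, 2, 1, 4, 3, 2, 1, 3, 2, 2, 2, 3, 1, 2, 3, 4, 1, 2, 3, 4, 1, 2, 3, 4, 1, 2, 3, 4, 1, 2, 3, 4, 1, 2, 3, 4, 1, 2, 3, 4, 5, 2, 5, 4, 3, 2, 1, 4, 3, 2, 1, 4, 3, 2, 1, 4, 3, 2, 1, 4, 3, 2, 1, 4, 3, 2, 1, 4, 3, 2, 1, 3, 2, 5, 4, 3, 2, 1, 4, 3, 2, 1, 4, 3, 2, 1, 4, 3, 2, 1, 4, 3, 2, 1, 4, 3, 2, 1, 4, 3, 2, 1, 3, 2, 5, 4, 3, 2, 1, 4, 3, 2, 1, 4, 3, 2, 1, 4, 3, 2, 1, 4, 3, 2, 1, 4, 3, 2, 1, 4, 3, 2, 1, 3, 2]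
noncomputable def act20 (i : Nat) : Nat := col0 (col2 (col3 (col1 (col2 (col3 (col4 (col1 (col2 (col3 (col4 (col1 (col2 (col3 (col4 (col1 (col2 (col3 (col4 (col1 (col2 (col3 (col4 (col1 (col2 (col3 (col4 (col1 (col2 (col3 (col4 (col5 (col2 (col3 (col1 (col2 (col3 (col4 (col1 (col2 (col3 (col4 (col1 (col2 (col3 (col4 (col1 (col2 (col3 (col4 (col1 (col2 (col3 (col4 (col1 (col2 (col3 (col4 (col1 (col2 (col3 (col4 (col5 (col2 (col3 (col1 (col2 (col3 (col4 (col1 (col2 (col3 (col4 (col1 (col2 (col3 (col4 (col1 (col2 (col3 (col4 (col1 (col2 (col3 (col4 (col1 (col2 (col3 (col4 (col1 (col2 (col3 (col4 (col5 (col2 (col5 (col4 (col3 (col2 (col1 (col4 (col3 (col2 (col1 (col4 (col3 (col2 (col1 (col4 (col3 (col2 (col1 (col4 (col3 (col2 (col1 (col4 (col3 (col2 (col1 (col4 (col3 (col2 (col1 (col3 (col2 (col2 (col2 (col3 (col1 (col2 (col3 (col4 (col1 (col2 (col3 (col4 (col1 (col2 (col3 (col4 (col1 (col2 (col3 (col4 (col1 (col2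 (col3 (col4 (col1 (col2 (col3 (col4 (col1 (col2 (col3 (col4 (col5 (col2 (col5 (col4 (col3 (col2 (col1 (col4 (col3 (col2 (col1 (col4 (col3 (col2 (col1 (col4 (col3 (col2 (col1 (col4 (col3 (col2 (col1 (col4 (col3 (col2 (col1 (col4 (col3 (col2 (col1 (col3 (col2 (col5 (col4 (col3 (col2 (col1 (col4 (col3 (col2 (col1 (col4 (col3 (col2 (col1 (col4 (col3 (col2 (col1 (col4 (col3 (col2 (col1 (col4 (col3 (col2 (col1 (col4 (col3 (col2 (col1 (col3 (col2 (col5 (col4 (col3 (col2 (col1 (col4 (col3 (col2 (col1 (col4 (col3 (col2 (col1 (col4 (col3 (col2 (col1 (col4 (col3 (col2 (col1 (col4 (col3 (col2 (col1 (col4 (col3 (col2 (col1 (col3 (col2 (i))))))))))))))))))))))))))))))))))))))))))))))))))))))))))))))))))))))))))))))))))))))))))))))))))))))))))))))))))))))))))))))))))))))))))))))))))))))))))))))))))))))))))))))))))))))))))))))))))))))))))))))))))))))))))))))))))))))))))))))))))))))))))))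
theorem act20_eq (i : Nat) : act20 i = Tab.act T D chk20 i := rfl
theorem c20_0 : allRange (fun i => Nat.beq (act20 i) i) 0 236 = true := by decide +kernel
theorem c20_1 : allRange (fun i => Nat.beq (act20 i) i) 236 236 = true := by decide +kernel
theorem c20_2 : allRange (fun i => Nat.beq (act20 i) i) 472 236 = true := by decide +kernel
theorem c20_3 : allRange (fun i => Nat.beq (act20 i) i) 708 236 = true := by decide +kernel
theorem c20_4 : allRange (fun i => Nat.beq (act20 i) i) 944 236 = true := by decide +kernel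
theorem c20_5 : allRange (fun i => Nat.beq (act20 i) i) 1180 236 = true := by decide +kernel
theorem c20_6 : allRange (fun i => Nat.beq (act20 i) i) 1416 236 = true := by decide +kernel
theorem c20_7 : allRange (fun i => Nat.beq (act20 i) i) 1652 236 = true := by decide +kernel
theorem c20_8 : allRange (fun i => Nat.beq (act20 i) i) 1888 170 = true := by decide +kernel
theorem h20 : ∀ i, i < T.N → Tab.relActOK T D chk20 i = true := by
  intro i hi
  rw [Tab.relActOK, ← act20_eq]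
  exact (range_glue (range_of_allRange c20_0) (range_glue (range_of_allRange c20_1) (range_glue (range_of_allRange c20_2) (range_glue (range_of_allRange c20_3) (range_glue (range_of_allRange c20_4) (range_glue (range_of_allRange c20_5) (range_glue (range_of_allRange c20_6) (range_glue (range_of_allRange c20_7) (range_of_allRange c20_8))))))))) i (Nat.zero_le _) hi

def chk21 : List Nat := [3, 2, 3, 1, 2, 3, 4, 1, 2, 3, 4, 1, 2, 3, 4, 1, 2, 3, 4, 1, 2, 3, 4, 1, 2, 3, 4, 1, 2, 3, 4, 5, 4, 2, 5, 4, 3, 2, 1, 4, 3, 2, 1, 4, 3, 2, 1, 4, 3, 2, 1, 4, 3, 2, 1, 4, 3, 2, 1, 4, 3, 2, 1, 3, 2, 2, 2, 3, 1, 2, 3, 4, 1, 2, 3, 4, 1, 2, 3, 4, 1, 2, 3, 4, 1, 2, 3, 4, 1, 2, 3, 4, 1, 2, 3, 4, 5, 4, 5, 4, 3, 2, 1, 4, 3, 2, 1, 4, 3, 2, 1, 4, 3, 2, 1, 4, 3, 2, 1, 4, 3, 2, 1, 4, 3, 2, 1, 3, 2, 2, 2, 3, 1, 2, 3, 4, 1, 2, 3, 4, 1, 2, 3, 4, 1, 2, 3, 4, 1, 2, 3, 4, 1, 2, 3, 4, 1, 2, 3, 4, 5, 2, 5, 4, 3, 2, 1, 4, 3, 2, 1, 4, 3, 2, 1, 4,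 3, 2, 1, 4, 3, 2, 1, 4, 3, 2, 1, 4, 3, 2, 1, 3, 2, 4, 2]
noncomputable def act21 (i : Nat) : Nat := col3 (col2 (col3 (col1 (col2 (col3 (col4 (col1 (col2 (col3 (col4 (col1 (col2 (col3 (col4 (col1 (col2 (col3 (col4 (col1 (col2 (col3 (col4 (col1 (col2 (col3 (col4 (col1 (col2 (col3 (col4 (col5 (col4 (col2 (col5 (col4 (col3 (col2 (col1 (col4 (col3 (col2 (col1 (col4 (col3 (col2 (col1 (col4 (col3 (col2 (col1 (col4 (col3 (col2 (col1 (col4 (col3 (col2 (col1 (col4 (col3 (col2 (col1 (col3 (col2 (col2 (col2 (col3 (col1 (col2 (col3 (col4 (col1 (col2 (col3 (col4 (col1 (col2 (col3 (col4 (col1 (col2 (col3 (col4 (col1 (col2 (col3 (col4 (col1 (col2 (col3 (col4 (col1 (col2 (col3 (col4 (col5 (col4 (col5 (col4 (col3 (col2 (col1 (col4 (col3 (col2 (col1 (col4 (col3 (col2 (col1 (col4 (col3 (col2 (col1 (col4 (col3 (col2 (col1 (col4 (col3 (col2 (col1 (col4 (col3 (col2 (col1 (col3 (col2 (col2 (col2 (col3 (col1 (col2 (col3 (col4 (col1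 (col2 (col3 (col4 (col1 (col2 (col3 (col4 (col1 (col2 (col3 (col4 (col1 (col2 (col3 (col4 (col1 (col2 (col3 (col4 (col1 (col2 (col3 (col4 (col5 (col2 (col5 (col4 (col3 (col2 (col1 (col4 (col3 (col2 (col1 (col4 (col3 (col2 (col1 (col4 (col3 (col2 (col1 (col4 (col3 (col2 (col1 (col4 (col3 (col2 (col1 (col4 (col3 (col2 (col1 (col3 (col2 (col4 (col2 (i)))))))))))))))))))))))))))))))))))))))))))))))))))))))))))))))))))))))))))))))))))))))))))))))))))))))))))))))))))))))))))))))))))))))))))))))))))))))))))))))))))))))))))))))))))))))))))))))))))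
theorem act21_eq (i : Nat) : act21 i = Tab.act T D chk21 i := rfl
theorem c21_0 : allRange (fun i => Nat.beq (act21 i) i) 0 304 = true := by decide +kernel
theorem c21_1 : allRange (fun i => Nat.beq (act21 i) i) 304 304 = true := by decide +kernel
theorem c21_2 : allRange (fun i => Nat.beq (act21 i) i) 608 304 = true := by decide +kernel
theorem c21_3 : allRange (fun i => Nat.beq (act21 i) i) 912 304 = true := by decide +kernel
theorem c21_4 : allRange (fun i => Nat.beq (act21 i) i) 1216 304 = true := by decide +kernel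
theorem c21_5 : allRange (fun i => Nat.beq (act21 i) i) 1520 304 = true := by decide +kernel
theorem c21_6 : allRange (fun i => Nat.beq (act21 i) i) 1824 234 = true := by decide +kernel
theorem h21 : ∀ i, i < T.N → Tab.relActOK T D chk21 i = true := by
  intro i hi
  rw [Tab.relActOK, ← act21_eq]
  exact (range_glue (range_of_allRange c21_0) (range_glue (range_of_allRange c21_1) (range_glue (range_of_allRange c21_2) (range_glue (range_of_allRange c21_3) (range_glue (range_of_allRange c21_4) (range_glue (range_of_allRange c21_5) (range_of_allRange c21_6))))))) i (Nat.zero_le _) hi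

def chk22 : List Nat := [5, 2, 3, 1, 2, 3, 4, 1, 2, 3, 4, 1, 2, 3, 4, 1, 2, 3, 4, 1, 2, 3, 4, 1, 2, 3, 4, 1, 2, 3, 4, 5, 4, 5, 4, 3, 2, 1, 4, 3, 2, 1, 4, 3, 2, 1, 4, 3, 2, 1, 4, 3, 2, 1, 4, 3, 2, 1, 4, 3, 2, 1, 3, 2, 4, 2, 3, 1, 2, 3, 4, 1, 2, 3, 4, 1, 2, 3, 4, 1, 2, 3, 4, 1, 2, 3, 4, 1, 2, 3, 4, 1, 2, 3, 4, 5, 4, 2]
noncomputable def act22 (i : Nat) : Nat := col5 (col2 (col3 (col1 (col2 (col3 (col4 (col1 (col2 (col3 (col4 (col1 (col2 (col3 (col4 (col1 (col2 (col3 (col4 (col1 (col2 (col3 (col4 (col1 (col2 (col3 (col4 (col1 (col2 (col3 (col4 (col5 (col4 (col5 (col4 (col3 (col2 (col1 (col4 (col3 (col2 (col1 (col4 (col3 (col2 (col1 (col4 (col3 (col2 (col1 (col4 (col3 (col2 (col1 (col4 (col3 (col2 (col1 (col4 (col3 (col2 (col1 (col3 (col2 (col4 (col2 (col3 (col1 (col2 (col3 (col4 (col1 (col2 (col3 (col4 (col1 (col2 (col3 (col4 (col1 (col2 (col3 (col4 (col1 (col2 (col3 (col4 (col1 (col2 (col3 (col4 (col1 (col2 (col3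 (col4 (col5 (col4 (col2 (i))))))))))))))))))))))))))))))))))))))))))))))))))))))))))))))))))))))))))))))))))))))))))))))))))
theorem act22_eq (i : Nat) : act22 i = Tab.act T D chk22 i := rfl
theorem c22_0 : allRange (fun i => Nat.beq (act22 i) i) 0 600 = true := by decide +kernel
theorem c22_1 : allRange (fun i => Nat.beq (act22 i) i) 600 600 = true := by decide +kernel
theorem c22_2 : allRange (fun i => Nat.beq (act22 i) i) 1200 600 = true := by decide +kernel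
theorem c22_3 : allRange (fun i => Nat.beq (act22 i) i) 1800 258 = true := by decide +kernel
theorem h22 : ∀ i, i < T.N → Tab.relActOK T D chk22 i = true := by
  intro i hi
  rw [Tab.relActOK, ← act22_eq]
  exact (range_glue (range_of_allRange c22_0) (range_glue (range_of_allRange c22_1) (range_glue (range_of_allRange c22_2) (range_of_allRange c22_3)))) i (Nat.zero_le _) hi

def chk23 : List Nat := [2, 3, 2, 3, 2, 3, 2, 3, 2, 3, 2, 3, 2, 3, 2, 3, 2, 3, 2, 3]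
noncomputable def act23 (i : Nat) : Nat := col2 (col3 (col2 (col3 (col2 (col3 (col2 (col3 (col2 (col3 (col2 (col3 (col2 (col3 (col2 (col3 (col2 (col3 (col2 (col3 (i))))))))))))))))))))
theorem act23_eq (i : Nat) : act23 i = Tab.act T D chk23 i := rfl
theorem c23_0 : allRange (fun i => Nat.beq (act23 i) i) 0 2058 = true := by decide +kernel
theorem h23 : ∀ i, i < T.N → Tab.relActOK T D chk23 i = true := by
  intro i hi
  rw [Tab.relActOK, ← act23_eq]
  exact (range_of_allRange c23_0) i (Nat.zero_le _) hi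

def chk24 : List Nat := [3, 4, 3, 4, 3, 4]
noncomputable def act24 (i : Nat) : Nat := col3 (col4 (col3 (col4 (col3 (col4 (i))))))
theorem act24_eq (i : Nat) : act24 i = Tab.act T D chk24 i := rfl
theorem c24_0 : allRange (fun i => Nat.beq (act24 i) i) 0 2058 = true := by decide +kernel
theorem h24 : ∀ i, i < T.N → Tab.relActOK T D chk24 i = true := by
  intro i hi
  rw [Tab.relActOK, ← act24_eq]
  exact (range_of_allRange c24_0) i (Nat.zero_le _) hi

def chk25 : List Nat := [3, 5, 3, 5, 3, 5]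
noncomputable def act25 (i : Nat) : Nat := col3 (col5 (col3 (col5 (col3 (col5 (i))))))
theorem act25_eq (i : Nat) : act25 i = Tab.act T D chk25 i := rfl
theorem c25_0 : allRange (fun i => Nat.beq (act25 i) i) 0 2058 = true := by decide +kernel
theorem h25 : ∀ i, i < T.N → Tab.relActOK T D chk25 i = true := by
  intro i hi
  rw [Tab.relActOK, ← act25_eq]
  exact (range_of_allRange c25_0) i (Nat.zero_le _) hi

def chk26 : List Nat := [0, 2, 0, 2]
noncomputable def act26 (i : Nat) : Nat := col0 (col2 (col0 (col2 (i))))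
theorem act26_eq (i : Nat) : act26 i = Tab.act T D chk26 i := rfl
theorem c26_0 : allRange (fun i => Nat.beq (act26 i) i) 0 2058 = true := by decide +kernel
theorem h26 : ∀ i, i < T.N → Tab.relActOK T D chk26 i = true := by
  intro i hi
  rw [Tab.relActOK, ← act26_eq]
  exact (range_of_allRange c26_0) i (Nat.zero_le _) hi

def chk27 : List Nat := [0, 3, 0, 3]
noncomputable def act27 (i : Nat) : Nat := col0 (col3 (col0 (col3 (i))))
theorem act27_eq (i : Nat) : act27 i = Tab.act T D chk27 i := rfl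
theorem c27_0 : allRange (fun i => Nat.beq (act27 i) i) 0 2058 = true := by decide +kernel
theorem h27 : ∀ i, i < T.N → Tab.relActOK T D chk27 i = true := by
  intro i hi
  rw [Tab.relActOK, ← act27_eq]
  exact (range_of_allRange c27_0) i (Nat.zero_le _) hi

def chk28 : List Nat := [0, 4, 0, 4]
noncomputable def act28 (i : Nat) : Nat := col0 (col4 (col0 (col4 (i))))
theorem act28_eq (i : Nat) : act28 i = Tab.act T D chk28 i := rfl
theorem c28_0 : allRange (fun i => Nat.beq (act28 i) i) 0 2058 = true := by decide +kernel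
theorem h28 : ∀ i, i < T.N → Tab.relActOK T D chk28 i = true := by
  intro i hi
  rw [Tab.relActOK, ← act28_eq]
  exact (range_of_allRange c28_0) i (Nat.zero_le _) hi

def chk29 : List Nat := [0, 5, 0, 5]
noncomputable def act29 (i : Nat) : Nat := col0 (col5 (col0 (col5 (i))))
theorem act29_eq (i : Nat) : act29 i = Tab.act T D chk29 i := rfl
theorem c29_0 : allRange (fun i => Nat.beq (act29 i) i) 0 2058 = true := by decide +kernel
theorem h29 : ∀ i, i < T.N → Tab.relActOK T D chk29 i = true := by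
  intro i hi
  rw [Tab.relActOK, ← act29_eq]
  exact (range_of_allRange c29_0) i (Nat.zero_le _) hi

def chk30 : List Nat := [2, 4, 2, 4]
noncomputable def act30 (i : Nat) : Nat := col2 (col4 (col2 (col4 (i))))
theorem act30_eq (i : Nat) : act30 i = Tab.act T D chk30 i := rfl
theorem c30_0 : allRange (fun i => Nat.beq (act30 i) i) 0 2058 = true := by decide +kernel
theorem h30 : ∀ i, i < T.N → Tab.relActOK T D chk30 i = true := by
  intro i hi
  rw [Tab.relActOK, ← act30_eq]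
  exact (range_of_allRange c30_0) i (Nat.zero_le _) hi

def chk31 : List Nat := [2, 5, 2, 5]
noncomputable def act31 (i : Nat) : Nat := col2 (col5 (col2 (col5 (i))))
theorem act31_eq (i : Nat) : act31 i = Tab.act T D chk31 i := rfl
theorem c31_0 : allRange (fun i => Nat.beq (act31 i) i) 0 2058 = true := by decide +kernel
theorem h31 : ∀ i, i < T.N → Tab.relActOK T D chk31 i = true := by
  intro i hi
  rw [Tab.relActOK, ← act31_eq]
  exact (range_of_allRange c31_0) i (Nat.zero_le _) hi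

def chk32 : List Nat := [4, 5, 4, 5]
noncomputable def act32 (i : Nat) : Nat := col4 (col5 (col4 (col5 (i))))
theorem act32_eq (i : Nat) : act32 i = Tab.act T D chk32 i := rfl
theorem c32_0 : allRange (fun i => Nat.beq (act32 i) i) 0 2058 = true := by decide +kernel
theorem h32 : ∀ i, i < T.N → Tab.relActOK T D chk32 i = true := by
  intro i hi
  rw [Tab.relActOK, ← act32_eq]
  exact (range_of_allRange c32_0) i (Nat.zero_le _) hi

def chk33 : List Nat := [0, 3, 2, 3, 2, 3, 2, 3, 2, 3, 2]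
noncomputable def act33 (i : Nat) : Nat := col0 (col3 (col2 (col3 (col2 (col3 (col2 (col3 (col2 (col3 (col2 (i)))))))))))
theorem act33_eq (i : Nat) : act33 i = Tab.act T D chk33 i := rfl
theorem c33_0 : allRange (fun i => Nat.beq (act33 i) i) 0 2058 = true := by decide +kernel
theorem h33 : ∀ i, i < T.N → Tab.relActOK T D chk33 i = true := by
  intro i hi
  rw [Tab.relActOK, ← act33_eq]
  exact (range_of_allRange c33_0) i (Nat.zero_le _) hi

def chk34 : List Nat := [1, 0, 1, 0, 1, 0, 1, 0, 1, 1]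
noncomputable def act34 (i : Nat) : Nat := col1 (col0 (col1 (col0 (col1 (col0 (col1 (col0 (col1 (col1 (i))))))))))
theorem act34_eq (i : Nat) : act34 i = Tab.act T D chk34 i := rfl
theorem c34_0 : allRange (fun i => Nat.beq (act34 i) i) 0 2058 = true := by decide +kernel
theorem h34 : ∀ i, i < T.N → Tab.relActOK T D chk34 i = true := by
  intro i hi
  rw [Tab.relActOK, ← act34_eq]
  exact (range_of_allRange c34_0) i (Nat.zero_le _) hi

def chk35 : List Nat := [1, 1]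
noncomputable def act35 (i : Nat) : Nat := col1 (col1 (i))
theorem act35_eq (i : Nat) : act35 i = Tab.act T D chk35 i := rfl
theorem c35_0 : allRange (fun i => Nat.beq (act35 i) i) 0 2058 = true := by decide +kernel
theorem h35 : ∀ i, i < T.N → Tab.relActOK T D chk35 i = true := by
  intro i hi
  rw [Tab.relActOK, ← act35_eq]
  exact (range_of_allRange c35_0) i (Nat.zero_le _) hi

def chk36 : List Nat := [1, 1]
noncomputable def act36 (i : Nat) : Nat := col1 (col1 (i))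
theorem act36_eq (i : Nat) : act36 i = Tab.act T D chk36 i := rfl
theorem c36_0 : allRange (fun i => Nat.beq (act36 i) i) 0 2058 = true := by decide +kernel
theorem h36 : ∀ i, i < T.N → Tab.relActOK T D chk36 i = true := by
  intro i hi
  rw [Tab.relActOK, ← act36_eq]
  exact (range_of_allRange c36_0) i (Nat.zero_le _) hi

def chk37 : List Nat := [1, 2, 1, 2, 1, 2]
noncomputable def act37 (i : Nat) : Nat := col1 (col2 (col1 (col2 (col1 (col2 (i))))))
theorem act37_eq (i : Nat) : act37 i = Tab.act T D chk37 i := rfl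
theorem c37_0 : allRange (fun i => Nat.beq (act37 i) i) 0 2058 = true := by decide +kernel
theorem h37 : ∀ i, i < T.N → Tab.relActOK T D chk37 i = true := by
  intro i hi
  rw [Tab.relActOK, ← act37_eq]
  exact (range_of_allRange c37_0) i (Nat.zero_le _) hi

def chk38 : List Nat := [1, 1]
noncomputable def act38 (i : Nat) : Nat := col1 (col1 (i))
theorem act38_eq (i : Nat) : act38 i = Tab.act T D chk38 i := rfl
theorem c38_0 : allRange (fun i => Nat.beq (act38 i) i) 0 2058 = true := by decide +kernel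
theorem h38 : ∀ i, i < T.N → Tab.relActOK T D chk38 i = true := by
  intro i hi
  rw [Tab.relActOK, ← act38_eq]
  exact (range_of_allRange c38_0) i (Nat.zero_le _) hi

def chk39 : List Nat := [2, 2]
noncomputable def act39 (i : Nat) : Nat := col2 (col2 (i))
theorem act39_eq (i : Nat) : act39 i = Tab.act T D chk39 i := rfl
theorem c39_0 : allRange (fun i => Nat.beq (act39 i) i) 0 2058 = true := by decide +kernel
theorem h39 : ∀ i, i < T.N → Tab.relActOK T D chk39 i = true := by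
  intro i hi
  rw [Tab.relActOK, ← act39_eq]
  exact (range_of_allRange c39_0) i (Nat.zero_le _) hi

def chk40 : List Nat := [3, 1, 3, 1]
noncomputable def act40 (i : Nat) : Nat := col3 (col1 (col3 (col1 (i))))
theorem act40_eq (i : Nat) : act40 i = Tab.act T D chk40 i := rfl
theorem c40_0 : allRange (fun i => Nat.beq (act40 i) i) 0 2058 = true := by decide +kernel
theorem h40 : ∀ i, i < T.N → Tab.relActOK T D chk40 i = true := by
  intro i hi
  rw [Tab.relActOK, ← act40_eq]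
  exact (range_of_allRange c40_0) i (Nat.zero_le _) hi

def chk41 : List Nat := [1, 1]
noncomputable def act41 (i : Nat) : Nat := col1 (col1 (i))
theorem act41_eq (i : Nat) : act41 i = Tab.act T D chk41 i := rfl
theorem c41_0 : allRange (fun i => Nat.beq (act41 i) i) 0 2058 = true := by decide +kernel
theorem h41 : ∀ i, i < T.N → Tab.relActOK T D chk41 i = true := by
  intro i hi
  rw [Tab.relActOK, ← act41_eq]
  exact (range_of_allRange c41_0) i (Nat.zero_le _) hi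

def chk42 : List Nat := [1, 1]
noncomputable def act42 (i : Nat) : Nat := col1 (col1 (i))
theorem act42_eq (i : Nat) : act42 i = Tab.act T D chk42 i := rfl
theorem c42_0 : allRange (fun i => Nat.beq (act42 i) i) 0 2058 = true := by decide +kernel
theorem h42 : ∀ i, i < T.N → Tab.relActOK T D chk42 i = true := by
  intro i hi
  rw [Tab.relActOK, ← act42_eq]
  exact (range_of_allRange c42_0) i (Nat.zero_le _) hi

def chk43 : List Nat := [4, 1, 4, 1]
noncomputable def act43 (i : Nat) : Nat := col4 (col1 (col4 (col1 (i))))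
theorem act43_eq (i : Nat) : act43 i = Tab.act T D chk43 i := rfl
theorem c43_0 : allRange (fun i => Nat.beq (act43 i) i) 0 2058 = true := by decide +kernel
theorem h43 : ∀ i, i < T.N → Tab.relActOK T D chk43 i = true := by
  intro i hi
  rw [Tab.relActOK, ← act43_eq]
  exact (range_of_allRange c43_0) i (Nat.zero_le _) hi

def chk44 : List Nat := [1, 1]
noncomputable def act44 (i : Nat) : Nat := col1 (col1 (i))
theorem act44_eq (i : Nat) : act44 i = Tab.act T D chk44 i := rfl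
theorem c44_0 : allRange (fun i => Nat.beq (act44 i) i) 0 2058 = true := by decide +kernel
theorem h44 : ∀ i, i < T.N → Tab.relActOK T D chk44 i = true := by
  intro i hi
  rw [Tab.relActOK, ← act44_eq]
  exact (range_of_allRange c44_0) i (Nat.zero_le _) hi

def chk45 : List Nat := [1, 1]
noncomputable def act45 (i : Nat) : Nat := col1 (col1 (i))
theorem act45_eq (i : Nat) : act45 i = Tab.act T D chk45 i := rfl
theorem c45_0 : allRange (fun i => Nat.beq (act45 i) i) 0 2058 = true := by decide +kernel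
theorem h45 : ∀ i, i < T.N → Tab.relActOK T D chk45 i = true := by
  intro i hi
  rw [Tab.relActOK, ← act45_eq]
  exact (range_of_allRange c45_0) i (Nat.zero_le _) hi

def chk46 : List Nat := [5, 1, 5, 1]
noncomputable def act46 (i : Nat) : Nat := col5 (col1 (col5 (col1 (i))))
theorem act46_eq (i : Nat) : act46 i = Tab.act T D chk46 i := rfl
theorem c46_0 : allRange (fun i => Nat.beq (act46 i) i) 0 2058 = true := by decide +kernel
theorem h46 : ∀ i, i < T.N → Tab.relActOK T D chk46 i = true := by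
  intro i hi
  rw [Tab.relActOK, ← act46_eq]
  exact (range_of_allRange c46_0) i (Nat.zero_le _) hi

def chk47 : List Nat := [1, 1]
noncomputable def act47 (i : Nat) : Nat := col1 (col1 (i))
theorem act47_eq (i : Nat) : act47 i = Tab.act T D chk47 i := rfl
theorem c47_0 : allRange (fun i => Nat.beq (act47 i) i) 0 2058 = true := by decide +kernel
theorem h47 : ∀ i, i < T.N → Tab.relActOK T D chk47 i = true := by
  intro i hi
  rw [Tab.relActOK, ← act47_eq]
  exact (range_of_allRange c47_0) i (Nat.zero_le _) hi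

def chk48 : List Nat := [1, 1]
noncomputable def act48 (i : Nat) : Nat := col1 (col1 (i))
theorem act48_eq (i : Nat) : act48 i = Tab.act T D chk48 i := rfl
theorem c48_0 : allRange (fun i => Nat.beq (act48 i) i) 0 2058 = true := by decide +kernel
theorem h48 : ∀ i, i < T.N → Tab.relActOK T D chk48 i = true := by
  intro i hi
  rw [Tab.relActOK, ← act48_eq]
  exact (range_of_allRange c48_0) i (Nat.zero_le _) hi

def chk49 : List Nat := [6, 1, 6, 1]
noncomputable def act49 (i : Nat) : Nat := col6 (col1 (col6 (col1 (i))))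
theorem act49_eq (i : Nat) : act49 i = Tab.act T D chk49 i := rfl
theorem c49_0 : allRange (fun i => Nat.beq (act49 i) i) 0 2058 = true := by decide +kernel
theorem h49 : ∀ i, i < T.N → Tab.relActOK T D chk49 i = true := by
  intro i hi
  rw [Tab.relActOK, ← act49_eq]
  exact (range_of_allRange c49_0) i (Nat.zero_le _) hi

def chk50 : List Nat := [1, 1]
noncomputable def act50 (i : Nat) : Nat := col1 (col1 (i))
theorem act50_eq (i : Nat) : act50 i = Tab.act T D chk50 i := rfl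
theorem c50_0 : allRange (fun i => Nat.beq (act50 i) i) 0 2058 = true := by decide +kernel
theorem h50 : ∀ i, i < T.N → Tab.relActOK T D chk50 i = true := by
  intro i hi
  rw [Tab.relActOK, ← act50_eq]
  exact (range_of_allRange c50_0) i (Nat.zero_le _) hi

def chk51 : List Nat := [1, 1]
noncomputable def act51 (i : Nat) : Nat := col1 (col1 (i))
theorem act51_eq (i : Nat) : act51 i = Tab.act T D chk51 i := rfl
theorem c51_0 : allRange (fun i => Nat.beq (act51 i) i) 0 2058 = true := by decide +kernel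
theorem h51 : ∀ i, i < T.N → Tab.relActOK T D chk51 i = true := by
  intro i hi
  rw [Tab.relActOK, ← act51_eq]
  exact (range_of_allRange c51_0) i (Nat.zero_le _) hi

def chk52 : List Nat := [6, 5, 6, 5, 6, 5, 6, 5, 6, 6]
noncomputable def act52 (i : Nat) : Nat := col6 (col5 (col6 (col5 (col6 (col5 (col6 (col5 (col6 (col6 (i))))))))))
theorem act52_eq (i : Nat) : act52 i = Tab.act T D chk52 i := rfl
theorem c52_0 : allRange (fun i => Nat.beq (act52 i) i) 0 2058 = true := by decide +kernel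
theorem h52 : ∀ i, i < T.N → Tab.relActOK T D chk52 i = true := by
  intro i hi
  rw [Tab.relActOK, ← act52_eq]
  exact (range_of_allRange c52_0) i (Nat.zero_le _) hi

def chk53 : List Nat := [6, 6]
noncomputable def act53 (i : Nat) : Nat := col6 (col6 (i))
theorem act53_eq (i : Nat) : act53 i = Tab.act T D chk53 i := rfl
theorem c53_0 : allRange (fun i => Nat.beq (act53 i) i) 0 2058 = true := by decide +kernel
theorem h53 : ∀ i, i < T.N → Tab.relActOK T D chk53 i = true := by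
  intro i hi
  rw [Tab.relActOK, ← act53_eq]
  exact (range_of_allRange c53_0) i (Nat.zero_le _) hi

def chk54 : List Nat := [6, 6]
noncomputable def act54 (i : Nat) : Nat := col6 (col6 (i))
theorem act54_eq (i : Nat) : act54 i = Tab.act T D chk54 i := rfl
theorem c54_0 : allRange (fun i => Nat.beq (act54 i) i) 0 2058 = true := by decide +kernel
theorem h54 : ∀ i, i < T.N → Tab.relActOK T D chk54 i = true := by
  intro i hi
  rw [Tab.relActOK, ← act54_eq]
  exact (range_of_allRange c54_0) i (Nat.zero_le _) hi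

def chk55 : List Nat := [6, 3, 6, 3, 6, 3]
noncomputable def act55 (i : Nat) : Nat := col6 (col3 (col6 (col3 (col6 (col3 (i))))))
theorem act55_eq (i : Nat) : act55 i = Tab.act T D chk55 i := rfl
theorem c55_0 : allRange (fun i => Nat.beq (act55 i) i) 0 2058 = true := by decide +kernel
theorem h55 : ∀ i, i < T.N → Tab.relActOK T D chk55 i = true := by
  intro i hi
  rw [Tab.relActOK, ← act55_eq]
  exact (range_of_allRange c55_0) i (Nat.zero_le _) hi

def chk56 : List Nat := [6, 6]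
noncomputable def act56 (i : Nat) : Nat := col6 (col6 (i))
theorem act56_eq (i : Nat) : act56 i = Tab.act T D chk56 i := rfl
theorem c56_0 : allRange (fun i => Nat.beq (act56 i) i) 0 2058 = true := by decide +kernel
theorem h56 : ∀ i, i < T.N → Tab.relActOK T D chk56 i = true := by
  intro i hi
  rw [Tab.relActOK, ← act56_eq]
  exact (range_of_allRange c56_0) i (Nat.zero_le _) hi

def chk57 : List Nat := [3, 3]
noncomputable def act57 (i : Nat) : Nat := col3 (col3 (i))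
theorem act57_eq (i : Nat) : act57 i = Tab.act T D chk57 i := rfl
theorem c57_0 : allRange (fun i => Nat.beq (act57 i) i) 0 2058 = true := by decide +kernel
theorem h57 : ∀ i, i < T.N → Tab.relActOK T D chk57 i = true := by
  intro i hi
  rw [Tab.relActOK, ← act57_eq]
  exact (range_of_allRange c57_0) i (Nat.zero_le _) hi

def chk58 : List Nat := [0, 6, 0, 6]
noncomputable def act58 (i : Nat) : Nat := col0 (col6 (col0 (col6 (i))))
theorem act58_eq (i : Nat) : act58 i = Tab.act T D chk58 i := rfl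
theorem c58_0 : allRange (fun i => Nat.beq (act58 i) i) 0 2058 = true := by decide +kernel
theorem h58 : ∀ i, i < T.N → Tab.relActOK T D chk58 i = true := by
  intro i hi
  rw [Tab.relActOK, ← act58_eq]
  exact (range_of_allRange c58_0) i (Nat.zero_le _) hi

def chk59 : List Nat := [6, 6]
noncomputable def act59 (i : Nat) : Nat := col6 (col6 (i))
theorem act59_eq (i : Nat) : act59 i = Tab.act T D chk59 i := rfl
theorem c59_0 : allRange (fun i => Nat.beq (act59 i) i) 0 2058 = true := by decide +kernel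
theorem h59 : ∀ i, i < T.N → Tab.relActOK T D chk59 i = true := by
  intro i hi
  rw [Tab.relActOK, ← act59_eq]
  exact (range_of_allRange c59_0) i (Nat.zero_le _) hi

def chk60 : List Nat := [6, 6]
noncomputable def act60 (i : Nat) : Nat := col6 (col6 (i))
theorem act60_eq (i : Nat) : act60 i = Tab.act T D chk60 i := rfl
theorem c60_0 : allRange (fun i => Nat.beq (act60 i) i) 0 2058 = true := by decide +kernel
theorem h60 : ∀ i, i < T.N → Tab.relActOK T D chk60 i = true := by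
  intro i hi
  rw [Tab.relActOK, ← act60_eq]
  exact (range_of_allRange c60_0) i (Nat.zero_le _) hi

def chk61 : List Nat := [2, 6, 2, 6]
noncomputable def act61 (i : Nat) : Nat := col2 (col6 (col2 (col6 (i))))
theorem act61_eq (i : Nat) : act61 i = Tab.act T D chk61 i := rfl
theorem c61_0 : allRange (fun i => Nat.beq (act61 i) i) 0 2058 = true := by decide +kernel
theorem h61 : ∀ i, i < T.N → Tab.relActOK T D chk61 i = true := by
  intro i hi
  rw [Tab.relActOK, ← act61_eq]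
  exact (range_of_allRange c61_0) i (Nat.zero_le _) hi

def chk62 : List Nat := [6, 6]
noncomputable def act62 (i : Nat) : Nat := col6 (col6 (i))
theorem act62_eq (i : Nat) : act62 i = Tab.act T D chk62 i := rfl
theorem c62_0 : allRange (fun i => Nat.beq (act62 i) i) 0 2058 = true := by decide +kernel
theorem h62 : ∀ i, i < T.N → Tab.relActOK T D chk62 i = true := by
  intro i hi
  rw [Tab.relActOK, ← act62_eq]
  exact (range_of_allRange c62_0) i (Nat.zero_le _) hi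

def chk63 : List Nat := [6, 6]
noncomputable def act63 (i : Nat) : Nat := col6 (col6 (i))
theorem act63_eq (i : Nat) : act63 i = Tab.act T D chk63 i := rfl
theorem c63_0 : allRange (fun i => Nat.beq (act63 i) i) 0 2058 = true := by decide +kernel
theorem h63 : ∀ i, i < T.N → Tab.relActOK T D chk63 i = true := by
  intro i hi
  rw [Tab.relActOK, ← act63_eq]
  exact (range_of_allRange c63_0) i (Nat.zero_le _) hi

def chk64 : List Nat := [4, 6, 4, 6]
noncomputable def act64 (i : Nat) : Nat := col4 (col6 (col4 (col6 (i))))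
theorem act64_eq (i : Nat) : act64 i = Tab.act T D chk64 i := rfl
theorem c64_0 : allRange (fun i => Nat.beq (act64 i) i) 0 2058 = true := by decide +kernel
theorem h64 : ∀ i, i < T.N → Tab.relActOK T D chk64 i = true := by
  intro i hi
  rw [Tab.relActOK, ← act64_eq]
  exact (range_of_allRange c64_0) i (Nat.zero_le _) hi

def chk65 : List Nat := [6, 6]
noncomputable def act65 (i : Nat) : Nat := col6 (col6 (i))
theorem act65_eq (i : Nat) : act65 i = Tab.act T D chk65 i := rfl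
theorem c65_0 : allRange (fun i => Nat.beq (act65 i) i) 0 2058 = true := by decide +kernel
theorem h65 : ∀ i, i < T.N → Tab.relActOK T D chk65 i = true := by
  intro i hi
  rw [Tab.relActOK, ← act65_eq]
  exact (range_of_allRange c65_0) i (Nat.zero_le _) hi

def chk66 : List Nat := [6, 6]
noncomputable def act66 (i : Nat) : Nat := col6 (col6 (i))
theorem act66_eq (i : Nat) : act66 i = Tab.act T D chk66 i := rfl
theorem c66_0 : allRange (fun i => Nat.beq (act66 i) i) 0 2058 = true := by decide +kernel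
theorem h66 : ∀ i, i < T.N → Tab.relActOK T D chk66 i = true := by
  intro i hi
  rw [Tab.relActOK, ← act66_eq]
  exact (range_of_allRange c66_0) i (Nat.zero_le _) hi

def chk67 : List Nat := [6, 5, 6, 4, 5]
noncomputable def act67 (i : Nat) : Nat := col6 (col5 (col6 (col4 (col5 (i)))))
theorem act67_eq (i : Nat) : act67 i = Tab.act T D chk67 i := rfl
theorem c67_0 : allRange (fun i => Nat.beq (act67 i) i) 0 2058 = true := by decide +kernel
theorem h67 : ∀ i, i < T.N → Tab.relActOK T D chk67 i = true := by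
  intro i hi
  rw [Tab.relActOK, ← act67_eq]
  exact (range_of_allRange c67_0) i (Nat.zero_le _) hi

def chk68 : List Nat := [5, 5]
noncomputable def act68 (i : Nat) : Nat := col5 (col5 (i))
theorem act68_eq (i : Nat) : act68 i = Tab.act T D chk68 i := rfl
theorem c68_0 : allRange (fun i => Nat.beq (act68 i) i) 0 2058 = true := by decide +kernel
theorem h68 : ∀ i, i < T.N → Tab.relActOK T D chk68 i = true := by
  intro i hi
  rw [Tab.relActOK, ← act68_eq]
  exact (range_of_allRange c68_0) i (Nat.zero_le _) hi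

def chk69 : List Nat := [5, 4, 5, 4]
noncomputable def act69 (i : Nat) : Nat := col5 (col4 (col5 (col4 (i))))
theorem act69_eq (i : Nat) : act69 i = Tab.act T D chk69 i := rfl
theorem c69_0 : allRange (fun i => Nat.beq (act69 i) i) 0 2058 = true := by decide +kernel
theorem h69 : ∀ i, i < T.N → Tab.relActOK T D chk69 i = true := by
  intro i hi
  rw [Tab.relActOK, ← act69_eq]
  exact (range_of_allRange c69_0) i (Nat.zero_le _) hi

def chk70 : List Nat := [1, 4, 1, 4]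
noncomputable def act70 (i : Nat) : Nat := col1 (col4 (col1 (col4 (i))))
theorem act70_eq (i : Nat) : act70 i = Tab.act T D chk70 i := rfl
theorem c70_0 : allRange (fun i => Nat.beq (act70 i) i) 0 2058 = true := by decide +kernel
theorem h70 : ∀ i, i < T.N → Tab.relActOK T D chk70 i = true := by
  intro i hi
  rw [Tab.relActOK, ← act70_eq]
  exact (range_of_allRange c70_0) i (Nat.zero_le _) hi

def chk71 : List Nat := [4, 4]
noncomputable def act71 (i : Nat) : Nat := col4 (col4 (i))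
theorem act71_eq (i : Nat) : act71 i = Tab.act T D chk71 i := rfl
theorem c71_0 : allRange (fun i => Nat.beq (act71 i) i) 0 2058 = true := by decide +kernel
theorem h71 : ∀ i, i < T.N → Tab.relActOK T D chk71 i = true := by
  intro i hi
  rw [Tab.relActOK, ← act71_eq]
  exact (range_of_allRange c71_0) i (Nat.zero_le _) hi

def chk72 : List Nat := [4, 4]
noncomputable def act72 (i : Nat) : Nat := col4 (col4 (i))
theorem act72_eq (i : Nat) : act72 i = Tab.act T D chk72 i := rfl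
theorem c72_0 : allRange (fun i => Nat.beq (act72 i) i) 0 2058 = true := by decide +kernel
theorem h72 : ∀ i, i < T.N → Tab.relActOK T D chk72 i = true := by
  intro i hi
  rw [Tab.relActOK, ← act72_eq]
  exact (range_of_allRange c72_0) i (Nat.zero_le _) hi

def chk73 : List Nat := [1, 2, 2, 3, 1, 2, 3, 4, 1, 2, 3, 4, 1, 2, 3, 4, 1, 2, 3, 4, 1, 2, 3, 4, 1, 2, 3, 4, 1, 2, 3, 4, 5, 1, 5, 4, 3, 2, 1, 4, 3, 2, 1, 4, 3, 2, 1, 4, 3, 2, 1, 4, 3, 2, 1, 4, 3, 2, 1, 4, 3, 2, 1, 3, 2, 2]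
noncomputable def act73 (i : Nat) : Nat := col1 (col2 (col2 (col3 (col1 (col2 (col3 (col4 (col1 (col2 (col3 (col4 (col1 (col2 (col3 (col4 (col1 (col2 (col3 (col4 (col1 (col2 (col3 (col4 (col1 (col2 (col3 (col4 (col1 (col2 (col3 (col4 (col5 (col1 (col5 (col4 (col3 (col2 (col1 (col4 (col3 (col2 (col1 (col4 (col3 (col2 (col1 (col4 (col3 (col2 (col1 (col4 (col3 (col2 (col1 (col4 (col3 (col2 (col1 (col4 (col3 (col2 (col1 (col3 (col2 (col2 (i))))))))))))))))))))))))))))))))))))))))))))))))))))))))))))))))))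
theorem act73_eq (i : Nat) : act73 i = Tab.act T D chk73 i := rfl
theorem c73_0 : allRange (fun i => Nat.beq (act73 i) i) 0 882 = true := by decide +kernel
theorem c73_1 : allRange (fun i => Nat.beq (act73 i) i) 882 882 = true := by decide +kernel
theorem c73_2 : allRange (fun i => Nat.beq (act73 i) i) 1764 294 = true := by decide +kernel
theorem h73 : ∀ i, i < T.N → Tab.relActOK T D chk73 i = true := by
  intro i hi
  rw [Tab.relActOK, ← act73_eq]
  exact (range_glue (range_of_allRange c73_0) (range_glue (range_of_allRange c73_1) (range_of_allRange c73_2))) i (Nat.zero_le _) hi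

def chk74 : List Nat := [2, 2, 3, 1, 2, 3, 4, 1, 2, 3, 4, 1, 2, 3, 4, 1, 2, 3, 4, 1, 2, 3, 4, 1, 2, 3, 4, 1, 2, 3, 4, 5, 2, 2, 3, 1, 2, 3, 4, 1, 2, 3, 4, 1, 2, 3, 4, 1, 2, 3, 4, 1, 2, 3, 4, 1, 2, 3, 4, 1, 2, 3, 4, 5, 2, 2, 3, 1, 2, 3, 4, 1, 2, 3, 4, 1, 2, 3, 4, 1, 2, 3, 4, 1, 2, 3, 4, 1, 2, 3, 4, 1, 2, 3, 4, 5, 2, 2, 3, 1, 2, 3, 4, 1, 2, 3, 4, 1, 2, 3, 4, 1, 2, 3, 4, 1, 2, 3, 4, 1, 2, 3, 4, 1, 2, 3, 4, 5, 2, 2, 3, 1, 2, 3, 4, 1, 2, 3, 4, 1, 2, 3, 4, 1, 2, 3, 4, 1, 2, 3, 4, 1, 2, 3, 4, 1, 2, 3, 4, 5]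
noncomputable def act74 (i : Nat) : Nat := col2 (col2 (col3 (col1 (col2 (col3 (col4 (col1 (col2 (col3 (col4 (col1 (col2 (col3 (col4 (col1 (col2 (col3 (col4 (col1 (col2 (col3 (col4 (col1 (col2 (col3 (col4 (col1 (col2 (col3 (col4 (col5 (col2 (col2 (col3 (col1 (col2 (col3 (col4 (col1 (col2 (col3 (col4 (col1 (col2 (col3 (col4 (col1 (col2 (col3 (col4 (col1 (col2 (col3 (col4 (col1 (col2 (col3 (col4 (col1 (col2 (col3 (col4 (col5 (col2 (col2 (col3 (col1 (col2 (col3 (col4 (col1 (col2 (col3 (col4 (col1 (col2 (col3 (col4 (col1 (col2 (col3 (col4 (col1 (col2 (col3 (col4 (col1 (col2 (col3 (col4 (col1 (col2 (col3 (col4 (col5 (col2 (col2 (col3 (col1 (col2 (col3 (col4 (col1 (col2 (col3 (col4 (col1 (col2 (col3 (col4 (col1 (col2 (col3 (col4 (col1 (col2 (col3 (col4 (col1 (col2 (col3 (col4 (col1 (col2 (col3 (col4 (col5 (col2 (col2 (col3 (col1 (col2 (col3 (col4 (col1 (col2 (col3 (col4 (col1 (col2 (col3 (col4 (col1 (col2 (col3 (col4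 (col1 (col2 (col3 (col4 (col1 (col2 (col3 (col4 (col1 (col2 (col3 (col4 (col5 (i))))))))))))))))))))))))))))))))))))))))))))))))))))))))))))))))))))))))))))))))))))))))))))))))))))))))))))))))))))))))))))))))))))))))))))))))))))))))))))))))
theorem act74_eq (i : Nat) : act74 i = Tab.act T D chk74 i := rfl
theorem c74_0 : allRange (fun i => Nat.beq (act74 i) i) 0 370 = true := by decide +kernel
theorem c74_1 : allRange (fun i => Nat.beq (act74 i) i) 370 370 = true := by decide +kernel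
theorem c74_2 : allRange (fun i => Nat.beq (act74 i) i) 740 370 = true := by decide +kernel
theorem c74_3 : allRange (fun i => Nat.beq (act74 i) i) 1110 370 = true := by decide +kernel
theorem c74_4 : allRange (fun i => Nat.beq (act74 i) i) 1480 370 = true := by decide +kernel
theorem c74_5 : allRange (fun i => Nat.beq (act74 i) i) 1850 208 = true := by decide +kernel
theorem h74 : ∀ i, i < T.N → Tab.relActOK T D chk74 i = true := by
  intro i hi
  rw [Tab.relActOK, ← act74_eq]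
  exact (range_glue (range_of_allRange c74_0) (range_glue (range_of_allRange c74_1) (range_glue (range_of_allRange c74_2) (range_glue (range_of_allRange c74_3) (range_glue (range_of_allRange c74_4) (range_of_allRange c74_5)))))) i (Nat.zero_le _) hi

def chk75 : List Nat := [2, 2, 3, 1, 2, 3, 4, 1, 2, 3, 4, 1, 2, 3, 4, 1, 2, 3, 4, 1, 2, 3, 4, 1, 2, 3, 4, 1, 2, 3, 4, 5, 2, 2, 3, 1, 2, 3, 4, 1, 2, 3, 4, 1, 2, 3, 4, 1, 2, 3, 4, 1, 2, 3, 4, 1, 2, 3, 4, 1, 2, 3, 4, 5, 2, 2, 3, 1, 2, 3, 4, 1, 2, 3, 4, 1, 2, 3, 4, 1, 2, 3, 4, 1, 2, 3, 4, 1, 2, 3, 4, 1, 2, 3, 4, 5, 2, 2, 3, 1, 2, 3, 4, 1, 2, 3, 4, 1, 2, 3, 4, 1, 2, 3, 4, 1, 2, 3, 4, 1, 2, 3, 4, 1, 2, 3, 4, 5, 2, 2, 3, 1, 2, 3, 4, 1, 2, 3, 4, 1, 2, 3, 4, 1, 2, 3, 4, 1, 2, 3, 4, 1, 2, 3, 4, 1, 2, 3, 4, 5]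
noncomputable def act75 (i : Nat) : Nat := col2 (col2 (col3 (col1 (col2 (col3 (col4 (col1 (col2 (col3 (col4 (col1 (col2 (col3 (col4 (col1 (col2 (col3 (col4 (col1 (col2 (col3 (col4 (col1 (col2 (col3 (col4 (col1 (col2 (col3 (col4 (col5 (col2 (col2 (col3 (col1 (col2 (col3 (col4 (col1 (col2 (col3 (col4 (col1 (col2 (col3 (col4 (col1 (col2 (col3 (col4 (col1 (col2 (col3 (col4 (col1 (col2 (col3 (col4 (col1 (col2 (col3 (col4 (col5 (col2 (col2 (col3 (col1 (col2 (col3 (col4 (col1 (col2 (col3 (col4 (col1 (col2 (col3 (col4 (col1 (col2 (col3 (col4 (col1 (col2 (col3 (col4 (col1 (col2 (col3 (col4 (col1 (col2 (col3 (col4 (col5 (col2 (col2 (col3 (col1 (col2 (col3 (col4 (col1 (col2 (col3 (col4 (col1 (col2 (col3 (col4 (col1 (col2 (col3 (col4 (col1 (col2 (col3 (col4 (col1 (col2 (col3 (col4 (col1 (col2 (col3 (col4 (col5 (col2 (col2 (col3 (col1 (col2 (col3 (col4 (col1 (col2 (col3 (col4 (col1 (col2 (col3 (col4 (col1 (col2 (col3 (col4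 (col1 (col2 (col3 (col4 (col1 (col2 (col3 (col4 (col1 (col2 (col3 (col4 (col5 (i))))))))))))))))))))))))))))))))))))))))))))))))))))))))))))))))))))))))))))))))))))))))))))))))))))))))))))))))))))))))))))))))))))))))))))))))))))))))))))))))
theorem act75_eq (i : Nat) : act75 i = Tab.act T D chk75 i := rfl
theorem c75_0 : allRange (fun i => Nat.beq (act75 i) i) 0 370 = true := by decide +kernel
theorem c75_1 : allRange (fun i => Nat.beq (act75 i) i) 370 370 = true := by decide +kernel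
theorem c75_2 : allRange (fun i => Nat.beq (act75 i) i) 740 370 = true := by decide +kernel
theorem c75_3 : allRange (fun i => Nat.beq (act75 i) i) 1110 370 = true := by decide +kernel
theorem c75_4 : allRange (fun i => Nat.beq (act75 i) i) 1480 370 = true := by decide +kernel
theorem c75_5 : allRange (fun i => Nat.beq (act75 i) i) 1850 208 = true := by decide +kernel
theorem h75 : ∀ i, i < T.N → Tab.relActOK T D chk75 i = true := by
  intro i hi
  rw [Tab.relActOK, ← act75_eq]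
  exact (range_glue (range_of_allRange c75_0) (range_glue (range_of_allRange c75_1) (range_glue (range_of_allRange c75_2) (range_glue (range_of_allRange c75_3) (range_glue (range_of_allRange c75_4) (range_of_allRange c75_5)))))) i (Nat.zero_le _) hi

def chk76 : List Nat := [1, 2, 3, 1, 2, 3, 4, 1, 2, 3, 4, 1, 2, 3, 4, 1, 2, 3, 4, 1, 2, 3, 4, 1, 2, 3, 4, 1, 2, 3, 4, 5, 4, 2, 5, 4, 3, 2, 1, 4, 3, 2, 1, 4, 3, 2, 1, 4, 3, 2, 1, 4, 3, 2, 1, 4, 3, 2, 1, 4, 3, 2, 1, 3, 2, 4, 2, 2, 3, 1, 2, 3, 4, 1, 2, 3, 4, 1, 2, 3, 4, 1, 2, 3, 4, 1, 2, 3, 4, 1, 2, 3, 4, 1, 2, 3, 4, 5, 4, 2, 5, 4, 3, 2, 1, 4, 3, 2, 1, 4, 3, 2, 1, 4, 3, 2, 1, 4, 3, 2, 1, 4, 3, 2, 1, 4, 3, 2, 1, 3, 2, 1, 2, 3, 1, 2, 3, 4, 1, 2, 3, 4, 1, 2, 3, 4, 1, 2, 3, 4, 1, 2, 3, 4, 1, 2, 3, 4, 1, 2, 3, 4, 5, 2, 4, 5, 4, 3, 2, 1, 4, 3, 2, 1, 4, 3, 2, 1, 4, 3, 2, 1, 4, 3, 2, 1, 4, 3, 2, 1, 4, 3, 2, 1, 3, 2, 2, 4, 2, 3, 1, 2, 3, 4, 1, 2, 3, 4, 1, 2, 3, 4, 1, 2, 3,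 4, 1, 2, 3, 4, 1, 2, 3, 4, 1, 2, 3, 4, 5, 2, 4, 5, 4, 3, 2, 1, 4, 3, 2, 1, 4, 3, 2, 1, 4, 3, 2, 1, 4, 3, 2, 1, 4, 3, 2, 1, 4, 3, 2, 1, 3, 2]
noncomputable def act76 (i : Nat) : Nat := col1 (col2 (col3 (col1 (col2 (col3 (col4 (col1 (col2 (col3 (col4 (col1 (col2 (col3 (col4 (col1 (col2 (col3 (col4 (col1 (col2 (col3 (col4 (col1 (col2 (col3 (col4 (col1 (col2 (col3 (col4 (col5 (col4 (col2 (col5 (col4 (col3 (col2 (col1 (col4 (col3 (col2 (col1 (col4 (col3 (col2 (col1 (col4 (col3 (col2 (col1 (col4 (col3 (col2 (col1 (col4 (col3 (col2 (col1 (col4 (col3 (col2 (col1 (col3 (col2 (col4 (col2 (col2 (col3 (col1 (col2 (col3 (col4 (col1 (col2 (col3 (col4 (col1 (col2 (col3 (col4 (col1 (col2 (col3 (col4 (col1 (col2 (col3 (col4 (col1 (col2 (col3 (col4 (col1 (col2 (col3 (col4 (col5 (col4 (col2 (col5 (col4 (col3 (col2 (col1 (col4 (col3 (col2 (col1 (col4 (col3 (col2 (col1 (col4 (col3 (col2 (col1 (col4 (col3 (col2 (col1 (col4 (col3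 (col2 (col1 (col4 (col3 (col2 (col1 (col3 (col2 (col1 (col2 (col3 (col1 (col2 (col3 (col4 (col1 (col2 (col3 (col4 (col1 (col2 (col3 (col4 (col1 (col2 (col3 (col4 (col1 (col2 (col3 (col4 (col1 (col2 (col3 (col4 (col1 (col2 (col3 (col4 (col5 (col2 (col4 (col5 (col4 (col3 (col2 (col1 (col4 (col3 (col2 (col1 (col4 (col3 (col2 (col1 (col4 (col3 (col2 (col1 (col4 (col3 (col2 (col1 (col4 (col3 (col2 (col1 (col4 (col3 (col2 (col1 (col3 (col2 (col2 (col4 (col2 (col3 (col1 (col2 (col3 (col4 (col1 (col2 (col3 (col4 (col1 (col2 (col3 (col4 (col1 (col2 (col3 (col4 (col1 (col2 (col3 (col4 (col1 (col2 (col3 (col4 (col1 (col2 (col3 (col4 (col5 (col2 (col4 (col5 (col4 (col3 (col2 (col1 (col4 (col3 (col2 (col1 (col4 (col3 (col2 (col1 (col4 (col3 (col2 (col1 (col4 (col3 (col2 (col1 (col4 (col3 (col2 (col1 (col4 (col3 (col2 (col1 (col3 (col2 (i))))))))))))))))))))))))))))))))))))))))))))))))))))))))))))))))))))))))))))))))))))))))))))))))))))))))))))))))))))))))))))))))))))))))))))))))))))))))))))))))))))))))))))))))))))))))))))))))))))))))))))))))))))))))))))))))))))))))))))))))))))))))))))))))))))))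
theorem act76_eq (i : Nat) : act76 i = Tab.act T D chk76 i := rfl
theorem c76_0 : allRange (fun i => Nat.beq (act76 i) i) 0 227 = true := by decide +kernel
theorem c76_1 : allRange (fun i => Nat.beq (act76 i) i) 227 227 = true := by decide +kernel
theorem c76_2 : allRange (fun i => Nat.beq (act76 i) i) 454 227 = true := by decide +kernel
theorem c76_3 : allRange (fun i => Nat.beq (act76 i) i) 681 227 = true := by decide +kernel
theorem c76_4 : allRange (fun i => Nat.beq (act76 i) i) 908 227 = true := by decide +kernel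
theorem c76_5 : allRange (fun i => Nat.beq (act76 i) i) 1135 227 = true := by decide +kernel
theorem c76_6 : allRange (fun i => Nat.beq (act76 i) i) 1362 227 = true := by decide +kernel
theorem c76_7 : allRange (fun i => Nat.beq (act76 i) i) 1589 227 = true := by decide +kernel
theorem c76_8 : allRange (fun i => Nat.beq (act76 i) i) 1816 227 = true := by decide +kernel
theorem c76_9 : allRange (fun i => Nat.beq (act76 i) i) 2043 15 = true := by decide +kernel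
theorem h76 : ∀ i, i < T.N → Tab.relActOK T D chk76 i = true := by
  intro i hi
  rw [Tab.relActOK, ← act76_eq]
  exact (range_glue (range_of_allRange c76_0) (range_glue (range_of_allRange c76_1) (range_glue (range_of_allRange c76_2) (range_glue (range_of_allRange c76_3) (range_glue (range_of_allRange c76_4) (range_glue (range_of_allRange c76_5) (range_glue (range_of_allRange c76_6) (range_glue (range_of_allRange c76_7) (range_glue (range_of_allRange c76_8) (range_of_allRange c76_9)))))))))) i (Nat.zero_le _) hi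

def chk77 : List Nat := [2, 3, 1, 2, 3, 4, 1, 2, 3, 4, 1, 2, 3, 4, 1, 2, 3, 4, 1, 2, 3, 4, 1, 2, 3, 4, 1, 2, 3, 4, 5, 4, 2, 5, 4, 3, 2, 1, 4, 3, 2, 1, 4, 3, 2, 1, 4, 3, 2, 1, 4, 3, 2, 1, 4, 3, 2, 1, 4, 3, 2, 1, 3, 2, 4, 2, 2, 3, 1, 2, 3, 4, 1, 2, 3, 4, 1, 2, 3, 4, 1, 2, 3, 4, 1, 2, 3, 4, 1, 2, 3, 4, 1, 2, 3, 4, 5, 4, 2, 5, 4, 3, 2, 1, 4, 3, 2, 1, 4, 3, 2, 1, 4, 3, 2, 1, 4, 3, 2, 1, 4, 3, 2, 1, 4, 3, 2, 1, 3, 2, 2, 3, 1, 2, 3, 4, 1, 2, 3, 4, 1, 2, 3, 4, 1, 2, 3, 4, 1, 2, 3, 4, 1, 2, 3, 4, 1, 2, 3, 4, 5, 4, 2, 5, 4, 3, 2, 1, 4, 3, 2, 1, 4, 3, 2, 1, 4, 3, 2, 1, 4, 3, 2, 1, 4, 3, 2, 1, 4, 3, 2, 1, 3, 2, 4, 2, 2, 3, 1, 2, 3, 4, 1, 2, 3, 4, 1, 2, 3, 4, 1, 2, 3, 4, 1, 2, 3, 4, 1, 2, 3, 4, 1, 2, 3, 4, 5, 4, 2, 5, 4, 3, 2, 1, 4, 3, 2, 1, 4, 3, 2, 1, 4, 3, 2, 1, 4, 3, 2, 1, 4, 3, 2, 1, 4, 3, 2, 1, 3, 2]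
noncomputable def act77 (i : Nat) : Nat := col2 (col3 (col1 (col2 (col3 (col4 (col1 (col2 (col3 (col4 (col1 (col2 (col3 (col4 (col1 (col2 (col3 (col4 (col1 (col2 (col3 (col4 (col1 (col2 (col3 (col4 (col1 (col2 (col3 (col4 (col5 (col4 (col2 (col5 (col4 (col3 (col2 (col1 (col4 (col3 (col2 (col1 (col4 (col3 (col2 (col1 (col4 (col3 (col2 (col1 (col4 (col3 (col2 (col1 (col4 (col3 (col2 (col1 (col4 (col3 (col2 (col1 (col3 (col2 (col4 (col2 (col2 (col3 (col1 (col2 (col3 (col4 (col1 (col2 (col3 (col4 (col1 (col2 (col3 (col4 (col1 (col2 (col3 (col4 (col1 (col2 (col3 (col4 (col1 (col2 (col3 (col4 (col1 (col2 (col3 (col4 (col5 (col4 (col2 (col5 (col4 (col3 (col2 (col1 (col4 (col3 (col2 (col1 (col4 (col3 (col2 (col1 (col4 (col3 (col2 (col1 (col4 (col3 (col2 (col1 (col4 (col3 (col2 (col1 (col4 (col3 (col2 (col1 (col3 (col2 (col2 (col3 (col1 (col2 (col3 (col4 (col1 (col2 (col3 (col4 (col1 (col2 (col3 (col4 (col1 (col2 (col3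 (col4 (col1 (col2 (col3 (col4 (col1 (col2 (col3 (col4 (col1 (col2 (col3 (col4 (col5 (col4 (col2 (col5 (col4 (col3 (col2 (col1 (col4 (col3 (col2 (col1 (col4 (col3 (col2 (col1 (col4 (col3 (col2 (col1 (col4 (col3 (col2 (col1 (col4 (col3 (col2 (col1 (col4 (col3 (col2 (col1 (col3 (col2 (col4 (col2 (col2 (col3 (col1 (col2 (col3 (col4 (col1 (col2 (col3 (col4 (col1 (col2 (col3 (col4 (col1 (col2 (col3 (col4 (col1 (col2 (col3 (col4 (col1 (col2 (col3 (col4 (col1 (col2 (col3 (col4 (col5 (col4 (col2 (col5 (col4 (col3 (col2 (col1 (col4 (col3 (col2 (col1 (col4 (col3 (col2 (col1 (col4 (col3 (col2 (col1 (col4 (col3 (col2 (col1 (col4 (col3 (col2 (col1 (col4 (col3 (col2 (col1 (col3 (col2 (i))))))))))))))))))))))))))))))))))))))))))))))))))))))))))))))))))))))))))))))))))))))))))))))))))))))))))))))))))))))))))))))))))))))))))))))))))))))))))))))))))))))))))))))))))))))))))))))))))))))))))))))))))))))))))))))))))))))))))))))))))))))))))))))))))))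
theorem act77_eq (i : Nat) : act77 i = Tab.act T D chk77 i := rfl
theorem c77_0 : allRange (fun i => Nat.beq (act77 i) i) 0 229 = true := by decide +kernel
theorem c77_1 : allRange (fun i => Nat.beq (act77 i) i) 229 229 = true := by decide +kernel
theorem c77_2 : allRange (fun i => Nat.beq (act77 i) i) 458 229 = true := by decide +kernel
theorem c77_3 : allRange (fun i => Nat.beq (act77 i) i) 687 229 = true := by decide +kernel
theorem c77_4 : allRange (fun i => Nat.beq (act77 i) i) 916 229 = true := by decide +kernel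
theorem c77_5 : allRange (fun i => Nat.beq (act77 i) i) 1145 229 = true := by decide +kernel
theorem c77_6 : allRange (fun i => Nat.beq (act77 i) i) 1374 229 = true := by decide +kernel
theorem c77_7 : allRange (fun i => Nat.beq (act77 i) i) 1603 229 = true := by decide +kernel
theorem c77_8 : allRange (fun i => Nat.beq (act77 i) i) 1832 226 = true := by decide +kernel
theorem h77 : ∀ i, i < T.N → Tab.relActOK T D chk77 i = true := by
  intro i hi
  rw [Tab.relActOK, ← act77_eq]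
  exact (range_glue (range_of_allRange c77_0) (range_glue (range_of_allRange c77_1) (range_glue (range_of_allRange c77_2) (range_glue (range_of_allRange c77_3) (range_glue (range_of_allRange c77_4) (range_glue (range_of_allRange c77_5) (range_glue (range_of_allRange c77_6) (range_glue (range_of_allRange c77_7) (range_of_allRange c77_8))))))))) i (Nat.zero_le _) hi

def chk78 : List Nat := [2, 3, 1, 2, 3, 4, 1, 2, 3, 4, 1, 2, 3, 4, 1, 2, 3, 4, 1, 2, 3, 4, 1, 2, 3, 4, 1, 2, 3, 4, 5, 4, 2, 5, 4, 3, 2, 1, 4, 3, 2, 1, 4, 3, 2, 1, 4, 3, 2, 1, 4, 3, 2, 1, 4, 3, 2, 1, 4, 3, 2, 1, 3, 2, 4, 2, 2, 3, 1, 2, 3, 4, 1, 2, 3, 4, 1, 2, 3, 4, 1, 2, 3, 4, 1, 2, 3, 4, 1, 2, 3, 4, 1, 2, 3, 4, 5, 4, 2, 5, 4, 3, 2, 1, 4, 3, 2, 1, 4, 3, 2, 1, 4, 3, 2, 1, 4, 3, 2, 1, 4, 3, 2, 1, 4, 3, 2, 1, 3, 2, 2, 3, 1, 2, 3, 4, 1, 2, 3, 4, 1, 2, 3, 4, 1, 2, 3, 4, 1, 2, 3, 4, 1, 2, 3, 4, 1, 2, 3, 4, 5, 4, 2, 5, 4, 3, 2, 1, 4, 3, 2, 1, 4, 3, 2, 1,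 4, 3, 2, 1, 4, 3, 2, 1, 4, 3, 2, 1, 4, 3, 2, 1, 3, 2, 4, 2, 2, 3, 1, 2, 3, 4, 1, 2, 3, 4, 1, 2, 3, 4, 1, 2, 3, 4, 1, 2, 3, 4, 1, 2, 3, 4, 1, 2, 3, 4, 5, 4, 2, 5, 4, 3, 2, 1, 4, 3, 2, 1, 4, 3, 2, 1, 4, 3, 2, 1, 4, 3, 2, 1, 4, 3, 2, 1, 4, 3, 2, 1, 3, 2]
noncomputable def act78 (i : Nat) : Nat := col2 (col3 (col1 (col2 (col3 (col4 (col1 (col2 (col3 (col4 (col1 (col2 (col3 (col4 (col1 (col2 (col3 (col4 (col1 (col2 (col3 (col4 (col1 (col2 (col3 (col4 (col1 (col2 (col3 (col4 (col5 (col4 (col2 (col5 (col4 (col3 (col2 (col1 (col4 (col3 (col2 (col1 (col4 (col3 (col2 (col1 (col4 (col3 (col2 (col1 (col4 (col3 (col2 (col1 (col4 (col3 (col2 (col1 (col4 (col3 (col2 (col1 (col3 (col2 (col4 (col2 (col2 (col3 (col1 (col2 (col3 (col4 (col1 (col2 (col3 (col4 (col1 (col2 (col3 (col4 (col1 (col2 (col3 (col4 (col1 (col2 (col3 (col4 (col1 (col2 (col3 (col4 (col1 (col2 (col3 (col4 (col5 (col4 (col2 (col5 (col4 (col3 (col2 (col1 (col4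 (col3 (col2 (col1 (col4 (col3 (col2 (col1 (col4 (col3 (col2 (col1 (col4 (col3 (col2 (col1 (col4 (col3 (col2 (col1 (col4 (col3 (col2 (col1 (col3 (col2 (col2 (col3 (col1 (col2 (col3 (col4 (col1 (col2 (col3 (col4 (col1 (col2 (col3 (col4 (col1 (col2 (col3 (col4 (col1 (col2 (col3 (col4 (col1 (col2 (col3 (col4 (col1 (col2 (col3 (col4 (col5 (col4 (col2 (col5 (col4 (col3 (col2 (col1 (col4 (col3 (col2 (col1 (col4 (col3 (col2 (col1 (col4 (col3 (col2 (col1 (col4 (col3 (col2 (col1 (col4 (col3 (col2 (col1 (col4 (col3 (col2 (col1 (col3 (col2 (col4 (col2 (col2 (col3 (col1 (col2 (col3 (col4 (col1 (col2 (col3 (col4 (col1 (col2 (col3 (col4 (col1 (col2 (col3 (col4 (col1 (col2 (col3 (col4 (col1 (col2 (col3 (col4 (col1 (col2 (col3 (col4 (col5 (col4 (col2 (col5 (col4 (col3 (col2 (col1 (col4 (col3 (col2 (col1 (col4 (col3 (col2 (col1 (col4 (col3 (col2 (col1 (col4 (col3 (col2 (col1 (col4 (col3 (col2 (col1 (col4 (col3 (col2 (col1 (col3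 (col2 (i))))))))))))))))))))))))))))))))))))))))))))))))))))))))))))))))))))))))))))))))))))))))))))))))))))))))))))))))))))))))))))))))))))))))))))))))))))))))))))))))))))))))))))))))))))))))))))))))))))))))))))))))))))))))))))))))))))))))))))))))))))))))))))))))))))
theorem act78_eq (i : Nat) : act78 i = Tab.act T D chk78 i := rfl
theorem c78_0 : allRange (fun i => Nat.beq (act78 i) i) 0 229 = true := by decide +kernel
theorem c78_1 : allRange (fun i => Nat.beq (act78 i) i) 229 229 = true := by decide +kernel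
theorem c78_2 : allRange (fun i => Nat.beq (act78 i) i) 458 229 = true := by decide +kernel
theorem c78_3 : allRange (fun i => Nat.beq (act78 i) i) 687 229 = true := by decide +kernel
theorem c78_4 : allRange (fun i => Nat.beq (act78 i) i) 916 229 = true := by decide +kernel
theorem c78_5 : allRange (fun i => Nat.beq (act78 i) i) 1145 229 = true := by decide +kernel
theorem c78_6 : allRange (fun i => Nat.beq (act78 i) i) 1374 229 = true := by decide +kernel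
theorem c78_7 : allRange (fun i => Nat.beq (act78 i) i) 1603 229 = true := by decide +kernel
theorem c78_8 : allRange (fun i => Nat.beq (act78 i) i) 1832 226 = true := by decide +kernel
theorem h78 : ∀ i, i < T.N → Tab.relActOK T D chk78 i = true := by
  intro i hi
  rw [Tab.relActOK, ← act78_eq]
  exact (range_glue (range_of_allRange c78_0) (range_glue (range_of_allRange c78_1) (range_glue (range_of_allRange c78_2) (range_glue (range_of_allRange c78_3) (range_glue (range_of_allRange c78_4) (range_glue (range_of_allRange c78_5) (range_glue (range_of_allRange c78_6) (range_glue (range_of_allRange c78_7) (range_of_allRange c78_8))))))))) i (Nat.zero_le _) hi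

def chk79 : List Nat := [6, 4, 6, 4]
noncomputable def act79 (i : Nat) : Nat := col6 (col4 (col6 (col4 (i))))
theorem act79_eq (i : Nat) : act79 i = Tab.act T D chk79 i := rfl
theorem c79_0 : allRange (fun i => Nat.beq (act79 i) i) 0 2058 = true := by decide +kernel
theorem h79 : ∀ i, i < T.N → Tab.relActOK T D chk79 i = true := by
  intro i hi
  rw [Tab.relActOK, ← act79_eq]
  exact (range_of_allRange c79_0) i (Nat.zero_le _) hi

def chk80 : List Nat := [4, 4]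
noncomputable def act80 (i : Nat) : Nat := col4 (col4 (i))
theorem act80_eq (i : Nat) : act80 i = Tab.act T D chk80 i := rfl
theorem c80_0 : allRange (fun i => Nat.beq (act80 i) i) 0 2058 = true := by decide +kernel
theorem h80 : ∀ i, i < T.N → Tab.relActOK T D chk80 i = true := by
  intro i hi
  rw [Tab.relActOK, ← act80_eq]
  exact (range_of_allRange c80_0) i (Nat.zero_le _) hi

def chk81 : List Nat := [4, 4]
noncomputable def act81 (i : Nat) : Nat := col4 (col4 (i))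
theorem act81_eq (i : Nat) : act81 i = Tab.act T D chk81 i := rfl
theorem c81_0 : allRange (fun i => Nat.beq (act81 i) i) 0 2058 = true := by decide +kernel
theorem h81 : ∀ i, i < T.N → Tab.relActOK T D chk81 i = true := by
  intro i hi
  rw [Tab.relActOK, ← act81_eq]
  exact (range_of_allRange c81_0) i (Nat.zero_le _) hi

def chk82 : List Nat := [6, 2, 6, 2]
noncomputable def act82 (i : Nat) : Nat := col6 (col2 (col6 (col2 (i))))
theorem act82_eq (i : Nat) : act82 i = Tab.act T D chk82 i := rfl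
theorem c82_0 : allRange (fun i => Nat.beq (act82 i) i) 0 2058 = true := by decide +kernel
theorem h82 : ∀ i, i < T.N → Tab.relActOK T D chk82 i = true := by
  intro i hi
  rw [Tab.relActOK, ← act82_eq]
  exact (range_of_allRange c82_0) i (Nat.zero_le _) hi

def chk83 : List Nat := [2, 2]
noncomputable def act83 (i : Nat) : Nat := col2 (col2 (i))
theorem act83_eq (i : Nat) : act83 i = Tab.act T D chk83 i := rfl
theorem c83_0 : allRange (fun i => Nat.beq (act83 i) i) 0 2058 = true := by decide +kernel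
theorem h83 : ∀ i, i < T.N → Tab.relActOK T D chk83 i = true := by
  intro i hi
  rw [Tab.relActOK, ← act83_eq]
  exact (range_of_allRange c83_0) i (Nat.zero_le _) hi

def chk84 : List Nat := [2, 2]
noncomputable def act84 (i : Nat) : Nat := col2 (col2 (i))
theorem act84_eq (i : Nat) : act84 i = Tab.act T D chk84 i := rfl
theorem c84_0 : allRange (fun i => Nat.beq (act84 i) i) 0 2058 = true := by decide +kernel
theorem h84 : ∀ i, i < T.N → Tab.relActOK T D chk84 i = true := by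
  intro i hi
  rw [Tab.relActOK, ← act84_eq]
  exact (range_of_allRange c84_0) i (Nat.zero_le _) hi

def chk85 : List Nat := [6, 2, 3, 1, 2, 3, 4, 1, 2, 3, 4, 1, 2, 3, 4, 1, 2, 3, 4, 1, 2, 3, 4, 1, 2, 3, 4, 1, 2, 3, 4, 5, 4, 5, 4, 3, 2, 1, 4, 3, 2, 1, 4, 3, 2, 1, 4, 3, 2, 1, 4, 3, 2, 1, 4, 3, 2, 1, 4, 3, 2, 1, 3, 2, 4, 2, 3, 1, 2, 3, 4, 1, 2, 3, 4, 1, 2, 3, 4, 1, 2, 3, 4, 1, 2, 3, 4, 1, 2, 3, 4, 1, 2, 3, 4, 5, 4, 6, 5, 4, 3, 2, 1, 4, 3, 2, 1, 4, 3, 2, 1, 4, 3, 2, 1, 4, 3, 2, 1, 4, 3, 2, 1, 4, 3, 2, 1, 3, 2, 4, 2, 3, 1, 2, 3, 4, 1, 2, 3, 4, 1, 2, 3, 4, 1, 2, 3, 4, 1, 2, 3, 4, 1, 2, 3, 4, 1, 2, 3, 4, 5, 4, 5, 4, 3, 2, 1, 4, 3, 2, 1, 4, 3, 2, 1, 4, 3, 2, 1, 4, 3, 2, 1, 4, 3, 2, 1, 4, 3, 2, 1, 3, 2]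
noncomputable def act85 (i : Nat) : Nat := col6 (col2 (col3 (col1 (col2 (col3 (col4 (col1 (col2 (col3 (col4 (col1 (col2 (col3 (col4 (col1 (col2 (col3 (col4 (col1 (col2 (col3 (col4 (col1 (col2 (col3 (col4 (col1 (col2 (col3 (col4 (col5 (col4 (col5 (col4 (col3 (col2 (col1 (col4 (col3 (col2 (col1 (col4 (col3 (col2 (col1 (col4 (col3 (col2 (col1 (col4 (col3 (col2 (col1 (col4 (col3 (col2 (col1 (col4 (col3 (col2 (col1 (col3 (col2 (col4 (col2 (col3 (col1 (col2 (col3 (col4 (col1 (col2 (col3 (col4 (col1 (col2 (col3 (col4 (col1 (col2 (col3 (col4 (col1 (col2 (col3 (col4 (col1 (col2 (col3 (col4 (col1 (col2 (col3 (col4 (col5 (col4 (col6 (col5 (col4 (col3 (col2 (col1 (col4 (col3 (col2 (col1 (col4 (col3 (col2 (col1 (col4 (col3 (col2 (col1 (col4 (col3 (col2 (col1 (col4 (col3 (col2 (col1 (col4 (col3 (col2 (col1 (col3 (col2 (col4 (col2 (col3 (col1 (col2 (col3 (col4 (col1 (col2 (col3 (col4 (col1 (col2 (col3 (col4 (col1 (col2 (col3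 (col4 (col1 (col2 (col3 (col4 (col1 (col2 (col3 (col4 (col1 (col2 (col3 (col4 (col5 (col4 (col5 (col4 (col3 (col2 (col1 (col4 (col3 (col2 (col1 (col4 (col3 (col2 (col1 (col4 (col3 (col2 (col1 (col4 (col3 (col2 (col1 (col4 (col3 (col2 (col1 (col4 (col3 (col2 (col1 (col3 (col2 (i)))))))))))))))))))))))))))))))))))))))))))))))))))))))))))))))))))))))))))))))))))))))))))))))))))))))))))))))))))))))))))))))))))))))))))))))))))))))))))))))))))))))))))))))))))))))))))))))))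
theorem act85_eq (i : Nat) : act85 i = Tab.act T D chk85 i := rfl
theorem c85_0 : allRange (fun i => Nat.beq (act85 i) i) 0 307 = true := by decide +kernel
theorem c85_1 : allRange (fun i => Nat.beq (act85 i) i) 307 307 = true := by decide +kernel
theorem c85_2 : allRange (fun i => Nat.beq (act85 i) i) 614 307 = true := by decide +kernel
theorem c85_3 : allRange (fun i => Nat.beq (act85 i) i) 921 307 = true := by decide +kernel
theorem c85_4 : allRange (fun i => Nat.beq (act85 i) i) 1228 307 = true := by decide +kernel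
theorem c85_5 : allRange (fun i => Nat.beq (act85 i) i) 1535 307 = true := by decide +kernel
theorem c85_6 : allRange (fun i => Nat.beq (act85 i) i) 1842 216 = true := by decide +kernel
theorem h85 : ∀ i, i < T.N → Tab.relActOK T D chk85 i = true := by
  intro i hi
  rw [Tab.relActOK, ← act85_eq]
  exact (range_glue (range_of_allRange c85_0) (range_glue (range_of_allRange c85_1) (range_glue (range_of_allRange c85_2) (range_glue (range_of_allRange c85_3) (range_glue (range_of_allRange c85_4) (range_glue (range_of_allRange c85_5) (range_of_allRange c85_6))))))) i (Nat.zero_le _) hi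

def chk86 : List Nat := [2, 3, 1, 2, 3, 4, 1, 2, 3, 4, 1, 2, 3, 4, 1, 2, 3, 4, 1, 2, 3, 4, 1, 2, 3, 4, 1, 2, 3, 4, 5, 4, 5, 4, 3, 2, 1, 4, 3, 2, 1, 4, 3, 2, 1, 4, 3, 2, 1, 4, 3, 2, 1, 4, 3, 2, 1, 4, 3, 2, 1, 3, 2, 4, 2, 3, 1, 2, 3, 4, 1, 2, 3, 4, 1, 2, 3, 4, 1, 2, 3, 4, 1, 2, 3, 4, 1, 2, 3, 4, 1, 2, 3, 4, 5, 4, 2, 3, 1, 2, 3, 4, 1, 2, 3, 4, 1, 2, 3, 4, 1, 2, 3, 4, 1, 2, 3, 4, 1, 2, 3, 4, 1, 2, 3, 4, 5, 4, 5, 4, 3, 2, 1, 4, 3, 2, 1, 4, 3, 2, 1, 4, 3, 2, 1, 4, 3, 2, 1, 4, 3, 2, 1, 4, 3, 2, 1, 3, 2, 4, 2, 3, 1, 2, 3, 4, 1, 2, 3, 4, 1, 2, 3, 4, 1, 2, 3, 4, 1, 2, 3, 4, 1, 2, 3, 4, 1, 2, 3, 4, 5, 4]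
noncomputable def act86 (i : Nat) : Nat := col2 (col3 (col1 (col2 (col3 (col4 (col1 (col2 (col3 (col4 (col1 (col2 (col3 (col4 (col1 (col2 (col3 (col4 (col1 (col2 (col3 (col4 (col1 (col2 (col3 (col4 (col1 (col2 (col3 (col4 (col5 (col4 (col5 (col4 (col3 (col2 (col1 (col4 (col3 (col2 (col1 (col4 (col3 (col2 (col1 (col4 (col3 (col2 (col1 (col4 (col3 (col2 (col1 (col4 (col3 (col2 (col1 (col4 (col3 (col2 (col1 (col3 (col2 (col4 (col2 (col3 (col1 (col2 (col3 (col4 (col1 (col2 (col3 (col4 (col1 (col2 (col3 (col4 (col1 (col2 (col3 (col4 (col1 (col2 (col3 (col4 (col1 (col2 (col3 (col4 (col1 (col2 (col3 (col4 (col5 (col4 (col2 (col3 (col1 (col2 (col3 (col4 (col1 (col2 (col3 (col4 (col1 (col2 (col3 (col4 (col1 (col2 (col3 (col4 (col1 (col2 (col3 (col4 (col1 (col2 (col3 (col4 (col1 (col2 (col3 (col4 (col5 (col4 (col5 (col4 (col3 (col2 (col1 (col4 (col3 (col2 (col1 (col4 (col3 (col2 (col1 (col4 (col3 (col2 (col1 (col4 (col3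 (col2 (col1 (col4 (col3 (col2 (col1 (col4 (col3 (col2 (col1 (col3 (col2 (col4 (col2 (col3 (col1 (col2 (col3 (col4 (col1 (col2 (col3 (col4 (col1 (col2 (col3 (col4 (col1 (col2 (col3 (col4 (col1 (col2 (col3 (col4 (col1 (col2 (col3 (col4 (col1 (col2 (col3 (col4 (col5 (col4 (i))))))))))))))))))))))))))))))))))))))))))))))))))))))))))))))))))))))))))))))))))))))))))))))))))))))))))))))))))))))))))))))))))))))))))))))))))))))))))))))))))))))))))))))))))))))))))))))))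
theorem act86_eq (i : Nat) : act86 i = Tab.act T D chk86 i := rfl
theorem c86_0 : allRange (fun i => Nat.beq (act86 i) i) 0 309 = true := by decide +kernel
theorem c86_1 : allRange (fun i => Nat.beq (act86 i) i) 309 309 = true := by decide +kernel
theorem c86_2 : allRange (fun i => Nat.beq (act86 i) i) 618 309 = true := by decide +kernel
theorem c86_3 : allRange (fun i => Nat.beq (act86 i) i) 927 309 = true := by decide +kernel
theorem c86_4 : allRange (fun i => Nat.beq (act86 i) i) 1236 309 = true := by decide +kernel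
theorem c86_5 : allRange (fun i => Nat.beq (act86 i) i) 1545 309 = true := by decide +kernel
theorem c86_6 : allRange (fun i => Nat.beq (act86 i) i) 1854 204 = true := by decide +kernel
theorem h86 : ∀ i, i < T.N → Tab.relActOK T D chk86 i = true := by
  intro i hi
  rw [Tab.relActOK, ← act86_eq]
  exact (range_glue (range_of_allRange c86_0) (range_glue (range_of_allRange c86_1) (range_glue (range_of_allRange c86_2) (range_glue (range_of_allRange c86_3) (range_glue (range_of_allRange c86_4) (range_glue (range_of_allRange c86_5) (range_of_allRange c86_6))))))) i (Nat.zero_le _) hi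

def chk87 : List Nat := [2, 3, 1, 2, 3, 4, 1, 2, 3, 4, 1, 2, 3, 4, 1, 2, 3, 4, 1, 2, 3, 4, 1, 2, 3, 4, 1, 2, 3, 4, 5, 4, 5, 4, 3, 2, 1, 4, 3, 2, 1, 4, 3, 2, 1, 4, 3, 2, 1, 4, 3, 2, 1, 4, 3, 2, 1, 4, 3, 2, 1, 3, 2, 4, 2, 3, 1, 2, 3, 4, 1, 2, 3, 4, 1, 2, 3, 4, 1, 2, 3, 4, 1, 2, 3, 4, 1, 2, 3, 4, 1, 2, 3, 4, 5, 2, 3, 1, 2, 3, 4, 1, 2, 3, 4, 1, 2, 3, 4, 1, 2, 3, 4, 1, 2, 3, 4, 1, 2, 3, 4, 1, 2, 3, 4, 5, 4, 5, 4, 3, 2, 1, 4, 3, 2, 1, 4, 3, 2, 1, 4, 3, 2, 1, 4, 3, 2, 1, 4, 3, 2, 1, 4, 3, 2, 1, 3, 2, 4, 2, 3, 1, 2, 3, 4, 1, 2, 3, 4, 1, 2, 3, 4, 1, 2, 3, 4, 1, 2, 3, 4, 1, 2, 3, 4, 1, 2, 3, 4, 5]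
noncomputable def act87 (i : Nat) : Nat := col2 (col3 (col1 (col2 (col3 (col4 (col1 (col2 (col3 (col4 (col1 (col2 (col3 (col4 (col1 (col2 (col3 (col4 (col1 (col2 (col3 (col4 (col1 (col2 (col3 (col4 (col1 (col2 (col3 (col4 (col5 (col4 (col5 (col4 (col3 (col2 (col1 (col4 (col3 (col2 (col1 (col4 (col3 (col2 (col1 (col4 (col3 (col2 (col1 (col4 (col3 (col2 (col1 (col4 (col3 (col2 (col1 (col4 (col3 (col2 (col1 (col3 (col2 (col4 (col2 (col3 (col1 (col2 (col3 (col4 (col1 (col2 (col3 (col4 (col1 (col2 (col3 (col4 (col1 (col2 (col3 (col4 (col1 (col2 (col3 (col4 (col1 (col2 (col3 (col4 (col1 (col2 (col3 (col4 (col5 (col2 (col3 (col1 (col2 (col3 (col4 (col1 (col2 (col3 (col4 (col1 (col2 (col3 (col4 (col1 (col2 (col3 (col4 (col1 (col2 (col3 (col4 (col1 (col2 (col3 (col4 (col1 (col2 (col3 (col4 (col5 (col4 (col5 (col4 (col3 (col2 (col1 (col4 (col3 (col2 (col1 (col4 (col3 (col2 (col1 (col4 (col3 (col2 (col1 (col4 (col3 (col2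 (col1 (col4 (col3 (col2 (col1 (col4 (col3 (col2 (col1 (col3 (col2 (col4 (col2 (col3 (col1 (col2 (col3 (col4 (col1 (col2 (col3 (col4 (col1 (col2 (col3 (col4 (col1 (col2 (col3 (col4 (col1 (col2 (col3 (col4 (col1 (col2 (col3 (col4 (col1 (col2 (col3 (col4 (col5 (i))))))))))))))))))))))))))))))))))))))))))))))))))))))))))))))))))))))))))))))))))))))))))))))))))))))))))))))))))))))))))))))))))))))))))))))))))))))))))))))))))))))))))))))))))))))))))))))
theorem act87_eq (i : Nat) : act87 i = Tab.act T D chk87 i := rfl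
theorem c87_0 : allRange (fun i => Nat.beq (act87 i) i) 0 312 = true := by decide +kernel
theorem c87_1 : allRange (fun i => Nat.beq (act87 i) i) 312 312 = true := by decide +kernel
theorem c87_2 : allRange (fun i => Nat.beq (act87 i) i) 624 312 = true := by decide +kernel
theorem c87_3 : allRange (fun i => Nat.beq (act87 i) i) 936 312 = true := by decide +kernel
theorem c87_4 : allRange (fun i => Nat.beq (act87 i) i) 1248 312 = true := by decide +kernel
theorem c87_5 : allRange (fun i => Nat.beq (act87 i) i) 1560 312 = true := by decide +kernel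
theorem c87_6 : allRange (fun i => Nat.beq (act87 i) i) 1872 186 = true := by decide +kernel
theorem h87 : ∀ i, i < T.N → Tab.relActOK T D chk87 i = true := by
  intro i hi
  rw [Tab.relActOK, ← act87_eq]
  exact (range_glue (range_of_allRange c87_0) (range_glue (range_of_allRange c87_1) (range_glue (range_of_allRange c87_2) (range_glue (range_of_allRange c87_3) (range_glue (range_of_allRange c87_4) (range_glue (range_of_allRange c87_5) (range_of_allRange c87_6))))))) i (Nat.zero_le _) hi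

def chk88 : List Nat := [6, 2, 3, 1, 2, 3, 4, 1, 2, 3, 4, 1, 2, 3, 4, 1, 2, 3, 4, 1, 2, 3, 4, 1, 2, 3, 4, 1, 2, 3, 4, 5, 2, 5, 4, 3, 2, 1, 4, 3, 2, 1, 4, 3, 2, 1, 4, 3, 2, 1, 4, 3, 2, 1, 4, 3, 2, 1, 4, 3, 2, 1, 3, 2, 5, 4, 3, 2, 1, 4, 3, 2, 1, 4, 3, 2, 1, 4, 3, 2, 1, 4, 3, 2, 1, 4, 3, 2, 1, 4, 3, 2, 1, 3, 2, 2, 2, 3, 1, 2, 3, 4, 1, 2, 3, 4, 1, 2, 3, 4, 1, 2, 3, 4, 1, 2, 3, 4, 1, 2, 3, 4, 1, 2, 3, 4, 5, 2, 3, 1, 2, 3, 4, 1, 2, 3, 4, 1, 2, 3, 4, 1, 2, 3, 4, 1, 2, 3, 4, 1, 2, 3, 4, 1, 2, 3, 4, 5, 2, 5, 4, 3, 2, 1, 4, 3, 2, 1, 4, 3, 2, 1, 4, 3, 2, 1, 4, 3, 2, 1, 4, 3, 2, 1, 4, 3, 2, 1, 3, 2, 4, 6, 2, 3, 1, 2, 3, 4, 1, 2, 3, 4, 1, 2, 3, 4, 1, 2, 3, 4, 1, 2, 3, 4, 1, 2, 3, 4, 1, 2, 3, 4, 5, 2, 5, 4, 3, 2, 1, 4, 3, 2, 1, 4, 3, 2, 1, 4, 3, 2, 1, 4, 3, 2, 1, 4, 3, 2, 1, 4, 3, 2, 1, 3, 2, 5, 4, 3, 2, 1, 4, 3, 2, 1, 4, 3, 2, 1, 4, 3, 2, 1, 4, 3, 2, 1, 4, 3, 2, 1, 4, 3, 2, 1, 3, 2, 2, 2, 3, 1, 2, 3, 4, 1, 2, 3, 4, 1, 2,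 3, 4, 1, 2, 3, 4, 1, 2, 3, 4, 1, 2, 3, 4, 1, 2, 3, 4, 5, 2, 3, 1, 2, 3, 4, 1, 2, 3, 4, 1, 2, 3, 4, 1, 2, 3, 4, 1, 2, 3, 4, 1, 2, 3, 4, 1, 2, 3, 4, 5, 2, 5, 4, 3, 2, 1, 4, 3, 2, 1, 4, 3, 2, 1, 4, 3, 2, 1, 4, 3, 2, 1, 4, 3, 2, 1, 4, 3, 2, 1, 3, 2]
noncomputable def act88 (i : Nat) : Nat := col6 (col2 (col3 (col1 (col2 (col3 (col4 (col1 (col2 (col3 (col4 (col1 (col2 (col3 (col4 (col1 (col2 (col3 (col4 (col1 (col2 (col3 (col4 (col1 (col2 (col3 (col4 (col1 (col2 (col3 (col4 (col5 (col2 (col5 (col4 (col3 (col2 (col1 (col4 (col3 (col2 (col1 (col4 (col3 (col2 (col1 (col4 (col3 (col2 (col1 (col4 (col3 (col2 (col1 (col4 (col3 (col2 (col1 (col4 (col3 (col2 (col1 (col3 (col2 (col5 (col4 (col3 (col2 (col1 (col4 (col3 (col2 (col1 (col4 (col3 (col2 (col1 (col4 (col3 (col2 (col1 (col4 (col3 (col2 (col1 (col4 (col3 (col2 (col1 (col4 (col3 (col2 (col1 (col3 (col2 (col2 (col2 (col3 (col1 (col2 (col3 (col4 (col1 (col2 (col3 (col4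 (col1 (col2 (col3 (col4 (col1 (col2 (col3 (col4 (col1 (col2 (col3 (col4 (col1 (col2 (col3 (col4 (col1 (col2 (col3 (col4 (col5 (col2 (col3 (col1 (col2 (col3 (col4 (col1 (col2 (col3 (col4 (col1 (col2 (col3 (col4 (col1 (col2 (col3 (col4 (col1 (col2 (col3 (col4 (col1 (col2 (col3 (col4 (col1 (col2 (col3 (col4 (col5 (col2 (col5 (col4 (col3 (col2 (col1 (col4 (col3 (col2 (col1 (col4 (col3 (col2 (col1 (col4 (col3 (col2 (col1 (col4 (col3 (col2 (col1 (col4 (col3 (col2 (col1 (col4 (col3 (col2 (col1 (col3 (col2 (col4 (col6 (col2 (col3 (col1 (col2 (col3 (col4 (col1 (col2 (col3 (col4 (col1 (col2 (col3 (col4 (col1 (col2 (col3 (col4 (col1 (col2 (col3 (col4 (col1 (col2 (col3 (col4 (col1 (col2 (col3 (col4 (col5 (col2 (col5 (col4 (col3 (col2 (col1 (col4 (col3 (col2 (col1 (col4 (col3 (col2 (col1 (col4 (col3 (col2 (col1 (col4 (col3 (col2 (col1 (col4 (col3 (col2 (col1 (col4 (col3 (col2 (col1 (col3 (col2 (col5 (col4 (col3 (col2 (col1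 (col4 (col3 (col2 (col1 (col4 (col3 (col2 (col1 (col4 (col3 (col2 (col1 (col4 (col3 (col2 (col1 (col4 (col3 (col2 (col1 (col4 (col3 (col2 (col1 (col3 (col2 (col2 (col2 (col3 (col1 (col2 (col3 (col4 (col1 (col2 (col3 (col4 (col1 (col2 (col3 (col4 (col1 (col2 (col3 (col4 (col1 (col2 (col3 (col4 (col1 (col2 (col3 (col4 (col1 (col2 (col3 (col4 (col5 (col2 (col3 (col1 (col2 (col3 (col4 (col1 (col2 (col3 (col4 (col1 (col2 (col3 (col4 (col1 (col2 (col3 (col4 (col1 (col2 (col3 (col4 (col1 (col2 (col3 (col4 (col1 (col2 (col3 (col4 (col5 (col2 (col5 (col4 (col3 (col2 (col1 (col4 (col3 (col2 (col1 (col4 (col3 (col2 (col1 (col4 (col3 (col2 (col1 (col4 (col3 (col2 (col1 (col4 (col3 (col2 (col1 (col4 (col3 (col2 (col1 (col3 (col2 (i)))))))))))))))))))))))))))))))))))))))))))))))))))))))))))))))))))))))))))))))))))))))))))))))))))))))))))))))))))))))))))))))))))))))))))))))))))))))))))))))))))))))))))))))))))))))))))))))))))))))))))))))))))))))))))))))))))))))))))))))))))))))))))))))))))))))))))))))))))))))))))))))))))))))))))))))))))))))))))))))))))))))))))))))))))))))))))))))))))))))))))))))))))))))))))))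
theorem act88_eq (i : Nat) : act88 i = Tab.act T D chk88 i := rfl
theorem c88_0 : allRange (fun i => Nat.beq (act88 i) i) 0 156 = true := by decide +kernel
theorem c88_1 : allRange (fun i => Nat.beq (act88 i) i) 156 156 = true := by decide +kernel
theorem c88_2 : allRange (fun i => Nat.beq (act88 i) i) 312 156 = true := by decide +kernel
theorem c88_3 : allRange (fun i => Nat.beq (act88 i) i) 468 156 = true := by decide +kernel
theorem c88_4 : allRange (fun i => Nat.beq (act88 i) i) 624 156 = true := by decide +kernel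
theorem c88_5 : allRange (fun i => Nat.beq (act88 i) i) 780 156 = true := by decide +kernel
theorem c88_6 : allRange (fun i => Nat.beq (act88 i) i) 936 156 = true := by decide +kernel
theorem c88_7 : allRange (fun i => Nat.beq (act88 i) i) 1092 156 = true := by decide +kernel
theorem c88_8 : allRange (fun i => Nat.beq (act88 i) i) 1248 156 = true := by decide +kernel
theorem c88_9 : allRange (fun i => Nat.beq (act88 i) i) 1404 156 = true := by decide +kernel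
theorem c88_10 : allRange (fun i => Nat.beq (act88 i) i) 1560 156 = true := by decide +kernel
theorem c88_11 : allRange (fun i => Nat.beq (act88 i) i) 1716 156 = true := by decide +kernel
theorem c88_12 : allRange (fun i => Nat.beq (act88 i) i) 1872 156 = true := by decide +kernel
theorem c88_13 : allRange (fun i => Nat.beq (act88 i) i) 2028 30 = true := by decide +kernel
theorem h88 : ∀ i, i < T.N → Tab.relActOK T D chk88 i = true := by
  intro i hi
  rw [Tab.relActOK, ← act88_eq]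
  exact (range_glue (range_of_allRange c88_0) (range_glue (range_of_allRange c88_1) (range_glue (range_of_allRange c88_2) (range_glue (range_of_allRange c88_3) (range_glue (range_of_allRange c88_4) (range_glue (range_of_allRange c88_5) (range_glue (range_of_allRange c88_6) (range_glue (range_of_allRange c88_7) (range_glue (range_of_allRange c88_8) (range_glue (range_of_allRange c88_9) (range_glue (range_of_allRange c88_10) (range_glue (range_of_allRange c88_11) (range_glue (range_of_allRange c88_12) (range_of_allRange c88_13)))))))))))))) i (Nat.zero_le _) hi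

def chk89 : List Nat := [2, 3, 1, 2, 3, 4, 1, 2, 3, 4, 1, 2, 3, 4, 1, 2, 3, 4, 1, 2, 3, 4, 1, 2, 3, 4, 1, 2, 3, 4, 5, 2, 5, 4, 3, 2, 1, 4, 3, 2, 1, 4, 3, 2, 1, 4, 3, 2, 1, 4, 3, 2, 1, 4, 3, 2, 1, 4, 3, 2, 1, 3, 2, 5, 4, 3, 2, 1, 4, 3, 2, 1, 4, 3, 2, 1, 4, 3, 2, 1, 4, 3, 2, 1, 4, 3, 2, 1, 4, 3, 2, 1, 3, 2, 2, 2, 3, 1, 2, 3, 4, 1, 2, 3, 4, 1, 2, 3, 4, 1, 2, 3, 4, 1, 2, 3, 4, 1, 2, 3, 4, 1, 2, 3, 4, 5, 2, 3, 1, 2, 3, 4, 1, 2, 3, 4, 1, 2, 3, 4, 1, 2, 3, 4, 1, 2, 3, 4, 1, 2, 3, 4, 1, 2, 3, 4, 5, 2, 5, 4, 3, 2, 1, 4, 3, 2, 1, 4, 3, 2, 1, 4, 3, 2, 1, 4, 3, 2, 1, 4, 3, 2, 1, 4, 3, 2, 1, 3, 2, 4, 2, 3, 1, 2, 3, 4, 1, 2, 3, 4, 1, 2, 3, 4, 1, 2, 3, 4, 1, 2, 3, 4, 1, 2, 3, 4, 1, 2, 3, 4, 5, 2, 5, 4, 3, 2, 1, 4, 3, 2, 1, 4, 3, 2, 1, 4, 3, 2, 1, 4, 3, 2, 1, 4, 3, 2, 1, 4, 3, 2, 1, 3, 2, 5, 4, 3, 2, 1, 4, 3, 2, 1, 4, 3, 2, 1, 4, 3, 2, 1, 4, 3, 2, 1, 4, 3, 2, 1, 4, 3, 2, 1, 3, 2, 2, 2, 3, 1, 2, 3, 4, 1, 2, 3, 4, 1, 2, 3, 4,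 1, 2, 3, 4, 1, 2, 3, 4, 1, 2, 3, 4, 1, 2, 3, 4, 5, 2, 3, 1, 2, 3, 4, 1, 2, 3, 4, 1, 2, 3, 4, 1, 2, 3, 4, 1, 2, 3, 4, 1, 2, 3, 4, 1, 2, 3, 4, 5, 2, 5, 4, 3, 2, 1, 4, 3, 2, 1, 4, 3, 2, 1, 4, 3, 2, 1, 4, 3, 2, 1, 4, 3, 2, 1, 4, 3, 2, 1, 3, 2, 4]
noncomputable def act89 (i : Nat) : Nat := col2 (col3 (col1 (col2 (col3 (col4 (col1 (col2 (col3 (col4 (col1 (col2 (col3 (col4 (col1 (col2 (col3 (col4 (col1 (col2 (col3 (col4 (col1 (col2 (col3 (col4 (col1 (col2 (col3 (col4 (col5 (col2 (col5 (col4 (col3 (col2 (col1 (col4 (col3 (col2 (col1 (col4 (col3 (col2 (col1 (col4 (col3 (col2 (col1 (col4 (col3 (col2 (col1 (col4 (col3 (col2 (col1 (col4 (col3 (col2 (col1 (col3 (col2 (col5 (col4 (col3 (col2 (col1 (col4 (col3 (col2 (col1 (col4 (col3 (col2 (col1 (col4 (col3 (col2 (col1 (col4 (col3 (col2 (col1 (col4 (col3 (col2 (col1 (col4 (col3 (col2 (col1 (col3 (col2 (col2 (col2 (col3 (col1 (col2 (col3 (col4 (col1 (col2 (col3 (col4 (col1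 (col2 (col3 (col4 (col1 (col2 (col3 (col4 (col1 (col2 (col3 (col4 (col1 (col2 (col3 (col4 (col1 (col2 (col3 (col4 (col5 (col2 (col3 (col1 (col2 (col3 (col4 (col1 (col2 (col3 (col4 (col1 (col2 (col3 (col4 (col1 (col2 (col3 (col4 (col1 (col2 (col3 (col4 (col1 (col2 (col3 (col4 (col1 (col2 (col3 (col4 (col5 (col2 (col5 (col4 (col3 (col2 (col1 (col4 (col3 (col2 (col1 (col4 (col3 (col2 (col1 (col4 (col3 (col2 (col1 (col4 (col3 (col2 (col1 (col4 (col3 (col2 (col1 (col4 (col3 (col2 (col1 (col3 (col2 (col4 (col2 (col3 (col1 (col2 (col3 (col4 (col1 (col2 (col3 (col4 (col1 (col2 (col3 (col4 (col1 (col2 (col3 (col4 (col1 (col2 (col3 (col4 (col1 (col2 (col3 (col4 (col1 (col2 (col3 (col4 (col5 (col2 (col5 (col4 (col3 (col2 (col1 (col4 (col3 (col2 (col1 (col4 (col3 (col2 (col1 (col4 (col3 (col2 (col1 (col4 (col3 (col2 (col1 (col4 (col3 (col2 (col1 (col4 (col3 (col2 (col1 (col3 (col2 (col5 (col4 (col3 (col2 (col1 (col4 (col3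 (col2 (col1 (col4 (col3 (col2 (col1 (col4 (col3 (col2 (col1 (col4 (col3 (col2 (col1 (col4 (col3 (col2 (col1 (col4 (col3 (col2 (col1 (col3 (col2 (col2 (col2 (col3 (col1 (col2 (col3 (col4 (col1 (col2 (col3 (col4 (col1 (col2 (col3 (col4 (col1 (col2 (col3 (col4 (col1 (col2 (col3 (col4 (col1 (col2 (col3 (col4 (col1 (col2 (col3 (col4 (col5 (col2 (col3 (col1 (col2 (col3 (col4 (col1 (col2 (col3 (col4 (col1 (col2 (col3 (col4 (col1 (col2 (col3 (col4 (col1 (col2 (col3 (col4 (col1 (col2 (col3 (col4 (col1 (col2 (col3 (col4 (col5 (col2 (col5 (col4 (col3 (col2 (col1 (col4 (col3 (col2 (col1 (col4 (col3 (col2 (col1 (col4 (col3 (col2 (col1 (col4 (col3 (col2 (col1 (col4 (col3 (col2 (col1 (col4 (col3 (col2 (col1 (col3 (col2 (col4 (i))))))))))))))))))))))))))))))))))))))))))))))))))))))))))))))))))))))))))))))))))))))))))))))))))))))))))))))))))))))))))))))))))))))))))))))))))))))))))))))))))))))))))))))))))))))))))))))))))))))))))))))))))))))))))))))))))))))))))))))))))))))))))))))))))))))))))))))))))))))))))))))))))))))))))))))))))))))))))))))))))))))))))))))))))))))))))))))))))))))))))))))))))))))))))))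
theorem act89_eq (i : Nat) : act89 i = Tab.act T D chk89 i := rfl
theorem c89_0 : allRange (fun i => Nat.beq (act89 i) i) 0 157 = true := by decide +kernel
theorem c89_1 : allRange (fun i => Nat.beq (act89 i) i) 157 157 = true := by decide +kernel
theorem c89_2 : allRange (fun i => Nat.beq (act89 i) i) 314 157 = true := by decide +kernel
theorem c89_3 : allRange (fun i => Nat.beq (act89 i) i) 471 157 = true := by decide +kernel
theorem c89_4 : allRange (fun i => Nat.beq (act89 i) i) 628 157 = true := by decide +kernel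
theorem c89_5 : allRange (fun i => Nat.beq (act89 i) i) 785 157 = true := by decide +kernel
theorem c89_6 : allRange (fun i => Nat.beq (act89 i) i) 942 157 = true := by decide +kernel
theorem c89_7 : allRange (fun i => Nat.beq (act89 i) i) 1099 157 = true := by decide +kernel
theorem c89_8 : allRange (fun i => Nat.beq (act89 i) i) 1256 157 = true := by decide +kernel
theorem c89_9 : allRange (fun i => Nat.beq (act89 i) i) 1413 157 = true := by decide +kernel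
theorem c89_10 : allRange (fun i => Nat.beq (act89 i) i) 1570 157 = true := by decide +kernel
theorem c89_11 : allRange (fun i => Nat.beq (act89 i) i) 1727 157 = true := by decide +kernel
theorem c89_12 : allRange (fun i => Nat.beq (act89 i) i) 1884 157 = true := by decide +kernel
theorem c89_13 : allRange (fun i => Nat.beq (act89 i) i) 2041 17 = true := by decide +kernel
theorem h89 : ∀ i, i < T.N → Tab.relActOK T D chk89 i = true := by
  intro i hi
  rw [Tab.relActOK, ← act89_eq]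
  exact (range_glue (range_of_allRange c89_0) (range_glue (range_of_allRange c89_1) (range_glue (range_of_allRange c89_2) (range_glue (range_of_allRange c89_3) (range_glue (range_of_allRange c89_4) (range_glue (range_of_allRange c89_5) (range_glue (range_of_allRange c89_6) (range_glue (range_of_allRange c89_7) (range_glue (range_of_allRange c89_8) (range_glue (range_of_allRange c89_9) (range_glue (range_of_allRange c89_10) (range_glue (range_of_allRange c89_11) (range_glue (range_of_allRange c89_12) (range_of_allRange c89_13)))))))))))))) i (Nat.zero_le _) hi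

def chk90 : List Nat := [2, 3, 1, 2, 3, 4, 1, 2, 3, 4, 1, 2, 3, 4, 1, 2, 3, 4, 1, 2, 3, 4, 1, 2, 3, 4, 1, 2, 3, 4, 5, 2, 5, 4, 3, 2, 1, 4, 3, 2, 1, 4, 3, 2, 1, 4, 3, 2, 1, 4, 3, 2, 1, 4, 3, 2, 1, 4, 3, 2, 1, 3, 2, 5, 4, 3, 2, 1, 4, 3, 2, 1, 4, 3, 2, 1, 4, 3, 2, 1, 4, 3, 2, 1, 4, 3, 2, 1, 4, 3, 2, 1, 3, 2, 2, 2, 3, 1, 2, 3, 4, 1, 2, 3, 4, 1, 2, 3, 4, 1, 2, 3, 4, 1, 2, 3, 4, 1, 2, 3, 4, 1, 2, 3, 4, 5, 2, 3, 1, 2, 3, 4, 1, 2, 3, 4, 1, 2, 3, 4, 1, 2, 3, 4, 1, 2, 3, 4, 1, 2, 3, 4, 1, 2, 3, 4, 5, 2, 5, 4, 3, 2, 1, 4, 3, 2, 1, 4, 3, 2, 1, 4, 3, 2, 1, 4, 3, 2, 1, 4, 3, 2, 1, 4, 3, 2, 1, 3, 2, 2, 3, 1, 2, 3, 4, 1, 2, 3, 4, 1, 2, 3, 4, 1, 2, 3, 4, 1, 2, 3, 4, 1, 2, 3, 4, 1, 2, 3, 4, 5, 2, 5, 4, 3, 2, 1, 4, 3, 2, 1, 4, 3, 2, 1, 4, 3, 2, 1, 4, 3, 2, 1, 4, 3, 2, 1, 4, 3, 2, 1, 3, 2, 5, 4, 3, 2, 1, 4, 3, 2, 1, 4, 3, 2, 1, 4, 3, 2, 1, 4, 3, 2, 1, 4, 3, 2, 1, 4, 3, 2, 1, 3, 2, 2, 2, 3, 1, 2, 3, 4, 1, 2, 3, 4, 1, 2, 3, 4, 1,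 2, 3, 4, 1, 2, 3, 4, 1, 2, 3, 4, 1, 2, 3, 4, 5, 2, 3, 1, 2, 3, 4, 1, 2, 3, 4, 1, 2, 3, 4, 1, 2, 3, 4, 1, 2, 3, 4, 1, 2, 3, 4, 1, 2, 3, 4, 5, 2, 5, 4, 3, 2, 1, 4, 3, 2, 1, 4, 3, 2, 1, 4, 3, 2, 1, 4, 3, 2, 1, 4, 3, 2, 1, 4, 3, 2, 1, 3, 2]
noncomputable def act90 (i : Nat) : Nat := col2 (col3 (col1 (col2 (col3 (col4 (col1 (col2 (col3 (col4 (col1 (col2 (col3 (col4 (col1 (col2 (col3 (col4 (col1 (col2 (col3 (col4 (col1 (col2 (col3 (col4 (col1 (col2 (col3 (col4 (col5 (col2 (col5 (col4 (col3 (col2 (col1 (col4 (col3 (col2 (col1 (col4 (col3 (col2 (col1 (col4 (col3 (col2 (col1 (col4 (col3 (col2 (col1 (col4 (col3 (col2 (col1 (col4 (col3 (col2 (col1 (col3 (col2 (col5 (col4 (col3 (col2 (col1 (col4 (col3 (col2 (col1 (col4 (col3 (col2 (col1 (col4 (col3 (col2 (col1 (col4 (col3 (col2 (col1 (col4 (col3 (col2 (col1 (col4 (col3 (col2 (col1 (col3 (col2 (col2 (col2 (col3 (col1 (col2 (col3 (col4 (col1 (col2 (col3 (col4 (col1 (col2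 (col3 (col4 (col1 (col2 (col3 (col4 (col1 (col2 (col3 (col4 (col1 (col2 (col3 (col4 (col1 (col2 (col3 (col4 (col5 (col2 (col3 (col1 (col2 (col3 (col4 (col1 (col2 (col3 (col4 (col1 (col2 (col3 (col4 (col1 (col2 (col3 (col4 (col1 (col2 (col3 (col4 (col1 (col2 (col3 (col4 (col1 (col2 (col3 (col4 (col5 (col2 (col5 (col4 (col3 (col2 (col1 (col4 (col3 (col2 (col1 (col4 (col3 (col2 (col1 (col4 (col3 (col2 (col1 (col4 (col3 (col2 (col1 (col4 (col3 (col2 (col1 (col4 (col3 (col2 (col1 (col3 (col2 (col2 (col3 (col1 (col2 (col3 (col4 (col1 (col2 (col3 (col4 (col1 (col2 (col3 (col4 (col1 (col2 (col3 (col4 (col1 (col2 (col3 (col4 (col1 (col2 (col3 (col4 (col1 (col2 (col3 (col4 (col5 (col2 (col5 (col4 (col3 (col2 (col1 (col4 (col3 (col2 (col1 (col4 (col3 (col2 (col1 (col4 (col3 (col2 (col1 (col4 (col3 (col2 (col1 (col4 (col3 (col2 (col1 (col4 (col3 (col2 (col1 (col3 (col2 (col5 (col4 (col3 (col2 (col1 (col4 (col3 (col2 (col1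 (col4 (col3 (col2 (col1 (col4 (col3 (col2 (col1 (col4 (col3 (col2 (col1 (col4 (col3 (col2 (col1 (col4 (col3 (col2 (col1 (col3 (col2 (col2 (col2 (col3 (col1 (col2 (col3 (col4 (col1 (col2 (col3 (col4 (col1 (col2 (col3 (col4 (col1 (col2 (col3 (col4 (col1 (col2 (col3 (col4 (col1 (col2 (col3 (col4 (col1 (col2 (col3 (col4 (col5 (col2 (col3 (col1 (col2 (col3 (col4 (col1 (col2 (col3 (col4 (col1 (col2 (col3 (col4 (col1 (col2 (col3 (col4 (col1 (col2 (col3 (col4 (col1 (col2 (col3 (col4 (col1 (col2 (col3 (col4 (col5 (col2 (col5 (col4 (col3 (col2 (col1 (col4 (col3 (col2 (col1 (col4 (col3 (col2 (col1 (col4 (col3 (col2 (col1 (col4 (col3 (col2 (col1 (col4 (col3 (col2 (col1 (col4 (col3 (col2 (col1 (col3 (col2 (i))))))))))))))))))))))))))))))))))))))))))))))))))))))))))))))))))))))))))))))))))))))))))))))))))))))))))))))))))))))))))))))))))))))))))))))))))))))))))))))))))))))))))))))))))))))))))))))))))))))))))))))))))))))))))))))))))))))))))))))))))))))))))))))))))))))))))))))))))))))))))))))))))))))))))))))))))))))))))))))))))))))))))))))))))))))))))))))))))))))))))))))))))))))))))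
theorem act90_eq (i : Nat) : act90 i = Tab.act T D chk90 i := rfl
theorem c90_0 : allRange (fun i => Nat.beq (act90 i) i) 0 157 = true := by decide +kernel
theorem c90_1 : allRange (fun i => Nat.beq (act90 i) i) 157 157 = true := by decide +kernel
theorem c90_2 : allRange (fun i => Nat.beq (act90 i) i) 314 157 = true := by decide +kernel
theorem c90_3 : allRange (fun i => Nat.beq (act90 i) i) 471 157 = true := by decide +kernel
theorem c90_4 : allRange (fun i => Nat.beq (act90 i) i) 628 157 = true := by decide +kernel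
theorem c90_5 : allRange (fun i => Nat.beq (act90 i) i) 785 157 = true := by decide +kernel
theorem c90_6 : allRange (fun i => Nat.beq (act90 i) i) 942 157 = true := by decide +kernel
theorem c90_7 : allRange (fun i => Nat.beq (act90 i) i) 1099 157 = true := by decide +kernel
theorem c90_8 : allRange (fun i => Nat.beq (act90 i) i) 1256 157 = true := by decide +kernel
theorem c90_9 : allRange (fun i => Nat.beq (act90 i) i) 1413 157 = true := by decide +kernel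
theorem c90_10 : allRange (fun i => Nat.beq (act90 i) i) 1570 157 = true := by decide +kernel
theorem c90_11 : allRange (fun i => Nat.beq (act90 i) i) 1727 157 = true := by decide +kernel
theorem c90_12 : allRange (fun i => Nat.beq (act90 i) i) 1884 157 = true := by decide +kernel
theorem c90_13 : allRange (fun i => Nat.beq (act90 i) i) 2041 17 = true := by decide +kernel
theorem h90 : ∀ i, i < T.N → Tab.relActOK T D chk90 i = true := by
  intro i hi
  rw [Tab.relActOK, ← act90_eq]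
  exact (range_glue (range_of_allRange c90_0) (range_glue (range_of_allRange c90_1) (range_glue (range_of_allRange c90_2) (range_glue (range_of_allRange c90_3) (range_glue (range_of_allRange c90_4) (range_glue (range_of_allRange c90_5) (range_glue (range_of_allRange c90_6) (range_glue (range_of_allRange c90_7) (range_glue (range_of_allRange c90_8) (range_glue (range_of_allRange c90_9) (range_glue (range_of_allRange c90_10) (range_glue (range_of_allRange c90_11) (range_glue (range_of_allRange c90_12) (range_of_allRange c90_13)))))))))))))) i (Nat.zero_le _) hi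

def chk91 : List Nat := [6, 2, 3, 1, 2, 3, 4, 1, 2, 3, 4, 1, 2, 3, 4, 1, 2, 3, 4, 1, 2, 3, 4, 1, 2, 3, 4, 1, 2, 3, 4, 5, 2, 3, 1, 2, 3, 4, 1, 2, 3, 4, 1, 2, 3, 4, 1, 2, 3, 4, 1, 2, 3, 4, 1, 2, 3, 4, 1, 2, 3, 4, 5, 2, 3, 1, 2, 3, 4, 1, 2, 3, 4, 1, 2, 3, 4, 1, 2, 3, 4, 1, 2, 3, 4, 1, 2, 3, 4, 1, 2, 3, 4, 5, 2, 5, 4, 3, 2, 1, 4, 3, 2, 1, 4, 3, 2, 1, 4, 3, 2, 1, 4, 3, 2, 1, 4, 3, 2, 1, 4, 3, 2, 1, 3, 2, 2, 2, 3, 1, 2, 3, 4, 1, 2, 3, 4, 1, 2, 3, 4, 1, 2, 3, 4, 1, 2, 3, 4, 1, 2, 3, 4, 1, 2, 3, 4, 5, 2, 5, 4, 3, 2, 1, 4, 3, 2, 1, 4, 3, 2, 1, 4, 3, 2, 1, 4, 3, 2, 1, 4, 3, 2, 1, 4, 3, 2, 1, 3, 2, 5, 4, 3, 2, 1, 4, 3, 2, 1, 4, 3, 2, 1, 4, 3, 2, 1, 4, 3, 2, 1, 4, 3, 2, 1, 4, 3, 2, 1, 3, 2, 5, 4, 3, 2, 1, 4, 3, 2, 1, 4, 3, 2, 1, 4, 3, 2, 1, 4, 3, 2, 1, 4, 3, 2, 1, 4, 3, 2, 1, 3, 2, 6, 2, 3, 1, 2, 3, 4, 1, 2, 3, 4, 1, 2, 3, 4, 1, 2, 3, 4, 1, 2, 3, 4, 1, 2, 3, 4, 1, 2, 3, 4, 5, 2, 3, 1, 2, 3, 4, 1, 2, 3, 4, 1, 2, 3, 4, 1,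 2, 3, 4, 1, 2, 3, 4, 1, 2, 3, 4, 1, 2, 3, 4, 5, 2, 3, 1, 2, 3, 4, 1, 2, 3, 4, 1, 2, 3, 4, 1, 2, 3, 4, 1, 2, 3, 4, 1, 2, 3, 4, 1, 2, 3, 4, 5, 2, 5, 4, 3, 2, 1, 4, 3, 2, 1, 4, 3, 2, 1, 4, 3, 2, 1, 4, 3, 2, 1, 4, 3, 2, 1, 4, 3, 2, 1, 3, 2, 2, 2, 3, 1, 2, 3, 4, 1, 2, 3, 4, 1, 2, 3, 4, 1, 2, 3, 4, 1, 2, 3, 4, 1, 2, 3, 4, 1, 2, 3, 4, 5, 2, 5, 4, 3, 2, 1, 4, 3, 2, 1, 4, 3, 2, 1, 4, 3, 2, 1, 4, 3, 2, 1, 4, 3, 2, 1, 4, 3, 2, 1, 3, 2, 5, 4, 3, 2, 1, 4, 3, 2, 1, 4, 3, 2, 1, 4, 3, 2, 1, 4, 3, 2, 1, 4, 3, 2, 1, 4, 3, 2, 1, 3, 2, 5, 4, 3, 2, 1, 4, 3, 2, 1, 4, 3, 2, 1, 4, 3, 2, 1, 4, 3, 2, 1, 4, 3, 2, 1, 4, 3, 2, 1, 3, 2]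
noncomputable def act91 (i : Nat) : Nat := col6 (col2 (col3 (col1 (col2 (col3 (col4 (col1 (col2 (col3 (col4 (col1 (col2 (col3 (col4 (col1 (col2 (col3 (col4 (col1 (col2 (col3 (col4 (col1 (col2 (col3 (col4 (col1 (col2 (col3 (col4 (col5 (col2 (col3 (col1 (col2 (col3 (col4 (col1 (col2 (col3 (col4 (col1 (col2 (col3 (col4 (col1 (col2 (col3 (col4 (col1 (col2 (col3 (col4 (col1 (col2 (col3 (col4 (col1 (col2 (col3 (col4 (col5 (col2 (col3 (col1 (col2 (col3 (col4 (col1 (col2 (col3 (col4 (col1 (col2 (col3 (col4 (col1 (col2 (col3 (col4 (col1 (col2 (col3 (col4 (col1 (col2 (col3 (col4 (col1 (col2 (col3 (col4 (col5 (col2 (col5 (col4 (col3 (col2 (col1 (col4 (col3 (col2 (col1 (col4 (col3 (col2 (col1 (col4 (col3 (col2 (col1 (col4 (col3 (col2 (col1 (col4 (col3 (col2 (col1 (col4 (col3 (col2 (col1 (col3 (col2 (col2 (col2 (col3 (col1 (col2 (col3 (col4 (col1 (col2 (col3 (col4 (col1 (col2 (col3 (col4 (col1 (col2 (col3 (col4 (col1 (col2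 (col3 (col4 (col1 (col2 (col3 (col4 (col1 (col2 (col3 (col4 (col5 (col2 (col5 (col4 (col3 (col2 (col1 (col4 (col3 (col2 (col1 (col4 (col3 (col2 (col1 (col4 (col3 (col2 (col1 (col4 (col3 (col2 (col1 (col4 (col3 (col2 (col1 (col4 (col3 (col2 (col1 (col3 (col2 (col5 (col4 (col3 (col2 (col1 (col4 (col3 (col2 (col1 (col4 (col3 (col2 (col1 (col4 (col3 (col2 (col1 (col4 (col3 (col2 (col1 (col4 (col3 (col2 (col1 (col4 (col3 (col2 (col1 (col3 (col2 (col5 (col4 (col3 (col2 (col1 (col4 (col3 (col2 (col1 (col4 (col3 (col2 (col1 (col4 (col3 (col2 (col1 (col4 (col3 (col2 (col1 (col4 (col3 (col2 (col1 (col4 (col3 (col2 (col1 (col3 (col2 (col6 (col2 (col3 (col1 (col2 (col3 (col4 (col1 (col2 (col3 (col4 (col1 (col2 (col3 (col4 (col1 (col2 (col3 (col4 (col1 (col2 (col3 (col4 (col1 (col2 (col3 (col4 (col1 (col2 (col3 (col4 (col5 (col2 (col3 (col1 (col2 (col3 (col4 (col1 (col2 (col3 (col4 (col1 (col2 (col3 (col4 (col1 (col2 (col3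 (col4 (col1 (col2 (col3 (col4 (col1 (col2 (col3 (col4 (col1 (col2 (col3 (col4 (col5 (col2 (col3 (col1 (col2 (col3 (col4 (col1 (col2 (col3 (col4 (col1 (col2 (col3 (col4 (col1 (col2 (col3 (col4 (col1 (col2 (col3 (col4 (col1 (col2 (col3 (col4 (col1 (col2 (col3 (col4 (col5 (col2 (col5 (col4 (col3 (col2 (col1 (col4 (col3 (col2 (col1 (col4 (col3 (col2 (col1 (col4 (col3 (col2 (col1 (col4 (col3 (col2 (col1 (col4 (col3 (col2 (col1 (col4 (col3 (col2 (col1 (col3 (col2 (col2 (col2 (col3 (col1 (col2 (col3 (col4 (col1 (col2 (col3 (col4 (col1 (col2 (col3 (col4 (col1 (col2 (col3 (col4 (col1 (col2 (col3 (col4 (col1 (col2 (col3 (col4 (col1 (col2 (col3 (col4 (col5 (col2 (col5 (col4 (col3 (col2 (col1 (col4 (col3 (col2 (col1 (col4 (col3 (col2 (col1 (col4 (col3 (col2 (col1 (col4 (col3 (col2 (col1 (col4 (col3 (col2 (col1 (col4 (col3 (col2 (col1 (col3 (col2 (col5 (col4 (col3 (col2 (col1 (col4 (col3 (col2 (col1 (col4 (col3 (col2 (col1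 (col4 (col3 (col2 (col1 (col4 (col3 (col2 (col1 (col4 (col3 (col2 (col1 (col4 (col3 (col2 (col1 (col3 (col2 (col5 (col4 (col3 (col2 (col1 (col4 (col3 (col2 (col1 (col4 (col3 (col2 (col1 (col4 (col3 (col2 (col1 (col4 (col3 (col2 (col1 (col4 (col3 (col2 (col1 (col4 (col3 (col2 (col1 (col3 (col2 (i))))))))))))))))))))))))))))))))))))))))))))))))))))))))))))))))))))))))))))))))))))))))))))))))))))))))))))))))))))))))))))))))))))))))))))))))))))))))))))))))))))))))))))))))))))))))))))))))))))))))))))))))))))))))))))))))))))))))))))))))))))))))))))))))))))))))))))))))))))))))))))))))))))))))))))))))))))))))))))))))))))))))))))))))))))))))))))))))))))))))))))))))))))))))))))))))))))))))))))))))))))))))))))))))))))))))))))))))))))))))))))))))))))))))))))))))))))))))))))))))))))))))))))))))))))))))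
theorem act91_eq (i : Nat) : act91 i = Tab.act T D chk91 i := rfl
theorem c91_0 : allRange (fun i => Nat.beq (act91 i) i) 0 118 = true := by decide +kernel
theorem c91_1 : allRange (fun i => Nat.beq (act91 i) i) 118 118 = true := by decide +kernel
theorem c91_2 : allRange (fun i => Nat.beq (act91 i) i) 236 118 = true := by decide +kernel
theorem c91_3 : allRange (fun i => Nat.beq (act91 i) i) 354 118 = true := by decide +kernel
theorem c91_4 : allRange (fun i => Nat.beq (act91 i) i) 472 118 = true := by decide +kernel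
theorem c91_5 : allRange (fun i => Nat.beq (act91 i) i) 590 118 = true := by decide +kernel
theorem c91_6 : allRange (fun i => Nat.beq (act91 i) i) 708 118 = true := by decide +kernel
theorem c91_7 : allRange (fun i => Nat.beq (act91 i) i) 826 118 = true := by decide +kernel
theorem c91_8 : allRange (fun i => Nat.beq (act91 i) i) 944 118 = true := by decide +kernel
theorem c91_9 : allRange (fun i => Nat.beq (act91 i) i) 1062 118 = true := by decide +kernel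
theorem c91_10 : allRange (fun i => Nat.beq (act91 i) i) 1180 118 = true := by decide +kernel
theorem c91_11 : allRange (fun i => Nat.beq (act91 i) i) 1298 118 = true := by decide +kernel
theorem c91_12 : allRange (fun i => Nat.beq (act91 i) i) 1416 118 = true := by decide +kernel
theorem c91_13 : allRange (fun i => Nat.beq (act91 i) i) 1534 118 = true := by decide +kernel
theorem c91_14 : allRange (fun i => Nat.beq (act91 i) i) 1652 118 = true := by decide +kernel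
theorem c91_15 : allRange (fun i => Nat.beq (act91 i) i) 1770 118 = true := by decide +kernel
theorem c91_16 : allRange (fun i => Nat.beq (act91 i) i) 1888 118 = true := by decide +kernel
theorem c91_17 : allRange (fun i => Nat.beq (act91 i) i) 2006 52 = true := by decide +kernel
theorem h91 : ∀ i, i < T.N → Tab.relActOK T D chk91 i = true := by
  intro i hi
  rw [Tab.relActOK, ← act91_eq]
  exact (range_glue (range_of_allRange c91_0) (range_glue (range_of_allRange c91_1) (range_glue (range_of_allRange c91_2) (range_glue (range_of_allRange c91_3) (range_glue (range_of_allRange c91_4) (range_glue (range_of_allRange c91_5) (range_glue (range_of_allRange c91_6) (range_glue (range_of_allRange c91_7) (range_glue (range_of_allRange c91_8) (range_glue (range_of_allRange c91_9) (range_glue (range_of_allRange c91_10) (range_glue (range_of_allRange c91_11) (range_glue (range_of_allRange c91_12) (range_glue (range_of_allRange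 c91_13) (range_glue (range_of_allRange c91_14) (range_glue (range_of_allRange c91_15) (range_glue (range_of_allRange c91_16) (range_of_allRange c91_17)))))))))))))))))) i (Nat.zero_le _) hi

def chk92 : List Nat := [2, 3, 1, 2, 3, 4, 1, 2, 3, 4, 1, 2, 3, 4, 1, 2, 3, 4, 1, 2, 3, 4, 1, 2, 3, 4, 1, 2, 3, 4, 5, 2, 3, 1, 2, 3, 4, 1, 2, 3, 4, 1, 2, 3, 4, 1, 2, 3, 4, 1, 2, 3, 4, 1, 2, 3, 4, 1, 2, 3, 4, 5, 2, 3, 1, 2, 3, 4, 1, 2, 3, 4, 1, 2, 3, 4, 1, 2, 3, 4, 1, 2, 3, 4, 1, 2, 3, 4, 1, 2, 3, 4, 5, 2, 5, 4, 3, 2, 1, 4, 3, 2, 1, 4, 3, 2, 1, 4, 3, 2, 1, 4, 3, 2, 1, 4, 3, 2, 1, 4, 3, 2, 1, 3, 2, 2, 2, 3, 1, 2, 3, 4, 1, 2, 3, 4, 1, 2, 3, 4, 1, 2, 3, 4, 1, 2, 3, 4, 1, 2, 3, 4, 1, 2, 3, 4, 5, 2, 5, 4, 3, 2, 1, 4, 3, 2, 1, 4, 3, 2, 1, 4, 3, 2, 1, 4, 3, 2, 1, 4, 3, 2, 1, 4, 3, 2, 1, 3, 2, 5, 4, 3, 2, 1, 4, 3, 2, 1, 4, 3, 2, 1, 4, 3, 2, 1, 4, 3, 2, 1, 4, 3, 2, 1, 4, 3, 2, 1, 3, 2, 5, 4, 3, 2, 1, 4, 3, 2, 1, 4, 3, 2, 1, 4, 3,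 2, 1, 4, 3, 2, 1, 4, 3, 2, 1, 4, 3, 2, 1, 3, 2, 2, 3, 1, 2, 3, 4, 1, 2, 3, 4, 1, 2, 3, 4, 1, 2, 3, 4, 1, 2, 3, 4, 1, 2, 3, 4, 1, 2, 3, 4, 5, 2, 3, 1, 2, 3, 4, 1, 2, 3, 4, 1, 2, 3, 4, 1, 2, 3, 4, 1, 2, 3, 4, 1, 2, 3, 4, 1, 2, 3, 4, 5, 2, 3, 1, 2, 3, 4, 1, 2, 3, 4, 1, 2, 3, 4, 1, 2, 3, 4, 1, 2, 3, 4, 1, 2, 3, 4, 1, 2, 3, 4, 5, 2, 5, 4, 3, 2, 1, 4, 3, 2, 1, 4, 3, 2, 1, 4, 3, 2, 1, 4, 3, 2, 1, 4, 3, 2, 1, 4, 3, 2, 1, 3, 2, 2, 2, 3, 1, 2, 3, 4, 1, 2, 3, 4, 1, 2, 3, 4, 1, 2, 3, 4, 1, 2, 3, 4, 1, 2, 3, 4, 1, 2, 3, 4, 5, 2, 5, 4, 3, 2, 1, 4, 3, 2, 1, 4, 3, 2, 1, 4, 3, 2, 1, 4, 3, 2, 1, 4, 3, 2, 1, 4, 3, 2, 1, 3, 2, 5, 4, 3, 2, 1, 4, 3, 2, 1, 4, 3, 2, 1, 4, 3, 2, 1, 4, 3, 2, 1, 4, 3, 2, 1, 4, 3, 2, 1, 3, 2, 5, 4, 3, 2, 1, 4, 3, 2, 1, 4, 3, 2, 1, 4, 3, 2, 1, 4, 3, 2, 1, 4, 3, 2, 1, 4, 3, 2, 1, 3, 2]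
noncomputable def act92 (i : Nat) : Nat := col2 (col3 (col1 (col2 (col3 (col4 (col1 (col2 (col3 (col4 (col1 (col2 (col3 (col4 (col1 (col2 (col3 (col4 (col1 (col2 (col3 (col4 (col1 (col2 (col3 (col4 (col1 (col2 (col3 (col4 (col5 (col2 (col3 (col1 (col2 (col3 (col4 (col1 (col2 (col3 (col4 (col1 (col2 (col3 (col4 (col1 (col2 (col3 (col4 (col1 (col2 (col3 (col4 (col1 (col2 (col3 (col4 (col1 (col2 (col3 (col4 (col5 (col2 (col3 (col1 (col2 (col3 (col4 (col1 (col2 (col3 (col4 (col1 (col2 (col3 (col4 (col1 (col2 (col3 (col4 (col1 (col2 (col3 (col4 (col1 (col2 (col3 (col4 (col1 (col2 (col3 (col4 (col5 (col2 (col5 (col4 (col3 (col2 (col1 (col4 (col3 (col2 (col1 (col4 (col3 (col2 (col1 (col4 (col3 (col2 (col1 (col4 (col3 (col2 (col1 (col4 (col3 (col2 (col1 (col4 (col3 (col2 (col1 (col3 (col2 (col2 (col2 (col3 (col1 (col2 (col3 (col4 (col1 (col2 (col3 (col4 (col1 (col2 (col3 (col4 (col1 (col2 (col3 (col4 (col1 (col2 (col3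 (col4 (col1 (col2 (col3 (col4 (col1 (col2 (col3 (col4 (col5 (col2 (col5 (col4 (col3 (col2 (col1 (col4 (col3 (col2 (col1 (col4 (col3 (col2 (col1 (col4 (col3 (col2 (col1 (col4 (col3 (col2 (col1 (col4 (col3 (col2 (col1 (col4 (col3 (col2 (col1 (col3 (col2 (col5 (col4 (col3 (col2 (col1 (col4 (col3 (col2 (col1 (col4 (col3 (col2 (col1 (col4 (col3 (col2 (col1 (col4 (col3 (col2 (col1 (col4 (col3 (col2 (col1 (col4 (col3 (col2 (col1 (col3 (col2 (col5 (col4 (col3 (col2 (col1 (col4 (col3 (col2 (col1 (col4 (col3 (col2 (col1 (col4 (col3 (col2 (col1 (col4 (col3 (col2 (col1 (col4 (col3 (col2 (col1 (col4 (col3 (col2 (col1 (col3 (col2 (col2 (col3 (col1 (col2 (col3 (col4 (col1 (col2 (col3 (col4 (col1 (col2 (col3 (col4 (col1 (col2 (col3 (col4 (col1 (col2 (col3 (col4 (col1 (col2 (col3 (col4 (col1 (col2 (col3 (col4 (col5 (col2 (col3 (col1 (col2 (col3 (col4 (col1 (col2 (col3 (col4 (col1 (col2 (col3 (col4 (col1 (col2 (col3 (col4 (col1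 (col2 (col3 (col4 (col1 (col2 (col3 (col4 (col1 (col2 (col3 (col4 (col5 (col2 (col3 (col1 (col2 (col3 (col4 (col1 (col2 (col3 (col4 (col1 (col2 (col3 (col4 (col1 (col2 (col3 (col4 (col1 (col2 (col3 (col4 (col1 (col2 (col3 (col4 (col1 (col2 (col3 (col4 (col5 (col2 (col5 (col4 (col3 (col2 (col1 (col4 (col3 (col2 (col1 (col4 (col3 (col2 (col1 (col4 (col3 (col2 (col1 (col4 (col3 (col2 (col1 (col4 (col3 (col2 (col1 (col4 (col3 (col2 (col1 (col3 (col2 (col2 (col2 (col3 (col1 (col2 (col3 (col4 (col1 (col2 (col3 (col4 (col1 (col2 (col3 (col4 (col1 (col2 (col3 (col4 (col1 (col2 (col3 (col4 (col1 (col2 (col3 (col4 (col1 (col2 (col3 (col4 (col5 (col2 (col5 (col4 (col3 (col2 (col1 (col4 (col3 (col2 (col1 (col4 (col3 (col2 (col1 (col4 (col3 (col2 (col1 (col4 (col3 (col2 (col1 (col4 (col3 (col2 (col1 (col4 (col3 (col2 (col1 (col3 (col2 (col5 (col4 (col3 (col2 (col1 (col4 (col3 (col2 (col1 (col4 (col3 (col2 (col1 (col4 (col3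 (col2 (col1 (col4 (col3 (col2 (col1 (col4 (col3 (col2 (col1 (col4 (col3 (col2 (col1 (col3 (col2 (col5 (col4 (col3 (col2 (col1 (col4 (col3 (col2 (col1 (col4 (col3 (col2 (col1 (col4 (col3 (col2 (col1 (col4 (col3 (col2 (col1 (col4 (col3 (col2 (col1 (col4 (col3 (col2 (col1 (col3 (col2 (i))))))))))))))))))))))))))))))))))))))))))))))))))))))))))))))))))))))))))))))))))))))))))))))))))))))))))))))))))))))))))))))))))))))))))))))))))))))))))))))))))))))))))))))))))))))))))))))))))))))))))))))))))))))))))))))))))))))))))))))))))))))))))))))))))))))))))))))))))))))))))))))))))))))))))))))))))))))))))))))))))))))))))))))))))))))))))))))))))))))))))))))))))))))))))))))))))))))))))))))))))))))))))))))))))))))))))))))))))))))))))))))))))))))))))))))))))))))))))))))))))))))))))))))))))))))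
theorem act92_eq (i : Nat) : act92 i = Tab.act T D chk92 i := rfl
theorem c92_0 : allRange (fun i => Nat.beq (act92 i) i) 0 119 = true := by decide +kernel
theorem c92_1 : allRange (fun i => Nat.beq (act92 i) i) 119 119 = true := by decide +kernel
theorem c92_2 : allRange (fun i => Nat.beq (act92 i) i) 238 119 = true := by decide +kernel
theorem c92_3 : allRange (fun i => Nat.beq (act92 i) i) 357 119 = true := by decide +kernel
theorem c92_4 : allRange (fun i => Nat.beq (act92 i) i) 476 119 = true := by decide +kernel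
theorem c92_5 : allRange (fun i => Nat.beq (act92 i) i) 595 119 = true := by decide +kernel
theorem c92_6 : allRange (fun i => Nat.beq (act92 i) i) 714 119 = true := by decide +kernel
theorem c92_7 : allRange (fun i => Nat.beq (act92 i) i) 833 119 = true := by decide +kernel
theorem c92_8 : allRange (fun i => Nat.beq (act92 i) i) 952 119 = true := by decide +kernel
theorem c92_9 : allRange (fun i => Nat.beq (act92 i) i) 1071 119 = true := by decide +kernel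
theorem c92_10 : allRange (fun i => Nat.beq (act92 i) i) 1190 119 = true := by decide +kernel
theorem c92_11 : allRange (fun i => Nat.beq (act92 i) i) 1309 119 = true := by decide +kernel
theorem c92_12 : allRange (fun i => Nat.beq (act92 i) i) 1428 119 = true := by decide +kernel
theorem c92_13 : allRange (fun i => Nat.beq (act92 i) i) 1547 119 = true := by decide +kernel
theorem c92_14 : allRange (fun i => Nat.beq (act92 i) i) 1666 119 = true := by decide +kernel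
theorem c92_15 : allRange (fun i => Nat.beq (act92 i) i) 1785 119 = true := by decide +kernel
theorem c92_16 : allRange (fun i => Nat.beq (act92 i) i) 1904 119 = true := by decide +kernel
theorem c92_17 : allRange (fun i => Nat.beq (act92 i) i) 2023 35 = true := by decide +kernel
theorem h92 : ∀ i, i < T.N → Tab.relActOK T D chk92 i = true := by
  intro i hi
  rw [Tab.relActOK, ← act92_eq]
  exact (range_glue (range_of_allRange c92_0) (range_glue (range_of_allRange c92_1) (range_glue (range_of_allRange c92_2) (range_glue (range_of_allRange c92_3) (range_glue (range_of_allRange c92_4) (range_glue (range_of_allRange c92_5) (range_glue (range_of_allRange c92_6) (range_glue (range_of_allRange c92_7) (range_glue (range_of_allRange c92_8) (range_glue (range_of_allRange c92_9) (range_glue (range_of_allRange c92_10) (range_glue (range_of_allRange c92_11) (range_glue (range_of_allRange c92_12) (range_glue (range_of_allRange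 c92_13) (range_glue (range_of_allRange c92_14) (range_glue (range_of_allRange c92_15) (range_glue (range_of_allRange c92_16) (range_of_allRange c92_17)))))))))))))))))) i (Nat.zero_le _) hi

def chk93 : List Nat := [2, 3, 1, 2, 3, 4, 1, 2, 3, 4, 1, 2, 3, 4, 1, 2, 3, 4, 1, 2, 3, 4, 1, 2, 3, 4, 1, 2, 3, 4, 5, 2, 3, 1, 2, 3, 4, 1, 2, 3, 4, 1, 2, 3, 4, 1, 2, 3, 4, 1, 2, 3, 4, 1, 2, 3, 4, 1, 2, 3, 4, 5, 2, 3, 1, 2, 3, 4, 1, 2, 3, 4, 1, 2, 3, 4, 1, 2, 3, 4, 1, 2, 3, 4, 1, 2, 3, 4, 1, 2, 3, 4, 5, 2, 5, 4, 3, 2, 1, 4, 3, 2, 1, 4, 3, 2, 1, 4, 3, 2, 1, 4, 3, 2, 1, 4, 3, 2, 1, 4, 3, 2, 1, 3, 2, 2, 2, 3, 1, 2, 3, 4, 1, 2, 3, 4, 1, 2, 3, 4, 1, 2, 3, 4, 1, 2, 3, 4, 1, 2, 3, 4, 1, 2, 3, 4, 5, 2, 5, 4, 3, 2, 1, 4, 3, 2, 1, 4, 3, 2, 1, 4, 3, 2, 1, 4, 3, 2, 1, 4, 3, 2, 1, 4, 3, 2, 1, 3, 2, 5, 4, 3, 2, 1, 4, 3, 2, 1, 4, 3, 2, 1, 4, 3, 2, 1, 4, 3, 2, 1, 4, 3, 2, 1, 4, 3, 2, 1, 3, 2, 5, 4, 3, 2, 1, 4, 3, 2, 1, 4, 3, 2, 1, 4, 3,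 2, 1, 4, 3, 2, 1, 4, 3, 2, 1, 4, 3, 2, 1, 3, 2, 2, 3, 1, 2, 3, 4, 1, 2, 3, 4, 1, 2, 3, 4, 1, 2, 3, 4, 1, 2, 3, 4, 1, 2, 3, 4, 1, 2, 3, 4, 5, 2, 3, 1, 2, 3, 4, 1, 2, 3, 4, 1, 2, 3, 4, 1, 2, 3, 4, 1, 2, 3, 4, 1, 2, 3, 4, 1, 2, 3, 4, 5, 2, 3, 1, 2, 3, 4, 1, 2, 3, 4, 1, 2, 3, 4, 1, 2, 3, 4, 1, 2, 3, 4, 1, 2, 3, 4, 1, 2, 3, 4, 5, 2, 5, 4, 3, 2, 1, 4, 3, 2, 1, 4, 3, 2, 1, 4, 3, 2, 1, 4, 3, 2, 1, 4, 3, 2, 1, 4, 3, 2, 1, 3, 2, 2, 2, 3, 1, 2, 3, 4, 1, 2, 3, 4, 1, 2, 3, 4, 1, 2, 3, 4, 1, 2, 3, 4, 1, 2, 3, 4, 1, 2, 3, 4, 5, 2, 5, 4, 3, 2, 1, 4, 3, 2, 1, 4, 3, 2, 1, 4, 3, 2, 1, 4, 3, 2, 1, 4, 3, 2, 1, 4, 3, 2, 1, 3, 2, 5, 4, 3, 2, 1, 4, 3, 2, 1, 4, 3, 2, 1, 4, 3, 2, 1, 4, 3, 2, 1, 4, 3, 2, 1, 4, 3, 2, 1, 3, 2, 5, 4, 3, 2, 1, 4, 3, 2, 1, 4, 3, 2, 1, 4, 3, 2, 1, 4, 3, 2, 1, 4, 3, 2, 1, 4, 3, 2, 1, 3, 2]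
noncomputable def act93 (i : Nat) : Nat := col2 (col3 (col1 (col2 (col3 (col4 (col1 (col2 (col3 (col4 (col1 (col2 (col3 (col4 (col1 (col2 (col3 (col4 (col1 (col2 (col3 (col4 (col1 (col2 (col3 (col4 (col1 (col2 (col3 (col4 (col5 (col2 (col3 (col1 (col2 (col3 (col4 (col1 (col2 (col3 (col4 (col1 (col2 (col3 (col4 (col1 (col2 (col3 (col4 (col1 (col2 (col3 (col4 (col1 (col2 (col3 (col4 (col1 (col2 (col3 (col4 (col5 (col2 (col3 (col1 (col2 (col3 (col4 (col1 (col2 (col3 (col4 (col1 (col2 (col3 (col4 (col1 (col2 (col3 (col4 (col1 (col2 (col3 (col4 (col1 (col2 (col3 (col4 (col1 (col2 (col3 (col4 (col5 (col2 (col5 (col4 (col3 (col2 (col1 (col4 (col3 (col2 (col1 (col4 (col3 (col2 (col1 (col4 (col3 (col2 (col1 (col4 (col3 (col2 (col1 (col4 (col3 (col2 (col1 (col4 (col3 (col2 (col1 (col3 (col2 (col2 (col2 (col3 (col1 (col2 (col3 (col4 (col1 (col2 (col3 (col4 (col1 (col2 (col3 (col4 (col1 (col2 (col3 (col4 (col1 (col2 (col3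 (col4 (col1 (col2 (col3 (col4 (col1 (col2 (col3 (col4 (col5 (col2 (col5 (col4 (col3 (col2 (col1 (col4 (col3 (col2 (col1 (col4 (col3 (col2 (col1 (col4 (col3 (col2 (col1 (col4 (col3 (col2 (col1 (col4 (col3 (col2 (col1 (col4 (col3 (col2 (col1 (col3 (col2 (col5 (col4 (col3 (col2 (col1 (col4 (col3 (col2 (col1 (col4 (col3 (col2 (col1 (col4 (col3 (col2 (col1 (col4 (col3 (col2 (col1 (col4 (col3 (col2 (col1 (col4 (col3 (col2 (col1 (col3 (col2 (col5 (col4 (col3 (col2 (col1 (col4 (col3 (col2 (col1 (col4 (col3 (col2 (col1 (col4 (col3 (col2 (col1 (col4 (col3 (col2 (col1 (col4 (col3 (col2 (col1 (col4 (col3 (col2 (col1 (col3 (col2 (col2 (col3 (col1 (col2 (col3 (col4 (col1 (col2 (col3 (col4 (col1 (col2 (col3 (col4 (col1 (col2 (col3 (col4 (col1 (col2 (col3 (col4 (col1 (col2 (col3 (col4 (col1 (col2 (col3 (col4 (col5 (col2 (col3 (col1 (col2 (col3 (col4 (col1 (col2 (col3 (col4 (col1 (col2 (col3 (col4 (col1 (col2 (col3 (col4 (col1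 (col2 (col3 (col4 (col1 (col2 (col3 (col4 (col1 (col2 (col3 (col4 (col5 (col2 (col3 (col1 (col2 (col3 (col4 (col1 (col2 (col3 (col4 (col1 (col2 (col3 (col4 (col1 (col2 (col3 (col4 (col1 (col2 (col3 (col4 (col1 (col2 (col3 (col4 (col1 (col2 (col3 (col4 (col5 (col2 (col5 (col4 (col3 (col2 (col1 (col4 (col3 (col2 (col1 (col4 (col3 (col2 (col1 (col4 (col3 (col2 (col1 (col4 (col3 (col2 (col1 (col4 (col3 (col2 (col1 (col4 (col3 (col2 (col1 (col3 (col2 (col2 (col2 (col3 (col1 (col2 (col3 (col4 (col1 (col2 (col3 (col4 (col1 (col2 (col3 (col4 (col1 (col2 (col3 (col4 (col1 (col2 (col3 (col4 (col1 (col2 (col3 (col4 (col1 (col2 (col3 (col4 (col5 (col2 (col5 (col4 (col3 (col2 (col1 (col4 (col3 (col2 (col1 (col4 (col3 (col2 (col1 (col4 (col3 (col2 (col1 (col4 (col3 (col2 (col1 (col4 (col3 (col2 (col1 (col4 (col3 (col2 (col1 (col3 (col2 (col5 (col4 (col3 (col2 (col1 (col4 (col3 (col2 (col1 (col4 (col3 (col2 (col1 (col4 (col3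 (col2 (col1 (col4 (col3 (col2 (col1 (col4 (col3 (col2 (col1 (col4 (col3 (col2 (col1 (col3 (col2 (col5 (col4 (col3 (col2 (col1 (col4 (col3 (col2 (col1 (col4 (col3 (col2 (col1 (col4 (col3 (col2 (col1 (col4 (col3 (col2 (col1 (col4 (col3 (col2 (col1 (col4 (col3 (col2 (col1 (col3 (col2 (i))))))))))))))))))))))))))))))))))))))))))))))))))))))))))))))))))))))))))))))))))))))))))))))))))))))))))))))))))))))))))))))))))))))))))))))))))))))))))))))))))))))))))))))))))))))))))))))))))))))))))))))))))))))))))))))))))))))))))))))))))))))))))))))))))))))))))))))))))))))))))))))))))))))))))))))))))))))))))))))))))))))))))))))))))))))))))))))))))))))))))))))))))))))))))))))))))))))))))))))))))))))))))))))))))))))))))))))))))))))))))))))))))))))))))))))))))))))))))))))))))))))))))))))))))))))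
theorem act93_eq (i : Nat) : act93 i = Tab.act T D chk93 i := rfl
theorem c93_0 : allRange (fun i => Nat.beq (act93 i) i) 0 119 = true := by decide +kernel
theorem c93_1 : allRange (fun i => Nat.beq (act93 i) i) 119 119 = true := by decide +kernel
theorem c93_2 : allRange (fun i => Nat.beq (act93 i) i) 238 119 = true := by decide +kernel
theorem c93_3 : allRange (fun i => Nat.beq (act93 i) i) 357 119 = true := by decide +kernel
theorem c93_4 : allRange (fun i => Nat.beq (act93 i) i) 476 119 = true := by decide +kernel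
theorem c93_5 : allRange (fun i => Nat.beq (act93 i) i) 595 119 = true := by decide +kernel
theorem c93_6 : allRange (fun i => Nat.beq (act93 i) i) 714 119 = true := by decide +kernel
theorem c93_7 : allRange (fun i => Nat.beq (act93 i) i) 833 119 = true := by decide +kernel
theorem c93_8 : allRange (fun i => Nat.beq (act93 i) i) 952 119 = true := by decide +kernel
theorem c93_9 : allRange (fun i => Nat.beq (act93 i) i) 1071 119 = true := by decide +kernel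
theorem c93_10 : allRange (fun i => Nat.beq (act93 i) i) 1190 119 = true := by decide +kernel
theorem c93_11 : allRange (fun i => Nat.beq (act93 i) i) 1309 119 = true := by decide +kernel
theorem c93_12 : allRange (fun i => Nat.beq (act93 i) i) 1428 119 = true := by decide +kernel
theorem c93_13 : allRange (fun i => Nat.beq (act93 i) i) 1547 119 = true := by decide +kernel
theorem c93_14 : allRange (fun i => Nat.beq (act93 i) i) 1666 119 = true := by decide +kernel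
theorem c93_15 : allRange (fun i => Nat.beq (act93 i) i) 1785 119 = true := by decide +kernel
theorem c93_16 : allRange (fun i => Nat.beq (act93 i) i) 1904 119 = true := by decide +kernel
theorem c93_17 : allRange (fun i => Nat.beq (act93 i) i) 2023 35 = true := by decide +kernel
theorem h93 : ∀ i, i < T.N → Tab.relActOK T D chk93 i = true := by
  intro i hi
  rw [Tab.relActOK, ← act93_eq]
  exact (range_glue (range_of_allRange c93_0) (range_glue (range_of_allRange c93_1) (range_glue (range_of_allRange c93_2) (range_glue (range_of_allRange c93_3) (range_glue (range_of_allRange c93_4) (range_glue (range_of_allRange c93_5) (range_glue (range_of_allRange c93_6) (range_glue (range_of_allRange c93_7) (range_glue (range_of_allRange c93_8) (range_glue (range_of_allRange c93_9) (range_glue (range_of_allRange c93_10) (range_glue (range_of_allRange c93_11) (range_glue (range_of_allRange c93_12) (range_glue (range_of_allRange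 c93_13) (range_glue (range_of_allRange c93_14) (range_glue (range_of_allRange c93_15) (range_glue (range_of_allRange c93_16) (range_of_allRange c93_17)))))))))))))))))) i (Nat.zero_le _) hi

def chk94 : List Nat := [6, 5, 4, 3, 2, 1, 4, 3, 2, 1, 4, 3, 2, 1, 4, 3, 2, 1, 4, 3, 2, 1, 4, 3, 2, 1, 4, 3, 2, 1, 3, 2, 5, 4, 3, 2, 1, 4, 3, 2, 1, 4, 3, 2, 1, 4, 3, 2, 1, 4, 3, 2, 1, 4, 3, 2, 1, 4, 3, 2, 1, 3, 2, 4, 2, 2, 3, 1, 2, 3, 4, 1, 2, 3, 4, 1, 2, 3, 4, 1, 2, 3, 4, 1, 2, 3, 4, 1, 2, 3, 4, 1, 2, 3, 4, 5, 4, 2, 5, 4, 3, 2, 1, 4, 3, 2, 1, 4, 3, 2, 1, 4, 3, 2, 1, 4, 3, 2, 1, 4, 3, 2, 1, 4, 3, 2, 1, 3, 2, 4, 2, 2, 3, 1, 2, 3, 4, 1, 2, 3, 4, 1, 2, 3, 4, 1, 2, 3, 4, 1, 2, 3, 4, 1, 2, 3, 4, 1, 2, 3, 4, 5, 2, 3, 1, 2, 3, 4, 1, 2, 3, 4, 1, 2, 3, 4, 1, 2, 3, 4, 1, 2, 3, 4, 1, 2, 3, 4, 1, 2, 3, 4, 5, 6, 5, 4, 3, 2, 1, 4, 3, 2, 1, 4, 3, 2, 1, 4, 3, 2, 1, 4, 3, 2, 1, 4, 3, 2, 1, 4, 3, 2, 1, 3, 2, 5, 4, 3, 2, 1, 4, 3, 2, 1, 4,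 3, 2, 1, 4, 3, 2, 1, 4, 3, 2, 1, 4, 3, 2, 1, 4, 3, 2, 1, 3, 2, 2, 4, 2, 3, 1, 2, 3, 4, 1, 2, 3, 4, 1, 2, 3, 4, 1, 2, 3, 4, 1, 2, 3, 4, 1, 2, 3, 4, 1, 2, 3, 4, 5, 2, 4, 5, 4, 3, 2, 1, 4, 3, 2, 1, 4, 3, 2, 1, 4, 3, 2, 1, 4, 3, 2, 1, 4, 3, 2, 1, 4, 3, 2, 1, 3, 2, 2, 4, 2, 3, 1, 2, 3, 4, 1, 2, 3, 4, 1, 2, 3, 4, 1, 2, 3, 4, 1, 2, 3, 4, 1, 2, 3, 4, 1, 2, 3, 4, 5, 2, 3, 1, 2, 3, 4, 1, 2, 3, 4, 1, 2, 3, 4, 1, 2, 3, 4, 1, 2, 3, 4, 1, 2, 3, 4, 1, 2, 3, 4, 5]
noncomputable def act94 (i : Nat) : Nat := col6 (col5 (col4 (col3 (col2 (col1 (col4 (col3 (col2 (col1 (col4 (col3 (col2 (col1 (col4 (col3 (col2 (col1 (col4 (col3 (col2 (col1 (col4 (col3 (col2 (col1 (col4 (col3 (col2 (col1 (col3 (col2 (col5 (col4 (col3 (col2 (col1 (col4 (col3 (col2 (col1 (col4 (col3 (col2 (col1 (col4 (col3 (col2 (col1 (col4 (col3 (col2 (col1 (col4 (col3 (col2 (col1 (col4 (col3 (col2 (col1 (col3 (col2 (col4 (col2 (col2 (col3 (col1 (col2 (col3 (col4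 (col1 (col2 (col3 (col4 (col1 (col2 (col3 (col4 (col1 (col2 (col3 (col4 (col1 (col2 (col3 (col4 (col1 (col2 (col3 (col4 (col1 (col2 (col3 (col4 (col5 (col4 (col2 (col5 (col4 (col3 (col2 (col1 (col4 (col3 (col2 (col1 (col4 (col3 (col2 (col1 (col4 (col3 (col2 (col1 (col4 (col3 (col2 (col1 (col4 (col3 (col2 (col1 (col4 (col3 (col2 (col1 (col3 (col2 (col4 (col2 (col2 (col3 (col1 (col2 (col3 (col4 (col1 (col2 (col3 (col4 (col1 (col2 (col3 (col4 (col1 (col2 (col3 (col4 (col1 (col2 (col3 (col4 (col1 (col2 (col3 (col4 (col1 (col2 (col3 (col4 (col5 (col2 (col3 (col1 (col2 (col3 (col4 (col1 (col2 (col3 (col4 (col1 (col2 (col3 (col4 (col1 (col2 (col3 (col4 (col1 (col2 (col3 (col4 (col1 (col2 (col3 (col4 (col1 (col2 (col3 (col4 (col5 (col6 (col5 (col4 (col3 (col2 (col1 (col4 (col3 (col2 (col1 (col4 (col3 (col2 (col1 (col4 (col3 (col2 (col1 (col4 (col3 (col2 (col1 (col4 (col3 (col2 (col1 (col4 (col3 (col2 (col1 (col3 (col2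 (col5 (col4 (col3 (col2 (col1 (col4 (col3 (col2 (col1 (col4 (col3 (col2 (col1 (col4 (col3 (col2 (col1 (col4 (col3 (col2 (col1 (col4 (col3 (col2 (col1 (col4 (col3 (col2 (col1 (col3 (col2 (col2 (col4 (col2 (col3 (col1 (col2 (col3 (col4 (col1 (col2 (col3 (col4 (col1 (col2 (col3 (col4 (col1 (col2 (col3 (col4 (col1 (col2 (col3 (col4 (col1 (col2 (col3 (col4 (col1 (col2 (col3 (col4 (col5 (col2 (col4 (col5 (col4 (col3 (col2 (col1 (col4 (col3 (col2 (col1 (col4 (col3 (col2 (col1 (col4 (col3 (col2 (col1 (col4 (col3 (col2 (col1 (col4 (col3 (col2 (col1 (col4 (col3 (col2 (col1 (col3 (col2 (col2 (col4 (col2 (col3 (col1 (col2 (col3 (col4 (col1 (col2 (col3 (col4 (col1 (col2 (col3 (col4 (col1 (col2 (col3 (col4 (col1 (col2 (col3 (col4 (col1 (col2 (col3 (col4 (col1 (col2 (col3 (col4 (col5 (col2 (col3 (col1 (col2 (col3 (col4 (col1 (col2 (col3 (col4 (col1 (col2 (col3 (col4 (col1 (col2 (col3 (col4 (col1 (col2 (col3 (col4 (col1 (col2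 (col3 (col4 (col1 (col2 (col3 (col4 (col5 (i))))))))))))))))))))))))))))))))))))))))))))))))))))))))))))))))))))))))))))))))))))))))))))))))))))))))))))))))))))))))))))))))))))))))))))))))))))))))))))))))))))))))))))))))))))))))))))))))))))))))))))))))))))))))))))))))))))))))))))))))))))))))))))))))))))))))))))))))))))))))))))))))))))))))))))))))))))))))))))))))))))))))))))))))))))))))))))))))))))))))))))))))))))))))))))))))))
theorem act94_eq (i : Nat) : act94 i = Tab.act T D chk94 i := rfl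
theorem c94_0 : allRange (fun i => Nat.beq (act94 i) i) 0 154 = true := by decide +kernel
theorem c94_1 : allRange (fun i => Nat.beq (act94 i) i) 154 154 = true := by decide +kernel
theorem c94_2 : allRange (fun i => Nat.beq (act94 i) i) 308 154 = true := by decide +kernel
theorem c94_3 : allRange (fun i => Nat.beq (act94 i) i) 462 154 = true := by decide +kernel
theorem c94_4 : allRange (fun i => Nat.beq (act94 i) i) 616 154 = true := by decide +kernel
theorem c94_5 : allRange (fun i => Nat.beq (act94 i) i) 770 154 = true := by decide +kernel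
theorem c94_6 : allRange (fun i => Nat.beq (act94 i) i) 924 154 = true := by decide +kernel
theorem c94_7 : allRange (fun i => Nat.beq (act94 i) i) 1078 154 = true := by decide +kernel
theorem c94_8 : allRange (fun i => Nat.beq (act94 i) i) 1232 154 = true := by decide +kernel
theorem c94_9 : allRange (fun i => Nat.beq (act94 i) i) 1386 154 = true := by decide +kernel
theorem c94_10 : allRange (fun i => Nat.beq (act94 i) i) 1540 154 = true := by decide +kernel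
theorem c94_11 : allRange (fun i => Nat.beq (act94 i) i) 1694 154 = true := by decide +kernel
theorem c94_12 : allRange (fun i => Nat.beq (act94 i) i) 1848 154 = true := by decide +kernel
theorem c94_13 : allRange (fun i => Nat.beq (act94 i) i) 2002 56 = true := by decide +kernel
theorem h94 : ∀ i, i < T.N → Tab.relActOK T D chk94 i = true := by
  intro i hi
  rw [Tab.relActOK, ← act94_eq]
  exact (range_glue (range_of_allRange c94_0) (range_glue (range_of_allRange c94_1) (range_glue (range_of_allRange c94_2) (range_glue (range_of_allRange c94_3) (range_glue (range_of_allRange c94_4) (range_glue (range_of_allRange c94_5) (range_glue (range_of_allRange c94_6) (range_glue (range_of_allRange c94_7) (range_glue (range_of_allRange c94_8) (range_glue (range_of_allRange c94_9) (range_glue (range_of_allRange c94_10) (range_glue (range_of_allRange c94_11) (range_glue (range_of_allRange c94_12) (range_of_allRange c94_13))))))))))))))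 i (Nat.zero_le _) hi

def chk95 : List Nat := [5, 4, 3, 2, 1, 4, 3, 2, 1, 4, 3, 2, 1, 4, 3, 2, 1, 4, 3, 2, 1, 4, 3, 2, 1, 4, 3, 2, 1, 3, 2, 5, 4, 3, 2, 1, 4, 3, 2, 1, 4, 3, 2, 1, 4, 3, 2, 1, 4, 3, 2, 1, 4, 3, 2, 1, 4, 3, 2, 1, 3, 2, 4, 2, 2, 3, 1, 2, 3, 4, 1, 2, 3, 4, 1, 2, 3, 4, 1, 2, 3, 4, 1, 2, 3, 4, 1, 2, 3, 4, 1, 2, 3, 4, 5, 4, 2, 5, 4, 3, 2, 1, 4, 3, 2, 1, 4, 3, 2, 1, 4, 3, 2, 1, 4, 3, 2, 1, 4, 3, 2, 1, 4, 3, 2, 1, 3, 2, 4, 2, 2, 3, 1, 2, 3, 4, 1, 2, 3, 4, 1, 2, 3, 4, 1, 2, 3, 4, 1, 2, 3, 4, 1, 2, 3, 4, 1, 2, 3, 4, 5, 2, 3, 1, 2, 3, 4, 1, 2, 3, 4, 1, 2, 3, 4, 1, 2, 3, 4, 1, 2, 3, 4, 1, 2, 3, 4, 1, 2, 3, 4, 5, 5, 4, 3, 2, 1, 4, 3, 2, 1, 4, 3, 2, 1, 4, 3, 2, 1, 4, 3, 2, 1, 4, 3, 2, 1, 4, 3, 2, 1, 3, 2, 5, 4, 3, 2, 1, 4, 3, 2, 1, 4, 3, 2, 1, 4, 3, 2, 1, 4, 3, 2, 1, 4, 3, 2, 1, 4, 3, 2, 1, 3, 2, 4, 2, 2, 3, 1, 2, 3, 4, 1, 2, 3, 4, 1, 2, 3, 4, 1, 2, 3, 4, 1, 2, 3, 4, 1, 2, 3, 4, 1, 2, 3, 4, 5, 4, 2, 5, 4, 3,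 2, 1, 4, 3, 2, 1, 4, 3, 2, 1, 4, 3, 2, 1, 4, 3, 2, 1, 4, 3, 2, 1, 4, 3, 2, 1, 3, 2, 4, 2, 2, 3, 1, 2, 3, 4, 1, 2, 3, 4, 1, 2, 3, 4, 1, 2, 3, 4, 1, 2, 3, 4, 1, 2, 3, 4, 1, 2, 3, 4, 5, 2, 3, 1, 2, 3, 4, 1, 2, 3, 4, 1, 2, 3, 4, 1, 2, 3, 4, 1, 2, 3, 4, 1, 2, 3, 4, 1, 2, 3, 4, 5]
noncomputable def act95 (i : Nat) : Nat := col5 (col4 (col3 (col2 (col1 (col4 (col3 (col2 (col1 (col4 (col3 (col2 (col1 (col4 (col3 (col2 (col1 (col4 (col3 (col2 (col1 (col4 (col3 (col2 (col1 (col4 (col3 (col2 (col1 (col3 (col2 (col5 (col4 (col3 (col2 (col1 (col4 (col3 (col2 (col1 (col4 (col3 (col2 (col1 (col4 (col3 (col2 (col1 (col4 (col3 (col2 (col1 (col4 (col3 (col2 (col1 (col4 (col3 (col2 (col1 (col3 (col2 (col4 (col2 (col2 (col3 (col1 (col2 (col3 (col4 (col1 (col2 (col3 (col4 (col1 (col2 (col3 (col4 (col1 (col2 (col3 (col4 (col1 (col2 (col3 (col4 (col1 (col2 (col3 (col4 (col1 (col2 (col3 (col4 (col5 (col4 (col2 (col5 (col4 (col3 (col2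 (col1 (col4 (col3 (col2 (col1 (col4 (col3 (col2 (col1 (col4 (col3 (col2 (col1 (col4 (col3 (col2 (col1 (col4 (col3 (col2 (col1 (col4 (col3 (col2 (col1 (col3 (col2 (col4 (col2 (col2 (col3 (col1 (col2 (col3 (col4 (col1 (col2 (col3 (col4 (col1 (col2 (col3 (col4 (col1 (col2 (col3 (col4 (col1 (col2 (col3 (col4 (col1 (col2 (col3 (col4 (col1 (col2 (col3 (col4 (col5 (col2 (col3 (col1 (col2 (col3 (col4 (col1 (col2 (col3 (col4 (col1 (col2 (col3 (col4 (col1 (col2 (col3 (col4 (col1 (col2 (col3 (col4 (col1 (col2 (col3 (col4 (col1 (col2 (col3 (col4 (col5 (col5 (col4 (col3 (col2 (col1 (col4 (col3 (col2 (col1 (col4 (col3 (col2 (col1 (col4 (col3 (col2 (col1 (col4 (col3 (col2 (col1 (col4 (col3 (col2 (col1 (col4 (col3 (col2 (col1 (col3 (col2 (col5 (col4 (col3 (col2 (col1 (col4 (col3 (col2 (col1 (col4 (col3 (col2 (col1 (col4 (col3 (col2 (col1 (col4 (col3 (col2 (col1 (col4 (col3 (col2 (col1 (col4 (col3 (col2 (col1 (col3 (col2 (col4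 (col2 (col2 (col3 (col1 (col2 (col3 (col4 (col1 (col2 (col3 (col4 (col1 (col2 (col3 (col4 (col1 (col2 (col3 (col4 (col1 (col2 (col3 (col4 (col1 (col2 (col3 (col4 (col1 (col2 (col3 (col4 (col5 (col4 (col2 (col5 (col4 (col3 (col2 (col1 (col4 (col3 (col2 (col1 (col4 (col3 (col2 (col1 (col4 (col3 (col2 (col1 (col4 (col3 (col2 (col1 (col4 (col3 (col2 (col1 (col4 (col3 (col2 (col1 (col3 (col2 (col4 (col2 (col2 (col3 (col1 (col2 (col3 (col4 (col1 (col2 (col3 (col4 (col1 (col2 (col3 (col4 (col1 (col2 (col3 (col4 (col1 (col2 (col3 (col4 (col1 (col2 (col3 (col4 (col1 (col2 (col3 (col4 (col5 (col2 (col3 (col1 (col2 (col3 (col4 (col1 (col2 (col3 (col4 (col1 (col2 (col3 (col4 (col1 (col2 (col3 (col4 (col1 (col2 (col3 (col4 (col1 (col2 (col3 (col4 (col1 (col2 (col3 (col4 (col5 (i))))))))))))))))))))))))))))))))))))))))))))))))))))))))))))))))))))))))))))))))))))))))))))))))))))))))))))))))))))))))))))))))))))))))))))))))))))))))))))))))))))))))))))))))))))))))))))))))))))))))))))))))))))))))))))))))))))))))))))))))))))))))))))))))))))))))))))))))))))))))))))))))))))))))))))))))))))))))))))))))))))))))))))))))))))))))))))))))))))))))))))))))))))))))))))))))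
theorem act95_eq (i : Nat) : act95 i = Tab.act T D chk95 i := rfl
theorem c95_0 : allRange (fun i => Nat.beq (act95 i) i) 0 155 = true := by decide +kernel
theorem c95_1 : allRange (fun i => Nat.beq (act95 i) i) 155 155 = true := by decide +kernel
theorem c95_2 : allRange (fun i => Nat.beq (act95 i) i) 310 155 = true := by decide +kernel
theorem c95_3 : allRange (fun i => Nat.beq (act95 i) i) 465 155 = true := by decide +kernel
theorem c95_4 : allRange (fun i => Nat.beq (act95 i) i) 620 155 = true := by decide +kernel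
theorem c95_5 : allRange (fun i => Nat.beq (act95 i) i) 775 155 = true := by decide +kernel
theorem c95_6 : allRange (fun i => Nat.beq (act95 i) i) 930 155 = true := by decide +kernel
theorem c95_7 : allRange (fun i => Nat.beq (act95 i) i) 1085 155 = true := by decide +kernel
theorem c95_8 : allRange (fun i => Nat.beq (act95 i) i) 1240 155 = true := by decide +kernel
theorem c95_9 : allRange (fun i => Nat.beq (act95 i) i) 1395 155 = true := by decide +kernel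
theorem c95_10 : allRange (fun i => Nat.beq (act95 i) i) 1550 155 = true := by decide +kernel
theorem c95_11 : allRange (fun i => Nat.beq (act95 i) i) 1705 155 = true := by decide +kernel
theorem c95_12 : allRange (fun i => Nat.beq (act95 i) i) 1860 155 = true := by decide +kernel
theorem c95_13 : allRange (fun i => Nat.beq (act95 i) i) 2015 43 = true := by decide +kernel
theorem h95 : ∀ i, i < T.N → Tab.relActOK T D chk95 i = true := by
  intro i hi
  rw [Tab.relActOK, ← act95_eq]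
  exact (range_glue (range_of_allRange c95_0) (range_glue (range_of_allRange c95_1) (range_glue (range_of_allRange c95_2) (range_glue (range_of_allRange c95_3) (range_glue (range_of_allRange c95_4) (range_glue (range_of_allRange c95_5) (range_glue (range_of_allRange c95_6) (range_glue (range_of_allRange c95_7) (range_glue (range_of_allRange c95_8) (range_glue (range_of_allRange c95_9) (range_glue (range_of_allRange c95_10) (range_glue (range_of_allRange c95_11) (range_glue (range_of_allRange c95_12) (range_of_allRange c95_13)))))))))))))) i (Nat.zero_le _) hi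

def chk96 : List Nat := [5, 4, 3, 2, 1, 4, 3, 2, 1, 4, 3, 2, 1, 4, 3, 2, 1, 4, 3, 2, 1, 4, 3, 2, 1, 4, 3, 2, 1, 3, 2, 5, 4, 3, 2, 1, 4, 3, 2, 1, 4, 3, 2, 1, 4, 3, 2, 1, 4, 3, 2, 1, 4, 3, 2, 1, 4, 3, 2, 1, 3, 2, 4, 2, 2, 3, 1, 2, 3, 4, 1, 2, 3, 4, 1, 2, 3, 4, 1, 2, 3, 4, 1, 2, 3, 4, 1, 2, 3, 4, 1, 2, 3, 4, 5, 4, 2, 5, 4, 3, 2, 1, 4, 3, 2, 1, 4, 3, 2, 1, 4, 3, 2, 1, 4, 3, 2, 1, 4, 3, 2, 1, 4, 3, 2, 1, 3, 2, 4, 2, 2, 3, 1, 2, 3, 4, 1, 2, 3, 4, 1, 2, 3, 4, 1, 2, 3, 4, 1, 2, 3, 4, 1, 2, 3, 4, 1, 2, 3, 4, 5, 2, 3, 1, 2, 3, 4, 1, 2, 3, 4, 1, 2, 3, 4, 1, 2, 3, 4, 1, 2, 3, 4, 1, 2, 3, 4, 1, 2, 3, 4, 5, 5, 4, 3, 2, 1, 4, 3, 2, 1, 4, 3, 2, 1, 4, 3, 2, 1, 4, 3, 2, 1, 4, 3, 2, 1, 4, 3, 2, 1, 3, 2, 5, 4, 3, 2, 1, 4, 3, 2, 1, 4, 3, 2, 1, 4, 3, 2, 1, 4, 3, 2, 1, 4, 3, 2, 1, 4, 3, 2, 1, 3, 2, 4, 2, 2, 3, 1, 2, 3, 4, 1, 2, 3, 4, 1, 2, 3, 4, 1, 2, 3, 4, 1, 2, 3, 4, 1, 2, 3, 4, 1, 2, 3, 4, 5, 4, 2, 5, 4, 3, 2, 1, 4, 3, 2, 1, 4,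 3, 2, 1, 4, 3, 2, 1, 4, 3, 2, 1, 4, 3, 2, 1, 4, 3, 2, 1, 3, 2, 4, 2, 2, 3, 1, 2, 3, 4, 1, 2, 3, 4, 1, 2, 3, 4, 1, 2, 3, 4, 1, 2, 3, 4, 1, 2, 3, 4, 1, 2, 3, 4, 5, 2, 3, 1, 2, 3, 4, 1, 2, 3, 4, 1, 2, 3, 4, 1, 2, 3, 4, 1, 2, 3, 4, 1, 2, 3, 4, 1, 2, 3, 4, 5]
noncomputable def act96 (i : Nat) : Nat := col5 (col4 (col3 (col2 (col1 (col4 (col3 (col2 (col1 (col4 (col3 (col2 (col1 (col4 (col3 (col2 (col1 (col4 (col3 (col2 (col1 (col4 (col3 (col2 (col1 (col4 (col3 (col2 (col1 (col3 (col2 (col5 (col4 (col3 (col2 (col1 (col4 (col3 (col2 (col1 (col4 (col3 (col2 (col1 (col4 (col3 (col2 (col1 (col4 (col3 (col2 (col1 (col4 (col3 (col2 (col1 (col4 (col3 (col2 (col1 (col3 (col2 (col4 (col2 (col2 (col3 (col1 (col2 (col3 (col4 (col1 (col2 (col3 (col4 (col1 (col2 (col3 (col4 (col1 (col2 (col3 (col4 (col1 (col2 (col3 (col4 (col1 (col2 (col3 (col4 (col1 (col2 (col3 (col4 (col5 (col4 (col2 (col5 (col4 (col3 (col2 (col1 (col4 (col3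 (col2 (col1 (col4 (col3 (col2 (col1 (col4 (col3 (col2 (col1 (col4 (col3 (col2 (col1 (col4 (col3 (col2 (col1 (col4 (col3 (col2 (col1 (col3 (col2 (col4 (col2 (col2 (col3 (col1 (col2 (col3 (col4 (col1 (col2 (col3 (col4 (col1 (col2 (col3 (col4 (col1 (col2 (col3 (col4 (col1 (col2 (col3 (col4 (col1 (col2 (col3 (col4 (col1 (col2 (col3 (col4 (col5 (col2 (col3 (col1 (col2 (col3 (col4 (col1 (col2 (col3 (col4 (col1 (col2 (col3 (col4 (col1 (col2 (col3 (col4 (col1 (col2 (col3 (col4 (col1 (col2 (col3 (col4 (col1 (col2 (col3 (col4 (col5 (col5 (col4 (col3 (col2 (col1 (col4 (col3 (col2 (col1 (col4 (col3 (col2 (col1 (col4 (col3 (col2 (col1 (col4 (col3 (col2 (col1 (col4 (col3 (col2 (col1 (col4 (col3 (col2 (col1 (col3 (col2 (col5 (col4 (col3 (col2 (col1 (col4 (col3 (col2 (col1 (col4 (col3 (col2 (col1 (col4 (col3 (col2 (col1 (col4 (col3 (col2 (col1 (col4 (col3 (col2 (col1 (col4 (col3 (col2 (col1 (col3 (col2 (col4 (col2 (col2 (col3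 (col1 (col2 (col3 (col4 (col1 (col2 (col3 (col4 (col1 (col2 (col3 (col4 (col1 (col2 (col3 (col4 (col1 (col2 (col3 (col4 (col1 (col2 (col3 (col4 (col1 (col2 (col3 (col4 (col5 (col4 (col2 (col5 (col4 (col3 (col2 (col1 (col4 (col3 (col2 (col1 (col4 (col3 (col2 (col1 (col4 (col3 (col2 (col1 (col4 (col3 (col2 (col1 (col4 (col3 (col2 (col1 (col4 (col3 (col2 (col1 (col3 (col2 (col4 (col2 (col2 (col3 (col1 (col2 (col3 (col4 (col1 (col2 (col3 (col4 (col1 (col2 (col3 (col4 (col1 (col2 (col3 (col4 (col1 (col2 (col3 (col4 (col1 (col2 (col3 (col4 (col1 (col2 (col3 (col4 (col5 (col2 (col3 (col1 (col2 (col3 (col4 (col1 (col2 (col3 (col4 (col1 (col2 (col3 (col4 (col1 (col2 (col3 (col4 (col1 (col2 (col3 (col4 (col1 (col2 (col3 (col4 (col1 (col2 (col3 (col4 (col5 (i))))))))))))))))))))))))))))))))))))))))))))))))))))))))))))))))))))))))))))))))))))))))))))))))))))))))))))))))))))))))))))))))))))))))))))))))))))))))))))))))))))))))))))))))))))))))))))))))))))))))))))))))))))))))))))))))))))))))))))))))))))))))))))))))))))))))))))))))))))))))))))))))))))))))))))))))))))))))))))))))))))))))))))))))))))))))))))))))))))))))))))))))))))))))))))))))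
theorem act96_eq (i : Nat) : act96 i = Tab.act T D chk96 i := rfl
theorem c96_0 : allRange (fun i => Nat.beq (act96 i) i) 0 155 = true := by decide +kernel
theorem c96_1 : allRange (fun i => Nat.beq (act96 i) i) 155 155 = true := by decide +kernel
theorem c96_2 : allRange (fun i => Nat.beq (act96 i) i) 310 155 = true := by decide +kernel
theorem c96_3 : allRange (fun i => Nat.beq (act96 i) i) 465 155 = true := by decide +kernel
theorem c96_4 : allRange (fun i => Nat.beq (act96 i) i) 620 155 = true := by decide +kernel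
theorem c96_5 : allRange (fun i => Nat.beq (act96 i) i) 775 155 = true := by decide +kernel
theorem c96_6 : allRange (fun i => Nat.beq (act96 i) i) 930 155 = true := by decide +kernel
theorem c96_7 : allRange (fun i => Nat.beq (act96 i) i) 1085 155 = true := by decide +kernel
theorem c96_8 : allRange (fun i => Nat.beq (act96 i) i) 1240 155 = true := by decide +kernel
theorem c96_9 : allRange (fun i => Nat.beq (act96 i) i) 1395 155 = true := by decide +kernel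
theorem c96_10 : allRange (fun i => Nat.beq (act96 i) i) 1550 155 = true := by decide +kernel
theorem c96_11 : allRange (fun i => Nat.beq (act96 i) i) 1705 155 = true := by decide +kernel
theorem c96_12 : allRange (fun i => Nat.beq (act96 i) i) 1860 155 = true := by decide +kernel
theorem c96_13 : allRange (fun i => Nat.beq (act96 i) i) 2015 43 = true := by decide +kernel
theorem h96 : ∀ i, i < T.N → Tab.relActOK T D chk96 i = true := by
  intro i hi
  rw [Tab.relActOK, ← act96_eq]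
  exact (range_glue (range_of_allRange c96_0) (range_glue (range_of_allRange c96_1) (range_glue (range_of_allRange c96_2) (range_glue (range_of_allRange c96_3) (range_glue (range_of_allRange c96_4) (range_glue (range_of_allRange c96_5) (range_glue (range_of_allRange c96_6) (range_glue (range_of_allRange c96_7) (range_glue (range_of_allRange c96_8) (range_glue (range_of_allRange c96_9) (range_glue (range_of_allRange c96_10) (range_glue (range_of_allRange c96_11) (range_glue (range_of_allRange c96_12) (range_of_allRange c96_13)))))))))))))) i (Nat.zero_le _) hi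

def chk97 : List Nat := [6, 5, 4, 3, 2, 1, 4, 3, 2, 1, 4, 3, 2, 1, 4, 3, 2, 1, 4, 3, 2, 1, 4, 3, 2, 1, 4, 3, 2, 1, 3, 2, 5, 4, 3, 2, 1, 4, 3, 2, 1, 4, 3, 2, 1, 4, 3, 2, 1, 4, 3, 2, 1, 4, 3, 2, 1, 4, 3, 2, 1, 3, 2, 5, 4, 3, 2, 1, 4, 3, 2, 1, 4, 3, 2, 1, 4, 3, 2, 1, 4, 3, 2, 1, 4, 3, 2, 1, 4, 3, 2, 1, 3, 2, 2, 5, 4, 3, 2, 1, 4, 3, 2, 1, 4, 3, 2, 1, 4, 3, 2, 1, 4, 3, 2, 1, 4, 3, 2, 1, 4, 3, 2, 1, 3, 2, 4, 2, 2, 3, 1, 2, 3, 4, 1, 2, 3, 4, 1, 2, 3, 4, 1, 2, 3, 4, 1, 2, 3, 4, 1, 2, 3, 4, 1, 2, 3, 4, 5, 2, 2, 3, 1, 2, 3, 4, 1, 2, 3, 4, 1, 2, 3, 4, 1, 2, 3, 4, 1, 2, 3, 4, 1, 2, 3, 4, 1, 2, 3, 4, 5, 2, 3, 1, 2, 3, 4, 1, 2, 3, 4, 1, 2, 3, 4, 1, 2, 3, 4, 1, 2, 3, 4, 1, 2, 3, 4, 1, 2, 3, 4, 5, 2, 3, 1, 2, 3, 4, 1, 2, 3, 4, 1, 2, 3, 4, 1, 2, 3, 4, 1, 2, 3, 4, 1, 2, 3, 4, 1, 2, 3, 4, 5, 4, 6, 2, 3, 1, 2, 3, 4, 1, 2, 3, 4, 1, 2, 3, 4, 1, 2, 3, 4, 1, 2, 3, 4, 1, 2, 3, 4, 1, 2, 3, 4, 5, 2, 3, 1, 2, 3, 4, 1, 2, 3, 4, 1, 2, 3,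 4, 1, 2, 3, 4, 1, 2, 3, 4, 1, 2, 3, 4, 1, 2, 3, 4, 5, 2, 3, 1, 2, 3, 4, 1, 2, 3, 4, 1, 2, 3, 4, 1, 2, 3, 4, 1, 2, 3, 4, 1, 2, 3, 4, 1, 2, 3, 4, 5, 2, 2, 3, 1, 2, 3, 4, 1, 2, 3, 4, 1, 2, 3, 4, 1, 2, 3, 4, 1, 2, 3, 4, 1, 2, 3, 4, 1, 2, 3, 4, 5, 2, 4, 5, 4, 3, 2, 1, 4, 3, 2, 1, 4, 3, 2, 1, 4, 3, 2, 1, 4, 3, 2, 1, 4, 3, 2, 1, 4, 3, 2, 1, 3, 2, 2, 5, 4, 3, 2, 1, 4, 3, 2, 1, 4, 3, 2, 1, 4, 3, 2, 1, 4, 3, 2, 1, 4, 3, 2, 1, 4, 3, 2, 1, 3, 2, 5, 4, 3, 2, 1, 4, 3, 2, 1, 4, 3, 2, 1, 4, 3, 2, 1, 4, 3, 2, 1, 4, 3, 2, 1, 4, 3, 2, 1, 3, 2, 5, 4, 3, 2, 1, 4, 3, 2, 1, 4, 3, 2, 1, 4, 3, 2, 1, 4, 3, 2, 1, 4, 3, 2, 1, 4, 3, 2, 1, 3, 2]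
noncomputable def act97 (i : Nat) : Nat := col6 (col5 (col4 (col3 (col2 (col1 (col4 (col3 (col2 (col1 (col4 (col3 (col2 (col1 (col4 (col3 (col2 (col1 (col4 (col3 (col2 (col1 (col4 (col3 (col2 (col1 (col4 (col3 (col2 (col1 (col3 (col2 (col5 (col4 (col3 (col2 (col1 (col4 (col3 (col2 (col1 (col4 (col3 (col2 (col1 (col4 (col3 (col2 (col1 (col4 (col3 (col2 (col1 (col4 (col3 (col2 (col1 (col4 (col3 (col2 (col1 (col3 (col2 (col5 (col4 (col3 (col2 (col1 (col4 (col3 (col2 (col1 (col4 (col3 (col2 (col1 (col4 (col3 (col2 (col1 (col4 (col3 (col2 (col1 (col4 (col3 (col2 (col1 (col4 (col3 (col2 (col1 (col3 (col2 (col2 (col5 (col4 (col3 (col2 (col1 (col4 (col3 (col2 (col1 (col4 (col3 (col2 (col1 (col4 (col3 (col2 (col1 (col4 (col3 (col2 (col1 (col4 (col3 (col2 (col1 (col4 (col3 (col2 (col1 (col3 (col2 (col4 (col2 (col2 (col3 (col1 (col2 (col3 (col4 (col1 (col2 (col3 (col4 (col1 (col2 (col3 (col4 (col1 (col2 (col3 (col4 (col1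 (col2 (col3 (col4 (col1 (col2 (col3 (col4 (col1 (col2 (col3 (col4 (col5 (col2 (col2 (col3 (col1 (col2 (col3 (col4 (col1 (col2 (col3 (col4 (col1 (col2 (col3 (col4 (col1 (col2 (col3 (col4 (col1 (col2 (col3 (col4 (col1 (col2 (col3 (col4 (col1 (col2 (col3 (col4 (col5 (col2 (col3 (col1 (col2 (col3 (col4 (col1 (col2 (col3 (col4 (col1 (col2 (col3 (col4 (col1 (col2 (col3 (col4 (col1 (col2 (col3 (col4 (col1 (col2 (col3 (col4 (col1 (col2 (col3 (col4 (col5 (col2 (col3 (col1 (col2 (col3 (col4 (col1 (col2 (col3 (col4 (col1 (col2 (col3 (col4 (col1 (col2 (col3 (col4 (col1 (col2 (col3 (col4 (col1 (col2 (col3 (col4 (col1 (col2 (col3 (col4 (col5 (col4 (col6 (col2 (col3 (col1 (col2 (col3 (col4 (col1 (col2 (col3 (col4 (col1 (col2 (col3 (col4 (col1 (col2 (col3 (col4 (col1 (col2 (col3 (col4 (col1 (col2 (col3 (col4 (col1 (col2 (col3 (col4 (col5 (col2 (col3 (col1 (col2 (col3 (col4 (col1 (col2 (col3 (col4 (col1 (col2 (col3 (col4 (col1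 (col2 (col3 (col4 (col1 (col2 (col3 (col4 (col1 (col2 (col3 (col4 (col1 (col2 (col3 (col4 (col5 (col2 (col3 (col1 (col2 (col3 (col4 (col1 (col2 (col3 (col4 (col1 (col2 (col3 (col4 (col1 (col2 (col3 (col4 (col1 (col2 (col3 (col4 (col1 (col2 (col3 (col4 (col1 (col2 (col3 (col4 (col5 (col2 (col2 (col3 (col1 (col2 (col3 (col4 (col1 (col2 (col3 (col4 (col1 (col2 (col3 (col4 (col1 (col2 (col3 (col4 (col1 (col2 (col3 (col4 (col1 (col2 (col3 (col4 (col1 (col2 (col3 (col4 (col5 (col2 (col4 (col5 (col4 (col3 (col2 (col1 (col4 (col3 (col2 (col1 (col4 (col3 (col2 (col1 (col4 (col3 (col2 (col1 (col4 (col3 (col2 (col1 (col4 (col3 (col2 (col1 (col4 (col3 (col2 (col1 (col3 (col2 (col2 (col5 (col4 (col3 (col2 (col1 (col4 (col3 (col2 (col1 (col4 (col3 (col2 (col1 (col4 (col3 (col2 (col1 (col4 (col3 (col2 (col1 (col4 (col3 (col2 (col1 (col4 (col3 (col2 (col1 (col3 (col2 (col5 (col4 (col3 (col2 (col1 (col4 (col3 (col2 (col1 (col4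 (col3 (col2 (col1 (col4 (col3 (col2 (col1 (col4 (col3 (col2 (col1 (col4 (col3 (col2 (col1 (col4 (col3 (col2 (col1 (col3 (col2 (col5 (col4 (col3 (col2 (col1 (col4 (col3 (col2 (col1 (col4 (col3 (col2 (col1 (col4 (col3 (col2 (col1 (col4 (col3 (col2 (col1 (col4 (col3 (col2 (col1 (col4 (col3 (col2 (col1 (col3 (col2 (i)))))))))))))))))))))))))))))))))))))))))))))))))))))))))))))))))))))))))))))))))))))))))))))))))))))))))))))))))))))))))))))))))))))))))))))))))))))))))))))))))))))))))))))))))))))))))))))))))))))))))))))))))))))))))))))))))))))))))))))))))))))))))))))))))))))))))))))))))))))))))))))))))))))))))))))))))))))))))))))))))))))))))))))))))))))))))))))))))))))))))))))))))))))))))))))))))))))))))))))))))))))))))))))))))))))))))))))))))))))))))))))))))))))))))))))))))))))))))))))))))))))))))))))))))))))))))))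
theorem act97_eq (i : Nat) : act97 i = Tab.act T D chk97 i := rfl
theorem c97_0 : allRange (fun i => Nat.beq (act97 i) i) 0 117 = true := by decide +kernel
theorem c97_1 : allRange (fun i => Nat.beq (act97 i) i) 117 117 = true := by decide +kernel
theorem c97_2 : allRange (fun i => Nat.beq (act97 i) i) 234 117 = true := by decide +kernel
theorem c97_3 : allRange (fun i => Nat.beq (act97 i) i) 351 117 = true := by decide +kernel
theorem c97_4 : allRange (fun i => Nat.beq (act97 i) i) 468 117 = true := by decide +kernel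
theorem c97_5 : allRange (fun i => Nat.beq (act97 i) i) 585 117 = true := by decide +kernel
theorem c97_6 : allRange (fun i => Nat.beq (act97 i) i) 702 117 = true := by decide +kernel
theorem c97_7 : allRange (fun i => Nat.beq (act97 i) i) 819 117 = true := by decide +kernel
theorem c97_8 : allRange (fun i => Nat.beq (act97 i) i) 936 117 = true := by decide +kernel
theorem c97_9 : allRange (fun i => Nat.beq (act97 i) i) 1053 117 = true := by decide +kernel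
theorem c97_10 : allRange (fun i => Nat.beq (act97 i) i) 1170 117 = true := by decide +kernel
theorem c97_11 : allRange (fun i => Nat.beq (act97 i) i) 1287 117 = true := by decide +kernel
theorem c97_12 : allRange (fun i => Nat.beq (act97 i) i) 1404 117 = true := by decide +kernel
theorem c97_13 : allRange (fun i => Nat.beq (act97 i) i) 1521 117 = true := by decide +kernel
theorem c97_14 : allRange (fun i => Nat.beq (act97 i) i) 1638 117 = true := by decide +kernel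
theorem c97_15 : allRange (fun i => Nat.beq (act97 i) i) 1755 117 = true := by decide +kernel
theorem c97_16 : allRange (fun i => Nat.beq (act97 i) i) 1872 117 = true := by decide +kernel
theorem c97_17 : allRange (fun i => Nat.beq (act97 i) i) 1989 69 = true := by decide +kernel
theorem h97 : ∀ i, i < T.N → Tab.relActOK T D chk97 i = true := by
  intro i hi
  rw [Tab.relActOK, ← act97_eq]
  exact (range_glue (range_of_allRange c97_0) (range_glue (range_of_allRange c97_1) (range_glue (range_of_allRange c97_2) (range_glue (range_of_allRange c97_3) (range_glue (range_of_allRange c97_4) (range_glue (range_of_allRange c97_5) (range_glue (range_of_allRange c97_6) (range_glue (range_of_allRange c97_7) (range_glue (range_of_allRange c97_8) (range_glue (range_of_allRange c97_9) (range_glue (range_of_allRange c97_10) (range_glue (range_of_allRange c97_11) (range_glue (range_of_allRange c97_12) (range_glue (range_of_allRange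 c97_13) (range_glue (range_of_allRange c97_14) (range_glue (range_of_allRange c97_15) (range_glue (range_of_allRange c97_16) (range_of_allRange c97_17)))))))))))))))))) i (Nat.zero_le _) hi

def chk98 : List Nat := [5, 4, 3, 2, 1, 4, 3, 2, 1, 4, 3, 2, 1, 4, 3, 2, 1, 4, 3, 2, 1, 4, 3, 2, 1, 4, 3, 2, 1, 3, 2, 5, 4, 3, 2, 1, 4, 3, 2, 1, 4, 3, 2, 1, 4, 3, 2, 1, 4, 3, 2, 1, 4, 3, 2, 1, 4, 3, 2, 1, 3, 2, 5, 4, 3, 2, 1, 4, 3, 2, 1, 4, 3, 2, 1, 4, 3, 2, 1, 4, 3, 2, 1, 4, 3, 2, 1, 4, 3, 2, 1, 3, 2, 2, 5, 4, 3, 2, 1, 4, 3, 2, 1, 4, 3, 2, 1, 4, 3, 2, 1, 4, 3, 2, 1, 4, 3, 2, 1, 4, 3, 2, 1, 3, 2, 4, 2, 2, 3, 1, 2, 3, 4, 1, 2, 3, 4, 1, 2, 3, 4, 1, 2, 3, 4, 1, 2, 3, 4, 1, 2, 3, 4, 1, 2, 3, 4, 5, 2, 2, 3, 1, 2, 3, 4, 1, 2, 3, 4, 1, 2, 3, 4, 1, 2, 3, 4, 1, 2, 3, 4, 1, 2, 3, 4, 1, 2, 3, 4, 5, 2, 3, 1, 2, 3, 4, 1, 2, 3, 4, 1, 2, 3, 4, 1, 2, 3, 4, 1, 2, 3, 4, 1, 2, 3, 4, 1, 2, 3, 4, 5, 2, 3, 1, 2, 3, 4, 1, 2, 3, 4, 1, 2, 3, 4,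 1, 2, 3, 4, 1, 2, 3, 4, 1, 2, 3, 4, 1, 2, 3, 4, 5, 4, 5, 4, 3, 2, 1, 4, 3, 2, 1, 4, 3, 2, 1, 4, 3, 2, 1, 4, 3, 2, 1, 4, 3, 2, 1, 4, 3, 2, 1, 3, 2, 5, 4, 3, 2, 1, 4, 3, 2, 1, 4, 3, 2, 1, 4, 3, 2, 1, 4, 3, 2, 1, 4, 3, 2, 1, 4, 3, 2, 1, 3, 2, 5, 4, 3, 2, 1, 4, 3, 2, 1, 4, 3, 2, 1, 4, 3, 2, 1, 4, 3, 2, 1, 4, 3, 2, 1, 4, 3, 2, 1, 3, 2, 2, 5, 4, 3, 2, 1, 4, 3, 2, 1, 4, 3, 2, 1, 4, 3, 2, 1, 4, 3, 2, 1, 4, 3, 2, 1, 4, 3, 2, 1, 3, 2, 4, 2, 2, 3, 1, 2, 3, 4, 1, 2, 3, 4, 1, 2, 3, 4, 1, 2, 3, 4, 1, 2, 3, 4, 1, 2, 3, 4, 1, 2, 3, 4, 5, 2, 2, 3, 1, 2, 3, 4, 1, 2, 3, 4, 1, 2, 3, 4, 1, 2, 3, 4, 1, 2, 3, 4, 1, 2, 3, 4, 1, 2, 3, 4, 5, 2, 3, 1, 2, 3, 4, 1, 2, 3, 4, 1, 2, 3, 4, 1, 2, 3, 4, 1, 2, 3, 4, 1, 2, 3, 4, 1, 2, 3, 4, 5, 2, 3, 1, 2, 3, 4, 1, 2, 3, 4, 1, 2, 3, 4, 1, 2, 3, 4, 1, 2, 3, 4, 1, 2, 3, 4, 1, 2, 3, 4, 5, 4]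
noncomputable def act98 (i : Nat) : Nat := col5 (col4 (col3 (col2 (col1 (col4 (col3 (col2 (col1 (col4 (col3 (col2 (col1 (col4 (col3 (col2 (col1 (col4 (col3 (col2 (col1 (col4 (col3 (col2 (col1 (col4 (col3 (col2 (col1 (col3 (col2 (col5 (col4 (col3 (col2 (col1 (col4 (col3 (col2 (col1 (col4 (col3 (col2 (col1 (col4 (col3 (col2 (col1 (col4 (col3 (col2 (col1 (col4 (col3 (col2 (col1 (col4 (col3 (col2 (col1 (col3 (col2 (col5 (col4 (col3 (col2 (col1 (col4 (col3 (col2 (col1 (col4 (col3 (col2 (col1 (col4 (col3 (col2 (col1 (col4 (col3 (col2 (col1 (col4 (col3 (col2 (col1 (col4 (col3 (col2 (col1 (col3 (col2 (col2 (col5 (col4 (col3 (col2 (col1 (col4 (col3 (col2 (col1 (col4 (col3 (col2 (col1 (col4 (col3 (col2 (col1 (col4 (col3 (col2 (col1 (col4 (col3 (col2 (col1 (col4 (col3 (col2 (col1 (col3 (col2 (col4 (col2 (col2 (col3 (col1 (col2 (col3 (col4 (col1 (col2 (col3 (col4 (col1 (col2 (col3 (col4 (col1 (col2 (col3 (col4 (col1 (col2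 (col3 (col4 (col1 (col2 (col3 (col4 (col1 (col2 (col3 (col4 (col5 (col2 (col2 (col3 (col1 (col2 (col3 (col4 (col1 (col2 (col3 (col4 (col1 (col2 (col3 (col4 (col1 (col2 (col3 (col4 (col1 (col2 (col3 (col4 (col1 (col2 (col3 (col4 (col1 (col2 (col3 (col4 (col5 (col2 (col3 (col1 (col2 (col3 (col4 (col1 (col2 (col3 (col4 (col1 (col2 (col3 (col4 (col1 (col2 (col3 (col4 (col1 (col2 (col3 (col4 (col1 (col2 (col3 (col4 (col1 (col2 (col3 (col4 (col5 (col2 (col3 (col1 (col2 (col3 (col4 (col1 (col2 (col3 (col4 (col1 (col2 (col3 (col4 (col1 (col2 (col3 (col4 (col1 (col2 (col3 (col4 (col1 (col2 (col3 (col4 (col1 (col2 (col3 (col4 (col5 (col4 (col5 (col4 (col3 (col2 (col1 (col4 (col3 (col2 (col1 (col4 (col3 (col2 (col1 (col4 (col3 (col2 (col1 (col4 (col3 (col2 (col1 (col4 (col3 (col2 (col1 (col4 (col3 (col2 (col1 (col3 (col2 (col5 (col4 (col3 (col2 (col1 (col4 (col3 (col2 (col1 (col4 (col3 (col2 (col1 (col4 (col3 (col2 (col1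 (col4 (col3 (col2 (col1 (col4 (col3 (col2 (col1 (col4 (col3 (col2 (col1 (col3 (col2 (col5 (col4 (col3 (col2 (col1 (col4 (col3 (col2 (col1 (col4 (col3 (col2 (col1 (col4 (col3 (col2 (col1 (col4 (col3 (col2 (col1 (col4 (col3 (col2 (col1 (col4 (col3 (col2 (col1 (col3 (col2 (col2 (col5 (col4 (col3 (col2 (col1 (col4 (col3 (col2 (col1 (col4 (col3 (col2 (col1 (col4 (col3 (col2 (col1 (col4 (col3 (col2 (col1 (col4 (col3 (col2 (col1 (col4 (col3 (col2 (col1 (col3 (col2 (col4 (col2 (col2 (col3 (col1 (col2 (col3 (col4 (col1 (col2 (col3 (col4 (col1 (col2 (col3 (col4 (col1 (col2 (col3 (col4 (col1 (col2 (col3 (col4 (col1 (col2 (col3 (col4 (col1 (col2 (col3 (col4 (col5 (col2 (col2 (col3 (col1 (col2 (col3 (col4 (col1 (col2 (col3 (col4 (col1 (col2 (col3 (col4 (col1 (col2 (col3 (col4 (col1 (col2 (col3 (col4 (col1 (col2 (col3 (col4 (col1 (col2 (col3 (col4 (col5 (col2 (col3 (col1 (col2 (col3 (col4 (col1 (col2 (col3 (col4 (col1 (col2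 (col3 (col4 (col1 (col2 (col3 (col4 (col1 (col2 (col3 (col4 (col1 (col2 (col3 (col4 (col1 (col2 (col3 (col4 (col5 (col2 (col3 (col1 (col2 (col3 (col4 (col1 (col2 (col3 (col4 (col1 (col2 (col3 (col4 (col1 (col2 (col3 (col4 (col1 (col2 (col3 (col4 (col1 (col2 (col3 (col4 (col1 (col2 (col3 (col4 (col5 (col4 (i))))))))))))))))))))))))))))))))))))))))))))))))))))))))))))))))))))))))))))))))))))))))))))))))))))))))))))))))))))))))))))))))))))))))))))))))))))))))))))))))))))))))))))))))))))))))))))))))))))))))))))))))))))))))))))))))))))))))))))))))))))))))))))))))))))))))))))))))))))))))))))))))))))))))))))))))))))))))))))))))))))))))))))))))))))))))))))))))))))))))))))))))))))))))))))))))))))))))))))))))))))))))))))))))))))))))))))))))))))))))))))))))))))))))))))))))))))))))))))))))))))))))))))))))))))))))))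
theorem act98_eq (i : Nat) : act98 i = Tab.act T D chk98 i := rfl
theorem c98_0 : allRange (fun i => Nat.beq (act98 i) i) 0 118 = true := by decide +kernel
theorem c98_1 : allRange (fun i => Nat.beq (act98 i) i) 118 118 = true := by decide +kernel
theorem c98_2 : allRange (fun i => Nat.beq (act98 i) i) 236 118 = true := by decide +kernel
theorem c98_3 : allRange (fun i => Nat.beq (act98 i) i) 354 118 = true := by decide +kernel
theorem c98_4 : allRange (fun i => Nat.beq (act98 i) i) 472 118 = true := by decide +kernel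
theorem c98_5 : allRange (fun i => Nat.beq (act98 i) i) 590 118 = true := by decide +kernel
theorem c98_6 : allRange (fun i => Nat.beq (act98 i) i) 708 118 = true := by decide +kernel
theorem c98_7 : allRange (fun i => Nat.beq (act98 i) i) 826 118 = true := by decide +kernel
theorem c98_8 : allRange (fun i => Nat.beq (act98 i) i) 944 118 = true := by decide +kernel
theorem c98_9 : allRange (fun i => Nat.beq (act98 i) i) 1062 118 = true := by decide +kernel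
theorem c98_10 : allRange (fun i => Nat.beq (act98 i) i) 1180 118 = true := by decide +kernel
theorem c98_11 : allRange (fun i => Nat.beq (act98 i) i) 1298 118 = true := by decide +kernel
theorem c98_12 : allRange (fun i => Nat.beq (act98 i) i) 1416 118 = true := by decide +kernel
theorem c98_13 : allRange (fun i => Nat.beq (act98 i) i) 1534 118 = true := by decide +kernel
theorem c98_14 : allRange (fun i => Nat.beq (act98 i) i) 1652 118 = true := by decide +kernel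
theorem c98_15 : allRange (fun i => Nat.beq (act98 i) i) 1770 118 = true := by decide +kernel
theorem c98_16 : allRange (fun i => Nat.beq (act98 i) i) 1888 118 = true := by decide +kernel
theorem c98_17 : allRange (fun i => Nat.beq (act98 i) i) 2006 52 = true := by decide +kernel
theorem h98 : ∀ i, i < T.N → Tab.relActOK T D chk98 i = true := by
  intro i hi
  rw [Tab.relActOK, ← act98_eq]
  exact (range_glue (range_of_allRange c98_0) (range_glue (range_of_allRange c98_1) (range_glue (range_of_allRange c98_2) (range_glue (range_of_allRange c98_3) (range_glue (range_of_allRange c98_4) (range_glue (range_of_allRange c98_5) (range_glue (range_of_allRange c98_6) (range_glue (range_of_allRange c98_7) (range_glue (range_of_allRange c98_8) (range_glue (range_of_allRange c98_9) (range_glue (range_of_allRange c98_10) (range_glue (range_of_allRange c98_11) (range_glue (range_of_allRange c98_12) (range_glue (range_of_allRange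 c98_13) (range_glue (range_of_allRange c98_14) (range_glue (range_of_allRange c98_15) (range_glue (range_of_allRange c98_16) (range_of_allRange c98_17)))))))))))))))))) i (Nat.zero_le _) hi

def chk99 : List Nat := [2, 3, 1, 2, 3, 4, 1, 2, 3, 4, 1, 2, 3, 4, 1, 2, 3, 4, 1, 2, 3, 4, 1, 2, 3, 4, 1, 2, 3, 4, 5, 2, 3, 1, 2, 3, 4, 1, 2, 3, 4, 1, 2, 3, 4, 1, 2, 3, 4, 1, 2, 3, 4, 1, 2, 3, 4, 1, 2, 3, 4, 5, 2, 3, 1, 2, 3, 4, 1, 2, 3, 4, 1, 2, 3, 4, 1, 2, 3, 4, 1, 2, 3, 4, 1, 2, 3, 4, 1, 2, 3, 4, 5, 2, 2, 3, 1, 2, 3, 4, 1, 2, 3, 4, 1, 2, 3, 4, 1, 2, 3, 4, 1, 2, 3, 4, 1, 2, 3, 4, 1, 2, 3, 4, 5, 4, 2, 5, 4, 3, 2, 1, 4, 3, 2, 1, 4, 3, 2, 1, 4, 3, 2, 1, 4, 3, 2, 1, 4, 3, 2, 1, 4, 3, 2, 1, 3, 2, 2, 5, 4, 3, 2, 1, 4, 3, 2, 1, 4, 3, 2, 1, 4, 3, 2, 1, 4, 3, 2, 1, 4, 3, 2, 1, 4, 3, 2, 1, 3, 2, 5, 4, 3, 2, 1, 4, 3, 2, 1, 4, 3, 2, 1, 4, 3, 2, 1, 4, 3, 2, 1, 4, 3, 2, 1, 4, 3, 2, 1, 3, 2, 5, 4, 3, 2, 1, 4, 3, 2, 1, 4, 3, 2, 1, 4,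 3, 2, 1, 4, 3, 2, 1, 4, 3, 2, 1, 4, 3, 2, 1, 3, 2, 2, 3, 1, 2, 3, 4, 1, 2, 3, 4, 1, 2, 3, 4, 1, 2, 3, 4, 1, 2, 3, 4, 1, 2, 3, 4, 1, 2, 3, 4, 5, 2, 3, 1, 2, 3, 4, 1, 2, 3, 4, 1, 2, 3, 4, 1, 2, 3, 4, 1, 2, 3, 4, 1, 2, 3, 4, 1, 2, 3, 4, 5, 2, 3, 1, 2, 3, 4, 1, 2, 3, 4, 1, 2, 3, 4, 1, 2, 3, 4, 1, 2, 3, 4, 1, 2, 3, 4, 1, 2, 3, 4, 5, 2, 2, 3, 1, 2, 3, 4, 1, 2, 3, 4, 1, 2, 3, 4, 1, 2, 3, 4, 1, 2, 3, 4, 1, 2, 3, 4, 1, 2, 3, 4, 5, 4, 2, 5, 4, 3, 2, 1, 4, 3, 2, 1, 4, 3, 2, 1, 4, 3, 2, 1, 4, 3, 2, 1, 4, 3, 2, 1, 4, 3, 2, 1, 3, 2, 2, 5, 4, 3, 2, 1, 4, 3, 2, 1, 4, 3, 2, 1, 4, 3, 2, 1, 4, 3, 2, 1, 4, 3, 2, 1, 4, 3, 2, 1, 3, 2, 5, 4, 3, 2, 1, 4, 3, 2, 1, 4, 3, 2, 1, 4, 3, 2, 1, 4, 3, 2, 1, 4, 3, 2, 1, 4, 3, 2, 1, 3, 2, 5, 4, 3, 2, 1, 4, 3, 2, 1, 4, 3, 2, 1, 4, 3, 2, 1, 4, 3, 2, 1, 4, 3, 2, 1, 4, 3, 2, 1, 3, 2]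
noncomputable def act99 (i : Nat) : Nat := col2 (col3 (col1 (col2 (col3 (col4 (col1 (col2 (col3 (col4 (col1 (col2 (col3 (col4 (col1 (col2 (col3 (col4 (col1 (col2 (col3 (col4 (col1 (col2 (col3 (col4 (col1 (col2 (col3 (col4 (col5 (col2 (col3 (col1 (col2 (col3 (col4 (col1 (col2 (col3 (col4 (col1 (col2 (col3 (col4 (col1 (col2 (col3 (col4 (col1 (col2 (col3 (col4 (col1 (col2 (col3 (col4 (col1 (col2 (col3 (col4 (col5 (col2 (col3 (col1 (col2 (col3 (col4 (col1 (col2 (col3 (col4 (col1 (col2 (col3 (col4 (col1 (col2 (col3 (col4 (col1 (col2 (col3 (col4 (col1 (col2 (col3 (col4 (col1 (col2 (col3 (col4 (col5 (col2 (col2 (col3 (col1 (col2 (col3 (col4 (col1 (col2 (col3 (col4 (col1 (col2 (col3 (col4 (col1 (col2 (col3 (col4 (col1 (col2 (col3 (col4 (col1 (col2 (col3 (col4 (col1 (col2 (col3 (col4 (col5 (col4 (col2 (col5 (col4 (col3 (col2 (col1 (col4 (col3 (col2 (col1 (col4 (col3 (col2 (col1 (col4 (col3 (col2 (col1 (col4 (col3 (col2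 (col1 (col4 (col3 (col2 (col1 (col4 (col3 (col2 (col1 (col3 (col2 (col2 (col5 (col4 (col3 (col2 (col1 (col4 (col3 (col2 (col1 (col4 (col3 (col2 (col1 (col4 (col3 (col2 (col1 (col4 (col3 (col2 (col1 (col4 (col3 (col2 (col1 (col4 (col3 (col2 (col1 (col3 (col2 (col5 (col4 (col3 (col2 (col1 (col4 (col3 (col2 (col1 (col4 (col3 (col2 (col1 (col4 (col3 (col2 (col1 (col4 (col3 (col2 (col1 (col4 (col3 (col2 (col1 (col4 (col3 (col2 (col1 (col3 (col2 (col5 (col4 (col3 (col2 (col1 (col4 (col3 (col2 (col1 (col4 (col3 (col2 (col1 (col4 (col3 (col2 (col1 (col4 (col3 (col2 (col1 (col4 (col3 (col2 (col1 (col4 (col3 (col2 (col1 (col3 (col2 (col2 (col3 (col1 (col2 (col3 (col4 (col1 (col2 (col3 (col4 (col1 (col2 (col3 (col4 (col1 (col2 (col3 (col4 (col1 (col2 (col3 (col4 (col1 (col2 (col3 (col4 (col1 (col2 (col3 (col4 (col5 (col2 (col3 (col1 (col2 (col3 (col4 (col1 (col2 (col3 (col4 (col1 (col2 (col3 (col4 (col1 (col2 (col3 (col4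 (col1 (col2 (col3 (col4 (col1 (col2 (col3 (col4 (col1 (col2 (col3 (col4 (col5 (col2 (col3 (col1 (col2 (col3 (col4 (col1 (col2 (col3 (col4 (col1 (col2 (col3 (col4 (col1 (col2 (col3 (col4 (col1 (col2 (col3 (col4 (col1 (col2 (col3 (col4 (col1 (col2 (col3 (col4 (col5 (col2 (col2 (col3 (col1 (col2 (col3 (col4 (col1 (col2 (col3 (col4 (col1 (col2 (col3 (col4 (col1 (col2 (col3 (col4 (col1 (col2 (col3 (col4 (col1 (col2 (col3 (col4 (col1 (col2 (col3 (col4 (col5 (col4 (col2 (col5 (col4 (col3 (col2 (col1 (col4 (col3 (col2 (col1 (col4 (col3 (col2 (col1 (col4 (col3 (col2 (col1 (col4 (col3 (col2 (col1 (col4 (col3 (col2 (col1 (col4 (col3 (col2 (col1 (col3 (col2 (col2 (col5 (col4 (col3 (col2 (col1 (col4 (col3 (col2 (col1 (col4 (col3 (col2 (col1 (col4 (col3 (col2 (col1 (col4 (col3 (col2 (col1 (col4 (col3 (col2 (col1 (col4 (col3 (col2 (col1 (col3 (col2 (col5 (col4 (col3 (col2 (col1 (col4 (col3 (col2 (col1 (col4 (col3 (col2 (col1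 (col4 (col3 (col2 (col1 (col4 (col3 (col2 (col1 (col4 (col3 (col2 (col1 (col4 (col3 (col2 (col1 (col3 (col2 (col5 (col4 (col3 (col2 (col1 (col4 (col3 (col2 (col1 (col4 (col3 (col2 (col1 (col4 (col3 (col2 (col1 (col4 (col3 (col2 (col1 (col4 (col3 (col2 (col1 (col4 (col3 (col2 (col1 (col3 (col2 (i))))))))))))))))))))))))))))))))))))))))))))))))))))))))))))))))))))))))))))))))))))))))))))))))))))))))))))))))))))))))))))))))))))))))))))))))))))))))))))))))))))))))))))))))))))))))))))))))))))))))))))))))))))))))))))))))))))))))))))))))))))))))))))))))))))))))))))))))))))))))))))))))))))))))))))))))))))))))))))))))))))))))))))))))))))))))))))))))))))))))))))))))))))))))))))))))))))))))))))))))))))))))))))))))))))))))))))))))))))))))))))))))))))))))))))))))))))))))))))))))))))))))))))))))))))))))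
theorem act99_eq (i : Nat) : act99 i = Tab.act T D chk99 i := rfl
theorem c99_0 : allRange (fun i => Nat.beq (act99 i) i) 0 118 = true := by decide +kernel
theorem c99_1 : allRange (fun i => Nat.beq (act99 i) i) 118 118 = true := by decide +kernel
theorem c99_2 : allRange (fun i => Nat.beq (act99 i) i) 236 118 = true := by decide +kernel
theorem c99_3 : allRange (fun i => Nat.beq (act99 i) i) 354 118 = true := by decide +kernel
theorem c99_4 : allRange (fun i => Nat.beq (act99 i) i) 472 118 = true := by decide +kernel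
theorem c99_5 : allRange (fun i => Nat.beq (act99 i) i) 590 118 = true := by decide +kernel
theorem c99_6 : allRange (fun i => Nat.beq (act99 i) i) 708 118 = true := by decide +kernel
theorem c99_7 : allRange (fun i => Nat.beq (act99 i) i) 826 118 = true := by decide +kernel
theorem c99_8 : allRange (fun i => Nat.beq (act99 i) i) 944 118 = true := by decide +kernel
theorem c99_9 : allRange (fun i => Nat.beq (act99 i) i) 1062 118 = true := by decide +kernel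
theorem c99_10 : allRange (fun i => Nat.beq (act99 i) i) 1180 118 = true := by decide +kernel
theorem c99_11 : allRange (fun i => Nat.beq (act99 i) i) 1298 118 = true := by decide +kernel
theorem c99_12 : allRange (fun i => Nat.beq (act99 i) i) 1416 118 = true := by decide +kernel
theorem c99_13 : allRange (fun i => Nat.beq (act99 i) i) 1534 118 = true := by decide +kernel
theorem c99_14 : allRange (fun i => Nat.beq (act99 i) i) 1652 118 = true := by decide +kernel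
theorem c99_15 : allRange (fun i => Nat.beq (act99 i) i) 1770 118 = true := by decide +kernel
theorem c99_16 : allRange (fun i => Nat.beq (act99 i) i) 1888 118 = true := by decide +kernel
theorem c99_17 : allRange (fun i => Nat.beq (act99 i) i) 2006 52 = true := by decide +kernel
theorem h99 : ∀ i, i < T.N → Tab.relActOK T D chk99 i = true := by
  intro i hi
  rw [Tab.relActOK, ← act99_eq]
  exact (range_glue (range_of_allRange c99_0) (range_glue (range_of_allRange c99_1) (range_glue (range_of_allRange c99_2) (range_glue (range_of_allRange c99_3) (range_glue (range_of_allRange c99_4) (range_glue (range_of_allRange c99_5) (range_glue (range_of_allRange c99_6) (range_glue (range_of_allRange c99_7) (range_glue (range_of_allRange c99_8) (range_glue (range_of_allRange c99_9) (range_glue (range_of_allRange c99_10) (range_glue (range_of_allRange c99_11) (range_glue (range_of_allRange c99_12) (range_glue (range_of_allRange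 c99_13) (range_glue (range_of_allRange c99_14) (range_glue (range_of_allRange c99_15) (range_glue (range_of_allRange c99_16) (range_of_allRange c99_17)))))))))))))))))) i (Nat.zero_le _) hi

def chk100 : List Nat := [6, 2, 2, 3, 1, 2, 3, 4, 1, 2, 3, 4, 1, 2, 3, 4, 1, 2, 3, 4, 1, 2, 3, 4, 1, 2, 3, 4, 1, 2, 3, 4, 5, 2, 5, 4, 3, 2, 1, 4, 3, 2, 1, 4, 3, 2, 1, 4, 3, 2, 1, 4, 3, 2, 1, 4, 3, 2, 1, 4, 3, 2, 1, 3, 2, 2, 5, 4, 3, 2, 1, 4, 3, 2, 1, 4, 3, 2, 1, 4, 3, 2, 1, 4, 3, 2, 1, 4, 3, 2, 1, 4, 3, 2, 1, 3, 2, 5, 4, 3, 2, 1, 4, 3, 2, 1, 4, 3, 2, 1, 4, 3, 2, 1, 4, 3, 2, 1, 4, 3, 2, 1, 4, 3, 2, 1, 3, 2, 5, 4, 3, 2, 1, 4, 3, 2, 1, 4, 3, 2, 1, 4, 3, 2, 1, 4, 3, 2, 1, 4, 3, 2, 1, 4, 3, 2, 1, 3, 2, 2, 5, 4, 3, 2, 1, 4, 3, 2, 1, 4, 3, 2, 1, 4, 3, 2, 1, 4, 3, 2, 1, 4, 3, 2, 1, 4, 3, 2, 1, 3, 2, 2, 2, 3, 1, 2, 3, 4, 1, 2, 3, 4, 1, 2, 3, 4, 1, 2, 3, 4, 1, 2, 3, 4, 1, 2, 3, 4, 1, 2, 3, 4, 5, 6, 2, 3, 1, 2, 3, 4, 1, 2, 3, 4, 1,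 2, 3, 4, 1, 2, 3, 4, 1, 2, 3, 4, 1, 2, 3, 4, 1, 2, 3, 4, 5, 2, 3, 1, 2, 3, 4, 1, 2, 3, 4, 1, 2, 3, 4, 1, 2, 3, 4, 1, 2, 3, 4, 1, 2, 3, 4, 1, 2, 3, 4, 5, 2, 3, 1, 2, 3, 4, 1, 2, 3, 4, 1, 2, 3, 4, 1, 2, 3, 4, 1, 2, 3, 4, 1, 2, 3, 4, 1, 2, 3, 4, 5, 4, 2, 3, 1, 2, 3, 4, 1, 2, 3, 4, 1, 2, 3, 4, 1, 2, 3, 4, 1, 2, 3, 4, 1, 2, 3, 4, 1, 2, 3, 4, 5, 4, 5, 4, 3, 2, 1, 4, 3, 2, 1, 4, 3, 2, 1, 4, 3, 2, 1, 4, 3, 2, 1, 4, 3, 2, 1, 4, 3, 2, 1, 3, 2, 2, 5, 4, 3, 2, 1, 4, 3, 2, 1, 4, 3, 2, 1, 4, 3, 2, 1, 4, 3, 2, 1, 4, 3, 2, 1, 4, 3, 2, 1, 3, 2, 5, 4, 3, 2, 1, 4, 3, 2, 1, 4, 3, 2, 1, 4, 3, 2, 1, 4, 3, 2, 1, 4, 3, 2, 1, 4, 3, 2, 1, 3, 2, 5, 4, 3, 2, 1, 4, 3, 2, 1, 4, 3, 2, 1, 4, 3, 2, 1, 4, 3, 2, 1, 4, 3, 2, 1, 4, 3, 2, 1, 3, 2, 5, 4, 3, 2, 1, 4, 3, 2, 1, 4, 3, 2, 1, 4, 3, 2, 1, 4, 3, 2, 1, 4, 3, 2, 1, 4, 3, 2, 1, 3, 2, 2, 5, 4, 3, 2, 1, 4, 3, 2, 1, 4, 3, 2, 1, 4, 3, 2, 1, 4, 3, 2, 1, 4, 3, 2, 1, 4, 3, 2, 1, 3, 2]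
noncomputable def act100 (i : Nat) : Nat := col6 (col2 (col2 (col3 (col1 (col2 (col3 (col4 (col1 (col2 (col3 (col4 (col1 (col2 (col3 (col4 (col1 (col2 (col3 (col4 (col1 (col2 (col3 (col4 (col1 (col2 (col3 (col4 (col1 (col2 (col3 (col4 (col5 (col2 (col5 (col4 (col3 (col2 (col1 (col4 (col3 (col2 (col1 (col4 (col3 (col2 (col1 (col4 (col3 (col2 (col1 (col4 (col3 (col2 (col1 (col4 (col3 (col2 (col1 (col4 (col3 (col2 (col1 (col3 (col2 (col2 (col5 (col4 (col3 (col2 (col1 (col4 (col3 (col2 (col1 (col4 (col3 (col2 (col1 (col4 (col3 (col2 (col1 (col4 (col3 (col2 (col1 (col4 (col3 (col2 (col1 (col4 (col3 (col2 (col1 (col3 (col2 (col5 (col4 (col3 (col2 (col1 (col4 (col3 (col2 (col1 (col4 (col3 (col2 (col1 (col4 (col3 (col2 (col1 (col4 (col3 (col2 (col1 (col4 (col3 (col2 (col1 (col4 (col3 (col2 (col1 (col3 (col2 (col5 (col4 (col3 (col2 (col1 (col4 (col3 (col2 (col1 (col4 (col3 (col2 (col1 (col4 (col3 (col2 (col1 (col4 (col3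 (col2 (col1 (col4 (col3 (col2 (col1 (col4 (col3 (col2 (col1 (col3 (col2 (col2 (col5 (col4 (col3 (col2 (col1 (col4 (col3 (col2 (col1 (col4 (col3 (col2 (col1 (col4 (col3 (col2 (col1 (col4 (col3 (col2 (col1 (col4 (col3 (col2 (col1 (col4 (col3 (col2 (col1 (col3 (col2 (col2 (col2 (col3 (col1 (col2 (col3 (col4 (col1 (col2 (col3 (col4 (col1 (col2 (col3 (col4 (col1 (col2 (col3 (col4 (col1 (col2 (col3 (col4 (col1 (col2 (col3 (col4 (col1 (col2 (col3 (col4 (col5 (col6 (col2 (col3 (col1 (col2 (col3 (col4 (col1 (col2 (col3 (col4 (col1 (col2 (col3 (col4 (col1 (col2 (col3 (col4 (col1 (col2 (col3 (col4 (col1 (col2 (col3 (col4 (col1 (col2 (col3 (col4 (col5 (col2 (col3 (col1 (col2 (col3 (col4 (col1 (col2 (col3 (col4 (col1 (col2 (col3 (col4 (col1 (col2 (col3 (col4 (col1 (col2 (col3 (col4 (col1 (col2 (col3 (col4 (col1 (col2 (col3 (col4 (col5 (col2 (col3 (col1 (col2 (col3 (col4 (col1 (col2 (col3 (col4 (col1 (col2 (col3 (col4 (col1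 (col2 (col3 (col4 (col1 (col2 (col3 (col4 (col1 (col2 (col3 (col4 (col1 (col2 (col3 (col4 (col5 (col4 (col2 (col3 (col1 (col2 (col3 (col4 (col1 (col2 (col3 (col4 (col1 (col2 (col3 (col4 (col1 (col2 (col3 (col4 (col1 (col2 (col3 (col4 (col1 (col2 (col3 (col4 (col1 (col2 (col3 (col4 (col5 (col4 (col5 (col4 (col3 (col2 (col1 (col4 (col3 (col2 (col1 (col4 (col3 (col2 (col1 (col4 (col3 (col2 (col1 (col4 (col3 (col2 (col1 (col4 (col3 (col2 (col1 (col4 (col3 (col2 (col1 (col3 (col2 (col2 (col5 (col4 (col3 (col2 (col1 (col4 (col3 (col2 (col1 (col4 (col3 (col2 (col1 (col4 (col3 (col2 (col1 (col4 (col3 (col2 (col1 (col4 (col3 (col2 (col1 (col4 (col3 (col2 (col1 (col3 (col2 (col5 (col4 (col3 (col2 (col1 (col4 (col3 (col2 (col1 (col4 (col3 (col2 (col1 (col4 (col3 (col2 (col1 (col4 (col3 (col2 (col1 (col4 (col3 (col2 (col1 (col4 (col3 (col2 (col1 (col3 (col2 (col5 (col4 (col3 (col2 (col1 (col4 (col3 (col2 (col1 (col4 (col3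 (col2 (col1 (col4 (col3 (col2 (col1 (col4 (col3 (col2 (col1 (col4 (col3 (col2 (col1 (col4 (col3 (col2 (col1 (col3 (col2 (col5 (col4 (col3 (col2 (col1 (col4 (col3 (col2 (col1 (col4 (col3 (col2 (col1 (col4 (col3 (col2 (col1 (col4 (col3 (col2 (col1 (col4 (col3 (col2 (col1 (col4 (col3 (col2 (col1 (col3 (col2 (col2 (col5 (col4 (col3 (col2 (col1 (col4 (col3 (col2 (col1 (col4 (col3 (col2 (col1 (col4 (col3 (col2 (col1 (col4 (col3 (col2 (col1 (col4 (col3 (col2 (col1 (col4 (col3 (col2 (col1 (col3 (col2 (i))))))))))))))))))))))))))))))))))))))))))))))))))))))))))))))))))))))))))))))))))))))))))))))))))))))))))))))))))))))))))))))))))))))))))))))))))))))))))))))))))))))))))))))))))))))))))))))))))))))))))))))))))))))))))))))))))))))))))))))))))))))))))))))))))))))))))))))))))))))))))))))))))))))))))))))))))))))))))))))))))))))))))))))))))))))))))))))))))))))))))))))))))))))))))))))))))))))))))))))))))))))))))))))))))))))))))))))))))))))))))))))))))))))))))))))))))))))))))))))))))))))))))))))))))))))))))))))))))))))))))))))))))))))))))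
theorem act100_eq (i : Nat) : act100 i = Tab.act T D chk100 i := rfl
theorem c100_0 : allRange (fun i => Nat.beq (act100 i) i) 0 111 = true := by decide +kernel
theorem c100_1 : allRange (fun i => Nat.beq (act100 i) i) 111 111 = true := by decide +kernel
theorem c100_2 : allRange (fun i => Nat.beq (act100 i) i) 222 111 = true := by decide +kernel
theorem c100_3 : allRange (fun i => Nat.beq (act100 i) i) 333 111 = true := by decide +kernel
theorem c100_4 : allRange (fun i => Nat.beq (act100 i) i) 444 111 = true := by decide +kernel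
theorem c100_5 : allRange (fun i => Nat.beq (act100 i) i) 555 111 = true := by decide +kernel
theorem c100_6 : allRange (fun i => Nat.beq (act100 i) i) 666 111 = true := by decide +kernel
theorem c100_7 : allRange (fun i => Nat.beq (act100 i) i) 777 111 = true := by decide +kernel
theorem c100_8 : allRange (fun i => Nat.beq (act100 i) i) 888 111 = true := by decide +kernel
theorem c100_9 : allRange (fun i => Nat.beq (act100 i) i) 999 111 = true := by decide +kernel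
theorem c100_10 : allRange (fun i => Nat.beq (act100 i) i) 1110 111 = true := by decide +kernel
theorem c100_11 : allRange (fun i => Nat.beq (act100 i) i) 1221 111 = true := by decide +kernel
theorem c100_12 : allRange (fun i => Nat.beq (act100 i) i) 1332 111 = true := by decide +kernel
theorem c100_13 : allRange (fun i => Nat.beq (act100 i) i) 1443 111 = true := by decide +kernel
theorem c100_14 : allRange (fun i => Nat.beq (act100 i) i) 1554 111 = true := by decide +kernel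
theorem c100_15 : allRange (fun i => Nat.beq (act100 i) i) 1665 111 = true := by decide +kernel
theorem c100_16 : allRange (fun i => Nat.beq (act100 i) i) 1776 111 = true := by decide +kernel
theorem c100_17 : allRange (fun i => Nat.beq (act100 i) i) 1887 111 = true := by decide +kernel
theorem c100_18 : allRange (fun i => Nat.beq (act100 i) i) 1998 60 = true := by decide +kernel
theorem h100 : ∀ i, i < T.N → Tab.relActOK T D chk100 i = true := by
  intro i hi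
  rw [Tab.relActOK, ← act100_eq]
  exact (range_glue (range_of_allRange c100_0) (range_glue (range_of_allRange c100_1) (range_glue (range_of_allRange c100_2) (range_glue (range_of_allRange c100_3) (range_glue (range_of_allRange c100_4) (range_glue (range_of_allRange c100_5) (range_glue (range_of_allRange c100_6) (range_glue (range_of_allRange c100_7) (range_glue (range_of_allRange c100_8) (range_glue (range_of_allRange c100_9) (range_glue (range_of_allRange c100_10) (range_glue (range_of_allRange c100_11) (range_glue (range_of_allRange c100_12) (range_glue (range_of_allRange c100_13) (range_glue (range_of_allRange c100_14) (range_glue (range_of_allRange c100_15) (range_glue (range_of_allRange c100_16) (range_glue (range_of_allRange c100_17) (range_of_allRange c100_18))))))))))))))))))) i (Nat.zero_le _) hi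

def chk101 : List Nat := [2, 2, 3, 1, 2, 3, 4, 1, 2, 3, 4, 1, 2, 3, 4, 1, 2, 3, 4, 1, 2, 3, 4, 1, 2, 3, 4, 1, 2, 3, 4, 5, 2, 5, 4, 3, 2, 1, 4, 3, 2, 1, 4, 3, 2, 1, 4, 3, 2, 1, 4, 3, 2, 1, 4, 3, 2, 1, 4, 3, 2, 1, 3, 2, 2, 5, 4, 3, 2, 1, 4, 3, 2, 1, 4, 3, 2, 1, 4, 3, 2, 1, 4, 3, 2, 1, 4, 3, 2, 1, 4, 3, 2, 1, 3, 2, 5, 4, 3, 2, 1, 4, 3, 2, 1, 4, 3, 2, 1, 4, 3, 2, 1, 4, 3, 2, 1, 4, 3, 2, 1, 4, 3, 2, 1, 3, 2, 5, 4, 3, 2, 1, 4, 3, 2, 1, 4, 3, 2, 1, 4, 3, 2, 1, 4, 3, 2, 1, 4, 3, 2, 1, 4, 3, 2, 1, 3, 2, 2, 5, 4, 3, 2, 1, 4, 3, 2, 1, 4, 3, 2, 1, 4, 3, 2, 1, 4, 3, 2, 1, 4, 3, 2, 1, 4, 3, 2, 1, 3, 2, 2, 2, 3, 1, 2, 3, 4, 1, 2, 3, 4, 1, 2, 3, 4, 1, 2, 3, 4, 1, 2, 3, 4, 1, 2, 3, 4, 1, 2, 3, 4, 5, 2, 2, 3, 1, 2, 3, 4, 1, 2, 3, 4, 1, 2, 3, 4, 1, 2, 3, 4, 1, 2, 3, 4, 1, 2, 3, 4, 1, 2, 3, 4, 5, 2, 5, 4, 3, 2, 1, 4, 3, 2, 1, 4, 3, 2, 1, 4, 3, 2, 1, 4, 3, 2, 1, 4, 3, 2, 1, 4, 3, 2, 1, 3, 2, 2, 5, 4, 3, 2, 1, 4, 3, 2, 1, 4, 3,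 2, 1, 4, 3, 2, 1, 4, 3, 2, 1, 4, 3, 2, 1, 4, 3, 2, 1, 3, 2, 5, 4, 3, 2, 1, 4, 3, 2, 1, 4, 3, 2, 1, 4, 3, 2, 1, 4, 3, 2, 1, 4, 3, 2, 1, 4, 3, 2, 1, 3, 2, 5, 4, 3, 2, 1, 4, 3, 2, 1, 4, 3, 2, 1, 4, 3, 2, 1, 4, 3, 2, 1, 4, 3, 2, 1, 4, 3, 2, 1, 3, 2, 2, 5, 4, 3, 2, 1, 4, 3, 2, 1, 4, 3, 2, 1, 4, 3, 2, 1, 4, 3, 2, 1, 4, 3, 2, 1, 4, 3, 2, 1, 3, 2, 2, 2, 3, 1, 2, 3, 4, 1, 2, 3, 4, 1, 2, 3, 4, 1, 2, 3, 4, 1, 2, 3, 4, 1, 2, 3, 4, 1, 2, 3, 4, 5, 2, 2, 3, 1, 2, 3, 4, 1, 2, 3, 4, 1, 2, 3, 4, 1, 2, 3, 4, 1, 2, 3, 4, 1, 2, 3, 4, 1, 2, 3, 4, 5, 2, 5, 4, 3, 2, 1, 4, 3, 2, 1, 4, 3, 2, 1, 4, 3, 2, 1, 4, 3, 2, 1, 4, 3, 2, 1, 4, 3, 2, 1, 3, 2, 2, 5, 4, 3, 2, 1, 4, 3, 2, 1, 4, 3, 2, 1, 4, 3, 2, 1, 4, 3, 2, 1, 4, 3, 2, 1, 4, 3, 2, 1, 3, 2, 5, 4, 3, 2, 1, 4, 3, 2, 1, 4, 3, 2, 1, 4, 3, 2, 1, 4, 3, 2, 1, 4, 3, 2, 1, 4, 3, 2, 1, 3, 2, 5, 4, 3, 2, 1, 4, 3, 2, 1, 4, 3, 2, 1, 4, 3, 2, 1, 4, 3, 2, 1, 4, 3, 2, 1, 4, 3, 2, 1, 3, 2, 2, 5, 4,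 3, 2, 1, 4, 3, 2, 1, 4, 3, 2, 1, 4, 3, 2, 1, 4, 3, 2, 1, 4, 3, 2, 1, 4, 3, 2, 1, 3, 2, 2, 2, 3, 1, 2, 3, 4, 1, 2, 3, 4, 1, 2, 3, 4, 1, 2, 3, 4, 1, 2, 3, 4, 1, 2, 3, 4, 1, 2, 3, 4, 5, 2, 2, 3, 1, 2, 3, 4, 1, 2, 3, 4, 1, 2, 3, 4, 1, 2, 3, 4, 1, 2, 3, 4, 1, 2, 3, 4, 1, 2, 3, 4, 5, 2, 5, 4, 3, 2, 1, 4, 3, 2, 1, 4, 3, 2, 1, 4, 3, 2, 1, 4, 3, 2, 1, 4, 3, 2, 1, 4, 3, 2, 1, 3, 2, 2, 5, 4, 3, 2, 1, 4, 3, 2, 1, 4, 3, 2, 1, 4, 3, 2, 1, 4, 3, 2, 1, 4, 3, 2, 1, 4, 3, 2, 1, 3, 2, 5, 4, 3, 2, 1, 4, 3, 2, 1, 4, 3, 2, 1, 4, 3, 2, 1, 4, 3, 2, 1, 4, 3, 2, 1, 4, 3, 2, 1, 3, 2, 5, 4, 3, 2, 1, 4, 3, 2, 1, 4, 3, 2, 1, 4, 3, 2, 1, 4, 3, 2, 1, 4, 3, 2, 1, 4, 3, 2, 1, 3, 2, 2, 5, 4, 3, 2, 1, 4, 3, 2, 1, 4, 3, 2, 1, 4, 3, 2, 1, 4, 3, 2, 1, 4, 3, 2, 1, 4, 3, 2, 1, 3, 2, 2, 2, 3, 1, 2, 3, 4, 1, 2, 3, 4, 1, 2, 3, 4, 1, 2, 3, 4, 1, 2, 3, 4, 1, 2, 3, 4, 1, 2, 3, 4, 5]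
noncomputable def act101 (i : Nat) : Nat := col2 (col2 (col3 (col1 (col2 (col3 (col4 (col1 (col2 (col3 (col4 (col1 (col2 (col3 (col4 (col1 (col2 (col3 (col4 (col1 (col2 (col3 (col4 (col1 (col2 (col3 (col4 (col1 (col2 (col3 (col4 (col5 (col2 (col5 (col4 (col3 (col2 (col1 (col4 (col3 (col2 (col1 (col4 (col3 (col2 (col1 (col4 (col3 (col2 (col1 (col4 (col3 (col2 (col1 (col4 (col3 (col2 (col1 (col4 (col3 (col2 (col1 (col3 (col2 (col2 (col5 (col4 (col3 (col2 (col1 (col4 (col3 (col2 (col1 (col4 (col3 (col2 (col1 (col4 (col3 (col2 (col1 (col4 (col3 (col2 (col1 (col4 (col3 (col2 (col1 (col4 (col3 (col2 (col1 (col3 (col2 (col5 (col4 (col3 (col2 (col1 (col4 (col3 (col2 (col1 (col4 (col3 (col2 (col1 (col4 (col3 (col2 (col1 (col4 (col3 (col2 (col1 (col4 (col3 (col2 (col1 (col4 (col3 (col2 (col1 (col3 (col2 (col5 (col4 (col3 (col2 (col1 (col4 (col3 (col2 (col1 (col4 (col3 (col2 (col1 (col4 (col3 (col2 (col1 (col4 (col3 (col2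 (col1 (col4 (col3 (col2 (col1 (col4 (col3 (col2 (col1 (col3 (col2 (col2 (col5 (col4 (col3 (col2 (col1 (col4 (col3 (col2 (col1 (col4 (col3 (col2 (col1 (col4 (col3 (col2 (col1 (col4 (col3 (col2 (col1 (col4 (col3 (col2 (col1 (col4 (col3 (col2 (col1 (col3 (col2 (col2 (col2 (col3 (col1 (col2 (col3 (col4 (col1 (col2 (col3 (col4 (col1 (col2 (col3 (col4 (col1 (col2 (col3 (col4 (col1 (col2 (col3 (col4 (col1 (col2 (col3 (col4 (col1 (col2 (col3 (col4 (col5 (col2 (col2 (col3 (col1 (col2 (col3 (col4 (col1 (col2 (col3 (col4 (col1 (col2 (col3 (col4 (col1 (col2 (col3 (col4 (col1 (col2 (col3 (col4 (col1 (col2 (col3 (col4 (col1 (col2 (col3 (col4 (col5 (col2 (col5 (col4 (col3 (col2 (col1 (col4 (col3 (col2 (col1 (col4 (col3 (col2 (col1 (col4 (col3 (col2 (col1 (col4 (col3 (col2 (col1 (col4 (col3 (col2 (col1 (col4 (col3 (col2 (col1 (col3 (col2 (col2 (col5 (col4 (col3 (col2 (col1 (col4 (col3 (col2 (col1 (col4 (col3 (col2 (col1 (col4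 (col3 (col2 (col1 (col4 (col3 (col2 (col1 (col4 (col3 (col2 (col1 (col4 (col3 (col2 (col1 (col3 (col2 (col5 (col4 (col3 (col2 (col1 (col4 (col3 (col2 (col1 (col4 (col3 (col2 (col1 (col4 (col3 (col2 (col1 (col4 (col3 (col2 (col1 (col4 (col3 (col2 (col1 (col4 (col3 (col2 (col1 (col3 (col2 (col5 (col4 (col3 (col2 (col1 (col4 (col3 (col2 (col1 (col4 (col3 (col2 (col1 (col4 (col3 (col2 (col1 (col4 (col3 (col2 (col1 (col4 (col3 (col2 (col1 (col4 (col3 (col2 (col1 (col3 (col2 (col2 (col5 (col4 (col3 (col2 (col1 (col4 (col3 (col2 (col1 (col4 (col3 (col2 (col1 (col4 (col3 (col2 (col1 (col4 (col3 (col2 (col1 (col4 (col3 (col2 (col1 (col4 (col3 (col2 (col1 (col3 (col2 (col2 (col2 (col3 (col1 (col2 (col3 (col4 (col1 (col2 (col3 (col4 (col1 (col2 (col3 (col4 (col1 (col2 (col3 (col4 (col1 (col2 (col3 (col4 (col1 (col2 (col3 (col4 (col1 (col2 (col3 (col4 (col5 (col2 (col2 (col3 (col1 (col2 (col3 (col4 (col1 (col2 (col3 (col4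 (col1 (col2 (col3 (col4 (col1 (col2 (col3 (col4 (col1 (col2 (col3 (col4 (col1 (col2 (col3 (col4 (col1 (col2 (col3 (col4 (col5 (col2 (col5 (col4 (col3 (col2 (col1 (col4 (col3 (col2 (col1 (col4 (col3 (col2 (col1 (col4 (col3 (col2 (col1 (col4 (col3 (col2 (col1 (col4 (col3 (col2 (col1 (col4 (col3 (col2 (col1 (col3 (col2 (col2 (col5 (col4 (col3 (col2 (col1 (col4 (col3 (col2 (col1 (col4 (col3 (col2 (col1 (col4 (col3 (col2 (col1 (col4 (col3 (col2 (col1 (col4 (col3 (col2 (col1 (col4 (col3 (col2 (col1 (col3 (col2 (col5 (col4 (col3 (col2 (col1 (col4 (col3 (col2 (col1 (col4 (col3 (col2 (col1 (col4 (col3 (col2 (col1 (col4 (col3 (col2 (col1 (col4 (col3 (col2 (col1 (col4 (col3 (col2 (col1 (col3 (col2 (col5 (col4 (col3 (col2 (col1 (col4 (col3 (col2 (col1 (col4 (col3 (col2 (col1 (col4 (col3 (col2 (col1 (col4 (col3 (col2 (col1 (col4 (col3 (col2 (col1 (col4 (col3 (col2 (col1 (col3 (col2 (col2 (col5 (col4 (col3 (col2 (col1 (col4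 (col3 (col2 (col1 (col4 (col3 (col2 (col1 (col4 (col3 (col2 (col1 (col4 (col3 (col2 (col1 (col4 (col3 (col2 (col1 (col4 (col3 (col2 (col1 (col3 (col2 (col2 (col2 (col3 (col1 (col2 (col3 (col4 (col1 (col2 (col3 (col4 (col1 (col2 (col3 (col4 (col1 (col2 (col3 (col4 (col1 (col2 (col3 (col4 (col1 (col2 (col3 (col4 (col1 (col2 (col3 (col4 (col5 (col2 (col2 (col3 (col1 (col2 (col3 (col4 (col1 (col2 (col3 (col4 (col1 (col2 (col3 (col4 (col1 (col2 (col3 (col4 (col1 (col2 (col3 (col4 (col1 (col2 (col3 (col4 (col1 (col2 (col3 (col4 (col5 (col2 (col5 (col4 (col3 (col2 (col1 (col4 (col3 (col2 (col1 (col4 (col3 (col2 (col1 (col4 (col3 (col2 (col1 (col4 (col3 (col2 (col1 (col4 (col3 (col2 (col1 (col4 (col3 (col2 (col1 (col3 (col2 (col2 (col5 (col4 (col3 (col2 (col1 (col4 (col3 (col2 (col1 (col4 (col3 (col2 (col1 (col4 (col3 (col2 (col1 (col4 (col3 (col2 (col1 (col4 (col3 (col2 (col1 (col4 (col3 (col2 (col1 (col3 (col2 (col5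 (col4 (col3 (col2 (col1 (col4 (col3 (col2 (col1 (col4 (col3 (col2 (col1 (col4 (col3 (col2 (col1 (col4 (col3 (col2 (col1 (col4 (col3 (col2 (col1 (col4 (col3 (col2 (col1 (col3 (col2 (col5 (col4 (col3 (col2 (col1 (col4 (col3 (col2 (col1 (col4 (col3 (col2 (col1 (col4 (col3 (col2 (col1 (col4 (col3 (col2 (col1 (col4 (col3 (col2 (col1 (col4 (col3 (col2 (col1 (col3 (col2 (col2 (col5 (col4 (col3 (col2 (col1 (col4 (col3 (col2 (col1 (col4 (col3 (col2 (col1 (col4 (col3 (col2 (col1 (col4 (col3 (col2 (col1 (col4 (col3 (col2 (col1 (col4 (col3 (col2 (col1 (col3 (col2 (col2 (col2 (col3 (col1 (col2 (col3 (col4 (col1 (col2 (col3 (col4 (col1 (col2 (col3 (col4 (col1 (col2 (col3 (col4 (col1 (col2 (col3 (col4 (col1 (col2 (col3 (col4 (col1 (col2 (col3 (col4 (col5 (i))))))))))))))))))))))))))))))))))))))))))))))))))))))))))))))))))))))))))))))))))))))))))))))))))))))))))))))))))))))))))))))))))))))))))))))))))))))))))))))))))))))))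))))))))))))))))))))))))))))))))))))))))))))))))))))))))))))))))))))))))))))))))))))))))))))))))))))))))))))))))))))))))))))))))))))))))))))))))))))))))))))))))))))))))))))))))))))))))))))))))))))))))))))))))))))))))))))))))))))))))))))))))))))))))))))))))))))))))))))))))))))))))))))))))))))))))))))))))))))))))))))))))))))))))))))))))))))))))))))))))))))))))))))))))))))))))))))))))))))))))))))))))))))))))))))))))))))))))))))))))))))))))))))))))))))))))))))))))))))))))))))))))))))))))))))))))))))))))))))))))))))))))))))))))))))))))))))))))))))))))))))))))))))))))))))))))))))))))))))))))))))))))))))))))))))))))))))))))))))))))))))))))))))))))))))))))))))))))))))))))))))))))))))))))))))))))))))))))))))))))))))))))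
theorem act101_eq (i : Nat) : act101 i = Tab.act T D chk101 i := rfl
theorem c101_0 : allRange (fun i => Nat.beq (act101 i) i) 0 67 = true := by decide +kernel
theorem c101_1 : allRange (fun i => Nat.beq (act101 i) i) 67 67 = true := by decide +kernel
theorem c101_2 : allRange (fun i => Nat.beq (act101 i) i) 134 67 = true := by decide +kernel
theorem c101_3 : allRange (fun i => Nat.beq (act101 i) i) 201 67 = true := by decide +kernel
theorem c101_4 : allRange (fun i => Nat.beq (act101 i) i) 268 67 = true := by decide +kernel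
theorem c101_5 : allRange (fun i => Nat.beq (act101 i) i) 335 67 = true := by decide +kernel
theorem c101_6 : allRange (fun i => Nat.beq (act101 i) i) 402 67 = true := by decide +kernel
theorem c101_7 : allRange (fun i => Nat.beq (act101 i) i) 469 67 = true := by decide +kernel
theorem c101_8 : allRange (fun i => Nat.beq (act101 i) i) 536 67 = true := by decide +kernel
theorem c101_9 : allRange (fun i => Nat.beq (act101 i) i) 603 67 = true := by decide +kernel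
theorem c101_10 : allRange (fun i => Nat.beq (act101 i) i) 670 67 = true := by decide +kernel
theorem c101_11 : allRange (fun i => Nat.beq (act101 i) i) 737 67 = true := by decide +kernel
theorem c101_12 : allRange (fun i => Nat.beq (act101 i) i) 804 67 = true := by decide +kernel
theorem c101_13 : allRange (fun i => Nat.beq (act101 i) i) 871 67 = true := by decide +kernel
theorem c101_14 : allRange (fun i => Nat.beq (act101 i) i) 938 67 = true := by decide +kernel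
theorem c101_15 : allRange (fun i => Nat.beq (act101 i) i) 1005 67 = true := by decide +kernel
theorem c101_16 : allRange (fun i => Nat.beq (act101 i) i) 1072 67 = true := by decide +kernel
theorem c101_17 : allRange (fun i => Nat.beq (act101 i) i) 1139 67 = true := by decide +kernel
theorem c101_18 : allRange (fun i => Nat.beq (act101 i) i) 1206 67 = true := by decide +kernel
theorem c101_19 : allRange (fun i => Nat.beq (act101 i) i) 1273 67 = true := by decide +kernel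
theorem c101_20 : allRange (fun i => Nat.beq (act101 i) i) 1340 67 = true := by decide +kernel
theorem c101_21 : allRange (fun i => Nat.beq (act101 i) i) 1407 67 = true := by decide +kernel
theorem c101_22 : allRange (fun i => Nat.beq (act101 i) i) 1474 67 = true := by decide +kernel
theorem c101_23 : allRange (fun i => Nat.beq (act101 i) i) 1541 67 = true := by decide +kernel
theorem c101_24 : allRange (fun i => Nat.beq (act101 i) i) 1608 67 = true := by decide +kernel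
theorem c101_25 : allRange (fun i => Nat.beq (act101 i) i) 1675 67 = true := by decide +kernel
theorem c101_26 : allRange (fun i => Nat.beq (act101 i) i) 1742 67 = true := by decide +kernel
theorem c101_27 : allRange (fun i => Nat.beq (act101 i) i) 1809 67 = true := by decide +kernel
theorem c101_28 : allRange (fun i => Nat.beq (act101 i) i) 1876 67 = true := by decide +kernel
theorem c101_29 : allRange (fun i => Nat.beq (act101 i) i) 1943 67 = true := by decide +kernel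
theorem c101_30 : allRange (fun i => Nat.beq (act101 i) i) 2010 48 = true := by decide +kernel
theorem h101 : ∀ i, i < T.N → Tab.relActOK T D chk101 i = true := by
  intro i hi
  rw [Tab.relActOK, ← act101_eq]
  exact (range_glue (range_of_allRange c101_0) (range_glue (range_of_allRange c101_1) (range_glue (range_of_allRange c101_2) (range_glue (range_of_allRange c101_3) (range_glue (range_of_allRange c101_4) (range_glue (range_of_allRange c101_5) (range_glue (range_of_allRange c101_6) (range_glue (range_of_allRange c101_7) (range_glue (range_of_allRange c101_8) (range_glue (range_of_allRange c101_9) (range_glue (range_of_allRange c101_10) (range_glue (range_of_allRange c101_11) (range_glue (range_of_allRange c101_12) (range_glue (range_of_allRange c101_13) (range_glue (range_of_allRange c101_14) (range_glue (range_of_allRange c101_15) (range_glue (range_of_allRange c101_16) (range_glue (range_of_allRange c101_17)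 (range_glue (range_of_allRange c101_18) (range_glue (range_of_allRange c101_19) (range_glue (range_of_allRange c101_20) (range_glue (range_of_allRange c101_21) (range_glue (range_of_allRange c101_22) (range_glue (range_of_allRange c101_23) (range_glue (range_of_allRange c101_24) (range_glue (range_of_allRange c101_25) (range_glue (range_of_allRange c101_26) (range_glue (range_of_allRange c101_27) (range_glue (range_of_allRange c101_28) (range_glue (range_of_allRange c101_29) (range_of_allRange c101_30))))))))))))))))))))))))))))))) i (Nat.zero_le _) hi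

def chk102 : List Nat := [2, 3, 1, 2, 3, 4, 1, 2, 3, 4, 1, 2, 3, 4, 1, 2, 3, 4, 1, 2, 3, 4, 1, 2, 3, 4, 1, 2, 3, 4, 5, 2, 2, 3, 1, 2, 3, 4, 1, 2, 3, 4, 1, 2, 3, 4, 1, 2, 3, 4, 1, 2, 3, 4, 1, 2, 3, 4, 1, 2, 3, 4, 5, 2, 3, 1, 2, 3, 4, 1, 2, 3, 4, 1, 2, 3, 4, 1, 2, 3, 4, 1, 2, 3, 4, 1, 2, 3, 4, 1, 2, 3, 4, 5, 2, 3, 1, 2, 3, 4, 1, 2, 3, 4, 1, 2, 3, 4, 1, 2, 3, 4, 1, 2, 3, 4, 1, 2, 3, 4, 1, 2, 3, 4, 5, 2, 3, 1, 2, 3, 4, 1, 2, 3, 4, 1, 2, 3, 4, 1, 2, 3, 4, 1, 2, 3, 4, 1, 2, 3, 4, 1, 2, 3, 4, 5, 2, 2, 3, 1, 2, 3, 4, 1, 2, 3, 4, 1, 2, 3, 4, 1, 2, 3, 4, 1, 2, 3, 4, 1, 2, 3, 4, 1, 2, 3, 4, 5, 4, 5, 4, 3, 2, 1, 4, 3, 2, 1, 4, 3, 2, 1, 4, 3, 2, 1, 4, 3, 2, 1, 4, 3, 2, 1, 4, 3, 2, 1, 3, 2, 4, 5, 4, 3, 2, 1, 4, 3, 2, 1, 4, 3, 2, 1, 4, 3, 2, 1, 4, 3, 2, 1, 4, 3, 2, 1, 4, 3, 2, 1, 3, 2, 5, 4, 3, 2, 1, 4, 3, 2, 1, 4, 3, 2, 1, 4, 3, 2, 1, 4, 3, 2, 1, 4, 3, 2, 1, 4, 3, 2, 1, 3, 2, 5, 4, 3, 2, 1, 4, 3, 2, 1, 4, 3, 2, 1, 4, 3,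 2, 1, 4, 3, 2, 1, 4, 3, 2, 1, 4, 3, 2, 1, 3, 2, 2, 3, 1, 2, 3, 4, 1, 2, 3, 4, 1, 2, 3, 4, 1, 2, 3, 4, 1, 2, 3, 4, 1, 2, 3, 4, 1, 2, 3, 4, 5, 2, 2, 3, 1, 2, 3, 4, 1, 2, 3, 4, 1, 2, 3, 4, 1, 2, 3, 4, 1, 2, 3, 4, 1, 2, 3, 4, 1, 2, 3, 4, 5, 2, 3, 1, 2, 3, 4, 1, 2, 3, 4, 1, 2, 3, 4, 1, 2, 3, 4, 1, 2, 3, 4, 1, 2, 3, 4, 1, 2, 3, 4, 5, 2, 3, 1, 2, 3, 4, 1, 2, 3, 4, 1, 2, 3, 4, 1, 2, 3, 4, 1, 2, 3, 4, 1, 2, 3, 4, 1, 2, 3, 4, 5, 2, 3, 1, 2, 3, 4, 1, 2, 3, 4, 1, 2, 3, 4, 1, 2, 3, 4, 1, 2, 3, 4, 1, 2, 3, 4, 1, 2, 3, 4, 5, 2, 2, 3, 1, 2, 3, 4, 1, 2, 3, 4, 1, 2, 3, 4, 1, 2, 3, 4, 1, 2, 3, 4, 1, 2, 3, 4, 1, 2, 3, 4, 5, 4, 5, 4, 3, 2, 1, 4, 3, 2, 1, 4, 3, 2, 1, 4, 3, 2, 1, 4, 3, 2, 1, 4, 3, 2, 1, 4, 3, 2, 1, 3, 2, 4, 5, 4, 3, 2, 1, 4, 3, 2, 1, 4, 3, 2, 1, 4, 3, 2, 1, 4, 3, 2, 1, 4, 3, 2, 1, 4, 3, 2, 1, 3, 2, 5, 4, 3, 2, 1, 4, 3, 2, 1, 4, 3, 2, 1, 4, 3, 2, 1, 4, 3, 2, 1, 4, 3, 2, 1, 4, 3, 2, 1, 3, 2, 5, 4, 3, 2, 1, 4, 3, 2,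 1, 4, 3, 2, 1, 4, 3, 2, 1, 4, 3, 2, 1, 4, 3, 2, 1, 4, 3, 2, 1, 3, 2, 2, 3, 1, 2, 3, 4, 1, 2, 3, 4, 1, 2, 3, 4, 1, 2, 3, 4, 1, 2, 3, 4, 1, 2, 3, 4, 1, 2, 3, 4, 5, 2, 2, 3, 1, 2, 3, 4, 1, 2, 3, 4, 1, 2, 3, 4, 1, 2, 3, 4, 1, 2, 3, 4, 1, 2, 3, 4, 1, 2, 3, 4, 5, 2, 3, 1, 2, 3, 4, 1, 2, 3, 4, 1, 2, 3, 4, 1, 2, 3, 4, 1, 2, 3, 4, 1, 2, 3, 4, 1, 2, 3, 4, 5, 2, 3, 1, 2, 3, 4, 1, 2, 3, 4, 1, 2, 3, 4, 1, 2, 3, 4, 1, 2, 3, 4, 1, 2, 3, 4, 1, 2, 3, 4, 5, 2, 3, 1, 2, 3, 4, 1, 2, 3, 4, 1, 2, 3, 4, 1, 2, 3, 4, 1, 2, 3, 4, 1, 2, 3, 4, 1, 2, 3, 4, 5, 2, 2, 3, 1, 2, 3, 4, 1, 2, 3, 4, 1, 2, 3, 4, 1, 2, 3, 4, 1, 2, 3, 4, 1, 2, 3, 4, 1, 2, 3, 4, 5, 4, 5, 4, 3, 2, 1, 4, 3, 2, 1, 4, 3, 2, 1, 4, 3, 2, 1, 4, 3, 2, 1, 4, 3, 2, 1, 4, 3, 2, 1, 3, 2, 4, 5, 4, 3, 2, 1, 4, 3, 2, 1, 4, 3, 2, 1, 4, 3, 2, 1, 4, 3, 2, 1, 4, 3, 2, 1, 4, 3, 2, 1, 3, 2, 5, 4, 3, 2, 1, 4, 3, 2, 1, 4, 3, 2, 1, 4, 3, 2, 1, 4, 3, 2, 1, 4, 3, 2, 1, 4, 3, 2, 1, 3, 2, 5,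 4, 3, 2, 1, 4, 3, 2, 1, 4, 3, 2, 1, 4, 3, 2, 1, 4, 3, 2, 1, 4, 3, 2, 1, 4, 3, 2, 1, 3, 2, 2, 3, 1, 2, 3, 4, 1, 2, 3, 4, 1, 2, 3, 4, 1, 2, 3, 4, 1, 2, 3, 4, 1, 2, 3, 4, 1, 2, 3, 4, 5, 2, 2, 3, 1, 2, 3, 4, 1, 2, 3, 4, 1, 2, 3, 4, 1, 2, 3, 4, 1, 2, 3, 4, 1, 2, 3, 4, 1, 2, 3, 4, 5, 2, 3, 1, 2, 3, 4, 1, 2, 3, 4, 1, 2, 3, 4, 1, 2, 3, 4, 1, 2, 3, 4, 1, 2, 3, 4, 1, 2, 3, 4, 5, 2, 3, 1, 2, 3, 4, 1, 2, 3, 4, 1, 2, 3, 4, 1, 2, 3, 4, 1, 2, 3, 4, 1, 2, 3, 4, 1, 2, 3, 4, 5, 2, 3, 1, 2, 3, 4, 1, 2, 3, 4, 1, 2, 3, 4, 1, 2, 3, 4, 1, 2, 3, 4, 1, 2, 3, 4, 1, 2, 3, 4, 5, 2, 2, 3, 1, 2, 3, 4, 1, 2, 3, 4, 1, 2, 3, 4, 1, 2, 3, 4, 1, 2, 3, 4, 1, 2, 3, 4, 1, 2, 3, 4, 5, 4, 5, 4, 3, 2, 1, 4, 3, 2, 1, 4, 3, 2, 1, 4, 3, 2, 1, 4, 3, 2, 1, 4, 3, 2, 1, 4, 3, 2, 1, 3, 2, 4, 5, 4, 3, 2, 1, 4, 3, 2, 1, 4, 3, 2, 1, 4, 3, 2, 1, 4, 3, 2, 1, 4, 3, 2, 1, 4, 3, 2, 1, 3, 2, 5, 4, 3, 2, 1, 4, 3, 2, 1, 4, 3, 2, 1, 4, 3, 2, 1, 4, 3, 2, 1, 4, 3, 2, 1,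 4, 3, 2, 1, 3, 2, 5, 4, 3, 2, 1, 4, 3, 2, 1, 4, 3, 2, 1, 4, 3, 2, 1, 4, 3, 2, 1, 4, 3, 2, 1, 4, 3, 2, 1, 3, 2]
noncomputable def act102 (i : Nat) : Nat := col2 (col3 (col1 (col2 (col3 (col4 (col1 (col2 (col3 (col4 (col1 (col2 (col3 (col4 (col1 (col2 (col3 (col4 (col1 (col2 (col3 (col4 (col1 (col2 (col3 (col4 (col1 (col2 (col3 (col4 (col5 (col2 (col2 (col3 (col1 (col2 (col3 (col4 (col1 (col2 (col3 (col4 (col1 (col2 (col3 (col4 (col1 (col2 (col3 (col4 (col1 (col2 (col3 (col4 (col1 (col2 (col3 (col4 (col1 (col2 (col3 (col4 (col5 (col2 (col3 (col1 (col2 (col3 (col4 (col1 (col2 (col3 (col4 (col1 (col2 (col3 (col4 (col1 (col2 (col3 (col4 (col1 (col2 (col3 (col4 (col1 (col2 (col3 (col4 (col1 (col2 (col3 (col4 (col5 (col2 (col3 (col1 (col2 (col3 (col4 (col1 (col2 (col3 (col4 (col1 (col2 (col3 (col4 (col1 (col2 (col3 (col4 (col1 (col2 (col3 (col4 (col1 (col2 (col3 (col4 (col1 (col2 (col3 (col4 (col5 (col2 (col3 (col1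 (col2 (col3 (col4 (col1 (col2 (col3 (col4 (col1 (col2 (col3 (col4 (col1 (col2 (col3 (col4 (col1 (col2 (col3 (col4 (col1 (col2 (col3 (col4 (col1 (col2 (col3 (col4 (col5 (col2 (col2 (col3 (col1 (col2 (col3 (col4 (col1 (col2 (col3 (col4 (col1 (col2 (col3 (col4 (col1 (col2 (col3 (col4 (col1 (col2 (col3 (col4 (col1 (col2 (col3 (col4 (col1 (col2 (col3 (col4 (col5 (col4 (col5 (col4 (col3 (col2 (col1 (col4 (col3 (col2 (col1 (col4 (col3 (col2 (col1 (col4 (col3 (col2 (col1 (col4 (col3 (col2 (col1 (col4 (col3 (col2 (col1 (col4 (col3 (col2 (col1 (col3 (col2 (col4 (col5 (col4 (col3 (col2 (col1 (col4 (col3 (col2 (col1 (col4 (col3 (col2 (col1 (col4 (col3 (col2 (col1 (col4 (col3 (col2 (col1 (col4 (col3 (col2 (col1 (col4 (col3 (col2 (col1 (col3 (col2 (col5 (col4 (col3 (col2 (col1 (col4 (col3 (col2 (col1 (col4 (col3 (col2 (col1 (col4 (col3 (col2 (col1 (col4 (col3 (col2 (col1 (col4 (col3 (col2 (col1 (col4 (col3 (col2 (col1 (col3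 (col2 (col5 (col4 (col3 (col2 (col1 (col4 (col3 (col2 (col1 (col4 (col3 (col2 (col1 (col4 (col3 (col2 (col1 (col4 (col3 (col2 (col1 (col4 (col3 (col2 (col1 (col4 (col3 (col2 (col1 (col3 (col2 (col2 (col3 (col1 (col2 (col3 (col4 (col1 (col2 (col3 (col4 (col1 (col2 (col3 (col4 (col1 (col2 (col3 (col4 (col1 (col2 (col3 (col4 (col1 (col2 (col3 (col4 (col1 (col2 (col3 (col4 (col5 (col2 (col2 (col3 (col1 (col2 (col3 (col4 (col1 (col2 (col3 (col4 (col1 (col2 (col3 (col4 (col1 (col2 (col3 (col4 (col1 (col2 (col3 (col4 (col1 (col2 (col3 (col4 (col1 (col2 (col3 (col4 (col5 (col2 (col3 (col1 (col2 (col3 (col4 (col1 (col2 (col3 (col4 (col1 (col2 (col3 (col4 (col1 (col2 (col3 (col4 (col1 (col2 (col3 (col4 (col1 (col2 (col3 (col4 (col1 (col2 (col3 (col4 (col5 (col2 (col3 (col1 (col2 (col3 (col4 (col1 (col2 (col3 (col4 (col1 (col2 (col3 (col4 (col1 (col2 (col3 (col4 (col1 (col2 (col3 (col4 (col1 (col2 (col3 (col4 (col1 (col2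 (col3 (col4 (col5 (col2 (col3 (col1 (col2 (col3 (col4 (col1 (col2 (col3 (col4 (col1 (col2 (col3 (col4 (col1 (col2 (col3 (col4 (col1 (col2 (col3 (col4 (col1 (col2 (col3 (col4 (col1 (col2 (col3 (col4 (col5 (col2 (col2 (col3 (col1 (col2 (col3 (col4 (col1 (col2 (col3 (col4 (col1 (col2 (col3 (col4 (col1 (col2 (col3 (col4 (col1 (col2 (col3 (col4 (col1 (col2 (col3 (col4 (col1 (col2 (col3 (col4 (col5 (col4 (col5 (col4 (col3 (col2 (col1 (col4 (col3 (col2 (col1 (col4 (col3 (col2 (col1 (col4 (col3 (col2 (col1 (col4 (col3 (col2 (col1 (col4 (col3 (col2 (col1 (col4 (col3 (col2 (col1 (col3 (col2 (col4 (col5 (col4 (col3 (col2 (col1 (col4 (col3 (col2 (col1 (col4 (col3 (col2 (col1 (col4 (col3 (col2 (col1 (col4 (col3 (col2 (col1 (col4 (col3 (col2 (col1 (col4 (col3 (col2 (col1 (col3 (col2 (col5 (col4 (col3 (col2 (col1 (col4 (col3 (col2 (col1 (col4 (col3 (col2 (col1 (col4 (col3 (col2 (col1 (col4 (col3 (col2 (col1 (col4 (col3 (col2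 (col1 (col4 (col3 (col2 (col1 (col3 (col2 (col5 (col4 (col3 (col2 (col1 (col4 (col3 (col2 (col1 (col4 (col3 (col2 (col1 (col4 (col3 (col2 (col1 (col4 (col3 (col2 (col1 (col4 (col3 (col2 (col1 (col4 (col3 (col2 (col1 (col3 (col2 (col2 (col3 (col1 (col2 (col3 (col4 (col1 (col2 (col3 (col4 (col1 (col2 (col3 (col4 (col1 (col2 (col3 (col4 (col1 (col2 (col3 (col4 (col1 (col2 (col3 (col4 (col1 (col2 (col3 (col4 (col5 (col2 (col2 (col3 (col1 (col2 (col3 (col4 (col1 (col2 (col3 (col4 (col1 (col2 (col3 (col4 (col1 (col2 (col3 (col4 (col1 (col2 (col3 (col4 (col1 (col2 (col3 (col4 (col1 (col2 (col3 (col4 (col5 (col2 (col3 (col1 (col2 (col3 (col4 (col1 (col2 (col3 (col4 (col1 (col2 (col3 (col4 (col1 (col2 (col3 (col4 (col1 (col2 (col3 (col4 (col1 (col2 (col3 (col4 (col1 (col2 (col3 (col4 (col5 (col2 (col3 (col1 (col2 (col3 (col4 (col1 (col2 (col3 (col4 (col1 (col2 (col3 (col4 (col1 (col2 (col3 (col4 (col1 (col2 (col3 (col4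 (col1 (col2 (col3 (col4 (col1 (col2 (col3 (col4 (col5 (col2 (col3 (col1 (col2 (col3 (col4 (col1 (col2 (col3 (col4 (col1 (col2 (col3 (col4 (col1 (col2 (col3 (col4 (col1 (col2 (col3 (col4 (col1 (col2 (col3 (col4 (col1 (col2 (col3 (col4 (col5 (col2 (col2 (col3 (col1 (col2 (col3 (col4 (col1 (col2 (col3 (col4 (col1 (col2 (col3 (col4 (col1 (col2 (col3 (col4 (col1 (col2 (col3 (col4 (col1 (col2 (col3 (col4 (col1 (col2 (col3 (col4 (col5 (col4 (col5 (col4 (col3 (col2 (col1 (col4 (col3 (col2 (col1 (col4 (col3 (col2 (col1 (col4 (col3 (col2 (col1 (col4 (col3 (col2 (col1 (col4 (col3 (col2 (col1 (col4 (col3 (col2 (col1 (col3 (col2 (col4 (col5 (col4 (col3 (col2 (col1 (col4 (col3 (col2 (col1 (col4 (col3 (col2 (col1 (col4 (col3 (col2 (col1 (col4 (col3 (col2 (col1 (col4 (col3 (col2 (col1 (col4 (col3 (col2 (col1 (col3 (col2 (col5 (col4 (col3 (col2 (col1 (col4 (col3 (col2 (col1 (col4 (col3 (col2 (col1 (col4 (col3 (col2 (col1 (col4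 (col3 (col2 (col1 (col4 (col3 (col2 (col1 (col4 (col3 (col2 (col1 (col3 (col2 (col5 (col4 (col3 (col2 (col1 (col4 (col3 (col2 (col1 (col4 (col3 (col2 (col1 (col4 (col3 (col2 (col1 (col4 (col3 (col2 (col1 (col4 (col3 (col2 (col1 (col4 (col3 (col2 (col1 (col3 (col2 (col2 (col3 (col1 (col2 (col3 (col4 (col1 (col2 (col3 (col4 (col1 (col2 (col3 (col4 (col1 (col2 (col3 (col4 (col1 (col2 (col3 (col4 (col1 (col2 (col3 (col4 (col1 (col2 (col3 (col4 (col5 (col2 (col2 (col3 (col1 (col2 (col3 (col4 (col1 (col2 (col3 (col4 (col1 (col2 (col3 (col4 (col1 (col2 (col3 (col4 (col1 (col2 (col3 (col4 (col1 (col2 (col3 (col4 (col1 (col2 (col3 (col4 (col5 (col2 (col3 (col1 (col2 (col3 (col4 (col1 (col2 (col3 (col4 (col1 (col2 (col3 (col4 (col1 (col2 (col3 (col4 (col1 (col2 (col3 (col4 (col1 (col2 (col3 (col4 (col1 (col2 (col3 (col4 (col5 (col2 (col3 (col1 (col2 (col3 (col4 (col1 (col2 (col3 (col4 (col1 (col2 (col3 (col4 (col1 (col2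 (col3 (col4 (col1 (col2 (col3 (col4 (col1 (col2 (col3 (col4 (col1 (col2 (col3 (col4 (col5 (col2 (col3 (col1 (col2 (col3 (col4 (col1 (col2 (col3 (col4 (col1 (col2 (col3 (col4 (col1 (col2 (col3 (col4 (col1 (col2 (col3 (col4 (col1 (col2 (col3 (col4 (col1 (col2 (col3 (col4 (col5 (col2 (col2 (col3 (col1 (col2 (col3 (col4 (col1 (col2 (col3 (col4 (col1 (col2 (col3 (col4 (col1 (col2 (col3 (col4 (col1 (col2 (col3 (col4 (col1 (col2 (col3 (col4 (col1 (col2 (col3 (col4 (col5 (col4 (col5 (col4 (col3 (col2 (col1 (col4 (col3 (col2 (col1 (col4 (col3 (col2 (col1 (col4 (col3 (col2 (col1 (col4 (col3 (col2 (col1 (col4 (col3 (col2 (col1 (col4 (col3 (col2 (col1 (col3 (col2 (col4 (col5 (col4 (col3 (col2 (col1 (col4 (col3 (col2 (col1 (col4 (col3 (col2 (col1 (col4 (col3 (col2 (col1 (col4 (col3 (col2 (col1 (col4 (col3 (col2 (col1 (col4 (col3 (col2 (col1 (col3 (col2 (col5 (col4 (col3 (col2 (col1 (col4 (col3 (col2 (col1 (col4 (col3 (col2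 (col1 (col4 (col3 (col2 (col1 (col4 (col3 (col2 (col1 (col4 (col3 (col2 (col1 (col4 (col3 (col2 (col1 (col3 (col2 (col5 (col4 (col3 (col2 (col1 (col4 (col3 (col2 (col1 (col4 (col3 (col2 (col1 (col4 (col3 (col2 (col1 (col4 (col3 (col2 (col1 (col4 (col3 (col2 (col1 (col4 (col3 (col2 (col1 (col3 (col2 (i))))))))))))))))))))))))))))))))))))))))))))))))))))))))))))))))))))))))))))))))))))))))))))))))))))))))))))))))))))))))))))))))))))))))))))))))))))))))))))))))))))))))))))))))))))))))))))))))))))))))))))))))))))))))))))))))))))))))))))))))))))))))))))))))))))))))))))))))))))))))))))))))))))))))))))))))))))))))))))))))))))))))))))))))))))))))))))))))))))))))))))))))))))))))))))))))))))))))))))))))))))))))))))))))))))))))))))))))))))))))))))))))))))))))))))))))))))))))))))))))))))))))))))))))))))))))))))))))))))))))))))))))))))))))))))))))))))))))))))))))))))))))))))))))))))))))))))))))))))))))))))))))))))))))))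))))))))))))))))))))))))))))))))))))))))))))))))))))))))))))))))))))))))))))))))))))))))))))))))))))))))))))))))))))))))))))))))))))))))))))))))))))))))))))))))))))))))))))))))))))))))))))))))))))))))))))))))))))))))))))))))))))))))))))))))))))))))))))))))))))))))))))))))))))))))))))))))))))))))))))))))))))))))))))))))))))))))))))))))))))))))))))))))))))))))))))))))))))))))))))))))))))))))))))))))))))))))))))))))))))))))))))))))))))))))))))))))))))))))))))))))))))))))))))))))))))))))))))))))))))))))))))))))))))))))))))))))))))))))))))))))))))))))))))))))))))))))))))))))))))))))))))))))))))))))))))))))))))))))))))))))))))))))))))))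
theorem act102_eq (i : Nat) : act102 i = Tab.act T D chk102 i := rfl
theorem c102_0 : allRange (fun i => Nat.beq (act102 i) i) 0 47 = true := by decide +kernel
theorem c102_1 : allRange (fun i => Nat.beq (act102 i) i) 47 47 = true := by decide +kernel
theorem c102_2 : allRange (fun i => Nat.beq (act102 i) i) 94 47 = true := by decide +kernel
theorem c102_3 : allRange (fun i => Nat.beq (act102 i) i) 141 47 = true := by decide +kernel
theorem c102_4 : allRange (fun i => Nat.beq (act102 i) i) 188 47 = true := by decide +kernel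
theorem c102_5 : allRange (fun i => Nat.beq (act102 i) i) 235 47 = true := by decide +kernel
theorem c102_6 : allRange (fun i => Nat.beq (act102 i) i) 282 47 = true := by decide +kernel
theorem c102_7 : allRange (fun i => Nat.beq (act102 i) i) 329 47 = true := by decide +kernel
theorem c102_8 : allRange (fun i => Nat.beq (act102 i) i) 376 47 = true := by decide +kernel
theorem c102_9 : allRange (fun i => Nat.beq (act102 i) i) 423 47 = true := by decide +kernel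
theorem c102_10 : allRange (fun i => Nat.beq (act102 i) i) 470 47 = true := by decide +kernel
theorem c102_11 : allRange (fun i => Nat.beq (act102 i) i) 517 47 = true := by decide +kernel
theorem c102_12 : allRange (fun i => Nat.beq (act102 i) i) 564 47 = true := by decide +kernel
theorem c102_13 : allRange (fun i => Nat.beq (act102 i) i) 611 47 = true := by decide +kernel
theorem c102_14 : allRange (fun i => Nat.beq (act102 i) i) 658 47 = true := by decide +kernel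
theorem c102_15 : allRange (fun i => Nat.beq (act102 i) i) 705 47 = true := by decide +kernel
theorem c102_16 : allRange (fun i => Nat.beq (act102 i) i) 752 47 = true := by decide +kernel
theorem c102_17 : allRange (fun i => Nat.beq (act102 i) i) 799 47 = true := by decide +kernel
theorem c102_18 : allRange (fun i => Nat.beq (act102 i) i) 846 47 = true := by decide +kernel
theorem c102_19 : allRange (fun i => Nat.beq (act102 i) i) 893 47 = true := by decide +kernel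
theorem c102_20 : allRange (fun i => Nat.beq (act102 i) i) 940 47 = true := by decide +kernel
theorem c102_21 : allRange (fun i => Nat.beq (act102 i) i) 987 47 = true := by decide +kernel
theorem c102_22 : allRange (fun i => Nat.beq (act102 i) i) 1034 47 = true := by decide +kernel
theorem c102_23 : allRange (fun i => Nat.beq (act102 i) i) 1081 47 = true := by decide +kernel
theorem c102_24 : allRange (fun i => Nat.beq (act102 i) i) 1128 47 = true := by decide +kernel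
theorem c102_25 : allRange (fun i => Nat.beq (act102 i) i) 1175 47 = true := by decide +kernel
theorem c102_26 : allRange (fun i => Nat.beq (act102 i) i) 1222 47 = true := by decide +kernel
theorem c102_27 : allRange (fun i => Nat.beq (act102 i) i) 1269 47 = true := by decide +kernel
theorem c102_28 : allRange (fun i => Nat.beq (act102 i) i) 1316 47 = true := by decide +kernel
theorem c102_29 : allRange (fun i => Nat.beq (act102 i) i) 1363 47 = true := by decide +kernel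
theorem c102_30 : allRange (fun i => Nat.beq (act102 i) i) 1410 47 = true := by decide +kernel
theorem c102_31 : allRange (fun i => Nat.beq (act102 i) i) 1457 47 = true := by decide +kernel
theorem c102_32 : allRange (fun i => Nat.beq (act102 i) i) 1504 47 = true := by decide +kernel
theorem c102_33 : allRange (fun i => Nat.beq (act102 i) i) 1551 47 = true := by decide +kernel
theorem c102_34 : allRange (fun i => Nat.beq (act102 i) i) 1598 47 = true := by decide +kernel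
theorem c102_35 : allRange (fun i => Nat.beq (act102 i) i) 1645 47 = true := by decide +kernel
theorem c102_36 : allRange (fun i => Nat.beq (act102 i) i) 1692 47 = true := by decide +kernel
theorem c102_37 : allRange (fun i => Nat.beq (act102 i) i) 1739 47 = true := by decide +kernel
theorem c102_38 : allRange (fun i => Nat.beq (act102 i) i) 1786 47 = true := by decide +kernel
theorem c102_39 : allRange (fun i => Nat.beq (act102 i) i) 1833 47 = true := by decide +kernel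
theorem c102_40 : allRange (fun i => Nat.beq (act102 i) i) 1880 47 = true := by decide +kernel
theorem c102_41 : allRange (fun i => Nat.beq (act102 i) i) 1927 47 = true := by decide +kernel
theorem c102_42 : allRange (fun i => Nat.beq (act102 i) i) 1974 47 = true := by decide +kernel
theorem c102_43 : allRange (fun i => Nat.beq (act102 i) i) 2021 37 = true := by decide +kernel
theorem h102 : ∀ i, i < T.N → Tab.relActOK T D chk102 i = true := by
  intro i hi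
  rw [Tab.relActOK, ← act102_eq]
  exact (range_glue (range_of_allRange c102_0) (range_glue (range_of_allRange c102_1) (range_glue (range_of_allRange c102_2) (range_glue (range_of_allRange c102_3) (range_glue (range_of_allRange c102_4) (range_glue (range_of_allRange c102_5) (range_glue (range_of_allRange c102_6) (range_glue (range_of_allRange c102_7) (range_glue (range_of_allRange c102_8) (range_glue (range_of_allRange c102_9) (range_glue (range_of_allRange c102_10) (range_glue (range_of_allRange c102_11) (range_glue (range_of_allRange c102_12) (range_glue (range_of_allRange c102_13) (range_glue (range_of_allRange c102_14) (range_glue (range_of_allRange c102_15) (range_glue (range_of_allRange c102_16) (range_glue (range_of_allRange c102_17) (range_glue (range_of_allRange c102_18) (range_glue (range_of_allRange c102_19) (range_glue (range_of_allRange c102_20) (range_glue (range_of_allRange c102_21) (range_glue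 (range_of_allRange c102_22) (range_glue (range_of_allRange c102_23) (range_glue (range_of_allRange c102_24) (range_glue (range_of_allRange c102_25) (range_glue (range_of_allRange c102_26) (range_glue (range_of_allRange c102_27) (range_glue (range_of_allRange c102_28) (range_glue (range_of_allRange c102_29) (range_glue (range_of_allRange c102_30) (range_glue (range_of_allRange c102_31) (range_glue (range_of_allRange c102_32) (range_glue (range_of_allRange c102_33) (range_glue (range_of_allRange c102_34) (range_glue (range_of_allRange c102_35) (range_glue (range_of_allRange c102_36) (range_glue (range_of_allRange c102_37) (range_glue (range_of_allRange c102_38) (range_glue (range_of_allRange c102_39) (range_glue (range_of_allRange c102_40) (range_glue (range_of_allRange c102_41) (range_glue (range_of_allRange c102_42) (range_of_allRange c102_43)))))))))))))))))))))))))))))))))))))))))))) i (Nat.zero_le _) hi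

def chkAll : List (List Nat) := [chk0, chk1, chk2, chk3, chk4, chk5, chk6, chk7, chk8, chk9, chk10, chk11, chk12, chk13, chk14, chk15, chk16, chk17, chk18, chk19, chk20, chk21, chk22, chk23, chk24, chk25, chk26, chk27, chk28, chk29, chk30, chk31, chk32, chk33, chk34, chk35, chk36, chk37, chk38, chk39, chk40, chk41, chk42, chk43, chk44, chk45, chk46, chk47, chk48, chk49, chk50, chk51, chk52, chk53, chk54, chk55, chk56, chk57, chk58, chk59, chk60, chk61, chk62, chk63, chk64, chk65, chk66, chk67, chk68, chk69, chk70, chk71, chk72, chk73, chk74, chk75, chk76, chk77, chk78, chk79, chk80, chk81, chk82, chk83, chk84, chk85, chk86, chk87, chk88, chk89, chk90, chk91, chk92, chk93, chk94, chk95, chk96, chk97, chk98, chk99, chk100, chk101, chk102]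
theorem hAll : ∀ w ∈ chkAll, ∀ i, i < T.N → Tab.relActOK T D w i = true := by
  intro w hw
  simp only [chkAll, List.mem_cons, List.not_mem_nil, or_false] at hw
  rcases hw with rfl | rfl | rfl | rfl | rfl | rfl | rfl | rfl | rfl | rfl | rfl | rfl | rfl | rfl | rfl | rfl | rfl | rfl | rfl | rfl | rfl | rfl | rfl | rfl | rfl | rfl | rfl | rfl | rfl | rfl | rfl | rfl | rfl | rfl | rfl | rfl | rfl | rfl | rfl | rfl | rfl | rfl | rfl | rfl | rfl | rfl | rfl | rfl | rfl | rfl | rfl | rfl | rfl | rfl | rfl | rfl | rfl | rfl | rfl | rfl | rfl | rfl | rfl | rfl | rfl | rfl | rfl | rfl | rfl | rfl | rfl | rfl | rfl | rfl | rfl | rfl | rfl | rfl | rfl | rfl | rfl | rfl | rfl | rfl | rfl | rfl | rfl | rfl | rfl | rfl | rfl | rfl | rfl | rfl | rfl | rfl | rfl | rfl | rfl | rfl | rfl | rfl | rfl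
  · exact h0
  · exact h1
  · exact h2
  · exact h3
  · exact h4
  · exact h5
  · exact h6
  · exact h7
  · exact h8
  · exact h9
  · exact h10
  · exact h11
  · exact h12
  · exact h13
  · exact h14
  · exact h15
  · exact h16
  · exact h17
  · exact h18
  · exact h19
  · exact h20
  · exact h21
  · exact h22
  · exact h23
  · exact h24
  · exact h25
  · exact h26
  · exact h27
  · exact h28
  · exact h29
  · exact h30
  · exact h31
  · exact h32
  · exact h33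
  · exact h34
  · exact h35
  · exact h36
  · exact h37
  · exact h38
  · exact h39
  · exact h40
  · exact h41
  · exact h42
  · exact h43
  · exact h44
  · exact h45
  · exact h46
  · exact h47
  · exact h48
  · exact h49
  · exact h50
  · exact h51
  · exact h52
  · exact h53
  · exact h54
  · exact h55
  · exact h56
  · exact h57
  · exact h58
  · exact h59
  · exact h60
  · exact h61
  · exact h62
  · exact h63
  · exact h64
  · exact h65
  · exact h66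
  · exact h67
  · exact h68
  · exact h69
  · exact h70
  · exact h71
  · exact h72
  · exact h73
  · exact h74
  · exact h75
  · exact h76
  · exact h77
  · exact h78
  · exact h79
  · exact h80
  · exact h81
  · exact h82
  · exact h83
  · exact h84
  · exact h85
  · exact h86
  · exact h87
  · exact h88
  · exact h89
  · exact h90
  · exact h91
  · exact h92
  · exact h93
  · exact h94
  · exact h95
  · exact h96
  · exact h97
  · exact h98
  · exact h99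
  · exact h100
  · exact h101
  · exact h102
theorem hAll_lt : ∀ w ∈ chkAll, ∀ x ∈ w, x < 7 := by decide +kernel

end Cfsg.Agent.Lib.Helper4.TCD.SHep3W
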