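import Cfsg.Agent.Lib.Helper4.TCD_SHep5A_Acc

namespace Cfsg.Agent.Lib.Helper4.TCD.SHep5A

open Cfsg.Agent.Lib.Helper4.TC

set_option maxRecDepth 100000
set_option Elab.async false

theorem c_rel_54 : allRange D.relOK 458978 3831 = true := by decide +kernel
theorem c_rel_55 : allRange D.relOK 462809 3916 = true := by decide +kernel
theorem c_rel_56 : allRange D.relOK 466725 3554 = true := by decide +kernel
theorem c_rel_57 : allRange D.relOK 470279 3453 = true := by decide +kernel
theorem c_rel_58 : allRange D.relOK 473732 3190 = true := by decide +kernel
theorem c_rel_59 : allRange D.relOK 476922 3326 = true := by decide +kernel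
theorem c_rel_60 : allRange D.relOK 480248 3535 = true := by decide +kernel
theorem c_rel_61 : allRange D.relOK 483783 3316 = true := by decide +kernel
theorem c_rel_62 : allRange D.relOK 487099 3094 = true := by decide +kernel
theorem c_rel_63 : allRange D.relOK 490193 3070 = true := by decide +kernel
theorem c_rel_64 : allRange D.relOK 493263 3391 = true := by decide +kernel
theorem c_rel_65 : allRange D.relOK 496654 2903 = true := by decide +kernel
theorem c_rel_66 : allRange D.relOK 499557 2538 = true := by decide +kernel
theorem c_rel_67 : allRange D.relOK 502095 2263 = true := by decide +kernel
theorem c_rel_68 : allRange D.relOK 504358 2604 = true := by decide +kernel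
theorem c_rel_69 : allRange D.relOK 506962 2787 = true := by decide +kernel
theorem c_rel_70 : allRange D.relOK 509749 2703 = true := by decide +kernel
theorem c_rel_71 : allRange D.relOK 512452 3061 = true := by decide +kernel
theorem c_rel_72 : allRange D.relOK 515513 3343 = true := by decide +kernel
theorem c_rel_73 : allRange D.relOK 518856 2997 = true := by decide +kernel
theorem c_rel_74 : allRange D.relOK 521853 3343 = true := by decide +kernel
theorem c_rel_75 : allRange D.relOK 525196 3166 = true := by decide +kernel
theorem c_rel_76 : allRange D.relOK 528362 3062 = true := by decide +kernel
theorem c_rel_77 : allRange D.relOK 531424 2552 = true := by decide +kernel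
theorem c_rel_78 : allRange D.relOK 533976 3147 = true := by decide +kernel
theorem c_rel_79 : allRange D.relOK 537123 2683 = true := by decide +kernel
theorem c_rel_80 : allRange D.relOK 539806 2836 = true := by decide +kernel
theorem c_rel_81 : allRange D.relOK 542642 3142 = true := by decide +kernel
theorem c_rel_82 : allRange D.relOK 545784 2894 = true := by decide +kernel
theorem c_rel_83 : allRange D.relOK 548678 3096 = true := by decide +kernel
theorem c_rel_84 : allRange D.relOK 551774 3309 = true := by decide +kernel
theorem c_rel_85 : allRange D.relOK 555083 3358 = true := by decide +kernel
theorem c_rel_86 : allRange D.relOK 558441 3332 = true := by decide +kernel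
theorem c_rel_87 : allRange D.relOK 561773 2607 = true := by decide +kernel
theorem c_rel_88 : allRange D.relOK 564380 3074 = true := by decide +kernel
theorem c_rel_89 : allRange D.relOK 567454 2435 = true := by decide +kernel
theorem c_rel_90 : allRange D.relOK 569889 2190 = true := by decide +kernel
theorem c_rel_91 : allRange D.relOK 572079 3188 = true := by decide +kernel
theorem c_rel_92 : allRange D.relOK 575267 3204 = true := by decide +kernel
theorem c_rel_93 : allRange D.relOK 578471 2609 = true := by decide +kernel
theorem c_rel_94 : allRange D.relOK 581080 2928 = true := by decide +kernel
theorem c_rel_95 : allRange D.relOK 584008 3137 = true := by decide +kernel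
theorem c_rel_96 : allRange D.relOK 587145 3122 = true := by decide +kernel
theorem c_rel_97 : allRange D.relOK 590267 3304 = true := by decide +kernel
theorem c_rel_98 : allRange D.relOK 593571 3159 = true := by decide +kernel
theorem c_rel_99 : allRange D.relOK 596730 2657 = true := by decide +kernel
theorem c_rel_100 : allRange D.relOK 599387 2965 = true := by decide +kernel
theorem c_rel_101 : allRange D.relOK 602352 3304 = true := by decide +kernel
theorem c_rel_102 : allRange D.relOK 605656 2955 = true := by decide +kernel
theorem c_rel_103 : allRange D.relOK 608611 2108 = true := by decide +kernel
theorem c_rel_104 : allRange D.relOK 610719 2187 = true := by decide +kernel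
theorem c_rel_105 : allRange D.relOK 612906 3078 = true := by decide +kernel
theorem c_rel_106 : allRange D.relOK 615984 3087 = true := by decide +kernel
theorem c_rel_107 : allRange D.relOK 619071 2977 = true := by decide +kernel
theorem c_rel_108 : allRange D.relOK 622048 3027 = true := by decide +kernel
theorem c_rel_109 : allRange D.relOK 625075 3093 = true := by decide +kernel
theorem c_rel_110 : allRange D.relOK 628168 3058 = true := by decide +kernel
theorem c_rel_111 : allRange D.relOK 631226 3086 = true := by decide +kernel
theorem c_rel_112 : allRange D.relOK 634312 3110 = true := by decide +kernel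
theorem c_rel_113 : allRange D.relOK 637422 3026 = true := by decide +kernel
theorem c_rel_114 : allRange D.relOK 640448 2997 = true := by decide +kernel
theorem c_rel_115 : allRange D.relOK 643445 3034 = true := by decide +kernel
theorem c_rel_116 : allRange D.relOK 646479 3070 = true := by decide +kernel
theorem c_rel_117 : allRange D.relOK 649549 3064 = true := by decide +kernel
theorem c_rel_118 : allRange D.relOK 652613 2988 = true := by decide +kernel
theorem c_rel_119 : allRange D.relOK 655601 2979 = true := by decide +kernel
theorem c_rel_120 : allRange D.relOK 658580 3006 = true := by decide +kernel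
theorem c_rel_121 : allRange D.relOK 661586 2991 = true := by decide +kernel
theorem c_rel_122 : allRange D.relOK 664577 3002 = true := by decide +kernel
theorem c_rel_123 : allRange D.relOK 667579 2993 = true := by decide +kernel
theorem c_rel_124 : allRange D.relOK 670572 2889 = true := by decide +kernel
theorem c_rel_125 : allRange D.relOK 673461 2927 = true := by decide +kernel
theorem c_rel_126 : allRange D.relOK 676388 2879 = true := by decide +kernel
theorem c_rel_127 : allRange D.relOK 679267 2799 = true := by decide +kernel
theorem c_rel_128 : allRange D.relOK 682066 2777 = true := by decide +kernel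
theorem c_rel_129 : allRange D.relOK 684843 2744 = true := by decide +kernel
theorem c_rel_130 : allRange D.relOK 687587 2746 = true := by decide +kernel
theorem c_rel_131 : allRange D.relOK 690333 2667 = true := by decide +kernel
theorem c_rel_132 : allRange D.relOK 693000 2573 = true := by decide +kernel
theorem c_rel_133 : allRange D.relOK 695573 2598 = true := by decide +kernel
theorem c_rel_134 : allRange D.relOK 698171 2579 = true := by decide +kernel
theorem c_rel_135 : allRange D.relOK 700750 2619 = true := by decide +kernel
theorem c_rel_136 : allRange D.relOK 703369 2514 = true := by decide +kernel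
theorem c_rel_137 : allRange D.relOK 705883 2580 = true := by decide +kernel
theorem c_rel_138 : allRange D.relOK 708463 2563 = true := by decide +kernel
theorem c_rel_139 : allRange D.relOK 711026 2579 = true := by decide +kernel
theorem c_rel_140 : allRange D.relOK 713605 2518 = true := by decide +kernel
theorem c_rel_141 : allRange D.relOK 716123 2543 = true := by decide +kernel
theorem c_rel_142 : allRange D.relOK 718666 2526 = true := by decide +kernel
theorem c_rel_143 : allRange D.relOK 721192 2591 = true := by decide +kernel
theorem c_rel_144 : allRange D.relOK 723783 2571 = true := by decide +kernel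
theorem c_rel_145 : allRange D.relOK 726354 2571 = true := by decide +kernel
theorem c_rel_146 : allRange D.relOK 728925 2579 = true := by decide +kernel
theorem c_rel_147 : allRange D.relOK 731504 2572 = true := by decide +kernel
theorem c_rel_148 : allRange D.relOK 734076 2557 = true := by decide +kernel
theorem c_rel_149 : allRange D.relOK 736633 2598 = true := by decide +kernel
theorem c_rel_150 : allRange D.relOK 739231 2655 = true := by decide +kernel
theorem c_rel_151 : allRange D.relOK 741886 2615 = true := by decide +kernel
theorem c_rel_152 : allRange D.relOK 744501 2626 = true := by decide +kernel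

end Cfsg.Agent.Lib.Helper4.TCD.SHep5A
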