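import Mathlib
import Cfsg.Agent.Lib.Helper4.HeMain
import Cfsg.Agent.Lib.Helper4.TCD_SHep5A_Fin
import Cfsg.Agent.Lib.Helper4.TCD_SHep5W
import Cfsg.Agent.Lib.Helper4.StemLib8
import Cfsg.Agent.Lib.Helper4.HeSub

/-! `He` has no stem extension with kernel of order 5 (generated). -/

namespace Cfsg.Agent.Lib.Helper4.SHep5Main

open Cfsg.Agent.Lib.Helper4.TC Cfsg.Agent.Lib.Helper4.TCD Cfsg.Agent.Lib.Helper4.TC.Log Cfsg.Agent.Lib.Helper4.Stem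

/-- the description of the auxiliary presentation -/
def spec : Spec4 :=
  { p := 5
    items := [(0, [], 17),
      (2, [], 2),
      (4, [], 2),
      (6, [], 2),
      (8, [], 2),
      (10, [], 2),
      (12, [], 2),
      (14, [], 2),
      (16, [2, 5, 13, 7, 5, 13, 7, 5, 13, 7], 0),
      (18, [4, 8, 10, 14, 4, 8, 10, 14, 4, 8, 10, 14, 4, 8, 10, 14], 0),
      (20, [12, 4, 8, 2, 12, 4, 8, 2, 12, 4, 8, 2, 12, 4, 8, 2, 12, 4, 8, 2, 12, 4, 8, 2, 12, 4, 8, 2, 11, 1, 5, 9], 0)]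
    cen := [16, 18, 20]
    R := []
    sub := [0, 2, 4, 6, 8, 10]
    PR := [[0, 0, 0, 0, 0, 0, 0, 0, 0, 0, 0, 0, 0, 0, 0, 0, 0], [2, 2], [0, 0, 0, 2, 1, 2, 0, 2, 0, 0, 0, 2, 1, 2, 0, 2], [0, 0, 0, 0, 0, 2, 0, 0, 0, 0, 0, 2, 0, 0, 0, 0, 0, 2], [4, 4], [2, 4, 2, 4], [0, 4, 0, 4, 0, 4, 0, 4, 0, 4], [0, 2, 1, 2, 4, 1, 2, 0, 4, 0, 4, 2, 0, 4, 2, 0, 4], [0, 0, 2, 0, 4, 0, 4, 1, 1, 2, 1, 4, 0, 4, 0, 2, 0, 2], [7, 0, 0, 0, 4, 1, 4, 0, 4, 1, 1, 1], [9, 0, 2, 4, 1, 4, 0, 2, 1, 4, 0, 4, 1, 2, 4], [11, 0, 2, 1, 2, 0, 2, 4], [4, 8, 4, 8, 4, 8, 4, 8, 4, 8, 4, 8, 4, 8, 4, 8, 4, 8, 4, 8], [8, 2, 8, 2, 8, 2], [8, 10, 8, 10, 8, 10], [6, 4, 7, 5], [6, 8, 7, 9], [6, 2, 7, 3], [6, 10, 7, 11], [4, 2, 5, 3], [4, 10, 5, 11], [2, 10, 3, 11], [6, 9, 5, 9, 5, 9, 5, 9, 5, 9, 5]]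
    XR := [([12, 6, 12, 6], [12], [12], 2),
      ([12, 4], [12], [4], 2),
      ([8], [12], [12], 2),
      ([2], [12], [12], 2),
      ([10], [12], [12], 2),
      ([14], [12], [12], 2),
      ([14, 10, 14, 10], [14], [14], 2),
      ([14, 8], [14], [8], 2),
      ([6], [14], [14], 2),
      ([4], [14], [14], 2),
      ([2], [14], [14], 2),
      ([14], [10], [10, 2], 2),
      ([12], [2], [2], 2),
      ([12], [1, 2, 0], [1, 2, 0], 2),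
      ([12], [4, 0, 2, 4, 0], [4, 0, 2, 4, 0], 3),
      ([12], [0, 2, 4, 1, 2, 4, 0, 2, 4, 1], [0, 2, 4, 1, 2, 4, 0, 2, 4, 1], 2),
      ([14], [2], [2], 2),
      ([14], [4], [4], 2),
      ([14], [0, 2, 1, 2, 0, 2], [0, 2, 1, 2, 0], 2),
      ([14], [1, 1, 2, 1, 1, 1, 4], [1, 1, 2, 1, 1, 1], 3)] }

/-- the letters of the auxiliary presentation as words of the base group -/
def Wl (l : ℕ) : List ℕ :=
  [[2, 3, 1, 2, 3, 4, 1, 2, 3, 4, 1, 2, 3, 4, 1, 2, 3, 4, 1, 2, 3, 4, 1, 2, 3, 4, 1, 2, 3, 4, 5], [5, 4, 3, 2, 1, 4, 3, 2, 1, 4, 3, 2, 1, 4, 3, 2, 1, 4, 3, 2, 1, 4, 3, 2, 1, 4, 3, 2, 1, 3, 2], [4], [4], [2], [2], [0], [0], [3], [3], [5], [5], [1], [1], [6], [6], [], [], [], [], [], []].getD l []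

theorem checks_eq : checks spec.toSpec2 PHe.P.invR Wl ++ checksX spec PSHep5.P.invR Wl = SHep5W.chkAll := by decide +kernel

theorem sub_eq : Subgroup.closure (xw PHe.P Wl '' {l | l ∈ spec.sub}) = Inst.subG PHe.P HeB.subs := by
  rw [closure_xw_eq]
  rfl

set_option maxRecDepth 100000 in
theorem noStem : NoStemPrime PHe.P.Grp 5 := by
  obtain ⟨fG, hinj, hcard⟩ := HeMain.order_aux
  have hall : ∀ w ∈ checks spec.toSpec2 PHe.P.invR Wl ++ checksX spec PSHep5.P.invR Wl, wordP PHe.P.gR w = 1 := by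
    rw [checks_eq]
    intro w hw
    exact He1.inst.word_eq_one hinj w (SHep5W.hAll_lt w hw) (SHep5W.hAll w hw)
  exact noStemPrime_pres4 PHe.P PHe.valid PSHep5.P PSHep5.valid spec (by show Nat.Prime 5; norm_num) Wl
    (by decide +kernel) (by decide +kernel) (fun w hw => hall w (List.mem_append_left _ hw))
    (fun w hw => hall w (List.mem_append_right _ hw)) (by decide +kernel)
    (by rw [sub_eq]; exact HeSub.liftsP_sub 5 (by norm_num))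
    979200 (by rw [sub_eq]; exact HeSub.sub_card.2)
    4116 (by decide) SHep5A.index_eq fG 4030387200 hcard (by decide)

end Cfsg.Agent.Lib.Helper4.SHep5Main
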