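import Cfsg.Agent.Lib.Helper4.TCD_SHep7A_Acc

namespace Cfsg.Agent.Lib.Helper4.TCD.SHep7A

open Cfsg.Agent.Lib.Helper4.TC

set_option maxRecDepth 100000
set_option Elab.async false

theorem c_rel_56 : allRange D.relOK 459748 3550 = true := by decide +kernel
theorem c_rel_57 : allRange D.relOK 463298 3495 = true := by decide +kernel
theorem c_rel_58 : allRange D.relOK 466793 3667 = true := by decide +kernel
theorem c_rel_59 : allRange D.relOK 470460 3581 = true := by decide +kernel
theorem c_rel_60 : allRange D.relOK 474041 3211 = true := by decide +kernel
theorem c_rel_61 : allRange D.relOK 477252 3032 = true := by decide +kernel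
theorem c_rel_62 : allRange D.relOK 480284 3521 = true := by decide +kernel
theorem c_rel_63 : allRange D.relOK 483805 2903 = true := by decide +kernel
theorem c_rel_64 : allRange D.relOK 486708 2640 = true := by decide +kernel
theorem c_rel_65 : allRange D.relOK 489348 2659 = true := by decide +kernel
theorem c_rel_66 : allRange D.relOK 492007 3010 = true := by decide +kernel
theorem c_rel_67 : allRange D.relOK 495017 2940 = true := by decide +kernel
theorem c_rel_68 : allRange D.relOK 497957 3235 = true := by decide +kernel
theorem c_rel_69 : allRange D.relOK 501192 3450 = true := by decide +kernel
theorem c_rel_70 : allRange D.relOK 504642 3262 = true := by decide +kernel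
theorem c_rel_71 : allRange D.relOK 507904 3426 = true := by decide +kernel
theorem c_rel_72 : allRange D.relOK 511330 3471 = true := by decide +kernel
theorem c_rel_73 : allRange D.relOK 514801 3104 = true := by decide +kernel
theorem c_rel_74 : allRange D.relOK 517905 2657 = true := by decide +kernel
theorem c_rel_75 : allRange D.relOK 520562 3248 = true := by decide +kernel
theorem c_rel_76 : allRange D.relOK 523810 2658 = true := by decide +kernel
theorem c_rel_77 : allRange D.relOK 526468 3168 = true := by decide +kernel
theorem c_rel_78 : allRange D.relOK 529636 3091 = true := by decide +kernel
theorem c_rel_79 : allRange D.relOK 532727 3315 = true := by decide +kernel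
theorem c_rel_80 : allRange D.relOK 536042 3160 = true := by decide +kernel
theorem c_rel_81 : allRange D.relOK 539202 3463 = true := by decide +kernel
theorem c_rel_82 : allRange D.relOK 542665 3446 = true := by decide +kernel
theorem c_rel_83 : allRange D.relOK 546111 2776 = true := by decide +kernel
theorem c_rel_84 : allRange D.relOK 548887 3094 = true := by decide +kernel
theorem c_rel_85 : allRange D.relOK 551981 2541 = true := by decide +kernel
theorem c_rel_86 : allRange D.relOK 554522 2250 = true := by decide +kernel
theorem c_rel_87 : allRange D.relOK 556772 3317 = true := by decide +kernel
theorem c_rel_88 : allRange D.relOK 560089 3294 = true := by decide +kernel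
theorem c_rel_89 : allRange D.relOK 563383 2529 = true := by decide +kernel
theorem c_rel_90 : allRange D.relOK 565912 3259 = true := by decide +kernel
theorem c_rel_91 : allRange D.relOK 569171 3313 = true := by decide +kernel
theorem c_rel_92 : allRange D.relOK 572484 3342 = true := by decide +kernel
theorem c_rel_93 : allRange D.relOK 575826 3269 = true := by decide +kernel
theorem c_rel_94 : allRange D.relOK 579095 2960 = true := by decide +kernel
theorem c_rel_95 : allRange D.relOK 582055 3036 = true := by decide +kernel
theorem c_rel_96 : allRange D.relOK 585091 3339 = true := by decide +kernel
theorem c_rel_97 : allRange D.relOK 588430 3099 = true := by decide +kernel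
theorem c_rel_98 : allRange D.relOK 591529 2210 = true := by decide +kernel
theorem c_rel_99 : allRange D.relOK 593739 2361 = true := by decide +kernel
theorem c_rel_100 : allRange D.relOK 596100 3156 = true := by decide +kernel
theorem c_rel_101 : allRange D.relOK 599256 3101 = true := by decide +kernel
theorem c_rel_102 : allRange D.relOK 602357 3017 = true := by decide +kernel
theorem c_rel_103 : allRange D.relOK 605374 3059 = true := by decide +kernel
theorem c_rel_104 : allRange D.relOK 608433 3084 = true := by decide +kernel
theorem c_rel_105 : allRange D.relOK 611517 3086 = true := by decide +kernel
theorem c_rel_106 : allRange D.relOK 614603 3120 = true := by decide +kernel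
theorem c_rel_107 : allRange D.relOK 617723 3106 = true := by decide +kernel
theorem c_rel_108 : allRange D.relOK 620829 3044 = true := by decide +kernel
theorem c_rel_109 : allRange D.relOK 623873 3042 = true := by decide +kernel
theorem c_rel_110 : allRange D.relOK 626915 3088 = true := by decide +kernel
theorem c_rel_111 : allRange D.relOK 630003 3124 = true := by decide +kernel
theorem c_rel_112 : allRange D.relOK 633127 3054 = true := by decide +kernel
theorem c_rel_113 : allRange D.relOK 636181 2970 = true := by decide +kernel
theorem c_rel_114 : allRange D.relOK 639151 3049 = true := by decide +kernel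
theorem c_rel_115 : allRange D.relOK 642200 3025 = true := by decide +kernel
theorem c_rel_116 : allRange D.relOK 645225 3065 = true := by decide +kernel
theorem c_rel_117 : allRange D.relOK 648290 2960 = true := by decide +kernel
theorem c_rel_118 : allRange D.relOK 651250 2949 = true := by decide +kernel
theorem c_rel_119 : allRange D.relOK 654199 2954 = true := by decide +kernel
theorem c_rel_120 : allRange D.relOK 657153 2968 = true := by decide +kernel
theorem c_rel_121 : allRange D.relOK 660121 2876 = true := by decide +kernel
theorem c_rel_122 : allRange D.relOK 662997 2943 = true := by decide +kernel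
theorem c_rel_123 : allRange D.relOK 665940 2790 = true := by decide +kernel
theorem c_rel_124 : allRange D.relOK 668730 2752 = true := by decide +kernel
theorem c_rel_125 : allRange D.relOK 671482 2696 = true := by decide +kernel
theorem c_rel_126 : allRange D.relOK 674178 2608 = true := by decide +kernel
theorem c_rel_127 : allRange D.relOK 676786 2652 = true := by decide +kernel
theorem c_rel_128 : allRange D.relOK 679438 2615 = true := by decide +kernel
theorem c_rel_129 : allRange D.relOK 682053 2552 = true := by decide +kernel
theorem c_rel_130 : allRange D.relOK 684605 2586 = true := by decide +kernel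
theorem c_rel_131 : allRange D.relOK 687191 2714 = true := by decide +kernel
theorem c_rel_132 : allRange D.relOK 689905 2543 = true := by decide +kernel
theorem c_rel_133 : allRange D.relOK 692448 2605 = true := by decide +kernel
theorem c_rel_134 : allRange D.relOK 695053 2539 = true := by decide +kernel
theorem c_rel_135 : allRange D.relOK 697592 2569 = true := by decide +kernel
theorem c_rel_136 : allRange D.relOK 700161 2530 = true := by decide +kernel
theorem c_rel_137 : allRange D.relOK 702691 2504 = true := by decide +kernel
theorem c_rel_138 : allRange D.relOK 705195 2545 = true := by decide +kernel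
theorem c_rel_139 : allRange D.relOK 707740 2603 = true := by decide +kernel
theorem c_rel_140 : allRange D.relOK 710343 2553 = true := by decide +kernel
theorem c_rel_141 : allRange D.relOK 712896 2596 = true := by decide +kernel
theorem c_rel_142 : allRange D.relOK 715492 2579 = true := by decide +kernel
theorem c_rel_143 : allRange D.relOK 718071 2570 = true := by decide +kernel
theorem c_rel_144 : allRange D.relOK 720641 2608 = true := by decide +kernel
theorem c_rel_145 : allRange D.relOK 723249 2605 = true := by decide +kernel
theorem c_rel_146 : allRange D.relOK 725854 2625 = true := by decide +kernel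
theorem c_rel_147 : allRange D.relOK 728479 2651 = true := by decide +kernel
theorem c_rel_148 : allRange D.relOK 731130 2643 = true := by decide +kernel
theorem c_rel_149 : allRange D.relOK 733773 2641 = true := by decide +kernel
theorem c_rel_150 : allRange D.relOK 736414 2626 = true := by decide +kernel
theorem c_rel_151 : allRange D.relOK 739040 2641 = true := by decide +kernel
theorem c_rel_152 : allRange D.relOK 741681 2613 = true := by decide +kernel
theorem c_rel_153 : allRange D.relOK 744294 2629 = true := by decide +kernel
theorem c_rel_154 : allRange D.relOK 746923 2628 = true := by decide +kernel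

end Cfsg.Agent.Lib.Helper4.TCD.SHep7A
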