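import Cfsg.Agent.Lib.Helper4.TCD_SHep7A_Acc

namespace Cfsg.Agent.Lib.Helper4.TCD.SHep7A

open Cfsg.Agent.Lib.Helper4.TC

set_option maxRecDepth 100000
set_option Elab.async false

theorem c_rel_155 : allRange D.relOK 749551 2557 = true := by decide +kernel
theorem c_rel_156 : allRange D.relOK 752108 2581 = true := by decide +kernel
theorem c_rel_157 : allRange D.relOK 754689 2535 = true := by decide +kernel
theorem c_rel_158 : allRange D.relOK 757224 2519 = true := by decide +kernel
theorem c_rel_159 : allRange D.relOK 759743 2601 = true := by decide +kernel
theorem c_rel_160 : allRange D.relOK 762344 2460 = true := by decide +kernel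
theorem c_rel_161 : allRange D.relOK 764804 2429 = true := by decide +kernel
theorem c_rel_162 : allRange D.relOK 767233 2494 = true := by decide +kernel
theorem c_rel_163 : allRange D.relOK 769727 2412 = true := by decide +kernel
theorem c_rel_164 : allRange D.relOK 772139 3000 = true := by decide +kernel
theorem c_rel_165 : allRange D.relOK 775139 4429 = true := by decide +kernel
theorem c_rel_166 : allRange D.relOK 779568 4135 = true := by decide +kernel
theorem c_rel_167 : allRange D.relOK 783703 3897 = true := by decide +kernel
theorem c_rel_168 : allRange D.relOK 787600 3908 = true := by decide +kernel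
theorem c_rel_169 : allRange D.relOK 791508 3773 = true := by decide +kernel
theorem c_rel_170 : allRange D.relOK 795281 3783 = true := by decide +kernel
theorem c_rel_171 : allRange D.relOK 799064 3681 = true := by decide +kernel
theorem c_rel_172 : allRange D.relOK 802745 3739 = true := by decide +kernel
theorem c_rel_173 : allRange D.relOK 806484 3691 = true := by decide +kernel
theorem c_rel_174 : allRange D.relOK 810175 3690 = true := by decide +kernel
theorem c_rel_175 : allRange D.relOK 813865 3665 = true := by decide +kernel
theorem c_rel_176 : allRange D.relOK 817530 3616 = true := by decide +kernel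
theorem c_rel_177 : allRange D.relOK 821146 715 = true := by decide +kernel
theorem c_fin_0 : allGrid (T.finOK D) 0 545 22 = true := by decide +kernel
theorem c_fin_1 : allGrid (T.finOK D) 545 545 22 = true := by decide +kernel
theorem c_fin_2 : allGrid (T.finOK D) 1090 545 22 = true := by decide +kernel
theorem c_fin_3 : allGrid (T.finOK D) 1635 545 22 = true := by decide +kernel
theorem c_fin_4 : allGrid (T.finOK D) 2180 545 22 = true := by decide +kernel
theorem c_fin_5 : allGrid (T.finOK D) 2725 545 22 = true := by decide +kernel
theorem c_fin_6 : allGrid (T.finOK D) 3270 545 22 = true := by decide +kernel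
theorem c_fin_7 : allGrid (T.finOK D) 3815 301 22 = true := by decide +kernel
theorem c_perm_0 : allGrid (T.permOK1 D) 0 1363 22 = true := by decide +kernel
theorem c_perm_1 : allGrid (T.permOK1 D) 1363 1363 22 = true := by decide +kernel
theorem c_perm_2 : allGrid (T.permOK1 D) 2726 1363 22 = true := by decide +kernel
theorem c_perm_3 : allGrid (T.permOK1 D) 4089 27 22 = true := by decide +kernel
theorem c_act0_0 : allRange (fun i => Nat.beq (actR0 i) i) 0 3529 = true := by decide +kernel
theorem c_act0_1 : allRange (fun i => Nat.beq (actR0 i) i) 3529 587 = true := by decide +kernel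
theorem c_act1_0 : allRange (fun i => Nat.beq (actR1 i) i) 0 4116 = true := by decide +kernel
theorem c_act2_0 : allRange (fun i => Nat.beq (actR2 i) i) 0 4116 = true := by decide +kernel
theorem c_act3_0 : allRange (fun i => Nat.beq (actR3 i) i) 0 4116 = true := by decide +kernel
theorem c_act4_0 : allRange (fun i => Nat.beq (actR4 i) i) 0 4116 = true := by decide +kernel
theorem c_act5_0 : allRange (fun i => Nat.beq (actR5 i) i) 0 4116 = true := by decide +kernel
theorem c_act6_0 : allRange (fun i => Nat.beq (actR6 i) i) 0 4116 = true := by decide +kernel
theorem c_act7_0 : allRange (fun i => Nat.beq (actR7 i) i) 0 4116 = true := by decide +kernel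
theorem c_act8_0 : allRange (fun i => Nat.beq (actR8 i) i) 0 4116 = true := by decide +kernel
theorem c_act9_0 : allRange (fun i => Nat.beq (actR9 i) i) 0 3529 = true := by decide +kernel
theorem c_act9_1 : allRange (fun i => Nat.beq (actR9 i) i) 3529 587 = true := by decide +kernel
theorem c_act10_0 : allRange (fun i => Nat.beq (actR10 i) i) 0 1818 = true := by decide +kernel
theorem c_act10_1 : allRange (fun i => Nat.beq (actR10 i) i) 1818 1818 = true := by decide +kernel
theorem c_act10_2 : allRange (fun i => Nat.beq (actR10 i) i) 3636 480 = true := by decide +kernel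
theorem c_act11_0 : allRange (fun i => Nat.beq (actR11 i) i) 0 4116 = true := by decide +kernel
theorem c_act12_0 : allRange (fun i => Nat.beq (actR12 i) i) 0 4116 = true := by decide +kernel
theorem c_act13_0 : allRange (fun i => Nat.beq (actR13 i) i) 0 4116 = true := by decide +kernel
theorem c_act14_0 : allRange (fun i => Nat.beq (actR14 i) i) 0 4116 = true := by decide +kernel
theorem c_act15_0 : allRange (fun i => Nat.beq (actR15 i) i) 0 4116 = true := by decide +kernel
theorem c_act16_0 : allRange (fun i => Nat.beq (actR16 i) i) 0 4116 = true := by decide +kernel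
theorem c_act17_0 : allRange (fun i => Nat.beq (actR17 i) i) 0 4116 = true := by decide +kernel
theorem c_act18_0 : allRange (fun i => Nat.beq (actR18 i) i) 0 4116 = true := by decide +kernel
theorem c_act19_0 : allRange (fun i => Nat.beq (actR19 i) i) 0 4116 = true := by decide +kernel
theorem c_act20_0 : allRange (fun i => Nat.beq (actR20 i) i) 0 4116 = true := by decide +kernel
theorem c_act21_0 : allRange (fun i => Nat.beq (actR21 i) i) 0 4116 = true := by decide +kernel
theorem c_act22_0 : allRange (fun i => Nat.beq (actR22 i) i) 0 4116 = true := by decide +kernel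
theorem c_act23_0 : allRange (fun i => Nat.beq (actR23 i) i) 0 4116 = true := by decide +kernel
theorem c_act24_0 : allRange (fun i => Nat.beq (actR24 i) i) 0 4116 = true := by decide +kernel
theorem c_act25_0 : allRange (fun i => Nat.beq (actR25 i) i) 0 4116 = true := by decide +kernel
theorem c_act26_0 : allRange (fun i => Nat.beq (actR26 i) i) 0 4116 = true := by decide +kernel
theorem c_act27_0 : allRange (fun i => Nat.beq (actR27 i) i) 0 4116 = true := by decide +kernel
theorem c_act28_0 : allRange (fun i => Nat.beq (actR28 i) i) 0 4116 = true := by decide +kernel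
theorem c_act29_0 : allRange (fun i => Nat.beq (actR29 i) i) 0 4116 = true := by decide +kernel
theorem c_act30_0 : allRange (fun i => Nat.beq (actR30 i) i) 0 4116 = true := by decide +kernel
theorem c_act31_0 : allRange (fun i => Nat.beq (actR31 i) i) 0 4116 = true := by decide +kernel
theorem c_act32_0 : allRange (fun i => Nat.beq (actR32 i) i) 0 4116 = true := by decide +kernel
theorem c_act33_0 : allRange (fun i => Nat.beq (actR33 i) i) 0 4116 = true := by decide +kernel
theorem c_act34_0 : allRange (fun i => Nat.beq (actR34 i) i) 0 4116 = true := by decide +kernel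
theorem c_act35_0 : allRange (fun i => Nat.beq (actR35 i) i) 0 4116 = true := by decide +kernel
theorem c_act36_0 : allRange (fun i => Nat.beq (actR36 i) i) 0 4116 = true := by decide +kernel
theorem c_act37_0 : allRange (fun i => Nat.beq (actR37 i) i) 0 4116 = true := by decide +kernel
theorem c_act38_0 : allRange (fun i => Nat.beq (actR38 i) i) 0 3529 = true := by decide +kernel
theorem c_act38_1 : allRange (fun i => Nat.beq (actR38 i) i) 3529 587 = true := by decide +kernel
theorem c_act39_0 : allRange (fun i => Nat.beq (actR39 i) i) 0 4116 = true := by decide +kernel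
theorem c_act40_0 : allRange (fun i => Nat.beq (actR40 i) i) 0 3750 = true := by decide +kernel
theorem c_act40_1 : allRange (fun i => Nat.beq (actR40 i) i) 3750 366 = true := by decide +kernel
theorem c_act41_0 : allRange (fun i => Nat.beq (actR41 i) i) 0 3333 = true := by decide +kernel
theorem c_act41_1 : allRange (fun i => Nat.beq (actR41 i) i) 3333 783 = true := by decide +kernel
theorem c_act42_0 : allRange (fun i => Nat.beq (actR42 i) i) 0 4116 = true := by decide +kernel
theorem c_act43_0 : allRange (fun i => Nat.beq (actR43 i) i) 0 4116 = true := by decide +kernel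
theorem c_act44_0 : allRange (fun i => Nat.beq (actR44 i) i) 0 4116 = true := by decide +kernel
theorem c_act45_0 : allRange (fun i => Nat.beq (actR45 i) i) 0 3529 = true := by decide +kernel
theorem c_act45_1 : allRange (fun i => Nat.beq (actR45 i) i) 3529 587 = true := by decide +kernel
theorem c_act46_0 : allRange (fun i => Nat.beq (actR46 i) i) 0 3333 = true := by decide +kernel
theorem c_act46_1 : allRange (fun i => Nat.beq (actR46 i) i) 3333 783 = true := by decide +kernel
theorem c_act47_0 : allRange (fun i => Nat.beq (actR47 i) i) 0 4116 = true := by decide +kernel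
theorem c_act48_0 : allRange (fun i => Nat.beq (actR48 i) i) 0 4000 = true := by decide +kernel
theorem c_act48_1 : allRange (fun i => Nat.beq (actR48 i) i) 4000 116 = true := by decide +kernel
theorem c_act49_0 : allRange (fun i => Nat.beq (actR49 i) i) 0 4116 = true := by decide +kernel
theorem c_act50_0 : allRange (fun i => Nat.beq (actR50 i) i) 0 3000 = true := by decide +kernel
theorem c_act50_1 : allRange (fun i => Nat.beq (actR50 i) i) 3000 1116 = true := by decide +kernel
theorem c_act51_0 : allRange (fun i => Nat.beq (actR51 i) i) 0 4116 = true := by decide +kernel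
theorem c_act52_0 : allRange (fun i => Nat.beq (actR52 i) i) 0 4116 = true := by decide +kernel
theorem c_act53_0 : allRange (fun i => Nat.beq (actR53 i) i) 0 4116 = true := by decide +kernel
theorem c_act54_0 : allRange (fun i => Nat.beq (actR54 i) i) 0 4116 = true := by decide +kernel
theorem c_act55_0 : allRange (fun i => Nat.beq (actR55 i) i) 0 4116 = true := by decide +kernel
theorem c_act56_0 : allRange (fun i => Nat.beq (actR56 i) i) 0 4116 = true := by decide +kernel
theorem c_act57_0 : allRange (fun i => Nat.beq (actR57 i) i) 0 4116 = true := by decide +kernel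
theorem c_act58_0 : allRange (fun i => Nat.beq (actR58 i) i) 0 4116 = true := by decide +kernel
theorem c_act59_0 : allRange (fun i => Nat.beq (actR59 i) i) 0 4116 = true := by decide +kernel

end Cfsg.Agent.Lib.Helper4.TCD.SHep7A
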