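import Cfsg.Agent.Lib.Helper4.TCD_He1_Acc
import Cfsg.Agent.Lib.Helper4.TC13

namespace Cfsg.Agent.Lib.Helper4.TCD.SHep7W

open Cfsg.Agent.Lib.Helper4.TC Cfsg.Agent.Lib.Helper4.TCD.He1

set_option maxRecDepth 100000
set_option Elab.async false

def chk0 : List Nat := [2, 3, 1, 2, 3, 4, 1, 2, 3, 4, 1, 2, 3, 4, 1, 2, 3, 4, 1, 2, 3, 4, 1, 2, 3, 4, 1, 2, 3, 4, 5, 2, 3, 1, 2, 3, 4, 1, 2, 3, 4, 1, 2, 3, 4, 1, 2, 3, 4, 1, 2, 3, 4, 1, 2, 3, 4, 1, 2, 3, 4, 5, 2, 3, 1, 2, 3, 4, 1, 2, 3, 4, 1, 2, 3, 4, 1, 2, 3, 4, 1, 2, 3, 4, 1, 2, 3, 4, 1, 2, 3, 4, 5, 2, 3, 1, 2, 3, 4, 1, 2, 3, 4, 1, 2, 3, 4, 1, 2, 3, 4, 1, 2, 3, 4, 1, 2, 3, 4, 1, 2, 3, 4, 5, 2, 3, 1, 2, 3, 4, 1, 2, 3, 4, 1, 2, 3, 4, 1, 2, 3, 4, 1, 2, 3, 4, 1, 2, 3, 4, 1, 2, 3, 4, 5, 2, 3, 1, 2, 3, 4, 1, 2, 3, 4, 1, 2, 3, 4, 1, 2, 3, 4, 1, 2, 3, 4, 1, 2, 3, 4, 1, 2, 3, 4, 5, 2, 3, 1, 2, 3, 4, 1, 2, 3, 4, 1, 2, 3, 4, 1, 2, 3, 4, 1, 2, 3, 4, 1, 2, 3, 4, 1, 2, 3, 4, 5, 2, 3, 1, 2, 3, 4,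 1, 2, 3, 4, 1, 2, 3, 4, 1, 2, 3, 4, 1, 2, 3, 4, 1, 2, 3, 4, 1, 2, 3, 4, 5, 2, 3, 1, 2, 3, 4, 1, 2, 3, 4, 1, 2, 3, 4, 1, 2, 3, 4, 1, 2, 3, 4, 1, 2, 3, 4, 1, 2, 3, 4, 5, 2, 3, 1, 2, 3, 4, 1, 2, 3, 4, 1, 2, 3, 4, 1, 2, 3, 4, 1, 2, 3, 4, 1, 2, 3, 4, 1, 2, 3, 4, 5, 2, 3, 1, 2, 3, 4, 1, 2, 3, 4, 1, 2, 3, 4, 1, 2, 3, 4, 1, 2, 3, 4, 1, 2, 3, 4, 1, 2, 3, 4, 5, 2, 3, 1, 2, 3, 4, 1, 2, 3, 4, 1, 2, 3, 4, 1, 2, 3, 4, 1, 2, 3, 4, 1, 2, 3, 4, 1, 2, 3, 4, 5, 2, 3, 1, 2, 3, 4, 1, 2, 3, 4, 1, 2, 3, 4, 1, 2, 3, 4, 1, 2, 3, 4, 1, 2, 3, 4, 1, 2, 3, 4, 5, 2, 3, 1, 2, 3, 4, 1, 2, 3, 4, 1, 2, 3, 4, 1, 2, 3, 4, 1, 2, 3, 4, 1, 2, 3, 4, 1, 2, 3, 4, 5, 2, 3, 1, 2, 3, 4, 1, 2, 3, 4, 1, 2, 3, 4, 1, 2, 3, 4, 1, 2, 3, 4, 1, 2, 3, 4, 1, 2, 3, 4, 5, 2, 3, 1, 2, 3, 4, 1, 2, 3, 4, 1, 2, 3, 4, 1, 2, 3, 4, 1, 2, 3, 4, 1, 2, 3, 4, 1, 2, 3, 4, 5, 2, 3, 1, 2, 3, 4, 1, 2, 3, 4, 1, 2, 3, 4, 1, 2, 3, 4, 1, 2, 3, 4, 1, 2, 3, 4, 1, 2, 3, 4, 5]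
noncomputable def act0 (i : Nat) : Nat := col2 (col3 (col1 (col2 (col3 (col4 (col1 (col2 (col3 (col4 (col1 (col2 (col3 (col4 (col1 (col2 (col3 (col4 (col1 (col2 (col3 (col4 (col1 (col2 (col3 (col4 (col1 (col2 (col3 (col4 (col5 (col2 (col3 (col1 (col2 (col3 (col4 (col1 (col2 (col3 (col4 (col1 (col2 (col3 (col4 (col1 (col2 (col3 (col4 (col1 (col2 (col3 (col4 (col1 (col2 (col3 (col4 (col1 (col2 (col3 (col4 (col5 (col2 (col3 (col1 (col2 (col3 (col4 (col1 (col2 (col3 (col4 (col1 (col2 (col3 (col4 (col1 (col2 (col3 (col4 (col1 (col2 (col3 (col4 (col1 (col2 (col3 (col4 (col1 (col2 (col3 (col4 (col5 (col2 (col3 (col1 (col2 (col3 (col4 (col1 (col2 (col3 (col4 (col1 (col2 (col3 (col4 (col1 (col2 (col3 (col4 (col1 (col2 (col3 (col4 (col1 (col2 (col3 (col4 (col1 (col2 (col3 (col4 (col5 (col2 (col3 (col1 (col2 (col3 (col4 (col1 (col2 (col3 (col4 (col1 (col2 (col3 (col4 (col1 (col2 (col3 (col4 (col1 (col2 (col3 (col4 (col1 (col2 (col3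 (col4 (col1 (col2 (col3 (col4 (col5 (col2 (col3 (col1 (col2 (col3 (col4 (col1 (col2 (col3 (col4 (col1 (col2 (col3 (col4 (col1 (col2 (col3 (col4 (col1 (col2 (col3 (col4 (col1 (col2 (col3 (col4 (col1 (col2 (col3 (col4 (col5 (col2 (col3 (col1 (col2 (col3 (col4 (col1 (col2 (col3 (col4 (col1 (col2 (col3 (col4 (col1 (col2 (col3 (col4 (col1 (col2 (col3 (col4 (col1 (col2 (col3 (col4 (col1 (col2 (col3 (col4 (col5 (col2 (col3 (col1 (col2 (col3 (col4 (col1 (col2 (col3 (col4 (col1 (col2 (col3 (col4 (col1 (col2 (col3 (col4 (col1 (col2 (col3 (col4 (col1 (col2 (col3 (col4 (col1 (col2 (col3 (col4 (col5 (col2 (col3 (col1 (col2 (col3 (col4 (col1 (col2 (col3 (col4 (col1 (col2 (col3 (col4 (col1 (col2 (col3 (col4 (col1 (col2 (col3 (col4 (col1 (col2 (col3 (col4 (col1 (col2 (col3 (col4 (col5 (col2 (col3 (col1 (col2 (col3 (col4 (col1 (col2 (col3 (col4 (col1 (col2 (col3 (col4 (col1 (col2 (col3 (col4 (col1 (col2 (col3 (col4 (col1 (col2 (col3 (col4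 (col1 (col2 (col3 (col4 (col5 (col2 (col3 (col1 (col2 (col3 (col4 (col1 (col2 (col3 (col4 (col1 (col2 (col3 (col4 (col1 (col2 (col3 (col4 (col1 (col2 (col3 (col4 (col1 (col2 (col3 (col4 (col1 (col2 (col3 (col4 (col5 (col2 (col3 (col1 (col2 (col3 (col4 (col1 (col2 (col3 (col4 (col1 (col2 (col3 (col4 (col1 (col2 (col3 (col4 (col1 (col2 (col3 (col4 (col1 (col2 (col3 (col4 (col1 (col2 (col3 (col4 (col5 (col2 (col3 (col1 (col2 (col3 (col4 (col1 (col2 (col3 (col4 (col1 (col2 (col3 (col4 (col1 (col2 (col3 (col4 (col1 (col2 (col3 (col4 (col1 (col2 (col3 (col4 (col1 (col2 (col3 (col4 (col5 (col2 (col3 (col1 (col2 (col3 (col4 (col1 (col2 (col3 (col4 (col1 (col2 (col3 (col4 (col1 (col2 (col3 (col4 (col1 (col2 (col3 (col4 (col1 (col2 (col3 (col4 (col1 (col2 (col3 (col4 (col5 (col2 (col3 (col1 (col2 (col3 (col4 (col1 (col2 (col3 (col4 (col1 (col2 (col3 (col4 (col1 (col2 (col3 (col4 (col1 (col2 (col3 (col4 (col1 (col2 (col3 (col4 (col1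 (col2 (col3 (col4 (col5 (col2 (col3 (col1 (col2 (col3 (col4 (col1 (col2 (col3 (col4 (col1 (col2 (col3 (col4 (col1 (col2 (col3 (col4 (col1 (col2 (col3 (col4 (col1 (col2 (col3 (col4 (col1 (col2 (col3 (col4 (col5 (col2 (col3 (col1 (col2 (col3 (col4 (col1 (col2 (col3 (col4 (col1 (col2 (col3 (col4 (col1 (col2 (col3 (col4 (col1 (col2 (col3 (col4 (col1 (col2 (col3 (col4 (col1 (col2 (col3 (col4 (col5 (i)))))))))))))))))))))))))))))))))))))))))))))))))))))))))))))))))))))))))))))))))))))))))))))))))))))))))))))))))))))))))))))))))))))))))))))))))))))))))))))))))))))))))))))))))))))))))))))))))))))))))))))))))))))))))))))))))))))))))))))))))))))))))))))))))))))))))))))))))))))))))))))))))))))))))))))))))))))))))))))))))))))))))))))))))))))))))))))))))))))))))))))))))))))))))))))))))))))))))))))))))))))))))))))))))))))))))))))))))))))))))))))))))))))))))))))))))))))))))))))))))))))))))))))))))))))))))))))))))))))))))))))))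
theorem act0_eq (i : Nat) : act0 i = Tab.act T D chk0 i := rfl
theorem c0_0 : allRange (fun i => Nat.beq (act0 i) i) 0 113 = true := by decide +kernel
theorem c0_1 : allRange (fun i => Nat.beq (act0 i) i) 113 113 = true := by decide +kernel
theorem c0_2 : allRange (fun i => Nat.beq (act0 i) i) 226 113 = true := by decide +kernel
theorem c0_3 : allRange (fun i => Nat.beq (act0 i) i) 339 113 = true := by decide +kernel
theorem c0_4 : allRange (fun i => Nat.beq (act0 i) i) 452 113 = true := by decide +kernel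
theorem c0_5 : allRange (fun i => Nat.beq (act0 i) i) 565 113 = true := by decide +kernel
theorem c0_6 : allRange (fun i => Nat.beq (act0 i) i) 678 113 = true := by decide +kernel
theorem c0_7 : allRange (fun i => Nat.beq (act0 i) i) 791 113 = true := by decide +kernel
theorem c0_8 : allRange (fun i => Nat.beq (act0 i) i) 904 113 = true := by decide +kernel
theorem c0_9 : allRange (fun i => Nat.beq (act0 i) i) 1017 113 = true := by decide +kernel
theorem c0_10 : allRange (fun i => Nat.beq (act0 i) i) 1130 113 = true := by decide +kernel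
theorem c0_11 : allRange (fun i => Nat.beq (act0 i) i) 1243 113 = true := by decide +kernel
theorem c0_12 : allRange (fun i => Nat.beq (act0 i) i) 1356 113 = true := by decide +kernel
theorem c0_13 : allRange (fun i => Nat.beq (act0 i) i) 1469 113 = true := by decide +kernel
theorem c0_14 : allRange (fun i => Nat.beq (act0 i) i) 1582 113 = true := by decide +kernel
theorem c0_15 : allRange (fun i => Nat.beq (act0 i) i) 1695 113 = true := by decide +kernel
theorem c0_16 : allRange (fun i => Nat.beq (act0 i) i) 1808 113 = true := by decide +kernel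
theorem c0_17 : allRange (fun i => Nat.beq (act0 i) i) 1921 113 = true := by decide +kernel
theorem c0_18 : allRange (fun i => Nat.beq (act0 i) i) 2034 24 = true := by decide +kernel
theorem h0 : ∀ i, i < T.N → Tab.relActOK T D chk0 i = true := by
  intro i hi
  rw [Tab.relActOK, ← act0_eq]
  exact (range_glue (range_of_allRange c0_0) (range_glue (range_of_allRange c0_1) (range_glue (range_of_allRange c0_2) (range_glue (range_of_allRange c0_3) (range_glue (range_of_allRange c0_4) (range_glue (range_of_allRange c0_5) (range_glue (range_of_allRange c0_6) (range_glue (range_of_allRange c0_7) (range_glue (range_of_allRange c0_8) (range_glue (range_of_allRange c0_9) (range_glue (range_of_allRange c0_10) (range_glue (range_of_allRange c0_11) (range_glue (range_of_allRange c0_12) (range_glue (range_of_allRange c0_13) (range_glue (range_of_allRange c0_14) (range_glue (range_of_allRange c0_15) (range_glue (range_of_allRange c0_16)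 (range_glue (range_of_allRange c0_17) (range_of_allRange c0_18))))))))))))))))))) i (Nat.zero_le _) hi

def chk1 : List Nat := [4, 4]
noncomputable def act1 (i : Nat) : Nat := col4 (col4 (i))
theorem act1_eq (i : Nat) : act1 i = Tab.act T D chk1 i := rfl
theorem c1_0 : allRange (fun i => Nat.beq (act1 i) i) 0 2058 = true := by decide +kernel
theorem h1 : ∀ i, i < T.N → Tab.relActOK T D chk1 i = true := by
  intro i hi
  rw [Tab.relActOK, ← act1_eq]
  exact (range_of_allRange c1_0) i (Nat.zero_le _) hi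

def chk2 : List Nat := [2, 2]
noncomputable def act2 (i : Nat) : Nat := col2 (col2 (i))
theorem act2_eq (i : Nat) : act2 i = Tab.act T D chk2 i := rfl
theorem c2_0 : allRange (fun i => Nat.beq (act2 i) i) 0 2058 = true := by decide +kernel
theorem h2 : ∀ i, i < T.N → Tab.relActOK T D chk2 i = true := by
  intro i hi
  rw [Tab.relActOK, ← act2_eq]
  exact (range_of_allRange c2_0) i (Nat.zero_le _) hi

def chk3 : List Nat := [0, 0]
noncomputable def act3 (i : Nat) : Nat := col0 (col0 (i))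
theorem act3_eq (i : Nat) : act3 i = Tab.act T D chk3 i := rfl
theorem c3_0 : allRange (fun i => Nat.beq (act3 i) i) 0 2058 = true := by decide +kernel
theorem h3 : ∀ i, i < T.N → Tab.relActOK T D chk3 i = true := by
  intro i hi
  rw [Tab.relActOK, ← act3_eq]
  exact (range_of_allRange c3_0) i (Nat.zero_le _) hi

def chk4 : List Nat := [3, 3]
noncomputable def act4 (i : Nat) : Nat := col3 (col3 (i))
theorem act4_eq (i : Nat) : act4 i = Tab.act T D chk4 i := rfl
theorem c4_0 : allRange (fun i => Nat.beq (act4 i) i) 0 2058 = true := by decide +kernel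
theorem h4 : ∀ i, i < T.N → Tab.relActOK T D chk4 i = true := by
  intro i hi
  rw [Tab.relActOK, ← act4_eq]
  exact (range_of_allRange c4_0) i (Nat.zero_le _) hi

def chk5 : List Nat := [5, 5]
noncomputable def act5 (i : Nat) : Nat := col5 (col5 (i))
theorem act5_eq (i : Nat) : act5 i = Tab.act T D chk5 i := rfl
theorem c5_0 : allRange (fun i => Nat.beq (act5 i) i) 0 2058 = true := by decide +kernel
theorem h5 : ∀ i, i < T.N → Tab.relActOK T D chk5 i = true := by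
  intro i hi
  rw [Tab.relActOK, ← act5_eq]
  exact (range_of_allRange c5_0) i (Nat.zero_le _) hi

def chk6 : List Nat := [1, 1]
noncomputable def act6 (i : Nat) : Nat := col1 (col1 (i))
theorem act6_eq (i : Nat) : act6 i = Tab.act T D chk6 i := rfl
theorem c6_0 : allRange (fun i => Nat.beq (act6 i) i) 0 2058 = true := by decide +kernel
theorem h6 : ∀ i, i < T.N → Tab.relActOK T D chk6 i = true := by
  intro i hi
  rw [Tab.relActOK, ← act6_eq]
  exact (range_of_allRange c6_0) i (Nat.zero_le _) hi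

def chk7 : List Nat := [6, 6]
noncomputable def act7 (i : Nat) : Nat := col6 (col6 (i))
theorem act7_eq (i : Nat) : act7 i = Tab.act T D chk7 i := rfl
theorem c7_0 : allRange (fun i => Nat.beq (act7 i) i) 0 2058 = true := by decide +kernel
theorem h7 : ∀ i, i < T.N → Tab.relActOK T D chk7 i = true := by
  intro i hi
  rw [Tab.relActOK, ← act7_eq]
  exact (range_of_allRange c7_0) i (Nat.zero_le _) hi

def chk8 : List Nat := [4, 2, 1, 0, 2, 1, 0, 2, 1, 0]
noncomputable def act8 (i : Nat) : Nat := col4 (col2 (col1 (col0 (col2 (col1 (col0 (col2 (col1 (col0 (i))))))))))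
theorem act8_eq (i : Nat) : act8 i = Tab.act T D chk8 i := rfl
theorem c8_0 : allRange (fun i => Nat.beq (act8 i) i) 0 2058 = true := by decide +kernel
theorem h8 : ∀ i, i < T.N → Tab.relActOK T D chk8 i = true := by
  intro i hi
  rw [Tab.relActOK, ← act8_eq]
  exact (range_of_allRange c8_0) i (Nat.zero_le _) hi

def chk9 : List Nat := [2, 3, 5, 6, 2, 3, 5, 6, 2, 3, 5, 6, 2, 3, 5, 6]
noncomputable def act9 (i : Nat) : Nat := col2 (col3 (col5 (col6 (col2 (col3 (col5 (col6 (col2 (col3 (col5 (col6 (col2 (col3 (col5 (col6 (i))))))))))))))))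
theorem act9_eq (i : Nat) : act9 i = Tab.act T D chk9 i := rfl
theorem c9_0 : allRange (fun i => Nat.beq (act9 i) i) 0 2058 = true := by decide +kernel
theorem h9 : ∀ i, i < T.N → Tab.relActOK T D chk9 i = true := by
  intro i hi
  rw [Tab.relActOK, ← act9_eq]
  exact (range_of_allRange c9_0) i (Nat.zero_le _) hi

def chk10 : List Nat := [1, 2, 3, 4, 1, 2, 3, 4, 1, 2, 3, 4, 1, 2, 3, 4, 1, 2, 3, 4, 1, 2, 3, 4, 1, 2, 3, 4, 5, 5, 4, 3, 2, 1, 4, 3, 2, 1, 4, 3, 2, 1, 4, 3, 2, 1, 4, 3, 2, 1, 4, 3, 2, 1, 4, 3, 2, 1, 3, 2, 2, 3]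
noncomputable def act10 (i : Nat) : Nat := col1 (col2 (col3 (col4 (col1 (col2 (col3 (col4 (col1 (col2 (col3 (col4 (col1 (col2 (col3 (col4 (col1 (col2 (col3 (col4 (col1 (col2 (col3 (col4 (col1 (col2 (col3 (col4 (col5 (col5 (col4 (col3 (col2 (col1 (col4 (col3 (col2 (col1 (col4 (col3 (col2 (col1 (col4 (col3 (col2 (col1 (col4 (col3 (col2 (col1 (col4 (col3 (col2 (col1 (col4 (col3 (col2 (col1 (col3 (col2 (col2 (col3 (i))))))))))))))))))))))))))))))))))))))))))))))))))))))))))))))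
theorem act10_eq (i : Nat) : act10 i = Tab.act T D chk10 i := rfl
theorem c10_0 : allRange (fun i => Nat.beq (act10 i) i) 0 937 = true := by decide +kernel
theorem c10_1 : allRange (fun i => Nat.beq (act10 i) i) 937 937 = true := by decide +kernel
theorem c10_2 : allRange (fun i => Nat.beq (act10 i) i) 1874 184 = true := by decide +kernel
theorem h10 : ∀ i, i < T.N → Tab.relActOK T D chk10 i = true := by
  intro i hi
  rw [Tab.relActOK, ← act10_eq]
  exact (range_glue (range_of_allRange c10_0) (range_glue (range_of_allRange c10_1) (range_of_allRange c10_2))) i (Nat.zero_le _) hi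

def chk11 : List Nat := [2, 3, 1, 2, 3, 4, 1, 2, 3, 4, 1, 2, 3, 4, 1, 2, 3, 4, 1, 2, 3, 4, 1, 2, 3, 4, 1, 2, 3, 4, 5, 2, 3, 1, 2, 3, 4, 1, 2, 3, 4, 1, 2, 3, 4, 1, 2, 3, 4, 1, 2, 3, 4, 1, 2, 3, 4, 1, 2, 3, 4, 5, 2, 3, 1, 2, 3, 4, 1, 2, 3, 4, 1, 2, 3, 4, 1, 2, 3, 4, 1, 2, 3, 4, 1, 2, 3, 4, 1, 2, 3, 4, 5, 2, 3, 1, 2, 3, 4, 1, 2, 3, 4, 1, 2, 3, 4, 1, 2, 3, 4, 1, 2, 3, 4, 1, 2, 3, 4, 1, 2, 3, 4, 5, 2, 3, 1, 2, 3, 4, 1, 2, 3, 4, 1, 2, 3, 4, 1, 2, 3, 4, 1, 2, 3, 4, 1, 2, 3, 4, 1, 2, 3, 4, 5, 2, 3, 1, 2, 3, 4, 1, 2, 3, 4, 1, 2, 3, 4, 1, 2, 3, 4, 1, 2, 3, 4, 1, 2, 3, 4, 1, 2, 3, 4, 5, 2, 3, 1, 2, 3, 4, 1, 2, 3, 4, 1, 2, 3, 4, 1, 2, 3, 4, 1, 2, 3, 4, 1, 2, 3, 4, 1, 2, 3, 4, 5, 2, 3, 1, 2, 3, 4, 1, 2, 3, 4, 1, 2, 3, 4, 1, 2, 3, 4, 1, 2, 3, 4, 1, 2, 3, 4, 1, 2, 3, 4, 5, 2, 3, 1, 2, 3, 4, 1, 2, 3, 4, 1, 2, 3, 4, 1, 2, 3, 4, 1, 2, 3, 4, 1, 2, 3, 4, 1, 2, 3, 4, 5, 2, 3, 1, 2, 3, 4, 1, 2, 3, 4, 1, 2, 3, 4, 1, 2, 3, 4, 1, 2, 3, 4, 1, 2,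 3, 4, 1, 2, 3, 4, 5, 2, 3, 1, 2, 3, 4, 1, 2, 3, 4, 1, 2, 3, 4, 1, 2, 3, 4, 1, 2, 3, 4, 1, 2, 3, 4, 1, 2, 3, 4, 5, 2, 3, 1, 2, 3, 4, 1, 2, 3, 4, 1, 2, 3, 4, 1, 2, 3, 4, 1, 2, 3, 4, 1, 2, 3, 4, 1, 2, 3, 4, 5, 2, 3, 1, 2, 3, 4, 1, 2, 3, 4, 1, 2, 3, 4, 1, 2, 3, 4, 1, 2, 3, 4, 1, 2, 3, 4, 1, 2, 3, 4, 5, 2, 3, 1, 2, 3, 4, 1, 2, 3, 4, 1, 2, 3, 4, 1, 2, 3, 4, 1, 2, 3, 4, 1, 2, 3, 4, 1, 2, 3, 4, 5, 2, 3, 1, 2, 3, 4, 1, 2, 3, 4, 1, 2, 3, 4, 1, 2, 3, 4, 1, 2, 3, 4, 1, 2, 3, 4, 1, 2, 3, 4, 5, 2, 3, 1, 2, 3, 4, 1, 2, 3, 4, 1, 2, 3, 4, 1, 2, 3, 4, 1, 2, 3, 4, 1, 2, 3, 4, 1, 2, 3, 4, 5, 2, 3, 1, 2, 3, 4, 1, 2, 3, 4, 1, 2, 3, 4, 1, 2, 3, 4, 1, 2, 3, 4, 1, 2, 3, 4, 1, 2, 3, 4, 5]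
noncomputable def act11 (i : Nat) : Nat := col2 (col3 (col1 (col2 (col3 (col4 (col1 (col2 (col3 (col4 (col1 (col2 (col3 (col4 (col1 (col2 (col3 (col4 (col1 (col2 (col3 (col4 (col1 (col2 (col3 (col4 (col1 (col2 (col3 (col4 (col5 (col2 (col3 (col1 (col2 (col3 (col4 (col1 (col2 (col3 (col4 (col1 (col2 (col3 (col4 (col1 (col2 (col3 (col4 (col1 (col2 (col3 (col4 (col1 (col2 (col3 (col4 (col1 (col2 (col3 (col4 (col5 (col2 (col3 (col1 (col2 (col3 (col4 (col1 (col2 (col3 (col4 (col1 (col2 (col3 (col4 (col1 (col2 (col3 (col4 (col1 (col2 (col3 (col4 (col1 (col2 (col3 (col4 (col1 (col2 (col3 (col4 (col5 (col2 (col3 (col1 (col2 (col3 (col4 (col1 (col2 (col3 (col4 (col1 (col2 (col3 (col4 (col1 (col2 (col3 (col4 (col1 (col2 (col3 (col4 (col1 (col2 (col3 (col4 (col1 (col2 (col3 (col4 (col5 (col2 (col3 (col1 (col2 (col3 (col4 (col1 (col2 (col3 (col4 (col1 (col2 (col3 (col4 (col1 (col2 (col3 (col4 (col1 (col2 (col3 (col4 (col1 (col2 (col3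 (col4 (col1 (col2 (col3 (col4 (col5 (col2 (col3 (col1 (col2 (col3 (col4 (col1 (col2 (col3 (col4 (col1 (col2 (col3 (col4 (col1 (col2 (col3 (col4 (col1 (col2 (col3 (col4 (col1 (col2 (col3 (col4 (col1 (col2 (col3 (col4 (col5 (col2 (col3 (col1 (col2 (col3 (col4 (col1 (col2 (col3 (col4 (col1 (col2 (col3 (col4 (col1 (col2 (col3 (col4 (col1 (col2 (col3 (col4 (col1 (col2 (col3 (col4 (col1 (col2 (col3 (col4 (col5 (col2 (col3 (col1 (col2 (col3 (col4 (col1 (col2 (col3 (col4 (col1 (col2 (col3 (col4 (col1 (col2 (col3 (col4 (col1 (col2 (col3 (col4 (col1 (col2 (col3 (col4 (col1 (col2 (col3 (col4 (col5 (col2 (col3 (col1 (col2 (col3 (col4 (col1 (col2 (col3 (col4 (col1 (col2 (col3 (col4 (col1 (col2 (col3 (col4 (col1 (col2 (col3 (col4 (col1 (col2 (col3 (col4 (col1 (col2 (col3 (col4 (col5 (col2 (col3 (col1 (col2 (col3 (col4 (col1 (col2 (col3 (col4 (col1 (col2 (col3 (col4 (col1 (col2 (col3 (col4 (col1 (col2 (col3 (col4 (col1 (col2 (col3 (col4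 (col1 (col2 (col3 (col4 (col5 (col2 (col3 (col1 (col2 (col3 (col4 (col1 (col2 (col3 (col4 (col1 (col2 (col3 (col4 (col1 (col2 (col3 (col4 (col1 (col2 (col3 (col4 (col1 (col2 (col3 (col4 (col1 (col2 (col3 (col4 (col5 (col2 (col3 (col1 (col2 (col3 (col4 (col1 (col2 (col3 (col4 (col1 (col2 (col3 (col4 (col1 (col2 (col3 (col4 (col1 (col2 (col3 (col4 (col1 (col2 (col3 (col4 (col1 (col2 (col3 (col4 (col5 (col2 (col3 (col1 (col2 (col3 (col4 (col1 (col2 (col3 (col4 (col1 (col2 (col3 (col4 (col1 (col2 (col3 (col4 (col1 (col2 (col3 (col4 (col1 (col2 (col3 (col4 (col1 (col2 (col3 (col4 (col5 (col2 (col3 (col1 (col2 (col3 (col4 (col1 (col2 (col3 (col4 (col1 (col2 (col3 (col4 (col1 (col2 (col3 (col4 (col1 (col2 (col3 (col4 (col1 (col2 (col3 (col4 (col1 (col2 (col3 (col4 (col5 (col2 (col3 (col1 (col2 (col3 (col4 (col1 (col2 (col3 (col4 (col1 (col2 (col3 (col4 (col1 (col2 (col3 (col4 (col1 (col2 (col3 (col4 (col1 (col2 (col3 (col4 (col1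 (col2 (col3 (col4 (col5 (col2 (col3 (col1 (col2 (col3 (col4 (col1 (col2 (col3 (col4 (col1 (col2 (col3 (col4 (col1 (col2 (col3 (col4 (col1 (col2 (col3 (col4 (col1 (col2 (col3 (col4 (col1 (col2 (col3 (col4 (col5 (col2 (col3 (col1 (col2 (col3 (col4 (col1 (col2 (col3 (col4 (col1 (col2 (col3 (col4 (col1 (col2 (col3 (col4 (col1 (col2 (col3 (col4 (col1 (col2 (col3 (col4 (col1 (col2 (col3 (col4 (col5 (i)))))))))))))))))))))))))))))))))))))))))))))))))))))))))))))))))))))))))))))))))))))))))))))))))))))))))))))))))))))))))))))))))))))))))))))))))))))))))))))))))))))))))))))))))))))))))))))))))))))))))))))))))))))))))))))))))))))))))))))))))))))))))))))))))))))))))))))))))))))))))))))))))))))))))))))))))))))))))))))))))))))))))))))))))))))))))))))))))))))))))))))))))))))))))))))))))))))))))))))))))))))))))))))))))))))))))))))))))))))))))))))))))))))))))))))))))))))))))))))))))))))))))))))))))))))))))))))))))))))))))))))))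
theorem act11_eq (i : Nat) : act11 i = Tab.act T D chk11 i := rfl
theorem c11_0 : allRange (fun i => Nat.beq (act11 i) i) 0 113 = true := by decide +kernel
theorem c11_1 : allRange (fun i => Nat.beq (act11 i) i) 113 113 = true := by decide +kernel
theorem c11_2 : allRange (fun i => Nat.beq (act11 i) i) 226 113 = true := by decide +kernel
theorem c11_3 : allRange (fun i => Nat.beq (act11 i) i) 339 113 = true := by decide +kernel
theorem c11_4 : allRange (fun i => Nat.beq (act11 i) i) 452 113 = true := by decide +kernel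
theorem c11_5 : allRange (fun i => Nat.beq (act11 i) i) 565 113 = true := by decide +kernel
theorem c11_6 : allRange (fun i => Nat.beq (act11 i) i) 678 113 = true := by decide +kernel
theorem c11_7 : allRange (fun i => Nat.beq (act11 i) i) 791 113 = true := by decide +kernel
theorem c11_8 : allRange (fun i => Nat.beq (act11 i) i) 904 113 = true := by decide +kernel
theorem c11_9 : allRange (fun i => Nat.beq (act11 i) i) 1017 113 = true := by decide +kernel
theorem c11_10 : allRange (fun i => Nat.beq (act11 i) i) 1130 113 = true := by decide +kernel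
theorem c11_11 : allRange (fun i => Nat.beq (act11 i) i) 1243 113 = true := by decide +kernel
theorem c11_12 : allRange (fun i => Nat.beq (act11 i) i) 1356 113 = true := by decide +kernel
theorem c11_13 : allRange (fun i => Nat.beq (act11 i) i) 1469 113 = true := by decide +kernel
theorem c11_14 : allRange (fun i => Nat.beq (act11 i) i) 1582 113 = true := by decide +kernel
theorem c11_15 : allRange (fun i => Nat.beq (act11 i) i) 1695 113 = true := by decide +kernel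
theorem c11_16 : allRange (fun i => Nat.beq (act11 i) i) 1808 113 = true := by decide +kernel
theorem c11_17 : allRange (fun i => Nat.beq (act11 i) i) 1921 113 = true := by decide +kernel
theorem c11_18 : allRange (fun i => Nat.beq (act11 i) i) 2034 24 = true := by decide +kernel
theorem h11 : ∀ i, i < T.N → Tab.relActOK T D chk11 i = true := by
  intro i hi
  rw [Tab.relActOK, ← act11_eq]
  exact (range_glue (range_of_allRange c11_0) (range_glue (range_of_allRange c11_1) (range_glue (range_of_allRange c11_2) (range_glue (range_of_allRange c11_3) (range_glue (range_of_allRange c11_4) (range_glue (range_of_allRange c11_5) (range_glue (range_of_allRange c11_6) (range_glue (range_of_allRange c11_7) (range_glue (range_of_allRange c11_8) (range_glue (range_of_allRange c11_9) (range_glue (range_of_allRange c11_10) (range_glue (range_of_allRange c11_11) (range_glue (range_of_allRange c11_12) (range_glue (range_of_allRange c11_13)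 (range_glue (range_of_allRange c11_14) (range_glue (range_of_allRange c11_15) (range_glue (range_of_allRange c11_16) (range_glue (range_of_allRange c11_17) (range_of_allRange c11_18))))))))))))))))))) i (Nat.zero_le _) hi

def chk12 : List Nat := [4, 4]
noncomputable def act12 (i : Nat) : Nat := col4 (col4 (i))
theorem act12_eq (i : Nat) : act12 i = Tab.act T D chk12 i := rfl
theorem c12_0 : allRange (fun i => Nat.beq (act12 i) i) 0 2058 = true := by decide +kernel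
theorem h12 : ∀ i, i < T.N → Tab.relActOK T D chk12 i = true := by
  intro i hi
  rw [Tab.relActOK, ← act12_eq]
  exact (range_of_allRange c12_0) i (Nat.zero_le _) hi

def chk13 : List Nat := [2, 3, 1, 2, 3, 4, 1, 2, 3, 4, 1, 2, 3, 4, 1, 2, 3, 4, 1, 2, 3, 4, 1, 2, 3, 4, 1, 2, 3, 4, 5, 2, 3, 1, 2, 3, 4, 1, 2, 3, 4, 1, 2, 3, 4, 1, 2, 3, 4, 1, 2, 3, 4, 1, 2, 3, 4, 1, 2, 3, 4, 5, 2, 3, 1, 2, 3, 4, 1, 2, 3, 4, 1, 2, 3, 4, 1, 2, 3, 4, 1, 2, 3, 4, 1, 2, 3, 4, 1, 2, 3, 4, 5, 4, 5, 4, 3, 2, 1, 4, 3, 2, 1, 4, 3, 2, 1, 4, 3, 2, 1, 4, 3, 2, 1, 4, 3, 2, 1, 4, 3, 2, 1, 3, 2, 4, 2, 3, 1, 2, 3, 4, 1, 2, 3, 4, 1, 2, 3, 4, 1, 2, 3, 4, 1, 2, 3, 4, 1, 2, 3, 4, 1, 2, 3, 4, 5, 4, 2, 3, 1, 2, 3, 4, 1, 2, 3, 4, 1, 2, 3, 4, 1, 2, 3, 4, 1, 2, 3, 4, 1, 2, 3, 4, 1, 2, 3, 4, 5, 2, 3, 1, 2, 3, 4, 1, 2, 3, 4, 1, 2, 3, 4, 1, 2, 3, 4, 1, 2, 3, 4, 1, 2, 3, 4, 1, 2, 3, 4, 5, 2, 3, 1, 2, 3, 4, 1, 2, 3, 4, 1, 2, 3, 4, 1, 2, 3, 4, 1, 2, 3, 4, 1, 2, 3, 4, 1, 2,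 3, 4, 5, 4, 5, 4, 3, 2, 1, 4, 3, 2, 1, 4, 3, 2, 1, 4, 3, 2, 1, 4, 3, 2, 1, 4, 3, 2, 1, 4, 3, 2, 1, 3, 2, 4, 2, 3, 1, 2, 3, 4, 1, 2, 3, 4, 1, 2, 3, 4, 1, 2, 3, 4, 1, 2, 3, 4, 1, 2, 3, 4, 1, 2, 3, 4, 5, 4]
noncomputable def act13 (i : Nat) : Nat := col2 (col3 (col1 (col2 (col3 (col4 (col1 (col2 (col3 (col4 (col1 (col2 (col3 (col4 (col1 (col2 (col3 (col4 (col1 (col2 (col3 (col4 (col1 (col2 (col3 (col4 (col1 (col2 (col3 (col4 (col5 (col2 (col3 (col1 (col2 (col3 (col4 (col1 (col2 (col3 (col4 (col1 (col2 (col3 (col4 (col1 (col2 (col3 (col4 (col1 (col2 (col3 (col4 (col1 (col2 (col3 (col4 (col1 (col2 (col3 (col4 (col5 (col2 (col3 (col1 (col2 (col3 (col4 (col1 (col2 (col3 (col4 (col1 (col2 (col3 (col4 (col1 (col2 (col3 (col4 (col1 (col2 (col3 (col4 (col1 (col2 (col3 (col4 (col1 (col2 (col3 (col4 (col5 (col4 (col5 (col4 (col3 (col2 (col1 (col4 (col3 (col2 (col1 (col4 (col3 (col2 (col1 (col4 (col3 (col2 (col1 (col4 (col3 (col2 (col1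 (col4 (col3 (col2 (col1 (col4 (col3 (col2 (col1 (col3 (col2 (col4 (col2 (col3 (col1 (col2 (col3 (col4 (col1 (col2 (col3 (col4 (col1 (col2 (col3 (col4 (col1 (col2 (col3 (col4 (col1 (col2 (col3 (col4 (col1 (col2 (col3 (col4 (col1 (col2 (col3 (col4 (col5 (col4 (col2 (col3 (col1 (col2 (col3 (col4 (col1 (col2 (col3 (col4 (col1 (col2 (col3 (col4 (col1 (col2 (col3 (col4 (col1 (col2 (col3 (col4 (col1 (col2 (col3 (col4 (col1 (col2 (col3 (col4 (col5 (col2 (col3 (col1 (col2 (col3 (col4 (col1 (col2 (col3 (col4 (col1 (col2 (col3 (col4 (col1 (col2 (col3 (col4 (col1 (col2 (col3 (col4 (col1 (col2 (col3 (col4 (col1 (col2 (col3 (col4 (col5 (col2 (col3 (col1 (col2 (col3 (col4 (col1 (col2 (col3 (col4 (col1 (col2 (col3 (col4 (col1 (col2 (col3 (col4 (col1 (col2 (col3 (col4 (col1 (col2 (col3 (col4 (col1 (col2 (col3 (col4 (col5 (col4 (col5 (col4 (col3 (col2 (col1 (col4 (col3 (col2 (col1 (col4 (col3 (col2 (col1 (col4 (col3 (col2 (col1 (col4 (col3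 (col2 (col1 (col4 (col3 (col2 (col1 (col4 (col3 (col2 (col1 (col3 (col2 (col4 (col2 (col3 (col1 (col2 (col3 (col4 (col1 (col2 (col3 (col4 (col1 (col2 (col3 (col4 (col1 (col2 (col3 (col4 (col1 (col2 (col3 (col4 (col1 (col2 (col3 (col4 (col1 (col2 (col3 (col4 (col5 (col4 (i))))))))))))))))))))))))))))))))))))))))))))))))))))))))))))))))))))))))))))))))))))))))))))))))))))))))))))))))))))))))))))))))))))))))))))))))))))))))))))))))))))))))))))))))))))))))))))))))))))))))))))))))))))))))))))))))))))))))))))))))))))))))))))))))))))))))))))))))))))))))))))))))))))))))))))))))))))))))))))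
theorem act13_eq (i : Nat) : act13 i = Tab.act T D chk13 i := rfl
theorem c13_0 : allRange (fun i => Nat.beq (act13 i) i) 0 188 = true := by decide +kernel
theorem c13_1 : allRange (fun i => Nat.beq (act13 i) i) 188 188 = true := by decide +kernel
theorem c13_2 : allRange (fun i => Nat.beq (act13 i) i) 376 188 = true := by decide +kernel
theorem c13_3 : allRange (fun i => Nat.beq (act13 i) i) 564 188 = true := by decide +kernel
theorem c13_4 : allRange (fun i => Nat.beq (act13 i) i) 752 188 = true := by decide +kernel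
theorem c13_5 : allRange (fun i => Nat.beq (act13 i) i) 940 188 = true := by decide +kernel
theorem c13_6 : allRange (fun i => Nat.beq (act13 i) i) 1128 188 = true := by decide +kernel
theorem c13_7 : allRange (fun i => Nat.beq (act13 i) i) 1316 188 = true := by decide +kernel
theorem c13_8 : allRange (fun i => Nat.beq (act13 i) i) 1504 188 = true := by decide +kernel
theorem c13_9 : allRange (fun i => Nat.beq (act13 i) i) 1692 188 = true := by decide +kernel
theorem c13_10 : allRange (fun i => Nat.beq (act13 i) i) 1880 178 = true := by decide +kernel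
theorem h13 : ∀ i, i < T.N → Tab.relActOK T D chk13 i = true := by
  intro i hi
  rw [Tab.relActOK, ← act13_eq]
  exact (range_glue (range_of_allRange c13_0) (range_glue (range_of_allRange c13_1) (range_glue (range_of_allRange c13_2) (range_glue (range_of_allRange c13_3) (range_glue (range_of_allRange c13_4) (range_glue (range_of_allRange c13_5) (range_glue (range_of_allRange c13_6) (range_glue (range_of_allRange c13_7) (range_glue (range_of_allRange c13_8) (range_glue (range_of_allRange c13_9) (range_of_allRange c13_10))))))))))) i (Nat.zero_le _) hi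

def chk14 : List Nat := [2, 3, 1, 2, 3, 4, 1, 2, 3, 4, 1, 2, 3, 4, 1, 2, 3, 4, 1, 2, 3, 4, 1, 2, 3, 4, 1, 2, 3, 4, 5, 2, 3, 1, 2, 3, 4, 1, 2, 3, 4, 1, 2, 3, 4, 1, 2, 3, 4, 1, 2, 3, 4, 1, 2, 3, 4, 1, 2, 3, 4, 5, 2, 3, 1, 2, 3, 4, 1, 2, 3, 4, 1, 2, 3, 4, 1, 2, 3, 4, 1, 2, 3, 4, 1, 2, 3, 4, 1, 2, 3, 4, 5, 2, 3, 1, 2, 3, 4, 1, 2, 3, 4, 1, 2, 3, 4, 1, 2, 3, 4, 1, 2, 3, 4, 1, 2, 3, 4, 1, 2, 3, 4, 5, 2, 3, 1, 2, 3, 4, 1, 2, 3, 4, 1, 2, 3, 4, 1, 2, 3, 4, 1, 2, 3, 4, 1, 2, 3, 4, 1, 2, 3, 4, 5, 4, 2, 3, 1, 2, 3, 4, 1, 2, 3, 4, 1, 2, 3, 4, 1, 2, 3, 4, 1, 2, 3, 4, 1, 2, 3, 4, 1, 2, 3, 4, 5, 2, 3, 1, 2, 3, 4, 1, 2, 3, 4, 1, 2, 3, 4, 1, 2, 3, 4, 1, 2, 3, 4, 1, 2, 3, 4, 1, 2, 3, 4, 5, 2, 3, 1, 2, 3, 4, 1, 2, 3, 4, 1, 2, 3, 4, 1, 2, 3, 4, 1, 2, 3, 4, 1, 2, 3, 4, 1, 2, 3, 4, 5, 2, 3, 1, 2, 3, 4, 1, 2, 3, 4, 1, 2, 3, 4, 1, 2, 3, 4, 1, 2, 3, 4, 1, 2, 3, 4, 1, 2, 3, 4, 5, 2, 3, 1, 2, 3, 4, 1, 2, 3, 4, 1, 2, 3, 4, 1, 2, 3, 4, 1, 2, 3, 4, 1,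 2, 3, 4, 1, 2, 3, 4, 5, 4, 2, 3, 1, 2, 3, 4, 1, 2, 3, 4, 1, 2, 3, 4, 1, 2, 3, 4, 1, 2, 3, 4, 1, 2, 3, 4, 1, 2, 3, 4, 5, 2, 3, 1, 2, 3, 4, 1, 2, 3, 4, 1, 2, 3, 4, 1, 2, 3, 4, 1, 2, 3, 4, 1, 2, 3, 4, 1, 2, 3, 4, 5, 2, 3, 1, 2, 3, 4, 1, 2, 3, 4, 1, 2, 3, 4, 1, 2, 3, 4, 1, 2, 3, 4, 1, 2, 3, 4, 1, 2, 3, 4, 5, 2, 3, 1, 2, 3, 4, 1, 2, 3, 4, 1, 2, 3, 4, 1, 2, 3, 4, 1, 2, 3, 4, 1, 2, 3, 4, 1, 2, 3, 4, 5, 2, 3, 1, 2, 3, 4, 1, 2, 3, 4, 1, 2, 3, 4, 1, 2, 3, 4, 1, 2, 3, 4, 1, 2, 3, 4, 1, 2, 3, 4, 5, 4]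
noncomputable def act14 (i : Nat) : Nat := col2 (col3 (col1 (col2 (col3 (col4 (col1 (col2 (col3 (col4 (col1 (col2 (col3 (col4 (col1 (col2 (col3 (col4 (col1 (col2 (col3 (col4 (col1 (col2 (col3 (col4 (col1 (col2 (col3 (col4 (col5 (col2 (col3 (col1 (col2 (col3 (col4 (col1 (col2 (col3 (col4 (col1 (col2 (col3 (col4 (col1 (col2 (col3 (col4 (col1 (col2 (col3 (col4 (col1 (col2 (col3 (col4 (col1 (col2 (col3 (col4 (col5 (col2 (col3 (col1 (col2 (col3 (col4 (col1 (col2 (col3 (col4 (col1 (col2 (col3 (col4 (col1 (col2 (col3 (col4 (col1 (col2 (col3 (col4 (col1 (col2 (col3 (col4 (col1 (col2 (col3 (col4 (col5 (col2 (col3 (col1 (col2 (col3 (col4 (col1 (col2 (col3 (col4 (col1 (col2 (col3 (col4 (col1 (col2 (col3 (col4 (col1 (col2 (col3 (col4 (col1 (col2 (col3 (col4 (col1 (col2 (col3 (col4 (col5 (col2 (col3 (col1 (col2 (col3 (col4 (col1 (col2 (col3 (col4 (col1 (col2 (col3 (col4 (col1 (col2 (col3 (col4 (col1 (col2 (col3 (col4 (col1 (col2 (col3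 (col4 (col1 (col2 (col3 (col4 (col5 (col4 (col2 (col3 (col1 (col2 (col3 (col4 (col1 (col2 (col3 (col4 (col1 (col2 (col3 (col4 (col1 (col2 (col3 (col4 (col1 (col2 (col3 (col4 (col1 (col2 (col3 (col4 (col1 (col2 (col3 (col4 (col5 (col2 (col3 (col1 (col2 (col3 (col4 (col1 (col2 (col3 (col4 (col1 (col2 (col3 (col4 (col1 (col2 (col3 (col4 (col1 (col2 (col3 (col4 (col1 (col2 (col3 (col4 (col1 (col2 (col3 (col4 (col5 (col2 (col3 (col1 (col2 (col3 (col4 (col1 (col2 (col3 (col4 (col1 (col2 (col3 (col4 (col1 (col2 (col3 (col4 (col1 (col2 (col3 (col4 (col1 (col2 (col3 (col4 (col1 (col2 (col3 (col4 (col5 (col2 (col3 (col1 (col2 (col3 (col4 (col1 (col2 (col3 (col4 (col1 (col2 (col3 (col4 (col1 (col2 (col3 (col4 (col1 (col2 (col3 (col4 (col1 (col2 (col3 (col4 (col1 (col2 (col3 (col4 (col5 (col2 (col3 (col1 (col2 (col3 (col4 (col1 (col2 (col3 (col4 (col1 (col2 (col3 (col4 (col1 (col2 (col3 (col4 (col1 (col2 (col3 (col4 (col1 (col2 (col3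 (col4 (col1 (col2 (col3 (col4 (col5 (col4 (col2 (col3 (col1 (col2 (col3 (col4 (col1 (col2 (col3 (col4 (col1 (col2 (col3 (col4 (col1 (col2 (col3 (col4 (col1 (col2 (col3 (col4 (col1 (col2 (col3 (col4 (col1 (col2 (col3 (col4 (col5 (col2 (col3 (col1 (col2 (col3 (col4 (col1 (col2 (col3 (col4 (col1 (col2 (col3 (col4 (col1 (col2 (col3 (col4 (col1 (col2 (col3 (col4 (col1 (col2 (col3 (col4 (col1 (col2 (col3 (col4 (col5 (col2 (col3 (col1 (col2 (col3 (col4 (col1 (col2 (col3 (col4 (col1 (col2 (col3 (col4 (col1 (col2 (col3 (col4 (col1 (col2 (col3 (col4 (col1 (col2 (col3 (col4 (col1 (col2 (col3 (col4 (col5 (col2 (col3 (col1 (col2 (col3 (col4 (col1 (col2 (col3 (col4 (col1 (col2 (col3 (col4 (col1 (col2 (col3 (col4 (col1 (col2 (col3 (col4 (col1 (col2 (col3 (col4 (col1 (col2 (col3 (col4 (col5 (col2 (col3 (col1 (col2 (col3 (col4 (col1 (col2 (col3 (col4 (col1 (col2 (col3 (col4 (col1 (col2 (col3 (col4 (col1 (col2 (col3 (col4 (col1 (col2 (col3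 (col4 (col1 (col2 (col3 (col4 (col5 (col4 (i))))))))))))))))))))))))))))))))))))))))))))))))))))))))))))))))))))))))))))))))))))))))))))))))))))))))))))))))))))))))))))))))))))))))))))))))))))))))))))))))))))))))))))))))))))))))))))))))))))))))))))))))))))))))))))))))))))))))))))))))))))))))))))))))))))))))))))))))))))))))))))))))))))))))))))))))))))))))))))))))))))))))))))))))))))))))))))))))))))))))))))))))))))))))))))))))))))))))))))))))))))))))))))))))))))))))))))))))))))))))))))))))))))))))))))))))))))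
theorem act14_eq (i : Nat) : act14 i = Tab.act T D chk14 i := rfl
theorem c14_0 : allRange (fun i => Nat.beq (act14 i) i) 0 127 = true := by decide +kernel
theorem c14_1 : allRange (fun i => Nat.beq (act14 i) i) 127 127 = true := by decide +kernel
theorem c14_2 : allRange (fun i => Nat.beq (act14 i) i) 254 127 = true := by decide +kernel
theorem c14_3 : allRange (fun i => Nat.beq (act14 i) i) 381 127 = true := by decide +kernel
theorem c14_4 : allRange (fun i => Nat.beq (act14 i) i) 508 127 = true := by decide +kernel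
theorem c14_5 : allRange (fun i => Nat.beq (act14 i) i) 635 127 = true := by decide +kernel
theorem c14_6 : allRange (fun i => Nat.beq (act14 i) i) 762 127 = true := by decide +kernel
theorem c14_7 : allRange (fun i => Nat.beq (act14 i) i) 889 127 = true := by decide +kernel
theorem c14_8 : allRange (fun i => Nat.beq (act14 i) i) 1016 127 = true := by decide +kernel
theorem c14_9 : allRange (fun i => Nat.beq (act14 i) i) 1143 127 = true := by decide +kernel
theorem c14_10 : allRange (fun i => Nat.beq (act14 i) i) 1270 127 = true := by decide +kernel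
theorem c14_11 : allRange (fun i => Nat.beq (act14 i) i) 1397 127 = true := by decide +kernel
theorem c14_12 : allRange (fun i => Nat.beq (act14 i) i) 1524 127 = true := by decide +kernel
theorem c14_13 : allRange (fun i => Nat.beq (act14 i) i) 1651 127 = true := by decide +kernel
theorem c14_14 : allRange (fun i => Nat.beq (act14 i) i) 1778 127 = true := by decide +kernel
theorem c14_15 : allRange (fun i => Nat.beq (act14 i) i) 1905 127 = true := by decide +kernel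
theorem c14_16 : allRange (fun i => Nat.beq (act14 i) i) 2032 26 = true := by decide +kernel
theorem h14 : ∀ i, i < T.N → Tab.relActOK T D chk14 i = true := by
  intro i hi
  rw [Tab.relActOK, ← act14_eq]
  exact (range_glue (range_of_allRange c14_0) (range_glue (range_of_allRange c14_1) (range_glue (range_of_allRange c14_2) (range_glue (range_of_allRange c14_3) (range_glue (range_of_allRange c14_4) (range_glue (range_of_allRange c14_5) (range_glue (range_of_allRange c14_6) (range_glue (range_of_allRange c14_7) (range_glue (range_of_allRange c14_8) (range_glue (range_of_allRange c14_9) (range_glue (range_of_allRange c14_10) (range_glue (range_of_allRange c14_11) (range_glue (range_of_allRange c14_12) (range_glue (range_of_allRange c14_13) (range_glue (range_of_allRange c14_14) (range_glue (range_of_allRange c14_15) (range_of_allRange c14_16))))))))))))))))) i (Nat.zero_le _) hi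

def chk15 : List Nat := [2, 2]
noncomputable def act15 (i : Nat) : Nat := col2 (col2 (i))
theorem act15_eq (i : Nat) : act15 i = Tab.act T D chk15 i := rfl
theorem c15_0 : allRange (fun i => Nat.beq (act15 i) i) 0 2058 = true := by decide +kernel
theorem h15 : ∀ i, i < T.N → Tab.relActOK T D chk15 i = true := by
  intro i hi
  rw [Tab.relActOK, ← act15_eq]
  exact (range_of_allRange c15_0) i (Nat.zero_le _) hi

def chk16 : List Nat := [4, 2, 4, 2]
noncomputable def act16 (i : Nat) : Nat := col4 (col2 (col4 (col2 (i))))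
theorem act16_eq (i : Nat) : act16 i = Tab.act T D chk16 i := rfl
theorem c16_0 : allRange (fun i => Nat.beq (act16 i) i) 0 2058 = true := by decide +kernel
theorem h16 : ∀ i, i < T.N → Tab.relActOK T D chk16 i = true := by
  intro i hi
  rw [Tab.relActOK, ← act16_eq]
  exact (range_of_allRange c16_0) i (Nat.zero_le _) hi

def chk17 : List Nat := [2, 3, 1, 2, 3, 4, 1, 2, 3, 4, 1, 2, 3, 4, 1, 2, 3, 4, 1, 2, 3, 4, 1, 2, 3, 4, 1, 2, 3, 4, 5, 2, 2, 3, 1, 2, 3, 4, 1, 2, 3, 4, 1, 2, 3, 4, 1, 2, 3, 4, 1, 2, 3, 4, 1, 2, 3, 4, 1, 2, 3, 4, 5, 2, 2, 3, 1, 2, 3, 4, 1, 2, 3, 4, 1, 2, 3, 4, 1, 2, 3, 4, 1, 2, 3, 4, 1, 2, 3, 4, 1, 2, 3, 4, 5, 2, 2, 3, 1, 2, 3, 4, 1, 2, 3, 4, 1, 2, 3, 4, 1, 2, 3, 4, 1, 2, 3, 4, 1, 2, 3, 4, 1, 2, 3, 4, 5, 2, 2, 3, 1, 2, 3, 4, 1, 2, 3, 4, 1, 2, 3, 4, 1, 2, 3, 4, 1, 2, 3, 4, 1, 2, 3, 4, 1, 2, 3, 4, 5, 2]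
noncomputable def act17 (i : Nat) : Nat := col2 (col3 (col1 (col2 (col3 (col4 (col1 (col2 (col3 (col4 (col1 (col2 (col3 (col4 (col1 (col2 (col3 (col4 (col1 (col2 (col3 (col4 (col1 (col2 (col3 (col4 (col1 (col2 (col3 (col4 (col5 (col2 (col2 (col3 (col1 (col2 (col3 (col4 (col1 (col2 (col3 (col4 (col1 (col2 (col3 (col4 (col1 (col2 (col3 (col4 (col1 (col2 (col3 (col4 (col1 (col2 (col3 (col4 (col1 (col2 (col3 (col4 (col5 (col2 (col2 (col3 (col1 (col2 (col3 (col4 (col1 (col2 (col3 (col4 (col1 (col2 (col3 (col4 (col1 (col2 (col3 (col4 (col1 (col2 (col3 (col4 (col1 (col2 (col3 (col4 (col1 (col2 (col3 (col4 (col5 (col2 (col2 (col3 (col1 (col2 (col3 (col4 (col1 (col2 (col3 (col4 (col1 (col2 (col3 (col4 (col1 (col2 (col3 (col4 (col1 (col2 (col3 (col4 (col1 (col2 (col3 (col4 (col1 (col2 (col3 (col4 (col5 (col2 (col2 (col3 (col1 (col2 (col3 (col4 (col1 (col2 (col3 (col4 (col1 (col2 (col3 (col4 (col1 (col2 (col3 (col4 (col1 (col2 (col3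 (col4 (col1 (col2 (col3 (col4 (col1 (col2 (col3 (col4 (col5 (col2 (i))))))))))))))))))))))))))))))))))))))))))))))))))))))))))))))))))))))))))))))))))))))))))))))))))))))))))))))))))))))))))))))))))))))))))))))))))))))))))))))))
theorem act17_eq (i : Nat) : act17 i = Tab.act T D chk17 i := rfl
theorem c17_0 : allRange (fun i => Nat.beq (act17 i) i) 0 370 = true := by decide +kernel
theorem c17_1 : allRange (fun i => Nat.beq (act17 i) i) 370 370 = true := by decide +kernel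
theorem c17_2 : allRange (fun i => Nat.beq (act17 i) i) 740 370 = true := by decide +kernel
theorem c17_3 : allRange (fun i => Nat.beq (act17 i) i) 1110 370 = true := by decide +kernel
theorem c17_4 : allRange (fun i => Nat.beq (act17 i) i) 1480 370 = true := by decide +kernel
theorem c17_5 : allRange (fun i => Nat.beq (act17 i) i) 1850 208 = true := by decide +kernel
theorem h17 : ∀ i, i < T.N → Tab.relActOK T D chk17 i = true := by
  intro i hi
  rw [Tab.relActOK, ← act17_eq]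
  exact (range_glue (range_of_allRange c17_0) (range_glue (range_of_allRange c17_1) (range_glue (range_of_allRange c17_2) (range_glue (range_of_allRange c17_3) (range_glue (range_of_allRange c17_4) (range_of_allRange c17_5)))))) i (Nat.zero_le _) hi

def chk18 : List Nat := [2, 3, 1, 2, 3, 4, 1, 2, 3, 4, 1, 2, 3, 4, 1, 2, 3, 4, 1, 2, 3, 4, 1, 2, 3, 4, 1, 2, 3, 4, 5, 4, 5, 4, 3, 2, 1, 4, 3, 2, 1, 4, 3, 2, 1, 4, 3, 2, 1, 4, 3, 2, 1, 4, 3, 2, 1, 4, 3, 2, 1, 3, 2, 4, 2, 5, 4, 3, 2, 1, 4, 3, 2, 1, 4, 3, 2, 1, 4, 3, 2, 1, 4, 3, 2, 1, 4, 3, 2, 1, 4, 3, 2, 1, 3, 2, 4, 2, 3, 1, 2, 3, 4, 1, 2, 3, 4, 1, 2, 3, 4, 1, 2, 3, 4, 1, 2, 3, 4, 1, 2, 3, 4, 1, 2, 3, 4, 5, 2, 2, 3, 1, 2, 3, 4, 1, 2, 3, 4, 1, 2, 3, 4, 1, 2, 3, 4, 1, 2, 3, 4, 1, 2, 3, 4, 1, 2, 3, 4, 5, 2, 4, 2, 3, 1, 2, 3, 4, 1, 2, 3, 4, 1, 2, 3, 4, 1, 2, 3, 4, 1, 2, 3, 4, 1, 2, 3, 4, 1, 2, 3, 4, 5, 2, 4, 2, 3, 1, 2, 3, 4, 1, 2, 3, 4, 1, 2, 3, 4, 1, 2, 3, 4, 1, 2, 3, 4, 1, 2, 3,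 4, 1, 2, 3, 4, 5, 2]
noncomputable def act18 (i : Nat) : Nat := col2 (col3 (col1 (col2 (col3 (col4 (col1 (col2 (col3 (col4 (col1 (col2 (col3 (col4 (col1 (col2 (col3 (col4 (col1 (col2 (col3 (col4 (col1 (col2 (col3 (col4 (col1 (col2 (col3 (col4 (col5 (col4 (col5 (col4 (col3 (col2 (col1 (col4 (col3 (col2 (col1 (col4 (col3 (col2 (col1 (col4 (col3 (col2 (col1 (col4 (col3 (col2 (col1 (col4 (col3 (col2 (col1 (col4 (col3 (col2 (col1 (col3 (col2 (col4 (col2 (col5 (col4 (col3 (col2 (col1 (col4 (col3 (col2 (col1 (col4 (col3 (col2 (col1 (col4 (col3 (col2 (col1 (col4 (col3 (col2 (col1 (col4 (col3 (col2 (col1 (col4 (col3 (col2 (col1 (col3 (col2 (col4 (col2 (col3 (col1 (col2 (col3 (col4 (col1 (col2 (col3 (col4 (col1 (col2 (col3 (col4 (col1 (col2 (col3 (col4 (col1 (col2 (col3 (col4 (col1 (col2 (col3 (col4 (col1 (col2 (col3 (col4 (col5 (col2 (col2 (col3 (col1 (col2 (col3 (col4 (col1 (col2 (col3 (col4 (col1 (col2 (col3 (col4 (col1 (col2 (col3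 (col4 (col1 (col2 (col3 (col4 (col1 (col2 (col3 (col4 (col1 (col2 (col3 (col4 (col5 (col2 (col4 (col2 (col3 (col1 (col2 (col3 (col4 (col1 (col2 (col3 (col4 (col1 (col2 (col3 (col4 (col1 (col2 (col3 (col4 (col1 (col2 (col3 (col4 (col1 (col2 (col3 (col4 (col1 (col2 (col3 (col4 (col5 (col2 (col4 (col2 (col3 (col1 (col2 (col3 (col4 (col1 (col2 (col3 (col4 (col1 (col2 (col3 (col4 (col1 (col2 (col3 (col4 (col1 (col2 (col3 (col4 (col1 (col2 (col3 (col4 (col1 (col2 (col3 (col4 (col5 (col2 (i)))))))))))))))))))))))))))))))))))))))))))))))))))))))))))))))))))))))))))))))))))))))))))))))))))))))))))))))))))))))))))))))))))))))))))))))))))))))))))))))))))))))))))))))))))))))))))))))))))))))))))))))))))))))))))))))))))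
theorem act18_eq (i : Nat) : act18 i = Tab.act T D chk18 i := rfl
theorem c18_0 : allRange (fun i => Nat.beq (act18 i) i) 0 262 = true := by decide +kernel
theorem c18_1 : allRange (fun i => Nat.beq (act18 i) i) 262 262 = true := by decide +kernel
theorem c18_2 : allRange (fun i => Nat.beq (act18 i) i) 524 262 = true := by decide +kernel
theorem c18_3 : allRange (fun i => Nat.beq (act18 i) i) 786 262 = true := by decide +kernel
theorem c18_4 : allRange (fun i => Nat.beq (act18 i) i) 1048 262 = true := by decide +kernel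
theorem c18_5 : allRange (fun i => Nat.beq (act18 i) i) 1310 262 = true := by decide +kernel
theorem c18_6 : allRange (fun i => Nat.beq (act18 i) i) 1572 262 = true := by decide +kernel
theorem c18_7 : allRange (fun i => Nat.beq (act18 i) i) 1834 224 = true := by decide +kernel
theorem h18 : ∀ i, i < T.N → Tab.relActOK T D chk18 i = true := by
  intro i hi
  rw [Tab.relActOK, ← act18_eq]
  exact (range_glue (range_of_allRange c18_0) (range_glue (range_of_allRange c18_1) (range_glue (range_of_allRange c18_2) (range_glue (range_of_allRange c18_3) (range_glue (range_of_allRange c18_4) (range_glue (range_of_allRange c18_5) (range_glue (range_of_allRange c18_6) (range_of_allRange c18_7)))))))) i (Nat.zero_le _) hi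

def chk19 : List Nat := [2, 3, 1, 2, 3, 4, 1, 2, 3, 4, 1, 2, 3, 4, 1, 2, 3, 4, 1, 2, 3, 4, 1, 2, 3, 4, 1, 2, 3, 4, 5, 2, 3, 1, 2, 3, 4, 1, 2, 3, 4, 1, 2, 3, 4, 1, 2, 3, 4, 1, 2, 3, 4, 1, 2, 3, 4, 1, 2, 3, 4, 5, 4, 2, 3, 1, 2, 3, 4, 1, 2, 3, 4, 1, 2, 3, 4, 1, 2, 3, 4, 1, 2, 3, 4, 1, 2, 3, 4, 1, 2, 3, 4, 5, 2, 2, 3, 1, 2, 3, 4, 1, 2, 3, 4, 1, 2, 3, 4, 1, 2, 3, 4, 1, 2, 3, 4, 1, 2, 3, 4, 1, 2, 3, 4, 5, 2, 5, 4, 3, 2, 1, 4, 3, 2, 1, 4, 3, 2, 1, 4, 3, 2, 1, 4, 3, 2, 1, 4, 3, 2, 1, 4, 3, 2, 1, 3, 2, 5, 4, 3, 2, 1, 4, 3, 2, 1, 4, 3, 2, 1, 4, 3, 2, 1, 4, 3, 2, 1, 4, 3, 2, 1, 4, 3, 2, 1, 3, 2, 4, 5, 4, 3, 2, 1, 4, 3, 2, 1, 4, 3, 2, 1, 4, 3, 2, 1, 4, 3, 2, 1, 4, 3, 2, 1, 4, 3, 2, 1, 3, 2, 2, 2, 3, 1, 2, 3, 4, 1, 2, 3, 4, 1, 2, 3, 4, 1, 2, 3, 4, 1, 2, 3, 4, 1, 2, 3, 4, 1, 2, 3, 4, 5, 2, 2, 3, 1, 2, 3, 4, 1, 2, 3, 4, 1, 2, 3, 4, 1, 2, 3, 4, 1, 2, 3, 4, 1, 2, 3, 4, 1, 2, 3, 4, 5, 4, 2, 3, 1, 2, 3, 4, 1, 2, 3, 4, 1, 2, 3, 4, 1, 2, 3,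 4, 1, 2, 3, 4, 1, 2, 3, 4, 1, 2, 3, 4, 5, 4]
noncomputable def act19 (i : Nat) : Nat := col2 (col3 (col1 (col2 (col3 (col4 (col1 (col2 (col3 (col4 (col1 (col2 (col3 (col4 (col1 (col2 (col3 (col4 (col1 (col2 (col3 (col4 (col1 (col2 (col3 (col4 (col1 (col2 (col3 (col4 (col5 (col2 (col3 (col1 (col2 (col3 (col4 (col1 (col2 (col3 (col4 (col1 (col2 (col3 (col4 (col1 (col2 (col3 (col4 (col1 (col2 (col3 (col4 (col1 (col2 (col3 (col4 (col1 (col2 (col3 (col4 (col5 (col4 (col2 (col3 (col1 (col2 (col3 (col4 (col1 (col2 (col3 (col4 (col1 (col2 (col3 (col4 (col1 (col2 (col3 (col4 (col1 (col2 (col3 (col4 (col1 (col2 (col3 (col4 (col1 (col2 (col3 (col4 (col5 (col2 (col2 (col3 (col1 (col2 (col3 (col4 (col1 (col2 (col3 (col4 (col1 (col2 (col3 (col4 (col1 (col2 (col3 (col4 (col1 (col2 (col3 (col4 (col1 (col2 (col3 (col4 (col1 (col2 (col3 (col4 (col5 (col2 (col5 (col4 (col3 (col2 (col1 (col4 (col3 (col2 (col1 (col4 (col3 (col2 (col1 (col4 (col3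 (col2 (col1 (col4 (col3 (col2 (col1 (col4 (col3 (col2 (col1 (col4 (col3 (col2 (col1 (col3 (col2 (col5 (col4 (col3 (col2 (col1 (col4 (col3 (col2 (col1 (col4 (col3 (col2 (col1 (col4 (col3 (col2 (col1 (col4 (col3 (col2 (col1 (col4 (col3 (col2 (col1 (col4 (col3 (col2 (col1 (col3 (col2 (col4 (col5 (col4 (col3 (col2 (col1 (col4 (col3 (col2 (col1 (col4 (col3 (col2 (col1 (col4 (col3 (col2 (col1 (col4 (col3 (col2 (col1 (col4 (col3 (col2 (col1 (col4 (col3 (col2 (col1 (col3 (col2 (col2 (col2 (col3 (col1 (col2 (col3 (col4 (col1 (col2 (col3 (col4 (col1 (col2 (col3 (col4 (col1 (col2 (col3 (col4 (col1 (col2 (col3 (col4 (col1 (col2 (col3 (col4 (col1 (col2 (col3 (col4 (col5 (col2 (col2 (col3 (col1 (col2 (col3 (col4 (col1 (col2 (col3 (col4 (col1 (col2 (col3 (col4 (col1 (col2 (col3 (col4 (col1 (col2 (col3 (col4 (col1 (col2 (col3 (col4 (col1 (col2 (col3 (col4 (col5 (col4 (col2 (col3 (col1 (col2 (col3 (col4 (col1 (col2 (col3 (col4 (col1 (col2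 (col3 (col4 (col1 (col2 (col3 (col4 (col1 (col2 (col3 (col4 (col1 (col2 (col3 (col4 (col1 (col2 (col3 (col4 (col5 (col4 (i))))))))))))))))))))))))))))))))))))))))))))))))))))))))))))))))))))))))))))))))))))))))))))))))))))))))))))))))))))))))))))))))))))))))))))))))))))))))))))))))))))))))))))))))))))))))))))))))))))))))))))))))))))))))))))))))))))))))))))))))))))))))))))))))))))))))))))))))))))))))))))))))))))))))))))))))))))))))))))))
theorem act19_eq (i : Nat) : act19 i = Tab.act T D chk19 i := rfl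
theorem c19_0 : allRange (fun i => Nat.beq (act19 i) i) 0 187 = true := by decide +kernel
theorem c19_1 : allRange (fun i => Nat.beq (act19 i) i) 187 187 = true := by decide +kernel
theorem c19_2 : allRange (fun i => Nat.beq (act19 i) i) 374 187 = true := by decide +kernel
theorem c19_3 : allRange (fun i => Nat.beq (act19 i) i) 561 187 = true := by decide +kernel
theorem c19_4 : allRange (fun i => Nat.beq (act19 i) i) 748 187 = true := by decide +kernel
theorem c19_5 : allRange (fun i => Nat.beq (act19 i) i) 935 187 = true := by decide +kernel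
theorem c19_6 : allRange (fun i => Nat.beq (act19 i) i) 1122 187 = true := by decide +kernel
theorem c19_7 : allRange (fun i => Nat.beq (act19 i) i) 1309 187 = true := by decide +kernel
theorem c19_8 : allRange (fun i => Nat.beq (act19 i) i) 1496 187 = true := by decide +kernel
theorem c19_9 : allRange (fun i => Nat.beq (act19 i) i) 1683 187 = true := by decide +kernel
theorem c19_10 : allRange (fun i => Nat.beq (act19 i) i) 1870 187 = true := by decide +kernel
theorem c19_11 : allRange (fun i => Nat.beq (act19 i) i) 2057 1 = true := by decide +kernel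
theorem h19 : ∀ i, i < T.N → Tab.relActOK T D chk19 i = true := by
  intro i hi
  rw [Tab.relActOK, ← act19_eq]
  exact (range_glue (range_of_allRange c19_0) (range_glue (range_of_allRange c19_1) (range_glue (range_of_allRange c19_2) (range_glue (range_of_allRange c19_3) (range_glue (range_of_allRange c19_4) (range_glue (range_of_allRange c19_5) (range_glue (range_of_allRange c19_6) (range_glue (range_of_allRange c19_7) (range_glue (range_of_allRange c19_8) (range_glue (range_of_allRange c19_9) (range_glue (range_of_allRange c19_10) (range_of_allRange c19_11)))))))))))) i (Nat.zero_le _) hi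

def chk20 : List Nat := [0, 2, 3, 1, 2, 3, 4, 1, 2, 3, 4, 1, 2, 3, 4, 1, 2, 3, 4, 1, 2, 3, 4, 1, 2, 3, 4, 1, 2, 3, 4, 5, 2, 3, 1, 2, 3, 4, 1, 2, 3, 4, 1, 2, 3, 4, 1, 2, 3, 4, 1, 2, 3, 4, 1, 2, 3, 4, 1, 2, 3, 4, 5, 2, 3, 1, 2, 3, 4, 1, 2, 3, 4, 1, 2, 3, 4, 1, 2, 3, 4, 1, 2, 3, 4, 1, 2, 3, 4, 1, 2, 3, 4, 5, 2, 5, 4, 3, 2, 1, 4, 3, 2, 1, 4, 3, 2, 1, 4, 3, 2, 1, 4, 3, 2, 1, 4, 3, 2, 1, 4, 3, 2, 1, 3, 2, 2, 2, 3, 1, 2, 3, 4, 1, 2, 3, 4, 1, 2, 3, 4, 1, 2, 3, 4, 1, 2, 3, 4, 1, 2, 3, 4, 1, 2, 3, 4, 5, 2, 5, 4, 3, 2, 1, 4, 3, 2, 1, 4, 3, 2, 1, 4, 3, 2, 1, 4, 3, 2, 1, 4, 3, 2, 1, 4, 3, 2, 1, 3, 2, 5, 4, 3, 2, 1, 4, 3, 2, 1, 4, 3, 2, 1, 4, 3, 2, 1, 4, 3, 2, 1, 4, 3, 2, 1, 4, 3, 2, 1, 3, 2, 5, 4, 3, 2, 1, 4, 3, 2, 1, 4, 3, 2, 1, 4, 3, 2, 1, 4, 3, 2, 1, 4, 3, 2, 1, 4, 3, 2, 1, 3, 2]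
noncomputable def act20 (i : Nat) : Nat := col0 (col2 (col3 (col1 (col2 (col3 (col4 (col1 (col2 (col3 (col4 (col1 (col2 (col3 (col4 (col1 (col2 (col3 (col4 (col1 (col2 (col3 (col4 (col1 (col2 (col3 (col4 (col1 (col2 (col3 (col4 (col5 (col2 (col3 (col1 (col2 (col3 (col4 (col1 (col2 (col3 (col4 (col1 (col2 (col3 (col4 (col1 (col2 (col3 (col4 (col1 (col2 (col3 (col4 (col1 (col2 (col3 (col4 (col1 (col2 (col3 (col4 (col5 (col2 (col3 (col1 (col2 (col3 (col4 (col1 (col2 (col3 (col4 (col1 (col2 (col3 (col4 (col1 (col2 (col3 (col4 (col1 (col2 (col3 (col4 (col1 (col2 (col3 (col4 (col1 (col2 (col3 (col4 (col5 (col2 (col5 (col4 (col3 (col2 (col1 (col4 (col3 (col2 (col1 (col4 (col3 (col2 (col1 (col4 (col3 (col2 (col1 (col4 (col3 (col2 (col1 (col4 (col3 (col2 (col1 (col4 (col3 (col2 (col1 (col3 (col2 (col2 (col2 (col3 (col1 (col2 (col3 (col4 (col1 (col2 (col3 (col4 (col1 (col2 (col3 (col4 (col1 (col2 (col3 (col4 (col1 (col2 (col3 (col4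 (col1 (col2 (col3 (col4 (col1 (col2 (col3 (col4 (col5 (col2 (col5 (col4 (col3 (col2 (col1 (col4 (col3 (col2 (col1 (col4 (col3 (col2 (col1 (col4 (col3 (col2 (col1 (col4 (col3 (col2 (col1 (col4 (col3 (col2 (col1 (col4 (col3 (col2 (col1 (col3 (col2 (col5 (col4 (col3 (col2 (col1 (col4 (col3 (col2 (col1 (col4 (col3 (col2 (col1 (col4 (col3 (col2 (col1 (col4 (col3 (col2 (col1 (col4 (col3 (col2 (col1 (col4 (col3 (col2 (col1 (col3 (col2 (col5 (col4 (col3 (col2 (col1 (col4 (col3 (col2 (col1 (col4 (col3 (col2 (col1 (col4 (col3 (col2 (col1 (col4 (col3 (col2 (col1 (col4 (col3 (col2 (col1 (col4 (col3 (col2 (col1 (col3 (col2 (i))))))))))))))))))))))))))))))))))))))))))))))))))))))))))))))))))))))))))))))))))))))))))))))))))))))))))))))))))))))))))))))))))))))))))))))))))))))))))))))))))))))))))))))))))))))))))))))))))))))))))))))))))))))))))))))))))))))))))))))))))))))))))))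
theorem act20_eq (i : Nat) : act20 i = Tab.act T D chk20 i := rfl
theorem c20_0 : allRange (fun i => Nat.beq (act20 i) i) 0 236 = true := by decide +kernel
theorem c20_1 : allRange (fun i => Nat.beq (act20 i) i) 236 236 = true := by decide +kernel
theorem c20_2 : allRange (fun i => Nat.beq (act20 i) i) 472 236 = true := by decide +kernel
theorem c20_3 : allRange (fun i => Nat.beq (act20 i) i) 708 236 = true := by decide +kernel
theorem c20_4 : allRange (fun i => Nat.beq (act20 i) i) 944 236 = true := by decide +kernel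
theorem c20_5 : allRange (fun i => Nat.beq (act20 i) i) 1180 236 = true := by decide +kernel
theorem c20_6 : allRange (fun i => Nat.beq (act20 i) i) 1416 236 = true := by decide +kernel
theorem c20_7 : allRange (fun i => Nat.beq (act20 i) i) 1652 236 = true := by decide +kernel
theorem c20_8 : allRange (fun i => Nat.beq (act20 i) i) 1888 170 = true := by decide +kernel
theorem h20 : ∀ i, i < T.N → Tab.relActOK T D chk20 i = true := by
  intro i hi
  rw [Tab.relActOK, ← act20_eq]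
  exact (range_glue (range_of_allRange c20_0) (range_glue (range_of_allRange c20_1) (range_glue (range_of_allRange c20_2) (range_glue (range_of_allRange c20_3) (range_glue (range_of_allRange c20_4) (range_glue (range_of_allRange c20_5) (range_glue (range_of_allRange c20_6) (range_glue (range_of_allRange c20_7) (range_of_allRange c20_8))))))))) i (Nat.zero_le _) hi

def chk21 : List Nat := [3, 2, 3, 1, 2, 3, 4, 1, 2, 3, 4, 1, 2, 3, 4, 1, 2, 3, 4, 1, 2, 3, 4, 1, 2, 3, 4, 1, 2, 3, 4, 5, 4, 2, 5, 4, 3, 2, 1, 4, 3, 2, 1, 4, 3, 2, 1, 4, 3, 2, 1, 4, 3, 2, 1, 4, 3, 2, 1, 4, 3, 2, 1, 3, 2, 2, 2, 3, 1, 2, 3, 4, 1, 2, 3, 4, 1, 2, 3, 4, 1, 2, 3, 4, 1, 2, 3, 4, 1, 2, 3, 4, 1, 2, 3, 4, 5, 4, 5, 4, 3, 2, 1, 4, 3, 2, 1, 4, 3, 2, 1, 4, 3, 2, 1, 4, 3, 2, 1, 4, 3, 2, 1, 4, 3, 2, 1, 3, 2, 2, 2, 3, 1, 2, 3, 4, 1, 2, 3, 4, 1, 2, 3, 4, 1, 2, 3, 4, 1, 2, 3, 4, 1, 2, 3, 4, 1, 2, 3, 4, 5, 2, 5, 4, 3, 2, 1, 4, 3, 2, 1, 4, 3, 2, 1, 4, 3, 2, 1, 4, 3,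 2, 1, 4, 3, 2, 1, 4, 3, 2, 1, 3, 2, 4, 2]
noncomputable def act21 (i : Nat) : Nat := col3 (col2 (col3 (col1 (col2 (col3 (col4 (col1 (col2 (col3 (col4 (col1 (col2 (col3 (col4 (col1 (col2 (col3 (col4 (col1 (col2 (col3 (col4 (col1 (col2 (col3 (col4 (col1 (col2 (col3 (col4 (col5 (col4 (col2 (col5 (col4 (col3 (col2 (col1 (col4 (col3 (col2 (col1 (col4 (col3 (col2 (col1 (col4 (col3 (col2 (col1 (col4 (col3 (col2 (col1 (col4 (col3 (col2 (col1 (col4 (col3 (col2 (col1 (col3 (col2 (col2 (col2 (col3 (col1 (col2 (col3 (col4 (col1 (col2 (col3 (col4 (col1 (col2 (col3 (col4 (col1 (col2 (col3 (col4 (col1 (col2 (col3 (col4 (col1 (col2 (col3 (col4 (col1 (col2 (col3 (col4 (col5 (col4 (col5 (col4 (col3 (col2 (col1 (col4 (col3 (col2 (col1 (col4 (col3 (col2 (col1 (col4 (col3 (col2 (col1 (col4 (col3 (col2 (col1 (col4 (col3 (col2 (col1 (col4 (col3 (col2 (col1 (col3 (col2 (col2 (col2 (col3 (col1 (col2 (col3 (col4 (col1 (col2 (col3 (col4 (col1 (col2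 (col3 (col4 (col1 (col2 (col3 (col4 (col1 (col2 (col3 (col4 (col1 (col2 (col3 (col4 (col1 (col2 (col3 (col4 (col5 (col2 (col5 (col4 (col3 (col2 (col1 (col4 (col3 (col2 (col1 (col4 (col3 (col2 (col1 (col4 (col3 (col2 (col1 (col4 (col3 (col2 (col1 (col4 (col3 (col2 (col1 (col4 (col3 (col2 (col1 (col3 (col2 (col4 (col2 (i)))))))))))))))))))))))))))))))))))))))))))))))))))))))))))))))))))))))))))))))))))))))))))))))))))))))))))))))))))))))))))))))))))))))))))))))))))))))))))))))))))))))))))))))))))))))))))))))))))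
theorem act21_eq (i : Nat) : act21 i = Tab.act T D chk21 i := rfl
theorem c21_0 : allRange (fun i => Nat.beq (act21 i) i) 0 304 = true := by decide +kernel
theorem c21_1 : allRange (fun i => Nat.beq (act21 i) i) 304 304 = true := by decide +kernel
theorem c21_2 : allRange (fun i => Nat.beq (act21 i) i) 608 304 = true := by decide +kernel
theorem c21_3 : allRange (fun i => Nat.beq (act21 i) i) 912 304 = true := by decide +kernel
theorem c21_4 : allRange (fun i => Nat.beq (act21 i) i) 1216 304 = true := by decide +kernel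
theorem c21_5 : allRange (fun i => Nat.beq (act21 i) i) 1520 304 = true := by decide +kernel
theorem c21_6 : allRange (fun i => Nat.beq (act21 i) i) 1824 234 = true := by decide +kernel
theorem h21 : ∀ i, i < T.N → Tab.relActOK T D chk21 i = true := by
  intro i hi
  rw [Tab.relActOK, ← act21_eq]
  exact (range_glue (range_of_allRange c21_0) (range_glue (range_of_allRange c21_1) (range_glue (range_of_allRange c21_2) (range_glue (range_of_allRange c21_3) (range_glue (range_of_allRange c21_4) (range_glue (range_of_allRange c21_5) (range_of_allRange c21_6))))))) i (Nat.zero_le _) hi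

def chk22 : List Nat := [5, 2, 3, 1, 2, 3, 4, 1, 2, 3, 4, 1, 2, 3, 4, 1, 2, 3, 4, 1, 2, 3, 4, 1, 2, 3, 4, 1, 2, 3, 4, 5, 4, 5, 4, 3, 2, 1, 4, 3, 2, 1, 4, 3, 2, 1, 4, 3, 2, 1, 4, 3, 2, 1, 4, 3, 2, 1, 4, 3, 2, 1, 3, 2, 4, 2, 3, 1, 2, 3, 4, 1, 2, 3, 4, 1, 2, 3, 4, 1, 2, 3, 4, 1, 2, 3, 4, 1, 2, 3, 4, 1, 2, 3, 4, 5, 4, 2]
noncomputable def act22 (i : Nat) : Nat := col5 (col2 (col3 (col1 (col2 (col3 (col4 (col1 (col2 (col3 (col4 (col1 (col2 (col3 (col4 (col1 (col2 (col3 (col4 (col1 (col2 (col3 (col4 (col1 (col2 (col3 (col4 (col1 (col2 (col3 (col4 (col5 (col4 (col5 (col4 (col3 (col2 (col1 (col4 (col3 (col2 (col1 (col4 (col3 (col2 (col1 (col4 (col3 (col2 (col1 (col4 (col3 (col2 (col1 (col4 (col3 (col2 (col1 (col4 (col3 (col2 (col1 (col3 (col2 (col4 (col2 (col3 (col1 (col2 (col3 (col4 (col1 (col2 (col3 (col4 (col1 (col2 (col3 (col4 (col1 (col2 (col3 (col4 (col1 (col2 (col3 (col4 (col1 (col2 (col3 (col4 (col1 (col2 (col3 (col4 (col5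 (col4 (col2 (i))))))))))))))))))))))))))))))))))))))))))))))))))))))))))))))))))))))))))))))))))))))))))))))))))
theorem act22_eq (i : Nat) : act22 i = Tab.act T D chk22 i := rfl
theorem c22_0 : allRange (fun i => Nat.beq (act22 i) i) 0 600 = true := by decide +kernel
theorem c22_1 : allRange (fun i => Nat.beq (act22 i) i) 600 600 = true := by decide +kernel
theorem c22_2 : allRange (fun i => Nat.beq (act22 i) i) 1200 600 = true := by decide +kernel
theorem c22_3 : allRange (fun i => Nat.beq (act22 i) i) 1800 258 = true := by decide +kernel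
theorem h22 : ∀ i, i < T.N → Tab.relActOK T D chk22 i = true := by
  intro i hi
  rw [Tab.relActOK, ← act22_eq]
  exact (range_glue (range_of_allRange c22_0) (range_glue (range_of_allRange c22_1) (range_glue (range_of_allRange c22_2) (range_of_allRange c22_3)))) i (Nat.zero_le _) hi

def chk23 : List Nat := [2, 3, 2, 3, 2, 3, 2, 3, 2, 3, 2, 3, 2, 3, 2, 3, 2, 3, 2, 3]
noncomputable def act23 (i : Nat) : Nat := col2 (col3 (col2 (col3 (col2 (col3 (col2 (col3 (col2 (col3 (col2 (col3 (col2 (col3 (col2 (col3 (col2 (col3 (col2 (col3 (i))))))))))))))))))))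
theorem act23_eq (i : Nat) : act23 i = Tab.act T D chk23 i := rfl
theorem c23_0 : allRange (fun i => Nat.beq (act23 i) i) 0 2058 = true := by decide +kernel
theorem h23 : ∀ i, i < T.N → Tab.relActOK T D chk23 i = true := by
  intro i hi
  rw [Tab.relActOK, ← act23_eq]
  exact (range_of_allRange c23_0) i (Nat.zero_le _) hi

def chk24 : List Nat := [3, 4, 3, 4, 3, 4]
noncomputable def act24 (i : Nat) : Nat := col3 (col4 (col3 (col4 (col3 (col4 (i))))))
theorem act24_eq (i : Nat) : act24 i = Tab.act T D chk24 i := rfl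
theorem c24_0 : allRange (fun i => Nat.beq (act24 i) i) 0 2058 = true := by decide +kernel
theorem h24 : ∀ i, i < T.N → Tab.relActOK T D chk24 i = true := by
  intro i hi
  rw [Tab.relActOK, ← act24_eq]
  exact (range_of_allRange c24_0) i (Nat.zero_le _) hi

def chk25 : List Nat := [3, 5, 3, 5, 3, 5]
noncomputable def act25 (i : Nat) : Nat := col3 (col5 (col3 (col5 (col3 (col5 (i))))))
theorem act25_eq (i : Nat) : act25 i = Tab.act T D chk25 i := rfl
theorem c25_0 : allRange (fun i => Nat.beq (act25 i) i) 0 2058 = true := by decide +kernel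
theorem h25 : ∀ i, i < T.N → Tab.relActOK T D chk25 i = true := by
  intro i hi
  rw [Tab.relActOK, ← act25_eq]
  exact (range_of_allRange c25_0) i (Nat.zero_le _) hi

def chk26 : List Nat := [0, 2, 0, 2]
noncomputable def act26 (i : Nat) : Nat := col0 (col2 (col0 (col2 (i))))
theorem act26_eq (i : Nat) : act26 i = Tab.act T D chk26 i := rfl
theorem c26_0 : allRange (fun i => Nat.beq (act26 i) i) 0 2058 = true := by decide +kernel
theorem h26 : ∀ i, i < T.N → Tab.relActOK T D chk26 i = true := by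
  intro i hi
  rw [Tab.relActOK, ← act26_eq]
  exact (range_of_allRange c26_0) i (Nat.zero_le _) hi

def chk27 : List Nat := [0, 3, 0, 3]
noncomputable def act27 (i : Nat) : Nat := col0 (col3 (col0 (col3 (i))))
theorem act27_eq (i : Nat) : act27 i = Tab.act T D chk27 i := rfl
theorem c27_0 : allRange (fun i => Nat.beq (act27 i) i) 0 2058 = true := by decide +kernel
theorem h27 : ∀ i, i < T.N → Tab.relActOK T D chk27 i = true := by
  intro i hi
  rw [Tab.relActOK, ← act27_eq]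
  exact (range_of_allRange c27_0) i (Nat.zero_le _) hi

def chk28 : List Nat := [0, 4, 0, 4]
noncomputable def act28 (i : Nat) : Nat := col0 (col4 (col0 (col4 (i))))
theorem act28_eq (i : Nat) : act28 i = Tab.act T D chk28 i := rfl
theorem c28_0 : allRange (fun i => Nat.beq (act28 i) i) 0 2058 = true := by decide +kernel
theorem h28 : ∀ i, i < T.N → Tab.relActOK T D chk28 i = true := by
  intro i hi
  rw [Tab.relActOK, ← act28_eq]
  exact (range_of_allRange c28_0) i (Nat.zero_le _) hi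

def chk29 : List Nat := [0, 5, 0, 5]
noncomputable def act29 (i : Nat) : Nat := col0 (col5 (col0 (col5 (i))))
theorem act29_eq (i : Nat) : act29 i = Tab.act T D chk29 i := rfl
theorem c29_0 : allRange (fun i => Nat.beq (act29 i) i) 0 2058 = true := by decide +kernel
theorem h29 : ∀ i, i < T.N → Tab.relActOK T D chk29 i = true := by
  intro i hi
  rw [Tab.relActOK, ← act29_eq]
  exact (range_of_allRange c29_0) i (Nat.zero_le _) hi

def chk30 : List Nat := [2, 4, 2, 4]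
noncomputable def act30 (i : Nat) : Nat := col2 (col4 (col2 (col4 (i))))
theorem act30_eq (i : Nat) : act30 i = Tab.act T D chk30 i := rfl
theorem c30_0 : allRange (fun i => Nat.beq (act30 i) i) 0 2058 = true := by decide +kernel
theorem h30 : ∀ i, i < T.N → Tab.relActOK T D chk30 i = true := by
  intro i hi
  rw [Tab.relActOK, ← act30_eq]
  exact (range_of_allRange c30_0) i (Nat.zero_le _) hi

def chk31 : List Nat := [2, 5, 2, 5]
noncomputable def act31 (i : Nat) : Nat := col2 (col5 (col2 (col5 (i))))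
theorem act31_eq (i : Nat) : act31 i = Tab.act T D chk31 i := rfl
theorem c31_0 : allRange (fun i => Nat.beq (act31 i) i) 0 2058 = true := by decide +kernel
theorem h31 : ∀ i, i < T.N → Tab.relActOK T D chk31 i = true := by
  intro i hi
  rw [Tab.relActOK, ← act31_eq]
  exact (range_of_allRange c31_0) i (Nat.zero_le _) hi

def chk32 : List Nat := [4, 5, 4, 5]
noncomputable def act32 (i : Nat) : Nat := col4 (col5 (col4 (col5 (i))))
theorem act32_eq (i : Nat) : act32 i = Tab.act T D chk32 i := rfl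
theorem c32_0 : allRange (fun i => Nat.beq (act32 i) i) 0 2058 = true := by decide +kernel
theorem h32 : ∀ i, i < T.N → Tab.relActOK T D chk32 i = true := by
  intro i hi
  rw [Tab.relActOK, ← act32_eq]
  exact (range_of_allRange c32_0) i (Nat.zero_le _) hi

def chk33 : List Nat := [0, 3, 2, 3, 2, 3, 2, 3, 2, 3, 2]
noncomputable def act33 (i : Nat) : Nat := col0 (col3 (col2 (col3 (col2 (col3 (col2 (col3 (col2 (col3 (col2 (i)))))))))))
theorem act33_eq (i : Nat) : act33 i = Tab.act T D chk33 i := rfl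
theorem c33_0 : allRange (fun i => Nat.beq (act33 i) i) 0 2058 = true := by decide +kernel
theorem h33 : ∀ i, i < T.N → Tab.relActOK T D chk33 i = true := by
  intro i hi
  rw [Tab.relActOK, ← act33_eq]
  exact (range_of_allRange c33_0) i (Nat.zero_le _) hi

def chk34 : List Nat := [1, 0, 1, 0, 1, 0, 1, 0, 1, 1]
noncomputable def act34 (i : Nat) : Nat := col1 (col0 (col1 (col0 (col1 (col0 (col1 (col0 (col1 (col1 (i))))))))))
theorem act34_eq (i : Nat) : act34 i = Tab.act T D chk34 i := rfl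
theorem c34_0 : allRange (fun i => Nat.beq (act34 i) i) 0 2058 = true := by decide +kernel
theorem h34 : ∀ i, i < T.N → Tab.relActOK T D chk34 i = true := by
  intro i hi
  rw [Tab.relActOK, ← act34_eq]
  exact (range_of_allRange c34_0) i (Nat.zero_le _) hi

def chk35 : List Nat := [1, 1]
noncomputable def act35 (i : Nat) : Nat := col1 (col1 (i))
theorem act35_eq (i : Nat) : act35 i = Tab.act T D chk35 i := rfl
theorem c35_0 : allRange (fun i => Nat.beq (act35 i) i) 0 2058 = true := by decide +kernel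
theorem h35 : ∀ i, i < T.N → Tab.relActOK T D chk35 i = true := by
  intro i hi
  rw [Tab.relActOK, ← act35_eq]
  exact (range_of_allRange c35_0) i (Nat.zero_le _) hi

def chk36 : List Nat := [1, 1]
noncomputable def act36 (i : Nat) : Nat := col1 (col1 (i))
theorem act36_eq (i : Nat) : act36 i = Tab.act T D chk36 i := rfl
theorem c36_0 : allRange (fun i => Nat.beq (act36 i) i) 0 2058 = true := by decide +kernel
theorem h36 : ∀ i, i < T.N → Tab.relActOK T D chk36 i = true := by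
  intro i hi
  rw [Tab.relActOK, ← act36_eq]
  exact (range_of_allRange c36_0) i (Nat.zero_le _) hi

def chk37 : List Nat := [1, 2, 1, 2, 1, 2]
noncomputable def act37 (i : Nat) : Nat := col1 (col2 (col1 (col2 (col1 (col2 (i))))))
theorem act37_eq (i : Nat) : act37 i = Tab.act T D chk37 i := rfl
theorem c37_0 : allRange (fun i => Nat.beq (act37 i) i) 0 2058 = true := by decide +kernel
theorem h37 : ∀ i, i < T.N → Tab.relActOK T D chk37 i = true := by
  intro i hi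
  rw [Tab.relActOK, ← act37_eq]
  exact (range_of_allRange c37_0) i (Nat.zero_le _) hi

def chk38 : List Nat := [1, 1]
noncomputable def act38 (i : Nat) : Nat := col1 (col1 (i))
theorem act38_eq (i : Nat) : act38 i = Tab.act T D chk38 i := rfl
theorem c38_0 : allRange (fun i => Nat.beq (act38 i) i) 0 2058 = true := by decide +kernel
theorem h38 : ∀ i, i < T.N → Tab.relActOK T D chk38 i = true := by
  intro i hi
  rw [Tab.relActOK, ← act38_eq]
  exact (range_of_allRange c38_0) i (Nat.zero_le _) hi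

def chk39 : List Nat := [2, 2]
noncomputable def act39 (i : Nat) : Nat := col2 (col2 (i))
theorem act39_eq (i : Nat) : act39 i = Tab.act T D chk39 i := rfl
theorem c39_0 : allRange (fun i => Nat.beq (act39 i) i) 0 2058 = true := by decide +kernel
theorem h39 : ∀ i, i < T.N → Tab.relActOK T D chk39 i = true := by
  intro i hi
  rw [Tab.relActOK, ← act39_eq]
  exact (range_of_allRange c39_0) i (Nat.zero_le _) hi

def chk40 : List Nat := [3, 1, 3, 1]
noncomputable def act40 (i : Nat) : Nat := col3 (col1 (col3 (col1 (i))))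
theorem act40_eq (i : Nat) : act40 i = Tab.act T D chk40 i := rfl
theorem c40_0 : allRange (fun i => Nat.beq (act40 i) i) 0 2058 = true := by decide +kernel
theorem h40 : ∀ i, i < T.N → Tab.relActOK T D chk40 i = true := by
  intro i hi
  rw [Tab.relActOK, ← act40_eq]
  exact (range_of_allRange c40_0) i (Nat.zero_le _) hi

def chk41 : List Nat := [1, 1]
noncomputable def act41 (i : Nat) : Nat := col1 (col1 (i))
theorem act41_eq (i : Nat) : act41 i = Tab.act T D chk41 i := rfl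
theorem c41_0 : allRange (fun i => Nat.beq (act41 i) i) 0 2058 = true := by decide +kernel
theorem h41 : ∀ i, i < T.N → Tab.relActOK T D chk41 i = true := by
  intro i hi
  rw [Tab.relActOK, ← act41_eq]
  exact (range_of_allRange c41_0) i (Nat.zero_le _) hi

def chk42 : List Nat := [1, 1]
noncomputable def act42 (i : Nat) : Nat := col1 (col1 (i))
theorem act42_eq (i : Nat) : act42 i = Tab.act T D chk42 i := rfl
theorem c42_0 : allRange (fun i => Nat.beq (act42 i) i) 0 2058 = true := by decide +kernel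
theorem h42 : ∀ i, i < T.N → Tab.relActOK T D chk42 i = true := by
  intro i hi
  rw [Tab.relActOK, ← act42_eq]
  exact (range_of_allRange c42_0) i (Nat.zero_le _) hi

def chk43 : List Nat := [4, 1, 4, 1]
noncomputable def act43 (i : Nat) : Nat := col4 (col1 (col4 (col1 (i))))
theorem act43_eq (i : Nat) : act43 i = Tab.act T D chk43 i := rfl
theorem c43_0 : allRange (fun i => Nat.beq (act43 i) i) 0 2058 = true := by decide +kernel
theorem h43 : ∀ i, i < T.N → Tab.relActOK T D chk43 i = true := by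
  intro i hi
  rw [Tab.relActOK, ← act43_eq]
  exact (range_of_allRange c43_0) i (Nat.zero_le _) hi

def chk44 : List Nat := [1, 1]
noncomputable def act44 (i : Nat) : Nat := col1 (col1 (i))
theorem act44_eq (i : Nat) : act44 i = Tab.act T D chk44 i := rfl
theorem c44_0 : allRange (fun i => Nat.beq (act44 i) i) 0 2058 = true := by decide +kernel
theorem h44 : ∀ i, i < T.N → Tab.relActOK T D chk44 i = true := by
  intro i hi
  rw [Tab.relActOK, ← act44_eq]
  exact (range_of_allRange c44_0) i (Nat.zero_le _) hi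

def chk45 : List Nat := [1, 1]
noncomputable def act45 (i : Nat) : Nat := col1 (col1 (i))
theorem act45_eq (i : Nat) : act45 i = Tab.act T D chk45 i := rfl
theorem c45_0 : allRange (fun i => Nat.beq (act45 i) i) 0 2058 = true := by decide +kernel
theorem h45 : ∀ i, i < T.N → Tab.relActOK T D chk45 i = true := by
  intro i hi
  rw [Tab.relActOK, ← act45_eq]
  exact (range_of_allRange c45_0) i (Nat.zero_le _) hi

def chk46 : List Nat := [5, 1, 5, 1]
noncomputable def act46 (i : Nat) : Nat := col5 (col1 (col5 (col1 (i))))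
theorem act46_eq (i : Nat) : act46 i = Tab.act T D chk46 i := rfl
theorem c46_0 : allRange (fun i => Nat.beq (act46 i) i) 0 2058 = true := by decide +kernel
theorem h46 : ∀ i, i < T.N → Tab.relActOK T D chk46 i = true := by
  intro i hi
  rw [Tab.relActOK, ← act46_eq]
  exact (range_of_allRange c46_0) i (Nat.zero_le _) hi

def chk47 : List Nat := [1, 1]
noncomputable def act47 (i : Nat) : Nat := col1 (col1 (i))
theorem act47_eq (i : Nat) : act47 i = Tab.act T D chk47 i := rfl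
theorem c47_0 : allRange (fun i => Nat.beq (act47 i) i) 0 2058 = true := by decide +kernel
theorem h47 : ∀ i, i < T.N → Tab.relActOK T D chk47 i = true := by
  intro i hi
  rw [Tab.relActOK, ← act47_eq]
  exact (range_of_allRange c47_0) i (Nat.zero_le _) hi

def chk48 : List Nat := [1, 1]
noncomputable def act48 (i : Nat) : Nat := col1 (col1 (i))
theorem act48_eq (i : Nat) : act48 i = Tab.act T D chk48 i := rfl
theorem c48_0 : allRange (fun i => Nat.beq (act48 i) i) 0 2058 = true := by decide +kernel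
theorem h48 : ∀ i, i < T.N → Tab.relActOK T D chk48 i = true := by
  intro i hi
  rw [Tab.relActOK, ← act48_eq]
  exact (range_of_allRange c48_0) i (Nat.zero_le _) hi

def chk49 : List Nat := [6, 1, 6, 1]
noncomputable def act49 (i : Nat) : Nat := col6 (col1 (col6 (col1 (i))))
theorem act49_eq (i : Nat) : act49 i = Tab.act T D chk49 i := rfl
theorem c49_0 : allRange (fun i => Nat.beq (act49 i) i) 0 2058 = true := by decide +kernel
theorem h49 : ∀ i, i < T.N → Tab.relActOK T D chk49 i = true := by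
  intro i hi
  rw [Tab.relActOK, ← act49_eq]
  exact (range_of_allRange c49_0) i (Nat.zero_le _) hi

def chk50 : List Nat := [1, 1]
noncomputable def act50 (i : Nat) : Nat := col1 (col1 (i))
theorem act50_eq (i : Nat) : act50 i = Tab.act T D chk50 i := rfl
theorem c50_0 : allRange (fun i => Nat.beq (act50 i) i) 0 2058 = true := by decide +kernel
theorem h50 : ∀ i, i < T.N → Tab.relActOK T D chk50 i = true := by
  intro i hi
  rw [Tab.relActOK, ← act50_eq]
  exact (range_of_allRange c50_0) i (Nat.zero_le _) hi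

def chk51 : List Nat := [1, 1]
noncomputable def act51 (i : Nat) : Nat := col1 (col1 (i))
theorem act51_eq (i : Nat) : act51 i = Tab.act T D chk51 i := rfl
theorem c51_0 : allRange (fun i => Nat.beq (act51 i) i) 0 2058 = true := by decide +kernel
theorem h51 : ∀ i, i < T.N → Tab.relActOK T D chk51 i = true := by
  intro i hi
  rw [Tab.relActOK, ← act51_eq]
  exact (range_of_allRange c51_0) i (Nat.zero_le _) hi

def chk52 : List Nat := [6, 5, 6, 5, 6, 5, 6, 5, 6, 6]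
noncomputable def act52 (i : Nat) : Nat := col6 (col5 (col6 (col5 (col6 (col5 (col6 (col5 (col6 (col6 (i))))))))))
theorem act52_eq (i : Nat) : act52 i = Tab.act T D chk52 i := rfl
theorem c52_0 : allRange (fun i => Nat.beq (act52 i) i) 0 2058 = true := by decide +kernel
theorem h52 : ∀ i, i < T.N → Tab.relActOK T D chk52 i = true := by
  intro i hi
  rw [Tab.relActOK, ← act52_eq]
  exact (range_of_allRange c52_0) i (Nat.zero_le _) hi

def chk53 : List Nat := [6, 6]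
noncomputable def act53 (i : Nat) : Nat := col6 (col6 (i))
theorem act53_eq (i : Nat) : act53 i = Tab.act T D chk53 i := rfl
theorem c53_0 : allRange (fun i => Nat.beq (act53 i) i) 0 2058 = true := by decide +kernel
theorem h53 : ∀ i, i < T.N → Tab.relActOK T D chk53 i = true := by
  intro i hi
  rw [Tab.relActOK, ← act53_eq]
  exact (range_of_allRange c53_0) i (Nat.zero_le _) hi

def chk54 : List Nat := [6, 6]
noncomputable def act54 (i : Nat) : Nat := col6 (col6 (i))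
theorem act54_eq (i : Nat) : act54 i = Tab.act T D chk54 i := rfl
theorem c54_0 : allRange (fun i => Nat.beq (act54 i) i) 0 2058 = true := by decide +kernel
theorem h54 : ∀ i, i < T.N → Tab.relActOK T D chk54 i = true := by
  intro i hi
  rw [Tab.relActOK, ← act54_eq]
  exact (range_of_allRange c54_0) i (Nat.zero_le _) hi

def chk55 : List Nat := [6, 3, 6, 3, 6, 3]
noncomputable def act55 (i : Nat) : Nat := col6 (col3 (col6 (col3 (col6 (col3 (i))))))
theorem act55_eq (i : Nat) : act55 i = Tab.act T D chk55 i := rfl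
theorem c55_0 : allRange (fun i => Nat.beq (act55 i) i) 0 2058 = true := by decide +kernel
theorem h55 : ∀ i, i < T.N → Tab.relActOK T D chk55 i = true := by
  intro i hi
  rw [Tab.relActOK, ← act55_eq]
  exact (range_of_allRange c55_0) i (Nat.zero_le _) hi

def chk56 : List Nat := [6, 6]
noncomputable def act56 (i : Nat) : Nat := col6 (col6 (i))
theorem act56_eq (i : Nat) : act56 i = Tab.act T D chk56 i := rfl
theorem c56_0 : allRange (fun i => Nat.beq (act56 i) i) 0 2058 = true := by decide +kernel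
theorem h56 : ∀ i, i < T.N → Tab.relActOK T D chk56 i = true := by
  intro i hi
  rw [Tab.relActOK, ← act56_eq]
  exact (range_of_allRange c56_0) i (Nat.zero_le _) hi

def chk57 : List Nat := [3, 3]
noncomputable def act57 (i : Nat) : Nat := col3 (col3 (i))
theorem act57_eq (i : Nat) : act57 i = Tab.act T D chk57 i := rfl
theorem c57_0 : allRange (fun i => Nat.beq (act57 i) i) 0 2058 = true := by decide +kernel
theorem h57 : ∀ i, i < T.N → Tab.relActOK T D chk57 i = true := by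
  intro i hi
  rw [Tab.relActOK, ← act57_eq]
  exact (range_of_allRange c57_0) i (Nat.zero_le _) hi

def chk58 : List Nat := [0, 6, 0, 6]
noncomputable def act58 (i : Nat) : Nat := col0 (col6 (col0 (col6 (i))))
theorem act58_eq (i : Nat) : act58 i = Tab.act T D chk58 i := rfl
theorem c58_0 : allRange (fun i => Nat.beq (act58 i) i) 0 2058 = true := by decide +kernel
theorem h58 : ∀ i, i < T.N → Tab.relActOK T D chk58 i = true := by
  intro i hi
  rw [Tab.relActOK, ← act58_eq]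
  exact (range_of_allRange c58_0) i (Nat.zero_le _) hi

def chk59 : List Nat := [6, 6]
noncomputable def act59 (i : Nat) : Nat := col6 (col6 (i))
theorem act59_eq (i : Nat) : act59 i = Tab.act T D chk59 i := rfl
theorem c59_0 : allRange (fun i => Nat.beq (act59 i) i) 0 2058 = true := by decide +kernel
theorem h59 : ∀ i, i < T.N → Tab.relActOK T D chk59 i = true := by
  intro i hi
  rw [Tab.relActOK, ← act59_eq]
  exact (range_of_allRange c59_0) i (Nat.zero_le _) hi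

def chk60 : List Nat := [6, 6]
noncomputable def act60 (i : Nat) : Nat := col6 (col6 (i))
theorem act60_eq (i : Nat) : act60 i = Tab.act T D chk60 i := rfl
theorem c60_0 : allRange (fun i => Nat.beq (act60 i) i) 0 2058 = true := by decide +kernel
theorem h60 : ∀ i, i < T.N → Tab.relActOK T D chk60 i = true := by
  intro i hi
  rw [Tab.relActOK, ← act60_eq]
  exact (range_of_allRange c60_0) i (Nat.zero_le _) hi

def chk61 : List Nat := [2, 6, 2, 6]
noncomputable def act61 (i : Nat) : Nat := col2 (col6 (col2 (col6 (i))))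
theorem act61_eq (i : Nat) : act61 i = Tab.act T D chk61 i := rfl
theorem c61_0 : allRange (fun i => Nat.beq (act61 i) i) 0 2058 = true := by decide +kernel
theorem h61 : ∀ i, i < T.N → Tab.relActOK T D chk61 i = true := by
  intro i hi
  rw [Tab.relActOK, ← act61_eq]
  exact (range_of_allRange c61_0) i (Nat.zero_le _) hi

def chk62 : List Nat := [6, 6]
noncomputable def act62 (i : Nat) : Nat := col6 (col6 (i))
theorem act62_eq (i : Nat) : act62 i = Tab.act T D chk62 i := rfl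
theorem c62_0 : allRange (fun i => Nat.beq (act62 i) i) 0 2058 = true := by decide +kernel
theorem h62 : ∀ i, i < T.N → Tab.relActOK T D chk62 i = true := by
  intro i hi
  rw [Tab.relActOK, ← act62_eq]
  exact (range_of_allRange c62_0) i (Nat.zero_le _) hi

def chk63 : List Nat := [6, 6]
noncomputable def act63 (i : Nat) : Nat := col6 (col6 (i))
theorem act63_eq (i : Nat) : act63 i = Tab.act T D chk63 i := rfl
theorem c63_0 : allRange (fun i => Nat.beq (act63 i) i) 0 2058 = true := by decide +kernel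
theorem h63 : ∀ i, i < T.N → Tab.relActOK T D chk63 i = true := by
  intro i hi
  rw [Tab.relActOK, ← act63_eq]
  exact (range_of_allRange c63_0) i (Nat.zero_le _) hi

def chk64 : List Nat := [4, 6, 4, 6]
noncomputable def act64 (i : Nat) : Nat := col4 (col6 (col4 (col6 (i))))
theorem act64_eq (i : Nat) : act64 i = Tab.act T D chk64 i := rfl
theorem c64_0 : allRange (fun i => Nat.beq (act64 i) i) 0 2058 = true := by decide +kernel
theorem h64 : ∀ i, i < T.N → Tab.relActOK T D chk64 i = true := by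
  intro i hi
  rw [Tab.relActOK, ← act64_eq]
  exact (range_of_allRange c64_0) i (Nat.zero_le _) hi

def chk65 : List Nat := [6, 6]
noncomputable def act65 (i : Nat) : Nat := col6 (col6 (i))
theorem act65_eq (i : Nat) : act65 i = Tab.act T D chk65 i := rfl
theorem c65_0 : allRange (fun i => Nat.beq (act65 i) i) 0 2058 = true := by decide +kernel
theorem h65 : ∀ i, i < T.N → Tab.relActOK T D chk65 i = true := by
  intro i hi
  rw [Tab.relActOK, ← act65_eq]
  exact (range_of_allRange c65_0) i (Nat.zero_le _) hi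

def chk66 : List Nat := [6, 6]
noncomputable def act66 (i : Nat) : Nat := col6 (col6 (i))
theorem act66_eq (i : Nat) : act66 i = Tab.act T D chk66 i := rfl
theorem c66_0 : allRange (fun i => Nat.beq (act66 i) i) 0 2058 = true := by decide +kernel
theorem h66 : ∀ i, i < T.N → Tab.relActOK T D chk66 i = true := by
  intro i hi
  rw [Tab.relActOK, ← act66_eq]
  exact (range_of_allRange c66_0) i (Nat.zero_le _) hi

def chk67 : List Nat := [6, 5, 6, 4, 5]
noncomputable def act67 (i : Nat) : Nat := col6 (col5 (col6 (col4 (col5 (i)))))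
theorem act67_eq (i : Nat) : act67 i = Tab.act T D chk67 i := rfl
theorem c67_0 : allRange (fun i => Nat.beq (act67 i) i) 0 2058 = true := by decide +kernel
theorem h67 : ∀ i, i < T.N → Tab.relActOK T D chk67 i = true := by
  intro i hi
  rw [Tab.relActOK, ← act67_eq]
  exact (range_of_allRange c67_0) i (Nat.zero_le _) hi

def chk68 : List Nat := [5, 5]
noncomputable def act68 (i : Nat) : Nat := col5 (col5 (i))
theorem act68_eq (i : Nat) : act68 i = Tab.act T D chk68 i := rfl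
theorem c68_0 : allRange (fun i => Nat.beq (act68 i) i) 0 2058 = true := by decide +kernel
theorem h68 : ∀ i, i < T.N → Tab.relActOK T D chk68 i = true := by
  intro i hi
  rw [Tab.relActOK, ← act68_eq]
  exact (range_of_allRange c68_0) i (Nat.zero_le _) hi

def chk69 : List Nat := [5, 4, 5, 4]
noncomputable def act69 (i : Nat) : Nat := col5 (col4 (col5 (col4 (i))))
theorem act69_eq (i : Nat) : act69 i = Tab.act T D chk69 i := rfl
theorem c69_0 : allRange (fun i => Nat.beq (act69 i) i) 0 2058 = true := by decide +kernel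
theorem h69 : ∀ i, i < T.N → Tab.relActOK T D chk69 i = true := by
  intro i hi
  rw [Tab.relActOK, ← act69_eq]
  exact (range_of_allRange c69_0) i (Nat.zero_le _) hi

def chk70 : List Nat := [1, 4, 1, 4]
noncomputable def act70 (i : Nat) : Nat := col1 (col4 (col1 (col4 (i))))
theorem act70_eq (i : Nat) : act70 i = Tab.act T D chk70 i := rfl
theorem c70_0 : allRange (fun i => Nat.beq (act70 i) i) 0 2058 = true := by decide +kernel
theorem h70 : ∀ i, i < T.N → Tab.relActOK T D chk70 i = true := by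
  intro i hi
  rw [Tab.relActOK, ← act70_eq]
  exact (range_of_allRange c70_0) i (Nat.zero_le _) hi

def chk71 : List Nat := [4, 4]
noncomputable def act71 (i : Nat) : Nat := col4 (col4 (i))
theorem act71_eq (i : Nat) : act71 i = Tab.act T D chk71 i := rfl
theorem c71_0 : allRange (fun i => Nat.beq (act71 i) i) 0 2058 = true := by decide +kernel
theorem h71 : ∀ i, i < T.N → Tab.relActOK T D chk71 i = true := by
  intro i hi
  rw [Tab.relActOK, ← act71_eq]
  exact (range_of_allRange c71_0) i (Nat.zero_le _) hi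

def chk72 : List Nat := [4, 4]
noncomputable def act72 (i : Nat) : Nat := col4 (col4 (i))
theorem act72_eq (i : Nat) : act72 i = Tab.act T D chk72 i := rfl
theorem c72_0 : allRange (fun i => Nat.beq (act72 i) i) 0 2058 = true := by decide +kernel
theorem h72 : ∀ i, i < T.N → Tab.relActOK T D chk72 i = true := by
  intro i hi
  rw [Tab.relActOK, ← act72_eq]
  exact (range_of_allRange c72_0) i (Nat.zero_le _) hi

def chk73 : List Nat := [1, 2, 2, 3, 1, 2, 3, 4, 1, 2, 3, 4, 1, 2, 3, 4, 1, 2, 3, 4, 1, 2, 3, 4, 1, 2, 3, 4, 1, 2, 3, 4, 5, 1, 5, 4, 3, 2, 1, 4, 3, 2, 1, 4, 3, 2, 1, 4, 3, 2, 1, 4, 3, 2, 1, 4, 3, 2, 1, 4, 3, 2, 1, 3, 2, 2]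
noncomputable def act73 (i : Nat) : Nat := col1 (col2 (col2 (col3 (col1 (col2 (col3 (col4 (col1 (col2 (col3 (col4 (col1 (col2 (col3 (col4 (col1 (col2 (col3 (col4 (col1 (col2 (col3 (col4 (col1 (col2 (col3 (col4 (col1 (col2 (col3 (col4 (col5 (col1 (col5 (col4 (col3 (col2 (col1 (col4 (col3 (col2 (col1 (col4 (col3 (col2 (col1 (col4 (col3 (col2 (col1 (col4 (col3 (col2 (col1 (col4 (col3 (col2 (col1 (col4 (col3 (col2 (col1 (col3 (col2 (col2 (i))))))))))))))))))))))))))))))))))))))))))))))))))))))))))))))))))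
theorem act73_eq (i : Nat) : act73 i = Tab.act T D chk73 i := rfl
theorem c73_0 : allRange (fun i => Nat.beq (act73 i) i) 0 882 = true := by decide +kernel
theorem c73_1 : allRange (fun i => Nat.beq (act73 i) i) 882 882 = true := by decide +kernel
theorem c73_2 : allRange (fun i => Nat.beq (act73 i) i) 1764 294 = true := by decide +kernel
theorem h73 : ∀ i, i < T.N → Tab.relActOK T D chk73 i = true := by
  intro i hi
  rw [Tab.relActOK, ← act73_eq]
  exact (range_glue (range_of_allRange c73_0) (range_glue (range_of_allRange c73_1) (range_of_allRange c73_2))) i (Nat.zero_le _) hi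

def chk74 : List Nat := [2, 2, 3, 1, 2, 3, 4, 1, 2, 3, 4, 1, 2, 3, 4, 1, 2, 3, 4, 1, 2, 3, 4, 1, 2, 3, 4, 1, 2, 3, 4, 5, 2, 2, 3, 1, 2, 3, 4, 1, 2, 3, 4, 1, 2, 3, 4, 1, 2, 3, 4, 1, 2, 3, 4, 1, 2, 3, 4, 1, 2, 3, 4, 5, 2, 2, 3, 1, 2, 3, 4, 1, 2, 3, 4, 1, 2, 3, 4, 1, 2, 3, 4, 1, 2, 3, 4, 1, 2, 3, 4, 1, 2, 3, 4, 5, 2, 2, 3, 1, 2, 3, 4, 1, 2, 3, 4, 1, 2, 3, 4, 1, 2, 3, 4, 1, 2, 3, 4, 1, 2, 3, 4, 1, 2, 3, 4, 5, 2, 2, 3, 1, 2, 3, 4, 1, 2, 3, 4, 1, 2, 3, 4, 1, 2, 3, 4, 1, 2, 3, 4, 1, 2, 3, 4, 1, 2, 3, 4, 5]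
noncomputable def act74 (i : Nat) : Nat := col2 (col2 (col3 (col1 (col2 (col3 (col4 (col1 (col2 (col3 (col4 (col1 (col2 (col3 (col4 (col1 (col2 (col3 (col4 (col1 (col2 (col3 (col4 (col1 (col2 (col3 (col4 (col1 (col2 (col3 (col4 (col5 (col2 (col2 (col3 (col1 (col2 (col3 (col4 (col1 (col2 (col3 (col4 (col1 (col2 (col3 (col4 (col1 (col2 (col3 (col4 (col1 (col2 (col3 (col4 (col1 (col2 (col3 (col4 (col1 (col2 (col3 (col4 (col5 (col2 (col2 (col3 (col1 (col2 (col3 (col4 (col1 (col2 (col3 (col4 (col1 (col2 (col3 (col4 (col1 (col2 (col3 (col4 (col1 (col2 (col3 (col4 (col1 (col2 (col3 (col4 (col1 (col2 (col3 (col4 (col5 (col2 (col2 (col3 (col1 (col2 (col3 (col4 (col1 (col2 (col3 (col4 (col1 (col2 (col3 (col4 (col1 (col2 (col3 (col4 (col1 (col2 (col3 (col4 (col1 (col2 (col3 (col4 (col1 (col2 (col3 (col4 (col5 (col2 (col2 (col3 (col1 (col2 (col3 (col4 (col1 (col2 (col3 (col4 (col1 (col2 (col3 (col4 (col1 (col2 (col3 (col4 (col1 (col2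 (col3 (col4 (col1 (col2 (col3 (col4 (col1 (col2 (col3 (col4 (col5 (i))))))))))))))))))))))))))))))))))))))))))))))))))))))))))))))))))))))))))))))))))))))))))))))))))))))))))))))))))))))))))))))))))))))))))))))))))))))))))))))))
theorem act74_eq (i : Nat) : act74 i = Tab.act T D chk74 i := rfl
theorem c74_0 : allRange (fun i => Nat.beq (act74 i) i) 0 370 = true := by decide +kernel
theorem c74_1 : allRange (fun i => Nat.beq (act74 i) i) 370 370 = true := by decide +kernel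
theorem c74_2 : allRange (fun i => Nat.beq (act74 i) i) 740 370 = true := by decide +kernel
theorem c74_3 : allRange (fun i => Nat.beq (act74 i) i) 1110 370 = true := by decide +kernel
theorem c74_4 : allRange (fun i => Nat.beq (act74 i) i) 1480 370 = true := by decide +kernel
theorem c74_5 : allRange (fun i => Nat.beq (act74 i) i) 1850 208 = true := by decide +kernel
theorem h74 : ∀ i, i < T.N → Tab.relActOK T D chk74 i = true := by
  intro i hi
  rw [Tab.relActOK, ← act74_eq]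
  exact (range_glue (range_of_allRange c74_0) (range_glue (range_of_allRange c74_1) (range_glue (range_of_allRange c74_2) (range_glue (range_of_allRange c74_3) (range_glue (range_of_allRange c74_4) (range_of_allRange c74_5)))))) i (Nat.zero_le _) hi

def chk75 : List Nat := [2, 2, 3, 1, 2, 3, 4, 1, 2, 3, 4, 1, 2, 3, 4, 1, 2, 3, 4, 1, 2, 3, 4, 1, 2, 3, 4, 1, 2, 3, 4, 5, 2, 2, 3, 1, 2, 3, 4, 1, 2, 3, 4, 1, 2, 3, 4, 1, 2, 3, 4, 1, 2, 3, 4, 1, 2, 3, 4, 1, 2, 3, 4, 5, 2, 2, 3, 1, 2, 3, 4, 1, 2, 3, 4, 1, 2, 3, 4, 1, 2, 3, 4, 1, 2, 3, 4, 1, 2, 3, 4, 1, 2, 3, 4, 5, 2, 2, 3, 1, 2, 3, 4, 1, 2, 3, 4, 1, 2, 3, 4, 1, 2, 3, 4, 1, 2, 3, 4, 1, 2, 3, 4, 1, 2, 3, 4, 5, 2, 2, 3, 1, 2, 3, 4, 1, 2, 3, 4, 1, 2, 3, 4, 1, 2, 3, 4, 1, 2, 3, 4, 1, 2, 3, 4, 1, 2, 3, 4, 5]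
noncomputable def act75 (i : Nat) : Nat := col2 (col2 (col3 (col1 (col2 (col3 (col4 (col1 (col2 (col3 (col4 (col1 (col2 (col3 (col4 (col1 (col2 (col3 (col4 (col1 (col2 (col3 (col4 (col1 (col2 (col3 (col4 (col1 (col2 (col3 (col4 (col5 (col2 (col2 (col3 (col1 (col2 (col3 (col4 (col1 (col2 (col3 (col4 (col1 (col2 (col3 (col4 (col1 (col2 (col3 (col4 (col1 (col2 (col3 (col4 (col1 (col2 (col3 (col4 (col1 (col2 (col3 (col4 (col5 (col2 (col2 (col3 (col1 (col2 (col3 (col4 (col1 (col2 (col3 (col4 (col1 (col2 (col3 (col4 (col1 (col2 (col3 (col4 (col1 (col2 (col3 (col4 (col1 (col2 (col3 (col4 (col1 (col2 (col3 (col4 (col5 (col2 (col2 (col3 (col1 (col2 (col3 (col4 (col1 (col2 (col3 (col4 (col1 (col2 (col3 (col4 (col1 (col2 (col3 (col4 (col1 (col2 (col3 (col4 (col1 (col2 (col3 (col4 (col1 (col2 (col3 (col4 (col5 (col2 (col2 (col3 (col1 (col2 (col3 (col4 (col1 (col2 (col3 (col4 (col1 (col2 (col3 (col4 (col1 (col2 (col3 (col4 (col1 (col2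 (col3 (col4 (col1 (col2 (col3 (col4 (col1 (col2 (col3 (col4 (col5 (i))))))))))))))))))))))))))))))))))))))))))))))))))))))))))))))))))))))))))))))))))))))))))))))))))))))))))))))))))))))))))))))))))))))))))))))))))))))))))))))))
theorem act75_eq (i : Nat) : act75 i = Tab.act T D chk75 i := rfl
theorem c75_0 : allRange (fun i => Nat.beq (act75 i) i) 0 370 = true := by decide +kernel
theorem c75_1 : allRange (fun i => Nat.beq (act75 i) i) 370 370 = true := by decide +kernel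
theorem c75_2 : allRange (fun i => Nat.beq (act75 i) i) 740 370 = true := by decide +kernel
theorem c75_3 : allRange (fun i => Nat.beq (act75 i) i) 1110 370 = true := by decide +kernel
theorem c75_4 : allRange (fun i => Nat.beq (act75 i) i) 1480 370 = true := by decide +kernel
theorem c75_5 : allRange (fun i => Nat.beq (act75 i) i) 1850 208 = true := by decide +kernel
theorem h75 : ∀ i, i < T.N → Tab.relActOK T D chk75 i = true := by
  intro i hi
  rw [Tab.relActOK, ← act75_eq]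
  exact (range_glue (range_of_allRange c75_0) (range_glue (range_of_allRange c75_1) (range_glue (range_of_allRange c75_2) (range_glue (range_of_allRange c75_3) (range_glue (range_of_allRange c75_4) (range_of_allRange c75_5)))))) i (Nat.zero_le _) hi

def chk76 : List Nat := [1, 2, 3, 1, 2, 3, 4, 1, 2, 3, 4, 1, 2, 3, 4, 1, 2, 3, 4, 1, 2, 3, 4, 1, 2, 3, 4, 1, 2, 3, 4, 5, 4, 2, 5, 4, 3, 2, 1, 4, 3, 2, 1, 4, 3, 2, 1, 4, 3, 2, 1, 4, 3, 2, 1, 4, 3, 2, 1, 4, 3, 2, 1, 3, 2, 4, 2, 2, 3, 1, 2, 3, 4, 1, 2, 3, 4, 1, 2, 3, 4, 1, 2, 3, 4, 1, 2, 3, 4, 1, 2, 3, 4, 1, 2, 3, 4, 5, 4, 2, 5, 4, 3, 2, 1, 4, 3, 2, 1, 4, 3, 2, 1, 4, 3, 2, 1, 4, 3, 2, 1, 4, 3, 2, 1, 4, 3, 2, 1, 3, 2, 1, 2, 3, 1, 2, 3, 4, 1, 2, 3, 4, 1, 2, 3, 4, 1, 2, 3, 4, 1, 2, 3, 4, 1, 2, 3, 4, 1, 2, 3, 4, 5, 2, 4, 5, 4, 3, 2, 1, 4, 3, 2, 1, 4, 3, 2, 1, 4, 3, 2, 1, 4, 3, 2, 1, 4, 3, 2, 1, 4, 3, 2, 1, 3, 2, 2, 4, 2, 3, 1, 2, 3, 4, 1, 2, 3, 4, 1, 2, 3, 4, 1, 2, 3, 4, 1, 2, 3, 4,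 1, 2, 3, 4, 1, 2, 3, 4, 5, 2, 4, 5, 4, 3, 2, 1, 4, 3, 2, 1, 4, 3, 2, 1, 4, 3, 2, 1, 4, 3, 2, 1, 4, 3, 2, 1, 4, 3, 2, 1, 3, 2]
noncomputable def act76 (i : Nat) : Nat := col1 (col2 (col3 (col1 (col2 (col3 (col4 (col1 (col2 (col3 (col4 (col1 (col2 (col3 (col4 (col1 (col2 (col3 (col4 (col1 (col2 (col3 (col4 (col1 (col2 (col3 (col4 (col1 (col2 (col3 (col4 (col5 (col4 (col2 (col5 (col4 (col3 (col2 (col1 (col4 (col3 (col2 (col1 (col4 (col3 (col2 (col1 (col4 (col3 (col2 (col1 (col4 (col3 (col2 (col1 (col4 (col3 (col2 (col1 (col4 (col3 (col2 (col1 (col3 (col2 (col4 (col2 (col2 (col3 (col1 (col2 (col3 (col4 (col1 (col2 (col3 (col4 (col1 (col2 (col3 (col4 (col1 (col2 (col3 (col4 (col1 (col2 (col3 (col4 (col1 (col2 (col3 (col4 (col1 (col2 (col3 (col4 (col5 (col4 (col2 (col5 (col4 (col3 (col2 (col1 (col4 (col3 (col2 (col1 (col4 (col3 (col2 (col1 (col4 (col3 (col2 (col1 (col4 (col3 (col2 (col1 (col4 (col3 (col2 (col1 (col4 (col3 (col2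 (col1 (col3 (col2 (col1 (col2 (col3 (col1 (col2 (col3 (col4 (col1 (col2 (col3 (col4 (col1 (col2 (col3 (col4 (col1 (col2 (col3 (col4 (col1 (col2 (col3 (col4 (col1 (col2 (col3 (col4 (col1 (col2 (col3 (col4 (col5 (col2 (col4 (col5 (col4 (col3 (col2 (col1 (col4 (col3 (col2 (col1 (col4 (col3 (col2 (col1 (col4 (col3 (col2 (col1 (col4 (col3 (col2 (col1 (col4 (col3 (col2 (col1 (col4 (col3 (col2 (col1 (col3 (col2 (col2 (col4 (col2 (col3 (col1 (col2 (col3 (col4 (col1 (col2 (col3 (col4 (col1 (col2 (col3 (col4 (col1 (col2 (col3 (col4 (col1 (col2 (col3 (col4 (col1 (col2 (col3 (col4 (col1 (col2 (col3 (col4 (col5 (col2 (col4 (col5 (col4 (col3 (col2 (col1 (col4 (col3 (col2 (col1 (col4 (col3 (col2 (col1 (col4 (col3 (col2 (col1 (col4 (col3 (col2 (col1 (col4 (col3 (col2 (col1 (col4 (col3 (col2 (col1 (col3 (col2 (i))))))))))))))))))))))))))))))))))))))))))))))))))))))))))))))))))))))))))))))))))))))))))))))))))))))))))))))))))))))))))))))))))))))))))))))))))))))))))))))))))))))))))))))))))))))))))))))))))))))))))))))))))))))))))))))))))))))))))))))))))))))))))))))))))))))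
theorem act76_eq (i : Nat) : act76 i = Tab.act T D chk76 i := rfl
theorem c76_0 : allRange (fun i => Nat.beq (act76 i) i) 0 227 = true := by decide +kernel
theorem c76_1 : allRange (fun i => Nat.beq (act76 i) i) 227 227 = true := by decide +kernel
theorem c76_2 : allRange (fun i => Nat.beq (act76 i) i) 454 227 = true := by decide +kernel
theorem c76_3 : allRange (fun i => Nat.beq (act76 i) i) 681 227 = true := by decide +kernel
theorem c76_4 : allRange (fun i => Nat.beq (act76 i) i) 908 227 = true := by decide +kernel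
theorem c76_5 : allRange (fun i => Nat.beq (act76 i) i) 1135 227 = true := by decide +kernel
theorem c76_6 : allRange (fun i => Nat.beq (act76 i) i) 1362 227 = true := by decide +kernel
theorem c76_7 : allRange (fun i => Nat.beq (act76 i) i) 1589 227 = true := by decide +kernel
theorem c76_8 : allRange (fun i => Nat.beq (act76 i) i) 1816 227 = true := by decide +kernel
theorem c76_9 : allRange (fun i => Nat.beq (act76 i) i) 2043 15 = true := by decide +kernel
theorem h76 : ∀ i, i < T.N → Tab.relActOK T D chk76 i = true := by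
  intro i hi
  rw [Tab.relActOK, ← act76_eq]
  exact (range_glue (range_of_allRange c76_0) (range_glue (range_of_allRange c76_1) (range_glue (range_of_allRange c76_2) (range_glue (range_of_allRange c76_3) (range_glue (range_of_allRange c76_4) (range_glue (range_of_allRange c76_5) (range_glue (range_of_allRange c76_6) (range_glue (range_of_allRange c76_7) (range_glue (range_of_allRange c76_8) (range_of_allRange c76_9)))))))))) i (Nat.zero_le _) hi

def chk77 : List Nat := [2, 3, 1, 2, 3, 4, 1, 2, 3, 4, 1, 2, 3, 4, 1, 2, 3, 4, 1, 2, 3, 4, 1, 2, 3, 4, 1, 2, 3, 4, 5, 4, 2, 5, 4, 3, 2, 1, 4, 3, 2, 1, 4, 3, 2, 1, 4, 3, 2, 1, 4, 3, 2, 1, 4, 3, 2, 1, 4, 3, 2, 1, 3, 2, 4, 2, 2, 3, 1, 2, 3, 4, 1, 2, 3, 4, 1, 2, 3, 4, 1, 2, 3, 4, 1, 2, 3, 4, 1, 2, 3, 4, 1, 2, 3, 4, 5, 4, 2, 5, 4, 3, 2, 1, 4, 3, 2, 1, 4, 3, 2, 1, 4, 3, 2, 1, 4, 3, 2, 1, 4, 3, 2, 1, 4, 3, 2, 1, 3, 2, 2, 3, 1, 2, 3, 4, 1, 2, 3, 4, 1, 2, 3, 4, 1, 2, 3, 4, 1, 2, 3, 4, 1,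 2, 3, 4, 1, 2, 3, 4, 5, 4, 2, 5, 4, 3, 2, 1, 4, 3, 2, 1, 4, 3, 2, 1, 4, 3, 2, 1, 4, 3, 2, 1, 4, 3, 2, 1, 4, 3, 2, 1, 3, 2, 4, 2, 2, 3, 1, 2, 3, 4, 1, 2, 3, 4, 1, 2, 3, 4, 1, 2, 3, 4, 1, 2, 3, 4, 1, 2, 3, 4, 1, 2, 3, 4, 5, 4, 2, 5, 4, 3, 2, 1, 4, 3, 2, 1, 4, 3, 2, 1, 4, 3, 2, 1, 4, 3, 2, 1, 4, 3, 2, 1, 4, 3, 2, 1, 3, 2]
noncomputable def act77 (i : Nat) : Nat := col2 (col3 (col1 (col2 (col3 (col4 (col1 (col2 (col3 (col4 (col1 (col2 (col3 (col4 (col1 (col2 (col3 (col4 (col1 (col2 (col3 (col4 (col1 (col2 (col3 (col4 (col1 (col2 (col3 (col4 (col5 (col4 (col2 (col5 (col4 (col3 (col2 (col1 (col4 (col3 (col2 (col1 (col4 (col3 (col2 (col1 (col4 (col3 (col2 (col1 (col4 (col3 (col2 (col1 (col4 (col3 (col2 (col1 (col4 (col3 (col2 (col1 (col3 (col2 (col4 (col2 (col2 (col3 (col1 (col2 (col3 (col4 (col1 (col2 (col3 (col4 (col1 (col2 (col3 (col4 (col1 (col2 (col3 (col4 (col1 (col2 (col3 (col4 (col1 (col2 (col3 (col4 (col1 (col2 (col3 (col4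 (col5 (col4 (col2 (col5 (col4 (col3 (col2 (col1 (col4 (col3 (col2 (col1 (col4 (col3 (col2 (col1 (col4 (col3 (col2 (col1 (col4 (col3 (col2 (col1 (col4 (col3 (col2 (col1 (col4 (col3 (col2 (col1 (col3 (col2 (col2 (col3 (col1 (col2 (col3 (col4 (col1 (col2 (col3 (col4 (col1 (col2 (col3 (col4 (col1 (col2 (col3 (col4 (col1 (col2 (col3 (col4 (col1 (col2 (col3 (col4 (col1 (col2 (col3 (col4 (col5 (col4 (col2 (col5 (col4 (col3 (col2 (col1 (col4 (col3 (col2 (col1 (col4 (col3 (col2 (col1 (col4 (col3 (col2 (col1 (col4 (col3 (col2 (col1 (col4 (col3 (col2 (col1 (col4 (col3 (col2 (col1 (col3 (col2 (col4 (col2 (col2 (col3 (col1 (col2 (col3 (col4 (col1 (col2 (col3 (col4 (col1 (col2 (col3 (col4 (col1 (col2 (col3 (col4 (col1 (col2 (col3 (col4 (col1 (col2 (col3 (col4 (col1 (col2 (col3 (col4 (col5 (col4 (col2 (col5 (col4 (col3 (col2 (col1 (col4 (col3 (col2 (col1 (col4 (col3 (col2 (col1 (col4 (col3 (col2 (col1 (col4 (col3 (col2 (col1 (col4 (col3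 (col2 (col1 (col4 (col3 (col2 (col1 (col3 (col2 (i))))))))))))))))))))))))))))))))))))))))))))))))))))))))))))))))))))))))))))))))))))))))))))))))))))))))))))))))))))))))))))))))))))))))))))))))))))))))))))))))))))))))))))))))))))))))))))))))))))))))))))))))))))))))))))))))))))))))))))))))))))))))))))))))))))
theorem act77_eq (i : Nat) : act77 i = Tab.act T D chk77 i := rfl
theorem c77_0 : allRange (fun i => Nat.beq (act77 i) i) 0 229 = true := by decide +kernel
theorem c77_1 : allRange (fun i => Nat.beq (act77 i) i) 229 229 = true := by decide +kernel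
theorem c77_2 : allRange (fun i => Nat.beq (act77 i) i) 458 229 = true := by decide +kernel
theorem c77_3 : allRange (fun i => Nat.beq (act77 i) i) 687 229 = true := by decide +kernel
theorem c77_4 : allRange (fun i => Nat.beq (act77 i) i) 916 229 = true := by decide +kernel
theorem c77_5 : allRange (fun i => Nat.beq (act77 i) i) 1145 229 = true := by decide +kernel
theorem c77_6 : allRange (fun i => Nat.beq (act77 i) i) 1374 229 = true := by decide +kernel
theorem c77_7 : allRange (fun i => Nat.beq (act77 i) i) 1603 229 = true := by decide +kernel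
theorem c77_8 : allRange (fun i => Nat.beq (act77 i) i) 1832 226 = true := by decide +kernel
theorem h77 : ∀ i, i < T.N → Tab.relActOK T D chk77 i = true := by
  intro i hi
  rw [Tab.relActOK, ← act77_eq]
  exact (range_glue (range_of_allRange c77_0) (range_glue (range_of_allRange c77_1) (range_glue (range_of_allRange c77_2) (range_glue (range_of_allRange c77_3) (range_glue (range_of_allRange c77_4) (range_glue (range_of_allRange c77_5) (range_glue (range_of_allRange c77_6) (range_glue (range_of_allRange c77_7) (range_of_allRange c77_8))))))))) i (Nat.zero_le _) hi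

def chk78 : List Nat := [2, 3, 1, 2, 3, 4, 1, 2, 3, 4, 1, 2, 3, 4, 1, 2, 3, 4, 1, 2, 3, 4, 1, 2, 3, 4, 1, 2, 3, 4, 5, 4, 2, 5, 4, 3, 2, 1, 4, 3, 2, 1, 4, 3, 2, 1, 4, 3, 2, 1, 4, 3, 2, 1, 4, 3, 2, 1, 4, 3, 2, 1, 3, 2, 4, 2, 2, 3, 1, 2, 3, 4, 1, 2, 3, 4, 1, 2, 3, 4, 1, 2, 3, 4, 1, 2, 3, 4, 1, 2, 3, 4, 1, 2, 3, 4, 5, 4, 2, 5, 4, 3, 2, 1, 4, 3, 2, 1, 4, 3, 2, 1, 4, 3, 2, 1, 4, 3, 2, 1, 4, 3, 2, 1, 4, 3, 2, 1, 3, 2, 2, 3, 1, 2, 3, 4, 1, 2, 3, 4, 1, 2, 3, 4, 1, 2, 3, 4, 1, 2, 3, 4, 1, 2, 3, 4, 1, 2, 3, 4, 5, 4, 2, 5, 4, 3, 2, 1, 4, 3, 2, 1, 4, 3, 2, 1, 4, 3, 2, 1, 4, 3, 2, 1, 4, 3, 2, 1, 4, 3, 2, 1, 3, 2, 4, 2, 2, 3, 1, 2, 3, 4, 1, 2, 3, 4, 1, 2, 3, 4, 1, 2, 3, 4, 1, 2, 3, 4, 1, 2, 3, 4, 1, 2, 3, 4, 5, 4, 2, 5, 4, 3, 2, 1, 4, 3, 2, 1, 4, 3, 2, 1, 4, 3, 2, 1, 4, 3, 2, 1, 4, 3, 2, 1, 4, 3, 2, 1, 3, 2]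
noncomputable def act78 (i : Nat) : Nat := col2 (col3 (col1 (col2 (col3 (col4 (col1 (col2 (col3 (col4 (col1 (col2 (col3 (col4 (col1 (col2 (col3 (col4 (col1 (col2 (col3 (col4 (col1 (col2 (col3 (col4 (col1 (col2 (col3 (col4 (col5 (col4 (col2 (col5 (col4 (col3 (col2 (col1 (col4 (col3 (col2 (col1 (col4 (col3 (col2 (col1 (col4 (col3 (col2 (col1 (col4 (col3 (col2 (col1 (col4 (col3 (col2 (col1 (col4 (col3 (col2 (col1 (col3 (col2 (col4 (col2 (col2 (col3 (col1 (col2 (col3 (col4 (col1 (col2 (col3 (col4 (col1 (col2 (col3 (col4 (col1 (col2 (col3 (col4 (col1 (col2 (col3 (col4 (col1 (col2 (col3 (col4 (col1 (col2 (col3 (col4 (col5 (col4 (col2 (col5 (col4 (col3 (col2 (col1 (col4 (col3 (col2 (col1 (col4 (col3 (col2 (col1 (col4 (col3 (col2 (col1 (col4 (col3 (col2 (col1 (col4 (col3 (col2 (col1 (col4 (col3 (col2 (col1 (col3 (col2 (col2 (col3 (col1 (col2 (col3 (col4 (col1 (col2 (col3 (col4 (col1 (col2 (col3 (col4 (col1 (col2 (col3 (col4 (col1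 (col2 (col3 (col4 (col1 (col2 (col3 (col4 (col1 (col2 (col3 (col4 (col5 (col4 (col2 (col5 (col4 (col3 (col2 (col1 (col4 (col3 (col2 (col1 (col4 (col3 (col2 (col1 (col4 (col3 (col2 (col1 (col4 (col3 (col2 (col1 (col4 (col3 (col2 (col1 (col4 (col3 (col2 (col1 (col3 (col2 (col4 (col2 (col2 (col3 (col1 (col2 (col3 (col4 (col1 (col2 (col3 (col4 (col1 (col2 (col3 (col4 (col1 (col2 (col3 (col4 (col1 (col2 (col3 (col4 (col1 (col2 (col3 (col4 (col1 (col2 (col3 (col4 (col5 (col4 (col2 (col5 (col4 (col3 (col2 (col1 (col4 (col3 (col2 (col1 (col4 (col3 (col2 (col1 (col4 (col3 (col2 (col1 (col4 (col3 (col2 (col1 (col4 (col3 (col2 (col1 (col4 (col3 (col2 (col1 (col3 (col2 (i))))))))))))))))))))))))))))))))))))))))))))))))))))))))))))))))))))))))))))))))))))))))))))))))))))))))))))))))))))))))))))))))))))))))))))))))))))))))))))))))))))))))))))))))))))))))))))))))))))))))))))))))))))))))))))))))))))))))))))))))))))))))))))))))))))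
theorem act78_eq (i : Nat) : act78 i = Tab.act T D chk78 i := rfl
theorem c78_0 : allRange (fun i => Nat.beq (act78 i) i) 0 229 = true := by decide +kernel
theorem c78_1 : allRange (fun i => Nat.beq (act78 i) i) 229 229 = true := by decide +kernel
theorem c78_2 : allRange (fun i => Nat.beq (act78 i) i) 458 229 = true := by decide +kernel
theorem c78_3 : allRange (fun i => Nat.beq (act78 i) i) 687 229 = true := by decide +kernel
theorem c78_4 : allRange (fun i => Nat.beq (act78 i) i) 916 229 = true := by decide +kernel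
theorem c78_5 : allRange (fun i => Nat.beq (act78 i) i) 1145 229 = true := by decide +kernel
theorem c78_6 : allRange (fun i => Nat.beq (act78 i) i) 1374 229 = true := by decide +kernel
theorem c78_7 : allRange (fun i => Nat.beq (act78 i) i) 1603 229 = true := by decide +kernel
theorem c78_8 : allRange (fun i => Nat.beq (act78 i) i) 1832 226 = true := by decide +kernel
theorem h78 : ∀ i, i < T.N → Tab.relActOK T D chk78 i = true := by
  intro i hi
  rw [Tab.relActOK, ← act78_eq]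
  exact (range_glue (range_of_allRange c78_0) (range_glue (range_of_allRange c78_1) (range_glue (range_of_allRange c78_2) (range_glue (range_of_allRange c78_3) (range_glue (range_of_allRange c78_4) (range_glue (range_of_allRange c78_5) (range_glue (range_of_allRange c78_6) (range_glue (range_of_allRange c78_7) (range_of_allRange c78_8))))))))) i (Nat.zero_le _) hi

def chk79 : List Nat := [6, 4, 6, 4]
noncomputable def act79 (i : Nat) : Nat := col6 (col4 (col6 (col4 (i))))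
theorem act79_eq (i : Nat) : act79 i = Tab.act T D chk79 i := rfl
theorem c79_0 : allRange (fun i => Nat.beq (act79 i) i) 0 2058 = true := by decide +kernel
theorem h79 : ∀ i, i < T.N → Tab.relActOK T D chk79 i = true := by
  intro i hi
  rw [Tab.relActOK, ← act79_eq]
  exact (range_of_allRange c79_0) i (Nat.zero_le _) hi

def chk80 : List Nat := [4, 4]
noncomputable def act80 (i : Nat) : Nat := col4 (col4 (i))
theorem act80_eq (i : Nat) : act80 i = Tab.act T D chk80 i := rfl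
theorem c80_0 : allRange (fun i => Nat.beq (act80 i) i) 0 2058 = true := by decide +kernel
theorem h80 : ∀ i, i < T.N → Tab.relActOK T D chk80 i = true := by
  intro i hi
  rw [Tab.relActOK, ← act80_eq]
  exact (range_of_allRange c80_0) i (Nat.zero_le _) hi

def chk81 : List Nat := [4, 4]
noncomputable def act81 (i : Nat) : Nat := col4 (col4 (i))
theorem act81_eq (i : Nat) : act81 i = Tab.act T D chk81 i := rfl
theorem c81_0 : allRange (fun i => Nat.beq (act81 i) i) 0 2058 = true := by decide +kernel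
theorem h81 : ∀ i, i < T.N → Tab.relActOK T D chk81 i = true := by
  intro i hi
  rw [Tab.relActOK, ← act81_eq]
  exact (range_of_allRange c81_0) i (Nat.zero_le _) hi

def chk82 : List Nat := [6, 2, 6, 2]
noncomputable def act82 (i : Nat) : Nat := col6 (col2 (col6 (col2 (i))))
theorem act82_eq (i : Nat) : act82 i = Tab.act T D chk82 i := rfl
theorem c82_0 : allRange (fun i => Nat.beq (act82 i) i) 0 2058 = true := by decide +kernel
theorem h82 : ∀ i, i < T.N → Tab.relActOK T D chk82 i = true := by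
  intro i hi
  rw [Tab.relActOK, ← act82_eq]
  exact (range_of_allRange c82_0) i (Nat.zero_le _) hi

def chk83 : List Nat := [2, 2]
noncomputable def act83 (i : Nat) : Nat := col2 (col2 (i))
theorem act83_eq (i : Nat) : act83 i = Tab.act T D chk83 i := rfl
theorem c83_0 : allRange (fun i => Nat.beq (act83 i) i) 0 2058 = true := by decide +kernel
theorem h83 : ∀ i, i < T.N → Tab.relActOK T D chk83 i = true := by
  intro i hi
  rw [Tab.relActOK, ← act83_eq]
  exact (range_of_allRange c83_0) i (Nat.zero_le _) hi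

def chk84 : List Nat := [2, 2]
noncomputable def act84 (i : Nat) : Nat := col2 (col2 (i))
theorem act84_eq (i : Nat) : act84 i = Tab.act T D chk84 i := rfl
theorem c84_0 : allRange (fun i => Nat.beq (act84 i) i) 0 2058 = true := by decide +kernel
theorem h84 : ∀ i, i < T.N → Tab.relActOK T D chk84 i = true := by
  intro i hi
  rw [Tab.relActOK, ← act84_eq]
  exact (range_of_allRange c84_0) i (Nat.zero_le _) hi

def chk85 : List Nat := [6, 2, 3, 1, 2, 3, 4, 1, 2, 3, 4, 1, 2, 3, 4, 1, 2, 3, 4, 1, 2, 3, 4, 1, 2, 3, 4, 1, 2, 3, 4, 5, 4, 5, 4, 3, 2, 1, 4, 3, 2, 1, 4, 3, 2, 1, 4, 3, 2, 1, 4, 3, 2, 1, 4, 3, 2, 1, 4, 3, 2, 1, 3, 2, 4, 2, 3, 1, 2, 3, 4, 1, 2, 3, 4, 1, 2, 3, 4, 1, 2, 3, 4, 1, 2, 3, 4, 1, 2, 3, 4, 1, 2, 3, 4, 5, 4, 6, 5, 4, 3, 2, 1, 4, 3, 2, 1, 4, 3, 2, 1, 4, 3, 2, 1, 4, 3, 2, 1, 4, 3, 2, 1, 4, 3, 2, 1, 3, 2, 4, 2, 3, 1, 2, 3, 4, 1, 2, 3, 4, 1, 2, 3, 4, 1, 2, 3, 4, 1, 2, 3, 4, 1, 2, 3, 4, 1, 2, 3, 4, 5, 4, 5, 4, 3,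 2, 1, 4, 3, 2, 1, 4, 3, 2, 1, 4, 3, 2, 1, 4, 3, 2, 1, 4, 3, 2, 1, 4, 3, 2, 1, 3, 2]
noncomputable def act85 (i : Nat) : Nat := col6 (col2 (col3 (col1 (col2 (col3 (col4 (col1 (col2 (col3 (col4 (col1 (col2 (col3 (col4 (col1 (col2 (col3 (col4 (col1 (col2 (col3 (col4 (col1 (col2 (col3 (col4 (col1 (col2 (col3 (col4 (col5 (col4 (col5 (col4 (col3 (col2 (col1 (col4 (col3 (col2 (col1 (col4 (col3 (col2 (col1 (col4 (col3 (col2 (col1 (col4 (col3 (col2 (col1 (col4 (col3 (col2 (col1 (col4 (col3 (col2 (col1 (col3 (col2 (col4 (col2 (col3 (col1 (col2 (col3 (col4 (col1 (col2 (col3 (col4 (col1 (col2 (col3 (col4 (col1 (col2 (col3 (col4 (col1 (col2 (col3 (col4 (col1 (col2 (col3 (col4 (col1 (col2 (col3 (col4 (col5 (col4 (col6 (col5 (col4 (col3 (col2 (col1 (col4 (col3 (col2 (col1 (col4 (col3 (col2 (col1 (col4 (col3 (col2 (col1 (col4 (col3 (col2 (col1 (col4 (col3 (col2 (col1 (col4 (col3 (col2 (col1 (col3 (col2 (col4 (col2 (col3 (col1 (col2 (col3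 (col4 (col1 (col2 (col3 (col4 (col1 (col2 (col3 (col4 (col1 (col2 (col3 (col4 (col1 (col2 (col3 (col4 (col1 (col2 (col3 (col4 (col1 (col2 (col3 (col4 (col5 (col4 (col5 (col4 (col3 (col2 (col1 (col4 (col3 (col2 (col1 (col4 (col3 (col2 (col1 (col4 (col3 (col2 (col1 (col4 (col3 (col2 (col1 (col4 (col3 (col2 (col1 (col4 (col3 (col2 (col1 (col3 (col2 (i)))))))))))))))))))))))))))))))))))))))))))))))))))))))))))))))))))))))))))))))))))))))))))))))))))))))))))))))))))))))))))))))))))))))))))))))))))))))))))))))))))))))))))))))))))))))))))))))))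
theorem act85_eq (i : Nat) : act85 i = Tab.act T D chk85 i := rfl
theorem c85_0 : allRange (fun i => Nat.beq (act85 i) i) 0 307 = true := by decide +kernel
theorem c85_1 : allRange (fun i => Nat.beq (act85 i) i) 307 307 = true := by decide +kernel
theorem c85_2 : allRange (fun i => Nat.beq (act85 i) i) 614 307 = true := by decide +kernel
theorem c85_3 : allRange (fun i => Nat.beq (act85 i) i) 921 307 = true := by decide +kernel
theorem c85_4 : allRange (fun i => Nat.beq (act85 i) i) 1228 307 = true := by decide +kernel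
theorem c85_5 : allRange (fun i => Nat.beq (act85 i) i) 1535 307 = true := by decide +kernel
theorem c85_6 : allRange (fun i => Nat.beq (act85 i) i) 1842 216 = true := by decide +kernel
theorem h85 : ∀ i, i < T.N → Tab.relActOK T D chk85 i = true := by
  intro i hi
  rw [Tab.relActOK, ← act85_eq]
  exact (range_glue (range_of_allRange c85_0) (range_glue (range_of_allRange c85_1) (range_glue (range_of_allRange c85_2) (range_glue (range_of_allRange c85_3) (range_glue (range_of_allRange c85_4) (range_glue (range_of_allRange c85_5) (range_of_allRange c85_6))))))) i (Nat.zero_le _) hi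

def chk86 : List Nat := [2, 3, 1, 2, 3, 4, 1, 2, 3, 4, 1, 2, 3, 4, 1, 2, 3, 4, 1, 2, 3, 4, 1, 2, 3, 4, 1, 2, 3, 4, 5, 4, 5, 4, 3, 2, 1, 4, 3, 2, 1, 4, 3, 2, 1, 4, 3, 2, 1, 4, 3, 2, 1, 4, 3, 2, 1, 4, 3, 2, 1, 3, 2, 4, 2, 3, 1, 2, 3, 4, 1, 2, 3, 4, 1, 2, 3, 4, 1, 2, 3, 4, 1, 2, 3, 4, 1, 2, 3, 4, 1, 2, 3, 4, 5, 4, 2, 3, 1, 2, 3, 4, 1, 2, 3, 4, 1, 2, 3, 4, 1, 2, 3, 4, 1, 2, 3, 4, 1, 2, 3, 4, 1, 2, 3, 4, 5, 4, 5, 4, 3, 2, 1, 4, 3, 2, 1, 4, 3, 2, 1, 4, 3, 2, 1, 4, 3, 2, 1, 4, 3, 2, 1, 4, 3, 2, 1, 3, 2, 4, 2, 3, 1, 2, 3, 4, 1, 2, 3, 4, 1, 2, 3, 4, 1, 2, 3, 4, 1, 2, 3, 4, 1, 2, 3, 4, 1, 2, 3, 4, 5, 4]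
noncomputable def act86 (i : Nat) : Nat := col2 (col3 (col1 (col2 (col3 (col4 (col1 (col2 (col3 (col4 (col1 (col2 (col3 (col4 (col1 (col2 (col3 (col4 (col1 (col2 (col3 (col4 (col1 (col2 (col3 (col4 (col1 (col2 (col3 (col4 (col5 (col4 (col5 (col4 (col3 (col2 (col1 (col4 (col3 (col2 (col1 (col4 (col3 (col2 (col1 (col4 (col3 (col2 (col1 (col4 (col3 (col2 (col1 (col4 (col3 (col2 (col1 (col4 (col3 (col2 (col1 (col3 (col2 (col4 (col2 (col3 (col1 (col2 (col3 (col4 (col1 (col2 (col3 (col4 (col1 (col2 (col3 (col4 (col1 (col2 (col3 (col4 (col1 (col2 (col3 (col4 (col1 (col2 (col3 (col4 (col1 (col2 (col3 (col4 (col5 (col4 (col2 (col3 (col1 (col2 (col3 (col4 (col1 (col2 (col3 (col4 (col1 (col2 (col3 (col4 (col1 (col2 (col3 (col4 (col1 (col2 (col3 (col4 (col1 (col2 (col3 (col4 (col1 (col2 (col3 (col4 (col5 (col4 (col5 (col4 (col3 (col2 (col1 (col4 (col3 (col2 (col1 (col4 (col3 (col2 (col1 (col4 (col3 (col2 (col1 (col4 (col3 (col2 (col1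 (col4 (col3 (col2 (col1 (col4 (col3 (col2 (col1 (col3 (col2 (col4 (col2 (col3 (col1 (col2 (col3 (col4 (col1 (col2 (col3 (col4 (col1 (col2 (col3 (col4 (col1 (col2 (col3 (col4 (col1 (col2 (col3 (col4 (col1 (col2 (col3 (col4 (col1 (col2 (col3 (col4 (col5 (col4 (i))))))))))))))))))))))))))))))))))))))))))))))))))))))))))))))))))))))))))))))))))))))))))))))))))))))))))))))))))))))))))))))))))))))))))))))))))))))))))))))))))))))))))))))))))))))))))))))))
theorem act86_eq (i : Nat) : act86 i = Tab.act T D chk86 i := rfl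
theorem c86_0 : allRange (fun i => Nat.beq (act86 i) i) 0 309 = true := by decide +kernel
theorem c86_1 : allRange (fun i => Nat.beq (act86 i) i) 309 309 = true := by decide +kernel
theorem c86_2 : allRange (fun i => Nat.beq (act86 i) i) 618 309 = true := by decide +kernel
theorem c86_3 : allRange (fun i => Nat.beq (act86 i) i) 927 309 = true := by decide +kernel
theorem c86_4 : allRange (fun i => Nat.beq (act86 i) i) 1236 309 = true := by decide +kernel
theorem c86_5 : allRange (fun i => Nat.beq (act86 i) i) 1545 309 = true := by decide +kernel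
theorem c86_6 : allRange (fun i => Nat.beq (act86 i) i) 1854 204 = true := by decide +kernel
theorem h86 : ∀ i, i < T.N → Tab.relActOK T D chk86 i = true := by
  intro i hi
  rw [Tab.relActOK, ← act86_eq]
  exact (range_glue (range_of_allRange c86_0) (range_glue (range_of_allRange c86_1) (range_glue (range_of_allRange c86_2) (range_glue (range_of_allRange c86_3) (range_glue (range_of_allRange c86_4) (range_glue (range_of_allRange c86_5) (range_of_allRange c86_6))))))) i (Nat.zero_le _) hi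

def chk87 : List Nat := [2, 3, 1, 2, 3, 4, 1, 2, 3, 4, 1, 2, 3, 4, 1, 2, 3, 4, 1, 2, 3, 4, 1, 2, 3, 4, 1, 2, 3, 4, 5, 4, 5, 4, 3, 2, 1, 4, 3, 2, 1, 4, 3, 2, 1, 4, 3, 2, 1, 4, 3, 2, 1, 4, 3, 2, 1, 4, 3, 2, 1, 3, 2, 4, 2, 3, 1, 2, 3, 4, 1, 2, 3, 4, 1, 2, 3, 4, 1, 2, 3, 4, 1, 2, 3, 4, 1, 2, 3, 4, 1, 2, 3, 4, 5, 2, 3, 1, 2, 3, 4, 1, 2, 3, 4, 1, 2, 3, 4, 1, 2, 3, 4, 1, 2, 3, 4, 1, 2, 3, 4, 1, 2, 3, 4, 5, 4, 5, 4, 3, 2, 1, 4, 3, 2, 1, 4, 3, 2, 1, 4, 3, 2, 1, 4, 3, 2, 1, 4, 3, 2, 1, 4, 3, 2, 1, 3, 2, 4, 2, 3, 1, 2, 3, 4, 1, 2, 3, 4, 1, 2, 3, 4, 1, 2, 3, 4, 1, 2, 3, 4, 1, 2, 3, 4, 1, 2, 3, 4, 5]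
noncomputable def act87 (i : Nat) : Nat := col2 (col3 (col1 (col2 (col3 (col4 (col1 (col2 (col3 (col4 (col1 (col2 (col3 (col4 (col1 (col2 (col3 (col4 (col1 (col2 (col3 (col4 (col1 (col2 (col3 (col4 (col1 (col2 (col3 (col4 (col5 (col4 (col5 (col4 (col3 (col2 (col1 (col4 (col3 (col2 (col1 (col4 (col3 (col2 (col1 (col4 (col3 (col2 (col1 (col4 (col3 (col2 (col1 (col4 (col3 (col2 (col1 (col4 (col3 (col2 (col1 (col3 (col2 (col4 (col2 (col3 (col1 (col2 (col3 (col4 (col1 (col2 (col3 (col4 (col1 (col2 (col3 (col4 (col1 (col2 (col3 (col4 (col1 (col2 (col3 (col4 (col1 (col2 (col3 (col4 (col1 (col2 (col3 (col4 (col5 (col2 (col3 (col1 (col2 (col3 (col4 (col1 (col2 (col3 (col4 (col1 (col2 (col3 (col4 (col1 (col2 (col3 (col4 (col1 (col2 (col3 (col4 (col1 (col2 (col3 (col4 (col1 (col2 (col3 (col4 (col5 (col4 (col5 (col4 (col3 (col2 (col1 (col4 (col3 (col2 (col1 (col4 (col3 (col2 (col1 (col4 (col3 (col2 (col1 (col4 (col3 (col2 (col1 (col4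 (col3 (col2 (col1 (col4 (col3 (col2 (col1 (col3 (col2 (col4 (col2 (col3 (col1 (col2 (col3 (col4 (col1 (col2 (col3 (col4 (col1 (col2 (col3 (col4 (col1 (col2 (col3 (col4 (col1 (col2 (col3 (col4 (col1 (col2 (col3 (col4 (col1 (col2 (col3 (col4 (col5 (i))))))))))))))))))))))))))))))))))))))))))))))))))))))))))))))))))))))))))))))))))))))))))))))))))))))))))))))))))))))))))))))))))))))))))))))))))))))))))))))))))))))))))))))))))))))))))))))
theorem act87_eq (i : Nat) : act87 i = Tab.act T D chk87 i := rfl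
theorem c87_0 : allRange (fun i => Nat.beq (act87 i) i) 0 312 = true := by decide +kernel
theorem c87_1 : allRange (fun i => Nat.beq (act87 i) i) 312 312 = true := by decide +kernel
theorem c87_2 : allRange (fun i => Nat.beq (act87 i) i) 624 312 = true := by decide +kernel
theorem c87_3 : allRange (fun i => Nat.beq (act87 i) i) 936 312 = true := by decide +kernel
theorem c87_4 : allRange (fun i => Nat.beq (act87 i) i) 1248 312 = true := by decide +kernel
theorem c87_5 : allRange (fun i => Nat.beq (act87 i) i) 1560 312 = true := by decide +kernel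
theorem c87_6 : allRange (fun i => Nat.beq (act87 i) i) 1872 186 = true := by decide +kernel
theorem h87 : ∀ i, i < T.N → Tab.relActOK T D chk87 i = true := by
  intro i hi
  rw [Tab.relActOK, ← act87_eq]
  exact (range_glue (range_of_allRange c87_0) (range_glue (range_of_allRange c87_1) (range_glue (range_of_allRange c87_2) (range_glue (range_of_allRange c87_3) (range_glue (range_of_allRange c87_4) (range_glue (range_of_allRange c87_5) (range_of_allRange c87_6))))))) i (Nat.zero_le _) hi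

def chk88 : List Nat := [6, 5, 4, 3, 2, 1, 4, 3, 2, 1, 4, 3, 2, 1, 4, 3, 2, 1, 4, 3, 2, 1, 4, 3, 2, 1, 4, 3, 2, 1, 3, 2, 5, 4, 3, 2, 1, 4, 3, 2, 1, 4, 3, 2, 1, 4, 3, 2, 1, 4, 3, 2, 1, 4, 3, 2, 1, 4, 3, 2, 1, 3, 2, 4, 5, 4, 3, 2, 1, 4, 3, 2, 1, 4, 3, 2, 1, 4, 3, 2, 1, 4, 3, 2, 1, 4, 3, 2, 1, 4, 3, 2, 1, 3, 2, 5, 4, 3, 2, 1, 4, 3, 2, 1, 4, 3, 2, 1, 4, 3, 2, 1, 4, 3, 2, 1, 4, 3, 2, 1, 4, 3, 2, 1, 3, 2, 5, 4, 3, 2, 1, 4, 3, 2, 1, 4, 3, 2, 1, 4, 3, 2, 1, 4, 3, 2, 1, 4, 3, 2, 1, 4, 3, 2, 1, 3, 2, 2, 6, 2, 3, 1, 2, 3, 4, 1, 2, 3, 4, 1, 2, 3, 4, 1, 2, 3, 4, 1, 2, 3, 4, 1, 2, 3, 4, 1, 2, 3, 4, 5, 2, 3, 1, 2, 3, 4, 1, 2, 3, 4, 1, 2, 3, 4, 1, 2, 3, 4, 1, 2, 3, 4, 1, 2, 3, 4, 1, 2, 3, 4, 5, 2, 3, 1, 2, 3, 4, 1, 2, 3, 4, 1, 2, 3, 4, 1, 2, 3, 4, 1, 2, 3, 4, 1, 2, 3, 4, 1, 2, 3, 4, 5, 4, 2, 3, 1, 2, 3, 4, 1, 2, 3, 4, 1, 2, 3, 4, 1, 2, 3, 4, 1, 2, 3, 4, 1, 2, 3, 4, 1, 2, 3, 4, 5, 2, 3, 1, 2, 3, 4, 1, 2, 3, 4, 1, 2, 3, 4, 1, 2, 3, 4, 1,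 2, 3, 4, 1, 2, 3, 4, 1, 2, 3, 4, 5]
noncomputable def act88 (i : Nat) : Nat := col6 (col5 (col4 (col3 (col2 (col1 (col4 (col3 (col2 (col1 (col4 (col3 (col2 (col1 (col4 (col3 (col2 (col1 (col4 (col3 (col2 (col1 (col4 (col3 (col2 (col1 (col4 (col3 (col2 (col1 (col3 (col2 (col5 (col4 (col3 (col2 (col1 (col4 (col3 (col2 (col1 (col4 (col3 (col2 (col1 (col4 (col3 (col2 (col1 (col4 (col3 (col2 (col1 (col4 (col3 (col2 (col1 (col4 (col3 (col2 (col1 (col3 (col2 (col4 (col5 (col4 (col3 (col2 (col1 (col4 (col3 (col2 (col1 (col4 (col3 (col2 (col1 (col4 (col3 (col2 (col1 (col4 (col3 (col2 (col1 (col4 (col3 (col2 (col1 (col4 (col3 (col2 (col1 (col3 (col2 (col5 (col4 (col3 (col2 (col1 (col4 (col3 (col2 (col1 (col4 (col3 (col2 (col1 (col4 (col3 (col2 (col1 (col4 (col3 (col2 (col1 (col4 (col3 (col2 (col1 (col4 (col3 (col2 (col1 (col3 (col2 (col5 (col4 (col3 (col2 (col1 (col4 (col3 (col2 (col1 (col4 (col3 (col2 (col1 (col4 (col3 (col2 (col1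 (col4 (col3 (col2 (col1 (col4 (col3 (col2 (col1 (col4 (col3 (col2 (col1 (col3 (col2 (col2 (col6 (col2 (col3 (col1 (col2 (col3 (col4 (col1 (col2 (col3 (col4 (col1 (col2 (col3 (col4 (col1 (col2 (col3 (col4 (col1 (col2 (col3 (col4 (col1 (col2 (col3 (col4 (col1 (col2 (col3 (col4 (col5 (col2 (col3 (col1 (col2 (col3 (col4 (col1 (col2 (col3 (col4 (col1 (col2 (col3 (col4 (col1 (col2 (col3 (col4 (col1 (col2 (col3 (col4 (col1 (col2 (col3 (col4 (col1 (col2 (col3 (col4 (col5 (col2 (col3 (col1 (col2 (col3 (col4 (col1 (col2 (col3 (col4 (col1 (col2 (col3 (col4 (col1 (col2 (col3 (col4 (col1 (col2 (col3 (col4 (col1 (col2 (col3 (col4 (col1 (col2 (col3 (col4 (col5 (col4 (col2 (col3 (col1 (col2 (col3 (col4 (col1 (col2 (col3 (col4 (col1 (col2 (col3 (col4 (col1 (col2 (col3 (col4 (col1 (col2 (col3 (col4 (col1 (col2 (col3 (col4 (col1 (col2 (col3 (col4 (col5 (col2 (col3 (col1 (col2 (col3 (col4 (col1 (col2 (col3 (col4 (col1 (col2 (col3 (col4 (col1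 (col2 (col3 (col4 (col1 (col2 (col3 (col4 (col1 (col2 (col3 (col4 (col1 (col2 (col3 (col4 (col5 (i)))))))))))))))))))))))))))))))))))))))))))))))))))))))))))))))))))))))))))))))))))))))))))))))))))))))))))))))))))))))))))))))))))))))))))))))))))))))))))))))))))))))))))))))))))))))))))))))))))))))))))))))))))))))))))))))))))))))))))))))))))))))))))))))))))))))))))))))))))))))))))))))))))))))))))))))))))))))))))
theorem act88_eq (i : Nat) : act88 i = Tab.act T D chk88 i := rfl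
theorem c88_0 : allRange (fun i => Nat.beq (act88 i) i) 0 189 = true := by decide +kernel
theorem c88_1 : allRange (fun i => Nat.beq (act88 i) i) 189 189 = true := by decide +kernel
theorem c88_2 : allRange (fun i => Nat.beq (act88 i) i) 378 189 = true := by decide +kernel
theorem c88_3 : allRange (fun i => Nat.beq (act88 i) i) 567 189 = true := by decide +kernel
theorem c88_4 : allRange (fun i => Nat.beq (act88 i) i) 756 189 = true := by decide +kernel
theorem c88_5 : allRange (fun i => Nat.beq (act88 i) i) 945 189 = true := by decide +kernel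
theorem c88_6 : allRange (fun i => Nat.beq (act88 i) i) 1134 189 = true := by decide +kernel
theorem c88_7 : allRange (fun i => Nat.beq (act88 i) i) 1323 189 = true := by decide +kernel
theorem c88_8 : allRange (fun i => Nat.beq (act88 i) i) 1512 189 = true := by decide +kernel
theorem c88_9 : allRange (fun i => Nat.beq (act88 i) i) 1701 189 = true := by decide +kernel
theorem c88_10 : allRange (fun i => Nat.beq (act88 i) i) 1890 168 = true := by decide +kernel
theorem h88 : ∀ i, i < T.N → Tab.relActOK T D chk88 i = true := by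
  intro i hi
  rw [Tab.relActOK, ← act88_eq]
  exact (range_glue (range_of_allRange c88_0) (range_glue (range_of_allRange c88_1) (range_glue (range_of_allRange c88_2) (range_glue (range_of_allRange c88_3) (range_glue (range_of_allRange c88_4) (range_glue (range_of_allRange c88_5) (range_glue (range_of_allRange c88_6) (range_glue (range_of_allRange c88_7) (range_glue (range_of_allRange c88_8) (range_glue (range_of_allRange c88_9) (range_of_allRange c88_10))))))))))) i (Nat.zero_le _) hi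

def chk89 : List Nat := [5, 4, 3, 2, 1, 4, 3, 2, 1, 4, 3, 2, 1, 4, 3, 2, 1, 4, 3, 2, 1, 4, 3, 2, 1, 4, 3, 2, 1, 3, 2, 5, 4, 3, 2, 1, 4, 3, 2, 1, 4, 3, 2, 1, 4, 3, 2, 1, 4, 3, 2, 1, 4, 3, 2, 1, 4, 3, 2, 1, 3, 2, 4, 5, 4, 3, 2, 1, 4, 3, 2, 1, 4, 3, 2, 1, 4, 3, 2, 1, 4, 3, 2, 1, 4, 3, 2, 1, 4, 3, 2, 1, 3, 2, 5, 4, 3, 2, 1, 4, 3, 2, 1, 4, 3, 2, 1, 4, 3, 2, 1, 4, 3, 2, 1, 4, 3, 2, 1, 4, 3, 2, 1, 3, 2, 5, 4, 3, 2, 1, 4, 3, 2, 1, 4, 3, 2, 1, 4, 3, 2, 1, 4, 3, 2, 1, 4, 3, 2, 1, 4, 3, 2, 1, 3, 2, 2, 5, 4, 3, 2, 1, 4, 3, 2, 1, 4, 3, 2, 1, 4, 3, 2, 1, 4, 3, 2, 1, 4, 3, 2, 1, 4, 3, 2, 1, 3, 2, 5, 4, 3, 2, 1, 4, 3, 2, 1, 4, 3, 2, 1, 4, 3, 2, 1, 4, 3, 2, 1, 4, 3, 2, 1, 4, 3, 2, 1, 3, 2, 4, 5, 4, 3, 2, 1, 4, 3, 2, 1, 4, 3, 2, 1, 4, 3, 2, 1, 4, 3, 2, 1, 4, 3, 2, 1, 4, 3, 2, 1, 3, 2, 5, 4, 3, 2, 1, 4, 3, 2, 1, 4, 3, 2, 1, 4, 3, 2, 1, 4, 3, 2, 1, 4, 3, 2, 1, 4, 3, 2, 1, 3, 2, 5, 4, 3, 2, 1, 4, 3, 2, 1, 4, 3, 2, 1, 4, 3, 2, 1, 4, 3, 2, 1,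 4, 3, 2, 1, 4, 3, 2, 1, 3, 2, 2, 5, 4, 3, 2, 1, 4, 3, 2, 1, 4, 3, 2, 1, 4, 3, 2, 1, 4, 3, 2, 1, 4, 3, 2, 1, 4, 3, 2, 1, 3, 2, 5, 4, 3, 2, 1, 4, 3, 2, 1, 4, 3, 2, 1, 4, 3, 2, 1, 4, 3, 2, 1, 4, 3, 2, 1, 4, 3, 2, 1, 3, 2, 4, 5, 4, 3, 2, 1, 4, 3, 2, 1, 4, 3, 2, 1, 4, 3, 2, 1, 4, 3, 2, 1, 4, 3, 2, 1, 4, 3, 2, 1, 3, 2, 5, 4, 3, 2, 1, 4, 3, 2, 1, 4, 3, 2, 1, 4, 3, 2, 1, 4, 3, 2, 1, 4, 3, 2, 1, 4, 3, 2, 1, 3, 2, 5, 4, 3, 2, 1, 4, 3, 2, 1, 4, 3, 2, 1, 4, 3, 2, 1, 4, 3, 2, 1, 4, 3, 2, 1, 4, 3, 2, 1, 3, 2, 2]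
noncomputable def act89 (i : Nat) : Nat := col5 (col4 (col3 (col2 (col1 (col4 (col3 (col2 (col1 (col4 (col3 (col2 (col1 (col4 (col3 (col2 (col1 (col4 (col3 (col2 (col1 (col4 (col3 (col2 (col1 (col4 (col3 (col2 (col1 (col3 (col2 (col5 (col4 (col3 (col2 (col1 (col4 (col3 (col2 (col1 (col4 (col3 (col2 (col1 (col4 (col3 (col2 (col1 (col4 (col3 (col2 (col1 (col4 (col3 (col2 (col1 (col4 (col3 (col2 (col1 (col3 (col2 (col4 (col5 (col4 (col3 (col2 (col1 (col4 (col3 (col2 (col1 (col4 (col3 (col2 (col1 (col4 (col3 (col2 (col1 (col4 (col3 (col2 (col1 (col4 (col3 (col2 (col1 (col4 (col3 (col2 (col1 (col3 (col2 (col5 (col4 (col3 (col2 (col1 (col4 (col3 (col2 (col1 (col4 (col3 (col2 (col1 (col4 (col3 (col2 (col1 (col4 (col3 (col2 (col1 (col4 (col3 (col2 (col1 (col4 (col3 (col2 (col1 (col3 (col2 (col5 (col4 (col3 (col2 (col1 (col4 (col3 (col2 (col1 (col4 (col3 (col2 (col1 (col4 (col3 (col2 (col1 (col4 (col3 (col2 (col1 (col4 (col3 (col2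 (col1 (col4 (col3 (col2 (col1 (col3 (col2 (col2 (col5 (col4 (col3 (col2 (col1 (col4 (col3 (col2 (col1 (col4 (col3 (col2 (col1 (col4 (col3 (col2 (col1 (col4 (col3 (col2 (col1 (col4 (col3 (col2 (col1 (col4 (col3 (col2 (col1 (col3 (col2 (col5 (col4 (col3 (col2 (col1 (col4 (col3 (col2 (col1 (col4 (col3 (col2 (col1 (col4 (col3 (col2 (col1 (col4 (col3 (col2 (col1 (col4 (col3 (col2 (col1 (col4 (col3 (col2 (col1 (col3 (col2 (col4 (col5 (col4 (col3 (col2 (col1 (col4 (col3 (col2 (col1 (col4 (col3 (col2 (col1 (col4 (col3 (col2 (col1 (col4 (col3 (col2 (col1 (col4 (col3 (col2 (col1 (col4 (col3 (col2 (col1 (col3 (col2 (col5 (col4 (col3 (col2 (col1 (col4 (col3 (col2 (col1 (col4 (col3 (col2 (col1 (col4 (col3 (col2 (col1 (col4 (col3 (col2 (col1 (col4 (col3 (col2 (col1 (col4 (col3 (col2 (col1 (col3 (col2 (col5 (col4 (col3 (col2 (col1 (col4 (col3 (col2 (col1 (col4 (col3 (col2 (col1 (col4 (col3 (col2 (col1 (col4 (col3 (col2 (col1 (col4 (col3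 (col2 (col1 (col4 (col3 (col2 (col1 (col3 (col2 (col2 (col5 (col4 (col3 (col2 (col1 (col4 (col3 (col2 (col1 (col4 (col3 (col2 (col1 (col4 (col3 (col2 (col1 (col4 (col3 (col2 (col1 (col4 (col3 (col2 (col1 (col4 (col3 (col2 (col1 (col3 (col2 (col5 (col4 (col3 (col2 (col1 (col4 (col3 (col2 (col1 (col4 (col3 (col2 (col1 (col4 (col3 (col2 (col1 (col4 (col3 (col2 (col1 (col4 (col3 (col2 (col1 (col4 (col3 (col2 (col1 (col3 (col2 (col4 (col5 (col4 (col3 (col2 (col1 (col4 (col3 (col2 (col1 (col4 (col3 (col2 (col1 (col4 (col3 (col2 (col1 (col4 (col3 (col2 (col1 (col4 (col3 (col2 (col1 (col4 (col3 (col2 (col1 (col3 (col2 (col5 (col4 (col3 (col2 (col1 (col4 (col3 (col2 (col1 (col4 (col3 (col2 (col1 (col4 (col3 (col2 (col1 (col4 (col3 (col2 (col1 (col4 (col3 (col2 (col1 (col4 (col3 (col2 (col1 (col3 (col2 (col5 (col4 (col3 (col2 (col1 (col4 (col3 (col2 (col1 (col4 (col3 (col2 (col1 (col4 (col3 (col2 (col1 (col4 (col3 (col2 (col1 (col4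 (col3 (col2 (col1 (col4 (col3 (col2 (col1 (col3 (col2 (col2 (i)))))))))))))))))))))))))))))))))))))))))))))))))))))))))))))))))))))))))))))))))))))))))))))))))))))))))))))))))))))))))))))))))))))))))))))))))))))))))))))))))))))))))))))))))))))))))))))))))))))))))))))))))))))))))))))))))))))))))))))))))))))))))))))))))))))))))))))))))))))))))))))))))))))))))))))))))))))))))))))))))))))))))))))))))))))))))))))))))))))))))))))))))))))))))))))))))))))))))))))))))))))))))))))))))))))))))))))))))))))))))))))))))))))))))))))))))))))))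
theorem act89_eq (i : Nat) : act89 i = Tab.act T D chk89 i := rfl
theorem c89_0 : allRange (fun i => Nat.beq (act89 i) i) 0 126 = true := by decide +kernel
theorem c89_1 : allRange (fun i => Nat.beq (act89 i) i) 126 126 = true := by decide +kernel
theorem c89_2 : allRange (fun i => Nat.beq (act89 i) i) 252 126 = true := by decide +kernel
theorem c89_3 : allRange (fun i => Nat.beq (act89 i) i) 378 126 = true := by decide +kernel
theorem c89_4 : allRange (fun i => Nat.beq (act89 i) i) 504 126 = true := by decide +kernel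
theorem c89_5 : allRange (fun i => Nat.beq (act89 i) i) 630 126 = true := by decide +kernel
theorem c89_6 : allRange (fun i => Nat.beq (act89 i) i) 756 126 = true := by decide +kernel
theorem c89_7 : allRange (fun i => Nat.beq (act89 i) i) 882 126 = true := by decide +kernel
theorem c89_8 : allRange (fun i => Nat.beq (act89 i) i) 1008 126 = true := by decide +kernel
theorem c89_9 : allRange (fun i => Nat.beq (act89 i) i) 1134 126 = true := by decide +kernel
theorem c89_10 : allRange (fun i => Nat.beq (act89 i) i) 1260 126 = true := by decide +kernel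
theorem c89_11 : allRange (fun i => Nat.beq (act89 i) i) 1386 126 = true := by decide +kernel
theorem c89_12 : allRange (fun i => Nat.beq (act89 i) i) 1512 126 = true := by decide +kernel
theorem c89_13 : allRange (fun i => Nat.beq (act89 i) i) 1638 126 = true := by decide +kernel
theorem c89_14 : allRange (fun i => Nat.beq (act89 i) i) 1764 126 = true := by decide +kernel
theorem c89_15 : allRange (fun i => Nat.beq (act89 i) i) 1890 126 = true := by decide +kernel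
theorem c89_16 : allRange (fun i => Nat.beq (act89 i) i) 2016 42 = true := by decide +kernel
theorem h89 : ∀ i, i < T.N → Tab.relActOK T D chk89 i = true := by
  intro i hi
  rw [Tab.relActOK, ← act89_eq]
  exact (range_glue (range_of_allRange c89_0) (range_glue (range_of_allRange c89_1) (range_glue (range_of_allRange c89_2) (range_glue (range_of_allRange c89_3) (range_glue (range_of_allRange c89_4) (range_glue (range_of_allRange c89_5) (range_glue (range_of_allRange c89_6) (range_glue (range_of_allRange c89_7) (range_glue (range_of_allRange c89_8) (range_glue (range_of_allRange c89_9) (range_glue (range_of_allRange c89_10) (range_glue (range_of_allRange c89_11) (range_glue (range_of_allRange c89_12) (range_glue (range_of_allRange c89_13) (range_glue (range_of_allRange c89_14) (range_glue (range_of_allRange c89_15) (range_of_allRange c89_16))))))))))))))))) i (Nat.zero_le _) hi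

def chk90 : List Nat := [5, 4, 3, 2, 1, 4, 3, 2, 1, 4, 3, 2, 1, 4, 3, 2, 1, 4, 3, 2, 1, 4, 3, 2, 1, 4, 3, 2, 1, 3, 2, 5, 4, 3, 2, 1, 4, 3, 2, 1, 4, 3, 2, 1, 4, 3, 2, 1, 4, 3, 2, 1, 4, 3, 2, 1, 4, 3, 2, 1, 3, 2, 4, 5, 4, 3, 2, 1, 4, 3, 2, 1, 4, 3, 2, 1, 4, 3, 2, 1, 4, 3, 2, 1, 4, 3, 2, 1, 4, 3, 2, 1, 3, 2, 5, 4, 3, 2, 1, 4, 3, 2, 1, 4, 3, 2, 1, 4, 3, 2, 1, 4, 3, 2, 1, 4, 3, 2, 1, 4, 3, 2, 1, 3, 2, 5, 4, 3, 2, 1, 4, 3, 2, 1, 4, 3, 2, 1, 4, 3, 2, 1, 4, 3, 2, 1, 4, 3, 2, 1, 4, 3, 2, 1, 3, 2, 5, 4, 3, 2, 1, 4, 3, 2, 1, 4, 3, 2, 1, 4, 3, 2, 1, 4, 3, 2, 1, 4, 3, 2, 1, 4, 3, 2, 1, 3, 2, 5, 4, 3, 2, 1, 4, 3, 2, 1, 4, 3, 2, 1, 4, 3, 2, 1, 4, 3, 2, 1, 4, 3, 2, 1, 4, 3, 2, 1, 3, 2, 4, 5, 4, 3, 2, 1, 4, 3, 2, 1, 4, 3, 2, 1, 4, 3, 2, 1, 4, 3, 2, 1, 4, 3, 2, 1, 4, 3, 2, 1, 3, 2, 5, 4, 3, 2, 1, 4, 3, 2, 1, 4, 3, 2, 1, 4, 3, 2, 1, 4, 3, 2, 1, 4, 3, 2, 1, 4, 3, 2, 1, 3, 2, 5, 4, 3, 2, 1, 4, 3, 2, 1, 4, 3, 2, 1, 4, 3, 2, 1, 4, 3, 2, 1, 4,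 3, 2, 1, 4, 3, 2, 1, 3, 2, 5, 4, 3, 2, 1, 4, 3, 2, 1, 4, 3, 2, 1, 4, 3, 2, 1, 4, 3, 2, 1, 4, 3, 2, 1, 4, 3, 2, 1, 3, 2, 5, 4, 3, 2, 1, 4, 3, 2, 1, 4, 3, 2, 1, 4, 3, 2, 1, 4, 3, 2, 1, 4, 3, 2, 1, 4, 3, 2, 1, 3, 2, 4, 5, 4, 3, 2, 1, 4, 3, 2, 1, 4, 3, 2, 1, 4, 3, 2, 1, 4, 3, 2, 1, 4, 3, 2, 1, 4, 3, 2, 1, 3, 2, 5, 4, 3, 2, 1, 4, 3, 2, 1, 4, 3, 2, 1, 4, 3, 2, 1, 4, 3, 2, 1, 4, 3, 2, 1, 4, 3, 2, 1, 3, 2, 5, 4, 3, 2, 1, 4, 3, 2, 1, 4, 3, 2, 1, 4, 3, 2, 1, 4, 3, 2, 1, 4, 3, 2, 1, 4, 3, 2, 1, 3, 2]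
noncomputable def act90 (i : Nat) : Nat := col5 (col4 (col3 (col2 (col1 (col4 (col3 (col2 (col1 (col4 (col3 (col2 (col1 (col4 (col3 (col2 (col1 (col4 (col3 (col2 (col1 (col4 (col3 (col2 (col1 (col4 (col3 (col2 (col1 (col3 (col2 (col5 (col4 (col3 (col2 (col1 (col4 (col3 (col2 (col1 (col4 (col3 (col2 (col1 (col4 (col3 (col2 (col1 (col4 (col3 (col2 (col1 (col4 (col3 (col2 (col1 (col4 (col3 (col2 (col1 (col3 (col2 (col4 (col5 (col4 (col3 (col2 (col1 (col4 (col3 (col2 (col1 (col4 (col3 (col2 (col1 (col4 (col3 (col2 (col1 (col4 (col3 (col2 (col1 (col4 (col3 (col2 (col1 (col4 (col3 (col2 (col1 (col3 (col2 (col5 (col4 (col3 (col2 (col1 (col4 (col3 (col2 (col1 (col4 (col3 (col2 (col1 (col4 (col3 (col2 (col1 (col4 (col3 (col2 (col1 (col4 (col3 (col2 (col1 (col4 (col3 (col2 (col1 (col3 (col2 (col5 (col4 (col3 (col2 (col1 (col4 (col3 (col2 (col1 (col4 (col3 (col2 (col1 (col4 (col3 (col2 (col1 (col4 (col3 (col2 (col1 (col4 (col3 (col2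 (col1 (col4 (col3 (col2 (col1 (col3 (col2 (col5 (col4 (col3 (col2 (col1 (col4 (col3 (col2 (col1 (col4 (col3 (col2 (col1 (col4 (col3 (col2 (col1 (col4 (col3 (col2 (col1 (col4 (col3 (col2 (col1 (col4 (col3 (col2 (col1 (col3 (col2 (col5 (col4 (col3 (col2 (col1 (col4 (col3 (col2 (col1 (col4 (col3 (col2 (col1 (col4 (col3 (col2 (col1 (col4 (col3 (col2 (col1 (col4 (col3 (col2 (col1 (col4 (col3 (col2 (col1 (col3 (col2 (col4 (col5 (col4 (col3 (col2 (col1 (col4 (col3 (col2 (col1 (col4 (col3 (col2 (col1 (col4 (col3 (col2 (col1 (col4 (col3 (col2 (col1 (col4 (col3 (col2 (col1 (col4 (col3 (col2 (col1 (col3 (col2 (col5 (col4 (col3 (col2 (col1 (col4 (col3 (col2 (col1 (col4 (col3 (col2 (col1 (col4 (col3 (col2 (col1 (col4 (col3 (col2 (col1 (col4 (col3 (col2 (col1 (col4 (col3 (col2 (col1 (col3 (col2 (col5 (col4 (col3 (col2 (col1 (col4 (col3 (col2 (col1 (col4 (col3 (col2 (col1 (col4 (col3 (col2 (col1 (col4 (col3 (col2 (col1 (col4 (col3 (col2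 (col1 (col4 (col3 (col2 (col1 (col3 (col2 (col5 (col4 (col3 (col2 (col1 (col4 (col3 (col2 (col1 (col4 (col3 (col2 (col1 (col4 (col3 (col2 (col1 (col4 (col3 (col2 (col1 (col4 (col3 (col2 (col1 (col4 (col3 (col2 (col1 (col3 (col2 (col5 (col4 (col3 (col2 (col1 (col4 (col3 (col2 (col1 (col4 (col3 (col2 (col1 (col4 (col3 (col2 (col1 (col4 (col3 (col2 (col1 (col4 (col3 (col2 (col1 (col4 (col3 (col2 (col1 (col3 (col2 (col4 (col5 (col4 (col3 (col2 (col1 (col4 (col3 (col2 (col1 (col4 (col3 (col2 (col1 (col4 (col3 (col2 (col1 (col4 (col3 (col2 (col1 (col4 (col3 (col2 (col1 (col4 (col3 (col2 (col1 (col3 (col2 (col5 (col4 (col3 (col2 (col1 (col4 (col3 (col2 (col1 (col4 (col3 (col2 (col1 (col4 (col3 (col2 (col1 (col4 (col3 (col2 (col1 (col4 (col3 (col2 (col1 (col4 (col3 (col2 (col1 (col3 (col2 (col5 (col4 (col3 (col2 (col1 (col4 (col3 (col2 (col1 (col4 (col3 (col2 (col1 (col4 (col3 (col2 (col1 (col4 (col3 (col2 (col1 (col4 (col3 (col2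 (col1 (col4 (col3 (col2 (col1 (col3 (col2 (i))))))))))))))))))))))))))))))))))))))))))))))))))))))))))))))))))))))))))))))))))))))))))))))))))))))))))))))))))))))))))))))))))))))))))))))))))))))))))))))))))))))))))))))))))))))))))))))))))))))))))))))))))))))))))))))))))))))))))))))))))))))))))))))))))))))))))))))))))))))))))))))))))))))))))))))))))))))))))))))))))))))))))))))))))))))))))))))))))))))))))))))))))))))))))))))))))))))))))))))))))))))))))))))))))))))))))))))))))))))))))))))))))))))))))))))))))))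
theorem act90_eq (i : Nat) : act90 i = Tab.act T D chk90 i := rfl
theorem c90_0 : allRange (fun i => Nat.beq (act90 i) i) 0 127 = true := by decide +kernel
theorem c90_1 : allRange (fun i => Nat.beq (act90 i) i) 127 127 = true := by decide +kernel
theorem c90_2 : allRange (fun i => Nat.beq (act90 i) i) 254 127 = true := by decide +kernel
theorem c90_3 : allRange (fun i => Nat.beq (act90 i) i) 381 127 = true := by decide +kernel
theorem c90_4 : allRange (fun i => Nat.beq (act90 i) i) 508 127 = true := by decide +kernel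
theorem c90_5 : allRange (fun i => Nat.beq (act90 i) i) 635 127 = true := by decide +kernel
theorem c90_6 : allRange (fun i => Nat.beq (act90 i) i) 762 127 = true := by decide +kernel
theorem c90_7 : allRange (fun i => Nat.beq (act90 i) i) 889 127 = true := by decide +kernel
theorem c90_8 : allRange (fun i => Nat.beq (act90 i) i) 1016 127 = true := by decide +kernel
theorem c90_9 : allRange (fun i => Nat.beq (act90 i) i) 1143 127 = true := by decide +kernel
theorem c90_10 : allRange (fun i => Nat.beq (act90 i) i) 1270 127 = true := by decide +kernel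
theorem c90_11 : allRange (fun i => Nat.beq (act90 i) i) 1397 127 = true := by decide +kernel
theorem c90_12 : allRange (fun i => Nat.beq (act90 i) i) 1524 127 = true := by decide +kernel
theorem c90_13 : allRange (fun i => Nat.beq (act90 i) i) 1651 127 = true := by decide +kernel
theorem c90_14 : allRange (fun i => Nat.beq (act90 i) i) 1778 127 = true := by decide +kernel
theorem c90_15 : allRange (fun i => Nat.beq (act90 i) i) 1905 127 = true := by decide +kernel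
theorem c90_16 : allRange (fun i => Nat.beq (act90 i) i) 2032 26 = true := by decide +kernel
theorem h90 : ∀ i, i < T.N → Tab.relActOK T D chk90 i = true := by
  intro i hi
  rw [Tab.relActOK, ← act90_eq]
  exact (range_glue (range_of_allRange c90_0) (range_glue (range_of_allRange c90_1) (range_glue (range_of_allRange c90_2) (range_glue (range_of_allRange c90_3) (range_glue (range_of_allRange c90_4) (range_glue (range_of_allRange c90_5) (range_glue (range_of_allRange c90_6) (range_glue (range_of_allRange c90_7) (range_glue (range_of_allRange c90_8) (range_glue (range_of_allRange c90_9) (range_glue (range_of_allRange c90_10) (range_glue (range_of_allRange c90_11) (range_glue (range_of_allRange c90_12) (range_glue (range_of_allRange c90_13) (range_glue (range_of_allRange c90_14) (range_glue (range_of_allRange c90_15) (range_of_allRange c90_16))))))))))))))))) i (Nat.zero_le _) hi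

def chkAll : List (List Nat) := [chk0, chk1, chk2, chk3, chk4, chk5, chk6, chk7, chk8, chk9, chk10, chk11, chk12, chk13, chk14, chk15, chk16, chk17, chk18, chk19, chk20, chk21, chk22, chk23, chk24, chk25, chk26, chk27, chk28, chk29, chk30, chk31, chk32, chk33, chk34, chk35, chk36, chk37, chk38, chk39, chk40, chk41, chk42, chk43, chk44, chk45, chk46, chk47, chk48, chk49, chk50, chk51, chk52, chk53, chk54, chk55, chk56, chk57, chk58, chk59, chk60, chk61, chk62, chk63, chk64, chk65, chk66, chk67, chk68, chk69, chk70, chk71, chk72, chk73, chk74, chk75, chk76, chk77, chk78, chk79, chk80, chk81, chk82, chk83, chk84, chk85, chk86, chk87, chk88, chk89, chk90]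
theorem hAll : ∀ w ∈ chkAll, ∀ i, i < T.N → Tab.relActOK T D w i = true := by
  intro w hw
  simp only [chkAll, List.mem_cons, List.not_mem_nil, or_false] at hw
  rcases hw with rfl | rfl | rfl | rfl | rfl | rfl | rfl | rfl | rfl | rfl | rfl | rfl | rfl | rfl | rfl | rfl | rfl | rfl | rfl | rfl | rfl | rfl | rfl | rfl | rfl | rfl | rfl | rfl | rfl | rfl | rfl | rfl | rfl | rfl | rfl | rfl | rfl | rfl | rfl | rfl | rfl | rfl | rfl | rfl | rfl | rfl | rfl | rfl | rfl | rfl | rfl | rfl | rfl | rfl | rfl | rfl | rfl | rfl | rfl | rfl | rfl | rfl | rfl | rfl | rfl | rfl | rfl | rfl | rfl | rfl | rfl | rfl | rfl | rfl | rfl | rfl | rfl | rfl | rfl | rfl | rfl | rfl | rfl | rfl | rfl | rfl | rfl | rfl | rfl | rfl | rfl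
  · exact h0
  · exact h1
  · exact h2
  · exact h3
  · exact h4
  · exact h5
  · exact h6
  · exact h7
  · exact h8
  · exact h9
  · exact h10
  · exact h11
  · exact h12
  · exact h13
  · exact h14
  · exact h15
  · exact h16
  · exact h17
  · exact h18
  · exact h19
  · exact h20
  · exact h21
  · exact h22
  · exact h23
  · exact h24
  · exact h25
  · exact h26
  · exact h27
  · exact h28
  · exact h29
  · exact h30
  · exact h31
  · exact h32
  · exact h33
  · exact h34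
  · exact h35
  · exact h36
  · exact h37
  · exact h38
  · exact h39
  · exact h40
  · exact h41
  · exact h42
  · exact h43
  · exact h44
  · exact h45
  · exact h46
  · exact h47
  · exact h48
  · exact h49
  · exact h50
  · exact h51
  · exact h52
  · exact h53
  · exact h54
  · exact h55
  · exact h56
  · exact h57
  · exact h58
  · exact h59
  · exact h60
  · exact h61
  · exact h62
  · exact h63
  · exact h64
  · exact h65
  · exact h66
  · exact h67
  · exact h68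
  · exact h69
  · exact h70
  · exact h71
  · exact h72
  · exact h73
  · exact h74
  · exact h75
  · exact h76
  · exact h77
  · exact h78
  · exact h79
  · exact h80
  · exact h81
  · exact h82
  · exact h83
  · exact h84
  · exact h85
  · exact h86
  · exact h87
  · exact h88
  · exact h89
  · exact h90
theorem hAll_lt : ∀ w ∈ chkAll, ∀ x ∈ w, x < 7 := by decide +kernel

end Cfsg.Agent.Lib.Helper4.TCD.SHep7W
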