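import Mathlib
import Cfsg.Prelude.Def_KGroupFacts
import Cfsg.Agent.Lib.Helper4.HeMain
import Cfsg.Agent.Lib.Helper4.SHep2Main
import Cfsg.Agent.Lib.Helper4.SHep3Main
import Cfsg.Agent.Lib.Helper4.SHep5Main
import Cfsg.Agent.Lib.Helper4.SHep7Main
import Cfsg.Agent.Lib.Helper4.StemLib2

/-!
The presented Held group has no stem extension with kernel of prime order: its Schur multiplier is trivial.
-/

set_option autoImplicit false

namespace Cfsg.Agent.Lib.Helper4.HeStem

open Cfsg Cfsg.Agent.Lib.Helper4.TC Cfsg.Agent.Lib.Helper4.TCD Cfsg.Agent.Lib.Helper4.TC.Log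
  Cfsg.Agent.Lib.Helper4.Stem

/-- no stem extension with kernel of prime order -/
theorem noStem : ∀ p, p.Prime → NoStemPrime PHe.P.Grp p := by
  obtain ⟨fG, _, hcard⟩ := HeMain.order_aux
  have := fG
  apply noStemPrime_all PHe.P.Grp [2, 3, 5, 7]
  · intro p hp
    simp only [List.mem_cons, List.not_mem_nil, or_false] at hp
    rcases hp with rfl | rfl | rfl | rfl
    · exact SHep2Main.noStem
    · exact SHep3Main.noStem
    · exact SHep5Main.noStem
    · exact SHep7Main.noStem
  · rw [hcard]
    exact sq_dvd_mem_of_factors 4030387200 [2, 2, 2, 2, 2, 2, 2, 2, 2, 2, 3, 3, 3, 5, 5, 7, 7, 7, 17] (by norm_num)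
      (by decide) [2, 3, 5, 7] (by decide)

/-- the Schur multiplier of the presented Held group is trivial -/
theorem trivialMult : Cfsg.HasCyclicSchurMultiplier PHe.P.Grp 1 := by
  obtain ⟨fG, _, _⟩ := HeMain.order_aux
  have := fG
  exact trivialMultiplier_of_noStemPrime PHe.P.Grp noStem

end Cfsg.Agent.Lib.Helper4.HeStem
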