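import Mathlib
import Cfsg.Prelude.Def_SporadicCombinatorics

set_option autoImplicit false
open Cfsg

namespace Cfsg.Agent.Lib.Helper4.Hexacode

/-- addition table of GF(4) on `Fin 4` (0,1,ω,ω²) -/
def addT : Fin 4 → Fin 4 → Fin 4 :=
  ![![0, 1, 2, 3], ![1, 0, 3, 2], ![2, 3, 0, 1], ![3, 2, 1, 0]]

/-- multiplication table of GF(4) on `Fin 4` -/
def mulT : Fin 4 → Fin 4 → Fin 4 :=
  ![![0, 0, 0, 0], ![0, 1, 2, 3], ![0, 2, 3, 1], ![0, 3, 1, 2]]

def g1 : Fin 6 → Fin 4 := ![2, 3, 3, 2, 3, 2]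
def g2 : Fin 6 → Fin 4 := ![3, 2, 2, 3, 3, 2]
def g3 : Fin 6 → Fin 4 := ![3, 2, 3, 2, 2, 3]

/-- model codeword -/
def mw (t : Fin 4 × Fin 4 × Fin 4) : Fin 6 → Fin 4 :=
  fun i => addT (addT (mulT t.1 (g1 i)) (mulT t.2.1 (g2 i))) (mulT t.2.2 (g3 i))

def wt (x : Fin 6 → Fin 4) : ℕ := (Finset.univ.filter fun i => x i ≠ 0).card

theorem mw_injective : Function.Injective mw := by decide

set_option maxHeartbeats 1000000 in
theorem wt_cases : ∀ t : Fin 4 × Fin 4 × Fin 4, wt (mw t) = 0 ∨ wt (mw t) = 4 ∨ wt (mw t) = 6 := by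
  decide

theorem addT_eq_zero : ∀ a b : Fin 4, addT a b = 0 → a = b := by decide

theorem count4 : (Finset.univ.filter fun t : Fin 4 × Fin 4 × Fin 4 => wt (mw t) = 4).card = 45 := by
  decide

theorem count6 : (Finset.univ.filter fun t : Fin 4 × Fin 4 × Fin 4 => wt (mw t) = 6).card = 18 := by
  decide

section Field

variable {F : Type*} [Field F] [Fintype F] [DecidableEq F] (hF : Fintype.card F = 4) (ω : F)
  (hω : ω ^ 2 + ω + 1 = 0)

/-- the model map -/
def Φ (ω : F) : Fin 4 → F := ![0, 1, ω, ω ^ 2]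

include hF in
theorem charTwo : (2 : F) = 0 := by
  obtain ⟨p, hp⟩ := CharP.exists F
  haveI := hp
  obtain ⟨n, hpr, hn⟩ := FiniteField.card F p
  rw [hF] at hn
  have hp2 : p = 2 := by
    have h1 : p ∣ 4 := by rw [hn]; exact dvd_pow_self p n.ne_zero
    have h2 : p ∣ 2 ^ 2 := by norm_num; exact h1
    exact (Nat.prime_dvd_prime_iff_eq hpr Nat.prime_two).1 (hpr.dvd_of_dvd_pow h2)
  subst hp2
  exact_mod_cast CharP.cast_eq_zero F 2

include hF hω in
theorem Φ_add (a b : Fin 4) : Φ ω (addT a b) = Φ ω a + Φ ω b := by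
  have h2 := charTwo hF
  have hxx : ∀ x : F, x + x = 0 := fun x => by linear_combination x * h2
  have hw2 : ω ^ 2 = ω + 1 := by linear_combination hω - (ω + 1) * h2
  fin_cases a <;> fin_cases b <;> simp [Φ, addT, hxx] <;> rw [hw2] <;>
    first
    | linear_combination (0 : F) * h2
    | linear_combination (1 : F) * h2
    | linear_combination ω * h2
    | linear_combination (ω + 1) * h2
    | linear_combination (-1 : F) * h2
    | linear_combination (-ω) * h2
    | linear_combination (-ω - 1) * h2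

include hF hω in
theorem Φ_mul (a b : Fin 4) : Φ ω (mulT a b) = Φ ω a * Φ ω b := by
  have h2 := charTwo hF
  have hw2 : ω ^ 2 = ω + 1 := by linear_combination hω - (ω + 1) * h2
  have hw3 : ω ^ 3 = 1 := by
    have : ω ^ 3 = ω * ω ^ 2 := by ring
    rw [this, hw2]
    linear_combination hω - h2
  have hw4 : ω ^ 4 = ω := by
    have : ω ^ 4 = ω * ω ^ 3 := by ring
    rw [this, hw3, mul_one]
  fin_cases a <;> fin_cases b <;> simp [Φ, mulT] <;>
    first
    | ring1
    | linear_combination -hw3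
    | linear_combination -hw4

include hF hω in
theorem Φ_eq_zero (a : Fin 4) : Φ ω a = 0 ↔ a = 0 := by
  have h2 := charTwo hF
  have hw0 : ω ≠ 0 := by
    rintro rfl
    simp at hω
  have hw2 : ω ^ 2 ≠ 0 := pow_ne_zero 2 hw0
  fin_cases a <;> simp [Φ, hw0, hw2]

include hF hω in
theorem Φ_injective : Function.Injective (Φ ω) := by
  have h2 := charTwo hF
  intro a b hab
  have h0 : Φ ω (addT a b) = 0 := by
    rw [Φ_add hF ω hω, hab]
    linear_combination (Φ ω b) * h2
  rw [Φ_eq_zero hF ω hω] at h0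
  exact addT_eq_zero a b h0

include hF hω in
theorem Φ_surjective : Function.Surjective (Φ ω) := by
  have hinj := Φ_injective hF ω hω
  have : Function.Bijective (Φ ω) := by
    rw [Fintype.bijective_iff_injective_and_card]
    exact ⟨hinj, by rw [hF]; rfl⟩
  exact this.2

/-- the generators -/
theorem gen1 : (![ω, ω ^ 2, ω ^ 2, ω, ω ^ 2, ω] : Fin 6 → F) = fun i => Φ ω (g1 i) := by
  funext i; fin_cases i <;> simp [Φ, g1]

theorem gen2 : (![ω ^ 2, ω, ω, ω ^ 2, ω ^ 2, ω] : Fin 6 → F) = fun i => Φ ω (g2 i) := by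
  funext i; fin_cases i <;> simp [Φ, g2]

theorem gen3 : (![ω ^ 2, ω, ω ^ 2, ω, ω, ω ^ 2] : Fin 6 → F) = fun i => Φ ω (g3 i) := by
  funext i; fin_cases i <;> simp [Φ, g3]

/-- the codeword attached to a model triple -/
def cw (ω : F) (t : Fin 4 × Fin 4 × Fin 4) : Fin 6 → F := fun i => Φ ω (mw t i)

include hF hω in
theorem mem_iff (x : Fin 6 → F) : x ∈ hexacode F ω ↔ ∃ t, x = cw ω t := by
  unfold hexacode
  rw [Submodule.mem_span_triple, gen1, gen2, gen3]
  constructor
  · rintro ⟨a, b, c, rfl⟩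
    obtain ⟨a', rfl⟩ := Φ_surjective hF ω hω a
    obtain ⟨b', rfl⟩ := Φ_surjective hF ω hω b
    obtain ⟨c', rfl⟩ := Φ_surjective hF ω hω c
    refine ⟨(a', b', c'), ?_⟩
    funext i
    simp only [cw, mw, Pi.add_apply, Pi.smul_apply, smul_eq_mul, Φ_add hF ω hω, Φ_mul hF ω hω]
  · rintro ⟨⟨a', b', c'⟩, rfl⟩
    refine ⟨Φ ω a', Φ ω b', Φ ω c', ?_⟩
    funext i
    simp only [cw, mw, Pi.add_apply, Pi.smul_apply, smul_eq_mul, Φ_add hF ω hω, Φ_mul hF ω hω]

include hF hω in
theorem cw_injective : Function.Injective (cw ω) := by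
  intro s t hst
  apply mw_injective
  funext i
  exact Φ_injective hF ω hω (congrFun hst i)

include hF hω in
theorem wt_cw (t : Fin 4 × Fin 4 × Fin 4) :
    (Finset.univ.filter fun i => cw ω t i ≠ 0).card = wt (mw t) := by
  unfold wt
  congr 1
  ext i
  simp only [Finset.mem_filter, Finset.mem_univ, true_and, cw, ne_eq, Φ_eq_zero hF ω hω]

include hF hω in
theorem main : Nat.card ↥(hexacode F ω) = 64 ∧
    (∀ x ∈ hexacode F ω, x ≠ 0 → (Finset.univ.filter fun i => x i ≠ 0).card = 4 ∨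
      (Finset.univ.filter fun i => x i ≠ 0).card = 6) ∧
    {x : Fin 6 → F | x ∈ hexacode F ω ∧ (Finset.univ.filter fun i => x i ≠ 0).card = 4}.ncard = 45 ∧
    {x : Fin 6 → F | x ∈ hexacode F ω ∧ (Finset.univ.filter fun i => x i ≠ 0).card = 6}.ncard = 18 := by
  have hinj := cw_injective hF ω hω
  refine ⟨?_, ?_, ?_, ?_⟩
  · have : ((hexacode F ω : Submodule F (Fin 6 → F)) : Set (Fin 6 → F)) = Set.range (cw ω) := by
      ext x
      rw [SetLike.mem_coe, mem_iff hF ω hω]
      constructor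
      · rintro ⟨t, rfl⟩; exact ⟨t, rfl⟩
      · rintro ⟨t, rfl⟩; exact ⟨t, rfl⟩
    change Nat.card ((hexacode F ω : Submodule F (Fin 6 → F)) : Set (Fin 6 → F)) = 64
    rw [this, Nat.card_range_of_injective hinj]
    simp
  · intro x hx hx0
    obtain ⟨t, rfl⟩ := (mem_iff hF ω hω x).1 hx
    rw [wt_cw hF ω hω]
    rcases wt_cases t with h | h | h
    · exfalso
      apply hx0
      funext i
      unfold wt at h
      rw [Finset.card_eq_zero, Finset.filter_eq_empty_iff] at h
      have := h (Finset.mem_univ i)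
      simp only [ne_eq, not_not] at this
      simp only [cw, this]
      simp [Φ]
    · left; exact h
    · right; exact h
  · have : {x : Fin 6 → F | x ∈ hexacode F ω ∧ (Finset.univ.filter fun i => x i ≠ 0).card = 4}
        = (cw ω) '' ((Finset.univ.filter fun t : Fin 4 × Fin 4 × Fin 4 => wt (mw t) = 4) : Set _) := by
      ext x
      simp only [Set.mem_setOf_eq, Set.mem_image, Finset.coe_filter, Finset.mem_univ, true_and]
      constructor
      · rintro ⟨hx, hw⟩
        obtain ⟨t, rfl⟩ := (mem_iff hF ω hω x).1 hx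
        rw [wt_cw hF ω hω] at hw
        exact ⟨t, hw, rfl⟩
      · rintro ⟨t, hw, rfl⟩
        exact ⟨(mem_iff hF ω hω _).2 ⟨t, rfl⟩, by rw [wt_cw hF ω hω]; exact hw⟩
    rw [this, Set.ncard_image_of_injective _ hinj, Set.ncard_coe_finset, count4]
  · have : {x : Fin 6 → F | x ∈ hexacode F ω ∧ (Finset.univ.filter fun i => x i ≠ 0).card = 6}
        = (cw ω) '' ((Finset.univ.filter fun t : Fin 4 × Fin 4 × Fin 4 => wt (mw t) = 6) : Set _) := by
      ext x
      simp only [Set.mem_setOf_eq, Set.mem_image, Finset.coe_filter, Finset.mem_univ, true_and]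
      constructor
      · rintro ⟨hx, hw⟩
        obtain ⟨t, rfl⟩ := (mem_iff hF ω hω x).1 hx
        rw [wt_cw hF ω hω] at hw
        exact ⟨t, hw, rfl⟩
      · rintro ⟨t, hw, rfl⟩
        exact ⟨(mem_iff hF ω hω _).2 ⟨t, rfl⟩, by rw [wt_cw hF ω hω]; exact hw⟩
    rw [this, Set.ncard_image_of_injective _ hinj, Set.ncard_coe_finset, count6]

end Field

end Cfsg.Agent.Lib.Helper4.Hexacode
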