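import Mathlib
import Cfsg.Agent.Lib.Helper7.CountTools

/-! Piece (B2) of S2916: in a simple group of order 5616 with the given local data, two distinct
Sylow 3-subgroups meet in a subgroup of order 9. -/

set_option autoImplicit false

namespace Cfsg.Agent.Lib.Helper4.Ix13B2

open Cfsg.Agent.Lib.Lead.SylowCount Cfsg.Agent.Lib.Helper7.CountTools

variable {G : Type*} [Group G] [Finite G]

local instance fact3 : Fact (Nat.Prime 3) := ⟨by norm_num⟩
local instance fact2 : Fact (Nat.Prime 2) := ⟨by norm_num⟩
local instance fact13 : Fact (Nat.Prime 13) := ⟨by norm_num⟩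

lemma dvd27_cases {a : ℕ} (h : a ∣ 27) : a = 1 ∨ a = 3 ∨ a = 9 ∨ a = 27 := by
  have h27 : (27 : ℕ) = 3 ^ 3 := by norm_num
  rw [h27] at h
  obtain ⟨k, hk, rfl⟩ := (Nat.dvd_prime_pow (by norm_num : Nat.Prime 3)).mp h
  interval_cases k <;> simp

lemma sylow_eq_of_card_inf (hP27 : ∀ P : Sylow 3 G, Nat.card P = 27) (P P' : Sylow 3 G)
    (h : Nat.card ((P : Subgroup G) ⊓ (P' : Subgroup G) : Subgroup G) = 27) : P = P' := by
  have h1 : (P : Subgroup G) ⊓ (P' : Subgroup G) = (P : Subgroup G) :=
    Subgroup.eq_of_le_of_card_ge inf_le_left (by rw [h, hP27 P])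
  have h2 : (P : Subgroup G) ≤ (P' : Subgroup G) := by
    rw [← h1]; exact inf_le_right
  apply Sylow.ext
  exact Subgroup.eq_of_le_of_card_ge h2 (by rw [hP27 P, hP27 P'])

/-- elements with `x ^ 27 = 1` lie in a Sylow 3-subgroup -/
lemma exists_sylow_of_pow (x : G) (hx : x ^ 27 = 1) : ∃ P : Sylow 3 G, x ∈ (P : Subgroup G) := by
  have h1 : orderOf x ∣ 3 ^ 3 := by
    have := orderOf_dvd_of_pow_eq_one hx
    norm_num at this ⊢
    exact this
  obtain ⟨k, -, hk⟩ := (Nat.dvd_prime_pow (by norm_num : Nat.Prime 3)).mp h1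
  have hp : IsPGroup 3 (Subgroup.zpowers x) := by
    apply IsPGroup.of_card (n := k)
    rw [Nat.card_zpowers, hk]
  obtain ⟨Q, hQ⟩ := hp.exists_le_sylow
  exact ⟨Q, hQ (Subgroup.mem_zpowers x)⟩

lemma card_ne_one_pow (h729 : Nat.card {g : G // g ^ 27 = 1} = 729) :
    Nat.card {x : G // x ≠ 1 ∧ x ^ 27 = 1} = 728 := by
  have hset : {g : G | g ^ 27 = 1} = insert 1 {x : G | x ≠ 1 ∧ x ^ 27 = 1} := by
    ext g
    simp only [Set.mem_setOf_eq, Set.mem_insert_iff]
    constructor
    · intro h
      by_cases h1 : g = 1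
      · left; exact h1
      · right; exact ⟨h1, h⟩
    · rintro (h | h)
      · rw [h]; simp
      · exact h.2
  have h1 : ({g : G | g ^ 27 = 1}).ncard = 729 := by
    rw [← Nat.card_coe_set_eq]; exact h729
  have h2 : (1 : G) ∉ {x : G | x ≠ 1 ∧ x ^ 27 = 1} := by
    simp
  rw [hset, Set.ncard_insert_of_notMem h2 (Set.toFinite _)] at h1
  have h3 : Nat.card {x : G // x ≠ 1 ∧ x ^ 27 = 1} = ({x : G | x ≠ 1 ∧ x ^ 27 = 1}).ncard :=
    Nat.card_coe_set_eq _
  omega

/-- the centralizer in a group of order 27 of an element of order 3 has order at least 9 -/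
lemma nine_le_card_centralizer (P : Subgroup G) (hP : Nat.card P = 27) (d : G) (hdP : d ∈ P)
    (hd : orderOf d = 3) :
    9 ≤ Nat.card (P ⊓ Subgroup.centralizer ({d} : Set G) : Subgroup G) := by
  set A : Subgroup G := P ⊓ Subgroup.centralizer ({d} : Set G) with hA
  have hdA : d ∈ A := by
    rw [hA, Subgroup.mem_inf]
    refine ⟨hdP, ?_⟩
    rw [Subgroup.mem_centralizer_singleton_iff]
  have hAdvd : Nat.card A ∣ 27 := by
    rw [← hP]; exact Subgroup.card_dvd_of_le inf_le_left
  have h3A : 3 ∣ Nat.card A := by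
    rw [← hd]
    have := Subgroup.orderOf_dvd_natCard A hdA
    exact this
  by_contra hlt
  have hA3 : Nat.card A = 3 := by
    rcases dvd27_cases hAdvd with h | h | h | h
    · rw [h] at h3A; omega
    · exact h
    · omega
    · omega
  -- a nontrivial central element of P
  have hPp : IsPGroup 3 P := IsPGroup.of_card (n := 3) (by rw [hP]; norm_num)
  haveI : Nontrivial P := by
    rw [← Finite.one_lt_card_iff_nontrivial, hP]; norm_num
  haveI : Nontrivial (Subgroup.center P) := hPp.center_nontrivial
  obtain ⟨⟨z, hz⟩, hz1⟩ := exists_ne (1 : Subgroup.center P)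
  have hz1' : (z : G) ≠ 1 := by
    intro h
    apply hz1
    apply Subtype.ext
    apply Subtype.ext
    exact h
  have hzcomm : ∀ x : G, x ∈ P → x * (z : G) = (z : G) * x := by
    intro x hx
    have := Subgroup.mem_center_iff.mp hz ⟨x, hx⟩
    exact congrArg Subtype.val this
  have hzA : (z : G) ∈ A := by
    rw [hA, Subgroup.mem_inf]
    refine ⟨z.2, ?_⟩
    rw [Subgroup.mem_centralizer_singleton_iff]
    exact (hzcomm d hdP).symm
  have hzle : Subgroup.zpowers (z : G) ≤ A := by
    rw [Subgroup.zpowers_le]; exact hzA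
  have hoz : orderOf (z : G) = 3 := by
    have h1 : orderOf (z : G) ∣ 3 := by
      rw [← hA3]; exact Subgroup.orderOf_dvd_natCard A hzA
    rcases (Nat.dvd_prime (by norm_num : Nat.Prime 3)).mp h1 with h | h
    · exact absurd (orderOf_eq_one_iff.mp h) hz1'
    · exact h
  have hzeq : Subgroup.zpowers (z : G) = A :=
    Subgroup.eq_of_le_of_card_ge hzle (by rw [Nat.card_zpowers, hoz, hA3])
  have hdz : d ∈ Subgroup.zpowers (z : G) := by rw [hzeq]; exact hdA
  obtain ⟨k, hk⟩ := Subgroup.mem_zpowers_iff.mp hdz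
  have hdcomm : ∀ x : G, x ∈ P → x * d = d * x := by
    intro x hx
    rw [← hk]
    have hc : Commute x (z : G) := hzcomm x hx
    exact (hc.zpow_right k).eq
  have hPA : P ≤ A := by
    intro x hx
    rw [hA, Subgroup.mem_inf]
    refine ⟨hx, ?_⟩
    rw [Subgroup.mem_centralizer_singleton_iff]
    exact (hdcomm x hx)
  have := Subgroup.card_dvd_of_le hPA
  rw [hP, hA3] at this
  omega

theorem exists_sylow_inter_nine [IsSimpleGroup G]
    (hG : Nat.card G = 5616)
    (h13 : ∀ g : G, 13 ∣ orderOf g → orderOf g = 13)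
    (h729 : Nat.card {g : G // g ^ 27 = 1} = 729)
    (hstar : ∀ (d : G) (U : Subgroup G), orderOf d = 3 → (∀ u ∈ U, u * d = d * u) →
      Nat.card U ≠ 4) :
    ∃ P P' : Sylow 3 G, P ≠ P' ∧
      Nat.card ((P : Subgroup G) ⊓ (P' : Subgroup G) : Subgroup G) = 9 := by
  classical
  have hP27 : ∀ P : Sylow 3 G, Nat.card P = 27 := fun P => by
    have := card_sylow_of_card_eq_pow 3 3 208 (by rw [hG]; norm_num) (by norm_num) P
    rw [this]; norm_num
  by_contra hcon
  push Not at hcon
  by_cases hTI : ∀ P P' : Sylow 3 G, P ≠ P' → (P : Subgroup G) ⊓ (P' : Subgroup G) = ⊥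
  · -- (a) trivial intersections: counting
    have h1 := card_union_family (fun P : Sylow 3 G => (P : Subgroup G)) hTI 27 hP27
    have h2 : Nat.card {x : G // x ≠ 1 ∧ ∃ P : Sylow 3 G, x ∈ (P : Subgroup G)} = 728 := by
      rw [← card_ne_one_pow h729]
      apply Nat.card_congr
      apply Equiv.subtypeEquivRight
      intro x
      constructor
      · rintro ⟨hx1, P, hxP⟩
        exact ⟨hx1, pow_eq_one_of_mem hxP (hP27 P)⟩
      · rintro ⟨hx1, hx⟩
        exact ⟨hx1, exists_sylow_of_pow x hx⟩
    rw [h2] at h1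
    obtain ⟨P0⟩ : Nonempty (Sylow 3 G) := inferInstance
    have h3 : Nat.card (Sylow 3 G) ∣ 208 :=
      card_sylow_dvd_of_card P0 (hP27 P0) (by rw [hG]) (by norm_num)
    have h4 : Nat.card (Sylow 3 G) = 28 := by omega
    rw [h4] at h3
    omega
  · -- (b) some nontrivial intersection, of order 3
    push Not at hTI
    obtain ⟨P, P', hne, hD⟩ := hTI
    set D : Subgroup G := (P : Subgroup G) ⊓ (P' : Subgroup G) with hDdef
    have hDdvd : Nat.card D ∣ 27 := by
      rw [← hP27 P]; exact Subgroup.card_dvd_of_le inf_le_left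
    have hD3 : Nat.card D = 3 := by
      rcases dvd27_cases hDdvd with h | h | h | h
      · exact absurd (Subgroup.card_eq_one.mp h) hD
      · exact h
      · exact absurd h (hcon P P' hne)
      · exact absurd (sylow_eq_of_card_inf hP27 P P' h) hne
    obtain ⟨d, hdD, hd1⟩ := (Subgroup.ne_bot_iff_exists_ne_one).mp hD |>.imp
      (fun a h => h) |> fun ⟨⟨d, hdD⟩, hd1⟩ => (⟨d, hdD, fun h => hd1 (Subtype.ext h)⟩ :
        ∃ d : G, d ∈ D ∧ d ≠ 1)
    have hd3 : orderOf d = 3 := by
      have h1 : orderOf d ∣ 3 := by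
        rw [← hD3]; exact Subgroup.orderOf_dvd_natCard D hdD
      rcases (Nat.dvd_prime (by norm_num : Nat.Prime 3)).mp h1 with h | h
      · exact absurd (orderOf_eq_one_iff.mp h) hd1
      · exact h
    have hdP : d ∈ (P : Subgroup G) := (Subgroup.mem_inf.mp hdD).1
    have hdP' : d ∈ (P' : Subgroup G) := (Subgroup.mem_inf.mp hdD).2
    set C : Subgroup G := Subgroup.centralizer ({d} : Set G) with hCdef
    have hA := nine_le_card_centralizer (P : Subgroup G) (hP27 P) d hdP hd3
    have hB := nine_le_card_centralizer (P' : Subgroup G) (hP27 P') d hdP' hd3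
    have hdC : d ∈ C := by
      rw [hCdef, Subgroup.mem_centralizer_singleton_iff]
    -- 13 does not divide |C|
    have h13C : ¬ 13 ∣ Nat.card C := by
      intro h
      obtain ⟨r, hr⟩ := exists_prime_orderOf_dvd_card' 13 h
      have hr' : orderOf (r : G) = 13 := by
        rw [Subgroup.orderOf_coe]; exact hr
      have hcomm : Commute d (r : G) := by
        have := Subgroup.mem_centralizer_singleton_iff.mp r.2
        exact this.symm
      have hcop : (orderOf d).Coprime (orderOf (r : G)) := by
        rw [hd3, hr']; norm_num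
      have h39 := hcomm.orderOf_mul_eq_mul_orderOf_of_coprime hcop
      rw [hd3, hr'] at h39
      have := h13 (d * (r : G)) (by rw [h39]; norm_num)
      rw [h39] at this
      omega
    have hCdvd : Nat.card C ∣ 432 := by
      have h1 : Nat.card C ∣ 432 * 13 := by
        have := Subgroup.card_subgroup_dvd_card C
        rw [hG] at this
        exact this
      have hcop : (Nat.card C).Coprime 13 :=
        ((Nat.Prime.coprime_iff_not_dvd (by norm_num : Nat.Prime 13)).mpr h13C).symm
      exact hcop.dvd_of_dvd_mul_right h1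
    -- Sylow 3-subgroups of C
    obtain ⟨S0⟩ : Nonempty (Sylow 3 C) := inferInstance
    by_cases hn1 : Nat.card (Sylow 3 C) = 1
    · -- unique Sylow 3-subgroup of C: P = P'
      haveI : Subsingleton (Sylow 3 C) := (Nat.card_eq_one_iff_unique.mp hn1).1
      -- the image of S0 in G lies in a Sylow P''
      have hS0p : IsPGroup 3 ((S0 : Subgroup C).map C.subtype) := S0.2.map _
      obtain ⟨P'', hP''⟩ := hS0p.exists_le_sylow
      have key : ∀ R : Sylow 3 G, d ∈ (R : Subgroup G) →
          9 ≤ Nat.card ((R : Subgroup G) ⊓ C : Subgroup G) → P'' = R := by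
        intro R hdR h9
        by_contra hneR
        have hle : (R : Subgroup G) ⊓ C ≤ (P'' : Subgroup G) ⊓ (R : Subgroup G) := by
          intro x hx
          obtain ⟨hxR, hxC⟩ := Subgroup.mem_inf.mp hx
          refine Subgroup.mem_inf.mpr ⟨?_, hxR⟩
          -- the subgroup (R ⊓ C).subgroupOf C is a 3-group of C, so lies in S0
          have hp : IsPGroup 3 (((R : Subgroup G) ⊓ C).subgroupOf C) := by
            have h1 : IsPGroup 3 ((R : Subgroup G) ⊓ C : Subgroup G) :=
              R.2.to_le inf_le_left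
            exact h1.comap_subtype
          obtain ⟨Q, hQ⟩ := hp.exists_le_sylow
          have hQS : Q = S0 := Subsingleton.elim _ _
          have hxQ : (⟨x, hxC⟩ : C) ∈ (S0 : Subgroup C) := by
            rw [← hQS]
            apply hQ
            rw [Subgroup.mem_subgroupOf]
            exact hx
          apply hP''
          exact ⟨⟨x, hxC⟩, hxQ, rfl⟩
        have h1 := Subgroup.card_dvd_of_le hle
        have h2 : Nat.card ((P'' : Subgroup G) ⊓ (R : Subgroup G) : Subgroup G) ∣ 27 := by
          rw [← hP27 P'']; exact Subgroup.card_dvd_of_le inf_le_left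
        have h3 : 0 < Nat.card ((R : Subgroup G) ⊓ C : Subgroup G) := Nat.card_pos
        rcases dvd27_cases h2 with h | h | h | h
        · rw [h] at h1
          have := Nat.le_of_dvd (by norm_num) h1
          omega
        · rw [h] at h1
          have := Nat.le_of_dvd (by norm_num) h1
          omega
        · exact hcon P'' R hneR h
        · exact hneR (sylow_eq_of_card_inf hP27 P'' R h)
      have e1 := key P hdP hA
      have e2 := key P' hdP' hB
      exact hne (e1.symm.trans e2)
    · -- at least 4 Sylow 3-subgroups in C, so 4 divides |C|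
      have hmod : Nat.card (Sylow 3 C) ≡ 1 [MOD 3] := card_sylow_modEq_one 3 C
      have hdvdidx : Nat.card (Sylow 3 C) ∣ (S0 : Subgroup C).index := Sylow.card_dvd_index S0
      have hidx : (S0 : Subgroup C).index ∣ 16 := by
        have h1 : (S0 : Subgroup C).index ∣ Nat.card C := Subgroup.index_dvd_card _
        have h2 : (S0 : Subgroup C).index ∣ 16 * 27 := h1.trans (by
          have : (432 : ℕ) = 16 * 27 := by norm_num
          rw [← this]; exact hCdvd)
        have h3 : ¬ 3 ∣ (S0 : Subgroup C).index := Sylow.not_dvd_index S0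
        have hcop : ((S0 : Subgroup C).index).Coprime 27 := by
          have : (27 : ℕ) = 3 ^ 3 := by norm_num
          rw [this]
          apply Nat.Coprime.pow_right
          exact ((Nat.Prime.coprime_iff_not_dvd (by norm_num : Nat.Prime 3)).mpr h3).symm
        exact hcop.dvd_of_dvd_mul_right h2
      have hn16 : Nat.card (Sylow 3 C) ∣ 16 := hdvdidx.trans hidx
      have h4n : 4 ∣ Nat.card (Sylow 3 C) := by
        have hmod' : Nat.card (Sylow 3 C) % 3 = 1 := hmod
        have hle : Nat.card (Sylow 3 C) ≤ 16 := Nat.le_of_dvd (by norm_num) hn16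
        have hall : ∀ n ≤ 16, n ∣ 16 → n % 3 = 1 → n ≠ 1 → 4 ∣ n := by decide
        exact hall _ hle hn16 hmod' hn1
      have h4C : 2 ^ 2 ∣ Nat.card C := by
        have : (2 : ℕ) ^ 2 = 4 := by norm_num
        rw [this]
        exact (h4n.trans hdvdidx).trans (Subgroup.index_dvd_card _)
      obtain ⟨K, hK⟩ := Sylow.exists_subgroup_card_pow_prime 2 h4C
      have hKmap : Nat.card (K.map C.subtype) = 4 := by
        rw [Subgroup.card_map_of_injective (Subgroup.subtype_injective C), hK]; norm_num
      apply hstar d (K.map C.subtype) hd3 _ hKmap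
      rintro u ⟨k, -, rfl⟩
      have := Subgroup.mem_centralizer_singleton_iff.mp k.2
      exact this

end Cfsg.Agent.Lib.Helper4.Ix13B2
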