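import Mathlib
import Cfsg.Prelude.Def_SporCoxeter

/-!
A presentation of the Janko group `J₁` on two generators `a`, `b`:
`a² = b³ = (ab)⁷ = (ab(abab⁻¹)³)⁵ = (ab(abab⁻¹)⁶abab(ab⁻¹)²)² = 1`,
and a presentation of the Mathieu group `M₁₁` on two generators `a`, `b`:
`a² = b⁴ = (ab)¹¹ = (ab²)⁶ = ababab⁻¹abab²ab⁻¹abab⁻¹ab⁻¹ = 1`.
(Both are written as groups presented by an empty Coxeter graph and a list of relators.)
-/

namespace Cfsg.Agent.Lib.Helper4

namespace J1p

/-- the two generators -/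
inductive Gen
  | a
  | b
  deriving DecidableEq

abbrev a : FreeGroup Gen := FreeGroup.of Gen.a
abbrev b : FreeGroup Gen := FreeGroup.of Gen.b

/-- no Coxeter graph -/
def edges : List (Gen × ℕ × Gen) := []

/-- the relators -/
def extra : List (FreeGroup Gen) := [
  a ^ 2,
  b ^ 3,
  (a * b) ^ 7,
  (a * b * (a * b * a * b⁻¹) ^ 3) ^ 5,
  (a * b * (a * b * a * b⁻¹) ^ 6 * a * b * a * b * (a * b⁻¹) ^ 2) ^ 2 ]

end J1p

namespace M11p

/-- the two generators -/
inductive Gen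
  | a
  | b
  deriving DecidableEq

abbrev a : FreeGroup Gen := FreeGroup.of Gen.a
abbrev b : FreeGroup Gen := FreeGroup.of Gen.b

/-- no Coxeter graph -/
def edges : List (Gen × ℕ × Gen) := []

/-- the relators -/
def extra : List (FreeGroup Gen) := [
  a ^ 2,
  b ^ 4,
  (a * b) ^ 11,
  (a * b * b) ^ 6,
  a * b * a * b * a * b⁻¹ * a * b * a * b * b * a * b⁻¹ * a * b * a * b⁻¹ * a * b⁻¹ ]

end M11p

end Cfsg.Agent.Lib.Helper4
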