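import Cfsg.Agent.Lib.Helper4.TCD_J1pA_Acc
import Cfsg.Agent.Lib.Helper4.TC13

namespace Cfsg.Agent.Lib.Helper4.TCD.J1p5Q

open Cfsg.Agent.Lib.Helper4.TC Cfsg.Agent.Lib.Helper4.TCD.J1pA

set_option maxRecDepth 100000
set_option Elab.async false

def xw : List Nat := [0, 2, 0, 2, 0, 3, 0, 2, 0, 3, 0, 2, 0, 3]

noncomputable def actX (i : Nat) : Nat := col1 (col3 (col1 (col3 (col1 (col2 (col1 (col3 (col1 (col2 (col1 (col3 (col1 (col2 (col1 (col3 (col1 (col3 (col1 (col2 (col1 (col3 (col1 (col2 (col1 (col3 (col1 (col2 (col1 (col3 (col1 (col3 (col1 (col2 (col1 (col3 (col1 (col2 (col1 (col3 (col1 (col2 (col1 (col3 (col1 (col3 (col1 (col2 (col1 (col3 (col1 (col2 (col1 (col3 (col1 (col2 (col1 (col3 (col1 (col3 (col1 (col2 (col1 (col3 (col1 (col2 (col1 (col3 (col1 (col2 (i))))))))))))))))))))))))))))))))))))))))))))))))))))))))))))))))))))))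
theorem actX_eq (i : Nat) : actX i = Tab.act T D (List.replicate 5 xw).flatten i := rfl
theorem c_xq_0 : allRange (fun i => Nat.beq (actX i) i) 0 833 = true := by decide +kernel
theorem c_xq_1 : allRange (fun i => Nat.beq (actX i) i) 833 707 = true := by decide +kernel
theorem h_xq_p0 : ∀ i, 0 ≤ i → i < 1540 → Nat.beq (actX i) i = true :=
  (range_glue (range_of_allRange c_xq_0) (range_of_allRange c_xq_1))
theorem h_xq : ∀ i, i < T.N → Tab.relActOK T D (List.replicate 5 xw).flatten i = true := by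
  intro i hi
  rw [Tab.relActOK, ← actX_eq]
  exact h_xq_p0 i (Nat.zero_le _) hi

end Cfsg.Agent.Lib.Helper4.TCD.J1p5Q
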