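import Cfsg.Agent.Lib.Helper4.TCD_J1pA_C0

namespace Cfsg.Agent.Lib.Helper4.TCD.J1pA

open Cfsg.Agent.Lib.Helper4.TC

theorem h_rel : ∀ t, 1555 ≤ t → t < 3115 → D.relOK t = true :=
  (range_of_allRange c_rel_0)
theorem h_names : ∀ t, 1 ≤ t → t < 1549 → D.nameOK t = true :=
  (range_of_allRange c_names_0)
theorem h_cls : ∀ t, 1 ≤ t → t < 1549 → T.clsOK D t = true :=
  (range_of_allRange c_cls_0)
theorem h_rep : ∀ t, 0 ≤ t → t < 1540 → T.repOK D t = true :=
  (range_of_allRange c_rep_0)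
theorem h_fin : ∀ i, 0 ≤ i → i < 1540 → ∀ x, x < 4 → T.finOK D i x = true :=
  (range_of_allGrid c_fin_0)
theorem h_perm : ∀ i, 0 ≤ i → i < 1540 → ∀ x, x < 4 → T.permOK1 D i x = true :=
  (range_of_allGrid c_perm_0)
theorem h_act0 : ∀ i, 0 ≤ i → i < 1540 → Nat.beq (actR0 i) i = true :=
  (range_of_allRange c_act0_0)
theorem h_act1 : ∀ i, 0 ≤ i → i < 1540 → Nat.beq (actR1 i) i = true :=
  (range_of_allRange c_act1_0)
theorem h_act2 : ∀ i, 0 ≤ i → i < 1540 → Nat.beq (actR2 i) i = true :=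
  (range_of_allRange c_act2_0)
theorem h_act3 : ∀ i, 0 ≤ i → i < 1540 → Nat.beq (actR3 i) i = true :=
  (range_glue (range_of_allRange c_act3_0) (range_of_allRange c_act3_1))
theorem h_act4 : ∀ i, 0 ≤ i → i < 1540 → Nat.beq (actR4 i) i = true :=
  (range_glue (range_of_allRange c_act4_0) (range_of_allRange c_act4_1))

theorem checked : T.Checked D where
  hz := c_zero
  hn := fun d h0 hd => h_names d h0 hd
  hb := fun j hj => allBelow_eq_true.1 c_base j hj
  hr := fun t h1 h2 => h_rel t h1 h2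
  hfin := fun i x hi hx => h_fin i (Nat.zero_le _) hi x hx
  hperm := fun i x hi hx => h_perm i (Nat.zero_le _) hi x hx
  hlet := fun x hx => allBelow_eq_true.1 c_let x hx
  hcls := fun d h0 hd => h_cls d h0 hd
  hrep := fun i hi => h_rep i (Nat.zero_le _) hi
  hcls0 := c_cls0
  hname0 := c_name0
  hN := by decide
  hM := by decide

theorem h_act : ∀ L ∈ PJ1p.P.real, ∀ i, i < T.N → Tab.relActOK T D L i = true := by
  rw [c_real]
  intro L hL
  simp only [realLit, List.mem_cons, List.not_mem_nil, or_false] at hL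
  rcases hL with rfl | rfl | rfl | rfl | rfl
  · intro i hi
    rw [Tab.relActOK, ← actR0_eq]
    exact h_act0 i (Nat.zero_le _) hi
  · intro i hi
    rw [Tab.relActOK, ← actR1_eq]
    exact h_act1 i (Nat.zero_le _) hi
  · intro i hi
    rw [Tab.relActOK, ← actR2_eq]
    exact h_act2 i (Nat.zero_le _) hi
  · intro i hi
    rw [Tab.relActOK, ← actR3_eq]
    exact h_act3 i (Nat.zero_le _) hi
  · intro i hi
    rw [Tab.relActOK, ← actR4_eq]
    exact h_act4 i (Nat.zero_le _) hi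

theorem inst : Inst PJ1p.P T D subs where
  hP := PJ1p.valid
  hk := rfl
  hinv := rfl
  hsubs := by
    intro u hu x hx
    have h1 := List.all_eq_true.1 c_subs u hu
    exact ble_succ (List.all_eq_true.1 h1 x hx)
  htab := c_tab
  hC := checked
  hact := h_act
  hsubfix := fun u hu => beq_eq (List.all_eq_true.1 c_subfix u hu)

theorem index_eq : (Inst.subG PJ1p.P subs).index = 1540 := inst.index_eq

theorem orb_inv_0 : ∀ j, 1 ≤ j → j < 58 → Tab.orbInvOK T D subs 1 58 j = true :=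
  (range_of_allRange c_oinv0_0)
theorem orb_tree0_0 : ∀ j, 2 ≤ j → j < 58 → Tab.orbTreeOK T D subs oparTab olabTab 1 j = true :=
  (range_of_allRange c_otree0_0)
theorem orb_tree_0 : ∀ j, 1 < j → j < 58 → Tab.orbTreeOK T D subs oparTab olabTab 1 j = true :=
  fun j h1 h2 => orb_tree0_0 j h1 h2
theorem orb_inv_1 : ∀ j, 58 ≤ j → j < 115 → Tab.orbInvOK T D subs 58 115 j = true :=
  (range_of_allRange c_oinv1_0)
theorem orb_tree0_1 : ∀ j, 59 ≤ j → j < 115 → Tab.orbTreeOK T D subs oparTab olabTab 58 j = true :=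
  (range_of_allRange c_otree1_0)
theorem orb_tree_1 : ∀ j, 58 < j → j < 115 → Tab.orbTreeOK T D subs oparTab olabTab 58 j = true :=
  fun j h1 h2 => orb_tree0_1 j h1 h2
theorem orb_inv_2 : ∀ j, 115 ≤ j → j < 229 → Tab.orbInvOK T D subs 115 229 j = true :=
  (range_of_allRange c_oinv2_0)
theorem orb_tree0_2 : ∀ j, 116 ≤ j → j < 229 → Tab.orbTreeOK T D subs oparTab olabTab 115 j = true :=
  (range_of_allRange c_otree2_0)
theorem orb_tree_2 : ∀ j, 115 < j → j < 229 → Tab.orbTreeOK T D subs oparTab olabTab 115 j = true :=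
  fun j h1 h2 => orb_tree0_2 j h1 h2
theorem orb_inv_3 : ∀ j, 229 ≤ j → j < 248 → Tab.orbInvOK T D subs 229 248 j = true :=
  (range_of_allRange c_oinv3_0)
theorem orb_tree0_3 : ∀ j, 230 ≤ j → j < 248 → Tab.orbTreeOK T D subs oparTab olabTab 229 j = true :=
  (range_of_allRange c_otree3_0)
theorem orb_tree_3 : ∀ j, 229 < j → j < 248 → Tab.orbTreeOK T D subs oparTab olabTab 229 j = true :=
  fun j h1 h2 => orb_tree0_3 j h1 h2
theorem orb_inv_4 : ∀ j, 248 ≤ j → j < 362 → Tab.orbInvOK T D subs 248 362 j = true :=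
  (range_of_allRange c_oinv4_0)
theorem orb_tree0_4 : ∀ j, 249 ≤ j → j < 362 → Tab.orbTreeOK T D subs oparTab olabTab 248 j = true :=
  (range_of_allRange c_otree4_0)
theorem orb_tree_4 : ∀ j, 248 < j → j < 362 → Tab.orbTreeOK T D subs oparTab olabTab 248 j = true :=
  fun j h1 h2 => orb_tree0_4 j h1 h2
theorem orb_inv_5 : ∀ j, 362 ≤ j → j < 476 → Tab.orbInvOK T D subs 362 476 j = true :=
  (range_of_allRange c_oinv5_0)
theorem orb_tree0_5 : ∀ j, 363 ≤ j → j < 476 → Tab.orbTreeOK T D subs oparTab olabTab 362 j = true :=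
  (range_of_allRange c_otree5_0)
theorem orb_tree_5 : ∀ j, 362 < j → j < 476 → Tab.orbTreeOK T D subs oparTab olabTab 362 j = true :=
  fun j h1 h2 => orb_tree0_5 j h1 h2
theorem orb_inv_6 : ∀ j, 476 ≤ j → j < 533 → Tab.orbInvOK T D subs 476 533 j = true :=
  (range_of_allRange c_oinv6_0)
theorem orb_tree0_6 : ∀ j, 477 ≤ j → j < 533 → Tab.orbTreeOK T D subs oparTab olabTab 476 j = true :=
  (range_of_allRange c_otree6_0)
theorem orb_tree_6 : ∀ j, 476 < j → j < 533 → Tab.orbTreeOK T D subs oparTab olabTab 476 j = true :=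
  fun j h1 h2 => orb_tree0_6 j h1 h2
theorem orb_inv_7 : ∀ j, 533 ≤ j → j < 571 → Tab.orbInvOK T D subs 533 571 j = true :=
  (range_of_allRange c_oinv7_0)
theorem orb_tree0_7 : ∀ j, 534 ≤ j → j < 571 → Tab.orbTreeOK T D subs oparTab olabTab 533 j = true :=
  (range_of_allRange c_otree7_0)
theorem orb_tree_7 : ∀ j, 533 < j → j < 571 → Tab.orbTreeOK T D subs oparTab olabTab 533 j = true :=
  fun j h1 h2 => orb_tree0_7 j h1 h2
theorem orb_inv_8 : ∀ j, 571 ≤ j → j < 609 → Tab.orbInvOK T D subs 571 609 j = true :=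
  (range_of_allRange c_oinv8_0)
theorem orb_tree0_8 : ∀ j, 572 ≤ j → j < 609 → Tab.orbTreeOK T D subs oparTab olabTab 571 j = true :=
  (range_of_allRange c_otree8_0)
theorem orb_tree_8 : ∀ j, 571 < j → j < 609 → Tab.orbTreeOK T D subs oparTab olabTab 571 j = true :=
  fun j h1 h2 => orb_tree0_8 j h1 h2
theorem orb_inv_9 : ∀ j, 609 ≤ j → j < 723 → Tab.orbInvOK T D subs 609 723 j = true :=
  (range_of_allRange c_oinv9_0)
theorem orb_tree0_9 : ∀ j, 610 ≤ j → j < 723 → Tab.orbTreeOK T D subs oparTab olabTab 609 j = true :=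
  (range_of_allRange c_otree9_0)
theorem orb_tree_9 : ∀ j, 609 < j → j < 723 → Tab.orbTreeOK T D subs oparTab olabTab 609 j = true :=
  fun j h1 h2 => orb_tree0_9 j h1 h2
theorem orb_inv_10 : ∀ j, 723 ≤ j → j < 761 → Tab.orbInvOK T D subs 723 761 j = true :=
  (range_of_allRange c_oinv10_0)
theorem orb_tree0_10 : ∀ j, 724 ≤ j → j < 761 → Tab.orbTreeOK T D subs oparTab olabTab 723 j = true :=
  (range_of_allRange c_otree10_0)
theorem orb_tree_10 : ∀ j, 723 < j → j < 761 → Tab.orbTreeOK T D subs oparTab olabTab 723 j = true :=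
  fun j h1 h2 => orb_tree0_10 j h1 h2
theorem orb_inv_11 : ∀ j, 761 ≤ j → j < 875 → Tab.orbInvOK T D subs 761 875 j = true :=
  (range_of_allRange c_oinv11_0)
theorem orb_tree0_11 : ∀ j, 762 ≤ j → j < 875 → Tab.orbTreeOK T D subs oparTab olabTab 761 j = true :=
  (range_of_allRange c_otree11_0)
theorem orb_tree_11 : ∀ j, 761 < j → j < 875 → Tab.orbTreeOK T D subs oparTab olabTab 761 j = true :=
  fun j h1 h2 => orb_tree0_11 j h1 h2
theorem orb_inv_12 : ∀ j, 875 ≤ j → j < 989 → Tab.orbInvOK T D subs 875 989 j = true :=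
  (range_of_allRange c_oinv12_0)
theorem orb_tree0_12 : ∀ j, 876 ≤ j → j < 989 → Tab.orbTreeOK T D subs oparTab olabTab 875 j = true :=
  (range_of_allRange c_otree12_0)
theorem orb_tree_12 : ∀ j, 875 < j → j < 989 → Tab.orbTreeOK T D subs oparTab olabTab 875 j = true :=
  fun j h1 h2 => orb_tree0_12 j h1 h2
theorem orb_inv_13 : ∀ j, 989 ≤ j → j < 1103 → Tab.orbInvOK T D subs 989 1103 j = true :=
  (range_of_allRange c_oinv13_0)
theorem orb_tree0_13 : ∀ j, 990 ≤ j → j < 1103 → Tab.orbTreeOK T D subs oparTab olabTab 989 j = true :=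
  (range_of_allRange c_otree13_0)
theorem orb_tree_13 : ∀ j, 989 < j → j < 1103 → Tab.orbTreeOK T D subs oparTab olabTab 989 j = true :=
  fun j h1 h2 => orb_tree0_13 j h1 h2
theorem orb_inv_14 : ∀ j, 1103 ≤ j → j < 1217 → Tab.orbInvOK T D subs 1103 1217 j = true :=
  (range_of_allRange c_oinv14_0)
theorem orb_tree0_14 : ∀ j, 1104 ≤ j → j < 1217 → Tab.orbTreeOK T D subs oparTab olabTab 1103 j = true :=
  (range_of_allRange c_otree14_0)
theorem orb_tree_14 : ∀ j, 1103 < j → j < 1217 → Tab.orbTreeOK T D subs oparTab olabTab 1103 j = true :=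
  fun j h1 h2 => orb_tree0_14 j h1 h2
theorem orb_inv_15 : ∀ j, 1217 ≤ j → j < 1274 → Tab.orbInvOK T D subs 1217 1274 j = true :=
  (range_of_allRange c_oinv15_0)
theorem orb_tree0_15 : ∀ j, 1218 ≤ j → j < 1274 → Tab.orbTreeOK T D subs oparTab olabTab 1217 j = true :=
  (range_of_allRange c_otree15_0)
theorem orb_tree_15 : ∀ j, 1217 < j → j < 1274 → Tab.orbTreeOK T D subs oparTab olabTab 1217 j = true :=
  fun j h1 h2 => orb_tree0_15 j h1 h2
theorem orb_inv_16 : ∀ j, 1274 ≤ j → j < 1312 → Tab.orbInvOK T D subs 1274 1312 j = true :=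
  (range_of_allRange c_oinv16_0)
theorem orb_tree0_16 : ∀ j, 1275 ≤ j → j < 1312 → Tab.orbTreeOK T D subs oparTab olabTab 1274 j = true :=
  (range_of_allRange c_otree16_0)
theorem orb_tree_16 : ∀ j, 1274 < j → j < 1312 → Tab.orbTreeOK T D subs oparTab olabTab 1274 j = true :=
  fun j h1 h2 => orb_tree0_16 j h1 h2
theorem orb_inv_17 : ∀ j, 1312 ≤ j → j < 1426 → Tab.orbInvOK T D subs 1312 1426 j = true :=
  (range_of_allRange c_oinv17_0)
theorem orb_tree0_17 : ∀ j, 1313 ≤ j → j < 1426 → Tab.orbTreeOK T D subs oparTab olabTab 1312 j = true :=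
  (range_of_allRange c_otree17_0)
theorem orb_tree_17 : ∀ j, 1312 < j → j < 1426 → Tab.orbTreeOK T D subs oparTab olabTab 1312 j = true :=
  fun j h1 h2 => orb_tree0_17 j h1 h2
theorem orb_inv_18 : ∀ j, 1426 ≤ j → j < 1483 → Tab.orbInvOK T D subs 1426 1483 j = true :=
  (range_of_allRange c_oinv18_0)
theorem orb_tree0_18 : ∀ j, 1427 ≤ j → j < 1483 → Tab.orbTreeOK T D subs oparTab olabTab 1426 j = true :=
  (range_of_allRange c_otree18_0)
theorem orb_tree_18 : ∀ j, 1426 < j → j < 1483 → Tab.orbTreeOK T D subs oparTab olabTab 1426 j = true :=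
  fun j h1 h2 => orb_tree0_18 j h1 h2
theorem orb_inv_19 : ∀ j, 1483 ≤ j → j < 1540 → Tab.orbInvOK T D subs 1483 1540 j = true :=
  (range_of_allRange c_oinv19_0)
theorem orb_tree0_19 : ∀ j, 1484 ≤ j → j < 1540 → Tab.orbTreeOK T D subs oparTab olabTab 1483 j = true :=
  (range_of_allRange c_otree19_0)
theorem orb_tree_19 : ∀ j, 1483 < j → j < 1540 → Tab.orbTreeOK T D subs oparTab olabTab 1483 j = true :=
  fun j h1 h2 => orb_tree0_19 j h1 h2

end Cfsg.Agent.Lib.Helper4.TCD.J1pA
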