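import Cfsg.Agent.Lib.Helper4.TCD_J1pU1_Acc

namespace Cfsg.Agent.Lib.Helper4.TCD.J1pU1

open Cfsg.Agent.Lib.Helper4.TC

set_option maxRecDepth 100000
set_option Elab.async false

theorem c_fin_12 : allGrid (T.finOK D) 36000 3000 4 = true := by decide +kernel
theorem c_fin_13 : allGrid (T.finOK D) 39000 3000 4 = true := by decide +kernel
theorem c_fin_14 : allGrid (T.finOK D) 42000 3000 4 = true := by decide +kernel
theorem c_fin_15 : allGrid (T.finOK D) 45000 3000 4 = true := by decide +kernel
theorem c_fin_16 : allGrid (T.finOK D) 48000 3000 4 = true := by decide +kernel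
theorem c_fin_17 : allGrid (T.finOK D) 51000 3000 4 = true := by decide +kernel
theorem c_fin_18 : allGrid (T.finOK D) 54000 3000 4 = true := by decide +kernel
theorem c_fin_19 : allGrid (T.finOK D) 57000 3000 4 = true := by decide +kernel
theorem c_fin_20 : allGrid (T.finOK D) 60000 3000 4 = true := by decide +kernel
theorem c_fin_21 : allGrid (T.finOK D) 63000 3000 4 = true := by decide +kernel
theorem c_fin_22 : allGrid (T.finOK D) 66000 3000 4 = true := by decide +kernel
theorem c_fin_23 : allGrid (T.finOK D) 69000 3000 4 = true := by decide +kernel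
theorem c_fin_24 : allGrid (T.finOK D) 72000 3000 4 = true := by decide +kernel
theorem c_fin_25 : allGrid (T.finOK D) 75000 3000 4 = true := by decide +kernel
theorem c_fin_26 : allGrid (T.finOK D) 78000 3000 4 = true := by decide +kernel
theorem c_fin_27 : allGrid (T.finOK D) 81000 3000 4 = true := by decide +kernel
theorem c_fin_28 : allGrid (T.finOK D) 84000 3000 4 = true := by decide +kernel
theorem c_fin_29 : allGrid (T.finOK D) 87000 780 4 = true := by decide +kernel
theorem c_perm_0 : allGrid (T.permOK1 D) 0 7500 4 = true := by decide +kernel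
theorem c_perm_1 : allGrid (T.permOK1 D) 7500 7500 4 = true := by decide +kernel
theorem c_perm_2 : allGrid (T.permOK1 D) 15000 7500 4 = true := by decide +kernel
theorem c_perm_3 : allGrid (T.permOK1 D) 22500 7500 4 = true := by decide +kernel
theorem c_perm_4 : allGrid (T.permOK1 D) 30000 7500 4 = true := by decide +kernel
theorem c_perm_5 : allGrid (T.permOK1 D) 37500 7500 4 = true := by decide +kernel
theorem c_perm_6 : allGrid (T.permOK1 D) 45000 7500 4 = true := by decide +kernel
theorem c_perm_7 : allGrid (T.permOK1 D) 52500 7500 4 = true := by decide +kernel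
theorem c_perm_8 : allGrid (T.permOK1 D) 60000 7500 4 = true := by decide +kernel
theorem c_perm_9 : allGrid (T.permOK1 D) 67500 7500 4 = true := by decide +kernel
theorem c_perm_10 : allGrid (T.permOK1 D) 75000 7500 4 = true := by decide +kernel
theorem c_perm_11 : allGrid (T.permOK1 D) 82500 5280 4 = true := by decide +kernel

end Cfsg.Agent.Lib.Helper4.TCD.J1pU1
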