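import Mathlib
import Cfsg.Prelude.Def_Sporadic
import Cfsg.Agent.Lib.Helper4.TCD_J1pA_Fin
import Cfsg.Agent.Lib.Helper4.TCD_J1pU1_Fin
import Cfsg.Agent.Lib.Helper4.TCD_J1pU2_Fin
import Cfsg.Agent.Lib.Helper4.TCD_J1pL_Fin
import Cfsg.Agent.Lib.Helper4.TCD_J1pX5_Fin
import Cfsg.Agent.Lib.Helper4.TCD_J1pX7_Fin
import Cfsg.Agent.Lib.Helper4.TCD_J1p5Q
import Cfsg.Agent.Lib.Helper4.TCD_J1p7Q
import Cfsg.Agent.Lib.Helper4.TC16

/-! The presented group `J1p` is simple of order 175560 (generated). -/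

namespace Cfsg.Agent.Lib.Helper4.J1pMain

open Cfsg.Agent.Lib.Helper4.TC Cfsg.Agent.Lib.Helper4.TCD Cfsg.Agent.Lib.Helper4.TC.Log

theorem letG_01 : letG PJ1p.P [0] = letG PJ1p.P [0, 1] := by
  apply le_antisymm
  · apply Subgroup.closure_mono
    rintro s ⟨x, hx, rfl⟩
    simp only [List.mem_cons, List.not_mem_nil, or_false] at hx
    exact ⟨x, by rw [hx]; simp, rfl⟩
  · rw [letG, Subgroup.closure_le]
    rintro s ⟨x, hx, rfl⟩
    simp only [List.mem_cons, List.not_mem_nil, or_false] at hx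
    rcases hx with rfl | rfl
    · exact Subgroup.subset_closure ⟨0, by simp, rfl⟩
    · have h : PJ1p.P.gR 1 = (PJ1p.P.gR 0)⁻¹ := (PJ1p.valid.invR_sound 0 (by decide)).2
      rw [h]
      exact inv_mem (Subgroup.subset_closure ⟨0, by simp, rfl⟩)

/-- the order and the faithful permutation representation -/
theorem order_aux : Finite PJ1p.P.Grp ∧ Function.Injective J1pA.inst.phi ∧ Nat.card PJ1p.P.Grp = 175560 := by
  have e0 : letG PJ1p.P [] = ⊥ := letG_nil _
  have f0 : Finite (letG PJ1p.P []) := by rw [e0]; infer_instance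
  have c0 : Nat.card (letG PJ1p.P []) = 1 := by rw [e0]; exact Subgroup.card_bot
  obtain ⟨f2, c2⟩ := J1pU2.card_le f0
  rw [← letG_01] at f2 c2
  obtain ⟨f1, c1⟩ := J1pU1.card_le f2
  have htop : letG PJ1p.P [0, 1, 2, 3] = ⊤ := letG_all PJ1p.P PJ1p.valid
  have fG : Finite PJ1p.P.Grp := by
    have h := f1
    rw [htop] at h
    exact Finite.of_equiv _ (Subgroup.topEquiv (G := PJ1p.P.Grp)).toEquiv
  have cG : Nat.card PJ1p.P.Grp ≤ 87780 * (2 * 1) := by
    rw [← Subgroup.card_top (G := PJ1p.P.Grp), ← htop]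
    calc Nat.card (letG PJ1p.P [0, 1, 2, 3]) ≤ 87780 * Nat.card (letG PJ1p.P [0]) := c1
      _ ≤ 87780 * (2 * Nat.card (letG PJ1p.P [])) := Nat.mul_le_mul_left _ c2
      _ = 87780 * (2 * 1) := by rw [c0]
  have hub : Nat.card PJ1p.P.Grp ≤ 175560 := le_trans cG (by decide)
  obtain ⟨hinj, hcard⟩ := J1pA.inst.card_eq J1pL.S rfl rfl J1pL.htab0 J1pL.ok 175560 (by decide)
    J1pL.prod_eq fG hub
  exact ⟨fG, hinj, hcard⟩

theorem horb : OrbCond (Inst.subG PJ1p.P J1pA.subs) J1pA.inst.equiv [1, 57, 57, 114, 19, 114, 114, 57, 38, 38, 114, 38, 114, 114, 114, 114, 57, 38, 114, 57, 57] 0 := by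
  refine ⟨?_, ?_, ?_, ?_, ?_, ?_, ?_, ?_, ?_, ?_, ?_, ?_, ?_, ?_, ?_, ?_, ?_, ?_, ?_, ?_, ?_, trivial⟩
  · intro j j' _ h2 _ h4
    have e1 : j = j' := Fin.ext (by omega)
    exact ⟨1, one_mem _, by rw [one_smul, e1]⟩
  · intro j j' h1 h2 h3 h4
    exact J1pA.inst.trans_of_orbit_eq 1 58 (by decide) (by decide)
      (J1pA.inst.orbit_eq J1pA.oparTab J1pA.olabTab 1 58 (by decide) (by decide) J1pA.orb_inv_0 J1pA.orb_tree_0)
      j j' (by omega) (by omega) (by omega) (by omega)
  · intro j j' h1 h2 h3 h4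
    exact J1pA.inst.trans_of_orbit_eq 58 115 (by decide) (by decide)
      (J1pA.inst.orbit_eq J1pA.oparTab J1pA.olabTab 58 115 (by decide) (by decide) J1pA.orb_inv_1 J1pA.orb_tree_1)
      j j' (by omega) (by omega) (by omega) (by omega)
  · intro j j' h1 h2 h3 h4
    exact J1pA.inst.trans_of_orbit_eq 115 229 (by decide) (by decide)
      (J1pA.inst.orbit_eq J1pA.oparTab J1pA.olabTab 115 229 (by decide) (by decide) J1pA.orb_inv_2 J1pA.orb_tree_2)
      j j' (by omega) (by omega) (by omega) (by omega)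
  · intro j j' h1 h2 h3 h4
    exact J1pA.inst.trans_of_orbit_eq 229 248 (by decide) (by decide)
      (J1pA.inst.orbit_eq J1pA.oparTab J1pA.olabTab 229 248 (by decide) (by decide) J1pA.orb_inv_3 J1pA.orb_tree_3)
      j j' (by omega) (by omega) (by omega) (by omega)
  · intro j j' h1 h2 h3 h4
    exact J1pA.inst.trans_of_orbit_eq 248 362 (by decide) (by decide)
      (J1pA.inst.orbit_eq J1pA.oparTab J1pA.olabTab 248 362 (by decide) (by decide) J1pA.orb_inv_4 J1pA.orb_tree_4)
      j j' (by omega) (by omega) (by omega) (by omega)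
  · intro j j' h1 h2 h3 h4
    exact J1pA.inst.trans_of_orbit_eq 362 476 (by decide) (by decide)
      (J1pA.inst.orbit_eq J1pA.oparTab J1pA.olabTab 362 476 (by decide) (by decide) J1pA.orb_inv_5 J1pA.orb_tree_5)
      j j' (by omega) (by omega) (by omega) (by omega)
  · intro j j' h1 h2 h3 h4
    exact J1pA.inst.trans_of_orbit_eq 476 533 (by decide) (by decide)
      (J1pA.inst.orbit_eq J1pA.oparTab J1pA.olabTab 476 533 (by decide) (by decide) J1pA.orb_inv_6 J1pA.orb_tree_6)
      j j' (by omega) (by omega) (by omega) (by omega)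
  · intro j j' h1 h2 h3 h4
    exact J1pA.inst.trans_of_orbit_eq 533 571 (by decide) (by decide)
      (J1pA.inst.orbit_eq J1pA.oparTab J1pA.olabTab 533 571 (by decide) (by decide) J1pA.orb_inv_7 J1pA.orb_tree_7)
      j j' (by omega) (by omega) (by omega) (by omega)
  · intro j j' h1 h2 h3 h4
    exact J1pA.inst.trans_of_orbit_eq 571 609 (by decide) (by decide)
      (J1pA.inst.orbit_eq J1pA.oparTab J1pA.olabTab 571 609 (by decide) (by decide) J1pA.orb_inv_8 J1pA.orb_tree_8)
      j j' (by omega) (by omega) (by omega) (by omega)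
  · intro j j' h1 h2 h3 h4
    exact J1pA.inst.trans_of_orbit_eq 609 723 (by decide) (by decide)
      (J1pA.inst.orbit_eq J1pA.oparTab J1pA.olabTab 609 723 (by decide) (by decide) J1pA.orb_inv_9 J1pA.orb_tree_9)
      j j' (by omega) (by omega) (by omega) (by omega)
  · intro j j' h1 h2 h3 h4
    exact J1pA.inst.trans_of_orbit_eq 723 761 (by decide) (by decide)
      (J1pA.inst.orbit_eq J1pA.oparTab J1pA.olabTab 723 761 (by decide) (by decide) J1pA.orb_inv_10 J1pA.orb_tree_10)
      j j' (by omega) (by omega) (by omega) (by omega)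
  · intro j j' h1 h2 h3 h4
    exact J1pA.inst.trans_of_orbit_eq 761 875 (by decide) (by decide)
      (J1pA.inst.orbit_eq J1pA.oparTab J1pA.olabTab 761 875 (by decide) (by decide) J1pA.orb_inv_11 J1pA.orb_tree_11)
      j j' (by omega) (by omega) (by omega) (by omega)
  · intro j j' h1 h2 h3 h4
    exact J1pA.inst.trans_of_orbit_eq 875 989 (by decide) (by decide)
      (J1pA.inst.orbit_eq J1pA.oparTab J1pA.olabTab 875 989 (by decide) (by decide) J1pA.orb_inv_12 J1pA.orb_tree_12)
      j j' (by omega) (by omega) (by omega) (by omega)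
  · intro j j' h1 h2 h3 h4
    exact J1pA.inst.trans_of_orbit_eq 989 1103 (by decide) (by decide)
      (J1pA.inst.orbit_eq J1pA.oparTab J1pA.olabTab 989 1103 (by decide) (by decide) J1pA.orb_inv_13 J1pA.orb_tree_13)
      j j' (by omega) (by omega) (by omega) (by omega)
  · intro j j' h1 h2 h3 h4
    exact J1pA.inst.trans_of_orbit_eq 1103 1217 (by decide) (by decide)
      (J1pA.inst.orbit_eq J1pA.oparTab J1pA.olabTab 1103 1217 (by decide) (by decide) J1pA.orb_inv_14 J1pA.orb_tree_14)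
      j j' (by omega) (by omega) (by omega) (by omega)
  · intro j j' h1 h2 h3 h4
    exact J1pA.inst.trans_of_orbit_eq 1217 1274 (by decide) (by decide)
      (J1pA.inst.orbit_eq J1pA.oparTab J1pA.olabTab 1217 1274 (by decide) (by decide) J1pA.orb_inv_15 J1pA.orb_tree_15)
      j j' (by omega) (by omega) (by omega) (by omega)
  · intro j j' h1 h2 h3 h4
    exact J1pA.inst.trans_of_orbit_eq 1274 1312 (by decide) (by decide)
      (J1pA.inst.orbit_eq J1pA.oparTab J1pA.olabTab 1274 1312 (by decide) (by decide) J1pA.orb_inv_16 J1pA.orb_tree_16)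
      j j' (by omega) (by omega) (by omega) (by omega)
  · intro j j' h1 h2 h3 h4
    exact J1pA.inst.trans_of_orbit_eq 1312 1426 (by decide) (by decide)
      (J1pA.inst.orbit_eq J1pA.oparTab J1pA.olabTab 1312 1426 (by decide) (by decide) J1pA.orb_inv_17 J1pA.orb_tree_17)
      j j' (by omega) (by omega) (by omega) (by omega)
  · intro j j' h1 h2 h3 h4
    exact J1pA.inst.trans_of_orbit_eq 1426 1483 (by decide) (by decide)
      (J1pA.inst.orbit_eq J1pA.oparTab J1pA.olabTab 1426 1483 (by decide) (by decide) J1pA.orb_inv_18 J1pA.orb_tree_18)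
      j j' (by omega) (by omega) (by omega) (by omega)
  · intro j j' h1 h2 h3 h4
    exact J1pA.inst.trans_of_orbit_eq 1483 1540 (by decide) (by decide)
      (J1pA.inst.orbit_eq J1pA.oparTab J1pA.olabTab 1483 1540 (by decide) (by decide) J1pA.orb_inv_19 J1pA.orb_tree_19)
      j j' (by omega) (by omega) (by omega) (by omega)

theorem simple_aux : IsSimpleGroup PJ1p.P.Grp := by
  obtain ⟨fG, hinj, hcard⟩ := order_aux
  apply J1pA.inst.simple2 hinj fG [1, 57, 57, 114, 19, 114, 114, 57, 38, 38, 114, 38, 114, 114, 114, 114, 57, 38, 114, 57, 57] (by decide) horb (by decide) [5, 7]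
  · intro q hq
    simp only [List.mem_cons, List.not_mem_nil, or_false] at hq
    rcases hq with rfl | rfl
    · refine ⟨by norm_num, by rw [hcard]; decide, Log.wordP PJ1p.P.gR J1pX5.xw, ?_, J1pX5.normalClosure_eq_top⟩
      exact J1pA.inst.pow_eq_one hinj J1pX5.xw (by decide) 5 J1p5Q.h_xq
    · refine ⟨by norm_num, by rw [hcard]; decide, Log.wordP PJ1p.P.gR J1pX7.xw, ?_, J1pX7.normalClosure_eq_top⟩
      exact J1pA.inst.pow_eq_one hinj J1pX7.xw (by decide) 7 J1p7Q.h_xq
  · decide +kernel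

theorem main : Cfsg.IsJ1 PJ1p.P.Grp := ⟨simple_aux, order_aux.2.2⟩

end Cfsg.Agent.Lib.Helper4.J1pMain
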