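import Mathlib
import Cfsg.Prelude.Def_TwoFusion
import Cfsg.Agent.Lib.Helper4.ES2D
import Cfsg.Agent.Lib.Helper5.J2C8

/-!
# S1721 glue piece G1: `|z^G| ≥ 91` from the structure of `Q` and the fusion of `z`
-/

set_option autoImplicit false

namespace Cfsg.Agent.Lib.Helper4.J2G

open Cfsg.Agent.Lib.Helper4.ES2

theorem class_ge {G : Type*} [Group G] [Finite G] (C Q : Subgroup G) (z : G) (hz : orderOf z = 2)
    (hD : Data Q z) (hQC : Q ≤ C) (hC : ∀ g : G, g ∈ C ↔ g * z = z * g)
    (u : Fin 5 → G)
    (hu : ∀ i, u i ∈ Q ∧ u i * u i = 1 ∧ u i ≠ 1 ∧ u i ≠ z)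
    (hcm : ∀ i j, i ≠ j → cm (u i) (u j) = z)
    (hinv : ∀ x ∈ Q, x * x = 1 → x = 1 ∨ x = z ∨ ∃ i, x = u i ∨ x = u i * z)
    (hf1 : ∀ i, ∃ h : G, h * z * h⁻¹ = u i)
    (hf1' : ∀ i, ∃ h : G, h * z * h⁻¹ = u i * z)
    (hf2 : ∀ g : G, g * z * g⁻¹ ∈ C → g * z * g⁻¹ ∈ Q) :
    91 ≤ Nat.card {w : G // IsConj w z} := by
  classical
  have hz1 : z ≠ 1 := hD.z_ne
  have hz2 : z * z = 1 := hD.z_sq
  have huQ : ∀ i, u i ∈ Q := fun i => (hu i).1
  have huz : ∀ i, u i * z = z * u i := fun i => hD.z_comm _ (huQ i)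
  -- non-commutation
  have hnc : ∀ i k, i ≠ k → u i * u k ≠ u k * u i := by
    intro i k hik h
    have h1 := hcm i k hik
    rw [cm_eq_one_iff.mpr h] at h1
    exact hz1 h1.symm
  have hnc' : ∀ i k, i ≠ k → (u i * z) * u k ≠ u k * (u i * z) := by
    intro i k hik h
    apply hnc i k hik
    have : u i * u k * z = u k * u i * z := by
      calc u i * u k * z = u i * (u k * z) := by group
        _ = u i * (z * u k) := by rw [huz k]
        _ = (u i * z) * u k := by group
        _ = u k * (u i * z) := h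
        _ = u k * u i * z := by group
    exact mul_right_cancel this
  obtain ⟨J, hJdef⟩ : ∃ J : Set G, J = {w : G | IsConj w z ∧ w * z = z * w} := ⟨_, rfl⟩
  have hJ : ∀ w : G, w ∈ J ↔ (IsConj w z ∧ w * z = z * w) := by
    intro w; rw [hJdef]; rfl
  -- explicit description
  have hJ' : ∀ w : G, w ∈ J ↔ (w = z ∨ ∃ i, w = u i ∨ w = u i * z) := by
    intro w
    rw [hJ]
    constructor
    · rintro ⟨hc, hwz⟩
      obtain ⟨c, hc⟩ := isConj_iff.mp hc
      have hw : w = c⁻¹ * z * (c⁻¹)⁻¹ := by rw [← hc]; group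
      have hwC : w ∈ C := (hC w).mpr hwz
      have hwQ : w ∈ Q := by
        have := hf2 c⁻¹ (by rw [← hw]; exact hwC)
        rw [← hw] at this; exact this
      have hw2 : w * w = 1 := by
        rw [hw]
        calc c⁻¹ * z * (c⁻¹)⁻¹ * (c⁻¹ * z * (c⁻¹)⁻¹) = c⁻¹ * (z * z) * (c⁻¹)⁻¹ := by group
          _ = 1 := by rw [hz2]; group
      have hw1 : w ≠ 1 := by
        intro h1
        apply hz1
        rw [← hc, h1]; group
      rcases hinv w hwQ hw2 with h | h | h
      · exact absurd h hw1
      · exact Or.inl h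
      · exact Or.inr h
    · rintro (rfl | ⟨i, rfl | rfl⟩)
      · exact ⟨IsConj.refl _, rfl⟩
      · obtain ⟨h, hh⟩ := hf1 i
        exact ⟨(isConj_iff.mpr ⟨h, hh⟩).symm, huz i⟩
      · obtain ⟨h, hh⟩ := hf1' i
        refine ⟨(isConj_iff.mpr ⟨h, hh⟩).symm, ?_⟩
        rw [mul_assoc, hz2, mul_one, ← mul_assoc, ← huz i, mul_assoc, hz2, mul_one]
  -- parametrization
  let f : Option (Fin 5 × Bool) → G := fun o =>
    match o with
    | none => z
    | some (i, false) => u i
    | some (i, true) => u i * z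
  have hne1 : ∀ i, u i * z ≠ z := by
    intro i h
    apply (hu i).2.2.1
    have : u i * z = 1 * z := by rw [one_mul]; exact h
    exact mul_right_cancel this
  have hne2 : ∀ i, u i ≠ u i * z := by
    intro i h
    apply hz1
    have : u i * 1 = u i * z := by rw [mul_one]; exact h
    exact (mul_left_cancel this).symm
  have huinj : ∀ i k, u i = u k → i = k := by
    intro i k h
    by_contra hik
    apply hnc i k hik
    rw [h]
  have huinj' : ∀ i k, u i ≠ u k * z := by
    intro i k h
    by_cases hik : i = k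
    · subst hik; exact hne2 i h
    · apply hnc' k i (fun h' => hik h'.symm)
      rw [← h]
  have hf : Function.Injective f := by
    intro a b hab
    match a, b, hab with
    | none, none, _ => rfl
    | none, some (i, false), h => exact absurd h.symm (hu i).2.2.2
    | none, some (i, true), h => exact absurd h.symm (hne1 i)
    | some (i, false), none, h => exact absurd h (hu i).2.2.2
    | some (i, true), none, h => exact absurd h (hne1 i)
    | some (i, false), some (k, false), h => rw [huinj i k h]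
    | some (i, false), some (k, true), h => exact absurd h (huinj' i k)
    | some (i, true), some (k, false), h => exact absurd h.symm (huinj' k i)
    | some (i, true), some (k, true), h => rw [huinj i k (mul_right_cancel h)]
  have hrange : Set.range f = J := by
    ext w
    rw [hJ']
    constructor
    · rintro ⟨o, rfl⟩
      match o with
      | none => exact Or.inl rfl
      | some (i, false) => exact Or.inr ⟨i, Or.inl rfl⟩
      | some (i, true) => exact Or.inr ⟨i, Or.inr rfl⟩
    · rintro (rfl | ⟨i, rfl | rfl⟩)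
      · exact ⟨none, rfl⟩
      · exact ⟨some (i, false), rfl⟩
      · exact ⟨some (i, true), rfl⟩
  have hJc : Nat.card J = 11 := by
    rw [← hrange, ← Nat.card_congr (Equiv.ofInjective f hf)]
    simp
  -- commuting with a non-central element of J
  have hcomm_iff : ∀ (i : Fin 5) (x : G), (x = u i ∨ x = u i * z) →
      ∀ w : G, (w ∈ J ∧ w * x = x * w) ↔ (w = z ∨ w = u i ∨ w = u i * z) := by
    intro i x hx w
    have hxQ : x ∈ Q := by
      rcases hx with rfl | rfl
      · exact huQ i
      · exact Q.mul_mem (huQ i) hD.zQ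
    -- commuting with x is commuting with u i (for w ∈ Q)
    have hxc : ∀ w ∈ Q, (w * x = x * w ↔ w * u i = u i * w) := by
      intro w hw
      rcases hx with rfl | rfl
      · rfl
      · have hwz : w * z = z * w := hD.z_comm w hw
        constructor
        · intro h
          have : w * u i * z = u i * w * z := by
            calc w * u i * z = w * (u i * z) := by group
              _ = u i * z * w := h
              _ = u i * (z * w) := by group
              _ = u i * (w * z) := by rw [hwz]
              _ = u i * w * z := by group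
          exact mul_right_cancel this
        · intro h
          calc w * (u i * z) = (w * u i) * z := by group
            _ = (u i * w) * z := by rw [h]
            _ = u i * (w * z) := by group
            _ = u i * (z * w) := by rw [hwz]
            _ = u i * z * w := by group
    constructor
    · rintro ⟨hwJ, hwx⟩
      rcases (hJ' w).mp hwJ with rfl | ⟨k, rfl | rfl⟩
      · exact Or.inl rfl
      · by_cases hki : k = i
        · subst hki; exact Or.inr (Or.inl rfl)
        · exact absurd ((hxc _ (huQ k)).mp hwx) (hnc k i hki)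
      · by_cases hki : k = i
        · subst hki; exact Or.inr (Or.inr rfl)
        · exact absurd ((hxc _ (Q.mul_mem (huQ k) hD.zQ)).mp hwx) (hnc' k i hki)
    · rintro (rfl | rfl | rfl)
      · exact ⟨(hJ' _).mpr (Or.inl rfl), (hD.z_comm x hxQ).symm⟩
      · exact ⟨(hJ' _).mpr (Or.inr ⟨i, Or.inl rfl⟩), (hxc _ (huQ i)).mpr rfl⟩
      · refine ⟨(hJ' _).mpr (Or.inr ⟨i, Or.inr rfl⟩), (hxc _ (Q.mul_mem (huQ i) hD.zQ)).mpr ?_⟩
        rw [mul_assoc, ← huz i, ← mul_assoc]
  have h3 : ∀ x ∈ J, x ≠ z → Nat.card {w : G // w ∈ J ∧ w * x = x * w} = 3 := by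
    intro x hx hxz
    rcases (hJ' x).mp hx with h | ⟨i, hxi⟩
    · exact absurd h hxz
    · have hset : {w : G | w ∈ J ∧ w * x = x * w} = {z, u i, u i * z} := by
        ext w
        simp only [Set.mem_setOf_eq, Set.mem_insert_iff, Set.mem_singleton_iff]
        exact hcomm_iff i x hxi w
      have hcs : Nat.card {w : G // w ∈ J ∧ w * x = x * w} =
          Set.ncard {w : G | w ∈ J ∧ w * x = x * w} := Nat.card_coe_set_eq _
      rw [hcs, hset]
      exact Set.ncard_eq_three.mpr ⟨z, u i, u i * z, (hu i).2.2.2.symm, (hne1 i).symm, hne2 i, rfl⟩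
  have hgen : ∀ x ∈ J, ∀ x' ∈ J, x ≠ z → x' ≠ z → x ≠ x' →
      ∀ w : G, w * x = x * w → w * x' = x' * w → w * z = z * w := by
    intro x hx x' hx' hxz hx'z hxx' w hwx hwx'
    rcases (hJ' x).mp hx with h | ⟨i, hxi⟩
    · exact absurd h hxz
    rcases (hJ' x').mp hx' with h | ⟨k, hxk⟩
    · exact absurd h hx'z
    have hxQ : x ∈ Q := by
      rcases hxi with rfl | rfl
      · exact huQ i
      · exact Q.mul_mem (huQ i) hD.zQ
    have hx'Q : x' ∈ Q := by
      rcases hxk with rfl | rfl
      · exact huQ k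
      · exact Q.mul_mem (huQ k) hD.zQ
    -- z is a word in x, x'
    have hword : x * x' = z ∨ x' * x = z ∨ cm x x' = z := by
      by_cases hik : i = k
      · subst hik
        rcases hxi with rfl | rfl <;> rcases hxk with rfl | rfl
        · exact absurd rfl hxx'
        · left; rw [← mul_assoc, (hu i).2.1, one_mul]
        · right; left; rw [← mul_assoc, (hu i).2.1, one_mul]
        · exact absurd rfl hxx'
      · right; right
        have h0 := hcm i k hik
        rcases hxi with rfl | rfl <;> rcases hxk with rfl | rfl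
        · exact h0
        · rw [hD.cm_mul_right (huQ i) (huQ k) hD.zQ, h0, hD.cm_z_right (huQ i), mul_one]
        · rw [hD.cm_mul_left (huQ i) hD.zQ (huQ k), h0, hD.cm_z_left (huQ k), mul_one]
        · rw [hD.cm_mul_left (huQ i) hD.zQ (Q.mul_mem (huQ k) hD.zQ),
            hD.cm_mul_right (huQ i) (huQ k) hD.zQ, h0, hD.cm_z_right (huQ i), mul_one,
            hD.cm_z_left (Q.mul_mem (huQ k) hD.zQ), mul_one]
    have hwxi : w * x⁻¹ = x⁻¹ * w := by
      calc w * x⁻¹ = x⁻¹ * (x * w) * x⁻¹ := by group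
        _ = x⁻¹ * (w * x) * x⁻¹ := by rw [hwx]
        _ = x⁻¹ * w := by group
    have hwx'i : w * x'⁻¹ = x'⁻¹ * w := by
      calc w * x'⁻¹ = x'⁻¹ * (x' * w) * x'⁻¹ := by group
        _ = x'⁻¹ * (w * x') * x'⁻¹ := by rw [hwx']
        _ = x'⁻¹ * w := by group
    rcases hword with h | h | h
    · rw [← h, ← mul_assoc, hwx, mul_assoc, hwx', ← mul_assoc]
    · rw [← h, ← mul_assoc, hwx', mul_assoc, hwx, ← mul_assoc]
    · rw [← h]
      unfold cm
      calc w * (x * x' * x⁻¹ * x'⁻¹) = (w * x) * x' * x⁻¹ * x'⁻¹ := by group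
        _ = (x * w) * x' * x⁻¹ * x'⁻¹ := by rw [hwx]
        _ = x * (w * x') * x⁻¹ * x'⁻¹ := by group
        _ = x * (x' * w) * x⁻¹ * x'⁻¹ := by rw [hwx']
        _ = x * x' * (w * x⁻¹) * x'⁻¹ := by group
        _ = x * x' * (x⁻¹ * w) * x'⁻¹ := by rw [hwxi]
        _ = x * x' * x⁻¹ * (w * x'⁻¹) := by group
        _ = x * x' * x⁻¹ * (x'⁻¹ * w) := by rw [hwx'i]
        _ = x * x' * x⁻¹ * x'⁻¹ * w := by group
  exact Cfsg.Agent.Lib.Helper5.J2C8.card_class_ge z J hJ hJc h3 hgen

end Cfsg.Agent.Lib.Helper4.J2G
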