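import Mathlib

/-!
# Type J2, piece P2: general counting lemmas (conjugation orbits of a subgroup)
-/

set_option autoImplicit false

namespace Cfsg.Agent.Lib.Helper4.J2N

variable {G : Type*} [Group G]

/-- orbit–stabilizer for the conjugation action of a subgroup `H` on the element `x` -/
theorem card_conj_orbit [Finite G] (H : Subgroup G) (x : G) :
    Nat.card {y : G // ∃ h ∈ H, h * x * h⁻¹ = y} * Nat.card {h : G // h ∈ H ∧ h * x = x * h} =
      Nat.card H := by
  letI : MulAction ↥H G := MulAction.compHom G ((MulAut.conj (G := G)).comp H.subtype)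
  have hsm : ∀ (h : ↥H) (y : G), h • y = (h : G) * y * (h : G)⁻¹ := fun h y => rfl
  have h1 := Subgroup.index_mul_card (MulAction.stabilizer ↥H x)
  rw [MulAction.index_stabilizer] at h1
  have e1 : (MulAction.orbit ↥H x).ncard = Nat.card {y : G // ∃ h ∈ H, h * x * h⁻¹ = y} := by
    rw [← Nat.card_coe_set_eq]
    apply Nat.card_congr
    apply Equiv.subtypeEquivRight
    intro y
    constructor
    · rintro ⟨h, hh⟩
      exact ⟨h, h.2, by rw [← hh]; rfl⟩
    · rintro ⟨h, hH, hh⟩
      exact ⟨⟨h, hH⟩, by rw [← hh]; rfl⟩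
  have e2 : Nat.card (MulAction.stabilizer ↥H x) = Nat.card {h : G // h ∈ H ∧ h * x = x * h} := by
    apply Nat.card_congr
    refine ⟨fun h => ⟨(h.1 : G), h.1.2, ?_⟩, fun h => ⟨⟨h.1, h.2.1⟩, ?_⟩, ?_, ?_⟩
    · have := h.2
      rw [MulAction.mem_stabilizer_iff, hsm] at this
      calc (h.1 : G) * x = (h.1 : G) * x * (h.1 : G)⁻¹ * (h.1 : G) := by group
        _ = x * (h.1 : G) := by rw [this]
    · rw [MulAction.mem_stabilizer_iff, hsm]
      show h.1 * x * h.1⁻¹ = x
      rw [h.2.2]; group
    · intro h; rfl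
    · intro h; rfl
  rw [e1, e2] at h1
  exact h1

/-- an element conjugating a finite subgroup into itself normalizes it -/
theorem mem_normalizer_of_conj_mem [Finite G] (H : Subgroup G) (g : G)
    (h : ∀ x ∈ H, g * x * g⁻¹ ∈ H) : g ∈ Subgroup.normalizer (H : Set G) := by
  rw [Subgroup.mem_normalizer_iff]
  intro x
  refine ⟨h x, fun hx => ?_⟩
  let f : ↥H → ↥H := fun y => ⟨g * y * g⁻¹, h y y.2⟩
  have hf : Function.Injective f := by
    intro a b hab
    have : g * (a : G) * g⁻¹ = g * (b : G) * g⁻¹ := congrArg Subtype.val hab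
    have h2 : (a : G) = b := by
      have := congrArg (fun w => g⁻¹ * w * g) this
      simpa [mul_assoc] using this
    exact Subtype.ext h2
  have hs : Function.Surjective f := Finite.surjective_of_injective hf
  obtain ⟨y, hy⟩ := hs ⟨g * x * g⁻¹, hx⟩
  have : g * (y : G) * g⁻¹ = g * x * g⁻¹ := congrArg Subtype.val hy
  have h2 : (y : G) = x := by
    have := congrArg (fun w => g⁻¹ * w * g) this
    simpa [mul_assoc] using this
  rw [← h2]; exact y.2

end Cfsg.Agent.Lib.Helper4.J2N
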