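import Mathlib
import Cfsg.Prelude.Def_TwoFusion
import Cfsg.Agent.Lib.Helper4.ES2D
import Cfsg.Agent.Lib.Helper4.J2Na
import Cfsg.Agent.Lib.Helper9.J2Cg

/-!
# S1721 glue piece G3: `cent_structure` transported from the type `↥(C_G(t))` to subgroups of `G`
-/

set_option autoImplicit false

namespace Cfsg.Agent.Lib.Helper4.J2G

open Cfsg.Agent.Lib.Helper4.ES2

theorem cent_structure_G {G : Type*} [Group G] [Finite G] (t z : G) (E U : Subgroup G)
    (ht1 : t ≠ 1) (hEt : ∀ e ∈ E, e * t = t * e)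
    (hE : Nat.card E = 16) (hE2 : ∀ e ∈ E, e * e = 1)
    (hS : ¬ 32 ∣ Nat.card (Subgroup.centralizer ({t} : Set G)))
    (hUE : U ≤ E) (hU : Nat.card U = 4) (hzU : z ∈ U) (hz1 : z ≠ 1) (htE : t ∈ E) (htU : t ∉ U)
    (hCz : ∀ r : G, r * t = t * r → r * z = z * r → r ∈ E)
    (hNE : Nat.card {g : G // g ∈ Subgroup.normalizer (U : Set G) ∧ g * t = t * g} = 48)
    (hNU : ∀ g : G, g * t = t * g →
      (g ∈ Subgroup.normalizer (U : Set G) ↔ g ∈ Subgroup.normalizer (E : Set G))) :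
    ∃ V B : Subgroup G, Cfsg.IsInternalDirectProduct V B (Subgroup.centralizer ({t} : Set G)) ∧
      Nat.card V = 4 ∧ t ∈ V ∧ V ≤ E ∧ U ≤ B ∧ B ⊓ E = U ∧
      (Nonempty (↥B ≃* alternatingGroup (Fin 5)) ∨
        (Nat.card (Subgroup.centralizer ({t} : Set G)) = 48 ∧
          ∀ g : G, g * t = t * g → ∀ e ∈ E, g * e * g⁻¹ ∈ E)) := by
  classical
  obtain ⟨K, hK⟩ : ∃ K : Subgroup G, K = Subgroup.centralizer ({t} : Set G) := ⟨_, rfl⟩
  rw [← hK] at hS ⊢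
  have memK : ∀ x : G, x ∈ K ↔ x * t = t * x := by
    intro x
    rw [hK, Subgroup.mem_centralizer_iff]
    constructor
    · intro h; exact (h t rfl).symm
    · intro h y hy
      rw [Set.mem_singleton_iff] at hy
      rw [hy]; exact h.symm
  have hEK : E ≤ K := fun x hx => (memK x).mpr (hEt x hx)
  have hUK : U ≤ K := hUE.trans hEK
  have htK : t ∈ K := (memK t).mpr rfl
  have hzK : z ∈ K := hUK hzU
  -- normalizers in ↥K versus normalizers in G
  have hnorm : ∀ (H : Subgroup G), H ≤ K → ∀ r : ↥K,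
      (r ∈ Subgroup.normalizer ((H.subgroupOf K : Subgroup ↥K) : Set ↥K) ↔
        (r : G) ∈ Subgroup.normalizer (H : Set G)) := by
    intro H hHK r
    constructor
    · intro hr
      apply J2N.mem_normalizer_of_conj_mem
      intro x hx
      rw [Subgroup.mem_normalizer_iff] at hr
      have := (hr ⟨x, hHK hx⟩).mp (Subgroup.mem_subgroupOf.mpr hx)
      rw [Subgroup.mem_subgroupOf] at this
      exact this
    · intro hr
      rw [Subgroup.mem_normalizer_iff] at hr ⊢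
      intro x
      rw [Subgroup.mem_subgroupOf, Subgroup.mem_subgroupOf]
      exact hr (x : G)
  have htc : ∀ r : ↥K, r * (⟨t, htK⟩ : ↥K) = ⟨t, htK⟩ * r := by
    intro r
    exact Subtype.ext ((memK _).mp r.2)
  have ht1' : (⟨t, htK⟩ : ↥K) ≠ 1 := by
    intro h
    exact ht1 (congrArg Subtype.val h)
  have hE' : Nat.card (E.subgroupOf K) = 16 := by
    rw [Nat.card_congr (Subgroup.subgroupOfEquivOfLe hEK).toEquiv, hE]
  have hE2' : ∀ e ∈ E.subgroupOf K, e * e = 1 := by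
    intro e he
    exact Subtype.ext (hE2 _ (Subgroup.mem_subgroupOf.mp he))
  have hUE' : U.subgroupOf K ≤ E.subgroupOf K := by
    intro x hx
    exact Subgroup.mem_subgroupOf.mpr (hUE (Subgroup.mem_subgroupOf.mp hx))
  have hU' : Nat.card (U.subgroupOf K) = 4 := by
    rw [Nat.card_congr (Subgroup.subgroupOfEquivOfLe hUK).toEquiv, hU]
  have hzU' : (⟨z, hzK⟩ : ↥K) ∈ U.subgroupOf K := Subgroup.mem_subgroupOf.mpr hzU
  have hz1' : (⟨z, hzK⟩ : ↥K) ≠ 1 := by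
    intro h
    exact hz1 (congrArg Subtype.val h)
  have htE' : (⟨t, htK⟩ : ↥K) ∈ E.subgroupOf K := Subgroup.mem_subgroupOf.mpr htE
  have htU' : (⟨t, htK⟩ : ↥K) ∉ U.subgroupOf K := fun h => htU (Subgroup.mem_subgroupOf.mp h)
  have hCz' : ∀ r : ↥K, r * (⟨z, hzK⟩ : ↥K) = ⟨z, hzK⟩ * r → r ∈ E.subgroupOf K := by
    intro r hr
    exact Subgroup.mem_subgroupOf.mpr (hCz _ ((memK _).mp r.2) (congrArg Subtype.val hr))
  have hNU' : Subgroup.normalizer ((U.subgroupOf K : Subgroup ↥K) : Set ↥K) =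
      Subgroup.normalizer ((E.subgroupOf K : Subgroup ↥K) : Set ↥K) := by
    ext r
    rw [hnorm U hUK r, hnorm E hEK r]
    exact hNU _ ((memK _).mp r.2)
  have hNE' : Nat.card (Subgroup.normalizer ((E.subgroupOf K : Subgroup ↥K) : Set ↥K)) = 48 := by
    rw [← hNU', ← hNE]
    apply Nat.card_congr
    refine ⟨fun r => ⟨(r.1 : G), (hnorm U hUK r.1).mp r.2, (memK _).mp r.1.2⟩,
      fun g => ⟨⟨g.1, (memK _).mpr g.2.2⟩, (hnorm U hUK _).mpr g.2.1⟩, ?_, ?_⟩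
    · intro r; rfl
    · intro g; rfl
  obtain ⟨V0, R1, hidp, -, hV0, htV0, hV0E, hUR1, hR1E, halt⟩ :=
    Cfsg.Agent.Lib.Helper9.J2C.cent_structure (⟨t, htK⟩ : ↥K) ⟨z, hzK⟩ (E.subgroupOf K)
      (U.subgroupOf K) htc ht1' hE' hE2' hS hUE' hU' hzU' hz1' htE' htU' hCz' hNE' hNU'
  obtain ⟨-, -, hcomm, hinf, hsup⟩ := hidp
  refine ⟨V0.map K.subtype, R1.map K.subtype, ⟨?_, ?_, ?_, ?_, ?_⟩, ?_, ?_, ?_, ?_, ?_, ?_⟩
  · exact Subgroup.map_subtype_le V0
  · exact Subgroup.map_subtype_le R1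
  · rintro a ⟨a', ha', rfl⟩ b ⟨b', hb', rfl⟩
    exact congrArg Subtype.val (hcomm a' ha' b' hb')
  · rw [eq_bot_iff]
    rintro x ⟨⟨a', ha', rfl⟩, ⟨b', hb', hab⟩⟩
    have hab' : b' = a' := Subtype.ext hab
    rw [hab'] at hb'
    have : a' ∈ V0 ⊓ R1 := ⟨ha', hb'⟩
    rw [hinf, Subgroup.mem_bot] at this
    rw [Subgroup.mem_bot, this]; rfl
  · rw [← Subgroup.map_sup, hsup, ← MonoidHom.range_eq_map, Subgroup.range_subtype]
  · rw [Subgroup.card_map_of_injective K.subtype_injective, hV0]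
  · exact ⟨⟨t, htK⟩, htV0, rfl⟩
  · rintro x ⟨a', ha', rfl⟩
    exact Subgroup.mem_subgroupOf.mp (hV0E ha')
  · intro x hx
    exact ⟨⟨x, hUK hx⟩, hUR1 (Subgroup.mem_subgroupOf.mpr hx), rfl⟩
  · ext x
    constructor
    · rintro ⟨⟨b', hb', rfl⟩, hxE⟩
      have : b' ∈ R1 ⊓ E.subgroupOf K := ⟨hb', Subgroup.mem_subgroupOf.mpr hxE⟩
      rw [hR1E] at this
      exact Subgroup.mem_subgroupOf.mp this
    · intro hx
      exact ⟨⟨⟨x, hUK hx⟩, hUR1 (Subgroup.mem_subgroupOf.mpr hx), rfl⟩, hUE hx⟩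
  · rcases halt with ⟨⟨e⟩⟩ | ⟨hc, hn⟩
    · left
      exact ⟨(Subgroup.equivMapOfInjective R1 K.subtype K.subtype_injective).symm.trans e⟩
    · right
      refine ⟨hc, ?_⟩
      intro g hg e he
      have := hn.conj_mem ⟨e, hEK he⟩ (Subgroup.mem_subgroupOf.mpr he) ⟨g, (memK g).mpr hg⟩
      exact Subgroup.mem_subgroupOf.mp this

end Cfsg.Agent.Lib.Helper4.J2G
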