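import Mathlib
import Cfsg.Agent.Lib.Helper4.ES2A
import Cfsg.Agent.Lib.Helper4.ES2B
import Cfsg.Agent.Lib.Helper4.J2Na

/-!
# Type J2, piece P2: the local subgroup `N_G(U)`, `U = C_Q(t)`

From the structure of `C = C_G(z)` (module part, inversion trick, `C_C(t)` elementary abelian) and the
fusion of `z`: `|N_G(U) ∩ C_G(t)| = 48`, `N_G(U) ∩ C_G(t) = N_G(E) ∩ C_G(t)` for `E = C_C(t)`, and
`32` does not divide `|C_G(t)|`.
-/

set_option autoImplicit false

namespace Cfsg.Agent.Lib.Helper4.J2N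

open Cfsg.Agent.Lib.Helper4.ES2

variable {G : Type*} [Group G]

theorem conj_comm {a b c : G} (h : a * (c⁻¹ * b * c) = (c⁻¹ * b * c) * a) :
    (c * a * c⁻¹) * b = b * (c * a * c⁻¹) := by
  calc c * a * c⁻¹ * b = c * (a * (c⁻¹ * b * c)) * c⁻¹ := by group
    _ = c * ((c⁻¹ * b * c) * a) * c⁻¹ := by rw [h]
    _ = b * (c * a * c⁻¹) := by group

theorem conj_comm' {a b : G} (c : G) (h : a * b = b * a) :
    (c * a * c⁻¹) * (c * b * c⁻¹) = (c * b * c⁻¹) * (c * a * c⁻¹) := by
  calc c * a * c⁻¹ * (c * b * c⁻¹) = c * (a * b) * c⁻¹ := by group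
    _ = c * (b * a) * c⁻¹ := by rw [h]
    _ = (c * b * c⁻¹) * (c * a * c⁻¹) := by group

theorem fin5_succ_ne : ∀ m : Fin 5, m + 1 ≠ m := by decide

theorem local_N {G : Type*} [Group G] [Finite G] (C Q : Subgroup G) (z : G)
    (hD : Data Q z) (hQ : Nat.card Q = 32) (hQC : Q ≤ C)
    (hC : ∀ g : G, g ∈ C ↔ g * z = z * g)
    (hQn : ∀ c ∈ C, ∀ q ∈ Q, c * q * c⁻¹ ∈ Q)
    (phi : ↥C →* Equiv.Perm (Fin 5)) (u : Fin 5 → G)
    (hker : ∀ c : ↥C, phi c = 1 ↔ (c : G) ∈ Q)
    (hu : ∀ i, u i ∈ Q ∧ u i * u i = 1 ∧ u i ≠ 1 ∧ u i ≠ z)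
    (hcm : ∀ i j, i ≠ j → cm (u i) (u j) = z)
    (hinv : ∀ x ∈ Q, x * x = 1 → x = 1 ∨ x = z ∨ ∃ i, x = u i ∨ x = u i * z)
    (hact : ∀ (c : ↥C) (i : Fin 5), (c : G) * u i * (c : G)⁻¹ = u (phi c i) ∨
      (c : G) * u i * (c : G)⁻¹ = u (phi c i) * z)
    (hf1 : ∀ i, ∃ h : G, h * z * h⁻¹ = u i)
    (hf2 : ∀ g : G, g * z * g⁻¹ ∈ C → g * z * g⁻¹ ∈ Q)
    (hA7 : ∀ (v : G) (hvC : v ∈ C), v ∉ Q → v * v = 1 →
      ∃ m : Fin 5, phi ⟨v, hvC⟩ m = m ∧ (∀ j, phi ⟨v, hvC⟩ j = j → j = m) ∧
        (∀ q ∈ Q, v * q = q * v ↔ (q = 1 ∨ q = z ∨ q = u m ∨ q = u m * z)) ∧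
        Nat.card {c : G // c ∈ C ∧ c * v = v * c} = 16)
    (hcls : ∀ v ∈ C, v ∉ Q → v * v = 1 → ∀ v' ∈ C, v' ∉ Q → v' * v' = 1 → ∃ c ∈ C, c * v' * c⁻¹ = v)
    (t : G) (htC : t ∈ C) (htQ : t ∉ Q) (ht2 : t * t = 1)
    (hE2 : ∀ g ∈ C, g * t = t * g → g * g = 1)
    (hEc : ∀ g ∈ C, ∀ h ∈ C, g * t = t * g → h * t = t * h → g * h = h * g)
    (m : Fin 5) (hm : phi ⟨t, htC⟩ m = m)
    (U E : Subgroup G)
    (hU : ∀ x : G, x ∈ U ↔ (x = 1 ∨ x = z ∨ x = u m ∨ x = u m * z))
    (hE : ∀ x : G, x ∈ E ↔ (x ∈ C ∧ x * t = t * x)) :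
    Nat.card {g : G // g ∈ Subgroup.normalizer (U : Set G) ∧ g * t = t * g} = 48 ∧
    (∀ g : G, g * t = t * g →
      (g ∈ Subgroup.normalizer (U : Set G) ↔ g ∈ Subgroup.normalizer (E : Set G))) ∧
    ¬ 32 ∣ Nat.card (Subgroup.centralizer ({t} : Set G)) := by
  classical
  -- basic facts
  have hz1 : z ≠ 1 := hD.z_ne
  have hz2 : z * z = 1 := hD.z_sq
  have hzinv : z⁻¹ = z := hD.z_inv
  have humQ : u m ∈ Q := (hu m).1
  have hum2 : u m * u m = 1 := (hu m).2.1
  have huminv : (u m)⁻¹ = u m := inv_eq_of_mul_eq_one_right hum2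
  have humz : u m * z = z * u m := hD.z_comm _ humQ
  have htz : t * z = z * t := (hC t).mp htC
  obtain ⟨m', hm'1, hm'2, hCQt, hE16⟩ := hA7 t htC htQ ht2
  have hmm : m = m' := hm'2 m hm
  subst hmm
  have htum : t * u m = u m * t := (hCQt _ humQ).mpr (Or.inr (Or.inr (Or.inl rfl)))
  -- U
  have hUQ : ∀ w ∈ U, w ∈ Q := by
    intro w hw
    rcases (hU w).mp hw with rfl | rfl | rfl | rfl
    · exact Q.one_mem
    · exact hD.zQ
    · exact humQ
    · exact Q.mul_mem humQ hD.zQ
  have hUt : ∀ w ∈ U, t * w = w * t := by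
    intro w hw
    exact (hCQt w (hUQ w hw)).mpr ((hU w).mp hw)
  have zU : z ∈ U := (hU z).mpr (Or.inr (Or.inl rfl))
  have umU : u m ∈ U := (hU _).mpr (Or.inr (Or.inr (Or.inl rfl)))
  have umzU : u m * z ∈ U := (hU _).mpr (Or.inr (Or.inr (Or.inr rfl)))
  -- E
  have hUE : ∀ w ∈ U, w ∈ E := fun w hw => (hE w).mpr ⟨hQC (hUQ w hw), (hUt w hw).symm⟩
  have hEU : ∀ x ∈ E, ∀ w ∈ U, x * w = w * x := by
    intro x hx w hw
    obtain ⟨hxC, hxt⟩ := (hE x).mp hx
    exact hEc x hxC w (hQC (hUQ w hw)) hxt (hUt w hw).symm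
  -- normalizer facts
  have hNinv : ∀ g ∈ Subgroup.normalizer (U : Set G), ∀ w ∈ U, g⁻¹ * w * g ∈ U := by
    intro g hg w hw
    have h1 := (Subgroup.normalizer (U : Set G)).inv_mem hg
    rw [Subgroup.mem_normalizer_iff] at h1
    have := (h1 w).mp hw
    rwa [inv_inv] at this
  have hNconj : ∀ g ∈ Subgroup.normalizer (U : Set G), ∀ w ∈ U, g * w * g⁻¹ ∈ U := by
    intro g hg w hw
    rw [Subgroup.mem_normalizer_iff] at hg
    exact (hg w).mp hw
  -- every non-identity element of U is a conjugate of z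
  obtain ⟨j, hj⟩ : ∃ j : Fin 5, j ≠ m := ⟨m + 1, fin5_succ_ne m⟩
  have hujQ : u j ∈ Q := (hu j).1
  have hqum : u j * u m * (u j)⁻¹ = u m * z := by
    have h1 : cm (u j) (u m) = z := hcm j m hj
    unfold cm at h1
    have : u j * u m * (u j)⁻¹ = z * u m := by
      calc u j * u m * (u j)⁻¹ = (u j * u m * (u j)⁻¹ * (u m)⁻¹) * u m := by group
        _ = z * u m := by rw [h1]
    rw [this, humz]
  have hqz : u j * z * (u j)⁻¹ = z := by
    rw [hD.z_comm _ hujQ, mul_assoc, mul_inv_cancel, mul_one]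
  have hconjU : ∀ w ∈ U, w ≠ 1 → ∃ k : G, k * z * k⁻¹ = w := by
    intro w hw hw1
    rcases (hU w).mp hw with rfl | rfl | rfl | rfl
    · exact absurd rfl hw1
    · exact ⟨1, by simp⟩
    · exact hf1 m
    · obtain ⟨h, hh⟩ := hf1 m
      refine ⟨u j * h, ?_⟩
      calc u j * h * z * (u j * h)⁻¹ = u j * (h * z * h⁻¹) * (u j)⁻¹ := by group
        _ = u m * z := by rw [hh, hqum]
  -- part (2)
  have part2 : ∀ g : G, g * t = t * g →
      (g ∈ Subgroup.normalizer (U : Set G) ↔ g ∈ Subgroup.normalizer (E : Set G)) := by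
    intro g hgt
    have hgt' : g⁻¹ * t = t * g⁻¹ := by
      calc g⁻¹ * t = g⁻¹ * (t * g) * g⁻¹ := by group
        _ = g⁻¹ * (g * t) * g⁻¹ := by rw [hgt]
        _ = t * g⁻¹ := by group
    constructor
    · intro hg
      apply mem_normalizer_of_conj_mem
      intro x hx
      obtain ⟨hxC, hxt⟩ := (hE x).mp hx
      rw [hE]
      constructor
      · rw [hC]
        apply conj_comm
        exact hEU x hx _ (hNinv g hg z zU)
      · calc g * x * g⁻¹ * t = g * x * (g⁻¹ * t) := by group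
          _ = g * x * (t * g⁻¹) := by rw [hgt']
          _ = g * (x * t) * g⁻¹ := by group
          _ = g * (t * x) * g⁻¹ := by rw [hxt]
          _ = (g * t) * x * g⁻¹ := by group
          _ = (t * g) * x * g⁻¹ := by rw [hgt]
          _ = t * (g * x * g⁻¹) := by group
    · intro hg
      apply mem_normalizer_of_conj_mem
      intro w hw
      by_cases hw1 : w = 1
      · rw [hw1]; simp [U.one_mem]
      · obtain ⟨k, hk⟩ := hconjU w hw hw1
        have hyE : g * w * g⁻¹ ∈ E := by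
          rw [Subgroup.mem_normalizer_iff] at hg
          exact (hg w).mp (hUE w hw)
        obtain ⟨hyC, hyt⟩ := (hE _).mp hyE
        have hy : g * w * g⁻¹ = (g * k) * z * (g * k)⁻¹ := by
          rw [← hk]; group
        have hyQ : g * w * g⁻¹ ∈ Q := by
          rw [hy]
          apply hf2
          rw [← hy]; exact hyC
        exact (hU _).mpr ((hCQt _ hyQ).mp hyt.symm)
  -- part (1): counting
  have part1 : Nat.card {g : G // g ∈ Subgroup.normalizer (U : Set G) ∧ g * t = t * g} = 48 := by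
    obtain ⟨N, hN⟩ : ∃ N : Subgroup G, N = Subgroup.normalizer (U : Set G) := ⟨_, rfl⟩
    rw [← hN]
    rw [← hN] at hNinv hNconj
    have hqN : u j ∈ N := by
      rw [hN]
      apply mem_normalizer_of_conj_mem
      intro w hw
      rcases (hU w).mp hw with rfl | rfl | rfl | rfl
      · simp [U.one_mem]
      · rw [hqz]; exact zU
      · rw [hqum]; exact umzU
      · have : u j * (u m * z) * (u j)⁻¹ = (u j * u m * (u j)⁻¹) * (u j * z * (u j)⁻¹) := by group
        rw [this, hqum, hqz, mul_assoc, hz2, mul_one]; exact umU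
    obtain ⟨h, hh⟩ := hf1 m
    have hhz : h⁻¹ * u m * h = z := by rw [← hh]; group
    obtain ⟨w0, hw0⟩ : ∃ w0 : G, w0 = h⁻¹ * z * h := ⟨_, rfl⟩
    have hw0C : w0 ∈ C := by
      rw [hC]
      have := conj_comm (a := z) (b := z) (c := h⁻¹) (by rw [inv_inv, hh, humz])
      rw [inv_inv] at this
      rw [hw0]; exact this
    have hw0Q : w0 ∈ Q := by
      have := hf2 h⁻¹ (by rw [inv_inv, ← hw0]; exact hw0C)
      rw [inv_inv, ← hw0] at this
      exact this
    have hzw0 : z = h * w0 * h⁻¹ := by rw [hw0]; group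
    have hw01 : w0 ≠ 1 := by
      intro h1
      apply hz1
      rw [hzw0, h1]; group
    have hw0z : w0 ≠ z := by
      intro h1
      apply (hu m).2.2.2
      rw [← hh]
      rw [h1] at hzw0
      exact hzw0.symm
    obtain ⟨q1, hq1Q, hq1⟩ := hD.exists_nc hw0Q hw01 hw0z
    have hq1' : q1 * w0 * q1⁻¹ = w0 * z := by
      have h1 : cm q1 w0 = z := by rw [hD.cm_symm hq1Q hw0Q]; exact hq1
      unfold cm at h1
      calc q1 * w0 * q1⁻¹ = (q1 * w0 * q1⁻¹ * w0⁻¹) * w0 := by group
        _ = z * w0 := by rw [h1]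
        _ = w0 * z := (hD.z_comm w0 hw0Q).symm
    obtain ⟨q', hq'⟩ : ∃ q' : G, q' = h * q1 * h⁻¹ := ⟨_, rfl⟩
    have hq'z : q' * z * q'⁻¹ = u m * z := by
      calc q' * z * q'⁻¹ = h * (q1 * (h⁻¹ * z * h) * q1⁻¹) * h⁻¹ := by rw [hq']; group
        _ = h * (w0 * z) * h⁻¹ := by rw [← hw0, hq1']
        _ = (h * w0 * h⁻¹) * (h * z * h⁻¹) := by group
        _ = z * u m := by rw [hh, ← hzw0]
        _ = u m * z := humz.symm
    have hq'um : q' * u m * q'⁻¹ = u m := by
      calc q' * u m * q'⁻¹ = h * (q1 * (h⁻¹ * u m * h) * q1⁻¹) * h⁻¹ := by rw [hq']; group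
        _ = h * (q1 * z * q1⁻¹) * h⁻¹ := by rw [hhz]
        _ = h * z * h⁻¹ := by rw [hD.z_comm q1 hq1Q, mul_assoc z, mul_inv_cancel, mul_one]
        _ = u m := hh
    have hq'N : q' ∈ N := by
      rw [hN]
      apply mem_normalizer_of_conj_mem
      intro w hw
      rcases (hU w).mp hw with rfl | rfl | rfl | rfl
      · simp [U.one_mem]
      · rw [hq'z]; exact umzU
      · rw [hq'um]; exact umU
      · have : q' * (u m * z) * q'⁻¹ = (q' * u m * q'⁻¹) * (q' * z * q'⁻¹) := by group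
        rw [this, hq'um, hq'z, ← mul_assoc, hum2, one_mul]; exact zU
    have horbz : Nat.card {y : G // ∃ g ∈ N, g * z * g⁻¹ = y} = 3 := by
      have hset : {y : G | ∃ g ∈ N, g * z * g⁻¹ = y} = {z, u m, u m * z} := by
        ext y
        simp only [Set.mem_setOf_eq, Set.mem_insert_iff, Set.mem_singleton_iff]
        constructor
        · rintro ⟨g, hg, rfl⟩
          have h1 := hNconj g hg z zU
          rcases (hU _).mp h1 with h2 | h2 | h2 | h2
          · exfalso
            apply hz1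
            have : z = g⁻¹ * (g * z * g⁻¹) * g := by group
            rw [this, h2]; group
          · exact Or.inl h2
          · exact Or.inr (Or.inl h2)
          · exact Or.inr (Or.inr h2)
        · rintro (rfl | rfl | rfl)
          · exact ⟨1, N.one_mem, by simp⟩
          · refine ⟨u j * q', N.mul_mem hqN hq'N, ?_⟩
            calc u j * q' * z * (u j * q')⁻¹ = u j * (q' * z * q'⁻¹) * (u j)⁻¹ := by group
              _ = u j * (u m * z) * (u j)⁻¹ := by rw [hq'z]
              _ = (u j * u m * (u j)⁻¹) * (u j * z * (u j)⁻¹) := by group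
              _ = u m := by rw [hqum, hqz, mul_assoc, hz2, mul_one]
          · exact ⟨q', hq'N, hq'z⟩
      have hcs : Nat.card {y : G // ∃ g ∈ N, g * z * g⁻¹ = y} =
          Set.ncard {y : G | ∃ g ∈ N, g * z * g⁻¹ = y} := Nat.card_coe_set_eq _
      rw [hcs, hset]
      refine Set.ncard_eq_three.mpr ⟨z, u m, u m * z, (hu m).2.2.2.symm, ?_, ?_, rfl⟩
      · intro h1
        apply (hu m).2.2.1
        have : u m * z = 1 * z := by rw [one_mul]; exact h1.symm
        exact mul_right_cancel this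
      · intro h1
        apply hz1
        have : u m * z = u m * 1 := by rw [mul_one]; exact h1.symm
        exact mul_left_cancel this
    have K1 := card_conj_orbit N z
    have K2 := card_conj_orbit N t
    have K3 := card_conj_orbit (N ⊓ C) t
    rw [horbz] at K1
    have K4 : Nat.card {h : G // h ∈ N ∧ h * z = z * h} = Nat.card ↥(N ⊓ C) := by
      apply Nat.card_congr
      apply Equiv.subtypeEquivRight
      intro h
      rw [Subgroup.mem_inf, hC]
    have K5 : Nat.card {h : G // h ∈ N ⊓ C ∧ h * t = t * h} = 16 := by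
      rw [← hE16]
      apply Nat.card_congr
      apply Equiv.subtypeEquivRight
      intro c
      constructor
      · rintro ⟨hc, hct⟩
        exact ⟨(Subgroup.mem_inf.mp hc).2, hct⟩
      · rintro ⟨hcC, hct⟩
        refine ⟨Subgroup.mem_inf.mpr ⟨?_, hcC⟩, hct⟩
        rw [hN]
        apply mem_normalizer_of_conj_mem
        intro w hw
        have hcE : c ∈ E := (hE c).mpr ⟨hcC, hct⟩
        have := hEU c hcE w hw
        rw [this, mul_assoc, mul_inv_cancel, mul_one]; exact hw
    have K6 : Nat.card {y : G // ∃ h ∈ N, h * t * h⁻¹ = y} =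
        Nat.card {y : G // ∃ h ∈ N ⊓ C, h * t * h⁻¹ = y} := by
      apply Nat.card_congr
      apply Equiv.subtypeEquivRight
      intro y
      constructor
      · rintro ⟨g, hg, rfl⟩
        obtain ⟨v, hv⟩ : ∃ v : G, v = g * t * g⁻¹ := ⟨_, rfl⟩
        rw [← hv]
        have hv2 : v * v = 1 := by
          rw [hv]
          calc g * t * g⁻¹ * (g * t * g⁻¹) = g * (t * t) * g⁻¹ := by group
            _ = 1 := by rw [ht2]; group
        have hvU : ∀ w ∈ U, v * w = w * v := by
          intro w hw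
          rw [hv]
          apply conj_comm
          exact hUt _ (hNinv g hg w hw)
        have hvC : v ∈ C := (hC v).mpr (hvU z zU)
        have htv : t = g⁻¹ * v * g := by rw [hv]; group
        have hvnU : v ∉ U := by
          intro hvU'
          apply htQ
          rw [htv]
          exact hUQ _ (hNinv g hg v hvU')
        have hvQ : v ∉ Q := by
          intro hvQ
          rcases hinv v hvQ hv2 with h1 | h1 | ⟨i, h1 | h1⟩
          · exact hvnU (by rw [h1]; exact U.one_mem)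
          · exact hvnU (by rw [h1]; exact zU)
          · by_cases him : i = m
            · exact hvnU (by rw [h1, him]; exact umU)
            · have h2 : cm (u i) (u m) = z := hcm i m him
              have h3 : cm (u i) (u m) = 1 := cm_eq_one_iff.mpr (by rw [← h1]; exact hvU _ umU)
              exact hz1 (h2.symm.trans h3)
          · by_cases him : i = m
            · exact hvnU (by rw [h1, him]; exact umzU)
            · have h2 : cm (u i * z) (u m) = z := by
                rw [hD.cm_mul_left (hu i).1 hD.zQ humQ, hcm i m him, hD.cm_z_left humQ, mul_one]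
              have h3 : cm (u i * z) (u m) = 1 := cm_eq_one_iff.mpr (by rw [← h1]; exact hvU _ umU)
              exact hz1 (h2.symm.trans h3)
        obtain ⟨mv, hmv1, hmv2, hCQv, -⟩ := hA7 v hvC hvQ hv2
        have hmvm : mv = m := by
          have h1 := (hCQv (u m) humQ).mp (hvU _ umU)
          rcases h1 with h1 | h1 | h1 | h1
          · exact absurd h1 (hu m).2.2.1
          · exact absurd h1 (hu m).2.2.2
          · by_contra hne
            have h2 : cm (u m) (u mv) = z := hcm m mv (fun h => hne h.symm)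
            rw [← h1, cm_self] at h2
            exact hz1 h2.symm
          · by_contra hne
            have h2 : cm (u m) (u mv) = z := hcm m mv (fun h => hne h.symm)
            rw [h1, hD.cm_mul_left (hu mv).1 hD.zQ (hu mv).1, cm_self, hD.cm_z_left (hu mv).1,
              mul_one] at h2
            exact hz1 h2.symm
        subst hmvm
        obtain ⟨c, hcC, hc⟩ := hcls v hvC hvQ hv2 t htC htQ ht2
        refine ⟨c, Subgroup.mem_inf.mpr ⟨?_, hcC⟩, hc⟩
        rw [hN]
        apply mem_normalizer_of_conj_mem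
        intro w hw
        have hwQ := hUQ w hw
        have h1 : c * w * c⁻¹ ∈ Q := hQn c hcC w hwQ
        have h2 : v * (c * w * c⁻¹) = (c * w * c⁻¹) * v := by
          rw [← hc]; exact conj_comm' c (hUt w hw)
        exact (hU _).mpr ((hCQv _ h1).mp h2)
      · rintro ⟨g, hg, rfl⟩
        exact ⟨g, (Subgroup.mem_inf.mp hg).1, rfl⟩
    have hpos : 0 < Nat.card {y : G // ∃ h ∈ N, h * t * h⁻¹ = y} := by
      haveI : Nonempty {y : G // ∃ h ∈ N, h * t * h⁻¹ = y} := ⟨⟨t, 1, N.one_mem, by simp⟩⟩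
      exact Nat.card_pos
    rw [K4] at K1
    rw [K5, ← K6] at K3
    rw [← K1, ← K3] at K2
    have : Nat.card {y : G // ∃ h ∈ N, h * t * h⁻¹ = y} *
        Nat.card {h : G // h ∈ N ∧ h * t = t * h} =
        Nat.card {y : G // ∃ h ∈ N, h * t * h⁻¹ = y} * 48 := by
      rw [K2]; ring
    exact Nat.eq_of_mul_eq_mul_left hpos this
  refine ⟨part1, part2, ?_⟩
  -- part (3)
  intro h32
  obtain ⟨R, hR⟩ : ∃ R : Subgroup G, R = Subgroup.centralizer ({t} : Set G) := ⟨_, rfl⟩
  rw [← hR] at h32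
  have hRmem : ∀ x : G, x ∈ R ↔ x * t = t * x := by
    intro x
    rw [hR, Subgroup.mem_centralizer_iff]
    constructor
    · intro h; exact (h t rfl).symm
    · intro h y hy
      rw [Set.mem_singleton_iff] at hy
      rw [hy]; exact h.symm
  have hER : E ≤ R := fun x hx => (hRmem x).mpr ((hE x).mp hx).2
  have hEcard : Nat.card E = 16 := by
    rw [← hE16]
    apply Nat.card_congr
    exact Equiv.subtypeEquivRight (fun x => hE x)
  haveI : Fact (Nat.Prime 2) := ⟨Nat.prime_two⟩
  have hE' : Nat.card (E.subgroupOf R) = 2 ^ 4 := by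
    rw [Nat.card_congr (Subgroup.subgroupOfEquivOfLe hER).toEquiv, hEcard]; norm_num
  obtain ⟨K', hK'card, hK'le⟩ := Sylow.exists_subgroup_card_pow_prime_le 2 (n := 4) (m := 5)
    (by norm_num; exact h32) (E.subgroupOf R) hE' (by norm_num)
  have hrel : (E.subgroupOf R).relIndex K' = 2 := by
    have := relIndex_mul_card hK'le
    rw [hE', hK'card] at this
    omega
  have hnorm : ((E.subgroupOf R).subgroupOf K').Normal := Subgroup.normal_of_index_eq_two hrel
  -- every element of K' normalizes E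
  have hKN : ∀ k : ↥R, k ∈ K' → (k : G) ∈ Subgroup.normalizer (U : Set G) := by
    intro k hk
    rw [part2 (k : G) ((hRmem _).mp k.2)]
    apply mem_normalizer_of_conj_mem
    intro x hx
    have hxR : x ∈ R := hER hx
    have hx' : (⟨x, hxR⟩ : ↥R) ∈ E.subgroupOf R := Subgroup.mem_subgroupOf.mpr hx
    have hxK : (⟨x, hxR⟩ : ↥R) ∈ K' := hK'le hx'
    have h1 := hnorm.conj_mem ⟨⟨x, hxR⟩, hxK⟩ (Subgroup.mem_subgroupOf.mpr hx') ⟨k, hk⟩
    rw [Subgroup.mem_subgroupOf, Subgroup.mem_subgroupOf] at h1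
    exact h1
  -- the image of K' in G lies in N ⊓ R, of order 48
  have hNt : Nat.card ↥(Subgroup.normalizer (U : Set G) ⊓ R) = 48 := by
    rw [← part1]
    apply Nat.card_congr
    apply Equiv.subtypeEquivRight
    intro x
    rw [Subgroup.mem_inf, hRmem]
  have hKmap : K'.map R.subtype ≤ Subgroup.normalizer (U : Set G) ⊓ R := by
    rintro x ⟨k, hk, rfl⟩
    exact Subgroup.mem_inf.mpr ⟨hKN k hk, k.2⟩
  have hcardmap : Nat.card ↥(K'.map R.subtype) = 32 := by
    rw [Subgroup.card_map_of_injective R.subtype_injective, hK'card]; norm_num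
  have hdvd := Subgroup.card_dvd_of_le hKmap
  rw [hcardmap, hNt] at hdvd
  omega

end Cfsg.Agent.Lib.Helper4.J2N
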