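import Cfsg.Agent.Lib.Helper4.JordanGL

/-!
# Counting unipotent classes of `GL_n(F)`
-/

namespace Cfsg.Agent.Lib.Helper4.JordanNil

open Module Polynomial

universe u

variable {F : Type u} [Field F] {n : ℕ}

theorem card_classes (p : ℕ) [Fact p.Prime] [CharP F p] (P : GL (Fin n) F → Prop)
    (Q : Multiset ℕ → Prop) (hP : ∀ g, P g → Unip p g)
    (hPQ : ∀ g μ, Unip p g → HasType g μ → (P g ↔ Q μ)) :
    Nat.card {C : ConjClasses (GL (Fin n) F) // ∃ g, ConjClasses.mk g = C ∧ P g} =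
      Nat.card {π : Nat.Partition n // Q π.parts} := by
  have key : ∀ C : {C : ConjClasses (GL (Fin n) F) // ∃ g, ConjClasses.mk g = C ∧ P g},
      ∃ π : {π : Nat.Partition n // Q π.parts}, ∃ g : GL (Fin n) F,
        ConjClasses.mk g = C.1 ∧ P g ∧ HasType g π.1.parts := by
    rintro ⟨C, g, hgC, hg⟩
    obtain ⟨μ, hμ⟩ := exists_hasType p g (hP g hg)
    exact ⟨⟨⟨μ, fun hi => hμ.pos _ hi, hμ.sum⟩, (hPQ g μ (hP g hg) hμ).1 hg⟩, g, hgC, hg, hμ⟩
  choose Ψ gΨ h1 h2 h3 using key
  apply Nat.card_congr (Equiv.ofBijective Ψ ⟨?_, ?_⟩)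
  · intro C C' hCC
    apply Subtype.ext
    rw [← h1 C, ← h1 C', ConjClasses.mk_eq_mk_iff_isConj]
    have := h3 C'
    rw [← hCC] at this
    exact (h3 C).isConj this
  · rintro ⟨π, hQ⟩
    obtain ⟨g₀, hu, ht⟩ := exists_of_partition (F := F) p π.parts (fun x hx => π.parts_pos hx)
      π.parts_sum
    have hP₀ : P g₀ := (hPQ g₀ π.parts hu ht).2 hQ
    refine ⟨⟨ConjClasses.mk g₀, g₀, rfl, hP₀⟩, ?_⟩
    apply Subtype.ext
    apply Nat.Partition.ext
    have hc : IsConj (gΨ ⟨ConjClasses.mk g₀, g₀, rfl, hP₀⟩) g₀ :=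
      ConjClasses.mk_eq_mk_iff_isConj.1 (h1 ⟨ConjClasses.mk g₀, g₀, rfl, hP₀⟩)
    exact ((h3 ⟨ConjClasses.mk g₀, g₀, rfl, hP₀⟩).of_isConj hc).unique ht

theorem card_unipotent_classes [Fintype F] (p : ℕ) [Fact p.Prime] [CharP F p] :
    Nat.card {C : ConjClasses (GL (Fin n) F) //
      ∃ g : GL (Fin n) F, (∃ k : ℕ, orderOf g = p ^ k) ∧ ConjClasses.mk g = C} =
      Fintype.card (Nat.Partition n) := by
  have h1 := card_classes (F := F) (n := n) p (fun g => Unip p g) (fun _ => True)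
    (fun g hg => hg) (fun g μ hg _ => ⟨fun _ => trivial, fun _ => hg⟩)
  have h2 : Nat.card {π : Nat.Partition n // (fun _ : Multiset ℕ => True) π.parts} =
      Fintype.card (Nat.Partition n) := by
    rw [← Nat.card_eq_fintype_card]
    exact Nat.card_congr (Equiv.subtypeUnivEquiv (fun _ => trivial))
  rw [← h2, ← h1]
  apply Nat.card_congr
  apply Equiv.subtypeEquivRight
  intro C
  constructor
  · rintro ⟨g, a, b⟩; exact ⟨g, b, a⟩
  · rintro ⟨g, a, b⟩; exact ⟨g, b, a⟩

/-- the all-ones partition -/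
def ones (n : ℕ) : Nat.Partition n :=
  ⟨Multiset.replicate n 1, by
    intro i hi; rw [Multiset.eq_of_mem_replicate hi]; exact Nat.one_pos, by simp⟩

lemma all_le_one_iff (π : Nat.Partition n) : (∀ a ∈ π.parts, a ≤ 1) ↔ π = ones n := by
  constructor
  · intro h
    apply Nat.Partition.ext
    have h1 : ∀ a ∈ π.parts, a = 1 := by
      intro a ha
      have := h a ha
      have := π.parts_pos ha
      omega
    have h2 : π.parts = Multiset.replicate (Multiset.card π.parts) 1 :=
      Multiset.eq_replicate_card.2 h1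
    have h3 : Multiset.card π.parts = n := by
      have hs := π.parts_sum
      generalize hk : Multiset.card π.parts = k at h2
      rw [h2, Multiset.sum_replicate, smul_eq_mul, mul_one] at hs
      exact hs
    rw [h2, h3]; rfl
  · rintro rfl a ha
    rw [show (ones n).parts = Multiset.replicate n 1 from rfl] at ha
    rw [Multiset.eq_of_mem_replicate ha]

theorem card_order_p_classes [Fintype F] (p : ℕ) [Fact p.Prime] [CharP F p] :
    Nat.card {C : ConjClasses (GL (Fin n) F) //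
      ∃ g : GL (Fin n) F, ConjClasses.mk g = C ∧ orderOf g = p} =
      (Finset.univ.filter (fun μ : Nat.Partition n => ∀ a ∈ μ.parts, a ≤ p)).card - 1 := by
  classical
  have h1 := card_classes (F := F) (n := n) p (fun g => orderOf g = p)
    (fun μ => (∀ a ∈ μ, a ≤ p) ∧ ¬ (∀ a ∈ μ, a ≤ 1))
    (fun g hg => ⟨1, by rw [pow_one]; exact hg⟩)
    (fun g μ _ hμ => by
      rw [order_p_iff p, hμ.pow_eq_zero_iff, hμ.pow_eq_zero_iff])
  rw [h1, Nat.card_eq_fintype_card, Fintype.card_subtype]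
  have hmem : ones n ∈ Finset.univ.filter (fun μ : Nat.Partition n => ∀ a ∈ μ.parts, a ≤ p) := by
    rw [Finset.mem_filter]
    refine ⟨Finset.mem_univ _, ?_⟩
    intro a ha
    rw [show (ones n).parts = Multiset.replicate n 1 from rfl] at ha
    rw [Multiset.eq_of_mem_replicate ha]
    exact (Fact.out : p.Prime).one_lt.le
  rw [← Finset.card_erase_of_mem hmem]
  congr 1
  ext π
  simp only [Finset.mem_filter, Finset.mem_univ, true_and, Finset.mem_erase]
  rw [all_le_one_iff]
  tauto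

end Cfsg.Agent.Lib.Helper4.JordanNil
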