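import Cfsg.Agent.Lib.Helper4.JordanNil2

/-!
# Unipotent classes of `GL_n(F)` and partitions
-/

namespace Cfsg.Agent.Lib.Helper4.JordanNil

open Module Polynomial

universe u

variable {F : Type u} [Field F] {n : ℕ}

/-- existence of a nilpotent endomorphism with a Jordan basis of prescribed type -/
lemma exists_nilpotent_of_type {t : ℕ} (e : Fin t → ℕ) (hsum : ∑ i, e i = n) :
    ∃ (N : (Fin n → F) →ₗ[F] (Fin n → F)) (b : Basis (Idx e) F (Fin n → F)), IsJB e N b := by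
  classical
  have hcard : Fintype.card (Idx e) = n := by
    rw [Fintype.card_sigma]; simpa using hsum
  let ε : Idx e ≃ Fin n := Fintype.equivFinOfCardEq hcard
  let b : Basis (Idx e) F (Fin n → F) := (Pi.basisFun F (Fin n)).reindex ε.symm
  refine ⟨b.constr F (fun x => if h : x.2.val + 1 < e x.1 then b ⟨x.1, ⟨x.2.val + 1, h⟩⟩ else 0),
    b, ?_⟩
  intro i j
  rw [Basis.constr_basis]

/-- the nilpotent part `g - 1` as a linear map -/
noncomputable def Nof (g : GL (Fin n) F) : (Fin n → F) →ₗ[F] (Fin n → F) :=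
  Matrix.toLin' ((g : Matrix (Fin n) (Fin n) F) - 1)

lemma Nof_pow (g : GL (Fin n) F) (k : ℕ) :
    (Nof g) ^ k = Matrix.toLin' (((g : Matrix (Fin n) (Fin n) F) - 1) ^ k) := by
  unfold Nof
  exact (map_pow (Matrix.toLinAlgEquiv' (R := F) (n := Fin n)) _ k).symm

lemma Nof_pow_eq_zero_iff (g : GL (Fin n) F) (k : ℕ) :
    (Nof g) ^ k = 0 ↔ ((g : Matrix (Fin n) (Fin n) F) - 1) ^ k = 0 := by
  rw [Nof_pow]
  constructor
  · intro h
    exact (Matrix.toLin' (R := F) (m := Fin n) (n := Fin n)).injective (h.trans (map_zero _).symm)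
  · intro h; rw [h, map_zero]

lemma sub_one_pow_char_pow (p : ℕ) [Fact p.Prime] [CharP F p] (A : Matrix (Fin n) (Fin n) F)
    (k : ℕ) : (A - 1) ^ p ^ k = A ^ p ^ k - 1 := by
  have h : ((X : F[X]) - 1) ^ p ^ k = X ^ p ^ k - 1 := by
    rw [sub_pow_char_pow, one_pow]
  have := congrArg (aeval A) h
  simpa using this

def Unip (p : ℕ) (g : GL (Fin n) F) : Prop := ∃ k : ℕ, orderOf g = p ^ k

lemma gl_pow_eq_one_iff (g : GL (Fin n) F) (k : ℕ) :
    g ^ k = 1 ↔ (g : Matrix (Fin n) (Fin n) F) ^ k = 1 := by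
  rw [← Units.val_pow_eq_pow_val]
  constructor
  · intro h; rw [h]; rfl
  · intro h; exact Units.ext h

lemma unip_iff (p : ℕ) [Fact p.Prime] [CharP F p] (g : GL (Fin n) F) :
    Unip p g ↔ IsNilpotent (Nof g) := by
  constructor
  · rintro ⟨k, hk⟩
    refine ⟨p ^ k, ?_⟩
    rw [Nof_pow_eq_zero_iff, sub_one_pow_char_pow p, ← (gl_pow_eq_one_iff g _).1, sub_self]
    rw [← hk]; exact pow_orderOf_eq_one g
  · rintro ⟨m, hm⟩
    have hp : p.Prime := Fact.out
    have hlt : m < p ^ m := Nat.lt_pow_self hp.one_lt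
    have h1 : (Nof g) ^ (p ^ m) = 0 := by
      rw [← Nat.sub_add_cancel hlt.le, pow_add, hm, mul_zero]
    rw [Nof_pow_eq_zero_iff, sub_one_pow_char_pow p, sub_eq_zero] at h1
    have h2 : g ^ p ^ m = 1 := (gl_pow_eq_one_iff g _).2 h1
    obtain ⟨j, -, hj⟩ := (Nat.dvd_prime_pow hp).1 (orderOf_dvd_of_pow_eq_one h2)
    exact ⟨j, hj⟩

lemma order_p_iff (p : ℕ) [Fact p.Prime] [CharP F p] (g : GL (Fin n) F) :
    orderOf g = p ↔ (Nof g) ^ p = 0 ∧ ¬ (Nof g) ^ 1 = 0 := by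
  rw [orderOf_eq_prime_iff, Nof_pow_eq_zero_iff, Nof_pow_eq_zero_iff]
  have h1 := sub_one_pow_char_pow p (g : Matrix (Fin n) (Fin n) F) 1
  rw [pow_one] at h1
  rw [h1, sub_eq_zero, pow_one, sub_eq_zero, gl_pow_eq_one_iff]
  constructor
  · rintro ⟨h2, h3⟩
    exact ⟨h2, fun h => h3 (Units.ext h)⟩
  · rintro ⟨h2, h3⟩
    exact ⟨h2, fun h => h3 (by rw [h]; rfl)⟩

/-- `g` has Jordan type `μ`. -/
def HasType (g : GL (Fin n) F) (μ : Multiset ℕ) : Prop :=
  ∃ (t : ℕ) (e : Fin t → ℕ) (b : Basis (Idx e) F (Fin n → F)),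
    (∀ i, 0 < e i) ∧ IsJB e (Nof g) b ∧ Finset.univ.val.map e = μ

lemma card_filter_eq_count {t : ℕ} (e : Fin t → ℕ) (v : ℕ) :
    (Finset.univ.filter (fun i => e i = v)).card = Multiset.count v (Finset.univ.val.map e) := by
  rw [Multiset.count_map, Finset.card_def, Finset.filter_val]
  congr 1
  apply Multiset.filter_congr
  intro x _
  exact eq_comm

theorem exists_hasType (p : ℕ) [Fact p.Prime] [CharP F p] (g : GL (Fin n) F) (hg : Unip p g) :
    ∃ μ, HasType g μ := by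
  obtain ⟨t, e, b, hpos, hJ⟩ := exists_IsJB (Nof g) ((unip_iff p g).1 hg)
  exact ⟨_, t, e, b, hpos, hJ, rfl⟩

theorem HasType.pos {g : GL (Fin n) F} {μ : Multiset ℕ} (h : HasType g μ) :
    ∀ x ∈ μ, 0 < x := by
  obtain ⟨t, e, b, hpos, hJ, rfl⟩ := h
  intro x hx
  rw [Multiset.mem_map] at hx
  obtain ⟨i, -, rfl⟩ := hx
  exact hpos i

theorem HasType.sum {g : GL (Fin n) F} {μ : Multiset ℕ} (h : HasType g μ) : μ.sum = n := by
  obtain ⟨t, e, b, hpos, hJ, rfl⟩ := h
  have h1 := Module.finrank_eq_card_basis b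
  rw [Module.finrank_fin_fun, Fintype.card_sigma] at h1
  rw [h1]
  simp only [Fintype.card_fin]
  rfl

theorem HasType.pow_eq_zero_iff {g : GL (Fin n) F} {μ : Multiset ℕ} (h : HasType g μ) (k : ℕ) :
    (Nof g) ^ k = 0 ↔ ∀ x ∈ μ, x ≤ k := by
  obtain ⟨t, e, b, hpos, hJ, rfl⟩ := h
  rw [hJ.pow_eq_zero_iff]
  constructor
  · intro h x hx
    rw [Multiset.mem_map] at hx
    obtain ⟨i, -, rfl⟩ := hx
    exact h i
  · intro h i
    exact h _ (Multiset.mem_map_of_mem _ (Finset.mem_univ_val i))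

/-- from an intertwining linear equivalence to conjugacy -/
lemma isConj_of_equiv (g h : GL (Fin n) F) (φ : (Fin n → F) ≃ₗ[F] (Fin n → F))
    (hφ : ∀ v, φ (Nof g v) = Nof h (φ v)) : IsConj g h := by
  have h1 : LinearMap.toMatrix' (φ : (Fin n → F) →ₗ[F] (Fin n → F)) *
      LinearMap.toMatrix' (φ.symm : (Fin n → F) →ₗ[F] (Fin n → F)) = 1 := by
    rw [← LinearMap.toMatrix'_comp, ← LinearMap.toMatrix'_id]
    congr 1
    ext v : 1
    simp
  have h2 : LinearMap.toMatrix' (φ.symm : (Fin n → F) →ₗ[F] (Fin n → F)) *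
      LinearMap.toMatrix' (φ : (Fin n → F) →ₗ[F] (Fin n → F)) = 1 := by
    rw [← LinearMap.toMatrix'_comp, ← LinearMap.toMatrix'_id]
    congr 1
    ext v : 1
    simp
  have h3 : LinearMap.toMatrix' (φ : (Fin n → F) →ₗ[F] (Fin n → F)) *
      ((g : Matrix (Fin n) (Fin n) F) - 1) =
      ((h : Matrix (Fin n) (Fin n) F) - 1) *
        LinearMap.toMatrix' (φ : (Fin n → F) →ₗ[F] (Fin n → F)) := by
    have hA : ((g : Matrix (Fin n) (Fin n) F) - 1) = LinearMap.toMatrix' (Nof g) :=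
      (LinearMap.toMatrix'_toLin' _).symm
    have hB : ((h : Matrix (Fin n) (Fin n) F) - 1) = LinearMap.toMatrix' (Nof h) :=
      (LinearMap.toMatrix'_toLin' _).symm
    rw [hA, hB, ← LinearMap.toMatrix'_comp, ← LinearMap.toMatrix'_comp]
    congr 1
    apply LinearMap.ext
    intro v
    exact hφ v
  rw [isConj_iff]
  refine ⟨⟨_, _, h1, h2⟩, ?_⟩
  rw [mul_inv_eq_iff_eq_mul]
  apply Units.ext
  show LinearMap.toMatrix' (φ : (Fin n → F) →ₗ[F] (Fin n → F)) * (g : Matrix (Fin n) (Fin n) F) =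
    (h : Matrix (Fin n) (Fin n) F) * LinearMap.toMatrix' (φ : (Fin n → F) →ₗ[F] (Fin n → F))
  rw [mul_sub, sub_mul, mul_one, one_mul] at h3
  exact sub_left_injective h3

theorem HasType.isConj {g h : GL (Fin n) F} {μ : Multiset ℕ} (hg : HasType g μ)
    (hh : HasType h μ) : IsConj g h := by
  obtain ⟨t, e, b, hpos, hJ, hμ⟩ := hg
  obtain ⟨t', e', b', hpos', hJ', hμ'⟩ := hh
  have hc : ∀ v, (Finset.univ.filter (fun i => e i = v)).card =
      (Finset.univ.filter (fun i => e' i = v)).card := by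
    intro v
    rw [card_filter_eq_count, card_filter_eq_count, hμ, hμ']
  obtain ⟨φ, hφ⟩ := exists_equiv_of_IsJB hJ hJ' hc
  exact isConj_of_equiv g h φ hφ

theorem HasType.unique {g : GL (Fin n) F} {μ μ' : Multiset ℕ} (hg : HasType g μ)
    (hg' : HasType g μ') : μ = μ' := by
  obtain ⟨t, e, b, hpos, hJ, hμ⟩ := hg
  obtain ⟨t', e', b', hpos', hJ', hμ'⟩ := hg'
  have hS : ∀ k, ∑ i, (e i - k) = ∑ i, (e' i - k) := by
    intro k
    rw [← hJ.finrank_range_pow, ← hJ'.finrank_range_pow]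
  ext v
  rw [← hμ, ← hμ', ← card_filter_eq_count, ← card_filter_eq_count]
  exact card_fiber_eq_of_sums e e' hpos hpos' hS v

theorem HasType.of_isConj {g h : GL (Fin n) F} {μ : Multiset ℕ} (hg : HasType g μ)
    (hc : IsConj g h) : HasType h μ := by
  obtain ⟨t, e, b, hpos, hJ, hμ⟩ := hg
  rw [isConj_iff] at hc
  obtain ⟨c, hc⟩ := hc
  let φ : (Fin n → F) ≃ₗ[F] (Fin n → F) :=
    LinearEquiv.ofLinear (Matrix.toLin' (c : Matrix (Fin n) (Fin n) F))
      (Matrix.toLin' ((c⁻¹ : GL (Fin n) F) : Matrix (Fin n) (Fin n) F))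
      (by rw [← Matrix.toLin'_mul, ← Units.val_mul, mul_inv_cancel]; simp)
      (by rw [← Matrix.toLin'_mul, ← Units.val_mul, inv_mul_cancel]; simp)
  have hφ : ∀ v, φ (Nof g v) = Nof h (φ v) := by
    intro v
    show Matrix.toLin' (c : Matrix (Fin n) (Fin n) F) (Matrix.toLin' _ v) =
      Matrix.toLin' _ (Matrix.toLin' (c : Matrix (Fin n) (Fin n) F) v)
    rw [← LinearMap.comp_apply, ← LinearMap.comp_apply, ← Matrix.toLin'_mul, ← Matrix.toLin'_mul]
    congr 2
    have h1 : (c : Matrix (Fin n) (Fin n) F) * (g : Matrix (Fin n) (Fin n) F) =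
        (h : Matrix (Fin n) (Fin n) F) * (c : Matrix (Fin n) (Fin n) F) := by
      have := congrArg (fun u : GL (Fin n) F => (u : Matrix (Fin n) (Fin n) F))
        (mul_inv_eq_iff_eq_mul.1 hc)
      simpa using this
    rw [mul_sub, sub_mul, h1, mul_one, one_mul]
  refine ⟨t, e, b.map φ, hpos, ?_, hμ⟩
  intro i j
  rw [Basis.map_apply, ← hφ, hJ i j]
  by_cases hj : j.val + 1 < e i
  · rw [dif_pos hj, dif_pos hj, Basis.map_apply]
  · rw [dif_neg hj, dif_neg hj, map_zero]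

theorem exists_of_partition (p : ℕ) [Fact p.Prime] [CharP F p] (μ : Multiset ℕ)
    (hposμ : ∀ x ∈ μ, 0 < x) (hsum : μ.sum = n) : ∃ g : GL (Fin n) F, Unip p g ∧ HasType g μ := by
  classical
  set l := μ.toList with hl
  set e : Fin l.length → ℕ := l.get with he
  have hμ : Finset.univ.val.map e = μ := by
    rw [Fin.univ_val_map, he, List.ofFn_get, hl, Multiset.coe_toList]
  have hs : ∑ i, e i = n := by
    rw [← hsum, ← hμ]; rfl
  obtain ⟨N, b, hJ⟩ := exists_nilpotent_of_type (F := F) e hs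
  have hN : N ^ n = 0 := by
    rw [hJ.pow_eq_zero_iff]
    intro i
    rw [← hs]
    exact Finset.single_le_sum (fun _ _ => Nat.zero_le _) (Finset.mem_univ i)
  set A : Matrix (Fin n) (Fin n) F := LinearMap.toMatrix' N with hA
  have hAn : IsNilpotent A := by
    refine ⟨n, ?_⟩
    have := map_pow (LinearMap.toMatrixAlgEquiv' (R := F) (n := Fin n)) N n
    rw [hN, map_zero] at this
    exact this.symm
  have hu : IsUnit (1 + A) := hAn.isUnit_one_add
  have hNof : Nof hu.unit = N := by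
    unfold Nof
    rw [IsUnit.unit_spec, add_sub_cancel_left, hA, Matrix.toLin'_toMatrix']
  have hpos : ∀ i, 0 < e i := by
    intro i
    apply hposμ
    rw [← Multiset.coe_toList μ, Multiset.mem_coe]
    exact List.get_mem l i
  refine ⟨hu.unit, ?_, ?_⟩
  · rw [unip_iff p, hNof]; exact ⟨n, hN⟩
  · exact ⟨l.length, e, b, hpos, hNof ▸ hJ, hμ⟩

end Cfsg.Agent.Lib.Helper4.JordanNil
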