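import Mathlib

/-!
# Jordan bases of nilpotent endomorphisms: invariants
-/

namespace Cfsg.Agent.Lib.Helper4.JordanNil

open Module

variable {F : Type*} [Field F] {V : Type*} [AddCommGroup V] [Module F V]

/-- index type of a Jordan basis with block sizes `e` -/
abbrev Idx {t : ℕ} (e : Fin t → ℕ) := Σ i : Fin t, Fin (e i)

/-- `b` is a Jordan basis for `N` with block sizes `e`. -/
def IsJB {t : ℕ} (e : Fin t → ℕ) (N : V →ₗ[F] V) (b : Basis (Idx e) F V) : Prop :=
  ∀ (i : Fin t) (j : Fin (e i)),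
    N (b ⟨i, j⟩) = if h : j.val + 1 < e i then b ⟨i, ⟨j.val + 1, h⟩⟩ else 0

lemma IsJB.pow_apply {t : ℕ} {e : Fin t → ℕ} {N : V →ₗ[F] V} {b : Basis (Idx e) F V}
    (h : IsJB e N b) (k : ℕ) (i : Fin t) (j : Fin (e i)) :
    (N ^ k) (b ⟨i, j⟩) = if h : j.val + k < e i then b ⟨i, ⟨j.val + k, h⟩⟩ else 0 := by
  induction k with
  | zero =>
    rw [pow_zero, dif_pos (by simpa using j.2)]
    rfl
  | succ k ih =>
    rw [pow_succ', Module.End.mul_apply, ih]
    by_cases hk : j.val + k < e i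
    · rw [dif_pos hk, h i ⟨j.val + k, hk⟩]
      by_cases hk1 : j.val + (k + 1) < e i
      · rw [dif_pos hk1, dif_pos (by simpa [add_assoc] using hk1)]
        rfl
      · rw [dif_neg hk1, dif_neg (by simpa [add_assoc] using hk1)]
    · rw [dif_neg hk, map_zero, dif_neg (by omega)]

lemma IsJB.pow_eq_zero_iff {t : ℕ} {e : Fin t → ℕ} {N : V →ₗ[F] V} {b : Basis (Idx e) F V}
    (h : IsJB e N b) (k : ℕ) : N ^ k = 0 ↔ ∀ i, e i ≤ k := by
  constructor
  · intro hN i
    by_contra hlt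
    push Not at hlt
    have h0 : 0 < e i := by omega
    have := h.pow_apply k i ⟨0, h0⟩
    rw [hN, dif_pos (by simpa using hlt)] at this
    exact b.ne_zero _ this.symm
  · intro hle
    apply b.ext
    rintro ⟨i, j⟩
    rw [h.pow_apply, dif_neg (by have := hle i; omega)]
    rfl

/-- the injection of indices shifted by `k` -/
def shiftIdx {t : ℕ} (e : Fin t → ℕ) (k : ℕ) : (Σ i : Fin t, Fin (e i - k)) → Idx e :=
  fun x => ⟨x.1, ⟨x.2.val + k, by have := x.2.2; omega⟩⟩

lemma shiftIdx_injective {t : ℕ} (e : Fin t → ℕ) (k : ℕ) : Function.Injective (shiftIdx e k) := by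
  rintro ⟨i, j⟩ ⟨i', j'⟩ h
  simp only [shiftIdx, Sigma.mk.injEq] at h
  obtain ⟨rfl, h2⟩ := h
  have h3 := eq_of_heq h2
  simp only [Fin.mk.injEq, add_left_inj] at h3
  congr 1
  exact Fin.ext h3

lemma IsJB.range_pow {t : ℕ} {e : Fin t → ℕ} {N : V →ₗ[F] V} {b : Basis (Idx e) F V}
    (h : IsJB e N b) (k : ℕ) :
    LinearMap.range (N ^ k) = Submodule.span F (Set.range (fun x => b (shiftIdx e k x))) := by
  apply le_antisymm
  · rw [LinearMap.range_eq_map, ← b.span_eq, Submodule.map_span, Submodule.span_le]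
    rintro _ ⟨_, ⟨⟨i, j⟩, rfl⟩, rfl⟩
    rw [h.pow_apply]
    by_cases hk : j.val + k < e i
    · rw [dif_pos hk]
      apply Submodule.subset_span
      exact ⟨⟨i, ⟨j.val, by omega⟩⟩, rfl⟩
    · rw [dif_neg hk]; exact Submodule.zero_mem _
  · rw [Submodule.span_le]
    rintro _ ⟨⟨i, j⟩, rfl⟩
    refine ⟨b ⟨i, ⟨j.val, by have := j.2; omega⟩⟩, ?_⟩
    rw [h.pow_apply, dif_pos (by have := j.2; simp only; omega)]
    rfl

lemma IsJB.finrank_range_pow {t : ℕ} {e : Fin t → ℕ} {N : V →ₗ[F] V} {b : Basis (Idx e) F V}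
    (h : IsJB e N b) (k : ℕ) :
    finrank F (LinearMap.range (N ^ k)) = ∑ i, (e i - k) := by
  rw [h.range_pow]
  have := finrank_span_eq_card (b.linearIndependent.comp _ (shiftIdx_injective e k))
  rw [show (fun x => b (shiftIdx e k x)) = (b ∘ shiftIdx e k) from rfl, this, Fintype.card_sigma]
  simp

section comb

/-- `S k = ∑ (e i - k)` determines the multiset of the (positive) `e i`. -/
lemma sum_sub_succ {t : ℕ} (e : Fin t → ℕ) (k : ℕ) :
    ∑ i, (e i - k) = ∑ i, (e i - (k + 1)) + (Finset.univ.filter (fun i => k < e i)).card := by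
  rw [Finset.card_filter, ← Finset.sum_add_distrib]
  refine Finset.sum_congr rfl (fun i _ => ?_)
  split_ifs <;> omega

lemma card_gt_eq {t : ℕ} (e : Fin t → ℕ) (v : ℕ) :
    (Finset.univ.filter (fun i => v < e i)).card =
      (Finset.univ.filter (fun i => v + 1 < e i)).card +
      (Finset.univ.filter (fun i => e i = v + 1)).card := by
  rw [Finset.card_filter, Finset.card_filter, Finset.card_filter, ← Finset.sum_add_distrib]
  refine Finset.sum_congr rfl (fun i _ => ?_)
  split_ifs <;> omega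

lemma card_fiber_eq_of_sums {t t' : ℕ} (e : Fin t → ℕ) (e' : Fin t' → ℕ)
    (hpos : ∀ i, 0 < e i) (hpos' : ∀ i, 0 < e' i)
    (hS : ∀ k, ∑ i, (e i - k) = ∑ i, (e' i - k)) (v : ℕ) :
    (Finset.univ.filter (fun i => e i = v)).card =
      (Finset.univ.filter (fun i => e' i = v)).card := by
  have hA : ∀ k, (Finset.univ.filter (fun i => k < e i)).card =
      (Finset.univ.filter (fun i => k < e' i)).card := by
    intro k
    have h1 := sum_sub_succ e k
    have h2 := sum_sub_succ e' k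
    have h3 := hS k
    have h4 := hS (k + 1)
    omega
  rcases Nat.eq_zero_or_pos v with rfl | hv
  · rw [Finset.card_eq_zero.2, Finset.card_eq_zero.2]
    · apply Finset.filter_eq_empty_iff.2
      intro i _ h; have := hpos' i; omega
    · apply Finset.filter_eq_empty_iff.2
      intro i _ h; have := hpos i; omega
  · obtain ⟨w, rfl⟩ : ∃ w, v = w + 1 := ⟨v - 1, by omega⟩
    have h1 := card_gt_eq e w
    have h2 := card_gt_eq e' w
    have h3 := hA w
    have h4 := hA (w + 1)
    omega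

lemma exists_equiv_of_card_fiber {t t' : ℕ} (e : Fin t → ℕ) (e' : Fin t' → ℕ)
    (h : ∀ v, (Finset.univ.filter (fun i => e i = v)).card =
      (Finset.univ.filter (fun i => e' i = v)).card) :
    ∃ σ : Fin t ≃ Fin t', ∀ i, e' (σ i) = e i := by
  have hc : ∀ v, Fintype.card {i // e i = v} = Fintype.card {i // e' i = v} := by
    intro v
    rw [Fintype.card_subtype, Fintype.card_subtype]; exact h v
  let ε : ∀ v, {i // e i = v} ≃ {i // e' i = v} := fun v => Fintype.equivOfCardEq (hc v)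
  refine ⟨(Equiv.sigmaFiberEquiv e).symm.trans
    ((Equiv.sigmaCongrRight ε).trans (Equiv.sigmaFiberEquiv e')), ?_⟩
  intro i
  simp only [Equiv.trans_apply, Equiv.sigmaFiberEquiv_symm_apply_fst,
    Equiv.sigmaCongrRight_apply, Equiv.sigmaFiberEquiv_apply]
  exact (ε (e i) ⟨i, rfl⟩).2

end comb

/-- Two Jordan bases with the same fibre cardinalities give an intertwining isomorphism. -/
theorem exists_equiv_of_IsJB {V' : Type*} [AddCommGroup V'] [Module F V'] {t t' : ℕ}
    {e : Fin t → ℕ} {e' : Fin t' → ℕ}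
    {N : V →ₗ[F] V} {b : Basis (Idx e) F V} (h : IsJB e N b)
    {N' : V' →ₗ[F] V'} {b' : Basis (Idx e') F V'} (h' : IsJB e' N' b')
    (hc : ∀ v, (Finset.univ.filter (fun i => e i = v)).card =
      (Finset.univ.filter (fun i => e' i = v)).card) :
    ∃ φ : V ≃ₗ[F] V', ∀ v, φ (N v) = N' (φ v) := by
  obtain ⟨σ, hσ⟩ := exists_equiv_of_card_fiber e e' hc
  let τ : Idx e ≃ Idx e' := Equiv.sigmaCongr σ (fun i => finCongr (hσ i).symm)
  have hτ : ∀ i j, τ ⟨i, j⟩ = ⟨σ i, Fin.cast (hσ i).symm j⟩ := fun i j => rfl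
  refine ⟨b.equiv b' τ, ?_⟩
  intro v
  have : ((b.equiv b' τ : V ≃ₗ[F] V') : V →ₗ[F] V') ∘ₗ N =
      N' ∘ₗ ((b.equiv b' τ : V ≃ₗ[F] V') : V →ₗ[F] V') := by
    apply b.ext
    rintro ⟨i, j⟩
    simp only [LinearMap.coe_comp, LinearEquiv.coe_coe, Function.comp_apply, Basis.equiv_apply]
    rw [h i j, hτ, h' (σ i) (Fin.cast (hσ i).symm j)]
    by_cases hj : j.val + 1 < e i
    · have hj' : (Fin.cast (hσ i).symm j).val + 1 < e' (σ i) := by
        have := hσ i; simp only [Fin.val_cast]; omega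
      rw [dif_pos hj, dif_pos hj', Basis.equiv_apply, hτ]
      rfl
    · have hj' : ¬ (Fin.cast (hσ i).symm j).val + 1 < e' (σ i) := by
        have := hσ i; simp only [Fin.val_cast]; omega
      rw [dif_neg hj, dif_neg hj', map_zero]
  exact LinearMap.congr_fun this v

end Cfsg.Agent.Lib.Helper4.JordanNil
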