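import Cfsg.Agent.Lib.Helper4.JordanNil

/-!
# Existence of Jordan bases for nilpotent endomorphisms (via the structure theorem over `F[X]`)
-/

namespace Cfsg.Agent.Lib.Helper4.JordanNil

open Module Polynomial

universe u

variable {F : Type u} [Field F]

/-- a shift basis of `F[X] / (X^m)` -/
lemma exists_basis_quot (I : Submodule F[X] F[X]) (m : ℕ) (hI : I = Ideal.span {(X : F[X]) ^ m}) :
    ∃ c : Basis (Fin m) F (F[X] ⧸ I), ∀ j : Fin m,
      (X : F[X]) • c j = if h : j.val + 1 < m then c ⟨j.val + 1, h⟩ else 0 := by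
  subst hI
  set pb := AdjoinRoot.powerBasis' (monic_X_pow (R := F) m) with hpb
  have hdim : pb.dim = m := by
    rw [hpb, AdjoinRoot.powerBasis'_dim, natDegree_X_pow]
  have hgen : pb.gen = AdjoinRoot.root ((X : F[X]) ^ m) := AdjoinRoot.powerBasis'_gen _
  let c : Basis (Fin m) F (F[X] ⧸ Ideal.span {(X : F[X]) ^ m}) :=
    pb.basis.reindex (finCongr hdim)
  have hc : ∀ j : Fin m, c j = Submodule.Quotient.mk ((X : F[X]) ^ (j : ℕ)) := by
    intro j
    show pb.basis.reindex (finCongr hdim) j = _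
    rw [Basis.reindex_apply, PowerBasis.basis_eq_pow, hgen, ← AdjoinRoot.mk_X, ← map_pow]
    rfl
  refine ⟨c, ?_⟩
  intro j
  have hsm : (X : F[X]) • c j = Submodule.Quotient.mk ((X : F[X]) ^ ((j : ℕ) + 1)) := by
    rw [hc, pow_succ', ← Submodule.Quotient.mk_smul, smul_eq_mul]
  rw [hsm]
  by_cases h : j.val + 1 < m
  · rw [dif_pos h, hc]
  · rw [dif_neg h]
    have : (j : ℕ) + 1 = m := by have := j.2; omega
    rw [this, Submodule.Quotient.mk_eq_zero]
    exact Ideal.mem_span_singleton_self _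

theorem exists_IsJB {V : Type u} [AddCommGroup V] [Module F V] [FiniteDimensional F V]
    (N : V →ₗ[F] V) (hN : IsNilpotent N) :
    ∃ (t : ℕ) (e : Fin t → ℕ) (b : Basis (Idx e) F V), (∀ i, 0 < e i) ∧ IsJB e N b := by
  classical
  obtain ⟨m, hm⟩ := hN
  have htors : Module.IsTorsion F[X] (Module.AEval' N) :=
    Module.AEval.isTorsion_of_finiteDimensional F V N
  obtain ⟨ι, _, p, hp, e, ⟨E⟩⟩ := Module.equiv_directSum_of_isTorsion htors
  -- X^m kills the module
  have hkill : ∀ z : Module.AEval' N, (X ^ m : F[X]) • z = 0 := by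
    intro z
    obtain ⟨v, rfl⟩ := (Module.AEval'.of N).surjective z
    rw [Module.AEval'.X_pow_smul_of, hm]
    simp
  have hI : ∀ i, Submodule.span F[X] {p i ^ e i} = Ideal.span {(X : F[X]) ^ e i} := by
    intro i
    have h1 : (X ^ m : F[X]) ∈ Submodule.span F[X] {p i ^ e i} := by
      have h2 := hkill (E.symm (DirectSum.of _ i (Submodule.Quotient.mk 1)))
      have h3 : E ((X ^ m : F[X]) • E.symm (DirectSum.of
          (fun i => F[X] ⧸ Submodule.span F[X] {p i ^ e i}) i (Submodule.Quotient.mk 1))) = 0 := by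
        rw [h2, map_zero]
      rw [map_smul, LinearEquiv.apply_symm_apply] at h3
      have h4 := congrArg (fun z => z i) h3
      simp only [DirectSum.smul_apply, DirectSum.of_eq_same, DirectSum.zero_apply] at h4
      rw [← Submodule.Quotient.mk_smul, Submodule.Quotient.mk_eq_zero, smul_eq_mul, mul_one] at h4
      exact h4
    rw [Submodule.mem_span_singleton] at h1
    obtain ⟨a, ha⟩ := h1
    have hdvd : p i ^ e i ∣ X ^ m := ⟨a, by rw [← ha, smul_eq_mul, mul_comm]⟩
    rcases Nat.eq_zero_or_pos (e i) with h0 | hpos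
    · rw [h0, pow_zero, pow_zero]
    · have h5 : p i ∣ X ^ m := dvd_trans (dvd_pow_self _ hpos.ne') hdvd
      have h6 : p i ∣ X := (hp i).prime.dvd_of_dvd_pow h5
      have h7 : Associated (p i) X := (hp i).associated_of_dvd irreducible_X h6
      exact Ideal.span_singleton_eq_span_singleton.2 (h7.pow_pow)
  choose c hc using fun i => exists_basis_quot (Submodule.span F[X] {p i ^ e i}) (e i) (hI i)
  let Φ : Module.AEval' N ≃ₗ[F[X]] (∀ i, F[X] ⧸ Submodule.span F[X] {p i ^ e i}) :=
    E.trans (DirectSum.linearEquivFunOnFintype F[X] ι _)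
  let B₀ : Basis (Σ i : ι, Fin (e i)) F V :=
    (Pi.basis c).map ((Φ.restrictScalars F).symm.trans (Module.AEval'.of N).symm)
  have hB₀ : ∀ i j, B₀ ⟨i, j⟩ = (Module.AEval'.of N).symm (Φ.symm (Pi.single i (c i j))) := by
    intro i j
    show (Pi.basis c).map _ ⟨i, j⟩ = _
    rw [Basis.map_apply, Pi.basis_apply]
    rfl
  have hshift : ∀ i (j : Fin (e i)), N (B₀ ⟨i, j⟩) =
      if h : j.val + 1 < e i then B₀ ⟨i, ⟨j.val + 1, h⟩⟩ else 0 := by
    intro i j
    rw [hB₀, ← Module.AEval'.of_symm_X_smul, ← map_smul]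
    have hs : (X : F[X]) • (Pi.single i (c i j) : ∀ i, F[X] ⧸ Submodule.span F[X] {p i ^ e i}) =
        Pi.single i ((X : F[X]) • c i j) := by
      funext k
      rw [Pi.smul_apply]
      by_cases hk : k = i
      · subst hk; simp
      · rw [Pi.single_eq_of_ne hk, Pi.single_eq_of_ne hk, smul_zero]
    rw [hs, hc i j]
    by_cases h : j.val + 1 < e i
    · rw [dif_pos h, dif_pos h, hB₀]
    · rw [dif_neg h, dif_neg h, Pi.single_zero, map_zero, map_zero]
  -- reindex to positive parts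
  let f : Fin (Fintype.card {i : ι // 0 < e i}) ≃ {i : ι // 0 < e i} :=
    (Fintype.equivFin _).symm
  let e' : Fin (Fintype.card {i : ι // 0 < e i}) → ℕ := fun k => e (f k).1
  let ρf : (Σ k : Fin (Fintype.card {i : ι // 0 < e i}), Fin (e' k)) → (Σ i : ι, Fin (e i)) :=
    fun x => ⟨(f x.1).1, x.2⟩
  have hρ : Function.Bijective ρf := by
    constructor
    · rintro ⟨k, j⟩ ⟨k', j'⟩ h
      simp only [ρf, Sigma.mk.injEq] at h
      obtain ⟨h1, h2⟩ := h
      have hk : k = k' := f.injective (Subtype.ext h1)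
      subst hk
      rw [eq_of_heq h2]
    · rintro ⟨i, j⟩
      have hpos : 0 < e i := by have := j.2; omega
      obtain ⟨k, hk⟩ := f.surjective ⟨i, hpos⟩
      have hki : (f k).1 = i := by rw [hk]
      refine ⟨⟨k, Fin.cast (by show e i = e (f k).1; rw [hki]) j⟩, ?_⟩
      simp only [ρf]
      refine Sigma.ext hki ?_
      rw [Fin.heq_ext_iff (congrArg e hki)]
      rfl
  let ρ := Equiv.ofBijective ρf hρ
  refine ⟨_, e', B₀.reindex ρ.symm, fun k => (f k).2, ?_⟩
  intro k j
  rw [Basis.reindex_apply, Equiv.symm_symm]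
  show N (B₀ ⟨(f k).1, j⟩) = _
  rw [hshift]
  by_cases h : j.val + 1 < e' k
  · rw [dif_pos h, dif_pos h, Basis.reindex_apply, Equiv.symm_symm]
    rfl
  · rw [dif_neg h, dif_neg h]

end Cfsg.Agent.Lib.Helper4.JordanNil
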