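import Mathlib

/-!
A computable model of the field with 9 elements: `𝔽₃[i]` with `i² = -1`, and the transfer of `SL₂` along an
isomorphism of fields.
-/

set_option autoImplicit false

namespace Cfsg.Agent.Lib.Helper4.K9Field

/-- the field with 9 elements, as pairs `x + y i` over `ZMod 3` -/
structure K9 where
  /-- the real part -/
  re : ZMod 3
  /-- the imaginary part -/
  im : ZMod 3
  deriving DecidableEq, Fintype

namespace K9

instance : Zero K9 := ⟨⟨0, 0⟩⟩
instance : One K9 := ⟨⟨1, 0⟩⟩
instance : Add K9 := ⟨fun a b => ⟨a.re + b.re, a.im + b.im⟩⟩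
instance : Neg K9 := ⟨fun a => ⟨-a.re, -a.im⟩⟩
instance : Mul K9 := ⟨fun a b => ⟨a.re * b.re - a.im * b.im, a.re * b.im + a.im * b.re⟩⟩
instance : Inv K9 := ⟨fun a => ⟨a.re * (a.re * a.re + a.im * a.im)⁻¹, -a.im * (a.re * a.re + a.im * a.im)⁻¹⟩⟩

/-- the square root of `-1` -/
def i : K9 := ⟨0, 1⟩

instance : CommRing K9 where
  add_assoc := by decide +kernel
  zero_add := by decide +kernel
  add_zero := by decide +kernel
  add_comm := by decide +kernel
  neg_add_cancel := by decide +kernel
  mul_assoc := by decide +kernel
  one_mul := by decide +kernel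
  mul_one := by decide +kernel
  left_distrib := by decide +kernel
  right_distrib := by decide +kernel
  zero_mul := by decide +kernel
  mul_zero := by decide +kernel
  mul_comm := by decide +kernel
  nsmul := nsmulRec
  zsmul := zsmulRec

instance : Field K9 where
  exists_pair_ne := ⟨0, 1, by decide⟩
  mul_inv_cancel := by decide +kernel
  inv_zero := by decide +kernel
  nnqsmul := _
  nnqsmul_def := fun _ _ => rfl
  qsmul := _
  qsmul_def := fun _ _ => rfl

theorem card : Fintype.card K9 = 9 := by decide +kernel

end K9

/-- the isomorphism of special linear groups from an isomorphism of rings -/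
noncomputable def slEquiv {R S : Type*} [CommRing R] [CommRing S] (e : R ≃+* S) :
    Matrix.SpecialLinearGroup (Fin 2) R ≃* Matrix.SpecialLinearGroup (Fin 2) S where
  toFun := Matrix.SpecialLinearGroup.map e.toRingHom
  invFun := Matrix.SpecialLinearGroup.map e.symm.toRingHom
  left_inv := by
    intro g
    apply Subtype.ext
    ext a b
    show e.symm (e (g.1 a b)) = g.1 a b
    simp
  right_inv := by
    intro g
    apply Subtype.ext
    ext a b
    show e (e.symm (g.1 a b)) = g.1 a b
    simp
  map_mul' := map_mul _

end Cfsg.Agent.Lib.Helper4.K9Field
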