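import Mathlib
import Cfsg.Agent.Lib.Helper4.KHomB

set_option autoImplicit false
set_option maxHeartbeats 4000000
set_option linter.unusedVariables false
set_option linter.unusedSectionVars false
set_option linter.style.longLine false

namespace Cfsg.Agent.Lib.Helper4.KHom

open MulAction SubMulAction

variable {α : Type*} [Fintype α] [DecidableEq α] (G : Subgroup (Equiv.Perm α))

/-- cardinality of a subgroup of a subgroup, computed in the big group -/
theorem card_eq_of_forall_mem {X : Type*} [Group X] (H : Subgroup X) (K : Subgroup H) (L : Subgroup X)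
    (h : ∀ g : X, g ∈ L ↔ ∃ hg : g ∈ H, (⟨g, hg⟩ : H) ∈ K) : Nat.card K = Nat.card L := by
  refine Nat.card_congr ⟨fun g => ⟨g.1.1, (h _).mpr ⟨g.1.2, g.2⟩⟩,
    fun g => ⟨⟨g.1, ((h _).mp g.2).1⟩, ((h _).mp g.2).2⟩, fun g => rfl, fun g => rfl⟩

theorem swap_of_even_at_h4 (a : ℕ) (Γ0 : Finset α) (x y : α) (hx : x ∉ Γ0) (hy : y ∉ Γ0) (hxy : x ≠ y)
    (h2 : ∀ z w : α, z ∉ Γ0 → w ∉ Γ0 → z ≠ w → ¬ 2 ^ (a + 1) ∣ Nat.card (fixingSubgroup G ((insert z (insert w Γ0) : Finset α) : Set α)))
    (h1 : ∀ z : α, z ∉ Γ0 → 2 ^ (a + 1) ∣ Nat.card (fixingSubgroup G ((insert z Γ0 : Finset α) : Set α)))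
    (h2' : 2 ^ a ∣ Nat.card (fixingSubgroup G ((insert x (insert y Γ0) : Finset α) : Set α))) :
    ∃ u : G, (∀ z ∈ Γ0, u • z = z) ∧ u • x = y ∧ u • y = x := by
  classical
  have hmemΩ : ∀ z : α, z ∉ Γ0 → z ∈ ofFixingSubgroup G (Γ0 : Set α) := by
    intro z hz
    rw [mem_ofFixingSubgroup_iff]
    exact fun h => hz (Finset.mem_coe.mp h)
  have hnotΓ : ∀ z' : ofFixingSubgroup G (Γ0 : Set α), (z' : α) ∉ Γ0 := by
    intro z' h
    have := z'.2
    rw [mem_ofFixingSubgroup_iff] at this
    exact this (Finset.mem_coe.mpr h)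
  have hsm : ∀ (g : fixingSubgroup G (Γ0 : Set α)) (z' : ofFixingSubgroup G (Γ0 : Set α)),
      ((g • z' : ofFixingSubgroup G (Γ0 : Set α)) : α) = (g : G) • (z' : α) := fun g z' => rfl
  have hc1 : ∀ z' : ofFixingSubgroup G (Γ0 : Set α),
      Nat.card (stabilizer (fixingSubgroup G (Γ0 : Set α)) z') =
        Nat.card (fixingSubgroup G ((insert (z' : α) Γ0 : Finset α) : Set α)) := by
    intro z'
    apply card_eq_of_forall_mem
    intro g
    rw [mem_fixingSubgroup_iff]
    constructor
    · intro h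
      have hg : g ∈ fixingSubgroup G (Γ0 : Set α) := by
        rw [mem_fixingSubgroup_iff]
        intro w hw
        exact h w (by simp [Finset.mem_coe.mp hw])
      refine ⟨hg, ?_⟩
      rw [mem_stabilizer_iff]
      apply Subtype.ext
      rw [hsm]
      exact h _ (by simp)
    · rintro ⟨hg, hst⟩ w hw
      rw [mem_stabilizer_iff] at hst
      have hst' := congrArg Subtype.val hst
      rw [hsm] at hst'
      rw [mem_fixingSubgroup_iff] at hg
      rcases Finset.mem_insert.mp (Finset.mem_coe.mp hw) with h | h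
      · rw [h]; exact hst'
      · exact hg w (Finset.mem_coe.mpr h)
  have hc2 : ∀ z' w' : ofFixingSubgroup G (Γ0 : Set α),
      Nat.card (stabilizer (fixingSubgroup G (Γ0 : Set α)) z' ⊓
          stabilizer (fixingSubgroup G (Γ0 : Set α)) w' : Subgroup (fixingSubgroup G (Γ0 : Set α))) =
        Nat.card (fixingSubgroup G ((insert (z' : α) (insert (w' : α) Γ0) : Finset α) : Set α)) := by
    intro z' w'
    apply card_eq_of_forall_mem
    intro g
    rw [mem_fixingSubgroup_iff]
    constructor
    · intro h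
      have hg : g ∈ fixingSubgroup G (Γ0 : Set α) := by
        rw [mem_fixingSubgroup_iff]
        intro w hw
        exact h w (by simp [Finset.mem_coe.mp hw])
      refine ⟨hg, ?_⟩
      rw [Subgroup.mem_inf, mem_stabilizer_iff, mem_stabilizer_iff]
      constructor
      · apply Subtype.ext
        rw [hsm]
        exact h _ (by simp)
      · apply Subtype.ext
        rw [hsm]
        exact h _ (by simp)
    · rintro ⟨hg, hst⟩ w hw
      rw [Subgroup.mem_inf, mem_stabilizer_iff, mem_stabilizer_iff] at hst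
      have hst1 := congrArg Subtype.val hst.1
      have hst2 := congrArg Subtype.val hst.2
      rw [hsm] at hst1 hst2
      rw [mem_fixingSubgroup_iff] at hg
      rcases Finset.mem_insert.mp (Finset.mem_coe.mp hw) with h | h
      · rw [h]; exact hst1
      · rcases Finset.mem_insert.mp h with h | h
        · rw [h]; exact hst2
        · exact hg w (Finset.mem_coe.mpr h)
  obtain ⟨u, hu1, hu2⟩ := swap_of_two_part' (M := fixingSubgroup G (Γ0 : Set α))
    (Ω := ofFixingSubgroup G (Γ0 : Set α)) a
    (by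
      intro z' w' hzw
      rw [hc2]
      exact h2 _ _ (hnotΓ z') (hnotΓ w') (fun h => hzw (Subtype.ext h)))
    (by
      intro z'
      rw [hc1]
      exact h1 _ (hnotΓ z'))
    ⟨x, hmemΩ x hx⟩ ⟨y, hmemΩ y hy⟩ (fun h => hxy (congrArg Subtype.val h))
    (by rw [hc2]; exact h2')
  refine ⟨(u : G), ?_, ?_, ?_⟩
  · intro z hz
    have := u.2
    rw [mem_fixingSubgroup_iff] at this
    exact this z (Finset.mem_coe.mpr hz)
  · have := congrArg Subtype.val hu1
    rw [hsm] at this
    exact this
  · have := congrArg Subtype.val hu2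
    rw [hsm] at this
    exact this

end Cfsg.Agent.Lib.Helper4.KHom
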