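import Mathlib
import Cfsg.Agent.Lib.Helper6.KHom8
import Cfsg.Agent.Lib.Helper4.KHomDp

set_option autoImplicit false
set_option maxHeartbeats 4000000
set_option maxRecDepth 100000
set_option linter.unusedVariables false
set_option linter.unusedSectionVars false
set_option linter.style.longLine false
set_option linter.unusedSimpArgs false
set_option linter.deprecated false

/-! # S0747, piece N6: a `(k+1)`-set with maximal 2-part of the pointwise stabilizer carries all
swaps, hence `G` induces the full symmetric group on it -/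

namespace Cfsg.Agent.Lib.Helper4.KHom

open MulAction SubMulAction Cfsg.Agent.Lib.Helper6.KHom

variable {α : Type*} [Fintype α] [DecidableEq α] (G : Subgroup (Equiv.Perm α))

/-- all permutations of `Δ` are induced once all swaps are -/
theorem exists_perm_of_swaps_on (Δ : Finset α)
    (hs : ∀ x ∈ Δ, ∀ y ∈ Δ, x ≠ y →
      ∃ u : G, (∀ z ∈ Δ, z ≠ x → z ≠ y → u • z = z) ∧ u • x = y ∧ u • y = x)
    (σ : Equiv.Perm ↥Δ) : ∃ g : G, ∀ x : ↥Δ, g • (x : α) = σ x := by
  induction σ using Equiv.Perm.swap_induction_on with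
  | one => exact ⟨1, fun i => by simp⟩
  | swap_mul f i j hij ih =>
    obtain ⟨gf, hgf⟩ := ih
    have hne : (i : α) ≠ (j : α) := fun h => hij (Subtype.ext h)
    obtain ⟨u, hu1, hu2, hu3⟩ := hs i.1 i.2 j.1 j.2 hne
    have hu : ∀ m : ↥Δ, u • (m : α) = ((Equiv.swap i j m : ↥Δ) : α) := by
      intro m
      by_cases hmi : m = i
      · subst hmi; rw [Equiv.swap_apply_left]; exact hu2
      · by_cases hmj : m = j
        · subst hmj; rw [Equiv.swap_apply_right]; exact hu3
        · rw [Equiv.swap_apply_of_ne_of_ne hmi hmj]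
          exact hu1 _ m.2 (fun h => hmi (Subtype.ext h)) (fun h => hmj (Subtype.ext h))
    refine ⟨u * gf, fun l => ?_⟩
    rw [mul_smul, hgf, hu, Equiv.Perm.mul_apply]

theorem exists_inducesAlt_of_max {k : ℕ} (hk : 1 ≤ k) (hkn : k < Fintype.card α) (hG : IsMultiplyPretransitive G α k) (b : ℕ)
    (hb : ∀ T : Finset α, T.card = k → 2 ^ b ∣ Nat.card (fixingSubgroup G (T : Set α)))
    (hII : ∀ Δ : Finset α, Δ.card = k + 1 → ¬ 2 ^ b ∣ Nat.card (fixingSubgroup G (Δ : Set α))) :
    ∃ Δ : Finset α, Δ.card = k + 1 ∧ InducesAlt G Δ := by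
  classical
  have hne : (Finset.powersetCard (k + 1) (Finset.univ : Finset α)).Nonempty := by
    rw [Finset.powersetCard_nonempty, Finset.card_univ]
    omega
  obtain ⟨Δ, hΔmem, hΔmax⟩ := Finset.exists_max_image _
    (fun Δ : Finset α => (Nat.card (fixingSubgroup G (Δ : Set α))).factorization 2) hne
  have hΔc : Δ.card = k + 1 := (Finset.mem_powersetCard.mp hΔmem).2
  have hpos : ∀ S : Finset α, Nat.card (fixingSubgroup G (S : Set α)) ≠ 0 :=
    fun S => Nat.card_pos.ne'
  obtain ⟨a, ha⟩ : ∃ a : ℕ, a = (Nat.card (fixingSubgroup G (Δ : Set α))).factorization 2 :=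
    ⟨_, rfl⟩
  have hmax : ∀ S : Finset α, S.card = k + 1 →
      ¬ 2 ^ (a + 1) ∣ Nat.card (fixingSubgroup G (S : Set α)) := by
    intro S hS hdvd
    have h1 := (Nat.Prime.pow_dvd_iff_le_factorization Nat.prime_two (hpos S)).mp hdvd
    have h2 := hΔmax S (Finset.mem_powersetCard.mpr ⟨Finset.subset_univ _, hS⟩)
    have h3 : (Nat.card (fixingSubgroup G (S : Set α))).factorization 2 ≤ (Nat.card (fixingSubgroup G (Δ : Set α))).factorization 2 := h2
    omega
  have haΔ : 2 ^ a ∣ Nat.card (fixingSubgroup G (Δ : Set α)) := by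
    rw [ha]; exact Nat.ordProj_dvd _ 2
  have hab : a < b := by
    by_contra h
    push Not at h
    exact hII Δ hΔc ((pow_dvd_pow 2 h).trans haΔ)
  have hs : ∀ x ∈ Δ, ∀ y ∈ Δ, x ≠ y →
      ∃ u : G, (∀ z ∈ Δ, z ≠ x → z ≠ y → u • z = z) ∧ u • x = y ∧ u • y = x := by
    intro x hx y hy hxy
    have hxΓ : x ∉ (Δ.erase x).erase y := fun h =>
      Finset.notMem_erase x Δ (Finset.mem_of_mem_erase h)
    have hyΓ : y ∉ (Δ.erase x).erase y := Finset.notMem_erase y _
    have hyx : y ∈ Δ.erase x := Finset.mem_erase.mpr ⟨hxy.symm, hy⟩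
    have hins : insert x (insert y ((Δ.erase x).erase y)) = Δ := by
      rw [Finset.insert_erase hyx, Finset.insert_erase hx]
    have hΓc : ((Δ.erase x).erase y).card + 2 = k + 1 := by
      rw [Finset.card_erase_of_mem hyx, Finset.card_erase_of_mem hx, hΔc]
      omega
    have h2 : ∀ z w : α, z ∉ (Δ.erase x).erase y → w ∉ (Δ.erase x).erase y → z ≠ w →
        ¬ 2 ^ (a + 1) ∣ Nat.card (fixingSubgroup G
          ((insert z (insert w ((Δ.erase x).erase y)) : Finset α) : Set α)) := by
      intro z w hz hw hzw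
      apply hmax
      rw [Finset.card_insert_of_notMem, Finset.card_insert_of_notMem hw]
      · omega
      · intro h
        rcases Finset.mem_insert.mp h with h | h
        · exact hzw h
        · exact hz h
    have h1 : ∀ z : α, z ∉ (Δ.erase x).erase y →
        2 ^ (a + 1) ∣ Nat.card (fixingSubgroup G
          ((insert z ((Δ.erase x).erase y) : Finset α) : Set α)) := by
      intro z hz
      have h1 : 2 ^ b ∣ Nat.card (fixingSubgroup G
          ((insert z ((Δ.erase x).erase y) : Finset α) : Set α)) := by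
        apply hb
        rw [Finset.card_insert_of_notMem hz]
        omega
      exact (pow_dvd_pow 2 (by omega)).trans h1
    have h2' : 2 ^ a ∣ Nat.card (fixingSubgroup G
        ((insert x (insert y ((Δ.erase x).erase y)) : Finset α) : Set α)) := by
      rw [hins]; exact haΔ
    obtain ⟨u, hu1, hu2, hu3⟩ := swap_of_even_at_h4 G a ((Δ.erase x).erase y) x y hxΓ hyΓ hxy
      h2 h1 h2'
    refine ⟨u, fun z hz hzx hzy => hu1 z ?_, hu2, hu3⟩
    exact Finset.mem_erase.mpr ⟨hzy, Finset.mem_erase.mpr ⟨hzx, hz⟩⟩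
  refine ⟨Δ, hΔc, ?_⟩
  intro σ _
  obtain ⟨g, hg⟩ := exists_perm_of_swaps_on G Δ hs σ
  exact ⟨g.1, g.2, fun x => hg x⟩

end Cfsg.Agent.Lib.Helper4.KHom
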