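import Cfsg.Agent.Lib.Helper6.KInfDefs

set_option autoImplicit false

namespace Cfsg.Agent.Lib.Helper4.KInfK5

open Cfsg Cfsg.Agent.Lib.Helper7 Cfsg.Agent.Lib.Helper6.KInfDefs

universe u

variable {G : Type u} [Group G]

/-- normalizers grow between `N` and `K` when `K / N` is a `p`-group -/
theorem exists_normalizing [Finite G] {p : ℕ} [Fact p.Prime] (N K H : Subgroup G)
    (hN : N.Normal) (hNH : N ≤ H) (hHK : H < K)
    (hp : ∀ k ∈ K, ∃ j : ℕ, k ^ p ^ j ∈ N) :
    ∃ x ∈ K, x ∉ H ∧ x ∈ Subgroup.normalizer (H : Set G) := by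
  classical
  set π : G →* G ⧸ N := QuotientGroup.mk' N with hπ
  have hker : π.ker = N := QuotientGroup.ker_mk' N
  have hcm : ∀ L : Subgroup G, N ≤ L → (L.map π).comap π = L := by
    intro L hL
    rw [Subgroup.comap_map_eq, hker, sup_of_le_left hL]
  set Kb : Subgroup (G ⧸ N) := K.map π with hKb
  set Hb : Subgroup (G ⧸ N) := H.map π with hHb
  have hHKb : Hb ≤ Kb := Subgroup.map_mono hHK.le
  have hpg : IsPGroup p Kb := by
    rintro ⟨g, k, hk, rfl⟩
    obtain ⟨j, hj⟩ := hp k hk
    refine ⟨j, ?_⟩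
    apply Subtype.ext
    rw [Subgroup.coe_pow, Subgroup.coe_one]
    show (π k) ^ p ^ j = 1
    rw [← map_pow, ← MonoidHom.mem_ker, hker]
    exact hj
  haveI : Group.IsNilpotent Kb := hpg.isNilpotent
  have hlt : Hb.subgroupOf Kb < ⊤ := by
    rw [lt_top_iff_ne_top]
    intro h
    rw [Subgroup.subgroupOf_eq_top] at h
    have h1 : Kb ≤ Hb := h
    have h2 : K ≤ H := by
      have := Subgroup.comap_mono (f := π) h1
      rwa [hcm K (hNH.trans hHK.le), hcm H hNH] at this
    exact (not_le_of_gt hHK) h2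
  have hnc := Group.normalizerCondition_of_isNilpotent (G := Kb) (Hb.subgroupOf Kb) hlt
  obtain ⟨y, hyN, hyH⟩ := SetLike.exists_of_lt hnc
  obtain ⟨x, hxK, hxy⟩ := y.2
  refine ⟨x, hxK, ?_, ?_⟩
  · intro hxH
    apply hyH
    rw [Subgroup.mem_subgroupOf, ← hxy]
    exact Subgroup.mem_map_of_mem π hxH
  · rw [Subgroup.mem_normalizer_iff] at hyN ⊢
    intro h
    have hmemH : ∀ g : G, g ∈ H ↔ π g ∈ Hb := by
      intro g
      constructor
      · intro hg; exact Subgroup.mem_map_of_mem π hg
      · intro hg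
        have : g ∈ (H.map π).comap π := hg
        rwa [hcm H hNH] at this
    constructor
    · intro hh
      have hhK : π h ∈ Kb := Subgroup.mem_map_of_mem π (hHK.le hh)
      have h1 := (hyN ⟨π h, hhK⟩).mp (by
        rw [Subgroup.mem_subgroupOf]; exact (hmemH h).mp hh)
      rw [Subgroup.mem_subgroupOf] at h1
      rw [hmemH]
      have e : ((y * ⟨π h, hhK⟩ * y⁻¹ : Kb) : G ⧸ N) = π (x * h * x⁻¹) := by
        rw [map_mul, map_mul, map_inv, hxy]
        rfl
      rwa [e] at h1
    · intro hh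
      have hxh : x * h * x⁻¹ ∈ K := hHK.le hh
      have hhK' : h ∈ K := by
        have : h = x⁻¹ * (x * h * x⁻¹) * x := by group
        rw [this]
        exact K.mul_mem (K.mul_mem (K.inv_mem hxK) hxh) hxK
      have hhK : π h ∈ Kb := Subgroup.mem_map_of_mem π hhK'
      have e : ((y * ⟨π h, hhK⟩ * y⁻¹ : Kb) : G ⧸ N) = π (x * h * x⁻¹) := by
        rw [map_mul, map_mul, map_inv, hxy]
        rfl
      have h1 := (hyN ⟨π h, hhK⟩).mpr (by
        rw [Subgroup.mem_subgroupOf, e]; exact (hmemH _).mp hh)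
      rw [Subgroup.mem_subgroupOf] at h1
      exact (hmemH h).mpr h1

/-- K5 -/
theorem subn_of_pquot [Finite G] {p : ℕ} [Fact p.Prime] (N K H : Subgroup G)
    (hN : N.Normal) (hK : K.Normal) (hNH : N ≤ H) (hHK : H ≤ K)
    (hp : ∀ k ∈ K, ∃ j : ℕ, k ^ p ^ j ∈ N) : Subn H := by
  have hKs : Subn K := by
    refine Subn.step K ⊤ Subn.top le_top ?_
    rw [Subgroup.normalizer_eq_top_iff.mpr hK]
  -- strong induction on the "codimension"
  suffices h : ∀ n : ℕ, ∀ H : Subgroup G, N ≤ H → H ≤ K → Nat.card K - Nat.card H = n → Subn H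
    from h _ H hNH hHK rfl
  intro n
  induction n using Nat.strong_induction_on with
  | _ n ih =>
    intro H hNH hHK hn
    rcases eq_or_lt_of_le hHK with heq | hlt
    · rw [heq]; exact hKs
    · obtain ⟨x, hxK, hxH, hxN⟩ := exists_normalizing N K H hN hNH hlt hp
      set H' : Subgroup G := K ⊓ Subgroup.normalizer (H : Set G) with hH'
      have hHH' : H ≤ H' := le_inf hHK Subgroup.le_normalizer
      have hlt' : H < H' := by
        refine lt_of_le_of_ne hHH' ?_
        intro h
        apply hxH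
        rw [h]
        exact ⟨hxK, hxN⟩
      have hcard : Nat.card H < Nat.card H' := by
        have h1 : Nat.card H ≤ Nat.card H' := Subgroup.card_le_of_le hHH'
        rcases Nat.lt_or_ge (Nat.card H) (Nat.card H') with h2 | h2
        · exact h2
        · exfalso
          exact (ne_of_lt hlt') (Subgroup.eq_of_le_of_card_ge hHH' h2)
      have hcard' : Nat.card H' ≤ Nat.card K := Subgroup.card_le_of_le inf_le_left
      have hsub : Subn H' :=
        ih (Nat.card K - Nat.card H') (by omega) H' (hNH.trans hHH') inf_le_left rfl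
      exact Subn.step H H' hsub hHH' inf_le_right

end Cfsg.Agent.Lib.Helper4.KInfK5
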