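import Cfsg.Agent.Lib.Helper6.KInfDefs

set_option autoImplicit false

namespace Cfsg.Agent.Lib.Helper4.KInfK6a

open Cfsg Cfsg.Agent.Lib.Helper7 Cfsg.Agent.Lib.Helper6.KInfDefs

universe u

variable {G : Type u} [Group G]

/-- conjugate of a subgroup -/
def cjs (k : G) (X : Subgroup G) : Subgroup G := X.map (MulAut.conj k).toMonoidHom

theorem mem_cjs (k x : G) (X : Subgroup G) : x ∈ cjs k X ↔ k⁻¹ * x * k ∈ X := by
  unfold cjs
  rw [Subgroup.mem_map_equiv, MulAut.conj_symm_apply]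

theorem cjs_mono (k : G) {X X' : Subgroup G} (h : X ≤ X') : cjs k X ≤ cjs k X' :=
  Subgroup.map_mono h

theorem cjs_cjs (k k' : G) (X : Subgroup G) : cjs k (cjs k' X) = cjs (k * k') X := by
  ext x
  rw [mem_cjs, mem_cjs, mem_cjs]
  have : k'⁻¹ * (k⁻¹ * x * k) * k' = (k * k')⁻¹ * x * (k * k') := by group
  rw [this]

theorem cjs_one (X : Subgroup G) : cjs 1 X = X := by
  ext x
  rw [mem_cjs]
  simp

theorem cjs_of_mem_normalizer {k : G} {X : Subgroup G}
    (hk : k ∈ Subgroup.normalizer (X : Set G)) : cjs k X = X := by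
  ext x
  rw [mem_cjs]
  have hk' : k⁻¹ ∈ Subgroup.normalizer (X : Set G) := Subgroup.inv_mem _ hk
  have := Subgroup.mem_normalizer_iff.mp hk' x
  rw [inv_inv] at this
  exact this.symm

theorem cjs_lt (k : G) {X X' : Subgroup G} (h : X < X') : cjs k X < cjs k X' := by
  refine lt_of_le_of_ne (cjs_mono k h.le) ?_
  intro he
  apply ne_of_lt h
  have := congrArg (cjs k⁻¹) he
  rwa [cjs_cjs, cjs_cjs, inv_mul_cancel, cjs_one, cjs_one] at this

/-- `H` normalizes `cjs k X₀` when `H` normalizes `X₀` and `k` normalizes `H` -/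
theorem le_normalizer_cjs {H X₀ : Subgroup G} {k : G}
    (hk : k⁻¹ ∈ Subgroup.normalizer (H : Set G))
    (hH : H ≤ Subgroup.normalizer (X₀ : Set G)) :
    H ≤ Subgroup.normalizer ((cjs k X₀ : Subgroup G) : Set G) := by
  intro h hh
  rw [Subgroup.mem_normalizer_iff]
  intro x
  rw [mem_cjs, mem_cjs]
  have hh' : k⁻¹ * h * k ∈ H := by
    have := (Subgroup.mem_normalizer_iff.mp hk h).mp hh
    rwa [inv_inv] at this
  have h1 := Subgroup.mem_normalizer_iff.mp (hH hh') (k⁻¹ * x * k)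
  have e : k⁻¹ * h * k * (k⁻¹ * x * k) * (k⁻¹ * h * k)⁻¹ = k⁻¹ * (h * x * h⁻¹) * k := by group
  rw [e] at h1
  exact h1

/-- membership in the normalizer from `cjs k J ≤ J` for all `k` in a subgroup -/
theorem le_normalizer_of_cjs_le {K J : Subgroup G} (h : ∀ k ∈ K, cjs k J ≤ J) :
    K ≤ Subgroup.normalizer (J : Set G) := by
  intro k hk
  rw [Subgroup.mem_normalizer_iff]
  intro x
  constructor
  · intro hx
    apply h k hk
    rw [mem_cjs]
    have : k⁻¹ * (k * x * k⁻¹) * k = x := by group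
    rwa [this]
  · intro hx
    have := h k⁻¹ (K.inv_mem hk) (by
      rw [mem_cjs]
      have e : k⁻¹⁻¹ * (k⁻¹ * (k * x * k⁻¹) * k⁻¹⁻¹) * k⁻¹ = k * x * k⁻¹ := by group
      rw [e]; exact hx : k⁻¹ * (k * x * k⁻¹) * k⁻¹⁻¹ ∈ cjs k⁻¹ J)
    have e : k⁻¹ * (k * x * k⁻¹) * k⁻¹⁻¹ = x := by group
    rwa [e] at this

/-- K6a -/
theorem le_sSup_minOver [Finite G] (X Y : Subgroup G) (hch : IsChiefFactor X Y)
    (H : Subgroup G) (hH : Subn H) :
    X ≤ sSup {X₀ : Subgroup G | X₀ ≤ X ∧ IsMinOver H X₀ Y} := by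
  obtain ⟨hYX, hXn, hYn, hchief⟩ := hch
  induction hH with
  | top =>
    apply le_sSup
    refine ⟨le_rfl, hYX, ?_, ?_⟩
    · rw [Subgroup.normalizer_eq_top_iff.mpr hXn]
    · intro X₁ hYX₁ hX₁X hX₁n
      have hn : X₁.Normal := Subgroup.normalizer_eq_top_iff.mp (top_le_iff.mp hX₁n)
      rcases hchief X₁ hn hYX₁.le hX₁X with h | h
      · exact absurd h (ne_of_gt hYX₁)
      · exact h
  | step H K hK hHK hKn ih =>
    refine ih.trans (sSup_le ?_)
    rintro X₁ ⟨hX₁X, hYX₁, hKX₁, hmin₁⟩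
    -- choose a minimal H-invariant X₀ with Y < X₀ ≤ X₁
    have hfin : {X₂ : Subgroup G | Y < X₂ ∧ X₂ ≤ X₁ ∧
        H ≤ Subgroup.normalizer (X₂ : Set G)}.Finite := Set.toFinite _
    have hne : {X₂ : Subgroup G | Y < X₂ ∧ X₂ ≤ X₁ ∧
        H ≤ Subgroup.normalizer (X₂ : Set G)}.Nonempty :=
      ⟨X₁, hYX₁, le_rfl, hHK.trans hKX₁⟩
    obtain ⟨X₀, ⟨hYX₀, hX₀X₁, hHX₀⟩, hX₀min⟩ := hfin.exists_minimal hne
    have hmin₀ : IsMinOver H X₀ Y := by
      refine ⟨hYX₀, hHX₀, ?_⟩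
      intro X₂ hYX₂ hX₂X₀ hHX₂
      exact le_antisymm hX₂X₀ (hX₀min ⟨hYX₂, hX₂X₀.trans hX₀X₁, hHX₂⟩ hX₂X₀)
    have hYcj : ∀ k : G, cjs k Y = Y := by
      intro k
      apply cjs_of_mem_normalizer
      rw [Subgroup.normalizer_eq_top_iff.mpr hYn]; trivial
    -- each K-conjugate of X₀ is H-minimal
    have hconj : ∀ k ∈ K, cjs k X₀ ≤ X ∧ IsMinOver H (cjs k X₀) Y := by
      intro k hk
      have hkinv : k⁻¹ ∈ Subgroup.normalizer (H : Set G) := hKn (K.inv_mem hk)
      have hkn : k ∈ Subgroup.normalizer (H : Set G) := hKn hk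
      refine ⟨?_, ?_, le_normalizer_cjs hkinv hHX₀, ?_⟩
      · have h1 : cjs k X₀ ≤ cjs k X₁ := cjs_mono k hX₀X₁
        rw [cjs_of_mem_normalizer (hKX₁ hk)] at h1
        exact h1.trans hX₁X
      · have := cjs_lt k hYX₀
        rwa [hYcj k] at this
      · intro X₂ hYX₂ hX₂ hHX₂
        have h1 : cjs k⁻¹ X₂ = X₀ := by
          apply hmin₀.2.2
          · have := cjs_lt k⁻¹ hYX₂
            rwa [hYcj] at this
          · have := cjs_mono k⁻¹ hX₂
            rwa [cjs_cjs, inv_mul_cancel, cjs_one] at this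
          · apply le_normalizer_cjs _ hHX₂
            rw [inv_inv]; exact hkn
        have := congrArg (cjs k) h1
        rwa [cjs_cjs, mul_inv_cancel, cjs_one] at this
    -- the join of the conjugates
    set J : Subgroup G := ⨆ k : K, cjs (k : G) X₀ with hJ
    have hJle : J ≤ X₁ := by
      apply iSup_le
      intro k
      have h1 : cjs (k : G) X₀ ≤ cjs (k : G) X₁ := cjs_mono _ hX₀X₁
      rwa [cjs_of_mem_normalizer (hKX₁ k.2)] at h1
    have hX₀J : X₀ ≤ J := by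
      have := le_iSup (fun k : K => cjs (k : G) X₀) (1 : K)
      simpa [cjs_one] using this
    have hJK : K ≤ Subgroup.normalizer (J : Set G) := by
      apply le_normalizer_of_cjs_le
      intro k hk
      have : cjs k J = ⨆ k' : K, cjs k (cjs (k' : G) X₀) := by
        unfold cjs
        rw [hJ]
        unfold cjs
        exact Subgroup.map_iSup _ _
      rw [this]
      apply iSup_le
      intro k'
      rw [cjs_cjs]
      exact le_iSup (fun k'' : K => cjs (k'' : G) X₀) ⟨k * k', K.mul_mem hk k'.2⟩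
    have hJeq : J = X₁ := hmin₁ J (lt_of_lt_of_le hYX₀ hX₀J) hJle hJK
    rw [← hJeq]
    apply iSup_le
    intro k
    exact le_sSup (hconj k k.2)

end Cfsg.Agent.Lib.Helper4.KInfK6a
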