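import Cfsg.Agent.Lib.Helper6.KInfDefs
import Cfsg.Agent.Lib.Helper4.KInfK6a

set_option autoImplicit false

namespace Cfsg.Agent.Lib.Helper4.KInfK6b

open Cfsg Cfsg.Agent.Lib.Helper7 Cfsg.Agent.Lib.Helper6.KInfDefs Cfsg.Agent.Lib.Helper4.KInfK6a

open scoped commutatorElement

universe u

variable {G : Type u} [Group G]

theorem comm_mem_of_normal {Q : Type u} [Group Q] (A : Subgroup Q) [hA : A.Normal]
    {v : Q} (hv : v ∈ A) (b : Q) : ⁅v, b⁆ ∈ A := by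
  rw [commutatorElement_def]
  have h1 : b * v⁻¹ * b⁻¹ ∈ A := hA.conj_mem _ (A.inv_mem hv) b
  have h2 := A.mul_mem hv h1
  have e : v * b * v⁻¹ * b⁻¹ = v * (b * v⁻¹ * b⁻¹) := by group
  rw [e]
  exact h2

theorem comm_mul_of_abelian_normal {Q : Type u} [Group Q] (A : Subgroup Q) [hA : A.Normal]
    (hab : ∀ u ∈ A, ∀ v ∈ A, u * v = v * u) {u v : Q} (hu : u ∈ A) (hv : v ∈ A) (b : Q) :
    ⁅u * v, b⁆ = ⁅u, b⁆ * ⁅v, b⁆ := by
  have hvb : ⁅v, b⁆ ∈ A := comm_mem_of_normal A hv b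
  have hub : ⁅u, b⁆ ∈ A := comm_mem_of_normal A hu b
  have h1 : ⁅u * v, b⁆ = u * ⁅v, b⁆ * u⁻¹ * ⁅u, b⁆ := by
    simp only [commutatorElement_def]
    group
  rw [h1, hab u hu _ hvb, mul_inv_cancel_right, hab _ hvb _ hub]

/-- elements of `A` whose commutators with `Bb` centralize `Bb` -/
def cSub {Q : Type u} [Group Q] (A : Subgroup Q) [hA : A.Normal]
    (hab : ∀ u ∈ A, ∀ v ∈ A, u * v = v * u) (Bb : Subgroup Q) : Subgroup Q where
  carrier := {u | u ∈ A ∧ ∀ b ∈ Bb, ⁅u, b⁆ ∈ Subgroup.centralizer (Bb : Set Q)}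
  one_mem' := ⟨A.one_mem, fun b _ => by
    rw [commutatorElement_one_left]; exact Subgroup.one_mem _⟩
  mul_mem' := by
    rintro u v ⟨hu, hu'⟩ ⟨hv, hv'⟩
    refine ⟨A.mul_mem hu hv, fun b hb => ?_⟩
    rw [comm_mul_of_abelian_normal A hab hu hv b]
    exact Subgroup.mul_mem _ (hu' b hb) (hv' b hb)
  inv_mem' := by
    rintro u ⟨hu, hu'⟩
    refine ⟨A.inv_mem hu, fun b hb => ?_⟩
    have h := comm_mul_of_abelian_normal A hab hu (A.inv_mem hu) b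
    rw [mul_inv_cancel, commutatorElement_one_left] at h
    have e : ⁅u⁻¹, b⁆ = ⁅u, b⁆⁻¹ := eq_inv_of_mul_eq_one_right h.symm
    rw [e]
    exact Subgroup.inv_mem _ (hu' b hb)

theorem mem_cSub {Q : Type u} [Group Q] (A : Subgroup Q) [hA : A.Normal]
    (hab : ∀ u ∈ A, ∀ v ∈ A, u * v = v * u) (Bb : Subgroup Q) (u : Q) :
    u ∈ cSub A hab Bb ↔ u ∈ A ∧ ∀ b ∈ Bb, ⁅u, b⁆ ∈ Subgroup.centralizer (Bb : Set Q) :=
  Iff.rfl

theorem comm_mem_of_normalizer {X₀ : Subgroup G} {x b : G} (hx : x ∈ X₀)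
    (hb : b ∈ Subgroup.normalizer (X₀ : Set G)) : ⁅x, b⁆ ∈ X₀ := by
  rw [commutatorElement_def]
  have h1 : b * x⁻¹ * b⁻¹ ∈ X₀ := (Subgroup.mem_normalizer_iff.mp hb x⁻¹).mp (X₀.inv_mem hx)
  have h2 := X₀.mul_mem hx h1
  have e : x * b * x⁻¹ * b⁻¹ = x * (b * x⁻¹ * b⁻¹) := by group
  rw [e]
  exact h2

theorem quad_of_subn [Finite G] (X Y : Subgroup G) (hch : IsChiefFactor X Y)
    (hab : ⁅X, X⁆ ≤ Y) (H : Subgroup G) (hH : Subn H) (B R : Subgroup G) (hBH : B ≤ H)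
    (hRX : R ≤ X) (hHR : H ≤ Subgroup.normalizer ((R : Subgroup G) : Set G))
    (hR : ⁅⁅R, B⁆, B⁆ ≤ Y) (hX : ⁅⁅X, B⁆, B⁆ ≤ R ⊔ Y) : ⁅⁅X, B⁆, B⁆ ≤ Y := by
  have hsup := le_sSup_minOver X Y hch H hH
  obtain ⟨hYX, hXn, hYn, hchief⟩ := hch
  haveI := hXn
  haveI := hYn
  -- key claim: elementwise on each `X₀`
  have key : ∀ X₀ : Subgroup G, X₀ ≤ X → IsMinOver H X₀ Y →
      ∀ x ∈ X₀, ∀ b ∈ B, ∀ c ∈ B, ⁅⁅x, b⁆, c⁆ ∈ Y := by
    intro X₀ hX₀X hmin x hx b hb c hc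
    obtain ⟨hYX₀, hHX₀, hminimal⟩ := hmin
    have hnorm : H ≤ Subgroup.normalizer ((X₀ ⊓ (R ⊔ Y) : Subgroup G) : Set G) := by
      apply le_normalizer_of_cjs_le
      intro k hk
      have h1 : cjs k X₀ = X₀ := cjs_of_mem_normalizer (hHX₀ hk)
      have h2 : cjs k R = R := cjs_of_mem_normalizer (hHR hk)
      have h3 : cjs k Y = Y := cjs_of_mem_normalizer (by
        rw [Subgroup.normalizer_eq_top_iff.mpr hYn]; trivial)
      have h4 : cjs k (R ⊔ Y) = R ⊔ Y := by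
        unfold cjs at *
        rw [Subgroup.map_sup, h2, h3]
      refine le_inf ?_ ?_
      · calc cjs k (X₀ ⊓ (R ⊔ Y)) ≤ cjs k X₀ := cjs_mono k inf_le_left
          _ = X₀ := h1
      · calc cjs k (X₀ ⊓ (R ⊔ Y)) ≤ cjs k (R ⊔ Y) := cjs_mono k inf_le_right
          _ = R ⊔ Y := h4
    have hYle : Y ≤ X₀ ⊓ (R ⊔ Y) := le_inf hYX₀.le le_sup_right
    rcases eq_or_lt_of_le hYle with heq | hlt
    · -- the intersection is `Y`
      have hbN : b ∈ Subgroup.normalizer (X₀ : Set G) := hHX₀ (hBH hb)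
      have hcN : c ∈ Subgroup.normalizer (X₀ : Set G) := hHX₀ (hBH hc)
      have h1 : ⁅x, b⁆ ∈ X₀ := comm_mem_of_normalizer hx hbN
      have h2 : ⁅⁅x, b⁆, c⁆ ∈ X₀ := comm_mem_of_normalizer h1 hcN
      have h3 : ⁅⁅x, b⁆, c⁆ ∈ R ⊔ Y :=
        hX (Subgroup.commutator_mem_commutator
          (Subgroup.commutator_mem_commutator (hX₀X hx) hb) hc)
      have h4 : ⁅⁅x, b⁆, c⁆ ∈ X₀ ⊓ (R ⊔ Y) := ⟨h2, h3⟩
      rw [← heq] at h4
      exact h4
    · -- `X₀ ≤ R ⊔ Y`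
      have hX₀le : X₀ ≤ R ⊔ Y := by
        have h5 := hminimal _ hlt inf_le_left hnorm
        rw [← h5]
        exact inf_le_right
      have hxRY := hX₀le hx
      obtain ⟨r, hr, y, hy, rfl⟩ := Subgroup.mem_sup_of_normal_right.mp hxRY
      rw [← QuotientGroup.eq_one_iff]
      have hy1 : ((y : G) : G ⧸ Y) = 1 := (QuotientGroup.eq_one_iff y).mpr hy
      have hr1 : ((⁅⁅r, b⁆, c⁆ : G) : G ⧸ Y) = 1 :=
        (QuotientGroup.eq_one_iff _).mpr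
          (hR (Subgroup.commutator_mem_commutator
            (Subgroup.commutator_mem_commutator hr hb) hc))
      simp only [commutatorElement_def, QuotientGroup.mk_mul, QuotientGroup.mk_inv, hy1,
        mul_one] at hr1 ⊢
      exact hr1
  -- pass to the quotient
  let π : G →* G ⧸ Y := QuotientGroup.mk' Y
  have hπ : ∀ z : G, π z = 1 ↔ z ∈ Y := fun z => QuotientGroup.eq_one_iff z
  let A : Subgroup (G ⧸ Y) := X.map π
  haveI hAn : A.Normal := Subgroup.Normal.map hXn π (QuotientGroup.mk'_surjective Y)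
  have habA : ∀ u ∈ A, ∀ v ∈ A, u * v = v * u := by
    rintro u ⟨x, hx, rfl⟩ v ⟨x', hx', rfl⟩
    rw [← commutatorElement_eq_one_iff_mul_comm, ← map_commutatorElement, hπ]
    exact hab (Subgroup.commutator_mem_commutator hx hx')
  let Bb : Subgroup (G ⧸ Y) := B.map π
  have hXC : X ≤ (cSub A habA Bb).comap π := by
    refine hsup.trans (sSup_le ?_)
    rintro X₀ ⟨hX₀X, hmin⟩ x hx
    rw [Subgroup.mem_comap, mem_cSub]
    refine ⟨Subgroup.mem_map_of_mem π (hX₀X hx), ?_⟩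
    rintro _ ⟨b, hb, rfl⟩
    rw [Subgroup.mem_centralizer_iff]
    rintro _ ⟨c, hc, rfl⟩
    have h1 := key X₀ hX₀X hmin x hx b hb c hc
    rw [← hπ, map_commutatorElement, map_commutatorElement,
      commutatorElement_eq_one_iff_mul_comm] at h1
    exact h1.symm
  have hAB : ⁅A, Bb⁆ ≤ Subgroup.centralizer (Bb : Set (G ⧸ Y)) := by
    rw [Subgroup.commutator_le]
    rintro _ ⟨x, hx, rfl⟩ b hb
    have h1 := hXC hx
    rw [Subgroup.mem_comap, mem_cSub] at h1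
    exact h1.2 b hb
  have hbot : ⁅⁅A, Bb⁆, Bb⁆ = ⊥ := Subgroup.commutator_eq_bot_iff_le_centralizer.mpr hAB
  have hmap : (⁅⁅X, B⁆, B⁆).map π = ⊥ := by
    rw [Subgroup.map_commutator, Subgroup.map_commutator]
    exact hbot
  have hker := (Subgroup.map_eq_bot_iff _).mp hmap
  rw [QuotientGroup.ker_mk'] at hker
  exact hker

end Cfsg.Agent.Lib.Helper4.KInfK6b
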