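import Cfsg.Agent.Lib.Helper6.KInfDefs
import Cfsg.Agent.Lib.Helper1.PCore
import Cfsg.Agent.Lib.Helper1.CoverAvoid

set_option autoImplicit false

namespace Cfsg.Agent.Lib.Helper4.KInfK9a

open Cfsg Cfsg.Agent.Lib.Helper7 Cfsg.Agent.Lib.Helper6.KInfDefs

open scoped commutatorElement

universe u

variable {G : Type u} [Group G]

/-- points of `P` fixed by the automorphisms coming from `W` -/
def fixSub {X : Type u} [Group X] {Q : Type u} [Group Q] (P : Subgroup Q) (W : Subgroup X)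
    (Ψ : X →* MulAut ↥P) : Subgroup ↥P where
  carrier := {u | ∀ w ∈ W, Ψ w u = u}
  one_mem' := fun w _ => map_one _
  mul_mem' := fun {a b} ha hb w hw => by
    rw [map_mul, ha w hw, hb w hw]
  inv_mem' := fun {a} ha w hw => by
    rw [map_inv, ha w hw]

theorem mem_fixSub {X : Type u} [Group X] {Q : Type u} [Group Q] (P : Subgroup Q)
    (W : Subgroup X) (Ψ : X →* MulAut ↥P) (u : ↥P) :
    u ∈ fixSub P W Ψ ↔ ∀ w ∈ W, Ψ w u = u := Iff.rfl

theorem core_lemma {Q : Type u} [Group Q] [Finite Q] {p : ℕ} [Fact p.Prime] (P : Subgroup Q)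
    [hPn : P.Normal] (hP : IsPGroup p P) (hP1 : P ≠ ⊥)
    (hmin : ∀ M : Subgroup Q, M.Normal → M ≤ P → M = ⊥ ∨ M = P)
    (g : Q) (hg : g ∈ Subgroup.normalizer (P : Set Q))
    (hW : (QuotientGroup.mk
        (s := (Subgroup.centralizer (P : Set Q)).subgroupOf (Subgroup.normalizer (P : Set Q)))
        (⟨g, hg⟩ : ↥(Subgroup.normalizer (P : Set Q)))) ∈
      pCore p (↥(Subgroup.normalizer (P : Set Q)) ⧸
        (Subgroup.centralizer (P : Set Q)).subgroupOf (Subgroup.normalizer (P : Set Q)))) :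
    g ∈ Subgroup.centralizer (P : Set Q) := by
  have hker : (Subgroup.centralizer (P : Set Q)).subgroupOf (Subgroup.normalizer (P : Set Q)) ≤
      P.normalizerMonoidHom.ker := by
    rw [Subgroup.normalizerMonoidHom_ker]
  let Ψ : (↥(Subgroup.normalizer (P : Set Q)) ⧸
        (Subgroup.centralizer (P : Set Q)).subgroupOf (Subgroup.normalizer (P : Set Q))) →*
      MulAut ↥P := QuotientGroup.lift _ P.normalizerMonoidHom hker
  have hΨ : ∀ (n : ↥(Subgroup.normalizer (P : Set Q))) (u : ↥P),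
      ((Ψ (QuotientGroup.mk n) u : ↥P) : Q) = (n : Q) * (u : Q) * (n : Q)⁻¹ := by
    intro n u
    rfl
  set W := pCore p (↥(Subgroup.normalizer (P : Set Q)) ⧸
        (Subgroup.centralizer (P : Set Q)).subgroupOf (Subgroup.normalizer (P : Set Q))) with hWdef
  have hWn : W.Normal := Cfsg.pCore_normal p _
  have hWp : IsPGroup p W := Cfsg.Agent.Lib.Helper1.pCore_isPGroup p
  -- the action of `W` on `P`
  letI act : MulAction ↥W ↥P := MulAction.compHom ↥P (Ψ.comp W.subtype)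
  have hsmul : ∀ (w : ↥W) (u : ↥P), w • u = Ψ (w : _) u := fun _ _ => rfl
  have hdvd : p ∣ Nat.card ↥P := by
    rcases hP.card_eq_or_dvd with h | h
    · exact absurd (Subgroup.card_eq_one.mp h) hP1
    · exact h
  have h1fix : (1 : ↥P) ∈ MulAction.fixedPoints ↥W ↥P := by
    intro w
    rw [hsmul, map_one]
  obtain ⟨b, hbfix, hb1⟩ := hWp.exists_fixed_point_of_prime_dvd_card_of_fixed_point ↥P hdvd h1fix
  have hbF : b ∈ fixSub P W Ψ := by
    rw [mem_fixSub]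
    intro w hw
    have := hbfix ⟨w, hw⟩
    rw [hsmul] at this
    exact this
  let F : Subgroup Q := (fixSub P W Ψ).map P.subtype
  have hFP : F ≤ P := Subgroup.map_subtype_le _
  have hFn : F.Normal := by
    constructor
    intro u hu q
    obtain ⟨u₀, hu₀, rfl⟩ := hu
    have hq : q ∈ Subgroup.normalizer (P : Set Q) := by
      rw [Subgroup.normalizer_eq_top_iff.mpr hPn]; trivial
    refine ⟨Ψ (QuotientGroup.mk ⟨q, hq⟩) u₀, ?_, ?_⟩
    · rw [SetLike.mem_coe, mem_fixSub]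
      intro w hw
      have hconj : (QuotientGroup.mk ⟨q, hq⟩)⁻¹ * w * (QuotientGroup.mk ⟨q, hq⟩) ∈ W := by
        have := hWn.conj_mem w hw (QuotientGroup.mk ⟨q, hq⟩)⁻¹
        rw [inv_inv] at this
        exact this
      have h2 := (mem_fixSub P W Ψ u₀).mp hu₀ _ hconj
      have h3 : w * (QuotientGroup.mk ⟨q, hq⟩) =
          (QuotientGroup.mk ⟨q, hq⟩) * ((QuotientGroup.mk ⟨q, hq⟩)⁻¹ * w *
            (QuotientGroup.mk ⟨q, hq⟩)) := by group
      calc Ψ w (Ψ (QuotientGroup.mk ⟨q, hq⟩) u₀)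
          = (Ψ (w * (QuotientGroup.mk ⟨q, hq⟩))) u₀ := by rw [map_mul]; rfl
        _ = (Ψ ((QuotientGroup.mk ⟨q, hq⟩) * ((QuotientGroup.mk ⟨q, hq⟩)⁻¹ * w *
            (QuotientGroup.mk ⟨q, hq⟩)))) u₀ := by rw [← h3]
        _ = Ψ (QuotientGroup.mk ⟨q, hq⟩) (Ψ ((QuotientGroup.mk ⟨q, hq⟩)⁻¹ * w *
            (QuotientGroup.mk ⟨q, hq⟩)) u₀) := by rw [map_mul]; rfl
        _ = Ψ (QuotientGroup.mk ⟨q, hq⟩) u₀ := by rw [h2]
    · exact hΨ ⟨q, hq⟩ u₀
  have hF1 : F ≠ ⊥ := by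
    intro h
    have hbF' : (b : Q) ∈ F := ⟨b, hbF, rfl⟩
    rw [h, Subgroup.mem_bot] at hbF'
    apply hb1
    apply Subtype.ext
    rw [hbF']
    rfl
  have hFeq : F = P := by
    rcases hmin F hFn hFP with h | h
    · exact absurd h hF1
    · exact h
  rw [Subgroup.mem_centralizer_iff]
  intro u hu
  have huF : u ∈ F := by rw [hFeq]; exact hu
  obtain ⟨u₀, hu₀, hu₀e⟩ := huF
  have h4 := (mem_fixSub P W Ψ u₀).mp hu₀ _ hW
  have h5 := hΨ ⟨g, hg⟩ u₀
  rw [h4] at h5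
  have h6 : (u₀ : Q) = u := hu₀e
  rw [h6] at h5
  -- h5 : u = g * u * g⁻¹
  calc u * g = g * u * g⁻¹ * g := by rw [← h5]
    _ = g * u := by group

theorem not_pstable_of_chief [Finite G] {p : ℕ} [Fact p.Prime] (U V : Subgroup G)
    (hch : IsChiefFactor U V) (hU : U ≤ pCore p G) (g : G)
    (hq : ⁅⁅U, Subgroup.zpowers g⁆, Subgroup.zpowers g⁆ ≤ V)
    (hn : ¬ ⁅U, Subgroup.zpowers g⁆ ≤ V) :
    ∃ (N : Subgroup G) (_ : N.Normal), ¬ IsNormalizerPStable p (G ⧸ N) := by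
  obtain ⟨hVU, hUn, hVn, hmin⟩ := hch
  haveI := hVn
  refine ⟨V, hVn, fun hstab => hn ?_⟩
  let π : G →* G ⧸ V := QuotientGroup.mk' V
  have hπ : ∀ z : G, π z = 1 ↔ z ∈ V := fun z => QuotientGroup.eq_one_iff z
  obtain ⟨hP1, hPmin⟩ := Cfsg.Agent.Lib.Helper1.chief_map_minimal V U hVU hmin
  haveI hPn : (U.map π).Normal := Subgroup.Normal.map hUn π (QuotientGroup.mk'_surjective V)
  have hPp : IsPGroup p (U.map π) :=
    ((Cfsg.Agent.Lib.Helper1.pCore_isPGroup p).to_le hU).map π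
  have hg : π g ∈ Subgroup.normalizer ((U.map π : Subgroup (G ⧸ V)) : Set (G ⧸ V)) := by
    rw [Subgroup.normalizer_eq_top_iff.mpr hPn]; trivial
  have hquad : ⁅⁅U.map π, Subgroup.zpowers (π g)⁆, Subgroup.zpowers (π g)⁆ = ⊥ := by
    rw [← MonoidHom.map_zpowers, ← Subgroup.map_commutator, ← Subgroup.map_commutator,
      Subgroup.map_eq_bot_iff, QuotientGroup.ker_mk']
    exact hq
  have hW := hstab (U.map π) hPp (π g) hg hquad
  have hcen := core_lemma (U.map π) hPp hP1 hPmin (π g) hg hW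
  rw [Subgroup.commutator_le]
  intro u hu z hz
  rw [← hπ, map_commutatorElement, commutatorElement_eq_one_iff_mul_comm]
  obtain ⟨k, rfl⟩ := Subgroup.mem_zpowers_iff.mp hz
  rw [map_zpow]
  have hk : (π g) ^ k ∈ Subgroup.centralizer ((U.map π : Subgroup (G ⧸ V)) : Set (G ⧸ V)) :=
    Subgroup.zpow_mem _ hcen k
  exact (Subgroup.mem_centralizer_iff.mp hk (π u) (Subgroup.mem_map_of_mem π hu))

end Cfsg.Agent.Lib.Helper4.KInfK9a
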