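import Mathlib
import Cfsg.Prelude.Def_SporCoxeter

/-! The group L2(16) of order 4080 presented on an element `x` of order 17 and an involution `y` with `xy` of order 15 (generated). -/

namespace Cfsg.Agent.Lib.Helper4

namespace L216p

/-- the generators -/
inductive Gen
  | x
  | y
  deriving DecidableEq

abbrev x : FreeGroup Gen := FreeGroup.of Gen.x
abbrev y : FreeGroup Gen := FreeGroup.of Gen.y

/-- no Coxeter graph -/
def edges : List (Gen × ℕ × Gen) := []

/-- the relators -/
def extra : List (FreeGroup Gen) := [
  x ^ 17,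
  y ^ 2,
  (x * x * x * y * x⁻¹ * y * x * y) ^ 2,
  ((x ^ 5) * y) ^ 3 ]

end L216p

end Cfsg.Agent.Lib.Helper4
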