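import Mathlib
import Cfsg.Prelude.Def_SporCoxeter

/-! The group L2(25) of order 7800 presented on an involution `a` and an element `b` of order 3 with `ab` of order 13 (generated). -/

namespace Cfsg.Agent.Lib.Helper4

namespace L225p

/-- the generators -/
inductive Gen
  | a
  | b
  deriving DecidableEq

abbrev a : FreeGroup Gen := FreeGroup.of Gen.a
abbrev b : FreeGroup Gen := FreeGroup.of Gen.b

/-- no Coxeter graph -/
def edges : List (Gen × ℕ × Gen) := []

/-- the relators -/
def extra : List (FreeGroup Gen) := [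
  a ^ 2,
  b ^ 3,
  (a * b) ^ 13,
  (((a * b) ^ 3) * a * b⁻¹ * ((a * b) ^ 2) * ((a * b⁻¹) ^ 2)) ^ 2 ]

end L225p

end Cfsg.Agent.Lib.Helper4
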