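import Mathlib
import Cfsg.Agent.Lib.Helper4.MatWord
import Cfsg.Agent.Lib.Helper4.TC20
import Cfsg.Agent.Lib.Helper4.L28pMain
import Cfsg.Agent.Lib.Helper4.RepLib
import Cfsg.Agent.Lib.Helper4.SLCard

/-!
The presented group `L28p` of order 504 is isomorphic to `PSL₂(8)`: explicit matrices over a concrete field with
eight elements satisfy the relators.
-/

namespace Cfsg.Agent.Lib.Helper4.L28F8

open Matrix Cfsg.Agent.Lib.Helper4.TC Cfsg.Agent.Lib.Helper4.TC.Log Cfsg.Agent.Lib.Helper4.MatWord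

/-- the field with eight elements: `c0 + c1 * ω + c2 * ω²` with `ω³ = ω + 1` -/
@[ext] structure F8c where
  c0 : ZMod 2
  c1 : ZMod 2
  c2 : ZMod 2
deriving DecidableEq, Fintype

namespace F8c

instance : Zero F8c := ⟨⟨0, 0, 0⟩⟩
instance : One F8c := ⟨⟨1, 0, 0⟩⟩
instance : Add F8c := ⟨fun a b => ⟨a.c0 + b.c0, a.c1 + b.c1, a.c2 + b.c2⟩⟩
instance : Neg F8c := ⟨fun a => a⟩
instance : Mul F8c := ⟨fun a b =>
  ⟨a.c0 * b.c0 + (a.c1 * b.c2 + a.c2 * b.c1),
   a.c0 * b.c1 + a.c1 * b.c0 + (a.c1 * b.c2 + a.c2 * b.c1) + a.c2 * b.c2,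
   a.c0 * b.c2 + a.c1 * b.c1 + a.c2 * b.c0 + a.c2 * b.c2⟩⟩

set_option maxRecDepth 100000 in
instance : CommRing F8c where
  add_assoc := by decide +kernel
  zero_add := by decide +kernel
  add_zero := by decide +kernel
  nsmul := nsmulRec
  zsmul := zsmulRec
  neg_add_cancel := by decide +kernel
  add_comm := by decide +kernel
  left_distrib := by decide +kernel
  right_distrib := by decide +kernel
  zero_mul := by decide +kernel
  mul_zero := by decide +kernel
  mul_assoc := by decide +kernel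
  one_mul := by decide +kernel
  mul_one := by decide +kernel
  mul_comm := by decide +kernel

@[simp] theorem zero_c0 : (0 : F8c).c0 = 0 := rfl
@[simp] theorem zero_c1 : (0 : F8c).c1 = 0 := rfl
@[simp] theorem zero_c2 : (0 : F8c).c2 = 0 := rfl
@[simp] theorem one_c0 : (1 : F8c).c0 = 1 := rfl
@[simp] theorem one_c1 : (1 : F8c).c1 = 0 := rfl
@[simp] theorem one_c2 : (1 : F8c).c2 = 0 := rfl
@[simp] theorem add_c0 (a b : F8c) : (a + b).c0 = a.c0 + b.c0 := rfl
@[simp] theorem add_c1 (a b : F8c) : (a + b).c1 = a.c1 + b.c1 := rfl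
@[simp] theorem add_c2 (a b : F8c) : (a + b).c2 = a.c2 + b.c2 := rfl
@[simp] theorem mul_c0 (a b : F8c) : (a * b).c0 = a.c0 * b.c0 + (a.c1 * b.c2 + a.c2 * b.c1) := rfl
@[simp] theorem mul_c1 (a b : F8c) :
    (a * b).c1 = a.c0 * b.c1 + a.c1 * b.c0 + (a.c1 * b.c2 + a.c2 * b.c1) + a.c2 * b.c2 := rfl
@[simp] theorem mul_c2 (a b : F8c) :
    (a * b).c2 = a.c0 * b.c2 + a.c1 * b.c1 + a.c2 * b.c0 + a.c2 * b.c2 := rfl

/-- the homomorphism to a field of characteristic two with a root of `X³ + X + 1` -/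
noncomputable def toF {F : Type*} [Field F] [CharP F 2] (ω : F) (hω : ω ^ 3 = ω + 1) : F8c →+* F where
  toFun x := ZMod.castHom (dvd_refl 2) F x.c0 + ZMod.castHom (dvd_refl 2) F x.c1 * ω +
    ZMod.castHom (dvd_refl 2) F x.c2 * ω ^ 2
  map_one' := by simp
  map_zero' := by simp
  map_add' := by
    intro a b
    simp only [add_c0, add_c1, add_c2, map_add]
    ring
  map_mul' := by
    intro a b
    simp only [mul_c0, mul_c1, mul_c2, map_add, map_mul]
    linear_combination (-(ZMod.castHom (dvd_refl 2) F a.c1 * ZMod.castHom (dvd_refl 2) F b.c2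
      + ZMod.castHom (dvd_refl 2) F a.c2 * ZMod.castHom (dvd_refl 2) F b.c1)
      - ZMod.castHom (dvd_refl 2) F a.c2 * ZMod.castHom (dvd_refl 2) F b.c2 * ω) * hω

end F8c

open F8c

/-- the element with the given binary digits -/
def el (v : ℕ) : F8c := ⟨(v % 2 : ℕ), (v / 2 % 2 : ℕ), (v / 4 % 2 : ℕ)⟩

/-- the images of the letters -/
def Ac : Matrix (Fin 2) (Fin 2) F8c := !![el 0, el 1; el 1, el 0]
def Bc : Matrix (Fin 2) (Fin 2) F8c := !![el 0, el 2; el 5, el 1]
def Bci : Matrix (Fin 2) (Fin 2) F8c := !![el 1, el 2; el 5, el 0]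

/-- the matrices of the letters -/
def Mc : ℕ → Matrix (Fin 2) (Fin 2) F8c
  | 0 => Ac
  | 1 => Ac
  | 2 => Bc
  | 3 => Bci
  | _ => 1

set_option maxRecDepth 100000 in
theorem c_det : ∀ l, l < 4 → (Mc l) 0 0 * (Mc l) 1 1 - (Mc l) 0 1 * (Mc l) 1 0 = 1 := by decide +kernel

set_option maxRecDepth 100000 in
theorem c_rel : ∀ L ∈ PL28p.P.real ++ [[0, 1], [1, 0], [2, 3], [3, 2]], (L.map Mc).prod = 1 := by
  decide +kernel

set_option maxRecDepth 100000 in
theorem c_ne : Mc 0 ≠ 1 := by decide +kernel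

section Field

variable {F : Type*} [Field F] [Fintype F]

theorem charP_two (hF : Fintype.card F = 8) : CharP F 2 := by
  obtain ⟨p, hp⟩ := CharP.exists F
  obtain ⟨n, hpr, hc⟩ := FiniteField.card F p
  rw [hF] at hc
  have h2 : p ∣ 2 ^ 3 := by
    rw [show (2 : ℕ) ^ 3 = 8 from rfl, hc]
    exact dvd_pow_self p n.ne_zero
  have : p = 2 := (Nat.prime_dvd_prime_iff_eq hpr Nat.prime_two).1 (hpr.dvd_of_dvd_pow h2)
  subst this
  exact hp

theorem exists_omega (hF : Fintype.card F = 8) : ∃ ω : F, ω ^ 3 = ω + 1 := by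
  classical
  have := charP_two hF
  have h2 : (2 : F) = 0 := CharP.ofNat_eq_zero F 2
  have hex : ∃ x : F, x ≠ 0 ∧ x ≠ 1 := by
    by_contra hcon
    push Not at hcon
    have hsub : (Finset.univ : Finset F) ⊆ {0, 1} := by
      intro x _
      by_cases hx : x = 0
      · simp [hx]
      · simp [hcon x hx]
    have := Finset.card_le_card hsub
    rw [Finset.card_univ, hF] at this
    have h2 : ({0, 1} : Finset F).card ≤ 2 := Finset.card_le_two
    omega
  obtain ⟨x, h0, h1⟩ := hex
  have h7 : x ^ 7 = 1 := by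
    have := FiniteField.pow_card_sub_one_eq_one x h0
    rwa [hF] at this
  have h4 : (x - 1) * ((x ^ 3 + x + 1) * (x ^ 3 + x ^ 2 + 1)) = 0 := by
    linear_combination h7 + (x ^ 4 - x ^ 3) * h2
  rcases mul_eq_zero.1 h4 with h | h
  · exact absurd (sub_eq_zero.1 h) h1
  · rcases mul_eq_zero.1 h with h | h
    · exact ⟨x, by linear_combination h - (x + 1) * h2⟩
    · exact ⟨x + 1, by linear_combination h + (x ^ 2 + x - 1) * h2⟩

end Field

section Hom

set_option linter.unusedSectionVars false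
set_option linter.style.haveILetI false

variable {F : Type*} [Field F] [Fintype F]

/-- the matrix of determinant one that is the image of an explicit matrix -/
noncomputable def mkSL (φ : F8c →+* F) (M : Matrix (Fin 2) (Fin 2) F8c)
    (hd : M 0 0 * M 1 1 - M 0 1 * M 1 0 = 1) : Matrix.SpecialLinearGroup (Fin 2) F :=
  ⟨M.map φ, by
    have h := RingHom.map_det φ M
    rw [RingHom.mapMatrix_apply] at h
    rw [← h, Matrix.det_fin_two, hd, map_one]⟩

/-- the images of the letters in the special linear group -/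
noncomputable def gS (φ : F8c →+* F) (l : ℕ) : Matrix.SpecialLinearGroup (Fin 2) F :=
  if h : l < 4 then mkSL φ (Mc l) (c_det l h) else 1

theorem coe_gS (φ : F8c →+* F) (l : ℕ) :
    ((gS φ l : Matrix.SpecialLinearGroup (Fin 2) F) : Matrix (Fin 2) (Fin 2) F) = (Mc l).map φ := by
  unfold gS
  split_ifs with h
  · rfl
  · have : Mc l = 1 := by
      match l, h with
      | 0, h => exact absurd (by norm_num) h
      | 1, h => exact absurd (by norm_num) h
      | 2, h => exact absurd (by norm_num) h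
      | 3, h => exact absurd (by norm_num) h
      | (n + 4), _ => rfl
    rw [this]
    exact ((φ.mapMatrix (m := Fin 2)).map_one).symm

theorem coe_wordP (φ : F8c →+* F) (L : List ℕ) :
    ((wordP (gS φ) L : Matrix.SpecialLinearGroup (Fin 2) F) : Matrix (Fin 2) (Fin 2) F) =
      ((L.map Mc).prod).map φ := by
  induction L with
  | nil => exact ((φ.mapMatrix (m := Fin 2)).map_one).symm
  | cons x L ih =>
    rw [wordP_cons, List.map_cons, List.prod_cons, Matrix.map_mul, ← ih, ← coe_gS]
    rfl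

theorem wordP_gS (φ : F8c →+* F) (L : List ℕ) (h : (L.map Mc).prod = 1) : wordP (gS φ) L = 1 := by
  apply Subtype.ext
  rw [coe_wordP, h]
  exact (φ.mapMatrix (m := Fin 2)).map_one

theorem exists_hom (φ : F8c →+* F) :
    ∃ ψ : PL28p.P.Grp →* Matrix.SpecialLinearGroup (Fin 2) F, ∀ l, l < 4 → ψ (PL28p.P.gR l) = gS φ l := by
  apply exists_hom_of_letters PL28p.P PL28p.valid (gS φ)
  · intro l hl
    have hl : l < 4 := hl
    have h := wordP_gS φ [l, PL28p.P.invR l]
    rw [wordP_cons, wordP_cons, wordP_nil, mul_one] at h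
    apply h
    interval_cases l
    · exact c_rel [0, 1] (by simp)
    · exact c_rel [1, 0] (by simp)
    · exact c_rel [2, 3] (by simp)
    · exact c_rel [3, 2] (by simp)
  · intro L hL
    exact wordP_gS φ L (c_rel L (List.mem_append_left _ hL))

theorem card_SL (hF : Fintype.card F = 8) : Nat.card (Matrix.SpecialLinearGroup (Fin 2) F) = 504 := by
  rw [card_SL2, hF]
  norm_num

/-- the presented group is the special linear group -/
theorem equiv_SL (hF : Fintype.card F = 8) :
    Nonempty (PL28p.P.Grp ≃* Matrix.SpecialLinearGroup (Fin 2) F) := by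
  have := charP_two hF
  obtain ⟨ω, hω⟩ := exists_omega hF
  obtain ⟨ψ, hψ⟩ := exists_hom (F8c.toF ω hω)
  obtain ⟨fG, _, hcard⟩ := L28pMain.order_aux
  have hinj : Function.Injective ψ := by
    apply RepLib.injective_of_simple L28pMain.simple_aux ψ (PL28p.P.gR 0)
    rw [hψ 0 (by norm_num)]
    intro h
    have h2 := congrArg Subtype.val h
    rw [coe_gS] at h2
    have h3 := congrFun (congrFun h2 0) 0
    simp [Mc, Ac, F8c.toF, el] at h3
  have hfin : Finite (Matrix.SpecialLinearGroup (Fin 2) F) := inferInstance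
  have hbij : Function.Bijective ψ := by
    rw [Nat.bijective_iff_injective_and_card]
    exact ⟨hinj, by rw [hcard, card_SL hF]⟩
  exact ⟨MulEquiv.ofBijective ψ hbij⟩

/-- the presented group is the projective special linear group -/
theorem equiv_PSL (hF : Fintype.card F = 8) :
    Nonempty (PL28p.P.Grp ≃* Matrix.ProjectiveSpecialLinearGroup (Fin 2) F) := by
  obtain ⟨e⟩ := equiv_SL hF
  have hs : IsSimpleGroup (Matrix.SpecialLinearGroup (Fin 2) F) := RepLib.simple_of_equiv e L28pMain.simple_aux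
  have hc : Subgroup.center (Matrix.SpecialLinearGroup (Fin 2) F) = ⊥ := by
    rcases hs.eq_bot_or_eq_top_of_normal (Subgroup.center (Matrix.SpecialLinearGroup (Fin 2) F)) inferInstance
      with h | h
    · exact h
    · exfalso
      have hcomm : ∀ a b : Matrix.SpecialLinearGroup (Fin 2) F, a * b = b * a := by
        intro a b
        have hb : b ∈ Subgroup.center (Matrix.SpecialLinearGroup (Fin 2) F) := by rw [h]; trivial
        exact Subgroup.mem_center_iff.1 hb a
      letI : CommGroup (Matrix.SpecialLinearGroup (Fin 2) F) :=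
        { (inferInstance : Group (Matrix.SpecialLinearGroup (Fin 2) F)) with mul_comm := hcomm }
      have hp := IsSimpleGroup.prime_card (α := Matrix.SpecialLinearGroup (Fin 2) F)
      rw [card_SL hF] at hp
      exact absurd hp (by norm_num)
  refine ⟨e.trans ?_⟩
  exact (QuotientGroup.quotientBot (G := Matrix.SpecialLinearGroup (Fin 2) F)).symm.trans
    (QuotientGroup.quotientMulEquivOfEq hc.symm)

end Hom

end Cfsg.Agent.Lib.Helper4.L28F8
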