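import Mathlib
import Cfsg.Prelude.Def_SporCoxeter

/-!
A presentation of the group `L₂(8)` of order 504 on two generators `a`, `b`:
`a² = b³ = (ab)⁷ = ((ab)²(ab⁻¹)(ab)²(ab⁻¹)²)² = 1`
(written as a group presented by an empty Coxeter graph and a list of relators).
-/

namespace Cfsg.Agent.Lib.Helper4

namespace L28p

/-- the two generators -/
inductive Gen
  | a
  | b
  deriving DecidableEq

abbrev a : FreeGroup Gen := FreeGroup.of Gen.a
abbrev b : FreeGroup Gen := FreeGroup.of Gen.b

/-- no Coxeter graph -/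
def edges : List (Gen × ℕ × Gen) := []

/-- the relators -/
def extra : List (FreeGroup Gen) := [
  a ^ 2,
  b ^ 3,
  (a * b) ^ 7,
  ((a * b) ^ 2 * (a * b⁻¹) * (a * b) ^ 2 * (a * b⁻¹) ^ 2) ^ 2 ]

end L28p

end Cfsg.Agent.Lib.Helper4
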