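import Mathlib
import Cfsg.Agent.Lib.Helper4.L33pMain
import Cfsg.Agent.Lib.Helper4.TCD_SL33pp3A_Fin
import Cfsg.Agent.Lib.Helper4.TCD_SL33pp3W
import Cfsg.Agent.Lib.Helper4.StemLib5

/-! `L33p` has no stem extension with kernel of order 3 (generated). -/

namespace Cfsg.Agent.Lib.Helper4.SL33pp3Main

open Cfsg.Agent.Lib.Helper4.TC Cfsg.Agent.Lib.Helper4.TCD Cfsg.Agent.Lib.Helper4.TC.Log Cfsg.Agent.Lib.Helper4.Stem

/-- the description of the auxiliary presentation -/
def spec : Spec2 :=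
  { p := 3
    items := [(0, [], 13),
      (2, [], 2),
      (4, [3, 0], 0),
      (6, [4, 4, 4], 0),
      (8, [2, 4, 2, 4, 2, 4, 2, 5, 2, 4, 2, 4, 2, 5, 2, 4, 2, 4, 2, 4, 2, 5, 2, 5, 2, 5, 2, 4, 2, 4, 2, 4, 2, 5, 2, 5, 2, 5], 0)]
    cen := [6, 8]
    R := []
    sub := [0]
    PR := [] }

/-- the letters of the auxiliary presentation as words of the base group -/
def Wl (l : ℕ) : List ℕ :=
  [[0, 2], [3, 1], [0], [1], [2], [3], [], [], [], []].getD l []

theorem checks_eq : checks spec PL33p.P.invR Wl = SL33pp3W.chkAll := by decide +kernel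

set_option maxRecDepth 100000 in
theorem noStem : NoStemPrime PL33p.P.Grp 3 := by
  obtain ⟨fG, hinj, hcard⟩ := L33pMain.order_aux
  have hchecks : ∀ w ∈ checks spec PL33p.P.invR Wl, wordP PL33p.P.gR w = 1 := by
    rw [checks_eq]
    intro w hw
    exact L33pA.inst.word_eq_one hinj w (SL33pp3W.hAll_lt w hw) (SL33pp3W.hAll w hw)
  exact noStemPrime_pres_cyclic PL33p.P PL33p.valid PSL33pp3.P PSL33pp3.valid spec (by show Nat.Prime 3; norm_num) Wl
    (by decide +kernel) (by decide +kernel) hchecks (by decide +kernel) 0 13 rfl (by decide +kernel) (by decide)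
    432 (by decide) SL33pp3A.index_eq fG 5616 hcard (by decide)

end Cfsg.Agent.Lib.Helper4.SL33pp3Main
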