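import Mathlib
import Cfsg.Agent.Lib.Helper4.SL33pp2Main
import Cfsg.Agent.Lib.Helper4.SL33pp3Main
import Cfsg.Agent.Lib.Helper4.RelLib
import Cfsg.Agent.Lib.Helper4.StemLib6

/-!
The presented group `L33p` (the group L3(3)) is perfect and has no stem extension with kernel of prime
order.
-/

namespace Cfsg.Agent.Lib.Helper4.L33pStem

open Cfsg.Agent.Lib.Helper4.TC Cfsg.Agent.Lib.Helper4.TCD Cfsg.Agent.Lib.Helper4.TC.Log
  Cfsg.Agent.Lib.Helper4.Stem

theorem exists_row : ∃ i, i < L33pA.T.N ∧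
    Tab.act L33pA.T L33pA.D [0, 2] i ≠ Tab.act L33pA.T L33pA.D [2, 0] i := by decide +kernel

theorem perfect : commutator PL33p.P.Grp = ⊤ := by
  apply commutator_eq_top_of_simple L33pMain.simple_aux (PL33p.P.gR 0) (PL33p.P.gR 2)
  obtain ⟨i, hi, h⟩ := exists_row
  have h1 := L33pA.inst.word_ne_word [0, 2] [2, 0] (by decide) (by decide) i hi h
  simpa only [wordP_cons, wordP_nil, mul_one] using h1

theorem noStem : ∀ p, p.Prime → NoStemPrime PL33p.P.Grp p := by
  obtain ⟨fG, _, hcard⟩ := L33pMain.order_aux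
  have := fG
  apply noStemPrime_all PL33p.P.Grp [2, 3]
  · intro p hp
    simp only [List.mem_cons, List.not_mem_nil, or_false] at hp
    rcases hp with rfl | rfl
    · exact SL33pp2Main.noStem
    · exact SL33pp3Main.noStem
  · rw [hcard]
    exact sq_dvd_mem_of_factors 5616 [2, 2, 2, 2, 3, 3, 3, 13] (by norm_num) (by decide) [2, 3] (by decide)

end Cfsg.Agent.Lib.Helper4.L33pStem
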