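import Mathlib

set_option autoImplicit false

namespace Cfsg.Agent.Lib.Helper4.SqZero

open Module

variable {F : Type*} [Field F] {V : Type*} [AddCommGroup V] [Module F V] [FiniteDimensional F V]

/-- normal-form basis for a square-zero endomorphism -/
theorem exists_basis (N : V →ₗ[F] V) (hN : ∀ v, N (N v) = 0) (r k : ℕ)
    (hr : finrank F (LinearMap.range N) = r) (hk : 2 * r + k = finrank F V) :
    ∃ b : Basis ((Fin r ⊕ Fin r) ⊕ Fin k) F V,
      (∀ i, N (b (Sum.inl (Sum.inl i))) = b (Sum.inl (Sum.inr i))) ∧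
      (∀ i, N (b (Sum.inl (Sum.inr i))) = 0) ∧ (∀ j, N (b (Sum.inr j)) = 0) := by
  classical
  set R := LinearMap.range N with hR
  set K := LinearMap.ker N with hK
  have hRK : R ≤ K := by
    rintro _ ⟨v, rfl⟩
    rw [hK, LinearMap.mem_ker]
    exact hN v
  let w₀ : Basis (Fin r) F R := finBasisOfFinrankEq F R hr
  have hex : ∀ i, ∃ e : V, N e = (w₀ i : V) := fun i => (w₀ i).2
  choose e he using hex
  obtain ⟨C, hC⟩ := Submodule.exists_isCompl R
  set D := C ⊓ K with hD
  have hRD : R ⊓ D = ⊥ := by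
    rw [hD, ← inf_assoc, hC.inf_eq_bot, bot_inf_eq]
  have hRDsup : R ⊔ D = K := by
    have h1 := sup_inf_assoc_of_le C hRK
    rw [hC.sup_eq_top, top_inf_eq] at h1
    rw [hD, ← h1]
  have hrn := LinearMap.finrank_range_add_finrank_ker N
  have hDk : finrank F D = k := by
    have h1 := Submodule.finrank_sup_add_finrank_inf_eq R D
    rw [hRDsup, hRD, finrank_bot] at h1
    rw [← hR, ← hK] at hrn
    omega
  let u₀ : Basis (Fin k) F D := finBasisOfFinrankEq F D hDk
  have hwK : ∀ i, N (w₀ i : V) = 0 := fun i => by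
    have : (w₀ i : V) ∈ K := hRK (w₀ i).2
    exact this
  have huK : ∀ j, N (u₀ j : V) = 0 := fun j => by
    have : (u₀ j : V) ∈ K := (u₀ j).2.2
    exact this
  have hwli : LinearIndependent F (fun i => (w₀ i : V)) :=
    w₀.linearIndependent.map' R.subtype (Submodule.ker_subtype _)
  have huli : LinearIndependent F (fun j => (u₀ j : V)) :=
    u₀.linearIndependent.map' D.subtype (Submodule.ker_subtype _)
  let g : (Fin r ⊕ Fin r) ⊕ Fin k → V :=
    Sum.elim (Sum.elim e (fun i => (w₀ i : V))) (fun j => (u₀ j : V))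
  have hli : LinearIndependent F g := by
    rw [Fintype.linearIndependent_iff]
    intro c hc
    rw [Fintype.sum_sum_type, Fintype.sum_sum_type] at hc
    simp only [g, Sum.elim_inl, Sum.elim_inr] at hc
    have h1 := congrArg N hc
    simp only [map_add, map_sum, map_smul, he, hwK, huK, smul_zero, Finset.sum_const_zero,
      add_zero, map_zero] at h1
    have hc1 : ∀ i, c (Sum.inl (Sum.inl i)) = 0 := Fintype.linearIndependent_iff.1 hwli _ h1
    simp only [hc1, zero_smul, Finset.sum_const_zero, zero_add] at hc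
    have hmemR : (∑ i, c (Sum.inl (Sum.inr i)) • (w₀ i : V)) ∈ R :=
      Submodule.sum_mem _ fun i _ => Submodule.smul_mem _ _ (w₀ i).2
    have hmemD : (∑ j, c (Sum.inr j) • (u₀ j : V)) ∈ D :=
      Submodule.sum_mem _ fun j _ => Submodule.smul_mem _ _ (u₀ j).2
    have heq : (∑ i, c (Sum.inl (Sum.inr i)) • (w₀ i : V)) = -(∑ j, c (Sum.inr j) • (u₀ j : V)) :=
      eq_neg_of_add_eq_zero_left hc
    have hz : (∑ i, c (Sum.inl (Sum.inr i)) • (w₀ i : V)) ∈ R ⊓ D :=
      ⟨hmemR, by rw [heq]; exact D.neg_mem hmemD⟩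
    rw [hRD, Submodule.mem_bot] at hz
    have hc2 : ∀ i, c (Sum.inl (Sum.inr i)) = 0 := Fintype.linearIndependent_iff.1 hwli _ hz
    rw [hz, zero_add] at hc
    have hc3 : ∀ j, c (Sum.inr j) = 0 := Fintype.linearIndependent_iff.1 huli _ hc
    rintro ((i | i) | j)
    · exact hc1 i
    · exact hc2 i
    · exact hc3 j
  have hcard : Fintype.card ((Fin r ⊕ Fin r) ⊕ Fin k) = finrank F V := by
    simp only [Fintype.card_sum, Fintype.card_fin]
    omega
  by_cases hne : Nonempty ((Fin r ⊕ Fin r) ⊕ Fin k)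
  · let b : Basis ((Fin r ⊕ Fin r) ⊕ Fin k) F V := basisOfLinearIndependentOfCardEqFinrank hli hcard
    have hb : ∀ x, b x = g x := fun x => by
      simp only [b, coe_basisOfLinearIndependentOfCardEqFinrank]
    refine ⟨b, ?_, ?_, ?_⟩
    · intro i
      rw [hb, hb]
      exact he i
    · intro i
      rw [hb]
      exact hwK i
    · intro j
      rw [hb]
      exact huK j
  · have hemp : IsEmpty ((Fin r ⊕ Fin r) ⊕ Fin k) := not_nonempty_iff.1 hne
    have h0 : finrank F V = 0 := by
      rw [← hcard, Fintype.card_eq_zero_iff]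
      exact hemp
    haveI : Subsingleton V := (finrank_zero_iff).1 h0
    refine ⟨Basis.empty V, ?_, ?_, ?_⟩
    · intro i; exact Subsingleton.elim _ _
    · intro i; exact Subsingleton.elim _ _
    · intro j; exact Subsingleton.elim _ _

/-- two square-zero endomorphisms of the same rank are conjugate -/
theorem exists_conj (N N' : V →ₗ[F] V) (hN : ∀ v, N (N v) = 0) (hN' : ∀ v, N' (N' v) = 0)
    (h : finrank F (LinearMap.range N) = finrank F (LinearMap.range N')) :
    ∃ φ : V ≃ₗ[F] V, ∀ v, φ (N v) = N' (φ v) := by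
  set r := finrank F (LinearMap.range N) with hr
  have hrn := LinearMap.finrank_range_add_finrank_ker N
  have hle : 2 * r ≤ finrank F V := by
    have : finrank F (LinearMap.range N) ≤ finrank F (LinearMap.ker N) := by
      apply Submodule.finrank_mono
      rintro _ ⟨v, rfl⟩
      rw [LinearMap.mem_ker]
      exact hN v
    omega
  obtain ⟨k, hk⟩ : ∃ k, 2 * r + k = finrank F V := ⟨finrank F V - 2 * r, by omega⟩
  obtain ⟨b, hb1, hb2, hb3⟩ := exists_basis N hN r k rfl hk
  obtain ⟨b', hb1', hb2', hb3'⟩ := exists_basis N' hN' r k h.symm hk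
  refine ⟨b.equiv b' (Equiv.refl _), ?_⟩
  intro v
  have : (b.equiv b' (Equiv.refl _)).toLinearMap ∘ₗ N = N' ∘ₗ (b.equiv b' (Equiv.refl _)).toLinearMap := by
    apply b.ext
    rintro ((i | i) | j)
    · simp only [LinearMap.comp_apply, LinearEquiv.coe_coe, hb1, Basis.equiv_apply, Equiv.refl_apply,
        hb1']
    · simp only [LinearMap.comp_apply, LinearEquiv.coe_coe, hb2, Basis.equiv_apply, Equiv.refl_apply,
        hb2', map_zero]
    · simp only [LinearMap.comp_apply, LinearEquiv.coe_coe, hb3, Basis.equiv_apply, Equiv.refl_apply,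
        hb3', map_zero]
  exact congrArg (fun f => f v) this

end Cfsg.Agent.Lib.Helper4.SqZero
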