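import Mathlib
import Cfsg.Agent.Lib.Helper4.SqZero

set_option autoImplicit false

namespace Cfsg.Agent.Lib.Helper4.SqZero

open Module

variable {F : Type*} [Field F] {V : Type*} [AddCommGroup V] [Module F V] [FiniteDimensional F V]

/-- an endomorphism commuting with `N` of prescribed square determinant -/
theorem exists_commuting_det (N : V →ₗ[F] V) (hN : ∀ v, N (N v) = 0) (hN0 : N ≠ 0) (μ : F) :
    ∃ c : V →ₗ[F] V, (∀ v, c (N v) = N (c v)) ∧ LinearMap.det c = μ ^ 2 := by
  classical
  set r := finrank F (LinearMap.range N) with hr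
  have hrn := LinearMap.finrank_range_add_finrank_ker N
  have hle : 2 * r ≤ finrank F V := by
    have : finrank F (LinearMap.range N) ≤ finrank F (LinearMap.ker N) := by
      apply Submodule.finrank_mono
      rintro _ ⟨v, rfl⟩
      rw [LinearMap.mem_ker]
      exact hN v
    omega
  have hr0 : r ≠ 0 := by
    intro h0
    apply hN0
    rw [hr, Submodule.finrank_eq_zero] at h0
    exact LinearMap.range_eq_bot.1 h0
  obtain ⟨k, hk⟩ : ∃ k, 2 * r + k = finrank F V := ⟨finrank F V - 2 * r, by omega⟩
  obtain ⟨b, hb1, hb2, hb3⟩ := exists_basis N hN r k rfl hk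
  let i₀ : Fin r := ⟨0, Nat.pos_of_ne_zero hr0⟩
  let t : Fin r → F := fun i => if i = i₀ then μ else 1
  let s : (Fin r ⊕ Fin r) ⊕ Fin k → F := Sum.elim (Sum.elim t t) (fun _ => 1)
  let c : V →ₗ[F] V := b.constr F (fun x => s x • b x)
  have hc : ∀ x, c (b x) = s x • b x := fun x => by
    simp only [c, Basis.constr_basis]
  refine ⟨c, ?_, ?_⟩
  · intro v
    have : c ∘ₗ N = N ∘ₗ c := by
      apply b.ext
      rintro ((i | i) | j)
      · simp only [LinearMap.comp_apply, hb1, hc, map_smul]
        rfl
      · simp only [LinearMap.comp_apply, hb2, hc, map_smul, map_zero, smul_zero]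
      · simp only [LinearMap.comp_apply, hb3, hc, map_smul, map_zero, smul_zero]
    exact congrArg (fun f => f v) this
  · rw [← LinearMap.det_toMatrix b]
    have hmat : LinearMap.toMatrix b b c = Matrix.diagonal s := by
      ext x y
      rw [LinearMap.toMatrix_apply, hc, map_smul, Basis.repr_self, Finsupp.smul_apply,
        Matrix.diagonal_apply, Finsupp.single_apply]
      by_cases hxy : x = y
      · subst hxy; simp
      · rw [if_neg hxy, if_neg (Ne.symm hxy)]; simp
    rw [hmat, Matrix.det_diagonal, Fintype.prod_sum_type, Fintype.prod_sum_type]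
    simp only [s, Sum.elim_inl, Sum.elim_inr, Finset.prod_const_one, mul_one, t]
    rw [Finset.prod_ite_eq' Finset.univ i₀ (fun _ => μ)]
    simp [pow_two]

end Cfsg.Agent.Lib.Helper4.SqZero
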