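import Mathlib
import Cfsg.Agent.Lib.Helper4.SqZero2

set_option autoImplicit false

namespace Cfsg.Agent.Lib.Helper4.SLInvol

open Module Cfsg.Agent.Lib.Helper4.SqZero

variable {F : Type*} [Field F] [Fintype F] [CharP F 2] {n : ℕ}

theorem sub_one_sq (A : Matrix (Fin n) (Fin n) F) (hA : A * A = 1) : (A - 1) * (A - 1) = 0 := by
  have key : ∀ X : Matrix (Fin n) (Fin n) F, X + X = 0 := by
    intro X
    ext i j
    simp [CharTwo.add_self_eq_zero]
  have : (A - 1) * (A - 1) = A * A - (A + A) + 1 := by noncomm_ring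
  rw [this, hA, key A, sub_zero, key]

theorem rank_conj (a b : Matrix.SpecialLinearGroup (Fin n) F) (h : IsConj a b) :
    ((a : Matrix (Fin n) (Fin n) F) - 1).rank = ((b : Matrix (Fin n) (Fin n) F) - 1).rank := by
  rw [isConj_iff] at h
  obtain ⟨g, rfl⟩ := h
  have hg : (g : Matrix (Fin n) (Fin n) F) * ((g⁻¹ : Matrix.SpecialLinearGroup (Fin n) F) : Matrix (Fin n) (Fin n) F) = 1 := by
    rw [← Matrix.SpecialLinearGroup.coe_mul, mul_inv_cancel, Matrix.SpecialLinearGroup.coe_one]
  have h1 : ((g * a * g⁻¹ : Matrix.SpecialLinearGroup (Fin n) F) : Matrix (Fin n) (Fin n) F) - 1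
      = (g : Matrix (Fin n) (Fin n) F) * ((a : Matrix (Fin n) (Fin n) F) - 1) *
        ((g⁻¹ : Matrix.SpecialLinearGroup (Fin n) F) : Matrix (Fin n) (Fin n) F) := by
    rw [Matrix.SpecialLinearGroup.coe_mul, Matrix.SpecialLinearGroup.coe_mul, Matrix.mul_sub,
      Matrix.sub_mul, Matrix.mul_one, hg]
  rw [h1, Matrix.rank_mul_eq_left_of_isUnit_det, Matrix.rank_mul_eq_right_of_isUnit_det]
  · rw [g.2]; exact isUnit_one
  · rw [(g⁻¹).2]; exact isUnit_one

theorem conj_of_rank (a b : Matrix.SpecialLinearGroup (Fin n) F) (ha : a * a = 1) (hb : b * b = 1)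
    (ha1 : a ≠ 1)
    (hrank : ((a : Matrix (Fin n) (Fin n) F) - 1).rank = ((b : Matrix (Fin n) (Fin n) F) - 1).rank) :
    IsConj a b := by
  classical
  set A : Matrix (Fin n) (Fin n) F := (a : Matrix (Fin n) (Fin n) F) with hA
  set B : Matrix (Fin n) (Fin n) F := (b : Matrix (Fin n) (Fin n) F) with hB
  have hAA : A * A = 1 := by
    rw [hA, ← Matrix.SpecialLinearGroup.coe_mul, ha, Matrix.SpecialLinearGroup.coe_one]
  have hBB : B * B = 1 := by
    rw [hB, ← Matrix.SpecialLinearGroup.coe_mul, hb, Matrix.SpecialLinearGroup.coe_one]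
  set N : (Fin n → F) →ₗ[F] (Fin n → F) := Matrix.toLin' (A - 1) with hN
  set N' : (Fin n → F) →ₗ[F] (Fin n → F) := Matrix.toLin' (B - 1) with hN'
  have hNN : ∀ v, N (N v) = 0 := by
    intro v
    have : N ∘ₗ N = 0 := by
      rw [hN, ← Matrix.toLin'_mul, sub_one_sq A hAA, map_zero]
    exact congrArg (fun f => f v) this
  have hNN' : ∀ v, N' (N' v) = 0 := by
    intro v
    have : N' ∘ₗ N' = 0 := by
      rw [hN', ← Matrix.toLin'_mul, sub_one_sq B hBB, map_zero]
    exact congrArg (fun f => f v) this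
  have hrk : finrank F (LinearMap.range N) = finrank F (LinearMap.range N') := by
    rw [hN, hN', Matrix.toLin'_apply', Matrix.toLin'_apply']
    exact hrank
  obtain ⟨φ, hφ⟩ := exists_conj N N' hNN hNN' hrk
  set P : Matrix (Fin n) (Fin n) F := LinearMap.toMatrix' φ.toLinearMap with hP
  have hPA : P * (A - 1) = (B - 1) * P := by
    have h1 : φ.toLinearMap ∘ₗ N = N' ∘ₗ φ.toLinearMap := by
      apply LinearMap.ext
      intro v
      exact hφ v
    have h2 := congrArg LinearMap.toMatrix' h1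
    rw [LinearMap.toMatrix'_comp, LinearMap.toMatrix'_comp, hN, hN', LinearMap.toMatrix'_toLin',
      LinearMap.toMatrix'_toLin'] at h2
    exact h2
  have hPA' : P * A = B * P := by
    rw [Matrix.mul_sub, Matrix.sub_mul, Matrix.mul_one, Matrix.one_mul] at hPA
    exact sub_left_injective hPA
  have hdetP : P.det ≠ 0 := by
    rw [hP, LinearMap.det_toMatrix']
    exact (LinearEquiv.isUnit_det' φ).ne_zero
  have hN0 : N ≠ 0 := by
    intro h0
    apply ha1
    apply Subtype.ext
    rw [Matrix.SpecialLinearGroup.coe_one]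
    have : A - 1 = 0 := by
      have := congrArg LinearMap.toMatrix' h0
      rw [hN, LinearMap.toMatrix'_toLin', map_zero] at this
      exact this
    exact sub_eq_zero.1 this
  obtain ⟨μ, hμ⟩ := (bijective_frobenius F 2).surjective (P.det)⁻¹
  rw [frobenius_def] at hμ
  obtain ⟨c, hc1, hc2⟩ := exists_commuting_det N hNN hN0 μ
  set C : Matrix (Fin n) (Fin n) F := LinearMap.toMatrix' c with hC
  have hdetC : C.det = (P.det)⁻¹ := by
    rw [hC, LinearMap.det_toMatrix', hc2, hμ]
  have hCA : C * A = A * C := by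
    have h1 : c ∘ₗ N = N ∘ₗ c := by
      apply LinearMap.ext
      intro v
      exact hc1 v
    have h2 := congrArg LinearMap.toMatrix' h1
    rw [LinearMap.toMatrix'_comp, LinearMap.toMatrix'_comp, hN, LinearMap.toMatrix'_toLin'] at h2
    rw [Matrix.mul_sub, Matrix.sub_mul, Matrix.mul_one, Matrix.one_mul] at h2
    exact sub_left_injective h2
  have hdet : (P * C).det = 1 := by
    rw [Matrix.det_mul, hdetC, mul_inv_cancel₀ hdetP]
  let G : Matrix.SpecialLinearGroup (Fin n) F := ⟨P * C, hdet⟩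
  rw [isConj_iff]
  refine ⟨G, ?_⟩
  rw [mul_inv_eq_iff_eq_mul]
  apply Subtype.ext
  rw [Matrix.SpecialLinearGroup.coe_mul, Matrix.SpecialLinearGroup.coe_mul]
  change P * C * A = B * (P * C)
  rw [Matrix.mul_assoc, hCA, ← Matrix.mul_assoc, hPA', Matrix.mul_assoc]

theorem main (a b : Matrix.SpecialLinearGroup (Fin n) F) (ha : orderOf a = 2) (hb : orderOf b = 2) :
    IsConj a b ↔ ((a : Matrix (Fin n) (Fin n) F) - 1).rank = ((b : Matrix (Fin n) (Fin n) F) - 1).rank := by
  constructor
  · exact rank_conj a b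
  · intro h
    have ha2 : a * a = 1 := by rw [← pow_two, ← ha]; exact pow_orderOf_eq_one a
    have hb2 : b * b = 1 := by rw [← pow_two, ← hb]; exact pow_orderOf_eq_one b
    have ha1 : a ≠ 1 := by
      intro h1
      rw [h1, orderOf_one] at ha
      omega
    exact conj_of_rank a b ha2 hb2 ha1 h

end Cfsg.Agent.Lib.Helper4.SLInvol
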