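import Mathlib
import Cfsg.Prelude.Def_ClassicalGeometry

namespace Cfsg.Agent.Lib.Helper4.TransvCent

section General

variable {G H : Type*} [Group G] [Group H]

theorem card_centralizer_mulEquiv (φ : G ≃* H) (x : G) :
    Nat.card (Subgroup.centralizer ({φ x} : Set H))
      = Nat.card (Subgroup.centralizer ({x} : Set G)) := by
  apply Nat.card_congr
  refine (Equiv.subtypeEquiv φ.toEquiv (fun g => ?_)).symm
  simp only [Subgroup.mem_centralizer_iff, Set.mem_singleton_iff, forall_eq, MulEquiv.toEquiv_eq_coe,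
    MulEquiv.coe_toEquiv]
  rw [← map_mul, ← map_mul, φ.injective.eq_iff]

theorem card_centralizer_conj (g x : G) :
    Nat.card (Subgroup.centralizer ({g * x * g⁻¹} : Set G))
      = Nat.card (Subgroup.centralizer ({x} : Set G)) :=
  card_centralizer_mulEquiv (MulAut.conj g) x

end General

section Comm

variable {ι : Type*} [Fintype ι] [DecidableEq ι] {F : Type*} [Field F]

theorem comm_single_iff (a b : ι) (X : Matrix ι ι F) :
    X * Matrix.single a b (1 : F) = Matrix.single a b (1 : F) * X ↔
      (∀ i, i ≠ a → X i a = 0) ∧ (∀ j, j ≠ b → X b j = 0) ∧ X a a = X b b := by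
  constructor
  · intro h
    refine ⟨fun i hi => ?_, fun j hj => ?_, ?_⟩
    · have := congrFun (congrFun h i) b
      rw [Matrix.mul_single_apply_same, Matrix.single_mul_apply_of_ne _ _ _ _ _ hi] at this
      simpa using this
    · have := congrFun (congrFun h a) j
      rw [Matrix.single_mul_apply_same, Matrix.mul_single_apply_of_ne _ _ _ _ _ hj] at this
      simpa using this.symm
    · have := congrFun (congrFun h a) b
      rw [Matrix.mul_single_apply_same, Matrix.single_mul_apply_same] at this
      simpa using this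
  · rintro ⟨h1, h2, h3⟩
    ext i j
    by_cases hi : i = a
    · subst hi
      by_cases hj : j = b
      · subst hj
        rw [Matrix.mul_single_apply_same, Matrix.single_mul_apply_same, h3]
        ring
      · rw [Matrix.mul_single_apply_of_ne _ _ _ _ _ hj, Matrix.single_mul_apply_same,
          h2 j hj]
        ring
    · by_cases hj : j = b
      · subst hj
        rw [Matrix.mul_single_apply_same, Matrix.single_mul_apply_of_ne _ _ _ _ _ hi, h1 i hi]
        ring
      · rw [Matrix.mul_single_apply_of_ne _ _ _ _ _ hj,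
          Matrix.single_mul_apply_of_ne _ _ _ _ _ hi]

end Comm

section Blocks

variable {F : Type*} [Field F] {m : ℕ}

abbrev Idx (m : ℕ) := Unit ⊕ (Fin m ⊕ Unit)

/-- the block upper triangular matrix -/
def toMat (l : F) (r : Fin m → F) (s : F) (c : Fin m → F) (A : Matrix (Fin m) (Fin m) F) :
    Matrix (Idx m) (Idx m) F :=
  Matrix.fromBlocks (Matrix.of fun _ _ => l) (Matrix.of fun _ j => Sum.elim r (fun _ => s) j) 0
    (Matrix.fromBlocks A (Matrix.of fun i _ => c i) 0 (Matrix.of fun _ _ => l))

theorem det_toMat (l : F) (r : Fin m → F) (s : F) (c : Fin m → F)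
    (A : Matrix (Fin m) (Fin m) F) : (toMat l r s c A).det = l * (A.det * l) := by
  rw [toMat, Matrix.det_fromBlocks_zero₂₁, Matrix.det_fromBlocks_zero₂₁]
  simp [Matrix.det_unique]

theorem eq_toMat (X : Matrix (Idx m) (Idx m) F)
    (h1 : ∀ i, i ≠ Sum.inl () → X i (Sum.inl ()) = 0)
    (h2 : ∀ j, j ≠ Sum.inr (Sum.inr ()) → X (Sum.inr (Sum.inr ())) j = 0)
    (h3 : X (Sum.inl ()) (Sum.inl ()) = X (Sum.inr (Sum.inr ())) (Sum.inr (Sum.inr ()))) :
    X = toMat (X (Sum.inl ()) (Sum.inl ())) (fun k => X (Sum.inl ()) (Sum.inr (Sum.inl k)))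
      (X (Sum.inl ()) (Sum.inr (Sum.inr ()))) (fun k => X (Sum.inr (Sum.inl k)) (Sum.inr (Sum.inr ())))
      (X.submatrix (fun k => Sum.inr (Sum.inl k)) (fun k => Sum.inr (Sum.inl k))) := by
  ext i j
  rcases i with ⟨⟩ | i | ⟨⟩ <;> rcases j with ⟨⟩ | j | ⟨⟩
  · rfl
  · rfl
  · rfl
  · exact h1 _ (by simp)
  · rfl
  · rfl
  · exact h1 _ (by simp)
  · exact h2 _ (by simp)
  · exact h3.symm

end Blocks

end Cfsg.Agent.Lib.Helper4.TransvCent
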