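import Mathlib
import Cfsg.Agent.Lib.Helper4.TransvCent1

namespace Cfsg.Agent.Lib.Helper4.TransvCent

section Count

variable {F : Type*} [Field F] {m : ℕ}

/-- the standard transvection matrix -/
def E0 (F : Type*) [Field F] (m : ℕ) : Matrix (Idx m) (Idx m) F :=
  Matrix.single (Sum.inl ()) (Sum.inr (Sum.inr ())) (1 : F)

theorem det_one_add_E0 : (1 + E0 F m).det = 1 := by
  have := Matrix.det_transvection_of_ne (R := F) (Sum.inl () : Idx m) (Sum.inr (Sum.inr ()))
    (by simp) (1 : F)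
  exact this

/-- the standard transvection -/
noncomputable def t0 (F : Type*) [Field F] (m : ℕ) : GL (Idx m) F :=
  Matrix.GeneralLinearGroup.mkOfDetNeZero (1 + E0 F m) (by rw [det_one_add_E0]; exact one_ne_zero)

theorem t0_val : ((t0 F m : GL (Idx m) F) : Matrix (Idx m) (Idx m) F) = 1 + E0 F m := rfl

theorem mem_centralizer_t0_iff (g : GL (Idx m) F) :
    g ∈ Subgroup.centralizer ({t0 F m} : Set (GL (Idx m) F)) ↔
      (g : Matrix (Idx m) (Idx m) F) * E0 F m = E0 F m * (g : Matrix (Idx m) (Idx m) F) := by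
  rw [Subgroup.mem_centralizer_iff]
  simp only [Set.mem_singleton_iff, forall_eq]
  rw [Units.ext_iff, Units.val_mul, Units.val_mul, t0_val, add_mul, mul_add, one_mul, mul_one]
  constructor
  · intro h
    exact (add_left_cancel h).symm
  · intro h
    rw [h]

theorem toMat_comm (l : F) (r : Fin m → F) (s : F) (c : Fin m → F)
    (A : Matrix (Fin m) (Fin m) F) : toMat l r s c A * E0 F m = E0 F m * toMat l r s c A := by
  rw [E0, comm_single_iff]
  refine ⟨?_, ?_, rfl⟩
  · intro i hi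
    rcases i with ⟨⟩ | i | ⟨⟩
    · exact absurd rfl hi
    · rfl
    · rfl
  · intro j hj
    rcases j with ⟨⟩ | j | ⟨⟩
    · rfl
    · rfl
    · exact absurd rfl hj

/-- the parametrisation of the centraliser -/
noncomputable def par (p : Fˣ × (Fin m → F) × F × (Fin m → F) × GL (Fin m) F) :
    ↥(Subgroup.centralizer ({t0 F m} : Set (GL (Idx m) F))) :=
  ⟨Matrix.GeneralLinearGroup.mkOfDetNeZero
      (toMat (p.1 : F) p.2.1 p.2.2.1 p.2.2.2.1 (p.2.2.2.2 : Matrix (Fin m) (Fin m) F))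
      (by
        rw [det_toMat]
        have h1 : (p.1 : F) ≠ 0 := p.1.ne_zero
        have h2 : (p.2.2.2.2 : Matrix (Fin m) (Fin m) F).det ≠ 0 :=
          ((Matrix.isUnit_iff_isUnit_det _).1 p.2.2.2.2.isUnit).ne_zero
        exact mul_ne_zero h1 (mul_ne_zero h2 h1)),
    (mem_centralizer_t0_iff _).2 (toMat_comm _ _ _ _ _)⟩

theorem par_val (p : Fˣ × (Fin m → F) × F × (Fin m → F) × GL (Fin m) F) :
    (((par p : ↥(Subgroup.centralizer ({t0 F m} : Set (GL (Idx m) F)))) : GL (Idx m) F) :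
      Matrix (Idx m) (Idx m) F)
      = toMat (p.1 : F) p.2.1 p.2.2.1 p.2.2.2.1 (p.2.2.2.2 : Matrix (Fin m) (Fin m) F) := rfl

theorem par_injective : Function.Injective (par (F := F) (m := m)) := by
  rintro ⟨l, r, s, c, A⟩ ⟨l', r', s', c', A'⟩ h
  have h1 := congrArg (fun x : ↥(Subgroup.centralizer ({t0 F m} : Set (GL (Idx m) F))) =>
    ((x : GL (Idx m) F) : Matrix (Idx m) (Idx m) F)) h
  simp only [par_val] at h1
  have hl : (l : F) = l' := congrFun (congrFun h1 (Sum.inl ())) (Sum.inl ())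
  have hr : r = r' := by
    funext k
    exact congrFun (congrFun h1 (Sum.inl ())) (Sum.inr (Sum.inl k))
  have hs : s = s' := congrFun (congrFun h1 (Sum.inl ())) (Sum.inr (Sum.inr ()))
  have hc : c = c' := by
    funext k
    exact congrFun (congrFun h1 (Sum.inr (Sum.inl k))) (Sum.inr (Sum.inr ()))
  have hA : A = A' := by
    apply Units.ext
    ext i j
    exact congrFun (congrFun h1 (Sum.inr (Sum.inl i))) (Sum.inr (Sum.inl j))
  rw [Units.ext hl, hr, hs, hc, hA]

theorem par_surjective : Function.Surjective (par (F := F) (m := m)) := by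
  rintro ⟨g, hg⟩
  rw [mem_centralizer_t0_iff, E0, comm_single_iff] at hg
  obtain ⟨h1, h2, h3⟩ := hg
  have hX := eq_toMat _ h1 h2 h3
  set X : Matrix (Idx m) (Idx m) F := (g : Matrix (Idx m) (Idx m) F) with hXdef
  have hdet : X.det ≠ 0 := ((Matrix.isUnit_iff_isUnit_det _).1 g.isUnit).ne_zero
  rw [hX, det_toMat] at hdet
  have hl : X (Sum.inl ()) (Sum.inl ()) ≠ 0 := left_ne_zero_of_mul hdet
  have hA : (X.submatrix (fun k : Fin m => (Sum.inr (Sum.inl k) : Idx m))
      (fun k : Fin m => (Sum.inr (Sum.inl k) : Idx m))).det ≠ 0 :=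
    left_ne_zero_of_mul (right_ne_zero_of_mul hdet)
  refine ⟨(Units.mk0 _ hl, (fun k => X (Sum.inl ()) (Sum.inr (Sum.inl k))),
    X (Sum.inl ()) (Sum.inr (Sum.inr ())), (fun k => X (Sum.inr (Sum.inl k)) (Sum.inr (Sum.inr ()))),
    Matrix.GeneralLinearGroup.mkOfDetNeZero _ hA), ?_⟩
  apply Subtype.ext
  apply Units.ext
  rw [par_val]
  exact hX.symm

theorem card_centralizer_t0 [Fintype F] {q : ℕ} (hF : Fintype.card F = q) :
    Nat.card ↥(Subgroup.centralizer ({t0 F m} : Set (GL (Idx m) F)))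
      = q ^ (2 * m + 1) * (q - 1) * ∏ i : Fin m, (q ^ m - q ^ (i : ℕ)) := by
  rw [← Nat.card_congr (Equiv.ofBijective par ⟨par_injective (F := F) (m := m), par_surjective⟩)]
  rw [Nat.card_prod, Nat.card_prod, Nat.card_prod, Nat.card_prod, Nat.card_units,
    Nat.card_eq_fintype_card (α := F), hF, Matrix.card_GL_field, hF]
  have h1 : Nat.card (Fin m → F) = q ^ m := by
    rw [Nat.card_eq_fintype_card, Fintype.card_fun, hF, Fintype.card_fin]
  rw [h1]
  ring

end Count

end Cfsg.Agent.Lib.Helper4.TransvCent
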