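import Mathlib
import Cfsg.Agent.Lib.Helper4.TransvCent2
import Cfsg.Agent.S2579

namespace Cfsg.Agent.Lib.Helper4.TransvCent

open Module

section Rank

variable {ι : Type} [Fintype ι] [DecidableEq ι] {F : Type*} [Field F]

theorem rank_single (a b : ι) : (Matrix.single a b (1 : F)).rank = 1 := by
  rw [Matrix.rank]
  have h : LinearMap.range (Matrix.single a b (1 : F)).mulVecLin
      = Submodule.span F {(Pi.single a (1 : F) : ι → F)} := by
    ext w
    rw [LinearMap.mem_range, Submodule.mem_span_singleton]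
    constructor
    · rintro ⟨v, rfl⟩
      refine ⟨v b, ?_⟩
      funext i
      simp only [Matrix.mulVecLin_apply, Matrix.mulVec, dotProduct, Matrix.single_apply,
        Pi.smul_apply, Pi.single_apply, smul_eq_mul]
      by_cases hi : a = i
      · subst hi
        simp
      · have : ¬ i = a := fun h => hi h.symm
        simp [hi, this]
    · rintro ⟨c, rfl⟩
      refine ⟨Pi.single b c, ?_⟩
      funext i
      simp only [Matrix.mulVecLin_apply, Matrix.mulVec, dotProduct, Matrix.single_apply,
        Pi.smul_apply, Pi.single_apply, smul_eq_mul]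
      by_cases hi : a = i
      · subst hi
        simp
      · have : ¬ i = a := fun h => hi h.symm
        simp [hi, this]
  rw [h, finrank_span_singleton]
  intro h0
  have := congrFun h0 a
  simp at this

end Rank

section Main

variable {F : Type*} [Field F] {n : ℕ}

theorem exists_conj_of_isTransvection (s t : GL (Fin n) F)
    (hs : Cfsg.IsTransvection (s : Matrix (Fin n) (Fin n) F))
    (ht : Cfsg.IsTransvection (t : Matrix (Fin n) (Fin n) F)) :
    ∃ g : GL (Fin n) F, g * s * g⁻¹ = t := by
  obtain ⟨hs1, hs2⟩ := hs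
  obtain ⟨ht1, ht2⟩ := ht
  set A : Matrix (Fin n) (Fin n) F := (s : Matrix (Fin n) (Fin n) F) - 1 with hA
  set B : Matrix (Fin n) (Fin n) F := (t : Matrix (Fin n) (Fin n) F) - 1 with hB
  have hNA : A.mulVecLin ∘ₗ A.mulVecLin = 0 := by
    rw [← Matrix.mulVecLin_mul, hs2, Matrix.mulVecLin_zero]
  have hNB : B.mulVecLin ∘ₗ B.mulVecLin = 0 := by
    rw [← Matrix.mulVecLin_mul, ht2, Matrix.mulVecLin_zero]
  have hrA : finrank F (LinearMap.range A.mulVecLin) = 1 := hs1
  have hrB : finrank F (LinearMap.range B.mulVecLin) = 1 := ht1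
  obtain ⟨g, hg⟩ := Cfsg.Agent.S2579.exists_conj A.mulVecLin B.mulVecLin hNA hNB hrA hrB
  have hgdet : LinearMap.det g.toLinearMap ≠ 0 := (LinearEquiv.isUnit_det' g).ne_zero
  let P : Matrix (Fin n) (Fin n) F := LinearMap.toMatrix' g.toLinearMap
  have hPdet : P.det ≠ 0 := by
    rw [LinearMap.det_toMatrix']
    exact hgdet
  have hPA : P * A = B * P := by
    have h1 := hg
    rw [← Matrix.toLin'_apply', ← Matrix.toLin'_apply'] at h1
    have h2 := congrArg LinearMap.toMatrix' h1
    simp only [LinearMap.toMatrix'_comp, LinearMap.toMatrix'_toLin'] at h2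
    exact h2
  have hPs : P * (s : Matrix (Fin n) (Fin n) F) = (t : Matrix (Fin n) (Fin n) F) * P := by
    have h1 : P * (A + 1) = (B + 1) * P := by rw [mul_add, add_mul, hPA, mul_one, one_mul]
    simpa [hA, hB] using h1
  refine ⟨Matrix.GeneralLinearGroup.mkOfDetNeZero P hPdet, ?_⟩
  rw [mul_inv_eq_iff_eq_mul]
  apply Units.ext
  rw [Units.val_mul, Units.val_mul]
  exact hPs

theorem card_centralizer_transvection [Fintype F] {q m : ℕ} (hF : Fintype.card F = q)
    (t : GL (Fin (m + 2)) F)
    (ht : Cfsg.IsTransvection (t : Matrix (Fin (m + 2)) (Fin (m + 2)) F)) :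
    Nat.card ↥(Subgroup.centralizer ({t} : Set (GL (Fin (m + 2)) F)))
      = q ^ (2 * m + 1) * (q - 1) * ∏ i : Fin m, (q ^ m - q ^ (i : ℕ)) := by
  classical
  let e : Idx m ≃ Fin (m + 2) := Fintype.equivFinOfCardEq (by simp; ring)
  let φ : GL (Idx m) F ≃* GL (Fin (m + 2)) F :=
    Units.mapEquiv (Matrix.reindexAlgEquiv F F e).toMulEquiv
  have hφval : ∀ g : GL (Idx m) F, ((φ g : GL (Fin (m + 2)) F) : Matrix (Fin (m + 2)) (Fin (m + 2)) F)
      = Matrix.reindex e e (g : Matrix (Idx m) (Idx m) F) := fun _ => rfl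
  have ht' : Cfsg.IsTransvection ((φ (t0 F m) : GL (Fin (m + 2)) F) :
      Matrix (Fin (m + 2)) (Fin (m + 2)) F) := by
    have h1 : ((φ (t0 F m) : GL (Fin (m + 2)) F) : Matrix (Fin (m + 2)) (Fin (m + 2)) F) - 1
        = Matrix.reindex e e (E0 F m) := by
      rw [hφval, t0_val]
      ext i j
      simp [Matrix.reindex_apply, Matrix.submatrix_apply, Matrix.one_apply]
    constructor
    · rw [h1, Matrix.rank_reindex, E0, rank_single]
    · rw [h1]
      ext i j
      simp only [Matrix.reindex_apply, Matrix.submatrix_mul_equiv, Matrix.submatrix_apply,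
        Matrix.zero_apply, E0]
      rw [Matrix.single_mul_single_of_ne]
      · rfl
      · simp
  obtain ⟨g, hg⟩ := exists_conj_of_isTransvection _ _ ht' ht
  rw [← hg, card_centralizer_conj, card_centralizer_mulEquiv, card_centralizer_t0 hF]

end Main

end Cfsg.Agent.Lib.Helper4.TransvCent
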