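import Mathlib
import Cfsg.Agent.Lib.Helper4.TransvCent3
import Cfsg.Agent.Lib.Helper4.SLInvol

set_option autoImplicit false

namespace Cfsg.Agent.Lib.Helper4.L34

open Module Cfsg.Agent.Lib.Helper4.TransvCent

section field4

variable {F : Type*} [Field F] [Fintype F]

theorem charP_two_of_even (h : Fintype.card F % 2 = 0) : CharP F 2 := by
  have h1 : ringChar F = 2 := FiniteField.even_card_iff_char_two.mpr h
  exact (ringChar.eq_iff).mp h1

theorem pow_three_of_card_four (hF : Fintype.card F = 4) (a : F) (ha : a ≠ 0) : a ^ 3 = 1 := by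
  have := FiniteField.pow_card_sub_one_eq_one a ha
  rwa [hF] at this

/-- a matrix commuting with the elementary matrix `E₀₂`, of determinant one over the field with four
elements in dimension three, has a scalar fourth power -/
theorem pow_four_of_comm_single (hF : Fintype.card F = 4) (y : Matrix (Fin 3) (Fin 3) F)
    (hdet : y.det = 1)
    (hc : y * Matrix.single (0 : Fin 3) (2 : Fin 3) (1 : F) = Matrix.single 0 2 (1 : F) * y) :
    ∃ a : F, a ≠ 0 ∧ y ^ 4 = Matrix.scalar (Fin 3) a := by
  haveI : CharP F 2 := charP_two_of_even (by rw [hF])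
  have h2 : (2 : F) = 0 := by
    have := CharP.cast_eq_zero F 2
    exact_mod_cast this
  obtain ⟨h1, h3, h4⟩ := (comm_single_iff 0 2 y).mp hc
  have e10 : y 1 0 = 0 := h1 1 (by decide)
  have e20 : y 2 0 = 0 := h1 2 (by decide)
  have e21 : y 2 1 = 0 := h3 1 (by decide)
  have hd : y 0 0 * y 1 1 * y 0 0 = 1 := by
    rw [Matrix.det_fin_three, e10, e20, e21, ← h4] at hdet
    linear_combination hdet
  have ha0 : y 0 0 ≠ 0 := by
    intro h
    rw [h] at hd
    simp at hd
  have hb0 : y 1 1 ≠ 0 := by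
    intro h
    rw [h] at hd
    simp at hd
  have ha3 := pow_three_of_card_four hF _ ha0
  have hb : y 1 1 = y 0 0 := by
    have : y 1 1 * (y 0 0) ^ 3 = y 0 0 * (y 0 0 * y 1 1 * y 0 0) := by ring
    rw [ha3, hd, mul_one, mul_one] at this
    exact this
  obtain ⟨a, ha⟩ : ∃ a, a = y 0 0 := ⟨_, rfl⟩
  rw [← ha] at hd ha0 ha3 hb h4
  have hy : y = !![a, y 0 1, y 0 2; 0, a, y 1 2; 0, 0, a] := by
    ext i j
    fin_cases i <;> fin_cases j <;> simp [e10, e20, e21, hb, ← h4, ← ha]
  have hy2 : y * y = !![a * a, 0, y 0 1 * y 1 2; 0, a * a, 0; 0, 0, a * a] := by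
    rw [hy]
    ext i j
    fin_cases i <;> fin_cases j <;>
      simp [Matrix.mul_apply, Fin.sum_univ_three] <;>
      first
        | linear_combination (a * y 0 1) * h2
        | linear_combination (a * y 0 2) * h2
        | linear_combination (a * y 1 2) * h2
  refine ⟨a ^ 4, pow_ne_zero 4 ha0, ?_⟩
  have e4 : y ^ 4 = (y * y) * (y * y) := by rw [← pow_two, ← pow_two, ← pow_mul]
  rw [e4, hy2]
  ext i j
  fin_cases i <;> fin_cases j <;>
    simp [Matrix.mul_apply, Fin.sum_univ_three, Matrix.scalar_apply] <;>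
    first
      | ring1
      | linear_combination (a * a * (y 0 1 * y 1 2)) * h2

/-- a nontrivial involution of a three-dimensional space in characteristic two is a transvection -/
theorem isTransvection_of_sq [CharP F 2] (t : Matrix (Fin 3) (Fin 3) F) (ht : t * t = 1)
    (h1 : t ≠ 1) : Cfsg.IsTransvection t := by
  have hN := SLInvol.sub_one_sq t ht
  refine ⟨?_, hN⟩
  set N := t - 1 with hNdef
  have hN0 : N ≠ 0 := fun h => h1 (sub_eq_zero.mp h)
  have hle : LinearMap.range N.mulVecLin ≤ LinearMap.ker N.mulVecLin := by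
    rintro _ ⟨x, rfl⟩
    rw [LinearMap.mem_ker, Matrix.mulVecLin_apply, Matrix.mulVecLin_apply, Matrix.mulVec_mulVec, hN,
      Matrix.zero_mulVec]
  have h3 := LinearMap.finrank_range_add_finrank_ker N.mulVecLin
  rw [Module.finrank_fintype_fun_eq_card, Fintype.card_fin] at h3
  have h4 := Submodule.finrank_mono hle
  have h5 : finrank F (LinearMap.range N.mulVecLin) ≠ 0 := by
    intro h
    rw [Submodule.finrank_eq_zero, LinearMap.range_eq_bot] at h
    apply hN0
    have : Matrix.toLin' N = 0 := h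
    simpa using this
  rw [Matrix.rank]
  omega

/-- commuting with a transvection, in `SL₃(4)`, forces a scalar fourth power -/
theorem pow_four_of_comm_transvection (hF : Fintype.card F = 4) (y t : Matrix (Fin 3) (Fin 3) F)
    (hdet : y.det = 1) (ht : t * t = 1) (ht1 : t ≠ 1) (hc : y * t = t * y) :
    ∃ a : F, a ≠ 0 ∧ y ^ 4 = Matrix.scalar (Fin 3) a := by
  haveI : CharP F 2 := charP_two_of_even (by rw [hF])
  have htr := isTransvection_of_sq t ht ht1
  -- the standard transvection
  set E : Matrix (Fin 3) (Fin 3) F := Matrix.single 0 2 (1 : F) with hE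
  have hEE : E * E = 0 := by
    rw [hE, Matrix.single_mul_single_of_ne]
    decide
  have h0tr : Cfsg.IsTransvection (1 + E) := by
    refine ⟨?_, ?_⟩
    · rw [add_sub_cancel_left]; exact rank_single 0 2
    · rw [add_sub_cancel_left]; exact hEE
  have h0sq : (1 + E) * (1 + E) = 1 := by
    rw [mul_add, add_mul, add_mul, one_mul, one_mul, mul_one, hEE, add_zero, add_assoc]
    have : E + E = 0 := by
      ext i j
      simp [CharTwo.add_self_eq_zero]
    rw [this, add_zero]
  let s0 : GL (Fin 3) F := ⟨1 + E, 1 + E, h0sq, h0sq⟩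
  let tu : GL (Fin 3) F := ⟨t, t, ht, ht⟩
  obtain ⟨g, hg⟩ := exists_conj_of_isTransvection s0 tu h0tr htr
  have hg' : (g : Matrix (Fin 3) (Fin 3) F) * (1 + E) = t * (g : Matrix (Fin 3) (Fin 3) F) := by
    have := congrArg (fun x : GL (Fin 3) F => (x : Matrix (Fin 3) (Fin 3) F))
      (mul_inv_eq_iff_eq_mul.mp hg)
    simpa using this
  set G := (g : Matrix (Fin 3) (Fin 3) F) with hGdef
  set Gi := ((g⁻¹ : GL (Fin 3) F) : Matrix (Fin 3) (Fin 3) F) with hGi
  have hGGi : G * Gi = 1 := by
    rw [hGdef, hGi, ← Units.val_mul, mul_inv_cancel, Units.val_one]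
  have hGiG : Gi * G = 1 := by
    rw [hGdef, hGi, ← Units.val_mul, inv_mul_cancel, Units.val_one]
  have hgE : G * E = (t - 1) * G := by
    have : G * (1 + E) = t * G := hg'
    rw [mul_add, mul_one] at this
    rw [sub_mul, one_mul, ← this]
    abel
  -- the conjugate of y
  set y' := Gi * y * G with hy'
  have hdet' : y'.det = 1 := by
    rw [hy', Matrix.det_mul, Matrix.det_mul, hdet, mul_one, ← Matrix.det_mul, hGiG, Matrix.det_one]
  have hct : y * (t - 1) = (t - 1) * y := by rw [mul_sub, sub_mul, hc, mul_one, one_mul]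
  have hc' : y' * E = E * y' := by
    have hE' : E = Gi * (t - 1) * G := by
      rw [Matrix.mul_assoc, ← hgE, ← Matrix.mul_assoc, hGiG, Matrix.one_mul]
    calc y' * E = Gi * y * (G * E) := by rw [hy', Matrix.mul_assoc]
      _ = Gi * y * ((t - 1) * G) := by rw [hgE]
      _ = Gi * (y * (t - 1)) * G := by simp only [Matrix.mul_assoc]
      _ = Gi * ((t - 1) * y) * G := by rw [hct]
      _ = Gi * (t - 1) * (G * Gi) * y * G := by rw [hGGi]; simp only [Matrix.mul_assoc, Matrix.one_mul]
      _ = (Gi * (t - 1) * G) * (Gi * y * G) := by simp only [Matrix.mul_assoc]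
      _ = E * y' := by rw [← hE']
  obtain ⟨a, ha, hya⟩ := pow_four_of_comm_single hF y' hdet' hc'
  refine ⟨a, ha, ?_⟩
  have hpow : ∀ k : ℕ, y' ^ k = Gi * y ^ k * G := by
    intro k
    induction k with
    | zero => simp [hGiG]
    | succ k ih =>
      rw [pow_succ, ih, hy', pow_succ]
      calc Gi * y ^ k * G * (Gi * y * G) = Gi * y ^ k * (G * Gi) * y * G := by
            simp only [Matrix.mul_assoc]
        _ = Gi * (y ^ k * y) * G := by rw [hGGi]; simp only [Matrix.mul_assoc, Matrix.mul_one]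
  have h4 : y ^ 4 = G * y' ^ 4 * Gi := by
    rw [hpow 4]
    calc y ^ 4 = (G * Gi) * y ^ 4 * (G * Gi) := by rw [hGGi, Matrix.one_mul, Matrix.mul_one]
      _ = G * (Gi * y ^ 4 * G) * Gi := by simp only [Matrix.mul_assoc]
  rw [h4, hya]
  have : G * (Matrix.scalar (Fin 3) a) = (Matrix.scalar (Fin 3) a) * G :=
    ((Matrix.scalar_commute a (fun r' => mul_comm a r') G).eq).symm
  rw [this, Matrix.mul_assoc, hGGi, Matrix.mul_one]

end field4

end Cfsg.Agent.Lib.Helper4.L34
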