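import Mathlib
import Cfsg.Agent.Lib.Helper4.L34a
import Cfsg.Agent.Lib.Helper4.SLCard
import Cfsg.Agent.Lib.Helper4.SLCenter

set_option autoImplicit false

namespace Cfsg.Agent.Lib.Helper4.L34

open Module Cfsg.Agent.Lib.Helper4

section psl3

variable {F : Type*} [Field F] [Fintype F]

local notation "SL3" => Matrix.SpecialLinearGroup (Fin 3) F
local notation "PSL3" => Matrix.ProjectiveSpecialLinearGroup (Fin 3) F

theorem scalar_mem_center (y : SL3) (a : F) (k : ℕ)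
    (h : (y : Matrix (Fin 3) (Fin 3) F) ^ k = Matrix.scalar (Fin 3) a) :
    y ^ k ∈ Subgroup.center SL3 := by
  rw [Matrix.SpecialLinearGroup.mem_center_iff]
  refine ⟨a, ?_, ?_⟩
  · have hdet : ((y ^ k : SL3) : Matrix (Fin 3) (Fin 3) F).det = 1 := (y ^ k).2
    rw [Matrix.SpecialLinearGroup.coe_pow, h, Matrix.scalar_apply, Matrix.det_diagonal,
      Finset.prod_const, Finset.card_univ] at hdet
    exact hdet
  · rw [Matrix.SpecialLinearGroup.coe_pow, h]

/-- `PSL₃(4)` has no element of order 6 -/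
theorem no_six (hF : Fintype.card F = 4) (x : PSL3) (h6 : x ^ 6 = 1) : x ^ 2 = 1 ∨ x ^ 3 = 1 := by
  haveI : CharP F 2 := charP_two_of_even (by rw [hF])
  obtain ⟨y, rfl⟩ := QuotientGroup.mk_surjective x
  have h6' : y ^ 6 ∈ Subgroup.center SL3 := by
    rw [← QuotientGroup.eq_one_iff, QuotientGroup.mk_pow]; exact h6
  rw [Matrix.SpecialLinearGroup.mem_center_iff] at h6'
  obtain ⟨ζ, hζ, hy6⟩ := h6'
  rw [Fintype.card_fin] at hζ
  rw [Matrix.SpecialLinearGroup.coe_pow] at hy6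
  set Y := (y : Matrix (Fin 3) (Fin 3) F) with hY
  set t : Matrix (Fin 3) (Fin 3) F := Matrix.scalar (Fin 3) ζ * Y ^ 3 with ht
  have hcomm : ∀ M : Matrix (Fin 3) (Fin 3) F, Matrix.scalar (Fin 3) ζ * M = M * Matrix.scalar (Fin 3) ζ :=
    fun M => (Matrix.scalar_commute ζ (fun r' => mul_comm ζ r') M).eq
  have htt : t * t = 1 := by
    have : t * t = Matrix.scalar (Fin 3) ζ * Matrix.scalar (Fin 3) ζ * (Y ^ 3 * Y ^ 3) := by
      rw [ht]
      have e1 : Y ^ 3 * Matrix.scalar (Fin 3) ζ = Matrix.scalar (Fin 3) ζ * Y ^ 3 := (hcomm _).symm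
      calc Matrix.scalar (Fin 3) ζ * Y ^ 3 * (Matrix.scalar (Fin 3) ζ * Y ^ 3)
          = Matrix.scalar (Fin 3) ζ * (Y ^ 3 * Matrix.scalar (Fin 3) ζ) * Y ^ 3 := by
            simp only [Matrix.mul_assoc]
        _ = Matrix.scalar (Fin 3) ζ * (Matrix.scalar (Fin 3) ζ * Y ^ 3) * Y ^ 3 := by rw [e1]
        _ = _ := by simp only [Matrix.mul_assoc]
    rw [this, ← pow_add, ← hy6, ← map_mul, ← map_mul, ← map_one (Matrix.scalar (Fin 3))]
    congr 1
    rw [← hζ]; ring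
  by_cases ht1 : t = 1
  · right
    rw [← QuotientGroup.mk_pow, QuotientGroup.eq_one_iff]
    apply scalar_mem_center y (ζ ^ 2) 3
    have h1 : Matrix.scalar (Fin 3) (ζ ^ 2) * t = Y ^ 3 := by
      rw [ht, ← Matrix.mul_assoc, ← map_mul]
      have : ζ ^ 2 * ζ = 1 := by rw [← hζ]; ring
      rw [this, map_one, Matrix.one_mul]
    rw [← h1, ht1, Matrix.mul_one]
  · left
    have hc : Y * t = t * Y := by
      rw [ht, ← Matrix.mul_assoc, ← hcomm, Matrix.mul_assoc, Matrix.mul_assoc]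
      congr 1
      rw [← pow_succ', ← pow_succ]
    obtain ⟨a, ha, hya⟩ := pow_four_of_comm_transvection hF Y t y.2 htt ht1 hc
    have h4 : y ^ 4 ∈ Subgroup.center SL3 := scalar_mem_center y a 4 hya
    have h4' : ((y : SL3) : PSL3) ^ 4 = 1 := by
      rw [← QuotientGroup.mk_pow, QuotientGroup.eq_one_iff]; exact h4
    have : ((y : SL3) : PSL3) ^ 6 = ((y : SL3) : PSL3) ^ 4 * ((y : SL3) : PSL3) ^ 2 := by
      rw [← pow_add]
    rw [h6, h4', one_mul] at this
    exact this.symm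

end psl3

section psl4

variable {F : Type*} [Field F] [Fintype F]

local notation "SL4" => Matrix.SpecialLinearGroup (Fin 4) F
local notation "PSL4" => Matrix.ProjectiveSpecialLinearGroup (Fin 4) F

/-- an element of order 6 -/
def M6 (F : Type*) [Field F] : Matrix (Fin 4) (Fin 4) F :=
  !![0, 1, 0, 0; 1, 1, 0, 0; 0, 0, 1, 1; 0, 0, 0, 1]

theorem M6_sq [CharP F 2] : M6 F * M6 F = !![1, 1, 0, 0; 1, 0, 0, 0; 0, 0, 1, 0; 0, 0, 0, 1] := by
  have h2 : (1 : F) + 1 = 0 := CharTwo.add_self_eq_zero 1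
  ext i j
  fin_cases i <;> fin_cases j <;> simp [M6, Matrix.mul_apply, Fin.sum_univ_four, h2]

theorem M6_cube [CharP F 2] :
    M6 F * M6 F * M6 F = !![1, 0, 0, 0; 0, 1, 0, 0; 0, 0, 1, 1; 0, 0, 0, 1] := by
  have h2 : (1 : F) + 1 = 0 := CharTwo.add_self_eq_zero 1
  rw [M6_sq]
  ext i j
  fin_cases i <;> fin_cases j <;> simp [M6, Matrix.mul_apply, Fin.sum_univ_four, h2]

theorem M6_six [CharP F 2] : (M6 F) ^ 6 = 1 := by
  have h2 : (1 : F) + 1 = 0 := CharTwo.add_self_eq_zero 1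
  have e : (M6 F) ^ 6 = (M6 F * M6 F * M6 F) * (M6 F * M6 F * M6 F) := by
    simp only [pow_succ, pow_zero, one_mul, Matrix.mul_assoc]
  rw [e, M6_cube]
  ext i j
  fin_cases i <;> fin_cases j <;> simp [Matrix.mul_apply, Fin.sum_univ_four, h2, Matrix.one_apply]

theorem M6_det [CharP F 2] : (M6 F).det = 1 := by
  have h : (M6 F).det ^ 6 = 1 := by rw [← Matrix.det_pow, M6_six, Matrix.det_one]
  have h2 : (1 : F) + 1 = 0 := CharTwo.add_self_eq_zero 1
  rw [M6, Matrix.det_succ_row_zero]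
  simp [Fin.sum_univ_succ, Matrix.det_fin_three, Matrix.submatrix, Fin.succAbove]
  linear_combination (-1 : F) * h2

theorem exists_six (hF : Fintype.card F = 2) : ∃ x : PSL4, x ^ 6 = 1 ∧ x ^ 2 ≠ 1 ∧ x ^ 3 ≠ 1 := by
  haveI : CharP F 2 := charP_two_of_even (by rw [hF])
  let g : SL4 := ⟨M6 F, M6_det⟩
  refine ⟨(g : PSL4), ?_, ?_, ?_⟩
  · rw [← QuotientGroup.mk_pow]
    have : g ^ 6 = 1 := by
      apply Subtype.ext
      rw [Matrix.SpecialLinearGroup.coe_pow, Matrix.SpecialLinearGroup.coe_one]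
      exact M6_six
    rw [this]; rfl
  · rw [← QuotientGroup.mk_pow]
    intro h
    rw [QuotientGroup.eq_one_iff, Matrix.SpecialLinearGroup.mem_center_iff] at h
    obtain ⟨r, -, hr⟩ := h
    have h1 := congrFun (congrFun hr 0) 1
    rw [Matrix.SpecialLinearGroup.coe_pow, pow_two] at h1
    change _ = (M6 F * M6 F) 0 1 at h1
    rw [M6_sq] at h1
    simp at h1
  · rw [← QuotientGroup.mk_pow]
    intro h
    rw [QuotientGroup.eq_one_iff, Matrix.SpecialLinearGroup.mem_center_iff] at h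
    obtain ⟨r, -, hr⟩ := h
    have h1 := congrFun (congrFun hr 2) 3
    rw [Matrix.SpecialLinearGroup.coe_pow, pow_succ, pow_two] at h1
    change _ = (M6 F * M6 F * M6 F) 2 3 at h1
    rw [M6_cube] at h1
    simp at h1

end psl4

end Cfsg.Agent.Lib.Helper4.L34
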