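import Cfsg.Agent.Lib.Helper2.LS1
import Cfsg.Agent.Lib.Helper7.LS2

/-! S5286 piece P4 (helper1 farm): a conjugation map between subgroups of `S` induced by an element of `GG F`
in normal form lies in `F`. -/

set_option autoImplicit false
set_option maxHeartbeats 4000000

namespace Cfsg.Agent.Lib.Helper1.LS

universe u

open Cfsg SemidirectProduct

variable {Ω : Type u} [Group Ω] {S : Subgroup Ω}

theorem ls4_fix (F : FusionSystem S) (g : GS F) (y z : ↥S) (h : emb F y * g = g * emb F z) :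
    psi F (lam S y) g.left = g.left ∧ lam S y * g.right = g.right * lam S z := by
  constructor
  · have := congrArg SemidirectProduct.left h
    rw [mul_emb_left] at this
    simpa [emb] using this
  · have := congrArg SemidirectProduct.right h
    simpa [emb] using this

theorem ls4_smul_mk (F : FusionSystem S) (τ c : Equiv.Perm ↥S) (i : Idx F)
    (h : τ • (⟨i, QuotientGroup.mk c⟩ : X F) = ⟨i, QuotientGroup.mk c⟩) : c⁻¹ * τ * c ∈ Lam F i := by
  rw [smul_X] at h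
  have h2 : τ • (QuotientGroup.mk c : Equiv.Perm ↥S ⧸ Lam F i) = QuotientGroup.mk c := by
    have := Sigma.mk.inj_iff.1 h
    exact eq_of_heq this.2
  have h3 : (QuotientGroup.mk (τ * c) : Equiv.Perm ↥S ⧸ Lam F i) = QuotientGroup.mk c := h2
  rw [QuotientGroup.eq] at h3
  have : c⁻¹ * τ * c = ((τ * c)⁻¹ * c)⁻¹ := by group
  rw [this]; exact inv_mem h3

theorem ls4_letter (F : FusionSystem S) (g0 : GS F) (i : Idx F) (b : Bool)
    (hn : FreeGroup.norm (g0 * tpow F i b).left = FreeGroup.norm g0.left + 1)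
    (τ : Equiv.Perm ↥S) (hfix : psi F τ (g0 * tpow F i b).left = (g0 * tpow F i b).left) :
    τ • letter F g0.right i b = letter F g0.right i b := by
  rw [mul_tpow_left] at hn hfix
  have hw := (norm_mul_lt_iff _ _ _).1 hn
  exact psi_fixed_letters F τ _ hfix (letter F g0.right i b, b) (by rw [hw]; simp)

/-- the common final step: once `φ` is, through `g0`, induced from a map `θ` of the system, the induction
hypothesis applies to `φ ∘ θ⁻¹` on the image of `θ`. -/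
theorem ls4_assemble (F : FusionSystem S) (g0 : GS F)
    (ih : ∀ (P : Subgroup Ω) (hP : P ≤ S) (φ : P →* Ω) (hφ : ∀ x : P, φ x ∈ S),
      (∀ x : P, emb F ⟨φ x, hφ x⟩ = g0 * emb F ⟨x, hP x.2⟩ * g0⁻¹) → φ ∈ F.Hom P)
    (P : Subgroup Ω) (hP : P ≤ S) (φ : P →* Ω) (hφ : ∀ x : P, φ x ∈ S)
    (θ : P →* Ω) (hθ : θ ∈ F.Hom P)
    (hθspec : ∀ x : P, emb F ⟨φ x, hφ x⟩ = g0 * emb F ⟨θ x, (F.le_of_mem hθ).2 x⟩ * g0⁻¹) :
    φ ∈ F.Hom P := by
  obtain ⟨ψ, hψ, hψspec⟩ := F.inv_mem hθ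
  have hP1 : θ.range ≤ S := by
    rintro _ ⟨x, rfl⟩
    exact (F.le_of_mem hθ).2 x
  have hψP : ∀ y : θ.range, ψ y ∈ P := by
    rintro ⟨_, x, rfl⟩
    rw [hψspec x]; exact x.2
  have hφ1 : ∀ y : θ.range, (φ.comp (ψ.codRestrict P hψP)) y ∈ S := fun y => hφ _
  have hval : ∀ x : P, (φ.comp (ψ.codRestrict P hψP)) ⟨θ x, ⟨x, rfl⟩⟩ = φ x := by
    intro x
    have e : (ψ.codRestrict P hψP) ⟨θ x, ⟨x, rfl⟩⟩ = x := Subtype.ext (hψspec x)
    show φ ((ψ.codRestrict P hψP) ⟨θ x, ⟨x, rfl⟩⟩) = φ x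
    rw [e]
  have h1 : ∀ y : θ.range, emb F ⟨(φ.comp (ψ.codRestrict P hψP)) y, hφ1 y⟩ =
      g0 * emb F ⟨y, hP1 y.2⟩ * g0⁻¹ := by
    rintro ⟨_, x, rfl⟩
    have e2 : (⟨(φ.comp (ψ.codRestrict P hψP)) ⟨θ x, ⟨x, rfl⟩⟩, hφ1 ⟨θ x, ⟨x, rfl⟩⟩⟩ : ↥S) =
        ⟨φ x, hφ x⟩ := Subtype.ext (hval x)
    rw [e2, hθspec x]
  have hmem := ih θ.range hP1 (φ.comp (ψ.codRestrict P hψP)) hφ1 h1
  have hθr : ∀ x : P, θ x ∈ θ.range := fun x => ⟨x, rfl⟩
  have hcomp := F.comp_mem hθ hmem hθr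
  have heq : (φ.comp (ψ.codRestrict P hψP)).comp (θ.codRestrict θ.range hθr) = φ := by
    ext x
    exact hval x
  rw [heq] at hcomp
  exact hcomp

theorem hom_of_conj_aux (F : FusionSystem S) [Finite ↥S] (g : GS F) (hg : NF F g) :
    ∀ (P : Subgroup Ω) (hP : P ≤ S) (φ : P →* Ω) (hφ : ∀ x : P, φ x ∈ S),
      (∀ x : P, emb F ⟨φ x, hφ x⟩ = g * emb F ⟨x, hP x.2⟩ * g⁻¹) → φ ∈ F.Hom P := by
  induction hg with
  | base s =>
    intro P hP φ hφ h
    have hφeq : φ = conjHom P (s : Ω) := by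
      ext x
      have h1 := h x
      rw [← map_inv, ← map_mul, ← map_mul] at h1
      have h2 := emb_injective F h1
      have h3 := congrArg Subtype.val h2
      simpa [conjHom] using h3
    rw [hφeq]
    exact F.conj_mem hP s.2
  | step g0 i b s hg0 hn ih =>
    intro P hP φ hφ h
    -- conjugating by `emb s` first
    have h' : ∀ x : P, emb F ⟨φ x, hφ x⟩ * (g0 * tpow F i b) =
        (g0 * tpow F i b) * emb F (s * ⟨x, hP x.2⟩ * s⁻¹) := by
      intro x
      rw [h x, map_mul, map_mul, map_inv]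
      group
    have hfix : ∀ x : P, lam S ⟨φ x, hφ x⟩ • letter F g0.right i b = letter F g0.right i b ∧
        lam S ⟨φ x, hφ x⟩ * (g0 * tpow F i b).right =
          (g0 * tpow F i b).right * lam S (s * ⟨x, hP x.2⟩ * s⁻¹) := by
      intro x
      obtain ⟨h1, h2⟩ := ls4_fix F _ _ _ (h' x)
      exact ⟨ls4_letter F g0 i b hn _ h1, h2⟩
    have hconj : ∀ x : P, emb F ⟨φ x, hφ x⟩ =
        g0 * (tpow F i b * emb F (s * ⟨x, hP x.2⟩ * s⁻¹) * (tpow F i b)⁻¹) * g0⁻¹ := by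
      intro x
      have := h' x
      calc emb F ⟨φ x, hφ x⟩ = emb F ⟨φ x, hφ x⟩ * (g0 * tpow F i b) * (g0 * tpow F i b)⁻¹ := by group
        _ = (g0 * tpow F i b) * emb F (s * ⟨x, hP x.2⟩ * s⁻¹) * (g0 * tpow F i b)⁻¹ := by rw [this]
        _ = _ := by group
    cases b with
    | true =>
      -- `s x s⁻¹ ∈ P_i`
      have hmem : ∀ x : P, ((s * ⟨x, hP x.2⟩ * s⁻¹ : ↥S) : Ω) ∈ i.1 := by
        intro x
        obtain ⟨h1, h2⟩ := hfix x
        rw [mul_tpow_right] at h2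
        simp only [if_true] at h2
        have h3 : letter F g0.right i true = ⟨i, QuotientGroup.mk (g0.right * sig F i)⟩ := by
          simp [letter]
        rw [h3] at h1
        have h4 := ls4_smul_mk F _ _ i h1
        have h5 : (g0.right * sig F i)⁻¹ * lam S ⟨φ x, hφ x⟩ * (g0.right * sig F i) =
            lam S (s * ⟨x, hP x.2⟩ * s⁻¹) := by
          rw [mul_assoc, h2]; group
        rw [h5] at h4
        exact (lam_mem_Lam_iff F i _).1 h4
      have hcs : ∀ x : P, conjHom P (s : Ω) x ∈ i.1 := by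
        intro x
        have := hmem x
        simpa [conjHom] using this
      have hθ := F.comp_mem (F.conj_mem hP s.2) i.2.2 hcs
      refine ls4_assemble F g0 ih P hP φ hφ _ hθ ?_
      intro x
      rw [hconj x]
      have hφi : i.2.1 ⟨((s * ⟨x, hP x.2⟩ * s⁻¹ : ↥S) : Ω), hmem x⟩ ∈ S := (F.le_of_mem i.2.2).2 _
      have htt := tt_conj F i ⟨((s * ⟨x, hP x.2⟩ * s⁻¹ : ↥S) : Ω), hmem x⟩ (s * ⟨x, hP x.2⟩ * s⁻¹ : ↥S).2 hφi
      have e1 : tpow F i true = tt F i := by simp [tpow]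
      rw [e1]
      have e2 : (⟨((s * ⟨x, hP x.2⟩ * s⁻¹ : ↥S) : Ω), (s * ⟨x, hP x.2⟩ * s⁻¹ : ↥S).2⟩ : ↥S) =
          s * ⟨x, hP x.2⟩ * s⁻¹ := rfl
      rw [e2] at htt
      rw [htt]
      congr 3
    | false =>
      have hmem : ∀ x : P, ∃ z : i.1, i.2.1 z = ((s * ⟨x, hP x.2⟩ * s⁻¹ : ↥S) : Ω) := by
        intro x
        obtain ⟨h1, h2⟩ := hfix x
        rw [mul_tpow_right] at h2
        simp only [Bool.false_eq_true, if_false] at h2
        have h3 : letter F g0.right i false = ⟨i, QuotientGroup.mk g0.right⟩ := by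
          simp [letter]
        rw [h3] at h1
        have h4 := ls4_smul_mk F _ _ i h1
        have h5 : g0.right⁻¹ * lam S ⟨φ x, hφ x⟩ * g0.right =
            (sig F i)⁻¹ * lam S (s * ⟨x, hP x.2⟩ * s⁻¹) * sig F i := by
          have : lam S ⟨φ x, hφ x⟩ * g0.right =
              g0.right * (sig F i)⁻¹ * lam S (s * ⟨x, hP x.2⟩ * s⁻¹) * sig F i := by
            calc lam S ⟨φ x, hφ x⟩ * g0.right
                = lam S ⟨φ x, hφ x⟩ * (g0.right * (sig F i)⁻¹) * sig F i := by group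
              _ = g0.right * (sig F i)⁻¹ * lam S (s * ⟨x, hP x.2⟩ * s⁻¹) * sig F i := by rw [h2]
          rw [mul_assoc, this]; group
        rw [h5] at h4
        exact (sig_conj_mem_Lam_iff F i _).1 h4
      obtain ⟨ψi, hψi, hψispec⟩ := F.inv_mem i.2.2
      have hcs : ∀ x : P, conjHom P (s : Ω) x ∈ (i.2.1).range := by
        intro x
        obtain ⟨z, hz⟩ := hmem x
        refine ⟨z, ?_⟩
        rw [hz]
        simp [conjHom]
      have hθ := F.comp_mem (F.conj_mem hP s.2) hψi hcs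
      refine ls4_assemble F g0 ih P hP φ hφ _ hθ ?_
      intro x
      rw [hconj x]
      obtain ⟨z, hz⟩ := hmem x
      have hzS : (z : Ω) ∈ S := (F.le_of_mem i.2.2).1 z.2
      have hφz : i.2.1 z ∈ S := (F.le_of_mem i.2.2).2 z
      have htt := tt_conj F i z hzS hφz
      have e1 : tpow F i false = (tt F i)⁻¹ := by simp [tpow]
      rw [e1]
      have e2 : (⟨i.2.1 z, hφz⟩ : ↥S) = s * ⟨x, hP x.2⟩ * s⁻¹ := Subtype.ext hz
      rw [e2] at htt
      have e3 : (tt F i)⁻¹ * emb F (s * ⟨x, hP x.2⟩ * s⁻¹) * (tt F i)⁻¹⁻¹ = emb F ⟨z, hzS⟩ := by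
        rw [← htt]; group
      rw [e3]
      -- the value of θ at x is z
      have e4 : (ψi.comp ((conjHom P (s : Ω)).codRestrict (i.2.1).range hcs)) x = (z : Ω) := by
        have e5 : ((conjHom P (s : Ω)).codRestrict (i.2.1).range hcs) x = ⟨i.2.1 z, ⟨z, rfl⟩⟩ := by
          apply Subtype.ext
          show conjHom P (s : Ω) x = i.2.1 z
          rw [hz]
          simp [conjHom]
        show ψi (((conjHom P (s : Ω)).codRestrict (i.2.1).range hcs) x) = (z : Ω)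
        rw [e5, hψispec z]
      have e6 : (⟨(ψi.comp ((conjHom P (s : Ω)).codRestrict (i.2.1).range hcs)) x,
          (F.le_of_mem hθ).2 x⟩ : ↥S) = ⟨z, hzS⟩ := Subtype.ext e4
      rw [e6]

theorem hom_of_conj (F : FusionSystem S) [Finite ↥S] (g : GS F) (hg : NF F g) (P : Subgroup Ω) (hP : P ≤ S)
    (φ : P →* Ω) (hφ : ∀ x : P, φ x ∈ S)
    (h : ∀ x : P, emb F ⟨φ x, hφ x⟩ = g * emb F ⟨x, hP x.2⟩ * g⁻¹) : φ ∈ F.Hom P :=
  hom_of_conj_aux F g hg P hP φ hφ h

end Cfsg.Agent.Lib.Helper1.LS
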