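import Mathlib

namespace Cfsg.Agent.Lib.Helper4.LangGL

open Polynomial

section Poly

variable {K : Type*} [Field K]

/-- auxiliary polynomials -/
noncomputable def Dpoly (q : ℕ) (a : ℕ → K) : ℕ → K[X]
  | 0 => 0
  | (i+1) => X ^ (q * (q - 1)) * (Dpoly q a i) ^ q + C (a i)

noncomputable def esq (q : ℕ) (a : ℕ → K) (t : K) (i : ℕ) : K :=
  t ^ q * (Dpoly q a i).eval t

theorem esq_zero (q : ℕ) (a : ℕ → K) (t : K) : esq q a t 0 = 0 := by simp [esq, Dpoly]

theorem esq_succ {q : ℕ} (hq : 1 ≤ q) (a : ℕ → K) (t : K) (i : ℕ) :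
    esq q a t (i+1) = (esq q a t i) ^ q + t ^ q * a i := by
  simp only [esq, Dpoly, eval_add, eval_mul, eval_pow, eval_X, eval_C]
  have h1 : t ^ q * t ^ (q * (q - 1)) = (t ^ q) ^ q := by
    rw [← pow_mul, ← pow_add]
    congr 1
    obtain ⟨k, rfl⟩ : ∃ k, q = k + 1 := ⟨q - 1, by omega⟩
    simp only [Nat.add_sub_cancel]
    ring
  rw [mul_pow, ← h1]
  ring

theorem Dpoly_ne_zero {q : ℕ} (hq : 2 ≤ q) (a : ℕ → K) (i : ℕ) (h : ∃ j < i, a j ≠ 0) :
    Dpoly q a i ≠ 0 := by
  induction i with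
  | zero => obtain ⟨j, hj, _⟩ := h; omega
  | succ i ih =>
    have hpos : q * (q - 1) ≠ 0 := by
      have : 1 ≤ q - 1 := by omega
      positivity
    by_cases hai : a i = 0
    · have : ∃ j < i, a j ≠ 0 := by
        obtain ⟨j, hj, hja⟩ := h
        refine ⟨j, ?_, hja⟩
        rcases Nat.lt_succ_iff_lt_or_eq.1 hj with h1 | h1
        · exact h1
        · subst h1; exact absurd hai hja
      have hD := ih this
      simp only [Dpoly, hai, map_zero, add_zero]
      exact mul_ne_zero (pow_ne_zero _ X_ne_zero) (pow_ne_zero _ hD)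
    · intro h0
      have := congrArg (fun p => p.coeff 0) h0
      simp only [Dpoly, coeff_add, mul_coeff_zero, coeff_X_pow, coeff_C_zero, coeff_zero] at this
      rw [if_neg (by omega)] at this
      simp at this
      exact hai this

theorem exists_root_esq [IsAlgClosed K] {q : ℕ} (hq : 2 ≤ q) (a : ℕ → K) (m : ℕ)
    (h : ∃ j < m, a j ≠ 0) : ∃ t : K, t ≠ 0 ∧ esq q a t m = t := by
  have hD := Dpoly_ne_zero hq a m h
  set R : K[X] := X ^ (q - 1) * Dpoly q a m - 1 with hR
  have hdeg : R.degree ≠ 0 := by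
    have h1 : (1 : K[X]).degree < (X ^ (q - 1) * Dpoly q a m).degree := by
      rw [degree_one, degree_mul, degree_X_pow]
      have : (0 : WithBot ℕ) ≤ (Dpoly q a m).degree := by
        rw [← not_lt, ← Nat.WithBot.lt_zero_iff.not.symm]
        · rwa [Ne, degree_eq_bot] at *
      have h2 : ((1 : ℕ) : WithBot ℕ) ≤ ((q - 1 : ℕ) : WithBot ℕ) := by
        exact_mod_cast (by omega : 1 ≤ q - 1)
      calc (0 : WithBot ℕ) < ((1 : ℕ) : WithBot ℕ) := by exact_mod_cast Nat.zero_lt_one
        _ ≤ ((q - 1 : ℕ) : WithBot ℕ) := h2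
        _ = ((q - 1 : ℕ) : WithBot ℕ) + 0 := by simp
        _ ≤ _ := by gcongr
    rw [hR, degree_sub_eq_left_of_degree_lt h1]
    intro h0
    rw [h0, degree_one] at h1
    exact lt_irrefl _ h1
  obtain ⟨t, ht⟩ := IsAlgClosed.exists_root R hdeg
  have ht' : t ^ (q - 1) * (Dpoly q a m).eval t = 1 := by
    have := ht
    simp only [hR, IsRoot.def, eval_sub, eval_mul, eval_pow, eval_X, eval_one] at this
    exact sub_eq_zero.1 this
  refine ⟨t, ?_, ?_⟩
  · rintro rfl
    rw [zero_pow (by omega), zero_mul] at ht'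
    exact zero_ne_one ht'
  · have : t ^ q = t * t ^ (q - 1) := by
      rw [← pow_succ']
      congr 1
      omega
    rw [esq, this, mul_assoc, ht', mul_one]

end Poly

section LemmaA

variable {K : Type*} [Field K] [IsAlgClosed K] {V : Type*} [AddCommGroup V] [Module K V]
  [FiniteDimensional K V] {σ : K →+* K} {q : ℕ}

theorem exists_fixed [Nontrivial V] (hq : 2 ≤ q) (hσ : ∀ c, σ c = c ^ q) (φ : V →ₛₗ[σ] V)
    (hφ : Function.Injective φ) : ∃ w : V, w ≠ 0 ∧ φ w = w := by
  classical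
  obtain ⟨v, hv⟩ := exists_ne (0 : V)
  let P : ℕ → Prop := fun m =>
    (⇑φ)^[m] v ∈ Submodule.span K (Set.range fun i : Fin m => (⇑φ)^[(i : ℕ)] v)
  have hstep : ∀ k, (∀ j < k, ¬ P j) →
      LinearIndependent K (fun i : Fin k => (⇑φ)^[(i : ℕ)] v) := by
    intro k
    induction k with
    | zero => intro _; exact linearIndependent_empty_type
    | succ k ih =>
      intro h
      rw [linearIndependent_finSucc']
      exact ⟨ih (fun j hj => h j (by omega)), h k (by omega)⟩
  have hex : ∃ m, P m := by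
    by_contra hno
    push Not at hno
    have := (hstep (Module.finrank K V + 1) (fun j _ => hno j)).fintype_card_le_finrank
    simp at this
  let m := Nat.find hex
  have hm : P m := Nat.find_spec hex
  have hli : LinearIndependent K (fun i : Fin m => (⇑φ)^[(i : ℕ)] v) :=
    hstep m (fun j hj => Nat.find_min hex hj)
  obtain ⟨a', ha'⟩ := (Submodule.mem_span_range_iff_exists_fun K).1 hm
  let a : ℕ → K := fun i => if h : i < m then a' ⟨i, h⟩ else 0
  have hsum : ∑ i ∈ Finset.range m, a i • (⇑φ)^[i] v = (⇑φ)^[m] v := by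
    rw [Finset.sum_range, ← ha']
    refine Finset.sum_congr rfl (fun i _ => ?_)
    simp [a]
  have hiter0 : ∀ k, (⇑φ)^[k] v ≠ 0 := by
    intro k
    induction k with
    | zero => simpa using hv
    | succ k ih =>
      rw [Function.iterate_succ_apply']
      intro h0
      exact ih (hφ (by rw [h0, map_zero]))
  have hane : ∃ j < m, a j ≠ 0 := by
    by_contra hno
    push Not at hno
    have : ∑ i ∈ Finset.range m, a i • (⇑φ)^[i] v = 0 := by
      refine Finset.sum_eq_zero (fun i hi => ?_)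
      rw [hno i (Finset.mem_range.1 hi), zero_smul]
    rw [hsum] at this
    exact hiter0 m this
  have hq1 : 1 ≤ q := by omega
  obtain ⟨t, ht0, ht⟩ := exists_root_esq hq a m hane
  have hm0 : m ≠ 0 := by
    obtain ⟨j, hj, _⟩ := hane
    omega
  set e : ℕ → K := esq q a t with he
  refine ⟨∑ i ∈ Finset.range m, e (i + 1) • (⇑φ)^[i] v, ?_, ?_⟩
  · intro h0
    rw [Finset.sum_range] at h0
    have := Fintype.linearIndependent_iff.1 hli (fun i : Fin m => e ((i : ℕ) + 1)) h0
      ⟨m - 1, by omega⟩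
    simp only at this
    rw [show m - 1 + 1 = m by omega, ht] at this
    exact ht0 this
  · -- φ w = w
    have h1 : φ (∑ i ∈ Finset.range m, e (i + 1) • (⇑φ)^[i] v)
        = ∑ i ∈ Finset.range m, (e (i + 1)) ^ q • (⇑φ)^[i + 1] v := by
      rw [map_sum]
      refine Finset.sum_congr rfl (fun i _ => ?_)
      rw [map_smulₛₗ, hσ, Function.iterate_succ_apply']
    have h2 : ∑ i ∈ Finset.range m, e (i + 1) • (⇑φ)^[i] v
        = ∑ i ∈ Finset.range m, (e i) ^ q • (⇑φ)^[i] v + t ^ q • (⇑φ)^[m] v := by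
      rw [← hsum, Finset.smul_sum, ← Finset.sum_add_distrib]
      refine Finset.sum_congr rfl (fun i _ => ?_)
      rw [he, esq_succ hq1, add_smul, smul_smul]
    have h3 : t ^ q • (⇑φ)^[m] v = (e m) ^ q • (⇑φ)^[m] v := by rw [ht]
    rw [h1, h2, h3, ← Finset.sum_range_succ (fun i => (e i) ^ q • (⇑φ)^[i] v),
      Finset.sum_range_succ' (fun i => (e i) ^ q • (⇑φ)^[i] v)]
    simp only [he, esq_zero, zero_pow (by omega : q ≠ 0), zero_smul, add_zero]

end LemmaA

end Cfsg.Agent.Lib.Helper4.LangGL
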