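import Mathlib
import Cfsg.Agent.Lib.Helper4.LangGL1

namespace Cfsg.Agent.Lib.Helper4.LangGL

open Polynomial

section Span

variable {K : Type*} [Field K] [IsAlgClosed K] {V : Type*} [AddCommGroup V] [Module K V]
  [FiniteDimensional K V] {σ : K →+* K} {q : ℕ}

theorem exists_artin_schreier (hq : 2 ≤ q) (r : K) : ∃ e : K, e ^ q - e = r := by
  have hdeg : (X ^ q - X - C r : K[X]).degree ≠ 0 := by
    have h1 : (X ^ q - X - C r : K[X]) = X ^ q - (X + C r) := by ring
    have h2 : (X + C r : K[X]).degree < (X ^ q : K[X]).degree := by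
      rw [degree_X_pow, degree_X_add_C]
      exact_mod_cast (by omega : 1 < q)
    rw [h1, degree_sub_eq_left_of_degree_lt h2, degree_X_pow]
    exact_mod_cast (by omega : q ≠ 0)
  obtain ⟨e, he⟩ := IsAlgClosed.exists_root _ hdeg
  refine ⟨e, ?_⟩
  simp only [IsRoot.def, eval_sub, eval_pow, eval_X, eval_C] at he
  exact sub_eq_zero.1 he

theorem span_fixed_eq_top (hq : 2 ≤ q) (hσ : ∀ c, σ c = c ^ q) (φ : V →ₛₗ[σ] V)
    (hφ : Function.Injective φ) : Submodule.span K {w : V | φ w = w} = ⊤ := by
  set U := Submodule.span K {w : V | φ w = w} with hU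
  have hstab : U ≤ U.comap φ := by
    refine Submodule.span_le.2 (fun w hw => ?_)
    simp only [Submodule.comap_coe, Set.mem_preimage, SetLike.mem_coe]
    rw [show φ w = w from hw]
    exact Submodule.subset_span hw
  have hsurj1 : ∀ u ∈ U, ∃ u' ∈ U, φ u' = u := by
    intro u hu
    induction hu using Submodule.closure_induction with
    | zero => exact ⟨0, U.zero_mem, map_zero φ⟩
    | add x y _ _ hx hy =>
      obtain ⟨x', hx', rfl⟩ := hx
      obtain ⟨y', hy', rfl⟩ := hy
      exact ⟨x' + y', U.add_mem hx' hy', map_add φ x' y'⟩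
    | smul_mem r x hx =>
      obtain ⟨r', hr'⟩ := IsAlgClosed.exists_pow_nat_eq r (by omega : 0 < q)
      refine ⟨r' • x, U.smul_mem _ (Submodule.subset_span hx), ?_⟩
      rw [map_smulₛₗ, hσ, hr', show φ x = x from hx]
  have hsurj2 : ∀ u ∈ U, ∃ u' ∈ U, φ u' - u' = u := by
    intro u hu
    induction hu using Submodule.closure_induction with
    | zero => exact ⟨0, U.zero_mem, by simp⟩
    | add x y _ _ hx hy =>
      obtain ⟨x', hx', rfl⟩ := hx
      obtain ⟨y', hy', rfl⟩ := hy
      exact ⟨x' + y', U.add_mem hx' hy', by rw [map_add]; abel⟩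
    | smul_mem r x hx =>
      obtain ⟨e, he⟩ := exists_artin_schreier hq r
      refine ⟨e • x, U.smul_mem _ (Submodule.subset_span hx), ?_⟩
      rw [map_smulₛₗ, hσ, show φ x = x from hx, ← sub_smul, he]
  by_contra hne
  have hlt : U < ⊤ := lt_top_iff_ne_top.2 hne
  haveI : Nontrivial (V ⧸ U) := Submodule.Quotient.nontrivial_iff.2 hne
  let φbar : (V ⧸ U) →ₛₗ[σ] (V ⧸ U) := U.mapQ U φ hstab
  have hinj : Function.Injective φbar := by
    rw [injective_iff_map_eq_zero]
    intro x hx
    obtain ⟨x', rfl⟩ := Submodule.Quotient.mk_surjective U x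
    rw [Submodule.mapQ_apply, Submodule.Quotient.mk_eq_zero] at hx
    obtain ⟨u', hu', hu'x⟩ := hsurj1 _ hx
    rw [Submodule.Quotient.mk_eq_zero, ← hφ hu'x]
    exact hu'
  obtain ⟨w, hw0, hw⟩ := exists_fixed hq hσ φbar hinj
  obtain ⟨w', rfl⟩ := Submodule.Quotient.mk_surjective U w
  rw [Submodule.mapQ_apply, ← sub_eq_zero, ← Submodule.Quotient.mk_sub,
    Submodule.Quotient.mk_eq_zero] at hw
  obtain ⟨u', hu', hu'x⟩ := hsurj2 _ hw
  have hfix : φ (w' - u') = w' - u' := by
    rw [map_sub]
    have : φ w' - φ u' - (w' - u') = (φ w' - w') - (φ u' - u') := by abel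
    rw [← sub_eq_zero, this, hu'x, sub_self]
  have hmem : w' - u' ∈ U := Submodule.subset_span hfix
  apply hw0
  rw [Submodule.Quotient.mk_eq_zero]
  have := U.add_mem hmem hu'
  simpa using this

end Span

section Matrix

variable {K : Type*} [Field K] [IsAlgClosed K] {n : ℕ}

theorem lang_matrix {q : ℕ} (hq : 2 ≤ q) (σ : K →+* K) (hσ : ∀ c, σ c = c ^ q)
    (g : GL (Fin n) K) :
    ∃ x : GL (Fin n) K, g = x * (Matrix.GeneralLinearGroup.map σ x)⁻¹ := by
  classical
  let φ : (Fin n → K) →ₛₗ[σ] (Fin n → K) :=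
    { toFun := fun v => (g : Matrix (Fin n) (Fin n) K).mulVec (fun i => σ (v i))
      map_add' := by
        intro v w
        rw [← Matrix.mulVec_add]
        congr 1
        funext i
        simp
      map_smul' := by
        intro c v
        rw [← Matrix.mulVec_smul]
        congr 1
        funext i
        simp }
  have hφ_apply : ∀ v, φ v = (g : Matrix (Fin n) (Fin n) K).mulVec (fun i => σ (v i)) :=
    fun _ => rfl
  have hφ : Function.Injective φ := by
    intro v w hvw
    rw [hφ_apply, hφ_apply] at hvw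
    have h1 := (Matrix.mulVec_injective_iff_isUnit.2 (Units.isUnit g)) hvw
    funext i
    exact σ.injective (congrFun h1 i)
  have hspan := span_fixed_eq_top hq hσ φ hφ
  obtain ⟨b, hbS, hbsp, hbli⟩ := exists_linearIndependent K {w : Fin n → K | φ w = w}
  rw [hspan] at hbsp
  let B := Module.Basis.mk hbli (by rw [Subtype.range_coe]; exact hbsp.ge)
  haveI : Fintype b := FiniteDimensional.fintypeBasisIndex B
  have hcard : Fintype.card b = n := by
    rw [← Module.finrank_eq_card_basis B]; simp
  let e : Fin n ≃ b := (Fintype.equivFinOfCardEq hcard).symm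
  let A : Matrix (Fin n) (Fin n) K := Matrix.of fun i j => (e j : Fin n → K) i
  have hA : IsUnit A := by
    rw [← Matrix.linearIndependent_cols_iff_isUnit]
    exact hbli.comp e e.injective
  have hfix : ∀ j, φ (e j : Fin n → K) = (e j : Fin n → K) := fun j => hbS (e j).2
  have hAeq : A = (g : Matrix (Fin n) (Fin n) K) * A.map σ := by
    ext i j
    have := congrFun (hfix j) i
    rw [hφ_apply] at this
    rw [Matrix.mul_apply]
    simp only [Matrix.mulVec, dotProduct] at this
    simp only [A, Matrix.of_apply, Matrix.map_apply]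
    exact this.symm
  refine ⟨hA.unit, ?_⟩
  rw [eq_mul_inv_iff_mul_eq]
  apply Units.ext
  rw [Units.val_mul]
  simp only [Matrix.GeneralLinearGroup.map_apply, IsUnit.unit_spec]
  exact hAeq.symm

end Matrix

end Cfsg.Agent.Lib.Helper4.LangGL
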