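import Cfsg.Agent.Lib.Helper9.Golay1

set_option autoImplicit false

namespace Cfsg.Agent.Lib.Helper4.Leech

open Cfsg Finset
open Cfsg.Agent.Lib.Helper9.Golay1

theorem mem_supports_iff {ι : Type*} [Fintype ι] [DecidableEq ι] (C : Set (ι → ZMod 2))
    (s : Finset ι) : s ∈ supports C ↔ ind s ∈ C := by
  constructor
  · rintro ⟨w, hw, rfl⟩
    rw [← supp_eq_support₂, ind_supp]
    exact hw
  · intro h
    exact ⟨ind s, h, by rw [← supp_eq_support₂, supp_ind]⟩

/-- the level set of an integer vector mod 4 -/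
def lev (x : GolayPt → ℤ) (k : ℤ) : Finset GolayPt :=
  Finset.univ.filter fun i => x i ≡ k [ZMOD 4]

theorem mem_lev {x : GolayPt → ℤ} {k : ℤ} {i : GolayPt} : i ∈ lev x k ↔ x i ≡ k [ZMOD 4] := by
  simp [lev]

theorem mem_leechSet_iff (x : GolayPt → ℤ) :
    x ∈ leechSet ↔ ∃ m : ℤ, (∀ i, x i ≡ m [ZMOD 2]) ∧ (∑ i, x i ≡ 4 * m [ZMOD 8]) ∧
      ∀ k : ℤ, ind (lev x k) ∈ golayCode := by
  unfold leechSet
  simp only [Set.mem_ofPred_eq, mem_supports_iff]
  rfl

theorem ind_empty {ι : Type*} [Fintype ι] [DecidableEq ι] : ind (∅ : Finset ι) = 0 := by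
  ext i; simp [ind]

theorem ind_univ {ι : Type*} [Fintype ι] [DecidableEq ι] : ind (Finset.univ : Finset ι) = 1 := by
  ext i; simp [ind]

theorem one_mem_golay : (1 : GolayPt → ZMod 2) ∈ golayCode :=
  Submodule.subset_span (Or.inr rfl)

/-- Key pointwise identity. -/
theorem ind_lev_add (x y : GolayPt → ℤ) (m m' k : ℤ) (hx : ∀ i, x i ≡ m [ZMOD 2])
    (hy : ∀ i, y i ≡ m' [ZMOD 2]) (hk : k ≡ m + m' [ZMOD 2]) :
    ind (lev (x + y) k) = 1 + ind (lev x m) + ind (lev y (k - m)) := by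
  ext i
  have h1 := hx i
  have h2 := hy i
  simp only [ind, mem_lev, Pi.add_apply, Pi.one_apply]
  unfold Int.ModEq at *
  by_cases c1 : (x i + y i) % 4 = k % 4 <;> by_cases c2 : x i % 4 = m % 4 <;>
    by_cases c3 : y i % 4 = (k - m) % 4 <;> simp only [c1, c2, c3, if_true, if_false] <;>
    first | decide | (exfalso; omega)

theorem lev_add_empty (x y : GolayPt → ℤ) (m m' k : ℤ) (hx : ∀ i, x i ≡ m [ZMOD 2])
    (hy : ∀ i, y i ≡ m' [ZMOD 2]) (hk : ¬ k ≡ m + m' [ZMOD 2]) :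
    lev (x + y) k = ∅ := by
  ext i
  have h1 := hx i
  have h2 := hy i
  simp only [mem_lev, Pi.add_apply, Finset.notMem_empty, iff_false]
  unfold Int.ModEq at *
  omega

theorem leechSet_add {x y : GolayPt → ℤ} (hx : x ∈ leechSet) (hy : y ∈ leechSet) :
    x + y ∈ leechSet := by
  rw [mem_leechSet_iff] at *
  obtain ⟨m, hm1, hm2, hm3⟩ := hx
  obtain ⟨m', hm1', hm2', hm3'⟩ := hy
  refine ⟨m + m', fun i => (hm1 i).add (hm1' i), ?_, fun k => ?_⟩
  · simp only [Pi.add_apply, Finset.sum_add_distrib]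
    rw [mul_add]
    exact hm2.add hm2'
  · by_cases hk : k ≡ m + m' [ZMOD 2]
    · rw [ind_lev_add x y m m' k hm1 hm1' hk]
      exact golayCode.add_mem (golayCode.add_mem one_mem_golay (hm3 m)) (hm3' (k - m))
    · rw [lev_add_empty x y m m' k hm1 hm1' hk, ind_empty]
      exact golayCode.zero_mem

theorem lev_zero_eq (k : ℤ) : lev 0 k = if (0 : ℤ) ≡ k [ZMOD 4] then Finset.univ else ∅ := by
  ext i
  by_cases h : (0 : ℤ) ≡ k [ZMOD 4] <;> simp [mem_lev, h]

theorem leechSet_zero : (0 : GolayPt → ℤ) ∈ leechSet := by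
  rw [mem_leechSet_iff]
  refine ⟨0, fun i => Int.ModEq.refl _, by simp, fun k => ?_⟩
  rw [lev_zero_eq]
  split_ifs
  · rw [ind_univ]; exact one_mem_golay
  · rw [ind_empty]; exact golayCode.zero_mem

theorem lev_neg (x : GolayPt → ℤ) (k : ℤ) : lev (-x) k = lev x (-k) := by
  ext i
  simp only [mem_lev, Pi.neg_apply]
  unfold Int.ModEq
  omega

theorem leechSet_neg {x : GolayPt → ℤ} (hx : x ∈ leechSet) : -x ∈ leechSet := by
  rw [mem_leechSet_iff] at *
  obtain ⟨m, hm1, hm2, hm3⟩ := hx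
  refine ⟨-m, fun i => (hm1 i).neg, ?_, fun k => ?_⟩
  · simp only [Pi.neg_apply, Finset.sum_neg_distrib]
    rw [mul_neg]
    exact hm2.neg
  · rw [lev_neg]
    exact hm3 _

/-- `leechSet` as an additive subgroup. -/
def leechSub : AddSubgroup (GolayPt → ℤ) where
  carrier := leechSet
  add_mem' := leechSet_add
  zero_mem' := leechSet_zero
  neg_mem' := leechSet_neg

theorem leechLattice_eq : leechLattice = leechSub := by
  unfold leechLattice
  apply le_antisymm
  · rw [AddSubgroup.closure_le]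
    exact fun x hx => hx
  · exact fun x hx => AddSubgroup.subset_closure hx

theorem mem_leechLattice_iff (x : GolayPt → ℤ) : x ∈ leechLattice ↔ x ∈ leechSet := by
  rw [leechLattice_eq]; rfl

end Cfsg.Agent.Lib.Helper4.Leech
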