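import Mathlib
import Cfsg.Agent.Lib.Helper4.M11k

/-! The ten characters of a simple group of order `7920` with their block relations and their
values at involutions. -/

set_option autoImplicit false
set_option linter.unusedSectionVars false
set_option linter.unusedVariables false
set_option linter.style.longLine false
set_option linter.unusedSimpArgs false
set_option linter.unusedDecidableInType false

set_option maxHeartbeats 3200000

namespace Cfsg.Agent.Lib.Helper4.M11

open Cfsg Cfsg.Agent.Lib.Helper6 Module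
open Cfsg.Agent.Lib.Lead Cfsg.Agent.Lib.Lead.SylowCount Cfsg.Agent.Lib.Lead.SmallSimple2
  Cfsg.Agent.Lib.Helper7.CountTools Cfsg.Agent.Lib.Helper7.SylPar Cfsg.Agent.Lib.Helper4.Ord5040
  Cfsg.Agent.Lib.Helper5.BrauerSmall
open scoped ComplexConjugate

/-- the ten irreducible characters with their block relations -/
structure TenData (G : Type*) [Group G] [Fintype G] [Fintype (Cfsg.IrrCharacter G)] where
  a : Cfsg.IrrCharacter G
  b : Cfsg.IrrCharacter G
  c : Cfsg.IrrCharacter G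
  θ1 : Cfsg.IrrCharacter G
  θ2 : Cfsg.IrrCharacter G
  χ45 : Cfsg.IrrCharacter G
  χ11 : Cfsg.IrrCharacter G
  χ44 : Cfsg.IrrCharacter G
  χ55 : Cfsg.IrrCharacter G
  one_a : (a : G → ℂ) 1 = 10
  one_b : (b : G → ℂ) 1 = 10
  one_c : (c : G → ℂ) 1 = 10
  one_θ1 : (θ1 : G → ℂ) 1 = 16
  one_θ2 : (θ2 : G → ℂ) 1 = 16
  one_45 : (χ45 : G → ℂ) 1 = 45
  one_11 : (χ11 : G → ℂ) 1 = 11
  one_44 : (χ44 : G → ℂ) 1 = 44
  one_55 : (χ55 : G → ℂ) 1 = 55
  split : ∀ F : Cfsg.IrrCharacter G → ℂ, ∑ χ, F χ = F (oneIrr G) + F a + F b + F c + F θ1 +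
    F θ2 + F χ45 + F χ11 + F χ44 + F χ55
  r11 : ∀ g : G, ¬ 11 ∣ orderOf g →
    (θ1 : G → ℂ) g = 1 + (χ45 : G → ℂ) g - ((a : G → ℂ) g + (b : G → ℂ) g + (c : G → ℂ) g) ∧
    (θ2 : G → ℂ) g = 1 + (χ45 : G → ℂ) g - ((a : G → ℂ) g + (b : G → ℂ) g + (c : G → ℂ) g)
  r5 : ∀ g : G, ¬ 5 ∣ orderOf g →
    1 + (χ11 : G → ℂ) g + (θ1 : G → ℂ) g + (θ2 : G → ℂ) g - (χ44 : G → ℂ) g = 0
  v11 : ∀ x : G, orderOf x = 11 → (a : G → ℂ) x = -1 ∧ (b : G → ℂ) x = -1 ∧ (c : G → ℂ) x = -1 ∧
    (χ45 : G → ℂ) x = 1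

section main

variable {G : Type*} [Group G] [Fintype G]

set_option maxRecDepth 4000 in
/-- the ten characters with the block relations for the primes `11` and `5` -/
theorem exists_tenData [IsSimpleGroup G] (hG : Nat.card G = 7920)
    [Fintype (Cfsg.IrrCharacter G)] [DecidableEq (Cfsg.IrrCharacter G)] :
    Nonempty (TenData G) := by
  classical
  haveI : Fact (Nat.Prime 11) := ⟨by norm_num⟩
  haveI : Fact (Nat.Prime 5) := ⟨by norm_num⟩
  obtain ⟨d, hd⟩ : ∃ d : Cfsg.IrrCharacter G → ℕ,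
      ∀ χ : Cfsg.IrrCharacter G, Cfsg.charDegree (χ : G → ℂ) = d χ :=
    ⟨fun χ => Cfsg.charDegree (χ : G → ℂ), fun _ => rfl⟩
  obtain ⟨a, b, c, θ1, θ2, χ45, χ11, χ44, χ55, hd1, hda, hdb, hdc, hdθ1, hdθ2, hd45, hd11, hd44,
    hd55, hsplit, hdeg⟩ := ten_characters hG d hd
  have hone : ∀ χ : Cfsg.IrrCharacter G, (χ : G → ℂ) 1 = (d χ : ℂ) := by
    intro χ
    rw [← hd]
    exact IsCharacter.apply_one_eq_charDegree (IsIrrCharacter.isCharacter χ.2)
  -- every irreducible character is one of the ten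
  have hmem : ∀ χ0 : Cfsg.IrrCharacter G, χ0 = oneIrr G ∨ χ0 = a ∨ χ0 = b ∨ χ0 = c ∨ χ0 = θ1 ∨
      χ0 = θ2 ∨ χ0 = χ45 ∨ χ0 = χ11 ∨ χ0 = χ44 ∨ χ0 = χ55 := by
    intro χ0
    by_contra hne
    push Not at hne
    obtain ⟨h0, h1, h2, h3, h4, h5, h6, h7, h8, h9⟩ := hne
    have h := hsplit (fun χ => if χ = χ0 then 1 else 0)
    simp only [Finset.sum_ite_eq', Finset.mem_univ, if_true] at h
    rw [if_neg (Ne.symm h0), if_neg (Ne.symm h1), if_neg (Ne.symm h2), if_neg (Ne.symm h3),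
      if_neg (Ne.symm h4), if_neg (Ne.symm h5), if_neg (Ne.symm h6), if_neg (Ne.symm h7),
      if_neg (Ne.symm h8), if_neg (Ne.symm h9)] at h
    norm_num at h
  have hne : ∀ χ ψ : Cfsg.IrrCharacter G, d χ ≠ d ψ → χ ≠ ψ := fun χ ψ h e => h (by rw [e])
  -- the three characters of degree 10 are distinct, as are the two of degree 16
  have hdist : a ≠ b ∧ a ≠ c ∧ b ≠ c ∧ θ1 ≠ θ2 := by
    have h := hsplit (fun χ => if χ = a then 1 else 0)
    have h' := hsplit (fun χ => if χ = b then 1 else 0)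
    have h'' := hsplit (fun χ => if χ = θ1 then 1 else 0)
    simp only [Finset.sum_ite_eq', Finset.mem_univ, if_true] at h h' h''
    have f1 : oneIrr G ≠ a := hne _ _ (by omega)
    have f2 : θ1 ≠ a := hne _ _ (by omega)
    have f3 : θ2 ≠ a := hne _ _ (by omega)
    have f4 : χ45 ≠ a := hne _ _ (by omega)
    have f5 : χ11 ≠ a := hne _ _ (by omega)
    have f6 : χ44 ≠ a := hne _ _ (by omega)
    have f7 : χ55 ≠ a := hne _ _ (by omega)
    have g1 : oneIrr G ≠ b := hne _ _ (by omega)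
    have g2 : θ1 ≠ b := hne _ _ (by omega)
    have g3 : θ2 ≠ b := hne _ _ (by omega)
    have g4 : χ45 ≠ b := hne _ _ (by omega)
    have g5 : χ11 ≠ b := hne _ _ (by omega)
    have g6 : χ44 ≠ b := hne _ _ (by omega)
    have g7 : χ55 ≠ b := hne _ _ (by omega)
    have k1 : oneIrr G ≠ θ1 := hne _ _ (by omega)
    have k2 : a ≠ θ1 := hne _ _ (by omega)
    have k3 : b ≠ θ1 := hne _ _ (by omega)
    have k4 : c ≠ θ1 := hne _ _ (by omega)
    have k5 : χ45 ≠ θ1 := hne _ _ (by omega)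
    have k6 : χ11 ≠ θ1 := hne _ _ (by omega)
    have k7 : χ44 ≠ θ1 := hne _ _ (by omega)
    have k8 : χ55 ≠ θ1 := hne _ _ (by omega)
    simp only [if_neg f1, if_neg f2, if_neg f3, if_neg f4, if_neg f5, if_neg f6, if_neg f7,
      if_true] at h
    simp only [if_neg g1, if_neg g2, if_neg g3, if_neg g4, if_neg g5, if_neg g6, if_neg g7,
      if_true] at h'
    simp only [if_neg k1, if_neg k2, if_neg k3, if_neg k4, if_neg k5, if_neg k6, if_neg k7,
      if_neg k8, if_true] at h''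
    refine ⟨?_, ?_, ?_, ?_⟩
    · intro e
      rw [if_pos e.symm] at h
      split_ifs at h <;> norm_num at h
    · intro e
      rw [if_pos e.symm] at h
      split_ifs at h <;> norm_num at h
    · intro e
      rw [if_pos e.symm] at h'
      split_ifs at h' <;> norm_num at h'
    · intro e
      rw [if_pos e.symm] at h''
      norm_num at h''
  obtain ⟨hab, hac, hbc, hθ12⟩ := hdist
  have hdeg10 : ∀ χ : Cfsg.IrrCharacter G, d χ = 10 → χ = a ∨ χ = b ∨ χ = c := by
    intro χ h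
    rcases hmem χ with e | e | e | e | e | e | e | e | e | e
    · rw [e] at h; omega
    · exact Or.inl e
    · exact Or.inr (Or.inl e)
    · exact Or.inr (Or.inr e)
    all_goals (rw [e] at h; omega)
  have hdeg16 : ∀ χ : Cfsg.IrrCharacter G, d χ = 16 → χ = θ1 ∨ χ = θ2 := by
    intro χ h
    rcases hmem χ with e | e | e | e | e | e | e | e | e | e
    · rw [e] at h; omega
    · rw [e] at h; omega
    · rw [e] at h; omega
    · rw [e] at h; omega
    · exact Or.inl e
    · exact Or.inr e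
    all_goals (rw [e] at h; omega)
  have hdeg1 : ∀ χ : Cfsg.IrrCharacter G, d χ = 1 → χ = oneIrr G := by
    intro χ h
    rcases hmem χ with e | e | e | e | e | e | e | e | e | e
    · exact e
    all_goals (rw [e] at h; omega)
  have hdeg45 : ∀ χ : Cfsg.IrrCharacter G, d χ = 45 → χ = χ45 := by
    intro χ h
    rcases hmem χ with e | e | e | e | e | e | e | e | e | e
    · rw [e] at h; omega
    · rw [e] at h; omega
    · rw [e] at h; omega
    · rw [e] at h; omega
    · rw [e] at h; omega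
    · rw [e] at h; omega
    · exact e
    all_goals (rw [e] at h; omega)
  -- the Sylow `11`-subgroups
  obtain ⟨hn11, hC11, hN11⟩ := sylow11_data hG
  obtain ⟨P⟩ : Nonempty (Sylow 11 G) := inferInstance
  have hP : Nat.card (P : Subgroup G) = 11 := card11 hG P
  have hCP : Subgroup.centralizer ((P : Subgroup G) : Set G) = (P : Subgroup G) :=
    (Subgroup.eq_of_le_of_card_ge (sylow_le_centralizer P hP) (by rw [hC11 P, hP])).symm
  have he : (Subgroup.centralizer ((P : Subgroup G) : Set G)).relIndex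
      (Subgroup.normalizer ((P : Subgroup G) : Set G)) = 5 := by
    have h1 := card_mul_relIndex (Subgroup.centralizer_le_normalizer ((P : Subgroup G) : Set G))
    rw [hC11 P, hN11 P] at h1
    omega
  obtain ⟨M11, hM11⟩ := exists_isPModular 11
  obtain ⟨XF, YF, σ, ε, hmemB, hdisj, hXc, hYc, hXs, hε, hYm, hXval, hrel⟩ :=
    brauer_values d hd 11 M11 hM11 (by norm_num) P hP 5 he
  have hXsub : XF ⊆ {oneIrr G, χ45, a, b, c} := by
    intro χ hχ
    obtain ⟨hs, hm⟩ := hXs χ hχ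
    unfold Int.ModEq at hm
    have hdb' := hdeg χ
    simp only [Finset.mem_insert, Finset.mem_singleton]
    have hcases : d χ = 1 ∨ d χ = 10 ∨ d χ = 45 := by
      rcases hs with hs | hs <;> rw [hs] at hm <;> omega
    rcases hcases with h | h | h
    · left; exact hdeg1 χ h
    · right; right; exact hdeg10 χ h
    · right; left; exact hdeg45 χ h
  have hXeq : XF = {oneIrr G, χ45, a, b, c} :=
    Finset.eq_of_subset_of_card_le hXsub (by rw [hXc]; exact Finset.card_le_five)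
  have hn1 : oneIrr G ≠ χ45 := hne _ _ (by omega)
  have hn2 : oneIrr G ≠ a := hne _ _ (by omega)
  have hn3 : oneIrr G ≠ b := hne _ _ (by omega)
  have hn4 : oneIrr G ≠ c := hne _ _ (by omega)
  have hn5 : χ45 ≠ a := hne _ _ (by omega)
  have hn6 : χ45 ≠ b := hne _ _ (by omega)
  have hn7 : χ45 ≠ c := hne _ _ (by omega)
  have hXsum : ∀ F : Cfsg.IrrCharacter G → ℂ,
      ∑ χ ∈ XF, F χ = F (oneIrr G) + F χ45 + F a + F b + F c := by
    intro F
    rw [hXeq, Finset.sum_insert (by simp [hn1, hn2, hn3, hn4]),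
      Finset.sum_insert (by simp [hn5, hn6, hn7]), Finset.sum_insert (by simp [hab, hac]),
      Finset.sum_pair hbc]
    ring
  have hσof : ∀ χ ∈ XF, (d χ = 1 ∨ d χ = 45 → σ χ = 1) ∧ (d χ = 10 → σ χ = -1) := by
    intro χ hχ
    obtain ⟨hs, hm⟩ := hXs χ hχ
    unfold Int.ModEq at hm
    constructor
    · intro h
      rcases hs with hs | hs
      · exact hs
      · rw [hs] at hm; rcases h with h | h <;> rw [h] at hm <;> omega
    · intro h
      rcases hs with hs | hs
      · rw [hs, h] at hm; omega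
      · exact hs
  have hmemX : ∀ χ, χ ∈ ({oneIrr G, χ45, a, b, c} : Finset (Cfsg.IrrCharacter G)) → χ ∈ XF := by
    intro χ hχ; rw [hXeq]; exact hχ
  have hσ1 : σ (oneIrr G) = 1 := (hσof _ (hmemX _ (by simp))).1 (Or.inl hd1)
  have hσ45 : σ χ45 = 1 := (hσof _ (hmemX _ (by simp))).1 (Or.inr hd45)
  have hσa : σ a = -1 := (hσof _ (hmemX _ (by simp))).2 hda
  have hσb : σ b = -1 := (hσof _ (hmemX _ (by simp))).2 hdb
  have hσc : σ c = -1 := (hσof _ (hmemX _ (by simp))).2 hdc
  -- the exceptional characters have degree 16 and sign `1`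
  have hYdeg : ∀ θ ∈ YF, d θ = 16 ∧ ε = 1 := by
    intro θ hθY
    have hm := hYm θ hθY
    unfold Int.ModEq at hm
    have hdb' := hdeg θ
    rcases hε with rfl | rfl <;> push_cast at hm
    · refine ⟨by omega, rfl⟩
    · exfalso; omega
  have hYsub : YF ⊆ {θ1, θ2} := by
    intro θ hθ
    simp only [Finset.mem_insert, Finset.mem_singleton]
    exact hdeg16 θ (hYdeg θ hθ).1
  have hYeq : YF = {θ1, θ2} :=
    Finset.eq_of_subset_of_card_le hYsub (by rw [hYc, Finset.card_pair hθ12])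
  have hε1 : ε = 1 := (hYdeg θ1 (by rw [hYeq]; simp)).2
  have hv1 : ∀ g : G, ((oneIrr G : Cfsg.IrrCharacter G) : G → ℂ) g = 1 := fun g => rfl
  have r11 : ∀ g : G, ¬ 11 ∣ orderOf g →
      (θ1 : G → ℂ) g = 1 + (χ45 : G → ℂ) g - ((a : G → ℂ) g + (b : G → ℂ) g + (c : G → ℂ) g) ∧
      (θ2 : G → ℂ) g = 1 + (χ45 : G → ℂ) g -
        ((a : G → ℂ) g + (b : G → ℂ) g + (c : G → ℂ) g) := by
    intro g hg
    have h1 := hrel θ1 (by rw [hYeq]; simp) g hg
    have h2 := hrel θ2 (by rw [hYeq]; simp) g hg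
    rw [hXsum, hσ1, hσ45, hσa, hσb, hσc, hv1, hε1] at h1 h2
    push_cast at h1 h2
    constructor
    · linear_combination h1
    · linear_combination h2
  have v11 : ∀ x : G, orderOf x = 11 → (a : G → ℂ) x = -1 ∧ (b : G → ℂ) x = -1 ∧
      (c : G → ℂ) x = -1 ∧ (χ45 : G → ℂ) x = 1 := by
    intro x hx
    obtain ⟨P', hxP', -⟩ := centralizer_singleton_eq_sylow (card11 hG) hx
    obtain ⟨k, hk⟩ := MulAction.exists_smul_eq G P' P
    have hkx : k * x * k⁻¹ ∈ (P : Subgroup G) := by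
      rw [← hk, Sylow.coe_subgroup_smul, Subgroup.mem_pointwise_smul_iff_inv_smul_mem,
        MulAut.smul_def, MulAut.inv_apply, MulAut.conj_symm_apply]
      have : k⁻¹ * (k * x * k⁻¹) * k = x := by group
      rw [this]
      exact hxP'
    have hkx1 : k * x * k⁻¹ ≠ 1 := by
      intro h
      have : x = 1 := by
        have : x = k⁻¹ * (k * x * k⁻¹) * k := by group
        rw [this, h]; group
      rw [this, orderOf_one] at hx
      omega
    have hcf : ∀ χ : Cfsg.IrrCharacter G, (χ : G → ℂ) x = (χ : G → ℂ) (k * x * k⁻¹) :=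
      fun χ => ((IsIrrCharacter.isClassFunction χ.2) x k).symm
    refine ⟨?_, ?_, ?_, ?_⟩
    · rw [hcf, hXval a (hmemX _ (by simp)) _ hkx hkx1, hσa]; norm_num
    · rw [hcf, hXval b (hmemX _ (by simp)) _ hkx hkx1, hσb]; norm_num
    · rw [hcf, hXval c (hmemX _ (by simp)) _ hkx hkx1, hσc]; norm_num
    · rw [hcf, hXval χ45 (hmemX _ (by simp)) _ hkx hkx1, hσ45]; norm_num
  -- the Sylow `5`-subgroups
  obtain ⟨P5⟩ : Nonempty (Sylow 5 G) := inferInstance
  have hP5 := card5 hG P5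
  obtain ⟨hC5, hN5⟩ := sylow5_full hG P5
  have he5 : (Subgroup.centralizer ((P5 : Subgroup G) : Set G)).relIndex
      (Subgroup.normalizer ((P5 : Subgroup G) : Set G)) = 4 := by
    have h1 := card_mul_relIndex (Subgroup.centralizer_le_normalizer ((P5 : Subgroup G) : Set G))
    rw [hC5, hN5] at h1
    omega
  obtain ⟨M5, hM5⟩ := exists_isPModular 5
  obtain ⟨X5, Y5, σ5, ε5, hmem5, hdisj5, hX5c, hY5c, hX5s, hε5, hY5m, hX5val, hrel5⟩ :=
    brauer_values d hd 5 M5 hM5 (by norm_num) P5 hP5 4 he5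
  have hCP5 : Subgroup.centralizer ((P5 : Subgroup G) : Set G) = (P5 : Subgroup G) :=
    (Subgroup.eq_of_le_of_card_ge (sylow_le_centralizer P5 hP5) (by rw [hC5, hP5])).symm
  have hB5mem : ∀ χ, ¬ 5 ∣ d χ ↔ (χ ∈ X5 ∨ χ ∈ Y5) := by
    intro χ
    constructor
    · intro h
      exact (hmem5 χ).mp (mem_principalBlock_of_not_dvd P5 hP5 hCP5 hM5 χ
        (by rw [hd]; exact h))
    · rintro (h | h)
      · obtain ⟨hs, hm⟩ := hX5s χ h
        unfold Int.ModEq at hm
        rintro ⟨c, hc⟩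
        rw [hc] at hm
        push_cast at hm
        rcases hs with hs | hs <;> rw [hs] at hm <;> omega
      · have hm := hY5m χ h
        unfold Int.ModEq at hm
        rintro ⟨c, hc⟩
        rw [hc] at hm
        push_cast at hm
        rcases hε5 with rfl | rfl <;> omega
  have hB5eq : Finset.univ.filter (fun χ => ¬ 5 ∣ d χ) = X5 ∪ Y5 := by
    ext χ
    simp only [Finset.mem_filter, Finset.mem_univ, true_and, Finset.mem_union]
    exact hB5mem χ
  have hY5c' : Y5.card = 1 := by rw [hY5c]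
  have r5 : ∀ g : G, ¬ 5 ∣ orderOf g →
      1 + (χ11 : G → ℂ) g + (θ1 : G → ℂ) g + (θ2 : G → ℂ) g - (χ44 : G → ℂ) g = 0 := by
    intro g hg
    obtain ⟨θ5, hθ5⟩ := Finset.card_eq_one.mp hY5c'
    have hθ5Y : θ5 ∈ Y5 := by rw [hθ5]; simp
    have hr := hrel5 θ5 hθ5Y g hg
    have hsumB : ∑ χ ∈ Finset.univ.filter (fun χ => ¬ 5 ∣ d χ),
        ((if d χ % 5 = 1 then (1 : ℤ) else -1 : ℤ) : ℂ) * (χ : G → ℂ) g = 0 := by
      rw [hB5eq, Finset.sum_union hdisj5, hθ5, Finset.sum_singleton]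
      have hXg : ∑ χ ∈ X5, ((if d χ % 5 = 1 then (1 : ℤ) else -1 : ℤ) : ℂ) * (χ : G → ℂ) g =
          ∑ χ ∈ X5, (σ5 χ : ℂ) * (χ : G → ℂ) g := by
        apply Finset.sum_congr rfl
        intro χ hχ
        obtain ⟨hs, hm⟩ := hX5s χ hχ
        unfold Int.ModEq at hm
        rcases hs with hs | hs
        · rw [hs] at hm ⊢
          rw [if_pos (by omega)]
        · rw [hs] at hm ⊢
          rw [if_neg (by omega)]
      have hYg : ((if d θ5 % 5 = 1 then (1 : ℤ) else -1 : ℤ) : ℂ) = -(ε5 : ℂ) := by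
        have hm := hY5m θ5 hθ5Y
        unfold Int.ModEq at hm
        rcases hε5 with rfl | rfl
        · push_cast at hm
          rw [if_neg (by omega)]
          push_cast; ring
        · push_cast at hm
          rw [if_pos (by omega)]
          push_cast; ring
      rw [hXg, hYg, ← hr]
      ring
    rw [Finset.sum_filter, hsplit, hd1, hda, hdb, hdc, hdθ1, hdθ2, hd45, hd11, hd44, hd55,
      hv1] at hsumB
    norm_num at hsumB
    linear_combination hsumB
  exact ⟨{
    a := a, b := b, c := c, θ1 := θ1, θ2 := θ2, χ45 := χ45, χ11 := χ11, χ44 := χ44, χ55 := χ55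
    one_a := by rw [hone, hda]; norm_num
    one_b := by rw [hone, hdb]; norm_num
    one_c := by rw [hone, hdc]; norm_num
    one_θ1 := by rw [hone, hdθ1]; norm_num
    one_θ2 := by rw [hone, hdθ2]; norm_num
    one_45 := by rw [hone, hd45]; norm_num
    one_11 := by rw [hone, hd11]; norm_num
    one_44 := by rw [hone, hd44]; norm_num
    one_55 := by rw [hone, hd55]; norm_num
    split := hsplit
    r11 := r11
    r5 := r5
    v11 := v11 }⟩

end main

end Cfsg.Agent.Lib.Helper4.M11
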