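import Mathlib
import Cfsg.Agent.Lib.Helper4.M11l

/-! Character values at involutions in a simple group of order `7920`. -/

set_option autoImplicit false
set_option linter.unusedSectionVars false
set_option linter.unusedVariables false
set_option linter.style.longLine false
set_option linter.unusedSimpArgs false
set_option linter.unusedDecidableInType false

set_option maxHeartbeats 3200000

namespace Cfsg.Agent.Lib.Helper4.M11

open Cfsg Cfsg.Agent.Lib.Helper6 Module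
open Cfsg.Agent.Lib.Lead Cfsg.Agent.Lib.Lead.SylowCount Cfsg.Agent.Lib.Lead.SmallSimple2
  Cfsg.Agent.Lib.Helper7.CountTools Cfsg.Agent.Lib.Helper7.SylPar Cfsg.Agent.Lib.Helper4.Ord5040
  Cfsg.Agent.Lib.Helper5.BrauerSmall
open scoped ComplexConjugate

section arith

theorem abs_le_three_of_sq_le {A : ℤ} (h : A ^ 2 ≤ 12) : -3 ≤ A ∧ A ≤ 3 := by
  constructor
  · by_contra h1
    push Not at h1
    have : 16 ≤ A ^ 2 := by nlinarith
    omega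
  · by_contra h1
    push Not at h1
    have : 16 ≤ A ^ 2 := by nlinarith
    omega

/-- the arithmetic of the character values at an involution, second form -/
theorem invol_arith2 (ma mb mc mv mx mw mz : ℕ) (hma : ma ≤ 10) (hmb : mb ≤ 10) (hmc : mc ≤ 10)
    (hmv : mv ≤ 45) (hmx : mx ≤ 11) (hmw : mw ≤ 44) (hmz : mz ≤ 55) (A B C V X W Z : ℤ)
    (hA : A = 10 - 2 * ma) (hB : B = 10 - 2 * mb) (hC : C = 10 - 2 * mc) (hV : V = 45 - 2 * mv)
    (hX : X = 11 - 2 * mx) (hW : W = 44 - 2 * mw) (hZ : Z = 55 - 2 * mz)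
    (E1 : 1 + V - (A + B + C) = 0) (E2 : 90 + 2 * V ^ 2 = 9 * (A ^ 2 + B ^ 2 + C ^ 2))
    (E3 : 1 + X - W = 0) (E4 : 1 + 10 * (A + B + C) + 45 * V + 11 * X + 44 * W + 55 * Z = 0)
    (E5 : (48 : ℤ) = 1 + A ^ 2 + B ^ 2 + C ^ 2 + V ^ 2 + X ^ 2 + W ^ 2 + Z ^ 2) :
    X = 3 ∧ V = -3 ∧ W = 4 ∧ Z = -1 ∧
      ((A = 2 ∧ B = -2 ∧ C = -2) ∨ (A = -2 ∧ B = 2 ∧ C = -2) ∨ (A = -2 ∧ B = -2 ∧ C = 2)) := by
  have key : ∀ ma : ℕ, ma ≤ 10 → ∀ mb : ℕ, mb ≤ 10 → ∀ mc : ℕ, mc ≤ 10 →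
      90 + 2 * ((10 - 2 * (ma : ℤ)) + (10 - 2 * (mb : ℤ)) + (10 - 2 * (mc : ℤ)) - 1) ^ 2 =
        9 * ((10 - 2 * (ma : ℤ)) ^ 2 + (10 - 2 * (mb : ℤ)) ^ 2 + (10 - 2 * (mc : ℤ)) ^ 2) →
      (10 - 2 * (ma : ℤ)) + (10 - 2 * (mb : ℤ)) + (10 - 2 * (mc : ℤ)) = -2 ∧
      (10 - 2 * (ma : ℤ)) ^ 2 + (10 - 2 * (mb : ℤ)) ^ 2 + (10 - 2 * (mc : ℤ)) ^ 2 = 12 := by
    decide
  have hV' : V = A + B + C - 1 := by linarith
  have h0 := key ma hma mb hmb mc hmc (by rw [← hA, ← hB, ← hC, ← hV']; exact E2)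
  rw [← hA, ← hB, ← hC] at h0
  obtain ⟨hs, hQ⟩ := h0
  have h1 : (A = 2 ∧ B = -2 ∧ C = -2) ∨ (A = -2 ∧ B = 2 ∧ C = -2) ∨
      (A = -2 ∧ B = -2 ∧ C = 2) := by
    have hA2 : A ^ 2 ≤ 12 := by linarith [sq_nonneg B, sq_nonneg C]
    have hB2 : B ^ 2 ≤ 12 := by linarith [sq_nonneg A, sq_nonneg C]
    have hC2 : C ^ 2 ≤ 12 := by linarith [sq_nonneg A, sq_nonneg B]
    have hAl : -3 ≤ A ∧ A ≤ 3 := abs_le_three_of_sq_le hA2
    have hBl : -3 ≤ B ∧ B ≤ 3 := abs_le_three_of_sq_le hB2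
    have hCl : -3 ≤ C ∧ C ≤ 3 := abs_le_three_of_sq_le hC2
    have ha : 4 ≤ ma ∧ ma ≤ 6 := by omega
    have hb : 4 ≤ mb ∧ mb ≤ 6 := by omega
    have hc : 4 ≤ mc ∧ mc ≤ 6 := by omega
    obtain ⟨ha1, ha2⟩ := ha
    obtain ⟨hb1, hb2⟩ := hb
    obtain ⟨hc1, hc2⟩ := hc
    subst hA hB hC
    interval_cases ma <;> interval_cases mb <;> interval_cases mc <;>
      first | (exfalso; norm_num at hs; done) | (exfalso; norm_num at hQ; done) | norm_num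
  have hV3 : V = -3 := by rw [hV', hs]; norm_num
  have hW' : W = 1 + X := by linarith
  have hZ' : Z = 2 - X := by
    have : 55 * Z = 55 * (2 - X) := by
      rw [hW', hs, hV3] at E4
      linarith
    linarith
  have hX3 : X = 3 := by
    have h5 : 3 * X ^ 2 - 2 * X - 21 = 0 := by
      rw [hV3, hW', hZ'] at E5
      nlinarith [hQ]
    subst hX
    interval_cases mx <;> first | (exfalso; norm_num at h5; done) | norm_num
  refine ⟨hX3, hV3, ?_, ?_, h1⟩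
  · rw [hW', hX3]; norm_num
  · rw [hZ', hX3]; norm_num

end arith

section main

variable {G : Type*} [Group G] [Fintype G]

theorem TenData.charDegree_eq [Fintype (Cfsg.IrrCharacter G)] {χ : G → ℂ} {n : ℕ}
    (h : χ 1 = (n : ℂ)) : Cfsg.charDegree χ = n := by
  unfold Cfsg.charDegree
  rw [h]
  simp

set_option maxRecDepth 4000 in
/-- the character values at an involution -/
theorem values_involution [IsSimpleGroup G] (hG : Nat.card G = 7920)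
    [Fintype (Cfsg.IrrCharacter G)] [DecidableEq (Cfsg.IrrCharacter G)] (D : TenData G) (t : G)
    (ht : orderOf t = 2) :
    (D.χ11 : G → ℂ) t = 3 ∧ (D.χ45 : G → ℂ) t = -3 ∧ (D.χ44 : G → ℂ) t = 4 ∧
    (D.χ55 : G → ℂ) t = -1 ∧ (D.θ1 : G → ℂ) t = 0 ∧ (D.θ2 : G → ℂ) t = 0 ∧
    (((D.a : G → ℂ) t = 2 ∧ (D.b : G → ℂ) t = -2 ∧ (D.c : G → ℂ) t = -2) ∨
     ((D.a : G → ℂ) t = -2 ∧ (D.b : G → ℂ) t = 2 ∧ (D.c : G → ℂ) t = -2) ∨
     ((D.a : G → ℂ) t = -2 ∧ (D.b : G → ℂ) t = -2 ∧ (D.c : G → ℂ) t = 2)) := by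
  classical
  haveI : Fact (Nat.Prime 11) := ⟨by norm_num⟩
  have ht1 : t ≠ 1 := by
    rintro rfl
    rw [orderOf_one] at ht
    omega
  have cda : Cfsg.charDegree (D.a : G → ℂ) = 10 := TenData.charDegree_eq (n := 10) (by rw [D.one_a]; norm_num)
  have cdb : Cfsg.charDegree (D.b : G → ℂ) = 10 := TenData.charDegree_eq (n := 10) (by rw [D.one_b]; norm_num)
  have cdc : Cfsg.charDegree (D.c : G → ℂ) = 10 := TenData.charDegree_eq (n := 10) (by rw [D.one_c]; norm_num)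
  have cdθ1 : Cfsg.charDegree (D.θ1 : G → ℂ) = 16 := TenData.charDegree_eq (n := 16) (by rw [D.one_θ1]; norm_num)
  have cdθ2 : Cfsg.charDegree (D.θ2 : G → ℂ) = 16 := TenData.charDegree_eq (n := 16) (by rw [D.one_θ2]; norm_num)
  have cd45 : Cfsg.charDegree (D.χ45 : G → ℂ) = 45 := TenData.charDegree_eq (n := 45) (by rw [D.one_45]; norm_num)
  have cd11 : Cfsg.charDegree (D.χ11 : G → ℂ) = 11 := TenData.charDegree_eq (n := 11) (by rw [D.one_11]; norm_num)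
  have cd44 : Cfsg.charDegree (D.χ44 : G → ℂ) = 44 := TenData.charDegree_eq (n := 44) (by rw [D.one_44]; norm_num)
  have cd55 : Cfsg.charDegree (D.χ55 : G → ℂ) = 55 := TenData.charDegree_eq (n := 55) (by rw [D.one_55]; norm_num)
  have hval : ∀ χ : Cfsg.IrrCharacter G, ∃ m : ℕ, m ≤ Cfsg.charDegree (χ : G → ℂ) ∧
      (χ : G → ℂ) t = (Cfsg.charDegree (χ : G → ℂ) : ℂ) - 2 * (m : ℂ) := fun χ =>
    apply_involution (IsIrrCharacter.isCharacter χ.2) t ht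
  have hzero16 : ∀ θ : Cfsg.IrrCharacter G, Cfsg.charDegree (θ : G → ℂ) = 16 →
      (θ : G → ℂ) t = 0 := by
    intro θ hθ
    exact IsIrrCharacter.eq_zero_of_defect_zero θ.2 2 4 Nat.prime_two (by rw [hG]; norm_num)
      (by rw [hG]; norm_num) (by rw [hθ]; norm_num) t (by rw [ht])
  obtain ⟨ma, hma, hva⟩ := hval D.a
  obtain ⟨mb, hmb, hvb⟩ := hval D.b
  obtain ⟨mc, hmc, hvc⟩ := hval D.c
  obtain ⟨mv, hmv, hvv⟩ := hval D.χ45
  obtain ⟨mx, hmx, hvx⟩ := hval D.χ11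
  obtain ⟨mw, hmw, hvw⟩ := hval D.χ44
  obtain ⟨mz, hmz, hvz⟩ := hval D.χ55
  rw [cda] at hma hva
  rw [cdb] at hmb hvb
  rw [cdc] at hmc hvc
  rw [cd45] at hmv hvv
  rw [cd11] at hmx hvx
  rw [cd44] at hmw hvw
  rw [cd55] at hmz hvz
  obtain ⟨A, hA⟩ : ∃ A : ℤ, A = 10 - 2 * (ma : ℤ) := ⟨_, rfl⟩
  obtain ⟨B, hB⟩ : ∃ B : ℤ, B = 10 - 2 * (mb : ℤ) := ⟨_, rfl⟩
  obtain ⟨C, hC⟩ : ∃ C : ℤ, C = 10 - 2 * (mc : ℤ) := ⟨_, rfl⟩
  obtain ⟨V, hV⟩ : ∃ V : ℤ, V = 45 - 2 * (mv : ℤ) := ⟨_, rfl⟩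
  obtain ⟨X, hX⟩ : ∃ X : ℤ, X = 11 - 2 * (mx : ℤ) := ⟨_, rfl⟩
  obtain ⟨W, hW⟩ : ∃ W : ℤ, W = 44 - 2 * (mw : ℤ) := ⟨_, rfl⟩
  obtain ⟨Z, hZ⟩ : ∃ Z : ℤ, Z = 55 - 2 * (mz : ℤ) := ⟨_, rfl⟩
  have hvA : (D.a : G → ℂ) t = (A : ℂ) := by rw [hva, hA]; push_cast; ring
  have hvB : (D.b : G → ℂ) t = (B : ℂ) := by rw [hvb, hB]; push_cast; ring
  have hvC : (D.c : G → ℂ) t = (C : ℂ) := by rw [hvc, hC]; push_cast; ring
  have hvV : (D.χ45 : G → ℂ) t = (V : ℂ) := by rw [hvv, hV]; push_cast; ring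
  have hvX : (D.χ11 : G → ℂ) t = (X : ℂ) := by rw [hvx, hX]; push_cast; ring
  have hvW : (D.χ44 : G → ℂ) t = (W : ℂ) := by rw [hvw, hW]; push_cast; ring
  have hvZ : (D.χ55 : G → ℂ) t = (Z : ℂ) := by rw [hvz, hZ]; push_cast; ring
  have hv1 : ∀ g : G, ((oneIrr G : Cfsg.IrrCharacter G) : G → ℂ) g = 1 := fun g => rfl
  have hvθ1 := hzero16 D.θ1 cdθ1
  have hvθ2 := hzero16 D.θ2 cdθ2
  -- the order of the centralizer
  have E5 : (48 : ℤ) = 1 + A ^ 2 + B ^ 2 + C ^ 2 + V ^ 2 + X ^ 2 + W ^ 2 + Z ^ 2 := by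
    have h5 := (sum_irr_mul_conj t t).1 (IsConj.refl t)
    rw [D.split, hv1, hvA, hvB, hvC, hvθ1, hvθ2, hvV, hvX, hvW, hvZ,
      card_centralizer_involution hG t ht] at h5
    simp only [map_one, map_intCast, map_zero] at h5
    have : ((48 : ℤ) : ℂ) =
        ((1 + A ^ 2 + B ^ 2 + C ^ 2 + V ^ 2 + X ^ 2 + W ^ 2 + Z ^ 2 : ℤ) : ℂ) := by
      push_cast
      push_cast at h5
      rw [← h5]
      ring
    exact_mod_cast this
  -- orthogonality with the identity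
  have E4 : 1 + 10 * (A + B + C) + 45 * V + 11 * X + 44 * W + 55 * Z = 0 := by
    have h4 := (sum_irr_mul_conj 1 t).2 (by
      intro h
      exact ht1 (isConj_one_right.mp h))
    rw [D.split, hv1, hv1, D.one_a, D.one_b, D.one_c, D.one_θ1, D.one_θ2, D.one_45, D.one_11,
      D.one_44, D.one_55, hvA, hvB, hvC, hvθ1, hvθ2, hvV, hvX, hvW, hvZ] at h4
    simp only [map_one, map_intCast, map_zero] at h4
    have : ((1 + 10 * (A + B + C) + 45 * V + 11 * X + 44 * W + 55 * Z : ℤ) : ℂ) = 0 := by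
      push_cast
      rw [← h4]
      ring
    exact_mod_cast this
  have E1 : 1 + V - (A + B + C) = 0 := by
    have h := (D.r11 t (by rw [ht]; norm_num)).1
    rw [hvθ1, hvV, hvA, hvB, hvC] at h
    have : ((1 + V - (A + B + C) : ℤ) : ℂ) = 0 := by
      push_cast
      rw [← h]
    exact_mod_cast this
  have E3 : 1 + X - W = 0 := by
    have h := D.r5 t (by rw [ht]; norm_num)
    rw [hvθ1, hvθ2, hvX, hvW] at h
    have : ((1 + X - W : ℤ) : ℂ) = 0 := by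
      push_cast
      linear_combination h
    exact_mod_cast this
  -- the class multiplication constant
  obtain ⟨hn11, hC11, hN11⟩ := sylow11_data hG
  obtain ⟨P⟩ : Nonempty (Sylow 11 G) := inferInstance
  have hP : Nat.card (P : Subgroup G) = 11 := card11 hG P
  obtain ⟨x, hxP, hxo⟩ := exists_orderOf_eq (P : Subgroup G) 11 (by rw [hP])
  have hx1 : x ≠ 1 := by
    rintro rfl
    rw [orderOf_one] at hxo
    omega
  have hout : ∀ χ : Cfsg.IrrCharacter G, 11 ∣ Cfsg.charDegree (χ : G → ℂ) →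
      (χ : G → ℂ) x = 0 := by
    intro χ h11
    exact IsIrrCharacter.eq_zero_of_defect_zero χ.2 11 1 (by norm_num) (by rw [hG]; norm_num)
      (by rw [hG]; norm_num) (by rw [pow_one]; exact h11) x (by rw [hxo])
  obtain ⟨hxa, hxb, hxc, hx45⟩ := D.v11 x hxo
  have E2 : 90 + 2 * V ^ 2 = 9 * (A ^ 2 + B ^ 2 + C ^ 2) := by
    have hcm := card_conj_mul_conj_eq t t x
    have hempty : (Finset.univ.filter
        (fun p : G × G => p.1 * t * p.1⁻¹ * (p.2 * t * p.2⁻¹) = x)) = ∅ := by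
      rw [Finset.filter_eq_empty_iff]
      intro pr _
      exact no_invol_product hG P (hN11 P) ht hxP hx1 pr.1 pr.2
    rw [hempty, Finset.card_empty, Nat.cast_zero] at hcm
    have hG0 : (Nat.card G : ℂ) ≠ 0 := by rw [hG]; norm_num
    have hsum0 := (mul_eq_zero.mp hcm.symm).resolve_left hG0
    rw [D.split, hv1, hv1, hv1, hvA, hvB, hvC, hvθ1, hvθ2, hvV, hvX, hvW, hvZ, hxa, hxb, hxc, hx45,
      hout D.χ11 (by rw [cd11]), hout D.χ44 (by rw [cd44]; norm_num),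
      hout D.χ55 (by rw [cd55]; norm_num), D.one_a, D.one_b, D.one_c, D.one_45] at hsum0
    simp only [map_intCast, map_zero, map_one, map_neg] at hsum0
    have : ((90 + 2 * V ^ 2 : ℤ) : ℂ) = ((9 * (A ^ 2 + B ^ 2 + C ^ 2) : ℤ) : ℂ) := by
      push_cast
      push_cast at hsum0
      linear_combination 90 * hsum0
    exact_mod_cast this
  obtain ⟨hX3, hV3, hW4, hZ1, hABC⟩ := invol_arith2 ma mb mc mv mx mw mz hma hmb hmc hmv hmx hmw
    hmz A B C V X W Z hA hB hC hV hX hW hZ E1 E2 E3 E4 E5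
  refine ⟨by rw [hvX, hX3]; norm_num, by rw [hvV, hV3]; norm_num, by rw [hvW, hW4]; norm_num,
    by rw [hvZ, hZ1]; norm_num, hvθ1, hvθ2, ?_⟩
  rw [hvA, hvB, hvC]
  rcases hABC with ⟨h1, h2, h3⟩ | ⟨h1, h2, h3⟩ | ⟨h1, h2, h3⟩
  · left; rw [h1, h2, h3]; norm_num
  · right; left; rw [h1, h2, h3]; norm_num
  · right; right; rw [h1, h2, h3]; norm_num

end main

end Cfsg.Agent.Lib.Helper4.M11
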