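import Mathlib
import Cfsg.Agent.Lib.Helper4.M11i

/-! A faithful `2`-group of order `16` acting on an abelian group of order `9`. -/

set_option autoImplicit false
set_option linter.unusedSectionVars false
set_option linter.unusedVariables false
set_option linter.style.longLine false
set_option linter.unusedSimpArgs false
set_option linter.unusedDecidableInType false

set_option maxHeartbeats 1600000

namespace Cfsg.Agent.Lib.Helper4.M11

section loc

variable {G : Type*} [Group G] [Fintype G] [DecidableEq G]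

/-- a faithful `2`-group of order `16` normalizing an abelian group of order `9` -/
structure Loc (P S : Subgroup G) : Prop where
  hP : Nat.card P = 9
  comm : ∀ a ∈ P, ∀ b ∈ P, a * b = b * a
  hS : Nat.card S = 16
  norm : S ≤ Subgroup.normalizer (P : Set G)
  faith : ∀ s ∈ S, (∀ p ∈ P, s * p = p * s) → s = 1

namespace Loc

variable {P S : Subgroup G}

theorem conj_mem (L : Loc P S) {s p : G} (hs : s ∈ S) (hp : p ∈ P) : s * p * s⁻¹ ∈ P :=
  (Subgroup.mem_normalizer_iff.mp (L.norm hs) p).mp hp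

theorem conj_mem' (L : Loc P S) {s p : G} (hs : s ∈ S) (hp : p ∈ P) : s⁻¹ * p * s ∈ P := by
  have := L.conj_mem (S.inv_mem hs) hp
  rwa [inv_inv] at this

theorem orderOf_dvd_S (L : Loc P S) {s : G} (hs : s ∈ S) : orderOf s ∣ 16 := by
  rw [← L.hS]; exact Subgroup.orderOf_dvd_natCard S hs

theorem orderOf_dvd_P (L : Loc P S) {p : G} (hp : p ∈ P) : orderOf p ∣ 9 := by
  rw [← L.hP]; exact Subgroup.orderOf_dvd_natCard P hp

/-- an element of `S ∩ P` is trivial -/
theorem eq_one_of_mem_both (L : Loc P S) {g : G} (hs : g ∈ S) (hp : g ∈ P) : g = 1 := by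
  have h1 := L.orderOf_dvd_S hs
  have h2 := L.orderOf_dvd_P hp
  have h3 : orderOf g ∣ Nat.gcd 16 9 := Nat.dvd_gcd h1 h2
  have h4 : Nat.gcd 16 9 = 1 := by norm_num
  rw [h4, Nat.dvd_one] at h3
  exact orderOf_eq_one_iff.mp h3

/-- `P` has exponent `3` -/
theorem pow_three (L : Loc P S) {g : G} (hg : g ∈ P) : g ^ 3 = 1 := by
  by_contra h3
  have hd := L.orderOf_dvd_P hg
  have ho : orderOf g = 9 := by
    have hle : orderOf g ≤ 9 := Nat.le_of_dvd (by norm_num) hd
    have h0 : 0 < orderOf g := orderOf_pos g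
    have hn3 : ¬ orderOf g ∣ 3 := fun h => h3 (orderOf_dvd_iff_pow_eq_one.mp h)
    interval_cases h : orderOf g <;> first | rfl | (exfalso; revert hd; decide) | (exfalso; revert hn3; decide)
  have hz : Subgroup.zpowers g = P := by
    apply Subgroup.eq_of_le_of_card_ge
    · rwa [Subgroup.zpowers_le]
    · rw [Nat.card_zpowers, ho, L.hP]
  have hinj : Function.Injective (fun s : S => (⟨(s : G) * g * (s : G)⁻¹, L.conj_mem s.2 hg⟩ : P)) := by
    intro s s' hss
    have h1 : (s : G) * g * (s : G)⁻¹ = (s' : G) * g * (s' : G)⁻¹ := congrArg Subtype.val hss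
    have h2 : ((s' : G)⁻¹ * (s : G)) * g = g * ((s' : G)⁻¹ * (s : G)) := by
      calc ((s' : G)⁻¹ * (s : G)) * g = (s' : G)⁻¹ * ((s : G) * g * (s : G)⁻¹) * (s : G) := by group
        _ = (s' : G)⁻¹ * ((s' : G) * g * (s' : G)⁻¹) * (s : G) := by rw [h1]
        _ = g * ((s' : G)⁻¹ * (s : G)) := by group
    have h3 : (s' : G)⁻¹ * (s : G) = 1 := by
      apply L.faith _ (S.mul_mem (S.inv_mem s'.2) s.2)
      intro p hp
      rw [← hz] at hp
      obtain ⟨k, rfl⟩ := Subgroup.mem_zpowers_iff.mp hp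
      exact (Commute.zpow_right (show Commute ((s' : G)⁻¹ * (s : G)) g from h2) k)
    apply Subtype.ext
    calc (s : G) = (s' : G) * ((s' : G)⁻¹ * (s : G)) := by group
      _ = (s' : G) := by rw [h3, mul_one]
  have := Nat.card_le_card_of_injective _ hinj
  rw [L.hS, L.hP] at this
  omega

theorem orderOf_eq_three (L : Loc P S) {v : G} (hv : v ∈ P) (hv1 : v ≠ 1) : orderOf v = 3 := by
  have h3 : Nat.Prime 3 := by norm_num
  exact orderOf_eq_prime (L.pow_three hv) hv1

/-- two independent elements generate `P` -/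
theorem centralizes_of_two (L : Loc P S) {v p k : G} (hv : v ∈ P) (hv1 : v ≠ 1) (hp : p ∈ P)
    (hpv : p ∉ Subgroup.zpowers v) (hkv : k * v = v * k) (hkp : k * p = p * k) :
    ∀ q ∈ P, k * q = q * k := by
  have hcl : Subgroup.closure ({v, p} : Set G) = P := by
    apply Subgroup.eq_of_le_of_card_ge
    · rw [Subgroup.closure_le]
      intro x hx
      rcases hx with rfl | rfl
      · exact hv
      · exact hp
    · have hle : Subgroup.zpowers v ≤ Subgroup.closure ({v, p} : Set G) := by
        rw [Subgroup.zpowers_le]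
        exact Subgroup.subset_closure (by simp)
      have hlt : Subgroup.zpowers v < Subgroup.closure ({v, p} : Set G) := by
        refine lt_of_le_of_ne hle ?_
        intro h
        apply hpv
        rw [h]
        exact Subgroup.subset_closure (by simp)
      have hcz : Nat.card (Subgroup.zpowers v) = 3 := by
        rw [Nat.card_zpowers, L.orderOf_eq_three hv hv1]
      have h1 : Nat.card (Subgroup.closure ({v, p} : Set G)) ≠ 3 := by
        intro h
        exact hlt.ne (Subgroup.eq_of_le_of_card_ge hle (by rw [h, hcz]))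
      have hclP : Subgroup.closure ({v, p} : Set G) ≤ P := by
        rw [Subgroup.closure_le]
        intro x hx
        rcases hx with rfl | rfl
        · exact hv
        · exact hp
      have h2 : Nat.card (Subgroup.closure ({v, p} : Set G)) ∣ 9 := by
        rw [← L.hP]; exact Subgroup.card_dvd_of_le hclP
      have h3 : 3 ∣ Nat.card (Subgroup.closure ({v, p} : Set G)) := by
        rw [← hcz]; exact Subgroup.card_dvd_of_le hle
      rw [L.hP]
      have hle9 : Nat.card (Subgroup.closure ({v, p} : Set G)) ≤ 9 := Nat.le_of_dvd (by norm_num) h2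
      interval_cases hc : Nat.card (Subgroup.closure ({v, p} : Set G)) <;> omega
  intro q hq
  rw [← hcl] at hq
  have : q ∈ Subgroup.centralizer ({k} : Set G) := by
    have hsub : Subgroup.closure ({v, p} : Set G) ≤ Subgroup.centralizer ({k} : Set G) := by
      rw [Subgroup.closure_le]
      intro x hx
      rcases hx with rfl | rfl
      · exact Subgroup.mem_centralizer_singleton_iff.mpr hkv.symm
      · exact Subgroup.mem_centralizer_singleton_iff.mpr hkp.symm
    exact hsub hq
  exact (Subgroup.mem_centralizer_singleton_iff.mp this).symm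

/-- the points of `P` outside the line of `v` -/
noncomputable def off (P : Subgroup G) (v : G) : Finset G :=
  haveI : DecidablePred (fun q => q ∈ P ∧ q ∉ Subgroup.zpowers v) := Classical.decPred _
  Finset.univ.filter (fun q => q ∈ P ∧ q ∉ Subgroup.zpowers v)

theorem mem_off {v q : G} : q ∈ off P v ↔ q ∈ P ∧ q ∉ Subgroup.zpowers v := by
  classical
  unfold off
  simp

theorem card_off (L : Loc P S) {v : G} (hv : v ∈ P) (hv1 : v ≠ 1) : (off P v).card = 6 := by
  classical
  have hzP : Subgroup.zpowers v ≤ P := by rwa [Subgroup.zpowers_le]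
  have h1 : (Finset.univ.filter (fun q : G => q ∈ P)).card = 9 := by
    rw [← L.hP, Nat.card_eq_fintype_card, Fintype.card_subtype]
  have h2 : (Finset.univ.filter (fun q : G => q ∈ Subgroup.zpowers v)).card = 3 := by
    have : Nat.card (Subgroup.zpowers v) = 3 := by
      rw [Nat.card_zpowers, L.orderOf_eq_three hv hv1]
    rw [← this, Nat.card_eq_fintype_card, Fintype.card_subtype]
  have h3 : off P v = (Finset.univ.filter (fun q : G => q ∈ P)) \
      (Finset.univ.filter (fun q : G => q ∈ Subgroup.zpowers v)) := by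
    ext q
    rw [mem_off]
    simp
  have h4 : (Finset.univ.filter (fun q : G => q ∈ Subgroup.zpowers v)) ⊆
      (Finset.univ.filter (fun q : G => q ∈ P)) := by
    intro q hq
    simp only [Finset.mem_filter, Finset.mem_univ, true_and] at hq ⊢
    exact hzP hq
  rw [h3, Finset.card_sdiff_of_subset h4, h1, h2]

/-- the stabilizer of `v` acts freely off the line of `v` -/
theorem stab_free (L : Loc P S) {v p : G} (hv : v ∈ P) (hv1 : v ≠ 1) (hp : p ∈ off P v) :
    (S ⊓ Subgroup.centralizer ({v} : Set G)) ⊓ Subgroup.centralizer ({p} : Set G) = ⊥ := by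
  rw [eq_bot_iff]
  intro k hk
  obtain ⟨⟨hkS, hkv⟩, hkp⟩ := hk
  rw [Subgroup.mem_bot]
  obtain ⟨hpP, hpv⟩ := mem_off.mp hp
  apply L.faith k hkS
  exact L.centralizes_of_two hv hv1 hpP hpv (Subgroup.mem_centralizer_singleton_iff.mp hkv)
    (Subgroup.mem_centralizer_singleton_iff.mp hkp)

theorem orb_stab_subset (L : Loc P S) {v p : G} (hv : v ∈ P) (hp : p ∈ off P v) :
    orb (S ⊓ Subgroup.centralizer ({v} : Set G)) p ⊆ off P v := by
  intro y hy
  obtain ⟨k, ⟨hkS, hkv⟩, rfl⟩ := mem_orb.mp hy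
  obtain ⟨hpP, hpv⟩ := mem_off.mp hp
  have hkv' : k * v = v * k := Subgroup.mem_centralizer_singleton_iff.mp hkv
  refine mem_off.mpr ⟨L.conj_mem hkS hpP, ?_⟩
  intro hmem
  apply hpv
  obtain ⟨i, hi⟩ := Subgroup.mem_zpowers_iff.mp hmem
  have hc : Commute k⁻¹ (v ^ i) := (Commute.zpow_right (show Commute k v from hkv') i).inv_left
  have : p = v ^ i := by
    calc p = k⁻¹ * (k * p * k⁻¹) * k := by group
      _ = k⁻¹ * v ^ i * k := by rw [hi]
      _ = v ^ i * k⁻¹ * k := by rw [hc.eq]
      _ = v ^ i := by group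
  rw [this]
  exact Subgroup.zpow_mem_zpowers v i

/-- the stabilizer in `S` of a non-identity element of `P` has order at most `2` -/
theorem card_stab_le (L : Loc P S) {v : G} (hv : v ∈ P) (hv1 : v ≠ 1) :
    Nat.card ↥(S ⊓ Subgroup.centralizer ({v} : Set G)) ≤ 2 := by
  classical
  set K := S ⊓ Subgroup.centralizer ({v} : Set G) with hK
  have hKd : Nat.card K ∣ 16 := by
    rw [← L.hS]; exact Subgroup.card_dvd_of_le inf_le_left
  have hoff := L.card_off hv hv1
  have hne : (off P v).Nonempty := by rw [← Finset.card_pos, hoff]; norm_num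
  obtain ⟨p0, hp0⟩ := hne
  have horb : ∀ p ∈ off P v, (orb K p).card = Nat.card K := by
    intro p hp
    have h := card_orb_mul K p
    rw [L.stab_free hv hv1 hp, Subgroup.card_bot, mul_one] at h
    exact h
  have hle6 : Nat.card K ≤ 6 := by
    rw [← horb p0 hp0, ← hoff]
    exact Finset.card_le_card (L.orb_stab_subset hv hp0)
  have hK0 : 0 < Nat.card K := Nat.card_pos
  by_contra hgt
  push Not at hgt
  have hK4 : Nat.card K = 4 := by
    interval_cases hc : Nat.card K <;> first | omega | (exfalso; revert hKd; decide)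
  have hlt : (orb K p0).card < (off P v).card := by rw [horb p0 hp0, hK4, hoff]; norm_num
  obtain ⟨p1, hp1, hp1n⟩ := Finset.exists_mem_notMem_of_card_lt_card hlt
  have hdisj : Disjoint (orb K p0) (orb K p1) := by
    rw [Finset.disjoint_left]
    intro y hy0 hy1
    exact hp1n (mem_orb_of_common hy1 hy0)
  have hun : (orb K p0 ∪ orb K p1).card ≤ (off P v).card :=
    Finset.card_le_card (Finset.union_subset (L.orb_stab_subset hv hp0)
      (L.orb_stab_subset hv hp1))
  rw [Finset.card_union_of_disjoint hdisj, horb p0 hp0, horb p1 hp1, hK4, hoff] at hun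
  omega

/-- the non-identity elements of `P` -/
noncomputable def punct (P : Subgroup G) : Finset G :=
  haveI : DecidablePred (fun q => q ∈ P ∧ q ≠ 1) := Classical.decPred _
  Finset.univ.filter (fun q => q ∈ P ∧ q ≠ 1)

theorem mem_punct {q : G} : q ∈ punct P ↔ q ∈ P ∧ q ≠ 1 := by
  classical
  unfold punct
  simp

theorem card_punct (L : Loc P S) : (punct P).card = 8 := by
  classical
  have h1 : (Finset.univ.filter (fun q : G => q ∈ P)).card = 9 := by
    rw [← L.hP, Nat.card_eq_fintype_card, Fintype.card_subtype]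
  have h3 : punct P = (Finset.univ.filter (fun q : G => q ∈ P)).erase 1 := by
    ext q
    rw [mem_punct]
    simp [and_comm]
  rw [h3, Finset.card_erase_of_mem (by simp [P.one_mem]), h1]

theorem orb_subset_punct (L : Loc P S) {v : G} (hv : v ∈ punct P) : orb S v ⊆ punct P := by
  intro y hy
  obtain ⟨s, hs, rfl⟩ := mem_orb.mp hy
  obtain ⟨hvP, hv1⟩ := mem_punct.mp hv
  refine mem_punct.mpr ⟨L.conj_mem hs hvP, ?_⟩
  intro h
  apply hv1
  calc v = s⁻¹ * (s * v * s⁻¹) * s := by group
    _ = 1 := by rw [h]; group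

/-- `S` is transitive on the non-identity elements of `P`, with stabilizers of order `2` -/
theorem orb_eq_punct (L : Loc P S) {v : G} (hv : v ∈ punct P) :
    orb S v = punct P ∧ Nat.card ↥(S ⊓ Subgroup.centralizer ({v} : Set G)) = 2 := by
  obtain ⟨hvP, hv1⟩ := mem_punct.mp hv
  have h := card_orb_mul S v
  rw [L.hS] at h
  have hle := L.card_stab_le hvP hv1
  have hsub := L.orb_subset_punct hv
  have hc := Finset.card_le_card hsub
  rw [L.card_punct] at hc
  have hK0 : 0 < Nat.card ↥(S ⊓ Subgroup.centralizer ({v} : Set G)) := Nat.card_pos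
  have h8 : (orb S v).card = 8 ∧ Nat.card ↥(S ⊓ Subgroup.centralizer ({v} : Set G)) = 2 := by
    have : Nat.card ↥(S ⊓ Subgroup.centralizer ({v} : Set G)) = 1 ∨
        Nat.card ↥(S ⊓ Subgroup.centralizer ({v} : Set G)) = 2 := by omega
    rcases this with h1 | h1 <;> rw [h1] at h <;> omega
  refine ⟨Finset.eq_of_subset_of_card_le hsub (by rw [L.card_punct, h8.1]), h8.2⟩

theorem exists_conj (L : Loc P S) {v v' : G} (hv : v ∈ P) (hv1 : v ≠ 1) (hv' : v' ∈ P)
    (hv1' : v' ≠ 1) : ∃ s ∈ S, v' = s * v * s⁻¹ := by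
  have h := (L.orb_eq_punct (mem_punct.mpr ⟨hv, hv1⟩)).1
  have : v' ∈ orb S v := by rw [h]; exact mem_punct.mpr ⟨hv', hv1'⟩
  exact mem_orb.mp this

theorem isPGroup_S (L : Loc P S) : IsPGroup 2 S :=
  IsPGroup.of_card (n := 4) (by rw [L.hS]; norm_num)

/-- a central involution of `S` -/
theorem exists_central_involution (L : Loc P S) :
    ∃ z ∈ S, orderOf z = 2 ∧ ∀ s ∈ S, s * z = z * s := by
  haveI : Fact (Nat.Prime 2) := ⟨Nat.prime_two⟩
  haveI : Nontrivial S := by
    rw [← Finite.one_lt_card_iff_nontrivial, L.hS]; norm_num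
  obtain ⟨k, hk0, hk⟩ := IsPGroup.card_center_eq_prime_pow (p := 2) (G := S) (n := 4)
    (by rw [L.hS]; norm_num) (by norm_num)
  have h2 : 2 ∣ Nat.card (Subgroup.center S) := by
    rw [hk]; exact dvd_pow_self 2 (by omega)
  obtain ⟨c, hc⟩ := exists_prime_orderOf_dvd_card' 2 h2
  refine ⟨((c : S) : G), (c : S).2, ?_, ?_⟩
  · rw [Subgroup.orderOf_coe, Subgroup.orderOf_coe]; exact hc
  · intro s hs
    have := Subgroup.mem_center_iff.mp c.2 ⟨s, hs⟩
    exact congrArg Subtype.val this

/-- an element of `S` centralizing a non-identity element of `P` and commuting with `S` is trivial -/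
theorem central_fix_eq_one (L : Loc P S) {z v : G} (hz : z ∈ S) (hzc : ∀ s ∈ S, s * z = z * s)
    (hv : v ∈ P) (hv1 : v ≠ 1) (hzv : z * v = v * z) : z = 1 := by
  apply L.faith z hz
  intro p hp
  by_cases hp1 : p = 1
  · rw [hp1, mul_one, one_mul]
  · obtain ⟨s, hs, rfl⟩ := L.exists_conj hv hv1 hp hp1
    have h1 := hzc s hs
    have h2 : s⁻¹ * z = z * s⁻¹ := by
      calc s⁻¹ * z = s⁻¹ * (z * s) * s⁻¹ := by group
        _ = s⁻¹ * (s * z) * s⁻¹ := by rw [h1]
        _ = z * s⁻¹ := by group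
    calc z * (s * v * s⁻¹) = (z * s) * v * s⁻¹ := by group
      _ = (s * z) * v * s⁻¹ := by rw [h1]
      _ = s * (z * v) * s⁻¹ := by group
      _ = s * (v * z) * s⁻¹ := by rw [hzv]
      _ = s * v * (z * s⁻¹) := by group
      _ = s * v * (s⁻¹ * z) := by rw [h2]
      _ = s * v * s⁻¹ * z := by group

/-- an involution of `S` without non-trivial fixed points inverts `P` -/
theorem inverts_of_free (L : Loc P S) {z : G} (hz : z ∈ S) (hz2 : z * z = 1)
    (hfree : ∀ v ∈ P, z * v = v * z → v = 1) : ∀ p ∈ P, z * p * z⁻¹ = p⁻¹ := by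
  intro p hp
  have hzi : z⁻¹ = z := inv_eq_of_mul_eq_one_left hz2
  have hq : p * (z * p * z⁻¹) ∈ P := P.mul_mem hp (L.conj_mem hz hp)
  have hfix : z * (p * (z * p * z⁻¹)) = (p * (z * p * z⁻¹)) * z := by
    have hc := L.comm p hp (z * p * z⁻¹) (L.conj_mem hz hp)
    calc z * (p * (z * p * z⁻¹)) = (z * p * z⁻¹) * ((z * z) * p * (z⁻¹ * z⁻¹)) * z := by group
      _ = (z * p * z⁻¹) * p * z := by rw [hzi, hz2]; group
      _ = (p * (z * p * z⁻¹)) * z := by rw [hc]
  have h1 := hfree _ hq hfix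
  exact eq_inv_of_mul_eq_one_right h1

theorem inverts_central (L : Loc P S) {z : G} (hz : z ∈ S) (hz2 : orderOf z = 2)
    (hzc : ∀ s ∈ S, s * z = z * s) : ∀ p ∈ P, z * p * z⁻¹ = p⁻¹ := by
  have hzz : z * z = 1 := by
    have := pow_orderOf_eq_one z
    rwa [hz2, pow_two] at this
  apply L.inverts_of_free hz hzz
  intro v hv hzv
  by_contra hv1
  have := L.central_fix_eq_one hz hzc hv hv1 hzv
  rw [this, orderOf_one] at hz2
  omega

/-- an element of `S` inverting `P` is the central involution -/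
theorem eq_of_inverts (L : Loc P S) {z s : G} (hz : z ∈ S) (hs : s ∈ S)
    (hzi : ∀ p ∈ P, z * p * z⁻¹ = p⁻¹) (hsi : ∀ p ∈ P, s * p * s⁻¹ = p⁻¹) : s = z := by
  have h1 : s * z⁻¹ = 1 := by
    apply L.faith _ (S.mul_mem hs (S.inv_mem hz))
    intro p hp
    have h2 : z⁻¹ * p * z = p⁻¹ := by
      have h3 := hzi p⁻¹ (P.inv_mem hp)
      rw [inv_inv] at h3
      calc z⁻¹ * p * z = z⁻¹ * (z * p⁻¹ * z⁻¹) * z := by rw [h3]
        _ = p⁻¹ := by group
    have h4 := hsi p⁻¹ (P.inv_mem hp)
    rw [inv_inv] at h4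
    calc s * z⁻¹ * p = s * (z⁻¹ * p * z) * z⁻¹ := by group
      _ = s * p⁻¹ * z⁻¹ := by rw [h2]
      _ = (s * p⁻¹ * s⁻¹) * s * z⁻¹ := by group
      _ = p * (s * z⁻¹) := by rw [h4]; group
  calc s = s * z⁻¹ * z := by group
    _ = z := by rw [h1, one_mul]

/-- an involution of `S` other than the central one fixes a non-identity element of `P` -/
theorem exists_fixed (L : Loc P S) {z s : G} (hz : z ∈ S) (hs : s ∈ S)
    (hzi : ∀ p ∈ P, z * p * z⁻¹ = p⁻¹) (hs2 : s * s = 1) (hsz : s ≠ z) :
    ∃ v ∈ P, v ≠ 1 ∧ s * v = v * s := by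
  by_contra hne
  push Not at hne
  apply hsz
  apply L.eq_of_inverts hz hs hzi
  apply L.inverts_of_free hs hs2
  intro v hv hsv
  by_contra hv1
  exact hne v hv hv1 hsv

/-- the fixed points in `P` of a non-identity element of `S` fixing `v` lie on the line of `v` -/
theorem fixed_mem_zpowers (L : Loc P S) {s v p : G} (hs : s ∈ S) (hs1 : s ≠ 1) (hv : v ∈ P)
    (hv1 : v ≠ 1) (hsv : s * v = v * s) (hp : p ∈ P) (hsp : s * p = p * s) :
    p ∈ Subgroup.zpowers v := by
  by_contra hpv
  exact hs1 (L.faith s hs (L.centralizes_of_two hv hv1 hp hpv hsv hsp))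

/-- two non-identity elements of `S` fixing the same non-identity element of `P` coincide -/
theorem eq_of_fix_common (L : Loc P S) {s s' v : G} (hs : s ∈ S) (hs1 : s ≠ 1) (hs' : s' ∈ S)
    (hs1' : s' ≠ 1) (hv : v ∈ P) (hv1 : v ≠ 1) (hsv : s * v = v * s) (hsv' : s' * v = v * s') :
    s = s' := by
  classical
  have hc := (L.orb_eq_punct (mem_punct.mpr ⟨hv, hv1⟩)).2
  set K := S ⊓ Subgroup.centralizer ({v} : Set G) with hK
  have hsK : s ∈ K := ⟨hs, Subgroup.mem_centralizer_singleton_iff.mpr hsv⟩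
  have hsK' : s' ∈ K := ⟨hs', Subgroup.mem_centralizer_singleton_iff.mpr hsv'⟩
  by_contra hne
  have hinj : Function.Injective (fun i : Fin 3 => ((![⟨1, K.one_mem⟩, ⟨s, hsK⟩, ⟨s', hsK'⟩] : Fin 3 → K) i)) := by
    intro i j hij
    fin_cases i <;> fin_cases j <;> simp at hij <;> first | rfl | (exfalso; tauto) | (exfalso; exact hs1 hij) | (exfalso; exact hs1 hij.symm) | (exfalso; exact hs1' hij) | (exfalso; exact hs1' hij.symm)
  have := Nat.card_le_card_of_injective _ hinj
  rw [hc] at this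
  simp at this

theorem ne_inv_of_mem (L : Loc P S) {v : G} (hv : v ∈ P) (hv1 : v ≠ 1) : v ≠ v⁻¹ := by
  intro h
  apply hv1
  have h3 := L.pow_three hv
  have h2 : v * v = 1 := by
    have h4 : v * v = v * v⁻¹ := by rw [← h]
    rw [h4, mul_inv_cancel]
  calc v = v ^ 3 * (v * v)⁻¹ := by group
    _ = 1 := by rw [h3, h2]; group

/-- the involutions of `S` -/
noncomputable def invs (S : Subgroup G) : Finset G :=
  haveI : DecidablePred (fun s => s ∈ S ∧ orderOf s = 2) := Classical.decPred _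
  Finset.univ.filter (fun s => s ∈ S ∧ orderOf s = 2)

theorem mem_invs {s : G} : s ∈ invs S ↔ s ∈ S ∧ orderOf s = 2 := by
  classical
  unfold invs
  simp

theorem sq_of_orderOf_two {s : G} (h : orderOf s = 2) : s * s = 1 := by
  have := pow_orderOf_eq_one s
  rwa [h, pow_two] at this

theorem ne_one_of_orderOf_two {s : G} (h : orderOf s = 2) : s ≠ 1 := by
  rintro rfl
  rw [orderOf_one] at h
  omega

/-- `S` has at most five involutions -/
theorem card_invs_le (L : Loc P S) : (invs S).card ≤ 5 := by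
  classical
  obtain ⟨z, hzS, hz2, hzc⟩ := L.exists_central_involution
  have hzi := L.inverts_central hzS hz2 hzc
  have hle : ((invs S).erase z).card ≤ 4 := by
    set I := (invs S).erase z with hI
    set F : G → Finset G := fun s => (punct P).filter (fun v => s * v = v * s) with hF
    have hF2 : ∀ s ∈ I, 2 ≤ (F s).card := by
      intro s hs
      obtain ⟨hsz, hsI⟩ := Finset.mem_erase.mp hs
      obtain ⟨hsS, hs2⟩ := mem_invs.mp hsI
      obtain ⟨v, hv, hv1, hsv⟩ := L.exists_fixed hzS hsS hzi (sq_of_orderOf_two hs2) hsz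
      have h1 : v ∈ F s := by
        rw [hF]
        exact Finset.mem_filter.mpr ⟨mem_punct.mpr ⟨hv, hv1⟩, hsv⟩
      have h2 : v⁻¹ ∈ F s := by
        rw [hF]
        refine Finset.mem_filter.mpr ⟨mem_punct.mpr ⟨P.inv_mem hv, inv_ne_one.mpr hv1⟩, ?_⟩
        exact ((show Commute s v from hsv).inv_right).eq
      have h3 : ({v, v⁻¹} : Finset G) ⊆ F s := by
        intro x hx
        rcases Finset.mem_insert.mp hx with rfl | hx
        · exact h1
        · rw [Finset.mem_singleton.mp hx]; exact h2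
      have h4 : ({v, v⁻¹} : Finset G).card = 2 := Finset.card_pair (L.ne_inv_of_mem hv hv1)
      rw [← h4]
      exact Finset.card_le_card h3
    have hdisj : ∀ s ∈ I, ∀ s' ∈ I, s ≠ s' → Disjoint (F s) (F s') := by
      intro s hs s' hs' hne
      rw [Finset.disjoint_left]
      intro v hv hv'
      rw [hF] at hv hv'
      obtain ⟨hvp, hsv⟩ := Finset.mem_filter.mp hv
      obtain ⟨-, hsv'⟩ := Finset.mem_filter.mp hv'
      obtain ⟨hvP, hv1⟩ := mem_punct.mp hvp
      obtain ⟨-, hsI⟩ := Finset.mem_erase.mp hs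
      obtain ⟨-, hsI'⟩ := Finset.mem_erase.mp hs'
      obtain ⟨hsS, hs2⟩ := mem_invs.mp hsI
      obtain ⟨hsS', hs2'⟩ := mem_invs.mp hsI'
      exact hne (L.eq_of_fix_common hsS (ne_one_of_orderOf_two hs2) hsS'
        (ne_one_of_orderOf_two hs2') hvP hv1 hsv hsv')
    have hcard : (I.biUnion F).card = ∑ s ∈ I, (F s).card := Finset.card_biUnion hdisj
    have hsub : I.biUnion F ⊆ punct P := by
      intro v hv
      obtain ⟨s, -, hvs⟩ := Finset.mem_biUnion.mp hv
      rw [hF] at hvs
      exact (Finset.mem_filter.mp hvs).1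
    have h8 := Finset.card_le_card hsub
    rw [L.card_punct, hcard] at h8
    have h9 := Finset.card_nsmul_le_sum I (fun s => (F s).card) 2 hF2
    rw [smul_eq_mul] at h9
    omega
  have := Finset.card_erase_add_one (show z ∈ invs S from mem_invs.mpr ⟨hzS, hz2⟩)
  omega

/-- a non-central involution of `S` -/
theorem exists_noncentral (L : Loc P S) {z : G} (hzi : ∀ p ∈ P, z * p * z⁻¹ = p⁻¹) :
    ∃ s ∈ S, orderOf s = 2 ∧ s ≠ z ∧ ∃ v ∈ P, v ≠ 1 ∧ s * v = v * s := by
  classical
  have hne : (punct P).Nonempty := by rw [← Finset.card_pos, L.card_punct]; norm_num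
  obtain ⟨v, hv⟩ := hne
  obtain ⟨hvP, hv1⟩ := mem_punct.mp hv
  have hc := (L.orb_eq_punct hv).2
  set K := S ⊓ Subgroup.centralizer ({v} : Set G) with hK
  haveI : Nontrivial K := by
    rw [← Finite.one_lt_card_iff_nontrivial, hc]; norm_num
  obtain ⟨k, hk⟩ := exists_ne (1 : K)
  have hkS : (k : G) ∈ S := (Subgroup.mem_inf.mp k.2).1
  have hkv : (k : G) * v = v * (k : G) :=
    Subgroup.mem_centralizer_singleton_iff.mp (Subgroup.mem_inf.mp k.2).2
  have hk1 : (k : G) ≠ 1 := fun h => hk (Subtype.ext h)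
  have hko : orderOf (k : G) = 2 := by
    have h1 : orderOf k ∣ 2 := by rw [← hc]; exact orderOf_dvd_natCard k
    rw [Subgroup.orderOf_coe]
    have h2 : orderOf k ≠ 1 := fun h => hk (orderOf_eq_one_iff.mp h)
    have h3 : orderOf k ≤ 2 := Nat.le_of_dvd (by norm_num) h1
    have h4 : 0 < orderOf k := orderOf_pos k
    omega
  refine ⟨(k : G), hkS, hko, ?_, v, hvP, hv1, hkv⟩
  intro hkz
  have h1 := hzi v hvP
  rw [← hkz] at h1
  have h2 : v = v⁻¹ := by
    calc v = (k : G) * v * (k : G)⁻¹ := by rw [hkv]; group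
      _ = v⁻¹ := h1
  exact L.ne_inv_of_mem hvP hv1 h2

/-- an involution of `S` fixing `v` inverts some non-identity element -/
theorem exists_inverted (L : Loc P S) {s v : G} (hs : s ∈ S) (hs2 : s * s = 1) (hs1 : s ≠ 1)
    (hv : v ∈ P) (hv1 : v ≠ 1) (hsv : s * v = v * s) :
    ∃ v' ∈ P, v' ≠ 1 ∧ s * v' * s⁻¹ = v'⁻¹ := by
  classical
  have hne : (off P v).Nonempty := by rw [← Finset.card_pos, L.card_off hv hv1]; norm_num
  obtain ⟨p, hp⟩ := hne
  obtain ⟨hpP, hpv⟩ := mem_off.mp hp
  have hsi : s⁻¹ = s := inv_eq_of_mul_eq_one_left hs2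
  have hspP := L.conj_mem hs hpP
  refine ⟨p⁻¹ * (s * p * s⁻¹), P.mul_mem (P.inv_mem hpP) hspP, ?_, ?_⟩
  · intro h
    have h1 : s * p * s⁻¹ = p := by
      calc s * p * s⁻¹ = p * (p⁻¹ * (s * p * s⁻¹)) := by group
        _ = p := by rw [h, mul_one]
    have h2 : s * p = p * s := by
      calc s * p = s * p * s⁻¹ * s := by group
        _ = p * s := by rw [h1]
    exact hpv (L.fixed_mem_zpowers hs hs1 hv hv1 hsv hpP h2)
  · have hc := L.comm p⁻¹ (P.inv_mem hpP) (s * p * s⁻¹) hspP
    have h4 : (s * s) * p * (s⁻¹ * s⁻¹) = p := by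
      rw [hs2, one_mul, ← mul_inv_rev, hs2, inv_one, mul_one]
    calc s * (p⁻¹ * (s * p * s⁻¹)) * s⁻¹ = (s * p * s⁻¹)⁻¹ * ((s * s) * p * (s⁻¹ * s⁻¹)) := by group
      _ = (s * p * s⁻¹)⁻¹ * p := by rw [h4]
      _ = (p⁻¹ * (s * p * s⁻¹))⁻¹ := by group

end Loc

end loc

end Cfsg.Agent.Lib.Helper4.M11
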