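import Mathlib
import Cfsg.Agent.Lib.Helper4.M11m
import Cfsg.Agent.Lib.Helper4.M11n

/-! The normalizer of a Sylow `3`-subgroup of a simple group of order `7920`, and the character
values at elements of order `3`. -/

set_option autoImplicit false
set_option linter.unusedSectionVars false
set_option linter.unusedVariables false
set_option linter.style.longLine false
set_option linter.unusedSimpArgs false
set_option linter.unusedDecidableInType false

set_option maxHeartbeats 3200000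

namespace Cfsg.Agent.Lib.Helper4.M11

open Cfsg Cfsg.Agent.Lib.Helper6 Module
open Cfsg.Agent.Lib.Lead Cfsg.Agent.Lib.Lead.SylowCount Cfsg.Agent.Lib.Lead.SmallSimple2
  Cfsg.Agent.Lib.Helper7.CountTools Cfsg.Agent.Lib.Helper7.SylPar Cfsg.Agent.Lib.Helper4.Ord5040
  Cfsg.Agent.Lib.Helper5.BrauerSmall
open scoped ComplexConjugate

section avg

variable {G : Type*} [Group G] [Fintype G]

/-- the restriction of a representation to a subgroup -/
noncomputable def resRep {n : ℕ} (ρ : Representation ℂ G (Fin n → ℂ)) (K : Subgroup G) :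
    Representation ℂ K (Fin n → ℂ) := ρ.comp K.subtype

theorem resRep_apply {n : ℕ} (ρ : Representation ℂ G (Fin n → ℂ)) (K : Subgroup G) (k : K) :
    resRep ρ K k = ρ (k : G) := rfl

theorem mem_invariants_resRep {n : ℕ} (ρ : Representation ℂ G (Fin n → ℂ)) (K : Subgroup G)
    (v : Fin n → ℂ) :
    v ∈ Representation.invariants (resRep ρ K) ↔ ∀ k ∈ K, ρ k v = v := by
  rw [Representation.mem_invariants]
  constructor
  · intro h k hk
    exact h ⟨k, hk⟩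
  · intro h k
    exact h k k.2

/-- the sum of a character over a subgroup is the order of the subgroup times the dimension of
the fixed space -/
theorem sum_subgroup_eq {n : ℕ} (ρ : Representation ℂ G (Fin n → ℂ)) (K : Subgroup G)
    [Fintype K] :
    ∑ k : K, ρ.character (k : G) =
      (Nat.card K : ℂ) * (finrank ℂ (Representation.invariants (resRep ρ K)) : ℂ) := by
  classical
  have hK0 : (Nat.card K : ℂ) ≠ 0 := by
    have : 0 < Nat.card K := Nat.card_pos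
    exact_mod_cast this.ne'
  haveI : Invertible (Nat.card K : ℂ) := invertibleOfNonzero hK0
  have h := Representation.card_inv_mul_sum_char_eq_finrank (resRep ρ K)
  have h2 : ∀ k : K, (resRep ρ K).character k = ρ.character (k : G) := fun k => rfl
  simp only [h2] at h
  rw [← h]
  field_simp

theorem exists_nat_sum {χ : G → ℂ} (hχ : Cfsg.IsCharacter G χ) (K : Subgroup G) [Fintype K] :
    ∃ m : ℕ, ∑ k : K, χ (k : G) = (Nat.card K : ℂ) * (m : ℂ) := by
  obtain ⟨n, ρ, rfl⟩ := hχ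
  exact ⟨_, sum_subgroup_eq ρ K⟩

end avg

section main

variable {G : Type*} [Group G] [Fintype G] [DecidableEq G]
variable [IsSimpleGroup G] [Fintype (Cfsg.IrrCharacter G)] [DecidableEq (Cfsg.IrrCharacter G)]

/-- the local structure at a Sylow `3`-subgroup -/
theorem exists_loc (hG : Nat.card G = 7920) (P : Sylow 3 G) :
    ∃ S : Subgroup G, Loc (P : Subgroup G) S := by
  haveI : Fact (Nat.Prime 2) := ⟨Nat.prime_two⟩
  have hN := card_normalizer_sylow3 hG P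
  have hP9 : Nat.card (P : Subgroup G) = 9 := card9 hG P
  set N := Subgroup.normalizer ((P : Subgroup G) : Set G) with hNdef
  obtain ⟨K, hK⟩ := Sylow.exists_subgroup_card_pow_prime (G := N) 2 (n := 4)
    (by rw [hN]; norm_num)
  refine ⟨K.map N.subtype, ?_⟩
  have hS16 : Nat.card (K.map N.subtype) = 16 := by
    rw [Subgroup.card_map_of_injective N.subtype_injective, hK]; norm_num
  have hSN : K.map N.subtype ≤ N := Subgroup.map_subtype_le K
  refine ⟨hP9, sylow3_comm P hP9, hS16, hSN, ?_⟩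
  intro s hs hcent
  by_contra hs1
  have hso : orderOf s ∣ 16 := by
    rw [← hS16]; exact Subgroup.orderOf_dvd_natCard _ hs
  have h2 : 2 ∣ Nat.card (Subgroup.zpowers s) := by
    rw [Nat.card_zpowers]
    have h1 : orderOf s ≠ 1 := fun h => hs1 (orderOf_eq_one_iff.mp h)
    have hle : orderOf s ≤ 16 := Nat.le_of_dvd (by norm_num) hso
    have h0 : 0 < orderOf s := orderOf_pos s
    interval_cases h : orderOf s <;> first | omega | (exfalso; revert hso; decide)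
  obtain ⟨t, ht⟩ := exists_prime_orderOf_dvd_card' 2 h2
  have ht2 : orderOf (t : G) = 2 := by rw [Subgroup.orderOf_coe]; exact ht
  obtain ⟨i, hi⟩ := Subgroup.mem_zpowers_iff.mp t.2
  have hPle : (P : Subgroup G) ≤ Subgroup.centralizer ({(t : G)} : Set G) := by
    intro p hp
    rw [Subgroup.mem_centralizer_singleton_iff, ← hi]
    exact ((Commute.zpow_left (show Commute s p from hcent p hp) i).eq).symm
  have hdvd := Subgroup.card_dvd_of_le hPle
  rw [hP9, card_centralizer_involution hG (t : G) ht2] at hdvd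
  omega

end main

/-- the arithmetic of the character values at an element of order `3` -/
theorem three_arith2 (ba bb bc bt1 bt2 bx bw bz ma mb mc mt1 mt2 mx mw mz : ℕ)
    (A B C T1 T2 X W Z : ℤ)
    (hA : A = 10 - 3 * ba) (hB : B = 10 - 3 * bb) (hC : C = 10 - 3 * bc)
    (hT1 : T1 = 16 - 3 * bt1) (hT2 : T2 = 16 - 3 * bt2)
    (hX : X = 11 - 3 * bx) (hW : W = 44 - 3 * bw) (hZ : Z = 55 - 3 * bz)
    (hA' : 10 + 8 * A = 9 * ma) (hB' : 10 + 8 * B = 9 * mb) (hC' : 10 + 8 * C = 9 * mc)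
    (hT1' : 16 + 8 * T1 = 9 * mt1) (hT2' : 16 + 8 * T2 = 9 * mt2)
    (hX' : 11 + 8 * X = 9 * mx) (hW' : 44 + 8 * W = 9 * mw) (hZ' : 55 + 8 * Z = 9 * mz)
    (R1 : T1 = 1 - (A + B + C)) (R2 : T2 = 1 - (A + B + C))
    (R5 : 1 + X + T1 + T2 - W = 0)
    (R0 : 1 + 10 * (A + B + C) + 16 * (T1 + T2) + 11 * X + 44 * W + 55 * Z = 0) :
    A = 1 ∧ B = 1 ∧ C = 1 ∧ T1 = -2 ∧ T2 = -2 ∧ X = 2 ∧ W = -1 ∧ Z = 1 := by
  omega

section main3

variable {G : Type*} [Group G] [Fintype G] [DecidableEq G]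
variable [IsSimpleGroup G] [Fintype (Cfsg.IrrCharacter G)] [DecidableEq (Cfsg.IrrCharacter G)]

set_option maxRecDepth 4000 in
/-- the character values at a non-identity element of a Sylow `3`-subgroup -/
theorem values_three (hG : Nat.card G = 7920) (D : TenData G) {P S : Subgroup G} (L : Loc P S)
    {v : G} (hv : v ∈ P) (hv1 : v ≠ 1) :
    (D.a : G → ℂ) v = 1 ∧ (D.b : G → ℂ) v = 1 ∧ (D.c : G → ℂ) v = 1 ∧ (D.θ1 : G → ℂ) v = -2 ∧
    (D.θ2 : G → ℂ) v = -2 ∧ (D.χ45 : G → ℂ) v = 0 ∧ (D.χ11 : G → ℂ) v = 2 ∧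
    (D.χ44 : G → ℂ) v = -1 ∧ (D.χ55 : G → ℂ) v = 1 ∧
    Nat.card (Subgroup.centralizer ({v} : Set G)) = 18 := by
  classical
  obtain ⟨z, hzS, hz2, hzc⟩ := L.exists_central_involution
  have hzi := L.inverts_central hzS hz2 hzc
  have hvo : orderOf v = 3 := L.orderOf_eq_three hv hv1
  have hcardP : Fintype.card P = 9 := by rw [← Nat.card_eq_fintype_card]; exact L.hP
  have key : ∀ χ : Cfsg.IrrCharacter G, ∃ b m : ℕ,
      (χ : G → ℂ) v = (Cfsg.charDegree (χ : G → ℂ) : ℂ) - 3 * (b : ℂ) ∧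
      (Cfsg.charDegree (χ : G → ℂ) : ℂ) + 8 * (χ : G → ℂ) v = 9 * (m : ℂ) := by
    intro χ
    have hχ := IsIrrCharacter.isCharacter χ.2
    obtain ⟨b, hb⟩ := apply_order_three hχ v z hvo (hzi v hv)
    obtain ⟨m, hm⟩ := exists_nat_sum hχ P
    refine ⟨b, m, hb, ?_⟩
    have hconst : ∀ p : P, (χ : G → ℂ) (p : G) = (χ : G → ℂ) v +
        (if p = 1 then ((χ : G → ℂ) 1 - (χ : G → ℂ) v) else 0) := by
      intro p
      by_cases hp : p = 1
      · rw [if_pos hp, hp]; simp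
      · rw [if_neg hp, add_zero]
        have hp1 : (p : G) ≠ 1 := fun h => hp (Subtype.ext h)
        obtain ⟨s, hs, hsv⟩ := L.exists_conj hv hv1 p.2 hp1
        rw [hsv]
        exact (IsIrrCharacter.isClassFunction χ.2) v s
    rw [Finset.sum_congr rfl (fun p _ => hconst p), Finset.sum_add_distrib, Finset.sum_const,
      Finset.sum_ite_eq' Finset.univ (1 : P), if_pos (Finset.mem_univ _), Finset.card_univ,
      hcardP, L.hP, IsCharacter.apply_one_eq_charDegree hχ] at hm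
    simp only [nsmul_eq_mul] at hm
    push_cast at hm
    linear_combination hm
  have cda : Cfsg.charDegree (D.a : G → ℂ) = 10 := TenData.charDegree_eq (n := 10) (by rw [D.one_a]; norm_num)
  have cdb : Cfsg.charDegree (D.b : G → ℂ) = 10 := TenData.charDegree_eq (n := 10) (by rw [D.one_b]; norm_num)
  have cdc : Cfsg.charDegree (D.c : G → ℂ) = 10 := TenData.charDegree_eq (n := 10) (by rw [D.one_c]; norm_num)
  have cdθ1 : Cfsg.charDegree (D.θ1 : G → ℂ) = 16 := TenData.charDegree_eq (n := 16) (by rw [D.one_θ1]; norm_num)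
  have cdθ2 : Cfsg.charDegree (D.θ2 : G → ℂ) = 16 := TenData.charDegree_eq (n := 16) (by rw [D.one_θ2]; norm_num)
  have cd45 : Cfsg.charDegree (D.χ45 : G → ℂ) = 45 := TenData.charDegree_eq (n := 45) (by rw [D.one_45]; norm_num)
  have cd11 : Cfsg.charDegree (D.χ11 : G → ℂ) = 11 := TenData.charDegree_eq (n := 11) (by rw [D.one_11]; norm_num)
  have cd44 : Cfsg.charDegree (D.χ44 : G → ℂ) = 44 := TenData.charDegree_eq (n := 44) (by rw [D.one_44]; norm_num)
  have cd55 : Cfsg.charDegree (D.χ55 : G → ℂ) = 55 := TenData.charDegree_eq (n := 55) (by rw [D.one_55]; norm_num)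
  obtain ⟨ba, ma, hva, hma⟩ := key D.a
  obtain ⟨bb, mb, hvb, hmb⟩ := key D.b
  obtain ⟨bc, mc, hvc, hmc⟩ := key D.c
  obtain ⟨bt1, mt1, hvt1, hmt1⟩ := key D.θ1
  obtain ⟨bt2, mt2, hvt2, hmt2⟩ := key D.θ2
  obtain ⟨bx, mx, hvx, hmx⟩ := key D.χ11
  obtain ⟨bw, mw, hvw, hmw⟩ := key D.χ44
  obtain ⟨bz, mz, hvz, hmz⟩ := key D.χ55
  rw [cda] at hva hma
  rw [cdb] at hvb hmb
  rw [cdc] at hvc hmc
  rw [cdθ1] at hvt1 hmt1
  rw [cdθ2] at hvt2 hmt2
  rw [cd11] at hvx hmx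
  rw [cd44] at hvw hmw
  rw [cd55] at hvz hmz
  obtain ⟨A, hA⟩ : ∃ A : ℤ, A = 10 - 3 * (ba : ℤ) := ⟨_, rfl⟩
  obtain ⟨B, hB⟩ : ∃ B : ℤ, B = 10 - 3 * (bb : ℤ) := ⟨_, rfl⟩
  obtain ⟨C, hC⟩ : ∃ C : ℤ, C = 10 - 3 * (bc : ℤ) := ⟨_, rfl⟩
  obtain ⟨T1, hT1⟩ : ∃ T1 : ℤ, T1 = 16 - 3 * (bt1 : ℤ) := ⟨_, rfl⟩
  obtain ⟨T2, hT2⟩ : ∃ T2 : ℤ, T2 = 16 - 3 * (bt2 : ℤ) := ⟨_, rfl⟩
  obtain ⟨X, hX⟩ : ∃ X : ℤ, X = 11 - 3 * (bx : ℤ) := ⟨_, rfl⟩
  obtain ⟨W, hW⟩ : ∃ W : ℤ, W = 44 - 3 * (bw : ℤ) := ⟨_, rfl⟩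
  obtain ⟨Z, hZ⟩ : ∃ Z : ℤ, Z = 55 - 3 * (bz : ℤ) := ⟨_, rfl⟩
  have hvA : (D.a : G → ℂ) v = (A : ℂ) := by rw [hva, hA]; push_cast; ring
  have hvB : (D.b : G → ℂ) v = (B : ℂ) := by rw [hvb, hB]; push_cast; ring
  have hvC : (D.c : G → ℂ) v = (C : ℂ) := by rw [hvc, hC]; push_cast; ring
  have hvT1 : (D.θ1 : G → ℂ) v = (T1 : ℂ) := by rw [hvt1, hT1]; push_cast; ring
  have hvT2 : (D.θ2 : G → ℂ) v = (T2 : ℂ) := by rw [hvt2, hT2]; push_cast; ring
  have hvX : (D.χ11 : G → ℂ) v = (X : ℂ) := by rw [hvx, hX]; push_cast; ring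
  have hvW : (D.χ44 : G → ℂ) v = (W : ℂ) := by rw [hvw, hW]; push_cast; ring
  have hvZ : (D.χ55 : G → ℂ) v = (Z : ℂ) := by rw [hvz, hZ]; push_cast; ring
  have hv45 : (D.χ45 : G → ℂ) v = 0 :=
    IsIrrCharacter.eq_zero_of_defect_zero D.χ45.2 3 2 (by norm_num) (by rw [hG]; norm_num)
      (by rw [hG]; norm_num) (by rw [cd45]; norm_num) v (by rw [hvo])
  have hv1' : ∀ g : G, ((oneIrr G : Cfsg.IrrCharacter G) : G → ℂ) g = 1 := fun g => rfl
  have hA' : 10 + 8 * A = 9 * (ma : ℤ) := by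
    rw [hvA] at hma
    have : ((10 + 8 * A : ℤ) : ℂ) = ((9 * (ma : ℤ) : ℤ) : ℂ) := by push_cast; exact hma
    exact_mod_cast this
  have hB' : 10 + 8 * B = 9 * (mb : ℤ) := by
    rw [hvB] at hmb
    have : ((10 + 8 * B : ℤ) : ℂ) = ((9 * (mb : ℤ) : ℤ) : ℂ) := by push_cast; exact hmb
    exact_mod_cast this
  have hC' : 10 + 8 * C = 9 * (mc : ℤ) := by
    rw [hvC] at hmc
    have : ((10 + 8 * C : ℤ) : ℂ) = ((9 * (mc : ℤ) : ℤ) : ℂ) := by push_cast; exact hmc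
    exact_mod_cast this
  have hT1' : 16 + 8 * T1 = 9 * (mt1 : ℤ) := by
    rw [hvT1] at hmt1
    have : ((16 + 8 * T1 : ℤ) : ℂ) = ((9 * (mt1 : ℤ) : ℤ) : ℂ) := by push_cast; exact hmt1
    exact_mod_cast this
  have hT2' : 16 + 8 * T2 = 9 * (mt2 : ℤ) := by
    rw [hvT2] at hmt2
    have : ((16 + 8 * T2 : ℤ) : ℂ) = ((9 * (mt2 : ℤ) : ℤ) : ℂ) := by push_cast; exact hmt2
    exact_mod_cast this
  have hX' : 11 + 8 * X = 9 * (mx : ℤ) := by
    rw [hvX] at hmx
    have : ((11 + 8 * X : ℤ) : ℂ) = ((9 * (mx : ℤ) : ℤ) : ℂ) := by push_cast; exact hmx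
    exact_mod_cast this
  have hW' : 44 + 8 * W = 9 * (mw : ℤ) := by
    rw [hvW] at hmw
    have : ((44 + 8 * W : ℤ) : ℂ) = ((9 * (mw : ℤ) : ℤ) : ℂ) := by push_cast; exact hmw
    exact_mod_cast this
  have hZ' : 55 + 8 * Z = 9 * (mz : ℤ) := by
    rw [hvZ] at hmz
    have : ((55 + 8 * Z : ℤ) : ℂ) = ((9 * (mz : ℤ) : ℤ) : ℂ) := by push_cast; exact hmz
    exact_mod_cast this
  have h11 := D.r11 v (by rw [hvo]; norm_num)
  rw [hvT1, hvT2, hv45, hvA, hvB, hvC] at h11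
  have R1 : T1 = 1 - (A + B + C) := by
    have : ((T1 : ℤ) : ℂ) = ((1 - (A + B + C) : ℤ) : ℂ) := by push_cast; rw [h11.1]; ring
    exact_mod_cast this
  have R2 : T2 = 1 - (A + B + C) := by
    have : ((T2 : ℤ) : ℂ) = ((1 - (A + B + C) : ℤ) : ℂ) := by push_cast; rw [h11.2]; ring
    exact_mod_cast this
  have R5 : 1 + X + T1 + T2 - W = 0 := by
    have h := D.r5 v (by rw [hvo]; norm_num)
    rw [hvX, hvT1, hvT2, hvW] at h
    have : ((1 + X + T1 + T2 - W : ℤ) : ℂ) = 0 := by push_cast; exact h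
    exact_mod_cast this
  have R0 : 1 + 10 * (A + B + C) + 16 * (T1 + T2) + 11 * X + 44 * W + 55 * Z = 0 := by
    have h4 := (sum_irr_mul_conj 1 v).2 (by
      intro h
      exact hv1 (isConj_one_right.mp h))
    rw [D.split, hv1', hv1', D.one_a, D.one_b, D.one_c, D.one_θ1, D.one_θ2, D.one_45, D.one_11,
      D.one_44, D.one_55, hvA, hvB, hvC, hvT1, hvT2, hv45, hvX, hvW, hvZ] at h4
    simp only [map_one, map_intCast, map_zero] at h4
    have : ((1 + 10 * (A + B + C) + 16 * (T1 + T2) + 11 * X + 44 * W + 55 * Z : ℤ) : ℂ) = 0 := by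
      push_cast
      rw [← h4]
      ring
    exact_mod_cast this
  obtain ⟨eA, eB, eC, eT1, eT2, eX, eW, eZ⟩ := three_arith2 ba bb bc bt1 bt2 bx bw bz ma mb mc mt1
    mt2 mx mw mz A B C T1 T2 X W Z hA hB hC hT1 hT2 hX hW hZ hA' hB' hC' hT1' hT2' hX' hW' hZ'
    R1 R2 R5 R0
  refine ⟨by rw [hvA, eA]; norm_num, by rw [hvB, eB]; norm_num, by rw [hvC, eC]; norm_num,
    by rw [hvT1, eT1]; norm_num, by rw [hvT2, eT2]; norm_num, hv45, by rw [hvX, eX]; norm_num,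
    by rw [hvW, eW]; norm_num, by rw [hvZ, eZ]; norm_num, ?_⟩
  have h5 := (sum_irr_mul_conj v v).1 (IsConj.refl v)
  rw [D.split, hv1', hvA, hvB, hvC, hvT1, hvT2, hv45, hvX, hvW, hvZ, eA, eB, eC, eT1, eT2, eX, eW,
    eZ] at h5
  simp only [map_one, map_intCast, map_zero] at h5
  have : ((Nat.card (Subgroup.centralizer ({v} : Set G)) : ℕ) : ℂ) = ((18 : ℕ) : ℂ) := by
    rw [← h5]
    push_cast
    norm_num
  exact_mod_cast this

end main3

end Cfsg.Agent.Lib.Helper4.M11
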