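import Mathlib
import Cfsg.Agent.Lib.Helper4.M11n

/-! General counting tools and conjugate subgroups, for the centralizer of an involution in a simple
group of order `7920`. -/

set_option autoImplicit false
set_option linter.unusedSectionVars false
set_option linter.unusedVariables false
set_option linter.style.longLine false
set_option linter.unusedSimpArgs false
set_option linter.unusedDecidableInType false

set_option maxHeartbeats 1600000

namespace Cfsg.Agent.Lib.Helper4.M11

section tools

/-- fixed point counting for a map of prime order on a finite set -/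
theorem card_modEq_fixed {α : Type*} [DecidableEq α] (p : ℕ) [hp : Fact p.Prime] (f : α → α)
    (X : Finset α) (hX : ∀ x ∈ X, f x ∈ X) (hf : ∀ x ∈ X, f^[p] x = x) :
    X.card ≡ (X.filter (fun x => f x = x)).card [MOD p] := by
  classical
  let F : Function.End ↥X := fun x => ⟨f x.1, hX x.1 x.2⟩
  have hpow : ∀ (n : ℕ) (x : ↥X), (((F ^ n) x : ↥X) : α) = f^[n] x.1 := by
    intro n
    induction n with
    | zero => intro x; rfl
    | succ n ih =>
      intro x
      rw [pow_succ, Function.iterate_succ]
      show (((F ^ n) (F x) : ↥X) : α) = f^[n] (f x.1)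
      rw [ih]
  have hF : F ^ p ^ 1 = 1 := by
    rw [pow_one]
    funext x
    apply Subtype.ext
    rw [hpow]
    exact hf x.1 x.2
  have h := Equiv.Perm.card_fixedPoints_modEq (p := p) (n := 1) hF
  rw [Fintype.card_coe] at h
  have e : ↥(Function.fixedPoints F) ≃ ↥(X.filter (fun x => f x = x)) :=
    { toFun := fun x => ⟨x.1.1, Finset.mem_filter.mpr ⟨x.1.2, by
        have h1 : F x.1 = x.1 := x.2
        exact congrArg Subtype.val h1⟩⟩
      invFun := fun y => ⟨⟨y.1, (Finset.mem_filter.mp y.2).1⟩, by
        show F ⟨y.1, (Finset.mem_filter.mp y.2).1⟩ = ⟨y.1, (Finset.mem_filter.mp y.2).1⟩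
        apply Subtype.ext
        exact (Finset.mem_filter.mp y.2).2⟩
      left_inv := fun x => rfl
      right_inv := fun y => rfl }
  rw [Fintype.card_congr e, Fintype.card_coe] at h
  exact h

variable {G : Type*} [Group G]

theorem mem_zpowers_two {z x : G} (hz : z * z = 1) (hx : x ∈ Subgroup.zpowers z) :
    x = 1 ∨ x = z := by
  obtain ⟨k, rfl⟩ := Subgroup.mem_zpowers_iff.mp hx
  rcases Int.even_or_odd' k with ⟨m, hm | hm⟩
  · left
    rw [hm, zpow_mul, zpow_two, hz, one_zpow]
  · right
    rw [hm, zpow_add_one, zpow_mul, zpow_two, hz, one_zpow, one_mul]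

/-- the conjugate subgroup `r S r⁻¹` -/
def conjS (r : G) (S : Subgroup G) : Subgroup G := S.map (MulAut.conj r).toMonoidHom

theorem mem_conjS {r x : G} {S : Subgroup G} : x ∈ conjS r S ↔ r⁻¹ * x * r ∈ S := by
  unfold conjS
  rw [Subgroup.mem_map]
  constructor
  · rintro ⟨s, hs, rfl⟩
    have : r⁻¹ * (MulAut.conj r).toMonoidHom s * r = s := by
      show r⁻¹ * (r * s * r⁻¹) * r = s
      group
    rw [this]; exact hs
  · intro h
    refine ⟨r⁻¹ * x * r, h, ?_⟩
    show r * (r⁻¹ * x * r) * r⁻¹ = x
    group

theorem conj_mem_conjS {r s : G} {S : Subgroup G} (hs : s ∈ S) : r * s * r⁻¹ ∈ conjS r S := by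
  rw [mem_conjS]
  have : r⁻¹ * (r * s * r⁻¹) * r = s := by group
  rw [this]; exact hs

theorem card_conjS (r : G) (S : Subgroup G) : Nat.card (conjS r S) = Nat.card S :=
  (Nat.card_congr ((MulAut.conj r).subgroupMap S).toEquiv).symm

/-- a subgroup of relative index two is normalized -/
theorem conj_mem_of_relIndex_two {H K : Subgroup G} (hHK : H ≤ K) (h : H.relIndex K = 2) {x g : G}
    (hx : x ∈ K) (hg : g ∈ H) : x * g * x⁻¹ ∈ H := by
  haveI : (H.subgroupOf K).Normal := Subgroup.normal_of_index_eq_two h
  have := (inferInstance : (H.subgroupOf K).Normal).conj_mem ⟨g, hHK hg⟩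
    (Subgroup.mem_subgroupOf.mpr hg) ⟨x, hx⟩
  exact Subgroup.mem_subgroupOf.mp this

end tools

end Cfsg.Agent.Lib.Helper4.M11
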