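import Mathlib
import Cfsg.Agent.Lib.Helper4.M11p

/-! The centralizer of an involution in a simple group of order `7920`: the normal subgroup of
order eight. -/

set_option autoImplicit false
set_option linter.unusedSectionVars false
set_option linter.unusedVariables false
set_option linter.style.longLine false
set_option linter.unusedSimpArgs false
set_option linter.unusedDecidableInType false

set_option maxHeartbeats 1600000

namespace Cfsg.Agent.Lib.Helper4.M11

section tools2

variable {G : Type*} [Group G]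

theorem card_mul_relIndex' {H K : Subgroup G} (h : H ≤ K) :
    Nat.card H * H.relIndex K = Nat.card K := by
  have := Subgroup.relIndex_mul_relIndex (H := ⊥) (K := H) (L := K) bot_le h
  rwa [Subgroup.relIndex_bot_left, Subgroup.relIndex_bot_left] at this

theorem iterate_conj (r x : G) (n : ℕ) :
    (fun y => r * y * r⁻¹)^[n] x = r ^ n * x * (r ^ n)⁻¹ := by
  induction n generalizing x with
  | zero => simp
  | succ n ih =>
    rw [Function.iterate_succ, Function.comp_apply, ih, pow_succ]
    group

theorem orderOf_conj' (r x : G) : orderOf (r * x * r⁻¹) = orderOf x :=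
  (MulAut.conj r).orderOf_eq x

theorem comm_of_conj_eq {r x : G} (h : r * x * r⁻¹ = x) : r * x = x * r := by
  calc r * x = (r * x * r⁻¹) * r := by group
    _ = x * r := by rw [h]

theorem conj_eq_of_comm {r x : G} (h : r * x = x * r) : r * x * r⁻¹ = x := by
  rw [h]; group

theorem le_normalizer_of_conj {H K : Subgroup G} (h : ∀ x ∈ K, ∀ g ∈ H, x * g * x⁻¹ ∈ H) :
    K ≤ Subgroup.normalizer (H : Set G) := by
  intro x hx
  rw [Subgroup.mem_normalizer_iff]
  intro g
  constructor
  · exact h x hx g
  · intro hg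
    have := h x⁻¹ (K.inv_mem hx) _ hg
    have e : x⁻¹ * (x * g * x⁻¹) * x⁻¹⁻¹ = g := by group
    rwa [e] at this

end tools2

section cen

variable {G : Type*} [Group G] [Fintype G] [DecidableEq G]

/-- the configuration at the centralizer of the central involution of `S` -/
structure Cen (P S : Subgroup G) (z : G) : Prop where
  loc : Loc P S
  hz : z ∈ S
  hz2 : orderOf z = 2
  hzc : ∀ s ∈ S, s * z = z * s
  hC : Nat.card (Subgroup.centralizer ({z} : Set G)) = 48
  hNC : ∀ g ∈ Subgroup.normalizer (P : Set G), g * z = z * g → g ∈ S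
  h18 : ∀ r : G, orderOf r = 3 → Nat.card (Subgroup.centralizer ({r} : Set G)) = 18

namespace Cen

variable {P S : Subgroup G} {z : G}

theorem hzz (D : Cen P S z) : z * z = 1 := Loc.sq_of_orderOf_two D.hz2

theorem z_ne_one (D : Cen P S z) : z ≠ 1 := Loc.ne_one_of_orderOf_two D.hz2

theorem hzi (D : Cen P S z) : ∀ p ∈ P, z * p * z⁻¹ = p⁻¹ :=
  D.loc.inverts_central D.hz D.hz2 D.hzc

theorem z_inv (D : Cen P S z) : z⁻¹ = z := inv_eq_of_mul_eq_one_left D.hzz

theorem S_le (D : Cen P S z) : S ≤ Subgroup.centralizer ({z} : Set G) := by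
  intro s hs
  rw [Subgroup.mem_centralizer_singleton_iff]
  exact D.hzc s hs

theorem exists_rho (D : Cen P S z) : ∃ r : G, orderOf r = 3 ∧ r * z = z * r := by
  haveI : Fact (Nat.Prime 3) := ⟨by norm_num⟩
  have h3 : 3 ∣ Nat.card (Subgroup.centralizer ({z} : Set G)) := by rw [D.hC]; norm_num
  obtain ⟨x, hx⟩ := exists_prime_orderOf_dvd_card' 3 h3
  refine ⟨(x : G), ?_, Subgroup.mem_centralizer_singleton_iff.mp x.2⟩
  rw [Subgroup.orderOf_coe]; exact hx

/-- an element of order three commuting with `z` centralizes only `1` and `z` in a `2`-group -/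
theorem fix_rho (D : Cen P S z) {r : G} (hr : orderOf r = 3) (hrz : r * z = z * r)
    {T : Subgroup G} (hT : Nat.card T ∣ 16) (hzT : z ∈ T) {g : G} (hg : g ∈ T)
    (hrg : r * g = g * r) : g = 1 ∨ g = z := by
  set K := T ⊓ Subgroup.centralizer ({r} : Set G) with hK
  have h1 : Nat.card K ∣ 16 := (Subgroup.card_dvd_of_le inf_le_left).trans hT
  have h3 : Nat.card K ∣ 18 := by
    rw [← D.h18 r hr]; exact Subgroup.card_dvd_of_le inf_le_right
  have h4 : Nat.card K ∣ 2 := by
    have : Nat.card K ∣ Nat.gcd 16 18 := Nat.dvd_gcd h1 h3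
    norm_num at this; exact this
  have hzK : Subgroup.zpowers z ≤ K := by
    rw [Subgroup.zpowers_le]
    exact ⟨hzT, Subgroup.mem_centralizer_singleton_iff.mpr hrz.symm⟩
  have hcz : Nat.card (Subgroup.zpowers z) = 2 := by rw [Nat.card_zpowers, D.hz2]
  have hKz : Subgroup.zpowers z = K :=
    Subgroup.eq_of_le_of_card_ge hzK (by rw [hcz]; exact Nat.le_of_dvd (by norm_num) h4)
  have hgK : g ∈ K := ⟨hg, Subgroup.mem_centralizer_singleton_iff.mpr hrg.symm⟩
  rw [← hKz] at hgK
  exact mem_zpowers_two D.hzz hgK

theorem pow_three_rho {r : G} (hr : orderOf r = 3) : r ^ 3 = 1 := by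
  rw [← hr]; exact pow_orderOf_eq_one r

/-- `S` is not normalized by an element of order three of the centralizer -/
theorem conj_ne (D : Cen P S z) {r : G} (hr : orderOf r = 3) (hrz : r * z = z * r) :
    conjS r S ≠ S := by
  classical
  intro h
  haveI : Fact (Nat.Prime 3) := ⟨by norm_num⟩
  set X : Finset G := Finset.univ.filter (fun x => x ∈ S) with hX
  have hcard : X.card = 16 := by
    rw [← D.loc.hS, Nat.card_eq_fintype_card, Fintype.card_subtype]
  have hr3 := pow_three_rho hr
  have hmod := card_modEq_fixed 3 (fun x => r * x * r⁻¹) X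
    (by
      intro x hx
      rw [hX, Finset.mem_filter] at hx ⊢
      refine ⟨Finset.mem_univ _, ?_⟩
      rw [← h]
      exact conj_mem_conjS hx.2)
    (by
      intro x _
      rw [iterate_conj, hr3]
      simp)
  have hfix : X.filter (fun x => r * x * r⁻¹ = x) = {1, z} := by
    ext x
    simp only [Finset.mem_filter, hX, Finset.mem_univ, true_and, Finset.mem_insert,
      Finset.mem_singleton]
    constructor
    · rintro ⟨hxS, hx⟩
      exact D.fix_rho hr hrz (dvd_of_eq D.loc.hS) D.hz hxS (comm_of_conj_eq hx)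
    · rintro (rfl | rfl)
      · exact ⟨S.one_mem, by group⟩
      · exact ⟨D.hz, conj_eq_of_comm hrz⟩
  rw [hfix, hcard, Finset.card_pair (Ne.symm D.z_ne_one)] at hmod
  exact absurd hmod (by decide)

end Cen

end cen

end Cfsg.Agent.Lib.Helper4.M11
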