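import Mathlib
import Cfsg.Agent.Lib.Helper4.M11q

/-! The normal subgroup of order eight of the centralizer of an involution (order `7920`). -/

set_option autoImplicit false
set_option linter.unusedSectionVars false
set_option linter.unusedVariables false
set_option linter.style.longLine false
set_option linter.unusedSimpArgs false
set_option linter.unusedDecidableInType false

set_option maxHeartbeats 1600000

namespace Cfsg.Agent.Lib.Helper4.M11

section oct

variable {G : Type*} [Group G] [Fintype G] [DecidableEq G]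

/-- the intersection of `S` with its conjugate under `r` -/
def oct (r : G) (S : Subgroup G) : Subgroup G := S ⊓ conjS r S

namespace Cen

variable {P S : Subgroup G} {z : G}

theorem conjS_le (D : Cen P S z) {r : G} (hrz : r * z = z * r) :
    conjS r S ≤ Subgroup.centralizer ({z} : Set G) := by
  intro x hx
  rw [mem_conjS] at hx
  rw [Subgroup.mem_centralizer_singleton_iff]
  have h1 := D.hzc _ hx
  have hz' : r * z * r⁻¹ = z := conj_eq_of_comm hrz
  calc x * z = x * (r * z * r⁻¹) := by rw [hz']
    _ = r * (r⁻¹ * x * r * z) * r⁻¹ := by group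
    _ = r * (z * (r⁻¹ * x * r)) * r⁻¹ := by rw [h1]
    _ = (r * z * r⁻¹) * x := by group
    _ = z * x := by rw [hz']

theorem oct_le (r : G) : oct r S ≤ S := inf_le_left

theorem oct_le' (r : G) : oct r S ≤ conjS r S := inf_le_right

theorem z_mem_oct (D : Cen P S z) {r : G} (hrz : r * z = z * r) : z ∈ oct r S := by
  refine ⟨D.hz, ?_⟩
  show z ∈ conjS r S
  rw [mem_conjS]
  have hz' : r * z * r⁻¹ = z := conj_eq_of_comm hrz
  have : r⁻¹ * z * r = z := by
    calc r⁻¹ * z * r = r⁻¹ * (r * z * r⁻¹) * r := by rw [hz']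
      _ = z := by group
  rw [this]; exact D.hz

theorem card_oct (D : Cen P S z) {r : G} (hr : orderOf r = 3) (hrz : r * z = z * r) :
    Nat.card (oct r S) = 8 := by
  set S' := conjS r S with hS'
  set C := Subgroup.centralizer ({z} : Set G) with hC
  have hS'c : Nat.card S' = 16 := by rw [hS', card_conjS, D.loc.hS]
  have hS'C : S' ≤ C := D.conjS_le hrz
  have h1 : Nat.card S' * S'.relIndex C = 48 := by
    rw [card_mul_relIndex' hS'C, hC, D.hC]
  have h2 : S'.relIndex C = 3 := by
    rw [hS'c] at h1; omega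
  have h3 : S'.relIndex S ≤ 3 := by
    rw [← h2]
    exact Subgroup.relIndex_le_of_le_right D.S_le (by rw [h2]; norm_num)
  have h4 : Nat.card (oct r S) * S'.relIndex S = 16 := by
    have h5 := card_mul_relIndex' (H := S' ⊓ S) (K := S) inf_le_right
    rw [Subgroup.inf_relIndex_right, D.loc.hS] at h5
    have h6 : oct r S = S' ⊓ S := by unfold oct; rw [inf_comm]
    rw [h6]; exact h5
  have h7 : S'.relIndex S = 1 ∨ S'.relIndex S = 2 := by
    have hd : S'.relIndex S ∣ 16 := Dvd.intro_left _ h4
    have hpos : 0 < S'.relIndex S := Nat.pos_of_dvd_of_pos hd (by norm_num)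
    interval_cases (S'.relIndex S) <;> first | omega | (exfalso; revert hd; decide)
  rcases h7 with h7 | h7
  · exfalso
    rw [h7, mul_one] at h4
    have h8 : oct r S = S :=
      Subgroup.eq_of_le_of_card_ge (oct_le r) (by rw [h4, D.loc.hS])
    have h9 : S ≤ S' := by
      rw [← h8]; exact oct_le' r
    have h10 : S = S' := Subgroup.eq_of_le_of_card_ge h9 (by rw [hS'c, D.loc.hS])
    exact D.conj_ne hr hrz h10.symm
  · rw [h7] at h4; omega

theorem relIndex_oct (D : Cen P S z) {r : G} (hr : orderOf r = 3) (hrz : r * z = z * r) :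
    (oct r S).relIndex S = 2 := by
  have h := card_mul_relIndex' (oct_le (S := S) r)
  rw [D.card_oct hr hrz, D.loc.hS] at h
  omega

theorem relIndex_oct' (D : Cen P S z) {r : G} (hr : orderOf r = 3) (hrz : r * z = z * r) :
    (oct r S).relIndex (conjS r S) = 2 := by
  have h := card_mul_relIndex' (oct_le' (S := S) r)
  rw [D.card_oct hr hrz, card_conjS, D.loc.hS] at h
  omega

theorem sup_eq (D : Cen P S z) {r : G} (hr : orderOf r = 3) (hrz : r * z = z * r) :
    S ⊔ conjS r S = Subgroup.centralizer ({z} : Set G) := by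
  set S' := conjS r S with hS'
  have hle : S ⊔ S' ≤ Subgroup.centralizer ({z} : Set G) := sup_le D.S_le (D.conjS_le hrz)
  have h1 : 16 ∣ Nat.card ↥(S ⊔ S') := by
    rw [← D.loc.hS]; exact Subgroup.card_dvd_of_le le_sup_left
  have h2 : Nat.card ↥(S ⊔ S') ∣ 48 := by
    rw [← D.hC]; exact Subgroup.card_dvd_of_le hle
  have h3 : Nat.card ↥(S ⊔ S') = 16 ∨ Nat.card ↥(S ⊔ S') = 48 := by
    obtain ⟨k, hk⟩ := h1
    rw [hk] at h2 ⊢
    have hk3 : k ∣ 3 := by
      have : 16 * k ∣ 16 * 3 := by norm_num; exact h2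
      exact Nat.dvd_of_mul_dvd_mul_left (by norm_num) this
    have hk' : k = 1 ∨ k = 3 := (Nat.dvd_prime (by norm_num)).mp hk3
    rcases hk' with rfl | rfl
    · left; rfl
    · right; rfl
  rcases h3 with h3 | h3
  · exfalso
    have h4 : S = S ⊔ S' := Subgroup.eq_of_le_of_card_ge le_sup_left (by rw [h3, D.loc.hS])
    have h5 : S' ≤ S := by rw [h4]; exact le_sup_right
    have h6 : S' = S :=
      Subgroup.eq_of_le_of_card_ge h5 (by rw [hS', card_conjS])
    exact D.conj_ne hr hrz h6
  · exact Subgroup.eq_of_le_of_card_ge hle (by rw [h3, D.hC])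

/-- the subgroup of order eight is normal in the centralizer -/
theorem oct_normal (D : Cen P S z) {r : G} (hr : orderOf r = 3) (hrz : r * z = z * r) {c g : G}
    (hc : c * z = z * c) (hg : g ∈ oct r S) : c * g * c⁻¹ ∈ oct r S := by
  have h1 : S ≤ Subgroup.normalizer ((oct r S : Subgroup G) : Set G) :=
    le_normalizer_of_conj (fun x hx g hg =>
      conj_mem_of_relIndex_two (oct_le r) (D.relIndex_oct hr hrz) hx hg)
  have h2 : conjS r S ≤ Subgroup.normalizer ((oct r S : Subgroup G) : Set G) :=
    le_normalizer_of_conj (fun x hx g hg =>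
      conj_mem_of_relIndex_two (oct_le' r) (D.relIndex_oct' hr hrz) hx hg)
  have h3 : Subgroup.centralizer ({z} : Set G) ≤
      Subgroup.normalizer ((oct r S : Subgroup G) : Set G) := by
    rw [← D.sup_eq hr hrz]; exact sup_le h1 h2
  have hcC : c ∈ Subgroup.centralizer ({z} : Set G) :=
    Subgroup.mem_centralizer_singleton_iff.mpr hc
  exact (Subgroup.mem_normalizer_iff.mp (h3 hcC) g).mp hg

end Cen

end oct

end Cfsg.Agent.Lib.Helper4.M11
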