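import Mathlib
import Cfsg.Agent.Lib.Helper4.M11r

/-! The normal subgroup of order eight of the centralizer of an involution is quaternion-like. -/

set_option autoImplicit false
set_option linter.unusedSectionVars false
set_option linter.unusedVariables false
set_option linter.style.longLine false
set_option linter.unusedSimpArgs false
set_option linter.unusedDecidableInType false

set_option maxHeartbeats 1600000

namespace Cfsg.Agent.Lib.Helper4.M11

section octs

variable {G : Type*} [Group G] [Fintype G] [DecidableEq G]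

theorem oct_arith {c2 c4 c8 : ℕ} (h : 8 = 1 + c2 + c4 + c8) (h2 : c2 ≡ 1 [MOD 3])
    (h4 : c4 ≡ 0 [MOD 3]) (h8 : c8 ≡ 0 [MOD 3]) (p4 : c4 ≡ 0 [MOD 2]) (p8 : c8 ≡ 0 [MOD 2])
    (hle : c2 ≤ 5) : c2 = 1 ∧ ((c4 = 6 ∧ c8 = 0) ∨ (c4 = 0 ∧ c8 = 6)) := by
  unfold Nat.ModEq at *
  omega

namespace Cen

variable {P S : Subgroup G} {z : G}

/-- the subgroup of order eight has a unique involution and its other non-identity elements square
to it -/
theorem oct_structure (D : Cen P S z) {r : G} (hr : orderOf r = 3) (hrz : r * z = z * r) :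
    (∀ g ∈ oct r S, orderOf g = 2 → g = z) ∧
    (∀ g ∈ oct r S, g ≠ 1 → g ≠ z → g * g = z) := by
  classical
  haveI : Fact (Nat.Prime 3) := ⟨by norm_num⟩
  haveI : Fact (Nat.Prime 2) := ⟨Nat.prime_two⟩
  set O := oct r S with hO
  have hOc : Nat.card O = 8 := D.card_oct hr hrz
  have hzO : z ∈ O := D.z_mem_oct hrz
  set OF : Finset G := Finset.univ.filter (fun x => x ∈ O) with hOF
  have hOFc : OF.card = 8 := by
    rw [← hOc, Nat.card_eq_fintype_card, Fintype.card_subtype]
  have hr3 := pow_three_rho hr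
  set f : G → G := fun x => r * x * r⁻¹ with hf
  have hstab : ∀ x ∈ O, f x ∈ O := fun x hx => D.oct_normal hr hrz hrz hx
  set X : ℕ → Finset G := fun d => OF.filter (fun x => orderOf x = d) with hX
  have memX : ∀ d x, x ∈ X d ↔ x ∈ O ∧ orderOf x = d := by
    intro d x
    simp only [hX, hOF, Finset.mem_filter, Finset.mem_univ, true_and]
  have hfX : ∀ d, ∀ x ∈ X d, f x ∈ X d := by
    intro d x hx
    rw [memX] at hx ⊢
    exact ⟨hstab x hx.1, by rw [hf]; show orderOf (r * x * r⁻¹) = d; rw [orderOf_conj']; exact hx.2⟩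
  have hf3 : ∀ d, ∀ x ∈ X d, f^[3] x = x := by
    intro d x _
    rw [hf, iterate_conj, hr3]
    simp
  have hfixO : ∀ x ∈ O, f x = x → x = 1 ∨ x = z := by
    intro x hx hfx
    exact D.fix_rho hr hrz (by rw [hOc]; norm_num) hzO hx (comm_of_conj_eq hfx)
  have hzX2 : z ∈ X 2 := (memX 2 z).mpr ⟨hzO, D.hz2⟩
  -- counting modulo three
  have m2 : (X 2).card ≡ 1 [MOD 3] := by
    have h := card_modEq_fixed 3 f (X 2) (hfX 2) (hf3 2)
    have hfix : (X 2).filter (fun x => f x = x) = {z} := by
      ext x
      rw [Finset.mem_filter, Finset.mem_singleton]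
      constructor
      · rintro ⟨hx, hfx⟩
        rcases hfixO x ((memX 2 x).mp hx).1 hfx with h1 | h1
        · exfalso
          have := ((memX 2 x).mp hx).2
          rw [h1, orderOf_one] at this
          omega
        · exact h1
      · rintro rfl
        exact ⟨hzX2, conj_eq_of_comm hrz⟩
    rwa [hfix, Finset.card_singleton] at h
  have m48 : ∀ d, d ≠ 1 → d ≠ 2 → (X d).card ≡ 0 [MOD 3] := by
    intro d hd1 hd2
    have h := card_modEq_fixed 3 f (X d) (hfX d) (hf3 d)
    have hfix : (X d).filter (fun x => f x = x) = ∅ := by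
      rw [Finset.filter_eq_empty_iff]
      intro x hx hfx
      have hxo := ((memX d x).mp hx).2
      rcases hfixO x ((memX d x).mp hx).1 hfx with h1 | h1
      · rw [h1, orderOf_one] at hxo
        exact hd1 hxo.symm
      · rw [h1, D.hz2] at hxo
        exact hd2 hxo.symm
    rwa [hfix, Finset.card_empty] at h
  -- counting modulo two
  have p48 : ∀ d, d ≠ 1 → d ≠ 2 → (X d).card ≡ 0 [MOD 2] := by
    intro d hd1 hd2
    have h := card_modEq_fixed 2 (fun x : G => x⁻¹) (X d)
      (by
        intro x hx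
        rw [memX] at hx ⊢
        exact ⟨O.inv_mem hx.1, by rw [orderOf_inv]; exact hx.2⟩)
      (by
        intro x _
        simp)
    have hfix : (X d).filter (fun x => x⁻¹ = x) = ∅ := by
      rw [Finset.filter_eq_empty_iff]
      intro x hx hfx
      have hxo := ((memX d x).mp hx).2
      have hxx : x ^ 2 = 1 := by
        rw [pow_two]
        calc x * x = x * x⁻¹ := by rw [hfx]
          _ = 1 := mul_inv_cancel x
      have hdvd : orderOf x ∣ 2 := orderOf_dvd_of_pow_eq_one hxx
      rw [hxo] at hdvd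
      have : d = 1 ∨ d = 2 := (Nat.dvd_prime Nat.prime_two).mp hdvd
      rcases this with h1 | h1
      · exact hd1 h1
      · exact hd2 h1
    rwa [hfix, Finset.card_empty] at h
  -- the partition by orders
  have hpart : OF.card = ∑ d ∈ Nat.divisors 8, (X d).card := by
    apply Finset.card_eq_sum_card_fiberwise
    intro x hx
    have hxO : x ∈ O := by
      have hx' := Finset.mem_coe.mp hx
      rw [hOF, Finset.mem_filter] at hx'; exact hx'.2
    have hd : orderOf x ∣ 8 := by
      rw [← hOc]; exact Subgroup.orderOf_dvd_natCard O hxO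
    exact Nat.mem_divisors.mpr ⟨hd, by norm_num⟩
  have hdiv : Nat.divisors 8 = {1, 2, 4, 8} := by decide
  have hX1 : (X 1).card = 1 := by
    have : X 1 = {1} := by
      ext x
      rw [memX, Finset.mem_singleton]
      constructor
      · rintro ⟨_, h1⟩
        exact orderOf_eq_one_iff.mp h1
      · rintro rfl
        exact ⟨O.one_mem, orderOf_one⟩
    rw [this, Finset.card_singleton]
  rw [hOFc, hdiv] at hpart
  have hsum : ∑ d ∈ ({1, 2, 4, 8} : Finset ℕ), (X d).card =
      (X 1).card + (X 2).card + (X 4).card + (X 8).card := by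
    rw [Finset.sum_insert (by decide), Finset.sum_insert (by decide),
      Finset.sum_insert (by decide), Finset.sum_singleton]
    ring
  rw [hsum, hX1] at hpart
  have hle : (X 2).card ≤ 5 := by
    refine le_trans (Finset.card_le_card ?_) D.loc.card_invs_le
    intro x hx
    rw [memX] at hx
    exact Loc.mem_invs.mpr ⟨oct_le r hx.1, hx.2⟩
  obtain ⟨hc2, hc48⟩ := oct_arith hpart m2 (m48 4 (by norm_num) (by norm_num))
    (m48 8 (by norm_num) (by norm_num)) (p48 4 (by norm_num) (by norm_num))
    (p48 8 (by norm_num) (by norm_num)) hle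
  have hc8 : (X 8).card = 0 := by
    rcases hc48 with ⟨_, h8⟩ | ⟨h4, h8⟩
    · exact h8
    · exfalso
      have hne : (X 8).Nonempty := by rw [← Finset.card_pos, h8]; norm_num
      obtain ⟨g, hg⟩ := hne
      rw [memX] at hg
      have h44 : g ^ 2 ∈ X 4 := by
        rw [memX]
        refine ⟨O.pow_mem hg.1 2, ?_⟩
        rw [orderOf_pow' g (by norm_num), hg.2]
        norm_num
      have : 0 < (X 4).card := Finset.card_pos.mpr ⟨_, h44⟩
      omega
  have huniq : ∀ g ∈ O, orderOf g = 2 → g = z := by
    intro g hg hg2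
    obtain ⟨a, ha⟩ := Finset.card_eq_one.mp hc2
    have h1 : g ∈ X 2 := (memX 2 g).mpr ⟨hg, hg2⟩
    rw [ha, Finset.mem_singleton] at h1 hzX2
    rw [h1, hzX2]
  refine ⟨huniq, ?_⟩
  intro g hg hg1 hgz
  have hd : orderOf g ∣ 8 := by
    rw [← hOc]; exact Subgroup.orderOf_dvd_natCard O hg
  have hmem : orderOf g ∈ Nat.divisors 8 := Nat.mem_divisors.mpr ⟨hd, by norm_num⟩
  rw [hdiv] at hmem
  simp only [Finset.mem_insert, Finset.mem_singleton] at hmem
  rcases hmem with h | h | h | h
  · exact absurd (orderOf_eq_one_iff.mp h) hg1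
  · exact absurd (huniq g hg h) hgz
  · have h2 : orderOf (g ^ 2) = 2 := by
      rw [orderOf_pow' g (by norm_num), h]
      norm_num
    have := huniq (g ^ 2) (O.pow_mem hg 2) h2
    rwa [pow_two] at this
  · exfalso
    have : g ∈ X 8 := (memX 8 g).mpr ⟨hg, h⟩
    have : 0 < (X 8).card := Finset.card_pos.mpr ⟨_, this⟩
    omega

end Cen

end octs

end Cfsg.Agent.Lib.Helper4.M11
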