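import Mathlib
import Cfsg.Agent.Lib.Helper4.M11s

/-! The configuration `u`, `s'` in the centralizer of an involution (order `7920`). -/

set_option autoImplicit false
set_option linter.unusedSectionVars false
set_option linter.unusedVariables false
set_option linter.style.longLine false
set_option linter.unusedSimpArgs false
set_option linter.unusedDecidableInType false

set_option maxHeartbeats 1600000

namespace Cfsg.Agent.Lib.Helper4.M11

section config

variable {G : Type*} [Group G] [Fintype G] [DecidableEq G]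

theorem cu_arith {m n : ℕ} (h : m * n = 48) (hm : m ≤ 6) (hev : m ≡ 0 [MOD 2]) (h3 : ¬ 3 ∣ n) :
    n = 8 := by
  have hm0 : m ≠ 0 := by
    rintro rfl
    simp at h
  unfold Nat.ModEq at hev
  interval_cases m
  all_goals first
    | omega
    | (exfalso; apply h3; omega)

namespace Cen

variable {P S : Subgroup G} {z : G}

/-- non-identity elements of the subgroup of order eight act freely on `P` -/
theorem oct_free (D : Cen P S z) {r : G} (hr : orderOf r = 3) (hrz : r * z = z * r) {g w : G}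
    (hg : g ∈ oct r S) (hg1 : g ≠ 1) (hw : w ∈ P) (hgw : g * w = w * g) : w = 1 := by
  have hzw : z * w = w * z := by
    by_cases hgz : g = z
    · rw [← hgz]; exact hgw
    · have h2 := (D.oct_structure hr hrz).2 g hg hg1 hgz
      rw [← h2]
      calc g * g * w = g * (g * w) := by group
        _ = g * (w * g) := by rw [hgw]
        _ = (g * w) * g := by group
        _ = w * g * g := by rw [hgw]
        _ = w * (g * g) := by group
  by_contra hw1
  have h1 := D.hzi w hw
  have h2 : z * w * z⁻¹ = w := conj_eq_of_comm hzw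
  rw [h2] at h1
  exact D.loc.ne_inv_of_mem hw hw1 h1

/-- the subgroup of order eight is transitive on the non-identity elements of `P` -/
theorem oct_trans (D : Cen P S z) {r : G} (hr : orderOf r = 3) (hrz : r * z = z * r) {v v' : G}
    (hv : v ∈ P) (hv1 : v ≠ 1) (hv' : v' ∈ P) (hv1' : v' ≠ 1) :
    ∃ g ∈ oct r S, v' = g * v * g⁻¹ := by
  have hstab : oct r S ⊓ Subgroup.centralizer ({v} : Set G) = ⊥ := by
    rw [eq_bot_iff]
    rintro g ⟨hg, hgv⟩
    rw [Subgroup.mem_bot]
    by_contra hg1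
    exact hv1 (D.oct_free hr hrz hg hg1 hv (Subgroup.mem_centralizer_singleton_iff.mp hgv))
  have h := card_orb_mul (oct r S) v
  rw [hstab, Subgroup.card_bot, mul_one, D.card_oct hr hrz] at h
  have hsub : orb (oct r S) v ⊆ Loc.punct P := by
    intro y hy
    obtain ⟨g, hg, rfl⟩ := mem_orb.mp hy
    exact D.loc.orb_subset_punct (Loc.mem_punct.mpr ⟨hv, hv1⟩)
      (mem_orb.mpr ⟨g, oct_le r hg, rfl⟩)
  have heq : orb (oct r S) v = Loc.punct P :=
    Finset.eq_of_subset_of_card_le hsub (by rw [h, D.loc.card_punct])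
  have : v' ∈ orb (oct r S) v := by rw [heq]; exact Loc.mem_punct.mpr ⟨hv', hv1'⟩
  exact mem_orb.mp this

/-- a non-central involution of `S` inverting an element of order four -/
theorem exists_inverted_pair (D : Cen P S z) {r : G} (hr : orderOf r = 3) (hrz : r * z = z * r) :
    ∃ s ∈ S, ∃ u0 ∈ oct r S, orderOf s = 2 ∧ s ≠ z ∧ u0 * u0 = z ∧ s * u0 * s⁻¹ = u0⁻¹ := by
  obtain ⟨s, hsS, hs2, hsz, v, hvP, hv1, hsv⟩ := D.loc.exists_noncentral D.hzi
  have hss := Loc.sq_of_orderOf_two hs2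
  have hs1 := Loc.ne_one_of_orderOf_two hs2
  obtain ⟨v', hv'P, hv'1, hsv'⟩ := D.loc.exists_inverted hsS hss hs1 hvP hv1 hsv
  obtain ⟨u0, hu0, hv'⟩ := D.oct_trans hr hrz hvP hv1 hv'P hv'1
  have hsinv : s⁻¹ = s := inv_eq_of_mul_eq_one_left hss
  have hcs : s * u0 * s⁻¹ ∈ oct r S := D.oct_normal hr hrz (D.hzc s hsS) hu0
  have hzu : z * u0 ∈ oct r S := (oct r S).mul_mem (D.z_mem_oct hrz) hu0
  set h := (z * u0)⁻¹ * (s * u0 * s⁻¹) with hh
  have hhO : h ∈ oct r S := (oct r S).mul_mem ((oct r S).inv_mem hzu) hcs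
  have hsv2 : s⁻¹ * v * s = v := by
    calc s⁻¹ * v * s = s⁻¹ * (v * s) := by group
      _ = s⁻¹ * (s * v) := by rw [hsv]
      _ = v := by group
  have e1 : (s * u0 * s⁻¹) * v * (s * u0 * s⁻¹)⁻¹ = v'⁻¹ := by
    calc (s * u0 * s⁻¹) * v * (s * u0 * s⁻¹)⁻¹
        = s * (u0 * (s⁻¹ * v * s) * u0⁻¹) * s⁻¹ := by group
      _ = s * (u0 * v * u0⁻¹) * s⁻¹ := by rw [hsv2]
      _ = s * v' * s⁻¹ := by rw [← hv']
      _ = v'⁻¹ := hsv'
  have e2 : (z * u0) * v * (z * u0)⁻¹ = v'⁻¹ := by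
    calc (z * u0) * v * (z * u0)⁻¹ = z * (u0 * v * u0⁻¹) * z⁻¹ := by group
      _ = z * v' * z⁻¹ := by rw [← hv']
      _ = v'⁻¹ := D.hzi v' hv'P
  have hhv : h * v = v * h := by
    apply comm_of_conj_eq
    calc h * v * h⁻¹
        = (z * u0)⁻¹ * ((s * u0 * s⁻¹) * v * (s * u0 * s⁻¹)⁻¹) * (z * u0) := by rw [hh]; group
      _ = (z * u0)⁻¹ * ((z * u0) * v * (z * u0)⁻¹) * (z * u0) := by rw [e1, e2]
      _ = v := by group
  have hh1 : h = 1 := by
    by_contra hne
    exact hv1 (D.oct_free hr hrz hhO hne hvP hhv)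
  have hrel : s * u0 * s⁻¹ = z * u0 := by
    have : (z * u0) * h = s * u0 * s⁻¹ := by rw [hh]; group
    rw [hh1, mul_one] at this; exact this.symm
  have hu01 : u0 ≠ 1 := by
    intro h0
    have hvv : v' = v := by rw [hv', h0]; group
    rw [hvv] at hsv'
    have : s * v * s⁻¹ = v := conj_eq_of_comm hsv
    rw [this] at hsv'
    exact D.loc.ne_inv_of_mem hvP hv1 hsv'
  have hu0z : u0 ≠ z := by
    intro h0
    have hvv : v' = v⁻¹ := by rw [hv', h0]; exact D.hzi v hvP
    have h3 : s * v' * s⁻¹ = v' := by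
      rw [hvv]
      calc s * v⁻¹ * s⁻¹ = (s * v * s⁻¹)⁻¹ := by group
        _ = v⁻¹ := by rw [conj_eq_of_comm hsv]
    rw [h3] at hsv'
    exact D.loc.ne_inv_of_mem hv'P hv'1 hsv'
  have huu : u0 * u0 = z := (D.oct_structure hr hrz).2 u0 hu0 hu01 hu0z
  have hzu0 : z * u0 = u0⁻¹ := by
    apply eq_inv_of_mul_eq_one_left
    calc z * u0 * u0 = z * (u0 * u0) := by group
      _ = z * z := by rw [huu]
      _ = 1 := D.hzz
  exact ⟨s, hsS, u0, hu0, hs2, hsz, huu, by rw [hrel, hzu0]⟩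

/-- the centralizer of an inverted element of order four of the subgroup of order eight -/
theorem card_centralizer_u (D : Cen P S z) {r : G} (hr : orderOf r = 3) (hrz : r * z = z * r)
    {u s' : G} (hu : u ∈ oct r S) (huu : u * u = z) (hs'z : s' * z = z * s')
    (hinv : s' * u * s'⁻¹ = u⁻¹) : Nat.card (Subgroup.centralizer ({u} : Set G)) = 8 := by
  classical
  haveI : Fact (Nat.Prime 3) := ⟨by norm_num⟩
  haveI : Fact (Nat.Prime 2) := ⟨Nat.prime_two⟩
  set O := oct r S with hO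
  set C := Subgroup.centralizer ({z} : Set G) with hC
  set Cu := Subgroup.centralizer ({u} : Set G) with hCu
  have hu1 : u ≠ 1 := by
    intro h0
    rw [h0, one_mul] at huu
    exact D.z_ne_one huu.symm
  have huz : u ≠ z := by
    intro h0
    rw [h0, D.hzz] at huu
    exact D.z_ne_one huu.symm
  have hle : Cu ≤ C := by
    intro g hg
    rw [hCu, Subgroup.mem_centralizer_singleton_iff] at hg
    rw [hC, Subgroup.mem_centralizer_singleton_iff, ← huu]
    calc g * (u * u) = (g * u) * u := by group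
      _ = (u * g) * u := by rw [hg]
      _ = u * (g * u) := by group
      _ = u * (u * g) := by rw [hg]
      _ = u * u * g := by group
  have hinf : C ⊓ Cu = Cu := inf_eq_right.mpr hle
  have h := card_orb_mul C u
  rw [hinf, hC, D.hC] at h
  rw [← hC] at h
  set OF : Finset G := Finset.univ.filter (fun x => x ∈ O) with hOF
  have hOFc : OF.card = 8 := by
    rw [← D.card_oct hr hrz, Nat.card_eq_fintype_card, Fintype.card_subtype]
  have h1OF : (1 : G) ∈ OF := by rw [hOF, Finset.mem_filter]; exact ⟨Finset.mem_univ _, O.one_mem⟩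
  have hzOF : z ∈ OF.erase 1 := by
    rw [Finset.mem_erase]
    exact ⟨D.z_ne_one, by rw [hOF, Finset.mem_filter]; exact ⟨Finset.mem_univ _, D.z_mem_oct hrz⟩⟩
  set Y := (OF.erase 1).erase z with hY
  have hYc : Y.card = 6 := by
    rw [hY, Finset.card_erase_of_mem hzOF, Finset.card_erase_of_mem h1OF, hOFc]
  have memY : ∀ y, y ∈ Y ↔ y ≠ z ∧ y ≠ 1 ∧ y ∈ O := by
    intro y
    simp only [hY, hOF, Finset.mem_erase, Finset.mem_filter, Finset.mem_univ, true_and]
  have hsub : orb C u ⊆ Y := by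
    intro y hy
    obtain ⟨c, hc, rfl⟩ := mem_orb.mp hy
    have hcz : c * z = z * c := Subgroup.mem_centralizer_singleton_iff.mp hc
    rw [memY]
    refine ⟨?_, ?_, D.oct_normal hr hrz hcz hu⟩
    · intro h0
      apply huz
      have hcz' : c⁻¹ * z * c = z := by
        calc c⁻¹ * z * c = c⁻¹ * (z * c) := by group
          _ = c⁻¹ * (c * z) := by rw [hcz]
          _ = z := by group
      calc u = c⁻¹ * (c * u * c⁻¹) * c := by group
        _ = c⁻¹ * z * c := by rw [h0]
        _ = z := hcz'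
    · intro h0
      apply hu1
      calc u = c⁻¹ * (c * u * c⁻¹) * c := by group
        _ = c⁻¹ * 1 * c := by rw [h0]
        _ = 1 := by group
  have hm6 : (orb C u).card ≤ 6 := by
    rw [← hYc]; exact Finset.card_le_card hsub
  have h3 : ¬ 3 ∣ Nat.card Cu := by
    intro hd
    obtain ⟨x, hx⟩ := exists_prime_orderOf_dvd_card' 3 hd
    have hx3 : orderOf (x : G) = 3 := by rw [Subgroup.orderOf_coe]; exact hx
    have hxu : (x : G) * u = u * (x : G) := Subgroup.mem_centralizer_singleton_iff.mp x.2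
    have hxz : (x : G) * z = z * (x : G) :=
      Subgroup.mem_centralizer_singleton_iff.mp (hle x.2)
    rcases D.fix_rho hx3 hxz (T := oct r S) (by rw [D.card_oct hr hrz]; norm_num)
      (D.z_mem_oct hrz) hu hxu with h0 | h0
    · exact hu1 h0
    · exact huz h0
  have hev : (orb C u).card ≡ 0 [MOD 2] := by
    have hmod := card_modEq_fixed 2 (fun x : G => x⁻¹) (orb C u)
      (by
        intro y hy
        obtain ⟨c, hc, rfl⟩ := mem_orb.mp hy
        have hs'C : s' ∈ C := Subgroup.mem_centralizer_singleton_iff.mpr hs'z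
        refine mem_orb.mpr ⟨c * s', C.mul_mem hc hs'C, ?_⟩
        calc (c * u * c⁻¹)⁻¹ = c * u⁻¹ * c⁻¹ := by group
          _ = c * (s' * u * s'⁻¹) * c⁻¹ := by rw [hinv]
          _ = c * s' * u * (c * s')⁻¹ := by group)
      (by
        intro y _
        simp)
    have hfix : (orb C u).filter (fun x => x⁻¹ = x) = ∅ := by
      rw [Finset.filter_eq_empty_iff]
      intro y hy hfy
      have hyY := (memY y).mp (hsub hy)
      have h2 := (D.oct_structure hr hrz).2 y hyY.2.2 hyY.2.1 hyY.1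
      have h1 : y * y = 1 := by
        calc y * y = y * y⁻¹ := by rw [hfy]
          _ = 1 := mul_inv_cancel y
      rw [h1] at h2
      exact D.z_ne_one h2.symm
    rwa [hfix, Finset.card_empty] at hmod
  exact cu_arith h hm6 hev h3

/-- the configuration used for the construction of the subgroup of index eleven -/
theorem exists_config (D : Cen P S z) :
    ∃ (O : Subgroup G) (u s' : G), O ≤ S ∧ Nat.card O = 8 ∧ z ∈ O ∧ u ∈ O ∧ u * u = z ∧
      s' * s' = 1 ∧ s' * u * s'⁻¹ = u⁻¹ ∧ s' ∉ Subgroup.normalizer (P : Set G) ∧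
      s' * z = z * s' ∧ (∀ g ∈ O, s' * g * s'⁻¹ ∈ O) ∧
      (∀ g ∈ O, g ≠ 1 → g ≠ z → g * g = z) ∧
      Nat.card (Subgroup.centralizer ({u} : Set G)) = 8 := by
  obtain ⟨r, hr, hrz⟩ := D.exists_rho
  obtain ⟨s, hsS, u0, hu0, hs2, hsz, huu0, hinv0⟩ := D.exists_inverted_pair hr hrz
  have hss := Loc.sq_of_orderOf_two hs2
  have hz' : r * z * r⁻¹ = z := conj_eq_of_comm hrz
  have hu : r * u0 * r⁻¹ ∈ oct r S := D.oct_normal hr hrz hrz hu0
  have huu : (r * u0 * r⁻¹) * (r * u0 * r⁻¹) = z := by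
    calc (r * u0 * r⁻¹) * (r * u0 * r⁻¹) = r * (u0 * u0) * r⁻¹ := by group
      _ = r * z * r⁻¹ := by rw [huu0]
      _ = z := hz'
  have hs's' : (r * s * r⁻¹) * (r * s * r⁻¹) = 1 := by
    calc (r * s * r⁻¹) * (r * s * r⁻¹) = r * (s * s) * r⁻¹ := by group
      _ = 1 := by rw [hss]; group
  have hinv : (r * s * r⁻¹) * (r * u0 * r⁻¹) * (r * s * r⁻¹)⁻¹ = (r * u0 * r⁻¹)⁻¹ := by
    calc (r * s * r⁻¹) * (r * u0 * r⁻¹) * (r * s * r⁻¹)⁻¹ = r * (s * u0 * s⁻¹) * r⁻¹ := by group
      _ = r * u0⁻¹ * r⁻¹ := by rw [hinv0]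
      _ = (r * u0 * r⁻¹)⁻¹ := by group
  have hs'z : (r * s * r⁻¹) * z = z * (r * s * r⁻¹) := by
    have hsz' := D.hzc s hsS
    calc (r * s * r⁻¹) * z = (r * s * r⁻¹) * (r * z * r⁻¹) := by rw [hz']
      _ = r * (s * z) * r⁻¹ := by group
      _ = r * (z * s) * r⁻¹ := by rw [hsz']
      _ = (r * z * r⁻¹) * (r * s * r⁻¹) := by group
      _ = z * (r * s * r⁻¹) := by rw [hz']
  have hnot : r * s * r⁻¹ ∉ Subgroup.normalizer (P : Set G) := by
    intro hN
    have h1 : r * s * r⁻¹ ∈ S := D.hNC _ hN hs'z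
    have h2 : r * s * r⁻¹ ∈ oct r S := ⟨h1, conj_mem_conjS hsS⟩
    have h3 : orderOf (r * s * r⁻¹) = 2 := by rw [orderOf_conj']; exact hs2
    have h4 := (D.oct_structure hr hrz).1 _ h2 h3
    apply hsz
    calc s = r⁻¹ * (r * s * r⁻¹) * r := by group
      _ = r⁻¹ * (r * z * r⁻¹) * r := by rw [h4, hz']
      _ = z := by group
  refine ⟨oct r S, r * u0 * r⁻¹, r * s * r⁻¹, oct_le r, D.card_oct hr hrz, D.z_mem_oct hrz, hu, huu,
    hs's', hinv, hnot, hs'z, ?_, (D.oct_structure hr hrz).2, ?_⟩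
  · intro g hg
    exact D.oct_normal hr hrz hs'z hg
  · exact D.card_centralizer_u hr hrz hu huu hs'z hinv

end Cen

end config

end Cfsg.Agent.Lib.Helper4.M11
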