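import Mathlib
import Cfsg.Agent.Lib.Helper4.M11o
import Cfsg.Agent.Lib.Helper4.M11t

/-! The configuration at the centralizer of an involution exists in a simple group of order `7920`. -/

set_option autoImplicit false
set_option linter.unusedSectionVars false
set_option linter.unusedVariables false
set_option linter.style.longLine false
set_option linter.unusedSimpArgs false
set_option linter.unusedDecidableInType false

set_option maxHeartbeats 1600000

namespace Cfsg.Agent.Lib.Helper4.M11

open Cfsg Cfsg.Agent.Lib.Helper6 Module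
open Cfsg.Agent.Lib.Lead Cfsg.Agent.Lib.Lead.SylowCount Cfsg.Agent.Lib.Lead.SmallSimple2
  Cfsg.Agent.Lib.Helper7.CountTools Cfsg.Agent.Lib.Helper7.SylPar Cfsg.Agent.Lib.Helper4.Ord5040
  Cfsg.Agent.Lib.Helper5.BrauerSmall
open scoped ComplexConjugate

section main

variable {G : Type*} [Group G] [Fintype G] [DecidableEq G]
variable [IsSimpleGroup G] [Fintype (Cfsg.IrrCharacter G)] [DecidableEq (Cfsg.IrrCharacter G)]

theorem card_centralizer_order3 (hG : Nat.card G = 7920) (r : G) (hr : orderOf r = 3) :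
    Nat.card (Subgroup.centralizer ({r} : Set G)) = 18 := by
  haveI : Fact (Nat.Prime 3) := ⟨by norm_num⟩
  obtain ⟨D⟩ := exists_tenData hG
  have hpg : IsPGroup 3 (Subgroup.zpowers r) :=
    IsPGroup.of_card (n := 1) (by rw [Nat.card_zpowers, hr, pow_one])
  obtain ⟨Q, hQ⟩ := hpg.exists_le_sylow
  obtain ⟨S, L⟩ := exists_loc hG Q
  have hrQ : r ∈ (Q : Subgroup G) := hQ (Subgroup.mem_zpowers r)
  have hr1 : r ≠ 1 := by
    rintro rfl
    rw [orderOf_one] at hr
    omega
  exact (values_three hG D L hrQ hr1).2.2.2.2.2.2.2.2.2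

theorem exists_cen (hG : Nat.card G = 7920) (P : Sylow 3 G) :
    ∃ (S : Subgroup G) (z : G), Cen (P : Subgroup G) S z := by
  haveI : Fact (Nat.Prime 3) := ⟨by norm_num⟩
  obtain ⟨S, L⟩ := exists_loc hG P
  obtain ⟨z, hzS, hz2, hzc⟩ := L.exists_central_involution
  have hC := card_centralizer_involution hG z hz2
  have hzi := L.inverts_central hzS hz2 hzc
  refine ⟨S, z, ⟨L, hzS, hz2, hzc, hC, ?_, card_centralizer_order3 hG⟩⟩
  set N := Subgroup.normalizer ((P : Subgroup G) : Set G) with hN
  set C := Subgroup.centralizer ({z} : Set G) with hCdef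
  set K := N ⊓ C with hK
  have hSK : S ≤ K :=
    le_inf L.norm (fun s hs => Subgroup.mem_centralizer_singleton_iff.mpr (hzc s hs))
  have h16 : 16 ∣ Nat.card K := by rw [← L.hS]; exact Subgroup.card_dvd_of_le hSK
  have h48 : Nat.card K ∣ 48 := by rw [← hC]; exact Subgroup.card_dvd_of_le inf_le_right
  have hcases : Nat.card K = 16 ∨ Nat.card K = 48 := by
    obtain ⟨k, hk⟩ := h16
    rw [hk] at h48 ⊢
    have hk3 : k ∣ 3 := by
      have : 16 * k ∣ 16 * 3 := by norm_num; exact h48
      exact Nat.dvd_of_mul_dvd_mul_left (by norm_num) this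
    have hk' : k = 1 ∨ k = 3 := (Nat.dvd_prime (by norm_num)).mp hk3
    rcases hk' with rfl | rfl
    · left; rfl
    · right; rfl
  rcases hcases with h | h
  · have hSKeq : S = K := Subgroup.eq_of_le_of_card_ge hSK (by rw [h, L.hS])
    intro g hgN hgz
    rw [hSKeq]
    exact ⟨hgN, Subgroup.mem_centralizer_singleton_iff.mpr hgz⟩
  · exfalso
    have hKC : K = C := Subgroup.eq_of_le_of_card_ge inf_le_right (by rw [h, hC])
    have hCN : C ≤ N := by rw [← hKC]; exact inf_le_left
    have h3 : 3 ∣ Nat.card C := by rw [hC]; norm_num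
    obtain ⟨x, hx⟩ := exists_prime_orderOf_dvd_card' 3 h3
    have hx3 : orderOf (x : G) = 3 := by rw [Subgroup.orderOf_coe]; exact hx
    have hxz : (x : G) * z = z * (x : G) := Subgroup.mem_centralizer_singleton_iff.mp x.2
    have hxN : (x : G) ∈ N := hCN x.2
    have hpg : IsPGroup 3 (Subgroup.zpowers (x : G)) :=
      IsPGroup.of_card (n := 1) (by rw [Nat.card_zpowers, hx3, pow_one])
    have hinf := hpg.inf_normalizer_sylow P
    have hxP : (x : G) ∈ (P : Subgroup G) := by
      have hmem : (x : G) ∈ Subgroup.zpowers (x : G) ⊓ Subgroup.normalizer ((P : Subgroup G) : Set G) :=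
        ⟨Subgroup.mem_zpowers _, hxN⟩
      have hmem' : (x : G) ∈ Subgroup.zpowers (x : G) ⊓ (P : Subgroup G) := by
        rw [← hinf]; exact hmem
      exact hmem'.2
    have hx1 : (x : G) ≠ 1 := by
      intro h0
      rw [h0, orderOf_one] at hx3
      omega
    have h1 := hzi (x : G) hxP
    have h2 : z * (x : G) * z⁻¹ = x := conj_eq_of_comm hxz.symm
    rw [h2] at h1
    exact L.ne_inv_of_mem hxP hx1 h1

end main

end Cfsg.Agent.Lib.Helper4.M11
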