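import Mathlib
import Cfsg.Agent.Lib.Helper4.M11u

/-! Character values at a real element of order four (simple group of order `7920`). -/

set_option autoImplicit false
set_option linter.unusedSectionVars false
set_option linter.unusedVariables false
set_option linter.style.longLine false
set_option linter.unusedSimpArgs false
set_option linter.unusedDecidableInType false

set_option maxHeartbeats 1600000

namespace Cfsg.Agent.Lib.Helper4.M11

open Cfsg Cfsg.Agent.Lib.Helper6 Module
open Cfsg.Agent.Lib.Lead Cfsg.Agent.Lib.Lead.SylowCount Cfsg.Agent.Lib.Lead.SmallSimple2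
  Cfsg.Agent.Lib.Helper7.CountTools Cfsg.Agent.Lib.Helper7.SylPar Cfsg.Agent.Lib.Helper4.Ord5040
  Cfsg.Agent.Lib.Helper5.BrauerSmall
open scoped ComplexConjugate

section four

variable {G : Type*} [Group G] [Fintype G]

theorem I_ne_one : Complex.I ≠ 1 := by
  intro h
  have := congrArg Complex.im h
  simp at this

theorem I_ne_neg_one : Complex.I ≠ -1 := by
  intro h
  have := congrArg Complex.im h
  simp at this

theorem I_ne_neg_I : Complex.I ≠ -Complex.I := by
  intro h
  have := congrArg Complex.im h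
  simp at this
  norm_num at this

theorem one_ne_neg_one_C : (1 : ℂ) ≠ -1 := by norm_num

theorem neg_I_ne_one : -Complex.I ≠ 1 := by
  intro h
  have := congrArg Complex.im h
  simp at this

theorem neg_I_ne_neg_one : -Complex.I ≠ -1 := by
  intro h
  have := congrArg Complex.im h
  simp at this

/-- the value of a character at a real element of order `4` -/
theorem apply_order_four {χ : G → ℂ} (hχ : Cfsg.IsCharacter G χ) (x j : G)
    (hx : orderOf x = 4) (hj : j * x * j⁻¹ = x⁻¹) :
    ∃ n1 n2 n3 : ℕ, χ x = (n1 : ℂ) - (n2 : ℂ) ∧ χ (x * x) = (n1 : ℂ) + (n2 : ℂ) - 2 * (n3 : ℂ) ∧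
      (Cfsg.charDegree χ : ℂ) = (n1 : ℂ) + (n2 : ℂ) + 2 * (n3 : ℂ) := by
  classical
  have hcf := IsCharacter.isClassFunction hχ
  obtain ⟨n, ρ, rfl⟩ := hχ
  obtain ⟨ι, _, b, μ, h, hμ⟩ := exists_eigenbasis_rep ρ x
  rw [hx] at hμ
  have h1 : ρ.character x = ∑ i, μ i := trace_eq_sum_of_eigenbasis b μ (ρ x) h
  have hxx : x⁻¹ = x * x * x := by
    have := pow_orderOf_eq_one x
    rw [hx] at this
    have h4 : x * x * x * x = 1 := by rw [← this]; simp [pow_succ]
    exact inv_eq_of_mul_eq_one_left h4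
  have h2 : ρ.character (x * x) = ∑ i, μ i ^ 2 := by
    apply trace_eq_sum_of_eigenbasis b (fun i => μ i ^ 2) (ρ (x * x))
    intro i
    rw [map_mul, Module.End.mul_apply, h i, map_smul, h i, smul_smul, pow_two]
  have h3 : ρ.character (x * x * x) = ∑ i, μ i ^ 3 := by
    apply trace_eq_sum_of_eigenbasis b (fun i => μ i ^ 3) (ρ (x * x * x))
    intro i
    rw [map_mul, map_mul, Module.End.mul_apply, Module.End.mul_apply, h i, map_smul, h i, map_smul,
      map_smul, h i, smul_smul, smul_smul]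
    congr 1
    ring
  have hS : ∑ i, μ i = ∑ i, μ i ^ 3 := by
    rw [← h1, ← h3, ← hxx, ← hj]
    exact (hcf x j).symm
  have hdeg : Cfsg.charDegree ρ.character = Fintype.card ι := by
    rw [charDegree_character, finrank_eq_card_basis b]
  have hI2 : Complex.I ^ 2 = -1 := Complex.I_sq
  have hcases : ∀ i, μ i = 1 ∨ μ i = -1 ∨ μ i = Complex.I ∨ μ i = -Complex.I := by
    intro i
    have h4 : (μ i - 1) * ((μ i + 1) * ((μ i - Complex.I) * (μ i + Complex.I))) = 0 := by
      have h5 : (μ i - 1) * ((μ i + 1) * ((μ i - Complex.I) * (μ i + Complex.I))) =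
          (μ i ^ 2 - 1) * (μ i ^ 2 - Complex.I ^ 2) := by ring
      rw [h5, hI2]
      have h6 : (μ i ^ 2 - 1) * (μ i ^ 2 - -1) = μ i ^ 4 - 1 := by ring
      rw [h6, hμ i, sub_self]
    rcases mul_eq_zero.mp h4 with h5 | h5
    · left; exact sub_eq_zero.mp h5
    · rcases mul_eq_zero.mp h5 with h6 | h6
      · right; left; exact eq_neg_of_add_eq_zero_left h6
      · rcases mul_eq_zero.mp h6 with h7 | h7
        · right; right; left; exact sub_eq_zero.mp h7
        · right; right; right; exact eq_neg_of_add_eq_zero_left h7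
  set n1 := (Finset.univ.filter (fun i => μ i = 1)).card with hn1
  set n2 := (Finset.univ.filter (fun i => μ i = -1)).card with hn2
  set n3 := (Finset.univ.filter (fun i => μ i = Complex.I)).card with hn3
  set n4 := (Finset.univ.filter (fun i => μ i = -Complex.I)).card with hn4
  have hform : ∀ i, μ i = (if μ i = 1 then (1 : ℂ) else 0) + (if μ i = -1 then (1 : ℂ) else 0) * (-1)
      + (if μ i = Complex.I then (1 : ℂ) else 0) * Complex.I
      + (if μ i = -Complex.I then (1 : ℂ) else 0) * (-Complex.I) := by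
    intro i
    rcases hcases i with h4 | h4 | h4 | h4
    · rw [h4, if_pos rfl, if_neg one_ne_neg_one_C, if_neg (Ne.symm I_ne_one),
        if_neg (Ne.symm neg_I_ne_one)]; ring
    · rw [h4, if_neg (Ne.symm one_ne_neg_one_C), if_pos rfl, if_neg (Ne.symm I_ne_neg_one),
        if_neg (Ne.symm neg_I_ne_neg_one)]; ring
    · rw [h4, if_neg I_ne_one, if_neg I_ne_neg_one, if_pos rfl, if_neg I_ne_neg_I]; ring
    · rw [h4, if_neg neg_I_ne_one, if_neg neg_I_ne_neg_one, if_neg (Ne.symm I_ne_neg_I),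
        if_pos rfl]; ring
  have hform2 : ∀ i, μ i ^ 2 = (if μ i = 1 then (1 : ℂ) else 0) +
      (if μ i = -1 then (1 : ℂ) else 0)
      + (if μ i = Complex.I then (1 : ℂ) else 0) * (-1)
      + (if μ i = -Complex.I then (1 : ℂ) else 0) * (-1) := by
    intro i
    rcases hcases i with h4 | h4 | h4 | h4
    · rw [h4, if_pos rfl, if_neg one_ne_neg_one_C, if_neg (Ne.symm I_ne_one),
        if_neg (Ne.symm neg_I_ne_one)]; ring
    · rw [h4, if_neg (Ne.symm one_ne_neg_one_C), if_pos rfl, if_neg (Ne.symm I_ne_neg_one),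
        if_neg (Ne.symm neg_I_ne_neg_one)]; ring
    · rw [h4, if_neg I_ne_one, if_neg I_ne_neg_one, if_pos rfl, if_neg I_ne_neg_I, hI2]; ring
    · rw [h4, if_neg neg_I_ne_one, if_neg neg_I_ne_neg_one, if_neg (Ne.symm I_ne_neg_I),
        if_pos rfl, neg_sq, hI2]; ring
  have hI3 : Complex.I ^ 3 = -Complex.I := by
    calc Complex.I ^ 3 = Complex.I ^ 2 * Complex.I := by ring
      _ = -Complex.I := by rw [hI2]; ring
  have hform3 : ∀ i, μ i ^ 3 = (if μ i = 1 then (1 : ℂ) else 0) +
      (if μ i = -1 then (1 : ℂ) else 0) * (-1)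
      + (if μ i = Complex.I then (1 : ℂ) else 0) * (-Complex.I)
      + (if μ i = -Complex.I then (1 : ℂ) else 0) * Complex.I := by
    intro i
    rcases hcases i with h4 | h4 | h4 | h4
    · rw [h4, if_pos rfl, if_neg one_ne_neg_one_C, if_neg (Ne.symm I_ne_one),
        if_neg (Ne.symm neg_I_ne_one)]; ring
    · rw [h4, if_neg (Ne.symm one_ne_neg_one_C), if_pos rfl, if_neg (Ne.symm I_ne_neg_one),
        if_neg (Ne.symm neg_I_ne_neg_one)]; ring
    · rw [h4, if_neg I_ne_one, if_neg I_ne_neg_one, if_pos rfl, if_neg I_ne_neg_I, hI3]; ring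
    · rw [h4, if_neg neg_I_ne_one, if_neg neg_I_ne_neg_one, if_neg (Ne.symm I_ne_neg_I),
        if_pos rfl]
      have : (-Complex.I) ^ 3 = Complex.I := by
        calc (-Complex.I) ^ 3 = -(Complex.I ^ 3) := by ring
          _ = Complex.I := by rw [hI3]; ring
      rw [this]; ring
  have hone : ∀ i, (1 : ℂ) = (if μ i = 1 then (1 : ℂ) else 0) + (if μ i = -1 then (1 : ℂ) else 0)
      + (if μ i = Complex.I then (1 : ℂ) else 0) + (if μ i = -Complex.I then (1 : ℂ) else 0) := by
    intro i
    rcases hcases i with h4 | h4 | h4 | h4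
    · rw [h4, if_pos rfl, if_neg one_ne_neg_one_C, if_neg (Ne.symm I_ne_one),
        if_neg (Ne.symm neg_I_ne_one)]; ring
    · rw [h4, if_neg (Ne.symm one_ne_neg_one_C), if_pos rfl, if_neg (Ne.symm I_ne_neg_one),
        if_neg (Ne.symm neg_I_ne_neg_one)]; ring
    · rw [h4, if_neg I_ne_one, if_neg I_ne_neg_one, if_pos rfl, if_neg I_ne_neg_I]; ring
    · rw [h4, if_neg neg_I_ne_one, if_neg neg_I_ne_neg_one, if_neg (Ne.symm I_ne_neg_I),
        if_pos rfl]; ring
  have hsum1 : ∑ i, μ i = (n1 : ℂ) + (n2 : ℂ) * (-1) + (n3 : ℂ) * Complex.I +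
      (n4 : ℂ) * (-Complex.I) := by
    rw [Finset.sum_congr rfl (fun i _ => hform i), Finset.sum_add_distrib,
      Finset.sum_add_distrib, Finset.sum_add_distrib, ← Finset.sum_mul, ← Finset.sum_mul,
      ← Finset.sum_mul, Finset.sum_boole, Finset.sum_boole, Finset.sum_boole, Finset.sum_boole]
  have hsum2 : ∑ i, μ i ^ 2 = (n1 : ℂ) + (n2 : ℂ) + (n3 : ℂ) * (-1) + (n4 : ℂ) * (-1) := by
    rw [Finset.sum_congr rfl (fun i _ => hform2 i), Finset.sum_add_distrib,
      Finset.sum_add_distrib, Finset.sum_add_distrib, ← Finset.sum_mul, ← Finset.sum_mul,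
      Finset.sum_boole, Finset.sum_boole, Finset.sum_boole, Finset.sum_boole]
  have hsum3 : ∑ i, μ i ^ 3 = (n1 : ℂ) + (n2 : ℂ) * (-1) + (n3 : ℂ) * (-Complex.I) +
      (n4 : ℂ) * Complex.I := by
    rw [Finset.sum_congr rfl (fun i _ => hform3 i), Finset.sum_add_distrib,
      Finset.sum_add_distrib, Finset.sum_add_distrib, ← Finset.sum_mul, ← Finset.sum_mul,
      ← Finset.sum_mul, Finset.sum_boole, Finset.sum_boole, Finset.sum_boole, Finset.sum_boole]
  have hcard : (Fintype.card ι : ℂ) = (n1 : ℂ) + (n2 : ℂ) + (n3 : ℂ) + (n4 : ℂ) := by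
    have : ∑ _i : ι, (1 : ℂ) = (n1 : ℂ) + (n2 : ℂ) + (n3 : ℂ) + (n4 : ℂ) := by
      rw [Finset.sum_congr rfl (fun i _ => hone i), Finset.sum_add_distrib,
        Finset.sum_add_distrib, Finset.sum_add_distrib, Finset.sum_boole, Finset.sum_boole,
        Finset.sum_boole, Finset.sum_boole]
    rw [← this]
    simp
  have h34 : (n3 : ℂ) = (n4 : ℂ) := by
    have h5 : ((n3 : ℂ) - (n4 : ℂ)) * (2 * Complex.I) = 0 := by
      have := hS
      rw [hsum1, hsum3] at this
      linear_combination this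
    rcases mul_eq_zero.mp h5 with h6 | h6
    · exact sub_eq_zero.mp h6
    · exfalso
      have : Complex.I = 0 := by
        rcases mul_eq_zero.mp h6 with h7 | h7
        · norm_num at h7
        · exact h7
      exact Complex.I_ne_zero this
  refine ⟨n1, n2, n3, ?_, ?_, ?_⟩
  · rw [h1, hsum1, ← h34]; ring
  · rw [h2, hsum2, ← h34]; ring
  · rw [hdeg, hcard, ← h34]; ring

end four

end Cfsg.Agent.Lib.Helper4.M11
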