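import Mathlib
import Cfsg.Agent.Lib.Helper4.M11v

/-! The character of degree `11` at a real element of order four with centralizer of order `8`. -/

set_option autoImplicit false
set_option linter.unusedSectionVars false
set_option linter.unusedVariables false
set_option linter.style.longLine false
set_option linter.unusedSimpArgs false
set_option linter.unusedDecidableInType false

set_option maxHeartbeats 1600000

namespace Cfsg.Agent.Lib.Helper4.M11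

open Cfsg Cfsg.Agent.Lib.Helper6 Module
open Cfsg.Agent.Lib.Lead Cfsg.Agent.Lib.Lead.SylowCount Cfsg.Agent.Lib.Lead.SmallSimple2
  Cfsg.Agent.Lib.Helper7.CountTools Cfsg.Agent.Lib.Helper7.SylPar Cfsg.Agent.Lib.Helper4.Ord5040
  Cfsg.Agent.Lib.Helper5.BrauerSmall
open scoped ComplexConjugate

section arith4

theorem abs_le_two_of_sq_le {A : ℤ} (h : A ^ 2 ≤ 7) : -2 ≤ A ∧ A ≤ 2 := by
  constructor
  · by_contra hlt
    push Not at hlt
    have h1 : A ≤ -3 := by omega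
    nlinarith
  · by_contra hlt
    push Not at hlt
    have h1 : 3 ≤ A := by omega
    nlinarith

/-- the arithmetic at the element of order four, when the first character of degree ten has the
value `2` at the involution -/
theorem four_arith_core (n1x n2x n3x n1v n2v n3v : ℕ) (A B C V X W Z : ℤ)
    (hX : X = (n1x : ℤ) - n2x) (hX2 : (n1x : ℤ) + n2x - 2 * n3x = 3)
    (hX3 : (n1x : ℤ) + n2x + 2 * n3x = 11)
    (hV : V = (n1v : ℤ) - n2v) (hV2 : (n1v : ℤ) + n2v - 2 * n3v = -3)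
    (hV3 : (n1v : ℤ) + n2v + 2 * n3v = 45)
    (E1 : 1 + V - (A + B + C) = 0) (E3 : 1 + X - W = 0)
    (E4 : 1 + 10 * (A + B + C) + 45 * V + 11 * X + 44 * W + 55 * Z = 0)
    (E6 : 1 + 2 * A - 2 * B - 2 * C - 3 * V + 3 * X + 4 * W - Z = 0)
    (E5 : (8 : ℤ) = 1 + A ^ 2 + B ^ 2 + C ^ 2 + V ^ 2 + X ^ 2 + W ^ 2 + Z ^ 2) : X = -1 := by
  have hXsq : X ^ 2 ≤ 7 := by
    nlinarith [sq_nonneg A, sq_nonneg B, sq_nonneg C, sq_nonneg V, sq_nonneg W, sq_nonneg Z]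
  have hVsq : V ^ 2 ≤ 7 := by
    nlinarith [sq_nonneg A, sq_nonneg B, sq_nonneg C, sq_nonneg X, sq_nonneg W, sq_nonneg Z]
  obtain ⟨hXl, hXu⟩ := abs_le_two_of_sq_le hXsq
  obtain ⟨hVl, hVu⟩ := abs_le_two_of_sq_le hVsq
  have hXc : X = 1 ∨ X = -1 := by omega
  have hVc : V = 1 ∨ V = -1 := by omega
  have hW : W = 1 + X := by omega
  have hZ : Z = -1 - V - X := by omega
  have hA : A = V - 2 * X - 1 := by omega
  have hC : C = 1 + V - A - B := by omega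
  rcases hXc with hX1 | hX1
  · exfalso
    rcases hVc with hV1 | hV1
    · have hZ3 : Z = -3 := by omega
      rw [hZ3] at E5
      nlinarith [sq_nonneg A, sq_nonneg B, sq_nonneg C, sq_nonneg V, sq_nonneg W, sq_nonneg X]
    · have hA4 : A = -4 := by omega
      rw [hA4] at E5
      nlinarith [sq_nonneg Z, sq_nonneg B, sq_nonneg C, sq_nonneg V, sq_nonneg W, sq_nonneg X]
  · exact hX1

/-- the arithmetic at the element of order four -/
theorem four_arith (n1x n2x n3x n1v n2v n3v : ℕ) (A B C V X W Z az bz cz : ℤ)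
    (hX : X = (n1x : ℤ) - n2x) (hX2 : (n1x : ℤ) + n2x - 2 * n3x = 3)
    (hX3 : (n1x : ℤ) + n2x + 2 * n3x = 11)
    (hV : V = (n1v : ℤ) - n2v) (hV2 : (n1v : ℤ) + n2v - 2 * n3v = -3)
    (hV3 : (n1v : ℤ) + n2v + 2 * n3v = 45)
    (E1 : 1 + V - (A + B + C) = 0) (E3 : 1 + X - W = 0)
    (E4 : 1 + 10 * (A + B + C) + 45 * V + 11 * X + 44 * W + 55 * Z = 0)
    (E6 : 1 + az * A + bz * B + cz * C - 3 * V + 3 * X + 4 * W - Z = 0)
    (E5 : (8 : ℤ) = 1 + A ^ 2 + B ^ 2 + C ^ 2 + V ^ 2 + X ^ 2 + W ^ 2 + Z ^ 2)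
    (habc : (az = 2 ∧ bz = -2 ∧ cz = -2) ∨ (az = -2 ∧ bz = 2 ∧ cz = -2) ∨
      (az = -2 ∧ bz = -2 ∧ cz = 2)) : X = -1 := by
  rcases habc with ⟨ha, hb, hc⟩ | ⟨ha, hb, hc⟩ | ⟨ha, hb, hc⟩
  · subst ha hb hc
    exact four_arith_core n1x n2x n3x n1v n2v n3v A B C V X W Z hX hX2 hX3 hV hV2 hV3 E1 E3 E4
      (by linarith) E5
  · subst ha hb hc
    exact four_arith_core n1x n2x n3x n1v n2v n3v B A C V X W Z hX hX2 hX3 hV hV2 hV3
      (by linarith) E3 (by linarith) (by linarith) (by linarith)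
  · subst ha hb hc
    exact four_arith_core n1x n2x n3x n1v n2v n3v C A B V X W Z hX hX2 hX3 hV hV2 hV3
      (by linarith) E3 (by linarith) (by linarith) (by linarith)

end arith4

section main4

variable {G : Type*} [Group G] [Fintype G] [DecidableEq G]
variable [IsSimpleGroup G] [Fintype (Cfsg.IrrCharacter G)] [DecidableEq (Cfsg.IrrCharacter G)]

theorem orderOf_eq_four {u z : G} (hz2 : orderOf z = 2) (huu : u * u = z) : orderOf u = 4 := by
  haveI : Fact (Nat.Prime 2) := ⟨Nat.prime_two⟩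
  have h := orderOf_eq_prime_pow (x := u) (p := 2) (n := 1)
    (by
      rw [pow_one, pow_two, huu]
      exact Loc.ne_one_of_orderOf_two hz2)
    (by
      have hzz := Loc.sq_of_orderOf_two hz2
      have e : u ^ 2 ^ (1 + 1) = (u * u) * (u * u) := by
        show u ^ 4 = (u * u) * (u * u)
        rw [show (4 : ℕ) = 2 + 2 from rfl, pow_add, pow_two]
      rw [e, huu, hzz])
  simpa using h

set_option maxRecDepth 4000 in
/-- the value of the character of degree `11` at a real element of order four with centralizer of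
order eight -/
theorem values_four (hG : Nat.card G = 7920) (D : TenData G) {u z j : G} (hz2 : orderOf z = 2)
    (huu : u * u = z) (hj : j * u * j⁻¹ = u⁻¹)
    (hCu : Nat.card (Subgroup.centralizer ({u} : Set G)) = 8) : (D.χ11 : G → ℂ) u = -1 := by
  classical
  have hu4 : orderOf u = 4 := orderOf_eq_four hz2 huu
  obtain ⟨zX, zV, zW, zZ, zθ1, zθ2, zabc⟩ := values_involution hG D z hz2
  have cda : Cfsg.charDegree (D.a : G → ℂ) = 10 := TenData.charDegree_eq (n := 10) (by rw [D.one_a]; norm_num)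
  have cdb : Cfsg.charDegree (D.b : G → ℂ) = 10 := TenData.charDegree_eq (n := 10) (by rw [D.one_b]; norm_num)
  have cdc : Cfsg.charDegree (D.c : G → ℂ) = 10 := TenData.charDegree_eq (n := 10) (by rw [D.one_c]; norm_num)
  have cdθ1 : Cfsg.charDegree (D.θ1 : G → ℂ) = 16 := TenData.charDegree_eq (n := 16) (by rw [D.one_θ1]; norm_num)
  have cdθ2 : Cfsg.charDegree (D.θ2 : G → ℂ) = 16 := TenData.charDegree_eq (n := 16) (by rw [D.one_θ2]; norm_num)
  have cd45 : Cfsg.charDegree (D.χ45 : G → ℂ) = 45 := TenData.charDegree_eq (n := 45) (by rw [D.one_45]; norm_num)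
  have cd11 : Cfsg.charDegree (D.χ11 : G → ℂ) = 11 := TenData.charDegree_eq (n := 11) (by rw [D.one_11]; norm_num)
  have cd44 : Cfsg.charDegree (D.χ44 : G → ℂ) = 44 := TenData.charDegree_eq (n := 44) (by rw [D.one_44]; norm_num)
  have cd55 : Cfsg.charDegree (D.χ55 : G → ℂ) = 55 := TenData.charDegree_eq (n := 55) (by rw [D.one_55]; norm_num)
  have hval : ∀ χ : Cfsg.IrrCharacter G, ∃ n1 n2 n3 : ℕ,
      (χ : G → ℂ) u = (n1 : ℂ) - (n2 : ℂ) ∧
      (χ : G → ℂ) z = (n1 : ℂ) + (n2 : ℂ) - 2 * (n3 : ℂ) ∧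
      (Cfsg.charDegree (χ : G → ℂ) : ℂ) = (n1 : ℂ) + (n2 : ℂ) + 2 * (n3 : ℂ) := by
    intro χ
    have := apply_order_four (IsIrrCharacter.isCharacter χ.2) u j hu4 hj
    rwa [huu] at this
  have hzero16 : ∀ θ : Cfsg.IrrCharacter G, Cfsg.charDegree (θ : G → ℂ) = 16 →
      (θ : G → ℂ) u = 0 := by
    intro θ hθ
    exact IsIrrCharacter.eq_zero_of_defect_zero θ.2 2 4 Nat.prime_two (by rw [hG]; norm_num)
      (by rw [hG]; norm_num) (by rw [hθ]; norm_num) u (by rw [hu4]; norm_num)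
  obtain ⟨n1a, n2a, n3a, hva, -, -⟩ := hval D.a
  obtain ⟨n1b, n2b, n3b, hvb, -, -⟩ := hval D.b
  obtain ⟨n1c, n2c, n3c, hvc, -, -⟩ := hval D.c
  obtain ⟨n1v, n2v, n3v, hvv, hvv2, hvv3⟩ := hval D.χ45
  obtain ⟨n1x, n2x, n3x, hvx, hvx2, hvx3⟩ := hval D.χ11
  obtain ⟨n1w, n2w, n3w, hvw, -, -⟩ := hval D.χ44
  obtain ⟨n1z, n2z, n3z, hvz, -, -⟩ := hval D.χ55
  rw [zV] at hvv2
  rw [zX] at hvx2
  rw [cd45] at hvv3
  rw [cd11] at hvx3
  obtain ⟨A, hA⟩ : ∃ A : ℤ, A = (n1a : ℤ) - n2a := ⟨_, rfl⟩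
  obtain ⟨B, hB⟩ : ∃ B : ℤ, B = (n1b : ℤ) - n2b := ⟨_, rfl⟩
  obtain ⟨C, hC⟩ : ∃ C : ℤ, C = (n1c : ℤ) - n2c := ⟨_, rfl⟩
  obtain ⟨V, hV⟩ : ∃ V : ℤ, V = (n1v : ℤ) - n2v := ⟨_, rfl⟩
  obtain ⟨X, hX⟩ : ∃ X : ℤ, X = (n1x : ℤ) - n2x := ⟨_, rfl⟩
  obtain ⟨W, hW⟩ : ∃ W : ℤ, W = (n1w : ℤ) - n2w := ⟨_, rfl⟩
  obtain ⟨Z, hZ⟩ : ∃ Z : ℤ, Z = (n1z : ℤ) - n2z := ⟨_, rfl⟩
  have hvA : (D.a : G → ℂ) u = (A : ℂ) := by rw [hva, hA]; push_cast; ring
  have hvB : (D.b : G → ℂ) u = (B : ℂ) := by rw [hvb, hB]; push_cast; ring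
  have hvC : (D.c : G → ℂ) u = (C : ℂ) := by rw [hvc, hC]; push_cast; ring
  have hvV : (D.χ45 : G → ℂ) u = (V : ℂ) := by rw [hvv, hV]; push_cast; ring
  have hvX : (D.χ11 : G → ℂ) u = (X : ℂ) := by rw [hvx, hX]; push_cast; ring
  have hvW : (D.χ44 : G → ℂ) u = (W : ℂ) := by rw [hvw, hW]; push_cast; ring
  have hvZ : (D.χ55 : G → ℂ) u = (Z : ℂ) := by rw [hvz, hZ]; push_cast; ring
  have hX2 : (n1x : ℤ) + n2x - 2 * n3x = 3 := by
    have : (((n1x : ℤ) + n2x - 2 * n3x : ℤ) : ℂ) = ((3 : ℤ) : ℂ) := by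
      push_cast; rw [← hvx2]
    exact_mod_cast this
  have hX3 : (n1x : ℤ) + n2x + 2 * n3x = 11 := by
    have : (((n1x : ℤ) + n2x + 2 * n3x : ℤ) : ℂ) = ((11 : ℤ) : ℂ) := by
      push_cast; rw [← hvx3]; norm_num
    exact_mod_cast this
  have hV2 : (n1v : ℤ) + n2v - 2 * n3v = -3 := by
    have : (((n1v : ℤ) + n2v - 2 * n3v : ℤ) : ℂ) = ((-3 : ℤ) : ℂ) := by
      push_cast; rw [← hvv2]
    exact_mod_cast this
  have hV3 : (n1v : ℤ) + n2v + 2 * n3v = 45 := by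
    have : (((n1v : ℤ) + n2v + 2 * n3v : ℤ) : ℂ) = ((45 : ℤ) : ℂ) := by
      push_cast; rw [← hvv3]; norm_num
    exact_mod_cast this
  have hv1 : ∀ g : G, ((oneIrr G : Cfsg.IrrCharacter G) : G → ℂ) g = 1 := fun g => rfl
  have hvθ1 := hzero16 D.θ1 cdθ1
  have hvθ2 := hzero16 D.θ2 cdθ2
  have hu1 : u ≠ 1 := by
    rintro rfl
    rw [orderOf_one] at hu4
    omega
  have E5 : (8 : ℤ) = 1 + A ^ 2 + B ^ 2 + C ^ 2 + V ^ 2 + X ^ 2 + W ^ 2 + Z ^ 2 := by
    have h5 := (sum_irr_mul_conj u u).1 (IsConj.refl u)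
    rw [D.split, hv1, hvA, hvB, hvC, hvθ1, hvθ2, hvV, hvX, hvW, hvZ, hCu] at h5
    simp only [map_one, map_intCast, map_zero] at h5
    have : ((8 : ℤ) : ℂ) =
        ((1 + A ^ 2 + B ^ 2 + C ^ 2 + V ^ 2 + X ^ 2 + W ^ 2 + Z ^ 2 : ℤ) : ℂ) := by
      push_cast
      push_cast at h5
      rw [← h5]
      ring
    exact_mod_cast this
  have E4 : 1 + 10 * (A + B + C) + 45 * V + 11 * X + 44 * W + 55 * Z = 0 := by
    have h4 := (sum_irr_mul_conj 1 u).2 (by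
      intro h
      exact hu1 (isConj_one_right.mp h))
    rw [D.split, hv1, hv1, D.one_a, D.one_b, D.one_c, D.one_θ1, D.one_θ2, D.one_45, D.one_11,
      D.one_44, D.one_55, hvA, hvB, hvC, hvθ1, hvθ2, hvV, hvX, hvW, hvZ] at h4
    simp only [map_one, map_intCast, map_zero] at h4
    have : ((1 + 10 * (A + B + C) + 45 * V + 11 * X + 44 * W + 55 * Z : ℤ) : ℂ) = 0 := by
      push_cast
      rw [← h4]
      ring
    exact_mod_cast this
  have E1 : 1 + V - (A + B + C) = 0 := by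
    have h := (D.r11 u (by rw [hu4]; norm_num)).1
    rw [hvθ1, hvV, hvA, hvB, hvC] at h
    have : ((1 + V - (A + B + C) : ℤ) : ℂ) = 0 := by
      push_cast
      rw [← h]
    exact_mod_cast this
  have E3 : 1 + X - W = 0 := by
    have h := D.r5 u (by rw [hu4]; norm_num)
    rw [hvθ1, hvθ2, hvX, hvW] at h
    have : ((1 + X - W : ℤ) : ℂ) = 0 := by
      push_cast
      linear_combination h
    exact_mod_cast this
  -- orthogonality with the column of the involution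
  have hnc : ¬ IsConj u z := by
    intro h
    obtain ⟨c, hc⟩ := isConj_iff.mp h
    have := orderOf_conj' c u
    rw [hc, hz2, hu4] at this
    omega
  have h6 := (sum_irr_mul_conj u z).2 hnc
  rw [D.split, hv1, hv1, hvA, hvB, hvC, hvθ1, hvθ2, hvV, hvX, hvW, hvZ, zX, zV, zW, zZ, zθ1, zθ2]
    at h6
  obtain ⟨az, bz, cz, haz, hbz, hcz, habc⟩ : ∃ az bz cz : ℤ, (D.a : G → ℂ) z = (az : ℂ) ∧
      (D.b : G → ℂ) z = (bz : ℂ) ∧ (D.c : G → ℂ) z = (cz : ℂ) ∧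
      ((az = 2 ∧ bz = -2 ∧ cz = -2) ∨ (az = -2 ∧ bz = 2 ∧ cz = -2) ∨
        (az = -2 ∧ bz = -2 ∧ cz = 2)) := by
    rcases zabc with ⟨h1, h2, h3⟩ | ⟨h1, h2, h3⟩ | ⟨h1, h2, h3⟩
    · exact ⟨2, -2, -2, by rw [h1]; norm_num, by rw [h2]; norm_num, by rw [h3]; norm_num,
        Or.inl ⟨rfl, rfl, rfl⟩⟩
    · exact ⟨-2, 2, -2, by rw [h1]; norm_num, by rw [h2]; norm_num, by rw [h3]; norm_num,
        Or.inr (Or.inl ⟨rfl, rfl, rfl⟩)⟩
    · exact ⟨-2, -2, 2, by rw [h1]; norm_num, by rw [h2]; norm_num, by rw [h3]; norm_num,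
        Or.inr (Or.inr ⟨rfl, rfl, rfl⟩)⟩
  rw [haz, hbz, hcz] at h6
  simp only [map_one, map_intCast, map_zero, map_neg, map_ofNat] at h6
  have E6 : 1 + az * A + bz * B + cz * C - 3 * V + 3 * X + 4 * W - Z = 0 := by
    have : ((1 + az * A + bz * B + cz * C - 3 * V + 3 * X + 4 * W - Z : ℤ) : ℂ) = 0 := by
      push_cast
      push_cast at h6
      linear_combination h6
    exact_mod_cast this
  have hfin := four_arith n1x n2x n3x n1v n2v n3v A B C V X W Z az bz cz hX hX2 hX3 hV hV2 hV3 E1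
    E3 E4 E6 E5 habc
  rw [hvX, hfin]
  norm_num

end main4

end Cfsg.Agent.Lib.Helper4.M11
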