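import Mathlib
import Cfsg.Agent.Lib.Helper4.M11w

/-! Internal semidirect products and sums over them. -/

set_option autoImplicit false
set_option linter.unusedSectionVars false
set_option linter.unusedVariables false
set_option linter.style.longLine false
set_option linter.unusedSimpArgs false
set_option linter.unusedDecidableInType false

set_option maxHeartbeats 1600000

namespace Cfsg.Agent.Lib.Helper4.M11

section semi

variable {G : Type*} [Group G]

/-- the product `P E` of a subgroup `P` with a subgroup `E` normalizing it -/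
def semi (P E : Subgroup G) (h : ∀ e ∈ E, ∀ p ∈ P, e * p * e⁻¹ ∈ P) : Subgroup G where
  carrier := {g | ∃ p ∈ P, ∃ e ∈ E, g = p * e}
  one_mem' := ⟨1, P.one_mem, 1, E.one_mem, by simp⟩
  mul_mem' := by
    rintro _ _ ⟨p1, hp1, e1, he1, rfl⟩ ⟨p2, hp2, e2, he2, rfl⟩
    exact ⟨p1 * (e1 * p2 * e1⁻¹), P.mul_mem hp1 (h e1 he1 p2 hp2), e1 * e2, E.mul_mem he1 he2,
      by group⟩
  inv_mem' := by
    rintro _ ⟨p, hp, e, he, rfl⟩
    exact ⟨e⁻¹ * p⁻¹ * e⁻¹⁻¹, h e⁻¹ (E.inv_mem he) p⁻¹ (P.inv_mem hp), e⁻¹, E.inv_mem he, by group⟩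

variable {P E : Subgroup G} {h : ∀ e ∈ E, ∀ p ∈ P, e * p * e⁻¹ ∈ P}

theorem mem_semi {g : G} : g ∈ semi P E h ↔ ∃ p ∈ P, ∃ e ∈ E, g = p * e := Iff.rfl

theorem left_le_semi : P ≤ semi P E h := fun p hp => ⟨p, hp, 1, E.one_mem, by simp⟩

theorem right_le_semi : E ≤ semi P E h := fun e he => ⟨1, P.one_mem, e, he, by simp⟩

theorem mul_mem_semi {p e : G} (hp : p ∈ P) (he : e ∈ E) : p * e ∈ semi P E h :=
  ⟨p, hp, e, he, rfl⟩

theorem semi_bijective (hPE : ∀ g, g ∈ P → g ∈ E → g = 1) :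
    Function.Bijective
      (fun x : P × E => (⟨(x.1 : G) * (x.2 : G), mul_mem_semi x.1.2 x.2.2⟩ : semi P E h)) := by
  constructor
  · rintro ⟨⟨p1, hp1⟩, ⟨e1, he1⟩⟩ ⟨⟨p2, hp2⟩, ⟨e2, he2⟩⟩ heq
    have heq' : p1 * e1 = p2 * e2 := congrArg Subtype.val heq
    have h1 : p2⁻¹ * p1 = e2 * e1⁻¹ := by
      calc p2⁻¹ * p1 = p2⁻¹ * (p1 * e1) * e1⁻¹ := by group
        _ = p2⁻¹ * (p2 * e2) * e1⁻¹ := by rw [heq']
        _ = e2 * e1⁻¹ := by group
    have h2 : p2⁻¹ * p1 = 1 := by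
      apply hPE _ (P.mul_mem (P.inv_mem hp2) hp1)
      rw [h1]
      exact E.mul_mem he2 (E.inv_mem he1)
    have hp : p1 = p2 := by
      calc p1 = p2 * (p2⁻¹ * p1) := by group
        _ = p2 := by rw [h2, mul_one]
    have he : e1 = e2 := by
      rw [h2] at h1
      calc e1 = (e2 * e1⁻¹)⁻¹ * e2 := by group
        _ = e2 := by rw [← h1]; simp
    subst hp he
    rfl
  · rintro ⟨g, p, hp, e, he, rfl⟩
    exact ⟨(⟨p, hp⟩, ⟨e, he⟩), rfl⟩

theorem card_semi (hPE : ∀ g, g ∈ P → g ∈ E → g = 1) :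
    Nat.card (semi P E h) = Nat.card P * Nat.card E := by
  rw [← Nat.card_prod]
  exact (Nat.card_congr (Equiv.ofBijective _ (semi_bijective (h := h) hPE))).symm

theorem sum_semi (hPE : ∀ g, g ∈ P → g ∈ E → g = 1) [Fintype P] [Fintype E]
    [Fintype (semi P E h)] (f : G → ℂ) :
    ∑ t : semi P E h, f (t : G) = ∑ p : P, ∑ e : E, f ((p : G) * (e : G)) := by
  rw [← Fintype.sum_prod_type']
  symm
  exact Fintype.sum_bijective _ (semi_bijective (h := h) hPE) _ _ (fun x => rfl)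

theorem sum_zpowers_four {u : G} (hu : orderOf u = 4) [Fintype (Subgroup.zpowers u)]
    (f : G → ℂ) :
    ∑ e : Subgroup.zpowers u, f (e : G) = f 1 + f u + f (u * u) + f u⁻¹ := by
  have hfin : IsOfFinOrder u := by
    rw [← orderOf_pos_iff, hu]; norm_num
  rw [← Equiv.sum_comp (finEquivZPowers hfin)]
  simp only [finEquivZPowers_apply]
  rw [Fin.sum_univ_eq_sum_range (fun k => f (u ^ k)) (orderOf u), hu]
  rw [Finset.sum_range_succ, Finset.sum_range_succ, Finset.sum_range_succ, Finset.sum_range_one]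
  have h4 : u ^ 4 = 1 := by rw [← hu]; exact pow_orderOf_eq_one u
  have h3 : u ^ 3 = u⁻¹ := by
    apply eq_inv_of_mul_eq_one_left
    rw [← pow_succ]; exact h4
  rw [pow_zero, pow_one, pow_two, h3]

theorem sum_zpowers_two {s : G} (hs : orderOf s = 2) [Fintype (Subgroup.zpowers s)]
    (f : G → ℂ) :
    ∑ e : Subgroup.zpowers s, f (e : G) = f 1 + f s := by
  have hfin : IsOfFinOrder s := by
    rw [← orderOf_pos_iff, hs]; norm_num
  rw [← Equiv.sum_comp (finEquivZPowers hfin)]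
  simp only [finEquivZPowers_apply]
  rw [Fin.sum_univ_eq_sum_range (fun k => f (s ^ k)) (orderOf s), hs]
  rw [Finset.sum_range_succ, Finset.sum_range_one, pow_zero, pow_one]

end semi

end Cfsg.Agent.Lib.Helper4.M11
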