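import Mathlib
import Cfsg.Agent.Lib.Helper4.M11x

/-! Fixed spaces of subgroups and stabilizers of subspaces in a representation. -/

set_option autoImplicit false
set_option linter.unusedSectionVars false
set_option linter.unusedVariables false
set_option linter.style.longLine false
set_option linter.unusedSimpArgs false
set_option linter.unusedDecidableInType false

set_option maxHeartbeats 1600000

namespace Cfsg.Agent.Lib.Helper4.M11

open Module

section rep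

variable {G : Type*} [Group G] [Fintype G] {n : ℕ} (ρ : Representation ℂ G (Fin n → ℂ))

/-- the fixed space of a subgroup -/
noncomputable def fixSp (K : Subgroup G) : Submodule ℂ (Fin n → ℂ) :=
  Representation.invariants (resRep ρ K)

theorem mem_fixSp {K : Subgroup G} {w : Fin n → ℂ} : w ∈ fixSp ρ K ↔ ∀ k ∈ K, ρ k w = w :=
  mem_invariants_resRep ρ K w

theorem fixSp_mono {K K' : Subgroup G} (h : K ≤ K') : fixSp ρ K' ≤ fixSp ρ K := by
  intro w hw
  rw [mem_fixSp] at hw ⊢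
  exact fun k hk => hw k (h hk)

theorem sum_eq_card_mul_finrank (K : Subgroup G) [Fintype K] :
    ∑ k : K, ρ.character (k : G) = (Nat.card K : ℂ) * (finrank ℂ (fixSp ρ K) : ℂ) :=
  sum_subgroup_eq ρ K

theorem finrank_fixSp_of_sum (K : Subgroup G) [Fintype K] {c d : ℕ} (hc : Nat.card K = c)
    (hc0 : c ≠ 0) (h : ∑ k : K, ρ.character (k : G) = ((c * d : ℕ) : ℂ)) :
    finrank ℂ (fixSp ρ K) = d := by
  have h1 := sum_eq_card_mul_finrank ρ K
  rw [h, hc] at h1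
  have h2 : c * d = c * finrank ℂ (fixSp ρ K) := by exact_mod_cast h1
  exact (Nat.eq_of_mul_eq_mul_left (Nat.pos_of_ne_zero hc0) h2).symm

/-- the stabilizer of a subspace -/
def stab (L : Submodule ℂ (Fin n → ℂ)) : Subgroup G where
  carrier := {g | (∀ w ∈ L, ρ g w ∈ L) ∧ (∀ w ∈ L, ρ g⁻¹ w ∈ L)}
  one_mem' := by
    refine ⟨fun w hw => ?_, fun w hw => ?_⟩
    · rw [map_one]; exact hw
    · rw [inv_one, map_one]; exact hw
  mul_mem' := by
    rintro a b ⟨ha1, ha2⟩ ⟨hb1, hb2⟩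
    refine ⟨fun w hw => ?_, fun w hw => ?_⟩
    · rw [map_mul]; exact ha1 _ (hb1 w hw)
    · rw [mul_inv_rev, map_mul]; exact hb2 _ (ha2 w hw)
  inv_mem' := by
    rintro a ⟨ha1, ha2⟩
    exact ⟨ha2, by rwa [inv_inv]⟩

theorem mem_stab {L : Submodule ℂ (Fin n → ℂ)} {g : G} :
    g ∈ stab ρ L ↔ (∀ w ∈ L, ρ g w ∈ L) ∧ (∀ w ∈ L, ρ g⁻¹ w ∈ L) := Iff.rfl

theorem rho_inv_apply (g : G) (w : Fin n → ℂ) : ρ g⁻¹ (ρ g w) = w := by
  have : ρ g⁻¹ (ρ g w) = (ρ g⁻¹ * ρ g) w := rfl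
  rw [this, ← map_mul, inv_mul_cancel, map_one]
  rfl

theorem mem_stab_of_fix {L : Submodule ℂ (Fin n → ℂ)} {g : G} (h : ∀ w ∈ L, ρ g w = w) :
    g ∈ stab ρ L := by
  refine ⟨fun w hw => by rw [h w hw]; exact hw, fun w hw => ?_⟩
  have : ρ g⁻¹ w = w := by
    conv_lhs => rw [← h w hw]
    exact rho_inv_apply ρ g w
  rw [this]; exact hw

theorem stab_ne_top (hirr : ρ.IsIrreducible) {L : Submodule ℂ (Fin n → ℂ)} (h0 : L ≠ ⊥)
    (h1 : L ≠ ⊤) : stab ρ L ≠ ⊤ := by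
  intro htop
  have hinv : ∀ (g : G) ⦃v : Fin n → ℂ⦄, v ∈ L → ρ g v ∈ L := by
    intro g v hv
    have hg : g ∈ stab ρ L := by rw [htop]; exact Subgroup.mem_top g
    exact hg.1 v hv
  let σ : Subrepresentation ρ := ⟨L, hinv⟩
  rcases hirr.eq_bot_or_eq_top σ with h | h
  · apply h0
    have := congrArg Subrepresentation.toSubmodule h
    exact this
  · apply h1
    have := congrArg Subrepresentation.toSubmodule h
    exact this

theorem mem_stab_fixSp_of_normalizes {T : Subgroup G} {g : G} (hg : ∀ t ∈ T, g⁻¹ * t * g ∈ T)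
    (hg' : ∀ t ∈ T, g * t * g⁻¹ ∈ T) : g ∈ stab ρ (fixSp ρ T) := by
  have key : ∀ a : G, (∀ t ∈ T, a⁻¹ * t * a ∈ T) → ∀ w ∈ fixSp ρ T, ρ a w ∈ fixSp ρ T := by
    intro a ha w hw
    rw [mem_fixSp] at hw ⊢
    intro t ht
    have h1 : t * a = a * (a⁻¹ * t * a) := by group
    have h2 : ρ t (ρ a w) = (ρ t * ρ a) w := rfl
    rw [h2, ← map_mul, h1, map_mul]
    show ρ a (ρ (a⁻¹ * t * a) w) = ρ a w
    rw [hw _ (ha t ht)]
  refine ⟨key g hg, key g⁻¹ ?_⟩
  intro t ht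
  rw [inv_inv]
  exact hg' t ht

theorem finrank_fixSp_le (K : Subgroup G) : finrank ℂ (fixSp ρ K) ≤ n := by
  have := Submodule.finrank_le (fixSp ρ K)
  rwa [Module.finrank_fin_fun] at this

end rep

end Cfsg.Agent.Lib.Helper4.M11
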