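import Mathlib
import Cfsg.Agent.Lib.Helper4.M11y

/-! The frame `P`, `O`, `u`, `s'` and the sums of the character of degree `11` over the groups
`P⟨u⟩` and `⟨u, s'⟩`. -/

set_option autoImplicit false
set_option linter.unusedSectionVars false
set_option linter.unusedVariables false
set_option linter.style.longLine false
set_option linter.unusedSimpArgs false
set_option linter.unusedDecidableInType false

set_option maxHeartbeats 1600000

namespace Cfsg.Agent.Lib.Helper4.M11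

section frame

variable {G : Type*} [Group G] [Fintype G] [DecidableEq G]

/-- the configuration together with the values of the character of degree `11` -/
structure Frame (P S O : Subgroup G) (z u s' : G) (χ : G → ℂ) : Prop where
  cen : Cen P S z
  hOS : O ≤ S
  hO8 : Nat.card O = 8
  hzO : z ∈ O
  huO : u ∈ O
  huu : u * u = z
  hs2 : s' * s' = 1
  hinv : s' * u * s'⁻¹ = u⁻¹
  hs'N : s' ∉ Subgroup.normalizer (P : Set G)
  hs'z : s' * z = z * s'
  hs'O : ∀ g ∈ O, s' * g * s'⁻¹ ∈ O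
  hsq : ∀ g ∈ O, g ≠ 1 → g ≠ z → g * g = z
  hcf : ∀ x g : G, χ (g * x * g⁻¹) = χ x
  hχ1 : χ 1 = 11
  hχ3 : ∀ p ∈ P, p ≠ 1 → χ p = 2
  hχ2 : ∀ t : G, orderOf t = 2 → χ t = 3
  hχu : χ u = -1

theorem orderOf_two_of_sq {x : G} (h : x * x = 1) (h1 : x ≠ 1) : orderOf x = 2 := by
  haveI : Fact (Nat.Prime 2) := ⟨Nat.prime_two⟩
  exact orderOf_eq_prime (by rw [pow_two]; exact h) h1

/-- an element acting freely on a finite subgroup it normalizes: the coset is a conjugacy class -/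
theorem exists_conj_of_free {P : Subgroup G} {w : G} (hwP : ∀ p ∈ P, w * p * w⁻¹ ∈ P)
    (hfree : ∀ p ∈ P, w * p = p * w → p = 1) {p : G} (hp : p ∈ P) :
    ∃ q : G, p * w = q * w * q⁻¹ := by
  let φ : P → P := fun q => ⟨(q : G) * (w * (q : G)⁻¹ * w⁻¹),
    P.mul_mem q.2 (hwP _ (P.inv_mem q.2))⟩
  have hinj : Function.Injective φ := by
    intro q1 q2 h12
    have h1 : (q1 : G) * (w * (q1 : G)⁻¹ * w⁻¹) = (q2 : G) * (w * (q2 : G)⁻¹ * w⁻¹) :=
      congrArg Subtype.val h12
    have h2 : w * ((q2 : G)⁻¹ * q1) = ((q2 : G)⁻¹ * q1) * w := by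
      have h3 : (q1 : G) * w * (q1 : G)⁻¹ = (q2 : G) * w * (q2 : G)⁻¹ := by
        calc (q1 : G) * w * (q1 : G)⁻¹ = ((q1 : G) * (w * (q1 : G)⁻¹ * w⁻¹)) * w := by group
          _ = ((q2 : G) * (w * (q2 : G)⁻¹ * w⁻¹)) * w := by rw [h1]
          _ = (q2 : G) * w * (q2 : G)⁻¹ := by group
      calc w * ((q2 : G)⁻¹ * q1) = (q2 : G)⁻¹ * ((q2 : G) * w * (q2 : G)⁻¹) * q1 := by group
        _ = (q2 : G)⁻¹ * ((q1 : G) * w * (q1 : G)⁻¹) * q1 := by rw [h3]
        _ = ((q2 : G)⁻¹ * q1) * w := by group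
    have h4 := hfree _ (P.mul_mem (P.inv_mem q2.2) q1.2) h2
    apply Subtype.ext
    calc (q1 : G) = q2 * ((q2 : G)⁻¹ * q1) := by group
      _ = q2 := by rw [h4, mul_one]
  have hsurj : Function.Surjective φ := Finite.injective_iff_surjective.mp hinj
  obtain ⟨q, hq⟩ := hsurj ⟨p, hp⟩
  have hq' : (q : G) * (w * (q : G)⁻¹ * w⁻¹) = p := congrArg Subtype.val hq
  refine ⟨q, ?_⟩
  rw [← hq']
  group

namespace Frame

variable {P S O : Subgroup G} {z u s' : G} {χ : G → ℂ}

theorem hu4 (F : Frame P S O z u s' χ) : orderOf u = 4 := by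
  haveI : Fact (Nat.Prime 2) := ⟨Nat.prime_two⟩
  have h := orderOf_eq_prime_pow (x := u) (p := 2) (n := 1)
    (by
      rw [pow_one, pow_two, F.huu]
      exact F.cen.z_ne_one)
    (by
      have e : u ^ 2 ^ (1 + 1) = (u * u) * (u * u) := by
        show u ^ 4 = (u * u) * (u * u)
        rw [show (4 : ℕ) = 2 + 2 from rfl, pow_add, pow_two]
      rw [e, F.huu, F.cen.hzz])
  simpa using h

theorem zu (F : Frame P S O z u s' χ) : z * u = u * z := by
  rw [← F.huu]; group

theorem u_inv (F : Frame P S O z u s' χ) : u⁻¹ = z * u := by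
  apply inv_eq_of_mul_eq_one_left
  calc z * u * u = z * (u * u) := by group
    _ = 1 := by rw [F.huu, F.cen.hzz]

theorem E_le (F : Frame P S O z u s' χ) : Subgroup.zpowers u ≤ O := by
  rw [Subgroup.zpowers_le]; exact F.huO

theorem E_le_S (F : Frame P S O z u s' χ) : Subgroup.zpowers u ≤ S := F.E_le.trans F.hOS

theorem hOP (F : Frame P S O z u s' χ) : ∀ g ∈ O, ∀ p ∈ P, g * p * g⁻¹ ∈ P :=
  fun g hg p hp => F.cen.loc.conj_mem (F.hOS hg) hp

theorem hEP (F : Frame P S O z u s' χ) : ∀ e ∈ Subgroup.zpowers u, ∀ p ∈ P, e * p * e⁻¹ ∈ P :=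
  fun e he p hp => F.cen.loc.conj_mem (F.E_le_S he) hp

theorem hPE (F : Frame P S O z u s' χ) : ∀ g, g ∈ P → g ∈ Subgroup.zpowers u → g = 1 :=
  fun g hgP hgE => F.cen.loc.eq_one_of_mem_both (F.E_le_S hgE) hgP

theorem hPO (F : Frame P S O z u s' χ) : ∀ g, g ∈ P → g ∈ O → g = 1 :=
  fun g hgP hgO => F.cen.loc.eq_one_of_mem_both (F.hOS hgO) hgP

theorem s'_not_mem_S (F : Frame P S O z u s' χ) : s' ∉ S := fun h => F.hs'N (F.cen.loc.norm h)

theorem s'_ne_one (F : Frame P S O z u s' χ) : s' ≠ 1 := by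
  intro h
  apply F.s'_not_mem_S
  rw [h]; exact S.one_mem

theorem hs'2 (F : Frame P S O z u s' χ) : orderOf s' = 2 := orderOf_two_of_sq F.hs2 F.s'_ne_one

theorem s'_inv (F : Frame P S O z u s' χ) : s'⁻¹ = s' := inv_eq_of_mul_eq_one_left F.hs2

theorem free (F : Frame P S O z u s' χ) : ∀ p ∈ P, u * p = p * u → p = 1 := by
  intro p hp hup
  have hzp : z * p = p * z := by
    rw [← F.huu]
    calc u * u * p = u * (u * p) := by group
      _ = u * (p * u) := by rw [hup]
      _ = (u * p) * u := by group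
      _ = p * u * u := by rw [hup]
      _ = p * (u * u) := by group
  by_contra hp1
  have h1 := F.cen.hzi p hp
  rw [conj_eq_of_comm hzp] at h1
  exact F.cen.loc.ne_inv_of_mem hp hp1 h1

theorem free' (F : Frame P S O z u s' χ) : ∀ p ∈ P, u⁻¹ * p = p * u⁻¹ → p = 1 := by
  intro p hp hup
  apply F.free p hp
  calc u * p = u * (p * u⁻¹) * u := by group
    _ = u * (u⁻¹ * p) * u := by rw [hup]
    _ = p * u := by group

theorem val_ui (F : Frame P S O z u s' χ) : χ u⁻¹ = -1 := by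
  rw [← F.hinv, F.hcf, F.hχu]

theorem val_z (F : Frame P S O z u s' χ) : χ z = 3 := F.hχ2 z F.cen.hz2

theorem val_pu (F : Frame P S O z u s' χ) {p : G} (hp : p ∈ P) : χ (p * u) = -1 := by
  obtain ⟨q, hq⟩ := exists_conj_of_free (fun p hp => F.cen.loc.conj_mem (F.hOS F.huO) hp) F.free hp
  rw [hq, F.hcf, F.hχu]

theorem val_pui (F : Frame P S O z u s' χ) {p : G} (hp : p ∈ P) : χ (p * u⁻¹) = -1 := by
  obtain ⟨q, hq⟩ := exists_conj_of_free
    (fun p hp => F.cen.loc.conj_mem (S.inv_mem (F.hOS F.huO)) hp) F.free' hp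
  rw [hq, F.hcf, F.val_ui]

theorem val_pz (F : Frame P S O z u s' χ) {p : G} (hp : p ∈ P) : χ (p * z) = 3 := by
  apply F.hχ2
  apply orderOf_two_of_sq
  · have h1 := F.cen.hzi p hp
    rw [F.cen.z_inv] at h1
    calc p * z * (p * z) = p * (z * p * z) := by group
      _ = 1 := by rw [h1]; group
  · intro h
    have hzP : z ∈ P := by
      have : z = p⁻¹ := by
        calc z = p⁻¹ * (p * z) := by group
          _ = p⁻¹ := by rw [h, mul_one]
      rw [this]; exact P.inv_mem hp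
    exact F.cen.z_ne_one (F.cen.loc.eq_one_of_mem_both F.cen.hz hzP)

theorem sum_P (F : Frame P S O z u s' χ) [Fintype P] : ∑ p : P, χ (p : G) = 27 := by
  classical
  have hform : ∀ p : P, χ (p : G) = 2 + 9 * (if p = 1 then (1 : ℂ) else 0) := by
    intro p
    by_cases hp : p = 1
    · rw [if_pos hp, hp, Subgroup.coe_one, F.hχ1]; norm_num
    · rw [if_neg hp, F.hχ3 p p.2 (fun h => hp (Subtype.ext h))]; norm_num
  rw [Finset.sum_congr rfl (fun p _ => hform p), Finset.sum_add_distrib, ← Finset.mul_sum,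
    Finset.sum_ite_eq' Finset.univ (1 : P) (fun _ => (1 : ℂ)), if_pos (Finset.mem_univ _),
    Finset.sum_const, Finset.card_univ]
  have hc : Fintype.card P = 9 := by rw [← Nat.card_eq_fintype_card]; exact F.cen.loc.hP
  rw [hc]
  norm_num

theorem sum_T (F : Frame P S O z u s' χ) [Fintype P] [Fintype (Subgroup.zpowers u)]
    [Fintype (semi P (Subgroup.zpowers u) F.hEP)] :
    ∑ t : semi P (Subgroup.zpowers u) F.hEP, χ (t : G) = ((36 * 1 : ℕ) : ℂ) := by
  rw [sum_semi F.hPE]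
  have hinner : ∀ p : P, ∑ e : Subgroup.zpowers u, χ ((p : G) * (e : G)) = χ (p : G) + 1 := by
    intro p
    rw [sum_zpowers_four F.hu4 (fun e => χ ((p : G) * e)), mul_one, F.val_pu p.2, F.huu,
      F.val_pz p.2, F.val_pui p.2]
    ring
  rw [Finset.sum_congr rfl (fun p _ => hinner p), Finset.sum_add_distrib, F.sum_P,
    Finset.sum_const, Finset.card_univ]
  have hc : Fintype.card P = 9 := by rw [← Nat.card_eq_fintype_card]; exact F.cen.loc.hP
  rw [hc]
  norm_num

theorem sum_E (F : Frame P S O z u s' χ) [Fintype (Subgroup.zpowers u)] :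
    ∑ e : Subgroup.zpowers u, χ (e : G) = ((4 * 3 : ℕ) : ℂ) := by
  rw [sum_zpowers_four F.hu4 χ, F.hχ1, F.hχu, F.huu, F.val_z, F.val_ui]
  norm_num

theorem hEs (F : Frame P S O z u s' χ) :
    ∀ e ∈ Subgroup.zpowers s', ∀ x ∈ Subgroup.zpowers u, e * x * e⁻¹ ∈ Subgroup.zpowers u := by
  intro e he x hx
  rcases mem_zpowers_two F.hs2 he with rfl | rfl
  · simpa using hx
  · have hle : Subgroup.zpowers u ≤
        (Subgroup.zpowers u).comap (MulAut.conj e).toMonoidHom := by
      rw [Subgroup.zpowers_le, Subgroup.mem_comap]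
      show e * u * e⁻¹ ∈ Subgroup.zpowers u
      rw [F.hinv]
      exact (Subgroup.zpowers u).inv_mem (Subgroup.mem_zpowers u)
    exact hle hx

theorem hEs' (F : Frame P S O z u s' χ) :
    ∀ g, g ∈ Subgroup.zpowers u → g ∈ Subgroup.zpowers s' → g = 1 := by
  intro g hgE hgs
  rcases mem_zpowers_two F.hs2 hgs with h | h
  · exact h
  · exfalso
    rw [h] at hgE
    exact F.s'_not_mem_S (F.E_le_S hgE)

theorem invol_us (F : Frame P S O z u s' χ) :
    orderOf (u * s') = 2 ∧ orderOf (u * u * s') = 2 ∧ orderOf (u⁻¹ * s') = 2 := by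
  have hsi := F.s'_inv
  have h1 : s' * u * s' = u⁻¹ := by
    have := F.hinv
    rwa [hsi] at this
  have h2 : s' * u⁻¹ * s' = u := by
    calc s' * u⁻¹ * s' = (s'⁻¹ * u * s'⁻¹)⁻¹ := by group
      _ = (s' * u * s')⁻¹ := by rw [hsi]
      _ = u := by rw [h1, inv_inv]
  refine ⟨orderOf_two_of_sq ?_ ?_, orderOf_two_of_sq ?_ ?_, orderOf_two_of_sq ?_ ?_⟩
  · calc u * s' * (u * s') = u * (s' * u * s') := by group
      _ = 1 := by rw [h1, mul_inv_cancel]
  · intro h
    apply F.s'_not_mem_S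
    have : s' = u⁻¹ := by
      calc s' = u⁻¹ * (u * s') := by group
        _ = u⁻¹ := by rw [h, mul_one]
    rw [this]; exact S.inv_mem (F.hOS F.huO)
  · rw [F.huu]
    calc z * s' * (z * s') = z * (s' * z) * s' := by group
      _ = z * (z * s') * s' := by rw [F.hs'z]
      _ = (z * z) * (s' * s') := by group
      _ = 1 := by rw [F.cen.hzz, F.hs2, mul_one]
  · intro h
    apply F.s'_not_mem_S
    have : s' = (u * u)⁻¹ := by
      calc s' = (u * u)⁻¹ * (u * u * s') := by group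
        _ = (u * u)⁻¹ := by rw [h, mul_one]
    rw [this, F.huu]; exact S.inv_mem F.cen.hz
  · calc u⁻¹ * s' * (u⁻¹ * s') = u⁻¹ * (s' * u⁻¹ * s') := by group
      _ = 1 := by rw [h2, inv_mul_cancel]
  · intro h
    apply F.s'_not_mem_S
    have : s' = u := by
      calc s' = u * (u⁻¹ * s') := by group
        _ = u := by rw [h, mul_one]
    rw [this]; exact F.hOS F.huO

theorem sum_D8 (F : Frame P S O z u s' χ) [Fintype (Subgroup.zpowers u)]
    [Fintype (Subgroup.zpowers s')]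
    [Fintype (semi (Subgroup.zpowers u) (Subgroup.zpowers s') F.hEs)] :
    ∑ t : semi (Subgroup.zpowers u) (Subgroup.zpowers s') F.hEs, χ (t : G) =
      ((8 * 3 : ℕ) : ℂ) := by
  rw [sum_semi F.hEs']
  have hinner : ∀ e : Subgroup.zpowers u, ∑ f : Subgroup.zpowers s', χ ((e : G) * (f : G)) =
      χ (e : G) + χ ((e : G) * s') := by
    intro e
    rw [sum_zpowers_two F.hs'2 (fun f => χ ((e : G) * f)), mul_one]
  rw [Finset.sum_congr rfl (fun e _ => hinner e),
    sum_zpowers_four F.hu4 (fun e => χ e + χ (e * s'))]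
  obtain ⟨h1, h2, h3⟩ := F.invol_us
  rw [one_mul, F.hχ1, F.hχ2 s' F.hs'2, F.hχu, F.hχ2 _ h1, F.huu, F.val_z, ← F.huu, F.hχ2 _ h2,
    F.val_ui, F.hχ2 _ h3]
  norm_num

/-- the subgroup of order eight normalizes `⟨u⟩` -/
theorem hOu (F : Frame P S O z u s' χ) {g : G} (hg : g ∈ O) :
    g * u * g⁻¹ = u ∨ g * u * g⁻¹ = u⁻¹ := by
  by_cases hc : g * u * g⁻¹ = u
  · left; exact hc
  · right
    have hcomm : ∀ x : G, x * u = u * x → x ≠ g := by
      intro x hx hxg
      apply hc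
      rw [← hxg]
      exact conj_eq_of_comm hx
    have hg1 : g ≠ 1 := fun h => hcomm 1 (by simp) h.symm
    have hgz : g ≠ z := fun h => hcomm z F.zu h.symm
    have hgu1 : g * u ≠ 1 := by
      intro h
      apply hcomm u⁻¹ (by group)
      calc u⁻¹ = (g * u) * u⁻¹ := by rw [h, one_mul]
        _ = g := by group
    have hguz : g * u ≠ z := by
      intro h
      apply hcomm u rfl
      have : g = z * u⁻¹ := by
        calc g = (g * u) * u⁻¹ := by group
          _ = z * u⁻¹ := by rw [h]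
      rw [this, ← F.huu]; group
    have h1 := F.hsq (g * u) (O.mul_mem hg F.huO) hgu1 hguz
    have h2 := F.hsq g hg hg1 hgz
    have h3 : u * g * u = g := by
      calc u * g * u = g⁻¹ * ((g * u) * (g * u)) := by group
        _ = g⁻¹ * (g * g) := by rw [h1, h2]
        _ = g := by group
    calc g * u * g⁻¹ = u⁻¹ * (u * g * u) * g⁻¹ := by group
      _ = u⁻¹ * g * g⁻¹ := by rw [h3]
      _ = u⁻¹ := by group

theorem hOE (F : Frame P S O z u s' χ) {g : G} (hg : g ∈ O) :
    ∀ e ∈ Subgroup.zpowers u, g * e * g⁻¹ ∈ Subgroup.zpowers u := by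
  have hle : Subgroup.zpowers u ≤
      (Subgroup.zpowers u).comap (MulAut.conj g).toMonoidHom := by
    rw [Subgroup.zpowers_le, Subgroup.mem_comap]
    show g * u * g⁻¹ ∈ Subgroup.zpowers u
    rcases F.hOu hg with h | h
    · rw [h]; exact Subgroup.mem_zpowers u
    · rw [h]; exact (Subgroup.zpowers u).inv_mem (Subgroup.mem_zpowers u)
  exact fun e he => hle he

theorem hOT (F : Frame P S O z u s' χ) {g : G} (hg : g ∈ O) :
    ∀ t ∈ semi P (Subgroup.zpowers u) F.hEP, g * t * g⁻¹ ∈ semi P (Subgroup.zpowers u) F.hEP := by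
  rintro t ⟨p, hp, e, he, rfl⟩
  refine ⟨g * p * g⁻¹, F.hOP g hg p hp, g * e * g⁻¹, F.hOE hg e he, by group⟩

theorem hOs (F : Frame P S O z u s' χ) :
    ∀ e ∈ Subgroup.zpowers s', ∀ g ∈ O, e * g * e⁻¹ ∈ O := by
  intro e he g hg
  rcases mem_zpowers_two F.hs2 he with rfl | rfl
  · simpa using hg
  · exact F.hs'O g hg

theorem hOs' (F : Frame P S O z u s' χ) : ∀ g, g ∈ O → g ∈ Subgroup.zpowers s' → g = 1 := by
  intro g hgO hgs
  rcases mem_zpowers_two F.hs2 hgs with h | h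
  · exact h
  · exfalso
    rw [h] at hgO
    exact F.s'_not_mem_S (F.hOS hgO)

end Frame

end frame

end Cfsg.Agent.Lib.Helper4.M11
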