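import Mathlib
import Cfsg.Agent.Lib.Helper4.M11z

/-! A subgroup of order `720` in a simple group of order `7920`, as the stabilizer of a line in the
irreducible module of degree `11`. -/

set_option autoImplicit false
set_option linter.unusedSectionVars false
set_option linter.unusedVariables false
set_option linter.style.longLine false
set_option linter.unusedSimpArgs false
set_option linter.unusedDecidableInType false

set_option maxHeartbeats 1600000

namespace Cfsg.Agent.Lib.Helper4.M11

open Module

section assembly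

variable {G : Type*} [Group G] [Fintype G] [DecidableEq G] [IsSimpleGroup G]

theorem k_cases {k i : ℕ} (h : 144 * k * i = 7920) (hi : 11 ≤ i) : k = 1 ∨ k = 5 := by
  have h55 : k * i = 55 := by
    have h1 : 144 * (k * i) = 144 * 55 := by rw [← mul_assoc]; exact h
    exact Nat.eq_of_mul_eq_mul_left (by norm_num) h1
  have hk : k ≤ 5 := by
    by_contra hlt
    push Not at hlt
    have : 6 * 11 ≤ k * i := Nat.mul_le_mul (by omega) hi
    omega
  interval_cases k
  · omega
  · left; rfl
  · omega
  · omega
  · omega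
  · right; rfl

theorem card_cases_72 {c : ℕ} (h1 : 72 ∣ c) (h2 : c ∣ 144) : c = 72 ∨ c = 144 := by
  obtain ⟨k, rfl⟩ := h1
  have hk : k ∣ 2 := by
    have : 72 * k ∣ 72 * 2 := by norm_num; exact h2
    exact Nat.dvd_of_mul_dvd_mul_left (by norm_num) this
  have hk' : k = 1 ∨ k = 2 := (Nat.dvd_prime Nat.prime_two).mp hk
  rcases hk' with rfl | rfl
  · left; rfl
  · right; rfl

/-- the stabilizer of the line has order `720` -/
theorem Frame.exists_720 {P : Sylow 3 G} {S O : Subgroup G} {z u s' : G} {n : ℕ}
    (ρ : Representation ℂ G (Fin n → ℂ)) (hirr : ρ.IsIrreducible)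
    (F : Frame (P : Subgroup G) S O z u s' ρ.character) (hG : Nat.card G = 7920) :
    ∃ M : Subgroup G, Nat.card M = 720 := by
  classical
  haveI : Fact (Nat.Prime 3) := ⟨by norm_num⟩
  have hn : n = 11 := by
    have h1 := Representation.char_one ρ
    rw [F.hχ1, Module.finrank_fin_fun] at h1
    exact_mod_cast h1.symm
  set E := Subgroup.zpowers u with hE
  set T := semi (P : Subgroup G) E F.hEP with hT
  set D8 := semi E (Subgroup.zpowers s') F.hEs with hD8
  have cE : Nat.card E = 4 := by rw [hE, Nat.card_zpowers, F.hu4]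
  have cs : Nat.card (Subgroup.zpowers s') = 2 := by rw [Nat.card_zpowers, F.hs'2]
  have cT : Nat.card T = 36 := by
    rw [hT, card_semi F.hPE, F.cen.loc.hP, cE]
  have cD : Nat.card D8 = 8 := by
    rw [hD8, card_semi F.hEs', cE, cs]
  have rT : finrank ℂ (fixSp ρ T) = 1 :=
    finrank_fixSp_of_sum ρ T (c := 36) (d := 1) cT (by norm_num) F.sum_T
  have rD : finrank ℂ (fixSp ρ D8) = 3 :=
    finrank_fixSp_of_sum ρ D8 (c := 8) (d := 3) cD (by norm_num) F.sum_D8
  have rE : finrank ℂ (fixSp ρ E) = 3 :=
    finrank_fixSp_of_sum ρ E (c := 4) (d := 3) cE (by norm_num) F.sum_E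
  have hDE : fixSp ρ D8 = fixSp ρ E :=
    Submodule.eq_of_le_of_finrank_eq (fixSp_mono ρ left_le_semi) (by rw [rD, rE])
  have hs'fix : ∀ w ∈ fixSp ρ E, ρ s' w = w := by
    intro w hw
    rw [← hDE] at hw
    exact (mem_fixSp ρ).mp hw s' (right_le_semi (Subgroup.mem_zpowers s'))
  set L := fixSp ρ T with hL
  set M0 := stab ρ L with hM0
  have hPM : (P : Subgroup G) ≤ M0 := fun p hp =>
    mem_stab_of_fix ρ (fun w hw => (mem_fixSp ρ).mp hw p (left_le_semi hp))
  have hs'M : s' ∈ M0 :=
    mem_stab_of_fix ρ (fun w hw => hs'fix w (fixSp_mono ρ right_le_semi hw))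
  have hOM : O ≤ M0 := fun g hg =>
    mem_stab_fixSp_of_normalizes ρ
      (by
        intro t ht
        have := F.hOT (O.inv_mem hg) t ht
        rwa [inv_inv] at this)
      (F.hOT hg)
  have hne : M0 ≠ ⊤ := by
    apply stab_ne_top ρ hirr
    · intro h0
      rw [h0, finrank_bot] at rT
      omega
    · intro h0
      rw [h0, finrank_top, Module.finrank_fin_fun, hn] at rT
      omega
  set S16 := semi O (Subgroup.zpowers s') F.hOs with hS16
  have cS : Nat.card S16 = 16 := by
    rw [hS16, card_semi F.hOs', F.hO8, cs]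
  have hsM : Subgroup.zpowers s' ≤ M0 := by
    rw [Subgroup.zpowers_le]; exact hs'M
  have hSM : S16 ≤ M0 := by
    rintro t ⟨g, hg, e, he, rfl⟩
    exact M0.mul_mem (hOM hg) (hsM he)
  have h9 : 9 ∣ Nat.card M0 := by
    rw [← F.cen.loc.hP]; exact Subgroup.card_dvd_of_le hPM
  have h16 : 16 ∣ Nat.card M0 := by
    rw [← cS]; exact Subgroup.card_dvd_of_le hSM
  have h144 : 144 ∣ Nat.card M0 :=
    Nat.Coprime.mul_dvd_of_dvd_of_dvd (by norm_num : Nat.Coprime 9 16) h9 h16
  have hidx : 11 ≤ M0.index := by
    have h := Cfsg.Agent.Lib.Lead.PrimeDegree.card_dvd_factorial_index M0 hne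
    rw [hG] at h
    have h11 : 11 ∣ M0.index.factorial := Dvd.dvd.trans (by norm_num) h
    exact (Nat.Prime.dvd_factorial (by norm_num)).mp h11
  have hmul : Nat.card M0 * M0.index = 7920 := by rw [← hG]; exact M0.card_mul_index
  obtain ⟨k, hk⟩ := h144
  rw [hk] at hmul
  rcases k_cases hmul hidx with rfl | rfl
  · -- the case of order `144`
    exfalso
    have cM : Nat.card M0 = 144 := by rw [hk]
    set N := Subgroup.normalizer (((P : Subgroup G)) : Set G) with hN
    set K := M0 ⊓ N with hK
    set T72 := semi (P : Subgroup G) O F.hOP with hT72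
    have cT72 : Nat.card T72 = 72 := by
      rw [hT72, card_semi F.hPO, F.cen.loc.hP, F.hO8]
    have hT72K : T72 ≤ K := by
      rintro t ⟨p, hp, g, hg, rfl⟩
      refine ⟨M0.mul_mem (hPM hp) (hOM hg), N.mul_mem ?_ ?_⟩
      · exact Subgroup.le_normalizer hp
      · exact F.cen.loc.norm (F.hOS hg)
    have h72 : 72 ∣ Nat.card K := by
      rw [← cT72]; exact Subgroup.card_dvd_of_le hT72K
    have hK144 : Nat.card K ∣ 144 := by
      rw [← cM]; exact Subgroup.card_dvd_of_le inf_le_left
    rcases card_cases_72 h72 hK144 with hc | hc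
    · have hrel : K.relIndex M0 = 2 := by
        have h := card_mul_relIndex' (H := K) (K := M0) inf_le_left
        rw [hc, cM] at h
        omega
      have hconj : ∀ p ∈ (P : Subgroup G), s' * p * s'⁻¹ ∈ N := by
        intro p hp
        have hpK : p ∈ K := ⟨hPM hp, Subgroup.le_normalizer hp⟩
        exact (conj_mem_of_relIndex_two inf_le_left hrel hs'M hpK).2
      have hQN : conjS s' (P : Subgroup G) ≤ N := by
        intro x hx
        rw [mem_conjS] at hx
        have := hconj _ hx
        have e : s' * (s'⁻¹ * x * s') * s'⁻¹ = x := by group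
        rwa [e] at this
      have hpg : IsPGroup 3 (conjS s' (P : Subgroup G)) :=
        IsPGroup.of_card (n := 2) (by rw [card_conjS, F.cen.loc.hP]; norm_num)
      have hinf := hpg.inf_normalizer_sylow P
      have hQP : conjS s' (P : Subgroup G) ≤ (P : Subgroup G) := by
        intro x hx
        have hmem : x ∈ conjS s' (P : Subgroup G) ⊓
            Subgroup.normalizer (((P : Subgroup G)) : Set G) := ⟨hx, hQN hx⟩
        have hmem' : x ∈ conjS s' (P : Subgroup G) ⊓ (P : Subgroup G) := by
          rw [← hinf]; exact hmem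
        exact hmem'.2
      have hsN : Subgroup.zpowers s' ≤ N := by
        apply le_normalizer_of_conj
        intro x hx p hp
        rcases mem_zpowers_two F.hs2 hx with rfl | rfl
        · simpa using hp
        · exact hQP (conj_mem_conjS hp)
      exact F.hs'N (hsN (Subgroup.mem_zpowers s'))
    · have hKM : K = M0 := Subgroup.eq_of_le_of_card_ge inf_le_left (by rw [hc, cM])
      have : s' ∈ K := by rw [hKM]; exact hs'M
      exact F.hs'N this.2
  · exact ⟨M0, by rw [hk]⟩

end assembly

end Cfsg.Agent.Lib.Helper4.M11
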