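import Mathlib
import Cfsg.Agent.Lib.Helper4.M11za

/-! A simple group of order `7920` has a subgroup of order `720`. -/

set_option autoImplicit false
set_option linter.unusedSectionVars false
set_option linter.unusedVariables false
set_option linter.style.longLine false
set_option linter.unusedSimpArgs false
set_option linter.unusedDecidableInType false

set_option maxHeartbeats 1600000

namespace Cfsg.Agent.Lib.Helper4.M11

open Cfsg Cfsg.Agent.Lib.Helper6 Module
open Cfsg.Agent.Lib.Lead Cfsg.Agent.Lib.Lead.SylowCount Cfsg.Agent.Lib.Lead.SmallSimple2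
  Cfsg.Agent.Lib.Helper7.CountTools Cfsg.Agent.Lib.Helper7.SylPar Cfsg.Agent.Lib.Helper4.Ord5040
  Cfsg.Agent.Lib.Helper5.BrauerSmall
open scoped ComplexConjugate

section main

variable {G : Type*} [Group G] [Fintype G] [DecidableEq G]
variable [IsSimpleGroup G] [Fintype (Cfsg.IrrCharacter G)] [DecidableEq (Cfsg.IrrCharacter G)]

/-- a simple group of order `7920` has a subgroup of order `720` -/
theorem exists_subgroup_720 (hG : Nat.card G = 7920) : ∃ M : Subgroup G, Nat.card M = 720 := by
  haveI : Fact (Nat.Prime 3) := ⟨by norm_num⟩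
  obtain ⟨D⟩ := exists_tenData hG
  obtain ⟨P⟩ : Nonempty (Sylow 3 G) := inferInstance
  obtain ⟨S, z, C⟩ := exists_cen hG P
  obtain ⟨O, u, s', hOS, hO8, hzO, huO, huu, hs2, hinv, hs'N, hs'z, hs'O, hsq, hCu⟩ :=
    C.exists_config
  obtain ⟨n, ρ, hirr, hρ⟩ := D.χ11.2
  have F : Frame (P : Subgroup G) S O z u s' ρ.character := by
    rw [hρ]
    exact
      { cen := C
        hOS := hOS
        hO8 := hO8
        hzO := hzO
        huO := huO
        huu := huu
        hs2 := hs2
        hinv := hinv
        hs'N := hs'N
        hs'z := hs'z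
        hs'O := hs'O
        hsq := hsq
        hcf := IsCharacter.isClassFunction (IsIrrCharacter.isCharacter D.χ11.2)
        hχ1 := D.one_11
        hχ3 := fun p hp hp1 => (values_three hG D C.loc hp hp1).2.2.2.2.2.2.1
        hχ2 := fun t ht => (values_involution hG D t ht).1
        hχu := values_four hG D C.hz2 huu hinv hCu }
  exact F.exists_720 ρ hirr hG

end main

end Cfsg.Agent.Lib.Helper4.M11
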