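import Mathlib
import Cfsg.Prelude.Def_SporCoxeter

/-! The Mathieu group M12 presented on generators `a`, `b` of a subgroup M11 and an element `g` of order 11 (generated). -/

namespace Cfsg.Agent.Lib.Helper4

namespace M12p

/-- the generators -/
inductive Gen
  | a
  | b
  | g
  deriving DecidableEq

abbrev a : FreeGroup Gen := FreeGroup.of Gen.a
abbrev b : FreeGroup Gen := FreeGroup.of Gen.b
abbrev g : FreeGroup Gen := FreeGroup.of Gen.g

/-- no Coxeter graph -/
def edges : List (Gen × ℕ × Gen) := []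

/-- the relators -/
def extra : List (FreeGroup Gen) := [
  a ^ 2,
  b ^ 4,
  (a * b) ^ 11,
  (a * b * b) ^ 6,
  a * b * a * b * a * b⁻¹ * a * b * a * b * b * a * b⁻¹ * a * b * a * b⁻¹ * a * b⁻¹,
  g ^ 11,
  b⁻¹ * b⁻¹ * a * b⁻¹ * a * b * a * g * a * b⁻¹ * a * b * a * b * b * g⁻¹ * g⁻¹ * g⁻¹ * g⁻¹ * g⁻¹,
  a * b * a * b * a * b * b * a * b * b * g⁻¹ * b * a * b * g⁻¹,
  a * b * a * b * b * a * b * a * b * b * a * b * g⁻¹ * a * g * a * b * b ]

end M12p

end Cfsg.Agent.Lib.Helper4
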