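import Mathlib
import Cfsg.Prelude.Def_Spor_Mathieu
import Cfsg.Agent.Lib.Helper9.M24T10
import Cfsg.Agent.Lib.Helper9.M24U1
import Cfsg.Agent.Lib.Helper9.GolayM24b
import Cfsg.Agent.Lib.Helper4.M12pMain

/-!
The presented group `M12p` is isomorphic to the Mathieu group M12 of the definitions (the stabiliser of the dodecad
of squares in the automorphism group of the binary Golay code).
-/

set_option autoImplicit false

namespace Cfsg.Agent.Lib.Helper4.M12pIso

open Cfsg Cfsg.Agent.Lib.Helper4.TC Cfsg.Agent.Lib.Helper4.TCD Cfsg.Agent.Lib.Helper4.TC.Log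
  Cfsg.Agent.Lib.Helper9.M24T1 Cfsg.Agent.Lib.Helper9.M24U1
open scoped Pointwise

/-- the image of `a` -/
def pa : Equiv.Perm GolayPt :=
  tperm [8, 1, 18, 6, 4, 7, 3, 5, 0, 16, 10, 11, 12, 13, 17, 15, 9, 14, 2, 21, 22, 19, 20, 23]
    [8, 1, 18, 6, 4, 7, 3, 5, 0, 16, 10, 11, 12, 13, 17, 15, 9, 14, 2, 21, 22, 19, 20, 23] (by decide +kernel) (by decide +kernel)

/-- the image of `b` -/
def pb : Equiv.Perm GolayPt :=
  tperm [9, 3, 13, 8, 16, 5, 18, 21, 12, 0, 22, 19, 1, 6, 14, 17, 4, 7, 2, 10, 20, 15, 11, 23]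
    [9, 12, 18, 1, 16, 5, 13, 17, 3, 0, 19, 22, 8, 2, 14, 21, 4, 15, 6, 11, 20, 7, 10, 23] (by decide +kernel) (by decide +kernel)

/-- the image of `g` -/
def pg : Equiv.Perm GolayPt :=
  tperm [0, 9, 12, 1, 2, 19, 4, 21, 13, 6, 14, 23, 16, 3, 11, 22, 18, 7, 8, 10, 20, 5, 17, 15]
    [0, 3, 4, 13, 6, 21, 9, 17, 18, 1, 19, 14, 2, 8, 10, 23, 12, 22, 16, 5, 20, 7, 15, 11] (by decide +kernel) (by decide +kernel)

theorem pa_M24 : pa ∈ M24 := tperm_mem _ _ _ _ (by decide +kernel) (by decide +kernel)
theorem pb_M24 : pb ∈ M24 := tperm_mem _ _ _ _ (by decide +kernel) (by decide +kernel)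
theorem pg_M24 : pg ∈ M24 := tperm_mem _ _ _ _ (by decide +kernel) (by decide +kernel)

theorem mem_M12_of (g : Equiv.Perm GolayPt) (h1 : g ∈ M24) (h2 : g • Spor.squareDodecad = Spor.squareDodecad) :
    g ∈ Spor.M12 := by
  unfold Spor.M12
  rw [Subgroup.mem_inf]
  exact ⟨h1, MulAction.mem_stabilizer_iff.2 h2⟩

theorem pa_mem : pa ∈ Spor.M12 := mem_M12_of pa pa_M24 (by decide +kernel)
theorem pb_mem : pb ∈ Spor.M12 := mem_M12_of pb pb_M24 (by decide +kernel)
theorem pg_mem : pg ∈ Spor.M12 := mem_M12_of pg pg_M24 (by decide +kernel)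

/-- the images of the letters -/
def gU (l : ℕ) : Equiv.Perm GolayPt := [pa, pa⁻¹, pb, pb⁻¹, pg, pg⁻¹].getD l 1

theorem gU_mem (l : ℕ) : gU l ∈ Spor.M12 := by
  by_cases hl : l < 6
  · interval_cases l
    · exact pa_mem
    · exact Spor.M12.inv_mem pa_mem
    · exact pb_mem
    · exact Spor.M12.inv_mem pb_mem
    · exact pg_mem
    · exact Spor.M12.inv_mem pg_mem
  · have : gU l = 1 := by
      unfold gU
      rw [List.getD_eq_default]
      simp only [List.length_cons, List.length_nil]
      omega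
    rw [this]
    exact Spor.M12.one_mem

/-- the images of the letters in M12 -/
def gS (l : ℕ) : ↥Spor.M12 := ⟨gU l, gU_mem l⟩

theorem coe_wordP (L : List ℕ) : ((wordP gS L : ↥Spor.M12) : Equiv.Perm GolayPt) = wordP gU L := by
  have := wordP_hom Spor.M12.subtype gS L
  exact this.symm

theorem rel_ok : ∀ L ∈ PM12p.P.real, wordP gU L = 1 := by decide +kernel

theorem inv_ok : ∀ l, l < PM12p.P.k → gU l * gU (PM12p.P.invR l) = 1 := by
  intro l hl
  have hl : l < 6 := hl
  interval_cases l
  · exact mul_inv_cancel pa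
  · exact inv_mul_cancel pa
  · exact mul_inv_cancel pb
  · exact inv_mul_cancel pb
  · exact mul_inv_cancel pg
  · exact inv_mul_cancel pg

theorem exists_hom : ∃ f : PM12p.P.Grp →* ↥Spor.M12, ∀ l, l < PM12p.P.k → f (PM12p.P.gR l) = gS l := by
  apply exists_hom_of_letters PM12p.P PM12p.valid gS
  · intro l hl
    apply Subtype.ext
    exact inv_ok l hl
  · intro L hL
    apply Subtype.ext
    rw [coe_wordP]
    exact rel_ok L hL

/-- the homomorphism to M12 -/
noncomputable def f : PM12p.P.Grp →* ↥Spor.M12 := Classical.choose exists_hom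

theorem f_gR (l : ℕ) (hl : l < 6) : f (PM12p.P.gR l) = gS l := Classical.choose_spec exists_hom l hl

theorem f_word (u : List ℕ) (hu : ∀ x ∈ u, x < 6) :
    ((f (wordP PM12p.P.gR u) : ↥Spor.M12) : Equiv.Perm GolayPt) = wordP gU u := by
  rw [← wordP_hom, ← coe_wordP]
  congr 1
  apply Stem.wordP_congr
  intro l hl
  exact f_gR l (hu l hl)

/-- the representatives of the cosets of the subgroup M11 -/
def reps : List (List ℕ) :=
  [[], [4], [5], [2, 4], [3, 4], [4, 4], [2, 5], [5, 5], [2, 2, 4], [4, 3, 4], [0, 4, 4], [3, 4, 4]]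

theorem reps_lt : ∀ u ∈ reps, ∀ x ∈ u, x < 6 := by decide

theorem reps_inj : Function.Injective fun j : Fin 12 => wordP gU (reps.getD j.1 []) none := by decide +kernel

theorem f_injective : Function.Injective f := by
  obtain ⟨fG, hinj, hcard⟩ := M12pMain.order_aux
  have hX : Function.Injective (Spor.M12.subtype.comp f) := by
    apply M12pA.inst.injective_of_orbit hinj (by decide) (Spor.M12.subtype.comp f) (none : GolayPt)
      _ (fun j => wordP PM12p.P.gR (reps.getD j.1 []))
    · intro i j hij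
      apply reps_inj
      have hi : ∀ x ∈ reps.getD i.1 [], x < 6 := by
        apply reps_lt
        rw [List.getD_eq_getElem _ _ (show (i : ℕ) < reps.length from i.2)]
        exact List.getElem_mem _
      have hj : ∀ x ∈ reps.getD j.1 [], x < 6 := by
        apply reps_lt
        rw [List.getD_eq_getElem _ _ (show (j : ℕ) < reps.length from j.2)]
        exact List.getElem_mem _
      simp only [MonoidHom.comp_apply, Subgroup.subtype_apply] at hij
      rw [f_word _ hi, f_word _ hj] at hij
      exact hij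
    · intro h hh
      induction hh using Subgroup.closure_induction with
      | mem s hs =>
        obtain ⟨u, hu, rfl⟩ := hs
        have hu' : u = [0] ∨ u = [2] := by
          simpa [M12pA.subs] using hu
        rcases hu' with rfl | rfl
        · simp only [MonoidHom.comp_apply, Subgroup.subtype_apply]
          rw [f_word _ (by decide)]
          decide +kernel
        · simp only [MonoidHom.comp_apply, Subgroup.subtype_apply]
          rw [f_word _ (by decide)]
          decide +kernel
      | one => simp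
      | mul a b _ _ iha ihb =>
        rw [map_mul, Equiv.Perm.mul_apply, ihb, iha]
      | inv a _ iha =>
        rw [map_inv, Equiv.Perm.inv_eq_iff_eq, iha]
  intro x y hxy
  apply hX
  simp only [MonoidHom.comp_apply, hxy]

theorem sq_mem : Spor.squareDodecad ∈ Cfsg.dodecads :=
  ⟨⟨qrWord 0, Cfsg.Agent.Lib.Helper9.GolayM24b.qrWord_mem 0, rfl⟩, by decide +kernel⟩

theorem card_M12 : Nat.card ↥Spor.M12 = 95040 :=
  Cfsg.Agent.Lib.Helper9.M24T10.card_stabF _ sq_mem

/-- the presented group `M12p` is the Mathieu group M12 -/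
theorem iso : Nonempty (PM12p.P.Grp ≃* ↥Spor.M12) := by
  obtain ⟨fG, hinj, hcard⟩ := M12pMain.order_aux
  have := fG
  have : Finite ↥Spor.M12 := Nat.finite_of_card_ne_zero (by rw [card_M12]; decide)
  have hb : Function.Bijective f :=
    f_injective.bijective_of_nat_card_le (by rw [card_M12, hcard])
  exact ⟨MulEquiv.ofBijective f hb⟩

end Cfsg.Agent.Lib.Helper4.M12pIso
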