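import Mathlib
import Cfsg.Prelude.Def_Spor_Mathieu
import Cfsg.Agent.Lib.Helper9.M24T4
import Cfsg.Agent.Lib.Helper9.M24U1
import Cfsg.Agent.Lib.Helper4.M23pMain
import Cfsg.Agent.Lib.Helper4.M12pIso

/-!
The presented group `M23p` is isomorphic to the Mathieu group M23 of the definitions (the stabiliser of the extra
point in the automorphism group of the binary Golay code).
-/

set_option autoImplicit false

namespace Cfsg.Agent.Lib.Helper4.M23pIso

open Cfsg Cfsg.Agent.Lib.Helper4.TC Cfsg.Agent.Lib.Helper4.TCD Cfsg.Agent.Lib.Helper4.TC.Log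
  Cfsg.Agent.Lib.Helper9.M24T1 Cfsg.Agent.Lib.Helper9.M24U1 Cfsg.Agent.Lib.Helper9.M24T3
  Cfsg.Agent.Lib.Helper4.M12pIso
open scoped Pointwise

/-- the image of `g` -/
def ph : Equiv.Perm GolayPt :=
  tperm [2, 17, 15, 21, 13, 20, 22, 6, 1, 14, 18, 12, 7, 9, 3, 11, 4, 19, 16, 0, 10, 8, 5, 23]
    [19, 8, 0, 14, 16, 22, 7, 12, 21, 13, 20, 15, 11, 4, 9, 2, 18, 1, 10, 17, 5, 3, 6, 23] (by decide +kernel) (by decide +kernel)

theorem ph_M24 : ph ∈ M24 := tperm_mem _ _ _ _ (by decide +kernel) (by decide +kernel)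

theorem mem_M23_of (g : Equiv.Perm GolayPt) (h1 : g ∈ M24) (h2 : g none = none) :
    g ∈ Spor.M23 := by
  unfold Spor.M23
  rw [Subgroup.mem_inf]
  exact ⟨h1, MulAction.mem_stabilizer_iff.2 h2⟩

theorem pa_mem : pa ∈ Spor.M23 := mem_M23_of pa pa_M24 (by decide +kernel)
theorem pb_mem : pb ∈ Spor.M23 := mem_M23_of pb pb_M24 (by decide +kernel)
theorem ph_mem : ph ∈ Spor.M23 := mem_M23_of ph ph_M24 (by decide +kernel)

/-- the images of the letters -/
def gV (l : ℕ) : Equiv.Perm GolayPt := [pa, pa⁻¹, pb, pb⁻¹, ph, ph⁻¹].getD l 1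

theorem gV_mem (l : ℕ) : gV l ∈ Spor.M23 := by
  by_cases hl : l < 6
  · interval_cases l
    · exact pa_mem
    · exact Spor.M23.inv_mem pa_mem
    · exact pb_mem
    · exact Spor.M23.inv_mem pb_mem
    · exact ph_mem
    · exact Spor.M23.inv_mem ph_mem
  · have : gV l = 1 := by
      unfold gV
      rw [List.getD_eq_default]
      simp only [List.length_cons, List.length_nil]
      omega
    rw [this]
    exact Spor.M23.one_mem

/-- the images of the letters in M23 -/
def gT (l : ℕ) : ↥Spor.M23 := ⟨gV l, gV_mem l⟩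

theorem coe_wordP (L : List ℕ) : ((wordP gT L : ↥Spor.M23) : Equiv.Perm GolayPt) = wordP gV L := by
  have := wordP_hom Spor.M23.subtype gT L
  exact this.symm

theorem rel_ok : ∀ L ∈ PM23p.P.real, wordP gV L = 1 := by decide +kernel

theorem inv_ok : ∀ l, l < PM23p.P.k → gV l * gV (PM23p.P.invR l) = 1 := by
  intro l hl
  have hl : l < 6 := hl
  interval_cases l
  · exact mul_inv_cancel pa
  · exact inv_mul_cancel pa
  · exact mul_inv_cancel pb
  · exact inv_mul_cancel pb
  · exact mul_inv_cancel ph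
  · exact inv_mul_cancel ph

theorem exists_hom : ∃ f : PM23p.P.Grp →* ↥Spor.M23, ∀ l, l < PM23p.P.k → f (PM23p.P.gR l) = gT l := by
  apply exists_hom_of_letters PM23p.P PM23p.valid gT
  · intro l hl
    apply Subtype.ext
    exact inv_ok l hl
  · intro L hL
    apply Subtype.ext
    rw [coe_wordP]
    exact rel_ok L hL

/-- the homomorphism to M23 -/
noncomputable def f : PM23p.P.Grp →* ↥Spor.M23 := Classical.choose exists_hom

theorem f_gR (l : ℕ) (hl : l < 6) : f (PM23p.P.gR l) = gT l := Classical.choose_spec exists_hom l hl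

theorem pa_ne_one : pa ≠ 1 := by
  intro h
  have h1 : pa (some 0) = some 0 := by rw [h]; rfl
  revert h1
  decide +kernel

theorem f_injective : Function.Injective f := by
  apply injective_of_simple M23pMain.simple_aux f (PM23p.P.gR 0)
  rw [f_gR 0 (by decide)]
  intro h
  apply pa_ne_one
  have := congrArg Subtype.val h
  exact this

theorem M23_eq : Spor.M23 = fixL M24 [none] := by
  have := fixL_snoc M24 [] none
  rw [fixL_nil] at this
  exact this.symm

theorem card_M23 : Nat.card ↥Spor.M23 = 10200960 := by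
  rw [M23_eq]
  exact Cfsg.Agent.Lib.Helper9.M24T4.card_fix1

/-- the presented group `M23p` is the Mathieu group M23 -/
theorem iso : Nonempty (PM23p.P.Grp ≃* ↥Spor.M23) := by
  obtain ⟨fG, hinj, hcard⟩ := M23pMain.order_aux
  have := fG
  have : Finite ↥Spor.M23 := Nat.finite_of_card_ne_zero (by rw [card_M23]; decide)
  have hb : Function.Bijective f :=
    f_injective.bijective_of_nat_card_le (by rw [card_M23, hcard])
  exact ⟨MulEquiv.ofBijective f hb⟩

end Cfsg.Agent.Lib.Helper4.M23pIso
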