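import Mathlib

set_option autoImplicit false

/-! S5006 unit A3b (pure combinatorics): if the integers `m r` (`r : Fin n`) are pairwise congruent
modulo `d` and not all equal, then `n ∑ m² - (∑ m)² ≥ (n - 1) d²`. -/

namespace Cfsg.Agent.Lib.Helper4.M24A3b

theorem h4_sq_le_sq_of_dvd (d x : ℤ) (hd : d ∣ x) (hx : x ≠ 0) : d ^ 2 ≤ x ^ 2 := by
  obtain ⟨c, rfl⟩ := hd
  have hc : c ≠ 0 := by
    rintro rfl
    simp at hx
  have h1 : 0 < c ^ 2 := by positivity
  have h2 : 1 ≤ c ^ 2 := h1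
  nlinarith [sq_nonneg d]

theorem a3b_comb (n : ℕ) (m : Fin n → ℤ) (d : ℤ) (hdiv : ∀ r s, d ∣ m r - m s)
    (hne : ∃ r s, m r ≠ m s) :
    ((n : ℤ) - 1) * d ^ 2 ≤ (n : ℤ) * ∑ r, m r ^ 2 - (∑ r, m r) ^ 2 := by
  obtain ⟨r0, s0, h0⟩ := hne
  have hrs : r0 ≠ s0 := fun h => h0 (by rw [h])
  obtain ⟨g, hg⟩ : ∃ g : Fin n → ℤ, g = fun r => ∑ s, (m r - m s) ^ 2 := ⟨_, rfl⟩
  have hI : ∑ r, g r = 2 * ((n : ℤ) * ∑ r, m r ^ 2 - (∑ r, m r) ^ 2) := by
    rw [hg]
    have h1 : ∀ r : Fin n, ∑ s, (m r - m s) ^ 2 =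
        (n : ℤ) * m r ^ 2 - 2 * m r * (∑ s, m s) + ∑ s, m s ^ 2 := by
      intro r
      simp only [sub_sq, Finset.sum_add_distrib, Finset.sum_sub_distrib, Finset.sum_const,
        Finset.card_univ, Fintype.card_fin, nsmul_eq_mul, ← Finset.mul_sum]
    simp only [h1, Finset.sum_add_distrib, Finset.sum_sub_distrib, Finset.sum_const,
      Finset.card_univ, Fintype.card_fin, nsmul_eq_mul, ← Finset.mul_sum, ← Finset.sum_mul]
    ring
  have hh : ∀ t, d ^ 2 ≤ (m t - m r0) ^ 2 + (m t - m s0) ^ 2 := by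
    intro t
    by_cases h : m t = m r0
    · have h2 : m t - m s0 ≠ 0 := by
        rw [h]
        exact sub_ne_zero.mpr h0
      nlinarith [h4_sq_le_sq_of_dvd d _ (hdiv t s0) h2, sq_nonneg (m t - m r0)]
    · have h2 : m t - m r0 ≠ 0 := sub_ne_zero.mpr h
      nlinarith [h4_sq_le_sq_of_dvd d _ (hdiv t r0) h2, sq_nonneg (m t - m s0)]
  have hgrow : ∀ r, d ^ 2 ≤ g r := by
    intro r
    have hsub : ({r0, s0} : Finset (Fin n)) ⊆ Finset.univ := Finset.subset_univ _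
    have h1 := Finset.sum_le_sum_of_subset_of_nonneg hsub (f := fun s => (m r - m s) ^ 2)
      (fun _ _ _ => sq_nonneg _)
    rw [Finset.sum_pair hrs] at h1
    rw [hg]
    exact (hh r).trans h1
  have hg0 : g r0 + g s0 = ∑ t, ((m t - m r0) ^ 2 + (m t - m s0) ^ 2) := by
    rw [hg, Finset.sum_add_distrib]
    congr 1 <;> (apply Finset.sum_congr rfl; intro s _; ring)
  have hg0' : (n : ℤ) * d ^ 2 ≤ g r0 + g s0 := by
    rw [hg0]
    calc (n : ℤ) * d ^ 2 = ∑ _t : Fin n, d ^ 2 := by simp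
      _ ≤ _ := Finset.sum_le_sum (fun t _ => hh t)
  have hs0 : s0 ∈ Finset.univ.erase r0 := Finset.mem_erase.mpr ⟨hrs.symm, Finset.mem_univ s0⟩
  have hsplit : ∑ r, g r = g r0 + (g s0 + ∑ r ∈ (Finset.univ.erase r0).erase s0, g r) := by
    rw [Finset.add_sum_erase (Finset.univ.erase r0) g hs0,
      Finset.add_sum_erase Finset.univ g (Finset.mem_univ r0)]
  have hn2 : 2 ≤ n := by
    have h1 := Fin.is_lt r0
    have h2 := Fin.is_lt s0
    have hv : (r0 : ℕ) ≠ s0 := fun h => hrs (Fin.ext h)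
    omega
  have hrest : ((n : ℤ) - 2) * d ^ 2 ≤ ∑ r ∈ (Finset.univ.erase r0).erase s0, g r := by
    have hcard : ((Finset.univ.erase r0).erase s0).card = n - 2 := by
      rw [Finset.card_erase_of_mem hs0, Finset.card_erase_of_mem (Finset.mem_univ r0),
        Finset.card_univ, Fintype.card_fin]
      omega
    calc ((n : ℤ) - 2) * d ^ 2 = ∑ _r ∈ (Finset.univ.erase r0).erase s0, d ^ 2 := by
          rw [Finset.sum_const, hcard, nsmul_eq_mul]
          push_cast [Nat.cast_sub hn2]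
          ring
      _ ≤ _ := Finset.sum_le_sum (fun r _ => hgrow r)
  linarith [hI, hsplit, hg0', hrest]

end Cfsg.Agent.Lib.Helper4.M24A3b
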