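import Mathlib
import Cfsg.Agent.S2882

set_option autoImplicit false

/-! S5006 unit C5: an element of odd order centralizing a Sylow `2`-subgroup of `M24` is trivial
(the Sylow `2`-subgroups are self-normalizing, S2882). -/

namespace Cfsg.Agent.Lib.Helper4.M24C5

theorem c5_H1 (P : Sylow 2 ↥Cfsg.M24) (n : ↥Cfsg.M24)
    (hn : n ∈ Subgroup.centralizer ((P : Subgroup ↥Cfsg.M24) : Set ↥Cfsg.M24))
    (hn2 : ¬ 2 ∣ orderOf n) : n = 1 := by
  have h1 : n ∈ Subgroup.normalizer ((P : Subgroup ↥Cfsg.M24) : Set ↥Cfsg.M24) :=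
    Subgroup.centralizer_le_normalizer _ hn
  rw [Cfsg.Agent.S2882.result P] at h1
  obtain ⟨k, hk⟩ := P.isPGroup' ⟨n, h1⟩
  have hk' : n ^ 2 ^ k = 1 := by
    have := congrArg Subtype.val hk
    simpa using this
  have hdvd : orderOf n ∣ 2 ^ k := orderOf_dvd_of_pow_eq_one hk'
  obtain ⟨j, -, hj⟩ := (Nat.dvd_prime_pow Nat.prime_two).mp hdvd
  rcases j with _ | j
  · rw [pow_zero] at hj
    exact orderOf_eq_one_iff.mp hj
  · exfalso
    apply hn2
    rw [hj, pow_succ]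
    exact dvd_mul_left 2 _

end Cfsg.Agent.Lib.Helper4.M24C5
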