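import Mathlib
import Cfsg.Prelude.Def_SporCoxeter

/-! The Mathieu group M24 presented on generators `a`, `b`, `g` of a subgroup M23 and an element `h` of order 23 (generated). -/

namespace Cfsg.Agent.Lib.Helper4

namespace M24p

/-- the generators -/
inductive Gen
  | a
  | b
  | g
  | h
  deriving DecidableEq

abbrev a : FreeGroup Gen := FreeGroup.of Gen.a
abbrev b : FreeGroup Gen := FreeGroup.of Gen.b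
abbrev g : FreeGroup Gen := FreeGroup.of Gen.g
abbrev h : FreeGroup Gen := FreeGroup.of Gen.h

/-- no Coxeter graph -/
def edges : List (Gen × ℕ × Gen) := []

/-- the relators -/
def extra : List (FreeGroup Gen) := [
  a ^ 2,
  b ^ 4,
  (a * b) ^ 11,
  (a * b * b) ^ 6,
  a * b * a * b * a * b⁻¹ * a * b * a * b * b * a * b⁻¹ * a * b * a * b⁻¹ * a * b⁻¹,
  g ^ 23,
  a * b * g * b⁻¹ * a⁻¹ * g⁻¹ * g⁻¹,
  a * g * a * g * b⁻¹ * g * a * g * g * b⁻¹ * g⁻¹ * g⁻¹,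
  a * g * a * g⁻¹ * a * g * a * g⁻¹ * a⁻¹ * g * a⁻¹ * g⁻¹,
  a * b * a * g * g * b * a * g * g * b * g⁻¹ * b⁻¹ * g⁻¹ * b * b,
  a * b * g⁻¹ * a * g * b * g⁻¹ * g⁻¹ * a⁻¹ * g⁻¹ * a⁻¹ * g * b * b * g⁻¹,
  a * b⁻¹ * g⁻¹ * a⁻¹ * g * b⁻¹ * g * b⁻¹ * b⁻¹ * g⁻¹ * a * g * b⁻¹ * g * b⁻¹,
  h ^ 23,
  b⁻¹ * a⁻¹ * h * a * b * h⁻¹ * h⁻¹,
  g * g * h * g * g * h,
  a * b * h * g⁻¹ * a * b * h⁻¹ * g,
  a * b * g⁻¹ * a * g * g * b⁻¹ * h * h * b * a⁻¹ * h⁻¹ * b * b,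
  a * b⁻¹ * a * b⁻¹ * g⁻¹ * a * g * b * b * g⁻¹ * h⁻¹ * h⁻¹ * b⁻¹ * h ]

end M24p

end Cfsg.Agent.Lib.Helper4
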