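import Mathlib
import Cfsg.Agent.Lib.Helper4.M23pMain
import Cfsg.Agent.Lib.Helper4.TCD_M24pA_Fin
import Cfsg.Agent.Lib.Helper4.TCD_M24pL_Fin
import Cfsg.Agent.Lib.Helper4.TC16
import Cfsg.Agent.Lib.Helper4.RelLib
import Cfsg.Agent.Lib.Helper4.StemLib6

/-! The presented group `M24p` has order 244823040 and contains the presented group `M23p` (generated). -/

namespace Cfsg.Agent.Lib.Helper4.M24pMain

open Cfsg.Agent.Lib.Helper4.TC Cfsg.Agent.Lib.Helper4.TCD Cfsg.Agent.Lib.Helper4.TC.Log Cfsg.Agent.Lib.Helper4.Stem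

/-- the letters of `M23p` as letters of `M24p` -/
def embK (l : ℕ) : ℕ := [0, 1, 2, 3, 4, 5].getD l 8

theorem real_subK : ∀ L ∈ PM23p.P.real, L.map embK ∈ PM24p.P.real := by decide +kernel

theorem embK_emb : LetterEmb PM23p.P PM24p.P embK where
  hP := PM23p.valid
  hQ := PM24p.valid
  hlt := by
    intro l hl
    have hl : l < 6 := hl
    show embK l < 8
    interval_cases l <;> decide
  hinv := by
    intro l hl
    have hl : l < 6 := hl
    interval_cases l <;> rfl
  hrel := by
    intro L hL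
    exact (PM24p.valid.real_sound _ (real_subK L hL)).2

/-- the words generating `M23p` -/
def subsK : List (List ℕ) := [[0], [2], [4]]

theorem subsK_map : subsK.map (List.map embK) = M24pA.subs := by decide

theorem subG_K_top : Inst.subG PM23p.P subsK = ⊤ := by
  rw [eq_top_iff, ← PM23p.valid.gen_top, Subgroup.closure_le]
  rintro _ ⟨l, hl, rfl⟩
  have hl : l < 6 := hl
  interval_cases l
  · exact Subgroup.subset_closure ⟨[0], by decide, by rw [wordP_cons, wordP_nil, mul_one]⟩
  · have h : PM23p.P.gR 1 = (PM23p.P.gR 0)⁻¹ := (PM23p.valid.invR_sound 0 (by decide)).2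
    rw [h]
    exact Subgroup.inv_mem _ (Subgroup.subset_closure ⟨[0], by decide, by rw [wordP_cons, wordP_nil, mul_one]⟩)
  · exact Subgroup.subset_closure ⟨[2], by decide, by rw [wordP_cons, wordP_nil, mul_one]⟩
  · have h : PM23p.P.gR 3 = (PM23p.P.gR 2)⁻¹ := (PM23p.valid.invR_sound 2 (by decide)).2
    rw [h]
    exact Subgroup.inv_mem _ (Subgroup.subset_closure ⟨[2], by decide, by rw [wordP_cons, wordP_nil, mul_one]⟩)
  · exact Subgroup.subset_closure ⟨[4], by decide, by rw [wordP_cons, wordP_nil, mul_one]⟩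
  · have h : PM23p.P.gR 5 = (PM23p.P.gR 4)⁻¹ := (PM23p.valid.invR_sound 4 (by decide)).2
    rw [h]
    exact Subgroup.inv_mem _ (Subgroup.subset_closure ⟨[4], by decide, by rw [wordP_cons, wordP_nil, mul_one]⟩)

theorem range_hom : embK_emb.hom.range = Inst.subG PM24p.P M24pA.subs := by
  rw [MonoidHom.range_eq_map, ← subG_K_top, embK_emb.map_subG subsK (by decide), subsK_map]

/-- the subgroup is an image of `M23p` -/
theorem sub_card : Finite (Inst.subG PM24p.P M24pA.subs) ∧ Nat.card (Inst.subG PM24p.P M24pA.subs) ≤ 10200960 := by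
  obtain ⟨fK, _, cK⟩ := M23pMain.order_aux
  rw [← range_hom]
  have := fK
  refine ⟨Finite.of_surjective embK_emb.hom.rangeRestrict embK_emb.hom.rangeRestrict_surjective, ?_⟩
  rw [← cK]
  exact Nat.card_le_card_of_surjective embK_emb.hom.rangeRestrict embK_emb.hom.rangeRestrict_surjective

/-- the order and the faithful permutation representation -/
theorem order_aux : Finite PM24p.P.Grp ∧ Function.Injective M24pA.inst.phi ∧ Nat.card PM24p.P.Grp = 244823040 := by
  obtain ⟨fs, cs⟩ := sub_card
  obtain ⟨fG, cG⟩ := M24pA.inst.card_le _ fs cs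
  have hub : Nat.card PM24p.P.Grp ≤ 244823040 := le_trans cG (by decide)
  obtain ⟨hinj, hcard⟩ := M24pA.inst.card_eq M24pL.S rfl rfl M24pL.htab0 M24pL.ok 244823040 (by decide)
    M24pL.prod_eq fG hub
  exact ⟨fG, hinj, hcard⟩

theorem gR_ne_one : PM24p.P.gR 0 ≠ 1 := by
  intro h
  have h1 := M24pA.inst.hphi 0 (by decide) ⟨1, by decide⟩
  have h2 : Inst.gE PM24p.P M24pA.subs 0 = PM24p.P.gR 0 := extG_le (by decide)
  rw [h2, h, map_one] at h1
  have h3 : M24pA.T.tbl 1 (M24pA.D.inv 0) ≠ 1 := by decide +kernel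
  exact h3 h1.symm

/-- `M23p` embeds -/
theorem hom_injective : Function.Injective embK_emb.hom := by
  apply injective_of_simple M23pMain.simple_aux embK_emb.hom (PM23p.P.gR 0)
  rw [embK_emb.hom_gR _ (by decide)]
  exact gR_ne_one

/-- stem extensions split over the subgroup when `M23p` is perfect and has no stem extension -/
theorem liftsP_sub (p : ℕ) (hp : p.Prime) (hperf : commutator PM23p.P.Grp = ⊤) (hns : NoStemPrime PM23p.P.Grp p) :
    LiftsP PM24p.P.Grp (Inst.subG PM24p.P M24pA.subs) p :=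
  liftsP_of_injective embK_emb.hom hom_injective _ range_hom p hp hperf hns

end Cfsg.Agent.Lib.Helper4.M24pMain
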