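import Mathlib
import Cfsg.Prelude.Def_Spor_Mathieu
import Cfsg.Agent.Lib.Helper9.M24T4
import Cfsg.Agent.Lib.Helper9.M24U1
import Cfsg.Agent.Lib.Helper4.M24pMain
import Cfsg.Agent.Lib.Helper4.M23pIso

/-!
The presented group `M24p` is isomorphic to the Mathieu group M24 of the definitions (the automorphism group of the
binary Golay code).
-/

set_option autoImplicit false

namespace Cfsg.Agent.Lib.Helper4.M24pIso

open Cfsg Cfsg.Agent.Lib.Helper4.TC Cfsg.Agent.Lib.Helper4.TCD Cfsg.Agent.Lib.Helper4.TC.Log
  Cfsg.Agent.Lib.Helper9.M24T1 Cfsg.Agent.Lib.Helper9.M24U1 Cfsg.Agent.Lib.Helper9.M24T3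
  Cfsg.Agent.Lib.Helper4.M12pIso Cfsg.Agent.Lib.Helper4.M23pIso
open scoped Pointwise

/-- the image of `h` -/
def pk : Equiv.Perm GolayPt :=
  tperm [16, 22, 5, 8, 20, 14, 13, 1, 0, 15, 19, 7, 4, 17, 12, 3, 23, 9, 18, 11, 21, 6, 2, 10]
    [8, 7, 22, 15, 12, 2, 21, 11, 3, 17, 23, 19, 14, 6, 5, 9, 0, 13, 18, 10, 4, 20, 1, 16] (by decide +kernel) (by decide +kernel)

theorem pk_M24 : pk ∈ M24 := tperm_mem _ _ _ _ (by decide +kernel) (by decide +kernel)

/-- the images of the letters -/
def gW (l : ℕ) : Equiv.Perm GolayPt := [pa, pa⁻¹, pb, pb⁻¹, ph, ph⁻¹, pk, pk⁻¹].getD l 1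

theorem gW_mem (l : ℕ) : gW l ∈ M24 := by
  by_cases hl : l < 8
  · interval_cases l
    · exact pa_M24
    · exact M24.inv_mem pa_M24
    · exact pb_M24
    · exact M24.inv_mem pb_M24
    · exact ph_M24
    · exact M24.inv_mem ph_M24
    · exact pk_M24
    · exact M24.inv_mem pk_M24
  · have : gW l = 1 := by
      unfold gW
      rw [List.getD_eq_default]
      simp only [List.length_cons, List.length_nil]
      omega
    rw [this]
    exact M24.one_mem

/-- the images of the letters in M24 -/
def gX (l : ℕ) : ↥M24 := ⟨gW l, gW_mem l⟩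

theorem coe_wordP (L : List ℕ) : ((wordP gX L : ↥M24) : Equiv.Perm GolayPt) = wordP gW L := by
  have := wordP_hom M24.subtype gX L
  exact this.symm

theorem rel_ok : ∀ L ∈ PM24p.P.real, wordP gW L = 1 := by decide +kernel

theorem inv_ok : ∀ l, l < PM24p.P.k → gW l * gW (PM24p.P.invR l) = 1 := by
  intro l hl
  have hl : l < 8 := hl
  interval_cases l
  · exact mul_inv_cancel pa
  · exact inv_mul_cancel pa
  · exact mul_inv_cancel pb
  · exact inv_mul_cancel pb
  · exact mul_inv_cancel ph
  · exact inv_mul_cancel ph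
  · exact mul_inv_cancel pk
  · exact inv_mul_cancel pk

theorem exists_hom : ∃ f : PM24p.P.Grp →* ↥M24, ∀ l, l < PM24p.P.k → f (PM24p.P.gR l) = gX l := by
  apply exists_hom_of_letters PM24p.P PM24p.valid gX
  · intro l hl
    apply Subtype.ext
    exact inv_ok l hl
  · intro L hL
    apply Subtype.ext
    rw [coe_wordP]
    exact rel_ok L hL

/-- the homomorphism to M24 -/
noncomputable def f : PM24p.P.Grp →* ↥M24 := Classical.choose exists_hom

theorem f_gR (l : ℕ) (hl : l < 8) : f (PM24p.P.gR l) = gX l := Classical.choose_spec exists_hom l hl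

theorem f_word (u : List ℕ) (hu : ∀ x ∈ u, x < 8) :
    ((f (wordP PM24p.P.gR u) : ↥M24) : Equiv.Perm GolayPt) = wordP gW u := by
  rw [← wordP_hom, ← coe_wordP]
  congr 1
  apply Stem.wordP_congr
  intro l hl
  exact f_gR l (hu l hl)

/-- words mapping the extra point to the 24 points -/
def reps : List (List ℕ) :=
  [[], [7, 7], [7, 2, 6], [6, 2, 6], [0, 5, 2, 6], [2, 7], [4, 2, 6], [5, 2, 6], [6, 2, 2, 6], [0, 7, 7], [0, 7], [6],
    [2, 2, 6], [7, 2, 7], [5, 0, 7], [4, 0, 7], [6, 0, 7], [7], [5, 3, 6], [4, 6], [3, 6], [5, 6], [0, 3, 6], [2, 6]]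

theorem reps_lt : ∀ u ∈ reps, ∀ x ∈ u, x < 8 := by decide

theorem reps_inj : Function.Injective fun j : Fin 24 => wordP gW (reps.getD j.1 []) none := by decide +kernel

theorem f_injective : Function.Injective f := by
  obtain ⟨fG, hinj, hcard⟩ := M24pMain.order_aux
  have hX : Function.Injective (M24.subtype.comp f) := by
    apply M24pA.inst.injective_of_orbit hinj (by decide) (M24.subtype.comp f) (none : GolayPt)
      _ (fun j => wordP PM24p.P.gR (reps.getD j.1 []))
    · intro i j hij
      apply reps_inj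
      have hi : ∀ x ∈ reps.getD i.1 [], x < 8 := by
        apply reps_lt
        rw [List.getD_eq_getElem _ _ (show (i : ℕ) < reps.length from i.2)]
        exact List.getElem_mem _
      have hj : ∀ x ∈ reps.getD j.1 [], x < 8 := by
        apply reps_lt
        rw [List.getD_eq_getElem _ _ (show (j : ℕ) < reps.length from j.2)]
        exact List.getElem_mem _
      simp only [MonoidHom.comp_apply, Subgroup.subtype_apply] at hij
      rw [f_word _ hi, f_word _ hj] at hij
      exact hij
    · intro h hh
      induction hh using Subgroup.closure_induction with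
      | mem s hs =>
        obtain ⟨u, hu, rfl⟩ := hs
        have hu' : u = [0] ∨ u = [2] ∨ u = [4] := by
          simpa [M24pA.subs] using hu
        rcases hu' with rfl | rfl | rfl
        · simp only [MonoidHom.comp_apply, Subgroup.subtype_apply]
          rw [f_word _ (by decide)]
          decide +kernel
        · simp only [MonoidHom.comp_apply, Subgroup.subtype_apply]
          rw [f_word _ (by decide)]
          decide +kernel
        · simp only [MonoidHom.comp_apply, Subgroup.subtype_apply]
          rw [f_word _ (by decide)]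
          decide +kernel
      | one => simp
      | mul a b _ _ iha ihb =>
        rw [map_mul, Equiv.Perm.mul_apply, ihb, iha]
      | inv a _ iha =>
        rw [map_inv, Equiv.Perm.inv_eq_iff_eq, iha]
  intro x y hxy
  apply hX
  simp only [MonoidHom.comp_apply, hxy]

theorem card_M24 : Nat.card ↥M24 = 244823040 := Cfsg.Agent.Lib.Helper9.M24T4.card_M24

/-- the presented group `M24p` is the Mathieu group M24 -/
theorem iso : Nonempty (PM24p.P.Grp ≃* ↥M24) := by
  obtain ⟨fG, hinj, hcard⟩ := M24pMain.order_aux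
  have := fG
  have : Finite ↥M24 := Nat.finite_of_card_ne_zero (by rw [card_M24]; decide)
  have hb : Function.Bijective f :=
    f_injective.bijective_of_nat_card_le (by rw [card_M24, hcard])
  exact ⟨MulEquiv.ofBijective f hb⟩

end Cfsg.Agent.Lib.Helper4.M24pIso
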