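import Mathlib
import Cfsg.Agent.Lib.Helper4.M24pMain
import Cfsg.Agent.Lib.Helper4.TCD_SM24pp3A_Fin
import Cfsg.Agent.Lib.Helper4.TCD_SM24pp3W
import Cfsg.Agent.Lib.Helper4.StemLib6
import Cfsg.Agent.Lib.Helper4.M23pStem

/-! `M24p` has no stem extension with kernel of order 3 (generated). -/

namespace Cfsg.Agent.Lib.Helper4.SM24pp3Main

open Cfsg.Agent.Lib.Helper4.TC Cfsg.Agent.Lib.Helper4.TCD Cfsg.Agent.Lib.Helper4.TC.Log Cfsg.Agent.Lib.Helper4.Stem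

/-- the description of the auxiliary presentation -/
def spec : Spec2 :=
  { p := 3
    items := [(0, [], 2),
      (2, [], 4),
      (4, [], 23),
      (6, [], 23),
      (8, [3, 1, 6, 0, 2, 7, 7], 0),
      (10, [4, 4, 6, 4, 4, 6], 0),
      (12, [0, 2, 6, 5, 0, 2, 7, 4], 0),
      (14, [0, 2, 5, 0, 4, 4, 3, 6, 6, 2, 1, 7, 2, 2], 0),
      (16, [0, 3, 0, 3, 5, 0, 4, 2, 2, 5, 7, 7, 3, 6], 0)]
    cen := [8, 10, 12, 14, 16]
    R := []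
    sub := [0, 2, 4]
    PR := [[0, 0], [2, 2, 2, 2], [0, 2, 0, 2, 0, 2, 0, 2, 0, 2, 0, 2, 0, 2, 0, 2, 0, 2, 0, 2, 0, 2], [0, 2, 2, 0, 2, 2, 0, 2, 2, 0, 2, 2, 0, 2, 2, 0, 2, 2], [0, 2, 0, 2, 0, 3, 0, 2, 0, 2, 2, 0, 3, 0, 2, 0, 3, 0, 3], [4, 4, 4, 4, 4, 4, 4, 4, 4, 4, 4, 4, 4, 4, 4, 4, 4, 4, 4, 4, 4, 4, 4], [0, 2, 4, 3, 1, 5, 5], [0, 4, 0, 4, 3, 4, 0, 4, 4, 3, 5, 5], [0, 4, 0, 5, 0, 4, 0, 5, 1, 4, 1, 5], [0, 2, 0, 4, 4, 2, 0, 4, 4, 2, 5, 3, 5, 2, 2], [0, 2, 5, 0, 4, 2, 5, 5, 1, 5, 1, 4, 2, 2, 5], [0, 3, 5, 1, 4, 3, 4, 3, 3, 5, 0, 4, 3, 4, 3]] }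

/-- the letters of the auxiliary presentation as words of the base group -/
def Wl (l : ℕ) : List ℕ :=
  [[0], [1], [2], [3], [4], [5], [6], [7], [], [], [], [], [], [], [], [], [], []].getD l []

theorem checks_eq : checks spec PM24p.P.invR Wl = SM24pp3W.chkAll := by decide +kernel

theorem sub_eq : Subgroup.closure (xw PM24p.P Wl '' {l | l ∈ spec.sub}) = Inst.subG PM24p.P M24pA.subs := by
  rw [closure_xw_eq]
  rfl

set_option maxRecDepth 100000 in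
theorem noStem : NoStemPrime PM24p.P.Grp 3 := by
  obtain ⟨fG, hinj, hcard⟩ := M24pMain.order_aux
  have hchecks : ∀ w ∈ checks spec PM24p.P.invR Wl, wordP PM24p.P.gR w = 1 := by
    rw [checks_eq]
    intro w hw
    exact M24pA.inst.word_eq_one hinj w (SM24pp3W.hAll_lt w hw) (SM24pp3W.hAll w hw)
  exact noStemPrime_pres3 PM24p.P PM24p.valid PSM24pp3.P PSM24pp3.valid spec (by show Nat.Prime 3; norm_num) Wl
    (by decide +kernel) (by decide +kernel) hchecks (by decide +kernel)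
    (by rw [sub_eq]; exact M24pMain.liftsP_sub 3 (by norm_num) M23pStem.perfect (M23pStem.noStem 3 (by norm_num)))
    10200960 (by rw [sub_eq]; exact M24pMain.sub_card.2)
    24 (by decide) SM24pp3A.index_eq fG 244823040 hcard (by decide)

end Cfsg.Agent.Lib.Helper4.SM24pp3Main
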