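import Mathlib
import Cfsg.Agent.Lib.Helper4.M24pMain
import Cfsg.Agent.Lib.Helper4.SM24pp2Main
import Cfsg.Agent.Lib.Helper4.SM24pp3Main
import Cfsg.Agent.Lib.Helper4.M23pStem
import Cfsg.Agent.Lib.Helper4.RelLib

/-!
The presented group `M24p` (the Mathieu group M24) is perfect and has no stem extension with kernel of prime
order.
-/

namespace Cfsg.Agent.Lib.Helper4.M24pStem

open Cfsg.Agent.Lib.Helper4.TC Cfsg.Agent.Lib.Helper4.TCD Cfsg.Agent.Lib.Helper4.TC.Log
  Cfsg.Agent.Lib.Helper4.Stem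

/-- the generators are products of commutators -/
theorem gR_mem_commutator (l : ℕ) (hl : l < 8) : PM24p.P.gR l ∈ commutator PM24p.P.Grp := by
  have hinv : ∀ y, y < 8 → PM24p.P.gR (PM24p.P.invR y) = (PM24p.P.gR y)⁻¹ := fun y hy =>
    (PM24p.valid.invR_sound y (by show y ≤ 8; omega)).2
  have ha : PM24p.P.gR 0 ∈ commutator PM24p.P.Grp := by
    have := map_mem_commutator M24pMain.embK_emb.hom M23pStem.perfect (PM23p.P.gR 0)
    rwa [M24pMain.embK_emb.hom_gR 0 (by decide)] at this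
  have hb : PM24p.P.gR 2 ∈ commutator PM24p.P.Grp := by
    have := map_mem_commutator M24pMain.embK_emb.hom M23pStem.perfect (PM23p.P.gR 2)
    rwa [M24pMain.embK_emb.hom_gR 2 (by decide)] at this
  have hg : PM24p.P.gR 4 ∈ commutator PM24p.P.Grp := by
    have := map_mem_commutator M24pMain.embK_emb.hom M23pStem.perfect (PM23p.P.gR 4)
    rwa [M24pMain.embK_emb.hom_gR 4 (by decide)] at this
  have hh : PM24p.P.gR 6 ∈ commutator PM24p.P.Grp := by
    apply mem_commutator_of_normalizer (PM24p.P.gR 6) (PM24p.P.gR 0 * PM24p.P.gR 2) 2 23 1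
    · have hrel := (PM24p.valid.real_sound [3, 1, 6, 0, 2, 7, 7] (by decide +kernel)).2
      simp only [wordP_cons, wordP_nil, mul_one] at hrel
      have h3 : PM24p.P.gR 3 = (PM24p.P.gR 2)⁻¹ := hinv 2 (by decide)
      have h1 : PM24p.P.gR 1 = (PM24p.P.gR 0)⁻¹ := hinv 0 (by decide)
      have h7 : PM24p.P.gR 7 = (PM24p.P.gR 6)⁻¹ := hinv 6 (by decide)
      rw [h3, h1, h7] at hrel
      calc (PM24p.P.gR 0 * PM24p.P.gR 2)⁻¹ * PM24p.P.gR 6 * (PM24p.P.gR 0 * PM24p.P.gR 2)
          = ((PM24p.P.gR 2)⁻¹ * ((PM24p.P.gR 0)⁻¹ * (PM24p.P.gR 6 * (PM24p.P.gR 0 * (PM24p.P.gR 2 *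
              ((PM24p.P.gR 6)⁻¹ * (PM24p.P.gR 6)⁻¹)))))) * PM24p.P.gR 6 ^ 2 := by group
        _ = PM24p.P.gR 6 ^ 2 := by rw [hrel, one_mul]
    · have h := (PM24p.valid.real_sound (List.replicate 23 6) (by decide +kernel)).2
      have e : wordP PM24p.P.gR (List.replicate 23 6) = PM24p.P.gR 6 ^ 23 := by
        have := wordP_replicate_flatten PM24p.P.gR 23 [6]
        simpa using this
      rw [← e]
      exact h
    · decide
  interval_cases l
  · exact ha
  · rw [show (1 : ℕ) = PM24p.P.invR 0 from rfl, hinv 0 (by decide)]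
    exact Subgroup.inv_mem _ ha
  · exact hb
  · rw [show (3 : ℕ) = PM24p.P.invR 2 from rfl, hinv 2 (by decide)]
    exact Subgroup.inv_mem _ hb
  · exact hg
  · rw [show (5 : ℕ) = PM24p.P.invR 4 from rfl, hinv 4 (by decide)]
    exact Subgroup.inv_mem _ hg
  · exact hh
  · rw [show (7 : ℕ) = PM24p.P.invR 6 from rfl, hinv 6 (by decide)]
    exact Subgroup.inv_mem _ hh

theorem perfect : commutator PM24p.P.Grp = ⊤ :=
  commutator_eq_top_of_letters PM24p.P PM24p.valid gR_mem_commutator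

theorem noStem : ∀ p, p.Prime → NoStemPrime PM24p.P.Grp p := by
  obtain ⟨fG, _, hcard⟩ := M24pMain.order_aux
  have := fG
  apply noStemPrime_all PM24p.P.Grp [2, 3]
  · intro p hp
    simp only [List.mem_cons, List.not_mem_nil, or_false] at hp
    rcases hp with rfl | rfl
    · exact SM24pp2Main.noStem
    · exact SM24pp3Main.noStem
  · rw [hcard]
    exact sq_dvd_mem_of_factors 244823040 [2, 2, 2, 2, 2, 2, 2, 2, 2, 2, 3, 3, 3, 5, 7, 11, 23] (by norm_num)
      (by decide) [2, 3] (by decide)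

end Cfsg.Agent.Lib.Helper4.M24pStem
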