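import Mathlib
import Cfsg.Agent.Lib.Helper4.MCLG1
import Cfsg.Agent.S3007

set_option autoImplicit false

/-! # S2990 unit U6: S3007 (pairs of minimal centrally large subgroups) for subgroups of `G` inside `S` -/

namespace Cfsg.Agent.Lib.Helper4.MCLG

open Cfsg Cfsg.Agent.Lib.Helper7

variable {G : Type*} [Group G] [Finite G]

theorem map_inf_centralizer (S : Subgroup G) (R : Subgroup S) :
    (R ⊓ Subgroup.centralizer (R : Set S)).map S.subtype =
      R.map S.subtype ⊓ Subgroup.centralizer ((R.map S.subtype : Subgroup G) : Set G) := by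
  rw [Subgroup.map_inf _ _ _ (Subgroup.subtype_injective S), map_centralizer, ← inf_assoc,
    inf_eq_left.mpr (Subgroup.map_subtype_le R)]

/-- (U6) S3007 for subgroups of `G` inside the `p`-group `S` -/
theorem mcl_pair {p : ℕ} [Fact p.Prime] (S : Subgroup G) (hS : IsPGroup p S) (X Y : Subgroup G)
    (hX : X ≤ S) (hY : Y ≤ S) (hXm : IsMinimalCentrallyLarge (X.subgroupOf S))
    (hYm : IsMinimalCentrallyLarge (Y.subgroupOf S)) :
    (X ⊓ Y) ⊔ (X ⊓ Subgroup.centralizer (X : Set G)) = X ∧ ⁅X, X⁆ = ⁅Y, Y⁆ ∧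
      Nat.card X = Nat.card Y := by
  obtain ⟨h1, h2, h3, -, -⟩ := Cfsg.Agent.S3007.result (p := p) S hS (X.subgroupOf S)
    (Y.subgroupOf S) hXm hYm
  refine ⟨?_, ?_, ?_⟩
  · have := congrArg (Subgroup.map S.subtype) h1
    rw [Subgroup.map_sup, Subgroup.map_inf _ _ _ (Subgroup.subtype_injective S),
      map_inf_centralizer, map_subgroupOf_of_le hX, map_subgroupOf_of_le hY] at this
    exact this
  · have := congrArg (Subgroup.map S.subtype) h2
    rw [Subgroup.map_commutator, Subgroup.map_commutator, map_subgroupOf_of_le hX,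
      map_subgroupOf_of_le hY] at this
    exact this
  · have e1 : Nat.card (X.subgroupOf S) = Nat.card X := by
      rw [← Subgroup.card_map_of_injective (Subgroup.subtype_injective S), map_subgroupOf_of_le hX]
    have e2 : Nat.card (Y.subgroupOf S) = Nat.card Y := by
      rw [← Subgroup.card_map_of_injective (Subgroup.subtype_injective S), map_subgroupOf_of_le hY]
    rw [← e1, ← e2]; exact h3

/-- (U6) if `Y ≤ O` and `X ≰ O` then `Z(X) ≰ O` -/
theorem center_not_le_of_mcl {p : ℕ} [Fact p.Prime] (S : Subgroup G) (hS : IsPGroup p S)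
    (X Y : Subgroup G) (hX : X ≤ S) (hY : Y ≤ S)
    (hXm : IsMinimalCentrallyLarge (X.subgroupOf S))
    (hYm : IsMinimalCentrallyLarge (Y.subgroupOf S)) (O : Subgroup G) (hYO : Y ≤ O)
    (hXO : ¬ X ≤ O) : ¬ X ⊓ Subgroup.centralizer (X : Set G) ≤ O := by
  intro h
  apply hXO
  obtain ⟨h1, -, -⟩ := mcl_pair S hS X Y hX hY hXm hYm
  rw [← h1]
  exact sup_le (inf_le_right.trans hYO) h

/-- (U6) the last clause of S3007 for `S` -/
theorem mcl_iff_maxAbelian {p : ℕ} [Fact p.Prime] (S : Subgroup G) (hS : IsPGroup p S)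
    (Q : Subgroup S) (hQ : IsMinimalCentrallyLarge Q) (hab : IsMulCommutative ↥Q) (R : Subgroup S) :
    IsMinimalCentrallyLarge R ↔ R ∈ Cfsg.maxAbelianSubgroups S :=
  (Cfsg.Agent.S3007.result (p := p) S hS Q Q hQ hQ).2.2.2.2 hab R

end Cfsg.Agent.Lib.Helper4.MCLG
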