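import Cfsg.Agent.Lib.Helper5.MCLGood

/-!
# Farm MCL (S3008), unit U6: parts (a), (c), (d)
-/

set_option autoImplicit false

namespace Cfsg.Agent.Lib.Helper4.MCL

open Cfsg Cfsg.Agent.Lib.Helper7 Cfsg.Agent.Lib.Helper5.MCL
open scoped Pointwise

variable {G : Type*} [Group G] [Finite G]

/-- `Q J(P)` is centrally large for every centrally large `Q`. -/
theorem cl_sup_thompsonA {Q : Subgroup G} (hQ : IsCentrallyLarge Q) :
    IsCentrallyLarge (Q ⊔ thompsonSubgroupA G) :=
  cl_sup_sSup hQ (maxAbelianSubgroups G) (fun _ h => h)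

theorem partA (Q : Subgroup G) (hQ : IsCentrallyLarge Q) :
    Subgroup.centralizer ((thompsonSubgroupA G ⊓
      Subgroup.centralizer (thompsonSubgroupA G : Set G) : Subgroup G) : Set G)
      ≤ Q ⊔ thompsonSubgroupA G := by
  have hS := cl_sup_thompsonA hQ
  obtain ⟨hSm, -⟩ := (isCentrallyLarge_iff_mem _).mp hS
  obtain ⟨A0, hA0⟩ := exists_maxAbelian G
  have hA0J : A0 ≤ thompsonSubgroupA G := le_sSup hA0
  have h1 : Cz (Q ⊔ thompsonSubgroupA G) ≤ Cz (thompsonSubgroupA G) := cz_anti le_sup_right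
  have h2 : Cz (Q ⊔ thompsonSubgroupA G) ≤ thompsonSubgroupA G := by
    refine le_trans ?_ hA0J
    have : Cz A0 = A0 := maxAbelian_centralizer_eq A0 hA0
    rw [← this]
    exact cz_anti (hA0J.trans le_sup_right)
  have h3 : Cz (Q ⊔ thompsonSubgroupA G) ≤
      thompsonSubgroupA G ⊓ Cz (thompsonSubgroupA G) := le_inf h2 h1
  have h4 := cz_anti h3
  rwa [hSm.cz_cz] at h4

/-- an abelian subgroup whose squared order is the maximal measure is minimal centrally large -/
theorem minimalCL_of_abelian_sq {A : Subgroup G} (hAc : IsMulCommutative A)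
    (h : Nat.card A * Nat.card A = maxCentralizerProduct G) : IsMinimalCentrallyLarge A := by
  have hAcl : IsCentrallyLarge A := by
    rw [isCentrallyLarge_iff, clMeasure_abelian A hAc, h]
  refine ⟨hAcl, fun R' hR' hcl => ?_⟩
  have hR'c : IsMulCommutative R' := by
    rw [← Subgroup.le_centralizer_iff_isMulCommutative]
    exact hR'.trans ((Subgroup.le_centralizer_iff_isMulCommutative.mpr hAc).trans
      (Subgroup.centralizer_le (by exact_mod_cast hR')))
  have h4 := (isCentrallyLarge_iff R').mp hcl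
  rw [clMeasure_abelian R' hR'c, ← h] at h4
  have h5 : Nat.card R' = Nat.card A := Nat.mul_self_inj.mp h4
  exact Subgroup.eq_of_le_of_card_ge hR' h5.ge

theorem partC (hJ : thompsonSubgroupA G = ⊤)
    (hd : ∀ A ∈ maxAbelianSubgroups G,
      Nat.card ↥A ^ 2 = Nat.card G * Nat.card ↥(Subgroup.center G))
    (Q : Subgroup G) (hQ : IsMinimalCentrallyLarge Q) : IsMulCommutative ↥Q := by
  obtain ⟨Q1, hQ1⟩ := exists_isCentrallyLarge G
  have hT : IsCentrallyLarge (⊤ : Subgroup G) := by
    have := cl_sup_thompsonA hQ1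
    rwa [hJ, sup_top_eq] at this
  obtain ⟨hTm, -⟩ := (isCentrallyLarge_iff_mem _).mp hT
  have e1 : Nat.card G * Nat.card ↥(Subgroup.center G) = maxCentralizerProduct G := by
    have := hTm.card_mul
    rw [Subgroup.card_top] at this
    have hc : Cz (⊤ : Subgroup G) = Subgroup.center G := by
      change Subgroup.centralizer ((⊤ : Subgroup G) : Set G) = _
      rw [Subgroup.coe_top, Subgroup.centralizer_univ]
    rwa [hc] at this
  obtain ⟨A0, hA0⟩ := exists_maxAbelian G
  have e2 : Nat.card A0 * Nat.card A0 = maxCentralizerProduct G := by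
    rw [← e1, ← hd A0 hA0, sq]
  have hmin : IsMinimalCentrallyLarge A0 := minimalCL_of_abelian_sq hA0.1 e2
  exact ((minimalCL_iff_maxAbelian A0 hmin hA0.1 Q).mp hQ).1

theorem partD (h : ∀ Q : Subgroup G, IsMinimalCentrallyLarge Q → IsMulCommutative ↥Q) :
    Subgroup.centralizer ((thompsonSubgroupA G ⊓
      Subgroup.centralizer (thompsonSubgroupA G : Set G) : Subgroup G) : Set G)
      = thompsonSubgroupA G := by
  obtain ⟨Q0, hQ0⟩ := exists_isMinimalCentrallyLarge G
  have hQ0c := h Q0 hQ0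
  have hset : {R : Subgroup G | IsMinimalCentrallyLarge R} = maxAbelianSubgroups G := by
    ext X
    exact minimalCL_iff_maxAbelian Q0 hQ0 hQ0c X
  have hJ : minimalCentrallyLargeJoin G = thompsonSubgroupA G := by
    unfold minimalCentrallyLargeJoin thompsonSubgroupA
    rw [hset]
  have hcl : IsCentrallyLarge (thompsonSubgroupA G) := by
    rw [← hJ]; exact minimalCentrallyLargeJoin_isCentrallyLarge G
  obtain ⟨hm, hc⟩ := (isCentrallyLarge_iff_mem _).mp hcl
  have : thompsonSubgroupA G ⊓ Cz (thompsonSubgroupA G) = Cz (thompsonSubgroupA G) :=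
    inf_eq_right.mpr hc
  change Cz (thompsonSubgroupA G ⊓ Cz (thompsonSubgroupA G)) = _
  rw [this, hm.cz_cz]

end Cfsg.Agent.Lib.Helper4.MCL
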