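import Cfsg.Agent.Lib.Helper6.MIdxDefs

/-! S1589 farm, piece Q2: a subgroup of `M24` whose order is divisible by `2 ^ 10` contains the pointwise
stabilizer of an octad. -/

set_option autoImplicit false

namespace Cfsg.Agent.Lib.Helper6.MIdx

open Cfsg Finset MulAction Cfsg.Agent.Lib.Helper9.OutM Cfsg.Agent.Lib.Helper9.M24T3
  Cfsg.Agent.Lib.Helper9.M24T9 Cfsg.Agent.Lib.Helper9.M24P1
open scoped Pointwise

/-- conjugation by an element of the setwise stabilizer preserves the pointwise stabilizer -/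
theorem h4_conj_mem_fixS (O : Finset GolayPt) (g k : Equiv.Perm GolayPt) (hg : g ∈ stabF O)
    (hk : k ∈ fixS O) : g * k * g⁻¹ ∈ fixS O := by
  rw [mem_stabF, stab_iff] at hg
  rw [mem_fixS] at hk ⊢
  refine ⟨M24.mul_mem (M24.mul_mem hg.1 hk.1) (M24.inv_mem hg.1), fun x hx => ?_⟩
  have hx' : g⁻¹ x ∈ O := by
    rw [← hg.2, app_inv]
    exact hx
  rw [Equiv.Perm.mul_apply, Equiv.Perm.mul_apply, hk.2 _ hx', app_inv]

/-- a 2-subgroup of `M24` fixes an octad -/
theorem h4_exists_fixed_octad (S : Subgroup (Equiv.Perm GolayPt)) (hS : S ≤ M24) (h2 : IsPGroup 2 S) :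
    ∃ O ∈ octads, ∀ g ∈ S, g • O = O := by
  classical
  let A : SubMulAction ↥S (Finset GolayPt) :=
    { carrier := octads
      smul_mem' := by
        intro c x hx
        exact Cfsg.Agent.Lib.Helper9.M24T1.smul_octad_mem c.1 (hS c.2) x hx }
  have : Fact (Nat.Prime 2) := ⟨Nat.prime_two⟩
  have hcard : Nat.card ↥A = 759 := by
    have h1 : Nat.card ↥A = octads.ncard := Nat.card_coe_set_eq octads
    rw [h1, Cfsg.Agent.Lib.Helper9.GolayQR6.card_octads]
  have hnd : ¬ 2 ∣ Nat.card ↥A := by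
    rw [hcard]
    norm_num
  obtain ⟨⟨O, hO⟩, hfix⟩ := h2.nonempty_fixed_point_of_prime_not_dvd_card ↥A hnd
  refine ⟨O, hO, fun g hg => ?_⟩
  have h3 := hfix ⟨g, hg⟩
  exact congrArg Subtype.val h3

theorem exists_fixS_le (K : Subgroup (Equiv.Perm GolayPt)) (hK : K ≤ M24) (h2 : 2 ^ 10 ∣ Nat.card K) :
    ∃ O ∈ octads, fixS O ≤ K := by
  have : Fact (Nat.Prime 2) := ⟨Nat.prime_two⟩
  obtain ⟨P, hP⟩ := Sylow.exists_subgroup_card_pow_prime 2 h2
  set S : Subgroup (Equiv.Perm GolayPt) := P.map K.subtype with hSdef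
  have hSK : S ≤ K := by
    rintro _ ⟨y, _, rfl⟩
    exact y.2
  have hScard : Nat.card S = 2 ^ 10 := by
    rw [hSdef, Subgroup.card_map_of_injective K.subtype_injective, hP]
  have hS2 : IsPGroup 2 S := IsPGroup.of_card hScard
  obtain ⟨O, hO, hfix⟩ := h4_exists_fixed_octad S (hSK.trans hK) hS2
  refine ⟨O, hO, ?_⟩
  have hSst : S ≤ stabF O := by
    intro g hg
    rw [mem_stabF]
    exact ⟨hK (hSK hg), hfix g hg⟩
  have hF2 : IsPGroup 2 (fixS O) :=
    IsPGroup.of_card (n := 4) (by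
      rw [(Cfsg.Agent.Lib.Helper9.M24T8.octad_pointwise O hO).1]
      norm_num)
  have hnorm : S ≤ Subgroup.normalizer (fixS O : Set (Equiv.Perm GolayPt)) := by
    intro g hg
    rw [Subgroup.mem_normalizer_iff]
    intro k
    constructor
    · intro hk
      exact h4_conj_mem_fixS O g k (hSst hg) hk
    · intro hk
      have h1 := h4_conj_mem_fixS O g⁻¹ (g * k * g⁻¹) ((stabF O).inv_mem (hSst hg)) hk
      have h2 : g⁻¹ * (g * k * g⁻¹) * g⁻¹⁻¹ = k := by group
      rw [h2] at h1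
      exact h1
  have hT2 : IsPGroup 2 (S ⊔ fixS O : Subgroup (Equiv.Perm GolayPt)) :=
    IsPGroup.to_sup_of_normal_right' hS2 hF2 hnorm
  have hTle : S ⊔ fixS O ≤ M24 := sup_le (hSK.trans hK) inf_le_left
  obtain ⟨n, hn⟩ := hT2.exists_card_eq
  have hdvd : 2 ^ n ∣ 244823040 := by
    rw [← hn, ← Cfsg.Agent.Lib.Helper9.M24T4.card_M24]
    exact Subgroup.card_dvd_of_le hTle
  have hn10 : n ≤ 10 := by
    by_contra hcon
    have h11 : 2 ^ 11 ∣ 2 ^ n := pow_dvd_pow 2 (by omega)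
    have := h11.trans hdvd
    norm_num at this
  have hle : Nat.card ↥(S ⊔ fixS O) ≤ Nat.card S := by
    rw [hn, hScard]
    exact Nat.pow_le_pow_right (by norm_num) hn10
  have heq : S = S ⊔ fixS O := Subgroup.eq_of_le_of_card_ge le_sup_left hle
  have : fixS O ≤ S := by
    rw [heq]
    exact le_sup_right
  exact this.trans hSK

end Cfsg.Agent.Lib.Helper6.MIdx
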