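import Cfsg.Agent.Lib.Helper6.MIdxQ1

/-! S1589 farm, piece Q7: subgroups of `M24` of order 887040 (index 276) are stabilizers of pairs of points. -/

set_option autoImplicit false

namespace Cfsg.Agent.Lib.Helper6.MIdx

open Cfsg Finset MulAction Cfsg.Agent.Lib.Helper9.OutM Cfsg.Agent.Lib.Helper9.M24T3
  Cfsg.Agent.Lib.Helper9.M24T9 Cfsg.Agent.Lib.Helper9.M24P1
open scoped Pointwise

theorem h4_card_golayPt : Fintype.card GolayPt = 24 := by decide

/-- the stabilizer of a pair of points has order 887040 -/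
theorem card_stabF_pair (s : Finset GolayPt) (hs : s.card = 2) : Nat.card (stabF s) = 887040 := by
  obtain ⟨a, b, hab, rfl⟩ := Finset.card_eq_two.mp hs
  obtain ⟨t, ht, htl⟩ := Cfsg.Agent.Lib.Helper9.M24Y1.exists_map_list [a, b] [b, a]
    (by simp [hab]) (by simp [Ne.symm hab]) rfl (by simp)
  have hta : t a = b ∧ t b = a := by simpa using htl
  have htS : t ∈ stabF ({a, b} : Finset GolayPt) := by
    rw [mem_stabF]
    refine ⟨ht, ?_⟩
    rw [Cfsg.Agent.Lib.Helper9.M24Y1.smul_pair, hta.1, hta.2]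
    exact Finset.pair_comm b a
  have horb : orbF (stabF ({a, b} : Finset GolayPt)) a = {a, b} := by
    ext e
    rw [mem_orbF]
    constructor
    · rintro ⟨g, hg, rfl⟩
      rw [mem_stabF] at hg
      have h1 : g a ∈ g • ({a, b} : Finset GolayPt) := by
        rw [Cfsg.Agent.Lib.Helper9.M24Y1.smul_pair]
        exact mem_insert_self _ _
      rw [hg.2] at h1
      exact h1
    · intro he
      rw [mem_insert, mem_singleton] at he
      rcases he with rfl | rfl
      · exact ⟨1, Subgroup.one_mem _, rfl⟩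
      · exact ⟨t, htS, hta.1⟩
  have hfix : stabF ({a, b} : Finset GolayPt) ⊓ stabilizer (Equiv.Perm GolayPt) a = fixL M24 [a, b] := by
    ext g
    rw [Subgroup.mem_inf, mem_stabF, mem_stabilizer_iff]
    constructor
    · rintro ⟨⟨hgM, hgs⟩, hga⟩
      have hga' : g a = a := hga
      refine ⟨hgM, ?_⟩
      intro p hp
      rw [List.mem_cons, List.mem_singleton] at hp
      rcases hp with hp | hp
      · rw [hp]
        exact hga'
      · rw [hp]
        rw [Cfsg.Agent.Lib.Helper9.M24Y1.smul_pair, hga'] at hgs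
        have h1 : g b ∈ ({a, g b} : Finset GolayPt) := by
          rw [mem_insert, mem_singleton]
          exact Or.inr rfl
        rw [hgs, mem_insert, mem_singleton] at h1
        rcases h1 with h1 | h1
        · exfalso
          rw [← hga'] at h1
          exact hab (g.injective h1).symm
        · exact h1
    · rintro ⟨hgM, hfix⟩
      have h1 : g a = a := hfix a (by simp)
      have h2 : g b = b := hfix b (by simp)
      refine ⟨⟨hgM, ?_⟩, h1⟩
      rw [Cfsg.Agent.Lib.Helper9.M24Y1.smul_pair, h1, h2]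
  have h1 := card_orbF (stabF ({a, b} : Finset GolayPt)) a
  rw [horb, hfix, Cfsg.Agent.Lib.Helper9.M24T7.card_fix_two a b hab, Finset.card_pair hab] at h1
  rw [h1]

theorem h4_num1 (n a b : ℕ) (hpos : 0 < n) (hle : n ≤ 23) (hd : n ∣ 36960) (h11 : n ≡ a [MOD 11])
    (h7 : n ≡ b [MOD 7]) (ha : a ≤ 1) (hb : b ≤ 2) : (a = 1 → n = 1) ∧ (a = 0 → n = 22) := by
  unfold Nat.ModEq at h11 h7
  interval_cases n <;> first | omega | (exfalso; norm_num at hd)

theorem h4_num2 (n a b : ℕ) (hle : n ≤ 24) (hd : n ∣ 887040) (h11 : n ≡ a [MOD 11])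
    (h7 : n ≡ b [MOD 7]) (ha : a ≤ 2) (hb : b ≤ 3) (han : a < n) : n = 22 ∨ n = 24 := by
  unfold Nat.ModEq at h11 h7
  interval_cases n <;> first | omega | (exfalso; norm_num at hd)

/-- the structure of a point stabilizer in a transitive subgroup of order 887040 -/
theorem h4_pt_struct (K : Subgroup (Equiv.Perm GolayPt)) (hK : K ≤ M24) (hc : Nat.card K = 887040)
    (htr : Trans K) (x : GolayPt) :
    ∃ x', x' ≠ x ∧ (∀ g ∈ pt K x, g x' = x') ∧
      ∀ c, c ≠ x → c ≠ x' → (orbF (pt K x) c).card = 22 := by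
  have hn : Nat.card ↥(pt K x) = 36960 := by
    have := card_of_trans K htr x
    omega
  have hn0 : Nat.card ↥(pt K x) ≠ 0 := by
    rw [hn]
    norm_num
  have hp11 : Fact (Nat.Prime 11) := ⟨by norm_num⟩
  have hp7 : Fact (Nat.Prime 7) := ⟨by norm_num⟩
  obtain ⟨z, hz, hz1, hz11⟩ := exists_prime_order (pt K x) 11 (by rw [hn]; norm_num) hn0
  obtain ⟨y, hy, hy1, hy7⟩ := exists_prime_order (pt K x) 7 (by rw [hn]; norm_num) hn0
  have hzc : (fixF z).card = 2 :=
    card_fixF_prime z (hK hz.1) hz1 11 (by norm_num) hz11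
  have hyc : (fixF y).card = 3 :=
    card_fixF_prime y (hK hy.1) hy1 7 (by norm_num) hy7
  have hfixx : ∀ g ∈ pt K x, g x = x := fun g hg => mem_stabilizer_iff.mp hg.2
  have hxz : x ∈ fixF z := (mem_fixF z x).mpr (hfixx z hz)
  have hxy : x ∈ fixF y := (mem_fixF y x).mpr (hfixx y hy)
  obtain ⟨x', hx'⟩ : ∃ x', (fixF z).erase x = {x'} :=
    Finset.card_eq_one.mp (by rw [card_erase_of_mem hxz, hzc])
  have hx'm : x' ∈ (fixF z).erase x := by
    rw [hx']
    exact mem_singleton_self x'
  have hx'x : x' ≠ x := (mem_erase.mp hx'm).1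
  have hx'z : x' ∈ fixF z := (mem_erase.mp hx'm).2
  have hyc2 : ((fixF y).erase x).card = 2 := by rw [card_erase_of_mem hxy, hyc]
  have key : ∀ c, c ≠ x → (x' ∈ orbF (pt K x) c → (orbF (pt K x) c).card = 1) ∧
      (x' ∉ orbF (pt K x) c → (orbF (pt K x) c).card = 22) := by
    intro c hcx
    have hxB : x ∉ orbF (pt K x) c := notMem_orbF (pt K x) c x hfixx (Ne.symm hcx)
    have hpos : 0 < (orbF (pt K x) c).card := card_pos.mpr ⟨c, self_mem_orbF _ c⟩
    have hle : (orbF (pt K x) c).card ≤ 23 := by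
      have h1 : orbF (pt K x) c ⊆ univ.erase x := by
        intro e he
        rw [mem_erase]
        refine ⟨?_, mem_univ e⟩
        rintro rfl
        exact hxB he
      have h2 := card_le_card h1
      rw [card_erase_of_mem (mem_univ x), card_univ, h4_card_golayPt] at h2
      exact h2
    have hd : (orbF (pt K x) c).card ∣ 36960 := by
      have h1 := card_orbF (pt K x) c
      rw [hn] at h1
      exact ⟨_, h1⟩
    have h11 := card_modEq_fix z 11 hz11 (orbF (pt K x) c) (orbF_invariant (pt K x) c z hz)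
    have h7 := card_modEq_fix y 7 hy7 (orbF (pt K x) c) (orbF_invariant (pt K x) c y hy)
    have hsub11 : orbF (pt K x) c ∩ fixF z ⊆ {x'} := by
      intro e he
      rw [mem_inter] at he
      rw [← hx', mem_erase]
      refine ⟨?_, he.2⟩
      rintro rfl
      exact hxB he.1
    have hsub7 : orbF (pt K x) c ∩ fixF y ⊆ (fixF y).erase x := by
      intro e he
      rw [mem_inter] at he
      rw [mem_erase]
      refine ⟨?_, he.2⟩
      rintro rfl
      exact hxB he.1
    have ha : (orbF (pt K x) c ∩ fixF z).card ≤ 1 := by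
      have := card_le_card hsub11
      rwa [card_singleton] at this
    have hb : (orbF (pt K x) c ∩ fixF y).card ≤ 2 := by
      have := card_le_card hsub7
      rwa [hyc2] at this
    have hnum := h4_num1 _ _ _ hpos hle hd h11 h7 ha hb
    constructor
    · intro hin
      apply hnum.1
      have h1 : ({x'} : Finset GolayPt) ⊆ orbF (pt K x) c ∩ fixF z := by
        intro e he
        rw [mem_singleton] at he
        rw [he, mem_inter]
        exact ⟨hin, hx'z⟩
      have h2 := card_le_card h1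
      rw [card_singleton] at h2
      omega
    · intro hnin
      apply hnum.2
      rw [card_eq_zero, eq_empty_iff_forall_notMem]
      intro e he
      have h1 := hsub11 he
      rw [mem_singleton] at h1
      rw [h1, mem_inter] at he
      exact hnin he.1
  have hfixx' : ∀ g ∈ pt K x, g x' = x' := by
    intro g hg
    have h1 := (key x' hx'x).1 (self_mem_orbF _ x')
    obtain ⟨e, he⟩ := card_eq_one.mp h1
    have h2 : x' ∈ orbF (pt K x) x' := self_mem_orbF _ x'
    have h3 : g x' ∈ orbF (pt K x) x' := orbF_invariant (pt K x) x' g hg x' h2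
    rw [he, mem_singleton] at h2 h3
    rw [h3, h2]
  refine ⟨x', hx'x, hfixx', ?_⟩
  intro c hcx hcx'
  exact (key c hcx).2 (notMem_orbF (pt K x) c x' hfixx' (Ne.symm hcx'))

theorem no_trans_887040 (K : Subgroup (Equiv.Perm GolayPt)) (hK : K ≤ M24) (hc : Nat.card K = 887040)
    (htr : Trans K) : False := by
  have hcard : ∀ v, Nat.card ↥(pt K v) = 36960 := by
    intro v
    have := card_of_trans K htr v
    omega
  obtain ⟨x⟩ : Nonempty GolayPt := ⟨none⟩
  obtain ⟨x', hx'x, hfix, horb⟩ := h4_pt_struct K hK hc htr x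
  obtain ⟨w, hw⟩ : ∃ w, w ∉ ({x, x'} : Finset GolayPt) := by
    by_contra h
    push Not at h
    have h1 := Finset.eq_univ_iff_forall.mpr h
    have h2 := congrArg Finset.card h1
    rw [card_univ, h4_card_golayPt] at h2
    have h3 : ({x, x'} : Finset GolayPt).card ≤ 2 := Finset.card_le_two
    omega
  rw [mem_insert, mem_singleton, not_or] at hw
  obtain ⟨hwx, hwx'⟩ := hw
  obtain ⟨w', hw'w, hfixw, _⟩ := h4_pt_struct K hK hc htr w
  have hbad : ∀ v, (∀ g ∈ pt K x, g v = v) → (∀ g ∈ pt K w, g v = v) → False := by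
    intro v h1 h2
    have e1 : pt K x = pt K v := by
      apply Subgroup.eq_of_le_of_card_ge
      · intro g hg
        exact ⟨hg.1, mem_stabilizer_iff.mpr (h1 g hg)⟩
      · rw [hcard, hcard]
    have e2 : pt K w = pt K v := by
      apply Subgroup.eq_of_le_of_card_ge
      · intro g hg
        exact ⟨hg.1, mem_stabilizer_iff.mpr (h2 g hg)⟩
      · rw [hcard, hcard]
    have h22 := horb w hwx hwx'
    have hsub : orbF (pt K x) w ⊆ {w} := by
      intro e he
      obtain ⟨g, hg, rfl⟩ := (mem_orbF _ _ _).mp he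
      rw [e1, ← e2] at hg
      rw [mem_singleton]
      exact mem_stabilizer_iff.mp hg.2
    have := card_le_card hsub
    rw [card_singleton, h22] at this
    omega
  have hw'x : w' ≠ x := by
    rintro rfl
    exact hbad w' (fun g hg => mem_stabilizer_iff.mp hg.2) hfixw
  have hw'x' : w' ≠ x' := by
    rintro rfl
    exact hbad w' hfix hfixw
  -- the stabilizer of `w` in `pt K x`
  have hL : Nat.card ↥(pt K x ⊓ stabilizer (Equiv.Perm GolayPt) w) = 1680 := by
    have h1 := card_orbF (pt K x) w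
    rw [hcard, horb w hwx hwx'] at h1
    omega
  have hp7 : Fact (Nat.Prime 7) := ⟨by norm_num⟩
  obtain ⟨y, hy, hy1, hy7⟩ := exists_prime_order (pt K x ⊓ stabilizer (Equiv.Perm GolayPt) w) 7
    (by rw [hL]; norm_num) (by rw [hL]; norm_num)
  have hyx : y ∈ pt K x := hy.1
  have hyw : y ∈ pt K w := ⟨hy.1.1, hy.2⟩
  have hyc : (fixF y).card = 3 :=
    card_fixF_prime y (hK hyx.1) hy1 7 (by norm_num) hy7
  have f1 : x ∈ fixF y := (mem_fixF y x).mpr (mem_stabilizer_iff.mp hyx.2)
  have f2 : x' ∈ (fixF y).erase x := mem_erase.mpr ⟨hx'x, (mem_fixF y x').mpr (hfix y hyx)⟩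
  have f3 : w ∈ (fixF y).erase x := mem_erase.mpr ⟨hwx, (mem_fixF y w).mpr (mem_stabilizer_iff.mp hyw.2)⟩
  have f4 : w' ∈ (fixF y).erase x := mem_erase.mpr ⟨hw'x, (mem_fixF y w').mpr (hfixw y hyw)⟩
  have h2 : 2 < ((fixF y).erase x).card :=
    Finset.two_lt_card_iff.mpr ⟨x', w, w', f2, f3, f4, Ne.symm hwx', Ne.symm hw'x', Ne.symm hw'w⟩
  rw [card_erase_of_mem f1, hyc] at h2
  omega

theorem index276 (K : Subgroup (Equiv.Perm GolayPt)) (hK : K ≤ M24) (hc : Nat.card K = 887040) :
    ∃ s : Finset GolayPt, s.card = 2 ∧ K = stabF s := by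
  have hn0 : Nat.card K ≠ 0 := by
    rw [hc]
    norm_num
  have hp11 : Fact (Nat.Prime 11) := ⟨by norm_num⟩
  have hp7 : Fact (Nat.Prime 7) := ⟨by norm_num⟩
  obtain ⟨z, hz, hz1, hz11⟩ := exists_prime_order K 11 (by rw [hc]; norm_num) hn0
  obtain ⟨y, hy, hy1, hy7⟩ := exists_prime_order K 7 (by rw [hc]; norm_num) hn0
  have hzc : (fixF z).card = 2 := card_fixF_prime z (hK hz) hz1 11 (by norm_num) hz11
  have hyc : (fixF y).card = 3 := card_fixF_prime y (hK hy) hy1 7 (by norm_num) hy7
  obtain ⟨c, hcz⟩ : ∃ c, z c ≠ c := by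
    by_contra h
    push Not at h
    exact hz1 (Equiv.ext h)
  have hcB : c ∈ orbF K c := self_mem_orbF K c
  have hle : (orbF K c).card ≤ 24 := h6_orb_card_le K c
  have hd : (orbF K c).card ∣ 887040 := by
    have h1 := card_orbF K c
    rw [hc] at h1
    exact ⟨_, h1⟩
  have h11 := card_modEq_fix z 11 hz11 (orbF K c) (orbF_invariant K c z hz)
  have h7 := card_modEq_fix y 7 hy7 (orbF K c) (orbF_invariant K c y hy)
  have ha : (orbF K c ∩ fixF z).card ≤ 2 := by
    have := card_le_card (inter_subset_right : orbF K c ∩ fixF z ⊆ fixF z)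
    rwa [hzc] at this
  have hb : (orbF K c ∩ fixF y).card ≤ 3 := by
    have := card_le_card (inter_subset_right : orbF K c ∩ fixF y ⊆ fixF y)
    rwa [hyc] at this
  have han : (orbF K c ∩ fixF z).card < (orbF K c).card := by
    apply card_lt_card
    rw [ssubset_iff_of_subset inter_subset_left]
    refine ⟨c, hcB, ?_⟩
    rw [mem_inter, mem_fixF]
    exact fun h => hcz h.2
  rcases h4_num2 _ _ _ hle hd h11 h7 ha hb han with h22 | h24
  · refine ⟨univ \ orbF K c, ?_, ?_⟩
    · rw [card_sdiff_of_subset (subset_univ _), card_univ, h4_card_golayPt, h22]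
    · have hcard2 : (univ \ orbF K c).card = 2 := by
        rw [card_sdiff_of_subset (subset_univ _), card_univ, h4_card_golayPt, h22]
      apply Subgroup.eq_of_le_of_card_ge
      · intro g hg
        rw [mem_stabF]
        refine ⟨hK hg, ?_⟩
        rw [stab_iff]
        intro p
        simp only [mem_sdiff, mem_univ, true_and]
        rw [not_iff_not]
        constructor
        · intro h
          have := orbF_invariant K c g⁻¹ (K.inv_mem hg) _ h
          rwa [inv_app] at this
        · exact orbF_invariant K c g hg p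
      · rw [card_stabF_pair _ hcard2, hc]
  · exfalso
    apply no_trans_887040 K hK hc
    have huniv : orbF K c = univ := eq_univ_of_card _ (by rw [h24, h4_card_golayPt])
    intro c1 d1
    obtain ⟨g1, hg1, e1⟩ := (mem_orbF K c c1).mp (huniv ▸ mem_univ c1)
    obtain ⟨g2, hg2, e2⟩ := (mem_orbF K c d1).mp (huniv ▸ mem_univ d1)
    exact ⟨g2 * g1⁻¹, K.mul_mem hg2 (K.inv_mem hg1), by
      rw [Equiv.Perm.mul_apply, ← e1, inv_app, e2]⟩

end Cfsg.Agent.Lib.Helper6.MIdx
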