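import Mathlib
import Cfsg.Agent.Lib.Helper3.MSDefs
import Cfsg.Agent.Lib.Helper2.Cores

/-! (unused duplicate of Helper8's module; names prefixed h4dup_) S4125 MS farm, piece B1: first consequences of minimality. -/

set_option autoImplicit false
set_option linter.unusedVariables false
set_option linter.unusedSectionVars false
set_option linter.style.longLine false

namespace Cfsg.Agent.Lib.Helper3.MS

universe u v

variable {p q : ℕ} {H : Type u} [Group H] {V : Type v} [AddCommGroup V] [DistribMulAction H V]

/-- for a normal subgroup `N` of a finite group, `|N : N ∩ S|` divides `|G : S|` -/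
theorem h4_ms_relIndex_dvd_index {G : Type*} [Group G] [Finite G] (S N : Subgroup G) [N.Normal] :
    S.relIndex N ∣ S.index := by
  have h0 := Cfsg.Agent.Lib.Helper2.card_sup_mul_card_inf S N
  have h1 : Nat.card S * S.relIndex (S ⊔ N) = Nat.card (S ⊔ N : Subgroup G) := by
    rw [← Subgroup.relIndex_bot_left, Subgroup.relIndex_mul_relIndex _ _ _ bot_le le_sup_left,
      Subgroup.relIndex_bot_left]
  have h2 : Nat.card (S ⊓ N : Subgroup G) * S.relIndex N = Nat.card N := by
    rw [← Subgroup.inf_relIndex_right, ← Subgroup.relIndex_bot_left,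
      Subgroup.relIndex_mul_relIndex _ _ _ bot_le inf_le_right, Subgroup.relIndex_bot_left]
  have h3 : S.relIndex (S ⊔ N) = S.relIndex N := by
    have hS : 0 < Nat.card S := Nat.card_pos
    have hSN : 0 < Nat.card (S ⊓ N : Subgroup G) := Nat.card_pos
    have h4 : Nat.card S * Nat.card (S ⊓ N : Subgroup G) * S.relIndex (S ⊔ N) =
        Nat.card S * Nat.card (S ⊓ N : Subgroup G) * S.relIndex N := by
      calc Nat.card S * Nat.card (S ⊓ N : Subgroup G) * S.relIndex (S ⊔ N)
          = (Nat.card S * S.relIndex (S ⊔ N)) * Nat.card (S ⊓ N : Subgroup G) := by ring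
        _ = Nat.card S * Nat.card N := by rw [h1, h0]
        _ = Nat.card S * (Nat.card (S ⊓ N : Subgroup G) * S.relIndex N) := by rw [h2]
        _ = Nat.card S * Nat.card (S ⊓ N : Subgroup G) * S.relIndex N := by ring
    exact Nat.eq_of_mul_eq_mul_left (Nat.mul_pos hS hSN) h4
  rw [← h3]
  exact Subgroup.relIndex_dvd_index_of_le le_sup_left

/-- a group acting trivially and faithfully is trivial, hence solvable -/
theorem h4_ms_solvable_of_trivial (h : Hyp p q H V) (ht : ∀ (x : H) (v : V), x • v = v) :
    Group.IsSolvable H := by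
  apply Group.isSolvable_of_top_eq_bot
  rw [Subgroup.eq_bot_iff_forall]
  intro x _
  exact h.faithful x (ht x)

theorem MinCE.h4dup_p_ne_q (h : MinCE p q H V) : p ≠ q := by
  intro hpq
  have := h.finH
  apply h.notSolv
  apply h4_ms_solvable_of_trivial h.toHyp
  intro x v
  obtain ⟨a, ha⟩ := h.orb v
  have h1 : (MulAction.stabilizer H v).index ∣ Nat.card H := Subgroup.index_dvd_card _
  have h2 : ((MulAction.stabilizer H v).index).Coprime (Nat.card H) := by
    rw [ha, hpq]
    exact Nat.Coprime.pow_left a h.cop.symm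
  have h3 : (MulAction.stabilizer H v).index = 1 := Nat.Coprime.eq_one_of_dvd h2 h1
  rw [Subgroup.index_eq_one] at h3
  have : x ∈ MulAction.stabilizer H v := by rw [h3]; exact Subgroup.mem_top x
  exact MulAction.mem_stabilizer_iff.mp this

theorem MinCE.h4dup_hom_trivial (h : MinCE p q H V) {S : Type*} [Group S] (φ : H →* S)
    (hS : Group.IsSolvable φ.range) (x : H) : φ x = 1 := by
  by_contra hx
  have hne : φ.ker ≠ ⊤ := by
    intro htop
    apply hx
    have : x ∈ φ.ker := by rw [htop]; exact Subgroup.mem_top x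
    exact MonoidHom.mem_ker.mp this
  haveI : Group.IsSolvable φ.ker := h.normalSolv φ.ker inferInstance hne
  apply h.notSolv
  apply Group.isSolvable_of_ker_le_range φ.ker.subtype φ.rangeRestrict
  rw [MonoidHom.ker_rangeRestrict, Subgroup.range_subtype]

theorem MinCE.h4dup_normal_coprime_trivial (h : MinCE p q H V) (N : Subgroup H) (hN : N.Normal)
    (hc : (Nat.card N).Coprime p) : N = ⊥ := by
  have := h.finH
  rw [Subgroup.eq_bot_iff_forall]
  intro n hn
  apply h.faithful n
  intro v
  obtain ⟨a, ha⟩ := h.orb v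
  have h1 : (MulAction.stabilizer H v).relIndex N ∣ p ^ a := by
    rw [← ha]
    exact h4_ms_relIndex_dvd_index _ N
  have h2 : (MulAction.stabilizer H v).relIndex N ∣ Nat.card N := Subgroup.relIndex_dvd_card _ _
  have h3 : (MulAction.stabilizer H v).relIndex N = 1 := by
    have hcop : (Nat.card N).Coprime (p ^ a) := Nat.Coprime.pow_right a hc
    exact Nat.eq_one_of_dvd_coprimes hcop h2 h1
  rw [Subgroup.relIndex_eq_one] at h3
  exact MulAction.mem_stabilizer_iff.mp (h3 hn)

end Cfsg.Agent.Lib.Helper3.MS
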