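import Mathlib
import Cfsg.Agent.Lib.Helper3.MSDefs
import Cfsg.Agent.Lib.Helper4.MSB1

/-! (unused duplicate of Helper8's module; names prefixed h4dup_) S4125 MS farm, piece B2: the module of a minimal counterexample is elementary abelian without fixed points. -/

set_option autoImplicit false
set_option linter.unusedVariables false
set_option linter.unusedSectionVars false
set_option linter.style.longLine false

namespace Cfsg.Agent.Lib.Helper3.MS

universe u v

variable {p q : ℕ} {H : Type u} [Group H] {V : Type v} [AddCommGroup V] [DistribMulAction H V]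

theorem MinCE.h4dup_nontrivialV (h : MinCE p q H V) : ∃ v : V, v ≠ 0 := by
  by_contra hcon
  push Not at hcon
  apply h.notSolv
  apply h4_ms_solvable_of_trivial h.toHyp
  intro x v
  rw [hcon v, smul_zero]

theorem MinCE.h4dup_fixed_all_zero (h : MinCE p q H V) (v : V) (hv : ∀ x : H, x • v = v) : v = 0 := by
  let W : AddSubgroup V :=
    { carrier := {w | ∀ x : H, x • w = w}
      add_mem' := by
        intro a b ha hb x
        rw [smul_add, ha x, hb x]
      zero_mem' := fun x => smul_zero x
      neg_mem' := by
        intro a ha x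
        rw [smul_neg, ha x] }
  have hW : ∀ x : H, ∀ w ∈ W, x • w ∈ W := by
    intro x w hw y
    rw [hw x, hw y]
  rcases h.irred W hW with h0 | h1
  · have : v ∈ W := hv
    rw [h0, AddSubgroup.mem_bot] at this
    exact this
  · exfalso
    apply h.notSolv
    apply h4_ms_solvable_of_trivial h.toHyp
    intro x w
    have : w ∈ W := by rw [h1]; exact AddSubgroup.mem_top w
    exact this x

theorem MinCE.h4dup_nsmul_q (h : MinCE p q H V) (v : V) : q • v = 0 := by
  have := h.finV
  have hq := h.hq
  let W : AddSubgroup V :=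
    { carrier := {w | q • w = 0}
      add_mem' := by
        intro a b ha hb
        show q • (a + b) = 0
        rw [smul_add, ha, hb, add_zero]
      zero_mem' := smul_zero q
      neg_mem' := by
        intro a ha
        show q • (-a) = 0
        rw [smul_neg, ha, neg_zero] }
  have hW : ∀ x : H, ∀ w ∈ W, x • w ∈ W := by
    intro x w hw
    show q • (x • w) = 0
    rw [smul_comm, hw, smul_zero]
  rcases h.irred W hW with h0 | h1
  · exfalso
    obtain ⟨v0, hv0⟩ := h.h4dup_nontrivialV
    obtain ⟨n, hn⟩ := h.cardV
    have hn0 : n ≠ 0 := by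
      rintro rfl
      rw [pow_zero] at hn
      have hsub : Subsingleton V := (Nat.card_eq_one_iff_unique.mp hn).1
      exact hv0 (Subsingleton.elim _ _)
    have hdvd : q ∣ Nat.card V := by
      rw [hn]
      exact dvd_pow_self q hn0
    have : Fact q.Prime := ⟨hq⟩
    obtain ⟨w, hw⟩ := exists_prime_addOrderOf_dvd_card' q hdvd
    have hwW : w ∈ W := by
      show q • w = 0
      rw [← hw]
      exact addOrderOf_nsmul_eq_zero w
    rw [h0, AddSubgroup.mem_bot] at hwW
    rw [hwW, addOrderOf_zero] at hw
    exact hq.one_lt.ne hw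
  · have : v ∈ W := by rw [h1]; exact AddSubgroup.mem_top v
    exact this

theorem MinCE.h4dup_nsmul_p_inj (h : MinCE p q H V) (v : V) (hv : p • v = 0) : v = 0 := by
  have h1 : addOrderOf v ∣ p := addOrderOf_dvd_of_nsmul_eq_zero hv
  have h2 : addOrderOf v ∣ q := addOrderOf_dvd_of_nsmul_eq_zero (h.h4dup_nsmul_q v)
  have hcop : p.Coprime q := (Nat.coprime_primes h.hp h.hq).mpr h.h4dup_p_ne_q
  have h3 : addOrderOf v = 1 := Nat.eq_one_of_dvd_coprimes hcop h1 h2
  exact AddMonoid.addOrderOf_eq_one_iff.mp h3

end Cfsg.Agent.Lib.Helper3.MS
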