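import Mathlib

set_option autoImplicit false
set_option maxRecDepth 100000

/-! Matrices of size four over the field with three elements, coded as lists of sixteen natural numbers, and the
computations in the extraspecial group `2_-^{1+4}` needed for the symplectic group of dimension four over that field. -/

namespace Cfsg.Agent.Lib.Helper4.MaxS.F3

/-- the entry `(i, j)` of a coded matrix -/
def ent (l : List ℕ) (i j : ℕ) : ℕ := l.getD (4 * i + j) 0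

/-- the entry `(i, j)` of the product -/
def mulE (a b : List ℕ) (i j : ℕ) : ℕ :=
  (ent a i 0 * ent b 0 j + ent a i 1 * ent b 1 j + ent a i 2 * ent b 2 j + ent a i 3 * ent b 3 j) % 3

/-- the product of two coded matrices -/
def mulL (a b : List ℕ) : List ℕ :=
  [mulE a b 0 0, mulE a b 0 1, mulE a b 0 2, mulE a b 0 3,
   mulE a b 1 0, mulE a b 1 1, mulE a b 1 2, mulE a b 1 3,
   mulE a b 2 0, mulE a b 2 1, mulE a b 2 2, mulE a b 2 3,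
   mulE a b 3 0, mulE a b 3 1, mulE a b 3 2, mulE a b 3 3]

/-- the transpose of a coded matrix -/
def transL (a : List ℕ) : List ℕ :=
  [ent a 0 0, ent a 1 0, ent a 2 0, ent a 3 0,
   ent a 0 1, ent a 1 1, ent a 2 1, ent a 3 1,
   ent a 0 2, ent a 1 2, ent a 2 2, ent a 3 2,
   ent a 0 3, ent a 1 3, ent a 2 3, ent a 3 3]

/-- the trace of a coded matrix -/
def trL (a : List ℕ) : ℕ := (ent a 0 0 + ent a 1 1 + ent a 2 2 + ent a 3 3) % 3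

/-- a valid code: sixteen entries below three -/
def valid (l : List ℕ) : Prop := l.length = 16 ∧ ∀ x ∈ l, x < 3

instance (l : List ℕ) : Decidable (valid l) := by unfold valid; infer_instance

/-- the 32 elements of the group `2_-^{1+4}` -/

def L32 : List (List ℕ) := [
  [0, 0, 0, 1, 0, 0, 1, 0, 0, 2, 0, 0, 2, 0, 0, 0],
  [0, 0, 0, 1, 0, 0, 2, 0, 0, 2, 0, 0, 1, 0, 0, 0],
  [0, 0, 0, 2, 0, 0, 1, 0, 0, 1, 0, 0, 2, 0, 0, 0],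
  [0, 0, 0, 2, 0, 0, 2, 0, 0, 1, 0, 0, 1, 0, 0, 0],
  [0, 0, 1, 0, 0, 0, 0, 1, 2, 0, 0, 0, 0, 2, 0, 0],
  [0, 0, 1, 0, 0, 0, 0, 2, 2, 0, 0, 0, 0, 1, 0, 0],
  [0, 0, 2, 0, 0, 0, 0, 1, 1, 0, 0, 0, 0, 2, 0, 0],
  [0, 0, 2, 0, 0, 0, 0, 2, 1, 0, 0, 0, 0, 1, 0, 0],
  [0, 1, 0, 0, 1, 0, 0, 0, 0, 0, 0, 1, 0, 0, 1, 0],
  [0, 1, 0, 0, 2, 0, 0, 0, 0, 0, 0, 1, 0, 0, 2, 0],
  [0, 1, 0, 1, 1, 0, 1, 0, 0, 1, 0, 2, 1, 0, 2, 0],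
  [0, 1, 0, 1, 2, 0, 2, 0, 0, 1, 0, 2, 2, 0, 1, 0],
  [0, 1, 0, 2, 1, 0, 2, 0, 0, 2, 0, 2, 2, 0, 2, 0],
  [0, 1, 0, 2, 2, 0, 1, 0, 0, 2, 0, 2, 1, 0, 1, 0],
  [0, 2, 0, 0, 1, 0, 0, 0, 0, 0, 0, 2, 0, 0, 1, 0],
  [0, 2, 0, 0, 2, 0, 0, 0, 0, 0, 0, 2, 0, 0, 2, 0],
  [0, 2, 0, 1, 1, 0, 2, 0, 0, 1, 0, 1, 2, 0, 2, 0],
  [0, 2, 0, 1, 2, 0, 1, 0, 0, 1, 0, 1, 1, 0, 1, 0],
  [0, 2, 0, 2, 1, 0, 1, 0, 0, 2, 0, 1, 1, 0, 2, 0],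
  [0, 2, 0, 2, 2, 0, 2, 0, 0, 2, 0, 1, 2, 0, 1, 0],
  [1, 0, 0, 0, 0, 1, 0, 0, 0, 0, 1, 0, 0, 0, 0, 1],
  [1, 0, 0, 0, 0, 2, 0, 0, 0, 0, 1, 0, 0, 0, 0, 2],
  [1, 0, 1, 0, 0, 1, 0, 1, 1, 0, 2, 0, 0, 1, 0, 2],
  [1, 0, 1, 0, 0, 2, 0, 2, 1, 0, 2, 0, 0, 2, 0, 1],
  [1, 0, 2, 0, 0, 1, 0, 2, 2, 0, 2, 0, 0, 2, 0, 2],
  [1, 0, 2, 0, 0, 2, 0, 1, 2, 0, 2, 0, 0, 1, 0, 1],
  [2, 0, 0, 0, 0, 1, 0, 0, 0, 0, 2, 0, 0, 0, 0, 1],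
  [2, 0, 0, 0, 0, 2, 0, 0, 0, 0, 2, 0, 0, 0, 0, 2],
  [2, 0, 1, 0, 0, 1, 0, 2, 1, 0, 1, 0, 0, 2, 0, 2],
  [2, 0, 1, 0, 0, 2, 0, 1, 1, 0, 1, 0, 0, 1, 0, 1],
  [2, 0, 2, 0, 0, 1, 0, 1, 2, 0, 1, 0, 0, 1, 0, 2],
  [2, 0, 2, 0, 0, 2, 0, 2, 2, 0, 1, 0, 0, 2, 0, 1]]

/-- representatives modulo the centre -/

def L16 : List (List ℕ) := [
  [0, 0, 0, 1, 0, 0, 1, 0, 0, 2, 0, 0, 2, 0, 0, 0],
  [0, 0, 0, 1, 0, 0, 2, 0, 0, 2, 0, 0, 1, 0, 0, 0],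
  [0, 0, 1, 0, 0, 0, 0, 1, 2, 0, 0, 0, 0, 2, 0, 0],
  [0, 0, 1, 0, 0, 0, 0, 2, 2, 0, 0, 0, 0, 1, 0, 0],
  [0, 1, 0, 0, 1, 0, 0, 0, 0, 0, 0, 1, 0, 0, 1, 0],
  [0, 1, 0, 0, 2, 0, 0, 0, 0, 0, 0, 1, 0, 0, 2, 0],
  [0, 1, 0, 1, 1, 0, 1, 0, 0, 1, 0, 2, 1, 0, 2, 0],
  [0, 1, 0, 1, 2, 0, 2, 0, 0, 1, 0, 2, 2, 0, 1, 0],
  [0, 1, 0, 2, 1, 0, 2, 0, 0, 2, 0, 2, 2, 0, 2, 0],
  [0, 1, 0, 2, 2, 0, 1, 0, 0, 2, 0, 2, 1, 0, 1, 0],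
  [1, 0, 0, 0, 0, 1, 0, 0, 0, 0, 1, 0, 0, 0, 0, 1],
  [1, 0, 0, 0, 0, 2, 0, 0, 0, 0, 1, 0, 0, 0, 0, 2],
  [1, 0, 1, 0, 0, 1, 0, 1, 1, 0, 2, 0, 0, 1, 0, 2],
  [1, 0, 1, 0, 0, 2, 0, 2, 1, 0, 2, 0, 0, 2, 0, 1],
  [1, 0, 2, 0, 0, 1, 0, 2, 2, 0, 2, 0, 0, 2, 0, 2],
  [1, 0, 2, 0, 0, 2, 0, 1, 2, 0, 2, 0, 0, 1, 0, 1]]

def oneL : List ℕ := [1, 0, 0, 0, 0, 1, 0, 0, 0, 0, 1, 0, 0, 0, 0, 1]

def negL : List ℕ := [2, 0, 0, 0, 0, 2, 0, 0, 0, 0, 2, 0, 0, 0, 0, 2]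

def JL : List ℕ := [0, 0, 2, 0, 0, 0, 0, 2, 1, 0, 0, 0, 0, 1, 0, 0]

def JnegL : List ℕ := [0, 0, 1, 0, 0, 0, 0, 1, 2, 0, 0, 0, 0, 2, 0, 0]

def psiL : List ℕ := [0, 1, 0, 1, 2, 0, 2, 0, 0, 1, 0, 2, 2, 0, 1, 0]

def g1L : List ℕ := [0, 0, 0, 2, 2, 0, 2, 0, 0, 1, 0, 2, 1, 0, 0, 0]

def g1iL : List ℕ := [0, 0, 0, 1, 2, 0, 1, 0, 0, 2, 0, 2, 2, 0, 0, 0]

def g2L : List ℕ := [1, 1, 0, 0, 0, 0, 1, 2, 0, 0, 2, 2, 1, 2, 0, 0]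

def g2iL : List ℕ := [2, 0, 0, 2, 2, 0, 0, 1, 0, 2, 1, 0, 0, 1, 1, 0]

/-- the centre -/
def ZL : List (List ℕ) := [oneL, negL]

/-- the inverse of a symplectic coded matrix -/
def invSp (a : List ℕ) : List ℕ := mulL (mulL JnegL (transL a)) JL

/-- conjugation -/
def conjL (g gi a : List ℕ) : List ℕ := mulL (mulL g a) gi

/-- the coded matrix is symplectic -/
def isSpL (a : List ℕ) : Prop := mulL (mulL (transL a) JL) a = JL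

instance (a : List ℕ) : Decidable (isSpL a) := by unfold isSpL; infer_instance

theorem L32_valid : ∀ a ∈ L32, valid a := by decide +kernel

theorem L32_nodup : L32.Nodup := by decide +kernel

theorem L32_length : L32.length = 32 := by decide +kernel

theorem one_mem : oneL ∈ L32 := by decide +kernel

theorem L32_closed : ∀ a ∈ L32, ∀ b ∈ L32, mulL a b ∈ L32 := by decide +kernel

theorem L32_inv : ∀ a ∈ L32, invSp a ∈ L32 ∧ mulL a (invSp a) = oneL ∧ mulL (invSp a) a = oneL := by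
  decide +kernel

theorem L32_sp : ∀ a ∈ L32, isSpL a := by decide +kernel

theorem L32_center : ∀ a ∈ L32, (∀ b ∈ L32, mulL a b = mulL b a) → a ∈ ZL := by decide +kernel

theorem ZL_central : ∀ a ∈ ZL, ∀ b ∈ L32, mulL a b = mulL b a := by decide +kernel

theorem L32_pow_four : ∀ a ∈ L32, mulL (mulL a a) (mulL a a) = oneL := by decide +kernel

theorem JL_sq : mulL JL JL = negL := by decide +kernel

theorem L32_minus : ∀ a ∈ L32, ∀ b ∈ L32, mulL a a = oneL → mulL b b = oneL → mulL a b = mulL b a →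
    a ∈ ZL ∨ b ∈ ZL ∨ mulL a b ∈ ZL := by decide +kernel

theorem g1_inv : mulL g1L g1iL = oneL ∧ mulL g1iL g1L = oneL := by decide +kernel

theorem g2_inv : mulL g2L g2iL = oneL ∧ mulL g2iL g2L = oneL := by decide +kernel

theorem g1_norm : ∀ a ∈ L32, conjL g1L g1iL a ∈ L32 ∧ conjL g1iL g1L a ∈ L32 := by decide +kernel

theorem g2_norm : ∀ a ∈ L32, conjL g2L g2iL a ∈ L32 ∧ conjL g2iL g2L a ∈ L32 := by decide +kernel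

theorem L32_moved : ∀ a ∈ L32, a ∉ ZL →
    mulL a (conjL g1L g1iL a) ≠ mulL (conjL g1L g1iL a) a ∨
    mulL a (conjL g2L g2iL a) ≠ mulL (conjL g2L g2iL a) a := by decide +kernel

theorem L16_trace : ∀ k : Fin 16, ∀ l : Fin 16,
    trL (mulL (L16.getD k []) (invSp (L16.getD l []))) = if k = l then 1 else 0 := by decide +kernel

theorem L16_sub : ∀ a ∈ L16, a ∈ L32 := by decide +kernel

/-- the coded matrix `[[A, -B], [B, A]]` -/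
def buildC (a00 a01 a10 a11 b00 b01 b10 b11 : ℕ) : List ℕ :=
  [a00, a01, (3 - b00) % 3, (3 - b01) % 3,
   a10, a11, (3 - b10) % 3, (3 - b11) % 3,
   b00, b01, a00, a01,
   b10, b11, a10, a11]

/-- a symplectic coded matrix normalises the group -/
def normOK (c : List ℕ) : Bool :=
  !(decide (isSpL c)) || L32.all fun r => decide (conjL c (invSp c) r ∈ L32)

/-- the entries -/
def r3 : List ℕ := [0, 1, 2]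

theorem norm_all : ∀ a00 ∈ r3, ∀ a01 ∈ r3, ∀ a10 ∈ r3, ∀ a11 ∈ r3, ∀ b00 ∈ r3, ∀ b01 ∈ r3, ∀ b10 ∈ r3,
    ∀ b11 ∈ r3, normOK (buildC a00 a01 a10 a11 b00 b01 b10 b11) = true := by decide +kernel

theorem psi_mem : psiL ∈ L32 := by decide +kernel

theorem psi_anti : mulL psiL JL = mulL JnegL psiL := by decide +kernel

end Cfsg.Agent.Lib.Helper4.MaxS.F3
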