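import Mathlib
import Cfsg.Prelude
import Cfsg.Agent.Lib.Helper4.MaxS16

set_option autoImplicit false
set_option maxHeartbeats 4000000
set_option maxRecDepth 100000
set_option linter.unusedVariables false
set_option linter.unusedSectionVars false

/-! Coded matrices of size four over a field with `3 = 0`: the dictionary with actual matrices. -/

namespace Cfsg.Agent.Lib.Helper4.MaxS.F3

open Matrix

universe u

variable {F : Type u} [Field F]

/-- the position of an index -/
def ix : Fin 2 ⊕ Fin 2 → ℕ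
  | Sum.inl i => i.val
  | Sum.inr i => 2 + i.val

theorem ix_lt (i : Fin 2 ⊕ Fin 2) : ix i < 4 := by
  rcases i with i | i
  · have := i.2; simp only [ix]; omega
  · have := i.2; simp only [ix]; omega

/-- the index at a position -/
def xi (k : ℕ) : Fin 2 ⊕ Fin 2 :=
  if k = 0 then Sum.inl 0 else if k = 1 then Sum.inl 1 else if k = 2 then Sum.inr 0 else Sum.inr 1

theorem ix_xi {k : ℕ} (hk : k < 4) : ix (xi k) = k := by
  interval_cases k <;> rfl

theorem xi_ix (i : Fin 2 ⊕ Fin 2) : xi (ix i) = i := by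
  rcases i with i | i <;> fin_cases i <;> rfl

/-- the matrix of a code -/
def toMat (F : Type u) [Field F] (l : List ℕ) : Matrix (Fin 2 ⊕ Fin 2) (Fin 2 ⊕ Fin 2) F :=
  fun i j => ((ent l (ix i) (ix j) : ℕ) : F)

theorem toMat_apply (l : List ℕ) (i j : Fin 2 ⊕ Fin 2) :
    toMat F l i j = ((ent l (ix i) (ix j) : ℕ) : F) := rfl

theorem ent_mulL (a b : List ℕ) {i j : ℕ} (hi : i < 4) (hj : j < 4) :
    ent (mulL a b) i j = mulE a b i j := by
  interval_cases i <;> interval_cases j <;> rfl

theorem ent_transL (a : List ℕ) {i j : ℕ} (hi : i < 4) (hj : j < 4) :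
    ent (transL a) i j = ent a j i := by
  interval_cases i <;> interval_cases j <;> rfl

theorem cast_mod3 (h3 : (3 : F) = 0) (x : ℕ) : ((x % 3 : ℕ) : F) = (x : F) := by
  have h := Nat.mod_add_div x 3
  have h' : ((x % 3 : ℕ) : F) + 3 * ((x / 3 : ℕ) : F) = (x : F) := by
    exact_mod_cast congrArg (Nat.cast (R := F)) h
  rw [h3, zero_mul, add_zero] at h'
  exact h'

theorem toMat_mul (h3 : (3 : F) = 0) (a b : List ℕ) :
    toMat F (mulL a b) = toMat F a * toMat F b := by
  ext i j
  rw [Matrix.mul_apply, Fintype.sum_sum_type, Fin.sum_univ_two, Fin.sum_univ_two]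
  simp only [toMat_apply]
  rw [ent_mulL a b (ix_lt i) (ix_lt j)]
  unfold mulE
  rw [cast_mod3 h3]
  push_cast
  have e0 : ix (Sum.inl 0) = 0 := rfl
  have e1 : ix (Sum.inl 1) = 1 := rfl
  have e2 : ix (Sum.inr 0) = 2 := rfl
  have e3 : ix (Sum.inr 1) = 3 := rfl
  rw [e0, e1, e2, e3]
  ring

theorem toMat_trans (a : List ℕ) : toMat F (transL a) = (toMat F a)ᵀ := by
  ext i j
  rw [Matrix.transpose_apply, toMat_apply, toMat_apply, ent_transL a (ix_lt i) (ix_lt j)]

theorem toMat_trace (h3 : (3 : F) = 0) (a : List ℕ) :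
    Matrix.trace (toMat F a) = ((trL a : ℕ) : F) := by
  unfold Matrix.trace trL
  rw [Fintype.sum_sum_type, Fin.sum_univ_two, Fin.sum_univ_two, cast_mod3 h3]
  simp only [Matrix.diag_apply, toMat_apply]
  push_cast
  have e0 : ix (Sum.inl 0) = 0 := rfl
  have e1 : ix (Sum.inl 1) = 1 := rfl
  have e2 : ix (Sum.inr 0) = 2 := rfl
  have e3 : ix (Sum.inr 1) = 3 := rfl
  rw [e0, e1, e2, e3]
  ring

theorem two_eq_neg_one (h3 : (3 : F) = 0) : (2 : F) = -1 := by linear_combination h3

theorem toMat_one : toMat F oneL = 1 := by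
  ext i j
  rcases i with i | i <;> rcases j with j | j <;> fin_cases i <;> fin_cases j <;>
    simp [toMat_apply, ent, oneL, ix]

theorem toMat_neg (h3 : (3 : F) = 0) : toMat F negL = -1 := by
  ext i j
  rcases i with i | i <;> rcases j with j | j <;> fin_cases i <;> fin_cases j <;>
    simp [toMat_apply, ent, negL, ix, two_eq_neg_one h3]

theorem toMat_J (h3 : (3 : F) = 0) : toMat F JL = Matrix.J (Fin 2) F := by
  ext i j
  rcases i with i | i <;> rcases j with j | j <;> fin_cases i <;> fin_cases j <;>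
    simp [toMat_apply, ent, JL, ix, Matrix.J, two_eq_neg_one h3]

theorem toMat_Jneg (h3 : (3 : F) = 0) : toMat F JnegL = -Matrix.J (Fin 2) F := by
  ext i j
  rcases i with i | i <;> rcases j with j | j <;> fin_cases i <;> fin_cases j <;>
    simp [toMat_apply, ent, JnegL, ix, Matrix.J, two_eq_neg_one h3]

theorem ent_lt {l : List ℕ} (hl : ∀ x ∈ l, x < 3) (i j : ℕ) : ent l i j < 3 := by
  unfold ent
  by_cases h : 4 * i + j < l.length
  · rw [List.getD_eq_getElem _ _ h]
    exact hl _ (List.getElem_mem h)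
  · rw [List.getD_eq_default _ _ (not_lt.mp h)]
    norm_num

theorem valid_mulL (a b : List ℕ) : valid (mulL a b) := by
  refine ⟨rfl, ?_⟩
  intro x hx
  simp only [mulL, List.mem_cons, List.not_mem_nil, or_false] at hx
  rcases hx with rfl | rfl | rfl | rfl | rfl | rfl | rfl | rfl | rfl | rfl | rfl | rfl | rfl | rfl |
    rfl | rfl <;> exact Nat.mod_lt _ (by norm_num)

theorem cast_inj3 (h3 : (3 : F) = 0) {x y : ℕ} (hx : x < 3) (hy : y < 3) (h : (x : F) = (y : F)) :
    x = y := by
  have h2 : (2 : F) ≠ 0 := by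
    intro h2
    have : (1 : F) = 0 := by linear_combination h3 - h2
    exact one_ne_zero this
  have h1 : (1 : F) ≠ 0 := one_ne_zero
  interval_cases x <;> interval_cases y
  · rfl
  · exfalso; simp at h
  · exfalso; push_cast at h; exact h2 h.symm
  · exfalso; simp at h
  · rfl
  · exfalso; push_cast at h; apply h1; linear_combination (-1 : F) * h
  · exfalso; push_cast at h; exact h2 h
  · exfalso; push_cast at h; apply h1; linear_combination h
  · rfl

theorem toMat_injective (h3 : (3 : F) = 0) {a b : List ℕ} (ha : valid a) (hb : valid b)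
    (h : toMat F a = toMat F b) : a = b := by
  apply List.ext_getElem (by rw [ha.1, hb.1])
  intro k h1 h2
  have hk : k < 16 := by rw [ha.1] at h1; exact h1
  have hi : k / 4 < 4 := by omega
  have hj : k % 4 < 4 := by omega
  have hk' : 4 * (k / 4) + k % 4 = k := by omega
  have h4 := congrFun (congrFun h (xi (k / 4))) (xi (k % 4))
  rw [toMat_apply, toMat_apply, ix_xi hi, ix_xi hj] at h4
  have h5 := cast_inj3 h3 (ent_lt ha.2 _ _) (ent_lt hb.2 _ _) h4
  unfold ent at h5
  rw [hk', List.getD_eq_getElem _ _ h1, List.getD_eq_getElem _ _ h2] at h5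
  exact h5

end Cfsg.Agent.Lib.Helper4.MaxS.F3
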