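import Mathlib
import Cfsg.Prelude
import Cfsg.Agent.Lib.Helper4.MaxS15
import Cfsg.Agent.Lib.Helper4.MaxS17
import Cfsg.Agent.Lib.Helper8.AschB3

set_option autoImplicit false
set_option maxHeartbeats 4000000
set_option maxRecDepth 100000
set_option linter.unusedVariables false
set_option linter.unusedSectionVars false
set_option linter.style.haveILetI false
set_option linter.deprecated false

/-! The extraspecial group `2_-^{1+4}` in the symplectic group of dimension four over the field with three elements,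
relative to a change of basis `P`: its order, centre, exponent, type, and absolute irreducibility. -/

namespace Cfsg.Agent.Lib.Helper4.MaxS.F3

open Matrix Cfsg Cfsg.Geo Module

universe u

variable {F : Type u} [Field F]

local notation "GL4" => Matrix.GeneralLinearGroup (Fin 2 ⊕ Fin 2) F
local notation "Mat4" => Matrix (Fin 2 ⊕ Fin 2) (Fin 2 ⊕ Fin 2) F

/-- the matrix of a code in the basis given by `P` -/
def tau (P : GL4) (c : List ℕ) : Mat4 := (P : Mat4) * toMat F c * ((P⁻¹ : GL4) : Mat4)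

theorem tau_mul (h3 : (3 : F) = 0) (P : GL4) (a b : List ℕ) :
    tau P (mulL a b) = tau P a * tau P b := by
  unfold tau
  rw [toMat_mul h3]
  have : ((P⁻¹ : GL4) : Mat4) * (P : Mat4) = 1 := by rw [← Units.val_mul, inv_mul_cancel, Units.val_one]
  have e : (P : Mat4) * toMat F a * ((P⁻¹ : GL4) : Mat4) * ((P : Mat4) * toMat F b * ((P⁻¹ : GL4) : Mat4)) =
      (P : Mat4) * toMat F a * (((P⁻¹ : GL4) : Mat4) * (P : Mat4)) * toMat F b * ((P⁻¹ : GL4) : Mat4) := by
    simp only [Matrix.mul_assoc]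
  rw [e, this, Matrix.mul_one]
  simp only [Matrix.mul_assoc]

theorem tau_one (P : GL4) : tau P oneL = (1 : Mat4) := by
  unfold tau
  rw [toMat_one, Matrix.mul_one, ← Units.val_mul, mul_inv_cancel, Units.val_one]

theorem tau_injective (h3 : (3 : F) = 0) (P : GL4) {a b : List ℕ} (ha : valid a) (hb : valid b)
    (h : tau P a = tau P b) : a = b := by
  apply toMat_injective h3 ha hb
  unfold tau at h
  have h1 : ((P⁻¹ : GL4) : Mat4) * ((P : Mat4) * toMat F a * ((P⁻¹ : GL4) : Mat4)) * (P : Mat4) =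
      ((P⁻¹ : GL4) : Mat4) * ((P : Mat4) * toMat F b * ((P⁻¹ : GL4) : Mat4)) * (P : Mat4) := by rw [h]
  have e1 : ((P⁻¹ : GL4) : Mat4) * (P : Mat4) = 1 := by rw [← Units.val_mul, inv_mul_cancel, Units.val_one]
  have e2 : ∀ M : Mat4, ((P⁻¹ : GL4) : Mat4) * ((P : Mat4) * M * ((P⁻¹ : GL4) : Mat4)) * (P : Mat4) = M := by
    intro M
    calc ((P⁻¹ : GL4) : Mat4) * ((P : Mat4) * M * ((P⁻¹ : GL4) : Mat4)) * (P : Mat4)
        = (((P⁻¹ : GL4) : Mat4) * (P : Mat4)) * M * (((P⁻¹ : GL4) : Mat4) * (P : Mat4)) := by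
          simp only [Matrix.mul_assoc]
      _ = M := by rw [e1, Matrix.one_mul, Matrix.mul_one]
  rw [e2, e2] at h1
  exact h1

theorem tau_trace (h3 : (3 : F) = 0) (P : GL4) (a : List ℕ) :
    Matrix.trace (tau P a) = ((trL a : ℕ) : F) := by
  unfold tau
  rw [Matrix.trace_mul_cycle, ← Units.val_mul, inv_mul_cancel, Units.val_one, Matrix.one_mul,
    toMat_trace h3]

/-- the invertible matrix of a code with a given inverse -/
def gE (h3 : (3 : F) = 0) (P : GL4) (c ci : List ℕ) (h : mulL c ci = oneL ∧ mulL ci c = oneL) : GL4 where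
  val := tau P c
  inv := tau P ci
  val_inv := by rw [← tau_mul h3, h.1, tau_one]
  inv_val := by rw [← tau_mul h3, h.2, tau_one]

theorem gE_val (h3 : (3 : F) = 0) (P : GL4) (c ci : List ℕ) (h : mulL c ci = oneL ∧ mulL ci c = oneL) :
    (gE h3 P c ci h : Mat4) = tau P c := rfl

theorem gE_inv_val (h3 : (3 : F) = 0) (P : GL4) (c ci : List ℕ)
    (h : mulL c ci = oneL ∧ mulL ci c = oneL) :
    (((gE h3 P c ci h)⁻¹ : GL4) : Mat4) = tau P ci := rfl

/-- the group -/
def RR (h3 : (3 : F) = 0) (P : GL4) : Subgroup GL4 where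
  carrier := {g | ∃ c ∈ L32, (g : Mat4) = tau P c}
  mul_mem' := by
    rintro g g' ⟨c, hc, hg⟩ ⟨c', hc', hg'⟩
    exact ⟨mulL c c', L32_closed c hc c' hc', by rw [Units.val_mul, hg, hg', tau_mul h3]⟩
  one_mem' := ⟨oneL, one_mem, by rw [tau_one]; rfl⟩
  inv_mem' := by
    rintro g ⟨c, hc, hg⟩
    obtain ⟨hi, h1, h2⟩ := L32_inv c hc
    refine ⟨invSp c, hi, ?_⟩
    apply Units.inv_eq_of_mul_eq_one_right
    rw [hg, ← tau_mul h3, h1, tau_one]

theorem mem_RR (h3 : (3 : F) = 0) (P : GL4) (g : GL4) :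
    g ∈ RR h3 P ↔ ∃ c ∈ L32, (g : Mat4) = tau P c := Iff.rfl

/-- the element of the group with a given code -/
def el (h3 : (3 : F) = 0) (P : GL4) (c : List ℕ) (hc : c ∈ L32) : RR h3 P :=
  ⟨gE h3 P c (invSp c) ⟨(L32_inv c hc).2.1, (L32_inv c hc).2.2⟩, c, hc, rfl⟩

theorem el_val (h3 : (3 : F) = 0) (P : GL4) (c : List ℕ) (hc : c ∈ L32) :
    ((el h3 P c hc : GL4) : Mat4) = tau P c := rfl

theorem exists_el (h3 : (3 : F) = 0) (P : GL4) (x : RR h3 P) : ∃ c, ∃ hc : c ∈ L32, x = el h3 P c hc := by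
  obtain ⟨c, hc, h⟩ := x.2
  refine ⟨c, hc, ?_⟩
  apply Subtype.ext
  apply Units.ext
  rw [h, el_val]

theorem el_injective (h3 : (3 : F) = 0) (P : GL4) {c c' : List ℕ} (hc : c ∈ L32) (hc' : c' ∈ L32)
    (h : el h3 P c hc = el h3 P c' hc') : c = c' := by
  apply tau_injective h3 P (L32_valid c hc) (L32_valid c' hc')
  have := congrArg (fun x : RR h3 P => ((x : GL4) : Mat4)) h
  exact this

theorem el_mul (h3 : (3 : F) = 0) (P : GL4) {c c' : List ℕ} (hc : c ∈ L32) (hc' : c' ∈ L32) :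
    el h3 P c hc * el h3 P c' hc' = el h3 P (mulL c c') (L32_closed c hc c' hc') := by
  apply Subtype.ext
  apply Units.ext
  rw [Subgroup.coe_mul, Units.val_mul, el_val, el_val, el_val, tau_mul h3]

theorem el_one (h3 : (3 : F) = 0) (P : GL4) : el h3 P oneL one_mem = 1 := by
  apply Subtype.ext
  apply Units.ext
  rw [el_val, tau_one]
  rfl

theorem card_RR (h3 : (3 : F) = 0) (P : GL4) : Nat.card (RR h3 P) = 32 := by
  classical
  have hbij : Function.Bijective (fun c : {c // c ∈ L32.toFinset} =>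
      el h3 P c.1 (List.mem_toFinset.mp c.2)) := by
    constructor
    · intro c c' h
      exact Subtype.ext (el_injective h3 P _ _ h)
    · intro x
      obtain ⟨c, hc, rfl⟩ := exists_el h3 P x
      exact ⟨⟨c, List.mem_toFinset.mpr hc⟩, rfl⟩
  rw [← Nat.card_congr (Equiv.ofBijective _ hbij), Nat.card_eq_fintype_card, Fintype.card_coe,
    List.toFinset_card_of_nodup L32_nodup, L32_length]

theorem negL_mem : negL ∈ L32 := by decide +kernel

theorem JL_mem : JL ∈ L32 := by decide +kernel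

theorem oneL_ne_negL : oneL ≠ negL := by decide +kernel

theorem mem_ZL {a : List ℕ} (h : a ∈ ZL) : a = oneL ∨ a = negL := by
  simpa [ZL] using h

/-- the central involution -/
def zz (h3 : (3 : F) = 0) (P : GL4) : RR h3 P := el h3 P negL negL_mem

theorem zz_ne_one (h3 : (3 : F) = 0) (P : GL4) : zz h3 P ≠ 1 := by
  intro h
  rw [← el_one h3 P] at h
  exact oneL_ne_negL (el_injective h3 P _ _ h).symm

theorem zz_mul_self (h3 : (3 : F) = 0) (P : GL4) : zz h3 P * zz h3 P = 1 := by
  unfold zz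
  rw [el_mul, ← el_one h3 P]
  congr 1

theorem commute_iff (h3 : (3 : F) = 0) (P : GL4) {c c' : List ℕ} (hc : c ∈ L32) (hc' : c' ∈ L32) :
    el h3 P c hc * el h3 P c' hc' = el h3 P c' hc' * el h3 P c hc ↔ mulL c c' = mulL c' c := by
  rw [el_mul, el_mul]
  constructor
  · intro h
    exact el_injective h3 P _ _ h
  · intro h
    congr 1

theorem mem_center_iff (h3 : (3 : F) = 0) (P : GL4) (x : RR h3 P) :
    x ∈ Subgroup.center (RR h3 P) ↔ x = 1 ∨ x = zz h3 P := by
  obtain ⟨c, hc, rfl⟩ := exists_el h3 P x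
  rw [Subgroup.mem_center_iff]
  constructor
  · intro h
    have h1 : c ∈ ZL := by
      apply L32_center c hc
      intro b hb
      exact (commute_iff h3 P hc hb).1 (h (el h3 P b hb)).symm
    rcases mem_ZL h1 with rfl | rfl
    · left; exact el_one h3 P
    · right; rfl
  · intro h y
    obtain ⟨b, hb, rfl⟩ := exists_el h3 P y
    have h1 : c ∈ ZL := by
      rcases h with h | h
      · rw [← el_one h3 P] at h
        rw [el_injective h3 P _ _ h]
        simp [ZL]
      · rw [el_injective h3 P _ _ h]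
        simp [ZL]
    exact ((commute_iff h3 P hc hb).2 (ZL_central c h1 b hb)).symm

theorem card_center (h3 : (3 : F) = 0) (P : GL4) : Nat.card (Subgroup.center (RR h3 P)) = 2 := by
  rw [Nat.card_eq_two_iff]
  refine ⟨⟨1, Subgroup.one_mem _⟩, ⟨zz h3 P, (mem_center_iff h3 P _).2 (Or.inr rfl)⟩, ?_, ?_⟩
  · intro h
    exact zz_ne_one h3 P (congrArg Subtype.val h).symm
  · ext ⟨x, hx⟩
    simp only [Set.mem_insert_iff, Set.mem_singleton_iff, Set.mem_univ, iff_true, Subtype.mk.injEq]
    exact (mem_center_iff h3 P x).1 hx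

theorem isPGroup_RR (h3 : (3 : F) = 0) (P : GL4) : IsPGroup 2 (RR h3 P) :=
  IsPGroup.of_card (n := 5) (by rw [card_RR]; norm_num)

theorem pow_four (h3 : (3 : F) = 0) (P : GL4) (x : RR h3 P) : x ^ 4 = 1 := by
  obtain ⟨c, hc, rfl⟩ := exists_el h3 P x
  have h4 : (el h3 P c hc) ^ 4 = (el h3 P c hc * el h3 P c hc) * (el h3 P c hc * el h3 P c hc) := by
    rw [show (4 : ℕ) = 2 + 2 from rfl, pow_add, pow_two]
  rw [h4, el_mul, el_mul, ← el_one h3 P]
  congr 1
  exact L32_pow_four c hc

theorem exponent_RR (h3 : (3 : F) = 0) (P : GL4) : Monoid.exponent (RR h3 P) = 2 * Nat.gcd 2 2 := by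
  have hdvd : Monoid.exponent (RR h3 P) ∣ 4 := Monoid.exponent_dvd_of_forall_pow_eq_one (pow_four h3 P)
  have hJ : (el h3 P JL JL_mem) ^ 2 ≠ 1 := by
    rw [pow_two, el_mul, ← el_one h3 P]
    intro h
    have := el_injective h3 P _ _ h
    rw [JL_sq] at this
    exact oneL_ne_negL this.symm
  have hpow := Monoid.pow_exponent_eq_one (el h3 P JL JL_mem)
  have h4 : (4 : ℕ) = 2 ^ 2 := by norm_num
  rw [h4] at hdvd
  obtain ⟨k, hk, hek⟩ := (Nat.dvd_prime_pow Nat.prime_two).1 hdvd
  have hgcd : 2 * Nat.gcd 2 2 = 4 := by norm_num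
  rw [hgcd]
  interval_cases k
  · exfalso
    rw [hek, pow_zero, pow_one] at hpow
    apply hJ
    rw [hpow, one_pow]
  · exfalso
    rw [hek, pow_one] at hpow
    exact hJ hpow
  · rw [hek]
    norm_num

/-- conjugation by an element normalising the group -/
def conjEquiv {R : Subgroup GL4} (G : GL4) (h1 : ∀ x ∈ R, G * x * G⁻¹ ∈ R)
    (h2 : ∀ x ∈ R, G⁻¹ * x * G ∈ R) : R ≃* R where
  toFun x := ⟨G * x * G⁻¹, h1 x x.2⟩
  invFun x := ⟨G⁻¹ * x * G, h2 x x.2⟩
  left_inv x := by
    apply Subtype.ext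
    show G⁻¹ * (G * x * G⁻¹) * G = x
    group
  right_inv x := by
    apply Subtype.ext
    show G * (G⁻¹ * x * G) * G⁻¹ = x
    group
  map_mul' x y := by
    apply Subtype.ext
    show G * (x * y) * G⁻¹ = (G * x * G⁻¹) * (G * y * G⁻¹)
    group

theorem conj_mem (h3 : (3 : F) = 0) (P : GL4) (g gi : List ℕ) (hg : mulL g gi = oneL ∧ mulL gi g = oneL)
    (hn : ∀ a ∈ L32, conjL g gi a ∈ L32) (x : GL4) (hx : x ∈ RR h3 P) :
    gE h3 P g gi hg * x * (gE h3 P g gi hg)⁻¹ ∈ RR h3 P := by
  obtain ⟨c, hc, hxc⟩ := hx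
  refine ⟨conjL g gi c, hn c hc, ?_⟩
  rw [Units.val_mul, Units.val_mul, gE_val, gE_inv_val, hxc]
  unfold conjL
  rw [tau_mul h3, tau_mul h3]

theorem conj_mem' (h3 : (3 : F) = 0) (P : GL4) (g gi : List ℕ) (hg : mulL g gi = oneL ∧ mulL gi g = oneL)
    (hn : ∀ a ∈ L32, conjL gi g a ∈ L32) (x : GL4) (hx : x ∈ RR h3 P) :
    (gE h3 P g gi hg)⁻¹ * x * gE h3 P g gi hg ∈ RR h3 P := by
  obtain ⟨c, hc, hxc⟩ := hx
  refine ⟨conjL gi g c, hn c hc, ?_⟩
  rw [Units.val_mul, Units.val_mul, gE_val, gE_inv_val, hxc]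
  unfold conjL
  rw [tau_mul h3, tau_mul h3]

/-- the two automorphisms -/
def phi1 (h3 : (3 : F) = 0) (P : GL4) : RR h3 P ≃* RR h3 P :=
  conjEquiv (gE h3 P g1L g1iL g1_inv) (conj_mem h3 P g1L g1iL g1_inv fun a ha => (g1_norm a ha).1)
    (conj_mem' h3 P g1L g1iL g1_inv fun a ha => (g1_norm a ha).2)

def phi2 (h3 : (3 : F) = 0) (P : GL4) : RR h3 P ≃* RR h3 P :=
  conjEquiv (gE h3 P g2L g2iL g2_inv) (conj_mem h3 P g2L g2iL g2_inv fun a ha => (g2_norm a ha).1)
    (conj_mem' h3 P g2L g2iL g2_inv fun a ha => (g2_norm a ha).2)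

theorem phi1_el (h3 : (3 : F) = 0) (P : GL4) {c : List ℕ} (hc : c ∈ L32) :
    phi1 h3 P (el h3 P c hc) = el h3 P (conjL g1L g1iL c) (g1_norm c hc).1 := by
  apply Subtype.ext
  apply Units.ext
  show ((gE h3 P g1L g1iL g1_inv * (el h3 P c hc : GL4) * (gE h3 P g1L g1iL g1_inv)⁻¹ : GL4) : Mat4) = _
  rw [Units.val_mul, Units.val_mul, gE_val, gE_inv_val, el_val, el_val]
  unfold conjL
  rw [tau_mul h3, tau_mul h3]

theorem phi2_el (h3 : (3 : F) = 0) (P : GL4) {c : List ℕ} (hc : c ∈ L32) :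
    phi2 h3 P (el h3 P c hc) = el h3 P (conjL g2L g2iL c) (g2_norm c hc).1 := by
  apply Subtype.ext
  apply Units.ext
  show ((gE h3 P g2L g2iL g2_inv * (el h3 P c hc : GL4) * (gE h3 P g2L g2iL g2_inv)⁻¹ : GL4) : Mat4) = _
  rw [Units.val_mul, Units.val_mul, gE_val, gE_inv_val, el_val, el_val]
  unfold conjL
  rw [tau_mul h3, tau_mul h3]

theorem mem_char_iff {G : Type*} [Group G] {A : Subgroup G} (hA : A.Characteristic) (φ : G ≃* G) (x : G) :
    φ x ∈ A ↔ x ∈ A := by
  have h := hA.fixed φ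
  constructor
  · intro hx
    rw [← h]
    exact hx
  · intro hx
    rw [← h] at hx
    exact hx

/-- characteristic abelian subgroups are central -/
theorem char_le (h3 : (3 : F) = 0) (P : GL4) (A : Subgroup (RR h3 P)) (hA : A.Characteristic)
    (hc : IsMulCommutative A) (x : RR h3 P) (hx : x ∈ A) : x = 1 ∨ x = zz h3 P := by
  obtain ⟨c, hcL, rfl⟩ := exists_el h3 P x
  by_cases hZ : c ∈ ZL
  · rcases mem_ZL hZ with rfl | rfl
    · left; exact el_one h3 P
    · right; rfl
  exfalso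
  have hcomm : ∀ y ∈ A, el h3 P c hcL * y = y * el h3 P c hcL := by
    intro y hy
    have := hc.is_comm.comm ⟨el h3 P c hcL, hx⟩ ⟨y, hy⟩
    exact congrArg Subtype.val this
  rcases L32_moved c hcL hZ with h | h
  · apply h
    have h1 := hcomm _ ((mem_char_iff hA (phi1 h3 P) _).2 hx)
    rw [phi1_el] at h1
    exact (commute_iff h3 P hcL _).1 h1
  · apply h
    have h1 := hcomm _ ((mem_char_iff hA (phi2 h3 P) _).2 hx)
    rw [phi2_el] at h1
    exact (commute_iff h3 P hcL _).1 h1

theorem symplecticType_RR (h3 : (3 : F) = 0) (P : GL4) : IsSymplecticTypeGroup 2 (RR h3 P) where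
  prime := Nat.prime_two
  pGroup := isPGroup_RR h3 P
  cyclic_of_characteristic := by
    intro A hA hc
    have hle : A ≤ Subgroup.zpowers (zz h3 P) := by
      intro x hx
      rcases char_le h3 P A hA hc x hx with rfl | rfl
      · exact Subgroup.one_mem _
      · exact Subgroup.mem_zpowers _
    exact Subgroup.isCyclic_of_le hle
  exponent_eq := exponent_RR h3 P

/-- minus type -/
theorem minusType_RR (h3 : (3 : F) = 0) (P : GL4) : IsOfMinusType 2 (RR h3 P) := by
  intro A hc hsq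
  have hcomm : ∀ x ∈ A, ∀ y ∈ A, x * y = y * x := by
    intro x hx y hy
    have := hc.is_comm.comm ⟨x, hx⟩ ⟨y, hy⟩
    exact congrArg Subtype.val this
  have key : ∃ S : Set (RR h3 P), S.ncard ≤ 4 ∧ S.Finite ∧ (A : Set (RR h3 P)) ⊆ S := by
    by_cases hall : ∀ x ∈ A, x = 1 ∨ x = zz h3 P
    · refine ⟨{1, zz h3 P}, ?_, Set.toFinite _, ?_⟩
      · exact (Set.ncard_insert_le _ _).trans (by rw [Set.ncard_singleton]; norm_num)
      · intro x hx
        rcases hall x hx with h | h
        · exact Or.inl h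
        · exact Or.inr h
    · push Not at hall
      obtain ⟨x₀, hx₀, hne1, hnez⟩ := hall
      refine ⟨{1, zz h3 P, x₀⁻¹, x₀⁻¹ * zz h3 P}, ?_, Set.toFinite _, ?_⟩
      · refine (Set.ncard_insert_le _ _).trans ?_
        refine Nat.succ_le_succ ((Set.ncard_insert_le _ _).trans ?_)
        refine Nat.succ_le_succ ((Set.ncard_insert_le _ _).trans ?_)
        rw [Set.ncard_singleton]
      · intro y hy
        obtain ⟨a, ha, rfl⟩ := exists_el h3 P x₀
        obtain ⟨b, hb, rfl⟩ := exists_el h3 P y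
        have haZ : a ∉ ZL := by
          intro h
          rcases mem_ZL h with rfl | rfl
          · exact hne1 (el_one h3 P)
          · exact hnez rfl
        have e1 : mulL a a = oneL := by
          have := hsq _ hx₀
          rw [el_mul, ← el_one h3 P] at this
          exact el_injective h3 P _ _ this
        have e2 : mulL b b = oneL := by
          have := hsq _ hy
          rw [el_mul, ← el_one h3 P] at this
          exact el_injective h3 P _ _ this
        have e3 : mulL a b = mulL b a := (commute_iff h3 P ha hb).1 (hcomm _ hx₀ _ hy)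
        rcases L32_minus a ha b hb e1 e2 e3 with h | h | h
        · exact absurd h haZ
        · rcases mem_ZL h with rfl | rfl
          · left; exact el_one h3 P
          · right; left; rfl
        · have hprod : el h3 P a ha * el h3 P b hb = el h3 P (mulL a b) (L32_closed a ha b hb) :=
            el_mul h3 P ha hb
          rcases mem_ZL h with h' | h'
          · right; right; left
            have : el h3 P a ha * el h3 P b hb = 1 := by
              rw [hprod, ← el_one h3 P]; congr 1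
            exact eq_inv_of_mul_eq_one_right this
          · right; right; right
            have : el h3 P a ha * el h3 P b hb = zz h3 P := by
              rw [hprod]; unfold zz; congr 1
            exact eq_inv_mul_of_mul_eq this
  obtain ⟨S, hS4, hSf, hAS⟩ := key
  have h1 : Nat.card A = (A : Set (RR h3 P)).ncard := rfl
  rw [h1]
  have h2 := Set.ncard_le_ncard hAS hSf
  have : (2 : ℕ) ^ (2 + 1) = 8 := by norm_num
  omega

end Cfsg.Agent.Lib.Helper4.MaxS.F3
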