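import Mathlib
import Cfsg.Prelude
import Cfsg.Agent.Lib.Helper4.MaxS18

set_option autoImplicit false
set_option maxHeartbeats 4000000
set_option maxRecDepth 100000
set_option linter.unusedVariables false
set_option linter.unusedSectionVars false
set_option linter.style.haveILetI false
set_option linter.deprecated false

/-! The extraspecial group `2_-^{1+4}`: absolute irreducibility, isometries, and the elements normalising it. -/

namespace Cfsg.Agent.Lib.Helper4.MaxS.F3

open Matrix Cfsg Cfsg.Geo Module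
open Cfsg.Agent.Lib.Helper5.SympTv Cfsg.Agent.Lib.Helper5.SympGen
  Cfsg.Agent.Lib.Helper5.SympBridge Cfsg.Agent.Lib.Helper5.SpCentres

universe u

variable {F : Type u} [Field F]

local notation "GL4" => Matrix.GeneralLinearGroup (Fin 2 ⊕ Fin 2) F
local notation "Mat4" => Matrix (Fin 2 ⊕ Fin 2) (Fin 2 ⊕ Fin 2) F
local notation "V4" => (Fin 2 ⊕ Fin 2 → F)

theorem L16_mem (k : Fin 16) : L16.getD k [] ∈ L32 := by
  revert k
  decide +kernel

/-- the matrices of the group span the matrix algebra -/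
theorem span_RR (h3 : (3 : F) = 0) (P : GL4) :
    Submodule.span F (Cfsg.Agent.Lib.Helper8.Asch.mset (RR h3 P)) = ⊤ := by
  classical
  set v : Fin 16 → Mat4 := fun k => tau P (L16.getD k []) with hv
  have hli : LinearIndependent F v := by
    rw [Fintype.linearIndependent_iff]
    intro g hsum l
    have h1 : Matrix.trace ((∑ k, g k • v k) * tau P (invSp (L16.getD l []))) = 0 := by
      rw [hsum, Matrix.zero_mul, Matrix.trace_zero]
    rw [Finset.sum_mul, Matrix.trace_sum] at h1
    have h2 : ∀ k : Fin 16, Matrix.trace (g k • v k * tau P (invSp (L16.getD l []))) =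
        if k = l then g k else 0 := by
      intro k
      rw [Matrix.smul_mul, Matrix.trace_smul, hv]
      simp only
      rw [← tau_mul h3, tau_trace h3, L16_trace k l]
      split_ifs
      · rw [Nat.cast_one, smul_eq_mul, mul_one]
      · rw [Nat.cast_zero, smul_eq_mul, mul_zero]
    rw [Finset.sum_congr rfl (fun k _ => h2 k), Finset.sum_ite_eq' Finset.univ l] at h1
    simpa using h1
  have hcard : Fintype.card (Fin 16) = finrank F Mat4 := by
    rw [Module.finrank_matrix, Module.finrank_self]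
    simp
  have hspan := hli.span_eq_top_of_card_eq_finrank' hcard
  rw [eq_top_iff, ← hspan]
  apply Submodule.span_mono
  rintro _ ⟨k, rfl⟩
  exact ⟨(el h3 P _ (L16_mem k) : GL4), (el h3 P _ (L16_mem k)).2, rfl⟩

theorem absIrred_RR (h3 : (3 : F) = 0) (P : GL4) : ActsAbsolutelyIrreducibly (matrixSet (RR h3 P)) :=
  Cfsg.Agent.Lib.Helper8.Asch.absIrred_of_span _ (span_RR h3 P)

/-- a symplectic code gives an isometry -/
theorem toMat_symp (h3 : (3 : F) = 0) {c : List ℕ} (hc : isSpL c) :
    toMat F c ∈ symplecticGroup (Fin 2) F := by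
  rw [SymplecticGroup.mem_iff']
  unfold isSpL at hc
  have := congrArg (toMat F) hc
  rw [toMat_mul h3, toMat_mul h3, toMat_trans, toMat_J h3] at this
  exact this

theorem tau_form (h3 : (3 : F) = 0) {P : GL4} (hP : P ∈ spGL 2 F) {c : List ℕ} (hc : isSpL c)
    (u v : V4) : sympForm 2 F (tau P c *ᵥ u) (tau P c *ᵥ v) = sympForm 2 F u v := by
  unfold tau
  have hPi : (P⁻¹ : GL4) ∈ spGL 2 F := (spGL 2 F).inv_mem hP
  rw [← Matrix.mulVec_mulVec, ← Matrix.mulVec_mulVec, ← Matrix.mulVec_mulVec, ← Matrix.mulVec_mulVec,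
    (mem_spGL_iff 2 P).1 hP, sympForm_mulVec 2 (toMat_symp h3 hc), (mem_spGL_iff 2 _).1 hPi]

theorem RR_le_sp (h3 : (3 : F) = 0) {P : GL4} (hP : P ∈ spGL 2 F) : RR h3 P ≤ spGL 2 F := by
  rintro g ⟨c, hc, hg⟩
  rw [mem_spGL_iff]
  intro u v
  rw [hg]
  exact tau_form h3 hP (L32_sp c hc) u v

theorem sp_le_sim : spGL 2 F ≤ similarityGroup (sympForm 2 F) := by
  intro g hg
  refine ⟨1, fun u v => ?_⟩
  rw [Units.val_one, one_mul]
  exact (mem_spGL_iff 2 g).1 hg u v

theorem RR_le_sim (h3 : (3 : F) = 0) {P : GL4} (hP : P ∈ spGL 2 F) :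
    RR h3 P ≤ similarityGroup (sympForm 2 F) := (RR_le_sp h3 hP).trans sp_le_sim

section card3

variable [Fintype F] (hq : Fintype.card F = 3)

/-- the natural number of an element of the field with three elements -/
noncomputable def nat3 (x : F) : ℕ := by
  classical
  exact if x = 0 then 0 else if x = 1 then 1 else 2

theorem nat3_lt (x : F) : nat3 x < 3 := by
  unfold nat3
  split_ifs <;> norm_num

theorem nat3_mem (x : F) : nat3 x ∈ r3 := by
  have := nat3_lt x
  unfold r3
  interval_cases h : nat3 x <;> simp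

include hq in
theorem cast_nat3 (x : F) : ((nat3 x : ℕ) : F) = x := by
  have h3 := three_eq_zero3 hq
  unfold nat3
  rcases cases3 hq x with rfl | rfl | rfl
  · simp
  · simp
  · have h10 : (-1 : F) ≠ 0 := neg_ne_zero.mpr one_ne_zero
    have h11 : (-1 : F) ≠ 1 := by
      intro h
      have : (2 : F) = 0 := by linear_combination -h
      exact two_ne_zero3 hq this
    rw [if_neg h10, if_neg h11]
    push_cast
    linear_combination h3

include hq in
theorem cast_neg3 (n : ℕ) (hn : n < 3) : (((3 - n) % 3 : ℕ) : F) = -(n : F) := by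
  have h3 := three_eq_zero3 hq
  rw [cast_mod3 h3, Nat.cast_sub hn.le]
  push_cast
  linear_combination h3

/-- the code of a matrix commuting with `J` -/
noncomputable def codeC (M : Mat4) : List ℕ :=
  buildC (nat3 (M (Sum.inl 0) (Sum.inl 0))) (nat3 (M (Sum.inl 0) (Sum.inl 1)))
    (nat3 (M (Sum.inl 1) (Sum.inl 0))) (nat3 (M (Sum.inl 1) (Sum.inl 1)))
    (nat3 (M (Sum.inr 0) (Sum.inl 0))) (nat3 (M (Sum.inr 0) (Sum.inl 1)))
    (nat3 (M (Sum.inr 1) (Sum.inl 0))) (nat3 (M (Sum.inr 1) (Sum.inl 1)))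

theorem valid_codeC (M : Mat4) : valid (codeC M) := by
  refine ⟨rfl, ?_⟩
  intro x hx
  simp only [codeC, buildC, List.mem_cons, List.not_mem_nil, or_false] at hx
  rcases hx with rfl | rfl | rfl | rfl | rfl | rfl | rfl | rfl | rfl | rfl | rfl | rfl | rfl | rfl |
    rfl | rfl <;> first | exact nat3_lt _ | exact Nat.mod_lt _ (by norm_num)

/-- the block shape of a matrix commuting with `J` -/
theorem block_of_commute {M : Mat4} (h : M * Matrix.J (Fin 2) F = Matrix.J (Fin 2) F * M) (i j : Fin 2) :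
    M (Sum.inl i) (Sum.inr j) = -M (Sum.inr i) (Sum.inl j) ∧
    M (Sum.inr i) (Sum.inr j) = M (Sum.inl i) (Sum.inl j) := by
  have h1 := congrFun (congrFun h (Sum.inl i)) (Sum.inl j)
  have h2 := congrFun (congrFun h (Sum.inr i)) (Sum.inl j)
  simp only [Matrix.mul_apply, Fintype.sum_sum_type, Matrix.J, Matrix.fromBlocks_apply₁₁,
    Matrix.fromBlocks_apply₁₂, Matrix.fromBlocks_apply₂₁, Matrix.fromBlocks_apply₂₂, Matrix.zero_apply,
    Matrix.neg_apply, Matrix.one_apply, mul_zero, zero_mul, Finset.sum_const_zero, zero_add, add_zero,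
    mul_ite, mul_one, ite_mul, one_mul, neg_mul, Finset.sum_ite_eq, Finset.sum_ite_eq',
    Finset.mem_univ, if_true, Finset.sum_neg_distrib] at h1 h2
  exact ⟨h1, h2⟩

include hq in
theorem toMat_codeC {M : Mat4} (h : M * Matrix.J (Fin 2) F = Matrix.J (Fin 2) F * M) :
    toMat F (codeC M) = M := by
  have hc := cast_nat3 hq
  have hn := fun x : F => cast_neg3 hq (nat3 x) (nat3_lt x)
  have hb := block_of_commute h
  ext i j
  rcases i with i | i <;> rcases j with j | j <;> fin_cases i <;> fin_cases j <;>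
    simp only [toMat_apply, ent, codeC, buildC, ix, Fin.val_zero, Fin.val_one, Fin.zero_eta, Fin.mk_one,
      Fin.isValue, List.getD_cons_zero, List.getD_cons_succ, Nat.reduceMul, Nat.reduceAdd, hc, hn,
      (hb _ _).1, (hb _ _).2]

end card3

end Cfsg.Agent.Lib.Helper4.MaxS.F3
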