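import Mathlib
import Cfsg.Prelude
import Cfsg.Agent.Lib.Helper4.MaxS19

set_option autoImplicit false
set_option maxHeartbeats 4000000
set_option maxRecDepth 100000
set_option linter.unusedVariables false
set_option linter.unusedSectionVars false
set_option linter.style.haveILetI false
set_option linter.deprecated false

/-! The isometries commuting or anticommuting with the standard complex structure normalise `2_-^{1+4}`. -/

namespace Cfsg.Agent.Lib.Helper4.MaxS.F3

open Matrix Cfsg Cfsg.Geo Module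
open Cfsg.Agent.Lib.Helper5.SympTv Cfsg.Agent.Lib.Helper5.SympGen
  Cfsg.Agent.Lib.Helper5.SympBridge Cfsg.Agent.Lib.Helper5.SpCentres

universe u

variable {F : Type u} [Field F] [Fintype F] (hq : Fintype.card F = 3)

local notation "GL4" => Matrix.GeneralLinearGroup (Fin 2 ⊕ Fin 2) F
local notation "Mat4" => Matrix (Fin 2 ⊕ Fin 2) (Fin 2 ⊕ Fin 2) F
local notation "V4" => (Fin 2 ⊕ Fin 2 → F)
local notation "J4" => Matrix.J (Fin 2) F

theorem valid_JL : valid JL := by decide +kernel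

theorem normOK_spec {c : List ℕ} (h : normOK c = true) (hc : isSpL c) :
    ∀ r ∈ L32, conjL c (invSp c) r ∈ L32 := by
  unfold normOK at h
  rw [Bool.or_eq_true] at h
  rcases h with h | h
  · rw [Bool.not_eq_true', decide_eq_false_iff_not] at h
    exact absurd hc h
  · rw [List.all_eq_true] at h
    intro r hr
    exact of_decide_eq_true (h r hr)

include hq in
theorem conj_mem_of_commute {P : GL4} (hP : P ∈ spGL 2 F) {h : GL4} (hh : h ∈ spGL 2 F)
    (hcomm : ((P⁻¹ * h * P : GL4) : Mat4) * J4 = J4 * ((P⁻¹ * h * P : GL4) : Mat4)) :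
    ∀ x ∈ RR (three_eq_zero3 hq) P, h * x * h⁻¹ ∈ RR (three_eq_zero3 hq) P := by
  have h3 := three_eq_zero3 hq
  set h' : GL4 := P⁻¹ * h * P with hh'
  set M : Mat4 := (h' : Mat4) with hM
  have hh'S : h' ∈ spGL 2 F :=
    (spGL 2 F).mul_mem ((spGL 2 F).mul_mem ((spGL 2 F).inv_mem hP) hh) hP
  have hMS : M ∈ symplecticGroup (Fin 2) F := (mem_symplectic_iff 2 M).2 ((mem_spGL_iff 2 h').1 hh'S)
  set c : List ℕ := codeC M with hc
  have hcM : toMat F c = M := toMat_codeC hq hcomm
  have hsp : isSpL c := by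
    unfold isSpL
    apply toMat_injective h3 (valid_mulL _ _) valid_JL
    rw [toMat_mul h3, toMat_mul h3, toMat_trans, toMat_J h3, hcM]
    exact SymplecticGroup.mem_iff'.1 hMS
  have hnorm : ∀ r ∈ L32, conjL c (invSp c) r ∈ L32 :=
    normOK_spec (norm_all _ (nat3_mem _) _ (nat3_mem _) _ (nat3_mem _) _ (nat3_mem _) _ (nat3_mem _) _
      (nat3_mem _) _ (nat3_mem _) _ (nat3_mem _)) hsp
  have e1 : ((P⁻¹ : GL4) : Mat4) * (P : Mat4) = 1 := by rw [← Units.val_mul, inv_mul_cancel, Units.val_one]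
  have htau : tau P c = (h : Mat4) := by
    unfold tau
    rw [hcM, hM, hh', ← Units.val_mul, ← Units.val_mul]
    congr 1
    group
  have hinvM : toMat F (invSp c) * M = 1 := by
    unfold invSp
    rw [toMat_mul h3, toMat_mul h3, toMat_trans, toMat_J h3, toMat_Jneg h3, hcM, Matrix.mul_assoc,
      Matrix.mul_assoc, ← Matrix.mul_assoc Mᵀ, SymplecticGroup.mem_iff'.1 hMS, Matrix.neg_mul,
      Matrix.J_squared, neg_neg]
  have htaui : tau P (invSp c) = ((h⁻¹ : GL4) : Mat4) := by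
    symm
    apply Units.inv_eq_of_mul_eq_one_left
    rw [← htau]
    unfold tau
    rw [hcM]
    calc (P : Mat4) * toMat F (invSp c) * ((P⁻¹ : GL4) : Mat4) * ((P : Mat4) * M * ((P⁻¹ : GL4) : Mat4))
        = (P : Mat4) * toMat F (invSp c) * (((P⁻¹ : GL4) : Mat4) * (P : Mat4)) * M * ((P⁻¹ : GL4) : Mat4) := by
          simp only [Matrix.mul_assoc]
      _ = (P : Mat4) * (toMat F (invSp c) * M) * ((P⁻¹ : GL4) : Mat4) := by
          rw [e1, Matrix.mul_one]; simp only [Matrix.mul_assoc]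
      _ = 1 := by rw [hinvM, Matrix.mul_one, ← Units.val_mul, mul_inv_cancel, Units.val_one]
  rintro x ⟨r, hr, hx⟩
  refine ⟨conjL c (invSp c) r, hnorm r hr, ?_⟩
  rw [Units.val_mul, Units.val_mul, hx, ← htau, ← htaui]
  unfold conjL
  rw [tau_mul h3, tau_mul h3]

theorem psi_J (h3 : (3 : F) = 0) : toMat F psiL * J4 = -(J4 * toMat F psiL) := by
  have := congrArg (toMat F) psi_anti
  rw [toMat_mul h3, toMat_mul h3, toMat_J h3, toMat_Jneg h3, Matrix.neg_mul] at this
  exact this

include hq in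
theorem conj_mem_of_anticommute {P : GL4} (hP : P ∈ spGL 2 F) {h : GL4} (hh : h ∈ spGL 2 F)
    (hanti : ((P⁻¹ * h * P : GL4) : Mat4) * J4 = -(J4 * ((P⁻¹ * h * P : GL4) : Mat4))) :
    ∀ x ∈ RR (three_eq_zero3 hq) P, h * x * h⁻¹ ∈ RR (three_eq_zero3 hq) P := by
  have h3 := three_eq_zero3 hq
  set y : GL4 := (el h3 P psiL psi_mem : GL4) with hy
  have hyR : y ∈ RR h3 P := (el h3 P psiL psi_mem).2
  have hyS : y ∈ spGL 2 F := RR_le_sp h3 hP hyR
  have hyv : (y : Mat4) = tau P psiL := rfl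
  have e1 : ((P⁻¹ : GL4) : Mat4) * (P : Mat4) = 1 := by rw [← Units.val_mul, inv_mul_cancel, Units.val_one]
  have hcomm : ((P⁻¹ * (h * y) * P : GL4) : Mat4) * J4 = J4 * ((P⁻¹ * (h * y) * P : GL4) : Mat4) := by
    have e2 : ((P⁻¹ * (h * y) * P : GL4) : Mat4) = ((P⁻¹ * h * P : GL4) : Mat4) * toMat F psiL := by
      have : (P⁻¹ * (h * y) * P : GL4) = (P⁻¹ * h * P) * (P⁻¹ * y * P) := by group
      rw [this, Units.val_mul]
      congr 1
      rw [Units.val_mul, Units.val_mul, hyv]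
      unfold tau
      calc ((P⁻¹ : GL4) : Mat4) * ((P : Mat4) * toMat F psiL * ((P⁻¹ : GL4) : Mat4)) * (P : Mat4)
          = (((P⁻¹ : GL4) : Mat4) * (P : Mat4)) * toMat F psiL * (((P⁻¹ : GL4) : Mat4) * (P : Mat4)) := by
            simp only [Matrix.mul_assoc]
        _ = toMat F psiL := by rw [e1, Matrix.one_mul, Matrix.mul_one]
    rw [e2, Matrix.mul_assoc, psi_J h3, Matrix.mul_neg, ← Matrix.mul_assoc, hanti, Matrix.neg_mul,
      neg_neg, Matrix.mul_assoc]
  have hmain := conj_mem_of_commute hq hP ((spGL 2 F).mul_mem hh hyS) hcomm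
  intro x hx
  have h1 : y⁻¹ * x * y ∈ RR h3 P :=
    (RR h3 P).mul_mem ((RR h3 P).mul_mem ((RR h3 P).inv_mem hyR) hx) hyR
  have h2 := hmain _ h1
  have h4 : h * y * (y⁻¹ * x * y) * (h * y)⁻¹ = h * x * h⁻¹ := by group
  rw [h4] at h2
  exact h2

include hq in
/-- isometries commuting or anticommuting with the complex structure normalise the group -/
theorem mem_normalizer_RR {P : GL4} (hP : P ∈ spGL 2 F) {h : GL4} (hh : h ∈ spGL 2 F)
    (hJ : ((P⁻¹ * h * P : GL4) : Mat4) * J4 = J4 * ((P⁻¹ * h * P : GL4) : Mat4) ∨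
      ((P⁻¹ * h * P : GL4) : Mat4) * J4 = -(J4 * ((P⁻¹ * h * P : GL4) : Mat4))) :
    h ∈ subgroupNormalizer (RR (three_eq_zero3 hq) P) := by
  have h3 := three_eq_zero3 hq
  have hconj : ∀ x ∈ RR h3 P, h * x * h⁻¹ ∈ RR h3 P := by
    rcases hJ with hJ | hJ
    · exact conj_mem_of_commute hq hP hh hJ
    · exact conj_mem_of_anticommute hq hP hh hJ
  haveI : Finite (RR h3 P) := Nat.finite_of_card_ne_zero (by rw [card_RR]; norm_num)
  set φ : RR h3 P → RR h3 P := fun x => ⟨h * x * h⁻¹, hconj x x.2⟩ with hφ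
  have hinj : Function.Injective φ := by
    intro x x' hxx
    have := congrArg Subtype.val hxx
    simp only [hφ] at this
    apply Subtype.ext
    exact mul_left_cancel (mul_right_cancel this)
  have hsurj := Finite.injective_iff_surjective.1 hinj
  unfold subgroupNormalizer
  rw [Subgroup.mem_normalizer_iff]
  intro n
  constructor
  · intro hn
    exact hconj n hn
  · intro hn
    obtain ⟨x, hx⟩ := hsurj ⟨h * n * h⁻¹, hn⟩
    have := congrArg Subtype.val hx
    simp only [hφ] at this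
    have hxn : (x : GL4) = n := mul_left_cancel (mul_right_cancel this)
    rw [← hxn]
    exact x.2

end Cfsg.Agent.Lib.Helper4.MaxS.F3
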