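import Mathlib
import Cfsg.Prelude
import Cfsg.Agent.Lib.Helper4.MaxS20

set_option autoImplicit false
set_option maxHeartbeats 4000000
set_option maxRecDepth 100000
set_option linter.unusedVariables false
set_option linter.unusedSectionVars false
set_option linter.style.haveILetI false
set_option linter.deprecated false

/-! Adjoints for the symplectic form, and the generator of a quadratic field closed under adjoints but not
self-adjoint, over the field with three elements. -/

namespace Cfsg.Agent.Lib.Helper4.MaxS.F3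

open Matrix Cfsg Cfsg.Geo Module
open Cfsg.Agent.Lib.Helper5.SympTv Cfsg.Agent.Lib.Helper5.SympGen
  Cfsg.Agent.Lib.Helper5.SympBridge Cfsg.Agent.Lib.Helper5.SpCentres

universe u

variable {F : Type u} [Field F] {m : ℕ}

local notation "MatV" => Matrix (Fin m ⊕ Fin m) (Fin m ⊕ Fin m) F
local notation "V" => (Fin m ⊕ Fin m → F)
local notation "JJ" => Matrix.J (Fin m) F

/-- the adjoint of a matrix for the symplectic form -/
def adj (A : MatV) : MatV := -(JJ * Aᵀ * JJ)

theorem form_adj (A : MatV) (u v : V) :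
    sympForm m F (A *ᵥ u) v = sympForm m F u (adj A *ᵥ v) := by
  unfold sympForm adj
  rw [Matrix.mulVec_mulVec, ← Matrix.vecMul_transpose A u, ← Matrix.dotProduct_mulVec,
    Matrix.mulVec_mulVec]
  congr 2
  rw [Matrix.mul_neg, ← Matrix.mul_assoc, ← Matrix.mul_assoc, Matrix.J_squared, Matrix.neg_mul,
    Matrix.neg_mul, Matrix.one_mul, neg_neg]

theorem eq_zero_of_sympForm_left (w : V) (h : ∀ u, sympForm m F u w = 0) : w = 0 := by
  apply eq_zero_of_sympForm_right m w
  intro v
  rw [sympForm_swap, h v, neg_zero]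

theorem adj_unique {A B : MatV} (h : ∀ u v, sympForm m F (A *ᵥ u) v = sympForm m F u (B *ᵥ v)) :
    B = adj A := by
  rw [Matrix.ext_iff_mulVec]
  intro v
  rw [← sub_eq_zero]
  apply eq_zero_of_sympForm_left
  intro u
  rw [sympForm_sub_right, ← h u v, form_adj, sub_self]

theorem adj_mul (A B : MatV) : adj (A * B) = adj B * adj A := by
  unfold adj
  rw [Matrix.transpose_mul, neg_mul_neg]
  have : JJ * Bᵀ * JJ * (JJ * Aᵀ * JJ) = JJ * Bᵀ * (JJ * JJ) * Aᵀ * JJ := by
    simp only [Matrix.mul_assoc]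
  rw [this, Matrix.J_squared]
  simp only [Matrix.mul_neg, Matrix.mul_one, Matrix.neg_mul, Matrix.mul_assoc]

theorem adj_adj (A : MatV) : adj (adj A) = A := by
  unfold adj
  rw [Matrix.transpose_neg, Matrix.transpose_mul, Matrix.transpose_mul, Matrix.transpose_transpose,
    Matrix.J_transpose]
  have : JJ * -(-JJ * (A * -JJ)) * JJ = -((JJ * JJ) * A * (JJ * JJ)) := by
    simp only [Matrix.mul_neg, Matrix.neg_mul, neg_neg, Matrix.mul_assoc]
  rw [this, Matrix.J_squared]
  simp

theorem adj_add (A B : MatV) : adj (A + B) = adj A + adj B := by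
  unfold adj
  rw [Matrix.transpose_add, Matrix.mul_add, Matrix.add_mul, neg_add]

theorem adj_smul (c : F) (A : MatV) : adj (c • A) = c • adj A := by
  unfold adj
  rw [Matrix.transpose_smul, Matrix.mul_smul, Matrix.smul_mul, smul_neg]

theorem adj_one : adj (1 : MatV) = 1 := by
  unfold adj
  rw [Matrix.transpose_one, Matrix.mul_one, Matrix.J_squared, neg_neg]

theorem adj_neg (A : MatV) : adj (-A) = -adj A := by
  unfold adj
  rw [Matrix.transpose_neg, Matrix.mul_neg, Matrix.neg_mul]

theorem adj_sub (A B : MatV) : adj (A - B) = adj A - adj B := by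
  rw [sub_eq_add_neg, adj_add, adj_neg, ← sub_eq_add_neg]

/-- closure under adjoints, in terms of `adj` -/
theorem adj_mem_of_closed {K : Subalgebra F MatV} (hac : IsAdjointClosedFor (sympForm m F) K) {k : MatV}
    (hk : k ∈ K) : adj k ∈ K := by
  obtain ⟨k', hk', h⟩ := hac k hk
  rw [← adj_unique h]
  exact hk'

theorem exists_not_selfAdjoint {K : Subalgebra F MatV} (hnsa : ¬ IsSelfAdjointFor (sympForm m F) K) :
    ∃ k ∈ K, adj k ≠ k := by
  by_contra hcon
  push Not at hcon
  apply hnsa
  intro k hk u v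
  rw [form_adj, hcon k hk]

section gen

variable [Fintype F] (hq : Fintype.card F = 3)

local notation "Mat4" => Matrix (Fin 2 ⊕ Fin 2) (Fin 2 ⊕ Fin 2) F

theorem smul_one_eq_zero {s : F} (h : s • (1 : Mat4) = 0) : s = 0 := by
  have := congrFun (congrFun h (Sum.inl 0)) (Sum.inl 0)
  simpa using this

/-- a quadratic field subalgebra is spanned by `1` and any non-scalar element -/
theorem mem_span_pair_of_field {K : Subalgebra F Mat4} (hK : IsFieldSubalgebra 2 K) {Jm : Mat4}
    (hJ : Jm ∈ K) (hns : ∀ c : F, Jm ≠ c • (1 : Mat4)) :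
    ∀ k ∈ K, ∃ x y : F, k = x • (1 : Mat4) + y • Jm := by
  classical
  set v : Fin 2 → K := ![1, ⟨Jm, hJ⟩] with hv
  have hli : LinearIndependent F v := by
    rw [hv, LinearIndependent.pair_iff]
    intro s t h
    have h' : s • (1 : Mat4) + t • Jm = 0 := by
      have := congrArg (Subtype.val) h
      simpa using this
    by_cases ht : t = 0
    · rw [ht, zero_smul, add_zero] at h'
      exact ⟨smul_one_eq_zero h', ht⟩
    · exfalso
      apply hns (-(s / t))
      have h2 : t • Jm = -(s • (1 : Mat4)) := eq_neg_of_add_eq_zero_right h'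
      have h3 : Jm = t⁻¹ • (t • Jm) := by rw [smul_smul, inv_mul_cancel₀ ht, one_smul]
      rw [h3, h2, smul_neg, smul_smul, neg_smul, div_eq_inv_mul]
  have hcard : Fintype.card (Fin 2) = finrank F K := by rw [Fintype.card_fin, hK.finrank_eq]
  have hspan := hli.span_eq_top_of_card_eq_finrank' hcard
  intro k hk
  have hmem : (⟨k, hk⟩ : K) ∈ Submodule.span F (Set.range v) := by rw [hspan]; trivial
  obtain ⟨c, hc⟩ := (Submodule.mem_span_range_iff_exists_fun F).1 hmem
  rw [Fin.sum_univ_two] at hc
  refine ⟨c 0, c 1, ?_⟩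
  have := congrArg (Subtype.val) hc
  simp only [hv] at this
  simpa using this.symm

include hq in
/-- the generator of a quadratic field closed under adjoints and not self-adjoint -/
theorem exists_gen {K : Subalgebra F Mat4} (hK : IsFieldSubalgebra 2 K)
    (hac : IsAdjointClosedFor (sympForm 2 F) K) (hnsa : ¬ IsSelfAdjointFor (sympForm 2 F) K) :
    ∃ Jm ∈ K, Jm * Jm = -1 ∧ adj Jm = -Jm ∧ ∀ c : F, Jm ≠ c • (1 : Mat4) := by
  have h3 := three_eq_zero3 hq
  have h2 := two_ne_zero3 hq
  obtain ⟨k, hk, hkne⟩ := exists_not_selfAdjoint hnsa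
  set Jm : Mat4 := k - adj k with hJm
  have hJK : Jm ∈ K := K.sub_mem hk (adj_mem_of_closed hac hk)
  have hadj : adj Jm = -Jm := by rw [hJm, adj_sub, adj_adj, neg_sub]
  have hJ0 : Jm ≠ 0 := by
    intro h
    apply hkne
    rw [hJm, sub_eq_zero] at h
    exact h.symm
  have two_smul_eq_zero : ∀ A : Mat4, A = -A → A = 0 := by
    intro A hA
    have h4 : (2 : F) • A = 0 := by rw [two_smul]; nth_rewrite 2 [hA]; rw [add_neg_cancel]
    rcases smul_eq_zero.mp h4 with h | h
    · exact absurd h h2
    · exact h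
  have hns : ∀ c : F, Jm ≠ c • (1 : Mat4) := by
    intro c hc
    apply hJ0
    apply two_smul_eq_zero
    rw [← hadj, hc, adj_smul, adj_one]
  have hpair := mem_span_pair_of_field hK hJK hns
  obtain ⟨x, y, hxy⟩ := hpair (Jm * Jm) (K.mul_mem hJK hJK)
  have hy : y = 0 := by
    have h5 : adj (Jm * Jm) = Jm * Jm := by rw [adj_mul, hadj, neg_mul_neg]
    rw [hxy, adj_add, adj_smul, adj_smul, adj_one, hadj, smul_neg] at h5
    have h6 : y • Jm = -(y • Jm) := by
      have := add_left_cancel h5
      exact this.symm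
    have h7 := two_smul_eq_zero _ h6
    rcases smul_eq_zero.mp h7 with h | h
    · exact h
    · exact absurd h hJ0
  rw [hy, zero_smul, add_zero] at hxy
  have hinvK : ∀ A ∈ K, A ≠ 0 → ∀ B : Mat4, A * B = 0 → B = 0 := by
    intro A hA hA0 B hAB
    obtain ⟨A', hA', hAA'⟩ := hK.inv A hA hA0
    have hcomm := hK.comm A hA A' hA'
    have : B = A' * (A * B) := by rw [← Matrix.mul_assoc, ← hcomm, hAA', Matrix.one_mul]
    rw [this, hAB, Matrix.mul_zero]
  have hx0 : x ≠ 0 := by
    intro h
    rw [h, zero_smul] at hxy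
    exact hJ0 (hinvK Jm hJK hJ0 Jm hxy)
  have hx1 : x ≠ 1 := by
    intro h
    rw [h, one_smul] at hxy
    have h8 : (Jm - 1) * (Jm + 1) = 0 := by
      rw [Matrix.sub_mul, Matrix.mul_add, Matrix.mul_add, hxy]
      simp only [Matrix.mul_one, Matrix.one_mul]
      abel
    have h9 : Jm - 1 ≠ 0 := by
      intro h
      apply hns 1
      rw [one_smul]
      exact sub_eq_zero.mp h
    have h10 := hinvK (Jm - 1) (K.sub_mem hJK K.one_mem) h9 _ h8
    apply hns (-1)
    rw [neg_smul, one_smul]
    exact eq_neg_of_add_eq_zero_left h10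
  refine ⟨Jm, hJK, ?_, hadj, hns⟩
  rcases cases3 hq x with h | h | h
  · exact absurd h hx0
  · exact absurd h hx1
  · rw [hxy, h, neg_smul, one_smul]

end gen

end Cfsg.Agent.Lib.Helper4.MaxS.F3
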