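import Mathlib
import Cfsg.Prelude
import Cfsg.Agent.Lib.Helper4.MaxS21

set_option autoImplicit false
set_option maxHeartbeats 4000000
set_option maxRecDepth 100000
set_option linter.unusedVariables false
set_option linter.unusedSectionVars false
set_option linter.style.haveILetI false
set_option linter.deprecated false

/-! A symplectic basis adapted to a complex structure `Jm` (`Jm² = -1`, adjoint `-Jm`) in dimension four over the
field with three elements. -/

namespace Cfsg.Agent.Lib.Helper4.MaxS.F3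

open Matrix Cfsg Cfsg.Geo Module
open Cfsg.Agent.Lib.Helper5.SympTv Cfsg.Agent.Lib.Helper5.SympGen
  Cfsg.Agent.Lib.Helper5.SympBridge Cfsg.Agent.Lib.Helper5.SpCentres

universe u

variable {F : Type u} [Field F] [Fintype F] (hq : Fintype.card F = 3)

local notation "GL4" => Matrix.GeneralLinearGroup (Fin 2 ⊕ Fin 2) F
local notation "Mat4" => Matrix (Fin 2 ⊕ Fin 2) (Fin 2 ⊕ Fin 2) F
local notation "V4" => (Fin 2 ⊕ Fin 2 → F)
local notation "J4" => Matrix.J (Fin 2) F
local notation "ff" => sympForm 2 F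

variable {Jm : Matrix (Fin 2 ⊕ Fin 2) (Fin 2 ⊕ Fin 2) F} (hsq : Jm * Jm = -1) (hadj : adj Jm = -Jm)

include hsq in
theorem Jm_Jm (x : V4) : Jm *ᵥ (Jm *ᵥ x) = -x := by
  rw [Matrix.mulVec_mulVec, hsq, Matrix.neg_mulVec, Matrix.one_mulVec]

include hadj in
theorem form_Jm_left (x y : V4) : ff (Jm *ᵥ x) y = -ff x (Jm *ᵥ y) := by
  rw [form_adj, hadj, Matrix.neg_mulVec, Cfsg.Agent.Lib.Helper5.SpDecompMax.sympForm_neg_right]

include hadj in
theorem form_Jm_symm (x y : V4) : ff (Jm *ᵥ x) y = ff (Jm *ᵥ y) x := by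
  rw [form_Jm_left hadj, ← sympForm_swap]

include hsq hadj in
theorem form_Jm_Jm (x y : V4) : ff (Jm *ᵥ x) (Jm *ᵥ y) = ff x y := by
  rw [form_Jm_left hadj, Jm_Jm hsq, Cfsg.Agent.Lib.Helper5.SpDecompMax.sympForm_neg_right, neg_neg]

theorem form_neg_left (x y : V4) : ff (-x) y = -ff x y := by
  rw [sympForm_swap, Cfsg.Agent.Lib.Helper5.SpDecompMax.sympForm_neg_right, neg_neg, ← sympForm_swap]

theorem form_neg_right (x y : V4) : ff x (-y) = -ff x y :=
  Cfsg.Agent.Lib.Helper5.SpDecompMax.sympForm_neg_right x y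

include hq hsq hadj in
/-- changing the sign of the norm -/
theorem norm_add_Jm (x : V4) : ff (Jm *ᵥ (x + Jm *ᵥ x)) (x + Jm *ᵥ x) = -ff (Jm *ᵥ x) x := by
  have h3 := three_eq_zero3 hq
  have e1 : ff x (Jm *ᵥ x) = -ff (Jm *ᵥ x) x := sympForm_swap 2 _ _
  rw [Matrix.mulVec_add, Jm_Jm hsq, sympForm_add_left, sympForm_add_right, sympForm_add_right,
    form_Jm_Jm hsq hadj, sympForm_self, form_neg_left, form_neg_left, sympForm_self, e1]
  linear_combination (ff (Jm *ᵥ x) x) * h3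

include hq hsq hadj in
/-- a vector of non-zero norm -/
theorem exists_norm_ne_zero : ∃ x : V4, ff (Jm *ᵥ x) x ≠ 0 := by
  by_contra hcon
  push Not at hcon
  have h2 := two_ne_zero3 hq
  have hzero : ∀ x y : V4, ff (Jm *ᵥ x) y = 0 := by
    intro x y
    have h1 := hcon (x + y)
    rw [Matrix.mulVec_add, sympForm_add_left, sympForm_add_right, sympForm_add_right, hcon x, hcon y,
      form_Jm_symm hadj y x, zero_add, add_zero] at h1
    have : (2 : F) * ff (Jm *ᵥ x) y = 0 := by linear_combination h1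
    rcases mul_eq_zero.mp this with h | h
    · exact absurd h h2
    · exact h
  have hJ0 : Jm = 0 := by
    rw [Matrix.ext_iff_mulVec]
    intro x
    rw [Matrix.zero_mulVec]
    exact eq_zero_of_sympForm_right 2 _ (hzero x)
  rw [hJ0, Matrix.mul_zero] at hsq
  have := congrFun (congrFun hsq (Sum.inl 0)) (Sum.inl 0)
  simp at this

include hq hsq hadj in
/-- normalising the norm -/
theorem norm_one_of_ne_zero {x : V4} (hx : ff (Jm *ᵥ x) x ≠ 0) :
    ff (Jm *ᵥ x) x = 1 ∨ ff (Jm *ᵥ (x + Jm *ᵥ x)) (x + Jm *ᵥ x) = 1 := by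
  rcases cases3 hq (ff (Jm *ᵥ x) x) with h | h | h
  · exact absurd h hx
  · exact Or.inl h
  · right
    rw [norm_add_Jm hq hsq hadj, h, neg_neg]

include hq hsq hadj in
/-- the first vector -/
theorem exists_e1 : ∃ e₁ : V4, ff (Jm *ᵥ e₁) e₁ = 1 := by
  obtain ⟨x, hx⟩ := exists_norm_ne_zero hq hsq hadj
  rcases norm_one_of_ne_zero hq hsq hadj hx with h | h
  · exact ⟨x, h⟩
  · exact ⟨_, h⟩

/-- the projection to the orthogonal complement of the plane of `e₁` and `Jm e₁` -/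
def prj (Jm : Matrix (Fin 2 ⊕ Fin 2) (Fin 2 ⊕ Fin 2) F) (e₁ z : V4) : V4 :=
  z - ff z e₁ • (Jm *ᵥ e₁) + ff z (Jm *ᵥ e₁) • e₁

theorem prj_orth1 {e₁ : V4} (h1 : ff (Jm *ᵥ e₁) e₁ = 1) (z : V4) : ff (prj Jm e₁ z) e₁ = 0 := by
  unfold prj
  rw [sympForm_add_left, sympForm_sub_left, sympForm_smul_left, sympForm_smul_left, h1, sympForm_self]
  ring

theorem prj_orth2 {e₁ : V4} (h1 : ff (Jm *ᵥ e₁) e₁ = 1) (z : V4) :
    ff (prj Jm e₁ z) (Jm *ᵥ e₁) = 0 := by
  have h1' : ff e₁ (Jm *ᵥ e₁) = -1 := by rw [sympForm_swap, h1]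
  unfold prj
  rw [sympForm_add_left, sympForm_sub_left, sympForm_smul_left, sympForm_smul_left, h1', sympForm_self]
  ring

include hsq hadj in
theorem orth_Jm {e₁ y : V4} (hy1 : ff y e₁ = 0) (hy2 : ff y (Jm *ᵥ e₁) = 0) :
    ff (Jm *ᵥ y) e₁ = 0 ∧ ff (Jm *ᵥ y) (Jm *ᵥ e₁) = 0 := by
  constructor
  · rw [form_Jm_left hadj, hy2, neg_zero]
  · rw [form_Jm_Jm hsq hadj, hy1]

include hq hsq hadj in
/-- the second vector -/
theorem exists_e2 {e₁ : V4} (h1 : ff (Jm *ᵥ e₁) e₁ = 1) :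
    ∃ e₂ : V4, ff (Jm *ᵥ e₂) e₂ = 1 ∧ ff e₂ e₁ = 0 ∧ ff e₂ (Jm *ᵥ e₁) = 0 := by
  have h2 := two_ne_zero3 hq
  -- a vector of non-zero norm in the complement
  have key : ∃ y : V4, ff y e₁ = 0 ∧ ff y (Jm *ᵥ e₁) = 0 ∧ ff (Jm *ᵥ y) y ≠ 0 := by
    by_contra hcon
    push Not at hcon
    have hpol : ∀ y y' : V4, ff y e₁ = 0 → ff y (Jm *ᵥ e₁) = 0 → ff y' e₁ = 0 →
        ff y' (Jm *ᵥ e₁) = 0 → ff (Jm *ᵥ y) y' = 0 := by
      intro y y' hy1 hy2 hy1' hy2'
      have h4 := hcon (y + y') (by rw [sympForm_add_left, hy1, hy1', add_zero])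
        (by rw [sympForm_add_left, hy2, hy2', add_zero])
      rw [Matrix.mulVec_add, sympForm_add_left, sympForm_add_right, sympForm_add_right,
        hcon y hy1 hy2, hcon y' hy1' hy2', form_Jm_symm hadj y' y, zero_add, add_zero] at h4
      have : (2 : F) * ff (Jm *ᵥ y) y' = 0 := by linear_combination h4
      rcases mul_eq_zero.mp this with h | h
      · exact absurd h h2
      · exact h
    have hzero : ∀ y : V4, ff y e₁ = 0 → ff y (Jm *ᵥ e₁) = 0 → y = 0 := by
      intro y hy1 hy2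
      have hJy : Jm *ᵥ y = 0 := by
        apply eq_zero_of_sympForm_right 2
        intro z
        have hz : z = prj Jm e₁ z + ff z e₁ • (Jm *ᵥ e₁) - ff z (Jm *ᵥ e₁) • e₁ := by
          unfold prj; abel
        obtain ⟨ho1, ho2⟩ := orth_Jm hsq hadj hy1 hy2
        rw [hz, sympForm_sub_right, sympForm_add_right, sympForm_smul_right, sympForm_smul_right,
          hpol y _ hy1 hy2 (prj_orth1 h1 z) (prj_orth2 h1 z), ho1, ho2]
        ring
      have := Jm_Jm hsq y
      rw [hJy, Matrix.mulVec_zero] at this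
      exact neg_eq_zero.mp this.symm
    have htop : (⊤ : Submodule F V4) ≤ Submodule.span F ({Jm *ᵥ e₁, e₁} : Set V4) := by
      intro z _
      have hz0 := hzero (prj Jm e₁ z) (prj_orth1 h1 z) (prj_orth2 h1 z)
      have hz : z = ff z e₁ • (Jm *ᵥ e₁) + (-ff z (Jm *ᵥ e₁)) • e₁ := by
        unfold prj at hz0
        rw [neg_smul]
        have : z = z - ff z e₁ • (Jm *ᵥ e₁) + ff z (Jm *ᵥ e₁) • e₁ + ff z e₁ • (Jm *ᵥ e₁) -
            ff z (Jm *ᵥ e₁) • e₁ := by abel
        rw [hz0, zero_add] at this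
        rw [← sub_eq_add_neg]
        exact this
      rw [hz]
      exact Submodule.add_mem _ (Submodule.smul_mem _ _ (Submodule.subset_span (by simp)))
        (Submodule.smul_mem _ _ (Submodule.subset_span (by simp)))
    have hfin := Submodule.finrank_mono htop
    have h4 : finrank F (⊤ : Submodule F V4) = 4 := by
      rw [finrank_top, Module.finrank_pi]
      simp
    have := Cfsg.Agent.Lib.Helper5.SpPairMax.finrank_span_pair_le (Jm *ᵥ e₁) e₁
    omega
  obtain ⟨y, hy1, hy2, hy⟩ := key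
  rcases norm_one_of_ne_zero hq hsq hadj hy with h | h
  · exact ⟨y, h, hy1, hy2⟩
  · obtain ⟨ho1, ho2⟩ := orth_Jm hsq hadj hy1 hy2
    refine ⟨_, h, ?_, ?_⟩
    · rw [sympForm_add_left, hy1, ho1, add_zero]
    · rw [sympForm_add_left, hy2, ho2, add_zero]

end Cfsg.Agent.Lib.Helper4.MaxS.F3
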