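import Mathlib
import Cfsg.Prelude
import Cfsg.Agent.Lib.Helper4.MaxS22

set_option autoImplicit false
set_option maxHeartbeats 4000000
set_option maxRecDepth 100000
set_option linter.unusedVariables false
set_option linter.unusedSectionVars false
set_option linter.style.haveILetI false
set_option linter.deprecated false

/-! The isometry carrying the standard complex structure to `Jm`. -/

namespace Cfsg.Agent.Lib.Helper4.MaxS.F3

open Matrix Cfsg Cfsg.Geo Module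
open Cfsg.Agent.Lib.Helper5.SympTv Cfsg.Agent.Lib.Helper5.SympGen
  Cfsg.Agent.Lib.Helper5.SympBridge Cfsg.Agent.Lib.Helper5.SpCentres

universe u

variable {F : Type u} [Field F] [Fintype F]

local notation "GL4" => Matrix.GeneralLinearGroup (Fin 2 ⊕ Fin 2) F
local notation "Mat4" => Matrix (Fin 2 ⊕ Fin 2) (Fin 2 ⊕ Fin 2) F
local notation "V4" => (Fin 2 ⊕ Fin 2 → F)
local notation "J4" => Matrix.J (Fin 2) F
local notation "ff" => sympForm 2 F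

/-- the basis vectors -/
def bvec (Jm : Matrix (Fin 2 ⊕ Fin 2) (Fin 2 ⊕ Fin 2) F) (e₁ e₂ : Fin 2 ⊕ Fin 2 → F) :
    Fin 2 ⊕ Fin 2 → (Fin 2 ⊕ Fin 2 → F)
  | Sum.inl i => if i = 0 then e₁ else e₂
  | Sum.inr i => Jm *ᵥ (if i = 0 then e₁ else e₂)

/-- the matrix with these columns -/
def Pm (Jm : Matrix (Fin 2 ⊕ Fin 2) (Fin 2 ⊕ Fin 2) F) (e₁ e₂ : Fin 2 ⊕ Fin 2 → F) :
    Matrix (Fin 2 ⊕ Fin 2) (Fin 2 ⊕ Fin 2) F :=
  Matrix.of fun a k => bvec Jm e₁ e₂ k a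

theorem Pm_single (Jm : Mat4) (e₁ e₂ : V4) (k : Fin 2 ⊕ Fin 2) :
    Pm Jm e₁ e₂ *ᵥ Pi.single k 1 = bvec Jm e₁ e₂ k := by
  rw [Matrix.mulVec_single_one]
  ext a
  rfl

theorem form_single (k l : Fin 2 ⊕ Fin 2) : ff (Pi.single k 1) (Pi.single l 1) = J4 k l := by
  unfold sympForm
  rw [Matrix.mulVec_single_one, single_dotProduct, one_mul]
  rfl

variable {Jm : Matrix (Fin 2 ⊕ Fin 2) (Fin 2 ⊕ Fin 2) F} (hsq : Jm * Jm = -1) (hadj : adj Jm = -Jm)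
  {e₁ e₂ : Fin 2 ⊕ Fin 2 → F} (n1 : sympForm 2 F (Jm *ᵥ e₁) e₁ = 1) (n2 : sympForm 2 F (Jm *ᵥ e₂) e₂ = 1)
  (o1 : sympForm 2 F e₂ e₁ = 0) (o2 : sympForm 2 F e₂ (Jm *ᵥ e₁) = 0)

include hsq hadj n1 n2 o1 o2 in
theorem gram_bvec (k l : Fin 2 ⊕ Fin 2) : ff (bvec Jm e₁ e₂ k) (bvec Jm e₁ e₂ l) = J4 k l := by
  have s1 : ff e₁ e₂ = 0 := by rw [sympForm_swap, o1, neg_zero]
  have s2 : ff e₁ (Jm *ᵥ e₁) = -1 := by rw [sympForm_swap, n1]
  have s3 : ff e₂ (Jm *ᵥ e₂) = -1 := by rw [sympForm_swap, n2]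
  have s4 : ff (Jm *ᵥ e₁) e₂ = 0 := by rw [sympForm_swap, o2, neg_zero]
  have s5 : ff (Jm *ᵥ e₂) e₁ = 0 := by rw [form_Jm_symm hadj, s4]
  have s6 : ff e₁ (Jm *ᵥ e₂) = 0 := by rw [sympForm_swap, s5, neg_zero]
  have s7 : ff (Jm *ᵥ e₁) (Jm *ᵥ e₂) = 0 := by rw [form_Jm_Jm hsq hadj, s1]
  have s8 : ff (Jm *ᵥ e₂) (Jm *ᵥ e₁) = 0 := by rw [form_Jm_Jm hsq hadj, o1]
  rcases k with i | i <;> rcases l with j | j <;> fin_cases i <;> fin_cases j <;>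
    simp [bvec, Matrix.J, sympForm_self, s1, s2, s3, s4, s5, s6, s7, s8, n1, n2, o1, o2]

include hsq hadj n1 n2 o1 o2 in
theorem Pm_mem : Pm Jm e₁ e₂ ∈ symplecticGroup (Fin 2) F := by
  rw [SymplecticGroup.mem_iff']
  ext k l
  have h := gram_bvec hsq hadj n1 n2 o1 o2 k l
  rw [← Pm_single, ← Pm_single] at h
  unfold sympForm at h
  rw [← Matrix.vecMul_transpose (Pm Jm e₁ e₂), ← Matrix.dotProduct_mulVec, Matrix.mulVec_mulVec,
    Matrix.mulVec_mulVec, Matrix.mulVec_single_one, single_dotProduct, one_mul] at h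
  exact h

theorem J_single_inl (i : Fin 2) : J4 *ᵥ Pi.single (Sum.inl i) 1 = Pi.single (Sum.inr i) 1 := by
  rw [Matrix.mulVec_single_one]
  ext a
  rcases a with a | a
  · simp [Matrix.J]
  · simp [Matrix.J, Matrix.one_apply, Pi.single_apply]

theorem J_single_inr (i : Fin 2) : J4 *ᵥ Pi.single (Sum.inr i) 1 = -Pi.single (Sum.inl i) 1 := by
  rw [Matrix.mulVec_single_one]
  ext a
  rcases a with a | a
  · simp [Matrix.J, Matrix.one_apply, Pi.single_apply]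
  · simp [Matrix.J]

include hsq in
theorem Jm_mul_Pm : Jm * Pm Jm e₁ e₂ = Pm Jm e₁ e₂ * J4 := by
  have hcol : ∀ k : Fin 2 ⊕ Fin 2, (Jm * Pm Jm e₁ e₂) *ᵥ Pi.single k 1 =
      (Pm Jm e₁ e₂ * J4) *ᵥ Pi.single k 1 := by
    intro k
    rw [← Matrix.mulVec_mulVec, ← Matrix.mulVec_mulVec, Pm_single]
    rcases k with i | i
    · rw [J_single_inl, Pm_single]
      rfl
    · rw [J_single_inr, Matrix.mulVec_neg, Pm_single]
      show Jm *ᵥ (Jm *ᵥ _) = -_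
      rw [Jm_Jm hsq]
      rfl
  ext a k
  have := congrFun (hcol k) a
  rw [Matrix.mulVec_single_one, Matrix.mulVec_single_one] at this
  exact this

end Cfsg.Agent.Lib.Helper4.MaxS.F3
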