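import Mathlib
import Cfsg.Prelude
import Cfsg.Agent.Lib.Helper4.MaxS23

set_option autoImplicit false
set_option maxHeartbeats 4000000
set_option maxRecDepth 100000
set_option linter.unusedVariables false
set_option linter.unusedSectionVars false
set_option linter.style.haveILetI false
set_option linter.deprecated false

/-! Over the field with three elements the normaliser in the symplectic group of dimension four of a quadratic field
closed under adjoints and not self-adjoint normalises an extraspecial group `2_-^{1+4}`. -/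

namespace Cfsg.Agent.Lib.Helper4.MaxS.F3

open Matrix Cfsg Cfsg.Geo Module
open Cfsg.Agent.Lib.Helper5.SympTv Cfsg.Agent.Lib.Helper5.SympGen
  Cfsg.Agent.Lib.Helper5.SympBridge Cfsg.Agent.Lib.Helper5.SpCentres

universe u

variable {F : Type u} [Field F] [Fintype F]

local notation "GL4" => Matrix.GeneralLinearGroup (Fin 2 ⊕ Fin 2) F
local notation "Mat4" => Matrix (Fin 2 ⊕ Fin 2) (Fin 2 ⊕ Fin 2) F
local notation "V4" => (Fin 2 ⊕ Fin 2 → F)
local notation "J4" => Matrix.J (Fin 2) F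
local notation "ff" => sympForm 2 F

/-- an element of the field squaring to `-1` is the generator up to sign -/
theorem eq_or_neg_of_sq (hq : Fintype.card F = 3) {Jm : Mat4} (hns : ∀ c : F, Jm ≠ c • (1 : Mat4))
    (hsq : Jm * Jm = -1) {x y : F} (h : (x • (1 : Mat4) + y • Jm) * (x • (1 : Mat4) + y • Jm) = -1) :
    (x = 0 ∧ y = 1) ∨ (x = 0 ∧ y = -1) := by
  have h3 := three_eq_zero3 hq
  have h2 := two_ne_zero3 hq
  have hexp : (x • (1 : Mat4) + y • Jm) * (x • (1 : Mat4) + y • Jm) =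
      (x * x - y * y) • (1 : Mat4) + (2 * x * y) • Jm := by
    simp only [Matrix.add_mul, Matrix.mul_add, Matrix.smul_mul, Matrix.mul_smul, Matrix.one_mul,
      Matrix.mul_one, hsq, smul_neg]
    simp only [smul_add, smul_smul, smul_neg, sub_smul, two_mul, add_mul, add_smul, mul_comm y x]
    abel
  rw [hexp] at h
  have hxy : 2 * x * y = 0 := by
    by_contra hne
    apply hns (-(x * x - y * y + 1) / (2 * x * y))
    have h4 : (2 * x * y) • Jm = (-(x * x - y * y + 1)) • (1 : Mat4) := by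
      rw [neg_smul, add_smul, one_smul, neg_add, ← h]
      abel
    have h5 : Jm = (2 * x * y)⁻¹ • ((2 * x * y) • Jm) := by
      rw [smul_smul, inv_mul_cancel₀ hne, one_smul]
    rw [h5, h4, smul_smul, div_eq_inv_mul]
  rw [hxy, zero_smul, add_zero] at h
  have h6 : (x * x - y * y + 1) • (1 : Mat4) = 0 := by
    rw [add_smul, one_smul, h, neg_add_cancel]
  have h7 := smul_one_eq_zero h6
  rcases cases3 hq x with rfl | rfl | rfl
  · rcases cases3 hq y with rfl | rfl | rfl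
    · exfalso; simp at h7
    · exact Or.inl ⟨rfl, rfl⟩
    · exact Or.inr ⟨rfl, rfl⟩
  · exfalso
    have hy : y = 0 := by
      rcases mul_eq_zero.mp hxy with h | h
      · rw [mul_one] at h; exact absurd h h2
      · exact h
    rw [hy] at h7
    apply h2
    linear_combination h7
  · exfalso
    have hy : y = 0 := by
      rcases mul_eq_zero.mp hxy with h | h
      · exfalso
        apply h2
        linear_combination -h
      · exact h
    rw [hy] at h7
    apply h2
    linear_combination h7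

/-- the re-typing of the normaliser of the field -/
theorem class6_of_field_three (hq : Fintype.card F = 3) (K : Subalgebra F Mat4)
    (hK : IsFieldSubalgebra 2 K) (hac : IsAdjointClosedFor (sympForm 2 F) K)
    (hnsa : ¬ IsSelfAdjointFor (sympForm 2 F) K) :
    ∃ R : Subgroup GL4, IsSymplecticTypeGroup 2 R ∧ ActsAbsolutelyIrreducibly (matrixSet R) ∧
      R ≤ similarityGroup (sympForm 2 F) ∧ Nat.card R = 32 ∧ Nat.card (Subgroup.center R) = 2 ∧
      IsOfMinusType 2 R ∧ subalgebraNormalizer K ⊓ spGL 2 F ≤ subgroupNormalizer R := by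
  have h3 := three_eq_zero3 hq
  obtain ⟨Jm, hJK, hsq, hadj, hns⟩ := exists_gen hq hK hac hnsa
  obtain ⟨e₁, n1⟩ := exists_e1 hq hsq hadj
  obtain ⟨e₂, n2, o1, o2⟩ := exists_e2 hq hsq hadj n1
  set A : symplecticGroup (Fin 2) F := ⟨Pm Jm e₁ e₂, Pm_mem hsq hadj n1 n2 o1 o2⟩ with hA
  set P : GL4 := toGL A with hPdef
  have hP : P ∈ spGL 2 F := by
    rw [← Cfsg.Agent.Lib.Helper4.MaxS.range_toGL]
    exact ⟨A, rfl⟩
  have hPv : (P : Mat4) = Pm Jm e₁ e₂ := rfl
  have hrel : Jm * (P : Mat4) = (P : Mat4) * J4 := by rw [hPv]; exact Jm_mul_Pm hsq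
  have e1 : ((P⁻¹ : GL4) : Mat4) * (P : Mat4) = 1 := by rw [← Units.val_mul, inv_mul_cancel, Units.val_one]
  have e2 : (P : Mat4) * ((P⁻¹ : GL4) : Mat4) = 1 := by rw [← Units.val_mul, mul_inv_cancel, Units.val_one]
  have hJ4 : ((P⁻¹ : GL4) : Mat4) * Jm * (P : Mat4) = J4 := by
    rw [Matrix.mul_assoc, hrel, ← Matrix.mul_assoc, e1, Matrix.one_mul]
  refine ⟨RR h3 P, symplecticType_RR h3 P, absIrred_RR h3 P, RR_le_sim h3 hP, card_RR h3 P,
    card_center h3 P, minusType_RR h3 P, ?_⟩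
  rintro h ⟨hhK, hhS⟩
  apply mem_normalizer_RR hq hP hhS
  have hC : (h : Mat4) * Jm * ((h⁻¹ : GL4) : Mat4) ∈ K := (hhK Jm).1 hJK
  obtain ⟨x, y, hxy⟩ := mem_span_pair_of_field hK hJK hns _ hC
  have f1 : ((h⁻¹ : GL4) : Mat4) * (h : Mat4) = 1 := by rw [← Units.val_mul, inv_mul_cancel, Units.val_one]
  have f2 : (h : Mat4) * ((h⁻¹ : GL4) : Mat4) = 1 := by rw [← Units.val_mul, mul_inv_cancel, Units.val_one]
  have hCsq : (x • (1 : Mat4) + y • Jm) * (x • (1 : Mat4) + y • Jm) = -1 := by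
    rw [← hxy]
    calc (h : Mat4) * Jm * ((h⁻¹ : GL4) : Mat4) * ((h : Mat4) * Jm * ((h⁻¹ : GL4) : Mat4))
        = (h : Mat4) * Jm * (((h⁻¹ : GL4) : Mat4) * (h : Mat4)) * Jm * ((h⁻¹ : GL4) : Mat4) := by
          simp only [Matrix.mul_assoc]
      _ = (h : Mat4) * (Jm * Jm) * ((h⁻¹ : GL4) : Mat4) := by
          rw [f1, Matrix.mul_one]; simp only [Matrix.mul_assoc]
      _ = -1 := by rw [hsq, Matrix.mul_neg, Matrix.mul_one, Matrix.neg_mul, f2]
  -- `h Jm = ± Jm h`
  have hcomm : (h : Mat4) * Jm = Jm * (h : Mat4) ∨ (h : Mat4) * Jm = -(Jm * (h : Mat4)) := by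
    have h8 : (h : Mat4) * Jm = ((h : Mat4) * Jm * ((h⁻¹ : GL4) : Mat4)) * (h : Mat4) := by
      rw [Matrix.mul_assoc, f1, Matrix.mul_one]
    rcases eq_or_neg_of_sq hq hns hsq hCsq with ⟨rfl, rfl⟩ | ⟨rfl, rfl⟩
    · left
      rw [h8, hxy, zero_smul, zero_add, one_smul]
    · right
      rw [h8, hxy, zero_smul, zero_add, neg_smul, one_smul, Matrix.neg_mul]
  have hM : ((P⁻¹ * h * P : GL4) : Mat4) = ((P⁻¹ : GL4) : Mat4) * (h : Mat4) * (P : Mat4) := by
    rw [Units.val_mul, Units.val_mul]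
  have hMJ : ((P⁻¹ * h * P : GL4) : Mat4) * J4 = ((P⁻¹ : GL4) : Mat4) * ((h : Mat4) * Jm) * (P : Mat4) := by
    rw [hM, Matrix.mul_assoc, ← hrel]
    simp only [Matrix.mul_assoc]
  have hJM : J4 * ((P⁻¹ * h * P : GL4) : Mat4) = ((P⁻¹ : GL4) : Mat4) * (Jm * (h : Mat4)) * (P : Mat4) := by
    rw [hM, ← hJ4]
    calc ((P⁻¹ : GL4) : Mat4) * Jm * (P : Mat4) * (((P⁻¹ : GL4) : Mat4) * (h : Mat4) * (P : Mat4))
        = ((P⁻¹ : GL4) : Mat4) * Jm * ((P : Mat4) * ((P⁻¹ : GL4) : Mat4)) * (h : Mat4) * (P : Mat4) := by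
          simp only [Matrix.mul_assoc]
      _ = _ := by rw [e2, Matrix.mul_one]; simp only [Matrix.mul_assoc]
  rcases hcomm with hc | hc
  · left
    rw [hMJ, hJM, hc]
  · right
    rw [hMJ, hJM, hc, Matrix.mul_neg, Matrix.neg_mul]

end Cfsg.Agent.Lib.Helper4.MaxS.F3
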