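import Mathlib
import Cfsg.Prelude
import Cfsg.Agent.Lib.Helper4.MaxS15

set_option autoImplicit false
set_option maxHeartbeats 4000000
set_option maxRecDepth 100000
set_option linter.unusedVariables false
set_option linter.unusedSectionVars false
set_option linter.style.haveILetI false
set_option linter.deprecated false

/-! Over the field with three elements the stabiliser in the symplectic group of dimension four of a pair of
complementary totally isotropic planes stabilises a decomposition into two non-degenerate planes. -/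

namespace Cfsg.Agent.Lib.Helper4.MaxS

open Matrix Cfsg Cfsg.Geo Module
open Cfsg.Agent.Lib.Helper5.SympTv Cfsg.Agent.Lib.Helper5.SympGen
  Cfsg.Agent.Lib.Helper5.SympBridge Cfsg.Agent.Lib.Helper5.SpCentres
  Cfsg.Agent.Lib.Helper5.SpSingularMax

universe u

variable {F : Type u} [Field F]

local notation "GL4" => Matrix.GeneralLinearGroup (Fin 2 ⊕ Fin 2) F
local notation "Mat4" => Matrix (Fin 2 ⊕ Fin 2) (Fin 2 ⊕ Fin 2) F
local notation "V4" => (Fin 2 ⊕ Fin 2 → F)
local notation "ff" => sympForm 2 F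

/-- dual bases of a pair of complementary totally isotropic planes -/
structure PairData (D : Fin 2 → Submodule F (Fin 2 ⊕ Fin 2 → F)) (u w : Fin 2 → (Fin 2 ⊕ Fin 2 → F)) :
    Prop where
  hu : ∀ i, u i ∈ D 0
  hw : ∀ j, w j ∈ D 1
  dual : ∀ i j, sympForm 2 F (u i) (w j) = if i = j then 1 else 0
  tsU : ∀ x ∈ D 0, ∀ y ∈ D 0, sympForm 2 F x y = 0
  tsW : ∀ x ∈ D 1, ∀ y ∈ D 1, sympForm 2 F x y = 0
  expU : ∀ x ∈ D 0, x = sympForm 2 F x (w 0) • u 0 + sympForm 2 F x (w 1) • u 1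
  expW : ∀ y ∈ D 1, y = sympForm 2 F (u 0) y • w 0 + sympForm 2 F (u 1) y • w 1
  split : ∀ z : Fin 2 ⊕ Fin 2 → F, ∃ x ∈ D 0, ∃ y ∈ D 1, x + y = z

theorem exists_pairData {D : Fin 2 → Submodule F V4} (hD : IsMDecomposition 2 D)
    (hts : ∀ i, IsTotallySingularFor (sympForm 2 F) (D i)) :
    ∃ u w : Fin 2 → V4, PairData D u w := by
  obtain ⟨bU, bW, hdual⟩ := Cfsg.Agent.Lib.Helper5.SpPairMax.exists_dual_bases hD hts
  have hP := Cfsg.Agent.Lib.Helper5.SpPairMax.tsPair hD hts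
  refine ⟨fun i => (bU i : V4), fun j => (bW j : V4), ⟨fun i => (bU i).2, fun j => (bW j).2, hdual,
    hts 0, hts 1, ?_, ?_, hP.split⟩⟩
  · intro x hx
    have h1 := bU.sum_repr ⟨x, hx⟩
    rw [Fin.sum_univ_two] at h1
    have h2 : x = bU.repr ⟨x, hx⟩ 0 • (bU 0 : V4) + bU.repr ⟨x, hx⟩ 1 • (bU 1 : V4) := by
      have := congrArg Subtype.val h1
      simpa using this.symm
    have h3 : ∀ j, sympForm 2 F x (bW j : V4) = bU.repr ⟨x, hx⟩ j := by
      intro j
      nth_rewrite 1 [h2]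
      rw [sympForm_add_left, sympForm_smul_left, sympForm_smul_left, hdual, hdual]
      fin_cases j <;> simp
    simp only [h3]
    exact h2
  · intro y hy
    have h1 := bW.sum_repr ⟨y, hy⟩
    rw [Fin.sum_univ_two] at h1
    have h2 : y = bW.repr ⟨y, hy⟩ 0 • (bW 0 : V4) + bW.repr ⟨y, hy⟩ 1 • (bW 1 : V4) := by
      have := congrArg Subtype.val h1
      simpa using this.symm
    have h3 : ∀ j, sympForm 2 F (bU j : V4) y = bW.repr ⟨y, hy⟩ j := by
      intro j
      nth_rewrite 1 [h2]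
      rw [sympForm_add_right, sympForm_smul_right, sympForm_smul_right, hdual, hdual]
      fin_cases j <;> simp
    simp only [h3]
    exact h2

/-- the two planes -/
def phi (u w : Fin 2 → (Fin 2 ⊕ Fin 2 → F)) (d : F) : (Fin 2 → F) →ₗ[F] (Fin 2 ⊕ Fin 2 → F) where
  toFun a := a 0 • (u 0 + d • w 1) + a 1 • (u 1 - d • w 0)
  map_add' a b := by
    simp only [Pi.add_apply, add_smul]
    abel
  map_smul' c a := by
    simp only [Pi.smul_apply, smul_eq_mul, RingHom.id_apply, mul_smul, smul_add]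

theorem phi_apply (u w : Fin 2 → V4) (d : F) (a : Fin 2 → F) :
    phi u w d a = a 0 • (u 0 + d • w 1) + a 1 • (u 1 - d • w 0) := rfl

section data

variable {D : Fin 2 → Submodule F (Fin 2 ⊕ Fin 2 → F)} {u w : Fin 2 → (Fin 2 ⊕ Fin 2 → F)}
  (pd : PairData D u w)

include pd in
theorem PairData.vals :
    ff (u 0) (w 0) = 1 ∧ ff (u 0) (w 1) = 0 ∧ ff (u 1) (w 0) = 0 ∧ ff (u 1) (w 1) = 1 ∧
    ff (w 0) (u 0) = -1 ∧ ff (w 1) (u 0) = 0 ∧ ff (w 0) (u 1) = 0 ∧ ff (w 1) (u 1) = -1 ∧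
    (∀ i j, ff (u i) (u j) = 0) ∧ (∀ i j, ff (w i) (w j) = 0) := by
  have h00 : ff (u 0) (w 0) = 1 := by rw [pd.dual]; simp
  have h01 : ff (u 0) (w 1) = 0 := by rw [pd.dual]; simp
  have h10 : ff (u 1) (w 0) = 0 := by rw [pd.dual]; simp
  have h11 : ff (u 1) (w 1) = 1 := by rw [pd.dual]; simp
  refine ⟨h00, h01, h10, h11, ?_, ?_, ?_, ?_, fun i j => pd.tsU _ (pd.hu i) _ (pd.hu j),
    fun i j => pd.tsW _ (pd.hw i) _ (pd.hw j)⟩
  · rw [sympForm_swap, h00]
  · rw [sympForm_swap, h01, neg_zero]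
  · rw [sympForm_swap, h10, neg_zero]
  · rw [sympForm_swap, h11]

include pd in
/-- the form on the two planes -/
theorem form_phi (d d' : F) (a a' : Fin 2 → F) :
    ff (phi u w d a) (phi u w d' a') = -(d + d') * (a 0 * a' 1 - a 1 * a' 0) := by
  obtain ⟨h00, h01, h10, h11, k00, k10, k01, k11, huu, hww⟩ := pd.vals
  simp only [phi_apply, sympForm_add_left, sympForm_add_right, sympForm_sub_left, sympForm_sub_right,
    sympForm_smul_left, sympForm_smul_right, h00, h01, h10, h11, k00, k10, k01, k11, huu, hww]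
  ring

include pd in
/-- the expansion of a vector -/
theorem PairData.expand (z : V4) :
    z = ff z (w 0) • u 0 + ff z (w 1) • u 1 + (ff (u 0) z • w 0 + ff (u 1) z • w 1) := by
  obtain ⟨x, hx, y, hy, rfl⟩ := pd.split z
  have e1 : ∀ j, ff (x + y) (w j) = ff x (w j) := by
    intro j
    rw [sympForm_add_left, pd.tsW y hy _ (pd.hw j), add_zero]
  have e2 : ∀ j, ff (u j) (x + y) = ff (u j) y := by
    intro j
    rw [sympForm_add_right, pd.tsU _ (pd.hu j) x hx, zero_add]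
  rw [e1, e1, e2, e2, ← pd.expU x hx, ← pd.expW y hy]

include pd in
theorem coeff_phi (d : F) (a : Fin 2 → F) :
    ff (phi u w d a) (w 0) = a 0 ∧ ff (phi u w d a) (w 1) = a 1 := by
  obtain ⟨h00, h01, h10, h11, k00, k10, k01, k11, huu, hww⟩ := pd.vals
  constructor
  · simp only [phi_apply, sympForm_add_left, sympForm_sub_left, sympForm_smul_left, h00, h10, hww]
    ring
  · simp only [phi_apply, sympForm_add_left, sympForm_sub_left, sympForm_smul_left, h01, h11, hww]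
    ring

include pd in
theorem phi_injective (d : F) : Function.Injective (phi u w d) := by
  rw [← LinearMap.ker_eq_bot, eq_bot_iff]
  intro a ha
  rw [LinearMap.mem_ker] at ha
  obtain ⟨h0, h1⟩ := coeff_phi pd d a
  rw [ha, Cfsg.Agent.Lib.Helper5.SpDecompMax.sympForm_zero_left] at h0 h1
  rw [Submodule.mem_bot]
  ext i
  fin_cases i
  · exact h0.symm
  · exact h1.symm

/-- the signs of the two planes -/
def sgn (F : Type u) [Field F] (i : Fin 2) : F := if i = 0 then 1 else -1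

theorem sgn_mul_self (i : Fin 2) : sgn F i * sgn F i = 1 := by
  fin_cases i <;> simp [sgn]

theorem sgn_add_of_ne {i j : Fin 2} (h : i ≠ j) : sgn F i + sgn F j = 0 := by
  fin_cases i <;> fin_cases j <;> simp [sgn] at h ⊢

/-- the decomposition into two non-degenerate planes -/
def Dp (u w : Fin 2 → (Fin 2 ⊕ Fin 2 → F)) : Fin 2 → Submodule F (Fin 2 ⊕ Fin 2 → F) :=
  fun i => LinearMap.range (phi u w (sgn F i))

theorem mem_Dp (u w : Fin 2 → V4) (i : Fin 2) (x : V4) :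
    x ∈ Dp u w i ↔ ∃ a : Fin 2 → F, phi u w (sgn F i) a = x := LinearMap.mem_range

include pd in
theorem Dp_nondeg (h2 : (2 : F) ≠ 0) : IsNondegenerateMDecomposition (sympForm 2 F) 2 (Dp u w) := by
  have hnondeg : ∀ i, IsNondegenerateOn (sympForm 2 F) (Dp u w i) := by
    intro i x hx hx0
    obtain ⟨a, rfl⟩ := (mem_Dp u w i _).1 hx
    have hd : sgn F i ≠ 0 := by
      intro h
      have := sgn_mul_self (F := F) i
      rw [h, mul_zero] at this
      exact zero_ne_one this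
    have hdd : -(sgn F i + sgn F i) ≠ 0 := by
      rw [← two_mul]
      exact neg_ne_zero.mpr (mul_ne_zero h2 hd)
    have ha : a 0 ≠ 0 ∨ a 1 ≠ 0 := by
      by_contra hcon
      push Not at hcon
      apply hx0
      have : a = 0 := by
        ext i
        fin_cases i
        · exact hcon.1
        · exact hcon.2
      rw [this, map_zero]
    rcases ha with ha | ha
    · constructor
      · refine ⟨phi u w (sgn F i) ![0, 1], (mem_Dp u w i _).2 ⟨_, rfl⟩, ?_⟩
        rw [form_phi pd]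
        simp only [Matrix.cons_val_zero, Matrix.cons_val_one, zero_mul, one_mul, zero_sub]
        exact mul_ne_zero hdd (neg_ne_zero.mpr ha)
      · refine ⟨phi u w (sgn F i) ![0, 1], (mem_Dp u w i _).2 ⟨_, rfl⟩, ?_⟩
        rw [form_phi pd]
        simp only [Matrix.cons_val_zero, Matrix.cons_val_one, mul_zero, mul_one, sub_zero]
        exact mul_ne_zero hdd ha
    · constructor
      · refine ⟨phi u w (sgn F i) ![1, 0], (mem_Dp u w i _).2 ⟨_, rfl⟩, ?_⟩
        rw [form_phi pd]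
        simp only [Matrix.cons_val_zero, Matrix.cons_val_one, zero_mul, one_mul, sub_zero]
        exact mul_ne_zero hdd ha
      · refine ⟨phi u w (sgn F i) ![1, 0], (mem_Dp u w i _).2 ⟨_, rfl⟩, ?_⟩
        rw [form_phi pd]
        simp only [Matrix.cons_val_zero, Matrix.cons_val_one, mul_zero, mul_one, zero_sub]
        exact mul_ne_zero hdd (neg_ne_zero.mpr ha)
  have horth : ∀ i j, i ≠ j → AreOrthogonalFor (sympForm 2 F) (Dp u w i) (Dp u w j) := by
    intro i j hij x hx y hy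
    obtain ⟨a, rfl⟩ := (mem_Dp u w i _).1 hx
    obtain ⟨b, rfl⟩ := (mem_Dp u w j _).1 hy
    rw [form_phi pd, sgn_add_of_ne hij, neg_zero, zero_mul]
  refine ⟨⟨le_refl 2, by norm_num, ?_, ?_, ?_⟩, hnondeg, horth⟩
  · intro i
    show finrank F (LinearMap.range (phi u w (sgn F i))) = 2
    rw [LinearMap.finrank_range_of_inj (phi_injective pd _), Module.finrank_fin_fun]
  · rw [iSupIndep_def]
    intro i
    rw [Submodule.disjoint_def]
    intro x hxi hxs
    by_contra hx0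
    obtain ⟨y, hy, hyx⟩ := (hnondeg i x hxi hx0).1
    apply hyx
    have hle : (⨆ (j) (_ : j ≠ i), Dp u w j) ≤ perp 2 (Dp u w i) := by
      refine iSup₂_le fun j hj => ?_
      intro z hz
      rw [mem_perp]
      intro v hv
      exact horth i j (Ne.symm hj) v hv z hz
    exact (mem_perp (Dp u w i) x).1 (hle hxs) y hy
  · rw [eq_top_iff]
    intro z _
    have hz := pd.expand z
    set α0 := ff z (w 0)
    set α1 := ff z (w 1)
    set β0 := ff (u 0) z
    set β1 := ff (u 1) z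
    have h2' : (2 : F)⁻¹ * 2 = 1 := inv_mul_cancel₀ h2
    have e : z = phi u w (sgn F 0) ![2⁻¹ * (α0 + β1), 2⁻¹ * (α1 - β0)] +
        phi u w (sgn F 1) ![2⁻¹ * (α0 - β1), 2⁻¹ * (α1 + β0)] := by
      rw [hz]
      simp only [phi_apply, sgn, Matrix.cons_val_zero, Matrix.cons_val_one, if_true, one_smul,
        Fin.isValue, one_ne_zero, if_false, neg_smul]
      have e1 : α0 = (2⁻¹ * 2) * α0 := by rw [h2', one_mul]
      have e2 : α1 = (2⁻¹ * 2) * α1 := by rw [h2', one_mul]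
      have e3 : β0 = (2⁻¹ * 2) * β0 := by rw [h2', one_mul]
      have e4 : β1 = (2⁻¹ * 2) * β1 := by rw [h2', one_mul]
      nth_rewrite 1 [e1, e2, e3, e4]
      module
    rw [e]
    exact Submodule.add_mem _ (Submodule.mem_iSup_of_mem 0 ((mem_Dp u w 0 _).2 ⟨_, rfl⟩))
      (Submodule.mem_iSup_of_mem 1 ((mem_Dp u w 1 _).2 ⟨_, rfl⟩))

end data

/-- Cramer's rule in dimension two over the field with three elements -/
theorem cramer3 [Fintype F] (hq : Fintype.card F = 3) {A00 A01 A10 A11 C00 C01 C10 C11 : F}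
    (e1 : A00 * C00 + A10 * C10 = 1) (e2 : A00 * C01 + A10 * C11 = 0)
    (e3 : A01 * C00 + A11 * C10 = 0) (e4 : A01 * C01 + A11 * C11 = 1) :
    ∃ δ : F, δ * δ = 1 ∧ C00 = δ * A11 ∧ C10 = -(δ * A01) ∧ C01 = -(δ * A10) ∧ C11 = δ * A00 := by
  set δ : F := A00 * A11 - A01 * A10 with hδ
  have c1 : δ * C00 = A11 := by rw [hδ]; linear_combination A11 * e1 - A10 * e3
  have c2 : δ * C10 = -A01 := by rw [hδ]; linear_combination A00 * e3 - A01 * e1
  have c3 : δ * C01 = -A10 := by rw [hδ]; linear_combination A11 * e2 - A10 * e4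
  have c4 : δ * C11 = A00 := by rw [hδ]; linear_combination A00 * e4 - A01 * e2
  have hδ0 : δ ≠ 0 := by
    intro h
    rw [h, zero_mul] at c1 c2 c3 c4
    have hA00 : A00 = 0 := c4.symm
    have hA10 : A10 = 0 := by linear_combination c3
    rw [hA00, hA10, zero_mul, zero_mul, add_zero] at e1
    exact zero_ne_one e1
  have hδ2 : δ * δ = 1 := by
    rcases cases3 hq δ with h | h | h
    · exact absurd h hδ0
    · rw [h, mul_one]
    · rw [h]; ring
  refine ⟨δ, hδ2, ?_, ?_, ?_, ?_⟩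
  · linear_combination δ * c1 - C00 * hδ2
  · linear_combination δ * c2 - C10 * hδ2
  · linear_combination δ * c3 - C01 * hδ2
  · linear_combination δ * c4 - C11 * hδ2

section stab

variable [Fintype F] (hq : Fintype.card F = 3)
  {D : Fin 2 → Submodule F (Fin 2 ⊕ Fin 2 → F)} {u w : Fin 2 → (Fin 2 ⊕ Fin 2 → F)}
  (pd : PairData D u w)

include hq pd in
/-- elements fixing the two isotropic planes -/
theorem fix_maps {g : GL4} (hgS : g ∈ spGL 2 F) (hU : ∀ x ∈ D 0, (g : Mat4) *ᵥ x ∈ D 0)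
    (hW : ∀ y ∈ D 1, (g : Mat4) *ᵥ y ∈ D 1) :
    ∃ δ : F, δ * δ = 1 ∧ ∀ (d : F) (a : Fin 2 → F), ∃ b : Fin 2 → F,
      (g : Mat4) *ᵥ phi u w d a = phi u w (d * δ) b := by
  obtain ⟨h00, h01, h10, h11, k00, k10, k01, k11, huu, hww⟩ := pd.vals
  have hsp := (mem_spGL_iff 2 g).1 hgS
  have hgu : ∀ j, (g : Mat4) *ᵥ u j = ff ((g : Mat4) *ᵥ u j) (w 0) • u 0 +
      ff ((g : Mat4) *ᵥ u j) (w 1) • u 1 := fun j => pd.expU _ (hU _ (pd.hu j))
  have hgw : ∀ j, (g : Mat4) *ᵥ w j = ff (u 0) ((g : Mat4) *ᵥ w j) • w 0 +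
      ff (u 1) ((g : Mat4) *ᵥ w j) • w 1 := fun j => pd.expW _ (hW _ (pd.hw j))
  set A00 := ff ((g : Mat4) *ᵥ u 0) (w 0)
  set A10 := ff ((g : Mat4) *ᵥ u 0) (w 1)
  set A01 := ff ((g : Mat4) *ᵥ u 1) (w 0)
  set A11 := ff ((g : Mat4) *ᵥ u 1) (w 1)
  set C00 := ff (u 0) ((g : Mat4) *ᵥ w 0)
  set C10 := ff (u 1) ((g : Mat4) *ᵥ w 0)
  set C01 := ff (u 0) ((g : Mat4) *ᵥ w 1)
  set C11 := ff (u 1) ((g : Mat4) *ᵥ w 1)
  have hu0 : (g : Mat4) *ᵥ u 0 = A00 • u 0 + A10 • u 1 := hgu 0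
  have hu1 : (g : Mat4) *ᵥ u 1 = A01 • u 0 + A11 • u 1 := hgu 1
  have hw0 : (g : Mat4) *ᵥ w 0 = C00 • w 0 + C10 • w 1 := hgw 0
  have hw1 : (g : Mat4) *ᵥ w 1 = C01 • w 0 + C11 • w 1 := hgw 1
  have key : ∀ (a0 a1 c0 c1 : F), ff (a0 • u 0 + a1 • u 1) (c0 • w 0 + c1 • w 1) = a0 * c0 + a1 * c1 := by
    intro a0 a1 c0 c1
    simp only [sympForm_add_left, sympForm_add_right, sympForm_smul_left, sympForm_smul_right, h00,
      h01, h10, h11]
    ring
  have e1 : A00 * C00 + A10 * C10 = 1 := by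
    have := hsp (u 0) (w 0)
    rw [hu0, hw0, key, h00] at this
    exact this
  have e2 : A00 * C01 + A10 * C11 = 0 := by
    have := hsp (u 0) (w 1)
    rw [hu0, hw1, key, h01] at this
    exact this
  have e3 : A01 * C00 + A11 * C10 = 0 := by
    have := hsp (u 1) (w 0)
    rw [hu1, hw0, key, h10] at this
    exact this
  have e4 : A01 * C01 + A11 * C11 = 1 := by
    have := hsp (u 1) (w 1)
    rw [hu1, hw1, key, h11] at this
    exact this
  obtain ⟨δ, hδ2, c00, c10, c01, c11⟩ := cramer3 hq e1 e2 e3 e4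
  refine ⟨δ, hδ2, fun d a => ⟨![a 0 * A00 + a 1 * A01, a 0 * A10 + a 1 * A11], ?_⟩⟩
  rw [phi_apply, phi_apply, Matrix.mulVec_add, Matrix.mulVec_smul, Matrix.mulVec_smul,
    Matrix.mulVec_add, Matrix.mulVec_sub, Matrix.mulVec_smul, Matrix.mulVec_smul, hu0, hu1, hw0, hw1,
    c00, c10, c01, c11]
  simp only [Matrix.cons_val_zero, Matrix.cons_val_one]
  module

include hq pd in
/-- elements interchanging the two isotropic planes -/
theorem swap_maps {g : GL4} (hgS : g ∈ spGL 2 F) (hU : ∀ x ∈ D 0, (g : Mat4) *ᵥ x ∈ D 1)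
    (hW : ∀ y ∈ D 1, (g : Mat4) *ᵥ y ∈ D 0) :
    ∃ δ : F, δ * δ = 1 ∧ ∀ (d : F), d * d = 1 → ∀ (a : Fin 2 → F), ∃ b : Fin 2 → F,
      (g : Mat4) *ᵥ phi u w d a = phi u w (d * δ) b := by
  obtain ⟨h00, h01, h10, h11, k00, k10, k01, k11, huu, hww⟩ := pd.vals
  have hsp := (mem_spGL_iff 2 g).1 hgS
  have hgu : ∀ j, (g : Mat4) *ᵥ u j = ff (u 0) ((g : Mat4) *ᵥ u j) • w 0 +
      ff (u 1) ((g : Mat4) *ᵥ u j) • w 1 := fun j => pd.expW _ (hU _ (pd.hu j))
  have hgw : ∀ j, (g : Mat4) *ᵥ w j = ff ((g : Mat4) *ᵥ w j) (w 0) • u 0 +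
      ff ((g : Mat4) *ᵥ w j) (w 1) • u 1 := fun j => pd.expU _ (hW _ (pd.hw j))
  set B00 := ff (u 0) ((g : Mat4) *ᵥ u 0)
  set B10 := ff (u 1) ((g : Mat4) *ᵥ u 0)
  set B01 := ff (u 0) ((g : Mat4) *ᵥ u 1)
  set B11 := ff (u 1) ((g : Mat4) *ᵥ u 1)
  set E00 := ff ((g : Mat4) *ᵥ w 0) (w 0)
  set E10 := ff ((g : Mat4) *ᵥ w 0) (w 1)
  set E01 := ff ((g : Mat4) *ᵥ w 1) (w 0)
  set E11 := ff ((g : Mat4) *ᵥ w 1) (w 1)
  have hu0 : (g : Mat4) *ᵥ u 0 = B00 • w 0 + B10 • w 1 := hgu 0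
  have hu1 : (g : Mat4) *ᵥ u 1 = B01 • w 0 + B11 • w 1 := hgu 1
  have hw0 : (g : Mat4) *ᵥ w 0 = E00 • u 0 + E10 • u 1 := hgw 0
  have hw1 : (g : Mat4) *ᵥ w 1 = E01 • u 0 + E11 • u 1 := hgw 1
  have key : ∀ (a0 a1 c0 c1 : F), ff (a0 • w 0 + a1 • w 1) (c0 • u 0 + c1 • u 1) = -(a0 * c0 + a1 * c1) := by
    intro a0 a1 c0 c1
    simp only [sympForm_add_left, sympForm_add_right, sympForm_smul_left, sympForm_smul_right, k00,
      k01, k10, k11]
    ring
  have e1 : B00 * (-E00) + B10 * (-E10) = 1 := by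
    have := hsp (u 0) (w 0)
    rw [hu0, hw0, key, h00] at this
    linear_combination this
  have e2 : B00 * (-E01) + B10 * (-E11) = 0 := by
    have := hsp (u 0) (w 1)
    rw [hu0, hw1, key, h01] at this
    linear_combination this
  have e3 : B01 * (-E00) + B11 * (-E10) = 0 := by
    have := hsp (u 1) (w 0)
    rw [hu1, hw0, key, h10] at this
    linear_combination this
  have e4 : B01 * (-E01) + B11 * (-E11) = 1 := by
    have := hsp (u 1) (w 1)
    rw [hu1, hw1, key, h11] at this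
    linear_combination this
  obtain ⟨δ, hδ2, c00, c10, c01, c11⟩ := cramer3 hq e1 e2 e3 e4
  have c00' : E00 = -(δ * B11) := by linear_combination -c00
  have c10' : E10 = δ * B01 := by linear_combination -c10
  have c01' : E01 = δ * B10 := by linear_combination -c01
  have c11' : E11 = -(δ * B00) := by linear_combination -c11
  refine ⟨δ, hδ2, fun d hd a => ⟨![d * δ * (a 0 * B10 + a 1 * B11), -(d * δ * (a 0 * B00 + a 1 * B01))], ?_⟩⟩
  have hdd : d * δ * (d * δ) = 1 := by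
    have : d * δ * (d * δ) = (d * d) * (δ * δ) := by ring
    rw [this, hd, hδ2, one_mul]
  rw [phi_apply, phi_apply, Matrix.mulVec_add, Matrix.mulVec_smul, Matrix.mulVec_smul,
    Matrix.mulVec_add, Matrix.mulVec_sub, Matrix.mulVec_smul, Matrix.mulVec_smul, hu0, hu1, hw0, hw1,
    c00', c10', c01', c11']
  simp only [Matrix.cons_val_zero, Matrix.cons_val_one]
  have rhs : (d * δ * (a 0 * B10 + a 1 * B11)) • (u 0 + (d * δ) • w 1) +
      -(d * δ * (a 0 * B00 + a 1 * B01)) • (u 1 - (d * δ) • w 0) =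
      (d * δ * (a 0 * B10 + a 1 * B11)) • u 0 - (d * δ * (a 0 * B00 + a 1 * B01)) • u 1 +
      (d * δ * (d * δ)) • ((a 0 * B00 + a 1 * B01) • w 0 + (a 0 * B10 + a 1 * B11) • w 1) := by
    module
  rw [rhs, hdd, one_smul]
  module

include hq pd in
/-- the stabiliser of the pair of isotropic planes stabilises the pair of non-degenerate planes -/
theorem stab_pair_le : decompositionStabilizer D ⊓ spGL 2 F ≤ decompositionStabilizer (Dp u w) := by
  have h2 := two_ne_zero3 hq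
  have hDp := (Dp_nondeg pd h2).decomp
  rintro g ⟨hgD, hgS⟩
  have hσ : ∀ δ : F, δ * δ = 1 → (∀ i (a : Fin 2 → F), ∃ b : Fin 2 → F,
      (g : Mat4) *ᵥ phi u w (sgn F i) a = phi u w (sgn F i * δ) b) →
      g ∈ decompositionStabilizer (Dp u w) := by
    intro δ hδ2 hmap
    have hδ : δ = 1 ∨ δ = -1 := by
      have : (δ - 1) * (δ + 1) = 0 := by linear_combination hδ2
      rcases mul_eq_zero.mp this with h | h
      · left; exact sub_eq_zero.mp h
      · right; exact eq_neg_of_add_eq_zero_left h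
    rcases hδ with rfl | rfl
    · apply Cfsg.Agent.Lib.Helper5.SpPairMax.mem_decompStab_of_le' hDp g 1
      intro i x hx
      obtain ⟨a, rfl⟩ := (mem_Dp u w i _).1 hx
      obtain ⟨b, hb⟩ := hmap i a
      rw [hb, mul_one]
      exact (mem_Dp u w i _).2 ⟨b, rfl⟩
    · apply Cfsg.Agent.Lib.Helper5.SpPairMax.mem_decompStab_of_le' hDp g (Equiv.swap 0 1)
      intro i x hx
      obtain ⟨a, rfl⟩ := (mem_Dp u w i _).1 hx
      obtain ⟨b, hb⟩ := hmap i a
      rw [hb]
      have : sgn F i * -1 = sgn F (Equiv.swap 0 1 i) := by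
        fin_cases i <;> simp [sgn]
      rw [this]
      exact (mem_Dp u w _ _).2 ⟨b, rfl⟩
  rcases Cfsg.Agent.Lib.Helper5.SpPairMax.stab_cases g hgD with ⟨hU, hW⟩ | ⟨hU, hW⟩
  · obtain ⟨δ, hδ2, hmap⟩ := fix_maps hq pd hgS hU hW
    exact hσ δ hδ2 fun i a => hmap _ a
  · obtain ⟨δ, hδ2, hmap⟩ := swap_maps hq pd hgS hU hW
    exact hσ δ hδ2 fun i a => hmap _ (sgn_mul_self i) a

end stab

/-- over the field with three elements the stabiliser of a pair of totally isotropic planes lies in the stabiliser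
of a pair of non-degenerate planes -/
theorem nondeg_of_pair_three [Fintype F] (hq : Fintype.card F = 3) {D : Fin 2 → Submodule F V4}
    (hD : IsMDecomposition 2 D) (hts : ∀ i, IsTotallySingularFor (sympForm 2 F) (D i)) :
    ∃ D' : Fin 2 → Submodule F V4, IsNondegenerateMDecomposition (sympForm 2 F) 2 D' ∧
      decompositionStabilizer D ⊓ spGL 2 F ≤ decompositionStabilizer D' := by
  obtain ⟨u, w, pd⟩ := exists_pairData hD hts
  exact ⟨Dp u w, Dp_nondeg pd (two_ne_zero3 hq), stab_pair_le hq pd⟩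

end Cfsg.Agent.Lib.Helper4.MaxS
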