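import Mathlib
import Cfsg.Prelude
import Cfsg.Agent.Lib.Helper4.MaxS10
import Cfsg.Agent.Lib.Helper4.MaxS24
import Cfsg.Agent.Lib.Helper4.MaxS25
import Cfsg.Agent.Lib.Helper8.SpA0

set_option autoImplicit false
set_option maxHeartbeats 4000000
set_option maxRecDepth 100000
set_option linter.unusedVariables false
set_option linter.unusedSectionVars false
set_option linter.style.haveILetI false
set_option linter.deprecated false

/-! The possible types of a maximal subgroup of the symplectic group, from the refined form of the subgroup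
structure theorem (the dimension is recorded in class 6), and the maximal subgroups of the symplectic group of
dimension four over a field of odd order. -/

namespace Cfsg.Agent.Lib.Helper4.MaxS

open Matrix Cfsg Cfsg.Geo Module
open Cfsg.Agent.Lib.Helper5.SympTv Cfsg.Agent.Lib.Helper5.SympGen
  Cfsg.Agent.Lib.Helper5.SympBridge Cfsg.Agent.Lib.Helper5.SpCentres
  Cfsg.Agent.Lib.Helper5.SpSingularMax

universe u

variable {F : Type u} [Field F] {m : ℕ}

local notation "V" => (Fin m ⊕ Fin m → F)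
local notation "GLV" => Matrix.GeneralLinearGroup (Fin m ⊕ Fin m) F
local notation "MatV" => Matrix (Fin m ⊕ Fin m) (Fin m ⊕ Fin m) F

/-- the possible types of a maximal subgroup of the symplectic group -/
theorem cases_of_max_r [Fintype F] (hm : 2 ≤ m) (H : Subgroup GLV)
    (hH : IsMaximalIn (spGL m F) H)
    (hA : (∃ M : Subgroup GLV, Cfsg.Agent.Lib.Helper8.Asch.ISC m F M ∧ H ≤ M) ∨
      InSymplecticResidualClass H) :
    (∃ W : Submodule F V, W ≠ ⊥ ∧ IsTotallySingularFor (sympForm m F) W ∧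
      H = subspaceStabilizer W ⊓ spGL m F) ∨
    (∃ W : Submodule F V, W ≠ ⊥ ∧ IsNondegenerateOn (sympForm m F) W ∧ finrank F W < m ∧
      Even (finrank F W) ∧ H = subspaceStabilizer W ⊓ spGL m F) ∨
    (∃ (t k : ℕ) (D : Fin t → Submodule F V), IsNondegenerateMDecomposition (sympForm m F) k D ∧
      t * k = 2 * m ∧ Even k ∧ ¬ (k = 2 ∧ Fintype.card F = 2) ∧
      H = decompositionStabilizer D ⊓ spGL m F) ∨
    (Odd (Fintype.card F) ∧ ∃ D : Fin 2 → Submodule F V, IsMDecomposition m D ∧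
      (∀ i, IsTotallySingularFor (sympForm m F) (D i)) ∧
      H = decompositionStabilizer D ⊓ spGL m F) ∨
    (∃ (F₀ : Subfield F) (r : ℕ) (P : GLV) (ζ : F), r.Prime ∧
      Fintype.card F = Nat.card F₀ ^ r ∧ ζ ≠ 0 ∧ IsFormRationalStructure (sympForm m F) F₀ ζ P ∧
      H = subfieldSubgroup F₀ P ⊓ spGL m F) ∨
    (∃ (R : Subgroup GLV) (p k : ℕ), 2 * m = 2 ^ k ∧ IsSymplecticTypeGroup 2 R ∧
      ActsAbsolutelyIrreducibly (matrixSet R) ∧ R ≤ similarityGroup (sympForm m F) ∧ p.Prime ∧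
      Odd p ∧ Fintype.card F = p ∧ Nat.card R = 2 ^ (1 + 2 * k) ∧
      Nat.card (Subgroup.center R) = 2 ∧ IsOfMinusType k R ∧
      H = subgroupNormalizer R ⊓ spGL m F) ∨
    (¬ Odd (Fintype.card F) ∧ ∃ Q : V → F, IsNondegenerateQuadraticForm Q ∧
      (∀ u v, QuadraticMap.polar Q u v = sympForm m F u v) ∧
      H = quadSimilarityGroup Q ⊓ spGL m F) ∨
    (∃ (r : ℕ) (K : Subalgebra F MatV), r.Prime ∧ r ∣ 2 * m ∧ (r = 2 → Even m) ∧
      IsFieldSubalgebra r K ∧ IsSelfAdjointFor (sympForm m F) K ∧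
      (∀ k ∈ K, ∀ v, sympForm m F (k *ᵥ v) v = 0) ∧ H = subalgebraNormalizer K ⊓ spGL m F) ∨
    (Odd (Fintype.card F) ∧ ∃ K : Subalgebra F MatV, IsFieldSubalgebra 2 K ∧
      IsAdjointClosedFor (sympForm m F) K ∧ ¬ IsSelfAdjointFor (sympForm m F) K ∧
      H = subalgebraNormalizer K ⊓ spGL m F) ∨
    (Odd (Fintype.card F) ∧ ∃ (n₁ n₂ : ℕ) (e : (Fin m ⊕ Fin m) ≃ Fin n₁ × Fin n₂) (P : GLV)
      (f₁ : (Fin n₁ → F) → (Fin n₁ → F) → F) (f₂ : (Fin n₂ → F) → (Fin n₂ → F) → F),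
      3 ≤ n₂ ∧ n₁ * n₂ = 2 * m ∧ Even n₁ ∧ IsSymplecticForm f₁ ∧ IsSymmetricForm f₂ ∧
      IsTensorFormStructure id (sympForm m F) f₁ f₂ e P ∧
      H = tensorProductSubgroup n₁ n₂ e P ⊓ spGL m F) ∨
    (Odd (Fintype.card F) ∧ ∃ (k t : ℕ) (e : (Fin m ⊕ Fin m) ≃ (Fin t → Fin k)) (P : GLV)
      (f₁ : (Fin k → F) → (Fin k → F) → F), Odd t ∧ 3 ≤ t ∧ ¬ (Fintype.card F = 3 ∧ k = 2) ∧
      k ^ t = 2 * m ∧ Even k ∧ IsSymplecticForm f₁ ∧
      IsTensorPowerFormStructure id (sympForm m F) f₁ e P ∧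
      H ≤ tensorWreathSubgroup k t e P ⊓ spGL m F) ∨
    InSymplecticResidualClass H := by
  classical
  rcases hA with ⟨M, hM, hle⟩ | hres
  swap
  · iterate 11 right
    exact hres
  rcases hM with hpart | ⟨r, K, hr, hK, hsa, halt, rfl⟩ | ⟨K, hodd, hK, hac, hnsa, rfl⟩ |
    ⟨n₁, n₂, e, P, f₁, f₂, hodd, h3, hf₁, hf₂, hten, rfl⟩ |
    ⟨k, t, e, P, f₁, hodd, hot, h3t, hex, hf₁, hten, rfl⟩
  · rcases hpart with ⟨W, h0, hW, rfl⟩ | ⟨W, h0, hW, hdim, rfl⟩ | ⟨t, k, D, hD, rfl⟩ |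
      ⟨D, hodd, hD, hts, rfl⟩ | ⟨F₀, r, P, ζ, hr, hcard, hζ, hrat, rfl⟩ |
      ⟨R, p, k, h2m, hR, hirr, hsim, hp, hpodd, hcard, hcR, hcZ, hminus, rfl⟩ |
      ⟨Q, heven, hQ, hpol, rfl⟩
    · left
      exact ⟨W, h0, hW, eq_of_le_inf hH hle (not_le_singular W h0 hW)⟩
    · right; left
      exact ⟨W, h0, hW, hdim, even_finrank_of_nondegOn W hW,
        eq_of_le_inf hH hle (not_le_nondeg W h0 hW hdim)⟩
    · obtain ⟨htk, hk⟩ := decomp_params hD
      by_cases hex : k = 2 ∧ Fintype.card F = 2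
      · -- diversion to the quadratic form
        obtain ⟨rfl, hq⟩ := hex
        obtain ⟨Q, hQ, hpol, hstab⟩ := exists_quad_of_planes hq hD
        iterate 6 right
        left
        refine ⟨by rw [hq]; decide, Q, hQ, hpol, ?_⟩
        exact eq_inf_of_le hH ((hle.trans inf_le_left).trans hstab) (not_le_quadSim hm hQ hpol)
      · right; right; left
        exact ⟨t, k, D, hD, htk, hk, hex, eq_of_le_inf hH hle (not_le_decomp hD hex)⟩
    · iterate 3 right
      left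
      exact ⟨hodd, D, hD, hts, eq_of_le_inf hH hle (not_le_pair hD hts)⟩
    · iterate 4 right
      left
      exact ⟨F₀, r, P, ζ, hr, hcard, hζ, hrat, eq_of_le_inf hH hle
        (not_le_subfield (by omega) F₀ (subfield_ne_top' F₀ hr hcard) P)⟩
    · iterate 5 right
      left
      exact ⟨R, p, k, h2m, hR, hirr, hsim, hp, hpodd, hcard, hcR, hcZ, hminus,
        eq_of_le_inf hH hle (not_le_class6 hm (by rw [hcard]; exact hpodd) hR.pGroup hirr hsim)⟩
    · iterate 6 right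
      left
      exact ⟨heven, Q, hQ, hpol, eq_of_le_inf hH hle (not_le_quadSim hm hQ hpol)⟩
  · iterate 7 right
    left
    refine ⟨r, K, hr, field_dvd hr.pos hK, ?_, hK, hsa, halt,
      eq_of_le_inf hH hle (not_le_fieldNormalizer hm hr.two_le hK)⟩
    rintro rfl
    exact even_of_selfAdjoint_two hK hsa halt
  · iterate 8 right
    left
    exact ⟨hodd, K, hK, hac, hnsa,
      eq_of_le_inf hH hle (not_le_fieldNormalizer hm (le_refl 2) hK)⟩
  · iterate 9 right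
    left
    have hcard := tensor_card e
    have hev := even_of_symplecticForm hf₁
    have hn₁ : 2 ≤ n₁ := by
      obtain ⟨j, hj⟩ := hev
      have : n₁ ≠ 0 := by
        rintro rfl
        omega
      omega
    exact ⟨hodd, n₁, n₂, e, P, f₁, f₂, h3, hcard, hev, hf₁, hf₂, hten,
      eq_of_le_inf hH hle (not_le_tensor hn₁ (by omega) e P)⟩
  · iterate 10 right
    left
    exact ⟨hodd, k, t, e, P, f₁, hot, h3t, hex, wreath_card e, even_of_symplecticForm hf₁, hf₁,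
      hten, hle⟩

/-- the maximal subgroups of the symplectic group of dimension four over a field of odd order -/
theorem row_sp4_odd [Fintype F]
    (hA : ∀ H : Subgroup (Matrix.GeneralLinearGroup (Fin 2 ⊕ Fin 2) F), H ≤ spGL 2 F →
      (∃ M : Subgroup (Matrix.GeneralLinearGroup (Fin 2 ⊕ Fin 2) F),
        Cfsg.Agent.Lib.Helper8.Asch.ISC 2 F M ∧ H ≤ M) ∨ InSymplecticResidualClass H)
    (hodd : Odd (Fintype.card F)) (H : Subgroup (Matrix.GeneralLinearGroup (Fin 2 ⊕ Fin 2) F))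
    (hH : IsMaximalIn (spGL 2 F) H) :
    (∃ W : Submodule F (Fin 2 ⊕ Fin 2 → F), W ≠ ⊥ ∧ IsTotallySingularFor (sympForm 2 F) W ∧
      H = subspaceStabilizer W ⊓ spGL 2 F) ∨
    (∃ D : Fin 2 → Submodule F (Fin 2 ⊕ Fin 2 → F),
      IsNondegenerateMDecomposition (sympForm 2 F) 2 D ∧
      H = decompositionStabilizer D ⊓ spGL 2 F) ∨
    (5 ≤ Fintype.card F ∧ ∃ D : Fin 2 → Submodule F (Fin 2 ⊕ Fin 2 → F), IsMDecomposition 2 D ∧
      (∀ i, IsTotallySingularFor (sympForm 2 F) (D i)) ∧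
      H = decompositionStabilizer D ⊓ spGL 2 F) ∨
    (∃ K : Subalgebra F (Matrix (Fin 2 ⊕ Fin 2) (Fin 2 ⊕ Fin 2) F), IsFieldSubalgebra 2 K ∧
      IsSelfAdjointFor (sympForm 2 F) K ∧
      (∀ k ∈ K, ∀ v : (Fin 2 ⊕ Fin 2 → F), (sympForm 2 F) (Matrix.mulVec k v) v = 0) ∧
      H = subalgebraNormalizer K ⊓ spGL 2 F) ∨
    (5 ≤ Fintype.card F ∧ ∃ K : Subalgebra F (Matrix (Fin 2 ⊕ Fin 2) (Fin 2 ⊕ Fin 2) F),
      IsFieldSubalgebra 2 K ∧ IsAdjointClosedFor (sympForm 2 F) K ∧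
      ¬ IsSelfAdjointFor (sympForm 2 F) K ∧ H = subalgebraNormalizer K ⊓ spGL 2 F) ∨
    (∃ (F₀ : Subfield F) (r : ℕ) (P : Matrix.GeneralLinearGroup (Fin 2 ⊕ Fin 2) F) (ζ : F),
      r.Prime ∧ Fintype.card F = Nat.card F₀ ^ r ∧ ζ ≠ 0 ∧
      IsFormRationalStructure (sympForm 2 F) F₀ ζ P ∧ H = subfieldSubgroup F₀ P ⊓ spGL 2 F) ∨
    (∃ (p : ℕ) (R : Subgroup (Matrix.GeneralLinearGroup (Fin 2 ⊕ Fin 2) F)), p.Prime ∧
      Fintype.card F = p ∧ IsSymplecticTypeGroup 2 R ∧ ActsAbsolutelyIrreducibly (matrixSet R) ∧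
      R ≤ similarityGroup (sympForm 2 F) ∧ Nat.card R = 32 ∧ Nat.card (Subgroup.center R) = 2 ∧
      IsOfMinusType 2 R ∧ H = subgroupNormalizer R ⊓ spGL 2 F) ∨
    InSymplecticResidualClass H := by
  have hq1 : 1 < Fintype.card F := Fintype.one_lt_card
  have hq3 : ¬ 5 ≤ Fintype.card F → Fintype.card F = 3 := by
    intro h
    obtain ⟨j, hj⟩ := hodd
    omega
  have hex2 : ¬ ((2 : ℕ) = 2 ∧ Fintype.card F = 2) := by
    rintro ⟨-, h⟩
    obtain ⟨j, hj⟩ := hodd
    omega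
  rcases cases_of_max_r (le_refl 2) H hH (hA H hH.1.le) with
    h | ⟨W, h0, hW, hdim, hev, -⟩ | ⟨t, k, D, hD, htk, hk, -, hHD⟩ | ⟨-, D, hD, hts, hHD⟩ | h |
    ⟨R, p, k, h2m, hR, hirr, hsim, hp, hpodd, hcard, hcR, hcZ, hminus, hHR⟩ | ⟨heven, -⟩ |
    ⟨r, K, hr, hdvd, -, hK, hsa, halt, hHK⟩ | ⟨-, K, hK, hac, hnsa, hHK⟩ |
    ⟨-, n₁, n₂, e, P, f₁, f₂, h3, hn, hev, -⟩ | ⟨-, k, t, e, P, f₁, hot, h3t, -, hkt, hev, -⟩ | h
  · exact Or.inl h
  · exfalso
    obtain ⟨j, hj⟩ := hev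
    have h1 : finrank F W = 0 := by omega
    exact h0 (Submodule.finrank_eq_zero.1 h1)
  · right; left
    have ht := hD.decomp.two_le
    have hkpos := hD.decomp.pos
    obtain ⟨j, hj⟩ := hk
    have hk2 : k = 2 := by
      have : t * (j + j) = 4 := by rw [← hj]; omega
      have hj1 : j = 1 := by
        have hjpos : 0 < j := by omega
        by_contra hne
        have : 2 ≤ j := by omega
        nlinarith
      omega
    subst hk2
    have ht2 : t = 2 := by omega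
    subst ht2
    exact ⟨D, hD, hHD⟩
  · by_cases h5 : 5 ≤ Fintype.card F
    · right; right; left
      exact ⟨h5, D, hD, hts, hHD⟩
    · right; left
      obtain ⟨D', hD', hle⟩ := nondeg_of_pair_three (hq3 h5) hD hts
      refine ⟨D', hD', eq_inf_of_le hH ?_ (not_le_decomp hD' hex2)⟩
      rw [hHD]
      exact hle
  · iterate 5 right
    left
    exact h
  · iterate 6 right
    left
    have hk2 : k = 2 := by
      have : (2 : ℕ) ^ 2 = 2 ^ k := by rw [← h2m]; norm_num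
      exact (Nat.pow_right_injective (le_refl 2) this).symm
    subst hk2
    exact ⟨p, R, hp, hcard, hR, hirr, hsim, by rw [hcR]; norm_num, hcZ, hminus, hHR⟩
  · exact absurd hodd heven
  · iterate 3 right
    left
    obtain rfl := prime_dvd_four hr hdvd
    exact ⟨K, hK, hsa, halt, hHK⟩
  · by_cases h5 : 5 ≤ Fintype.card F
    · iterate 4 right
      left
      exact ⟨h5, K, hK, hac, hnsa, hHK⟩
    · iterate 6 right
      left
      have hq := hq3 h5
      obtain ⟨R, hR, hirr, hsim, hcR, hcZ, hminus, hle⟩ := F3.class6_of_field_three hq K hK hac hnsa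
      refine ⟨3, R, Nat.prime_three, hq, hR, hirr, hsim, hcR, hcZ, hminus,
        eq_inf_of_le hH ?_ (not_le_class6 (le_refl 2) hodd hR.pGroup hirr hsim)⟩
      rw [hHK]
      exact hle
  · exfalso
    obtain ⟨j, hj⟩ := hev
    have : n₁ = 0 ∨ 2 ≤ n₁ := by omega
    rcases this with h0 | h2
    · rw [h0, zero_mul] at hn
      omega
    · nlinarith
  · exfalso
    obtain ⟨j, hj⟩ := hev
    have : k = 0 ∨ 2 ≤ k := by omega
    rcases this with h0 | h2
    · rw [h0, zero_pow (by omega)] at hkt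
      omega
    · have h8 : 2 ^ 3 ≤ k ^ t :=
        (Nat.pow_le_pow_left h2 3).trans (Nat.pow_le_pow_right (by omega) h3t)
      omega
  · iterate 7 right
    exact h

end Cfsg.Agent.Lib.Helper4.MaxS
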