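import Mathlib
import Cfsg.Prelude.Def_SporCoxeter

/-! The McLaughlin group of order 898128000 presented on generators `x`, `y` of the involution centraliser 2.A8 (satisfying the relators of `C2A8`) and an element `t` of order 3 (generated). -/

namespace Cfsg.Agent.Lib.Helper4

namespace McLp

/-- the generators -/
inductive Gen
  | x
  | y
  | t
  deriving DecidableEq

abbrev x : FreeGroup Gen := FreeGroup.of Gen.x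
abbrev y : FreeGroup Gen := FreeGroup.of Gen.y
abbrev t : FreeGroup Gen := FreeGroup.of Gen.t

/-- no Coxeter graph -/
def edges : List (Gen × ℕ × Gen) := []

/-- the relators -/
def extra : List (FreeGroup Gen) := [
  x ^ 7,
  y ^ 7,
  x * x * y * x * y * y * y * x⁻¹ * y * y * x⁻¹ * y,
  x * y * x * y⁻¹ * x⁻¹ * y⁻¹ * y⁻¹ * x⁻¹ * y * x * y * y,
  t ^ 3,
  x * x * y⁻¹ * x * y * y * t⁻¹ * x * y * x⁻¹ * y⁻¹ * x⁻¹ * t⁻¹ * y * x * y⁻¹,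
  x * x * x * y⁻¹ * t * x⁻¹ * x⁻¹ * y⁻¹ * x * y⁻¹ * x * t⁻¹ * y⁻¹ * y⁻¹ * x * y,
  x * x * y * x⁻¹ * y⁻¹ * x * y * x * t⁻¹ * y * y * x * y * x * t⁻¹ * y⁻¹,
  x * x * x * y⁻¹ * x⁻¹ * x⁻¹ * y⁻¹ * x⁻¹ * x⁻¹ * y⁻¹ * x⁻¹ * t⁻¹ * y * x⁻¹ * x⁻¹ * y * t⁻¹,
  x * x * y * x * y⁻¹ * t⁻¹ * x * y * x * x * t * x⁻¹ * t * x * x * y⁻¹ * y⁻¹,
  x * x * y⁻¹ * x⁻¹ * y * x⁻¹ * t * y * x * y * x⁻¹ * x⁻¹ * y * x⁻¹ * t⁻¹ * y⁻¹,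
  x * x * t * x⁻¹ * y * t⁻¹ * y⁻¹ * x⁻¹ * t * x * t⁻¹ * x⁻¹ * y⁻¹ * y⁻¹ * x * y⁻¹,
  x * x * x * y * x⁻¹ * x⁻¹ * y⁻¹ * t⁻¹ * x⁻¹ * y⁻¹ * y⁻¹ * x⁻¹ * x⁻¹ * x⁻¹ * y * x⁻¹ * t,
  x * x * x * x * y⁻¹ * x⁻¹ * t⁻¹ * y * x⁻¹ * x⁻¹ * x⁻¹ * y * y * x⁻¹ * t⁻¹ * x * t⁻¹,
  x * x * y * x * y * x * y⁻¹ * x * x * y⁻¹ * t * x⁻¹ * y⁻¹ * y⁻¹ * x⁻¹ * x⁻¹ * t * y⁻¹ ]

end McLp

end Cfsg.Agent.Lib.Helper4
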