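import Cfsg.Prelude.Def_OddOrderLocal
import Cfsg.Agent.Lib.Helper4.NilSeries
import Cfsg.Agent.Lib.Helper4.HallReg

/-! Metacyclic groups via generators; the core step of Blackburn's lemma. -/
set_option autoImplicit false
universe u
open scoped commutatorElement

namespace Cfsg.Agent.Lib.Helper4.Metacyc

open Cfsg.Agent.Lib.Helper1 Cfsg.Agent.Lib.Helper3

section gen

variable {X : Type u} [Group X]

/-- Every element is `a ^ i * b ^ j`. -/
def Gen (a b : X) : Prop := ∀ x : X, ∃ i j : ℤ, x = a ^ i * b ^ j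

theorem exists_gen (h : Cfsg.IsMetacyclic X) :
    ∃ a b : X, Gen a b ∧ (Subgroup.zpowers a).Normal := by
  obtain ⟨N, hN, hNc, hQc⟩ := h
  obtain ⟨⟨a, haN⟩, ha⟩ := hNc.exists_generator
  obtain ⟨q, hq⟩ := hQc.exists_generator
  obtain ⟨b, rfl⟩ := QuotientGroup.mk_surjective q
  have hNa : N = Subgroup.zpowers a := by
    apply le_antisymm
    · intro n hn
      obtain ⟨k, hk⟩ := Subgroup.mem_zpowers_iff.mp (ha ⟨n, hn⟩)
      have h1 := congrArg Subtype.val hk
      rw [Subgroup.coe_zpow] at h1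
      exact Subgroup.mem_zpowers_iff.mpr ⟨k, h1⟩
    · rw [Subgroup.zpowers_le]; exact haN
  refine ⟨a, b, ?_, hNa ▸ hN⟩
  intro x
  obtain ⟨j, hj⟩ := Subgroup.mem_zpowers_iff.mp (hq (x : X ⧸ N))
  have h1 : (b ^ j)⁻¹ * x ∈ N := by
    rw [← QuotientGroup.eq, QuotientGroup.mk_zpow]; exact hj
  have h2 : b ^ j * ((b ^ j)⁻¹ * x) * (b ^ j)⁻¹ ∈ N := hN.conj_mem _ h1 _
  rw [hNa] at h2
  obtain ⟨i, hi⟩ := Subgroup.mem_zpowers_iff.mp h2
  refine ⟨i, j, ?_⟩
  rw [hi]; group

theorem isMetacyclic_of_gen (a b : X) (h : Gen a b) (hn : (Subgroup.zpowers a).Normal) :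
    Cfsg.IsMetacyclic X := by
  refine ⟨Subgroup.zpowers a, hn, inferInstance, ?_⟩
  rw [isCyclic_iff_exists_zpowers_eq_top]
  refine ⟨QuotientGroup.mk b, ?_⟩
  rw [eq_top_iff]
  intro q _
  obtain ⟨x, rfl⟩ := QuotientGroup.mk_surjective q
  obtain ⟨i, j, rfl⟩ := h x
  refine Subgroup.mem_zpowers_iff.mpr ⟨j, ?_⟩
  rw [QuotientGroup.mk_mul,
    (QuotientGroup.eq_one_iff _).mpr (zpow_mem (Subgroup.mem_zpowers a) i), one_mul,
    QuotientGroup.mk_zpow]

theorem isMetacyclic_of_surjective {Y : Type u} [Group Y] (f : X →* Y)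
    (hf : Function.Surjective f) (h : Cfsg.IsMetacyclic X) : Cfsg.IsMetacyclic Y := by
  obtain ⟨a, b, hgen, hn⟩ := exists_gen h
  refine isMetacyclic_of_gen (f a) (f b) ?_ ?_
  · intro y
    obtain ⟨x, rfl⟩ := hf y
    obtain ⟨i, j, rfl⟩ := hgen x
    exact ⟨i, j, by rw [map_mul, map_zpow, map_zpow]⟩
  · have := hn.map f hf
    rwa [MonoidHom.map_zpowers] at this

theorem normal_of_gens [Finite X] (C : Subgroup X) (S : Set X) (hS : Subgroup.closure S = ⊤)
    (h : ∀ s ∈ S, ∀ n ∈ C, s * n * s⁻¹ ∈ C) : C.Normal := by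
  constructor
  intro n hn g
  have hg : g ∈ (Subgroup.closure S).toSubmonoid := by rw [hS]; exact Subgroup.mem_top g
  rw [Subgroup.closure_toSubmonoid_of_finite] at hg
  induction hg using Submonoid.closure_induction generalizing n with
  | mem s hs => exact h s hs n hn
  | one => simpa using hn
  | mul x y _ _ hx hy =>
    have : x * y * n * (x * y)⁻¹ = x * (y * n * y⁻¹) * x⁻¹ := by group
    rw [this]; exact hx _ (hy n hn)

/-- `℧₁(G') γ₃(G)`. -/
def N0 (p : ℕ) (X : Type u) [Group X] : Subgroup X :=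
  Cfsg.powerClosure p 1 (commutator X) ⊔ ⁅commutator X, (⊤ : Subgroup X)⁆

instance N0_normal (p : ℕ) : (N0 p X).Normal := by
  unfold N0
  haveI : (Cfsg.powerClosure p 1 (commutator X)).Normal := Reg.powerClosure_normal p 1 _
  infer_instance

theorem map_commutator_top {Y : Type u} [Group Y] (f : X →* Y) (hf : Function.Surjective f) :
    (commutator X).map f = commutator Y := by
  rw [commutator_def, commutator_def, Subgroup.map_commutator,
    Subgroup.map_top_of_surjective f hf]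

theorem N0_map (p : ℕ) {Y : Type u} [Group Y] (f : X →* Y) (hf : Function.Surjective f) :
    (N0 p X).map f = N0 p Y := by
  unfold N0
  rw [Subgroup.map_sup, powerClosure_map, Subgroup.map_commutator, map_commutator_top f hf,
    Subgroup.map_top_of_surjective f hf]

end gen

end Cfsg.Agent.Lib.Helper4.Metacyc
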