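import Cfsg.Agent.Lib.Helper4.Metacyc1

/-! The core step of Blackburn's lemma: if `G/⟨z⟩` is metacyclic for a central element `z` of order
`p` lying in `℧₁(G')γ₃(G)`, then `G` is metacyclic. -/
set_option autoImplicit false
universe u
open scoped commutatorElement

namespace Cfsg.Agent.Lib.Helper4.Metacyc

open Cfsg.Agent.Lib.Helper1 Cfsg.Agent.Lib.Helper3

variable {G : Type u} [Group G]

theorem powerClosure_le (p n : ℕ) (K : Subgroup G) : Cfsg.powerClosure p n K ≤ K := by
  unfold Cfsg.powerClosure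
  rw [Subgroup.closure_le]
  rintro y ⟨x, hx, rfl⟩
  exact pow_mem hx _

theorem conj_zpow' (g x : G) (s : ℤ) : g * x ^ s * g⁻¹ = (g * x * g⁻¹) ^ s := by
  rw [conj_zpow]

variable [Finite G] {p : ℕ} [hp : Fact p.Prime]

theorem core (hG : IsPGroup p G) (z : G) (hzc : z ∈ Subgroup.center G) (hzo : orderOf z = p)
    (hzN : z ∈ N0 p G) [hZn : (Subgroup.zpowers z).Normal]
    (hm : Cfsg.IsMetacyclic (G ⧸ Subgroup.zpowers z)) : Cfsg.IsMetacyclic G := by
  obtain ⟨a', b', hgen', hn'⟩ := exists_gen hm
  obtain ⟨a, rfl⟩ := QuotientGroup.mk_surjective a'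
  obtain ⟨b, rfl⟩ := QuotientGroup.mk_surjective b'
  have hzcomm : ∀ g : G, g * z = z * g := fun g => Subgroup.mem_center_iff.mp hzc g
  have hzm : ∀ (m : ℤ) (x : G), x * z ^ m = z ^ m * x :=
    fun m x => Subgroup.mem_center_iff.mp (zpow_mem hzc m) x
  have hgen : ∀ g : G, ∃ i j m : ℤ, g = a ^ i * b ^ j * z ^ m := by
    intro g
    obtain ⟨i, j, hij⟩ := hgen' (g : G ⧸ Subgroup.zpowers z)
    have h1 : (a ^ i * b ^ j)⁻¹ * g ∈ Subgroup.zpowers z := by
      rw [← QuotientGroup.eq, hij, QuotientGroup.mk_mul, QuotientGroup.mk_zpow,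
        QuotientGroup.mk_zpow]
    obtain ⟨m, hm⟩ := Subgroup.mem_zpowers_iff.mp h1
    exact ⟨i, j, m, by rw [hm]; group⟩
  have hconj : ∀ g : G, ∃ i m : ℤ, g * a * g⁻¹ = a ^ i * z ^ m := by
    intro g
    have h1 : ((g : G ⧸ Subgroup.zpowers z) * (a : G ⧸ Subgroup.zpowers z) *
        (g : G ⧸ Subgroup.zpowers z)⁻¹) ∈ Subgroup.zpowers (a : G ⧸ Subgroup.zpowers z) :=
      hn'.conj_mem _ (Subgroup.mem_zpowers _) _
    obtain ⟨i, hi⟩ := Subgroup.mem_zpowers_iff.mp h1
    have h2 : (a ^ i)⁻¹ * (g * a * g⁻¹) ∈ Subgroup.zpowers z := by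
      rw [← QuotientGroup.eq, QuotientGroup.mk_zpow, hi, QuotientGroup.mk_mul,
        QuotientGroup.mk_mul, QuotientGroup.mk_inv]
    obtain ⟨m, hm⟩ := Subgroup.mem_zpowers_iff.mp h2
    exact ⟨i, m, by rw [hm]; group⟩
  by_cases hza : z ∈ Subgroup.zpowers a
  · obtain ⟨t, ht⟩ := Subgroup.mem_zpowers_iff.mp hza
    apply isMetacyclic_of_gen a b
    · intro g
      obtain ⟨i, j, m, rfl⟩ := hgen g
      refine ⟨i + t * m, j, ?_⟩
      rw [mul_assoc, hzm m (b ^ j), ← mul_assoc, ← ht, ← zpow_mul, ← zpow_add]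
    · constructor
      intro n hn g
      obtain ⟨s, rfl⟩ := Subgroup.mem_zpowers_iff.mp hn
      obtain ⟨i, m, him⟩ := hconj g
      rw [conj_zpow', him]
      exact zpow_mem (mul_mem (zpow_mem (Subgroup.mem_zpowers a) i) (zpow_mem hza m)) s
  · exfalso
    obtain ⟨i₀, m₀, hb⟩ := hconj b
    obtain ⟨c, hc⟩ : ∃ c, c = ⁅a, b⁆ := ⟨_, rfl⟩
    have haz : Commute a z := hzcomm a
    obtain ⟨k, l, hckl⟩ : ∃ k l : ℤ, c = a ^ k * z ^ l := by
      refine ⟨1 - i₀, -m₀, ?_⟩
      have h1 : c = a * (b * a * b⁻¹)⁻¹ := by rw [hc, commutatorElement_def]; group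
      have hcz : Commute (a ^ i₀) (z ^ m₀) := haz.zpow_zpow i₀ m₀
      rw [h1, hb, mul_inv_rev, ← hcz.inv_inv.eq, ← mul_assoc, ← zpow_neg, ← zpow_neg,
        ← zpow_one_add, sub_eq_add_neg]
    have hca : Commute c a := by
      rw [hckl]
      exact ((Commute.refl a).zpow_left k).mul_left (haz.symm.zpow_left l)
    have hcz : Commute c z := hzcomm c
    -- conjugation by b
    have hbab : b * a * b⁻¹ = c⁻¹ * a := by rw [hc, commutatorElement_def]; group
    have hbcb : b * c * b⁻¹ = c ^ (1 - k) := by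
      have h1 : b * c * b⁻¹ = (b * a * b⁻¹) ^ k * (b * z ^ l * b⁻¹) := by
        rw [hckl, ← conj_zpow']; group
      have h2 : b * z ^ l * b⁻¹ = z ^ l := by rw [hzm l b]; group
      rw [h1, h2, hbab, (hca.inv_left).mul_zpow, mul_assoc, ← hckl, inv_zpow', ← zpow_add_one]
      congr 1; ring
    have hcb : ⁅c, b⁆ = c ^ k := by
      have h1 : ⁅c, b⁆ = c * (b * c * b⁻¹)⁻¹ := by rw [commutatorElement_def]; group
      rw [h1, hbcb, ← zpow_neg, ← zpow_one_add]
      congr 1; ring
    -- generators
    obtain ⟨S, hS⟩ : ∃ S : Set G, S = {a, z, b} := ⟨_, rfl⟩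
    have haS : a ∈ S := by rw [hS]; simp
    have hzS : z ∈ S := by rw [hS]; simp
    have hbS : b ∈ S := by rw [hS]; simp
    have hcl : Subgroup.closure S = ⊤ := by
      rw [eq_top_iff]
      intro g _
      obtain ⟨i, j, m, rfl⟩ := hgen g
      exact mul_mem (mul_mem (zpow_mem (Subgroup.subset_closure haS) i)
        (zpow_mem (Subgroup.subset_closure hbS) j)) (zpow_mem (Subgroup.subset_closure hzS) m)
    obtain ⟨C, hC⟩ : ∃ C, C = Subgroup.zpowers c := ⟨_, rfl⟩
    have hcC : c ∈ C := hC ▸ Subgroup.mem_zpowers c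
    have hCn : C.Normal := by
      apply normal_of_gens C S hcl
      intro s hs n hn
      rw [hC] at hn
      obtain ⟨t, rfl⟩ := Subgroup.mem_zpowers_iff.mp hn
      rw [conj_zpow']
      apply zpow_mem
      rw [hS] at hs
      rcases hs with rfl | rfl | rfl
      · have : s * c * s⁻¹ = c := by rw [← hca.eq]; group
        rw [this]; exact hcC
      · have : s * c * s⁻¹ = c := by rw [← hcz.eq]; group
        rw [this]; exact hcC
      · rw [hbcb]; exact zpow_mem hcC _
    have hGC : commutator G ≤ C := by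
      rw [commutator_def, ← hcl]
      apply commutator_closure_le S C
      · intro g _ x hx
        exact hCn.conj_mem x hx g
      · have e1 : ⁅a, z⁆ = 1 := commutatorElement_eq_one_iff_commute.mpr haz
        have e2 : ⁅z, a⁆ = 1 := commutatorElement_eq_one_iff_commute.mpr haz.symm
        have e3 : ⁅z, b⁆ = 1 := commutatorElement_eq_one_iff_commute.mpr (hzcomm b).symm
        have e4 : ⁅b, z⁆ = 1 := commutatorElement_eq_one_iff_commute.mpr (hzcomm b)
        have e5 : ⁅b, a⁆ = c⁻¹ := by rw [hc, commutatorElement_inv]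
        intro s hs t ht
        rw [hS] at hs ht
        rcases hs with rfl | rfl | rfl <;> rcases ht with rfl | rfl | rfl
        · rw [commutatorElement_self]; exact one_mem _
        · rw [e1]; exact one_mem _
        · rw [← hc]; exact hcC
        · rw [e2]; exact one_mem _
        · rw [commutatorElement_self]; exact one_mem _
        · rw [e3]; exact one_mem _
        · rw [e5]; exact inv_mem hcC
        · rw [e4]; exact one_mem _
        · rw [commutatorElement_self]; exact one_mem _
    have hcG : c ∈ commutator G := by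
      rw [hc, commutator_def]
      exact Subgroup.commutator_mem_commutator (Subgroup.mem_top a) (Subgroup.mem_top b)
    have hzp : z ^ p = 1 := by rw [← hzo]; exact pow_orderOf_eq_one z
    by_cases hpk : (p : ℤ) ∣ k
    · obtain ⟨k', hk'⟩ := hpk
      haveI := hCn
      obtain ⟨N, hN⟩ : ∃ N, N = Cfsg.powerClosure p 1 C := ⟨_, rfl⟩
      haveI hNn : N.Normal := hN ▸ Reg.powerClosure_normal p 1 C
      have hcp : c ^ p = a ^ (k * p) := by
        rw [hckl, (haz.zpow_zpow k l).mul_pow, ← zpow_natCast (z ^ l), ← zpow_mul, mul_comm l,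
          zpow_mul, zpow_natCast, hzp, one_zpow, mul_one, ← zpow_natCast (a ^ k), ← zpow_mul]
      have hNa : N ≤ Subgroup.zpowers a := by
        rw [hN]
        unfold Cfsg.powerClosure
        rw [Subgroup.closure_le]
        rintro y ⟨x, hx, rfl⟩
        rw [hC] at hx
        obtain ⟨t, rfl⟩ := Subgroup.mem_zpowers_iff.mp hx
        rw [pow_one, ← zpow_natCast, ← zpow_mul, mul_comm, zpow_mul, zpow_natCast, hcp]
        exact zpow_mem (zpow_mem (Subgroup.mem_zpowers a) _) _
      have hckN : c ^ k ∈ N := by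
        rw [hN]
        refine Subgroup.subset_closure ⟨c ^ k', hC ▸ zpow_mem (Subgroup.mem_zpowers c) k', ?_⟩
        rw [pow_one, hk', mul_comm, zpow_mul, zpow_natCast]
      have hN0 : N0 p G ≤ N := by
        unfold N0
        apply sup_le
        · rw [hN]; exact Reg.powerClosure_mono p 1 hGC
        · refine (Subgroup.commutator_mono hGC le_rfl).trans ?_
          rw [hC, Subgroup.zpowers_eq_closure, ← hcl]
          apply Cfsg.Agent.Lib.Helper4.NilSeries.commutator_closure_le
          · rw [Subgroup.normalizer_eq_top]; exact le_top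
          · rw [Subgroup.normalizer_eq_top]; exact le_top
          · intro x hx y hy
            rw [Set.mem_singleton_iff] at hx
            subst hx
            rw [hS] at hy
            rcases hy with rfl | rfl | rfl
            · rw [commutatorElement_eq_one_iff_commute.mpr hca]; exact one_mem _
            · rw [commutatorElement_eq_one_iff_commute.mpr hcz]; exact one_mem _
            · rw [hcb]; exact hckN
      exact hza (hNa (hN0 hzN))
    · obtain ⟨e, he⟩ := (IsPGroup.iff_orderOf.mp hG) c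
      have hprime : Prime (p : ℤ) := Nat.prime_iff_prime_int.mp hp.out
      have hcop : IsCoprime ((p : ℤ) ^ e) k :=
        IsCoprime.pow_left ((Prime.coprime_iff_not_dvd hprime).mpr hpk)
      obtain ⟨u, v, huv⟩ := hcop
      have hcpe : c ^ ((p : ℤ) ^ e) = 1 := by
        have : ((p : ℤ) ^ e) = ((p ^ e : ℕ) : ℤ) := by push_cast; rfl
        rw [this, zpow_natCast, ← he, pow_orderOf_eq_one]
      have hcv : c = (c ^ k) ^ v := by
        have h1 : c = c ^ (u * (p : ℤ) ^ e + v * k) := by rw [huv, zpow_one]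
        rw [zpow_add, mul_comm u, zpow_mul, hcpe, one_zpow, one_mul, mul_comm v, zpow_mul] at h1
        exact h1
      have hcK : c ∈ ⁅commutator G, (⊤ : Subgroup G)⁆ := by
        rw [hcv, ← hcb]
        exact zpow_mem (Subgroup.commutator_mem_commutator hcG (Subgroup.mem_top b)) v
      haveI : Group.IsNilpotent G := hG.isNilpotent
      have hK : commutator G ≤ ⊥ := by
        apply Cfsg.Agent.Lib.Helper4.HallReg.le_of_le_cT_sup (commutator G) ⊥
        rw [sup_bot_eq]
        refine hGC.trans ?_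
        rw [hC, Subgroup.zpowers_le]
        exact hcK
      have hN0 : N0 p G ≤ ⊥ := by
        unfold N0
        apply sup_le
        · exact (powerClosure_le p 1 _).trans hK
        · exact (Subgroup.commutator_le_left _ _).trans hK
      have hz1 : z = 1 := Subgroup.mem_bot.mp (hN0 hzN)
      rw [hz1, orderOf_one] at hzo
      exact hp.out.one_lt.ne hzo

end Cfsg.Agent.Lib.Helper4.Metacyc
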