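import Mathlib

set_option autoImplicit false
set_option linter.unusedVariables false
set_option linter.style.longLine false

/-!
S2140 farm, unit U1: a Fisher-type inequality.  If `G` is 2-transitive on a finite set `X` and
`H ≤ G` is not transitive on `X`, then `|X| ≤ |G : H|`.
-/

namespace Cfsg.Agent.Lib.Helper4.MinDeg

theorem card_le_index_of_not_pretransitive {G X : Type*} [Group G] [Finite G] [MulAction G X]
    [Finite X] (h2 : MulAction.IsMultiplyPretransitive G X 2) (H : Subgroup G)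
    (hH : ¬ MulAction.IsPretransitive H X) : Nat.card X ≤ H.index := by
  classical
  have : Fintype X := Fintype.ofFinite X
  have : Fintype (G ⧸ H) := Fintype.ofFinite _
  obtain ⟨x₀, y₁, hxy⟩ : ∃ x₀ y₁ : X, ∀ h : H, h • x₀ ≠ y₁ := by
    by_contra hcon
    apply hH
    constructor
    intro x y
    by_contra hc2
    apply hcon
    exact ⟨x, y, fun h hh => hc2 ⟨h, hh⟩⟩
  have htr : MulAction.IsPretransitive G X := MulAction.isPretransitive_of_is_two_pretransitive
  have h2' : ∀ {a b c d : X}, a ≠ b → c ≠ d → ∃ g : G, g • a = c ∧ g • b = d :=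
    MulAction.is_two_pretransitive_iff.1 h2
  -- the incidence relation
  obtain ⟨inc, hinc⟩ : ∃ inc : G ⧸ H → X → Prop, ∀ ω z, inc ω z ↔
      ∃ g : G, (QuotientGroup.mk g : G ⧸ H) = ω ∧ g • x₀ = z := ⟨_, fun _ _ => Iff.rfl⟩
  have inc_smul : ∀ (k : G) (ω : G ⧸ H) (z : X), inc (k • ω) (k • z) ↔ inc ω z := by
    intro k ω z
    rw [hinc, hinc]
    constructor
    · rintro ⟨g, hg, hgz⟩
      refine ⟨k⁻¹ * g, ?_, ?_⟩
      · have e : (QuotientGroup.mk (k⁻¹ * g) : G ⧸ H) = k⁻¹ • (QuotientGroup.mk g : G ⧸ H) := rfl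
        rw [e, hg, inv_smul_smul]
      · rw [mul_smul, hgz, inv_smul_smul]
    · rintro ⟨g, hg, hgz⟩
      refine ⟨k * g, ?_, ?_⟩
      · have e : (QuotientGroup.mk (k * g) : G ⧸ H) = k • (QuotientGroup.mk g : G ⧸ H) := rfl
        rw [e, hg]
      · rw [mul_smul, hgz]
  obtain ⟨a, ha⟩ : ∃ a : G ⧸ H → X → ℚ, ∀ ω z, a ω z = if inc ω z then 1 else 0 :=
    ⟨_, fun _ _ => rfl⟩
  have a_smul : ∀ (k : G) (ω : G ⧸ H) (z : X), a (k • ω) (k • z) = a ω z := by
    intro k ω z
    rw [ha, ha]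
    by_cases h : inc ω z
    · rw [if_pos h, if_pos ((inc_smul k ω z).2 h)]
    · rw [if_neg h, if_neg (fun h' => h ((inc_smul k ω z).1 h'))]
  have a_sq : ∀ ω z, a ω z * a ω z = a ω z := by
    intro ω z; rw [ha]; split_ifs <;> simp
  have a_nonneg : ∀ ω z, 0 ≤ a ω z := by
    intro ω z; rw [ha]; split_ifs <;> simp
  have a_le : ∀ ω z, a ω z ≤ 1 := by
    intro ω z; rw [ha]; split_ifs <;> simp
  obtain ⟨c, hc⟩ : ∃ c : X → X → ℚ, ∀ x y, c x y = ∑ ω, a ω x * a ω y := ⟨_, fun _ _ => rfl⟩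
  have c_smul : ∀ (k : G) (x y : X), c (k • x) (k • y) = c x y := by
    intro k x y
    rw [hc, hc, ← Equiv.sum_comp (MulAction.toPerm k : Equiv.Perm (G ⧸ H))]
    apply Finset.sum_congr rfl
    intro ω _
    rw [MulAction.toPerm_apply, a_smul, a_smul]
  have hx₀y₁ : x₀ ≠ y₁ := by
    intro h
    exact hxy 1 (by rw [one_smul]; exact h)
  have c_diag : ∀ x, c x x = c x₀ x₀ := by
    intro x
    obtain ⟨g, hg⟩ := MulAction.exists_smul_eq G x₀ x
    rw [← hg, c_smul]
  have c_off : ∀ x y, x ≠ y → c x y = c x₀ y₁ := by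
    intro x y hne
    obtain ⟨g, hg1, hg2⟩ := h2' hx₀y₁ hne
    rw [← hg1, ← hg2, c_smul]
  have a0 : a (QuotientGroup.mk 1 : G ⧸ H) x₀ = 1 := by
    rw [ha, if_pos]
    rw [hinc]
    exact ⟨1, rfl, one_smul _ _⟩
  have a0y : a (QuotientGroup.mk 1 : G ⧸ H) y₁ = 0 := by
    rw [ha, if_neg]
    rw [hinc]
    rintro ⟨g, hg, hgy⟩
    have hgH : g ∈ H := by
      have h1 := QuotientGroup.eq.1 hg
      rw [mul_one] at h1
      exact (H.inv_mem_iff).1 h1
    exact hxy ⟨g, hgH⟩ hgy
  have d_pos : 0 < c x₀ x₀ := by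
    have h1 : a (QuotientGroup.mk 1 : G ⧸ H) x₀ * a (QuotientGroup.mk 1 : G ⧸ H) x₀ ≤ c x₀ x₀ := by
      rw [hc]
      exact Finset.single_le_sum (f := fun ω => a ω x₀ * a ω x₀)
        (fun ω _ => mul_nonneg (a_nonneg _ _) (a_nonneg _ _)) (Finset.mem_univ _)
    rw [a0] at h1
    linarith
  have d_ne_b : c x₀ x₀ ≠ c x₀ y₁ := by
    intro hdb
    have h1 : c x₀ x₀ - c x₀ y₁ = ∑ ω, a ω x₀ * (1 - a ω y₁) := by
      rw [hc, hc, ← Finset.sum_sub_distrib]
      apply Finset.sum_congr rfl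
      intro ω _
      rw [mul_sub, mul_one, a_sq]
    have h3 : a (QuotientGroup.mk 1 : G ⧸ H) x₀ * (1 - a (QuotientGroup.mk 1 : G ⧸ H) y₁)
        ≤ ∑ ω, a ω x₀ * (1 - a ω y₁) :=
      Finset.single_le_sum (f := fun ω => a ω x₀ * (1 - a ω y₁))
        (fun ω _ => mul_nonneg (a_nonneg _ _) (by linarith [a_le ω y₁])) (Finset.mem_univ _)
    rw [a0, a0y, ← h1, hdb] at h3
    norm_num at h3
  -- the linear map
  let T : (X → ℚ) →ₗ[ℚ] ((G ⧸ H) → ℚ) :=
    { toFun := fun f ω => ∑ x, a ω x * f x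
      map_add' := by
        intro f g
        funext ω
        simp only [Pi.add_apply, mul_add, Finset.sum_add_distrib]
      map_smul' := by
        intro r f
        funext ω
        simp only [Pi.smul_apply, smul_eq_mul, RingHom.id_apply, Finset.mul_sum]
        apply Finset.sum_congr rfl
        intro x _
        ring }
  have hT : ∀ f ω, T f ω = ∑ x, a ω x * f x := fun _ _ => rfl
  have hinj : Function.Injective T := by
    rw [← LinearMap.ker_eq_bot, LinearMap.ker_eq_bot']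
    intro f hf
    have hf' : ∀ ω, ∑ x, a ω x * f x = 0 := by
      intro ω
      rw [← hT, hf]
      rfl
    have hsum : c x₀ x₀ * ∑ x, f x = 0 := by
      have h1 : ∑ ω, ∑ x, a ω x * f x = 0 := Finset.sum_eq_zero (fun ω _ => hf' ω)
      rw [Finset.sum_comm] at h1
      rw [Finset.mul_sum, ← h1]
      apply Finset.sum_congr rfl
      intro x _
      rw [← Finset.sum_mul, ← c_diag x, hc]
      congr 1
      apply Finset.sum_congr rfl
      intro ω _
      exact a_sq ω x
    have hsum0 : ∑ x, f x = 0 := by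
      rcases mul_eq_zero.1 hsum with h | h
      · exact absurd h d_pos.ne'
      · exact h
    funext x₁
    have h3 : ∑ x, c x₁ x * f x = 0 := by
      have h1 : ∑ ω, a ω x₁ * ∑ x, a ω x * f x = 0 :=
        Finset.sum_eq_zero (fun ω _ => by rw [hf' ω, mul_zero])
      rw [← h1]
      simp only [hc, Finset.sum_mul, Finset.mul_sum]
      rw [Finset.sum_comm]
      apply Finset.sum_congr rfl
      intro ω _
      apply Finset.sum_congr rfl
      intro x _
      ring
    have h4 : ∑ x, c x₁ x * f x = c x₀ y₁ * ∑ x, f x + (c x₀ x₀ - c x₀ y₁) * f x₁ := by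
      have h5 : ∀ x, c x₁ x * f x
          = c x₀ y₁ * f x + (if x = x₁ then (c x₀ x₀ - c x₀ y₁) * f x₁ else 0) := by
        intro x
        by_cases hx : x = x₁
        · subst hx
          rw [if_pos rfl, c_diag]
          ring
        · rw [if_neg hx, c_off x₁ x (Ne.symm hx)]
          ring
      rw [Finset.sum_congr rfl (fun x _ => h5 x), Finset.sum_add_distrib, ← Finset.mul_sum,
        Finset.sum_ite_eq' Finset.univ x₁]
      simp
    rw [h4, hsum0, mul_zero, zero_add] at h3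
    rcases mul_eq_zero.1 h3 with h | h
    · exact absurd (sub_eq_zero.1 h) d_ne_b
    · exact h
  have hle := LinearMap.finrank_le_finrank_of_injective hinj
  rw [Module.finrank_fintype_fun_eq_card, Module.finrank_fintype_fun_eq_card] at hle
  rw [Nat.card_eq_fintype_card]
  calc Fintype.card X ≤ Fintype.card (G ⧸ H) := hle
    _ = H.index := by rw [Subgroup.index, Nat.card_eq_fintype_card]

end Cfsg.Agent.Lib.Helper4.MinDeg
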