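import Mathlib
import Cfsg.Agent.Lib.Helper3.MinDegDefs

set_option autoImplicit false
set_option linter.unusedVariables false
set_option linter.unusedSectionVars false
set_option linter.style.longLine false

/-!
S2140 farm, unit Uα: case (α) is impossible.
-/

namespace Cfsg.Agent.Lib.Helper4.MinDeg

open Matrix Cfsg.Agent.Lib.Helper3.MinDeg

variable {F : Type*} [Field F] {ι : Type*} [DecidableEq ι] [Fintype ι]

theorem h4_vecMulVec_zero (u : ι → F) : vecMulVec u (0 : ι → F) = 0 := by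
  ext i j
  simp [vecMulVec_apply]

/-- matrix identity behind the commutator formula -/
theorem h4_tv_comm_mat (v φ u ψ : ι → F) (hφv : φ ⬝ᵥ v = 0) (hφu : φ ⬝ᵥ u = 0) :
    (1 + vecMulVec v φ) * (1 + vecMulVec u ψ) =
      (1 + vecMulVec u (-(ψ ⬝ᵥ v) • φ)) * ((1 + vecMulVec u ψ) * (1 + vecMulVec v φ)) := by
  have e1 : vecMulVec v φ * vecMulVec u ψ = 0 := by
    rw [vecMulVec_mul_vecMulVec, hφu, zero_smul, h4_vecMulVec_zero]
  have e2 : vecMulVec u ψ * vecMulVec v φ = (ψ ⬝ᵥ v) • vecMulVec u φ := by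
    rw [vecMulVec_mul_vecMulVec, vecMulVec_smul]
  have e3 : vecMulVec u φ * vecMulVec v φ = 0 := by
    rw [vecMulVec_mul_vecMulVec, hφv, zero_smul, h4_vecMulVec_zero]
  have e4 : vecMulVec u φ * vecMulVec u ψ = 0 := by
    rw [vecMulVec_mul_vecMulVec, hφu, zero_smul, h4_vecMulVec_zero]
  have e5 : vecMulVec u φ * vecMulVec u φ = 0 := by
    rw [vecMulVec_mul_vecMulVec, hφu, zero_smul, h4_vecMulVec_zero]
  rw [vecMulVec_smul]
  simp only [mul_add, add_mul, mul_one, one_mul, smul_mul_assoc, mul_smul_comm, e1, e2, e3, e4, e5,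
    smul_zero, add_zero]
  module

theorem h4_tv_comm_mem (H : Subgroup (Matrix.SpecialLinearGroup ι F)) {v φ u ψ : ι → F}
    (hφ : φ ⬝ᵥ v = 0) (hψ : ψ ⬝ᵥ u = 0) (hφu : φ ⬝ᵥ u = 0)
    (h1 : (tv v φ : Matrix.SpecialLinearGroup ι F) ∈ H)
    (h2 : (tv u ψ : Matrix.SpecialLinearGroup ι F) ∈ H) :
    (tv u (-(ψ ⬝ᵥ v) • φ) : Matrix.SpecialLinearGroup ι F) ∈ H := by
  have hz : (-(ψ ⬝ᵥ v) • φ) ⬝ᵥ u = 0 := by rw [smul_dotProduct, hφu, smul_zero]
  have e : (tv v φ * tv u ψ : Matrix.SpecialLinearGroup ι F)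
      = tv u (-(ψ ⬝ᵥ v) • φ) * (tv u ψ * tv v φ) := by
    apply sl_ext
    rw [Matrix.SpecialLinearGroup.coe_mul, Matrix.SpecialLinearGroup.coe_mul,
      Matrix.SpecialLinearGroup.coe_mul, tv_coe hφ, tv_coe hψ, tv_coe hz]
    exact h4_tv_comm_mat v φ u ψ hφ hφu
  have e' : (tv u (-(ψ ⬝ᵥ v) • φ) : Matrix.SpecialLinearGroup ι F)
      = tv v φ * tv u ψ * (tv u ψ * tv v φ)⁻¹ := by
    rw [e]
    group
  rw [e']
  exact H.mul_mem (H.mul_mem h1 h2) (H.inv_mem (H.mul_mem h2 h1))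

/-- separating functionals, in coordinates -/
theorem h4_exists_sep (W : Submodule F (ι → F)) (x : ι → F) (hx : x ∉ W) :
    ∃ ψ : ι → F, (∀ w ∈ W, ψ ⬝ᵥ w = 0) ∧ ψ ⬝ᵥ x ≠ 0 := by
  obtain ⟨f, hfx, hf⟩ := Submodule.exists_dual_map_eq_bot_of_notMem hx inferInstance
  have key : ∀ w : ι → F, (fun i => f (Pi.single i 1)) ⬝ᵥ w = f w := by
    intro w
    rw [LinearMap.pi_apply_eq_sum_univ f w]
    simp only [dotProduct, smul_eq_mul]
    apply Finset.sum_congr rfl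
    intro i _
    rw [mul_comm]
    congr 2
    ext j
    simp [Pi.single_apply, eq_comm]
  refine ⟨fun i => f (Pi.single i 1), ?_, ?_⟩
  · intro w hw
    rw [key]
    have h1 : f w ∈ W.map f := Submodule.mem_map_of_mem hw
    rw [hf] at h1
    exact (Submodule.mem_bot F).1 h1
  · rw [key]
    exact hfx

/-- exchange lemma for pairs -/
theorem h4_exchange {V : Type*} [AddCommGroup V] [Module F V] (a b x y : V) (c1 d1 c2 d2 : F)
    (hx : x = c1 • a + d1 • b) (hy : y = c2 • a + d2 • b) (hli : LinearIndependent F ![x, y]) :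
    ∃ s t : F, a = s • x + t • y := by
  rw [LinearIndependent.pair_iff] at hli
  have hdet : c1 * d2 - c2 * d1 ≠ 0 := by
    intro h0
    have e1 : d2 • x + (-d1) • y = 0 := by
      have h : d2 • (c1 • a + d1 • b) + (-d1) • (c2 • a + d2 • b) = (c1 * d2 - c2 * d1) • a := by
        module
      rw [hx, hy, h, h0, zero_smul]
    have e2 : (-c2) • x + c1 • y = 0 := by
      have h : (-c2) • (c1 • a + d1 • b) + c1 • (c2 • a + d2 • b) = (c1 * d2 - c2 * d1) • b := by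
        module
      rw [hx, hy, h, h0, zero_smul]
    obtain ⟨h1, h2⟩ := hli _ _ e1
    obtain ⟨h3, h4⟩ := hli _ _ e2
    have hx0 : x = 0 := by
      rw [hx, h4, neg_eq_zero.1 h2]
      simp
    have h5 := hli 1 0 (by rw [hx0]; simp)
    exact one_ne_zero h5.1
  refine ⟨d2 / (c1 * d2 - c2 * d1), -d1 / (c1 * d2 - c2 * d1), ?_⟩
  have h : (d2 / (c1 * d2 - c2 * d1)) • (c1 • a + d1 • b)
      + (-d1 / (c1 * d2 - c2 * d1)) • (c2 • a + d2 • b)
      = ((c1 * d2 - c2 * d1) / (c1 * d2 - c2 * d1)) • a := by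
    module
  rw [hx, hy, h, div_self hdet, one_smul]

theorem alpha_false (hn : 3 ≤ Fintype.card ι)
    (H : Subgroup (Matrix.SpecialLinearGroup ι F))
    (hα : ∀ u : ι → F, u ≠ 0 → ∃ u' : ι → F, LinearIndependent F ![u, u'] ∧
      ∀ φ : ι → F, φ ⬝ᵥ u = 0 → (tv u φ ∈ H ↔ φ ⬝ᵥ u' = 0)) : False := by
  classical
  choose! up hup using hα
  have hli : ∀ u, u ≠ 0 → LinearIndependent F ![u, up u] := fun u hu => (hup u hu).1
  have hmem : ∀ u, u ≠ 0 → ∀ φ : ι → F, φ ⬝ᵥ u = 0 → (tv u φ ∈ H ↔ φ ⬝ᵥ up u = 0) :=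
    fun u hu => (hup u hu).2
  -- (C) the commutator consequence
  have hC : ∀ u v : ι → F, u ≠ 0 → v ≠ 0 → ∀ ψ φ : ι → F, ψ ⬝ᵥ u = 0 → ψ ⬝ᵥ up u = 0 →
      φ ⬝ᵥ v = 0 → φ ⬝ᵥ up v = 0 → φ ⬝ᵥ u = 0 → (ψ ⬝ᵥ v) * (φ ⬝ᵥ up u) = 0 := by
    intro u v hu hv ψ φ hψu hψu' hφv hφv' hφu
    have h1 : (tv v φ : Matrix.SpecialLinearGroup ι F) ∈ H := (hmem v hv φ hφv).2 hφv'
    have h2 : (tv u ψ : Matrix.SpecialLinearGroup ι F) ∈ H := (hmem u hu ψ hψu).2 hψu'
    have h3 := h4_tv_comm_mem H hφv hψu hφu h1 h2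
    have hz : (-(ψ ⬝ᵥ v) • φ) ⬝ᵥ u = 0 := by rw [smul_dotProduct, hφu, smul_zero]
    have h4 := (hmem u hu _ hz).1 h3
    rw [smul_dotProduct, smul_eq_mul, neg_mul, neg_eq_zero] at h4
    exact h4
  -- (i') the exchange property
  have hI : ∀ u v : ι → F, u ≠ 0 → v ≠ 0 → ∀ c1 d1 : F, u = c1 • v + d1 • up v →
      ∃ s t : F, v = s • u + t • up u := by
    intro u v hu hv c1 d1 huv
    by_contra hcon
    have hvW : v ∉ Submodule.span F ({u, up u} : Set (ι → F)) := by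
      intro hmemv
      rw [Submodule.mem_span_pair] at hmemv
      obtain ⟨s, t, hst⟩ := hmemv
      exact hcon ⟨s, t, hst.symm⟩
    obtain ⟨ψ, hψW, hψv⟩ := h4_exists_sep _ v hvW
    have hψu : ψ ⬝ᵥ u = 0 := hψW u (Submodule.subset_span (by simp))
    have hψu' : ψ ⬝ᵥ up u = 0 := hψW (up u) (Submodule.subset_span (by simp))
    have hu'W : up u ∈ Submodule.span F ({v, up v} : Set (ι → F)) := by
      by_contra hnot
      obtain ⟨φ, hφW, hφu'⟩ := h4_exists_sep _ (up u) hnot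
      have hφv : φ ⬝ᵥ v = 0 := hφW v (Submodule.subset_span (by simp))
      have hφv' : φ ⬝ᵥ up v = 0 := hφW (up v) (Submodule.subset_span (by simp))
      have hφu : φ ⬝ᵥ u = 0 := by
        rw [huv, dotProduct_add, dotProduct_smul, dotProduct_smul, hφv, hφv', smul_zero, smul_zero,
          add_zero]
      have h5 := hC u v hu hv ψ φ hψu hψu' hφv hφv' hφu
      rcases mul_eq_zero.1 h5 with h | h
      · exact hψv h
      · exact hφu' h
    rw [Submodule.mem_span_pair] at hu'W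
    obtain ⟨c2, d2, hcd⟩ := hu'W
    exact hcon (h4_exchange v (up v) u (up u) c1 d1 c2 d2 huv hcd.symm (hli u hu))
  -- choose v1, v2
  have hne : Nonempty ι := by
    apply Fintype.card_pos_iff.1
    omega
  obtain ⟨i0⟩ := hne
  obtain ⟨v1, hv1⟩ : ∃ v1 : ι → F, v1 ≠ 0 := by
    refine ⟨Pi.single i0 1, ?_⟩
    intro h
    have := congrFun h i0
    simp at this
  have hW1 : Submodule.span F ({v1, up v1} : Set (ι → F)) ≠ ⊤ := by
    intro htop
    have h1 : Module.finrank F (Submodule.span F ((({v1, up v1} : Finset (ι → F)) : Set (ι → F))))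
        ≤ ({v1, up v1} : Finset (ι → F)).card := finrank_span_finset_le_card _
    have h2 : ({v1, up v1} : Finset (ι → F)).card ≤ 2 := Finset.card_le_two
    rw [Finset.coe_insert, Finset.coe_singleton, htop, finrank_top,
      Module.finrank_fintype_fun_eq_card] at h1
    omega
  obtain ⟨v2, hv2W⟩ : ∃ v2 : ι → F, v2 ∉ Submodule.span F ({v1, up v1} : Set (ι → F)) := by
    by_contra hcon
    apply hW1
    rw [eq_top_iff]
    intro x _
    by_contra hx
    exact hcon ⟨x, hx⟩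
  have hv2 : v2 ≠ 0 := by
    intro h
    apply hv2W
    rw [h]
    exact Submodule.zero_mem _
  have hli1 := hli v1 hv1
  rw [LinearIndependent.pair_iff] at hli1
  -- `up v1` is not in the span of `v1, v2, up v2`
  have hW3 : up v1 ∉ Submodule.span F ({v1, v2, up v2} : Set (ι → F)) := by
    intro hmem3
    rw [Submodule.mem_span_triple] at hmem3
    obtain ⟨γ, α, β, hγ⟩ := hmem3
    -- w = α v2 + β up v2 = up v1 - γ v1
    obtain ⟨w, hw⟩ : ∃ w : ι → F, w = α • v2 + β • up v2 := ⟨_, rfl⟩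
    have hw' : w = (-γ) • v1 + (1 : F) • up v1 := by
      rw [hw, ← hγ]
      module
    have hw0 : w ≠ 0 := by
      intro h0
      rw [h0] at hw'
      have := hli1 (-γ) 1 hw'.symm
      exact one_ne_zero this.2
    obtain ⟨s, t, hst⟩ := hI w v2 hw0 hv2 α β hw
    obtain ⟨s', t', hst'⟩ := hI w v1 hw0 hv1 (-γ) 1 hw'
    have ht' : t' ≠ 0 := by
      intro h0
      rw [h0, zero_smul, add_zero, hw'] at hst'
      have h6 : (1 + s' * γ) • v1 + (-s') • up v1 = 0 := by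
        have h7 : (1 + s' * γ) • v1 + (-s') • up v1 = v1 - s' • ((-γ) • v1 + (1 : F) • up v1) := by
          module
        rw [h7, ← hst', sub_self]
      obtain ⟨h8, h9⟩ := hli1 _ _ h6
      rw [neg_eq_zero] at h9
      rw [h9, zero_mul, add_zero] at h8
      exact one_ne_zero h8
    have hupw : up w = t'⁻¹ • (v1 - s' • w) := by
      rw [hst']
      rw [add_sub_cancel_left, smul_smul, inv_mul_cancel₀ ht', one_smul]
    apply hv2W
    rw [Submodule.mem_span_pair]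
    refine ⟨t * t'⁻¹ - (s - t * t'⁻¹ * s') * γ, s - t * t'⁻¹ * s', ?_⟩
    rw [hst, hupw, hw']
    module
  obtain ⟨ψ, hψW, hψ1⟩ := h4_exists_sep _ (up v1) hW3
  obtain ⟨φ, hφW, hφ2⟩ := h4_exists_sep _ v2 hv2W
  have hψv1 : ψ ⬝ᵥ v1 = 0 := hψW v1 (Submodule.subset_span (by simp))
  have hψv2 : ψ ⬝ᵥ v2 = 0 := hψW v2 (Submodule.subset_span (by simp))
  have hψv2' : ψ ⬝ᵥ up v2 = 0 := hψW (up v2) (Submodule.subset_span (by simp))
  have hφv1 : φ ⬝ᵥ v1 = 0 := hφW v1 (Submodule.subset_span (by simp))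
  have hφv1' : φ ⬝ᵥ up v1 = 0 := hφW (up v1) (Submodule.subset_span (by simp))
  have h5 := hC v1 v2 hv1 hv2 φ ψ hφv1 hφv1' hψv2 hψv2' hψv1
  rcases mul_eq_zero.1 h5 with h | h
  · exact hφ2 h
  · exact hψ1 h

end Cfsg.Agent.Lib.Helper4.MinDeg
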