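import Mathlib

/-!
Abstract lemmas for the minimal index of a proper subgroup of a simple group with a transitive action whose
point stabiliser has a nontrivial normal subgroup contained in all its large subgroups.
-/

namespace Cfsg.Agent.Lib.Helper4.MinIdx

open scoped Pointwise

/-- If every subgroup of order more than `m` of a subgroup `N` of index `n` contains `Z ≠ ⊥`, then the only
subgroup of order more than `n * m` of the simple group is the whole group. -/
theorem eq_top_of_card_gt {G : Type*} [Group G] [Finite G] [IsSimpleGroup G]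
    (N Z : Subgroup G) (n m : ℕ) (hn : N.index = n) (hZ : Z ≠ ⊥)
    (hsub : ∀ L : Subgroup G, L ≤ N → m < Nat.card L → Z ≤ L)
    (H : Subgroup G) (hH : n * m < Nat.card H) : H = ⊤ := by
  have key : ∀ g : G, ∀ z ∈ Z, g * z * g⁻¹ ∈ H := by
    intro g z hz
    set K : Subgroup G := N.map (MulAut.conj g).toMonoidHom with hK
    have hKidx : K.index = n := by
      rw [hK, ← hn]
      exact Subgroup.index_map_equiv N (MulAut.conj g)
    set L : Subgroup G := (H ⊓ K).map (MulAut.conj g⁻¹).toMonoidHom with hL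
    have hLN : L ≤ N := by
      rintro _ ⟨y, hy, rfl⟩
      obtain ⟨x, hx, hxy⟩ := hy.2
      have : y = g * x * g⁻¹ := by rw [← hxy]; rfl
      show (MulAut.conj g⁻¹) y ∈ N
      rw [MulAut.conj_apply, this]
      have e : g⁻¹ * (g * x * g⁻¹) * g⁻¹⁻¹ = x := by group
      rw [e]
      exact hx
    have hcardL : Nat.card L = Nat.card (H ⊓ K : Subgroup G) := by
      rw [hL]
      exact Subgroup.card_map_of_injective (MulAut.conj g⁻¹).injective
    have hidx : (H ⊓ K).index ≤ H.index * n := by
      rw [← hKidx]; exact Subgroup.index_inf_le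
    have h1 := (H ⊓ K).index_mul_card
    have h2 := H.index_mul_card
    have hHi : 0 < H.index := Nat.pos_of_ne_zero Subgroup.index_ne_zero_of_finite
    have hlt : m < Nat.card (H ⊓ K : Subgroup G) := by
      by_contra hcon
      rw [not_lt] at hcon
      have : Nat.card G ≤ H.index * n * m := by
        calc Nat.card G = (H ⊓ K).index * Nat.card (H ⊓ K : Subgroup G) := h1.symm
          _ ≤ (H.index * n) * m := Nat.mul_le_mul hidx hcon
      have h3 : H.index * (n * m) < H.index * Nat.card H := Nat.mul_lt_mul_of_pos_left hH hHi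
      rw [h2] at h3
      have : H.index * n * m = H.index * (n * m) := by ring
      omega
    have hZL : Z ≤ L := hsub L hLN (by rw [hcardL]; exact hlt)
    obtain ⟨y, hy, hyz⟩ := hZL hz
    have hyz' : g⁻¹ * y * g⁻¹⁻¹ = z := hyz
    have : g * z * g⁻¹ = y := by rw [← hyz']; group
    rw [this]
    exact hy.1
  have hnc : Subgroup.normalClosure (Z : Set G) ≤ H := by
    rw [Subgroup.normalClosure, Subgroup.closure_le]
    intro x hx
    rw [Group.mem_conjugatesOfSet_iff] at hx
    obtain ⟨z, hz, hxz⟩ := hx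
    rw [isConj_iff] at hxz
    obtain ⟨c, rfl⟩ := hxz
    exact key c z hz
  have hnorm : (Subgroup.normalClosure (Z : Set G)).Normal := Subgroup.normalClosure_normal
  rcases hnorm.eq_bot_or_eq_top with h | h
  · exfalso
    apply hZ
    rw [eq_bot_iff, ← h]
    exact Subgroup.le_normalClosure
  · rw [eq_top_iff, ← h]
    exact hnc


theorem fact1000_2 : (1000 : ℕ).factorization 2 = 3 := by
  have : (1000 : ℕ) = 2 ^ 3 * 5 ^ 3 := by norm_num
  rw [this, Nat.factorization_mul (by norm_num) (by norm_num), Nat.Prime.factorization_pow (by norm_num),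
    Nat.Prime.factorization_pow (by norm_num)]
  simp

theorem fact1000_5 : (1000 : ℕ).factorization 5 = 3 := by
  have : (1000 : ℕ) = 2 ^ 3 * 5 ^ 3 := by norm_num
  rw [this, Nat.factorization_mul (by norm_num) (by norm_num), Nat.Prime.factorization_pow (by norm_num),
    Nat.Prime.factorization_pow (by norm_num)]
  simp

theorem fact40_2 : (40 : ℕ).factorization 2 = 3 := by
  have : (40 : ℕ) = 2 ^ 3 * 5 ^ 1 := by norm_num
  rw [this, Nat.factorization_mul (by norm_num) (by norm_num), Nat.Prime.factorization_pow (by norm_num),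
    Nat.Prime.factorization_pow (by norm_num)]
  simp

/-- a nontrivial element of a group of order five generates it -/
theorem mem_zpowers_of_ne_one {M : Type*} [Group M] [Finite M] (z w : M) (hz5 : z ^ 5 = 1)
    (hw : w ∈ Subgroup.zpowers z) (hw1 : w ≠ 1) : z ∈ Subgroup.zpowers w := by
  have hz1 : z ≠ 1 := by
    rintro rfl
    rw [Subgroup.zpowers_one_eq_bot, Subgroup.mem_bot] at hw
    exact hw1 hw
  have hoz : orderOf z = 5 := by
    have h := orderOf_dvd_of_pow_eq_one hz5
    rcases (Nat.dvd_prime (by norm_num : Nat.Prime 5)).1 h with h1 | h1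
    · rw [orderOf_eq_one_iff] at h1; exact absurd h1 hz1
    · exact h1
  have hle : Subgroup.zpowers w ≤ Subgroup.zpowers z := by
    rw [Subgroup.zpowers_le]; exact hw
  have hcz : Nat.card (Subgroup.zpowers z) = 5 := by rw [Nat.card_zpowers, hoz]
  have hdvd : Nat.card (Subgroup.zpowers w) ∣ 5 := by
    rw [← hcz]; exact Subgroup.card_dvd_of_le hle
  have hcw : Nat.card (Subgroup.zpowers w) = 5 := by
    rcases (Nat.dvd_prime (by norm_num : Nat.Prime 5)).1 hdvd with h1 | h1
    · exfalso
      rw [Nat.card_zpowers, orderOf_eq_one_iff] at h1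
      exact hw1 h1
    · exact h1
  have heq : Subgroup.zpowers w = Subgroup.zpowers z :=
    Subgroup.eq_of_le_of_card_ge hle (by rw [hcz, hcw])
  rw [heq]
  exact Subgroup.mem_zpowers z

/-- in a group of order 125 every subgroup of order at least 25 contains all commutators -/
theorem comm_mem_of_card_ge {P : Type*} [Group P] [Finite P] (hP : Nat.card P = 125) (Q : Subgroup P)
    (hQ : 25 ≤ Nat.card Q) (a b : P) : a * b * a⁻¹ * b⁻¹ ∈ Q := by
  have h1 := Q.card_mul_index
  rw [hP] at h1
  have hdvd : Nat.card Q ∣ 5 ^ 3 := ⟨Q.index, by rw [h1]; norm_num⟩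
  obtain ⟨k, hk, hck⟩ := (Nat.dvd_prime_pow (by norm_num : Nat.Prime 5)).1 hdvd
  have hidx : Q.index = 1 ∨ Q.index = 5 := by
    interval_cases k
    · rw [hck] at hQ; norm_num at hQ
    · rw [hck] at hQ; norm_num at hQ
    · right
      rw [hck] at h1
      omega
    · left
      rw [hck] at h1
      omega
  rcases hidx with hi | hi
  · rw [Subgroup.index_eq_one] at hi
    rw [hi]; trivial
  · have hn : Q.Normal := by
      apply Subgroup.normal_of_index_eq_minFac_card
      rw [hi, hP]
      norm_num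
    have hc5 : Nat.card (P ⧸ Q) = 5 := by rw [← Subgroup.index_eq_card, hi]
    have : Fact (Nat.Prime 5) := ⟨by norm_num⟩
    have hcyc : IsCyclic (P ⧸ Q) := isCyclic_of_prime_card hc5
    let _ : CommGroup (P ⧸ Q) := IsCyclic.commGroup
    rw [← QuotientGroup.eq_one_iff]
    simp only [QuotientGroup.mk_mul, QuotientGroup.mk_inv]
    rw [mul_comm (a : P ⧸ Q) (b : P ⧸ Q)]
    group


/-- the large subgroups of a group of order 1000 shaped like `5^{1+2}:8` all contain the centre of the
normal Sylow subgroup -/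
theorem sub1000 {M : Type*} [Group M] [Finite M] (hM : Nat.card M = 1000)
    (x₁ x₂ z u : M) (hx₁ : x₁ ^ 5 = 1) (hx₂ : x₂ ^ 5 = 1) (hz : x₁ * x₂ * x₁⁻¹ * x₂⁻¹ = z)
    (hz5 : z ^ 5 = 1) (hu8 : u ^ 8 = 1) (hu4 : u ^ 4 ≠ 1)
    (hZn : ∀ g : M, g * z * g⁻¹ ∈ Subgroup.zpowers z)
    (pl : Fin 125 → M) (hinj : Function.Injective pl) (hpl5 : ∀ i, pl i ^ 5 = 1)
    (hchk : ∀ i, pl i ∈ Subgroup.zpowers z ∨
      (pl i * (u * pl i * u⁻¹) * (pl i)⁻¹ * (u * pl i * u⁻¹)⁻¹ ∈ Subgroup.zpowers z ∧
        pl i * (u * pl i * u⁻¹) * (pl i)⁻¹ * (u * pl i * u⁻¹)⁻¹ ≠ 1))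
    (L : Subgroup M) (hL : 20 < Nat.card L) : z ∈ L := by
  have p5 : Fact (Nat.Prime 5) := ⟨by norm_num⟩
  have p2 : Fact (Nat.Prime 2) := ⟨by norm_num⟩
  -- the Sylow 5-subgroup
  obtain ⟨P⟩ := (Sylow.nonempty : Nonempty (Sylow 5 M))
  have hPc : Nat.card P = 125 := by
    rw [Sylow.card_eq_multiplicity, hM, fact1000_5]; norm_num
  have hPi : (P : Subgroup M).index = 8 := by
    have := (P : Subgroup M).card_mul_index
    rw [hM] at this
    have hPc' : Nat.card (P : Subgroup M) = 125 := hPc
    rw [hPc'] at this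
    omega
  have hone : Nat.card (Sylow 5 M) = 1 := by
    have h1 := card_sylow_modEq_one 5 M
    have h2 := Sylow.card_dvd_index P
    rw [hPi] at h2
    have h3 : Nat.card (Sylow 5 M) ≤ 8 := Nat.le_of_dvd (by norm_num) h2
    have h4 : Nat.card (Sylow 5 M) % 5 = 1 := h1
    interval_cases (Nat.card (Sylow 5 M)) <;> omega
  have hsub : Subsingleton (Sylow 5 M) := (Nat.card_eq_one_iff_unique.1 hone).1
  have hPn : (P : Subgroup M).Normal := Sylow.normal_of_subsingleton P
  -- 5-subgroups lie in P
  have hle : ∀ Q : Subgroup M, IsPGroup 5 Q → Q ≤ P := by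
    intro Q hQ
    obtain ⟨R, hR⟩ := hQ.exists_le_sylow
    rwa [Subsingleton.elim R P] at hR
  have hmem : ∀ y : M, y ^ 5 = 1 → y ∈ (P : Subgroup M) := by
    intro y hy
    apply hle (Subgroup.zpowers y) _ (Subgroup.mem_zpowers y)
    have h := orderOf_dvd_of_pow_eq_one hy
    rcases (Nat.dvd_prime (by norm_num : Nat.Prime 5)).1 h with h1 | h1
    · exact IsPGroup.of_card (n := 0) (by rw [Nat.card_zpowers, h1]; rfl)
    · exact IsPGroup.of_card (n := 1) (by rw [Nat.card_zpowers, h1]; rfl)
  -- the list covers P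
  have hcover : ∀ y ∈ (P : Subgroup M), ∃ i, pl i = y := by
    let f : Fin 125 → (P : Subgroup M) := fun i => ⟨pl i, hmem _ (hpl5 i)⟩
    have hf : Function.Injective f := by
      intro i j hij
      apply hinj
      exact congrArg Subtype.val hij
    have hfin : Finite (P : Subgroup M) := inferInstance
    have hb := hf.bijective_of_nat_card_le (by rw [Nat.card_fin]; exact hPc.le)
    intro y hy
    obtain ⟨i, hi⟩ := hb.2 ⟨y, hy⟩
    exact ⟨i, congrArg Subtype.val hi⟩
  -- sizes
  set A : Subgroup M := L ⊓ P with hA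
  have hab : Nat.card A * (P : Subgroup M).relIndex L = Nat.card L := by
    have h1 := Subgroup.relIndex_mul_relIndex (⊥ : Subgroup M) A L bot_le inf_le_left
    rw [Subgroup.relIndex_bot_left, Subgroup.relIndex_bot_left, hA, Subgroup.inf_relIndex_left] at h1
    exact h1
  have hb8 : (P : Subgroup M).relIndex L ∣ 8 := by
    rw [← hPi]; exact Subgroup.relIndex_dvd_index_of_normal _ _
  have ha125 : Nat.card A ∣ 5 ^ 3 := by
    have : Nat.card A ∣ Nat.card (P : Subgroup M) := Subgroup.card_dvd_of_le inf_le_right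
    rw [show Nat.card (P : Subgroup M) = 125 from hPc] at this
    exact this
  obtain ⟨k, hk, hck⟩ := (Nat.dvd_prime_pow (by norm_num : Nat.Prime 5)).1 ha125
  have hb8' : (P : Subgroup M).relIndex L ≤ 8 := Nat.le_of_dvd (by norm_num) hb8
  have hx₁P : x₁ ∈ (P : Subgroup M) := hmem _ hx₁
  have hx₂P : x₂ ∈ (P : Subgroup M) := hmem _ hx₂
  have hcases : 25 ≤ Nat.card A ∨ (Nat.card A = 5 ∧ Nat.card L = 40) := by
    interval_cases k
    · exfalso; rw [hck] at hab; nlinarith
    · right
      refine ⟨by rw [hck]; norm_num, ?_⟩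
      rw [hck] at hab
      have h5 : 4 < (P : Subgroup M).relIndex L := by omega
      have : (P : Subgroup M).relIndex L = 8 := by
        interval_cases ((P : Subgroup M).relIndex L) <;> simp_all
      rw [← hab, this]; norm_num
    · left; rw [hck]; norm_num
    · left; rw [hck]; norm_num
  rcases hcases with h25 | ⟨h5, h40⟩
  · -- the large case
    have hfinP : Finite (P : Subgroup M) := inferInstance
    have hcQ : Nat.card (A.subgroupOf (P : Subgroup M)) = Nat.card A := by
      exact Nat.card_congr (Subgroup.subgroupOfEquivOfLe (inf_le_right : A ≤ P)).toEquiv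
    have := comm_mem_of_card_ge (P := (P : Subgroup M)) hPc (A.subgroupOf (P : Subgroup M))
      (by rw [hcQ]; exact h25) ⟨x₁, hx₁P⟩ ⟨x₂, hx₂P⟩
    rw [Subgroup.mem_subgroupOf] at this
    have h2 : z ∈ A := by
      rw [← hz]
      exact this
    exact h2.1
  · -- the case of order 40
    have hfinL : Finite L := inferInstance
    obtain ⟨E⟩ := (Sylow.nonempty : Nonempty (Sylow 2 L))
    have hEc : Nat.card E = 8 := by
      rw [Sylow.card_eq_multiplicity, h40, fact40_2]; norm_num
    set E' : Subgroup M := (E : Subgroup L).map L.subtype with hE'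
    have hE'c : Nat.card E' = 8 := by
      rw [hE', Subgroup.card_map_of_injective L.subtype_injective]
      exact hEc
    have hE'L : E' ≤ L := by
      rintro _ ⟨y, _, rfl⟩
      exact y.2
    have hou : orderOf u = 8 := by
      have h := orderOf_dvd_of_pow_eq_one hu8
      have h8 : (8 : ℕ) = 2 ^ 3 := by norm_num
      rw [h8] at h
      obtain ⟨j, hj, hoj⟩ := (Nat.dvd_prime_pow (by norm_num : Nat.Prime 2)).1 h
      interval_cases j
      · exfalso; apply hu4
        have h1 : orderOf u = 1 := by rw [hoj]; norm_num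
        rw [orderOf_eq_one_iff] at h1
        rw [h1, one_pow]
      · exfalso; apply hu4
        have : u ^ 2 = 1 := by
          have := pow_orderOf_eq_one u
          rw [hoj] at this
          simpa using this
        calc u ^ 4 = (u ^ 2) ^ 2 := by rw [← pow_mul]
          _ = 1 := by rw [this, one_pow]
      · exfalso; apply hu4
        have := pow_orderOf_eq_one u
        rw [hoj] at this
        simpa using this
      · rw [hoj]; norm_num
    have hUc : Nat.card (Subgroup.zpowers u) = 8 := by rw [Nat.card_zpowers, hou]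
    let SU : Sylow 2 M := Sylow.ofCard (Subgroup.zpowers u) (by rw [hUc, hM, fact1000_2]; norm_num)
    let SE : Sylow 2 M := Sylow.ofCard E' (by rw [hE'c, hM, fact1000_2]; norm_num)
    obtain ⟨n, hn⟩ := MulAction.exists_smul_eq M SU SE
    have hu' : n * u * n⁻¹ ∈ L := by
      apply hE'L
      have h1 : n * u * n⁻¹ ∈ ((n • SU : Sylow 2 M) : Subgroup M) := by
        rw [Sylow.coe_subgroup_smul, Sylow.coe_ofCard]
        rw [Subgroup.mem_pointwise_smul_iff_inv_smul_mem]
        have : (MulAut.conj n)⁻¹ • (n * u * n⁻¹) = u := by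
          rw [MulAut.smul_def, MulAut.conj_inv_apply]
          group
        rw [this]
        exact Subgroup.mem_zpowers u
      rw [hn] at h1
      exact h1
    -- a nontrivial element of A
    have hAnt : ∃ x ∈ A, x ≠ 1 := by
      by_contra hcon
      push Not at hcon
      have : A = ⊥ := by
        rw [Subgroup.eq_bot_iff_forall]; exact hcon
      rw [this, Subgroup.card_bot] at h5
      norm_num at h5
    obtain ⟨x, hxA, hx1⟩ := hAnt
    have hxL : x ∈ L := hxA.1
    have hxP : x ∈ (P : Subgroup M) := hxA.2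
    have hx'P : n⁻¹ * x * n ∈ (P : Subgroup M) := by
      have := hPn.conj_mem x hxP n⁻¹
      simpa using this
    obtain ⟨i, hi⟩ := hcover _ hx'P
    have hZn' : ∀ g w : M, w ∈ Subgroup.zpowers z → g * w * g⁻¹ ∈ Subgroup.zpowers z := by
      intro g w hw
      obtain ⟨j, rfl⟩ := Subgroup.mem_zpowers_iff.1 hw
      have : g * z ^ j * g⁻¹ = (g * z * g⁻¹) ^ j := by
        rw [conj_zpow]
      rw [this]
      exact Subgroup.zpow_mem _ (hZn g) j
    have hfinish : ∀ w : M, w ∈ Subgroup.zpowers z → w ≠ 1 → w ∈ L → z ∈ L := by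
      intro w hw hw1 hwL
      have := mem_zpowers_of_ne_one z w hz5 hw hw1
      exact (Subgroup.zpowers_le.2 hwL) this
    rcases hchk i with hc | ⟨hc1, hc2⟩
    · -- x itself is central
      rw [hi] at hc
      have h1 := hZn' n _ hc
      have e : n * (n⁻¹ * x * n) * n⁻¹ = x := by group
      rw [e] at h1
      exact hfinish x h1 hx1 hxL
    · rw [hi] at hc1 hc2
      set x' := n⁻¹ * x * n with hx'
      set w := x' * (u * x' * u⁻¹) * x'⁻¹ * (u * x' * u⁻¹)⁻¹ with hw
      have h1 := hZn' n _ hc1
      have e : n * w * n⁻¹ = x * ((n * u * n⁻¹) * x * (n * u * n⁻¹)⁻¹) * x⁻¹ * ((n * u * n⁻¹) * x * (n * u * n⁻¹)⁻¹)⁻¹ := by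
        rw [hw, hx']; group
      have hwL : n * w * n⁻¹ ∈ L := by
        rw [e]
        have hc : (n * u * n⁻¹) * x * (n * u * n⁻¹)⁻¹ ∈ L :=
          L.mul_mem (L.mul_mem hu' hxL) (L.inv_mem hu')
        exact L.mul_mem (L.mul_mem (L.mul_mem hxL hc) (L.inv_mem hxL)) (L.inv_mem hc)
      have hne : n * w * n⁻¹ ≠ 1 := by
        intro h
        apply hc2
        have : w = n⁻¹ * (n * w * n⁻¹) * n := by group
        rw [this, h]; group
      exact hfinish _ h1 hne hwL

end Cfsg.Agent.Lib.Helper4.MinIdx
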