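import Mathlib
import Cfsg.Agent.Lib.Helper1.Nilpotent

/-! Farm NA8 (S4409), unit U11 (STEP 1), part a: index-two counting and the four-group case. -/

set_option autoImplicit false
open Pointwise

namespace Cfsg.Agent.Lib.Helper4.NA8

variable {G : Type*} [Group G]

/-- a subgroup `C` of `A` such that any two elements of `A` outside `C` differ by an element of
`C` has index at most two. -/
theorem card_le_two_mul (A C : Subgroup G) [Finite A] (hCA : C ≤ A)
    (h : ∀ a ∈ A, ∀ b ∈ A, a ∉ C → b ∉ C → a⁻¹ * b ∈ C) : Nat.card A ≤ 2 * Nat.card C := by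
  classical
  have : Finite C := Finite.of_injective (Subgroup.inclusion hCA) (Subgroup.inclusion_injective hCA)
  by_cases hAC : A ≤ C
  · have : A = C := le_antisymm hAC hCA
    rw [this]; omega
  · obtain ⟨a0, ha0A, ha0C⟩ := SetLike.not_le_iff_exists.mp hAC
    let f : ↥A → ↥C × Bool := fun b =>
      if hb : (b : G) ∈ C then (⟨b, hb⟩, true)
      else (⟨a0⁻¹ * b, h a0 ha0A b b.2 ha0C hb⟩, false)
    have hf : Function.Injective f := by
      intro b c hbc
      by_cases hb : (b : G) ∈ C <;> by_cases hc : (c : G) ∈ C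
      · simp only [f, hb, hc, dif_pos] at hbc
        exact Subtype.ext (congrArg (fun z : ↥C × Bool => (z.1 : G)) hbc)
      · simp only [f, hb, hc, dif_pos, dif_neg, not_false_eq_true] at hbc
        have := congrArg Prod.snd hbc
        simp at this
      · simp only [f, hb, hc, dif_pos, dif_neg, not_false_eq_true] at hbc
        have := congrArg Prod.snd hbc
        simp at this
      · simp only [f, hb, hc, dif_neg, not_false_eq_true] at hbc
        have h1 : a0⁻¹ * (b : G) = a0⁻¹ * (c : G) :=
          congrArg (fun z : ↥C × Bool => (z.1 : G)) hbc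
        exact Subtype.ext (mul_left_cancel h1)
    have h1 := Nat.card_le_card_of_injective f hf
    rw [Nat.card_prod] at h1
    have h2 : Nat.card Bool = 2 := by simp
    rw [h2] at h1
    omega

/-- The four-group case of STEP 1: a normal self-centralizing four-group excludes an abelian
subgroup of order `8`. -/
theorem false_of_four_group [Finite G] (X1 : Subgroup G) [hX1n : X1.Normal]
    (h4 : Nat.card ↥X1 = 4) (hexp : ∀ y ∈ X1, y ^ 2 = 1)
    (hC : Subgroup.centralizer (X1 : Set G) ≤ X1)
    (A : Subgroup G) (hAab : IsMulCommutative ↥A) (hA8 : Nat.card ↥A = 8) : False := by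
  have : Fact (Nat.Prime 2) := ⟨Nat.prime_two⟩
  -- the 2-group `P0 = A ⊔ X1`
  set P0 : Subgroup G := A ⊔ X1 with hP0
  have hAP0 : A ≤ P0 := le_sup_left
  have hXP0 : X1 ≤ P0 := le_sup_right
  have hP02 : IsPGroup 2 ↥P0 := by
    have hA2 : IsPGroup 2 ↥A := IsPGroup.of_card (n := 3) (by rw [hA8]; norm_num)
    have hX2 : IsPGroup 2 ↥X1 := IsPGroup.of_card (n := 2) (by rw [h4]; norm_num)
    exact IsPGroup.to_sup_of_normal_right' hA2 hX2 (by
      intro a _
      rw [Subgroup.normalizer_eq_top_iff.mpr hX1n]
      exact Subgroup.mem_top a)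
  -- a nontrivial element `d` of `X1` central in `P0`
  have hnil : Group.IsNilpotent ↥P0 := hP02.isNilpotent
  have hXn' : (X1.subgroupOf P0).Normal := inferInstance
  have hXne : X1.subgroupOf P0 ≠ ⊥ := by
    intro h
    have h1 : Nat.card ↥(X1.subgroupOf P0) = Nat.card ↥X1 :=
      Nat.card_congr (Subgroup.subgroupOfEquivOfLe hXP0).toEquiv
    rw [h, Subgroup.card_bot, h4] at h1
    omega
  have hcen := Cfsg.Agent.Lib.Helper1.normal_inf_center_ne_bot (X1.subgroupOf P0) hXne
  obtain ⟨d', hd'ne⟩ := (Subgroup.ne_bot_iff_exists_ne_one).mp hcen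
  obtain ⟨hd'X, hd'Z⟩ := Subgroup.mem_inf.mp d'.2
  set d : G := ((d' : ↥P0) : G) with hd
  have hdX : d ∈ X1 := Subgroup.mem_subgroupOf.mp hd'X
  have hd1 : d ≠ 1 := by
    intro h
    apply hd'ne
    apply Subtype.ext
    apply Subtype.ext
    exact h
  have hdc : ∀ g ∈ P0, g * d = d * g := by
    intro g hg
    have h1 := (Subgroup.mem_center_iff.mp hd'Z) ⟨g, hg⟩
    exact congrArg (fun z : ↥P0 => (z : G)) h1
  have hd2 : d * d = 1 := by rw [← pow_two]; exact hexp d hdX
  -- an element `e` of `X1` outside `{1, d}`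
  obtain ⟨e, heX, he1, hed⟩ : ∃ e ∈ X1, e ≠ 1 ∧ e ≠ d := by
    by_contra hcon
    push Not at hcon
    have hle : X1 ≤ Subgroup.zpowers d := by
      intro x hx
      by_cases hx1 : x = 1
      · rw [hx1]; exact Subgroup.one_mem _
      · rw [hcon x hx hx1]; exact Subgroup.mem_zpowers d
    have h1 := Subgroup.card_le_of_le hle
    have h2 : Nat.card ↥(Subgroup.zpowers d) = 2 := by
      rw [Nat.card_zpowers]
      exact orderOf_eq_prime (by rw [pow_two]; exact hd2) hd1
    omega
  have he2 : e * e = 1 := by rw [← pow_two]; exact hexp e heX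
  -- the elements of `X1`
  have hX1set : ∀ x ∈ X1, x = 1 ∨ x = d ∨ x = e ∨ x = d * e := by
    classical
    have : Fintype ((X1 : Set G)) := Fintype.ofFinite _
    have hsub : ({1, d, e, d * e} : Finset G) ⊆ (X1 : Set G).toFinset := by
      intro x hx
      simp only [Finset.mem_insert, Finset.mem_singleton] at hx
      rw [Set.mem_toFinset]
      rcases hx with rfl | rfl | rfl | rfl
      · exact X1.one_mem
      · exact hdX
      · exact heX
      · exact X1.mul_mem hdX heX
    have hde1 : d * e ≠ 1 := by
      intro h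
      apply hed
      calc e = d * (d * e) := by rw [← mul_assoc, hd2, one_mul]
        _ = d := by rw [h, mul_one]
    have hded : d * e ≠ d := by
      intro h
      apply he1
      calc e = d * (d * e) := by rw [← mul_assoc, hd2, one_mul]
        _ = 1 := by rw [h, hd2]
    have hdee : d * e ≠ e := by
      intro h
      apply hd1
      calc d = d * e * e := by rw [mul_assoc, he2, mul_one]
        _ = 1 := by rw [h, he2]
    have hcard4 : ({1, d, e, d * e} : Finset G).card = 4 := by
      rw [Finset.card_insert_of_notMem, Finset.card_insert_of_notMem,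
        Finset.card_insert_of_notMem, Finset.card_singleton]
      · simp only [Finset.mem_singleton]; exact fun h => hdee h.symm
      · simp only [Finset.mem_insert, Finset.mem_singleton]
        rintro (h | h)
        · exact hed h.symm
        · exact hded h.symm
      · simp only [Finset.mem_insert, Finset.mem_singleton]
        rintro (h | h | h)
        · exact hd1 h.symm
        · exact he1 h.symm
        · exact hde1 h.symm
    have hcardX : (X1 : Set G).toFinset.card = 4 := by
      rw [Set.toFinset_card, ← Nat.card_eq_fintype_card]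
      exact h4
    have heq := Finset.eq_of_subset_of_card_le hsub (by rw [hcardX, hcard4])
    intro x hx
    have hx' : x ∈ (X1 : Set G).toFinset := by rw [Set.mem_toFinset]; exact hx
    rw [← heq] at hx'
    simpa using hx'
  -- the centralizer of `e` in `A`
  set C : Subgroup G := A ⊓ Subgroup.centralizer ({e} : Set G) with hCdef
  have hCA : C ≤ A := inf_le_left
  have hmemC : ∀ a ∈ A, a ∉ C → a * e * a⁻¹ = d * e := by
    intro a ha haC
    have h1 : a * e * a⁻¹ ∈ X1 := hX1n.conj_mem e heX a
    rcases hX1set _ h1 with h | h | h | h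
    · exfalso
      apply he1
      calc e = a⁻¹ * (a * e * a⁻¹) * a := by group
        _ = 1 := by rw [h]; group
    · exfalso
      apply hed
      have hda : a * d = d * a := hdc a (hAP0 ha)
      calc e = a⁻¹ * (a * e * a⁻¹) * a := by group
        _ = a⁻¹ * d * a := by rw [h]
        _ = a⁻¹ * (d * a) := by group
        _ = a⁻¹ * (a * d) := by rw [hda]
        _ = d := by group
    · exfalso
      apply haC
      refine Subgroup.mem_inf.mpr ⟨ha, ?_⟩
      rw [Subgroup.mem_centralizer_iff]
      intro y hy
      rw [Set.mem_singleton_iff] at hy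
      rw [hy]
      calc e * a = (a * e * a⁻¹) * a := by rw [h]
        _ = a * e := by group
    · exact h
  have hindex : Nat.card ↥A ≤ 2 * Nat.card ↥C := by
    apply card_le_two_mul A C hCA
    intro a ha b hb haC hbC
    refine Subgroup.mem_inf.mpr ⟨A.mul_mem (A.inv_mem ha) hb, ?_⟩
    rw [Subgroup.mem_centralizer_iff]
    intro y hy
    rw [Set.mem_singleton_iff] at hy
    rw [hy]
    have h1 := hmemC a ha haC
    have h2 := hmemC b hb hbC
    have h3 : (a⁻¹ * b) * e * (a⁻¹ * b)⁻¹ = e := by
      calc (a⁻¹ * b) * e * (a⁻¹ * b)⁻¹ = a⁻¹ * (b * e * b⁻¹) * a := by group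
        _ = a⁻¹ * (a * e * a⁻¹) * a := by rw [h2, h1]
        _ = e := by group
    calc e * (a⁻¹ * b) = ((a⁻¹ * b) * e * (a⁻¹ * b)⁻¹) * (a⁻¹ * b) := by rw [h3]
      _ = a⁻¹ * b * e := by group
  have hCcent : C ≤ Subgroup.centralizer (X1 : Set G) := by
    intro c hc
    have hcd : c * d = d * c := hdc c (hAP0 hc.1)
    have hce : e * c = c * e := (Subgroup.mem_centralizer_iff.mp hc.2) e rfl
    rw [Subgroup.mem_centralizer_iff]
    intro x hx
    rcases hX1set x hx with rfl | rfl | rfl | rfl
    · simp
    · exact hcd.symm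
    · exact hce
    · calc d * e * c = d * (e * c) := by group
        _ = d * (c * e) := by rw [hce]
        _ = (d * c) * e := by group
        _ = (c * d) * e := by rw [hcd]
        _ = c * (d * e) := by group
  have hCX : C ≤ X1 := hCcent.trans hC
  have hC4 : Nat.card ↥C ≤ 4 := by rw [← h4]; exact Subgroup.card_le_of_le hCX
  have hCeq : C = X1 := Subgroup.eq_of_le_of_card_ge hCX (by rw [h4]; omega)
  have hXA : X1 ≤ A := by rw [← hCeq]; exact hCA
  have hAcent : A ≤ Subgroup.centralizer (X1 : Set G) := by
    intro a ha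
    rw [Subgroup.mem_centralizer_iff]
    intro x hx
    have h1 := hAab.is_comm.comm (⟨x, hXA hx⟩ : ↥A) ⟨a, ha⟩
    exact congrArg (fun z : ↥A => (z : G)) h1
  have := Subgroup.card_le_of_le (hAcent.trans hC)
  omega

end Cfsg.Agent.Lib.Helper4.NA8
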