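import Mathlib
import Cfsg.Agent.Lib.Helper4.NA8U11a

/-! Farm NA8 (S4409), unit U11 (STEP 1), part b: the quaternion case. -/

set_option autoImplicit false
open Pointwise

namespace Cfsg.Agent.Lib.Helper4.NA8

theorem q8_pair : ∀ q : QuaternionGroup 2, q ^ 2 ≠ 1 → ∃ r : QuaternionGroup 2,
    q ^ 4 = 1 ∧ r ^ 2 = q ^ 2 ∧ r * q * r⁻¹ = q⁻¹ ∧
    ∀ g : QuaternionGroup 2, g = 1 ∨ g = q ∨ g = q ^ 2 ∨ g = q ^ 3 ∨ g = r ∨ g = q * r ∨
      g = q ^ 2 * r ∨ g = q ^ 3 * r := by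
  decide

theorem q8_sq : ∀ q r : QuaternionGroup 2, q ^ 2 ≠ 1 → r ^ 2 ≠ 1 → q ^ 2 = r ^ 2 := by
  decide

theorem q8_invol : ∀ q r : QuaternionGroup 2, q ^ 2 = 1 → r ^ 2 ≠ 1 → q = 1 ∨ q = r ^ 2 := by
  decide

theorem q8_exists : ∃ q : QuaternionGroup 2, q ^ 2 ≠ 1 := by decide

variable {G : Type*} [Group G]

/-- `x0, y0` are standard generators of the quaternion subgroup `X1`. -/
structure QPair (X1 : Subgroup G) (x0 y0 : G) : Prop where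
  hx : x0 ∈ X1
  hy : y0 ∈ X1
  sq_ne : x0 ^ 2 ≠ 1
  pow4 : x0 ^ 4 = 1
  ysq : y0 ^ 2 = x0 ^ 2
  conj : y0 * x0 * y0⁻¹ = x0⁻¹
  list : ∀ g ∈ X1, g = 1 ∨ g = x0 ∨ g = x0 ^ 2 ∨ g = x0 ^ 3 ∨ g = y0 ∨ g = x0 * y0 ∨
    g = x0 ^ 2 * y0 ∨ g = x0 ^ 3 * y0

section transport

variable (X1 : Subgroup G) (e : ↥X1 ≃* QuaternionGroup 2)
include e

theorem tr_eq (a b : ↥X1) (h : e a = e b) : (a : G) = b :=
  congrArg Subtype.val (e.injective h)

theorem sq_ne_one_iff (x : G) (hx : x ∈ X1) : (e ⟨x, hx⟩) ^ 2 ≠ 1 ↔ x ^ 2 ≠ 1 := by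
  constructor
  · intro h h2
    apply h
    have : (⟨x, hx⟩ : ↥X1) ^ 2 = 1 := Subtype.ext (by simpa using h2)
    rw [← map_pow, this, map_one]
  · intro h h2
    apply h
    have h1 : e ((⟨x, hx⟩ : ↥X1) ^ 2) = e 1 := by rw [map_pow, h2, map_one]
    have := tr_eq X1 e _ _ h1
    simpa using this

theorem exists_qpair (x0 : G) (hx : x0 ∈ X1) (hsq : x0 ^ 2 ≠ 1) : ∃ y0, QPair X1 x0 y0 := by
  have hq := (sq_ne_one_iff X1 e x0 hx).mpr hsq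
  obtain ⟨r, h4, hr2, hconj, hlist⟩ := q8_pair _ hq
  refine ⟨(e.symm r : ↥X1), ⟨hx, (e.symm r).2, hsq, ?_, ?_, ?_, ?_⟩⟩
  · have := tr_eq X1 e ((⟨x0, hx⟩ : ↥X1) ^ 4) 1 (by rw [map_pow, h4, map_one])
    simpa using this
  · have := tr_eq X1 e ((e.symm r) ^ 2) ((⟨x0, hx⟩ : ↥X1) ^ 2) (by
      rw [map_pow, map_pow, MulEquiv.apply_symm_apply, hr2])
    simpa using this
  · have := tr_eq X1 e ((e.symm r) * ⟨x0, hx⟩ * (e.symm r)⁻¹) ((⟨x0, hx⟩ : ↥X1)⁻¹) (by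
      rw [map_mul, map_mul, map_inv, map_inv, MulEquiv.apply_symm_apply, hconj])
    simpa using this
  · intro g hg
    have hsymm : e (e.symm r) = r := MulEquiv.apply_symm_apply e r
    rcases hlist (e ⟨g, hg⟩) with h | h | h | h | h | h | h | h
    · left
      have := tr_eq X1 e ⟨g, hg⟩ 1 (by rw [h, map_one])
      simpa using this
    · right; left
      exact tr_eq X1 e ⟨g, hg⟩ ⟨x0, hx⟩ h
    · right; right; left
      have := tr_eq X1 e ⟨g, hg⟩ ((⟨x0, hx⟩ : ↥X1) ^ 2) (by rw [h, map_pow])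
      simpa using this
    · right; right; right; left
      have := tr_eq X1 e ⟨g, hg⟩ ((⟨x0, hx⟩ : ↥X1) ^ 3) (by rw [h, map_pow])
      simpa using this
    · right; right; right; right; left
      exact tr_eq X1 e ⟨g, hg⟩ (e.symm r) (by rw [h, hsymm])
    · right; right; right; right; right; left
      have := tr_eq X1 e ⟨g, hg⟩ ((⟨x0, hx⟩ : ↥X1) * e.symm r) (by rw [h, map_mul, hsymm])
      simpa using this
    · right; right; right; right; right; right; left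
      have := tr_eq X1 e ⟨g, hg⟩ ((⟨x0, hx⟩ : ↥X1) ^ 2 * e.symm r) (by
        rw [h, map_mul, map_pow, hsymm])
      simpa using this
    · right; right; right; right; right; right; right
      have := tr_eq X1 e ⟨g, hg⟩ ((⟨x0, hx⟩ : ↥X1) ^ 3 * e.symm r) (by
        rw [h, map_mul, map_pow, hsymm])
      simpa using this

theorem sq_eq_sq (x y : G) (hx : x ∈ X1) (hy : y ∈ X1) (hx2 : x ^ 2 ≠ 1) (hy2 : y ^ 2 ≠ 1) :
    x ^ 2 = y ^ 2 := by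
  have h := q8_sq _ _ ((sq_ne_one_iff X1 e x hx).mpr hx2) ((sq_ne_one_iff X1 e y hy).mpr hy2)
  have := tr_eq X1 e ((⟨x, hx⟩ : ↥X1) ^ 2) ((⟨y, hy⟩ : ↥X1) ^ 2) (by rw [map_pow, map_pow, h])
  simpa using this

theorem invol_eq (w x : G) (hw : w ∈ X1) (hx : x ∈ X1) (hw2 : w ^ 2 = 1) (hx2 : x ^ 2 ≠ 1) :
    w = 1 ∨ w = x ^ 2 := by
  have hw2' : (e ⟨w, hw⟩) ^ 2 = 1 := by
    have : (⟨w, hw⟩ : ↥X1) ^ 2 = 1 := Subtype.ext (by simpa using hw2)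
    rw [← map_pow, this, map_one]
  rcases q8_invol _ _ hw2' ((sq_ne_one_iff X1 e x hx).mpr hx2) with h | h
  · left
    have := tr_eq X1 e ⟨w, hw⟩ 1 (by rw [h, map_one])
    simpa using this
  · right
    have := tr_eq X1 e ⟨w, hw⟩ ((⟨x, hx⟩ : ↥X1) ^ 2) (by rw [h, map_pow])
    simpa using this

theorem exists_sq_ne_one : ∃ x ∈ X1, x ^ 2 ≠ 1 := by
  obtain ⟨q, hq⟩ := q8_exists
  refine ⟨(e.symm q : ↥X1), (e.symm q).2, ?_⟩
  have := (sq_ne_one_iff X1 e (e.symm q : ↥X1) (e.symm q).2).mp (by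
    have : (⟨((e.symm q : ↥X1) : G), (e.symm q).2⟩ : ↥X1) = e.symm q := rfl
    rw [this, MulEquiv.apply_symm_apply]
    exact hq)
  exact this

end transport

end Cfsg.Agent.Lib.Helper4.NA8
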