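import Mathlib
import Cfsg.Agent.Lib.Helper4.NA8U11b

/-! Farm NA8 (S4409), unit U11 (STEP 1), part c: a normal self-centralizing quaternion subgroup
excludes an abelian noncyclic subgroup of order `8`. -/

set_option autoImplicit false
open Pointwise

namespace Cfsg.Agent.Lib.Helper4.NA8

theorem q8_prod : ∀ q r : QuaternionGroup 2, q ^ 2 ≠ 1 → r ^ 2 ≠ 1 → r ≠ q → r ≠ q ^ 3 →
    (q * r) ^ 2 ≠ 1 ∧ r * q = (q * r)⁻¹ := by
  decide

variable {G : Type*} [Group G]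

theorem sq_eq_one_of_commute_of_inv {u x : G} (hc : Commute u x) (h : u * x * u⁻¹ = x⁻¹) :
    x ^ 2 = 1 := by
  have h1 : u * x * u⁻¹ = x := by rw [hc.eq, mul_inv_cancel_right]
  rw [h1] at h
  rw [sq]
  exact mul_eq_one_iff_eq_inv.mpr h

theorem commute_of_conj_eq {t y : G} (h : t * y * t⁻¹ = y) : Commute t y := by
  have : t * y = y * t := mul_inv_eq_iff_eq_mul.mp h
  exact this

theorem conj_eq_of_commute {t y : G} (h : Commute t y) : t * y * t⁻¹ = y := by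
  rw [h.eq, mul_inv_cancel_right]

theorem mem_centralizer_of_qpair {X1 : Subgroup G} {x0 y0 : G} (hq : QPair X1 x0 y0) (s : G)
    (hsx : Commute s x0) (hsy : Commute s y0) : s ∈ Subgroup.centralizer (X1 : Set G) := by
  rw [Subgroup.mem_centralizer_iff]
  intro g hg
  have : Commute s g := by
    rcases hq.list g hg with h | h | h | h | h | h | h | h <;> rw [h]
    · exact Commute.one_right s
    · exact hsx
    · exact hsx.pow_right 2
    · exact hsx.pow_right 3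
    · exact hsy
    · exact hsx.mul_right hsy
    · exact (hsx.pow_right 2).mul_right hsy
    · exact (hsx.pow_right 3).mul_right hsy
  exact this.eq.symm

/-- The key lemma: an element centralizing `x0` whose square centralizes `y0` lies in `X1`. -/
theorem keyQ (X1 : Subgroup G) [hn : X1.Normal] (hC : Subgroup.centralizer (X1 : Set G) ≤ X1)
    (x0 y0 : G) (hq : QPair X1 x0 y0) (t : G) (htx : t * x0 * t⁻¹ = x0)
    (hty : (t * t) * y0 * (t * t)⁻¹ = y0) : t ∈ X1 := by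
  have hu : t * y0 * t⁻¹ ∈ X1 := hn.conj_mem y0 hq.hy t
  have htx' : t⁻¹ * x0 * t = x0 := by
    calc t⁻¹ * x0 * t = t⁻¹ * (t * x0 * t⁻¹) * t := by rw [htx]
      _ = x0 := by group
  have hux : (t * y0 * t⁻¹) * x0 * (t * y0 * t⁻¹)⁻¹ = x0⁻¹ := by
    have h1 : (t * y0 * t⁻¹) * x0 * (t * y0 * t⁻¹)⁻¹
        = t * (y0 * (t⁻¹ * x0 * t) * y0⁻¹) * t⁻¹ := by group
    rw [h1, htx', hq.conj, ← conj_inv, htx]
  have hctx : Commute t x0 := commute_of_conj_eq htx
  have htt : (t * t) * y0 * (t * t)⁻¹ = t * (t * y0 * t⁻¹) * t⁻¹ := by group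
  rw [htt] at hty
  have hxx : x0 * x0 ≠ 1 := by rw [← sq]; exact hq.sq_ne
  rcases hq.list _ hu with h | h | h | h | h | h | h | h
  · exact absurd (sq_eq_one_of_commute_of_inv (by rw [h]; exact Commute.one_left x0) hux) hq.sq_ne
  · exact absurd (sq_eq_one_of_commute_of_inv (by rw [h]) hux) hq.sq_ne
  · exact absurd (sq_eq_one_of_commute_of_inv (by rw [h]; exact (Commute.refl x0).pow_left 2) hux)
      hq.sq_ne
  · exact absurd (sq_eq_one_of_commute_of_inv (by rw [h]; exact (Commute.refl x0).pow_left 3) hux)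
      hq.sq_ne
  · -- `t` centralizes `y0`
    exact hC (mem_centralizer_of_qpair hq t hctx (commute_of_conj_eq h))
  · -- `t y0 t⁻¹ = x0 y0`: contradiction
    exfalso
    rw [h, ← conj_mul, htx, h] at hty
    apply hxx
    have : x0 * x0 * y0 = 1 * y0 := by rw [one_mul, mul_assoc]; exact hty
    exact mul_right_cancel this
  · -- `t y0 t⁻¹ = x0² y0`: `x0⁻¹ t` centralizes `X1`
    have hs : x0⁻¹ * t ∈ X1 := by
      apply hC
      apply mem_centralizer_of_qpair hq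
      · exact (Commute.refl x0).inv_left.mul_left hctx
      · have h1 : t * y0 = x0 ^ 2 * y0 * t := mul_inv_eq_iff_eq_mul.mp h
        have h2 : y0 * x0⁻¹ = x0 * y0 := by
          have h3 : y0 * x0⁻¹ * y0⁻¹ = x0 := by
            rw [← conj_inv, hq.conj, inv_inv]
          exact mul_inv_eq_iff_eq_mul.mp h3
        show x0⁻¹ * t * y0 = y0 * (x0⁻¹ * t)
        calc x0⁻¹ * t * y0 = x0⁻¹ * (t * y0) := by rw [mul_assoc]
          _ = x0⁻¹ * (x0 ^ 2 * y0 * t) := by rw [h1]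
          _ = x0 * y0 * t := by rw [sq]; group
          _ = y0 * x0⁻¹ * t := by rw [h2]
          _ = y0 * (x0⁻¹ * t) := by rw [mul_assoc]
    have : t = x0 * (x0⁻¹ * t) := by group
    rw [this]
    exact X1.mul_mem hq.hx hs
  · -- `t y0 t⁻¹ = x0³ y0`: contradiction
    exfalso
    rw [h, ← conj_mul, ← conj_pow, htx, h] at hty
    apply hxx
    have h6 : x0 ^ 3 * x0 ^ 3 * y0 = 1 * y0 := by rw [one_mul, mul_assoc]; exact hty
    have h6' : x0 ^ 3 * x0 ^ 3 = 1 := mul_right_cancel h6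
    have h4 := hq.pow4
    have h6'' : x0 ^ 6 = 1 := by
      rw [show 6 = 3 + 3 from rfl, pow_add]; exact h6'
    have h7 : x0 ^ 6 = x0 ^ 4 * x0 ^ 2 := by rw [← pow_add]
    rw [h6'', h4, one_mul] at h7
    rw [← sq]; exact h7.symm

section transport2

variable (X1 : Subgroup G) (e : ↥X1 ≃* QuaternionGroup 2)
include e

theorem prod_facts (x x' : G) (hx : x ∈ X1) (hx' : x' ∈ X1) (hx2 : x ^ 2 ≠ 1) (hx'2 : x' ^ 2 ≠ 1)
    (h1 : x' ≠ x) (h3 : x' ≠ x ^ 3) : (x * x') ^ 2 ≠ 1 ∧ x' * x = (x * x')⁻¹ := by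
  have hq := (sq_ne_one_iff X1 e x hx).mpr hx2
  have hr := (sq_ne_one_iff X1 e x' hx').mpr hx'2
  have hne1 : e ⟨x', hx'⟩ ≠ e ⟨x, hx⟩ := by
    intro h
    exact h1 (tr_eq X1 e _ _ h)
  have hne3 : e ⟨x', hx'⟩ ≠ (e ⟨x, hx⟩) ^ 3 := by
    intro h
    apply h3
    have := tr_eq X1 e ⟨x', hx'⟩ ((⟨x, hx⟩ : ↥X1) ^ 3) (by rw [h, map_pow])
    simpa using this
  obtain ⟨hA, hB⟩ := q8_prod _ _ hq hr hne1 hne3
  constructor
  · have hmul : (⟨x * x', X1.mul_mem hx hx'⟩ : ↥X1) = ⟨x, hx⟩ * ⟨x', hx'⟩ := rfl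
    have := (sq_ne_one_iff X1 e (x * x') (X1.mul_mem hx hx')).mp (by
      rw [hmul, map_mul]; exact hA)
    exact this
  · have := tr_eq X1 e ((⟨x', hx'⟩ : ↥X1) * ⟨x, hx⟩) (((⟨x, hx⟩ : ↥X1) * ⟨x', hx'⟩)⁻¹) (by
      rw [map_mul, map_inv, map_mul, hB])
    simpa using this

end transport2

theorem card_le_two_of_inj {α : Type*} [Finite α] (f : α → G) (hf : Function.Injective f) (z : G)
    (h : ∀ a, f a = 1 ∨ f a = z) : Nat.card α ≤ 2 := by
  classical
  have hinj : Function.Injective (fun a : α => decide (f a = 1)) := by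
    intro a b hab
    apply hf
    simp only [decide_eq_decide] at hab
    rcases h a with ha | ha
    · rw [ha, (hab.mp ha)]
    · rcases h b with hb | hb
      · rw [hb, hab.mpr hb]
      · rw [ha, hb]
  have := Nat.card_le_card_of_injective _ hinj
  simpa using this

theorem pow_four_eq_one (A : Subgroup G) (hA8 : Nat.card ↥A = 8) (hnc : ¬ IsCyclic ↥A) :
    ∀ a ∈ A, a ^ 4 = 1 := by
  intro a ha
  have hfin : Finite ↥A := Nat.finite_of_card_ne_zero (by rw [hA8]; norm_num)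
  have hdvd : orderOf (⟨a, ha⟩ : ↥A) ∣ 2 ^ 3 := by
    have := orderOf_dvd_natCard (⟨a, ha⟩ : ↥A)
    rw [hA8] at this
    exact this
  obtain ⟨m, hm, hmo⟩ := (Nat.dvd_prime_pow Nat.prime_two).mp hdvd
  have h4 : (⟨a, ha⟩ : ↥A) ^ 4 = 1 := by
    rw [← orderOf_dvd_iff_pow_eq_one, hmo]
    interval_cases m
    · norm_num
    · norm_num
    · norm_num
    · exfalso
      apply hnc
      apply isCyclic_of_orderOf_eq_card (⟨a, ha⟩ : ↥A)
      rw [hmo, hA8]; norm_num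
  have := congrArg Subtype.val h4
  simpa using this

theorem comm_of_mem {A : Subgroup G} (hAab : IsMulCommutative ↥A) {a b : G} (ha : a ∈ A)
    (hb : b ∈ A) : a * b = b * a :=
  congrArg Subtype.val (hAab.is_comm.comm (⟨a, ha⟩ : ↥A) ⟨b, hb⟩)

open scoped IsMulCommutative in
theorem exists_invol_ne (A : Subgroup G) (hAab : IsMulCommutative ↥A) (hA8 : Nat.card ↥A = 8)
    (h4 : ∀ a ∈ A, a ^ 4 = 1) (z : G) : ∃ w ∈ A, w ^ 2 = 1 ∧ w ≠ 1 ∧ w ≠ z := by
  classical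
  have hfin : Finite ↥A := Nat.finite_of_card_ne_zero (by rw [hA8]; norm_num)
  by_contra hcon
  push Not at hcon
  let φ : ↥A →* ↥A := powMonoidHom 2
  have hker : ∀ a : ↥A, a ∈ φ.ker ↔ (a : G) ^ 2 = 1 := by
    intro a
    rw [MonoidHom.mem_ker]
    show a ^ 2 = 1 ↔ _
    rw [Subtype.ext_iff]
    simp
  have hrange : φ.range ≤ φ.ker := by
    rintro _ ⟨a, rfl⟩
    rw [hker]
    show ((a ^ 2 : ↥A) : G) ^ 2 = 1
    rw [Subgroup.coe_pow, ← pow_mul]
    exact h4 a a.2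
  have h1 : Nat.card φ.ker * Nat.card φ.range = 8 := by
    rw [← hA8, ← Subgroup.index_ker, Subgroup.card_mul_index]
  have h2 : Nat.card φ.range ≤ Nat.card φ.ker := Subgroup.card_le_of_le hrange
  have h3 : Nat.card φ.ker ≤ 2 := by
    apply card_le_two_of_inj (fun a : φ.ker => ((a : ↥A) : G)) _ z
    · intro a
      by_cases ha1 : ((a : ↥A) : G) = 1
      · left; exact ha1
      · right
        exact hcon _ (a : ↥A).2 ((hker a).mp a.2) ha1
    · intro a b hab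
      exact Subtype.ext (Subtype.ext hab)
  have h5 : Nat.card φ.ker * Nat.card φ.range ≤ 2 * 2 := Nat.mul_le_mul h3 (h2.trans h3)
  omega

/-- The quaternion case of STEP 1. -/
theorem false_of_q8 (X1 : Subgroup G) [hn : X1.Normal]
    (e : ↥X1 ≃* QuaternionGroup 2) (hC : Subgroup.centralizer (X1 : Set G) ≤ X1)
    (A : Subgroup G) (hAab : IsMulCommutative ↥A) (hnc : ¬ IsCyclic ↥A)
    (hA8 : Nat.card ↥A = 8) : False := by
  have hfin : Finite ↥A := Nat.finite_of_card_ne_zero (by rw [hA8]; norm_num)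
  have h4 := pow_four_eq_one A hA8 hnc
  obtain ⟨x, hxX, hx2⟩ := exists_sq_ne_one X1 e
  obtain ⟨w, hwA, hw2, hw1, hwz⟩ := exists_invol_ne A hAab hA8 h4 (x ^ 2)
  have hwX : w ∉ X1 := by
    intro hw
    rcases invol_eq X1 e w x hw hxX hw2 hx2 with h | h
    · exact hw1 h
    · exact hwz h
  have hww : w * w = 1 := by rw [← sq]; exact hw2
  have hkey : ∀ x0 ∈ X1, x0 ^ 2 ≠ 1 → w * x0 * w⁻¹ ≠ x0 := by
    intro x0 hx0 hx02 hcomm
    obtain ⟨y0, hq⟩ := exists_qpair X1 e x0 hx0 hx02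
    apply hwX
    apply keyQ X1 hC x0 y0 hq w hcomm
    rw [hww]; simp
  have hpow3 : ∀ x0 ∈ X1, x0 ^ 2 ≠ 1 → x0 ^ 3 = x0⁻¹ := by
    intro x0 hx0 hx02
    obtain ⟨y0, hq⟩ := exists_qpair X1 e x0 hx0 hx02
    apply eq_inv_of_mul_eq_one_left
    rw [← pow_succ]
    exact hq.pow4
  have hconj2 : ∀ (g y : G), y ∈ X1 → y ^ 2 ≠ 1 → (g * y * g⁻¹) ^ 2 ≠ 1 := by
    intro g y _ hy2
    rw [conj_pow]
    intro h
    exact hy2 (conj_eq_one_iff.mp h)
  -- an element of order four inverted by `w`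
  obtain ⟨x0, hx0X, hx02, hwx0⟩ : ∃ x0 ∈ X1, x0 ^ 2 ≠ 1 ∧ w * x0 * w⁻¹ = x0⁻¹ := by
    have hx'X : w * x * w⁻¹ ∈ X1 := hn.conj_mem x hxX w
    have hx'2 : (w * x * w⁻¹) ^ 2 ≠ 1 := hconj2 w x hxX hx2
    by_cases h1 : w * x * w⁻¹ = x
    · exact absurd h1 (hkey x hxX hx2)
    by_cases h3 : w * x * w⁻¹ = x ^ 3
    · refine ⟨x, hxX, hx2, ?_⟩
      rw [h3]
      exact hpow3 x hxX hx2
    · obtain ⟨hprod2, hprodinv⟩ := prod_facts X1 e x (w * x * w⁻¹) hxX hx'X hx2 hx'2 h1 h3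
      refine ⟨x * (w * x * w⁻¹), X1.mul_mem hxX hx'X, hprod2, ?_⟩
      have hback : w * (w * x * w⁻¹) * w⁻¹ = x := by
        calc w * (w * x * w⁻¹) * w⁻¹ = (w * w) * x * (w * w)⁻¹ := by group
          _ = x := by rw [hww]; simp
      rw [← conj_mul, hback, hprodinv]
  -- every element of `A` normalizes `⟨x0⟩`
  have hnorm : ∀ a ∈ A, a * x0 * a⁻¹ = x0 ∨ a * x0 * a⁻¹ = x0⁻¹ := by
    intro a ha
    have hx1X : a * x0 * a⁻¹ ∈ X1 := hn.conj_mem x0 hx0X a
    have hx12 : (a * x0 * a⁻¹) ^ 2 ≠ 1 := hconj2 a x0 hx0X hx02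
    by_cases h1 : a * x0 * a⁻¹ = x0
    · left; exact h1
    by_cases h3 : a * x0 * a⁻¹ = x0 ^ 3
    · right
      rw [h3]
      exact hpow3 x0 hx0X hx02
    · exfalso
      obtain ⟨hprod2, hprodinv⟩ := prod_facts X1 e x0 (a * x0 * a⁻¹) hx0X hx1X hx02 hx12 h1 h3
      apply hkey (x0 * (a * x0 * a⁻¹)) (X1.mul_mem hx0X hx1X) hprod2
      have hwa : w * a = a * w := comm_of_mem hAab hwA ha
      have hw1 : w * (a * x0 * a⁻¹) * w⁻¹ = (a * x0 * a⁻¹)⁻¹ := by
        calc w * (a * x0 * a⁻¹) * w⁻¹ = (w * a) * x0 * (w * a)⁻¹ := by group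
          _ = (a * w) * x0 * (a * w)⁻¹ := by rw [hwa]
          _ = a * (w * x0 * w⁻¹) * a⁻¹ := by group
          _ = (a * x0 * a⁻¹)⁻¹ := by rw [hwx0, conj_inv]
      rw [← conj_mul, hwx0, hw1, ← mul_inv_rev, hprodinv, inv_inv]
  -- the centralizer of `x0` in `A`
  set A0 : Subgroup G := A ⊓ Subgroup.centralizer ({x0} : Set G) with hA0
  have hmemA0 : ∀ g, g ∈ A0 ↔ g ∈ A ∧ g * x0 * g⁻¹ = x0 := by
    intro g
    rw [hA0, Subgroup.mem_inf, Subgroup.mem_centralizer_singleton_iff]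
    constructor
    · rintro ⟨h1, h2⟩
      exact ⟨h1, mul_inv_eq_iff_eq_mul.mpr h2⟩
    · rintro ⟨h1, h2⟩
      exact ⟨h1, mul_inv_eq_iff_eq_mul.mp h2⟩
  have hcard : Nat.card ↥A ≤ 2 * Nat.card ↥A0 := by
    apply card_le_two_mul A A0 inf_le_left
    intro a ha b hb haC hbC
    have hainv : a * x0 * a⁻¹ = x0⁻¹ := by
      rcases hnorm a ha with h | h
      · exact absurd ((hmemA0 a).mpr ⟨ha, h⟩) haC
      · exact h
    have hbinv : b * x0 * b⁻¹ = x0⁻¹ := by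
      rcases hnorm b hb with h | h
      · exact absurd ((hmemA0 b).mpr ⟨hb, h⟩) hbC
      · exact h
    rw [hmemA0]
    refine ⟨A.mul_mem (A.inv_mem ha) hb, ?_⟩
    have ha' : a⁻¹ * x0⁻¹ * a = x0 := by
      rw [← hainv]; group
    calc a⁻¹ * b * x0 * (a⁻¹ * b)⁻¹ = a⁻¹ * (b * x0 * b⁻¹) * a := by group
      _ = x0 := by rw [hbinv, ha']
  -- `A0 ≤ X1`
  have hA0X : ∀ a ∈ A0, a ∈ X1 := by
    intro a ha
    obtain ⟨haA, hax⟩ := (hmemA0 a).mp ha
    obtain ⟨y0, hq⟩ := exists_qpair X1 e x0 hx0X hx02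
    have ha4 : a * a * (a * a) = 1 := by
      have := h4 a haA
      calc a * a * (a * a) = a ^ 4 := by rw [show 4 = 2 + 2 from rfl, pow_add, sq]
        _ = 1 := this
    have haa : a * a ∈ X1 := by
      apply keyQ X1 hC x0 y0 hq (a * a)
      · calc a * a * x0 * (a * a)⁻¹ = a * (a * x0 * a⁻¹) * a⁻¹ := by group
          _ = x0 := by rw [hax, hax]
      · rw [ha4]; simp
    apply keyQ X1 hC x0 y0 hq a hax
    rcases invol_eq X1 e (a * a) x0 haa hx0X (by rw [sq]; exact ha4) hx02 with h | h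
    · rw [h]; simp
    · rw [h, ← hq.ysq]
      group
  -- an element of order four in `A0`
  have hex : ∃ x1 ∈ A0, x1 ^ 2 ≠ 1 := by
    by_contra hcon
    push Not at hcon
    have hfin0 : Finite ↥A0 :=
      Finite.of_injective (Subgroup.inclusion (inf_le_left : A0 ≤ A))
        (Subgroup.inclusion_injective _)
    have : Nat.card ↥A0 ≤ 2 := by
      apply card_le_two_of_inj (fun a : ↥A0 => (a : G)) Subtype.val_injective (x0 ^ 2)
      intro a
      exact invol_eq X1 e a x0 (hA0X a a.2) hx0X (hcon a a.2) hx02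
    omega
  obtain ⟨x1, hx1A0, hx12⟩ := hex
  have hx1A : x1 ∈ A := ((hmemA0 x1).mp hx1A0).1
  apply hkey x1 (hA0X x1 hx1A0) hx12
  rw [comm_of_mem hAab hwA hx1A, mul_inv_cancel_right]

end Cfsg.Agent.Lib.Helper4.NA8
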