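import Mathlib
import Cfsg.Agent.Lib.Helper1.PCore
import Cfsg.Agent.Lib.Helper1.Hall
import Cfsg.Agent.Lib.Helper1.FittingCentralizer
import Cfsg.Agent.Lib.Helper5.NA8Defs
import Cfsg.Agent.Lib.Helper4.NA8U11c

/-! Farm NA8 (S4409), unit U11 (STEP 1), part d: assembly, with the key lemma (F1) as a
hypothesis. -/

set_option autoImplicit false
open Pointwise

namespace Cfsg.Agent.Lib.Helper4.NA8

open Cfsg.Agent.Lib.Helper5.NA8

theorem U11_step1_of_F1 {S : Type*} [Group S] [Finite S] [Group.IsSolvable S]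
    (F1 : ∀ (Y K : Subgroup S), IsPGroup 2 ↥Y → Odd (Nat.card ↥K) →
      K ≤ Subgroup.normalizer (Y : Set S) → ¬ K ≤ Subgroup.centralizer (Y : Set S) →
      ¬ CalA Y →
      (Nat.card ↥Y = 4 ∧ ¬ IsCyclic ↥Y ∧ ∀ y ∈ Y, y ^ 2 = 1) ∨
        (Nat.card ↥Y = 8 ∧ ¬ IsMulCommutative ↥Y ∧ Nonempty (↥Y ≃* QuaternionGroup 2)))
    (hO : Cfsg.pPrimeCore 2 S = ⊥) (h8 : CalA (⊤ : Subgroup S))
    (hmin : ∀ R : Subgroup S, R ≠ ⊤ → (∃ k : ℕ, R.index = 2 ^ k) → ¬ CalA R) (X : Sylow 2 S) :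
    (X : Subgroup S).Normal := by
  have : Fact (Nat.Prime 2) := ⟨Nat.prime_two⟩
  by_cases hXtop : (X : Subgroup S) = ⊤
  · rw [hXtop]; infer_instance
  set X1 : Subgroup S := Cfsg.pCore 2 S with hX1
  have hX1n : X1.Normal := Cfsg.Agent.Lib.Helper1.pCore_normal 2
  have hX1p : IsPGroup 2 ↥X1 := Cfsg.Agent.Lib.Helper1.pCore_isPGroup 2
  have hX1X : X1 ≤ (X : Subgroup S) := Cfsg.Agent.Lib.Helper1.pCore_le_sylow 2 X
  have hC : Subgroup.centralizer (X1 : Set S) ≤ X1 :=
    Cfsg.Agent.Lib.Helper1.centralizer_pCore_le 2 hO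
  by_cases hXX1 : (X : Subgroup S) ≤ X1
  · have : (X : Subgroup S) = X1 := le_antisymm hXX1 hX1X
    rw [this]; exact hX1n
  exfalso
  -- a Hall 2'-subgroup
  have hcop : (Nat.card ↥(X : Subgroup S)).Coprime (X : Subgroup S).index := X.card_coprime_index
  obtain ⟨K, hK⟩ := Cfsg.Agent.Lib.Helper1.hall_exists (G := S) (X : Subgroup S).index
    (Nat.card ↥(X : Subgroup S)) ((X : Subgroup S).index_mul_card).symm hcop.symm
  have hKodd : Odd (Nat.card ↥K) := by
    rw [hK, ← Nat.not_even_iff_odd, even_iff_two_dvd]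
    exact X.not_dvd_index
  -- `K` does not centralize `X1`
  have hKC : ¬ K ≤ Subgroup.centralizer (X1 : Set S) := by
    intro hle
    have hKX : K ≤ (X : Subgroup S) := (hle.trans hC).trans hX1X
    have hd : Nat.card ↥K ∣ Nat.card ↥(X : Subgroup S) := Subgroup.card_dvd_of_le hKX
    have h1 : (X : Subgroup S).index = 1 := by
      apply Nat.eq_one_of_dvd_coprimes hcop (hK ▸ hd) (dvd_refl _)
    exact hXtop (Subgroup.index_eq_one.mp h1)
  have hKN : K ≤ Subgroup.normalizer (X1 : Set S) := by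
    rw [Subgroup.normalizer_eq_top]; exact le_top
  -- `R = X1 ⊔ K` is a proper subgroup of 2-power index
  have hR : ¬ CalA (X1 ⊔ K) := by
    apply hmin
    · intro htop
      apply hXX1
      rw [← Subgroup.relIndex_eq_one]
      have h1 : X1.relIndex (X1 ⊔ K) = X1.relIndex K := Subgroup.relIndex_sup_left K X1
      rw [htop, Subgroup.relIndex_top_right] at h1
      have h2 : X1.index ∣ Nat.card ↥K := by rw [h1]; exact Subgroup.relIndex_dvd_card X1 K
      have h3 : X1.relIndex (X : Subgroup S) * (X : Subgroup S).index = X1.index :=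
        Subgroup.relIndex_mul_index hX1X
      have h4 : X1.relIndex (X : Subgroup S) ∣ (X : Subgroup S).index := by
        rw [← hK]
        exact (Dvd.intro _ h3).trans h2
      exact Nat.eq_one_of_dvd_coprimes hcop (Subgroup.relIndex_dvd_card X1 (X : Subgroup S)) h4
    · have hd : (X1 ⊔ K).index ∣ K.index := Subgroup.index_dvd_of_le le_sup_right
      have hKi : K.index = Nat.card ↥(X : Subgroup S) := by
        have h1 := K.index_mul_card
        have h2 := (X : Subgroup S).index_mul_card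
        rw [hK] at h1
        rw [← h2, mul_comm] at h1
        exact Nat.eq_of_mul_eq_mul_left (Nat.pos_of_ne_zero (Subgroup.index_ne_zero_of_finite)) h1
      rw [hKi, X.card_eq_multiplicity] at hd
      obtain ⟨k, _, hk⟩ := (Nat.dvd_prime_pow Nat.prime_two).mp hd
      exact ⟨k, hk⟩
  have hX1A : ¬ CalA X1 := fun h => hR (CalA.mono le_sup_left h)
  obtain ⟨A, _, hAab, hnc, hA8⟩ := h8
  rcases F1 X1 K hX1p hKodd hKN hKC hX1A with ⟨h4, _, hexp⟩ | ⟨_, _, ⟨e⟩⟩
  · exact false_of_four_group X1 h4 hexp hC A hAab hA8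
  · exact false_of_q8 X1 e hC A hAab hnc hA8

end Cfsg.Agent.Lib.Helper4.NA8
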