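import Mathlib

/-! S3921, piece RV-C: `PGL(2, K)` has trivial centre. -/
set_option autoImplicit false

namespace Cfsg.Agent.Lib.Helper4.NCyc

open Matrix

theorem rvc_aux {K : Type*} [Field K] (a b c d u v : K) (hdet : a * d - b * c ≠ 0)
    (hu00 : (a + c) * u = a) (hu01 : (b + d) * u = a + b) (hu10 : c * u = c)
    (hu11 : d * u = c + d) (hv00 : a * v = a + b) (hv10 : (a + c) * v = c + d) :
    c = 0 ∧ b = 0 ∧ a = d := by
  by_cases h1 : u = 1
  · subst h1
    have hc : c = 0 := by linear_combination hu00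
    have hd : a = d := by linear_combination -hu01
    subst hc
    refine ⟨rfl, ?_, hd⟩
    linear_combination -hv00 + hv10 - hd
  · exfalso
    have h2 : c * (u - 1) = 0 := by linear_combination hu10
    have h3 : u - 1 ≠ 0 := sub_ne_zero.2 h1
    have hc : c = 0 := by
      rcases mul_eq_zero.1 h2 with h | h
      · exact h
      · exact absurd h h3
    have h4 : d * (u - 1) = 0 := by linear_combination hu11 + hc
    have hd : d = 0 := by
      rcases mul_eq_zero.1 h4 with h | h
      · exact h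
      · exact absurd h h3
    apply hdet
    rw [hc, hd]
    ring

theorem center_pgl_eq_bot {K : Type*} [Field K] :
    Subgroup.center (Matrix.ProjGenLinGroup (Fin 2) K) = ⊥ := by
  rw [eq_bot_iff]
  intro z hz
  rw [Subgroup.mem_bot]
  induction z using Matrix.ProjGenLinGroup.induction_on with | mk g =>
  rw [Matrix.ProjGenLinGroup.mk_eq_one,
    Matrix.GeneralLinearGroup.mem_center_iff_val_mem_range_scalar]
  rw [Subgroup.mem_center_iff] at hz
  have key : ∀ x : GL (Fin 2) K, ∃ u : Kˣ,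
      (x : Matrix (Fin 2) (Fin 2) K) * (g : Matrix (Fin 2) (Fin 2) K) *
        Matrix.scalar (Fin 2) (u : K) = (g : Matrix (Fin 2) (Fin 2) K) * x := by
    intro x
    have h1 := hz (ProjGenLinGroup.mk x)
    rw [← map_mul, ← map_mul, ProjGenLinGroup.mk_eq_mk_iff] at h1
    obtain ⟨u, hu⟩ := h1
    refine ⟨u, ?_⟩
    have h2 := congrArg (fun m : GL (Fin 2) K => (m : Matrix (Fin 2) (Fin 2) K)) hu
    simpa using h2
  let U : GL (Fin 2) K := Matrix.GeneralLinearGroup.mkOfDetNeZero !![1, 1; 0, 1]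
    (by simp [Matrix.det_fin_two])
  let L : GL (Fin 2) K := Matrix.GeneralLinearGroup.mkOfDetNeZero !![1, 0; 1, 1]
    (by simp [Matrix.det_fin_two])
  have hU : (U : Matrix (Fin 2) (Fin 2) K) = !![1, 1; 0, 1] := rfl
  have hL : (L : Matrix (Fin 2) (Fin 2) K) = !![1, 0; 1, 1] := rfl
  obtain ⟨u, hu⟩ := key U
  obtain ⟨v, hv⟩ := key L
  rw [hU] at hu
  rw [hL] at hv
  have hdet : (g : Matrix (Fin 2) (Fin 2) K).det ≠ 0 := by
    rw [← Matrix.GeneralLinearGroup.val_det_apply]
    exact Units.ne_zero _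
  rw [Matrix.det_fin_two] at hdet
  have hu00 := congrFun (congrFun hu 0) 0
  have hu01 := congrFun (congrFun hu 0) 1
  have hu10 := congrFun (congrFun hu 1) 0
  have hu11 := congrFun (congrFun hu 1) 1
  have hv00 := congrFun (congrFun hv 0) 0
  have hv10 := congrFun (congrFun hv 1) 0
  simp [Matrix.mul_apply, Fin.sum_univ_two, Matrix.scalar_apply, Matrix.diagonal_apply,
    Matrix.vecMul, dotProduct] at hu00 hu01 hu10 hu11 hv00 hv10
  obtain ⟨hc0, hb0, had⟩ := rvc_aux _ _ _ _ _ _ hdet hu00 hu01 hu10 hu11 hv00 hv10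
  refine ⟨(g : Matrix (Fin 2) (Fin 2) K) 0 0, ?_⟩
  ext i j
  fin_cases i <;> fin_cases j
  · simp
  · simp [hb0]
  · simp [hc0]
  · simp [had]

end Cfsg.Agent.Lib.Helper4.NCyc
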