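import Mathlib

/-!
# Farm NG5 (S1904): the parity core (PAR)

In one ambient group, no quotients: `M` a central subgroup, `N ≤ M` of index at most two
(stated elementwise), `H` a finite subgroup all of whose commutators lie in `M`, and `R` the
"radical" `{h ∈ H | ∀ k ∈ H, ⁅h, k⁆ ∈ N}`.  Then `|H| = 4 ^ m * |R|` for some `m`.
-/

set_option autoImplicit false

namespace Cfsg.Agent.Lib.Helper4.NG5Par

open scoped commutatorElement

variable {G : Type*} [Group G]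

theorem comm_swap_mem (N : Subgroup G) (a b : G) (h : ⁅a, b⁆ ∈ N) : ⁅b, a⁆ ∈ N := by
  have h1 : ⁅b, a⁆ = ⁅a, b⁆⁻¹ := (commutatorElement_inv a b).symm
  rw [h1]
  exact N.inv_mem h

theorem comm_mul_left_of_central (M : Subgroup G) (hMc : ∀ m ∈ M, ∀ g : G, m * g = g * m)
    (a b x : G) (hb : ⁅b, x⁆ ∈ M) : ⁅a * b, x⁆ = ⁅a, x⁆ * ⁅b, x⁆ := by
  have h1 : ⁅a * b, x⁆ = a * ⁅b, x⁆ * a⁻¹ * ⁅a, x⁆ := by
    simp only [commutatorElement_def]
    group
  have h2 : a * ⁅b, x⁆ * a⁻¹ = ⁅b, x⁆ := by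
    rw [← hMc _ hb a]
    group
  rw [h1, h2, hMc _ hb]

theorem mul_mem_iff_of_index_two (M N : Subgroup G) (_hNM : N ≤ M)
    (hidx : ∀ a ∈ M, ∀ b ∈ M, a ∉ N → b ∉ N → a * b ∈ N) (u v : G) (hu : u ∈ M) (hv : v ∈ M) :
    u * v ∈ N ↔ (u ∈ N ↔ v ∈ N) := by
  by_cases h1 : u ∈ N
  · rw [Subgroup.mul_mem_cancel_left N h1]
    exact ⟨fun h => ⟨fun _ => h, fun _ => h1⟩, fun h => h.1 h1⟩
  · by_cases h2 : v ∈ N
    · rw [Subgroup.mul_mem_cancel_right N h2]
      exact ⟨fun h => absurd h h1, fun h => h.2 h2⟩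
    · exact ⟨fun _ => ⟨fun h => absurd h h1, fun h => absurd h h2⟩, fun _ => hidx u hu v hv h1 h2⟩

/-- The "centralizer modulo `N`" of `w` in `H`, as a subgroup given by its membership. -/
theorem exists_cent (M N : Subgroup G) (hNM : N ≤ M) (hMc : ∀ m ∈ M, ∀ g : G, m * g = g * m)
    (H : Subgroup G) (w : G) :
    ∃ C : Subgroup G, ∀ g, g ∈ C ↔ g ∈ H ∧ ⁅g, w⁆ ∈ N := by
  refine ⟨{ carrier := {g | g ∈ H ∧ ⁅g, w⁆ ∈ N}
            mul_mem' := ?_
            one_mem' := ?_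
            inv_mem' := ?_ }, fun g => Iff.rfl⟩
  · rintro a b ⟨ha, ha'⟩ ⟨hb, hb'⟩
    refine ⟨H.mul_mem ha hb, ?_⟩
    rw [comm_mul_left_of_central M hMc a b w (hNM hb')]
    exact N.mul_mem ha' hb'
  · refine ⟨H.one_mem, ?_⟩
    rw [commutatorElement_one_left]
    exact N.one_mem
  · rintro a ⟨ha, ha'⟩
    refine ⟨H.inv_mem ha, ?_⟩
    have h1 : ⁅a⁻¹ * a, w⁆ = ⁅a⁻¹, w⁆ * ⁅a, w⁆ :=
      comm_mul_left_of_central M hMc a⁻¹ a w (hNM ha')
    rw [inv_mul_cancel, commutatorElement_one_left] at h1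
    have h2 : ⁅a⁻¹, w⁆ = ⁅a, w⁆⁻¹ := eq_inv_of_mul_eq_one_left h1.symm
    rw [h2]
    exact N.inv_mem ha'

theorem card_eq_two_mul (L K : Subgroup G) [Finite L] (hKL : K ≤ L) (t : G) (ht : t ∈ L)
    (hx : ∀ b ∈ L, Xor (b * t ∈ K) (b ∈ K)) : Nat.card L = 2 * Nat.card K := by
  have h2 : (K.subgroupOf L).index = 2 := by
    rw [Subgroup.index_eq_two_iff]
    refine ⟨⟨t, ht⟩, fun b => ?_⟩
    have h := hx b.1 b.2
    simpa [Subgroup.mem_subgroupOf] using h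
  have h3 := Subgroup.card_mul_index (K.subgroupOf L)
  rw [h2] at h3
  have h4 : Nat.card (K.subgroupOf L) = Nat.card K :=
    Nat.card_congr (Subgroup.subgroupOfEquivOfLe hKL).toEquiv
  omega

/-- Index two of `L ⊓ C_w` in `L` when some `t ∈ L` has `⁅t, w⁆ ∉ N`. -/
theorem card_eq_two_mul_cent (M N : Subgroup G) (hNM : N ≤ M)
    (hMc : ∀ m ∈ M, ∀ g : G, m * g = g * m)
    (hidx : ∀ a ∈ M, ∀ b ∈ M, a ∉ N → b ∉ N → a * b ∈ N)
    (H : Subgroup G) (hcomm : ∀ a ∈ H, ∀ b ∈ H, ⁅a, b⁆ ∈ M)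
    (L : Subgroup G) [Finite L] (hLH : L ≤ H) (w : G) (hw : w ∈ H) (t : G) (ht : t ∈ L)
    (htw : ⁅t, w⁆ ∉ N) (K : Subgroup G) (hK : ∀ g, g ∈ K ↔ g ∈ L ∧ ⁅g, w⁆ ∈ N) :
    Nat.card L = 2 * Nat.card K := by
  refine card_eq_two_mul L K (fun g hg => ((hK g).1 hg).1) t ht ?_
  intro b hb
  have hbt : ⁅b * t, w⁆ = ⁅b, w⁆ * ⁅t, w⁆ :=
    comm_mul_left_of_central M hMc b t w (hcomm t (hLH ht) w hw)
  have hiff := mul_mem_iff_of_index_two M N hNM hidx ⁅b, w⁆ ⁅t, w⁆ (hcomm b (hLH hb) w hw)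
    (hcomm t (hLH ht) w hw)
  rw [← hbt] at hiff
  by_cases h1 : ⁅b, w⁆ ∈ N
  · right
    refine ⟨(hK b).2 ⟨hb, h1⟩, fun h => ?_⟩
    exact htw ((hiff.1 ((hK _).1 h).2).1 h1)
  · left
    refine ⟨(hK _).2 ⟨L.mul_mem hb ht, hiff.2 ⟨fun h => absurd h h1, fun h => absurd h htw⟩⟩, ?_⟩
    exact fun h => h1 ((hK b).1 h).2

theorem par_aux (M N : Subgroup G) (hNM : N ≤ M) (hMc : ∀ m ∈ M, ∀ g : G, m * g = g * m)
    (hidx : ∀ a ∈ M, ∀ b ∈ M, a ∉ N → b ∉ N → a * b ∈ N) :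
    ∀ n : ℕ, ∀ H : Subgroup G, Finite H → Nat.card H = n →
      (∀ a ∈ H, ∀ b ∈ H, ⁅a, b⁆ ∈ M) →
      ∀ R : Subgroup G, (∀ g, g ∈ R ↔ g ∈ H ∧ ∀ k ∈ H, ⁅g, k⁆ ∈ N) →
      ∃ m : ℕ, Nat.card H = 4 ^ m * Nat.card R := by
  intro n
  induction n using Nat.strong_induction_on with
  | _ n ih =>
    intro H hfin hn hcomm R hR
    by_cases hall : ∀ a ∈ H, ∀ b ∈ H, ⁅a, b⁆ ∈ N
    · refine ⟨0, ?_⟩
      have : R = H := by
        ext g
        rw [hR g]
        exact ⟨fun h => h.1, fun h => ⟨h, hall g h⟩⟩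
      rw [this]
      simp
    · push Not at hall
      obtain ⟨x, hxH, y, hyH, hxy⟩ := hall
      have hyx : ⁅y, x⁆ ∉ N := fun h => hxy (comm_swap_mem N y x h)
      obtain ⟨Cx, hCx⟩ := exists_cent M N hNM hMc H x
      obtain ⟨Cy, hCy⟩ := exists_cent M N hNM hMc H y
      have hCxH : Cx ≤ H := fun g hg => ((hCx g).1 hg).1
      have : Finite Cx := Finite.of_injective _ (Subgroup.inclusion_injective hCxH)
      have hxCx : x ∈ Cx := by
        rw [hCx]
        refine ⟨hxH, ?_⟩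
        rw [commutatorElement_self]
        exact N.one_mem
      have hyCy : y ∈ Cy := by
        rw [hCy]
        refine ⟨hyH, ?_⟩
        rw [commutatorElement_self]
        exact N.one_mem
      have hc1 : Nat.card H = 2 * Nat.card Cx :=
        card_eq_two_mul_cent M N hNM hMc hidx H hcomm H le_rfl x hxH y hyH hyx Cx hCx
      have hK : ∀ g, g ∈ Cx ⊓ Cy ↔ g ∈ Cx ∧ ⁅g, y⁆ ∈ N := by
        intro g
        rw [Subgroup.mem_inf, hCy]
        exact ⟨fun h => ⟨h.1, h.2.2⟩, fun h => ⟨h.1, hCxH h.1, h.2⟩⟩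
      have hc2 : Nat.card Cx = 2 * Nat.card ↥(Cx ⊓ Cy) :=
        card_eq_two_mul_cent M N hNM hMc hidx H hcomm Cx hCxH y hyH x hxCx hxy (Cx ⊓ Cy) hK
      have hH'H : Cx ⊓ Cy ≤ H := fun g hg => hCxH hg.1
      have : Finite ↥(Cx ⊓ Cy) := Finite.of_injective _ (Subgroup.inclusion_injective hH'H)
      have hpos : 0 < Nat.card ↥(Cx ⊓ Cy) := Nat.card_pos
      have hlt : Nat.card ↥(Cx ⊓ Cy) < n := by omega
      have hR' : ∀ g, g ∈ R ↔ g ∈ Cx ⊓ Cy ∧ ∀ k ∈ Cx ⊓ Cy, ⁅g, k⁆ ∈ N := by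
        intro g
        constructor
        · intro hg
          obtain ⟨hgH, hgk⟩ := (hR g).1 hg
          refine ⟨⟨(hCx g).2 ⟨hgH, hgk x hxH⟩, (hCy g).2 ⟨hgH, hgk y hyH⟩⟩, ?_⟩
          exact fun k hk => hgk k (hH'H hk)
        · rintro ⟨⟨hgx, hgy⟩, hgk⟩
          have hgH : g ∈ H := hCxH hgx
          rw [hR g]
          refine ⟨hgH, ?_⟩
          obtain ⟨S, hS⟩ := exists_cent M N hNM hMc H g
          have hxS : x ∈ S := (hS x).2 ⟨hxH, comm_swap_mem N g x ((hCx g).1 hgx).2⟩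
          have hyS : y ∈ S := (hS y).2 ⟨hyH, comm_swap_mem N g y ((hCy g).1 hgy).2⟩
          have hH'S : ∀ k ∈ Cx ⊓ Cy, k ∈ S := fun k hk =>
            (hS k).2 ⟨hH'H hk, comm_swap_mem N g k (hgk k hk)⟩
          have key : ∀ k ∈ H, k ∈ S := by
            intro k hk
            -- first adjust into `Cy`
            have step1 : ∃ k1 ∈ H, ⁅k1, y⁆ ∈ N ∧ (k1 ∈ S → k ∈ S) := by
              by_cases h1 : ⁅k, y⁆ ∈ N
              · exact ⟨k, hk, h1, id⟩
              · refine ⟨k * x, H.mul_mem hk hxH, ?_, fun h => ?_⟩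
                · rw [comm_mul_left_of_central M hMc k x y (hcomm x hxH y hyH)]
                  exact hidx _ (hcomm k hk y hyH) _ (hcomm x hxH y hyH) h1 hxy
                · exact (Subgroup.mul_mem_cancel_right S hxS).1 h
            obtain ⟨k1, hk1H, hk1y, hk1S⟩ := step1
            by_cases h2 : ⁅k1, x⁆ ∈ N
            · exact hk1S (hH'S k1 ⟨(hCx k1).2 ⟨hk1H, h2⟩, (hCy k1).2 ⟨hk1H, hk1y⟩⟩)
            · have h3 : ⁅k1 * y, x⁆ ∈ N := by
                rw [comm_mul_left_of_central M hMc k1 y x (hcomm y hyH x hxH)]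
                exact hidx _ (hcomm k1 hk1H x hxH) _ (hcomm y hyH x hxH) h2 hyx
              have h4 : ⁅k1 * y, y⁆ ∈ N := by
                rw [comm_mul_left_of_central M hMc k1 y y (hcomm y hyH y hyH),
                  commutatorElement_self, mul_one]
                exact hk1y
              have h5 : k1 * y ∈ S :=
                hH'S _ ⟨(hCx _).2 ⟨H.mul_mem hk1H hyH, h3⟩, (hCy _).2 ⟨H.mul_mem hk1H hyH, h4⟩⟩
              exact hk1S ((Subgroup.mul_mem_cancel_right S hyS).1 h5)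
          intro k hk
          exact comm_swap_mem N k g ((hS k).1 (key k hk)).2
      obtain ⟨m, hm⟩ := ih _ hlt (Cx ⊓ Cy) inferInstance rfl
        (fun a ha b hb => hcomm a (hH'H ha) b (hH'H hb)) R hR'
      refine ⟨m + 1, ?_⟩
      rw [hc1, hc2, hm, pow_succ]
      ring

/-- **PAR**, relative form. -/
theorem par (M N : Subgroup G) (hNM : N ≤ M) (hMc : ∀ m ∈ M, ∀ g : G, m * g = g * m)
    (hidx : ∀ a ∈ M, ∀ b ∈ M, a ∉ N → b ∉ N → a * b ∈ N)
    (H : Subgroup G) [Finite H] (hcomm : ∀ a ∈ H, ∀ b ∈ H, ⁅a, b⁆ ∈ M)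
    (R : Subgroup G) (hR : ∀ g, g ∈ R ↔ g ∈ H ∧ ∀ k ∈ H, ⁅g, k⁆ ∈ N) :
    ∃ m : ℕ, Nat.card H = 4 ^ m * Nat.card R :=
  par_aux M N hNM hMc hidx _ H inferInstance rfl hcomm R hR

/-- **PAR** for the whole group. -/
theorem par_top [Finite G] (M N : Subgroup G) (hNM : N ≤ M)
    (hMc : ∀ m ∈ M, ∀ g : G, m * g = g * m)
    (hidx : ∀ a ∈ M, ∀ b ∈ M, a ∉ N → b ∉ N → a * b ∈ N)
    (hcomm : ∀ a b : G, ⁅a, b⁆ ∈ M)
    (R : Subgroup G) (hR : ∀ g, g ∈ R ↔ ∀ k : G, ⁅g, k⁆ ∈ N) :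
    ∃ m : ℕ, Nat.card G = 4 ^ m * Nat.card R := by
  obtain ⟨m, hm⟩ := par M N hNM hMc hidx ⊤ (fun a _ b _ => hcomm a b) R
    (fun g => by rw [hR g]; simp)
  refine ⟨m, ?_⟩
  rw [← hm]
  exact (Nat.card_congr Subgroup.topEquiv.toEquiv).symm

/-- **PAR**, absolute form: a finite group whose commutator subgroup has order two has
`|G : Z(G)|` a power of four. -/
theorem card_eq_four_pow_mul_card_center [Finite G] (h2 : Nat.card (commutator G) = 2) :
    ∃ m : ℕ, Nat.card G = 4 ^ m * Nat.card (Subgroup.center G) := by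
  obtain ⟨c, hc1, hcu⟩ := (Nat.card_eq_two_iff' (1 : commutator G)).1 h2
  have hcases : ∀ a ∈ commutator G, a = 1 ∨ a = (c : G) := by
    intro a ha
    by_cases h1 : a = 1
    · exact Or.inl h1
    · right
      have h3 : (⟨a, ha⟩ : commutator G) ≠ 1 := fun h => h1 (congrArg Subtype.val h)
      exact congrArg Subtype.val (hcu ⟨a, ha⟩ h3)
  have hc1' : (c : G) ≠ 1 := fun h => hc1 (Subtype.ext h)
  have hMc : ∀ m ∈ commutator G, ∀ g : G, m * g = g * m := by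
    intro m hm g
    rcases hcases m hm with h1 | h1
    · rw [h1]; simp
    · have hconj : g⁻¹ * m * g ∈ commutator G := by
        have := (inferInstance : (commutator G).Normal).conj_mem m hm g⁻¹
        simpa using this
      have hne : g⁻¹ * m * g ≠ 1 := by
        intro h
        apply hc1'
        have h3 : m = g * (g⁻¹ * m * g) * g⁻¹ := by group
        rw [← h1, h3, h]
        group
      rcases hcases _ hconj with h4 | h4
      · exact absurd h4 hne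
      · calc m * g = g * (g⁻¹ * m * g) := by group
          _ = g * m := by rw [h4, h1]
  have hidx : ∀ a ∈ commutator G, ∀ b ∈ commutator G, a ∉ (⊥ : Subgroup G) →
      b ∉ (⊥ : Subgroup G) → a * b ∈ (⊥ : Subgroup G) := by
    intro a ha b hb ha1 hb1
    rw [Subgroup.mem_bot] at *
    rcases hcases a ha with h | h
    · exact absurd h ha1
    rcases hcases b hb with h' | h'
    · exact absurd h' hb1
    rcases hcases (a * b) ((commutator G).mul_mem ha hb) with h3 | h3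
    · exact h3
    · exfalso
      rw [h, h'] at h3
      exact hc1' (by simpa using h3)
  refine par_top (commutator G) ⊥ bot_le hMc hidx
    (fun a b => Subgroup.commutator_mem_commutator (Subgroup.mem_top a) (Subgroup.mem_top b))
    (Subgroup.center G) ?_
  intro g
  rw [Subgroup.mem_center_iff]
  constructor
  · intro h k
    rw [Subgroup.mem_bot, commutatorElement_eq_one_iff_mul_comm]
    exact (h k).symm
  · intro h k
    have := h k
    rw [Subgroup.mem_bot, commutatorElement_eq_one_iff_mul_comm] at this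
    exact this.symm

end Cfsg.Agent.Lib.Helper4.NG5Par
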