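import Mathlib
import Cfsg.Prelude.Def_Transfer
import Cfsg.Agent.Lib.Helper8.NG5Defs
import Cfsg.Agent.Lib.Helper5.NG5U12
import Cfsg.Agent.Lib.Helper4.NG5Par

/-!
# Farm NG5 (S1904): unit U15 (`b1a_32`): eleven involutions in the extraspecial case of order 32.
-/

set_option autoImplicit false
open scoped commutatorElement

namespace Cfsg.Agent.Lib.Helper4.NG5U15
open Cfsg.Agent.Lib.Helper8.NG5

/-- Pairwise commuting involutions generate a group of exponent 2. -/
theorem sq_eq_one_of_mem_closure {G : Type*} [Group G] (S : Set G)
    (hc : ∀ a ∈ S, ∀ b ∈ S, a * b = b * a) (h2 : ∀ a ∈ S, a ^ 2 = 1) :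
    ∀ e ∈ Subgroup.closure S, e ^ 2 = 1 := by
  have hab : ∀ a ∈ Subgroup.closure S, ∀ b ∈ Subgroup.closure S, a * b = b * a := by
    have h1 : Subgroup.closure S ≤ Subgroup.centralizer S := by
      rw [Subgroup.closure_le]
      intro a ha
      rw [SetLike.mem_coe, Subgroup.mem_centralizer_iff]
      intro b hb
      exact hc b hb a ha
    have h2' : Subgroup.closure S ≤ Subgroup.centralizer (Subgroup.closure S : Set G) := by
      rw [Subgroup.closure_le]
      intro a ha
      rw [SetLike.mem_coe, Subgroup.mem_centralizer_iff]
      intro b hb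
      have := h1 hb
      rw [Subgroup.mem_centralizer_iff] at this
      exact (this a ha).symm
    intro a ha b hb
    have := h2' ha
    rw [Subgroup.mem_centralizer_iff] at this
    exact (this b hb).symm
  intro e he
  induction he using Subgroup.closure_induction with
  | mem x hx => exact h2 x hx
  | one => simp
  | mul x y hx hy ihx ihy =>
    have := hab x hx y hy
    rw [pow_two] at *
    calc x * y * (x * y) = x * (y * x) * y := by group
      _ = x * (x * y) * y := by rw [this]
      _ = (x * x) * (y * y) := by group
      _ = 1 := by rw [ihx, ihy, one_mul]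
  | inv x hx ih => rw [inv_pow, ih, inv_one]

theorem card_filter_half {α : Type*} [Fintype α] [DecidableEq α] (P Q : α → Prop)
    [DecidablePred P] [DecidablePred Q]
    (σ : α → α) (hσ : ∀ a, σ (σ a) = a) (h1 : ∀ a, P a → Q a → P (σ a) ∧ ¬ Q (σ a))
    (h2 : ∀ a, P a → ¬ Q a → P (σ a) ∧ Q (σ a)) :
    2 * (Finset.univ.filter (fun a => P a ∧ Q a)).card = (Finset.univ.filter P).card := by
  have e : (Finset.univ.filter (fun a => P a ∧ Q a)).card =
      (Finset.univ.filter (fun a => P a ∧ ¬ Q a)).card := by
    apply Finset.card_bij' (fun a _ => σ a) (fun a _ => σ a)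
    · intro a ha
      simp only [Finset.mem_filter, Finset.mem_univ, true_and] at ha ⊢
      exact h1 a ha.1 ha.2
    · intro a ha
      simp only [Finset.mem_filter, Finset.mem_univ, true_and] at ha ⊢
      exact h2 a ha.1 ha.2
    · intro a _
      exact hσ a
    · intro a _
      exact hσ a
  have s : (Finset.univ.filter P).card = (Finset.univ.filter (fun a => P a ∧ Q a)).card +
      (Finset.univ.filter (fun a => P a ∧ ¬ Q a)).card := by
    rw [← Finset.filter_filter, ← Finset.filter_filter,
      Finset.card_filter_add_card_filter_not]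
  omega

variable {X : Type*} [Group X] [Finite X] {A : Subgroup (MulAut X)}

/-- U15. -/
theorem b1a_32 (h : Hyp X A) (b : B1 X A) (hc : Nat.card (Subgroup.center X) = 2)
    (h32 : Nat.card X = 32) : Nat.card {x : X // orderOf x = 2} = 11 := by
  classical
  have : Fintype X := Fintype.ofFinite X
  obtain ⟨z, hz1, hzu⟩ := (Nat.card_eq_two_iff' (1 : Subgroup.center X)).1 hc
  have hZ : ∀ a ∈ Subgroup.center X, a = 1 ∨ a = (z : X) := by
    intro a ha
    by_cases h1 : a = 1
    · exact Or.inl h1
    · right
      have h3 : (⟨a, ha⟩ : Subgroup.center X) ≠ 1 := fun h => h1 (congrArg Subtype.val h)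
      exact congrArg Subtype.val (hzu ⟨a, ha⟩ h3)
  have hz1' : (z : X) ≠ 1 := fun h => hz1 (Subtype.ext h)
  have hMc : ∀ m ∈ Subgroup.center X, ∀ g : X, m * g = g * m := fun m hm g =>
    ((Subgroup.mem_center_iff.1 hm) g).symm
  have hzc : ∀ g : X, (z : X) * g = g * z := hMc z z.2
  have hzz : (z : X) * z = 1 := by
    have := b.exp z z.2
    rwa [pow_two] at this
  have hidx : ∀ a ∈ Subgroup.center X, ∀ b ∈ Subgroup.center X, a ∉ (⊥ : Subgroup X) →
      b ∉ (⊥ : Subgroup X) → a * b ∈ (⊥ : Subgroup X) := by
    intro a ha b hb ha1 hb1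
    rw [Subgroup.mem_bot] at *
    rcases hZ a ha with h | h
    · exact absurd h ha1
    rcases hZ b hb with h' | h'
    · exact absurd h' hb1
    rw [h, h', hzz]
  -- the noncentral involution `u`
  obtain ⟨u, -, huZ, hu2⟩ := Cfsg.Agent.Lib.Helper5.NG5U12.cw1 (⊤ : Subgroup X)
    (Subgroup.center X) ⊥ bot_le le_top
    (fun w hw y _ => hMc w hw y) (fun y _ => b.sq y) (fun y _ y' _ => b.comm y y') hidx
    (by rw [hc, Subgroup.card_top, h32]; norm_num)
  rw [Subgroup.mem_bot, pow_two] at hu2
  have hu1 : u ≠ 1 := fun h => huZ (h ▸ (Subgroup.center X).one_mem)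
  have huz : u ≠ (z : X) := fun h => huZ (h ▸ z.2)
  -- the centralizer `K` of `u`
  obtain ⟨K, hK⟩ := Cfsg.Agent.Lib.Helper4.NG5Par.exists_cent (Subgroup.center X) ⊥ bot_le hMc ⊤ u
  have hKiff : ∀ g, g ∈ K ↔ g * u = u * g := by
    intro g
    rw [hK g, Subgroup.mem_bot, commutatorElement_eq_one_iff_mul_comm]
    simp
  have huK : u ∈ K := (hKiff u).2 rfl
  have hzK : (z : X) ∈ K := (hKiff z).2 (hzc u)
  obtain ⟨t, ht⟩ : ∃ t : X, ⁅t, u⁆ ∉ (⊥ : Subgroup X) := by
    by_contra hall
    push Not at hall
    apply huZ
    rw [Subgroup.mem_center_iff]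
    intro g
    have := hall g
    rwa [Subgroup.mem_bot, commutatorElement_eq_one_iff_mul_comm] at this
  have hcardK : Nat.card (⊤ : Subgroup X) = 2 * Nat.card K :=
    Cfsg.Agent.Lib.Helper4.NG5Par.card_eq_two_mul_cent (Subgroup.center X) ⊥ bot_le hMc hidx ⊤
      (fun a _ b' _ => b.comm a b') ⊤ le_rfl u (Subgroup.mem_top u) t (Subgroup.mem_top t) ht K hK
  rw [Subgroup.card_top, h32] at hcardK
  have hK16 : Nat.card K = 16 := by omega
  -- outside `K`
  have hout : ∀ g : X, g ∉ K → (u * g) ^ 2 = z * g ^ 2 := by
    intro g hg
    have h1 : ⁅g, u⁆ ≠ 1 := by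
      intro h1
      exact hg ((hKiff g).2 (commutatorElement_eq_one_iff_mul_comm.1 h1))
    have h2 : ⁅g, u⁆ = z := (hZ _ (b.comm g u)).resolve_left h1
    have h3 : g * u = z * u * g := by
      rw [← h2, commutatorElement_def]
      group
    rw [pow_two, pow_two]
    calc u * g * (u * g) = u * (g * u) * g := by group
      _ = u * (z * u * g) * g := by rw [h3]
      _ = u * (z * (u * g)) * g := by group
      _ = u * ((u * g) * z) * g := by rw [hzc]
      _ = (u * u) * g * (z * g) := by group
      _ = g * (g * z) := by rw [hu2, one_mul, hzc]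
      _ = g * g * z := by group
      _ = z * (g * g) := by rw [← hzc]
  have hsq : ∀ g : X, g ^ 2 = 1 ∨ g ^ 2 = z := fun g => hZ _ (b.sq g)
  -- count outside `K`
  have hhalf := card_filter_half (fun g : X => g ∉ K) (fun g : X => g ^ 2 = 1) (fun g => u * g)
    (fun g => by rw [← mul_assoc, hu2, one_mul])
    (fun g hg hg2 => by
      refine ⟨fun h' => hg ((Subgroup.mul_mem_cancel_left K huK).1 h'), ?_⟩
      rw [hout g hg, hg2, mul_one]
      exact hz1')
    (fun g hg hg2 => by
      refine ⟨fun h' => hg ((Subgroup.mul_mem_cancel_left K huK).1 h'), ?_⟩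
      rw [hout g hg, (hsq g).resolve_left hg2, hzz])
  have hKc : (Finset.univ.filter (fun g : X => g ∈ K)).card = 16 := by
    rw [← hK16, Nat.card_eq_fintype_card, Fintype.card_subtype]
  have hnK : (Finset.univ.filter (fun g : X => g ∉ K)).card = 16 := by
    have h1 := Finset.card_filter_add_card_filter_not (s := (Finset.univ : Finset X))
      (fun g : X => g ∈ K)
    have h2 : (Finset.univ : Finset X).card = 32 := by
      rw [Finset.card_univ, ← Nat.card_eq_fintype_card, h32]
    omega
  -- count inside `K`
  have hin : Finset.univ.filter (fun g : X => g ∈ K ∧ g ^ 2 = 1) = {1, u, (z : X), u * z} := by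
    ext g
    simp only [Finset.mem_filter, Finset.mem_univ, true_and, Finset.mem_insert,
      Finset.mem_singleton]
    constructor
    · rintro ⟨hgK, hg2⟩
      by_contra hnot
      push Not at hnot
      obtain ⟨hg1, hgu, hgz, hguz⟩ := hnot
      have hgu' : g * u = u * g := (hKiff g).1 hgK
      -- the normal subgroup of exponent 2
      have hS2 : ∀ e ∈ Subgroup.closure ({u, g, (z : X)} : Set X), e ^ 2 = 1 := by
        apply sq_eq_one_of_mem_closure
        · intro a ha b' hb'
          simp only [Set.mem_insert_iff, Set.mem_singleton_iff] at ha hb'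
          rcases ha with rfl | rfl | rfl <;> rcases hb' with rfl | rfl | rfl <;>
            first | rfl | exact hgu' | exact hgu'.symm | exact hzc _ | exact (hzc _).symm
        · intro a ha
          simp only [Set.mem_insert_iff, Set.mem_singleton_iff] at ha
          rcases ha with rfl | rfl | rfl
          · rw [pow_two, hu2]
          · exact hg2
          · rw [pow_two, hzz]
      have huE : u ∈ Subgroup.closure ({u, g, (z : X)} : Set X) :=
        Subgroup.subset_closure (by simp)
      have hgE : g ∈ Subgroup.closure ({u, g, (z : X)} : Set X) :=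
        Subgroup.subset_closure (by simp)
      have hzE : (z : X) ∈ Subgroup.closure ({u, g, (z : X)} : Set X) :=
        Subgroup.subset_closure (by simp)
      have hnorm : (Subgroup.closure ({u, g, (z : X)} : Set X)).Normal := by
        constructor
        intro e he x
        have h1 : x * e * x⁻¹ = ⁅x, e⁆ * e := by
          rw [commutatorElement_def]
          group
        rw [h1]
        refine Subgroup.mul_mem _ ?_ he
        rcases hZ _ (b.comm x e) with h2 | h2
        · rw [h2]
          exact Subgroup.one_mem _
        · rw [h2]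
          exact hzE
      have hle := h.ne _ hnorm hS2
      have hsub : ({1, u, (z : X), u * z, g} : Finset X) ⊆
          Finset.univ.filter (fun x : X => x ∈ Subgroup.closure ({u, g, (z : X)} : Set X)) := by
        intro x hx
        simp only [Finset.mem_insert, Finset.mem_singleton] at hx
        simp only [Finset.mem_filter, Finset.mem_univ, true_and]
        rcases hx with rfl | rfl | rfl | rfl | rfl
        · exact Subgroup.one_mem _
        · exact huE
        · exact hzE
        · exact Subgroup.mul_mem _ huE hzE
        · exact hgE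
      have h5 : ({1, u, (z : X), u * z, g} : Finset X).card = 5 := by
        have e1 : (1 : X) ∉ ({u, (z : X), u * z, g} : Finset X) := by
          simp only [Finset.mem_insert, Finset.mem_singleton, not_or]
          refine ⟨fun h => hu1 h.symm, fun h => hz1' h.symm, fun h => ?_, fun h => hg1 h.symm⟩
          apply huz
          calc u = u * (z * z) := by rw [hzz, mul_one]
            _ = (u * z) * z := by group
            _ = z := by rw [← h, one_mul]
        have e2 : u ∉ ({(z : X), u * z, g} : Finset X) := by
          simp only [Finset.mem_insert, Finset.mem_singleton, not_or]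
          refine ⟨huz, fun h => hz1' ?_, fun h => hgu h.symm⟩
          exact (mul_eq_left.1 h.symm)
        have e3 : (z : X) ∉ ({u * z, g} : Finset X) := by
          simp only [Finset.mem_insert, Finset.mem_singleton, not_or]
          refine ⟨fun h => hu1 ?_, fun h => hgz h.symm⟩
          exact (mul_eq_right.1 h.symm)
        have e4 : u * (z : X) ∉ ({g} : Finset X) := by
          simp only [Finset.mem_singleton]
          exact fun h => hguz h.symm
        rw [Finset.card_insert_of_notMem e1, Finset.card_insert_of_notMem e2,
          Finset.card_insert_of_notMem e3, Finset.card_insert_of_notMem e4,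
          Finset.card_singleton]
      have h6 := Finset.card_le_card hsub
      rw [h5] at h6
      have h7 : (Finset.univ.filter
          (fun x : X => x ∈ Subgroup.closure ({u, g, (z : X)} : Set X))).card =
          Nat.card (Subgroup.closure ({u, g, (z : X)} : Set X)) := by
        rw [Nat.card_eq_fintype_card, Fintype.card_subtype]
      omega
    · rintro (rfl | rfl | rfl | rfl)
      · exact ⟨K.one_mem, one_pow 2⟩
      · exact ⟨huK, by rw [pow_two, hu2]⟩
      · exact ⟨hzK, by rw [pow_two, hzz]⟩
      · refine ⟨K.mul_mem huK hzK, ?_⟩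
        rw [pow_two]
        calc u * z * (u * z) = u * (z * u) * z := by group
          _ = u * (u * z) * z := by rw [hzc]
          _ = (u * u) * (z * z) := by group
          _ = 1 := by rw [hu2, hzz, one_mul]
  have h4 : ({1, u, (z : X), u * z} : Finset X).card = 4 := by
    have e1 : (1 : X) ∉ ({u, (z : X), u * z} : Finset X) := by
      simp only [Finset.mem_insert, Finset.mem_singleton, not_or]
      refine ⟨fun h => hu1 h.symm, fun h => hz1' h.symm, fun h => ?_⟩
      apply huz
      calc u = u * (z * z) := by rw [hzz, mul_one]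
        _ = (u * z) * z := by group
        _ = z := by rw [← h, one_mul]
    have e2 : u ∉ ({(z : X), u * z} : Finset X) := by
      simp only [Finset.mem_insert, Finset.mem_singleton, not_or]
      refine ⟨huz, fun h => hz1' ?_⟩
      exact (mul_eq_left.1 h.symm)
    have e3 : (z : X) ∉ ({u * z} : Finset X) := by
      simp only [Finset.mem_singleton]
      refine fun h => hu1 ?_
      exact (mul_eq_right.1 h.symm)
    rw [Finset.card_insert_of_notMem e1, Finset.card_insert_of_notMem e2,
      Finset.card_insert_of_notMem e3, Finset.card_singleton]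
  -- total
  have hS : (Finset.univ.filter (fun g : X => g ^ 2 = 1)).card = 12 := by
    have h1 := Finset.card_filter_add_card_filter_not
      (s := Finset.univ.filter (fun g : X => g ^ 2 = 1)) (fun g : X => g ∈ K)
    rw [Finset.filter_filter, Finset.filter_filter] at h1
    have h2 : Finset.univ.filter (fun g : X => g ^ 2 = 1 ∧ g ∈ K) =
        Finset.univ.filter (fun g : X => g ∈ K ∧ g ^ 2 = 1) := by
      ext g; simp [and_comm]
    have h3 : Finset.univ.filter (fun g : X => g ^ 2 = 1 ∧ g ∉ K) =
        Finset.univ.filter (fun g : X => g ∉ K ∧ g ^ 2 = 1) := by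
      ext g; simp [and_comm]
    rw [h2, h3, hin, h4] at h1
    omega
  have hfin : Nat.card {x : X // orderOf x = 2} =
      ((Finset.univ.filter (fun g : X => g ^ 2 = 1)).erase 1).card := by
    rw [Nat.card_eq_fintype_card, Fintype.card_subtype]
    congr 1
    ext g
    simp only [Finset.mem_filter, Finset.mem_univ, true_and, Finset.mem_erase]
    rw [orderOf_eq_prime_iff (p := 2)]
    exact and_comm
  rw [hfin, Finset.card_erase_of_mem (by simp), hS]

end Cfsg.Agent.Lib.Helper4.NG5U15
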