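import Mathlib
import Cfsg.Prelude.Def_Transfer
import Cfsg.Agent.Lib.Helper8.NG5Defs
import Cfsg.Agent.Lib.Helper6.NG5U21
import Cfsg.Agent.Lib.Helper5.NG5U12

/-!
# Farm NG5 (S1904): unit U23 (`card_Y`): `|Y|` is 16 or 64.
-/

set_option autoImplicit false
open scoped commutatorElement

namespace Cfsg.Agent.Lib.Helper4.NG5U23
open Cfsg.Agent.Lib.Helper8.NG5

variable {X : Type*} [Group X] [Finite X] {A : Subgroup (MulAut X)}

/-- U23. -/
theorem card_Y (h : Hyp X A) {W Y : Subgroup X} (w : B2 X A W) (hY : IsY W Y) :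
    Nat.card Y = 16 ∨ Nat.card Y = 64 := by
  classical
  have : Fintype X := Fintype.ofFinite X
  obtain ⟨hGN, hWY, hY1, y0, hy0Y, hy0W⟩ := Cfsg.Agent.Lib.Helper6.NG5U21.Y_facts h w hY
  have hWc : ∀ a ∈ W, ∀ g : X, a * g = g * a := fun a ha g =>
    ((Subgroup.mem_center_iff.1 (w.central ha)) g).symm
  -- a nontrivial element of `W`
  obtain ⟨w1, hw1W, hw11⟩ : ∃ w1 ∈ W, w1 ≠ 1 := by
    by_contra hall
    push Not at hall
    have h1 : W = ⊥ := (Subgroup.eq_bot_iff_forall W).2 hall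
    have h2 := w.card
    rw [h1] at h2
    simp at h2
  have hw1sq : w1 ^ 2 = 1 := w.exp w1 hw1W
  have hord : orderOf w1 = 2 := orderOf_eq_prime hw1sq hw11
  have hW1W : Subgroup.zpowers w1 ≤ W := (Subgroup.zpowers_le).2 hw1W
  have hcardW1 : Nat.card (Subgroup.zpowers w1) = 2 := by rw [Nat.card_zpowers, hord]
  have hidx2 : ((Subgroup.zpowers w1).subgroupOf W).index = 2 := by
    have h1 := Subgroup.card_mul_index ((Subgroup.zpowers w1).subgroupOf W)
    have h2 : Nat.card ((Subgroup.zpowers w1).subgroupOf W) = 2 := by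
      rw [Nat.card_congr (Subgroup.subgroupOfEquivOfLe hW1W).toEquiv, hcardW1]
    rw [h2, w.card] at h1
    omega
  have h2 : ∀ a ∈ W, ∀ b ∈ W, a ∉ Subgroup.zpowers w1 → b ∉ Subgroup.zpowers w1 →
      a * b ∈ Subgroup.zpowers w1 := by
    intro a ha b hb ha1 hb1
    have h3 := Subgroup.mul_mem_iff_of_index_two hidx2 (a := ⟨a, ha⟩) (b := ⟨b, hb⟩)
    simp only [Subgroup.mem_subgroupOf] at h3
    exact h3.2 ⟨fun h => absurd h ha1, fun h => absurd h hb1⟩
  have hmemW1 : ∀ x ∈ Subgroup.zpowers w1, x = 1 ∨ x = w1 := by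
    intro x hx
    obtain ⟨k, rfl⟩ := Subgroup.mem_zpowers_iff.1 hx
    rcases Int.even_or_odd' k with ⟨m, rfl | rfl⟩
    · left
      rw [zpow_mul, zpow_two, ← pow_two, hw1sq, one_zpow]
    · right
      rw [zpow_add, zpow_mul, zpow_two, ← pow_two, hw1sq, one_zpow, one_mul, zpow_one]
  -- the fibres of squaring
  have hTle : ∀ c ∈ W, ∀ c' ∈ W, c ≠ 1 → c' ≠ 1 →
      (Finset.univ.filter (fun y : X => y ∈ Y ∧ y ^ 2 = c)).card ≤
        (Finset.univ.filter (fun y : X => y ∈ Y ∧ y ^ 2 = c')).card := by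
    intro c hc c' hc' hc1 hc'1
    obtain ⟨φ, hφA, hφ⟩ := w.trans c hc c' hc' hc1 hc'1
    apply Finset.card_le_card_of_injOn (fun y => φ y)
    · intro y hy
      simp only [Finset.coe_filter, Finset.mem_univ, true_and, Set.mem_ofPred_eq] at hy ⊢
      exact ⟨hGN.2 φ hφA y hy.1, by rw [← map_pow, hy.2, hφ]⟩
    · intro a _ b _ hab
      exact φ.injective hab
  have hTeq : ∀ c ∈ W, c ≠ 1 → (Finset.univ.filter (fun y : X => y ∈ Y ∧ y ^ 2 = c)).card =
      (Finset.univ.filter (fun y : X => y ∈ Y ∧ y ^ 2 = w1)).card := fun c hc hc1 =>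
    le_antisymm (hTle c hc w1 hw1W hc1 hw11) (hTle w1 hw1W c hc hw11 hc1)
  have hsum := Finset.card_eq_sum_card_fiberwise (f := fun y : X => y ^ 2)
    (s := Finset.univ.filter (fun y : X => y ∈ Y)) (t := Finset.univ.filter (fun c : X => c ∈ W))
    (by
      intro y hy
      simp only [Finset.coe_filter, Finset.mem_univ, true_and, Set.mem_ofPred_eq] at hy ⊢
      exact ((hY y).1 hy).1)
  have hcY : (Finset.univ.filter (fun y : X => y ∈ Y)).card = Nat.card Y := by
    rw [Nat.card_eq_fintype_card, Fintype.card_subtype]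
  have hcW : (Finset.univ.filter (fun c : X => c ∈ W)).card = 4 := by
    rw [← w.card, Nat.card_eq_fintype_card, Fintype.card_subtype]
  have h1W : (1 : X) ∈ Finset.univ.filter (fun c : X => c ∈ W) := by
    simp only [Finset.mem_filter, Finset.mem_univ, true_and]
    exact W.one_mem
  rw [← Finset.add_sum_erase _ _ h1W] at hsum
  have hT1 : ((Finset.univ.filter (fun y : X => y ∈ Y)).filter (fun y => y ^ 2 = 1)).card = 4 := by
    rw [← hcW]
    congr 1
    ext y
    simp only [Finset.mem_filter, Finset.mem_univ, true_and]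
    exact ⟨fun hy => hY1 y hy.1 hy.2, fun hy => ⟨hWY hy, w.exp y hy⟩⟩
  have hrest : ∑ c ∈ (Finset.univ.filter (fun c : X => c ∈ W)).erase 1,
      ((Finset.univ.filter (fun y : X => y ∈ Y)).filter (fun y => y ^ 2 = c)).card =
      3 * (Finset.univ.filter (fun y : X => y ∈ Y ∧ y ^ 2 = w1)).card := by
    rw [Finset.sum_const_nat (m := (Finset.univ.filter (fun y : X => y ∈ Y ∧ y ^ 2 = w1)).card),
      Finset.card_erase_of_mem h1W, hcW]
    intro c hc
    simp only [Finset.mem_erase, Finset.mem_filter, Finset.mem_univ, true_and] at hc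
    rw [Finset.filter_filter]
    exact hTeq c hc.2 hc.1
  rw [hT1, hrest, hcY] at hsum
  -- `Y` is a 2-group bigger than `W`
  obtain ⟨k, hk⟩ := (h.pg.to_subgroup Y).exists_card_eq
  have hne4 : Nat.card Y ≠ 4 := by
    intro h4
    have : W = Y := Subgroup.eq_of_le_of_card_ge hWY (by rw [h4, w.card])
    exact hy0W (this ▸ hy0Y)
  have hk8 : k < 8 := by
    by_contra hk8
    push Not at hk8
    have h256 : 16 * Nat.card W * Nat.card W ≤ Nat.card Y := by
      rw [w.card, hk]
      calc 16 * 4 * 4 = 2 ^ 8 := by norm_num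
        _ ≤ 2 ^ k := Nat.pow_le_pow_right (by norm_num) hk8
    obtain ⟨u, huY, v, hvY, hu2, hv2, huv, huW, hvW, huvW⟩ :=
      Cfsg.Agent.Lib.Helper5.NG5U12.cwpair Y W (Subgroup.zpowers w1) hW1W hWY
        (fun a ha y _ => hWc a ha y) (fun y hy => ((hY y).1 hy).1)
        (fun y hy y' _ => ((hY y).1 hy).2 y') h2 h256
    rcases hmemW1 _ hu2 with hu | hu
    · exact huW (hY1 u huY hu)
    rcases hmemW1 _ hv2 with hv | hv
    · exact hvW (hY1 v hvY hv)
    apply huvW
    apply hY1 _ (Y.mul_mem huY hvY)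
    rw [pow_two] at *
    calc u * v * (u * v) = u * (v * u) * v := by group
      _ = u * (u * v) * v := by rw [huv]
      _ = (u * u) * (v * v) := by group
      _ = 1 := by rw [hu, hv, hw1sq]
  rw [hk] at hsum hne4
  have hk' : k = 4 ∨ k = 6 := by
    interval_cases k <;> simp only [Nat.reducePow] at hsum hne4 <;> omega
  rcases hk' with rfl | rfl
  · left
    rw [hk]
    norm_num
  · right
    rw [hk]
    norm_num

end Cfsg.Agent.Lib.Helper4.NG5U23
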