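import Mathlib
import Cfsg.Prelude.Def_Transfer
import Cfsg.Agent.Lib.Helper8.NG5Defs
import Cfsg.Agent.Lib.Helper6.NG5U21
import Cfsg.Agent.Lib.Helper4.NG5Par
import Cfsg.Agent.Lib.Helper1.FrattiniP

/-!
# Farm NG5 (S1904): back half of unit U24 (`b2_s4`): once `C_X(Y) ≤ W`, the conclusion follows.
-/

set_option autoImplicit false
open scoped commutatorElement

namespace Cfsg.Agent.Lib.Helper4.NG5U24b
open Cfsg.Agent.Lib.Helper8.NG5

variable {X : Type*} [Group X] [Finite X] {A : Subgroup (MulAut X)}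

/-- Steps (c), (d), (e) of U24: with `C_X(Y) ≤ W` the group is `Y`, special, with exactly three
involutions, all central. -/
theorem b2_s4_of_cent (h : Hyp X A) {W Y : Subgroup X} (w : B2 X A W) (hY : IsY W Y)
    (h64 : Nat.card Y = 64) (hC : ∀ x : X, (∀ y ∈ Y, x * y = y * x) → x ∈ W) :
    Cfsg.IsSpecial 2 X ∧ Nat.card X = 64 ∧ Nat.card {x : X // orderOf x = 2} = 3 ∧
      ∀ x : X, orderOf x = 2 → x ∈ Subgroup.center X := by
  classical
  have : Fintype X := Fintype.ofFinite X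
  obtain ⟨-, -, hY1, -⟩ := Cfsg.Agent.Lib.Helper6.NG5U21.Y_facts h w hY
  have hWc : ∀ a ∈ W, ∀ g : X, a * g = g * a := fun a ha g =>
    ((Subgroup.mem_center_iff.1 (w.central ha)) g).symm
  have hxy : ∀ x : X, ∀ y ∈ Y, ⁅x, y⁆ ∈ W := fun x y hy =>
    Cfsg.Agent.Lib.Helper4.NG5Par.comm_swap_mem W y x (((hY y).1 hy).2 x)
  have hmul : ∀ a b : X, ∀ y ∈ Y, ⁅a * b, y⁆ = ⁅a, y⁆ * ⁅b, y⁆ := fun a b y hy =>
    Cfsg.Agent.Lib.Helper4.NG5Par.comm_mul_left_of_central W hWc a b y (hxy b y hy)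
  have hinv : ∀ a : X, ∀ y ∈ Y, ⁅a⁻¹, y⁆ = ⁅a, y⁆⁻¹ := by
    intro a y hy
    have h1 := hmul a⁻¹ a y hy
    rw [inv_mul_cancel, commutatorElement_one_left] at h1
    exact eq_inv_of_mul_eq_one_left h1.symm
  have hsqW : ∀ x : X, x ^ 2 ∈ W := by
    intro x
    apply hC
    intro y hy
    have h1 : ⁅x ^ 2, y⁆ = 1 := by
      rw [pow_two, hmul x x y hy, ← pow_two]
      exact w.exp _ (hxy x y hy)
    exact commutatorElement_eq_one_iff_mul_comm.1 h1
  have hcommW : ∀ x x' : X, ⁅x, x'⁆ ∈ W := by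
    intro x x'
    apply hC
    intro y hy
    have h1 : ⁅⁅x, x'⁆, y⁆ = 1 := by
      have hc := hWc _ (hxy x y hy) ⁅x', y⁆
      rw [commutatorElement_def x x', hmul _ _ y hy, hmul _ _ y hy, hmul _ _ y hy,
        hinv x y hy, hinv x' y hy, hc]
      group
    exact commutatorElement_eq_one_iff_mul_comm.1 h1
  have hYtop : ∀ x : X, x ∈ Y := fun x => (hY x).2 ⟨hsqW x, fun g => hcommW x g⟩
  have hX64 : Nat.card X = 64 := by
    have h1 : Y = ⊤ := (Subgroup.eq_top_iff' Y).2 hYtop
    rw [← h64, h1, Subgroup.card_top]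
  have hcenter : Subgroup.center X = W := by
    apply le_antisymm
    · intro x hx
      apply hC
      intro y _
      exact ((Subgroup.mem_center_iff.1 hx) y).symm
    · exact w.central
  have hcomm : commutator X = W := by
    apply le_antisymm
    · rw [commutator_eq_closure, Subgroup.closure_le]
      rintro c ⟨x, x', rfl⟩
      exact hcommW x x'
    · obtain ⟨x, x', hxx'⟩ := h.na
      have hc1 : ⁅x, x'⁆ ≠ 1 := fun h1 => hxx' (commutatorElement_eq_one_iff_mul_comm.1 h1)
      intro c' hc'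
      by_cases h1 : c' = 1
      · rw [h1]
        exact Subgroup.one_mem _
      · obtain ⟨φ, -, hφ⟩ := w.trans _ (hcommW x x') c' hc' hc1 h1
        rw [← hφ, map_commutatorElement]
        exact Subgroup.commutator_mem_commutator (Subgroup.mem_top _) (Subgroup.mem_top _)
  have hfrat : frattini X = W := by
    apply le_antisymm
    · exact Cfsg.Agent.Lib.Helper1.frattini_le_of_elementary_quotient 2 W (by rw [hcomm]) hsqW
    · rw [← hcomm]
      exact Cfsg.Agent.Lib.Helper1.commutator_le_frattini_of_isPGroup 2 h.pg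
  refine ⟨⟨h.pg, by rw [hfrat, hcenter], by rw [hcomm, hcenter]⟩, hX64, ?_, ?_⟩
  · have hiff : ∀ x : X, orderOf x = 2 ↔ x ∈ W ∧ x ≠ 1 := by
      intro x
      rw [orderOf_eq_prime_iff (p := 2)]
      exact ⟨fun hx => ⟨hY1 x (hYtop x) hx.1, hx.2⟩, fun hx => ⟨w.exp x hx.1, hx.2⟩⟩
    have hfin : Nat.card {x : X // orderOf x = 2} =
        ((Finset.univ.filter (fun g : X => g ∈ W)).erase 1).card := by
      rw [Nat.card_eq_fintype_card, Fintype.card_subtype]
      congr 1
      ext g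
      simp only [Finset.mem_filter, Finset.mem_univ, true_and, Finset.mem_erase]
      rw [hiff g]
      exact and_comm
    have hcW : (Finset.univ.filter (fun c : X => c ∈ W)).card = 4 := by
      rw [← w.card, Nat.card_eq_fintype_card, Fintype.card_subtype]
    rw [hfin, Finset.card_erase_of_mem (by simp [W.one_mem]), hcW]
  · intro x hx
    exact w.central (hY1 x (hYtop x) ((orderOf_eq_prime_iff (p := 2)).1 hx).1)

end Cfsg.Agent.Lib.Helper4.NG5U24b
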