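import Mathlib

set_option autoImplicit false

namespace Cfsg.Agent.Lib.Helper4.NMXP2b

variable {G : Type*} [Group G] [Finite G]

/-- the order of a Sylow 2-subgroup of a group of order 1092 is 4 -/
theorem card_sylow2 (hcard : Nat.card G = 1092) (S : Sylow 2 G) : Nat.card S = 4 := by
  haveI : Fact (Nat.Prime 2) := ⟨Nat.prime_two⟩
  obtain ⟨n, hn⟩ := (IsPGroup.iff_card.mp S.isPGroup')
  have h1 := Subgroup.card_mul_index (S : Subgroup G)
  have h2 : ¬ 2 ∣ (S : Subgroup G).index := S.not_dvd_index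
  rw [hcard] at h1
  have hn' : Nat.card (S : Subgroup G) = 2 ^ n := hn
  rw [hn'] at h1
  have hle : n ≤ 2 := by
    by_contra hlt
    push Not at hlt
    have : (2 : ℕ) ^ 3 ∣ 2 ^ n := pow_dvd_pow 2 hlt
    have h8 : (8 : ℕ) ∣ 1092 := by
      have := dvd_trans this (Dvd.intro _ h1)
      simpa using this
    omega
  show Nat.card (S : Subgroup G) = 4
  rw [hn']
  interval_cases n
  · exfalso; apply h2; omega
  · exfalso; apply h2; omega
  · norm_num

/-- P2b -/
theorem card_normalizer_of_card_2 [IsSimpleGroup G] (hcard : Nat.card G = 1092)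
    (hdvd : ∀ H : Subgroup G, H ≠ ⊤ → Nat.card H ∣ 78 ∨ Nat.card H ∣ 14 ∨ Nat.card H ∣ 12)
    (h6 : ∃ g : G, orderOf g = 6)
    (hconj : ∀ s t : G, orderOf s = 2 → orderOf t = 2 → ∃ g : G, g * s * g⁻¹ = t)
    (H : Subgroup G) (hH : Nat.card H = 2) :
    Nat.card (Subgroup.normalizer (H : Set G)) = 12 := by
  haveI : Fact (Nat.Prime 2) := ⟨Nat.prime_two⟩
  -- an involution t generating H
  obtain ⟨t', ht'⟩ := exists_prime_orderOf_dvd_card' (G := H) 2 (by rw [hH])
  set t : G := (t' : G) with htdef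
  have htH : t ∈ H := t'.2
  have ht2 : orderOf t = 2 := by
    rw [htdef, Subgroup.orderOf_coe, ht']
  have hHz : Subgroup.zpowers t = H := by
    apply Subgroup.eq_of_le_of_card_ge
    · rw [Subgroup.zpowers_le]; exact htH
    · rw [Nat.card_zpowers, ht2, hH]
  -- the centralizer of H is inside the normalizer
  have hCN : Subgroup.centralizer (H : Set G) ≤ Subgroup.normalizer (H : Set G) :=
    Subgroup.centralizer_le_normalizer _
  have hmemC : ∀ g : G, g * t = t * g → g ∈ Subgroup.centralizer (H : Set G) := by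
    intro g hg
    rw [Subgroup.mem_centralizer_iff]
    intro h hh
    rw [SetLike.mem_coe, ← hHz, Subgroup.mem_zpowers_iff] at hh
    obtain ⟨k, rfl⟩ := hh
    exact ((Commute.zpow_right (show Commute g t from hg) k)).eq.symm
  -- a Sylow 2-subgroup containing H
  have hHp : IsPGroup 2 H := IsPGroup.of_card (n := 1) (by rw [hH]; norm_num)
  obtain ⟨S, hS⟩ := hHp.exists_le_sylow
  have hS4 : Nat.card S = 4 := card_sylow2 hcard S
  have hScomm : ∀ a b : (S : Subgroup G), a * b = b * a :=
    IsPGroup.commutative_of_card_eq_prime_sq (p := 2) (hS4.trans (by norm_num))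
  have hSN : (S : Subgroup G) ≤ Subgroup.normalizer (H : Set G) := by
    intro s hs
    apply hCN
    apply hmemC
    have := hScomm ⟨s, hs⟩ ⟨t, hS htH⟩
    exact congrArg Subtype.val this
  have h4 : 4 ∣ Nat.card (Subgroup.normalizer (H : Set G)) := by
    have := Subgroup.card_dvd_of_le hSN
    rwa [show Nat.card (S : Subgroup G) = 4 from hS4] at this
  -- an element of order 6 in the normalizer
  obtain ⟨g0, hg0⟩ := h6
  have ht0 : orderOf (g0 ^ 3) = 2 := by
    rw [orderOf_pow' g0 (by norm_num : (3 : ℕ) ≠ 0), hg0]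
    norm_num
  obtain ⟨x, hx⟩ := hconj (g0 ^ 3) t ht0 ht2
  set g1 : G := x * g0 * x⁻¹ with hg1def
  have hg1o : orderOf g1 = 6 := by
    rw [hg1def]
    have := MulEquiv.orderOf_eq (MulAut.conj x) g0
    rw [MulAut.conj_apply] at this
    rw [this, hg0]
  have hg13 : g1 ^ 3 = t := by
    rw [hg1def, conj_pow, hx]
  have hg1t : g1 * t = t * g1 := by
    rw [← hg13, ← pow_succ', ← pow_succ]
  have hg1N : g1 ∈ Subgroup.normalizer (H : Set G) := hCN (hmemC g1 hg1t)
  have h6' : 6 ∣ Nat.card (Subgroup.normalizer (H : Set G)) := by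
    rw [← hg1o]
    exact Subgroup.orderOf_dvd_natCard _ hg1N
  have h12 : 12 ∣ Nat.card (Subgroup.normalizer (H : Set G)) := by omega
  -- the normalizer is proper
  have hne : Subgroup.normalizer (H : Set G) ≠ ⊤ := by
    intro htop
    haveI : H.Normal := Subgroup.normalizer_eq_top_iff.mp htop
    rcases Subgroup.Normal.eq_bot_or_eq_top (H := H) inferInstance with hb | hb
    · rw [hb, Subgroup.card_bot] at hH; omega
    · rw [hb, Subgroup.card_top, hcard] at hH; omega
  rcases hdvd _ hne with h | h | h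
  · exfalso
    have := dvd_trans h12 h
    omega
  · exfalso
    have := dvd_trans h12 h
    omega
  · exact Nat.dvd_antisymm h h12

end Cfsg.Agent.Lib.Helper4.NMXP2b
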