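import Mathlib

set_option autoImplicit false

namespace Cfsg.Agent.Lib.Helper4.NMXP6

variable {G : Type*} [Group G] [Finite G]

/-- two subgroups of order 3 inside a subgroup of order 6 coincide -/
theorem eq_of_card_three (H : Subgroup G) (hH : Nat.card H = 6) (K Q : Subgroup G)
    (hK : K ≤ H) (hQ : Q ≤ H) (hKc : Nat.card K = 3) (hQc : Nat.card Q = 3) : K = Q := by
  by_contra hne
  have hinf : K ⊓ Q = ⊥ := by
    have hd : Nat.card (K ⊓ Q : Subgroup G) ∣ 3 := hKc ▸ Subgroup.card_dvd_of_le inf_le_left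
    rcases (Nat.dvd_prime Nat.prime_three).mp hd with h1 | h3
    · exact Subgroup.card_eq_one.mp h1
    · exfalso
      have e1 : K ⊓ Q = K := Subgroup.eq_of_le_of_card_ge inf_le_left (by rw [h3, hKc])
      have e2 : K ⊓ Q = Q := Subgroup.eq_of_le_of_card_ge inf_le_right (by rw [h3, hQc])
      exact hne (e1.symm.trans e2)
  have hinj : Function.Injective (fun x : K × Q =>
      (⟨(x.1 : G) * (x.2 : G), H.mul_mem (hK x.1.2) (hQ x.2.2)⟩ : H)) := by
    rintro ⟨a, b⟩ ⟨a', b'⟩ h
    have h' : (a : G) * b = a' * b' := congrArg Subtype.val h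
    have hm : (a' : G)⁻¹ * a = b' * (b : G)⁻¹ := by
      have : (a' : G)⁻¹ * (a * b) * (b : G)⁻¹ = (a' : G)⁻¹ * (a' * b') * (b : G)⁻¹ := by rw [h']
      simpa [mul_assoc] using this
    have hmem : (a' : G)⁻¹ * a ∈ K ⊓ Q :=
      ⟨K.mul_mem (K.inv_mem a'.2) a.2, hm ▸ Q.mul_mem b'.2 (Q.inv_mem b.2)⟩
    rw [hinf, Subgroup.mem_bot] at hmem
    have haa : (a : G) = a' := (inv_mul_eq_one.mp hmem).symm
    have hbb : (b : G) = b' := by
      rw [haa] at h'
      exact mul_left_cancel h'
    exact Prod.ext (Subtype.ext haa) (Subtype.ext hbb)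
  have := Nat.card_le_card_of_injective _ hinj
  rw [Nat.card_prod, hKc, hQc, hH] at this
  omega

/-- P6 -/
theorem card_normalizer_of_card_6
    (h3 : ∀ Q : Subgroup G, Nat.card Q = 3 → Nat.card (Subgroup.normalizer (Q : Set G)) = 12)
    (H : Subgroup G) (hH : Nat.card H = 6) :
    Nat.card (Subgroup.normalizer (H : Set G)) = 12 := by
  haveI : Fact (Nat.Prime 3) := ⟨Nat.prime_three⟩
  obtain ⟨x, hx⟩ := exists_prime_orderOf_dvd_card' (G := H) 3 (by rw [hH]; norm_num)
  set Q : Subgroup G := (Subgroup.zpowers x).map H.subtype with hQdef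
  have hQH : Q ≤ H := Subgroup.map_subtype_le _
  have hQc : Nat.card Q = 3 := by
    rw [hQdef, Subgroup.card_map_of_injective H.subtype_injective, Nat.card_zpowers, hx]
  have key : ∀ g : G, g ∈ Subgroup.normalizer (H : Set G) →
      g ∈ Subgroup.normalizer (Q : Set G) := by
    intro g hg
    have hQ' : Q.map (MulAut.conj g).toMonoidHom = Q := by
      apply eq_of_card_three H hH _ Q _ hQH _ hQc
      · rintro _ ⟨y, hy, rfl⟩
        simp only [MulEquiv.coe_toMonoidHom, MulAut.conj_apply]
        exact (Subgroup.mem_normalizer_iff.mp hg y).mp (hQH hy)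
      · rw [Subgroup.card_map_of_injective (MulAut.conj g).injective]; exact hQc
    rw [Subgroup.mem_normalizer_iff]
    intro h
    constructor
    · intro hh
      rw [← hQ']
      exact ⟨h, hh, by simp⟩
    · intro hh
      rw [← hQ'] at hh
      obtain ⟨y, hy, hyh⟩ := hh
      simp only [MulEquiv.coe_toMonoidHom, MulAut.conj_apply] at hyh
      have : y = h := by
        have := mul_right_cancel hyh
        exact mul_left_cancel this
      rwa [← this]
  have hNN : Subgroup.normalizer (H : Set G) ≤ Subgroup.normalizer (Q : Set G) := key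
  have hHM : H ≤ Subgroup.normalizer (Q : Set G) := Subgroup.le_normalizer.trans hNN
  have hM := h3 Q hQc
  have hidx : (H.subgroupOf (Subgroup.normalizer (Q : Set G))).index = 2 := by
    have h1 := Subgroup.card_mul_index (H.subgroupOf (Subgroup.normalizer (Q : Set G)))
    rw [Nat.card_congr (Subgroup.subgroupOfEquivOfLe hHM).toEquiv, hH, hM] at h1
    omega
  haveI := Subgroup.normal_of_index_eq_two hidx
  have hle : Subgroup.normalizer (Q : Set G) ≤ Subgroup.normalizer (H : Set G) :=
    (Subgroup.normal_subgroupOf_iff_le_normalizer hHM).mp inferInstance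
  rw [le_antisymm hNN hle]
  exact hM

end Cfsg.Agent.Lib.Helper4.NMXP6
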