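import Mathlib
import Cfsg.Agent.Lib.Helper1.SL2Odd1
import Cfsg.Agent.Lib.Helper9.ZfcH

set_option autoImplicit false

namespace Cfsg.Agent.Lib.Helper4.NMXPE

/-- a subgroup of the centre is normal -/
theorem normal_of_le_center {K : Type*} [Group K] (H : Subgroup K) (h : H ≤ Subgroup.center K) :
    H.Normal := by
  refine ⟨fun n hn g => ?_⟩
  have := Subgroup.mem_center_iff.mp (h hn) g
  rw [this, mul_inv_cancel_right]
  exact hn

/-- general form of PE: lifting "non-normal subgroups have coatom normalizers" through a central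
quotient by a subgroup of order two containing all involutions. -/
theorem coatom_normalizer_of_quotient {K : Type*} [Group K] [Finite K] (Z : Subgroup K) [Z.Normal]
    (hZc : Z ≤ Subgroup.center K) (hZ2 : Nat.card Z = 2)
    (hinv : ∀ g : K, orderOf g = 2 → g ∈ Z)
    (hP : ∀ H1 : Subgroup (K ⧸ Z), H1 ≠ ⊥ → H1 ≠ ⊤ →
      IsCoatom (Subgroup.normalizer (H1 : Set (K ⧸ Z))))
    (H1 : Subgroup K) (hH : ¬ H1.Normal) :
    IsCoatom (Subgroup.normalizer (H1 : Set K)) := by
  classical
  set π : K →* K ⧸ Z := QuotientGroup.mk' Z with hπ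
  have hπs : Function.Surjective π := QuotientGroup.mk'_surjective Z
  have hker : π.ker = Z := QuotientGroup.ker_mk' Z
  set Hbar : Subgroup (K ⧸ Z) := H1.map π with hHbar
  -- (1)
  have hb : Hbar ≠ ⊥ := by
    intro h
    apply hH
    apply normal_of_le_center
    have : H1 ≤ π.ker := (Subgroup.map_eq_bot_iff H1).mp h
    rw [hker] at this
    exact this.trans hZc
  -- (2)
  have ht : Hbar ≠ ⊤ := by
    intro h
    apply hH
    refine ⟨fun n hn g => ?_⟩
    have hg : π g ∈ Hbar := by rw [h]; trivial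
    obtain ⟨h0, hh0, hh0g⟩ := hg
    have hz : h0⁻¹ * g ∈ Z := by
      have : (h0 : K ⧸ Z) = (g : K ⧸ Z) := hh0g
      exact QuotientGroup.eq.mp this
    have hzc := Subgroup.mem_center_iff.mp (hZc hz)
    have hgeq : g = h0 * (h0⁻¹ * g) := by group
    have : g * n * g⁻¹ = h0 * n * h0⁻¹ := by
      have e1 : (h0⁻¹ * g) * n = n * (h0⁻¹ * g) := (hzc n).symm
      calc g * n * g⁻¹ = h0 * ((h0⁻¹ * g) * n) * g⁻¹ := by group
        _ = h0 * (n * (h0⁻¹ * g)) * g⁻¹ := by rw [e1]
        _ = h0 * n * h0⁻¹ := by group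
    rw [this]
    exact H1.mul_mem (H1.mul_mem hh0 hn) (H1.inv_mem hh0)
  have hco := hP Hbar hb ht
  set Mbar : Subgroup (K ⧸ Z) := Subgroup.normalizer (Hbar : Set (K ⧸ Z)) with hMbar
  set M : Subgroup K := Mbar.comap π with hM
  have hZM : Z ≤ M := by
    intro z hz
    rw [hM, Subgroup.mem_comap]
    have : π z = 1 := by
      rw [← MonoidHom.mem_ker, hker]; exact hz
    rw [this]
    exact Mbar.one_mem
  -- M is a coatom
  have hMco : IsCoatom M := by
    constructor
    · intro htop
      apply hco.1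
      have : Mbar.comap π = (⊤ : Subgroup (K ⧸ Z)).comap π := by rw [← hM, htop, Subgroup.comap_top]
      exact Subgroup.comap_injective hπs this
    · intro L hL
      have hML : Mbar ≤ L.map π := by
        have := Subgroup.map_mono (f := π) hL.le
        rwa [hM, Subgroup.map_comap_eq_self_of_surjective hπs] at this
      have hZL : Z ≤ L := hZM.trans hL.le
      have hcm : (L.map π).comap π = L := by
        rw [Subgroup.comap_map_eq, hker, sup_of_le_left hZL]
      rcases eq_or_lt_of_le hML with he | hlt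
      · exfalso
        have : L = M := by rw [← hcm, ← he]
        exact (ne_of_lt hL) this.symm
      · have := hco.2 _ hlt
        rw [← hcm, this, Subgroup.comap_top]
  -- normalizer H1 ≤ M
  have h4 : Subgroup.normalizer (H1 : Set K) ≤ M := by
    intro g hg
    rw [hM, Subgroup.mem_comap]
    exact Subgroup.le_normalizer_map π (Subgroup.mem_map_of_mem π hg)
  -- key claim
  have claim : ∀ g ∈ M, ∀ h ∈ H1, g * h * g⁻¹ ∈ H1 := by
    intro g hg h hh
    have hg' : π g ∈ Mbar := hg
    have h1 : π g * π h * (π g)⁻¹ ∈ Hbar :=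
      (Subgroup.mem_normalizer_iff.mp hg' (π h)).mp (Subgroup.mem_map_of_mem π hh)
    obtain ⟨h', hh', hh'e⟩ := h1
    have hz : h'⁻¹ * (g * h * g⁻¹) ∈ Z := by
      have : (h' : K ⧸ Z) = ((g * h * g⁻¹ : K) : K ⧸ Z) := by
        have e : π (g * h * g⁻¹) = π g * π h * (π g)⁻¹ := by
          rw [map_mul, map_mul, map_inv]
        exact hh'e.trans e.symm
      exact QuotientGroup.eq.mp this
    set z : K := h'⁻¹ * (g * h * g⁻¹) with hzdef
    have hprod : g * h * g⁻¹ = h' * z := by rw [hzdef]; group
    by_cases hzH : z ∈ H1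
    · rw [hprod]; exact H1.mul_mem hh' hzH
    · exfalso
      apply hzH
      have hz1 : z ≠ 1 := fun h1 => hzH (h1 ▸ H1.one_mem)
      have hzc := Subgroup.mem_center_iff.mp (hZc hz)
      -- z has order two
      have hz2 : z ^ 2 = 1 := by
        have := pow_card_eq_one' (G := Z) (x := ⟨z, hz⟩)
        rw [hZ2] at this
        exact congrArg Subtype.val this
      -- H1 has odd order
      have hodd : ¬ 2 ∣ Nat.card H1 := by
        intro h2
        haveI : Fact (Nat.Prime 2) := ⟨Nat.prime_two⟩
        obtain ⟨y, hy⟩ := exists_prime_orderOf_dvd_card' (G := H1) 2 h2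
        have hy2 : orderOf (y : K) = 2 := by rw [Subgroup.orderOf_coe, hy]
        have hyZ : (y : K) ∈ Z := hinv _ hy2
        have hy1 : (y : K) ≠ 1 := by
          intro h1
          rw [h1, orderOf_one] at hy2
          omega
        obtain ⟨w, -, hw⟩ := (Nat.card_eq_two_iff' (1 : Z)).mp hZ2
        have e1 : (⟨z, hz⟩ : Z) = w := hw _ (fun h => hz1 (congrArg Subtype.val h))
        have e2 : (⟨(y : K), hyZ⟩ : Z) = w := hw _ (fun h => hy1 (congrArg Subtype.val h))
        have : z = (y : K) := congrArg Subtype.val (e1.trans e2.symm)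
        exact hzH (this ▸ y.2)
      set n := Nat.card H1 with hn
      have hnodd : n % 2 = 1 := by omega
      have hhn : h ^ n = 1 := by
        have := pow_card_eq_one' (G := H1) (x := ⟨h, hh⟩)
        exact congrArg Subtype.val this
      have hh'n : h' ^ n = 1 := by
        have := pow_card_eq_one' (G := H1) (x := ⟨h', hh'⟩)
        exact congrArg Subtype.val this
      have e1 : (g * h * g⁻¹) ^ n = 1 := by
        rw [conj_pow, hhn, mul_one, mul_inv_cancel]
      have e2 : (h' * z) ^ n = z := by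
        have hc : Commute h' z := hzc h'
        rw [hc.mul_pow, hh'n, one_mul]
        have : n = 2 * (n / 2) + 1 := by omega
        rw [this, pow_succ, pow_mul, hz2, one_pow, one_mul]
      rw [hprod, e2] at e1
      rw [e1]
      exact H1.one_mem
  have h5 : M ≤ Subgroup.normalizer (H1 : Set K) := by
    intro g hg
    rw [Subgroup.mem_normalizer_iff]
    intro h
    constructor
    · exact claim g hg h
    · intro hh
      have := claim g⁻¹ (M.inv_mem hg) _ hh
      have e : g⁻¹ * (g * h * g⁻¹) * g⁻¹⁻¹ = h := by group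
      rwa [e] at this
  rw [le_antisymm h4 h5]
  exact hMco

open Cfsg.Agent.Lib.Helper1.SL2Odd Cfsg.Agent.Lib.Helper9.Zfc in
/-- PE: from PSL to SL. -/
theorem sl_of_psl
    (hP : ∀ H1 : Subgroup (Matrix.ProjectiveSpecialLinearGroup (Fin 2) (ZMod 13)),
      H1 ≠ ⊥ → H1 ≠ ⊤ → IsCoatom (Subgroup.normalizer
        (H1 : Set (Matrix.ProjectiveSpecialLinearGroup (Fin 2) (ZMod 13)))))
    (H1 : Subgroup (Matrix.SpecialLinearGroup (Fin 2) (ZMod 13))) (hH : ¬ H1.Normal) :
    IsCoatom (Subgroup.normalizer (H1 : Set (Matrix.SpecialLinearGroup (Fin 2) (ZMod 13)))) := by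
  have h2' : (2 : ZMod 13) ≠ 0 := by decide
  have h11 : ¬ ((1 : ZMod 13) = -1) := by decide
  haveI : Fact (Nat.Prime 13) := ⟨by norm_num⟩
  have h2 : (2 : ZMod 13) ≠ 0 := h2'
  have hne : (1 : Matrix.SpecialLinearGroup (Fin 2) (ZMod 13)) ≠ -1 := by
    intro h
    have := congrArg (fun A : Matrix.SpecialLinearGroup (Fin 2) (ZMod 13) =>
      (A : Matrix (Fin 2) (Fin 2) (ZMod 13)) 0 0) h
    simp at this
    exact h11 this
  refine coatom_normalizer_of_quotient
    (Subgroup.center (Matrix.SpecialLinearGroup (Fin 2) (ZMod 13))) le_rfl ?_ ?_ hP H1 hH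
  · rw [Nat.card_eq_two_iff]
    refine ⟨⟨1, Subgroup.one_mem _⟩, ⟨-1, (mem_center_SL2_iff _).mpr (Or.inr rfl)⟩, ?_, ?_⟩
    · intro h
      exact hne (congrArg Subtype.val h)
    · ext ⟨A, hA⟩
      simp only [Set.mem_insert_iff, Set.mem_singleton_iff, Set.mem_univ, iff_true]
      rcases (mem_center_SL2_iff A).mp hA with h | h
      · left; exact Subtype.ext h
      · right; exact Subtype.ext h
  · intro g hg
    have hgg : g * g = 1 := by
      have := pow_orderOf_eq_one g
      rw [hg, pow_two] at this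
      exact this
    have hg1 : g ≠ 1 := by
      intro h
      rw [h, orderOf_one] at hg
      omega
    have := eq_neg_one_of_sq_eq_one h2 g hgg hg1
    apply (mem_center_SL2_iff g).mpr
    right
    apply Subtype.ext
    rw [this]
    simp

end Cfsg.Agent.Lib.Helper4.NMXPE
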