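import Mathlib
import Cfsg.Agent.Lib.Helper2.CoprimeGen

/-!
# A counting lemma for automorphisms of a finite abelian group

If `u a u⁻¹ = a z` with `z` central of order `p`, `a ^ p = 1` and `z` fixed point free on the
abelian `p'`-group `V`, then `#C_V(u) ^ p ≤ #V`.
-/

set_option autoImplicit false

namespace Cfsg.Agent.Lib.Helper4.NormComp1

variable {V : Type*} [CommGroup V]

/-- The fixed points of an automorphism. -/
def fix (b : MulAut V) : Subgroup V where
  carrier := {v | b v = v}
  one_mem' := map_one b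
  mul_mem' := by
    intro x y hx hy
    change b (x * y) = x * y
    rw [map_mul, show b x = x from hx, show b y = y from hy]
  inv_mem' := by
    intro x hx
    change b x⁻¹ = x⁻¹
    rw [map_inv, show b x = x from hx]

theorem mem_fix {b : MulAut V} {v : V} : v ∈ fix b ↔ b v = v := Iff.rfl

theorem pow_apply_of_fix {b : MulAut V} {v : V} (h : b v = v) (i : ℕ) : (b ^ i) v = v := by
  induction i with
  | zero => simp
  | succ i ih => rw [pow_succ, MulAut.mul_apply, h, ih]

/-- The norm map of an automorphism of order dividing `p`. -/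
def nrm (p : ℕ) (b : MulAut V) : V →* V where
  toFun x := ∏ i ∈ Finset.range p, (b ^ i) x
  map_one' := by simp
  map_mul' x y := by simp [Finset.prod_mul_distrib]

theorem nrm_apply (p : ℕ) (b : MulAut V) (x : V) :
    nrm p b x = ∏ i ∈ Finset.range p, (b ^ i) x := rfl

theorem nrm_fixed {p : ℕ} {b : MulAut V} (hb : b ^ p = 1) (x : V) : b (nrm p b x) = nrm p b x := by
  rw [nrm_apply, map_prod]
  have h1 : ∀ i ∈ Finset.range p, b ((b ^ i) x) = (b ^ (i + 1)) x := by
    intro i _
    rw [pow_succ', MulAut.mul_apply]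
  rw [Finset.prod_congr rfl h1]
  have h2 := Finset.prod_range_succ' (fun i => (b ^ i) x) p
  have h3 := Finset.prod_range_succ (fun i => (b ^ i) x) p
  rw [h3, hb, pow_zero] at h2
  exact (mul_right_cancel h2).symm

theorem nrm_of_fix {p : ℕ} {b : MulAut V} {x : V} (h : b x = x) : nrm p b x = x ^ p := by
  rw [nrm_apply, Finset.prod_congr rfl (fun i _ => pow_apply_of_fix h i), Finset.prod_const,
    Finset.card_range]

theorem nrm_fixed_of_commute {p : ℕ} {b b' : MulAut V} (hc : Commute b' b) {x : V} (h : b' x = x) :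
    b' (nrm p b x) = nrm p b x := by
  rw [nrm_apply, map_prod]
  apply Finset.prod_congr rfl
  intro i _
  have : b' * b ^ i = b ^ i * b' := (hc.pow_right i).eq
  calc b' ((b ^ i) x) = (b' * b ^ i) x := rfl
    _ = (b ^ i * b') x := by rw [this]
    _ = (b ^ i) (b' x) := rfl
    _ = (b ^ i) x := by rw [h]

theorem nrm_conj (p : ℕ) (u b : MulAut V) (x : V) :
    nrm p (u * b * u⁻¹) (u x) = u (nrm p b x) := by
  rw [nrm_apply, nrm_apply, map_prod]
  apply Finset.prod_congr rfl
  intro i _
  rw [conj_pow]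
  change u ((b ^ i) (u⁻¹ (u x))) = u ((b ^ i) x)
  rw [show u⁻¹ (u x) = x from by simp]

theorem eq_one_of_pow_eq_one [Finite V] {p : ℕ} (hcop : (Nat.card V).Coprime p) {x : V}
    (h : x ^ p = 1) : x = 1 := by
  have h1 : orderOf x ∣ p := orderOf_dvd_of_pow_eq_one h
  have h2 : orderOf x ∣ Nat.card V := orderOf_dvd_natCard x
  have h3 : orderOf x ∣ 1 := by
    have := Nat.dvd_gcd h2 h1
    rwa [hcop] at this
  exact orderOf_eq_one_iff.mp (Nat.dvd_one.mp h3)

section main

variable [Finite V] {p : ℕ} [hp : Fact p.Prime] (hcop : (Nat.card V).Coprime p)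
  (z a u : MulAut V) (hza : Commute z a) (hzu : Commute z u) (hz : z ^ p = 1) (ha : a ^ p = 1)
  (hua : u * a * u⁻¹ = a * z) (hfz : fix z = ⊥)

include hza hz ha in
theorem b_pow (k : ℕ) : (a * z ^ k) ^ p = 1 := by
  have hc : Commute a (z ^ k) := (hza.pow_left k).symm
  rw [hc.mul_pow, ha, ← pow_mul, mul_comm, pow_mul, hz, one_pow, one_mul]

include hzu hua in
theorem b_conj (k : ℕ) : u * (a * z ^ k) * u⁻¹ = a * z ^ (k + 1) := by
  have h1 : u * z ^ k * u⁻¹ = z ^ k := by
    have : Commute (z ^ k) u := hzu.pow_left k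
    rw [← this.eq, mul_inv_cancel_right]
  calc u * (a * z ^ k) * u⁻¹ = (u * a * u⁻¹) * (u * z ^ k * u⁻¹) := by group
    _ = a * z * z ^ k := by rw [hua, h1]
    _ = a * z ^ (k + 1) := by rw [pow_succ', mul_assoc]

include hz in
theorem b_per (k : ℕ) : a * z ^ (k + p) = a * z ^ k := by
  rw [pow_add, hz, mul_one]

include hza in
theorem b_comm (k m : ℕ) : Commute (a * z ^ k) (a * z ^ m) := by
  have h1 : Commute a (z ^ k) := (hza.pow_left k).symm
  have h2 : Commute a (z ^ m) := (hza.pow_left m).symm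
  have h3 : Commute (z ^ k) (z ^ m) := (Commute.refl z).pow_pow k m
  exact Commute.mul_left (Commute.mul_right (Commute.refl a) h2)
    (Commute.mul_right h1.symm h3)

include hz hfz in
theorem fix_zpow {j : ℕ} (hj0 : 0 < j) (hjp : j < p) {x : V} (h : (z ^ j) x = x) : x = 1 := by
  have hcop' : j.Coprime (orderOf z) := by
    have h1 : orderOf z ∣ p := orderOf_dvd_of_pow_eq_one hz
    have h2 : j.Coprime p := by
      rw [Nat.coprime_comm, Nat.Prime.coprime_iff_not_dvd hp.out]
      intro hd
      exact absurd (Nat.le_of_dvd hj0 hd) (not_le.mpr hjp)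
    exact Nat.Coprime.coprime_dvd_right h1 h2
  obtain ⟨m, hm⟩ := exists_pow_eq_self_of_coprime hcop'
  have h2 : z x = x := by
    rw [← hm]
    exact pow_apply_of_fix h m
  have : x ∈ fix z := h2
  rw [hfz, Subgroup.mem_bot] at this
  exact this

include hza hz hfz in
theorem disj {k m : ℕ} (hk : k < p) (hm : m < p) (hkm : k ≠ m) {x : V}
    (h1 : (a * z ^ k) x = x) (h2 : (a * z ^ m) x = x) : x = 1 := by
  wlog hlt : k < m generalizing k m
  · exact this hm hk (Ne.symm hkm) h2 h1 (lt_of_le_of_ne (not_lt.mp hlt) (Ne.symm hkm))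
  have h3 : a * z ^ m = (a * z ^ k) * z ^ (m - k) := by
    rw [mul_assoc, ← pow_add, Nat.add_sub_cancel' hlt.le]
  rw [h3] at h2
  have h4 : (a * z ^ k) ((z ^ (m - k)) x) = (a * z ^ k) x := by
    rw [h1]; exact h2
  have h5 : (z ^ (m - k)) x = x := (a * z ^ k).injective h4
  exact fix_zpow z hz hfz (by omega) (by omega) h5

/-- The product map on the fixed point subgroups. -/
def Phi : (∀ k : Fin p, fix (a * z ^ (k : ℕ))) →* V where
  toFun f := ∏ k : Fin p, (f k : V)
  map_one' := by simp
  map_mul' f g := by simp [Finset.prod_mul_distrib]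

theorem Phi_apply (f : ∀ k : Fin p, fix (a * z ^ (k : ℕ))) :
    Phi z a f = ∏ k : Fin p, (f k : V) := rfl

include hza hz ha hfz in
theorem nrm_Phi (f : ∀ k : Fin p, fix (a * z ^ (k : ℕ))) (m : Fin p) :
    nrm p (a * z ^ (m : ℕ)) (Phi z a f) = (f m : V) ^ p := by
  rw [Phi_apply, map_prod, Finset.prod_eq_single m]
  · exact nrm_of_fix (f m).2
  · intro k _ hkm
    have h1 := nrm_fixed (b_pow z a hza hz ha (m : ℕ)) (f k : V)
    have h2 := nrm_fixed_of_commute (p := p) (b_comm z a hza (k : ℕ) (m : ℕ)) (f k).2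
    exact disj z a hza hz hfz k.2 m.2 (fun h => hkm (Fin.ext h)) h2 h1
  · intro h
    exact absurd (Finset.mem_univ m) h

include hcop hza hz ha hfz in
theorem Phi_injective : Function.Injective (Phi (p := p) z a) := by
  rw [injective_iff_map_eq_one]
  intro f hf
  funext m
  have h1 := nrm_Phi z a hza hz ha hfz f m
  rw [hf, map_one] at h1
  have h2 := eq_one_of_pow_eq_one hcop h1.symm
  exact Subtype.ext h2

include hcop hza hz ha hfz in
theorem Phi_surjective : Function.Surjective (Phi (p := p) z a) := by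
  intro v
  have hp1 : (1 : ZMod p).val = 1 := by
    haveI : Fact (1 < p) := ⟨hp.out.one_lt⟩
    exact ZMod.val_one p
  have := Cfsg.Agent.Lib.Helper2.abelian_gen_aux hcop
    (fun i j : ZMod p => z ^ i.val * a ^ j.val)
    (fun i j i' j' => Cfsg.Agent.Lib.Helper2.zmod_sq_hom_aux hza hz ha i j i' j')
    (Phi (p := p) z a).range ?_ ?_ v
  · exact this
  · intro w hw
    simp only [ZMod.val_zero, pow_zero, mul_one, hp1, pow_one] at hw
    have : w ∈ fix z := hw
    rw [hfz, Subgroup.mem_bot] at this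
    rw [this]
    exact Subgroup.one_mem _
  · intro j w hw
    simp only [hp1, pow_one] at hw
    have hjlt : j.val < p := ZMod.val_lt j
    have hw' : (a * z ^ ((⟨j.val, hjlt⟩ : Fin p) : ℕ)) w = w := by
      change (a * z ^ j.val) w = w
      rw [((hza.pow_left j.val).symm).eq]
      exact hw
    classical
    refine ⟨Pi.mulSingle (⟨j.val, hjlt⟩ : Fin p) ⟨w, hw'⟩, ?_⟩
    rw [Phi_apply, Finset.prod_eq_single (⟨j.val, hjlt⟩ : Fin p)]
    · rw [Pi.mulSingle_eq_same]
    · intro k _ hk
      rw [Pi.mulSingle_eq_of_ne hk]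
      rfl
    · intro h
      exact absurd (Finset.mem_univ _) h

include hcop hza hzu hz ha hua hfz in
theorem nrm_injOn_fix (m : ℕ) (hm : m < p) {x : V} (hx : u x = x)
    (h : nrm p (a * z ^ m) x = 1) : x = 1 := by
  have h1 : ∀ j : ℕ, nrm p (a * z ^ (m + j)) x = 1 := by
    intro j
    induction j with
    | zero => exact h
    | succ j ih =>
      have := nrm_conj p u (a * z ^ (m + j)) x
      rw [b_conj z a u hzu hua, hx, ih, map_one] at this
      exact this
  have h2 : ∀ k : ℕ, k < p → nrm p (a * z ^ k) x = 1 := by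
    intro k hk
    have := h1 (k + p - m)
    have e : m + (k + p - m) = k + p := by omega
    rw [e, b_per z a hz] at this
    exact this
  obtain ⟨f, rfl⟩ := Phi_surjective hcop z a hza hz ha hfz x
  have h3 : f = 1 := by
    funext k
    have h4 := nrm_Phi z a hza hz ha hfz f k
    rw [h2 k k.2] at h4
    exact Subtype.ext (eq_one_of_pow_eq_one hcop h4.symm)
  rw [h3, map_one]

include hcop hza hzu hz ha hua hfz in
/-- The counting lemma. -/
theorem card_fix_pow_le : Nat.card (fix u) ^ p ≤ Nat.card V := by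
  have h1 : ∀ k : Fin p, Nat.card (fix u) ≤ Nat.card (fix (a * z ^ (k : ℕ))) := by
    intro k
    let g : fix u →* fix (a * z ^ (k : ℕ)) :=
      { toFun := fun x => ⟨nrm p (a * z ^ (k : ℕ)) x, nrm_fixed (b_pow z a hza hz ha k) _⟩
        map_one' := by ext; simp
        map_mul' := fun x y => by ext; simp }
    have hg : Function.Injective g := by
      rw [injective_iff_map_eq_one]
      intro x hx
      have hx' : nrm p (a * z ^ (k : ℕ)) (x : V) = 1 := congrArg Subtype.val hx
      exact Subtype.ext (nrm_injOn_fix hcop z a u hza hzu hz ha hua hfz k k.2 x.2 hx')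
    exact Nat.card_le_card_of_injective g hg
  have h2 : Nat.card (∀ k : Fin p, fix (a * z ^ (k : ℕ))) ≤ Nat.card V :=
    Nat.card_le_card_of_injective _ (Phi_injective hcop z a hza hz ha hfz)
  rw [Nat.card_pi] at h2
  calc Nat.card (fix u) ^ p = ∏ _k : Fin p, Nat.card (fix u) := by
        rw [Finset.prod_const, Finset.card_univ, Fintype.card_fin]
    _ ≤ ∏ k : Fin p, Nat.card (fix (a * z ^ (k : ℕ))) :=
        Finset.prod_le_prod (fun _ _ => Nat.zero_le _) (fun k _ => h1 k)
    _ ≤ Nat.card V := h2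

end main

end Cfsg.Agent.Lib.Helper4.NormComp1
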