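import Mathlib
import Cfsg.Agent.Lib.Helper4.NormComp1
import Cfsg.Agent.Lib.Helper2.PGroupOdd
import Cfsg.Agent.Lib.Helper1.Rk3

/-!
# No faithful irreducible-like configuration with complementary fixed points
-/

set_option autoImplicit false

namespace Cfsg.Agent.Lib.Helper4.NormComp2

open Cfsg.Agent.Lib.Helper4.NormComp1
open scoped commutatorElement

variable {V : Type*} [CommGroup V] [Finite V] {p : ℕ} [hp : Fact p.Prime]

theorem subsingleton_of_forall_eq_one (h : ∀ v : V, v = 1) (c : MulAut V) : c = 1 := by
  ext v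
  rw [h v, map_one, MulAut.one_apply]

/-- centralising a generating set -/
theorem commute_of_closure {M : Type*} [Group M] {C : Set M} {e : M}
    (h : ∀ c ∈ C, Commute c e) {x : M} (hx : x ∈ Subgroup.closure C) : Commute x e := by
  induction hx using Subgroup.closure_induction with
  | mem c hc => exact h c hc
  | one => exact Commute.one_left e
  | mul x y _ _ hx hy => exact hx.mul_left hy
  | inv x _ hx => exact hx.inv_left

theorem card_le_of_dec {c d : MulAut V}
    (hdec : ∀ v : V, ∃ v₁ v₂ : V, d v₁ = v₁ ∧ c v₂ = v₂ ∧ v = v₁ * v₂) :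
    Nat.card V ≤ Nat.card (fix d) * Nat.card (fix c) := by
  rw [← Nat.card_prod]
  apply Nat.card_le_card_of_surjective (fun x : fix d × fix c => (x.1 : V) * (x.2 : V))
  intro v
  obtain ⟨v₁, v₂, h1, h2, h3⟩ := hdec v
  exact ⟨(⟨v₁, h1⟩, ⟨v₂, h2⟩), h3.symm⟩

theorem no_config (hp3 : 3 ≤ p) (hcop : (Nat.card V).Coprime p)
    (Q : Subgroup (MulAut V)) (hQ : IsPGroup p Q) (hQ1 : Q ≠ ⊥)
    (hcen : ∀ z ∈ Q, (∀ y ∈ Q, Commute z y) → z ≠ 1 → fix z = ⊥)
    (C D : Set (MulAut V)) (hC : Subgroup.closure C = Q) (hD : Subgroup.closure D = Q)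
    (hdec : ∀ c ∈ C, ∀ d ∈ D, ∀ v : V, ∃ v₁ v₂ : V, d v₁ = v₁ ∧ c v₂ = v₂ ∧ v = v₁ * v₂) :
    False := by
  have hp2 : p ≠ 2 := by omega
  have hCQ : ∀ c ∈ C, c ∈ Q := fun c hc => hC ▸ Subgroup.subset_closure hc
  have hDQ : ∀ d ∈ D, d ∈ Q := fun d hd => hD ▸ Subgroup.subset_closure hd
  -- a nontrivial element of a generating set
  have hne : ∀ S : Set (MulAut V), Subgroup.closure S = Q → ∃ c ∈ S, c ≠ 1 := by
    intro S hS
    by_contra h
    push Not at h
    apply hQ1
    rw [← hS, Subgroup.closure_eq_bot_iff]
    intro c hc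
    exact h c hc
  -- if `V` is trivial we are done
  have htriv : (∀ v : V, v = 1) → False := by
    intro h
    obtain ⟨c, -, hc1⟩ := hne C hC
    exact hc1 (subsingleton_of_forall_eq_one h c)
  by_cases hab : ∀ x ∈ Q, ∀ y ∈ Q, Commute x y
  · -- abelian case
    obtain ⟨c, hcC, hc1⟩ := hne C hC
    obtain ⟨d, hdD, hd1⟩ := hne D hD
    have hfc : fix c = ⊥ := hcen c (hCQ c hcC) (fun y hy => hab c (hCQ c hcC) y hy) hc1
    have hfd : fix d = ⊥ := hcen d (hDQ d hdD) (fun y hy => hab d (hDQ d hdD) y hy) hd1
    apply htriv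
    intro v
    obtain ⟨v₁, v₂, h1, h2, h3⟩ := hdec c hcC d hdD v
    have e1 : v₁ ∈ fix d := h1
    have e2 : v₂ ∈ fix c := h2
    rw [hfd, Subgroup.mem_bot] at e1
    rw [hfc, Subgroup.mem_bot] at e2
    rw [h3, e1, e2, one_mul]
  · -- nonabelian case
    have hnc : ¬ IsCyclic Q := by
      intro hcyc
      apply hab
      intro x hx y hy
      have := (IsCyclic.commGroup (α := Q)).mul_comm ⟨x, hx⟩ ⟨y, hy⟩
      exact congrArg Subtype.val this
    obtain ⟨E, hEn, hEcard, hEp⟩ := Cfsg.Agent.Lib.Helper2.exists_normal_elementary_sq hp2 hQ hnc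
    have hEucs := Cfsg.Agent.Lib.Helper1.Rk.le_ucs2_of_normal_card_sq hQ E hEcard
    by_cases hEc : ∀ e ∈ E, ∀ y : Q, Commute e y
    · -- `E` central
      have hE1 : ∃ z ∈ E, z ≠ 1 := by
        by_contra h
        push Not at h
        have : E = ⊥ := by
          rw [eq_bot_iff]
          intro e he
          rw [Subgroup.mem_bot]; exact h e he
        rw [this, Subgroup.card_bot] at hEcard
        have : 1 < p ^ 2 := Nat.one_lt_pow (by norm_num) hp.out.one_lt
        omega
      obtain ⟨z, hzE, hz1⟩ := hE1
      have hzp : z ^ p = 1 := hEp z hzE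
      have hE2 : ∃ a ∈ E, a ∉ Subgroup.zpowers z := by
        by_contra h
        push Not at h
        have hle : E ≤ Subgroup.zpowers z := fun e he => h e he
        have h1 := Subgroup.card_le_of_le hle
        rw [hEcard, Nat.card_zpowers] at h1
        have h2 : orderOf z ≤ p := Nat.le_of_dvd hp.out.pos (orderOf_dvd_of_pow_eq_one hzp)
        have h3 : p < p ^ 2 := by
          have := hp.out.one_lt
          nlinarith
        omega
      obtain ⟨a, haE, haz⟩ := hE2
      have hap : a ^ p = 1 := hEp a haE
      have hza : Commute (z : MulAut V) (a : MulAut V) := by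
        have := hEc z hzE a
        exact congrArg Subtype.val this.eq
      have hzp' : (z : MulAut V) ^ p = 1 := by
        have := congrArg Subtype.val hzp
        simpa using this
      have hap' : (a : MulAut V) ^ p = 1 := by
        have := congrArg Subtype.val hap
        simpa using this
      have hcentral : ∀ e ∈ E, ∀ y ∈ Q, Commute (e : MulAut V) y := by
        intro e he y hy
        have := hEc e he ⟨y, hy⟩
        exact congrArg Subtype.val this.eq
      apply htriv
      intro v
      have hp1 : (1 : ZMod p).val = 1 := by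
        haveI : Fact (1 < p) := ⟨hp.out.one_lt⟩
        exact ZMod.val_one p
      have := Cfsg.Agent.Lib.Helper2.abelian_gen_aux hcop
        (fun i j : ZMod p => (z : MulAut V) ^ i.val * (a : MulAut V) ^ j.val)
        (fun i j i' j' => Cfsg.Agent.Lib.Helper2.zmod_sq_hom_aux hza hzp' hap' i j i' j')
        ⊥ ?_ ?_ v
      · exact (Subgroup.mem_bot).mp this
      · intro w hw
        simp only [ZMod.val_zero, pow_zero, mul_one, hp1, pow_one] at hw
        have hfz : fix (z : MulAut V) = ⊥ :=
          hcen z z.2 (hcentral z hzE) (fun h => hz1 (Subtype.ext h))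
        have : w ∈ fix (z : MulAut V) := hw
        rwa [hfz] at this
      · intro j w hw
        simp only [hp1, pow_one] at hw
        have hmem : z ^ j.val * a ∈ E := E.mul_mem (E.pow_mem hzE _) haE
        have hne1 : z ^ j.val * a ≠ 1 := by
          intro h
          apply haz
          have : a = (z ^ j.val)⁻¹ := eq_inv_of_mul_eq_one_right h
          rw [this]
          exact Subgroup.inv_mem _ (Subgroup.pow_mem _ (Subgroup.mem_zpowers z) _)
        have hf : fix ((z ^ j.val * a : Q) : MulAut V) = ⊥ :=
          hcen _ (z ^ j.val * a).2 (hcentral _ hmem) (fun h => hne1 (Subtype.ext h))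
        have : w ∈ fix ((z ^ j.val * a : Q) : MulAut V) := by
          change ((z ^ j.val * a : Q) : MulAut V) w = w
          simpa using hw
        rwa [hf] at this
    · -- `E` not central
      push Not at hEc
      obtain ⟨e₀, he₀, y₀, hy₀⟩ := hEc
      have key : ∀ S : Set (MulAut V), Subgroup.closure S = Q →
          ∃ c ∈ S, Nat.card (fix c) ^ p ≤ Nat.card V := by
        intro S hS
        have hSQ : ∀ c ∈ S, c ∈ Q := fun c hc => hS ▸ Subgroup.subset_closure hc
        -- some element of `S` does not centralise `E`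
        have hex : ∃ c ∈ S, ∃ a ∈ E, ¬ Commute c (a : MulAut V) := by
          by_contra h
          push Not at h
          apply hy₀
          have hy₀' : (y₀ : MulAut V) ∈ Subgroup.closure S := by rw [hS]; exact y₀.2
          have := commute_of_closure (e := (e₀ : MulAut V)) (fun c hc => h c hc e₀ he₀) hy₀'
          exact (Subtype.ext this.eq).symm
        obtain ⟨c, hcS, a, haE, hca⟩ := hex
        refine ⟨c, hcS, ?_⟩
        set c' : Q := ⟨c, hSQ c hcS⟩ with hc'
        set z' : Q := c' * a * c'⁻¹ * a⁻¹ with hz'
        have hz'E : z' ∈ E := E.mul_mem (hEn.conj_mem a haE c') (E.inv_mem haE)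
        have hz'c : z' ∈ Subgroup.center Q := by
          have h1 := (Cfsg.Agent.Lib.Helper1.Rk.mem_ucs2_iff.mp (hEucs haE)) c'
          have h2 : z' = ⁅a, c'⁆⁻¹ := by
            rw [hz', commutatorElement_def]; group
          rw [h2]
          exact Subgroup.inv_mem _ h1
        have hz'1 : z' ≠ 1 := by
          intro h
          apply hca
          have h2 : c' * a = a * c' := by
            have : c' * a * c'⁻¹ * a⁻¹ = 1 := h
            calc c' * a = (c' * a * c'⁻¹ * a⁻¹) * (a * c') := by group
              _ = a * c' := by rw [this, one_mul]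
          exact congrArg Subtype.val h2
        have hzcomm : ∀ y : Q, Commute z' y := fun y =>
          (Subgroup.mem_center_iff.mp hz'c y).symm
        have hfz : fix (z' : MulAut V) = ⊥ :=
          hcen z' z'.2 (fun y hy => congrArg Subtype.val (hzcomm ⟨y, hy⟩).eq)
            (fun h => hz'1 (Subtype.ext h))
        have hza : Commute (z' : MulAut V) (a : MulAut V) := congrArg Subtype.val (hzcomm a).eq
        have hzu : Commute (z' : MulAut V) c := congrArg Subtype.val (hzcomm c').eq
        have hzp : (z' : MulAut V) ^ p = 1 := by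
          have := congrArg Subtype.val (hEp z' hz'E)
          simpa using this
        have hap : (a : MulAut V) ^ p = 1 := by
          have := congrArg Subtype.val (hEp a haE)
          simpa using this
        have hua : c * (a : MulAut V) * c⁻¹ = (a : MulAut V) * (z' : MulAut V) := by
          have h1 : c' * a * c'⁻¹ = a * z' := by
            rw [← (hzcomm a).eq, hz']; group
          have := congrArg Subtype.val h1
          simpa using this
        exact card_fix_pow_le hcop (z' : MulAut V) (a : MulAut V) c hza hzu hzp hap hua hfz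
      obtain ⟨c, hcC, hc⟩ := key C hC
      obtain ⟨d, hdD, hd⟩ := key D hD
      have h1 := card_le_of_dec (hdec c hcC d hdD)
      have hV : 0 < Nat.card V := Nat.card_pos
      -- |V|^p ≤ |V|^2
      have h2 : Nat.card V ^ p ≤ Nat.card V ^ 2 := by
        calc Nat.card V ^ p ≤ (Nat.card (fix d) * Nat.card (fix c)) ^ p :=
              Nat.pow_le_pow_left h1 p
          _ = Nat.card (fix d) ^ p * Nat.card (fix c) ^ p := mul_pow _ _ _
          _ ≤ Nat.card V * Nat.card V := Nat.mul_le_mul hd hc
          _ = Nat.card V ^ 2 := (sq _).symm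
      have h3 : Nat.card V = 1 := by
        by_contra hne1
        have h4 : 2 ≤ Nat.card V := by omega
        have h5 : Nat.card V ^ 3 ≤ Nat.card V ^ p := Nat.pow_le_pow_right hV hp3
        have h6 : Nat.card V ^ 3 ≤ Nat.card V ^ 2 := h5.trans h2
        have h7 : Nat.card V ^ 2 < Nat.card V ^ 3 := Nat.pow_lt_pow_right (by omega) (by norm_num)
        omega
      apply htriv
      intro v
      have := (Nat.card_eq_one_iff_unique.mp h3).1
      exact Subsingleton.elim v 1

end Cfsg.Agent.Lib.Helper4.NormComp2
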