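import Mathlib
import Cfsg.Agent.Lib.Helper4.NormComp2
import Cfsg.Agent.Lib.Helper1.CoprimeSylow
import Cfsg.Agent.Lib.Helper1.Coprime
import Cfsg.Agent.Lib.Helper2.CoprimeQuot
import Cfsg.Agent.Lib.Lead.CjMore

/-!
# A `p`-group generated in two ways with all the mixed pairs generating `p`-groups centralises
the normal `p`-complement
-/

set_option autoImplicit false

namespace Cfsg.Agent.Lib.Helper4.NormComp3

open Cfsg.Agent.Lib.Helper1 Cfsg.Agent.Lib.Helper4.NormComp1 Cfsg.Agent.Lib.Lead.BaerSuzuki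
open scoped commutatorElement Pointwise

variable {G : Type*} [Group G]

theorem of_surj (M : Type*) [Group M] :
    Function.Surjective (Abelianization.of : M →* Abelianization M) :=
  QuotientGroup.mk_surjective

/-- Automorphisms act on the abelianization. -/
def abAut (M : Type*) [Group M] : MulAut M →* MulAut (Abelianization M) where
  toFun e := e.abelianizationCongr
  map_one' := by
    ext x
    obtain ⟨m, rfl⟩ := of_surj M x
    simp
  map_mul' e f := by
    ext x
    obtain ⟨m, rfl⟩ := of_surj M x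
    simp [MulAut.mul_apply]

theorem abAut_of (M : Type*) [Group M] (e : MulAut M) (m : M) :
    abAut M e (Abelianization.of m) = Abelianization.of (e m) := by
  simp [abAut]

/-- Conjugation action on a normalised subgroup. -/
noncomputable def conjM (P M : Subgroup G) (hPM : P ≤ Subgroup.normalizer (M : Set G)) :
    ↥P →* MulAut ↥M :=
  letI := conjActOfLeNormalizer P M hPM
  MulDistribMulAction.toMulAut ↥P ↥M

theorem conjM_coe (P M : Subgroup G) (hPM : P ≤ Subgroup.normalizer (M : Set G)) (u : P) (m : M) :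
    ((conjM P M hPM u m : M) : G) = (u : G) * m * (u : G)⁻¹ := rfl

theorem conj_mem_of_le_normalizer {P M : Subgroup G} (hPM : P ≤ Subgroup.normalizer (M : Set G))
    {u m : G} (hu : u ∈ P) (hm : m ∈ M) : u * m * u⁻¹ ∈ M :=
  (Subgroup.mem_normalizer_iff.mp (hPM hu) m).mp hm

/-- The normalizer of `M` normalises commutators of normalised subgroups. -/
theorem normalizer_commutator {A B : Subgroup G} {u : G}
    (hA : u ∈ Subgroup.normalizer (A : Set G)) (hB : u ∈ Subgroup.normalizer (B : Set G))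
    {x : G} (hx : x ∈ ⁅A, B⁆) : u * x * u⁻¹ ∈ ⁅A, B⁆ := by
  have h1 : (⁅A, B⁆).map (MulAut.conj u).toMonoidHom = ⁅A.map (MulAut.conj u).toMonoidHom,
      B.map (MulAut.conj u).toMonoidHom⁆ := Subgroup.map_commutator _ _ _
  have hA' : A.map (MulAut.conj u).toMonoidHom ≤ A := by
    rintro _ ⟨a, ha, rfl⟩
    exact (Subgroup.mem_normalizer_iff.mp hA a).mp ha
  have hB' : B.map (MulAut.conj u).toMonoidHom ≤ B := by
    rintro _ ⟨b, hb, rfl⟩
    exact (Subgroup.mem_normalizer_iff.mp hB b).mp hb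
  have h2 : u * x * u⁻¹ ∈ (⁅A, B⁆).map (MulAut.conj u).toMonoidHom := ⟨x, hx, rfl⟩
  rw [h1] at h2
  exact Subgroup.commutator_mono hA' hB' h2

theorem le_normalizer_commutator {P A B : Subgroup G}
    (hA : P ≤ Subgroup.normalizer (A : Set G)) (hB : P ≤ Subgroup.normalizer (B : Set G)) :
    P ≤ Subgroup.normalizer ((⁅A, B⁆ : Subgroup G) : Set G) :=
  le_normalizer_of_conj_mem (fun _ hu _ hx => normalizer_commutator (hA hu) (hB hu) hx)

variable [Finite G] {p : ℕ} [hp : Fact p.Prime]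

theorem eq_one_of_mem_of_mem {P M : Subgroup G} (hP : IsPGroup p P)
    (hM : (Nat.card M).Coprime p) {g : G} (hgP : g ∈ P) (hgM : g ∈ M) : g = 1 := by
  obtain ⟨k, hk⟩ := hP ⟨g, hgP⟩
  have h1 : g ^ p ^ k = 1 := by
    have := congrArg Subtype.val hk
    simpa using this
  have h2 : orderOf g ∣ p ^ k := orderOf_dvd_of_pow_eq_one h1
  have h3 : orderOf g ∣ Nat.card M := by
    have : orderOf (⟨g, hgM⟩ : M) ∣ Nat.card M := orderOf_dvd_natCard _
    rwa [Subgroup.orderOf_mk] at this
  have h4 : (Nat.card M).Coprime (p ^ k) := Nat.Coprime.pow_right k hM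
  have h5 : orderOf g ∣ 1 := by
    have := Nat.dvd_gcd h3 h2
    rwa [h4] at this
  exact orderOf_eq_one_iff.mp (Nat.dvd_one.mp h5)

/-- The decomposition lemma. -/
theorem decompose (P M : Subgroup G) (hP : IsPGroup p P)
    (hPM : P ≤ Subgroup.normalizer (M : Set G)) (hM : (Nat.card M).Coprime p) {x c d : G}
    (hx : x ∈ M) (hc : c ∈ P) (hd : d ∈ P)
    (hR : IsPGroup p (Subgroup.closure ({x * c * x⁻¹, d} : Set G))) :
    ∃ y ∈ M, y * d = d * y ∧ (y⁻¹ * x) * c = c * (y⁻¹ * x) := by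
  set H : Subgroup G := P ⊔ M with hH
  have hPH : P ≤ H := le_sup_left
  have hMH : M ≤ H := le_sup_right
  have hP' : IsPGroup p (P.subgroupOf H) := hP.comap_subtype
  obtain ⟨S, hS⟩ := hP'.exists_le_sylow
  set T : Subgroup G := (S : Subgroup H).map H.subtype with hT
  have hPT : P ≤ T := by
    intro g hg
    exact ⟨⟨g, hPH hg⟩, hS (by rw [Subgroup.mem_subgroupOf]; exact hg), rfl⟩
  have hTp : IsPGroup p T := S.isPGroup'.map _
  have hcoe : ((P ⊔ M : Subgroup G) : Set G) = (P : Set G) * (M : Set G) :=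
    Subgroup.coe_mul_of_left_le_normalizer_right P M hPM
  have hTP : T ≤ P := by
    rintro _ ⟨s, hs, rfl⟩
    have h1 : (s : G) ∈ ((P ⊔ M : Subgroup G) : Set G) := s.2
    rw [hcoe] at h1
    obtain ⟨u, hu, m, hm, hum⟩ := h1
    have hsT : (s : G) ∈ T := ⟨s, hs, rfl⟩
    have hmT : m ∈ T := by
      have : m = u⁻¹ * (s : G) := by
        change u * m = (s : G) at hum
        rw [← hum]; group
      rw [this]
      exact T.mul_mem (T.inv_mem (hPT hu)) hsT
    have hm1 : m = 1 := eq_one_of_mem_of_mem hTp hM hmT hm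
    change u * m = (s : G) at hum
    rw [hm1, mul_one] at hum
    change (s : G) ∈ P
    rw [← hum]; exact hu
  have hRH : Subgroup.closure ({x * c * x⁻¹, d} : Set G) ≤ H := by
    rw [Subgroup.closure_le]
    intro g hg
    rcases hg with rfl | rfl
    · exact H.mul_mem (H.mul_mem (hMH hx) (hPH hc)) (H.inv_mem (hMH hx))
    · exact hPH hd
  obtain ⟨h, hhH, hh⟩ := exists_cj_le_sylow H S _ hRH hR
  rw [cj_le_iff] at hh
  have h1 : h ∈ ((P ⊔ M : Subgroup G) : Set G) := hhH
  rw [hcoe] at h1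
  obtain ⟨u, hu, m, hm, hum⟩ := h1
  change u * m = h at hum
  have hconj : ∀ r ∈ Subgroup.closure ({x * c * x⁻¹, d} : Set G), m * r * m⁻¹ ∈ P := by
    intro r hr
    have h2 := hTP (hh r hr)
    have h3 : m * r * m⁻¹ = u⁻¹ * (h * r * h⁻¹) * u := by
      rw [← hum]; group
    rw [h3]
    exact P.mul_mem (P.mul_mem (P.inv_mem hu) h2) hu
  have hd' := hconj d (Subgroup.subset_closure (by simp))
  have hx' := hconj (x * c * x⁻¹) (Subgroup.subset_closure (by simp))
  -- `m` commutes with `d`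
  have e1 : m * d * m⁻¹ * d⁻¹ = 1 := by
    apply eq_one_of_mem_of_mem hP hM (P.mul_mem hd' (P.inv_mem hd))
    have : m * d * m⁻¹ * d⁻¹ = m * (d * m⁻¹ * d⁻¹) := by group
    rw [this]
    exact M.mul_mem hm (conj_mem_of_le_normalizer hPM hd (M.inv_mem hm))
  have e2 : (m * x) * c * (m * x)⁻¹ * c⁻¹ = 1 := by
    have hmx : m * x ∈ M := M.mul_mem hm hx
    apply eq_one_of_mem_of_mem hP hM
    · have : (m * x) * c * (m * x)⁻¹ = m * (x * c * x⁻¹) * m⁻¹ := by group
      rw [this]
      exact P.mul_mem hx' (P.inv_mem hc)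
    · have : (m * x) * c * (m * x)⁻¹ * c⁻¹ = (m * x) * (c * (m * x)⁻¹ * c⁻¹) := by group
      rw [this]
      exact M.mul_mem hmx (conj_mem_of_le_normalizer hPM hc (M.inv_mem hmx))
  refine ⟨m⁻¹, M.inv_mem hm, ?_, ?_⟩
  · have h4 : m * d = d * m := by
      calc m * d = (m * d * m⁻¹ * d⁻¹) * (d * m) := by group
        _ = d * m := by rw [e1, one_mul]
    calc m⁻¹ * d = m⁻¹ * (d * m) * m⁻¹ := by group
      _ = m⁻¹ * (m * d) * m⁻¹ := by rw [h4]
      _ = d * m⁻¹ := by group
  · rw [inv_inv]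
    calc (m * x) * c = ((m * x) * c * (m * x)⁻¹ * c⁻¹) * (c * (m * x)) := by group
      _ = c * (m * x) := by rw [e2, one_mul]

end Cfsg.Agent.Lib.Helper4.NormComp3
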