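import Mathlib
import Cfsg.Agent.Lib.Helper4.NormComp3

/-!
# The main reduction
-/

set_option autoImplicit false

namespace Cfsg.Agent.Lib.Helper4.NormComp4

open Cfsg.Agent.Lib.Helper1 Cfsg.Agent.Lib.Helper4.NormComp1 Cfsg.Agent.Lib.Helper4.NormComp3
open scoped commutatorElement Pointwise

variable {G : Type*} [Group G] [Finite G] {p : ℕ} [hp : Fact p.Prime]

theorem mem_commutator_iff (M : Subgroup G) (m : M) :
    m ∈ _root_.commutator M ↔ (m : G) ∈ ⁅M, M⁆ := by
  rw [← Subgroup.map_subtype_commutator]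
  constructor
  · intro h
    exact ⟨m, h, rfl⟩
  · rintro ⟨y, hy, hym⟩
    have : y = m := Subtype.ext hym
    rwa [← this]

theorem of_eq_one_iff (M : Subgroup G) (m : M) :
    (Abelianization.of m : Abelianization M) = 1 ↔ (m : G) ∈ ⁅M, M⁆ := by
  rw [← mem_commutator_iff, ← Abelianization.ker_of, MonoidHom.mem_ker]

theorem closure_subtype_eq_top (P : Subgroup G) (C : Set G) (hC : Subgroup.closure C = P) :
    Subgroup.closure {u : P | (u : G) ∈ C} = ⊤ := by
  apply Subgroup.map_injective P.subtype_injective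
  rw [MonoidHom.map_closure, ← MonoidHom.range_eq_map, Subgroup.range_subtype]
  have : (P.subtype '' {u : P | (u : G) ∈ C}) = C := by
    ext g
    constructor
    · rintro ⟨u, hu, rfl⟩
      exact hu
    · intro hg
      have hgP : g ∈ P := hC ▸ Subgroup.subset_closure hg
      exact ⟨⟨g, hgP⟩, hg, rfl⟩
  rw [this, hC]

/-- The main theorem in elementwise form. -/
theorem centralizes (hp3 : 3 ≤ p) (P N : Subgroup G) (hP : IsPGroup p P)
    (hPN : P ≤ Subgroup.normalizer (N : Set G)) (hN : (Nat.card N).Coprime p)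
    (C D : Set G) (hC : Subgroup.closure C = P) (hD : Subgroup.closure D = P)
    (h : ∀ x ∈ N, ∀ c ∈ C, ∀ d ∈ D, IsPGroup p (Subgroup.closure ({x * c * x⁻¹, d} : Set G))) :
    P ≤ Subgroup.centralizer (N : Set G) := by
  by_contra hcon
  -- minimal counterexample among invariant subgroups
  let 𝓜 : Set (Subgroup G) :=
    {M | M ≤ N ∧ P ≤ Subgroup.normalizer (M : Set G) ∧ ¬ P ≤ Subgroup.centralizer (M : Set G)}
  have h𝓜 : 𝓜.Nonempty := ⟨N, le_rfl, hPN, hcon⟩
  obtain ⟨M, ⟨hMN, hPM, hMc⟩, hmin⟩ := Set.exists_min_image 𝓜 (fun M => Nat.card M)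
    (Set.toFinite _) h𝓜
  have m1 : ∀ M' : Subgroup G, M' ≤ M → M' ≠ M → P ≤ Subgroup.normalizer (M' : Set G) →
      P ≤ Subgroup.centralizer (M' : Set G) := by
    intro M' hle hne hnorm
    by_contra hc
    have h1 := hmin M' ⟨hle.trans hMN, hnorm, hc⟩
    exact hne (Subgroup.eq_of_le_of_card_ge hle h1)
  have hcopM : (Nat.card M).Coprime p :=
    Nat.Coprime.coprime_dvd_left (Subgroup.card_dvd_of_le hMN) hN
  have hcopPM : (Nat.card P).Coprime (Nat.card M) := by
    obtain ⟨k, hk⟩ := IsPGroup.iff_card.mp hP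
    rw [hk]
    exact (Nat.Coprime.pow_right k hcopM).symm
  have hnilP : Group.IsNilpotent P := hP.isNilpotent
  have hsolvP : Group.IsSolvable P := inferInstance
  have hCP : ∀ c ∈ C, c ∈ P := fun c hc => hC ▸ Subgroup.subset_closure hc
  have hDP : ∀ d ∈ D, d ∈ P := fun d hd => hD ▸ Subgroup.subset_closure hd
  -- `M` is solvable
  have hsolvM : Group.IsSolvable M := by
    by_contra hns
    apply hMc
    rw [Subgroup.le_centralizer_iff]
    apply Cfsg.Agent.Lib.Helper2.le_of_forall_sylow_le
    intro r hr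
    obtain ⟨R, hR⟩ := coprime_exists_invariant_sylow P M hPM hcopPM (Or.inl hsolvP) r
    refine ⟨R, ?_⟩
    rw [← Subgroup.le_centralizer_iff]
    apply m1 _ (Subgroup.map_subtype_le _) _ hR
    intro heq
    apply hns
    have h1 : IsPGroup r ((R : Subgroup M).map M.subtype) := R.isPGroup'.map _
    rw [heq] at h1
    have : Group.IsNilpotent M := h1.isNilpotent
    infer_instance
  have hMne : M ≠ ⊥ := by
    intro hbot
    apply hMc
    rw [hbot]
    intro u _ x hx
    rw [Subgroup.coe_bot, Set.mem_singleton_iff] at hx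
    rw [hx, mul_one, one_mul]
  -- the derived subgroup
  set L : Subgroup G := ⁅M, M⁆ with hL
  have hLM : L ≤ M := Subgroup.commutator_le_self M
  have hLne : L ≠ M := by
    intro heq
    haveI : Nontrivial M := (Subgroup.nontrivial_iff_ne_bot M).mpr hMne
    have h1 := Group.IsSolvable.commutator_lt_top_of_nontrivial M
    have h2 : (_root_.commutator M).map M.subtype = (⊤ : Subgroup M).map M.subtype := by
      rw [Subgroup.map_subtype_commutator, ← MonoidHom.range_eq_map, Subgroup.range_subtype]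
      exact heq
    have h3 := Subgroup.map_injective M.subtype_injective h2
    exact absurd h3 (ne_of_lt h1)
  have hPL : P ≤ Subgroup.normalizer (L : Set G) := le_normalizer_commutator hPM hPM
  have hML : M ≤ Subgroup.normalizer (L : Set G) :=
    le_normalizer_commutator Subgroup.le_normalizer Subgroup.le_normalizer
  -- `[M, P] = M`
  have hMP : ⁅M, P⁆ = M := by
    have hle : ⁅M, P⁆ ≤ M := Subgroup.le_normalizer_iff_commutator_le_left.mp hPM
    by_contra hne
    have hnorm : P ≤ Subgroup.normalizer ((⁅M, P⁆ : Subgroup G) : Set G) :=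
      le_normalizer_commutator hPM Subgroup.le_normalizer
    have h1 := m1 _ hle hne hnorm
    rw [Subgroup.le_centralizer_iff, ← Subgroup.commutator_eq_bot_iff_le_centralizer,
      coprime_commutator_commutator P M hPM hcopPM (Or.inl hsolvP),
      Subgroup.commutator_eq_bot_iff_le_centralizer, ← Subgroup.le_centralizer_iff] at h1
    exact hMc h1
  -- the abelianization and the action
  let V := Abelianization M
  let φ : P →* MulAut V := (abAut M).comp (conjM P M hPM)
  have hφ : ∀ (u : P) (m : M), φ u (Abelianization.of m) = Abelianization.of (conjM P M hPM u m) :=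
    fun u m => abAut_of M _ m
  have hcopV : (Nat.card V).Coprime p := by
    have h1 : Nat.card V ∣ Nat.card M := Subgroup.card_quotient_dvd_card _
    exact Nat.Coprime.coprime_dvd_left h1 hcopM
  have hQ : IsPGroup p φ.range := IsPGroup.of_surjective hP φ.rangeRestrict φ.rangeRestrict_surjective
  have hQ1 : φ.range ≠ ⊥ := by
    intro hbot
    have htriv : ∀ u : P, φ u = 1 := by
      intro u
      have : φ u ∈ φ.range := ⟨u, rfl⟩
      rwa [hbot, Subgroup.mem_bot] at this
    have hle : ⁅M, P⁆ ≤ L := by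
      rw [Subgroup.commutator_comm, Subgroup.commutator_le]
      intro u hu m hm
      have h1 := hφ ⟨u, hu⟩ ⟨m, hm⟩
      rw [htriv, MulAut.one_apply] at h1
      have h2 : (Abelianization.of ((conjM P M hPM ⟨u, hu⟩ ⟨m, hm⟩) * (⟨m, hm⟩ : M)⁻¹) :
          Abelianization M) = 1 := by
        rw [map_mul, ← h1, map_inv, mul_inv_cancel]
      rw [of_eq_one_iff] at h2
      have h3 : (((conjM P M hPM ⟨u, hu⟩ ⟨m, hm⟩) * (⟨m, hm⟩ : M)⁻¹ : M) : G) = ⁅u, m⁆ := by
        rw [commutatorElement_def]
        rfl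
      rwa [h3] at h2
    rw [hMP] at hle
    exact hLne (le_antisymm hLM hle)
  let C' : Set (MulAut V) := φ '' {u : P | (u : G) ∈ C}
  let D' : Set (MulAut V) := φ '' {u : P | (u : G) ∈ D}
  have hC' : Subgroup.closure C' = φ.range := by
    rw [← MonoidHom.map_closure, closure_subtype_eq_top P C hC, MonoidHom.range_eq_map]
  have hD' : Subgroup.closure D' = φ.range := by
    rw [← MonoidHom.map_closure, closure_subtype_eq_top P D hD, MonoidHom.range_eq_map]
  apply Cfsg.Agent.Lib.Helper4.NormComp2.no_config hp3 hcopV φ.range hQ hQ1 ?_ C' D' hC' hD' ?_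
  · -- central elements act without fixed points
    rintro z ⟨u₀, rfl⟩ hzc hz1
    rw [eq_bot_iff]
    intro v hv
    rw [Subgroup.mem_bot]
    obtain ⟨m, rfl⟩ := of_surj M v
    set W : Subgroup G := ((fix (φ u₀)).comap Abelianization.of).map M.subtype with hW
    have hWM : W ≤ M := Subgroup.map_subtype_le _
    have hmW : (m : G) ∈ W := ⟨m, hv, rfl⟩
    have hPW : P ≤ Subgroup.normalizer (W : Set G) := by
      apply le_normalizer_of_conj_mem
      rintro w hw _ ⟨m', hm', rfl⟩
      refine ⟨conjM P M hPM ⟨w, hw⟩ m', ?_, rfl⟩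
      change φ u₀ (Abelianization.of (conjM P M hPM ⟨w, hw⟩ m')) =
        Abelianization.of (conjM P M hPM ⟨w, hw⟩ m')
      rw [← hφ ⟨w, hw⟩ m']
      have hcomm : φ u₀ * φ ⟨w, hw⟩ = φ ⟨w, hw⟩ * φ u₀ := (hzc _ ⟨⟨w, hw⟩, rfl⟩).eq
      have hm'' : φ u₀ (Abelianization.of m') = Abelianization.of m' := hm'
      calc φ u₀ (φ ⟨w, hw⟩ (Abelianization.of m'))
          = (φ u₀ * φ ⟨w, hw⟩) (Abelianization.of m') := rfl
        _ = (φ ⟨w, hw⟩ * φ u₀) (Abelianization.of m') := by rw [hcomm]
        _ = φ ⟨w, hw⟩ (φ u₀ (Abelianization.of m')) := rfl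
        _ = φ ⟨w, hw⟩ (Abelianization.of m') := by rw [hm'']
    have hWne : W ≠ M := by
      intro heq
      apply hz1
      ext v'
      obtain ⟨m', rfl⟩ := of_surj M v'
      have : (m' : G) ∈ W := by rw [heq]; exact m'.2
      obtain ⟨m'', hm'', hmm⟩ := this
      have : m'' = m' := Subtype.ext hmm
      rw [this] at hm''
      rw [MulAut.one_apply]
      exact hm''
    have hcW := m1 W hWM hWne hPW
    have hmL : (m : G) ∈ L := by
      apply Cfsg.Agent.Lib.Helper2.coprime_abelian_quotient_inf P M L hML hPL hPM le_rfl hcopPM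
        (m : G) m.2
      · rw [hMP]
        exact Subgroup.mem_sup_left m.2
      · intro a ha
        have : a * (m : G) = (m : G) * a := (hcW ha (m : G) hmW).symm
        rw [commutatorElement_def]
        have e : (m : G) * a * (m : G)⁻¹ * a⁻¹ = 1 := by
          rw [← this]; group
        rw [e]
        exact Subgroup.one_mem _
    exact (of_eq_one_iff M m).mpr hmL
  · -- the decomposition
    rintro _ ⟨c, hc, rfl⟩ _ ⟨d, hd, rfl⟩ v
    obtain ⟨m, rfl⟩ := of_surj M v
    have hR := h (m : G) (hMN m.2) (c : G) hc (d : G) hd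
    obtain ⟨y, hyM, hyd, hyc⟩ := decompose P M hP hPM hcopM m.2 c.2 d.2 hR
    refine ⟨Abelianization.of (⟨y, hyM⟩ : M),
      Abelianization.of ((⟨y, hyM⟩ : M)⁻¹ * m), ?_, ?_, ?_⟩
    · rw [hφ]
      congr 1
      apply Subtype.ext
      rw [conjM_coe]
      change (d : G) * y * (d : G)⁻¹ = y
      rw [← hyd]; group
    · rw [hφ]
      congr 1
      apply Subtype.ext
      rw [conjM_coe]
      change (c : G) * (y⁻¹ * (m : G)) * (c : G)⁻¹ = y⁻¹ * (m : G)
      rw [← hyc]; group
    · rw [← map_mul, mul_inv_cancel_left]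

end Cfsg.Agent.Lib.Helper4.NormComp4
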