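import Mathlib
import Cfsg.Agent.Lib.Helper8.O459Defs

/-!
S1022 (O459) piece P6a: the centralizer of a nonidentity element of `V` lies in `N(P)` or meets it
in a subgroup of index two.
-/

namespace Cfsg.Agent.Lib.Helper4.O459

open Cfsg.Agent.Lib.Helper8.O459

variable {G : Type*} [Group G] [Finite G]

/-- the arithmetic of P6a -/
theorem p6a_arith (i d j : ℕ) (h : i * d = 1008 * j) (hd : d % 19 = 1) (hd1 : d ≠ 1)
    (hj : j = 1 ∨ j = 3) : i = j := by
  have hd20 : 20 ≤ d := by omega
  have hi : i ≤ 151 := by
    rcases hj with rfl | rfl <;> nlinarith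
  rcases hj with rfl | rfl
  · interval_cases i <;> omega
  · interval_cases i <;> omega

/-- a simple group of order 459648 has no subgroup of index three -/
theorem p6a_no_index_three [IsSimpleGroup G] (hcard : Nat.card G = 459648) (M : Subgroup G)
    (hM : M.index = 3) : False := by
  classical
  let φ : G →* Equiv.Perm (G ⧸ M) := MulAction.toPermHom G (G ⧸ M)
  rcases (MonoidHom.normal_ker φ).eq_bot_or_eq_top with h | h
  · have hinj : Function.Injective φ := (MonoidHom.ker_eq_bot_iff φ).1 h
    have h1 : Nat.card G ≤ Nat.card (Equiv.Perm (G ⧸ M)) := Nat.card_le_card_of_injective φ hinj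
    rw [Nat.card_perm, ← Subgroup.index_eq_card, hM, hcard] at h1
    norm_num [Nat.factorial] at h1
  · have hMtop : M = ⊤ := by
      rw [eq_top_iff]
      intro g _
      have hg : g ∈ φ.ker := by rw [h]; trivial
      have h2 := MonoidHom.mem_ker.1 hg
      have h3 : φ g (QuotientGroup.mk 1 : G ⧸ M) = (QuotientGroup.mk 1 : G ⧸ M) := by
        rw [h2]; rfl
      have h4 : φ g (QuotientGroup.mk 1 : G ⧸ M) = QuotientGroup.mk (g * 1) := rfl
      rw [h4, QuotientGroup.eq] at h3
      have h5 : g⁻¹ ∈ M := by simpa using h3
      simpa using M.inv_mem h5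
    rw [hMtop, Subgroup.index_top] at hM
    omega

/-- a simple group of order 459648 has trivial centre -/
theorem p6a_central [IsSimpleGroup G] (hcard : Nat.card G = 459648) (P : Sylow 19 G) (w : G)
    (hw : ∀ g : G, g * w = w * g) : w = 1 := by
  haveI : Fact (Nat.Prime 19) := ⟨by norm_num⟩
  rcases (inferInstance : (Subgroup.center G).Normal).eq_bot_or_eq_top with h | h
  · have : w ∈ Subgroup.center G := Subgroup.mem_center_iff.mpr hw
    rw [h, Subgroup.mem_bot] at this
    exact this
  · exfalso
    have hcomm : ∀ a b : G, a * b = b * a := fun a b => by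
      have : b ∈ Subgroup.center G := by rw [h]; trivial
      exact Subgroup.mem_center_iff.mp this a
    have hPn : (P : Subgroup G).Normal := by
      constructor
      intro n hn g
      have : g * n * g⁻¹ = n := by rw [hcomm g n]; group
      rw [this]
      exact hn
    have hPcard : Nat.card (P : Subgroup G) = 19 := by
      rw [Sylow.card_eq_multiplicity, hcard]
      have : (459648 : ℕ).factorization 19 = 1 := by
        have h1 : (459648 : ℕ) = 19 ^ 1 * 24192 := by norm_num
        rw [h1, Nat.factorization_mul (by norm_num) (by norm_num), Nat.Prime.factorization_pow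
          (by norm_num)]
        have h2 : (24192 : ℕ).factorization 19 = 0 :=
          Nat.factorization_eq_zero_of_not_dvd (by norm_num)
        simp [h2]
      rw [this]; norm_num
    rcases hPn.eq_bot_or_eq_top with h1 | h1
    · rw [h1, Subgroup.card_bot] at hPcard
      omega
    · rw [h1, Subgroup.card_top, hcard] at hPcard
      omega

/-- P6a -/
theorem cent_le_or [IsSimpleGroup G] (hcard : Nat.card G = 459648) (P : Sylow 19 G)
    (hN : Nat.card (NP P) = 456) (V : Subgroup G) (hV : Nat.card V = 4) (hVC : V ≤ CP P)
    (hVN : NP P ≤ Subgroup.normalizer (V : Set G)) (w : G) (hw : w ∈ V) (hw1 : w ≠ 1) :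
    Subgroup.centralizer {w} ≤ NP P ∨
      (Subgroup.centralizer ({w} : Set G)).relIndex (NP P) = 2 := by
  classical
  haveI : Fact (Nat.Prime 19) := ⟨by norm_num⟩
  set M : Subgroup G := Subgroup.centralizer ({w} : Set G) with hMdef
  by_cases hMN : M ≤ NP P
  · left; exact hMN
  right
  -- `P ≤ M`
  have hPM : (P : Subgroup G) ≤ M := by
    intro p hp
    rw [hMdef, Subgroup.mem_centralizer_singleton_iff]
    have := hVC hw
    exact (Subgroup.mem_centralizer_iff.1 this p hp)
  -- `d = |M : M ⊓ N|` is the number of Sylow 19-subgroups of `M`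
  have hd : (NP P).relIndex M % 19 = 1 := by
    have h1 := card_sylow_modEq_one 19 M
    have h2 := Sylow.card_eq_index_normalizer (P.subtype hPM)
    have h3 : Subgroup.normalizer ((P.subtype hPM : Sylow 19 M) : Set M) =
        (NP P).subgroupOf M := by
      have h5 := Subgroup.subgroupOf_normalizer_eq hPM
      rw [h5]
      rfl
    rw [h3] at h2
    have h4 : ((NP P).subgroupOf M).index = (NP P).relIndex M := rfl
    rw [h4] at h2
    rw [← h2]
    exact h1
  have hd1 : (NP P).relIndex M ≠ 1 := by
    intro h
    exact hMN (Subgroup.relIndex_eq_one.1 h)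
  -- the two factorizations of `|G : M ⊓ N|`
  have hK1 : (M ⊓ NP P).relIndex (NP P) * (NP P).index = (M ⊓ NP P).index :=
    Subgroup.relIndex_mul_index inf_le_right
  have hK2 : (M ⊓ NP P).relIndex M * M.index = (M ⊓ NP P).index :=
    Subgroup.relIndex_mul_index inf_le_left
  rw [Subgroup.inf_relIndex_right] at hK1
  rw [Subgroup.inf_relIndex_left] at hK2
  have hNidx : (NP P).index = 1008 := by
    have := Subgroup.card_mul_index (NP P)
    rw [hN, hcard] at this
    omega
  -- `j ≤ 3`
  have hj3 : M.relIndex (NP P) ≤ 3 := by
    rw [Subgroup.relIndex, Subgroup.index_eq_card]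
    let f0 : (NP P) → V := fun n => ⟨(n : G) * w * (n : G)⁻¹, by
      have hn := hVN n.2
      exact (Subgroup.mem_normalizer_iff.1 hn w).1 hw⟩
    have hf0 : ∀ a b : NP P, (QuotientGroup.leftRel (M.subgroupOf (NP P))) a b →
        f0 a = f0 b := by
      intro a b hab
      rw [QuotientGroup.leftRel_apply, Subgroup.mem_subgroupOf] at hab
      have hc : ((a : G)⁻¹ * (b : G)) * w = w * ((a : G)⁻¹ * (b : G)) := by
        have := Subgroup.mem_centralizer_singleton_iff.1 hab
        simpa using this
      apply Subtype.ext
      show (a : G) * w * (a : G)⁻¹ = (b : G) * w * (b : G)⁻¹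
      have hw' : w = ((a : G)⁻¹ * b) * w * ((a : G)⁻¹ * b)⁻¹ := by rw [hc]; group
      calc (a : G) * w * (a : G)⁻¹
          = a * (((a : G)⁻¹ * b) * w * ((a : G)⁻¹ * b)⁻¹) * (a : G)⁻¹ := by rw [← hw']
        _ = b * w * (b : G)⁻¹ := by group
    let f : (NP P) ⧸ (M.subgroupOf (NP P)) → V := Quotient.lift f0 hf0
    have hfinj : Function.Injective f := by
      intro q1 q2 h12
      induction q1 using Quotient.inductionOn with
      | h a =>
        induction q2 using Quotient.inductionOn with
        | h b =>
          apply Quotient.sound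
          show (QuotientGroup.leftRel (M.subgroupOf (NP P))) a b
          rw [QuotientGroup.leftRel_apply, Subgroup.mem_subgroupOf, hMdef,
            Subgroup.mem_centralizer_singleton_iff]
          have h' : (a : G) * w * (a : G)⁻¹ = (b : G) * w * (b : G)⁻¹ :=
            congrArg Subtype.val h12
          have h'' : ((a : G)⁻¹ * (b : G)) * w = w * ((a : G)⁻¹ * (b : G)) := by
            calc ((a : G)⁻¹ * (b : G)) * w = (a : G)⁻¹ * ((b : G) * w * (b : G)⁻¹) * b := by group
              _ = (a : G)⁻¹ * ((a : G) * w * (a : G)⁻¹) * b := by rw [h']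
              _ = w * ((a : G)⁻¹ * (b : G)) := by group
          simpa using h''
    have hf1 : ∀ q, f q ≠ 1 := by
      intro q
      induction q using Quotient.inductionOn with
      | h a =>
        intro h
        have h' : (a : G) * w * (a : G)⁻¹ = 1 := congrArg Subtype.val h
        apply hw1
        have : w = (a : G)⁻¹ * ((a : G) * w * (a : G)⁻¹) * a := by group
        rw [this, h']
        group
    let g : Option ((NP P) ⧸ (M.subgroupOf (NP P))) → V := fun o => o.elim 1 f
    have hginj : Function.Injective g := by
      intro o1 o2 h12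
      cases o1 with
      | none =>
        cases o2 with
        | none => rfl
        | some q2 => exact absurd h12.symm (hf1 q2)
      | some q1 =>
        cases o2 with
        | none => exact absurd h12 (hf1 q1)
        | some q2 => exact congrArg some (hfinj h12)
    have hle := Nat.card_le_card_of_injective g hginj
    rw [hV] at hle
    have hopt : Nat.card (Option ((NP P) ⧸ (M.subgroupOf (NP P)))) =
        Nat.card ((NP P) ⧸ (M.subgroupOf (NP P))) + 1 := by
      haveI := Fintype.ofFinite ((NP P) ⧸ (M.subgroupOf (NP P)))
      rw [Nat.card_eq_fintype_card, Nat.card_eq_fintype_card, Fintype.card_option]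
    omega
  have hj0 : M.relIndex (NP P) ≠ 0 := by
    rw [Subgroup.relIndex]
    exact Subgroup.index_ne_zero_of_finite
  -- conclude
  by_contra hj2
  have hj : M.relIndex (NP P) = 1 ∨ M.relIndex (NP P) = 3 := by omega
  have hkey : M.index * (NP P).relIndex M = 1008 * M.relIndex (NP P) := by
    rw [mul_comm, hK2, ← hK1, hNidx, mul_comm]
  have hidx := p6a_arith _ _ _ hkey hd hd1 hj
  rcases hj with h1 | h3
  · -- `M = ⊤`, so `w` is central
    rw [h1] at hidx
    have hMtop : M = ⊤ := Subgroup.index_eq_one.1 hidx
    apply hw1
    apply p6a_central hcard P w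
    intro g
    have : g ∈ M := by rw [hMtop]; trivial
    exact Subgroup.mem_centralizer_singleton_iff.1 this
  · rw [h3] at hidx
    exact p6a_no_index_three hcard M hidx

end Cfsg.Agent.Lib.Helper4.O459
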