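import Mathlib
import Cfsg.Agent.Lib.Helper4.O73Iso
import Cfsg.Agent.Lib.Helper3.O73C3LANEINJ

/-!
Subgroups of order 3 of `Ω₇(3)`, part 1: the matrix representation `rho` of the presented group `O73p`,
words, and the checker of a certified enumeration of a Sylow 3-subgroup by packed matrices.
-/

namespace Cfsg.Agent.Lib.Helper4.O73C3

open Cfsg Cfsg.Agent.Lib.Helper4.LaneMat Cfsg.Agent.Lib.Helper4.TC Cfsg.Agent.Lib.Helper4.TC.Log
  Cfsg.Agent.Lib.Helper4.O73Iso Matrix

local notation "tm" => C7.toMat e7
local notation "mu" => C7.mul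
local notation "i7" => C7.one

/-- the presented group -/
abbrev Γ : Type := PO73p.P.Grp

/-- the letters -/
noncomputable abbrev gR : ℕ → Γ := PO73p.P.gR

/-- words in the eight letters -/
def Good (w : List ℕ) : Prop := ∀ x ∈ w, x < 8

def goodW (w : List ℕ) : Bool := w.all (fun x => Nat.ble (Nat.succ x) 8)

theorem good_of {w : List ℕ} (h : goodW w = true) : Good w := by
  intro x hx
  exact Nat.le_of_ble_eq_true (List.all_eq_true.1 h x hx)

theorem good_append {a b : List ℕ} (ha : Good a) (hb : Good b) : Good (a ++ b) := by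
  intro x hx
  rcases List.mem_append.1 hx with h | h
  · exact ha x h
  · exact hb x h

/-- the matrix of an element -/
noncomputable def rho (g : Γ) : Matrix I7 I7 (ZMod 3) := ((phi g : G7) : Matrix I7 I7 (ZMod 3))

theorem rho_mul (a b : Γ) : rho (a * b) = rho a * rho b := by
  unfold rho; rw [map_mul, Units.val_mul]

theorem rho_one : rho 1 = 1 := by
  unfold rho; rw [map_one, Units.val_one]

theorem phi_injective : Function.Injective phi := by
  rw [← MonoidHom.ker_eq_bot_iff]
  rcases O73pMain.simple_aux.eq_bot_or_eq_top_of_normal phi.ker inferInstance with h | h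
  · exact h
  · exfalso
    have h0 : PO73p.P.gR 0 ∈ phi.ker := by rw [h]; trivial
    have h2 : PO73p.P.gR 2 ∈ phi.ker := by rw [h]; trivial
    rw [MonoidHom.mem_ker] at h0 h2
    have e0 := congrArg (fun x : G7 => (x : Matrix I7 I7 (ZMod 3))) h0
    have e2 := congrArg (fun x : G7 => (x : Matrix I7 I7 (ZMod 3))) h2
    simp only [phi_gR 0 (by norm_num), phi_gR 2 (by norm_num), val_gU, Units.val_one] at e0 e2
    apply c_ncomm
    rw [C7.toMat_mul e7 (gT_valid _) (gT_valid _), C7.toMat_mul e7 (gT_valid _) (gT_valid _), e0, e2]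

theorem rho_injective : Function.Injective rho := by
  intro a b h
  exact phi_injective (Units.ext h)

theorem phi_word {w : List ℕ} (hw : Good w) : phi (wordP gR w) = wordP gU w := by
  induction w with
  | nil => simp
  | cons x w ih =>
    rw [wordP_cons, wordP_cons, map_mul, ih fun y hy => hw y (List.mem_cons_of_mem _ hy),
      phi_gR x (hw x List.mem_cons_self)]

theorem rho_word {w : List ℕ} (hw : Good w) : rho (wordP gR w) = tm (C7.evalW gT w) := by
  unfold rho
  rw [phi_word hw, val_wordP]

theorem rho_inv (a : Γ) : rho a⁻¹ * rho a = 1 := by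
  rw [← rho_mul, inv_mul_cancel, rho_one]

theorem rho_pow (a : Γ) (n : ℕ) : rho (a ^ n) = rho a ^ n := by
  induction n with
  | zero => rw [pow_zero, pow_zero, rho_one]
  | succ n ih => rw [pow_succ, pow_succ, rho_mul, ih]

/-! ### bounds of packed matrices -/

/-- the bound of the packed matrices -/
def BD : ℕ := (2 ^ C7.b) ^ (C7.n * C7.n)

theorem redA_lt (Z : ℕ) : redA 7 5 3 Z < BD := by
  unfold redA
  rw [sum_map_range]
  have h : ∀ m, (dg (2 ^ 5) Z m % 3) <<< (5 * m) = (dg (2 ^ 5) Z m % 3) * (2 ^ 5) ^ m := by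
    intro m
    rw [Nat.shiftLeft_eq, pow_mul]
  simp only [h]
  exact sum_lt (7 * 7) (fun m => dg (2 ^ 5) Z m % 3) fun k _ =>
    lt_of_lt_of_le (Nat.mod_lt _ (by norm_num)) (by norm_num)

theorem mul_lt (X Y : ℕ) : mu X Y < BD := redA_lt _

theorem one_lt : i7 < BD := by decide +kernel

/-- equality of packed matrices from equality of the matrices -/
theorem eq_of_tm {X Y : ℕ} (hX : C7.Valid X) (hY : C7.Valid Y) (hXb : X < BD) (hYb : Y < BD)
    (h : tm X = tm Y) : X = Y :=
  Cfsg.Agent.Lib.Helper3.O73C3LANEINJ.toMat_inj C7 e7 hX hY hXb hYb h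

theorem evalW_lt (w : List ℕ) : C7.evalW gT w < BD := by
  unfold Cfg.evalW
  induction w using List.reverseRecOn with
  | nil => exact one_lt
  | append_singleton w x _ =>
    rw [List.foldl_append, List.foldl_cons, List.foldl_nil]
    exact mul_lt _ _

theorem evalW_valid (w : List ℕ) : C7.Valid (C7.evalW gT w) := C7.valid_evalW gT w

theorem evalW_append (a b : List ℕ) :
    tm (C7.evalW gT (a ++ b)) = tm (C7.evalW gT a) * tm (C7.evalW gT b) := by
  rw [C7.toMat_evalW e7 gT _ fun x _ => gT_valid x, C7.toMat_evalW e7 gT _ fun x _ => gT_valid x,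
    C7.toMat_evalW e7 gT _ fun x _ => gT_valid x, List.map_append, List.prod_append]

end Cfsg.Agent.Lib.Helper4.O73C3
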