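import Mathlib
import Cfsg.Agent.Lib.Helper4.O73C3Lib
import Cfsg.Agent.Lib.Helper4.O73C3Defs

/-!
Subgroups of order 3 of `Ω₇(3)`, part 2: the Boolean checks of the certified enumeration of a Sylow
3-subgroup.  A table gives, for every index `k < 19683`, a packed matrix `key k` and a certificate `inf k`.
-/

namespace Cfsg.Agent.Lib.Helper4.O73C3

open Cfsg Cfsg.Agent.Lib.Helper4.LaneMat Cfsg.Agent.Lib.Helper4.TC Cfsg.Agent.Lib.Helper4.TC.Log
  Cfsg.Agent.Lib.Helper4.O73Iso

local notation "mu" => C7.mul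
local notation "i7" => C7.one

/-- the order of the Sylow 3-subgroup -/
def NP : ℕ := 19683

/-- a field of a certificate -/
def fld (x a w : ℕ) : ℕ := (x >>> a) % 2 ^ w

/-- the index of a packed matrix of the Sylow 3-subgroup: nine entries -/
def code (X : ℕ) : ℕ :=
  (X >>> 20) % 32 + 3 * ((X >>> 25) % 32) + 9 * ((X >>> 30) % 32) + 27 * ((X >>> 45) % 32) +
    81 * ((X >>> 50) % 32) + 243 * ((X >>> 60) % 32) + 729 * ((X >>> 65) % 32) + 2187 * ((X >>> 85) % 32) +
    6561 * ((X >>> 100) % 32)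

/-- entry `j` of a list of blocks -/
def getB : List ℕ → ℕ → ℕ
  | [], _ => 0
  | x :: _, 0 => x
  | _ :: xs, j + 1 => getB xs j

/-- a table: packed matrices and certificates -/
structure Tbl where
  key : ℕ → ℕ
  inf : ℕ → ℕ

/-- the table of a list of blocks of 256 entries of 288 bits -/
def ofBlocks (B : List ℕ) : Tbl where
  key k := (getB B (k / 256) >>> (288 * (k % 256))) % 2 ^ 245
  inf k := ((getB B (k / 256) >>> (288 * (k % 256))) >>> 245) % 2 ^ 43

namespace Tbl

variable (T : Tbl)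

def par (k : ℕ) : ℕ := fld (T.inf k) 0 15
def lab (k : ℕ) : ℕ := fld (T.inf k) 15 2
def dep (k : ℕ) : ℕ := fld (T.inf k) 17 5
def kind (k : ℕ) : ℕ := fld (T.inf k) 22 2
def eg (k : ℕ) : ℕ := fld (T.inf k) 24 2
def sg (k : ℕ) : ℕ := fld (T.inf k) 26 1
def cdep (k : ℕ) : ℕ := fld (T.inf k) 27 3
def ridx (k : ℕ) : ℕ := fld (T.inf k) 30 7

/-- the index and the parent -/
def chkTree (k : ℕ) : Bool :=
  band (Nat.beq (code (T.key k)) k)
    (bsel (Nat.beq k 0)
      (band (Nat.ble (Nat.succ (T.par k)) NP) (band (Nat.beq (Nat.succ (T.dep (T.par k))) (T.dep k))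
        (Nat.beq (mu (T.key (T.par k)) (SgL (T.lab k))) (T.key k))))
      (Nat.beq (T.key k) i7))

/-- the packed matrix `Z` is in the table -/
def cloZ (Z : ℕ) : Bool := band (Nat.ble (Nat.succ (code Z)) NP) (Nat.beq (T.key (code Z)) Z)

/-- closure under the generators -/
def chkClo (k : ℕ) : Bool :=
  band (T.cloZ (mu (T.key k) (SgL 0))) (band (T.cloZ (mu (T.key k) (SgL 1))) (T.cloZ (mu (T.key k) (SgL 2))))

/-- the conjugate of entry `k` by a generator or its inverse -/
def edgeZ (k : ℕ) : ℕ :=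
  bsel (Nat.beq (T.sg k) 0) (mu (mu (SgL (T.eg k)) (T.key k)) (SiL (T.eg k)))
    (mu (mu (SiL (T.eg k)) (T.key k)) (SgL (T.eg k)))

/-- the target of a conjugation edge -/
def edgeOK (k Z : ℕ) : Bool :=
  band (T.cloZ Z) (band (Nat.ble 2 (T.kind (code Z))) (Nat.ble (Nat.succ (T.cdep (code Z))) (T.cdep k)))

/-- the certificate of a root of a conjugation tree -/
def rootOK (X : ℕ) (e : ℕ × List ℕ) : Bool :=
  band (goodW e.2) (band (Nat.ble (Nat.succ e.1) 14)
    (Nat.beq (mu (C7.evalW gT e.2) X) (mu (YtL e.1) (C7.evalW gT e.2))))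

/-- the certificate of entry `k` -/
def chkCert (k : ℕ) : Bool :=
  bsel (Nat.beq (T.kind k) 0)
    (bsel (Nat.beq (T.kind k) 1)
      (bsel (Nat.beq (T.kind k) 2) (rootOK (T.key k) (RT.getD (T.ridx k) (0, []))) (T.edgeOK k (T.edgeZ k)))
      (!(Nat.beq (mu (mu (T.key k) (T.key k)) (T.key k)) i7)))
    (Nat.beq k 0)

/-- all checks of entry `k` -/
def chkAll (k : ℕ) : Bool := band (T.chkTree k) (band (T.chkClo k) (T.chkCert k))

end Tbl

end Cfsg.Agent.Lib.Helper4.O73C3
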