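import Mathlib
import Cfsg.Agent.Lib.Helper4.O73C3Chk
import Cfsg.Agent.Lib.Helper4.O73C3SV

/-!
Subgroups of order 3 of `Ω₇(3)`, part 4: kernel checks for the two class functions — the number of fixed
points on the 1080 cosets of `G₂(3)` and the number of fixed singular vectors.
-/

namespace Cfsg.Agent.Lib.Helper4.O73C3

open Cfsg Cfsg.Agent.Lib.Helper4.LaneMat Cfsg.Agent.Lib.Helper4.TC Cfsg.Agent.Lib.Helper4.TC.Log
  Cfsg.Agent.Lib.Helper4.O73Iso Cfsg.Agent.Lib.Helper4.TCD

local notation "mu" => C7.mul
local notation "i7" => C7.one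

set_option maxRecDepth 1000000
set_option Elab.async false

/-- the number of singular vectors -/
def NS : ℕ := 728

/-- singular vector `k` -/
def sv (k : ℕ) : ℕ := getB SV k

/-- letter `l` maps singular vector `k` to singular vector `PIL l k` -/
def svClosed (l : ℕ) : Bool :=
  allRange (fun k => band (Nat.ble (Nat.succ (getB (PIL l) k)) NS)
    (Nat.beq (mu (gT l) (sv k)) (sv (getB (PIL l) k)))) 0 NS

/-- the number of `i < n` with `f i` -/
def countBelow (f : ℕ → Bool) (n : ℕ) : ℕ := @Nat.rec (fun _ => ℕ) 0 (fun i ih => bsel (f i) ih (Nat.succ ih)) n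

/-- the number of singular vectors fixed by a packed matrix -/
def cntSV (Y : ℕ) : ℕ := countBelow (fun k => Nat.beq (mu Y (sv k)) (sv k)) NS

/-- the number of fixed points of a word on the 1080 cosets -/
noncomputable def cntFix (w : List ℕ) : ℕ :=
  countBelow (fun p => Nat.beq (Tab.act O73pA.T O73pA.D w p) p) 1080

theorem sv_closed_0 : svClosed 0 = true := by decide +kernel
theorem sv_closed_1 : svClosed 1 = true := by decide +kernel
theorem sv_closed_2 : svClosed 2 = true := by decide +kernel
theorem sv_closed_3 : svClosed 3 = true := by decide +kernel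
theorem sv_closed_4 : svClosed 4 = true := by decide +kernel
theorem sv_closed_5 : svClosed 5 = true := by decide +kernel
theorem sv_closed_6 : svClosed 6 = true := by decide +kernel
theorem sv_closed_7 : svClosed 7 = true := by decide +kernel

theorem sv_cnt_0 : cntSV (YtL 0) = (Fval 0).2 := by decide +kernel
theorem sv_cnt_1 : cntSV (YtL 2) = (Fval 1).2 := by decide +kernel
theorem sv_cnt_2 : cntSV (YtL 4) = (Fval 2).2 := by decide +kernel
theorem sv_cnt_3 : cntSV (YtL 6) = (Fval 3).2 := by decide +kernel
theorem sv_cnt_4 : cntSV (YtL 8) = (Fval 4).2 := by decide +kernel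
theorem sv_cnt_5 : cntSV (YtL 10) = (Fval 5).2 := by decide +kernel
theorem sv_cnt_6 : cntSV (YtL 12) = (Fval 6).2 := by decide +kernel

theorem sv_valid : allRange (fun k => decide (C7.Valid (sv k) ∧ sv k < BD)) 0 NS = true := by decide +kernel

theorem sv_inc : allRange (fun k => Nat.ble (Nat.succ (sv k)) (sv (Nat.succ k))) 0 727 = true := by
  decide +kernel

theorem fix_cnt : ∀ i, i < 7 → cntFix (Yw i) = (Fval i).1 := by decide +kernel

end Cfsg.Agent.Lib.Helper4.O73C3
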