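import Mathlib
import Cfsg.Agent.Lib.Helper4.O73C3Chk

/-!
Subgroups of order 3 of `Ω₇(3)`, part 3: soundness of the checks of part 2.  If all checks of a table
succeed, then the subgroup `PS` generated by three words has order `19683 = 3⁹` and each of its elements of
order 3 is conjugate into one of the seven subgroups `Ysub i`.
-/

namespace Cfsg.Agent.Lib.Helper4.O73C3

open Cfsg Cfsg.Agent.Lib.Helper4.LaneMat Cfsg.Agent.Lib.Helper4.TC Cfsg.Agent.Lib.Helper4.TC.Log
  Cfsg.Agent.Lib.Helper4.O73Iso Matrix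

local notation "tm" => C7.toMat e7
local notation "mu" => C7.mul
local notation "i7" => C7.one

set_option maxRecDepth 100000

/-! ### the constants -/

theorem SgL_eq3 : ∀ l, l < 3 → SgL l = C7.evalW gT (Sw l) ∧ SiL l = C7.evalW gT (Sw l ++ Sw l) ∧
    mu (mu (SgL l) (SgL l)) (SgL l) = i7 ∧ goodW (Sw l) = true := by decide +kernel

theorem three_cases (p : ℕ → Prop) (h : ∀ l, l < 3 → p l) (h' : ∀ n, p (n + 2) = p 2) : ∀ l, p l := by
  intro l
  match l with
  | 0 => exact h 0 (by norm_num)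
  | 1 => exact h 1 (by norm_num)
  | n + 2 => rw [h' n]; exact h 2 (by norm_num)

theorem SgL_eq (l : ℕ) : SgL l = C7.evalW gT (Sw l) :=
  three_cases (fun l => SgL l = C7.evalW gT (Sw l)) (fun l hl => (SgL_eq3 l hl).1) (fun _ => rfl) l

theorem SiL_eq (l : ℕ) : SiL l = C7.evalW gT (Sw l ++ Sw l) :=
  three_cases (fun l => SiL l = C7.evalW gT (Sw l ++ Sw l)) (fun l hl => (SgL_eq3 l hl).2.1) (fun _ => rfl) l

theorem SgL_cube (l : ℕ) : mu (mu (SgL l) (SgL l)) (SgL l) = i7 :=
  three_cases (fun l => mu (mu (SgL l) (SgL l)) (SgL l) = i7) (fun l hl => (SgL_eq3 l hl).2.2.1)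
    (fun _ => rfl) l

theorem Sw_good (l : ℕ) : Good (Sw l) :=
  three_cases (fun l => Good (Sw l)) (fun l hl => good_of (SgL_eq3 l hl).2.2.2) (fun _ => rfl) l

theorem SgL_valid (l : ℕ) : C7.Valid (SgL l) := by rw [SgL_eq]; exact evalW_valid _

theorem SiL_valid (l : ℕ) : C7.Valid (SiL l) := by rw [SiL_eq]; exact evalW_valid _

/-- the generators of the Sylow 3-subgroup -/
noncomputable def s (l : ℕ) : Γ := wordP gR (Sw l)

theorem rho_s (l : ℕ) : rho (s l) = tm (SgL l) := by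
  unfold s
  rw [rho_word (Sw_good l), SgL_eq]

theorem tm_one : tm i7 = 1 := C7.toMat_one e7

theorem s_cube (l : ℕ) : s l ^ 3 = 1 := by
  apply rho_injective
  rw [rho_pow, rho_one, rho_s, pow_succ, pow_two, ← C7.toMat_mul e7 (SgL_valid l) (SgL_valid l),
    ← C7.toMat_mul e7 (C7.valid_mul _ _) (SgL_valid l), SgL_cube, tm_one]

theorem s_inv (l : ℕ) : (s l)⁻¹ = s l * s l := by
  have h := s_cube l
  rw [pow_succ, pow_two] at h
  exact inv_eq_of_mul_eq_one_left h

theorem rho_s_inv (l : ℕ) : rho (s l)⁻¹ = tm (SiL l) := by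
  rw [s_inv, SiL_eq, evalW_append, rho_mul, rho_s, SgL_eq]

/-- the Sylow 3-subgroup -/
noncomputable def PS : Subgroup Γ := Subgroup.closure (Set.range s)

theorem s_mem (l : ℕ) : s l ∈ PS := Subgroup.subset_closure ⟨l, rfl⟩

/-! ### the tree: every entry is an element of `PS` -/

theorem chkTree_spec {T : Tbl} {k : ℕ} (h : T.chkTree k = true) :
    code (T.key k) = k ∧ ((k = 0 ∧ T.key k = i7) ∨ (k ≠ 0 ∧ T.par k < NP ∧
      T.dep (T.par k) + 1 = T.dep k ∧ mu (T.key (T.par k)) (SgL (T.lab k)) = T.key k)) := by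
  unfold Tbl.chkTree at h
  rw [band_eq_true] at h
  refine ⟨beq_eq h.1, ?_⟩
  have h2 := h.2
  cases hc : Nat.beq k 0 with
  | true =>
    rw [hc, bsel_true] at h2
    exact Or.inl ⟨beq_eq hc, beq_eq h2⟩
  | false =>
    rw [hc, bsel_false, band_eq_true, band_eq_true] at h2
    refine Or.inr ⟨?_, ble_succ h2.1, beq_eq h2.2.1, beq_eq h2.2.2⟩
    rintro rfl
    simp at hc

theorem reach (T : Tbl) (hT : ∀ k, k < NP → T.chkTree k = true) :
    ∀ d k, k < NP → T.dep k = d →
      C7.Valid (T.key k) ∧ T.key k < BD ∧ ∃ g ∈ PS, rho g = tm (T.key k) := by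
  intro d
  induction d with
  | zero =>
    intro k hk hd
    rcases (chkTree_spec (hT k hk)).2 with ⟨_, h1⟩ | ⟨_, _, h2, _⟩
    · rw [h1]
      exact ⟨C7.valid_one, one_lt, 1, one_mem _, by rw [rho_one, tm_one]⟩
    · omega
  | succ d ih =>
    intro k hk hd
    rcases (chkTree_spec (hT k hk)).2 with ⟨_, h1⟩ | ⟨_, hp, h2, h3⟩
    · rw [h1]
      exact ⟨C7.valid_one, one_lt, 1, one_mem _, by rw [rho_one, tm_one]⟩
    · obtain ⟨hv, _, g, hg, hgk⟩ := ih (T.par k) hp (by omega)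
      rw [← h3]
      refine ⟨C7.valid_mul _ _, mul_lt _ _, g * s (T.lab k), mul_mem hg (s_mem _), ?_⟩
      rw [rho_mul, hgk, rho_s, C7.toMat_mul e7 hv (SgL_valid _)]

theorem reach' (T : Tbl) (hT : ∀ k, k < NP → T.chkTree k = true) (k : ℕ) (hk : k < NP) :
    C7.Valid (T.key k) ∧ T.key k < BD ∧ ∃ g ∈ PS, rho g = tm (T.key k) :=
  reach T hT (T.dep k) k hk rfl

/-! ### closure: every element of `PS` is an entry -/

theorem cloZ_spec {T : Tbl} {Z : ℕ} (h : T.cloZ Z = true) : code Z < NP ∧ T.key (code Z) = Z := by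
  unfold Tbl.cloZ at h
  rw [band_eq_true] at h
  exact ⟨ble_succ h.1, beq_eq h.2⟩

theorem chkClo_spec {T : Tbl} {k : ℕ} (h : T.chkClo k = true) (l : ℕ) :
    code (mu (T.key k) (SgL l)) < NP ∧ T.key (code (mu (T.key k) (SgL l))) = mu (T.key k) (SgL l) := by
  unfold Tbl.chkClo at h
  rw [band_eq_true, band_eq_true] at h
  match l with
  | 0 => exact cloZ_spec h.1
  | 1 => exact cloZ_spec h.2.1
  | n + 2 => exact cloZ_spec h.2.2

theorem step (T : Tbl) (hT : ∀ k, k < NP → T.chkTree k = true) (hC : ∀ k, k < NP → T.chkClo k = true)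
    (g : Γ) (h : ∃ k, k < NP ∧ rho g = tm (T.key k)) (l : ℕ) :
    ∃ k, k < NP ∧ rho (g * s l) = tm (T.key k) := by
  obtain ⟨k, hk, hg⟩ := h
  obtain ⟨h1, h2⟩ := chkClo_spec (hC k hk) l
  refine ⟨_, h1, ?_⟩
  rw [h2, rho_mul, hg, rho_s, C7.toMat_mul e7 (reach' T hT k hk).1 (SgL_valid _)]

theorem mem_table (T : Tbl) (hT : ∀ k, k < NP → T.chkTree k = true) (hC : ∀ k, k < NP → T.chkClo k = true)
    (g : Γ) (hg : g ∈ PS) : ∃ k, k < NP ∧ rho g = tm (T.key k) := by
  unfold PS at hg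
  induction hg using Subgroup.closure_induction_right with
  | one =>
    refine ⟨0, by norm_num [NP], ?_⟩
    rcases (chkTree_spec (hT 0 (by norm_num [NP]))).2 with ⟨_, h1⟩ | ⟨h0, _⟩
    · rw [h1, rho_one, tm_one]
    · exact absurd rfl h0
  | mul_right x _ y hy ih =>
    obtain ⟨l, rfl⟩ := hy
    exact step T hT hC x ih l
  | mul_inv_cancel x _ y hy ih =>
    obtain ⟨l, rfl⟩ := hy
    rw [s_inv, ← mul_assoc]
    exact step T hT hC _ (step T hT hC x ih l) l

/-! ### the order of `PS` -/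

theorem card_PS (T : Tbl) (hT : ∀ k, k < NP → T.chkTree k = true) (hC : ∀ k, k < NP → T.chkClo k = true) :
    Nat.card PS = NP := by
  have hex : ∀ k : Fin NP, ∃ g : PS, rho g.1 = tm (T.key k.1) := by
    intro k
    obtain ⟨_, _, g, hg, h⟩ := reach' T hT k.1 k.2
    exact ⟨⟨g, hg⟩, h⟩
  choose f hf using hex
  have hbij : Function.Bijective f := by
    constructor
    · intro a b hab
      have h1 : tm (T.key a.1) = tm (T.key b.1) := by rw [← hf a, ← hf b, hab]
      have ha := reach' T hT a.1 a.2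
      have hb := reach' T hT b.1 b.2
      have h2 := eq_of_tm ha.1 hb.1 ha.2.1 hb.2.1 h1
      apply Fin.ext
      rw [← (chkTree_spec (hT a.1 a.2)).1, ← (chkTree_spec (hT b.1 b.2)).1, h2]
    · intro g
      obtain ⟨k, hk, h⟩ := mem_table T hT hC g.1 g.2
      refine ⟨⟨k, hk⟩, ?_⟩
      apply Subtype.ext
      apply rho_injective
      rw [hf, h]
  rw [← Nat.card_eq_of_bijective f hbij, Nat.card_fin]

/-! ### the representatives of the classes -/

theorem YtL_eq14 : ∀ t, t < 14 → YtL t = C7.evalW gT (Ytw t) := by decide +kernel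

theorem Yw_good7 : ∀ i, i < 7 → goodW (Yw i) = true := by decide

theorem Y_cube7 : ∀ i, i < 7 → mu (mu (YtL (2 * i)) (YtL (2 * i))) (YtL (2 * i)) = i7 ∧ YtL (2 * i) ≠ i7 := by
  decide +kernel

/-- the representatives -/
noncomputable def yel (i : ℕ) : Γ := wordP gR (Yw i)

/-- the seven subgroups of order 3 -/
noncomputable def Ysub (i : ℕ) : Subgroup Γ := Subgroup.zpowers (yel i)

theorem Ytw_even (i : ℕ) : Ytw (2 * i) = Yw i := by
  unfold Ytw
  rw [if_pos (by omega)]
  congr 1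
  omega

theorem rho_yel {i : ℕ} (hi : i < 7) : rho (yel i) = tm (YtL (2 * i)) := by
  unfold yel
  rw [rho_word (good_of (Yw_good7 i hi)), YtL_eq14 (2 * i) (by omega), Ytw_even]

theorem YtL_valid {t : ℕ} (ht : t < 14) : C7.Valid (YtL t) := by rw [YtL_eq14 t ht]; exact evalW_valid _

theorem YtL_lt {t : ℕ} (ht : t < 14) : YtL t < BD := by rw [YtL_eq14 t ht]; exact evalW_lt _

theorem yel_cube {i : ℕ} (hi : i < 7) : yel i ^ 3 = 1 := by
  have hv := YtL_valid (t := 2 * i) (by omega)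
  apply rho_injective
  rw [rho_pow, rho_one, rho_yel hi, pow_succ, pow_two, ← C7.toMat_mul e7 hv hv,
    ← C7.toMat_mul e7 (C7.valid_mul _ _) hv, (Y_cube7 i hi).1, tm_one]

theorem yel_ne {i : ℕ} (hi : i < 7) : yel i ≠ 1 := by
  intro h
  have h1 := rho_yel hi
  rw [h, rho_one, ← tm_one] at h1
  exact (Y_cube7 i hi).2 (eq_of_tm C7.valid_one (YtL_valid (by omega)) one_lt (YtL_lt (by omega)) h1).symm

/-- the element of the word `Ytw t` lies in `Ysub (t / 2)` -/
theorem Ytw_mem (t : ℕ) : wordP gR (Ytw t) ∈ Ysub (t / 2) := by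
  unfold Ytw Ysub
  split_ifs
  · exact Subgroup.mem_zpowers _
  · rw [wordP_append]
    exact mul_mem (Subgroup.mem_zpowers _) (Subgroup.mem_zpowers _)

theorem Ytw_good {t : ℕ} (ht : t < 14) : Good (Ytw t) := by
  have h := good_of (Yw_good7 (t / 2) (by omega))
  unfold Ytw
  split_ifs
  · exact h
  · exact good_append h h

/-! ### the certificates -/

theorem edgeOK_spec {T : Tbl} {k Z : ℕ} (h : T.edgeOK k Z = true) :
    code Z < NP ∧ T.key (code Z) = Z ∧ 2 ≤ T.kind (code Z) ∧ T.cdep (code Z) < T.cdep k := by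
  unfold Tbl.edgeOK at h
  rw [band_eq_true, band_eq_true] at h
  obtain ⟨h1, h2⟩ := cloZ_spec h.1
  exact ⟨h1, h2, Nat.le_of_ble_eq_true h.2.1, ble_succ h.2.2⟩

theorem edgeZ_spec (T : Tbl) (k : ℕ) (hv : C7.Valid (T.key k)) (g : Γ) (hg : rho g = tm (T.key k)) :
    ∃ a : Γ, rho (a * g * a⁻¹) = tm (T.edgeZ k) := by
  unfold Tbl.edgeZ
  cases hc : Nat.beq (T.sg k) 0 with
  | true =>
    rw [bsel_true]
    refine ⟨(s (T.eg k))⁻¹, ?_⟩
    rw [inv_inv, rho_mul, rho_mul, rho_s_inv, rho_s, hg, C7.toMat_mul e7 (C7.valid_mul _ _) (SgL_valid _),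
      C7.toMat_mul e7 (SiL_valid _) hv]
  | false =>
    rw [bsel_false]
    refine ⟨s (T.eg k), ?_⟩
    rw [rho_mul, rho_mul, rho_s_inv, rho_s, hg, C7.toMat_mul e7 (C7.valid_mul _ _) (SiL_valid _),
      C7.toMat_mul e7 (SgL_valid _) hv]

theorem rootOK_spec {X : ℕ} {e : ℕ × List ℕ} (h : Tbl.rootOK X e = true) (hv : C7.Valid X) (g : Γ)
    (hg : rho g = tm X) : ∃ i, i < 7 ∧ ∃ c : Γ, c * g * c⁻¹ ∈ Ysub i := by
  unfold Tbl.rootOK at h
  rw [band_eq_true, band_eq_true] at h
  have hgood := good_of h.1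
  have ht : e.1 < 14 := ble_succ h.2.1
  have heq := beq_eq h.2.2
  refine ⟨e.1 / 2, by omega, wordP gR e.2, ?_⟩
  have h1 : wordP gR e.2 * g = wordP gR (Ytw e.1) * wordP gR e.2 := by
    apply rho_injective
    rw [rho_mul, rho_mul, rho_word hgood, rho_word (Ytw_good ht), hg, ← YtL_eq14 e.1 ht,
      ← C7.toMat_mul e7 (evalW_valid _) hv, ← C7.toMat_mul e7 (YtL_valid ht) (evalW_valid _), heq]
  rw [h1, mul_inv_cancel_right]
  exact Ytw_mem e.1

theorem conj_of_cert (T : Tbl) (hT : ∀ k, k < NP → T.chkTree k = true)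
    (hK : ∀ k, k < NP → T.chkCert k = true) :
    ∀ c k, k < NP → 2 ≤ T.kind k → T.cdep k = c → ∀ g : Γ, rho g = tm (T.key k) →
      ∃ i, i < 7 ∧ ∃ h : Γ, h * g * h⁻¹ ∈ Ysub i := by
  intro c
  induction c using Nat.strong_induction_on with
  | _ c ih =>
    intro k hk h2 hc g hg
    have hv := (reach' T hT k hk).1
    have h := hK k hk
    unfold Tbl.chkCert at h
    have e0 : Nat.beq (T.kind k) 0 = false := by
      cases hb : Nat.beq (T.kind k) 0 with
      | true => have := beq_eq hb; omega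
      | false => rfl
    have e1 : Nat.beq (T.kind k) 1 = false := by
      cases hb : Nat.beq (T.kind k) 1 with
      | true => have := beq_eq hb; omega
      | false => rfl
    rw [e0, bsel_false, e1, bsel_false] at h
    cases hb : Nat.beq (T.kind k) 2 with
    | true =>
      rw [hb, bsel_true] at h
      obtain ⟨h1, h3, h4, h5⟩ := edgeOK_spec h
      obtain ⟨a, ha⟩ := edgeZ_spec T k hv g hg
      rw [← h3] at ha
      obtain ⟨i, hi, x, hx⟩ := ih _ (by omega) _ h1 h4 rfl _ ha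
      refine ⟨i, hi, x * a, ?_⟩
      have e : x * a * g * (x * a)⁻¹ = x * (a * g * a⁻¹) * x⁻¹ := by group
      rw [e]
      exact hx
    | false =>
      rw [hb, bsel_false] at h
      exact rootOK_spec h hv g hg

theorem main_cert (T : Tbl) (hall : ∀ k, k < NP → T.chkAll k = true) :
    Nat.card PS = NP ∧ ∀ x ∈ PS, x ≠ 1 → x ^ 3 = 1 → ∃ i : Fin 7, ∃ g : Γ, g * x * g⁻¹ ∈ Ysub i.1 := by
  have hT : ∀ k, k < NP → T.chkTree k = true := by
    intro k hk
    have h := hall k hk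
    unfold Tbl.chkAll at h
    rw [band_eq_true] at h
    exact h.1
  have hC : ∀ k, k < NP → T.chkClo k = true := by
    intro k hk
    have h := hall k hk
    unfold Tbl.chkAll at h
    rw [band_eq_true, band_eq_true] at h
    exact h.2.1
  have hK : ∀ k, k < NP → T.chkCert k = true := by
    intro k hk
    have h := hall k hk
    unfold Tbl.chkAll at h
    rw [band_eq_true, band_eq_true] at h
    exact h.2.2
  refine ⟨card_PS T hT hC, ?_⟩
  intro x hx hx1 hx3
  obtain ⟨k, hk, hg⟩ := mem_table T hT hC x hx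
  have hv := reach' T hT k hk
  have h := hK k hk
  unfold Tbl.chkCert at h
  cases h0 : Nat.beq (T.kind k) 0 with
  | true =>
    exfalso
    rw [h0, bsel_true] at h
    have hk0 := beq_eq h
    subst hk0
    rcases (chkTree_spec (hT 0 hk)).2 with ⟨_, h1⟩ | ⟨h0', _⟩
    · rw [h1, tm_one, ← rho_one] at hg
      exact hx1 (rho_injective hg)
    · exact h0' rfl
  | false =>
    rw [h0, bsel_false] at h
    cases h1 : Nat.beq (T.kind k) 1 with
    | true =>
      exfalso
      rw [h1, bsel_true] at h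
      have h3 : tm (mu (mu (T.key k) (T.key k)) (T.key k)) = tm i7 := by
        rw [C7.toMat_mul e7 (C7.valid_mul _ _) hv.1, C7.toMat_mul e7 hv.1 hv.1, ← hg, ← rho_mul, ← rho_mul,
          ← pow_two, ← pow_succ, hx3, rho_one, tm_one]
      have h4 := eq_of_tm (C7.valid_mul _ _) C7.valid_one (mul_lt _ _) one_lt h3
      rw [h4] at h
      simp at h
    | false =>
      have hk2 : 2 ≤ T.kind k := by
        rcases Nat.lt_or_ge (T.kind k) 2 with hlt | hge
        · exfalso
          have : T.kind k = 0 ∨ T.kind k = 1 := by omega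
          rcases this with e | e
          · rw [e] at h0; simp at h0
          · rw [e] at h1; simp at h1
        · exact hge
      obtain ⟨i, hi, g, hg'⟩ := conj_of_cert T hT hK (T.cdep k) k hk hk2 rfl x hg
      exact ⟨⟨i, hi⟩, g, hg'⟩

end Cfsg.Agent.Lib.Helper4.O73C3
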