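import Mathlib

/-!
Counting arguments with fused classes of `p`-elements, used to exclude permutation actions of given degrees.

* `burnside_fused`: if all nonidentity elements of a subgroup `W` are conjugate in `G` to one element `c`, then
  `|W| * r = |Ω| + (|W| - 1) * |Fix(c)|` for the number `r` of orbits of `W`.
* `dvd_card_of_invariant`: a `p`-group acting on an invariant set without common fixed point.
* `no_two_transitive`: a group of order `17971200` with a fused subgroup of order 27, a fused subgroup of order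
  25 and a Frobenius group `13:3` has no faithful 2-transitive action on at least three points.
-/

set_option autoImplicit false

namespace Cfsg.Agent.Lib.Helper4.TwoTransCount

open MulAction

section basic

variable {G : Type*} [Group G] {Ω : Type*} [MulAction G Ω]

/-- conjugate elements have the same number of fixed points -/
theorem card_fixedBy_conj (x c : G) : Nat.card (fixedBy Ω (x * c * x⁻¹)) = Nat.card (fixedBy Ω c) := by
  symm
  apply Nat.card_congr
  refine ⟨fun a => ⟨x • a.1, ?_⟩, fun b => ⟨x⁻¹ • b.1, ?_⟩, ?_, ?_⟩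
  · have h := a.2
    rw [mem_fixedBy] at h ⊢
    have h1 : (x * c * x⁻¹) • x • a.1 = x • c • a.1 := by
      rw [← mul_smul, ← mul_smul]; congr 1; group
    rw [h1, h]
  · have h := b.2
    rw [mem_fixedBy] at h ⊢
    have h2 : c • x⁻¹ • b.1 = x⁻¹ • ((x * c * x⁻¹) • b.1) := by
      rw [← mul_smul, ← mul_smul]; congr 1; group
    rw [h2, h]
  · intro a
    apply Subtype.ext
    show x⁻¹ • x • a.1 = a.1
    rw [inv_smul_smul]
  · intro b
    apply Subtype.ext
    show x • x⁻¹ • b.1 = b.1
    rw [smul_inv_smul]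

/-- the sum of the numbers of fixed points over a subgroup with one fused class -/
theorem sum_fixedBy_fused [Finite Ω] (W : Subgroup G) [Fintype W] (c : G)
    (hc : ∀ w ∈ W, w ≠ 1 → ∃ x : G, x * c * x⁻¹ = w) :
    ∑ w : W, Nat.card (fixedBy Ω (w : G)) =
      Nat.card Ω + (Nat.card W - 1) * Nat.card (fixedBy Ω c) := by
  classical
  rw [← Finset.add_sum_erase Finset.univ _ (Finset.mem_univ (1 : W))]
  congr 1
  · have : fixedBy Ω ((1 : W) : G) = Set.univ := by
      ext a; simp
    rw [this]
    exact Nat.card_congr (Equiv.Set.univ Ω)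
  · rw [Finset.sum_const_nat (m := Nat.card (fixedBy Ω c))]
    · rw [Finset.card_erase_of_mem (Finset.mem_univ _), Finset.card_univ, Nat.card_eq_fintype_card (α := W)]
    · intro w hw
      have hw1 : w ≠ 1 := Finset.ne_of_mem_erase hw
      obtain ⟨x, hx⟩ := hc w.1 w.2 (fun h => hw1 (Subtype.ext h))
      rw [← hx, card_fixedBy_conj]

/-- Burnside's lemma for a subgroup with one fused class -/
theorem burnside_fused [Finite Ω] (W : Subgroup G) [Finite W] (c : G)
    (hc : ∀ w ∈ W, w ≠ 1 → ∃ x : G, x * c * x⁻¹ = w) :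
    ∃ r : ℕ, Nat.card W * r = Nat.card Ω + (Nat.card W - 1) * Nat.card (fixedBy Ω c) := by
  classical
  have := Fintype.ofFinite W
  have := Fintype.ofFinite Ω
  have : ∀ a : W, Fintype (fixedBy Ω a) := fun a => Fintype.ofFinite _
  have : Fintype (Quotient (orbitRel W Ω)) := Fintype.ofFinite _
  have hB := sum_card_fixedBy_eq_card_orbits_mul_card_group W Ω
  have hs := sum_fixedBy_fused (Ω := Ω) W c hc
  refine ⟨Fintype.card (Quotient (orbitRel W Ω)), ?_⟩
  rw [← hs, mul_comm, Nat.card_eq_fintype_card (α := W), ← hB]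
  apply Finset.sum_congr rfl
  intro w _
  rw [← Nat.card_eq_fintype_card]
  rfl

/-- a nonidentity element of a faithful action moves a point -/
theorem card_fixedBy_lt [FaithfulSMul G Ω] [Finite Ω] (g : G) (hg : g ≠ 1) :
    Nat.card (fixedBy Ω g) < Nat.card Ω := by
  classical
  have := Fintype.ofFinite Ω
  obtain ⟨a, ha⟩ : ∃ a : Ω, g • a ≠ a := by
    by_contra h
    push Not at h
    exact hg (FaithfulSMul.eq_of_smul_eq_smul (α := Ω) (fun a => by rw [h a, one_smul]))
  rw [Nat.card_eq_fintype_card, Nat.card_eq_fintype_card]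
  exact Fintype.card_subtype_lt (p := fun a => a ∈ fixedBy Ω g) (x := a) (by rwa [mem_fixedBy])

/-- a `p`-group acting on an invariant finite set without a common fixed point -/
theorem dvd_card_of_invariant (p : ℕ) [Fact p.Prime] (P : Subgroup G) (hP : IsPGroup p P) [Finite Ω]
    (S : Set Ω) (hinv : ∀ x ∈ P, ∀ a ∈ S, x • a ∈ S) (hfix : ∀ a ∈ S, ∃ x ∈ P, x • a ≠ a) :
    p ∣ Nat.card S := by
  let _ : MulAction P S :=
    { smul := fun x a => ⟨(x : G) • a.1, hinv x.1 x.2 a.1 a.2⟩
      one_smul := fun a => Subtype.ext (one_smul G a.1)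
      mul_smul := fun x y a => Subtype.ext (mul_smul (x : G) (y : G) a.1) }
  have h := hP.card_modEq_card_fixedPoints S
  have hempty : IsEmpty (fixedPoints P S) := by
    constructor
    rintro ⟨a, ha⟩
    obtain ⟨x, hx, hxa⟩ := hfix a.1 a.2
    apply hxa
    have := ha ⟨x, hx⟩
    exact congrArg Subtype.val this
  have h0 : Nat.card (fixedPoints P S) = 0 := Nat.card_of_isEmpty
  rw [h0] at h
  exact (Nat.modEq_zero_iff_dvd).1 h

/-- double counting of the pairs (element, fixed point) -/
theorem sum_fixedBy_le [Fintype Ω] (Y : Subgroup G) [Fintype Y] (m : ℕ)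
    (hm : ∀ a : Ω, Nat.card (stabilizer Y a) ≤ m) :
    ∑ y : Y, Nat.card (fixedBy Ω (y : G)) ≤ m * Fintype.card Ω := by
  classical
  have h1 : ∀ y : Y, Nat.card (fixedBy Ω (y : G)) = ∑ a : Ω, if (y : G) • a = a then 1 else 0 := by
    intro y
    rw [Nat.card_eq_fintype_card,
      Fintype.card_of_subtype (Finset.univ.filter fun a => (y : G) • a = a) (by simp [mem_fixedBy]),
      Finset.card_filter]
  have h2 : ∀ a : Ω, Nat.card (stabilizer Y a) = ∑ y : Y, if (y : G) • a = a then 1 else 0 := by
    intro a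
    rw [Nat.card_eq_fintype_card,
      Fintype.card_of_subtype (Finset.univ.filter fun y : Y => (y : G) • a = a)
        (by intro y; simp [mem_stabilizer_iff, Subgroup.smul_def]),
      Finset.card_filter]
  simp_rw [h1]
  rw [Finset.sum_comm]
  simp_rw [← h2]
  calc ∑ a : Ω, Nat.card (stabilizer Y a) ≤ ∑ _a : Ω, m := Finset.sum_le_sum (fun a _ => hm a)
    _ = m * Fintype.card Ω := by rw [Finset.sum_const, Finset.card_univ, smul_eq_mul, mul_comm]

/-- a finite list of elements closed under right multiplication by generators is the generated subgroup -/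
theorem card_closure_of_closed {n : ℕ} (f : Fin n → G) (hinj : Function.Injective f)
    (i0 : Fin n) (h1 : f i0 = 1) (s : Set G) (hs : ∀ g ∈ s, ∀ i, ∃ j, f i * g = f j)
    (hmem : ∀ i, f i ∈ Subgroup.closure s) :
    Nat.card (Subgroup.closure s) = n ∧ ∀ x ∈ Subgroup.closure s, ∃ i, f i = x := by
  have hs' : ∀ g ∈ s, ∀ i, ∃ j, f i * g⁻¹ = f j := by
    intro g hg
    choose σ hσ using hs g hg
    have hσi : Function.Injective σ := by
      intro i i' h
      apply hinj
      have := hσ i
      rw [h, ← hσ i'] at this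
      exact mul_right_cancel this
    have hσs : Function.Surjective σ := Finite.injective_iff_surjective.1 hσi
    intro i
    obtain ⟨i', hi'⟩ := hσs i
    refine ⟨i', ?_⟩
    rw [← hi', ← hσ i', mul_inv_cancel_right]
  have hsub : ∀ x ∈ Subgroup.closure s, ∃ i, f i = x := by
    intro x hx
    induction hx using Subgroup.closure_induction_right with
    | one => exact ⟨i0, h1⟩
    | mul_right x hx y hy ih =>
      obtain ⟨i, rfl⟩ := ih
      obtain ⟨j, hj⟩ := hs y hy i
      exact ⟨j, hj.symm⟩
    | mul_inv_cancel x hx y hy ih =>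
      obtain ⟨i, rfl⟩ := ih
      obtain ⟨j, hj⟩ := hs' y hy i
      exact ⟨j, hj.symm⟩
  refine ⟨?_, hsub⟩
  have e : Fin n ≃ Subgroup.closure s :=
    Equiv.ofBijective (fun i => ⟨f i, hmem i⟩)
      ⟨fun i j h => hinj (congrArg Subtype.val h), fun x => by
        obtain ⟨i, hi⟩ := hsub x.1 x.2
        exact ⟨i, Subtype.ext hi⟩⟩
  rw [← Nat.card_congr e, Nat.card_fin]

end basic

section kill

variable {G : Type*} [Group G] {Ω : Type*} [MulAction G Ω]

/-- a subgroup of order 27 with one fused class has no faithful action on at most 26 points -/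
theorem no_action_le_26 [FaithfulSMul G Ω] [Finite Ω] (W : Subgroup G) (hW : Nat.card W = 27) (c : G)
    (hc : ∀ w ∈ W, w ≠ 1 → ∃ x : G, x * c * x⁻¹ = w) (hn : Nat.card Ω ≤ 26) : False := by
  have hfW : Finite W := Nat.finite_of_card_ne_zero (by rw [hW]; norm_num)
  obtain ⟨r, hr⟩ := burnside_fused (Ω := Ω) W c hc
  have hc1 : c ≠ 1 := by
    have hnt : Nontrivial W := Finite.one_lt_card_iff_nontrivial.1 (by rw [hW]; norm_num)
    obtain ⟨w, hw⟩ := exists_ne (1 : W)
    obtain ⟨x, hx⟩ := hc w.1 w.2 (fun h => hw (Subtype.ext h))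
    rintro rfl
    apply hw
    apply Subtype.ext
    rw [← hx]
    simp
  have hlt := card_fixedBy_lt (Ω := Ω) c hc1
  rw [hW] at hr
  omega

/-- the point stabilisers of a transitive action -/
theorem card_stabilizer_mul [Finite G] [Fintype Ω] [IsPretransitive G Ω] (a : Ω) :
    Fintype.card Ω * Nat.card (stabilizer G a) = Nat.card G := by
  have h := (stabilizer G a).index_mul_card
  rw [index_stabilizer_of_transitive G a, Nat.card_eq_fintype_card] at h
  exact h

/-- a subgroup of order 25 with one fused class, degrees 40 and 65 -/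
theorem no_action_5 [FaithfulSMul G Ω] [Fintype Ω] [IsPretransitive G Ω] [Finite G]
    (hG : Nat.card G = 17971200) (Y : Subgroup G) (hY : Nat.card Y = 25) (c : G) (hcY : c ∈ Y)
    (hc : ∀ y ∈ Y, y ≠ 1 → ∃ x : G, x * c * x⁻¹ = y)
    (hn : Fintype.card Ω = 40 ∨ Fintype.card Ω = 65) : False := by
  classical
  have hfY : Finite Y := Nat.finite_of_card_ne_zero (by rw [hY]; norm_num)
  have := Fintype.ofFinite Y
  have hp5 : Fact (Nat.Prime 5) := ⟨by norm_num⟩
  -- no point is fixed by the whole of `Y`
  have hnotle : ∀ a : Ω, ¬ Y ≤ stabilizer G a := by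
    intro a hle
    obtain ⟨k, hk⟩ := Subgroup.card_dvd_of_le hle
    have h := card_stabilizer_mul (G := G) a
    rw [hk, hY, hG] at h
    rcases hn with hn | hn <;> rw [hn] at h <;> omega
  -- `Y` is commutative
  have hcomm : ∀ y ∈ Y, y * c = c * y := by
    intro y hy
    have hY2 : Nat.card Y = 5 ^ 2 := by rw [hY]; norm_num
    have := (IsPGroup.isMulCommutative_of_card_eq_prime_sq hY2).is_comm.comm ⟨y, hy⟩ ⟨c, hcY⟩
    exact congrArg Subtype.val this
  -- the stabilisers in `Y` have order at most 5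
  have hst : ∀ a : Ω, Nat.card (stabilizer Y a) ≤ 5 := by
    intro a
    have hd : Nat.card (stabilizer Y a) ∣ 5 ^ 2 := by
      have := Subgroup.card_subgroup_dvd_card (stabilizer Y a)
      rwa [hY] at this
    obtain ⟨j, hj, hjeq⟩ := (Nat.dvd_prime_pow (by norm_num : Nat.Prime 5)).1 hd
    have hne : Nat.card (stabilizer Y a) ≠ 25 := by
      intro h25
      have htop : stabilizer Y a = ⊤ := (Subgroup.card_eq_iff_eq_top _).1 (by rw [h25, hY])
      apply hnotle a
      intro y hy
      have : (⟨y, hy⟩ : Y) ∈ stabilizer Y a := by rw [htop]; exact Subgroup.mem_top _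
      rw [mem_stabilizer_iff] at this ⊢
      exact this
    interval_cases j
    · rw [hjeq]; norm_num
    · rw [hjeq]; norm_num
    · exfalso; apply hne; rw [hjeq]; norm_num
  -- 5 divides the number of fixed points
  have h5 : 5 ∣ Nat.card (fixedBy Ω c) := by
    apply dvd_card_of_invariant 5 Y (IsPGroup.of_card (n := 2) (by rw [hY]; norm_num))
    · intro y hy a ha
      rw [mem_fixedBy] at ha ⊢
      rw [← mul_smul, ← hcomm y hy, mul_smul, ha]
    · intro a _
      by_contra hcon
      push Not at hcon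
      exact hnotle a (fun y hy => by rw [mem_stabilizer_iff]; exact hcon y hy)
  obtain ⟨r, hr⟩ := burnside_fused (Ω := Ω) Y c hc
  have hsum := sum_fixedBy_fused (Ω := Ω) Y c hc
  have hle := sum_fixedBy_le (Ω := Ω) Y 5 hst
  rw [hsum] at hle
  rw [hY] at hr hle
  rw [Nat.card_eq_fintype_card] at hr hle
  obtain ⟨k, hk⟩ := h5
  rcases hn with hn | hn <;> rw [hn] at hr hle <;> omega

/-- a Frobenius group `13:3`, degree 27 -/
theorem no_action_27 [FaithfulSMul G Ω] [Fintype Ω] [IsPretransitive G Ω] [Finite G]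
    (hG : Nat.card G = 17971200) (g t : G) (hg : g ^ 13 = 1) (hg1 : g ≠ 1) (ht : t ^ 3 = 1) (ht1 : t ≠ 1)
    (k : ℕ) (htg : g * t = t * g ^ k) (hn : Fintype.card Ω = 27) : False := by
  have hp3 : Fact (Nat.Prime 3) := ⟨by norm_num⟩
  have hp13 : Fact (Nat.Prime 13) := ⟨by norm_num⟩
  have hot : orderOf t = 3 := orderOf_eq_prime ht ht1
  have hog : orderOf g = 13 := orderOf_eq_prime hg hg1
  -- `t` fixes no point
  have htfix : ∀ a : Ω, t • a ≠ a := by
    intro a hta
    have hmem : t ∈ stabilizer G a := hta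
    have hd := Subgroup.orderOf_dvd_natCard _ hmem
    rw [hot] at hd
    obtain ⟨j, hj⟩ := hd
    have h := card_stabilizer_mul (G := G) a
    rw [hj, hn, hG] at h
    omega
  -- powers of `g` fix the fixed points of `g`
  have hpow : ∀ a : Ω, g • a = a → ∀ j : ℕ, g ^ j • a = a := by
    intro a ha j
    have hmem : g ∈ stabilizer G a := ha
    exact (stabilizer G a).pow_mem hmem j
  have h3 : 3 ∣ Nat.card (fixedBy Ω g) := by
    apply dvd_card_of_invariant 3 (Subgroup.zpowers t)
      (IsPGroup.of_card (n := 1) (by rw [Nat.card_zpowers, hot]; norm_num))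
    · -- invariance
      let M : Submonoid G :=
        { carrier := {x | ∀ a ∈ fixedBy Ω g, x • a ∈ fixedBy Ω g}
          mul_mem' := fun {x y} hx hy a ha => by
            rw [mul_smul]; exact hx _ (hy a ha)
          one_mem' := fun a ha => by rw [one_smul]; exact ha }
      have htM : t ∈ M := by
        intro a ha
        rw [mem_fixedBy] at ha ⊢
        rw [← mul_smul, htg, mul_smul, hpow a ha k]
      intro x hx a ha
      have hfin : IsOfFinOrder t := isOfFinOrder_iff_pow_eq_one.2 ⟨3, by norm_num, ht⟩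
      rw [← hfin.mem_powers_iff_mem_zpowers] at hx
      obtain ⟨j, rfl⟩ := hx
      exact M.pow_mem htM j a ha
    · intro a _
      exact ⟨t, Subgroup.mem_zpowers t, htfix a⟩
  have h13 := (IsPGroup.of_card (p := 13) (n := 1) (G := Subgroup.zpowers g)
    (by rw [Nat.card_zpowers, hog]; norm_num)).card_modEq_card_fixedPoints Ω
  have hset : fixedPoints (Subgroup.zpowers g) Ω = fixedBy Ω g := by
    ext a
    rw [mem_fixedPoints, mem_fixedBy]
    constructor
    · intro h
      exact h ⟨g, Subgroup.mem_zpowers g⟩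
    · intro h x
      have hmem : g ∈ stabilizer G a := h
      have hle : Subgroup.zpowers g ≤ stabilizer G a := (Subgroup.zpowers_le).2 hmem
      exact hle x.2
  rw [hset, Nat.card_eq_fintype_card (α := Ω), hn] at h13
  have hlt := card_fixedBy_lt (Ω := Ω) g hg1
  rw [Nat.card_eq_fintype_card (α := Ω), hn] at hlt
  obtain ⟨j, hj⟩ := h3
  unfold Nat.ModEq at h13
  omega

set_option maxRecDepth 1000000 in
/-- the possible degrees -/
theorem degree_list : ∀ n < 4241, 3 ≤ n → n * (n - 1) ∣ 17971200 → n ≤ 26 ∨ n = 27 ∨ n = 40 ∨ n = 65 := by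
  decide +kernel

end kill

/-- A group of order `17971200` with a subgroup of order 27 and a subgroup of order 25 whose nonidentity
elements are fused into one class each, and a Frobenius subgroup `13:3`, has no faithful 2-transitive action
on a finite set with at least three points. -/
theorem no_two_transitive {G : Type*} [Group G] [Finite G] (hG : Nat.card G = 17971200)
    (W : Subgroup G) (hW : Nat.card W = 27) (cW : G) (hcW : ∀ w ∈ W, w ≠ 1 → ∃ x : G, x * cW * x⁻¹ = w)
    (Y : Subgroup G) (hY : Nat.card Y = 25) (cY : G) (hcYm : cY ∈ Y)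
    (hcY : ∀ y ∈ Y, y ≠ 1 → ∃ x : G, x * cY * x⁻¹ = y)
    (g t : G) (hg : g ^ 13 = 1) (hg1 : g ≠ 1) (ht : t ^ 3 = 1) (ht1 : t ≠ 1) (k : ℕ) (htg : g * t = t * g ^ k)
    {Ω : Type*} [Fintype Ω] [MulAction G Ω] [FaithfulSMul G Ω] (hΩ : 3 ≤ Fintype.card Ω) :
    ¬ IsMultiplyPretransitive G Ω 2 := by
  intro h2
  have hpt : IsPretransitive G Ω := isPretransitive_of_is_two_pretransitive
  have hdvd : Fintype.card Ω * (Fintype.card Ω - 1) ∣ 17971200 := by
    obtain ⟨s, hs⟩ : ∃ s : Set Ω, s.ncard = 2 := by
      have h2le : 2 ≤ (Set.univ : Set Ω).ncard := by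
        rw [Set.ncard_univ, Nat.card_eq_fintype_card]; omega
      obtain ⟨s, _, hs⟩ := Set.exists_subset_card_eq h2le
      exact ⟨s, hs⟩
    have h := IsMultiplyPretransitive.index_of_fixingSubgroup_eq (G := G) s (by rw [hs]; exact h2)
    have hd := (fixingSubgroup G s).index_dvd_card
    rw [h, hs, hG, Nat.card_eq_fintype_card] at hd
    have e : (Fintype.card Ω).choose 2 * Nat.factorial 2 = Fintype.card Ω * (Fintype.card Ω - 1) := by
      rw [Nat.choose_two_right, Nat.factorial_two,
        Nat.div_mul_cancel (Nat.even_mul_pred_self _).two_dvd]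
    rwa [e] at hd
  have hlt : Fintype.card Ω < 4241 := by
    by_contra hcon
    push Not at hcon
    have h1 : 4241 * 4240 ≤ Fintype.card Ω * (Fintype.card Ω - 1) :=
      Nat.mul_le_mul hcon (by omega)
    have h2' := Nat.le_of_dvd (by norm_num) hdvd
    omega
  rcases degree_list _ hlt hΩ hdvd with h | h | h | h
  · exact no_action_le_26 (Ω := Ω) W hW cW hcW (by rw [Nat.card_eq_fintype_card]; exact h)
  · exact no_action_27 (Ω := Ω) hG g t hg hg1 ht ht1 k htg h
  · exact no_action_5 (Ω := Ω) hG Y hY cY hcYm hcY (Or.inl h)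
  · exact no_action_5 (Ω := Ω) hG Y hY cY hcYm hcY (Or.inr h)

/-- transport along an isomorphism -/
theorem transport {G H : Type*} [Group G] [Group H] (e : G ≃* H) {Ω : Type*} [Fintype Ω] [MulAction G Ω]
    [FaithfulSMul G Ω]
    (hH : ∀ (_ : MulAction H Ω) (_ : FaithfulSMul H Ω), ¬ IsMultiplyPretransitive H Ω 2) :
    ¬ IsMultiplyPretransitive G Ω 2 := by
  intro h2
  let inst : MulAction H Ω := MulAction.compHom Ω e.symm.toMonoidHom
  have hsm : ∀ (h : H) (a : Ω), h • a = e.symm h • a := fun _ _ => rfl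
  have hf : FaithfulSMul H Ω := by
    constructor
    intro h h' hh
    apply e.symm.injective
    apply FaithfulSMul.eq_of_smul_eq_smul (α := Ω)
    intro a
    have := hh a
    rwa [hsm, hsm] at this
  apply hH inst hf
  rw [is_two_pretransitive_iff] at h2 ⊢
  intro a b c d hab hcd
  obtain ⟨γ, h1, h2'⟩ := h2 hab hcd
  refine ⟨e γ, ?_, ?_⟩
  · rw [hsm, MulEquiv.symm_apply_apply, h1]
  · rw [hsm, MulEquiv.symm_apply_apply, h2']

end Cfsg.Agent.Lib.Helper4.TwoTransCount
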