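import Mathlib
import Cfsg.Agent.Lib.Helper4.O73C3Sound
import Cfsg.Agent.Lib.Helper4.O73C3SVChk
import Cfsg.Agent.Lib.Helper4.TwoTransCount

/-!
Subgroups of order 3 of `Ω₇(3)`, part 5: two class functions on the presented group `O73p` — the number
of fixed points on the 1080 cosets of `G₂(3)` and the number of fixed singular vectors — and their values
at the seven representatives.
-/

namespace Cfsg.Agent.Lib.Helper4.O73C3

open Cfsg Cfsg.Agent.Lib.Helper4.LaneMat Cfsg.Agent.Lib.Helper4.TC Cfsg.Agent.Lib.Helper4.TC.Log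
  Cfsg.Agent.Lib.Helper4.O73Iso Cfsg.Agent.Lib.Helper4.TCD Matrix

local notation "tm" => C7.toMat e7
local notation "mu" => C7.mul
local notation "i7" => C7.one

/-! ### counting -/

theorem countBelow_succ (f : ℕ → Bool) (n : ℕ) :
    countBelow f (n + 1) = bsel (f n) (countBelow f n) (countBelow f n + 1) := rfl

theorem card_filter_range (f : ℕ → Bool) (n : ℕ) :
    ((Finset.range n).filter fun k => f k = true).card = countBelow f n := by
  induction n with
  | zero => rfl
  | succ n ih =>
    rw [Finset.range_add_one, Finset.filter_insert, countBelow_succ]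
    cases h : f n with
    | true =>
      rw [if_pos rfl, bsel_true, Finset.card_insert_of_notMem, ih]
      intro hm
      exact absurd (Finset.mem_range.1 (Finset.mem_filter.1 hm).1) (lt_irrefl n)
    | false =>
      rw [if_neg (by simp), bsel_false, ih]

theorem card_filter_fin (n : ℕ) (q : ℕ → Prop) [DecidablePred q] :
    ((Finset.univ : Finset (Fin n)).filter fun p => q p.1).card = ((Finset.range n).filter q).card := by
  rw [Finset.card_filter, Finset.card_filter]
  exact Fin.sum_univ_eq_sum_range (fun i => if q i then 1 else 0) n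

/-! ### fixed points on the 1080 cosets -/

/-- the number of fixed points on the 1080 cosets -/
noncomputable def F1 (g : Γ) : ℕ := Nat.card (MulAction.fixedBy (Fin O73pA.T.N) (O73pA.inst.phi g))

theorem F1_conj (h g : Γ) : F1 (h * g * h⁻¹) = F1 g := by
  unfold F1
  rw [map_mul, map_mul, map_inv]
  exact TwoTransCount.card_fixedBy_conj _ _

theorem F1_inv (g : Γ) : F1 g⁻¹ = F1 g := by
  unfold F1
  rw [map_inv, MulAction.fixedBy_inv]

theorem F1_word {w : List ℕ} (hw : Good w) : F1 (wordP gR w) = cntFix w := by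
  classical
  unfold F1 cntFix
  rw [← card_filter_range, Nat.card_eq_fintype_card, ← card_filter_fin]
  rw [Fintype.card_subtype]
  apply congrArg
  apply Finset.filter_congr
  intro p _
  rw [MulAction.mem_fixedBy]
  have h := O73pA.inst.phi_word' w hw p
  constructor
  · intro e
    have e' : (O73pA.inst.phi (wordP PO73p.P.gR w)) p = p := e
    rw [e'] at h
    show Nat.beq (Tab.act O73pA.T O73pA.D w p.1) p.1 = true
    rw [← h]
    exact Nat.beq_refl _
  · intro e
    have e1 : Tab.act O73pA.T O73pA.D w p.1 = p.1 := beq_eq e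
    apply Fin.ext
    show ((O73pA.inst.phi (wordP PO73p.P.gR w)) p).1 = p.1
    rw [h, e1]

/-! ### the singular vectors -/

theorem sv_valid' {k : ℕ} (hk : k < NS) : C7.Valid (sv k) ∧ sv k < BD := by
  have h := allRange_eq_true.1 sv_valid k (Nat.zero_le _) (by rw [zero_add]; exact hk)
  exact of_decide_eq_true h

theorem sv_lt_succ {k : ℕ} (hk : k < 727) : sv k < sv (k + 1) :=
  ble_succ (allRange_eq_true.1 sv_inc k (Nat.zero_le _) (by rw [zero_add]; exact hk))

theorem sv_strict {a b : ℕ} (hab : a < b) (hb : b < NS) : sv a < sv b := by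
  induction b with
  | zero => omega
  | succ b ih =>
    have hb' : b < 727 := by unfold NS at hb; omega
    rcases Nat.lt_succ_iff_lt_or_eq.1 hab with h | h
    · exact lt_trans (ih h (by unfold NS; omega)) (sv_lt_succ hb')
    · rw [h]; exact sv_lt_succ hb'

theorem sv_inj {a b : ℕ} (ha : a < NS) (hb : b < NS) (h : sv a = sv b) : a = b := by
  rcases Nat.lt_trichotomy a b with hlt | heq | hgt
  · exact absurd h (ne_of_lt (sv_strict hlt hb))
  · exact heq
  · exact absurd h.symm (ne_of_lt (sv_strict hgt ha))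

theorem tm_sv_inj {a b : ℕ} (ha : a < NS) (hb : b < NS) (h : tm (sv a) = tm (sv b)) : a = b :=
  sv_inj ha hb (eq_of_tm (sv_valid' ha).1 (sv_valid' hb).1 (sv_valid' ha).2 (sv_valid' hb).2 h)

theorem sv_closed_all : ∀ l, l < 8 → svClosed l = true := by
  intro l hl
  interval_cases l
  · exact sv_closed_0
  · exact sv_closed_1
  · exact sv_closed_2
  · exact sv_closed_3
  · exact sv_closed_4
  · exact sv_closed_5
  · exact sv_closed_6
  · exact sv_closed_7

theorem sv_closed {l : ℕ} (hl : l < 8) {k : ℕ} (hk : k < NS) : ∃ j, j < NS ∧ mu (gT l) (sv k) = sv j := by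
  have h := allRange_eq_true.1 (sv_closed_all l hl) k (Nat.zero_le _) (by rw [zero_add]; exact hk)
  rw [band_eq_true] at h
  exact ⟨_, ble_succ h.1, beq_eq h.2⟩

/-- the set of the singular vectors as matrices -/
noncomputable def SS : Finset (Matrix I7 I7 (ZMod 3)) := (Finset.range NS).image fun k => tm (sv k)

theorem mem_SS {M : Matrix I7 I7 (ZMod 3)} : M ∈ SS ↔ ∃ k, k < NS ∧ tm (sv k) = M := by
  unfold SS
  rw [Finset.mem_image]
  constructor
  · rintro ⟨k, hk, h⟩; exact ⟨k, Finset.mem_range.1 hk, h⟩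
  · rintro ⟨k, hk, h⟩; exact ⟨k, Finset.mem_range.2 hk, h⟩

theorem rho_gR {l : ℕ} (hl : l < 8) : rho (gR l) = tm (gT l) := by
  unfold rho
  rw [phi_gR l hl, val_gU]

theorem rho_inv_mul (x : Γ) (M : Matrix I7 I7 (ZMod 3)) : rho x⁻¹ * (rho x * M) = M := by
  rw [← mul_assoc, ← rho_mul, inv_mul_cancel, rho_one, one_mul]

theorem rho_mul_inv (x : Γ) (M : Matrix I7 I7 (ZMod 3)) : rho x * (rho x⁻¹ * M) = M := by
  rw [← mul_assoc, ← rho_mul, mul_inv_cancel, rho_one, one_mul]

theorem SS_inv (g : Γ) : ∀ M ∈ SS, rho g * M ∈ SS := by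
  have hg : g ∈ Subgroup.closure (PO73p.P.gR '' Set.Iio PO73p.P.k) := by
    rw [PO73p.valid.gen_top]; trivial
  induction hg using Subgroup.closure_induction with
  | mem x hx =>
    obtain ⟨l, hl, rfl⟩ := hx
    have hl : l < 8 := hl
    intro M hM
    obtain ⟨k, hk, rfl⟩ := mem_SS.1 hM
    obtain ⟨j, hj, h⟩ := sv_closed hl hk
    refine mem_SS.2 ⟨j, hj, ?_⟩
    have e : rho (PO73p.P.gR l) = tm (gT l) := rho_gR hl
    rw [e, ← C7.toMat_mul e7 (gT_valid _) (sv_valid' hk).1, h]
  | one =>
    intro M hM
    rwa [rho_one, one_mul]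
  | mul x y _ _ ihx ihy =>
    intro M hM
    rw [rho_mul, mul_assoc]
    exact ihx _ (ihy _ hM)
  | inv x _ ih =>
    classical
    have himg : SS.image (fun M => rho x * M) = SS := by
      apply Finset.eq_of_subset_of_card_le
      · intro M hM
        obtain ⟨M', hM', rfl⟩ := Finset.mem_image.1 hM
        exact ih M' hM'
      · rw [Finset.card_image_of_injective]
        intro A B hAB
        have := congrArg (fun M => rho x⁻¹ * M) hAB
        simpa only [rho_inv_mul] using this
    intro M hM
    rw [← himg] at hM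
    obtain ⟨M', hM', rfl⟩ := Finset.mem_image.1 hM
    rw [rho_inv_mul]
    exact hM'

open scoped Classical in
/-- the number of fixed singular vectors -/
noncomputable def F2 (g : Γ) : ℕ := (SS.filter fun M => rho g * M = M).card

theorem F2_le (h g : Γ) : F2 g ≤ F2 (h * g * h⁻¹) := by
  classical
  unfold F2
  apply Finset.card_le_card_of_injOn (fun M => rho h * M)
  · intro M hM
    have hM' := Finset.mem_filter.1 (Finset.mem_coe.1 hM)
    refine Finset.mem_coe.2 (Finset.mem_filter.2 ⟨SS_inv h M hM'.1, ?_⟩)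
    rw [rho_mul, rho_mul, mul_assoc, rho_inv_mul, mul_assoc, hM'.2]
  · intro A _ B _ hAB
    have := congrArg (fun M => rho h⁻¹ * M) hAB
    simpa only [rho_inv_mul] using this

theorem F2_conj (h g : Γ) : F2 (h * g * h⁻¹) = F2 g := by
  apply le_antisymm
  · have := F2_le h⁻¹ (h * g * h⁻¹)
    have e : h⁻¹ * (h * g * h⁻¹) * h⁻¹⁻¹ = g := by group
    rwa [e] at this
  · exact F2_le h g

theorem F2_inv (g : Γ) : F2 g⁻¹ = F2 g := by
  classical
  unfold F2
  refine congrArg Finset.card ?_
  apply Finset.filter_congr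
  intro M _
  constructor
  · intro h
    have := congrArg (fun M => rho g * M) h
    simp only [rho_mul_inv] at this
    exact this.symm
  · intro h
    have := congrArg (fun M => rho g⁻¹ * M) h
    simp only [rho_inv_mul] at this
    exact this.symm

theorem F2_yel {i : ℕ} (hi : i < 7) : F2 (yel i) = cntSV (YtL (2 * i)) := by
  classical
  have hY := YtL_valid (t := 2 * i) (by omega)
  unfold F2 cntSV SS
  rw [← card_filter_range, Finset.filter_image, Finset.card_image_of_injOn]
  · refine congrArg Finset.card ?_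
    apply Finset.filter_congr
    intro k hk
    have hk := Finset.mem_range.1 hk
    have hv := sv_valid' hk
    rw [rho_yel hi, ← C7.toMat_mul e7 hY hv.1]
    constructor
    · intro h
      rw [eq_of_tm (C7.valid_mul _ _) hv.1 (mul_lt _ _) hv.2 h]
      exact Nat.beq_refl _
    · intro h
      rw [beq_eq h]
  · intro a ha b hb hab
    exact tm_sv_inj (Finset.mem_range.1 (Finset.mem_filter.1 (Finset.mem_coe.1 ha)).1)
      (Finset.mem_range.1 (Finset.mem_filter.1 (Finset.mem_coe.1 hb)).1) hab

/-! ### the values at the representatives -/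

/-- the pair of class functions -/
noncomputable def FF (g : Γ) : ℕ × ℕ := (F1 g, F2 g)

theorem FF_conj (h g : Γ) : FF (h * g * h⁻¹) = FF g := by
  unfold FF
  rw [F1_conj, F2_conj]

theorem FF_inv (g : Γ) : FF g⁻¹ = FF g := by
  unfold FF
  rw [F1_inv, F2_inv]

theorem sv_cnt_all : ∀ i, i < 7 → cntSV (YtL (2 * i)) = (Fval i).2 := by
  intro i hi
  interval_cases i
  · exact sv_cnt_0
  · exact sv_cnt_1
  · exact sv_cnt_2
  · exact sv_cnt_3
  · exact sv_cnt_4
  · exact sv_cnt_5
  · exact sv_cnt_6

theorem FF_yel {i : ℕ} (hi : i < 7) : FF (yel i) = Fval i := by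
  unfold FF
  rw [F2_yel hi, sv_cnt_all i hi]
  unfold yel
  rw [F1_word (good_of (Yw_good7 i hi)), fix_cnt i hi]

theorem Fval_inj : ∀ i, i < 7 → ∀ j, j < 7 → Fval i = Fval j → i = j := by decide

end Cfsg.Agent.Lib.Helper4.O73C3
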