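import Mathlib
import Cfsg.Agent.Lib.Helper4.O73C3Chk
import Cfsg.Agent.Lib.Helper4.O73C3Data

/-! The table of the certified enumeration of a Sylow 3-subgroup of `O73p`. -/

namespace Cfsg.Agent.Lib.Helper4.O73C3

/-- the table -/
def TT : Tbl := ofBlocks TB

end Cfsg.Agent.Lib.Helper4.O73C3
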