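import Mathlib
import Cfsg.Agent.Lib.Helper4.O73C3Tab

/-! Kernel checks of the certified enumeration of a Sylow 3-subgroup of `O73p` (generated). -/

namespace Cfsg.Agent.Lib.Helper4.O73C3

open Cfsg.Agent.Lib.Helper4.TC

set_option maxRecDepth 1000000
set_option Elab.async false

theorem tchk_0 : allRange TT.chkAll 0 256 = true := by decide +kernel

theorem tchk_1 : allRange TT.chkAll 256 256 = true := by decide +kernel

theorem tchk_2 : allRange TT.chkAll 512 256 = true := by decide +kernel

theorem tchk_3 : allRange TT.chkAll 768 256 = true := by decide +kernel

theorem tchk_4 : allRange TT.chkAll 1024 256 = true := by decide +kernel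

theorem tchk_5 : allRange TT.chkAll 1280 256 = true := by decide +kernel

theorem tchk_6 : allRange TT.chkAll 1536 256 = true := by decide +kernel

theorem tchk_7 : allRange TT.chkAll 1792 256 = true := by decide +kernel

theorem tchk_8 : allRange TT.chkAll 2048 256 = true := by decide +kernel

theorem tchk_9 : allRange TT.chkAll 2304 256 = true := by decide +kernel

theorem tchk_10 : allRange TT.chkAll 2560 256 = true := by decide +kernel

end Cfsg.Agent.Lib.Helper4.O73C3
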