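import Mathlib
import Cfsg.Agent.Lib.Helper4.O73C3Tab

/-! Kernel checks of the certified enumeration of a Sylow 3-subgroup of `O73p` (generated). -/

namespace Cfsg.Agent.Lib.Helper4.O73C3

open Cfsg.Agent.Lib.Helper4.TC

set_option maxRecDepth 1000000
set_option Elab.async false

theorem tchk_11 : allRange TT.chkAll 2816 256 = true := by decide +kernel

theorem tchk_12 : allRange TT.chkAll 3072 256 = true := by decide +kernel

theorem tchk_13 : allRange TT.chkAll 3328 256 = true := by decide +kernel

theorem tchk_14 : allRange TT.chkAll 3584 256 = true := by decide +kernel

theorem tchk_15 : allRange TT.chkAll 3840 256 = true := by decide +kernel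

theorem tchk_16 : allRange TT.chkAll 4096 256 = true := by decide +kernel

theorem tchk_17 : allRange TT.chkAll 4352 256 = true := by decide +kernel

theorem tchk_18 : allRange TT.chkAll 4608 256 = true := by decide +kernel

theorem tchk_19 : allRange TT.chkAll 4864 256 = true := by decide +kernel

theorem tchk_20 : allRange TT.chkAll 5120 256 = true := by decide +kernel

theorem tchk_21 : allRange TT.chkAll 5376 256 = true := by decide +kernel

end Cfsg.Agent.Lib.Helper4.O73C3
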