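import Mathlib
import Cfsg.Agent.Lib.Helper4.O73C3Tab

/-! Kernel checks of the certified enumeration of a Sylow 3-subgroup of `O73p` (generated). -/

namespace Cfsg.Agent.Lib.Helper4.O73C3

open Cfsg.Agent.Lib.Helper4.TC

set_option maxRecDepth 1000000
set_option Elab.async false

theorem tchk_22 : allRange TT.chkAll 5632 256 = true := by decide +kernel

theorem tchk_23 : allRange TT.chkAll 5888 256 = true := by decide +kernel

theorem tchk_24 : allRange TT.chkAll 6144 256 = true := by decide +kernel

theorem tchk_25 : allRange TT.chkAll 6400 256 = true := by decide +kernel

theorem tchk_26 : allRange TT.chkAll 6656 256 = true := by decide +kernel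

theorem tchk_27 : allRange TT.chkAll 6912 256 = true := by decide +kernel

theorem tchk_28 : allRange TT.chkAll 7168 256 = true := by decide +kernel

theorem tchk_29 : allRange TT.chkAll 7424 256 = true := by decide +kernel

theorem tchk_30 : allRange TT.chkAll 7680 256 = true := by decide +kernel

theorem tchk_31 : allRange TT.chkAll 7936 256 = true := by decide +kernel

theorem tchk_32 : allRange TT.chkAll 8192 256 = true := by decide +kernel

end Cfsg.Agent.Lib.Helper4.O73C3
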