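import Mathlib
import Cfsg.Agent.Lib.Helper4.O73C3Tab

/-! Kernel checks of the certified enumeration of a Sylow 3-subgroup of `O73p` (generated). -/

namespace Cfsg.Agent.Lib.Helper4.O73C3

open Cfsg.Agent.Lib.Helper4.TC

set_option maxRecDepth 1000000
set_option Elab.async false

theorem tchk_33 : allRange TT.chkAll 8448 256 = true := by decide +kernel

theorem tchk_34 : allRange TT.chkAll 8704 256 = true := by decide +kernel

theorem tchk_35 : allRange TT.chkAll 8960 256 = true := by decide +kernel

theorem tchk_36 : allRange TT.chkAll 9216 256 = true := by decide +kernel

theorem tchk_37 : allRange TT.chkAll 9472 256 = true := by decide +kernel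

theorem tchk_38 : allRange TT.chkAll 9728 256 = true := by decide +kernel

theorem tchk_39 : allRange TT.chkAll 9984 256 = true := by decide +kernel

theorem tchk_40 : allRange TT.chkAll 10240 256 = true := by decide +kernel

theorem tchk_41 : allRange TT.chkAll 10496 256 = true := by decide +kernel

theorem tchk_42 : allRange TT.chkAll 10752 256 = true := by decide +kernel

theorem tchk_43 : allRange TT.chkAll 11008 256 = true := by decide +kernel

end Cfsg.Agent.Lib.Helper4.O73C3
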