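import Mathlib
import Cfsg.Agent.Lib.Helper4.O73C3Tab

/-! Kernel checks of the certified enumeration of a Sylow 3-subgroup of `O73p` (generated). -/

namespace Cfsg.Agent.Lib.Helper4.O73C3

open Cfsg.Agent.Lib.Helper4.TC

set_option maxRecDepth 1000000
set_option Elab.async false

theorem tchk_44 : allRange TT.chkAll 11264 256 = true := by decide +kernel

theorem tchk_45 : allRange TT.chkAll 11520 256 = true := by decide +kernel

theorem tchk_46 : allRange TT.chkAll 11776 256 = true := by decide +kernel

theorem tchk_47 : allRange TT.chkAll 12032 256 = true := by decide +kernel

theorem tchk_48 : allRange TT.chkAll 12288 256 = true := by decide +kernel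

theorem tchk_49 : allRange TT.chkAll 12544 256 = true := by decide +kernel

theorem tchk_50 : allRange TT.chkAll 12800 256 = true := by decide +kernel

theorem tchk_51 : allRange TT.chkAll 13056 256 = true := by decide +kernel

theorem tchk_52 : allRange TT.chkAll 13312 256 = true := by decide +kernel

theorem tchk_53 : allRange TT.chkAll 13568 256 = true := by decide +kernel

theorem tchk_54 : allRange TT.chkAll 13824 256 = true := by decide +kernel

end Cfsg.Agent.Lib.Helper4.O73C3
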