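import Mathlib
import Cfsg.Agent.Lib.Helper4.O73C3Tab

/-! Kernel checks of the certified enumeration of a Sylow 3-subgroup of `O73p` (generated). -/

namespace Cfsg.Agent.Lib.Helper4.O73C3

open Cfsg.Agent.Lib.Helper4.TC

set_option maxRecDepth 1000000
set_option Elab.async false

theorem tchk_55 : allRange TT.chkAll 14080 256 = true := by decide +kernel

theorem tchk_56 : allRange TT.chkAll 14336 256 = true := by decide +kernel

theorem tchk_57 : allRange TT.chkAll 14592 256 = true := by decide +kernel

theorem tchk_58 : allRange TT.chkAll 14848 256 = true := by decide +kernel

theorem tchk_59 : allRange TT.chkAll 15104 256 = true := by decide +kernel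

theorem tchk_60 : allRange TT.chkAll 15360 256 = true := by decide +kernel

theorem tchk_61 : allRange TT.chkAll 15616 256 = true := by decide +kernel

theorem tchk_62 : allRange TT.chkAll 15872 256 = true := by decide +kernel

theorem tchk_63 : allRange TT.chkAll 16128 256 = true := by decide +kernel

theorem tchk_64 : allRange TT.chkAll 16384 256 = true := by decide +kernel

theorem tchk_65 : allRange TT.chkAll 16640 256 = true := by decide +kernel

end Cfsg.Agent.Lib.Helper4.O73C3
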