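import Mathlib
import Cfsg.Agent.Lib.Helper4.O73C3Tab

/-! Kernel checks of the certified enumeration of a Sylow 3-subgroup of `O73p` (generated). -/

namespace Cfsg.Agent.Lib.Helper4.O73C3

open Cfsg.Agent.Lib.Helper4.TC

set_option maxRecDepth 1000000
set_option Elab.async false

theorem tchk_66 : allRange TT.chkAll 16896 256 = true := by decide +kernel

theorem tchk_67 : allRange TT.chkAll 17152 256 = true := by decide +kernel

theorem tchk_68 : allRange TT.chkAll 17408 256 = true := by decide +kernel

theorem tchk_69 : allRange TT.chkAll 17664 256 = true := by decide +kernel

theorem tchk_70 : allRange TT.chkAll 17920 256 = true := by decide +kernel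

theorem tchk_71 : allRange TT.chkAll 18176 256 = true := by decide +kernel

theorem tchk_72 : allRange TT.chkAll 18432 256 = true := by decide +kernel

theorem tchk_73 : allRange TT.chkAll 18688 256 = true := by decide +kernel

theorem tchk_74 : allRange TT.chkAll 18944 256 = true := by decide +kernel

theorem tchk_75 : allRange TT.chkAll 19200 256 = true := by decide +kernel

theorem tchk_76 : allRange TT.chkAll 19456 227 = true := by decide +kernel

end Cfsg.Agent.Lib.Helper4.O73C3
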