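import Mathlib
import Cfsg.Agent.Lib.Helper4.O73C3T0
import Cfsg.Agent.Lib.Helper4.O73C3T1
import Cfsg.Agent.Lib.Helper4.O73C3T2
import Cfsg.Agent.Lib.Helper4.O73C3T3
import Cfsg.Agent.Lib.Helper4.O73C3T4
import Cfsg.Agent.Lib.Helper4.O73C3T5
import Cfsg.Agent.Lib.Helper4.O73C3T6

/-! All kernel checks of the table of the Sylow 3-subgroup of `O73p` together (generated). -/

namespace Cfsg.Agent.Lib.Helper4.O73C3

open Cfsg.Agent.Lib.Helper4.TC

theorem tchk_all : ∀ k, k < NP → TT.chkAll k = true := by
  intro k hk
  have hk' : k < 19683 := hk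
  by_cases h0 : k < 256
  · exact allRange_eq_true.1 tchk_0 k (by omega) (by omega)
  by_cases h1 : k < 512
  · exact allRange_eq_true.1 tchk_1 k (by omega) (by omega)
  by_cases h2 : k < 768
  · exact allRange_eq_true.1 tchk_2 k (by omega) (by omega)
  by_cases h3 : k < 1024
  · exact allRange_eq_true.1 tchk_3 k (by omega) (by omega)
  by_cases h4 : k < 1280
  · exact allRange_eq_true.1 tchk_4 k (by omega) (by omega)
  by_cases h5 : k < 1536
  · exact allRange_eq_true.1 tchk_5 k (by omega) (by omega)
  by_cases h6 : k < 1792
  · exact allRange_eq_true.1 tchk_6 k (by omega) (by omega)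
  by_cases h7 : k < 2048
  · exact allRange_eq_true.1 tchk_7 k (by omega) (by omega)
  by_cases h8 : k < 2304
  · exact allRange_eq_true.1 tchk_8 k (by omega) (by omega)
  by_cases h9 : k < 2560
  · exact allRange_eq_true.1 tchk_9 k (by omega) (by omega)
  by_cases h10 : k < 2816
  · exact allRange_eq_true.1 tchk_10 k (by omega) (by omega)
  by_cases h11 : k < 3072
  · exact allRange_eq_true.1 tchk_11 k (by omega) (by omega)
  by_cases h12 : k < 3328
  · exact allRange_eq_true.1 tchk_12 k (by omega) (by omega)
  by_cases h13 : k < 3584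
  · exact allRange_eq_true.1 tchk_13 k (by omega) (by omega)
  by_cases h14 : k < 3840
  · exact allRange_eq_true.1 tchk_14 k (by omega) (by omega)
  by_cases h15 : k < 4096
  · exact allRange_eq_true.1 tchk_15 k (by omega) (by omega)
  by_cases h16 : k < 4352
  · exact allRange_eq_true.1 tchk_16 k (by omega) (by omega)
  by_cases h17 : k < 4608
  · exact allRange_eq_true.1 tchk_17 k (by omega) (by omega)
  by_cases h18 : k < 4864
  · exact allRange_eq_true.1 tchk_18 k (by omega) (by omega)
  by_cases h19 : k < 5120
  · exact allRange_eq_true.1 tchk_19 k (by omega) (by omega)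
  by_cases h20 : k < 5376
  · exact allRange_eq_true.1 tchk_20 k (by omega) (by omega)
  by_cases h21 : k < 5632
  · exact allRange_eq_true.1 tchk_21 k (by omega) (by omega)
  by_cases h22 : k < 5888
  · exact allRange_eq_true.1 tchk_22 k (by omega) (by omega)
  by_cases h23 : k < 6144
  · exact allRange_eq_true.1 tchk_23 k (by omega) (by omega)
  by_cases h24 : k < 6400
  · exact allRange_eq_true.1 tchk_24 k (by omega) (by omega)
  by_cases h25 : k < 6656
  · exact allRange_eq_true.1 tchk_25 k (by omega) (by omega)
  by_cases h26 : k < 6912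
  · exact allRange_eq_true.1 tchk_26 k (by omega) (by omega)
  by_cases h27 : k < 7168
  · exact allRange_eq_true.1 tchk_27 k (by omega) (by omega)
  by_cases h28 : k < 7424
  · exact allRange_eq_true.1 tchk_28 k (by omega) (by omega)
  by_cases h29 : k < 7680
  · exact allRange_eq_true.1 tchk_29 k (by omega) (by omega)
  by_cases h30 : k < 7936
  · exact allRange_eq_true.1 tchk_30 k (by omega) (by omega)
  by_cases h31 : k < 8192
  · exact allRange_eq_true.1 tchk_31 k (by omega) (by omega)
  by_cases h32 : k < 8448
  · exact allRange_eq_true.1 tchk_32 k (by omega) (by omega)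
  by_cases h33 : k < 8704
  · exact allRange_eq_true.1 tchk_33 k (by omega) (by omega)
  by_cases h34 : k < 8960
  · exact allRange_eq_true.1 tchk_34 k (by omega) (by omega)
  by_cases h35 : k < 9216
  · exact allRange_eq_true.1 tchk_35 k (by omega) (by omega)
  by_cases h36 : k < 9472
  · exact allRange_eq_true.1 tchk_36 k (by omega) (by omega)
  by_cases h37 : k < 9728
  · exact allRange_eq_true.1 tchk_37 k (by omega) (by omega)
  by_cases h38 : k < 9984
  · exact allRange_eq_true.1 tchk_38 k (by omega) (by omega)
  by_cases h39 : k < 10240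
  · exact allRange_eq_true.1 tchk_39 k (by omega) (by omega)
  by_cases h40 : k < 10496
  · exact allRange_eq_true.1 tchk_40 k (by omega) (by omega)
  by_cases h41 : k < 10752
  · exact allRange_eq_true.1 tchk_41 k (by omega) (by omega)
  by_cases h42 : k < 11008
  · exact allRange_eq_true.1 tchk_42 k (by omega) (by omega)
  by_cases h43 : k < 11264
  · exact allRange_eq_true.1 tchk_43 k (by omega) (by omega)
  by_cases h44 : k < 11520
  · exact allRange_eq_true.1 tchk_44 k (by omega) (by omega)
  by_cases h45 : k < 11776
  · exact allRange_eq_true.1 tchk_45 k (by omega) (by omega)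
  by_cases h46 : k < 12032
  · exact allRange_eq_true.1 tchk_46 k (by omega) (by omega)
  by_cases h47 : k < 12288
  · exact allRange_eq_true.1 tchk_47 k (by omega) (by omega)
  by_cases h48 : k < 12544
  · exact allRange_eq_true.1 tchk_48 k (by omega) (by omega)
  by_cases h49 : k < 12800
  · exact allRange_eq_true.1 tchk_49 k (by omega) (by omega)
  by_cases h50 : k < 13056
  · exact allRange_eq_true.1 tchk_50 k (by omega) (by omega)
  by_cases h51 : k < 13312
  · exact allRange_eq_true.1 tchk_51 k (by omega) (by omega)
  by_cases h52 : k < 13568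
  · exact allRange_eq_true.1 tchk_52 k (by omega) (by omega)
  by_cases h53 : k < 13824
  · exact allRange_eq_true.1 tchk_53 k (by omega) (by omega)
  by_cases h54 : k < 14080
  · exact allRange_eq_true.1 tchk_54 k (by omega) (by omega)
  by_cases h55 : k < 14336
  · exact allRange_eq_true.1 tchk_55 k (by omega) (by omega)
  by_cases h56 : k < 14592
  · exact allRange_eq_true.1 tchk_56 k (by omega) (by omega)
  by_cases h57 : k < 14848
  · exact allRange_eq_true.1 tchk_57 k (by omega) (by omega)
  by_cases h58 : k < 15104
  · exact allRange_eq_true.1 tchk_58 k (by omega) (by omega)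
  by_cases h59 : k < 15360
  · exact allRange_eq_true.1 tchk_59 k (by omega) (by omega)
  by_cases h60 : k < 15616
  · exact allRange_eq_true.1 tchk_60 k (by omega) (by omega)
  by_cases h61 : k < 15872
  · exact allRange_eq_true.1 tchk_61 k (by omega) (by omega)
  by_cases h62 : k < 16128
  · exact allRange_eq_true.1 tchk_62 k (by omega) (by omega)
  by_cases h63 : k < 16384
  · exact allRange_eq_true.1 tchk_63 k (by omega) (by omega)
  by_cases h64 : k < 16640
  · exact allRange_eq_true.1 tchk_64 k (by omega) (by omega)
  by_cases h65 : k < 16896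
  · exact allRange_eq_true.1 tchk_65 k (by omega) (by omega)
  by_cases h66 : k < 17152
  · exact allRange_eq_true.1 tchk_66 k (by omega) (by omega)
  by_cases h67 : k < 17408
  · exact allRange_eq_true.1 tchk_67 k (by omega) (by omega)
  by_cases h68 : k < 17664
  · exact allRange_eq_true.1 tchk_68 k (by omega) (by omega)
  by_cases h69 : k < 17920
  · exact allRange_eq_true.1 tchk_69 k (by omega) (by omega)
  by_cases h70 : k < 18176
  · exact allRange_eq_true.1 tchk_70 k (by omega) (by omega)
  by_cases h71 : k < 18432
  · exact allRange_eq_true.1 tchk_71 k (by omega) (by omega)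
  by_cases h72 : k < 18688
  · exact allRange_eq_true.1 tchk_72 k (by omega) (by omega)
  by_cases h73 : k < 18944
  · exact allRange_eq_true.1 tchk_73 k (by omega) (by omega)
  by_cases h74 : k < 19200
  · exact allRange_eq_true.1 tchk_74 k (by omega) (by omega)
  by_cases h75 : k < 19456
  · exact allRange_eq_true.1 tchk_75 k (by omega) (by omega)
  exact allRange_eq_true.1 tchk_76 k (by omega) (by omega)

end Cfsg.Agent.Lib.Helper4.O73C3
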