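import Mathlib
import Cfsg.Agent.Lib.Helper4.O73C3Cls
import Cfsg.Agent.Lib.Helper4.O73C3TAll
import Cfsg.Agent.Lib.Helper8.O73C3SYL
import Cfsg.Agent.Lib.Helper8.O73C3CLSFN
import Cfsg.Agent.Lib.Helper8.O73C3ZP3
import Cfsg.Agent.Lib.Helper3.O73C3TRANS

/-!
`Ω₇(3)` has exactly seven conjugacy classes of subgroups of order 3.

In the presented group `O73p ≅ Ω₇(3)` (order `4585351680 = 3⁹ · 232960`) a Sylow 3-subgroup `PS` of order
`19683` is enumerated by packed `7 × 7` matrices over `F₃`; every element of order 3 of `PS` is conjugated,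
by kernel-checked words, into one of seven cyclic subgroups `Ysub i`; the seven subgroups are separated by two
class functions (fixed points on the 1080 cosets of `G₂(3)`, fixed singular vectors); Sylow's theorem does the
rest.
-/

namespace Cfsg.Agent.Lib.Helper4.O73C3

open Cfsg Cfsg.Agent.Lib.Helper4.TC Cfsg.Agent.Lib.Helper4.TC.Log Cfsg.Agent.Lib.Helper4.O73Iso

theorem main_pres : ∃ Y : Fin 7 → Subgroup Γ, (∀ i, Nat.card (Y i) = 3) ∧
    (∀ i j, (∃ g : Γ, (Y i).map (MulAut.conj g).toMonoidHom = Y j) → i = j) ∧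
    (∀ X : Subgroup Γ, Nat.card X = 3 → ∃ i, ∃ g : Γ, X.map (MulAut.conj g).toMonoidHom = Y i) := by
  obtain ⟨fG, _, hc⟩ := O73pMain.order_aux
  have := fG
  obtain ⟨hP, hconj⟩ := main_cert TT tchk_all
  have hY : ∀ i : Fin 7, Nat.card (Ysub i.1) = 3 := fun i =>
    Cfsg.Agent.Lib.Helper8.O73C3ZP3.zpowers_eq_of_card_three _ (yel_ne i.2) (yel_cube i.2)
  refine ⟨fun i => Ysub i.1, hY, ?_, ?_⟩
  · rintro i j ⟨g, hg⟩
    have h := Cfsg.Agent.Lib.Helper8.O73C3CLSFN.eq_of_conj_zpowers FF FF_conj FF_inv (yel i.1) (yel j.1)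
      (yel_ne i.2) (yel_cube i.2) (yel_cube j.2) g hg
    rw [FF_yel i.2, FF_yel j.2] at h
    exact Fin.ext (Fval_inj _ i.2 _ j.2 h)
  · intro X hX
    have : Fact (Nat.Prime 3) := ⟨by norm_num⟩
    exact Cfsg.Agent.Lib.Helper8.O73C3SYL.conj_into_of_sylow 3 9 232960 (by rw [hc]; norm_num) (by norm_num) PS
      (by rw [hP]; rfl) (fun i : Fin 7 => Ysub i.1) hY hconj X hX

theorem main : ∃ Y : Fin 7 → Subgroup (Cfsg.POmega (ZMod 3) (Cfsg.quadFormOdd 3 (ZMod 3))),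
    (∀ i, Nat.card (Y i) = 3) ∧
    (∀ i j, (∃ g : Cfsg.POmega (ZMod 3) (Cfsg.quadFormOdd 3 (ZMod 3)),
      (Y i).map (MulAut.conj g).toMonoidHom = Y j) → i = j) ∧
    (∀ X : Subgroup (Cfsg.POmega (ZMod 3) (Cfsg.quadFormOdd 3 (ZMod 3))), Nat.card X = 3 →
      ∃ i, ∃ g : Cfsg.POmega (ZMod 3) (Cfsg.quadFormOdd 3 (ZMod 3)),
        X.map (MulAut.conj g).toMonoidHom = Y i) := by
  obtain ⟨e⟩ := O73Iso.iso (F := ZMod 3) (ZMod.card 3)
  exact Cfsg.Agent.Lib.Helper3.O73C3TRANS.transport e main_pres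

end Cfsg.Agent.Lib.Helper4.O73C3
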