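import Mathlib
import Cfsg.Agent.Lib.Helper4.LaneMat

/-! Stubs of the abstract units for S5514 (classes of subgroups of order 3 of `Ω₇(3)`).  Imported by nothing.
Each unit is to be proved verbatim in a file of the seat that claims it. -/

namespace Cfsg.Agent.Lib.Helper4.O73C3Stubs

open Cfsg.Agent.Lib.Helper4.LaneMat

/-- unit SYL: subgroups of order `p` are conjugate into a given subgroup of order `p ^ n` -/
theorem conj_into_of_sylow {G : Type*} [Group G] [Finite G] (p n m : ℕ) [Fact p.Prime]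
    (hG : Nat.card G = p ^ n * m) (hm : ¬ p ∣ m) (P : Subgroup G) (hP : Nat.card P = p ^ n)
    {ι : Type*} (Y : ι → Subgroup G) (hY : ∀ i, Nat.card (Y i) = p)
    (h : ∀ x ∈ P, x ≠ 1 → x ^ p = 1 → ∃ i, ∃ g : G, g * x * g⁻¹ ∈ Y i)
    (X : Subgroup G) (hX : Nat.card X = p) :
    ∃ i, ∃ g : G, X.map (MulAut.conj g).toMonoidHom = Y i := by
  sorry

/-- unit TRANS: the shape of statement S5514 is invariant under isomorphisms -/
theorem transport {G H : Type*} [Group G] [Group H] (e : G ≃* H) {n k : ℕ}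
    (h : ∃ Y : Fin n → Subgroup G, (∀ i, Nat.card (Y i) = k) ∧
      (∀ i j, (∃ g : G, (Y i).map (MulAut.conj g).toMonoidHom = Y j) → i = j) ∧
      (∀ X : Subgroup G, Nat.card X = k → ∃ i, ∃ g : G, X.map (MulAut.conj g).toMonoidHom = Y i)) :
    ∃ Y : Fin n → Subgroup H, (∀ i, Nat.card (Y i) = k) ∧
      (∀ i j, (∃ g : H, (Y i).map (MulAut.conj g).toMonoidHom = Y j) → i = j) ∧
      (∀ X : Subgroup H, Nat.card X = k → ∃ i, ∃ g : H, X.map (MulAut.conj g).toMonoidHom = Y i) := by
  sorry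

/-- unit CLSFN: a class function that is invariant under inversion separates cyclic subgroups of order 3 -/
theorem eq_of_conj_zpowers {G : Type*} [Group G] {α : Type*} (f : G → α)
    (hf : ∀ g x, f (g * x * g⁻¹) = f x) (hinv : ∀ x, f x⁻¹ = f x)
    (y y' : G) (hy : y ≠ 1) (hy3 : y ^ 3 = 1) (hy'3 : y' ^ 3 = 1) (g : G)
    (h : (Subgroup.zpowers y).map (MulAut.conj g).toMonoidHom = Subgroup.zpowers y') : f y = f y' := by
  sorry

/-- unit LANEINJ: bounded valid packed matrices are determined by their matrices -/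
theorem toMat_inj (C : Cfg) {ι : Type*} [Fintype ι] [DecidableEq ι] (e : ι ≃ Fin C.n) {X Y : ℕ}
    (hX : C.Valid X) (hY : C.Valid Y) (hXb : X < (2 ^ C.b) ^ (C.n * C.n)) (hYb : Y < (2 ^ C.b) ^ (C.n * C.n))
    (h : C.toMat e X = C.toMat e Y) : X = Y := by
  sorry

/-- unit ZP3: a subgroup of order 3 is generated by each of its nontrivial elements -/
theorem zpowers_eq_of_card_three {G : Type*} [Group G] (y : G) (hy : y ≠ 1) (hy3 : y ^ 3 = 1) :
    Nat.card (Subgroup.zpowers y) = 3 := by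
  sorry

end Cfsg.Agent.Lib.Helper4.O73C3Stubs
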