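import Mathlib
import Cfsg.Prelude.Def_SporCoxeter

/-! The orthogonal group O8+(2) of order 174182400 presented on generators `b`, `a` of a subgroup Sp6(2) (satisfying the relators of `Sp62p`) and an involution `u` (generated). -/

namespace Cfsg.Agent.Lib.Helper4

namespace O82p

/-- the generators -/
inductive Gen
  | b
  | a
  | u
  deriving DecidableEq

abbrev b : FreeGroup Gen := FreeGroup.of Gen.b
abbrev a : FreeGroup Gen := FreeGroup.of Gen.a
abbrev u : FreeGroup Gen := FreeGroup.of Gen.u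

/-- no Coxeter graph -/
def edges : List (Gen × ℕ × Gen) := []

/-- the relators -/
def extra : List (FreeGroup Gen) := [
  b ^ 7,
  a ^ 2,
  (a * b) ^ 9,
  (a * b * b) ^ 12,
  (a * b * a⁻¹ * b⁻¹) ^ 3,
  (a * b * b * a⁻¹ * b⁻¹ * b⁻¹) ^ 2,
  u * u,
  a * u * a * u * a * u,
  b * b * b * a * b⁻¹ * u * a * b * a * b⁻¹ * u * b⁻¹ * b⁻¹ * a,
  b * b * a * b⁻¹ * a * b⁻¹ * u * b * a * b * a * b⁻¹ * b⁻¹ * u,
  b * b * b * a * b⁻¹ * u * a * b⁻¹ * b⁻¹ * a * b * b * u * b * a * b⁻¹ * a * b⁻¹ * b⁻¹ * a,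
  b * b * b * a * b⁻¹ * a * b * b * b * a * b⁻¹ * a * b * a * b * b * a * b * b * a * b * u * b⁻¹ * a * u * a * b * u * b⁻¹ * b⁻¹ * b⁻¹ * a ]

end O82p

end Cfsg.Agent.Lib.Helper4
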