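import Cfsg.Agent.Lib.Helper4.TCD_ONJ1K_Acc

namespace Cfsg.Agent.Lib.Helper4.TCD.ONJ1K

open Cfsg.Agent.Lib.Helper4.TC

set_option maxRecDepth 100000
set_option Elab.async false

theorem c_k2_37 : allRange (fun i => Nat.beq (Cfsg.Agent.Lib.Helper4.TCD.ONJ1.col2 i) (actW2 i)) 56906 1538 = true := by decide +kernel
theorem c_k2_38 : allRange (fun i => Nat.beq (Cfsg.Agent.Lib.Helper4.TCD.ONJ1.col2 i) (actW2 i)) 58444 1538 = true := by decide +kernel
theorem c_k2_39 : allRange (fun i => Nat.beq (Cfsg.Agent.Lib.Helper4.TCD.ONJ1.col2 i) (actW2 i)) 59982 1538 = true := by decide +kernel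
theorem c_k2_40 : allRange (fun i => Nat.beq (Cfsg.Agent.Lib.Helper4.TCD.ONJ1.col2 i) (actW2 i)) 61520 1538 = true := by decide +kernel
theorem c_k2_41 : allRange (fun i => Nat.beq (Cfsg.Agent.Lib.Helper4.TCD.ONJ1.col2 i) (actW2 i)) 63058 1538 = true := by decide +kernel
theorem c_k2_42 : allRange (fun i => Nat.beq (Cfsg.Agent.Lib.Helper4.TCD.ONJ1.col2 i) (actW2 i)) 64596 1538 = true := by decide +kernel
theorem c_k2_43 : allRange (fun i => Nat.beq (Cfsg.Agent.Lib.Helper4.TCD.ONJ1.col2 i) (actW2 i)) 66134 1538 = true := by decide +kernel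
theorem c_k2_44 : allRange (fun i => Nat.beq (Cfsg.Agent.Lib.Helper4.TCD.ONJ1.col2 i) (actW2 i)) 67672 1538 = true := by decide +kernel
theorem c_k2_45 : allRange (fun i => Nat.beq (Cfsg.Agent.Lib.Helper4.TCD.ONJ1.col2 i) (actW2 i)) 69210 1538 = true := by decide +kernel
theorem c_k2_46 : allRange (fun i => Nat.beq (Cfsg.Agent.Lib.Helper4.TCD.ONJ1.col2 i) (actW2 i)) 70748 1538 = true := by decide +kernel
theorem c_k2_47 : allRange (fun i => Nat.beq (Cfsg.Agent.Lib.Helper4.TCD.ONJ1.col2 i) (actW2 i)) 72286 1538 = true := by decide +kernel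
theorem c_k2_48 : allRange (fun i => Nat.beq (Cfsg.Agent.Lib.Helper4.TCD.ONJ1.col2 i) (actW2 i)) 73824 1538 = true := by decide +kernel
theorem c_k2_49 : allRange (fun i => Nat.beq (Cfsg.Agent.Lib.Helper4.TCD.ONJ1.col2 i) (actW2 i)) 75362 1538 = true := by decide +kernel
theorem c_k2_50 : allRange (fun i => Nat.beq (Cfsg.Agent.Lib.Helper4.TCD.ONJ1.col2 i) (actW2 i)) 76900 1538 = true := by decide +kernel
theorem c_k2_51 : allRange (fun i => Nat.beq (Cfsg.Agent.Lib.Helper4.TCD.ONJ1.col2 i) (actW2 i)) 78438 1538 = true := by decide +kernel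
theorem c_k2_52 : allRange (fun i => Nat.beq (Cfsg.Agent.Lib.Helper4.TCD.ONJ1.col2 i) (actW2 i)) 79976 1538 = true := by decide +kernel
theorem c_k2_53 : allRange (fun i => Nat.beq (Cfsg.Agent.Lib.Helper4.TCD.ONJ1.col2 i) (actW2 i)) 81514 1538 = true := by decide +kernel
theorem c_k2_54 : allRange (fun i => Nat.beq (Cfsg.Agent.Lib.Helper4.TCD.ONJ1.col2 i) (actW2 i)) 83052 1538 = true := by decide +kernel
theorem c_k2_55 : allRange (fun i => Nat.beq (Cfsg.Agent.Lib.Helper4.TCD.ONJ1.col2 i) (actW2 i)) 84590 1538 = true := by decide +kernel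
theorem c_k2_56 : allRange (fun i => Nat.beq (Cfsg.Agent.Lib.Helper4.TCD.ONJ1.col2 i) (actW2 i)) 86128 1538 = true := by decide +kernel
theorem c_k2_57 : allRange (fun i => Nat.beq (Cfsg.Agent.Lib.Helper4.TCD.ONJ1.col2 i) (actW2 i)) 87666 1538 = true := by decide +kernel
theorem c_k2_58 : allRange (fun i => Nat.beq (Cfsg.Agent.Lib.Helper4.TCD.ONJ1.col2 i) (actW2 i)) 89204 1538 = true := by decide +kernel
theorem c_k2_59 : allRange (fun i => Nat.beq (Cfsg.Agent.Lib.Helper4.TCD.ONJ1.col2 i) (actW2 i)) 90742 1538 = true := by decide +kernel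
theorem c_k2_60 : allRange (fun i => Nat.beq (Cfsg.Agent.Lib.Helper4.TCD.ONJ1.col2 i) (actW2 i)) 92280 1538 = true := by decide +kernel
theorem c_k2_61 : allRange (fun i => Nat.beq (Cfsg.Agent.Lib.Helper4.TCD.ONJ1.col2 i) (actW2 i)) 93818 1538 = true := by decide +kernel
theorem c_k2_62 : allRange (fun i => Nat.beq (Cfsg.Agent.Lib.Helper4.TCD.ONJ1.col2 i) (actW2 i)) 95356 1538 = true := by decide +kernel
theorem c_k2_63 : allRange (fun i => Nat.beq (Cfsg.Agent.Lib.Helper4.TCD.ONJ1.col2 i) (actW2 i)) 96894 1538 = true := by decide +kernel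
theorem c_k2_64 : allRange (fun i => Nat.beq (Cfsg.Agent.Lib.Helper4.TCD.ONJ1.col2 i) (actW2 i)) 98432 1538 = true := by decide +kernel
theorem c_k2_65 : allRange (fun i => Nat.beq (Cfsg.Agent.Lib.Helper4.TCD.ONJ1.col2 i) (actW2 i)) 99970 1538 = true := by decide +kernel
theorem c_k2_66 : allRange (fun i => Nat.beq (Cfsg.Agent.Lib.Helper4.TCD.ONJ1.col2 i) (actW2 i)) 101508 1538 = true := by decide +kernel
theorem c_k2_67 : allRange (fun i => Nat.beq (Cfsg.Agent.Lib.Helper4.TCD.ONJ1.col2 i) (actW2 i)) 103046 1538 = true := by decide +kernel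
theorem c_k2_68 : allRange (fun i => Nat.beq (Cfsg.Agent.Lib.Helper4.TCD.ONJ1.col2 i) (actW2 i)) 104584 1538 = true := by decide +kernel
theorem c_k2_69 : allRange (fun i => Nat.beq (Cfsg.Agent.Lib.Helper4.TCD.ONJ1.col2 i) (actW2 i)) 106122 1538 = true := by decide +kernel
theorem c_k2_70 : allRange (fun i => Nat.beq (Cfsg.Agent.Lib.Helper4.TCD.ONJ1.col2 i) (actW2 i)) 107660 1538 = true := by decide +kernel
theorem c_k2_71 : allRange (fun i => Nat.beq (Cfsg.Agent.Lib.Helper4.TCD.ONJ1.col2 i) (actW2 i)) 109198 1538 = true := by decide +kernel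
theorem c_k2_72 : allRange (fun i => Nat.beq (Cfsg.Agent.Lib.Helper4.TCD.ONJ1.col2 i) (actW2 i)) 110736 1538 = true := by decide +kernel
theorem c_k2_73 : allRange (fun i => Nat.beq (Cfsg.Agent.Lib.Helper4.TCD.ONJ1.col2 i) (actW2 i)) 112274 1538 = true := by decide +kernel
theorem c_k2_74 : allRange (fun i => Nat.beq (Cfsg.Agent.Lib.Helper4.TCD.ONJ1.col2 i) (actW2 i)) 113812 1538 = true := by decide +kernel
theorem c_k2_75 : allRange (fun i => Nat.beq (Cfsg.Agent.Lib.Helper4.TCD.ONJ1.col2 i) (actW2 i)) 115350 1538 = true := by decide +kernel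
theorem c_k2_76 : allRange (fun i => Nat.beq (Cfsg.Agent.Lib.Helper4.TCD.ONJ1.col2 i) (actW2 i)) 116888 1538 = true := by decide +kernel
theorem c_k2_77 : allRange (fun i => Nat.beq (Cfsg.Agent.Lib.Helper4.TCD.ONJ1.col2 i) (actW2 i)) 118426 1538 = true := by decide +kernel
theorem c_k2_78 : allRange (fun i => Nat.beq (Cfsg.Agent.Lib.Helper4.TCD.ONJ1.col2 i) (actW2 i)) 119964 1538 = true := by decide +kernel
theorem c_k2_79 : allRange (fun i => Nat.beq (Cfsg.Agent.Lib.Helper4.TCD.ONJ1.col2 i) (actW2 i)) 121502 1258 = true := by decide +kernel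
theorem c_k3_0 : allRange (fun i => Nat.beq (Cfsg.Agent.Lib.Helper4.TCD.ONJ1.col3 i) (actW3 i)) 0 1538 = true := by decide +kernel
theorem c_k3_1 : allRange (fun i => Nat.beq (Cfsg.Agent.Lib.Helper4.TCD.ONJ1.col3 i) (actW3 i)) 1538 1538 = true := by decide +kernel
theorem c_k3_2 : allRange (fun i => Nat.beq (Cfsg.Agent.Lib.Helper4.TCD.ONJ1.col3 i) (actW3 i)) 3076 1538 = true := by decide +kernel
theorem c_k3_3 : allRange (fun i => Nat.beq (Cfsg.Agent.Lib.Helper4.TCD.ONJ1.col3 i) (actW3 i)) 4614 1538 = true := by decide +kernel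
theorem c_k3_4 : allRange (fun i => Nat.beq (Cfsg.Agent.Lib.Helper4.TCD.ONJ1.col3 i) (actW3 i)) 6152 1538 = true := by decide +kernel
theorem c_k3_5 : allRange (fun i => Nat.beq (Cfsg.Agent.Lib.Helper4.TCD.ONJ1.col3 i) (actW3 i)) 7690 1538 = true := by decide +kernel
theorem c_k3_6 : allRange (fun i => Nat.beq (Cfsg.Agent.Lib.Helper4.TCD.ONJ1.col3 i) (actW3 i)) 9228 1538 = true := by decide +kernel

end Cfsg.Agent.Lib.Helper4.TCD.ONJ1K
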