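import Cfsg.Agent.Lib.Helper4.TCD_ONJ1K_Acc

namespace Cfsg.Agent.Lib.Helper4.TCD.ONJ1K

open Cfsg.Agent.Lib.Helper4.TC

set_option maxRecDepth 100000
set_option Elab.async false

theorem c_k3_7 : allRange (fun i => Nat.beq (Cfsg.Agent.Lib.Helper4.TCD.ONJ1.col3 i) (actW3 i)) 10766 1538 = true := by decide +kernel
theorem c_k3_8 : allRange (fun i => Nat.beq (Cfsg.Agent.Lib.Helper4.TCD.ONJ1.col3 i) (actW3 i)) 12304 1538 = true := by decide +kernel
theorem c_k3_9 : allRange (fun i => Nat.beq (Cfsg.Agent.Lib.Helper4.TCD.ONJ1.col3 i) (actW3 i)) 13842 1538 = true := by decide +kernel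
theorem c_k3_10 : allRange (fun i => Nat.beq (Cfsg.Agent.Lib.Helper4.TCD.ONJ1.col3 i) (actW3 i)) 15380 1538 = true := by decide +kernel
theorem c_k3_11 : allRange (fun i => Nat.beq (Cfsg.Agent.Lib.Helper4.TCD.ONJ1.col3 i) (actW3 i)) 16918 1538 = true := by decide +kernel
theorem c_k3_12 : allRange (fun i => Nat.beq (Cfsg.Agent.Lib.Helper4.TCD.ONJ1.col3 i) (actW3 i)) 18456 1538 = true := by decide +kernel
theorem c_k3_13 : allRange (fun i => Nat.beq (Cfsg.Agent.Lib.Helper4.TCD.ONJ1.col3 i) (actW3 i)) 19994 1538 = true := by decide +kernel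
theorem c_k3_14 : allRange (fun i => Nat.beq (Cfsg.Agent.Lib.Helper4.TCD.ONJ1.col3 i) (actW3 i)) 21532 1538 = true := by decide +kernel
theorem c_k3_15 : allRange (fun i => Nat.beq (Cfsg.Agent.Lib.Helper4.TCD.ONJ1.col3 i) (actW3 i)) 23070 1538 = true := by decide +kernel
theorem c_k3_16 : allRange (fun i => Nat.beq (Cfsg.Agent.Lib.Helper4.TCD.ONJ1.col3 i) (actW3 i)) 24608 1538 = true := by decide +kernel
theorem c_k3_17 : allRange (fun i => Nat.beq (Cfsg.Agent.Lib.Helper4.TCD.ONJ1.col3 i) (actW3 i)) 26146 1538 = true := by decide +kernel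
theorem c_k3_18 : allRange (fun i => Nat.beq (Cfsg.Agent.Lib.Helper4.TCD.ONJ1.col3 i) (actW3 i)) 27684 1538 = true := by decide +kernel
theorem c_k3_19 : allRange (fun i => Nat.beq (Cfsg.Agent.Lib.Helper4.TCD.ONJ1.col3 i) (actW3 i)) 29222 1538 = true := by decide +kernel
theorem c_k3_20 : allRange (fun i => Nat.beq (Cfsg.Agent.Lib.Helper4.TCD.ONJ1.col3 i) (actW3 i)) 30760 1538 = true := by decide +kernel
theorem c_k3_21 : allRange (fun i => Nat.beq (Cfsg.Agent.Lib.Helper4.TCD.ONJ1.col3 i) (actW3 i)) 32298 1538 = true := by decide +kernel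
theorem c_k3_22 : allRange (fun i => Nat.beq (Cfsg.Agent.Lib.Helper4.TCD.ONJ1.col3 i) (actW3 i)) 33836 1538 = true := by decide +kernel
theorem c_k3_23 : allRange (fun i => Nat.beq (Cfsg.Agent.Lib.Helper4.TCD.ONJ1.col3 i) (actW3 i)) 35374 1538 = true := by decide +kernel
theorem c_k3_24 : allRange (fun i => Nat.beq (Cfsg.Agent.Lib.Helper4.TCD.ONJ1.col3 i) (actW3 i)) 36912 1538 = true := by decide +kernel
theorem c_k3_25 : allRange (fun i => Nat.beq (Cfsg.Agent.Lib.Helper4.TCD.ONJ1.col3 i) (actW3 i)) 38450 1538 = true := by decide +kernel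
theorem c_k3_26 : allRange (fun i => Nat.beq (Cfsg.Agent.Lib.Helper4.TCD.ONJ1.col3 i) (actW3 i)) 39988 1538 = true := by decide +kernel
theorem c_k3_27 : allRange (fun i => Nat.beq (Cfsg.Agent.Lib.Helper4.TCD.ONJ1.col3 i) (actW3 i)) 41526 1538 = true := by decide +kernel
theorem c_k3_28 : allRange (fun i => Nat.beq (Cfsg.Agent.Lib.Helper4.TCD.ONJ1.col3 i) (actW3 i)) 43064 1538 = true := by decide +kernel
theorem c_k3_29 : allRange (fun i => Nat.beq (Cfsg.Agent.Lib.Helper4.TCD.ONJ1.col3 i) (actW3 i)) 44602 1538 = true := by decide +kernel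
theorem c_k3_30 : allRange (fun i => Nat.beq (Cfsg.Agent.Lib.Helper4.TCD.ONJ1.col3 i) (actW3 i)) 46140 1538 = true := by decide +kernel
theorem c_k3_31 : allRange (fun i => Nat.beq (Cfsg.Agent.Lib.Helper4.TCD.ONJ1.col3 i) (actW3 i)) 47678 1538 = true := by decide +kernel
theorem c_k3_32 : allRange (fun i => Nat.beq (Cfsg.Agent.Lib.Helper4.TCD.ONJ1.col3 i) (actW3 i)) 49216 1538 = true := by decide +kernel
theorem c_k3_33 : allRange (fun i => Nat.beq (Cfsg.Agent.Lib.Helper4.TCD.ONJ1.col3 i) (actW3 i)) 50754 1538 = true := by decide +kernel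
theorem c_k3_34 : allRange (fun i => Nat.beq (Cfsg.Agent.Lib.Helper4.TCD.ONJ1.col3 i) (actW3 i)) 52292 1538 = true := by decide +kernel
theorem c_k3_35 : allRange (fun i => Nat.beq (Cfsg.Agent.Lib.Helper4.TCD.ONJ1.col3 i) (actW3 i)) 53830 1538 = true := by decide +kernel
theorem c_k3_36 : allRange (fun i => Nat.beq (Cfsg.Agent.Lib.Helper4.TCD.ONJ1.col3 i) (actW3 i)) 55368 1538 = true := by decide +kernel
theorem c_k3_37 : allRange (fun i => Nat.beq (Cfsg.Agent.Lib.Helper4.TCD.ONJ1.col3 i) (actW3 i)) 56906 1538 = true := by decide +kernel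
theorem c_k3_38 : allRange (fun i => Nat.beq (Cfsg.Agent.Lib.Helper4.TCD.ONJ1.col3 i) (actW3 i)) 58444 1538 = true := by decide +kernel
theorem c_k3_39 : allRange (fun i => Nat.beq (Cfsg.Agent.Lib.Helper4.TCD.ONJ1.col3 i) (actW3 i)) 59982 1538 = true := by decide +kernel
theorem c_k3_40 : allRange (fun i => Nat.beq (Cfsg.Agent.Lib.Helper4.TCD.ONJ1.col3 i) (actW3 i)) 61520 1538 = true := by decide +kernel
theorem c_k3_41 : allRange (fun i => Nat.beq (Cfsg.Agent.Lib.Helper4.TCD.ONJ1.col3 i) (actW3 i)) 63058 1538 = true := by decide +kernel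
theorem c_k3_42 : allRange (fun i => Nat.beq (Cfsg.Agent.Lib.Helper4.TCD.ONJ1.col3 i) (actW3 i)) 64596 1538 = true := by decide +kernel
theorem c_k3_43 : allRange (fun i => Nat.beq (Cfsg.Agent.Lib.Helper4.TCD.ONJ1.col3 i) (actW3 i)) 66134 1538 = true := by decide +kernel
theorem c_k3_44 : allRange (fun i => Nat.beq (Cfsg.Agent.Lib.Helper4.TCD.ONJ1.col3 i) (actW3 i)) 67672 1538 = true := by decide +kernel
theorem c_k3_45 : allRange (fun i => Nat.beq (Cfsg.Agent.Lib.Helper4.TCD.ONJ1.col3 i) (actW3 i)) 69210 1538 = true := by decide +kernel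
theorem c_k3_46 : allRange (fun i => Nat.beq (Cfsg.Agent.Lib.Helper4.TCD.ONJ1.col3 i) (actW3 i)) 70748 1538 = true := by decide +kernel
theorem c_k3_47 : allRange (fun i => Nat.beq (Cfsg.Agent.Lib.Helper4.TCD.ONJ1.col3 i) (actW3 i)) 72286 1538 = true := by decide +kernel
theorem c_k3_48 : allRange (fun i => Nat.beq (Cfsg.Agent.Lib.Helper4.TCD.ONJ1.col3 i) (actW3 i)) 73824 1538 = true := by decide +kernel
theorem c_k3_49 : allRange (fun i => Nat.beq (Cfsg.Agent.Lib.Helper4.TCD.ONJ1.col3 i) (actW3 i)) 75362 1538 = true := by decide +kernel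
theorem c_k3_50 : allRange (fun i => Nat.beq (Cfsg.Agent.Lib.Helper4.TCD.ONJ1.col3 i) (actW3 i)) 76900 1538 = true := by decide +kernel
theorem c_k3_51 : allRange (fun i => Nat.beq (Cfsg.Agent.Lib.Helper4.TCD.ONJ1.col3 i) (actW3 i)) 78438 1538 = true := by decide +kernel
theorem c_k3_52 : allRange (fun i => Nat.beq (Cfsg.Agent.Lib.Helper4.TCD.ONJ1.col3 i) (actW3 i)) 79976 1538 = true := by decide +kernel
theorem c_k3_53 : allRange (fun i => Nat.beq (Cfsg.Agent.Lib.Helper4.TCD.ONJ1.col3 i) (actW3 i)) 81514 1538 = true := by decide +kernel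
theorem c_k3_54 : allRange (fun i => Nat.beq (Cfsg.Agent.Lib.Helper4.TCD.ONJ1.col3 i) (actW3 i)) 83052 1538 = true := by decide +kernel
theorem c_k3_55 : allRange (fun i => Nat.beq (Cfsg.Agent.Lib.Helper4.TCD.ONJ1.col3 i) (actW3 i)) 84590 1538 = true := by decide +kernel
theorem c_k3_56 : allRange (fun i => Nat.beq (Cfsg.Agent.Lib.Helper4.TCD.ONJ1.col3 i) (actW3 i)) 86128 1538 = true := by decide +kernel

end Cfsg.Agent.Lib.Helper4.TCD.ONJ1K
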