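import Cfsg.Agent.Lib.Helper4.TCD_ONJ1K_Acc

namespace Cfsg.Agent.Lib.Helper4.TCD.ONJ1K

open Cfsg.Agent.Lib.Helper4.TC

set_option maxRecDepth 100000
set_option Elab.async false

theorem c_k3_57 : allRange (fun i => Nat.beq (Cfsg.Agent.Lib.Helper4.TCD.ONJ1.col3 i) (actW3 i)) 87666 1538 = true := by decide +kernel
theorem c_k3_58 : allRange (fun i => Nat.beq (Cfsg.Agent.Lib.Helper4.TCD.ONJ1.col3 i) (actW3 i)) 89204 1538 = true := by decide +kernel
theorem c_k3_59 : allRange (fun i => Nat.beq (Cfsg.Agent.Lib.Helper4.TCD.ONJ1.col3 i) (actW3 i)) 90742 1538 = true := by decide +kernel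
theorem c_k3_60 : allRange (fun i => Nat.beq (Cfsg.Agent.Lib.Helper4.TCD.ONJ1.col3 i) (actW3 i)) 92280 1538 = true := by decide +kernel
theorem c_k3_61 : allRange (fun i => Nat.beq (Cfsg.Agent.Lib.Helper4.TCD.ONJ1.col3 i) (actW3 i)) 93818 1538 = true := by decide +kernel
theorem c_k3_62 : allRange (fun i => Nat.beq (Cfsg.Agent.Lib.Helper4.TCD.ONJ1.col3 i) (actW3 i)) 95356 1538 = true := by decide +kernel
theorem c_k3_63 : allRange (fun i => Nat.beq (Cfsg.Agent.Lib.Helper4.TCD.ONJ1.col3 i) (actW3 i)) 96894 1538 = true := by decide +kernel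
theorem c_k3_64 : allRange (fun i => Nat.beq (Cfsg.Agent.Lib.Helper4.TCD.ONJ1.col3 i) (actW3 i)) 98432 1538 = true := by decide +kernel
theorem c_k3_65 : allRange (fun i => Nat.beq (Cfsg.Agent.Lib.Helper4.TCD.ONJ1.col3 i) (actW3 i)) 99970 1538 = true := by decide +kernel
theorem c_k3_66 : allRange (fun i => Nat.beq (Cfsg.Agent.Lib.Helper4.TCD.ONJ1.col3 i) (actW3 i)) 101508 1538 = true := by decide +kernel
theorem c_k3_67 : allRange (fun i => Nat.beq (Cfsg.Agent.Lib.Helper4.TCD.ONJ1.col3 i) (actW3 i)) 103046 1538 = true := by decide +kernel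
theorem c_k3_68 : allRange (fun i => Nat.beq (Cfsg.Agent.Lib.Helper4.TCD.ONJ1.col3 i) (actW3 i)) 104584 1538 = true := by decide +kernel
theorem c_k3_69 : allRange (fun i => Nat.beq (Cfsg.Agent.Lib.Helper4.TCD.ONJ1.col3 i) (actW3 i)) 106122 1538 = true := by decide +kernel
theorem c_k3_70 : allRange (fun i => Nat.beq (Cfsg.Agent.Lib.Helper4.TCD.ONJ1.col3 i) (actW3 i)) 107660 1538 = true := by decide +kernel
theorem c_k3_71 : allRange (fun i => Nat.beq (Cfsg.Agent.Lib.Helper4.TCD.ONJ1.col3 i) (actW3 i)) 109198 1538 = true := by decide +kernel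
theorem c_k3_72 : allRange (fun i => Nat.beq (Cfsg.Agent.Lib.Helper4.TCD.ONJ1.col3 i) (actW3 i)) 110736 1538 = true := by decide +kernel
theorem c_k3_73 : allRange (fun i => Nat.beq (Cfsg.Agent.Lib.Helper4.TCD.ONJ1.col3 i) (actW3 i)) 112274 1538 = true := by decide +kernel
theorem c_k3_74 : allRange (fun i => Nat.beq (Cfsg.Agent.Lib.Helper4.TCD.ONJ1.col3 i) (actW3 i)) 113812 1538 = true := by decide +kernel
theorem c_k3_75 : allRange (fun i => Nat.beq (Cfsg.Agent.Lib.Helper4.TCD.ONJ1.col3 i) (actW3 i)) 115350 1538 = true := by decide +kernel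
theorem c_k3_76 : allRange (fun i => Nat.beq (Cfsg.Agent.Lib.Helper4.TCD.ONJ1.col3 i) (actW3 i)) 116888 1538 = true := by decide +kernel
theorem c_k3_77 : allRange (fun i => Nat.beq (Cfsg.Agent.Lib.Helper4.TCD.ONJ1.col3 i) (actW3 i)) 118426 1538 = true := by decide +kernel
theorem c_k3_78 : allRange (fun i => Nat.beq (Cfsg.Agent.Lib.Helper4.TCD.ONJ1.col3 i) (actW3 i)) 119964 1538 = true := by decide +kernel
theorem c_k3_79 : allRange (fun i => Nat.beq (Cfsg.Agent.Lib.Helper4.TCD.ONJ1.col3 i) (actW3 i)) 121502 1258 = true := by decide +kernel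

end Cfsg.Agent.Lib.Helper4.TCD.ONJ1K
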