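import Cfsg.Agent.Lib.Helper4.TCD_ONJ1_Acc

namespace Cfsg.Agent.Lib.Helper4.TCD.ONJ1

open Cfsg.Agent.Lib.Helper4.TC

set_option maxRecDepth 100000
set_option Elab.async false

theorem c_act2_23 : allRange (fun i => Nat.beq (actR2 i) i) 98555 4285 = true := by decide +kernel
theorem c_act2_24 : allRange (fun i => Nat.beq (actR2 i) i) 102840 4285 = true := by decide +kernel
theorem c_act2_25 : allRange (fun i => Nat.beq (actR2 i) i) 107125 4285 = true := by decide +kernel
theorem c_act2_26 : allRange (fun i => Nat.beq (actR2 i) i) 111410 4285 = true := by decide +kernel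
theorem c_act2_27 : allRange (fun i => Nat.beq (actR2 i) i) 115695 4285 = true := by decide +kernel
theorem c_act2_28 : allRange (fun i => Nat.beq (actR2 i) i) 119980 2780 = true := by decide +kernel
theorem c_act3_0 : allRange (fun i => Nat.beq (actR3 i) i) 0 857 = true := by decide +kernel
theorem c_act3_1 : allRange (fun i => Nat.beq (actR3 i) i) 857 857 = true := by decide +kernel
theorem c_act3_2 : allRange (fun i => Nat.beq (actR3 i) i) 1714 857 = true := by decide +kernel
theorem c_act3_3 : allRange (fun i => Nat.beq (actR3 i) i) 2571 857 = true := by decide +kernel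
theorem c_act3_4 : allRange (fun i => Nat.beq (actR3 i) i) 3428 857 = true := by decide +kernel
theorem c_act3_5 : allRange (fun i => Nat.beq (actR3 i) i) 4285 857 = true := by decide +kernel
theorem c_act3_6 : allRange (fun i => Nat.beq (actR3 i) i) 5142 857 = true := by decide +kernel
theorem c_act3_7 : allRange (fun i => Nat.beq (actR3 i) i) 5999 857 = true := by decide +kernel
theorem c_act3_8 : allRange (fun i => Nat.beq (actR3 i) i) 6856 857 = true := by decide +kernel
theorem c_act3_9 : allRange (fun i => Nat.beq (actR3 i) i) 7713 857 = true := by decide +kernel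
theorem c_act3_10 : allRange (fun i => Nat.beq (actR3 i) i) 8570 857 = true := by decide +kernel
theorem c_act3_11 : allRange (fun i => Nat.beq (actR3 i) i) 9427 857 = true := by decide +kernel
theorem c_act3_12 : allRange (fun i => Nat.beq (actR3 i) i) 10284 857 = true := by decide +kernel
theorem c_act3_13 : allRange (fun i => Nat.beq (actR3 i) i) 11141 857 = true := by decide +kernel
theorem c_act3_14 : allRange (fun i => Nat.beq (actR3 i) i) 11998 857 = true := by decide +kernel
theorem c_act3_15 : allRange (fun i => Nat.beq (actR3 i) i) 12855 857 = true := by decide +kernel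
theorem c_act3_16 : allRange (fun i => Nat.beq (actR3 i) i) 13712 857 = true := by decide +kernel
theorem c_act3_17 : allRange (fun i => Nat.beq (actR3 i) i) 14569 857 = true := by decide +kernel
theorem c_act3_18 : allRange (fun i => Nat.beq (actR3 i) i) 15426 857 = true := by decide +kernel
theorem c_act3_19 : allRange (fun i => Nat.beq (actR3 i) i) 16283 857 = true := by decide +kernel
theorem c_act3_20 : allRange (fun i => Nat.beq (actR3 i) i) 17140 857 = true := by decide +kernel
theorem c_act3_21 : allRange (fun i => Nat.beq (actR3 i) i) 17997 857 = true := by decide +kernel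
theorem c_act3_22 : allRange (fun i => Nat.beq (actR3 i) i) 18854 857 = true := by decide +kernel
theorem c_act3_23 : allRange (fun i => Nat.beq (actR3 i) i) 19711 857 = true := by decide +kernel
theorem c_act3_24 : allRange (fun i => Nat.beq (actR3 i) i) 20568 857 = true := by decide +kernel
theorem c_act3_25 : allRange (fun i => Nat.beq (actR3 i) i) 21425 857 = true := by decide +kernel
theorem c_act3_26 : allRange (fun i => Nat.beq (actR3 i) i) 22282 857 = true := by decide +kernel
theorem c_act3_27 : allRange (fun i => Nat.beq (actR3 i) i) 23139 857 = true := by decide +kernel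
theorem c_act3_28 : allRange (fun i => Nat.beq (actR3 i) i) 23996 857 = true := by decide +kernel
theorem c_act3_29 : allRange (fun i => Nat.beq (actR3 i) i) 24853 857 = true := by decide +kernel
theorem c_act3_30 : allRange (fun i => Nat.beq (actR3 i) i) 25710 857 = true := by decide +kernel
theorem c_act3_31 : allRange (fun i => Nat.beq (actR3 i) i) 26567 857 = true := by decide +kernel
theorem c_act3_32 : allRange (fun i => Nat.beq (actR3 i) i) 27424 857 = true := by decide +kernel
theorem c_act3_33 : allRange (fun i => Nat.beq (actR3 i) i) 28281 857 = true := by decide +kernel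
theorem c_act3_34 : allRange (fun i => Nat.beq (actR3 i) i) 29138 857 = true := by decide +kernel
theorem c_act3_35 : allRange (fun i => Nat.beq (actR3 i) i) 29995 857 = true := by decide +kernel
theorem c_act3_36 : allRange (fun i => Nat.beq (actR3 i) i) 30852 857 = true := by decide +kernel
theorem c_act3_37 : allRange (fun i => Nat.beq (actR3 i) i) 31709 857 = true := by decide +kernel
theorem c_act3_38 : allRange (fun i => Nat.beq (actR3 i) i) 32566 857 = true := by decide +kernel
theorem c_act3_39 : allRange (fun i => Nat.beq (actR3 i) i) 33423 857 = true := by decide +kernel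
theorem c_act3_40 : allRange (fun i => Nat.beq (actR3 i) i) 34280 857 = true := by decide +kernel
theorem c_act3_41 : allRange (fun i => Nat.beq (actR3 i) i) 35137 857 = true := by decide +kernel
theorem c_act3_42 : allRange (fun i => Nat.beq (actR3 i) i) 35994 857 = true := by decide +kernel
theorem c_act3_43 : allRange (fun i => Nat.beq (actR3 i) i) 36851 857 = true := by decide +kernel

end Cfsg.Agent.Lib.Helper4.TCD.ONJ1
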