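import Cfsg.Agent.Lib.Helper4.TCD_ONJ1_Acc

namespace Cfsg.Agent.Lib.Helper4.TCD.ONJ1

open Cfsg.Agent.Lib.Helper4.TC

set_option maxRecDepth 100000
set_option Elab.async false

theorem c_act3_44 : allRange (fun i => Nat.beq (actR3 i) i) 37708 857 = true := by decide +kernel
theorem c_act3_45 : allRange (fun i => Nat.beq (actR3 i) i) 38565 857 = true := by decide +kernel
theorem c_act3_46 : allRange (fun i => Nat.beq (actR3 i) i) 39422 857 = true := by decide +kernel
theorem c_act3_47 : allRange (fun i => Nat.beq (actR3 i) i) 40279 857 = true := by decide +kernel
theorem c_act3_48 : allRange (fun i => Nat.beq (actR3 i) i) 41136 857 = true := by decide +kernel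
theorem c_act3_49 : allRange (fun i => Nat.beq (actR3 i) i) 41993 857 = true := by decide +kernel
theorem c_act3_50 : allRange (fun i => Nat.beq (actR3 i) i) 42850 857 = true := by decide +kernel
theorem c_act3_51 : allRange (fun i => Nat.beq (actR3 i) i) 43707 857 = true := by decide +kernel
theorem c_act3_52 : allRange (fun i => Nat.beq (actR3 i) i) 44564 857 = true := by decide +kernel
theorem c_act3_53 : allRange (fun i => Nat.beq (actR3 i) i) 45421 857 = true := by decide +kernel
theorem c_act3_54 : allRange (fun i => Nat.beq (actR3 i) i) 46278 857 = true := by decide +kernel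
theorem c_act3_55 : allRange (fun i => Nat.beq (actR3 i) i) 47135 857 = true := by decide +kernel
theorem c_act3_56 : allRange (fun i => Nat.beq (actR3 i) i) 47992 857 = true := by decide +kernel
theorem c_act3_57 : allRange (fun i => Nat.beq (actR3 i) i) 48849 857 = true := by decide +kernel
theorem c_act3_58 : allRange (fun i => Nat.beq (actR3 i) i) 49706 857 = true := by decide +kernel
theorem c_act3_59 : allRange (fun i => Nat.beq (actR3 i) i) 50563 857 = true := by decide +kernel
theorem c_act3_60 : allRange (fun i => Nat.beq (actR3 i) i) 51420 857 = true := by decide +kernel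
theorem c_act3_61 : allRange (fun i => Nat.beq (actR3 i) i) 52277 857 = true := by decide +kernel
theorem c_act3_62 : allRange (fun i => Nat.beq (actR3 i) i) 53134 857 = true := by decide +kernel
theorem c_act3_63 : allRange (fun i => Nat.beq (actR3 i) i) 53991 857 = true := by decide +kernel
theorem c_act3_64 : allRange (fun i => Nat.beq (actR3 i) i) 54848 857 = true := by decide +kernel
theorem c_act3_65 : allRange (fun i => Nat.beq (actR3 i) i) 55705 857 = true := by decide +kernel
theorem c_act3_66 : allRange (fun i => Nat.beq (actR3 i) i) 56562 857 = true := by decide +kernel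
theorem c_act3_67 : allRange (fun i => Nat.beq (actR3 i) i) 57419 857 = true := by decide +kernel
theorem c_act3_68 : allRange (fun i => Nat.beq (actR3 i) i) 58276 857 = true := by decide +kernel
theorem c_act3_69 : allRange (fun i => Nat.beq (actR3 i) i) 59133 857 = true := by decide +kernel
theorem c_act3_70 : allRange (fun i => Nat.beq (actR3 i) i) 59990 857 = true := by decide +kernel
theorem c_act3_71 : allRange (fun i => Nat.beq (actR3 i) i) 60847 857 = true := by decide +kernel
theorem c_act3_72 : allRange (fun i => Nat.beq (actR3 i) i) 61704 857 = true := by decide +kernel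
theorem c_act3_73 : allRange (fun i => Nat.beq (actR3 i) i) 62561 857 = true := by decide +kernel
theorem c_act3_74 : allRange (fun i => Nat.beq (actR3 i) i) 63418 857 = true := by decide +kernel
theorem c_act3_75 : allRange (fun i => Nat.beq (actR3 i) i) 64275 857 = true := by decide +kernel
theorem c_act3_76 : allRange (fun i => Nat.beq (actR3 i) i) 65132 857 = true := by decide +kernel
theorem c_act3_77 : allRange (fun i => Nat.beq (actR3 i) i) 65989 857 = true := by decide +kernel
theorem c_act3_78 : allRange (fun i => Nat.beq (actR3 i) i) 66846 857 = true := by decide +kernel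
theorem c_act3_79 : allRange (fun i => Nat.beq (actR3 i) i) 67703 857 = true := by decide +kernel
theorem c_act3_80 : allRange (fun i => Nat.beq (actR3 i) i) 68560 857 = true := by decide +kernel
theorem c_act3_81 : allRange (fun i => Nat.beq (actR3 i) i) 69417 857 = true := by decide +kernel
theorem c_act3_82 : allRange (fun i => Nat.beq (actR3 i) i) 70274 857 = true := by decide +kernel
theorem c_act3_83 : allRange (fun i => Nat.beq (actR3 i) i) 71131 857 = true := by decide +kernel
theorem c_act3_84 : allRange (fun i => Nat.beq (actR3 i) i) 71988 857 = true := by decide +kernel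
theorem c_act3_85 : allRange (fun i => Nat.beq (actR3 i) i) 72845 857 = true := by decide +kernel
theorem c_act3_86 : allRange (fun i => Nat.beq (actR3 i) i) 73702 857 = true := by decide +kernel
theorem c_act3_87 : allRange (fun i => Nat.beq (actR3 i) i) 74559 857 = true := by decide +kernel
theorem c_act3_88 : allRange (fun i => Nat.beq (actR3 i) i) 75416 857 = true := by decide +kernel
theorem c_act3_89 : allRange (fun i => Nat.beq (actR3 i) i) 76273 857 = true := by decide +kernel
theorem c_act3_90 : allRange (fun i => Nat.beq (actR3 i) i) 77130 857 = true := by decide +kernel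
theorem c_act3_91 : allRange (fun i => Nat.beq (actR3 i) i) 77987 857 = true := by decide +kernel
theorem c_act3_92 : allRange (fun i => Nat.beq (actR3 i) i) 78844 857 = true := by decide +kernel
theorem c_act3_93 : allRange (fun i => Nat.beq (actR3 i) i) 79701 857 = true := by decide +kernel

end Cfsg.Agent.Lib.Helper4.TCD.ONJ1
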