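import Cfsg.Agent.Lib.Helper4.TCD_ONJ1_Acc

namespace Cfsg.Agent.Lib.Helper4.TCD.ONJ1

open Cfsg.Agent.Lib.Helper4.TC

set_option maxRecDepth 100000
set_option Elab.async false

theorem c_act3_94 : allRange (fun i => Nat.beq (actR3 i) i) 80558 857 = true := by decide +kernel
theorem c_act3_95 : allRange (fun i => Nat.beq (actR3 i) i) 81415 857 = true := by decide +kernel
theorem c_act3_96 : allRange (fun i => Nat.beq (actR3 i) i) 82272 857 = true := by decide +kernel
theorem c_act3_97 : allRange (fun i => Nat.beq (actR3 i) i) 83129 857 = true := by decide +kernel
theorem c_act3_98 : allRange (fun i => Nat.beq (actR3 i) i) 83986 857 = true := by decide +kernel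
theorem c_act3_99 : allRange (fun i => Nat.beq (actR3 i) i) 84843 857 = true := by decide +kernel
theorem c_act3_100 : allRange (fun i => Nat.beq (actR3 i) i) 85700 857 = true := by decide +kernel
theorem c_act3_101 : allRange (fun i => Nat.beq (actR3 i) i) 86557 857 = true := by decide +kernel
theorem c_act3_102 : allRange (fun i => Nat.beq (actR3 i) i) 87414 857 = true := by decide +kernel
theorem c_act3_103 : allRange (fun i => Nat.beq (actR3 i) i) 88271 857 = true := by decide +kernel
theorem c_act3_104 : allRange (fun i => Nat.beq (actR3 i) i) 89128 857 = true := by decide +kernel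
theorem c_act3_105 : allRange (fun i => Nat.beq (actR3 i) i) 89985 857 = true := by decide +kernel
theorem c_act3_106 : allRange (fun i => Nat.beq (actR3 i) i) 90842 857 = true := by decide +kernel
theorem c_act3_107 : allRange (fun i => Nat.beq (actR3 i) i) 91699 857 = true := by decide +kernel
theorem c_act3_108 : allRange (fun i => Nat.beq (actR3 i) i) 92556 857 = true := by decide +kernel
theorem c_act3_109 : allRange (fun i => Nat.beq (actR3 i) i) 93413 857 = true := by decide +kernel
theorem c_act3_110 : allRange (fun i => Nat.beq (actR3 i) i) 94270 857 = true := by decide +kernel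
theorem c_act3_111 : allRange (fun i => Nat.beq (actR3 i) i) 95127 857 = true := by decide +kernel
theorem c_act3_112 : allRange (fun i => Nat.beq (actR3 i) i) 95984 857 = true := by decide +kernel
theorem c_act3_113 : allRange (fun i => Nat.beq (actR3 i) i) 96841 857 = true := by decide +kernel
theorem c_act3_114 : allRange (fun i => Nat.beq (actR3 i) i) 97698 857 = true := by decide +kernel
theorem c_act3_115 : allRange (fun i => Nat.beq (actR3 i) i) 98555 857 = true := by decide +kernel
theorem c_act3_116 : allRange (fun i => Nat.beq (actR3 i) i) 99412 857 = true := by decide +kernel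
theorem c_act3_117 : allRange (fun i => Nat.beq (actR3 i) i) 100269 857 = true := by decide +kernel
theorem c_act3_118 : allRange (fun i => Nat.beq (actR3 i) i) 101126 857 = true := by decide +kernel
theorem c_act3_119 : allRange (fun i => Nat.beq (actR3 i) i) 101983 857 = true := by decide +kernel
theorem c_act3_120 : allRange (fun i => Nat.beq (actR3 i) i) 102840 857 = true := by decide +kernel
theorem c_act3_121 : allRange (fun i => Nat.beq (actR3 i) i) 103697 857 = true := by decide +kernel
theorem c_act3_122 : allRange (fun i => Nat.beq (actR3 i) i) 104554 857 = true := by decide +kernel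
theorem c_act3_123 : allRange (fun i => Nat.beq (actR3 i) i) 105411 857 = true := by decide +kernel
theorem c_act3_124 : allRange (fun i => Nat.beq (actR3 i) i) 106268 857 = true := by decide +kernel
theorem c_act3_125 : allRange (fun i => Nat.beq (actR3 i) i) 107125 857 = true := by decide +kernel
theorem c_act3_126 : allRange (fun i => Nat.beq (actR3 i) i) 107982 857 = true := by decide +kernel
theorem c_act3_127 : allRange (fun i => Nat.beq (actR3 i) i) 108839 857 = true := by decide +kernel
theorem c_act3_128 : allRange (fun i => Nat.beq (actR3 i) i) 109696 857 = true := by decide +kernel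
theorem c_act3_129 : allRange (fun i => Nat.beq (actR3 i) i) 110553 857 = true := by decide +kernel
theorem c_act3_130 : allRange (fun i => Nat.beq (actR3 i) i) 111410 857 = true := by decide +kernel
theorem c_act3_131 : allRange (fun i => Nat.beq (actR3 i) i) 112267 857 = true := by decide +kernel
theorem c_act3_132 : allRange (fun i => Nat.beq (actR3 i) i) 113124 857 = true := by decide +kernel
theorem c_act3_133 : allRange (fun i => Nat.beq (actR3 i) i) 113981 857 = true := by decide +kernel
theorem c_act3_134 : allRange (fun i => Nat.beq (actR3 i) i) 114838 857 = true := by decide +kernel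
theorem c_act3_135 : allRange (fun i => Nat.beq (actR3 i) i) 115695 857 = true := by decide +kernel
theorem c_act3_136 : allRange (fun i => Nat.beq (actR3 i) i) 116552 857 = true := by decide +kernel
theorem c_act3_137 : allRange (fun i => Nat.beq (actR3 i) i) 117409 857 = true := by decide +kernel
theorem c_act3_138 : allRange (fun i => Nat.beq (actR3 i) i) 118266 857 = true := by decide +kernel
theorem c_act3_139 : allRange (fun i => Nat.beq (actR3 i) i) 119123 857 = true := by decide +kernel
theorem c_act3_140 : allRange (fun i => Nat.beq (actR3 i) i) 119980 857 = true := by decide +kernel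
theorem c_act3_141 : allRange (fun i => Nat.beq (actR3 i) i) 120837 857 = true := by decide +kernel
theorem c_act3_142 : allRange (fun i => Nat.beq (actR3 i) i) 121694 857 = true := by decide +kernel
theorem c_act3_143 : allRange (fun i => Nat.beq (actR3 i) i) 122551 209 = true := by decide +kernel

end Cfsg.Agent.Lib.Helper4.TCD.ONJ1
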