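import Cfsg.Agent.Lib.Helper4.TCD_ONJ1_Acc

namespace Cfsg.Agent.Lib.Helper4.TCD.ONJ1

open Cfsg.Agent.Lib.Helper4.TC

set_option maxRecDepth 100000
set_option Elab.async false

theorem c_act4_0 : allRange (fun i => Nat.beq (actR4 i) i) 0 882 = true := by decide +kernel
theorem c_act4_1 : allRange (fun i => Nat.beq (actR4 i) i) 882 882 = true := by decide +kernel
theorem c_act4_2 : allRange (fun i => Nat.beq (actR4 i) i) 1764 882 = true := by decide +kernel
theorem c_act4_3 : allRange (fun i => Nat.beq (actR4 i) i) 2646 882 = true := by decide +kernel
theorem c_act4_4 : allRange (fun i => Nat.beq (actR4 i) i) 3528 882 = true := by decide +kernel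
theorem c_act4_5 : allRange (fun i => Nat.beq (actR4 i) i) 4410 882 = true := by decide +kernel
theorem c_act4_6 : allRange (fun i => Nat.beq (actR4 i) i) 5292 882 = true := by decide +kernel
theorem c_act4_7 : allRange (fun i => Nat.beq (actR4 i) i) 6174 882 = true := by decide +kernel
theorem c_act4_8 : allRange (fun i => Nat.beq (actR4 i) i) 7056 882 = true := by decide +kernel
theorem c_act4_9 : allRange (fun i => Nat.beq (actR4 i) i) 7938 882 = true := by decide +kernel
theorem c_act4_10 : allRange (fun i => Nat.beq (actR4 i) i) 8820 882 = true := by decide +kernel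
theorem c_act4_11 : allRange (fun i => Nat.beq (actR4 i) i) 9702 882 = true := by decide +kernel
theorem c_act4_12 : allRange (fun i => Nat.beq (actR4 i) i) 10584 882 = true := by decide +kernel
theorem c_act4_13 : allRange (fun i => Nat.beq (actR4 i) i) 11466 882 = true := by decide +kernel
theorem c_act4_14 : allRange (fun i => Nat.beq (actR4 i) i) 12348 882 = true := by decide +kernel
theorem c_act4_15 : allRange (fun i => Nat.beq (actR4 i) i) 13230 882 = true := by decide +kernel
theorem c_act4_16 : allRange (fun i => Nat.beq (actR4 i) i) 14112 882 = true := by decide +kernel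
theorem c_act4_17 : allRange (fun i => Nat.beq (actR4 i) i) 14994 882 = true := by decide +kernel
theorem c_act4_18 : allRange (fun i => Nat.beq (actR4 i) i) 15876 882 = true := by decide +kernel
theorem c_act4_19 : allRange (fun i => Nat.beq (actR4 i) i) 16758 882 = true := by decide +kernel
theorem c_act4_20 : allRange (fun i => Nat.beq (actR4 i) i) 17640 882 = true := by decide +kernel
theorem c_act4_21 : allRange (fun i => Nat.beq (actR4 i) i) 18522 882 = true := by decide +kernel
theorem c_act4_22 : allRange (fun i => Nat.beq (actR4 i) i) 19404 882 = true := by decide +kernel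
theorem c_act4_23 : allRange (fun i => Nat.beq (actR4 i) i) 20286 882 = true := by decide +kernel
theorem c_act4_24 : allRange (fun i => Nat.beq (actR4 i) i) 21168 882 = true := by decide +kernel
theorem c_act4_25 : allRange (fun i => Nat.beq (actR4 i) i) 22050 882 = true := by decide +kernel
theorem c_act4_26 : allRange (fun i => Nat.beq (actR4 i) i) 22932 882 = true := by decide +kernel
theorem c_act4_27 : allRange (fun i => Nat.beq (actR4 i) i) 23814 882 = true := by decide +kernel
theorem c_act4_28 : allRange (fun i => Nat.beq (actR4 i) i) 24696 882 = true := by decide +kernel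
theorem c_act4_29 : allRange (fun i => Nat.beq (actR4 i) i) 25578 882 = true := by decide +kernel
theorem c_act4_30 : allRange (fun i => Nat.beq (actR4 i) i) 26460 882 = true := by decide +kernel
theorem c_act4_31 : allRange (fun i => Nat.beq (actR4 i) i) 27342 882 = true := by decide +kernel
theorem c_act4_32 : allRange (fun i => Nat.beq (actR4 i) i) 28224 882 = true := by decide +kernel
theorem c_act4_33 : allRange (fun i => Nat.beq (actR4 i) i) 29106 882 = true := by decide +kernel
theorem c_act4_34 : allRange (fun i => Nat.beq (actR4 i) i) 29988 882 = true := by decide +kernel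
theorem c_act4_35 : allRange (fun i => Nat.beq (actR4 i) i) 30870 882 = true := by decide +kernel
theorem c_act4_36 : allRange (fun i => Nat.beq (actR4 i) i) 31752 882 = true := by decide +kernel
theorem c_act4_37 : allRange (fun i => Nat.beq (actR4 i) i) 32634 882 = true := by decide +kernel
theorem c_act4_38 : allRange (fun i => Nat.beq (actR4 i) i) 33516 882 = true := by decide +kernel
theorem c_act4_39 : allRange (fun i => Nat.beq (actR4 i) i) 34398 882 = true := by decide +kernel
theorem c_act4_40 : allRange (fun i => Nat.beq (actR4 i) i) 35280 882 = true := by decide +kernel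
theorem c_act4_41 : allRange (fun i => Nat.beq (actR4 i) i) 36162 882 = true := by decide +kernel
theorem c_act4_42 : allRange (fun i => Nat.beq (actR4 i) i) 37044 882 = true := by decide +kernel
theorem c_act4_43 : allRange (fun i => Nat.beq (actR4 i) i) 37926 882 = true := by decide +kernel
theorem c_act4_44 : allRange (fun i => Nat.beq (actR4 i) i) 38808 882 = true := by decide +kernel
theorem c_act4_45 : allRange (fun i => Nat.beq (actR4 i) i) 39690 882 = true := by decide +kernel
theorem c_act4_46 : allRange (fun i => Nat.beq (actR4 i) i) 40572 882 = true := by decide +kernel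
theorem c_act4_47 : allRange (fun i => Nat.beq (actR4 i) i) 41454 882 = true := by decide +kernel
theorem c_act4_48 : allRange (fun i => Nat.beq (actR4 i) i) 42336 882 = true := by decide +kernel
theorem c_act4_49 : allRange (fun i => Nat.beq (actR4 i) i) 43218 882 = true := by decide +kernel

end Cfsg.Agent.Lib.Helper4.TCD.ONJ1
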