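import Cfsg.Agent.Lib.Helper4.TCD_ONJ1_Acc

namespace Cfsg.Agent.Lib.Helper4.TCD.ONJ1

open Cfsg.Agent.Lib.Helper4.TC

set_option maxRecDepth 100000
set_option Elab.async false

theorem c_act4_50 : allRange (fun i => Nat.beq (actR4 i) i) 44100 882 = true := by decide +kernel
theorem c_act4_51 : allRange (fun i => Nat.beq (actR4 i) i) 44982 882 = true := by decide +kernel
theorem c_act4_52 : allRange (fun i => Nat.beq (actR4 i) i) 45864 882 = true := by decide +kernel
theorem c_act4_53 : allRange (fun i => Nat.beq (actR4 i) i) 46746 882 = true := by decide +kernel
theorem c_act4_54 : allRange (fun i => Nat.beq (actR4 i) i) 47628 882 = true := by decide +kernel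
theorem c_act4_55 : allRange (fun i => Nat.beq (actR4 i) i) 48510 882 = true := by decide +kernel
theorem c_act4_56 : allRange (fun i => Nat.beq (actR4 i) i) 49392 882 = true := by decide +kernel
theorem c_act4_57 : allRange (fun i => Nat.beq (actR4 i) i) 50274 882 = true := by decide +kernel
theorem c_act4_58 : allRange (fun i => Nat.beq (actR4 i) i) 51156 882 = true := by decide +kernel
theorem c_act4_59 : allRange (fun i => Nat.beq (actR4 i) i) 52038 882 = true := by decide +kernel
theorem c_act4_60 : allRange (fun i => Nat.beq (actR4 i) i) 52920 882 = true := by decide +kernel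
theorem c_act4_61 : allRange (fun i => Nat.beq (actR4 i) i) 53802 882 = true := by decide +kernel
theorem c_act4_62 : allRange (fun i => Nat.beq (actR4 i) i) 54684 882 = true := by decide +kernel
theorem c_act4_63 : allRange (fun i => Nat.beq (actR4 i) i) 55566 882 = true := by decide +kernel
theorem c_act4_64 : allRange (fun i => Nat.beq (actR4 i) i) 56448 882 = true := by decide +kernel
theorem c_act4_65 : allRange (fun i => Nat.beq (actR4 i) i) 57330 882 = true := by decide +kernel
theorem c_act4_66 : allRange (fun i => Nat.beq (actR4 i) i) 58212 882 = true := by decide +kernel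
theorem c_act4_67 : allRange (fun i => Nat.beq (actR4 i) i) 59094 882 = true := by decide +kernel
theorem c_act4_68 : allRange (fun i => Nat.beq (actR4 i) i) 59976 882 = true := by decide +kernel
theorem c_act4_69 : allRange (fun i => Nat.beq (actR4 i) i) 60858 882 = true := by decide +kernel
theorem c_act4_70 : allRange (fun i => Nat.beq (actR4 i) i) 61740 882 = true := by decide +kernel
theorem c_act4_71 : allRange (fun i => Nat.beq (actR4 i) i) 62622 882 = true := by decide +kernel
theorem c_act4_72 : allRange (fun i => Nat.beq (actR4 i) i) 63504 882 = true := by decide +kernel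
theorem c_act4_73 : allRange (fun i => Nat.beq (actR4 i) i) 64386 882 = true := by decide +kernel
theorem c_act4_74 : allRange (fun i => Nat.beq (actR4 i) i) 65268 882 = true := by decide +kernel
theorem c_act4_75 : allRange (fun i => Nat.beq (actR4 i) i) 66150 882 = true := by decide +kernel
theorem c_act4_76 : allRange (fun i => Nat.beq (actR4 i) i) 67032 882 = true := by decide +kernel
theorem c_act4_77 : allRange (fun i => Nat.beq (actR4 i) i) 67914 882 = true := by decide +kernel
theorem c_act4_78 : allRange (fun i => Nat.beq (actR4 i) i) 68796 882 = true := by decide +kernel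
theorem c_act4_79 : allRange (fun i => Nat.beq (actR4 i) i) 69678 882 = true := by decide +kernel
theorem c_act4_80 : allRange (fun i => Nat.beq (actR4 i) i) 70560 882 = true := by decide +kernel
theorem c_act4_81 : allRange (fun i => Nat.beq (actR4 i) i) 71442 882 = true := by decide +kernel
theorem c_act4_82 : allRange (fun i => Nat.beq (actR4 i) i) 72324 882 = true := by decide +kernel
theorem c_act4_83 : allRange (fun i => Nat.beq (actR4 i) i) 73206 882 = true := by decide +kernel
theorem c_act4_84 : allRange (fun i => Nat.beq (actR4 i) i) 74088 882 = true := by decide +kernel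
theorem c_act4_85 : allRange (fun i => Nat.beq (actR4 i) i) 74970 882 = true := by decide +kernel
theorem c_act4_86 : allRange (fun i => Nat.beq (actR4 i) i) 75852 882 = true := by decide +kernel
theorem c_act4_87 : allRange (fun i => Nat.beq (actR4 i) i) 76734 882 = true := by decide +kernel
theorem c_act4_88 : allRange (fun i => Nat.beq (actR4 i) i) 77616 882 = true := by decide +kernel
theorem c_act4_89 : allRange (fun i => Nat.beq (actR4 i) i) 78498 882 = true := by decide +kernel
theorem c_act4_90 : allRange (fun i => Nat.beq (actR4 i) i) 79380 882 = true := by decide +kernel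
theorem c_act4_91 : allRange (fun i => Nat.beq (actR4 i) i) 80262 882 = true := by decide +kernel
theorem c_act4_92 : allRange (fun i => Nat.beq (actR4 i) i) 81144 882 = true := by decide +kernel
theorem c_act4_93 : allRange (fun i => Nat.beq (actR4 i) i) 82026 882 = true := by decide +kernel
theorem c_act4_94 : allRange (fun i => Nat.beq (actR4 i) i) 82908 882 = true := by decide +kernel
theorem c_act4_95 : allRange (fun i => Nat.beq (actR4 i) i) 83790 882 = true := by decide +kernel
theorem c_act4_96 : allRange (fun i => Nat.beq (actR4 i) i) 84672 882 = true := by decide +kernel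
theorem c_act4_97 : allRange (fun i => Nat.beq (actR4 i) i) 85554 882 = true := by decide +kernel
theorem c_act4_98 : allRange (fun i => Nat.beq (actR4 i) i) 86436 882 = true := by decide +kernel
theorem c_act4_99 : allRange (fun i => Nat.beq (actR4 i) i) 87318 882 = true := by decide +kernel

end Cfsg.Agent.Lib.Helper4.TCD.ONJ1
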