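import Cfsg.Agent.Lib.Helper4.TCD_ONJ1_Acc

namespace Cfsg.Agent.Lib.Helper4.TCD.ONJ1

open Cfsg.Agent.Lib.Helper4.TC

set_option maxRecDepth 100000
set_option Elab.async false

theorem c_act4_100 : allRange (fun i => Nat.beq (actR4 i) i) 88200 882 = true := by decide +kernel
theorem c_act4_101 : allRange (fun i => Nat.beq (actR4 i) i) 89082 882 = true := by decide +kernel
theorem c_act4_102 : allRange (fun i => Nat.beq (actR4 i) i) 89964 882 = true := by decide +kernel
theorem c_act4_103 : allRange (fun i => Nat.beq (actR4 i) i) 90846 882 = true := by decide +kernel
theorem c_act4_104 : allRange (fun i => Nat.beq (actR4 i) i) 91728 882 = true := by decide +kernel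
theorem c_act4_105 : allRange (fun i => Nat.beq (actR4 i) i) 92610 882 = true := by decide +kernel
theorem c_act4_106 : allRange (fun i => Nat.beq (actR4 i) i) 93492 882 = true := by decide +kernel
theorem c_act4_107 : allRange (fun i => Nat.beq (actR4 i) i) 94374 882 = true := by decide +kernel
theorem c_act4_108 : allRange (fun i => Nat.beq (actR4 i) i) 95256 882 = true := by decide +kernel
theorem c_act4_109 : allRange (fun i => Nat.beq (actR4 i) i) 96138 882 = true := by decide +kernel
theorem c_act4_110 : allRange (fun i => Nat.beq (actR4 i) i) 97020 882 = true := by decide +kernel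
theorem c_act4_111 : allRange (fun i => Nat.beq (actR4 i) i) 97902 882 = true := by decide +kernel
theorem c_act4_112 : allRange (fun i => Nat.beq (actR4 i) i) 98784 882 = true := by decide +kernel
theorem c_act4_113 : allRange (fun i => Nat.beq (actR4 i) i) 99666 882 = true := by decide +kernel
theorem c_act4_114 : allRange (fun i => Nat.beq (actR4 i) i) 100548 882 = true := by decide +kernel
theorem c_act4_115 : allRange (fun i => Nat.beq (actR4 i) i) 101430 882 = true := by decide +kernel
theorem c_act4_116 : allRange (fun i => Nat.beq (actR4 i) i) 102312 882 = true := by decide +kernel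
theorem c_act4_117 : allRange (fun i => Nat.beq (actR4 i) i) 103194 882 = true := by decide +kernel
theorem c_act4_118 : allRange (fun i => Nat.beq (actR4 i) i) 104076 882 = true := by decide +kernel
theorem c_act4_119 : allRange (fun i => Nat.beq (actR4 i) i) 104958 882 = true := by decide +kernel
theorem c_act4_120 : allRange (fun i => Nat.beq (actR4 i) i) 105840 882 = true := by decide +kernel
theorem c_act4_121 : allRange (fun i => Nat.beq (actR4 i) i) 106722 882 = true := by decide +kernel
theorem c_act4_122 : allRange (fun i => Nat.beq (actR4 i) i) 107604 882 = true := by decide +kernel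
theorem c_act4_123 : allRange (fun i => Nat.beq (actR4 i) i) 108486 882 = true := by decide +kernel
theorem c_act4_124 : allRange (fun i => Nat.beq (actR4 i) i) 109368 882 = true := by decide +kernel
theorem c_act4_125 : allRange (fun i => Nat.beq (actR4 i) i) 110250 882 = true := by decide +kernel
theorem c_act4_126 : allRange (fun i => Nat.beq (actR4 i) i) 111132 882 = true := by decide +kernel
theorem c_act4_127 : allRange (fun i => Nat.beq (actR4 i) i) 112014 882 = true := by decide +kernel
theorem c_act4_128 : allRange (fun i => Nat.beq (actR4 i) i) 112896 882 = true := by decide +kernel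
theorem c_act4_129 : allRange (fun i => Nat.beq (actR4 i) i) 113778 882 = true := by decide +kernel
theorem c_act4_130 : allRange (fun i => Nat.beq (actR4 i) i) 114660 882 = true := by decide +kernel
theorem c_act4_131 : allRange (fun i => Nat.beq (actR4 i) i) 115542 882 = true := by decide +kernel
theorem c_act4_132 : allRange (fun i => Nat.beq (actR4 i) i) 116424 882 = true := by decide +kernel
theorem c_act4_133 : allRange (fun i => Nat.beq (actR4 i) i) 117306 882 = true := by decide +kernel
theorem c_act4_134 : allRange (fun i => Nat.beq (actR4 i) i) 118188 882 = true := by decide +kernel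
theorem c_act4_135 : allRange (fun i => Nat.beq (actR4 i) i) 119070 882 = true := by decide +kernel
theorem c_act4_136 : allRange (fun i => Nat.beq (actR4 i) i) 119952 882 = true := by decide +kernel
theorem c_act4_137 : allRange (fun i => Nat.beq (actR4 i) i) 120834 882 = true := by decide +kernel
theorem c_act4_138 : allRange (fun i => Nat.beq (actR4 i) i) 121716 882 = true := by decide +kernel
theorem c_act4_139 : allRange (fun i => Nat.beq (actR4 i) i) 122598 162 = true := by decide +kernel

end Cfsg.Agent.Lib.Helper4.TCD.ONJ1
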