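import Cfsg.Agent.Lib.Helper4.TCD_ONJ1_C0
import Cfsg.Agent.Lib.Helper4.TCD_ONJ1_C1
import Cfsg.Agent.Lib.Helper4.TCD_ONJ1_C2
import Cfsg.Agent.Lib.Helper4.TCD_ONJ1_C3
import Cfsg.Agent.Lib.Helper4.TCD_ONJ1_C4
import Cfsg.Agent.Lib.Helper4.TCD_ONJ1_C5
import Cfsg.Agent.Lib.Helper4.TCD_ONJ1_C6

namespace Cfsg.Agent.Lib.Helper4.TCD.ONJ1

open Cfsg.Agent.Lib.Helper4.TC

theorem h_perm : ∀ i, 0 ≤ i → i < 122760 → ∀ x, x < 4 → T.permOK1 D i x = true :=
  (range_glue (range_of_allGrid c_perm_0) (range_glue (range_of_allGrid c_perm_1) (range_glue (range_of_allGrid c_perm_2) (range_glue (range_of_allGrid c_perm_3) (range_glue (range_of_allGrid c_perm_4) (range_glue (range_of_allGrid c_perm_5) (range_glue (range_of_allGrid c_perm_6) (range_glue (range_of_allGrid c_perm_7) (range_glue (range_of_allGrid c_perm_8) (range_glue (range_of_allGrid c_perm_9) (range_glue (range_of_allGrid c_perm_10) (range_glue (range_of_allGrid c_perm_11) (range_glue (range_of_allGrid c_perm_12) (range_glue (range_of_allGrid c_perm_13) (range_glue (range_of_allGrid c_perm_14) (range_glue (range_of_allGrid c_perm_15) (range_of_allGrid c_perm_16)))))))))))))))))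
theorem h_act0 : ∀ i, 0 ≤ i → i < 122760 → Nat.beq (actR0 i) i = true :=
  (range_glue (range_of_allRange c_act0_0) (range_glue (range_of_allRange c_act0_1) (range_glue (range_of_allRange c_act0_2) (range_glue (range_of_allRange c_act0_3) (range_of_allRange c_act0_4)))))
theorem h_act1 : ∀ i, 0 ≤ i → i < 122760 → Nat.beq (actR1 i) i = true :=
  (range_glue (range_of_allRange c_act1_0) (range_glue (range_of_allRange c_act1_1) (range_glue (range_of_allRange c_act1_2) (range_glue (range_of_allRange c_act1_3) (range_glue (range_of_allRange c_act1_4) (range_glue (range_of_allRange c_act1_5) (range_of_allRange c_act1_6)))))))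
theorem h_act2 : ∀ i, 0 ≤ i → i < 122760 → Nat.beq (actR2 i) i = true :=
  (range_glue (range_of_allRange c_act2_0) (range_glue (range_of_allRange c_act2_1) (range_glue (range_of_allRange c_act2_2) (range_glue (range_of_allRange c_act2_3) (range_glue (range_of_allRange c_act2_4) (range_glue (range_of_allRange c_act2_5) (range_glue (range_of_allRange c_act2_6) (range_glue (range_of_allRange c_act2_7) (range_glue (range_of_allRange c_act2_8) (range_glue (range_of_allRange c_act2_9) (range_glue (range_of_allRange c_act2_10) (range_glue (range_of_allRange c_act2_11) (range_glue (range_of_allRange c_act2_12) (range_glue (range_of_allRange c_act2_13) (range_glue (range_of_allRange c_act2_14) (range_glue (range_of_allRange c_act2_15) (range_glue (range_of_allRange c_act2_16) (range_glue (range_of_allRange c_act2_17) (range_glue (range_of_allRange c_act2_18) (range_glue (range_of_allRange c_act2_19) (range_glue (range_of_allRange c_act2_20) (range_glue (range_of_allRange c_act2_21) (range_glue (range_of_allRange c_act2_22) (range_glue (range_of_allRange c_act2_23) (range_glue (range_of_allRange c_act2_24) (range_glue (range_of_allRange c_act2_25) (range_glue (range_of_allRange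 c_act2_26) (range_glue (range_of_allRange c_act2_27) (range_of_allRange c_act2_28)))))))))))))))))))))))))))))
theorem h_act3_p0 : ∀ i, 0 ≤ i → i < 34280 → Nat.beq (actR3 i) i = true :=
  (range_glue (range_of_allRange c_act3_0) (range_glue (range_of_allRange c_act3_1) (range_glue (range_of_allRange c_act3_2) (range_glue (range_of_allRange c_act3_3) (range_glue (range_of_allRange c_act3_4) (range_glue (range_of_allRange c_act3_5) (range_glue (range_of_allRange c_act3_6) (range_glue (range_of_allRange c_act3_7) (range_glue (range_of_allRange c_act3_8) (range_glue (range_of_allRange c_act3_9) (range_glue (range_of_allRange c_act3_10) (range_glue (range_of_allRange c_act3_11) (range_glue (range_of_allRange c_act3_12) (range_glue (range_of_allRange c_act3_13) (range_glue (range_of_allRange c_act3_14) (range_glue (range_of_allRange c_act3_15) (range_glue (range_of_allRange c_act3_16) (range_glue (range_of_allRange c_act3_17) (range_glue (range_of_allRange c_act3_18) (range_glue (range_of_allRange c_act3_19) (range_glue (range_of_allRange c_act3_20) (range_glue (range_of_allRange c_act3_21) (range_glue (range_of_allRange c_act3_22) (range_glue (range_of_allRange c_act3_23)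 (range_glue (range_of_allRange c_act3_24) (range_glue (range_of_allRange c_act3_25) (range_glue (range_of_allRange c_act3_26) (range_glue (range_of_allRange c_act3_27) (range_glue (range_of_allRange c_act3_28) (range_glue (range_of_allRange c_act3_29) (range_glue (range_of_allRange c_act3_30) (range_glue (range_of_allRange c_act3_31) (range_glue (range_of_allRange c_act3_32) (range_glue (range_of_allRange c_act3_33) (range_glue (range_of_allRange c_act3_34) (range_glue (range_of_allRange c_act3_35) (range_glue (range_of_allRange c_act3_36) (range_glue (range_of_allRange c_act3_37) (range_glue (range_of_allRange c_act3_38) (range_of_allRange c_act3_39))))))))))))))))))))))))))))))))))))))))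
theorem h_act3_p1 : ∀ i, 34280 ≤ i → i < 68560 → Nat.beq (actR3 i) i = true :=
  (range_glue (range_of_allRange c_act3_40) (range_glue (range_of_allRange c_act3_41) (range_glue (range_of_allRange c_act3_42) (range_glue (range_of_allRange c_act3_43) (range_glue (range_of_allRange c_act3_44) (range_glue (range_of_allRange c_act3_45) (range_glue (range_of_allRange c_act3_46) (range_glue (range_of_allRange c_act3_47) (range_glue (range_of_allRange c_act3_48) (range_glue (range_of_allRange c_act3_49) (range_glue (range_of_allRange c_act3_50) (range_glue (range_of_allRange c_act3_51) (range_glue (range_of_allRange c_act3_52) (range_glue (range_of_allRange c_act3_53) (range_glue (range_of_allRange c_act3_54) (range_glue (range_of_allRange c_act3_55) (range_glue (range_of_allRange c_act3_56) (range_glue (range_of_allRange c_act3_57) (range_glue (range_of_allRange c_act3_58) (range_glue (range_of_allRange c_act3_59) (range_glue (range_of_allRange c_act3_60) (range_glue (range_of_allRange c_act3_61) (range_glue (range_of_allRange c_act3_62) (range_glue (range_of_allRange c_act3_63) (range_glue (range_of_allRange c_act3_64) (range_glue (range_of_allRange c_act3_65) (range_glue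 (range_of_allRange c_act3_66) (range_glue (range_of_allRange c_act3_67) (range_glue (range_of_allRange c_act3_68) (range_glue (range_of_allRange c_act3_69) (range_glue (range_of_allRange c_act3_70) (range_glue (range_of_allRange c_act3_71) (range_glue (range_of_allRange c_act3_72) (range_glue (range_of_allRange c_act3_73) (range_glue (range_of_allRange c_act3_74) (range_glue (range_of_allRange c_act3_75) (range_glue (range_of_allRange c_act3_76) (range_glue (range_of_allRange c_act3_77) (range_glue (range_of_allRange c_act3_78) (range_of_allRange c_act3_79))))))))))))))))))))))))))))))))))))))))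
theorem h_act3_p2 : ∀ i, 68560 ≤ i → i < 102840 → Nat.beq (actR3 i) i = true :=
  (range_glue (range_of_allRange c_act3_80) (range_glue (range_of_allRange c_act3_81) (range_glue (range_of_allRange c_act3_82) (range_glue (range_of_allRange c_act3_83) (range_glue (range_of_allRange c_act3_84) (range_glue (range_of_allRange c_act3_85) (range_glue (range_of_allRange c_act3_86) (range_glue (range_of_allRange c_act3_87) (range_glue (range_of_allRange c_act3_88) (range_glue (range_of_allRange c_act3_89) (range_glue (range_of_allRange c_act3_90) (range_glue (range_of_allRange c_act3_91) (range_glue (range_of_allRange c_act3_92) (range_glue (range_of_allRange c_act3_93) (range_glue (range_of_allRange c_act3_94) (range_glue (range_of_allRange c_act3_95) (range_glue (range_of_allRange c_act3_96) (range_glue (range_of_allRange c_act3_97) (range_glue (range_of_allRange c_act3_98) (range_glue (range_of_allRange c_act3_99) (range_glue (range_of_allRange c_act3_100) (range_glue (range_of_allRange c_act3_101) (range_glue (range_of_allRange c_act3_102) (range_glue (range_of_allRange c_act3_103) (range_glue (range_of_allRange c_act3_104) (range_glue (range_of_allRange c_act3_105) (range_glue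 (range_of_allRange c_act3_106) (range_glue (range_of_allRange c_act3_107) (range_glue (range_of_allRange c_act3_108) (range_glue (range_of_allRange c_act3_109) (range_glue (range_of_allRange c_act3_110) (range_glue (range_of_allRange c_act3_111) (range_glue (range_of_allRange c_act3_112) (range_glue (range_of_allRange c_act3_113) (range_glue (range_of_allRange c_act3_114) (range_glue (range_of_allRange c_act3_115) (range_glue (range_of_allRange c_act3_116) (range_glue (range_of_allRange c_act3_117) (range_glue (range_of_allRange c_act3_118) (range_of_allRange c_act3_119))))))))))))))))))))))))))))))))))))))))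
theorem h_act3_p3 : ∀ i, 102840 ≤ i → i < 122760 → Nat.beq (actR3 i) i = true :=
  (range_glue (range_of_allRange c_act3_120) (range_glue (range_of_allRange c_act3_121) (range_glue (range_of_allRange c_act3_122) (range_glue (range_of_allRange c_act3_123) (range_glue (range_of_allRange c_act3_124) (range_glue (range_of_allRange c_act3_125) (range_glue (range_of_allRange c_act3_126) (range_glue (range_of_allRange c_act3_127) (range_glue (range_of_allRange c_act3_128) (range_glue (range_of_allRange c_act3_129) (range_glue (range_of_allRange c_act3_130) (range_glue (range_of_allRange c_act3_131) (range_glue (range_of_allRange c_act3_132) (range_glue (range_of_allRange c_act3_133) (range_glue (range_of_allRange c_act3_134) (range_glue (range_of_allRange c_act3_135) (range_glue (range_of_allRange c_act3_136) (range_glue (range_of_allRange c_act3_137) (range_glue (range_of_allRange c_act3_138) (range_glue (range_of_allRange c_act3_139) (range_glue (range_of_allRange c_act3_140) (range_glue (range_of_allRange c_act3_141) (range_glue (range_of_allRange c_act3_142) (range_of_allRange c_act3_143))))))))))))))))))))))))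
theorem h_act3 : ∀ i, 0 ≤ i → i < 122760 → Nat.beq (actR3 i) i = true :=
  (range_glue h_act3_p0 (range_glue h_act3_p1 (range_glue h_act3_p2 h_act3_p3)))
theorem h_act4_p0 : ∀ i, 0 ≤ i → i < 35280 → Nat.beq (actR4 i) i = true :=
  (range_glue (range_of_allRange c_act4_0) (range_glue (range_of_allRange c_act4_1) (range_glue (range_of_allRange c_act4_2) (range_glue (range_of_allRange c_act4_3) (range_glue (range_of_allRange c_act4_4) (range_glue (range_of_allRange c_act4_5) (range_glue (range_of_allRange c_act4_6) (range_glue (range_of_allRange c_act4_7) (range_glue (range_of_allRange c_act4_8) (range_glue (range_of_allRange c_act4_9) (range_glue (range_of_allRange c_act4_10) (range_glue (range_of_allRange c_act4_11) (range_glue (range_of_allRange c_act4_12) (range_glue (range_of_allRange c_act4_13) (range_glue (range_of_allRange c_act4_14) (range_glue (range_of_allRange c_act4_15) (range_glue (range_of_allRange c_act4_16) (range_glue (range_of_allRange c_act4_17) (range_glue (range_of_allRange c_act4_18) (range_glue (range_of_allRange c_act4_19) (range_glue (range_of_allRange c_act4_20) (range_glue (range_of_allRange c_act4_21) (range_glue (range_of_allRange c_act4_22)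 (range_glue (range_of_allRange c_act4_23) (range_glue (range_of_allRange c_act4_24) (range_glue (range_of_allRange c_act4_25) (range_glue (range_of_allRange c_act4_26) (range_glue (range_of_allRange c_act4_27) (range_glue (range_of_allRange c_act4_28) (range_glue (range_of_allRange c_act4_29) (range_glue (range_of_allRange c_act4_30) (range_glue (range_of_allRange c_act4_31) (range_glue (range_of_allRange c_act4_32) (range_glue (range_of_allRange c_act4_33) (range_glue (range_of_allRange c_act4_34) (range_glue (range_of_allRange c_act4_35) (range_glue (range_of_allRange c_act4_36) (range_glue (range_of_allRange c_act4_37) (range_glue (range_of_allRange c_act4_38) (range_of_allRange c_act4_39))))))))))))))))))))))))))))))))))))))))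
theorem h_act4_p1 : ∀ i, 35280 ≤ i → i < 70560 → Nat.beq (actR4 i) i = true :=
  (range_glue (range_of_allRange c_act4_40) (range_glue (range_of_allRange c_act4_41) (range_glue (range_of_allRange c_act4_42) (range_glue (range_of_allRange c_act4_43) (range_glue (range_of_allRange c_act4_44) (range_glue (range_of_allRange c_act4_45) (range_glue (range_of_allRange c_act4_46) (range_glue (range_of_allRange c_act4_47) (range_glue (range_of_allRange c_act4_48) (range_glue (range_of_allRange c_act4_49) (range_glue (range_of_allRange c_act4_50) (range_glue (range_of_allRange c_act4_51) (range_glue (range_of_allRange c_act4_52) (range_glue (range_of_allRange c_act4_53) (range_glue (range_of_allRange c_act4_54) (range_glue (range_of_allRange c_act4_55) (range_glue (range_of_allRange c_act4_56) (range_glue (range_of_allRange c_act4_57) (range_glue (range_of_allRange c_act4_58) (range_glue (range_of_allRange c_act4_59) (range_glue (range_of_allRange c_act4_60) (range_glue (range_of_allRange c_act4_61) (range_glue (range_of_allRange c_act4_62) (range_glue (range_of_allRange c_act4_63) (range_glue (range_of_allRange c_act4_64) (range_glue (range_of_allRange c_act4_65) (range_glue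 (range_of_allRange c_act4_66) (range_glue (range_of_allRange c_act4_67) (range_glue (range_of_allRange c_act4_68) (range_glue (range_of_allRange c_act4_69) (range_glue (range_of_allRange c_act4_70) (range_glue (range_of_allRange c_act4_71) (range_glue (range_of_allRange c_act4_72) (range_glue (range_of_allRange c_act4_73) (range_glue (range_of_allRange c_act4_74) (range_glue (range_of_allRange c_act4_75) (range_glue (range_of_allRange c_act4_76) (range_glue (range_of_allRange c_act4_77) (range_glue (range_of_allRange c_act4_78) (range_of_allRange c_act4_79))))))))))))))))))))))))))))))))))))))))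
theorem h_act4_p2 : ∀ i, 70560 ≤ i → i < 105840 → Nat.beq (actR4 i) i = true :=
  (range_glue (range_of_allRange c_act4_80) (range_glue (range_of_allRange c_act4_81) (range_glue (range_of_allRange c_act4_82) (range_glue (range_of_allRange c_act4_83) (range_glue (range_of_allRange c_act4_84) (range_glue (range_of_allRange c_act4_85) (range_glue (range_of_allRange c_act4_86) (range_glue (range_of_allRange c_act4_87) (range_glue (range_of_allRange c_act4_88) (range_glue (range_of_allRange c_act4_89) (range_glue (range_of_allRange c_act4_90) (range_glue (range_of_allRange c_act4_91) (range_glue (range_of_allRange c_act4_92) (range_glue (range_of_allRange c_act4_93) (range_glue (range_of_allRange c_act4_94) (range_glue (range_of_allRange c_act4_95) (range_glue (range_of_allRange c_act4_96) (range_glue (range_of_allRange c_act4_97) (range_glue (range_of_allRange c_act4_98) (range_glue (range_of_allRange c_act4_99) (range_glue (range_of_allRange c_act4_100) (range_glue (range_of_allRange c_act4_101) (range_glue (range_of_allRange c_act4_102) (range_glue (range_of_allRange c_act4_103) (range_glue (range_of_allRange c_act4_104) (range_glue (range_of_allRange c_act4_105) (range_glue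 (range_of_allRange c_act4_106) (range_glue (range_of_allRange c_act4_107) (range_glue (range_of_allRange c_act4_108) (range_glue (range_of_allRange c_act4_109) (range_glue (range_of_allRange c_act4_110) (range_glue (range_of_allRange c_act4_111) (range_glue (range_of_allRange c_act4_112) (range_glue (range_of_allRange c_act4_113) (range_glue (range_of_allRange c_act4_114) (range_glue (range_of_allRange c_act4_115) (range_glue (range_of_allRange c_act4_116) (range_glue (range_of_allRange c_act4_117) (range_glue (range_of_allRange c_act4_118) (range_of_allRange c_act4_119))))))))))))))))))))))))))))))))))))))))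
theorem h_act4_p3 : ∀ i, 105840 ≤ i → i < 122760 → Nat.beq (actR4 i) i = true :=
  (range_glue (range_of_allRange c_act4_120) (range_glue (range_of_allRange c_act4_121) (range_glue (range_of_allRange c_act4_122) (range_glue (range_of_allRange c_act4_123) (range_glue (range_of_allRange c_act4_124) (range_glue (range_of_allRange c_act4_125) (range_glue (range_of_allRange c_act4_126) (range_glue (range_of_allRange c_act4_127) (range_glue (range_of_allRange c_act4_128) (range_glue (range_of_allRange c_act4_129) (range_glue (range_of_allRange c_act4_130) (range_glue (range_of_allRange c_act4_131) (range_glue (range_of_allRange c_act4_132) (range_glue (range_of_allRange c_act4_133) (range_glue (range_of_allRange c_act4_134) (range_glue (range_of_allRange c_act4_135) (range_glue (range_of_allRange c_act4_136) (range_glue (range_of_allRange c_act4_137) (range_glue (range_of_allRange c_act4_138) (range_of_allRange c_act4_139))))))))))))))))))))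
theorem h_act4 : ∀ i, 0 ≤ i → i < 122760 → Nat.beq (actR4 i) i = true :=
  (range_glue h_act4_p0 (range_glue h_act4_p1 (range_glue h_act4_p2 h_act4_p3)))

theorem h_act : ∀ L ∈ PJ1p.P.real, ∀ i, i < T.N → Tab.relActOK T D L i = true := by
  rw [c_real]
  intro L hL
  simp only [realLit, List.mem_cons, List.not_mem_nil, or_false] at hL
  rcases hL with rfl | rfl | rfl | rfl | rfl
  · intro i hi
    rw [Tab.relActOK, ← actR0_eq]
    exact h_act0 i (Nat.zero_le _) hi
  · intro i hi
    rw [Tab.relActOK, ← actR1_eq]
    exact h_act1 i (Nat.zero_le _) hi
  · intro i hi
    rw [Tab.relActOK, ← actR2_eq]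
    exact h_act2 i (Nat.zero_le _) hi
  · intro i hi
    rw [Tab.relActOK, ← actR3_eq]
    exact h_act3 i (Nat.zero_le _) hi
  · intro i hi
    rw [Tab.relActOK, ← actR4_eq]
    exact h_act4 i (Nat.zero_le _) hi

theorem prep : PRep PJ1p.P T D where
  hP := PJ1p.valid
  hk := rfl
  hinv := fun _ _ => rfl
  hperm := fun i x hi hx => h_perm i (Nat.zero_le _) hi x hx
  hlet := fun x hx => allBelow_eq_true.1 c_let x hx
  hact := h_act

end Cfsg.Agent.Lib.Helper4.TCD.ONJ1
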