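import Cfsg.Agent.Lib.Helper4.TCD_ONM11K_Acc

namespace Cfsg.Agent.Lib.Helper4.TCD.ONM11K

open Cfsg.Agent.Lib.Helper4.TC

set_option maxRecDepth 100000
set_option Elab.async false

theorem c_k2_37 : allRange (fun i => Nat.beq (Cfsg.Agent.Lib.Helper4.TCD.ONM11.col2 i) (actW2 i)) 50431 1363 = true := by decide +kernel
theorem c_k2_38 : allRange (fun i => Nat.beq (Cfsg.Agent.Lib.Helper4.TCD.ONM11.col2 i) (actW2 i)) 51794 1363 = true := by decide +kernel
theorem c_k2_39 : allRange (fun i => Nat.beq (Cfsg.Agent.Lib.Helper4.TCD.ONM11.col2 i) (actW2 i)) 53157 1363 = true := by decide +kernel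
theorem c_k2_40 : allRange (fun i => Nat.beq (Cfsg.Agent.Lib.Helper4.TCD.ONM11.col2 i) (actW2 i)) 54520 1363 = true := by decide +kernel
theorem c_k2_41 : allRange (fun i => Nat.beq (Cfsg.Agent.Lib.Helper4.TCD.ONM11.col2 i) (actW2 i)) 55883 1363 = true := by decide +kernel
theorem c_k2_42 : allRange (fun i => Nat.beq (Cfsg.Agent.Lib.Helper4.TCD.ONM11.col2 i) (actW2 i)) 57246 1363 = true := by decide +kernel
theorem c_k2_43 : allRange (fun i => Nat.beq (Cfsg.Agent.Lib.Helper4.TCD.ONM11.col2 i) (actW2 i)) 58609 1363 = true := by decide +kernel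
theorem c_k2_44 : allRange (fun i => Nat.beq (Cfsg.Agent.Lib.Helper4.TCD.ONM11.col2 i) (actW2 i)) 59972 1363 = true := by decide +kernel
theorem c_k2_45 : allRange (fun i => Nat.beq (Cfsg.Agent.Lib.Helper4.TCD.ONM11.col2 i) (actW2 i)) 61335 1363 = true := by decide +kernel
theorem c_k2_46 : allRange (fun i => Nat.beq (Cfsg.Agent.Lib.Helper4.TCD.ONM11.col2 i) (actW2 i)) 62698 1363 = true := by decide +kernel
theorem c_k2_47 : allRange (fun i => Nat.beq (Cfsg.Agent.Lib.Helper4.TCD.ONM11.col2 i) (actW2 i)) 64061 1363 = true := by decide +kernel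
theorem c_k2_48 : allRange (fun i => Nat.beq (Cfsg.Agent.Lib.Helper4.TCD.ONM11.col2 i) (actW2 i)) 65424 1363 = true := by decide +kernel
theorem c_k2_49 : allRange (fun i => Nat.beq (Cfsg.Agent.Lib.Helper4.TCD.ONM11.col2 i) (actW2 i)) 66787 1363 = true := by decide +kernel
theorem c_k2_50 : allRange (fun i => Nat.beq (Cfsg.Agent.Lib.Helper4.TCD.ONM11.col2 i) (actW2 i)) 68150 1363 = true := by decide +kernel
theorem c_k2_51 : allRange (fun i => Nat.beq (Cfsg.Agent.Lib.Helper4.TCD.ONM11.col2 i) (actW2 i)) 69513 1363 = true := by decide +kernel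
theorem c_k2_52 : allRange (fun i => Nat.beq (Cfsg.Agent.Lib.Helper4.TCD.ONM11.col2 i) (actW2 i)) 70876 1363 = true := by decide +kernel
theorem c_k2_53 : allRange (fun i => Nat.beq (Cfsg.Agent.Lib.Helper4.TCD.ONM11.col2 i) (actW2 i)) 72239 1363 = true := by decide +kernel
theorem c_k2_54 : allRange (fun i => Nat.beq (Cfsg.Agent.Lib.Helper4.TCD.ONM11.col2 i) (actW2 i)) 73602 1363 = true := by decide +kernel
theorem c_k2_55 : allRange (fun i => Nat.beq (Cfsg.Agent.Lib.Helper4.TCD.ONM11.col2 i) (actW2 i)) 74965 1363 = true := by decide +kernel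
theorem c_k2_56 : allRange (fun i => Nat.beq (Cfsg.Agent.Lib.Helper4.TCD.ONM11.col2 i) (actW2 i)) 76328 1363 = true := by decide +kernel
theorem c_k2_57 : allRange (fun i => Nat.beq (Cfsg.Agent.Lib.Helper4.TCD.ONM11.col2 i) (actW2 i)) 77691 1363 = true := by decide +kernel
theorem c_k2_58 : allRange (fun i => Nat.beq (Cfsg.Agent.Lib.Helper4.TCD.ONM11.col2 i) (actW2 i)) 79054 1363 = true := by decide +kernel
theorem c_k2_59 : allRange (fun i => Nat.beq (Cfsg.Agent.Lib.Helper4.TCD.ONM11.col2 i) (actW2 i)) 80417 1363 = true := by decide +kernel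
theorem c_k2_60 : allRange (fun i => Nat.beq (Cfsg.Agent.Lib.Helper4.TCD.ONM11.col2 i) (actW2 i)) 81780 1363 = true := by decide +kernel
theorem c_k2_61 : allRange (fun i => Nat.beq (Cfsg.Agent.Lib.Helper4.TCD.ONM11.col2 i) (actW2 i)) 83143 1363 = true := by decide +kernel
theorem c_k2_62 : allRange (fun i => Nat.beq (Cfsg.Agent.Lib.Helper4.TCD.ONM11.col2 i) (actW2 i)) 84506 1363 = true := by decide +kernel
theorem c_k2_63 : allRange (fun i => Nat.beq (Cfsg.Agent.Lib.Helper4.TCD.ONM11.col2 i) (actW2 i)) 85869 1363 = true := by decide +kernel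
theorem c_k2_64 : allRange (fun i => Nat.beq (Cfsg.Agent.Lib.Helper4.TCD.ONM11.col2 i) (actW2 i)) 87232 1363 = true := by decide +kernel
theorem c_k2_65 : allRange (fun i => Nat.beq (Cfsg.Agent.Lib.Helper4.TCD.ONM11.col2 i) (actW2 i)) 88595 1363 = true := by decide +kernel
theorem c_k2_66 : allRange (fun i => Nat.beq (Cfsg.Agent.Lib.Helper4.TCD.ONM11.col2 i) (actW2 i)) 89958 1363 = true := by decide +kernel
theorem c_k2_67 : allRange (fun i => Nat.beq (Cfsg.Agent.Lib.Helper4.TCD.ONM11.col2 i) (actW2 i)) 91321 1363 = true := by decide +kernel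
theorem c_k2_68 : allRange (fun i => Nat.beq (Cfsg.Agent.Lib.Helper4.TCD.ONM11.col2 i) (actW2 i)) 92684 1363 = true := by decide +kernel
theorem c_k2_69 : allRange (fun i => Nat.beq (Cfsg.Agent.Lib.Helper4.TCD.ONM11.col2 i) (actW2 i)) 94047 1363 = true := by decide +kernel
theorem c_k2_70 : allRange (fun i => Nat.beq (Cfsg.Agent.Lib.Helper4.TCD.ONM11.col2 i) (actW2 i)) 95410 1363 = true := by decide +kernel
theorem c_k2_71 : allRange (fun i => Nat.beq (Cfsg.Agent.Lib.Helper4.TCD.ONM11.col2 i) (actW2 i)) 96773 1363 = true := by decide +kernel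
theorem c_k2_72 : allRange (fun i => Nat.beq (Cfsg.Agent.Lib.Helper4.TCD.ONM11.col2 i) (actW2 i)) 98136 1363 = true := by decide +kernel
theorem c_k2_73 : allRange (fun i => Nat.beq (Cfsg.Agent.Lib.Helper4.TCD.ONM11.col2 i) (actW2 i)) 99499 1363 = true := by decide +kernel
theorem c_k2_74 : allRange (fun i => Nat.beq (Cfsg.Agent.Lib.Helper4.TCD.ONM11.col2 i) (actW2 i)) 100862 1363 = true := by decide +kernel
theorem c_k2_75 : allRange (fun i => Nat.beq (Cfsg.Agent.Lib.Helper4.TCD.ONM11.col2 i) (actW2 i)) 102225 1363 = true := by decide +kernel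
theorem c_k2_76 : allRange (fun i => Nat.beq (Cfsg.Agent.Lib.Helper4.TCD.ONM11.col2 i) (actW2 i)) 103588 1363 = true := by decide +kernel
theorem c_k2_77 : allRange (fun i => Nat.beq (Cfsg.Agent.Lib.Helper4.TCD.ONM11.col2 i) (actW2 i)) 104951 1363 = true := by decide +kernel
theorem c_k2_78 : allRange (fun i => Nat.beq (Cfsg.Agent.Lib.Helper4.TCD.ONM11.col2 i) (actW2 i)) 106314 1363 = true := by decide +kernel
theorem c_k2_79 : allRange (fun i => Nat.beq (Cfsg.Agent.Lib.Helper4.TCD.ONM11.col2 i) (actW2 i)) 107677 1363 = true := by decide +kernel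
theorem c_k2_80 : allRange (fun i => Nat.beq (Cfsg.Agent.Lib.Helper4.TCD.ONM11.col2 i) (actW2 i)) 109040 1363 = true := by decide +kernel
theorem c_k2_81 : allRange (fun i => Nat.beq (Cfsg.Agent.Lib.Helper4.TCD.ONM11.col2 i) (actW2 i)) 110403 1363 = true := by decide +kernel
theorem c_k2_82 : allRange (fun i => Nat.beq (Cfsg.Agent.Lib.Helper4.TCD.ONM11.col2 i) (actW2 i)) 111766 1363 = true := by decide +kernel
theorem c_k2_83 : allRange (fun i => Nat.beq (Cfsg.Agent.Lib.Helper4.TCD.ONM11.col2 i) (actW2 i)) 113129 1363 = true := by decide +kernel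
theorem c_k2_84 : allRange (fun i => Nat.beq (Cfsg.Agent.Lib.Helper4.TCD.ONM11.col2 i) (actW2 i)) 114492 1363 = true := by decide +kernel
theorem c_k2_85 : allRange (fun i => Nat.beq (Cfsg.Agent.Lib.Helper4.TCD.ONM11.col2 i) (actW2 i)) 115855 1363 = true := by decide +kernel
theorem c_k2_86 : allRange (fun i => Nat.beq (Cfsg.Agent.Lib.Helper4.TCD.ONM11.col2 i) (actW2 i)) 117218 1363 = true := by decide +kernel

end Cfsg.Agent.Lib.Helper4.TCD.ONM11K
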