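import Cfsg.Agent.Lib.Helper4.TCD_ONM11K_Acc

namespace Cfsg.Agent.Lib.Helper4.TCD.ONM11K

open Cfsg.Agent.Lib.Helper4.TC

set_option maxRecDepth 100000
set_option Elab.async false

theorem c_k2_87 : allRange (fun i => Nat.beq (Cfsg.Agent.Lib.Helper4.TCD.ONM11.col2 i) (actW2 i)) 118581 1363 = true := by decide +kernel
theorem c_k2_88 : allRange (fun i => Nat.beq (Cfsg.Agent.Lib.Helper4.TCD.ONM11.col2 i) (actW2 i)) 119944 1363 = true := by decide +kernel
theorem c_k2_89 : allRange (fun i => Nat.beq (Cfsg.Agent.Lib.Helper4.TCD.ONM11.col2 i) (actW2 i)) 121307 1363 = true := by decide +kernel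
theorem c_k2_90 : allRange (fun i => Nat.beq (Cfsg.Agent.Lib.Helper4.TCD.ONM11.col2 i) (actW2 i)) 122670 90 = true := by decide +kernel
theorem c_k3_0 : allRange (fun i => Nat.beq (Cfsg.Agent.Lib.Helper4.TCD.ONM11.col3 i) (actW3 i)) 0 1363 = true := by decide +kernel
theorem c_k3_1 : allRange (fun i => Nat.beq (Cfsg.Agent.Lib.Helper4.TCD.ONM11.col3 i) (actW3 i)) 1363 1363 = true := by decide +kernel
theorem c_k3_2 : allRange (fun i => Nat.beq (Cfsg.Agent.Lib.Helper4.TCD.ONM11.col3 i) (actW3 i)) 2726 1363 = true := by decide +kernel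
theorem c_k3_3 : allRange (fun i => Nat.beq (Cfsg.Agent.Lib.Helper4.TCD.ONM11.col3 i) (actW3 i)) 4089 1363 = true := by decide +kernel
theorem c_k3_4 : allRange (fun i => Nat.beq (Cfsg.Agent.Lib.Helper4.TCD.ONM11.col3 i) (actW3 i)) 5452 1363 = true := by decide +kernel
theorem c_k3_5 : allRange (fun i => Nat.beq (Cfsg.Agent.Lib.Helper4.TCD.ONM11.col3 i) (actW3 i)) 6815 1363 = true := by decide +kernel
theorem c_k3_6 : allRange (fun i => Nat.beq (Cfsg.Agent.Lib.Helper4.TCD.ONM11.col3 i) (actW3 i)) 8178 1363 = true := by decide +kernel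
theorem c_k3_7 : allRange (fun i => Nat.beq (Cfsg.Agent.Lib.Helper4.TCD.ONM11.col3 i) (actW3 i)) 9541 1363 = true := by decide +kernel
theorem c_k3_8 : allRange (fun i => Nat.beq (Cfsg.Agent.Lib.Helper4.TCD.ONM11.col3 i) (actW3 i)) 10904 1363 = true := by decide +kernel
theorem c_k3_9 : allRange (fun i => Nat.beq (Cfsg.Agent.Lib.Helper4.TCD.ONM11.col3 i) (actW3 i)) 12267 1363 = true := by decide +kernel
theorem c_k3_10 : allRange (fun i => Nat.beq (Cfsg.Agent.Lib.Helper4.TCD.ONM11.col3 i) (actW3 i)) 13630 1363 = true := by decide +kernel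
theorem c_k3_11 : allRange (fun i => Nat.beq (Cfsg.Agent.Lib.Helper4.TCD.ONM11.col3 i) (actW3 i)) 14993 1363 = true := by decide +kernel
theorem c_k3_12 : allRange (fun i => Nat.beq (Cfsg.Agent.Lib.Helper4.TCD.ONM11.col3 i) (actW3 i)) 16356 1363 = true := by decide +kernel
theorem c_k3_13 : allRange (fun i => Nat.beq (Cfsg.Agent.Lib.Helper4.TCD.ONM11.col3 i) (actW3 i)) 17719 1363 = true := by decide +kernel
theorem c_k3_14 : allRange (fun i => Nat.beq (Cfsg.Agent.Lib.Helper4.TCD.ONM11.col3 i) (actW3 i)) 19082 1363 = true := by decide +kernel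
theorem c_k3_15 : allRange (fun i => Nat.beq (Cfsg.Agent.Lib.Helper4.TCD.ONM11.col3 i) (actW3 i)) 20445 1363 = true := by decide +kernel
theorem c_k3_16 : allRange (fun i => Nat.beq (Cfsg.Agent.Lib.Helper4.TCD.ONM11.col3 i) (actW3 i)) 21808 1363 = true := by decide +kernel
theorem c_k3_17 : allRange (fun i => Nat.beq (Cfsg.Agent.Lib.Helper4.TCD.ONM11.col3 i) (actW3 i)) 23171 1363 = true := by decide +kernel
theorem c_k3_18 : allRange (fun i => Nat.beq (Cfsg.Agent.Lib.Helper4.TCD.ONM11.col3 i) (actW3 i)) 24534 1363 = true := by decide +kernel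
theorem c_k3_19 : allRange (fun i => Nat.beq (Cfsg.Agent.Lib.Helper4.TCD.ONM11.col3 i) (actW3 i)) 25897 1363 = true := by decide +kernel
theorem c_k3_20 : allRange (fun i => Nat.beq (Cfsg.Agent.Lib.Helper4.TCD.ONM11.col3 i) (actW3 i)) 27260 1363 = true := by decide +kernel
theorem c_k3_21 : allRange (fun i => Nat.beq (Cfsg.Agent.Lib.Helper4.TCD.ONM11.col3 i) (actW3 i)) 28623 1363 = true := by decide +kernel
theorem c_k3_22 : allRange (fun i => Nat.beq (Cfsg.Agent.Lib.Helper4.TCD.ONM11.col3 i) (actW3 i)) 29986 1363 = true := by decide +kernel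
theorem c_k3_23 : allRange (fun i => Nat.beq (Cfsg.Agent.Lib.Helper4.TCD.ONM11.col3 i) (actW3 i)) 31349 1363 = true := by decide +kernel
theorem c_k3_24 : allRange (fun i => Nat.beq (Cfsg.Agent.Lib.Helper4.TCD.ONM11.col3 i) (actW3 i)) 32712 1363 = true := by decide +kernel
theorem c_k3_25 : allRange (fun i => Nat.beq (Cfsg.Agent.Lib.Helper4.TCD.ONM11.col3 i) (actW3 i)) 34075 1363 = true := by decide +kernel
theorem c_k3_26 : allRange (fun i => Nat.beq (Cfsg.Agent.Lib.Helper4.TCD.ONM11.col3 i) (actW3 i)) 35438 1363 = true := by decide +kernel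
theorem c_k3_27 : allRange (fun i => Nat.beq (Cfsg.Agent.Lib.Helper4.TCD.ONM11.col3 i) (actW3 i)) 36801 1363 = true := by decide +kernel
theorem c_k3_28 : allRange (fun i => Nat.beq (Cfsg.Agent.Lib.Helper4.TCD.ONM11.col3 i) (actW3 i)) 38164 1363 = true := by decide +kernel
theorem c_k3_29 : allRange (fun i => Nat.beq (Cfsg.Agent.Lib.Helper4.TCD.ONM11.col3 i) (actW3 i)) 39527 1363 = true := by decide +kernel
theorem c_k3_30 : allRange (fun i => Nat.beq (Cfsg.Agent.Lib.Helper4.TCD.ONM11.col3 i) (actW3 i)) 40890 1363 = true := by decide +kernel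
theorem c_k3_31 : allRange (fun i => Nat.beq (Cfsg.Agent.Lib.Helper4.TCD.ONM11.col3 i) (actW3 i)) 42253 1363 = true := by decide +kernel
theorem c_k3_32 : allRange (fun i => Nat.beq (Cfsg.Agent.Lib.Helper4.TCD.ONM11.col3 i) (actW3 i)) 43616 1363 = true := by decide +kernel
theorem c_k3_33 : allRange (fun i => Nat.beq (Cfsg.Agent.Lib.Helper4.TCD.ONM11.col3 i) (actW3 i)) 44979 1363 = true := by decide +kernel
theorem c_k3_34 : allRange (fun i => Nat.beq (Cfsg.Agent.Lib.Helper4.TCD.ONM11.col3 i) (actW3 i)) 46342 1363 = true := by decide +kernel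
theorem c_k3_35 : allRange (fun i => Nat.beq (Cfsg.Agent.Lib.Helper4.TCD.ONM11.col3 i) (actW3 i)) 47705 1363 = true := by decide +kernel
theorem c_k3_36 : allRange (fun i => Nat.beq (Cfsg.Agent.Lib.Helper4.TCD.ONM11.col3 i) (actW3 i)) 49068 1363 = true := by decide +kernel
theorem c_k3_37 : allRange (fun i => Nat.beq (Cfsg.Agent.Lib.Helper4.TCD.ONM11.col3 i) (actW3 i)) 50431 1363 = true := by decide +kernel
theorem c_k3_38 : allRange (fun i => Nat.beq (Cfsg.Agent.Lib.Helper4.TCD.ONM11.col3 i) (actW3 i)) 51794 1363 = true := by decide +kernel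
theorem c_k3_39 : allRange (fun i => Nat.beq (Cfsg.Agent.Lib.Helper4.TCD.ONM11.col3 i) (actW3 i)) 53157 1363 = true := by decide +kernel
theorem c_k3_40 : allRange (fun i => Nat.beq (Cfsg.Agent.Lib.Helper4.TCD.ONM11.col3 i) (actW3 i)) 54520 1363 = true := by decide +kernel
theorem c_k3_41 : allRange (fun i => Nat.beq (Cfsg.Agent.Lib.Helper4.TCD.ONM11.col3 i) (actW3 i)) 55883 1363 = true := by decide +kernel
theorem c_k3_42 : allRange (fun i => Nat.beq (Cfsg.Agent.Lib.Helper4.TCD.ONM11.col3 i) (actW3 i)) 57246 1363 = true := by decide +kernel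
theorem c_k3_43 : allRange (fun i => Nat.beq (Cfsg.Agent.Lib.Helper4.TCD.ONM11.col3 i) (actW3 i)) 58609 1363 = true := by decide +kernel
theorem c_k3_44 : allRange (fun i => Nat.beq (Cfsg.Agent.Lib.Helper4.TCD.ONM11.col3 i) (actW3 i)) 59972 1363 = true := by decide +kernel
theorem c_k3_45 : allRange (fun i => Nat.beq (Cfsg.Agent.Lib.Helper4.TCD.ONM11.col3 i) (actW3 i)) 61335 1363 = true := by decide +kernel

end Cfsg.Agent.Lib.Helper4.TCD.ONM11K
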