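import Cfsg.Agent.Lib.Helper4.TCD_ONM11_Acc

namespace Cfsg.Agent.Lib.Helper4.TCD.ONM11

open Cfsg.Agent.Lib.Helper4.TC

set_option maxRecDepth 100000
set_option Elab.async false

theorem c_act2_21 : allRange (fun i => Nat.beq (actR2 i) i) 57267 2727 = true := by decide +kernel
theorem c_act2_22 : allRange (fun i => Nat.beq (actR2 i) i) 59994 2727 = true := by decide +kernel
theorem c_act2_23 : allRange (fun i => Nat.beq (actR2 i) i) 62721 2727 = true := by decide +kernel
theorem c_act2_24 : allRange (fun i => Nat.beq (actR2 i) i) 65448 2727 = true := by decide +kernel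
theorem c_act2_25 : allRange (fun i => Nat.beq (actR2 i) i) 68175 2727 = true := by decide +kernel
theorem c_act2_26 : allRange (fun i => Nat.beq (actR2 i) i) 70902 2727 = true := by decide +kernel
theorem c_act2_27 : allRange (fun i => Nat.beq (actR2 i) i) 73629 2727 = true := by decide +kernel
theorem c_act2_28 : allRange (fun i => Nat.beq (actR2 i) i) 76356 2727 = true := by decide +kernel
theorem c_act2_29 : allRange (fun i => Nat.beq (actR2 i) i) 79083 2727 = true := by decide +kernel
theorem c_act2_30 : allRange (fun i => Nat.beq (actR2 i) i) 81810 2727 = true := by decide +kernel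
theorem c_act2_31 : allRange (fun i => Nat.beq (actR2 i) i) 84537 2727 = true := by decide +kernel
theorem c_act2_32 : allRange (fun i => Nat.beq (actR2 i) i) 87264 2727 = true := by decide +kernel
theorem c_act2_33 : allRange (fun i => Nat.beq (actR2 i) i) 89991 2727 = true := by decide +kernel
theorem c_act2_34 : allRange (fun i => Nat.beq (actR2 i) i) 92718 2727 = true := by decide +kernel
theorem c_act2_35 : allRange (fun i => Nat.beq (actR2 i) i) 95445 2727 = true := by decide +kernel
theorem c_act2_36 : allRange (fun i => Nat.beq (actR2 i) i) 98172 2727 = true := by decide +kernel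
theorem c_act2_37 : allRange (fun i => Nat.beq (actR2 i) i) 100899 2727 = true := by decide +kernel
theorem c_act2_38 : allRange (fun i => Nat.beq (actR2 i) i) 103626 2727 = true := by decide +kernel
theorem c_act2_39 : allRange (fun i => Nat.beq (actR2 i) i) 106353 2727 = true := by decide +kernel
theorem c_act2_40 : allRange (fun i => Nat.beq (actR2 i) i) 109080 2727 = true := by decide +kernel
theorem c_act2_41 : allRange (fun i => Nat.beq (actR2 i) i) 111807 2727 = true := by decide +kernel
theorem c_act2_42 : allRange (fun i => Nat.beq (actR2 i) i) 114534 2727 = true := by decide +kernel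
theorem c_act2_43 : allRange (fun i => Nat.beq (actR2 i) i) 117261 2727 = true := by decide +kernel
theorem c_act2_44 : allRange (fun i => Nat.beq (actR2 i) i) 119988 2727 = true := by decide +kernel
theorem c_act2_45 : allRange (fun i => Nat.beq (actR2 i) i) 122715 45 = true := by decide +kernel
theorem c_act3_0 : allRange (fun i => Nat.beq (actR3 i) i) 0 3333 = true := by decide +kernel
theorem c_act3_1 : allRange (fun i => Nat.beq (actR3 i) i) 3333 3333 = true := by decide +kernel
theorem c_act3_2 : allRange (fun i => Nat.beq (actR3 i) i) 6666 3333 = true := by decide +kernel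
theorem c_act3_3 : allRange (fun i => Nat.beq (actR3 i) i) 9999 3333 = true := by decide +kernel
theorem c_act3_4 : allRange (fun i => Nat.beq (actR3 i) i) 13332 3333 = true := by decide +kernel
theorem c_act3_5 : allRange (fun i => Nat.beq (actR3 i) i) 16665 3333 = true := by decide +kernel
theorem c_act3_6 : allRange (fun i => Nat.beq (actR3 i) i) 19998 3333 = true := by decide +kernel
theorem c_act3_7 : allRange (fun i => Nat.beq (actR3 i) i) 23331 3333 = true := by decide +kernel
theorem c_act3_8 : allRange (fun i => Nat.beq (actR3 i) i) 26664 3333 = true := by decide +kernel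
theorem c_act3_9 : allRange (fun i => Nat.beq (actR3 i) i) 29997 3333 = true := by decide +kernel
theorem c_act3_10 : allRange (fun i => Nat.beq (actR3 i) i) 33330 3333 = true := by decide +kernel
theorem c_act3_11 : allRange (fun i => Nat.beq (actR3 i) i) 36663 3333 = true := by decide +kernel
theorem c_act3_12 : allRange (fun i => Nat.beq (actR3 i) i) 39996 3333 = true := by decide +kernel
theorem c_act3_13 : allRange (fun i => Nat.beq (actR3 i) i) 43329 3333 = true := by decide +kernel
theorem c_act3_14 : allRange (fun i => Nat.beq (actR3 i) i) 46662 3333 = true := by decide +kernel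
theorem c_act3_15 : allRange (fun i => Nat.beq (actR3 i) i) 49995 3333 = true := by decide +kernel
theorem c_act3_16 : allRange (fun i => Nat.beq (actR3 i) i) 53328 3333 = true := by decide +kernel
theorem c_act3_17 : allRange (fun i => Nat.beq (actR3 i) i) 56661 3333 = true := by decide +kernel
theorem c_act3_18 : allRange (fun i => Nat.beq (actR3 i) i) 59994 3333 = true := by decide +kernel
theorem c_act3_19 : allRange (fun i => Nat.beq (actR3 i) i) 63327 3333 = true := by decide +kernel
theorem c_act3_20 : allRange (fun i => Nat.beq (actR3 i) i) 66660 3333 = true := by decide +kernel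
theorem c_act3_21 : allRange (fun i => Nat.beq (actR3 i) i) 69993 3333 = true := by decide +kernel
theorem c_act3_22 : allRange (fun i => Nat.beq (actR3 i) i) 73326 3333 = true := by decide +kernel
theorem c_act3_23 : allRange (fun i => Nat.beq (actR3 i) i) 76659 3333 = true := by decide +kernel
theorem c_act3_24 : allRange (fun i => Nat.beq (actR3 i) i) 79992 3333 = true := by decide +kernel

end Cfsg.Agent.Lib.Helper4.TCD.ONM11
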