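import Cfsg.Agent.Lib.Helper4.TCD_ONM11_Acc

namespace Cfsg.Agent.Lib.Helper4.TCD.ONM11

open Cfsg.Agent.Lib.Helper4.TC

set_option maxRecDepth 100000
set_option Elab.async false

theorem c_act3_25 : allRange (fun i => Nat.beq (actR3 i) i) 83325 3333 = true := by decide +kernel
theorem c_act3_26 : allRange (fun i => Nat.beq (actR3 i) i) 86658 3333 = true := by decide +kernel
theorem c_act3_27 : allRange (fun i => Nat.beq (actR3 i) i) 89991 3333 = true := by decide +kernel
theorem c_act3_28 : allRange (fun i => Nat.beq (actR3 i) i) 93324 3333 = true := by decide +kernel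
theorem c_act3_29 : allRange (fun i => Nat.beq (actR3 i) i) 96657 3333 = true := by decide +kernel
theorem c_act3_30 : allRange (fun i => Nat.beq (actR3 i) i) 99990 3333 = true := by decide +kernel
theorem c_act3_31 : allRange (fun i => Nat.beq (actR3 i) i) 103323 3333 = true := by decide +kernel
theorem c_act3_32 : allRange (fun i => Nat.beq (actR3 i) i) 106656 3333 = true := by decide +kernel
theorem c_act3_33 : allRange (fun i => Nat.beq (actR3 i) i) 109989 3333 = true := by decide +kernel
theorem c_act3_34 : allRange (fun i => Nat.beq (actR3 i) i) 113322 3333 = true := by decide +kernel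
theorem c_act3_35 : allRange (fun i => Nat.beq (actR3 i) i) 116655 3333 = true := by decide +kernel
theorem c_act3_36 : allRange (fun i => Nat.beq (actR3 i) i) 119988 2772 = true := by decide +kernel
theorem c_act4_0 : allRange (fun i => Nat.beq (actR4 i) i) 0 3157 = true := by decide +kernel
theorem c_act4_1 : allRange (fun i => Nat.beq (actR4 i) i) 3157 3157 = true := by decide +kernel
theorem c_act4_2 : allRange (fun i => Nat.beq (actR4 i) i) 6314 3157 = true := by decide +kernel
theorem c_act4_3 : allRange (fun i => Nat.beq (actR4 i) i) 9471 3157 = true := by decide +kernel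
theorem c_act4_4 : allRange (fun i => Nat.beq (actR4 i) i) 12628 3157 = true := by decide +kernel
theorem c_act4_5 : allRange (fun i => Nat.beq (actR4 i) i) 15785 3157 = true := by decide +kernel
theorem c_act4_6 : allRange (fun i => Nat.beq (actR4 i) i) 18942 3157 = true := by decide +kernel
theorem c_act4_7 : allRange (fun i => Nat.beq (actR4 i) i) 22099 3157 = true := by decide +kernel
theorem c_act4_8 : allRange (fun i => Nat.beq (actR4 i) i) 25256 3157 = true := by decide +kernel
theorem c_act4_9 : allRange (fun i => Nat.beq (actR4 i) i) 28413 3157 = true := by decide +kernel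
theorem c_act4_10 : allRange (fun i => Nat.beq (actR4 i) i) 31570 3157 = true := by decide +kernel
theorem c_act4_11 : allRange (fun i => Nat.beq (actR4 i) i) 34727 3157 = true := by decide +kernel
theorem c_act4_12 : allRange (fun i => Nat.beq (actR4 i) i) 37884 3157 = true := by decide +kernel
theorem c_act4_13 : allRange (fun i => Nat.beq (actR4 i) i) 41041 3157 = true := by decide +kernel
theorem c_act4_14 : allRange (fun i => Nat.beq (actR4 i) i) 44198 3157 = true := by decide +kernel
theorem c_act4_15 : allRange (fun i => Nat.beq (actR4 i) i) 47355 3157 = true := by decide +kernel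
theorem c_act4_16 : allRange (fun i => Nat.beq (actR4 i) i) 50512 3157 = true := by decide +kernel
theorem c_act4_17 : allRange (fun i => Nat.beq (actR4 i) i) 53669 3157 = true := by decide +kernel
theorem c_act4_18 : allRange (fun i => Nat.beq (actR4 i) i) 56826 3157 = true := by decide +kernel
theorem c_act4_19 : allRange (fun i => Nat.beq (actR4 i) i) 59983 3157 = true := by decide +kernel
theorem c_act4_20 : allRange (fun i => Nat.beq (actR4 i) i) 63140 3157 = true := by decide +kernel
theorem c_act4_21 : allRange (fun i => Nat.beq (actR4 i) i) 66297 3157 = true := by decide +kernel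
theorem c_act4_22 : allRange (fun i => Nat.beq (actR4 i) i) 69454 3157 = true := by decide +kernel
theorem c_act4_23 : allRange (fun i => Nat.beq (actR4 i) i) 72611 3157 = true := by decide +kernel
theorem c_act4_24 : allRange (fun i => Nat.beq (actR4 i) i) 75768 3157 = true := by decide +kernel
theorem c_act4_25 : allRange (fun i => Nat.beq (actR4 i) i) 78925 3157 = true := by decide +kernel
theorem c_act4_26 : allRange (fun i => Nat.beq (actR4 i) i) 82082 3157 = true := by decide +kernel
theorem c_act4_27 : allRange (fun i => Nat.beq (actR4 i) i) 85239 3157 = true := by decide +kernel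
theorem c_act4_28 : allRange (fun i => Nat.beq (actR4 i) i) 88396 3157 = true := by decide +kernel
theorem c_act4_29 : allRange (fun i => Nat.beq (actR4 i) i) 91553 3157 = true := by decide +kernel
theorem c_act4_30 : allRange (fun i => Nat.beq (actR4 i) i) 94710 3157 = true := by decide +kernel
theorem c_act4_31 : allRange (fun i => Nat.beq (actR4 i) i) 97867 3157 = true := by decide +kernel
theorem c_act4_32 : allRange (fun i => Nat.beq (actR4 i) i) 101024 3157 = true := by decide +kernel
theorem c_act4_33 : allRange (fun i => Nat.beq (actR4 i) i) 104181 3157 = true := by decide +kernel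
theorem c_act4_34 : allRange (fun i => Nat.beq (actR4 i) i) 107338 3157 = true := by decide +kernel
theorem c_act4_35 : allRange (fun i => Nat.beq (actR4 i) i) 110495 3157 = true := by decide +kernel
theorem c_act4_36 : allRange (fun i => Nat.beq (actR4 i) i) 113652 3157 = true := by decide +kernel
theorem c_act4_37 : allRange (fun i => Nat.beq (actR4 i) i) 116809 3157 = true := by decide +kernel

end Cfsg.Agent.Lib.Helper4.TCD.ONM11
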