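import Cfsg.Agent.Lib.Helper4.TCD_ONM11_Acc

namespace Cfsg.Agent.Lib.Helper4.TCD.ONM11

open Cfsg.Agent.Lib.Helper4.TC

set_option maxRecDepth 100000
set_option Elab.async false

theorem c_act4_38 : allRange (fun i => Nat.beq (actR4 i) i) 119966 2794 = true := by decide +kernel

end Cfsg.Agent.Lib.Helper4.TCD.ONM11
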