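import Cfsg.Agent.Lib.Helper4.TCD_ONM11_C0
import Cfsg.Agent.Lib.Helper4.TCD_ONM11_C1
import Cfsg.Agent.Lib.Helper4.TCD_ONM11_C2
import Cfsg.Agent.Lib.Helper4.TCD_ONM11_C3

namespace Cfsg.Agent.Lib.Helper4.TCD.ONM11

open Cfsg.Agent.Lib.Helper4.TC

theorem h_perm : ∀ i, 0 ≤ i → i < 122760 → ∀ x, x < 4 → T.permOK1 D i x = true :=
  (range_glue (range_of_allGrid c_perm_0) (range_glue (range_of_allGrid c_perm_1) (range_glue (range_of_allGrid c_perm_2) (range_glue (range_of_allGrid c_perm_3) (range_glue (range_of_allGrid c_perm_4) (range_glue (range_of_allGrid c_perm_5) (range_glue (range_of_allGrid c_perm_6) (range_glue (range_of_allGrid c_perm_7) (range_glue (range_of_allGrid c_perm_8) (range_glue (range_of_allGrid c_perm_9) (range_glue (range_of_allGrid c_perm_10) (range_glue (range_of_allGrid c_perm_11) (range_glue (range_of_allGrid c_perm_12) (range_glue (range_of_allGrid c_perm_13) (range_glue (range_of_allGrid c_perm_14) (range_glue (range_of_allGrid c_perm_15) (range_of_allGrid c_perm_16)))))))))))))))))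
theorem h_act0 : ∀ i, 0 ≤ i → i < 122760 → Nat.beq (actR0 i) i = true :=
  (range_glue (range_of_allRange c_act0_0) (range_glue (range_of_allRange c_act0_1) (range_glue (range_of_allRange c_act0_2) (range_glue (range_of_allRange c_act0_3) (range_of_allRange c_act0_4)))))
theorem h_act1 : ∀ i, 0 ≤ i → i < 122760 → Nat.beq (actR1 i) i = true :=
  (range_glue (range_of_allRange c_act1_0) (range_glue (range_of_allRange c_act1_1) (range_glue (range_of_allRange c_act1_2) (range_glue (range_of_allRange c_act1_3) (range_glue (range_of_allRange c_act1_4) (range_glue (range_of_allRange c_act1_5) (range_glue (range_of_allRange c_act1_6) (range_glue (range_of_allRange c_act1_7) (range_of_allRange c_act1_8)))))))))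
theorem h_act2_p0 : ∀ i, 0 ≤ i → i < 109080 → Nat.beq (actR2 i) i = true :=
  (range_glue (range_of_allRange c_act2_0) (range_glue (range_of_allRange c_act2_1) (range_glue (range_of_allRange c_act2_2) (range_glue (range_of_allRange c_act2_3) (range_glue (range_of_allRange c_act2_4) (range_glue (range_of_allRange c_act2_5) (range_glue (range_of_allRange c_act2_6) (range_glue (range_of_allRange c_act2_7) (range_glue (range_of_allRange c_act2_8) (range_glue (range_of_allRange c_act2_9) (range_glue (range_of_allRange c_act2_10) (range_glue (range_of_allRange c_act2_11) (range_glue (range_of_allRange c_act2_12) (range_glue (range_of_allRange c_act2_13) (range_glue (range_of_allRange c_act2_14) (range_glue (range_of_allRange c_act2_15) (range_glue (range_of_allRange c_act2_16) (range_glue (range_of_allRange c_act2_17) (range_glue (range_of_allRange c_act2_18) (range_glue (range_of_allRange c_act2_19) (range_glue (range_of_allRange c_act2_20) (range_glue (range_of_allRange c_act2_21) (range_glue (range_of_allRange c_act2_22) (range_glue (range_of_allRange c_act2_23) (range_glue (range_of_allRange c_act2_24) (range_glue (range_of_allRange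 c_act2_25) (range_glue (range_of_allRange c_act2_26) (range_glue (range_of_allRange c_act2_27) (range_glue (range_of_allRange c_act2_28) (range_glue (range_of_allRange c_act2_29) (range_glue (range_of_allRange c_act2_30) (range_glue (range_of_allRange c_act2_31) (range_glue (range_of_allRange c_act2_32) (range_glue (range_of_allRange c_act2_33) (range_glue (range_of_allRange c_act2_34) (range_glue (range_of_allRange c_act2_35) (range_glue (range_of_allRange c_act2_36) (range_glue (range_of_allRange c_act2_37) (range_glue (range_of_allRange c_act2_38) (range_of_allRange c_act2_39))))))))))))))))))))))))))))))))))))))))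
theorem h_act2_p1 : ∀ i, 109080 ≤ i → i < 122760 → Nat.beq (actR2 i) i = true :=
  (range_glue (range_of_allRange c_act2_40) (range_glue (range_of_allRange c_act2_41) (range_glue (range_of_allRange c_act2_42) (range_glue (range_of_allRange c_act2_43) (range_glue (range_of_allRange c_act2_44) (range_of_allRange c_act2_45))))))
theorem h_act2 : ∀ i, 0 ≤ i → i < 122760 → Nat.beq (actR2 i) i = true :=
  (range_glue h_act2_p0 h_act2_p1)
theorem h_act3 : ∀ i, 0 ≤ i → i < 122760 → Nat.beq (actR3 i) i = true :=
  (range_glue (range_of_allRange c_act3_0) (range_glue (range_of_allRange c_act3_1) (range_glue (range_of_allRange c_act3_2) (range_glue (range_of_allRange c_act3_3) (range_glue (range_of_allRange c_act3_4) (range_glue (range_of_allRange c_act3_5) (range_glue (range_of_allRange c_act3_6) (range_glue (range_of_allRange c_act3_7) (range_glue (range_of_allRange c_act3_8) (range_glue (range_of_allRange c_act3_9) (range_glue (range_of_allRange c_act3_10) (range_glue (range_of_allRange c_act3_11) (range_glue (range_of_allRange c_act3_12) (range_glue (range_of_allRange c_act3_13) (range_glue (range_of_allRange c_act3_14) (range_glue (range_of_allRange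 c_act3_15) (range_glue (range_of_allRange c_act3_16) (range_glue (range_of_allRange c_act3_17) (range_glue (range_of_allRange c_act3_18) (range_glue (range_of_allRange c_act3_19) (range_glue (range_of_allRange c_act3_20) (range_glue (range_of_allRange c_act3_21) (range_glue (range_of_allRange c_act3_22) (range_glue (range_of_allRange c_act3_23) (range_glue (range_of_allRange c_act3_24) (range_glue (range_of_allRange c_act3_25) (range_glue (range_of_allRange c_act3_26) (range_glue (range_of_allRange c_act3_27) (range_glue (range_of_allRange c_act3_28) (range_glue (range_of_allRange c_act3_29) (range_glue (range_of_allRange c_act3_30) (range_glue (range_of_allRange c_act3_31) (range_glue (range_of_allRange c_act3_32) (range_glue (range_of_allRange c_act3_33) (range_glue (range_of_allRange c_act3_34) (range_glue (range_of_allRange c_act3_35) (range_of_allRange c_act3_36)))))))))))))))))))))))))))))))))))))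
theorem h_act4 : ∀ i, 0 ≤ i → i < 122760 → Nat.beq (actR4 i) i = true :=
  (range_glue (range_of_allRange c_act4_0) (range_glue (range_of_allRange c_act4_1) (range_glue (range_of_allRange c_act4_2) (range_glue (range_of_allRange c_act4_3) (range_glue (range_of_allRange c_act4_4) (range_glue (range_of_allRange c_act4_5) (range_glue (range_of_allRange c_act4_6) (range_glue (range_of_allRange c_act4_7) (range_glue (range_of_allRange c_act4_8) (range_glue (range_of_allRange c_act4_9) (range_glue (range_of_allRange c_act4_10) (range_glue (range_of_allRange c_act4_11) (range_glue (range_of_allRange c_act4_12) (range_glue (range_of_allRange c_act4_13) (range_glue (range_of_allRange c_act4_14) (range_glue (range_of_allRange c_act4_15) (range_glue (range_of_allRange c_act4_16) (range_glue (range_of_allRange c_act4_17) (range_glue (range_of_allRange c_act4_18) (range_glue (range_of_allRange c_act4_19) (range_glue (range_of_allRange c_act4_20) (range_glue (range_of_allRange c_act4_21) (range_glue (range_of_allRange c_act4_22) (range_glue (range_of_allRange c_act4_23) (range_glue (range_of_allRange c_act4_24) (range_glue (range_of_allRange c_act4_25)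 (range_glue (range_of_allRange c_act4_26) (range_glue (range_of_allRange c_act4_27) (range_glue (range_of_allRange c_act4_28) (range_glue (range_of_allRange c_act4_29) (range_glue (range_of_allRange c_act4_30) (range_glue (range_of_allRange c_act4_31) (range_glue (range_of_allRange c_act4_32) (range_glue (range_of_allRange c_act4_33) (range_glue (range_of_allRange c_act4_34) (range_glue (range_of_allRange c_act4_35) (range_glue (range_of_allRange c_act4_36) (range_glue (range_of_allRange c_act4_37) (range_of_allRange c_act4_38)))))))))))))))))))))))))))))))))))))))

theorem h_act : ∀ L ∈ PM11p.P.real, ∀ i, i < T.N → Tab.relActOK T D L i = true := by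
  rw [c_real]
  intro L hL
  simp only [realLit, List.mem_cons, List.not_mem_nil, or_false] at hL
  rcases hL with rfl | rfl | rfl | rfl | rfl
  · intro i hi
    rw [Tab.relActOK, ← actR0_eq]
    exact h_act0 i (Nat.zero_le _) hi
  · intro i hi
    rw [Tab.relActOK, ← actR1_eq]
    exact h_act1 i (Nat.zero_le _) hi
  · intro i hi
    rw [Tab.relActOK, ← actR2_eq]
    exact h_act2 i (Nat.zero_le _) hi
  · intro i hi
    rw [Tab.relActOK, ← actR3_eq]
    exact h_act3 i (Nat.zero_le _) hi
  · intro i hi
    rw [Tab.relActOK, ← actR4_eq]
    exact h_act4 i (Nat.zero_le _) hi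

theorem prep : PRep PM11p.P T D where
  hP := PM11p.valid
  hk := rfl
  hinv := fun _ _ => rfl
  hperm := fun i x hi hx => h_perm i (Nat.zero_le _) hi x hx
  hlet := fun x hx => allBelow_eq_true.1 c_let x hx
  hact := h_act

end Cfsg.Agent.Lib.Helper4.TCD.ONM11
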