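import Cfsg.Agent.Lib.Helper4.TCD_ONM11K_C0
import Cfsg.Agent.Lib.Helper4.TCD_ONM11K_C1
import Cfsg.Agent.Lib.Helper4.TCD_ONM11K_C2
import Cfsg.Agent.Lib.Helper4.TCD_ONM11K_C3
import Cfsg.Agent.Lib.Helper4.TCD_ONM11_Fin

namespace Cfsg.Agent.Lib.Helper4.TCD.ONM11K

open Cfsg.Agent.Lib.Helper4.TC

theorem h_k0_p0 : ∀ i, 0 ≤ i → i < 122760 → Nat.beq (Cfsg.Agent.Lib.Helper4.TCD.ONM11.col0 i) (actW0 i) = true :=
  (range_glue (range_of_allRange c_k0_0) (range_glue (range_of_allRange c_k0_1) (range_glue (range_of_allRange c_k0_2) (range_glue (range_of_allRange c_k0_3) (range_glue (range_of_allRange c_k0_4) (range_glue (range_of_allRange c_k0_5) (range_of_allRange c_k0_6)))))))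
theorem h_k0 : ∀ i, i < 122760 → Cfsg.Agent.Lib.Helper4.TCD.ONM11.col0 i = Tab.act Cfsg.Agent.Lib.Helper4.TCD.ON1.T Cfsg.Agent.Lib.Helper4.TCD.ON1.D w0 i := by
  intro i hi
  rw [← actW0_eq]
  exact beq_eq (h_k0_p0 i (Nat.zero_le _) hi)
theorem h_k1_p0 : ∀ i, 0 ≤ i → i < 122760 → Nat.beq (Cfsg.Agent.Lib.Helper4.TCD.ONM11.col1 i) (actW1 i) = true :=
  (range_glue (range_of_allRange c_k1_0) (range_glue (range_of_allRange c_k1_1) (range_glue (range_of_allRange c_k1_2) (range_glue (range_of_allRange c_k1_3) (range_glue (range_of_allRange c_k1_4) (range_glue (range_of_allRange c_k1_5) (range_of_allRange c_k1_6)))))))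
theorem h_k1 : ∀ i, i < 122760 → Cfsg.Agent.Lib.Helper4.TCD.ONM11.col1 i = Tab.act Cfsg.Agent.Lib.Helper4.TCD.ON1.T Cfsg.Agent.Lib.Helper4.TCD.ON1.D w1 i := by
  intro i hi
  rw [← actW1_eq]
  exact beq_eq (h_k1_p0 i (Nat.zero_le _) hi)
theorem h_k2_p0 : ∀ i, 0 ≤ i → i < 54520 → Nat.beq (Cfsg.Agent.Lib.Helper4.TCD.ONM11.col2 i) (actW2 i) = true :=
  (range_glue (range_of_allRange c_k2_0) (range_glue (range_of_allRange c_k2_1) (range_glue (range_of_allRange c_k2_2) (range_glue (range_of_allRange c_k2_3) (range_glue (range_of_allRange c_k2_4) (range_glue (range_of_allRange c_k2_5) (range_glue (range_of_allRange c_k2_6) (range_glue (range_of_allRange c_k2_7) (range_glue (range_of_allRange c_k2_8) (range_glue (range_of_allRange c_k2_9) (range_glue (range_of_allRange c_k2_10) (range_glue (range_of_allRange c_k2_11) (range_glue (range_of_allRange c_k2_12) (range_glue (range_of_allRange c_k2_13) (range_glue (range_of_allRange c_k2_14) (range_glue (range_of_allRange c_k2_15) (range_glue (range_of_allRange c_k2_16) (range_glue (range_of_allRange c_k2_17) (range_glue (range_of_allRange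 c_k2_18) (range_glue (range_of_allRange c_k2_19) (range_glue (range_of_allRange c_k2_20) (range_glue (range_of_allRange c_k2_21) (range_glue (range_of_allRange c_k2_22) (range_glue (range_of_allRange c_k2_23) (range_glue (range_of_allRange c_k2_24) (range_glue (range_of_allRange c_k2_25) (range_glue (range_of_allRange c_k2_26) (range_glue (range_of_allRange c_k2_27) (range_glue (range_of_allRange c_k2_28) (range_glue (range_of_allRange c_k2_29) (range_glue (range_of_allRange c_k2_30) (range_glue (range_of_allRange c_k2_31) (range_glue (range_of_allRange c_k2_32) (range_glue (range_of_allRange c_k2_33) (range_glue (range_of_allRange c_k2_34) (range_glue (range_of_allRange c_k2_35) (range_glue (range_of_allRange c_k2_36) (range_glue (range_of_allRange c_k2_37) (range_glue (range_of_allRange c_k2_38) (range_of_allRange c_k2_39))))))))))))))))))))))))))))))))))))))))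
theorem h_k2_p1 : ∀ i, 54520 ≤ i → i < 109040 → Nat.beq (Cfsg.Agent.Lib.Helper4.TCD.ONM11.col2 i) (actW2 i) = true :=
  (range_glue (range_of_allRange c_k2_40) (range_glue (range_of_allRange c_k2_41) (range_glue (range_of_allRange c_k2_42) (range_glue (range_of_allRange c_k2_43) (range_glue (range_of_allRange c_k2_44) (range_glue (range_of_allRange c_k2_45) (range_glue (range_of_allRange c_k2_46) (range_glue (range_of_allRange c_k2_47) (range_glue (range_of_allRange c_k2_48) (range_glue (range_of_allRange c_k2_49) (range_glue (range_of_allRange c_k2_50) (range_glue (range_of_allRange c_k2_51) (range_glue (range_of_allRange c_k2_52) (range_glue (range_of_allRange c_k2_53) (range_glue (range_of_allRange c_k2_54) (range_glue (range_of_allRange c_k2_55) (range_glue (range_of_allRange c_k2_56) (range_glue (range_of_allRange c_k2_57) (range_glue (range_of_allRange c_k2_58) (range_glue (range_of_allRange c_k2_59) (range_glue (range_of_allRange c_k2_60) (range_glue (range_of_allRange c_k2_61) (range_glue (range_of_allRange c_k2_62) (range_glue (range_of_allRange c_k2_63)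 (range_glue (range_of_allRange c_k2_64) (range_glue (range_of_allRange c_k2_65) (range_glue (range_of_allRange c_k2_66) (range_glue (range_of_allRange c_k2_67) (range_glue (range_of_allRange c_k2_68) (range_glue (range_of_allRange c_k2_69) (range_glue (range_of_allRange c_k2_70) (range_glue (range_of_allRange c_k2_71) (range_glue (range_of_allRange c_k2_72) (range_glue (range_of_allRange c_k2_73) (range_glue (range_of_allRange c_k2_74) (range_glue (range_of_allRange c_k2_75) (range_glue (range_of_allRange c_k2_76) (range_glue (range_of_allRange c_k2_77) (range_glue (range_of_allRange c_k2_78) (range_of_allRange c_k2_79))))))))))))))))))))))))))))))))))))))))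
theorem h_k2_p2 : ∀ i, 109040 ≤ i → i < 122760 → Nat.beq (Cfsg.Agent.Lib.Helper4.TCD.ONM11.col2 i) (actW2 i) = true :=
  (range_glue (range_of_allRange c_k2_80) (range_glue (range_of_allRange c_k2_81) (range_glue (range_of_allRange c_k2_82) (range_glue (range_of_allRange c_k2_83) (range_glue (range_of_allRange c_k2_84) (range_glue (range_of_allRange c_k2_85) (range_glue (range_of_allRange c_k2_86) (range_glue (range_of_allRange c_k2_87) (range_glue (range_of_allRange c_k2_88) (range_glue (range_of_allRange c_k2_89) (range_of_allRange c_k2_90)))))))))))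
theorem h_k2 : ∀ i, i < 122760 → Cfsg.Agent.Lib.Helper4.TCD.ONM11.col2 i = Tab.act Cfsg.Agent.Lib.Helper4.TCD.ON1.T Cfsg.Agent.Lib.Helper4.TCD.ON1.D w2 i := by
  intro i hi
  rw [← actW2_eq]
  exact beq_eq ((range_glue h_k2_p0 (range_glue h_k2_p1 h_k2_p2)) i (Nat.zero_le _) hi)
theorem h_k3_p0 : ∀ i, 0 ≤ i → i < 54520 → Nat.beq (Cfsg.Agent.Lib.Helper4.TCD.ONM11.col3 i) (actW3 i) = true :=
  (range_glue (range_of_allRange c_k3_0) (range_glue (range_of_allRange c_k3_1) (range_glue (range_of_allRange c_k3_2) (range_glue (range_of_allRange c_k3_3) (range_glue (range_of_allRange c_k3_4) (range_glue (range_of_allRange c_k3_5) (range_glue (range_of_allRange c_k3_6) (range_glue (range_of_allRange c_k3_7) (range_glue (range_of_allRange c_k3_8) (range_glue (range_of_allRange c_k3_9) (range_glue (range_of_allRange c_k3_10) (range_glue (range_of_allRange c_k3_11) (range_glue (range_of_allRange c_k3_12) (range_glue (range_of_allRange c_k3_13) (range_glue (range_of_allRange c_k3_14) (range_glue (range_of_allRange c_k3_15) (range_glue (range_of_allRange c_k3_16) (range_glue (range_of_allRange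 c_k3_17) (range_glue (range_of_allRange c_k3_18) (range_glue (range_of_allRange c_k3_19) (range_glue (range_of_allRange c_k3_20) (range_glue (range_of_allRange c_k3_21) (range_glue (range_of_allRange c_k3_22) (range_glue (range_of_allRange c_k3_23) (range_glue (range_of_allRange c_k3_24) (range_glue (range_of_allRange c_k3_25) (range_glue (range_of_allRange c_k3_26) (range_glue (range_of_allRange c_k3_27) (range_glue (range_of_allRange c_k3_28) (range_glue (range_of_allRange c_k3_29) (range_glue (range_of_allRange c_k3_30) (range_glue (range_of_allRange c_k3_31) (range_glue (range_of_allRange c_k3_32) (range_glue (range_of_allRange c_k3_33) (range_glue (range_of_allRange c_k3_34) (range_glue (range_of_allRange c_k3_35) (range_glue (range_of_allRange c_k3_36) (range_glue (range_of_allRange c_k3_37) (range_glue (range_of_allRange c_k3_38) (range_of_allRange c_k3_39))))))))))))))))))))))))))))))))))))))))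
theorem h_k3_p1 : ∀ i, 54520 ≤ i → i < 109040 → Nat.beq (Cfsg.Agent.Lib.Helper4.TCD.ONM11.col3 i) (actW3 i) = true :=
  (range_glue (range_of_allRange c_k3_40) (range_glue (range_of_allRange c_k3_41) (range_glue (range_of_allRange c_k3_42) (range_glue (range_of_allRange c_k3_43) (range_glue (range_of_allRange c_k3_44) (range_glue (range_of_allRange c_k3_45) (range_glue (range_of_allRange c_k3_46) (range_glue (range_of_allRange c_k3_47) (range_glue (range_of_allRange c_k3_48) (range_glue (range_of_allRange c_k3_49) (range_glue (range_of_allRange c_k3_50) (range_glue (range_of_allRange c_k3_51) (range_glue (range_of_allRange c_k3_52) (range_glue (range_of_allRange c_k3_53) (range_glue (range_of_allRange c_k3_54) (range_glue (range_of_allRange c_k3_55) (range_glue (range_of_allRange c_k3_56) (range_glue (range_of_allRange c_k3_57) (range_glue (range_of_allRange c_k3_58) (range_glue (range_of_allRange c_k3_59) (range_glue (range_of_allRange c_k3_60) (range_glue (range_of_allRange c_k3_61) (range_glue (range_of_allRange c_k3_62) (range_glue (range_of_allRange c_k3_63)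 (range_glue (range_of_allRange c_k3_64) (range_glue (range_of_allRange c_k3_65) (range_glue (range_of_allRange c_k3_66) (range_glue (range_of_allRange c_k3_67) (range_glue (range_of_allRange c_k3_68) (range_glue (range_of_allRange c_k3_69) (range_glue (range_of_allRange c_k3_70) (range_glue (range_of_allRange c_k3_71) (range_glue (range_of_allRange c_k3_72) (range_glue (range_of_allRange c_k3_73) (range_glue (range_of_allRange c_k3_74) (range_glue (range_of_allRange c_k3_75) (range_glue (range_of_allRange c_k3_76) (range_glue (range_of_allRange c_k3_77) (range_glue (range_of_allRange c_k3_78) (range_of_allRange c_k3_79))))))))))))))))))))))))))))))))))))))))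
theorem h_k3_p2 : ∀ i, 109040 ≤ i → i < 122760 → Nat.beq (Cfsg.Agent.Lib.Helper4.TCD.ONM11.col3 i) (actW3 i) = true :=
  (range_glue (range_of_allRange c_k3_80) (range_glue (range_of_allRange c_k3_81) (range_glue (range_of_allRange c_k3_82) (range_glue (range_of_allRange c_k3_83) (range_glue (range_of_allRange c_k3_84) (range_glue (range_of_allRange c_k3_85) (range_glue (range_of_allRange c_k3_86) (range_glue (range_of_allRange c_k3_87) (range_glue (range_of_allRange c_k3_88) (range_glue (range_of_allRange c_k3_89) (range_of_allRange c_k3_90)))))))))))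
theorem h_k3 : ∀ i, i < 122760 → Cfsg.Agent.Lib.Helper4.TCD.ONM11.col3 i = Tab.act Cfsg.Agent.Lib.Helper4.TCD.ON1.T Cfsg.Agent.Lib.Helper4.TCD.ON1.D w3 i := by
  intro i hi
  rw [← actW3_eq]
  exact beq_eq ((range_glue h_k3_p0 (range_glue h_k3_p1 h_k3_p2)) i (Nat.zero_le _) hi)

end Cfsg.Agent.Lib.Helper4.TCD.ONM11K
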