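import Cfsg.Agent.Lib.Helper4.TCD_ON1_Acc

namespace Cfsg.Agent.Lib.Helper4.TCD.ON1

open Cfsg.Agent.Lib.Helper4.TC

set_option maxRecDepth 100000
set_option Elab.async false

theorem c_rel_59 : allRange D.relOK 345865 2632 = true := by decide +kernel
theorem c_rel_60 : allRange D.relOK 348497 2549 = true := by decide +kernel
theorem c_rel_61 : allRange D.relOK 351046 2526 = true := by decide +kernel
theorem c_rel_62 : allRange D.relOK 353572 2495 = true := by decide +kernel
theorem c_rel_63 : allRange D.relOK 356067 2623 = true := by decide +kernel
theorem c_rel_64 : allRange D.relOK 358690 2636 = true := by decide +kernel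
theorem c_rel_65 : allRange D.relOK 361326 2551 = true := by decide +kernel
theorem c_rel_66 : allRange D.relOK 363877 2596 = true := by decide +kernel
theorem c_rel_67 : allRange D.relOK 366473 2518 = true := by decide +kernel
theorem c_rel_68 : allRange D.relOK 368991 2645 = true := by decide +kernel
theorem c_rel_69 : allRange D.relOK 371636 2687 = true := by decide +kernel
theorem c_rel_70 : allRange D.relOK 374323 2712 = true := by decide +kernel
theorem c_rel_71 : allRange D.relOK 377035 2554 = true := by decide +kernel
theorem c_rel_72 : allRange D.relOK 379589 2575 = true := by decide +kernel
theorem c_rel_73 : allRange D.relOK 382164 2532 = true := by decide +kernel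
theorem c_rel_74 : allRange D.relOK 384696 2436 = true := by decide +kernel
theorem c_rel_75 : allRange D.relOK 387132 2384 = true := by decide +kernel
theorem c_rel_76 : allRange D.relOK 389516 2473 = true := by decide +kernel
theorem c_rel_77 : allRange D.relOK 391989 2467 = true := by decide +kernel
theorem c_rel_78 : allRange D.relOK 394456 2561 = true := by decide +kernel
theorem c_rel_79 : allRange D.relOK 397017 2578 = true := by decide +kernel
theorem c_rel_80 : allRange D.relOK 399595 2540 = true := by decide +kernel
theorem c_rel_81 : allRange D.relOK 402135 2536 = true := by decide +kernel
theorem c_rel_82 : allRange D.relOK 404671 2525 = true := by decide +kernel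
theorem c_rel_83 : allRange D.relOK 407196 2586 = true := by decide +kernel
theorem c_rel_84 : allRange D.relOK 409782 2534 = true := by decide +kernel
theorem c_rel_85 : allRange D.relOK 412316 2509 = true := by decide +kernel
theorem c_rel_86 : allRange D.relOK 414825 2566 = true := by decide +kernel
theorem c_rel_87 : allRange D.relOK 417391 2631 = true := by decide +kernel
theorem c_rel_88 : allRange D.relOK 420022 3326 = true := by decide +kernel
theorem c_rel_89 : allRange D.relOK 423348 3575 = true := by decide +kernel
theorem c_rel_90 : allRange D.relOK 426923 3587 = true := by decide +kernel
theorem c_rel_91 : allRange D.relOK 430510 3603 = true := by decide +kernel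
theorem c_rel_92 : allRange D.relOK 434113 3527 = true := by decide +kernel
theorem c_rel_93 : allRange D.relOK 437640 3498 = true := by decide +kernel
theorem c_rel_94 : allRange D.relOK 441138 3520 = true := by decide +kernel
theorem c_rel_95 : allRange D.relOK 444658 3455 = true := by decide +kernel
theorem c_rel_96 : allRange D.relOK 448113 3490 = true := by decide +kernel
theorem c_rel_97 : allRange D.relOK 451603 3574 = true := by decide +kernel
theorem c_rel_98 : allRange D.relOK 455177 1933 = true := by decide +kernel
theorem c_rel_99 : allRange D.relOK 457110 1875 = true := by decide +kernel
theorem c_rel_100 : allRange D.relOK 458985 1713 = true := by decide +kernel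
theorem c_rel_101 : allRange D.relOK 460698 1767 = true := by decide +kernel
theorem c_rel_102 : allRange D.relOK 462465 1693 = true := by decide +kernel
theorem c_rel_103 : allRange D.relOK 464158 1719 = true := by decide +kernel
theorem c_rel_104 : allRange D.relOK 465877 1745 = true := by decide +kernel
theorem c_rel_105 : allRange D.relOK 467622 1783 = true := by decide +kernel
theorem c_rel_106 : allRange D.relOK 469405 1851 = true := by decide +kernel
theorem c_rel_107 : allRange D.relOK 471256 1850 = true := by decide +kernel
theorem c_rel_108 : allRange D.relOK 473106 1857 = true := by decide +kernel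
theorem c_rel_109 : allRange D.relOK 474963 1860 = true := by decide +kernel
theorem c_rel_110 : allRange D.relOK 476823 1923 = true := by decide +kernel
theorem c_rel_111 : allRange D.relOK 478746 1877 = true := by decide +kernel
theorem c_rel_112 : allRange D.relOK 480623 1916 = true := by decide +kernel
theorem c_rel_113 : allRange D.relOK 482539 1911 = true := by decide +kernel
theorem c_rel_114 : allRange D.relOK 484450 2128 = true := by decide +kernel
theorem c_rel_115 : allRange D.relOK 486578 2118 = true := by decide +kernel
theorem c_rel_116 : allRange D.relOK 488696 2164 = true := by decide +kernel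
theorem c_rel_117 : allRange D.relOK 490860 2205 = true := by decide +kernel
theorem c_rel_118 : allRange D.relOK 493065 2171 = true := by decide +kernel
theorem c_rel_119 : allRange D.relOK 495236 2151 = true := by decide +kernel
theorem c_rel_120 : allRange D.relOK 497387 2161 = true := by decide +kernel
theorem c_rel_121 : allRange D.relOK 499548 2205 = true := by decide +kernel
theorem c_rel_122 : allRange D.relOK 501753 2097 = true := by decide +kernel
theorem c_rel_123 : allRange D.relOK 503850 2129 = true := by decide +kernel
theorem c_rel_124 : allRange D.relOK 505979 2154 = true := by decide +kernel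
theorem c_rel_125 : allRange D.relOK 508133 2133 = true := by decide +kernel
theorem c_rel_126 : allRange D.relOK 510266 2110 = true := by decide +kernel
theorem c_rel_127 : allRange D.relOK 512376 2215 = true := by decide +kernel
theorem c_rel_128 : allRange D.relOK 514591 2181 = true := by decide +kernel
theorem c_rel_129 : allRange D.relOK 516772 2185 = true := by decide +kernel
theorem c_rel_130 : allRange D.relOK 518957 2203 = true := by decide +kernel
theorem c_rel_131 : allRange D.relOK 521160 2147 = true := by decide +kernel
theorem c_rel_132 : allRange D.relOK 523307 2106 = true := by decide +kernel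
theorem c_rel_133 : allRange D.relOK 525413 2152 = true := by decide +kernel
theorem c_rel_134 : allRange D.relOK 527565 2157 = true := by decide +kernel
theorem c_rel_135 : allRange D.relOK 529722 2164 = true := by decide +kernel
theorem c_rel_136 : allRange D.relOK 531886 2177 = true := by decide +kernel
theorem c_rel_137 : allRange D.relOK 534063 2100 = true := by decide +kernel
theorem c_rel_138 : allRange D.relOK 536163 2107 = true := by decide +kernel
theorem c_rel_139 : allRange D.relOK 538270 2081 = true := by decide +kernel
theorem c_rel_140 : allRange D.relOK 540351 2149 = true := by decide +kernel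
theorem c_rel_141 : allRange D.relOK 542500 2083 = true := by decide +kernel
theorem c_rel_142 : allRange D.relOK 544583 2058 = true := by decide +kernel
theorem c_rel_143 : allRange D.relOK 546641 2061 = true := by decide +kernel
theorem c_rel_144 : allRange D.relOK 548702 1996 = true := by decide +kernel
theorem c_rel_145 : allRange D.relOK 550698 1998 = true := by decide +kernel
theorem c_rel_146 : allRange D.relOK 552696 2113 = true := by decide +kernel
theorem c_rel_147 : allRange D.relOK 554809 2133 = true := by decide +kernel
theorem c_rel_148 : allRange D.relOK 556942 2105 = true := by decide +kernel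
theorem c_rel_149 : allRange D.relOK 559047 2063 = true := by decide +kernel
theorem c_rel_150 : allRange D.relOK 561110 2069 = true := by decide +kernel
theorem c_rel_151 : allRange D.relOK 563179 2153 = true := by decide +kernel
theorem c_rel_152 : allRange D.relOK 565332 2120 = true := by decide +kernel
theorem c_rel_153 : allRange D.relOK 567452 2047 = true := by decide +kernel
theorem c_rel_154 : allRange D.relOK 569499 2167 = true := by decide +kernel
theorem c_rel_155 : allRange D.relOK 571666 2068 = true := by decide +kernel
theorem c_rel_156 : allRange D.relOK 573734 2087 = true := by decide +kernel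
theorem c_rel_157 : allRange D.relOK 575821 2088 = true := by decide +kernel

end Cfsg.Agent.Lib.Helper4.TCD.ON1
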