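import Cfsg.Agent.Lib.Helper4.TCD_ON1_Acc

namespace Cfsg.Agent.Lib.Helper4.TCD.ON1

open Cfsg.Agent.Lib.Helper4.TC

set_option maxRecDepth 100000
set_option Elab.async false

theorem c_act24_12 : allRange (fun i => Nat.beq (actR24 i) i) 72000 6000 = true := by decide +kernel
theorem c_act24_13 : allRange (fun i => Nat.beq (actR24 i) i) 78000 6000 = true := by decide +kernel
theorem c_act24_14 : allRange (fun i => Nat.beq (actR24 i) i) 84000 6000 = true := by decide +kernel
theorem c_act24_15 : allRange (fun i => Nat.beq (actR24 i) i) 90000 6000 = true := by decide +kernel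
theorem c_act24_16 : allRange (fun i => Nat.beq (actR24 i) i) 96000 6000 = true := by decide +kernel
theorem c_act24_17 : allRange (fun i => Nat.beq (actR24 i) i) 102000 6000 = true := by decide +kernel
theorem c_act24_18 : allRange (fun i => Nat.beq (actR24 i) i) 108000 6000 = true := by decide +kernel
theorem c_act24_19 : allRange (fun i => Nat.beq (actR24 i) i) 114000 6000 = true := by decide +kernel
theorem c_act24_20 : allRange (fun i => Nat.beq (actR24 i) i) 120000 2760 = true := by decide +kernel
theorem c_act25_0 : allRange (fun i => Nat.beq (actR25 i) i) 0 3000 = true := by decide +kernel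
theorem c_act25_1 : allRange (fun i => Nat.beq (actR25 i) i) 3000 3000 = true := by decide +kernel
theorem c_act25_2 : allRange (fun i => Nat.beq (actR25 i) i) 6000 3000 = true := by decide +kernel
theorem c_act25_3 : allRange (fun i => Nat.beq (actR25 i) i) 9000 3000 = true := by decide +kernel
theorem c_act25_4 : allRange (fun i => Nat.beq (actR25 i) i) 12000 3000 = true := by decide +kernel
theorem c_act25_5 : allRange (fun i => Nat.beq (actR25 i) i) 15000 3000 = true := by decide +kernel
theorem c_act25_6 : allRange (fun i => Nat.beq (actR25 i) i) 18000 3000 = true := by decide +kernel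
theorem c_act25_7 : allRange (fun i => Nat.beq (actR25 i) i) 21000 3000 = true := by decide +kernel
theorem c_act25_8 : allRange (fun i => Nat.beq (actR25 i) i) 24000 3000 = true := by decide +kernel
theorem c_act25_9 : allRange (fun i => Nat.beq (actR25 i) i) 27000 3000 = true := by decide +kernel
theorem c_act25_10 : allRange (fun i => Nat.beq (actR25 i) i) 30000 3000 = true := by decide +kernel
theorem c_act25_11 : allRange (fun i => Nat.beq (actR25 i) i) 33000 3000 = true := by decide +kernel
theorem c_act25_12 : allRange (fun i => Nat.beq (actR25 i) i) 36000 3000 = true := by decide +kernel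
theorem c_act25_13 : allRange (fun i => Nat.beq (actR25 i) i) 39000 3000 = true := by decide +kernel
theorem c_act25_14 : allRange (fun i => Nat.beq (actR25 i) i) 42000 3000 = true := by decide +kernel
theorem c_act25_15 : allRange (fun i => Nat.beq (actR25 i) i) 45000 3000 = true := by decide +kernel
theorem c_act25_16 : allRange (fun i => Nat.beq (actR25 i) i) 48000 3000 = true := by decide +kernel
theorem c_act25_17 : allRange (fun i => Nat.beq (actR25 i) i) 51000 3000 = true := by decide +kernel
theorem c_act25_18 : allRange (fun i => Nat.beq (actR25 i) i) 54000 3000 = true := by decide +kernel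
theorem c_act25_19 : allRange (fun i => Nat.beq (actR25 i) i) 57000 3000 = true := by decide +kernel
theorem c_act25_20 : allRange (fun i => Nat.beq (actR25 i) i) 60000 3000 = true := by decide +kernel
theorem c_act25_21 : allRange (fun i => Nat.beq (actR25 i) i) 63000 3000 = true := by decide +kernel
theorem c_act25_22 : allRange (fun i => Nat.beq (actR25 i) i) 66000 3000 = true := by decide +kernel
theorem c_act25_23 : allRange (fun i => Nat.beq (actR25 i) i) 69000 3000 = true := by decide +kernel
theorem c_act25_24 : allRange (fun i => Nat.beq (actR25 i) i) 72000 3000 = true := by decide +kernel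
theorem c_act25_25 : allRange (fun i => Nat.beq (actR25 i) i) 75000 3000 = true := by decide +kernel
theorem c_act25_26 : allRange (fun i => Nat.beq (actR25 i) i) 78000 3000 = true := by decide +kernel
theorem c_act25_27 : allRange (fun i => Nat.beq (actR25 i) i) 81000 3000 = true := by decide +kernel
theorem c_act25_28 : allRange (fun i => Nat.beq (actR25 i) i) 84000 3000 = true := by decide +kernel
theorem c_act25_29 : allRange (fun i => Nat.beq (actR25 i) i) 87000 3000 = true := by decide +kernel
theorem c_act25_30 : allRange (fun i => Nat.beq (actR25 i) i) 90000 3000 = true := by decide +kernel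
theorem c_act25_31 : allRange (fun i => Nat.beq (actR25 i) i) 93000 3000 = true := by decide +kernel
theorem c_act25_32 : allRange (fun i => Nat.beq (actR25 i) i) 96000 3000 = true := by decide +kernel
theorem c_act25_33 : allRange (fun i => Nat.beq (actR25 i) i) 99000 3000 = true := by decide +kernel
theorem c_act25_34 : allRange (fun i => Nat.beq (actR25 i) i) 102000 3000 = true := by decide +kernel
theorem c_act25_35 : allRange (fun i => Nat.beq (actR25 i) i) 105000 3000 = true := by decide +kernel
theorem c_act25_36 : allRange (fun i => Nat.beq (actR25 i) i) 108000 3000 = true := by decide +kernel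
theorem c_act25_37 : allRange (fun i => Nat.beq (actR25 i) i) 111000 3000 = true := by decide +kernel
theorem c_act25_38 : allRange (fun i => Nat.beq (actR25 i) i) 114000 3000 = true := by decide +kernel
theorem c_act25_39 : allRange (fun i => Nat.beq (actR25 i) i) 117000 3000 = true := by decide +kernel
theorem c_act25_40 : allRange (fun i => Nat.beq (actR25 i) i) 120000 2760 = true := by decide +kernel

end Cfsg.Agent.Lib.Helper4.TCD.ON1
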