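import Cfsg.Agent.Lib.Helper4.TCD_ON1_Acc

namespace Cfsg.Agent.Lib.Helper4.TCD.ON1

open Cfsg.Agent.Lib.Helper4.TC

set_option maxRecDepth 100000
set_option Elab.async false

theorem c_act26_0 : allRange (fun i => Nat.beq (actR26 i) i) 0 5454 = true := by decide +kernel
theorem c_act26_1 : allRange (fun i => Nat.beq (actR26 i) i) 5454 5454 = true := by decide +kernel
theorem c_act26_2 : allRange (fun i => Nat.beq (actR26 i) i) 10908 5454 = true := by decide +kernel
theorem c_act26_3 : allRange (fun i => Nat.beq (actR26 i) i) 16362 5454 = true := by decide +kernel
theorem c_act26_4 : allRange (fun i => Nat.beq (actR26 i) i) 21816 5454 = true := by decide +kernel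
theorem c_act26_5 : allRange (fun i => Nat.beq (actR26 i) i) 27270 5454 = true := by decide +kernel
theorem c_act26_6 : allRange (fun i => Nat.beq (actR26 i) i) 32724 5454 = true := by decide +kernel
theorem c_act26_7 : allRange (fun i => Nat.beq (actR26 i) i) 38178 5454 = true := by decide +kernel
theorem c_act26_8 : allRange (fun i => Nat.beq (actR26 i) i) 43632 5454 = true := by decide +kernel
theorem c_act26_9 : allRange (fun i => Nat.beq (actR26 i) i) 49086 5454 = true := by decide +kernel
theorem c_act26_10 : allRange (fun i => Nat.beq (actR26 i) i) 54540 5454 = true := by decide +kernel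
theorem c_act26_11 : allRange (fun i => Nat.beq (actR26 i) i) 59994 5454 = true := by decide +kernel
theorem c_act26_12 : allRange (fun i => Nat.beq (actR26 i) i) 65448 5454 = true := by decide +kernel
theorem c_act26_13 : allRange (fun i => Nat.beq (actR26 i) i) 70902 5454 = true := by decide +kernel
theorem c_act26_14 : allRange (fun i => Nat.beq (actR26 i) i) 76356 5454 = true := by decide +kernel
theorem c_act26_15 : allRange (fun i => Nat.beq (actR26 i) i) 81810 5454 = true := by decide +kernel
theorem c_act26_16 : allRange (fun i => Nat.beq (actR26 i) i) 87264 5454 = true := by decide +kernel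
theorem c_act26_17 : allRange (fun i => Nat.beq (actR26 i) i) 92718 5454 = true := by decide +kernel
theorem c_act26_18 : allRange (fun i => Nat.beq (actR26 i) i) 98172 5454 = true := by decide +kernel
theorem c_act26_19 : allRange (fun i => Nat.beq (actR26 i) i) 103626 5454 = true := by decide +kernel
theorem c_act26_20 : allRange (fun i => Nat.beq (actR26 i) i) 109080 5454 = true := by decide +kernel
theorem c_act26_21 : allRange (fun i => Nat.beq (actR26 i) i) 114534 5454 = true := by decide +kernel
theorem c_act26_22 : allRange (fun i => Nat.beq (actR26 i) i) 119988 2772 = true := by decide +kernel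
theorem c_act27_0 : allRange (fun i => Nat.beq (actR27 i) i) 0 5454 = true := by decide +kernel
theorem c_act27_1 : allRange (fun i => Nat.beq (actR27 i) i) 5454 5454 = true := by decide +kernel
theorem c_act27_2 : allRange (fun i => Nat.beq (actR27 i) i) 10908 5454 = true := by decide +kernel
theorem c_act27_3 : allRange (fun i => Nat.beq (actR27 i) i) 16362 5454 = true := by decide +kernel
theorem c_act27_4 : allRange (fun i => Nat.beq (actR27 i) i) 21816 5454 = true := by decide +kernel
theorem c_act27_5 : allRange (fun i => Nat.beq (actR27 i) i) 27270 5454 = true := by decide +kernel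
theorem c_act27_6 : allRange (fun i => Nat.beq (actR27 i) i) 32724 5454 = true := by decide +kernel
theorem c_act27_7 : allRange (fun i => Nat.beq (actR27 i) i) 38178 5454 = true := by decide +kernel
theorem c_act27_8 : allRange (fun i => Nat.beq (actR27 i) i) 43632 5454 = true := by decide +kernel
theorem c_act27_9 : allRange (fun i => Nat.beq (actR27 i) i) 49086 5454 = true := by decide +kernel
theorem c_act27_10 : allRange (fun i => Nat.beq (actR27 i) i) 54540 5454 = true := by decide +kernel
theorem c_act27_11 : allRange (fun i => Nat.beq (actR27 i) i) 59994 5454 = true := by decide +kernel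
theorem c_act27_12 : allRange (fun i => Nat.beq (actR27 i) i) 65448 5454 = true := by decide +kernel
theorem c_act27_13 : allRange (fun i => Nat.beq (actR27 i) i) 70902 5454 = true := by decide +kernel
theorem c_act27_14 : allRange (fun i => Nat.beq (actR27 i) i) 76356 5454 = true := by decide +kernel
theorem c_act27_15 : allRange (fun i => Nat.beq (actR27 i) i) 81810 5454 = true := by decide +kernel
theorem c_act27_16 : allRange (fun i => Nat.beq (actR27 i) i) 87264 5454 = true := by decide +kernel
theorem c_act27_17 : allRange (fun i => Nat.beq (actR27 i) i) 92718 5454 = true := by decide +kernel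
theorem c_act27_18 : allRange (fun i => Nat.beq (actR27 i) i) 98172 5454 = true := by decide +kernel
theorem c_act27_19 : allRange (fun i => Nat.beq (actR27 i) i) 103626 5454 = true := by decide +kernel
theorem c_act27_20 : allRange (fun i => Nat.beq (actR27 i) i) 109080 5454 = true := by decide +kernel
theorem c_act27_21 : allRange (fun i => Nat.beq (actR27 i) i) 114534 5454 = true := by decide +kernel
theorem c_act27_22 : allRange (fun i => Nat.beq (actR27 i) i) 119988 2772 = true := by decide +kernel

end Cfsg.Agent.Lib.Helper4.TCD.ON1
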