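import Cfsg.Agent.Lib.Helper4.TCD_ON1_Acc

namespace Cfsg.Agent.Lib.Helper4.TCD.ON1

open Cfsg.Agent.Lib.Helper4.TC

set_option maxRecDepth 100000
set_option Elab.async false

theorem c_rel_158 : allRange D.relOK 577909 2097 = true := by decide +kernel
theorem c_rel_159 : allRange D.relOK 580006 2045 = true := by decide +kernel
theorem c_rel_160 : allRange D.relOK 582051 2084 = true := by decide +kernel
theorem c_rel_161 : allRange D.relOK 584135 2066 = true := by decide +kernel
theorem c_rel_162 : allRange D.relOK 586201 2108 = true := by decide +kernel
theorem c_rel_163 : allRange D.relOK 588309 2102 = true := by decide +kernel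
theorem c_rel_164 : allRange D.relOK 590411 2179 = true := by decide +kernel
theorem c_rel_165 : allRange D.relOK 592590 2131 = true := by decide +kernel
theorem c_rel_166 : allRange D.relOK 594721 2054 = true := by decide +kernel
theorem c_rel_167 : allRange D.relOK 596775 2102 = true := by decide +kernel
theorem c_rel_168 : allRange D.relOK 598877 2063 = true := by decide +kernel
theorem c_rel_169 : allRange D.relOK 600940 2098 = true := by decide +kernel
theorem c_rel_170 : allRange D.relOK 603038 2166 = true := by decide +kernel
theorem c_rel_171 : allRange D.relOK 605204 2162 = true := by decide +kernel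
theorem c_rel_172 : allRange D.relOK 607366 2197 = true := by decide +kernel
theorem c_rel_173 : allRange D.relOK 609563 2135 = true := by decide +kernel
theorem c_rel_174 : allRange D.relOK 611698 2157 = true := by decide +kernel
theorem c_rel_175 : allRange D.relOK 613855 2160 = true := by decide +kernel
theorem c_rel_176 : allRange D.relOK 616015 2055 = true := by decide +kernel
theorem c_rel_177 : allRange D.relOK 618070 2151 = true := by decide +kernel
theorem c_rel_178 : allRange D.relOK 620221 2101 = true := by decide +kernel
theorem c_rel_179 : allRange D.relOK 622322 2105 = true := by decide +kernel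
theorem c_rel_180 : allRange D.relOK 624427 2117 = true := by decide +kernel
theorem c_rel_181 : allRange D.relOK 626544 2101 = true := by decide +kernel
theorem c_rel_182 : allRange D.relOK 628645 2058 = true := by decide +kernel
theorem c_rel_183 : allRange D.relOK 630703 2163 = true := by decide +kernel
theorem c_rel_184 : allRange D.relOK 632866 2099 = true := by decide +kernel
theorem c_rel_185 : allRange D.relOK 634965 2083 = true := by decide +kernel
theorem c_rel_186 : allRange D.relOK 637048 2042 = true := by decide +kernel
theorem c_rel_187 : allRange D.relOK 639090 2092 = true := by decide +kernel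
theorem c_rel_188 : allRange D.relOK 641182 2079 = true := by decide +kernel
theorem c_rel_189 : allRange D.relOK 643261 2116 = true := by decide +kernel
theorem c_rel_190 : allRange D.relOK 645377 2093 = true := by decide +kernel
theorem c_rel_191 : allRange D.relOK 647470 2099 = true := by decide +kernel
theorem c_rel_192 : allRange D.relOK 649569 2059 = true := by decide +kernel
theorem c_rel_193 : allRange D.relOK 651628 4366 = true := by decide +kernel
theorem c_rel_194 : allRange D.relOK 655994 4851 = true := by decide +kernel
theorem c_rel_195 : allRange D.relOK 660845 4869 = true := by decide +kernel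
theorem c_rel_196 : allRange D.relOK 665714 4820 = true := by decide +kernel
theorem c_rel_197 : allRange D.relOK 670534 4856 = true := by decide +kernel
theorem c_rel_198 : allRange D.relOK 675390 4885 = true := by decide +kernel
theorem c_rel_199 : allRange D.relOK 680275 4824 = true := by decide +kernel
theorem c_rel_200 : allRange D.relOK 685099 4872 = true := by decide +kernel
theorem c_rel_201 : allRange D.relOK 689971 4909 = true := by decide +kernel
theorem c_rel_202 : allRange D.relOK 694880 4915 = true := by decide +kernel
theorem c_rel_203 : allRange D.relOK 699795 4880 = true := by decide +kernel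
theorem c_rel_204 : allRange D.relOK 704675 4881 = true := by decide +kernel
theorem c_rel_205 : allRange D.relOK 709556 4898 = true := by decide +kernel
theorem c_rel_206 : allRange D.relOK 714454 4882 = true := by decide +kernel
theorem c_rel_207 : allRange D.relOK 719336 4838 = true := by decide +kernel
theorem c_rel_208 : allRange D.relOK 724174 4869 = true := by decide +kernel
theorem c_rel_209 : allRange D.relOK 729043 4836 = true := by decide +kernel
theorem c_rel_210 : allRange D.relOK 733879 4828 = true := by decide +kernel
theorem c_rel_211 : allRange D.relOK 738707 4870 = true := by decide +kernel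
theorem c_rel_212 : allRange D.relOK 743577 4807 = true := by decide +kernel
theorem c_rel_213 : allRange D.relOK 748384 4840 = true := by decide +kernel
theorem c_rel_214 : allRange D.relOK 753224 4810 = true := by decide +kernel
theorem c_rel_215 : allRange D.relOK 758034 4790 = true := by decide +kernel
theorem c_rel_216 : allRange D.relOK 762824 4782 = true := by decide +kernel
theorem c_rel_217 : allRange D.relOK 767606 4767 = true := by decide +kernel
theorem c_rel_218 : allRange D.relOK 772373 4760 = true := by decide +kernel
theorem c_rel_219 : allRange D.relOK 777133 4824 = true := by decide +kernel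
theorem c_rel_220 : allRange D.relOK 781957 437 = true := by decide +kernel
theorem c_fin_0 : allGrid (T.finOK D) 0 1500 8 = true := by decide +kernel
theorem c_fin_1 : allGrid (T.finOK D) 1500 1500 8 = true := by decide +kernel
theorem c_fin_2 : allGrid (T.finOK D) 3000 1500 8 = true := by decide +kernel
theorem c_fin_3 : allGrid (T.finOK D) 4500 1500 8 = true := by decide +kernel
theorem c_fin_4 : allGrid (T.finOK D) 6000 1500 8 = true := by decide +kernel
theorem c_fin_5 : allGrid (T.finOK D) 7500 1500 8 = true := by decide +kernel
theorem c_fin_6 : allGrid (T.finOK D) 9000 1500 8 = true := by decide +kernel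
theorem c_fin_7 : allGrid (T.finOK D) 10500 1500 8 = true := by decide +kernel
theorem c_fin_8 : allGrid (T.finOK D) 12000 1500 8 = true := by decide +kernel
theorem c_fin_9 : allGrid (T.finOK D) 13500 1500 8 = true := by decide +kernel
theorem c_fin_10 : allGrid (T.finOK D) 15000 1500 8 = true := by decide +kernel
theorem c_fin_11 : allGrid (T.finOK D) 16500 1500 8 = true := by decide +kernel
theorem c_fin_12 : allGrid (T.finOK D) 18000 1500 8 = true := by decide +kernel
theorem c_fin_13 : allGrid (T.finOK D) 19500 1500 8 = true := by decide +kernel
theorem c_fin_14 : allGrid (T.finOK D) 21000 1500 8 = true := by decide +kernel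
theorem c_fin_15 : allGrid (T.finOK D) 22500 1500 8 = true := by decide +kernel
theorem c_fin_16 : allGrid (T.finOK D) 24000 1500 8 = true := by decide +kernel
theorem c_fin_17 : allGrid (T.finOK D) 25500 1500 8 = true := by decide +kernel

end Cfsg.Agent.Lib.Helper4.TCD.ON1
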