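import Cfsg.Agent.Lib.Helper4.TCD_ON1_Acc

namespace Cfsg.Agent.Lib.Helper4.TCD.ON1

open Cfsg.Agent.Lib.Helper4.TC

set_option maxRecDepth 100000
set_option Elab.async false

theorem c_act12_7 : allRange (fun i => Nat.beq (actR12 i) i) 26250 3750 = true := by decide +kernel
theorem c_act12_8 : allRange (fun i => Nat.beq (actR12 i) i) 30000 3750 = true := by decide +kernel
theorem c_act12_9 : allRange (fun i => Nat.beq (actR12 i) i) 33750 3750 = true := by decide +kernel
theorem c_act12_10 : allRange (fun i => Nat.beq (actR12 i) i) 37500 3750 = true := by decide +kernel
theorem c_act12_11 : allRange (fun i => Nat.beq (actR12 i) i) 41250 3750 = true := by decide +kernel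
theorem c_act12_12 : allRange (fun i => Nat.beq (actR12 i) i) 45000 3750 = true := by decide +kernel
theorem c_act12_13 : allRange (fun i => Nat.beq (actR12 i) i) 48750 3750 = true := by decide +kernel
theorem c_act12_14 : allRange (fun i => Nat.beq (actR12 i) i) 52500 3750 = true := by decide +kernel
theorem c_act12_15 : allRange (fun i => Nat.beq (actR12 i) i) 56250 3750 = true := by decide +kernel
theorem c_act12_16 : allRange (fun i => Nat.beq (actR12 i) i) 60000 3750 = true := by decide +kernel
theorem c_act12_17 : allRange (fun i => Nat.beq (actR12 i) i) 63750 3750 = true := by decide +kernel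
theorem c_act12_18 : allRange (fun i => Nat.beq (actR12 i) i) 67500 3750 = true := by decide +kernel
theorem c_act12_19 : allRange (fun i => Nat.beq (actR12 i) i) 71250 3750 = true := by decide +kernel
theorem c_act12_20 : allRange (fun i => Nat.beq (actR12 i) i) 75000 3750 = true := by decide +kernel
theorem c_act12_21 : allRange (fun i => Nat.beq (actR12 i) i) 78750 3750 = true := by decide +kernel
theorem c_act12_22 : allRange (fun i => Nat.beq (actR12 i) i) 82500 3750 = true := by decide +kernel
theorem c_act12_23 : allRange (fun i => Nat.beq (actR12 i) i) 86250 3750 = true := by decide +kernel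
theorem c_act12_24 : allRange (fun i => Nat.beq (actR12 i) i) 90000 3750 = true := by decide +kernel
theorem c_act12_25 : allRange (fun i => Nat.beq (actR12 i) i) 93750 3750 = true := by decide +kernel
theorem c_act12_26 : allRange (fun i => Nat.beq (actR12 i) i) 97500 3750 = true := by decide +kernel
theorem c_act12_27 : allRange (fun i => Nat.beq (actR12 i) i) 101250 3750 = true := by decide +kernel
theorem c_act12_28 : allRange (fun i => Nat.beq (actR12 i) i) 105000 3750 = true := by decide +kernel
theorem c_act12_29 : allRange (fun i => Nat.beq (actR12 i) i) 108750 3750 = true := by decide +kernel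
theorem c_act12_30 : allRange (fun i => Nat.beq (actR12 i) i) 112500 3750 = true := by decide +kernel
theorem c_act12_31 : allRange (fun i => Nat.beq (actR12 i) i) 116250 3750 = true := by decide +kernel
theorem c_act12_32 : allRange (fun i => Nat.beq (actR12 i) i) 120000 2760 = true := by decide +kernel
theorem c_act13_0 : allRange (fun i => Nat.beq (actR13 i) i) 0 15000 = true := by decide +kernel
theorem c_act13_1 : allRange (fun i => Nat.beq (actR13 i) i) 15000 15000 = true := by decide +kernel
theorem c_act13_2 : allRange (fun i => Nat.beq (actR13 i) i) 30000 15000 = true := by decide +kernel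
theorem c_act13_3 : allRange (fun i => Nat.beq (actR13 i) i) 45000 15000 = true := by decide +kernel
theorem c_act13_4 : allRange (fun i => Nat.beq (actR13 i) i) 60000 15000 = true := by decide +kernel
theorem c_act13_5 : allRange (fun i => Nat.beq (actR13 i) i) 75000 15000 = true := by decide +kernel
theorem c_act13_6 : allRange (fun i => Nat.beq (actR13 i) i) 90000 15000 = true := by decide +kernel
theorem c_act13_7 : allRange (fun i => Nat.beq (actR13 i) i) 105000 15000 = true := by decide +kernel
theorem c_act13_8 : allRange (fun i => Nat.beq (actR13 i) i) 120000 2760 = true := by decide +kernel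
theorem c_act14_0 : allRange (fun i => Nat.beq (actR14 i) i) 0 15000 = true := by decide +kernel
theorem c_act14_1 : allRange (fun i => Nat.beq (actR14 i) i) 15000 15000 = true := by decide +kernel
theorem c_act14_2 : allRange (fun i => Nat.beq (actR14 i) i) 30000 15000 = true := by decide +kernel
theorem c_act14_3 : allRange (fun i => Nat.beq (actR14 i) i) 45000 15000 = true := by decide +kernel
theorem c_act14_4 : allRange (fun i => Nat.beq (actR14 i) i) 60000 15000 = true := by decide +kernel
theorem c_act14_5 : allRange (fun i => Nat.beq (actR14 i) i) 75000 15000 = true := by decide +kernel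
theorem c_act14_6 : allRange (fun i => Nat.beq (actR14 i) i) 90000 15000 = true := by decide +kernel
theorem c_act14_7 : allRange (fun i => Nat.beq (actR14 i) i) 105000 15000 = true := by decide +kernel
theorem c_act14_8 : allRange (fun i => Nat.beq (actR14 i) i) 120000 2760 = true := by decide +kernel
theorem c_act15_0 : allRange (fun i => Nat.beq (actR15 i) i) 0 30000 = true := by decide +kernel
theorem c_act15_1 : allRange (fun i => Nat.beq (actR15 i) i) 30000 30000 = true := by decide +kernel
theorem c_act15_2 : allRange (fun i => Nat.beq (actR15 i) i) 60000 30000 = true := by decide +kernel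
theorem c_act15_3 : allRange (fun i => Nat.beq (actR15 i) i) 90000 30000 = true := by decide +kernel
theorem c_act15_4 : allRange (fun i => Nat.beq (actR15 i) i) 120000 2760 = true := by decide +kernel
theorem c_act16_0 : allRange (fun i => Nat.beq (actR16 i) i) 0 10000 = true := by decide +kernel
theorem c_act16_1 : allRange (fun i => Nat.beq (actR16 i) i) 10000 10000 = true := by decide +kernel
theorem c_act16_2 : allRange (fun i => Nat.beq (actR16 i) i) 20000 10000 = true := by decide +kernel

end Cfsg.Agent.Lib.Helper4.TCD.ON1
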