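import Cfsg.Agent.Lib.Helper4.TCD_ON1_Acc

namespace Cfsg.Agent.Lib.Helper4.TCD.ON1

open Cfsg.Agent.Lib.Helper4.TC

set_option maxRecDepth 100000
set_option Elab.async false

theorem c_act16_3 : allRange (fun i => Nat.beq (actR16 i) i) 30000 10000 = true := by decide +kernel
theorem c_act16_4 : allRange (fun i => Nat.beq (actR16 i) i) 40000 10000 = true := by decide +kernel
theorem c_act16_5 : allRange (fun i => Nat.beq (actR16 i) i) 50000 10000 = true := by decide +kernel
theorem c_act16_6 : allRange (fun i => Nat.beq (actR16 i) i) 60000 10000 = true := by decide +kernel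
theorem c_act16_7 : allRange (fun i => Nat.beq (actR16 i) i) 70000 10000 = true := by decide +kernel
theorem c_act16_8 : allRange (fun i => Nat.beq (actR16 i) i) 80000 10000 = true := by decide +kernel
theorem c_act16_9 : allRange (fun i => Nat.beq (actR16 i) i) 90000 10000 = true := by decide +kernel
theorem c_act16_10 : allRange (fun i => Nat.beq (actR16 i) i) 100000 10000 = true := by decide +kernel
theorem c_act16_11 : allRange (fun i => Nat.beq (actR16 i) i) 110000 10000 = true := by decide +kernel
theorem c_act16_12 : allRange (fun i => Nat.beq (actR16 i) i) 120000 2760 = true := by decide +kernel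
theorem c_act17_0 : allRange (fun i => Nat.beq (actR17 i) i) 0 15000 = true := by decide +kernel
theorem c_act17_1 : allRange (fun i => Nat.beq (actR17 i) i) 15000 15000 = true := by decide +kernel
theorem c_act17_2 : allRange (fun i => Nat.beq (actR17 i) i) 30000 15000 = true := by decide +kernel
theorem c_act17_3 : allRange (fun i => Nat.beq (actR17 i) i) 45000 15000 = true := by decide +kernel
theorem c_act17_4 : allRange (fun i => Nat.beq (actR17 i) i) 60000 15000 = true := by decide +kernel
theorem c_act17_5 : allRange (fun i => Nat.beq (actR17 i) i) 75000 15000 = true := by decide +kernel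
theorem c_act17_6 : allRange (fun i => Nat.beq (actR17 i) i) 90000 15000 = true := by decide +kernel
theorem c_act17_7 : allRange (fun i => Nat.beq (actR17 i) i) 105000 15000 = true := by decide +kernel
theorem c_act17_8 : allRange (fun i => Nat.beq (actR17 i) i) 120000 2760 = true := by decide +kernel
theorem c_act18_0 : allRange (fun i => Nat.beq (actR18 i) i) 0 30000 = true := by decide +kernel
theorem c_act18_1 : allRange (fun i => Nat.beq (actR18 i) i) 30000 30000 = true := by decide +kernel
theorem c_act18_2 : allRange (fun i => Nat.beq (actR18 i) i) 60000 30000 = true := by decide +kernel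
theorem c_act18_3 : allRange (fun i => Nat.beq (actR18 i) i) 90000 30000 = true := by decide +kernel
theorem c_act18_4 : allRange (fun i => Nat.beq (actR18 i) i) 120000 2760 = true := by decide +kernel
theorem c_act19_0 : allRange (fun i => Nat.beq (actR19 i) i) 0 10000 = true := by decide +kernel
theorem c_act19_1 : allRange (fun i => Nat.beq (actR19 i) i) 10000 10000 = true := by decide +kernel
theorem c_act19_2 : allRange (fun i => Nat.beq (actR19 i) i) 20000 10000 = true := by decide +kernel
theorem c_act19_3 : allRange (fun i => Nat.beq (actR19 i) i) 30000 10000 = true := by decide +kernel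
theorem c_act19_4 : allRange (fun i => Nat.beq (actR19 i) i) 40000 10000 = true := by decide +kernel
theorem c_act19_5 : allRange (fun i => Nat.beq (actR19 i) i) 50000 10000 = true := by decide +kernel
theorem c_act19_6 : allRange (fun i => Nat.beq (actR19 i) i) 60000 10000 = true := by decide +kernel
theorem c_act19_7 : allRange (fun i => Nat.beq (actR19 i) i) 70000 10000 = true := by decide +kernel
theorem c_act19_8 : allRange (fun i => Nat.beq (actR19 i) i) 80000 10000 = true := by decide +kernel
theorem c_act19_9 : allRange (fun i => Nat.beq (actR19 i) i) 90000 10000 = true := by decide +kernel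
theorem c_act19_10 : allRange (fun i => Nat.beq (actR19 i) i) 100000 10000 = true := by decide +kernel
theorem c_act19_11 : allRange (fun i => Nat.beq (actR19 i) i) 110000 10000 = true := by decide +kernel
theorem c_act19_12 : allRange (fun i => Nat.beq (actR19 i) i) 120000 2760 = true := by decide +kernel
theorem c_act20_0 : allRange (fun i => Nat.beq (actR20 i) i) 0 30000 = true := by decide +kernel
theorem c_act20_1 : allRange (fun i => Nat.beq (actR20 i) i) 30000 30000 = true := by decide +kernel
theorem c_act20_2 : allRange (fun i => Nat.beq (actR20 i) i) 60000 30000 = true := by decide +kernel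
theorem c_act20_3 : allRange (fun i => Nat.beq (actR20 i) i) 90000 30000 = true := by decide +kernel
theorem c_act20_4 : allRange (fun i => Nat.beq (actR20 i) i) 120000 2760 = true := by decide +kernel
theorem c_act21_0 : allRange (fun i => Nat.beq (actR21 i) i) 0 15000 = true := by decide +kernel
theorem c_act21_1 : allRange (fun i => Nat.beq (actR21 i) i) 15000 15000 = true := by decide +kernel
theorem c_act21_2 : allRange (fun i => Nat.beq (actR21 i) i) 30000 15000 = true := by decide +kernel
theorem c_act21_3 : allRange (fun i => Nat.beq (actR21 i) i) 45000 15000 = true := by decide +kernel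
theorem c_act21_4 : allRange (fun i => Nat.beq (actR21 i) i) 60000 15000 = true := by decide +kernel
theorem c_act21_5 : allRange (fun i => Nat.beq (actR21 i) i) 75000 15000 = true := by decide +kernel
theorem c_act21_6 : allRange (fun i => Nat.beq (actR21 i) i) 90000 15000 = true := by decide +kernel
theorem c_act21_7 : allRange (fun i => Nat.beq (actR21 i) i) 105000 15000 = true := by decide +kernel
theorem c_act21_8 : allRange (fun i => Nat.beq (actR21 i) i) 120000 2760 = true := by decide +kernel
theorem c_act22_0 : allRange (fun i => Nat.beq (actR22 i) i) 0 6000 = true := by decide +kernel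
theorem c_act22_1 : allRange (fun i => Nat.beq (actR22 i) i) 6000 6000 = true := by decide +kernel
theorem c_act22_2 : allRange (fun i => Nat.beq (actR22 i) i) 12000 6000 = true := by decide +kernel

end Cfsg.Agent.Lib.Helper4.TCD.ON1
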