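import Cfsg.Agent.Lib.Helper4.TCD_ON1_Acc

namespace Cfsg.Agent.Lib.Helper4.TCD.ON1

open Cfsg.Agent.Lib.Helper4.TC

set_option maxRecDepth 100000
set_option Elab.async false

theorem c_act22_3 : allRange (fun i => Nat.beq (actR22 i) i) 18000 6000 = true := by decide +kernel
theorem c_act22_4 : allRange (fun i => Nat.beq (actR22 i) i) 24000 6000 = true := by decide +kernel
theorem c_act22_5 : allRange (fun i => Nat.beq (actR22 i) i) 30000 6000 = true := by decide +kernel
theorem c_act22_6 : allRange (fun i => Nat.beq (actR22 i) i) 36000 6000 = true := by decide +kernel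
theorem c_act22_7 : allRange (fun i => Nat.beq (actR22 i) i) 42000 6000 = true := by decide +kernel
theorem c_act22_8 : allRange (fun i => Nat.beq (actR22 i) i) 48000 6000 = true := by decide +kernel
theorem c_act22_9 : allRange (fun i => Nat.beq (actR22 i) i) 54000 6000 = true := by decide +kernel
theorem c_act22_10 : allRange (fun i => Nat.beq (actR22 i) i) 60000 6000 = true := by decide +kernel
theorem c_act22_11 : allRange (fun i => Nat.beq (actR22 i) i) 66000 6000 = true := by decide +kernel
theorem c_act22_12 : allRange (fun i => Nat.beq (actR22 i) i) 72000 6000 = true := by decide +kernel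
theorem c_act22_13 : allRange (fun i => Nat.beq (actR22 i) i) 78000 6000 = true := by decide +kernel
theorem c_act22_14 : allRange (fun i => Nat.beq (actR22 i) i) 84000 6000 = true := by decide +kernel
theorem c_act22_15 : allRange (fun i => Nat.beq (actR22 i) i) 90000 6000 = true := by decide +kernel
theorem c_act22_16 : allRange (fun i => Nat.beq (actR22 i) i) 96000 6000 = true := by decide +kernel
theorem c_act22_17 : allRange (fun i => Nat.beq (actR22 i) i) 102000 6000 = true := by decide +kernel
theorem c_act22_18 : allRange (fun i => Nat.beq (actR22 i) i) 108000 6000 = true := by decide +kernel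
theorem c_act22_19 : allRange (fun i => Nat.beq (actR22 i) i) 114000 6000 = true := by decide +kernel
theorem c_act22_20 : allRange (fun i => Nat.beq (actR22 i) i) 120000 2760 = true := by decide +kernel
theorem c_act23_0 : allRange (fun i => Nat.beq (actR23 i) i) 0 6000 = true := by decide +kernel
theorem c_act23_1 : allRange (fun i => Nat.beq (actR23 i) i) 6000 6000 = true := by decide +kernel
theorem c_act23_2 : allRange (fun i => Nat.beq (actR23 i) i) 12000 6000 = true := by decide +kernel
theorem c_act23_3 : allRange (fun i => Nat.beq (actR23 i) i) 18000 6000 = true := by decide +kernel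
theorem c_act23_4 : allRange (fun i => Nat.beq (actR23 i) i) 24000 6000 = true := by decide +kernel
theorem c_act23_5 : allRange (fun i => Nat.beq (actR23 i) i) 30000 6000 = true := by decide +kernel
theorem c_act23_6 : allRange (fun i => Nat.beq (actR23 i) i) 36000 6000 = true := by decide +kernel
theorem c_act23_7 : allRange (fun i => Nat.beq (actR23 i) i) 42000 6000 = true := by decide +kernel
theorem c_act23_8 : allRange (fun i => Nat.beq (actR23 i) i) 48000 6000 = true := by decide +kernel
theorem c_act23_9 : allRange (fun i => Nat.beq (actR23 i) i) 54000 6000 = true := by decide +kernel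
theorem c_act23_10 : allRange (fun i => Nat.beq (actR23 i) i) 60000 6000 = true := by decide +kernel
theorem c_act23_11 : allRange (fun i => Nat.beq (actR23 i) i) 66000 6000 = true := by decide +kernel
theorem c_act23_12 : allRange (fun i => Nat.beq (actR23 i) i) 72000 6000 = true := by decide +kernel
theorem c_act23_13 : allRange (fun i => Nat.beq (actR23 i) i) 78000 6000 = true := by decide +kernel
theorem c_act23_14 : allRange (fun i => Nat.beq (actR23 i) i) 84000 6000 = true := by decide +kernel
theorem c_act23_15 : allRange (fun i => Nat.beq (actR23 i) i) 90000 6000 = true := by decide +kernel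
theorem c_act23_16 : allRange (fun i => Nat.beq (actR23 i) i) 96000 6000 = true := by decide +kernel
theorem c_act23_17 : allRange (fun i => Nat.beq (actR23 i) i) 102000 6000 = true := by decide +kernel
theorem c_act23_18 : allRange (fun i => Nat.beq (actR23 i) i) 108000 6000 = true := by decide +kernel
theorem c_act23_19 : allRange (fun i => Nat.beq (actR23 i) i) 114000 6000 = true := by decide +kernel
theorem c_act23_20 : allRange (fun i => Nat.beq (actR23 i) i) 120000 2760 = true := by decide +kernel
theorem c_act24_0 : allRange (fun i => Nat.beq (actR24 i) i) 0 6000 = true := by decide +kernel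
theorem c_act24_1 : allRange (fun i => Nat.beq (actR24 i) i) 6000 6000 = true := by decide +kernel
theorem c_act24_2 : allRange (fun i => Nat.beq (actR24 i) i) 12000 6000 = true := by decide +kernel
theorem c_act24_3 : allRange (fun i => Nat.beq (actR24 i) i) 18000 6000 = true := by decide +kernel
theorem c_act24_4 : allRange (fun i => Nat.beq (actR24 i) i) 24000 6000 = true := by decide +kernel
theorem c_act24_5 : allRange (fun i => Nat.beq (actR24 i) i) 30000 6000 = true := by decide +kernel
theorem c_act24_6 : allRange (fun i => Nat.beq (actR24 i) i) 36000 6000 = true := by decide +kernel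
theorem c_act24_7 : allRange (fun i => Nat.beq (actR24 i) i) 42000 6000 = true := by decide +kernel
theorem c_act24_8 : allRange (fun i => Nat.beq (actR24 i) i) 48000 6000 = true := by decide +kernel
theorem c_act24_9 : allRange (fun i => Nat.beq (actR24 i) i) 54000 6000 = true := by decide +kernel
theorem c_act24_10 : allRange (fun i => Nat.beq (actR24 i) i) 60000 6000 = true := by decide +kernel
theorem c_act24_11 : allRange (fun i => Nat.beq (actR24 i) i) 66000 6000 = true := by decide +kernel

end Cfsg.Agent.Lib.Helper4.TCD.ON1
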