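import Cfsg.Agent.Lib.Helper4.TCD_ON1_C0
import Cfsg.Agent.Lib.Helper4.TCD_ON1_C1
import Cfsg.Agent.Lib.Helper4.TCD_ON1_C2
import Cfsg.Agent.Lib.Helper4.TCD_ON1_C3
import Cfsg.Agent.Lib.Helper4.TCD_ON1_C4
import Cfsg.Agent.Lib.Helper4.TCD_ON1_C5
import Cfsg.Agent.Lib.Helper4.TCD_ON1_C6
import Cfsg.Agent.Lib.Helper4.TCD_ON1_C7
import Cfsg.Agent.Lib.Helper4.TCD_ON1_C8
import Cfsg.Agent.Lib.Helper4.TCD_ON1_C9
import Cfsg.Agent.Lib.Helper4.TCD_ON1_C10
import Cfsg.Agent.Lib.Helper4.TCD_ON1_C11

namespace Cfsg.Agent.Lib.Helper4.TCD.ON1

open Cfsg.Agent.Lib.Helper4.TC

theorem h_rel_p0 : ∀ t, 191814 ≤ t → t < 296895 → D.relOK t = true :=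
  (range_glue (range_of_allRange c_rel_0) (range_glue (range_of_allRange c_rel_1) (range_glue (range_of_allRange c_rel_2) (range_glue (range_of_allRange c_rel_3) (range_glue (range_of_allRange c_rel_4) (range_glue (range_of_allRange c_rel_5) (range_glue (range_of_allRange c_rel_6) (range_glue (range_of_allRange c_rel_7) (range_glue (range_of_allRange c_rel_8) (range_glue (range_of_allRange c_rel_9) (range_glue (range_of_allRange c_rel_10) (range_glue (range_of_allRange c_rel_11) (range_glue (range_of_allRange c_rel_12) (range_glue (range_of_allRange c_rel_13) (range_glue (range_of_allRange c_rel_14) (range_glue (range_of_allRange c_rel_15) (range_glue (range_of_allRange c_rel_16) (range_glue (range_of_allRange c_rel_17) (range_glue (range_of_allRange c_rel_18) (range_glue (range_of_allRange c_rel_19) (range_glue (range_of_allRange c_rel_20) (range_glue (range_of_allRange c_rel_21) (range_glue (range_of_allRange c_rel_22) (range_glue (range_of_allRange c_rel_23) (range_glue (range_of_allRange c_rel_24) (range_glue (range_of_allRange c_rel_25) (range_glue (range_of_allRange c_rel_26) (range_glue (range_of_allRange c_rel_27) (range_glue (range_of_allRange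 c_rel_28) (range_glue (range_of_allRange c_rel_29) (range_glue (range_of_allRange c_rel_30) (range_glue (range_of_allRange c_rel_31) (range_glue (range_of_allRange c_rel_32) (range_glue (range_of_allRange c_rel_33) (range_glue (range_of_allRange c_rel_34) (range_glue (range_of_allRange c_rel_35) (range_glue (range_of_allRange c_rel_36) (range_glue (range_of_allRange c_rel_37) (range_glue (range_of_allRange c_rel_38) (range_of_allRange c_rel_39))))))))))))))))))))))))))))))))))))))))
theorem h_rel_p1 : ∀ t, 296895 ≤ t → t < 399595 → D.relOK t = true :=
  (range_glue (range_of_allRange c_rel_40) (range_glue (range_of_allRange c_rel_41) (range_glue (range_of_allRange c_rel_42) (range_glue (range_of_allRange c_rel_43) (range_glue (range_of_allRange c_rel_44) (range_glue (range_of_allRange c_rel_45) (range_glue (range_of_allRange c_rel_46) (range_glue (range_of_allRange c_rel_47) (range_glue (range_of_allRange c_rel_48) (range_glue (range_of_allRange c_rel_49) (range_glue (range_of_allRange c_rel_50) (range_glue (range_of_allRange c_rel_51) (range_glue (range_of_allRange c_rel_52) (range_glue (range_of_allRange c_rel_53) (range_glue (range_of_allRange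 c_rel_54) (range_glue (range_of_allRange c_rel_55) (range_glue (range_of_allRange c_rel_56) (range_glue (range_of_allRange c_rel_57) (range_glue (range_of_allRange c_rel_58) (range_glue (range_of_allRange c_rel_59) (range_glue (range_of_allRange c_rel_60) (range_glue (range_of_allRange c_rel_61) (range_glue (range_of_allRange c_rel_62) (range_glue (range_of_allRange c_rel_63) (range_glue (range_of_allRange c_rel_64) (range_glue (range_of_allRange c_rel_65) (range_glue (range_of_allRange c_rel_66) (range_glue (range_of_allRange c_rel_67) (range_glue (range_of_allRange c_rel_68) (range_glue (range_of_allRange c_rel_69) (range_glue (range_of_allRange c_rel_70) (range_glue (range_of_allRange c_rel_71) (range_glue (range_of_allRange c_rel_72) (range_glue (range_of_allRange c_rel_73) (range_glue (range_of_allRange c_rel_74) (range_glue (range_of_allRange c_rel_75) (range_glue (range_of_allRange c_rel_76) (range_glue (range_of_allRange c_rel_77) (range_glue (range_of_allRange c_rel_78) (range_of_allRange c_rel_79))))))))))))))))))))))))))))))))))))))))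
theorem h_rel_p2 : ∀ t, 399595 ≤ t → t < 497387 → D.relOK t = true :=
  (range_glue (range_of_allRange c_rel_80) (range_glue (range_of_allRange c_rel_81) (range_glue (range_of_allRange c_rel_82) (range_glue (range_of_allRange c_rel_83) (range_glue (range_of_allRange c_rel_84) (range_glue (range_of_allRange c_rel_85) (range_glue (range_of_allRange c_rel_86) (range_glue (range_of_allRange c_rel_87) (range_glue (range_of_allRange c_rel_88) (range_glue (range_of_allRange c_rel_89) (range_glue (range_of_allRange c_rel_90) (range_glue (range_of_allRange c_rel_91) (range_glue (range_of_allRange c_rel_92) (range_glue (range_of_allRange c_rel_93) (range_glue (range_of_allRange c_rel_94) (range_glue (range_of_allRange c_rel_95) (range_glue (range_of_allRange c_rel_96) (range_glue (range_of_allRange c_rel_97) (range_glue (range_of_allRange c_rel_98) (range_glue (range_of_allRange c_rel_99) (range_glue (range_of_allRange c_rel_100) (range_glue (range_of_allRange c_rel_101) (range_glue (range_of_allRange c_rel_102) (range_glue (range_of_allRange c_rel_103) (range_glue (range_of_allRange c_rel_104) (range_glue (range_of_allRange c_rel_105) (range_glue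 (range_of_allRange c_rel_106) (range_glue (range_of_allRange c_rel_107) (range_glue (range_of_allRange c_rel_108) (range_glue (range_of_allRange c_rel_109) (range_glue (range_of_allRange c_rel_110) (range_glue (range_of_allRange c_rel_111) (range_glue (range_of_allRange c_rel_112) (range_glue (range_of_allRange c_rel_113) (range_glue (range_of_allRange c_rel_114) (range_glue (range_of_allRange c_rel_115) (range_glue (range_of_allRange c_rel_116) (range_glue (range_of_allRange c_rel_117) (range_glue (range_of_allRange c_rel_118) (range_of_allRange c_rel_119))))))))))))))))))))))))))))))))))))))))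
theorem h_rel_p3 : ∀ t, 497387 ≤ t → t < 582051 → D.relOK t = true :=
  (range_glue (range_of_allRange c_rel_120) (range_glue (range_of_allRange c_rel_121) (range_glue (range_of_allRange c_rel_122) (range_glue (range_of_allRange c_rel_123) (range_glue (range_of_allRange c_rel_124) (range_glue (range_of_allRange c_rel_125) (range_glue (range_of_allRange c_rel_126) (range_glue (range_of_allRange c_rel_127) (range_glue (range_of_allRange c_rel_128) (range_glue (range_of_allRange c_rel_129) (range_glue (range_of_allRange c_rel_130) (range_glue (range_of_allRange c_rel_131) (range_glue (range_of_allRange c_rel_132) (range_glue (range_of_allRange c_rel_133) (range_glue (range_of_allRange c_rel_134) (range_glue (range_of_allRange c_rel_135) (range_glue (range_of_allRange c_rel_136) (range_glue (range_of_allRange c_rel_137) (range_glue (range_of_allRange c_rel_138) (range_glue (range_of_allRange c_rel_139) (range_glue (range_of_allRange c_rel_140) (range_glue (range_of_allRange c_rel_141) (range_glue (range_of_allRange c_rel_142) (range_glue (range_of_allRange c_rel_143) (range_glue (range_of_allRange c_rel_144) (range_glue (range_of_allRange c_rel_145)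 (range_glue (range_of_allRange c_rel_146) (range_glue (range_of_allRange c_rel_147) (range_glue (range_of_allRange c_rel_148) (range_glue (range_of_allRange c_rel_149) (range_glue (range_of_allRange c_rel_150) (range_glue (range_of_allRange c_rel_151) (range_glue (range_of_allRange c_rel_152) (range_glue (range_of_allRange c_rel_153) (range_glue (range_of_allRange c_rel_154) (range_glue (range_of_allRange c_rel_155) (range_glue (range_of_allRange c_rel_156) (range_glue (range_of_allRange c_rel_157) (range_glue (range_of_allRange c_rel_158) (range_of_allRange c_rel_159))))))))))))))))))))))))))))))))))))))))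
theorem h_rel_p4 : ∀ t, 582051 ≤ t → t < 685099 → D.relOK t = true :=
  (range_glue (range_of_allRange c_rel_160) (range_glue (range_of_allRange c_rel_161) (range_glue (range_of_allRange c_rel_162) (range_glue (range_of_allRange c_rel_163) (range_glue (range_of_allRange c_rel_164) (range_glue (range_of_allRange c_rel_165) (range_glue (range_of_allRange c_rel_166) (range_glue (range_of_allRange c_rel_167) (range_glue (range_of_allRange c_rel_168) (range_glue (range_of_allRange c_rel_169) (range_glue (range_of_allRange c_rel_170) (range_glue (range_of_allRange c_rel_171) (range_glue (range_of_allRange c_rel_172) (range_glue (range_of_allRange c_rel_173) (range_glue (range_of_allRange c_rel_174) (range_glue (range_of_allRange c_rel_175) (range_glue (range_of_allRange c_rel_176) (range_glue (range_of_allRange c_rel_177) (range_glue (range_of_allRange c_rel_178) (range_glue (range_of_allRange c_rel_179) (range_glue (range_of_allRange c_rel_180) (range_glue (range_of_allRange c_rel_181) (range_glue (range_of_allRange c_rel_182) (range_glue (range_of_allRange c_rel_183) (range_glue (range_of_allRange c_rel_184) (range_glue (range_of_allRange c_rel_185)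 (range_glue (range_of_allRange c_rel_186) (range_glue (range_of_allRange c_rel_187) (range_glue (range_of_allRange c_rel_188) (range_glue (range_of_allRange c_rel_189) (range_glue (range_of_allRange c_rel_190) (range_glue (range_of_allRange c_rel_191) (range_glue (range_of_allRange c_rel_192) (range_glue (range_of_allRange c_rel_193) (range_glue (range_of_allRange c_rel_194) (range_glue (range_of_allRange c_rel_195) (range_glue (range_of_allRange c_rel_196) (range_glue (range_of_allRange c_rel_197) (range_glue (range_of_allRange c_rel_198) (range_of_allRange c_rel_199))))))))))))))))))))))))))))))))))))))))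
theorem h_rel_p5 : ∀ t, 685099 ≤ t → t < 782394 → D.relOK t = true :=
  (range_glue (range_of_allRange c_rel_200) (range_glue (range_of_allRange c_rel_201) (range_glue (range_of_allRange c_rel_202) (range_glue (range_of_allRange c_rel_203) (range_glue (range_of_allRange c_rel_204) (range_glue (range_of_allRange c_rel_205) (range_glue (range_of_allRange c_rel_206) (range_glue (range_of_allRange c_rel_207) (range_glue (range_of_allRange c_rel_208) (range_glue (range_of_allRange c_rel_209) (range_glue (range_of_allRange c_rel_210) (range_glue (range_of_allRange c_rel_211) (range_glue (range_of_allRange c_rel_212) (range_glue (range_of_allRange c_rel_213) (range_glue (range_of_allRange c_rel_214) (range_glue (range_of_allRange c_rel_215) (range_glue (range_of_allRange c_rel_216) (range_glue (range_of_allRange c_rel_217) (range_glue (range_of_allRange c_rel_218) (range_glue (range_of_allRange c_rel_219) (range_of_allRange c_rel_220)))))))))))))))))))))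
theorem h_rel : ∀ t, 191814 ≤ t → t < 782394 → D.relOK t = true :=
  (range_glue h_rel_p0 (range_glue h_rel_p1 (range_glue h_rel_p2 (range_glue h_rel_p3 (range_glue h_rel_p4 h_rel_p5)))))
theorem h_names : ∀ t, 1 ≤ t → t < 191802 → D.nameOK t = true :=
  (range_glue (range_of_allRange c_names_0) (range_glue (range_of_allRange c_names_1) (range_glue (range_of_allRange c_names_2) (range_of_allRange c_names_3))))
theorem h_cls : ∀ t, 1 ≤ t → t < 191802 → T.clsOK D t = true :=
  (range_glue (range_of_allRange c_cls_0) (range_glue (range_of_allRange c_cls_1) (range_glue (range_of_allRange c_cls_2) (range_glue (range_of_allRange c_cls_3) (range_glue (range_of_allRange c_cls_4) (range_glue (range_of_allRange c_cls_5) (range_glue (range_of_allRange c_cls_6) (range_glue (range_of_allRange c_cls_7) (range_glue (range_of_allRange c_cls_8) (range_glue (range_of_allRange c_cls_9) (range_glue (range_of_allRange c_cls_10) (range_glue (range_of_allRange c_cls_11) (range_of_allRange c_cls_12)))))))))))))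
theorem h_rep : ∀ t, 0 ≤ t → t < 122760 → T.repOK D t = true :=
  (range_glue (range_of_allRange c_rep_0) (range_glue (range_of_allRange c_rep_1) (range_glue (range_of_allRange c_rep_2) (range_glue (range_of_allRange c_rep_3) (range_of_allRange c_rep_4)))))
theorem h_fin_p0 : ∀ i, 0 ≤ i → i < 60000 → ∀ x, x < 8 → T.finOK D i x = true :=
  (range_glue (range_of_allGrid c_fin_0) (range_glue (range_of_allGrid c_fin_1) (range_glue (range_of_allGrid c_fin_2) (range_glue (range_of_allGrid c_fin_3) (range_glue (range_of_allGrid c_fin_4) (range_glue (range_of_allGrid c_fin_5) (range_glue (range_of_allGrid c_fin_6) (range_glue (range_of_allGrid c_fin_7) (range_glue (range_of_allGrid c_fin_8) (range_glue (range_of_allGrid c_fin_9) (range_glue (range_of_allGrid c_fin_10) (range_glue (range_of_allGrid c_fin_11) (range_glue (range_of_allGrid c_fin_12) (range_glue (range_of_allGrid c_fin_13) (range_glue (range_of_allGrid c_fin_14) (range_glue (range_of_allGrid c_fin_15) (range_glue (range_of_allGrid c_fin_16) (range_glue (range_of_allGrid c_fin_17) (range_glue (range_of_allGrid c_fin_18) (range_glue (range_of_allGrid c_fin_19) (range_glue (range_of_allGrid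 c_fin_20) (range_glue (range_of_allGrid c_fin_21) (range_glue (range_of_allGrid c_fin_22) (range_glue (range_of_allGrid c_fin_23) (range_glue (range_of_allGrid c_fin_24) (range_glue (range_of_allGrid c_fin_25) (range_glue (range_of_allGrid c_fin_26) (range_glue (range_of_allGrid c_fin_27) (range_glue (range_of_allGrid c_fin_28) (range_glue (range_of_allGrid c_fin_29) (range_glue (range_of_allGrid c_fin_30) (range_glue (range_of_allGrid c_fin_31) (range_glue (range_of_allGrid c_fin_32) (range_glue (range_of_allGrid c_fin_33) (range_glue (range_of_allGrid c_fin_34) (range_glue (range_of_allGrid c_fin_35) (range_glue (range_of_allGrid c_fin_36) (range_glue (range_of_allGrid c_fin_37) (range_glue (range_of_allGrid c_fin_38) (range_of_allGrid c_fin_39))))))))))))))))))))))))))))))))))))))))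
theorem h_fin_p1 : ∀ i, 60000 ≤ i → i < 120000 → ∀ x, x < 8 → T.finOK D i x = true :=
  (range_glue (range_of_allGrid c_fin_40) (range_glue (range_of_allGrid c_fin_41) (range_glue (range_of_allGrid c_fin_42) (range_glue (range_of_allGrid c_fin_43) (range_glue (range_of_allGrid c_fin_44) (range_glue (range_of_allGrid c_fin_45) (range_glue (range_of_allGrid c_fin_46) (range_glue (range_of_allGrid c_fin_47) (range_glue (range_of_allGrid c_fin_48) (range_glue (range_of_allGrid c_fin_49) (range_glue (range_of_allGrid c_fin_50) (range_glue (range_of_allGrid c_fin_51) (range_glue (range_of_allGrid c_fin_52) (range_glue (range_of_allGrid c_fin_53) (range_glue (range_of_allGrid c_fin_54) (range_glue (range_of_allGrid c_fin_55) (range_glue (range_of_allGrid c_fin_56) (range_glue (range_of_allGrid c_fin_57) (range_glue (range_of_allGrid c_fin_58) (range_glue (range_of_allGrid c_fin_59) (range_glue (range_of_allGrid c_fin_60) (range_glue (range_of_allGrid c_fin_61) (range_glue (range_of_allGrid c_fin_62) (range_glue (range_of_allGrid c_fin_63) (range_glue (range_of_allGrid c_fin_64) (range_glue (range_of_allGrid c_fin_65) (range_glue (range_of_allGrid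 c_fin_66) (range_glue (range_of_allGrid c_fin_67) (range_glue (range_of_allGrid c_fin_68) (range_glue (range_of_allGrid c_fin_69) (range_glue (range_of_allGrid c_fin_70) (range_glue (range_of_allGrid c_fin_71) (range_glue (range_of_allGrid c_fin_72) (range_glue (range_of_allGrid c_fin_73) (range_glue (range_of_allGrid c_fin_74) (range_glue (range_of_allGrid c_fin_75) (range_glue (range_of_allGrid c_fin_76) (range_glue (range_of_allGrid c_fin_77) (range_glue (range_of_allGrid c_fin_78) (range_of_allGrid c_fin_79))))))))))))))))))))))))))))))))))))))))
theorem h_fin_p2 : ∀ i, 120000 ≤ i → i < 122760 → ∀ x, x < 8 → T.finOK D i x = true :=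
  (range_glue (range_of_allGrid c_fin_80) (range_of_allGrid c_fin_81))
theorem h_fin : ∀ i, 0 ≤ i → i < 122760 → ∀ x, x < 8 → T.finOK D i x = true :=
  (range_glue h_fin_p0 (range_glue h_fin_p1 h_fin_p2))
theorem h_perm : ∀ i, 0 ≤ i → i < 122760 → ∀ x, x < 8 → T.permOK1 D i x = true :=
  (range_glue (range_of_allGrid c_perm_0) (range_glue (range_of_allGrid c_perm_1) (range_glue (range_of_allGrid c_perm_2) (range_glue (range_of_allGrid c_perm_3) (range_glue (range_of_allGrid c_perm_4) (range_glue (range_of_allGrid c_perm_5) (range_glue (range_of_allGrid c_perm_6) (range_glue (range_of_allGrid c_perm_7) (range_glue (range_of_allGrid c_perm_8) (range_glue (range_of_allGrid c_perm_9) (range_glue (range_of_allGrid c_perm_10) (range_glue (range_of_allGrid c_perm_11) (range_glue (range_of_allGrid c_perm_12) (range_glue (range_of_allGrid c_perm_13) (range_glue (range_of_allGrid c_perm_14) (range_glue (range_of_allGrid c_perm_15) (range_glue (range_of_allGrid c_perm_16) (range_glue (range_of_allGrid c_perm_17) (range_glue (range_of_allGrid c_perm_18) (range_glue (range_of_allGrid c_perm_19) (range_glue (range_of_allGrid c_perm_20) (range_glue (range_of_allGrid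 c_perm_21) (range_glue (range_of_allGrid c_perm_22) (range_glue (range_of_allGrid c_perm_23) (range_glue (range_of_allGrid c_perm_24) (range_glue (range_of_allGrid c_perm_25) (range_glue (range_of_allGrid c_perm_26) (range_glue (range_of_allGrid c_perm_27) (range_glue (range_of_allGrid c_perm_28) (range_glue (range_of_allGrid c_perm_29) (range_glue (range_of_allGrid c_perm_30) (range_glue (range_of_allGrid c_perm_31) (range_of_allGrid c_perm_32)))))))))))))))))))))))))))))))))
theorem h_act0 : ∀ i, 0 ≤ i → i < 122760 → Nat.beq (actR0 i) i = true :=
  (range_glue (range_of_allRange c_act0_0) (range_glue (range_of_allRange c_act0_1) (range_glue (range_of_allRange c_act0_2) (range_glue (range_of_allRange c_act0_3) (range_of_allRange c_act0_4)))))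
theorem h_act1 : ∀ i, 0 ≤ i → i < 122760 → Nat.beq (actR1 i) i = true :=
  (range_glue (range_of_allRange c_act1_0) (range_glue (range_of_allRange c_act1_1) (range_glue (range_of_allRange c_act1_2) (range_glue (range_of_allRange c_act1_3) (range_glue (range_of_allRange c_act1_4) (range_glue (range_of_allRange c_act1_5) (range_glue (range_of_allRange c_act1_6) (range_glue (range_of_allRange c_act1_7) (range_glue (range_of_allRange c_act1_8) (range_glue (range_of_allRange c_act1_9) (range_glue (range_of_allRange c_act1_10) (range_glue (range_of_allRange c_act1_11) (range_of_allRange c_act1_12)))))))))))))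
theorem h_act2 : ∀ i, 0 ≤ i → i < 122760 → Nat.beq (actR2 i) i = true :=
  (range_glue (range_of_allRange c_act2_0) (range_glue (range_of_allRange c_act2_1) (range_glue (range_of_allRange c_act2_2) (range_glue (range_of_allRange c_act2_3) (range_glue (range_of_allRange c_act2_4) (range_glue (range_of_allRange c_act2_5) (range_glue (range_of_allRange c_act2_6) (range_glue (range_of_allRange c_act2_7) (range_of_allRange c_act2_8)))))))))
theorem h_act3 : ∀ i, 0 ≤ i → i < 122760 → Nat.beq (actR3 i) i = true :=
  (range_glue (range_of_allRange c_act3_0) (range_glue (range_of_allRange c_act3_1) (range_glue (range_of_allRange c_act3_2) (range_glue (range_of_allRange c_act3_3) (range_glue (range_of_allRange c_act3_4) (range_glue (range_of_allRange c_act3_5) (range_glue (range_of_allRange c_act3_6) (range_glue (range_of_allRange c_act3_7) (range_of_allRange c_act3_8)))))))))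
theorem h_act4 : ∀ i, 0 ≤ i → i < 122760 → Nat.beq (actR4 i) i = true :=
  (range_glue (range_of_allRange c_act4_0) (range_glue (range_of_allRange c_act4_1) (range_glue (range_of_allRange c_act4_2) (range_glue (range_of_allRange c_act4_3) (range_glue (range_of_allRange c_act4_4) (range_glue (range_of_allRange c_act4_5) (range_glue (range_of_allRange c_act4_6) (range_glue (range_of_allRange c_act4_7) (range_of_allRange c_act4_8)))))))))
theorem h_act5 : ∀ i, 0 ≤ i → i < 122760 → Nat.beq (actR5 i) i = true :=
  (range_glue (range_of_allRange c_act5_0) (range_glue (range_of_allRange c_act5_1) (range_glue (range_of_allRange c_act5_2) (range_glue (range_of_allRange c_act5_3) (range_glue (range_of_allRange c_act5_4) (range_glue (range_of_allRange c_act5_5) (range_glue (range_of_allRange c_act5_6) (range_glue (range_of_allRange c_act5_7) (range_of_allRange c_act5_8)))))))))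
theorem h_act6 : ∀ i, 0 ≤ i → i < 122760 → Nat.beq (actR6 i) i = true :=
  (range_glue (range_of_allRange c_act6_0) (range_glue (range_of_allRange c_act6_1) (range_glue (range_of_allRange c_act6_2) (range_glue (range_of_allRange c_act6_3) (range_of_allRange c_act6_4)))))
theorem h_act7 : ∀ i, 0 ≤ i → i < 122760 → Nat.beq (actR7 i) i = true :=
  (range_glue (range_of_allRange c_act7_0) (range_glue (range_of_allRange c_act7_1) (range_glue (range_of_allRange c_act7_2) (range_glue (range_of_allRange c_act7_3) (range_glue (range_of_allRange c_act7_4) (range_glue (range_of_allRange c_act7_5) (range_glue (range_of_allRange c_act7_6) (range_glue (range_of_allRange c_act7_7) (range_glue (range_of_allRange c_act7_8) (range_glue (range_of_allRange c_act7_9) (range_glue (range_of_allRange c_act7_10) (range_glue (range_of_allRange c_act7_11) (range_of_allRange c_act7_12)))))))))))))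
theorem h_act8 : ∀ i, 0 ≤ i → i < 122760 → Nat.beq (actR8 i) i = true :=
  (range_glue (range_of_allRange c_act8_0) (range_glue (range_of_allRange c_act8_1) (range_glue (range_of_allRange c_act8_2) (range_glue (range_of_allRange c_act8_3) (range_glue (range_of_allRange c_act8_4) (range_glue (range_of_allRange c_act8_5) (range_glue (range_of_allRange c_act8_6) (range_glue (range_of_allRange c_act8_7) (range_of_allRange c_act8_8)))))))))
theorem h_act9 : ∀ i, 0 ≤ i → i < 122760 → Nat.beq (actR9 i) i = true :=
  (range_glue (range_of_allRange c_act9_0) (range_glue (range_of_allRange c_act9_1) (range_glue (range_of_allRange c_act9_2) (range_glue (range_of_allRange c_act9_3) (range_glue (range_of_allRange c_act9_4) (range_glue (range_of_allRange c_act9_5) (range_glue (range_of_allRange c_act9_6) (range_glue (range_of_allRange c_act9_7) (range_of_allRange c_act9_8)))))))))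
theorem h_act10 : ∀ i, 0 ≤ i → i < 122760 → Nat.beq (actR10 i) i = true :=
  (range_glue (range_of_allRange c_act10_0) (range_glue (range_of_allRange c_act10_1) (range_glue (range_of_allRange c_act10_2) (range_glue (range_of_allRange c_act10_3) (range_glue (range_of_allRange c_act10_4) (range_glue (range_of_allRange c_act10_5) (range_glue (range_of_allRange c_act10_6) (range_glue (range_of_allRange c_act10_7) (range_of_allRange c_act10_8)))))))))
theorem h_act11 : ∀ i, 0 ≤ i → i < 122760 → Nat.beq (actR11 i) i = true :=
  (range_glue (range_of_allRange c_act11_0) (range_glue (range_of_allRange c_act11_1) (range_glue (range_of_allRange c_act11_2) (range_glue (range_of_allRange c_act11_3) (range_of_allRange c_act11_4)))))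
theorem h_act12 : ∀ i, 0 ≤ i → i < 122760 → Nat.beq (actR12 i) i = true :=
  (range_glue (range_of_allRange c_act12_0) (range_glue (range_of_allRange c_act12_1) (range_glue (range_of_allRange c_act12_2) (range_glue (range_of_allRange c_act12_3) (range_glue (range_of_allRange c_act12_4) (range_glue (range_of_allRange c_act12_5) (range_glue (range_of_allRange c_act12_6) (range_glue (range_of_allRange c_act12_7) (range_glue (range_of_allRange c_act12_8) (range_glue (range_of_allRange c_act12_9) (range_glue (range_of_allRange c_act12_10) (range_glue (range_of_allRange c_act12_11) (range_glue (range_of_allRange c_act12_12) (range_glue (range_of_allRange c_act12_13) (range_glue (range_of_allRange c_act12_14) (range_glue (range_of_allRange c_act12_15) (range_glue (range_of_allRange c_act12_16) (range_glue (range_of_allRange c_act12_17) (range_glue (range_of_allRange c_act12_18) (range_glue (range_of_allRange c_act12_19) (range_glue (range_of_allRange c_act12_20) (range_glue (range_of_allRange c_act12_21) (range_glue (range_of_allRange c_act12_22) (range_glue (range_of_allRange c_act12_23) (range_glue (range_of_allRange c_act12_24) (range_glue (range_of_allRange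 c_act12_25) (range_glue (range_of_allRange c_act12_26) (range_glue (range_of_allRange c_act12_27) (range_glue (range_of_allRange c_act12_28) (range_glue (range_of_allRange c_act12_29) (range_glue (range_of_allRange c_act12_30) (range_glue (range_of_allRange c_act12_31) (range_of_allRange c_act12_32)))))))))))))))))))))))))))))))))
theorem h_act13 : ∀ i, 0 ≤ i → i < 122760 → Nat.beq (actR13 i) i = true :=
  (range_glue (range_of_allRange c_act13_0) (range_glue (range_of_allRange c_act13_1) (range_glue (range_of_allRange c_act13_2) (range_glue (range_of_allRange c_act13_3) (range_glue (range_of_allRange c_act13_4) (range_glue (range_of_allRange c_act13_5) (range_glue (range_of_allRange c_act13_6) (range_glue (range_of_allRange c_act13_7) (range_of_allRange c_act13_8)))))))))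
theorem h_act14 : ∀ i, 0 ≤ i → i < 122760 → Nat.beq (actR14 i) i = true :=
  (range_glue (range_of_allRange c_act14_0) (range_glue (range_of_allRange c_act14_1) (range_glue (range_of_allRange c_act14_2) (range_glue (range_of_allRange c_act14_3) (range_glue (range_of_allRange c_act14_4) (range_glue (range_of_allRange c_act14_5) (range_glue (range_of_allRange c_act14_6) (range_glue (range_of_allRange c_act14_7) (range_of_allRange c_act14_8)))))))))
theorem h_act15 : ∀ i, 0 ≤ i → i < 122760 → Nat.beq (actR15 i) i = true :=
  (range_glue (range_of_allRange c_act15_0) (range_glue (range_of_allRange c_act15_1) (range_glue (range_of_allRange c_act15_2) (range_glue (range_of_allRange c_act15_3) (range_of_allRange c_act15_4)))))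
theorem h_act16 : ∀ i, 0 ≤ i → i < 122760 → Nat.beq (actR16 i) i = true :=
  (range_glue (range_of_allRange c_act16_0) (range_glue (range_of_allRange c_act16_1) (range_glue (range_of_allRange c_act16_2) (range_glue (range_of_allRange c_act16_3) (range_glue (range_of_allRange c_act16_4) (range_glue (range_of_allRange c_act16_5) (range_glue (range_of_allRange c_act16_6) (range_glue (range_of_allRange c_act16_7) (range_glue (range_of_allRange c_act16_8) (range_glue (range_of_allRange c_act16_9) (range_glue (range_of_allRange c_act16_10) (range_glue (range_of_allRange c_act16_11) (range_of_allRange c_act16_12)))))))))))))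
theorem h_act17 : ∀ i, 0 ≤ i → i < 122760 → Nat.beq (actR17 i) i = true :=
  (range_glue (range_of_allRange c_act17_0) (range_glue (range_of_allRange c_act17_1) (range_glue (range_of_allRange c_act17_2) (range_glue (range_of_allRange c_act17_3) (range_glue (range_of_allRange c_act17_4) (range_glue (range_of_allRange c_act17_5) (range_glue (range_of_allRange c_act17_6) (range_glue (range_of_allRange c_act17_7) (range_of_allRange c_act17_8)))))))))
theorem h_act18 : ∀ i, 0 ≤ i → i < 122760 → Nat.beq (actR18 i) i = true :=
  (range_glue (range_of_allRange c_act18_0) (range_glue (range_of_allRange c_act18_1) (range_glue (range_of_allRange c_act18_2) (range_glue (range_of_allRange c_act18_3) (range_of_allRange c_act18_4)))))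
theorem h_act19 : ∀ i, 0 ≤ i → i < 122760 → Nat.beq (actR19 i) i = true :=
  (range_glue (range_of_allRange c_act19_0) (range_glue (range_of_allRange c_act19_1) (range_glue (range_of_allRange c_act19_2) (range_glue (range_of_allRange c_act19_3) (range_glue (range_of_allRange c_act19_4) (range_glue (range_of_allRange c_act19_5) (range_glue (range_of_allRange c_act19_6) (range_glue (range_of_allRange c_act19_7) (range_glue (range_of_allRange c_act19_8) (range_glue (range_of_allRange c_act19_9) (range_glue (range_of_allRange c_act19_10) (range_glue (range_of_allRange c_act19_11) (range_of_allRange c_act19_12)))))))))))))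
theorem h_act20 : ∀ i, 0 ≤ i → i < 122760 → Nat.beq (actR20 i) i = true :=
  (range_glue (range_of_allRange c_act20_0) (range_glue (range_of_allRange c_act20_1) (range_glue (range_of_allRange c_act20_2) (range_glue (range_of_allRange c_act20_3) (range_of_allRange c_act20_4)))))
theorem h_act21 : ∀ i, 0 ≤ i → i < 122760 → Nat.beq (actR21 i) i = true :=
  (range_glue (range_of_allRange c_act21_0) (range_glue (range_of_allRange c_act21_1) (range_glue (range_of_allRange c_act21_2) (range_glue (range_of_allRange c_act21_3) (range_glue (range_of_allRange c_act21_4) (range_glue (range_of_allRange c_act21_5) (range_glue (range_of_allRange c_act21_6) (range_glue (range_of_allRange c_act21_7) (range_of_allRange c_act21_8)))))))))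
theorem h_act22 : ∀ i, 0 ≤ i → i < 122760 → Nat.beq (actR22 i) i = true :=
  (range_glue (range_of_allRange c_act22_0) (range_glue (range_of_allRange c_act22_1) (range_glue (range_of_allRange c_act22_2) (range_glue (range_of_allRange c_act22_3) (range_glue (range_of_allRange c_act22_4) (range_glue (range_of_allRange c_act22_5) (range_glue (range_of_allRange c_act22_6) (range_glue (range_of_allRange c_act22_7) (range_glue (range_of_allRange c_act22_8) (range_glue (range_of_allRange c_act22_9) (range_glue (range_of_allRange c_act22_10) (range_glue (range_of_allRange c_act22_11) (range_glue (range_of_allRange c_act22_12) (range_glue (range_of_allRange c_act22_13) (range_glue (range_of_allRange c_act22_14) (range_glue (range_of_allRange c_act22_15) (range_glue (range_of_allRange c_act22_16) (range_glue (range_of_allRange c_act22_17) (range_glue (range_of_allRange c_act22_18) (range_glue (range_of_allRange c_act22_19) (range_of_allRange c_act22_20)))))))))))))))))))))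
theorem h_act23 : ∀ i, 0 ≤ i → i < 122760 → Nat.beq (actR23 i) i = true :=
  (range_glue (range_of_allRange c_act23_0) (range_glue (range_of_allRange c_act23_1) (range_glue (range_of_allRange c_act23_2) (range_glue (range_of_allRange c_act23_3) (range_glue (range_of_allRange c_act23_4) (range_glue (range_of_allRange c_act23_5) (range_glue (range_of_allRange c_act23_6) (range_glue (range_of_allRange c_act23_7) (range_glue (range_of_allRange c_act23_8) (range_glue (range_of_allRange c_act23_9) (range_glue (range_of_allRange c_act23_10) (range_glue (range_of_allRange c_act23_11) (range_glue (range_of_allRange c_act23_12) (range_glue (range_of_allRange c_act23_13) (range_glue (range_of_allRange c_act23_14) (range_glue (range_of_allRange c_act23_15) (range_glue (range_of_allRange c_act23_16) (range_glue (range_of_allRange c_act23_17) (range_glue (range_of_allRange c_act23_18) (range_glue (range_of_allRange c_act23_19) (range_of_allRange c_act23_20)))))))))))))))))))))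
theorem h_act24 : ∀ i, 0 ≤ i → i < 122760 → Nat.beq (actR24 i) i = true :=
  (range_glue (range_of_allRange c_act24_0) (range_glue (range_of_allRange c_act24_1) (range_glue (range_of_allRange c_act24_2) (range_glue (range_of_allRange c_act24_3) (range_glue (range_of_allRange c_act24_4) (range_glue (range_of_allRange c_act24_5) (range_glue (range_of_allRange c_act24_6) (range_glue (range_of_allRange c_act24_7) (range_glue (range_of_allRange c_act24_8) (range_glue (range_of_allRange c_act24_9) (range_glue (range_of_allRange c_act24_10) (range_glue (range_of_allRange c_act24_11) (range_glue (range_of_allRange c_act24_12) (range_glue (range_of_allRange c_act24_13) (range_glue (range_of_allRange c_act24_14) (range_glue (range_of_allRange c_act24_15) (range_glue (range_of_allRange c_act24_16) (range_glue (range_of_allRange c_act24_17) (range_glue (range_of_allRange c_act24_18) (range_glue (range_of_allRange c_act24_19) (range_of_allRange c_act24_20)))))))))))))))))))))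
theorem h_act25_p0 : ∀ i, 0 ≤ i → i < 120000 → Nat.beq (actR25 i) i = true :=
  (range_glue (range_of_allRange c_act25_0) (range_glue (range_of_allRange c_act25_1) (range_glue (range_of_allRange c_act25_2) (range_glue (range_of_allRange c_act25_3) (range_glue (range_of_allRange c_act25_4) (range_glue (range_of_allRange c_act25_5) (range_glue (range_of_allRange c_act25_6) (range_glue (range_of_allRange c_act25_7) (range_glue (range_of_allRange c_act25_8) (range_glue (range_of_allRange c_act25_9) (range_glue (range_of_allRange c_act25_10) (range_glue (range_of_allRange c_act25_11) (range_glue (range_of_allRange c_act25_12) (range_glue (range_of_allRange c_act25_13) (range_glue (range_of_allRange c_act25_14) (range_glue (range_of_allRange c_act25_15) (range_glue (range_of_allRange c_act25_16) (range_glue (range_of_allRange c_act25_17) (range_glue (range_of_allRange c_act25_18) (range_glue (range_of_allRange c_act25_19) (range_glue (range_of_allRange c_act25_20) (range_glue (range_of_allRange c_act25_21) (range_glue (range_of_allRange c_act25_22) (range_glue (range_of_allRange c_act25_23) (range_glue (range_of_allRange c_act25_24) (range_glue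 (range_of_allRange c_act25_25) (range_glue (range_of_allRange c_act25_26) (range_glue (range_of_allRange c_act25_27) (range_glue (range_of_allRange c_act25_28) (range_glue (range_of_allRange c_act25_29) (range_glue (range_of_allRange c_act25_30) (range_glue (range_of_allRange c_act25_31) (range_glue (range_of_allRange c_act25_32) (range_glue (range_of_allRange c_act25_33) (range_glue (range_of_allRange c_act25_34) (range_glue (range_of_allRange c_act25_35) (range_glue (range_of_allRange c_act25_36) (range_glue (range_of_allRange c_act25_37) (range_glue (range_of_allRange c_act25_38) (range_of_allRange c_act25_39))))))))))))))))))))))))))))))))))))))))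
theorem h_act25_p1 : ∀ i, 120000 ≤ i → i < 122760 → Nat.beq (actR25 i) i = true :=
  (range_of_allRange c_act25_40)
theorem h_act25 : ∀ i, 0 ≤ i → i < 122760 → Nat.beq (actR25 i) i = true :=
  (range_glue h_act25_p0 h_act25_p1)
theorem h_act26 : ∀ i, 0 ≤ i → i < 122760 → Nat.beq (actR26 i) i = true :=
  (range_glue (range_of_allRange c_act26_0) (range_glue (range_of_allRange c_act26_1) (range_glue (range_of_allRange c_act26_2) (range_glue (range_of_allRange c_act26_3) (range_glue (range_of_allRange c_act26_4) (range_glue (range_of_allRange c_act26_5) (range_glue (range_of_allRange c_act26_6) (range_glue (range_of_allRange c_act26_7) (range_glue (range_of_allRange c_act26_8) (range_glue (range_of_allRange c_act26_9) (range_glue (range_of_allRange c_act26_10) (range_glue (range_of_allRange c_act26_11) (range_glue (range_of_allRange c_act26_12) (range_glue (range_of_allRange c_act26_13) (range_glue (range_of_allRange c_act26_14) (range_glue (range_of_allRange c_act26_15) (range_glue (range_of_allRange c_act26_16) (range_glue (range_of_allRange c_act26_17) (range_glue (range_of_allRange c_act26_18) (range_glue (range_of_allRange c_act26_19)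 (range_glue (range_of_allRange c_act26_20) (range_glue (range_of_allRange c_act26_21) (range_of_allRange c_act26_22)))))))))))))))))))))))
theorem h_act27 : ∀ i, 0 ≤ i → i < 122760 → Nat.beq (actR27 i) i = true :=
  (range_glue (range_of_allRange c_act27_0) (range_glue (range_of_allRange c_act27_1) (range_glue (range_of_allRange c_act27_2) (range_glue (range_of_allRange c_act27_3) (range_glue (range_of_allRange c_act27_4) (range_glue (range_of_allRange c_act27_5) (range_glue (range_of_allRange c_act27_6) (range_glue (range_of_allRange c_act27_7) (range_glue (range_of_allRange c_act27_8) (range_glue (range_of_allRange c_act27_9) (range_glue (range_of_allRange c_act27_10) (range_glue (range_of_allRange c_act27_11) (range_glue (range_of_allRange c_act27_12) (range_glue (range_of_allRange c_act27_13) (range_glue (range_of_allRange c_act27_14) (range_glue (range_of_allRange c_act27_15) (range_glue (range_of_allRange c_act27_16) (range_glue (range_of_allRange c_act27_17) (range_glue (range_of_allRange c_act27_18) (range_glue (range_of_allRange c_act27_19) (range_glue (range_of_allRange c_act27_20) (range_glue (range_of_allRange c_act27_21) (range_of_allRange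 c_act27_22)))))))))))))))))))))))

theorem checked : T.Checked D where
  hz := c_zero
  hn := fun d h0 hd => h_names d h0 hd
  hb := fun j hj => allBelow_eq_true.1 c_base j hj
  hr := fun t h1 h2 => h_rel t h1 h2
  hfin := fun i x hi hx => h_fin i (Nat.zero_le _) hi x hx
  hperm := fun i x hi hx => h_perm i (Nat.zero_le _) hi x hx
  hlet := fun x hx => allBelow_eq_true.1 c_let x hx
  hcls := fun d h0 hd => h_cls d h0 hd
  hrep := fun i hi => h_rep i (Nat.zero_le _) hi
  hcls0 := c_cls0
  hname0 := c_name0
  hN := by decide
  hM := by decide

theorem h_act : ∀ L ∈ PON.P.real, ∀ i, i < T.N → Tab.relActOK T D L i = true := by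
  rw [c_real]
  intro L hL
  simp only [realLit, List.mem_cons, List.not_mem_nil, or_false] at hL
  rcases hL with rfl | rfl | rfl | rfl | rfl | rfl | rfl | rfl | rfl | rfl | rfl | rfl | rfl | rfl | rfl | rfl | rfl | rfl | rfl | rfl | rfl | rfl | rfl | rfl | rfl | rfl | rfl | rfl
  · intro i hi
    rw [Tab.relActOK, ← actR0_eq]
    exact h_act0 i (Nat.zero_le _) hi
  · intro i hi
    rw [Tab.relActOK, ← actR1_eq]
    exact h_act1 i (Nat.zero_le _) hi
  · intro i hi
    rw [Tab.relActOK, ← actR2_eq]
    exact h_act2 i (Nat.zero_le _) hi
  · intro i hi
    rw [Tab.relActOK, ← actR3_eq]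
    exact h_act3 i (Nat.zero_le _) hi
  · intro i hi
    rw [Tab.relActOK, ← actR4_eq]
    exact h_act4 i (Nat.zero_le _) hi
  · intro i hi
    rw [Tab.relActOK, ← actR5_eq]
    exact h_act5 i (Nat.zero_le _) hi
  · intro i hi
    rw [Tab.relActOK, ← actR6_eq]
    exact h_act6 i (Nat.zero_le _) hi
  · intro i hi
    rw [Tab.relActOK, ← actR7_eq]
    exact h_act7 i (Nat.zero_le _) hi
  · intro i hi
    rw [Tab.relActOK, ← actR8_eq]
    exact h_act8 i (Nat.zero_le _) hi
  · intro i hi
    rw [Tab.relActOK, ← actR9_eq]
    exact h_act9 i (Nat.zero_le _) hi
  · intro i hi
    rw [Tab.relActOK, ← actR10_eq]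
    exact h_act10 i (Nat.zero_le _) hi
  · intro i hi
    rw [Tab.relActOK, ← actR11_eq]
    exact h_act11 i (Nat.zero_le _) hi
  · intro i hi
    rw [Tab.relActOK, ← actR12_eq]
    exact h_act12 i (Nat.zero_le _) hi
  · intro i hi
    rw [Tab.relActOK, ← actR13_eq]
    exact h_act13 i (Nat.zero_le _) hi
  · intro i hi
    rw [Tab.relActOK, ← actR14_eq]
    exact h_act14 i (Nat.zero_le _) hi
  · intro i hi
    rw [Tab.relActOK, ← actR15_eq]
    exact h_act15 i (Nat.zero_le _) hi
  · intro i hi
    rw [Tab.relActOK, ← actR16_eq]
    exact h_act16 i (Nat.zero_le _) hi
  · intro i hi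
    rw [Tab.relActOK, ← actR17_eq]
    exact h_act17 i (Nat.zero_le _) hi
  · intro i hi
    rw [Tab.relActOK, ← actR18_eq]
    exact h_act18 i (Nat.zero_le _) hi
  · intro i hi
    rw [Tab.relActOK, ← actR19_eq]
    exact h_act19 i (Nat.zero_le _) hi
  · intro i hi
    rw [Tab.relActOK, ← actR20_eq]
    exact h_act20 i (Nat.zero_le _) hi
  · intro i hi
    rw [Tab.relActOK, ← actR21_eq]
    exact h_act21 i (Nat.zero_le _) hi
  · intro i hi
    rw [Tab.relActOK, ← actR22_eq]
    exact h_act22 i (Nat.zero_le _) hi
  · intro i hi
    rw [Tab.relActOK, ← actR23_eq]
    exact h_act23 i (Nat.zero_le _) hi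
  · intro i hi
    rw [Tab.relActOK, ← actR24_eq]
    exact h_act24 i (Nat.zero_le _) hi
  · intro i hi
    rw [Tab.relActOK, ← actR25_eq]
    exact h_act25 i (Nat.zero_le _) hi
  · intro i hi
    rw [Tab.relActOK, ← actR26_eq]
    exact h_act26 i (Nat.zero_le _) hi
  · intro i hi
    rw [Tab.relActOK, ← actR27_eq]
    exact h_act27 i (Nat.zero_le _) hi

theorem inst : Inst PON.P T D subs where
  hP := PON.valid
  hk := rfl
  hinv := rfl
  hsubs := by
    intro u hu x hx
    have h1 := List.all_eq_true.1 c_subs u hu
    exact ble_succ (List.all_eq_true.1 h1 x hx)
  htab := c_tab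
  hC := checked
  hact := h_act
  hsubfix := fun u hu => beq_eq (List.all_eq_true.1 c_subfix u hu)

theorem index_eq : (Inst.subG PON.P subs).index = 122760 := inst.index_eq


end Cfsg.Agent.Lib.Helper4.TCD.ON1
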