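import Cfsg.Agent.Lib.Helper4.TCD_ON1O_C0
import Cfsg.Agent.Lib.Helper4.TCD_ON1_Fin

namespace Cfsg.Agent.Lib.Helper4.TCD.ON1O

open Cfsg.Agent.Lib.Helper4.TC Cfsg.Agent.Lib.Helper4.TCD.ON1

theorem orb_inv_0 : ∀ j, 1 ≤ j → j < 58654 → Tab.orbInvOK T D subs 1 58654 j = true :=
  (range_glue (range_of_allRange c_oinv0_0) (range_glue (range_of_allRange c_oinv0_1) (range_glue (range_of_allRange c_oinv0_2) (range_glue (range_of_allRange c_oinv0_3) (range_glue (range_of_allRange c_oinv0_4) (range_glue (range_of_allRange c_oinv0_5) (range_glue (range_of_allRange c_oinv0_6) (range_glue (range_of_allRange c_oinv0_7) (range_glue (range_of_allRange c_oinv0_8) (range_glue (range_of_allRange c_oinv0_9) (range_glue (range_of_allRange c_oinv0_10) (range_of_allRange c_oinv0_11))))))))))))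
theorem orb_tree0_0 : ∀ j, 2 ≤ j → j < 58654 → Tab.orbTreeOK T D subs oparTab olabTab 1 j = true :=
  (range_glue (range_of_allRange c_otree0_0) (range_glue (range_of_allRange c_otree0_1) (range_of_allRange c_otree0_2)))
theorem orb_tree_0 : ∀ j, 1 < j → j < 58654 → Tab.orbTreeOK T D subs oparTab olabTab 1 j = true :=
  fun j h1 h2 => orb_tree0_0 j h1 h2
theorem orb_inv_1 : ∀ j, 58654 ≤ j → j < 110790 → Tab.orbInvOK T D subs 58654 110790 j = true :=
  (range_glue (range_of_allRange c_oinv1_0) (range_glue (range_of_allRange c_oinv1_1) (range_glue (range_of_allRange c_oinv1_2) (range_glue (range_of_allRange c_oinv1_3) (range_glue (range_of_allRange c_oinv1_4) (range_glue (range_of_allRange c_oinv1_5) (range_glue (range_of_allRange c_oinv1_6) (range_glue (range_of_allRange c_oinv1_7) (range_glue (range_of_allRange c_oinv1_8) (range_glue (range_of_allRange c_oinv1_9) (range_of_allRange c_oinv1_10)))))))))))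
theorem orb_tree0_1 : ∀ j, 58655 ≤ j → j < 110790 → Tab.orbTreeOK T D subs oparTab olabTab 58654 j = true :=
  (range_glue (range_of_allRange c_otree1_0) (range_glue (range_of_allRange c_otree1_1) (range_of_allRange c_otree1_2)))
theorem orb_tree_1 : ∀ j, 58654 < j → j < 110790 → Tab.orbTreeOK T D subs oparTab olabTab 58654 j = true :=
  fun j h1 h2 => orb_tree0_1 j h1 h2
theorem orb_inv_2 : ∀ j, 110790 ≤ j → j < 116376 → Tab.orbInvOK T D subs 110790 116376 j = true :=
  (range_glue (range_of_allRange c_oinv2_0) (range_of_allRange c_oinv2_1))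
theorem orb_tree0_2 : ∀ j, 110791 ≤ j → j < 116376 → Tab.orbTreeOK T D subs oparTab olabTab 110790 j = true :=
  (range_of_allRange c_otree2_0)
theorem orb_tree_2 : ∀ j, 110790 < j → j < 116376 → Tab.orbTreeOK T D subs oparTab olabTab 110790 j = true :=
  fun j h1 h2 => orb_tree0_2 j h1 h2
theorem orb_inv_3 : ∀ j, 116376 ≤ j → j < 122760 → Tab.orbInvOK T D subs 116376 122760 j = true :=
  (range_glue (range_of_allRange c_oinv3_0) (range_of_allRange c_oinv3_1))
theorem orb_tree0_3 : ∀ j, 116377 ≤ j → j < 122760 → Tab.orbTreeOK T D subs oparTab olabTab 116376 j = true :=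
  (range_of_allRange c_otree3_0)
theorem orb_tree_3 : ∀ j, 116376 < j → j < 122760 → Tab.orbTreeOK T D subs oparTab olabTab 116376 j = true :=
  fun j h1 h2 => orb_tree0_3 j h1 h2

end Cfsg.Agent.Lib.Helper4.TCD.ON1O
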