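import Cfsg.Agent.Lib.Helper4.TCD_ONL_C0
import Cfsg.Agent.Lib.Helper4.TC13

namespace Cfsg.Agent.Lib.Helper4.TCD.ONL

open Cfsg.Agent.Lib.Helper4.TC Cfsg.Agent.Lib.Helper4.TCD.ON1

theorem h_nd0 : ∀ idx, 0 ≤ idx → idx < 122760 → S.nodeOK 0 idx = true :=
  (range_glue (range_of_allRange c_nd0_0) (range_glue (range_of_allRange c_nd0_1) (range_glue (range_of_allRange c_nd0_2) (range_glue (range_of_allRange c_nd0_3) (range_glue (range_of_allRange c_nd0_4) (range_glue (range_of_allRange c_nd0_5) (range_glue (range_of_allRange c_nd0_6) (range_glue (range_of_allRange c_nd0_7) (range_glue (range_of_allRange c_nd0_8) (range_glue (range_of_allRange c_nd0_9) (range_glue (range_of_allRange c_nd0_10) (range_glue (range_of_allRange c_nd0_11) (range_glue (range_of_allRange c_nd0_12) (range_glue (range_of_allRange c_nd0_13) (range_glue (range_of_allRange c_nd0_14) (range_glue (range_of_allRange c_nd0_15) (range_glue (range_of_allRange c_nd0_16) (range_glue (range_of_allRange c_nd0_17) (range_glue (range_of_allRange c_nd0_18) (range_glue (range_of_allRange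 c_nd0_19) (range_glue (range_of_allRange c_nd0_20) (range_glue (range_of_allRange c_nd0_21) (range_glue (range_of_allRange c_nd0_22) (range_glue (range_of_allRange c_nd0_23) (range_of_allRange c_nd0_24)))))))))))))))))))))))))
theorem h_nd1 : ∀ idx, 0 ≤ idx → idx < 5586 → S.nodeOK 1 idx = true :=
  (range_glue (range_of_allRange c_nd1_0) (range_of_allRange c_nd1_1))
theorem h_nd2 : ∀ idx, 0 ≤ idx → idx < 672 → S.nodeOK 2 idx = true :=
  (range_of_allRange c_nd2_0)

theorem ok : S.OK where
  hkm := by decide
  hperm := by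
    intro i p h1 h2 hp
    have h1 : 8 ≤ i := h1
    have h2 : i < 8 := h2
    have hp : p < 122760 := hp
    interval_cases i
  hwords := fun i h1 h2 => range_of_allRange c_words i h1 h2
  hfix := fun i t hi ht => range_of_allGrid c_fix i (Nat.zero_le _) (by have h : i < 8 := hi; omega) t ht
  hroot := fun j hj => ble_succ (allBelow_eq_true.1 c_root j hj)
  hnode := by
    intro j idx hj hidx
    have hj : j < 3 := hj
    interval_cases j
    · rw [c_n0] at hidx; exact h_nd0 idx (Nat.zero_le _) hidx
    · rw [c_n1] at hidx; exact h_nd1 idx (Nat.zero_le _) hidx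
    · rw [c_n2] at hidx; exact h_nd2 idx (Nat.zero_le _) hidx

theorem htab0 : ∀ i, i < S.k → ∀ p, p < S.N → S.tab i p = T.tbl p (D.inv i) := by
  intro i hi p _
  have hi : i < 8 := hi
  interval_cases i <;> rfl

theorem prod_eq : S.prodFrom S.r 0 = 460815505920 := by decide +kernel

end Cfsg.Agent.Lib.Helper4.TCD.ONL
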