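import Cfsg.Agent.Lib.Helper4.TCD_ON1_Acc
import Cfsg.Agent.Lib.Helper4.TC13

namespace Cfsg.Agent.Lib.Helper4.TCD.ONQ

open Cfsg.Agent.Lib.Helper4.TC Cfsg.Agent.Lib.Helper4.TCD.ON1

set_option maxRecDepth 100000
set_option Elab.async false

def xw : List Nat := [5, 4, 0, 6]

noncomputable def actX (i : Nat) : Nat := col5 (col4 (col1 (col6 (col5 (col4 (col1 (col6 (col5 (col4 (col1 (col6 (col5 (col4 (col1 (col6 (col5 (col4 (col1 (col6 (i))))))))))))))))))))
theorem actX_eq (i : Nat) : actX i = Tab.act T D (List.replicate 5 xw).flatten i := rfl
theorem c_xq_0 : allRange (fun i => Nat.beq (actX i) i) 0 2727 = true := by decide +kernel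
theorem c_xq_1 : allRange (fun i => Nat.beq (actX i) i) 2727 2727 = true := by decide +kernel
theorem c_xq_2 : allRange (fun i => Nat.beq (actX i) i) 5454 2727 = true := by decide +kernel
theorem c_xq_3 : allRange (fun i => Nat.beq (actX i) i) 8181 2727 = true := by decide +kernel
theorem c_xq_4 : allRange (fun i => Nat.beq (actX i) i) 10908 2727 = true := by decide +kernel
theorem c_xq_5 : allRange (fun i => Nat.beq (actX i) i) 13635 2727 = true := by decide +kernel
theorem c_xq_6 : allRange (fun i => Nat.beq (actX i) i) 16362 2727 = true := by decide +kernel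
theorem c_xq_7 : allRange (fun i => Nat.beq (actX i) i) 19089 2727 = true := by decide +kernel
theorem c_xq_8 : allRange (fun i => Nat.beq (actX i) i) 21816 2727 = true := by decide +kernel
theorem c_xq_9 : allRange (fun i => Nat.beq (actX i) i) 24543 2727 = true := by decide +kernel
theorem c_xq_10 : allRange (fun i => Nat.beq (actX i) i) 27270 2727 = true := by decide +kernel
theorem c_xq_11 : allRange (fun i => Nat.beq (actX i) i) 29997 2727 = true := by decide +kernel
theorem c_xq_12 : allRange (fun i => Nat.beq (actX i) i) 32724 2727 = true := by decide +kernel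
theorem c_xq_13 : allRange (fun i => Nat.beq (actX i) i) 35451 2727 = true := by decide +kernel
theorem c_xq_14 : allRange (fun i => Nat.beq (actX i) i) 38178 2727 = true := by decide +kernel
theorem c_xq_15 : allRange (fun i => Nat.beq (actX i) i) 40905 2727 = true := by decide +kernel
theorem c_xq_16 : allRange (fun i => Nat.beq (actX i) i) 43632 2727 = true := by decide +kernel
theorem c_xq_17 : allRange (fun i => Nat.beq (actX i) i) 46359 2727 = true := by decide +kernel
theorem c_xq_18 : allRange (fun i => Nat.beq (actX i) i) 49086 2727 = true := by decide +kernel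
theorem c_xq_19 : allRange (fun i => Nat.beq (actX i) i) 51813 2727 = true := by decide +kernel
theorem c_xq_20 : allRange (fun i => Nat.beq (actX i) i) 54540 2727 = true := by decide +kernel
theorem c_xq_21 : allRange (fun i => Nat.beq (actX i) i) 57267 2727 = true := by decide +kernel
theorem c_xq_22 : allRange (fun i => Nat.beq (actX i) i) 59994 2727 = true := by decide +kernel
theorem c_xq_23 : allRange (fun i => Nat.beq (actX i) i) 62721 2727 = true := by decide +kernel
theorem c_xq_24 : allRange (fun i => Nat.beq (actX i) i) 65448 2727 = true := by decide +kernel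
theorem c_xq_25 : allRange (fun i => Nat.beq (actX i) i) 68175 2727 = true := by decide +kernel
theorem c_xq_26 : allRange (fun i => Nat.beq (actX i) i) 70902 2727 = true := by decide +kernel
theorem c_xq_27 : allRange (fun i => Nat.beq (actX i) i) 73629 2727 = true := by decide +kernel
theorem c_xq_28 : allRange (fun i => Nat.beq (actX i) i) 76356 2727 = true := by decide +kernel
theorem c_xq_29 : allRange (fun i => Nat.beq (actX i) i) 79083 2727 = true := by decide +kernel
theorem c_xq_30 : allRange (fun i => Nat.beq (actX i) i) 81810 2727 = true := by decide +kernel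
theorem c_xq_31 : allRange (fun i => Nat.beq (actX i) i) 84537 2727 = true := by decide +kernel
theorem c_xq_32 : allRange (fun i => Nat.beq (actX i) i) 87264 2727 = true := by decide +kernel
theorem c_xq_33 : allRange (fun i => Nat.beq (actX i) i) 89991 2727 = true := by decide +kernel
theorem c_xq_34 : allRange (fun i => Nat.beq (actX i) i) 92718 2727 = true := by decide +kernel
theorem c_xq_35 : allRange (fun i => Nat.beq (actX i) i) 95445 2727 = true := by decide +kernel
theorem c_xq_36 : allRange (fun i => Nat.beq (actX i) i) 98172 2727 = true := by decide +kernel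
theorem c_xq_37 : allRange (fun i => Nat.beq (actX i) i) 100899 2727 = true := by decide +kernel
theorem c_xq_38 : allRange (fun i => Nat.beq (actX i) i) 103626 2727 = true := by decide +kernel
theorem c_xq_39 : allRange (fun i => Nat.beq (actX i) i) 106353 2727 = true := by decide +kernel
theorem c_xq_40 : allRange (fun i => Nat.beq (actX i) i) 109080 2727 = true := by decide +kernel
theorem c_xq_41 : allRange (fun i => Nat.beq (actX i) i) 111807 2727 = true := by decide +kernel
theorem c_xq_42 : allRange (fun i => Nat.beq (actX i) i) 114534 2727 = true := by decide +kernel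
theorem c_xq_43 : allRange (fun i => Nat.beq (actX i) i) 117261 2727 = true := by decide +kernel
theorem c_xq_44 : allRange (fun i => Nat.beq (actX i) i) 119988 2727 = true := by decide +kernel
theorem c_xq_45 : allRange (fun i => Nat.beq (actX i) i) 122715 45 = true := by decide +kernel
theorem h_xq_p0 : ∀ i, 0 ≤ i → i < 109080 → Nat.beq (actX i) i = true :=
  (range_glue (range_of_allRange c_xq_0) (range_glue (range_of_allRange c_xq_1) (range_glue (range_of_allRange c_xq_2) (range_glue (range_of_allRange c_xq_3) (range_glue (range_of_allRange c_xq_4) (range_glue (range_of_allRange c_xq_5) (range_glue (range_of_allRange c_xq_6) (range_glue (range_of_allRange c_xq_7) (range_glue (range_of_allRange c_xq_8) (range_glue (range_of_allRange c_xq_9) (range_glue (range_of_allRange c_xq_10) (range_glue (range_of_allRange c_xq_11) (range_glue (range_of_allRange c_xq_12) (range_glue (range_of_allRange c_xq_13) (range_glue (range_of_allRange c_xq_14) (range_glue (range_of_allRange c_xq_15) (range_glue (range_of_allRange c_xq_16) (range_glue (range_of_allRange c_xq_17) (range_glue (range_of_allRange c_xq_18) (range_glue (range_of_allRange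 c_xq_19) (range_glue (range_of_allRange c_xq_20) (range_glue (range_of_allRange c_xq_21) (range_glue (range_of_allRange c_xq_22) (range_glue (range_of_allRange c_xq_23) (range_glue (range_of_allRange c_xq_24) (range_glue (range_of_allRange c_xq_25) (range_glue (range_of_allRange c_xq_26) (range_glue (range_of_allRange c_xq_27) (range_glue (range_of_allRange c_xq_28) (range_glue (range_of_allRange c_xq_29) (range_glue (range_of_allRange c_xq_30) (range_glue (range_of_allRange c_xq_31) (range_glue (range_of_allRange c_xq_32) (range_glue (range_of_allRange c_xq_33) (range_glue (range_of_allRange c_xq_34) (range_glue (range_of_allRange c_xq_35) (range_glue (range_of_allRange c_xq_36) (range_glue (range_of_allRange c_xq_37) (range_glue (range_of_allRange c_xq_38) (range_of_allRange c_xq_39))))))))))))))))))))))))))))))))))))))))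
theorem h_xq_p1 : ∀ i, 109080 ≤ i → i < 122760 → Nat.beq (actX i) i = true :=
  (range_glue (range_of_allRange c_xq_40) (range_glue (range_of_allRange c_xq_41) (range_glue (range_of_allRange c_xq_42) (range_glue (range_of_allRange c_xq_43) (range_glue (range_of_allRange c_xq_44) (range_of_allRange c_xq_45))))))
theorem h_xq : ∀ i, i < T.N → Tab.relActOK T D (List.replicate 5 xw).flatten i = true := by
  intro i hi
  rw [Tab.relActOK, ← actX_eq]
  exact (range_glue h_xq_p0 h_xq_p1) i (Nat.zero_le _) hi

end Cfsg.Agent.Lib.Helper4.TCD.ONQ
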