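import Mathlib
import Cfsg.Prelude.Def_Sporadic
import Cfsg.Agent.S1699
import Cfsg.Agent.Lib.Helper4.J1pMain
import Cfsg.Agent.Lib.Helper4.M11pMain
import Cfsg.Agent.Lib.Helper4.TCD_ONJ1K_Fin
import Cfsg.Agent.Lib.Helper4.TCD_ONM11K_Fin
import Cfsg.Agent.Lib.Helper4.RepLib2

/-!
The O'Nan group as a permutation group of degree 122760 (the image of the coset representation of the
presented group), with subgroups isomorphic to the Janko group `J₁` and the Mathieu group `M₁₁` given by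
permutation tables that satisfy presentations of these groups and are the actions of explicit words.
-/

namespace Cfsg.Agent.Lib.Helper4.ONReal

open Cfsg.Agent.Lib.Helper4.TC Cfsg.Agent.Lib.Helper4.TCD Cfsg.Agent.Lib.Helper4.TC.Log
open Cfsg.Agent.Lib.Helper4

/-- the permutation representation of the presented O'Nan group -/
noncomputable def φ : PON.P.Grp →* Equiv.Perm (Fin 122760) := ON1.inst.phi

theorem φ_inj : Function.Injective φ := Cfsg.Agent.S1699.order_aux.2.1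

/-- the O'Nan group as a permutation group -/
noncomputable def H : Subgroup (Equiv.Perm (Fin 122760)) := φ.range

theorem isON_H : Cfsg.IsON H := by
  have e : PON.P.Grp ≃* H := MonoidHom.ofInjective φ_inj
  exact ⟨RepLib.simple_of_equiv e Cfsg.Agent.S1699.simple_aux, by
    rw [RepLib.card_of_equiv e]; exact Cfsg.Agent.S1699.order_aux.2.2⟩

theorem trans_H : MulAction.IsPretransitive H (Fin 122760) := ON1.inst.range_pretransitive

theorem stab_H : Nat.card (MulAction.stabilizer H (0 : Fin 122760)) = 3753792 := by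
  have h := card_stabilizer_of_pretransitive H trans_H 0
  rw [isON_H.2] at h
  omega

/-! ### The subgroup `J₁` -/

/-- the permutation representation of the presented `J₁` -/
noncomputable def ψJ : PJ1p.P.Grp →* Equiv.Perm (Fin 122760) := ONJ1.prep.phi

/-- the words for the letters -/
def wJ : ℕ → List ℕ
  | 0 => ONJ1K.w1
  | 1 => ONJ1K.w0
  | 2 => ONJ1K.w3
  | _ => ONJ1K.w2

theorem ψJ_le : ψJ.range ≤ H := by
  apply range_le_of_tables ψJ φ PJ1p.P.gR 4 PJ1p.valid.gen_top (fun x => wordP PON.P.gR (wJ x))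
  intro x hx p
  have e1 : (ψJ (PJ1p.P.gR x) p).1 = ONJ1.T.tbl p.1 (ONJ1.D.inv x) := ONJ1.prep.phi_gR x hx p
  interval_cases x
  · have e2 : (φ (wordP PON.P.gR (wJ 0)) p).1 = Tab.act ON1.T ON1.D ONJ1K.w1 p.1 :=
      ON1.inst.phi_word _ (by decide) p
    rw [e1, e2]
    exact ONJ1K.h_k1 p.1 p.2
  · have e2 : (φ (wordP PON.P.gR (wJ 1)) p).1 = Tab.act ON1.T ON1.D ONJ1K.w0 p.1 :=
      ON1.inst.phi_word _ (by decide) p
    rw [e1, e2]
    exact ONJ1K.h_k0 p.1 p.2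
  · have e2 : (φ (wordP PON.P.gR (wJ 2)) p).1 = Tab.act ON1.T ON1.D ONJ1K.w3 p.1 :=
      ON1.inst.phi_word _ (by decide) p
    rw [e1, e2]
    exact ONJ1K.h_k3 p.1 p.2
  · have e2 : (φ (wordP PON.P.gR (wJ 3)) p).1 = Tab.act ON1.T ON1.D ONJ1K.w2 p.1 :=
      ON1.inst.phi_word _ (by decide) p
    rw [e1, e2]
    exact ONJ1K.h_k2 p.1 p.2

theorem ψJ_ne : ψJ (PJ1p.P.gR 0) ≠ 1 := by
  intro h
  have h1 : (ψJ (PJ1p.P.gR 0) ⟨2, by decide⟩).1 = 2 := by rw [h]; rfl
  have e1 : (ψJ (PJ1p.P.gR 0) ⟨2, by decide⟩).1 = ONJ1.T.tbl 2 (ONJ1.D.inv 0) :=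
    ONJ1.prep.phi_gR 0 (by decide) ⟨2, by decide⟩
  rw [e1] at h1
  have h2 : ONJ1.T.tbl 2 (ONJ1.D.inv 0) ≠ 2 := by decide +kernel
  exact h2 h1

theorem ψJ_inj : Function.Injective ψJ :=
  RepLib.injective_of_simple J1pMain.simple_aux ψJ _ ψJ_ne

theorem exists_J1 : ∃ K : Subgroup H, Cfsg.IsJ1 K := by
  have e := RepLib.rangeEquiv ψJ ψJ_inj H ψJ_le
  exact ⟨_, RepLib.simple_of_equiv e J1pMain.simple_aux, by
    rw [RepLib.card_of_equiv e]; exact J1pMain.order_aux.2.2⟩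

/-! ### The subgroup `M₁₁` -/

/-- the permutation representation of the presented `M₁₁` -/
noncomputable def ψM : PM11p.P.Grp →* Equiv.Perm (Fin 122760) := ONM11.prep.phi

/-- the words for the letters -/
def wM : ℕ → List ℕ
  | 0 => ONM11K.w1
  | 1 => ONM11K.w0
  | 2 => ONM11K.w3
  | _ => ONM11K.w2

theorem ψM_le : ψM.range ≤ H := by
  apply range_le_of_tables ψM φ PM11p.P.gR 4 PM11p.valid.gen_top (fun x => wordP PON.P.gR (wM x))
  intro x hx p
  have e1 : (ψM (PM11p.P.gR x) p).1 = ONM11.T.tbl p.1 (ONM11.D.inv x) := ONM11.prep.phi_gR x hx p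
  interval_cases x
  · have e2 : (φ (wordP PON.P.gR (wM 0)) p).1 = Tab.act ON1.T ON1.D ONM11K.w1 p.1 :=
      ON1.inst.phi_word _ (by decide) p
    rw [e1, e2]
    exact ONM11K.h_k1 p.1 p.2
  · have e2 : (φ (wordP PON.P.gR (wM 1)) p).1 = Tab.act ON1.T ON1.D ONM11K.w0 p.1 :=
      ON1.inst.phi_word _ (by decide) p
    rw [e1, e2]
    exact ONM11K.h_k0 p.1 p.2
  · have e2 : (φ (wordP PON.P.gR (wM 2)) p).1 = Tab.act ON1.T ON1.D ONM11K.w3 p.1 :=
      ON1.inst.phi_word _ (by decide) p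
    rw [e1, e2]
    exact ONM11K.h_k3 p.1 p.2
  · have e2 : (φ (wordP PON.P.gR (wM 3)) p).1 = Tab.act ON1.T ON1.D ONM11K.w2 p.1 :=
      ON1.inst.phi_word _ (by decide) p
    rw [e1, e2]
    exact ONM11K.h_k2 p.1 p.2

theorem ψM_ne : ψM (PM11p.P.gR 0) ≠ 1 := by
  intro h
  have h1 : (ψM (PM11p.P.gR 0) ⟨2, by decide⟩).1 = 2 := by rw [h]; rfl
  have e1 : (ψM (PM11p.P.gR 0) ⟨2, by decide⟩).1 = ONM11.T.tbl 2 (ONM11.D.inv 0) :=
    ONM11.prep.phi_gR 0 (by decide) ⟨2, by decide⟩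
  rw [e1] at h1
  have h2 : ONM11.T.tbl 2 (ONM11.D.inv 0) ≠ 2 := by decide +kernel
  exact h2 h1

theorem ψM_inj : Function.Injective ψM :=
  RepLib.injective_of_simple M11pMain.simple_aux ψM _ ψM_ne

theorem exists_M11 : ∃ K : Subgroup H, Cfsg.IsM11 K := by
  have e := RepLib.rangeEquiv ψM ψM_inj H ψM_le
  exact ⟨_, RepLib.simple_of_equiv e M11pMain.simple_aux, by
    rw [RepLib.card_of_equiv e]; exact M11pMain.order_aux.2.2⟩

end Cfsg.Agent.Lib.Helper4.ONReal
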