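import Mathlib
import Cfsg.Prelude.Def_Classical
import Cfsg.Agent.S0287

namespace Cfsg.Agent.Lib.Helper4.OPlusFour

open Equiv

abbrev I4 := Fin 2 ⊕ Fin 2

def vx : Fin 3 → ZMod 2 := ![1, 0, 1]
def vy : Fin 3 → ZMod 2 := ![0, 1, 1]

def ma (σ : Perm (Fin 3)) : ZMod 2 := vx (σ 0)
def mb (σ : Perm (Fin 3)) : ZMod 2 := vx (σ 1)
def mc (σ : Perm (Fin 3)) : ZMod 2 := vy (σ 0)
def md (σ : Perm (Fin 3)) : ZMod 2 := vy (σ 1)

/-- left multiplication -/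
def Lm (σ : Perm (Fin 3)) : Matrix I4 I4 (ZMod 2) := fun i j =>
  match i, j with
  | Sum.inl 0, Sum.inl 0 => ma σ
  | Sum.inl 0, Sum.inr 1 => mb σ
  | Sum.inl 1, Sum.inl 1 => ma σ
  | Sum.inl 1, Sum.inr 0 => mb σ
  | Sum.inr 0, Sum.inl 1 => mc σ
  | Sum.inr 0, Sum.inr 0 => md σ
  | Sum.inr 1, Sum.inl 0 => mc σ
  | Sum.inr 1, Sum.inr 1 => md σ
  | _, _ => 0

/-- right multiplication (by the matrix of `σ`) -/
def Rm0 (σ : Perm (Fin 3)) : Matrix I4 I4 (ZMod 2) := fun i j =>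
  match i, j with
  | Sum.inl 0, Sum.inl 0 => ma σ
  | Sum.inl 0, Sum.inl 1 => mc σ
  | Sum.inl 1, Sum.inl 0 => mb σ
  | Sum.inl 1, Sum.inl 1 => md σ
  | Sum.inr 0, Sum.inr 1 => mb σ
  | Sum.inr 0, Sum.inr 0 => md σ
  | Sum.inr 1, Sum.inr 1 => ma σ
  | Sum.inr 1, Sum.inr 0 => mc σ
  | _, _ => 0

def Rm (σ : Perm (Fin 3)) : Matrix I4 I4 (ZMod 2) := Rm0 σ⁻¹

/-- the transpose map -/
def Tm : Matrix I4 I4 (ZMod 2) := fun i j =>
  match i, j with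
  | Sum.inl 0, Sum.inl 0 => 1
  | Sum.inl 1, Sum.inr 1 => 1
  | Sum.inr 0, Sum.inr 0 => 1
  | Sum.inr 1, Sum.inl 1 => 1
  | _, _ => 0

set_option maxRecDepth 100000 in
theorem Lm_mul : ∀ σ τ : Perm (Fin 3), Lm (σ * τ) = Lm σ * Lm τ := by decide

set_option maxRecDepth 100000 in
theorem Rm_mul : ∀ σ τ : Perm (Fin 3), Rm (σ * τ) = Rm σ * Rm τ := by decide

set_option maxRecDepth 100000 in
theorem Lm_one : Lm 1 = 1 := by decide

set_option maxRecDepth 100000 in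
theorem Rm_one : Rm 1 = 1 := by decide

set_option maxRecDepth 100000 in
theorem Tm_mul : Tm * Tm = 1 := by decide

set_option maxRecDepth 100000 in
theorem Lm_Rm_comm : ∀ σ τ : Perm (Fin 3), Lm σ * Rm τ = Rm τ * Lm σ := by decide

set_option maxRecDepth 100000 in
theorem Lm_injective : ∀ σ τ : Perm (Fin 3), Lm σ = Lm τ → σ = τ := by decide

set_option maxRecDepth 100000 in
theorem Rm_injective : ∀ σ τ : Perm (Fin 3), Rm σ = Rm τ → σ = τ := by decide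

set_option maxRecDepth 100000 in
theorem Lm_eq_Rm : ∀ σ τ : Perm (Fin 3), Lm σ = Rm τ → σ = 1 := by decide

set_option maxRecDepth 100000 in
theorem conj_L : ∀ σ : Perm (Fin 3), ∃ τ : Perm (Fin 3), Tm * Lm σ * Tm = Rm τ := by decide

set_option maxRecDepth 100000 in
theorem conj_R : ∀ τ : Perm (Fin 3), ∃ σ : Perm (Fin 3), Tm * Lm σ * Tm = Rm τ := by decide

set_option maxRecDepth 100000 in
theorem Lm_pres : ∀ σ : Perm (Fin 3), ∀ u : I4 → ZMod 2,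
    Cfsg.quadFormPlus 2 (ZMod 2) (Matrix.mulVec (Lm σ) u) = Cfsg.quadFormPlus 2 (ZMod 2) u := by
  unfold Cfsg.quadFormPlus
  decide

set_option maxRecDepth 100000 in
theorem Rm_pres : ∀ σ : Perm (Fin 3), ∀ u : I4 → ZMod 2,
    Cfsg.quadFormPlus 2 (ZMod 2) (Matrix.mulVec (Rm σ) u) = Cfsg.quadFormPlus 2 (ZMod 2) u := by
  unfold Cfsg.quadFormPlus
  decide

set_option maxRecDepth 100000 in
theorem Tm_pres : ∀ u : I4 → ZMod 2,
    Cfsg.quadFormPlus 2 (ZMod 2) (Matrix.mulVec Tm u) = Cfsg.quadFormPlus 2 (ZMod 2) u := by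
  unfold Cfsg.quadFormPlus
  decide

end Cfsg.Agent.Lib.Helper4.OPlusFour
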