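import Mathlib
import Cfsg.Agent.Lib.Helper4.OPlusFour1

namespace Cfsg.Agent.Lib.Helper4.OPlusFour

open Equiv

abbrev G4 := ↥(Cfsg.isometryGroup (ZMod 2) (Cfsg.quadFormPlus 2 (ZMod 2)))

def LmHom : Perm (Fin 3) →* Matrix I4 I4 (ZMod 2) where
  toFun := Lm
  map_one' := Lm_one
  map_mul' := Lm_mul

def RmHom : Perm (Fin 3) →* Matrix I4 I4 (ZMod 2) where
  toFun := Rm
  map_one' := Rm_one
  map_mul' := Rm_mul

def Lg : Perm (Fin 3) →* GL I4 (ZMod 2) := (Units.map LmHom).comp toUnits.toMonoidHom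
def Rg : Perm (Fin 3) →* GL I4 (ZMod 2) := (Units.map RmHom).comp toUnits.toMonoidHom

theorem Lg_val (σ : Perm (Fin 3)) : ((Lg σ : GL I4 (ZMod 2)) : Matrix I4 I4 (ZMod 2)) = Lm σ := rfl
theorem Rg_val (σ : Perm (Fin 3)) : ((Rg σ : GL I4 (ZMod 2)) : Matrix I4 I4 (ZMod 2)) = Rm σ := rfl

theorem mem_G4_iff (g : GL I4 (ZMod 2)) :
    g ∈ Cfsg.isometryGroup (ZMod 2) (Cfsg.quadFormPlus 2 (ZMod 2)) ↔
      ∀ u : I4 → ZMod 2, Cfsg.quadFormPlus 2 (ZMod 2) (Matrix.mulVec (g : Matrix I4 I4 (ZMod 2)) u)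
        = Cfsg.quadFormPlus 2 (ZMod 2) u := by
  constructor
  · intro h u
    exact h u u
  · intro h u v
    exact h u

def L' : Perm (Fin 3) →* G4 :=
  Lg.codRestrict _ (fun σ => (mem_G4_iff _).2 (by rw [Lg_val]; exact Lm_pres σ))

def R' : Perm (Fin 3) →* G4 :=
  Rg.codRestrict _ (fun σ => (mem_G4_iff _).2 (by rw [Rg_val]; exact Rm_pres σ))

theorem L'_val (σ : Perm (Fin 3)) :
    (((L' σ : G4) : GL I4 (ZMod 2)) : Matrix I4 I4 (ZMod 2)) = Lm σ := rfl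

theorem R'_val (σ : Perm (Fin 3)) :
    (((R' σ : G4) : GL I4 (ZMod 2)) : Matrix I4 I4 (ZMod 2)) = Rm σ := rfl

theorem G4_ext {x y : G4} (h : ((x : GL I4 (ZMod 2)) : Matrix I4 I4 (ZMod 2))
    = ((y : GL I4 (ZMod 2)) : Matrix I4 I4 (ZMod 2))) : x = y :=
  Subtype.ext (Units.ext h)

theorem L'_injective : Function.Injective L' := by
  intro σ τ h
  apply Lm_injective
  rw [← L'_val, ← L'_val, h]

theorem R'_injective : Function.Injective R' := by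
  intro σ τ h
  apply Rm_injective
  rw [← R'_val, ← R'_val, h]

theorem L'_R'_comm (σ τ : Perm (Fin 3)) : Commute (L' σ) (R' τ) := by
  apply G4_ext
  change Lm σ * Rm τ = Rm τ * Lm σ
  exact Lm_Rm_comm σ τ

/-- the transpose element -/
def Tg : G4 :=
  ⟨⟨Tm, Tm, Tm_mul, Tm_mul⟩, (mem_G4_iff _).2 Tm_pres⟩

theorem Tg_val : (((Tg : G4) : GL I4 (ZMod 2)) : Matrix I4 I4 (ZMod 2)) = Tm := rfl
theorem Tg_inv_val : (((Tg⁻¹ : G4) : GL I4 (ZMod 2)) : Matrix I4 I4 (ZMod 2)) = Tm := rfl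

theorem disjoint_ranges : L'.range ⊓ R'.range = ⊥ := by
  rw [eq_bot_iff]
  rintro x ⟨⟨σ, rfl⟩, ⟨τ, hτ⟩⟩
  have h1 : Lm σ = Rm τ := by
    rw [← L'_val, ← R'_val, hτ]
  have := Lm_eq_Rm σ τ h1
  rw [this, map_one]
  exact Subgroup.mem_bot.2 rfl

theorem card_G4 : Nat.card G4 = 72 := by
  have := Cfsg.Agent.S0287.result (F := ZMod 2) (q := 2) (ZMod.card 2) 2 (by norm_num)
  rw [this]
  norm_num [Finset.prod_range_succ]

theorem index_sup : (L'.range ⊔ R'.range).index = 2 := by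
  have hinj : Function.Injective (MonoidHom.noncommCoprod L' R' L'_R'_comm) := by
    rw [MonoidHom.noncommCoprod_injective]
    exact ⟨L'_injective, R'_injective, disjoint_iff.2 disjoint_ranges⟩
  have hcard : Nat.card ↥(L'.range ⊔ R'.range) = 36 := by
    rw [← MonoidHom.noncommCoprod_range L' R' L'_R'_comm,
      ← Nat.card_congr (MonoidHom.ofInjective hinj).toEquiv, Nat.card_prod,
      Nat.card_eq_fintype_card, Fintype.card_perm, Fintype.card_fin]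
    rfl
  have h := Subgroup.card_mul_index (L'.range ⊔ R'.range)
  rw [hcard, card_G4] at h
  omega

theorem map_conj : L'.range.map (MulAut.conj Tg).toMonoidHom = R'.range := by
  ext x
  rw [Subgroup.mem_map]
  constructor
  · rintro ⟨a, ⟨σ, rfl⟩, rfl⟩
    obtain ⟨τ, hτ⟩ := conj_L σ
    refine ⟨τ, ?_⟩
    apply G4_ext
    rw [R'_val, ← hτ]
    rfl
  · rintro ⟨τ, rfl⟩
    obtain ⟨σ, hσ⟩ := conj_R τ
    refine ⟨L' σ, ⟨σ, rfl⟩, ?_⟩
    apply G4_ext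
    rw [R'_val, ← hσ]
    rfl

theorem main :
    Nat.card G4 = 72 ∧
    ∃ (A B : Subgroup G4),
      Nonempty (↥A ≃* Equiv.Perm (Fin 3)) ∧ Nonempty (↥B ≃* Equiv.Perm (Fin 3)) ∧ A ⊓ B = ⊥ ∧
      (∀ a ∈ A, ∀ b ∈ B, a * b = b * a) ∧
      (A ⊔ B).index = 2 ∧ ∃ g : G4, A.map (MulAut.conj g).toMonoidHom = B := by
  refine ⟨card_G4, L'.range, R'.range, ⟨(MonoidHom.ofInjective L'_injective).symm⟩,
    ⟨(MonoidHom.ofInjective R'_injective).symm⟩, disjoint_ranges, ?_, index_sup, Tg, map_conj⟩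
  rintro a ⟨σ, rfl⟩ b ⟨τ, rfl⟩
  exact (L'_R'_comm σ τ).eq

end Cfsg.Agent.Lib.Helper4.OPlusFour
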