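import Mathlib
import Cfsg.Agent.Lib.Helper5.OS.Basic

set_option autoImplicit false
set_option linter.unusedSectionVars false
set_option linter.unusedVariables false
set_option linter.unusedSimpArgs false
set_option linter.style.haveILetI false
set_option maxHeartbeats 1000000

/-! # S3421 piece P7a: `N_G(C(t)) = C(t)` -/

open Cfsg.Agent.Lib.Helper5.OS

namespace Cfsg.Agent.Lib.Helper4.OS

variable {G : Type*} [Group G] [Finite G] {p q n m : ℕ}

/-- a cyclic group has at most one involution -/
theorem involution_unique_zpowers {a x y : G} (hx : x ∈ Subgroup.zpowers a)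
    (hy : y ∈ Subgroup.zpowers a) (hxo : orderOf x = 2) (hyo : orderOf y = 2) : x = y := by
  classical
  letI : Fintype ↥(Subgroup.zpowers a) := Fintype.ofFinite _
  have hd : 2 ∣ Fintype.card ↥(Subgroup.zpowers a) := by
    rw [← Nat.card_eq_fintype_card]
    have := Subgroup.orderOf_dvd_natCard _ hx
    rwa [hxo] at this
  have hcard := IsCyclic.card_orderOf_eq_totient (α := ↥(Subgroup.zpowers a)) hd
  rw [Nat.totient_two] at hcard
  have hx' : (⟨x, hx⟩ : ↥(Subgroup.zpowers a)) ∈
      Finset.univ.filter (fun b : ↥(Subgroup.zpowers a) => orderOf b = 2) := by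
    rw [Finset.mem_filter]
    exact ⟨Finset.mem_univ _, by rw [Subgroup.orderOf_mk]; exact hxo⟩
  have hy' : (⟨y, hy⟩ : ↥(Subgroup.zpowers a)) ∈
      Finset.univ.filter (fun b : ↥(Subgroup.zpowers a) => orderOf b = 2) := by
    rw [Finset.mem_filter]
    exact ⟨Finset.mem_univ _, by rw [Subgroup.orderOf_mk]; exact hyo⟩
  have := Finset.card_le_one.1 (le_of_eq hcard) _ hx' _ hy'
  exact congrArg Subtype.val this

theorem normalizer_centralizer_eq (h : Hyp G p q n m)
    {t a0 : G} {T : Sylow 2 G} (hC : CData G n t a0 T) {u : G} (huT : u ∈ (T : Subgroup G))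
    (huA : u ∉ Subgroup.zpowers a0) (hu : orderOf u = 2)
    (hinvT : ∀ x ∈ (T : Subgroup G) ⊓ Subgroup.zpowers a0, u * x * u⁻¹ = x⁻¹)
    (hcase : 4 ≤ Nat.card ↥((T : Subgroup G) ⊓ Subgroup.zpowers a0) ∨
      ∃ y ∈ Subgroup.zpowers a0, Odd (orderOf y) ∧ u * y * u⁻¹ ≠ y) :
    Subgroup.normalizer ((Subgroup.centralizer ({t} : Set G) : Subgroup G) : Set G) =
      Subgroup.centralizer ({t} : Set G) := by
  haveI : Fact (Nat.Prime 2) := ⟨Nat.prime_two⟩
  have huC : u ∈ Subgroup.centralizer ({t} : Set G) := hC.TC huT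
  have hidx : ((Subgroup.zpowers a0).subgroupOf (Subgroup.centralizer ({t} : Set G))).index = 2 :=
    hC.relIndex_zpowers h
  -- L1
  have L1 : ∀ c ∈ Subgroup.centralizer ({t} : Set G),
      c ∈ Subgroup.zpowers a0 ∨ c * u⁻¹ ∈ Subgroup.zpowers a0 := by
    intro c hc
    by_cases hcA : c ∈ Subgroup.zpowers a0
    · exact Or.inl hcA
    · right
      have key := Subgroup.mul_mem_iff_of_index_two hidx
        (a := (⟨c, hc⟩ : ↥(Subgroup.centralizer ({t} : Set G))))
        (b := ⟨u⁻¹, (Subgroup.centralizer ({t} : Set G)).inv_mem huC⟩)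
      simp only [Subgroup.mem_subgroupOf, Subgroup.coe_mul] at key
      exact key.2 (iff_of_false hcA (fun h' => huA (by simpa using inv_mem h')))
  have L3 : ∀ v ∈ Subgroup.centralizer ({t} : Set G), orderOf v = 2 →
      (∀ c ∈ Subgroup.centralizer ({t} : Set G), v * c = c * v) → v = t := by
    intro v hv hvo hvc
    rcases L1 v hv with hvA | hvA
    · exact involution_unique_zpowers hvA hC.tA hvo hC.ht
    · exfalso
      have hux : ∀ x ∈ Subgroup.zpowers a0, u * x = x * u := by
        intro x hx
        have h1 := hvc x (hC.zpowers_le hx)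
        have hvy : v = (v * u⁻¹) * u := by group
        have hxy : x * (v * u⁻¹) = (v * u⁻¹) * x := by
          obtain ⟨i, rfl⟩ := Subgroup.mem_zpowers_iff.1 hx
          obtain ⟨j, hj⟩ := Subgroup.mem_zpowers_iff.1 hvA
          rw [← hj, ← zpow_add, ← zpow_add, add_comm]
        have : (v * u⁻¹) * (u * x) = (v * u⁻¹) * (x * u) := by
          calc (v * u⁻¹) * (u * x) = v * x := by group
            _ = x * v := h1
            _ = (x * (v * u⁻¹)) * u := by group
            _ = ((v * u⁻¹) * x) * u := by rw [hxy]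
            _ = (v * u⁻¹) * (x * u) := by group
        exact mul_left_cancel this
      rcases hcase with h4 | ⟨y, hyA, hyo, hyne⟩
      · have hle : (T : Subgroup G) ⊓ Subgroup.zpowers a0 ≤ Subgroup.zpowers t := by
          intro x hx
          have hx1 := hinvT x hx
          have hx2 := hux x hx.2
          have hxx : x = x⁻¹ := by rw [← hx1, hx2, mul_inv_cancel_right]
          have hsq : x ^ 2 = 1 := by
            rw [pow_two]; nth_rewrite 1 [hxx]; exact inv_mul_cancel x
          by_cases hx0 : x = 1
          · rw [hx0]; exact Subgroup.one_mem _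
          · have hxo : orderOf x = 2 := orderOf_eq_prime hsq hx0
            rw [involution_unique_zpowers hx.2 hC.tA hxo hC.ht]
            exact Subgroup.mem_zpowers t
        have := Subgroup.card_le_of_le hle
        rw [Nat.card_zpowers, hC.ht] at this
        omega
      · apply hyne
        rw [hux y hyA, mul_inv_cancel_right]
  apply le_antisymm
  · intro g hg
    rw [Subgroup.mem_normalizer_iff] at hg
    have htC : t ∈ Subgroup.centralizer ({t} : Set G) :=
      Subgroup.mem_centralizer_singleton_iff.2 rfl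
    have h1 : g * t * g⁻¹ ∈ Subgroup.centralizer ({t} : Set G) := (hg t).1 htC
    have h2 : orderOf (g * t * g⁻¹) = 2 := by rw [orderOf_conj_eq, hC.ht]
    have h3 : ∀ c ∈ Subgroup.centralizer ({t} : Set G),
        (g * t * g⁻¹) * c = c * (g * t * g⁻¹) := by
      intro c hc
      have hc' : g⁻¹ * c * g ∈ Subgroup.centralizer ({t} : Set G) := by
        apply (hg (g⁻¹ * c * g)).2
        have : g * (g⁻¹ * c * g) * g⁻¹ = c := by group
        rw [this]; exact hc
      have hct : (g⁻¹ * c * g) * t = t * (g⁻¹ * c * g) :=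
        Subgroup.mem_centralizer_singleton_iff.1 hc'
      calc g * t * g⁻¹ * c = g * (t * (g⁻¹ * c * g)) * g⁻¹ := by group
        _ = g * ((g⁻¹ * c * g) * t) * g⁻¹ := by rw [hct]
        _ = c * (g * t * g⁻¹) := by group
    have h4 := L3 _ h1 h2 h3
    rw [Subgroup.mem_centralizer_singleton_iff]
    calc g * t = (g * t * g⁻¹) * g := by group
      _ = t * g := by rw [h4]
  · exact Subgroup.le_normalizer

end Cfsg.Agent.Lib.Helper4.OS
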