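import Mathlib
import Cfsg.Agent.Lib.Helper5.OS.Basic

set_option autoImplicit false
set_option linter.unusedSectionVars false
set_option linter.unusedVariables false
set_option linter.unusedSimpArgs false
set_option linter.style.haveILetI false
set_option maxHeartbeats 1000000

/-! # S3421 piece P7b: if `N_G(C(t)) = C(t)` then `u` fixes no nontrivial element of odd order
of `⟨a0⟩` (Burnside transfer on a cyclic Sylow subgroup). -/

open Cfsg.Agent.Lib.Helper5.OS

namespace Cfsg.Agent.Lib.Helper4.OS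

variable {G : Type*} [Group G] [Finite G] {p q n m : ℕ}

open scoped IsMulCommutative in
/-- in a cyclic group, an element killed by the prime `s` lies in the group generated by any
element of order `s` -/
theorem mem_zpowers_of_orderOf_prime {a x y : G} {s : ℕ} (hs : s.Prime)
    (hx : x ∈ Subgroup.zpowers a) (hy : y ∈ Subgroup.zpowers a)
    (hxo : orderOf x = s) (hys : y ^ s = 1) : y ∈ Subgroup.zpowers x := by
  have hker := IsCyclic.card_powMonoidHom_ker (G := ↥(Subgroup.zpowers a)) s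
  have hle : Subgroup.zpowers (⟨x, hx⟩ : ↥(Subgroup.zpowers a)) ≤
      (powMonoidHom s : ↥(Subgroup.zpowers a) →* ↥(Subgroup.zpowers a)).ker := by
    rw [Subgroup.zpowers_le, MonoidHom.mem_ker, powMonoidHom_apply]
    apply Subtype.ext
    simp [← hxo, pow_orderOf_eq_one]
  have hcard : Nat.card (powMonoidHom s : ↥(Subgroup.zpowers a) →* ↥(Subgroup.zpowers a)).ker ≤
      Nat.card (Subgroup.zpowers (⟨x, hx⟩ : ↥(Subgroup.zpowers a))) := by
    have hc : Nat.card (Subgroup.zpowers (⟨x, hx⟩ : ↥(Subgroup.zpowers a))) = s := by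
      rw [Nat.card_zpowers, Subgroup.orderOf_mk, hxo]
    rw [hker, hc]
    exact Nat.le_of_dvd hs.pos (Nat.gcd_dvd_right _ _)
  have heq := Subgroup.eq_of_le_of_card_ge hle hcard
  have hyK : (⟨y, hy⟩ : ↥(Subgroup.zpowers a)) ∈
      (powMonoidHom s : ↥(Subgroup.zpowers a) →* ↥(Subgroup.zpowers a)).ker := by
    rw [MonoidHom.mem_ker, powMonoidHom_apply]
    apply Subtype.ext
    simpa using hys
  rw [← heq] at hyK
  obtain ⟨i, hi⟩ := Subgroup.mem_zpowers_iff.1 hyK
  refine Subgroup.mem_zpowers_iff.2 ⟨i, ?_⟩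
  have := congrArg Subtype.val hi
  simpa using this

theorem commute_of_mem_zpowers {a x y : G} (hx : x ∈ Subgroup.zpowers a)
    (hy : y ∈ Subgroup.zpowers a) : Commute x y := by
  obtain ⟨i, rfl⟩ := Subgroup.mem_zpowers_iff.1 hx
  obtain ⟨j, rfl⟩ := Subgroup.mem_zpowers_iff.1 hy
  exact (Commute.refl a).zpow_zpow i j

theorem orderOf_pow_div_prime {x : G} {s : ℕ} (hs : s.Prime) (hsx : s ∣ orderOf x) :
    orderOf (x ^ (orderOf x / s)) = s := by
  have hpos : 0 < orderOf x := orderOf_pos x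
  have hd : orderOf x / s ∣ orderOf x := Nat.div_dvd_of_dvd hsx
  have hne : orderOf x / s ≠ 0 := by
    have := Nat.div_pos (Nat.le_of_dvd hpos hsx) hs.pos
    omega
  rw [orderOf_pow_of_dvd hne hd, Nat.div_div_self hsx hpos.ne']

theorem no_fixed_of_normalizer_eq (h : Hyp G p q n m) [IsSimpleGroup G]
    {t a0 : G} {T : Sylow 2 G} (hC : CData G n t a0 T) {u : G} (huT : u ∈ (T : Subgroup G))
    (huA : u ∉ Subgroup.zpowers a0) (hu : orderOf u = 2)
    (hNC : Subgroup.normalizer ((Subgroup.centralizer ({t} : Set G) : Subgroup G) : Set G) =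
      Subgroup.centralizer ({t} : Set G)) :
    ∀ y ∈ Subgroup.zpowers a0, Odd (orderOf y) → u * y * u⁻¹ = y → y = 1 := by
  intro y hyA hyodd hyu
  by_contra hy1
  have huC : u ∈ Subgroup.centralizer ({t} : Set G) := hC.TC huT
  have huu : u * u = 1 := by rw [← pow_two, ← hu, pow_orderOf_eq_one]
  have huinv : u⁻¹ = u := inv_eq_of_mul_eq_one_right huu
  have hn0 : n ≠ 0 := by have := h.n_ge; omega
  have hoy1 : orderOf y ≠ 1 := by rwa [Ne, orderOf_eq_one_iff]
  obtain ⟨s, hsp, hsy⟩ : ∃ s : ℕ, s.Prime ∧ s ∣ orderOf y :=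
    ⟨(orderOf y).minFac, Nat.minFac_prime hoy1, Nat.minFac_dvd _⟩
  haveI : Fact s.Prime := ⟨hsp⟩
  have hyn : orderOf y ∣ n := by
    have := orderOf_dvd_of_mem_zpowers hyA
    rwa [hC.ha0] at this
  have hsn : s ∣ n := hsy.trans hyn
  have hsodd : s ≠ 2 := by
    intro h2
    rw [h2] at hsy
    exact (Nat.not_even_iff_odd.2 hyodd) (even_iff_two_dvd.2 hsy)
  have hs2 : ¬ s ∣ 2 := fun hd => hsodd ((Nat.prime_dvd_prime_iff_eq hsp Nat.prime_two).1 hd)
  -- the element `y0` of order `s` fixed by `u`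
  have hy0o : orderOf (y ^ (orderOf y / s)) = s := orderOf_pow_div_prime hsp hsy
  have hy0A : y ^ (orderOf y / s) ∈ Subgroup.zpowers a0 := Subgroup.pow_mem _ hyA _
  have hy0u : u * y ^ (orderOf y / s) * u⁻¹ = y ^ (orderOf y / s) := by rw [← conj_pow, hyu]
  generalize y ^ (orderOf y / s) = y0 at hy0o hy0A hy0u
  -- key lemma: `u` inverts no element of `⟨a0⟩` of order divisible by `s`
  have K : ∀ w ∈ Subgroup.zpowers a0, u * w * u⁻¹ = w⁻¹ → ¬ s ∣ orderOf w := by
    intro w hwA hwu hsw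
    have hw'o : orderOf (w ^ (orderOf w / s)) = s := orderOf_pow_div_prime hsp hsw
    have hw'A : w ^ (orderOf w / s) ∈ Subgroup.zpowers a0 := Subgroup.pow_mem _ hwA _
    have hw'u : u * w ^ (orderOf w / s) * u⁻¹ = (w ^ (orderOf w / s))⁻¹ := by
      rw [← conj_pow, hwu, inv_pow]
    generalize w ^ (orderOf w / s) = w' at hw'o hw'A hw'u
    have hmem : y0 ∈ Subgroup.zpowers w' :=
      mem_zpowers_of_orderOf_prime hsp hw'A hy0A hw'o (by rw [← hy0o]; exact pow_orderOf_eq_one y0)
    obtain ⟨i, hi⟩ := Subgroup.mem_zpowers_iff.1 hmem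
    have h1 : u * y0 * u⁻¹ = y0⁻¹ := by
      rw [← hi, ← conj_zpow, hw'u, inv_zpow]
    rw [hy0u] at h1
    have h2 : y0 ^ 2 = 1 := by
      rw [pow_two]; nth_rewrite 1 [h1]; exact inv_mul_cancel y0
    have h3 : s ∣ 2 := by rw [← hy0o]; exact orderOf_dvd_of_pow_eq_one h2
    exact hs2 h3
  -- generator `r` of the Sylow `s`-subgroup of `⟨a0⟩`
  have hkpos : 0 < n.factorization s := hsp.factorization_pos_of_dvd hn0 hsn
  have hskn : s ^ n.factorization s ∣ n := Nat.ordProj_dvd n s
  have hro : orderOf (a0 ^ (n / s ^ n.factorization s)) = s ^ n.factorization s := by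
    have hd : n / s ^ n.factorization s ∣ orderOf a0 := by
      rw [hC.ha0]; exact Nat.div_dvd_of_dvd hskn
    have hne : n / s ^ n.factorization s ≠ 0 := by
      have := Nat.div_pos (Nat.le_of_dvd (Nat.pos_of_ne_zero hn0) hskn)
        (pow_pos hsp.pos (n.factorization s))
      omega
    rw [orderOf_pow_of_dvd hne hd, hC.ha0, Nat.div_div_self hskn hn0]
  have hrA : a0 ^ (n / s ^ n.factorization s) ∈ Subgroup.zpowers a0 :=
    Subgroup.pow_mem _ (Subgroup.mem_zpowers a0) _
  generalize a0 ^ (n / s ^ n.factorization s) = r at hro hrA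
  generalize hk : n.factorization s = k at hro hkpos hskn
  have hsk1 : 1 < s ^ k := Nat.one_lt_pow hkpos.ne' hsp.one_lt
  have hr1 : r ≠ 1 := by
    intro h1
    rw [h1, orderOf_one] at hro
    omega
  -- `u` centralizes `r`
  have hur : u * r * u⁻¹ = r := by
    have hcA : u * r * u⁻¹ ∈ Subgroup.zpowers a0 := hC.conj_mem h huC hrA
    have hwA : r * (u * r * u⁻¹)⁻¹ ∈ Subgroup.zpowers a0 :=
      Subgroup.mul_mem _ hrA (Subgroup.inv_mem _ hcA)
    have hwu : u * (r * (u * r * u⁻¹)⁻¹) * u⁻¹ = (r * (u * r * u⁻¹)⁻¹)⁻¹ := by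
      calc u * (r * (u * r * u⁻¹)⁻¹) * u⁻¹ = u * r * u * r⁻¹ * (u⁻¹ * u⁻¹) := by group
        _ = u * r * u⁻¹ * r⁻¹ := by rw [huinv, huu, mul_one]
        _ = (r * (u * r * u⁻¹)⁻¹)⁻¹ := by group
    have hcomm : Commute r (u * r * u⁻¹)⁻¹ :=
      commute_of_mem_zpowers hrA (Subgroup.inv_mem _ hcA)
    have hwpow : (r * (u * r * u⁻¹)⁻¹) ^ (s ^ k) = 1 := by
      rw [hcomm.mul_pow, inv_pow, conj_pow, ← hro, pow_orderOf_eq_one]
      simp
    have hwo : orderOf (r * (u * r * u⁻¹)⁻¹) ∣ s ^ k := orderOf_dvd_of_pow_eq_one hwpow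
    have hns := K _ hwA hwu
    obtain ⟨j, hj, hjo⟩ := (Nat.dvd_prime_pow hsp).1 hwo
    have hj0 : j = 0 := by
      by_contra hj0
      apply hns
      rw [hjo]
      exact dvd_pow_self s hj0
    rw [hj0, pow_zero, orderOf_eq_one_iff] at hjo
    exact (mul_inv_eq_one.1 hjo).symm
  have hCr : Subgroup.centralizer ({r} : Set G) = Subgroup.centralizer ({t} : Set G) := by
    rcases hC.cent r hrA hr1 with h1 | h1
    · exfalso
      apply huA
      rw [← h1, Subgroup.mem_centralizer_singleton_iff]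
      calc u * r = (u * r * u⁻¹) * u := by group
        _ = r * u := by rw [hur]
    · exact h1
  -- `⟨r⟩` is a Sylow subgroup of `G`
  have hq0 : q ≠ 0 := by have := h.q5; omega
  have hm0 : m ≠ 0 := by have := h.m_ge; omega
  have hcardG : (Nat.card G).factorization s = k := by
    rw [h.card]
    have hsq : ¬ s ∣ q := fun hd =>
      hsp.one_lt.ne' (Nat.eq_one_of_dvd_coprimes h.cop_qn hd hsn)
    have hsm : ¬ s ∣ m := fun hd =>
      hsp.one_lt.ne' (Nat.eq_one_of_dvd_coprimes h.cop_nm hsn hd)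
    rw [Nat.factorization_mul (Nat.mul_ne_zero hq0 (Nat.mul_ne_zero two_ne_zero hn0)) hm0,
      Nat.factorization_mul hq0 (Nat.mul_ne_zero two_ne_zero hn0),
      Nat.factorization_mul two_ne_zero hn0]
    simp only [Finsupp.coe_add, Pi.add_apply]
    rw [Nat.factorization_eq_zero_of_not_dvd hsq, Nat.factorization_eq_zero_of_not_dvd hsm,
      Nat.factorization_eq_zero_of_not_dvd hs2, hk]
    omega
  have hPc : Nat.card (Subgroup.zpowers r) = s ^ (Nat.card G).factorization s := by
    rw [Nat.card_zpowers, hro, hcardG]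
  have hPcoe : ((Sylow.ofCard (Subgroup.zpowers r) hPc : Sylow s G) : Subgroup G) =
      Subgroup.zpowers r := Sylow.coe_ofCard _ _
  generalize (Sylow.ofCard (Subgroup.zpowers r) hPc : Sylow s G) = P at hPcoe
  have hconjC : ∀ g ∈ Subgroup.normalizer ((Subgroup.zpowers r : Subgroup G) : Set G),
      ∀ c ∈ Subgroup.centralizer ({r} : Set G),
      g * c * g⁻¹ ∈ Subgroup.centralizer ({r} : Set G) := by
    intro g hg c hc
    rw [Subgroup.mem_centralizer_singleton_iff] at hc ⊢
    have hg' : g⁻¹ * r * g ∈ Subgroup.zpowers r := by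
      apply (Subgroup.mem_normalizer_iff.1 hg (g⁻¹ * r * g)).2
      have e : g * (g⁻¹ * r * g) * g⁻¹ = r := by group
      rw [e]; exact Subgroup.mem_zpowers r
    obtain ⟨i, hi⟩ := Subgroup.mem_zpowers_iff.1 hg'
    have hci : c * (g⁻¹ * r * g) = (g⁻¹ * r * g) * c := by
      rw [← hi]
      exact ((show Commute c r from hc).zpow_right i).eq
    calc g * c * g⁻¹ * r = g * (c * (g⁻¹ * r * g)) * g⁻¹ := by group
      _ = g * ((g⁻¹ * r * g) * c) * g⁻¹ := by rw [hci]
      _ = r * (g * c * g⁻¹) := by group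
  have hNle : Subgroup.normalizer ((Subgroup.zpowers r : Subgroup G) : Set G) ≤
      Subgroup.centralizer ({r} : Set G) := by
    intro g hg
    have hgN : g ∈ Subgroup.normalizer
        ((Subgroup.centralizer ({t} : Set G) : Subgroup G) : Set G) := by
      rw [Subgroup.mem_normalizer_iff]
      intro c
      rw [← hCr]
      constructor
      · exact hconjC g hg c
      · intro hc
        have := hconjC g⁻¹ (Subgroup.inv_mem _ hg) _ hc
        have e : g⁻¹ * (g * c * g⁻¹) * g⁻¹⁻¹ = c := by group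
        rwa [e] at this
    rw [hNC, ← hCr] at hgN
    exact hgN
  have hP : Subgroup.normalizer ((P : Subgroup G) : Set G) ≤
      Subgroup.centralizer ((P : Subgroup G) : Set G) := by
    rw [hPcoe]
    intro g hg
    have hgr := hNle hg
    rw [Subgroup.mem_centralizer_singleton_iff] at hgr
    rw [Subgroup.mem_centralizer_iff]
    intro x hx
    obtain ⟨i, rfl⟩ := Subgroup.mem_zpowers_iff.1 hx
    exact ((show Commute g r from hgr).zpow_right i).eq.symm
  have hcompl := MonoidHom.ker_transferSylow_isComplement' P hP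
  have hcm := hcompl.card_mul_card
  have hPcard : Nat.card (P : Subgroup G) = s ^ k := by rw [hPcoe, Nat.card_zpowers, hro]
  rcases (MonoidHom.normal_ker (MonoidHom.transferSylow P hP)).eq_bot_or_eq_top with hb | ht
  · rw [hb, Subgroup.card_bot, one_mul, hPcard, h.card] at hcm
    have h1 : s ^ k ≤ n := Nat.le_of_dvd (Nat.pos_of_ne_zero hn0) hskn
    have hq := h.q5
    have hm := h.m_ge
    have hn := h.n_ge
    have h2 : 2 * n ≤ q * (2 * n) := Nat.le_mul_of_pos_left _ (by omega)
    have h3 : q * (2 * n) ≤ q * (2 * n) * m := Nat.le_mul_of_pos_right _ (by omega)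
    omega
  · rw [ht, Subgroup.card_top, hPcard] at hcm
    have hG : 0 < Nat.card G := Nat.card_pos
    nlinarith
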