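import Mathlib
import Cfsg.Prelude.Def_Solvable

set_option autoImplicit false

/-! S5006 helper lemma: in a group of order `192 = 2^6 · 3` the largest normal `2`-subgroup has
order at least `32`. -/

namespace Cfsg.Agent.Lib.Helper4.Ord192

theorem h4_card_sylow2_of_192 {K : Type*} [Group K] [Finite K] (hK : Nat.card K = 192)
    (P : Sylow 2 K) : Nat.card P = 64 := by
  have hp : Fact (Nat.Prime 2) := ⟨Nat.prime_two⟩
  obtain ⟨k, hk⟩ := P.isPGroup'.exists_card_eq
  have hidx := (P : Subgroup K).card_mul_index
  have hnd : ¬ 2 ∣ (P : Subgroup K).index := P.not_dvd_index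
  rw [hK] at hidx
  have hk' : Nat.card (P : Subgroup K) = 2 ^ k := hk
  rw [hk'] at hidx
  have hk7 : k ≤ 7 := by
    by_contra h
    push Not at h
    have h8 : 2 ^ 8 ≤ 2 ^ k := Nat.pow_le_pow_right (by norm_num) h
    have hpos : 0 < (P : Subgroup K).index := by
      rcases Nat.eq_zero_or_pos (P : Subgroup K).index with h0 | h0
      · rw [h0] at hidx
        omega
      · exact h0
    nlinarith
  rw [hk']
  interval_cases k <;> omega

theorem h4_card_pCore_ge_of_192 {K : Type*} [Group K] [Finite K] (hK : Nat.card K = 192) :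
    32 ≤ Nat.card (Cfsg.pCore 2 K) := by
  classical
  have hp : Fact (Nat.Prime 2) := ⟨Nat.prime_two⟩
  obtain ⟨P⟩ : Nonempty (Sylow 2 K) := inferInstance
  have hP := h4_card_sylow2_of_192 hK P
  have hidx : (P : Subgroup K).index = 3 := by
    have := (P : Subgroup K).card_mul_index
    rw [hP, hK] at this
    omega
  have hn : Nat.card (Sylow 2 K) =
      (Subgroup.normalizer ((P : Subgroup K) : Set K)).index := Sylow.card_eq_index_normalizer P
  have hdvd : Nat.card (Sylow 2 K) ∣ 3 := by
    rw [← hidx]
    exact Sylow.card_dvd_index P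
  have hmod := card_sylow_modEq_one 2 K
  have hcases : Nat.card (Sylow 2 K) = 1 ∨ Nat.card (Sylow 2 K) = 3 := by
    have hle := Nat.le_of_dvd (by norm_num) hdvd
    unfold Nat.ModEq at hmod
    have h0 : Nat.card (Sylow 2 K) ≠ 0 := by
      intro h
      rw [h] at hdvd
      omega
    omega
  rcases hcases with h1 | h3
  · have hsub : Subsingleton (Sylow 2 K) := (Nat.card_eq_one_iff_unique.mp h1).1
    have hnorm : (P : Subgroup K).Normal := Sylow.normal_of_subsingleton P
    have hle : (P : Subgroup K) ≤ Cfsg.pCore 2 K := le_sSup ⟨hnorm, P.isPGroup'⟩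
    have := Subgroup.card_le_of_le hle
    omega
  · let φ : K →* Equiv.Perm (Sylow 2 K) := MulAction.toPermHom K (Sylow 2 K)
    have hker_le : φ.ker ≤ Subgroup.normalizer ((P : Subgroup K) : Set K) := by
      intro g hg
      have h2 : g • P = P := by
        have h3 := congrArg (fun σ => σ P) (MonoidHom.mem_ker.mp hg)
        exact h3
      exact Sylow.smul_eq_iff_mem_normalizer.mp h2
    have hN0card : Nat.card (Subgroup.normalizer ((P : Subgroup K) : Set K)) = 64 := by
      have := (Subgroup.normalizer ((P : Subgroup K) : Set K)).card_mul_index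
      rw [← hn, h3, hK] at this
      omega
    have hN02 : IsPGroup 2 (Subgroup.normalizer ((P : Subgroup K) : Set K)) :=
      IsPGroup.of_card (n := 6) (by rw [hN0card]; norm_num)
    have hker2 : IsPGroup 2 φ.ker := hN02.to_le hker_le
    have hle : φ.ker ≤ Cfsg.pCore 2 K := le_sSup ⟨MonoidHom.normal_ker φ, hker2⟩
    have hcard : Nat.card φ.ker * Nat.card φ.range = 192 := by
      rw [← hK, ← Subgroup.index_ker]
      exact Subgroup.card_mul_index φ.ker
    have hr6 : Nat.card φ.range ≤ 6 := by
      have h1 := Subgroup.card_le_card_group φ.range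
      rw [Nat.card_perm, h3] at h1
      exact h1
    have h32 : 32 ≤ Nat.card φ.ker := by
      by_contra h
      push Not at h
      nlinarith
    exact h32.trans (Subgroup.card_le_of_le hle)

end Cfsg.Agent.Lib.Helper4.Ord192
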