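import Mathlib
import Cfsg.Agent.Lib.Helper4.Ord5040b

/-! Order `2520`: the Sylow `7`-subgroups are self-centralizing with normalizer of order `21`. -/

set_option autoImplicit false
set_option linter.unusedSectionVars false
set_option linter.unusedVariables false
set_option linter.style.longLine false
set_option linter.unusedSimpArgs false

namespace Cfsg.Agent.Lib.Helper4.Ord2520

open Cfsg.Agent.Lib.Lead Cfsg.Agent.Lib.Lead.SylowCount Cfsg.Agent.Lib.Lead.SmallSimple2
  Cfsg.Agent.Lib.Helper7.CountTools Cfsg.Agent.Lib.Helper7.SylPar Cfsg.Agent.Lib.Helper4.Ord5040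

local instance fact7 : Fact (Nat.Prime 7) := ⟨by norm_num⟩
local instance fact5 : Fact (Nat.Prime 5) := ⟨by norm_num⟩
local instance fact3 : Fact (Nat.Prime 3) := ⟨by norm_num⟩
local instance fact2 : Fact (Nat.Prime 2) := ⟨by norm_num⟩

variable {G : Type*} [Group G] [Finite G] [IsSimpleGroup G]

lemma not_comm (h : Nat.card G = 2520) : ¬ IsMulCommutative G :=
  not_comm_of_not_prime (by rw [h]; norm_num)

lemma card7 (h : Nat.card G = 2520) (P : Sylow 7 G) : Nat.card P = 7 :=
  card_sylow_of_card_eq 7 360 (by omega) (by norm_num) P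

lemma card5 (h : Nat.card G = 2520) (P : Sylow 5 G) : Nat.card P = 5 :=
  card_sylow_of_card_eq 5 504 (by omega) (by norm_num) P

/-- the centre of a simple group of order `2520` is trivial -/
lemma eq_one_of_central (h : Nat.card G = 2520) {z : G} (hz : ∀ g : G, g * z = z * g) : z = 1 := by
  have hcen : z ∈ Subgroup.center G := Subgroup.mem_center_iff.mpr hz
  rcases (inferInstance : (Subgroup.center G).Normal).eq_bot_or_eq_top with h1 | h1
  · rw [h1, Subgroup.mem_bot] at hcen
    exact hcen
  · exfalso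
    apply not_comm h
    refine ⟨⟨fun a b => ?_⟩⟩
    have : b ∈ Subgroup.center G := by rw [h1]; exact Subgroup.mem_top b
    exact (Subgroup.mem_center_iff.mp this a)

/-- eight Sylow `7`-subgroups -/
lemma case8 (hn : Nat.card (Sylow 7 G) = 8) {m : ℕ} (hm5 : 5 ∣ m)
    (hC : ∀ P : Sylow 7 G, Nat.card (Subgroup.centralizer ((P : Subgroup G) : Set G)) = 7 * m) :
    False :=
  Cfsg.Agent.Lib.Helper4.Ord5040.case8 hn hm5 hC

/-- fifteen Sylow `7`-subgroups -/
lemma case15 (h : Nat.card G = 2520) (hn : Nat.card (Sylow 7 G) = 15) {m : ℕ} (hm2 : 2 ∣ m)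
    (hC : ∀ P : Sylow 7 G, Nat.card (Subgroup.centralizer ((P : Subgroup G) : Set G)) = 7 * m) :
    False := by
  obtain P : Sylow 7 G := default
  have hn1 : Nat.card (Sylow 7 G) ≠ 1 := by rw [hn]; norm_num
  obtain ⟨v, hvC, hv2, hv1⟩ := exists_involution (Subgroup.centralizer ((P : Subgroup G) : Set G))
    (by rw [hC P]; exact Dvd.dvd.mul_left hm2 7)
  have hf1 := fix_modEq_one P (v := v) (Subgroup.mem_centralizer_iff.mp hvC)
  have hf2 := fix_modEq_four (not_comm h) (α := Sylow 7 G) v hv2
  have hf3 := fix_lt 7 hn1 hv1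
  rw [hn] at hf2 hf3
  unfold Nat.ModEq at hf1 hf2
  omega

section case36

variable (h : Nat.card G = 2520)
  (hC : ∀ P : Sylow 7 G, Nat.card (Subgroup.centralizer ((P : Subgroup G) : Set G)) = 7 * 5)
  (hN : ∀ P : Sylow 7 G, Nat.card (Subgroup.normalizer ((P : Subgroup G) : Set G)) = 70)

include h hC in
/-- the Sylow `5`-subgroups in the case of `36` Sylow `7`-subgroups -/
lemma data5_of_case36 :
    ∀ Q : Sylow 5 G, Nat.card (Subgroup.centralizer ((Q : Subgroup G) : Set G)) = 5 * 7 := by
  obtain ⟨m, k, hC5, hN5, hk, hk1, hprod, hmod, hn1⟩ := exists_data (G := G) 5 (card5 h) (by omega)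
  obtain P : Sylow 7 G := default
  obtain ⟨Q0, hQ0⟩ := dvd_card_centralizer_swap (card5 h) (card7 h) P
    (by rw [hC P]; norm_num)
  rw [hC5 Q0] at hQ0
  have h7m : 7 ∣ m := by
    rcases (Nat.Prime.dvd_mul (by norm_num : Nat.Prime 7)).mp hQ0 with h1 | h1
    · norm_num at h1
    · exact h1
  obtain ⟨m', rfl⟩ := h7m
  rw [h] at hprod
  have hk' : k = 2 ∨ k = 4 := by
    have h1 : k ≤ 4 := Nat.le_of_dvd (by norm_num) hk
    interval_cases k
    · simp at hk
    · exact absurd rfl hk1
    · left; rfl
    · norm_num at hk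
    · right; rfl
  have h72 : Nat.card (Sylow 5 G) * (m' * k) = 72 := by
    have : Nat.card (Sylow 5 G) * (5 * (7 * m') * k) = 35 * (Nat.card (Sylow 5 G) * (m' * k)) := by
      ring
    omega
  have hdvd : Nat.card (Sylow 5 G) ∣ 72 := ⟨m' * k, h72.symm⟩
  have hcand : ∀ n : ℕ, n < 73 → n ∣ 72 → n % 5 = 1 → n = 1 ∨ n = 6 ∨ n = 36 := by decide
  have hlt : Nat.card (Sylow 5 G) < 73 := Nat.lt_succ_of_le (Nat.le_of_dvd (by norm_num) hdvd)
  have hfac := card_dvd_factorial_sylow (G := G) 5 hn1
  rcases hcand _ hlt hdvd hmod with h4 | h4 | h4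
  · exact absurd h4 hn1
  · exfalso
    rw [h4, h] at hfac
    norm_num [Nat.factorial] at hfac
  · rw [h4] at h72
    have hm1 : m' = 1 := by
      rcases hk' with rfl | rfl
      · omega
      · omega
    subst hm1
    intro Q
    rw [hC5 Q]

include h hC hN in
/-- an element of odd order of `N(P)` lies in `C(P)` -/
lemma mem_centralizer_of_pow (P : Sylow 7 G) {c : G}
    (hcN : c ∈ Subgroup.normalizer ((P : Subgroup G) : Set G)) (hc : c ^ 35 = 1) :
    c ∈ Subgroup.centralizer ((P : Subgroup G) : Set G) := by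
  set C := Subgroup.centralizer ((P : Subgroup G) : Set G) with hCdef
  set N := Subgroup.normalizer ((P : Subgroup G) : Set G) with hNdef
  have hle : C ≤ N := Subgroup.centralizer_le_normalizer _
  have hrel : C.relIndex N = 2 := by
    have h1 := card_mul_relIndex hle
    rw [hC P, hN P] at h1
    omega
  have hidx : (C.subgroupOf N).index = 2 := hrel
  have h1 := Subgroup.mul_self_mem_of_index_two hidx (⟨c ^ 18, N.pow_mem hcN 18⟩ : N)
  rw [Subgroup.mem_subgroupOf] at h1
  have h2 : c ^ 18 * c ^ 18 = c := by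
    rw [← pow_add]
    calc c ^ (18 + 18) = c ^ 35 * c := by rw [← pow_succ]
      _ = c := by rw [hc, one_mul]
  simpa [h2] using h1

include h hC hN in
/-- nonidentity elements of `C(P)` normalize no other Sylow `7`-subgroup -/
lemma semireg (P P' : Sylow 7 G) {c : G}
    (hcC : c ∈ Subgroup.centralizer ((P : Subgroup G) : Set G)) (hc1 : c ≠ 1)
    (hcN' : c ∈ Subgroup.normalizer ((P' : Subgroup G) : Set G)) : P' = P := by
  have hC5 := data5_of_case36 h hC
  have hP := card7 h P
  have hP' := card7 h P'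
  have hc35 : c ^ 35 = 1 := pow_eq_one_of_mem hcC (hC P)
  have hcC' := mem_centralizer_of_pow h hC hN P' hcN' hc35
  have h5P := pow_mem_sylow_of_mem_centralizer P (hC P) hcC
  have h5P' := pow_mem_sylow_of_mem_centralizer P' (hC P') hcC'
  by_cases hc5 : c ^ 5 = 1
  · -- `c` has order `5`
    have ho : orderOf c = 5 := orderOf_eq_prime hc5 hc1
    obtain ⟨Q, hQ⟩ := exists_sylow_eq_zpowers (card5 h) ho
    have hQc := card5 h Q
    have hcnt := card_pow_eq_one_centralizer Q hQc (hC5 Q) (by norm_num)
    -- both `P` and `P'` consist of solutions of `x ^ 7 = 1` in `C(Q)`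
    have hsub : ∀ R : Sylow 7 G, c ∈ Subgroup.centralizer ((R : Subgroup G) : Set G) →
        ∀ x ∈ (R : Subgroup G), x ∈ Subgroup.centralizer ((Q : Subgroup G) : Set G) ∧ x ^ 7 = 1 := by
      intro R hcR x hx
      constructor
      · rw [hQ, ← centralizer_singleton_eq_zpowers, Subgroup.mem_centralizer_singleton_iff]
        exact Subgroup.mem_centralizer_iff.mp hcR x hx
      · exact pow_eq_one_of_mem hx (card7 h R)
    have hset : ∀ R : Sylow 7 G, c ∈ Subgroup.centralizer ((R : Subgroup G) : Set G) →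
        ((R : Subgroup G) : Set G) =
          {x : G | x ∈ Subgroup.centralizer ((Q : Subgroup G) : Set G) ∧ x ^ 7 = 1} := by
      intro R hcR
      apply Set.eq_of_subset_of_ncard_le (fun x hx => hsub R hcR x hx)
      · have e1 : ({x : G | x ∈ Subgroup.centralizer ((Q : Subgroup G) : Set G) ∧ x ^ 7 = 1} :
            Set G).ncard = 7 := by
          rw [← Nat.card_coe_set_eq]; exact hcnt
        have e2 : ((R : Subgroup G) : Set G).ncard = 7 := by
          rw [← Nat.card_coe_set_eq]; exact card7 h R
        exact le_of_eq (e1.trans e2.symm)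
    have := (hset P hcC).trans (hset P' hcC').symm
    exact Sylow.ext (SetLike.coe_injective this.symm)
  · have h1 := zpowers_eq_of_mem (P : Subgroup G) hP h5P hc5
    have h2 := zpowers_eq_of_mem (P' : Subgroup G) hP' h5P' hc5
    exact Sylow.ext (h2.symm.trans h1)

include h hC hN in
/-- an involution of `N(P)` commutes with no nonidentity element of `C(P)` -/
lemma free_involution (P : Sylow 7 G) {t c : G} (ht : t * t = 1) (ht1 : t ≠ 1)
    (hcC : c ∈ Subgroup.centralizer ((P : Subgroup G) : Set G)) (hct : c * t = t * c) : c = 1 := by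
  by_contra hc1
  have hC5 := data5_of_case36 h hC
  have hP := card7 h P
  have h5P := pow_mem_sylow_of_mem_centralizer P (hC P) hcC
  by_cases hc5 : c ^ 5 = 1
  · have ho : orderOf c = 5 := orderOf_eq_prime hc5 hc1
    obtain ⟨Q, hQ⟩ := exists_sylow_eq_zpowers (card5 h) ho
    have htQ : t ∈ Subgroup.centralizer ((Q : Subgroup G) : Set G) := by
      rw [hQ, ← centralizer_singleton_eq_zpowers, Subgroup.mem_centralizer_singleton_iff]
      exact hct.symm
    exact ht1 (eq_one_of_sq_of_odd (by rw [hC5 Q]; decide) ht htQ)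
  · have htP : t ∈ Subgroup.centralizer ((P : Subgroup G) : Set G) := by
      apply mem_centralizer_of_commute (P : Subgroup G) hP h5P hc5
      exact ((Commute.pow_left (show Commute c t from hct) 5).eq).symm
    exact ht1 (eq_one_of_sq_of_odd (by rw [hC P]; decide) ht htP)

include h hC hN in
/-- thirty-six Sylow `7`-subgroups -/
lemma case36 (hn : Nat.card (Sylow 7 G) = 36) : False := by
  classical
  obtain P : Sylow 7 G := default
  have hP := card7 h P
  have hn1 : Nat.card (Sylow 7 G) ≠ 1 := by rw [hn]; norm_num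
  set C := Subgroup.centralizer ((P : Subgroup G) : Set G) with hCdef
  set N := Subgroup.normalizer ((P : Subgroup G) : Set G) with hNdef
  obtain ⟨t, htN, ht2, ht1⟩ := exists_involution N (by rw [hN P]; norm_num)
  have htC : t ∉ C := fun htC => ht1 (eq_one_of_sq_of_odd (by rw [hC P]; decide) ht2 htC)
  have hf1 := fix_bound P hP htN htC
  have hf2 := fix_modEq_four (not_comm h) (α := Sylow 7 G) t ht2
  rw [hn] at hf1 hf2
  have htP : t • P = P := Sylow.smul_eq_iff_mem_normalizer.mpr htN
  have hfix : Nat.card (MulAction.fixedBy (Sylow 7 G) t) = 4 := by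
    have hpos : 0 < Nat.card (MulAction.fixedBy (Sylow 7 G) t) := by
      haveI : Nonempty (MulAction.fixedBy (Sylow 7 G) t) := ⟨⟨P, htP⟩⟩
      exact Nat.card_pos
    unfold Nat.ModEq at hf2
    omega
  -- the fixed points other than `P` coincide
  have key : ∀ P1 P2 : Sylow 7 G, t • P1 = P1 → t • P2 = P2 → P1 ≠ P → P2 ≠ P → P2 = P1 := by
    intro P1 P2 h1 h2 hP1 hP2
    haveI : Fintype (Sylow 7 G) := Fintype.ofFinite _
    haveI : Fintype C := Fintype.ofFinite _
    -- the orbit map of `C` at `P1`
    have hinj : Function.Injective (fun c : C => (c : G) • P1) := by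
      intro c c' hcc
      have h3 : ((c' : G)⁻¹ * (c : G)) • P1 = P1 := by
        rw [mul_smul]
        have : (c : G) • P1 = (c' : G) • P1 := hcc
        rw [this, inv_smul_smul]
      have h4 : (c' : G)⁻¹ * (c : G) = 1 := by
        by_contra hne
        exact hP1 (semireg h hC hN P P1 (C.mul_mem (C.inv_mem c'.2) c.2) hne
          (Sylow.smul_eq_iff_mem_normalizer.mp h3))
      exact Subtype.ext (inv_mul_eq_one.mp h4).symm
    have himg : (Finset.univ.image (fun c : C => (c : G) • P1)) = Finset.univ.erase P := by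
      apply Finset.eq_of_subset_of_card_le
      · intro S hS
        obtain ⟨c, -, rfl⟩ := Finset.mem_image.mp hS
        rw [Finset.mem_erase]
        refine ⟨?_, Finset.mem_univ _⟩
        intro hcP
        apply hP1
        have h3 : P1 = (c : G)⁻¹ • P := by rw [← hcP, inv_smul_smul]
        rw [h3]
        exact Sylow.smul_eq_iff_mem_normalizer.mpr
          (N.inv_mem (Subgroup.centralizer_le_normalizer _ c.2))
      · rw [Finset.card_image_of_injective _ hinj, Finset.card_erase_of_mem (Finset.mem_univ _),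
          Finset.card_univ, Finset.card_univ, ← Nat.card_eq_fintype_card, ← Nat.card_eq_fintype_card,
          hn, hC P]
    have hP2mem : P2 ∈ Finset.univ.image (fun c : C => (c : G) • P1) := by
      rw [himg, Finset.mem_erase]
      exact ⟨hP2, Finset.mem_univ _⟩
    obtain ⟨c, -, hc⟩ := Finset.mem_image.mp hP2mem
    -- `c⁻¹ (t c t⁻¹)` fixes `P1`
    have htc : t * (c : G) * t⁻¹ ∈ C := by
      apply Subgroup.mem_centralizer_iff.mpr
      intro y hy
      have hy' : t⁻¹ * y * t ∈ (P : Subgroup G) := by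
        have := (Subgroup.mem_normalizer_iff.mp (N.inv_mem htN) y).mp hy
        simpa using this
      have hcomm := Subgroup.mem_centralizer_iff.mp c.2 _ hy'
      calc y * (t * (c : G) * t⁻¹) = t * ((t⁻¹ * y * t) * (c : G)) * t⁻¹ := by group
        _ = t * ((c : G) * (t⁻¹ * y * t)) * t⁻¹ := by rw [hcomm]
        _ = t * (c : G) * t⁻¹ * y := by group
    have hc' : (c : G) • P1 = P2 := hc
    have htinv : t⁻¹ • P1 = P1 := by rw [inv_smul_eq_iff, h1]
    have hd : ((c : G)⁻¹ * (t * (c : G) * t⁻¹)) • P1 = P1 := by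
      rw [mul_smul, mul_smul, mul_smul, htinv, hc', h2, ← hc', inv_smul_smul]
    have hd1 : (c : G)⁻¹ * (t * (c : G) * t⁻¹) = 1 := by
      by_contra hne
      exact hP1 (semireg h hC hN P P1 (C.mul_mem (C.inv_mem c.2) htc) hne
        (Sylow.smul_eq_iff_mem_normalizer.mp hd))
    have hct : (c : G) * t = t * (c : G) := by
      have h3 : t * (c : G) * t⁻¹ = (c : G) := (inv_mul_eq_one.mp hd1).symm
      calc (c : G) * t = (t * (c : G) * t⁻¹) * t := by rw [h3]
        _ = t * (c : G) := by group
    have hc1 := free_involution h hC hN P ht2 ht1 c.2 hct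
    rw [← hc', hc1, one_smul]
  haveI : Fintype (Sylow 7 G) := Fintype.ofFinite _
  have hF : Nat.card (MulAction.fixedBy (Sylow 7 G) t) =
      (Finset.univ.filter (fun S : Sylow 7 G => t • S = S)).card := by
    rw [← Fintype.card_subtype, ← Nat.card_eq_fintype_card]
    exact Nat.card_congr (Equiv.subtypeEquivRight (fun S => MulAction.mem_fixedBy))
  rw [hF] at hfix
  have hPF : P ∈ Finset.univ.filter (fun S : Sylow 7 G => t • S = S) := by
    rw [Finset.mem_filter]; exact ⟨Finset.mem_univ _, htP⟩
  have h3 : 1 < ((Finset.univ.filter (fun S : Sylow 7 G => t • S = S)).erase P).card := by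
    rw [Finset.card_erase_of_mem hPF, hfix]
    norm_num
  obtain ⟨P1, hP1, P2, hP2, hne⟩ := Finset.one_lt_card.mp h3
  rw [Finset.mem_erase, Finset.mem_filter] at hP1 hP2
  exact hne (key P1 P2 hP1.2.2 hP2.2.2 hP1.1 hP2.1).symm

end case36

/-- the surviving configuration -/
theorem sylow7_data (h : Nat.card G = 2520) :
    Nat.card (Sylow 7 G) = 120 ∧
    (∀ P : Sylow 7 G, Nat.card (Subgroup.centralizer ((P : Subgroup G) : Set G)) = 7) ∧
    (∀ P : Sylow 7 G, Nat.card (Subgroup.normalizer ((P : Subgroup G) : Set G)) = 21) := by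
  obtain ⟨m, k, hC, hN, hk, hk1, hprod, hmod, hn1⟩ := exists_data (G := G) 7 (card7 h) (by omega)
  rw [h] at hprod
  have hk' : k = 2 ∨ k = 3 ∨ k = 6 := by
    have h1 : k ≤ 6 := Nat.le_of_dvd (by norm_num) hk
    interval_cases k
    · simp at hk
    · exact absurd rfl hk1
    · left; rfl
    · right; left; rfl
    · norm_num at hk
    · norm_num at hk
    · right; right; rfl
  have hdvd : Nat.card (Sylow 7 G) ∣ 360 := ⟨m * k, by
    have : Nat.card (Sylow 7 G) * (7 * m * k) = 7 * (Nat.card (Sylow 7 G) * (m * k)) := by ring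
    omega⟩
  have hcand : ∀ n : ℕ, n < 361 → n ∣ 360 → n % 7 = 1 →
      n = 1 ∨ n = 8 ∨ n = 15 ∨ n = 36 ∨ n = 120 := by
    set_option maxRecDepth 100000 in decide
  have hlt : Nat.card (Sylow 7 G) < 361 :=
    Nat.lt_succ_of_le (Nat.le_of_dvd (by norm_num) hdvd)
  rcases hcand _ hlt hdvd hmod with h4 | h4 | h4 | h4 | h4
  · exact absurd h4 hn1
  · exfalso
    rw [h4] at hprod
    have hmk : m * k = 45 := by
      have : 8 * (7 * m * k) = 56 * (m * k) := by ring
      omega
    have hm5 : 5 ∣ m := by
      rcases hk' with rfl | rfl | rfl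
      · omega
      · exact ⟨3, by omega⟩
      · omega
    exact case8 h4 hm5 hC
  · exfalso
    rw [h4] at hprod
    have hmk : m * k = 24 := by
      have : 15 * (7 * m * k) = 105 * (m * k) := by ring
      omega
    have hm2 : 2 ∣ m := by
      rcases hk' with rfl | rfl | rfl
      · exact ⟨6, by omega⟩
      · exact ⟨4, by omega⟩
      · exact ⟨2, by omega⟩
    exact case15 h h4 hm2 hC
  · exfalso
    rw [h4] at hprod
    have hmk : m * k = 10 := by
      have : 36 * (7 * m * k) = 252 * (m * k) := by ring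
      omega
    rcases hk' with rfl | rfl | rfl
    · have hm : m = 5 := by omega
      subst hm
      exact case36 h hC (fun P => by rw [hN P]) h4
    · omega
    · omega
  · rw [h4] at hprod
    have hmk : m * k = 3 := by
      have : 120 * (7 * m * k) = 840 * (m * k) := by ring
      omega
    rcases hk' with rfl | rfl | rfl
    · omega
    · have hm : m = 1 := by omega
      subst hm
      exact ⟨h4, fun P => by rw [hC P], fun P => by rw [hN P]⟩
    · omega

end Cfsg.Agent.Lib.Helper4.Ord2520
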