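import Mathlib
import Cfsg.Agent.Lib.Helper4.Ord2520a
import Cfsg.Agent.Lib.Helper4.M11f

/-! Order `2520`: the principal `7`-block. -/

set_option autoImplicit false
set_option linter.unusedSectionVars false
set_option linter.unusedVariables false
set_option linter.style.longLine false
set_option linter.unusedSimpArgs false
set_option linter.unusedDecidableInType false

set_option maxHeartbeats 1600000

namespace Cfsg.Agent.Lib.Helper4.Ord2520

open Cfsg Cfsg.Agent.Lib.Helper6 Module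
open Cfsg.Agent.Lib.Lead Cfsg.Agent.Lib.Lead.SylowCount Cfsg.Agent.Lib.Lead.SmallSimple2
  Cfsg.Agent.Lib.Helper7.CountTools Cfsg.Agent.Lib.Helper7.SylPar Cfsg.Agent.Lib.Helper4.Ord5040
  Cfsg.Agent.Lib.Helper5.BrauerSmall
open scoped ComplexConjugate

section split

variable {ι : Type*} [Fintype ι] [DecidableEq ι]

/-- a sum supported on five distinct indices -/
theorem sum_split5 {c1 c2 c3 c4 c5 : ι} (h12 : c1 ≠ c2) (h13 : c1 ≠ c3) (h14 : c1 ≠ c4)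
    (h15 : c1 ≠ c5) (h23 : c2 ≠ c3) (h24 : c2 ≠ c4) (h25 : c2 ≠ c5) (h34 : c3 ≠ c4)
    (h35 : c3 ≠ c5) (h45 : c4 ≠ c5) (F : ι → ℂ)
    (hF : ∀ χ, χ ≠ c1 → χ ≠ c2 → χ ≠ c3 → χ ≠ c4 → χ ≠ c5 → F χ = 0) :
    ∑ χ, F χ = F c1 + F c2 + F c3 + F c4 + F c5 := by
  have hsub : ({c1, c2, c3, c4, c5} : Finset ι) ⊆ Finset.univ := Finset.subset_univ _
  rw [← Finset.sum_subset hsub]
  · rw [Finset.sum_insert (by simp [h12, h13, h14, h15]),
      Finset.sum_insert (by simp [h23, h24, h25]),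
      Finset.sum_insert (by simp [h34, h35]), Finset.sum_pair h45]
    ring
  · intro χ _ hχ
    simp only [Finset.mem_insert, Finset.mem_singleton, not_or] at hχ
    exact hF χ hχ.1 hχ.2.1 hχ.2.2.1 hχ.2.2.2.1 hχ.2.2.2.2

end split

section main

variable {G : Type*} [Group G] [Fintype G]

/-- the principal `7`-block of a simple group of order `2520` -/
theorem exists_blk7 [IsSimpleGroup G] (hG : Nat.card G = 2520)
    [Fintype (Cfsg.IrrCharacter G)] [DecidableEq (Cfsg.IrrCharacter G)] (P : Sylow 7 G) :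
    ∃ (a b θ1 θ2 : Cfsg.IrrCharacter G) (s1 s2 ε : ℤ),
      a ≠ oneIrr G ∧ b ≠ oneIrr G ∧ a ≠ b ∧ θ1 ≠ θ2 ∧ θ1 ≠ oneIrr G ∧ θ1 ≠ a ∧ θ1 ≠ b ∧
      θ2 ≠ oneIrr G ∧ θ2 ≠ a ∧ θ2 ≠ b ∧
      (∀ χ : Cfsg.IrrCharacter G, χ = oneIrr G ∨ χ = a ∨ χ = b ∨ χ = θ1 ∨ χ = θ2 ∨
        7 ∣ Cfsg.charDegree (χ : G → ℂ)) ∧
      (s1 = 1 ∨ s1 = -1) ∧ (s2 = 1 ∨ s2 = -1) ∧ (ε = 1 ∨ ε = -1) ∧
      (Cfsg.charDegree (a : G → ℂ) : ℤ) ≡ s1 [ZMOD 7] ∧
      (Cfsg.charDegree (b : G → ℂ) : ℤ) ≡ s2 [ZMOD 7] ∧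
      (Cfsg.charDegree (θ1 : G → ℂ) : ℤ) ≡ ε * 3 [ZMOD 7] ∧
      (Cfsg.charDegree (θ2 : G → ℂ) : ℤ) ≡ ε * 3 [ZMOD 7] ∧
      (∀ x : G, x ∈ (P : Subgroup G) → x ≠ 1 →
        (a : G → ℂ) x = (s1 : ℂ) ∧ (b : G → ℂ) x = (s2 : ℂ)) ∧
      (∀ g : G, ¬ 7 ∣ orderOf g →
        (ε : ℂ) * (θ1 : G → ℂ) g = 1 + (s1 : ℂ) * (a : G → ℂ) g + (s2 : ℂ) * (b : G → ℂ) g ∧
        (ε : ℂ) * (θ2 : G → ℂ) g = 1 + (s1 : ℂ) * (a : G → ℂ) g + (s2 : ℂ) * (b : G → ℂ) g) := by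
  classical
  haveI : Fact (Nat.Prime 7) := ⟨by norm_num⟩
  have hncomm : ¬ IsMulCommutative G := not_comm hG
  obtain ⟨d, hd⟩ : ∃ d : Cfsg.IrrCharacter G → ℕ,
      ∀ χ : Cfsg.IrrCharacter G, Cfsg.charDegree (χ : G → ℂ) = d χ :=
    ⟨fun χ => Cfsg.charDegree (χ : G → ℂ), fun _ => rfl⟩
  have hone : ∀ χ : Cfsg.IrrCharacter G, (χ : G → ℂ) 1 = (d χ : ℂ) := by
    intro χ
    rw [← hd]
    exact IsCharacter.apply_one_eq_charDegree (IsIrrCharacter.isCharacter χ.2)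
  have hd1 : d (oneIrr G) = 1 := by
    have := hone (oneIrr G)
    have h2 : ((oneIrr G : Cfsg.IrrCharacter G) : G → ℂ) 1 = 1 := rfl
    rw [h2] at this
    exact_mod_cast this.symm
  obtain ⟨hn7, hC7, hN7⟩ := sylow7_data hG
  have hP : Nat.card (P : Subgroup G) = 7 := card7 hG P
  have hC : Subgroup.centralizer ((P : Subgroup G) : Set G) = (P : Subgroup G) :=
    (Subgroup.eq_of_le_of_card_ge (sylow_le_centralizer P hP) (by rw [hC7 P, hP])).symm
  have he : (Subgroup.centralizer ((P : Subgroup G) : Set G)).relIndex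
      (Subgroup.normalizer ((P : Subgroup G) : Set G)) = 3 := by
    have h1 := card_mul_relIndex (Subgroup.centralizer_le_normalizer ((P : Subgroup G) : Set G))
    rw [hC7 P, hN7 P] at h1
    omega
  obtain ⟨M7, hM7⟩ := exists_isPModular 7
  obtain ⟨XF, YF, σ, ε, hmem, hdisj, hXc, hYc, hXs, hε, hYm, hXv, hrel⟩ :=
    Cfsg.Agent.Lib.Helper4.M11.brauer_values d hd 7 M7 hM7 (by norm_num) P hP 3 he
  have hYc' : YF.card = 2 := by rw [hYc]
  have hout : ∀ χ, χ ∉ XF → χ ∉ YF → 7 ∣ d χ := by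
    intro χ h1 h2
    by_contra h3
    have := mem_principalBlock_of_not_dvd P hP hC hM7 χ (by rw [hd]; exact h3)
    rcases (hmem χ).mp this with h | h
    · exact h1 h
    · exact h2 h
  have h1X : oneIrr G ∈ XF := by
    rcases (hmem _).mp (oneIrr_mem_principalBlock hM7) with h | h
    · exact h
    · exfalso
      have hm := hYm _ h
      rw [hd1] at hm
      unfold Int.ModEq at hm
      rcases hε with rfl | rfl <;> push_cast at hm <;> omega
  have hσ1 : σ (oneIrr G) = 1 := by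
    obtain ⟨hs, hm⟩ := hXs _ h1X
    rw [hd1] at hm
    unfold Int.ModEq at hm
    rcases hs with hs | hs
    · exact hs
    · rw [hs] at hm; omega
  have hXe : (XF.erase (oneIrr G)).card = 2 := by
    rw [Finset.card_erase_of_mem h1X, hXc]
  obtain ⟨a, b, hab, hXab⟩ := Finset.card_eq_two.mp hXe
  obtain ⟨θ1, θ2, hθ12, hYθ⟩ := Finset.card_eq_two.mp hYc'
  have haX' : a ∈ XF.erase (oneIrr G) := by rw [hXab]; simp
  have hbX' : b ∈ XF.erase (oneIrr G) := by rw [hXab]; simp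
  have haX : a ∈ XF := Finset.mem_of_mem_erase haX'
  have hbX : b ∈ XF := Finset.mem_of_mem_erase hbX'
  have ha1 : a ≠ oneIrr G := Finset.ne_of_mem_erase haX'
  have hb1 : b ≠ oneIrr G := Finset.ne_of_mem_erase hbX'
  have hθ1Y : θ1 ∈ YF := by rw [hYθ]; simp
  have hθ2Y : θ2 ∈ YF := by rw [hYθ]; simp
  have hXY : ∀ χ ∈ XF, ∀ θ ∈ YF, θ ≠ χ := by
    intro χ hχ θ hθ e
    rw [e] at hθ
    exact (Finset.disjoint_left.mp hdisj hχ) hθ
  have hXmem : ∀ χ ∈ XF, χ = oneIrr G ∨ χ = a ∨ χ = b := by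
    intro χ hχ
    by_cases h1 : χ = oneIrr G
    · left; exact h1
    · have : χ ∈ XF.erase (oneIrr G) := Finset.mem_erase.mpr ⟨h1, hχ⟩
      rw [hXab] at this
      simp only [Finset.mem_insert, Finset.mem_singleton] at this
      right; exact this
  have hYmem : ∀ χ ∈ YF, χ = θ1 ∨ χ = θ2 := by
    intro χ hχ
    rw [hYθ] at hχ
    simpa using hχ
  have hXsum : ∀ F : Cfsg.IrrCharacter G → ℂ, ∑ χ ∈ XF, F χ = F (oneIrr G) + F a + F b := by
    intro F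
    rw [← Finset.add_sum_erase XF F h1X, hXab, Finset.sum_pair hab]
    ring
  refine ⟨a, b, θ1, θ2, σ a, σ b, ε, ha1, hb1, hab, hθ12, hXY _ h1X _ hθ1Y, hXY _ haX _ hθ1Y,
    hXY _ hbX _ hθ1Y, hXY _ h1X _ hθ2Y, hXY _ haX _ hθ2Y, hXY _ hbX _ hθ2Y, ?_,
    (hXs a haX).1, (hXs b hbX).1, hε, ?_, ?_, ?_, ?_, ?_, ?_⟩
  · intro χ
    by_cases hX : χ ∈ XF
    · rcases hXmem χ hX with h | h | h
      · exact Or.inl h
      · exact Or.inr (Or.inl h)
      · exact Or.inr (Or.inr (Or.inl h))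
    · by_cases hY : χ ∈ YF
      · rcases hYmem χ hY with h | h
        · exact Or.inr (Or.inr (Or.inr (Or.inl h)))
        · exact Or.inr (Or.inr (Or.inr (Or.inr (Or.inl h))))
      · right; right; right; right; right
        rw [hd]; exact hout χ hX hY
  · have := (hXs a haX).2
    rwa [← hd] at this
  · have := (hXs b hbX).2
    rwa [← hd] at this
  · have := hYm θ1 hθ1Y
    rw [← hd] at this
    simpa using this
  · have := hYm θ2 hθ2Y
    rw [← hd] at this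
    simpa using this
  · intro x hx hx1
    exact ⟨hXv a haX x hx hx1, hXv b hbX x hx hx1⟩
  · intro g hg
    have e1 := hrel θ1 hθ1Y g hg
    have e2 := hrel θ2 hθ2Y g hg
    rw [hXsum] at e1 e2
    have h1g : ((oneIrr G : Cfsg.IrrCharacter G) : G → ℂ) g = 1 := rfl
    rw [hσ1, h1g] at e1 e2
    push_cast at e1 e2
    constructor
    · rw [e1]; ring
    · rw [e2]; ring

end main

end Cfsg.Agent.Lib.Helper4.Ord2520
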