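import Mathlib
import Cfsg.Agent.Lib.Helper4.Ord2520b

/-! Order `2520`: the values of the exceptional characters and the four degree patterns. -/

set_option autoImplicit false
set_option linter.unusedSectionVars false
set_option linter.unusedVariables false
set_option linter.style.longLine false
set_option linter.unusedSimpArgs false
set_option linter.unusedDecidableInType false

set_option maxHeartbeats 1600000

namespace Cfsg.Agent.Lib.Helper4.Ord2520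

open Cfsg Cfsg.Agent.Lib.Helper6 Module
open Cfsg.Agent.Lib.Lead Cfsg.Agent.Lib.Lead.SylowCount Cfsg.Agent.Lib.Lead.SmallSimple2
  Cfsg.Agent.Lib.Helper7.CountTools Cfsg.Agent.Lib.Helper7.SylPar Cfsg.Agent.Lib.Helper4.Ord5040
  Cfsg.Agent.Lib.Helper5.BrauerSmall
open scoped ComplexConjugate

/-- the principal `7`-block of a simple group of order `2520` -/
structure Blk7 {G : Type*} [Group G] [Fintype G] (P : Sylow 7 G)
    (a b θ1 θ2 : Cfsg.IrrCharacter G) (s1 s2 ε : ℤ) : Prop where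
  ha1 : a ≠ oneIrr G
  hb1 : b ≠ oneIrr G
  hab : a ≠ b
  hθ12 : θ1 ≠ θ2
  hθ1o : θ1 ≠ oneIrr G
  hθ1a : θ1 ≠ a
  hθ1b : θ1 ≠ b
  hθ2o : θ2 ≠ oneIrr G
  hθ2a : θ2 ≠ a
  hθ2b : θ2 ≠ b
  cover : ∀ χ : Cfsg.IrrCharacter G, χ = oneIrr G ∨ χ = a ∨ χ = b ∨ χ = θ1 ∨ χ = θ2 ∨
    7 ∣ Cfsg.charDegree (χ : G → ℂ)
  hs1 : s1 = 1 ∨ s1 = -1
  hs2 : s2 = 1 ∨ s2 = -1
  hε : ε = 1 ∨ ε = -1
  ma : (Cfsg.charDegree (a : G → ℂ) : ℤ) ≡ s1 [ZMOD 7]
  mb : (Cfsg.charDegree (b : G → ℂ) : ℤ) ≡ s2 [ZMOD 7]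
  mθ1 : (Cfsg.charDegree (θ1 : G → ℂ) : ℤ) ≡ ε * 3 [ZMOD 7]
  mθ2 : (Cfsg.charDegree (θ2 : G → ℂ) : ℤ) ≡ ε * 3 [ZMOD 7]
  val : ∀ x : G, x ∈ (P : Subgroup G) → x ≠ 1 →
    (a : G → ℂ) x = (s1 : ℂ) ∧ (b : G → ℂ) x = (s2 : ℂ)
  rel : ∀ g : G, ¬ 7 ∣ orderOf g →
    (ε : ℂ) * (θ1 : G → ℂ) g = 1 + (s1 : ℂ) * (a : G → ℂ) g + (s2 : ℂ) * (b : G → ℂ) g ∧
    (ε : ℂ) * (θ2 : G → ℂ) g = 1 + (s1 : ℂ) * (a : G → ℂ) g + (s2 : ℂ) * (b : G → ℂ) g

section main

variable {G : Type*} [Group G] [Fintype G]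

theorem exists_blk7' [IsSimpleGroup G] (hG : Nat.card G = 2520)
    [Fintype (Cfsg.IrrCharacter G)] [DecidableEq (Cfsg.IrrCharacter G)] (P : Sylow 7 G) :
    ∃ (a b θ1 θ2 : Cfsg.IrrCharacter G) (s1 s2 ε : ℤ), Blk7 P a b θ1 θ2 s1 s2 ε := by
  obtain ⟨a, b, θ1, θ2, s1, s2, ε, h1, h2, h3, h4, h5, h6, h7, h8, h9, h10, h11, h12, h13, h14,
    h15, h16, h17, h18, h19, h20⟩ := exists_blk7 hG P
  exact ⟨a, b, θ1, θ2, s1, s2, ε, ⟨h1, h2, h3, h4, h5, h6, h7, h8, h9, h10, h11, h12, h13, h14,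
    h15, h16, h17, h18, h19, h20⟩⟩

/-- an element of order `7` is not conjugate to its inverse -/
theorem not_isConj_inv_of_mem [IsSimpleGroup G] (hG : Nat.card G = 2520) (P : Sylow 7 G) {y : G}
    (hy : y ∈ (P : Subgroup G)) (hy1 : y ≠ 1) : ¬ IsConj y y⁻¹ := by
  haveI : Fact (Nat.Prime 7) := ⟨by norm_num⟩
  intro hconj
  obtain ⟨hn7, hC7, hN7⟩ := sylow7_data hG
  have hP : Nat.card (P : Subgroup G) = 7 := card7 hG P
  have hPz : Subgroup.zpowers y = (P : Subgroup G) := zpowers_eq_of_mem (P : Subgroup G) hP hy hy1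
  obtain ⟨c, hc⟩ := isConj_iff.mp hconj
  -- `c` normalizes `P`
  have hconjP : ∀ w ∈ (P : Subgroup G), c * w * c⁻¹ ∈ (P : Subgroup G) := by
    intro w hw
    rw [← hPz] at hw ⊢
    obtain ⟨i, rfl⟩ := Subgroup.mem_zpowers_iff.mp hw
    have : c * y ^ i * c⁻¹ = (c * y * c⁻¹) ^ i := by rw [conj_zpow]
    rw [this, hc]
    exact Subgroup.zpow_mem _ (Subgroup.inv_mem _ (Subgroup.mem_zpowers y)) i
  have hcN : c ∈ Subgroup.normalizer ((P : Subgroup G) : Set G) := by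
    have hsub : (P : Subgroup G).map (MulAut.conj c).toMonoidHom ≤ (P : Subgroup G) := by
      rintro _ ⟨w, hw, rfl⟩
      exact hconjP w hw
    have hcardeq : Nat.card ((P : Subgroup G).map (MulAut.conj c).toMonoidHom) =
        Nat.card (P : Subgroup G) :=
      Subgroup.card_map_of_injective (MulAut.conj c).injective
    have heq : (P : Subgroup G).map (MulAut.conj c).toMonoidHom = (P : Subgroup G) :=
      Subgroup.eq_of_le_of_card_ge hsub (le_of_eq hcardeq.symm)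
    rw [Subgroup.mem_normalizer_iff]
    intro w
    constructor
    · exact hconjP w
    · intro hw
      rw [← heq] at hw
      obtain ⟨w', hw', hww⟩ := hw
      have : w' = w := by
        have h1 : c * w' * c⁻¹ = c * w * c⁻¹ := hww
        have h2 : w' = c⁻¹ * (c * w' * c⁻¹) * c := by group
        rw [h2, h1]; group
      rwa [← this]
  have hc21 : c ^ 21 = 1 := by
    have h1 := Subgroup.orderOf_dvd_natCard
      (Subgroup.normalizer ((P : Subgroup G) : Set G)) hcN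
    rw [hN7 P] at h1
    exact orderOf_dvd_iff_pow_eq_one.mp h1
  have hinv : c⁻¹ * y⁻¹ * c = y := by
    have : y⁻¹ = c * y * c⁻¹ := hc.symm
    rw [this]; group
  have hsq : c ^ 2 * y = y * c ^ 2 := by
    have h1 : c * y⁻¹ * c⁻¹ = y := by
      calc c * y⁻¹ * c⁻¹ = (c * y * c⁻¹)⁻¹ := by group
        _ = y := by rw [hc, inv_inv]
    calc c ^ 2 * y = c * (c * y * c⁻¹) * c := by rw [pow_two]; group
      _ = c * y⁻¹ * c := by rw [hc]
      _ = (c * y⁻¹ * c⁻¹) * c ^ 2 := by rw [pow_two]; group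
      _ = y * c ^ 2 := by rw [h1]
  have hcomm : c * y = y * c := by
    have h11 : Commute (c ^ 2) y := hsq
    have h2 : Commute ((c ^ 2) ^ 11) y := h11.pow_left 11
    have h3 : (c ^ 2) ^ 11 = c := by
      rw [← pow_mul]
      calc c ^ (2 * 11) = c ^ 21 * c := by rw [← pow_succ]
        _ = c := by rw [hc21, one_mul]
    rw [h3] at h2
    exact h2
  have hyy : y = y⁻¹ := by
    calc y = c * y * c⁻¹ := by rw [hcomm]; group
      _ = y⁻¹ := hc
  have hy2 : y ^ 2 = 1 := by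
    rw [pow_two]
    nth_rewrite 2 [hyy]
    exact mul_inv_cancel y
  have ho : orderOf y = 7 := orderOf_eq_prime (pow_eq_one_of_mem hy hP) hy1
  have := orderOf_dvd_of_pow_eq_one hy2
  rw [ho] at this
  omega

/-- characters of degree divisible by `7` vanish on the elements of order `7` -/
theorem vanish7 (hG : Nat.card G = 2520) (χ : Cfsg.IrrCharacter G)
    (h7 : 7 ∣ Cfsg.charDegree (χ : G → ℂ)) {y : G} (hy : 7 ∣ orderOf y) : (χ : G → ℂ) y = 0 := by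
  classical
  refine IsIrrCharacter.eq_zero_of_defect_zero χ.2 7 1 (by norm_num) ?_ ?_ ?_ y hy
  · rw [hG]; norm_num
  · rw [hG]; norm_num
  · rwa [pow_one]

/-- characters of degree divisible by `5` vanish on the elements of order divisible by `5` -/
theorem vanish5 (hG : Nat.card G = 2520) (χ : Cfsg.IrrCharacter G)
    (h5 : 5 ∣ Cfsg.charDegree (χ : G → ℂ)) {y : G} (hy : 5 ∣ orderOf y) : (χ : G → ℂ) y = 0 := by
  classical
  refine IsIrrCharacter.eq_zero_of_defect_zero χ.2 5 1 (by norm_num) ?_ ?_ ?_ y hy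
  · rw [hG]; norm_num
  · rw [hG]; norm_num
  · rwa [pow_one]

/-- characters of degree divisible by `8` vanish on the elements of even order -/
theorem vanish2 (hG : Nat.card G = 2520) (χ : Cfsg.IrrCharacter G)
    (h8 : 8 ∣ Cfsg.charDegree (χ : G → ℂ)) {y : G} (hy : 2 ∣ orderOf y) : (χ : G → ℂ) y = 0 := by
  classical
  refine IsIrrCharacter.eq_zero_of_defect_zero χ.2 2 3 (by norm_num) ?_ ?_ ?_ y hy
  · rw [hG]; norm_num
  · rw [hG]; norm_num
  · exact h8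

variable [Fintype (Cfsg.IrrCharacter G)] [DecidableEq (Cfsg.IrrCharacter G)]
variable {P : Sylow 7 G} {a b θ1 θ2 : Cfsg.IrrCharacter G} {s1 s2 ε : ℤ}

theorem Blk7.sum_split (B : Blk7 P a b θ1 θ2 s1 s2 ε) (F : Cfsg.IrrCharacter G → ℂ)
    (hF : ∀ χ : Cfsg.IrrCharacter G, 7 ∣ Cfsg.charDegree (χ : G → ℂ) → F χ = 0) :
    ∑ χ, F χ = F (oneIrr G) + F a + F b + F θ1 + F θ2 := by
  apply sum_split5 B.ha1.symm B.hb1.symm B.hθ1o.symm B.hθ2o.symm B.hab B.hθ1a.symm B.hθ2a.symm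
    B.hθ1b.symm B.hθ2b.symm B.hθ12
  intro χ h1 h2 h3 h4 h5
  rcases B.cover χ with h | h | h | h | h | h
  · exact absurd h h1
  · exact absurd h h2
  · exact absurd h h3
  · exact absurd h h4
  · exact absurd h h5
  · exact hF χ h

theorem charDegree_pos (χ : Cfsg.IrrCharacter G) : 0 < Cfsg.charDegree (χ : G → ℂ) := by
  have h := IsIrrCharacter.charDegree_dvd_card χ.2
  exact Nat.pos_of_dvd_of_pos h Nat.card_pos

theorem apply_one (χ : Cfsg.IrrCharacter G) :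
    (χ : G → ℂ) 1 = (Cfsg.charDegree (χ : G → ℂ) : ℂ) :=
  IsCharacter.apply_one_eq_charDegree (IsIrrCharacter.isCharacter χ.2)

/-- the degree relation -/
theorem Blk7.deg_rel (B : Blk7 P a b θ1 θ2 s1 s2 ε) :
    ε * (Cfsg.charDegree (θ1 : G → ℂ) : ℤ) =
      1 + s1 * (Cfsg.charDegree (a : G → ℂ) : ℤ) + s2 * (Cfsg.charDegree (b : G → ℂ) : ℤ) ∧
    ε * (Cfsg.charDegree (θ2 : G → ℂ) : ℤ) =
      1 + s1 * (Cfsg.charDegree (a : G → ℂ) : ℤ) + s2 * (Cfsg.charDegree (b : G → ℂ) : ℤ) := by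
  have h := B.rel 1 (by rw [orderOf_one]; norm_num)
  rw [apply_one, apply_one, apply_one, apply_one] at h
  constructor
  · exact_mod_cast h.1
  · exact_mod_cast h.2

/-- the two exceptional characters have the same degree -/
theorem Blk7.deg_eq (B : Blk7 P a b θ1 θ2 s1 s2 ε) :
    Cfsg.charDegree (θ2 : G → ℂ) = Cfsg.charDegree (θ1 : G → ℂ) := by
  obtain ⟨h1, h2⟩ := B.deg_rel
  have : ε * (Cfsg.charDegree (θ2 : G → ℂ) : ℤ) = ε * (Cfsg.charDegree (θ1 : G → ℂ) : ℤ) := by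
    rw [h1, h2]
  rcases B.hε with h | h <;> rw [h] at this <;> omega

/-- the values of the exceptional characters at an element of order `7` -/
theorem Blk7.theta_values [IsSimpleGroup G] (hG : Nat.card G = 2520)
    (B : Blk7 P a b θ1 θ2 s1 s2 ε) {y : G} (hy : y ∈ (P : Subgroup G)) (hy1 : y ≠ 1) :
    (θ1 : G → ℂ) y + (θ2 : G → ℂ) y = -(ε : ℂ) ∧
    (θ1 : G → ℂ) y ^ 2 + (θ2 : G → ℂ) y ^ 2 = -3 := by
  haveI : Fact (Nat.Prime 7) := ⟨by norm_num⟩
  have hP : Nat.card (P : Subgroup G) = 7 := card7 hG P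
  have ho : orderOf y = 7 := orderOf_eq_prime (pow_eq_one_of_mem hy hP) hy1
  have hy7 : 7 ∣ orderOf y := by rw [ho]
  obtain ⟨hva, hvb⟩ := B.val y hy hy1
  have h1y : ((oneIrr G : Cfsg.IrrCharacter G) : G → ℂ) y = 1 := rfl
  -- orthogonality with the identity
  have hnc1 : ¬ IsConj y 1 := by
    rw [isConj_one_left]; exact hy1
  have e1 := (sum_irr_mul_conj y (1 : G)).2 hnc1
  rw [B.sum_split (fun χ => (χ : G → ℂ) y * conj ((χ : G → ℂ) 1))
    (fun χ h7 => by rw [vanish7 hG χ h7 hy7, zero_mul])] at e1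
  simp only [apply_one, Complex.conj_natCast, h1y, hva, hvb] at e1
  have hd1 : Cfsg.charDegree ((oneIrr G : Cfsg.IrrCharacter G) : G → ℂ) = 1 := by
    have := apply_one (oneIrr G)
    have h2 : ((oneIrr G : Cfsg.IrrCharacter G) : G → ℂ) 1 = 1 := rfl
    rw [h2] at this
    exact_mod_cast this.symm
  rw [hd1, B.deg_eq] at e1
  obtain ⟨hr1, -⟩ := B.deg_rel
  have hr1' : (ε : ℂ) * (Cfsg.charDegree (θ1 : G → ℂ) : ℂ) =
      1 + (s1 : ℂ) * (Cfsg.charDegree (a : G → ℂ) : ℂ) +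
        (s2 : ℂ) * (Cfsg.charDegree (b : G → ℂ) : ℂ) := by exact_mod_cast hr1
  have htpos : (Cfsg.charDegree (θ1 : G → ℂ) : ℂ) ≠ 0 := by
    have := charDegree_pos θ1
    exact_mod_cast this.ne'
  have hsum : (θ1 : G → ℂ) y + (θ2 : G → ℂ) y = -(ε : ℂ) := by
    have h2 : (Cfsg.charDegree (θ1 : G → ℂ) : ℂ) *
        ((ε : ℂ) + (θ1 : G → ℂ) y + (θ2 : G → ℂ) y) = 0 := by
      push_cast at e1
      linear_combination e1 + hr1'
    rcases mul_eq_zero.mp h2 with h3 | h3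
    · exact absurd h3 htpos
    · linear_combination h3
  refine ⟨hsum, ?_⟩
  -- orthogonality with the inverse
  have e2 := (sum_irr_mul_conj y y⁻¹).2 (not_isConj_inv_of_mem hG P hy hy1)
  have hconj : ∀ χ : Cfsg.IrrCharacter G, conj ((χ : G → ℂ) y⁻¹) = (χ : G → ℂ) y := by
    intro χ
    obtain ⟨n, ρ, hirr, hρ⟩ := χ.2
    rw [← hρ, character_inv, Complex.conj_conj]
  rw [B.sum_split (fun χ => (χ : G → ℂ) y * conj ((χ : G → ℂ) y⁻¹))
    (fun χ h7 => by rw [vanish7 hG χ h7 hy7, zero_mul])] at e2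
  simp only [hconj, h1y, hva, hvb] at e2
  have hs1sq : (s1 : ℂ) * (s1 : ℂ) = 1 := by
    rcases B.hs1 with h | h <;> rw [h] <;> norm_num
  have hs2sq : (s2 : ℂ) * (s2 : ℂ) = 1 := by
    rcases B.hs2 with h | h <;> rw [h] <;> norm_num
  rw [hs1sq, hs2sq] at e2
  linear_combination e2

end main

section arith

/-- possible degrees of the non-exceptional characters -/
theorem xdeg_cases (d : ℕ) (h1 : d ∣ 2520) (h2 : d * d ≤ 2520)
    (h3 : d % 7 = 1 ∨ d % 7 = 6) : d = 1 ∨ d = 8 ∨ d = 15 ∨ d = 36 ∨ d = 6 ∨ d = 20 := by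
  have h4 : d ≤ 50 := by nlinarith
  interval_cases d <;> omega

/-- possible degrees of the exceptional characters -/
theorem ydeg_cases (d : ℕ) (h1 : d ∣ 2520) (h2 : 2 * (d * d) ≤ 2520)
    (h3 : d % 7 = 3 ∨ d % 7 = 4) : d = 3 ∨ d = 10 ∨ d = 24 ∨ d = 4 ∨ d = 18 := by
  have h4 : d ≤ 35 := by nlinarith
  interval_cases d <;> omega

/-- the four degree patterns of the principal `7`-block -/
theorem p7_patterns (da db t : ℕ) (s1 s2 ε : ℤ) (hs1 : s1 = 1 ∨ s1 = -1) (hs2 : s2 = 1 ∨ s2 = -1)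
    (hε : ε = 1 ∨ ε = -1) (ma : (da : ℤ) ≡ s1 [ZMOD 7]) (mb : (db : ℤ) ≡ s2 [ZMOD 7])
    (mt : (t : ℤ) ≡ ε * 3 [ZMOD 7]) (hda : da ∣ 2520) (hdb : db ∣ 2520) (hdt : t ∣ 2520)
    (hda1 : da ≠ 1) (hdb1 : db ≠ 1) (hrel : ε * (t : ℤ) = 1 + s1 * (da : ℤ) + s2 * (db : ℤ))
    (hsq : 1 + da * da + db * db + 2 * (t * t) ≤ 2520) :
    (da = 6 ∧ db = 15 ∧ t = 10) ∨ (da = 15 ∧ db = 6 ∧ t = 10) ∨
    (da = 8 ∧ db = 6 ∧ t = 3) ∨ (da = 6 ∧ db = 8 ∧ t = 3) ∨
    (da = 15 ∧ db = 20 ∧ t = 4) ∨ (da = 20 ∧ db = 15 ∧ t = 4) ∨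
    (da = 8 ∧ db = 15 ∧ t = 24) ∨ (da = 15 ∧ db = 8 ∧ t = 24) := by
  unfold Int.ModEq at ma mb mt
  have ha := xdeg_cases da hda (by nlinarith) (by rcases hs1 with h | h <;> rw [h] at ma <;> omega)
  have hb := xdeg_cases db hdb (by nlinarith) (by rcases hs2 with h | h <;> rw [h] at mb <;> omega)
  have ht := ydeg_cases t hdt (by nlinarith) (by rcases hε with h | h <;> rw [h] at mt <;> omega)
  rcases ha with rfl | rfl | rfl | rfl | rfl | rfl <;>
    rcases hb with rfl | rfl | rfl | rfl | rfl | rfl <;>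
    rcases ht with rfl | rfl | rfl | rfl | rfl <;>
    rcases hs1 with rfl | rfl <;> rcases hs2 with rfl | rfl <;> rcases hε with rfl | rfl <;>
    omega

end arith

end Cfsg.Agent.Lib.Helper4.Ord2520
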