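import Mathlib
import Cfsg.Agent.Lib.Helper4.Ord2520c
import Cfsg.Agent.Lib.Helper4.M11o
import Cfsg.Agent.Lib.Helper6.GaloisPerm
import Cfsg.Agent.Lib.Helper6.BG17
import Cfsg.Agent.Lib.Helper6.CharOps
import Cfsg.Agent.Lib.Helper6.DegreeDvd

/-! Order `2520`: the degree patterns `{3,3}` and `{4,4}` do not occur. -/

set_option autoImplicit false
set_option linter.unusedSectionVars false
set_option linter.unusedVariables false
set_option linter.style.longLine false
set_option linter.unusedSimpArgs false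
set_option linter.unusedDecidableInType false

set_option maxHeartbeats 1600000

namespace Cfsg.Agent.Lib.Helper4.Ord2520

open Cfsg Cfsg.Agent.Lib.Helper6 Module
open Cfsg.Agent.Lib.Lead Cfsg.Agent.Lib.Lead.SylowCount Cfsg.Agent.Lib.Lead.SmallSimple2
  Cfsg.Agent.Lib.Helper7.CountTools Cfsg.Agent.Lib.Helper7.SylPar Cfsg.Agent.Lib.Helper4.Ord5040
  Cfsg.Agent.Lib.Helper5.BrauerSmall
open scoped ComplexConjugate

section main

variable {G : Type*} [Group G] [Fintype G]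

theorem exists_noncomm [IsSimpleGroup G] (hG : Nat.card G = 2520) : ∃ a b : G, a * b ≠ b * a := by
  by_contra hcomm
  push Not at hcomm
  exact not_comm hG ⟨⟨hcomm⟩⟩

/-- a nontrivial irreducible character of a simple group is faithful -/
theorem eq_one_of_apply_eq [IsSimpleGroup G] (hG : Nat.card G = 2520) (χ : Cfsg.IrrCharacter G)
    (hd : Cfsg.charDegree (χ : G → ℂ) ≠ 1) {g : G}
    (h : (χ : G → ℂ) g = (Cfsg.charDegree (χ : G → ℂ) : ℂ)) : g = 1 := by
  obtain ⟨n, ρ, hirr, hρ⟩ := χ.2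
  haveI := hirr
  have hfin : Cfsg.charDegree (χ : G → ℂ) = finrank ℂ (Fin n → ℂ) := by
    rw [← hρ]; exact charDegree_character ρ
  have h1 : ρ.character g = (finrank ℂ (Fin n → ℂ) : ℂ) := by
    rw [hρ, h, hfin]
  have h2 := (character_eq_finrank_iff ρ g).mp h1
  exact Cfsg.Agent.Lib.Helper4.M11.eq_one_of_scalar (exists_noncomm hG) ρ (by rw [← hfin]; exact hd)
    (c := 1) (by rw [h2, one_smul])

variable [Fintype (Cfsg.IrrCharacter G)] [DecidableEq (Cfsg.IrrCharacter G)]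
variable {P : Sylow 7 G} {a b θ1 θ2 : Cfsg.IrrCharacter G} {s1 s2 ε : ℤ}

theorem Blk7.swap (B : Blk7 P a b θ1 θ2 s1 s2 ε) : Blk7 P b a θ1 θ2 s2 s1 ε where
  ha1 := B.hb1
  hb1 := B.ha1
  hab := B.hab.symm
  hθ12 := B.hθ12
  hθ1o := B.hθ1o
  hθ1a := B.hθ1b
  hθ1b := B.hθ1a
  hθ2o := B.hθ2o
  hθ2a := B.hθ2b
  hθ2b := B.hθ2a
  cover := by
    intro χ
    rcases B.cover χ with h | h | h | h | h | h
    · exact Or.inl h
    · exact Or.inr (Or.inr (Or.inl h))
    · exact Or.inr (Or.inl h)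
    · exact Or.inr (Or.inr (Or.inr (Or.inl h)))
    · exact Or.inr (Or.inr (Or.inr (Or.inr (Or.inl h))))
    · exact Or.inr (Or.inr (Or.inr (Or.inr (Or.inr h))))
  hs1 := B.hs2
  hs2 := B.hs1
  hε := B.hε
  ma := B.mb
  mb := B.ma
  mθ1 := B.mθ1
  mθ2 := B.mθ2
  val := fun x hx hx1 => ⟨(B.val x hx hx1).2, (B.val x hx hx1).1⟩
  rel := by
    intro g hg
    obtain ⟨h1, h2⟩ := B.rel g hg
    constructor
    · rw [h1]; ring
    · rw [h2]; ring

theorem charDegree_oneIrr : Cfsg.charDegree ((oneIrr G : Cfsg.IrrCharacter G) : G → ℂ) = 1 := by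
  have := apply_one (oneIrr G)
  have h2 : ((oneIrr G : Cfsg.IrrCharacter G) : G → ℂ) 1 = 1 := rfl
  rw [h2] at this
  exact_mod_cast this.symm

/-- the pattern `{1, 15, 20 | 4, 4}` does not occur -/
theorem Blk7.not_pattern4 [IsSimpleGroup G] (hG : Nat.card G = 2520)
    (B : Blk7 P a b θ1 θ2 s1 s2 ε) (hda : Cfsg.charDegree (a : G → ℂ) = 15)
    (hdb : Cfsg.charDegree (b : G → ℂ) = 20) (hdt : Cfsg.charDegree (θ1 : G → ℂ) = 4) : False := by
  classical
  haveI : Fact (Nat.Prime 7) := ⟨by norm_num⟩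
  have hP : Nat.card (P : Subgroup G) = 7 := card7 hG P
  obtain ⟨y, hyP, hyo⟩ := exists_orderOf_eq (P : Subgroup G) 7 (by rw [hP])
  have hy1 : y ≠ 1 := by
    rintro rfl
    rw [orderOf_one] at hyo
    omega
  have hy7 : 7 ∣ orderOf y := by rw [hyo]
  have hs1 : s1 = 1 := by
    have := B.ma
    rw [hda] at this
    unfold Int.ModEq at this
    rcases B.hs1 with h | h
    · exact h
    · rw [h] at this; omega
  have hs2 : s2 = -1 := by
    have := B.mb
    rw [hdb] at this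
    unfold Int.ModEq at this
    rcases B.hs2 with h | h
    · rw [h] at this; omega
    · exact h
  have hε : ε = -1 := by
    have := B.mθ1
    rw [hdt] at this
    unfold Int.ModEq at this
    rcases B.hε with h | h
    · rw [h] at this; omega
    · exact h
  obtain ⟨hsum, hsq⟩ := B.theta_values hG hyP hy1
  obtain ⟨hva, hvb⟩ := B.val y hyP hy1
  rw [hs1] at hva
  rw [hs2] at hvb
  rw [hε] at hsum
  push_cast at hva hvb hsum
  set u := (θ1 : G → ℂ) y with hu
  set v := (θ2 : G → ℂ) y with hv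
  have hv' : v = 1 - u := by linear_combination hsum
  have hquad : u ^ 2 - u + 2 = 0 := by
    rw [hv'] at hsq
    linear_combination hsq / 2
  -- the decomposition of the square of `θ1`
  have hψ : Cfsg.IsCharacter G (fun g => (θ1 : G → ℂ) g * (θ1 : G → ℂ) g) :=
    IsCharacter.mul (IsIrrCharacter.isCharacter θ1.2) (IsIrrCharacter.isCharacter θ1.2)
  obtain ⟨m, hm, -⟩ := IsCharacter.exists_mult hψ
  have e1 := apply_eq_sum_mult hm 1
  have ey := apply_eq_sum_mult hm y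
  rw [B.sum_split (fun χ => (m χ : ℂ) * (χ : G → ℂ) y)
    (fun χ h7 => by rw [vanish7 hG χ h7 hy7, mul_zero])] at ey
  have h1y : ((oneIrr G : Cfsg.IrrCharacter G) : G → ℂ) y = 1 := rfl
  rw [h1y, hva, hvb, ← hu, ← hv] at ey
  -- the degree equation
  have e1' : ∑ χ : Cfsg.IrrCharacter G, m χ * Cfsg.charDegree (χ : G → ℂ) = 16 := by
    have : ((∑ χ : Cfsg.IrrCharacter G, m χ * Cfsg.charDegree (χ : G → ℂ) : ℕ) : ℂ) = 16 := by
      push_cast
      rw [apply_one, hdt] at e1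
      rw [show ((4 : ℕ) : ℂ) * ((4 : ℕ) : ℂ) = 16 by norm_num] at e1
      rw [e1]
      apply Finset.sum_congr rfl
      intro χ _
      rw [apply_one]
    exact_mod_cast this
  have hmb : m b * 20 ≤ 16 := by
    have := Finset.single_le_sum (f := fun χ : Cfsg.IrrCharacter G =>
      m χ * Cfsg.charDegree (χ : G → ℂ)) (fun _ _ => Nat.zero_le _) (Finset.mem_univ b)
    rw [e1', hdb] at this
    exact this
  have hmb0 : m b = 0 := by omega
  -- the value at `y`
  have key : ((1 - (m θ1 : ℤ) + (m θ2 : ℤ) : ℤ) : ℂ) * u =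
      (((m (oneIrr G) : ℤ) + (m a : ℤ) + (m θ2 : ℤ) + 2 : ℤ) : ℂ) := by
    rw [hmb0] at ey
    rw [hv'] at ey
    push_cast
    have hu2 : u * u = u - 2 := by linear_combination hquad
    rw [hu2] at ey
    linear_combination ey
  -- `u` is not real
  have hnr : ∀ r : ℝ, u ≠ (r : ℂ) := by
    intro r hr
    rw [hr] at hquad
    have : (r ^ 2 - r + 2 : ℝ) = 0 := by exact_mod_cast hquad
    nlinarith [sq_nonneg (r - 1 / 2)]
  by_cases hc : (1 - (m θ1 : ℤ) + (m θ2 : ℤ) : ℤ) = 0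
  · rw [hc] at key
    simp only [Int.cast_zero, zero_mul] at key
    have : ((m (oneIrr G) : ℤ) + (m a : ℤ) + (m θ2 : ℤ) + 2 : ℤ) = 0 := by exact_mod_cast key.symm
    omega
  · have hc' : ((1 - (m θ1 : ℤ) + (m θ2 : ℤ) : ℤ) : ℂ) ≠ 0 := by exact_mod_cast hc
    have hu' : u = ((((m (oneIrr G) : ℤ) + (m a : ℤ) + (m θ2 : ℤ) + 2 : ℤ) : ℂ)) /
        ((1 - (m θ1 : ℤ) + (m θ2 : ℤ) : ℤ) : ℂ) := by
      rw [eq_div_iff hc', mul_comm]
      exact key
    apply hnr ((((m (oneIrr G) : ℤ) + (m a : ℤ) + (m θ2 : ℤ) + 2 : ℤ) : ℝ) /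
      ((1 - (m θ1 : ℤ) + (m θ2 : ℤ) : ℤ) : ℝ))
    rw [hu']
    push_cast
    ring

end main

end Cfsg.Agent.Lib.Helper4.Ord2520
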