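import Mathlib
import Cfsg.Agent.Lib.Helper4.Ord2520d

/-! Order `2520`: the degree pattern `{3,3}` does not occur. -/

set_option autoImplicit false
set_option linter.unusedSectionVars false
set_option linter.unusedVariables false
set_option linter.style.longLine false
set_option linter.unusedSimpArgs false
set_option linter.unusedDecidableInType false
set_option linter.style.haveILetI false

set_option maxHeartbeats 1600000

namespace Cfsg.Agent.Lib.Helper4.Ord2520

open Cfsg Cfsg.Agent.Lib.Helper6 Module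
open Cfsg.Agent.Lib.Lead Cfsg.Agent.Lib.Lead.SylowCount Cfsg.Agent.Lib.Lead.SmallSimple2
  Cfsg.Agent.Lib.Helper7.CountTools Cfsg.Agent.Lib.Helper7.SylPar Cfsg.Agent.Lib.Helper4.Ord5040
  Cfsg.Agent.Lib.Helper5.BrauerSmall
open scoped ComplexConjugate

section main

variable {G : Type*} [Group G] [Fintype G]

theorem sum_zpowers_range {x : G} {n : ℕ} (hx : orderOf x = n) (hn : 0 < n)
    [Fintype (Subgroup.zpowers x)] (f : G → ℂ) :
    ∑ e : Subgroup.zpowers x, f (e : G) = ∑ i ∈ Finset.range n, f (x ^ i) := by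
  have hfin : IsOfFinOrder x := by
    rw [← orderOf_pos_iff, hx]; exact hn
  rw [← Equiv.sum_comp (finEquivZPowers hfin)]
  simp only [finEquivZPowers_apply]
  rw [Fin.sum_univ_eq_sum_range (fun k => f (x ^ k)) (orderOf x), hx]

theorem norm_le_degree (χ : Cfsg.IrrCharacter G) (g : G) :
    ‖(χ : G → ℂ) g‖ ≤ (Cfsg.charDegree (χ : G → ℂ) : ℝ) := by
  obtain ⟨n, ρ, hρ⟩ := IsIrrCharacter.isCharacter χ.2
  rw [← hρ, charDegree_character]
  exact norm_character_le ρ g

variable [Fintype (Cfsg.IrrCharacter G)] [DecidableEq (Cfsg.IrrCharacter G)]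
variable {P : Sylow 7 G} {a b θ1 θ2 : Cfsg.IrrCharacter G} {s1 s2 ε : ℤ}

/-- a linear character of a simple group of order `2520` is trivial -/
theorem eq_oneIrr_of_degree_one [IsSimpleGroup G] (hG : Nat.card G = 2520)
    (χ : Cfsg.IrrCharacter G) (h1 : Cfsg.charDegree (χ : G → ℂ) = 1) : χ = oneIrr G := by
  classical
  haveI : Fact (Nat.Prime 7) := ⟨by norm_num⟩
  obtain ⟨P⟩ : Nonempty (Sylow 7 G) := inferInstance
  obtain ⟨hn7, hC7, hN7⟩ := sylow7_data hG
  have hP : Nat.card (P : Subgroup G) = 7 := card7 hG P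
  have hC : Subgroup.centralizer ((P : Subgroup G) : Set G) = (P : Subgroup G) :=
    (Subgroup.eq_of_le_of_card_ge (sylow_le_centralizer P hP) (by rw [hC7 P, hP])).symm
  obtain ⟨M7, hM7⟩ := exists_isPModular 7
  have hχB : χ ∈ Cfsg.principalBlock M7 G :=
    mem_principalBlock_of_not_dvd P hP hC hM7 χ (by rw [h1]; norm_num)
  have h2 : (χ : G → ℂ) 1 = ((7 : ℕ) : ℂ) ^ 0 := by rw [apply_one, h1]; simp
  exact Subtype.ext (Cfsg.Agent.S0910.result 7 M7 hM7 (exists_noncomm hG) χ hχB 0 h2)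

/-- the pattern `{1, 6, 8 | 3, 3}` does not occur -/
theorem Blk7.not_pattern3 [IsSimpleGroup G] (hG : Nat.card G = 2520)
    (B : Blk7 P a b θ1 θ2 s1 s2 ε) (hda : Cfsg.charDegree (a : G → ℂ) ≠ 3)
    (hdb : Cfsg.charDegree (b : G → ℂ) ≠ 3) (hdt : Cfsg.charDegree (θ1 : G → ℂ) = 3) : False := by
  classical
  haveI : Fact (Nat.Prime 5) := ⟨by norm_num⟩
  have hdt2 : Cfsg.charDegree (θ2 : G → ℂ) = 3 := by rw [B.deg_eq, hdt]
  have hdeg3 : ∀ χ : Cfsg.IrrCharacter G, Cfsg.charDegree (χ : G → ℂ) = 3 → χ = θ1 ∨ χ = θ2 := by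
    intro χ h3
    rcases B.cover χ with h | h | h | h | h | h
    · exfalso; rw [h, charDegree_oneIrr] at h3; omega
    · exfalso; rw [h] at h3; exact hda h3
    · exfalso; rw [h] at h3; exact hdb h3
    · exact Or.inl h
    · exact Or.inr h
    · exfalso; rw [h3] at h; omega
  have hεne : (ε : ℂ) ≠ 0 := by
    rcases B.hε with h | h <;> rw [h] <;> norm_num
  -- the sum of the two exceptional characters is invariant under the power maps
  have hψ : Cfsg.IsCharacter G (fun g => (θ1 : G → ℂ) g + (θ2 : G → ℂ) g) :=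
    IsCharacter.add (IsIrrCharacter.isCharacter θ1.2) (IsIrrCharacter.isCharacter θ2.2)
  have hpow : ∀ k : ℕ, k.Coprime (Nat.card G) → ∀ g : G,
      (θ1 : G → ℂ) (g ^ k) + (θ2 : G → ℂ) (g ^ k) = (θ1 : G → ℂ) g + (θ2 : G → ℂ) g := by
    intro k hk g
    have e1 := hdeg3 (powIrr k hk θ1) (by rw [charDegree_powIrr, hdt])
    have e2 := hdeg3 (powIrr k hk θ2) (by rw [charDegree_powIrr, hdt2])
    have hne : powIrr k hk θ1 ≠ powIrr k hk θ2 := fun h => B.hθ12 (powIrr_injective k hk h)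
    rw [← powIrr_apply k hk θ1 g, ← powIrr_apply k hk θ2 g]
    rcases e1 with e1 | e1 <;> rcases e2 with e2 | e2
    · exfalso; exact hne (e1.trans e2.symm)
    · rw [e1, e2]
    · rw [e1, e2, add_comm]
    · exfalso; exact hne (e1.trans e2.symm)
  obtain ⟨x, hx⟩ := exists_prime_orderOf_dvd_card' (G := G) 5 (by rw [hG]; norm_num)
  have hx5 : x ^ 5 = 1 := by rw [← hx]; exact pow_orderOf_eq_one x
  have hreg : ∀ i : ℕ, ¬ 7 ∣ orderOf (x ^ i) := by
    intro i h7
    have := h7.trans (orderOf_pow_dvd i)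
    rw [hx] at this
    omega
  have heq : ∀ i : ℕ, (θ2 : G → ℂ) (x ^ i) = (θ1 : G → ℂ) (x ^ i) := by
    intro i
    obtain ⟨h1, h2⟩ := B.rel (x ^ i) (hreg i)
    exact mul_left_cancel₀ hεne (h2.trans h1.symm)
  obtain ⟨z, hz⟩ := BG.int_of_pow_invariant hψ hpow x
  have heq1 := heq 1
  rw [pow_one] at heq1
  rw [heq1] at hz
  have hint : IsIntegral ℤ ((θ1 : G → ℂ) x) :=
    IsCharacter.isIntegral_apply (IsIrrCharacter.isCharacter θ1.2) x
  have hq : (θ1 : G → ℂ) x = (((z : ℚ) / 2 : ℚ) : ℂ) := by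
    push_cast
    linear_combination hz / 2
  rw [hq] at hint
  obtain ⟨m, hm⟩ := int_of_isIntegral_ratCast hint
  have hm' : (θ1 : G → ℂ) x = (m : ℂ) := by
    rw [hq, ← hm]
    push_cast
    rfl
  -- the other powers
  have hpw : ∀ k i : ℕ, k.Coprime 2520 → x ^ k = x ^ i → (θ1 : G → ℂ) (x ^ i) = (m : ℂ) := by
    intro k i hk hki
    have h1 := hpow k (by rw [hG]; exact hk) x
    rw [hki, heq i, heq1, hm'] at h1
    linear_combination h1 / 2
  have hxk : ∀ q r : ℕ, x ^ (5 * q + r) = x ^ r := by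
    intro q r
    rw [pow_add, pow_mul, hx5, one_pow, one_mul]
  have h2 := hpw 17 2 (by norm_num) (hxk 3 2)
  have h3 := hpw 13 3 (by norm_num) (hxk 2 3)
  have h4 := hpw 19 4 (by norm_num) (hxk 3 4)
  haveI : Fintype (Subgroup.zpowers x) := Fintype.ofFinite _
  obtain ⟨n0, hn0⟩ := Cfsg.Agent.Lib.Helper4.M11.exists_nat_sum
    (IsIrrCharacter.isCharacter θ1.2) (Subgroup.zpowers x)
  rw [sum_zpowers_range hx (by norm_num), Nat.card_zpowers, hx] at hn0
  rw [Finset.sum_range_succ, Finset.sum_range_succ, Finset.sum_range_succ, Finset.sum_range_succ,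
    Finset.sum_range_one, pow_zero, pow_one, apply_one, hdt, hm', h2, h3, h4] at hn0
  have hn0' : (3 : ℤ) + 4 * m = 5 * n0 := by
    have : ((3 + 4 * m : ℤ) : ℂ) = ((5 * n0 : ℤ) : ℂ) := by
      push_cast
      push_cast at hn0
      linear_combination hn0
    exact_mod_cast this
  have hbd := norm_le_degree θ1 x
  rw [hm', hdt] at hbd
  have hbd' : |(m : ℝ)| ≤ 3 := by
    have : ‖((m : ℂ))‖ = |(m : ℝ)| := by
      rw [show ((m : ℂ)) = ((m : ℝ) : ℂ) by push_cast; rfl, Complex.norm_real, Real.norm_eq_abs]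
    rw [this] at hbd
    exact_mod_cast hbd
  have hbd2 : -3 ≤ m ∧ m ≤ 3 := by
    have := abs_le.mp hbd'
    constructor
    · exact_mod_cast this.1
    · exact_mod_cast this.2
  have hm3 : m = 3 := by omega
  have hx1 : x = 1 := by
    apply eq_one_of_apply_eq hG θ1 (by rw [hdt]; norm_num)
    rw [hm', hdt, hm3]
    norm_num
  rw [hx1, orderOf_one] at hx
  omega

end main

end Cfsg.Agent.Lib.Helper4.Ord2520
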