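import Mathlib
import Cfsg.Agent.Lib.Helper4.Ord2520e
import Cfsg.Agent.Lib.Helper4.M11v

/-! Order `2520`: the determinant of a representation of a perfect group is trivial; values of
characters at involutions and at elements of order `4`. -/

set_option autoImplicit false
set_option linter.unusedSectionVars false
set_option linter.unusedVariables false
set_option linter.style.longLine false
set_option linter.unusedSimpArgs false
set_option linter.unusedDecidableInType false
set_option linter.style.haveILetI false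

set_option maxHeartbeats 1600000

namespace Cfsg.Agent.Lib.Helper4.Ord2520

open Cfsg Cfsg.Agent.Lib.Helper6 Module
open Cfsg.Agent.Lib.Helper4.M11
open scoped ComplexConjugate

section det

theorem I_pow_eq_one {n : ℕ} (h : Complex.I ^ n = 1) : 4 ∣ n := by
  have h4 : Complex.I ^ 4 = 1 := Complex.I_pow_four
  have hn : n = 4 * (n / 4) + n % 4 := (Nat.div_add_mod n 4).symm
  rw [hn, pow_add, pow_mul, h4, one_pow, one_mul] at h
  have hlt : n % 4 < 4 := Nat.mod_lt n (by norm_num)
  have hI2 : Complex.I ^ 2 = -1 := Complex.I_sq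
  have hI3 : Complex.I ^ 3 = -Complex.I := by
    calc Complex.I ^ 3 = Complex.I ^ 2 * Complex.I := by ring
      _ = -Complex.I := by rw [hI2]; ring
  interval_cases hr : n % 4
  · omega
  · exfalso; rw [pow_one] at h; exact I_ne_one h
  · exfalso; rw [hI2] at h; exact one_ne_neg_one_C h.symm
  · exfalso; rw [hI3] at h; exact neg_I_ne_one h

/-- counting the eigenvalues which are fourth roots of unity -/
theorem eigen_count {ι : Type*} [Fintype ι] (μ : ι → ℂ) (hμ : ∀ i, μ i ^ 4 = 1) :
    ∃ n1 n2 n3 n4 : ℕ, Fintype.card ι = n1 + n2 + n3 + n4 ∧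
      ∑ i, μ i = (n1 : ℂ) - (n2 : ℂ) + ((n3 : ℂ) - (n4 : ℂ)) * Complex.I ∧
      ∑ i, μ i ^ 2 = (n1 : ℂ) + (n2 : ℂ) - (n3 : ℂ) - (n4 : ℂ) ∧
      ∏ i, μ i = Complex.I ^ (2 * n2 + n3 + 3 * n4) ∧
      ((∀ i, μ i ^ 2 = 1) → n3 = 0 ∧ n4 = 0) := by
  classical
  have hI2 : Complex.I ^ 2 = -1 := Complex.I_sq
  have hI3 : Complex.I ^ 3 = -Complex.I := by
    calc Complex.I ^ 3 = Complex.I ^ 2 * Complex.I := by ring
      _ = -Complex.I := by rw [hI2]; ring
  have hcases : ∀ i, μ i = 1 ∨ μ i = -1 ∨ μ i = Complex.I ∨ μ i = -Complex.I := by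
    intro i
    have h4 : (μ i - 1) * ((μ i + 1) * ((μ i - Complex.I) * (μ i + Complex.I))) = 0 := by
      have h5 : (μ i - 1) * ((μ i + 1) * ((μ i - Complex.I) * (μ i + Complex.I))) =
          (μ i ^ 2 - 1) * (μ i ^ 2 - Complex.I ^ 2) := by ring
      rw [h5, hI2]
      have h6 : (μ i ^ 2 - 1) * (μ i ^ 2 - -1) = μ i ^ 4 - 1 := by ring
      rw [h6, hμ i, sub_self]
    rcases mul_eq_zero.mp h4 with h5 | h5
    · left; exact sub_eq_zero.mp h5
    · rcases mul_eq_zero.mp h5 with h6 | h6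
      · right; left; exact eq_neg_of_add_eq_zero_left h6
      · rcases mul_eq_zero.mp h6 with h7 | h7
        · right; right; left; exact sub_eq_zero.mp h7
        · right; right; right; exact eq_neg_of_add_eq_zero_left h7
  set n1 := (Finset.univ.filter (fun i => μ i = 1)).card with hn1
  set n2 := (Finset.univ.filter (fun i => μ i = -1)).card with hn2
  set n3 := (Finset.univ.filter (fun i => μ i = Complex.I)).card with hn3
  set n4 := (Finset.univ.filter (fun i => μ i = -Complex.I)).card with hn4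
  have hform : ∀ i, μ i = (if μ i = 1 then (1 : ℂ) else 0) + (if μ i = -1 then (1 : ℂ) else 0) * (-1)
      + (if μ i = Complex.I then (1 : ℂ) else 0) * Complex.I
      + (if μ i = -Complex.I then (1 : ℂ) else 0) * (-Complex.I) := by
    intro i
    rcases hcases i with h4 | h4 | h4 | h4
    · rw [h4, if_pos rfl, if_neg one_ne_neg_one_C, if_neg (Ne.symm I_ne_one),
        if_neg (Ne.symm neg_I_ne_one)]; ring
    · rw [h4, if_neg (Ne.symm one_ne_neg_one_C), if_pos rfl, if_neg (Ne.symm I_ne_neg_one),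
        if_neg (Ne.symm neg_I_ne_neg_one)]; ring
    · rw [h4, if_neg I_ne_one, if_neg I_ne_neg_one, if_pos rfl, if_neg I_ne_neg_I]; ring
    · rw [h4, if_neg neg_I_ne_one, if_neg neg_I_ne_neg_one, if_neg (Ne.symm I_ne_neg_I),
        if_pos rfl]; ring
  have hform2 : ∀ i, μ i ^ 2 = (if μ i = 1 then (1 : ℂ) else 0) +
      (if μ i = -1 then (1 : ℂ) else 0)
      + (if μ i = Complex.I then (1 : ℂ) else 0) * (-1)
      + (if μ i = -Complex.I then (1 : ℂ) else 0) * (-1) := by
    intro i
    rcases hcases i with h4 | h4 | h4 | h4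
    · rw [h4, if_pos rfl, if_neg one_ne_neg_one_C, if_neg (Ne.symm I_ne_one),
        if_neg (Ne.symm neg_I_ne_one)]; ring
    · rw [h4, if_neg (Ne.symm one_ne_neg_one_C), if_pos rfl, if_neg (Ne.symm I_ne_neg_one),
        if_neg (Ne.symm neg_I_ne_neg_one)]; ring
    · rw [h4, if_neg I_ne_one, if_neg I_ne_neg_one, if_pos rfl, if_neg I_ne_neg_I, hI2]; ring
    · rw [h4, if_neg neg_I_ne_one, if_neg neg_I_ne_neg_one, if_neg (Ne.symm I_ne_neg_I),
        if_pos rfl, neg_sq, hI2]; ring
  have hone : ∀ i, (1 : ℕ) = (if μ i = 1 then 1 else 0) + (if μ i = -1 then 1 else 0)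
      + (if μ i = Complex.I then 1 else 0) + (if μ i = -Complex.I then 1 else 0) := by
    intro i
    rcases hcases i with h4 | h4 | h4 | h4
    · rw [h4, if_pos rfl, if_neg one_ne_neg_one_C, if_neg (Ne.symm I_ne_one),
        if_neg (Ne.symm neg_I_ne_one)]
    · rw [h4, if_neg (Ne.symm one_ne_neg_one_C), if_pos rfl, if_neg (Ne.symm I_ne_neg_one),
        if_neg (Ne.symm neg_I_ne_neg_one)]
    · rw [h4, if_neg I_ne_one, if_neg I_ne_neg_one, if_pos rfl, if_neg I_ne_neg_I]
    · rw [h4, if_neg neg_I_ne_one, if_neg neg_I_ne_neg_one, if_neg (Ne.symm I_ne_neg_I),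
        if_pos rfl]
  have hexp : ∀ i, μ i = Complex.I ^ (2 * (if μ i = -1 then 1 else 0)
      + (if μ i = Complex.I then 1 else 0) + 3 * (if μ i = -Complex.I then 1 else 0)) := by
    intro i
    rcases hcases i with h4 | h4 | h4 | h4
    · rw [h4, if_neg one_ne_neg_one_C, if_neg (Ne.symm I_ne_one), if_neg (Ne.symm neg_I_ne_one)]
      simp
    · rw [h4, if_pos rfl, if_neg (Ne.symm I_ne_neg_one), if_neg (Ne.symm neg_I_ne_neg_one)]
      simp
    · rw [h4, if_neg I_ne_neg_one, if_pos rfl, if_neg I_ne_neg_I]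
      simp
    · rw [h4, if_neg neg_I_ne_neg_one, if_neg (Ne.symm I_ne_neg_I), if_pos rfl]
      simp [hI3]
  refine ⟨n1, n2, n3, n4, ?_, ?_, ?_, ?_, ?_⟩
  · have : ∑ _i : ι, (1 : ℕ) = n1 + n2 + n3 + n4 := by
      rw [Finset.sum_congr rfl (fun i _ => hone i), Finset.sum_add_distrib,
        Finset.sum_add_distrib, Finset.sum_add_distrib, Finset.sum_boole, Finset.sum_boole,
        Finset.sum_boole, Finset.sum_boole]
      simp
      rfl
    rw [← this]
    simp
  · rw [Finset.sum_congr rfl (fun i _ => hform i), Finset.sum_add_distrib,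
      Finset.sum_add_distrib, Finset.sum_add_distrib, ← Finset.sum_mul, ← Finset.sum_mul,
      ← Finset.sum_mul, Finset.sum_boole, Finset.sum_boole, Finset.sum_boole, Finset.sum_boole]
    ring
  · rw [Finset.sum_congr rfl (fun i _ => hform2 i), Finset.sum_add_distrib,
      Finset.sum_add_distrib, Finset.sum_add_distrib, ← Finset.sum_mul, ← Finset.sum_mul,
      Finset.sum_boole, Finset.sum_boole, Finset.sum_boole, Finset.sum_boole]
    ring
  · rw [Finset.prod_congr rfl (fun i _ => hexp i), Finset.prod_pow_eq_pow_sum]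
    congr 1
    rw [Finset.sum_add_distrib, Finset.sum_add_distrib, ← Finset.mul_sum, ← Finset.mul_sum,
      Finset.sum_boole, Finset.sum_boole, Finset.sum_boole]
    simp
    rfl
  · intro hsq
    constructor
    · rw [hn3, Finset.card_eq_zero, Finset.filter_eq_empty_iff]
      intro i _ hi
      have := hsq i
      rw [hi, hI2] at this
      exact one_ne_neg_one_C this.symm
    · rw [hn4, Finset.card_eq_zero, Finset.filter_eq_empty_iff]
      intro i _ hi
      have := hsq i
      rw [hi, neg_sq, hI2] at this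
      exact one_ne_neg_one_C this.symm

variable {G : Type*} [Group G]

/-- a homomorphism from a non-abelian simple group to a commutative monoid is trivial -/
theorem hom_trivial [IsSimpleGroup G] (hna : ∃ a b : G, a * b ≠ b * a) {M : Type*} [CommMonoid M]
    (φ : G →* M) (g : G) : φ g = 1 := by
  rcases (inferInstance : (MonoidHom.ker φ).Normal).eq_bot_or_eq_top with h | h
  · exfalso
    obtain ⟨a, b, hab⟩ := hna
    apply hab
    have h1 : a * b * (b * a)⁻¹ ∈ MonoidHom.ker φ := by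
      rw [MonoidHom.mem_ker, mul_inv_rev, map_mul, map_mul, map_mul]
      calc φ a * φ b * (φ a⁻¹ * φ b⁻¹) = (φ a * φ a⁻¹) * (φ b * φ b⁻¹) := by
            rw [mul_mul_mul_comm]
        _ = 1 := by rw [← map_mul, ← map_mul, mul_inv_cancel, mul_inv_cancel, map_one, one_mul]
    rw [h, Subgroup.mem_bot] at h1
    exact mul_inv_eq_one.mp h1
  · have h1 : g ∈ MonoidHom.ker φ := by rw [h]; exact Subgroup.mem_top g
    exact MonoidHom.mem_ker.mp h1

theorem det_rep_eq_one [IsSimpleGroup G] (hna : ∃ a b : G, a * b ≠ b * a) {V : Type*}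
    [AddCommGroup V] [Module ℂ V] (ρ : Representation ℂ G V) (g : G) :
    LinearMap.det (ρ g) = 1 :=
  hom_trivial hna (LinearMap.det.comp (ρ : G →* (V →ₗ[ℂ] V))) g

theorem det_eq_prod_of_eigenbasis {ι : Type*} [Fintype ι] {V : Type*} [AddCommGroup V]
    [Module ℂ V] (b : Basis ι ℂ V) (μ : ι → ℂ) (f : V →ₗ[ℂ] V) (h : ∀ i, f (b i) = μ i • b i) :
    LinearMap.det f = ∏ i, μ i := by
  classical
  rw [← LinearMap.det_toMatrix b]
  have : LinearMap.toMatrix b b f = Matrix.diagonal μ := by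
    ext i j
    rw [LinearMap.toMatrix_apply, h j, map_smul, Basis.repr_self, Finsupp.smul_apply,
      Finsupp.single_apply, Matrix.diagonal_apply]
    by_cases hij : i = j
    · subst hij; simp
    · rw [if_neg (Ne.symm hij), if_neg hij]; simp
  rw [this, Matrix.det_diagonal]

variable [Finite G]

/-- the value of a character of a perfect group at an involution -/
theorem apply_involution_det [IsSimpleGroup G] (hna : ∃ a b : G, a * b ≠ b * a) {χ : G → ℂ}
    (hχ : Cfsg.IsCharacter G χ) (t : G) (ht : orderOf t = 2) :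
    ∃ k : ℕ, 2 * k ≤ Cfsg.charDegree χ ∧ χ t = (Cfsg.charDegree χ : ℂ) - 4 * (k : ℂ) := by
  classical
  obtain ⟨n, ρ, rfl⟩ := hχ
  obtain ⟨ι, _, b, μ, h, hμ⟩ := exists_eigenbasis_rep ρ t
  rw [ht] at hμ
  have h1 : ρ.character t = ∑ i, μ i := trace_eq_sum_of_eigenbasis b μ (ρ t) h
  have hdeg : Cfsg.charDegree ρ.character = Fintype.card ι := by
    rw [charDegree_character, finrank_eq_card_basis b]
  have hdet : ∏ i, μ i = 1 := by
    rw [← det_eq_prod_of_eigenbasis b μ (ρ t) h]
    exact det_rep_eq_one hna ρ t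
  obtain ⟨n1, n2, n3, n4, hcard, hsum, -, hprod, hz⟩ := eigen_count μ (fun i => by
    have := hμ i
    calc μ i ^ 4 = (μ i ^ 2) ^ 2 := by ring
      _ = 1 := by rw [this, one_pow])
  obtain ⟨h3, h4⟩ := hz hμ
  subst h3 h4
  rw [hprod] at hdet
  have h4 := I_pow_eq_one hdet
  obtain ⟨k, hk⟩ : ∃ k, n2 = 2 * k := ⟨n2 / 2, by omega⟩
  refine ⟨k, by rw [hdeg, hcard]; omega, ?_⟩
  rw [h1, hsum, hdeg, hcard, hk]
  push_cast
  ring

/-- the value of a character of a perfect group at an element of order `4` -/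
theorem apply_order_four_det [IsSimpleGroup G] (hna : ∃ a b : G, a * b ≠ b * a) {χ : G → ℂ}
    (hχ : Cfsg.IsCharacter G χ) (u : G) (hu : orderOf u = 4) :
    ∃ p q r s : ℕ, p + q + r + s = Cfsg.charDegree χ ∧
      χ u = ((p : ℂ) - (q : ℂ)) + ((r : ℂ) - (s : ℂ)) * Complex.I ∧
      χ (u * u) = (p : ℂ) + (q : ℂ) - (r : ℂ) - (s : ℂ) ∧ 4 ∣ 2 * q + r + 3 * s := by
  classical
  obtain ⟨n, ρ, rfl⟩ := hχ
  obtain ⟨ι, _, b, μ, h, hμ⟩ := exists_eigenbasis_rep ρ u
  rw [hu] at hμ
  have h1 : ρ.character u = ∑ i, μ i := trace_eq_sum_of_eigenbasis b μ (ρ u) h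
  have h2 : ρ.character (u * u) = ∑ i, μ i ^ 2 := by
    apply trace_eq_sum_of_eigenbasis b (fun i => μ i ^ 2) (ρ (u * u))
    intro i
    rw [map_mul, Module.End.mul_apply, h i, map_smul, h i, smul_smul, pow_two]
  have hdeg : Cfsg.charDegree ρ.character = Fintype.card ι := by
    rw [charDegree_character, finrank_eq_card_basis b]
  have hdet : ∏ i, μ i = 1 := by
    rw [← det_eq_prod_of_eigenbasis b μ (ρ u) h]
    exact det_rep_eq_one hna ρ u
  obtain ⟨n1, n2, n3, n4, hcard, hsum, hsum2, hprod, -⟩ := eigen_count μ hμ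
  rw [hprod] at hdet
  refine ⟨n1, n2, n3, n4, by rw [hdeg, hcard], ?_, ?_, I_pow_eq_one hdet⟩
  · rw [h1, hsum]
  · rw [h2, hsum2]

end det

end Cfsg.Agent.Lib.Helper4.Ord2520
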