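import Mathlib
import Cfsg.Agent.Lib.Helper4.Ord2520f

/-! Order `2520`: the principal `5`-block; there is no element of order `10`. -/

set_option autoImplicit false
set_option linter.unusedSectionVars false
set_option linter.unusedVariables false
set_option linter.style.longLine false
set_option linter.unusedSimpArgs false
set_option linter.unusedDecidableInType false
set_option linter.style.haveILetI false

set_option maxHeartbeats 1600000

namespace Cfsg.Agent.Lib.Helper4.Ord2520

open Cfsg Cfsg.Agent.Lib.Helper6 Module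
open Cfsg.Agent.Lib.Lead Cfsg.Agent.Lib.Lead.SylowCount Cfsg.Agent.Lib.Lead.SmallSimple2
  Cfsg.Agent.Lib.Helper7.CountTools Cfsg.Agent.Lib.Helper7.SylPar Cfsg.Agent.Lib.Helper4.Ord5040
  Cfsg.Agent.Lib.Helper5.BrauerSmall
open scoped ComplexConjugate

/-- the principal `5`-block of a simple group of order `2520` with self-centralizing Sylow
`5`-subgroups of full inertial index, in symmetric form -/
structure Blk5 {G : Type*} [Group G] [Fintype G] [Fintype (Cfsg.IrrCharacter G)]
    (B5 : Finset (Cfsg.IrrCharacter G)) (δ : Cfsg.IrrCharacter G → ℤ) : Prop where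
  card : B5.card = 5
  mem : ∀ χ : Cfsg.IrrCharacter G, χ ∈ B5 ↔ ¬ 5 ∣ Cfsg.charDegree (χ : G → ℂ)
  sign : ∀ χ ∈ B5, δ χ = 1 ∨ δ χ = -1
  cong : ∀ χ ∈ B5, (Cfsg.charDegree (χ : G → ℂ) : ℤ) ≡ δ χ [ZMOD 5]
  rel : ∀ g : G, ¬ 5 ∣ orderOf g → ∑ χ ∈ B5, (δ χ : ℂ) * (χ : G → ℂ) g = 0

section main

variable {G : Type*} [Group G] [Fintype G]
variable [Fintype (Cfsg.IrrCharacter G)] [DecidableEq (Cfsg.IrrCharacter G)]

theorem exists_blk5 [IsSimpleGroup G] (hG : Nat.card G = 2520) (Q : Sylow 5 G)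
    (hC5 : Nat.card (Subgroup.centralizer ((Q : Subgroup G) : Set G)) = 5)
    (hN5 : Nat.card (Subgroup.normalizer ((Q : Subgroup G) : Set G)) = 20) :
    ∃ (B5 : Finset (Cfsg.IrrCharacter G)) (δ : Cfsg.IrrCharacter G → ℤ), Blk5 B5 δ := by
  classical
  haveI : Fact (Nat.Prime 5) := ⟨by norm_num⟩
  obtain ⟨d, hd⟩ : ∃ d : Cfsg.IrrCharacter G → ℕ,
      ∀ χ : Cfsg.IrrCharacter G, Cfsg.charDegree (χ : G → ℂ) = d χ :=
    ⟨fun χ => Cfsg.charDegree (χ : G → ℂ), fun _ => rfl⟩
  have hQ : Nat.card (Q : Subgroup G) = 5 := card5 hG Q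
  have hC : Subgroup.centralizer ((Q : Subgroup G) : Set G) = (Q : Subgroup G) :=
    (Subgroup.eq_of_le_of_card_ge (sylow_le_centralizer Q hQ) (by rw [hC5, hQ])).symm
  have he : (Subgroup.centralizer ((Q : Subgroup G) : Set G)).relIndex
      (Subgroup.normalizer ((Q : Subgroup G) : Set G)) = 4 := by
    have h1 := card_mul_relIndex (Subgroup.centralizer_le_normalizer ((Q : Subgroup G) : Set G))
    rw [hC5, hN5] at h1
    omega
  obtain ⟨M5, hM5⟩ := exists_isPModular 5
  obtain ⟨XF, YF, σ, ε, hmem, hdisj, hXc, hYc, hXs, hε, hYm, hXv, hrel⟩ :=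
    Cfsg.Agent.Lib.Helper4.M11.brauer_values d hd 5 M5 hM5 (by norm_num) Q hQ 4 he
  have hYc' : YF.card = 1 := by rw [hYc]
  refine ⟨XF ∪ YF, fun χ => if χ ∈ YF then -ε else σ χ, ?_, ?_, ?_, ?_, ?_⟩
  · rw [Finset.card_union_of_disjoint hdisj, hXc, hYc']
  · intro χ
    rw [Finset.mem_union]
    constructor
    · rintro (h | h)
      · obtain ⟨hs, hm⟩ := hXs χ h
        rw [hd]
        intro h5
        have : ((d χ : ℤ)) % 5 = 0 := by omega
        unfold Int.ModEq at hm
        rcases hs with hs | hs <;> rw [hs] at hm <;> omega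
      · have hm := hYm χ h
        rw [hd]
        intro h5
        have : ((d χ : ℤ)) % 5 = 0 := by omega
        unfold Int.ModEq at hm
        rcases hε with hs | hs <;> rw [hs] at hm <;> push_cast at hm <;> omega
    · intro h
      exact (hmem χ).mp (mem_principalBlock_of_not_dvd Q hQ hC hM5 χ h)
  · intro χ hχ
    by_cases hY : χ ∈ YF
    · simp only [if_pos hY]
      rcases hε with h | h <;> rw [h] <;> norm_num
    · simp only [if_neg hY]
      rcases Finset.mem_union.mp hχ with h | h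
      · exact (hXs χ h).1
      · exact absurd h hY
  · intro χ hχ
    by_cases hY : χ ∈ YF
    · simp only [if_pos hY]
      have hm := hYm χ hY
      rw [hd]
      unfold Int.ModEq at hm ⊢
      push_cast at hm
      omega
    · simp only [if_neg hY]
      rcases Finset.mem_union.mp hχ with h | h
      · rw [hd]; exact (hXs χ h).2
      · exact absurd h hY
  · intro g hg
    rw [Finset.sum_union hdisj]
    obtain ⟨θ, hθ⟩ := Finset.card_eq_one.mp hYc'
    have hθY : θ ∈ YF := by rw [hθ]; simp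
    have h1 : ∑ χ ∈ XF, (((if χ ∈ YF then -ε else σ χ : ℤ)) : ℂ) * (χ : G → ℂ) g =
        ∑ χ ∈ XF, (σ χ : ℂ) * (χ : G → ℂ) g := by
      apply Finset.sum_congr rfl
      intro χ hχ
      rw [if_neg (Finset.disjoint_left.mp hdisj hχ)]
    rw [h1, hθ, Finset.sum_singleton, if_pos (by simp), ← hrel θ hθY g hg]
    push_cast
    ring

variable {P : Sylow 7 G} {a b θ1 θ2 : Cfsg.IrrCharacter G} {s1 s2 ε : ℤ}

/-- in the pattern `{1, 8, 15 | 24, 24}` there is no element of order `10` -/
theorem Blk7.no_ten_W [IsSimpleGroup G] (hG : Nat.card G = 2520)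
    (B : Blk7 P a b θ1 θ2 s1 s2 ε) (hda : Cfsg.charDegree (a : G → ℂ) = 8)
    (hdb : Cfsg.charDegree (b : G → ℂ) = 15) (hdt : Cfsg.charDegree (θ1 : G → ℂ) = 24)
    (g : G) : orderOf g ≠ 10 := by
  intro hg
  have h7 : ¬ 7 ∣ orderOf g := by rw [hg]; norm_num
  obtain ⟨h1, -⟩ := B.rel g h7
  rw [vanish2 hG a (by rw [hda]) (by rw [hg]; norm_num),
    vanish2 hG θ1 (by rw [hdt]; norm_num) (by rw [hg]; norm_num),
    vanish5 hG b (by rw [hdb]; norm_num) (by rw [hg]; norm_num)] at h1
  norm_num at h1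

/-- the pattern `{1, 8, 15 | 24, 24}` does not occur when the Sylow `5`-subgroups are
self-centralizing with normalizer of order `20` -/
theorem Blk7.not_pattern_W [IsSimpleGroup G] (hG : Nat.card G = 2520)
    (B : Blk7 P a b θ1 θ2 s1 s2 ε) (hda : Cfsg.charDegree (a : G → ℂ) = 8)
    {B5 : Finset (Cfsg.IrrCharacter G)} {δ : Cfsg.IrrCharacter G → ℤ} (D : Blk5 B5 δ) : False := by
  have haB : a ∈ B5 := (D.mem a).mpr (by rw [hda]; norm_num)
  have h1 := D.cong a haB
  rw [hda] at h1
  unfold Int.ModEq at h1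
  rcases D.sign a haB with h | h <;> rw [h] at h1 <;> omega

/-- in the pattern `{1, 6, 15 | 10, 10}` the character of degree `6` takes the value `1` at the
`5`-singular elements -/
theorem Blk7.six_five_singular [IsSimpleGroup G] (hG : Nat.card G = 2520)
    (B : Blk7 P a b θ1 θ2 s1 s2 ε) (hda : Cfsg.charDegree (a : G → ℂ) = 6)
    (hdb : Cfsg.charDegree (b : G → ℂ) = 15) (hdt : Cfsg.charDegree (θ1 : G → ℂ) = 10)
    {g : G} (h5 : 5 ∣ orderOf g) (h7 : ¬ 7 ∣ orderOf g) : (a : G → ℂ) g = 1 := by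
  have hs1 : s1 = -1 := by
    have := B.ma
    rw [hda] at this
    unfold Int.ModEq at this
    rcases B.hs1 with h | h
    · rw [h] at this; omega
    · exact h
  obtain ⟨h1, -⟩ := B.rel g h7
  rw [vanish5 hG θ1 (by rw [hdt]; norm_num) h5, vanish5 hG b (by rw [hdb]; norm_num) h5, hs1] at h1
  push_cast at h1
  linear_combination h1

/-- in the pattern `{1, 6, 15 | 10, 10}` there is no element of order `10` -/
theorem Blk7.no_ten_T [IsSimpleGroup G] (hG : Nat.card G = 2520)
    (B : Blk7 P a b θ1 θ2 s1 s2 ε) (hda : Cfsg.charDegree (a : G → ℂ) = 6)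
    (hdb : Cfsg.charDegree (b : G → ℂ) = 15) (hdt : Cfsg.charDegree (θ1 : G → ℂ) = 10)
    (g : G) : orderOf g ≠ 10 := by
  intro hg
  have hna := exists_noncomm hG
  have hord : ∀ k : ℕ, k ≠ 0 → orderOf (g ^ k) = 10 / Nat.gcd 10 k := by
    intro k hk
    rw [orderOf_pow' g hk, hg]
  have hval : ∀ k : ℕ, k ≠ 0 → 5 ∣ 10 / Nat.gcd 10 k → (a : G → ℂ) (g ^ k) = 1 := by
    intro k hk h5
    apply B.six_five_singular hG hda hdb hdt
    · rw [hord k hk]; exact h5
    · rw [hord k hk]
      intro h7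
      have h1 : 10 / Nat.gcd 10 k ∣ 10 := Nat.div_dvd_of_dvd (Nat.gcd_dvd_left 10 k)
      have := h7.trans h1
      omega
  have ht : orderOf (g ^ 5) = 2 := by rw [hord 5 (by norm_num)]; rfl
  obtain ⟨k, hk, hkv⟩ := apply_involution_det hna (IsIrrCharacter.isCharacter a.2) (g ^ 5) ht
  rw [hda] at hk hkv
  haveI : Fintype (Subgroup.zpowers g) := Fintype.ofFinite _
  obtain ⟨n0, hn0⟩ := Cfsg.Agent.Lib.Helper4.M11.exists_nat_sum
    (IsIrrCharacter.isCharacter a.2) (Subgroup.zpowers g)
  rw [sum_zpowers_range hg (by norm_num), Nat.card_zpowers, hg] at hn0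
  rw [Finset.sum_range_succ, Finset.sum_range_succ, Finset.sum_range_succ, Finset.sum_range_succ,
    Finset.sum_range_succ, Finset.sum_range_succ, Finset.sum_range_succ, Finset.sum_range_succ,
    Finset.sum_range_succ, Finset.sum_range_one, pow_zero, apply_one, hda,
    hval 1 (by norm_num) (by decide), hval 2 (by norm_num) (by decide),
    hval 3 (by norm_num) (by decide), hval 4 (by norm_num) (by decide), hkv,
    hval 6 (by norm_num) (by decide), hval 7 (by norm_num) (by decide),
    hval 8 (by norm_num) (by decide), hval 9 (by norm_num) (by decide)] at hn0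
  have hn0' : (20 : ℤ) - 4 * k = 10 * n0 := by
    have : ((20 - 4 * k : ℤ) : ℂ) = ((10 * n0 : ℤ) : ℂ) := by
      push_cast
      push_cast at hn0
      linear_combination hn0
    exact_mod_cast this
  have hk0 : k = 0 := by omega
  have h1 : g ^ 5 = 1 := by
    apply eq_one_of_apply_eq hG a (by rw [hda]; norm_num)
    rw [hkv, hda, hk0]
    norm_num
  rw [h1, orderOf_one] at ht
  omega

end main

end Cfsg.Agent.Lib.Helper4.Ord2520
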