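import Mathlib
import Cfsg.Agent.Lib.Helper4.Ord2520g

/-! Order `2520`: the nine irreducible characters. -/

set_option autoImplicit false
set_option linter.unusedSectionVars false
set_option linter.unusedVariables false
set_option linter.style.longLine false
set_option linter.unusedSimpArgs false
set_option linter.unusedDecidableInType false
set_option linter.style.haveILetI false

set_option maxHeartbeats 1600000

namespace Cfsg.Agent.Lib.Helper4.Ord2520

open Cfsg Cfsg.Agent.Lib.Helper6 Module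
open Cfsg.Agent.Lib.Lead Cfsg.Agent.Lib.Lead.SylowCount Cfsg.Agent.Lib.Lead.SmallSimple2
  Cfsg.Agent.Lib.Helper7.CountTools Cfsg.Agent.Lib.Helper7.SylPar Cfsg.Agent.Lib.Helper4.Ord5040
  Cfsg.Agent.Lib.Helper5.BrauerSmall
open scoped ComplexConjugate

/-- the nine irreducible characters with their block relations -/
structure A7Data (G : Type*) [Group G] [Fintype G] [Fintype (Cfsg.IrrCharacter G)] where
  c6 : Cfsg.IrrCharacter G
  c15 : Cfsg.IrrCharacter G
  θ1 : Cfsg.IrrCharacter G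
  θ2 : Cfsg.IrrCharacter G
  c14 : Cfsg.IrrCharacter G
  c14' : Cfsg.IrrCharacter G
  c21 : Cfsg.IrrCharacter G
  c35 : Cfsg.IrrCharacter G
  d6 : Cfsg.charDegree (c6 : G → ℂ) = 6
  d15 : Cfsg.charDegree (c15 : G → ℂ) = 15
  dθ1 : Cfsg.charDegree (θ1 : G → ℂ) = 10
  dθ2 : Cfsg.charDegree (θ2 : G → ℂ) = 10
  d14 : Cfsg.charDegree (c14 : G → ℂ) = 14
  d14' : Cfsg.charDegree (c14' : G → ℂ) = 14
  d21 : Cfsg.charDegree (c21 : G → ℂ) = 21
  d35 : Cfsg.charDegree (c35 : G → ℂ) = 35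
  split : ∀ F : Cfsg.IrrCharacter G → ℂ, ∑ χ, F χ = F (oneIrr G) + F c6 + F c15 + F θ1 + F θ2 +
    F c14 + F c14' + F c21 + F c35
  r7 : ∀ g : G, ¬ 7 ∣ orderOf g →
    (θ1 : G → ℂ) g = 1 - (c6 : G → ℂ) g + (c15 : G → ℂ) g ∧
    (θ2 : G → ℂ) g = 1 - (c6 : G → ℂ) g + (c15 : G → ℂ) g
  r5 : ∀ g : G, ¬ 5 ∣ orderOf g →
    1 + (c6 : G → ℂ) g + (c21 : G → ℂ) g - (c14 : G → ℂ) g - (c14' : G → ℂ) g = 0

section arith

theorem deg_A (d : ℕ) (h7 : 7 ∣ d) (hdvd : d ∣ 2520) (hsq : d * d ≤ 2058)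
    (h5 : d % 5 = 1 ∨ d % 5 = 4) : d = 14 ∨ d = 21 := by
  have h4 : d ≤ 45 := by nlinarith
  interval_cases d <;> omega

theorem deg_E (d : ℕ) (h7 : 7 ∣ d) (h5 : 5 ∣ d) (h0 : 0 < d) (hsq : d * d ≤ 2058) : d = 35 := by
  have h4 : d ≤ 45 := by nlinarith
  interval_cases d <;> omega

end arith

section main

variable {G : Type*} [Group G] [Fintype G]

theorem degree_dvd (hG : Nat.card G = 2520) (χ : Cfsg.IrrCharacter G) :
    Cfsg.charDegree (χ : G → ℂ) ∣ 2520 := by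
  rw [← hG]
  exact IsIrrCharacter.charDegree_dvd_card χ.2

variable [Fintype (Cfsg.IrrCharacter G)] [DecidableEq (Cfsg.IrrCharacter G)]

theorem sum_sq (hG : Nat.card G = 2520) :
    ∑ χ : Cfsg.IrrCharacter G, Cfsg.charDegree (χ : G → ℂ) ^ 2 = 2520 := by
  have h1 := sum_sq_degree (G := G)
  rw [hG] at h1
  have : ((∑ ψ : Cfsg.IrrCharacter G, Cfsg.charDegree (ψ : G → ℂ) ^ 2 : ℕ) : ℂ) =
      ((2520 : ℕ) : ℂ) := by
    push_cast
    push_cast at h1
    rw [← h1]
    apply Finset.sum_congr rfl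
    intro ψ _
    rw [apply_one]
  exact_mod_cast this

/-- a sum over a type exhausted by a duplicate-free list -/
theorem sum_eq_list_sum {ι : Type*} [Fintype ι] [DecidableEq ι] (l : List ι) (hl : l.Nodup)
    (hmem : ∀ x : ι, x ∈ l) (F : ι → ℂ) : ∑ x, F x = (l.map F).sum := by
  rw [← List.sum_toFinset F hl]
  apply Finset.sum_congr _ (fun _ _ => rfl)
  ext x
  simp [hmem x]

variable {P : Sylow 7 G} {a b θ1 θ2 : Cfsg.IrrCharacter G} {s1 s2 ε : ℤ}

/-- the characters of degree prime to `7` -/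
theorem Blk7.filter_not_dvd (B : Blk7 P a b θ1 θ2 s1 s2 ε)
    (h1 : ¬ 7 ∣ Cfsg.charDegree (a : G → ℂ)) (h2 : ¬ 7 ∣ Cfsg.charDegree (b : G → ℂ))
    (h3 : ¬ 7 ∣ Cfsg.charDegree (θ1 : G → ℂ)) (h4 : ¬ 7 ∣ Cfsg.charDegree (θ2 : G → ℂ))
    (χ : Cfsg.IrrCharacter G) :
    ¬ 7 ∣ Cfsg.charDegree (χ : G → ℂ) ↔
      χ = oneIrr G ∨ χ = a ∨ χ = b ∨ χ = θ1 ∨ χ = θ2 := by
  constructor
  · intro h
    rcases B.cover χ with e | e | e | e | e | e
    · exact Or.inl e
    · exact Or.inr (Or.inl e)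
    · exact Or.inr (Or.inr (Or.inl e))
    · exact Or.inr (Or.inr (Or.inr (Or.inl e)))
    · exact Or.inr (Or.inr (Or.inr (Or.inr e)))
    · exact absurd e h
  · rintro (e | e | e | e | e) <;> rw [e]
    · rw [charDegree_oneIrr]; norm_num
    · exact h1
    · exact h2
    · exact h3
    · exact h4

set_option maxRecDepth 4000 in
/-- assembling the nine characters -/
theorem Blk7.mk_a7Data (hG : Nat.card G = 2520)
    (B : Blk7 P a b θ1 θ2 s1 s2 ε) (hda : Cfsg.charDegree (a : G → ℂ) = 6)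
    (hdb : Cfsg.charDegree (b : G → ℂ) = 15) (hdt : Cfsg.charDegree (θ1 : G → ℂ) = 10)
    {B5 : Finset (Cfsg.IrrCharacter G)} {δ : Cfsg.IrrCharacter G → ℤ} (D : Blk5 B5 δ)
    (x y z w : Cfsg.IrrCharacter G) (hx : Cfsg.charDegree (x : G → ℂ) = 21)
    (hy : Cfsg.charDegree (y : G → ℂ) = 14) (hz : Cfsg.charDegree (z : G → ℂ) = 14)
    (hw : Cfsg.charDegree (w : G → ℂ) = 35) (hyz : y ≠ z)
    (hcov : ∀ χ : Cfsg.IrrCharacter G, 7 ∣ Cfsg.charDegree (χ : G → ℂ) →
      χ = x ∨ χ = y ∨ χ = z ∨ χ = w) : Nonempty (A7Data G) := by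
  classical
  have hdt2 : Cfsg.charDegree (θ2 : G → ℂ) = 10 := by rw [B.deg_eq, hdt]
  have hd1 : Cfsg.charDegree ((oneIrr G : Cfsg.IrrCharacter G) : G → ℂ) = 1 := charDegree_oneIrr
  have hs1 : s1 = -1 := by
    have := B.ma
    rw [hda] at this
    unfold Int.ModEq at this
    rcases B.hs1 with h | h
    · rw [h] at this; omega
    · exact h
  have hs2 : s2 = 1 := by
    have := B.mb
    rw [hdb] at this
    unfold Int.ModEq at this
    rcases B.hs2 with h | h
    · exact h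
    · rw [h] at this; omega
  have hε : ε = 1 := by
    have := B.mθ1
    rw [hdt] at this
    unfold Int.ModEq at this
    rcases B.hε with h | h
    · exact h
    · rw [h] at this; omega
  have hne : ∀ χ ψ : Cfsg.IrrCharacter G,
      Cfsg.charDegree (χ : G → ℂ) ≠ Cfsg.charDegree (ψ : G → ℂ) → χ ≠ ψ :=
    fun χ ψ h e => h (by rw [e])
  have hnodup : [oneIrr G, a, b, θ1, θ2, y, z, x, w].Nodup := by
    simp only [List.nodup_cons, List.mem_cons, List.not_mem_nil, or_false, not_or,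
      List.nodup_nil, and_true, not_false_eq_true]
    refine ⟨⟨?_, ?_, ?_, ?_, ?_, ?_, ?_, ?_⟩, ⟨?_, ?_, ?_, ?_, ?_, ?_, ?_⟩, ⟨?_, ?_, ?_, ?_, ?_, ?_⟩,
      ⟨?_, ?_, ?_, ?_, ?_⟩, ⟨?_, ?_, ?_, ?_⟩, ⟨?_, ?_, ?_⟩, ⟨?_, ?_⟩, ?_⟩
    all_goals first | exact B.hθ12 | exact hyz | exact hne _ _ (by omega)
  have hall : ∀ χ : Cfsg.IrrCharacter G, χ ∈ [oneIrr G, a, b, θ1, θ2, y, z, x, w] := by
    intro χ
    simp only [List.mem_cons, List.not_mem_nil, or_false]
    rcases B.cover χ with e | e | e | e | e | e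
    · exact Or.inl e
    · exact Or.inr (Or.inl e)
    · exact Or.inr (Or.inr (Or.inl e))
    · exact Or.inr (Or.inr (Or.inr (Or.inl e)))
    · exact Or.inr (Or.inr (Or.inr (Or.inr (Or.inl e))))
    · rcases hcov χ e with e | e | e | e
      · exact Or.inr (Or.inr (Or.inr (Or.inr (Or.inr (Or.inr (Or.inr (Or.inl e)))))))
      · exact Or.inr (Or.inr (Or.inr (Or.inr (Or.inr (Or.inl e)))))
      · exact Or.inr (Or.inr (Or.inr (Or.inr (Or.inr (Or.inr (Or.inl e))))))
      · exact Or.inr (Or.inr (Or.inr (Or.inr (Or.inr (Or.inr (Or.inr (Or.inr e)))))))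
  have hsplit : ∀ F : Cfsg.IrrCharacter G → ℂ, ∑ χ, F χ = F (oneIrr G) + F a + F b + F θ1 + F θ2 +
      F y + F z + F x + F w := by
    intro F
    rw [sum_eq_list_sum _ hnodup hall F]
    simp only [List.map_cons, List.map_nil, List.sum_cons, List.sum_nil]
    ring
  -- the members of the principal `5`-block
  have hB5 : ∀ χ : Cfsg.IrrCharacter G, χ ∈ B5 ↔ χ = oneIrr G ∨ χ = a ∨ χ = y ∨ χ = z ∨ χ = x := by
    intro χ
    rw [D.mem χ]
    constructor
    · intro h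
      have := hall χ
      simp only [List.mem_cons, List.not_mem_nil, or_false] at this
      rcases this with e | e | e | e | e | e | e | e | e
      · exact Or.inl e
      · exact Or.inr (Or.inl e)
      · exfalso; rw [e, hdb] at h; omega
      · exfalso; rw [e, hdt] at h; omega
      · exfalso; rw [e, hdt2] at h; omega
      · exact Or.inr (Or.inr (Or.inl e))
      · exact Or.inr (Or.inr (Or.inr (Or.inl e)))
      · exact Or.inr (Or.inr (Or.inr (Or.inr e)))
      · exfalso; rw [e, hw] at h; omega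
    · rintro (e | e | e | e | e) <;> rw [e]
      · rw [hd1]; norm_num
      · rw [hda]; norm_num
      · rw [hy]; norm_num
      · rw [hz]; norm_num
      · rw [hx]; norm_num
  have hB5eq : B5 = {oneIrr G, a, y, z, x} := by
    ext χ
    rw [hB5 χ]
    simp only [Finset.mem_insert, Finset.mem_singleton]
  have hδ : ∀ χ ∈ B5, ∀ n : ℕ, Cfsg.charDegree (χ : G → ℂ) = n →
      (n % 5 = 1 → δ χ = 1) ∧ (n % 5 = 4 → δ χ = -1) := by
    intro χ hχ n hn
    have h1 := D.cong χ hχ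
    rw [hn] at h1
    unfold Int.ModEq at h1
    constructor
    · intro h
      rcases D.sign χ hχ with e | e
      · exact e
      · rw [e] at h1; omega
    · intro h
      rcases D.sign χ hχ with e | e
      · rw [e] at h1; omega
      · exact e
  have hδ1 : δ (oneIrr G) = 1 := (hδ _ ((hB5 _).mpr (Or.inl rfl)) 1 hd1).1 (by norm_num)
  have hδa : δ a = 1 := (hδ _ ((hB5 _).mpr (Or.inr (Or.inl rfl))) 6 hda).1 (by norm_num)
  have hδy : δ y = -1 :=
    (hδ _ ((hB5 _).mpr (Or.inr (Or.inr (Or.inl rfl)))) 14 hy).2 (by norm_num)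
  have hδz : δ z = -1 :=
    (hδ _ ((hB5 _).mpr (Or.inr (Or.inr (Or.inr (Or.inl rfl))))) 14 hz).2 (by norm_num)
  have hδx : δ x = 1 :=
    (hδ _ ((hB5 _).mpr (Or.inr (Or.inr (Or.inr (Or.inr rfl))))) 21 hx).1 (by norm_num)
  have h1a : oneIrr G ≠ a := hne _ _ (by omega)
  have h1y : oneIrr G ≠ y := hne _ _ (by omega)
  have h1z : oneIrr G ≠ z := hne _ _ (by omega)
  have h1x : oneIrr G ≠ x := hne _ _ (by omega)
  have hay : a ≠ y := hne _ _ (by omega)
  have haz : a ≠ z := hne _ _ (by omega)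
  have hax : a ≠ x := hne _ _ (by omega)
  have hyx : y ≠ x := hne _ _ (by omega)
  have hzx : z ≠ x := hne _ _ (by omega)
  refine ⟨⟨a, b, θ1, θ2, y, z, x, w, hda, hdb, hdt, hdt2, hy, hz, hx, hw, hsplit, ?_, ?_⟩⟩
  · intro g hg
    obtain ⟨e1, e2⟩ := B.rel g hg
    rw [hs1, hs2, hε] at e1 e2
    push_cast at e1 e2
    constructor
    · linear_combination e1
    · linear_combination e2
  · intro g hg
    have h := D.rel g hg
    rw [hB5eq, Finset.sum_insert (by simp [h1a, h1y, h1z, h1x]),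
      Finset.sum_insert (by simp [hay, haz, hax]), Finset.sum_insert (by simp [hyz, hyx]),
      Finset.sum_pair hzx, hδ1, hδa, hδy, hδz, hδx] at h
    have h1g : ((oneIrr G : Cfsg.IrrCharacter G) : G → ℂ) g = 1 := rfl
    rw [h1g] at h
    push_cast at h
    linear_combination h

end main

end Cfsg.Agent.Lib.Helper4.Ord2520
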