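import Mathlib
import Cfsg.Agent.Lib.Helper4.Ord2520h

/-! Order `2520`: existence of the nine irreducible characters. -/

set_option autoImplicit false
set_option linter.unusedSectionVars false
set_option linter.unusedVariables false
set_option linter.style.longLine false
set_option linter.unusedSimpArgs false
set_option linter.unusedDecidableInType false
set_option linter.style.haveILetI false

set_option maxHeartbeats 1600000

namespace Cfsg.Agent.Lib.Helper4.Ord2520

open Cfsg Cfsg.Agent.Lib.Helper6 Module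
open Cfsg.Agent.Lib.Lead Cfsg.Agent.Lib.Lead.SylowCount Cfsg.Agent.Lib.Lead.SmallSimple2
  Cfsg.Agent.Lib.Helper7.CountTools Cfsg.Agent.Lib.Helper7.SylPar Cfsg.Agent.Lib.Helper4.Ord5040
  Cfsg.Agent.Lib.Helper5.BrauerSmall
open scoped ComplexConjugate

section main

variable {G : Type*} [Group G] [Fintype G]
variable [Fintype (Cfsg.IrrCharacter G)] [DecidableEq (Cfsg.IrrCharacter G)]
variable {P : Sylow 7 G} {a b θ1 θ2 : Cfsg.IrrCharacter G} {s1 s2 ε : ℤ}

set_option maxRecDepth 4000 in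
/-- the nine characters in the pattern `{1, 6, 15 | 10, 10}` -/
theorem Blk7.exists_a7Data (hG : Nat.card G = 2520)
    (B : Blk7 P a b θ1 θ2 s1 s2 ε) (hda : Cfsg.charDegree (a : G → ℂ) = 6)
    (hdb : Cfsg.charDegree (b : G → ℂ) = 15) (hdt : Cfsg.charDegree (θ1 : G → ℂ) = 10)
    {B5 : Finset (Cfsg.IrrCharacter G)} {δ : Cfsg.IrrCharacter G → ℤ} (D : Blk5 B5 δ) :
    Nonempty (A7Data G) := by
  classical
  have hdt2 : Cfsg.charDegree (θ2 : G → ℂ) = 10 := by rw [B.deg_eq, hdt]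
  have hd1 : Cfsg.charDegree ((oneIrr G : Cfsg.IrrCharacter G) : G → ℂ) = 1 := charDegree_oneIrr
  obtain ⟨d, hd⟩ : ∃ d : Cfsg.IrrCharacter G → ℕ,
      ∀ χ : Cfsg.IrrCharacter G, Cfsg.charDegree (χ : G → ℂ) = d χ :=
    ⟨fun χ => Cfsg.charDegree (χ : G → ℂ), fun _ => rfl⟩
  have hsq : ∑ χ : Cfsg.IrrCharacter G, d χ ^ 2 = 2520 := by
    have := sum_sq (G := G) hG
    simpa only [hd] using this
  rw [hd] at hda hdb hdt hdt2 hd1
  set D7 := Finset.univ.filter (fun χ : Cfsg.IrrCharacter G => 7 ∣ d χ) with hD7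
  set N7 := Finset.univ.filter (fun χ : Cfsg.IrrCharacter G => ¬ 7 ∣ d χ) with hN7
  have hsplit1 : ∑ χ ∈ D7, d χ ^ 2 + ∑ χ ∈ N7, d χ ^ 2 = 2520 := by
    rw [hD7, hN7, Finset.sum_filter_add_sum_filter_not, hsq]
  have hN7eq : N7 = {oneIrr G, a, b, θ1, θ2} := by
    ext χ
    rw [hN7, Finset.mem_filter, ← hd, B.filter_not_dvd (by rw [hd, hda]; norm_num)
      (by rw [hd, hdb]; norm_num) (by rw [hd, hdt]; norm_num) (by rw [hd, hdt2]; norm_num)]
    simp only [Finset.mem_univ, true_and, Finset.mem_insert, Finset.mem_singleton]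
  have hN7sum : ∑ χ ∈ N7, d χ ^ 2 = 462 := by
    rw [hN7eq, Finset.sum_insert (by simp [B.ha1.symm, B.hb1.symm, B.hθ1o.symm, B.hθ2o.symm]),
      Finset.sum_insert (by simp [B.hab, B.hθ1a.symm, B.hθ2a.symm]),
      Finset.sum_insert (by simp [B.hθ1b.symm, B.hθ2b.symm]), Finset.sum_pair B.hθ12,
      hd1, hda, hdb, hdt, hdt2]
    norm_num
  have hD7sum : ∑ χ ∈ D7, d χ ^ 2 = 2058 := by omega
  set A := D7.filter (fun χ : Cfsg.IrrCharacter G => ¬ 5 ∣ d χ) with hA
  set E := D7.filter (fun χ : Cfsg.IrrCharacter G => 5 ∣ d χ) with hE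
  have hsplit2 : ∑ χ ∈ E, d χ ^ 2 + ∑ χ ∈ A, d χ ^ 2 = 2058 := by
    rw [hA, hE, Finset.sum_filter_add_sum_filter_not, hD7sum]
  have hmemA : ∀ χ, χ ∈ A ↔ 7 ∣ d χ ∧ ¬ 5 ∣ d χ := by
    intro χ
    rw [hA, Finset.mem_filter, hD7, Finset.mem_filter]
    simp
  have hmemE : ∀ χ, χ ∈ E ↔ 7 ∣ d χ ∧ 5 ∣ d χ := by
    intro χ
    rw [hE, Finset.mem_filter, hD7, Finset.mem_filter]
    simp
  have hle : ∀ χ, 7 ∣ d χ → d χ * d χ ≤ 2058 := by
    intro χ h7
    have h3 := Finset.single_le_sum (f := fun ψ : Cfsg.IrrCharacter G => d ψ ^ 2)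
      (fun _ _ => Nat.zero_le _) (show χ ∈ D7 by rw [hD7, Finset.mem_filter]; simp [h7])
    rw [hD7sum, pow_two] at h3
    exact h3
  -- the principal `5`-block
  have hB5eq : B5 = insert (oneIrr G) (insert a A) := by
    ext χ
    rw [D.mem χ, hd, Finset.mem_insert, Finset.mem_insert, hmemA]
    constructor
    · intro h5
      by_cases h7 : 7 ∣ d χ
      · exact Or.inr (Or.inr ⟨h7, h5⟩)
      · have : χ ∈ N7 := by rw [hN7, Finset.mem_filter]; simp [h7]
        rw [hN7eq] at this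
        simp only [Finset.mem_insert, Finset.mem_singleton] at this
        rcases this with e | e | e | e | e
        · exact Or.inl e
        · exact Or.inr (Or.inl e)
        · exfalso; rw [e, hdb] at h5; omega
        · exfalso; rw [e, hdt] at h5; omega
        · exfalso; rw [e, hdt2] at h5; omega
    · rintro (e | e | ⟨-, e⟩)
      · rw [e, hd1]; norm_num
      · rw [e, hda]; norm_num
      · exact e
  have h1A : oneIrr G ∉ insert a A := by
    rw [Finset.mem_insert, hmemA, hd1]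
    rintro (e | ⟨e, -⟩)
    · exact B.ha1 e.symm
    · omega
  have haA : a ∉ A := by
    rw [hmemA, hda]
    rintro ⟨e, -⟩
    omega
  have hA3 : A.card = 3 := by
    have := D.card
    rw [hB5eq, Finset.card_insert_of_notMem h1A, Finset.card_insert_of_notMem haA] at this
    omega
  obtain ⟨x, y, z, hxy, hxz, hyz, hAeq⟩ := Finset.card_eq_three.mp hA3
  have hdegA : ∀ χ ∈ A, d χ = 14 ∨ d χ = 21 := by
    intro χ hχ
    obtain ⟨h7, h5⟩ := (hmemA χ).mp hχ
    have hχB : χ ∈ B5 := by rw [D.mem χ, hd]; exact h5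
    have hc := D.cong χ hχB
    rw [hd] at hc
    unfold Int.ModEq at hc
    apply deg_A (d χ) h7 (by rw [← hd]; exact degree_dvd hG χ) (hle χ h7)
    rcases D.sign χ hχB with e | e <;> rw [e] at hc <;> omega
  have hdegE : ∀ χ ∈ E, d χ = 35 := by
    intro χ hχ
    obtain ⟨h7, h5⟩ := (hmemE χ).mp hχ
    exact deg_E (d χ) h7 h5 (by rw [← hd]; exact charDegree_pos χ) (hle χ h7)
  have hEsum : ∑ χ ∈ E, d χ ^ 2 = 1225 * E.card := by
    rw [Finset.sum_congr rfl (fun χ hχ => by rw [hdegE χ hχ]), Finset.sum_const, smul_eq_mul]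
    ring
  have hxA : x ∈ A := by rw [hAeq]; simp
  have hyA : y ∈ A := by rw [hAeq]; simp
  have hzA : z ∈ A := by rw [hAeq]; simp
  have hAsum : ∑ χ ∈ A, d χ ^ 2 = d x ^ 2 + d y ^ 2 + d z ^ 2 := by
    rw [hAeq, Finset.sum_insert (by simp [hxy, hxz]), Finset.sum_pair hyz]
    ring
  rw [hEsum, hAsum] at hsplit2
  have hcovA : ∀ χ ∈ A, χ = x ∨ χ = y ∨ χ = z := by
    intro χ hχ
    rw [hAeq] at hχ
    simpa using hχ
  have key : ∀ (w : Cfsg.IrrCharacter G), E = {w} →
      ∀ χ : Cfsg.IrrCharacter G, 7 ∣ Cfsg.charDegree (χ : G → ℂ) →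
        χ = x ∨ χ = y ∨ χ = z ∨ χ = w := by
    intro w hw χ h7
    rw [hd] at h7
    by_cases h5 : 5 ∣ d χ
    · have : χ ∈ E := (hmemE χ).mpr ⟨h7, h5⟩
      rw [hw, Finset.mem_singleton] at this
      exact Or.inr (Or.inr (Or.inr this))
    · rcases hcovA χ ((hmemA χ).mpr ⟨h7, h5⟩) with e | e | e
      · exact Or.inl e
      · exact Or.inr (Or.inl e)
      · exact Or.inr (Or.inr (Or.inl e))
  rcases hdegA x hxA with hx | hx <;> rcases hdegA y hyA with hy | hy <;>
    rcases hdegA z hzA with hz | hz <;> rw [hx, hy, hz] at hsplit2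
  · exfalso; omega
  · -- `z` has degree `21`
    have hE1 : E.card = 1 := by omega
    obtain ⟨w, hw⟩ := Finset.card_eq_one.mp hE1
    have hwE : w ∈ E := by rw [hw]; simp
    apply B.mk_a7Data hG (by rw [hd]; exact hda) (by rw [hd]; exact hdb) (by rw [hd]; exact hdt) D
      z x y w (by rw [hd]; exact hz) (by rw [hd]; exact hx) (by rw [hd]; exact hy)
      (by rw [hd]; exact hdegE w hwE) hxy
    intro χ h7
    rcases key w hw χ h7 with e | e | e | e
    · exact Or.inr (Or.inl e)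
    · exact Or.inr (Or.inr (Or.inl e))
    · exact Or.inl e
    · exact Or.inr (Or.inr (Or.inr e))
  · -- `y` has degree `21`
    have hE1 : E.card = 1 := by omega
    obtain ⟨w, hw⟩ := Finset.card_eq_one.mp hE1
    have hwE : w ∈ E := by rw [hw]; simp
    apply B.mk_a7Data hG (by rw [hd]; exact hda) (by rw [hd]; exact hdb) (by rw [hd]; exact hdt) D
      y x z w (by rw [hd]; exact hy) (by rw [hd]; exact hx) (by rw [hd]; exact hz)
      (by rw [hd]; exact hdegE w hwE) hxz
    intro χ h7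
    rcases key w hw χ h7 with e | e | e | e
    · exact Or.inr (Or.inl e)
    · exact Or.inl e
    · exact Or.inr (Or.inr (Or.inl e))
    · exact Or.inr (Or.inr (Or.inr e))
  · exfalso; omega
  · -- `x` has degree `21`
    have hE1 : E.card = 1 := by omega
    obtain ⟨w, hw⟩ := Finset.card_eq_one.mp hE1
    have hwE : w ∈ E := by rw [hw]; simp
    apply B.mk_a7Data hG (by rw [hd]; exact hda) (by rw [hd]; exact hdb) (by rw [hd]; exact hdt) D
      x y z w (by rw [hd]; exact hx) (by rw [hd]; exact hy) (by rw [hd]; exact hz)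
      (by rw [hd]; exact hdegE w hwE) hyz
    intro χ h7
    exact key w hw χ h7
  · exfalso; omega
  · exfalso; omega
  · exfalso; omega

end main

end Cfsg.Agent.Lib.Helper4.Ord2520
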