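import Mathlib
import Cfsg.Agent.Lib.Helper4.Ord2520i
import Cfsg.Agent.Lib.Helper6.ClassMult
import Cfsg.Agent.Lib.Helper6.SecondOrth

/-! Order `2520`: the values of the nine characters at an involution. -/

set_option autoImplicit false
set_option linter.unusedSectionVars false
set_option linter.unusedVariables false
set_option linter.style.longLine false
set_option linter.unusedSimpArgs false
set_option linter.unusedDecidableInType false
set_option linter.style.haveILetI false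

set_option maxHeartbeats 1600000

namespace Cfsg.Agent.Lib.Helper4.Ord2520

open Cfsg Cfsg.Agent.Lib.Helper6 Module
open scoped ComplexConjugate

section arith

def ivA (ka : ℕ) : ℤ := 6 - 4 * ka
def ivB (kb : ℕ) : ℤ := 15 - 4 * kb
def ivF (kf : ℕ) : ℤ := 21 - 4 * kf
def ivE (k1 : ℕ) : ℤ := 14 - 4 * k1
def ivc (A B F E1 : ℤ) : ℤ :=
  1 + A ^ 2 + B ^ 2 + 2 * (1 - A + B) ^ 2 + E1 ^ 2 + (1 + A + F - E1) ^ 2 + F ^ 2 + (1 + B + F) ^ 2
def ivR (A B F E1 : ℤ) : ℤ :=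
  12 * (210 + 35 * A ^ 3 + 14 * B ^ 3 + 42 * (1 - A + B) ^ 3 + 15 * (E1 ^ 3 + (1 + A + F - E1) ^ 3)
    + 10 * F ^ 3 - 6 * (1 + B + F) ^ 3)

set_option maxRecDepth 100000 in
set_option synthInstance.maxSize 4000 in
set_option synthInstance.maxHeartbeats 4000000 in
theorem invol_key : ∀ ka : ℕ, ka ≤ 3 → ∀ kb : ℕ, kb ≤ 7 → ∀ kf : ℕ, kf ≤ 10 → ∀ k1 : ℕ, k1 ≤ 7 →
    (ka ≠ 0 ∧ ivc (ivA ka) (ivB kb) (ivF kf) (ivE k1) ∣ 2520 ∧
    0 ≤ ivR (ivA ka) (ivB kb) (ivF kf) (ivE k1) ∧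
    ivc (ivA ka) (ivB kb) (ivF kf) (ivE k1) ^ 2 ∣ ivR (ivA ka) (ivB kb) (ivF kf) (ivE k1)) →
    ka = 1 ∧ kb = 4 ∧ kf = 5 ∧ k1 = 3 := by
  decide

end arith

section main

variable {G : Type*} [Group G] [Fintype G]
variable [Fintype (Cfsg.IrrCharacter G)] [DecidableEq (Cfsg.IrrCharacter G)]

set_option maxRecDepth 4000 in
/-- the values of the nine characters at an involution -/
theorem A7Data.values_involution [IsSimpleGroup G] (hG : Nat.card G = 2520) (D : A7Data G) (t : G)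
    (ht : orderOf t = 2) :
    (D.c6 : G → ℂ) t = 2 ∧ (D.c15 : G → ℂ) t = -1 ∧ (D.θ1 : G → ℂ) t = -2 ∧
    (D.θ2 : G → ℂ) t = -2 ∧ (D.c14 : G → ℂ) t = 2 ∧ (D.c14' : G → ℂ) t = 2 ∧
    (D.c21 : G → ℂ) t = 1 ∧ (D.c35 : G → ℂ) t = -1 ∧
    Nat.card (Subgroup.centralizer ({t} : Set G)) = 24 ∧
    ∃ t1 t2 : G, IsConj t t1 ∧ IsConj t t2 ∧ t1 * t2 = t := by
  classical
  have hna := exists_noncomm hG
  have ht1 : t ≠ 1 := by
    rintro rfl
    rw [orderOf_one] at ht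
    omega
  obtain ⟨ka, hka, hva⟩ := apply_involution_det hna (IsIrrCharacter.isCharacter D.c6.2) t ht
  obtain ⟨kb, hkb, hvb⟩ := apply_involution_det hna (IsIrrCharacter.isCharacter D.c15.2) t ht
  obtain ⟨kf, hkf, hvf⟩ := apply_involution_det hna (IsIrrCharacter.isCharacter D.c21.2) t ht
  obtain ⟨k1, hk1, hve⟩ := apply_involution_det hna (IsIrrCharacter.isCharacter D.c14.2) t ht
  rw [D.d6] at hka hva
  rw [D.d15] at hkb hvb
  rw [D.d21] at hkf hvf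
  rw [D.d14] at hk1 hve
  obtain ⟨A, hA⟩ : ∃ A : ℤ, A = ivA ka := ⟨_, rfl⟩
  obtain ⟨B, hB⟩ : ∃ B : ℤ, B = ivB kb := ⟨_, rfl⟩
  obtain ⟨F, hF⟩ : ∃ F : ℤ, F = ivF kf := ⟨_, rfl⟩
  obtain ⟨E1, hE1⟩ : ∃ E1 : ℤ, E1 = ivE k1 := ⟨_, rfl⟩
  have hvA : (D.c6 : G → ℂ) t = (A : ℂ) := by rw [hva, hA, ivA]; push_cast; ring
  have hvB : (D.c15 : G → ℂ) t = (B : ℂ) := by rw [hvb, hB, ivB]; push_cast; ring
  have hvF : (D.c21 : G → ℂ) t = (F : ℂ) := by rw [hvf, hF, ivF]; push_cast; ring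
  have hvE1 : (D.c14 : G → ℂ) t = (E1 : ℂ) := by rw [hve, hE1, ivE]; push_cast; ring
  have hv1 : ((oneIrr G : Cfsg.IrrCharacter G) : G → ℂ) t = 1 := rfl
  obtain ⟨hθ1, hθ2⟩ := D.r7 t (by rw [ht]; norm_num)
  have hvC1 : (D.θ1 : G → ℂ) t = ((1 - A + B : ℤ) : ℂ) := by
    rw [hθ1, hvA, hvB]; push_cast; ring
  have hvC2 : (D.θ2 : G → ℂ) t = ((1 - A + B : ℤ) : ℂ) := by
    rw [hθ2, hvA, hvB]; push_cast; ring
  have hvE2 : (D.c14' : G → ℂ) t = ((1 + A + F - E1 : ℤ) : ℂ) := by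
    have h5 := D.r5 t (by rw [ht]; norm_num)
    rw [hvA, hvF, hvE1] at h5
    push_cast
    linear_combination -h5
  -- orthogonality with the identity
  have hvH : (D.c35 : G → ℂ) t = ((-(1 + B + F) : ℤ) : ℂ) := by
    have h4 := (sum_irr_mul_conj t 1).2 (by
      intro h
      exact ht1 (isConj_one_left.mp h))
    rw [D.split, apply_one, apply_one, apply_one, apply_one, apply_one, apply_one, apply_one,
      apply_one, apply_one, charDegree_oneIrr, D.d6, D.d15, D.dθ1, D.dθ2, D.d14, D.d14', D.d21,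
      D.d35, hv1, hvA, hvB, hvC1, hvC2, hvE1, hvE2, hvF] at h4
    simp only [map_natCast] at h4
    push_cast at h4 ⊢
    linear_combination h4 / 35
  -- the order of the centralizer
  obtain ⟨c, hc⟩ : ∃ c : ℕ, c = Nat.card (Subgroup.centralizer ({t} : Set G)) := ⟨_, rfl⟩
  have hcval : (c : ℤ) = ivc A B F E1 := by
    have h5 := (sum_irr_mul_conj t t).1 (IsConj.refl t)
    rw [D.split, hv1, hvA, hvB, hvC1, hvC2, hvE1, hvE2, hvF, hvH, ← hc] at h5
    simp only [map_one, map_intCast] at h5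
    have : ((c : ℤ) : ℂ) = ((ivc A B F E1 : ℤ) : ℂ) := by
      unfold ivc
      push_cast
      rw [← h5]
      push_cast
      ring
    exact_mod_cast this
  have hcdvd : (c : ℤ) ∣ 2520 := by
    have h1 := Subgroup.card_subgroup_dvd_card (Subgroup.centralizer ({t} : Set G))
    rw [hG, ← hc] at h1
    exact_mod_cast h1
  -- the class multiplication constant
  obtain ⟨N1, hN1⟩ : ∃ N1 : ℕ,
      N1 = Nat.card {p : G × G // IsConj t p.1 ∧ IsConj t p.2 ∧ p.1 * p.2 = t} := ⟨_, rfl⟩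
  have hR : (c : ℤ) ^ 2 * (N1 : ℤ) = ivR A B F E1 := by
    have h6 := card_conj_mul_conj_eq t t t
    rw [card_conj_pairs t t t, ← hc, ← hN1, hG, D.split, apply_one, apply_one, apply_one, apply_one,
      apply_one, apply_one, apply_one, apply_one, apply_one, charDegree_oneIrr, D.d6, D.d15,
      D.dθ1, D.dθ2, D.d14, D.d14', D.d21, D.d35, hv1, hvA, hvB, hvC1, hvC2, hvE1, hvE2, hvF,
      hvH] at h6
    simp only [map_one, map_intCast] at h6
    have : (((c : ℤ) ^ 2 * (N1 : ℤ) : ℤ) : ℂ) = ((ivR A B F E1 : ℤ) : ℂ) := by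
      unfold ivR
      push_cast at h6 ⊢
      rw [show (c : ℂ) ^ 2 * (N1 : ℂ) = (c : ℂ) * (c : ℂ) * (N1 : ℂ) by ring, h6]
      ring
    exact_mod_cast this
  have hkey := invol_key ka (by omega) kb (by omega) kf (by omega) k1 (by omega) (by
    refine ⟨?_, ?_, ?_, ?_⟩
    · rintro rfl
      apply ht1
      apply eq_one_of_apply_eq hG D.c6 (by rw [D.d6]; norm_num)
      rw [hva, D.d6]
      norm_num
    · rw [← hA, ← hB, ← hF, ← hE1, ← hcval]; exact hcdvd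
    · rw [← hA, ← hB, ← hF, ← hE1, ← hR]; positivity
    · rw [← hA, ← hB, ← hF, ← hE1, ← hR, ← hcval]; exact Dvd.intro _ rfl)
  obtain ⟨rfl, rfl, rfl, rfl⟩ := hkey
  have hA2 : A = 2 := by rw [hA]; rfl
  have hB2 : B = -1 := by rw [hB]; rfl
  have hF2 : F = 1 := by rw [hF]; rfl
  have hE2 : E1 = 2 := by rw [hE1]; rfl
  subst hA2 hB2 hF2 hE2
  have hc24 : c = 24 := by
    have : (c : ℤ) = 24 := by rw [hcval]; rfl
    exact_mod_cast this
  have hN8 : N1 = 8 := by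
    have h1 : ivR 2 (-1) 1 2 = 4608 := by rfl
    rw [h1, hc24] at hR
    have : (N1 : ℤ) = 8 := by
      push_cast at hR
      nlinarith
    exact_mod_cast this
  refine ⟨by rw [hvA]; norm_num, by rw [hvB]; norm_num, by rw [hvC1]; norm_num,
    by rw [hvC2]; norm_num, by rw [hvE1]; norm_num, by rw [hvE2]; norm_num,
    by rw [hvF]; norm_num, by rw [hvH]; norm_num, by rw [← hc, hc24], ?_⟩
  have hpos : 0 < Nat.card {p : G × G // IsConj t p.1 ∧ IsConj t p.2 ∧ p.1 * p.2 = t} := by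
    rw [← hN1, hN8]; norm_num
  obtain ⟨⟨p, hp1, hp2, hp3⟩⟩ := (Nat.card_pos_iff.mp hpos).1
  exact ⟨p.1, p.2, hp1, hp2, hp3⟩

end main

end Cfsg.Agent.Lib.Helper4.Ord2520
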