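import Mathlib
import Cfsg.Agent.Lib.Helper4.Ord2520j

/-! Order `2520`: the values of the nine characters at an element of order `4`. -/

set_option autoImplicit false
set_option linter.unusedSectionVars false
set_option linter.unusedVariables false
set_option linter.style.longLine false
set_option linter.unusedSimpArgs false
set_option linter.unusedDecidableInType false
set_option linter.style.haveILetI false

set_option maxHeartbeats 1600000

namespace Cfsg.Agent.Lib.Helper4.Ord2520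

open Cfsg Cfsg.Agent.Lib.Helper6 Module
open scoped ComplexConjugate

section arith

def oA (p : ℕ) : ℤ := 2 * p - 4
def oA' (r : ℕ) : ℤ := 2 * r - 2
def oB (p : ℕ) : ℤ := 2 * p - 7
def oB' (r : ℕ) : ℤ := 2 * r - 8
def oF (p : ℕ) : ℤ := 2 * p - 11
def oF' (r : ℕ) : ℤ := 2 * r - 10
def oE (p : ℕ) : ℤ := 2 * p - 8
def oE' (r : ℕ) : ℤ := 2 * r - 6
def o4S2 (a a' b b' : ℤ) : ℤ :=
  1 + a ^ 2 + a' ^ 2 + b ^ 2 + b' ^ 2 + 2 * ((1 - a + b) ^ 2 + (b' - a') ^ 2)
def o4S3 (a a' b b' f f' : ℤ) : ℤ :=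
  o4S2 a a' b b' + (f ^ 2 + f' ^ 2 + (1 + b + f) ^ 2 + (b' + f') ^ 2)
def o4T (a a' b b' f f' e e' : ℤ) : ℤ :=
  o4S3 a a' b b' f f' + (e ^ 2 + e' ^ 2 + (1 + a + f - e) ^ 2 + (a' + f' - e') ^ 2)

/-- last stage of the search -/
def Four4 (pa ra pb rb pf rf : ℕ) : Prop :=
  ∀ pe : ℕ, pe ≤ 8 → ∀ re : ℕ, re ≤ 6 →
    (4 ∣ 2 * (8 - pe) + re + 3 * (6 - re) ∧
      o4T (oA pa) (oA' ra) (oB pb) (oB' rb) (oF pf) (oF' rf) (oE pe) (oE' re) ∣ 24) →
    pa = 2 ∧ ra = 1 ∧ pb = 3 ∧ rb = 4 ∧ pf = 5 ∧ rf = 5 ∧ pe = 4 ∧ re = 3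

set_option synthInstance.maxSize 4000 in
set_option synthInstance.maxHeartbeats 4000000 in
instance (pa ra pb rb pf rf : ℕ) : Decidable (Four4 pa ra pb rb pf rf) := by
  unfold Four4
  infer_instance

/-- third stage of the search -/
def Four3 (pa ra pb rb : ℕ) : Prop :=
  ∀ pf : ℕ, pf ≤ 11 → ∀ rf : ℕ, rf ≤ 10 →
    (4 ∣ 2 * (11 - pf) + rf + 3 * (10 - rf) ∧
      o4S3 (oA pa) (oA' ra) (oB pb) (oB' rb) (oF pf) (oF' rf) ≤ 24) →
    Four4 pa ra pb rb pf rf

set_option synthInstance.maxSize 4000 in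
set_option synthInstance.maxHeartbeats 4000000 in
instance (pa ra pb rb : ℕ) : Decidable (Four3 pa ra pb rb) := by
  unfold Four3
  infer_instance

/-- second stage of the search -/
def Four2 (pa ra : ℕ) : Prop :=
  ∀ pb : ℕ, pb ≤ 7 → ∀ rb : ℕ, rb ≤ 8 →
    (4 ∣ 2 * (7 - pb) + rb + 3 * (8 - rb) ∧ o4S2 (oA pa) (oA' ra) (oB pb) (oB' rb) ≤ 24) →
    Four3 pa ra pb rb

set_option synthInstance.maxSize 4000 in
set_option synthInstance.maxHeartbeats 4000000 in
instance (pa ra : ℕ) : Decidable (Four2 pa ra) := by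
  unfold Four2
  infer_instance

set_option maxRecDepth 100000 in
set_option synthInstance.maxSize 4000 in
set_option synthInstance.maxHeartbeats 4000000 in
theorem four_key : ∀ pa : ℕ, pa ≤ 4 → ∀ ra : ℕ, ra ≤ 2 → 4 ∣ 2 * (4 - pa) + ra + 3 * (2 - ra) →
    Four2 pa ra := by
  decide

theorem mul_conj_int (X Y : ℤ) :
    ((X : ℂ) + (Y : ℂ) * Complex.I) * conj ((X : ℂ) + (Y : ℂ) * Complex.I) =
      ((X ^ 2 + Y ^ 2 : ℤ) : ℂ) := by
  rw [map_add, map_mul, Complex.conj_I, map_intCast, map_intCast]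
  push_cast
  ring_nf
  rw [Complex.I_sq]
  ring

end arith

section main

variable {G : Type*} [Group G] [Fintype G]
variable [Fintype (Cfsg.IrrCharacter G)] [DecidableEq (Cfsg.IrrCharacter G)]

theorem orderOf_sq_of_four {u : G} (hu : orderOf u = 4) : orderOf (u * u) = 2 := by
  rw [← pow_two, orderOf_pow' u (by norm_num), hu]
  rfl

set_option maxRecDepth 4000 in
/-- the character of degree `6` vanishes at the elements of order `4` -/
theorem A7Data.values_four [IsSimpleGroup G] (hG : Nat.card G = 2520) (D : A7Data G) (u : G)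
    (hu : orderOf u = 4) :
    (D.c6 : G → ℂ) u = 0 ∧ Nat.card (Subgroup.centralizer ({u} : Set G)) = 4 := by
  classical
  have hna := exists_noncomm hG
  have hz2 : orderOf (u * u) = 2 := orderOf_sq_of_four hu
  have hu1 : u ≠ 1 := by
    rintro rfl
    rw [orderOf_one] at hu
    omega
  obtain ⟨h6, h15, -, -, h14, -, h21, -, hcz, -⟩ := D.values_involution hG (u * u) hz2
  obtain ⟨pa, qa, ra, sa, hsa, hva, hza, hda⟩ :=
    apply_order_four_det hna (IsIrrCharacter.isCharacter D.c6.2) u hu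
  obtain ⟨pb, qb, rb, sb, hsb, hvb, hzb, hdb⟩ :=
    apply_order_four_det hna (IsIrrCharacter.isCharacter D.c15.2) u hu
  obtain ⟨pf, qf, rf, sf, hsf, hvf, hzf, hdf⟩ :=
    apply_order_four_det hna (IsIrrCharacter.isCharacter D.c21.2) u hu
  obtain ⟨pe, qe, re, se, hse, hve, hze, hde⟩ :=
    apply_order_four_det hna (IsIrrCharacter.isCharacter D.c14.2) u hu
  rw [D.d6] at hsa
  rw [D.d15] at hsb
  rw [D.d21] at hsf
  rw [D.d14] at hse
  rw [h6] at hza
  rw [h15] at hzb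
  rw [h21] at hzf
  rw [h14] at hze
  have hza' : (pa : ℤ) + qa - ra - sa = 2 := by exact_mod_cast hza.symm
  have hzb' : (pb : ℤ) + qb - rb - sb = -1 := by exact_mod_cast hzb.symm
  have hzf' : (pf : ℤ) + qf - rf - sf = 1 := by exact_mod_cast hzf.symm
  have hze' : (pe : ℤ) + qe - re - se = 2 := by exact_mod_cast hze.symm
  have hqa : (qa : ℤ) = 4 - pa := by omega
  have hsa' : (sa : ℤ) = 2 - ra := by omega
  have hqb : (qb : ℤ) = 7 - pb := by omega
  have hsb' : (sb : ℤ) = 8 - rb := by omega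
  have hqf : (qf : ℤ) = 11 - pf := by omega
  have hsf' : (sf : ℤ) = 10 - rf := by omega
  have hqe : (qe : ℤ) = 8 - pe := by omega
  have hse' : (se : ℤ) = 6 - re := by omega
  obtain ⟨A, hA⟩ : ∃ A : ℤ, A = oA pa := ⟨_, rfl⟩
  obtain ⟨A', hA'⟩ : ∃ A' : ℤ, A' = oA' ra := ⟨_, rfl⟩
  obtain ⟨B, hB⟩ : ∃ B : ℤ, B = oB pb := ⟨_, rfl⟩
  obtain ⟨B', hB'⟩ : ∃ B' : ℤ, B' = oB' rb := ⟨_, rfl⟩
  obtain ⟨F, hF⟩ : ∃ F : ℤ, F = oF pf := ⟨_, rfl⟩
  obtain ⟨F', hF'⟩ : ∃ F' : ℤ, F' = oF' rf := ⟨_, rfl⟩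
  obtain ⟨E, hE⟩ : ∃ E : ℤ, E = oE pe := ⟨_, rfl⟩
  obtain ⟨E', hE'⟩ : ∃ E' : ℤ, E' = oE' re := ⟨_, rfl⟩
  have hvA : (D.c6 : G → ℂ) u = (A : ℂ) + (A' : ℂ) * Complex.I := by
    have e1 : ((pa : ℂ) - (qa : ℂ)) = ((A : ℤ) : ℂ) := by
      rw [hA, oA]
      have : (((pa : ℤ) - (qa : ℤ) : ℤ) : ℂ) = ((2 * (pa : ℤ) - 4 : ℤ) : ℂ) := by
        rw [hqa]; congr 1; ring
      push_cast at this ⊢
      exact this
    have e2 : ((ra : ℂ) - (sa : ℂ)) = ((A' : ℤ) : ℂ) := by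
      rw [hA', oA']
      have : (((ra : ℤ) - (sa : ℤ) : ℤ) : ℂ) = ((2 * (ra : ℤ) - 2 : ℤ) : ℂ) := by
        rw [hsa']; congr 1; ring
      push_cast at this ⊢
      exact this
    rw [hva, e1, e2]
  have hvB : (D.c15 : G → ℂ) u = (B : ℂ) + (B' : ℂ) * Complex.I := by
    have e1 : ((pb : ℂ) - (qb : ℂ)) = ((B : ℤ) : ℂ) := by
      rw [hB, oB]
      have : (((pb : ℤ) - (qb : ℤ) : ℤ) : ℂ) = ((2 * (pb : ℤ) - 7 : ℤ) : ℂ) := by
        rw [hqb]; congr 1; ring
      push_cast at this ⊢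
      exact this
    have e2 : ((rb : ℂ) - (sb : ℂ)) = ((B' : ℤ) : ℂ) := by
      rw [hB', oB']
      have : (((rb : ℤ) - (sb : ℤ) : ℤ) : ℂ) = ((2 * (rb : ℤ) - 8 : ℤ) : ℂ) := by
        rw [hsb']; congr 1; ring
      push_cast at this ⊢
      exact this
    rw [hvb, e1, e2]
  have hvF : (D.c21 : G → ℂ) u = (F : ℂ) + (F' : ℂ) * Complex.I := by
    have e1 : ((pf : ℂ) - (qf : ℂ)) = ((F : ℤ) : ℂ) := by
      rw [hF, oF]
      have : (((pf : ℤ) - (qf : ℤ) : ℤ) : ℂ) = ((2 * (pf : ℤ) - 11 : ℤ) : ℂ) := by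
        rw [hqf]; congr 1; ring
      push_cast at this ⊢
      exact this
    have e2 : ((rf : ℂ) - (sf : ℂ)) = ((F' : ℤ) : ℂ) := by
      rw [hF', oF']
      have : (((rf : ℤ) - (sf : ℤ) : ℤ) : ℂ) = ((2 * (rf : ℤ) - 10 : ℤ) : ℂ) := by
        rw [hsf']; congr 1; ring
      push_cast at this ⊢
      exact this
    rw [hvf, e1, e2]
  have hvE : (D.c14 : G → ℂ) u = (E : ℂ) + (E' : ℂ) * Complex.I := by
    have e1 : ((pe : ℂ) - (qe : ℂ)) = ((E : ℤ) : ℂ) := by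
      rw [hE, oE]
      have : (((pe : ℤ) - (qe : ℤ) : ℤ) : ℂ) = ((2 * (pe : ℤ) - 8 : ℤ) : ℂ) := by
        rw [hqe]; congr 1; ring
      push_cast at this ⊢
      exact this
    have e2 : ((re : ℂ) - (se : ℂ)) = ((E' : ℤ) : ℂ) := by
      rw [hE', oE']
      have : (((re : ℤ) - (se : ℤ) : ℤ) : ℂ) = ((2 * (re : ℤ) - 6 : ℤ) : ℂ) := by
        rw [hse']; congr 1; ring
      push_cast at this ⊢
      exact this
    rw [hve, e1, e2]
  have hv1 : ((oneIrr G : Cfsg.IrrCharacter G) : G → ℂ) u = ((1 : ℤ) : ℂ) + ((0 : ℤ) : ℂ) * Complex.I := by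
    have : ((oneIrr G : Cfsg.IrrCharacter G) : G → ℂ) u = 1 := rfl
    rw [this]; push_cast; ring
  have h7 : ¬ 7 ∣ orderOf u := by rw [hu]; norm_num
  have h5 : ¬ 5 ∣ orderOf u := by rw [hu]; norm_num
  obtain ⟨hθ1, hθ2⟩ := D.r7 u h7
  have hvC1 : (D.θ1 : G → ℂ) u = ((1 - A + B : ℤ) : ℂ) + ((B' - A' : ℤ) : ℂ) * Complex.I := by
    rw [hθ1, hvA, hvB]; push_cast; ring
  have hvC2 : (D.θ2 : G → ℂ) u = ((1 - A + B : ℤ) : ℂ) + ((B' - A' : ℤ) : ℂ) * Complex.I := by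
    rw [hθ2, hvA, hvB]; push_cast; ring
  have hvE2 : (D.c14' : G → ℂ) u =
      ((1 + A + F - E : ℤ) : ℂ) + ((A' + F' - E' : ℤ) : ℂ) * Complex.I := by
    have h := D.r5 u h5
    rw [hvA, hvF, hvE] at h
    push_cast
    linear_combination -h
  have hvH : (D.c35 : G → ℂ) u =
      ((-(1 + B + F) : ℤ) : ℂ) + ((-(B' + F') : ℤ) : ℂ) * Complex.I := by
    have h4 := (sum_irr_mul_conj u 1).2 (by
      intro h
      exact hu1 (isConj_one_left.mp h))
    rw [D.split, apply_one, apply_one, apply_one, apply_one, apply_one, apply_one, apply_one,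
      apply_one, apply_one, charDegree_oneIrr, D.d6, D.d15, D.dθ1, D.dθ2, D.d14, D.d14', D.d21,
      D.d35, hv1, hvA, hvB, hvC1, hvC2, hvE, hvE2, hvF] at h4
    simp only [map_natCast] at h4
    push_cast at h4 ⊢
    linear_combination h4 / 35
  -- the order of the centralizer
  obtain ⟨c, hc⟩ : ∃ c : ℕ, c = Nat.card (Subgroup.centralizer ({u} : Set G)) := ⟨_, rfl⟩
  have hcval : (c : ℤ) = o4T A A' B B' F F' E E' := by
    have h5 := (sum_irr_mul_conj u u).1 (IsConj.refl u)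
    rw [D.split, hv1, hvA, hvB, hvC1, hvC2, hvE, hvE2, hvF, hvH, ← hc] at h5
    simp only [mul_conj_int] at h5
    have : ((c : ℤ) : ℂ) = ((o4T A A' B B' F F' E E' : ℤ) : ℂ) := by
      unfold o4T o4S3 o4S2
      push_cast
      rw [← h5]
      push_cast
      ring
    exact_mod_cast this
  have hcdvd : (c : ℤ) ∣ 24 := by
    have hle : Subgroup.centralizer ({u} : Set G) ≤ Subgroup.centralizer ({u * u} : Set G) := by
      intro g hg
      rw [Subgroup.mem_centralizer_singleton_iff] at hg ⊢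
      calc g * (u * u) = (g * u) * u := by group
        _ = (u * g) * u := by rw [hg]
        _ = u * (g * u) := by group
        _ = u * (u * g) := by rw [hg]
        _ = u * u * g := by group
    have h1 := Subgroup.card_dvd_of_le hle
    rw [hcz, ← hc] at h1
    exact_mod_cast h1
  have hcpos : 0 < (c : ℤ) := by
    have : 0 < c := by rw [hc]; exact Nat.card_pos
    exact_mod_cast this
  have hcle : (c : ℤ) ≤ 24 := Int.le_of_dvd (by norm_num) hcdvd
  have hS3T : o4S3 A A' B B' F F' ≤ o4T A A' B B' F F' E E' := by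
    unfold o4T
    exact le_add_of_nonneg_right (by positivity)
  have hS2S3 : o4S2 A A' B B' ≤ o4S3 A A' B B' F F' := by
    unfold o4S3
    exact le_add_of_nonneg_right (by positivity)
  have hk2 := four_key pa (by omega) ra (by omega) (by
    have : 2 * qa + ra + 3 * sa = 2 * (4 - pa) + ra + 3 * (2 - ra) := by omega
    rw [← this]; exact hda)
  have hk3 := hk2 pb (by omega) rb (by omega) ⟨by
    have : 2 * qb + rb + 3 * sb = 2 * (7 - pb) + rb + 3 * (8 - rb) := by omega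
    rw [← this]; exact hdb, by rw [← hA, ← hA', ← hB, ← hB']; linarith⟩
  have hk4 := hk3 pf (by omega) rf (by omega) ⟨by
    have : 2 * qf + rf + 3 * sf = 2 * (11 - pf) + rf + 3 * (10 - rf) := by omega
    rw [← this]; exact hdf, by rw [← hA, ← hA', ← hB, ← hB', ← hF, ← hF']; linarith⟩
  have hk5 := hk4 pe (by omega) re (by omega) ⟨by
    have : 2 * qe + re + 3 * se = 2 * (8 - pe) + re + 3 * (6 - re) := by omega
    rw [← this]; exact hde, by
      rw [← hA, ← hA', ← hB, ← hB', ← hF, ← hF', ← hE, ← hE', ← hcval]; exact hcdvd⟩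
  obtain ⟨rfl, rfl, rfl, rfl, rfl, rfl, rfl, rfl⟩ := hk5
  have hA0 : A = 0 := by rw [hA]; rfl
  have hA'0 : A' = 0 := by rw [hA']; rfl
  constructor
  · rw [hvA, hA0, hA'0]; simp
  · have h1 : o4T (oA 2) (oA' 1) (oB 3) (oB' 4) (oF 5) (oF' 5) (oE 4) (oE' 3) = 4 := by rfl
    rw [hA, hA', hB, hB', hF, hF', hE, hE', h1] at hcval
    rw [← hc]
    exact_mod_cast hcval

end main

end Cfsg.Agent.Lib.Helper4.Ord2520
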