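import Mathlib
import Cfsg.Agent.Lib.Helper4.Ord2520k
import Cfsg.Agent.Lib.Helper4.M11za

/-! Order `2520`: the stabilizer of the line fixed by the normalizer of a Sylow `3`-subgroup in
the representation of degree `6` has order `360`. -/

set_option autoImplicit false
set_option linter.unusedSectionVars false
set_option linter.unusedVariables false
set_option linter.style.longLine false
set_option linter.unusedSimpArgs false
set_option linter.unusedDecidableInType false
set_option linter.style.haveILetI false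

set_option maxHeartbeats 1600000

namespace Cfsg.Agent.Lib.Helper4.Ord2520

open Cfsg Cfsg.Agent.Lib.Helper6 Module
open Cfsg.Agent.Lib.Lead Cfsg.Agent.Lib.Lead.SylowCount
open Cfsg.Agent.Lib.Helper4.M11

section frame

variable {G : Type*} [Group G] [Fintype G]

/-- an element conjugating a finite subgroup into itself normalizes it -/
theorem mem_normalizer_of_conj_mem (H : Subgroup G) {c : G} (h : ∀ w ∈ H, c * w * c⁻¹ ∈ H) :
    c ∈ Subgroup.normalizer (H : Set G) := by
  have hsub : H.map (MulAut.conj c).toMonoidHom ≤ H := by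
    rintro _ ⟨w, hw, rfl⟩
    exact h w hw
  have hcardeq : Nat.card (H.map (MulAut.conj c).toMonoidHom) = Nat.card H :=
    Subgroup.card_map_of_injective (MulAut.conj c).injective
  have heq : H.map (MulAut.conj c).toMonoidHom = H :=
    Subgroup.eq_of_le_of_card_ge hsub (le_of_eq hcardeq.symm)
  rw [Subgroup.mem_normalizer_iff]
  intro w
  constructor
  · exact h w
  · intro hw
    rw [← heq] at hw
    obtain ⟨w', hw', hww⟩ := hw
    have : w' = w := by
      have h1 : c * w' * c⁻¹ = c * w * c⁻¹ := hww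
      have h2 : w' = c⁻¹ * (c * w' * c⁻¹) * c := by group
      rw [h2, h1]; group
    rwa [← this]

theorem k_cases_35 {k i : ℕ} (h : 72 * k * i = 2520) (hi : 7 ≤ i) : k = 1 ∨ k = 5 := by
  have h35 : k * i = 35 := by
    have h1 : 72 * (k * i) = 72 * 35 := by rw [← mul_assoc]; exact h
    exact Nat.eq_of_mul_eq_mul_left (by norm_num) h1
  have hk : k ≤ 5 := by
    by_contra hlt
    push Not at hlt
    have : 6 * 7 ≤ k * i := Nat.mul_le_mul (by omega) hi
    omega
  interval_cases k
  · omega
  · left; rfl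
  · omega
  · omega
  · omega
  · right; rfl

set_option maxRecDepth 4000 in
/-- the final configuration yields a subgroup of order `360` -/
theorem exists_360_of_frame [IsSimpleGroup G] (hG : Nat.card G = 2520) {n : ℕ}
    (ρ : Representation ℂ G (Fin n → ℂ)) (hirr : ρ.IsIrreducible)
    (h1 : ρ.character 1 = 6) (h2 : ∀ t : G, orderOf t = 2 → ρ.character t = 2)
    (h4 : ∀ w : G, orderOf w = 4 → ρ.character w = 0)
    (Q : Sylow 3 G)
    (hN : Nat.card (Subgroup.normalizer ((Q : Subgroup G) : Set G)) = 36)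
    (u : G) (hu : orderOf u = 4)
    (hnorm : ∀ q ∈ (Q : Subgroup G), u * q * u⁻¹ ∈ (Q : Subgroup G))
    (hfree : ∀ q ∈ (Q : Subgroup G), q ≠ 1 → (u * u) * q ≠ q * (u * u))
    (s : G) (hs : ∀ p ∈ Subgroup.zpowers u, orderOf (p * s) = 2) :
    ∃ M : Subgroup G, Nat.card M = 360 := by
  classical
  haveI : Fact (Nat.Prime 3) := ⟨by norm_num⟩
  haveI := hirr
  have hna := exists_noncomm hG
  have hn : n = 6 := by
    have h := Representation.char_one ρ
    rw [h1, Module.finrank_fin_fun] at h
    exact_mod_cast h.symm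
  have hQ : Nat.card (Q : Subgroup G) = 9 :=
    card_sylow_of_card_eq_pow 3 2 280 (by omega) (by norm_num) Q
  have hcf : ∀ g x : G, ρ.character (x * g * x⁻¹) = ρ.character g :=
    fun g x => Representation.char_conj ρ g x
  set E := Subgroup.zpowers u with hE
  set N := Subgroup.normalizer ((Q : Subgroup G) : Set G) with hNdef
  have huN : u ∈ N := mem_normalizer_of_conj_mem (Q : Subgroup G) hnorm
  have hEN : E ≤ N := by rw [hE, Subgroup.zpowers_le]; exact huN
  have hEP : ∀ e ∈ E, ∀ p ∈ (Q : Subgroup G), e * p * e⁻¹ ∈ (Q : Subgroup G) := by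
    intro e he p hp
    exact (Subgroup.mem_normalizer_iff.mp (hEN he) p).mp hp
  have cE : Nat.card E = 4 := by rw [hE, Nat.card_zpowers, hu]
  have hPE : ∀ g, g ∈ (Q : Subgroup G) → g ∈ E → g = 1 := by
    intro g hgQ hgE
    have d1 := Subgroup.orderOf_dvd_natCard _ hgQ
    have d2 := Subgroup.orderOf_dvd_natCard _ hgE
    rw [hQ] at d1
    rw [cE] at d2
    have : orderOf g ∣ Nat.gcd 9 4 := Nat.dvd_gcd d1 d2
    have h1' : orderOf g = 1 := Nat.dvd_one.mp (by simpa using this)
    exact orderOf_eq_one_iff.mp h1'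
  set T := semi (Q : Subgroup G) E hEP with hT
  have cT : Nat.card T = 36 := by rw [hT, card_semi hPE, hQ, cE]
  -- the involution `z = u * u`
  have hz2 : orderOf (u * u) = 2 := by
    rw [← pow_two, orderOf_pow' u (by norm_num), hu]
    rfl
  have hu4 : u * u * (u * u) = 1 := by
    have := pow_orderOf_eq_one u
    rw [hu] at this
    calc u * u * (u * u) = u ^ 4 := by
          simp only [pow_succ, pow_zero, one_mul, mul_assoc]
      _ = 1 := this
  have huinv : u⁻¹ = u * u * u := by
    apply inv_eq_of_mul_eq_one_left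
    rw [← hu4]; group
  have hui4 : orderOf u⁻¹ = 4 := by rw [orderOf_inv, hu]
  have hzfree : ∀ p ∈ (Q : Subgroup G), (u * u) * p = p * (u * u) → p = 1 := by
    intro p hp hc
    by_contra hp1
    exact hfree p hp hp1 hc
  have hufree : ∀ p ∈ (Q : Subgroup G), u * p = p * u → p = 1 := by
    intro p hp hc
    apply hzfree p hp
    calc u * u * p = u * (u * p) := by group
      _ = u * (p * u) := by rw [hc]
      _ = (u * p) * u := by group
      _ = p * u * u := by rw [hc]
      _ = p * (u * u) := by group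
  have huifree : ∀ p ∈ (Q : Subgroup G), u⁻¹ * p = p * u⁻¹ → p = 1 := by
    intro p hp hc
    apply hufree p hp
    calc u * p = u * (p * u⁻¹) * u := by group
      _ = u * (u⁻¹ * p) * u := by rw [hc]
      _ = p * u := by group
  have huE : u ∈ E := Subgroup.mem_zpowers u
  have hzE : u * u ∈ E := E.mul_mem huE huE
  have huiE : u⁻¹ ∈ E := E.inv_mem huE
  have val_pu : ∀ p ∈ (Q : Subgroup G), ρ.character (p * u) = 0 := by
    intro p hp
    obtain ⟨q, hq⟩ := exists_conj_of_free (hEP u huE) hufree hp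
    rw [hq, hcf, h4 u hu]
  have val_pui : ∀ p ∈ (Q : Subgroup G), ρ.character (p * u⁻¹) = 0 := by
    intro p hp
    obtain ⟨q, hq⟩ := exists_conj_of_free (hEP u⁻¹ huiE) huifree hp
    rw [hq, hcf, h4 u⁻¹ hui4]
  have val_pz : ∀ p ∈ (Q : Subgroup G), ρ.character (p * (u * u)) = 2 := by
    intro p hp
    obtain ⟨q, hq⟩ := exists_conj_of_free (hEP (u * u) hzE) hzfree hp
    rw [hq, hcf, h2 (u * u) hz2]
  -- the fixed spaces
  obtain ⟨mQ, hmQ⟩ : ∃ mQ : ℕ, mQ = finrank ℂ (fixSp ρ (Q : Subgroup G)) := ⟨_, rfl⟩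
  have sumQ : ∑ p : (Q : Subgroup G), ρ.character (p : G) = 9 * (mQ : ℂ) := by
    rw [sum_eq_card_mul_finrank ρ (Q : Subgroup G), hQ, hmQ]
    norm_num
  have hmQ6 : mQ ≤ 6 := by
    rw [hmQ, ← hn]; exact finrank_fixSp_le ρ _
  have hmQne : mQ ≠ 6 := by
    intro h6
    have htop : fixSp ρ (Q : Subgroup G) = ⊤ := by
      apply Submodule.eq_top_of_finrank_eq
      rw [← hmQ, h6, Module.finrank_fin_fun, hn]
    -- every element of `Q` acts trivially
    obtain ⟨q, hqQ⟩ := exists_prime_orderOf_dvd_card' (G := (Q : Subgroup G)) 3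
      (by rw [hQ]; norm_num)
    have hq1 : (q : G) = 1 := by
      apply Cfsg.Agent.Lib.Helper4.M11.eq_one_of_scalar hna ρ
        (by rw [Module.finrank_fin_fun, hn]; norm_num) (c := 1)
      refine LinearMap.ext (fun w => ?_)
      have hw : w ∈ fixSp ρ (Q : Subgroup G) := by rw [htop]; exact Submodule.mem_top
      rw [(mem_fixSp ρ).mp hw (q : G) q.2]
      simp
    have : q = 1 := Subtype.ext hq1
    rw [this, orderOf_one] at hqQ
    omega
  have sumT : ∑ t : T, ρ.character (t : G) = 9 * (mQ : ℂ) + 18 := by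
    rw [hT, sum_semi hPE]
    have hinner : ∀ p : (Q : Subgroup G), ∑ e : E, ρ.character ((p : G) * (e : G)) =
        ρ.character (p : G) + 2 := by
      intro p
      rw [sum_zpowers_four hu (fun e => ρ.character ((p : G) * e)), mul_one, val_pu p p.2,
        val_pz p p.2, val_pui p p.2]
      ring
    rw [Finset.sum_congr rfl (fun p _ => hinner p), Finset.sum_add_distrib, sumQ,
      Finset.sum_const, Finset.card_univ]
    have hc : Fintype.card (Q : Subgroup G) = 9 := by rw [← Nat.card_eq_fintype_card]; exact hQ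
    rw [hc]
    norm_num
  obtain ⟨mT, hmT⟩ : ∃ mT : ℕ, mT = finrank ℂ (fixSp ρ T) := ⟨_, rfl⟩
  have hrel : 9 * mQ + 18 = 36 * mT := by
    have h := sum_eq_card_mul_finrank ρ T
    rw [sumT, cT, ← hmT] at h
    exact_mod_cast h
  have rT : finrank ℂ (fixSp ρ T) = 1 := by
    rw [← hmT]; omega
  -- the dihedral group
  have hs2 : orderOf s = 2 := by
    have := hs 1 (Subgroup.one_mem _)
    rwa [one_mul] at this
  have hss : s * s = 1 := by
    have := pow_orderOf_eq_one s
    rwa [hs2, pow_two] at this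
  have hsinv : s⁻¹ = s := inv_eq_of_mul_eq_one_left hss
  have hsE : s ∉ E := by
    intro h
    have := hs s⁻¹ (E.inv_mem h)
    rw [inv_mul_cancel, orderOf_one] at this
    omega
  have hconj_s : ∀ p ∈ E, s * p * s⁻¹ = p⁻¹ := by
    intro p hp
    have h5 := hs p hp
    have h6 : p * s * (p * s) = 1 := by
      have := pow_orderOf_eq_one (p * s)
      rwa [h5, pow_two] at this
    rw [hsinv]
    calc s * p * s = p⁻¹ * (p * s * (p * s)) := by group
      _ = p⁻¹ := by rw [h6, mul_one]
  have hEs : ∀ e ∈ Subgroup.zpowers s, ∀ x ∈ E, e * x * e⁻¹ ∈ E := by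
    intro e he x hx
    rcases mem_zpowers_two hss he with rfl | rfl
    · simpa using hx
    · rw [hconj_s x hx]; exact E.inv_mem hx
  have hEs' : ∀ g, g ∈ E → g ∈ Subgroup.zpowers s → g = 1 := by
    intro g hgE hgs
    rcases mem_zpowers_two hss hgs with h | h
    · exact h
    · exfalso; rw [h] at hgE; exact hsE hgE
  set D8 := semi E (Subgroup.zpowers s) hEs with hD8
  have cs : Nat.card (Subgroup.zpowers s) = 2 := by rw [Nat.card_zpowers, hs2]
  have cD : Nat.card D8 = 8 := by rw [hD8, card_semi hEs', cE, cs]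
  have sumE : ∑ e : E, ρ.character (e : G) = ((4 * 2 : ℕ) : ℂ) := by
    rw [sum_zpowers_four hu (fun e => ρ.character e), h1, h4 u hu, h2 _ hz2, h4 _ hui4]
    norm_num
  have sumD : ∑ t : D8, ρ.character (t : G) = ((8 * 2 : ℕ) : ℂ) := by
    rw [hD8, sum_semi hEs']
    have hinner : ∀ e : E, ∑ f : Subgroup.zpowers s, ρ.character ((e : G) * (f : G)) =
        ρ.character (e : G) + 2 := by
      intro e
      rw [sum_zpowers_two hs2 (fun f => ρ.character ((e : G) * f)), mul_one, h2 _ (hs e e.2)]
    rw [Finset.sum_congr rfl (fun e _ => hinner e), Finset.sum_add_distrib, sumE,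
      Finset.sum_const, Finset.card_univ]
    have hc : Fintype.card E = 4 := by rw [← Nat.card_eq_fintype_card]; exact cE
    rw [hc]
    norm_num
  have rD : finrank ℂ (fixSp ρ D8) = 2 :=
    finrank_fixSp_of_sum ρ D8 (c := 8) (d := 2) cD (by norm_num) sumD
  have rE : finrank ℂ (fixSp ρ E) = 2 :=
    finrank_fixSp_of_sum ρ E (c := 4) (d := 2) cE (by norm_num) sumE
  have hDE : fixSp ρ D8 = fixSp ρ E :=
    Submodule.eq_of_le_of_finrank_eq (fixSp_mono ρ left_le_semi) (by rw [rD, rE])
  have hsfix : ∀ w ∈ fixSp ρ E, ρ s w = w := by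
    intro w hw
    rw [← hDE] at hw
    exact (mem_fixSp ρ).mp hw s (right_le_semi (Subgroup.mem_zpowers s))
  set L := fixSp ρ T with hL
  set M0 := stab ρ L with hM0
  have hTM : T ≤ M0 := fun t ht =>
    mem_stab_of_fix ρ (fun w hw => (mem_fixSp ρ).mp hw t ht)
  have hsM : s ∈ M0 :=
    mem_stab_of_fix ρ (fun w hw => hsfix w (fixSp_mono ρ right_le_semi hw))
  have hEM : E ≤ M0 := le_trans right_le_semi hTM
  have hDM : D8 ≤ M0 := by
    rintro t ⟨e, he, f, hf, rfl⟩
    refine M0.mul_mem (hEM he) ?_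
    rcases mem_zpowers_two hss hf with rfl | rfl
    · exact M0.one_mem
    · exact hsM
  have hne : M0 ≠ ⊤ := by
    apply stab_ne_top ρ hirr
    · intro h0
      rw [h0, finrank_bot] at rT
      omega
    · intro h0
      rw [h0, finrank_top, Module.finrank_fin_fun, hn] at rT
      omega
  have h36 : 36 ∣ Nat.card M0 := by rw [← cT]; exact Subgroup.card_dvd_of_le hTM
  have h8 : 8 ∣ Nat.card M0 := by rw [← cD]; exact Subgroup.card_dvd_of_le hDM
  have h72 : 72 ∣ Nat.card M0 := by
    have := Nat.lcm_dvd h36 h8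
    have e : Nat.lcm 36 8 = 72 := by decide
    rwa [e] at this
  have hidx : 7 ≤ M0.index := by
    have h := Cfsg.Agent.Lib.Lead.PrimeDegree.card_dvd_factorial_index M0 hne
    rw [hG] at h
    have h7 : 7 ∣ M0.index.factorial := Dvd.dvd.trans (by norm_num) h
    exact (Nat.Prime.dvd_factorial (by norm_num)).mp h7
  have hmul : Nat.card M0 * M0.index = 2520 := by rw [← hG]; exact M0.card_mul_index
  obtain ⟨k, hk⟩ := h72
  rw [hk] at hmul
  rcases k_cases_35 hmul hidx with rfl | rfl
  · -- the case of order `72`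
    exfalso
    have cM : Nat.card M0 = 72 := by rw [hk]
    have hrelI : T.relIndex M0 = 2 := by
      have h := card_mul_relIndex' (H := T) (K := M0) hTM
      rw [cT, cM] at h
      omega
    have hTN : T ≤ N := by
      rintro t ⟨p, hp, e, he, rfl⟩
      exact N.mul_mem (Subgroup.le_normalizer hp) (hEN he)
    have hMN : M0 ≤ N := by
      apply le_normalizer_of_conj
      intro m hm p hp
      have hpT : p ∈ T := left_le_semi hp
      have hconj : ∀ p' ∈ (Q : Subgroup G), m * p' * m⁻¹ ∈ N := by
        intro p' hp'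
        exact hTN (conj_mem_of_relIndex_two hTM hrelI hm (left_le_semi hp'))
      have hQN : conjS m (Q : Subgroup G) ≤ N := by
        intro x hx
        rw [mem_conjS] at hx
        have := hconj _ hx
        have e : m * (m⁻¹ * x * m) * m⁻¹ = x := by group
        rwa [e] at this
      have hpg : IsPGroup 3 (conjS m (Q : Subgroup G)) :=
        IsPGroup.of_card (n := 2) (by rw [card_conjS, hQ]; norm_num)
      have hinf := hpg.inf_normalizer_sylow Q
      have hmem : m * p * m⁻¹ ∈ conjS m (Q : Subgroup G) ⊓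
          Subgroup.normalizer (((Q : Subgroup G)) : Set G) :=
        ⟨conj_mem_conjS hp, hQN (conj_mem_conjS hp)⟩
      have hmem' : m * p * m⁻¹ ∈ conjS m (Q : Subgroup G) ⊓ (Q : Subgroup G) := by
        rw [← hinf]; exact hmem
      exact hmem'.2
    have := Subgroup.card_dvd_of_le hMN
    rw [cM, hN] at this
    omega
  · exact ⟨M0, by rw [hk]⟩

end frame

end Cfsg.Agent.Lib.Helper4.Ord2520
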