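import Mathlib
import Cfsg.Agent.Lib.Helper4.Ord2520l
import Cfsg.Agent.Lib.Helper7.A7sB
import Cfsg.Agent.Lib.Helper7.A7sC
import Cfsg.Agent.Lib.Helper7.A7sD
import Cfsg.Agent.Lib.Helper8.A7n

/-! A simple group of order `2520` has a subgroup of order `360`. -/

set_option autoImplicit false
set_option linter.unusedSectionVars false
set_option linter.unusedVariables false
set_option linter.style.longLine false
set_option linter.unusedSimpArgs false
set_option linter.unusedDecidableInType false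
set_option linter.style.haveILetI false

set_option maxHeartbeats 1600000

namespace Cfsg.Agent.Lib.Helper4.Ord2520

open Cfsg Cfsg.Agent.Lib.Helper6 Module
open Cfsg.Agent.Lib.Lead Cfsg.Agent.Lib.Lead.SylowCount

section main

variable {G : Type*} [Group G] [Fintype G]
variable [Fintype (Cfsg.IrrCharacter G)] [DecidableEq (Cfsg.IrrCharacter G)]
variable {P : Sylow 7 G} {a b θ1 θ2 : Cfsg.IrrCharacter G} {s1 s2 ε : ℤ}

/-- the main case: the pattern `{1, 6, 15 | 10, 10}` -/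
theorem Blk7.exists_360 [IsSimpleGroup G] (hG : Nat.card G = 2520)
    (hS5 : (∀ g : G, orderOf g ≠ 10) → ∀ Q : Sylow 5 G,
      Nat.card (Subgroup.centralizer ((Q : Subgroup G) : Set G)) = 5 ∧
      Nat.card (Subgroup.normalizer ((Q : Subgroup G) : Set G)) = 20)
    (B : Blk7 P a b θ1 θ2 s1 s2 ε) (hda : Cfsg.charDegree (a : G → ℂ) = 6)
    (hdb : Cfsg.charDegree (b : G → ℂ) = 15) (hdt : Cfsg.charDegree (θ1 : G → ℂ) = 10) :
    ∃ M : Subgroup G, Nat.card M = 360 := by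
  classical
  haveI : Fact (Nat.Prime 5) := ⟨by norm_num⟩
  haveI : Fact (Nat.Prime 3) := ⟨by norm_num⟩
  haveI : Fact (Nat.Prime 2) := ⟨by norm_num⟩
  have h10 := B.no_ten_T hG hda hdb hdt
  have hS5' := hS5 h10
  obtain ⟨Q5⟩ : Nonempty (Sylow 5 G) := inferInstance
  obtain ⟨B5, δ, D5⟩ := exists_blk5 hG Q5 (hS5' Q5).1 (hS5' Q5).2
  obtain ⟨D⟩ := B.exists_a7Data hG hda hdb hdt D5
  obtain ⟨Q⟩ : Nonempty (Sylow 3 G) := inferInstance
  have hC7 := (sylow7_data hG).2.1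
  have hC5 : ∀ Q : Sylow 5 G,
      Nat.card (Subgroup.centralizer ((Q : Subgroup G) : Set G)) = 5 := fun Q => (hS5' Q).1
  rcases Cfsg.Agent.Lib.Helper8.A7n.card_normalizer_sylow3 hG hC7 hC5 Q with hN | hN
  · have hC2 : ∀ t : G, orderOf t = 2 →
        Nat.card (Subgroup.centralizer ({t} : Set G)) = 24 :=
      fun t ht => (D.values_involution hG t ht).2.2.2.2.2.2.2.2.1
    rcases Cfsg.Agent.Lib.Helper7.A7s.sylow3_free hG hC2 Q hN with hM | ⟨u, hu, hnorm, hfree⟩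
    · exact hM
    · obtain ⟨n, ρ, hirr, hρ⟩ := D.c6.2
      have h1 : ρ.character 1 = 6 := by
        rw [hρ, apply_one, D.d6]; norm_num
      have h2 : ∀ t : G, orderOf t = 2 → ρ.character t = 2 := by
        intro t ht
        rw [hρ]
        exact (D.values_involution hG t ht).1
      have h4 : ∀ w : G, orderOf w = 4 → ρ.character w = 0 := by
        intro w hw
        rw [hρ]
        exact (D.values_four hG w hw).1
      obtain ⟨t0, ht0⟩ := exists_prime_orderOf_dvd_card' (G := G) 2 (by rw [hG]; norm_num)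
      obtain ⟨t1, t2, hc1, hc2, h12⟩ := (D.values_involution hG t0 ht0).2.2.2.2.2.2.2.2.2
      have hV : ∃ t1 t2 : G, orderOf t1 = 2 ∧ orderOf t2 = 2 ∧ orderOf (t1 * t2) = 2 :=
        ⟨t1, t2, by rw [← Cfsg.Agent.Lib.Helper4.M11.orderOf_eq_of_isConj hc1, ht0],
          by rw [← Cfsg.Agent.Lib.Helper4.M11.orderOf_eq_of_isConj hc2, ht0], by rw [h12, ht0]⟩
      obtain ⟨s, hs⟩ := Cfsg.Agent.Lib.Helper7.A7s.exists_dihedral hG
        (χ := ρ.character) ⟨n, ρ, rfl⟩ h1 h2 h4 hV u hu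
      exact exists_360_of_frame hG ρ hirr h1 h2 h4 Q hN u hu hnorm hfree s hs
  · exact ⟨_, hN⟩

/-- a simple group of order `2520` has a subgroup of order `360`, given the structure of the
Sylow `5`-normalizers in the absence of elements of order `10` -/
theorem exists_subgroup_360_aux [IsSimpleGroup G] (hG : Nat.card G = 2520)
    (hS5 : (∀ g : G, orderOf g ≠ 10) → ∀ Q : Sylow 5 G,
      Nat.card (Subgroup.centralizer ((Q : Subgroup G) : Set G)) = 5 ∧
      Nat.card (Subgroup.normalizer ((Q : Subgroup G) : Set G)) = 20) :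
    ∃ M : Subgroup G, Nat.card M = 360 := by
  classical
  haveI : Fact (Nat.Prime 7) := ⟨by norm_num⟩
  haveI : Fact (Nat.Prime 5) := ⟨by norm_num⟩
  obtain ⟨P⟩ : Nonempty (Sylow 7 G) := inferInstance
  obtain ⟨a, b, θ1, θ2, s1, s2, ε, B⟩ := exists_blk7' hG P
  obtain ⟨da, hda⟩ : ∃ da : ℕ, Cfsg.charDegree (a : G → ℂ) = da := ⟨_, rfl⟩
  obtain ⟨db, hdb⟩ : ∃ db : ℕ, Cfsg.charDegree (b : G → ℂ) = db := ⟨_, rfl⟩
  obtain ⟨t, hdt⟩ : ∃ t : ℕ, Cfsg.charDegree (θ1 : G → ℂ) = t := ⟨_, rfl⟩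
  have hdt2 : Cfsg.charDegree (θ2 : G → ℂ) = t := by rw [B.deg_eq, hdt]
  have hda1 : da ≠ 1 := by
    intro h
    exact B.ha1 (eq_oneIrr_of_degree_one hG a (by rw [hda, h]))
  have hdb1 : db ≠ 1 := by
    intro h
    exact B.hb1 (eq_oneIrr_of_degree_one hG b (by rw [hdb, h]))
  have hsq : 1 + da * da + db * db + 2 * (t * t) ≤ 2520 := by
    have h1 := sum_sq (G := G) hG
    have hsub : ({oneIrr G, a, b, θ1, θ2} : Finset (Cfsg.IrrCharacter G)) ⊆ Finset.univ :=
      Finset.subset_univ _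
    have h2 := Finset.sum_le_sum_of_subset (f := fun χ : Cfsg.IrrCharacter G =>
      Cfsg.charDegree (χ : G → ℂ) ^ 2) hsub
    rw [h1, Finset.sum_insert (by simp [B.ha1.symm, B.hb1.symm, B.hθ1o.symm, B.hθ2o.symm]),
      Finset.sum_insert (by simp [B.hab, B.hθ1a.symm, B.hθ2a.symm]),
      Finset.sum_insert (by simp [B.hθ1b.symm, B.hθ2b.symm]), Finset.sum_pair B.hθ12,
      charDegree_oneIrr, hda, hdb, hdt, hdt2] at h2
    nlinarith
  have hrel := B.deg_rel.1
  rw [hda, hdb, hdt] at hrel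
  have hma := B.ma
  have hmb := B.mb
  have hmt := B.mθ1
  rw [hda] at hma
  rw [hdb] at hmb
  rw [hdt] at hmt
  have hW : (∀ g : G, orderOf g ≠ 10) → ∀ χ : Cfsg.IrrCharacter G,
      Cfsg.charDegree (χ : G → ℂ) = 8 → False := by
    intro h10 χ hχ
    have hS5' := hS5 h10
    obtain ⟨Q5⟩ : Nonempty (Sylow 5 G) := inferInstance
    obtain ⟨B5, δ, D5⟩ := exists_blk5 hG Q5 (hS5' Q5).1 (hS5' Q5).2
    have hχB : χ ∈ B5 := (D5.mem χ).mpr (by rw [hχ]; norm_num)
    have h1 := D5.cong χ hχB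
    rw [hχ] at h1
    unfold Int.ModEq at h1
    rcases D5.sign χ hχB with h | h <;> rw [h] at h1 <;> omega
  rcases p7_patterns da db t s1 s2 ε B.hs1 B.hs2 B.hε hma hmb hmt
    (by rw [← hda]; exact degree_dvd hG a) (by rw [← hdb]; exact degree_dvd hG b)
    (by rw [← hdt]; exact degree_dvd hG θ1) hda1 hdb1 hrel hsq with
    ⟨rfl, rfl, rfl⟩ | ⟨rfl, rfl, rfl⟩ | ⟨rfl, rfl, rfl⟩ | ⟨rfl, rfl, rfl⟩ | ⟨rfl, rfl, rfl⟩ |
    ⟨rfl, rfl, rfl⟩ | ⟨rfl, rfl, rfl⟩ | ⟨rfl, rfl, rfl⟩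
  · exact B.exists_360 hG hS5 hda hdb hdt
  · exact B.swap.exists_360 hG hS5 hdb hda hdt
  · exact (B.not_pattern3 hG (by rw [hda]; norm_num) (by rw [hdb]; norm_num) hdt).elim
  · exact (B.not_pattern3 hG (by rw [hda]; norm_num) (by rw [hdb]; norm_num) hdt).elim
  · exact (B.not_pattern4 hG hda hdb hdt).elim
  · exact (B.swap.not_pattern4 hG hdb hda hdt).elim
  · exact (hW (B.no_ten_W hG hda hdb hdt) a hda).elim
  · exact (hW (B.swap.no_ten_W hG hdb hda hdt) b hdb).elim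

/-- a simple group of order `2520` has a subgroup of order `360` -/
theorem exists_subgroup_360 [IsSimpleGroup G] (hG : Nat.card G = 2520) :
    ∃ M : Subgroup G, Nat.card M = 360 :=
  exists_subgroup_360_aux hG (fun h10 Q =>
    Cfsg.Agent.Lib.Helper7.A7s.sylow5_data hG (sylow7_data hG).2.1 h10 Q)

end main

end Cfsg.Agent.Lib.Helper4.Ord2520
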