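import Mathlib
import Cfsg.Agent.Lib.Helper2.P3TDefs

/-! S2459 pieces S1b (`scalar_of_three_eig`) and S1 (`cyclic_or_rank_one`) (helper4). -/

set_option autoImplicit false
set_option linter.unusedVariables false
set_option linter.unusedSectionVars false
set_option linter.style.longLine false
set_option linter.style.haveILetI false

namespace Cfsg.Agent.Lib.Helper2.P3T

open Matrix Module

universe u v

section partB
variable {K : Type v} [Field K] {V : Type u} [AddCommGroup V] [Module K V]

/-- S1b -/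
theorem h4dup_scalar_of_three_eig (g : Module.End K V) (u0 l : V) (c : K) (hc0 : c ≠ 0) (hc1 : c ≠ 1)
    (hli : LinearIndependent K ![u0, l]) (μ0 μ1 μc : K) (h0 : g u0 = μ0 • u0)
    (h1 : g (u0 + l) = μ1 • (u0 + l)) (hc : g (u0 + c • l) = μc • (u0 + c • l)) :
    g u0 = μ1 • u0 ∧ g l = μ1 • l := by
  have hgl : g l = (μ1 - μ0) • u0 + μ1 • l := by
    have h := h1
    rw [map_add, h0] at h
    have h' : g l = μ1 • (u0 + l) - μ0 • u0 := by rw [← h]; abel
    rw [h']; module
  have hcl : (c * (μ1 - μ0) - (μc - μ0)) • u0 + (c * μ1 - c * μc) • l = 0 := by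
    have h := hc
    rw [map_add, map_smul, h0, hgl] at h
    have h2 : μ0 • u0 + c • ((μ1 - μ0) • u0 + μ1 • l) - μc • (u0 + c • l) = 0 := sub_eq_zero.mpr h
    rw [← h2]; module
  obtain ⟨ha, hb⟩ := LinearIndependent.pair_iff.mp hli _ _ hcl
  have hμ : μ1 = μc := by
    have h : c * (μ1 - μc) = 0 := by linear_combination hb
    rcases mul_eq_zero.mp h with h | h
    · exact absurd h hc0
    · exact sub_eq_zero.mp h
  have hμ0 : μ1 = μ0 := by
    have h : (c - 1) * (μ1 - μ0) = 0 := by rw [← hμ] at ha; linear_combination ha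
    rcases mul_eq_zero.mp h with h | h
    · exact absurd (sub_eq_zero.mp h) hc1
    · exact sub_eq_zero.mp h
  refine ⟨by rw [h0, hμ0], ?_⟩
  rw [hgl, hμ0]; simp

/-- the determinant of an explicit three by three matrix -/
theorem h4_det3 (a b c d e f g h i : K) :
    Matrix.det !![a, b, c; d, e, f; g, h, i] =
      a * e * i - a * f * h - b * d * i + b * f * g + c * d * h - c * e * g := by
  rw [Matrix.det_fin_three]
  simp

/-- coordinates in a basis of three vectors -/
theorem h4_repr3 (b : Module.Basis (Fin 3) K V) (k0 k1 k2 : K) (i : Fin 3) :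
    b.repr (k0 • b 0 + k1 • b 1 + k2 • b 2) i = ![k0, k1, k2] i := by
  simp only [map_add, map_smul, Module.Basis.repr_self, Finsupp.coe_add, Finsupp.coe_smul,
    Pi.add_apply, Pi.smul_apply, smul_eq_mul]
  fin_cases i <;> simp [Finsupp.single_apply]

/-- three vectors with non-vanishing coordinate determinant are linearly independent -/
theorem h4_li_of_det (b : Module.Basis (Fin 3) K V) (k0 k1 k2 l0 l1 l2 m0 m1 m2 : K)
    (hdet : Matrix.det !![k0, l0, m0; k1, l1, m1; k2, l2, m2] ≠ 0) :
    LinearIndependent K ![k0 • b 0 + k1 • b 1 + k2 • b 2, l0 • b 0 + l1 • b 1 + l2 • b 2,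
      m0 • b 0 + m1 • b 1 + m2 • b 2] := by
  refine ((Module.Basis.is_basis_iff_det b).mpr ?_).1
  rw [isUnit_iff_ne_zero, Module.Basis.det_apply]
  convert hdet using 2
  ext i j
  rw [Module.Basis.toMatrix_apply]
  fin_cases j
  · simp only [Fin.zero_eta, Matrix.cons_val_zero, h4_repr3]
    fin_cases i <;> rfl
  · simp only [Fin.mk_one, Matrix.cons_val_one, Matrix.cons_val_zero, h4_repr3]
    fin_cases i <;> rfl
  · simp only [Fin.reduceFinMk, Matrix.cons_val_two, Matrix.tail_cons, Matrix.head_cons, h4_repr3]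
    fin_cases i <;> rfl

/-- S1 -/
theorem h4dup_cyclic_or_rank_one [FiniteDimensional K V] (h3 : Module.finrank K V = 3)
    (hK : ∃ c : K, c ≠ 0 ∧ c ≠ 1) (g : Module.End K V) (hg : ∀ a : K, g ≠ a • (1 : Module.End K V)) :
    (∃ e : V, LinearIndependent K ![e, g e, g (g e)]) ∨
      ∃ (a : K) (α : Module.Dual K V) (x : V), g = a • (1 : Module.End K V) + LinearMap.smulRight α x := by
  obtain ⟨c, hc0, hc1⟩ := hK
  by_cases hcyc : ∃ e : V, LinearIndependent K ![e, g e, g (g e)]
  · exact Or.inl hcyc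
  right
  push Not at hcyc
  -- a vector which is not an eigenvector
  obtain ⟨e1, hpair⟩ : ∃ e1 : V, LinearIndependent K ![e1, g e1] := by
    by_contra hno
    push Not at hno
    obtain ⟨a, ha⟩ := LinearMap.exists_eq_smul_id_of_forall_notLinearIndependent (f := g) hno
    exact hg a ha
  -- a third basis vector
  have hlt : Submodule.span K (Set.range ![e1, g e1]) ≠ ⊤ := by
    intro htop
    have h1 : (Set.range ![e1, g e1]).finrank K ≤ Fintype.card (Fin 2) := finrank_range_le_card _
    rw [Set.finrank, htop, finrank_top, h3] at h1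
    simp at h1
  obtain ⟨w, hw⟩ : ∃ w : V, w ∉ Submodule.span K (Set.range ![e1, g e1]) := by
    by_contra hno
    push Not at hno
    exact hlt (eq_top_iff.mpr (fun x _ => hno x))
  have hli3 : LinearIndependent K ![w, e1, g e1] :=
    linearIndependent_fin_cons.mpr ⟨hpair, hw⟩
  let b : Module.Basis (Fin 3) K V :=
    basisOfLinearIndependentOfCardEqFinrank hli3 (by rw [h3]; rfl)
  have hb : ⇑b = ![w, e1, g e1] := coe_basisOfLinearIndependentOfCardEqFinrank _ _
  have hb0 : b 0 = w := by rw [hb]; rfl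
  have hb1 : b 1 = e1 := by rw [hb]; rfl
  have hb2 : b 2 = g e1 := by rw [hb]; rfl
  -- coordinates of the images
  obtain ⟨r, p, s, hge2⟩ : ∃ r p s : K, g (g e1) = r • b 0 + p • b 1 + s • b 2 := by
    refine ⟨b.repr (g (g e1)) 0, b.repr (g (g e1)) 1, b.repr (g (g e1)) 2, ?_⟩
    have h := b.sum_repr (g (g e1))
    rw [Fin.sum_univ_three] at h
    exact h.symm
  obtain ⟨α0, a1, a2, hgw⟩ : ∃ α0 a1 a2 : K, g w = α0 • b 0 + a1 • b 1 + a2 • b 2 := by
    refine ⟨b.repr (g w) 0, b.repr (g w) 1, b.repr (g w) 2, ?_⟩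
    have h := b.sum_repr (g w)
    rw [Fin.sum_univ_three] at h
    exact h.symm
  have hgb0 : g (b 0) = α0 • b 0 + a1 • b 1 + a2 • b 2 := by
    rw [show g (b 0) = g w from congrArg g hb0]; exact hgw
  have hgb1 : g (b 1) = b 2 := by rw [hb2]; exact congrArg g hb1
  have hgb2 : g (b 2) = r • b 0 + p • b 1 + s • b 2 := by
    rw [show g (b 2) = g (g e1) from congrArg g hb2]; exact hge2
  -- non-cyclicity at `e1`
  have hr : r = 0 := by
    by_contra hr0
    have hdet : Matrix.det !![(0 : K), 0, r; 1, 0, p; 0, 1, s] ≠ 0 := by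
      rw [h4_det3]
      intro h0
      apply hr0
      linear_combination h0
    have hli := h4_li_of_det b 0 1 0 0 0 1 r p s hdet
    have hvec : ![b 1, g (b 1), g (g (b 1))] = ![(0 : K) • b 0 + (1 : K) • b 1 + (0 : K) • b 2,
        (0 : K) • b 0 + (0 : K) • b 1 + (1 : K) • b 2, r • b 0 + p • b 1 + s • b 2] := by
      rw [hgb1, hgb2]; simp
    apply hcyc (b 1)
    rw [hvec]; exact hli
  subst hr
  -- non-cyclicity at `x • e1 + w`
  have hq : ∀ x : K, (a1 - α0 * x) ^ 2 + s * (a1 - α0 * x) * (x + a2) - p * (x + a2) ^ 2 = 0 := by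
    intro x
    by_contra hne
    have hv1 : g (b 0 + x • b 1) = α0 • b 0 + a1 • b 1 + (a2 + x) • b 2 := by
      rw [map_add, map_smul, hgb0, hgb1]; module
    have hv2 : g (g (b 0 + x • b 1)) = (α0 * α0) • b 0 + (α0 * a1 + (a2 + x) * p) • b 1 +
        (α0 * a2 + a1 + (a2 + x) * s) • b 2 := by
      rw [hv1, map_add, map_add, map_smul, map_smul, map_smul, hgb0, hgb1, hgb2]; module
    have hdet : Matrix.det !![(1 : K), α0, α0 * α0; x, a1, α0 * a1 + (a2 + x) * p;
        0, a2 + x, α0 * a2 + a1 + (a2 + x) * s] ≠ 0 := by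
      rw [h4_det3]
      intro h0
      apply hne
      linear_combination h0
    have hli := h4_li_of_det b 1 x 0 α0 a1 (a2 + x) (α0 * α0) (α0 * a1 + (a2 + x) * p)
      (α0 * a2 + a1 + (a2 + x) * s) hdet
    have hvec : ![b 0 + x • b 1, g (b 0 + x • b 1), g (g (b 0 + x • b 1))] =
        ![(1 : K) • b 0 + x • b 1 + (0 : K) • b 2, α0 • b 0 + a1 • b 1 + (a2 + x) • b 2,
          (α0 * α0) • b 0 + (α0 * a1 + (a2 + x) * p) • b 1 +
            (α0 * a2 + a1 + (a2 + x) * s) • b 2] := by
      rw [hv2, hv1]; simp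
    apply hcyc (b 0 + x • b 1)
    rw [hvec]; exact hli
  -- extract the coefficients
  have h0 := hq 0
  have h1 := hq 1
  have hcc := hq c
  have hC : α0 ^ 2 - s * α0 - p = 0 := by
    have h : c * (c - 1) * (α0 ^ 2 - s * α0 - p) = 0 := by
      linear_combination hcc - c * h1 + (c - 1) * h0
    rcases mul_eq_zero.mp h with h | h
    · rcases mul_eq_zero.mp h with h | h
      · exact absurd h hc0
      · exact absurd (sub_eq_zero.mp h) hc1
    · exact h
  have hB : -2 * α0 * a1 + s * (a1 - α0 * a2) - 2 * p * a2 = 0 := by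
    linear_combination h1 - h0 - hC
  have hk : a1 + α0 * a2 = 0 := by
    by_cases hβ : s - 2 * α0 = 0
    · have h : (a1 + α0 * a2) ^ 2 = 0 := by
        linear_combination h0 - a1 * a2 * hβ - a2 ^ 2 * hC - a2 ^ 2 * α0 * hβ
      exact pow_eq_zero_iff (two_ne_zero) |>.mp h
    · have h : (s - 2 * α0) * (a1 + α0 * a2) = 0 := by
        linear_combination hB - 2 * a2 * hC
      rcases mul_eq_zero.mp h with h | h
      · exact absurd h hβ
      · exact h
  -- the rank one form
  refine ⟨α0, b.coord 1 + (s - α0) • b.coord 2 + a2 • b.coord 0, b 2 - α0 • b 1, ?_⟩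
  apply b.ext
  intro i
  have hp : p = -(α0 * (s - α0)) := by linear_combination -hC
  have ha1 : a1 = -(α0 * a2) := by linear_combination hk
  fin_cases i
  · simp only [Fin.zero_eta, LinearMap.add_apply, LinearMap.smul_apply, Module.End.one_apply,
      LinearMap.smulRight_apply, Module.Basis.coord_apply, Module.Basis.repr_self,
      Finsupp.single_apply]
    rw [hgb0, ha1]
    simp
    module
  · simp only [Fin.mk_one, LinearMap.add_apply, LinearMap.smul_apply, Module.End.one_apply,
      LinearMap.smulRight_apply, Module.Basis.coord_apply, Module.Basis.repr_self,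
      Finsupp.single_apply]
    rw [hgb1]
    simp
  · simp only [Fin.reduceFinMk, LinearMap.add_apply, LinearMap.smul_apply, Module.End.one_apply,
      LinearMap.smulRight_apply, Module.Basis.coord_apply, Module.Basis.repr_self,
      Finsupp.single_apply]
    rw [hgb2, hp]
    simp
    module

end partB

end Cfsg.Agent.Lib.Helper2.P3T
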