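import Cfsg.Agent.Lib.Helper4.SemiMod4

/-!
# Existence of `p'`-elements with prescribed characteristic polynomial, and counting
-/

namespace Cfsg.Agent.Lib.Helper4.SemiMod

open Polynomial

variable {F : Type*} [Field F]

lemma fromBlocks_diag_pow {ι κ : Type*} [Fintype ι] [DecidableEq ι] [Fintype κ] [DecidableEq κ]
    (A : Matrix ι ι F) (B : Matrix κ κ F) (k : ℕ) :
    (Matrix.fromBlocks A 0 0 B) ^ k = Matrix.fromBlocks (A ^ k) 0 0 (B ^ k) := by
  induction k with
  | zero => simp [Matrix.fromBlocks_one]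
  | succ k ih =>
    rw [pow_succ, ih, Matrix.fromBlocks_multiply, pow_succ, pow_succ]
    simp

lemma coprime_pow_sub_one (p : ℕ) [hp : Fact p.Prime] (m : ℕ) (hm : 0 < m) :
    (p ^ m - 1).Coprime p := by
  rw [Nat.coprime_comm, Nat.Prime.coprime_iff_not_dvd hp.out]
  intro h
  have h1 : p ∣ p ^ m := dvd_pow_self p hm.ne'
  have h2 : 1 ≤ p ^ m := Nat.one_le_pow _ _ hp.out.pos
  have h3 : p ∣ p ^ m - (p ^ m - 1) := Nat.dvd_sub h1 h
  have h4 : p ^ m - (p ^ m - 1) = 1 := by omega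
  rw [h4] at h3
  exact hp.out.one_lt.ne' (Nat.dvd_one.1 h3)

lemma exists_irr_block [Fintype F] (p : ℕ) [Fact p.Prime] [CharP F p] (g : F[X])
    (hg : Irreducible g) (hm : g.Monic) (h0 : g.coeff 0 ≠ 0) :
    ∃ (ι : Type) (_ : Fintype ι) (_ : DecidableEq ι) (A : Matrix ι ι F),
      A.charpoly = g ∧ ∃ k, 0 < k ∧ k.Coprime p ∧ A ^ k = 1 := by
  haveI : Fact (Irreducible g) := ⟨hg⟩
  set pb := AdjoinRoot.powerBasis hg.ne_zero with hpb
  haveI : Module.Finite F (AdjoinRoot g) := pb.finite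
  haveI : Finite (AdjoinRoot g) := Module.finite_of_finite F
  letI : Fintype (AdjoinRoot g) := Fintype.ofFinite _
  refine ⟨Fin pb.dim, inferInstance, inferInstance, Algebra.leftMulMatrix pb.basis pb.gen, ?_, ?_⟩
  · rw [charpoly_leftMulMatrix, hpb, AdjoinRoot.minpoly_powerBasis_gen_of_monic hm]
  · haveI : CharP (AdjoinRoot g) p := charP_of_injective_algebraMap
      (algebraMap F (AdjoinRoot g)).injective p
    obtain ⟨m, hpm, hcard⟩ := FiniteField.card (AdjoinRoot g) p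
    refine ⟨Fintype.card (AdjoinRoot g) - 1, ?_, ?_, ?_⟩
    · have := Fintype.one_lt_card (α := AdjoinRoot g); omega
    · rw [hcard]; exact coprime_pow_sub_one p m m.pos
    · rw [← map_pow]
      have hne : pb.gen ≠ 0 := by
        rw [hpb, AdjoinRoot.powerBasis_gen]
        intro h
        have h1 : aeval (AdjoinRoot.root g) g = 0 := AdjoinRoot.aeval_eq g ▸ AdjoinRoot.mk_self
        rw [h, ← Polynomial.coeff_zero_eq_aeval_zero'] at h1
        exact h0 ((map_eq_zero _).1 h1)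
      rw [FiniteField.pow_card_sub_one_eq_one _ hne, map_one]

lemma exists_block [Fintype F] (p : ℕ) [Fact p.Prime] [CharP F p] :
    ∀ (d : ℕ) (f : F[X]), f.Monic → f.natDegree = d → f.coeff 0 ≠ 0 →
    ∃ (ι : Type) (_ : Fintype ι) (_ : DecidableEq ι) (A : Matrix ι ι F),
      A.charpoly = f ∧ ∃ k, 0 < k ∧ k.Coprime p ∧ A ^ k = 1 := by
  intro d
  induction d using Nat.strong_induction_on with
  | _ d ih =>
  intro f hf hd h0
  rcases Nat.eq_zero_or_pos d with hd0 | hpos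
  · have : f = 1 := by
      rw [← Polynomial.Monic.natDegree_eq_zero]
      · rw [hd, hd0]
      · exact hf
    subst this
    refine ⟨Fin 0, inferInstance, inferInstance, 0, Matrix.charpoly_isEmpty, 1, one_pos,
      Nat.coprime_one_left _, Subsingleton.elim _ _⟩
  · obtain ⟨g₀, hg₀, hg₀d⟩ := exists_irreducible_of_natDegree_pos (f := f) (by rw [hd]; exact hpos)
    set g : F[X] := g₀ * C (g₀.leadingCoeff)⁻¹ with hgdef
    have hgm : g.Monic := Polynomial.monic_mul_leadingCoeff_inv hg₀.ne_zero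
    have hlc : (g₀.leadingCoeff)⁻¹ ≠ 0 := inv_ne_zero (leadingCoeff_ne_zero.2 hg₀.ne_zero)
    have hass : Associated g₀ g :=
      ⟨(isUnit_C.2 (IsUnit.mk0 _ hlc)).unit, by simp [hgdef]⟩
    have hgirr : Irreducible g := hass.irreducible hg₀
    have hgd : g ∣ f := hass.dvd_iff_dvd_left.1 hg₀d
    obtain ⟨f', hf'⟩ := hgd
    have hf'm : f'.Monic := hgm.of_mul_monic_left (hf' ▸ hf)
    have hdeg : f.natDegree = g.natDegree + f'.natDegree := by
      rw [hf', hgm.natDegree_mul hf'm]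
    have hgpos : 0 < g.natDegree := hgirr.natDegree_pos
    have hc0 : g.coeff 0 * f'.coeff 0 ≠ 0 := by
      rw [← Polynomial.mul_coeff_zero, ← hf']; exact h0
    obtain ⟨ι₁, _, _, A₁, hA₁, k₁, hk₁, hk₁p, hA₁k⟩ :=
      exists_irr_block p g hgirr hgm (left_ne_zero_of_mul hc0)
    obtain ⟨ι₂, _, _, A₂, hA₂, k₂, hk₂, hk₂p, hA₂k⟩ :=
      ih f'.natDegree (by omega) f' hf'm rfl (right_ne_zero_of_mul hc0)
    refine ⟨ι₁ ⊕ ι₂, inferInstance, inferInstance, Matrix.fromBlocks A₁ 0 0 A₂, ?_,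
      k₁ * k₂, Nat.mul_pos hk₁ hk₂, Nat.Coprime.mul_left hk₁p hk₂p, ?_⟩
    · rw [Matrix.charpoly_fromBlocks_zero₁₂, hA₁, hA₂, hf']
    · rw [fromBlocks_diag_pow, pow_mul, hA₁k, one_pow, mul_comm, pow_mul, hA₂k, one_pow,
        Matrix.fromBlocks_one]

/-- **Existence** of a `p'`-element with given characteristic polynomial. -/
theorem exists_gl [Fintype F] (p : ℕ) [Fact p.Prime] [CharP F p] (n : ℕ) (f : F[X])
    (hf : f.Monic) (hd : f.natDegree = n) (h0 : f.coeff 0 ≠ 0) :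
    ∃ g : GL (Fin n) F, (g : Matrix (Fin n) (Fin n) F).charpoly = f ∧ (orderOf g).Coprime p := by
  obtain ⟨ι, _, _, A, hA, k, hk, hkp, hAk⟩ := exists_block p n f hf hd h0
  have hcard : Fintype.card ι = n := by
    rw [← Matrix.charpoly_natDegree_eq_dim A, hA, hd]
  set e : ι ≃ Fin n := Fintype.equivFinOfCardEq hcard with he
  set B : Matrix (Fin n) (Fin n) F := Matrix.reindex e e A with hB
  have hBk : B ^ k = 1 := by
    have : B = Matrix.reindexAlgEquiv F F e A := rfl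
    rw [this, ← map_pow, hAk, map_one]
  have hB1 : B * B ^ (k - 1) = 1 := by
    rw [← pow_succ', Nat.sub_add_cancel hk, hBk]
  have hB2 : B ^ (k - 1) * B = 1 := by
    rw [← pow_succ, Nat.sub_add_cancel hk, hBk]
  refine ⟨⟨B, B ^ (k - 1), hB1, hB2⟩, ?_, ?_⟩
  · show B.charpoly = f
    rw [hB, Matrix.charpoly_reindex, hA]
  · apply Nat.Coprime.coprime_dvd_left _ hkp
    apply orderOf_dvd_of_pow_eq_one
    apply Units.ext
    rw [Units.val_pow_eq_pow_val]
    exact hBk

end Cfsg.Agent.Lib.Helper4.SemiMod
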