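import Cfsg.Agent.Lib.Helper4.CharFactor
import Cfsg.Agent.Lib.Helper4.SemiCount

/-!
# Involutions of `PGL_n(q)`, `q` odd
-/

namespace Cfsg.Agent.Lib.Helper4.PGLInvol

open Polynomial Matrix Cfsg.Agent.Lib.Helper4.SemiMod

variable {F : Type*} [Field F] {n : ℕ}

/-- scalar matrices in `GL` -/
noncomputable def sc (c : Fˣ) : GL (Fin n) F :=
  Units.map (Matrix.scalar (Fin n) : F →+* Matrix (Fin n) (Fin n) F).toMonoidHom c

lemma sc_val (c : Fˣ) : ((sc c : GL (Fin n) F) : Matrix (Fin n) (Fin n) F) = Matrix.scalar (Fin n) (c : F) := rfl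

lemma sc_mul (c d : Fˣ) : (sc (c * d) : GL (Fin n) F) = sc c * sc d := map_mul _ _ _

lemma sc_one : (sc 1 : GL (Fin n) F) = 1 := map_one _

lemma sc_inv (c : Fˣ) : (sc c⁻¹ : GL (Fin n) F) = (sc c)⁻¹ := map_inv _ _

lemma sc_mem_center (c : Fˣ) : (sc c : GL (Fin n) F) ∈ Subgroup.center (GL (Fin n) F) := by
  rw [Matrix.GeneralLinearGroup.mem_center_iff_val_mem_range_scalar]
  exact ⟨c, rfl⟩

lemma sc_comm (c : Fˣ) (g : GL (Fin n) F) : sc c * g = g * sc c :=
  ((Subgroup.mem_center_iff.1 (sc_mem_center c)) g).symm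

lemma sc_injective (hn : 0 < n) : Function.Injective (sc : Fˣ → GL (Fin n) F) := by
  intro c d h
  have h' := congrArg (fun g : GL (Fin n) F => (g : Matrix (Fin n) (Fin n) F) ⟨0, hn⟩ ⟨0, hn⟩) h
  simp only [sc_val, Matrix.scalar_apply, Matrix.diagonal_apply_eq] at h'
  exact Units.ext h'

lemma exists_sc_of_mem_center (hn : 0 < n) (z : GL (Fin n) F)
    (hz : z ∈ Subgroup.center (GL (Fin n) F)) : ∃ c : Fˣ, z = sc c := by
  rw [Matrix.GeneralLinearGroup.mem_center_iff_val_mem_range_scalar] at hz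
  obtain ⟨r, hr⟩ := hz
  have hr0 : r ≠ 0 := by
    rintro rfl
    rw [map_zero] at hr
    have hdet := z.isUnit.map (Matrix.detMonoidHom (n := Fin n) (R := F))
    rw [← hr] at hdet
    haveI : Nonempty (Fin n) := ⟨⟨0, hn⟩⟩
    simp at hdet
  refine ⟨Units.mk0 r hr0, ?_⟩
  apply Units.ext
  rw [sc_val, ← hr]
  rfl

abbrev PGL (n : ℕ) (F : Type*) [Field F] := GL (Fin n) F ⧸ Subgroup.center (GL (Fin n) F)

lemma mk_sc_mul (c : Fˣ) (g : GL (Fin n) F) :
    (QuotientGroup.mk (sc c * g) : PGL n F) = QuotientGroup.mk g := by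
  rw [QuotientGroup.mk_mul, (QuotientGroup.eq_one_iff _).2 (sc_mem_center c), one_mul]

lemma orderOf_mk_eq_two_iff (g : GL (Fin n) F) :
    orderOf (QuotientGroup.mk g : PGL n F) = 2 ↔
      g * g ∈ Subgroup.center (GL (Fin n) F) ∧ g ∉ Subgroup.center (GL (Fin n) F) := by
  haveI : Fact (Nat.Prime 2) := ⟨Nat.prime_two⟩
  rw [orderOf_eq_prime_iff, ← QuotientGroup.mk_pow, QuotientGroup.eq_one_iff, pow_two, Ne,
    QuotientGroup.eq_one_iff]

lemma isConj_mk_iff (g g' : GL (Fin n) F) :
    IsConj (QuotientGroup.mk g : PGL n F) (QuotientGroup.mk g') ↔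
      ∃ u : GL (Fin n) F, ∃ z ∈ Subgroup.center (GL (Fin n) F), g' = u * g * u⁻¹ * z := by
  rw [isConj_iff]
  constructor
  · rintro ⟨ub, hub⟩
    obtain ⟨u, rfl⟩ := QuotientGroup.mk_surjective ub
    rw [← QuotientGroup.mk_inv, ← QuotientGroup.mk_mul, ← QuotientGroup.mk_mul,
      QuotientGroup.eq] at hub
    exact ⟨u, _, hub, by group⟩
  · rintro ⟨u, z, hz, rfl⟩
    refine ⟨QuotientGroup.mk u, ?_⟩
    rw [QuotientGroup.mk_mul (Subgroup.center (GL (Fin n) F)) (u * g * u⁻¹) z,
      (QuotientGroup.eq_one_iff z).2 hz, mul_one]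
    rfl

/-! ### the diagonal representatives -/

/-- entries of `d_k` -/
def dent (k : ℕ) (i : Fin n) : F := if (i : ℕ) < k then -1 else 1

lemma dent_sq (k : ℕ) (i : Fin n) : dent (F := F) k i * dent k i = 1 := by
  unfold dent; split_ifs <;> simp

/-- `d_k = diag(-1,…,-1,1,…,1)` with `k` entries `-1` -/
def dk (k : ℕ) : GL (Fin n) F :=
  ⟨Matrix.diagonal (dent k), Matrix.diagonal (dent k),
    by rw [Matrix.diagonal_mul_diagonal]; simp [dent_sq],
    by rw [Matrix.diagonal_mul_diagonal]; simp [dent_sq]⟩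

lemma dk_val (k : ℕ) : ((dk k : GL (Fin n) F) : Matrix (Fin n) (Fin n) F) = Matrix.diagonal (dent k) := rfl

lemma dk_mul_self (k : ℕ) : (dk k : GL (Fin n) F) * dk k = 1 := by
  apply Units.ext
  rw [Units.val_mul, dk_val, Matrix.diagonal_mul_diagonal]
  simp [dent_sq]

lemma card_lt (k : ℕ) (hk : k ≤ n) :
    (Finset.univ.filter (fun i : Fin n => (i : ℕ) < k)).card = k := by
  rw [← Fintype.card_subtype]
  have e : {i : Fin n // (i : ℕ) < k} ≃ Fin k :=
    { toFun := fun i => ⟨i.1, i.2⟩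
      invFun := fun j => ⟨⟨j.1, lt_of_lt_of_le j.2 hk⟩, j.2⟩
      left_inv := fun i => rfl
      right_inv := fun j => rfl }
  rw [Fintype.card_congr e, Fintype.card_fin]

lemma card_not_lt (k : ℕ) (hk : k ≤ n) :
    (Finset.univ.filter (fun i : Fin n => ¬ (i : ℕ) < k)).card = n - k := by
  have h := Finset.card_filter_add_card_filter_not (s := (Finset.univ : Finset (Fin n)))
    (fun i : Fin n => (i : ℕ) < k)
  rw [card_lt k hk, Finset.card_univ, Fintype.card_fin] at h
  omega

lemma charpoly_dk (k : ℕ) (hk : k ≤ n) :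
    ((dk k : GL (Fin n) F) : Matrix (Fin n) (Fin n) F).charpoly =
      (X + C 1) ^ k * (X - C 1) ^ (n - k) := by
  rw [dk_val, Matrix.charpoly_diagonal]
  have h1 : ∀ i : Fin n, (X - C (dent (F := F) k i)) =
      if (i : ℕ) < k then (X + C 1) else (X - C 1) := by
    intro i
    unfold dent
    split_ifs <;> simp [sub_neg_eq_add]
  simp only [h1]
  rw [Finset.prod_ite, Finset.prod_const, Finset.prod_const, card_lt k hk, card_not_lt k hk]

lemma charpoly_neg_dk (k : ℕ) (hk : k ≤ n) :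
    ((-(dk k : GL (Fin n) F) : GL (Fin n) F) : Matrix (Fin n) (Fin n) F).charpoly =
      (X - C 1) ^ k * (X + C 1) ^ (n - k) := by
  have : ((-(dk k : GL (Fin n) F) : GL (Fin n) F) : Matrix (Fin n) (Fin n) F) =
      Matrix.diagonal (fun i => - dent k i) := by
    rw [Units.val_neg, dk_val]
    ext i j
    by_cases h : i = j
    · subst h; simp
    · simp [h]
  rw [this, Matrix.charpoly_diagonal]
  have h1 : ∀ i : Fin n, (X - C (- dent (F := F) k i)) =
      if (i : ℕ) < k then (X - C 1) else (X + C 1) := by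
    intro i
    unfold dent
    split_ifs <;> simp [sub_neg_eq_add]
  simp only [h1]
  rw [Finset.prod_ite, Finset.prod_const, Finset.prod_const, card_lt k hk, card_not_lt k hk]

lemma rank_dk_sub_one (h2 : (2 : F) ≠ 0) (k : ℕ) (hk : k ≤ n) :
    (((dk k : GL (Fin n) F) : Matrix (Fin n) (Fin n) F) - 1).rank = k := by
  classical
  have : ((dk k : GL (Fin n) F) : Matrix (Fin n) (Fin n) F) - 1 =
      Matrix.diagonal (fun i => dent k i - 1) := by
    rw [dk_val, ← Matrix.diagonal_one, Matrix.diagonal_sub]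
  rw [this, Matrix.rank_diagonal, Fintype.card_subtype]
  have hf : (Finset.univ.filter (fun i : Fin n => dent (F := F) k i - 1 ≠ 0)) =
      Finset.univ.filter (fun i : Fin n => (i : ℕ) < k) := by
    ext i
    simp only [Finset.mem_filter, Finset.mem_univ, true_and]
    unfold dent
    split_ifs with h
    · simp only [h, iff_true]
      intro h0
      apply h2
      linear_combination -h0
    · simp [h]
  rw [hf, card_lt k hk]

lemma rank_dk_add_one (h2 : (2 : F) ≠ 0) (k : ℕ) (hk : k ≤ n) :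
    (((dk k : GL (Fin n) F) : Matrix (Fin n) (Fin n) F) + 1).rank = n - k := by
  classical
  have : ((dk k : GL (Fin n) F) : Matrix (Fin n) (Fin n) F) + 1 =
      Matrix.diagonal (fun i => dent k i + 1) := by
    rw [dk_val, ← Matrix.diagonal_one, Matrix.diagonal_add]
  rw [this, Matrix.rank_diagonal, Fintype.card_subtype]
  have hf : (Finset.univ.filter (fun i : Fin n => dent (F := F) k i + 1 ≠ 0)) =
      Finset.univ.filter (fun i : Fin n => ¬ (i : ℕ) < k) := by
    ext i
    simp only [Finset.mem_filter, Finset.mem_univ, true_and]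
    unfold dent
    split_ifs with h
    · simp [h]
    · simp only [h, not_false_eq_true, iff_true]
      intro h0
      apply h2
      linear_combination h0
  rw [hf, card_not_lt k hk]

end Cfsg.Agent.Lib.Helper4.PGLInvol
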