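import Cfsg.Agent.Lib.Helper4.PGLInvol

/-!
# Involutions of `PGL_n(q)`, `q` odd: classification
-/

namespace Cfsg.Agent.Lib.Helper4.PGLInvol

open Polynomial Matrix Cfsg.Agent.Lib.Helper4.SemiMod

variable {F : Type*} [Field F] [Fintype F] {n : ℕ} (p : ℕ) [Fact p.Prime] [CharP F p]

include p in
lemma two_ne_zero_of_char (hp2 : p ≠ 2) : (2 : F) ≠ 0 := by
  intro h
  have : ((2 : ℕ) : F) = 0 := by exact_mod_cast h
  rw [CharP.cast_eq_zero_iff F p] at this
  exact hp2 ((Nat.prime_dvd_prime_iff_eq (Fact.out : p.Prime) Nat.prime_two).1 this)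

/-- elements with scalar square have `p'`-order -/
lemma coprime_of_sq_sc (hp2 : p ≠ 2) (g : GL (Fin n) F) (c : Fˣ) (hg : g * g = sc c) :
    (orderOf g).Coprime p := by
  obtain ⟨m, hpm, hcard⟩ := FiniteField.card F p
  have h1 : g ^ (2 * (Fintype.card F - 1)) = 1 := by
    rw [pow_mul, pow_two, hg]
    have : (sc c : GL (Fin n) F) ^ (Fintype.card F - 1) = sc (c ^ (Fintype.card F - 1)) :=
      (map_pow _ _ _).symm
    rw [this]
    have hc : c ^ (Fintype.card F - 1) = 1 := by
      apply Units.ext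
      rw [Units.val_pow_eq_pow_val, Units.val_one]
      exact FiniteField.pow_card_sub_one_eq_one _ c.ne_zero
    rw [hc, sc_one]
  have h2 := orderOf_dvd_of_pow_eq_one h1
  apply Nat.Coprime.coprime_dvd_left h2
  apply Nat.Coprime.mul_left
  · rw [Nat.coprime_comm, Nat.Prime.coprime_iff_not_dvd (Fact.out : p.Prime)]
    intro h
    exact hp2 ((Nat.prime_dvd_prime_iff_eq (Fact.out : p.Prime) Nat.prime_two).1 h)
  · rw [hcard]
    exact coprime_pow_sub_one p m m.pos

lemma X_sub_irr (c : F) : Irreducible (X - C c) := irreducible_X_sub_C c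
lemma X_add_irr (c : F) : Irreducible (X + C c) := by
  have := irreducible_X_sub_C (-c)
  simpa using this

/-- involutions are conjugate to diagonal matrices -/
theorem isConj_dk_of_sq_one (hp2 : p ≠ 2) (h : GL (Fin n) F) (hh : h * h = 1) :
    ∃ b ≤ n, IsConj h (dk b) := by
  have hP : aeval (h : Matrix (Fin n) (Fin n) F) ((X - C 1) * (X + C 1) : F[X]) = 0 := by
    have : ((X - C 1) * (X + C 1) : F[X]) = X ^ 2 - 1 := by
      simp only [map_one]; ring
    rw [this]
    simp only [map_sub, map_pow, aeval_X, map_one]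
    rw [pow_two, ← Units.val_mul, hh, Units.val_one, sub_self]
  let P : Fin 2 → F[X] := ![X - C 1, X + C 1]
  have hPm : ∀ i, (P i).Monic := by
    intro i
    fin_cases i
    · exact monic_X_sub_C 1
    · exact monic_X_add_C 1
  obtain ⟨a, ha⟩ := eq_prod_pow P hPm n (h : Matrix (Fin n) (Fin n) F).charpoly
    (Matrix.charpoly_monic _) (by rw [Matrix.charpoly_natDegree_eq_dim, Fintype.card_fin]) (by
      intro π hπ hd
      have hdv := dvd_of_dvd_charpoly _ _ hP hπ hd
      rcases hπ.prime.dvd_mul.1 hdv with h1 | h1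
      · exact ⟨0, hπ.associated_of_dvd (X_sub_irr 1) h1⟩
      · exact ⟨1, hπ.associated_of_dvd (X_add_irr 1) h1⟩)
  rw [Fin.prod_univ_two] at ha
  have hP0 : P 0 = X - C 1 := rfl
  have hP1 : P 1 = X + C 1 := rfl
  rw [hP0, hP1] at ha
  have hdeg : n = a 0 + a 1 := by
    have h1 := congrArg natDegree ha
    rw [Matrix.charpoly_natDegree_eq_dim, Fintype.card_fin,
      natDegree_mul (pow_ne_zero _ (X_sub_C_ne_zero 1)) (pow_ne_zero _ (X_add_C_ne_zero 1)),
      natDegree_pow, natDegree_pow, natDegree_X_sub_C, natDegree_X_add_C, mul_one, mul_one] at h1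
    exact h1
  refine ⟨a 1, by omega, ?_⟩
  apply gl_isConj p
  · exact coprime_of_sq_sc p hp2 h 1 (by rw [hh, sc_one])
  · exact coprime_of_sq_sc p hp2 (dk (a 1)) 1 (by rw [dk_mul_self, sc_one])
  · rw [charpoly_dk (a 1) (by omega), ha, mul_comm]
    congr 2
    omega

lemma dk_zero : (dk 0 : GL (Fin n) F) = 1 := by
  apply Units.ext
  rw [dk_val, Units.val_one, ← Matrix.diagonal_one]
  congr 1

lemma dk_n : (dk n : GL (Fin n) F) = sc (-1) := by
  apply Units.ext
  rw [dk_val, sc_val, Matrix.scalar_apply]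
  congr 1
  funext i
  simp [dent, i.2]

lemma neg_eq_sc_mul (g : GL (Fin n) F) : -g = sc (-1) * g := by
  apply Units.ext
  rw [Units.val_neg, Units.val_mul, sc_val, Matrix.scalar_apply, ← Matrix.smul_eq_diagonal_mul]
  simp

abbrev mkP (g : GL (Fin n) F) : PGL n F := QuotientGroup.mk g

/-- classification of split involutions in `PGL` -/
theorem isConj_mk_dk (hp2 : p ≠ 2) (h : GL (Fin n) F) (hh : h * h = 1)
    (hc : h ∉ Subgroup.center (GL (Fin n) F)) :
    ∃ k, 1 ≤ k ∧ k ≤ n / 2 ∧ IsConj (mkP h) (mkP (dk k)) := by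
  obtain ⟨b, hb, hconj⟩ := isConj_dk_of_sq_one p hp2 h hh
  have hb0 : b ≠ 0 := by
    rintro rfl
    rw [dk_zero, isConj_comm, isConj_one_right] at hconj
    exact hc (hconj ▸ Subgroup.one_mem _)
  have hbn : b ≠ n := by
    rintro rfl
    rw [dk_n, isConj_iff] at hconj
    obtain ⟨u, hu⟩ := hconj
    have : h = sc (-1) := by
      have h1 : h = u⁻¹ * sc (-1) * u := by rw [← hu]; group
      rw [h1, ← sc_comm, mul_assoc]
      simp
    exact hc (this ▸ sc_mem_center _)
  by_cases hle : b ≤ n / 2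
  · exact ⟨b, by omega, hle, (QuotientGroup.mk' _).map_isConj hconj⟩
  · refine ⟨n - b, by omega, by omega, ?_⟩
    have h1 : IsConj (mkP h) (mkP (dk b)) := (QuotientGroup.mk' _).map_isConj hconj
    have h2 : mkP (dk b : GL (Fin n) F) = mkP (-(dk b : GL (Fin n) F)) := by
      rw [neg_eq_sc_mul]
      exact (mk_sc_mul _ _).symm
    have h3 : IsConj (-(dk b : GL (Fin n) F)) (dk (n - b)) := by
      apply gl_isConj p
      · apply coprime_of_sq_sc p hp2 _ 1
        rw [sc_one, neg_mul_neg, dk_mul_self]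
      · exact coprime_of_sq_sc p hp2 (dk (n - b)) 1 (by rw [dk_mul_self, sc_one])
      · rw [charpoly_neg_dk b hb, charpoly_dk (n - b) (by omega), mul_comm]
        congr 2
        omega
    rw [h2] at h1
    exact h1.trans ((QuotientGroup.mk' _).map_isConj h3)

/-- the diagonal representatives are pairwise non-conjugate in `PGL` -/
theorem dk_inj (hp2 : p ≠ 2) (hn : 0 < n) (k l : ℕ) (hk : k ≤ n / 2) (hl : l ≤ n / 2)
    (h : IsConj (mkP (dk k : GL (Fin n) F)) (mkP (dk l))) : k = l := by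
  have h2 : (2 : F) ≠ 0 := two_ne_zero_of_char p hp2
  rw [isConj_mk_iff] at h
  obtain ⟨u, z, hz, hzl⟩ := h
  obtain ⟨c, rfl⟩ := exists_sc_of_mem_center hn z hz
  -- c² = 1
  have hsq : (sc (c * c) : GL (Fin n) F) = 1 := by
    have h1 : (dk l : GL (Fin n) F) * dk l = 1 := dk_mul_self l
    rw [hzl] at h1
    set Y := u * dk k * u⁻¹ with hY
    have hYY : Y * Y = 1 := by
      have : Y * Y = u * (dk k * dk k) * u⁻¹ := by rw [hY]; group
      rw [this, dk_mul_self]; group
    have h3 : Y * sc c * (Y * sc c) = (Y * Y) * (sc c * sc c) := by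
      calc Y * sc c * (Y * sc c) = Y * (sc c * Y) * sc c := by simp only [mul_assoc]
        _ = Y * (Y * sc c) * sc c := by rw [sc_comm c Y]
        _ = (Y * Y) * (sc c * sc c) := by simp only [mul_assoc]
    rw [h3, hYY, one_mul, ← sc_mul] at h1
    exact h1
  have hc2 : c * c = 1 := sc_injective hn (hsq.trans sc_one.symm)
  have hc : c = 1 ∨ c = -1 := by
    have : (c : F) * c = 1 := by
      have := congrArg Units.val hc2
      simpa using this
    rcases mul_self_eq_one_iff.1 this with h | h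
    · left; exact Units.ext h
    · right; exact Units.ext (by simpa using h)
  have hkn : k ≤ n := by omega
  have hln : l ≤ n := by omega
  have hU : IsUnit ((u : GL (Fin n) F) : Matrix (Fin n) (Fin n) F).det :=
    (Matrix.isUnit_iff_isUnit_det _).1 u.isUnit
  have hU' : IsUnit ((u⁻¹ : GL (Fin n) F) : Matrix (Fin n) (Fin n) F).det :=
    (Matrix.isUnit_iff_isUnit_det _).1 (u⁻¹).isUnit
  have huu : ((u : GL (Fin n) F) : Matrix (Fin n) (Fin n) F) *
      ((u⁻¹ : GL (Fin n) F) : Matrix (Fin n) (Fin n) F) = 1 := by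
    rw [← Units.val_mul, mul_inv_cancel, Units.val_one]
  rcases hc with rfl | rfl
  · rw [sc_one, mul_one] at hzl
    have hm : ((dk l : GL (Fin n) F) : Matrix (Fin n) (Fin n) F) - 1 =
        (u : Matrix (Fin n) (Fin n) F) * (((dk k : GL (Fin n) F) : Matrix (Fin n) (Fin n) F) - 1) *
          ((u⁻¹ : GL (Fin n) F) : Matrix (Fin n) (Fin n) F) := by
      rw [hzl, Units.val_mul, Units.val_mul, Matrix.mul_sub, Matrix.sub_mul, Matrix.mul_one, huu]
    have hr := congrArg Matrix.rank hm
    rw [rank_dk_sub_one h2 l hln, Matrix.rank_mul_eq_left_of_isUnit_det _ _ hU',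
      Matrix.rank_mul_eq_right_of_isUnit_det _ _ hU, rank_dk_sub_one h2 k hkn] at hr
    exact hr.symm
  · have hzl' : (dk l : GL (Fin n) F) = -(u * dk k * u⁻¹) := by
      rw [hzl, ← sc_comm, ← neg_eq_sc_mul]
    have hm : ((dk l : GL (Fin n) F) : Matrix (Fin n) (Fin n) F) - 1 =
        ((u : Matrix (Fin n) (Fin n) F) * (-(((dk k : GL (Fin n) F) : Matrix (Fin n) (Fin n) F) + 1)) *
          ((u⁻¹ : GL (Fin n) F) : Matrix (Fin n) (Fin n) F)) := by
      rw [hzl', Units.val_neg, Units.val_mul, Units.val_mul, Matrix.mul_neg, Matrix.neg_mul,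
        Matrix.mul_add, Matrix.add_mul, Matrix.mul_one, huu]
      abel
    have hneg : (-(((dk k : GL (Fin n) F) : Matrix (Fin n) (Fin n) F) + 1)).rank = n - k := by
      have : -(((dk k : GL (Fin n) F) : Matrix (Fin n) (Fin n) F) + 1) =
          (((dk k : GL (Fin n) F) : Matrix (Fin n) (Fin n) F) + 1) *
            (Matrix.scalar (Fin n) (-1 : F)) := by
        rw [Matrix.scalar_apply, ← Matrix.diagonal_one]
        ext i j
        simp [Matrix.mul_apply, Matrix.diagonal_apply]
      rw [this, Matrix.rank_mul_eq_left_of_isUnit_det _ _ (by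
        rw [Matrix.scalar_apply, Matrix.det_diagonal]
        simp), rank_dk_add_one h2 k hkn]
    have hr := congrArg Matrix.rank hm
    rw [rank_dk_sub_one h2 l hln, Matrix.rank_mul_eq_left_of_isUnit_det _ _ hU',
      Matrix.rank_mul_eq_right_of_isUnit_det _ _ hU, hneg] at hr
    omega

end Cfsg.Agent.Lib.Helper4.PGLInvol
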