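import Cfsg.Agent.Lib.Helper4.PGLInvol2

/-!
# Involutions of `PGL_n(q)`, `q` odd: the non-split class and the count
-/

namespace Cfsg.Agent.Lib.Helper4.PGLInvol

open Polynomial Matrix Cfsg.Agent.Lib.Helper4.SemiMod

/-- counting classes via representatives -/
theorem card_classes_of_reps {G : Type*} [Group G] (P : G → Prop) (N : ℕ) (rep : ℕ → G)
    (h1 : ∀ j < N, P (rep j)) (h2 : ∀ j < N, ∀ j' < N, IsConj (rep j) (rep j') → j = j')
    (h3 : ∀ x, P x → ∃ j < N, IsConj x (rep j)) :
    Nat.card {C : ConjClasses G // ∃ g : G, ConjClasses.mk g = C ∧ P g} = N := by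
  let f : Fin N → {C : ConjClasses G // ∃ g : G, ConjClasses.mk g = C ∧ P g} :=
    fun j => ⟨ConjClasses.mk (rep j), rep j, rfl, h1 j j.2⟩
  have hf : Function.Bijective f := by
    constructor
    · intro j j' h
      have h' := congrArg Subtype.val h
      simp only [f, ConjClasses.mk_eq_mk_iff_isConj] at h'
      exact Fin.ext (h2 j j.2 j' j'.2 h')
    · rintro ⟨C, g, rfl, hg⟩
      obtain ⟨j, hj, hc⟩ := h3 g hg
      refine ⟨⟨j, hj⟩, ?_⟩
      apply Subtype.ext
      simp only [f]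
      exact (ConjClasses.mk_eq_mk_iff_isConj.2 hc).symm
  rw [← Nat.card_congr (Equiv.ofBijective f hf), Nat.card_fin]

variable {F : Type*} [Field F] [Fintype F] {n : ℕ} (p : ℕ) [Fact p.Prime] [CharP F p]

lemma irr_sq (ν : F) (hν : ¬ IsSquare ν) : Irreducible (X ^ 2 - C ν : F[X]) :=
  X_pow_sub_C_irreducible_of_prime Nat.prime_two (fun b hb => hν ⟨b, by rw [← hb, pow_two]⟩)

lemma aeval_sq_sub (g : GL (Fin n) F) (ν : Fˣ) (hg : g * g = sc ν) :
    aeval (g : Matrix (Fin n) (Fin n) F) (X ^ 2 - C (ν : F) : F[X]) = 0 := by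
  simp only [map_sub, map_pow, aeval_X, aeval_C]
  rw [pow_two, ← Units.val_mul, hg, sc_val, sub_eq_zero]
  rfl

theorem charpoly_nonsplit (g : GL (Fin n) F) (ν : Fˣ) (hν : ¬ IsSquare (ν : F))
    (hg : g * g = sc ν) :
    ∃ a, n = 2 * a ∧ (g : Matrix (Fin n) (Fin n) F).charpoly = (X ^ 2 - C (ν : F)) ^ a := by
  have hP := aeval_sq_sub g ν hg
  have hirr := irr_sq (ν : F) hν
  obtain ⟨a, ha⟩ := eq_prod_pow (fun _ : Fin 1 => (X ^ 2 - C (ν : F) : F[X]))
    (fun _ => monic_X_pow_sub_C _ two_ne_zero) n (g : Matrix (Fin n) (Fin n) F).charpoly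
    (Matrix.charpoly_monic _) (by rw [Matrix.charpoly_natDegree_eq_dim, Fintype.card_fin]) (by
      intro π hπ hd
      exact ⟨0, hπ.associated_of_dvd hirr (dvd_of_dvd_charpoly _ _ hP hπ hd)⟩)
  rw [Fin.prod_univ_one] at ha
  refine ⟨a 0, ?_, ha⟩
  have h1 := congrArg natDegree ha
  rw [Matrix.charpoly_natDegree_eq_dim, Fintype.card_fin, natDegree_pow,
    natDegree_X_pow_sub_C] at h1
  omega

include p in
theorem exists_nonsplit (ν : Fˣ) (a : ℕ) (hn : n = 2 * a) :
    ∃ e : GL (Fin n) F, e * e = sc ν := by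
  set Q : F[X] := X ^ 2 - C (ν : F) with hQ
  have hQm : Q.Monic := monic_X_pow_sub_C _ two_ne_zero
  obtain ⟨e, hech, heo⟩ := exists_gl p n (Q ^ a) (hQm.pow a)
    (by rw [natDegree_pow, hQ, natDegree_X_pow_sub_C, hn, mul_comm]) (by
      rw [coeff_zero_eq_eval_zero, eval_pow, hQ]
      simp)
  haveI := semisimple_of_gl p e heo
  have h0 := aeval_eq_zero_of_semisimple (e : Matrix (Fin n) (Fin n) F) Q (by
    intro π hπ hd
    rw [hech] at hd
    exact hπ.prime.dvd_of_dvd_pow hd)
  refine ⟨e, ?_⟩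
  apply Units.ext
  rw [hQ] at h0
  simp only [map_sub, map_pow, aeval_X, aeval_C] at h0
  rw [Units.val_mul, sc_val, ← pow_two, sub_eq_zero.1 h0]
  rfl

theorem isConj_nonsplit (hp2 : p ≠ 2) (g g' : GL (Fin n) F) (ν : Fˣ) (hν : ¬ IsSquare (ν : F))
    (hg : g * g = sc ν) (hg' : g' * g' = sc ν) : IsConj g g' := by
  obtain ⟨a, ha, hc⟩ := charpoly_nonsplit g ν hν hg
  obtain ⟨a', ha', hc'⟩ := charpoly_nonsplit g' ν hν hg'
  apply gl_isConj p _ _ (coprime_of_sq_sc p hp2 g ν hg) (coprime_of_sq_sc p hp2 g' ν hg')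
  rw [hc, hc']
  congr 1
  omega

/-- a conjugate-times-scalar of an involution squares to a square scalar -/
lemma sq_of_conj_sc (h u : GL (Fin n) F) (c : Fˣ) (hh : h * h = 1) :
    (u * h * u⁻¹ * sc c) * (u * h * u⁻¹ * sc c) = sc (c * c) := by
  set Y := u * h * u⁻¹ with hY
  have hYY : Y * Y = 1 := by
    have : Y * Y = u * (h * h) * u⁻¹ := by rw [hY]; group
    rw [this, hh]; group
  calc Y * sc c * (Y * sc c) = Y * (sc c * Y) * sc c := by simp only [mul_assoc]
    _ = Y * (Y * sc c) * sc c := by rw [sc_comm c Y]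
    _ = (Y * Y) * (sc c * sc c) := by simp only [mul_assoc]
    _ = sc (c * c) := by rw [hYY, one_mul, sc_mul]

open Classical in
/-- **Number of classes of involutions of `PGL_n(q)`, `q` odd.** -/
theorem card_classes (hp2 : p ≠ 2) (hn : 2 ≤ n) :
    Nat.card {C : ConjClasses (PGL n F) // ∃ g : PGL n F, ConjClasses.mk g = C ∧ orderOf g = 2} =
      n / 2 + (if Even n then 1 else 0) := by
  have hn0 : 0 < n := by omega
  have h2 : (2 : F) ≠ 0 := two_ne_zero_of_char p hp2
  have hrc : ringChar F ≠ 2 := by rw [ringChar.eq F p]; exact hp2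
  -- a nonsquare
  obtain ⟨ν0, hν0⟩ := FiniteField.exists_nonsquare hrc
  have hν00 : ν0 ≠ 0 := by rintro rfl; exact hν0 ⟨0, by simp⟩
  set ν : Fˣ := Units.mk0 ν0 hν00 with hν
  have hνns : ¬ IsSquare (ν : F) := hν0
  have hνc : ∀ c : Fˣ, c * c ≠ ν := by
    intro c h
    apply hνns
    exact ⟨(c : F), by rw [← h]; rfl⟩
  -- the nonsplit representative
  have hex : ∃ e : GL (Fin n) F, Even n → e * e = sc ν := by
    by_cases he : Even n
    · obtain ⟨a, ha⟩ := he
      obtain ⟨e, hee⟩ := exists_nonsplit (n := n) p ν a (by omega)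
      exact ⟨e, fun _ => hee⟩
    · exact ⟨1, fun h => absurd h he⟩
  obtain ⟨e, he⟩ := hex
  -- facts on dk
  have hdk_nc : ∀ k, 1 ≤ k → k ≤ n / 2 → (dk k : GL (Fin n) F) ∉ Subgroup.center (GL (Fin n) F) := by
    intro k hk1 hk2 hmem
    obtain ⟨c, hc⟩ := exists_sc_of_mem_center hn0 _ hmem
    have e1 := congrArg (fun g : GL (Fin n) F => (g : Matrix (Fin n) (Fin n) F) ⟨0, hn0⟩ ⟨0, hn0⟩) hc
    have e2 := congrArg (fun g : GL (Fin n) F =>
      (g : Matrix (Fin n) (Fin n) F) ⟨n - 1, by omega⟩ ⟨n - 1, by omega⟩) hc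
    simp only [dk_val, sc_val, Matrix.scalar_apply, Matrix.diagonal_apply_eq, dent] at e1 e2
    rw [if_pos (by omega)] at e1
    rw [if_neg (by omega)] at e2
    apply h2
    have : (1 : F) = -1 := by rw [e1, e2]
    linear_combination this
  have hdk_ord : ∀ k, 1 ≤ k → k ≤ n / 2 → orderOf (mkP (dk k : GL (Fin n) F)) = 2 := by
    intro k hk1 hk2
    rw [orderOf_mk_eq_two_iff]
    exact ⟨by rw [dk_mul_self]; exact Subgroup.one_mem _, hdk_nc k hk1 hk2⟩
  have he_nc : Even n → e ∉ Subgroup.center (GL (Fin n) F) := by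
    intro hev hmem
    obtain ⟨c, hc⟩ := exists_sc_of_mem_center hn0 _ hmem
    have := he hev
    rw [hc, ← sc_mul] at this
    exact hνc c (sc_injective hn0 this)
  have he_ord : Even n → orderOf (mkP e) = 2 := by
    intro hev
    rw [orderOf_mk_eq_two_iff]
    exact ⟨by rw [he hev]; exact sc_mem_center _, he_nc hev⟩
  have hdk_e : ∀ k, Even n → ¬ IsConj (mkP (dk k : GL (Fin n) F)) (mkP e) := by
    intro k hev hconj
    rw [isConj_mk_iff] at hconj
    obtain ⟨u, z, hz, hzl⟩ := hconj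
    obtain ⟨c, rfl⟩ := exists_sc_of_mem_center hn0 z hz
    have h1 := he hev
    rw [hzl, sq_of_conj_sc _ _ _ (dk_mul_self k)] at h1
    exact hνc c (sc_injective hn0 h1)
  -- the representatives
  let rep : ℕ → PGL n F := fun j => if j < n / 2 then mkP (dk (j + 1)) else mkP e
  apply card_classes_of_reps (fun g : PGL n F => orderOf g = 2) _ rep
  · intro j hj
    simp only [rep]
    split_ifs with h
    · exact hdk_ord (j + 1) (by omega) (by omega)
    · apply he_ord
      by_contra hne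
      rw [if_neg hne] at hj
      omega
  · intro j hj j' hj' hconj
    have hev : ¬ j < n / 2 ∨ ¬ j' < n / 2 → Even n := by
      intro h
      by_contra hne
      rw [if_neg hne] at hj hj'
      omega
    simp only [rep] at hconj
    split_ifs at hconj with h h' h'
    · have := dk_inj p hp2 hn0 (j + 1) (j' + 1) (by omega) (by omega) hconj
      omega
    · exact absurd hconj (hdk_e _ (hev (Or.inr h')))
    · exact absurd hconj.symm (hdk_e _ (hev (Or.inl h)))
    · have : n / 2 + (if Even n then 1 else 0) ≤ n / 2 + 1 := by split_ifs <;> omega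
      omega
  · intro x hx
    obtain ⟨g, rfl⟩ := QuotientGroup.mk_surjective x
    rw [orderOf_mk_eq_two_iff] at hx
    obtain ⟨hsq, hnc⟩ := hx
    obtain ⟨lam, hlam⟩ := exists_sc_of_mem_center hn0 _ hsq
    by_cases hs : IsSquare (lam : F)
    · obtain ⟨μ0, hμ0⟩ := hs
      have hμ00 : μ0 ≠ 0 := by
        rintro rfl
        rw [mul_zero] at hμ0
        exact lam.ne_zero hμ0
      set μ : Fˣ := Units.mk0 μ0 hμ00 with hμ
      have hlμ : lam = μ * μ := Units.ext hμ0
      set h := sc μ⁻¹ * g with hh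
      have hhh : h * h = 1 := by
        have : h * h = sc μ⁻¹ * sc μ⁻¹ * (g * g) := by
          rw [hh]
          calc sc μ⁻¹ * g * (sc μ⁻¹ * g) = sc μ⁻¹ * (g * sc μ⁻¹) * g := by simp only [mul_assoc]
            _ = sc μ⁻¹ * (sc μ⁻¹ * g) * g := by rw [← sc_comm μ⁻¹ g]
            _ = sc μ⁻¹ * sc μ⁻¹ * (g * g) := by simp only [mul_assoc]
        rw [this, hlam, hlμ, ← sc_mul, ← sc_mul, ← sc_one]
        congr 1
        group
      have hhnc : h ∉ Subgroup.center (GL (Fin n) F) := by
        intro hm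
        apply hnc
        have : g = sc μ * h := by rw [hh, ← mul_assoc, ← sc_mul, mul_inv_cancel, sc_one, one_mul]
        rw [this]
        exact Subgroup.mul_mem _ (sc_mem_center _) hm
      obtain ⟨k, hk1, hk2, hconj⟩ := isConj_mk_dk p hp2 h hhh hhnc
      refine ⟨k - 1, by omega, ?_⟩
      simp only [rep]
      rw [if_pos (by omega)]
      have e1 : k - 1 + 1 = k := by omega
      rw [e1]
      have e2 : mkP h = mkP g := mk_sc_mul _ _
      have : IsConj (mkP g) (mkP (dk k)) := by rw [← e2]; exact hconj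
      exact this
    · -- nonsplit
      have hquad : ∃ c : Fˣ, lam = c * c * ν := by
        have h1 : quadraticChar F (lam : F) = -1 := quadraticChar_neg_one_iff_not_isSquare.2 hs
        have h2 : quadraticChar F (ν : F) = -1 := quadraticChar_neg_one_iff_not_isSquare.2 hνns
        have h3 : quadraticChar F ((lam : F) * (ν : F)⁻¹) = 1 := by
          have h4 : quadraticChar F ((lam : F) * (ν : F)⁻¹) * quadraticChar F (ν : F) =
              quadraticChar F (lam : F) := by
            rw [← map_mul, mul_assoc, inv_mul_cancel₀ ν.ne_zero, mul_one]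
          rw [h1, h2] at h4
          linarith
        rw [quadraticChar_one_iff_isSquare (mul_ne_zero lam.ne_zero (inv_ne_zero ν.ne_zero))] at h3
        obtain ⟨c0, hc0⟩ := h3
        have hc00 : c0 ≠ 0 := by
          rintro rfl
          rw [mul_zero] at hc0
          exact (mul_ne_zero lam.ne_zero (inv_ne_zero ν.ne_zero)) hc0
        refine ⟨Units.mk0 c0 hc00, ?_⟩
        apply Units.ext
        simp only [Units.val_mul, Units.val_mk0]
        rw [← hc0, mul_assoc, inv_mul_cancel₀ ν.ne_zero, mul_one]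
      obtain ⟨c, hc⟩ := hquad
      set g' := sc c⁻¹ * g with hg'
      have hgg : g' * g' = sc ν := by
        have : g' * g' = sc c⁻¹ * sc c⁻¹ * (g * g) := by
          rw [hg']
          calc sc c⁻¹ * g * (sc c⁻¹ * g) = sc c⁻¹ * (g * sc c⁻¹) * g := by simp only [mul_assoc]
            _ = sc c⁻¹ * (sc c⁻¹ * g) * g := by rw [← sc_comm c⁻¹ g]
            _ = sc c⁻¹ * sc c⁻¹ * (g * g) := by simp only [mul_assoc]
        rw [this, hlam, hc, ← sc_mul, ← sc_mul]
        congr 1
        group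
      obtain ⟨a, ha, -⟩ := charpoly_nonsplit g' ν hνns hgg
      have hev : Even n := ⟨a, by omega⟩
      refine ⟨n / 2, by rw [if_pos hev]; omega, ?_⟩
      simp only [rep]
      rw [if_neg (lt_irrefl _)]
      have e2 : mkP g' = mkP g := mk_sc_mul _ _
      have : IsConj (mkP g) (mkP e) := by
        rw [← e2]
        exact (QuotientGroup.mk' _).map_isConj (isConj_nonsplit p hp2 g' e ν hνns hgg (he hev))
      exact this

end Cfsg.Agent.Lib.Helper4.PGLInvol
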