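import Mathlib

set_option autoImplicit false

namespace Cfsg.Agent.Lib.Helper4.PGLOrd

open Matrix Polynomial

variable {F : Type*} [Field F] [Fintype F] {d : ℕ}

theorem exists_finset (A : Matrix (Fin d) (Fin d) F) :
    ∃ S : Finset (Matrix (Fin d) (Fin d) F), S.card ≤ Fintype.card F ^ d ∧ (0 : Matrix (Fin d) (Fin d) F) ∈ S ∧
      ∀ (i : ℕ) (c : F), c • A ^ i ∈ S := by
  classical
  let f : (Fin d → F) → Matrix (Fin d) (Fin d) F :=
    fun p => aeval A (((degreeLTEquiv F d).symm p : degreeLT F d) : F[X])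
  refine ⟨Finset.univ.image f, ?_, ?_, ?_⟩
  · refine le_trans Finset.card_image_le ?_
    simp
  · rw [Finset.mem_image]
    refine ⟨0, Finset.mem_univ _, ?_⟩
    simp [f]
  · intro i c
    rw [Finset.mem_image]
    set P : F[X] := C c * X ^ i with hP
    have hmon : A.charpoly.Monic := Matrix.charpoly_monic A
    have hdeg : (P %ₘ A.charpoly).degree < (d : WithBot ℕ) := by
      have h1 := Polynomial.degree_modByMonic_lt P hmon
      have h2 : A.charpoly.degree = (d : WithBot ℕ) := by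
        rw [Matrix.charpoly_degree_eq_dim]; simp
      rw [h2] at h1
      exact h1
    have hmem : P %ₘ A.charpoly ∈ degreeLT F d := Polynomial.mem_degreeLT.2 hdeg
    refine ⟨degreeLTEquiv F d ⟨P %ₘ A.charpoly, hmem⟩, Finset.mem_univ _, ?_⟩
    simp only [f, LinearEquiv.symm_apply_apply]
    have h3 : P %ₘ A.charpoly + A.charpoly * (P /ₘ A.charpoly) = P :=
      Polynomial.modByMonic_add_div P A.charpoly
    have h4 := congrArg (aeval A) h3
    rw [map_add, map_mul, Matrix.aeval_self_charpoly, zero_mul, add_zero] at h4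
    rw [h4, hP]
    simp [Algebra.smul_def]

theorem inj_aux (hd : 1 ≤ d) (A : GL (Fin d) F) (c c' : Fˣ) (i j : ℕ) (hij : i ≤ j)
    (hj : j < orderOf (QuotientGroup.mk A : GL (Fin d) F ⧸ Subgroup.center (GL (Fin d) F)))
    (h : (c : F) • (A : Matrix (Fin d) (Fin d) F) ^ i = (c' : F) • (A : Matrix (Fin d) (Fin d) F) ^ j) :
    i = j ∧ c = c' := by
  have hinv : ((A ^ i)⁻¹ : GL (Fin d) F).val * (A : Matrix (Fin d) (Fin d) F) ^ i = 1 := by
    rw [← Units.val_pow_eq_pow_val, ← Units.val_mul, inv_mul_cancel, Units.val_one]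
  have hsplit : (A : Matrix (Fin d) (Fin d) F) ^ j
      = (A : Matrix (Fin d) (Fin d) F) ^ i * (A : Matrix (Fin d) (Fin d) F) ^ (j - i) := by
    rw [← pow_add]; congr 1; omega
  have h1 := congrArg (fun M => ((A ^ i)⁻¹ : GL (Fin d) F).val * M) h
  simp only [Matrix.mul_smul] at h1
  rw [hsplit, ← Matrix.mul_assoc, hinv, Matrix.one_mul] at h1
  have hB : ((A ^ (j - i) : GL (Fin d) F) : Matrix (Fin d) (Fin d) F)
      = ((c' : F)⁻¹ * (c : F)) • (1 : Matrix (Fin d) (Fin d) F) := by
    rw [Units.val_pow_eq_pow_val, mul_smul, h1, smul_smul, inv_mul_cancel₀ c'.ne_zero, one_smul]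
  have hcen : A ^ (j - i) ∈ Subgroup.center (GL (Fin d) F) := by
    rw [Matrix.GeneralLinearGroup.mem_center_iff_val_mem_range_scalar]
    refine ⟨(c' : F)⁻¹ * (c : F), ?_⟩
    rw [hB]
    ext a b
    simp [Matrix.one_apply, Matrix.diagonal_apply]
  have hpow : (QuotientGroup.mk A : GL (Fin d) F ⧸ Subgroup.center (GL (Fin d) F)) ^ (j - i) = 1 := by
    rw [← QuotientGroup.mk_pow, QuotientGroup.eq_one_iff]
    exact hcen
  have hdvd := orderOf_dvd_of_pow_eq_one hpow
  have h0 : j - i = 0 := Nat.eq_zero_of_dvd_of_lt hdvd (by omega)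
  have hij' : i = j := by omega
  refine ⟨hij', ?_⟩
  rw [h0, pow_zero] at h1
  have h2 := congrFun (congrFun h1 ⟨0, hd⟩) ⟨0, hd⟩
  simp at h2
  exact Units.ext h2

theorem order_bound (hd : 1 ≤ d) (g : GL (Fin d) F ⧸ Subgroup.center (GL (Fin d) F)) :
    (Fintype.card F - 1) * orderOf g ≤ Fintype.card F ^ d - 1 := by
  classical
  obtain ⟨A, rfl⟩ := QuotientGroup.mk_surjective g
  set n := orderOf (QuotientGroup.mk A : GL (Fin d) F ⧸ Subgroup.center (GL (Fin d) F)) with hn
  obtain ⟨S, hS1, hS2, hS3⟩ := exists_finset (A : Matrix (Fin d) (Fin d) F)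
  let f : Fˣ × Fin n → Matrix (Fin d) (Fin d) F :=
    fun x => (x.1 : F) • (A : Matrix (Fin d) (Fin d) F) ^ (x.2 : ℕ)
  have hinj : Function.Injective f := by
    rintro ⟨c, i⟩ ⟨c', j⟩ h
    simp only [f] at h
    rcases le_total (i : ℕ) (j : ℕ) with hij | hij
    · obtain ⟨h1, h2⟩ := inj_aux hd A c c' i j hij j.2 h
      exact Prod.ext h2 (Fin.ext h1)
    · obtain ⟨h1, h2⟩ := inj_aux hd A c' c j i hij i.2 h.symm
      exact Prod.ext h2.symm (Fin.ext h1.symm)
  have hsub : Finset.univ.image f ⊆ S.erase 0 := by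
    intro M hM
    rw [Finset.mem_image] at hM
    obtain ⟨⟨c, i⟩, -, rfl⟩ := hM
    rw [Finset.mem_erase]
    refine ⟨?_, hS3 _ _⟩
    simp only [f]
    intro h0
    have hinv : ((A ^ (i : ℕ))⁻¹ : GL (Fin d) F).val * (A : Matrix (Fin d) (Fin d) F) ^ (i : ℕ) = 1 := by
      rw [← Units.val_pow_eq_pow_val, ← Units.val_mul, inv_mul_cancel, Units.val_one]
    have h1 := congrArg (fun M => ((A ^ (i : ℕ))⁻¹ : GL (Fin d) F).val * M) h0
    simp only [Matrix.mul_smul, hinv, Matrix.mul_zero] at h1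
    have h2 := congrFun (congrFun h1 ⟨0, hd⟩) ⟨0, hd⟩
    simp at h2
  have hcard := Finset.card_le_card hsub
  rw [Finset.card_image_of_injective _ hinj, Finset.card_erase_of_mem hS2] at hcard
  simp only [Finset.card_univ, Fintype.card_prod, Fintype.card_units, Fintype.card_fin] at hcard
  omega

theorem exists_singer (hd : 1 ≤ d) :
    ∃ g : GL (Fin d) F ⧸ Subgroup.center (GL (Fin d) F),
      (Fintype.card F - 1) * orderOf g = Fintype.card F ^ d - 1 := by
  classical
  obtain ⟨p, hp⟩ := CharP.exists F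
  haveI := hp
  haveI : Fact p.Prime := ⟨CharP.char_is_prime F p⟩
  haveI : NeZero d := ⟨by omega⟩
  set q := Fintype.card F with hq
  have hq2 : 2 ≤ q := Fintype.one_lt_card
  let L := FiniteField.Extension F p d
  have hfr : Module.finrank F L = d := FiniteField.finrank_extension F p d
  have hcL : Nat.card L = q ^ d := by
    rw [FiniteField.natCard_extension F p d, Nat.card_eq_fintype_card]
  haveI : Finite L := Nat.finite_of_card_ne_zero (by rw [hcL]; positivity)
  let b : Module.Basis (Fin d) F L := Module.finBasisOfFinrankEq F L hfr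
  let φ : L →ₐ[F] Matrix (Fin d) (Fin d) F := Algebra.leftMulMatrix b
  have hφ : Function.Injective φ := Algebra.leftMulMatrix_injective b
  obtain ⟨θ, hθ⟩ := IsCyclic.exists_ofOrder_eq_natCard (α := Lˣ)
  have hcardU : Nat.card Lˣ = q ^ d - 1 := by rw [Nat.card_units, hcL]
  let M : GL (Fin d) F := Units.map (φ : L →* Matrix (Fin d) (Fin d) F) θ
  have hM : ∀ k : ℕ, ((M ^ k : GL (Fin d) F) : Matrix (Fin d) (Fin d) F) = φ ((θ : L) ^ k) := by
    intro k
    rw [Units.val_pow_eq_pow_val, map_pow]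
    rfl
  refine ⟨QuotientGroup.mk M, ?_⟩
  apply le_antisymm (order_bound hd _)
  set n := orderOf (QuotientGroup.mk M : GL (Fin d) F ⧸ Subgroup.center (GL (Fin d) F)) with hn
  have hnpos : 0 < n := orderOf_pos _
  have hpow : (QuotientGroup.mk M : GL (Fin d) F ⧸ Subgroup.center (GL (Fin d) F)) ^ n = 1 :=
    pow_orderOf_eq_one _
  rw [← QuotientGroup.mk_pow, QuotientGroup.eq_one_iff,
    Matrix.GeneralLinearGroup.mem_center_iff_val_mem_range_scalar] at hpow
  obtain ⟨c, hc⟩ := hpow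
  rw [hM] at hc
  have hc' : φ (algebraMap F L c) = φ ((θ : L) ^ n) := by
    rw [← hc, AlgHom.commutes]
    ext a b
    simp [Matrix.algebraMap_matrix_apply, Matrix.diagonal_apply]
  have hθn : (θ : L) ^ n = algebraMap F L c := (hφ hc').symm
  have hc0 : c ≠ 0 := by
    rintro rfl
    rw [map_zero] at hθn
    exact (pow_ne_zero n θ.ne_zero) hθn
  have h1 : (θ : L) ^ (n * (q - 1)) = 1 := by
    rw [pow_mul, hθn, ← map_pow, FiniteField.pow_card_sub_one_eq_one c hc0, map_one]
  have h2 : θ ^ (n * (q - 1)) = 1 := by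
    apply Units.ext
    rw [Units.val_pow_eq_pow_val, h1, Units.val_one]
  have hdvd := orderOf_dvd_of_pow_eq_one h2
  rw [hθ, hcardU] at hdvd
  have hpos : 0 < n * (q - 1) := Nat.mul_pos hnpos (by omega)
  have := Nat.le_of_dvd hpos hdvd
  rw [mul_comm] at this
  exact this

end Cfsg.Agent.Lib.Helper4.PGLOrd
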