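import Cfsg.Agent.Lib.Helper4.SemiCount2

/-!
# Counting semisimple classes of `SL_n(q)`
-/

namespace Cfsg.Agent.Lib.Helper4.SemiMod

open Polynomial

variable {F : Type*} [Field F]

lemma toGL_injective {n : ℕ} :
    Function.Injective (Matrix.SpecialLinearGroup.toGL (n := Fin n) (R := F)) := by
  intro a b hab
  apply Subtype.ext
  have := congrArg (fun u : GL (Fin n) F => (u : Matrix (Fin n) (Fin n) F)) hab
  exact this

lemma charpoly_eq_of_gl_conj {n : ℕ} (c g₁ g : GL (Fin n) F) (hc : c * g₁ * c⁻¹ = g) :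
    (g₁ : Matrix (Fin n) (Fin n) F).charpoly = (g : Matrix (Fin n) (Fin n) F).charpoly := by
  rw [← hc, Units.val_mul, Units.val_mul, Matrix.coe_units_inv]
  exact (Matrix.charpoly_units_conj c (g₁ : Matrix (Fin n) (Fin n) F)).symm

theorem count_sl [Fintype F] (p : ℕ) [Fact p.Prime] [CharP F p] (m : ℕ) :
    Nat.card {c : ConjClasses (Matrix.SpecialLinearGroup (Fin (m + 1)) F) //
      ∃ g : Matrix.SpecialLinearGroup (Fin (m + 1)) F, ConjClasses.mk g = c ∧
        (orderOf g).Coprime p} = Fintype.card F ^ m := by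
  classical
  rw [← card_eq_first m ((-1 : F) ^ (m + 1)), ← Nat.card_eq_fintype_card]
  have hsq : ((-1 : F) ^ (m + 1)) * ((-1 : F) ^ (m + 1)) = 1 := by
    rw [← mul_pow]; simp
  have hcoeff0 : ∀ g : Matrix.SpecialLinearGroup (Fin (m + 1)) F,
      (g : Matrix (Fin (m + 1)) (Fin (m + 1)) F).charpoly.coeff 0 = (-1 : F) ^ (m + 1) := by
    intro g
    have h1 := Matrix.det_eq_sign_charpoly_coeff (g : Matrix (Fin (m + 1)) (Fin (m + 1)) F)
    rw [g.2, Fintype.card_fin] at h1
    calc (g : Matrix (Fin (m + 1)) (Fin (m + 1)) F).charpoly.coeff 0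
        = ((-1 : F) ^ (m + 1) * (-1 : F) ^ (m + 1)) *
          (g : Matrix (Fin (m + 1)) (Fin (m + 1)) F).charpoly.coeff 0 := by rw [hsq, one_mul]
      _ = (-1 : F) ^ (m + 1) * ((-1 : F) ^ (m + 1) *
          (g : Matrix (Fin (m + 1)) (Fin (m + 1)) F).charpoly.coeff 0) := by ring
      _ = (-1 : F) ^ (m + 1) := by rw [← h1, mul_one]
  let Θ : {c : ConjClasses (Matrix.SpecialLinearGroup (Fin (m + 1)) F) //
      ∃ g : Matrix.SpecialLinearGroup (Fin (m + 1)) F, ConjClasses.mk g = c ∧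
        (orderOf g).Coprime p} →
      {a : Fin (m + 1) → F // a 0 = (-1 : F) ^ (m + 1)} := fun c =>
    ⟨fun i => ((Classical.choose c.2 : Matrix.SpecialLinearGroup (Fin (m + 1)) F) :
      Matrix (Fin (m + 1)) (Fin (m + 1)) F).charpoly.coeff i, hcoeff0 _⟩
  apply Nat.card_congr (Equiv.ofBijective Θ ⟨?_, ?_⟩)
  · intro c c' h
    have hc := Classical.choose_spec c.2
    have hc' := Classical.choose_spec c'.2
    apply Subtype.ext
    rw [← hc.1, ← hc'.1, ConjClasses.mk_eq_mk_iff_isConj]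
    apply sl_isConj p _ _ hc.2 hc'.2
    rw [← polyOf_charpoly, ← polyOf_charpoly
      ((Classical.choose c'.2 : Matrix.SpecialLinearGroup (Fin (m + 1)) F) :
        Matrix (Fin (m + 1)) (Fin (m + 1)) F)]
    congr 1
    exact congrArg Subtype.val h
  · intro a
    obtain ⟨g, hg, hgo⟩ := exists_gl p (m + 1) (polyOf a.1) (polyOf_monic _) (polyOf_natDegree _)
      (by
        have := polyOf_coeff a.1 0; simp only [Fin.val_zero] at this; rw [this, a.2]
        intro h; rw [h, mul_zero] at hsq; exact zero_ne_one hsq)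
    have hdet : (g : Matrix (Fin (m + 1)) (Fin (m + 1)) F).det = 1 := by
      rw [Matrix.det_eq_sign_charpoly_coeff, hg, Fintype.card_fin]
      have := polyOf_coeff a.1 0; simp only [Fin.val_zero] at this
      rw [this, a.2, hsq]
    set s : Matrix.SpecialLinearGroup (Fin (m + 1)) F :=
      ⟨(g : Matrix (Fin (m + 1)) (Fin (m + 1)) F), hdet⟩ with hs_def
    have hsg : Matrix.SpecialLinearGroup.toGL s = g := Units.ext rfl
    have hso : (orderOf s).Coprime p := by
      rw [← orderOf_injective _ toGL_injective s, hsg]; exact hgo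
    refine ⟨⟨ConjClasses.mk s, s, rfl, hso⟩, ?_⟩
    apply Subtype.ext
    funext i
    show ((Classical.choose (⟨s, rfl, hso⟩ : ∃ g' : Matrix.SpecialLinearGroup (Fin (m + 1)) F,
      ConjClasses.mk g' = ConjClasses.mk s ∧ (orderOf g').Coprime p) :
      Matrix.SpecialLinearGroup (Fin (m + 1)) F) :
      Matrix (Fin (m + 1)) (Fin (m + 1)) F).charpoly.coeff i = a.1 i
    have hs := Classical.choose_spec (⟨s, rfl, hso⟩ : ∃ g' : Matrix.SpecialLinearGroup (Fin (m + 1)) F,
      ConjClasses.mk g' = ConjClasses.mk s ∧ (orderOf g').Coprime p)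
    generalize Classical.choose (⟨s, rfl, hso⟩ : ∃ g' : Matrix.SpecialLinearGroup (Fin (m + 1)) F,
      ConjClasses.mk g' = ConjClasses.mk s ∧ (orderOf g').Coprime p) = s₁ at hs ⊢
    have hconj := ConjClasses.mk_eq_mk_iff_isConj.1 hs.1
    rw [isConj_iff] at hconj
    obtain ⟨c, hc⟩ := hconj
    have hc' : Matrix.SpecialLinearGroup.toGL c * Matrix.SpecialLinearGroup.toGL s₁ *
        (Matrix.SpecialLinearGroup.toGL c)⁻¹ = g := by
      rw [← hsg, ← hc, map_mul, map_mul, map_inv]
    have hcp := charpoly_eq_of_gl_conj _ _ _ hc'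
    have : (s₁ : Matrix (Fin (m + 1)) (Fin (m + 1)) F).charpoly =
        (g : Matrix (Fin (m + 1)) (Fin (m + 1)) F).charpoly := hcp
    rw [this, hg, polyOf_coeff]

end Cfsg.Agent.Lib.Helper4.SemiMod
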