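import Cfsg.Agent.Lib.Helper4.PrimeOrdGL
import Cfsg.Agent.Lib.Helper4.SemiCount3

/-!
# Classes of elements of prime order `r ≠ p` in `GL_n(q)`: the bijection with exponent tuples
-/

namespace Cfsg.Agent.Lib.Helper4.PrimeOrd

open Polynomial Matrix Cfsg.Agent.Lib.Helper4.SemiMod

variable {F : Type*} [Field F] [Fintype F] (p : ℕ) [Fact p.Prime] [CharP F p]
  (n r i t : ℕ) (f : Fin t → F[X])

/-- the family `X - 1, f_1, …, f_t` -/
noncomputable def fam : Option (Fin t) → F[X] := fun o => o.elim (X - C 1) f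

/-- the polynomial attached to an exponent tuple -/
noncomputable def Pc (c : Fin t → ℕ) : F[X] :=
  (X - C 1) ^ (n - i * ∑ j, c j) * ∏ j, f j ^ c j

lemma Pc_eq_prod (c : Fin t → ℕ) :
    Pc n i t f c = ∏ o, fam t f o ^ (fun o : Option (Fin t) => o.elim (n - i * ∑ j, c j) c) o := by
  rw [Fintype.prod_option]
  rfl

/-- hypotheses on the family -/
structure FamHyp : Prop where
  rpos : 0 < r
  ipos : 0 < i
  monic : ∀ j, (f j).Monic
  irr : ∀ j, Irreducible (f j)
  deg : ∀ j, (f j).natDegree = i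
  inj : Function.Injective f
  ne1 : ∀ j, f j ≠ X - C 1
  dvd : ∀ j, f j ∣ X ^ r - 1
  cov : ∀ π : F[X], Irreducible π → π ∣ X ^ r - 1 → Associated π (X - C 1) ∨ ∃ j, Associated π (f j)

variable {n r i t f}

lemma fam_monic (H : FamHyp r i t f) (o : Option (Fin t)) : (fam t f o).Monic := by
  cases o with
  | none => exact monic_X_sub_C 1
  | some j => exact H.monic j

lemma fam_irr (H : FamHyp r i t f) (o : Option (Fin t)) : Irreducible (fam t f o) := by
  cases o with
  | none => exact irreducible_X_sub_C 1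
  | some j => exact H.irr j

lemma fam_inj (H : FamHyp r i t f) : Function.Injective (fam t f) := by
  intro o o' h
  cases o with
  | none =>
    cases o' with
    | none => rfl
    | some j => exact absurd h.symm (H.ne1 j)
  | some j =>
    cases o' with
    | none => exact absurd h (H.ne1 j)
    | some j' => rw [H.inj h]

lemma fam_not_dvd (H : FamHyp r i t f) (o o' : Option (Fin t)) (h : o ≠ o') :
    ¬ fam t f o ∣ fam t f o' :=
  not_dvd_of_monic_irreducible_ne (fam_irr H o) (fam_irr H o') (fam_monic H o) (fam_monic H o')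
    (fun h' => h (fam_inj H h'))

lemma X_sub_one_dvd (r : ℕ) : (X - C 1 : F[X]) ∣ X ^ r - 1 := by
  rw [dvd_iff_isRoot]
  simp

lemma fam_dvd (H : FamHyp r i t f) (o : Option (Fin t)) : fam t f o ∣ X ^ r - 1 := by
  cases o with
  | none => exact X_sub_one_dvd r
  | some j => exact H.dvd j

lemma Pc_monic (H : FamHyp r i t f) (c : Fin t → ℕ) : (Pc n i t f c).Monic :=
  ((monic_X_sub_C 1).pow _).mul (monic_prod_of_monic _ _ (fun j _ => (H.monic j).pow _))

lemma Pc_natDegree (H : FamHyp r i t f) (c : Fin t → ℕ) (hc : i * ∑ j, c j ≤ n) :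
    (Pc n i t f c).natDegree = n := by
  unfold Pc
  rw [Monic.natDegree_mul ((monic_X_sub_C 1).pow _)
    (monic_prod_of_monic _ _ (fun j _ => (H.monic j).pow _)),
    natDegree_pow, natDegree_X_sub_C, mul_one, natDegree_prod_of_monic _ _ (fun j _ => (H.monic j).pow _)]
  have : ∀ j, (f j ^ c j).natDegree = c j * i := by
    intro j
    rw [natDegree_pow, H.deg j]
  simp only [this]
  rw [← Finset.sum_mul]
  have h2 : (∑ j, c j) * i = i * ∑ j, c j := mul_comm _ _
  omega

lemma eval_zero_fam_ne (H : FamHyp r i t f) (o : Option (Fin t)) : eval 0 (fam t f o) ≠ 0 := by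
  intro h
  have h1 : (X ^ r - 1 : F[X]).IsRoot 0 := IsRoot.dvd h (fam_dvd H o)
  rw [IsRoot.def] at h1
  simp [zero_pow H.rpos.ne'] at h1

lemma Pc_coeff_zero (H : FamHyp r i t f) (c : Fin t → ℕ) : (Pc n i t f c).coeff 0 ≠ 0 := by
  rw [coeff_zero_eq_eval_zero, Pc_eq_prod, eval_prod]
  apply Finset.prod_ne_zero_iff.2
  intro o _
  rw [eval_pow]
  exact pow_ne_zero _ (eval_zero_fam_ne H o)

lemma dvd_pow_sub_one_of_dvd_Pc (H : FamHyp r i t f) (c : Fin t → ℕ) (π : F[X])
    (hπ : Irreducible π) (hd : π ∣ Pc n i t f c) : π ∣ X ^ r - 1 := by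
  rw [Pc_eq_prod] at hd
  obtain ⟨o, -, ho⟩ := (hπ.prime.dvd_finset_prod_iff _).1 hd
  exact (hπ.prime.dvd_of_dvd_pow ho).trans (fam_dvd H o)

lemma Pc_injective (H : FamHyp r i t f) (c c' : Fin t → ℕ)
    (h : Pc n i t f c = Pc n i t f c') : c = c' := by
  classical
  rw [Pc_eq_prod, Pc_eq_prod] at h
  have := exponents_unique (fam t f) (fam_irr H) (fam_not_dvd H) _ _ h
  funext j
  exact congrFun this (some j)

lemma Pc_zero : Pc n i t f 0 = (X - C 1) ^ n := by
  unfold Pc
  simp

/-- the characteristic polynomial of an element with `g ^ r = 1` -/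
theorem charpoly_of_pow_eq_one (H : FamHyp r i t f) (g : GL (Fin n) F) (hg : g ^ r = 1) :
    ∃ c : Fin t → ℕ, i * ∑ j, c j ≤ n ∧
      (g : Matrix (Fin n) (Fin n) F).charpoly = Pc n i t f c := by
  classical
  have hP : aeval (g : Matrix (Fin n) (Fin n) F) (X ^ r - 1 : F[X]) = 0 := by
    simp only [map_sub, map_pow, aeval_X, map_one]
    rw [← Units.val_pow_eq_pow_val, hg, Units.val_one, sub_self]
  obtain ⟨a, ha⟩ := eq_prod_pow (fam t f) (fam_monic H) n
    (g : Matrix (Fin n) (Fin n) F).charpoly (Matrix.charpoly_monic _)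
    (by rw [Matrix.charpoly_natDegree_eq_dim, Fintype.card_fin]) (by
      intro π hπ hd
      rcases H.cov π hπ (dvd_of_dvd_charpoly _ _ hP hπ hd) with h1 | ⟨j, hj⟩
      · exact ⟨none, h1⟩
      · exact ⟨some j, hj⟩)
  have hdeg : a none + i * ∑ j, a (some j) = n := by
    have h1 := congrArg natDegree ha
    rw [Matrix.charpoly_natDegree_eq_dim, Fintype.card_fin,
      natDegree_prod_of_monic _ _ (fun o _ => (fam_monic H o).pow _), Fintype.sum_option] at h1
    have h2 : (fam t f none ^ a none).natDegree = a none := by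
      rw [natDegree_pow]
      show a none * (X - C 1 : F[X]).natDegree = a none
      rw [natDegree_X_sub_C, mul_one]
    have h3 : ∀ j, (fam t f (some j) ^ a (some j)).natDegree = a (some j) * i := by
      intro j
      rw [natDegree_pow]
      show a (some j) * (f j).natDegree = _
      rw [H.deg j]
    simp only [h3] at h1
    rw [h2, ← Finset.sum_mul, mul_comm] at h1
    exact h1.symm
  refine ⟨fun j => a (some j), by show i * ∑ j, a (some j) ≤ n; omega, ?_⟩
  rw [ha, Pc_eq_prod]
  apply Finset.prod_congr rfl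
  intro o _
  congr 1
  cases o with
  | none => simp only [Option.elim]; omega
  | some j => rfl

include p in
lemma coprime_of_pow (hr : r.Prime) (hrp : r ≠ p) (g : GL (Fin n) F) (hg : g ^ r = 1) :
    (orderOf g).Coprime p := by
  apply Nat.Coprime.coprime_dvd_left (orderOf_dvd_of_pow_eq_one hg)
  exact (Nat.coprime_primes hr (Fact.out : p.Prime)).2 hrp

/-- **The class count given the factor family.** -/
theorem card_classes_of_family (H : FamHyp r i t f) (hr : r.Prime) (hrp : r ≠ p) :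
    Nat.card {C : ConjClasses (GL (Fin n) F) // ∃ g : GL (Fin n) F, ConjClasses.mk g = C ∧
      orderOf g = r} = Nat.choose (n / i + t) t - 1 := by
  classical
  haveI : Fact r.Prime := ⟨hr⟩
  -- representatives
  have hex : ∀ c : Fin t → ℕ, ∃ g : GL (Fin n) F, i * ∑ j, c j ≤ n →
      ((g : Matrix (Fin n) (Fin n) F).charpoly = Pc n i t f c ∧ (orderOf g).Coprime p) := by
    intro c
    by_cases hc : i * ∑ j, c j ≤ n
    · obtain ⟨g, h1, h2⟩ := exists_gl p n (Pc n i t f c) (Pc_monic H c) (Pc_natDegree H c hc)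
        (Pc_coeff_zero H c)
      exact ⟨g, fun _ => ⟨h1, h2⟩⟩
    · exact ⟨1, fun h => absurd h hc⟩
  choose gsel hsel using hex
  have hpow : ∀ c : Fin t → ℕ, i * ∑ j, c j ≤ n → gsel c ^ r = 1 := by
    intro c hc
    obtain ⟨h1, h2⟩ := hsel c hc
    haveI := semisimple_of_gl p (gsel c) h2
    have h0 := aeval_eq_zero_of_semisimple (gsel c : Matrix (Fin n) (Fin n) F) (X ^ r - 1) (by
      intro π hπ hd
      rw [h1] at hd
      exact dvd_pow_sub_one_of_dvd_Pc H c π hπ hd)
    simp only [map_sub, map_pow, aeval_X, map_one] at h0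
    apply Units.ext
    rw [Units.val_pow_eq_pow_val, Units.val_one]
    exact sub_eq_zero.1 h0
  have hone : (orderOf (1 : GL (Fin n) F)).Coprime p := by simp
  have hch1 : ((1 : GL (Fin n) F) : Matrix (Fin n) (Fin n) F).charpoly = Pc n i t f 0 := by
    rw [Pc_zero, Units.val_one, Matrix.charpoly_one, Fintype.card_fin, map_one]
  have hne : ∀ c : Fin t → ℕ, i * ∑ j, c j ≤ n → c ≠ 0 → gsel c ≠ 1 := by
    intro c hc hc0 h1
    obtain ⟨h2, -⟩ := hsel c hc
    rw [h1, hch1] at h2
    exact hc0 (Pc_injective H _ _ h2).symm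
  -- the bijection
  have hile : ∀ c : Fin t → ℕ, ∑ j, c j ≤ n / i ↔ i * ∑ j, c j ≤ n := by
    intro c
    rw [Nat.le_div_iff_mul_le H.ipos, mul_comm]
  let Φ : {c : Fin t → ℕ // ∑ j, c j ≤ n / i ∧ c ≠ 0} →
      {C : ConjClasses (GL (Fin n) F) // ∃ g : GL (Fin n) F, ConjClasses.mk g = C ∧ orderOf g = r} :=
    fun c => ⟨ConjClasses.mk (gsel c.1), gsel c.1, rfl,
      orderOf_eq_prime (hpow c.1 ((hile c.1).1 c.2.1)) (hne c.1 ((hile c.1).1 c.2.1) c.2.2)⟩
  have hΦ : Function.Bijective Φ := by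
    constructor
    · intro c c' h
      have h' := congrArg Subtype.val h
      simp only [Φ, ConjClasses.mk_eq_mk_iff_isConj] at h'
      obtain ⟨u, hu⟩ := isConj_iff.1 h'
      have hcp := charpoly_eq_of_gl_conj u _ _ hu
      rw [(hsel c.1 ((hile c.1).1 c.2.1)).1, (hsel c'.1 ((hile c'.1).1 c'.2.1)).1] at hcp
      exact Subtype.ext (Pc_injective H _ _ hcp)
    · rintro ⟨C, g, rfl, hg⟩
      have hgr : g ^ r = 1 := by rw [← hg]; exact pow_orderOf_eq_one g
      obtain ⟨c, hc, hcp⟩ := charpoly_of_pow_eq_one H g hgr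
      have hgp := coprime_of_pow p hr hrp g hgr
      have hc0 : c ≠ 0 := by
        rintro rfl
        have : IsConj g 1 := gl_isConj p g 1 hgp hone (by rw [hcp, hch1])
        rw [isConj_one_left] at this
        rw [this, orderOf_one] at hg
        exact hr.one_lt.ne hg
      refine ⟨⟨c, (hile c).2 hc, hc0⟩, ?_⟩
      apply Subtype.ext
      simp only [Φ]
      rw [ConjClasses.mk_eq_mk_iff_isConj]
      exact gl_isConj p _ _ (hsel c hc).2 hgp (by rw [(hsel c hc).1, hcp])
  rw [← Nat.card_congr (Equiv.ofBijective Φ hΦ), card_sum_le_ne_zero]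

end Cfsg.Agent.Lib.Helper4.PrimeOrd
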