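import Cfsg.Agent.Lib.Helper4.PGLInvol3
import Cfsg.Agent.Lib.Helper4.PrimeOrdGL2

/-!
# Elements of prime order `r ∣ q - 1` in `PGL_n(q)`: generic tools and the orbit count
-/

namespace Cfsg.Agent.Lib.Helper4.PGLr

open Polynomial Matrix Cfsg.Agent.Lib.Helper4.SemiMod Cfsg.Agent.Lib.Helper4.PGLInvol

section generic

variable {F : Type*} [Field F] {n : ℕ}

/-- characteristic polynomial of a scalar multiple -/
theorem charpoly_smul (c : F) (hc : c ≠ 0) (A : Matrix (Fin n) (Fin n) F) :
    (c • A).charpoly = C (c ^ n) * (A.charpoly).comp (C c⁻¹ * X) := by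
  unfold Matrix.charpoly
  have h1 : charmatrix (c • A) =
      C c • ((compRingHom (C c⁻¹ * X : F[X])).mapMatrix (charmatrix A)) := by
    ext i j
    by_cases hij : i = j
    · subst hij
      simp only [charmatrix_apply_eq, Matrix.smul_apply, RingHom.mapMatrix_apply, Matrix.map_apply,
        coe_compRingHom, smul_eq_mul]
      rw [sub_comp, X_comp, C_comp, mul_sub, ← mul_assoc, ← C_mul, mul_inv_cancel₀ hc, C_1,
        one_mul, C_mul]
    · simp only [charmatrix_apply_ne _ _ _ hij, Matrix.smul_apply, RingHom.mapMatrix_apply,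
        Matrix.map_apply, coe_compRingHom, smul_eq_mul]
      rw [neg_comp, C_comp, mul_neg, C_mul]
  rw [h1, Matrix.det_smul, Fintype.card_fin, ← RingHom.map_det, coe_compRingHom, ← C_pow]

lemma orderOf_mk_eq_prime_iff {r : ℕ} (hr : r.Prime) (g : GL (Fin n) F) :
    orderOf (QuotientGroup.mk g : PGL n F) = r ↔
      g ^ r ∈ Subgroup.center (GL (Fin n) F) ∧ g ∉ Subgroup.center (GL (Fin n) F) := by
  haveI : Fact r.Prime := ⟨hr⟩
  rw [orderOf_eq_prime_iff, ← QuotientGroup.mk_pow, QuotientGroup.eq_one_iff, Ne,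
    QuotientGroup.eq_one_iff]

/-- counting classes via representatives indexed by a type -/
theorem card_classes_of_reps' {G : Type*} [Group G] (P : G → Prop) {ι : Type*} (rep : ι → G)
    (h1 : ∀ i, P (rep i)) (h2 : ∀ i i', IsConj (rep i) (rep i') → i = i')
    (h3 : ∀ x, P x → ∃ i, IsConj x (rep i)) :
    Nat.card {C : ConjClasses G // ∃ g : G, ConjClasses.mk g = C ∧ P g} = Nat.card ι := by
  let f : ι → {C : ConjClasses G // ∃ g : G, ConjClasses.mk g = C ∧ P g} :=
    fun j => ⟨ConjClasses.mk (rep j), rep j, rfl, h1 j⟩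
  have hf : Function.Bijective f := by
    constructor
    · intro j j' h
      have h' := congrArg Subtype.val h
      simp only [f, ConjClasses.mk_eq_mk_iff_isConj] at h'
      exact h2 j j' h'
    · rintro ⟨C, g, rfl, hg⟩
      obtain ⟨j, hc⟩ := h3 g hg
      refine ⟨j, ?_⟩
      apply Subtype.ext
      simp only [f]
      exact (ConjClasses.mk_eq_mk_iff_isConj.2 hc).symm
  rw [← Nat.card_congr (Equiv.ofBijective f hf)]

lemma sc_pow (c : Fˣ) (k : ℕ) : (sc c : GL (Fin n) F) ^ k = sc (c ^ k) := (map_pow _ _ _).symm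

lemma sc_mul_pow (c : Fˣ) (g : GL (Fin n) F) (k : ℕ) :
    (sc c * g) ^ k = sc (c ^ k) * g ^ k := by
  rw [(Commute.mul_pow (sc_comm c g) k), sc_pow]

lemma sc_mul_val (c : Fˣ) (g : GL (Fin n) F) :
    ((sc c * g : GL (Fin n) F) : Matrix (Fin n) (Fin n) F) =
      (c : F) • (g : Matrix (Fin n) (Fin n) F) := by
  rw [Units.val_mul, sc_val]
  ext i j
  simp [Matrix.scalar_apply, Matrix.diagonal_mul]

lemma charpoly_sc (c : Fˣ) :
    ((sc c : GL (Fin n) F) : Matrix (Fin n) (Fin n) F).charpoly = (X - C (c : F)) ^ n := by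
  rw [sc_val, Matrix.scalar_apply, Matrix.charpoly_diagonal]
  simp

/-- a conjugate of a central element is itself -/
lemma eq_of_isConj_sc (c : Fˣ) (g : GL (Fin n) F) (h : IsConj g (sc c)) : g = sc c := by
  obtain ⟨u, hu⟩ := isConj_iff.1 h
  have : g = u⁻¹ * sc c * u := by rw [← hu]; group
  rw [this, ← sc_comm c u⁻¹, mul_assoc, inv_mul_cancel, mul_one]

end generic

/-! ### tuples and the rotation action -/

section tuples

variable (n r : ℕ) [Fact r.Prime]

/-- multiplicity tuples of total `n` with no entry equal to `n` -/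
abbrev Tup := {a : ZMod r → ℕ // ∑ j, a j = n ∧ ∀ j, a j ≠ n}

/-- rotation of a tuple -/
def rot (k : ZMod r) (a : ZMod r → ℕ) : ZMod r → ℕ := fun j => a (j - k)

variable {n r}

lemma rot_zero (a : ZMod r → ℕ) : rot r 0 a = a := by
  funext j; simp [rot]

lemma rot_add (k l : ZMod r) (a : ZMod r → ℕ) : rot r (k + l) a = rot r k (rot r l a) := by
  funext j
  simp only [rot]
  congr 1
  abel

lemma sum_rot (k : ZMod r) (a : ZMod r → ℕ) : ∑ j, rot r k a j = ∑ j, a j :=
  Fintype.sum_equiv (Equiv.subRight k) _ _ (fun j => rfl)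

instance rotAction : AddAction (ZMod r) (Tup n r) where
  vadd k a := ⟨rot r k a.1, by rw [sum_rot]; exact a.2.1, fun j => a.2.2 _⟩
  zero_vadd a := Subtype.ext (rot_zero a.1)
  add_vadd k l a := Subtype.ext (rot_add k l a.1)

lemma vadd_val (k : ZMod r) (a : Tup n r) : (k +ᵥ a).1 = rot r k a.1 := rfl

/-- a tuple fixed by a nonzero rotation is constant -/
lemma const_of_rot_eq (k : ZMod r) (hk : k ≠ 0) (a : ZMod r → ℕ) (h : rot r k a = a) :
    ∀ j, a j = a 0 := by
  have h1 : ∀ j, a (j - k) = a j := fun j => congrFun h j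
  have h2 : ∀ m : ℕ, ∀ j, a (j - m • k) = a j := by
    intro m
    induction m with
    | zero => intro j; simp
    | succ m ih =>
      intro j
      have : j - (m + 1) • k = (j - m • k) - k := by rw [succ_nsmul]; abel
      rw [this, h1, ih]
  intro j
  have h3 := h2 (j * k⁻¹).val j
  have h4 : (j * k⁻¹).val • k = j := by
    rw [nsmul_eq_mul, ZMod.natCast_zmod_val, mul_assoc, inv_mul_cancel₀ hk, mul_one]
  rw [h4, sub_self] at h3
  exact h3.symm

lemma card_tup_all : Nat.card {a : ZMod r → ℕ // ∑ j, a j = n} = (n + r - 1).choose (r - 1) := by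
  classical
  have hr : 0 < r := (Fact.out : r.Prime).pos
  rw [← Nat.card_congr (Sym.equivNatSumOfFintype (ZMod r) n), Nat.card_eq_fintype_card,
    Sym.card_sym_eq_choose, ZMod.card]
  have e1 : r + n - 1 = n + (r - 1) := by omega
  have e2 : n + r - 1 = n + (r - 1) := by omega
  rw [e1, e2, Nat.choose_symm_add]

instance finite_tup_all : Finite {a : ZMod r → ℕ // ∑ j, a j = n} :=
  Finite.of_equiv _ (Sym.equivNatSumOfFintype (ZMod r) n)

instance finite_tup : Finite (Tup n r) :=
  Finite.of_injective (fun a : Tup n r => (⟨a.1, a.2.1⟩ : {a : ZMod r → ℕ // ∑ j, a j = n}))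
    (fun a b h => Subtype.ext (by have h' := congrArg Subtype.val h; exact h'))

lemma eq_single_of_eq (a : ZMod r → ℕ) (ha : ∑ j, a j = n) (j : ZMod r) (hj : a j = n) :
    a = Pi.single j n := by
  classical
  funext i
  by_cases hij : i = j
  · subst hij; simp [hj]
  · rw [Pi.single_eq_of_ne hij]
    have h1 : a j + a i ≤ ∑ l, a l := by
      have := Finset.add_sum_erase Finset.univ a (Finset.mem_univ j)
      rw [← this]
      apply Nat.add_le_add_left
      exact Finset.single_le_sum (f := a) (fun _ _ => Nat.zero_le _)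
        (Finset.mem_erase.2 ⟨hij, Finset.mem_univ i⟩)
    omega

lemma sum_single (j : ZMod r) : ∑ l, (Pi.single j n : ZMod r → ℕ) l = n := by
  classical
  rw [Finset.sum_pi_single']
  simp

/-- the number of admissible tuples -/
lemma card_tup (hn : 1 ≤ n) : Nat.card (Tup n r) + r = (n + r - 1).choose (r - 1) := by
  classical
  rw [← card_tup_all (n := n) (r := r)]
  have hr : 0 < r := (Fact.out : r.Prime).pos
  -- split
  let e : {a : ZMod r → ℕ // ∑ j, a j = n} ≃ (Tup n r) ⊕ ZMod r :=
    { toFun := fun a => if h : ∃ j, a.1 j = n then Sum.inr h.choose else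
        Sum.inl ⟨a.1, a.2, fun j hj => h ⟨j, hj⟩⟩
      invFun := fun x => Sum.elim (fun a => ⟨a.1, a.2.1⟩) (fun j => ⟨Pi.single j n, sum_single j⟩) x
      left_inv := by
        intro a
        by_cases h : ∃ j, a.1 j = n
        · simp only [dif_pos h, Sum.elim_inr]
          apply Subtype.ext
          exact (eq_single_of_eq a.1 a.2 _ h.choose_spec).symm
        · simp only [dif_neg h, Sum.elim_inl]
      right_inv := by
        intro x
        cases x with
        | inl a =>
          have h : ¬ ∃ j, a.1 j = n := fun ⟨j, hj⟩ => a.2.2 j hj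
          dsimp only [Sum.elim_inl]
          rw [dif_neg h]
        | inr j =>
          have h : ∃ i, (Pi.single j n : ZMod r → ℕ) i = n := ⟨j, by simp⟩
          dsimp only [Sum.elim_inr]
          rw [dif_pos h]
          congr 1
          have h1 := h.choose_spec
          by_contra hne
          rw [Pi.single_eq_of_ne hne] at h1
          omega }
  rw [Nat.card_congr e, Nat.card_sum, Nat.card_zmod]

end tuples

section burnside

variable {n r : ℕ} [Fact r.Prime]

lemma sum_const_zmod (c : ℕ) : ∑ _j : ZMod r, c = r * c := by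
  rw [Finset.sum_const, Finset.card_univ, ZMod.card, smul_eq_mul]

/-- fixed points of a nonzero rotation -/
lemma card_fixedBy (hn : 1 ≤ n) (k : ZMod r) (hk : k ≠ 0) :
    Nat.card (AddAction.fixedBy (Tup n r) k) = if r ∣ n then 1 else 0 := by
  have hr := (Fact.out : r.Prime)
  have hconst : ∀ a : Tup n r, a ∈ AddAction.fixedBy (Tup n r) k → n = r * a.1 0 := by
    intro a ha
    rw [AddAction.mem_fixedBy] at ha
    have h1 := const_of_rot_eq k hk a.1 (congrArg Subtype.val ha)
    have h2 := a.2.1
    rw [Finset.sum_congr rfl (fun j _ => h1 j), sum_const_zmod] at h2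
    exact h2.symm
  split_ifs with hd
  · obtain ⟨c, hc⟩ := hd
    have hcn : c ≠ n := by
      have := hr.two_le
      nlinarith
    let a0 : Tup n r := ⟨fun _ => c, by rw [sum_const_zmod, hc], fun _ => hcn⟩
    have ha0 : a0 ∈ AddAction.fixedBy (Tup n r) k := by
      rw [AddAction.mem_fixedBy]
      apply Subtype.ext
      funext j
      rfl
    haveI : Unique (AddAction.fixedBy (Tup n r) k) :=
      { default := ⟨a0, ha0⟩
        uniq := by
          rintro ⟨a, ha⟩
          apply Subtype.ext
          apply Subtype.ext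
          have h0 := hconst a ha
          rw [AddAction.mem_fixedBy] at ha
          have h1 := const_of_rot_eq k hk a.1 (congrArg Subtype.val ha)
          funext j
          show a.1 j = c
          rw [h1 j]
          have : r * a.1 0 = r * c := by rw [← h0, hc]
          exact Nat.eq_of_mul_eq_mul_left hr.pos this }
    exact Nat.card_unique
  · haveI : IsEmpty (AddAction.fixedBy (Tup n r) k) :=
      ⟨fun ⟨a, ha⟩ => hd ⟨a.1 0, hconst a ha⟩⟩
    exact Nat.card_of_isEmpty

/-- **Burnside count of the rotation orbits.** -/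
theorem card_orbits (hn : 1 ≤ n) :
    Nat.card (AddAction.orbitRel.Quotient (ZMod r) (Tup n r)) * r =
      Nat.card (Tup n r) + (r - 1) * (if r ∣ n then 1 else 0) := by
  classical
  haveI : Fintype (Tup n r) := Fintype.ofFinite _
  haveI : Fintype (AddAction.orbitRel.Quotient (ZMod r) (Tup n r)) := Fintype.ofFinite _
  have hB := AddAction.sum_card_fixedBy_eq_card_orbits_mul_card_addGroup (ZMod r) (Tup n r)
  rw [ZMod.card] at hB
  rw [Nat.card_eq_fintype_card (α := AddAction.orbitRel.Quotient (ZMod r) (Tup n r)), ← hB,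
    ← Finset.add_sum_erase Finset.univ _ (Finset.mem_univ (0 : ZMod r))]
  congr 1
  · rw [← Nat.card_eq_fintype_card]
    apply Nat.card_congr
    exact Equiv.subtypeUnivEquiv (fun a => by rw [AddAction.mem_fixedBy, zero_vadd])
  · rw [Finset.sum_congr rfl (fun k hk => by
      rw [← Nat.card_eq_fintype_card, card_fixedBy hn k (Finset.ne_of_mem_erase hk)]),
      Finset.sum_const, Finset.card_erase_of_mem (Finset.mem_univ _), Finset.card_univ, ZMod.card,
      smul_eq_mul]

end burnside

end Cfsg.Agent.Lib.Helper4.PGLr
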