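import Cfsg.Agent.Lib.Helper4.PGLr1
import Cfsg.Agent.Lib.Helper4.SemiCount3

/-!
# Elements of prime order `r ∣ q - 1` in `PGL_n(q)`: the split classes
-/

namespace Cfsg.Agent.Lib.Helper4.PGLr

open Polynomial Matrix Cfsg.Agent.Lib.Helper4.SemiMod Cfsg.Agent.Lib.Helper4.PGLInvol
  Cfsg.Agent.Lib.Helper4.PrimeOrd

section roots

variable {F : Type*} [Field F] {n r : ℕ} [Fact r.Prime] (ζ : Fˣ)

/-- the `r`-th roots of unity -/
def zr (j : ZMod r) : Fˣ := ζ ^ j.val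

variable {ζ}

lemma zr_add (h1 : ζ ^ r = 1) (j k : ZMod r) : zr ζ (j + k) = zr ζ j * zr ζ k := by
  unfold zr
  rw [← pow_add, ZMod.val_add, ← pow_eq_pow_mod _ h1]

lemma zr_pow (h1 : ζ ^ r = 1) (j : ZMod r) : zr ζ j ^ r = 1 := by
  unfold zr
  rw [← pow_mul, mul_comm, pow_mul, h1, one_pow]

lemma zr_inj (hζ : orderOf ζ = r) : Function.Injective (zr ζ : ZMod r → Fˣ) := by
  intro j k h
  unfold zr at h
  apply ZMod.val_injective r
  exact pow_injOn_Iio_orderOf (by rw [hζ]; exact ZMod.val_lt j) (by rw [hζ]; exact ZMod.val_lt k) h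

lemma pow_r_of_order (hζ : orderOf ζ = r) : ζ ^ r = 1 := by
  have := pow_orderOf_eq_one ζ
  rwa [hζ] at this

lemma X_pow_sub_one_eq (hζ : orderOf ζ = r) :
    (X ^ r - 1 : F[X]) = ∏ j : ZMod r, (X - C ((zr ζ j : Fˣ) : F)) := by
  have hprim : IsPrimitiveRoot (ζ : F) r := by
    rw [IsPrimitiveRoot.coe_units_iff, ← hζ]
    exact IsPrimitiveRoot.orderOf ζ
  have h := X_pow_sub_C_eq_prod hprim (Fact.out : r.Prime).pos (one_pow r : (1 : F) ^ r = 1)
  rw [map_one] at h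
  rw [h]
  symm
  apply Finset.prod_bij (fun (j : ZMod r) _ => j.val)
  · intro j _
    exact Finset.mem_range.2 (ZMod.val_lt j)
  · intro j _ k _ h
    exact ZMod.val_injective r h
  · intro b hb
    exact ⟨(b : ZMod r), Finset.mem_univ _, ZMod.val_natCast_of_lt (Finset.mem_range.1 hb)⟩
  · intro j _
    simp [zr]

lemma exists_zr_of_pow_eq_one (hζ : orderOf ζ = r) (c : Fˣ) (hc : c ^ r = 1) :
    ∃ k : ZMod r, c = zr ζ k := by
  have h := congrArg (eval (c : F)) (X_pow_sub_one_eq (F := F) (r := r) hζ)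
  rw [eval_sub, eval_pow, eval_X, eval_one, ← Units.val_pow_eq_pow_val, hc, Units.val_one,
    sub_self, eval_prod] at h
  obtain ⟨k, -, hk⟩ := Finset.prod_eq_zero_iff.1 h.symm
  refine ⟨k, Units.ext ?_⟩
  rw [eval_sub, eval_X, eval_C] at hk
  exact sub_eq_zero.1 hk

variable (ζ) in
/-- the polynomial of a multiplicity tuple -/
noncomputable def Pa (a : ZMod r → ℕ) : F[X] := ∏ j, (X - C ((zr ζ j : Fˣ) : F)) ^ a j

lemma Pa_monic (a : ZMod r → ℕ) : (Pa ζ a).Monic :=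
  monic_prod_of_monic _ _ (fun j _ => (monic_X_sub_C _).pow _)

lemma Pa_natDegree (a : ZMod r → ℕ) : (Pa ζ a).natDegree = ∑ j, a j := by
  unfold Pa
  rw [natDegree_prod_of_monic _ _ (fun j _ => (monic_X_sub_C _).pow _)]
  apply Finset.sum_congr rfl
  intro j _
  rw [natDegree_pow, natDegree_X_sub_C, mul_one]

lemma Pa_coeff_zero (a : ZMod r → ℕ) : (Pa ζ a).coeff 0 ≠ 0 := by
  rw [coeff_zero_eq_eval_zero]
  unfold Pa
  rw [eval_prod]
  apply Finset.prod_ne_zero_iff.2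
  intro j _
  rw [eval_pow]
  apply pow_ne_zero
  simp

lemma Pa_inj (hζ : orderOf ζ = r) (a b : ZMod r → ℕ) (h : Pa ζ a = Pa ζ b) : a = b := by
  classical
  refine exponents_unique (fun j : ZMod r => (X - C ((zr ζ j : Fˣ) : F)))
    (fun j => irreducible_X_sub_C _) ?_ a b h
  intro j k hjk hd
  refine not_dvd_of_monic_irreducible_ne (irreducible_X_sub_C _) (irreducible_X_sub_C _)
    (monic_X_sub_C _) (monic_X_sub_C _) ?_ hd
  intro he
  exact hjk (zr_inj hζ (Units.ext (C_injective (sub_right_injective he))))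

lemma dvd_of_dvd_Pa (hζ : orderOf ζ = r) (a : ZMod r → ℕ) (π : F[X]) (hπ : Irreducible π)
    (hd : π ∣ Pa ζ a) : π ∣ X ^ r - 1 := by
  unfold Pa at hd
  obtain ⟨j, -, hj⟩ := (hπ.prime.dvd_finset_prod_iff _).1 hd
  rw [X_pow_sub_one_eq hζ]
  exact (hπ.prime.dvd_of_dvd_pow hj).trans (Finset.dvd_prod_of_mem _ (Finset.mem_univ j))

lemma Pa_single (j : ZMod r) (m : ℕ) :
    Pa ζ (Pi.single j m) = (X - C ((zr ζ j : Fˣ) : F)) ^ m := by
  classical
  unfold Pa
  rw [Finset.prod_eq_single j]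
  · rw [Pi.single_eq_same]
  · intro i _ hij
    rw [Pi.single_eq_of_ne hij, pow_zero]
  · intro h
    exact absurd (Finset.mem_univ j) h

theorem charpoly_of_pow_eq_one (hζ : orderOf ζ = r) (g : GL (Fin n) F) (hg : g ^ r = 1) :
    ∃ a : ZMod r → ℕ, ∑ j, a j = n ∧ (g : Matrix (Fin n) (Fin n) F).charpoly = Pa ζ a := by
  classical
  have hP : aeval (g : Matrix (Fin n) (Fin n) F) (X ^ r - 1 : F[X]) = 0 := by
    simp only [map_sub, map_pow, aeval_X, map_one]
    rw [← Units.val_pow_eq_pow_val, hg, Units.val_one, sub_self]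
  obtain ⟨a, ha⟩ := eq_prod_pow (fun j : ZMod r => (X - C ((zr ζ j : Fˣ) : F)))
    (fun j => monic_X_sub_C _) n
    (g : Matrix (Fin n) (Fin n) F).charpoly (Matrix.charpoly_monic _)
    (by rw [Matrix.charpoly_natDegree_eq_dim, Fintype.card_fin]) (by
      intro π hπ hd
      have h1 := dvd_of_dvd_charpoly _ _ hP hπ hd
      rw [X_pow_sub_one_eq hζ] at h1
      obtain ⟨j, -, hj⟩ := (hπ.prime.dvd_finset_prod_iff _).1 h1
      exact ⟨j, hπ.associated_of_dvd (irreducible_X_sub_C _) hj⟩)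
  have ha' : (g : Matrix (Fin n) (Fin n) F).charpoly = Pa ζ a := ha
  refine ⟨a, ?_, ha'⟩
  have h1 := congrArg natDegree ha'
  rw [Matrix.charpoly_natDegree_eq_dim, Fintype.card_fin, Pa_natDegree] at h1
  exact h1.symm

lemma Pa_scale (h1 : ζ ^ r = 1) (k : ZMod r) (a : ZMod r → ℕ) (ha : ∑ j, a j = n) :
    C (((zr ζ k : Fˣ) : F) ^ n) * (Pa ζ a).comp (C ((zr ζ k : Fˣ) : F)⁻¹ * X) =
      Pa ζ (rot r k a) := by
  obtain ⟨c, hc⟩ : ∃ c : F, c = ((zr ζ k : Fˣ) : F) := ⟨_, rfl⟩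
  have hc0 : c ≠ 0 := by rw [hc]; exact (zr ζ k).ne_zero
  rw [← hc]
  unfold Pa
  rw [prod_comp]
  have h2 : ∀ j : ZMod r, ((X - C ((zr ζ j : Fˣ) : F)) ^ a j).comp (C c⁻¹ * X) =
      C (c⁻¹ ^ a j) * (X - C ((zr ζ (j + k) : Fˣ) : F)) ^ a j := by
    intro j
    rw [pow_comp, sub_comp, X_comp, C_comp, zr_add h1, Units.val_mul, C_pow, ← mul_pow, ← hc]
    congr 1
    have : c⁻¹ * (((zr ζ j : Fˣ) : F) * c) = ((zr ζ j : Fˣ) : F) := by field_simp
    rw [mul_sub, ← C_mul, this]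
  rw [Finset.prod_congr rfl (fun j _ => h2 j), Finset.prod_mul_distrib, ← map_prod,
    Finset.prod_pow_eq_pow_sum, ha, ← mul_assoc, ← C_mul, ← mul_pow, mul_inv_cancel₀ hc0, one_pow,
    C_1, one_mul]
  exact Fintype.prod_equiv (Equiv.addRight k) _ _ (fun j => by simp [rot])

end roots

section gl

variable {F : Type*} [Field F] [Fintype F] {n r : ℕ} [Fact r.Prime] {ζ : Fˣ}
  (p : ℕ) [Fact p.Prime] [CharP F p]

include p in
theorem exists_rep (hζ : orderOf ζ = r) (a : ZMod r → ℕ) (ha : ∑ j, a j = n) :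
    ∃ g : GL (Fin n) F, (g : Matrix (Fin n) (Fin n) F).charpoly = Pa ζ a ∧ g ^ r = 1 := by
  obtain ⟨g, h1, h2⟩ := exists_gl p n (Pa ζ a) (Pa_monic a) (by rw [Pa_natDegree, ha])
    (Pa_coeff_zero a)
  refine ⟨g, h1, ?_⟩
  haveI := semisimple_of_gl p g h2
  have h0 := aeval_eq_zero_of_semisimple (g : Matrix (Fin n) (Fin n) F) (X ^ r - 1) (by
    intro π hπ hd
    rw [h1] at hd
    exact dvd_of_dvd_Pa hζ a π hπ hd)
  simp only [map_sub, map_pow, aeval_X, map_one] at h0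
  apply Units.ext
  rw [Units.val_pow_eq_pow_val, Units.val_one]
  exact sub_eq_zero.1 h0

lemma charpoly_sc_mul (h1 : ζ ^ r = 1) (k : ZMod r) (g : GL (Fin n) F) (a : ZMod r → ℕ)
    (ha : ∑ j, a j = n) (hg : (g : Matrix (Fin n) (Fin n) F).charpoly = Pa ζ a) :
    ((sc (zr ζ k) * g : GL (Fin n) F) : Matrix (Fin n) (Fin n) F).charpoly =
      Pa ζ (rot r k a) := by
  rw [sc_mul_val, charpoly_smul _ (zr ζ k).ne_zero, hg, Pa_scale h1 k a ha]

include p in
/-- conjugacy in `PGL` of split elements -/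
theorem isConj_mk_split_iff (hζ : orderOf ζ = r) (hrp : r ≠ p) (hn : 0 < n)
    (g g' : GL (Fin n) F) (hg : g ^ r = 1) (hg' : g' ^ r = 1) (a a' : ZMod r → ℕ)
    (ha : ∑ j, a j = n)
    (hc : (g : Matrix (Fin n) (Fin n) F).charpoly = Pa ζ a)
    (hc' : (g' : Matrix (Fin n) (Fin n) F).charpoly = Pa ζ a') :
    IsConj (mkP g) (mkP g') ↔ ∃ k, a' = rot r k a := by
  have hr := (Fact.out : r.Prime)
  have h1 := pow_r_of_order hζ
  constructor
  · intro hconj
    rw [isConj_mk_iff] at hconj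
    obtain ⟨u, z, hz, hzl⟩ := hconj
    obtain ⟨c, rfl⟩ := exists_sc_of_mem_center hn z hz
    obtain ⟨Y, hY⟩ : ∃ Y, Y = u * g * u⁻¹ := ⟨_, rfl⟩
    have hYr : Y ^ r = 1 := by
      rw [hY, conj_pow, hg]; group
    rw [← hY] at hzl
    have hg'2 : g' = sc c * Y := by rw [hzl, sc_comm]
    have hcr : c ^ r = 1 := by
      have h2 := hg'
      rw [hg'2, sc_mul_pow, hYr, mul_one, ← sc_one] at h2
      exact sc_injective hn h2
    obtain ⟨k, hk⟩ := exists_zr_of_pow_eq_one hζ c hcr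
    refine ⟨k, ?_⟩
    apply Pa_inj hζ
    rw [← hc', hg'2, hk]
    apply charpoly_sc_mul h1 k Y a ha
    rw [← charpoly_eq_of_gl_conj u g Y hY.symm, hc]
  · rintro ⟨k, rfl⟩
    obtain ⟨g'', hg''⟩ : ∃ g'', g'' = sc (zr ζ k) * g := ⟨_, rfl⟩
    have hgr : g'' ^ r = 1 := by
      rw [hg'', sc_mul_pow, hg, zr_pow h1, sc_one, mul_one]
    have hcp : (g'' : Matrix (Fin n) (Fin n) F).charpoly = Pa ζ (rot r k a) := by
      rw [hg'']; exact charpoly_sc_mul h1 k g a ha hc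
    have hconj : IsConj g'' g' := gl_isConj p g'' g' (coprime_of_pow p hr hrp g'' hgr)
      (coprime_of_pow p hr hrp g' hg') (by rw [hcp, hc'])
    have e2 : mkP g'' = mkP g := by rw [hg'']; exact mk_sc_mul _ _
    have : IsConj (mkP g) (mkP g') := by
      rw [← e2]
      exact (QuotientGroup.mk' _).map_isConj hconj
    exact this

include p in
/-- centrality of split elements -/
theorem mem_center_split_iff (hζ : orderOf ζ = r) (hrp : r ≠ p) (hn : 0 < n)
    (g : GL (Fin n) F) (hg : g ^ r = 1) (a : ZMod r → ℕ) (ha : ∑ j, a j = n)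
    (hc : (g : Matrix (Fin n) (Fin n) F).charpoly = Pa ζ a) :
    g ∈ Subgroup.center (GL (Fin n) F) ↔ ∃ j, a j = n := by
  have hr := (Fact.out : r.Prime)
  have h1 := pow_r_of_order hζ
  constructor
  · intro hmem
    obtain ⟨c, rfl⟩ := exists_sc_of_mem_center hn g hmem
    have hcr : c ^ r = 1 := by
      rw [sc_pow, ← sc_one] at hg
      exact sc_injective hn hg
    obtain ⟨j, rfl⟩ := exists_zr_of_pow_eq_one hζ c hcr
    refine ⟨j, ?_⟩
    rw [charpoly_sc, ← Pa_single] at hc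
    rw [← Pa_inj hζ _ _ hc]
    simp
  · rintro ⟨j, hj⟩
    have h2 := eq_single_of_eq a ha j hj
    have h3 : (g : Matrix (Fin n) (Fin n) F).charpoly =
        ((sc (zr ζ j) : GL (Fin n) F) : Matrix (Fin n) (Fin n) F).charpoly := by
      rw [hc, h2, Pa_single, charpoly_sc]
    have h4 : (sc (zr ζ j) : GL (Fin n) F) ^ r = 1 := by rw [sc_pow, zr_pow h1, sc_one]
    have hconj : IsConj g (sc (zr ζ j)) := gl_isConj p _ _ (coprime_of_pow p hr hrp g hg)
      (coprime_of_pow p hr hrp _ h4) h3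
    rw [eq_of_isConj_sc _ _ hconj]
    exact sc_mem_center _

end gl

end Cfsg.Agent.Lib.Helper4.PGLr
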