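import Cfsg.Agent.Lib.Helper4.PGLr2

/-!
# Elements of prime order `r ∣ q - 1` in `PGL_n(q)`: the non-split classes and the count
-/

namespace Cfsg.Agent.Lib.Helper4.PGLr

open Polynomial Matrix Cfsg.Agent.Lib.Helper4.SemiMod Cfsg.Agent.Lib.Helper4.PGLInvol
  Cfsg.Agent.Lib.Helper4.PrimeOrd

section nonsplit

variable {F : Type*} [Field F] [Fintype F] {n r : ℕ} (p : ℕ) [Fact p.Prime] [CharP F p]

lemma irr_pow (hr : r.Prime) (ν : Fˣ) (hν : ∀ c : Fˣ, c ^ r ≠ ν) :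
    Irreducible (X ^ r - C (ν : F) : F[X]) := by
  apply X_pow_sub_C_irreducible_of_prime hr
  intro b hb
  have hb0 : b ≠ 0 := by
    rintro rfl
    rw [zero_pow hr.ne_zero] at hb
    exact ν.ne_zero hb.symm
  exact hν (Units.mk0 b hb0) (Units.ext hb)

lemma aeval_pow_sub (g : GL (Fin n) F) (ν : Fˣ) (hg : g ^ r = sc ν) :
    aeval (g : Matrix (Fin n) (Fin n) F) (X ^ r - C (ν : F) : F[X]) = 0 := by
  simp only [map_sub, map_pow, aeval_X, aeval_C]
  rw [← Units.val_pow_eq_pow_val, hg, sc_val, sub_eq_zero]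
  rfl

theorem charpoly_nonsplit_r (hr : r.Prime) (g : GL (Fin n) F) (ν : Fˣ)
    (hν : ∀ c : Fˣ, c ^ r ≠ ν) (hg : g ^ r = sc ν) :
    ∃ a, n = r * a ∧ (g : Matrix (Fin n) (Fin n) F).charpoly = (X ^ r - C (ν : F)) ^ a := by
  have hP := aeval_pow_sub g ν hg
  have hirr := irr_pow hr ν hν
  obtain ⟨a, ha⟩ := eq_prod_pow (fun _ : Fin 1 => (X ^ r - C (ν : F) : F[X]))
    (fun _ => monic_X_pow_sub_C _ hr.ne_zero) n (g : Matrix (Fin n) (Fin n) F).charpoly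
    (Matrix.charpoly_monic _) (by rw [Matrix.charpoly_natDegree_eq_dim, Fintype.card_fin]) (by
      intro π hπ hd
      exact ⟨0, hπ.associated_of_dvd hirr (dvd_of_dvd_charpoly _ _ hP hπ hd)⟩)
  rw [Fin.prod_univ_one] at ha
  refine ⟨a 0, ?_, ha⟩
  have h1 := congrArg natDegree ha
  rw [Matrix.charpoly_natDegree_eq_dim, Fintype.card_fin, natDegree_pow,
    natDegree_X_pow_sub_C] at h1
  rw [h1, mul_comm]

include p in
theorem exists_nonsplit_r (hr : r.Prime) (ν : Fˣ) (a : ℕ) (hn : n = r * a) :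
    ∃ e : GL (Fin n) F, e ^ r = sc ν := by
  obtain ⟨Q, hQ⟩ : ∃ Q : F[X], Q = X ^ r - C (ν : F) := ⟨_, rfl⟩
  have hQm : Q.Monic := by rw [hQ]; exact monic_X_pow_sub_C _ hr.ne_zero
  obtain ⟨e, hech, heo⟩ := exists_gl p n (Q ^ a) (hQm.pow a)
    (by rw [natDegree_pow, hQ, natDegree_X_pow_sub_C, hn, mul_comm]) (by
      rw [coeff_zero_eq_eval_zero, eval_pow, hQ]
      simp [hr.ne_zero])
  haveI := semisimple_of_gl p e heo
  have h0 := aeval_eq_zero_of_semisimple (e : Matrix (Fin n) (Fin n) F) Q (by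
    intro π hπ hd
    rw [hech] at hd
    exact hπ.prime.dvd_of_dvd_pow hd)
  refine ⟨e, ?_⟩
  apply Units.ext
  rw [hQ] at h0
  simp only [map_sub, map_pow, aeval_X, aeval_C] at h0
  rw [Units.val_pow_eq_pow_val, sc_val, sub_eq_zero.1 h0]
  rfl

include p in
/-- elements with scalar `r`-th power have `p'`-order -/
lemma coprime_of_pow_sc (hr : r.Prime) (hrp : r ≠ p) (g : GL (Fin n) F) (c : Fˣ)
    (hg : g ^ r = sc c) : (orderOf g).Coprime p := by
  obtain ⟨m, hpm, hcard⟩ := FiniteField.card F p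
  have h1 : g ^ (r * (Fintype.card F - 1)) = 1 := by
    rw [pow_mul, hg, sc_pow]
    have hc : c ^ (Fintype.card F - 1) = 1 := by
      apply Units.ext
      rw [Units.val_pow_eq_pow_val, Units.val_one]
      exact FiniteField.pow_card_sub_one_eq_one _ c.ne_zero
    rw [hc, sc_one]
  have h2 := orderOf_dvd_of_pow_eq_one h1
  apply Nat.Coprime.coprime_dvd_left h2
  apply Nat.Coprime.mul_left
  · exact (Nat.coprime_primes hr (Fact.out : p.Prime)).2 hrp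
  · rw [hcard]
    exact coprime_pow_sub_one p m m.pos

include p in
theorem isConj_nonsplit_r (hr : r.Prime) (hrp : r ≠ p) (g g' : GL (Fin n) F) (ν : Fˣ)
    (hν : ∀ c : Fˣ, c ^ r ≠ ν) (hg : g ^ r = sc ν) (hg' : g' ^ r = sc ν) : IsConj g g' := by
  obtain ⟨a, ha, hc⟩ := charpoly_nonsplit_r hr g ν hν hg
  obtain ⟨a', ha', hc'⟩ := charpoly_nonsplit_r hr g' ν hν hg'
  apply gl_isConj p _ _ (coprime_of_pow_sc p hr hrp g ν hg) (coprime_of_pow_sc p hr hrp g' ν hg')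
  rw [hc, hc']
  congr 1
  have : r * a = r * a' := by rw [← ha, ← ha']
  exact Nat.eq_of_mul_eq_mul_left hr.pos this

/-- a generator of the multiplicative group -/
lemma exists_gen : ∃ γ : Fˣ, (∀ x : Fˣ, ∃ m : ℕ, x = γ ^ m) ∧
    orderOf γ = Fintype.card F - 1 := by
  classical
  obtain ⟨γ, hγ⟩ := IsCyclic.exists_generator (α := Fˣ)
  refine ⟨γ, ?_, ?_⟩
  · intro x
    have h1 := hγ x
    rw [← mem_powers_iff_mem_zpowers, Submonoid.mem_powers_iff] at h1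
    obtain ⟨m, hm⟩ := h1
    exact ⟨m, hm.symm⟩
  · rw [orderOf_eq_card_of_forall_mem_zpowers hγ, Nat.card_eq_fintype_card, Fintype.card_units]

lemma modEq_of_pow {γ : Fˣ} (hgen : ∀ x : Fˣ, ∃ m : ℕ, x = γ ^ m)
    (hγ : orderOf γ = Fintype.card F - 1) (hrq : r ∣ Fintype.card F - 1) (k l : ℕ) (c : Fˣ)
    (h : γ ^ l = γ ^ k * c ^ r) : l ≡ k [MOD r] := by
  obtain ⟨m, rfl⟩ := hgen c
  rw [← pow_mul, ← pow_add, pow_eq_pow_iff_modEq, hγ] at h
  have h2 : l ≡ k + m * r [MOD r] := h.of_dvd hrq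
  have h3 : k + m * r ≡ k [MOD r] := by
    unfold Nat.ModEq
    rw [Nat.add_mul_mod_self_right]
  exact h2.trans h3

lemma not_pow_of_not_dvd {γ : Fˣ} (hgen : ∀ x : Fˣ, ∃ m : ℕ, x = γ ^ m)
    (hγ : orderOf γ = Fintype.card F - 1) (hrq : r ∣ Fintype.card F - 1) (k : ℕ)
    (hk : ¬ r ∣ k) (c : Fˣ) : c ^ r ≠ γ ^ k := by
  intro h
  have h1 := modEq_of_pow hgen hγ hrq 0 k c (by rw [pow_zero, one_mul, h])
  exact hk ((Nat.modEq_zero_iff_dvd).1 h1)

/-- `r`-th power of a conjugate times a scalar -/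
lemma conj_sc_pow (g u : GL (Fin n) F) (c : Fˣ) (k : ℕ) :
    (u * g * u⁻¹ * sc c) ^ k = u * g ^ k * u⁻¹ * sc (c ^ k) := by
  rw [← sc_comm, sc_mul_pow, conj_pow, sc_comm]

end nonsplit

end Cfsg.Agent.Lib.Helper4.PGLr
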