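import Cfsg.Agent.Lib.Helper4.PGLr3

/-!
# Elements of prime order `r ∣ q - 1` in `PGL_n(q)`: the class count
-/

namespace Cfsg.Agent.Lib.Helper4.PGLr

open Polynomial Matrix Cfsg.Agent.Lib.Helper4.SemiMod Cfsg.Agent.Lib.Helper4.PGLInvol
  Cfsg.Agent.Lib.Helper4.PrimeOrd

variable {F : Type*} [Field F] [Fintype F] {n r : ℕ}

lemma count_arith (r Cc T O e : ℕ) (hr : 2 ≤ r) (he : e = 0 ∨ e = 1) (h1 : T + r = Cc)
    (h2 : O * r = T + (r - 1) * e) :
    O + (r - 1) * e = (Cc - r - e) / r + r * e := by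
  have hr0 : 0 < r := by omega
  rcases he with rfl | rfl
  · rw [mul_zero, add_zero] at h2
    rw [mul_zero, mul_zero, add_zero, add_zero, Nat.sub_zero, ← h1, Nat.add_sub_cancel, ← h2,
      Nat.mul_div_cancel _ hr0]
  · rw [mul_one] at h2
    rw [mul_one, mul_one]
    have hO : 1 ≤ O := by
      by_contra h
      have : O = 0 := by omega
      rw [this, zero_mul] at h2
      omega
    obtain ⟨O', rfl⟩ : ∃ O', O = O' + 1 := ⟨O - 1, by omega⟩
    have h3 : Cc - r - 1 = O' * r := by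
      have : (O' + 1) * r = O' * r + r := by ring
      omega
    rw [h3, Nat.mul_div_cancel _ hr0]
    omega

/-- **Number of classes of elements of prime order `r ∣ q - 1` of `PGL_n(q)`.** -/
theorem card_classes_r (hn : 2 ≤ n) (hr : r.Prime) (hrq : r ∣ Fintype.card F - 1) :
    Nat.card {C : ConjClasses (PGL n F) // ∃ g : PGL n F, ConjClasses.mk g = C ∧ orderOf g = r} =
      (Nat.choose (n + r - 1) (r - 1) - r - (if r ∣ n then 1 else 0)) / r +
        r * (if r ∣ n then 1 else 0) := by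
  classical
  haveI : Fact r.Prime := ⟨hr⟩
  have hn0 : 0 < n := by omega
  -- the characteristic
  obtain ⟨p, hpc⟩ := CharP.exists F
  haveI := hpc
  haveI : Fact p.Prime := ⟨CharP.char_is_prime F p⟩
  obtain ⟨m, hpm, hcard⟩ := FiniteField.card F p
  have hrp : r ≠ p := by
    rintro rfl
    have h1 : r ∣ Fintype.card F := by rw [hcard]; exact dvd_pow_self r m.pos.ne'
    have h2 : 1 ≤ Fintype.card F := Fintype.card_pos
    have h3 := Nat.dvd_sub h1 hrq
    have h4 : Fintype.card F - (Fintype.card F - 1) = 1 := by omega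
    rw [h4] at h3
    exact hr.one_lt.ne' (Nat.dvd_one.1 h3)
  -- root of unity
  obtain ⟨ζ, hζ⟩ : ∃ ζ : Fˣ, orderOf ζ = r := by
    apply exists_prime_orderOf_dvd_card r
    rw [Fintype.card_units]
    exact hrq
  have hζ1 := pow_r_of_order hζ
  -- generator
  obtain ⟨γ, hgen, hγ⟩ := exists_gen (F := F)
  -- split representatives
  have hex : ∀ a : Tup n r, ∃ g : GL (Fin n) F,
      (g : Matrix (Fin n) (Fin n) F).charpoly = Pa ζ a.1 ∧ g ^ r = 1 :=
    fun a => exists_rep p hζ a.1 a.2.1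
  choose gs hgs_cp hgs_pow using hex
  have hgs_nc : ∀ a : Tup n r, gs a ∉ Subgroup.center (GL (Fin n) F) := by
    intro a hmem
    rw [mem_center_split_iff p hζ hrp hn0 (gs a) (hgs_pow a) a.1 a.2.1 (hgs_cp a)] at hmem
    obtain ⟨j, hj⟩ := hmem
    exact a.2.2 j hj
  -- nonsplit representatives
  have hex2 : ∃ e : ℕ → GL (Fin n) F, r ∣ n → ∀ k, e k ^ r = sc (γ ^ k) := by
    by_cases hd : r ∣ n
    · obtain ⟨a, ha⟩ := hd
      have : ∀ k : ℕ, ∃ e : GL (Fin n) F, e ^ r = sc (γ ^ k) :=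
        fun k => exists_nonsplit_r p hr (γ ^ k) a ha
      choose e he using this
      exact ⟨e, fun _ => he⟩
    · exact ⟨fun _ => 1, fun h => absurd h hd⟩
  obtain ⟨e, he⟩ := hex2
  have hnp : ∀ k, 1 ≤ k → k < r → ∀ c : Fˣ, c ^ r ≠ γ ^ k := by
    intro k hk1 hk2
    apply not_pow_of_not_dvd hgen hγ hrq
    intro hd
    have := Nat.le_of_dvd (by omega) hd
    omega
  have he_nc : r ∣ n → ∀ k, 1 ≤ k → k < r → e k ∉ Subgroup.center (GL (Fin n) F) := by
    intro hd k hk1 hk2 hmem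
    obtain ⟨c, hc⟩ := exists_sc_of_mem_center hn0 _ hmem
    have := he hd k
    rw [hc, sc_pow] at this
    exact hnp k hk1 hk2 c (sc_injective hn0 this)
  -- index type
  obtain ⟨M, hM⟩ : ∃ M : ℕ, M = (r - 1) * (if r ∣ n then 1 else 0) := ⟨_, rfl⟩
  have hMd : ∀ k : Fin M, r ∣ n ∧ (k : ℕ) + 1 < r := by
    intro k
    have hk : (k : ℕ) < (r - 1) * (if r ∣ n then 1 else 0) := lt_of_lt_of_eq k.2 hM
    by_cases hd : r ∣ n
    · rw [if_pos hd, mul_one] at hk
      exact ⟨hd, by omega⟩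
    · rw [if_neg hd, mul_zero] at hk
      omega
  let rep : (AddAction.orbitRel.Quotient (ZMod r) (Tup n r)) ⊕ Fin M → PGL n F :=
    Sum.elim (fun ω => mkP (gs (Quotient.out ω))) (fun k => mkP (e ((k : ℕ) + 1)))
  have hsplit_nonsplit : ∀ (a : Tup n r) (k : Fin M), ¬ IsConj (mkP (gs a)) (mkP (e ((k : ℕ) + 1))) := by
    intro a k hconj
    obtain ⟨hd, hk⟩ := hMd k
    rw [isConj_mk_iff] at hconj
    obtain ⟨u, z, hz, hzl⟩ := hconj
    obtain ⟨c, rfl⟩ := exists_sc_of_mem_center hn0 z hz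
    have h1 := he hd ((k : ℕ) + 1)
    rw [hzl, conj_sc_pow, hgs_pow, mul_one, mul_inv_cancel, one_mul] at h1
    exact hnp _ (by omega) hk c (sc_injective hn0 h1)
  have key := card_classes_of_reps' (fun g : PGL n F => orderOf g = r) rep ?_ ?_ ?_
  · rw [key, Nat.card_sum, Nat.card_fin, hM]
    apply count_arith r _ (Nat.card (Tup n r)) _ _ hr.two_le (by split_ifs <;> simp)
      (card_tup (by omega)) (card_orbits (by omega))
  · -- orders
    rintro (ω | k)
    · show orderOf (mkP (gs (Quotient.out ω))) = r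
      rw [orderOf_mk_eq_prime_iff hr]
      exact ⟨by rw [hgs_pow]; exact Subgroup.one_mem _, hgs_nc _⟩
    · show orderOf (mkP (e ((k : ℕ) + 1))) = r
      obtain ⟨hd, hk⟩ := hMd k
      rw [orderOf_mk_eq_prime_iff hr]
      exact ⟨by rw [he hd]; exact sc_mem_center _, he_nc hd _ (by omega) hk⟩
  · -- injectivity
    rintro (ω | k) (ω' | k') hconj
    · have hconj' : IsConj (mkP (gs (Quotient.out ω))) (mkP (gs (Quotient.out ω'))) := hconj
      rw [isConj_mk_split_iff p hζ hrp hn0 _ _ (hgs_pow _) (hgs_pow _) _ _ (Quotient.out ω).2.1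
        (hgs_cp _) (hgs_cp _)] at hconj'
      obtain ⟨j, hj⟩ := hconj'
      congr 1
      rw [← Quotient.out_eq ω, ← Quotient.out_eq ω']
      apply Quotient.sound
      show AddAction.orbitRel (ZMod r) (Tup n r) _ _
      rw [AddAction.orbitRel_apply, AddAction.mem_orbit_iff]
      exact ⟨-j, Subtype.ext (by
        rw [vadd_val, hj, ← rot_add, neg_add_cancel, rot_zero])⟩
    · exact absurd hconj (hsplit_nonsplit _ _)
    · exact absurd hconj.symm (hsplit_nonsplit _ _)
    · have hconj' : IsConj (mkP (e ((k : ℕ) + 1))) (mkP (e ((k' : ℕ) + 1))) := hconj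
      obtain ⟨hd, hk⟩ := hMd k
      obtain ⟨-, hk'⟩ := hMd k'
      rw [isConj_mk_iff] at hconj'
      obtain ⟨u, z, hz, hzl⟩ := hconj'
      obtain ⟨c, rfl⟩ := exists_sc_of_mem_center hn0 z hz
      have h1 := he hd ((k' : ℕ) + 1)
      rw [hzl, conj_sc_pow, he hd, ← sc_comm (γ ^ ((k : ℕ) + 1)) u, mul_assoc (sc _) u,
        mul_inv_cancel, mul_one, ← sc_mul] at h1
      have h2 := modEq_of_pow hgen hγ hrq _ _ c (sc_injective hn0 h1).symm
      have h3 : (k' : ℕ) + 1 = (k : ℕ) + 1 := by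
        have := Nat.ModEq.eq_of_lt_of_lt h2 hk' hk
        exact this
      congr 1
      apply Fin.ext
      omega
  · -- covering
    intro x hx
    obtain ⟨g, rfl⟩ := QuotientGroup.mk_surjective x
    rw [orderOf_mk_eq_prime_iff hr] at hx
    obtain ⟨hpw, hnc⟩ := hx
    obtain ⟨lam, hlam⟩ := exists_sc_of_mem_center hn0 _ hpw
    by_cases hs : ∃ μ : Fˣ, μ ^ r = lam
    · obtain ⟨μ, hμ⟩ := hs
      obtain ⟨h, hh⟩ : ∃ h, h = sc μ⁻¹ * g := ⟨_, rfl⟩
      have hhr : h ^ r = 1 := by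
        rw [hh, sc_mul_pow, hlam, ← sc_mul, ← hμ, inv_pow, inv_mul_cancel, sc_one]
      have hhnc : h ∉ Subgroup.center (GL (Fin n) F) := by
        intro hm
        apply hnc
        have : g = sc μ * h := by rw [hh, ← mul_assoc, ← sc_mul, mul_inv_cancel, sc_one, one_mul]
        rw [this]
        exact Subgroup.mul_mem _ (sc_mem_center _) hm
      obtain ⟨a, ha, hcp⟩ := charpoly_of_pow_eq_one hζ h hhr
      have hat : ∀ j, a j ≠ n := by
        intro j hj
        exact hhnc ((mem_center_split_iff p hζ hrp hn0 h hhr a ha hcp).2 ⟨j, hj⟩)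
      let t : Tup n r := ⟨a, ha, hat⟩
      refine ⟨Sum.inl (Quotient.mk (AddAction.orbitRel (ZMod r) (Tup n r)) t), ?_⟩
      show IsConj (mkP g) (mkP (gs (Quotient.out (Quotient.mk (AddAction.orbitRel (ZMod r) (Tup n r)) t))))
      have h1 : AddAction.orbitRel (ZMod r) (Tup n r) (Quotient.out (Quotient.mk (AddAction.orbitRel (ZMod r) (Tup n r)) t)) t :=
        Quotient.mk_out t
      rw [AddAction.orbitRel_apply, AddAction.mem_orbit_iff] at h1
      obtain ⟨j, hj⟩ := h1
      have h2 : IsConj (mkP h) (mkP (gs (Quotient.out (Quotient.mk (AddAction.orbitRel (ZMod r) (Tup n r)) t)))) := by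
        rw [isConj_mk_split_iff p hζ hrp hn0 _ _ hhr (hgs_pow _) a _ ha hcp (hgs_cp _)]
        exact ⟨j, by rw [← hj]; rfl⟩
      have e2 : mkP h = mkP g := by rw [hh]; exact mk_sc_mul _ _
      rw [← e2]
      exact h2
    · push Not at hs
      obtain ⟨m', hm'⟩ := hgen lam
      obtain ⟨g', hg'⟩ : ∃ g', g' = sc (γ ^ (m' / r))⁻¹ * g := ⟨_, rfl⟩
      have hgr : g' ^ r = sc (γ ^ (m' % r)) := by
        rw [hg', sc_mul_pow, hlam, ← sc_mul, hm']
        congr 1
        rw [inv_pow, ← pow_mul, inv_mul_eq_iff_eq_mul, ← pow_add, mul_comm, Nat.div_add_mod]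
      have hmr : m' % r ≠ 0 := by
        intro h0
        apply hs (γ ^ (m' / r))
        rw [hm', ← pow_mul, mul_comm]
        congr 1
        have := Nat.div_add_mod m' r
        omega
      have hlt : m' % r < r := Nat.mod_lt _ hr.pos
      obtain ⟨a, ha, -⟩ := charpoly_nonsplit_r hr g' (γ ^ (m' % r))
        (hnp _ (by omega) hlt) hgr
      have hd : r ∣ n := ⟨a, ha⟩
      have hkM : m' % r - 1 < M := by
        rw [hM, if_pos hd, mul_one]
        omega
      refine ⟨Sum.inr ⟨m' % r - 1, hkM⟩, ?_⟩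
      show IsConj (mkP g) (mkP (e (m' % r - 1 + 1)))
      have e1 : m' % r - 1 + 1 = m' % r := by omega
      rw [e1]
      have e2 : mkP g' = mkP g := by rw [hg']; exact mk_sc_mul _ _
      rw [← e2]
      exact (QuotientGroup.mk' _).map_isConj
        (isConj_nonsplit_r p hr hrp g' _ _ (hnp _ (by omega) hlt) hgr (he hd _))

end Cfsg.Agent.Lib.Helper4.PGLr
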