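import Mathlib
import Cfsg.Agent.Lib.Helper8.PRDefs
import Cfsg.Agent.Lib.Helper6.PRB2

/-! S4033 farm (helper8), piece B3b `card_BB`. -/

set_option autoImplicit false

namespace Cfsg.Agent.Lib.Helper8.PR

variable {G : Type*} [Group G]

/-- B3b -/
theorem card_BB [Finite G] {p m : ℕ} (H : Hyp G p m) (h2 : TwoRho G p) {g : G} (hg : PReg p g)
    (hgz : g ∉ Subgroup.center G) :
    (Nat.card (BB p g)).Coprime p ∧
      ∃ k : ℕ, Nat.card (Subgroup.centralizer ({g} : Set G)) = p ^ k * Nat.card (BB p g) := by
  have hp := H.hp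
  haveI : Fact p.Prime := ⟨hp⟩
  have hBC : BB p g ≤ Subgroup.centralizer ({g} : Set G) := fun b hb => hb.1
  constructor
  · rw [Nat.coprime_comm, Nat.Prime.coprime_iff_not_dvd hp]
    intro hdvd
    obtain ⟨x, hx⟩ := exists_prime_orderOf_dvd_card' p hdvd
    have hx' : orderOf (x : G) = p := by rw [Subgroup.orderOf_coe]; exact hx
    have hreg : PReg p (x : G) := x.2.2.2
    unfold PReg at hreg
    rw [hx'] at hreg
    exact hp.one_lt.ne' ((Nat.coprime_self p).mp hreg)
  · have hdvd : Nat.card (BB p g) ∣ Nat.card (Subgroup.centralizer ({g} : Set G)) :=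
      Subgroup.card_dvd_of_le hBC
    obtain ⟨n, hn⟩ := hdvd
    have hC0 : Nat.card (Subgroup.centralizer ({g} : Set G)) ≠ 0 := Nat.card_pos.ne'
    have hn0 : n ≠ 0 := by
      rintro rfl
      rw [mul_zero] at hn
      exact hC0 hn
    have hpow : n = p ^ n.primeFactorsList.length := by
      apply Nat.eq_prime_pow_of_unique_prime_dvd hn0
      intro r hr hrn
      by_contra hrp
      haveI : Fact r.Prime := ⟨hr⟩
      obtain R : Sylow r (Subgroup.centralizer ({g} : Set G)) := default
      have hRB : (R : Subgroup (Subgroup.centralizer ({g} : Set G))).map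
          (Subgroup.centralizer ({g} : Set G)).subtype ≤ BB p g := by
        rintro _ ⟨c, hc, rfl⟩
        rw [mem_BB_iff H h2 hg hgz]
        refine ⟨c.2, ?_⟩
        apply h6_preg_of_isPow hp hr hrp
        obtain ⟨k, hk⟩ := (IsPGroup.iff_orderOf.mp R.isPGroup') ⟨c, hc⟩
        refine ⟨k, ?_⟩
        rw [← hk]
        simp
      have hcard : Nat.card ((R : Subgroup (Subgroup.centralizer ({g} : Set G))).map
          (Subgroup.centralizer ({g} : Set G)).subtype) =
          r ^ (Nat.card (Subgroup.centralizer ({g} : Set G))).factorization r := by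
        rw [Subgroup.card_map_of_injective (Subgroup.subtype_injective _)]
        exact R.card_eq_multiplicity
      have h1 : r ^ (Nat.card (Subgroup.centralizer ({g} : Set G))).factorization r ∣
          Nat.card (BB p g) := by
        rw [← hcard]; exact Subgroup.card_dvd_of_le hRB
      have h3 : r ^ ((Nat.card (Subgroup.centralizer ({g} : Set G))).factorization r + 1) ∣
          Nat.card (Subgroup.centralizer ({g} : Set G)) := by
        conv_rhs => rw [hn]
        rw [pow_succ]
        exact mul_dvd_mul h1 hrn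
      exact Nat.pow_succ_factorization_not_dvd hC0 hr h3
    refine ⟨n.primeFactorsList.length, ?_⟩
    rw [hn, mul_comm, ← hpow]

end Cfsg.Agent.Lib.Helper8.PR
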