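import Mathlib
import Cfsg.Agent.Lib.Helper8.PRDefs
import Cfsg.Agent.Lib.Helper6.PRA4
import Cfsg.Agent.Lib.Helper9.PRB3a
import Cfsg.Agent.Lib.Helper6.PRB2

/-! S4033 farm (helper8), piece B5 `sylow_le_normalizer`. -/

set_option autoImplicit false

namespace Cfsg.Agent.Lib.Helper8.PR

variable {G : Type*} [Group G]

theorem h4_isPow_of_mem_sylow {t : ℕ} [Fact t.Prime] (T : Sylow t G) {y : G}
    (hy : y ∈ (T : Subgroup G)) : IsPow t y := by
  obtain ⟨k, hk⟩ := (IsPGroup.iff_orderOf.mp T.isPGroup') ⟨y, hy⟩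
  refine ⟨k, ?_⟩
  rw [← hk]
  exact (Subgroup.orderOf_mk y hy).symm

/-- B5 -/
theorem sylow_le_normalizer [Finite G] {p m : ℕ} (H : Hyp G p m) (h2 : TwoRho G p) {t : ℕ}
    [Fact t.Prime] (htp : t ≠ p) (htm : t ∣ m) (T : Sylow t G) :
    ∃ y ∈ (T : Subgroup G), y ∉ Subgroup.center G ∧
      (T : Subgroup G) ≤ Subgroup.normalizer ((BB p y : Subgroup G) : Set G) := by
  have ht : t.Prime := Fact.out
  have hTnc : ∃ j ∈ (T : Subgroup G), j ∉ Subgroup.center G := by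
    by_contra hcon
    push Not at hcon
    obtain ⟨q, r, hqr, ⟨hq, hqp, x, hxz, hxq⟩, _⟩ := h2
    have hxp : PReg p x := h6_preg_of_isPow H.hp hq hqp hxq
    have hidx : idx x = m := (H.cls x hxp).resolve_left hxz
    have hTC : (T : Subgroup G) ≤ Subgroup.centralizer ({x} : Set G) := by
      intro c hc
      rw [h9_mem_cent_singleton]
      exact (Subgroup.mem_center_iff.mp (hcon c hc)) x
    have hdvd : (Subgroup.centralizer ({x} : Set G)).index ∣ (T : Subgroup G).index :=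
      Subgroup.index_dvd_of_le hTC
    have hnd : ¬ t ∣ (T : Subgroup G).index := Sylow.not_dvd_index T
    apply hnd
    refine dvd_trans ?_ hdvd
    rw [← hidx] at htm
    exact htm
  obtain ⟨y, hyT, hyz, hval⟩ := exists_valid ht (T : Subgroup G) (T : Subgroup G) T.isPGroup'
    le_rfl (fun g hg j hj => Subgroup.mul_mem _ (Subgroup.mul_mem _ hg hj) (Subgroup.inv_mem _ hg))
    hTnc
  have hyp : PReg p y := h6_preg_of_isPow H.hp ht htp (h4_isPow_of_mem_sylow T hyT)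
  refine ⟨y, hyT, hyz, ?_⟩
  intro c hc
  rw [Subgroup.mem_normalizer_iff_map_conj_eq]
  -- z = y⁻¹ c y c⁻¹
  have hzc : y⁻¹ * c * y * c⁻¹ ∈ Subgroup.center G := by
    have := hval c⁻¹ (Subgroup.inv_mem _ hc)
    simpa using this
  have hzT : y⁻¹ * c * y * c⁻¹ ∈ (T : Subgroup G) :=
    Subgroup.mul_mem _ (Subgroup.mul_mem _ (Subgroup.mul_mem _ (Subgroup.inv_mem _ hyT) hc) hyT)
      (Subgroup.inv_mem _ hc)
  have hzp : PReg p (y⁻¹ * c * y * c⁻¹) :=
    h6_preg_of_isPow H.hp ht htp (h4_isPow_of_mem_sylow T hzT)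
  have hzB : y⁻¹ * c * y * c⁻¹ ∈ BB p y := Zp_le_BB p y (mem_Zp.mpr ⟨hzc, hzp⟩)
  have hyB : y ∈ BB p y := self_mem_BB hyp
  have he : c * y * c⁻¹ = y * (y⁻¹ * c * y * c⁻¹) := by group
  have hcB : c * y * c⁻¹ ∈ BB p y := by
    rw [he]; exact Subgroup.mul_mem _ hyB hzB
  have hcz : c * y * c⁻¹ ∉ Subgroup.center G := by
    intro hcen
    apply hyz
    have : y = (c * y * c⁻¹) * (y⁻¹ * c * y * c⁻¹)⁻¹ := by group
    rw [this]
    exact Subgroup.mul_mem _ hcen (Subgroup.inv_mem _ hzc)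
  have h1 := BB_eq_of_mem H hyp hyz hcB hcz
  have h3 := BB_conj p y c
  rw [h1] at h3
  exact h3.symm

end Cfsg.Agent.Lib.Helper8.PR
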