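import Mathlib
import Cfsg.Agent.Lib.Helper1.FrobeniusTheorem

/-! S4033 piece A1 (`EPP`) of helper8's farm (helper4). -/

set_option autoImplicit false
set_option linter.unusedVariables false
set_option linter.unusedSectionVars false
set_option linter.style.longLine false
set_option linter.style.haveILetI false

namespace Cfsg.Agent.Lib.Helper8.PR

open scoped Pointwise

/-- strict growth of the intersection with a Sylow subgroup containing the normalizer -/
theorem h4_inf_lt {X : Type*} [Group X] [Finite X] {r : ℕ} [Fact r.Prime]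
    (P1 P2 P3 : Sylow r X) (hne : P1 ≠ P2)
    (hN : Subgroup.normalizer (((P1 : Subgroup X) ⊓ (P2 : Subgroup X) : Subgroup X) : Set X) ≤ (P3 : Subgroup X)) :
    ((P1 : Subgroup X) ⊓ (P2 : Subgroup X)) < (P3 : Subgroup X) ⊓ (P1 : Subgroup X) := by
  set D : Subgroup X := (P1 : Subgroup X) ⊓ (P2 : Subgroup X) with hD
  have hDP1 : D ≤ (P1 : Subgroup X) := inf_le_left
  have hDN : D ≤ Subgroup.normalizer (D : Set X) := Subgroup.le_normalizer
  -- `D.subgroupOf P1` is a proper subgroup of the `r`-group `P1`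
  have hnil : Group.IsNilpotent (P1 : Subgroup X) := P1.isPGroup'.isNilpotent
  have hnc := @normalizerCondition_of_isNilpotent _ _ hnil
  have hlt : D.subgroupOf (P1 : Subgroup X) < ⊤ := by
    rw [lt_top_iff_ne_top]
    intro htop
    rw [Subgroup.subgroupOf_eq_top] at htop
    have hle : (P1 : Subgroup X) ≤ (P2 : Subgroup X) := le_trans htop inf_le_right
    exact hne (Sylow.ext (P1.is_maximal' P2.isPGroup' hle).symm)
  have hgrow := hnc _ hlt
  obtain ⟨y, hyN, hyD⟩ := SetLike.exists_of_lt hgrow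
  have hyP1 : (y : X) ∈ (P1 : Subgroup X) := y.2
  have hyD' : (y : X) ∉ D := fun h => hyD (Subgroup.mem_subgroupOf.mpr h)
  have hyN' : (y : X) ∈ Subgroup.normalizer (D : Set X) := by
    rw [Subgroup.mem_normalizer_iff] at hyN ⊢
    intro d
    constructor
    · intro hd
      have h1 := (hyN ⟨d, hDP1 hd⟩).mp (Subgroup.mem_subgroupOf.mpr hd)
      exact Subgroup.mem_subgroupOf.mp h1
    · intro hd
      have hdP1 : d ∈ (P1 : Subgroup X) := by
        have h1 : (y : X) * d * (y : X)⁻¹ ∈ (P1 : Subgroup X) := hDP1 hd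
        have h2 : d = (y : X)⁻¹ * ((y : X) * d * (y : X)⁻¹) * (y : X) := by group
        rw [h2]
        exact Subgroup.mul_mem _ (Subgroup.mul_mem _ (Subgroup.inv_mem _ hyP1) h1) hyP1
      have h1 := (hyN ⟨d, hdP1⟩).mpr (Subgroup.mem_subgroupOf.mpr hd)
      exact Subgroup.mem_subgroupOf.mp h1
  refine lt_of_le_of_ne (le_inf (le_trans hDN hN) hDP1) ?_
  intro heq
  apply hyD'
  rw [heq]
  exact ⟨hN hyN', hyP1⟩

/-- the Sylow `r`-subgroups are pairwise disjoint if normalizers of nontrivial `r`-subgroups are `r`-groups -/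
theorem h4_sylow_TI {X : Type*} [Group X] [Finite X] {r : ℕ} [Fact r.Prime]
    (hN : ∀ D : Subgroup X, D ≠ ⊥ → IsPGroup r D → IsPGroup r (Subgroup.normalizer (D : Set X))) :
    ∀ (n : ℕ) (P1 P2 : Sylow r X), P1 ≠ P2 →
      Nat.card X - Nat.card ↥((P1 : Subgroup X) ⊓ (P2 : Subgroup X)) = n →
      (P1 : Subgroup X) ⊓ (P2 : Subgroup X) = ⊥ := by
  intro n
  induction n using Nat.strong_induction_on with
  | _ n ih =>
  intro P1 P2 hne hn
  by_contra hD
  have hDp : IsPGroup r ↥((P1 : Subgroup X) ⊓ (P2 : Subgroup X)) :=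
    P1.isPGroup'.to_le inf_le_left
  obtain ⟨P3, hP3⟩ := (hN _ hD hDp).exists_le_sylow
  have hcard : ∀ A B : Subgroup X, A < B → Nat.card A < Nat.card B := by
    intro A B hAB
    change Nat.card ((A : Set X)) < Nat.card ((B : Set X))
    rw [Nat.card_coe_set_eq, Nat.card_coe_set_eq]
    exact Set.ncard_lt_ncard (SetLike.coe_ssubset_coe.mpr hAB) (Set.toFinite _)
  have hle : ∀ A : Subgroup X, Nat.card A ≤ Nat.card X := fun A => Subgroup.card_le_card_group A
  -- `P3 = P1`
  have h31 : P3 = P1 := by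
    by_contra h31
    have hlt := h4_inf_lt P1 P2 P3 hne hP3
    have hc := hcard _ _ hlt
    have hbot := ih (Nat.card X - Nat.card ↥((P3 : Subgroup X) ⊓ (P1 : Subgroup X))) (by
      have := hle ((P3 : Subgroup X) ⊓ (P1 : Subgroup X))
      omega) P3 P1 h31 rfl
    rw [hbot] at hlt
    exact hD (le_bot_iff.mp hlt.le)
  have h32 : P3 = P2 := by
    by_contra h32
    have hP3' : Subgroup.normalizer ((((P2 : Subgroup X) ⊓ (P1 : Subgroup X) : Subgroup X)) : Set X) ≤
        (P3 : Subgroup X) := by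
      rw [inf_comm]; exact hP3
    have hlt := h4_inf_lt P2 P1 P3 (Ne.symm hne) hP3'
    have hc := hcard _ _ hlt
    rw [inf_comm (P2 : Subgroup X)] at hc hlt
    have hbot := ih (Nat.card X - Nat.card ↥((P3 : Subgroup X) ⊓ (P2 : Subgroup X))) (by
      have := hle ((P3 : Subgroup X) ⊓ (P2 : Subgroup X))
      omega) P3 P2 h32 rfl
    rw [hbot] at hlt
    exact hD (le_bot_iff.mp hlt.le)
  exact hne (h31.symm.trans h32)

/-- the general lemma: a normal complement to a Sylow subgroup -/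
theorem h4_L {X : Type*} [Group X] [Finite X] {r : ℕ} (hr : r.Prime)
    (hN : ∀ D : Subgroup X, D ≠ ⊥ → IsPGroup r D → IsPGroup r (Subgroup.normalizer (D : Set X)))
    (hdvd : r ∣ Nat.card X) (hnp : ¬ IsPGroup r X) :
    ∃ N : Subgroup X, N.Normal ∧ N ≠ ⊥ ∧ ¬ r ∣ Nat.card N ∧
      ∀ q : ℕ, q.Prime → q ≠ r → q ∣ Nat.card X → q ∣ Nat.card N := by
  haveI : Fact r.Prime := ⟨hr⟩
  obtain ⟨R⟩ : Nonempty (Sylow r X) := inferInstance
  have hRcard := R.card_eq_multiplicity
  have hRbot : (R : Subgroup X) ≠ ⊥ := by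
    intro h
    have h1 : Nat.card (R : Subgroup X) = 1 := by rw [h]; exact Subgroup.card_bot
    rw [hRcard] at h1
    have hpos : 0 < (Nat.card X).factorization r :=
      hr.factorization_pos_of_dvd Nat.card_pos.ne' hdvd
    have : 1 < r ^ (Nat.card X).factorization r := Nat.one_lt_pow hpos.ne' hr.one_lt
    omega
  have hRtop : (R : Subgroup X) ≠ ⊤ := by
    intro h
    apply hnp
    intro x
    have hx : x ∈ (R : Subgroup X) := by rw [h]; trivial
    obtain ⟨k, hk⟩ := R.isPGroup' ⟨x, hx⟩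
    exact ⟨k, by simpa [Subtype.ext_iff] using hk⟩
  have hNR : Subgroup.normalizer ((R : Subgroup X) : Set X) = (R : Subgroup X) :=
    R.is_maximal' (hN _ hRbot R.isPGroup') Subgroup.le_normalizer
  have hTI : ∀ g : X, g ∉ (R : Subgroup X) →
      (R : Subgroup X) ⊓ (MulAut.conj g • (R : Subgroup X)) = ⊥ := by
    intro g hg
    have hne : g • R ≠ R := by
      intro h
      have h' : g ∈ Subgroup.normalizer ((R : Subgroup X) : Set X) :=
        Sylow.smul_eq_iff_mem_normalizer.mp h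
      rw [hNR] at h'
      exact hg h'
    have h := h4_sylow_TI hN _ R (g • R) (Ne.symm hne) rfl
    rwa [Sylow.coe_subgroup_smul] at h
  obtain ⟨N, _, hNn, hcomp⟩ := Cfsg.Agent.Lib.Helper1.frobenius_theorem (R : Subgroup X)
    ⟨hRbot, hRtop, hTI⟩
  have hmul := hcomp.card_mul_card
  obtain ⟨k, hk⟩ : ∃ k, k = (Nat.card X).factorization r := ⟨_, rfl⟩
  rw [← hk] at hRcard
  rw [hRcard] at hmul
  have hNr : ¬ r ∣ Nat.card N := by
    intro hd
    obtain ⟨t, ht⟩ := hd
    have h1 : r ^ (k + 1) ∣ Nat.card X := ⟨t, by rw [← hmul, ht, pow_succ]; ring⟩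
    rw [hk] at h1
    exact Nat.pow_succ_factorization_not_dvd Nat.card_pos.ne' hr h1
  refine ⟨N, hNn, ?_, hNr, ?_⟩
  · intro hbot
    rw [hbot, Subgroup.card_bot, one_mul, ← hRcard] at hmul
    exact hRtop (Subgroup.eq_top_of_card_eq (R : Subgroup X) hmul)
  · intro q hq hqr hqd
    rw [← hmul] at hqd
    rcases (Nat.Prime.dvd_mul hq).mp hqd with h | h
    · exact h
    · exact absurd ((Nat.prime_dvd_prime_iff_eq hq hr).mp (hq.dvd_of_dvd_pow h)) hqr

theorem EPP {E : Type*} [Group E] [Finite E] {p : ℕ} (hp : p.Prime)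
    (hNN : ∀ r : ℕ, r.Prime → r ≠ p → ∀ x : E, orderOf x = r → ∀ Y : Subgroup E, Y ≠ ⊥ →
      ¬ r ∣ Nat.card Y → ¬ (∀ y ∈ Y, x * y * x⁻¹ ∈ Y)) :
    ∀ r₁ r₂ : ℕ, r₁.Prime → r₂.Prime → r₁ ≠ p → r₂ ≠ p → r₁ ∣ Nat.card E → r₂ ∣ Nat.card E →
      r₁ = r₂ := by
  intro r₁ r₂ hr₁ hr₂ h1p h2p hd1 hd2
  haveI : Fact p.Prime := ⟨hp⟩
  -- a `t`-subgroup normalized by an element of prime order `r ≠ t, p`
  have hkey : ∀ (t : ℕ), t.Prime → ∀ D : Subgroup E, D ≠ ⊥ → IsPGroup t D →
      ∀ r : ℕ, r.Prime → r ≠ p → r ≠ t → ∀ x : E, orderOf x = r →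
      x ∉ Subgroup.normalizer (D : Set E) := by
    intro t ht D hDb hDt r hr hrp hrt x hx hxN
    haveI : Fact t.Prime := ⟨ht⟩
    apply hNN r hr hrp x hx D hDb
    · intro hrd
      obtain ⟨k, hk⟩ := IsPGroup.iff_card.mp hDt
      rw [hk] at hrd
      exact hrt ((Nat.prime_dvd_prime_iff_eq hr ht).mp (hr.dvd_of_dvd_pow hrd))
    · intro y hy
      exact (Subgroup.mem_normalizer_iff.mp hxN y).mp hy
  -- stage 1: a normal `p'`-subgroup `K` carrying all other primes
  obtain ⟨K, hKn, hKp, hKq⟩ : ∃ K : Subgroup E, K.Normal ∧ ¬ p ∣ Nat.card K ∧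
      ∀ q : ℕ, q.Prime → q ≠ p → q ∣ Nat.card E → q ∣ Nat.card K := by
    by_cases hpd : p ∣ Nat.card E
    · by_cases hpg : IsPGroup p E
      · exfalso
        obtain ⟨k, hk⟩ := IsPGroup.iff_card.mp hpg
        rw [hk] at hd1
        exact h1p ((Nat.prime_dvd_prime_iff_eq hr₁ hp).mp (hr₁.dvd_of_dvd_pow hd1))
      · have hN : ∀ D : Subgroup E, D ≠ ⊥ → IsPGroup p D →
            IsPGroup p (Subgroup.normalizer (D : Set E)) := by
          intro D hDb hDp
          rw [IsPGroup.iff_card]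
          -- all prime divisors of the order are `p`
          have hall : ∀ q : ℕ, q.Prime → q ∣ Nat.card (Subgroup.normalizer (D : Set E)) → q = p := by
            intro q hq hqd
            by_contra hqp
            haveI : Fact q.Prime := ⟨hq⟩
            obtain ⟨x, hx⟩ := exists_prime_orderOf_dvd_card' q hqd
            have hx' : orderOf (x : E) = q := by rw [Subgroup.orderOf_coe]; exact hx
            exact hkey p hp D hDb hDp q hq hqp hqp (x : E) hx' x.2
          exact ⟨_, Nat.eq_prime_pow_of_unique_prime_dvd Nat.card_pos.ne' (fun {q} hq hqd => hall q hq hqd)⟩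
        obtain ⟨N, hNn, _, hNp, hNq⟩ := h4_L hp hN hpd hpg
        exact ⟨N, hNn, hNp, hNq⟩
    · refine ⟨⊤, inferInstance, ?_, ?_⟩
      · rwa [Subgroup.card_top]
      · intro q _ _ hqd
        rwa [Subgroup.card_top]
  haveI := hKn
  have hk1 : r₁ ∣ Nat.card K := hKq r₁ hr₁ h1p hd1
  have hk2 : r₂ ∣ Nat.card K := hKq r₂ hr₂ h2p hd2
  -- stage 2: `K` is an `r₁`-group
  have hKr : IsPGroup r₁ K := by
    by_contra hnp
    have hN : ∀ D : Subgroup K, D ≠ ⊥ → IsPGroup r₁ D →
        IsPGroup r₁ (Subgroup.normalizer (D : Set K)) := by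
      intro D hDb hDp
      haveI : Fact r₁.Prime := ⟨hr₁⟩
      rw [IsPGroup.iff_card]
      have hall : ∀ q : ℕ, q.Prime → q ∣ Nat.card (Subgroup.normalizer (D : Set K)) → q = r₁ := by
        intro q hq hqd
        by_contra hqr
        haveI : Fact q.Prime := ⟨hq⟩
        have hqp : q ≠ p := by
          rintro rfl
          exact hKp (dvd_trans hqd (Subgroup.card_subgroup_dvd_card _))
        obtain ⟨x, hx⟩ := exists_prime_orderOf_dvd_card' q hqd
        have hx' : orderOf ((x : K) : E) = q := by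
          rw [Subgroup.orderOf_coe, Subgroup.orderOf_coe]; exact hx
        -- `x` normalizes the image of `D` in `E`
        have hDb' : D.map K.subtype ≠ ⊥ := by
          intro h
          apply hDb
          rwa [Subgroup.map_eq_bot_iff_of_injective _ (Subgroup.subtype_injective K)] at h
        have hDp' : IsPGroup r₁ (D.map K.subtype) :=
          hDp.map K.subtype
        apply hkey r₁ hr₁ (D.map K.subtype) hDb' hDp' q hq hqp hqr ((x : K) : E) hx'
        rw [Subgroup.mem_normalizer_iff]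
        have hxN := Subgroup.mem_normalizer_iff.mp x.2
        intro d
        constructor
        · rintro ⟨d', hd', rfl⟩
          exact ⟨(x : K) * d' * (x : K)⁻¹, (hxN d').mp hd', by simp⟩
        · rintro ⟨e', he', he⟩
          have hdK : d ∈ K := by
            have h2 : d = ((x : K) : E)⁻¹ * (((x : K) : E) * d * ((x : K) : E)⁻¹) * ((x : K) : E) := by
              group
            rw [h2, ← he]
            exact K.mul_mem (K.mul_mem (K.inv_mem (x : K).2) e'.2) (x : K).2
          refine ⟨⟨d, hdK⟩, ?_, rfl⟩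
          apply (hxN ⟨d, hdK⟩).mpr
          have : (x : K) * ⟨d, hdK⟩ * (x : K)⁻¹ = e' := by
            apply Subtype.ext
            simpa using he.symm
          rw [this]; exact he'
      exact ⟨_, Nat.eq_prime_pow_of_unique_prime_dvd Nat.card_pos.ne' (fun {q} hq hqd => hall q hq hqd)⟩
    obtain ⟨K₂, hK₂n, hK₂b, hK₂r, _⟩ := h4_L hr₁ hN hk1 hnp
    haveI := hK₂n
    haveI : Fact r₁.Prime := ⟨hr₁⟩
    obtain ⟨x, hx⟩ := exists_prime_orderOf_dvd_card' r₁ hk1
    have hx' : orderOf (x : E) = r₁ := by rw [Subgroup.orderOf_coe]; exact hx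
    have hb' : K₂.map K.subtype ≠ ⊥ := by
      intro h
      apply hK₂b
      rwa [Subgroup.map_eq_bot_iff_of_injective _ (Subgroup.subtype_injective K)] at h
    apply hNN r₁ hr₁ h1p (x : E) hx' (K₂.map K.subtype) hb'
    · rw [Subgroup.card_map_of_injective (Subgroup.subtype_injective K)]
      exact hK₂r
    · rintro _ ⟨y, hy, rfl⟩
      exact ⟨x * y * x⁻¹, hK₂n.conj_mem y hy x, by simp⟩
  haveI : Fact r₁.Prime := ⟨hr₁⟩
  obtain ⟨k, hk⟩ := IsPGroup.iff_card.mp hKr
  rw [hk] at hk2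
  exact ((Nat.prime_dvd_prime_iff_eq hr₂ hr₁).mp (hr₂.dvd_of_dvd_pow hk2)).symm

end Cfsg.Agent.Lib.Helper8.PR
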