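import Mathlib
import Cfsg.Agent.Lib.Helper8.PRDefs
import Cfsg.Agent.Lib.Helper9.PRB3a
import Cfsg.Agent.Lib.Helper9.PRB8a
import Cfsg.Agent.Lib.Helper4.PREPP

/-! S4033 farm (helper8), piece B8b `one_prime`. -/

set_option autoImplicit false

namespace Cfsg.Agent.Lib.Helper8.PR

variable {G : Type*} [Group G]

/-- the centralizer of `g` is normal in the normalizer of `BB p g` -/
theorem h4_cent_normal_in_normalizer [Finite G] {p m : ℕ} (H : Hyp G p m) {g : G}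
    (hg : PReg p g) (hgz : g ∉ Subgroup.center G) :
    ((Subgroup.centralizer ({g} : Set G)).subgroupOf
      (Subgroup.normalizer ((BB p g : Subgroup G) : Set G))).Normal := by
  constructor
  intro c hc n
  rw [Subgroup.mem_subgroupOf] at hc ⊢
  rw [← centralizer_BB H hg hgz] at hc ⊢
  rw [Subgroup.mem_centralizer_iff] at hc ⊢
  intro b hb
  have hn : (n : G) ∈ Subgroup.normalizer ((BB p g : Subgroup G) : Set G) := n.2
  rw [Subgroup.mem_normalizer_iff''] at hn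
  have hb' : (n : G)⁻¹ * b * n ∈ BB p g := (hn b).mp hb
  have h1 := hc _ hb'
  simp only [Subgroup.coe_mul, Subgroup.coe_inv]
  calc b * ((n : G) * (c : G) * (n : G)⁻¹)
      = (n : G) * (((n : G)⁻¹ * b * n) * (c : G)) * (n : G)⁻¹ := by group
    _ = (n : G) * ((c : G) * ((n : G)⁻¹ * b * n)) * (n : G)⁻¹ := by rw [h1]
    _ = (n : G) * (c : G) * (n : G)⁻¹ * b := by group

theorem h4_conj_pow_mem {E : Type*} [Group E] (Y : Subgroup E) (x : E)
    (hx : ∀ y ∈ Y, x * y * x⁻¹ ∈ Y) (k : ℕ) : ∀ y ∈ Y, x ^ k * y * (x ^ k)⁻¹ ∈ Y := by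
  induction k with
  | zero => intro y hy; simpa using hy
  | succ k ih =>
    intro y hy
    have h1 := hx _ (ih y hy)
    have e : x ^ (k + 1) * y * (x ^ (k + 1))⁻¹ = x * (x ^ k * y * (x ^ k)⁻¹) * x⁻¹ := by
      rw [pow_succ']; group
    rw [e]; exact h1

/-- B8b -/
theorem one_prime [Finite G] {p m : ℕ} (H : Hyp G p m) (h2 : TwoRho G p) {g : G}
    (hg : PReg p g) (hgz : g ∉ Subgroup.center G) (r₁ r₂ : ℕ) (h1 : r₁.Prime) (h2' : r₂.Prime)
    (h1p : r₁ ≠ p) (h2p : r₂ ≠ p)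
    (hd1 : r₁ ∣ (Subgroup.centralizer ({g} : Set G)).relIndex
      (Subgroup.normalizer ((BB p g : Subgroup G) : Set G)))
    (hd2 : r₂ ∣ (Subgroup.centralizer ({g} : Set G)).relIndex
      (Subgroup.normalizer ((BB p g : Subgroup G) : Set G))) : r₁ = r₂ := by
  haveI hnormal := h4_cent_normal_in_normalizer H hg hgz
  set N := Subgroup.normalizer ((BB p g : Subgroup G) : Set G) with hN
  set C := Subgroup.centralizer ({g} : Set G) with hC
  have hCN : C ≤ N := cent_le_normalizer_BB p g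
  have hcard : Nat.card (↥N ⧸ C.subgroupOf N) = C.relIndex N := rfl
  refine EPP (E := ↥N ⧸ C.subgroupOf N) H.hp ?_ r₁ r₂ h1 h2' h1p h2p (hcard ▸ hd1) (hcard ▸ hd2)
  intro r hr hrp x hx Ybar hYb hrY hnorm
  obtain ⟨u₀, rfl⟩ := QuotientGroup.mk_surjective x
  -- decompose the order of u₀
  have ho0 : orderOf u₀ ≠ 0 := (orderOf_pos u₀).ne'
  obtain ⟨a, s, hrs, hos⟩ := Nat.exists_eq_pow_mul_and_not_dvd ho0 r hr.ne_one
  have hs0 : s ≠ 0 := by
    rintro rfl
    exact hrs (dvd_zero r)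
  have hord : orderOf (u₀ ^ s) = r ^ a := by
    rw [orderOf_pow_of_dvd hs0 ⟨r ^ a, by rw [hos, mul_comm]⟩, hos]
    exact Nat.mul_div_cancel _ (Nat.pos_of_ne_zero hs0)
  set u : G := ((u₀ ^ s : ↥N) : G) with hu
  have huN : u ∈ N := (u₀ ^ s).2
  have hur : IsPow r u := ⟨a, by rw [hu, Subgroup.orderOf_coe]; exact hord⟩
  have hmk : ((u₀ ^ s : ↥N) : ↥N ⧸ C.subgroupOf N) = (u₀ : ↥N ⧸ C.subgroupOf N) ^ s := rfl
  have huC : u ∉ C := by
    intro huC
    have : ((u₀ ^ s : ↥N) : ↥N ⧸ C.subgroupOf N) = 1 := by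
      rw [QuotientGroup.eq_one_iff, Subgroup.mem_subgroupOf]
      exact huC
    rw [hmk] at this
    have := orderOf_dvd_of_pow_eq_one this
    rw [hx] at this
    exact hrs this
  -- the subgroup Y
  set Y : Subgroup G := (Ybar.comap (QuotientGroup.mk' (C.subgroupOf N))).map N.subtype with hY
  have hYmem : ∀ y : G, y ∈ Y ↔ ∃ hy : y ∈ N, ((⟨y, hy⟩ : ↥N) : ↥N ⧸ C.subgroupOf N) ∈ Ybar := by
    intro y
    rw [hY, Subgroup.mem_map]
    constructor
    · rintro ⟨n, hn, rfl⟩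
      exact ⟨n.2, hn⟩
    · rintro ⟨hy, h⟩
      exact ⟨⟨y, hy⟩, h, rfl⟩
  have hCY : C ≤ Y := by
    intro c hc
    rw [hYmem]
    refine ⟨hCN hc, ?_⟩
    have : ((⟨c, hCN hc⟩ : ↥N) : ↥N ⧸ C.subgroupOf N) = 1 := by
      rw [QuotientGroup.eq_one_iff, Subgroup.mem_subgroupOf]
      exact hc
    rw [this]; exact Subgroup.one_mem _
  have hYN : Y ≤ N := by
    intro y hy
    obtain ⟨hy', _⟩ := (hYmem y).mp hy
    exact hy'
  have hne : Y ≠ C := by
    intro hYC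
    apply hYb
    rw [Subgroup.eq_bot_iff_forall]
    intro ybar hyb
    obtain ⟨y, rfl⟩ := QuotientGroup.mk_surjective ybar
    have hyY : (y : G) ∈ Y := (hYmem _).mpr ⟨y.2, hyb⟩
    rw [hYC] at hyY
    rw [QuotientGroup.eq_one_iff, Subgroup.mem_subgroupOf]
    exact hyY
  have hrel : C.relIndex Y = Nat.card Ybar := by
    rw [hY, ← Subgroup.relIndex_comap]
    have e : Subgroup.comap N.subtype C =
        (⊥ : Subgroup (↥N ⧸ C.subgroupOf N)).comap (QuotientGroup.mk' (C.subgroupOf N)) := by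
      rw [MonoidHom.comap_bot, QuotientGroup.ker_mk']
      rfl
    rw [e, Subgroup.relIndex_comap,
      Subgroup.map_comap_eq_self_of_surjective (QuotientGroup.mk'_surjective _),
      Subgroup.relIndex_bot_left]
  have hco : ¬ r ∣ C.relIndex Y := by rw [hrel]; exact hrY
  have hnorm' : ∀ y ∈ Y, u * y * u⁻¹ ∈ Y := by
    intro y hy
    obtain ⟨hyN, hyb⟩ := (hYmem y).mp hy
    rw [hYmem]
    refine ⟨N.mul_mem (N.mul_mem huN hyN) (N.inv_mem huN), ?_⟩
    have hk := h4_conj_pow_mem Ybar _ hnorm s _ hyb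
    have e : ((⟨u * y * u⁻¹, N.mul_mem (N.mul_mem huN hyN) (N.inv_mem huN)⟩ : ↥N) :
        ↥N ⧸ C.subgroupOf N) =
        (u₀ : ↥N ⧸ C.subgroupOf N) ^ s * ((⟨y, hyN⟩ : ↥N) : ↥N ⧸ C.subgroupOf N) *
          ((u₀ : ↥N ⧸ C.subgroupOf N) ^ s)⁻¹ := by
      rfl
    rw [e]; exact hk
  exact no_normalize H h2 hg hgz hr hrp huN huC hur Y hCY hYN hne hco hnorm'

end Cfsg.Agent.Lib.Helper8.PR
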