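import Mathlib
import Cfsg.Agent.S0143

/-! S4033 piece A2 (`KW`) of helper8's farm (helper4). -/

set_option autoImplicit false
set_option linter.unusedVariables false
set_option linter.unusedSectionVars false
set_option linter.style.longLine false
set_option linter.style.haveILetI false

namespace Cfsg.Agent.Lib.Helper8.PR

universe u

/-- for a normal subgroup `N`, the relative index of `H` in `N` divides the index of `H` -/
theorem h4_relIndex_dvd_index_normal {G : Type*} [Group G] [Finite G] (H N : Subgroup G) [N.Normal] :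
    H.relIndex N ∣ H.index := by
  have hc : ∀ A B : Subgroup G, A ≤ B → Nat.card A * A.relIndex B = Nat.card B := by
    intro A B hAB
    have h := Subgroup.card_mul_index (A.subgroupOf B)
    rw [Nat.card_congr (Subgroup.subgroupOfEquivOfLe hAB).toEquiv] at h
    exact h
  have h1 : H.relIndex (H ⊔ N) ∣ H.index := Subgroup.relIndex_dvd_index_of_le le_sup_left
  have h2 : H.relIndex (H ⊔ N) = H.relIndex N := by
    have e1 := hc H (H ⊔ N) le_sup_left
    have e2 := hc N (H ⊔ N) le_sup_right
    rw [Subgroup.relIndex_sup_right] at e2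
    have e3 := hc (N ⊓ H) H inf_le_right
    rw [Subgroup.inf_relIndex_right] at e3
    have e4 := hc (H ⊓ N) N inf_le_right
    rw [Subgroup.inf_relIndex_right] at e4
    have e5 : Nat.card ↥(N ⊓ H) = Nat.card ↥(H ⊓ N) := by rw [inf_comm]
    have hpos : 0 < Nat.card H := Nat.card_pos
    have key : Nat.card H * H.relIndex (H ⊔ N) = Nat.card H * H.relIndex N := by
      rw [e1, ← e2, ← e4, ← e3, e5]; ring
    exact Nat.eq_of_mul_eq_mul_left hpos key
  rw [← h2]; exact h1

/-- a group generated by `s`-elements with `p`-power class sizes has a normal subgroup of index `s` -/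
theorem h4_gen {p s : ℕ} (hp : p.Prime) (hs : s.Prime) :
    ∀ (n : ℕ) (X : Type u) [Group X] [Finite X], Nat.card X = n → Nontrivial X →
      ∀ Sg : Set X, Subgroup.closure Sg = ⊤ →
      (∀ σ ∈ Sg, (∃ j : ℕ, orderOf σ = s ^ j) ∧
        ∃ k : ℕ, (Subgroup.centralizer ({σ} : Set X)).index = p ^ k) →
      ∃ M : Subgroup X, M.Normal ∧ M.index = s := by
  intro n
  induction n using Nat.strong_induction_on with
  | _ n ih =>
  intro X _ _ hn hnt Sg hgen hSg
  by_cases hsimple : IsSimpleGroup X
  · obtain ⟨σ, hσ, hσ1⟩ : ∃ σ ∈ Sg, σ ≠ 1 := by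
      by_contra hno
      push Not at hno
      have h : Subgroup.closure Sg = ⊥ := by
        rw [Subgroup.closure_eq_bot_iff]
        intro y hy
        exact hno y hy
      rw [hgen] at h
      exact top_ne_bot h
    obtain ⟨⟨j, hj⟩, ⟨k, hk⟩⟩ := hSg σ hσ
    have hprime := Cfsg.Agent.S0143.result p k hp σ hσ1 hk
    have hdvd : orderOf σ ∣ Nat.card X := orderOf_dvd_natCard σ
    have ho1 : orderOf σ ≠ 1 := by rwa [Ne, orderOf_eq_one_iff]
    have hoc : orderOf σ = Nat.card X := ((Nat.dvd_prime hprime).mp hdvd).resolve_left ho1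
    have hpow : (s ^ j).Prime := by rw [← hj, hoc]; exact hprime
    have hj0 : j ≠ 0 := by
      rintro rfl
      rw [pow_zero] at hpow
      exact Nat.not_prime_one hpow
    have hss : s = s ^ j :=
      ((Nat.dvd_prime hpow).mp (dvd_pow_self s hj0)).resolve_left hs.one_lt.ne'
    refine ⟨⊥, inferInstance, ?_⟩
    rw [Subgroup.index_bot, ← hoc, hj, ← hss]
  · obtain ⟨N, hNn, hNb, hNt⟩ : ∃ N : Subgroup X, N.Normal ∧ N ≠ ⊥ ∧ N ≠ ⊤ := by
      by_contra hno
      push Not at hno
      apply hsimple
      exact { exists_pair_ne := hnt.exists_pair_ne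
              eq_bot_or_eq_top_of_normal := fun H hH => by
                by_cases h : H = ⊥
                · exact Or.inl h
                · exact Or.inr (hno H hH h) }
    haveI := hNn
    have hidx0 : N.index ≠ 0 := Subgroup.index_ne_zero_of_finite
    have hlt : Nat.card (X ⧸ N) < n := by
      rw [← hn, ← Subgroup.index_eq_card, ← Subgroup.card_mul_index N]
      have h1 : 1 < Nat.card N := (Subgroup.one_lt_card_iff_ne_bot N).mpr hNb
      have h2 : 0 < N.index := Nat.pos_of_ne_zero hidx0
      nlinarith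
    have hntq : Nontrivial (X ⧸ N) := by
      rw [← Finite.one_lt_card_iff_nontrivial, ← Subgroup.index_eq_card]
      have h1 : N.index ≠ 1 := fun h => hNt (Subgroup.index_eq_one.mp h)
      omega
    obtain ⟨Mq, hMqn, hMqi⟩ := ih _ hlt (X ⧸ N) rfl hntq ((QuotientGroup.mk' N) '' Sg) (by
        rw [← MonoidHom.map_closure, hgen, ← MonoidHom.range_eq_map, MonoidHom.range_eq_top]
        exact QuotientGroup.mk'_surjective N) (by
        rintro _ ⟨σ, hσ, rfl⟩
        obtain ⟨⟨j, hj⟩, ⟨k, hk⟩⟩ := hSg σ hσ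
        constructor
        · have h : orderOf (QuotientGroup.mk' N σ) ∣ s ^ j := hj ▸ orderOf_map_dvd _ σ
          obtain ⟨j', _, hj'⟩ := (Nat.dvd_prime_pow hs).mp h
          exact ⟨j', hj'⟩
        · have hle : Subgroup.centralizer ({σ} : Set X) ≤
              (Subgroup.centralizer ({QuotientGroup.mk' N σ} : Set (X ⧸ N))).comap
                (QuotientGroup.mk' N) := by
            intro y hy
            rw [Subgroup.mem_comap, Subgroup.mem_centralizer_singleton_iff]
            rw [Subgroup.mem_centralizer_singleton_iff] at hy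
            rw [← map_mul, ← map_mul, hy]
          have hd := Subgroup.index_dvd_of_le hle
          rw [Subgroup.index_comap_of_surjective _ (QuotientGroup.mk'_surjective N), hk] at hd
          obtain ⟨k', _, hk'⟩ := (Nat.dvd_prime_pow hp).mp hd
          exact ⟨k', hk'⟩)
    haveI := hMqn
    refine ⟨Mq.comap (QuotientGroup.mk' N), inferInstance, ?_⟩
    rw [Subgroup.index_comap_of_surjective _ (QuotientGroup.mk'_surjective N)]
    exact hMqi

theorem KW {Gb : Type*} [Group Gb] [Finite Gb] {p s : ℕ} (hp : p.Prime) (hs : s.Prime) (x : Gb)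
    (hx1 : x ≠ 1) (hxs : ∃ j : ℕ, orderOf x = s ^ j)
    (hcl : ∃ k : ℕ, (Subgroup.centralizer ({x} : Set Gb)).index = p ^ k) :
    ∃ K : Subgroup Gb, K.Normal ∧ x ∉ K ∧ K ≤ Subgroup.normalClosure ({x} : Set Gb) ∧
      ∀ g ∈ Subgroup.normalClosure ({x} : Set Gb), (orderOf g).Coprime s → g ∈ K := by
  obtain ⟨j, hj⟩ := hxs
  obtain ⟨k, hk⟩ := hcl
  set Xs : Subgroup Gb := Subgroup.normalClosure ({x} : Set Gb) with hXs
  have hxX : x ∈ Xs := Subgroup.subset_normalClosure (Set.mem_singleton x)
  have hntX : Nontrivial Xs := ⟨⟨⟨x, hxX⟩, 1, fun h => hx1 (congrArg Subtype.val h)⟩⟩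
  -- the generating set: conjugates of `x`
  let Sg : Set Xs := {y | ∃ g : Gb, (y : Gb) = g * x * g⁻¹}
  have hgen : Subgroup.closure Sg = ⊤ := by
    have h := Subgroup.closure_closure_coe_preimage (k := Group.conjugatesOfSet ({x} : Set Gb))
    have hSg : Sg = ((↑) : Subgroup.closure (Group.conjugatesOfSet ({x} : Set Gb)) → Gb) ⁻¹'
        (Group.conjugatesOfSet ({x} : Set Gb)) := by
      ext y
      constructor
      · rintro ⟨g, hg⟩
        show (y : Gb) ∈ Group.conjugatesOfSet ({x} : Set Gb)
        rw [Group.mem_conjugatesOfSet_iff]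
        exact ⟨x, rfl, isConj_iff.mpr ⟨g, hg.symm⟩⟩
      · intro hy
        have hy' : (y : Gb) ∈ Group.conjugatesOfSet ({x} : Set Gb) := hy
        rw [Group.mem_conjugatesOfSet_iff] at hy'
        obtain ⟨a, ha, hc⟩ := hy'
        rw [Set.mem_singleton_iff] at ha
        subst ha
        obtain ⟨g, hg⟩ := isConj_iff.mp hc
        exact ⟨g, hg.symm⟩
    rw [hSg]; exact h
  have hSgp : ∀ σ ∈ Sg, (∃ j : ℕ, orderOf σ = s ^ j) ∧
      ∃ k : ℕ, (Subgroup.centralizer ({σ} : Set Xs)).index = p ^ k := by
    rintro σ ⟨g, hg⟩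
    constructor
    · refine ⟨j, ?_⟩
      rw [← Subgroup.orderOf_coe, hg, ← hj]
      have := orderOf_injective (MulAut.conj g).toMonoidHom (MulAut.conj g).injective x
      simpa [MulAut.conj_apply] using this
    · have hcent : Subgroup.centralizer ({σ} : Set Xs) =
          (Subgroup.centralizer ({(σ : Gb)} : Set Gb)).subgroupOf Xs := by
        ext y
        simp only [Subgroup.mem_centralizer_singleton_iff, Subgroup.mem_subgroupOf, Subtype.ext_iff,
          Subgroup.coe_mul]
      have hidx : (Subgroup.centralizer ({(σ : Gb)} : Set Gb)).index = p ^ k := by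
        rw [hg, ← hk]
        have hmap : Subgroup.centralizer ({g * x * g⁻¹} : Set Gb) =
            (Subgroup.centralizer ({x} : Set Gb)).map (MulAut.conj g).toMonoidHom := by
          ext y
          simp only [Subgroup.mem_centralizer_singleton_iff, Subgroup.mem_map,
            MulEquiv.coe_toMonoidHom, MulAut.conj_apply]
          constructor
          · intro hy
            refine ⟨g⁻¹ * y * g, ?_, by group⟩
            have : g⁻¹ * y * g * x = g⁻¹ * (y * (g * x * g⁻¹)) * g := by group
            rw [this, hy]; group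
          · rintro ⟨z, hz, rfl⟩
            have : g * z * g⁻¹ * (g * x * g⁻¹) = g * (z * x) * g⁻¹ := by group
            rw [this, hz]; group
        rw [hmap, Subgroup.index_map_of_bijective (MulAut.conj g).bijective]
      have hd : (Subgroup.centralizer ({σ} : Set Xs)).index ∣ p ^ k := by
        rw [hcent, ← hidx]
        exact h4_relIndex_dvd_index_normal _ Xs
      obtain ⟨k', _, hk'⟩ := (Nat.dvd_prime_pow hp).mp hd
      exact ⟨k', hk'⟩
  obtain ⟨M, hMn, hMi⟩ := h4_gen hp hs _ Xs rfl hntX Sg hgen hSgp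
  haveI := hMn
  refine ⟨(M.map Xs.subtype).normalCore, Subgroup.normalCore_normal _, ?_, ?_, ?_⟩
  · -- `x ∉ K`
    intro hxK
    have hall : ∀ σ ∈ Sg, σ ∈ M := by
      rintro σ ⟨g, hg⟩
      have h1 : g * x * g⁻¹ ∈ (M.map Xs.subtype).normalCore :=
        (Subgroup.normalCore_normal _).conj_mem x hxK g
      have h2 : (σ : Gb) ∈ M.map Xs.subtype := by
        rw [hg]; exact Subgroup.normalCore_le _ h1
      obtain ⟨y, hy, hyσ⟩ := Subgroup.mem_map.mp h2
      have : y = σ := Subtype.ext hyσ
      rwa [← this]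
    have hM : M = ⊤ := by
      rw [eq_top_iff, ← hgen, Subgroup.closure_le]
      exact hall
    rw [hM, Subgroup.index_top] at hMi
    exact hs.one_lt.ne hMi
  · exact le_trans (Subgroup.normalCore_le _) (Subgroup.map_subtype_le M)
  · intro g hg hco
    show ∀ b : Gb, b * g * b⁻¹ ∈ M.map Xs.subtype
    intro b
    have hbg : b * g * b⁻¹ ∈ Xs := Subgroup.normalClosure_normal.conj_mem g hg b
    refine Subgroup.mem_map.mpr ⟨⟨b * g * b⁻¹, hbg⟩, ?_, rfl⟩
    -- the image in the quotient of order `s` is trivial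
    rw [← QuotientGroup.eq_one_iff]
    have hord : orderOf (⟨b * g * b⁻¹, hbg⟩ : Xs) = orderOf g := by
      rw [← Subgroup.orderOf_coe]
      have := orderOf_injective (MulAut.conj b).toMonoidHom (MulAut.conj b).injective g
      simpa [MulAut.conj_apply] using this
    have h1 : orderOf ((⟨b * g * b⁻¹, hbg⟩ : Xs) : Xs ⧸ M) ∣ orderOf g := by
      rw [← hord]
      exact orderOf_map_dvd (QuotientGroup.mk' M) _
    have h2 : orderOf ((⟨b * g * b⁻¹, hbg⟩ : Xs) : Xs ⧸ M) ∣ s := by
      have := orderOf_dvd_natCard ((⟨b * g * b⁻¹, hbg⟩ : Xs) : Xs ⧸ M)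
      rwa [← Subgroup.index_eq_card, hMi] at this
    have h3 : orderOf ((⟨b * g * b⁻¹, hbg⟩ : Xs) : Xs ⧸ M) = 1 :=
      Nat.eq_one_of_dvd_coprimes hco h1 h2
    exact orderOf_eq_one_iff.mp h3

end Cfsg.Agent.Lib.Helper8.PR
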