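import Mathlib
import Cfsg.Agent.Lib.Helper4.TC7

/-! Presentations whose relators are given as products of decoded letters: the evaluation of such a relator
under a homomorphism of the free group is the evaluation of the word. -/

set_option autoImplicit false

namespace Cfsg.Agent.Lib.Helper4.PresW

open Cfsg.Agent.Lib.Helper4.TC Cfsg.Agent.Lib.Helper4.TC.Log

theorem lift_prod_map {α Γ : Type} [Group Γ] (f : α → Γ) (d : ℕ → FreeGroup α) (L : List ℕ) :
    FreeGroup.lift f ((L.map d).prod) = wordP (fun l => FreeGroup.lift f (d l)) L := by
  induction L with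
  | nil => simp [wordP_nil]
  | cons x L ih => rw [List.map_cons, List.prod_cons, map_mul, ih, wordP_cons]

theorem lift_getElem_map {α Γ : Type} [Group Γ] (f : α → Γ) (d : ℕ → FreeGroup α) (W : List (List ℕ)) (i : ℕ)
    (h : i < (W.map fun L => (L.map d).prod).length) (h' : i < W.length) :
    FreeGroup.lift f ((W.map fun L => (L.map d).prod)[i]) = wordP (fun l => FreeGroup.lift f (d l)) (W[i]) := by
  rw [List.getElem_map]
  exact lift_prod_map f d _

end Cfsg.Agent.Lib.Helper4.PresW
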