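import Mathlib

namespace Cfsg.Agent.Lib.Helper4.PrimCent

open Polynomial

theorem key_dvd {F : Type*} [Field F] [Fintype F] {q r n : ℕ} (hF : Fintype.card F = q)
    (hr : r.Prime) (hi : orderOf (q : ZMod r) = n) (f : F[X]) (hf : Irreducible f)
    (hdvd : f ∣ X ^ r - C 1) : f ∣ X - C 1 ∨ n ∣ f.natDegree := by
  haveI := Fact.mk hf
  haveI := Fact.mk hr
  set α := AdjoinRoot.root f with hαdef
  have hα : α ^ r = 1 := by
    have := AdjoinRoot.mk_eq_zero.2 hdvd
    simpa [sub_eq_zero] using this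
  by_cases h1 : α = 1
  · left
    rw [← AdjoinRoot.mk_eq_zero]
    simp [← hαdef, h1]
  · right
    have hord : orderOf α = r := orderOf_eq_prime hα h1
    haveI : Module.Finite F (AdjoinRoot f) := (AdjoinRoot.powerBasis hf.ne_zero).finite
    haveI : Finite (AdjoinRoot f) := Module.finite_of_finite F
    haveI := Fintype.ofFinite (AdjoinRoot f)
    have hcard : Fintype.card (AdjoinRoot f) = q ^ f.natDegree := by
      rw [Module.card_eq_pow_finrank (K := F), hF, (AdjoinRoot.powerBasis hf.ne_zero).finrank,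
        AdjoinRoot.powerBasis_dim]
    have hα0 : α ≠ 0 := by
      intro h
      rw [h, zero_pow hr.ne_zero] at hα
      exact zero_ne_one hα
    have h2 := FiniteField.pow_card_sub_one_eq_one α hα0
    rw [hcard] at h2
    have h3 : r ∣ q ^ f.natDegree - 1 := hord ▸ orderOf_dvd_of_pow_eq_one h2
    rw [← hi]
    apply orderOf_dvd_of_pow_eq_one
    have hqpos : 1 ≤ q ^ f.natDegree :=
      Nat.one_le_pow _ _ (by rw [← hF]; exact Fintype.card_pos)
    have := (ZMod.natCast_eq_zero_iff _ _).2 h3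
    rw [Nat.cast_sub hqpos, sub_eq_zero] at this
    simpa using this

section Main

variable {F : Type*} [Field F] [Fintype F] {n : ℕ}

theorem minpoly_irreducible {p q : ℕ} [Fact p.Prime] [CharP F p] (hF : Fintype.card F = q)
    {r : ℕ} (hn : 1 ≤ n) (hr : r.Prime) (hrp : r ≠ p) (hi : orderOf (q : ZMod r) = n)
    (A : Matrix (Fin n) (Fin n) F) (hAr : A ^ r = 1) (hA1 : A ≠ 1) :
    Irreducible (minpoly F A) ∧ (minpoly F A).natDegree = n := by
  classical
  haveI : Nonempty (Fin n) := ⟨⟨0, hn⟩⟩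
  set μ := minpoly F A with hμ
  have hint : IsIntegral F A := Matrix.isIntegral A
  have hμ0 : μ ≠ 0 := minpoly.ne_zero hint
  have hμunit : ¬ IsUnit μ := minpoly.not_isUnit F A
  have hμdvd : μ ∣ X ^ r - C 1 := by
    apply minpoly.dvd
    simp [hAr]
  have hμdeg : μ.natDegree ≤ n := by
    have h1 := Matrix.minpoly_dvd_charpoly A
    have h2 := natDegree_le_of_dvd h1 (Matrix.charpoly_monic A).ne_zero
    rw [Matrix.charpoly_natDegree_eq_dim] at h2
    simpa using h2
  have hrF : (r : F) ≠ 0 := by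
    intro h
    rw [CharP.cast_eq_zero_iff F p r] at h
    rcases (Nat.dvd_prime hr).1 h with h1 | h1
    · exact (Fact.out : p.Prime).one_lt.ne' h1
    · exact hrp h1.symm
  have hsqf : Squarefree (X ^ r - C (1 : F)) :=
    (separable_X_pow_sub_C (1 : F) hrF one_ne_zero).squarefree
  have hKL := key_dvd hF hr hi
  have hX1irr : Irreducible (X - C (1 : F)) := irreducible_X_sub_C 1
  have hfac : ∀ g : F[X], g ∣ μ → ¬ IsUnit g → g.natDegree < n → (X - C (1 : F)) ∣ g := by
    intro g hgμ hgu hgn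
    have hg0 : g ≠ 0 := ne_zero_of_dvd_ne_zero hμ0 hgμ
    obtain ⟨f, hfirr, hfg⟩ := WfDvdMonoid.exists_irreducible_factor hgu hg0
    rcases hKL f hfirr ((hfg.trans hgμ).trans hμdvd) with h | h
    · obtain ⟨u, hu⟩ := h
      have huu : IsUnit u := (hX1irr.isUnit_or_isUnit hu).resolve_left hfirr.not_isUnit
      obtain ⟨u', rfl⟩ := huu
      have : (X - C (1 : F)) ∣ f := ⟨(u'⁻¹ : F[X]ˣ), by rw [hu, mul_assoc, ← Units.val_mul]; simp⟩
      exact this.trans hfg
    · exfalso
      have h1 := natDegree_le_of_dvd hfg hg0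
      have h2 := hfirr.natDegree_pos
      have h3 := Nat.le_of_dvd h2 h
      omega
  obtain ⟨f, hfirr, hfμ⟩ := WfDvdMonoid.exists_irreducible_factor hμunit hμ0
  rcases hKL f hfirr (hfμ.trans hμdvd) with h | h
  · exfalso
    obtain ⟨u, hu⟩ := h
    have huu : IsUnit u := (hX1irr.isUnit_or_isUnit hu).resolve_left hfirr.not_isUnit
    obtain ⟨u', rfl⟩ := huu
    have hX1f : (X - C (1 : F)) ∣ f :=
      ⟨(u'⁻¹ : F[X]ˣ), by rw [hu, mul_assoc, ← Units.val_mul]; simp⟩
    obtain ⟨g, hg⟩ := hX1f.trans hfμ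
    have hg0 : g ≠ 0 := by
      rintro rfl
      rw [mul_zero] at hg
      exact hμ0 hg
    by_cases hgu : IsUnit g
    · have h0 : aeval A μ = 0 := minpoly.aeval F A
      rw [hg, map_mul] at h0
      have hgu' : IsUnit (aeval A g) := hgu.map (aeval A)
      have : aeval A (X - C (1 : F)) = 0 := (hgu'.mul_left_eq_zero).1 h0
      apply hA1
      simpa [sub_eq_zero] using this
    · have hdeg : g.natDegree < n := by
        have := congrArg natDegree hg
        rw [natDegree_mul (X_sub_C_ne_zero 1) hg0, natDegree_X_sub_C] at this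
        omega
      have h2 := hfac g ⟨X - C 1, by rw [hg]; ring⟩ hgu hdeg
      obtain ⟨g', rfl⟩ := h2
      have : (X - C (1 : F)) * (X - C (1 : F)) ∣ X ^ r - C 1 :=
        Dvd.dvd.trans ⟨g', by rw [hg]; ring⟩ hμdvd
      exact not_isUnit_X_sub_C 1 (hsqf _ this)
  · have h1 := natDegree_le_of_dvd hfμ hμ0
    have h2 := hfirr.natDegree_pos
    have h3 := Nat.le_of_dvd h2 h
    have hfn : f.natDegree = n := by omega
    have hμn : μ.natDegree = n := by omega
    refine ⟨?_, hμn⟩
    obtain ⟨c, hc⟩ := hfμ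
    have hc0 : c ≠ 0 := by
      rintro rfl
      rw [mul_zero] at hc
      exact hμ0 hc
    have hcdeg : c.natDegree = 0 := by
      have := congrArg natDegree hc
      rw [natDegree_mul hfirr.ne_zero hc0] at this
      omega
    have hcu : IsUnit c := by
      rw [isUnit_iff_degree_eq_zero, degree_eq_natDegree hc0, hcdeg]
      rfl
    rw [hc]
    exact (irreducible_mul_isUnit hcu).2 hfirr

end Main

end Cfsg.Agent.Lib.Helper4.PrimCent
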