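import Mathlib
import Cfsg.Agent.Lib.Helper4.PrimCent1

namespace Cfsg.Agent.Lib.Helper4.PrimCent

open Polynomial

section Iota

variable {F : Type*} [Field F] {n : ℕ}

/-- the algebra map `F[X]/(minpoly) → M_n(F)` -/
noncomputable def iota (A : Matrix (Fin n) (Fin n) F) :
    AdjoinRoot (minpoly F A) →ₐ[F] Matrix (Fin n) (Fin n) F :=
  Ideal.Quotient.liftₐ (Ideal.span {minpoly F A}) (Polynomial.aeval A) (by
    intro a ha
    rw [Ideal.mem_span_singleton] at ha
    obtain ⟨c, rfl⟩ := ha
    simp [minpoly.aeval])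

theorem iota_mk (A : Matrix (Fin n) (Fin n) F) (g : F[X]) :
    iota A (AdjoinRoot.mk _ g) = aeval A g := rfl

theorem iota_root (A : Matrix (Fin n) (Fin n) F) : iota A (AdjoinRoot.root _) = A := by
  rw [← AdjoinRoot.mk_X, iota_mk, aeval_X]

theorem commute_iota (A Y : Matrix (Fin n) (Fin n) F) (h : A * Y = Y * A)
    (a : AdjoinRoot (minpoly F A)) : iota A a * Y = Y * iota A a := by
  obtain ⟨g, rfl⟩ := AdjoinRoot.mk_surjective a
  rw [iota_mk]
  have h1 : aeval A g ∈ Algebra.adjoin F {A} := aeval_mem_adjoin_singleton F A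
  have h2 : Algebra.adjoin F {A} ≤ Subalgebra.centralizer F {Y} := by
    apply Algebra.adjoin_le
    intro z hz
    rw [Set.mem_singleton_iff] at hz
    subst hz
    rw [SetLike.mem_coe, Subalgebra.mem_centralizer_iff]
    intro w hw
    rw [Set.mem_singleton_iff] at hw
    subst hw
    exact h.symm
  have h3 := h2 h1
  rw [Subalgebra.mem_centralizer_iff] at h3
  exact (h3 Y rfl).symm

end Iota

section Main

variable {F : Type*} [Field F] [Fintype F] {n : ℕ}

theorem exists_iota_eq (hn : 1 ≤ n) (A : Matrix (Fin n) (Fin n) F)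
    (hirr : Irreducible (minpoly F A)) (hdeg : (minpoly F A).natDegree = n)
    (Y : Matrix (Fin n) (Fin n) F) (h : A * Y = Y * A) : ∃ a, iota A a = Y := by
  classical
  haveI := Fact.mk hirr
  let v : Fin n → F := Pi.single ⟨0, hn⟩ 1
  have hv : v ≠ 0 := by
    intro h0
    have := congrFun h0 ⟨0, hn⟩
    simp [v] at this
  let T : AdjoinRoot (minpoly F A) →ₗ[F] (Fin n → F) :=
    { toFun := fun a => (iota A a).mulVec v
      map_add' := by intro a b; rw [map_add, Matrix.add_mulVec]
      map_smul' := by intro c a; rw [map_smul, Matrix.smul_mulVec]; rfl }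
  have hT : ∀ a, T a = (iota A a).mulVec v := fun _ => rfl
  have hTinj : Function.Injective T := by
    rw [injective_iff_map_eq_zero]
    intro a ha
    by_contra ha0
    apply hv
    have h1 : (iota A a⁻¹).mulVec ((iota A a).mulVec v) = v := by
      rw [Matrix.mulVec_mulVec, ← map_mul, inv_mul_cancel₀ ha0, map_one, Matrix.one_mulVec]
    rw [← h1, ← hT, ha, Matrix.mulVec_zero]
  haveI : Module.Finite F (AdjoinRoot (minpoly F A)) :=
    (AdjoinRoot.powerBasis hirr.ne_zero).finite
  have hfr : Module.finrank F (AdjoinRoot (minpoly F A)) = Module.finrank F (Fin n → F) := by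
    rw [(AdjoinRoot.powerBasis hirr.ne_zero).finrank, AdjoinRoot.powerBasis_dim, hdeg]
    simp
  have hTsurj : Function.Surjective T :=
    (LinearMap.injective_iff_surjective_of_finrank_eq_finrank hfr).1 hTinj
  obtain ⟨a₀, ha₀⟩ := hTsurj (Y.mulVec v)
  refine ⟨a₀, ?_⟩
  apply Matrix.mulVec_injective
  funext w
  obtain ⟨b, rfl⟩ := hTsurj w
  rw [hT] at ha₀ ⊢
  rw [Matrix.mulVec_mulVec, ← map_mul, mul_comm, map_mul, ← Matrix.mulVec_mulVec, ha₀,
    Matrix.mulVec_mulVec, Matrix.mulVec_mulVec, commute_iota A Y h b]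

theorem centralizer_cyclic {p q : ℕ} [Fact p.Prime] [CharP F p] (hF : Fintype.card F = q)
    {r : ℕ} (hn : 1 ≤ n) (hr : r.Prime) (hrp : r ≠ p) (hi : orderOf (q : ZMod r) = n)
    (x : GL (Fin n) F) (hx : orderOf x = r) :
    IsCyclic ↥(Subgroup.centralizer ({x} : Set (GL (Fin n) F))) ∧
      Nat.card ↥(Subgroup.centralizer ({x} : Set (GL (Fin n) F))) = q ^ n - 1 := by
  classical
  haveI : Nonempty (Fin n) := ⟨⟨0, hn⟩⟩
  set A : Matrix (Fin n) (Fin n) F := (x : Matrix (Fin n) (Fin n) F) with hA
  have hAr : A ^ r = 1 := by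
    have := pow_orderOf_eq_one x
    rw [hx] at this
    have h2 := congrArg (fun z : GL (Fin n) F => (z : Matrix (Fin n) (Fin n) F)) this
    simpa using h2
  have hA1 : A ≠ 1 := by
    intro h
    have : x = 1 := Units.ext h
    rw [this, orderOf_one] at hx
    exact hr.one_lt.ne hx
  obtain ⟨hirr, hdeg⟩ := minpoly_irreducible hF hn hr hrp hi A hAr hA1
  haveI := Fact.mk hirr
  haveI : Module.Finite F (AdjoinRoot (minpoly F A)) :=
    (AdjoinRoot.powerBasis hirr.ne_zero).finite
  haveI : Finite (AdjoinRoot (minpoly F A)) := Module.finite_of_finite F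
  haveI := Fintype.ofFinite (AdjoinRoot (minpoly F A))
  have hcard : Fintype.card (AdjoinRoot (minpoly F A)) = q ^ n := by
    rw [Module.card_eq_pow_finrank (K := F), hF, (AdjoinRoot.powerBasis hirr.ne_zero).finrank,
      AdjoinRoot.powerBasis_dim, hdeg]
  let ψ : (AdjoinRoot (minpoly F A))ˣ →* GL (Fin n) F :=
    Units.map ((iota A : AdjoinRoot (minpoly F A) →ₐ[F] Matrix (Fin n) (Fin n) F) :
      AdjoinRoot (minpoly F A) →* Matrix (Fin n) (Fin n) F)
  have hψval : ∀ u, ((ψ u : GL (Fin n) F) : Matrix (Fin n) (Fin n) F) = iota A u := fun _ => rfl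
  have hιinj : Function.Injective (iota A) := (iota A).toRingHom.injective
  have hψinj : Function.Injective ψ := by
    intro u w huw
    apply Units.ext
    apply hιinj
    rw [← hψval, ← hψval, huw]
  have hcent : Subgroup.centralizer ({x} : Set (GL (Fin n) F)) = ψ.range := by
    ext y
    rw [Subgroup.mem_centralizer_iff, MonoidHom.mem_range]
    constructor
    · intro hy
      have h1 : A * (y : Matrix (Fin n) (Fin n) F) = (y : Matrix (Fin n) (Fin n) F) * A := by
        have := hy x rfl
        have h2 := congrArg (fun z : GL (Fin n) F => (z : Matrix (Fin n) (Fin n) F)) this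
        simpa using h2
      obtain ⟨a, ha⟩ := exists_iota_eq hn A hirr hdeg _ h1
      have ha0 : a ≠ 0 := by
        rintro rfl
        rw [map_zero] at ha
        have := y.isUnit
        rw [← ha] at this
        exact not_isUnit_zero this
      refine ⟨Units.mk0 a ha0, ?_⟩
      apply Units.ext
      rw [hψval]
      exact ha
    · rintro ⟨u, rfl⟩ h hh
      rw [Set.mem_singleton_iff] at hh
      subst hh
      apply Units.ext
      rw [Units.val_mul, Units.val_mul, hψval, ← hA]
      have hroot := iota_root A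
      calc A * iota A u = iota A (AdjoinRoot.root _) * iota A u := by rw [hroot]
        _ = iota A u * iota A (AdjoinRoot.root _) := by rw [← map_mul, ← map_mul, mul_comm]
        _ = iota A u * A := by rw [hroot]
  rw [hcent]
  constructor
  · exact isCyclic_of_surjective ψ.rangeRestrict ψ.rangeRestrict_surjective
  · rw [← Nat.card_congr (MonoidHom.ofInjective hψinj).toEquiv, Nat.card_eq_fintype_card,
      Fintype.card_units, hcard]

end Main

end Cfsg.Agent.Lib.Helper4.PrimCent
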