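import Mathlib
import Cfsg.Agent.Lib.Helper4.PrimNormal
import Cfsg.Agent.Lib.Lead.MinNormalPower

/-! The socle of a finite primitive permutation group. -/

namespace Cfsg.Agent.Lib.Helper4.PrimSocle

open MulAction Cfsg.Agent.Lib.Helper4.PrimNormal

/-- `(Fin a → T) × (Fin b → T) ≃* (Fin (a+b) → T)` -/
def appendMulEquiv (T : Type*) [Group T] (a b : ℕ) :
    ((Fin a → T) × (Fin b → T)) ≃* (Fin (a + b) → T) :=
  { Fin.appendEquiv a b with
    map_mul' := by
      intro p q
      funext i
      change Fin.append (p.1 * q.1) (p.2 * q.2) i = Fin.append p.1 p.2 i * Fin.append q.1 q.2 i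
      refine Fin.addCases ?_ ?_ i
      · intro j
        simp [Fin.append_left]
      · intro j
        simp [Fin.append_right] }

variable {G : Type*} [Group G] {Ω : Type*} [MulAction G Ω] [FaithfulSMul G Ω]

/-- minimal normal subgroup -/
def MinN (V : Subgroup G) : Prop :=
  V.Normal ∧ V ≠ ⊥ ∧ ∀ M : Subgroup G, M.Normal → M ≤ V → M = ⊥ ∨ M = V

omit [FaithfulSMul G Ω] in
theorem minN_inf {V M : Subgroup G} (hV : MinN V) (hM : MinN (G := G) M) (hne : V ≠ M) :
    V ⊓ M = ⊥ := by
  haveI := hV.1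
  haveI := hM.1
  rcases hV.2.2 (V ⊓ M) inferInstance inf_le_left with h | h
  · exact h
  · exfalso
    have hVM : V ≤ M := by rw [← h]; exact inf_le_right
    rcases hM.2.2 V hV.1 hVM with h2 | h2
    · exact hV.2.1 h2
    · exact hne h2

omit [FaithfulSMul G Ω] in
theorem minN_comm {V M : Subgroup G} (hV : MinN V) (hM : MinN (G := G) M) (hne : V ≠ M) :
    ∀ a ∈ V, ∀ b ∈ M, a * b = b * a := by
  intro a ha b hb
  exact Subgroup.commute_of_normal_of_disjoint V M hV.1 hM.1
    (disjoint_iff.mpr (minN_inf hV hM hne)) a b ha hb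

/-- An element centralizing a nontrivial normal subgroup and fixing a point is trivial. -/
theorem eq_one_of_cent_fix (hprim : IsPreprimitive G Ω) (M : Subgroup G) [M.Normal] (hM : M ≠ ⊥)
    (c : G) (hc : ∀ m ∈ M, c * m = m * c) (δ : Ω) (hfix : c • δ = δ) : c = 1 := by
  apply FaithfulSMul.eq_of_smul_eq_smul (α := Ω)
  intro x
  obtain ⟨m, hm, rfl⟩ := trans_of_normal hprim M hM δ x
  rw [one_smul, ← mul_smul, hc m hm, mul_smul, hfix]

/-- The centralizer of a nontrivial normal subgroup lies in any nontrivial normal subgroup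
commuting with it. -/
theorem cent_le (hprim : IsPreprimitive G Ω) (M₁ M₂ : Subgroup G) [M₁.Normal] [M₂.Normal]
    (h1 : M₁ ≠ ⊥) (h2 : M₂ ≠ ⊥) (hcomm : ∀ a ∈ M₁, ∀ b ∈ M₂, a * b = b * a)
    (δ : Ω) (c : G) (hc : ∀ m ∈ M₁, c * m = m * c) : c ∈ M₂ := by
  obtain ⟨m₂, hm₂, hδ⟩ := trans_of_normal hprim M₂ h2 δ (c • δ)
  have hfix : (m₂⁻¹ * c) • δ = δ := by
    rw [mul_smul, ← hδ, inv_smul_smul]
  have hcent : ∀ m ∈ M₁, (m₂⁻¹ * c) * m = m * (m₂⁻¹ * c) := by
    intro m hm
    have := hcomm m hm m₂⁻¹ (inv_mem hm₂)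
    rw [mul_assoc, hc m hm, ← mul_assoc, ← this, mul_assoc]
  have := eq_one_of_cent_fix hprim M₁ h1 _ hcent δ hfix
  rw [inv_mul_eq_one] at this
  rw [← this]
  exact hm₂

/-- Two commuting nontrivial normal subgroups are isomorphic. -/
theorem iso_of_comm (hprim : IsPreprimitive G Ω) (M₁ M₂ : Subgroup G) [M₁.Normal] [M₂.Normal]
    (h1 : M₁ ≠ ⊥) (h2 : M₂ ≠ ⊥) (hcomm : ∀ a ∈ M₁, ∀ b ∈ M₂, a * b = b * a)
    (δ : Ω) : Nonempty (M₂ ≃* M₁) := by
  classical
  have hreg1 : ∀ m ∈ M₁, m • δ = δ → m = 1 := by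
    intro m hm hfix
    exact eq_one_of_cent_fix hprim M₂ h2 m (fun b hb => hcomm m hm b hb) δ hfix
  have hreg2 : ∀ m ∈ M₂, m • δ = δ → m = 1 := by
    intro m hm hfix
    exact eq_one_of_cent_fix hprim M₁ h1 m (fun b hb => (hcomm b hb m hm).symm) δ hfix
  have hex : ∀ b : M₂, ∃ a : M₁, (a : G) • δ = (b : G) • δ := by
    intro b
    obtain ⟨a, ha, h⟩ := trans_of_normal hprim M₁ h1 δ ((b : G) • δ)
    exact ⟨⟨a, ha⟩, h⟩
  let f : M₂ → M₁ := fun b => (hex b).choose
  have hf : ∀ b : M₂, ((f b : M₁) : G) • δ = (b : G) • δ := fun b => (hex b).choose_spec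
  have huniq : ∀ (b : M₂) (a : M₁), (a : G) • δ = (b : G) • δ → f b = a := by
    intro b a ha
    have h3 : ((f b : G)⁻¹ * (a : G)) • δ = δ := by
      rw [mul_smul, ha, ← hf b, inv_smul_smul]
    have := hreg1 _ (M₁.mul_mem (inv_mem (f b).2) a.2) h3
    rw [inv_mul_eq_one] at this
    exact Subtype.ext this
  have hanti : ∀ a b : M₂, f (a * b) = f b * f a := by
    intro a b
    apply huniq
    rw [Subgroup.coe_mul, Subgroup.coe_mul, mul_smul, hf a, ← mul_smul,
      hcomm _ (f b).2 _ a.2, mul_smul, hf b, mul_smul]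
  let θ : M₂ →* M₁ := MonoidHom.mk' (fun b => (f b)⁻¹) (by
    intro a b
    rw [hanti, mul_inv_rev])
  have hθ : ∀ b, θ b = (f b)⁻¹ := fun b => rfl
  refine ⟨MulEquiv.ofBijective θ ⟨?_, ?_⟩⟩
  · rw [injective_iff_map_eq_one]
    intro b hb
    rw [hθ, inv_eq_one] at hb
    have := hf b
    rw [hb, Subgroup.coe_one, one_smul] at this
    exact Subtype.ext (hreg2 _ b.2 this.symm)
  · intro a
    obtain ⟨b, hb, h⟩ := trans_of_normal hprim M₂ h2 δ ((a : G)⁻¹ • δ)
    refine ⟨⟨b, hb⟩, ?_⟩
    rw [hθ]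
    have := huniq ⟨b, hb⟩ a⁻¹ (by rw [Subgroup.coe_inv]; exact h.symm)
    rw [this, inv_inv]

theorem main [Finite G] [Finite Ω] (hprim : IsPreprimitive G Ω) (N : Subgroup G)
    (hN : N = sSup {V : Subgroup G | V.Normal ∧ V ≠ ⊥ ∧
      ∀ M : Subgroup G, M.Normal → M ≤ V → M = ⊥ ∨ M = V}) :
    (∃ p : ℕ, p.Prime ∧ IsMulCommutative N ∧ (∀ x : N, x ^ p = 1) ∧
      IsPretransitive N Ω ∧ ∀ ω : Ω, stabilizer N ω = ⊥) ∨
    (∃ (T : Type) (_ : Group T) (m : ℕ), 1 ≤ m ∧ IsSimpleGroup T ∧ ¬ IsMulCommutative T ∧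
      Nonempty (N ≃* (Fin m → T))) := by
  classical
  have hN' : N = sSup {V : Subgroup G | MinN V} := hN
  by_cases hG : ∀ g : G, g = 1
  · -- trivial group
    left
    have hNbot : N = ⊥ := by
      rw [eq_bot_iff]
      intro x _
      rw [Subgroup.mem_bot]
      exact hG x
    refine ⟨2, Nat.prime_two, ⟨⟨fun a b => ?_⟩⟩, ?_, ?_, ?_⟩
    · apply Subtype.ext
      rw [hG (a * b : N).1, hG (b * a : N).1]
    · intro x
      apply Subtype.ext
      rw [hG (x ^ 2 : N).1]
      rfl
    · constructor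
      intro x y
      obtain ⟨g, hg⟩ := exists_smul_eq G x y
      rw [hG g, one_smul] at hg
      exact ⟨1, by rw [one_smul]; exact hg⟩
    · intro ω
      rw [eq_bot_iff]
      intro x _
      rw [Subgroup.mem_bot]
      apply Subtype.ext
      rw [hG x.1]
      rfl
  · push Not at hG
    obtain ⟨g₀, hg₀⟩ := hG
    -- a point
    obtain ⟨δ⟩ : Nonempty Ω := by
      by_contra hempty
      rw [not_nonempty_iff] at hempty
      apply hg₀
      apply FaithfulSMul.eq_of_smul_eq_smul (α := Ω)
      intro x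
      exact (hempty.false x).elim
    -- a minimal normal subgroup
    have hne : Nonempty {V : Subgroup G // V.Normal ∧ V ≠ ⊥} :=
      ⟨⟨⊤, inferInstance, by
        intro h
        have : g₀ ∈ (⊤ : Subgroup G) := trivial
        rw [h, Subgroup.mem_bot] at this
        exact hg₀ this⟩⟩
    obtain ⟨⟨V, hVn, hV1⟩, hVmin⟩ :=
      Finite.exists_min (fun V : {V : Subgroup G // V.Normal ∧ V ≠ ⊥} => Nat.card V.1)
    have hVM : MinN V := by
      refine ⟨hVn, hV1, ?_⟩
      intro M hMn hMV
      by_cases hM : M = ⊥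
      · exact Or.inl hM
      · right
        have h1 := hVmin ⟨M, hMn, hM⟩
        exact Subgroup.eq_of_le_of_card_ge hMV h1
    haveI := hVn
    by_cases hab : ∃ A : Subgroup G, MinN A ∧ ∀ a ∈ A, ∀ b ∈ A, a * b = b * a
    · -- abelian case
      left
      obtain ⟨A, hA, hAc⟩ := hab
      haveI := hA.1
      have hall : ∀ M : Subgroup G, MinN M → M = A := by
        intro M hM
        by_contra hne
        haveI := hM.1
        have hcomm := minN_comm hM hA hne
        have hMA : M ≤ A := by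
          intro m hm
          exact cent_le_of_abelian hprim A hA.2.1 hAc δ m (fun n hn => hcomm m hm n hn)
        have : M ≤ M ⊓ A := le_inf le_rfl hMA
        rw [minN_inf hM hA hne, le_bot_iff] at this
        exact hM.2.1 this
      have hNA : N = A := by
        rw [hN']
        apply le_antisymm
        · apply sSup_le
          intro M hM
          rw [hall M hM]
        · exact le_sSup hA
      rw [hNA]
      obtain ⟨p, hp, hexp⟩ := exists_prime_exponent hprim A hA.2.1 hAc δ
      refine ⟨p, hp, ⟨⟨fun a b => Subtype.ext (hAc a.1 a.2 b.1 b.2)⟩⟩, ?_, ?_, ?_⟩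
      · intro x
        exact Subtype.ext (hexp x.1 x.2)
      · constructor
        intro x y
        obtain ⟨n, hn, h⟩ := trans_of_normal hprim A hA.2.1 x y
        exact ⟨⟨n, hn⟩, h⟩
      · intro ω
        rw [eq_bot_iff]
        intro x hx
        rw [Subgroup.mem_bot]
        apply Subtype.ext
        exact regular_of_abelian hprim A hA.2.1 hAc x.1 x.2 ω (mem_stabilizer_iff.mp hx)
    · -- nonabelian case
      right
      push Not at hab
      obtain ⟨T, instT, m, hTs, hm, ⟨eV⟩⟩ :=
        Cfsg.Agent.Lib.Lead.MinNormalPower.min_normal_power V hV1 hVM.2.2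
      have hTna : ¬ IsMulCommutative T := by
        intro hT
        obtain ⟨a, ha, b, hb, hne⟩ := hab V hVM
        apply hne
        have h1 : eV (⟨a, ha⟩ * ⟨b, hb⟩) = eV (⟨b, hb⟩ * ⟨a, ha⟩) := by
          rw [map_mul, map_mul]
          funext i
          exact hT.is_comm.comm _ _
        exact congrArg Subtype.val (eV.injective h1)
      by_cases hone : ∀ M : Subgroup G, MinN M → M = V
      · have hNV : N = V := by
          rw [hN']
          apply le_antisymm
          · apply sSup_le
            intro M hM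
            rw [hone M hM]
          · exact le_sSup hVM
        rw [hNV]
        exact ⟨T, instT, m, hm, hTs, hTna, ⟨eV⟩⟩
      · push Not at hone
        obtain ⟨W, hW, hWV⟩ := hone
        haveI := hW.1
        have hcomm : ∀ a ∈ V, ∀ b ∈ W, a * b = b * a := minN_comm hVM hW (Ne.symm hWV)
        have hall : ∀ M : Subgroup G, MinN M → M = V ∨ M = W := by
          intro M hM
          by_cases hMV : M = V
          · exact Or.inl hMV
          · right
            haveI := hM.1
            have hc := minN_comm hM hVM hMV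
            have hMW : M ≤ W := by
              intro x hx
              exact cent_le hprim V W hV1 hW.2.1 hcomm δ x (fun v hv => hc x hx v hv)
            rcases hW.2.2 M hM.1 hMW with h | h
            · exact absurd h hM.2.1
            · exact h
        have hNVW : N = V ⊔ W := by
          rw [hN']
          apply le_antisymm
          · apply sSup_le
            intro M hM
            rcases hall M hM with h | h
            · rw [h]; exact le_sup_left
            · rw [h]; exact le_sup_right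
          · exact sup_le (le_sSup hVM) (le_sSup hW)
        rw [hNVW]
        obtain ⟨e1⟩ := Cfsg.Agent.Lib.Lead.MinNormalPower.sup_equiv_prod V W hcomm
          (minN_inf hVM hW (Ne.symm hWV))
        obtain ⟨e2⟩ := iso_of_comm hprim V W hV1 hW.2.1 hcomm δ
        refine ⟨T, instT, m + m, by omega, hTs, hTna, ⟨?_⟩⟩
        exact (e1.trans (MulEquiv.prodCongr eV (e2.trans eV))).trans (appendMulEquiv T m m)

end Cfsg.Agent.Lib.Helper4.PrimSocle
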