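import Cfsg.Agent.Lib.Helper4.CharFactor
import Cfsg.Agent.Lib.Helper4.SemiCount

/-!
# Classes of elements of prime order `r ≠ p` in `GL_n(q)`
-/

namespace Cfsg.Agent.Lib.Helper4.PrimeOrd

open Polynomial Matrix Cfsg.Agent.Lib.Helper4.SemiMod

section family

variable {F : Type*} [Field F] {ι : Type*} [Fintype ι] [DecidableEq ι]

/-- exponents in a product of powers of pairwise non-dividing irreducibles are unique -/
theorem exponents_unique (G : ι → F[X]) (hirr : ∀ k, Irreducible (G k))
    (hnd : ∀ k l, k ≠ l → ¬ G k ∣ G l) (a b : ι → ℕ)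
    (h : ∏ k, G k ^ a k = ∏ k, G k ^ b k) : a = b := by
  funext k
  have key : ∀ c : ι → ℕ, emultiplicity (G k) (∏ l, G l ^ c l) = c k := by
    intro c
    rw [Finset.emultiplicity_prod (hirr k).prime, Finset.sum_eq_single k]
    · exact emultiplicity_pow_self_of_prime (hirr k).prime _
    · intro l _ hl
      rw [emultiplicity_pow (hirr k).prime, emultiplicity_eq_zero.2 (hnd k l hl.symm), mul_zero]
    · simp
  have h1 := key a
  rw [h, key b] at h1
  exact_mod_cast h1.symm

lemma not_dvd_of_monic_irreducible_ne {P Q : F[X]} (hP : Irreducible P) (hQ : Irreducible Q)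
    (hPm : P.Monic) (hQm : Q.Monic) (hne : P ≠ Q) : ¬ P ∣ Q := by
  intro h
  exact hne (eq_of_monic_of_associated hPm hQm (hP.associated_of_dvd hQ h))

end family

section count

/-- stars and bars with slack -/
theorem card_sum_le (t m : ℕ) :
    Nat.card {c : Fin t → ℕ // ∑ j, c j ≤ m} = (m + t).choose t := by
  classical
  have e : {c : Fin t → ℕ // ∑ j, c j ≤ m} ≃ {P : Option (Fin t) → ℕ // ∑ o, P o = m} :=
    { toFun := fun c => ⟨fun o => o.elim (m - ∑ j, c.1 j) c.1, by
        rw [Fintype.sum_option]
        simp only [Option.elim]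
        have := c.2
        omega⟩
      invFun := fun P => ⟨fun j => P.1 (some j), by
        have := P.2
        rw [Fintype.sum_option] at this
        show ∑ j, P.1 (some j) ≤ m
        omega⟩
      left_inv := fun c => by
        apply Subtype.ext
        funext j
        rfl
      right_inv := fun P => by
        apply Subtype.ext
        funext o
        have := P.2
        rw [Fintype.sum_option] at this
        cases o with
        | none => simp only [Option.elim]; omega
        | some j => rfl }
  rw [Nat.card_congr e, Nat.card_congr (Sym.equivNatSumOfFintype (Option (Fin t)) m).symm,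
    Nat.card_eq_fintype_card, Sym.card_sym_eq_multichoose, Nat.multichoose_eq, Fintype.card_option,
    Fintype.card_fin]
  have : t + 1 + m - 1 = m + t := by omega
  rw [this, Nat.choose_symm_add]

theorem card_sum_le_ne_zero (t m : ℕ) :
    Nat.card {c : Fin t → ℕ // ∑ j, c j ≤ m ∧ c ≠ 0} = (m + t).choose t - 1 := by
  classical
  haveI : Finite {c : Fin t → ℕ // ∑ j, c j ≤ m} := by
    apply Nat.finite_of_card_ne_zero
    rw [card_sum_le]
    exact (Nat.choose_pos (by omega)).ne'
  letI : Fintype {c : Fin t → ℕ // ∑ j, c j ≤ m} := Fintype.ofFinite _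
  have e : {c : Fin t → ℕ // ∑ j, c j ≤ m ∧ c ≠ 0} ≃
      {x : {c : Fin t → ℕ // ∑ j, c j ≤ m} // ¬ (x = ⟨0, by simp⟩)} :=
    { toFun := fun c => ⟨⟨c.1, c.2.1⟩, fun h => c.2.2 (congrArg Subtype.val h)⟩
      invFun := fun x => ⟨x.1.1, x.1.2, fun h => x.2 (Subtype.ext h)⟩
      left_inv := fun c => rfl
      right_inv := fun x => rfl }
  rw [Nat.card_congr e, Nat.card_eq_fintype_card, Fintype.card_subtype_compl,
    Fintype.card_subtype_eq, ← Nat.card_eq_fintype_card, card_sum_le]

end count

end Cfsg.Agent.Lib.Helper4.PrimeOrd
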