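import Cfsg.Agent.Lib.Helper4.PrimeOrdGL2

/-!
# The factor family of `X^r - 1` over a finite field
-/

namespace Cfsg.Agent.Lib.Helper4.PrimeOrd

open Polynomial UniqueFactorizationMonoid

variable {F : Type*} [Field F] [Fintype F] (p : ℕ) [Fact p.Prime] [CharP F p]

theorem exists_family (r i t : ℕ) (hr : r.Prime) (hrp : r ≠ p)
    (hi : i = orderOf ((Fintype.card F : ℕ) : ZMod r)) (ht : t * i = r - 1) :
    ∃ f : Fin t → F[X], FamHyp r i t f := by
  classical
  haveI : Fact r.Prime := ⟨hr⟩
  obtain ⟨m, hpm, hcard⟩ := FiniteField.card F p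
  have hn : p.Coprime r := (Nat.coprime_primes (Fact.out : p.Prime) hr).2 hrp.symm
  have hr1 : 1 < r := hr.one_lt
  have hipos : 0 < i := by
    rcases Nat.eq_zero_or_pos i with h | h
    · rw [h, mul_zero] at ht; omega
    · exact h
  have hrF : (r : F) ≠ 0 := by
    intro h
    rw [CharP.cast_eq_zero_iff F p] at h
    exact hrp ((Nat.prime_dvd_prime_iff_eq (Fact.out : p.Prime) hr).1 h).symm
  set S := (normalizedFactors (cyclotomic r F)).toFinset with hS
  have horder : orderOf (ZMod.unitOfCoprime (p ^ (m : ℕ)) (hn.pow_left m)) = i := by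
    rw [← orderOf_units, ZMod.coe_unitOfCoprime, hi, hcard]
  have hcardS : S.card = t := by
    rw [hS, normalizedFactors_cyclotomic_card hcard hn, horder, Nat.totient_prime hr, ← ht]
    exact Nat.mul_div_cancel _ hipos
  let e : S ≃ Fin t := S.equivFinOfCardEq hcardS
  have hmem : ∀ P : F[X], P ∈ S ↔ P ∈ normalizedFactors (cyclotomic r F) := by
    intro P; rw [hS, Multiset.mem_toFinset]
  have h0 : cyclotomic r F ≠ 0 := cyclotomic_ne_zero r F
  have hdvdX : cyclotomic r F ∣ X ^ r - 1 := cyclotomic.dvd_X_pow_sub_one r F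
  have hnot1 : ¬ (X - C 1 : F[X]) ∣ cyclotomic r F := by
    rw [dvd_iff_isRoot, IsRoot.def, eval_one_cyclotomic_prime]
    exact hrF
  refine ⟨fun j => (e.symm j).1, ?_⟩
  refine
    { rpos := by omega
      ipos := hipos
      monic := ?_
      irr := ?_
      deg := ?_
      inj := ?_
      ne1 := ?_
      dvd := ?_
      cov := ?_ }
  · intro j
    have hP := (hmem _).1 (e.symm j).2
    have h1 := normalize_normalized_factor _ hP
    rw [← h1]
    exact monic_normalize (irreducible_of_normalized_factor _ hP).ne_zero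
  · intro j
    exact irreducible_of_normalized_factor _ ((hmem _).1 (e.symm j).2)
  · intro j
    rw [natDegree_of_mem_normalizedFactors_cyclotomic hcard hn ((hmem _).1 (e.symm j).2), horder]
  · intro j j' h
    exact e.symm.injective (Subtype.ext h)
  · intro j h
    apply hnot1
    rw [← h]
    exact dvd_of_mem_normalizedFactors ((hmem _).1 (e.symm j).2)
  · intro j
    exact (dvd_of_mem_normalizedFactors ((hmem _).1 (e.symm j).2)).trans hdvdX
  · intro π hπ hd
    have hfac : (X ^ r - 1 : F[X]) = cyclotomic r F * (X - C 1) := by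
      rw [map_one, cyclotomic_prime_mul_X_sub_one]
    rw [hfac] at hd
    rcases hπ.prime.dvd_mul.1 hd with h | h
    · right
      obtain ⟨Q, hQ, hQa⟩ := exists_mem_normalizedFactors_of_dvd h0 hπ h
      refine ⟨e ⟨Q, (hmem Q).2 hQ⟩, ?_⟩
      simp only [Equiv.symm_apply_apply]
      exact hQa
    · left
      exact hπ.associated_of_dvd (irreducible_X_sub_C 1) h

end Cfsg.Agent.Lib.Helper4.PrimeOrd
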