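import Mathlib

/-! # S3366 part 1: the model `3^{1+2} ⋊ SL₂(3)` and facts about `SL₂(3)` -/

set_option autoImplicit false

namespace Cfsg.Agent.Lib.Helper4.Ps

open Matrix

abbrev SL23 : Type := Matrix.SpecialLinearGroup (Fin 2) (ZMod 3)

/-- `-1` in `SL₂(3)`. -/
def negI : SL23 := ⟨!![-1, 0; 0, -1], by decide⟩

theorem card_SL23 : Fintype.card SL23 = 24 := by decide

theorem nat_card_SL23 : Nat.card SL23 = 24 := by
  rw [Nat.card_eq_fintype_card]; exact card_SL23

theorem negI_ne_one : negI ≠ 1 := by decide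

theorem negI_sq : negI * negI = 1 := by decide

theorem negI_central : ∀ g : SL23, negI * g = g * negI := by decide

/-- every element is a product of two squares -/
theorem factA : ∀ g : SL23, ∃ a b : SL23, g = a * a * (b * b) := by decide

/-- the only involution is `-1` -/
theorem factE : ∀ g : SL23, g * g = 1 → g = 1 ∨ g = negI := by decide

theorem factD : ∀ g h : SL23, g ^ 4 = 1 → h ^ 4 = 1 → (g * h) ^ 4 = 1 := by decide

theorem factD8 : ∀ g : SL23, g ^ 8 = 1 → g ^ 4 = 1 := by decide

theorem factD_card : Fintype.card {g : SL23 // g ^ 4 = 1} = 8 := by decide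

theorem factB : ∀ g : SL23, g ≠ 1 →
    g = negI ∨ g * g = negI ∨ g * g * g = negI ∨
      ∃ h : SL23, (g * (h * g * h⁻¹) * g) * (g * (h * g * h⁻¹) * g) = negI := by decide


/-! ### the Heisenberg group of order 27 (symmetric cocycle) -/

@[ext] structure H27 where
  a : ZMod 3
  b : ZMod 3
  c : ZMod 3
  deriving DecidableEq

namespace H27

instance : Mul H27 := ⟨fun h k => ⟨h.a + k.a, h.b + k.b, h.c + k.c + k.a * h.b - h.a * k.b⟩⟩
instance : One H27 := ⟨⟨0, 0, 0⟩⟩
instance : Inv H27 := ⟨fun h => ⟨-h.a, -h.b, -h.c⟩⟩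

@[simp] theorem mul_a (h k : H27) : (h * k).a = h.a + k.a := rfl
@[simp] theorem mul_b (h k : H27) : (h * k).b = h.b + k.b := rfl
@[simp] theorem mul_c (h k : H27) : (h * k).c = h.c + k.c + k.a * h.b - h.a * k.b := rfl
@[simp] theorem one_a : (1 : H27).a = 0 := rfl
@[simp] theorem one_b : (1 : H27).b = 0 := rfl
@[simp] theorem one_c : (1 : H27).c = 0 := rfl
@[simp] theorem inv_a (h : H27) : (h⁻¹).a = -h.a := rfl
@[simp] theorem inv_b (h : H27) : (h⁻¹).b = -h.b := rfl
@[simp] theorem inv_c (h : H27) : (h⁻¹).c = -h.c := rfl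

instance : Group H27 where
  mul_assoc x y z := by ext <;> simp <;> ring
  one_mul x := by ext <;> simp
  mul_one x := by ext <;> simp
  inv_mul_cancel x := by ext <;> simp <;> ring

def equivProd : H27 ≃ ZMod 3 × ZMod 3 × ZMod 3 where
  toFun h := (h.a, h.b, h.c)
  invFun t := ⟨t.1, t.2.1, t.2.2⟩
  left_inv _ := rfl
  right_inv _ := rfl

instance : Fintype H27 := Fintype.ofEquiv _ equivProd.symm

theorem card_eq : Nat.card H27 = 27 := by
  rw [Nat.card_congr equivProd, Nat.card_prod, Nat.card_prod, Nat.card_zmod]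

/-- the action of `SL₂(3)` -/
def actFun (A : SL23) : H27 →* H27 where
  toFun h := ⟨A.1 0 0 * h.a + A.1 0 1 * h.b, A.1 1 0 * h.a + A.1 1 1 * h.b, h.c⟩
  map_one' := by ext <;> simp
  map_mul' h k := by
    have hdet : A.1 0 0 * A.1 1 1 - A.1 0 1 * A.1 1 0 = 1 := by
      have := A.2; rwa [Matrix.det_fin_two] at this
    ext
    · simp; ring
    · simp; ring
    · simp only [mul_c]
      linear_combination (h.a * k.b - k.a * h.b) * hdet

theorem actFun_one : actFun 1 = MonoidHom.id H27 := by
  ext h <;> simp [actFun]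

theorem actFun_mul (A B : SL23) : actFun (A * B) = (actFun A).comp (actFun B) := by
  ext h
  · simp [actFun, Matrix.mul_apply, Fin.sum_univ_two]; ring
  · simp [actFun, Matrix.mul_apply, Fin.sum_univ_two]; ring
  · simp [actFun]

def actAut (A : SL23) : MulAut H27 where
  toFun := actFun A
  invFun := actFun A⁻¹
  left_inv h := by
    have := congrArg (fun f : H27 →* H27 => f h) (actFun_mul A⁻¹ A)
    simp only [inv_mul_cancel, actFun_one, MonoidHom.id_apply, MonoidHom.comp_apply] at this
    exact this.symm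
  right_inv h := by
    have := congrArg (fun f : H27 →* H27 => f h) (actFun_mul A A⁻¹)
    simp only [mul_inv_cancel, actFun_one, MonoidHom.id_apply, MonoidHom.comp_apply] at this
    exact this.symm
  map_mul' := (actFun A).map_mul

@[simp] theorem actAut_apply (A : SL23) (h : H27) : actAut A h = actFun A h := rfl

def actHom : SL23 →* MulAut H27 where
  toFun := actAut
  map_one' := by
    ext h : 1
    show actFun 1 h = h
    rw [actFun_one]; rfl
  map_mul' A B := by
    ext h : 1
    show actFun (A * B) h = actFun A (actFun B h)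
    rw [actFun_mul]; rfl

@[simp] theorem actHom_apply (A : SL23) (h : H27) : actHom A h = actFun A h := rfl

end H27

/-- the model group of order 648 -/
abbrev M648 : Type := H27 ⋊[H27.actHom] SL23

theorem card_M648 : Nat.card M648 = 648 := by
  rw [Nat.card_congr SemidirectProduct.equivProd, Nat.card_prod, H27.card_eq, nat_card_SL23]

end Cfsg.Agent.Lib.Helper4.Ps
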