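import Mathlib
import Cfsg.Agent.Lib.Helper4.Ps1
import Cfsg.Agent.Lib.Helper1.ES4

/-! # S3366 part 2: coordinates on an extraspecial group of order 27 and exponent 3 -/

set_option autoImplicit false
set_option linter.deprecated false
set_option linter.style.haveILetI false

namespace Cfsg.Agent.Lib.Helper4.Ps

open Cfsg.Agent.Lib.Helper1.ES

section general

variable {E : Type*} [Group E]

theorem zp3_one (g : E) : zp 3 g 1 = g := by
  unfold zp
  have : (1 : ZMod 3).val = 1 := by decide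
  rw [this, pow_one]

theorem zp3_two (g : E) : zp 3 g 2 = g * g := by
  unfold zp
  have : (2 : ZMod 3).val = 2 := by decide
  rw [this, pow_two]

theorem zp3_neg_one {g : E} (hg : g ^ 3 = 1) : zp 3 g (-1) = g⁻¹ := by
  rw [zp_neg hg, zp3_one]

theorem zp3_pow3 (g : E) (hg : g ^ 3 = 1) (t : ZMod 3) : (zp 3 g t) ^ 3 = 1 := by
  unfold zp
  rw [← pow_mul, mul_comm, pow_mul, hg, one_pow]

theorem zp3_zp {g : E} (hg : g ^ 3 = 1) (s t : ZMod 3) : zp 3 (zp 3 g s) t = zp 3 g (s * t) := by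
  unfold zp
  rw [← pow_mul, ZMod.val_mul, ← pow_eq_pow_mod _ hg]

theorem zp3_inv (g : E) (t : ZMod 3) : zp 3 g⁻¹ t = (zp 3 g t)⁻¹ := by
  unfold zp
  rw [inv_pow]

theorem zp3_map {E' : Type*} [Group E'] (f : E →* E') (g : E) (t : ZMod 3) :
    f (zp 3 g t) = zp 3 (f g) t := by
  unfold zp
  rw [map_pow]

theorem zp3_all (g : E) (hg : g ^ 3 = 1) (k : ℕ) : g ^ k = zp 3 g (k : ZMod 3) :=
  (zp_natCast hg k).symm

theorem three_eq_zero : (3 : ZMod 3) = 0 := by decide

/-- the multiplication rule for normal forms -/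
theorem nf_mul {x y z : E} (hzc : ∀ g : E, z * g = g * z) (hz3 : z ^ 3 = 1) (hx3 : x ^ 3 = 1)
    (hy3 : y ^ 3 = 1) (hxy : x * y = y * x * z) (a b s a' b' s' : ZMod 3) :
    zp 3 x a * zp 3 y b * zp 3 z s * (zp 3 x a' * zp 3 y b' * zp 3 z s') =
      zp 3 x (a + a') * zp 3 y (b + b') * zp 3 z (s + s' - a' * b) := by
  have c1 : ∀ (t : ZMod 3) (g : E), zp 3 z t * g = g * zp 3 z t := zp_commute hzc
  have h1 : zp 3 x a' * zp 3 y b = zp 3 y b * zp 3 x a' * zp 3 z (a' * b) :=
    zp_rel hzc hz3 hxy a' b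
  have h2 : zp 3 y b * zp 3 x a' = zp 3 x a' * zp 3 y b * zp 3 z (-(a' * b)) := by
    rw [h1, mul_assoc, ← zp_add hz3, add_neg_cancel, zp_zero, mul_one]
  calc zp 3 x a * zp 3 y b * zp 3 z s * (zp 3 x a' * zp 3 y b' * zp 3 z s')
      = zp 3 x a * zp 3 y b * (zp 3 x a' * zp 3 y b') * (zp 3 z s * zp 3 z s') := by
        rw [mul_assoc _ (zp 3 z s), ← mul_assoc (zp 3 z s), c1 s (zp 3 x a' * zp 3 y b')]
        simp only [mul_assoc]
    _ = zp 3 x a * (zp 3 y b * zp 3 x a') * zp 3 y b' * (zp 3 z s * zp 3 z s') := by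
        simp only [mul_assoc]
    _ = zp 3 x a * (zp 3 x a' * zp 3 y b * zp 3 z (-(a' * b))) * zp 3 y b' *
          (zp 3 z s * zp 3 z s') := by rw [h2]
    _ = zp 3 x a * zp 3 x a' * (zp 3 y b * zp 3 y b') *
          (zp 3 z (-(a' * b)) * (zp 3 z s * zp 3 z s')) := by
        rw [mul_assoc (zp 3 x a) _ (zp 3 y b'), mul_assoc (zp 3 x a' * zp 3 y b),
          c1 (-(a' * b)) (zp 3 y b')]
        simp only [mul_assoc]
    _ = zp 3 x (a + a') * zp 3 y (b + b') * zp 3 z (s + s' - a' * b) := by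
        rw [← zp_add hx3, ← zp_add hy3, ← zp_add hz3, ← zp_add hz3]
        congr 2
        ring

end general

section coords

variable {E : Type*} [Group E] {z : E}

/-- the coordinate map attached to a hyperbolic pair -/
noncomputable def phi (hd : Data 3 z) (hexp : ∀ g : E, g ^ 3 = 1) {x y : E}
    (hxy : x * y = y * x * z) : H27 →* E where
  toFun h := zp 3 x h.a * zp 3 y h.b * zp 3 z (h.c + h.a * h.b)
  map_one' := by
    simp only [H27.one_a, H27.one_b, H27.one_c, mul_zero, add_zero, zp_zero, mul_one]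
  map_mul' h k := by
    rw [nf_mul hd.central hd.pow_p (hexp x) (hexp y) hxy]
    simp only [H27.mul_a, H27.mul_b, H27.mul_c]
    congr 2
    linear_combination (k.a * h.b) * three_eq_zero

theorem phi_apply (hd : Data 3 z) (hexp : ∀ g : E, g ^ 3 = 1) {x y : E}
    (hxy : x * y = y * x * z) (h : H27) :
    phi hd hexp hxy h = zp 3 x h.a * zp 3 y h.b * zp 3 z (h.c + h.a * h.b) := rfl

theorem kap_xy (hd : Data 3 z) {x y : E} (hxy : x * y = y * x * z) : kap hd x y = 1 := by
  apply kap_unique hd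
  rw [zp3_one]; exact hxy

theorem kap_phi_left (hd : Data 3 z) (hexp : ∀ g : E, g ^ 3 = 1) {x y : E}
    (hxy : x * y = y * x * z) (h : H27) (g : E) :
    kap hd (phi hd hexp hxy h) g = h.a * kap hd x g + h.b * kap hd y g := by
  rw [phi_apply, kap_mul_left, kap_mul_left, kap_zp_left, kap_zp_left, kap_zp_left, kap_z_left]
  ring

theorem phi_injective (hd : Data 3 z) (hexp : ∀ g : E, g ^ 3 = 1) {x y : E}
    (hxy : x * y = y * x * z) : Function.Injective (phi hd hexp hxy) := by
  rw [injective_iff_map_eq_one]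
  intro h hh
  have h1 := kap_phi_left hd hexp hxy h y
  have h2 := kap_phi_left hd hexp hxy h x
  rw [hh, kap_one_left, kap_xy hd hxy, kap_self] at h1
  rw [hh, kap_one_left, kap_self, kap_symm hd x y, kap_xy hd hxy] at h2
  have ha : h.a = 0 := by linear_combination -h1
  have hb : h.b = 0 := by linear_combination h2
  rw [phi_apply, ha, hb, zp_zero, zp_zero, one_mul, one_mul, mul_zero, add_zero] at hh
  have hc : h.c = 0 := (zp_eq_one_iff hd.ne_one hd.pow_p _).mp hh
  ext
  · exact ha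
  · exact hb
  · exact hc

theorem phi_bijective [Finite E] (hd : Data 3 z) (hexp : ∀ g : E, g ^ 3 = 1)
    (hcard : Nat.card E = 27) {x y : E}
    (hxy : x * y = y * x * z) : Function.Bijective (phi hd hexp hxy) := by
  rw [Nat.bijective_iff_injective_and_card]
  exact ⟨phi_injective hd hexp hxy, by rw [H27.card_eq, hcard]⟩

theorem phi_surjective [Finite E] (hd : Data 3 z) (hexp : ∀ g : E, g ^ 3 = 1)
    (hcard : Nat.card E = 27) {x y : E}
    (hxy : x * y = y * x * z) : Function.Surjective (phi hd hexp hxy) :=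
  (phi_bijective hd hexp hcard hxy).2

theorem phi_z (hd : Data 3 z) (hexp : ∀ g : E, g ^ 3 = 1) {x y : E}
    (hxy : x * y = y * x * z) (c : ZMod 3) : phi hd hexp hxy ⟨0, 0, c⟩ = zp 3 z c := by
  rw [phi_apply]
  simp only [zp_zero, one_mul, mul_zero, add_zero]

theorem phi_x (hd : Data 3 z) (hexp : ∀ g : E, g ^ 3 = 1) {x y : E}
    (hxy : x * y = y * x * z) : phi hd hexp hxy ⟨1, 0, 0⟩ = x := by
  rw [phi_apply]
  simp only [zp_zero, mul_one, mul_zero, add_zero, zp3_one]

theorem phi_y (hd : Data 3 z) (hexp : ∀ g : E, g ^ 3 = 1) {x y : E}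
    (hxy : x * y = y * x * z) : phi hd hexp hxy ⟨0, 1, 0⟩ = y := by
  rw [phi_apply]
  simp only [zp_zero, mul_one, one_mul, add_zero, zp3_one]

/-- the commutator pairing in coordinates -/
theorem kap_phi (hd : Data 3 z) (hexp : ∀ g : E, g ^ 3 = 1) {x y : E}
    (hxy : x * y = y * x * z) (h k : H27) :
    kap hd (phi hd hexp hxy h) (phi hd hexp hxy k) = h.a * k.b - k.a * h.b := by
  rw [kap_phi_left, kap_symm hd _ x, kap_symm hd _ y, kap_phi_left, kap_phi_left, kap_self,
    kap_self, kap_xy hd hxy, kap_symm hd x y, kap_xy hd hxy]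
  ring

/-- existence of a non-commuting pair -/
theorem exists_noncomm [Finite E] (hd : Data 3 z) (hcard : Nat.card E = 27) :
    ∃ x y : E, kap hd x y ≠ 0 := by
  by_contra hcon
  push Not at hcon
  have hall : ∀ g : E, ∃ k : ℕ, g = z ^ k := by
    intro g
    apply hd.center_sub
    intro h
    exact (kap_eq_zero_iff hd g h).mp (hcon g h)
  have hsurj : Function.Surjective (fun t : ZMod 3 => zp 3 z t) := by
    intro g
    obtain ⟨k, hk⟩ := hall g
    exact ⟨(k : ZMod 3), by rw [hk]; exact (zp3_all z hd.pow_p k).symm⟩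
  have := Nat.card_le_card_of_surjective _ hsurj
  rw [hcard, Nat.card_zmod] at this
  omega

/-- a hyperbolic pair exists -/
theorem exists_pair [Finite E] (hd : Data 3 z) (hcard : Nat.card E = 27) :
    ∃ x y : E, x * y = y * x * z := by
  obtain ⟨x, y, hxy⟩ := exists_noncomm hd hcard
  refine ⟨x, zp 3 y (kap hd x y)⁻¹, ?_⟩
  have h1 := kap_spec hd x (zp 3 y (kap hd x y)⁻¹)
  rw [kap_zp_right, inv_mul_cancel₀ hxy, zp3_one] at h1
  exact h1

/-- normalise a non-commuting pair -/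
theorem pair_of_noncomm (hd : Data 3 z) {x y : E} (hxy : kap hd x y ≠ 0) :
    x * zp 3 y (kap hd x y)⁻¹ = zp 3 y (kap hd x y)⁻¹ * x * z := by
  have h1 := kap_spec hd x (zp 3 y (kap hd x y)⁻¹)
  rw [kap_zp_right, inv_mul_cancel₀ hxy, zp3_one] at h1
  exact h1

/-- the centraliser of a non-central element -/
theorem comm_noncentral [Finite E] (hd : Data 3 z) (hexp : ∀ g : E, g ^ 3 = 1)
    (hcard : Nat.card E = 27) {u : E} (hu : ∃ g, kap hd u g ≠ 0) {r : E} (hr : kap hd u r = 0) :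
    ∃ i k : ZMod 3, r = zp 3 u i * zp 3 z k := by
  obtain ⟨g, hg⟩ := hu
  have hp := pair_of_noncomm hd hg
  obtain ⟨h, hh⟩ := phi_surjective hd hexp hcard hp r
  have h1 := kap_phi_left hd hexp hp h u
  rw [hh, kap_symm hd u r, hr, kap_self, kap_symm hd u _, kap_xy hd hp] at h1
  have hb : h.b = 0 := by linear_combination h1
  refine ⟨h.a, h.c, ?_⟩
  rw [← hh, phi_apply, hb, zp_zero, mul_one, mul_zero, add_zero]

end coords

end Cfsg.Agent.Lib.Helper4.Ps
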