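import Mathlib
import Cfsg.Agent.Lib.Helper4.Ps2

/-! # S3366 part 3: an involutory automorphism of `3^{1+2}` fixing the centre -/

set_option autoImplicit false
set_option linter.deprecated false
set_option linter.style.haveILetI false

namespace Cfsg.Agent.Lib.Helper4.Ps

open Cfsg.Agent.Lib.Helper1.ES

theorem zmod3_add_self : ∀ i : ZMod 3, i + i = 0 → i = 0 := by decide

theorem zmod3_eq_neg : ∀ i : ZMod 3, i = -i → i = 0 := by decide

theorem zmod3_triple : ∀ i : ZMod 3, i + i + i = 0 := by decide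

section aut

variable {E : Type*} [Group E] {z : E}

theorem zp3_aut (β : MulAut E) (g : E) (t : ZMod 3) : β (zp 3 g t) = zp 3 (β g) t := by
  unfold zp
  rw [map_pow]

theorem kap_aut (hd : Data 3 z) (β : MulAut E) (hβz : β z = z) (a b : E) :
    kap hd (β a) (β b) = kap hd a b := by
  apply kap_unique hd
  have h := congrArg β (kap_spec hd a b)
  rw [map_mul, map_mul, map_mul, zp3_aut, hβz] at h
  exact h

variable (hd : Data 3 z) (hexp : ∀ g : E, g ^ 3 = 1)
  (α : MulAut E) (hα2 : ∀ r, α (α r) = r) (hαz : α z = z)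

include hd hα2 hαz in
theorem fixed_of_fixed_mod {f : E} {i : ZMod 3} (hf : α f = f * zp 3 z i) : i = 0 := by
  have h1 : α (α f) = f * zp 3 z (i + i) := by
    rw [hf, map_mul, zp3_aut, hαz, hf, mul_assoc, ← zp_add hd.pow_p]
  rw [hα2] at h1
  have h2 : zp 3 z (i + i) = 1 := by
    have := h1.symm
    rwa [mul_eq_left] at this
  exact zmod3_add_self i ((zp_eq_one_iff hd.ne_one hd.pow_p _).mp h2)

include hα2 hαz in
theorem comm_alpha (r : E) : kap hd r (α r) = 0 := by
  have h1 : α (r * α r) = r * α r * zp 3 z (kap hd (α r) r) := by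
    rw [map_mul, hα2]
    exact kap_spec hd (α r) r
  have h2 := fixed_of_fixed_mod hd α hα2 hαz h1
  rw [kap_symm hd (α r) r, h2, neg_zero]

include hd hα2 hαz in
theorem fr_fixed (r : E) : α (r * α r) = r * α r := by
  rw [map_mul, hα2]
  exact ((kap_eq_zero_iff hd r (α r)).mp (comm_alpha hd α hα2 hαz r)).symm

include hαz in
theorem fix_inv_comm {f i : E} (hf : α f = f) (hi : α i = i⁻¹) : kap hd f i = 0 := by
  have h1 := kap_aut hd α hαz f i
  rw [hf, hi, kap_inv_right] at h1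
  exact zmod3_eq_neg _ h1.symm

include hd hexp hα2 hαz in
theorem decomp (r : E) : r⁻¹ = (r * α r) * (r * (α r)⁻¹) := by
  have hc : r * α r = α r * r := (kap_eq_zero_iff hd r (α r)).mp (comm_alpha hd α hα2 hαz r)
  have h3 : r * r * r = 1 := by
    have := hexp r
    rwa [pow_succ, pow_two] at this
  calc r⁻¹ = r * r := by
        rw [inv_eq_iff_mul_eq_one]
        rw [← mul_assoc]; exact h3
    _ = r * (α r * r) * (α r)⁻¹ := by rw [← hc]; group
    _ = (r * α r) * (r * (α r)⁻¹) := by group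

theorem inv_part (r : E) (hα2' : ∀ r, α (α r) = r) : α (r * (α r)⁻¹) = (r * (α r)⁻¹)⁻¹ := by
  rw [map_mul, map_inv, hα2']
  group

include hd hexp hα2 hαz in
/-- the main step: `α` inverts the group modulo its centre -/
theorem inverts_mod [Finite E] (hcard : Nat.card E = 27) (hα1 : ∃ r, α r ≠ r) (r : E) :
    ∃ k : ZMod 3, α r = r⁻¹ * zp 3 z k := by
  by_contra hcon
  push Not at hcon
  set f := r * α r with hf
  have hff : α f = f := fr_fixed hd α hα2 hαz r
  -- f is not central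
  have hnc : ∃ s, kap hd f s ≠ 0 := by
    by_contra h0
    push Not at h0
    obtain ⟨k, hk⟩ := hd.center_sub f (fun h => (kap_eq_zero_iff hd f h).mp (h0 h))
    apply hcon (k : ZMod 3)
    rw [← zp3_all z hd.pow_p k, ← hk, hf]
    group
  obtain ⟨s, hs⟩ := hnc
  have hs' : kap hd f (s * α s) ≠ 0 := by
    have h1 : kap hd f s⁻¹ ≠ 0 := by
      rw [kap_inv_right]; exact neg_ne_zero.mpr hs
    rw [decomp hd hexp α hα2 hαz s, kap_mul_right,
      fix_inv_comm hd α hαz hff (inv_part α s hα2), add_zero] at h1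
    exact h1
  obtain ⟨y, hy⟩ : ∃ y, y = zp 3 (s * α s) (kap hd f (s * α s))⁻¹ := ⟨_, rfl⟩
  have hp : f * y = y * f * z := by rw [hy]; exact pair_of_noncomm hd hs'
  have hyf : α y = y := by
    rw [hy, zp3_aut, fr_fixed hd α hα2 hαz s]
  obtain ⟨r0, hr0⟩ := hα1
  apply hr0
  obtain ⟨h, hh⟩ := phi_surjective hd hexp hcard hp r0
  rw [← hh, phi_apply, map_mul, map_mul, zp3_aut, zp3_aut, zp3_aut, hff, hyf, hαz]

end aut

section invset

variable {E : Type*} [Group E] {z : E}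
variable (hd : Data 3 z) (hexp : ∀ g : E, g ^ 3 = 1)
  (α : MulAut E) (hαz : α z = z)

include hd hαz in
/-- every coset of the centre contains an inverted element -/
theorem lift_inv {r : E} {k : ZMod 3} (hr : α r = r⁻¹ * zp 3 z k) :
    α (r * zp 3 z k) = (r * zp 3 z k)⁻¹ := by
  rw [map_mul, zp3_aut, hαz, hr, mul_inv_rev, ← zp_neg hd.pow_p, zp_commute hd.central,
    mul_assoc, ← zp_add hd.pow_p]
  congr 2
  linear_combination zmod3_triple k

include hd hαz in
/-- ... exactly one -/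
theorem inv_unique {u : E} {j : ZMod 3} (hu : α u = u⁻¹)
    (huj : α (u * zp 3 z j) = (u * zp 3 z j)⁻¹) : j = 0 := by
  rw [map_mul, zp3_aut, hαz, hu, mul_inv_rev, ← zp_neg hd.pow_p, zp_commute hd.central] at huj
  have h1 : zp 3 z j = zp 3 z (-j) := mul_left_cancel huj
  have h2 := zp_inj hd.ne_one hd.pow_p h1
  exact zmod3_eq_neg j h2

theorem inv_zp {u : E} (hu : α u = u⁻¹) (t : ZMod 3) : α (zp 3 u t) = (zp 3 u t)⁻¹ := by
  rw [zp3_aut, hu, zp3_inv]

theorem inv_inv_mem {u : E} (hu : α u = u⁻¹) : α u⁻¹ = (u⁻¹)⁻¹ := by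
  rw [map_inv, hu]

include hd hexp in
theorem fix_central {r : E} (hr : α r = r) {k : ZMod 3} (hk : α r = r⁻¹ * zp 3 z k) :
    r = zp 3 z (k + k) := by
  rw [hr] at hk
  have h3 : r * r * r = 1 := by
    have := hexp r
    rwa [pow_succ, pow_two] at this
  have h1 : r * r = zp 3 z k := by
    calc r * r = r * (r⁻¹ * zp 3 z k) := by rw [← hk]
      _ = zp 3 z k := by group
  calc r = (r * r) * (r * r) * (r * r * r)⁻¹ := by group
    _ = zp 3 z (k + k) := by rw [h3, h1, inv_one, mul_one, ← zp_add hd.pow_p]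

include hd hαz in
/-- a hyperbolic pair of inverted elements -/
theorem exists_inv_pair [Finite E] (hcard : Nat.card E = 27)
    (hinv : ∀ r : E, ∃ k : ZMod 3, α r = r⁻¹ * zp 3 z k) :
    ∃ x y : E, α x = x⁻¹ ∧ α y = y⁻¹ ∧ x * y = y * x * z := by
  obtain ⟨x0, y0, h0⟩ := exists_noncomm hd hcard
  obtain ⟨k, hk⟩ := hinv x0
  obtain ⟨k', hk'⟩ := hinv y0
  have hx1 := lift_inv hd α hαz hk
  have hy1 := lift_inv hd α hαz hk'
  have hkap : kap hd (x0 * zp 3 z k) (y0 * zp 3 z k') = kap hd x0 y0 := by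
    rw [kap_mul_left, kap_mul_right, kap_mul_right, kap_zp_left, kap_zp_left, kap_zp_right,
      kap_z_left, kap_z_left, kap_z_right]
    ring
  have h1 : kap hd (x0 * zp 3 z k) (y0 * zp 3 z k') ≠ 0 := by rw [hkap]; exact h0
  exact ⟨x0 * zp 3 z k, zp 3 (y0 * zp 3 z k') (kap hd (x0 * zp 3 z k) (y0 * zp 3 z k'))⁻¹,
    hx1, inv_zp α hy1 _, pair_of_noncomm hd h1⟩

end invset

section coords

variable {E : Type*} [Group E] {z : E}
variable (hd : Data 3 z) (hexp : ∀ g : E, g ^ 3 = 1)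
  (α : MulAut E) (hαz : α z = z) {x y : E} (hxy : x * y = y * x * z)
  (hx : α x = x⁻¹) (hy : α y = y⁻¹)

include hαz hx hy in
theorem alpha_phi (h : H27) :
    α (phi hd hexp hxy h) = phi hd hexp hxy ⟨-h.a, -h.b, h.c⟩ := by
  rw [phi_apply, phi_apply, map_mul, map_mul, zp3_aut, zp3_aut, zp3_aut, hx, hy, hαz,
    zp3_inv, zp3_inv, ← zp_neg (hexp x), ← zp_neg (hexp y)]
  congr 2
  ring

include hαz hx hy in
theorem phi_inv_iff (h : H27) :
    α (phi hd hexp hxy h) = (phi hd hexp hxy h)⁻¹ ↔ h.c = 0 := by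
  rw [alpha_phi hd hexp α hαz hxy hx hy, ← map_inv]
  constructor
  · intro h1
    have h2 := phi_injective hd hexp hxy h1
    have h3 := congrArg H27.c h2
    simp only [H27.inv_c] at h3
    exact zmod3_eq_neg _ h3
  · intro h1
    congr 1
    ext
    · simp
    · simp
    · simp [h1]

theorem H27_pow_aux : ∀ (a1 b1 a2 b2 : ZMod 3), a1 * b2 - a2 * b1 = 1 → ∀ (a b c : ZMod 3),
    (⟨a1, b1, 0⟩ : H27) ^ a.val * (⟨a2, b2, 0⟩ : H27) ^ b.val * ⟨0, 0, c + a * b⟩ =
      ⟨a1 * a + a2 * b, b1 * a + b2 * b, c⟩ := by decide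

include hαz hx hy in
/-- automorphisms commuting with `α` and fixing `z` act through `SL₂(3)` -/
theorem equivariant [Finite E] (hcard : Nat.card E = 27)
    (β : MulAut E) (hβz : β z = z) (hβα : ∀ r, β (α r) = α (β r)) :
    ∃ A : SL23, ∀ h : H27, β (phi hd hexp hxy h) = phi hd hexp hxy (H27.actFun A h) := by
  obtain ⟨h1, hh1⟩ := phi_surjective hd hexp hcard hxy (β x)
  obtain ⟨h2, hh2⟩ := phi_surjective hd hexp hcard hxy (β y)
  have hc1 : h1.c = 0 := by
    rw [← phi_inv_iff hd hexp α hαz hxy hx hy, hh1, ← hβα, hx, map_inv]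
  have hc2 : h2.c = 0 := by
    rw [← phi_inv_iff hd hexp α hαz hxy hx hy, hh2, ← hβα, hy, map_inv]
  have hdet : h1.a * h2.b - h2.a * h1.b = 1 := by
    rw [← kap_phi hd hexp hxy h1 h2, hh1, hh2, kap_aut hd β hβz, kap_xy hd hxy]
  have hdet' : Matrix.det !![h1.a, h2.a; h1.b, h2.b] = 1 := by
    rw [Matrix.det_fin_two_of]
    linear_combination hdet
  refine ⟨⟨!![h1.a, h2.a; h1.b, h2.b], hdet'⟩, ?_⟩
  intro h
  have e1 : h1 = ⟨h1.a, h1.b, 0⟩ := by ext <;> simp [hc1]
  have e2 : h2 = ⟨h2.a, h2.b, 0⟩ := by ext <;> simp [hc2]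
  have key := H27_pow_aux h1.a h1.b h2.a h2.b (by linear_combination hdet) h.a h.b h.c
  rw [← e1, ← e2] at key
  have : H27.actFun ⟨!![h1.a, h2.a; h1.b, h2.b], hdet'⟩ h =
      ⟨h1.a * h.a + h2.a * h.b, h1.b * h.a + h2.b * h.b, h.c⟩ := by
    ext <;> simp [H27.actFun]
  rw [this, ← key, map_mul, map_mul, map_pow, map_pow, hh1, hh2, phi_z]
  conv_lhs => rw [phi_apply, map_mul, map_mul, zp3_aut, zp3_aut, zp3_aut, hβz]
  rfl

theorem actFun_inj {A A' : SL23} (h : ∀ k : H27, H27.actFun A k = H27.actFun A' k) : A = A' := by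
  have h1 := h ⟨1, 0, 0⟩
  have h2 := h ⟨0, 1, 0⟩
  have h1a := congrArg H27.a h1
  have h1b := congrArg H27.b h1
  have h2a := congrArg H27.a h2
  have h2b := congrArg H27.b h2
  simp only [H27.actFun, MonoidHom.coe_mk, OneHom.coe_mk, mul_one, mul_zero, add_zero,
    zero_add] at h1a h1b h2a h2b
  apply Subtype.ext
  ext i j
  fin_cases i <;> fin_cases j
  · exact h1a
  · exact h2a
  · exact h1b
  · exact h2b

end coords

end Cfsg.Agent.Lib.Helper4.Ps
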