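import Mathlib
import Cfsg.Agent.Lib.Helper4.Ps1

/-! # S3366 part 4: a central extension of `SL₂(3)` by a `3`-group splits as soon as it has an
element of order `3` outside the kernel -/

set_option autoImplicit false
set_option linter.deprecated false
set_option linter.style.haveILetI false

namespace Cfsg.Agent.Lib.Helper4.Ps

theorem factG : ∀ A g : SL23, g ^ 3 = 1 → g ≠ 1 →
    ∃ q : SL23, q ^ 4 = 1 ∧ (A = q ∨ A = q * g ∨ A = q * (g * g)) := by decide

theorem factH : ∀ g : SL23, g ^ 4 = 1 → g ^ 3 = 1 → g = 1 := by decide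

theorem factI : ∀ g : SL23, g ^ 4 = 1 → (g⁻¹) ^ 4 = 1 := by decide

theorem nat_card_Q8 : Nat.card {g : SL23 // g ^ 4 = 1} = 8 := by
  rw [Nat.card_eq_fintype_card]; exact factD_card

section split

variable {L : Type*} [Group L] [Finite L] (ρ : L →* SL23)

omit [Finite L] in
theorem eight_dvd_card (hsurj : Function.Surjective ρ) : 2 ^ 3 ∣ Nat.card L := by
  have h1 := Subgroup.card_eq_card_quotient_mul_card_subgroup ρ.ker
  have h2 : Nat.card (L ⧸ ρ.ker) = 24 := by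
    rw [Nat.card_congr (QuotientGroup.quotientKerEquivOfSurjective ρ hsurj).toEquiv, nat_card_SL23]
  rw [h2] at h1
  rw [h1]
  exact Dvd.dvd.mul_right (by norm_num) _

omit [Finite L] in
theorem pow8_pow3 {l : L} (h8 : l ^ 8 = 1) (h3 : l ^ 3 = 1) : l = 1 := by
  have : l ^ 9 = 1 := by
    rw [show 9 = 3 * 3 by norm_num, pow_mul, h3, one_pow]
  calc l = l ^ 9 * (l ^ 8)⁻¹ := by group
    _ = 1 := by rw [this, h8, inv_one, mul_one]

theorem split_lemma (hsurj : Function.Surjective ρ)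
    (hker3 : ∀ k : L, ρ k = 1 → k ^ 3 = 1) (hkerc : ∀ k : L, ρ k = 1 → ∀ l : L, k * l = l * k)
    (g : L) (hg3 : g ^ 3 = 1) (hg : ρ g ≠ 1) :
    ∃ σ : SL23 →* L, ∀ A, ρ (σ A) = A := by
  haveI : Fact (Nat.Prime 2) := ⟨Nat.prime_two⟩
  obtain ⟨P, hP⟩ := Sylow.exists_subgroup_card_pow_prime 2 (eight_dvd_card ρ hsurj)
  have hP8 : ∀ p ∈ P, p ^ 8 = 1 := by
    intro p hp
    have := pow_card_eq_one' (G := P) (x := ⟨p, hp⟩)
    rw [hP] at this
    have h2 := congrArg Subtype.val this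
    simpa using h2
  have hPρ : ∀ p ∈ P, (ρ p) ^ 4 = 1 := by
    intro p hp
    apply factD8
    rw [← map_pow, hP8 p hp, map_one]
  -- the map from P to Q8 is bijective
  let f : P → {q : SL23 // q ^ 4 = 1} := fun p => ⟨ρ p.1, hPρ p.1 p.2⟩
  have hf : Function.Bijective f := by
    rw [Nat.bijective_iff_injective_and_card]
    refine ⟨?_, by rw [hP, nat_card_Q8]; norm_num⟩
    intro p p' hpp
    have h1 : ρ p.1 = ρ p'.1 := congrArg Subtype.val hpp
    have h2 : ρ (p.1⁻¹ * p'.1) = 1 := by rw [map_mul, map_inv, h1, inv_mul_cancel]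
    have h3 : p.1⁻¹ * p'.1 = 1 :=
      pow8_pow3 (hP8 _ (P.mul_mem (P.inv_mem p.2) p'.2)) (hker3 _ h2)
    apply Subtype.ext
    rw [inv_mul_eq_one] at h3
    exact h3
  -- characterisation of P
  have hchar : ∀ l : L, (ρ l) ^ 4 = 1 → l ^ 8 = 1 → l ∈ P := by
    intro l h4 h8
    obtain ⟨p, hp⟩ := hf.2 ⟨ρ l, h4⟩
    have hp' : ρ p.1 = ρ l := congrArg Subtype.val hp
    have hζ : ρ (p.1⁻¹ * l) = 1 := by rw [map_mul, map_inv, hp', inv_mul_cancel]
    have hc : Commute p.1 (p.1⁻¹ * l) := (hkerc _ hζ p.1).symm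
    have hl : l = p.1 * (p.1⁻¹ * l) := by group
    have h1 : (p.1⁻¹ * l) ^ 8 = 1 := by
      have h2 := hc.mul_pow 8
      rw [← hl, h8, hP8 p.1 p.2, one_mul] at h2
      exact h2.symm
    have h2 : p.1⁻¹ * l = 1 := pow8_pow3 h1 (hker3 _ hζ)
    rw [inv_mul_eq_one] at h2
    rw [← h2]; exact p.2
  have hnorm : ∀ l : L, ∀ p ∈ P, l * p * l⁻¹ ∈ P := by
    intro l p hp
    apply hchar
    · rw [map_mul, map_mul, map_inv, conj_pow, hPρ p hp, mul_one, mul_inv_cancel]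
    · rw [conj_pow, hP8 p hp, mul_one, mul_inv_cancel]
  haveI : P.Normal := ⟨fun p hp l => hnorm l p hp⟩
  have hρg3 : (ρ g) ^ 3 = 1 := by rw [← map_pow, hg3, map_one]
  have hog : orderOf (ρ g) = 3 := orderOf_eq_prime hρg3 hg
  set S' : Subgroup L := P ⊔ Subgroup.zpowers g with hS'
  have hmem : ∀ s ∈ S', ∃ p ∈ P, ∃ i : ℤ, s = p * g ^ i := by
    intro s hs
    have h1 : s ∈ ((P ⊔ Subgroup.zpowers g : Subgroup L) : Set L) := hs
    rw [Subgroup.normal_mul] at h1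
    obtain ⟨p, hp, w, hw, rfl⟩ := Set.mem_mul.mp h1
    obtain ⟨i, rfl⟩ := Subgroup.mem_zpowers_iff.mp hw
    exact ⟨p, hp, i, rfl⟩
  have hPS : P ≤ S' := le_sup_left
  have hgS : g ∈ S' := (le_sup_right : Subgroup.zpowers g ≤ S') (Subgroup.mem_zpowers g)
  have hinj : Function.Injective (ρ.comp S'.subtype) := by
    rw [injective_iff_map_eq_one]
    intro s hs
    obtain ⟨p, hp, i, hsi⟩ := hmem s.1 s.2
    have h1 : ρ p * (ρ g) ^ i = 1 := by
      have : ρ s.1 = 1 := hs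
      rw [hsi, map_mul, map_zpow] at this
      exact this
    have h2 : (ρ g) ^ i = (ρ p)⁻¹ := eq_inv_of_mul_eq_one_right h1
    have h3 : ((ρ g) ^ i) ^ 4 = 1 := by rw [h2]; exact factI _ (hPρ p hp)
    have h4 : ((ρ g) ^ i) ^ 3 = 1 := by
      rw [← zpow_natCast, ← zpow_mul, mul_comm, zpow_mul, zpow_natCast, hρg3, one_zpow]
    have h5 : (ρ g) ^ i = 1 := factH _ h3 h4
    have h6 : (3 : ℤ) ∣ i := by
      have := (orderOf_dvd_iff_zpow_eq_one (x := ρ g) (i := i)).mpr h5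
      rwa [hog] at this
    have h7 : g ^ i = 1 := by
      obtain ⟨j, rfl⟩ := h6
      rw [zpow_mul, show (3 : ℤ) = ((3 : ℕ) : ℤ) by norm_num, zpow_natCast, hg3, one_zpow]
    rw [h7, mul_one] at hsi
    have h8 : ρ p = 1 := by rw [h5, mul_one] at h1; exact h1
    have h9 : p = 1 := pow8_pow3 (hP8 p hp) (hker3 p h8)
    apply Subtype.ext
    rw [hsi, h9]; rfl
  have hsur : Function.Surjective (ρ.comp S'.subtype) := by
    intro A
    obtain ⟨q, hq4, hq⟩ := factG A (ρ g) hρg3 hg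
    obtain ⟨p, hp⟩ := hf.2 ⟨q, hq4⟩
    have hp' : ρ p.1 = q := congrArg Subtype.val hp
    rcases hq with h | h | h
    · exact ⟨⟨p.1, hPS p.2⟩, by rw [h, ← hp']; rfl⟩
    · refine ⟨⟨p.1 * g, S'.mul_mem (hPS p.2) hgS⟩, ?_⟩
      rw [h, ← hp']
      show ρ (p.1 * g) = _
      rw [map_mul]
    · refine ⟨⟨p.1 * (g * g), S'.mul_mem (hPS p.2) (S'.mul_mem hgS hgS)⟩, ?_⟩
      rw [h, ← hp']
      show ρ (p.1 * (g * g)) = _
      rw [map_mul, map_mul]
  let e : S' ≃* SL23 := MulEquiv.ofBijective (ρ.comp S'.subtype) ⟨hinj, hsur⟩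
  refine ⟨S'.subtype.comp e.symm.toMonoidHom, ?_⟩
  intro A
  have : e (e.symm A) = A := e.apply_symm_apply A
  exact this

end split

end Cfsg.Agent.Lib.Helper4.Ps
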