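import Mathlib
import Cfsg.Agent.Lib.Helper4.Ps3
import Cfsg.Agent.Lib.Helper4.Ps4

/-! # S3366 part 5: the group level, first half -/

set_option autoImplicit false
set_option linter.deprecated false
set_option linter.style.haveILetI false

namespace Cfsg.Agent.Lib.Helper4.Ps

open Cfsg.Agent.Lib.Helper1.ES

section grp

variable {X : Type*} [Group X] (R : Subgroup X) [R.Normal]

/-- the conjugation action on the normal subgroup `R` -/
def th : X →* MulAut ↥R := MulAut.conjNormal

theorem th_coe (x : X) (r : ↥R) : ((th R x r : ↥R) : X) = x * r * x⁻¹ :=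
  MulAut.conjNormal_apply x r

theorem th_mul (x y : X) (r : ↥R) : th R (x * y) r = th R x (th R y r) := by
  rw [map_mul]; rfl

theorem th_one (r : ↥R) : th R 1 r = r := by
  rw [map_one]; rfl

theorem th_inner (r a : ↥R) : th R (r : X) a = r * a * r⁻¹ := by
  apply Subtype.ext
  rw [th_coe]
  rfl

theorem zmod3_sq : ∀ κ : ZMod 3, κ ≠ 0 → κ * κ = 1 := by decide

theorem z_central {z : ↥R} (hd : Data 3 z) (pe : X →* SL23)
    (hsurj : Function.Surjective pe) (hker : ∀ x, pe x = 1 ↔ x ∈ R) (x : X) : th R x z = z := by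
  have hcen : ∀ x : X, ∃ κ : ZMod 3, th R x z = zp 3 z κ := by
    intro x
    have h1 : ∀ g : ↥R, th R x z * g = g * th R x z := by
      intro g
      have hg : th R x (th R x⁻¹ g) = g := by rw [← th_mul, mul_inv_cancel, th_one]
      rw [← hg, ← map_mul, ← map_mul, hd.central]
    obtain ⟨k, hk⟩ := hd.center_sub _ h1
    exact ⟨(k : ZMod 3), by rw [hk, zp3_all z hd.pow_p k]⟩
  have hsq : ∀ x : X, th R (x * x) z = z := by
    intro x
    obtain ⟨κ, hκ⟩ := hcen x
    have hκ0 : κ ≠ 0 := by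
      rintro rfl
      rw [zp_zero] at hκ
      exact hd.ne_one ((MulEquiv.map_eq_one_iff (th R x)).mp hκ)
    rw [th_mul, hκ, zp3_aut, hκ, zp3_zp hd.pow_p, zmod3_sq κ hκ0, zp3_one]
  have hR : ∀ r ∈ R, th R r z = z := by
    intro r hr
    have := th_inner R ⟨r, hr⟩ z
    rw [this, ← hd.central, mul_assoc, mul_inv_cancel, mul_one]
  obtain ⟨A, B, hAB⟩ := factA (pe x)
  obtain ⟨a, rfl⟩ := hsurj A
  obtain ⟨b, rfl⟩ := hsurj B
  have h1 : pe ((a * a * (b * b))⁻¹ * x) = 1 := by
    rw [map_mul, map_inv, hAB, map_mul, map_mul, map_mul, inv_mul_cancel]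
  have h2 := (hker _).mp h1
  obtain ⟨r0, hr0⟩ : ∃ r0, r0 = (a * a * (b * b))⁻¹ * x := ⟨_, rfl⟩
  rw [← hr0] at h2
  have hx : x = (a * a) * ((b * b) * r0) := by rw [hr0]; group
  rw [hx, th_mul R (a * a), th_mul R (b * b), hR r0 h2, hsq, hsq]

omit [R.Normal] in
theorem card_X [Finite X] (hcard : Nat.card ↥R = 27) (pe : X →* SL23)
    (hsurj : Function.Surjective pe) (hker : ∀ x, pe x = 1 ↔ x ∈ R) : Nat.card X = 648 := by
  have hk : pe.ker = R := by
    ext x; rw [MonoidHom.mem_ker]; exact hker x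
  have h1 := Subgroup.card_eq_card_quotient_mul_card_subgroup pe.ker
  have h2 : Nat.card (X ⧸ pe.ker) = 24 := by
    rw [Nat.card_congr (QuotientGroup.quotientKerEquivOfSurjective pe hsurj).toEquiv,
      nat_card_SL23]
  rw [h2, hk, hcard] at h1
  exact h1

omit [R.Normal] in
theorem exists_invol [Finite X] (hexp : ∀ r : ↥R, r ^ 3 = 1) (hcard : Nat.card ↥R = 27)
    (pe : X →* SL23)
    (hsurj : Function.Surjective pe) (hker : ∀ x, pe x = 1 ↔ x ∈ R) :
    ∃ t : X, t ≠ 1 ∧ t * t = 1 ∧ pe t = negI := by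
  haveI : Fact (Nat.Prime 2) := ⟨Nat.prime_two⟩
  have h648 := card_X R hcard pe hsurj hker
  obtain ⟨t, ht⟩ := exists_prime_orderOf_dvd_card' (G := X) 2 (by rw [h648]; norm_num)
  have htt : t * t = 1 := by rw [← pow_two, ← ht]; exact pow_orderOf_eq_one t
  have ht1 : t ≠ 1 := by
    rintro rfl
    rw [orderOf_one] at ht; omega
  refine ⟨t, ht1, htt, ?_⟩
  have h1 : pe t * pe t = 1 := by rw [← map_mul, htt, map_one]
  rcases factE _ h1 with h | h
  · exfalso
    have hR := (hker t).mp h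
    have h3 : t ^ 3 = 1 := by
      have := congrArg Subtype.val (hexp ⟨t, hR⟩)
      simpa using this
    apply ht1
    calc t = t ^ 3 * (t * t)⁻¹ := by group
      _ = 1 := by rw [h3, htt, inv_one, mul_one]
  · exact h

/-- the involution acts non-trivially on `R` -/
theorem invol_nontrivial [Finite X] {z : ↥R} (hd : Data 3 z)
    (pe : X →* SL23) (hker : ∀ x, pe x = 1 ↔ x ∈ R)
    (hO2 : ∀ N : Subgroup X, N.Normal → IsPGroup 2 N → N = ⊥)
    {t : X} (ht1 : t ≠ 1) (htt : t * t = 1) (hpet : pe t = negI) :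
    ∃ r : ↥R, th R t r ≠ r := by
  by_contra hcon
  push Not at hcon
  have htR : ∀ r ∈ R, t * r = r * t := by
    intro r hr
    have := congrArg Subtype.val (hcon ⟨r, hr⟩)
    rw [th_coe] at this
    simp only at this
    calc t * r = (t * r * t⁻¹) * t := by group
      _ = r * t := by rw [this]
  have hzt : t * (z : X) = z * t := htR _ z.2
  -- t is central
  have hcen : ∀ x : X, x * t = t * x := by
    intro x
    have hc : pe (x * t * x⁻¹ * t⁻¹) = 1 := by
      rw [map_mul, map_mul, map_mul, map_inv, map_inv, hpet, ← negI_central, mul_assoc negI,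
        mul_inv_cancel, mul_one, mul_inv_cancel]
    have hcR := (hker _).mp hc
    have hcc : ∀ g : ↥R, (⟨_, hcR⟩ : ↥R) * g = g * ⟨_, hcR⟩ := by
      intro g
      apply Subtype.ext
      show x * t * x⁻¹ * t⁻¹ * (g : X) = g * (x * t * x⁻¹ * t⁻¹)
      have hg' : x⁻¹ * g * x ∈ R := by
        have := ‹R.Normal›.conj_mem g g.2 x⁻¹
        simpa using this
      have h1 := htR _ hg'
      have h2 := htR _ g.2
      have h2' : t⁻¹ * (g : X) = g * t⁻¹ := by
        calc t⁻¹ * (g : X) = t⁻¹ * (g * t) * t⁻¹ := by group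
          _ = t⁻¹ * (t * g) * t⁻¹ := by rw [h2]
          _ = g * t⁻¹ := by group
      calc x * t * x⁻¹ * t⁻¹ * (g : X) = x * t * x⁻¹ * (t⁻¹ * g) := by group
        _ = x * t * x⁻¹ * (g * t⁻¹) := by rw [h2']
        _ = x * (t * (x⁻¹ * g * x)) * x⁻¹ * t⁻¹ := by group
        _ = x * ((x⁻¹ * g * x) * t) * x⁻¹ * t⁻¹ := by rw [h1]
        _ = g * (x * t * x⁻¹ * t⁻¹) := by group
    obtain ⟨k, hk⟩ := hd.center_sub _ hcc
    have hk' : x * t * x⁻¹ * t⁻¹ = ((zp 3 z (k : ZMod 3) : ↥R) : X) := by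
      rw [← zp3_all z hd.pow_p k, ← hk]
    set w : ↥R := zp 3 z (k : ZMod 3) with hw
    have hwt : t * (w : X) = w * t := htR _ w.2
    have hxt : x * t * x⁻¹ = w * t := by
      calc x * t * x⁻¹ = (x * t * x⁻¹ * t⁻¹) * t := by group
        _ = w * t := by rw [hk']
    have hsq : (w : X) * w = 1 := by
      have h1 : (x * t * x⁻¹) * (x * t * x⁻¹) = 1 := by
        calc (x * t * x⁻¹) * (x * t * x⁻¹) = x * (t * t) * x⁻¹ := by group
          _ = 1 := by rw [htt]; group
      rw [hxt] at h1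
      calc (w : X) * w = w * w * (t * t) := by rw [htt, mul_one]
        _ = w * (w * t) * t := by group
        _ = w * (t * w) * t := by rw [hwt]
        _ = (w * t) * (w * t) := by group
        _ = 1 := h1
    have hw1 : w = 1 := by
      have h1 : w * w = 1 := Subtype.ext hsq
      rw [hw, ← zp_add hd.pow_p] at h1
      have h2 := (zp_eq_one_iff hd.ne_one hd.pow_p _).mp h1
      rw [hw, zmod3_add_self _ h2, zp_zero]
    rw [hw1] at hxt
    calc x * t = (x * t * x⁻¹) * x := by group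
      _ = t * x := by rw [hxt]; simp
  -- so zpowers t is a normal 2-subgroup
  have hN : (Subgroup.zpowers t).Normal := by
    refine ⟨fun n hn g => ?_⟩
    obtain ⟨i, rfl⟩ := Subgroup.mem_zpowers_iff.mp hn
    have : Commute g (t ^ i) := (show Commute g t from hcen g).zpow_right i
    rw [this.eq, mul_assoc, mul_inv_cancel, mul_one]
    exact Subgroup.zpow_mem_zpowers t i
  have hP : IsPGroup 2 (Subgroup.zpowers t) := by
    have ho : orderOf t = 2 := orderOf_eq_prime (by rw [pow_two]; exact htt) ht1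
    apply IsPGroup.of_card (n := 1)
    rw [Nat.card_zpowers, ho, pow_one]
  have := hO2 _ hN hP
  rw [Subgroup.zpowers_eq_bot] at this
  exact ht1 this

end grp

end Cfsg.Agent.Lib.Helper4.Ps
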