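import Mathlib
import Cfsg.Agent.Lib.Helper4.Ps5

/-! # S3366 part 6: the group level, second half -/

set_option autoImplicit false
set_option linter.deprecated false
set_option linter.style.haveILetI false

namespace Cfsg.Agent.Lib.Helper4.Ps

open Cfsg.Agent.Lib.Helper1.ES

theorem factC : ∀ g h : SL23, g ^ 3 = 1 → h ^ 3 = 1 → g * h = h * g →
    g = 1 ∨ h = 1 ∨ h = g ∨ h = g * g := by decide

/-- the situation after the involution has been analysed -/
structure Setup {X : Type*} [Group X] (R : Subgroup X) [R.Normal] (z : ↥R) (pe : X →* SL23)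
    (t : X) : Prop where
  hd : Data 3 z
  hexp : ∀ r : ↥R, r ^ 3 = 1
  hcard : Nat.card ↥R = 27
  hsurj : Function.Surjective pe
  hker : ∀ x, pe x = 1 ↔ x ∈ R
  zc : ∀ x : X, th R x z = z
  tt : t * t = 1
  pet : pe t = negI
  hinv : ∀ r : ↥R, ∃ k : ZMod 3, th R t r = r⁻¹ * zp 3 z k

namespace Setup

variable {X : Type*} [Group X] {R : Subgroup X} [R.Normal] {z : ↥R} {pe : X →* SL23} {t : X}

theorem tinv (S : Setup R z pe t) : t⁻¹ = t := inv_eq_of_mul_eq_one_left S.tt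

theorem al2 (S : Setup R z pe t) (r : ↥R) : th R t (th R t r) = r := by
  rw [← th_mul, S.tt, th_one]

theorem cube (S : Setup R z pe t) {r : X} (hr : r ∈ R) : r * r * r = 1 := by
  have := congrArg Subtype.val (S.hexp ⟨r, hr⟩)
  simp only [Subgroup.coe_pow, Subgroup.coe_one] at this
  rw [← this, pow_succ, pow_two]

theorem z_comm (S : Setup R z pe t) (x : X) : x * (z : X) = z * x := by
  have := congrArg Subtype.val (S.zc x)
  rw [th_coe] at this
  calc x * (z : X) = (x * z * x⁻¹) * x := by group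
    _ = z * x := by rw [this]

theorem zp_comm (S : Setup R z pe t) (x : X) (k : ZMod 3) :
    x * ((zp 3 z k : ↥R) : X) = (zp 3 z k : ↥R) * x := by
  unfold zp
  rw [Subgroup.coe_pow]
  exact ((show Commute x (z : X) from S.z_comm x).pow_right _).eq

/-- `X = R · C_X(t)` -/
theorem RL (S : Setup R z pe t) (x : X) : ∃ r ∈ R, ∃ l : X, l * t = t * l ∧ x = r * l := by
  obtain ⟨c, hc⟩ : ∃ c, c = x * t * x⁻¹ * t⁻¹ := ⟨_, rfl⟩
  have hpc : pe c = 1 := by
    rw [hc, map_mul, map_mul, map_mul, map_inv, map_inv, S.pet, ← negI_central, mul_assoc negI,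
      mul_inv_cancel, mul_one, mul_inv_cancel]
  have hcR := (S.hker _).mp hpc
  have h3 := S.cube hcR
  have hα : t * c * t⁻¹ = c⁻¹ := by
    have e1 : t⁻¹ * t⁻¹ = 1 := by rw [S.tinv]; exact S.tt
    calc t * c * t⁻¹ = t * x * t * x⁻¹ * (t⁻¹ * t⁻¹) := by rw [hc]; group
      _ = t * x * t⁻¹ * x⁻¹ := by rw [e1, mul_one, S.tinv]
      _ = c⁻¹ := by rw [hc]; group
  have hcc : c * c = c⁻¹ := by
    rw [eq_inv_iff_mul_eq_one]; exact h3
  have htc : t * c = c⁻¹ * t := by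
    calc t * c = (t * c * t⁻¹) * t := by group
      _ = c⁻¹ * t := by rw [hα]
  refine ⟨c⁻¹, R.inv_mem hcR, c * x, ?_, by group⟩
  have hxt : x * t = c * t * x := by rw [hc]; group
  calc c * x * t = c * (x * t) := by group
    _ = c * (c * t * x) := by rw [hxt]
    _ = (c * c) * t * x := by group
    _ = c⁻¹ * t * x := by rw [hcc]
    _ = t * c * x := by rw [htc]
    _ = t * (c * x) := by group

/-- `C_X(t) ∩ R` is the centre of `R` -/
theorem LR (S : Setup R z pe t) {l : X} (hl : l ∈ R) (hlt : l * t = t * l) :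
    ∃ k : ZMod 3, (⟨l, hl⟩ : ↥R) = zp 3 z k := by
  have hfix : th R t ⟨l, hl⟩ = ⟨l, hl⟩ := by
    apply Subtype.ext
    rw [th_coe]
    show t * l * t⁻¹ = l
    rw [← hlt]; group
  obtain ⟨k, hk⟩ := S.hinv ⟨l, hl⟩
  exact ⟨k + k, fix_central S.hd S.hexp (th R t) hfix hk⟩

theorem kap_inner (S : Setup R z pe t) (r a b : ↥R) :
    kap S.hd (th R (r : X) a) b = kap S.hd a b := by
  rw [th_inner, kap_mul_left, kap_mul_left, kap_inv_left]
  ring

/-- `C_X(R) ≤ R` -/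
theorem CR [Finite X] (S : Setup R z pe t) (k : X) (hk : ∀ r : ↥R, th R k r = r) : k ∈ R := by
  by_contra hkR
  have hpk : pe k ≠ 1 := fun h => hkR ((S.hker k).mp h)
  have hK : ∀ k : X, (∀ r : ↥R, th R k r = r) ↔ k ∈ (th R).ker := by
    intro k
    rw [MonoidHom.mem_ker]
    constructor
    · intro h; ext r; rw [h]; rfl
    · intro h r; rw [h]; rfl
  have hkK := (hK k).mp hk
  -- an element of the kernel of the action mapping to `-1`
  have hex : ∃ k' ∈ (th R).ker, pe k' = negI := by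
    rcases factB (pe k) hpk with h | h | h | ⟨h', h⟩
    · exact ⟨k, hkK, h⟩
    · exact ⟨k * k, mul_mem hkK hkK, by rw [map_mul, h]⟩
    · exact ⟨k * k * k, mul_mem (mul_mem hkK hkK) hkK, by rw [map_mul, map_mul, h]⟩
    · obtain ⟨h0, rfl⟩ := S.hsurj h'
      have h1 : h0 * k * h0⁻¹ ∈ (th R).ker := (inferInstance : (th R).ker.Normal).conj_mem k hkK h0
      have h2 : k * (h0 * k * h0⁻¹) * k ∈ (th R).ker := mul_mem (mul_mem hkK h1) hkK
      refine ⟨(k * (h0 * k * h0⁻¹) * k) * (k * (h0 * k * h0⁻¹) * k), mul_mem h2 h2, ?_⟩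
      rw [← h]
      simp only [map_mul, map_inv]
  obtain ⟨k', hk'K, hk'⟩ := hex
  have hk'fix := (hK k').mpr hk'K
  have hr : pe (k' * t⁻¹) = 1 := by
    rw [map_mul, map_inv, hk', S.pet, mul_inv_cancel]
  have hrR := (S.hker _).mp hr
  obtain ⟨x, y, hx, _, hxy⟩ := exists_inv_pair S.hd (th R t) (S.zc t) S.hcard S.hinv
  have h1 : th R (k' * t⁻¹) (th R t x) = x := by
    rw [← th_mul, inv_mul_cancel_right]
    exact hk'fix x
  rw [hx] at h1
  have h2 := S.kap_inner ⟨_, hrR⟩ x⁻¹ y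
  have h3 : kap S.hd x y = 1 := kap_xy S.hd hxy
  simp only at h2
  rw [h1, kap_inv_left, h3] at h2
  revert h2
  decide

/-- the elementary abelian subgroup produces an element of order `3` in `C_X(t)` outside `R` -/
theorem exists_g [Finite X] (S : Setup R z pe t)
    (hE : ∃ E : Subgroup X, IsMulCommutative E ∧ (∀ a ∈ E, a ^ 3 = 1) ∧ Nat.card E = 27) :
    ∃ g : X, g * t = t * g ∧ g ∉ R ∧ g ^ 3 = 1 := by
  obtain ⟨E, hEc, hE3, hE27⟩ := hE
  have comm : ∀ a ∈ E, ∀ b ∈ E, a * b = b * a := fun a ha b hb =>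
    congrArg Subtype.val (hEc.is_comm.comm ⟨a, ha⟩ ⟨b, hb⟩)
  -- step i
  have h1 : ∃ e₁ ∈ E, e₁ ∉ R := by
    by_contra hcon
    push Not at hcon
    have hle : E ≤ R := hcon
    have heq : E = R := Subgroup.eq_of_le_of_card_ge hle (by rw [hE27, S.hcard])
    obtain ⟨x, y, hxy⟩ := exists_noncomm S.hd S.hcard
    apply hxy
    rw [kap_eq_zero_iff]
    apply Subtype.ext
    exact comm x (heq ▸ x.2) y (heq ▸ y.2)
  obtain ⟨e₁, he₁E, he₁R⟩ := h1
  have hpe1 : pe e₁ ≠ 1 := fun h => he₁R ((S.hker _).mp h)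
  have hpe3 : ∀ e ∈ E, (pe e) ^ 3 = 1 := by
    intro e he
    rw [← map_pow, hE3 e he, map_one]
  -- step ii
  have h2 : ∃ a₀ ∈ E, ∃ ha : a₀ ∈ R, ∃ g : ↥R, kap S.hd ⟨a₀, ha⟩ g ≠ 0 := by
    by_contra hcon
    push Not at hcon
    have hcen : ∀ a ∈ E, a ∈ R → ∃ k : ZMod 3, a = ((zp 3 z k : ↥R) : X) := by
      intro a haE haR
      obtain ⟨k, hk⟩ := S.hd.center_sub ⟨a, haR⟩
        (fun h => (kap_eq_zero_iff S.hd _ h).mp (hcon a haE haR h))
      refine ⟨(k : ZMod 3), ?_⟩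
      rw [← zp3_all z S.hd.pow_p k, ← hk]
    have hall : ∀ e : ↥E, ∃ p : ZMod 3 × ZMod 3,
        ((zp 3 z p.1 : ↥R) : X) * zp 3 e₁ p.2 = e.1 := by
      intro e
      have hc := comm e₁ he₁E e.1 e.2
      have hc' : pe e₁ * pe e.1 = pe e.1 * pe e₁ := by rw [← map_mul, hc, map_mul]
      have key : ∀ i : ZMod 3, pe (e.1 * (zp 3 e₁ i)⁻¹) = 1 →
          ∃ p : ZMod 3 × ZMod 3, ((zp 3 z p.1 : ↥R) : X) * zp 3 e₁ p.2 = e.1 := by
        intro i hi
        have hR := (S.hker _).mp hi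
        have hEm : e.1 * (zp 3 e₁ i)⁻¹ ∈ E :=
          E.mul_mem e.2 (E.inv_mem (E.pow_mem he₁E _))
        obtain ⟨k, hk⟩ := hcen _ hEm hR
        refine ⟨(k, i), ?_⟩
        simp only
        rw [← hk]; group
      rcases factC (pe e₁) (pe e.1) (hpe3 e₁ he₁E) (hpe3 e.1 e.2) hc' with h | h | h | h
      · exact absurd h hpe1
      · apply key 0
        rw [zp_zero, inv_one, mul_one, h]
      · apply key 1
        rw [zp3_one, map_mul, map_inv, h, mul_inv_cancel]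
      · apply key 2
        rw [zp3_two, map_mul, map_inv, map_mul, h, mul_inv_cancel]
    choose f hf using hall
    have hinj : Function.Injective f := by
      intro e e' hee
      apply Subtype.ext
      rw [← hf e, ← hf e', hee]
    have := Nat.card_le_card_of_injective f hinj
    rw [hE27, Nat.card_prod, Nat.card_zmod] at this
    omega
  obtain ⟨a₀, ha₀E, ha₀R, g₀, hg₀⟩ := h2
  -- step iii
  obtain ⟨k, hk⟩ := S.hinv ⟨a₀, ha₀R⟩
  have huI := lift_inv S.hd (th R t) (S.zc t) hk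
  obtain ⟨u, hu⟩ : ∃ u : ↥R, u = ⟨a₀, ha₀R⟩ * zp 3 z k := ⟨_, rfl⟩
  rw [← hu] at huI
  have hunc : kap S.hd u g₀ ≠ 0 := by
    rw [hu, kap_mul_left, kap_zp_left, kap_z_left, mul_zero, add_zero]
    exact hg₀
  have he₁u : th R e₁ u = u := by
    rw [hu, map_mul, zp3_aut, S.zc]
    congr 1
    apply Subtype.ext
    rw [th_coe]
    show e₁ * a₀ * e₁⁻¹ = a₀
    rw [comm e₁ he₁E a₀ ha₀E]; group
  -- step iv
  obtain ⟨r, hr, l, hlt, he₁⟩ := S.RL e₁
  have hβα : ∀ w : ↥R, th R l (th R t w) = th R t (th R l w) := by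
    intro w
    rw [← th_mul, ← th_mul, hlt]
  have hβuI : th R t (th R l u) = (th R l u)⁻¹ := by
    rw [← hβα, huI, map_inv]
  have h3 : th R r (th R l u) = u := by
    rw [← th_mul, ← he₁]; exact he₁u
  have h4 : th R l u = u * zp 3 z (kap S.hd (⟨r, hr⟩ : ↥R)⁻¹ u) := by
    have e1 := th_inner R ⟨r, hr⟩ (th R l u)
    simp only at e1
    rw [h3] at e1
    obtain ⟨w, hw⟩ : ∃ w, w = th R l u := ⟨_, rfl⟩
    rw [← hw] at e1 ⊢
    have e2 : w = (⟨r, hr⟩ : ↥R)⁻¹ * u * ⟨r, hr⟩ := by rw [e1]; group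
    rw [e2, kap_spec S.hd (⟨r, hr⟩ : ↥R)⁻¹ u, mul_assoc, mul_assoc,
      zp_commute S.hd.central, ← mul_assoc (⟨r, hr⟩ : ↥R)⁻¹, inv_mul_cancel, one_mul]
  have h5 : kap S.hd (⟨r, hr⟩ : ↥R)⁻¹ u = 0 := by
    rw [h4] at hβuI
    exact inv_unique S.hd (th R t) (S.zc t) huI hβuI
  rw [h5, zp_zero, mul_one] at h4
  have h6 : kap S.hd u ⟨r, hr⟩ = 0 := by
    rw [kap_inv_left] at h5
    rw [kap_symm, neg_eq_zero.mp h5, neg_zero]
  obtain ⟨i, k', hik⟩ := comm_noncentral S.hd S.hexp S.hcard ⟨g₀, hunc⟩ h6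
  have h7 : th R l ⟨r, hr⟩ = ⟨r, hr⟩ := by
    rw [hik, map_mul, zp3_aut, zp3_aut, h4, S.zc]
  have h8 : l * r = r * l := by
    have := congrArg Subtype.val h7
    rw [th_coe] at this
    simp only at this
    calc l * r = (l * r * l⁻¹) * l := by group
      _ = r * l := by rw [this]
  have h9 : l ^ 3 = 1 := by
    have e1 : (r * l) ^ 3 = r ^ 3 * l ^ 3 := (show Commute r l from h8.symm).mul_pow 3
    have e2 : r ^ 3 = 1 := by
      have := S.cube hr
      rw [pow_succ, pow_two]; exact this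
    rw [← he₁, hE3 e₁ he₁E, e2, one_mul] at e1
    exact e1.symm
  refine ⟨l, hlt, ?_, h9⟩
  intro hlR
  exact he₁R (he₁ ▸ R.mul_mem hr hlR)

end Setup

end Cfsg.Agent.Lib.Helper4.Ps
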