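import Mathlib
import Cfsg.Agent.Lib.Helper4.Ps6

/-! # S3366 part 7: the abstract isomorphism `X ≃* 3^{1+2} ⋊ SL₂(3)` -/

set_option autoImplicit false
set_option linter.deprecated false
set_option linter.style.haveILetI false

namespace Cfsg.Agent.Lib.Helper4.Ps

open Cfsg.Agent.Lib.Helper1.ES

namespace Setup

variable {X : Type*} [Group X] {R : Subgroup X} [R.Normal] {z : ↥R} {pe : X →* SL23} {t : X}

/-- a choice of coordinates adapted to the involution -/
structure Coord (_S : Setup R z pe t) (x y : ↥R) : Prop where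
  hx : th R t x = x⁻¹
  hy : th R t y = y⁻¹
  hxy : x * y = y * x * z

theorem exists_coord [Finite X] (S : Setup R z pe t) : ∃ x y : ↥R, S.Coord x y := by
  obtain ⟨x, y, hx, hy, hxy⟩ := exists_inv_pair S.hd (th R t) (S.zc t) S.hcard S.hinv
  exact ⟨x, y, ⟨hx, hy, hxy⟩⟩

variable (S : Setup R z pe t) {x y : ↥R} (C : S.Coord x y)

/-- the coordinate isomorphism -/
noncomputable def ph : H27 →* ↥R := phi S.hd S.hexp C.hxy

theorem ph_injective : Function.Injective (S.ph C) := phi_injective S.hd S.hexp C.hxy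

theorem ph_surjective [Finite X] : Function.Surjective (S.ph C) :=
  phi_surjective S.hd S.hexp S.hcard C.hxy

theorem rho_exists [Finite X] (l : X) (hl : l * t = t * l) :
    ∃ A : SL23, ∀ h : H27, th R l (S.ph C h) = S.ph C (H27.actFun A h) :=
  equivariant S.hd S.hexp (th R t) (S.zc t) C.hxy C.hx C.hy S.hcard (th R l) (S.zc l)
    (fun r => by rw [← th_mul, ← th_mul, hl])

theorem rho_unique {A A' : SL23}
    (h : ∀ k : H27, S.ph C (H27.actFun A k) = S.ph C (H27.actFun A' k)) : A = A' :=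
  actFun_inj (fun k => S.ph_injective C (h k))

/-- the action of `C_X(t)` on `R` in coordinates -/
noncomputable def rhoFun [Finite X] (l : ↥(Subgroup.centralizer ({t} : Set X))) : SL23 :=
  Classical.choose (S.rho_exists C l.1 (Subgroup.mem_centralizer_singleton_iff.mp l.2))

theorem rhoFun_spec [Finite X] (l : ↥(Subgroup.centralizer ({t} : Set X))) (h : H27) :
    th R (l : X) (S.ph C h) = S.ph C (H27.actFun (S.rhoFun C l) h) :=
  Classical.choose_spec (S.rho_exists C l.1 (Subgroup.mem_centralizer_singleton_iff.mp l.2)) h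

noncomputable def rho [Finite X] : ↥(Subgroup.centralizer ({t} : Set X)) →* SL23 :=
  MonoidHom.mk' (S.rhoFun C) (by
    intro l l'
    apply S.rho_unique C
    intro h
    rw [← S.rhoFun_spec C, H27.actFun_mul, MonoidHom.comp_apply, ← S.rhoFun_spec C,
      ← S.rhoFun_spec C, Subgroup.coe_mul, th_mul])

theorem rho_spec [Finite X] (l : ↥(Subgroup.centralizer ({t} : Set X))) (h : H27) :
    th R (l : X) (S.ph C h) = S.ph C (H27.actFun (S.rho C l) h) := S.rhoFun_spec C l h

/-- the main abstract result -/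
theorem iso_M648 [Finite X] (S : Setup R z pe t)
    (hE : ∃ E : Subgroup X, IsMulCommutative E ∧ (∀ a ∈ E, a ^ 3 = 1) ∧ Nat.card E = 27) :
    Nonempty (X ≃* M648) := by
  obtain ⟨x, y, C⟩ := S.exists_coord
  obtain ⟨L, hL⟩ : ∃ L : Subgroup X, L = Subgroup.centralizer ({t} : Set X) := ⟨_, rfl⟩
  have hLmem : ∀ l : X, l ∈ Subgroup.centralizer ({t} : Set X) ↔ l * t = t * l := fun l =>
    Subgroup.mem_centralizer_singleton_iff
  let peL : ↥(Subgroup.centralizer ({t} : Set X)) →* SL23 :=
    pe.comp (Subgroup.centralizer ({t} : Set X)).subtype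
  have hpeL : ∀ l, peL l = pe l.1 := fun l => rfl
  have hsurj : Function.Surjective peL := by
    intro A
    obtain ⟨x0, rfl⟩ := S.hsurj A
    obtain ⟨r, hr, l, hlt, hx0⟩ := S.RL x0
    refine ⟨⟨l, (hLmem l).mpr hlt⟩, ?_⟩
    rw [hpeL, hx0, map_mul, (S.hker r).mpr hr, one_mul]
  have hker3 : ∀ k, peL k = 1 → k ^ 3 = 1 := by
    intro k hk
    have hkR := (S.hker _).mp hk
    apply Subtype.ext
    rw [Subgroup.coe_pow, pow_succ, pow_two]
    exact S.cube hkR
  have hkerc : ∀ k, peL k = 1 → ∀ l, k * l = l * k := by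
    intro k hk l
    have hkR := (S.hker _).mp hk
    obtain ⟨κ, hκ⟩ := S.LR hkR ((hLmem _).mp k.2)
    have h1 : (k : X) = ((zp 3 z κ : ↥R) : X) := congrArg Subtype.val hκ
    apply Subtype.ext
    rw [Subgroup.coe_mul, Subgroup.coe_mul, h1]
    exact (S.zp_comm l.1 κ).symm
  obtain ⟨g, hgt, hgR, hg3⟩ := S.exists_g hE
  have hg3' : (⟨g, (hLmem g).mpr hgt⟩ : ↥(Subgroup.centralizer ({t} : Set X))) ^ 3 = 1 := by
    apply Subtype.ext
    rw [Subgroup.coe_pow]
    exact hg3
  have hgne : peL ⟨g, (hLmem g).mpr hgt⟩ ≠ 1 := fun h => hgR ((S.hker _).mp h)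
  obtain ⟨σ₀, hσ₀⟩ := split_lemma peL hsurj hker3 hkerc _ hg3' hgne
  -- correct by an automorphism of `SL₂(3)`
  have hτinj : Function.Injective ((S.rho C).comp σ₀) := by
    rw [injective_iff_map_eq_one]
    intro A hA
    have h1 : ∀ r : ↥R, th R ((σ₀ A : ↥(Subgroup.centralizer ({t} : Set X))) : X) r = r := by
      intro r
      obtain ⟨h, rfl⟩ := S.ph_surjective C r
      rw [S.rho_spec C]
      have : S.rho C (σ₀ A) = 1 := hA
      rw [this, H27.actFun_one]
      rfl
    have h2 := S.CR _ h1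
    have h3 : peL (σ₀ A) = 1 := (S.hker _).mpr h2
    rw [hσ₀] at h3
    exact h3
  have hτbij : Function.Bijective ((S.rho C).comp σ₀) :=
    ⟨hτinj, Finite.injective_iff_surjective.mp hτinj⟩
  let τe : SL23 ≃* SL23 := MulEquiv.ofBijective ((S.rho C).comp σ₀) hτbij
  let σ : SL23 →* ↥(Subgroup.centralizer ({t} : Set X)) := σ₀.comp τe.symm.toMonoidHom
  have hσ : ∀ A, S.rho C (σ A) = A := by
    intro A
    have : τe (τe.symm A) = A := τe.apply_symm_apply A
    exact this
  have hσR : ∀ A, ((σ A : ↥(Subgroup.centralizer ({t} : Set X))) : X) ∈ R → A = 1 := by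
    intro A hA
    have h3 : peL (σ A) = 1 := (S.hker _).mpr hA
    have h4 : peL (σ A) = τe.symm A := hσ₀ _
    rw [h4] at h3
    have := congrArg τe h3
    rw [MulEquiv.apply_symm_apply, map_one] at this
    exact this
  let fn : H27 →* X := R.subtype.comp (S.ph C)
  let fg : SL23 →* X := (Subgroup.centralizer ({t} : Set X)).subtype.comp σ
  have compat : ∀ A : SL23, fn.comp (MulEquiv.toMonoidHom (H27.actHom A)) =
      (MulEquiv.toMonoidHom (MulAut.conj (fg A))).comp fn := by
    intro A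
    ext h
    show ((S.ph C (H27.actFun A h) : ↥R) : X) = fg A * (S.ph C h : ↥R) * (fg A)⁻¹
    have hfg : fg A = ((σ A : ↥(Subgroup.centralizer ({t} : Set X))) : X) := rfl
    rw [← th_coe, hfg, S.rho_spec C, hσ]
  let Ψ : M648 →* X := SemidirectProduct.lift fn fg compat
  have hΨ : ∀ m : M648, Ψ m = fn m.left * fg m.right := fun m => rfl
  have hΨinj : Function.Injective Ψ := by
    rw [injective_iff_map_eq_one]
    intro m hm
    rw [hΨ] at hm
    have h1 : fg m.right = (fn m.left)⁻¹ := eq_inv_of_mul_eq_one_right hm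
    have h2 : fg m.right ∈ R := by
      rw [h1]
      exact R.inv_mem (S.ph C m.left).2
    have h3 : m.right = 1 := hσR _ h2
    rw [h3, map_one, mul_one] at hm
    have h4 : S.ph C m.left = 1 := Subtype.ext hm
    have h5 : m.left = 1 := by
      apply S.ph_injective C
      rw [h4, map_one]
    ext1
    · exact h5
    · exact h3
  have hΨbij : Function.Bijective Ψ := by
    rw [Nat.bijective_iff_injective_and_card]
    exact ⟨hΨinj, by rw [card_M648, card_X R S.hcard pe S.hsurj S.hker]⟩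
  exact ⟨(MulEquiv.ofBijective Ψ hΨbij).symm⟩

end Setup

/-- assembling the hypotheses -/
theorem abstract_iso {X : Type*} [Group X] [Finite X] (R : Subgroup X) [R.Normal]
    (hdat : ∃ z : ↥R, Data 3 z) (hexp : ∀ r : ↥R, r ^ 3 = 1) (hcard : Nat.card ↥R = 27)
    (pe : X →* SL23) (hsurj : Function.Surjective pe) (hker : ∀ x, pe x = 1 ↔ x ∈ R)
    (hO2 : ∀ N : Subgroup X, N.Normal → IsPGroup 2 N → N = ⊥)
    (hE : ∃ E : Subgroup X, IsMulCommutative E ∧ (∀ a ∈ E, a ^ 3 = 1) ∧ Nat.card E = 27) :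
    Nonempty (X ≃* M648) := by
  obtain ⟨z, hd⟩ := hdat
  have hzc := z_central R hd pe hsurj hker
  obtain ⟨t, ht1, htt, hpet⟩ := exists_invol R hexp hcard pe hsurj hker
  have hα1 := invol_nontrivial R hd pe hker hO2 ht1 htt hpet
  have hα2 : ∀ r : ↥R, th R t (th R t r) = r := by
    intro r
    rw [← th_mul, htt, th_one]
  have hinv := inverts_mod hd hexp (th R t) hα2 (hzc t) hcard hα1
  have S : Setup R z pe t := ⟨hd, hexp, hcard, hsurj, hker, hzc, htt, hpet, hinv⟩
  exact S.iso_M648 hE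

end Cfsg.Agent.Lib.Helper4.Ps
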