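import Mathlib
import Cfsg.Prelude.Def_Classical
import Cfsg.Agent.Lib.Helper4.Ps1
import Cfsg.Agent.S0246

/-! # S3366 part 8: the centraliser of a long root element in `PSp₄(3)` -/

set_option autoImplicit false
set_option linter.deprecated false
set_option linter.style.haveILetI false

namespace Cfsg.Agent.Lib.Helper4.Ps

open Matrix

abbrev I4 : Type := Fin 2 ⊕ Fin 2

def psiHmat (h : H27) : Matrix I4 I4 (ZMod 3) :=
  Matrix.fromBlocks !![1, -h.b; 0, 1] !![-h.c, h.a; h.a, 0] 0 !![1, 0; h.b, 1]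

def psiSmat (A : SL23) : Matrix I4 I4 (ZMod 3) :=
  Matrix.fromBlocks !![1, 0; 0, A.1 0 0] !![0, 0; 0, A.1 0 1] !![0, 0; 0, A.1 1 0]
    !![1, 0; 0, A.1 1 1]

set_option maxRecDepth 100000 in
theorem psiH_symp : ∀ h : H27,
    psiHmat h * J (Fin 2) (ZMod 3) * (psiHmat h)ᵀ = J (Fin 2) (ZMod 3) := by
  decide

set_option maxRecDepth 100000 in
theorem psiS_symp : ∀ A : SL23,
    psiSmat A * J (Fin 2) (ZMod 3) * (psiSmat A)ᵀ = J (Fin 2) (ZMod 3) := by
  decide

set_option maxRecDepth 100000 in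
theorem psiH_mul : ∀ h k : H27, psiHmat (h * k) = psiHmat h * psiHmat k := by
  decide

set_option maxRecDepth 100000 in
theorem psiS_mul : ∀ A B : SL23, psiSmat (A * B) = psiSmat A * psiSmat B := by
  decide

set_option maxRecDepth 100000 in
theorem psi_compat : ∀ (A : SL23) (h : H27),
    psiSmat A * psiHmat h = psiHmat (H27.actFun A h) * psiSmat A := by
  decide

set_option maxRecDepth 100000 in
theorem psiH_one : psiHmat 1 = 1 := by decide

set_option maxRecDepth 100000 in
theorem psiS_one : psiSmat 1 = 1 := by decide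

set_option maxRecDepth 100000 in
theorem psi_inj : ∀ (h : H27) (A : SL23), psiHmat h * psiSmat A = 1 → h = 1 ∧ A = 1 := by
  decide

set_option maxRecDepth 100000 in
theorem psi_entry : ∀ (h : H27) (A : SL23),
    (psiHmat h * psiSmat A) (Sum.inl 0) (Sum.inl 0) = 1 := by
  decide

def cmat : Matrix I4 I4 (ZMod 3) := psiHmat ⟨0, 0, 1⟩

set_option maxRecDepth 100000 in
theorem psi_cmat : ∀ (h : H27) (A : SL23),
    psiHmat h * psiSmat A * cmat = cmat * (psiHmat h * psiSmat A) := by
  decide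

set_option maxRecDepth 100000 in
theorem cmat_ne_one : cmat ≠ 1 := by decide

set_option maxRecDepth 100000 in
theorem cmat_ne_neg_one : cmat ≠ -1 := by decide

set_option maxRecDepth 100000 in
theorem neg_one_ne_one : (-1 : Matrix I4 I4 (ZMod 3)) ≠ 1 := by decide

theorem zmod3_sq_one : ∀ a : ZMod 3, a * a = 1 → a = 1 ∨ a = -1 := by decide

/-- the symplectic group `Sp₄(3)` -/
abbrev SpG : Type := ↥(Matrix.symplecticGroup (Fin 2) (ZMod 3))

def psiH : H27 →* SpG where
  toFun h := ⟨psiHmat h, SymplecticGroup.mem_iff.mpr (psiH_symp h)⟩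
  map_one' := Subtype.ext psiH_one
  map_mul' h k := Subtype.ext (psiH_mul h k)

def psiS : SL23 →* SpG where
  toFun A := ⟨psiSmat A, SymplecticGroup.mem_iff.mpr (psiS_symp A)⟩
  map_one' := Subtype.ext psiS_one
  map_mul' A B := Subtype.ext (psiS_mul A B)

theorem psi_compat' (A : SL23) :
    psiH.comp (MulEquiv.toMonoidHom (H27.actHom A)) =
      (MulEquiv.toMonoidHom (MulAut.conj (psiS A))).comp psiH := by
  ext h : 1
  show psiH (H27.actFun A h) = psiS A * psiH h * (psiS A)⁻¹
  rw [eq_mul_inv_iff_mul_eq]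
  apply Subtype.ext
  exact (psi_compat A h).symm

/-- the matrix realisation of the model group -/
def Psi0 : M648 →* SpG := SemidirectProduct.lift psiH psiS psi_compat'

theorem Psi0_coe (m : M648) : (Psi0 m).1 = psiHmat m.left * psiSmat m.right := rfl

def cG : SpG := psiH ⟨0, 0, 1⟩

theorem cG_coe : cG.1 = cmat := rfl

theorem cG_pow : cG ^ 3 = 1 := by
  have h : (⟨0, 0, 1⟩ : H27) ^ 3 = 1 := by decide
  rw [cG, ← map_pow, h, map_one]

theorem Psi0_comm (m : M648) : Psi0 m * cG = cG * Psi0 m := by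
  apply Subtype.ext
  exact psi_cmat m.left m.right

theorem entry_eq {M N : Matrix I4 I4 (ZMod 3)} (h : M = N) (i j : I4) : M i j = N i j := by
  rw [h]

/-- the shape of a symplectic matrix commuting with `cmat` whose `(1,1)` entry is `1` -/
theorem stab_form (g : Matrix I4 I4 (ZMod 3))
    (hs : gᵀ * J (Fin 2) (ZMod 3) * g = J (Fin 2) (ZMod 3))
    (hc : g * cmat = cmat * g) (h11 : g (Sum.inl 0) (Sum.inl 0) = 1) :
    ∃ (h : H27) (A : SL23), psiHmat h * psiSmat A = g := by
  have c21 : g (Sum.inl 1) (Sum.inl 0) = 0 := by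
    have := entry_eq hc (Sum.inl 1) (Sum.inr 0)
    simp [cmat, psiHmat, Matrix.mul_apply, Fintype.sum_sum_type, Fin.sum_univ_two] at this
    exact this
  have c31 : g (Sum.inr 0) (Sum.inl 0) = 0 := by
    have := entry_eq hc (Sum.inr 0) (Sum.inr 0)
    simp [cmat, psiHmat, Matrix.mul_apply, Fintype.sum_sum_type, Fin.sum_univ_two] at this
    exact this
  have c41 : g (Sum.inr 1) (Sum.inl 0) = 0 := by
    have := entry_eq hc (Sum.inr 1) (Sum.inr 0)
    simp [cmat, psiHmat, Matrix.mul_apply, Fintype.sum_sum_type, Fin.sum_univ_two] at this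
    exact this
  have c32 : g (Sum.inr 0) (Sum.inl 1) = 0 := by
    have := entry_eq hc (Sum.inl 0) (Sum.inl 1)
    simp [cmat, psiHmat, Matrix.mul_apply, Fintype.sum_sum_type, Fin.sum_univ_two] at this
    exact this
  have c34 : g (Sum.inr 0) (Sum.inr 1) = 0 := by
    have := entry_eq hc (Sum.inl 0) (Sum.inr 1)
    simp [cmat, psiHmat, Matrix.mul_apply, Fintype.sum_sum_type, Fin.sum_univ_two] at this
    exact this
  have c33 : g (Sum.inr 0) (Sum.inr 0) = 1 := by
    have := entry_eq hc (Sum.inl 0) (Sum.inr 0)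
    simp [cmat, psiHmat, Matrix.mul_apply, Fintype.sum_sum_type, Fin.sum_univ_two] at this
    rw [← h11]
    linear_combination this
  have s23 := entry_eq hs (Sum.inl 1) (Sum.inr 0)
  have s24 := entry_eq hs (Sum.inl 1) (Sum.inr 1)
  have s34 := entry_eq hs (Sum.inr 0) (Sum.inr 1)
  simp [J, Matrix.mul_apply, Fintype.sum_sum_type, Fin.sum_univ_two, c32, c34, c33]
    at s23 s24 s34
  have hdet : Matrix.det !![g (Sum.inl 1) (Sum.inl 1), g (Sum.inl 1) (Sum.inr 1);
      g (Sum.inr 1) (Sum.inl 1), g (Sum.inr 1) (Sum.inr 1)] = 1 := by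
    rw [Matrix.det_fin_two_of]
    linear_combination -s24
  refine ⟨⟨g (Sum.inl 1) (Sum.inr 0), g (Sum.inr 1) (Sum.inr 0), -g (Sum.inl 0) (Sum.inr 0)⟩,
    ⟨_, hdet⟩, ?_⟩
  ext i j
  rcases i with i | i <;> rcases j with j | j <;> fin_cases i <;> fin_cases j <;>
    simp [psiHmat, psiSmat, Matrix.mul_apply, Fintype.sum_sum_type, Fin.sum_univ_two,
      c21, c31, c41, c32, c34, c33, h11]
  · linear_combination s23
  · linear_combination -s34

end Cfsg.Agent.Lib.Helper4.Ps
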