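import Mathlib
import Cfsg.Prelude.Def_Classical
import Cfsg.Agent.Lib.Helper4.Ps8
import Cfsg.Agent.S0245
import Cfsg.Agent.S0246
import Cfsg.Agent.Lib.Helper8.UspT

/-! # S3366 part 9: the centraliser in `PSp₄(3)`, transfer to an arbitrary field of order `3`,
and the Sylow subgroup -/

set_option autoImplicit false
set_option linter.deprecated false
set_option linter.style.haveILetI false

namespace Cfsg.Agent.Lib.Helper4.Ps

open Matrix

def negG : SpG := ⟨-1, Cfsg.Agent.S0246.neg_one_mem 2⟩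

theorem mem_center_iff3 (w : SpG) : w ∈ Subgroup.center SpG ↔ w.1 = 1 ∨ w.1 = -1 :=
  Cfsg.Agent.S0246.mem_center_iff 2 (by norm_num) w

theorem negG_center : negG ∈ Subgroup.center SpG := (mem_center_iff3 _).mpr (Or.inr rfl)

theorem negG_ne_one : negG ≠ 1 := by
  intro h
  exact neg_one_ne_one (congrArg Subtype.val h)

theorem negG_sq : negG * negG = 1 := by
  apply Subtype.ext
  show (-1 : Matrix I4 I4 (ZMod 3)) * (-1) = 1
  simp

theorem entry11 (g : Matrix I4 I4 (ZMod 3))
    (hs : gᵀ * J (Fin 2) (ZMod 3) * g = J (Fin 2) (ZMod 3))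
    (hc : g * cmat = cmat * g) :
    g (Sum.inl 0) (Sum.inl 0) = 1 ∨ g (Sum.inl 0) (Sum.inl 0) = -1 := by
  have c21 : g (Sum.inl 1) (Sum.inl 0) = 0 := by
    have := entry_eq hc (Sum.inl 1) (Sum.inr 0)
    simp [cmat, psiHmat, Matrix.mul_apply, Fintype.sum_sum_type, Fin.sum_univ_two] at this
    exact this
  have c31 : g (Sum.inr 0) (Sum.inl 0) = 0 := by
    have := entry_eq hc (Sum.inr 0) (Sum.inr 0)
    simp [cmat, psiHmat, Matrix.mul_apply, Fintype.sum_sum_type, Fin.sum_univ_two] at this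
    exact this
  have c41 : g (Sum.inr 1) (Sum.inl 0) = 0 := by
    have := entry_eq hc (Sum.inr 1) (Sum.inr 0)
    simp [cmat, psiHmat, Matrix.mul_apply, Fintype.sum_sum_type, Fin.sum_univ_two] at this
    exact this
  have c33 : g (Sum.inr 0) (Sum.inr 0) = g (Sum.inl 0) (Sum.inl 0) := by
    have := entry_eq hc (Sum.inl 0) (Sum.inr 0)
    simp [cmat, psiHmat, Matrix.mul_apply, Fintype.sum_sum_type, Fin.sum_univ_two] at this
    linear_combination this
  have s13 := entry_eq hs (Sum.inl 0) (Sum.inr 0)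
  simp [J, Matrix.mul_apply, Fintype.sum_sum_type, Fin.sum_univ_two, c21, c31, c41, c33] at s13
  apply zmod3_sq_one
  linear_combination s13

theorem comm_form (g : SpG) (hc : g * cG = cG * g) :
    ∃ m : M648, g = Psi0 m ∨ g = Psi0 m * negG := by
  have hs : g.1ᵀ * J (Fin 2) (ZMod 3) * g.1 = J (Fin 2) (ZMod 3) :=
    SymplecticGroup.mem_iff'.mp g.2
  have hc' : g.1 * cmat = cmat * g.1 := congrArg Subtype.val hc
  rcases entry11 g.1 hs hc' with h11 | h11
  · obtain ⟨h, A, hhA⟩ := stab_form g.1 hs hc' h11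
    refine ⟨⟨h, A⟩, Or.inl ?_⟩
    apply Subtype.ext
    rw [Psi0_coe]
    exact hhA.symm
  · have hs2 : (-g.1)ᵀ * J (Fin 2) (ZMod 3) * (-g.1) = J (Fin 2) (ZMod 3) := by
      rw [Matrix.transpose_neg, Matrix.neg_mul, Matrix.neg_mul, Matrix.mul_neg, neg_neg]
      exact hs
    have hc2 : (-g.1) * cmat = cmat * (-g.1) := by
      rw [Matrix.neg_mul, Matrix.mul_neg, hc']
    have h112 : (-g.1) (Sum.inl 0) (Sum.inl 0) = 1 := by
      rw [Matrix.neg_apply, h11, neg_neg]
    obtain ⟨h, A, hhA⟩ := stab_form (-g.1) hs2 hc2 h112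
    refine ⟨⟨h, A⟩, Or.inr ?_⟩
    apply Subtype.ext
    show g.1 = (Psi0 ⟨h, A⟩).1 * (-1)
    rw [Psi0_coe, Matrix.mul_neg, Matrix.mul_one]
    show g.1 = -(psiHmat h * psiSmat A)
    rw [hhA, neg_neg]

abbrev PG3 : Type := Cfsg.PSp 2 (ZMod 3)

/-- the model group inside `PSp₄(3)` -/
def Psi1 : M648 →* PG3 := (QuotientGroup.mk' (Subgroup.center SpG)).comp Psi0

def cP : PG3 := QuotientGroup.mk cG

theorem Psi1_injective : Function.Injective Psi1 := by
  rw [injective_iff_map_eq_one]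
  intro m hm
  have h1 : Psi0 m ∈ Subgroup.center SpG := (QuotientGroup.eq_one_iff _).mp hm
  rcases (mem_center_iff3 _).mp h1 with h | h
  · rw [Psi0_coe] at h
    obtain ⟨h2, h3⟩ := psi_inj _ _ h
    ext1
    · exact h2
    · exact h3
  · exfalso
    have h2 := entry_eq h (Sum.inl 0) (Sum.inl 0)
    rw [Psi0_coe, psi_entry] at h2
    revert h2
    simp only [Matrix.neg_apply, Matrix.one_apply_eq]
    decide

theorem cP_order : orderOf cP = 3 := by
  apply orderOf_eq_prime
  · show (QuotientGroup.mk cG : PG3) ^ 3 = 1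
    rw [← QuotientGroup.mk_pow, cG_pow]
    rfl
  · intro h
    have h1 : cG ∈ Subgroup.center SpG := (QuotientGroup.eq_one_iff _).mp h
    rcases (mem_center_iff3 _).mp h1 with h2 | h2
    · exact cmat_ne_one h2
    · exact cmat_ne_neg_one h2

theorem Psi1_range : Psi1.range = Subgroup.centralizer ({cP} : Set PG3) := by
  ext x
  rw [Subgroup.mem_centralizer_singleton_iff]
  constructor
  · rintro ⟨m, rfl⟩
    show (QuotientGroup.mk (Psi0 m) : PG3) * QuotientGroup.mk cG =
      QuotientGroup.mk cG * QuotientGroup.mk (Psi0 m)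
    rw [← QuotientGroup.mk_mul, ← QuotientGroup.mk_mul, Psi0_comm]
  · intro hx
    obtain ⟨g, rfl⟩ := QuotientGroup.mk_surjective x
    have h1 : (QuotientGroup.mk (g * cG) : PG3) = QuotientGroup.mk (cG * g) := hx
    rw [QuotientGroup.eq] at h1
    rcases (mem_center_iff3 _).mp h1 with h2 | h2
    · have h3 : (g * cG)⁻¹ * (cG * g) = 1 := Subtype.ext h2
      have h4 : g * cG = cG * g := by
        rw [inv_mul_eq_one] at h3
        exact h3
      obtain ⟨m, hm | hm⟩ := comm_form g h4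
      · exact ⟨m, by rw [hm]; rfl⟩
      · refine ⟨m, ?_⟩
        rw [hm]
        show (QuotientGroup.mk (Psi0 m) : PG3) = QuotientGroup.mk (Psi0 m * negG)
        rw [QuotientGroup.mk_mul, (QuotientGroup.eq_one_iff negG).mpr negG_center, mul_one]
    · exfalso
      have h3 : (g * cG)⁻¹ * (cG * g) = negG := Subtype.ext h2
      have h4 : cG * g = g * cG * negG := by
        rw [← h3]; group
      have hcen : ∀ w : SpG, negG * w = w * negG := fun w =>
        (Subgroup.mem_center_iff.mp negG_center w).symm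
      have h5 : g⁻¹ * cG * g = cG * negG := by
        calc g⁻¹ * cG * g = g⁻¹ * (cG * g) := by group
          _ = g⁻¹ * (g * cG * negG) := by rw [h4]
          _ = cG * negG := by group
      have h6 : (g⁻¹ * cG * g) ^ 3 = 1 := by
        have : g⁻¹ * cG * g = g⁻¹ * cG * g⁻¹⁻¹ := by rw [inv_inv]
        rw [this, conj_pow, cG_pow, mul_one, mul_inv_cancel]
      have h7 : (cG * negG) ^ 3 = negG := by
        have hc : Commute cG negG := (hcen cG).symm
        rw [hc.mul_pow, cG_pow, one_mul, pow_succ, pow_two, negG_sq, one_mul]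
      rw [h5, h7] at h6
      exact negG_ne_one h6

/-- over `ZMod 3` -/
theorem concrete3 : ∃ c : PG3, orderOf c = 3 ∧
    Nonempty (M648 ≃* Subgroup.centralizer ({c} : Set PG3)) := by
  refine ⟨cP, cP_order, ⟨?_⟩⟩
  exact (MonoidHom.ofInjective Psi1_injective).trans (MulEquiv.subgroupCongr Psi1_range)

section transfer

variable (F : Type*) [Field F] [Fintype F]

theorem card_PSp (hF : Fintype.card F = 3) : Nat.card (Cfsg.PSp 2 F) = 25920 := by
  have h1 := Cfsg.Agent.S0245.result (F := F) hF 2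
  have h2 := Cfsg.Agent.S0246.result (F := F) hF 2 (by norm_num)
  have h3 := Subgroup.card_eq_card_quotient_mul_card_subgroup
    (Subgroup.center (Matrix.symplecticGroup (Fin 2) F))
  rw [h1, h2] at h3
  have h4 : (3 : ℕ) ^ (2 ^ 2) * ∏ i ∈ Finset.range 2, (3 ^ (2 * (i + 1)) - 1) = 51840 := by
    simp [Finset.prod_range_succ]
  have h5 : Nat.gcd 2 (3 - 1) = 2 := by norm_num
  rw [h4, h5] at h3
  show Nat.card (Matrix.symplecticGroup (Fin 2) F ⧸
    Subgroup.center (Matrix.symplecticGroup (Fin 2) F)) = 25920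
  omega

theorem fact648 : (648 : ℕ).factorization 3 = 4 := by
  have h : (648 : ℕ) = 3 ^ 4 * 8 := by norm_num
  rw [h, Nat.factorization_mul (by norm_num) (by norm_num),
    Nat.Prime.factorization_pow Nat.prime_three]
  simp [Nat.factorization_eq_zero_of_not_dvd]

theorem fact25920 : (25920 : ℕ).factorization 3 = 4 := by
  have h : (25920 : ℕ) = 3 ^ 4 * 320 := by norm_num
  rw [h, Nat.factorization_mul (by norm_num) (by norm_num),
    Nat.Prime.factorization_pow Nat.prime_three]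
  simp [Nat.factorization_eq_zero_of_not_dvd]

/-- centralisers correspond under an isomorphism -/
theorem centralizer_transfer {G H : Type*} [Group G] [Group H] (Ξ : G ≃* H) (c : G) :
    Nonempty (Subgroup.centralizer ({c} : Set G) ≃* Subgroup.centralizer ({Ξ c} : Set H)) := by
  have hmap : (Subgroup.centralizer ({c} : Set G)).map Ξ.toMonoidHom =
      Subgroup.centralizer ({Ξ c} : Set H) := by
    ext x
    rw [Subgroup.mem_centralizer_singleton_iff]
    constructor
    · rintro ⟨y, hy, rfl⟩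
      have := Subgroup.mem_centralizer_singleton_iff.mp hy
      show Ξ y * Ξ c = Ξ c * Ξ y
      rw [← map_mul, ← map_mul, this]
    · intro hx
      refine ⟨Ξ.symm x, ?_, Ξ.apply_symm_apply x⟩
      show Ξ.symm x ∈ Subgroup.centralizer ({c} : Set G)
      rw [Subgroup.mem_centralizer_singleton_iff]
      apply Ξ.injective
      rw [map_mul, map_mul, Ξ.apply_symm_apply]
      exact hx
  exact ⟨(Ξ.subgroupMap _).trans (MulEquiv.subgroupCongr hmap)⟩

/-- the concrete statement over any field of order `3` -/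
theorem concreteF (hF : Fintype.card F = 3) :
    ∃ (c : Cfsg.PSp 2 F) (S : Sylow 3 (Cfsg.PSp 2 F)), orderOf c = 3 ∧
      c ∈ (S : Subgroup (Cfsg.PSp 2 F)) ∧
      c ∈ Subgroup.centralizer ((S : Subgroup (Cfsg.PSp 2 F)) : Set (Cfsg.PSp 2 F)) ∧
      Nonempty (M648 ≃* Subgroup.centralizer ({c} : Set (Cfsg.PSp 2 F))) := by
  haveI : Fact (Nat.Prime 3) := ⟨Nat.prime_three⟩
  obtain ⟨c₀, hc₀, ⟨e₀⟩⟩ := concrete3
  let eF : ZMod 3 ≃+* F := ZMod.ringEquivOfPrime F Nat.prime_three hF
  let Ξ : PG3 ≃* Cfsg.PSp 2 F :=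
    Cfsg.Agent.Lib.Helper8.Usp.centerQuotCongr (Cfsg.Agent.Lib.Helper8.Usp.spEquiv eF)
  obtain ⟨c, hc⟩ : ∃ c, c = Ξ c₀ := ⟨_, rfl⟩
  have hord : orderOf c = 3 := by rw [hc, MulEquiv.orderOf_eq, hc₀]
  obtain ⟨e₁⟩ := centralizer_transfer Ξ c₀
  rw [← hc] at e₁
  have e : M648 ≃* Subgroup.centralizer ({c} : Set (Cfsg.PSp 2 F)) := e₀.trans e₁
  haveI : Finite (Cfsg.PSp 2 F) := Nat.finite_of_card_ne_zero (by rw [card_PSp F hF]; norm_num)
  have hC : Nat.card (Subgroup.centralizer ({c} : Set (Cfsg.PSp 2 F))) = 648 := by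
    rw [← Nat.card_congr e.toEquiv, card_M648]
  have hcC : c ∈ Subgroup.centralizer ({c} : Set (Cfsg.PSp 2 F)) :=
    Subgroup.mem_centralizer_singleton_iff.mpr rfl
  -- a Sylow 3-subgroup of the centraliser containing c
  have hP : IsPGroup 3 (Subgroup.zpowers
      (⟨c, hcC⟩ : Subgroup.centralizer ({c} : Set (Cfsg.PSp 2 F)))) := by
    apply IsPGroup.of_card (n := 1)
    rw [Nat.card_zpowers, pow_one]
    rw [← hord]
    exact (Subgroup.orderOf_mk c hcC)
  obtain ⟨T₀, hT₀⟩ := hP.exists_le_sylow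
  have hT₀card : Nat.card T₀ = 3 ^ 4 := by
    rw [Sylow.card_eq_multiplicity, hC, fact648]
  obtain ⟨T, hT⟩ : ∃ T : Subgroup (Cfsg.PSp 2 F), T = (T₀ : Subgroup _).map
      (Subgroup.centralizer ({c} : Set (Cfsg.PSp 2 F))).subtype := ⟨_, rfl⟩
  have hTcard : Nat.card T = 3 ^ (Nat.card (Cfsg.PSp 2 F)).factorization 3 := by
    rw [hT, Subgroup.card_map_of_injective (Subgroup.subtype_injective _), hT₀card, card_PSp F hF,
      fact25920]
  refine ⟨c, Sylow.ofCard T hTcard, hord, ?_, ?_, ⟨e⟩⟩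
  · rw [Sylow.coe_ofCard, hT]
    exact ⟨⟨c, hcC⟩, hT₀ (Subgroup.mem_zpowers _), rfl⟩
  · rw [Sylow.coe_ofCard, Subgroup.mem_centralizer_iff]
    intro s hs
    rw [hT] at hs
    obtain ⟨s', _, rfl⟩ := hs
    exact Subgroup.mem_centralizer_singleton_iff.mp s'.2

end transfer

end Cfsg.Agent.Lib.Helper4.Ps
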