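import Mathlib
import Cfsg.Agent.Lib.Helper7.ProdSet

/-!
# Farm S1233, section C: generic lemmas on sections of exponent 2
-/

set_option autoImplicit false

namespace Cfsg.Agent.Lib.Helper4.QQC

open scoped Pointwise

/-- every section `H / N` of exponent 2 of `G` has order at most `k` -/
def SecB (k : ℕ) (G : Type*) [Group G] : Prop :=
  ∀ H N : Subgroup G, N ≤ H → (∀ h ∈ H, ∀ n ∈ N, h * n * h⁻¹ ∈ N) → (∀ h ∈ H, h * h ∈ N) →
    Nat.card H ≤ k * Nat.card N

variable {G : Type*} [Group G]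

/-- product formula for a subgroup and a normal subgroup -/
theorem card_sup_normal_mul_card_inf [Finite G] (H K : Subgroup G) [K.Normal] :
    Nat.card (H ⊔ K : Subgroup G) * Nat.card (H ⊓ K : Subgroup G) = Nat.card H * Nat.card K := by
  rw [← Cfsg.Agent.Lib.Helper7.card_mul_set_mul_card_inf H K, ← Subgroup.mul_normal H K]
  rfl

/-- (G1) gluing a normal subgroup and the quotient, in subgroup form -/
theorem sections_glue [Finite G] (K : Subgroup G) [K.Normal] (a b : ℕ)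
    (hK : ∀ H N : Subgroup G, H ≤ K → N ≤ H → (∀ h ∈ H, ∀ n ∈ N, h * n * h⁻¹ ∈ N) →
      (∀ h ∈ H, h * h ∈ N) → Nat.card H ≤ a * Nat.card N)
    (hQ : ∀ H N : Subgroup G, K ≤ N → N ≤ H → (∀ h ∈ H, ∀ n ∈ N, h * n * h⁻¹ ∈ N) →
      (∀ h ∈ H, h * h ∈ N) → Nat.card H ≤ b * Nat.card N) :
    SecB (a * b) G := by
  intro H N hNH hnorm hsq
  have hKn : ∀ (g k : G), k ∈ K → g * k * g⁻¹ ∈ K := fun g k hk =>
    (inferInstance : K.Normal).conj_mem k hk g
  -- the part inside `K`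
  have h1 := hK (H ⊓ K) (N ⊓ K) inf_le_right (inf_le_inf_right K hNH)
    (fun h hh n hn => ⟨hnorm h hh.1 n hn.1, hKn h n hn.2⟩)
    (fun h hh => ⟨hsq h hh.1, K.mul_mem hh.2 hh.2⟩)
  -- the part above `K`
  have hmemHK : ∀ x ∈ H ⊔ K, ∃ h ∈ H, ∃ k ∈ K, h * k = x := by
    intro x hx
    have : x ∈ ((H ⊔ K : Subgroup G) : Set G) := hx
    rw [Subgroup.mul_normal H K] at this
    exact Set.mem_mul.mp this
  have hmemNK : ∀ x ∈ N ⊔ K, ∃ n ∈ N, ∃ k ∈ K, n * k = x := by
    intro x hx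
    have : x ∈ ((N ⊔ K : Subgroup G) : Set G) := hx
    rw [Subgroup.mul_normal N K] at this
    exact Set.mem_mul.mp this
  have h2 := hQ (H ⊔ K) (N ⊔ K) le_sup_right (sup_le_sup_right hNH K)
    (by
      intro x hx y hy
      obtain ⟨h, hh, k, hk, rfl⟩ := hmemHK x hx
      obtain ⟨n, hn, k', hk', rfl⟩ := hmemNK y hy
      have e : h * k * (n * k') * (h * k)⁻¹
          = (h * n * h⁻¹) * (h * ((n⁻¹ * k * n) * k' * k⁻¹) * h⁻¹) := by group
      rw [e]
      refine Subgroup.mul_mem_sup (hnorm h hh n hn) (hKn h _ ?_)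
      refine K.mul_mem (K.mul_mem ?_ hk') (K.inv_mem hk)
      have := hKn n⁻¹ k hk
      rwa [inv_inv] at this)
    (by
      intro x hx
      obtain ⟨h, hh, k, hk, rfl⟩ := hmemHK x hx
      have e : h * k * (h * k) = (h * h) * ((h⁻¹ * k * h) * k) := by group
      rw [e]
      refine Subgroup.mul_mem_sup (hsq h hh) (K.mul_mem ?_ hk)
      have := hKn h⁻¹ k hk
      rwa [inv_inv] at this)
  have e1 := card_sup_normal_mul_card_inf H K
  have e2 := card_sup_normal_mul_card_inf N K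
  have hK0 : 0 < Nat.card K := Nat.card_pos
  have hN1 : 0 < Nat.card (N ⊓ K : Subgroup G) := Nat.card_pos
  have hH1 : 0 < Nat.card (H ⊓ K : Subgroup G) := Nat.card_pos
  -- |H| |K| = |HK| |H∩K| ≤ b |NK| a |N∩K| = a b |N| |K|
  have key : Nat.card H * Nat.card K ≤ (a * b * Nat.card N) * Nat.card K := by
    calc Nat.card H * Nat.card K
        = Nat.card (H ⊔ K : Subgroup G) * Nat.card (H ⊓ K : Subgroup G) := e1.symm
      _ ≤ (b * Nat.card (N ⊔ K : Subgroup G)) * (a * Nat.card (N ⊓ K : Subgroup G)) :=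
          Nat.mul_le_mul h2 h1
      _ = a * b * (Nat.card (N ⊔ K : Subgroup G) * Nat.card (N ⊓ K : Subgroup G)) := by ring
      _ = a * b * (Nat.card N * Nat.card K) := by rw [e2]
      _ = (a * b * Nat.card N) * Nat.card K := by ring
  exact Nat.le_of_mul_le_mul_right key hK0

end Cfsg.Agent.Lib.Helper4.QQC
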