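import Cfsg.Agent.Lib.Helper4.QQC1

/-!
# Farm S1233, section C: sections of a class-2 group with few elements of small order, and of a
group of order at most 8
-/

set_option autoImplicit false

namespace Cfsg.Agent.Lib.Helper4.QQC

/-- counting by fibres -/
theorem card_le_mul_of_fibers {α β : Type*} [Finite α] [Finite β] (f : α → β) (c : ℕ)
    (hfib : ∀ b : β, Nat.card {a : α // f a = b} ≤ c) : Nat.card α ≤ c * Nat.card β := by
  classical
  have := Fintype.ofFinite α
  have := Fintype.ofFinite β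
  have e : Nat.card α = Nat.card (Σ b : β, {a : α // f a = b}) :=
    Nat.card_congr (Equiv.sigmaFiberEquiv f).symm
  rw [e, Nat.card_sigma]
  calc ∑ b : β, Nat.card {a : α // f a = b} ≤ ∑ _b : β, c :=
        Finset.sum_le_sum (fun b _ => hfib b)
    _ = c * Nat.card β := by
        rw [Finset.sum_const, Finset.card_univ, Nat.card_eq_fintype_card, smul_eq_mul, mul_comm]

/-- a fibre that injects into a set of size at most `c` -/
theorem card_fiber_le {α β γ : Type*} [Finite γ] (f : α → β) (b : β) (c : ℕ)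
    (hγ : Nat.card γ ≤ c) (g : {a : α // f a = b} → γ) (hg : Function.Injective g) :
    Nat.card {a : α // f a = b} ≤ c :=
  (Nat.card_le_card_of_injective g hg).trans hγ

variable {R : Type*} [Group R]

/-- the commutator of two elements of `H` lies in `N` when `H / N` has exponent 2 -/
theorem comm_mem_of_sq {H N : Subgroup R} (hnorm : ∀ h ∈ H, ∀ n ∈ N, h * n * h⁻¹ ∈ N)
    (hsq : ∀ h ∈ H, h * h ∈ N) {x y : R} (hx : x ∈ H) (hy : y ∈ H) :
    x * y * x⁻¹ * y⁻¹ ∈ N := by
  have h1 : x * y * x⁻¹ * y⁻¹ =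
      ((x * y) * (x * y)) * (y⁻¹ * (x⁻¹ * x⁻¹) * y⁻¹⁻¹) * (y⁻¹ * y⁻¹) := by group
  rw [h1]
  refine mul_mem (mul_mem (hsq _ (mul_mem hx hy)) ?_) (hsq _ (inv_mem hy))
  exact hnorm _ (inv_mem hy) _ (hsq _ (inv_mem hx))

/-- (G2) sections of a group of class at most 2 with commutators in `{1, z}`, at most 8 elements
of square in `{1, z}` and at most 4 of square 1 -/
theorem sections_class2 [Finite R] (z : R) (hz1 : z ≠ 1) (hz2 : z * z = 1)
    (hzc : ∀ r : R, r * z = z * r)
    (hcomm : ∀ a b : R, a * b * a⁻¹ * b⁻¹ = 1 ∨ a * b * a⁻¹ * b⁻¹ = z)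
    (hT : Nat.card {r : R // r * r = 1 ∨ r * r = z} ≤ 8)
    (hΩ : Nat.card {r : R // r * r = 1} ≤ 4) : SecB 4 R := by
  intro H N hNH hnorm hsq
  -- squares of products
  have hsqmul : ∀ a b : R, (a * b) * (a * b) = a * a * (b * b) ∨
      (a * b) * (a * b) = a * a * (b * b) * z := by
    intro a b
    have e : (a * b) * (a * b) = a * a * (a⁻¹ * b * a⁻¹⁻¹ * b⁻¹) * (b * b) := by group
    rcases hcomm a⁻¹ b with h | h
    · left; rw [e, h, mul_one]
    · right
      rw [e, h, mul_assoc (a * a) z, hzc (b * b) |>.symm, ← mul_assoc]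
  by_cases hzN : z ∈ N
  · -- the map to `N / ⟨z⟩`
    let zN : N := ⟨z, hzN⟩
    let Z : Subgroup N := Subgroup.zpowers zN
    have hZmem : ∀ n : N, n ∈ Z ↔ (n : R) = 1 ∨ (n : R) = z := by
      intro n
      constructor
      · intro hn
        obtain ⟨k, hk⟩ := Subgroup.mem_zpowers_iff.mp hn
        have hk' : (n : R) = z ^ k := by rw [← hk]; simp [zN]
        rcases Int.even_or_odd k with ⟨m, hm⟩ | ⟨m, hm⟩
        · left
          rw [hk', hm, ← two_mul, zpow_mul, zpow_two, hz2, one_zpow]
        · right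
          rw [hk', hm, zpow_add, zpow_mul, zpow_two, hz2, one_zpow, one_mul, zpow_one]
      · rintro (h | h)
        · have : n = 1 := Subtype.ext h
          rw [this]; exact Z.one_mem
        · have : n = zN := Subtype.ext h
          rw [this]; exact Subgroup.mem_zpowers zN
    have hcardZ : Nat.card Z = 2 := by
      rw [Nat.card_zpowers]
      have h2 : zN ^ 2 = 1 := by
        apply Subtype.ext
        simp [zN, pow_two, hz2]
      have hne : zN ≠ 1 := fun h => hz1 (congrArg Subtype.val h)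
      exact orderOf_eq_prime h2 hne
    let f : H → N ⧸ Z := fun h => QuotientGroup.mk (⟨(h : R) * h, hsq h h.2⟩ : N)
    have hfib : ∀ b : N ⧸ Z, Nat.card {h : H // f h = b} ≤ 8 := by
      intro b
      by_cases hne : Nonempty {h : H // f h = b}
      · obtain ⟨⟨h₀, hh₀⟩⟩ := hne
        refine card_fiber_le f b 8 hT
          (fun h => ⟨(h₀ : R)⁻¹ * (h.1 : R), ?_⟩) ?_
        · have hh : f h.1 = f h₀ := h.2.trans hh₀.symm
          have h1 : (⟨(h₀ : R) * h₀, hsq h₀ h₀.2⟩ : N)⁻¹ * ⟨(h.1 : R) * h.1, hsq h.1 h.1.2⟩ ∈ Z :=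
            QuotientGroup.eq.mp hh.symm
          rw [hZmem] at h1
          have h1' : ((h₀ : R) * h₀)⁻¹ * ((h.1 : R) * h.1) = 1 ∨
              ((h₀ : R) * h₀)⁻¹ * ((h.1 : R) * h.1) = z := by simpa using h1
          have hinv : (h₀ : R)⁻¹ * (h₀ : R)⁻¹ = ((h₀ : R) * h₀)⁻¹ := by group
          rcases hsqmul (h₀ : R)⁻¹ (h.1 : R) with e | e <;> rcases h1' with e' | e'
          · left; rw [e, hinv, e']
          · right; rw [e, hinv, e']
          · right; rw [e, hinv, e', one_mul]
          · left; rw [e, hinv, e', hz2]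
        · intro h h' hhh'
          have := congrArg Subtype.val hhh'
          simp only [mul_right_inj] at this
          exact Subtype.ext (Subtype.ext this)
      · rw [not_nonempty_iff] at hne
        simp
    have hmain := card_le_mul_of_fibers f 8 hfib
    have hq : Nat.card N = Nat.card (N ⧸ Z) * Nat.card Z :=
      Subgroup.card_eq_card_quotient_mul_card_subgroup Z
    rw [hcardZ] at hq
    omega
  · -- `H` is commutative and squaring is injective modulo the involutions
    have hab : ∀ x ∈ H, ∀ y ∈ H, x * y = y * x := by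
      intro x hx y hy
      have hc := comm_mem_of_sq hnorm hsq hx hy
      rcases hcomm x y with h | h
      · have : x * y = (x * y * x⁻¹ * y⁻¹) * (y * x) := by group
        rw [this, h, one_mul]
      · rw [h] at hc; exact absurd hc hzN
    let f : H → N := fun h => ⟨(h : R) * h, hsq h h.2⟩
    have hfib : ∀ b : N, Nat.card {h : H // f h = b} ≤ 4 := by
      intro b
      by_cases hne : Nonempty {h : H // f h = b}
      · obtain ⟨⟨h₀, hh₀⟩⟩ := hne
        refine card_fiber_le f b 4 hΩ
          (fun h => ⟨(h₀ : R)⁻¹ * (h.1 : R), ?_⟩) ?_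
        · have hh : f h.1 = f h₀ := h.2.trans hh₀.symm
          have h1 : (h.1 : R) * h.1 = (h₀ : R) * h₀ := congrArg Subtype.val hh
          have hc := hab _ h₀.2 _ h.1.2
          have e : (h₀ : R)⁻¹ * (h.1 : R) * ((h₀ : R)⁻¹ * (h.1 : R))
              = (h₀ : R)⁻¹ * (h₀ : R)⁻¹ * ((h.1 : R) * (h.1 : R)) := by
            have hc' : (h.1 : R) * (h₀ : R)⁻¹ = (h₀ : R)⁻¹ * (h.1 : R) := by
              have : (h.1 : R) * (h₀ : R)⁻¹ = (h₀ : R)⁻¹ * ((h₀ : R) * (h.1 : R)) * (h₀ : R)⁻¹ := by
                group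
              rw [this, hc]; group
            calc (h₀ : R)⁻¹ * (h.1 : R) * ((h₀ : R)⁻¹ * (h.1 : R))
                = (h₀ : R)⁻¹ * ((h.1 : R) * (h₀ : R)⁻¹) * (h.1 : R) := by group
              _ = (h₀ : R)⁻¹ * ((h₀ : R)⁻¹ * (h.1 : R)) * (h.1 : R) := by rw [hc']
              _ = _ := by group
          rw [e, h1]; group
        · intro h h' hhh'
          have := congrArg Subtype.val hhh'
          simp only [mul_right_inj] at this
          exact Subtype.ext (Subtype.ext this)
      · rw [not_nonempty_iff] at hne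
        simp
    exact card_le_mul_of_fibers f 4 hfib

/-- (G3) sections of a 2-group of order at most 8 which is not of exponent 2 -/
theorem sections_small {D : Type*} [Group D] [Finite D] (hp : IsPGroup 2 D)
    (h8 : Nat.card D ≤ 8) (hne : ∃ d : D, d * d ≠ 1) : SecB 4 D := by
  intro H N hNH hnorm hsq
  have : Fact (Nat.Prime 2) := ⟨Nat.prime_two⟩
  obtain ⟨a, ha⟩ := (hp.to_subgroup H).exists_card_eq
  obtain ⟨b, hb⟩ := (hp.to_subgroup N).exists_card_eq
  have hH8 : Nat.card H ≤ 8 := (Subgroup.card_le_card_group H).trans h8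
  rw [ha, hb]
  by_contra hcon
  push Not at hcon
  have ha3 : a ≤ 3 := by
    by_contra h
    push Not at h
    have : 2 ^ 4 ≤ 2 ^ a := Nat.pow_le_pow_right (by norm_num) h
    rw [ha] at hH8
    omega
  have hb0 : b = 0 := by
    by_contra h
    have h1 : 1 ≤ b := Nat.one_le_iff_ne_zero.mpr h
    have h2 : 2 ^ 1 ≤ 2 ^ b := Nat.pow_le_pow_right (by norm_num) h1
    have h3 : 2 ^ a ≤ 2 ^ 3 := Nat.pow_le_pow_right (by norm_num) ha3
    omega
  have ha3' : a = 3 := by
    subst hb0
    by_contra h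
    have h2 : a ≤ 2 := by omega
    have h3 : 2 ^ a ≤ 2 ^ 2 := Nat.pow_le_pow_right (by norm_num) h2
    norm_num at hcon
    omega
  subst hb0
  subst ha3'
  have hNbot : N = ⊥ := Subgroup.eq_bot_of_card_eq N (by rw [hb]; norm_num)
  have hHtop : H = ⊤ := by
    apply Subgroup.eq_top_of_card_eq
    have : Nat.card D ≤ Nat.card H := by rw [ha]; exact h8
    exact le_antisymm (Subgroup.card_le_card_group H) this
  obtain ⟨d, hd⟩ := hne
  have := hsq d (by rw [hHtop]; trivial)
  rw [hNbot, Subgroup.mem_bot] at this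
  exact hd this

end Cfsg.Agent.Lib.Helper4.QQC
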