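import Cfsg.Agent.Lib.Helper4.QQC2

/-!
# Farm S1233, section C: the group `B = ⟨i₁, i₂⟩ ≅ Z₄ × Z₂`
-/

set_option autoImplicit false
set_option linter.unusedSectionVars false

namespace Cfsg.Agent.Lib.Helper4.QQC

variable {S : Type*} [Group S]

theorem zpow_cases4 {g : S} (h4 : g ^ 4 = 1) (m : ℤ) :
    g ^ m = 1 ∨ g ^ m = g ∨ g ^ m = g ^ 2 ∨ g ^ m = g ^ 3 := by
  have hm : m = 4 * (m / 4) + m % 4 := (Int.mul_ediv_add_emod m 4).symm
  have h0 : 0 ≤ m % 4 := Int.emod_nonneg m (by norm_num)
  have h3 : m % 4 < 4 := Int.emod_lt_of_pos m (by norm_num)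
  have e : g ^ m = g ^ (m % 4) := by
    conv_lhs => rw [hm]
    rw [zpow_add, zpow_mul]
    have : g ^ (4 : ℤ) = 1 := by exact_mod_cast h4
    rw [this, one_zpow, one_mul]
  rw [e]
  have hcases : m % 4 = 0 ∨ m % 4 = 1 ∨ m % 4 = 2 ∨ m % 4 = 3 := by omega
  rcases hcases with h | h | h | h <;> rw [h]
  · left; simp
  · right; left; simp
  · right; right; left; exact_mod_cast (zpow_natCast g 2)
  · right; right; right; exact_mod_cast (zpow_natCast g 3)

section B
variable {i1 i2 z : S} (h1 : i1 * i1 = z) (h2 : i2 * i2 = z) (hz : z * z = 1)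
  (hc : i1 * i2 = i2 * i1)
include h1 h2 hz hc

theorem z_comm_i2 : z * i2 = i2 * z := by
  rw [← h1, mul_assoc, hc, ← mul_assoc, hc, mul_assoc]

theorem z_comm_i1 : z * i1 = i1 * z := by
  rw [← h1, mul_assoc]

/-- the eight elements of `⟨i₁, i₂⟩` -/
theorem mem_B_cases {x : S} (hx : x ∈ Subgroup.closure ({i1, i2} : Set S)) :
    x = 1 ∨ x = i1 ∨ x = z ∨ x = i1 * z ∨ x = i2 ∨ x = i2 * z ∨ x = i1 * i2 ∨
      x = i1 * i2 * z := by
  have hzi2 := z_comm_i2 h1 h2 hz hc
  have h14 : i1 ^ 4 = 1 := by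
    have : i1 ^ 4 = (i1 * i1) * (i1 * i1) := by simp [pow_succ, mul_assoc]
    rw [this, h1, hz]
  have h24 : i2 ^ 4 = 1 := by
    have : i2 ^ 4 = (i2 * i2) * (i2 * i2) := by simp [pow_succ, mul_assoc]
    rw [this, h2, hz]
  have h12 : i1 ^ 2 = z := by rw [pow_two, h1]
  have h13 : i1 ^ 3 = i1 * z := by
    have : i1 ^ 3 = i1 * (i1 * i1) := by simp [pow_succ, mul_assoc]
    rw [this, h1]
  have h22 : i2 ^ 2 = z := by rw [pow_two, h2]
  have h23 : i2 ^ 3 = i2 * z := by
    have : i2 ^ 3 = i2 * (i2 * i2) := by simp [pow_succ, mul_assoc]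
    rw [this, h2]
  -- product form
  have hpair : ∃ m n : ℤ, x = i1 ^ m * i2 ^ n := by
    have hsup : Subgroup.closure ({i1, i2} : Set S)
        = Subgroup.zpowers i1 ⊔ Subgroup.zpowers i2 := by
      rw [Set.insert_eq, Subgroup.closure_union, Subgroup.zpowers_eq_closure,
        Subgroup.zpowers_eq_closure]
    rw [hsup] at hx
    have hle : Subgroup.zpowers i1 ≤ Subgroup.normalizer ((Subgroup.zpowers i2 : Subgroup S) : Set S) := by
      refine le_trans ?_ (Subgroup.centralizer_le_normalizer _)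
      rw [Subgroup.zpowers_le, Subgroup.mem_centralizer_iff]
      intro y hy
      obtain ⟨k, rfl⟩ := Subgroup.mem_zpowers_iff.mp hy
      have : Commute i2 i1 := hc.symm
      exact (this.zpow_left k).eq
    have hx' : x ∈ ((Subgroup.zpowers i1 ⊔ Subgroup.zpowers i2 : Subgroup S) : Set S) := hx
    rw [Subgroup.coe_mul_of_left_le_normalizer_right _ _ hle] at hx'
    obtain ⟨a, ha, b, hb, rfl⟩ := Set.mem_mul.mp hx'
    obtain ⟨m, rfl⟩ := Subgroup.mem_zpowers_iff.mp ha
    obtain ⟨n, rfl⟩ := Subgroup.mem_zpowers_iff.mp hb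
    exact ⟨m, n, rfl⟩
  obtain ⟨m, n, rfl⟩ := hpair
  rcases zpow_cases4 h14 m with e1 | e1 | e1 | e1 <;>
    rcases zpow_cases4 h24 n with e2 | e2 | e2 | e2 <;> rw [e1, e2]
  · left; rw [one_mul]
  · right; right; right; right; left; rw [one_mul]
  · right; right; left; rw [one_mul, h22]
  · right; right; right; right; right; left; rw [one_mul, h23]
  · right; left; rw [mul_one]
  · right; right; right; right; right; right; left; rfl
  · right; right; right; left; rw [h22]
  · right; right; right; right; right; right; right; rw [h23, mul_assoc]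
  · right; right; left; rw [mul_one, h12]
  · right; right; right; right; right; left; rw [h12, hzi2]
  · left; rw [h12, h22, hz]
  · right; right; right; right; left; rw [h12, h23, ← mul_assoc, hzi2, mul_assoc, hz, mul_one]
  · right; right; right; left; rw [mul_one, h13]
  · right; right; right; right; right; right; right
    rw [h13, mul_assoc, hzi2, mul_assoc]
  · right; left; rw [h13, h22, mul_assoc, hz, mul_one]
  · right; right; right; right; right; right; left
    rw [h13, h23, mul_assoc, ← mul_assoc z, hzi2, mul_assoc i2, hz, mul_one]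

end B

end Cfsg.Agent.Lib.Helper4.QQC
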