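import Cfsg.Agent.Lib.Helper4.QQC3
import Cfsg.Agent.Lib.Helper1.S1233Defs

/-!
# Farm S1233, section C: counting lemmas for the final count
-/

set_option autoImplicit false
set_option linter.unusedSectionVars false

namespace Cfsg.Agent.Lib.Helper4.QQC

open Cfsg.Agent.Lib.Helper1.S1233

/-- central elements of `Q₈` have order at most 2 -/
theorem q8_central_sq : ∀ x : QuaternionGroup 2, (∀ y, x * y = y * x) → x * x = 1 := by
  decide

/-- a subtype whose elements all map injectively into a list -/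
theorem card_subtype_le_of_list {α β : Type*} (P : α → Prop) (f : α → β)
    (hf : Function.Injective f) (l : List β) (h : ∀ a, P a → f a ∈ l) :
    Nat.card {a // P a} ≤ l.length := by
  classical
  let g : {a // P a} → {b : β // b ∈ l.toFinset} :=
    fun a => ⟨f a.1, List.mem_toFinset.mpr (h a.1 a.2)⟩
  have hg : Function.Injective g := by
    intro a b hab
    apply Subtype.ext
    apply hf
    exact congrArg Subtype.val hab
  have h1 := Nat.card_le_card_of_injective g hg
  have h2 : Nat.card {b : β // b ∈ l.toFinset} = l.toFinset.card := by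
    rw [Nat.card_eq_fintype_card, Fintype.card_coe]
  rw [h2] at h1
  exact h1.trans (List.toFinset_card_le l)

variable {S : Type*} [Group S]

theorem mem_Zs_iff {z : S} (hz2 : z * z = 1) {x : S} : x ∈ Zs z ↔ x = 1 ∨ x = z := by
  constructor
  · intro hx
    obtain ⟨k, rfl⟩ := Subgroup.mem_zpowers_iff.mp hx
    have hk : k = 2 * (k / 2) + k % 2 := (Int.mul_ediv_add_emod k 2).symm
    have hz : z ^ (2 : ℤ) = 1 := by
      have : z ^ (2 : ℕ) = 1 := by rw [pow_two, hz2]
      exact_mod_cast this
    rw [hk, zpow_add, zpow_mul, hz, one_zpow, one_mul]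
    rcases Int.emod_two_eq_zero_or_one k with h | h <;> rw [h]
    · left; simp
    · right; simp
  · rintro (rfl | rfl)
    · exact one_mem _
    · exact Subgroup.mem_zpowers _

/-- `Base` forces `i₂ ∉ Q₁` for an element `i₂ ∈ Q₂` of order 4 -/
theorem not_mem_of_base {Q₁ Q₂ : Subgroup S} {z i₂ : S} (hB : Base Q₁ Q₂ z) (hi₂ : i₂ ∈ Q₂)
    (h2 : i₂ * i₂ = z) : i₂ ∉ Q₁ := by
  intro hmem
  obtain ⟨e⟩ := hB.q1
  have hcen : ∀ y : QuaternionGroup 2, e ⟨i₂, hmem⟩ * y = y * e ⟨i₂, hmem⟩ := by
    intro y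
    obtain ⟨w, rfl⟩ := e.surjective y
    rw [← map_mul, ← map_mul]
    congr 1
    apply Subtype.ext
    exact (hB.comm w.1 w.2 i₂ hi₂).symm
  have h := q8_central_sq _ hcen
  rw [← map_mul, ← map_one e] at h
  have h' := e.injective h
  have h'' : i₂ * i₂ = 1 := congrArg Subtype.val h'
  exact hB.z_ne (h2 ▸ h'')

end Cfsg.Agent.Lib.Helper4.QQC
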