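import Cfsg.Agent.Lib.Helper4.QQC4

/-!
# Farm S1233, section C: sections inside `R = C_S(B)`
-/

set_option autoImplicit false
set_option linter.unusedSectionVars false
set_option linter.unusedVariables false

namespace Cfsg.Agent.Lib.Helper4.QQC

open Cfsg.Agent.Lib.Helper1.S1233

variable {S : Type*} [Group S] {z i1 i2 : S}

theorem sq_mul_z (hz2 : z * z = 1) (hzc : ∀ g : S, g * z = z * g) (x : S) :
    (x * z) * (x * z) = x * x := by
  calc x * z * (x * z) = x * (z * x) * z := by simp only [mul_assoc]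
    _ = x * (x * z) * z := by rw [← hzc x]
    _ = (x * x) * (z * z) := by simp only [mul_assoc]
    _ = x * x := by rw [hz2, mul_one]

theorem sq_i1i2 (hz2 : z * z = 1) (h1 : i1 * i1 = z) (h2 : i2 * i2 = z)
    (hc : i1 * i2 = i2 * i1) : (i1 * i2) * (i1 * i2) = 1 := by
  calc i1 * i2 * (i1 * i2) = i1 * (i2 * i1) * i2 := by simp only [mul_assoc]
    _ = i1 * (i1 * i2) * i2 := by rw [← hc]
    _ = (i1 * i1) * (i2 * i2) := by simp only [mul_assoc]
    _ = 1 := by rw [h1, h2, hz2]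

/-- the elements of `B` of order 4 -/
theorem mem_T4 (hz1 : z ≠ 1) (hz2 : z * z = 1) (hzc : ∀ g : S, g * z = z * g)
    (h1 : i1 * i1 = z) (h2 : i2 * i2 = z) (hc : i1 * i2 = i2 * i1)
    {x : S} (hx : x ∈ Bs i1 i2) (hxx : x * x = z) :
    x = i1 ∨ x = i1 * z ∨ x = i2 ∨ x = i2 * z := by
  rcases mem_B_cases h1 h2 hz2 hc hx with rfl | rfl | rfl | rfl | rfl | rfl | rfl | rfl
  · exfalso; rw [one_mul] at hxx; exact hz1 hxx.symm
  · left; rfl
  · exfalso; rw [hz2] at hxx; exact hz1 hxx.symm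
  · right; left; rfl
  · right; right; left; rfl
  · right; right; right; rfl
  · exfalso; rw [sq_i1i2 hz2 h1 h2 hc] at hxx; exact hz1 hxx.symm
  · exfalso; rw [sq_mul_z hz2 hzc, sq_i1i2 hz2 h1 h2 hc] at hxx; exact hz1 hxx.symm

/-- the elements of `B` of order at most 2 -/
theorem mem_Omega (hz1 : z ≠ 1) (hz2 : z * z = 1) (hzc : ∀ g : S, g * z = z * g)
    (h1 : i1 * i1 = z) (h2 : i2 * i2 = z) (hc : i1 * i2 = i2 * i1)
    {x : S} (hx : x ∈ Bs i1 i2) (hxx : x * x = 1) :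
    x = 1 ∨ x = z ∨ x = i1 * i2 ∨ x = i1 * i2 * z := by
  rcases mem_B_cases h1 h2 hz2 hc hx with rfl | rfl | rfl | rfl | rfl | rfl | rfl | rfl
  · left; rfl
  · exfalso; rw [h1] at hxx; exact hz1 hxx
  · right; left; rfl
  · exfalso; rw [sq_mul_z hz2 hzc, h1] at hxx; exact hz1 hxx
  · exfalso; rw [h2] at hxx; exact hz1 hxx
  · exfalso; rw [sq_mul_z hz2 hzc, h2] at hxx; exact hz1 hxx
  · right; right; left; rfl
  · right; right; right; rfl

theorem mem_Rs_iff {r : S} : r ∈ Rs i1 i2 ↔ i1 * r = r * i1 ∧ i2 * r = r * i2 := by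
  simp [Subgroup.mem_centralizer_iff]

theorem Bs_comm_Rs {b r : S} (hb : b ∈ Bs i1 i2) (hr : r ∈ Rs i1 i2) : b * r = r * b := by
  have h := Subgroup.closure_le_centralizer_centralizer ({i1, i2} : Set S) hb
  rw [Subgroup.mem_centralizer_iff] at h
  exact (h r hr).symm

theorem conj_comm_of {g r a : S} (h : (g⁻¹ * a * g) * r = r * (g⁻¹ * a * g)) :
    a * (g * r * g⁻¹) = (g * r * g⁻¹) * a := by
  have e : a * (g * r * g⁻¹) = g * ((g⁻¹ * a * g) * r) * g⁻¹ := by group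
  rw [e, h]; group

theorem Rs_normal (hnB : ∀ g : S, g⁻¹ * i1 * g ∈ Bs i1 i2 ∧ g⁻¹ * i2 * g ∈ Bs i1 i2) :
    (Rs i1 i2).Normal := by
  refine ⟨fun r hr g => ?_⟩
  rw [mem_Rs_iff]
  exact ⟨conj_comm_of (Bs_comm_Rs (hnB g).1 hr), conj_comm_of (Bs_comm_Rs (hnB g).2 hr)⟩

/-- sections inside `R` -/
theorem sections_in_R [Finite S] (hz1 : z ≠ 1) (hz2 : z * z = 1) (hzc : ∀ g : S, g * z = z * g)
    (h1 : i1 * i1 = z) (h2 : i2 * i2 = z) (hc : i1 * i2 = i2 * i1)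
    (hσ1 : ∀ r ∈ Rs i1 i2, ∀ s ∈ Rs i1 i2, cm r (s) ∈ Zs z)
    (hσ2 : ∀ r ∈ Rs i1 i2, r * r ∈ Zs z → r ∈ Bs i1 i2) :
    SecB 4 ↥(Rs i1 i2) := by
  have hzR : z ∈ Rs i1 i2 := by
    rw [mem_Rs_iff]; exact ⟨hzc i1, hzc i2⟩
  refine sections_class2 (⟨z, hzR⟩ : ↥(Rs i1 i2)) ?_ ?_ ?_ ?_ ?_ ?_
  · intro h; exact hz1 (congrArg Subtype.val h)
  · exact Subtype.ext hz2
  · intro r; exact Subtype.ext (hzc r.1)
  · intro a b
    have h := hσ1 a.1⁻¹ (inv_mem a.2) b.1⁻¹ (inv_mem b.2)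
    rw [mem_Zs_iff hz2] at h
    simp only [cm, inv_inv] at h
    rcases h with h | h
    · left; exact Subtype.ext h
    · right; exact Subtype.ext h
  · refine card_subtype_le_of_list _ (fun r : ↥(Rs i1 i2) => (r : S)) Subtype.val_injective
      [1, i1, z, i1 * z, i2, i2 * z, i1 * i2, i1 * i2 * z] ?_
    intro r hr
    have hrr : (r : S) * r ∈ Zs z := by
      rw [mem_Zs_iff hz2]
      rcases hr with h | h
      · left; exact congrArg Subtype.val h
      · right; exact congrArg Subtype.val h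
    have hB := hσ2 r.1 r.2 hrr
    rcases mem_B_cases h1 h2 hz2 hc hB with h | h | h | h | h | h | h | h <;> simp [h]
  · refine card_subtype_le_of_list _ (fun r : ↥(Rs i1 i2) => (r : S)) Subtype.val_injective
      [1, z, i1 * i2, i1 * i2 * z] ?_
    intro r hr
    have hr1 : (r : S) * r = 1 := congrArg Subtype.val hr
    have hrr : (r : S) * r ∈ Zs z := by
      rw [mem_Zs_iff hz2]; left; exact hr1
    have hB := hσ2 r.1 r.2 hrr
    rcases mem_Omega hz1 hz2 hzc h1 h2 hc hB hr1 with h | h | h | h <;> simp [h]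

/-- transfer of `SecB` from the subgroup type to subgroups inside it -/
theorem SecB_transfer (k : ℕ) (K : Subgroup S) (h : SecB k ↥K)
    (H N : Subgroup S) (hHK : H ≤ K) (hNH : N ≤ H) (hn : ∀ r ∈ H, ∀ m ∈ N, r * m * r⁻¹ ∈ N)
    (hsq : ∀ r ∈ H, r * r ∈ N) : Nat.card H ≤ k * Nat.card N := by
  have hNK : N ≤ K := hNH.trans hHK
  have h1 := h (H.subgroupOf K) (N.subgroupOf K) (fun x hx => hNH hx)
    (fun r hr m hm => hn _ hr _ hm) (fun r hr => hsq _ hr)
  rw [Nat.card_congr (Subgroup.subgroupOfEquivOfLe hHK).toEquiv,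
    Nat.card_congr (Subgroup.subgroupOfEquivOfLe hNK).toEquiv] at h1
  exact h1

end Cfsg.Agent.Lib.Helper4.QQC
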