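import Cfsg.Agent.Lib.Helper4.QQC5
import Cfsg.Agent.Lib.Helper5.HDU1

/-!
# Farm S1233, unit U-C: the final count from (SIGMA)
-/

set_option autoImplicit false
set_option linter.unusedSectionVars false
set_option linter.unusedVariables false

namespace Cfsg.Agent.Lib.Helper4.QQC

open Cfsg.Agent.Lib.Helper1.S1233

variable {S : Type*} [Group S] {z i1 i2 : S}

/-- the pair of conjugates of `i₁, i₂` under `g` -/
def cpair (i1 i2 g : S) : S × S := (g⁻¹ * i1 * g, g⁻¹ * i2 * g)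

theorem card_le_of_image_list [Finite S] (L : List (S × S))
    (hL : ∀ g : S, cpair i1 i2 g ∈ L) :
    Nat.card S ≤ Nat.card ↥(Rs i1 i2) * L.length := by
  classical
  let f : S → {p : S × S // p ∈ L.toFinset} :=
    fun g => ⟨cpair i1 i2 g, List.mem_toFinset.mpr (hL g)⟩
  have hfib : ∀ b, Nat.card {a : S // f a = b} ≤ Nat.card ↥(Rs i1 i2) := by
    intro b
    rcases isEmpty_or_nonempty {a : S // f a = b} with he | ⟨⟨g0, hg0⟩⟩
    · rw [Nat.card_of_isEmpty]; exact Nat.zero_le _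
    · have key : ∀ a : {a : S // f a = b}, a.1 * g0⁻¹ ∈ Rs i1 i2 := by
        intro a
        have hab : f a.1 = f g0 := a.2.trans hg0.symm
        have hp : cpair i1 i2 a.1 = cpair i1 i2 g0 := congrArg Subtype.val hab
        have e1 : a.1⁻¹ * i1 * a.1 = g0⁻¹ * i1 * g0 := congrArg Prod.fst hp
        have e2 : a.1⁻¹ * i2 * a.1 = g0⁻¹ * i2 * g0 := congrArg Prod.snd hp
        rw [mem_Rs_iff]
        constructor
        · have : i1 * (a.1 * g0⁻¹) = a.1 * (a.1⁻¹ * i1 * a.1) * g0⁻¹ := by group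
          rw [this, e1]; group
        · have : i2 * (a.1 * g0⁻¹) = a.1 * (a.1⁻¹ * i2 * a.1) * g0⁻¹ := by group
          rw [this, e2]; group
      refine card_fiber_le f b _ le_rfl (fun a => (⟨a.1 * g0⁻¹, key a⟩ : ↥(Rs i1 i2))) ?_
      intro a a' h
      have h' : a.1 * g0⁻¹ = a'.1 * g0⁻¹ := congrArg Subtype.val h
      exact Subtype.ext (mul_right_cancel h')
  have h1 := card_le_mul_of_fibers f _ hfib
  have h2 : Nat.card {p : S × S // p ∈ L.toFinset} = L.toFinset.card := by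
    rw [Nat.card_eq_fintype_card, Fintype.card_coe]
  rw [h2] at h1
  exact h1.trans (Nat.mul_le_mul_left _ (List.toFinset_card_le L))

theorem cpair_mem_P8 (hz1 : z ≠ 1) (hz2 : z * z = 1) (hzc : ∀ g : S, g * z = z * g)
    (h1 : i1 * i1 = z) (h2 : i2 * i2 = z) (hc : i1 * i2 = i2 * i1)
    (hne1 : i2 ≠ i1) (hne2 : i2 ≠ i1 * z)
    (hnB : ∀ g : S, g⁻¹ * i1 * g ∈ Bs i1 i2 ∧ g⁻¹ * i2 * g ∈ Bs i1 i2) (g : S) :
    cpair i1 i2 g ∈ [(i1, i2), (i1, i2 * z), (i1 * z, i2), (i1 * z, i2 * z), (i2, i1),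
      (i2, i1 * z), (i2 * z, i1), (i2 * z, i1 * z)] := by
  have conj_sq : ∀ a : S, (g⁻¹ * a * g) * (g⁻¹ * a * g) = g⁻¹ * (a * a) * g := by
    intro a; group
  have hzconj : g⁻¹ * z * g = z := by
    rw [mul_assoc, ← hzc g, ← mul_assoc, inv_mul_cancel, one_mul]
  have ha := mem_T4 hz1 hz2 hzc h1 h2 hc (hnB g).1 (by rw [conj_sq, h1, hzconj])
  have hb := mem_T4 hz1 hz2 hzc h1 h2 hc (hnB g).2 (by rw [conj_sq, h2, hzconj])
  have hab1 : g⁻¹ * i2 * g ≠ g⁻¹ * i1 * g := by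
    intro h
    exact hne1 (mul_left_cancel (mul_right_cancel h))
  have hab2 : g⁻¹ * i2 * g ≠ g⁻¹ * i1 * g * z := by
    intro h
    have e : g⁻¹ * i1 * g * z = g⁻¹ * (i1 * z) * g := by
      rw [mul_assoc (g⁻¹ * i1) g z, hzc g]; simp only [mul_assoc]
    rw [e] at h
    exact hne2 (mul_left_cancel (mul_right_cancel h))
  have hzz : ∀ x : S, x = x * z * z := by
    intro x; rw [mul_assoc, hz2, mul_one]
  unfold cpair
  generalize g⁻¹ * i1 * g = a at *
  generalize g⁻¹ * i2 * g = b at *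
  rcases ha with rfl | rfl | rfl | rfl <;> rcases hb with rfl | rfl | rfl | rfl <;>
    first
    | exact absurd rfl hab1
    | exact absurd rfl hab2
    | exact absurd (hzz _) hab2
    | simp

theorem exists_pair [Finite S] (hz1 : z ≠ 1) (hz2 : z * z = 1) (hzc : ∀ g : S, g * z = z * g)
    (h1 : i1 * i1 = z) (h2 : i2 * i2 = z) (hc : i1 * i2 = i2 * i1)
    (hne1 : i2 ≠ i1) (hne2 : i2 ≠ i1 * z)
    (hnB : ∀ g : S, g⁻¹ * i1 * g ∈ Bs i1 i2 ∧ g⁻¹ * i2 * g ∈ Bs i1 i2)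
    (h8 : Nat.card S = Nat.card ↥(Rs i1 i2) * 8) : ∃ g : S, cpair i1 i2 g = (i2, i1 * z) := by
  by_contra hcon
  push_neg at hcon
  have h7 := card_le_of_image_list (i1 := i1) (i2 := i2)
    [(i1, i2), (i1, i2 * z), (i1 * z, i2), (i1 * z, i2 * z), (i2, i1),
      (i2 * z, i1), (i2 * z, i1 * z)] (by
      intro g
      have h := cpair_mem_P8 hz1 hz2 hzc h1 h2 hc hne1 hne2 hnB g
      simp only [List.mem_cons, List.not_mem_nil, or_false] at h ⊢
      rcases h with h | h | h | h | h | h | h | h <;>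
        first
        | exact absurd h (hcon g)
        | (rw [h]; simp))
  have hpos : 0 < Nat.card ↥(Rs i1 i2) := Nat.card_pos
  simp only [List.length_cons, List.length_nil] at h7
  omega

/-- sections above `R` -/
theorem sections_above_R [Finite S] (hS : IsPGroup 2 S)
    (hz1 : z ≠ 1) (hz2 : z * z = 1) (hzc : ∀ g : S, g * z = z * g)
    (h1 : i1 * i1 = z) (h2 : i2 * i2 = z) (hc : i1 * i2 = i2 * i1)
    (hne1 : i2 ≠ i1) (hne2 : i2 ≠ i1 * z)
    (hnB : ∀ g : S, g⁻¹ * i1 * g ∈ Bs i1 i2 ∧ g⁻¹ * i2 * g ∈ Bs i1 i2) :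
    ∀ H N : Subgroup S, Rs i1 i2 ≤ N → N ≤ H → (∀ h ∈ H, ∀ n ∈ N, h * n * h⁻¹ ∈ N) →
      (∀ h ∈ H, h * h ∈ N) → Nat.card H ≤ 4 * Nat.card N := by
  intro H N hRN hNH hnorm hsq
  have : Fact (Nat.Prime 2) := ⟨Nat.prime_two⟩
  obtain ⟨a, ha⟩ := (hS.to_subgroup H).exists_card_eq
  obtain ⟨b, hb⟩ := (hS.to_subgroup N).exists_card_eq
  have hSR : Nat.card S ≤ Nat.card ↥(Rs i1 i2) * 8 := by
    have := card_le_of_image_list (i1 := i1) (i2 := i2) _
      (cpair_mem_P8 hz1 hz2 hzc h1 h2 hc hne1 hne2 hnB)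
    simpa using this
  have hHS : Nat.card H ≤ Nat.card S := Subgroup.card_le_card_group H
  have hRN' : Nat.card ↥(Rs i1 i2) ≤ Nat.card N := Subgroup.card_le_of_le hRN
  by_contra hcon
  push_neg at hcon
  have hab : b + 3 ≤ a := by
    by_contra h
    push_neg at h
    have h' : a ≤ b + 2 := by omega
    have := Nat.pow_le_pow_right (show 0 < 2 by norm_num) h'
    rw [pow_add] at this
    rw [ha, hb] at hcon
    norm_num at this
    omega
  have h8 : 8 * 2 ^ b ≤ 2 ^ a := by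
    have := Nat.pow_le_pow_right (show 0 < 2 by norm_num) hab
    rw [pow_add] at this
    norm_num at this
    omega
  have hNeq : Nat.card ↥(Rs i1 i2) = Nat.card N := by omega
  have hHeq : Nat.card H = Nat.card S := by omega
  have hS8 : Nat.card S = Nat.card ↥(Rs i1 i2) * 8 := by omega
  have hHtop : H = ⊤ := Subgroup.eq_top_of_card_eq H hHeq
  have hNR : Rs i1 i2 = N := Subgroup.eq_of_le_of_card_ge hRN hNeq.symm.le
  obtain ⟨g, hg⟩ := exists_pair hz1 hz2 hzc h1 h2 hc hne1 hne2 hnB hS8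
  have hgg : g * g ∈ Rs i1 i2 := by
    rw [hNR]; exact hsq g (by rw [hHtop]; trivial)
  have e1 : g⁻¹ * i1 * g = i2 := congrArg Prod.fst hg
  have e2 : g⁻¹ * i2 * g = i1 * z := congrArg Prod.snd hg
  have e3 : (g * g)⁻¹ * i1 * (g * g) = i1 * z := by
    have : (g * g)⁻¹ * i1 * (g * g) = g⁻¹ * (g⁻¹ * i1 * g) * g := by group
    rw [this, e1, e2]
  have e4 : (g * g)⁻¹ * i1 * (g * g) = i1 := by
    rw [mul_assoc, (mem_Rs_iff.mp hgg).1, ← mul_assoc, inv_mul_cancel, one_mul]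
  rw [e4] at e3
  exact hz1 (mul_left_cancel (e3.symm.trans (mul_one i1).symm))

/-- **U-C** (verbatim): the final count. -/
theorem final {Q₁ Q₂ : Subgroup S} {z : S} (hB : Base Q₁ Q₂ z) (hSig : Sigma Q₁ Q₂ z) :
    Cfsg.SectionalPRankLE 2 4 S := by
  obtain ⟨i1, hi1, i2, hi2, h1, h2, hnB, hσ1, hσ2⟩ := hSig
  have := hB.fin
  have hz1 := hB.z_ne
  have hz2 := hB.z_sq
  have hzc := hB.z_central
  have hc : i1 * i2 = i2 * i1 := hB.comm i1 hi1 i2 hi2
  have hnot := not_mem_of_base hB hi2 h2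
  have hne1 : i2 ≠ i1 := fun h => hnot (h ▸ hi1)
  have hne2 : i2 ≠ i1 * z := fun h => hnot (h ▸ mul_mem hi1 hB.z_mem₁)
  haveI : (Rs i1 i2).Normal := Rs_normal hnB
  have hin := sections_in_R hz1 hz2 hzc h1 h2 hc hσ1 hσ2
  have hglue : SecB (4 * 4) S := sections_glue (Rs i1 i2) 4 4
    (fun H N hHR => SecB_transfer 4 (Rs i1 i2) hin H N hHR)
    (sections_above_R hB.pS hz1 hz2 hzc h1 h2 hc hne1 hne2 hnB)
  have : Fact (Nat.Prime 2) := ⟨Nat.prime_two⟩
  let P : Sylow 2 S :=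
    { toSubgroup := ⊤
      isPGroup' := hB.pS.to_subgroup ⊤
      is_maximal' := fun _ h => top_le_iff.mp h }
  refine Cfsg.Agent.Lib.Helper5.HDU1.sectionalPRankLE_of_sylow 4 P ?_
  intro R M _ hMR hn hsq
  have := hglue R M hMR hn hsq
  norm_num at this ⊢
  exact this

end Cfsg.Agent.Lib.Helper4.QQC
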