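import Mathlib
import Cfsg.Agent.Lib.Helper1.MaxClassSelfCentralizing
import Cfsg.Agent.Lib.Helper1.MaxClassTwoC

/-!
# Farm S1233, unit U-D2: squares lie in the derived subgroup of a 2-group with a
self-centralizing four-group
-/

set_option autoImplicit false
set_option linter.unusedSectionVars false
set_option linter.unusedVariables false

namespace Cfsg.Agent.Lib.Helper4.QQD

universe u

open scoped commutatorElement

/-- in a finite cyclic group at most two elements square to `1` -/
theorem card_set_sq_one_le_two {C : Type*} [Group C] [Finite C] [IsCyclic C] (T : Set C)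
    (hT : ∀ t ∈ T, t * t = 1) : Nat.card T ≤ 2 := by
  classical
  have := Fintype.ofFinite C
  have h1 := IsCyclic.card_pow_eq_one_le (α := C) (n := 2) (by norm_num)
  have hsub : T ⊆ ((Finset.univ.filter fun a : C => a ^ 2 = 1 : Finset C) : Set C) := by
    intro t ht
    simp only [Finset.coe_filter, Finset.mem_univ, true_and, Set.mem_setOf_eq]
    rw [pow_two]; exact hT t ht
  rw [Nat.card_coe_set_eq]
  calc T.ncard ≤ ((Finset.univ.filter fun a : C => a ^ 2 = 1 : Finset C) : Set C).ncard :=
        Set.ncard_le_ncard hsub (Finset.finite_toSet _)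
    _ = (Finset.univ.filter fun a : C => a ^ 2 = 1).card := Set.ncard_coe_finset _
    _ ≤ 2 := h1

/-- In a finite 2-group with a self-centralizing four-group every square is a product of
commutators. -/
theorem sq_mem_commutator {D : Type u} [Group D] [Finite D] (hD : IsPGroup 2 D)
    (U : Subgroup D) (hU : Nat.card U = 4) (hUc : Subgroup.centralizer (U : Set D) = U)
    (hU2 : ∀ u ∈ U, u * u = 1) (g : D) : g * g ∈ commutator D := by
  have : Fact (Nat.Prime 2) := ⟨Nat.prime_two⟩
  obtain ⟨m, hm⟩ := IsPGroup.iff_card.mp hD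
  have h4 : 4 ∣ 2 ^ m := by rw [← hm, ← hU]; exact Subgroup.card_subgroup_dvd_card U
  have hm2 : 2 ≤ m := by
    by_contra h
    have hm' : m = 0 ∨ m = 1 := by omega
    rcases hm' with rfl | rfl <;> omega
  rcases Nat.lt_or_ge m 3 with hlt | hge
  · have hm' : m = 2 := by omega
    subst hm'
    have hUtop : U = ⊤ := Subgroup.eq_top_of_card_eq U (by rw [hU, hm]; norm_num)
    have hg : g ∈ U := by rw [hUtop]; exact Subgroup.mem_top g
    rw [hU2 g hg]; exact one_mem _
  · have hc := Cfsg.Agent.Lib.Helper1.max_class_of_self_centralizing (p := 2) m hm U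
      (by rw [hU]; norm_num) hUc
    obtain ⟨C, hCc, hCi⟩ :=
      Cfsg.Agent.Lib.Helper1.exists_cyclic_index_two_of_max_class m hge hm hc
    have hCn : C.Normal := Subgroup.normal_of_index_eq_two hCi
    have hCcomm : ∀ a ∈ C, ∀ b ∈ C, a * b = b * a := by
      intro a ha b hb
      obtain ⟨g0, hg0⟩ := IsCyclic.exists_generator (α := ↥C)
      obtain ⟨k, hk⟩ := Subgroup.mem_zpowers_iff.mp (hg0 ⟨a, ha⟩)
      obtain ⟨l, hl⟩ := Subgroup.mem_zpowers_iff.mp (hg0 ⟨b, hb⟩)
      have ha' : a = (g0 : D) ^ k := by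
        have := congrArg Subtype.val hk
        simpa using this.symm
      have hb' : b = (g0 : D) ^ l := by
        have := congrArg Subtype.val hl
        simpa using this.symm
      rw [ha', hb', ← zpow_add, ← zpow_add, add_comm]
    -- an element of `U` outside `C`
    have hs : ∃ s ∈ U, s ∉ C := by
      by_contra hcon
      push Not at hcon
      have h2 := card_set_sq_one_le_two (C := ↥C) {t : ↥C | (t : D) ∈ U} (by
        intro t ht; apply Subtype.ext; exact hU2 t.1 ht)
      have h3 : Nat.card U ≤ Nat.card {t : ↥C | (t : D) ∈ U} :=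
        Nat.card_le_card_of_injective
          (fun u => (⟨⟨u.1, hcon u.1 u.2⟩, u.2⟩ : {t : ↥C | (t : D) ∈ U}))
          (fun a b hab => Subtype.ext
            (congrArg (fun t : {t : ↥C | (t : D) ∈ U} => ((t : ↥C) : D)) hab))
      omega
    obtain ⟨s, hsU, hsC⟩ := hs
    have hss : s * s = 1 := hU2 s hsU
    have hsinv : s⁻¹ = s := inv_eq_of_mul_eq_one_left hss
    have hsinvC : s⁻¹ ∉ C := by rw [hsinv]; exact hsC
    have hconj : ∀ c ∈ C, s⁻¹ * c * s ∈ C := fun c hc => hCn.conj_mem' c hc s
    -- the commutator map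
    let φ : ↥C →* ↥C := MonoidHom.mk'
      (fun c => ⟨(c : D)⁻¹ * (s⁻¹ * c * s), C.mul_mem (C.inv_mem c.2) (hconj c.1 c.2)⟩) (by
        intro a b
        apply Subtype.ext
        show ((a : D) * b)⁻¹ * (s⁻¹ * ((a : D) * b) * s)
          = (a : D)⁻¹ * (s⁻¹ * a * s) * ((b : D)⁻¹ * (s⁻¹ * b * s))
        calc ((a : D) * b)⁻¹ * (s⁻¹ * ((a : D) * b) * s)
            = (b : D)⁻¹ * ((a : D)⁻¹ * (s⁻¹ * a * s)) * (s⁻¹ * b * s) := by group
          _ = ((a : D)⁻¹ * (s⁻¹ * a * s)) * (b : D)⁻¹ * (s⁻¹ * b * s) := by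
              rw [hCcomm (b : D)⁻¹ (C.inv_mem b.2) ((a : D)⁻¹ * (s⁻¹ * a * s))
                (C.mul_mem (C.inv_mem a.2) (hconj a.1 a.2))]
          _ = (a : D)⁻¹ * (s⁻¹ * a * s) * ((b : D)⁻¹ * (s⁻¹ * b * s)) := by group)
    have hφ : ∀ c : ↥C, ((φ c : ↥C) : D) = (c : D)⁻¹ * (s⁻¹ * c * s) := fun c => rfl
    -- the kernel
    have hker : ∀ t ∈ (φ.ker : Set ↥C), t * t = 1 := by
      intro t ht
      have h1 : φ t = 1 := ht
      have h2 : (t : D)⁻¹ * (s⁻¹ * t * s) = 1 := by
        rw [← hφ t, h1]; rfl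
      have hts : (t : D) * s = s * t := by
        have : s⁻¹ * (t : D) * s = t := by
          calc s⁻¹ * (t : D) * s = (t : D) * ((t : D)⁻¹ * (s⁻¹ * t * s)) := by group
            _ = t := by rw [h2, mul_one]
        calc (t : D) * s = s * (s⁻¹ * (t : D) * s) := by group
          _ = s * t := by rw [this]
      have htU : (t : D) ∈ U := by
        rw [← hUc, Subgroup.mem_centralizer_iff]
        intro u hu
        by_cases huC : u ∈ C
        · exact hCcomm u huC t t.2
        · have hv : s⁻¹ * u ∈ C := by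
            rw [Subgroup.mul_mem_iff_of_index_two hCi]
            exact ⟨fun h => absurd h hsinvC, fun h => absurd h huC⟩
          have hvt := hCcomm (s⁻¹ * u) hv t t.2
          calc u * (t : D) = s * ((s⁻¹ * u) * t) := by group
            _ = s * (t * (s⁻¹ * u)) := by rw [hvt]
            _ = (s * t) * (s⁻¹ * u) := by group
            _ = (t * s) * (s⁻¹ * u) := by rw [hts]
            _ = t * u := by group
      apply Subtype.ext
      exact hU2 t.1 htU
    have hkcard : Nat.card φ.ker ≤ 2 := card_set_sq_one_le_two (C := ↥C) (φ.ker : Set ↥C) hker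
    -- the range has index at most 2
    have e1 := Subgroup.card_mul_index φ.ker
    have e2 := Subgroup.card_mul_index φ.range
    have e3 : φ.ker.index = Nat.card φ.range := Subgroup.index_ker φ
    have hrpos : 0 < Nat.card φ.range := Nat.card_pos
    have hidx : φ.range.index ≤ 2 := by
      rw [e3, ← e2] at e1
      have : φ.range.index = Nat.card φ.ker := by
        have h5 : Nat.card φ.range * Nat.card φ.ker = Nat.card φ.range * φ.range.index := by
          rw [mul_comm]; exact e1
        exact (Nat.eq_of_mul_eq_mul_left hrpos h5).symm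
      omega
    have hipos : φ.range.index ≠ 0 := Subgroup.index_ne_zero_of_finite
    have hsqr : ∀ c : ↥C, c * c ∈ φ.range := by
      intro c
      have hcase : φ.range.index = 1 ∨ φ.range.index = 2 := by omega
      rcases hcase with h | h
      · rw [Subgroup.index_eq_one.mp h]; exact Subgroup.mem_top _
      · exact Subgroup.mul_self_mem_of_index_two h c
    have hφD : ∀ c : ↥C, ((φ c : ↥C) : D) ∈ commutator D := by
      intro c
      rw [hφ, commutator_def]
      have h := Subgroup.commutator_mem_commutator (Subgroup.mem_top ((c : D)⁻¹))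
        (Subgroup.mem_top (s⁻¹))
      have e : ⁅(c : D)⁻¹, s⁻¹⁆ = (c : D)⁻¹ * (s⁻¹ * c * s) := by
        rw [commutatorElement_def]; group
      rw [← e]; exact h
    have hCsq : ∀ c ∈ C, c * c ∈ commutator D := by
      intro c hc
      obtain ⟨c', hc'⟩ := hsqr ⟨c, hc⟩
      have : ((φ c' : ↥C) : D) = c * c := by rw [hc']; rfl
      rw [← this]; exact hφD c'
    by_cases hgC : g ∈ C
    · exact hCsq g hgC
    · have hv : s⁻¹ * g ∈ C := by
        rw [Subgroup.mul_mem_iff_of_index_two hCi]
        exact ⟨fun h => absurd h hsinvC, fun h => absurd h hgC⟩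
      have e : g * g = ((s⁻¹ * g) * (s⁻¹ * g)) *
          ((s⁻¹ * g)⁻¹ * (s⁻¹ * (s⁻¹ * g) * s)) := by
        have hc1 := hCcomm (s⁻¹ * g) hv (s⁻¹ * (s⁻¹ * g) * s) (hconj _ hv)
        have h2 : s⁻¹ * s⁻¹ = 1 := by rw [hsinv, hss]
        calc g * g = (s⁻¹ * s⁻¹) * g * g := by rw [h2, one_mul]
          _ = (s⁻¹ * (s⁻¹ * g) * s) * (s⁻¹ * g) := by group
          _ = (s⁻¹ * g) * (s⁻¹ * (s⁻¹ * g) * s) := by rw [hc1]
          _ = _ := by group
      rw [e]
      exact mul_mem (hCsq _ hv) (hφD ⟨s⁻¹ * g, hv⟩)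

end Cfsg.Agent.Lib.Helper4.QQD
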