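import Cfsg.Agent.Lib.Helper4.QQD1
import Cfsg.Agent.Lib.Helper1.S1233Defs

/-!
# Farm S1233, unit U-D2: quotient-free form of `sq_mem_commutator`
(the construction of the quotient and of its four-group follows `Helper1.S1233.quot_cyclic`)
-/

set_option autoImplicit false
set_option linter.unusedSectionVars false
set_option linter.unusedVariables false

namespace Cfsg.Agent.Lib.Helper4.QQD

open Cfsg.Agent.Lib.Helper1.S1233
open scoped commutatorElement

theorem quot_sq {S : Type*} [Group S] [Finite S] (hS : IsPGroup 2 S) (K N M : Subgroup S)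
    (hNK : N ≤ K) (hnorm : ∀ x ∈ K, ∀ n ∈ N, x⁻¹ * n * x ∈ N)
    (u₁ u₂ : S) (hu₁ : u₁ ∈ K) (hu₂ : u₂ ∈ K)
    (h11 : u₁ * u₁ ∈ N) (h22 : u₂ * u₂ ∈ N) (h12 : cm u₁ u₂ ∈ N)
    (hn1 : u₁ ∉ N) (hn2 : u₂ ∉ N) (hn12 : u₁ * u₂ ∉ N)
    (hsc : ∀ x ∈ K, cm x u₁ ∈ N → cm x u₂ ∈ N →
      x ∈ N ∨ x * u₁ ∈ N ∨ x * u₂ ∈ N ∨ x * (u₁ * u₂) ∈ N)
    (hNM : N ≤ M) (hM : ∀ x ∈ K, ∀ y ∈ K, x * y * x⁻¹ * y⁻¹ ∈ M) :
    ∀ g ∈ K, g * g ∈ M := by
  have hKn : K ≤ Subgroup.normalizer (N : Set S) := by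
    intro x hx
    rw [Subgroup.mem_normalizer_iff]
    intro n
    constructor
    · intro hn
      have := hnorm x⁻¹ (K.inv_mem hx) n hn
      simpa using this
    · intro hn
      have := hnorm x hx _ hn
      have h2 : x⁻¹ * (x * n * x⁻¹) * x = n := by group
      rwa [h2] at this
  have hN' : (N.subgroupOf K).Normal := (Subgroup.normal_subgroupOf_iff_le_normalizer hNK).mpr hKn
  let π : ↥K →* (↥K ⧸ N.subgroupOf K) := QuotientGroup.mk' (N.subgroupOf K)
  have hπ : ∀ y : ↥K, π y = 1 ↔ (y : S) ∈ N := by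
    intro y
    show (QuotientGroup.mk' (N.subgroupOf K)) y = 1 ↔ _
    rw [QuotientGroup.mk'_apply, QuotientGroup.eq_one_iff, Subgroup.mem_subgroupOf]
  have hπsurj : Function.Surjective π := QuotientGroup.mk'_surjective _
  have hDp : IsPGroup 2 (↥K ⧸ N.subgroupOf K) := (hS.to_subgroup K).to_quotient _
  -- the elements
  set U₁ : ↥K := ⟨u₁, hu₁⟩ with hU₁
  set U₂ : ↥K := ⟨u₂, hu₂⟩ with hU₂
  have e11 : π U₁ * π U₁ = 1 := by
    rw [← map_mul, hπ]; exact h11
  have e22 : π U₂ * π U₂ = 1 := by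
    rw [← map_mul, hπ]; exact h22
  have e12 : π U₁ * π U₂ = π U₂ * π U₁ := by
    have h : π (U₁⁻¹ * U₂⁻¹ * U₁ * U₂) = 1 := by rw [hπ]; exact h12
    rw [map_mul, map_mul, map_mul, map_inv, map_inv] at h
    calc π U₁ * π U₂ = π U₂ * π U₁ * ((π U₁)⁻¹ * (π U₂)⁻¹ * π U₁ * π U₂) := by group
      _ = π U₂ * π U₁ := by rw [h, mul_one]
  have n1 : π U₁ ≠ 1 := fun h => hn1 ((hπ U₁).mp h)
  have n2 : π U₂ ≠ 1 := fun h => hn2 ((hπ U₂).mp h)
  have n12 : π U₁ * π U₂ ≠ 1 := fun h => hn12 ((hπ (U₁ * U₂)).mp (by rw [map_mul]; exact h))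
  have inv1 : (π U₁)⁻¹ = π U₁ := inv_eq_of_mul_eq_one_left e11
  have inv2 : (π U₂)⁻¹ = π U₂ := inv_eq_of_mul_eq_one_left e22
  -- the four-group U
  set U : Subgroup (↥K ⧸ N.subgroupOf K) := Subgroup.centralizer {π U₁, π U₂} with hUdef
  have hUmem : ∀ d, d ∈ U ↔ d = 1 ∨ d = π U₁ ∨ d = π U₂ ∨ d = π U₁ * π U₂ := by
    intro d
    constructor
    · intro hd
      obtain ⟨x, rfl⟩ := hπsurj d
      have c1 : π U₁ * π x = π x * π U₁ :=
        Subgroup.mem_centralizer_iff.mp hd _ (by simp)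
      have c2 : π U₂ * π x = π x * π U₂ :=
        Subgroup.mem_centralizer_iff.mp hd _ (by simp)
      have m1 : cm (x : S) u₁ ∈ N := by
        have : π (x⁻¹ * U₁⁻¹ * x * U₁) = 1 := by
          rw [map_mul, map_mul, map_mul, map_inv, map_inv]
          calc (π x)⁻¹ * (π U₁)⁻¹ * π x * π U₁ = (π x)⁻¹ * (π U₁)⁻¹ * (π x * π U₁) := by group
            _ = (π x)⁻¹ * (π U₁)⁻¹ * (π U₁ * π x) := by rw [c1]
            _ = 1 := by group
        exact (hπ _).mp this
      have m2 : cm (x : S) u₂ ∈ N := by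
        have : π (x⁻¹ * U₂⁻¹ * x * U₂) = 1 := by
          rw [map_mul, map_mul, map_mul, map_inv, map_inv]
          calc (π x)⁻¹ * (π U₂)⁻¹ * π x * π U₂ = (π x)⁻¹ * (π U₂)⁻¹ * (π x * π U₂) := by group
            _ = (π x)⁻¹ * (π U₂)⁻¹ * (π U₂ * π x) := by rw [c2]
            _ = 1 := by group
        exact (hπ _).mp this
      rcases hsc x x.2 m1 m2 with h | h | h | h
      · left; exact (hπ x).mpr h
      · right; left
        have : π (x * U₁) = 1 := (hπ _).mpr h
        rw [map_mul] at this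
        rw [← inv1]; exact eq_inv_of_mul_eq_one_left this
      · right; right; left
        have : π (x * U₂) = 1 := (hπ _).mpr h
        rw [map_mul] at this
        rw [← inv2]; exact eq_inv_of_mul_eq_one_left this
      · right; right; right
        have : π (x * (U₁ * U₂)) = 1 := (hπ _).mpr h
        rw [map_mul, map_mul] at this
        have h3 := eq_inv_of_mul_eq_one_left this
        rw [h3, mul_inv_rev, inv1, inv2, e12]
    · intro hd
      rw [hUdef, Subgroup.mem_centralizer_iff]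
      intro g hg
      simp only [Set.mem_insert_iff, Set.mem_singleton_iff] at hg
      rcases hd with rfl | rfl | rfl | rfl <;> rcases hg with rfl | rfl
      · simp
      · simp
      · rfl
      · exact e12.symm
      · exact e12
      · rfl
      · rw [← mul_assoc, e11, one_mul, e12, mul_assoc, e11, mul_one]
      · rw [← mul_assoc, ← e12, mul_assoc (π U₁) (π U₂) (π U₂)]
  have hUcard : Nat.card U = 4 := by
    have hset : (U : Set (↥K ⧸ N.subgroupOf K)) = {1, π U₁, π U₂, π U₁ * π U₂} := by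
      ext d
      simp only [SetLike.mem_coe, Set.mem_insert_iff, Set.mem_singleton_iff]
      exact hUmem d
    have hcc : Nat.card U = (U : Set (↥K ⧸ N.subgroupOf K)).ncard :=
      Nat.card_coe_set_eq (U : Set (↥K ⧸ N.subgroupOf K))
    rw [hcc, hset]
    rw [Set.ncard_insert_of_notMem, Set.ncard_insert_of_notMem, Set.ncard_pair]
    · intro h
      apply n1
      calc π U₁ = π U₂ * π U₂ * π U₁ := by rw [e22, one_mul]
        _ = π U₂ * (π U₁ * π U₂) := by rw [mul_assoc, e12]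
        _ = π U₂ * π U₂ := by rw [← h]
        _ = 1 := e22
    · simp only [Set.mem_insert_iff, Set.mem_singleton_iff, not_or]
      constructor
      · intro h
        apply n12
        rw [h, e22]
      · intro h
        apply n2
        calc π U₂ = π U₁ * π U₁ * π U₂ := by rw [e11, one_mul]
          _ = π U₁ * (π U₁ * π U₂) := by rw [mul_assoc]
          _ = π U₁ * π U₁ := by rw [← h]
          _ = 1 := e11
    · simp only [Set.mem_insert_iff, Set.mem_singleton_iff, not_or]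
      exact ⟨fun h => n1 h.symm, fun h => n2 h.symm, fun h => n12 h.symm⟩
  have hUc : Subgroup.centralizer (U : Set (↥K ⧸ N.subgroupOf K)) = U := by
    apply le_antisymm
    · intro d hd
      rw [hUdef, Subgroup.mem_centralizer_iff]
      intro g hg
      apply Subgroup.mem_centralizer_iff.mp hd
      simp only [Set.mem_insert_iff, Set.mem_singleton_iff] at hg
      rcases hg with rfl | rfl
      · exact (hUmem _).mpr (Or.inr (Or.inl rfl))
      · exact (hUmem _).mpr (Or.inr (Or.inr (Or.inl rfl)))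
    · intro d hd
      rw [Subgroup.mem_centralizer_iff]
      intro g hg
      have hg' := (hUmem g).mp hg
      have hd1 : π U₁ * d = d * π U₁ := Subgroup.mem_centralizer_iff.mp hd _ (by simp)
      have hd2 : π U₂ * d = d * π U₂ := Subgroup.mem_centralizer_iff.mp hd _ (by simp)
      rcases hg' with rfl | rfl | rfl | rfl
      · simp
      · exact hd1
      · exact hd2
      · rw [mul_assoc, hd2, ← mul_assoc, hd1, mul_assoc]
  -- every element of `U` is an involution
  have hU2 : ∀ u ∈ U, u * u = 1 := by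
    intro u hu
    rcases (hUmem u).mp hu with rfl | rfl | rfl | rfl
    · simp
    · exact e11
    · exact e22
    · calc π U₁ * π U₂ * (π U₁ * π U₂) = π U₁ * (π U₂ * π U₁) * π U₂ := by group
        _ = π U₁ * (π U₁ * π U₂) * π U₂ := by rw [e12]
        _ = (π U₁ * π U₁) * (π U₂ * π U₂) := by group
        _ = 1 := by rw [e11, e22, one_mul]
  -- the image of `M`
  have hcomm_le : commutator (↥K ⧸ N.subgroupOf K) ≤ (M.subgroupOf K).map π := by
    rw [commutator_def, Subgroup.commutator_le]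
    intro g₁ _ g₂ _
    obtain ⟨x, rfl⟩ := hπsurj g₁
    obtain ⟨y, rfl⟩ := hπsurj g₂
    refine Subgroup.mem_map.mpr ⟨x * y * x⁻¹ * y⁻¹, ?_, ?_⟩
    · rw [Subgroup.mem_subgroupOf]
      exact hM x x.2 y y.2
    · rw [commutatorElement_def, map_mul, map_mul, map_mul, map_inv, map_inv]
  intro g hg
  have hsq := sq_mem_commutator hDp U hUcard hUc hU2 (π ⟨g, hg⟩)
  obtain ⟨m, hm, hmg⟩ := Subgroup.mem_map.mp (hcomm_le hsq)
  rw [Subgroup.mem_subgroupOf] at hm
  have h1 : π (m⁻¹ * (⟨g, hg⟩ * ⟨g, hg⟩)) = 1 := by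
    rw [map_mul, map_inv, hmg, map_mul, inv_mul_cancel]
  have h2 : ((m⁻¹ * (⟨g, hg⟩ * ⟨g, hg⟩) : ↥K) : S) ∈ N := (hπ _).mp h1
  have h3 : (m : S)⁻¹ * (g * g) ∈ M := hNM h2
  have h4 := M.mul_mem hm h3
  rwa [mul_inv_cancel_left] at h4

end Cfsg.Agent.Lib.Helper4.QQD
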