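import Cfsg.Agent.Lib.Helper4.QQD2
import Cfsg.Agent.Lib.Helper3.S1233B2c
import Cfsg.Agent.Lib.Helper6.S1233A2
import Cfsg.Agent.Lib.Helper1.S1233MCQ

/-!
# Farm S1233, unit U-D2: general lemmas on the normalizer of a cyclic subgroup
-/

set_option autoImplicit false
set_option linter.unusedSectionVars false
set_option linter.unusedVariables false

namespace Cfsg.Agent.Lib.Helper4.QQD

open Cfsg.Agent.Lib.Helper1.S1233
open Cfsg.Agent.Lib.Helper6.QQA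

theorem d2_q8_cosets : ∀ w : QuaternionGroup 2, (w = 1 ∨ w = zq) ∨ (w * iq = 1 ∨ w * iq = zq) ∨
    (w * jq = 1 ∨ w * jq = zq) ∨ (w * (iq * jq) = 1 ∨ w * (iq * jq) = zq) := by decide

theorem d2_q8_ne : iq ≠ 1 ∧ iq ≠ zq ∧ jq ≠ 1 ∧ jq ≠ zq ∧ iq * jq ≠ 1 ∧ iq * jq ≠ zq := by decide

variable {S : Type*} [Group S]

theorem d2_conj_z {z : S} (hzc : ∀ g : S, g * z = z * g) (x : S) : x⁻¹ * z * x = z := by
  rw [mul_assoc, ← hzc x, ← mul_assoc, inv_mul_cancel, one_mul]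

theorem d2_cm_mul_mem {z : S} (hz2 : z * z = 1) (hzc : ∀ g : S, g * z = z * g) {x a b : S}
    (ha : cm x a ∈ Zs z) (hb : cm x b ∈ Zs z) : cm x (a * b) ∈ Zs z := by
  have e : cm x (a * b) = (x⁻¹ * b⁻¹ * x) * cm x a * b := by
    simp only [cm]; group
  rw [e]
  rcases (Cfsg.Agent.Lib.Helper6.S1233A.mem_Zs_iff hz2).mp ha with h | h
  · rw [h, mul_one]; exact hb
  · rw [h, hzc (x⁻¹ * b⁻¹ * x), mul_assoc]
    exact (Zs z).mul_mem (Subgroup.mem_zpowers z) hb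

theorem d2_cm_pow_mem {z : S} (hz2 : z * z = 1) (hzc : ∀ g : S, g * z = z * g) {x a : S}
    (ha : cm x a ∈ Zs z) (m : ℕ) : cm x (a ^ m) ∈ Zs z := by
  induction m with
  | zero =>
    have : cm x (a ^ 0) = 1 := by simp [cm]
    rw [this]; exact one_mem _
  | succ m ih =>
    rw [pow_succ]
    exact d2_cm_mul_mem hz2 hzc ih ha

/-- the unique involution of a finite cyclic subgroup -/
theorem d2_sq_one_mem_zpowers [Finite S] {c z a : S} (hz : z ∈ Subgroup.zpowers c)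
    (hz2 : z * z = 1) (hz1 : z ≠ 1) (ha : a ∈ Subgroup.zpowers c) (haa : a * a = 1) :
    a = 1 ∨ a = z := by
  have h := cyclic_invol_unique (C := ↥(Subgroup.zpowers c)) ⟨a, ha⟩ ⟨z, hz⟩
    (Subtype.ext haa) (Subtype.ext hz2) (fun h => hz1 (congrArg Subtype.val h))
  rcases h with h | h
  · left; exact congrArg Subtype.val h
  · right; exact congrArg Subtype.val h

theorem d2_conj_zpow (x c : S) (m : ℤ) : x⁻¹ * c ^ m * x = (x⁻¹ * c * x) ^ m := by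
  have := conj_zpow (a := x⁻¹) (b := c) (i := m)
  simpa using this.symm

theorem d2_conj_mem_zpowers {c x t : S} (hx : x⁻¹ * c * x ∈ Subgroup.zpowers c)
    (ht : t ∈ Subgroup.zpowers c) : x⁻¹ * t * x ∈ Subgroup.zpowers c := by
  obtain ⟨m, rfl⟩ := Subgroup.mem_zpowers_iff.mp ht
  rw [d2_conj_zpow]
  exact zpow_mem hx m

theorem d2_mem_normalizer [Finite S] {c x : S} (hx : x⁻¹ * c * x ∈ Subgroup.zpowers c) :
    x ∈ Subgroup.normalizer ((Subgroup.zpowers c : Subgroup S) : Set S) := by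
  let f : ↥(Subgroup.zpowers c) → ↥(Subgroup.zpowers c) :=
    fun t => ⟨x⁻¹ * t * x, d2_conj_mem_zpowers hx t.2⟩
  have hinj : Function.Injective f := by
    intro a b h
    have h' : x⁻¹ * (a : S) * x = x⁻¹ * (b : S) * x := congrArg Subtype.val h
    exact Subtype.ext (mul_left_cancel (mul_right_cancel h'))
  have hsurj := Finite.injective_iff_surjective.mp hinj
  rw [Subgroup.mem_normalizer_iff]
  intro h
  constructor
  · intro hh
    obtain ⟨t, ht⟩ := hsurj ⟨h, hh⟩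
    have h' : x⁻¹ * (t : S) * x = h := congrArg Subtype.val ht
    have e : x * h * x⁻¹ = t := by rw [← h']; group
    rw [e]; exact t.2
  · intro hh
    have := d2_conj_mem_zpowers hx hh
    have e : x⁻¹ * (x * h * x⁻¹) * x = h := by group
    rwa [e] at this

theorem d2_conj_of_mem_normalizer {c x : S}
    (hx : x ∈ Subgroup.normalizer ((Subgroup.zpowers c : Subgroup S) : Set S)) {t : S}
    (ht : t ∈ Subgroup.zpowers c) : x⁻¹ * t * x ∈ Subgroup.zpowers c := by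
  have h := (Subgroup.mem_normalizer_iff.mp (inv_mem hx) t).mp ht
  simpa using h

/-- conjugation acts on a cyclic group as a power map -/
theorem d2_exists_zpow_conj {c x : S} (hx : x⁻¹ * c * x ∈ Subgroup.zpowers c) :
    ∃ a : ℤ, ∀ t ∈ Subgroup.zpowers c, x⁻¹ * t * x = t ^ a := by
  obtain ⟨a, ha⟩ := Subgroup.mem_zpowers_iff.mp hx
  refine ⟨a, ?_⟩
  intro t ht
  obtain ⟨m, rfl⟩ := Subgroup.mem_zpowers_iff.mp ht
  rw [d2_conj_zpow, ← ha, ← zpow_mul, ← zpow_mul, mul_comm]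

/-- commutators of elements normalizing a cyclic group centralize it -/
theorem d2_comm_of_normalizers {c x y : S} (hx : x⁻¹ * c * x ∈ Subgroup.zpowers c)
    (hy : y⁻¹ * c * y ∈ Subgroup.zpowers c)
    (hyx : (y * x) * c * (y * x)⁻¹ ∈ Subgroup.zpowers c) :
    (y⁻¹ * x⁻¹ * y * x) * c = c * (y⁻¹ * x⁻¹ * y * x) := by
  obtain ⟨a, ha⟩ := d2_exists_zpow_conj hx
  obtain ⟨b, hb⟩ := d2_exists_zpow_conj hy
  have h1 : y⁻¹ * (x⁻¹ * ((y * x) * c * (y * x)⁻¹) * x) * y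
      = (((y * x) * c * (y * x)⁻¹) ^ a) ^ b := by
    rw [ha _ hyx, hb _ (zpow_mem hyx a)]
  have h2 : x⁻¹ * (y⁻¹ * ((y * x) * c * (y * x)⁻¹) * y) * x
      = (((y * x) * c * (y * x)⁻¹) ^ b) ^ a := by
    rw [hb _ hyx, ha _ (zpow_mem hyx b)]
  have h3 : (((y * x) * c * (y * x)⁻¹) ^ a) ^ b = (((y * x) * c * (y * x)⁻¹) ^ b) ^ a := by
    rw [← zpow_mul, ← zpow_mul, mul_comm]
  have e1 : x⁻¹ * (y⁻¹ * ((y * x) * c * (y * x)⁻¹) * y) * x = c := by group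
  have e2 : y⁻¹ * (x⁻¹ * ((y * x) * c * (y * x)⁻¹) * x) * y
      = (y⁻¹ * x⁻¹ * y * x) * c * (y⁻¹ * x⁻¹ * y * x)⁻¹ := by group
  have h4 : (y⁻¹ * x⁻¹ * y * x) * c * (y⁻¹ * x⁻¹ * y * x)⁻¹ = c := by
    rw [← e2, h1, h3, ← h2, e1]
  calc (y⁻¹ * x⁻¹ * y * x) * c
      = ((y⁻¹ * x⁻¹ * y * x) * c * (y⁻¹ * x⁻¹ * y * x)⁻¹) * (y⁻¹ * x⁻¹ * y * x) := by group
    _ = c * (y⁻¹ * x⁻¹ * y * x) := by rw [h4]

end Cfsg.Agent.Lib.Helper4.QQD
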