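import Cfsg.Agent.Lib.Helper4.QQD3

/-!
# Farm S1233, unit U-D2: squares of `N_S(C₁) ∩ C_S(i₁)` centralize `C₁`
-/

set_option autoImplicit false
set_option linter.unusedSectionVars false
set_option linter.unusedVariables false

namespace Cfsg.Agent.Lib.Helper4.QQD

open Cfsg.Agent.Lib.Helper1.S1233
open Cfsg.Agent.Lib.Helper3.S1233B2
open Cfsg.Agent.Lib.Helper6.S1233A
open Cfsg.Agent.Lib.Helper6.QQA

variable {S : Type*} [Group S] {Q₁ Q₂ : Subgroup S} {z c i j : S} {n ε : ℕ}

/-- the group `N₁ = N_S(C₁) ∩ C_S(i₁)` -/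
def NK (c i : S) : Subgroup S :=
  Subgroup.normalizer ((Subgroup.zpowers c : Subgroup S) : Set S) ⊓ Subgroup.centralizer {i}

theorem d2_zpowers_comm {c a b : S} (ha : a ∈ Subgroup.zpowers c) (hb : b ∈ Subgroup.zpowers c) :
    a * b = b * a := by
  obtain ⟨k, rfl⟩ := Subgroup.mem_zpowers_iff.mp ha
  obtain ⟨l, rfl⟩ := Subgroup.mem_zpowers_iff.mp hb
  rw [← zpow_add, ← zpow_add, add_comm]

/-- a commutator with an element of order 4 of `Q₂` lying in `C₁` lies in `⟨z⟩` -/
theorem d2_cm_mem_Zs (hB : Base Q₁ Q₂ z) (hs : Side Q₁ (cen Q₂) z c i j n ε) {x u : S}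
    (hu : u ∈ Q₂) (huu : u * u = z) (hw : cm x u ∈ Subgroup.zpowers c) : cm x u ∈ Zs z := by
  have := hB.fin
  have hzc := hB.z_central
  have hzinv : z⁻¹ = z := inv_eq_of_mul_eq_one_left hB.z_sq
  generalize hwdef : cm x u = w at hw ⊢
  have hwcen : w ∈ cen Q₂ := zpowers_le hs hw
  have huw : u * w = w * u := Subgroup.mem_centralizer_iff.mp hwcen u hu
  have e1 : x⁻¹ * u⁻¹ * x = w * u⁻¹ := by
    rw [← hwdef]; simp only [cm]; group
  have e2 : (x⁻¹ * u⁻¹ * x) * (x⁻¹ * u⁻¹ * x) = x⁻¹ * (u * u)⁻¹ * x := by group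
  have e3 : x⁻¹ * (u * u)⁻¹ * x = z := by
    rw [huu, hzinv]; exact d2_conj_z hzc x
  have e4 : (w * u⁻¹) * (w * u⁻¹) = w * w * (u * u)⁻¹ := by
    have h1 : u⁻¹ * w = w * u⁻¹ := by
      calc u⁻¹ * w = u⁻¹ * (w * u) * u⁻¹ := by group
        _ = u⁻¹ * (u * w) * u⁻¹ := by rw [huw]
        _ = w * u⁻¹ := by group
    calc (w * u⁻¹) * (w * u⁻¹) = w * (u⁻¹ * w) * u⁻¹ := by group
      _ = w * (w * u⁻¹) * u⁻¹ := by rw [h1]
      _ = w * w * (u * u)⁻¹ := by group
  have e5 : w * w * z = z := by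
    have h1 : w * w * (u * u)⁻¹ = z := by rw [← e4, ← e1, e2, e3]
    rwa [huu, hzinv] at h1
  have hww : w * w = 1 := by
    have h1 : w * w * z = 1 * z := by rw [e5, one_mul]
    exact mul_right_cancel h1
  rcases d2_sq_one_mem_zpowers (z_mem_zpowers hs) hB.z_sq hB.z_ne hw hww with h | h
  · rw [h]; exact one_mem _
  · rw [h]; exact Subgroup.mem_zpowers z

/-- KEY: squares of elements of `N₁` centralize `c` -/
theorem d2_key (hB : Base Q₁ Q₂ z) (hs : Side Q₁ (cen Q₂) z c i j n ε) (h3 : 3 ≤ n) :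
    ∀ g ∈ NK c i, (g * g) * c = c * (g * g) := by
  have := hB.fin
  obtain ⟨e₂⟩ := hB.q2
  have hz₂ := base_z₂ hB e₂
  have hzc := hB.z_central
  have hu₁Q : homOf e₂ iq ∈ Q₂ := homOf_mem e₂ iq
  have hu₂Q : homOf e₂ jq ∈ Q₂ := homOf_mem e₂ jq
  have hu₁sq : homOf e₂ iq * homOf e₂ iq = z := by rw [← map_mul, q8_i_sq, hz₂]
  have hu₂sq : homOf e₂ jq * homOf e₂ jq = z := by rw [← map_mul, q8_j_sq, hz₂]
  have hQK : ∀ u ∈ Q₂, u ∈ NK c i := by
    intro u hu
    refine Subgroup.mem_inf.mpr ⟨?_, ?_⟩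
    · apply Subgroup.centralizer_le_normalizer
      rw [Subgroup.mem_centralizer_iff]
      intro h hh
      have hcen : h ∈ cen Q₂ := zpowers_le hs hh
      exact (Subgroup.mem_centralizer_iff.mp hcen u hu).symm
    · rw [Subgroup.mem_centralizer_iff]
      intro h hh
      rw [Set.mem_singleton_iff] at hh
      subst hh
      exact hB.comm h hs.i_mem u hu
  have hNK : Subgroup.zpowers c ≤ NK c i := by
    rw [Subgroup.zpowers_le]
    refine Subgroup.mem_inf.mpr ⟨Subgroup.le_normalizer (Subgroup.mem_zpowers c), ?_⟩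
    rw [Subgroup.mem_centralizer_iff]
    intro h hh
    rw [Set.mem_singleton_iff] at hh
    subst hh
    exact d2_zpowers_comm (i_mem_zpowers hs) (Subgroup.mem_zpowers c)
  have hnorm : ∀ x ∈ NK c i, ∀ t ∈ Subgroup.zpowers c, x⁻¹ * t * x ∈ Subgroup.zpowers c :=
    fun x hx t ht => d2_conj_of_mem_normalizer hx.1 ht
  have hnot : ∀ w : QuaternionGroup 2, w ≠ 1 → w ≠ zq → homOf e₂ w ∉ Subgroup.zpowers c := by
    intro w hw1 hwz hmem
    have hcen : homOf e₂ w ∈ cen Q₂ := zpowers_le hs hmem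
    rcases central_q8 e₂ (homOf_mem e₂ w)
      (fun p hp => (Subgroup.mem_centralizer_iff.mp hcen p hp).symm) with h | h
    · exact hw1 (homOf_injective e₂ (h.trans (map_one _).symm))
    · exact hwz (homOf_injective e₂ h)
  have hsq := quot_sq hB.pS (NK c i) (Subgroup.zpowers c) (Subgroup.centralizer {c}) hNK hnorm
    (homOf e₂ iq) (homOf e₂ jq) (hQK _ hu₁Q) (hQK _ hu₂Q)
    (by rw [hu₁sq]; exact z_mem_zpowers hs) (by rw [hu₂sq]; exact z_mem_zpowers hs)
    (Zs_le_zpowers hs (A1_comm hB _ (Subgroup.mem_sup_right hu₁Q) _ (Subgroup.mem_sup_right hu₂Q)))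
    (hnot iq d2_q8_ne.1 d2_q8_ne.2.1) (hnot jq d2_q8_ne.2.2.1 d2_q8_ne.2.2.2.1)
    (by rw [← map_mul]; exact hnot (iq * jq) d2_q8_ne.2.2.2.2.1 d2_q8_ne.2.2.2.2.2)
    (by
      intro x hx hx1 hx2
      have hz1 := d2_cm_mem_Zs hB hs hu₁Q hu₁sq hx1
      have hz2 := d2_cm_mem_Zs hB hs hu₂Q hu₂sq hx2
      have hall : ∀ a ∈ Q₂, cm x a ∈ Zs z := by
        intro a ha
        obtain ⟨w, rfl⟩ := exists_homOf_eq e₂ ha
        obtain ⟨m, k, hw⟩ := q8_gen w
        rw [hw, map_mul, map_pow, map_pow]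
        exact d2_cm_mul_mem hB.z_sq hzc (d2_cm_pow_mem hB.z_sq hzc hz1 _)
          (d2_cm_pow_mem hB.z_sq hzc hz2 _)
      obtain ⟨q, hq, y, hy, hxy⟩ := A5' hB x hall
      have hyi : y * i = i * y := by
        have hxi : i * x = x * i :=
          Subgroup.mem_centralizer_iff.mp hx.2 i (Set.mem_singleton i)
        have hqi : i * q = q * i := hB.comm i hs.i_mem q hq
        rw [hxy] at hxi
        have h1 : q * (y * i) = q * (i * y) := by
          calc q * (y * i) = (q * y) * i := by group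
            _ = i * (q * y) := hxi.symm
            _ = (i * q) * y := by group
            _ = (q * i) * y := by rw [hqi]
            _ = q * (i * y) := by group
        exact mul_left_cancel h1
      have hyc : y ∈ Subgroup.zpowers c := side_cent_i hB hs h3 y hy hyi
      obtain ⟨w, rfl⟩ := exists_homOf_eq e₂ hq
      have key : ∀ v : QuaternionGroup 2, (w * v = 1 ∨ w * v = zq) →
          x * homOf e₂ v ∈ Subgroup.zpowers c := by
        intro v hv
        have h1 : homOf e₂ w * homOf e₂ v ∈ Subgroup.zpowers c := by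
          rw [← map_mul]
          rcases hv with h | h
          · rw [h, map_one]; exact one_mem _
          · rw [h, hz₂]; exact z_mem_zpowers hs
        have hvy : homOf e₂ v * y = y * homOf e₂ v :=
          Subgroup.mem_centralizer_iff.mp hy _ (homOf_mem e₂ v)
        have e : x * homOf e₂ v = (homOf e₂ w * homOf e₂ v) * y := by
          rw [hxy]
          calc homOf e₂ w * y * homOf e₂ v = homOf e₂ w * (y * homOf e₂ v) := by group
            _ = homOf e₂ w * (homOf e₂ v * y) := by rw [hvy]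
            _ = _ := by group
        rw [e]; exact mul_mem h1 hyc
      rcases d2_q8_cosets w with h | h | h | h
      · left
        have h' := key 1 (by simpa using h)
        simpa using h'
      · right; left; exact key iq h
      · right; right; left; exact key jq h
      · right; right; right
        have h' := key (iq * jq) h
        rwa [map_mul] at h')
    (by
      rw [Subgroup.zpowers_le, Subgroup.mem_centralizer_iff]
      intro h hh
      rw [Set.mem_singleton_iff] at hh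
      rw [hh])
    (by
      intro x hx y hy
      rw [Subgroup.mem_centralizer_iff]
      intro h hh
      rw [Set.mem_singleton_iff] at hh
      subst hh
      have hxi := hnorm x⁻¹ (inv_mem hx) h (Subgroup.mem_zpowers h)
      have hyi := hnorm y⁻¹ (inv_mem hy) h (Subgroup.mem_zpowers h)
      have hmul : x⁻¹ * y⁻¹ ∈ Subgroup.normalizer ((Subgroup.zpowers h : Subgroup S) : Set S) :=
        mul_mem (inv_mem hx.1) (inv_mem hy.1)
      have hyx := (Subgroup.mem_normalizer_iff.mp hmul h).mp (Subgroup.mem_zpowers h)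
      have h5 := d2_comm_of_normalizers (x := y⁻¹) (y := x⁻¹) hyi hxi hyx
      simp only [inv_inv] at h5
      exact h5.symm)
  intro g hg
  have h1 := hsq g hg
  rw [Subgroup.mem_centralizer_iff] at h1
  exact (h1 c (Set.mem_singleton c)).symm

end Cfsg.Agent.Lib.Helper4.QQD
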