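import Cfsg.Agent.Lib.Helper4.QQD4

/-!
# Farm S1233, unit U-D2 (N'): the normalizer of `C₁` acts on `C₁ / ⟨z⟩` as `±1`
-/

set_option autoImplicit false
set_option linter.unusedSectionVars false
set_option linter.unusedVariables false

namespace Cfsg.Agent.Lib.Helper4.QQD

open Cfsg.Agent.Lib.Helper1.S1233
open Cfsg.Agent.Lib.Helper3.S1233B2
open Cfsg.Agent.Lib.Helper6.S1233A
open Cfsg.Agent.Lib.Helper6.QQA

variable {S : Type*} [Group S] {Q₁ Q₂ : Subgroup S} {z c i j : S} {n ε : ℕ}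

/-- elements of `N₁` act on `C₁` as `1` or `1 + 2^(n-1)` -/
theorem d2_core (hB : Base Q₁ Q₂ z) (hs : Side Q₁ (cen Q₂) z c i j n ε) (h3 : 3 ≤ n)
    (x : S) (hxK : x ∈ NK c i) : x⁻¹ * c * x = c ∨ x⁻¹ * c * x = c * z := by
  have := hB.fin
  have hzc := hB.z_central
  have hkey := d2_key hB hs h3 x hxK
  have hxH : x⁻¹ * c * x ∈ Subgroup.zpowers c :=
    d2_conj_of_mem_normalizer hxK.1 (Subgroup.mem_zpowers c)
  obtain ⟨a, ha⟩ := d2_exists_zpow_conj hxH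
  have hca : x⁻¹ * c * x = c ^ a := ha c (Subgroup.mem_zpowers c)
  have hia : i ^ a = i := by
    rw [← ha i (i_mem_zpowers hs)]
    have hxi : i * x = x * i :=
      Subgroup.mem_centralizer_iff.mp hxK.2 i (Set.mem_singleton i)
    calc x⁻¹ * i * x = x⁻¹ * (i * x) := by group
      _ = x⁻¹ * (x * i) := by rw [hxi]
      _ = i := by group
  have hi4 : orderOf i = 4 := by
    have : Fact (Nat.Prime 2) := ⟨Nat.prime_two⟩
    have h := orderOf_eq_prime_pow (x := i) (n := 1) (p := 2)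
      (by rw [pow_one, pow_two, side_i_sq hs]; exact hB.z_ne)
      (by
        show i ^ 2 ^ (1 + 1) = 1
        rw [show (2 : ℕ) ^ (1 + 1) = 4 by norm_num]
        exact i_pow_four hB hs)
    simpa using h
  have h4 : (4 : ℤ) ∣ a - 1 := by
    have h1 : i ^ (a - 1) = 1 := by rw [zpow_sub, zpow_one, hia, mul_inv_cancel]
    have h2 := orderOf_dvd_iff_zpow_eq_one.mpr h1
    rw [hi4] at h2
    exact_mod_cast h2
  obtain ⟨q, hq⟩ := h4
  have ha1 : a = 4 * q + 1 := by linarith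
  have hcaa : c ^ (a * a) = c := by
    have h1 : (x * x)⁻¹ * c * (x * x) = c := by
      calc (x * x)⁻¹ * c * (x * x) = (x * x)⁻¹ * (c * (x * x)) := by group
        _ = (x * x)⁻¹ * ((x * x) * c) := by rw [hkey]
        _ = c := by group
    have h2 : (x * x)⁻¹ * c * (x * x) = x⁻¹ * (x⁻¹ * c * x) * x := by group
    rw [h2, hca, ha _ (zpow_mem (Subgroup.mem_zpowers c) a), ← zpow_mul] at h1
    exact h1
  have hw2 : (c ^ (a - 1)) ^ (2 * (2 * q + 1)) = 1 := by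
    rw [← zpow_mul]
    have e : (a - 1) * (2 * (2 * q + 1)) = a * a - 1 := by rw [ha1]; ring
    rw [e, zpow_sub, zpow_one, hcaa, mul_inv_cancel]
  have hc2n : c ^ ((2 : ℤ) ^ n) = 1 := by
    have h := pow_orderOf_eq_one c
    rw [hs.ord] at h
    exact_mod_cast h
  have hw3 : (c ^ (a - 1)) ^ ((2 : ℤ) ^ n) = 1 := by
    rw [← zpow_mul, mul_comm, zpow_mul, hc2n, one_zpow]
  have hcop : IsCoprime (2 * q + 1) ((2 : ℤ) ^ (n - 1)) := by
    apply IsCoprime.pow_right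
    exact ⟨1, -q, by ring⟩
  obtain ⟨α, β, hαβ⟩ := hcop
  have hww : c ^ (a - 1) * c ^ (a - 1) = 1 := by
    have h2n : (2 : ℤ) ^ n = 2 * 2 ^ (n - 1) := by
      obtain ⟨m, rfl⟩ : ∃ m, n = m + 1 := ⟨n - 1, by omega⟩
      simp [pow_succ]; ring
    have e : (2 : ℤ) = (2 * (2 * q + 1)) * α + (2 : ℤ) ^ n * β := by
      rw [h2n]; linear_combination (-2 : ℤ) * hαβ
    have h5 : c ^ (a - 1) * c ^ (a - 1) = (c ^ (a - 1)) ^ (2 : ℤ) := by rw [zpow_two]
    have h6 : (c ^ (a - 1)) ^ (2 : ℤ)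
        = (c ^ (a - 1)) ^ ((2 * (2 * q + 1)) * α + (2 : ℤ) ^ n * β) := by rw [← e]
    rw [h5, h6, zpow_add, zpow_mul _ (2 * (2 * q + 1)) α, zpow_mul _ ((2 : ℤ) ^ n) β, hw2, hw3,
      one_zpow, one_zpow, one_mul]
  have hwH : c ^ (a - 1) ∈ Subgroup.zpowers c := zpow_mem (Subgroup.mem_zpowers c) _
  have hsplit : c ^ a = c ^ (a - 1) * c := by
    rw [← zpow_add_one]; congr 1; ring
  rcases d2_sq_one_mem_zpowers (z_mem_zpowers hs) hB.z_sq hB.z_ne hwH hww with h | h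
  · left; rw [hca, hsplit, h, one_mul]
  · right; rw [hca, hsplit, h]; exact (hzc c).symm

/-- **U-D2**, in terms of a `Side` -/
theorem D2_aux (hB : Base Q₁ Q₂ z) (hs : Side Q₁ (cen Q₂) z c i j n ε) (h3 : 3 ≤ n) :
    ∀ x : S, x⁻¹ * c * x ∈ Subgroup.zpowers c →
      x⁻¹ * c * x = c ∨ x⁻¹ * c * x = c * z ∨ x⁻¹ * c * x = c⁻¹ ∨ x⁻¹ * c * x = c⁻¹ * z := by
  intro x hx
  have := hB.fin
  have hzc := hB.z_central
  have hiH : i ∈ Subgroup.zpowers c := i_mem_zpowers hs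
  have hii : i * i = z := side_i_sq hs
  have hjj : j * j = z := side_j_sq (A1_q8 hB) hs
  have hjcen : j ∈ cen Q₂ := side_le hB hs.j_mem
  have hcen_of : ∀ g : S, g⁻¹ * i * g = i → g ∈ Subgroup.centralizer {i} := by
    intro g hg
    rw [Subgroup.mem_centralizer_iff]
    intro h hh
    rw [Set.mem_singleton_iff] at hh
    subst hh
    calc h * g = g * (g⁻¹ * h * g) := by group
      _ = g * h := by rw [hg]
  -- the action on `i`
  have hxi : x⁻¹ * i * x = i ∨ x⁻¹ * i * x = i⁻¹ := by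
    have hmem := d2_conj_mem_zpowers hx hiH
    have htt : (x⁻¹ * i * x) * (x⁻¹ * i * x) = z := by
      have h1 : (x⁻¹ * i * x) * (x⁻¹ * i * x) = x⁻¹ * (i * i) * x := by group
      rw [h1, hii, d2_conj_z hzc]
    have hcomm : i⁻¹ * (x⁻¹ * i * x) = (x⁻¹ * i * x) * i⁻¹ :=
      d2_zpowers_comm (inv_mem hiH) hmem
    have hs1 : ((x⁻¹ * i * x) * i⁻¹) * ((x⁻¹ * i * x) * i⁻¹) = 1 := by
      calc ((x⁻¹ * i * x) * i⁻¹) * ((x⁻¹ * i * x) * i⁻¹)
          = (x⁻¹ * i * x) * (i⁻¹ * (x⁻¹ * i * x)) * i⁻¹ := by group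
        _ = (x⁻¹ * i * x) * ((x⁻¹ * i * x) * i⁻¹) * i⁻¹ := by rw [hcomm]
        _ = ((x⁻¹ * i * x) * (x⁻¹ * i * x)) * (i * i)⁻¹ := by group
        _ = 1 := by rw [htt, hii, mul_inv_cancel]
    rcases d2_sq_one_mem_zpowers (z_mem_zpowers hs) hB.z_sq hB.z_ne
      (mul_mem hmem (inv_mem hiH)) hs1 with h | h
    · left; exact mul_inv_eq_one.mp h
    · right
      have h1 : x⁻¹ * i * x = z * i := by
        calc x⁻¹ * i * x = ((x⁻¹ * i * x) * i⁻¹) * i := by group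
          _ = z * i := by rw [h]
      rw [h1]
      apply eq_inv_of_mul_eq_one_left
      rw [mul_assoc, hii, hB.z_sq]
  rcases hxi with hxi | hxi
  · have hxK : x ∈ NK c i := Subgroup.mem_inf.mpr ⟨d2_mem_normalizer hx, hcen_of x hxi⟩
    rcases d2_core hB hs h3 x hxK with h | h
    · left; exact h
    · right; left; exact h
  · have hjc : j⁻¹ * c * j = c ^ ε := hs.act j hjcen hs.j_not
    have hjH : j⁻¹ * c * j ∈ Subgroup.zpowers c := by
      rw [hjc]; exact Subgroup.npow_mem_zpowers c ε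
    have hx' : (x * j)⁻¹ * c * (x * j) ∈ Subgroup.zpowers c := by
      have h1 : (x * j)⁻¹ * c * (x * j) = j⁻¹ * (x⁻¹ * c * x) * j := by group
      rw [h1]; exact d2_conj_mem_zpowers hjH hx
    have hji : j⁻¹ * i * j = i⁻¹ := conj_i hB hs h3 j hjcen hs.j_not
    have hx'i : (x * j)⁻¹ * i * (x * j) = i := by
      have h1 : (x * j)⁻¹ * i * (x * j) = j⁻¹ * (x⁻¹ * i * x) * j := by group
      have h2 : j⁻¹ * i⁻¹ * j = (j⁻¹ * i * j)⁻¹ := by group
      rw [h1, hxi, h2, hji, inv_inv]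
    have hxK : x * j ∈ NK c i :=
      Subgroup.mem_inf.mpr ⟨d2_mem_normalizer hx', hcen_of (x * j) hx'i⟩
    have hjcj : j * c * j⁻¹ = c ^ ε := by
      have h1 : j * c * j⁻¹ = j⁻¹ * ((j * j) * c * (j * j)⁻¹) * j := by group
      have h2 : z * c * z⁻¹ = c := by
        rw [← hzc c, mul_assoc, mul_inv_cancel, mul_one]
      rw [h1, hjj, h2, hjc]
    have hrel : x⁻¹ * c * x = j * ((x * j)⁻¹ * c * (x * j)) * j⁻¹ := by group
    have hzc' : c⁻¹ * z = z * c⁻¹ := hzc c⁻¹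
    rcases d2_core hB hs h3 (x * j) hxK with h | h
    · rw [h, hjcj] at hrel
      rcases c_pow_eps hB hs with he | ⟨-, he⟩
      · right; right; left; rw [hrel, he]
      · right; right; right; rw [hrel, he, hzc']
    · have h3' : j * (c * z) * j⁻¹ = (j * c * j⁻¹) * z := by
        calc j * (c * z) * j⁻¹ = j * c * (z * j⁻¹) := by group
          _ = j * c * (j⁻¹ * z) := by rw [← hzc j⁻¹]
          _ = (j * c * j⁻¹) * z := by group
      rw [h, h3', hjcj] at hrel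
      rcases c_pow_eps hB hs with he | ⟨-, he⟩
      · right; right; right; rw [hrel, he]
      · right; right; left
        rw [hrel, he, ← hzc', mul_assoc, hB.z_sq, mul_one]

/-- **U-D2** (verbatim). -/
theorem D2 {d : Dat S} (hC : Ctx Q₁ Q₂ d) (h1 : 3 ≤ d.n₁) :
    ∀ x : S, x⁻¹ * d.c₁ * x ∈ Subgroup.zpowers d.c₁ →
    x⁻¹ * d.c₁ * x = d.c₁ ∨ x⁻¹ * d.c₁ * x = d.c₁ * d.z ∨
    x⁻¹ * d.c₁ * x = d.c₁⁻¹ ∨ x⁻¹ * d.c₁ * x = d.c₁⁻¹ * d.z :=
  D2_aux hC.base hC.s1 h1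

end Cfsg.Agent.Lib.Helper4.QQD
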