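import Mathlib

/-!
# Farm S1851 (quasithin): Lemma W

A perfect subnormal subgroup `K` of a finite group is normalized by every normal `p`-subgroup.
-/

set_option autoImplicit false

namespace Cfsg.Agent.Lib.Helper4.QTLemmaW

universe u

/-- `subgroupOf` preserves perfectness for subgroups below. -/
theorem perfect_subgroupOf {X : Type*} [Group X] (J N : Subgroup X) (hJN : J ≤ N)
    (hJ : ⁅J, J⁆ = J) : ⁅J.subgroupOf N, J.subgroupOf N⁆ = J.subgroupOf N := by
  apply Subgroup.map_injective N.subtype_injective
  rw [Subgroup.map_commutator, Subgroup.map_subgroupOf_eq_of_le hJN, hJ]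

/-- A perfect subgroup `J ≤ N` lies in `K` when `K` is normal in `N` with `N / K` a `p`-group. -/
theorem perfect_le_of_pgroup_quotient {X : Type*} [Group X] [Finite X] {p : ℕ} [Fact p.Prime]
    (K N J : Subgroup X) [hnorm : (K.subgroupOf N).Normal]
    (hQ : IsPGroup p (↥N ⧸ K.subgroupOf N)) (hJN : J ≤ N) (hJ : ⁅J, J⁆ = J) : J ≤ K := by
  have : Group.IsNilpotent (↥N ⧸ K.subgroupOf N) := hQ.isNilpotent
  obtain ⟨n, hn⟩ := (Group.isSolvable_def (↥N ⧸ K.subgroupOf N)).1 inferInstance
  have hJ' := perfect_subgroupOf J N hJN hJ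
  have hle : ∀ i : ℕ, J.subgroupOf N ≤ derivedSeries ↥N i := by
    intro i
    induction i with
    | zero => simp
    | succ i ih =>
      rw [derivedSeries_succ, ← hJ']
      exact Subgroup.commutator_mono ih ih
  have hmap : (derivedSeries ↥N n).map (QuotientGroup.mk' (K.subgroupOf N)) = ⊥ := by
    rw [map_derivedSeries_eq (QuotientGroup.mk'_surjective _), hn]
  have hker : derivedSeries ↥N n ≤ K.subgroupOf N := by
    have h1 : derivedSeries ↥N n ≤ (QuotientGroup.mk' (K.subgroupOf N)).ker :=
      (Subgroup.map_eq_bot_iff _).1 hmap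
    rwa [QuotientGroup.ker_mk'] at h1
  intro j hj
  have h2 : (⟨j, hJN hj⟩ : ↥N) ∈ J.subgroupOf N := by
    rw [Subgroup.mem_subgroupOf]
    exact hj
  have h3 := hker (hle n h2)
  rw [Subgroup.mem_subgroupOf] at h3
  exact h3

theorem lemmaW_aux {p : ℕ} [Fact p.Prime] : ∀ n : ℕ, ∀ (X : Type u) [Group X] [Finite X],
    Nat.card X = n → ∀ (K P : Subgroup X), K.IsSubnormal → ⁅K, K⁆ = K → P.Normal → IsPGroup p P →
      P ≤ Subgroup.normalizer (K : Set X) := by
  intro n
  induction n using Nat.strong_induction_on with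
  | _ n ih =>
    intro X _ _ hn K P hK hperf hPn hPp
    have := hPn
    -- the restriction step: from a subgroup `Y` containing `K` to `X`
    have restrict : ∀ Y : Subgroup X, K ≤ Y → Nat.card Y < n → ∀ x ∈ P, x ∈ Y →
        ∀ k ∈ K, x * k * x⁻¹ ∈ K := by
      intro Y hKY hlt x hxP hxY k hk
      have h1 := ih _ hlt ↥Y rfl (K.subgroupOf Y) (P.subgroupOf Y) hK.subgroupOf
        (perfect_subgroupOf K Y hKY hperf) inferInstance (hPp.comap_subtype)
      have h2 : (⟨x, hxY⟩ : ↥Y) ∈ P.subgroupOf Y := by
        rw [Subgroup.mem_subgroupOf]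
        exact hxP
      have h3 := h1 h2
      rw [Subgroup.mem_normalizer_iff] at h3
      have h4 := (h3 ⟨k, hKY hk⟩).1 (by
        rw [Subgroup.mem_subgroupOf]
        exact hk)
      rw [Subgroup.mem_subgroupOf] at h4
      exact h4
    -- it suffices to show that every element of `P` conjugates `K` into `K`
    suffices hconj : ∀ x ∈ P, ∀ k ∈ K, x * k * x⁻¹ ∈ K by
      intro x hx
      rw [Subgroup.mem_normalizer_iff]
      intro h
      constructor
      · exact fun hh => hconj x hx h hh
      · intro hh
        have h1 := hconj x⁻¹ (P.inv_mem hx) _ hh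
        have h2 : x⁻¹ * (x * h * x⁻¹) * x⁻¹⁻¹ = h := by group
        rwa [h2] at h1
    by_cases hY : K ⊔ P = ⊤
    · by_cases hKtop : K = ⊤
      · intro x _ k _
        rw [hKtop]
        exact Subgroup.mem_top _
      · obtain h | ⟨N, hNn, hKN, hNtop⟩ := hK.lt_normal
        · exact absurd h hKtop
        have := hNn
        have hNlt : Nat.card N < n := by
          by_contra hge
          push Not at hge
          rw [← hn] at hge
          exact (ne_of_lt hNtop) (Subgroup.eq_top_of_le_card N hge)
        have hR : ∀ q ∈ P, q ∈ N → ∀ k ∈ K, q * k * q⁻¹ ∈ K := fun q hqP hqN k hk =>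
          restrict N hKN hNlt q hqP hqN k hk
        -- Dedekind: every element of `N` is `k * q` with `k ∈ K`, `q ∈ P ⊓ N`
        have hded : ∀ g ∈ N, ∃ k ∈ K, ∃ q ∈ P, q ∈ N ∧ g = k * q := by
          intro g hg
          have h1 : g ∈ K ⊔ P := by
            rw [hY]
            exact Subgroup.mem_top g
          rw [← SetLike.mem_coe, Subgroup.mul_normal] at h1
          obtain ⟨k, hk, q, hq, rfl⟩ := h1
          refine ⟨k, hk, q, hq, ?_, rfl⟩
          have : q = k⁻¹ * (k * q) := by group
          rw [this]
          exact N.mul_mem (N.inv_mem (hKN hk)) hg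
        have hnorm : (K.subgroupOf N).Normal := by
          constructor
          intro k hk g
          rw [Subgroup.mem_subgroupOf] at hk ⊢
          obtain ⟨k1, hk1, q, hqP, hqN, hg⟩ := hded g g.2
          have h1 : ((g * k * g⁻¹ : ↥N) : X) = k1 * (q * (k : X) * q⁻¹) * k1⁻¹ := by
            push_cast
            rw [hg]
            group
          rw [h1]
          exact K.mul_mem (K.mul_mem hk1 (hR q hqP hqN _ hk)) (K.inv_mem hk1)
        have hQ : IsPGroup p (↥N ⧸ K.subgroupOf N) := by
          have hPN : IsPGroup p ↥(P.subgroupOf N) := hPp.comap_subtype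
          refine hPN.of_surjective
            ((QuotientGroup.mk' (K.subgroupOf N)).comp (P.subgroupOf N).subtype) ?_
          intro y
          obtain ⟨g, rfl⟩ := QuotientGroup.mk'_surjective (K.subgroupOf N) y
          obtain ⟨k1, hk1, q, hqP, hqN, hg⟩ := hded g g.2
          refine ⟨⟨⟨q, hqN⟩, by rw [Subgroup.mem_subgroupOf]; exact hqP⟩, ?_⟩
          simp only [MonoidHom.coe_comp, Function.comp_apply, Subgroup.coe_subtype,
            QuotientGroup.mk'_apply]
          rw [QuotientGroup.eq]
          rw [Subgroup.mem_subgroupOf]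
          have h1 : (((⟨q, hqN⟩ : ↥N)⁻¹ * g : ↥N) : X) = q⁻¹ * k1 * q := by
            push_cast
            rw [hg]
            group
          rw [h1]
          have h2 := hR q⁻¹ (P.inv_mem hqP) (N.inv_mem hqN) k1 hk1
          rwa [inv_inv] at h2
        -- every conjugate of `K` is a perfect subgroup of `N`
        intro x _ k hk
        have hJperf : ⁅K.map (MulAut.conj x).toMonoidHom, K.map (MulAut.conj x).toMonoidHom⁆ =
            K.map (MulAut.conj x).toMonoidHom := by
          rw [← Subgroup.map_commutator, hperf]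
        have hJN : K.map (MulAut.conj x).toMonoidHom ≤ N := by
          rintro _ ⟨k', hk', rfl⟩
          exact hNn.conj_mem k' (hKN hk') x
        have hJK := perfect_le_of_pgroup_quotient K N _ hQ hJN hJperf
        exact hJK ⟨k, hk, rfl⟩
    · have hYlt : Nat.card ↥(K ⊔ P) < n := by
        by_contra hge
        push Not at hge
        rw [← hn] at hge
        exact hY (Subgroup.eq_top_of_le_card _ hge)
      intro x hx k hk
      exact restrict (K ⊔ P) le_sup_left hYlt x hx (le_sup_right (a := K) hx) k hk

/-- **Lemma W.** In a finite group, a perfect subnormal subgroup is normalized by every normal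
`p`-subgroup. -/
theorem lemmaW {X : Type*} [Group X] [Finite X] {p : ℕ} [Fact p.Prime] (K P : Subgroup X)
    (hK : K.IsSubnormal) (hperf : ⁅K, K⁆ = K) (hP : P.Normal) (hPp : IsPGroup p P) :
    P ≤ Subgroup.normalizer (K : Set X) :=
  lemmaW_aux _ X rfl K P hK hperf hP hPp

end Cfsg.Agent.Lib.Helper4.QTLemmaW
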