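import Mathlib

set_option autoImplicit false

/-! Sylow subgroups contained in a cyclic self-centralising torus. -/

namespace Cfsg.Agent.Lib.Helper4.SylowTorus

open Pointwise

variable {G : Type*} [Group G]

theorem centralizer_zpowers (h : G) :
    Subgroup.centralizer ((Subgroup.zpowers h : Subgroup G) : Set G)
      = Subgroup.centralizer ({h} : Set G) := by
  ext x
  rw [Subgroup.mem_centralizer_iff, Subgroup.mem_centralizer_singleton_iff]
  constructor
  · intro hx
    exact (hx h (Subgroup.mem_zpowers h)).symm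
  · intro hx y hy
    obtain ⟨j, rfl⟩ := Subgroup.mem_zpowers_iff.1 hy
    have : Commute x h := hx
    exact (this.zpow_right j).symm

theorem conj_mem_centralizer (H : Subgroup G) (x : G)
    (hx : x ∈ Subgroup.normalizer (H : Set G)) (z : G)
    (hz : z ∈ Subgroup.centralizer (H : Set G)) :
    x * z * x⁻¹ ∈ Subgroup.centralizer (H : Set G) := by
  rw [Subgroup.mem_centralizer_iff] at hz ⊢
  intro g hg
  have h1 : x⁻¹ * g * x ∈ H := by
    have := (Subgroup.mem_normalizer_iff''.1 hx g).1 hg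
    exact this
  have h2 := hz _ h1
  calc g * (x * z * x⁻¹) = x * ((x⁻¹ * g * x) * z) * x⁻¹ := by group
    _ = x * (z * (x⁻¹ * g * x)) * x⁻¹ := by rw [h2]
    _ = x * z * x⁻¹ * g := by group

theorem normalizer_le_normalizer_centralizer (H : Subgroup G) :
    Subgroup.normalizer (H : Set G) ≤
      Subgroup.normalizer ((Subgroup.centralizer (H : Set G) : Subgroup G) : Set G) := by
  intro x hx
  rw [Subgroup.mem_normalizer_iff]
  intro z
  constructor
  · exact conj_mem_centralizer H x hx z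
  · intro hz
    have := conj_mem_centralizer H x⁻¹ (Subgroup.inv_mem _ hx) _ hz
    have e : x⁻¹ * (x * z * x⁻¹) * x⁻¹⁻¹ = z := by group
    rwa [e] at this

theorem mem_zpowers_pow_of_pow_eq_one (c : G) (a m : ℕ) (hn : orderOf c = a * m) (ha : 0 < a)
    (y : G) (hy : y ∈ Subgroup.zpowers c) (hya : y ^ a = 1) : y ∈ Subgroup.zpowers (c ^ m) := by
  obtain ⟨j, rfl⟩ := Subgroup.mem_zpowers_iff.1 hy
  have h1 : c ^ (j * (a : ℤ)) = 1 := by
    rw [zpow_mul, zpow_natCast]
    exact hya
  have h2 := orderOf_dvd_iff_zpow_eq_one.2 h1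
  rw [hn] at h2
  push_cast at h2
  have h3 : (m : ℤ) ∣ j := by
    have : (a : ℤ) * m ∣ (a : ℤ) * j := by rwa [mul_comm (a : ℤ) j]
    exact (mul_dvd_mul_iff_left (by exact_mod_cast ha.ne')).1 this
  obtain ⟨j', rfl⟩ := h3
  rw [Subgroup.mem_zpowers_iff]
  exact ⟨j', by rw [← zpow_natCast, ← zpow_mul]⟩

theorem pow_eq_one_of_mem_zpowers_pow (c : G) (a m : ℕ) (hn : orderOf c = a * m)
    (y : G) (hy : y ∈ Subgroup.zpowers (c ^ m)) : y ^ a = 1 := by
  obtain ⟨j, rfl⟩ := Subgroup.mem_zpowers_iff.1 hy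
  rw [← zpow_natCast, ← zpow_mul, mul_comm, zpow_mul, zpow_natCast, ← pow_mul, mul_comm, ← hn,
    pow_orderOf_eq_one, one_zpow]

theorem conj_mem_zpowers_pow (c : G) (a m : ℕ) (hn : orderOf c = a * m) (ha : 0 < a) (x : G)
    (hx : x ∈ Subgroup.normalizer ((Subgroup.zpowers c : Subgroup G) : Set G)) (y : G)
    (hy : y ∈ Subgroup.zpowers (c ^ m)) : x * y * x⁻¹ ∈ Subgroup.zpowers (c ^ m) := by
  have hyc : y ∈ Subgroup.zpowers c := by
    have : Subgroup.zpowers (c ^ m) ≤ Subgroup.zpowers c := by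
      rw [Subgroup.zpowers_le]
      exact Subgroup.pow_mem _ (Subgroup.mem_zpowers c) m
    exact this hy
  apply mem_zpowers_pow_of_pow_eq_one c a m hn ha
  · exact (Subgroup.mem_normalizer_iff.1 hx y).1 hyc
  · rw [conj_pow, pow_eq_one_of_mem_zpowers_pow c a m hn y hy, mul_one, mul_inv_cancel]

theorem normalizer_zpowers_le (c : G) (a m : ℕ) (hn : orderOf c = a * m) (ha : 0 < a) :
    Subgroup.normalizer ((Subgroup.zpowers c : Subgroup G) : Set G) ≤
      Subgroup.normalizer ((Subgroup.zpowers (c ^ m) : Subgroup G) : Set G) := by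
  intro x hx
  rw [Subgroup.mem_normalizer_iff]
  intro y
  constructor
  · exact conj_mem_zpowers_pow c a m hn ha x hx y
  · intro hy
    have := conj_mem_zpowers_pow c a m hn ha x⁻¹ (Subgroup.inv_mem _ hx) _ hy
    have e : x⁻¹ * (x * y * x⁻¹) * x⁻¹⁻¹ = y := by group
    rwa [e] at this

/-- transport of centralisers along an automorphism -/
theorem map_centralizer (φ : G ≃* G) (S : Set G) :
    (Subgroup.centralizer S).map φ.toMonoidHom = Subgroup.centralizer (φ '' S) := by
  apply le_antisymm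
  · exact Subgroup.map_centralizer_le_centralizer_image S φ.toMonoidHom
  · intro z hz
    rw [Subgroup.mem_centralizer_iff] at hz
    refine ⟨φ.symm z, ?_, by simp⟩
    rw [SetLike.mem_coe, Subgroup.mem_centralizer_iff]
    intro h hh
    apply φ.injective
    rw [map_mul, map_mul, MulEquiv.apply_symm_apply]
    exact hz _ ⟨h, hh, rfl⟩

end Cfsg.Agent.Lib.Helper4.SylowTorus
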