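import Mathlib
import Cfsg.Agent.Lib.Helper4.SylowTorus
import Cfsg.Agent.Lib.Helper1.Fusion

/-!
# Sylow 2-subgroups of quaternion type inside the normaliser of a cyclic self-centralising torus
-/

namespace Cfsg.Agent.Lib.Helper4.QuatSyl

open Pointwise Cfsg.Agent.Lib.Helper4.SylowTorus

variable {G : Type*} [Group G]

/-- hypotheses on the torus `⟨c⟩` of order `2 ^ a * m` -/
structure TorusHyp (c z : G) (a m : ℕ) : Prop where
  ord : orderOf c = 2 ^ a * m
  odd : ¬ 2 ∣ m
  two_le : 2 ≤ a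
  cent : ∀ y ∈ Subgroup.zpowers c, y * y ≠ 1 →
    Subgroup.centralizer ({y} : Set G) = Subgroup.zpowers c
  sq : ∀ g ∈ Subgroup.normalizer ((Subgroup.zpowers c : Subgroup G) : Set G),
    g ∉ Subgroup.zpowers c → g * g = z
  invol : ∀ y : G, y * y = 1 → y = 1 ∨ y = z
  zc : z ∈ Subgroup.center G
  val : (Nat.card G).factorization 2 = a + 1
  fus : a = 2 → ∀ x y : G, x * x = z → y * y = z → IsConj x y

/-- index two subgroups are normal, card version -/
lemma le_normalizer_of_card [Finite G] (H K : Subgroup G) (hHK : H ≤ K)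
    (hcard : Nat.card K = 2 * Nat.card H) : K ≤ Subgroup.normalizer (H : Set G) := by
  rw [← Subgroup.normal_subgroupOf_iff_le_normalizer hHK]
  apply Subgroup.normal_of_index_eq_two
  have h1 := (H.subgroupOf K).card_mul_index
  rw [Nat.card_congr (Subgroup.subgroupOfEquivOfLe hHK).toEquiv, hcard] at h1
  have hpos : 0 < Nat.card H := Nat.card_pos
  have : Nat.card H * (H.subgroupOf K).index = Nat.card H * 2 := by rw [h1]; ring
  exact Nat.eq_of_mul_eq_mul_left hpos this

lemma sq_mem_of_card [Finite G] (H K : Subgroup G) (hHK : H ≤ K)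
    (hcard : Nat.card K = 2 * Nat.card H) (k : G) (hk : k ∈ K) : k * k ∈ H := by
  have hidx : (H.subgroupOf K).index = 2 := by
    have h1 := (H.subgroupOf K).card_mul_index
    rw [Nat.card_congr (Subgroup.subgroupOfEquivOfLe hHK).toEquiv, hcard] at h1
    have hpos : 0 < Nat.card H := Nat.card_pos
    have : Nat.card H * (H.subgroupOf K).index = Nat.card H * 2 := by rw [h1]; ring
    exact Nat.eq_of_mul_eq_mul_left hpos this
  have := Subgroup.mul_self_mem_of_index_two hidx (⟨k, hk⟩ : K)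
  rwa [Subgroup.mem_subgroupOf] at this

lemma conj_mem_centralizer_singleton (u t x : G)
    (ht : t ∈ Subgroup.centralizer ({u} : Set G)) :
    x * t * x⁻¹ ∈ Subgroup.centralizer ({x * u * x⁻¹} : Set G) := by
  rw [Subgroup.mem_centralizer_singleton_iff] at ht ⊢
  calc x * t * x⁻¹ * (x * u * x⁻¹) = x * (t * u) * x⁻¹ := by group
    _ = x * (u * t) * x⁻¹ := by rw [ht]
    _ = x * u * x⁻¹ * (x * t * x⁻¹) := by group

section main

variable {c z : G} {a m : ℕ} (H : TorusHyp c z a m)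

include H

lemma cc_ne : c * c ≠ 1 := by
  intro h
  have h1 : orderOf c ∣ 2 := orderOf_dvd_of_pow_eq_one (by rw [pow_two]; exact h)
  rw [H.ord] at h1
  have h2 : 2 ^ a * m ≤ 2 := Nat.le_of_dvd (by norm_num) h1
  have h3 : 2 ^ 2 ≤ 2 ^ a := Nat.pow_le_pow_right (by norm_num) H.two_le
  have hm : 1 ≤ m := by
    rcases Nat.eq_zero_or_pos m with h0 | h0
    · exact absurd (h0 ▸ dvd_zero 2) H.odd
    · exact h0
  nlinarith

lemma cent_c : Subgroup.centralizer ({c} : Set G) = Subgroup.zpowers c :=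
  H.cent c (Subgroup.mem_zpowers c) (cc_ne H)

lemma m_pos : 0 < m := by
  rcases Nat.eq_zero_or_pos m with h0 | h0
  · exact absurd (h0 ▸ dvd_zero 2) H.odd
  · exact h0

lemma orderOf_u : orderOf (c ^ m) = 2 ^ a := by
  rw [orderOf_pow_of_dvd (m_pos H).ne' (by rw [H.ord]; exact dvd_mul_left _ _), H.ord,
    Nat.mul_div_cancel _ (m_pos H)]

lemma u_mem : c ^ m ∈ Subgroup.zpowers c := Subgroup.pow_mem _ (Subgroup.mem_zpowers c) m

lemma T2_le : Subgroup.zpowers (c ^ m) ≤ Subgroup.zpowers c := by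
  rw [Subgroup.zpowers_le]; exact u_mem H

lemma uu_ne : c ^ m * c ^ m ≠ 1 := by
  intro h
  have h1 : orderOf (c ^ m) ∣ 2 := orderOf_dvd_of_pow_eq_one (by rw [pow_two]; exact h)
  rw [orderOf_u H] at h1
  have h2 : 2 ^ a ≤ 2 := Nat.le_of_dvd (by norm_num) h1
  have h3 : 2 ^ 2 ≤ 2 ^ a := Nat.pow_le_pow_right (by norm_num) H.two_le
  omega

lemma cent_u : Subgroup.centralizer ({c ^ m} : Set G) = Subgroup.zpowers c :=
  H.cent _ (u_mem H) (uu_ne H)

/-- elements outside the torus invert it -/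
lemma inverts (g : G) (hg : g ∈ Subgroup.normalizer ((Subgroup.zpowers c : Subgroup G) : Set G))
    (hgT : g ∉ Subgroup.zpowers c) (t : G) (ht : t ∈ Subgroup.zpowers c) :
    g * t * g⁻¹ = t⁻¹ := by
  have h1 : g * t ∈ Subgroup.normalizer ((Subgroup.zpowers c : Subgroup G) : Set G) :=
    Subgroup.mul_mem _ hg (Subgroup.le_normalizer ht)
  have h2 : g * t ∉ Subgroup.zpowers c := by
    intro h
    apply hgT
    have := Subgroup.mul_mem _ h (Subgroup.inv_mem _ ht)
    rwa [mul_inv_cancel_right] at this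
  have h3 := H.sq _ h1 h2
  have h4 := H.sq _ hg hgT
  have h5 : t * g * t = g := by
    apply mul_left_cancel (a := g)
    rw [h4, ← h3]
    group
  calc g * t * g⁻¹ = t⁻¹ * (t * g * t) * g⁻¹ := by group
    _ = t⁻¹ := by rw [h5]; group

lemma mem_T2_of_pow (x : G) (hx : x ∈ Subgroup.zpowers c) (hx2 : x ^ 2 ^ (a + 1) = 1) :
    x ∈ Subgroup.zpowers (c ^ m) := by
  apply mem_zpowers_pow_of_pow_eq_one c (2 ^ a) m H.ord (by positivity) x hx
  have h1 : orderOf x ∣ 2 ^ (a + 1) := orderOf_dvd_of_pow_eq_one hx2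
  have h2 : orderOf x ∣ 2 ^ a * m := by
    rw [← H.ord]
    exact orderOf_dvd_of_mem_zpowers hx
  have h3 : orderOf x ∣ Nat.gcd (2 ^ a * 2) (2 ^ a * m) := Nat.dvd_gcd (by rwa [← pow_succ]) h2
  rw [Nat.gcd_mul_left] at h3
  have h4 : Nat.gcd 2 m = 1 := by
    rw [← Nat.coprime_iff_gcd_eq_one, Nat.Prime.coprime_iff_not_dvd Nat.prime_two]
    exact H.odd
  rw [h4, mul_one] at h3
  exact orderOf_dvd_iff_pow_eq_one.1 h3

variable [Finite G] (S : Sylow 2 G) (hS : Subgroup.zpowers (c ^ m) ≤ (S : Subgroup G))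

lemma card_S : Nat.card S = 2 ^ (a + 1) := by
  rw [Sylow.card_eq_multiplicity, H.val]

include hS

lemma card_S_eq : Nat.card S = 2 * Nat.card (Subgroup.zpowers (c ^ m)) := by
  rw [card_S H S, Nat.card_zpowers, orderOf_u H, pow_succ, mul_comm]

lemma S_le_NT2 : (S : Subgroup G) ≤
    Subgroup.normalizer ((Subgroup.zpowers (c ^ m) : Subgroup G) : Set G) :=
  le_normalizer_of_card _ _ hS (card_S_eq H S hS)

lemma S_le_NT : (S : Subgroup G) ≤
    Subgroup.normalizer ((Subgroup.zpowers c : Subgroup G) : Set G) := by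
  have h1 := normalizer_le_normalizer_centralizer (Subgroup.zpowers (c ^ m))
  rw [centralizer_zpowers, cent_u H] at h1
  exact (S_le_NT2 H S hS).trans h1

lemma exists_w : ∃ w ∈ (S : Subgroup G), w ∉ Subgroup.zpowers c := by
  by_contra hcon
  push Not at hcon
  have hle : (S : Subgroup G) ≤ Subgroup.zpowers c := hcon
  have h1 := Subgroup.card_dvd_of_le hle
  rw [Nat.card_zpowers, H.ord] at h1
  have h2 : Nat.card (S : Subgroup G) = 2 ^ (a + 1) := card_S H S
  rw [h2, pow_succ] at h1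
  exact H.odd ((Nat.mul_dvd_mul_iff_left (by positivity)).1 h1)

lemma pow_card_S (x : G) (hx : x ∈ (S : Subgroup G)) : x ^ 2 ^ (a + 1) = 1 := by
  have h1 : (⟨x, hx⟩ : (S : Subgroup G)) ^ Nat.card (S : Subgroup G) = 1 := pow_card_eq_one'
  have h2 : Nat.card (S : Subgroup G) = 2 ^ (a + 1) := card_S H S
  rw [h2] at h1
  exact congrArg Subtype.val h1

lemma S_inf_T (x : G) (hx : x ∈ (S : Subgroup G)) (hxT : x ∈ Subgroup.zpowers c) :
    x ∈ Subgroup.zpowers (c ^ m) :=
  mem_T2_of_pow H x hxT (pow_card_S H S hS x hx)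

/-- **the centraliser of `S`** -/
theorem centralizer_S :
    Subgroup.centralizer ((S : Subgroup G) : Set G) = Subgroup.center G := by
  apply le_antisymm
  · intro y hy
    rw [Subgroup.mem_centralizer_iff] at hy
    have hyT : y ∈ Subgroup.zpowers c := by
      rw [← cent_u H, Subgroup.mem_centralizer_singleton_iff]
      exact (hy _ (hS (Subgroup.mem_zpowers _))).symm
    obtain ⟨w, hw, hwT⟩ := exists_w H S hS
    by_cases hyy : y * y = 1
    · rcases H.invol y hyy with h | h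
      · rw [h]; exact Subgroup.one_mem _
      · rw [h]; exact H.zc
    · exfalso
      apply hwT
      rw [← H.cent y hyT hyy, Subgroup.mem_centralizer_singleton_iff]
      exact hy w hw
  · exact Subgroup.center_le_centralizer _

/-- elements normalising both `S` and the torus lie in `S` -/
theorem mem_S_of_mem_normalizers (x : G)
    (hxS : x ∈ Subgroup.normalizer ((S : Subgroup G) : Set G))
    (hxT : x ∈ Subgroup.normalizer ((Subgroup.zpowers c : Subgroup G) : Set G)) :
    x ∈ (S : Subgroup G) := by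
  obtain ⟨w, hw, hwT⟩ := exists_w H S hS
  have hwN := S_le_NT H S hS hw
  -- the torus case
  have key : ∀ x' : G, x' ∈ Subgroup.zpowers c →
      x' ∈ Subgroup.normalizer ((S : Subgroup G) : Set G) → x' ∈ (S : Subgroup G) := by
    intro x' hx'T hx'S
    have h1 : x' * w * x'⁻¹ ∈ (S : Subgroup G) := (Subgroup.mem_normalizer_iff.1 hx'S w).1 hw
    have h2 : w * x'⁻¹ * w⁻¹ = x' := by
      rw [inverts H w hwN hwT x'⁻¹ (Subgroup.inv_mem _ hx'T), inv_inv]
    have h3 : x' * w * x'⁻¹ = x' * x' * w := by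
      calc x' * w * x'⁻¹ = x' * (w * x'⁻¹ * w⁻¹) * w := by group
        _ = x' * x' * w := by rw [h2]
    rw [h3] at h1
    have h4 : x' * x' ∈ (S : Subgroup G) := by
      have := Subgroup.mul_mem _ h1 (Subgroup.inv_mem _ hw)
      rwa [mul_inv_cancel_right] at this
    have h5 : x' * x' ∈ Subgroup.zpowers (c ^ m) :=
      S_inf_T H S hS _ h4 (Subgroup.mul_mem _ hx'T hx'T)
    have h6 := pow_eq_one_of_mem_zpowers_pow c (2 ^ a) m H.ord _ h5
    have h7 : x' ^ 2 ^ (a + 1) = 1 := by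
      rw [pow_succ, mul_comm, pow_mul, pow_two]; exact h6
    exact hS (mem_T2_of_pow H x' hx'T h7)
  by_cases hxT' : x ∈ Subgroup.zpowers c
  · exact key x hxT' hxS
  · have h1 : x * w⁻¹ ∈ Subgroup.zpowers c := by
      rw [← cent_c H, Subgroup.mem_centralizer_singleton_iff]
      have e1 : w⁻¹ * c * w⁻¹⁻¹ = c⁻¹ :=
        inverts H w⁻¹ (Subgroup.inv_mem _ hwN) (fun h => hwT (by simpa using Subgroup.inv_mem _ h))
          c (Subgroup.mem_zpowers c)
      have e2 : x * c⁻¹ * x⁻¹ = c := by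
        rw [inverts H x hxT hxT' c⁻¹ (Subgroup.inv_mem _ (Subgroup.mem_zpowers c)), inv_inv]
      calc x * w⁻¹ * c = x * (w⁻¹ * c * w⁻¹⁻¹) * w⁻¹ := by group
        _ = x * c⁻¹ * x⁻¹ * (x * w⁻¹) := by rw [e1]; group
        _ = c * (x * w⁻¹) := by rw [e2]
    have h2 : x * w⁻¹ ∈ Subgroup.normalizer ((S : Subgroup G) : Set G) :=
      Subgroup.mul_mem _ hxS (Subgroup.inv_mem _ (Subgroup.le_normalizer hw))
    have h3 := key _ h1 h2
    have := Subgroup.mul_mem _ h3 hw
    rwa [inv_mul_cancel_right] at this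

/-- **`S` is self-normalising when `8 ∣ |T|`** -/
theorem normalizer_S_eq (ha3 : 3 ≤ a) :
    Subgroup.normalizer ((S : Subgroup G) : Set G) = (S : Subgroup G) := by
  apply le_antisymm _ Subgroup.le_normalizer
  intro x hx
  apply mem_S_of_mem_normalizers H S hS x hx
  -- x normalises the torus
  obtain ⟨v, hv⟩ : ∃ v, v = x * c ^ m * x⁻¹ := ⟨_, rfl⟩
  have hvS : v ∈ (S : Subgroup G) := by
    rw [hv]
    exact (Subgroup.mem_normalizer_iff.1 hx _).1 (hS (Subgroup.mem_zpowers _))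
  have hvord : orderOf v = 2 ^ a := by
    rw [hv, ← orderOf_u H]
    exact (MulAut.conj x).orderOf_eq (c ^ m)
  have hcard : Nat.card S = 2 * Nat.card (Subgroup.zpowers v) := by
    rw [card_S H S, Nat.card_zpowers, hvord, pow_succ, mul_comm]
  have hvle : Subgroup.zpowers v ≤ (S : Subgroup G) := by
    rw [Subgroup.zpowers_le]; exact hvS
  have hy : c ^ m * c ^ m ∈ Subgroup.zpowers v :=
    sq_mem_of_card _ _ hvle hcard _ (hS (Subgroup.mem_zpowers _))
  have hyT : c ^ m * c ^ m ∈ Subgroup.zpowers c := Subgroup.mul_mem _ (u_mem H) (u_mem H)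
  have hyy : c ^ m * c ^ m * (c ^ m * c ^ m) ≠ 1 := by
    intro h
    have h1 : orderOf (c ^ m) ∣ 4 := orderOf_dvd_of_pow_eq_one (by
      rw [show (4 : ℕ) = 2 + 2 by norm_num, pow_add, pow_two]; exact h)
    rw [orderOf_u H] at h1
    have h2 : 2 ^ a ≤ 4 := Nat.le_of_dvd (by norm_num) h1
    have h3 : 2 ^ 3 ≤ 2 ^ a := Nat.pow_le_pow_right (by norm_num) ha3
    omega
  have hvT : v ∈ Subgroup.zpowers c := by
    rw [← H.cent _ hyT hyy, Subgroup.mem_centralizer_singleton_iff]
    obtain ⟨j, hj⟩ := Subgroup.mem_zpowers_iff.1 hy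
    rw [← hj]
    exact ((Commute.refl v).zpow_right j).eq
  have hvv : v * v ≠ 1 := by
    intro h
    have h1 : orderOf v ∣ 2 := orderOf_dvd_of_pow_eq_one (by rw [pow_two]; exact h)
    rw [hvord] at h1
    have h2 : 2 ^ a ≤ 2 := Nat.le_of_dvd (by norm_num) h1
    have h3 : 2 ^ 3 ≤ 2 ^ a := Nat.pow_le_pow_right (by norm_num) ha3
    omega
  have hcv := H.cent v hvT hvv
  rw [Subgroup.mem_normalizer_iff]
  intro t
  constructor
  · intro ht
    rw [← cent_u H] at ht
    have := conj_mem_centralizer_singleton (c ^ m) t x ht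
    rw [← hv, hcv] at this
    exact this
  · intro ht
    rw [← hcv] at ht
    have := conj_mem_centralizer_singleton v _ x⁻¹ ht
    have e1 : x⁻¹ * v * x⁻¹⁻¹ = c ^ m := by rw [hv]; group
    have e2 : x⁻¹ * (x * t * x⁻¹) * x⁻¹⁻¹ = t := by group
    rw [e1, e2, cent_u H] at this
    exact this

end main

end Cfsg.Agent.Lib.Helper4.QuatSyl
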