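import Cfsg.Agent.Lib.Helper4.QuatSyl1

/-!
# Sylow 2-subgroups of quaternion type: the case `Q₈` and the general statement
-/

namespace Cfsg.Agent.Lib.Helper4.QuatSyl

open Pointwise Cfsg.Agent.Lib.Helper4.SylowTorus

variable {G : Type*} [Group G]

lemma smul_set_eq_of_mem_normalizer (K : Subgroup G) (s : G)
    (hs : s ∈ Subgroup.normalizer (K : Set G)) : MulAut.conj s • (K : Set G) = K := by
  ext y
  rw [Set.mem_smul_set]
  constructor
  · rintro ⟨t, ht, rfl⟩
    rw [MulAut.smul_def, MulAut.conj_apply]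
    exact (Subgroup.mem_normalizer_iff.1 hs t).1 ht
  · intro hy
    refine ⟨s⁻¹ * y * s, ?_, ?_⟩
    · have := (Subgroup.mem_normalizer_iff.1 (Subgroup.inv_mem _ hs) y).1 hy
      rwa [inv_inv] at this
    · rw [MulAut.smul_def, MulAut.conj_apply]; group

lemma conj_smul_zpowers (g u : G) :
    MulAut.conj g • ((Subgroup.zpowers u : Subgroup G) : Set G) =
      ((Subgroup.zpowers (g * u * g⁻¹) : Subgroup G) : Set G) := by
  ext y
  rw [Set.mem_smul_set]
  constructor
  · rintro ⟨t, ht, rfl⟩
    obtain ⟨j, rfl⟩ := Subgroup.mem_zpowers_iff.1 ht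
    rw [MulAut.smul_def, MulAut.conj_apply, SetLike.mem_coe, Subgroup.mem_zpowers_iff]
    exact ⟨j, conj_zpow⟩
  · intro hy
    obtain ⟨j, rfl⟩ := Subgroup.mem_zpowers_iff.1 hy
    refine ⟨u ^ j, Subgroup.zpow_mem _ (Subgroup.mem_zpowers u) j, ?_⟩
    rw [MulAut.smul_def, MulAut.conj_apply, conj_zpow]

section main

variable {c z : G} {a m : ℕ} (H : TorusHyp c z a m) [Finite G] (S : Sylow 2 G)
  (hS : Subgroup.zpowers (c ^ m) ≤ (S : Subgroup G))

include H hS

/-- `N(S) ≠ S` in the `Q₈` case -/
theorem normalizer_ne (ha : a = 2) :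
    Subgroup.normalizer ((S : Subgroup G) : Set G) ≠ (S : Subgroup G) := by
  intro hN
  obtain ⟨w, hw, hwT⟩ := exists_w H S hS
  have hwN := S_le_NT H S hS hw
  have hww : w * w = z := H.sq w hwN hwT
  have hu4 : orderOf (c ^ m) = 4 := by rw [orderOf_u H, ha]; norm_num
  have huu1 : c ^ m * c ^ m * (c ^ m * c ^ m) = 1 := by
    have := pow_orderOf_eq_one (c ^ m)
    rw [hu4] at this
    rw [← this, show (4 : ℕ) = 2 + 2 by norm_num, pow_add, pow_two]
  have huz : c ^ m * c ^ m = z := by
    rcases H.invol _ huu1 with h | h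
    · exact absurd h (uu_ne H)
    · exact h
  have hz1 : z ≠ 1 := by rw [← huz]; exact uu_ne H
  have hzz : z * z = 1 := by rw [← huz]; exact huu1
  obtain ⟨g, hg⟩ := isConj_iff.1 (H.fus ha (c ^ m) w huz hww)
  have hw4 : orderOf w = 4 := by
    have := orderOf_eq_prime_pow (x := w) (p := 2) (n := 1) (by
      rw [pow_one, pow_two, hww]; exact hz1) (by
      rw [show (2 : ℕ) ^ (1 + 1) = 2 + 2 by norm_num, pow_add, pow_two, hww, hzz])
    rw [this]
    norm_num
  have hcardS : Nat.card S = 2 * Nat.card (Subgroup.zpowers w) := by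
    rw [card_S H S, Nat.card_zpowers, hw4, ha]
    norm_num
  have hwle : Subgroup.zpowers w ≤ (S : Subgroup G) := by
    rw [Subgroup.zpowers_le]; exact hw
  have hSNw := le_normalizer_of_card _ _ hwle hcardS
  have hX : ∀ s ∈ S, MulAut.conj s • ((Subgroup.zpowers (c ^ m) : Subgroup G) : Set G) =
      ((Subgroup.zpowers (c ^ m) : Subgroup G) : Set G) :=
    fun s hs => smul_set_eq_of_mem_normalizer _ s (S_le_NT2 H S hS hs)
  have hY : ∀ s ∈ S, MulAut.conj s • ((Subgroup.zpowers w : Subgroup G) : Set G) =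
      ((Subgroup.zpowers w : Subgroup G) : Set G) :=
    fun s hs => smul_set_eq_of_mem_normalizer _ s (hSNw hs)
  have hgXY : MulAut.conj g • ((Subgroup.zpowers (c ^ m) : Subgroup G) : Set G) =
      ((Subgroup.zpowers w : Subgroup G) : Set G) := by
    rw [conj_smul_zpowers, hg]
  obtain ⟨n, hn, hnXY⟩ := Cfsg.Agent.Lib.Helper1.burnside_fusion_sets S _ _ hX hY g hgXY
  have hn' : n ∈ (S : Subgroup G) := by rw [← hN]; exact hn
  rw [hX n hn'] at hnXY
  apply hwT
  have : w ∈ ((Subgroup.zpowers w : Subgroup G) : Set G) := Subgroup.mem_zpowers w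
  rw [← hnXY] at this
  exact T2_le H this

/-- `|N(S)| ≤ 24` in the `Q₈` case -/
theorem card_normalizer_le (ha : a = 2) :
    Nat.card (Subgroup.normalizer ((S : Subgroup G) : Set G)) ≤ 24 := by
  classical
  haveI : Fintype G := Fintype.ofFinite G
  obtain ⟨u, hu⟩ : ∃ u, u = c ^ m := ⟨_, rfl⟩
  have huS : u ∈ (S : Subgroup G) := by rw [hu]; exact hS (Subgroup.mem_zpowers _)
  have huu : u * u ≠ 1 := by rw [hu]; exact uu_ne H
  have hcS : Nat.card S = 8 := by rw [card_S H S, ha]; norm_num
  have hcT : Nat.card (Subgroup.zpowers u) = 4 := by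
    rw [hu, Nat.card_zpowers, orderOf_u H, ha]; norm_num
  let NS : Finset G := Finset.univ.filter
    (fun x => x ∈ Subgroup.normalizer ((S : Subgroup G) : Set G))
  let SS : Finset G := Finset.univ.filter (fun x => x ∈ (S : Subgroup G))
  let TT : Finset G := Finset.univ.filter (fun x => x ∈ Subgroup.zpowers u)
  have hNS : Nat.card (Subgroup.normalizer ((S : Subgroup G) : Set G)) = NS.card := by
    rw [Nat.card_eq_fintype_card, Fintype.card_subtype]
  have hSS : SS.card = 8 := by
    rw [← hcS, Nat.card_eq_fintype_card, Fintype.card_subtype]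
  have hTT : TT.card = 4 := by
    rw [← hcT, Nat.card_eq_fintype_card, Fintype.card_subtype]
  let t : Finset G := (SS.erase 1).erase (u * u)
  have ht : t.card = 6 := by
    have h1 : (1 : G) ∈ SS := by simp [SS, Subgroup.one_mem]
    have h2 : u * u ∈ SS.erase 1 := by
      rw [Finset.mem_erase]
      exact ⟨huu, by simp [SS, Subgroup.mul_mem _ huS huS]⟩
    rw [Finset.card_erase_of_mem h2, Finset.card_erase_of_mem h1, hSS]
  have hmaps : ∀ x ∈ NS, x * u * x⁻¹ ∈ t := by
    intro x hx
    have hxN : x ∈ Subgroup.normalizer ((S : Subgroup G) : Set G) := (Finset.mem_filter.1 hx).2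
    have h1 : x * u * x⁻¹ ∈ (S : Subgroup G) := (Subgroup.mem_normalizer_iff.1 hxN u).1 huS
    simp only [t, Finset.mem_erase, SS, Finset.mem_filter, Finset.mem_univ, true_and]
    refine ⟨?_, ?_, h1⟩
    · intro h
      apply huu
      have h2 : (x * u * x⁻¹) * (x * u * x⁻¹) = x * (u * u) * x⁻¹ := by group
      have h3 : x * (u * u) * x⁻¹ = u * u * (u * u) := by rw [← h2, h]
      have hu4 : u * u * (u * u) = 1 := by
        have := pow_orderOf_eq_one u
        rw [hu, orderOf_u H, ha] at this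
        rw [hu, ← this, show (2 : ℕ) ^ 2 = 2 + 2 by norm_num, pow_add, pow_two]
      rw [hu4] at h3
      have : u * u = x⁻¹ * (x * (u * u) * x⁻¹) * x := by group
      rw [this, h3]; group
    · intro h
      apply huu
      have : u = x⁻¹ * (x * u * x⁻¹) * x := by group
      rw [this, h]; group
  have hfib : ∀ b ∈ t, (NS.filter (fun x => x * u * x⁻¹ = b)).card ≤ 4 := by
    intro b _
    rcases (NS.filter (fun x => x * u * x⁻¹ = b)).eq_empty_or_nonempty with he | ⟨x₀, hx₀⟩
    · rw [he]; simp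
    · rw [← hTT]
      have hx₀N : x₀ ∈ Subgroup.normalizer ((S : Subgroup G) : Set G) :=
        (Finset.mem_filter.1 (Finset.mem_filter.1 hx₀).1).2
      have hx₀b : x₀ * u * x₀⁻¹ = b := (Finset.mem_filter.1 hx₀).2
      refine le_trans (Finset.card_le_card ?_) (Finset.card_image_le (f := fun y => x₀ * y))
      intro x hx
      have hxN : x ∈ Subgroup.normalizer ((S : Subgroup G) : Set G) :=
        (Finset.mem_filter.1 (Finset.mem_filter.1 hx).1).2
      have hxb : x * u * x⁻¹ = b := (Finset.mem_filter.1 hx).2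
      rw [Finset.mem_image]
      refine ⟨x₀⁻¹ * x, ?_, by group⟩
      simp only [TT, Finset.mem_filter, Finset.mem_univ, true_and]
      have h1 : x₀⁻¹ * x ∈ Subgroup.zpowers c := by
        rw [← cent_u H, ← hu, Subgroup.mem_centralizer_singleton_iff]
        have : x * u * x⁻¹ = x₀ * u * x₀⁻¹ := by rw [hxb, hx₀b]
        calc x₀⁻¹ * x * u = x₀⁻¹ * (x * u * x⁻¹) * x := by group
          _ = u * (x₀⁻¹ * x) := by rw [this]; group
      have h2 : x₀⁻¹ * x ∈ Subgroup.normalizer ((S : Subgroup G) : Set G) :=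
        Subgroup.mul_mem _ (Subgroup.inv_mem _ hx₀N) hxN
      have h3 := mem_S_of_mem_normalizers H S hS _ h2 (Subgroup.le_normalizer h1)
      rw [hu]
      exact S_inf_T H S hS _ h3 h1
  have := Finset.card_le_mul_card_image_of_maps_to hmaps 4 hfib
  rw [hNS]
  rw [ht] at this
  exact this

/-- **`|N(S)| = 3 |S|` in the `Q₈` case** -/
theorem card_normalizer_eq (ha : a = 2) :
    Nat.card (Subgroup.normalizer ((S : Subgroup G) : Set G)) = 3 * Nat.card S := by
  have hcS : Nat.card (S : Subgroup G) = 8 := by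
    have := card_S H S
    rw [ha] at this
    rw [this]
    norm_num
  have h1 : Nat.card (S : Subgroup G) ∣ Nat.card (Subgroup.normalizer ((S : Subgroup G) : Set G)) :=
    Subgroup.card_dvd_of_le Subgroup.le_normalizer
  have h2 := card_normalizer_le H S hS ha
  have h3 := normalizer_ne H S hS ha
  have h4 : Nat.card (Subgroup.normalizer ((S : Subgroup G) : Set G)) ∣ Nat.card G :=
    Subgroup.card_subgroup_dvd_card _
  have hpos : 0 < Nat.card (Subgroup.normalizer ((S : Subgroup G) : Set G)) := Nat.card_pos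
  rw [hcS] at h1
  obtain ⟨k, hk⟩ := h1
  have hk8 : Nat.card (Subgroup.normalizer ((S : Subgroup G) : Set G)) ≠ 8 := by
    intro h8
    apply h3
    symm
    apply Subgroup.eq_of_le_of_card_ge Subgroup.le_normalizer
    rw [h8, hcS]
  have hk16 : Nat.card (Subgroup.normalizer ((S : Subgroup G) : Set G)) ≠ 16 := by
    intro h16
    rw [h16] at h4
    have h5 : 4 ≤ (Nat.card G).factorization 2 :=
      (Nat.Prime.pow_dvd_iff_le_factorization Nat.prime_two Nat.card_pos.ne').1 (by
        norm_num; exact h4)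
    rw [H.val, ha] at h5
    omega
  show Nat.card (Subgroup.normalizer ((S : Subgroup G) : Set G)) = 3 * Nat.card (S : Subgroup G)
  rw [hcS]
  omega

end main

/-- **The general statement for every Sylow 2-subgroup.** -/
theorem main_all {c z : G} {a m : ℕ} (H : TorusHyp c z a m) [Finite G] (S : Sylow 2 G) :
    Subgroup.centralizer ((S : Subgroup G) : Set G) = Subgroup.center G ∧
    (3 ≤ a → Subgroup.normalizer ((S : Subgroup G) : Set G) = (S : Subgroup G)) ∧
    (a = 2 → Nat.card (Subgroup.normalizer ((S : Subgroup G) : Set G)) = 3 * Nat.card S) := by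
  have hp : IsPGroup 2 (Subgroup.zpowers (c ^ m)) :=
    IsPGroup.of_card (n := a) (by rw [Nat.card_zpowers, orderOf_u H])
  obtain ⟨Q, hQ⟩ := hp.exists_le_sylow
  obtain ⟨g, hg⟩ := MulAction.exists_smul_eq G Q S
  have hSQ : (S : Subgroup G) = (Q : Subgroup G).map (MulAut.conj g).toMonoidHom := by
    rw [← hg, Sylow.coe_subgroup_smul]
    rfl
  have hcard : Nat.card (S : Subgroup G) = Nat.card (Q : Subgroup G) := by
    rw [hSQ]
    exact Subgroup.card_map_of_injective (MulAut.conj g).injective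
  have hNS : Subgroup.normalizer ((S : Subgroup G) : Set G) =
      (Subgroup.normalizer ((Q : Subgroup G) : Set G)).map (MulAut.conj g).toMonoidHom := by
    rw [hSQ, Subgroup.map_equiv_normalizer_eq]
  refine ⟨?_, ?_, ?_⟩
  · have h1 := centralizer_S H Q hQ
    have h2 := map_centralizer (MulAut.conj g) ((Q : Subgroup G) : Set G)
    rw [h1, (Subgroup.characteristic_iff_map_eq.1 (inferInstance : (Subgroup.center G).Characteristic))
      (MulAut.conj g)] at h2
    rw [h2, hSQ]
    rfl
  · intro ha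
    rw [hNS, normalizer_S_eq H Q hQ ha, hSQ]
  · intro ha
    rw [hNS, Subgroup.card_map_of_injective (MulAut.conj g).injective,
      card_normalizer_eq H Q hQ ha]
    show 3 * Nat.card (Q : Subgroup G) = 3 * Nat.card (S : Subgroup G)
    rw [hcard]

end Cfsg.Agent.Lib.Helper4.QuatSyl
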