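import Mathlib
import Cfsg.Agent.Lib.Helper4.SL2ABA2
import Cfsg.Agent.Lib.Helper4.DicCount2

set_option autoImplicit false

namespace Cfsg.Agent.Lib.Helper4.SL2NS

open Matrix Cfsg.Agent.Lib.Helper4 Cfsg.Agent.Lib.Helper4.SL2Tr Cfsg.Agent.Lib.Helper4.SL2Ord
  Cfsg.Agent.Lib.Helper4.SL2Cov Cfsg.Agent.Lib.Helper4.SL2AH Cfsg.Agent.Lib.Helper4.SL2ABA

section General

variable {F : Type*} [Field F]

local notation "SL2" => Matrix.SpecialLinearGroup (Fin 2) F

theorem mk2_inj {a b c d a' b' c' d' : F} {h h'} :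
    (mk2 a b c d h : SL2) = mk2 a' b' c' d' h' ↔ a = a' ∧ b = b' ∧ c = c' ∧ d = d' := by
  constructor
  · intro he
    have h1 := congrArg (fun x : SL2 => (x : Matrix (Fin 2) (Fin 2) F)) he
    simp only [mk2_coe] at h1
    refine ⟨?_, ?_, ?_, ?_⟩
    · simpa using congrFun (congrFun h1 0) 0
    · simpa using congrFun (congrFun h1 0) 1
    · simpa using congrFun (congrFun h1 1) 0
    · simpa using congrFun (congrFun h1 1) 1
  · rintro ⟨h1, h2, h3, h4⟩
    exact mk2_ext h1 h2 h3 h4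

theorem mem_centralizer_compSL_iff (t : F) (g : SL2) :
    g ∈ Subgroup.centralizer ({compSL t} : Set SL2) ↔
      g 0 1 = -(g 1 0) ∧ g 1 1 = g 0 0 + g 1 0 * t := by
  rw [Subgroup.mem_centralizer_singleton_iff]
  obtain ⟨a, b, c, d, hdet, rfl⟩ : ∃ (a b c d : F)
      (hdet : a * d - b * c = 1), g = mk2 a b c d hdet :=
    ⟨_, _, _, _, sl2_det g, eq_mk2 g⟩
  rw [compSL_eq_mk2, mk2_mul, mk2_mul, mk2_inj]
  change _ ↔ ((mk2 a b c d hdet : SL2) : Matrix (Fin 2) (Fin 2) F) 0 1
      = -((mk2 a b c d hdet : SL2) : Matrix (Fin 2) (Fin 2) F) 1 0 ∧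
    ((mk2 a b c d hdet : SL2) : Matrix (Fin 2) (Fin 2) F) 1 1
      = ((mk2 a b c d hdet : SL2) : Matrix (Fin 2) (Fin 2) F) 0 0
        + ((mk2 a b c d hdet : SL2) : Matrix (Fin 2) (Fin 2) F) 1 0 * t
  rw [mk2_coe]
  simp only [Matrix.of_apply, Matrix.cons_val', Matrix.cons_val_zero, Matrix.cons_val_one,
    Matrix.cons_val_fin_one]
  constructor
  · rintro ⟨h1, h2, h3, h4⟩
    refine ⟨by linear_combination h1, by linear_combination h3⟩
  · rintro ⟨h1, h2⟩
    refine ⟨by linear_combination h1, by linear_combination h2 + t * h1, by linear_combination h2,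
      by linear_combination -h1⟩

theorem compSL_inv (t : F) : (compSL t)⁻¹ = mk2 t 1 (-1) 0 (by ring) := by
  rw [compSL_eq_mk2, mk2_inv_coe]
  apply mk2_ext <;> simp

theorem inverts_iff (t : F) (g : SL2) :
    g * compSL t = (compSL t)⁻¹ * g ↔ g 1 1 = -(g 0 0) ∧ g 0 1 = t * g 0 0 + g 1 0 := by
  obtain ⟨a, b, c, d, hdet, rfl⟩ : ∃ (a b c d : F)
      (hdet : a * d - b * c = 1), g = mk2 a b c d hdet :=
    ⟨_, _, _, _, sl2_det g, eq_mk2 g⟩
  rw [compSL_inv, compSL_eq_mk2, mk2_mul, mk2_mul, mk2_inj]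
  change _ ↔ ((mk2 a b c d hdet : SL2) : Matrix (Fin 2) (Fin 2) F) 1 1
      = -((mk2 a b c d hdet : SL2) : Matrix (Fin 2) (Fin 2) F) 0 0 ∧
    ((mk2 a b c d hdet : SL2) : Matrix (Fin 2) (Fin 2) F) 0 1
      = t * ((mk2 a b c d hdet : SL2) : Matrix (Fin 2) (Fin 2) F) 0 0
        + ((mk2 a b c d hdet : SL2) : Matrix (Fin 2) (Fin 2) F) 1 0
  rw [mk2_coe]
  simp only [Matrix.of_apply, Matrix.cons_val', Matrix.cons_val_zero, Matrix.cons_val_one,
    Matrix.cons_val_fin_one]
  constructor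
  · rintro ⟨h1, h2, h3, h4⟩
    refine ⟨by linear_combination h3, by linear_combination h1⟩
  · rintro ⟨h1, h2⟩
    refine ⟨by linear_combination h2, by linear_combination -h1, by linear_combination h1,
      by linear_combination h2 + t * h1⟩

theorem sq_of_inverts (t : F) (g : SL2) (h : g * compSL t = (compSL t)⁻¹ * g) :
    ((g : Matrix (Fin 2) (Fin 2) F) * (g : Matrix (Fin 2) (Fin 2) F)) = -1 := by
  obtain ⟨h1, h2⟩ := (inverts_iff t g).1 h
  have hdet := sl2_det g
  ext i j
  fin_cases i <;> fin_cases j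
  · simp only [Matrix.mul_apply, Fin.sum_univ_two, Fin.zero_eta, Fin.isValue, Matrix.neg_apply,
      Matrix.one_apply_eq]
    rw [h1] at hdet
    linear_combination -hdet
  · simp only [Matrix.mul_apply, Fin.sum_univ_two, Fin.zero_eta, Fin.mk_one, Fin.isValue,
      Matrix.neg_apply, ne_eq, zero_ne_one, not_false_eq_true, Matrix.one_apply_ne, neg_zero]
    rw [h1]; ring
  · simp only [Matrix.mul_apply, Fin.sum_univ_two, Fin.zero_eta, Fin.mk_one, Fin.isValue,
      Matrix.neg_apply, ne_eq, one_ne_zero, not_false_eq_true, Matrix.one_apply_ne, neg_zero]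
    rw [h1]; ring
  · simp only [Matrix.mul_apply, Fin.sum_univ_two, Fin.mk_one, Fin.isValue, Matrix.neg_apply,
      Matrix.one_apply_eq]
    rw [h1] at hdet ⊢
    linear_combination -hdet

theorem conj_cases (t : F) (ht : t ^ 2 ≠ 4) (h2 : (2 : F) ≠ 0) (Y : SL2)
    (hY : Y ∈ Subgroup.centralizer ({compSL t} : Set SL2))
    (htr : (Y : Matrix (Fin 2) (Fin 2) F).trace = t) : Y = compSL t ∨ Y = (compSL t)⁻¹ := by
  obtain ⟨h1, h3⟩ := (mem_centralizer_compSL_iff t Y).1 hY
  have hdet := sl2_det Y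
  rw [Matrix.trace_fin_two] at htr
  have htr' : Y 0 0 + Y 1 1 = t := htr
  rw [h3] at htr'
  rw [h1, h3] at hdet
  have key : (Y 1 0 ^ 2 - 1) * (4 - t ^ 2) = 0 := by
    linear_combination 4 * hdet - (2 * Y 0 0 + Y 1 0 * t + t) * htr'
  have hc : Y 1 0 ^ 2 = 1 := by
    rcases mul_eq_zero.1 key with h | h
    · linear_combination h
    · exfalso; apply ht; linear_combination -h
  have hc' : (Y 1 0 - 1) * (Y 1 0 + 1) = 0 := by linear_combination hc
  rcases mul_eq_zero.1 hc' with h | h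
  · left
    have e : Y 1 0 = 1 := sub_eq_zero.1 h
    rw [e] at htr' h1 h3
    have ha : Y 0 0 = 0 := by
      have : 2 * Y 0 0 = 0 := by linear_combination htr'
      rcases mul_eq_zero.1 this with h' | h'
      · exact absurd h' h2
      · exact h'
    rw [eq_mk2 Y, compSL_eq_mk2]
    apply mk2_ext
    · exact ha
    · exact h1
    · exact e
    · rw [h3, ha]; ring
  · right
    have e : Y 1 0 = -1 := eq_neg_of_add_eq_zero_left h
    rw [e] at htr' h1 h3
    have ha : Y 0 0 = t := by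
      have : 2 * (Y 0 0 - t) = 0 := by linear_combination htr'
      rcases mul_eq_zero.1 this with h' | h'
      · exact absurd h' h2
      · exact sub_eq_zero.1 h'
    rw [eq_mk2 Y, compSL_inv]
    apply mk2_ext
    · exact ha
    · rw [h1]; ring
    · exact e
    · rw [h3, ha]; ring

theorem mem_normalizer_iff (t : F) (ht : t ^ 2 ≠ 4) (h2 : (2 : F) ≠ 0) (g : SL2) :
    g ∈ Subgroup.normalizer ((Subgroup.centralizer ({compSL t} : Set SL2) : Subgroup SL2) : Set SL2) ↔
      g ∈ Subgroup.centralizer ({compSL t} : Set SL2) ∨ g * compSL t = (compSL t)⁻¹ * g := by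
  constructor
  · intro hg
    rw [Subgroup.mem_normalizer_iff] at hg
    have hC : compSL t ∈ Subgroup.centralizer ({compSL t} : Set SL2) := by
      rw [Subgroup.mem_centralizer_singleton_iff]
    have h1 := (hg (compSL t)).1 hC
    have h3 : ((g * compSL t * g⁻¹ : SL2) : Matrix (Fin 2) (Fin 2) F).trace = t := by
      rw [sl2_trace_conj, compSL_trace]
    rcases conj_cases t ht h2 _ h1 h3 with h | h
    · left
      rw [Subgroup.mem_centralizer_singleton_iff]
      exact mul_inv_eq_iff_eq_mul.1 h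
    · right
      exact mul_inv_eq_iff_eq_mul.1 h
  · rintro (hg | hg)
    · exact Subgroup.le_normalizer hg
    · rw [Subgroup.mem_normalizer_iff]
      intro h
      have hconj : g * compSL t * g⁻¹ = (compSL t)⁻¹ := mul_inv_eq_iff_eq_mul.2 hg
      rw [Subgroup.mem_centralizer_singleton_iff, Subgroup.mem_centralizer_singleton_iff]
      change Commute h (compSL t) ↔ Commute (g * h * g⁻¹) (compSL t)
      rw [← Commute.inv_right_iff (b := compSL t) (a := g * h * g⁻¹), ← hconj, Commute.conj_iff]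

end General

end Cfsg.Agent.Lib.Helper4.SL2NS
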