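import Mathlib
import Cfsg.Agent.Lib.Helper4.SL2NS1

set_option autoImplicit false

namespace Cfsg.Agent.Lib.Helper4.SL2NS

open Matrix Cfsg.Agent.Lib.Helper4 Cfsg.Agent.Lib.Helper4.SL2Tr Cfsg.Agent.Lib.Helper4.SL2Ord
  Cfsg.Agent.Lib.Helper4.SL2Cov Cfsg.Agent.Lib.Helper4.SL2AH Cfsg.Agent.Lib.Helper4.SL2ABA

section General

variable {F : Type*} [Field F]

local notation "SL2" => Matrix.SpecialLinearGroup (Fin 2) F

/-- elements of the centraliser of the companion matrix, in normal form -/
theorem eq_mk2_of_mem (t : F) (g : SL2) (hg : g ∈ Subgroup.centralizer ({compSL t} : Set SL2)) :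
    ∃ (a c : F) (h : a * (a + c * t) - (-c) * c = 1), g = mk2 a (-c) c (a + c * t) h := by
  obtain ⟨h1, h2⟩ := (mem_centralizer_compSL_iff t g).1 hg
  have hdet := sl2_det g
  refine ⟨g 0 0, g 1 0, by rw [← h1, ← h2]; exact hdet, ?_⟩
  conv_lhs => rw [eq_mk2 g]
  exact mk2_ext rfl h1 rfl h2

theorem mk2_mem (t a c : F) (h : a * (a + c * t) - (-c) * c = 1) :
    mk2 a (-c) c (a + c * t) h ∈ Subgroup.centralizer ({compSL t} : Set SL2) := by
  rw [mem_centralizer_compSL_iff]
  change ((mk2 a (-c) c (a + c * t) h : SL2) : Matrix (Fin 2) (Fin 2) F) 0 1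
      = -((mk2 a (-c) c (a + c * t) h : SL2) : Matrix (Fin 2) (Fin 2) F) 1 0 ∧
    ((mk2 a (-c) c (a + c * t) h : SL2) : Matrix (Fin 2) (Fin 2) F) 1 1
      = ((mk2 a (-c) c (a + c * t) h : SL2) : Matrix (Fin 2) (Fin 2) F) 0 0
        + ((mk2 a (-c) c (a + c * t) h : SL2) : Matrix (Fin 2) (Fin 2) F) 1 0 * t
  rw [mk2_coe]
  simp

/-- the torus is abelian -/
theorem torus_comm (t : F) (y y' : SL2) (hy : y ∈ Subgroup.centralizer ({compSL t} : Set SL2))
    (hy' : y' ∈ Subgroup.centralizer ({compSL t} : Set SL2)) : y * y' = y' * y := by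
  obtain ⟨a, c, h, rfl⟩ := eq_mk2_of_mem t y hy
  obtain ⟨a', c', h', rfl⟩ := eq_mk2_of_mem t y' hy'
  rw [mk2_mul, mk2_mul]
  apply mk2_ext <;> ring

theorem centralizer_torus (t : F) :
    Subgroup.centralizer ((Subgroup.centralizer ({compSL t} : Set SL2) : Subgroup SL2) : Set SL2)
      = Subgroup.centralizer ({compSL t} : Set SL2) := by
  ext x
  constructor
  · intro hx
    rw [Subgroup.mem_centralizer_iff] at hx
    rw [Subgroup.mem_centralizer_singleton_iff]
    have hC : compSL t ∈ Subgroup.centralizer ({compSL t} : Set SL2) := by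
      rw [Subgroup.mem_centralizer_singleton_iff]
    exact (hx _ hC).symm
  · intro hx
    rw [Subgroup.mem_centralizer_iff]
    intro h hh
    exact torus_comm t h x hh hx

/-- non-central elements of the torus have the torus as centraliser -/
theorem centralizer_of_mem (t : F) (g : SL2) (hg : g ∈ Subgroup.centralizer ({compSL t} : Set SL2))
    (hc : g 1 0 ≠ 0) :
    Subgroup.centralizer ({g} : Set SL2) = Subgroup.centralizer ({compSL t} : Set SL2) := by
  obtain ⟨h1, h2⟩ := (mem_centralizer_compSL_iff t g).1 hg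
  have hmat : (g : Matrix (Fin 2) (Fin 2) F) = (g 0 0) • (1 : Matrix (Fin 2) (Fin 2) F)
      + (g 1 0) • (compSL t : Matrix (Fin 2) (Fin 2) F) := by
    rw [compSL_coe]
    ext i j
    fin_cases i <;> fin_cases j
    · simp
    · simp only [Fin.zero_eta, Fin.mk_one, Fin.isValue, Matrix.add_apply, Matrix.smul_apply,
        ne_eq, zero_ne_one, not_false_eq_true, Matrix.one_apply_ne, smul_eq_mul, mul_zero,
        Matrix.of_apply, Matrix.cons_val', Matrix.cons_val_one, Matrix.cons_val_fin_one,
        Matrix.cons_val_zero, zero_add]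
      rw [h1]; ring
    · simp
    · simp only [Fin.mk_one, Fin.isValue, Matrix.add_apply, Matrix.smul_apply,
        Matrix.one_apply_eq, smul_eq_mul, mul_one, Matrix.of_apply, Matrix.cons_val',
        Matrix.cons_val_one, Matrix.cons_val_fin_one]
      rw [h2]
  ext x
  rw [Subgroup.mem_centralizer_singleton_iff, Subgroup.mem_centralizer_singleton_iff]
  constructor
  · intro hx
    have h3 := congrArg (fun z : SL2 => (z : Matrix (Fin 2) (Fin 2) F)) hx
    simp only [Matrix.SpecialLinearGroup.coe_mul] at h3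
    rw [hmat, Matrix.mul_add, Matrix.add_mul, Matrix.mul_smul, Matrix.smul_mul, Matrix.mul_one,
      Matrix.one_mul, Matrix.mul_smul, Matrix.smul_mul, add_right_inj] at h3
    apply Subtype.ext
    rw [Matrix.SpecialLinearGroup.coe_mul, Matrix.SpecialLinearGroup.coe_mul]
    have h4 := congrArg (fun M : Matrix (Fin 2) (Fin 2) F => (g 1 0)⁻¹ • M) h3
    simp only [smul_smul, inv_mul_cancel₀ hc, one_smul] at h4
    exact h4
  · intro hx
    have h3 := congrArg (fun z : SL2 => (z : Matrix (Fin 2) (Fin 2) F)) hx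
    simp only [Matrix.SpecialLinearGroup.coe_mul] at h3
    apply Subtype.ext
    rw [Matrix.SpecialLinearGroup.coe_mul, Matrix.SpecialLinearGroup.coe_mul, hmat,
      Matrix.mul_add, Matrix.add_mul, Matrix.mul_smul, Matrix.smul_mul, Matrix.mul_one,
      Matrix.one_mul, Matrix.mul_smul, Matrix.smul_mul, h3]

end General

section Odd

variable {F : Type*} [Field F] [Fintype F] [DecidableEq F]

local notation "SL2" => Matrix.SpecialLinearGroup (Fin 2) F

theorem exists_nonsplit_order_odd (hodd : Odd (Fintype.card F)) (p : ℕ) [Fact p.Prime] [CharP F p] :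
    ∃ t : F, (∀ a : F, a * (t - a) ≠ 1) ∧ t ^ 2 ≠ 4 ∧
      orderOf (compSL t) = Fintype.card F + 1 := by
  obtain ⟨g₁, hg₁⟩ := exists_orderOf_card_add_one (F := F) p
  have hq3 : 3 ≤ Fintype.card F := by
    have := Fintype.one_lt_card (α := F)
    obtain ⟨k, hk⟩ := hodd
    omega
  have h2 := two_ne_zero_of_odd hodd
  have hsq : g₁ ^ 2 ≠ 1 := by
    intro h
    have := Nat.le_of_dvd (by norm_num) (orderOf_dvd_of_pow_eq_one h)
    omega
  have hg : ¬ IsScalar2 (g₁ : Matrix (Fin 2) (Fin 2) F) := by
    intro h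
    apply hsq
    rw [← mem_center_iff_sq hodd]
    exact mem_center_of_isScalar2 g₁ h
  set t := (g₁ : Matrix (Fin 2) (Fin 2) F).trace with ht
  have ht4 : t ^ 2 ≠ 4 := by
    intro h4
    have h1 : (g₁ ^ p) ^ 2 = 1 := by
      rw [← mem_center_iff_sq hodd]
      apply mem_center_of_isScalar2
      apply pow_char_isScalar2 p g₁ (t / 2)
      · field_simp
        linear_combination h4
      · rw [← ht]; field_simp
    rw [← pow_mul] at h1
    have h3 := orderOf_dvd_of_pow_eq_one h1
    rw [hg₁] at h3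
    obtain ⟨n, hpn, hcard⟩ := FiniteField.card F p
    have hpq : p ∣ Fintype.card F := by
      rw [hcard]
      exact dvd_pow_self p n.ne_zero
    have hcop : Nat.Coprime (Fintype.card F + 1) p := by
      rw [Nat.coprime_comm, Nat.Prime.coprime_iff_not_dvd hpn]
      intro h5
      have := (Nat.dvd_add_right hpq).1 h5
      exact hpn.one_lt.ne' (Nat.dvd_one.1 this)
    have h6 := hcop.dvd_of_dvd_mul_left h3
    have := Nat.le_of_dvd (by norm_num) h6
    omega
  have hidx := index_of_trace_sq_ne_four hodd g₁ hg ht4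
  have hR : R t = 0 := by
    rcases R_cases_odd hodd t ht4 with hR | hR
    · exact hR
    · exfalso
      rw [← ht, hR] at hidx
      have h3 := pow_card_centralizer g₁
      rw [card_centralizer_of_R_two g₁ hidx] at h3
      have h5 := orderOf_dvd_of_pow_eq_one h3
      rw [hg₁] at h5
      have := Nat.le_of_dvd (by omega) h5
      omega
  have hno : ∀ a : F, a * (t - a) ≠ 1 := by
    intro a ha
    have : 0 < R t := by
      unfold R
      haveI : Nonempty {a : F // a * (t - a) = 1} := ⟨⟨a, ha⟩⟩
      exact Nat.card_pos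
    omega
  refine ⟨t, hno, ht4, ?_⟩
  have hconj : IsConj g₁ (compSL t) := by
    rw [isConj_iff_trace_odd hodd g₁ _ hg ht4]
    exact compSL_trace t
  obtain ⟨k, hk⟩ := isConj_iff.1 hconj
  rw [← hk, ← hg₁]
  exact orderOf_injective (MulAut.conj k).toMonoidHom (MulAut.conj k).injective g₁

theorem card_torus (hodd : Odd (Fintype.card F)) (t : F) (hno : ∀ a : F, a * (t - a) ≠ 1)
    (ht4 : t ^ 2 ≠ 4) :
    Nat.card (Subgroup.centralizer ({compSL t} : Set SL2)) = Fintype.card F + 1 := by
  have hidx := index_of_trace_sq_ne_four hodd (compSL t) (compSL_not_scalar t)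
    (by rw [compSL_trace]; exact ht4)
  rw [compSL_trace, R_eq_zero t hno] at hidx
  exact card_centralizer_of_R_zero _ hidx

theorem isCyclic_torus (hodd : Odd (Fintype.card F)) (t : F) (hno : ∀ a : F, a * (t - a) ≠ 1)
    (ht4 : t ^ 2 ≠ 4) (hord : orderOf (compSL t) = Fintype.card F + 1) :
    IsCyclic (Subgroup.centralizer ({compSL t} : Set SL2)) := by
  have hC : compSL t ∈ Subgroup.centralizer ({compSL t} : Set SL2) := by
    rw [Subgroup.mem_centralizer_singleton_iff]
  apply isCyclic_of_orderOf_eq_card (⟨compSL t, hC⟩ : Subgroup.centralizer ({compSL t} : Set SL2))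
  rw [card_torus hodd t hno ht4, ← hord]
  exact Subgroup.orderOf_mk _ _

omit [Fintype F] [DecidableEq F] in
theorem mulVec_two (M : Matrix (Fin 2) (Fin 2) F) (x y : F) :
    M.mulVec ![x, y] = ![M 0 0 * x + M 0 1 * y, M 1 0 * x + M 1 1 * y] := by
  ext i
  fin_cases i <;> simp [Matrix.mulVec, dotProduct, Fin.sum_univ_two]

/-- elements without eigenvectors are conjugate into the torus -/
theorem exists_conj_mem (hodd : Odd (Fintype.card F)) (t : F) (hno : ∀ a : F, a * (t - a) ≠ 1)
    (ht4 : t ^ 2 ≠ 4) (g : SL2)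
    (hg : ∀ (c : F) (v : Fin 2 → F), v ≠ 0 → (g : Matrix (Fin 2) (Fin 2) F).mulVec v ≠ c • v) :
    ∃ h : SL2, h * g * h⁻¹ ∈ Subgroup.centralizer ({compSL t} : Set SL2) := by
  have h2 := two_ne_zero_of_odd hodd
  have h4 := four_ne_zero_of_odd hodd
  set s := (g : Matrix (Fin 2) (Fin 2) F).trace with hs
  have hs' : g 0 0 + g 1 1 = s := by rw [hs, Matrix.trace_fin_two]
  have hdet := sl2_det g
  -- no root of the characteristic polynomial
  have hnos : ∀ r : F, r * (s - r) ≠ 1 := by
    intro r hr
    have key : ∀ x y : F, (x ≠ 0 ∨ y ≠ 0) → g 0 0 * x + g 0 1 * y = r * x →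
        g 1 0 * x + g 1 1 * y = r * y → False := by
      intro x y hxy e1 e2
      apply hg r ![x, y] (by
        intro h
        rcases hxy with h' | h'
        · exact h' (by simpa using congrFun h 0)
        · exact h' (by simpa using congrFun h 1))
      rw [mulVec_two, e1, e2]
      simp
    by_cases hv : g 0 1 = 0 ∧ r - g 0 0 = 0
    · by_cases hv' : r - g 1 1 = 0 ∧ g 1 0 = 0
      · apply key 1 0 (Or.inl one_ne_zero)
        · linear_combination -hv.2
        · linear_combination hv'.2
      · apply key (r - g 1 1) (g 1 0) (by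
          by_contra hcon
          push Not at hcon
          exact hv' hcon)
        · linear_combination -hdet + r * hs' + hr
        · ring
    · apply key (g 0 1) (r - g 0 0) (by
          by_contra hcon
          push Not at hcon
          exact hv hcon)
      · ring
      · linear_combination -hdet + r * hs' + hr
  have hnsq : ∀ u : F, (∀ r : F, r * (u - r) ≠ 1) → ¬ IsSquare (u ^ 2 - 4) := by
    intro u hu hsq
    obtain ⟨w, hw⟩ := hsq
    apply hu ((u + w) / 2)
    field_simp
    linear_combination hw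
  have hs4 : s ^ 2 - 4 ≠ 0 := by
    intro h
    apply hnsq s hnos
    rw [h]
    exact ⟨0, by ring⟩
  have ht4' : t ^ 2 - 4 ≠ 0 := fun h => ht4 (by linear_combination h)
  have hχ : quadraticChar F ((s ^ 2 - 4) * (t ^ 2 - 4)) = 1 := by
    rw [map_mul, quadraticChar_neg_one_iff_not_isSquare.2 (hnsq s hnos),
      quadraticChar_neg_one_iff_not_isSquare.2 (hnsq t hno)]
    norm_num
  obtain ⟨w, hw⟩ := (quadraticChar_one_iff_isSquare (mul_ne_zero hs4 ht4')).1 hχ
  set c := w / (t ^ 2 - 4) with hc
  have hc2 : c ^ 2 * (t ^ 2 - 4) = s ^ 2 - 4 := by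
    rw [hc]
    field_simp
    linear_combination -hw
  set a := (s - c * t) / 2 with ha
  have ha2 : 2 * a = s - c * t := by rw [ha]; field_simp
  have hnorm : a * (a + c * t) - (-c) * c = 1 := by
    have : 4 * (a * (a + c * t) - (-c) * c) = 4 := by
      linear_combination (2 * a + s + c * t) * ha2 - hc2
    exact mul_left_cancel₀ h4 (by rw [this, mul_one])
  set y : SL2 := mk2 a (-c) c (a + c * t) hnorm with hy
  have hytr : (y : Matrix (Fin 2) (Fin 2) F).trace = s := by
    rw [hy, mk2_trace]
    linear_combination ha2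
  have hgs : ¬ IsScalar2 (g : Matrix (Fin 2) (Fin 2) F) := by
    intro h
    apply hs4
    have := trace_sq_of_isScalar2 g h
    rw [← hs] at this
    linear_combination this
  have hconj : IsConj g y := by
    rw [isConj_iff_trace_odd hodd g y hgs (by rw [← hs]; intro h; apply hs4; linear_combination h)]
    exact hytr
  obtain ⟨k, hk⟩ := isConj_iff.1 hconj
  exact ⟨k, by rw [hk]; exact mk2_mem t a c hnorm⟩

end Odd

end Cfsg.Agent.Lib.Helper4.SL2NS
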