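import Mathlib
import Cfsg.Agent.Lib.Helper4.SL2NS2

set_option autoImplicit false

namespace Cfsg.Agent.Lib.Helper4.SL2NS

open Matrix Cfsg.Agent.Lib.Helper4 Cfsg.Agent.Lib.Helper4.SL2Tr Cfsg.Agent.Lib.Helper4.SL2Ord
  Cfsg.Agent.Lib.Helper4.SL2Cov Cfsg.Agent.Lib.Helper4.SL2AH Cfsg.Agent.Lib.Helper4.SL2ABA

theorem inverts_iff_aux {G : Type*} [Group G] (w C g : G) (hw : w * C = C⁻¹ * w) :
    g * C = C⁻¹ * g ↔ (w⁻¹ * g) * C = C * (w⁻¹ * g) := by
  have hw' : C * w⁻¹ = w⁻¹ * C⁻¹ := by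
    calc C * w⁻¹ = w⁻¹ * (w * C) * w⁻¹ := by group
      _ = w⁻¹ * (C⁻¹ * w) * w⁻¹ := by rw [hw]
      _ = w⁻¹ * C⁻¹ := by group
  constructor
  · intro hg
    calc w⁻¹ * g * C = w⁻¹ * (g * C) := mul_assoc _ _ _
      _ = w⁻¹ * (C⁻¹ * g) := by rw [hg]
      _ = (w⁻¹ * C⁻¹) * g := (mul_assoc _ _ _).symm
      _ = C * w⁻¹ * g := by rw [hw']
      _ = C * (w⁻¹ * g) := mul_assoc _ _ _
  · intro hg
    have : w⁻¹ * (g * C) = w⁻¹ * (C⁻¹ * g) := by
      calc w⁻¹ * (g * C) = w⁻¹ * g * C := (mul_assoc _ _ _).symm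
        _ = C * (w⁻¹ * g) := hg
        _ = (C * w⁻¹) * g := (mul_assoc _ _ _).symm
        _ = w⁻¹ * C⁻¹ * g := by rw [hw']
        _ = w⁻¹ * (C⁻¹ * g) := mul_assoc _ _ _
    exact mul_left_cancel this

section Odd

variable {F : Type*} [Field F] [Fintype F] [DecidableEq F]

local notation "SL2" => Matrix.SpecialLinearGroup (Fin 2) F

/-- an element inverting the companion matrix -/
def wElt (t α β : F) (h : α ^ 2 + α * β * t + β ^ 2 = -1) : SL2 :=
  mk2 β (α + β * t) α (-β) (by linear_combination -h)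

omit [Fintype F] [DecidableEq F] in
theorem wElt_inverts (t α β : F) (h : α ^ 2 + α * β * t + β ^ 2 = -1) :
    wElt t α β h * compSL t = (compSL t)⁻¹ * wElt t α β h := by
  rw [compSL_inv, compSL_eq_mk2, wElt, mk2_mul, mk2_mul]
  apply mk2_ext <;> ring

omit [Fintype F] [DecidableEq F] in
theorem wElt_not_mem (t α β : F) (h : α ^ 2 + α * β * t + β ^ 2 = -1) (h2 : (2 : F) ≠ 0) :
    wElt t α β h ∉ Subgroup.centralizer ({compSL t} : Set SL2) := by
  intro hmem
  rw [Subgroup.mem_centralizer_singleton_iff] at hmem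
  have h1 := wElt_inverts t α β h
  rw [hmem] at h1
  have h3 := mul_right_cancel h1
  rw [compSL_inv, compSL_eq_mk2, mk2_inj] at h3
  apply h2
  linear_combination -h3.2.1

omit [Fintype F] [DecidableEq F] in
theorem inverts_iff_mem (t α β : F) (h : α ^ 2 + α * β * t + β ^ 2 = -1) (g : SL2) :
    g * compSL t = (compSL t)⁻¹ * g ↔
      (wElt t α β h)⁻¹ * g ∈ Subgroup.centralizer ({compSL t} : Set SL2) := by
  rw [Subgroup.mem_centralizer_singleton_iff]
  exact inverts_iff_aux _ _ _ (wElt_inverts t α β h)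

omit [Fintype F] [DecidableEq F] in
theorem inv_of_mem (t α β : F) (h : α ^ 2 + α * β * t + β ^ 2 = -1) (y : SL2)
    (hy : y ∈ Subgroup.centralizer ({compSL t} : Set SL2)) :
    (wElt t α β h)⁻¹ * y * wElt t α β h = y⁻¹ := by
  obtain ⟨a, c, hac, rfl⟩ := eq_mk2_of_mem t y hy
  rw [mul_assoc, inv_mul_eq_iff_eq_mul, wElt, mk2_inv_coe, mk2_mul, mk2_mul]
  apply mk2_ext <;> ring

theorem card_sq_eq_one_torus (hodd : Odd (Fintype.card F)) (t : F) :
    Nat.card {y : Subgroup.centralizer ({compSL t} : Set SL2) // y ^ 2 = 1} = 2 := by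
  have hcen : ∀ z : SL2, z ∈ Subgroup.center SL2 →
      z ∈ Subgroup.centralizer ({compSL t} : Set SL2) := by
    intro z hz
    rw [Subgroup.mem_centralizer_singleton_iff]
    exact (Subgroup.mem_center_iff.1 hz (compSL t)).symm
  rw [Nat.card_eq_two_iff]
  refine ⟨⟨⟨1, Subgroup.one_mem _⟩, one_pow 2⟩,
    ⟨⟨negOneSL F, hcen _ negOneSL_mem_center⟩, ?_⟩, ?_, ?_⟩
  · apply Subtype.ext
    rw [Subgroup.coe_pow, Subgroup.coe_one, pow_two]
    exact negOneSL_mul_self
  · intro h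
    have := congrArg (fun z => (z.1.1 : SL2)) h
    exact negOneSL_ne_one hodd this.symm
  · ext ⟨⟨y, hy⟩, hy2⟩
    simp only [Set.mem_insert_iff, Set.mem_singleton_iff, Set.mem_univ, iff_true]
    have hy2' : y ^ 2 = 1 := by
      have := congrArg Subtype.val hy2
      rwa [Subgroup.coe_pow, Subgroup.coe_one] at this
    rcases eq_one_or_neg_of_sq hodd y hy2' with h | h
    · left
      apply Subtype.ext
      apply Subtype.ext
      exact h
    · right
      apply Subtype.ext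
      apply Subtype.ext
      exact h

theorem main (hodd : Odd (Fintype.card F)) :
    ∃ T' : Subgroup SL2, IsCyclic T' ∧ Nat.card T' = Fintype.card F + 1 ∧
      Subgroup.centralizer ((T' : Set SL2)) = T' ∧
      (∀ g : SL2, g ∈ T' → (g : Matrix (Fin 2) (Fin 2) F) ≠ 1 →
        (g : Matrix (Fin 2) (Fin 2) F) ≠ -1 → Subgroup.centralizer ({g} : Set SL2) = T') ∧
      (∀ g : SL2, (∀ (c : F) (v : Fin 2 → F), v ≠ 0 →
        (g : Matrix (Fin 2) (Fin 2) F).mulVec v ≠ c • v) → ∃ h : SL2, h * g * h⁻¹ ∈ T') ∧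
      Nat.card (Subgroup.normalizer (T' : Set SL2)) = 2 * (Fintype.card F + 1) ∧
      Nat.card (ConjClasses (Subgroup.normalizer (T' : Set SL2))) = (Fintype.card F + 7) / 2 ∧
      ∀ g : SL2, g ∈ Subgroup.normalizer (T' : Set SL2) → g ∉ T' →
        ((g : Matrix (Fin 2) (Fin 2) F) * (g : Matrix (Fin 2) (Fin 2) F)) = -1 := by
  obtain ⟨p, hp⟩ := CharP.exists F
  haveI := hp
  haveI : Fact p.Prime := ⟨CharP.char_is_prime F p⟩
  have h2 := two_ne_zero_of_odd hodd
  obtain ⟨t, hno, ht4, hord⟩ := exists_nonsplit_order_odd hodd p (F := F)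
  obtain ⟨α, β, hαβ⟩ := exists_norm_form hodd t ht4 (-1)
  set T' := Subgroup.centralizer ({compSL t} : Set SL2) with hT'
  set w := wElt t α β hαβ with hw
  have hcardT := card_torus hodd t hno ht4
  have hN : ∀ g : SL2, g ∈ Subgroup.normalizer (T' : Set SL2) ↔ g ∈ T' ∨ w⁻¹ * g ∈ T' := by
    intro g
    rw [mem_normalizer_iff t ht4 h2, inverts_iff_mem t α β hαβ]
  have hwT : w ∉ T' := wElt_not_mem t α β hαβ h2
  refine ⟨T', isCyclic_torus hodd t hno ht4 hord, hcardT, centralizer_torus t, ?_,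
    exists_conj_mem hodd t hno ht4, ?_, ?_, ?_⟩
  · intro g hg h1 hm1
    apply centralizer_of_mem t g hg
    intro hc
    obtain ⟨e1, e2⟩ := (mem_centralizer_compSL_iff t g).1 hg
    have hdet := sl2_det g
    rw [hc] at e1 e2
    rw [e1, hc, e2] at hdet
    have h5 : (g 0 0 - 1) * (g 0 0 + 1) = 0 := by linear_combination hdet
    rcases mul_eq_zero.1 h5 with h6 | h6
    · apply h1
      have e : g 0 0 = 1 := sub_eq_zero.1 h6
      ext i j
      fin_cases i <;> fin_cases j
      · simpa using e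
      · simpa using e1
      · simpa using hc
      · simp only [Fin.mk_one, Fin.isValue, Matrix.one_apply_eq]
        rw [e2, e]; ring
    · apply hm1
      have e : g 0 0 = -1 := eq_neg_of_add_eq_zero_left h6
      ext i j
      fin_cases i <;> fin_cases j
      · simpa using e
      · simpa using e1
      · simpa using hc
      · simp only [Fin.mk_one, Fin.isValue, Matrix.neg_apply, Matrix.one_apply_eq]
        rw [e2, e]; ring
  · rw [DicCount.card_N T' _ w hwT hN, hcardT]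
  · have h6 := DicCount.card_conjClasses T' _ w hwT hN
      (fun y hy y' hy' => torus_comm t y y' hy hy')
      (fun y hy => inv_of_mem t α β hαβ y hy) (card_sq_eq_one_torus hodd t)
    rw [hcardT] at h6
    omega
  · intro g hg hgT
    rw [mem_normalizer_iff t ht4 h2] at hg
    rcases hg with hg | hg
    · exact absurd hg hgT
    · exact sq_of_inverts t g hg

end Odd

end Cfsg.Agent.Lib.Helper4.SL2NS
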