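import Mathlib
import Cfsg.Agent.Lib.Helper4.SylowTorus

set_option autoImplicit false

namespace Cfsg.Agent.Lib.Helper4.SylowTorus

open Pointwise

variable {G : Type*} [Group G]

theorem sylow_in_torus [Finite G] (ℓ : ℕ) [Fact ℓ.Prime] (hℓ2 : ℓ ≠ 2) (P : Sylow ℓ G) (c : G)
    (n : ℕ) (hn : orderOf c = n) (hdvd : ℓ ∣ n)
    (hval : (Nat.card G).factorization ℓ = n.factorization ℓ)
    (hcent : ∀ y ∈ Subgroup.zpowers c, y ^ 2 ≠ 1 →
      Subgroup.centralizer ({y} : Set G) = Subgroup.zpowers c) :
    Nat.card (Subgroup.centralizer ((P : Subgroup G) : Set G)) = n ∧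
    IsCyclic (Subgroup.centralizer ((P : Subgroup G) : Set G)) ∧
    Nat.card (Subgroup.normalizer ((P : Subgroup G) : Set G))
      = Nat.card (Subgroup.normalizer ((Subgroup.zpowers c : Subgroup G) : Set G)) := by
  have hℓ : ℓ.Prime := Fact.out
  have hn0 : n ≠ 0 := by
    rw [← hn]
    exact (orderOf_pos c).ne'
  set k := n.factorization ℓ with hk
  have hk1 : 1 ≤ k := hℓ.factorization_pos_of_dvd hn0 hdvd
  set a := ℓ ^ k with ha
  set m := n / a with hm
  have hnam : n = a * m := (Nat.ordProj_mul_ordCompl_eq_self n ℓ).symm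
  have ha0 : 0 < a := pow_pos hℓ.pos k
  have hm0 : m ≠ 0 := by
    rintro h0
    rw [h0, mul_zero] at hnam
    exact hn0 hnam
  have hn' : orderOf c = a * m := by rw [hn, ← hnam]
  set h := c ^ m with hh
  have hordh : orderOf h = a := by
    rw [hh, orderOf_pow_of_dvd hm0 (by rw [hn']; exact dvd_mul_left _ _), hn']
    exact Nat.mul_div_cancel _ (Nat.pos_of_ne_zero hm0)
  set H := Subgroup.zpowers h with hH
  have hcardH : Nat.card H = ℓ ^ (Nat.card G).factorization ℓ := by
    rw [Nat.card_zpowers, hordh, hval]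
  obtain ⟨x, hx⟩ := MulAction.exists_smul_eq G (Sylow.ofCard H hcardH) P
  set φ : G ≃* G := MulAut.conj x with hφ
  have hP : (P : Subgroup G) = H.map φ.toMonoidHom := by
    rw [← hx]
    rfl
  have hh2 : h ^ 2 ≠ 1 := by
    intro h2
    have h3 := orderOf_dvd_of_pow_eq_one h2
    rw [hordh] at h3
    have h4 : ℓ ∣ 2 := dvd_trans (dvd_pow_self ℓ (by omega)) h3
    exact hℓ2 ((Nat.prime_dvd_prime_iff_eq hℓ Nat.prime_two).1 h4)
  have hhc : h ∈ Subgroup.zpowers c := Subgroup.pow_mem _ (Subgroup.mem_zpowers c) m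
  have hCH : Subgroup.centralizer ((H : Subgroup G) : Set G) = Subgroup.zpowers c := by
    rw [hH, centralizer_zpowers]
    exact hcent h hhc hh2
  have hNH : Subgroup.normalizer ((H : Subgroup G) : Set G)
      = Subgroup.normalizer ((Subgroup.zpowers c : Subgroup G) : Set G) := by
    apply le_antisymm
    · have := normalizer_le_normalizer_centralizer H
      rwa [hCH] at this
    · exact normalizer_zpowers_le c a m hn' ha0
  have hCP : Subgroup.centralizer ((P : Subgroup G) : Set G)
      = (Subgroup.zpowers c).map φ.toMonoidHom := by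
    rw [hP, Subgroup.coe_map, ← hCH]
    exact (map_centralizer φ _).symm
  have hNP : Subgroup.normalizer ((P : Subgroup G) : Set G)
      = (Subgroup.normalizer ((Subgroup.zpowers c : Subgroup G) : Set G)).map φ.toMonoidHom := by
    rw [hP, ← hNH]
    exact (Subgroup.map_equiv_normalizer_eq H φ).symm
  refine ⟨?_, ?_, ?_⟩
  · rw [hCP, Subgroup.card_map_of_injective φ.injective, Nat.card_zpowers, hn]
  · rw [hCP, MonoidHom.map_zpowers]
    infer_instance
  · rw [hNP, Subgroup.card_map_of_injective φ.injective]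

end Cfsg.Agent.Lib.Helper4.SylowTorus
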