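import Mathlib
import Cfsg.Agent.Lib.Helper4.SL2NS3
import Cfsg.Agent.Lib.Helper4.SylowTorus2
import Cfsg.Agent.S2428

set_option autoImplicit false

namespace Cfsg.Agent.Lib.Helper4.SL2Syl

open Matrix Cfsg.Agent.Lib.Helper4 Cfsg.Agent.Lib.Helper4.SL2Tr Cfsg.Agent.Lib.Helper4.SL2Ord
  Cfsg.Agent.Lib.Helper4.SL2Cov Cfsg.Agent.Lib.Helper4.SL2AH Cfsg.Agent.Lib.Helper4.SL2ABA
  Cfsg.Agent.Lib.Helper4.SL2NS

section Odd

variable {F : Type*} [Field F] [Fintype F] [DecidableEq F]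

local notation "SL2" => Matrix.SpecialLinearGroup (Fin 2) F

/-- the order of the normaliser of the non-split torus -/
theorem card_normalizer_torus (hodd : Odd (Fintype.card F)) (t : F)
    (hno : ∀ a : F, a * (t - a) ≠ 1) (ht4 : t ^ 2 ≠ 4) :
    Nat.card (Subgroup.normalizer
      ((Subgroup.centralizer ({compSL t} : Set SL2) : Subgroup SL2) : Set SL2))
      = 2 * (Fintype.card F + 1) := by
  have h2 := two_ne_zero_of_odd hodd
  obtain ⟨α, β, hαβ⟩ := exists_norm_form hodd t ht4 (-1)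
  have hN : ∀ g : SL2, g ∈ Subgroup.normalizer
      ((Subgroup.centralizer ({compSL t} : Set SL2) : Subgroup SL2) : Set SL2) ↔
      g ∈ Subgroup.centralizer ({compSL t} : Set SL2) ∨
        (wElt t α β hαβ)⁻¹ * g ∈ Subgroup.centralizer ({compSL t} : Set SL2) := by
    intro g
    rw [mem_normalizer_iff t ht4 h2, inverts_iff_mem t α β hαβ]
  rw [DicCount.card_N _ _ (wElt t α β hαβ) (wElt_not_mem t α β hαβ h2) hN,
    card_torus hodd t hno ht4]

theorem zpowers_eq_torus (hodd : Odd (Fintype.card F)) (t : F)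
    (hno : ∀ a : F, a * (t - a) ≠ 1) (ht4 : t ^ 2 ≠ 4)
    (hord : orderOf (compSL t) = Fintype.card F + 1) :
    Subgroup.zpowers (compSL t) = Subgroup.centralizer ({compSL t} : Set SL2) := by
  have hle : Subgroup.zpowers (compSL t) ≤ Subgroup.centralizer ({compSL t} : Set SL2) := by
    rw [Subgroup.zpowers_le, Subgroup.mem_centralizer_singleton_iff]
  apply Subgroup.eq_of_le_of_card_ge hle
  rw [card_torus hodd t hno ht4, Nat.card_zpowers, hord]

theorem factorization_card_SL2 (ℓ : ℕ) (hℓ : ℓ.Prime) (a b c : ℕ) (ha : a ≠ 0) (hb : b ≠ 0)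
    (hc : c ≠ 0) (hla : ¬ ℓ ∣ a) (hlb : ¬ ℓ ∣ b) :
    (a * (b * c)).factorization ℓ = c.factorization ℓ := by
  rw [Nat.factorization_mul ha (mul_ne_zero hb hc), Nat.factorization_mul hb hc]
  simp only [Finsupp.coe_add, Pi.add_apply]
  rw [Nat.factorization_eq_zero_of_not_dvd hla, Nat.factorization_eq_zero_of_not_dvd hlb]
  ring

theorem card_SL2_eq (hq : 2 ≤ Fintype.card F) :
    Nat.card SL2 = Fintype.card F * ((Fintype.card F - 1) * (Fintype.card F + 1)) := by
  rw [card_SL2]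
  obtain ⟨k, hk⟩ : ∃ k, Fintype.card F = k + 2 := ⟨Fintype.card F - 2, by omega⟩
  rw [hk]
  have e1 : k + 2 - 1 = k + 1 := by omega
  rw [e1]
  have : (k + 2) ^ 2 = (k + 1) * (k + 2 + 1) + 1 := by ring
  rw [this, Nat.add_sub_cancel]

theorem sylow_nonsplit (hodd : Odd (Fintype.card F)) (ℓ : ℕ) [Fact ℓ.Prime] (hℓ : ℓ ≠ 2)
    (P : Sylow ℓ SL2) (hdvd : ℓ ∣ Fintype.card F + 1) :
    Nat.card (Subgroup.centralizer ((P : Subgroup SL2) : Set SL2)) = Fintype.card F + 1 ∧
    IsCyclic (Subgroup.centralizer ((P : Subgroup SL2) : Set SL2)) ∧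
    Nat.card (Subgroup.normalizer ((P : Subgroup SL2) : Set SL2)) = 2 * (Fintype.card F + 1) := by
  obtain ⟨p, hp⟩ := CharP.exists F
  haveI := hp
  haveI : Fact p.Prime := ⟨CharP.char_is_prime F p⟩
  have hℓp : ℓ.Prime := Fact.out
  have hq2 : 2 ≤ Fintype.card F := Fintype.one_lt_card
  obtain ⟨t, hno, ht4, hord⟩ := exists_nonsplit_order_odd hodd p (F := F)
  have hzp := zpowers_eq_torus hodd t hno ht4 hord
  have hla : ¬ ℓ ∣ Fintype.card F := by
    intro h
    have := (Nat.dvd_add_right h).1 hdvd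
    exact hℓp.one_lt.ne' (Nat.dvd_one.1 this)
  have hlb : ¬ ℓ ∣ Fintype.card F - 1 := by
    intro h
    have h3 : ℓ ∣ (Fintype.card F + 1) - (Fintype.card F - 1) := Nat.dvd_sub hdvd h
    have e : (Fintype.card F + 1) - (Fintype.card F - 1) = 2 := by omega
    rw [e] at h3
    exact hℓ ((Nat.prime_dvd_prime_iff_eq hℓp Nat.prime_two).1 h3)
  have hval : (Nat.card SL2).factorization ℓ = (Fintype.card F + 1).factorization ℓ := by
    rw [card_SL2_eq hq2]
    exact factorization_card_SL2 ℓ hℓp _ _ _ (by omega) (by omega) (by omega) hla hlb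
  have hcent : ∀ y ∈ Subgroup.zpowers (compSL t), y ^ 2 ≠ 1 →
      Subgroup.centralizer ({y} : Set SL2) = Subgroup.zpowers (compSL t) := by
    intro y hy hy2
    rw [hzp] at hy ⊢
    apply centralizer_of_mem t y hy
    intro hc
    apply hy2
    rw [← mem_center_iff_sq hodd]
    apply mem_center_of_isScalar2
    obtain ⟨e1, e2⟩ := (mem_centralizer_compSL_iff t y).1 hy
    rw [hc] at e1 e2
    refine ⟨?_, hc, ?_⟩
    · rw [e1]; ring
    · rw [e2]; ring
  obtain ⟨h1, h3, h4⟩ := SylowTorus.sylow_in_torus ℓ hℓ P (compSL t) _ hord hdvd hval hcent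
  refine ⟨h1, h3, ?_⟩
  rw [h4, hzp, card_normalizer_torus hodd t hno ht4]

end Odd

end Cfsg.Agent.Lib.Helper4.SL2Syl
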