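import Mathlib
import Cfsg.Agent.Lib.Helper4.SL2Syl1

set_option autoImplicit false

namespace Cfsg.Agent.Lib.Helper4.SL2Syl

open Matrix Cfsg.Agent.Lib.Helper4 Cfsg.Agent.Lib.Helper4.SL2Tr Cfsg.Agent.Lib.Helper4.SL2Ord
  Cfsg.Agent.Lib.Helper4.SL2Cov Cfsg.Agent.Lib.Helper4.SL2AH Cfsg.Agent.Lib.Helper4.SL2ABA
  Cfsg.Agent.Lib.Helper4.SL2NS

section Odd

variable {F : Type*} [Field F] [Fintype F] [DecidableEq F]

local notation "SL2" => Matrix.SpecialLinearGroup (Fin 2) F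

theorem diagSL_entries (a : Fˣ) :
    (diagSL a : SL2) 0 0 = (a : F) ∧ (diagSL a : SL2) 0 1 = 0 ∧ (diagSL a : SL2) 1 0 = 0 ∧
      (diagSL a : SL2) 1 1 = ((a⁻¹ : Fˣ) : F) := by
  refine ⟨?_, ?_, ?_, ?_⟩ <;>
  · change (diagSL a : Matrix (Fin 2) (Fin 2) F) _ _ = _
    rw [diagSL_coe]
    simp

theorem exists_diagSL (g : SL2) (h01 : g 0 1 = 0) (h10 : g 1 0 = 0) : ∃ a : Fˣ, g = diagSL a := by
  have hdet := sl2_det g
  rw [h01, zero_mul, sub_zero] at hdet
  refine ⟨Units.mkOfMulEqOne _ _ hdet, ?_⟩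
  obtain ⟨e1, e2, e3, e4⟩ := diagSL_entries (Units.mkOfMulEqOne _ _ hdet)
  rw [sl2_ext_iff]
  refine ⟨?_, ?_, ?_, ?_⟩
  · exact e1.symm
  · rw [h01]; exact e2.symm
  · rw [h10]; exact e3.symm
  · rw [e4]
    simp only [Units.val_inv_eq_inv_val, Units.val_mkOfMulEqOne]
    exact eq_inv_of_mul_eq_one_right hdet

theorem sylow_split (hodd : Odd (Fintype.card F)) (ℓ : ℕ) [Fact ℓ.Prime] (hℓ : ℓ ≠ 2)
    (P : Sylow ℓ SL2) (hdvd : ℓ ∣ Fintype.card F - 1) :
    Nat.card (Subgroup.centralizer ((P : Subgroup SL2) : Set SL2)) = Fintype.card F - 1 ∧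
    IsCyclic (Subgroup.centralizer ((P : Subgroup SL2) : Set SL2)) ∧
    Nat.card (Subgroup.normalizer ((P : Subgroup SL2) : Set SL2)) = 2 * (Fintype.card F - 1) := by
  have hℓp : ℓ.Prime := Fact.out
  have hq2 : 2 ≤ Fintype.card F := Fintype.one_lt_card
  have hℓ3 : 3 ≤ ℓ := by
    have := hℓp.two_le
    omega
  have hq4 : 3 ≤ Fintype.card F - 1 := le_trans hℓ3 (Nat.le_of_dvd (by omega) hdvd)
  obtain ⟨ζ, hζ⟩ := IsCyclic.exists_generator (α := Fˣ)
  have hordζ : orderOf ζ = Fintype.card F - 1 := by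
    rw [orderOf_eq_card_of_forall_mem_zpowers hζ, Nat.card_eq_fintype_card, Fintype.card_units]
  set c : SL2 := diagHom ζ with hc
  have hord : orderOf c = Fintype.card F - 1 := by
    rw [hc, orderOf_injective diagHom diagHom_injective, hordζ]
  have hζ2 : ζ ^ 2 ≠ 1 := by
    intro h
    have := Nat.le_of_dvd (by norm_num) (orderOf_dvd_of_pow_eq_one h)
    omega
  obtain ⟨e00, e01, e10, e11⟩ := diagSL_entries ζ
  have hda : (c : Matrix (Fin 2) (Fin 2) F) 0 0 ^ 2 ≠ 1 := by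
    intro h
    apply hζ2
    apply Units.ext
    rw [Units.val_pow_eq_pow_val, Units.val_one]
    have : (c : Matrix (Fin 2) (Fin 2) F) 0 0 = (ζ : F) := e00
    rw [this] at h
    exact h
  have hcen := Cfsg.Agent.S2428.mem_centralizer_iff c e01 e10 hda
  -- the torus is generated by `c`
  have hzp : Subgroup.zpowers c = Subgroup.centralizer ({c} : Set SL2) := by
    ext g
    rw [hcen]
    constructor
    · intro hg
      obtain ⟨j, rfl⟩ := Subgroup.mem_zpowers_iff.1 hg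
      rw [hc, ← map_zpow]
      obtain ⟨_, e2, e3, _⟩ := diagSL_entries (ζ ^ j)
      exact ⟨e2, e3⟩
    · rintro ⟨h1, h3⟩
      obtain ⟨a, rfl⟩ := exists_diagSL g h1 h3
      obtain ⟨j, rfl⟩ := Subgroup.mem_zpowers_iff.1 (hζ a)
      rw [Subgroup.mem_zpowers_iff]
      exact ⟨j, by rw [hc, ← map_zpow]; rfl⟩
  have hla : ¬ ℓ ∣ Fintype.card F := by
    intro h
    have h3 : ℓ ∣ Fintype.card F - (Fintype.card F - 1) := Nat.dvd_sub h hdvd
    have e : Fintype.card F - (Fintype.card F - 1) = 1 := by omega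
    rw [e] at h3
    exact hℓp.one_lt.ne' (Nat.dvd_one.1 h3)
  have hlb : ¬ ℓ ∣ Fintype.card F + 1 := by
    intro h
    have h3 : ℓ ∣ (Fintype.card F + 1) - (Fintype.card F - 1) := Nat.dvd_sub h hdvd
    have e : (Fintype.card F + 1) - (Fintype.card F - 1) = 2 := by omega
    rw [e] at h3
    exact hℓ ((Nat.prime_dvd_prime_iff_eq hℓp Nat.prime_two).1 h3)
  have hval : (Nat.card SL2).factorization ℓ = (Fintype.card F - 1).factorization ℓ := by
    rw [card_SL2_eq hq2, mul_comm (Fintype.card F - 1)]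
    exact factorization_card_SL2 ℓ hℓp _ _ _ (by omega) (by omega) (by omega) hla hlb
  have hcent : ∀ y ∈ Subgroup.zpowers c, y ^ 2 ≠ 1 →
      Subgroup.centralizer ({y} : Set SL2) = Subgroup.zpowers c := by
    intro y hy hy2
    rw [hzp] at hy ⊢
    obtain ⟨h1, h3⟩ := (hcen y).1 hy
    have hya : (y : Matrix (Fin 2) (Fin 2) F) 0 0 ^ 2 ≠ 1 := by
      intro h
      apply hy2
      rw [← mem_center_iff_sq hodd]
      apply mem_center_of_isScalar2
      refine ⟨h1, h3, ?_⟩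
      have hdet := sl2_det y
      have h1' : y 0 1 = 0 := h1
      rw [h1', zero_mul, sub_zero] at hdet
      have h' : y 0 0 ^ 2 = 1 := h
      have h00 : y 0 0 ≠ 0 := by
        intro h0
        rw [h0] at h'
        simp at h'
      apply mul_left_cancel₀ h00
      change y 0 0 * y 0 0 = y 0 0 * y 1 1
      rw [hdet, ← pow_two, h']
    ext g
    rw [Cfsg.Agent.S2428.mem_centralizer_iff y h1 h3 hya, hcen]
  obtain ⟨h1, h3, h4⟩ := SylowTorus.sylow_in_torus ℓ hℓ P c _ hord hdvd hval hcent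
  refine ⟨h1, h3, ?_⟩
  rw [h4, hzp]
  exact Cfsg.Agent.S2428.card_of_mono _ (Cfsg.Agent.S2428.mem_normalizer_iff c e01 e10 hda)

end Odd

end Cfsg.Agent.Lib.Helper4.SL2Syl
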