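import Cfsg.Agent.Lib.Helper4.QuatSyl2
import Cfsg.Agent.Lib.Helper4.SL2Syl2
import Cfsg.Agent.S2428
import Cfsg.Agent.S2429

/-!
# Sylow 2-subgroups of `SL₂(q)`, `q` odd
-/

namespace Cfsg.Agent.Lib.Helper4.QuatSyl

open Matrix Cfsg.Agent.Lib.Helper4 Cfsg.Agent.Lib.Helper4.SL2Tr Cfsg.Agent.Lib.Helper4.SL2Ord
  Cfsg.Agent.Lib.Helper4.SL2Cov Cfsg.Agent.Lib.Helper4.SL2AH Cfsg.Agent.Lib.Helper4.SL2ABA
  Cfsg.Agent.Lib.Helper4.SL2NS Cfsg.Agent.Lib.Helper4.SL2Syl

section adapter

variable {G : Type*} [Group G] [Finite G]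

theorem torusHyp_of_cyclic (T' : Subgroup G) (z : G) (N a m : ℕ)
    (hcyc : IsCyclic T') (hcard : Nat.card T' = N) (hN : N = 2 ^ a * m) (hm : ¬ 2 ∣ m)
    (ha : 2 ≤ a)
    (hcent : ∀ g ∈ T', g * g ≠ 1 → Subgroup.centralizer ({g} : Set G) = T')
    (hsq : ∀ g ∈ Subgroup.normalizer (T' : Set G), g ∉ T' → g * g = z)
    (hinvol : ∀ y : G, y * y = 1 → y = 1 ∨ y = z) (hzc : z ∈ Subgroup.center G)
    (hval : (Nat.card G).factorization 2 = a + 1)
    (hfus : ∀ x y : G, x * x = z → y * y = z → IsConj x y) :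
    ∃ c : G, TorusHyp c z a m := by
  obtain ⟨c', hc'⟩ := hcyc.exists_generator
  have hzp : Subgroup.zpowers (c' : G) = T' := by
    apply le_antisymm
    · rw [Subgroup.zpowers_le]; exact c'.2
    · intro x hx
      obtain ⟨j, hj⟩ := Subgroup.mem_zpowers_iff.1 (hc' ⟨x, hx⟩)
      rw [Subgroup.mem_zpowers_iff]
      refine ⟨j, ?_⟩
      have := congrArg Subtype.val hj
      simpa using this
  have hord : orderOf (c' : G) = N := by
    rw [Subgroup.orderOf_coe, orderOf_eq_card_of_forall_mem_zpowers hc', hcard]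
  refine ⟨(c' : G), ?_⟩
  exact
    { ord := by rw [hord, hN]
      odd := hm
      two_le := ha
      cent := by rw [hzp]; exact hcent
      sq := by rw [hzp]; exact hsq
      invol := hinvol
      zc := hzc
      val := hval
      fus := fun _ => hfus }

end adapter

section arith

lemma fact_two_pow_mul (a m : ℕ) (hm : ¬ 2 ∣ m) : (2 ^ a * m).factorization 2 = a := by
  have hm0 : m ≠ 0 := by rintro rfl; exact hm (dvd_zero 2)
  rw [Nat.factorization_mul (by positivity) hm0, Nat.factorization_pow, Finsupp.add_apply,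
    Finsupp.smul_apply, Nat.Prime.factorization_self Nat.prime_two,
    Nat.factorization_eq_zero_of_not_dvd hm]
  simp

lemma val_arith (q a m : ℕ) (hq : q % 2 = 1) (hm : ¬ 2 ∣ m) (ha : 2 ≤ a)
    (h : q - 1 = 2 ^ a * m ∨ q + 1 = 2 ^ a * m) :
    (q * ((q - 1) * (q + 1))).factorization 2 = a + 1 := by
  have hm0 : m ≠ 0 := by rintro rfl; exact hm (dvd_zero 2)
  have hq0 : q ≠ 0 := by rintro rfl; omega
  have hpos : 0 < 2 ^ a * m := by positivity
  have hq3 : 3 ≤ q := by
    have : 4 ≤ 2 ^ a := by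
      calc 4 = 2 ^ 2 := by norm_num
        _ ≤ 2 ^ a := Nat.pow_le_pow_right (by norm_num) ha
    have h4 : 4 ≤ 2 ^ a * m := by
      calc 4 ≤ 2 ^ a := this
        _ ≤ 2 ^ a * m := Nat.le_mul_of_pos_right _ (Nat.pos_of_ne_zero hm0)
    rcases h with h | h <;> omega
  have hq2 : ¬ 2 ∣ q := by omega
  obtain ⟨b, rfl⟩ : ∃ b, a = b + 2 := ⟨a - 2, by omega⟩
  have e4 : 2 ^ (b + 2) * m = 4 * (2 ^ b * m) := by ring
  rw [Nat.factorization_mul hq0 (by
    apply mul_ne_zero <;> omega), Nat.factorization_mul (by omega) (by omega), Finsupp.add_apply,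
    Finsupp.add_apply, Nat.factorization_eq_zero_of_not_dvd hq2, zero_add]
  rcases h with h | h
  · have h1 : q + 1 = 2 ^ 1 * (2 * (2 ^ b * m) + 1) := by omega
    rw [h, h1, fact_two_pow_mul _ _ hm, fact_two_pow_mul _ _ (by omega)]
  · have h1 : q - 1 = 2 ^ 1 * (2 * (2 ^ b * m) - 1) := by omega
    rw [h, h1, fact_two_pow_mul _ _ hm, fact_two_pow_mul _ _ (by omega)]
    ring

end arith

section sl2

variable {F : Type*} [Field F] [Fintype F]

local notation "SL2" => Matrix.SpecialLinearGroup (Fin 2) F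

lemma neg_one_coe : ((negOneSL F : SL2) : Matrix (Fin 2) (Fin 2) F) = -1 := by
  haveI : DecidableEq F := Classical.decEq F
  rw [negOneSL_coe]
  ext i j
  fin_cases i <;> fin_cases j <;> simp

lemma eq_negOne_of_coe (g : SL2) (h : (g : Matrix (Fin 2) (Fin 2) F) = -1) : g = negOneSL F :=
  Subtype.ext (h.trans neg_one_coe.symm)

lemma invol_SL2 (hodd : Odd (Fintype.card F)) (y : SL2) (hy : y * y = 1) :
    y = 1 ∨ y = negOneSL F := by
  haveI : DecidableEq F := Classical.decEq F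
  have hy2 : y ^ 2 = 1 := by rw [pow_two]; exact hy
  exact eq_one_or_neg_of_sq hodd y hy2

lemma trace_eq_zero_of_sq (hodd : Odd (Fintype.card F)) (x : SL2) (hx : x * x = negOneSL F) :
    (x : Matrix (Fin 2) (Fin 2) F).trace = 0 ∧ ¬ IsScalar2 (x : Matrix (Fin 2) (Fin 2) F) := by
  classical
  have h2 := two_ne_zero_of_odd hodd
  have hc := cayley x
  have hx' : (x : Matrix (Fin 2) (Fin 2) F) * (x : Matrix (Fin 2) (Fin 2) F) = -1 := by
    have := congrArg (fun y : SL2 => (y : Matrix (Fin 2) (Fin 2) F)) hx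
    simpa [neg_one_coe] using this
  rw [hx'] at hc
  have hdet := sl2_det x
  have ht : (x : Matrix (Fin 2) (Fin 2) F).trace = 0 := by
    by_contra ht
    have h00 := congrFun (congrFun hc 0) 0
    have h01 := congrFun (congrFun hc 0) 1
    simp only [Matrix.sub_apply, Matrix.smul_apply, smul_eq_mul, Matrix.one_apply_eq,
      Matrix.neg_apply, ne_eq, zero_ne_one, not_false_eq_true, Matrix.one_apply_ne, sub_zero,
      neg_zero] at h00 h01
    have e00 : x 0 0 = 0 := by
      have : (x : Matrix (Fin 2) (Fin 2) F).trace * x 0 0 = 0 := by linear_combination -h00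
      rcases mul_eq_zero.1 this with h | h
      · exact absurd h ht
      · exact h
    have e01 : x 0 1 = 0 := by
      rcases mul_eq_zero.1 h01.symm with h | h
      · exact absurd h ht
      · exact h
    rw [e00, e01] at hdet
    simp at hdet
  refine ⟨ht, ?_⟩
  rintro ⟨e01, e10, e00⟩
  rw [Matrix.trace_fin_two] at ht
  have e1 : x 0 0 = 0 := by
    have : (2 : F) * x 0 0 = 0 := by
      have e00' : x 0 0 = x 1 1 := e00
      have ht' : x 0 0 + x 1 1 = 0 := ht
      linear_combination ht' + e00'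
    rcases mul_eq_zero.1 this with h | h
    · exact absurd h h2
    · exact h
  have e01' : x 0 1 = 0 := e01
  rw [e1, e01'] at hdet
  simp at hdet

lemma fus_SL2 (hodd : Odd (Fintype.card F)) (x y : SL2) (hx : x * x = negOneSL F)
    (hy : y * y = negOneSL F) : IsConj x y := by
  classical
  obtain ⟨htx, hsx⟩ := trace_eq_zero_of_sq hodd x hx
  obtain ⟨hty, -⟩ := trace_eq_zero_of_sq hodd y hy
  have h2 := two_ne_zero_of_odd hodd
  rw [isConj_iff_trace_odd hodd x y hsx (by
    rw [htx]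
    intro h
    apply h2
    have : (2 : F) * 2 = 0 := by linear_combination -h
    rcases mul_eq_zero.1 this with h' | h' <;> exact h'), hty, htx]

/-- the split torus -/
theorem split_torus (hodd : Odd (Fintype.card F)) (hq : 5 ≤ Fintype.card F) :
    ∃ T' : Subgroup SL2, IsCyclic T' ∧ Nat.card T' = Fintype.card F - 1 ∧
      (∀ g ∈ T', g * g ≠ 1 → Subgroup.centralizer ({g} : Set SL2) = T') ∧
      (∀ g ∈ Subgroup.normalizer (T' : Set SL2), g ∉ T' → g * g = negOneSL F) := by
  classical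
  obtain ⟨T', hT'⟩ : ∃ T' : Subgroup SL2, T' = (diagHom : Fˣ →* SL2).range := ⟨_, rfl⟩
  have hmem : ∀ g : SL2, g ∈ T' ↔ g 0 1 = 0 ∧ g 1 0 = 0 := by
    intro g
    rw [hT']
    constructor
    · rintro ⟨a, rfl⟩
      obtain ⟨_, e2, e3, _⟩ := diagSL_entries a
      exact ⟨e2, e3⟩
    · rintro ⟨h1, h3⟩
      obtain ⟨a, rfl⟩ := exists_diagSL g h1 h3
      exact ⟨a, rfl⟩
  have hcentg : ∀ g ∈ T', g * g ≠ 1 →
      (g : Matrix (Fin 2) (Fin 2) F) 0 1 = 0 ∧ (g : Matrix (Fin 2) (Fin 2) F) 1 0 = 0 ∧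
        (g : Matrix (Fin 2) (Fin 2) F) 0 0 ^ 2 ≠ 1 := by
    intro g hg hgg
    obtain ⟨h1, h3⟩ := (hmem g).1 hg
    refine ⟨h1, h3, ?_⟩
    intro h
    apply hgg
    obtain ⟨a, rfl⟩ := exists_diagSL g h1 h3
    obtain ⟨e00, _, _, _⟩ := diagSL_entries a
    have e00' : (diagSL a : Matrix (Fin 2) (Fin 2) F) 0 0 = (a : F) := e00
    rw [e00'] at h
    have ha : a * a = 1 := by
      apply Units.ext
      rw [Units.val_mul, Units.val_one, ← pow_two]
      exact h
    rw [diagSL_mul, ha, diagSL_one]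
  have hC : ∀ g ∈ T', g * g ≠ 1 → Subgroup.centralizer ({g} : Set SL2) = T' := by
    intro g hg hgg
    obtain ⟨h1, h3, hda⟩ := hcentg g hg hgg
    ext h
    rw [(Cfsg.Agent.S2428.result hodd g h1 h3 hda).1 h, hmem]
  -- a generator
  obtain ⟨ζ, hζ⟩ := IsCyclic.exists_generator (α := Fˣ)
  have hordζ : orderOf ζ = Fintype.card F - 1 := by
    rw [orderOf_eq_card_of_forall_mem_zpowers hζ, Nat.card_eq_fintype_card, Fintype.card_units]
  have hζ2 : diagSL ζ * diagSL ζ ≠ (1 : SL2) := by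
    intro h
    rw [diagSL_mul] at h
    have h' : diagHom (ζ * ζ) = (diagHom 1 : SL2) := by rw [map_one]; exact h
    have h1 : ζ * ζ = 1 := diagHom_injective h'
    have hz2 : ζ ^ 2 = 1 := by rw [pow_two]; exact h1
    have hle : orderOf ζ ≤ 2 := Nat.le_of_dvd (show 0 < 2 by norm_num) (orderOf_dvd_of_pow_eq_one hz2)
    omega
  have hg₀ : diagSL ζ ∈ T' := by rw [hT']; exact ⟨ζ, rfl⟩
  refine ⟨T', ?_, ?_, hC, ?_⟩
  · rw [hT']
    exact isCyclic_of_surjective (diagHom : Fˣ →* SL2).rangeRestrict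
      (diagHom : Fˣ →* SL2).rangeRestrict_surjective
  · rw [hT', Nat.card_congr (MonoidHom.ofInjective diagHom_injective).toEquiv.symm,
      Nat.card_eq_fintype_card, Fintype.card_units]
  · intro g hg hgT
    obtain ⟨h1, h3, hda⟩ := hcentg _ hg₀ hζ2
    have hres := (Cfsg.Agent.S2428.result hodd (diagSL ζ) h1 h3 hda).2.2.2 g
    rw [hC _ hg₀ hζ2] at hres
    exact eq_negOne_of_coe _ (hres hg hgT)

/-- **Sylow 2-subgroups of `SL₂(q)`, `q` odd.** -/
theorem sylow_two_SL2 (hodd : Odd (Fintype.card F)) (S : Sylow 2 SL2) :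
    Subgroup.centralizer ((S : Subgroup SL2) : Set SL2) = Subgroup.center SL2 ∧
    ((Fintype.card F % 8 = 1 ∨ Fintype.card F % 8 = 7) →
      Subgroup.normalizer ((S : Subgroup SL2) : Set SL2) = (S : Subgroup SL2)) ∧
    ((Fintype.card F % 8 = 3 ∨ Fintype.card F % 8 = 5) →
      Nat.card (Subgroup.normalizer ((S : Subgroup SL2) : Set SL2)) = 3 * Nat.card S) := by
  classical
  obtain ⟨q, hq⟩ : ∃ q, q = Fintype.card F := ⟨_, rfl⟩
  have hq2 : 2 ≤ Fintype.card F := Fintype.one_lt_card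
  have hqodd : q % 2 = 1 := by rw [hq]; exact Nat.odd_iff.1 hodd
  -- the torus
  have key : ∀ N : ℕ, (N = q - 1 ∨ N = q + 1) → 4 ∣ N →
      (∃ T' : Subgroup SL2, IsCyclic T' ∧ Nat.card T' = N ∧
      (∀ g ∈ T', g * g ≠ 1 → Subgroup.centralizer ({g} : Set SL2) = T') ∧
      (∀ g ∈ Subgroup.normalizer (T' : Set SL2), g ∉ T' → g * g = negOneSL F)) →
      Subgroup.centralizer ((S : Subgroup SL2) : Set SL2) = Subgroup.center SL2 ∧
      (8 ∣ N → Subgroup.normalizer ((S : Subgroup SL2) : Set SL2) = (S : Subgroup SL2)) ∧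
      (¬ 8 ∣ N →
        Nat.card (Subgroup.normalizer ((S : Subgroup SL2) : Set SL2)) = 3 * Nat.card S) := by
    intro N hNq h4 ⟨T', hcyc, hcard, hcent, hsq⟩
    have hN0 : N ≠ 0 := by rcases hNq with h | h <;> omega
    obtain ⟨a, ha⟩ : ∃ a, a = N.factorization 2 := ⟨_, rfl⟩
    obtain ⟨m, hm⟩ : ∃ m, m = N / 2 ^ a := ⟨_, rfl⟩
    have hN : N = 2 ^ a * m := by
      rw [hm, ha]; exact (Nat.ordProj_mul_ordCompl_eq_self N 2).symm
    have hmodd : ¬ 2 ∣ m := by
      rw [hm, ha]; exact Nat.not_dvd_ordCompl Nat.prime_two hN0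
    have ha2 : 2 ≤ a := by
      rw [ha]
      exact (Nat.Prime.pow_dvd_iff_le_factorization Nat.prime_two hN0).1 (by norm_num; exact h4)
    have hval : (Nat.card SL2).factorization 2 = a + 1 := by
      rw [card_SL2_eq hq2, ← hq]
      apply val_arith q a m hqodd hmodd ha2
      rcases hNq with h | h
      · left; rw [← h, hN]
      · right; rw [← h, hN]
    obtain ⟨c, Hc⟩ := torusHyp_of_cyclic T' (negOneSL F) N a m hcyc hcard hN hmodd ha2 hcent hsq
      (invol_SL2 hodd) negOneSL_mem_center hval (fus_SL2 hodd)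
    obtain ⟨r1, r2, r3⟩ := main_all Hc S
    refine ⟨r1, ?_, ?_⟩
    · intro h8
      apply r2
      rw [ha]
      exact (Nat.Prime.pow_dvd_iff_le_factorization Nat.prime_two hN0).1 (by norm_num; exact h8)
    · intro h8
      apply r3
      have : ¬ 3 ≤ a := by
        intro h3
        apply h8
        have := (Nat.Prime.pow_dvd_iff_le_factorization Nat.prime_two hN0).2 (ha ▸ h3)
        norm_num at this
        exact this
      omega
  have hcases : q % 8 = 1 ∨ q % 8 = 3 ∨ q % 8 = 5 ∨ q % 8 = 7 := by omega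
  rw [← hq]
  by_cases hq4 : q % 4 = 1
  · -- split torus
    have hq5 : 5 ≤ Fintype.card F := by rw [← hq]; omega
    have hT := split_torus hodd hq5
    rw [← hq] at hT
    obtain ⟨r1, r2, r3⟩ := key (q - 1) (Or.inl rfl) (by omega) hT
    refine ⟨r1, ?_, ?_⟩
    · intro h
      apply r2
      omega
    · intro h
      apply r3
      omega
  · -- nonsplit torus
    obtain ⟨T', h1, h2, -, h4, -, -, -, h8⟩ := Cfsg.Agent.S2429.result hodd (F := F)
    rw [← hq] at h2
    have hT : ∃ T' : Subgroup SL2, IsCyclic T' ∧ Nat.card T' = q + 1 ∧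
        (∀ g ∈ T', g * g ≠ 1 → Subgroup.centralizer ({g} : Set SL2) = T') ∧
        (∀ g ∈ Subgroup.normalizer (T' : Set SL2), g ∉ T' → g * g = negOneSL F) := by
      refine ⟨T', h1, h2, ?_, ?_⟩
      · intro g hg hgg
        apply h4 g hg
        · intro h
          apply hgg
          have : g = 1 := Subtype.ext h
          rw [this, mul_one]
        · intro h
          apply hgg
          rw [eq_negOne_of_coe g h]
          exact negOneSL_mul_self
      · intro g hg hgT
        exact eq_negOne_of_coe _ (h8 g hg hgT)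
    obtain ⟨r1, r2, r3⟩ := key (q + 1) (Or.inr rfl) (by omega) hT
    refine ⟨r1, ?_, ?_⟩
    · intro h
      apply r2
      omega
    · intro h
      apply r3
      omega

end sl2

end Cfsg.Agent.Lib.Helper4.QuatSyl
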