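import Cfsg.Agent.Lib.Helper2.R4A5
import Cfsg.Agent.Lib.Helper2.R4A8
import Cfsg.Agent.Lib.Helper2.R4B1

/-! S3814 farm, unit B2a: a normal subgroup of prime order `a ∈ σ` is impossible in a minimal
counterexample. -/
set_option autoImplicit false

namespace Cfsg.Agent.Lib.Helper2.R4

variable {G : Type*} [Group G]

theorem h4_r4_le_normalizer_of_normal {W : Subgroup G} (hW : W.Normal) (A : Subgroup G) :
    A ≤ Subgroup.normalizer (W : Set G) := by
  intro g _
  rw [Subgroup.mem_normalizer_iff]
  intro x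
  constructor
  · intro hx
    exact hW.conj_mem x hx g
  · intro hx
    have h1 := hW.conj_mem _ hx g⁻¹
    have h2 : g⁻¹ * (g * x * g⁻¹) * g⁻¹⁻¹ = x := by group
    rwa [h2] at h1

theorem h4_r4_mem_normalizer_of_normal {W : Subgroup G} (hW : W.Normal) (g : G) :
    g ∈ Subgroup.normalizer (W : Set G) :=
  h4_r4_le_normalizer_of_normal hW ⊤ (Subgroup.mem_top g)

/-- for `p ∈ σ`, `p ≠ a`, some element of order `p` centralizes the generator of a normal subgroup
of order `a` -/
theorem h4_r4_prime_dvd_centralizer [Finite G] {σ : Finset ℕ} (h : MinCex σ G) {a : ℕ} (ha : a ∈ σ)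
    {x : G} (hx : orderOf x = a) (hn : (Subgroup.zpowers x).Normal) {p : ℕ} (hp : p ∈ σ) :
    p ∣ Nat.card (Subgroup.centralizer ({x} : Set G)) := by
  have hpp := h.prime p hp
  have hap := h.prime a ha
  obtain ⟨A, -, hA⟩ := h.rank p hp
  have hW1 : Subgroup.zpowers x ≠ ⊥ := by
    intro h0
    rw [Subgroup.zpowers_eq_bot] at h0
    rw [h0, orderOf_one] at hx
    exact hap.ne_one hx.symm
  have hWa : IsPGroup a (Subgroup.zpowers x) := by
    have hc : Nat.card (Subgroup.zpowers x) = a ^ 1 := by rw [Nat.card_zpowers, hx, pow_one]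
    have : Fact a.Prime := ⟨hap⟩
    exact IsPGroup.of_card hc
  have hAW : A ≤ Subgroup.normalizer ((Subgroup.zpowers x : Subgroup G) : Set G) :=
    h4_r4_le_normalizer_of_normal hn A
  obtain ⟨a', -, ha'o, w, hwW, hwo, hcomm⟩ := exists_commute_of_sq' hpp hap hA hW1 hWa hAW
  have hxw : x ∈ Subgroup.zpowers w := by
    have hle : Subgroup.zpowers w ≤ Subgroup.zpowers x := Subgroup.zpowers_le.mpr hwW
    have hcard : Nat.card (Subgroup.zpowers x) ≤ Nat.card (Subgroup.zpowers w) := by
      rw [Nat.card_zpowers, Nat.card_zpowers, hx, hwo]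
    have := Subgroup.eq_of_le_of_card_ge hle hcard
    rw [this]; exact Subgroup.mem_zpowers x
  have hcx : a' * x = x * a' := by
    obtain ⟨k, hk⟩ := Subgroup.mem_zpowers_iff.mp hxw
    rw [← hk]
    exact ((show Commute a' w from hcomm).zpow_right k).eq
  have hmem : a' ∈ Subgroup.centralizer ({x} : Set G) := by
    rw [Subgroup.mem_centralizer_singleton_iff]
    exact hcx
  have ho : orderOf (⟨a', hmem⟩ : Subgroup.centralizer ({x} : Set G)) = p := by
    rw [← ha'o]; exact Subgroup.orderOf_mk a' hmem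
  rw [← ho]; exact orderOf_dvd_natCard _

/-- a normal subgroup of prime order `a ∈ σ` is impossible -/
theorem MinCex.no_normal_prime_order [Finite G] {σ : Finset ℕ} (h : MinCex σ G) {a : ℕ} (ha : a ∈ σ)
    {x : G} (hx : orderOf x = a) (hn : (Subgroup.zpowers x).Normal) : False := by
  classical
  -- another prime `b`
  have hcard : (σ.erase a).card = 3 := by rw [Finset.card_erase_of_mem ha, h.card4]
  have hne : (σ.erase a).Nonempty := by
    rw [← Finset.card_pos, hcard]; norm_num
  obtain ⟨b, hb⟩ := hne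
  have hba : b ≠ a := (Finset.mem_erase.mp hb).1
  have hbσ : b ∈ σ := (Finset.mem_erase.mp hb).2
  obtain ⟨c, hc, d, hd, hcd, hca, hcb, hda, hdb, -⟩ := h.exists_two_others ha hbσ (Ne.symm hba)
  have hs : Group.IsSolvable (Subgroup.centralizer ({x} : Set G)) := by
    have := h.solv
    infer_instance
  obtain ⟨g, hg⟩ := exists_mixed_of_three_primes hs (h.prime b hbσ) (h.prime c hc) (h.prime d hd)
    (Ne.symm hcb) (Ne.symm hdb) hcd
    (h4_r4_prime_dvd_centralizer h ha hx hn hbσ) (h4_r4_prime_dvd_centralizer h ha hx hn hc)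
    (h4_r4_prime_dvd_centralizer h ha hx hn hd)
  have hgx : x * (g : G) = (g : G) * x := by
    have := g.2
    rw [Subgroup.mem_centralizer_singleton_iff] at this
    exact this.symm
  have hog : orderOf (g : G) = orderOf g := Subgroup.orderOf_coe g
  rcases hg with hg | hg | hg
  · exact h.no_commute_mixed ha hbσ hc (Ne.symm hba) (Ne.symm hca) (Ne.symm hcb) hx hgx
      (by rw [hog]; exact hg)
  · exact h.no_commute_mixed ha hbσ hd (Ne.symm hba) (Ne.symm hda) (Ne.symm hdb) hx hgx
      (by rw [hog]; exact hg)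
  · exact h.no_commute_mixed ha hc hd (Ne.symm hca) (Ne.symm hda) hcd hx hgx
      (by rw [hog]; exact hg)

end Cfsg.Agent.Lib.Helper2.R4
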