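import Cfsg.Agent.Lib.Helper4.R4B2a
import Cfsg.Agent.Lib.Helper2.R4A3
import Cfsg.Agent.Lib.Helper1.MinimalNormal
import Cfsg.Agent.Lib.Helper7.PG1

/-! S3814 farm, unit B2b: (R3) a minimal normal subgroup of a minimal counterexample is an abelian
normal Sylow `a`-subgroup with `E2`. -/
set_option autoImplicit false

namespace Cfsg.Agent.Lib.Helper2.R4

variable {G : Type*} [Group G]

/-- minimality: a subgroup with all `E2` is everything -/
theorem h4_r4_eq_top_of_E2 {σ : Finset ℕ} (h : MinCex σ G) {K : Subgroup G}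
    (hK : ∀ p ∈ σ, E2 p K) : K = ⊤ := by
  by_contra hne
  obtain ⟨p, hp, hnp⟩ := h.min K hne
  exact hnp (hK p hp)

/-- existence of a Hall `a'`-subgroup, in the form used here -/
theorem h4_r4_exists_hall_compl [Finite G] (hs : Group.IsSolvable G) {a : ℕ} (hap : a.Prime) :
    ∃ M : Subgroup G, (Nat.card M).Coprime a ∧ ∀ q : ℕ, q.Prime → q ∣ M.index → q = a := by
  obtain ⟨M, hM1, hM2⟩ := Cfsg.Agent.Lib.Helper7.PG.exists_hall (X := G) (({a} : Set ℕ)ᶜ)
  refine ⟨M, ?_, ?_⟩
  · have : ¬ a ∣ Nat.card M := by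
      intro hd
      exact hM1 a hap hd rfl
    exact ((Nat.Prime.coprime_iff_not_dvd hap).mpr this).symm
  · intro q hq hqd
    have := hM2 q hq hqd
    simpa using this

/-- existence of a Hall `{a,b}'`-subgroup -/
theorem h4_r4_exists_hall_compl2 [Finite G] (hs : Group.IsSolvable G) {a b : ℕ} (hap : a.Prime)
    (hbp : b.Prime) :
    ∃ M : Subgroup G, (Nat.card M).Coprime a ∧ (Nat.card M).Coprime b ∧
      ∀ q : ℕ, q.Prime → q ∣ M.index → q = a ∨ q = b := by
  obtain ⟨M, hM1, hM2⟩ := Cfsg.Agent.Lib.Helper7.PG.exists_hall (X := G) (({a, b} : Set ℕ)ᶜ)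
  refine ⟨M, ?_, ?_, ?_⟩
  · have : ¬ a ∣ Nat.card M := by
      intro hd
      exact hM1 a hap hd (by simp)
    exact ((Nat.Prime.coprime_iff_not_dvd hap).mpr this).symm
  · have : ¬ b ∣ Nat.card M := by
      intro hd
      exact hM1 b hbp hd (by simp)
    exact ((Nat.Prime.coprime_iff_not_dvd hbp).mpr this).symm
  · intro q hq hqd
    have := hM2 q hq hqd
    simpa using this

/-- `V ⊔ M = ⊤` for a Hall `a'`-subgroup `M`, if `V` has `E2 a` -/
theorem h4_r4_sup_hall_eq_top [Finite G] {σ : Finset ℕ} (h : MinCex σ G) {a : ℕ}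
    {V : Subgroup G} (hE : E2 a V) {M : Subgroup G}
    (hMi : ∀ q : ℕ, q.Prime → q ∣ M.index → q = a) : V ⊔ M = ⊤ := by
  apply h4_r4_eq_top_of_E2 h
  intro p hp
  by_cases hpa : p = a
  · subst hpa; exact hE.mono le_sup_left
  · have hpp := h.prime p hp
    have hnd : ¬ p ∣ M.index := fun hd => hpa (hMi p hpp hd)
    exact (E2.of_not_dvd_index hpp hnd (h.rank p hp)).mono le_sup_right

/-- if `V` is normal and `V ⊔ M = ⊤` then the index of `V` divides `|M|` -/
theorem h4_r4_index_dvd_card_of_sup_eq_top [Finite G] {V M : Subgroup G} (hVn : V.Normal)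
    (hsup : V ⊔ M = ⊤) : V.index ∣ Nat.card M := by
  have h1 : V.relIndex (V ⊔ M) = V.relIndex M := by
    have := hVn
    exact Subgroup.relIndex_sup_left M V
  rw [hsup, Subgroup.relIndex_top_right] at h1
  rw [h1]
  exact Subgroup.index_dvd_card _

/-- (R3) -/
theorem MinCex.minNormal_sylow [Finite G] {σ : Finset ℕ} (h : MinCex σ G) {V : Subgroup G}
    (hVn : V.Normal) (hV : V ≠ ⊥)
    (hmin : ∀ N : Subgroup G, N.Normal → N ≤ V → N = ⊥ ∨ N = V) :
    ∃ a ∈ σ, IsPGroup a V ∧ (∀ v ∈ V, ∀ w ∈ V, v * w = w * v) ∧ E2 a V ∧ ¬ a ∣ V.index := by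
  have hsolv := h.solv
  obtain ⟨hcomm, a, hap, hexp⟩ := Cfsg.Agent.Lib.Helper1.minimal_normal_of_solvable V hV hmin
  have hfa : Fact a.Prime := ⟨hap⟩
  have hVa : IsPGroup a V := by
    intro g
    refine ⟨1, ?_⟩
    rw [pow_one]
    apply Subtype.ext
    have := hexp g g.2
    simpa using this
  have hab : ∀ v ∈ V, ∀ w ∈ V, v * w = w * v := by
    intro v hv w hw
    have := hcomm.is_comm.comm (⟨v, hv⟩ : V) ⟨w, hw⟩
    exact congrArg Subtype.val this
  have hcard1 : Nat.card V ≠ 1 := fun h1 => hV (Subgroup.card_eq_one.mp h1)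
  have haV : a ∣ Nat.card V := by
    rcases hVa.card_eq_or_dvd with h1 | h1
    · exact absurd h1 hcard1
    · exact h1
  have haσ : a ∈ σ := h.prime_mem hap (haV.trans (Subgroup.card_subgroup_dvd_card V))
  have hE : E2 a V := by
    by_contra hE
    have hc := card_eq_of_not_E2_of_exp hap hV hexp hE
    obtain ⟨x, hx1⟩ := (Subgroup.ne_bot_iff_exists_ne_one).mp hV
    have hx1' : (x : G) ≠ 1 := fun h0 => hx1 (Subtype.ext h0)
    have hox : orderOf (x : G) = a := by
      exact orderOf_eq_prime (hexp x x.2) hx1'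
    have hle : Subgroup.zpowers (x : G) ≤ V := Subgroup.zpowers_le.mpr x.2
    have heq : Subgroup.zpowers (x : G) = V := by
      apply Subgroup.eq_of_le_of_card_ge hle
      rw [Nat.card_zpowers, hox, hc]
    exact h.no_normal_prime_order haσ hox (by rw [heq]; exact hVn)
  refine ⟨a, haσ, hVa, hab, hE, ?_⟩
  obtain ⟨M, hMc, hMi⟩ := h4_r4_exists_hall_compl hsolv hap
  have hsup := h4_r4_sup_hall_eq_top h hE hMi
  have hdvd := h4_r4_index_dvd_card_of_sup_eq_top hVn hsup
  intro had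
  have := (Nat.Prime.coprime_iff_not_dvd hap).mp hMc.symm
  exact this (had.trans hdvd)

end Cfsg.Agent.Lib.Helper2.R4
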