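import Cfsg.Agent.Lib.Helper4.R4B2b

/-! S3814 farm, unit B3b: Case I arises when the minimal normal subgroup is unique. -/
set_option autoImplicit false

namespace Cfsg.Agent.Lib.Helper2.R4

variable {G : Type*} [Group G]

theorem h4_r4_le_normalizer_of_conj {A N : Subgroup G}
    (hA : ∀ g ∈ A, ∀ n ∈ N, g * n * g⁻¹ ∈ N) : A ≤ Subgroup.normalizer (N : Set G) := by
  intro g hg
  rw [Subgroup.mem_normalizer_iff]
  intro x
  constructor
  · intro hx
    exact hA g hg x hx
  · intro hx
    have h1 := hA g⁻¹ (A.inv_mem hg) _ hx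
    have h2 : g⁻¹ * (g * x * g⁻¹) * g⁻¹⁻¹ = x := by group
    rwa [h2] at h1

theorem h4_r4_normal_of_top_le_normalizer {N : Subgroup G}
    (h : ⊤ ≤ Subgroup.normalizer (N : Set G)) : N.Normal := by
  constructor
  intro n hn g
  have hg : g ∈ Subgroup.normalizer (N : Set G) := h (Subgroup.mem_top g)
  exact (Subgroup.mem_normalizer_iff.mp hg n).mp hn

/-- elements centralizing `V` are fixed under conjugation by `V` -/
theorem h4_r4_conj_of_centralizes {V : Subgroup G} {n g : G} (hg : g ∈ V)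
    (hn : n ∈ Subgroup.centralizer (V : Set G)) : g * n * g⁻¹ = n := by
  have := Subgroup.mem_centralizer_iff.mp hn g hg
  rw [this, mul_inv_cancel_right]

/-- the centralizer of a normal subgroup is closed under conjugation -/
theorem h4_r4_conj_mem_centralizer {V : Subgroup G} (hVn : V.Normal) {n : G}
    (hn : n ∈ Subgroup.centralizer (V : Set G)) (h : G) :
    h * n * h⁻¹ ∈ Subgroup.centralizer (V : Set G) := by
  rw [Subgroup.mem_centralizer_iff]
  intro v hv
  have hv' : h⁻¹ * v * h ∈ V := by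
    have := hVn.conj_mem v hv h⁻¹
    simpa using this
  have hc := Subgroup.mem_centralizer_iff.mp hn _ hv'
  calc v * (h * n * h⁻¹) = h * ((h⁻¹ * v * h) * n) * h⁻¹ := by group
    _ = h * (n * (h⁻¹ * v * h)) * h⁻¹ := by rw [hc]
    _ = h * n * h⁻¹ * v := by group

/-- Case I -/
theorem MinCex.caseI_of_unique [Finite G] {σ : Finset ℕ} (h : MinCex σ G) {V : Subgroup G}
    (hVn : V.Normal) (hV : V ≠ ⊥)
    (hmin : ∀ N : Subgroup G, N.Normal → N ≤ V → N = ⊥ ∨ N = V)
    (huniq : ∀ N : Subgroup G, N.Normal → N ≠ ⊥ → V ≤ N) :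
    ∃ (a : ℕ) (H : Subgroup G), CaseI σ a V H := by
  obtain ⟨a, haσ, hVa, hab, hE, -⟩ := h.minNormal_sylow hVn hV hmin
  have hap := h.prime a haσ
  obtain ⟨H, hHc, hHi⟩ := h4_r4_exists_hall_compl h.solv hap
  have hsup := h4_r4_sup_hall_eq_top h hE hHi
  refine ⟨a, H, ⟨h, haσ, hVn, hVa, hab, hV, hHc, hsup, ?_⟩⟩
  -- faithfulness
  set N : Subgroup G := H ⊓ Subgroup.centralizer (V : Set G) with hN
  have hNn : N.Normal := by
    apply h4_r4_normal_of_top_le_normalizer
    rw [← hsup]
    apply sup_le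
    · apply h4_r4_le_normalizer_of_conj
      intro g hg n hn
      rw [h4_r4_conj_of_centralizes hg hn.2]
      exact hn
    · apply h4_r4_le_normalizer_of_conj
      intro g hg n hn
      exact ⟨H.mul_mem (H.mul_mem hg hn.1) (H.inv_mem hg), h4_r4_conj_mem_centralizer hVn hn.2 g⟩
  have hNbot : N = ⊥ := by
    by_contra hne
    have hVN : V ≤ N := huniq N hNn hne
    have hVH : V ≤ H := hVN.trans inf_le_left
    -- `a ∣ |V| ∣ |H|`, but `|H|` is prime to `a`
    have hfa : Fact a.Prime := ⟨hap⟩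
    have hcard1 : Nat.card V ≠ 1 := fun h1 => hV (Subgroup.card_eq_one.mp h1)
    have haV : a ∣ Nat.card V := by
      rcases hVa.card_eq_or_dvd with h1 | h1
      · exact absurd h1 hcard1
      · exact h1
    have haH : a ∣ Nat.card H := haV.trans (Subgroup.card_dvd_of_le hVH)
    exact (Nat.Prime.coprime_iff_not_dvd hap).mp hHc.symm haH
  intro x hxH hxV
  have hxC : x ∈ Subgroup.centralizer (V : Set G) := by
    rw [Subgroup.mem_centralizer_iff]
    intro v hv
    exact (hxV v hv).symm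
  have hxN : x ∈ N := Subgroup.mem_inf.mpr ⟨hxH, hxC⟩
  rw [hNbot] at hxN
  exact Subgroup.mem_bot.mp hxN

end Cfsg.Agent.Lib.Helper2.R4
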