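import Cfsg.Agent.Lib.Helper4.R4B3b
import Cfsg.Agent.Lib.Helper2.R4B3a

/-! S3814 farm, unit B3c: Case II arises from two distinct minimal normal subgroups. -/
set_option autoImplicit false

namespace Cfsg.Agent.Lib.Helper2.R4

variable {G : Type*} [Group G]

/-- an `a`-subgroup lies in a normal subgroup of index prime to `a` -/
theorem h4_r4_le_of_isPGroup_of_not_dvd_index [Finite G] {V : Subgroup G} (hVn : V.Normal) {a : ℕ}
    (hap : a.Prime) (hi : ¬ a ∣ V.index) {W : Subgroup G} (hW : IsPGroup a W) : W ≤ V := by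
  have := hVn
  intro x hx
  obtain ⟨k, hk⟩ := hW ⟨x, hx⟩
  have hk' : x ^ a ^ k = 1 := by
    have := congrArg Subtype.val hk
    simpa using this
  have h1 : ((x : G ⧸ V)) ^ (a ^ k) = 1 := by
    rw [← QuotientGroup.mk_pow, hk', QuotientGroup.mk_one]
  have h2 : ((x : G ⧸ V)) ^ V.index = 1 := by
    rw [Subgroup.index_eq_card]
    exact pow_card_eq_one'
  have hcop : Nat.Coprime (a ^ k) V.index :=
    Nat.Coprime.pow_left k ((Nat.Prime.coprime_iff_not_dvd hap).mpr hi)
  have h3 : ((x : G ⧸ V)) ^ (Nat.gcd (a ^ k) V.index) = 1 := pow_gcd_eq_one.mpr ⟨h1, h2⟩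
  rw [hcop, pow_one] at h3
  exact (QuotientGroup.eq_one_iff x).mp h3

/-- a nontrivial element of order `a` in a subgroup with `E2 a` -/
theorem h4_r4_exists_orderOf_of_E2 {a : ℕ} (hap : a.Prime) {V : Subgroup G} (hE : E2 a V) :
    ∃ x ∈ V, orderOf x = a := by
  obtain ⟨A, hAV, hA⟩ := hE
  obtain ⟨x, hx1⟩ := (Subgroup.ne_bot_iff_exists_ne_one).mp (hA.ne_bot hap)
  have hx1' : (x : G) ≠ 1 := fun h0 => hx1 (Subtype.ext h0)
  exact ⟨x, hAV x.2, hA.orderOf_eq hap x.2 hx1'⟩

/-- Case II -/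
theorem MinCex.caseII_of_two [Finite G] {σ : Finset ℕ} (h : MinCex σ G) {V V' : Subgroup G}
    (hVn : V.Normal) (hV : V ≠ ⊥)
    (hmin : ∀ N : Subgroup G, N.Normal → N ≤ V → N = ⊥ ∨ N = V)
    (hVn' : V'.Normal) (hV' : V' ≠ ⊥)
    (hmin' : ∀ N : Subgroup G, N.Normal → N ≤ V' → N = ⊥ ∨ N = V') (hne : V ≠ V') :
    ∃ (a b : ℕ) (L : Subgroup G), CaseII σ a b V V' L := by
  obtain ⟨a, haσ, hVa, hab, hE, hai⟩ := h.minNormal_sylow hVn hV hmin
  obtain ⟨b, hbσ, hVb, hab', hE', hbi⟩ := h.minNormal_sylow hVn' hV' hmin'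
  have hap := h.prime a haσ
  have hbp := h.prime b hbσ
  have hfa : Fact a.Prime := ⟨hap⟩
  have hfb : Fact b.Prime := ⟨hbp⟩
  have hneab : a ≠ b := by
    rintro rfl
    have hle : V' ≤ V := h4_r4_le_of_isPGroup_of_not_dvd_index hVn hap hai hVb
    rcases hmin V' hVn' hle with h0 | h0
    · exact hV' h0
    · exact hne h0.symm
  obtain ⟨L, hLa, hLb, hLi⟩ := h4_r4_exists_hall_compl2 h.solv hap hbp
  have hsup : V ⊔ V' ⊔ L = ⊤ := by
    apply h4_r4_eq_top_of_E2 h
    intro p hp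
    by_cases hpa : p = a
    · subst hpa; exact hE.mono (le_sup_left.trans le_sup_left)
    · by_cases hpb : p = b
      · subst hpb; exact hE'.mono (le_sup_right.trans le_sup_left)
      · have hpp := h.prime p hp
        have hnd : ¬ p ∣ L.index := by
          intro hd
          rcases hLi p hpp hd with h0 | h0
          · exact hpa h0
          · exact hpb h0
        exact (E2.of_not_dvd_index hpp hnd (h.rank p hp)).mono le_sup_right
  refine ⟨a, b, L, ⟨h, haσ, hbσ, hneab, hVn, hVn', hVa, hVb, hab, hab', hV, hV', hmin, hmin',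
    hLa, hLb, hsup, ?_⟩⟩
  -- faithfulness
  set N : Subgroup G :=
    L ⊓ Subgroup.centralizer (V : Set G) ⊓ Subgroup.centralizer (V' : Set G) with hN
  have hNn : N.Normal := by
    apply h4_r4_normal_of_top_le_normalizer
    rw [← hsup]
    apply sup_le
    · apply sup_le
      · apply h4_r4_le_normalizer_of_conj
        intro g hg n hn
        rw [h4_r4_conj_of_centralizes hg hn.1.2]
        exact hn
      · apply h4_r4_le_normalizer_of_conj
        intro g hg n hn
        rw [h4_r4_conj_of_centralizes hg hn.2]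
        exact hn
    · apply h4_r4_le_normalizer_of_conj
      intro g hg n hn
      exact ⟨⟨L.mul_mem (L.mul_mem hg hn.1.1) (L.inv_mem hg),
        h4_r4_conj_mem_centralizer hVn hn.1.2 g⟩, h4_r4_conj_mem_centralizer hVn' hn.2 g⟩
  have hNbot : N = ⊥ := by
    by_contra hNne
    obtain ⟨V'', hVn'', hV''1, hV''N, hmin''⟩ := exists_minNormal_le hNn hNne
    obtain ⟨c, hcσ, hVc, -, hE'', -⟩ := h.minNormal_sylow hVn'' hV''1 hmin''
    have hcp := h.prime c hcσ
    have hV''L : V'' ≤ L := hV''N.trans (inf_le_left.trans inf_le_left)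
    -- `c ∣ |L|`
    have hfc : Fact c.Prime := ⟨hcp⟩
    have hcard1 : Nat.card V'' ≠ 1 := fun h1 => hV''1 (Subgroup.card_eq_one.mp h1)
    have hcV : c ∣ Nat.card V'' := by
      rcases hVc.card_eq_or_dvd with h1 | h1
      · exact absurd h1 hcard1
      · exact h1
    have hcL : c ∣ Nat.card L := hcV.trans (Subgroup.card_dvd_of_le hV''L)
    have hca : c ≠ a := by
      rintro rfl
      exact (Nat.Prime.coprime_iff_not_dvd hcp).mp hLa.symm hcL
    have hcb : c ≠ b := by
      rintro rfl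
      exact (Nat.Prime.coprime_iff_not_dvd hcp).mp hLb.symm hcL
    obtain ⟨x, hxV, hxo⟩ := h4_r4_exists_orderOf_of_E2 hap hE
    obtain ⟨y, hyV, hyo⟩ := h4_r4_exists_orderOf_of_E2 hbp hE'
    obtain ⟨z, hzV, hzo⟩ := h4_r4_exists_orderOf_of_E2 hcp hE''
    have hxy : Commute x y := Subgroup.commute_of_normal_of_disjoint V V' hVn hVn'
      (IsPGroup.disjoint_of_ne a b hneab V V' hVa hVb) x y hxV hyV
    have hxz : Commute x z := Subgroup.commute_of_normal_of_disjoint V V'' hVn hVn''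
      (IsPGroup.disjoint_of_ne a c (Ne.symm hca) V V'' hVa hVc) x z hxV hzV
    have hyz : Commute y z := Subgroup.commute_of_normal_of_disjoint V' V'' hVn' hVn''
      (IsPGroup.disjoint_of_ne b c (Ne.symm hcb) V' V'' hVb hVc) y z hyV hzV
    exact h.no_commute3 haσ hbσ hcσ hneab (Ne.symm hca) (Ne.symm hcb) hxo hyo hzo hxy.eq hxz.eq
      hyz.eq
  intro x hxL hxV hxV'
  have hxC : x ∈ Subgroup.centralizer (V : Set G) := by
    rw [Subgroup.mem_centralizer_iff]
    intro v hv
    exact (hxV v hv).symm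
  have hxC' : x ∈ Subgroup.centralizer (V' : Set G) := by
    rw [Subgroup.mem_centralizer_iff]
    intro v hv
    exact (hxV' v hv).symm
  have hxN : x ∈ N := Subgroup.mem_inf.mpr ⟨Subgroup.mem_inf.mpr ⟨hxL, hxC⟩, hxC'⟩
  rw [hNbot] at hxN
  exact Subgroup.mem_bot.mp hxN

end Cfsg.Agent.Lib.Helper2.R4
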