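import Cfsg.Agent.Lib.Helper4.R4B3c

/-! S3814 farm, unit B3d: the case division. -/
set_option autoImplicit false

namespace Cfsg.Agent.Lib.Helper2.R4

variable {G : Type*} [Group G]

theorem MinCex.exists_case [Finite G] {σ : Finset ℕ} (h : MinCex σ G) :
    (∃ (a : ℕ) (V H : Subgroup G), CaseI σ a V H) ∨
      ∃ (a b : ℕ) (V V' L : Subgroup G), CaseII σ a b V V' L := by
  classical
  -- `G` is nontrivial
  have hσ : σ.Nonempty := by
    rw [← Finset.card_pos, h.card4]; norm_num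
  obtain ⟨p, hp⟩ := hσ
  have hpp := h.prime p hp
  have htop : (⊤ : Subgroup G) ≠ ⊥ := by
    intro h0
    have h1 : Nat.card (⊤ : Subgroup G) = 1 := Subgroup.card_eq_one.mpr h0
    have h2 := (h.rank p hp).sq_dvd_card
    rw [h1, Nat.dvd_one] at h2
    have h3 : p = 1 := by
      have h4 : p ∣ p ^ 2 := dvd_pow_self p (by norm_num)
      rw [h2] at h4
      exact Nat.dvd_one.mp h4
    exact hpp.ne_one h3
  obtain ⟨V, hVn, hV1, -, hmin⟩ := exists_minNormal_le (G := G) (N := ⊤) inferInstance htop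
  by_cases huniq : ∀ N : Subgroup G, N.Normal → N ≠ ⊥ → V ≤ N
  · left
    obtain ⟨a, H, hc⟩ := h.caseI_of_unique hVn hV1 hmin huniq
    exact ⟨a, V, H, hc⟩
  · right
    push Not at huniq
    obtain ⟨N, hNn, hN1, hVN⟩ := huniq
    obtain ⟨V', hVn', hV'1, hV'N, hmin'⟩ := exists_minNormal_le hNn hN1
    have hne : V ≠ V' := by
      rintro rfl
      exact hVN hV'N
    obtain ⟨a, b, L, hc⟩ := h.caseII_of_two hVn hV1 hmin hVn' hV'1 hmin' hne
    exact ⟨a, b, V, V', L, hc⟩

end Cfsg.Agent.Lib.Helper2.R4
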