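import Mathlib

set_option autoImplicit false
set_option maxHeartbeats 4000000
set_option maxRecDepth 100000
set_option linter.unusedVariables false
set_option linter.unusedSectionVars false
set_option linter.style.longLine false

namespace Cfsg.Agent.Lib.Helper5.RI47

universe u

variable {G : Type u} [Group G]

/-! ### P1 : RI47Mod  (pure group theory: the module `N0 = <ρ^i b ρ^-i>`) -/

/-- the subgroup generated by the conjugates `ρ^i b ρ^-i` -/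
def N0 (ρ b : G) : Subgroup G := Subgroup.closure (Set.range fun i : ℕ => ρ ^ i * b * (ρ ^ i)⁻¹)

/-- the map `p ↦ p * (ρ p ρ⁻¹)` (on `N0` it is the homomorphism "multiplication by `1 + t`") -/
def phi (ρ p : G) : G := p * (ρ * p * ρ⁻¹)

theorem b_mem_N0 (ρ b : G) : b ∈ N0 ρ b := by
  apply Subgroup.subset_closure
  exact ⟨0, by simp⟩

/-- the generators commute pairwise -/
theorem gen_comm_aux {b ρ : G}
    (hcomm : ∀ i : ℕ, b * (ρ ^ i * b * (ρ ^ i)⁻¹) = (ρ ^ i * b * (ρ ^ i)⁻¹) * b) (i k : ℕ) :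
    (ρ ^ i * b * (ρ ^ i)⁻¹) * (ρ ^ (i + k) * b * (ρ ^ (i + k))⁻¹) =
      (ρ ^ (i + k) * b * (ρ ^ (i + k))⁻¹) * (ρ ^ i * b * (ρ ^ i)⁻¹) := by
  have h := hcomm k
  have e1 : (ρ ^ i * b * (ρ ^ i)⁻¹) * (ρ ^ (i + k) * b * (ρ ^ (i + k))⁻¹) =
      ρ ^ i * (b * (ρ ^ k * b * (ρ ^ k)⁻¹)) * (ρ ^ i)⁻¹ := by
    rw [pow_add]; group
  have e2 : (ρ ^ (i + k) * b * (ρ ^ (i + k))⁻¹) * (ρ ^ i * b * (ρ ^ i)⁻¹) =
      ρ ^ i * ((ρ ^ k * b * (ρ ^ k)⁻¹) * b) * (ρ ^ i)⁻¹ := by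
    rw [pow_add]; group
  rw [e1, e2, h]

theorem gen_comm_aux2 {b ρ : G}
    (hcomm : ∀ i : ℕ, b * (ρ ^ i * b * (ρ ^ i)⁻¹) = (ρ ^ i * b * (ρ ^ i)⁻¹) * b) (i j : ℕ) :
    (ρ ^ i * b * (ρ ^ i)⁻¹) * (ρ ^ j * b * (ρ ^ j)⁻¹) =
      (ρ ^ j * b * (ρ ^ j)⁻¹) * (ρ ^ i * b * (ρ ^ i)⁻¹) := by
  rcases le_total i j with h | h
  · obtain ⟨k, rfl⟩ := Nat.exists_eq_add_of_le h
    exact gen_comm_aux hcomm i k
  · obtain ⟨k, rfl⟩ := Nat.exists_eq_add_of_le h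
    exact (gen_comm_aux hcomm j k).symm

theorem N0_comm {b ρ : G}
    (hcomm : ∀ i : ℕ, b * (ρ ^ i * b * (ρ ^ i)⁻¹) = (ρ ^ i * b * (ρ ^ i)⁻¹) * b)
    {p q : G} (hp : p ∈ N0 ρ b) (hq : q ∈ N0 ρ b) : p * q = q * p := by
  -- every generator centralizes N0
  have h1 : ∀ q ∈ N0 ρ b, ∀ i : ℕ, (ρ ^ i * b * (ρ ^ i)⁻¹) * q = q * (ρ ^ i * b * (ρ ^ i)⁻¹) := by
    intro q hq i
    have hle : N0 ρ b ≤ Subgroup.centralizer {ρ ^ i * b * (ρ ^ i)⁻¹} := by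
      unfold N0
      rw [Subgroup.closure_le]
      rintro _ ⟨j, rfl⟩
      simp only [SetLike.mem_coe, Subgroup.mem_centralizer_iff, Set.mem_singleton_iff]
      rintro _ rfl
      exact gen_comm_aux2 hcomm i j
    have := hle hq
    rw [Subgroup.mem_centralizer_iff] at this
    exact this _ rfl
  have hle : N0 ρ b ≤ Subgroup.centralizer {q} := by
    unfold N0
    rw [Subgroup.closure_le]
    rintro _ ⟨j, rfl⟩
    simp only [SetLike.mem_coe, Subgroup.mem_centralizer_iff, Set.mem_singleton_iff]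
    rintro _ rfl
    exact (h1 _ hq j).symm
  have := hle hp
  rw [Subgroup.mem_centralizer_iff] at this
  exact (this _ rfl).symm

theorem N0_sq {b ρ : G} (hb : b * b = 1)
    (hcomm : ∀ i : ℕ, b * (ρ ^ i * b * (ρ ^ i)⁻¹) = (ρ ^ i * b * (ρ ^ i)⁻¹) * b)
    {p : G} (hp : p ∈ N0 ρ b) : p * p = 1 := by
  have key : ∀ p, p ∈ N0 ρ b → p * p = 1 := by
    intro p hp
    unfold N0 at hp
    induction hp using Subgroup.closure_induction with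
    | mem x hx =>
      obtain ⟨i, rfl⟩ := hx
      have : (ρ ^ i * b * (ρ ^ i)⁻¹) * (ρ ^ i * b * (ρ ^ i)⁻¹) = ρ ^ i * (b * b) * (ρ ^ i)⁻¹ := by group
      rw [this, hb]; group
    | one => simp
    | mul x y hx hy ihx ihy =>
      have hc : x * y = y * x := N0_comm hcomm hx hy
      calc x * y * (x * y) = x * (y * x) * y := by group
        _ = x * (x * y) * y := by rw [hc]
        _ = (x * x) * (y * y) := by group
        _ = 1 := by rw [ihx, ihy]; simp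
    | inv x hx ihx =>
      have : x⁻¹ * x⁻¹ = (x * x)⁻¹ := by group
      rw [this, ihx]; simp
  exact key p hp

theorem N0_conj_noFin {b ρ p : G} (hp : p ∈ N0 ρ b) : ρ * p * ρ⁻¹ ∈ N0 ρ b := by
  have hle : N0 ρ b ≤ Subgroup.comap (MulAut.conj ρ).toMonoidHom (N0 ρ b) := by
    conv_lhs => unfold N0
    rw [Subgroup.closure_le]
    rintro _ ⟨j, rfl⟩
    simp only [Subgroup.coe_comap, Set.mem_preimage, MulEquiv.coe_toMonoidHom, MulAut.conj_apply,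
      SetLike.mem_coe]
    apply Subgroup.subset_closure
    refine ⟨j + 1, ?_⟩
    simp only [pow_succ']
    group
  have := hle hp
  simpa [Subgroup.mem_comap] using this

theorem N0_conj [Finite G] {b ρ p : G} (hp : p ∈ N0 ρ b) : ρ * p * ρ⁻¹ ∈ N0 ρ b :=
  N0_conj_noFin hp

theorem N0_conj_pow {b ρ p : G} (hp : p ∈ N0 ρ b) (n : ℕ) : ρ ^ n * p * (ρ ^ n)⁻¹ ∈ N0 ρ b := by
  induction n with
  | zero => simpa using hp
  | succ n ih =>
    have := N0_conj_noFin ih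
    have e : ρ ^ (n + 1) * p * (ρ ^ (n + 1))⁻¹ = ρ * (ρ ^ n * p * (ρ ^ n)⁻¹) * ρ⁻¹ := by
      rw [pow_succ']; group
    rw [e]; exact this

theorem N0_conj_inv [Finite G] {b ρ p : G} (hp : p ∈ N0 ρ b) : ρ⁻¹ * p * ρ ∈ N0 ρ b := by
  have hk : 0 < orderOf ρ := orderOf_pos ρ
  have h1 : ρ ^ (orderOf ρ - 1) = ρ⁻¹ := by
    have : ρ ^ (orderOf ρ - 1) * ρ = 1 := by
      rw [← pow_succ, Nat.sub_add_cancel hk, pow_orderOf_eq_one]
    exact eq_inv_of_mul_eq_one_left this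
  have := N0_conj_pow hp (orderOf ρ - 1)
  rw [h1] at this
  simpa using this

theorem N0_conj_inv_pow [Finite G] {b ρ p : G} (hp : p ∈ N0 ρ b) (n : ℕ) :
    (ρ ^ n)⁻¹ * p * ρ ^ n ∈ N0 ρ b := by
  induction n with
  | zero => simpa using hp
  | succ n ih =>
    have := N0_conj_inv ih
    have e : (ρ ^ (n + 1))⁻¹ * p * ρ ^ (n + 1) = ρ⁻¹ * ((ρ ^ n)⁻¹ * p * ρ ^ n) * ρ := by
      rw [pow_succ']; group
    rw [e]; exact this

theorem N0_conj_a [Finite G] {a b ρ p : G} (ha : a * a = 1) (hab : a * b = b * a)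
    (haρ : a * ρ * a = ρ⁻¹) (hp : p ∈ N0 ρ b) : a * p * a ∈ N0 ρ b := by
  have hainv : a⁻¹ = a := inv_eq_of_mul_eq_one_left ha
  have hle : N0 ρ b ≤ Subgroup.comap (MulAut.conj a).toMonoidHom (N0 ρ b) := by
    conv_lhs => unfold N0
    rw [Subgroup.closure_le]
    rintro _ ⟨j, rfl⟩
    simp only [Subgroup.coe_comap, Set.mem_preimage, MulEquiv.coe_toMonoidHom, MulAut.conj_apply,
      SetLike.mem_coe]
    rw [hainv]
    -- a ρ^j a = (ρ^j)⁻¹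
    have hpow : ∀ n : ℕ, a * ρ ^ n * a = (ρ ^ n)⁻¹ := by
      intro n
      induction n with
      | zero => simpa using ha
      | succ n ih =>
        have : a * ρ ^ (n + 1) * a = (a * ρ ^ n * a) * (a * ρ * a) := by
          rw [pow_succ]
          calc a * (ρ ^ n * ρ) * a = a * ρ ^ n * 1 * ρ * a := by group
            _ = a * ρ ^ n * (a * a) * ρ * a := by rw [ha]
            _ = (a * ρ ^ n * a) * (a * ρ * a) := by group
        rw [this, ih, haρ, pow_succ']; group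
    have hpow' : ∀ n : ℕ, a * (ρ ^ n)⁻¹ * a = ρ ^ n := by
      intro n
      have h := hpow n
      have : a * (ρ ^ n)⁻¹ * a = (a * ρ ^ n * a)⁻¹ := by
        rw [mul_inv_rev, mul_inv_rev, hainv]; group
      rw [this, h, inv_inv]
    have aba : a * b * a = b := by
      rw [hab, mul_assoc, ha, mul_one]
    have e : a * (ρ ^ j * b * (ρ ^ j)⁻¹) * a = (ρ ^ j)⁻¹ * b * ρ ^ j := by
      calc a * (ρ ^ j * b * (ρ ^ j)⁻¹) * a
          = a * ρ ^ j * 1 * b * 1 * (ρ ^ j)⁻¹ * a := by group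
        _ = a * ρ ^ j * (a * a) * b * (a * a) * (ρ ^ j)⁻¹ * a := by rw [ha]
        _ = (a * ρ ^ j * a) * (a * b * a) * (a * (ρ ^ j)⁻¹ * a) := by group
        _ = (ρ ^ j)⁻¹ * b * ρ ^ j := by rw [hpow, aba, hpow']
    rw [e]
    exact N0_conj_inv_pow (b_mem_N0 ρ b) j
  have := hle hp
  have h2 : a * p * a⁻¹ ∈ N0 ρ b := by simpa [Subgroup.mem_comap] using this
  rwa [hainv] at h2

theorem phi_mem [Finite G] {b ρ p : G} (hp : p ∈ N0 ρ b) : phi ρ p ∈ N0 ρ b := by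
  unfold phi
  exact mul_mem hp (N0_conj_noFin hp)

theorem phi_mul [Finite G] {b ρ : G}
    (hcomm : ∀ i : ℕ, b * (ρ ^ i * b * (ρ ^ i)⁻¹) = (ρ ^ i * b * (ρ ^ i)⁻¹) * b)
    {p q : G} (hp : p ∈ N0 ρ b) (hq : q ∈ N0 ρ b) : phi ρ (p * q) = phi ρ p * phi ρ q := by
  unfold phi
  have hc : q * (ρ * p * ρ⁻¹) = (ρ * p * ρ⁻¹) * q := N0_comm hcomm hq (N0_conj_noFin hp)
  calc p * q * (ρ * (p * q) * ρ⁻¹) = p * (q * (ρ * p * ρ⁻¹)) * (ρ * q * ρ⁻¹) := by group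
    _ = p * ((ρ * p * ρ⁻¹) * q) * (ρ * q * ρ⁻¹) := by rw [hc]
    _ = p * (ρ * p * ρ⁻¹) * (q * (ρ * q * ρ⁻¹)) := by group

/-- an element of `N0` centralized by `ρ^r`, provided `ρ^r` commutes with `b` -/
theorem N0_centralized {b ρ p : G} {r : ℕ} (hr : ρ ^ r * b = b * ρ ^ r) (hp : p ∈ N0 ρ b) :
    ρ ^ r * p = p * ρ ^ r := by
  have hle : N0 ρ b ≤ Subgroup.centralizer {ρ ^ r} := by
    unfold N0
    rw [Subgroup.closure_le]
    rintro _ ⟨j, rfl⟩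
    simp only [SetLike.mem_coe, Subgroup.mem_centralizer_iff, Set.mem_singleton_iff]
    rintro _ rfl
    have hcm : ρ ^ r * ρ ^ j = ρ ^ j * ρ ^ r := by rw [← pow_add, ← pow_add, add_comm]
    have hcm' : ρ ^ r * (ρ ^ j)⁻¹ = (ρ ^ j)⁻¹ * ρ ^ r := by
      have : (ρ ^ j)⁻¹ * (ρ ^ r * ρ ^ j) * (ρ ^ j)⁻¹ = (ρ ^ j)⁻¹ * (ρ ^ j * ρ ^ r) * (ρ ^ j)⁻¹ := by
        rw [hcm]
      calc ρ ^ r * (ρ ^ j)⁻¹ = (ρ ^ j)⁻¹ * (ρ ^ j * ρ ^ r) * (ρ ^ j)⁻¹ := by group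
        _ = (ρ ^ j)⁻¹ * (ρ ^ r * ρ ^ j) * (ρ ^ j)⁻¹ := by rw [hcm]
        _ = (ρ ^ j)⁻¹ * ρ ^ r := by group
    calc ρ ^ r * (ρ ^ j * b * (ρ ^ j)⁻¹) = (ρ ^ r * ρ ^ j) * b * (ρ ^ j)⁻¹ := by group
      _ = ρ ^ j * (ρ ^ r * b) * (ρ ^ j)⁻¹ := by rw [hcm]; group
      _ = ρ ^ j * b * (ρ ^ r * (ρ ^ j)⁻¹) := by rw [hr]; group
      _ = ρ ^ j * b * (ρ ^ j)⁻¹ * ρ ^ r := by rw [hcm']; group
  have := hle hp
  rw [Subgroup.mem_centralizer_iff] at this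
  exact (this _ rfl)

end Cfsg.Agent.Lib.Helper5.RI47
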