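import Mathlib

/-! Farm RK3 (S4404), sub-lemmas for LEMMA HHc: (H2) the key identity `M1 = V · zVz⁻¹` and
(H1) the endgame `|R : C_R(M1)| ≤ r`.  Everything is phrased with explicit conjugation in an
ambient group. -/

set_option autoImplicit false

namespace Cfsg.Agent.Lib.Helper4.RK3

variable {G : Type*} [Group G]

/-- Conjugation by an element normalizing `M1`, as an endomorphism of `↥M1`. -/
def conjHom (M1 : Subgroup G) (g : G) (hg : ∀ m ∈ M1, g * m * g⁻¹ ∈ M1) : ↥M1 →* ↥M1 where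
  toFun m := ⟨g * m * g⁻¹, hg m m.2⟩
  map_one' := Subtype.ext (by simp)
  map_mul' a b := Subtype.ext (by simp [mul_assoc])

theorem conjHom_coe (M1 : Subgroup G) (g : G) (hg : ∀ m ∈ M1, g * m * g⁻¹ ∈ M1) (m : ↥M1) :
    ((conjHom M1 g hg m : ↥M1) : G) = g * m * g⁻¹ := rfl

theorem conjHom_injective (M1 : Subgroup G) (g : G) (hg : ∀ m ∈ M1, g * m * g⁻¹ ∈ M1) :
    Function.Injective (conjHom M1 g hg) := by
  intro a b hab
  have h := congrArg Subtype.val hab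
  rw [conjHom_coe, conjHom_coe] at h
  have h2 : (a : G) = b := by
    have := congrArg (fun t => g⁻¹ * t * g) h
    simpa [mul_assoc] using this
  exact Subtype.ext h2

/-- (H2) KEY IDENTITY.  `M1` abelian, normalized by `x` and `z`, `[M1, x] ≤ V ≤ M1`, `x z x⁻¹` acts
on `M1` as `z'`, and `z⁻¹ z'` acts freely on `M1`.  Then `M1 = V · (z V z⁻¹)`. -/
theorem key_identity (M1 V : Subgroup G) [Finite M1]
    (hab : ∀ a ∈ M1, ∀ b ∈ M1, a * b = b * a) (x z z' : G)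
    (hx : ∀ m ∈ M1, x * m * x⁻¹ ∈ M1) (hz : ∀ m ∈ M1, z * m * z⁻¹ ∈ M1)
    (hV : ∀ m ∈ M1, x * m * x⁻¹ * m⁻¹ ∈ V)
    (hz' : ∀ m ∈ M1, (x * z * x⁻¹) * m * (x * z * x⁻¹)⁻¹ = z' * m * z'⁻¹)
    (hfree : ∀ m ∈ M1, z' * m * z'⁻¹ = z * m * z⁻¹ → m = 1) :
    ∀ m ∈ M1, ∃ v ∈ V, ∃ w ∈ V, m = v * (z * w * z⁻¹) := by
  classical
  let _ : CommGroup ↥M1 :=
    { (inferInstance : Group ↥M1) with
      mul_comm := fun a b => Subtype.ext (hab a a.2 b b.2) }
  set cx := conjHom M1 x hx with hcx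
  set cz := conjHom M1 z hz with hcz
  have hcx_surj : Function.Surjective cx :=
    Finite.injective_iff_surjective.mp (conjHom_injective M1 x hx)
  -- `z'` normalizes `M1`
  have hz'M : ∀ m ∈ M1, z' * m * z'⁻¹ ∈ M1 := by
    intro m hm
    obtain ⟨m0, hm0⟩ := hcx_surj ⟨m, hm⟩
    have h0 : x * (m0 : G) * x⁻¹ = m := congrArg Subtype.val hm0
    rw [← hz' m hm, ← h0]
    have : x * z * x⁻¹ * (x * (m0 : G) * x⁻¹) * (x * z * x⁻¹)⁻¹ = x * (z * m0 * z⁻¹) * x⁻¹ := by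
      group
    rw [this]
    exact hx _ (hz _ m0.2)
  set cz' := conjHom M1 z' hz'M with hcz'
  -- the map `φ = cz' / cz`
  set φ : ↥M1 →* ↥M1 := cz' / cz with hφ
  have hφinj : Function.Injective φ := by
    rw [injective_iff_map_eq_one]
    intro a ha
    have h1 : cz' a = cz a := by
      have : cz' a / cz a = 1 := ha
      exact div_eq_one.mp this
    have h2 := congrArg Subtype.val h1
    rw [hcz', hcz, conjHom_coe, conjHom_coe] at h2
    exact Subtype.ext (hfree a a.2 h2)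
  have hφsurj : Function.Surjective φ := Finite.injective_iff_surjective.mp hφinj
  intro m hm
  obtain ⟨u, hu⟩ := hφsurj ⟨m, hm⟩
  obtain ⟨m0, hm0⟩ := hcx_surj u
  -- `cz' (cx m0) = cx (cz m0)`
  have h1 : cz' (cx m0) = cx (cz m0) := by
    apply Subtype.ext
    rw [hcz', hcx, hcz, conjHom_coe, conjHom_coe, conjHom_coe, conjHom_coe]
    rw [← hz' _ (hx _ m0.2)]
    group
  set n := cz m0 with hn
  set v1 : ↥M1 := cx n / n with hv1
  set w : ↥M1 := cx m0 / m0 with hw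
  have hv1V : (v1 : G) ∈ V := by
    have : (v1 : G) = x * (n : G) * x⁻¹ * (n : G)⁻¹ := by
      rw [hv1, div_eq_mul_inv]; rfl
    rw [this]
    exact hV _ n.2
  have hwV : (w : G) ∈ V := by
    have : (w : G) = x * (m0 : G) * x⁻¹ * (m0 : G)⁻¹ := by
      rw [hw, div_eq_mul_inv]; rfl
    rw [this]
    exact hV _ m0.2
  have h2 : cx n = v1 * n := by rw [hv1]; simp
  have h3 : cx m0 = w * m0 := by rw [hw]; simp
  have h4 : φ u = v1 * cz w⁻¹ := by
    rw [← hm0]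
    have : φ (cx m0) = cz' (cx m0) / cz (cx m0) := rfl
    rw [this, h1, h2, h3, map_mul, ← hn, map_inv]
    rw [div_eq_mul_inv, mul_inv, mul_comm (cz w)⁻¹ n⁻¹, ← mul_assoc, mul_inv_cancel_right]
  refine ⟨v1, hv1V, (w : G)⁻¹, V.inv_mem hwV, ?_⟩
  have h5 : m = ((v1 * cz w⁻¹ : ↥M1) : G) := congrArg Subtype.val (hu.symm.trans h4)
  rw [h5]
  rfl

/-- Corollary of the key identity: `|M1| ≤ |V|²`. -/
theorem key_card (M1 V : Subgroup G) [Finite M1] (hVM : V ≤ M1)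
    (hab : ∀ a ∈ M1, ∀ b ∈ M1, a * b = b * a) (x z z' : G)
    (hx : ∀ m ∈ M1, x * m * x⁻¹ ∈ M1) (hz : ∀ m ∈ M1, z * m * z⁻¹ ∈ M1)
    (hV : ∀ m ∈ M1, x * m * x⁻¹ * m⁻¹ ∈ V)
    (hz' : ∀ m ∈ M1, (x * z * x⁻¹) * m * (x * z * x⁻¹)⁻¹ = z' * m * z'⁻¹)
    (hfree : ∀ m ∈ M1, z' * m * z'⁻¹ = z * m * z⁻¹ → m = 1) :
    Nat.card ↥M1 ≤ Nat.card ↥V * Nat.card ↥V := by
  have hfinV : Finite ↥V :=
    Finite.of_injective (Subgroup.inclusion hVM) (Subgroup.inclusion_injective hVM)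
  have key := key_identity M1 V hab x z z' hx hz hV hz' hfree
  let f : ↥V × ↥V → ↥M1 := fun p =>
    ⟨(p.1 : G) * (z * (p.2 : G) * z⁻¹), M1.mul_mem (hVM p.1.2) (hz _ (hVM p.2.2))⟩
  have hf : Function.Surjective f := by
    intro m
    obtain ⟨v, hv, w, hw, hm⟩ := key m m.2
    exact ⟨(⟨v, hv⟩, ⟨w, hw⟩), Subtype.ext hm.symm⟩
  have := Nat.card_le_card_of_surjective f hf
  rwa [Nat.card_prod] at this

end Cfsg.Agent.Lib.Helper4.RK3
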