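import Mathlib

/-! Farm RK3 (S4404), sub-lemma (H1) for LEMMA HHc: the endgame `|R : C_R(M1)| ≤ r`. -/

set_option autoImplicit false

namespace Cfsg.Agent.Lib.Helper4.RK3

variable {G : Type*} [Group G]

/-- Orbit bound: the centralizer in `R` of an element `v` of an `R`-invariant finite subgroup `M1`
has relative index at most `|M1|`. -/
theorem relIndex_stab_le (M1 R : Subgroup G) [Finite M1]
    (hRM : R ≤ Subgroup.normalizer (M1 : Set G)) (v : G) (hv : v ∈ M1) :
    (R ⊓ Subgroup.centralizer ({v} : Set G)).relIndex R ≤ Nat.card ↥M1 := by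
  set T : Subgroup G := R ⊓ Subgroup.centralizer ({v} : Set G) with hT
  have hnorm : ∀ g ∈ R, g * v * g⁻¹ ∈ M1 := fun g hg =>
    (Subgroup.mem_normalizer_iff.mp (hRM hg) v).mp hv
  have hmemT : ∀ g : ↥R, g ∈ T.subgroupOf R ↔ (g : G) * v * (g : G)⁻¹ = v := by
    intro g
    rw [Subgroup.mem_subgroupOf, hT, Subgroup.mem_inf, Subgroup.mem_centralizer_singleton_iff]
    constructor
    · rintro ⟨_, h⟩
      rw [h, mul_inv_cancel_right]
    · intro h
      exact ⟨g.2, mul_inv_eq_iff_eq_mul.mp h⟩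
  have key : ∀ a b : ↥R, (a : G) * v * (a : G)⁻¹ = (b : G) * v * (b : G)⁻¹ ↔
      a⁻¹ * b ∈ T.subgroupOf R := by
    intro a b
    rw [hmemT]
    constructor
    · intro h
      have : ((a⁻¹ * b : ↥R) : G) * v * ((a⁻¹ * b : ↥R) : G)⁻¹
          = (a : G)⁻¹ * ((b : G) * v * (b : G)⁻¹) * (a : G) := by
        simp only [Subgroup.coe_mul, Subgroup.coe_inv]; group
      rw [this, ← h]; group
    · intro h
      have : ((a⁻¹ * b : ↥R) : G) * v * ((a⁻¹ * b : ↥R) : G)⁻¹
          = (a : G)⁻¹ * ((b : G) * v * (b : G)⁻¹) * (a : G) := by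
        simp only [Subgroup.coe_mul, Subgroup.coe_inv]; group
      rw [this] at h
      calc (a : G) * v * (a : G)⁻¹
          = (a : G) * ((a : G)⁻¹ * ((b : G) * v * (b : G)⁻¹) * (a : G)) * (a : G)⁻¹ := by rw [h]
        _ = (b : G) * v * (b : G)⁻¹ := by group
  let f : ↥R ⧸ T.subgroupOf R → ↥M1 :=
    Quotient.lift (s := QuotientGroup.leftRel (T.subgroupOf R))
      (fun g : ↥R => (⟨(g : G) * v * (g : G)⁻¹, hnorm g g.2⟩ : ↥M1)) (by
        intro a b hab
        have h : a⁻¹ * b ∈ T.subgroupOf R := QuotientGroup.leftRel_apply.mp hab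
        exact Subtype.ext ((key a b).mpr h))
  have hinj : Function.Injective f := by
    intro q1 q2
    refine Quotient.inductionOn₂ q1 q2 ?_
    intro a b hab
    have h1 : (a : G) * v * (a : G)⁻¹ = (b : G) * v * (b : G)⁻¹ := congrArg Subtype.val hab
    exact Quotient.sound (QuotientGroup.leftRel_apply.mpr ((key a b).mp h1))
  unfold Subgroup.relIndex
  rw [Subgroup.index_eq_card]
  exact Nat.card_le_card_of_injective f hinj

/-- An element of `r`-power order acting freely by conjugation on a finite subgroup `N`: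
`|N| ≡ 1 (mod r)`. -/
theorem card_modEq_one_of_free (N : Subgroup G) [Finite N] (z : G)
    (hzN : ∀ m ∈ N, z * m * z⁻¹ ∈ N) (r n : ℕ) [Fact r.Prime] (hzr : z ^ r ^ n = 1)
    (hfree : ∀ m ∈ N, z * m * z⁻¹ = m → m = 1) : Nat.card ↥N ≡ 1 [MOD r] := by
  classical
  have : Fintype ↥N := Fintype.ofFinite _
  let f : Function.End ↥N := fun m => ⟨z * m * z⁻¹, hzN m m.2⟩
  have hpow : ∀ (k : ℕ) (m : ↥N), (((f ^ k) m : ↥N) : G) = z ^ k * m * (z ^ k)⁻¹ := by
    intro k
    induction k with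
    | zero =>
      intro m
      simp only [pow_zero, one_mul, inv_one, mul_one]
      rfl
    | succ k ih =>
      intro m
      have : (f ^ (k + 1)) m = (f ^ k) (f m) := by
        rw [pow_succ]; rfl
      rw [this, ih]
      show z ^ k * (z * m * z⁻¹) * (z ^ k)⁻¹ = _
      rw [pow_succ]; group
  have hf : f ^ r ^ n = 1 := by
    funext m
    apply Subtype.ext
    rw [hpow, hzr]
    show 1 * (m : G) * 1⁻¹ = (m : G)
    simp
  have h1 := Equiv.Perm.card_fixedPoints_modEq (p := r) (n := n) hf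
  have h2 : Fintype.card ↥(Function.fixedPoints f) = 1 := by
    rw [Fintype.card_eq_one_iff]
    refine ⟨⟨1, ?_⟩, ?_⟩
    · show f 1 = 1
      apply Subtype.ext
      show z * ((1 : ↥N) : G) * z⁻¹ = ((1 : ↥N) : G)
      simp
    · rintro ⟨m, hm⟩
      apply Subtype.ext
      have h3 : f m = m := hm
      have h4 : z * (m : G) * z⁻¹ = m := congrArg Subtype.val h3
      exact Subtype.ext (hfree m m.2 h4)
  rw [h2] at h1
  rw [Nat.card_eq_fintype_card]
  exact h1

theorem arith_aux (r a b : ℕ) (hr5 : 5 ≤ r) (hb1 : 1 ≤ b) (hba : b < a) (ha4 : a ≤ 4)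
    (h1 : 2 ^ a ≡ 1 [MOD r]) (h2 : 2 ^ b ≡ 1 [MOD r]) : False := by
  have d1 : r ∣ 2 ^ a - 1 := (Nat.modEq_iff_dvd' (Nat.one_le_two_pow)).mp h1.symm
  have d2 : r ∣ 2 ^ b - 1 := (Nat.modEq_iff_dvd' (Nat.one_le_two_pow)).mp h2.symm
  have d3 : r ∣ Nat.gcd (2 ^ a - 1) (2 ^ b - 1) := Nat.dvd_gcd d1 d2
  have hle : Nat.gcd (2 ^ a - 1) (2 ^ b - 1) ≤ 3 := by
    interval_cases a <;> interval_cases b <;> decide
  have hpos : 0 < Nat.gcd (2 ^ a - 1) (2 ^ b - 1) := by
    apply Nat.gcd_pos_of_pos_right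
    have : 2 ^ 1 ≤ 2 ^ b := Nat.pow_le_pow_right (by norm_num) hb1
    omega
  have := Nat.le_of_dvd hpos d3
  omega

/-- (H1) ENDGAME.  `M1` an elementary abelian 2-group of order at most 16, `R` an `r`-group
(`r ≥ 5`) normalizing `M1`, `z ∈ R` central modulo `C_R(M1)` and acting freely on `M1`.
Then `|R : C_R(M1)| ≤ r`. -/
theorem endgame [Finite G] (M1 : Subgroup G) (hexp : ∀ m ∈ M1, m ^ 2 = 1)
    (h16 : Nat.card ↥M1 ≤ 16) (r : ℕ) (hr : r.Prime) (hr5 : 5 ≤ r) (R : Subgroup G)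
    (hR : IsPGroup r ↥R) (hRM : R ≤ Subgroup.normalizer (M1 : Set G)) (z : G) (hzR : z ∈ R)
    (hzc : ∀ g ∈ R, z⁻¹ * g * z * g⁻¹ ∈ Subgroup.centralizer (M1 : Set G))
    (hfree : ∀ m ∈ M1, z * m * z⁻¹ = m → m = 1) :
    (R ⊓ Subgroup.centralizer (M1 : Set G)).relIndex R ≤ r := by
  have : Fact r.Prime := ⟨hr⟩
  have : Fact (Nat.Prime 2) := ⟨Nat.prime_two⟩
  by_cases htriv : ∀ m ∈ M1, m = 1
  · have hle : R ≤ R ⊓ Subgroup.centralizer (M1 : Set G) := by
      intro g hg
      refine Subgroup.mem_inf.mpr ⟨hg, ?_⟩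
      rw [Subgroup.mem_centralizer_iff]
      intro m hm
      rw [htriv m hm]; simp
    rw [Subgroup.relIndex_eq_one.mpr hle]
    omega
  push Not at htriv
  obtain ⟨v, hvM, hv1⟩ := htriv
  set T : Subgroup G := R ⊓ Subgroup.centralizer ({v} : Set G) with hT
  set C : Subgroup G := R ⊓ Subgroup.centralizer (M1 : Set G) with hC
  have hCT : C ≤ T := by
    intro g hg
    obtain ⟨h1, h2⟩ := Subgroup.mem_inf.mp hg
    refine Subgroup.mem_inf.mpr ⟨h1, ?_⟩
    rw [Subgroup.mem_centralizer_singleton_iff]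
    rw [Subgroup.mem_centralizer_iff] at h2
    exact (h2 v hvM).symm
  have hnormR : ∀ g ∈ R, ∀ m ∈ M1, g * m * g⁻¹ ∈ M1 := fun g hg m hm =>
    (Subgroup.mem_normalizer_iff.mp (hRM hg) m).mp hm
  -- `z` has `r`-power order
  obtain ⟨n, hn⟩ := hR ⟨z, hzR⟩
  have hzr : z ^ r ^ n = 1 := by
    have := congrArg Subtype.val hn
    simpa using this
  -- `|R : T| ≤ r`
  have hTr : T.relIndex R ≤ r := by
    have h1 : T.relIndex R ≤ Nat.card ↥M1 := relIndex_stab_le M1 R hRM v hvM
    have h2 : T.relIndex R ∣ Nat.card ↥R := Subgroup.relIndex_dvd_card T R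
    obtain ⟨k, hk⟩ := IsPGroup.iff_card.mp hR
    rw [hk] at h2
    obtain ⟨j, _, hj⟩ := (Nat.dvd_prime_pow hr).mp h2
    rw [hj] at h1 ⊢
    by_contra hlt
    have hj2 : 2 ≤ j := by
      by_contra h
      have : j ≤ 1 := by omega
      have := Nat.pow_le_pow_right (show 0 < r by omega) this
      rw [pow_one] at this
      omega
    have h3 : r ^ 2 ≤ r ^ j := Nat.pow_le_pow_right (by omega) hj2
    have h4 : 25 ≤ r ^ 2 := by nlinarith
    omega
  -- `T ≤ C`
  have hTC : T ≤ C := by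
    by_contra hne
    obtain ⟨t, htT, htC⟩ := SetLike.not_le_iff_exists.mp hne
    have htR : t ∈ R := (Subgroup.mem_inf.mp htT).1
    set M2 : Subgroup G := M1 ⊓ Subgroup.centralizer (T : Set G) with hM2
    have hM2le : M2 ≤ M1 := inf_le_left
    have hvM2 : v ∈ M2 := by
      refine Subgroup.mem_inf.mpr ⟨hvM, ?_⟩
      rw [Subgroup.mem_centralizer_iff]
      intro g hg
      have := (Subgroup.mem_inf.mp hg).2
      rw [Subgroup.mem_centralizer_singleton_iff] at this
      exact this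
    have hM2ne : M2 ≠ M1 := by
      intro heq
      apply htC
      refine Subgroup.mem_inf.mpr ⟨htR, ?_⟩
      rw [Subgroup.mem_centralizer_iff]
      intro m hm
      have : m ∈ M2 := heq ▸ hm
      have h2 := (Subgroup.mem_inf.mp this).2
      rw [Subgroup.mem_centralizer_iff] at h2
      exact (h2 t htT).symm
    -- `z` normalizes `M2`
    have hzM2 : ∀ m ∈ M2, z * m * z⁻¹ ∈ M2 := by
      intro m hm
      obtain ⟨hm1, hm2⟩ := Subgroup.mem_inf.mp hm
      refine Subgroup.mem_inf.mpr ⟨hnormR z hzR m hm1, ?_⟩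
      rw [Subgroup.mem_centralizer_iff] at hm2 ⊢
      intro g hg
      have hgR : g ∈ R := (Subgroup.mem_inf.mp hg).1
      -- `z⁻¹ g z = c g` with `c` centralizing `M1`
      have hc := hzc g hgR
      rw [Subgroup.mem_centralizer_iff] at hc
      have hcm := hc m hm1
      have hgm := hm2 g hg
      -- g * (z m z⁻¹) = z (z⁻¹ g z) m z⁻¹ = z (c g) m z⁻¹ = z c m g z⁻¹ ... 
      obtain ⟨c, hcdef⟩ : ∃ c, c = z⁻¹ * g * z * g⁻¹ := ⟨_, rfl⟩
      rw [← hcdef] at hcm
      have e1 : z⁻¹ * g * z = c * g := by rw [hcdef]; group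
      have e2 : (z⁻¹ * g * z) * m = m * (z⁻¹ * g * z) := by
        rw [e1]
        calc c * g * m = c * (g * m) := mul_assoc _ _ _
          _ = c * (m * g) := by rw [hgm]
          _ = (c * m) * g := (mul_assoc _ _ _).symm
          _ = (m * c) * g := by rw [hcm]
          _ = m * (c * g) := mul_assoc _ _ _
      calc g * (z * m * z⁻¹) = z * ((z⁻¹ * g * z) * m) * z⁻¹ := by group
        _ = z * (m * (z⁻¹ * g * z)) * z⁻¹ := by rw [e2]
        _ = z * m * z⁻¹ * g := by group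
    have hfin1 : Finite ↥M1 := inferInstance
    have hfin2 : Finite ↥M2 := inferInstance
    have hc1 : Nat.card ↥M1 ≡ 1 [MOD r] :=
      card_modEq_one_of_free M1 z (hnormR z hzR) r n hzr hfree
    have hc2 : Nat.card ↥M2 ≡ 1 [MOD r] :=
      card_modEq_one_of_free M2 z hzM2 r n hzr (fun m hm => hfree m (hM2le hm))
    -- both are powers of two
    have hp1 : IsPGroup 2 ↥M1 := by
      intro m
      exact ⟨1, Subtype.ext (by simpa using hexp m m.2)⟩
    have hp2 : IsPGroup 2 ↥M2 := by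
      intro m
      exact ⟨1, Subtype.ext (by simpa using hexp m (hM2le m.2))⟩
    obtain ⟨a, ha⟩ := IsPGroup.iff_card.mp hp1
    obtain ⟨b, hb⟩ := IsPGroup.iff_card.mp hp2
    have hlt : Nat.card ↥M2 < Nat.card ↥M1 := by
      have hle : Nat.card ↥M2 ≤ Nat.card ↥M1 := Subgroup.card_le_of_le hM2le
      rcases Nat.lt_or_ge (Nat.card ↥M2) (Nat.card ↥M1) with h | h
      · exact h
      · exfalso
        apply hM2ne
        exact Subgroup.eq_of_le_of_card_ge hM2le h
    have hb1 : 1 ≤ b := by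
      by_contra h
      have hb0 : b = 0 := by omega
      rw [hb0, pow_zero] at hb
      have : M2 = ⊥ := Subgroup.card_eq_one.mp hb
      rw [this] at hvM2
      exact hv1 (Subgroup.mem_bot.mp hvM2)
    rw [ha, hb] at hlt
    have hba : b < a := (Nat.pow_lt_pow_iff_right (by norm_num)).mp hlt
    have ha4 : a ≤ 4 := by
      rw [ha] at h16
      by_contra h
      have : 5 ≤ a := by omega
      have := Nat.pow_le_pow_right (show 0 < 2 by norm_num) this
      omega
    rw [ha] at hc1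
    rw [hb] at hc2
    exact arith_aux r a b hr5 hb1 hba ha4 hc1 hc2
  have hTeq : T = C := le_antisymm hTC hCT
  rw [← hTeq]
  exact hTr

end Cfsg.Agent.Lib.Helper4.RK3
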