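import Mathlib
import Cfsg.Prelude.Def_LieRecognition

set_option autoImplicit false

namespace Cfsg.Agent.Lib.Helper4.RankOne

open MulAction

variable {G Ω : Type*} [Group G] [MulAction G Ω] {a : Ω} {t : G} {Q : Subgroup G}

/-- The two point stabiliser. -/
abbrev DD (G : Type*) {Ω : Type*} [Group G] [MulAction G Ω] (a : Ω) (t : G) : Subgroup G :=
  stabilizer G a ⊓ stabilizer G (t • a)

theorem ta_ne (hS : Cfsg.IsRankOneSetup G Ω a t Q) : t • a ≠ a := fun h => hS.not_mem h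

theorem tta (hS : Cfsg.IsRankOneSetup G Ω a t Q) : t • t • a = a := by
  rw [← mul_smul, hS.mul_self, one_smul]

theorem t_inv (hS : Cfsg.IsRankOneSetup G Ω a t Q) : t⁻¹ = t :=
  inv_eq_of_mul_eq_one_left hS.mul_self

theorem mem_D_iff (g : G) : g ∈ DD G a t ↔ g • a = a ∧ g • t • a = t • a := by
  simp [DD, Subgroup.mem_inf, mem_stabilizer_iff]

theorem Q_fix (hS : Cfsg.IsRankOneSetup G Ω a t Q) {x : G} (hx : x ∈ Q) : x • a = a := hS.le hx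

/-- `t` normalises `D`. -/
theorem t_conj_D (hS : Cfsg.IsRankOneSetup G Ω a t Q) {d : G} (hd : d ∈ DD G a t) :
    t * d * t ∈ DD G a t := by
  rw [mem_D_iff] at hd ⊢
  constructor
  · rw [mul_smul, mul_smul, hd.2, tta hS]
  · rw [mul_smul, mul_smul, tta hS, hd.1]

/-- The product set `Q D` as a subgroup. -/
def QD (hS : Cfsg.IsRankOneSetup G Ω a t Q) : Subgroup G where
  carrier := {g | ∃ x ∈ Q, ∃ d ∈ DD G a t, g = x * d}
  one_mem' := ⟨1, Q.one_mem, 1, Subgroup.one_mem _, by simp⟩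
  mul_mem' := by
    rintro _ _ ⟨x, hx, d, hd, rfl⟩ ⟨x', hx', d', hd', rfl⟩
    refine ⟨x * (d * x' * d⁻¹), Q.mul_mem hx (hS.conj_mem d hd.1 x' hx'), d * d',
      Subgroup.mul_mem _ hd hd', by group⟩
  inv_mem' := by
    rintro _ ⟨x, hx, d, hd, rfl⟩
    refine ⟨d⁻¹ * x⁻¹ * d⁻¹⁻¹, hS.conj_mem d⁻¹ (Subgroup.inv_mem _ hd.1) x⁻¹ (Q.inv_mem hx), d⁻¹,
      Subgroup.inv_mem _ hd, by group⟩

/-- Every element of `G_a` is a product `x d`. -/
theorem exists_mul_of_mem_stab (hS : Cfsg.IsRankOneSetup G Ω a t Q) {g : G} (hg : g ∈ stabilizer G a) :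
    ∃ x ∈ Q, ∃ d ∈ DD G a t, g = x * d := by
  have h1 : Q ⊔ DD G a t ≤ QD hS := by
    rw [sup_le_iff]
    constructor
    · intro x hx
      exact ⟨x, hx, 1, Subgroup.one_mem _, by simp⟩
    · intro d hd
      exact ⟨1, Q.one_mem, d, hd, by simp⟩
  have : g ∈ Q ⊔ DD G a t := by rw [hS.sup_eq]; exact hg
  exact h1 this

theorem Q_inf_D (hS : Cfsg.IsRankOneSetup G Ω a t Q) {x : G} (hx : x ∈ Q) (hd : x ∈ DD G a t) :
    x = 1 := by
  have : x ∈ Q ⊓ stabilizer G (t • a) := ⟨hx, hd.2⟩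
  rw [hS.inf_eq_bot] at this
  exact this

/-- `Q` is transitive on the points other than `a`. -/
theorem exists_Q_smul (hS : Cfsg.IsRankOneSetup G Ω a t Q) {b : Ω} (hb : b ≠ a) :
    ∃ x ∈ Q, x • t • a = b := by
  have h2 := hS.two_transitive
  rw [MulAction.is_two_pretransitive_iff] at h2
  obtain ⟨g, hga, hgb⟩ := h2 (ta_ne hS).symm hb.symm
  obtain ⟨x, hx, d, hd, rfl⟩ := exists_mul_of_mem_stab hS (mem_stabilizer_iff.mpr hga)
  refine ⟨x, hx, ?_⟩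
  rw [mul_smul, ((mem_D_iff d).mp hd).2] at hgb
  exact hgb

/-- `Q` acts freely on the points other than `a`. -/
theorem Q_free (hS : Cfsg.IsRankOneSetup G Ω a t Q) {x : G} (hx : x ∈ Q) {b : Ω} (hb : b ≠ a)
    (h : x • b = b) : x = 1 := by
  obtain ⟨y, hy, rfl⟩ := exists_Q_smul hS hb
  have h1 : y⁻¹ * x * y ∈ Q := Q.mul_mem (Q.mul_mem (Q.inv_mem hy) hx) hy
  have h2 : y⁻¹ * x * y ∈ stabilizer G (t • a) := by
    rw [mem_stabilizer_iff, mul_smul, mul_smul, h, inv_smul_smul]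
  have : y⁻¹ * x * y ∈ Q ⊓ stabilizer G (t • a) := ⟨h1, h2⟩
  rw [hS.inf_eq_bot, Subgroup.mem_bot] at this
  have : x = y * (y⁻¹ * x * y) * y⁻¹ := by group
  rw [this, ‹y⁻¹ * x * y = 1›]
  group

theorem Q_smul_ne (hS : Cfsg.IsRankOneSetup G Ω a t Q) {x : G} (hx : x ∈ Q) {b : Ω} (hb : b ≠ a) :
    x • b ≠ a := by
  intro h
  apply hb
  have : x • b = x • a := by rw [h, Q_fix hS hx]
  exact MulAction.injective x this

/-- Regularity of `Q` on the points other than `a`. -/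
theorem existsUnique_Q (hS : Cfsg.IsRankOneSetup G Ω a t Q) {b c : Ω} (hb : b ≠ a) (hc : c ≠ a) :
    ∃! x : Q, (x : G) • b = c := by
  obtain ⟨y, hy, rfl⟩ := exists_Q_smul hS hb
  obtain ⟨z, hz, rfl⟩ := exists_Q_smul hS hc
  refine ⟨⟨z * y⁻¹, Q.mul_mem hz (Q.inv_mem hy)⟩, ?_, ?_⟩
  · change (z * y⁻¹) • y • t • a = z • t • a
    rw [mul_smul, inv_smul_smul]
  · rintro ⟨w, hw⟩ hw'
    change w • y • t • a = z • t • a at hw'
    have h1 : (z⁻¹ * w * y) • t • a = t • a := by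
      rw [mul_smul, mul_smul, hw', inv_smul_smul]
    have h2 := Q_free hS (Q.mul_mem (Q.mul_mem (Q.inv_mem hz) hw) hy) (ta_ne hS) h1
    apply Subtype.ext
    change w = z * y⁻¹
    have : w = z * (z⁻¹ * w * y) * y⁻¹ := by group
    rw [this, h2]
    group

/-- Uniqueness of the canonical form. -/
theorem canon_unique (hS : Cfsg.IsRankOneSetup G Ω a t Q) {g₁ h₁ f₁ g₂ h₂ f₂ : G}
    (hg₁ : g₁ ∈ Q) (hh₁ : h₁ ∈ DD G a t) (hf₁ : f₁ ∈ Q)
    (hg₂ : g₂ ∈ Q) (hh₂ : h₂ ∈ DD G a t) (hf₂ : f₂ ∈ Q)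
    (h : g₁ * h₁ * t * f₁ = g₂ * h₂ * t * f₂) : g₁ = g₂ ∧ h₁ = h₂ ∧ f₁ = f₂ := by
  have key : ∀ g h f : G, g ∈ Q → h ∈ DD G a t → f ∈ Q → (g * h * t * f)⁻¹ • a = f⁻¹ • t • a := by
    intro g h f hg hh hf
    have : (g * h * t * f)⁻¹ = f⁻¹ * t * h⁻¹ * g⁻¹ := by
      rw [mul_inv_rev, mul_inv_rev, mul_inv_rev, t_inv hS]; group
    rw [this, mul_smul, mul_smul, mul_smul, Q_fix hS (Q.inv_mem hg)]
    have : h⁻¹ • a = a := (Subgroup.inv_mem _ hh).1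
    rw [this]
  have h1 := key g₁ h₁ f₁ hg₁ hh₁ hf₁
  rw [h, key g₂ h₂ f₂ hg₂ hh₂ hf₂] at h1
  have h2 : (f₁ * f₂⁻¹) • t • a = t • a := by
    rw [mul_smul, h1, smul_inv_smul]
  have h3 := Q_free hS (Q.mul_mem hf₁ (Q.inv_mem hf₂)) (ta_ne hS) h2
  have hf : f₁ = f₂ := by
    rw [mul_inv_eq_one] at h3; exact h3
  subst hf
  have h4 : g₁ * h₁ = g₂ * h₂ := by
    have := congrArg (fun z => z * f₁⁻¹ * t⁻¹) h
    simpa [mul_assoc] using this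
  have h5 : g₂⁻¹ * g₁ = h₂ * h₁⁻¹ := by
    calc g₂⁻¹ * g₁ = g₂⁻¹ * (g₁ * h₁) * h₁⁻¹ := by group
      _ = g₂⁻¹ * (g₂ * h₂) * h₁⁻¹ := by rw [h4]
      _ = _ := by group
  have h6 : g₂⁻¹ * g₁ = 1 := by
    apply Q_inf_D hS (Q.mul_mem (Q.inv_mem hg₂) hg₁)
    rw [h5]
    exact Subgroup.mul_mem _ hh₂ (Subgroup.inv_mem _ hh₁)
  have hg : g₁ = g₂ := by
    rw [inv_mul_eq_one] at h6; exact h6.symm
  subst hg
  refine ⟨rfl, ?_, rfl⟩
  exact mul_left_cancel h4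

end Cfsg.Agent.Lib.Helper4.RankOne
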