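import Mathlib
import Cfsg.Prelude.Def_LieRecognition
import Cfsg.Agent.Lib.Helper4.RankOne
import Cfsg.Agent.S1121

set_option autoImplicit false

namespace Cfsg.Agent.Lib.Helper4.RankOne2

open MulAction Cfsg.Agent.Lib.Helper4.RankOne

variable {G Ω : Type*} [Group G] [MulAction G Ω] {a : Ω} {t : G} {Q : Subgroup G}

/-- The set `K` of elements of `D` inverted by `t`. -/
abbrev KK (G : Type*) {Ω : Type*} [Group G] [MulAction G Ω] (a : Ω) (t : G) : Set G :=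
  Cfsg.invertedBy (DD G a t) t

/-- The involutions of `G_a`. -/
abbrev Inv (G : Type*) {Ω : Type*} [Group G] [MulAction G Ω] (a : Ω) : Set G :=
  Cfsg.involutionsIn (stabilizer G a : Set G)

theorem mem_KK_iff (hS : Cfsg.IsRankOneSetup G Ω a t Q) (k : G) :
    k ∈ KK G a t ↔ k ∈ DD G a t ∧ t * k * t = k⁻¹ := by
  unfold KK Cfsg.invertedBy
  rw [Set.mem_ofPred_eq, t_inv hS]

theorem one_mem_KK (hS : Cfsg.IsRankOneSetup G Ω a t Q) : (1 : G) ∈ KK G a t := by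
  rw [mem_KK_iff hS]
  exact ⟨Subgroup.one_mem _, by rw [mul_one, hS.mul_self, inv_one]⟩

theorem inv_mem_KK (hS : Cfsg.IsRankOneSetup G Ω a t Q) {k : G} (hk : k ∈ KK G a t) :
    k⁻¹ ∈ KK G a t := by
  rw [mem_KK_iff hS] at hk ⊢
  refine ⟨Subgroup.inv_mem _ hk.1, ?_⟩
  have : t * k⁻¹ * t = (t⁻¹ * k * t⁻¹)⁻¹ := by group
  rw [this, t_inv hS, hk.2]

/-- `K` is closed under `k ↦ c k c`. -/
theorem mul_mul_mem_KK (hS : Cfsg.IsRankOneSetup G Ω a t Q) {c k : G} (hc : c ∈ KK G a t)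
    (hk : k ∈ KK G a t) : c * k * c ∈ KK G a t := by
  rw [mem_KK_iff hS] at hc hk ⊢
  refine ⟨Subgroup.mul_mem _ (Subgroup.mul_mem _ hc.1 hk.1) hc.1, ?_⟩
  have : t * (c * k * c) * t = (t * c * t) * (t⁻¹ * k * t⁻¹) * (t * c * t) := by group
  rw [this, t_inv hS, hc.2, hk.2]; group

theorem pow_mem_KK (hS : Cfsg.IsRankOneSetup G Ω a t Q) {k : G} (hk : k ∈ KK G a t) (n : ℕ) :
    k ^ n ∈ KK G a t := by
  rw [mem_KK_iff hS] at hk ⊢
  refine ⟨Subgroup.pow_mem _ hk.1 n, ?_⟩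
  have h1 : t * k ^ n * t⁻¹ = (t * k * t⁻¹) ^ n := (conj_pow).symm
  rw [t_inv hS, hk.2] at h1
  rw [h1, inv_pow]

/-- For `k ∈ K`, `k t` is an involution. -/
theorem kt_sq (hS : Cfsg.IsRankOneSetup G Ω a t Q) {k : G} (hk : k ∈ KK G a t) :
    (k * t) * (k * t) = 1 := by
  rw [mem_KK_iff hS] at hk
  have : (k * t) * (k * t) = k * (t * k * t) := by group
  rw [this, hk.2, mul_inv_cancel]

theorem kt_ne_one (hS : Cfsg.IsRankOneSetup G Ω a t Q) {k : G} (hk : k ∈ KK G a t) :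
    k * t ≠ 1 := by
  rw [mem_KK_iff hS] at hk
  intro h
  apply ta_ne hS
  have h1 : (k * t) • a = a := by rw [h, one_smul]
  rw [mul_smul, hk.1.2] at h1
  exact h1

/-- An element swapping `a` and `t a` lies in `D t`. -/
theorem swap_mem (hS : Cfsg.IsRankOneSetup G Ω a t Q) {v : G} (h1 : v • a = t • a)
    (h2 : v • t • a = a) : v * t ∈ DD G a t := by
  rw [mem_D_iff]
  constructor
  · rw [mul_smul, h2]
  · rw [mul_smul, tta hS, h1]

/-- An involution swapping `a` and `t a` is `k t` with `k ∈ K`. -/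
theorem swap_invol (hS : Cfsg.IsRankOneSetup G Ω a t Q) {v : G} (h1 : v • a = t • a)
    (hv2 : v * v = 1) : v * t ∈ KK G a t := by
  have h2 : v • t • a = a := by rw [← h1, ← mul_smul, hv2, one_smul]
  rw [mem_KK_iff hS]
  refine ⟨swap_mem hS h1 h2, ?_⟩
  have hvi : v⁻¹ = v := inv_eq_of_mul_eq_one_left hv2
  rw [mul_inv_rev, t_inv hS, hvi]
  have : t * (v * t) * t = t * v * (t * t) := by group
  rw [this, hS.mul_self, mul_one]

section odd

variable [Finite G]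

/-- In `D` squaring is injective. -/
theorem sq_inj (hS : Cfsg.IsRankOneSetup G Ω a t Q) {x y : G} (hx : x ∈ DD G a t) (hy : y ∈ DD G a t)
    (h : x * x = y * y) : x = y := by
  obtain ⟨m, hm⟩ := hS.odd_card
  have key : ∀ z ∈ DD G a t, z = (z * z) ^ (m + 1) := by
    intro z hz
    have h1 : z ^ Nat.card (DD G a t) = 1 := by
      have := pow_card_eq_one' (G := DD G a t) (x := ⟨z, hz⟩)
      exact congrArg Subtype.val this
    rw [hm] at h1
    rw [← pow_two, ← pow_mul]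
    have : 2 * (m + 1) = (2 * m + 1) + 1 := by ring
    rw [this, pow_succ, h1, one_mul]
  rw [key x hx, key y hy, h]

/-- Square roots in `K`. -/
theorem exists_sqrt (hS : Cfsg.IsRankOneSetup G Ω a t Q) {k : G} (hk : k ∈ KK G a t) :
    ∃ m ∈ KK G a t, m * m = k := by
  obtain ⟨n, hn⟩ := hS.odd_card
  refine ⟨k ^ (n + 1), pow_mem_KK hS hk _, ?_⟩
  have hkD : k ∈ DD G a t := ((mem_KK_iff hS k).mp hk).1
  have h1 : k ^ Nat.card (DD G a t) = 1 := by
    have := pow_card_eq_one' (G := DD G a t) (x := ⟨k, hkD⟩)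
    exact congrArg Subtype.val this
  rw [hn] at h1
  rw [← pow_add]
  have : n + 1 + (n + 1) = (2 * n + 1) + 1 := by ring
  rw [this, pow_succ, h1, one_mul]

/-- For `m ∈ K`: `m⁻¹ t m = m⁻¹ m⁻¹ t`. -/
theorem conj_t (hS : Cfsg.IsRankOneSetup G Ω a t Q) {m : G} (hm : m ∈ KK G a t) :
    m⁻¹ * t * m = (m * m)⁻¹ * t := by
  rw [mem_KK_iff hS] at hm
  have h1 : t * m = m⁻¹ * t⁻¹ := by
    have := hm.2
    calc t * m = (t * m * t) * t⁻¹ := by group
      _ = m⁻¹ * t⁻¹ := by rw [this]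
  rw [mul_assoc, h1, t_inv hS]; group

/-- The twisted translation `c ↦ c k c` is onto `K`. -/
theorem exists_twist (hS : Cfsg.IsRankOneSetup G Ω a t Q) {k₁ k₂ : G} (hk₁ : k₁ ∈ KK G a t)
    (hk₂ : k₂ ∈ KK G a t) : ∃ c ∈ KK G a t, c * k₁ * c = k₂ := by
  have hfin : Finite (KK G a t) := Finite.of_injective (fun x => (x : G)) Subtype.val_injective
  let φ : KK G a t → KK G a t := fun c => ⟨c.1 * k₁ * c.1, mul_mul_mem_KK hS c.2 hk₁⟩
  have hinj : Function.Injective φ := by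
    rintro ⟨c, hc⟩ ⟨c', hc'⟩ h
    have h1 : c * k₁ * c = c' * k₁ * c' := congrArg Subtype.val h
    have hcD := ((mem_KK_iff hS c).mp hc).1
    have hcD' := ((mem_KK_iff hS c').mp hc').1
    have hkD := ((mem_KK_iff hS k₁).mp hk₁).1
    have h2 : (c * k₁) * (c * k₁) = (c' * k₁) * (c' * k₁) := by
      calc (c * k₁) * (c * k₁) = (c * k₁ * c) * k₁ := by group
        _ = (c' * k₁ * c') * k₁ := by rw [h1]
        _ = _ := by group
    have h3 := sq_inj hS (Subgroup.mul_mem _ hcD hkD) (Subgroup.mul_mem _ hcD' hkD) h2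
    apply Subtype.ext
    exact mul_right_cancel h3
  obtain ⟨⟨c, hc⟩, hc'⟩ := (Finite.injective_iff_surjective.mp hinj) ⟨k₂, hk₂⟩
  exact ⟨c, hc, congrArg Subtype.val hc'⟩

end odd

/-- The representation `t τ t = f⁻¹ h t f`. -/
def Rep (a : Ω) (t : G) (Q : Subgroup G) (τ f h : G) : Prop :=
  f ∈ Q ∧ h ∈ DD G a t ∧ t * τ * t = f⁻¹ * h * t * f

theorem rep_unique (hS : Cfsg.IsRankOneSetup G Ω a t Q) {τ f h f' h' : G} (h1 : Rep a t Q τ f h)
    (h2 : Rep a t Q τ f' h') : f = f' ∧ h = h' := by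
  obtain ⟨hf, hh, e⟩ := h1
  obtain ⟨hf', hh', e'⟩ := h2
  rw [e] at e'
  obtain ⟨-, h3, h4⟩ := canon_unique hS (Q.inv_mem hf) hh hf (Q.inv_mem hf') hh' hf' e'
  exact ⟨h4, h3⟩

theorem invol_conj_t (hS : Cfsg.IsRankOneSetup G Ω a t Q) {τ : G} (hτ : τ ∈ Inv G a) :
    (t * τ * t) ≠ 1 ∧ (t * τ * t) * (t * τ * t) = 1 ∧ (t * τ * t) • t • a = t • a := by
  obtain ⟨hτa, hτ1, hτ2⟩ := hτ
  refine ⟨?_, ?_, ?_⟩
  · intro h
    apply hτ1
    have : τ = t⁻¹ * (t * τ * t) * t⁻¹ := by group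
    rw [this, h, mul_one, t_inv hS, hS.mul_self]
  · have : (t * τ * t) * (t * τ * t) = t * (τ * (t * t) * τ) * t := by group
    rw [this, hS.mul_self, mul_one, hτ2, mul_one, hS.mul_self]
  · have : τ • a = a := hτa
    rw [mul_smul, mul_smul, tta hS, this]

theorem conj_mem_Inv {τ c : G} (hτ : τ ∈ Inv G a) (hc : c ∈ stabilizer G a) :
    c⁻¹ * τ * c ∈ Inv G a := by
  obtain ⟨hτa, hτ1, hτ2⟩ := hτ
  refine ⟨Subgroup.mul_mem _ (Subgroup.mul_mem _ (Subgroup.inv_mem _ hc) hτa) hc, ?_, ?_⟩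
  · intro h
    apply hτ1
    have : τ = c * (c⁻¹ * τ * c) * c⁻¹ := by group
    rw [this, h]; group
  · have : (c⁻¹ * τ * c) * (c⁻¹ * τ * c) = c⁻¹ * (τ * τ) * c := by group
    rw [this, hτ2]; group

section fin

variable [Finite G]

theorem rep_inj (hS : Cfsg.IsRankOneSetup G Ω a t Q) {τ τ' f f' h : G} (hτ : τ ∈ Inv G a)
    (hτ' : τ' ∈ Inv G a) (h1 : Rep a t Q τ f h) (h2 : Rep a t Q τ' f' h) : τ = τ' := by
  obtain ⟨hf, hh, e⟩ := h1
  obtain ⟨hf', -, e'⟩ := h2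
  obtain ⟨hv1, hv2, hvb⟩ := invol_conj_t hS hτ
  obtain ⟨-, -, hvb'⟩ := invol_conj_t hS hτ'
  -- v = h t
  have hv : h * t = f * (t * τ * t) * f⁻¹ := by rw [e]; group
  have hv' : h * t = f' * (t * τ' * t) * f'⁻¹ := by rw [e']; group
  have hw1 : h * t ≠ 1 := by
    intro hh1
    apply hv1
    have : t * τ * t = f⁻¹ * (h * t) * f := by rw [e]; group
    rw [this, hh1]; group
  have hw2 : (h * t) * (h * t) = 1 := by
    rw [hv]
    have : f * (t * τ * t) * f⁻¹ * (f * (t * τ * t) * f⁻¹) = f * ((t * τ * t) * (t * τ * t)) * f⁻¹ := by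
      group
    rw [this, hv2]; group
  have hfix1 : (h * t) • f • t • a = f • t • a := by
    rw [hv, mul_smul, mul_smul, inv_smul_smul, hvb]
  have hfix2 : (h * t) • f' • t • a = f' • t • a := by
    rw [hv', mul_smul, mul_smul, inv_smul_smul, hvb']
  have h3 := S1121.unique_fixed hS hw1 hw2 hfix1 hfix2
  have h4 : (f'⁻¹ * f) • t • a = t • a := by rw [mul_smul, h3, inv_smul_smul]
  have h5 := Q_free hS (Q.mul_mem (Q.inv_mem hf') hf) (ta_ne hS) h4
  have h6 : f = f' := by rw [inv_mul_eq_one] at h5; exact h5.symm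
  subst h6
  have h7 : t * τ * t = t * τ' * t := by rw [e, e']
  have := mul_left_cancel (mul_right_cancel h7)
  exact this

/-- Existence of the representation, with `h ∈ K`. -/
theorem rep_exists (hS : Cfsg.IsRankOneSetup G Ω a t Q) {τ : G} (hτ : τ ∈ Inv G a) :
    ∃ f h, Rep a t Q τ f h ∧ h ∈ KK G a t := by
  obtain ⟨hv1, hv2, hvb⟩ := invol_conj_t hS hτ
  -- w = t τ t moves a
  have hwa : (t * τ * t) • a ≠ a := by
    intro h
    have := S1121.unique_fixed hS hv1 hv2 h hvb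
    exact ta_ne hS this.symm
  obtain ⟨f, hf, hfa⟩ := exists_Q_smul hS hwa
  -- v = f⁻¹ w f swaps
  have hva : (f⁻¹ * (t * τ * t) * f) • a = t • a := by
    rw [mul_smul, mul_smul, Q_fix hS hf, ← hfa, inv_smul_smul]
  have hv2' : (f⁻¹ * (t * τ * t) * f) * (f⁻¹ * (t * τ * t) * f) = 1 := by
    have : (f⁻¹ * (t * τ * t) * f) * (f⁻¹ * (t * τ * t) * f) = f⁻¹ * ((t * τ * t) * (t * τ * t)) * f := by
      group
    rw [this, hv2]; group
  have hk := swap_invol hS hva hv2'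
  refine ⟨f⁻¹, f⁻¹ * (t * τ * t) * f * t, ⟨Q.inv_mem hf, ((mem_KK_iff hS _).mp hk).1, ?_⟩, hk⟩
  have : f⁻¹⁻¹ * (f⁻¹ * (t * τ * t) * f * t) * t * f⁻¹ = (t * τ * t) * f * (t * t) * f⁻¹ := by group
  rw [this, hS.mul_self, mul_one, mul_inv_cancel_right]

/-- Every `k ∈ K` occurs. -/
theorem rep_surj (hS : Cfsg.IsRankOneSetup G Ω a t Q) {k : G} (hk : k ∈ KK G a t) :
    ∃ τ ∈ Inv G a, ∃ f, Rep a t Q τ f k := by
  have hv1 := kt_ne_one hS hk
  have hv2 := kt_sq hS hk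
  have hkD := ((mem_KK_iff hS k).mp hk).1
  obtain ⟨c, hc⟩ := S1121.exists_fixed hS hv1 hv2
  have hca : c ≠ a := by
    rintro rfl
    rw [mul_smul, hkD.2] at hc
    exact ta_ne hS hc
  obtain ⟨f, hf, hfc⟩ := exists_Q_smul hS hca
  -- w = f⁻¹ (k t) f fixes t a ; τ = t w t
  have hwb : (f⁻¹ * (k * t) * f) • t • a = t • a := by
    rw [mul_smul, mul_smul, hfc, hc, ← hfc, inv_smul_smul]
  have hw1 : f⁻¹ * (k * t) * f ≠ 1 := by
    intro h
    apply hv1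
    have : k * t = f * (f⁻¹ * (k * t) * f) * f⁻¹ := by group
    rw [this, h]; group
  have hw2 : (f⁻¹ * (k * t) * f) * (f⁻¹ * (k * t) * f) = 1 := by
    have : (f⁻¹ * (k * t) * f) * (f⁻¹ * (k * t) * f) = f⁻¹ * ((k * t) * (k * t)) * f := by group
    rw [this, hv2]; group
  have hti := t_inv hS
  refine ⟨t * (f⁻¹ * (k * t) * f) * t, ⟨?_, ?_, ?_⟩, f, hf, hkD, ?_⟩
  · change t * (f⁻¹ * (k * t) * f) * t ∈ stabilizer G a
    rw [mem_stabilizer_iff, mul_smul, mul_smul, hwb, tta hS]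
  · intro h
    apply hw1
    have : f⁻¹ * (k * t) * f = t⁻¹ * (t * (f⁻¹ * (k * t) * f) * t) * t⁻¹ := by group
    rw [this, h, mul_one, hti, hS.mul_self]
  · have : t * (f⁻¹ * (k * t) * f) * t * (t * (f⁻¹ * (k * t) * f) * t)
        = t * ((f⁻¹ * (k * t) * f) * (t * t) * (f⁻¹ * (k * t) * f)) * t := by group
    rw [this, hS.mul_self, mul_one, hw2, mul_one, hS.mul_self]
  · have : t * (t * (f⁻¹ * (k * t) * f) * t) * t = (t * t) * (f⁻¹ * (k * t) * f) * (t * t) := by group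
    rw [this, hS.mul_self, one_mul, mul_one]; group

/-- Equivariance of the representation under conjugation by `D`. -/
theorem rep_conj (hS : Cfsg.IsRankOneSetup G Ω a t Q) {τ f h c : G} (h1 : Rep a t Q τ f h)
    (hc : c ∈ DD G a t) :
    Rep a t Q (c⁻¹ * τ * c) ((t * c * t)⁻¹ * f * (t * c * t)) ((t * c * t)⁻¹ * h * c) := by
  obtain ⟨hf, hh, e⟩ := h1
  have he : t * c * t ∈ DD G a t := t_conj_D hS hc
  have hei : (t * c * t)⁻¹ ∈ DD G a t := Subgroup.inv_mem _ he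
  refine ⟨?_, Subgroup.mul_mem _ (Subgroup.mul_mem _ hei hh) hc, ?_⟩
  · have := hS.conj_mem _ hei.1 f hf
    rwa [inv_inv] at this
  · have hτ : τ = t⁻¹ * (f⁻¹ * h * t * f) * t⁻¹ := by rw [← e]; group
    have h2 : t * (c⁻¹ * τ * c) * t = ((t * c * t⁻¹)⁻¹ * f * (t * c * t⁻¹))⁻¹ * ((t * c * t⁻¹)⁻¹ * h * c) * t
        * ((t⁻¹ * c * t)⁻¹ * f * (t⁻¹ * c * t)) := by
      rw [hτ]; group
    rw [t_inv hS] at h2
    exact h2

end fin

end Cfsg.Agent.Lib.Helper4.RankOne2
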