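import Mathlib
import Cfsg.Prelude.Def_LieRecognition
import Cfsg.Agent.Lib.Helper4.RankOne2

set_option autoImplicit false

namespace Cfsg.Agent.Lib.Helper4.RankOne3

open MulAction Cfsg.Agent.Lib.Helper4.RankOne Cfsg.Agent.Lib.Helper4.RankOne2

variable {G Ω : Type*} [Group G] [MulAction G Ω] {a : Ω} {t : G} {Q : Subgroup G}

/-- The conjugate `t Q t`. -/
def Qt (t : G) (Q : Subgroup G) : Subgroup G := Q.map (MulAut.conj t).toMonoidHom

theorem mem_Qt (hS : Cfsg.IsRankOneSetup G Ω a t Q) (x : G) : x ∈ Qt t Q ↔ t * x * t ∈ Q := by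
  unfold Qt
  rw [Subgroup.mem_map]
  constructor
  · rintro ⟨q, hq, rfl⟩
    simp only [MulEquiv.toMonoidHom_eq_coe, MonoidHom.coe_coe, MulAut.conj_apply]
    have : t * (t * q * t⁻¹) * t = (t * t) * q * (t⁻¹ * t) := by group
    rw [this, hS.mul_self, inv_mul_cancel, one_mul, mul_one]
    exact hq
  · intro h
    refine ⟨t * x * t, h, ?_⟩
    simp only [MulEquiv.toMonoidHom_eq_coe, MonoidHom.coe_coe, MulAut.conj_apply]
    rw [t_inv hS]
    have : t * (t * x * t) * t = (t * t) * x * (t * t) := by group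
    rw [this, hS.mul_self, one_mul, mul_one]

theorem conj_D_iff (hS : Cfsg.IsRankOneSetup G Ω a t Q) (d : G) :
    t * d * t ∈ DD G a t ↔ d ∈ DD G a t := by
  constructor
  · intro h
    have := t_conj_D hS h
    have h2 : t * (t * d * t) * t = (t * t) * d * (t * t) := by group
    rw [h2, hS.mul_self, one_mul, mul_one] at this
    exact this
  · exact t_conj_D hS

/-- The set-up at the other point. -/
theorem setup_swap (hS : Cfsg.IsRankOneSetup G Ω a t Q) :
    Cfsg.IsRankOneSetup G Ω (t • a) t (Qt t Q) := by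
  have hti := t_inv hS
  have htta := tta hS
  have hstab : ∀ g : G, g ∈ stabilizer G (t • a) ↔ t * g * t ∈ stabilizer G a := by
    intro g
    rw [mem_stabilizer_iff, mem_stabilizer_iff, mul_smul, mul_smul]
    constructor
    · intro h; rw [h, htta]
    · intro h
      have := congrArg (fun p => t • p) h
      change t • t • g • t • a = t • a at this
      rw [← mul_smul t t, hS.mul_self, one_smul] at this
      exact this
  have hD : stabilizer G (t • a) ⊓ stabilizer G (t • t • a) = DD G a t := by
    rw [htta, inf_comm]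
  refine ⟨hS.two_transitive, hS.mul_self, hS.ne_one, ?_, ?_, ?_, ?_, ?_, ?_, ?_⟩
  · rw [mem_stabilizer_iff, htta]
    exact fun h => ta_ne hS h.symm
  · intro x hx
    rw [mem_Qt hS] at hx
    rw [hstab]
    exact hS.le hx
  · intro h hh x hx
    rw [mem_Qt hS] at hx ⊢
    rw [hstab] at hh
    have := hS.conj_mem _ hh _ hx
    have h2 : t * h * t * (t * x * t) * (t * h * t)⁻¹ = t * h * (t * t) * x * (t * t⁻¹) * h⁻¹ * t⁻¹ := by
      group
    rw [h2, hS.mul_self, mul_inv_cancel, mul_one, mul_one, hti] at this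
    have h3 : t * (h * x * h⁻¹) * t = t * h * x * h⁻¹ * t := by group
    rw [h3]
    exact this
  · rw [eq_bot_iff]
    rintro x ⟨hx1, hx2⟩
    replace hx1 : x ∈ Qt t Q := hx1
    replace hx2 : x ∈ stabilizer G (t • t • a) := hx2
    rw [mem_Qt hS] at hx1
    rw [mem_stabilizer_iff, htta] at hx2
    have h1 : (t * x * t) • t • a = t • a := by
      rw [mul_smul, mul_smul, htta, hx2]
    have h2 := Q_free hS hx1 (ta_ne hS) h1
    rw [Subgroup.mem_bot]
    have : x = t⁻¹ * (t * x * t) * t⁻¹ := by group
    rw [this, h2, mul_one, hti, hS.mul_self]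
  · rw [hD]
    apply le_antisymm
    · rw [sup_le_iff]
      constructor
      · intro x hx
        rw [mem_Qt hS] at hx
        rw [hstab]
        exact hS.le hx
      · exact inf_le_right
    · intro g hg
      rw [hstab] at hg
      obtain ⟨x, hx, d, hd, hxd⟩ := exists_mul_of_mem_stab hS hg
      have : g = (t * x * t) * (t * d * t) := by
        have h1 : g = t⁻¹ * (t * g * t) * t⁻¹ := by group
        rw [h1, hxd, hti]
        have : t * x * t * (t * d * t) = t * x * (t * t) * d * t := by group
        rw [this, hS.mul_self, mul_one]; group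
      rw [this]
      apply Subgroup.mul_mem
      · apply Subgroup.mem_sup_left
        rw [mem_Qt hS]
        have : t * (t * x * t) * t = (t * t) * x * (t * t) := by group
        rw [this, hS.mul_self, one_mul, mul_one]
        exact hx
      · apply Subgroup.mem_sup_right
        exact t_conj_D hS hd
  · unfold Qt
    rw [Subgroup.card_map_of_injective (MulAut.conj t).injective]
    exact hS.even_card
  · rw [hD]
    exact hS.odd_card

section fix

variable (X : Set G)

/-- Elements of `Q` moving `t a` to a fixed point of `X ⊆ D` centralise `X`. -/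
theorem centralizer_of_fixed (hS : Cfsg.IsRankOneSetup G Ω a t Q)
    (hX : X ⊆ (DD G a t : Set G)) {p : Ω} (hp : ∀ x ∈ X, x • p = p) (hpa : p ≠ a) :
    ∃ q ∈ Subgroup.centralizer X ⊓ Q, q • t • a = p := by
  obtain ⟨q, hq, hqp⟩ := exists_Q_smul hS hpa
  refine ⟨q, ⟨?_, hq⟩, hqp⟩
  change q ∈ Subgroup.centralizer X
  rw [Subgroup.mem_centralizer_iff]
  intro x hx
  have hxD := hX hx
  have h1 : x * q * x⁻¹ ∈ Q := hS.conj_mem x hxD.1 q hq
  have hxb : x⁻¹ • t • a = t • a := (Subgroup.inv_mem _ hxD).2
  have h2 : (q⁻¹ * (x * q * x⁻¹)) • t • a = t • a := by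
    rw [mul_smul, mul_smul, mul_smul, hxb, hqp, hp x hx, ← hqp, inv_smul_smul]
  have h3 := Q_free hS (Q.mul_mem (Q.inv_mem hq) h1) (ta_ne hS) h2
  have h4 : x * q * x⁻¹ = q := by
    rw [inv_mul_eq_one] at h3; exact h3.symm
  calc x * q = (x * q * x⁻¹) * x := by group
    _ = q * x := by rw [h4]

end fix

end Cfsg.Agent.Lib.Helper4.RankOne3
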