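import Cfsg.Agent.S5036
import Cfsg.Agent.S5032

set_option autoImplicit false
open Cfsg

namespace Cfsg.Agent.Lib.Helper4.RootLine

open Cfsg.Agent.Lib.Helper4.RankOneGrp Cfsg.Agent.Lib.Helper4.RootSub
  Cfsg.Agent.Lib.Helper4.RootSub2 Cfsg.Agent.Lib.Helper4.RootSub3
open scoped commutatorElement

variable {G : Type*} [Group G] {S : Set (Subgroup G)}

/-- a commuting translate of a root element by a root element is not commuting with a partner -/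
theorem not_comm_of_translate (hS : IsRootSubgroupSet S) {T T' E : Subgroup G} (hT : T ∈ S)
    (hE : E ∈ S) (hTE : IsRankOnePair T E) (hTT' : ∀ x ∈ T', ∀ y ∈ T, x * y = y * x)
    {t t' : G} (ht : t ∈ T) (ht1 : t ≠ 1) (ht' : t' ∈ T') (ht'1 : t' ≠ 1)
    (hroot : t' * t ∈ rootElements S) (hcomm : ∀ x ∈ T', ∀ y ∈ E, x * y = y * x) : False :=
  Cfsg.Agent.S5025.no_translate hS hT hE hTE (z := t') (fun x hx => hTT' t' ht' x hx)
    (fun x hx => hcomm t' ht' x hx) ht'1 ht ht1 hroot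

/-- two commuting subgroups both opposite `E`: some product moves `E` to a commuting conjugate -/
theorem third_point {A' B' E : Subgroup G} (hAE : IsRankOnePair A' E) (hBE : IsRankOnePair B' E)
    (hcomm : ∀ x ∈ A', ∀ y ∈ B', x * y = y * x) {b : G} (hb : b ∈ B') (hb1 : b ≠ 1) :
    ∃ a ∈ A', a ≠ 1 ∧ ∀ x ∈ conjBy E (b * a⁻¹), ∀ y ∈ E, x * y = y * x := by
  obtain ⟨e, he, he1, hrel1⟩ := hBE.cond_left b hb hb1
  obtain ⟨a, ha, ha1, hrel2⟩ := hAE.cond_right e he he1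
  refine ⟨a, ha, ha1, ?_⟩
  have h1 : ∀ x ∈ conjBy E a⁻¹, ∀ y ∈ conjBy E b⁻¹, x * y = y * x := by
    rw [hrel2, ← hrel1]
    exact Cfsg.Agent.S5036.comm_conj hcomm e⁻¹
  have h2 := Cfsg.Agent.S5036.comm_conj h1 b
  rw [conjBy_conjBy, conjBy_conjBy, mul_inv_cancel, conjBy_one] at h2
  exact h2

/-- in a rank one pair `(T, E)` no non-identity element of `T` moves `E` to a commuting conjugate -/
theorem eq_one_of_conj_comm {T E : Subgroup G} (hTE : IsRankOnePair T E) {t : G} (ht : t ∈ T)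
    (hc : ∀ x ∈ conjBy E t, ∀ y ∈ E, x * y = y * x) : t = 1 := by
  by_contra ht1
  have hne : conjBy E t ≠ E := by
    intro he
    exact ht1 (eq_one_of_mem_normalizer hTE ht (conjBy_eq_self_iff.mp he))
  have h1 : conjBy E t ∈ unipotentSubgroups T E :=
    conjBy_mem_unipotent (right_mem_unipotent hTE) (Subgroup.mem_sup_left ht)
  have h2 := (pair_of_distinct hTE h1 (right_mem_unipotent hTE) hne).1
  exact not_commute_of_pair h2 hc

/-- conjugation by an element commuting with the subgroup -/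
theorem conjBy_of_commutes {A : Subgroup G} {e : G} (h : ∀ x ∈ A, e * x = x * e) :
    conjBy A e = A :=
  conjBy_eq_self_iff.mpr (mem_normalizer_of_commutes h)

/-- an element commuting with `e` and `u` commutes with `e * u * e⁻¹` -/
theorem comm_conj_elem {f e u : G} (h1 : f * e = e * f) (h2 : f * u = u * f) :
    f * (e * u * e⁻¹) = e * u * e⁻¹ * f :=
  (((show Commute f e from h1).mul_right (show Commute f u from h2)).mul_right
    (show Commute f e from h1).inv_right).eq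

/-- `T, T'` commute, `E` is opposite `T` and in the commutator case with `T'`:
then `F = ⁅T', E⁆` and `T` are in the commutator case. -/
theorem commCase_FT (hS : IsRootSubgroupSet S) {T T' E : Subgroup G} (hT : T ∈ S) (hT' : T' ∈ S)
    (hE : E ∈ S) (hTT' : ∀ x ∈ T, ∀ y ∈ T', x * y = y * x) (hTE : IsRankOnePair T E)
    (hcase : RootCommutatorCase S T' E) : RootCommutatorCase S ⁅T', E⁆ T := by
  have hF : ⁅T', E⁆ ∈ S := hcase.1
  have hFE : ∀ f ∈ ⁅T', E⁆, ∀ y ∈ E, f * y = y * f :=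
    fun f hf y hy => hcase.2.1 f hf y (Subgroup.mem_sup_right hy)
  have hFT' : ∀ f ∈ ⁅T', E⁆, ∀ y ∈ T', f * y = y * f :=
    fun f hf y hy => hcase.2.1 f hf y (Subgroup.mem_sup_left hy)
  rcases hS.pair _ hF T hT with h | h | h
  · -- `F` commutes with `T`
    exfalso
    rw [commutator_eq_bot_iff'] at h
    obtain ⟨e, he, he1⟩ := exists_ne_one_of_ne_bot (hS.ne_bot E hE)
    have hT₁ : ∀ t' ∈ T', ∀ y ∈ conjBy T e, t' * y = y * t' := by
      intro t' ht' y hy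
      have h1 : e * t' * e⁻¹ ∈ conjBy T' e := conj_mem_conjBy ht'
      have h2 := Cfsg.Agent.S5036.comm_conj hTT' e y hy _ h1
      have hf' : kap t' e⁻¹ ∈ ⁅T', E⁆ := kap_mem ht' (inv_mem he)
      have e1 : e * t' * e⁻¹ = t' * kap t' e⁻¹ := by unfold kap; group
      have h3 : kap t' e⁻¹ * y = y * kap t' e⁻¹ := by
        rw [mem_conjBy] at hy
        have h4 := h _ hf' _ hy
        have h5 := hFE _ hf' e he
        have e2 : y = e * (e⁻¹ * y * e) * e⁻¹ := by group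
        rw [e2]
        exact comm_conj_elem h5 h4
      rw [e1] at h2
      -- h2 : y * (t' * f) = t' * f * y
      have : t' * y * kap t' e⁻¹ = y * t' * kap t' e⁻¹ := by
        rw [mul_assoc, ← h3, ← mul_assoc, ← h2, mul_assoc]
      exact mul_right_cancel this
    have hne : T ≠ conjBy T e := by
      intro heq
      exact he1 (eq_one_of_mem_normalizer (RankOnePair_symm hTE) he
        (conjBy_eq_self_iff.mp heq.symm))
    have hsup := (pair_of_distinct hTE left_mem_unipotent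
      (conjBy_mem_unipotent left_mem_unipotent (Subgroup.mem_sup_right he)) hne).2
    have hall : ∀ t' ∈ T', ∀ y ∈ T ⊔ conjBy T e, t' * y = y * t' :=
      Cfsg.Agent.S5030.forall_sup_comm' (fun t' ht' y hy => (hTT' y hy t' ht').symm) hT₁
    apply hS.ne_bot _ hF
    rw [commutator_eq_bot_iff']
    intro t' ht' y hy
    apply hall t' ht'
    rw [hsup]
    exact Subgroup.mem_sup_right hy
  · -- `(F, T)` is a rank one pair
    exfalso
    have hcaseE : RootCommutatorCase S E T' := by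
      apply commutatorCase_of_mem hS hE hT'
      rw [Subgroup.commutator_comm]; exact hF
    have hcomm : ⁅E, T'⁆ = ⁅T', E⁆ := Subgroup.commutator_comm _ _
    have hFneE : ⁅T', E⁆ ≠ E := by
      rw [← hcomm]; exact commutator_ne_left hS hcaseE
    have hinf : E ⊓ ⁅T', E⁆ = ⊥ := inf_eq_bot_of_ne hS hE hT (RankOnePair_symm hTE) hF hFneE
    obtain ⟨f, hf, hf1⟩ := exists_ne_one_of_ne_bot (hS.ne_bot _ hF)
    obtain ⟨e', he', he'1, hc⟩ := third_point (RankOnePair_symm hTE) h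
      (fun x hx y hy => (hFE y hy x hx).symm) hf hf1
    have hx1 : f * e'⁻¹ ≠ 1 := by
      intro h1
      have : f = e' := by
        have := mul_inv_eq_one.mp h1
        exact this
      have hmem : f ∈ E ⊓ ⁅T', E⁆ := Subgroup.mem_inf.mpr ⟨this ▸ he', hf⟩
      rw [hinf, Subgroup.mem_bot] at hmem
      exact hf1 hmem
    have hxmem : f * e'⁻¹ ∈ E ⊔ ⁅E, T'⁆ := by
      rw [hcomm]
      exact mul_mem (Subgroup.mem_sup_right hf) (Subgroup.mem_sup_left (inv_mem he'))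
    have hnoniso : ¬ IsIsolatedIn (FAdj S) S E :=
      Cfsg.Agent.S5032.not_isolated hE hT (RankOnePair_symm hTE)
    obtain ⟨hmem, hpart, -, -⟩ := Cfsg.Agent.S5029.result hS hnoniso hE hT' hcaseE.1
    obtain ⟨P, hP, hxP⟩ := hpart.2.1 _ hxmem hx1
    have hPT : IsRankOnePair P T := by
      rw [hmem] at hP
      rcases hP with ⟨b, hb, rfl⟩ | hP
      · have h1 := rankOnePair_conj (RankOnePair_symm hTE) b
        have h2 : conjBy T b = T :=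
          conjBy_of_commutes (fun x hx => (hTT' x hx b hb).symm)
        rw [h2] at h1
        exact h1
      · rw [Set.mem_singleton_iff] at hP
        rw [hP, hcomm]
        exact h
    exact hx1 (eq_one_of_conj_comm hPT hxP hc)
  · exact h

/-- `T, T'` commute, all products of non-identity elements are root elements, `E` is opposite `T`
and in the commutator case with `T'`: then `⁅⁅T', E⁆, T⁆ = T'`. -/
theorem comm_FT_eq (hS : IsRootSubgroupSet S) {T T' E : Subgroup G} (hT : T ∈ S) (hT' : T' ∈ S)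
    (hE : E ∈ S) (hTT' : ∀ x ∈ T, ∀ y ∈ T', x * y = y * x) (hTE : IsRankOnePair T E)
    (hcase : RootCommutatorCase S T' E) (hpT' : ∃ D ∈ S, IsRankOnePair T' D)
    (hroot : ∀ t ∈ T, t ≠ 1 → ∀ t' ∈ T', t' ≠ 1 → t' * t ∈ rootElements S) :
    ⁅⁅T', E⁆, T⁆ = T' := by
  have hFT := commCase_FT hS hT hT' hE hTT' hTE hcase
  have hF : ⁅T', E⁆ ∈ S := hcase.1
  have hT'' : ⁅⁅T', E⁆, T⁆ ∈ S := hFT.1
  have hFE : ∀ f ∈ ⁅T', E⁆, ∀ y ∈ E, f * y = y * f :=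
    fun f hf y hy => hcase.2.1 f hf y (Subgroup.mem_sup_right hy)
  have hFT' : ∀ f ∈ ⁅T', E⁆, ∀ y ∈ T', f * y = y * f :=
    fun f hf y hy => hcase.2.1 f hf y (Subgroup.mem_sup_left hy)
  have hT''F : ∀ g ∈ ⁅⁅T', E⁆, T⁆, ∀ y ∈ ⁅T', E⁆, g * y = y * g :=
    fun g hg y hy => hFT.2.1 g hg y (Subgroup.mem_sup_left hy)
  have hT''T : ∀ g ∈ ⁅⁅T', E⁆, T⁆, ∀ y ∈ T, g * y = y * g :=
    fun g hg y hy => hFT.2.1 g hg y (Subgroup.mem_sup_right hy)
  by_contra hne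
  obtain ⟨D', hD', hT'D'⟩ := hpT'
  have hinf : T' ⊓ ⁅⁅T', E⁆, T⁆ = ⊥ := inf_eq_bot_of_ne hS hT' hD' hT'D' hT'' hne
  obtain ⟨t, ht, ht1⟩ := exists_ne_one_left hTE
  obtain ⟨e, he, he1, hrel⟩ := hTE.cond_left t ht ht1
  obtain ⟨t', ht', ht'1⟩ := exists_ne_one_of_ne_bot (hS.ne_bot T' hT')
  have hti1 : t⁻¹ ≠ 1 := fun h => ht1 (inv_eq_one.mp h)
  -- φ and g
  have hφ : kap t' e ∈ ⁅T', E⁆ := kap_mem ht' he
  have hφ1 : kap t' e ≠ 1 := by
    rw [Ne, kap_eq_one_iff]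
    exact not_comm_of_right hS hE hcase hT (RankOnePair_symm hTE) ht' ht'1 he he1
  have hg : kap (kap t' e) t⁻¹ ∈ ⁅⁅T', E⁆, T⁆ := kap_mem hφ (inv_mem ht)
  have hg1 : kap (kap t' e) t⁻¹ ≠ 1 := by
    rw [Ne, kap_eq_one_iff]
    exact not_comm_of_right hS hT hFT hE hTE hφ hφ1 (inv_mem ht) hti1
  -- z = t' * g commutes with E
  have hzE : ∀ y ∈ E, t' * kap (kap t' e) t⁻¹ * y = y * (t' * kap (kap t' e) t⁻¹) := by
    intro y hy
    have h1 : e⁻¹ * t' * e⁻¹⁻¹ ∈ conjBy T' e⁻¹ := conj_mem_conjBy ht'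
    have h2 : t⁻¹ * y * t⁻¹⁻¹ ∈ conjBy T e⁻¹ := by
      rw [hrel]; exact conj_mem_conjBy hy
    have h3 := Cfsg.Agent.S5036.comm_conj hTT' e⁻¹ _ h2 _ h1
    rw [inv_inv, inv_inv] at h3
    -- h3 : t⁻¹ * y * t * (e⁻¹ * t' * e) = e⁻¹ * t' * e * (t⁻¹ * y * t)
    have e1 : e⁻¹ * t' * e = t' * kap t' e := Cfsg.Agent.S5029.conj_eq_mul_kap t' e
    have e2 : t * kap t' e * t⁻¹ = kap t' e * kap (kap t' e) t⁻¹ := by
      have := Cfsg.Agent.S5029.conj_eq_mul_kap (kap t' e) t⁻¹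
      rw [inv_inv] at this
      exact this
    have hφy : kap t' e * y = y * kap t' e := hFE _ hφ y hy
    have hgφ : kap (kap t' e) t⁻¹ * kap t' e = kap t' e * kap (kap t' e) t⁻¹ := hT''F _ hg _ hφ
    have htt' : t * t' = t' * t := hTT' t ht t' ht'
    rw [e1] at h3
    generalize kap (kap t' e) t⁻¹ = g at *
    generalize kap t' e = φ at *
    -- w = t (t' φ) t⁻¹ = t' φ g commutes with y
    have hw : t' * φ * g * y = y * (t' * φ * g) := by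
      have e3 : t' * φ * g = t * (t' * φ) * t⁻¹ := by
        rw [mul_assoc t', ← e2, ← mul_assoc, ← mul_assoc, ← mul_assoc, htt']
      rw [e3]
      have : t * (t⁻¹ * y * t * (t' * φ)) * t⁻¹ = t * (t' * φ * (t⁻¹ * y * t)) * t⁻¹ := by rw [h3]
      have l : t * (t⁻¹ * y * t * (t' * φ)) * t⁻¹ = y * (t * (t' * φ) * t⁻¹) := by group
      have r : t * (t' * φ * (t⁻¹ * y * t)) * t⁻¹ = t * (t' * φ) * t⁻¹ * y := by group
      rw [l, r] at this
      exact this.symm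
    have e4 : t' * φ * g = t' * g * φ := by rw [mul_assoc, ← hgφ, ← mul_assoc]
    rw [e4] at hw
    have : t' * g * y * φ = y * (t' * g) * φ := by
      rw [mul_assoc (t' * g), ← hφy, ← mul_assoc, hw]
      group
    exact mul_right_cancel this
  have hzT : ∀ y ∈ T, t' * kap (kap t' e) t⁻¹ * y = y * (t' * kap (kap t' e) t⁻¹) := by
    intro y hy
    rw [mul_assoc, hT''T _ hg y hy, ← mul_assoc, ← hTT' y hy t' ht', mul_assoc]
  have hzF : ∀ y ∈ ⁅T', E⁆, t' * kap (kap t' e) t⁻¹ * y = y * (t' * kap (kap t' e) t⁻¹) := by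
    intro y hy
    rw [mul_assoc, hT''F _ hg y hy, ← mul_assoc, ← hFT' y hy t' ht', mul_assoc]
  have hz1 : t' * kap (kap t' e) t⁻¹ ≠ 1 := by
    intro h1
    have h2 : t' = (kap (kap t' e) t⁻¹)⁻¹ := eq_inv_of_mul_eq_one_left h1
    have hmem : t' ∈ T' ⊓ ⁅⁅T', E⁆, T⁆ :=
      Subgroup.mem_inf.mpr ⟨ht', by rw [h2]; exact inv_mem hg⟩
    rw [hinf, Subgroup.mem_bot] at hmem
    exact ht'1 hmem
  -- the line through T and T''
  have hcomm : ⁅T, ⁅T', E⁆⁆ = ⁅⁅T', E⁆, T⁆ := Subgroup.commutator_comm _ _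
  have hcaseTF : RootCommutatorCase S T ⁅T', E⁆ := by
    apply commutatorCase_of_mem hS hT hF
    rw [hcomm]; exact hT''
  have hT''ne : ⁅⁅T', E⁆, T⁆ ≠ T := by
    rw [← hcomm]; exact commutator_ne_left hS hcaseTF
  have hinf2 : T ⊓ ⁅⁅T', E⁆, T⁆ = ⊥ := inf_eq_bot_of_ne hS hT hE hTE hT'' hT''ne
  have hnoniso : ¬ IsIsolatedIn (FAdj S) S T := Cfsg.Agent.S5032.not_isolated hT hE hTE
  obtain ⟨hmem, hpart, -, -⟩ := Cfsg.Agent.S5029.result hS hnoniso hT hF hcaseTF.1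
  have hx1 : t * (kap (kap t' e) t⁻¹)⁻¹ ≠ 1 := by
    intro h1
    have h2 : t = kap (kap t' e) t⁻¹ := by
      have := mul_inv_eq_one.mp h1
      exact this
    have hmem' : t ∈ T ⊓ ⁅⁅T', E⁆, T⁆ := Subgroup.mem_inf.mpr ⟨ht, by rw [h2]; exact hg⟩
    rw [hinf2, Subgroup.mem_bot] at hmem'
    exact ht1 hmem'
  have hxmem : t * (kap (kap t' e) t⁻¹)⁻¹ ∈ T ⊔ ⁅T, ⁅T', E⁆⁆ := by
    rw [hcomm]
    exact mul_mem (Subgroup.mem_sup_left ht) (Subgroup.mem_sup_right (inv_mem hg))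
  obtain ⟨P, hP, hxP⟩ := hpart.2.1 _ hxmem hx1
  rw [hmem] at hP
  rcases hP with ⟨f, hf, rfl⟩ | hP
  · have hPE : IsRankOnePair (conjBy T f) E := by
      have h1 := rankOnePair_conj hTE f
      have h2 : conjBy E f = E := conjBy_of_commutes (fun x hx => hFE f hf x hx)
      rw [h2] at h1
      exact h1
    have hzP : ∀ x ∈ conjBy T f, t' * kap (kap t' e) t⁻¹ * x = x * (t' * kap (kap t' e) t⁻¹) := by
      intro x hx
      rw [mem_conjBy] at hx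
      have e2 : x = f * (f⁻¹ * x * f) * f⁻¹ := by group
      rw [e2]
      exact comm_conj_elem (hzF f hf) (hzT _ hx)
    have hnot := Cfsg.Agent.S5025.no_translate hS (hS.conj_mem T hT f) hE hPE hzP hzE hz1 hxP hx1
    apply hnot
    have e5 : t' * kap (kap t' e) t⁻¹ * (t * (kap (kap t' e) t⁻¹)⁻¹) = t' * t := by
      have := hT''T _ hg t ht
      rw [mul_assoc, ← mul_assoc _ t, this, mul_assoc t, mul_inv_cancel, mul_one]
    rw [e5]
    exact hroot t ht ht1 t' ht' ht'1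
  · rw [Set.mem_singleton_iff] at hP
    rw [hP, hcomm] at hxP
    have h1 : t ∈ ⁅⁅T', E⁆, T⁆ := by
      have := mul_mem hxP hg
      rwa [inv_mul_cancel_right] at this
    have hmem' : t ∈ T ⊓ ⁅⁅T', E⁆, T⁆ := Subgroup.mem_inf.mpr ⟨ht, h1⟩
    rw [hinf2, Subgroup.mem_bot] at hmem'
    exact ht1 hmem'

/-- On a line `A ⊔ B` (with `B ∈ Λ_A`) and for `E` opposite `A` there is a point `Q ≠ A` in the
commutator case with `E`, with `⁅⁅Q, E⁆, A⁆ = Q` and `A ⊔ Q = A ⊔ B`. -/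
theorem line_point (hS : IsRootSubgroupSet S) (hall : ∀ A ∈ S, ∃ D ∈ S, IsRankOnePair A D)
    {A B E : Subgroup G} (hA : A ∈ S) (hB : B ∈ linePartners S A) (hE : E ∈ S)
    (hAE : IsRankOnePair A E) :
    ∃ Q ∈ membersIn S (A ⊔ B), Q ≠ A ∧ RootCommutatorCase S Q E ∧ ⁅⁅Q, E⁆, A⁆ = Q ∧
      A ⊔ Q = A ⊔ B := by
  obtain ⟨⟨hBS, hBA, hcomm⟩, hpart⟩ := hB
  rw [commutator_eq_bot_iff'] at hcomm
  have hAmem : A ∈ membersIn S (A ⊔ B) := ⟨hA, le_sup_left⟩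
  have hBmem : B ∈ membersIn S (A ⊔ B) := ⟨hBS, le_sup_right⟩
  have hNab : ∀ x ∈ A ⊔ B, ∀ y ∈ A ⊔ B, x * y = y * x :=
    Cfsg.Agent.S5030.sup_abelian (fun x hx y hy => comm_of_mem hS hA hx hy)
      (fun x hx y hy => comm_of_mem hS hBS hx hy) hcomm
  have hroot : ∀ x ∈ A ⊔ B, x ≠ 1 → x ∈ rootElements S := by
    intro x hx hx1
    obtain ⟨C, hC, hxC⟩ := hpart.2.1 x hx hx1
    exact ⟨hx1, C, hC.1, hxC⟩
  have hinfA : ∀ Q ∈ membersIn S (A ⊔ B), Q ≠ A → ∀ x ∈ Q, x ∈ A → x = 1 := by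
    intro Q hQ hQA x hxQ hxA
    have hinf := hpart.2.2 Q hQ A hAmem hQA
    have : x ∈ Q ⊓ A := Subgroup.mem_inf.mpr ⟨hxQ, hxA⟩
    rw [hinf, Subgroup.mem_bot] at this
    exact this
  have hprod : ∀ Q ∈ membersIn S (A ⊔ B), Q ≠ A → ∀ t ∈ A, t ≠ 1 → ∀ t' ∈ Q, t' ≠ 1 →
      t' * t ∈ rootElements S := by
    intro Q hQ hQA t ht ht1 t' ht' ht'1
    apply hroot _ (mul_mem (hQ.2 ht') (Subgroup.mem_sup_left ht))
    intro h1
    have h2 : t' = t⁻¹ := eq_inv_of_mul_eq_one_left h1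
    exact ht'1 (hinfA Q hQ hQA t' ht' (by rw [h2]; exact inv_mem ht))
  have hkey : ∀ Q ∈ membersIn S (A ⊔ B), Q ≠ A → RootCommutatorCase S Q E → ⁅⁅Q, E⁆, A⁆ = Q := by
    intro Q hQ hQA hcase
    exact comm_FT_eq hS hA hQ.1 hE
      (fun x hx y hy => hNab x (Subgroup.mem_sup_left hx) y (hQ.2 hy)) hAE hcase (hall Q hQ.1)
      (hprod Q hQ hQA)
  have hnocomm : ∀ Q ∈ membersIn S (A ⊔ B), Q ≠ A → ⁅Q, E⁆ ≠ ⊥ := by
    intro Q hQ hQA hbot
    rw [commutator_eq_bot_iff'] at hbot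
    obtain ⟨t, ht, ht1⟩ := exists_ne_one_left hAE
    obtain ⟨t', ht', ht'1⟩ := exists_ne_one_of_ne_bot (hS.ne_bot Q hQ.1)
    exact not_comm_of_translate hS hA hE hAE
      (fun x hx y hy => hNab x (hQ.2 hx) y (Subgroup.mem_sup_left hy)) ht ht1 ht' ht'1
      (hprod Q hQ hQA t ht ht1 t' ht' ht'1) hbot
  rcases hS.pair B hBS E hE with h | h | h
  · exact absurd h (hnocomm B hBmem hBA)
  · -- both `A` and `B` opposite `E`
    obtain ⟨b, hb, hb1⟩ := exists_ne_one_left h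
    obtain ⟨a, ha, ha1, hc⟩ := third_point hAE h hcomm hb hb1
    have hxN : b * a⁻¹ ∈ A ⊔ B :=
      mul_mem (Subgroup.mem_sup_right hb) (Subgroup.mem_sup_left (inv_mem ha))
    have hx1 : b * a⁻¹ ≠ 1 := by
      intro h1
      have h2 : b = a := mul_inv_eq_one.mp h1
      exact hb1 (hinfA B hBmem hBA b hb (h2 ▸ ha))
    obtain ⟨Q, hQ, hxQ⟩ := hpart.2.1 _ hxN hx1
    have hQA : Q ≠ A := by
      rintro rfl
      have : b ∈ Q := by
        have := mul_mem hxQ ha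
        rwa [inv_mul_cancel_right] at this
      exact hb1 (hinfA B hBmem hBA b hb this)
    have hcase : RootCommutatorCase S Q E := by
      rcases hS.pair Q hQ.1 E hE with h' | h' | h'
      · exact absurd h' (hnocomm Q hQ hQA)
      · exact absurd (eq_one_of_conj_comm h' hxQ hc) hx1
      · exact h'
    have hFAQ := hkey Q hQ hQA hcase
    refine ⟨Q, hQ, hQA, hcase, hFAQ, ?_⟩
    apply le_antisymm (sup_le le_sup_left hQ.2)
    apply sup_le le_sup_left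
    -- `B ≤ A ⊔ Q`
    have hcommFA : ⁅A, ⁅Q, E⁆⁆ = Q := by rw [Subgroup.commutator_comm]; exact hFAQ
    have hnoniso : ¬ IsIsolatedIn (FAdj S) S A := Cfsg.Agent.S5032.not_isolated hA hE hAE
    have hC : ⁅A, ⁅Q, E⁆⁆ ∈ S := by rw [hcommFA]; exact hQ.1
    obtain ⟨-, hpart', -, -⟩ := Cfsg.Agent.S5029.result hS hnoniso hA hcase.1 hC
    rw [hcommFA] at hpart'
    have hbmem : b ∈ A ⊔ Q := by
      have : b = (b * a⁻¹) * a := by group
      rw [this]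
      exact mul_mem (Subgroup.mem_sup_right hxQ) (Subgroup.mem_sup_left ha)
    obtain ⟨P, hP, hbP⟩ := hpart'.2.1 b hbmem hb1
    obtain ⟨D, hD, hBD⟩ := hall B hBS
    have hPB : P = B := eq_of_common hS hBS hD hBD hP.1 hb hbP hb1
    rw [← hPB]
    exact hP.2
  · exact ⟨B, hBmem, hBA, h, hkey B hBmem hBA h, rfl⟩

/-- `Q` is a good point of the line `N`: some member `F` of `S` normalizes `N`, fixes `Q` and is
transitive on the other points. -/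
def Good (S : Set (Subgroup G)) (N Q : Subgroup G) : Prop :=
  ∃ F ∈ S, (∀ f ∈ F, conjBy N f = N) ∧ (∀ f ∈ F, conjBy Q f = Q) ∧
    ∀ T₁ ∈ membersIn S N, ∀ T₂ ∈ membersIn S N, T₁ ≠ Q → T₂ ≠ Q → ∃ f ∈ F, conjBy T₁ f = T₂

/-- existence of a good point not opposite `E` -/
theorem good_of_partner (hS : IsRootSubgroupSet S) (hall : ∀ A ∈ S, ∃ D ∈ S, IsRankOnePair A D)
    {A B E : Subgroup G} (hA : A ∈ S) (hB : B ∈ linePartners S A) (hE : E ∈ S)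
    (hAE : IsRankOnePair A E) :
    ∃ Q ∈ membersIn S (A ⊔ B), Q ≠ A ∧ RootCommutatorCase S Q E ∧ Good S (A ⊔ B) Q ∧
      A ⊔ Q = A ⊔ B := by
  obtain ⟨Q, hQ, hQA, hcase, hFAQ, hsup⟩ := line_point hS hall hA hB hE hAE
  refine ⟨Q, hQ, hQA, hcase, ?_, hsup⟩
  have hcommFA : ⁅A, ⁅Q, E⁆⁆ = Q := by rw [Subgroup.commutator_comm]; exact hFAQ
  have hnoniso : ¬ IsIsolatedIn (FAdj S) S A := Cfsg.Agent.S5032.not_isolated hA hE hAE
  have hC : ⁅A, ⁅Q, E⁆⁆ ∈ S := by rw [hcommFA]; exact hQ.1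
  obtain ⟨hmem, -, -, -⟩ := Cfsg.Agent.S5029.result hS hnoniso hA hcase.1 hC
  rw [hcommFA, hsup] at hmem
  have hFQ : ∀ f ∈ ⁅Q, E⁆, conjBy Q f = Q := fun f hf =>
    conjBy_of_commutes (fun x hx => hcase.2.1 f hf x (Subgroup.mem_sup_left hx))
  have hle : ∀ f ∈ ⁅Q, E⁆, conjBy (A ⊔ B) f ≤ A ⊔ B := by
    intro f hf
    rw [← hsup, conjBy_sup, hFQ f hf]
    apply sup_le _ le_sup_right
    have := Cfsg.Agent.S5030.conj_left_le (A := A) (B := ⁅Q, E⁆) f hf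
    rwa [hcommFA] at this
  have hN : ∀ f ∈ ⁅Q, E⁆, conjBy (A ⊔ B) f = A ⊔ B := by
    intro f hf
    apply le_antisymm (hle f hf)
    have h1 := conjBy_mono (hle f⁻¹ (inv_mem hf)) f
    rwa [conjBy_conjBy, mul_inv_cancel, conjBy_one] at h1
  refine ⟨⁅Q, E⁆, hcase.1, hN, hFQ, ?_⟩
  intro T₁ hT₁ T₂ hT₂ hne₁ hne₂
  rw [hmem] at hT₁ hT₂
  rcases hT₁ with ⟨f₁, hf₁, rfl⟩ | hT₁
  · rcases hT₂ with ⟨f₂, hf₂, rfl⟩ | hT₂
    · refine ⟨f₂ * f₁⁻¹, mul_mem hf₂ (inv_mem hf₁), ?_⟩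
      show conjBy (conjBy A f₁) (f₂ * f₁⁻¹) = conjBy A f₂
      rw [conjBy_conjBy, inv_mul_cancel_right]
    · exact absurd hT₂ hne₂
  · exact absurd hT₁ hne₁

/-- two good points and a third point give double transitivity -/
theorem two_transitive_of_good {N Q₁ Q₂ K : Subgroup G}
    (hconj : ∀ T ∈ S, ∀ g : G, conjBy T g ∈ S) (hK : ∀ x ∈ K, conjBy N x = N)
    (hne : Q₁ ≠ Q₂)
    (h₁ : ∃ F : Subgroup G, F ≤ K ∧ (∀ f ∈ F, conjBy Q₁ f = Q₁) ∧ ∀ T₁ ∈ membersIn S N,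
      ∀ T₂ ∈ membersIn S N, T₁ ≠ Q₁ → T₂ ≠ Q₁ → ∃ f ∈ F, conjBy T₁ f = T₂)
    (h₂ : ∃ F : Subgroup G, F ≤ K ∧ (∀ f ∈ F, conjBy Q₂ f = Q₂) ∧ ∀ T₁ ∈ membersIn S N,
      ∀ T₂ ∈ membersIn S N, T₁ ≠ Q₂ → T₂ ≠ Q₂ → ∃ f ∈ F, conjBy T₁ f = T₂)
    (hQ₁ : Q₁ ∈ membersIn S N)
    (h3 : ∃ T₃ ∈ membersIn S N, T₃ ≠ Q₁ ∧ T₃ ≠ Q₂) :
    ∀ C₁ ∈ membersIn S N, ∀ C₂ ∈ membersIn S N, ∀ D₁ ∈ membersIn S N, ∀ D₂ ∈ membersIn S N,
      C₁ ≠ C₂ → D₁ ≠ D₂ → ∃ x ∈ K, conjBy C₁ x = D₁ ∧ conjBy C₂ x = D₂ := by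
  obtain ⟨F₁, hF₁K, hF₁Q, hF₁t⟩ := h₁
  obtain ⟨F₂, hF₂K, hF₂Q, hF₂t⟩ := h₂
  obtain ⟨T₃, hT₃, hT₃1, hT₃2⟩ := h3
  have hinv : ∀ x ∈ K, ∀ T ∈ membersIn S N, conjBy T x ∈ membersIn S N := by
    intro x hx T hT
    refine ⟨hconj T hT.1 x, ?_⟩
    have := conjBy_mono hT.2 x
    rwa [hK x hx] at this
  have htrans : ∀ T ∈ membersIn S N, ∃ x ∈ K, conjBy T x = Q₁ := by
    intro T hT
    by_cases h1 : T = Q₁
    · exact ⟨1, one_mem _, by rw [h1, conjBy_one]⟩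
    by_cases h2 : T = Q₂
    · obtain ⟨f₁, hf₁, hf₁e⟩ := hF₁t T hT T₃ hT₃ h1 hT₃1
      obtain ⟨f₂, hf₂, hf₂e⟩ := hF₂t T₃ hT₃ Q₁ hQ₁ hT₃2 hne
      refine ⟨f₂ * f₁, mul_mem (hF₂K hf₂) (hF₁K hf₁), ?_⟩
      rw [← conjBy_conjBy, hf₁e, hf₂e]
    · obtain ⟨f₂, hf₂, hf₂e⟩ := hF₂t T hT Q₁ hQ₁ h2 hne
      exact ⟨f₂, hF₂K hf₂, hf₂e⟩
  intro C₁ hC₁ C₂ hC₂ D₁ hD₁ D₂ hD₂ hC hD
  obtain ⟨x, hx, hxC⟩ := htrans C₁ hC₁
  obtain ⟨y, hy, hyD⟩ := htrans D₁ hD₁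
  have hC₂' : conjBy C₂ x ≠ Q₁ := by
    intro h
    exact hC (conjBy_inj (hxC.trans h.symm))
  have hD₂' : conjBy D₂ y ≠ Q₁ := by
    intro h
    exact hD (conjBy_inj (hyD.trans h.symm))
  obtain ⟨f, hf, hfe⟩ := hF₁t _ (hinv x hx C₂ hC₂) _ (hinv y hy D₂ hD₂) hC₂' hD₂'
  refine ⟨y⁻¹ * f * x, mul_mem (mul_mem (inv_mem hy) (hF₁K hf)) hx, ?_, ?_⟩
  · rw [← conjBy_conjBy, ← conjBy_conjBy, hxC, hF₁Q f hf]
    rw [conjBy_eq_iff] at hyD
    exact hyD.symm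
  · rw [← conjBy_conjBy, ← conjBy_conjBy, hfe, conjBy_conjBy, inv_mul_cancel, conjBy_one]

end Cfsg.Agent.Lib.Helper4.RootLine
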