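import Cfsg.Agent.Lib.Helper4.RootLine2
import Cfsg.Agent.S5038

set_option autoImplicit false
open Cfsg

namespace Cfsg.Agent.Lib.Helper4.RootLine3

open Cfsg.Agent.Lib.Helper4.RankOneGrp Cfsg.Agent.Lib.Helper4.RootSub
  Cfsg.Agent.Lib.Helper4.RootSub2 Cfsg.Agent.Lib.Helper4.RootSub3
  Cfsg.Agent.Lib.Helper4.RootLine Cfsg.Agent.Lib.Helper4.RootLine2
open scoped commutatorElement

variable {G : Type*} [Group G] {S : Set (Subgroup G)}

/-- non-isolatedness from partners -/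
theorem noniso_of_hall (hall : ∀ A ∈ S, ∃ D ∈ S, IsRankOnePair A D) :
    ∀ T ∈ S, ¬ IsIsolatedIn (FAdj S) S T := by
  intro T hT
  obtain ⟨D, hD, hTD⟩ := hall T hT
  exact Cfsg.Agent.S5032.not_isolated hT hD hTD

/-- the line `A ⊔ B` is abelian -/
theorem line_abelian (hS : IsRootSubgroupSet S) {A B : Subgroup G} (hA : A ∈ S)
    (hB : B ∈ linePartners S A) : ∀ x ∈ A ⊔ B, ∀ y ∈ A ⊔ B, x * y = y * x := by
  obtain ⟨⟨hBS, -, hcomm⟩, -⟩ := hB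
  rw [commutator_eq_bot_iff'] at hcomm
  exact Cfsg.Agent.S5030.sup_abelian (fun x hx y hy => comm_of_mem hS hA hx hy)
    (fun x hx y hy => comm_of_mem hS hBS hx hy) hcomm

/-- `line_point` together with the description of the points of the line -/
theorem line_desc (hS : IsRootSubgroupSet S) (hall : ∀ A ∈ S, ∃ D ∈ S, IsRankOnePair A D)
    {A B E : Subgroup G} (hA : A ∈ S) (hB : B ∈ linePartners S A) (hE : E ∈ S)
    (hAE : IsRankOnePair A E) :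
    ∃ Q ∈ membersIn S (A ⊔ B), Q ≠ A ∧ RootCommutatorCase S Q E ∧ ⁅⁅Q, E⁆, A⁆ = Q ∧
      A ⊔ Q = A ⊔ B ∧
      membersIn S (A ⊔ B) = (fun f : G => conjBy A f) '' ((⁅Q, E⁆ : Subgroup G) : Set G) ∪ {Q} := by
  obtain ⟨Q, hQ, hQA, hcase, hFAQ, hsup⟩ := line_point hS hall hA hB hE hAE
  refine ⟨Q, hQ, hQA, hcase, hFAQ, hsup, ?_⟩
  have hcommFA : ⁅A, ⁅Q, E⁆⁆ = Q := by rw [Subgroup.commutator_comm]; exact hFAQ
  have hnoniso : ¬ IsIsolatedIn (FAdj S) S A := Cfsg.Agent.S5032.not_isolated hA hE hAE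
  have hC : ⁅A, ⁅Q, E⁆⁆ ∈ S := by rw [hcommFA]; exact hQ.1
  obtain ⟨hmem, -, -, -⟩ := Cfsg.Agent.S5029.result hS hnoniso hA hcase.1 hC
  rw [hcommFA, hsup] at hmem
  exact hmem

/-- any two different points of a line generate it -/
theorem line_sup_eq (hS : IsRootSubgroupSet S) (hall : ∀ A ∈ S, ∃ D ∈ S, IsRankOnePair A D)
    {A B T₁ T₂ : Subgroup G} (hA : A ∈ S) (hB : B ∈ linePartners S A)
    (hT₁ : T₁ ∈ membersIn S (A ⊔ B)) (hT₂ : T₂ ∈ membersIn S (A ⊔ B)) (hne : T₁ ≠ T₂) :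
    T₁ ⊔ T₂ = A ⊔ B := by
  have hAm : A ∈ membersIn S (A ⊔ B) := ⟨hA, le_sup_left⟩
  have hBm : B ∈ membersIn S (A ⊔ B) := ⟨hB.1.1, le_sup_right⟩
  obtain ⟨x, hx, hx1, hx2⟩ := Cfsg.Agent.S5038.result hS (noniso_of_hall hall) hA hB A hAm B hBm
    T₁ hT₁ T₂ hT₂ hB.1.2.1.symm hne
  have hle : (⨆ E ∈ normalizingMembers S (A ⊔ B), E) ≤
      Subgroup.normalizer ((A ⊔ B : Subgroup G) : Set G) :=
    iSup₂_le (fun E hE => hE.2)
  have hN : conjBy (A ⊔ B) x = A ⊔ B := conjBy_eq_self_iff.mpr (hle hx)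
  rw [← hx1, ← hx2, ← conjBy_sup, hN]

/-- a point of a line through `A` other than `A` is a line partner of `A` -/
theorem mem_linePartners_of_mem (hS : IsRootSubgroupSet S)
    (hall : ∀ A ∈ S, ∃ D ∈ S, IsRankOnePair A D) {A B T : Subgroup G} (hA : A ∈ S)
    (hB : B ∈ linePartners S A) (hT : T ∈ membersIn S (A ⊔ B)) (hne : T ≠ A) :
    T ∈ linePartners S A := by
  have hAm : A ∈ membersIn S (A ⊔ B) := ⟨hA, le_sup_left⟩
  have hab := line_abelian hS hA hB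
  refine ⟨⟨hT.1, hne, ?_⟩, ?_⟩
  · rw [commutator_eq_bot_iff']
    exact fun x hx y hy => hab x (Subgroup.mem_sup_left hx) y (hT.2 hy)
  · rw [line_sup_eq hS hall hA hB hAm hT hne.symm]
    exact hB.2

/-- a third point on a line -/
theorem exists_third (hS : IsRootSubgroupSet S) {N Q₁ Q₂ : Subgroup G}
    (hpart : IsSubgroupPartition N (membersIn S N)) (hQ₁ : Q₁ ∈ membersIn S N)
    (hQ₂ : Q₂ ∈ membersIn S N) (hne : Q₁ ≠ Q₂) :
    ∃ T₃ ∈ membersIn S N, T₃ ≠ Q₁ ∧ T₃ ≠ Q₂ := by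
  obtain ⟨q₁, hq₁, hq₁1⟩ := exists_ne_one_of_ne_bot (hS.ne_bot Q₁ hQ₁.1)
  obtain ⟨q₂, hq₂, hq₂1⟩ := exists_ne_one_of_ne_bot (hS.ne_bot Q₂ hQ₂.1)
  have hinf : Q₁ ⊓ Q₂ = ⊥ := hpart.2.2 Q₁ hQ₁ Q₂ hQ₂ hne
  have hinf' : ∀ x ∈ Q₁, x ∈ Q₂ → x = 1 := by
    intro x h1 h2
    have : x ∈ Q₁ ⊓ Q₂ := Subgroup.mem_inf.mpr ⟨h1, h2⟩
    rw [hinf, Subgroup.mem_bot] at this
    exact this
  have hx1 : q₁ * q₂ ≠ 1 := by
    intro h1
    have h2 : q₁ = q₂⁻¹ := eq_inv_of_mul_eq_one_left h1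
    exact hq₁1 (hinf' q₁ hq₁ (by rw [h2]; exact inv_mem hq₂))
  obtain ⟨T₃, hT₃, hxT₃⟩ := hpart.2.1 (q₁ * q₂) (mul_mem (hQ₁.2 hq₁) (hQ₂.2 hq₂)) hx1
  refine ⟨T₃, hT₃, ?_, ?_⟩
  · rintro rfl
    have : q₂ ∈ T₃ := by
      have := mul_mem (inv_mem hq₁) hxT₃
      rwa [inv_mul_cancel_left] at this
    exact hq₂1 (hinf' q₂ this hq₂)
  · rintro rfl
    have : q₁ ∈ T₃ := by
      have := mul_mem hxT₃ (inv_mem hq₂)
      rwa [mul_inv_cancel_right] at this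
    exact hq₁1 (hinf' q₁ hq₁ this)

/-- products of non-identity elements on a line are root elements -/
theorem line_root {A B : Subgroup G} (hA : A ∈ S) (hB : B ∈ linePartners S A) :
    ∀ t ∈ A, t ≠ 1 → ∀ t' ∈ B, t' ≠ 1 → t' * t ∈ rootElements S := by
  intro t ht ht1 t' ht' ht'1
  have hAm : A ∈ membersIn S (A ⊔ B) := ⟨hA, le_sup_left⟩
  have hBm : B ∈ membersIn S (A ⊔ B) := ⟨hB.1.1, le_sup_right⟩
  have hinf := hB.2.2.2 B hBm A hAm hB.1.2.1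
  have hx1 : t' * t ≠ 1 := by
    intro h1
    have h2 : t' = t⁻¹ := eq_inv_of_mul_eq_one_left h1
    have : t' ∈ B ⊓ A := Subgroup.mem_inf.mpr ⟨ht', by rw [h2]; exact inv_mem ht⟩
    rw [hinf, Subgroup.mem_bot] at this
    exact ht'1 this
  obtain ⟨C, hC, hxC⟩ := hB.2.2.1 _ (mul_mem (Subgroup.mem_sup_right ht') (Subgroup.mem_sup_left ht))
    hx1
  exact ⟨hx1, C, hC.1, hxC⟩

/-- the commutator subgroup lies in the join -/
theorem commutator_le_sup' (H K : Subgroup G) : ⁅H, K⁆ ≤ H ⊔ K := by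
  rw [Subgroup.commutator_le]
  intro h hh k hk
  rw [commutatorElement_def]
  exact mul_mem (mul_mem (mul_mem (Subgroup.mem_sup_left hh) (Subgroup.mem_sup_right hk))
    (Subgroup.mem_sup_left (inv_mem hh))) (Subgroup.mem_sup_right (inv_mem hk))

end Cfsg.Agent.Lib.Helper4.RootLine3
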