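import Cfsg.Agent.Lib.Helper4.RootSub3

set_option autoImplicit false
set_option linter.unusedVariables false

/-! Right-conjugation notation `rc A g = g⁻¹ A g` and basic facts about rank one pairs in
that notation. -/

namespace Cfsg.Agent.Lib.Helper4.Rt1

open Cfsg Cfsg.Agent.Lib.Helper4.RankOneGrp Cfsg.Agent.Lib.Helper4.RootSub
  Cfsg.Agent.Lib.Helper4.RootSub2 Cfsg.Agent.Lib.Helper4.RootSub3

variable {G : Type*} [Group G]

/-- the right conjugate `g⁻¹ A g` -/
def rc (A : Subgroup G) (g : G) : Subgroup G := conjBy A g⁻¹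

theorem rc_def (A : Subgroup G) (g : G) : rc A g = conjBy A g⁻¹ := rfl

theorem conjBy_eq_rc (A : Subgroup G) (g : G) : conjBy A g = rc A g⁻¹ := by
  rw [rc_def, inv_inv]

theorem mem_rc {A : Subgroup G} {g x : G} : x ∈ rc A g ↔ g * x * g⁻¹ ∈ A := by
  rw [rc_def, mem_conjBy, inv_inv]

theorem re_mem_rc {A : Subgroup G} {g x : G} (hx : x ∈ A) : g⁻¹ * x * g ∈ rc A g := by
  rw [mem_rc]
  have : g * (g⁻¹ * x * g) * g⁻¹ = x := by group
  rw [this]; exact hx

theorem rc_rc (A : Subgroup G) (g h : G) : rc (rc A g) h = rc A (g * h) := by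
  rw [rc_def, rc_def, rc_def, conjBy_conjBy, mul_inv_rev]

theorem rc_one (A : Subgroup G) : rc A 1 = A := by
  rw [rc_def, inv_one, conjBy_one]

theorem rc_of_mem {A : Subgroup G} {g : G} (hg : g ∈ A) : rc A g = A :=
  conjBy_of_mem (inv_mem hg)

theorem rc_eq_iff {A B : Subgroup G} {g : G} : rc A g = B ↔ A = rc B g⁻¹ := by
  rw [rc_def, rc_def, inv_inv]
  exact conjBy_eq_iff.trans (by rw [inv_inv])

theorem rc_inj {A B : Subgroup G} {g : G} (h : rc A g = rc B g) : A = B := conjBy_inj h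

theorem rc_of_comm {A : Subgroup G} {g : G} (h : ∀ x ∈ A, g * x = x * g) : rc A g = A := by
  ext x
  rw [mem_rc]
  constructor
  · intro hx
    have h1 := h _ hx
    have h2 : g * x * g⁻¹ * g = g * x := by group
    rw [h2] at h1
    have h3 : g * x * g⁻¹ = x := mul_left_cancel h1
    rw [← h3]; exact hx
  · intro hx
    rw [h x hx, mul_inv_cancel_right]; exact hx

theorem rc_mul_of_comm {A : Subgroup G} {g h : G} (hc : g * h = h * g) :
    rc (rc A g) h = rc (rc A h) g := by
  rw [rc_rc, rc_rc, hc]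

theorem rc_mono {A B : Subgroup G} (h : A ≤ B) (g : G) : rc A g ≤ rc B g := conjBy_mono h _

theorem rc_sup (A B : Subgroup G) (g : G) : rc (A ⊔ B) g = rc A g ⊔ rc B g := conjBy_sup A B _

theorem rc_eq_self_iff {A : Subgroup G} {g : G} :
    rc A g = A ↔ g ∈ Subgroup.normalizer (A : Set G) := by
  rw [rc_def, conjBy_eq_self_iff]
  exact ⟨fun h => by simpa using inv_mem h, fun h => inv_mem h⟩

/-- elements commute iff ... helper: from `x * y = y * x` get `y⁻¹ * x * y = x` -/
theorem re_of_comm {x y : G} (h : x * y = y * x) : y⁻¹ * x * y = x := by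
  rw [mul_assoc, h, ← mul_assoc, inv_mul_cancel, one_mul]

theorem comm_inv_right {x y : G} (h : x * y = y * x) : x * y⁻¹ = y⁻¹ * x := by
  have : x * y⁻¹ = y⁻¹ * (y * x) * y⁻¹ := by group
  rw [this, ← h]; group

theorem comm_inv_left {x y : G} (h : x * y = y * x) : x⁻¹ * y = y * x⁻¹ :=
  (comm_inv_right h.symm).symm

theorem comm_mul_right {x y z : G} (h1 : x * y = y * x) (h2 : x * z = z * x) :
    x * (y * z) = (y * z) * x := by
  rw [← mul_assoc, h1, mul_assoc, h2, mul_assoc]

theorem comm_mul_left {x y z : G} (h1 : x * z = z * x) (h2 : y * z = z * y) :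
    (x * y) * z = z * (x * y) := by
  rw [mul_assoc, h2, ← mul_assoc, h1, mul_assoc]

section pair

variable {A B C : Subgroup G}

/-- rank one condition in right notation -/
theorem cond_left_rc (h : IsRankOnePair A B) {a : G} (ha : a ∈ A) (ha1 : a ≠ 1) :
    ∃ b ∈ B, b ≠ 1 ∧ rc A b = rc B a := h.cond_left a ha ha1

theorem cond_right_rc (h : IsRankOnePair A B) {b : G} (hb : b ∈ B) (hb1 : b ≠ 1) :
    ∃ a ∈ A, a ≠ 1 ∧ rc B a = rc A b := h.cond_right b hb hb1

/-- uniqueness of the partner -/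
theorem rc_right_inj (h : IsRankOnePair A B) {a a' : G} (ha : a ∈ A) (ha' : a' ∈ A)
    (he : rc B a = rc B a') : a = a' := by
  have := conjBy_right_inj h (inv_mem ha) (inv_mem ha') he
  exact inv_injective this

theorem ne_one_of_matched (h : IsRankOnePair A B) {a b : G} (hb : b ∈ B)
    (hm : rc A b = rc B a) : a ≠ 1 := by
  rintro rfl
  rw [rc_one, rc_eq_iff, rc_of_mem (inv_mem hb)] at hm
  exact h.ne hm

/-- Two commuting different subgroups with a common rank one partner meet trivially. -/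
theorem inf_eq_bot_of_comm (hAB : IsRankOnePair A B) (hCB : IsRankOnePair C B) (hne : A ≠ C)
    (hAC : ∀ x ∈ A, ∀ y ∈ C, x * y = y * x) {e : G} (heA : e ∈ A) (heC : e ∈ C) : e = 1 := by
  by_contra he1
  obtain ⟨b₁, hb₁, -, h1⟩ := cond_left_rc hAB heA he1
  obtain ⟨b₂, hb₂, -, h2⟩ := cond_left_rc hCB heC he1
  have h3 : rc A (b₁ * b₂⁻¹) = C := by
    rw [← rc_rc, h1, ← h2, rc_rc, mul_inv_cancel, rc_one]
  by_cases hb : b₁ * b₂⁻¹ = 1
  · rw [hb, rc_one] at h3
    exact hne h3
  · obtain ⟨a, ha, ha1, h4⟩ := cond_right_rc hAB (mul_mem hb₁ (inv_mem hb₂)) hb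
    rw [h3] at h4
    apply ha1
    apply eq_one_of_mem_normalizer hAB ha
    apply mem_normalizer_of_commutes
    intro y hy
    have hy' : a⁻¹ * y * a ∈ C := by rw [← h4]; exact re_mem_rc hy
    have h5 := hAC a ha _ hy'
    have h6 : a⁻¹ * y * a * a = a⁻¹ * (y * a) * a := by group
    rw [h6] at h5
    have h7 : a * (a⁻¹ * y * a) = y * a := by group
    rw [h7] at h5
    have h8 : a * (y * a) = (y * a) * a := by
      calc a * (y * a) = a * (a⁻¹ * (y * a) * a) := by rw [← h5]
        _ = (y * a) * a := by group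
    rw [← mul_assoc] at h8
    exact mul_right_cancel h8

end pair

end Cfsg.Agent.Lib.Helper4.Rt1
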