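import Cfsg.Agent.Lib.Helper4.Rt1

set_option autoImplicit false
set_option linter.unusedVariables false

/-! The key lemma: a rank one pair `(A, B)` of abelian subgroups such that `A` commutes with a
further subgroup `C ≠ A` forming a rank one pair with `B` is special. -/

namespace Cfsg.Agent.Lib.Helper4.Rt2

open Cfsg Cfsg.Agent.Lib.Helper4.RankOneGrp Cfsg.Agent.Lib.Helper4.RootSub
  Cfsg.Agent.Lib.Helper4.RootSub2 Cfsg.Agent.Lib.Helper4.RootSub3 Cfsg.Agent.Lib.Helper4.Rt1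

variable {G : Type*} [Group G]

/-- data of the key lemma -/
structure KLData (A B C : Subgroup G) : Prop where
  commA : ∀ x ∈ A, ∀ y ∈ A, x * y = y * x
  commB : ∀ x ∈ B, ∀ y ∈ B, x * y = y * x
  pairAB : IsRankOnePair A B
  pairCB : IsRankOnePair C B
  ne : A ≠ C
  commAC : ∀ x ∈ A, ∀ y ∈ C, x * y = y * x

variable {A B C : Subgroup G}

theorem key (h : KLData A B C) {a b c : G} (ha : a ∈ A) (hb : b ∈ B) (hc : c ∈ C)
    (hm : rc A b = rc B a) (hmc : rc C b = rc B c) :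
    b⁻¹ * a * b = a⁻¹ * b⁻¹ * a ∧
    (c * a⁻¹)⁻¹ * b * (c * a⁻¹) ∈ rc B (c * a⁻¹) ∧
    (∀ y ∈ rc B (c * a⁻¹), ∀ y' ∈ B, y' * y = y * y') ∧ rc B (c * a⁻¹) ≠ B ∧
    rc A (b⁻¹ * ((c * a⁻¹)⁻¹ * b * (c * a⁻¹))) = C := by
  obtain ⟨z, hz⟩ : ∃ z, z = c * a⁻¹ := ⟨_, rfl⟩
  obtain ⟨x, hx⟩ : ∃ x, x = b * a⁻¹ := ⟨_, rfl⟩
  rw [← hz]
  obtain ⟨d, hd⟩ : ∃ d, d = z⁻¹ * b * z := ⟨_, rfl⟩
  rw [← hd]
  have hAx : rc A x = B := by rw [hx, ← rc_rc, hm, rc_rc, mul_inv_cancel, rc_one]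
  have hCx : rc C x = rc B z := by rw [hx, ← rc_rc, hmc, rc_rc, hz]
  have hBD : ∀ y ∈ rc B z, ∀ y' ∈ B, y' * y = y * y' := by
    intro y hy y' hy'
    rw [← hCx, mem_rc] at hy
    rw [← hAx, mem_rc] at hy'
    have := h.commAC _ hy' _ hy
    have e1 : y' * y = x⁻¹ * ((x * y' * x⁻¹) * (x * y * x⁻¹)) * x := by group
    rw [e1, this]; group
  have hdD : d ∈ rc B z := by rw [hd]; exact re_mem_rc hb
  have hzA : ∀ y ∈ A, z * y = y * z := by
    intro y hy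
    rw [hz]
    exact comm_mul_left ((h.commAC y hy c hc).symm) (h.commA _ (inv_mem ha) _ hy)
  have hza : z * a = a * z := hzA a ha
  have hzac : z * a = c := by rw [hz]; group
  have hAz : rc A z = A := rc_of_comm hzA
  have hAz' : rc A z⁻¹ = A := (rc_eq_iff.mp hAz).symm
  have hAd : rc A d = rc B c := by
    have e1 : d = z⁻¹ * (b * z) := by rw [hd]; group
    rw [e1, ← rc_rc, hAz', ← rc_rc, hm, rc_rc, ← hza, hzac]
  have hbd : b⁻¹ * d = d * b⁻¹ := hBD d hdD b⁻¹ (inv_mem hb)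
  have hAw : rc A (b⁻¹ * d) = C := by
    rw [hbd, ← rc_rc, hAd, ← hmc, rc_rc, mul_inv_cancel, rc_one]
  have hDB : rc B z ≠ B := by
    intro he
    rw [← hCx, ← hAx] at he
    exact h.ne (rc_inj he).symm
  refine ⟨?_, hdD, hBD, hDB, hAw⟩
  obtain ⟨w, hw⟩ : ∃ w, w = b⁻¹ * d := ⟨_, rfl⟩
  rw [← hw] at hAw
  have hwB : ∀ y ∈ B, w * y = y * w := by
    intro y hy
    rw [hw]
    exact comm_mul_left (h.commB _ (inv_mem hb) _ hy) ((hBD d hdD y hy).symm)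
  have hBw : rc B w = B := rc_of_comm hwB
  have hmatch : ∀ a' ∈ A, ∀ b' ∈ B, rc A b' = rc B a' → rc C b' = rc B (w⁻¹ * a' * w) := by
    intro a' ha' b' hb' hm'
    have e1 : rc (rc A b') w = rc C b' := by
      rw [rc_rc, ← hwB b' hb', ← rc_rc, hAw]
    have e2 : rc (rc B a') w = rc B (w⁻¹ * a' * w) := by
      rw [rc_rc]
      have : a' * w = w * (w⁻¹ * a' * w) := by group
      rw [this, ← rc_rc, hBw]
    rw [← e1, hm', e2]
  have hcw : c = w⁻¹ * a * w := by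
    have h1 := hmatch a ha b hb hm
    rw [hmc] at h1
    have hmem : w⁻¹ * a * w ∈ C := by rw [← hAw]; exact re_mem_rc ha
    exact rc_right_inj h.pairCB hc hmem h1
  have h11 : a * w * a⁻¹ = w * z := by
    have e1 : w⁻¹ * a * w = z * a := by rw [← hcw, hzac]
    have h2 : a * w = w * (z * a) := by rw [← e1]; group
    rw [h2]; group
  have h12 : x⁻¹ * z * x = w⁻¹ := by
    have hza' : z⁻¹ * a⁻¹ * z = a⁻¹ := re_of_comm (comm_inv_left hza.symm)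
    have e1 : z⁻¹ * x * z = d * a⁻¹ := by
      rw [hx, hd]
      calc z⁻¹ * (b * a⁻¹) * z = (z⁻¹ * b * z) * (z⁻¹ * a⁻¹ * z) := by group
        _ = _ := by rw [hza']
    have e2 : x⁻¹ * (z⁻¹ * x * z) = w * z := by
      rw [e1, ← h11, hx, hw]; group
    have e3 : x⁻¹ * z⁻¹ * x = w := by
      have : x⁻¹ * (z⁻¹ * x * z) = (x⁻¹ * z⁻¹ * x) * z := by group
      rw [this] at e2
      exact mul_right_cancel e2
    calc x⁻¹ * z * x = (x⁻¹ * z⁻¹ * x)⁻¹ := by group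
      _ = w⁻¹ := by rw [e3]
  obtain ⟨β, hβdef⟩ : ∃ β, β = x⁻¹ * a * x := ⟨_, rfl⟩
  have hβ : β ∈ B := by rw [hβdef, ← hAx]; exact re_mem_rc ha
  have h14 : x⁻¹ * w * x = w * z := by
    rw [← h11, hx]
    have hwb := hwB b hb
    calc (b * a⁻¹)⁻¹ * w * (b * a⁻¹) = a * b⁻¹ * (w * b) * a⁻¹ := by group
      _ = a * b⁻¹ * (b * w) * a⁻¹ := by rw [hwb]
      _ = a * w * a⁻¹ := by group
  have h15 : x⁻¹ * c * x = z⁻¹ * β * z := by
    have hwβ := hwB β hβ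
    calc x⁻¹ * c * x = (x⁻¹ * w * x)⁻¹ * (x⁻¹ * a * x) * (x⁻¹ * w * x) := by rw [hcw]; group
      _ = (w * z)⁻¹ * β * (w * z) := by rw [h14, hβdef]
      _ = z⁻¹ * (w⁻¹ * (β * w)) * z := by group
      _ = z⁻¹ * (w⁻¹ * (w * β)) * z := by rw [hwβ]
      _ = z⁻¹ * β * z := by group
  have h16 : x⁻¹ * z * x = z⁻¹ * β * z * β⁻¹ := by
    calc x⁻¹ * z * x = (x⁻¹ * c * x) * (x⁻¹ * a * x)⁻¹ := by rw [hz]; group
      _ = _ := by rw [h15, hβdef]
  have h17 : z⁻¹ * β * z * β⁻¹ = z⁻¹ * b⁻¹ * z * b := by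
    rw [← h16, h12, hw, hd]; group
  have h17' : (b * β) * z = z * (b * β) := by
    have e1 : β * z * β⁻¹ = b⁻¹ * z * b := by
      calc β * z * β⁻¹ = z * (z⁻¹ * β * z * β⁻¹) := by group
        _ = z * (z⁻¹ * b⁻¹ * z * b) := by rw [h17]
        _ = b⁻¹ * z * b := by group
    calc b * β * z = b * (β * z * β⁻¹) * β := by group
      _ = b * (b⁻¹ * z * b) * β := by rw [e1]
      _ = z * (b * β) := by group
  have hbβB : b * β ∈ B := mul_mem hb hβ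
  have hbβD : b * β ∈ rc B z := by
    rw [mem_rc]
    have : z * (b * β) * z⁻¹ = b * β := by rw [← h17']; group
    rw [this]; exact hbβB
  have h19 : b * β = 1 := by
    rw [← hAx, mem_rc] at hbβB
    rw [← hCx, mem_rc] at hbβD
    have := inf_eq_bot_of_comm h.pairAB h.pairCB h.ne h.commAC hbβB hbβD
    calc b * β = x⁻¹ * (x * (b * β) * x⁻¹) * x := by group
      _ = 1 := by rw [this]; group
  have h20 : β = b⁻¹ := eq_inv_of_mul_eq_one_right h19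
  rw [hβdef, hx] at h20
  calc b⁻¹ * a * b = a⁻¹ * ((b * a⁻¹)⁻¹ * a * (b * a⁻¹)) * a := by group
    _ = a⁻¹ * b⁻¹ * a := by rw [h20]

/-- The key lemma: `(A, B)` is special. -/
theorem special (h : KLData A B C) : IsSpecialRankOnePair A B := by
  refine ⟨h.pairAB, ?_⟩
  intro a ha ha1 b hb hb1 hm
  obtain ⟨c, hc, -, hmc⟩ := cond_right_rc h.pairCB hb hb1
  exact (key h ha hb hc hm hmc.symm).1

/-- symmetry of the special condition -/
theorem special_symm (h : IsSpecialRankOnePair A B) : IsSpecialRankOnePair B A := by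
  refine ⟨RankOnePair_symm h.1, ?_⟩
  intro b hb hb1 a ha ha1 hm
  have e := h.2 a ha ha1 b hb hb1 hm.symm
  calc a⁻¹ * b * a = (a⁻¹ * b⁻¹ * a)⁻¹ := by group
    _ = (b⁻¹ * a * b)⁻¹ := by rw [e]
    _ = b⁻¹ * a⁻¹ * b := by group

end Cfsg.Agent.Lib.Helper4.Rt2
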