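import Mathlib

set_option autoImplicit false
set_option linter.unusedVariables false

/-! A ring-theoretic lemma on a pair of "unipotent" representations glued by braid relations. -/

namespace Cfsg.Agent.Lib.Helper4.Rt3

section core

variable {R : Type*} [Ring R]

theorem ring_core (ma mb na nb ta tb : R)
    (hK : ma - ma * tb = mb - mb * ta) (hS : na + na * mb * nb = nb + nb * ma * na)
    (hB1a : na * ma = -ta) (hB1b : nb * mb = -tb) (hC : ta * tb = tb * ta) :
    ta - tb = ta * tb * (ta - tb) := by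
  obtain ⟨X, hX⟩ : ∃ X, X = ma - ma * tb := ⟨_, rfl⟩
  have hX' : X = mb - mb * ta := hX.trans hK
  have e1 : na * X = -ta + ta * tb := by
    rw [hX, mul_sub, ← mul_assoc, hB1a]; noncomm_ring
  have e2 : nb * X = -tb + tb * ta := by
    rw [hX', mul_sub, ← mul_assoc, hB1b]; noncomm_ring
  have e3 : mb * (nb * X) = -(X * tb) := by
    rw [e2, hX', mul_add, ← mul_assoc mb tb ta, mul_assoc mb tb ta, ← hC]; noncomm_ring
  have e4 : ma * (na * X) = -(X * ta) := by
    rw [e1, hX, mul_add, ← mul_assoc ma ta tb, mul_assoc ma ta tb, hC]; noncomm_ring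
  have h := congrArg (fun y => y * X) hS
  simp only [add_mul, mul_assoc] at h
  rw [e3, e4, mul_neg, mul_neg, ← mul_assoc na X tb, ← mul_assoc nb X ta, e1, e2] at h
  have h2 : tb * ta * ta = ta * tb * ta := by rw [hC]
  have h3 : (-ta + ta * tb) + -((-ta + ta * tb) * tb) =
      (-tb + ta * tb) + -((-tb + ta * tb) * ta) := by
    rw [← hC] at h; exact h
  have h4 : ta - tb - ta * tb * (ta - tb) =
      -(((-ta + ta * tb) + -((-ta + ta * tb) * tb)) -
        ((-tb + ta * tb) + -((-tb + ta * tb) * ta))) + (ta * tb - tb * ta) := by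
    noncomm_ring
  rw [← sub_eq_zero, h4, h3, sub_self, neg_zero, hC, sub_self, add_zero]

end core

section setup

variable {R : Type*} [Ring R] {A F : Type*} [Group A] [Group F]

/-- the ring-theoretic data -/
structure MData (p q : R) (α : A →* R) (φ : F →* R) : Prop where
  commA : ∀ a b : A, a * b = b * a
  commF : ∀ f g : F, f * g = g * f
  hpq1 : p + q = 1
  hpq : p * q = 0
  hqp : q * p = 0
  hαp : ∀ a, α a * p = p
  hφq : ∀ f, φ f * q = q
  inj1 : ∀ a, a ≠ 1 → ∀ T : R, p * α a * q * T = 0 → q * T = 0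
  inj2 : ∀ f, f ≠ 1 → ∀ T : R, q * φ f * p * T = 0 → p * T = 0
  sr : ∀ c, c ≠ 1 → ∀ T : R, q * α c * q * T = q * T → q * T = 0
  hne : q ≠ 0
  braid : ∀ a, a ≠ 1 → ∃ f, f ≠ 1 ∧ α a * φ f * α a = φ f * α a * φ f

variable {p q : R} {α : A →* R} {φ : F →* R}

namespace MData

variable (h : MData p q α φ)
include h

theorem hpp : p * p = p := by
  have := congrArg (fun x => p * x) h.hpq1
  simp only [mul_add, h.hpq, add_zero, mul_one] at this
  exact this

theorem hqq : q * q = q := by
  have := congrArg (fun x => q * x) h.hpq1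
  simp only [mul_add, h.hqp, zero_add, mul_one] at this
  exact this

theorem hpq_m (x : R) : p * (q * x) = 0 := by rw [← mul_assoc, h.hpq, zero_mul]
theorem hqp_m (x : R) : q * (p * x) = 0 := by rw [← mul_assoc, h.hqp, zero_mul]
theorem hpp_m (x : R) : p * (p * x) = p * x := by rw [← mul_assoc, h.hpp]
theorem hqq_m (x : R) : q * (q * x) = q * x := by rw [← mul_assoc, h.hqq]
theorem hαp_m (a : A) (x : R) : α a * (p * x) = p * x := by rw [← mul_assoc, h.hαp]
theorem hφq_m (f : F) (x : R) : φ f * (q * x) = q * x := by rw [← mul_assoc, h.hφq]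

theorem ins (x y : R) : x * y = x * (p + q) * y := by rw [h.hpq1, mul_one]

/-- `t (a b) = t a * t b` -/
theorem t_mul (a b : A) : q * α (a * b) * q = (q * α a * q) * (q * α b * q) := by
  rw [map_mul, h.ins (α a) (α b)]
  simp only [mul_add, add_mul, mul_assoc, h.hαp_m, h.hqp_m, h.hqq_m, zero_add]

/-- `m (a b) = m b + m a * t b` -/
theorem m_mul (a b : A) :
    p * α (a * b) * q = p * α b * q + (p * α a * q) * (q * α b * q) := by
  rw [map_mul, h.ins (α a) (α b)]
  simp only [mul_add, add_mul, mul_assoc, h.hαp_m, h.hpp_m, h.hqq_m]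

theorem s_mul (f g : F) : p * φ (f * g) * p = (p * φ f * p) * (p * φ g * p) := by
  rw [map_mul, h.ins (φ f) (φ g)]
  simp only [mul_add, add_mul, mul_assoc, h.hφq_m, h.hpq_m, h.hpp_m, add_zero]

theorem n_mul (f g : F) :
    q * φ (f * g) * p = q * φ g * p + (q * φ f * p) * (p * φ g * p) := by
  rw [map_mul, h.ins (φ f) (φ g)]
  simp only [mul_add, add_mul, mul_assoc, h.hφq_m, h.hpp_m, h.hqq_m]
  rw [add_comm]

theorem t_comm (a b : A) : (q * α a * q) * (q * α b * q) = (q * α b * q) * (q * α a * q) := by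
  rw [← h.t_mul, ← h.t_mul, h.commA]

theorem hK (a b : A) : p * α a * q - (p * α a * q) * (q * α b * q) =
    p * α b * q - (p * α b * q) * (q * α a * q) := by
  have h1 := h.m_mul a b
  have h2 := h.m_mul b a
  rw [h.commA b a, h1] at h2
  rw [sub_eq_sub_iff_add_eq_add]
  exact h2.symm

theorem hK' (f g : F) : q * φ g * p + (q * φ f * p) * (p * φ g * p) =
    q * φ f * p + (q * φ g * p) * (p * φ f * p) := by
  have h1 := h.n_mul f g
  have h2 := h.n_mul g f
  rw [h.commF g f, h1] at h2
  exact h2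

theorem hB1 {a : A} (ha : a ≠ 1) {f : F} (hb : α a * φ f * α a = φ f * α a * φ f) :
    (q * φ f * p) * (p * α a * q) = -(q * α a * q) := by
  have h1 : p * (α a * φ f * α a) * q = p * (φ f * α a * φ f) * q := by rw [hb]
  rw [h.ins (α a) (φ f), h.ins _ (α a), h.ins (φ f) (α a)] at h1
  simp only [mul_add, add_mul, mul_assoc, h.hαp_m, h.hφq_m, h.hφq, h.hpp_m, h.hqq_m, h.hpq_m,
    h.hqp_m, add_zero, zero_add, mul_zero, zero_mul] at h1
  have h2 : p * α a * q * (φ f * (p * (α a * q)) + α a * q) = 0 := by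
    have h3 : p * (α a * (q * (φ f * (p * (α a * q))))) + p * (α a * (q * (α a * q))) = 0 := by
      rw [add_assoc] at h1
      exact add_eq_left.mp h1
    rw [mul_add]; simp only [mul_assoc]; exact h3
  have h4 := h.inj1 a ha _ h2
  rw [mul_add] at h4
  rw [eq_neg_iff_add_eq_zero]
  simp only [mul_assoc, h.hpp_m]
  exact h4

theorem hB2 {a : A} {f : F} (hf : f ≠ 1) (hb : α a * φ f * α a = φ f * α a * φ f) :
    p * φ f * p = -((p * α a * q) * (q * φ f * p)) := by
  have h1 : q * (α a * φ f * α a) * p = q * (φ f * α a * φ f) * p := by rw [hb]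
  have e1 : α a * φ f * α a = α a * (p + q) * φ f * α a := by rw [h.hpq1, mul_one]
  have e2 : φ f * α a * φ f = φ f * (p + q) * α a * (p + q) * φ f := by
    rw [h.hpq1, mul_one, mul_one]
  rw [e1, e2] at h1
  simp only [mul_add, add_mul, mul_assoc, h.hαp_m, h.hαp, h.hφq_m, h.hφq, h.hpp_m, h.hqq_m,
    h.hpq_m, h.hqp_m, add_zero, zero_add, mul_zero, zero_mul] at h1
  have h2 : q * φ f * p * (φ f * p + α a * (q * (φ f * p))) = 0 := by
    have h3 : q * (φ f * (p * (φ f * p))) + q * (φ f * (p * (α a * (q * (φ f * p))))) = 0 := by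
      rw [← add_assoc] at h1
      exact add_eq_right.mp h1.symm
    rw [mul_add]; simp only [mul_assoc]; exact h3
  have h4 := h.inj2 f hf _ h2
  rw [mul_add] at h4
  rw [eq_neg_iff_add_eq_zero]
  simp only [mul_assoc, h.hqq_m]
  exact h4

theorem q_mul_t (c : A) : q * (q * α c * q) = q * α c * q := by
  simp only [mul_assoc, h.hqq_m]

theorem concl {a b : A} (ha : a ≠ 1) (hb : b ≠ 1) : a = b ∨ a * b = 1 := by
  obtain ⟨f, hf, hbf⟩ := h.braid a ha
  obtain ⟨g, hg, hbg⟩ := h.braid b hb
  have hK := h.hK a b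
  have hB1a := h.hB1 ha hbf
  have hB1b := h.hB1 hb hbg
  have hC := h.t_comm a b
  have hS0 := h.hK' f g
  rw [h.hB2 hg hbg, h.hB2 hf hbf] at hS0
  have hta := h.q_mul_t a
  have htb := h.q_mul_t b
  have htab := h.t_mul a b
  have htinv := h.t_mul (a * b⁻¹) b
  have htinv2 := h.t_mul b b⁻¹
  rw [inv_mul_cancel_right] at htinv
  rw [mul_inv_cancel, map_one, mul_one, h.hqq] at htinv2
  generalize p * α a * q = ma at *
  generalize p * α b * q = mb at *
  generalize q * α a * q = ta at *
  generalize q * α b * q = tb at *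
  generalize q * φ f * p = na at *
  generalize q * φ g * p = nb at *
  have hS : na + na * mb * nb = nb + nb * ma * na := by
    have e1 : na + na * mb * nb = na + nb * -(ma * na) + (na * mb * nb + nb * (ma * na)) := by
      noncomm_ring
    have e2 : nb + nb * ma * na = nb + na * -(mb * nb) + (na * mb * nb + nb * (ma * na)) := by
      noncomm_ring
    rw [e1, e2, hS0]
  have key := ring_core ma mb na nb ta tb hK hS hB1a hB1b hC
  by_cases hab : a * b = 1
  · right; exact hab
  left
  have h1 : q * (ta - tb) = 0 := by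
    apply h.sr (a * b) hab
    rw [htab, mul_sub q, hta, htb]
    exact key.symm
  rw [mul_sub, hta, htb, sub_eq_zero] at h1
  by_contra hne
  have hc : a * b⁻¹ ≠ 1 := fun e => hne (mul_inv_eq_one.mp e)
  have h3 : q * tb = 0 := by
    apply h.sr (a * b⁻¹) hc
    rw [← htinv, htb, h1]
  rw [htb] at h3
  apply h.hne
  rw [htinv2, h3, zero_mul]

end MData

end setup

section moduleForm

variable {V : Type*} [AddCommGroup V] {A F : Type*} [Group A] [Group F]

/-- module form of the lemma -/
theorem lemmaM_module (U₁ U₂ : Submodule ℤ V) (hc : IsCompl U₁ U₂)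
    (α : A →* Module.End ℤ V) (φ : F →* Module.End ℤ V)
    (commA : ∀ a b : A, a * b = b * a) (commF : ∀ f g : F, f * g = g * f)
    (hα : ∀ a, ∀ w ∈ U₁, α a w = w) (hφ : ∀ f, ∀ u ∈ U₂, φ f u = u)
    (inj1 : ∀ a, a ≠ 1 → ∀ u ∈ U₂, α a u ∈ U₂ → u = 0)
    (inj2 : ∀ f, f ≠ 1 → ∀ w ∈ U₁, φ f w ∈ U₁ → w = 0)
    (sr : ∀ c, c ≠ 1 → ∀ u ∈ U₂, α c u - u ∈ U₁ → u = 0)
    (hne : ∃ u ∈ U₂, u ≠ 0)
    (braid : ∀ a, a ≠ 1 → ∃ f, f ≠ 1 ∧ α a * φ f * α a = φ f * α a * φ f)
    {a b : A} (ha : a ≠ 1) (hb : b ≠ 1) : a = b ∨ a * b = 1 := by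
  have hp1 : ∀ v, U₁.projection U₂ hc v ∈ U₁ := fun v => Submodule.projection_apply_mem hc v
  have hq2 : ∀ v, U₂.projection U₁ hc.symm v ∈ U₂ :=
    fun v => Submodule.projection_apply_mem hc.symm v
  have hM : MData (U₁.projection U₂ hc) (U₂.projection U₁ hc.symm) α φ := by
    refine ⟨commA, commF, ?_, ?_, ?_, ?_, ?_, ?_, ?_, ?_, ?_, braid⟩
    · rw [Submodule.projection_add_projection_eq_id]; rfl
    · ext v
      rw [Module.End.mul_apply, LinearMap.zero_apply, Submodule.projection_apply_eq_zero_iff]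
      exact hq2 v
    · ext v
      rw [Module.End.mul_apply, LinearMap.zero_apply, Submodule.projection_apply_eq_zero_iff]
      exact hp1 v
    · intro a
      ext v
      rw [Module.End.mul_apply]
      exact hα a _ (hp1 v)
    · intro f
      ext v
      rw [Module.End.mul_apply]
      exact hφ f _ (hq2 v)
    · intro a ha T hT
      ext v
      have h1 := LinearMap.congr_fun hT v
      simp only [Module.End.mul_apply, LinearMap.zero_apply] at h1 ⊢
      rw [Submodule.projection_apply_eq_zero_iff] at h1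
      exact inj1 a ha _ (hq2 _) h1
    · intro f hf T hT
      ext v
      have h1 := LinearMap.congr_fun hT v
      simp only [Module.End.mul_apply, LinearMap.zero_apply] at h1 ⊢
      rw [Submodule.projection_apply_eq_zero_iff] at h1
      exact inj2 f hf _ (hp1 _) h1
    · intro c hc1 T hT
      ext v
      have h1 := LinearMap.congr_fun hT v
      simp only [Module.End.mul_apply, LinearMap.zero_apply] at h1 ⊢
      apply sr c hc1 _ (hq2 _)
      have h2 : U₂.projection U₁ hc.symm
          (α c (U₂.projection U₁ hc.symm (T v)) - U₂.projection U₁ hc.symm (T v)) = 0 := by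
        rw [map_sub, h1, Submodule.projection_apply_of_mem_left hc.symm (hq2 _), sub_self]
      rwa [Submodule.projection_apply_eq_zero_iff] at h2
    · obtain ⟨u, hu, hu0⟩ := hne
      intro hq
      apply hu0
      have := LinearMap.congr_fun hq u
      rwa [Submodule.projection_apply_of_mem_left hc.symm hu, LinearMap.zero_apply] at this
  exact hM.concl ha hb

end moduleForm

end Cfsg.Agent.Lib.Helper4.Rt3
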