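import Cfsg.Agent.Lib.Helper4.Rt2

set_option autoImplicit false
set_option linter.unusedVariables false

/-! Abstract "Lemma Q", part 1: the subgroups `LE L E`, `ZZ`, commutation modulo `ZZ`. -/

namespace Cfsg.Agent.Lib.Helper4.Rt4

open Cfsg Cfsg.Agent.Lib.Helper4.RankOneGrp Cfsg.Agent.Lib.Helper4.RootSub
  Cfsg.Agent.Lib.Helper4.RootSub2 Cfsg.Agent.Lib.Helper4.RootSub3 Cfsg.Agent.Lib.Helper4.Rt1
  Cfsg.Agent.Lib.Helper4.Rt2

variable {G : Type*} [Group G]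

/-- the elements of `L` centralizing every `L`-conjugate of `E` -/
def LE (L E : Subgroup G) : Subgroup G where
  carrier := {l | l ∈ L ∧ ∀ l' ∈ L, ∀ e ∈ rc E l', l * e = e * l}
  one_mem' := ⟨one_mem _, fun l' _ e _ => by rw [one_mul, mul_one]⟩
  mul_mem' := by
    rintro x y ⟨hx, hx'⟩ ⟨hy, hy'⟩
    refine ⟨mul_mem hx hy, fun l' hl' e he => ?_⟩
    rw [mul_assoc, hy' l' hl' e he, ← mul_assoc, hx' l' hl' e he, mul_assoc]
  inv_mem' := by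
    rintro x ⟨hx, hx'⟩
    refine ⟨inv_mem hx, fun l' hl' e he => ?_⟩
    exact (comm_inv_left (hx' l' hl' e he))

theorem mem_LE {L E : Subgroup G} {l : G} :
    l ∈ LE L E ↔ l ∈ L ∧ ∀ l' ∈ L, ∀ e ∈ rc E l', l * e = e * l := Iff.rfl

theorem LE_le (L E : Subgroup G) : LE L E ≤ L := fun _ h => h.1

theorem LE_comm_self {L E : Subgroup G} {l : G} (h : l ∈ LE L E) {e : G} (he : e ∈ E) :
    l * e = e * l := h.2 1 (one_mem _) e (by rwa [rc_one])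

/-- `LE L E` is normal in `L` -/
theorem LE_normal {L E : Subgroup G} {l m : G} (h : l ∈ LE L E) (hm : m ∈ L) :
    m * l * m⁻¹ ∈ LE L E := by
  refine ⟨mul_mem (mul_mem hm h.1) (inv_mem hm), fun l' hl' e he => ?_⟩
  have h1 : m⁻¹ * e * m ∈ rc E (l' * m) := by
    rw [← rc_rc]; exact re_mem_rc he
  have h2 := h.2 (l' * m) (mul_mem hl' hm) _ h1
  calc m * l * m⁻¹ * e = m * (l * (m⁻¹ * e * m)) * m⁻¹ := by group
    _ = m * ((m⁻¹ * e * m) * l) * m⁻¹ := by rw [h2]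
    _ = e * (m * l * m⁻¹) := by group

/-- conjugating by an element normalizing `L` -/
theorem LE_conj {L E : Subgroup G} {l x : G} (h : l ∈ LE L E)
    (hx : ∀ l ∈ L, x * l * x⁻¹ ∈ L) (hx' : ∀ l ∈ L, x⁻¹ * l * x ∈ L) :
    x * l * x⁻¹ ∈ LE L (rc E x⁻¹) := by
  refine ⟨hx l h.1, fun l' hl' e he => ?_⟩
  have h1 : x⁻¹ * e * x ∈ rc E (x⁻¹ * l' * x) := by
    have e1 : x⁻¹ * l' * x = x⁻¹ * (l' * x) := by group
    rw [e1, ← rc_rc, ← rc_rc]; exact re_mem_rc he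
  have h2 := h.2 _ (hx' l' hl') _ h1
  calc x * l * x⁻¹ * e = x * (l * (x⁻¹ * e * x)) * x⁻¹ := by group
    _ = x * ((x⁻¹ * e * x) * l) * x⁻¹ := by rw [h2]
    _ = e * (x * l * x⁻¹) := by group

/-- the intersection of the `LE L E`, `E` a unipotent subgroup -/
def ZZ (A F L : Subgroup G) : Subgroup G where
  carrier := {l | l ∈ L ∧ ∀ E ∈ unipotentSubgroups A F, l ∈ LE L E}
  one_mem' := ⟨one_mem _, fun E _ => one_mem _⟩
  mul_mem' := by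
    rintro x y ⟨hx, hx'⟩ ⟨hy, hy'⟩
    exact ⟨mul_mem hx hy, fun E hE => mul_mem (hx' E hE) (hy' E hE)⟩
  inv_mem' := by
    rintro x ⟨hx, hx'⟩
    exact ⟨inv_mem hx, fun E hE => inv_mem (hx' E hE)⟩

theorem ZZ_le_LE {A F L E : Subgroup G} (hE : E ∈ unipotentSubgroups A F) :
    ZZ A F L ≤ LE L E := fun _ h => h.2 E hE

theorem ZZ_le {A F L : Subgroup G} : ZZ A F L ≤ L := fun _ h => h.1

theorem ZZ_normal {A F L : Subgroup G} {z m : G} (h : z ∈ ZZ A F L) (hm : m ∈ L) :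
    m * z * m⁻¹ ∈ ZZ A F L :=
  ⟨mul_mem (mul_mem hm h.1) (inv_mem hm), fun E hE => LE_normal (h.2 E hE) hm⟩

theorem mem_unip_iff_rc {A F C : Subgroup G} :
    C ∈ unipotentSubgroups A F ↔ ∃ x ∈ A ⊔ F, C = rc A x := by
  constructor
  · rintro ⟨x, hx, rfl⟩
    exact ⟨x⁻¹, inv_mem hx, conjBy_eq_rc A x⟩
  · rintro ⟨x, hx, rfl⟩
    exact ⟨x⁻¹, inv_mem hx, rfl⟩

theorem rc_mem_unip {A F C : Subgroup G} (hC : C ∈ unipotentSubgroups A F) {x : G}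
    (hx : x ∈ A ⊔ F) : rc C x ∈ unipotentSubgroups A F :=
  conjBy_mem_unipotent hC (inv_mem hx)

theorem ZZ_conj {A F L : Subgroup G} (hL : ∀ x ∈ A ⊔ F, ∀ l ∈ L, x * l * x⁻¹ ∈ L)
    {z x : G} (h : z ∈ ZZ A F L) (hx : x ∈ A ⊔ F) : x * z * x⁻¹ ∈ ZZ A F L := by
  refine ⟨hL x hx z h.1, fun E hE => ?_⟩
  have h1 := h.2 (rc E x) (rc_mem_unip hE hx)
  have h2 := LE_conj h1 (hL x hx) (fun l hl => by
    have := hL x⁻¹ (inv_mem hx) l hl
    rwa [inv_inv] at this)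
  rwa [rc_rc, mul_inv_cancel, rc_one] at h2

/-- centralizer modulo `Z` (all `L`-conjugates of the commutators lie in `Z`) -/
def cz (Z L : Subgroup G) (T : Set G) : Subgroup G where
  carrier := {y | y ∈ L ∧ ∀ g ∈ T, ∀ l ∈ L, l * (y * g * y⁻¹ * g⁻¹) * l⁻¹ ∈ Z}
  one_mem' := ⟨one_mem _, fun g _ l _ => by
    have : l * (1 * g * 1⁻¹ * g⁻¹) * l⁻¹ = 1 := by group
    rw [this]; exact one_mem _⟩
  mul_mem' := by
    rintro x y ⟨hx, hx'⟩ ⟨hy, hy'⟩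
    refine ⟨mul_mem hx hy, fun g hg l hl => ?_⟩
    have h1 := hy' g hg (l * x) (mul_mem hl hx)
    have h2 := hx' g hg l hl
    have : l * (x * y * g * (x * y)⁻¹ * g⁻¹) * l⁻¹ =
        (l * x * (y * g * y⁻¹ * g⁻¹) * (l * x)⁻¹) * (l * (x * g * x⁻¹ * g⁻¹) * l⁻¹) := by group
    rw [this]; exact mul_mem h1 h2
  inv_mem' := by
    rintro x ⟨hx, hx'⟩
    refine ⟨inv_mem hx, fun g hg l hl => ?_⟩
    have h1 := hx' g hg (l * x⁻¹) (mul_mem hl (inv_mem hx))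
    have : l * (x⁻¹ * g * x⁻¹⁻¹ * g⁻¹) * l⁻¹ =
        (l * x⁻¹ * (x * g * x⁻¹ * g⁻¹) * (l * x⁻¹)⁻¹)⁻¹ := by group
    rw [this]; exact inv_mem h1

theorem cz_symm {Z L : Subgroup G} {y g : G} (hg : g ∈ L) (h : y ∈ cz Z L {g}) :
    g ∈ cz Z L {y} := by
  refine ⟨hg, fun y' hy' l hl => ?_⟩
  rw [Set.mem_singleton_iff] at hy'
  subst hy'
  have h1 := h.2 g rfl l hl
  have : l * (g * y' * g⁻¹ * y'⁻¹) * l⁻¹ = (l * (y' * g * y'⁻¹ * g⁻¹) * l⁻¹)⁻¹ := by group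
  rw [this]; exact inv_mem h1

theorem cz_mono {Z L : Subgroup G} {T T' : Set G} (h : T ⊆ T') : cz Z L T' ≤ cz Z L T :=
  fun y hy => ⟨hy.1, fun g hg => hy.2 g (h hg)⟩

theorem mem_cz_of_forall {Z L : Subgroup G} {T : Set G} {y : G}
    (h : ∀ g ∈ T, y ∈ cz Z L {g}) (hy : y ∈ L) : y ∈ cz Z L T :=
  ⟨hy, fun g hg => (h g hg).2 g rfl⟩

/-- if `H ≤ L` and `T ≤ cz H` (as sets) then `H ≤ cz T` -/
theorem cz_swap {Z L H : Subgroup G} {T : Set G} (hH : H ≤ L)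
    (h : T ⊆ (cz Z L (H : Set G) : Set G)) : H ≤ cz Z L T := by
  intro y hy
  refine mem_cz_of_forall (fun g hg => ?_) (hH hy)
  have h1 : g ∈ cz Z L {y} := cz_mono (Set.singleton_subset_iff.mpr hy) (h hg)
  exact cz_symm (hH hy) h1

/-- hypotheses of the abstract lemma -/
structure QData (A F L : Subgroup G) : Prop where
  commA : ∀ x ∈ A, ∀ y ∈ A, x * y = y * x
  commF : ∀ x ∈ F, ∀ y ∈ F, x * y = y * x
  special : IsSpecialRankOnePair A F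
  normL : ∀ x ∈ A ⊔ F, ∀ l ∈ L, x * l * x⁻¹ ∈ L
  h4 : ∀ l ∈ L, rc A l = A → ∀ e ∈ A, l * e = e * l
  h5 : ∀ l ∈ L, ∃ g ∈ LE L F, rc A g = rc A l
  h6 : ∀ l ∈ L, rc A l ≠ A → IsRankOnePair A (rc A l)
  h7 : ∃ l ∈ L, rc A l ≠ A
  h8 : ∃ a₁ ∈ A, ∃ a₂ ∈ A, a₁ ≠ 1 ∧ a₂ ≠ 1 ∧ a₁ ≠ a₂

namespace QData

variable {A F L : Subgroup G} (h : QData A F L)
include h

theorem pair : IsRankOnePair A F := h.special.1

theorem normL' {x l : G} (hx : x ∈ A ⊔ F) (hl : l ∈ L) : x⁻¹ * l * x ∈ L := by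
  have := h.normL x⁻¹ (inv_mem hx) l hl
  rwa [inv_inv] at this

theorem h4' {E : Subgroup G} (hE : E ∈ unipotentSubgroups A F) {l : G} (hl : l ∈ L)
    (he : rc E l = E) : ∀ e ∈ E, l * e = e * l := by
  obtain ⟨x, hx, rfl⟩ := mem_unip_iff_rc.mp hE
  have hl' := h.normL x hx l hl
  have e1 : rc A (x * l * x⁻¹) = A := by
    rw [← rc_rc, ← rc_rc, he, rc_rc, mul_inv_cancel, rc_one]
  intro e hee
  rw [mem_rc] at hee
  have := h.h4 _ hl' e1 _ hee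
  calc l * e = x⁻¹ * ((x * l * x⁻¹) * (x * e * x⁻¹)) * x := by group
    _ = x⁻¹ * ((x * e * x⁻¹) * (x * l * x⁻¹)) * x := by rw [this]
    _ = e * l := by group

theorem h5' {E E' : Subgroup G} (hE : E ∈ unipotentSubgroups A F)
    (hE' : E' ∈ unipotentSubgroups A F) (hne : E ≠ E') {l : G} (hl : l ∈ L) :
    ∃ g ∈ LE L E', rc E g = rc E l := by
  obtain ⟨x, hx, hx1, hx2⟩ := move_to_AB h.pair hE hE' hne
  have e1 : E = rc A x := conjBy_eq_iff.mp hx1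
  have e2 : E' = rc F x := conjBy_eq_iff.mp hx2
  have hl' := h.normL x hx l hl
  obtain ⟨g', hg', hg'e⟩ := h.h5 _ hl'
  refine ⟨x⁻¹ * g' * x, ?_, ?_⟩
  · have := LE_conj hg' (x := x⁻¹) (h.normL x⁻¹ (inv_mem hx)) (fun l hl => by
      have := h.normL x hx l hl
      rwa [inv_inv])
    rw [inv_inv] at this
    rw [e2]; exact this
  · rw [e1, rc_rc]
    have e3 : x * (x⁻¹ * g' * x) = g' * x := by group
    rw [e3, ← rc_rc, hg'e, rc_rc, rc_rc]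
    have e4 : x * l * x⁻¹ * x = x * l := by group
    rw [e4]

theorem inf_le_ZZ {E E' : Subgroup G} (hE : E ∈ unipotentSubgroups A F)
    (hE' : E' ∈ unipotentSubgroups A F) (hne : E ≠ E') {l : G} (h1 : l ∈ LE L E)
    (h2 : l ∈ LE L E') : l ∈ ZZ A F L := by
  refine ⟨h1.1, fun E'' hE'' => ⟨h1.1, fun l' hl' e he => ?_⟩⟩
  obtain ⟨-, hsup⟩ := pair_of_distinct h.pair hE hE' hne
  have hle : E'' ≤ E ⊔ E' := by rw [hsup]; exact unipotent_le hE''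
  have h3 : rc E'' l' ≤ rc E l' ⊔ rc E' l' := by rw [← rc_sup]; exact rc_mono hle l'
  have hcent : rc E l' ⊔ rc E' l' ≤ Subgroup.centralizer {l} := by
    rw [sup_le_iff]
    constructor
    · intro e he
      rw [Subgroup.mem_centralizer_singleton_iff]
      exact (h1.2 l' hl' e he).symm
    · intro e he
      rw [Subgroup.mem_centralizer_singleton_iff]
      exact (h2.2 l' hl' e he).symm
  have := hcent (h3 he)
  rw [Subgroup.mem_centralizer_singleton_iff] at this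
  exact this.symm

theorem LE_le_cz {E E' : Subgroup G} (hE : E ∈ unipotentSubgroups A F)
    (hE' : E' ∈ unipotentSubgroups A F) (hne : E ≠ E') :
    LE L E ≤ cz (ZZ A F L) L (LE L E' : Set G) := by
  intro y hy
  refine ⟨hy.1, fun g hg l hl => ?_⟩
  apply ZZ_normal _ hl
  apply h.inf_le_ZZ hE hE' hne
  · have h1 : g * y⁻¹ * g⁻¹ ∈ LE L E := LE_normal (inv_mem hy) (LE_le _ _ hg)
    have e : y * g * y⁻¹ * g⁻¹ = y * (g * y⁻¹ * g⁻¹) := by group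
    rw [e]; exact mul_mem hy h1
  · have h1 : y * g * y⁻¹ ∈ LE L E' := LE_normal hg hy.1
    exact mul_mem h1 (inv_mem hg)

theorem semireg {E E₂ : Subgroup G} (hE : E ∈ unipotentSubgroups A F)
    (hE₂ : E₂ ∈ unipotentSubgroups A F) (hne : E ≠ E₂) {y : G} (hy : y ∈ L)
    (hcz : y ∈ cz (ZZ A F L) L (LE L E₂ : Set G)) (hn : rc E y = E) : y ∈ LE L E := by
  refine ⟨hy, fun l' hl' e he => ?_⟩
  obtain ⟨g, hg, hge⟩ := h.h5' hE hE₂ hne hl'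
  rw [← hge, mem_rc] at he
  have hyE := h.h4' hE hy hn _ he
  have hz' := hcz.2 g hg 1 (one_mem _)
  rw [one_mul, inv_one, mul_one] at hz'
  have hz'E := LE_comm_self (ZZ_le_LE hE hz') he
  calc y * e = g⁻¹ * (y * g * y⁻¹ * g⁻¹)⁻¹ * (y * (g * e * g⁻¹)) * y⁻¹ * (y * g * y⁻¹ * g⁻¹)
        * g * y := by group
    _ = g⁻¹ * (y * g * y⁻¹ * g⁻¹)⁻¹ * ((g * e * g⁻¹) * y) * y⁻¹ * (y * g * y⁻¹ * g⁻¹)
        * g * y := by rw [hyE]
    _ = g⁻¹ * (y * g * y⁻¹ * g⁻¹)⁻¹ * ((g * e * g⁻¹) * (y * g * y⁻¹ * g⁻¹)) * g * y := by group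
    _ = g⁻¹ * (y * g * y⁻¹ * g⁻¹)⁻¹ * ((y * g * y⁻¹ * g⁻¹) * (g * e * g⁻¹)) * g * y := by
      rw [hz'E]
    _ = e * y := by group

theorem decomp {E E₁ E₂ E₃ : Subgroup G} (hE : E ∈ unipotentSubgroups A F)
    (hE₁ : E₁ ∈ unipotentSubgroups A F) (hE₂ : E₂ ∈ unipotentSubgroups A F)
    (hE₃ : E₃ ∈ unipotentSubgroups A F) (h02 : E ≠ E₂) (h03 : E ≠ E₃)
    (h12 : E₁ ≠ E₂) (h32 : E₃ ≠ E₂) {y : G} (hy : y ∈ LE L E₁) :
    ∃ y' ∈ LE L E, ∃ g ∈ LE L E₃, y = y' * g := by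
  obtain ⟨g, hg, hge⟩ := h.h5' hE hE₃ h03 hy.1
  refine ⟨y * g⁻¹, ?_, g, hg, by group⟩
  apply h.semireg hE hE₂ h02 (mul_mem hy.1 (inv_mem hg.1))
  · exact mul_mem (h.LE_le_cz hE₁ hE₂ h12 hy) (inv_mem (h.LE_le_cz hE₃ hE₂ h32 hg))
  · rw [← rc_rc, ← hge, rc_rc, mul_inv_cancel, rc_one]

theorem LE_abelian_of {E E₁ E₂ E₃ : Subgroup G} (hE : E ∈ unipotentSubgroups A F)
    (hE₁ : E₁ ∈ unipotentSubgroups A F) (hE₂ : E₂ ∈ unipotentSubgroups A F)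
    (hE₃ : E₃ ∈ unipotentSubgroups A F) (h01 : E ≠ E₁) (h02 : E ≠ E₂) (h03 : E ≠ E₃)
    (h12 : E₁ ≠ E₂) (h32 : E₃ ≠ E₂) (h31 : E₃ ≠ E₁) :
    LE L E₁ ≤ cz (ZZ A F L) L (LE L E₁ : Set G) := by
  intro y hy
  obtain ⟨y', hy', g, hg, rfl⟩ := h.decomp hE hE₁ hE₂ hE₃ h02 h03 h12 h32 hy
  exact mul_mem (h.LE_le_cz hE hE₁ h01 hy') (h.LE_le_cz hE₃ hE₁ h31 hg)

theorem rcF_ne_F {a : G} (ha : a ∈ A) (ha1 : a ≠ 1) : rc F a ≠ F := by
  intro he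
  exact ha1 (eq_one_of_mem_normalizer h.pair ha (rc_eq_self_iff.mp he))

theorem rcF_ne_A {a : G} (ha : a ∈ A) : rc F a ≠ A :=
  conjBy_right_ne_left h.pair (inv_mem ha)

theorem rcF_mem {a : G} (ha : a ∈ A) : rc F a ∈ unipotentSubgroups A F :=
  rc_mem_unip (right_mem_unipotent h.pair) (Subgroup.mem_sup_left ha)

theorem LE_abelian {E₁ : Subgroup G} (hE₁ : E₁ ∈ unipotentSubgroups A F) :
    LE L E₁ ≤ cz (ZZ A F L) L (LE L E₁ : Set G) := by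
  obtain ⟨x, hx, rfl⟩ := mem_unip_iff_rc.mp hE₁
  obtain ⟨a₁, ha₁, a₂, ha₂, h1, h2, h12⟩ := h.h8
  have hF := right_mem_unipotent h.pair
  refine h.LE_abelian_of (E := rc F x) (E₂ := rc (rc F a₁) x) (E₃ := rc (rc F a₂) x)
    (rc_mem_unip hF hx) hE₁ (rc_mem_unip (h.rcF_mem ha₁) hx) (rc_mem_unip (h.rcF_mem ha₂) hx)
    ?_ ?_ ?_ ?_ ?_ ?_
  · exact fun he => h.pair.ne (rc_inj he).symm
  · exact fun he => h.rcF_ne_F ha₁ h1 (rc_inj he).symm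
  · exact fun he => h.rcF_ne_F ha₂ h2 (rc_inj he).symm
  · exact fun he => h.rcF_ne_A ha₁ (rc_inj he).symm
  · exact fun he => h12 (rc_right_inj h.pair ha₁ ha₂ (rc_inj he).symm)
  · exact fun he => h.rcF_ne_A ha₂ (rc_inj he)

/-- the subgroup `W = LE A · LE F` -/
def W (A F L : Subgroup G) : Subgroup G := LE L A ⊔ LE L F

omit h in
theorem W_le : W A F L ≤ L := sup_le (LE_le _ _) (LE_le _ _)

omit h in
theorem ZZ_le_W : ZZ A F L ≤ W A F L :=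
  (ZZ_le_LE left_mem_unipotent).trans le_sup_left

theorem W_le_cz : W A F L ≤ cz (ZZ A F L) L (W A F L : Set G) := by
  have hA := left_mem_unipotent (A := A) (B := F)
  have hF := right_mem_unipotent h.pair
  have h1 : W A F L ≤ cz (ZZ A F L) L (LE L A : Set G) :=
    sup_le (h.LE_abelian hA) (h.LE_le_cz hF hA h.pair.ne.symm)
  have h2 : W A F L ≤ cz (ZZ A F L) L (LE L F : Set G) :=
    sup_le (h.LE_le_cz hA hF h.pair.ne) (h.LE_abelian hF)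
  exact sup_le (cz_swap (LE_le _ _) h1) (cz_swap (LE_le _ _) h2)

theorem W_comm {x y : G} (hx : x ∈ W A F L) (hy : y ∈ W A F L) :
    x * y * x⁻¹ * y⁻¹ ∈ ZZ A F L := by
  have := (h.W_le_cz hx).2 y hy 1 (one_mem _)
  rwa [one_mul, inv_one, mul_one] at this

theorem LE_le_W {E₁ : Subgroup G} (hE₁ : E₁ ∈ unipotentSubgroups A F) :
    LE L E₁ ≤ W A F L := by
  by_cases h1A : E₁ = A
  · rw [h1A]; exact le_sup_left
  by_cases h1F : E₁ = F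
  · rw [h1F]; exact le_sup_right
  obtain ⟨a₁, ha₁, a₂, ha₂, h1, h2, h12⟩ := h.h8
  have hA := left_mem_unipotent (A := A) (B := F)
  have hF := right_mem_unipotent h.pair
  -- a fourth member
  obtain ⟨E₂, hE₂, h2A, h2F, h21⟩ : ∃ E₂ ∈ unipotentSubgroups A F, E₂ ≠ A ∧ E₂ ≠ F ∧ E₂ ≠ E₁ := by
    by_cases he : E₁ = rc F a₁
    · refine ⟨rc F a₂, h.rcF_mem ha₂, h.rcF_ne_A ha₂, h.rcF_ne_F ha₂ h2, ?_⟩
      rw [he]
      exact fun he' => h12 (rc_right_inj h.pair ha₁ ha₂ he'.symm)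
    · exact ⟨rc F a₁, h.rcF_mem ha₁, h.rcF_ne_A ha₁, h.rcF_ne_F ha₁ h1, fun he' => he he'.symm⟩
  intro y hy
  obtain ⟨y', hy', g, hg, rfl⟩ := h.decomp hA hE₁ hE₂ hF (Ne.symm h2A) h.pair.ne
    (Ne.symm h21) (Ne.symm h2F) hy
  exact mul_mem (Subgroup.mem_sup_left hy') (Subgroup.mem_sup_right hg)

theorem W_conj {x l : G} (hx : x ∈ A ⊔ F) (hl : l ∈ W A F L) : x * l * x⁻¹ ∈ W A F L := by
  have hA := left_mem_unipotent (A := A) (B := F)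
  have hF := right_mem_unipotent h.pair
  have key : W A F L ≤ (W A F L).comap (MulAut.conj x).toMonoidHom := by
    apply sup_le
    · intro l hl
      rw [Subgroup.mem_comap]
      have := LE_conj hl (h.normL x hx) (fun l hl => h.normL' hx hl)
      exact h.LE_le_W (rc_mem_unip hA (inv_mem hx)) this
    · intro l hl
      rw [Subgroup.mem_comap]
      have := LE_conj hl (h.normL x hx) (fun l hl => h.normL' hx hl)
      exact h.LE_le_W (rc_mem_unip hF (inv_mem hx)) this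
  have := key hl
  rwa [Subgroup.mem_comap] at this

theorem sr_core {c l : G} (hc : c ∈ A) (hc1 : c ≠ 1) (hl : l ∈ LE L F)
    (hk : c * l * c⁻¹ * l⁻¹ ∈ LE L A) : l ∈ ZZ A F L := by
  have hA := left_mem_unipotent (A := A) (B := F)
  have hF := right_mem_unipotent h.pair
  by_cases hA' : rc A l⁻¹ = A
  · have h1 : rc A l = A := by
      have := rc_eq_iff.mp hA'
      rw [inv_inv] at this
      exact this.symm
    have h2 := h.semireg hA hF h.pair.ne hl.1 (h.LE_abelian hF hl) h1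
    exact h.inf_le_ZZ hA hF h.pair.ne h2 hl
  · exfalso
    have pair' := h.h6 l⁻¹ (inv_mem hl.1) hA'
    have hmem : l * c⁻¹ * l⁻¹ ∈ rc A l⁻¹ := by
      rw [mem_rc]
      have : l⁻¹ * (l * c⁻¹ * l⁻¹) * l⁻¹⁻¹ = c⁻¹ := by group
      rw [this]; exact inv_mem hc
    have hcomm : ∀ y ∈ A, (l * c⁻¹ * l⁻¹) * y = y * (l * c⁻¹ * l⁻¹) := by
      intro y hy
      have e : l * c⁻¹ * l⁻¹ = c⁻¹ * (c * l * c⁻¹ * l⁻¹) := by group
      rw [e]
      exact comm_mul_left (h.commA _ (inv_mem hc) _ hy) (LE_comm_self hk hy)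
    have h1 := eq_one_of_mem_normalizer (RankOnePair_symm pair') hmem
      (mem_normalizer_of_commutes hcomm)
    apply hc1
    have e : c = (l⁻¹ * (l * c⁻¹ * l⁻¹) * l)⁻¹ := by group
    rw [e, h1]; group

theorem exists_LEF_not_ZZ : ∃ g ∈ LE L F, g ∉ ZZ A F L := by
  obtain ⟨l, hl, hne⟩ := h.h7
  obtain ⟨g, hg, hge⟩ := h.h5 l hl
  refine ⟨g, hg, fun hz => hne ?_⟩
  rw [← hge]
  exact rc_of_comm (fun x hx => LE_comm_self (ZZ_le_LE left_mem_unipotent hz) hx)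

omit h in
theorem W_decomp {l : G} (hl : l ∈ W A F L) : ∃ l₁ ∈ LE L A, ∃ l₂ ∈ LE L F, l = l₁ * l₂ := by
  let P : Subgroup G :=
    { carrier := {l | ∃ l₁ ∈ LE L A, ∃ l₂ ∈ LE L F, l = l₁ * l₂}
      one_mem' := ⟨1, one_mem _, 1, one_mem _, by rw [mul_one]⟩
      mul_mem' := by
        rintro _ _ ⟨l₁, h1, l₂, h2, rfl⟩ ⟨l₁', h1', l₂', h2', rfl⟩
        refine ⟨l₁ * l₁', mul_mem h1 h1', (l₁'⁻¹ * l₂ * l₁'⁻¹⁻¹) * l₂', ?_, by group⟩
        exact mul_mem (LE_normal h2 (inv_mem h1'.1)) h2'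
      inv_mem' := by
        rintro _ ⟨l₁, h1, l₂, h2, rfl⟩
        refine ⟨l₁⁻¹, inv_mem h1, l₁ * l₂⁻¹ * l₁⁻¹, ?_, by group⟩
        exact LE_normal (inv_mem h2) h1.1 }
  have hle : W A F L ≤ P := by
    apply sup_le
    · intro l hl
      exact ⟨l, hl, 1, one_mem _, by rw [mul_one]⟩
    · intro l hl
      exact ⟨1, one_mem _, l, hl, by rw [one_mul]⟩
  exact hle hl

end QData

end Cfsg.Agent.Lib.Helper4.Rt4
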