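import Cfsg.Agent.Lib.Helper4.Rt4
import Cfsg.Agent.Lib.Helper4.Rt3

set_option autoImplicit false
set_option linter.unusedVariables false

/-! Abstract "Lemma Q", part 2: the abelian quotient `W / Z` and the two unipotent actions. -/

namespace Cfsg.Agent.Lib.Helper4.Rt5

open Cfsg Cfsg.Agent.Lib.Helper4.RankOneGrp Cfsg.Agent.Lib.Helper4.RootSub
  Cfsg.Agent.Lib.Helper4.RootSub2 Cfsg.Agent.Lib.Helper4.RootSub3 Cfsg.Agent.Lib.Helper4.Rt1
  Cfsg.Agent.Lib.Helper4.Rt2 Cfsg.Agent.Lib.Helper4.Rt4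

section general

variable {H : Type*} [Group H]

/-- a quotient with all commutators in the kernel is commutative -/
@[reducible] def commGroupOfComm (N : Subgroup H) [N.Normal]
    (hc : ∀ x y : H, x * y * x⁻¹ * y⁻¹ ∈ N) : CommGroup (H ⧸ N) :=
  { (inferInstance : Group (H ⧸ N)) with
    mul_comm := by
      intro x y
      induction x using QuotientGroup.induction_on with
      | H x =>
        induction y using QuotientGroup.induction_on with
        | H y =>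
          rw [← QuotientGroup.mk_mul, ← QuotientGroup.mk_mul, QuotientGroup.eq]
          have := hc y⁻¹ x⁻¹
          have e : (x * y)⁻¹ * (y * x) = y⁻¹ * x⁻¹ * y⁻¹⁻¹ * x⁻¹⁻¹ := by group
          rw [e]; exact this }

end general

variable {G : Type*} [Group G] {A F L : Subgroup G}

/-- `Z` as a subgroup of `W` -/
abbrev Zw (A F L : Subgroup G) : Subgroup ↥(QData.W A F L) :=
  (ZZ A F L).subgroupOf (QData.W A F L)

theorem Zw_normal (A F L : Subgroup G) : (Zw A F L).Normal := by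
  refine ⟨fun z hz l => ?_⟩
  rw [Subgroup.mem_subgroupOf] at hz ⊢
  exact ZZ_normal hz (QData.W_le l.2)

instance (A F L : Subgroup G) : (Zw A F L).Normal := Zw_normal A F L

/-- the abelian quotient, written additively -/
def QV (h : QData A F L) : Type _ := Additive (↥(QData.W A F L) ⧸ Zw A F L)

theorem Zw_comm (h : QData A F L) (x y : ↥(QData.W A F L)) :
    x * y * x⁻¹ * y⁻¹ ∈ Zw A F L := by
  rw [Subgroup.mem_subgroupOf]
  exact h.W_comm x.2 y.2

noncomputable instance (h : QData A F L) : AddCommGroup (QV h) :=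
  @Additive.addCommGroup _ (commGroupOfComm (Zw A F L) (Zw_comm h))

/-- the quotient map -/
def mk (h : QData A F L) (l : ↥(QData.W A F L)) : QV h :=
  Additive.ofMul (QuotientGroup.mk l)

theorem mk_mul (h : QData A F L) (l₁ l₂ : ↥(QData.W A F L)) :
    mk h (l₁ * l₂) = mk h l₁ + mk h l₂ := rfl

theorem mk_inv (h : QData A F L) (l : ↥(QData.W A F L)) : mk h l⁻¹ = -mk h l := rfl

theorem mk_one (h : QData A F L) : mk h 1 = 0 := rfl

theorem mk_surj (h : QData A F L) (v : QV h) : ∃ l, mk h l = v := by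
  obtain ⟨l, hl⟩ := QuotientGroup.mk_surjective (s := Zw A F L) (Additive.toMul v)
  exact ⟨l, by rw [mk, hl]; rfl⟩

theorem mk_eq_zero_iff (h : QData A F L) (l : ↥(QData.W A F L)) :
    mk h l = 0 ↔ (l : G) ∈ ZZ A F L := by
  have : mk h l = 0 ↔ (QuotientGroup.mk l : ↥(QData.W A F L) ⧸ Zw A F L) = 1 := Iff.rfl
  rw [this, QuotientGroup.eq_one_iff, Subgroup.mem_subgroupOf]

theorem mk_eq_iff (h : QData A F L) (l₁ l₂ : ↥(QData.W A F L)) :
    mk h l₁ = mk h l₂ ↔ (l₁ : G)⁻¹ * l₂ ∈ ZZ A F L := by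
  have : mk h l₁ = mk h l₂ ↔
      (QuotientGroup.mk l₁ : ↥(QData.W A F L) ⧸ Zw A F L) = QuotientGroup.mk l₂ := Iff.rfl
  rw [this, QuotientGroup.eq, Subgroup.mem_subgroupOf]
  rfl

/-- conjugation by `x ∈ A ⊔ F` on `W` -/
def conjW (h : QData A F L) (x : ↥(A ⊔ F)) : ↥(QData.W A F L) →* ↥(QData.W A F L) where
  toFun l := ⟨(x : G) * l * (x : G)⁻¹, h.W_conj x.2 l.2⟩
  map_one' := Subtype.ext (by simp)
  map_mul' a b := Subtype.ext (by
    show (x : G) * ((a : G) * b) * (x : G)⁻¹ = ((x : G) * a * (x : G)⁻¹) * ((x : G) * b * (x : G)⁻¹)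
    group)

theorem conjW_le (h : QData A F L) (x : ↥(A ⊔ F)) :
    Zw A F L ≤ (Zw A F L).comap (conjW h x) := by
  intro z hz
  rw [Subgroup.mem_comap, Subgroup.mem_subgroupOf]
  rw [Subgroup.mem_subgroupOf] at hz
  exact ZZ_conj h.normL hz x.2

/-- the induced endomorphism of the quotient -/
noncomputable def cEnd (h : QData A F L) (x : ↥(A ⊔ F)) : QV h →+ QV h :=
  letI : CommGroup (↥(QData.W A F L) ⧸ Zw A F L) := commGroupOfComm (Zw A F L) (Zw_comm h)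
  MonoidHom.toAdditive (QuotientGroup.map (Zw A F L) (Zw A F L) (conjW h x) (conjW_le h x))

theorem cEnd_mk (h : QData A F L) (x : ↥(A ⊔ F)) (l : ↥(QData.W A F L)) :
    cEnd h x (mk h l) = mk h (conjW h x l) := rfl

/-- the representation of `A ⊔ F` on the quotient -/
noncomputable def cE (h : QData A F L) : ↥(A ⊔ F) →* Module.End ℤ (QV h) where
  toFun x := (cEnd h x).toIntLinearMap
  map_one' := by
    ext v
    obtain ⟨l, rfl⟩ := mk_surj h v
    rw [AddMonoidHom.coe_toIntLinearMap, cEnd_mk, Module.End.one_apply]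
    congr 1
    apply Subtype.ext
    show ((1 : ↥(A ⊔ F)) : G) * l * ((1 : ↥(A ⊔ F)) : G)⁻¹ = l
    simp
  map_mul' x y := by
    ext v
    obtain ⟨l, rfl⟩ := mk_surj h v
    rw [Module.End.mul_apply, AddMonoidHom.coe_toIntLinearMap, AddMonoidHom.coe_toIntLinearMap,
      AddMonoidHom.coe_toIntLinearMap, cEnd_mk, cEnd_mk, cEnd_mk]
    congr 1
    apply Subtype.ext
    show ((x * y : ↥(A ⊔ F)) : G) * l * ((x * y : ↥(A ⊔ F)) : G)⁻¹ =
      (x : G) * ((y : G) * l * (y : G)⁻¹) * (x : G)⁻¹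
    rw [Subgroup.coe_mul]
    group

theorem cE_mk (h : QData A F L) (x : ↥(A ⊔ F)) (l : ↥(QData.W A F L)) :
    cE h x (mk h l) = mk h ⟨(x : G) * l * (x : G)⁻¹, h.W_conj x.2 l.2⟩ := rfl

/-- the image of `LE L E` in the quotient -/
def UU (h : QData A F L) (E : Subgroup G) : AddSubgroup (QV h) where
  carrier := {v | ∃ l : ↥(QData.W A F L), (l : G) ∈ LE L E ∧ mk h l = v}
  zero_mem' := ⟨1, one_mem _, rfl⟩
  add_mem' := by
    rintro _ _ ⟨l₁, h1, rfl⟩ ⟨l₂, h2, rfl⟩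
    exact ⟨l₁ * l₂, mul_mem h1 h2, rfl⟩
  neg_mem' := by
    rintro _ ⟨l, h1, rfl⟩
    exact ⟨l⁻¹, inv_mem h1, rfl⟩

theorem mk_mem_UU_iff (h : QData A F L) {E : Subgroup G} (hE : E ∈ unipotentSubgroups A F)
    (l : ↥(QData.W A F L)) : mk h l ∈ UU h E ↔ (l : G) ∈ LE L E := by
  constructor
  · rintro ⟨l', hl', he⟩
    rw [mk_eq_iff] at he
    have h1 := ZZ_le_LE hE he
    have e : (l : G) = l' * ((l' : G)⁻¹ * l) := by group
    rw [e]; exact mul_mem hl' h1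
  · intro hl
    exact ⟨l, hl, rfl⟩

theorem QData.concl (h : QData A F L) {a b : G} (ha : a ∈ A) (hb : b ∈ A) (ha1 : a ≠ 1)
    (hb1 : b ≠ 1) : a = b ∨ a * b = 1 := by
  have hA := left_mem_unipotent (A := A) (B := F)
  have hF := right_mem_unipotent h.pair
  obtain ⟨α, hαdef⟩ : ∃ α : ↥A →* Module.End ℤ (QV h),
      α = (cE h).comp (Subgroup.inclusion le_sup_left) := ⟨_, rfl⟩
  obtain ⟨φ, hφdef⟩ : ∃ φ : ↥F →* Module.End ℤ (QV h),
      φ = (cE h).comp (Subgroup.inclusion le_sup_right) := ⟨_, rfl⟩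
  have hαmk : ∀ (a : ↥A) (l : ↥(QData.W A F L)), α a (mk h l) =
      mk h ⟨(a : G) * l * (a : G)⁻¹, h.W_conj (Subgroup.mem_sup_left a.2) l.2⟩ := by
    intro a l; rw [hαdef]; rfl
  have hφmk : ∀ (f : ↥F) (l : ↥(QData.W A F L)), φ f (mk h l) =
      mk h ⟨(f : G) * l * (f : G)⁻¹, h.W_conj (Subgroup.mem_sup_right f.2) l.2⟩ := by
    intro f l; rw [hφdef]; rfl
  have hcompl : IsCompl (AddSubgroup.toIntSubmodule (UU h A))
      (AddSubgroup.toIntSubmodule (UU h F)) := by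
    constructor
    · rw [Submodule.disjoint_def]
      rintro x ⟨l₁, hl₁, rfl⟩ hx
      have h2 : (l₁ : G) ∈ LE L F := (mk_mem_UU_iff h hF l₁).mp hx
      rw [mk_eq_zero_iff]
      exact h.inf_le_ZZ hA hF h.pair.ne hl₁ h2
    · rw [Submodule.codisjoint_iff_exists_add_eq]
      intro z
      obtain ⟨l, rfl⟩ := mk_surj h z
      obtain ⟨l₁, h1, l₂, h2, he⟩ := QData.W_decomp l.2
      refine ⟨mk h ⟨l₁, Subgroup.mem_sup_left h1⟩, mk h ⟨l₂, Subgroup.mem_sup_right h2⟩,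
        ⟨_, h1, rfl⟩, ⟨_, h2, rfl⟩, ?_⟩
      rw [← mk_mul]
      congr 1
      exact Subtype.ext he.symm
  have key := Rt3.lemmaM_module (A := ↥A) (F := ↥F) (AddSubgroup.toIntSubmodule (UU h A))
    (AddSubgroup.toIntSubmodule (UU h F)) hcompl α φ
    (fun x y => Subtype.ext (h.commA x x.2 y y.2))
    (fun x y => Subtype.ext (h.commF x x.2 y y.2)) ?_ ?_ ?_ ?_ ?_ ?_ ?_
    (a := ⟨a, ha⟩) (b := ⟨b, hb⟩) (fun e => ha1 (congrArg Subtype.val e))
    (fun e => hb1 (congrArg Subtype.val e))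
  · rcases key with e | e
    · exact Or.inl (congrArg Subtype.val e)
    · exact Or.inr (congrArg Subtype.val e)
  · -- `A` fixes `U₁`
    rintro a' w ⟨l, hl, rfl⟩
    rw [hαmk]
    congr 1
    apply Subtype.ext
    show (a' : G) * l * (a' : G)⁻¹ = l
    rw [← LE_comm_self hl a'.2, mul_inv_cancel_right]
  · rintro f u ⟨l, hl, rfl⟩
    rw [hφmk]
    congr 1
    apply Subtype.ext
    show (f : G) * l * (f : G)⁻¹ = l
    rw [← LE_comm_self hl f.2, mul_inv_cancel_right]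
  · -- inj1
    rintro a' ha' u ⟨l, hl, rfl⟩ hu
    rw [hαmk] at hu
    have h1 : (a' : G) * l * (a' : G)⁻¹ ∈ LE L F := (mk_mem_UU_iff h hF _).mp hu
    have hxa : (a' : G) ∈ A ⊔ F := Subgroup.mem_sup_left a'.2
    have h2 := LE_conj hl (h.normL _ hxa) (fun l hl => h.normL' hxa hl)
    have ha'1 : (a' : G)⁻¹ ≠ 1 := fun e => ha' (Subtype.ext (inv_eq_one.mp e))
    have h3 := h.inf_le_ZZ hF (h.rcF_mem (inv_mem a'.2))
      (Ne.symm (h.rcF_ne_F (inv_mem a'.2) ha'1)) h1 h2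
    have h4 := ZZ_conj h.normL h3 (inv_mem hxa)
    rw [mk_eq_zero_iff]
    have e : (a' : G)⁻¹ * ((a' : G) * l * (a' : G)⁻¹) * (a' : G)⁻¹⁻¹ = l := by group
    rwa [e] at h4
  · -- inj2
    rintro f hf w ⟨l, hl, rfl⟩ hw
    rw [hφmk] at hw
    have h1 : (f : G) * l * (f : G)⁻¹ ∈ LE L A := (mk_mem_UU_iff h hA _).mp hw
    have hxf : (f : G) ∈ A ⊔ F := Subgroup.mem_sup_right f.2
    have h2 := LE_conj hl (h.normL _ hxf) (fun l hl => h.normL' hxf hl)
    have hf1 : (f : G)⁻¹ ≠ 1 := fun e => hf (Subtype.ext (inv_eq_one.mp e))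
    have hne : rc A (f : G)⁻¹ ≠ A := by
      intro he
      exact hf1 (eq_one_of_mem_normalizer (RankOnePair_symm h.pair) (inv_mem f.2)
        (rc_eq_self_iff.mp he))
    have h3 := h.inf_le_ZZ hA (rc_mem_unip hA (inv_mem hxf)) (Ne.symm hne) h1 h2
    have h4 := ZZ_conj h.normL h3 (inv_mem hxf)
    rw [mk_eq_zero_iff]
    have e : (f : G)⁻¹ * ((f : G) * l * (f : G)⁻¹) * (f : G)⁻¹⁻¹ = l := by group
    rwa [e] at h4
  · -- sr
    rintro c hc u ⟨l, hl, rfl⟩ hu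
    rw [hαmk, sub_eq_add_neg, ← mk_inv, ← mk_mul] at hu
    have h1 : (c : G) * l * (c : G)⁻¹ * (l : G)⁻¹ ∈ LE L A := (mk_mem_UU_iff h hA _).mp hu
    rw [mk_eq_zero_iff]
    exact h.sr_core c.2 (fun e => hc (Subtype.ext e)) hl h1
  · -- hne
    obtain ⟨g, hg, hgz⟩ := h.exists_LEF_not_ZZ
    refine ⟨mk h ⟨g, Subgroup.mem_sup_right hg⟩, ⟨_, hg, rfl⟩, ?_⟩
    rw [Ne, mk_eq_zero_iff]
    exact hgz
  · -- braid
    intro a' ha'
    have ha'1 : (a' : G) ≠ 1 := fun e => ha' (Subtype.ext e)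
    obtain ⟨b', hb', hb'1, hm⟩ := h.pair.cond_left a' a'.2 ha'1
    have spec := h.special.2 a' a'.2 ha'1 b' hb' hb'1 hm
    refine ⟨⟨b'⁻¹, inv_mem hb'⟩, fun e => hb'1 (inv_eq_one.mp (congrArg Subtype.val e)), ?_⟩
    rw [hαdef, hφdef]
    simp only [MonoidHom.comp_apply]
    rw [← map_mul, ← map_mul, ← map_mul, ← map_mul]
    congr 1
    apply Subtype.ext
    show (a' : G) * b'⁻¹ * (a' : G) = b'⁻¹ * (a' : G) * b'⁻¹
    calc (a' : G) * b'⁻¹ * (a' : G) = (a' : G) * (b'⁻¹ * (a' : G) * b') * b'⁻¹ := by group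
      _ = (a' : G) * ((a' : G)⁻¹ * b'⁻¹ * (a' : G)) * b'⁻¹ := by rw [spec]
      _ = b'⁻¹ * (a' : G) * b'⁻¹ := by group

end Cfsg.Agent.Lib.Helper4.Rt5
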