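import Cfsg.Agent.Lib.Helper4.Rt5

set_option autoImplicit false
set_option linter.unusedVariables false

/-! Blocks of a degenerate set of abstract root subgroups and the instantiation of the abstract
lemma. -/

namespace Cfsg.Agent.Lib.Helper4.Rt6

open Cfsg Cfsg.Agent.Lib.Helper4.RankOneGrp Cfsg.Agent.Lib.Helper4.RootSub
  Cfsg.Agent.Lib.Helper4.RootSub2 Cfsg.Agent.Lib.Helper4.RootSub3 Cfsg.Agent.Lib.Helper4.Rt1
  Cfsg.Agent.Lib.Helper4.Rt2 Cfsg.Agent.Lib.Helper4.Rt4 Cfsg.Agent.Lib.Helper4.Rt5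

variable {G : Type*} [Group G]

/-- `D` is a member of `S` different from `E` commuting elementwise with `E` -/
def Sg (S : Set (Subgroup G)) (E D : Subgroup G) : Prop :=
  D ∈ S ∧ D ≠ E ∧ ∀ x ∈ E, ∀ y ∈ D, x * y = y * x

/-- `E` and `E'` have the same commuting partners -/
def SameBlk (S : Set (Subgroup G)) (E E' : Subgroup G) : Prop := ∀ D, Sg S E D ↔ Sg S E' D

theorem SameBlk.refl (S : Set (Subgroup G)) (E : Subgroup G) : SameBlk S E E := fun _ => Iff.rfl

theorem SameBlk.symm {S : Set (Subgroup G)} {E E' : Subgroup G} (h : SameBlk S E E') :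
    SameBlk S E' E := fun D => (h D).symm

theorem SameBlk.trans {S : Set (Subgroup G)} {E E' E'' : Subgroup G} (h : SameBlk S E E')
    (h' : SameBlk S E' E'') : SameBlk S E E'' := fun D => (h D).trans (h' D)

theorem rc_mem_S {S : Set (Subgroup G)} (hS : IsRootSubgroupSet S) {E : Subgroup G} (hE : E ∈ S)
    (g : G) : rc E g ∈ S := hS.conj_mem E hE g⁻¹

theorem Sg_rc {S : Set (Subgroup G)} (hS : IsRootSubgroupSet S) {E D : Subgroup G} (g : G) :
    Sg S (rc E g) D ↔ Sg S E (rc D g⁻¹) := by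
  constructor
  · rintro ⟨h1, h2, h3⟩
    refine ⟨rc_mem_S hS h1 _, ?_, ?_⟩
    · intro he
      apply h2
      rw [← he, rc_rc, inv_mul_cancel, rc_one]
    · intro x hx y hy
      rw [mem_rc, inv_inv] at hy
      have h4 := h3 (g⁻¹ * x * g) (re_mem_rc hx) _ hy
      calc x * y = g * ((g⁻¹ * x * g) * (g⁻¹ * y * g)) * g⁻¹ := by group
        _ = g * ((g⁻¹ * y * g) * (g⁻¹ * x * g)) * g⁻¹ := by rw [h4]
        _ = y * x := by group
  · rintro ⟨h1, h2, h3⟩
    refine ⟨?_, ?_, ?_⟩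
    · have := rc_mem_S hS h1 g
      rwa [rc_rc, inv_mul_cancel, rc_one] at this
    · intro he
      apply h2
      rw [he, rc_rc, mul_inv_cancel, rc_one]
    · intro x hx y hy
      rw [mem_rc] at hx
      have hy' : g * y * g⁻¹ ∈ rc D g⁻¹ := by
        have := re_mem_rc (g := g⁻¹) hy
        rwa [inv_inv] at this
      have h4 := h3 _ hx _ hy'
      calc x * y = g⁻¹ * ((g * x * g⁻¹) * (g * y * g⁻¹)) * g := by group
        _ = g⁻¹ * ((g * y * g⁻¹) * (g * x * g⁻¹)) * g := by rw [h4]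
        _ = y * x := by group

theorem SameBlk.rc {S : Set (Subgroup G)} (hS : IsRootSubgroupSet S) {E E' : Subgroup G}
    (h : SameBlk S E E') (g : G) : SameBlk S (rc E g) (rc E' g) := by
  intro D
  rw [Sg_rc hS, Sg_rc hS]
  exact h _

/-- in a degenerate set two members commute or form a rank one pair -/
theorem dichotomy {S : Set (Subgroup G)} (hS : IsRootSubgroupSet S) (hd : IsDegenerateRootSet S)
    {E E' : Subgroup G} (hE : E ∈ S) (hE' : E' ∈ S) :
    (∀ x ∈ E, ∀ y ∈ E', x * y = y * x) ∨ IsRankOnePair E E' := by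
  rcases hS.pair E hE E' hE' with h | h | h
  · exact Or.inl (commutator_eq_bot_iff'.mp h)
  · exact Or.inr h
  · exact absurd h (hd E hE E' hE')

/-- different members of the same block form a rank one pair -/
theorem pair_of_sameBlk {S : Set (Subgroup G)} (hS : IsRootSubgroupSet S)
    (hd : IsDegenerateRootSet S) {E E' : Subgroup G} (hE : E ∈ S) (hE' : E' ∈ S)
    (h : SameBlk S E E') (hne : E ≠ E') : IsRankOnePair E E' := by
  rcases dichotomy hS hd hE hE' with hc | hp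
  · exfalso
    have h1 : Sg S E E' := ⟨hE', Ne.symm hne, hc⟩
    exact ((h E').mp h1).2.1 rfl
  · exact hp

/-- the configuration -/
structure Blk (S : Set (Subgroup G)) (A F C C' : Subgroup G) : Prop where
  hS : IsRootSubgroupSet S
  deg : IsDegenerateRootSet S
  hA : A ∈ S
  hF : F ∈ S
  hC : C ∈ S
  hC' : C' ∈ S
  pairAF : IsRankOnePair A F
  neAC : A ≠ C
  commAC : ∀ x ∈ A, ∀ y ∈ C, x * y = y * x
  pairCF : IsRankOnePair C F
  neFC' : F ≠ C'
  commFC' : ∀ x ∈ F, ∀ y ∈ C', x * y = y * x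
  pairC'A : IsRankOnePair C' A

namespace Blk

variable {S : Set (Subgroup G)} {A F C C' : Subgroup G}

theorem swap (h : Blk S A F C C') : Blk S F A C' C :=
  ⟨h.hS, h.deg, h.hF, h.hA, h.hC', h.hC, RankOnePair_symm h.pairAF, h.neFC', h.commFC',
    h.pairC'A, h.neAC, h.commAC, h.pairCF⟩

variable (h : Blk S A F C C')
include h

theorem klAFC : KLData A F C :=
  ⟨fun x hx y hy => comm_of_mem h.hS h.hA hx hy, fun x hx y hy => comm_of_mem h.hS h.hF hx hy,
    h.pairAF, h.pairCF, h.neAC, h.commAC⟩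

theorem special : IsSpecialRankOnePair A F := Rt2.special h.klAFC

theorem unip_mem_S {E : Subgroup G} (hE : E ∈ unipotentSubgroups A F) : E ∈ S :=
  unipotent_mem_S h.hS h.hA hE

theorem SgAC : Sg S A C := ⟨h.hC, Ne.symm h.neAC, h.commAC⟩

theorem not_sameBlk_AF : ¬ SameBlk S A F := by
  intro hs
  have h1 := (hs C).mp h.SgAC
  exact not_commute_of_pair h.pairCF (fun x hx y hy => (h1.2.2 y hy x hx).symm)

/-- different unipotent subgroups lie in different blocks -/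
theorem unip_eq_of_sameBlk {E E' : Subgroup G} (hE : E ∈ unipotentSubgroups A F)
    (hE' : E' ∈ unipotentSubgroups A F) (hs : SameBlk S E E') : E = E' := by
  by_contra hne
  obtain ⟨x, hx, hx1, hx2⟩ := move_to_AB h.pairAF hE hE' hne
  have e1 : E = rc A x := conjBy_eq_iff.mp hx1
  have e2 : E' = rc F x := conjBy_eq_iff.mp hx2
  rw [e1, e2] at hs
  have := hs.rc h.hS x⁻¹
  rw [rc_rc, rc_rc, mul_inv_cancel, rc_one, rc_one] at this
  exact h.not_sameBlk_AF this

/-- the members of `S` in the block of some unipotent subgroup -/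
def PP (S : Set (Subgroup G)) (A F : Subgroup G) : Set (Subgroup G) :=
  {E | E ∈ S ∧ ∃ E₀ ∈ unipotentSubgroups A F, SameBlk S E E₀}

omit h in
theorem unip_mem_PP (h : Blk S A F C C') {E : Subgroup G} (hE : E ∈ unipotentSubgroups A F) :
    E ∈ PP S A F := ⟨h.unip_mem_S hE, E, hE, SameBlk.refl S E⟩

/-- the kernel of the action on the blocks -/
def LL (S : Set (Subgroup G)) (hS : IsRootSubgroupSet S) (A F : Subgroup G) : Subgroup G where
  carrier := {x | ∀ E ∈ PP S A F, SameBlk S (rc E x) E}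
  one_mem' := by
    intro E hE
    rw [rc_one]
    exact SameBlk.refl S E
  mul_mem' := by
    intro x y hx hy E hE
    rw [← rc_rc]
    have h1 := hx E hE
    have h2 : rc E x ∈ PP S A F := by
      obtain ⟨hES, E₀, hE₀, hs⟩ := hE
      exact ⟨rc_mem_S hS hES x, E₀, hE₀, h1.trans hs⟩
    exact (hy _ h2).trans h1
  inv_mem' := by
    intro x hx E hE
    have h1 := (hx E hE).rc hS x⁻¹
    rw [rc_rc, mul_inv_cancel, rc_one] at h1
    exact h1.symm

omit h in
theorem mem_LL {hS : IsRootSubgroupSet S} {x : G} :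
    x ∈ LL S hS A F ↔ ∀ E ∈ PP S A F, SameBlk S (rc E x) E := Iff.rfl

theorem normLL {x l : G} (hx : x ∈ A ⊔ F) (hl : l ∈ LL S h.hS A F) :
    x * l * x⁻¹ ∈ LL S h.hS A F := by
  intro E hE
  have h2 : rc E x ∈ PP S A F := by
    obtain ⟨hES, E₀, hE₀, hs⟩ := hE
    exact ⟨rc_mem_S h.hS hES x, rc E₀ x, rc_mem_unip hE₀ hx, hs.rc h.hS x⟩
  have h3 := (hl _ h2).rc h.hS x⁻¹
  rw [rc_rc, rc_rc, rc_rc, mul_inv_cancel, rc_one, ← mul_assoc] at h3
  exact h3

/-- an element centralizing `F` and moving `A` inside its block lies in `LL` -/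
theorem mem_LL_of {g : G} (hgF : ∀ x ∈ F, g * x = x * g) (hgA : SameBlk S (rc A g) A) :
    g ∈ LL S h.hS A F := by
  rintro E ⟨hES, E₀, hE₀, hs⟩
  have h1 := hs.rc h.hS g
  suffices h2 : SameBlk S (rc E₀ g) E₀ from (h1.trans h2).trans hs.symm
  rcases unipotent_cases h.pairAF hE₀ with rfl | ⟨a'', ha'', rfl⟩
  · exact hgA
  · by_cases ha1 : a''⁻¹ = 1
    · rw [conjBy_eq_rc, ha1, rc_one, rc_of_comm hgF]
      exact SameBlk.refl S F
    · obtain ⟨f, hf, -, hm⟩ := cond_left_rc h.pairAF (inv_mem ha'') ha1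
      rw [conjBy_eq_rc, ← hm, rc_rc, ← hgF f hf, ← rc_rc]
      exact hgA.rc h.hS f

/-- an element centralizing `A` and moving `F` inside its block lies in `LL` -/
theorem mem_LL_of' {g : G} (hgA : ∀ x ∈ A, g * x = x * g) (hgF : SameBlk S (rc F g) F) :
    g ∈ LL S h.hS A F := by
  rintro E ⟨hES, E₀, hE₀, hs⟩
  have h1 := hs.rc h.hS g
  suffices h2 : SameBlk S (rc E₀ g) E₀ from (h1.trans h2).trans hs.symm
  rcases unipotent_cases h.pairAF hE₀ with rfl | ⟨a'', ha'', rfl⟩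
  · rw [rc_of_comm hgA]
    exact SameBlk.refl S _
  · rw [conjBy_eq_rc, rc_rc, ← hgA _ (inv_mem ha''), ← rc_rc]
    exact hgF.rc h.hS _

/-- moving `A` to another member of its block by an element centralizing the block of `F` -/
theorem P1 {B' : Subgroup G} (hB' : B' ∈ S) (hs : SameBlk S B' A) (hne : B' ≠ A) :
    ∃ g, (∀ F' ∈ S, SameBlk S F' F → ∀ x ∈ F', g * x = x * g) ∧ rc A g = B' := by
  have hSgB'C : Sg S B' C := (hs C).mpr h.SgAC
  have pairB'F : IsRankOnePair B' F := by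
    rcases dichotomy h.hS h.deg hB' h.hF with hc | hp
    · exfalso
      by_cases hFB : F = B'
      · rw [← hFB] at hSgB'C
        exact not_commute_of_pair h.pairCF (fun x hx y hy => (hSgB'C.2.2 y hy x hx).symm)
      · have h1 : Sg S B' F := ⟨h.hF, hFB, hc⟩
        have h2 := (hs F).mp h1
        exact not_commute_of_pair h.pairAF h2.2.2
    · exact hp
  have klB : KLData B' F C :=
    ⟨fun x hx y hy => comm_of_mem h.hS hB' hx hy, fun x hx y hy => comm_of_mem h.hS h.hF hx hy,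
      pairB'F, h.pairCF, Ne.symm hSgB'C.2.1, hSgB'C.2.2⟩
  obtain ⟨a, ha, ha1⟩ := exists_ne_one_left h.pairAF
  obtain ⟨f, hf, hf1, hm⟩ := cond_left_rc h.pairAF ha ha1
  obtain ⟨c, hc, hc1, hmc⟩ := cond_right_rc h.pairCF hf hf1
  obtain ⟨b', hb', hb'1, hmb⟩ := cond_right_rc pairB'F hf hf1
  obtain ⟨-, hdA, hDA, hDAne, hwA⟩ := key h.klAFC ha hf hc hm hmc.symm
  obtain ⟨-, hdB, hDB, hDBne, hwB⟩ := key klB hb' hf hc hmb.symm hmc.symm
  obtain ⟨dA, hdAdef⟩ : ∃ d, d = (c * a⁻¹)⁻¹ * f * (c * a⁻¹) := ⟨_, rfl⟩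
  obtain ⟨dB, hdBdef⟩ : ∃ d, d = (c * b'⁻¹)⁻¹ * f * (c * b'⁻¹) := ⟨_, rfl⟩
  rw [← hdAdef] at hdA hwA
  rw [← hdBdef] at hdB hwB
  refine ⟨(f⁻¹ * dA) * (f⁻¹ * dB)⁻¹, ?_, ?_⟩
  · intro F' hF' hsF x hx
    have e : (f⁻¹ * dA) * (f⁻¹ * dB)⁻¹ = dA * dB⁻¹ := by
      have c1 : f * dA = dA * f := hDA dA hdA f hf
      have c2 : f * dB = dB * f := hDB dB hdB f hf
      have e1 : f⁻¹ * dA = dA * f⁻¹ := comm_inv_left c1
      calc (f⁻¹ * dA) * (f⁻¹ * dB)⁻¹ = (dA * f⁻¹) * (f⁻¹ * dB)⁻¹ := by rw [e1]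
        _ = dA * (dB * f)⁻¹ * f := by group
        _ = dA * (f * dB)⁻¹ * f := by rw [c2]
        _ = dA * dB⁻¹ := by group
    rw [e]
    have sA : Sg S F (rc F (c * a⁻¹)) :=
      ⟨rc_mem_S h.hS h.hF _, hDAne, fun x hx y hy => hDA y hy x hx⟩
    have sB : Sg S F (rc F (c * b'⁻¹)) :=
      ⟨rc_mem_S h.hS h.hF _, hDBne, fun x hx y hy => hDB y hy x hx⟩
    have sA' := (hsF _).mpr sA
    have sB' := (hsF _).mpr sB
    have c1 : dA * x = x * dA := (sA'.2.2 x hx dA hdA).symm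
    have c2 : dB * x = x * dB := (sB'.2.2 x hx dB hdB).symm
    exact comm_mul_left c1 (comm_inv_left c2)
  · rw [← rc_rc, hwA, rc_eq_iff, inv_inv, hwB]

/-- the data of the abstract lemma -/
theorem qdata {B : Subgroup G} (hB : B ∈ S) (hBA : SameBlk S B A) (hne : B ≠ A)
    (h8 : ∃ a₁ ∈ A, ∃ a₂ ∈ A, a₁ ≠ 1 ∧ a₂ ≠ 1 ∧ a₁ ≠ a₂) : QData A F (LL S h.hS A F) where
  commA := fun x hx y hy => comm_of_mem h.hS h.hA hx hy
  commF := fun x hx y hy => comm_of_mem h.hS h.hF hx hy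
  special := h.special
  normL := fun x hx l hl => h.normLL hx hl
  h4 := by
    intro l hl hAl e he
    have hFu := right_mem_unipotent h.pairAF
    have hFs : SameBlk S (rc F l) F := hl F (h.unip_mem_PP hFu)
    obtain ⟨g', hg'L, hg'A, hg'F⟩ : ∃ g' ∈ LL S h.hS A F,
        (∀ x ∈ A, g' * x = x * g') ∧ rc F g' = rc F l := by
      by_cases hF' : rc F l = F
      · exact ⟨1, one_mem _, fun x _ => by rw [one_mul, mul_one], by rw [rc_one, hF']⟩
      · obtain ⟨g', hg'1, hg'2⟩ := h.swap.P1 (rc_mem_S h.hS h.hF l) hFs hF'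
        have hg'A := hg'1 A h.hA (SameBlk.refl S A)
        exact ⟨g', h.mem_LL_of' hg'A (by rw [hg'2]; exact hFs), hg'A, hg'2⟩
    have hl₀ : l * g'⁻¹ ∈ LL S h.hS A F := mul_mem hl (inv_mem hg'L)
    have hg'invA : ∀ x ∈ A, g'⁻¹ * x = x * g'⁻¹ := fun x hx => comm_inv_left (hg'A x hx)
    have hA₀ : rc A (l * g'⁻¹) = A := by rw [← rc_rc, hAl, rc_of_comm hg'invA]
    have hF₀ : rc F (l * g'⁻¹) = F := by rw [← rc_rc, ← hg'F, rc_rc, mul_inv_cancel, rc_one]
    have key : ∀ a ∈ A, (l * g'⁻¹) * a = a * (l * g'⁻¹) := by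
      intro a ha
      obtain ⟨l₀, hl₀def⟩ : ∃ l₀, l₀ = l * g'⁻¹ := ⟨_, rfl⟩
      rw [← hl₀def] at hl₀ hA₀ hF₀ ⊢
      have ha' : l₀⁻¹ * a * l₀ ∈ A := by
        have := re_mem_rc (g := l₀) ha
        rwa [hA₀] at this
      have hF₀' : rc F l₀⁻¹ = F := (rc_eq_iff.mp hF₀).symm
      have e1 : rc F (l₀⁻¹ * a * l₀) = rc (rc F a) l₀ := by
        have : l₀⁻¹ * a * l₀ = l₀⁻¹ * (a * l₀) := by group
        rw [this, ← rc_rc, ← rc_rc, hF₀']
      have hu : ∀ a ∈ A, rc F a ∈ unipotentSubgroups A F :=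
        fun a ha => rc_mem_unip hFu (Subgroup.mem_sup_left ha)
      have hs : SameBlk S (rc (rc F a) l₀) (rc F a) := hl₀ _ (h.unip_mem_PP (hu a ha))
      rw [← e1] at hs
      have h1 := h.unip_eq_of_sameBlk (hu _ ha') (hu a ha) hs
      have h2 := rc_right_inj h.pairAF ha' ha h1
      calc l₀ * a = l₀ * (l₀⁻¹ * a * l₀) := by rw [h2]
        _ = a * l₀ := by group
    have e2 : l = (l * g'⁻¹) * g' := by group
    rw [e2]
    exact comm_mul_left (key e he) (hg'A e he)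
  h5 := by
    intro l hl
    have hFu := right_mem_unipotent h.pairAF
    have hs : SameBlk S (rc A l) A := hl A (h.unip_mem_PP left_mem_unipotent)
    by_cases hAl : rc A l = A
    · exact ⟨1, one_mem _, by rw [rc_one, hAl]⟩
    · obtain ⟨g, hg1, hg2⟩ := h.P1 (rc_mem_S h.hS h.hA l) hs hAl
      have hgL : g ∈ LL S h.hS A F :=
        h.mem_LL_of (hg1 F h.hF (SameBlk.refl S F)) (by rw [hg2]; exact hs)
      refine ⟨g, ⟨hgL, fun l' hl' e he => ?_⟩, hg2⟩
      exact hg1 _ (rc_mem_S h.hS h.hF l') (hl' F (h.unip_mem_PP hFu)) e he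
  h6 := by
    intro l hl hne'
    have hs : SameBlk S (rc A l) A := hl A (h.unip_mem_PP left_mem_unipotent)
    exact pair_of_sameBlk h.hS h.deg h.hA (rc_mem_S h.hS h.hA l) hs.symm (Ne.symm hne')
  h7 := by
    obtain ⟨g, hg1, hg2⟩ := h.P1 hB hBA hne
    refine ⟨g, h.mem_LL_of (hg1 F h.hF (SameBlk.refl S F)) (by rw [hg2]; exact hBA), ?_⟩
    rw [hg2]; exact hne
  h8 := h8

/-- conclusion: `A` has at most two non-identity elements, inverse to each other -/
theorem concl {B : Subgroup G} (hB : B ∈ S) (hBA : SameBlk S B A) (hne : B ≠ A)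
    {a b : G} (ha : a ∈ A) (hb : b ∈ A) (ha1 : a ≠ 1) (hb1 : b ≠ 1) : a = b ∨ a * b = 1 := by
  by_cases hab : a = b
  · exact Or.inl hab
  · exact Rt5.QData.concl (h.qdata hB hBA hne ⟨a, ha, b, hb, ha1, hb1, hab⟩) ha hb ha1 hb1

end Blk

end Cfsg.Agent.Lib.Helper4.Rt6
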