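import Cfsg.Agent.Lib.Helper4.Rt6
import Cfsg.Agent.S5034
import Cfsg.Agent.S5016

set_option autoImplicit false
set_option linter.unusedVariables false

/-! Every rank one pair in a class of abstract root subgroups with two commuting members is
special (under the hypothesis excluding small root subgroups). -/

namespace Cfsg.Agent.Lib.Helper4.Rt7

open Cfsg Cfsg.Agent.Lib.Helper4.RankOneGrp Cfsg.Agent.Lib.Helper4.RootSub
  Cfsg.Agent.Lib.Helper4.RootSub2 Cfsg.Agent.Lib.Helper4.RootSub3 Cfsg.Agent.Lib.Helper4.Rt1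
  Cfsg.Agent.Lib.Helper4.Rt2 Cfsg.Agent.Lib.Helper4.Rt4 Cfsg.Agent.Lib.Helper4.Rt5
  Cfsg.Agent.Lib.Helper4.Rt6

universe u

section cfg

variable {G : Type*} [Group G]

/-- conjugating a commuting partner by an element centralizing `A` -/
theorem Sg_rc_of_comm {S : Set (Subgroup G)} (hS : IsRootSubgroupSet S) {A D : Subgroup G}
    (hD : Sg S A D) {e : G} (he : ∀ x ∈ A, e * x = x * e) : Sg S A (rc D e) := by
  have h1 : rc A e⁻¹ = A := rc_of_comm (fun x hx => comm_inv_left (he x hx))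
  have h2 : Sg S (rc A e⁻¹) D := by rw [h1]; exact hD
  rw [Sg_rc hS, inv_inv] at h2
  exact h2

theorem exists_config {S : Set (Subgroup G)} (hS : IsRootSubgroupClass S)
    (hd : IsDegenerateRootSet S) {A C₀ : Subgroup G} (hA : A ∈ S) (hC₀ : Sg S A C₀) :
    ∃ F ∈ S, ∃ C, IsRankOnePair A F ∧ Sg S A C ∧ IsRankOnePair C F := by
  by_contra hcon
  push Not at hcon
  have hcomm : ∀ F ∈ S, IsRankOnePair A F → ∀ C, Sg S A C → ∀ x ∈ C, ∀ y ∈ F, x * y = y * x := by
    intro F hF hAF C hC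
    rcases dichotomy hS.1 hd hC.1 hF with hc | hp
    · exact hc
    · exact absurd hp (hcon F hF C hAF hC)
  -- elements of members of `S` preserve the set of commuting partners of `A`
  have hstep : ∀ E ∈ S, ∀ e ∈ E, ∀ D, Sg S A D → Sg S A (rc D e) := by
    intro E hE e he D hD
    rcases dichotomy hS.1 hd hA hE with hc | hp
    · by_cases hEA : E = A
      · rw [hEA] at he
        rw [rc_of_comm (fun y hy => hD.2.2 e he y hy)]
        exact hD
      · exact Sg_rc_of_comm hS.1 hD (fun x hx => (hc x hx e he).symm)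
    · rw [rc_of_comm (fun y hy => (hcomm E hE hp D hD y hy e he).symm)]
      exact hD
  let Stab : Subgroup G :=
    { carrier := {g | ∀ D, Sg S A D → Sg S A (rc D g) ∧ Sg S A (rc D g⁻¹)}
      one_mem' := by
        intro D hD
        rw [inv_one, rc_one]
        exact ⟨hD, hD⟩
      mul_mem' := by
        intro x y hx hy D hD
        constructor
        · rw [← rc_rc]
          exact (hy _ (hx D hD).1).1
        · rw [mul_inv_rev, ← rc_rc]
          exact (hx _ (hy D hD).2).2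
      inv_mem' := by
        intro x hx D hD
        rw [inv_inv]
        exact ⟨(hx D hD).2, (hx D hD).1⟩ }
  have hgen : ∀ E ∈ S, E ≤ Stab := by
    intro E hE e he D hD
    exact ⟨hstep E hE e he D hD, hstep E hE e⁻¹ (inv_mem he) D hD⟩
  have htop : Stab = ⊤ := by
    rw [eq_top_iff, ← hS.1.generates]
    exact iSup₂_le hgen
  obtain ⟨g, hg⟩ := hS.2.2 C₀ hC₀.1 A hA
  have hgS : g⁻¹ ∈ Stab := by rw [htop]; trivial
  have h1 := (hgS C₀ hC₀).1
  rw [← conjBy_eq_rc, ← hg] at h1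
  exact h1.2.1 rfl

end cfg

section sl2

variable {k : Type*} [Field k]

theorem Um_central {t : k} (h : S5016.Um t ∈ Subgroup.center (Matrix.SpecialLinearGroup (Fin 2) k)) :
    t = 0 := by
  rw [Subgroup.mem_center_iff] at h
  have h1 := h (S5016.Lm 1)
  have h2 := congrArg (fun g : Matrix.SpecialLinearGroup (Fin 2) k => g.1 0 0) h1
  simp only [Matrix.SpecialLinearGroup.coe_mul, S5016.Lm_val, S5016.Um_val,
    Matrix.mul_fin_two] at h2
  simpa using h2

end sl2

theorem main {G : Type u} [Group G] {S : Set (Subgroup G)} (hS : Cfsg.IsRootSubgroupClass S)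
    (hcomm : ∃ A ∈ S, ∃ C ∈ S, A ≠ C ∧ ⁅A, C⁆ = ⊥)
    (hH : Cfsg.IsDegenerateRootSet S → (∀ A ∈ S, ∀ a ∈ A, 0 < orderOf a ∧ orderOf a ≤ 3) →
      ∀ A ∈ S, ∀ B ∈ Cfsg.rankOnePartners S A, ∃ A₀ B₀ : Subgroup G, A₀ ≤ A ∧ B₀ ≤ B ∧
        ∃ (k : Type u) (_ : Field k), 3 < ENat.card k ∧ Cfsg.IsPSL2PairOver k A₀ B₀)
    {A B : Subgroup G} (hA : A ∈ S) (hB : B ∈ Cfsg.rankOnePartners S A) :
    Cfsg.IsSpecialRankOnePair A B := by
  by_cases hd : IsDegenerateRootSet S
  swap
  · unfold IsDegenerateRootSet at hd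
    push Not at hd
    obtain ⟨A₁, hA₁, B₁, hB₁, hc⟩ := hd
    exact (Cfsg.Agent.S5034.result hS
      ⟨hcomm, ⟨A, hA, B, hB.1, hB.2⟩, ⟨A₁, hA₁, B₁, hB₁, hc⟩⟩ hA hB).2
  obtain ⟨hBS, hAB⟩ := hB
  have hSet := hS.1
  have cA : ∀ x ∈ A, ∀ y ∈ A, x * y = y * x := fun x hx y hy => comm_of_mem hSet hA hx hy
  have cB : ∀ x ∈ B, ∀ y ∈ B, x * y = y * x := fun x hx y hy => comm_of_mem hSet hBS hx hy
  by_cases h1 : ∃ C, Sg S A C ∧ ¬ (∀ x ∈ C, ∀ y ∈ B, x * y = y * x)
  · obtain ⟨C, hC, hnc⟩ := h1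
    have hCB : IsRankOnePair C B := (dichotomy hSet hd hC.1 hBS).resolve_left hnc
    exact Rt2.special ⟨cA, cB, hAB, hCB, Ne.symm hC.2.1, hC.2.2⟩
  by_cases h2 : ∃ C, Sg S B C ∧ ¬ (∀ x ∈ C, ∀ y ∈ A, x * y = y * x)
  · obtain ⟨C, hC, hnc⟩ := h2
    have hCA : IsRankOnePair C A := (dichotomy hSet hd hC.1 hA).resolve_left hnc
    exact special_symm
      (Rt2.special ⟨cB, cA, RankOnePair_symm hAB, hCA, Ne.symm hC.2.1, hC.2.2⟩)
  push Not at h1 h2
  exfalso
  have hsame : SameBlk S A B := by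
    intro D
    constructor
    · intro hD
      refine ⟨hD.1, ?_, fun x hx y hy => (h1 D hD y hy x hx).symm⟩
      rintro rfl
      exact not_commute_of_pair hAB hD.2.2
    · intro hD
      refine ⟨hD.1, ?_, fun x hx y hy => (h2 D hD y hy x hx).symm⟩
      rintro rfl
      exact not_commute_of_pair (RankOnePair_symm hAB) hD.2.2
  obtain ⟨A₁, hA₁, C₁, hC₁, hne₁, hcom₁⟩ := hcomm
  obtain ⟨g, hg⟩ := hS.2.2 A₁ hA₁ A hA
  have hC₀ : Sg S A (conjBy C₁ g) := by
    rw [hg, conjBy_eq_rc, conjBy_eq_rc, Sg_rc hSet, rc_rc, mul_inv_cancel, rc_one]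
    exact ⟨hC₁, hne₁.symm, commutator_eq_bot_iff'.mp hcom₁⟩
  obtain ⟨F, hF, C, hAF, hC, hCF⟩ := exists_config hS hd hA hC₀
  obtain ⟨x, hx, hx1, hx2⟩ :=
    move_to_AB hAF (right_mem_unipotent hAF) left_mem_unipotent hAF.ne.symm
  have hC' : Sg S F (conjBy C x) := by
    rw [← hx2, conjBy_eq_rc, conjBy_eq_rc, Sg_rc hSet, rc_rc, mul_inv_cancel, rc_one]
    exact hC
  have hC'A : IsRankOnePair (conjBy C x) A := by
    have := rankOnePair_conj hCF x
    rwa [hx1] at this
  have blk : Blk S A F C (conjBy C x) :=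
    ⟨hSet, hd, hA, hF, hC.1, hC'.1, hAF, Ne.symm hC.2.1, hC.2.2, hCF, Ne.symm hC'.2.1, hC'.2.2,
      hC'A⟩
  have hall : ∀ A' ∈ S, ∀ a ∈ A', ∀ b ∈ A', a ≠ 1 → b ≠ 1 → a = b ∨ a * b = 1 := by
    intro A' hA' a ha b hb ha1 hb1
    obtain ⟨g, hg⟩ := hS.2.2 A hA A' hA'
    rw [hg, mem_conjBy] at ha hb
    have ha1' : g⁻¹ * a * g ≠ 1 := by
      intro e
      apply ha1
      have : a = g * (g⁻¹ * a * g) * g⁻¹ := by group
      rw [this, e]; group
    have hb1' : g⁻¹ * b * g ≠ 1 := by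
      intro e
      apply hb1
      have : b = g * (g⁻¹ * b * g) * g⁻¹ := by group
      rw [this, e]; group
    rcases blk.concl hBS hsame.symm hAB.ne.symm ha hb ha1' hb1' with e | e
    · left
      have : a = g * (g⁻¹ * a * g) * g⁻¹ := by group
      rw [this, e]; group
    · right
      have : a * b = g * ((g⁻¹ * a * g) * (g⁻¹ * b * g)) * g⁻¹ := by group
      rw [this, e]; group
  have horder : ∀ A' ∈ S, ∀ a ∈ A', 0 < orderOf a ∧ orderOf a ≤ 3 := by
    intro A' hA' a ha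
    have h3 : a ^ 2 = 1 ∨ a ^ 3 = 1 := by
      by_cases ha1 : a = 1
      · left; rw [ha1, one_pow]
      by_cases ha2 : a * a = 1
      · left; rw [pow_two, ha2]
      right
      rcases hall A' hA' a ha (a * a) (mul_mem ha ha) ha1 ha2 with e | e
      · exfalso
        apply ha1
        have : a * 1 = a * a := by rw [mul_one]; exact e
        exact (mul_left_cancel this).symm
      · rw [pow_succ, pow_two, mul_assoc]; exact e
    rcases h3 with e | e
    · have hdv := orderOf_dvd_of_pow_eq_one e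
      exact ⟨Nat.pos_of_dvd_of_pos hdv (by norm_num),
        (Nat.le_of_dvd (by norm_num) hdv).trans (by norm_num)⟩
    · have hdv := orderOf_dvd_of_pow_eq_one e
      exact ⟨Nat.pos_of_dvd_of_pos hdv (by norm_num), Nat.le_of_dvd (by norm_num) hdv⟩
  obtain ⟨A₀, B₀, hA₀, hB₀, k, fk, hcard, φ, hrange, hker, hup, hlow⟩ :=
    hH hd horder A hA B ⟨hBS, hAB⟩
  have hk : ∀ s : k, s = 0 ∨ s = 1 ∨ s = -1 := by
    intro s
    by_contra hcon
    push Not at hcon
    obtain ⟨hs0, hs1, hs2⟩ := hcon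
    have hmem : ∀ t : k, φ (S5016.Um t) ∈ A := fun t =>
      hA₀ (by rw [← hup]; exact Subgroup.mem_map_of_mem _ (S5016.mem_upper.mpr ⟨t, rfl⟩))
    have hne1 : ∀ t : k, t ≠ 0 → φ (S5016.Um t) ≠ 1 := by
      intro t ht h1
      exact ht (Um_central (hker (MonoidHom.mem_ker.mpr h1)))
    rcases hall A hA _ (hmem 1) _ (hmem s) (hne1 1 one_ne_zero) (hne1 s hs0) with e | e
    · have h3 : φ (S5016.Um (s - 1)) = 1 := by
        have : S5016.Um (s - 1) = S5016.Um s * (S5016.Um 1)⁻¹ := by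
          rw [S5016.Um_inv, S5016.Um_mul, sub_eq_add_neg]
        rw [this, map_mul, map_inv, ← e, mul_inv_cancel]
      exact hs1 (sub_eq_zero.mp (by_contra fun h => hne1 _ h h3))
    · have h3 : φ (S5016.Um (1 + s)) = 1 := by rw [← S5016.Um_mul, map_mul, e]
      have h0 : 1 + s = 0 := by_contra fun h => hne1 _ h h3
      exact hs2 (eq_neg_of_add_eq_zero_right h0)
  have hle : ENat.card k ≤ 3 := by
    classical
    have huniv : (Set.univ : Set k) ⊆ (({0, 1, -1} : Finset k) : Set k) := by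
      intro s _
      rcases hk s with h | h | h <;> simp [h]
    calc ENat.card k = (Set.univ : Set k).encard := (Set.encard_univ k).symm
      _ ≤ (({0, 1, -1} : Finset k) : Set k).encard := Set.encard_le_encard huniv
      _ = (({0, 1, -1} : Finset k).card : ℕ∞) := Set.encard_coe_eq_coe_finsetCard _
      _ ≤ 3 := by exact_mod_cast Finset.card_le_three
  exact absurd hcard (not_lt.mpr hle)

end Cfsg.Agent.Lib.Helper4.Rt7
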