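import Mathlib
import Cfsg.Agent.Lib.Helper6.RvDefs
import Cfsg.Agent.Lib.Helper6.Auto
import Cfsg.Agent.Lib.Helper8.McK1
import Cfsg.Agent.S0867

/-! S4959 piece C3 (helper6 farm): the canonical extension of the Heisenberg character to
`Heis D ⋊ H` (an application of S0867). -/

set_option autoImplicit false
set_option linter.unusedVariables false
set_option linter.unusedSectionVars false
set_option linter.style.longLine false
set_option linter.style.haveILetI false

namespace Cfsg.Agent.Lib.Helper6.Rv

open scoped ComplexConjugate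
open Cfsg.Agent.Lib.Helper6

universe u v

section Symp

variable {p : ℕ} [Fact p.Prime] {H : Type u} [Group H] [Finite H] {M : Type v} [AddCommGroup M]
  [Module (ZMod p) M] [Finite M]

/-- the Heisenberg character is invariant under `H` -/
theorem h4_heisIrr_act (D : SympData p H M) {Φ : Heis D → ℂ} {c : ℂ} {n : ℕ}
    (hΦ : HeisIrr D Φ c n) (h : H) (b : Heis D) : Φ (Heis.act D h b) = Φ b := by
  by_cases hb : b.x = 0
  · have h1 : Heis.act D h b = b := by
      ext
      · rw [Heis.act_x, hb, map_zero]
      · rfl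
    rw [h1]
  · have h2 : (Heis.act D h b).x ≠ 0 := by
      rw [Heis.act_x]
      intro h0
      apply hb
      have h3 : D.ρ h⁻¹ (D.ρ h b.x) = b.x := by
        rw [← Module.End.mul_apply, ← map_mul, inv_mul_cancel, map_one]
        rfl
      rw [← h3, h0, map_zero]
    rw [hΦ.off _ h2, hΦ.off _ hb]

/-- a natural number whose square is a power of `p` is prime to every number prime to `p` -/
theorem h4_coprime_of_sq_eq_pow {n k m : ℕ} (hp : p.Prime) (hn : n ^ 2 = p ^ k) (hm : ¬ p ∣ m) :
    Nat.Coprime m n := by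
  apply Nat.Coprime.symm
  apply Nat.Coprime.coprime_dvd_left (dvd_pow_self n (by norm_num : 2 ≠ 0))
  rw [hn]
  apply Nat.Coprime.pow_left
  exact (Nat.Prime.coprime_iff_not_dvd hp).2 hm

/-- C3: the canonical extension (S0867) -/
theorem exists_canonExt (hcop : ¬ p ∣ Nat.card H) (D : SympData p H M) {Φ : Heis D → ℂ} {c : ℂ}
    {n : ℕ} (hΦ : HeisIrr D Φ c n) : ∃ Ψ : Gam D → ℂ, CanonExt D Φ Ψ := by
  classical
  have hp : p.Prime := Fact.out
  haveI : NeZero p := ⟨hp.ne_zero⟩
  haveI : Finite (Heis D) := inferInstance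
  haveI : Finite (Gam D) := Finite.of_equiv _ (SemidirectProduct.equivProd (N := Heis D) (G := H)
    (φ := Heis.act D)).symm
  -- the normal subgroup
  let N : Subgroup (Gam D) := (SemidirectProduct.rightHom : Gam D →* H).ker
  haveI hN : N.Normal := MonoidHom.normal_ker _
  have hmemN : ∀ g : Gam D, g ∈ N ↔ g.right = 1 := fun g => MonoidHom.mem_ker
  have hinlN : ∀ a : Heis D, (SemidirectProduct.inl a : Gam D) ∈ N := fun a => by
    rw [hmemN]; rfl
  have hNeq : ∀ g : Gam D, g ∈ N → g = SemidirectProduct.inl g.left := by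
    intro g hg
    rw [hmemN] at hg
    refine SemidirectProduct.ext rfl ?_
    rw [SemidirectProduct.right_inl, hg]
  let e : Heis D ≃* N :=
    { toFun := fun a => ⟨SemidirectProduct.inl a, hinlN a⟩
      invFun := fun m => m.1.left
      left_inv := fun a => rfl
      right_inv := fun m => Subtype.ext (hNeq m.1 m.2).symm
      map_mul' := fun a b => Subtype.ext (map_mul _ a b) }
  let ϑ : N → ℂ := fun m => Φ (e.symm m)
  have hϑ : Cfsg.IsIrrCharacter N ϑ := IsIrrCharacter.comp_mulEquiv e.symm hΦ.irr
  have hϑapp : ∀ m : N, ϑ m = Φ m.1.left := fun m => rfl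
  have hcf := IsIrrCharacter.isClassFunction hΦ.irr
  -- invariance
  have hinv : ∀ (g : Gam D) (m : N), ϑ ⟨g * m * g⁻¹, hN.conj_mem (m : Gam D) m.2 g⟩ = ϑ m := by
    intro g m
    rw [hϑapp, hϑapp]
    have h1 : (g * (m : Gam D) * g⁻¹).left =
        g.left * Heis.act D g.right m.1.left * g.left⁻¹ := by
      have hg : SemidirectProduct.inl g.left * SemidirectProduct.inr g.right = g :=
        SemidirectProduct.inl_left_mul_inr_right g
      have hm : (m : Gam D) = SemidirectProduct.inl m.1.left := hNeq m.1 m.2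
      have h2 : g * (m : Gam D) * g⁻¹ =
          SemidirectProduct.inl (g.left * Heis.act D g.right m.1.left * g.left⁻¹) := by
        calc g * (m : Gam D) * g⁻¹
            = (SemidirectProduct.inl g.left * SemidirectProduct.inr g.right) *
                SemidirectProduct.inl m.1.left *
                (SemidirectProduct.inl g.left * SemidirectProduct.inr g.right)⁻¹ := by
              rw [hg, ← hm]
          _ = SemidirectProduct.inl g.left *
                (SemidirectProduct.inr g.right * SemidirectProduct.inl m.1.left *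
                  SemidirectProduct.inr g.right⁻¹) * (SemidirectProduct.inl g.left)⁻¹ := by
              rw [map_inv]
              group
          _ = SemidirectProduct.inl g.left * SemidirectProduct.inl (Heis.act D g.right m.1.left) *
                (SemidirectProduct.inl g.left)⁻¹ := by
              rw [← SemidirectProduct.inl_aut]
          _ = SemidirectProduct.inl (g.left * Heis.act D g.right m.1.left * g.left⁻¹) := by
              rw [map_mul, map_mul, map_inv]
      rw [h2]
      rfl
    show Φ ((g * (m : Gam D) * g⁻¹).left) = Φ m.1.left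
    rw [h1, hcf, h4_heisIrr_act D hΦ]
  -- degree and determinantal order
  have hdeg : ϑ 1 = n := by
    rw [hϑapp]
    have h1 : ((1 : N) : Gam D).left = (⟨0, 0⟩ : Heis D) := rfl
    rw [h1, hΦ.cen 0]
    simp
  have hidx : N.index = Nat.card H := by
    rw [Subgroup.index_ker]
    have : (SemidirectProduct.rightHom : Gam D →* H).range = ⊤ :=
      MonoidHom.range_eq_top.2 SemidirectProduct.rightHom_surjective
    rw [this, Subgroup.card_top]
  obtain ⟨kM, hkM⟩ : ∃ k : ℕ, Nat.card M = p ^ k := by
    haveI : Fintype M := Fintype.ofFinite M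
    haveI : Module.Finite (ZMod p) M := Module.Finite.of_finite
    refine ⟨Module.finrank (ZMod p) M, ?_⟩
    rw [Nat.card_eq_fintype_card, Module.card_eq_pow_finrank (K := ZMod p) (V := M), ZMod.card]
  have hcardN : Nat.card N = p ^ (kM + 1) := by
    rw [← Nat.card_congr e.toEquiv, Nat.card_congr (Heis.equivProd D), Nat.card_prod, hkM,
      Nat.card_zmod, pow_succ]
  have hdetdvd : ∀ ψ : N → ℂ, Cfsg.IsCharacter N ψ → Nat.Coprime (Nat.card H) (Cfsg.detOrder ψ) := by
    intro ψ hψ
    have h1 := Cfsg.Agent.Lib.Helper8.McK.detOrder_dvd_card hψ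
    rw [hcardN] at h1
    apply Nat.Coprime.coprime_dvd_right h1
    apply Nat.Coprime.pow_right
    exact ((Nat.Prime.coprime_iff_not_dvd hp).2 hcop).symm
  have hcopn : Nat.Coprime (Nat.card H) n :=
    h4_coprime_of_sq_eq_pow hp (hΦ.deg.trans hkM) hcop
  have hcop' : Nat.Coprime N.index (Cfsg.detOrder ϑ * n) := by
    rw [hidx]
    exact Nat.Coprime.mul_right (hdetdvd ϑ (IsIrrCharacter.isCharacter hϑ)) hcopn
  obtain ⟨χ, ⟨hχ, hχN, hχdet⟩, hχuniq⟩ := Cfsg.Agent.S0867.result' N ϑ hϑ hinv n hdeg hcop'
  refine ⟨χ, ⟨hχ, ?_, ?_, ?_⟩⟩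
  · intro a
    exact hχN ⟨SemidirectProduct.inl a, hinlN a⟩
  · rw [hχdet]
    exact (hdetdvd ϑ (IsIrrCharacter.isCharacter hϑ)).symm
  · intro Ψ' hΨ' hext hcopΨ
    refine hχuniq Ψ' hΨ' ?_ ?_
    · intro m
      have hm : (m : Gam D) = SemidirectProduct.inl m.1.left := hNeq m.1 m.2
      rw [hm, hext]
      exact (hϑapp m).symm
    · rw [hidx]
      exact hcopΨ.symm

end Symp

end Cfsg.Agent.Lib.Helper6.Rv
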