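import Mathlib
import Cfsg.Agent.Lib.Helper6.RvDefs
import Cfsg.Agent.Lib.Helper6.GalFix1

/-! S4959 piece G4 (helper6 farm): the determinant of a Galois conjugate (power map form).
This is `Cfsg.Agent.Lib.Helper6.GalFix.detChar_comp_pow`. -/

set_option autoImplicit false

namespace Cfsg.Agent.Lib.Helper6.Rv

universe u v

/-- G4: the determinant of a Galois conjugate (power map form) -/
theorem detChar_comp_pow {G : Type u} [Group G] [Finite G] {χ : G → ℂ}
    (hχ : Cfsg.IsIrrCharacter G χ) {k : ℕ} (hk : Nat.Coprime k (Nat.card G)) :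
    Cfsg.detChar (fun g => χ (g ^ k)) = fun g => Cfsg.detChar χ (g ^ k) :=
  Cfsg.Agent.Lib.Helper6.GalFix.detChar_comp_pow hχ hk

end Cfsg.Agent.Lib.Helper6.Rv
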