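import Mathlib
import Cfsg.Agent.Lib.Helper6.RvDefs
import Cfsg.Agent.Lib.Helper6.GaloisRat
import Cfsg.Agent.Lib.Helper6.GaloisConj
import Cfsg.Agent.Lib.Helper3.DetChar
import Cfsg.Agent.Lib.Helper4.RvDetPow

/-! S4959 piece C6 (helper6 farm): the canonical extension is integer valued on `H`. -/

set_option autoImplicit false
set_option linter.unusedVariables false
set_option linter.unusedSectionVars false
set_option linter.style.longLine false
set_option linter.style.haveILetI false

namespace Cfsg.Agent.Lib.Helper6.Rv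

open scoped ComplexConjugate
open Cfsg.Agent.Lib.Helper6 Cfsg.Agent.Lib.Helper3.DetChar

universe u v

section Symp

variable {p : ℕ} [Fact p.Prime] {H : Type u} [Group H] [Finite H] {M : Type v} [AddCommGroup M]
  [Module (ZMod p) M] [Finite M]

/-- powers in the Heisenberg group -/
theorem h4_heis_pow (D : SympData p H M) (a : Heis D) (j : ℕ) :
    (a ^ j).x = j • a.x ∧ (a ^ j).s = j * a.s := by
  induction j with
  | zero => simp
  | succ j ih =>
    rw [pow_succ]
    constructor
    · rw [Heis.mul_x, ih.1, succ_nsmul]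
    · rw [Heis.mul_s, ih.1, ih.2, map_nsmul, LinearMap.smul_apply, D.alt]
      push_cast
      simp
      ring

/-- the Heisenberg group has exponent `p` -/
theorem h4_heis_pow_p (D : SympData p H M) (a : Heis D) : a ^ p = 1 := by
  obtain ⟨h1, h2⟩ := h4_heis_pow D a p
  ext
  · rw [h1, Heis.one_x, ← Nat.cast_smul_eq_nsmul (ZMod p), ZMod.natCast_self, zero_smul]
  · rw [h2, Heis.one_s, ZMod.natCast_self, zero_mul]

/-- C6: the canonical extension is integer valued on `H` -/
theorem CanonExt.int_valued (hp2 : p ≠ 2) (hcop : ¬ p ∣ Nat.card H) (D : SympData p H M)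
    {Φ : Heis D → ℂ} {c : ℂ} {n : ℕ} (hΦ : HeisIrr D Φ c n) {Ψ : Gam D → ℂ}
    (hΨ : CanonExt D Φ Ψ) (h : H) : ∃ z : ℤ, Ψ (SemidirectProduct.inr h) = z := by
  classical
  have hp : p.Prime := Fact.out
  haveI : NeZero p := ⟨hp.ne_zero⟩
  haveI : Finite (Heis D) := inferInstance
  haveI : Finite (Gam D) := Finite.of_equiv _ (SemidirectProduct.equivProd (N := Heis D) (G := H)
    (φ := Heis.act D)).symm
  haveI : Fintype (Gam D) := Fintype.ofFinite _
  have hΨc := IsIrrCharacter.isCharacter hΨ.irr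
  -- the order of the big group
  obtain ⟨kM, hkM⟩ : ∃ k : ℕ, Nat.card M = p ^ k := by
    haveI : Fintype M := Fintype.ofFinite M
    haveI : Module.Finite (ZMod p) M := Module.Finite.of_finite
    refine ⟨Module.finrank (ZMod p) M, ?_⟩
    rw [Nat.card_eq_fintype_card, Module.card_eq_pow_finrank (K := ZMod p) (V := M), ZMod.card]
  have hcardG : Nat.card (Gam D) = p ^ (kM + 1) * Nat.card H := by
    rw [Nat.card_congr (SemidirectProduct.equivProd (N := Heis D) (G := H) (φ := Heis.act D)),
      Nat.card_prod, Nat.card_congr (Heis.equivProd D), Nat.card_prod, hkM, Nat.card_zmod, pow_succ]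
  set x : Gam D := SemidirectProduct.inr h with hx
  have hNH : 0 < Nat.card H := Nat.card_pos
  haveI : NeZero (Nat.card H) := ⟨hNH.ne'⟩
  have hxn : x ^ Nat.card H = 1 := by
    rw [hx, ← map_pow, pow_card_eq_one', map_one]
  -- invariance under the power maps prime to `|H|`
  have hkey : ∀ k0 : ℕ, k0.Coprime (Nat.card H) → Ψ (x ^ k0) = Ψ x := by
    intro k0 hk0
    have hcopHp : (Nat.card H).Coprime p := ((Nat.Prime.coprime_iff_not_dvd hp).2 hcop).symm
    obtain ⟨k, hkH, hkp⟩ := Nat.chineseRemainder hcopHp k0 1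
    have hkcopp : k.Coprime p := by
      have h1 : Nat.gcd k p = Nat.gcd 1 p := hkp.gcd_eq
      rw [Nat.gcd_one_left] at h1
      exact h1
    have hkcopH : k.Coprime (Nat.card H) := by
      have h1 : Nat.gcd k (Nat.card H) = Nat.gcd k0 (Nat.card H) := hkH.gcd_eq
      rw [Nat.Coprime, h1]
      exact hk0
    have hkG : k.Coprime (Nat.card (Gam D)) := by
      rw [hcardG]
      exact Nat.Coprime.mul_right (Nat.Coprime.pow_right _ hkcopp) hkcopH
    -- the conjugate character
    have hirr : Cfsg.IsIrrCharacter (Gam D) (fun g => Ψ (g ^ k)) :=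
      IsIrrCharacter.comp_pow hΨ.irr hkG
    have hext : ∀ a : Heis D, (fun g => Ψ (g ^ k)) (SemidirectProduct.inl a) = Φ a := by
      intro a
      show Ψ ((SemidirectProduct.inl a : Gam D) ^ k) = Φ a
      rw [← map_pow, hΨ.ext]
      congr 1
      -- `a ^ k = a`
      have h1 : k % p = 1 % p := hkp
      have h2 : a ^ k = a ^ (k % p) := by
        conv_lhs => rw [← Nat.div_add_mod k p, pow_add, pow_mul, h4_heis_pow_p, one_pow, one_mul]
      rw [h2, h1, Nat.mod_eq_of_lt hp.one_lt, pow_one]
    have hdet : Nat.Coprime (Cfsg.detOrder (fun g => Ψ (g ^ k))) (Nat.card H) := by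
      have h1 : Cfsg.detChar (fun g => Ψ (g ^ k)) = (Cfsg.detChar Ψ) ^ k := by
        rw [detChar_comp_pow hΨ.irr hkG]
        funext g
        rw [Pi.pow_apply]
        clear hkH hkp hkcopp hkcopH hkG hirr hext
        induction k with
        | zero => rw [pow_zero, pow_zero, detChar_apply_one hΨc]
        | succ k ih => rw [pow_succ, pow_succ, detChar_mul_apply hΨc, ih]
      apply Nat.Coprime.coprime_dvd_left _ hΨ.det
      unfold Cfsg.detOrder
      rw [h1]
      exact orderOf_pow_dvd k
    have heq := hΨ.uniq _ hirr hext hdet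
    have h3 : Ψ (x ^ k) = Ψ x := congrFun heq x
    have h4 : x ^ k = x ^ k0 := by
      rw [pow_eq_pow_iff_modEq]
      exact hkH.of_dvd (orderOf_dvd_of_pow_eq_one hxn)
    rw [← h4, h3]
  -- conclusion
  obtain ⟨m, μ, hμ, hμk⟩ := IsCharacter.exists_eigen_pow hΨc x (Nat.card H) hNH hxn
  have hinv : ∀ k : (ZMod (Nat.card H))ˣ, ∑ i, μ i ^ (k : ZMod (Nat.card H)).val = ∑ i, μ i := by
    intro k
    have hcopk : ((k : ZMod (Nat.card H)).val).Coprime (Nat.card H) := ZMod.val_coe_unit_coprime k
    have h1 := hkey _ hcopk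
    rw [hμk] at h1
    have h2 := hμk 1
    rw [pow_one] at h2
    rw [h1, h2]
    simp
  obtain ⟨z, hz⟩ := exists_int_of_pow_invariant (Nat.card H) μ hμ hinv
  refine ⟨z, ?_⟩
  have h2 := hμk 1
  rw [pow_one] at h2
  rw [h2, ← hz]
  simp

end Symp

end Cfsg.Agent.Lib.Helper6.Rv
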