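import Mathlib

set_option autoImplicit false
set_option linter.unusedVariables false
set_option linter.unusedSectionVars false
set_option linter.style.longLine false
set_option maxHeartbeats 1000000

/-! # S1932 farm (owner helper5), unit B (BRIDGE), part 1: the abstract form
`W` a finite elementary abelian 2-group, `c : G →* MulAut W`, `A`, `B` subgroups of `G` acting quadratically. -/

namespace Cfsg.Agent.Lib.Helper4.S1932B

universe u v

/-- the statement of unit C (`core`) for modules in a fixed universe -/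
def CoreStmt : Prop :=
  ∀ {V : Type v} [AddCommGroup V] [Finite V] (h2 : ∀ v : V, v + v = 0)
    (𝔄 𝔅 : AddSubgroup (AddMonoid.End V))
    (hqA : ∀ α ∈ 𝔄, ∀ α' ∈ 𝔄, α * α' = 0) (hqB : ∀ β ∈ 𝔅, ∀ β' ∈ 𝔅, β * β' = 0)
    (hA0 : 𝔄 ≠ ⊥) (hB0 : 𝔅 ≠ ⊥)
    (hodd : ∀ α ∈ 𝔄, ∀ β ∈ 𝔅, α ≠ 0 → β ≠ 0 →
      α ≠ β ∧ ∃ n : ℕ, Odd n ∧ ((1 + α) * (1 + β)) ^ n = 1)
    (hoff : Nat.card V ≤ Nat.card 𝔄 * Nat.card {v : V // ∀ α ∈ 𝔄, α v = 0}),
    ∃ α ∈ 𝔄, ∃ β ∈ 𝔅, α ≠ 0 ∧ β ≠ 0 ∧ ∀ n : ℕ, ((1 + α) * (1 + β)) ^ n = 1 → 3 ∣ n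

variable {W : Type v} [CommGroup W]

/-- automorphisms as additive endomorphisms -/
def toEnd : MulAut W →* AddMonoid.End (Additive W) where
  toFun φ := MonoidHom.toAdditive φ.toMonoidHom
  map_one' := rfl
  map_mul' φ ψ := rfl

theorem toEnd_apply (φ : MulAut W) (w : Additive W) : toEnd φ w = Additive.ofMul (φ w.toMul) := rfl

theorem toEnd_injective : Function.Injective (toEnd (W := W)) := by
  intro φ ψ h
  apply MulEquiv.ext
  intro w
  have := congrArg (fun f : AddMonoid.End (Additive W) => (f (Additive.ofMul w)).toMul) h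
  exact this

theorem toEnd_eq_one_iff (φ : MulAut W) : toEnd φ = 1 ↔ φ = 1 := by
  constructor
  · intro h
    apply toEnd_injective
    rw [h, map_one]
  · intro h; rw [h, map_one]

variable {G : Type u} [Group G]

theorem sub_one_apply (φ : MulAut W) (w : Additive W) :
    (toEnd φ - 1) w = toEnd φ w - w := rfl

theorem toEnd_comm_apply (φ : MulAut W) (w : Additive W) :
    toEnd φ w - w = Additive.ofMul (φ w.toMul * w.toMul⁻¹) := by
  rw [← div_eq_mul_inv]; rfl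

theorem add_self_End (hW2 : ∀ w : W, w * w = 1) (β : AddMonoid.End (Additive W)) : β + β = 0 := by
  apply AddMonoidHom.ext
  intro w
  show β w + β w = 0
  have : ∀ x : Additive W, x + x = 0 := fun x => congrArg Additive.ofMul (hW2 x.toMul)
  exact this _

/-- quadratic action, elementwise in additive notation -/
theorem quad_apply {c : G →* MulAut W} {A : Subgroup G}
    (hAq : ∀ a ∈ A, ∀ a' ∈ A, ∀ w : W, c a (c a' w * w⁻¹) = c a' w * w⁻¹)
    {a a' : G} (ha : a ∈ A) (ha' : a' ∈ A) (w : Additive W) :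
    toEnd (c a) (toEnd (c a') w - w) = toEnd (c a') w - w := by
  rw [toEnd_comm_apply, toEnd_apply]
  exact congrArg Additive.ofMul (hAq a ha a' ha' w.toMul)

/-- the family `{c a - 1 | a ∈ A}` -/
def fam (hW2 : ∀ w : W, w * w = 1) (c : G →* MulAut W) (A : Subgroup G)
    (hAq : ∀ a ∈ A, ∀ a' ∈ A, ∀ w : W, c a (c a' w * w⁻¹) = c a' w * w⁻¹) :
    AddSubgroup (AddMonoid.End (Additive W)) where
  carrier := {α | ∃ a ∈ A, α = toEnd (c a) - 1}
  zero_mem' := ⟨1, A.one_mem, by rw [map_one, map_one, sub_self]⟩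
  add_mem' := by
    rintro α α' ⟨a, ha, rfl⟩ ⟨a', ha', rfl⟩
    refine ⟨a * a', A.mul_mem ha ha', ?_⟩
    apply AddMonoidHom.ext
    intro w
    rw [map_mul, map_mul]
    show toEnd (c a) w - w + (toEnd (c a') w - w) = toEnd (c a) (toEnd (c a') w) - w
    have h1 := quad_apply hAq ha ha' w
    rw [map_sub] at h1
    have h2 : toEnd (c a) (toEnd (c a') w) = toEnd (c a') w - w + toEnd (c a) w := by
      rw [← h1]; abel
    rw [h2]; abel
  neg_mem' := by
    rintro α ⟨a, ha, rfl⟩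
    exact ⟨a, ha, neg_eq_of_add_eq_zero_left (add_self_End hW2 _)⟩

theorem mem_fam {hW2 : ∀ w : W, w * w = 1} {c : G →* MulAut W} {A : Subgroup G}
    {hAq : ∀ a ∈ A, ∀ a' ∈ A, ∀ w : W, c a (c a' w * w⁻¹) = c a' w * w⁻¹}
    {α : AddMonoid.End (Additive W)} : α ∈ fam hW2 c A hAq ↔ ∃ a ∈ A, α = toEnd (c a) - 1 := Iff.rfl

end Cfsg.Agent.Lib.Helper4.S1932B
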