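import Mathlib
import Cfsg.Agent.Lib.Helper4.S1932B1

set_option autoImplicit false
set_option linter.unusedVariables false
set_option linter.unusedSectionVars false
set_option linter.style.longLine false
set_option maxHeartbeats 1000000

/-! # S1932 farm (owner helper5), unit B (BRIDGE), part 2: the abstract bridge from `core` -/

namespace Cfsg.Agent.Lib.Helper4.S1932B

universe u v

variable {W : Type v} [CommGroup W] {G : Type u} [Group G]

theorem sub_one_eq_zero_iff (φ : MulAut W) : toEnd φ - 1 = 0 ↔ φ = 1 := by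
  rw [sub_eq_zero]; exact toEnd_eq_one_iff φ

theorem one_add_sub_one (φ : MulAut W) : 1 + (toEnd φ - 1) = toEnd φ := by abel

theorem bridge_abstract [Finite G] [Finite W] (hcore : CoreStmt.{v})
    (hW2 : ∀ w : W, w * w = 1) (c : G →* MulAut W) (A B : Subgroup G)
    (hAq : ∀ a ∈ A, ∀ a' ∈ A, ∀ w : W, c a (c a' w * w⁻¹) = c a' w * w⁻¹)
    (hBq : ∀ b ∈ B, ∀ b' ∈ B, ∀ w : W, c b (c b' w * w⁻¹) = c b' w * w⁻¹)
    (hAU : ∃ a ∈ A, c a ≠ 1) (hBU : ∃ b ∈ B, c b ≠ 1)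
    (hodd : ∀ a ∈ A, ∀ b ∈ B, c a ≠ 1 → c b ≠ 1 →
      c (a * b⁻¹) ≠ 1 ∧ ∃ n : ℕ, Odd n ∧ c ((a * b) ^ n) = 1)
    (hoff : Nat.card W * Nat.card ↥(A ⊓ c.ker) ≤
      Nat.card A * Nat.card {w : W // ∀ a ∈ A, c a w = w}) :
    ∃ a ∈ A, ∃ b ∈ B, c a ≠ 1 ∧ c b ≠ 1 ∧ ∀ n : ℕ, c ((a * b) ^ n) = 1 → 3 ∣ n := by
  classical
  have h2 : ∀ v : Additive W, v + v = 0 := fun x => congrArg Additive.ofMul (hW2 x.toMul)
  have hquad : ∀ (A : Subgroup G)
      (hAq : ∀ a ∈ A, ∀ a' ∈ A, ∀ w : W, c a (c a' w * w⁻¹) = c a' w * w⁻¹),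
      ∀ α ∈ fam hW2 c A hAq, ∀ α' ∈ fam hW2 c A hAq, α * α' = 0 := by
    rintro A hAq α ⟨a, ha, rfl⟩ α' ⟨a', ha', rfl⟩
    apply AddMonoidHom.ext
    intro w
    show toEnd (c a) (toEnd (c a') w - w) - (toEnd (c a') w - w) = 0
    rw [quad_apply hAq ha ha' w, sub_self]
  have hne : ∀ (A : Subgroup G)
      (hAq : ∀ a ∈ A, ∀ a' ∈ A, ∀ w : W, c a (c a' w * w⁻¹) = c a' w * w⁻¹),
      (∃ a ∈ A, c a ≠ 1) → fam hW2 c A hAq ≠ ⊥ := by
    rintro A hAq ⟨a, ha, hca⟩ hbot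
    have hmem : toEnd (c a) - 1 ∈ fam hW2 c A hAq := ⟨a, ha, rfl⟩
    rw [hbot, AddSubgroup.mem_bot, sub_one_eq_zero_iff] at hmem
    exact hca hmem
  have hpow : ∀ (a b : G) (n : ℕ),
      ((1 + (toEnd (c a) - 1)) * (1 + (toEnd (c b) - 1))) ^ n = toEnd (c ((a * b) ^ n)) := by
    intro a b n
    rw [one_add_sub_one, one_add_sub_one, ← map_mul, ← map_mul, ← map_pow, ← map_pow]
  -- the hypotheses of `core`
  have hodd' : ∀ α ∈ fam hW2 c A hAq, ∀ β ∈ fam hW2 c B hBq, α ≠ 0 → β ≠ 0 →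
      α ≠ β ∧ ∃ n : ℕ, Odd n ∧ ((1 + α) * (1 + β)) ^ n = 1 := by
    rintro α ⟨a, ha, rfl⟩ β ⟨b, hb, rfl⟩ hα hβ
    have hca : c a ≠ 1 := fun h => hα ((sub_one_eq_zero_iff _).mpr h)
    have hcb : c b ≠ 1 := fun h => hβ ((sub_one_eq_zero_iff _).mpr h)
    obtain ⟨h1, n, hn, hn1⟩ := hodd a ha b hb hca hcb
    refine ⟨?_, n, hn, ?_⟩
    · intro heq
      apply h1
      have h3 : toEnd (c a) = toEnd (c b) := sub_left_injective heq
      have h4 : c a = c b := toEnd_injective h3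
      rw [map_mul, map_inv, h4, mul_inv_cancel]
    · rw [hpow, hn1, map_one]
  -- cardinalities
  have hcardW : Nat.card (Additive W) = Nat.card W := rfl
  have hfix : Nat.card {v : Additive W // ∀ α ∈ fam hW2 c A hAq, α v = 0} =
      Nat.card {w : W // ∀ a ∈ A, c a w = w} := by
    apply Nat.card_congr
    refine Equiv.subtypeEquiv Additive.toMul ?_
    intro v
    constructor
    · intro h a ha
      have h1 := h _ ⟨a, ha, rfl⟩
      have h3 : toEnd (c a) v - v = 0 := h1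
      have h4 : toEnd (c a) v = v := sub_eq_zero.mp h3
      exact congrArg Additive.toMul h4
    · rintro h α ⟨a, ha, rfl⟩
      show toEnd (c a) v - v = 0
      rw [sub_eq_zero]
      exact congrArg Additive.ofMul (h a ha)
  have hcardA : Nat.card A = Nat.card (fam hW2 c A hAq) * Nat.card ↥(A ⊓ c.ker) := by
    let ψ : ↥A →* MulAut W := c.comp A.subtype
    have h1 := Subgroup.card_eq_card_quotient_mul_card_subgroup ψ.ker
    have h3 : Nat.card (↥A ⧸ ψ.ker) = Nat.card ψ.range :=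
      Nat.card_congr (QuotientGroup.quotientKerEquivRange ψ).toEquiv
    have h4 : Nat.card ψ.ker = Nat.card ↥(A ⊓ c.ker) := by
      have h5 : ψ.ker = (A ⊓ c.ker).subgroupOf A := by
        rw [Subgroup.inf_subgroupOf_left]
        exact (MonoidHom.comap_ker c A.subtype).symm
      rw [h5]
      exact Nat.card_congr (Subgroup.subgroupOfEquivOfLe inf_le_left).toEquiv
    have h6 : Nat.card ψ.range = Nat.card (fam hW2 c A hAq) := by
      apply Nat.card_congr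
      let f : ↥ψ.range → ↥(fam hW2 c A hAq) := fun φ => ⟨toEnd φ.1 - 1, by
        obtain ⟨a, ha⟩ := φ.2
        exact ⟨a.1, a.2, by rw [← ha]; rfl⟩⟩
      apply Equiv.ofBijective f
      constructor
      · intro φ φ' h
        have h7 : toEnd φ.1 - 1 = toEnd φ'.1 - 1 := congrArg Subtype.val h
        exact Subtype.ext (toEnd_injective (sub_left_injective h7))
      · rintro ⟨α, a, ha, rfl⟩
        exact ⟨⟨ψ ⟨a, ha⟩, ⟨⟨a, ha⟩, rfl⟩⟩, rfl⟩
    rw [h1, h3, h4, h6]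
  have hoff' : Nat.card (Additive W) ≤ Nat.card (fam hW2 c A hAq) *
      Nat.card {v : Additive W // ∀ α ∈ fam hW2 c A hAq, α v = 0} := by
    rw [hcardW, hfix]
    rw [hcardA] at hoff
    have hpos : 0 < Nat.card ↥(A ⊓ c.ker) := Nat.card_pos
    have h1 : Nat.card W * Nat.card ↥(A ⊓ c.ker) ≤
        (Nat.card (fam hW2 c A hAq) * Nat.card {w : W // ∀ a ∈ A, c a w = w}) *
          Nat.card ↥(A ⊓ c.ker) := by
      calc Nat.card W * Nat.card ↥(A ⊓ c.ker)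
          ≤ Nat.card (fam hW2 c A hAq) * Nat.card ↥(A ⊓ c.ker) *
            Nat.card {w : W // ∀ a ∈ A, c a w = w} := hoff
        _ = _ := by ring
    exact Nat.le_of_mul_le_mul_right h1 hpos
  obtain ⟨α, ⟨a, ha, rfl⟩, β, ⟨b, hb, rfl⟩, hα, hβ, h3⟩ :=
    hcore h2 (fam hW2 c A hAq) (fam hW2 c B hBq) (hquad A hAq) (hquad B hBq)
      (hne A hAq hAU) (hne B hBq hBU) hodd' hoff'
  refine ⟨a, ha, b, hb, fun h => hα ((sub_one_eq_zero_iff _).mpr h),
    fun h => hβ ((sub_one_eq_zero_iff _).mpr h), ?_⟩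
  intro n hn
  apply h3
  rw [hpow, hn, map_one]

end Cfsg.Agent.Lib.Helper4.S1932B
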