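import Mathlib
import Cfsg.Prelude.Def_Transfer
import Cfsg.Agent.Lib.Helper4.S1932B2

set_option autoImplicit false
set_option linter.unusedVariables false
set_option linter.unusedSectionVars false
set_option linter.style.longLine false
set_option maxHeartbeats 1000000

/-! # S1932 farm (owner helper5), unit B (BRIDGE), part 3: `exists_three_dvd` in of-form (from the statement of `core`) -/

namespace Cfsg.Agent.Lib.Helper4.S1932B

universe u

theorem exists_three_dvd_of {G : Type u} [Group G] [Finite G] (hcore : CoreStmt.{u}) (V : Subgroup G) [hVn : V.Normal]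
    (hVel : Cfsg.IsElementaryAbelian 2 V) (A B : Subgroup G)
    (hA2 : ∀ a ∈ A, a * a = 1) (hB2 : ∀ b ∈ B, b * b = 1)
    (hAq : ∀ a ∈ A, ∀ a' ∈ A, ∀ v ∈ V,
      a * (a' * v * a'⁻¹ * v⁻¹) * a⁻¹ = a' * v * a'⁻¹ * v⁻¹)
    (hBq : ∀ b ∈ B, ∀ b' ∈ B, ∀ v ∈ V,
      b * (b' * v * b'⁻¹ * v⁻¹) * b⁻¹ = b' * v * b'⁻¹ * v⁻¹)
    (hAU : ¬ A ≤ Subgroup.centralizer (V : Set G))
    (hBU : ¬ B ≤ Subgroup.centralizer (V : Set G))
    (hodd : ∀ a ∈ A, ∀ b ∈ B, a ∉ Subgroup.centralizer (V : Set G) →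
      b ∉ Subgroup.centralizer (V : Set G) →
      a * b⁻¹ ∉ Subgroup.centralizer (V : Set G) ∧
        ∃ n : ℕ, Odd n ∧ (a * b) ^ n ∈ Subgroup.centralizer (V : Set G))
    (hoff : Nat.card V * Nat.card ↥(A ⊓ Subgroup.centralizer (V : Set G)) ≤
      Nat.card A * Nat.card ↥(V ⊓ Subgroup.centralizer (A : Set G))) :
    ∃ a ∈ A, ∃ b ∈ B, a ∉ Subgroup.centralizer (V : Set G) ∧
      b ∉ Subgroup.centralizer (V : Set G) ∧
      ∀ n : ℕ, (a * b) ^ n ∈ Subgroup.centralizer (V : Set G) → 3 ∣ n := by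
  classical
  letI instC : CommGroup ↥V :=
    { (inferInstance : Group ↥V) with mul_comm := fun a b => hVel.1.is_comm.comm a b }
  have hW2 : ∀ w : ↥V, w * w = 1 := by
    intro w
    apply Subtype.ext
    have := hVel.2 w.1 w.2
    rw [sq] at this
    exact this
  let c : G →* MulAut ↥V :=
    { toFun := fun g =>
        { toFun := fun v => ⟨g * v.1 * g⁻¹, hVn.conj_mem v.1 v.2 g⟩
          invFun := fun v => ⟨g⁻¹ * v.1 * g, by
            have := hVn.conj_mem v.1 v.2 g⁻¹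
            rwa [inv_inv] at this⟩
          left_inv := fun v => by apply Subtype.ext; show g⁻¹ * (g * v.1 * g⁻¹) * g = v.1; group
          right_inv := fun v => by apply Subtype.ext; show g * (g⁻¹ * v.1 * g) * g⁻¹ = v.1; group
          map_mul' := fun x y => by
            apply Subtype.ext
            show g * (x.1 * y.1) * g⁻¹ = (g * x.1 * g⁻¹) * (g * y.1 * g⁻¹)
            group }
      map_one' := by
        apply MulEquiv.ext
        intro v
        apply Subtype.ext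
        show 1 * v.1 * 1⁻¹ = v.1
        group
      map_mul' := fun g h => by
        apply MulEquiv.ext
        intro v
        apply Subtype.ext
        show (g * h) * v.1 * (g * h)⁻¹ = g * (h * v.1 * h⁻¹) * g⁻¹
        group }
  have hcv : ∀ (g : G) (v : ↥V), ((c g v : ↥V) : G) = g * v.1 * g⁻¹ := fun g v => rfl
  have hc1 : ∀ g : G, c g = 1 ↔ g ∈ Subgroup.centralizer (V : Set G) := by
    intro g
    rw [Subgroup.mem_centralizer_iff]
    constructor
    · intro h v hv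
      have h1 : c g ⟨v, hv⟩ = ⟨v, hv⟩ := by rw [h]; rfl
      have h2 : g * v * g⁻¹ = v := congrArg Subtype.val h1
      calc v * g = (g * v * g⁻¹) * g := by rw [h2]
        _ = g * v := by group
    · intro h
      apply MulEquiv.ext
      intro v
      apply Subtype.ext
      show g * v.1 * g⁻¹ = v.1
      rw [← h v.1 v.2]; group
  have hker : c.ker = Subgroup.centralizer (V : Set G) := by
    ext g
    rw [MonoidHom.mem_ker]
    exact hc1 g
  have hAq' : ∀ a ∈ A, ∀ a' ∈ A, ∀ w : ↥V, c a (c a' w * w⁻¹) = c a' w * w⁻¹ := by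
    intro a ha a' ha' w
    apply Subtype.ext
    exact hAq a ha a' ha' w.1 w.2
  have hBq' : ∀ b ∈ B, ∀ b' ∈ B, ∀ w : ↥V, c b (c b' w * w⁻¹) = c b' w * w⁻¹ := by
    intro b hb b' hb' w
    apply Subtype.ext
    exact hBq b hb b' hb' w.1 w.2
  have hAU' : ∃ a ∈ A, c a ≠ 1 := by
    obtain ⟨a, ha, haV⟩ := SetLike.not_le_iff_exists.mp hAU
    exact ⟨a, ha, fun h => haV ((hc1 a).mp h)⟩
  have hBU' : ∃ b ∈ B, c b ≠ 1 := by
    obtain ⟨b, hb, hbV⟩ := SetLike.not_le_iff_exists.mp hBU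
    exact ⟨b, hb, fun h => hbV ((hc1 b).mp h)⟩
  have hodd' : ∀ a ∈ A, ∀ b ∈ B, c a ≠ 1 → c b ≠ 1 →
      c (a * b⁻¹) ≠ 1 ∧ ∃ n : ℕ, Odd n ∧ c ((a * b) ^ n) = 1 := by
    intro a ha b hb hca hcb
    obtain ⟨h1, n, hn, hn1⟩ := hodd a ha b hb (fun h => hca ((hc1 a).mpr h)) (fun h => hcb ((hc1 b).mpr h))
    exact ⟨fun h => h1 ((hc1 _).mp h), n, hn, (hc1 _).mpr hn1⟩
  have hfix : Nat.card {w : ↥V // ∀ a ∈ A, c a w = w} =
      Nat.card ↥(V ⊓ Subgroup.centralizer (A : Set G)) := by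
    apply Nat.card_congr
    refine
      { toFun := fun w => ⟨w.1.1, w.1.2, ?_⟩
        invFun := fun x => ⟨⟨x.1, x.2.1⟩, ?_⟩
        left_inv := fun w => rfl
        right_inv := fun x => rfl }
    · refine Subgroup.mem_centralizer_iff.mpr ?_
      intro a ha
      have h1 := w.2 a ha
      have h2 : a * w.1.1 * a⁻¹ = w.1.1 := congrArg Subtype.val h1
      calc a * w.1.1 = (a * w.1.1 * a⁻¹) * a := by group
        _ = w.1.1 * a := by rw [h2]
    · intro a ha
      apply Subtype.ext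
      show a * x.1 * a⁻¹ = x.1
      have h1 := (Subgroup.mem_centralizer_iff.mp x.2.2) a ha
      rw [h1]; group
  have hoff' : Nat.card ↥V * Nat.card ↥(A ⊓ c.ker) ≤
      Nat.card A * Nat.card {w : ↥V // ∀ a ∈ A, c a w = w} := by
    rw [hker, hfix]
    exact hoff
  obtain ⟨a, ha, b, hb, hca, hcb, h3⟩ :=
    bridge_abstract hcore hW2 c A B hAq' hBq' hAU' hBU' hodd' hoff'
  exact ⟨a, ha, b, hb, fun h => hca ((hc1 a).mpr h), fun h => hcb ((hc1 b).mpr h),
    fun n hn => h3 n ((hc1 _).mpr hn)⟩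

end Cfsg.Agent.Lib.Helper4.S1932B
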