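import Mathlib
import Cfsg.Agent.Lib.Helper4.S1932B3
import Cfsg.Agent.Lib.Helper2.S1932C

set_option autoImplicit false
set_option linter.unusedVariables false
set_option linter.style.longLine false

/-! # S1932 farm (owner helper5), unit B (BRIDGE): `exists_three_dvd` verbatim -/

namespace Cfsg.Agent.Lib.Helper4.S1932B

universe u

theorem coreStmt : CoreStmt.{u} :=
  fun h2 𝔄 𝔅 hqA hqB hA0 hB0 hodd hoff =>
    Cfsg.Agent.Lib.Helper2.S1932C.core h2 𝔄 𝔅 hqA hqB hA0 hB0 hodd hoff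

theorem exists_three_dvd {G : Type u} [Group G] [Finite G] (V : Subgroup G) [V.Normal]
    (hVel : Cfsg.IsElementaryAbelian 2 V) (A B : Subgroup G)
    (hA2 : ∀ a ∈ A, a * a = 1) (hB2 : ∀ b ∈ B, b * b = 1)
    (hAq : ∀ a ∈ A, ∀ a' ∈ A, ∀ v ∈ V,
      a * (a' * v * a'⁻¹ * v⁻¹) * a⁻¹ = a' * v * a'⁻¹ * v⁻¹)
    (hBq : ∀ b ∈ B, ∀ b' ∈ B, ∀ v ∈ V,
      b * (b' * v * b'⁻¹ * v⁻¹) * b⁻¹ = b' * v * b'⁻¹ * v⁻¹)
    (hAU : ¬ A ≤ Subgroup.centralizer (V : Set G))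
    (hBU : ¬ B ≤ Subgroup.centralizer (V : Set G))
    (hodd : ∀ a ∈ A, ∀ b ∈ B, a ∉ Subgroup.centralizer (V : Set G) →
      b ∉ Subgroup.centralizer (V : Set G) →
      a * b⁻¹ ∉ Subgroup.centralizer (V : Set G) ∧
        ∃ n : ℕ, Odd n ∧ (a * b) ^ n ∈ Subgroup.centralizer (V : Set G))
    (hoff : Nat.card V * Nat.card ↥(A ⊓ Subgroup.centralizer (V : Set G)) ≤
      Nat.card A * Nat.card ↥(V ⊓ Subgroup.centralizer (A : Set G))) :
    ∃ a ∈ A, ∃ b ∈ B, a ∉ Subgroup.centralizer (V : Set G) ∧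
      b ∉ Subgroup.centralizer (V : Set G) ∧
      ∀ n : ℕ, (a * b) ^ n ∈ Subgroup.centralizer (V : Set G) → 3 ∣ n :=
  exists_three_dvd_of coreStmt V hVel A B hA2 hB2 hAq hBq hAU hBU hodd hoff

end Cfsg.Agent.Lib.Helper4.S1932B
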