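import Mathlib
import Cfsg.Agent.Lib.Helper1.Blk1
import Cfsg.Agent.Lib.Helper1.Reg2
import Cfsg.Agent.Lib.Helper3.RegularP

/-! Piece C2 of the S4079 farm (helper1): in a metacyclic `p`-group (`p` odd) with
`W = Ω₁` of order `p²` and `H = {x | x^p ∈ W}` of order `p⁴`, `W` is central in `H` and the
`p`-th power map is multiplicative on `H`. -/

set_option autoImplicit false
open scoped commutatorElement
universe u

namespace Cfsg.Agent.Lib.Helper4.S4079C2

theorem structure2 {L : Type u} [Group L] [Finite L] {p : ℕ} [Fact p.Prime]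
    (hp : p ≠ 2) (hL : IsPGroup p L) (hmc : Cfsg.IsMetacyclic L) (W H : Subgroup L)
    (hW : ∀ x : L, x ∈ W ↔ x ^ p = 1) (hH : ∀ x : L, x ∈ H ↔ x ^ p ∈ W)
    (hWc : Nat.card W = p ^ 2) (hHc : Nat.card H = p ^ 4) :
    (∀ w ∈ W, ∀ h ∈ H, w * h = h * w) ∧
    (∀ x ∈ H, ∀ y ∈ H, (x * y) ^ p = x ^ p * y ^ p) := by
  have hpp : p.Prime := Fact.out
  have hLreg : Cfsg.IsRegularPGroup p L := Cfsg.Agent.Lib.Helper1.Blk.regular_of_metacyclic hp hL hmc
  have hHreg : Cfsg.IsRegularPGroup p ↥H := Cfsg.Agent.Lib.Helper3.regular_subgroup hLreg H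
  have hWH : W ≤ H := by
    intro x hx
    rw [hH, (hW x).1 hx]
    exact W.one_mem
  -- the subgroup of `H` corresponding to `W`
  set W' : Subgroup ↥H := W.subgroupOf H with hW'
  have hW'mem : ∀ h : ↥H, h ∈ W' ↔ (h : L) ^ p = 1 := by
    intro h
    rw [hW', Subgroup.mem_subgroupOf, hW]
  haveI hW'n : W'.Normal := by
    constructor
    intro n hn g
    rw [hW'mem] at hn ⊢
    have : ((g * n * g⁻¹ : ↥H) : L) = (g : L) * (n : L) * (g : L)⁻¹ := by simp
    rw [this, conj_pow, hn]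
    simp
  have hW'card : Nat.card W' = p ^ 2 := by
    rw [hW', ← hWc]
    exact Nat.card_congr (Subgroup.subgroupOfEquivOfLe hWH).toEquiv
  have hidx : W'.index = p ^ 2 := by
    have h1 := Subgroup.card_mul_index W'
    rw [hW'card, hHc] at h1
    have h2 : p ^ 2 * p ^ 2 = p ^ 4 := by ring
    rw [← h2] at h1
    exact Nat.eq_of_mul_eq_mul_left (pow_pos hpp.pos 2) h1
  have hQcard : Nat.card (↥H ⧸ W') = p ^ 2 := by
    rw [← hidx]; rfl
  have hQcomm : ∀ a b : ↥H ⧸ W', a * b = b * a :=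
    IsPGroup.commutative_of_card_eq_prime_sq hQcard
  -- commutators of `H` lie in `W'`
  have hcomm_mem : ∀ x y : ↥H, ⁅x, y⁆ ∈ W' := by
    intro x y
    rw [← QuotientGroup.eq_one_iff]
    have : ((⁅x, y⁆ : ↥H) : ↥H ⧸ W') = ⁅(x : ↥H ⧸ W'), (y : ↥H ⧸ W')⁆ := by
      simp [commutatorElement_def]
    rw [this, commutatorElement_eq_one_iff_mul_comm]
    exact hQcomm _ _
  have hcommH : commutator ↥H ≤ W' := by
    rw [commutator_def, Subgroup.commutator_le]
    intro x _ y _
    exact hcomm_mem x y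
  have hcommHH : ⁅H, H⁆ ≤ W := by
    rw [Subgroup.commutator_le]
    intro x hx y hy
    have := hcomm_mem ⟨x, hx⟩ ⟨y, hy⟩
    rw [hW', Subgroup.mem_subgroupOf] at this
    simpa [commutatorElement_def] using this
  have hexp : ∀ z ∈ ⁅H, H⁆, z ^ p ^ 1 = 1 := by
    intro z hz
    rw [pow_one]
    exact (hW z).1 (hcommHH hz)
  have hpow : ∀ x ∈ H, ∀ y ∈ H, (x * y) ^ p = x ^ p * y ^ p := by
    intro x hx y hy
    have := Cfsg.Agent.Lib.Helper1.Reg.mul_pow_of_sub_derived H hHreg 1 hexp x y hx hy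
    simpa using this
  refine ⟨?_, hpow⟩
  -- the `p`-th power endomorphism of `H`
  let φ : ↥H →* ↥H :=
    { toFun := fun h => h ^ p
      map_one' := one_pow p
      map_mul' := by
        intro a b
        apply Subtype.ext
        simpa using hpow a a.2 b b.2 }
  have hker : φ.ker = W' := by
    ext h
    rw [MonoidHom.mem_ker, hW'mem]
    show h ^ p = 1 ↔ _
    rw [← Subgroup.coe_pow]
    exact ⟨fun e => by rw [e]; rfl, fun e => Subtype.ext (by rw [e]; rfl)⟩
  have hrange_le : φ.range ≤ W' := by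
    rintro _ ⟨h, rfl⟩
    rw [hW', Subgroup.mem_subgroupOf]
    show ((h ^ p : ↥H) : L) ∈ W
    rw [Subgroup.coe_pow]
    exact (hH (h : L)).1 h.2
  have hrange_card : Nat.card φ.range = p ^ 2 := by
    have e := QuotientGroup.quotientKerEquivRange φ
    have h1 : Nat.card φ.range = Nat.card (↥H ⧸ φ.ker) := (Nat.card_congr e.toEquiv).symm
    rw [h1]
    have h2 : Nat.card (↥H ⧸ φ.ker) = φ.ker.index := rfl
    rw [h2, hker, hidx]
  have hrange : φ.range = W' := by
    apply Subgroup.eq_of_le_of_card_ge hrange_le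
    rw [hrange_card, hW'card]
  -- the commutator subgroup of `H` has exponent `p`
  have hbot : Cfsg.powerClosure p 1 (commutator ↥H) = ⊥ := by
    apply Cfsg.Agent.Lib.Helper1.Reg.powerClosure_eq_bot
    intro z hz
    rw [pow_one]
    have hz' := hcommH hz
    rw [hW'mem] at hz'
    apply Subtype.ext
    rw [Subgroup.coe_pow, hz']
    rfl
  intro w hw h hh
  have hwH : w ∈ H := hWH hw
  have hw' : (⟨w, hwH⟩ : ↥H) ∈ φ.range := by
    rw [hrange, hW', Subgroup.mem_subgroupOf]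
    exact hw
  obtain ⟨h1, hh1⟩ := hw'
  have hmem := Cfsg.Agent.Lib.Helper1.Reg.commutator_pow_mem hHreg 1 h1 ⟨h, hh⟩
  rw [hbot, Subgroup.mem_bot, pow_one] at hmem
  have hφ : h1 ^ p = ⟨w, hwH⟩ := hh1
  rw [hφ, commutatorElement_eq_one_iff_mul_comm] at hmem
  have := congrArg (Subtype.val) hmem
  simpa using this

end Cfsg.Agent.Lib.Helper4.S4079C2
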