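import Mathlib
import Cfsg.Prelude.Def_SporCoxeter

/-! The symplectic group S4(4) of order 979200 presented on an element `x` of order 17 and involutions `y`, `w`, where `x`, `y` generate L2(16) (generated). -/

namespace Cfsg.Agent.Lib.Helper4

namespace S44p

/-- the generators -/
inductive Gen
  | x
  | y
  | w
  deriving DecidableEq

abbrev x : FreeGroup Gen := FreeGroup.of Gen.x
abbrev y : FreeGroup Gen := FreeGroup.of Gen.y
abbrev w : FreeGroup Gen := FreeGroup.of Gen.w

/-- no Coxeter graph -/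
def edges : List (Gen × ℕ × Gen) := []

/-- the relators -/
def extra : List (FreeGroup Gen) := [
  x ^ 17,
  y ^ 2,
  (x * x * x * y * x⁻¹ * y * x * y) ^ 2,
  ((x ^ 5) * y) ^ 3,
  w ^ 2,
  y * w * y * w,
  (x * w) ^ 5,
  x * y * x⁻¹ * y * w * x⁻¹ * y * x * w * x * w * y * x * w * y * x * w,
  x * x * y * x * w * x * w * x⁻¹ * x⁻¹ * y * x⁻¹ * w * x * w * x * y * x * y ]

end S44p

end Cfsg.Agent.Lib.Helper4
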