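import Mathlib

set_option autoImplicit false

/-!
Enumeration certificate for the Sylow `2`-subgroups of the symmetric group on `8` letters:
a pure natural-number computation, checked slice by slice by the kernel.
-/

namespace Cfsg.Agent.Lib.Helper4.S8Enum

/-- evaluate the argument before continuing -/
def force (n : ℕ) (k : ℕ → Bool) : Bool :=
  match n with
  | 0 => k 0
  | m + 1 => k (m + 1)

lemma force_eq (n : ℕ) (k : ℕ → Bool) : force n k = k n := by
  cases n <;> rfl

/-- base `8` digit -/
def dg (X i : ℕ) : ℕ := Nat.mod (Nat.div X (Nat.pow 8 i)) 8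

lemma dg_eq (X i : ℕ) : dg X i = X / 8 ^ i % 8 := rfl

/-- flip the last bit -/
def fl (u : ℕ) : ℕ := Nat.sub (Nat.add u 1) (Nat.mul 2 (Nat.mod u 2))

lemma fl_eq (u : ℕ) : fl u = u + 1 - 2 * (u % 2) := rfl

/-- pack eight values into base `8` digits -/
def pack (f : ℕ → ℕ) : ℕ :=
  Nat.add (f 0) (Nat.mul 8 (Nat.add (f 1) (Nat.mul 8 (Nat.add (f 2) (Nat.mul 8 (Nat.add (f 3)
    (Nat.mul 8 (Nat.add (f 4) (Nat.mul 8 (Nat.add (f 5) (Nat.mul 8 (Nat.add (f 6)
    (Nat.mul 8 (f 7))))))))))))))

lemma pack_eq (f : ℕ → ℕ) : pack f =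
    f 0 + 8 * (f 1 + 8 * (f 2 + 8 * (f 3 + 8 * (f 4 + 8 * (f 5 + 8 * (f 6 + 8 * f 7)))))) := rfl

/-- the cheap membership test for a function given by its values -/
def cheapN (f : ℕ → ℕ) : Bool :=
  Nat.beq (Nat.div (f 0) 2) (Nat.div (f 1) 2) && Nat.beq (Nat.div (f 2) 2) (Nat.div (f 3) 2) &&
  Nat.beq (Nat.div (f 4) 2) (Nat.div (f 5) 2) && Nat.beq (Nat.div (f 6) 2) (Nat.div (f 7) 2) &&
  Nat.beq (Nat.div (f 0) 4) (Nat.div (f 2) 4) && Nat.beq (Nat.div (f 4) 4) (Nat.div (f 6) 4)

/-- the product of the two matching involutions -/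
def rho (A B v : ℕ) : ℕ := fl (dg A (fl (dg B v)))

/-- the test on the packed `rho` -/
def goodR (A B R : ℕ) : Bool :=
  (cheapN (dg R) && cheapN (fun i => dg B (dg R (dg A i))) && !(Nat.beq (dg R 0) 0)) ||
  (cheapN (fun v => dg R (dg R v)) && cheapN (fun i => dg B (dg R (dg R (dg A i)))) &&
    !(Nat.beq (dg R (dg R 0)) 0))

/-- packed inverse -/
def packB (a1 a2 a3 a4 a5 a6 a7 : ℕ) : ℕ :=
  Nat.add (Nat.pow 8 a1) (Nat.add (Nat.mul 2 (Nat.pow 8 a2)) (Nat.add (Nat.mul 3 (Nat.pow 8 a3))
    (Nat.add (Nat.mul 4 (Nat.pow 8 a4)) (Nat.add (Nat.mul 5 (Nat.pow 8 a5))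
    (Nat.add (Nat.mul 6 (Nat.pow 8 a6)) (Nat.mul 7 (Nat.pow 8 a7)))))))

lemma packB_eq (a1 a2 a3 a4 a5 a6 a7 : ℕ) : packB a1 a2 a3 a4 a5 a6 a7 =
    8 ^ a1 + (2 * 8 ^ a2 + (3 * 8 ^ a3 + (4 * 8 ^ a4 + (5 * 8 ^ a5 + (6 * 8 ^ a6 + 7 * 8 ^ a7))))) :=
  rfl

/-- packed permutation -/
def packA (a0 a1 a2 a3 a4 a5 a6 a7 : ℕ) : ℕ :=
  Nat.add a0 (Nat.mul 8 (Nat.add a1 (Nat.mul 8 (Nat.add a2 (Nat.mul 8 (Nat.add a3
    (Nat.mul 8 (Nat.add a4 (Nat.mul 8 (Nat.add a5 (Nat.mul 8 (Nat.add a6
    (Nat.mul 8 a7)))))))))))))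

lemma packA_eq (a0 a1 a2 a3 a4 a5 a6 a7 : ℕ) : packA a0 a1 a2 a3 a4 a5 a6 a7 =
    a0 + 8 * (a1 + 8 * (a2 + 8 * (a3 + 8 * (a4 + 8 * (a5 + 8 * (a6 + 8 * a7)))))) := rfl

/-- the test at a leaf -/
def leaf (a0 a1 a2 a3 a4 a5 a6 a7 : ℕ) : Bool :=
  Nat.beq (Nat.div a0 2) (Nat.div a1 2) || Nat.beq (Nat.div a2 2) (Nat.div a3 2) ||
  Nat.beq (Nat.div a4 2) (Nat.div a5 2) || Nat.beq (Nat.div a6 2) (Nat.div a7 2) ||
  force (packA a0 a1 a2 a3 a4 a5 a6 a7) fun A =>
    force (packB a1 a2 a3 a4 a5 a6 a7) fun B => force (pack (rho A B)) (fun R => goodR A B R)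

/-- the range of values -/
def R8 : List ℕ := [0, 1, 2, 3, 4, 5, 6, 7]

lemma all_R8 (p : ℕ → Bool) (h : R8.all p = true) (a : ℕ) (ha : a < 8) : p a = true := by
  rw [List.all_eq_true] at h
  apply h
  simp only [R8, List.mem_cons, List.not_mem_nil, or_false]
  omega

/-- enumeration of the leaves below `a0 a1` -/
def enum (a0 a1 : ℕ) : Bool :=
  R8.all fun a2 => Nat.beq a2 a0 || Nat.beq a2 a1 ||
  R8.all fun a3 => Nat.beq a3 a0 || Nat.beq a3 a1 || Nat.beq a3 a2 ||
  R8.all fun a4 => Nat.beq a4 a0 || Nat.beq a4 a1 || Nat.beq a4 a2 || Nat.beq a4 a3 ||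
  R8.all fun a5 => Nat.beq a5 a0 || Nat.beq a5 a1 || Nat.beq a5 a2 || Nat.beq a5 a3 ||
    Nat.beq a5 a4 ||
  R8.all fun a6 => Nat.beq a6 a0 || Nat.beq a6 a1 || Nat.beq a6 a2 || Nat.beq a6 a3 ||
    Nat.beq a6 a4 || Nat.beq a6 a5 ||
  R8.all fun a7 => Nat.beq a7 a0 || Nat.beq a7 a1 || Nat.beq a7 a2 || Nat.beq a7 a3 ||
    Nat.beq a7 a4 || Nat.beq a7 a5 || Nat.beq a7 a6 ||
    leaf a0 a1 a2 a3 a4 a5 a6 a7

set_option maxHeartbeats 0 in
set_option maxRecDepth 1000000 in
theorem sl_0_1 : enum 0 1 = true := by decide +kernel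

set_option maxHeartbeats 0 in
set_option maxRecDepth 1000000 in
theorem sl_0_2 : enum 0 2 = true := by decide +kernel

set_option maxHeartbeats 0 in
set_option maxRecDepth 1000000 in
theorem sl_0_3 : enum 0 3 = true := by decide +kernel

set_option maxHeartbeats 0 in
set_option maxRecDepth 1000000 in
theorem sl_0_4 : enum 0 4 = true := by decide +kernel

set_option maxHeartbeats 0 in
set_option maxRecDepth 1000000 in
theorem sl_0_5 : enum 0 5 = true := by decide +kernel

set_option maxHeartbeats 0 in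
set_option maxRecDepth 1000000 in
theorem sl_0_6 : enum 0 6 = true := by decide +kernel

set_option maxHeartbeats 0 in
set_option maxRecDepth 1000000 in
theorem sl_0_7 : enum 0 7 = true := by decide +kernel

set_option maxHeartbeats 0 in
set_option maxRecDepth 1000000 in
theorem sl_1_0 : enum 1 0 = true := by decide +kernel

set_option maxHeartbeats 0 in
set_option maxRecDepth 1000000 in
theorem sl_1_2 : enum 1 2 = true := by decide +kernel

set_option maxHeartbeats 0 in
set_option maxRecDepth 1000000 in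
theorem sl_1_3 : enum 1 3 = true := by decide +kernel

set_option maxHeartbeats 0 in
set_option maxRecDepth 1000000 in
theorem sl_1_4 : enum 1 4 = true := by decide +kernel

set_option maxHeartbeats 0 in
set_option maxRecDepth 1000000 in
theorem sl_1_5 : enum 1 5 = true := by decide +kernel

set_option maxHeartbeats 0 in
set_option maxRecDepth 1000000 in
theorem sl_1_6 : enum 1 6 = true := by decide +kernel

set_option maxHeartbeats 0 in
set_option maxRecDepth 1000000 in
theorem sl_1_7 : enum 1 7 = true := by decide +kernel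

set_option maxHeartbeats 0 in
set_option maxRecDepth 1000000 in
theorem sl_2_0 : enum 2 0 = true := by decide +kernel

set_option maxHeartbeats 0 in
set_option maxRecDepth 1000000 in
theorem sl_2_1 : enum 2 1 = true := by decide +kernel

set_option maxHeartbeats 0 in
set_option maxRecDepth 1000000 in
theorem sl_2_3 : enum 2 3 = true := by decide +kernel

set_option maxHeartbeats 0 in
set_option maxRecDepth 1000000 in
theorem sl_2_4 : enum 2 4 = true := by decide +kernel

set_option maxHeartbeats 0 in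
set_option maxRecDepth 1000000 in
theorem sl_2_5 : enum 2 5 = true := by decide +kernel

set_option maxHeartbeats 0 in
set_option maxRecDepth 1000000 in
theorem sl_2_6 : enum 2 6 = true := by decide +kernel

set_option maxHeartbeats 0 in
set_option maxRecDepth 1000000 in
theorem sl_2_7 : enum 2 7 = true := by decide +kernel

set_option maxHeartbeats 0 in
set_option maxRecDepth 1000000 in
theorem sl_3_0 : enum 3 0 = true := by decide +kernel

set_option maxHeartbeats 0 in
set_option maxRecDepth 1000000 in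
theorem sl_3_1 : enum 3 1 = true := by decide +kernel

set_option maxHeartbeats 0 in
set_option maxRecDepth 1000000 in
theorem sl_3_2 : enum 3 2 = true := by decide +kernel

set_option maxHeartbeats 0 in
set_option maxRecDepth 1000000 in
theorem sl_3_4 : enum 3 4 = true := by decide +kernel

set_option maxHeartbeats 0 in
set_option maxRecDepth 1000000 in
theorem sl_3_5 : enum 3 5 = true := by decide +kernel

set_option maxHeartbeats 0 in
set_option maxRecDepth 1000000 in
theorem sl_3_6 : enum 3 6 = true := by decide +kernel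

set_option maxHeartbeats 0 in
set_option maxRecDepth 1000000 in
theorem sl_3_7 : enum 3 7 = true := by decide +kernel

set_option maxHeartbeats 0 in
set_option maxRecDepth 1000000 in
theorem sl_4_0 : enum 4 0 = true := by decide +kernel

set_option maxHeartbeats 0 in
set_option maxRecDepth 1000000 in
theorem sl_4_1 : enum 4 1 = true := by decide +kernel

set_option maxHeartbeats 0 in
set_option maxRecDepth 1000000 in
theorem sl_4_2 : enum 4 2 = true := by decide +kernel

set_option maxHeartbeats 0 in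
set_option maxRecDepth 1000000 in
theorem sl_4_3 : enum 4 3 = true := by decide +kernel

set_option maxHeartbeats 0 in
set_option maxRecDepth 1000000 in
theorem sl_4_5 : enum 4 5 = true := by decide +kernel

set_option maxHeartbeats 0 in
set_option maxRecDepth 1000000 in
theorem sl_4_6 : enum 4 6 = true := by decide +kernel

set_option maxHeartbeats 0 in
set_option maxRecDepth 1000000 in
theorem sl_4_7 : enum 4 7 = true := by decide +kernel

set_option maxHeartbeats 0 in
set_option maxRecDepth 1000000 in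
theorem sl_5_0 : enum 5 0 = true := by decide +kernel

set_option maxHeartbeats 0 in
set_option maxRecDepth 1000000 in
theorem sl_5_1 : enum 5 1 = true := by decide +kernel

set_option maxHeartbeats 0 in
set_option maxRecDepth 1000000 in
theorem sl_5_2 : enum 5 2 = true := by decide +kernel

set_option maxHeartbeats 0 in
set_option maxRecDepth 1000000 in
theorem sl_5_3 : enum 5 3 = true := by decide +kernel

set_option maxHeartbeats 0 in
set_option maxRecDepth 1000000 in
theorem sl_5_4 : enum 5 4 = true := by decide +kernel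

set_option maxHeartbeats 0 in
set_option maxRecDepth 1000000 in
theorem sl_5_6 : enum 5 6 = true := by decide +kernel

set_option maxHeartbeats 0 in
set_option maxRecDepth 1000000 in
theorem sl_5_7 : enum 5 7 = true := by decide +kernel

set_option maxHeartbeats 0 in
set_option maxRecDepth 1000000 in
theorem sl_6_0 : enum 6 0 = true := by decide +kernel

set_option maxHeartbeats 0 in
set_option maxRecDepth 1000000 in
theorem sl_6_1 : enum 6 1 = true := by decide +kernel

set_option maxHeartbeats 0 in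
set_option maxRecDepth 1000000 in
theorem sl_6_2 : enum 6 2 = true := by decide +kernel

set_option maxHeartbeats 0 in
set_option maxRecDepth 1000000 in
theorem sl_6_3 : enum 6 3 = true := by decide +kernel

set_option maxHeartbeats 0 in
set_option maxRecDepth 1000000 in
theorem sl_6_4 : enum 6 4 = true := by decide +kernel

set_option maxHeartbeats 0 in
set_option maxRecDepth 1000000 in
theorem sl_6_5 : enum 6 5 = true := by decide +kernel

set_option maxHeartbeats 0 in
set_option maxRecDepth 1000000 in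
theorem sl_6_7 : enum 6 7 = true := by decide +kernel

set_option maxHeartbeats 0 in
set_option maxRecDepth 1000000 in
theorem sl_7_0 : enum 7 0 = true := by decide +kernel

set_option maxHeartbeats 0 in
set_option maxRecDepth 1000000 in
theorem sl_7_1 : enum 7 1 = true := by decide +kernel

set_option maxHeartbeats 0 in
set_option maxRecDepth 1000000 in
theorem sl_7_2 : enum 7 2 = true := by decide +kernel

set_option maxHeartbeats 0 in
set_option maxRecDepth 1000000 in
theorem sl_7_3 : enum 7 3 = true := by decide +kernel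

set_option maxHeartbeats 0 in
set_option maxRecDepth 1000000 in
theorem sl_7_4 : enum 7 4 = true := by decide +kernel

set_option maxHeartbeats 0 in
set_option maxRecDepth 1000000 in
theorem sl_7_5 : enum 7 5 = true := by decide +kernel

set_option maxHeartbeats 0 in
set_option maxRecDepth 1000000 in
theorem sl_7_6 : enum 7 6 = true := by decide +kernel

theorem enum_true (a0 a1 : ℕ) (h0 : a0 < 8) (h1 : a1 < 8) (h : a0 ≠ a1) : enum a0 a1 = true := by
  interval_cases a0 <;> interval_cases a1
  · exact absurd rfl h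
  · exact sl_0_1
  · exact sl_0_2
  · exact sl_0_3
  · exact sl_0_4
  · exact sl_0_5
  · exact sl_0_6
  · exact sl_0_7
  · exact sl_1_0
  · exact absurd rfl h
  · exact sl_1_2
  · exact sl_1_3
  · exact sl_1_4
  · exact sl_1_5
  · exact sl_1_6
  · exact sl_1_7
  · exact sl_2_0
  · exact sl_2_1
  · exact absurd rfl h
  · exact sl_2_3
  · exact sl_2_4
  · exact sl_2_5
  · exact sl_2_6
  · exact sl_2_7
  · exact sl_3_0
  · exact sl_3_1
  · exact sl_3_2
  · exact absurd rfl h
  · exact sl_3_4
  · exact sl_3_5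
  · exact sl_3_6
  · exact sl_3_7
  · exact sl_4_0
  · exact sl_4_1
  · exact sl_4_2
  · exact sl_4_3
  · exact absurd rfl h
  · exact sl_4_5
  · exact sl_4_6
  · exact sl_4_7
  · exact sl_5_0
  · exact sl_5_1
  · exact sl_5_2
  · exact sl_5_3
  · exact sl_5_4
  · exact absurd rfl h
  · exact sl_5_6
  · exact sl_5_7
  · exact sl_6_0
  · exact sl_6_1
  · exact sl_6_2
  · exact sl_6_3
  · exact sl_6_4
  · exact sl_6_5
  · exact absurd rfl h
  · exact sl_6_7
  · exact sl_7_0
  · exact sl_7_1
  · exact sl_7_2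
  · exact sl_7_3
  · exact sl_7_4
  · exact sl_7_5
  · exact sl_7_6
  · exact absurd rfl h

end Cfsg.Agent.Lib.Helper4.S8Enum
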