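import Cfsg.Agent.Lib.Helper4.S8Enum

set_option autoImplicit false

namespace Cfsg.Agent.Lib.Helper4.S8Enum

lemma beq_false_of_ne {a b : ℕ} (h : a ≠ b) : Nat.beq a b = false := by
  cases hb : Nat.beq a b
  · rfl
  · exact absurd (Nat.eq_of_beq_eq_true hb) h

lemma leaf_true (a0 a1 a2 a3 a4 a5 a6 a7 : ℕ)
    (h0 : a0 < 8) (h1 : a1 < 8) (h2 : a2 < 8) (h3 : a3 < 8) (h4 : a4 < 8) (h5 : a5 < 8) (h6 : a6 < 8) (h7 : a7 < 8)
    (d10 : a1 ≠ a0) (d20 : a2 ≠ a0) (d21 : a2 ≠ a1) (d30 : a3 ≠ a0) (d31 : a3 ≠ a1) (d32 : a3 ≠ a2) (d40 : a4 ≠ a0) (d41 : a4 ≠ a1) (d42 : a4 ≠ a2) (d43 : a4 ≠ a3)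
    (d50 : a5 ≠ a0) (d51 : a5 ≠ a1) (d52 : a5 ≠ a2) (d53 : a5 ≠ a3) (d54 : a5 ≠ a4) (d60 : a6 ≠ a0) (d61 : a6 ≠ a1) (d62 : a6 ≠ a2) (d63 : a6 ≠ a3) (d64 : a6 ≠ a4)
    (d65 : a6 ≠ a5) (d70 : a7 ≠ a0) (d71 : a7 ≠ a1) (d72 : a7 ≠ a2) (d73 : a7 ≠ a3) (d74 : a7 ≠ a4) (d75 : a7 ≠ a5) (d76 : a7 ≠ a6) :
    leaf a0 a1 a2 a3 a4 a5 a6 a7 = true := by
  have e1 := enum_true a0 a1 h0 h1 d10.symm
  unfold enum at e1
  have e2 := all_R8 _ e1 a2 h2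
  simp only [beq_false_of_ne d20, beq_false_of_ne d21, Bool.false_or] at e2
  have e3 := all_R8 _ e2 a3 h3
  simp only [beq_false_of_ne d30, beq_false_of_ne d31, beq_false_of_ne d32, Bool.false_or] at e3
  have e4 := all_R8 _ e3 a4 h4
  simp only [beq_false_of_ne d40, beq_false_of_ne d41, beq_false_of_ne d42, beq_false_of_ne d43, Bool.false_or] at e4
  have e5 := all_R8 _ e4 a5 h5
  simp only [beq_false_of_ne d50, beq_false_of_ne d51, beq_false_of_ne d52, beq_false_of_ne d53, beq_false_of_ne d54, Bool.false_or] at e5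
  have e6 := all_R8 _ e5 a6 h6
  simp only [beq_false_of_ne d60, beq_false_of_ne d61, beq_false_of_ne d62, beq_false_of_ne d63, beq_false_of_ne d64, beq_false_of_ne d65, Bool.false_or] at e6
  have e7 := all_R8 _ e6 a7 h7
  simp only [beq_false_of_ne d70, beq_false_of_ne d71, beq_false_of_ne d72, beq_false_of_ne d73, beq_false_of_ne d74, beq_false_of_ne d75, beq_false_of_ne d76, Bool.false_or] at e7
  exact e7

end Cfsg.Agent.Lib.Helper4.S8Enum
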