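import Mathlib
import Cfsg.Prelude.Def_SporCoxeter

/-! The auxiliary presentation `SC12M22p2` for stem extensions of `C12M22` with kernel of order 2 (generated). -/

namespace Cfsg.Agent.Lib.Helper4

namespace SC12M22p2

/-- the generators -/
inductive Gen
  | a
  | b
  | u
  | g
  | z
  | t1
  | t2
  | t3
  | t4
  | t5
  | t6
  | t7
  deriving DecidableEq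

abbrev a : FreeGroup Gen := FreeGroup.of Gen.a
abbrev b : FreeGroup Gen := FreeGroup.of Gen.b
abbrev u : FreeGroup Gen := FreeGroup.of Gen.u
abbrev g : FreeGroup Gen := FreeGroup.of Gen.g
abbrev z : FreeGroup Gen := FreeGroup.of Gen.z
abbrev t1 : FreeGroup Gen := FreeGroup.of Gen.t1
abbrev t2 : FreeGroup Gen := FreeGroup.of Gen.t2
abbrev t3 : FreeGroup Gen := FreeGroup.of Gen.t3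
abbrev t4 : FreeGroup Gen := FreeGroup.of Gen.t4
abbrev t5 : FreeGroup Gen := FreeGroup.of Gen.t5
abbrev t6 : FreeGroup Gen := FreeGroup.of Gen.t6
abbrev t7 : FreeGroup Gen := FreeGroup.of Gen.t7

/-- no Coxeter graph -/
def edges : List (Gen × ℕ × Gen) := []

/-- the relators -/
def extra : List (FreeGroup Gen) := [
  a ^ 3,
  b ^ 5,
  u ^ 6,
  g ^ 11,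
  z⁻¹ * a * b * a * b * a⁻¹ * b * g⁻¹ * b * a⁻¹ * b * b * g⁻¹ * b⁻¹ * a * b⁻¹ * b⁻¹ * g * b⁻¹ * a⁻¹ * b⁻¹ * g⁻¹ * a * g * b⁻¹ * a⁻¹,
  t1⁻¹ * u * z⁻¹ * z⁻¹,
  t2⁻¹ * (z ^ 12),
  t3⁻¹ * z * a * z⁻¹ * a⁻¹,
  t4⁻¹ * z * b * z⁻¹ * b⁻¹,
  t5⁻¹ * z * g * z⁻¹ * g⁻¹,
  t6⁻¹ * a * b * a * b * a⁻¹ * b * g⁻¹ * b * a⁻¹ * b * b * g⁻¹ * (z⁻¹ ^ 6),
  t7⁻¹ * a * b * g⁻¹ * a⁻¹ * g * b * a * b * g⁻¹ * b * b * a⁻¹ * b * (z⁻¹ ^ 5),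
  t1 ^ 2,
  t2 ^ 2,
  t3 ^ 2,
  t4 ^ 2,
  t5 ^ 2,
  t6 ^ 2,
  t7 ^ 2,
  t1 * a * t1⁻¹ * a⁻¹,
  t1 * b * t1⁻¹ * b⁻¹,
  t1 * u * t1⁻¹ * u⁻¹,
  t1 * g * t1⁻¹ * g⁻¹,
  t1 * z * t1⁻¹ * z⁻¹,
  t2 * a * t2⁻¹ * a⁻¹,
  t2 * b * t2⁻¹ * b⁻¹,
  t2 * u * t2⁻¹ * u⁻¹,
  t2 * g * t2⁻¹ * g⁻¹,
  t2 * z * t2⁻¹ * z⁻¹,
  t3 * a * t3⁻¹ * a⁻¹,
  t3 * b * t3⁻¹ * b⁻¹,
  t3 * u * t3⁻¹ * u⁻¹,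
  t3 * g * t3⁻¹ * g⁻¹,
  t3 * z * t3⁻¹ * z⁻¹,
  t4 * a * t4⁻¹ * a⁻¹,
  t4 * b * t4⁻¹ * b⁻¹,
  t4 * u * t4⁻¹ * u⁻¹,
  t4 * g * t4⁻¹ * g⁻¹,
  t4 * z * t4⁻¹ * z⁻¹,
  t5 * a * t5⁻¹ * a⁻¹,
  t5 * b * t5⁻¹ * b⁻¹,
  t5 * u * t5⁻¹ * u⁻¹,
  t5 * g * t5⁻¹ * g⁻¹,
  t5 * z * t5⁻¹ * z⁻¹,
  t6 * a * t6⁻¹ * a⁻¹,
  t6 * b * t6⁻¹ * b⁻¹,
  t6 * u * t6⁻¹ * u⁻¹,
  t6 * g * t6⁻¹ * g⁻¹,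
  t6 * z * t6⁻¹ * z⁻¹,
  t7 * a * t7⁻¹ * a⁻¹,
  t7 * b * t7⁻¹ * b⁻¹,
  t7 * u * t7⁻¹ * u⁻¹,
  t7 * g * t7⁻¹ * g⁻¹,
  t7 * z * t7⁻¹ * z⁻¹,
  u ^ 6,
  u * a * u⁻¹ * a⁻¹,
  u * b * u⁻¹ * b⁻¹,
  a ^ 3,
  b ^ 5,
  (a * b) ^ 7,
  ((a * b⁻¹ * a * b) ^ 2) * u⁻¹,
  ((a * b⁻¹ * b⁻¹ * a * b * b) ^ 2) * (u⁻¹ ^ 3),
  b⁻¹ * g * b⁻¹⁻¹ * (g ^ 5)⁻¹ ]

end SC12M22p2

end Cfsg.Agent.Lib.Helper4
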