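import Mathlib
import Cfsg.Prelude.Def_SporCoxeter

/-! The auxiliary presentation `SC2A8p3` for stem extensions of `C2A8` with kernel of order 3 (generated). -/

namespace Cfsg.Agent.Lib.Helper4

namespace SC2A8p3

/-- the generators -/
inductive Gen
  | x
  | y
  | z1
  | z2
  deriving DecidableEq

abbrev x : FreeGroup Gen := FreeGroup.of Gen.x
abbrev y : FreeGroup Gen := FreeGroup.of Gen.y
abbrev z1 : FreeGroup Gen := FreeGroup.of Gen.z1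
abbrev z2 : FreeGroup Gen := FreeGroup.of Gen.z2

/-- no Coxeter graph -/
def edges : List (Gen × ℕ × Gen) := []

/-- the relators -/
def extra : List (FreeGroup Gen) := [
  x ^ 7,
  y ^ 7,
  z1⁻¹ * x * x * y * x * y * y * y * x⁻¹ * y * y * x⁻¹ * y,
  z2⁻¹ * x * y * x * y⁻¹ * x⁻¹ * y⁻¹ * y⁻¹ * x⁻¹ * y * x * y * y,
  z1 ^ 3,
  z2 ^ 3,
  z1 * x * z1⁻¹ * x⁻¹,
  z1 * y * z1⁻¹ * y⁻¹,
  z2 * x * z2⁻¹ * x⁻¹,
  z2 * y * z2⁻¹ * y⁻¹ ]

end SC2A8p3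

end Cfsg.Agent.Lib.Helper4
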