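import Mathlib
import Cfsg.Prelude.Def_SporCoxeter

/-! The auxiliary presentation `SC2Fi22xp2` for stem extensions of `C2Fi22x` with kernel of order 2 (generated). -/

namespace Cfsg.Agent.Lib.Helper4

namespace SC2Fi22xp2

/-- the generators -/
inductive Gen
  | a
  | c
  | d
  | e
  | f
  | g
  | h
  | i
  | k
  | z
  | t
  | b
  | b0
  | b1
  | cd
  | ce
  | cf
  | cg
  | ch
  | ci
  | r0
  | r1
  | r2
  | yk
  deriving DecidableEq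

/-- the generators and their inverses by codes -/
def ofCode : ℕ → FreeGroup Gen
  | 0 => FreeGroup.of Gen.a
  | 1 => (FreeGroup.of Gen.a)⁻¹
  | 2 => FreeGroup.of Gen.c
  | 3 => (FreeGroup.of Gen.c)⁻¹
  | 4 => FreeGroup.of Gen.d
  | 5 => (FreeGroup.of Gen.d)⁻¹
  | 6 => FreeGroup.of Gen.e
  | 7 => (FreeGroup.of Gen.e)⁻¹
  | 8 => FreeGroup.of Gen.f
  | 9 => (FreeGroup.of Gen.f)⁻¹
  | 10 => FreeGroup.of Gen.g
  | 11 => (FreeGroup.of Gen.g)⁻¹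
  | 12 => FreeGroup.of Gen.h
  | 13 => (FreeGroup.of Gen.h)⁻¹
  | 14 => FreeGroup.of Gen.i
  | 15 => (FreeGroup.of Gen.i)⁻¹
  | 16 => FreeGroup.of Gen.k
  | 17 => (FreeGroup.of Gen.k)⁻¹
  | 18 => FreeGroup.of Gen.z
  | 19 => (FreeGroup.of Gen.z)⁻¹
  | 20 => FreeGroup.of Gen.t
  | 21 => (FreeGroup.of Gen.t)⁻¹
  | 22 => FreeGroup.of Gen.b
  | 23 => (FreeGroup.of Gen.b)⁻¹
  | 24 => FreeGroup.of Gen.b0
  | 25 => (FreeGroup.of Gen.b0)⁻¹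
  | 26 => FreeGroup.of Gen.b1
  | 27 => (FreeGroup.of Gen.b1)⁻¹
  | 28 => FreeGroup.of Gen.cd
  | 29 => (FreeGroup.of Gen.cd)⁻¹
  | 30 => FreeGroup.of Gen.ce
  | 31 => (FreeGroup.of Gen.ce)⁻¹
  | 32 => FreeGroup.of Gen.cf
  | 33 => (FreeGroup.of Gen.cf)⁻¹
  | 34 => FreeGroup.of Gen.cg
  | 35 => (FreeGroup.of Gen.cg)⁻¹
  | 36 => FreeGroup.of Gen.ch
  | 37 => (FreeGroup.of Gen.ch)⁻¹
  | 38 => FreeGroup.of Gen.ci
  | 39 => (FreeGroup.of Gen.ci)⁻¹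
  | 40 => FreeGroup.of Gen.r0
  | 41 => (FreeGroup.of Gen.r0)⁻¹
  | 42 => FreeGroup.of Gen.r1
  | 43 => (FreeGroup.of Gen.r1)⁻¹
  | 44 => FreeGroup.of Gen.r2
  | 45 => (FreeGroup.of Gen.r2)⁻¹
  | 46 => FreeGroup.of Gen.yk
  | 47 => (FreeGroup.of Gen.yk)⁻¹
  | _ => 1

/-- the relators as lists of codes -/
def extraW : List (List ℕ) := [
  (List.replicate 2 [0]).flatten,
  (List.replicate 2 [2]).flatten,
  (List.replicate 2 [4]).flatten,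
  (List.replicate 2 [6]).flatten,
  (List.replicate 2 [8]).flatten,
  (List.replicate 2 [10]).flatten,
  (List.replicate 2 [12]).flatten,
  (List.replicate 2 [14]).flatten,
  (List.replicate 2 [16]).flatten,
  (List.replicate 2 [18]).flatten,
  (List.replicate 3 [20]).flatten,
  [23, 1, 20],
  [25, 22, 22],
  ([27] ++ (List.replicate 3 [22, 2]).flatten),
  ([29] ++ (List.replicate 2 [22, 4]).flatten),
  ([31] ++ (List.replicate 2 [22, 6]).flatten),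
  ([33] ++ (List.replicate 2 [22, 8]).flatten),
  ([35] ++ (List.replicate 2 [22, 10]).flatten),
  ([37] ++ (List.replicate 2 [22, 12]).flatten),
  ([39] ++ (List.replicate 2 [22, 14]).flatten),
  ([41] ++ (List.replicate 10 [4, 2, 22, 4, 6, 8, 4, 12, 14]).flatten),
  ([43, 19] ++ (List.replicate 9 [0, 22, 2, 4, 6, 8, 12]).flatten),
  ([45] ++ (List.replicate 9 [22, 2, 4, 6, 8, 10, 12]).flatten),
  ([47, 17] ++ (List.replicate 5 [0, 22, 2, 4, 6, 12]).flatten),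
  (List.replicate 2 [24]).flatten,
  (List.replicate 2 [26]).flatten,
  (List.replicate 2 [28]).flatten,
  (List.replicate 2 [30]).flatten,
  (List.replicate 2 [32]).flatten,
  (List.replicate 2 [34]).flatten,
  (List.replicate 2 [36]).flatten,
  (List.replicate 2 [38]).flatten,
  (List.replicate 2 [40]).flatten,
  (List.replicate 2 [42]).flatten,
  (List.replicate 2 [44]).flatten,
  (List.replicate 2 [46]).flatten,
  [24, 0, 25, 1],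
  [24, 2, 25, 3],
  [24, 4, 25, 5],
  [24, 6, 25, 7],
  [24, 8, 25, 9],
  [24, 10, 25, 11],
  [24, 12, 25, 13],
  [24, 14, 25, 15],
  [24, 16, 25, 17],
  [24, 18, 25, 19],
  [24, 20, 25, 21],
  [24, 22, 25, 23],
  [26, 0, 27, 1],
  [26, 2, 27, 3],
  [26, 4, 27, 5],
  [26, 6, 27, 7],
  [26, 8, 27, 9],
  [26, 10, 27, 11],
  [26, 12, 27, 13],
  [26, 14, 27, 15],
  [26, 16, 27, 17],
  [26, 18, 27, 19],
  [26, 20, 27, 21],
  [26, 22, 27, 23],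
  [28, 0, 29, 1],
  [28, 2, 29, 3],
  [28, 4, 29, 5],
  [28, 6, 29, 7],
  [28, 8, 29, 9],
  [28, 10, 29, 11],
  [28, 12, 29, 13],
  [28, 14, 29, 15],
  [28, 16, 29, 17],
  [28, 18, 29, 19],
  [28, 20, 29, 21],
  [28, 22, 29, 23],
  [30, 0, 31, 1],
  [30, 2, 31, 3],
  [30, 4, 31, 5],
  [30, 6, 31, 7],
  [30, 8, 31, 9],
  [30, 10, 31, 11],
  [30, 12, 31, 13],
  [30, 14, 31, 15],
  [30, 16, 31, 17],
  [30, 18, 31, 19],
  [30, 20, 31, 21],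
  [30, 22, 31, 23],
  [32, 0, 33, 1],
  [32, 2, 33, 3],
  [32, 4, 33, 5],
  [32, 6, 33, 7],
  [32, 8, 33, 9],
  [32, 10, 33, 11],
  [32, 12, 33, 13],
  [32, 14, 33, 15],
  [32, 16, 33, 17],
  [32, 18, 33, 19],
  [32, 20, 33, 21],
  [32, 22, 33, 23],
  [34, 0, 35, 1],
  [34, 2, 35, 3],
  [34, 4, 35, 5],
  [34, 6, 35, 7],
  [34, 8, 35, 9],
  [34, 10, 35, 11],
  [34, 12, 35, 13],
  [34, 14, 35, 15],
  [34, 16, 35, 17],
  [34, 18, 35, 19],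
  [34, 20, 35, 21],
  [34, 22, 35, 23],
  [36, 0, 37, 1],
  [36, 2, 37, 3],
  [36, 4, 37, 5],
  [36, 6, 37, 7],
  [36, 8, 37, 9],
  [36, 10, 37, 11],
  [36, 12, 37, 13],
  [36, 14, 37, 15],
  [36, 16, 37, 17],
  [36, 18, 37, 19],
  [36, 20, 37, 21],
  [36, 22, 37, 23],
  [38, 0, 39, 1],
  [38, 2, 39, 3],
  [38, 4, 39, 5],
  [38, 6, 39, 7],
  [38, 8, 39, 9],
  [38, 10, 39, 11],
  [38, 12, 39, 13],
  [38, 14, 39, 15],
  [38, 16, 39, 17],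
  [38, 18, 39, 19],
  [38, 20, 39, 21],
  [38, 22, 39, 23],
  [40, 0, 41, 1],
  [40, 2, 41, 3],
  [40, 4, 41, 5],
  [40, 6, 41, 7],
  [40, 8, 41, 9],
  [40, 10, 41, 11],
  [40, 12, 41, 13],
  [40, 14, 41, 15],
  [40, 16, 41, 17],
  [40, 18, 41, 19],
  [40, 20, 41, 21],
  [40, 22, 41, 23],
  [42, 0, 43, 1],
  [42, 2, 43, 3],
  [42, 4, 43, 5],
  [42, 6, 43, 7],
  [42, 8, 43, 9],
  [42, 10, 43, 11],
  [42, 12, 43, 13],
  [42, 14, 43, 15],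
  [42, 16, 43, 17],
  [42, 18, 43, 19],
  [42, 20, 43, 21],
  [42, 22, 43, 23],
  [44, 0, 45, 1],
  [44, 2, 45, 3],
  [44, 4, 45, 5],
  [44, 6, 45, 7],
  [44, 8, 45, 9],
  [44, 10, 45, 11],
  [44, 12, 45, 13],
  [44, 14, 45, 15],
  [44, 16, 45, 17],
  [44, 18, 45, 19],
  [44, 20, 45, 21],
  [44, 22, 45, 23],
  [46, 0, 47, 1],
  [46, 2, 47, 3],
  [46, 4, 47, 5],
  [46, 6, 47, 7],
  [46, 8, 47, 9],
  [46, 10, 47, 11],
  [46, 12, 47, 13],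
  [46, 14, 47, 15],
  [46, 16, 47, 17],
  [46, 18, 47, 19],
  [46, 20, 47, 21],
  [46, 22, 47, 23],
  [0, 0],
  [0, 2, 0, 2],
  [0, 4, 0, 4],
  [0, 6, 0, 6],
  [0, 12, 0, 12],
  [0, 8, 0, 8],
  [0, 10, 0, 10],
  [0, 14, 0, 14],
  [2, 2],
  [2, 4, 2, 4, 2, 4],
  [2, 6, 2, 6],
  [2, 12, 2, 12],
  [2, 8, 2, 8],
  [2, 10, 2, 10],
  [2, 14, 2, 14],
  [4, 4],
  [4, 6, 4, 6, 4, 6],
  [4, 12, 4, 12, 4, 12],
  [4, 8, 4, 8],
  [4, 10, 4, 10],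
  [4, 14, 4, 14],
  [6, 6],
  [6, 12, 6, 12],
  [6, 8, 6, 8, 6, 8],
  [6, 10, 6, 10],
  [6, 14, 6, 14],
  [12, 12],
  [12, 8, 12, 8],
  [12, 10, 12, 10],
  [12, 14, 12, 14, 12, 14],
  [8, 8],
  [8, 10, 8, 10, 8, 10],
  [8, 14, 8, 14],
  [10, 10],
  [10, 14, 10, 14],
  [14, 14],
  [19, 1, 18, 0],
  [19, 3, 18, 2],
  [19, 5, 18, 4],
  [19, 7, 18, 6],
  [19, 9, 18, 8],
  [19, 11, 18, 10],
  [19, 13, 18, 12],
  [19, 15, 18, 14],
  [19, 17, 18, 16],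
  (List.replicate 2 [16, 0]).flatten,
  (List.replicate 2 [16, 2]).flatten,
  (List.replicate 2 [16, 4]).flatten,
  (List.replicate 2 [16, 6]).flatten,
  (List.replicate 2 [16, 10]).flatten,
  (List.replicate 2 [16, 12]).flatten,
  ((List.replicate 3 [16, 8]).flatten ++ [19]),
  ((List.replicate 3 [16, 14]).flatten ++ [19]) ]

/-- no Coxeter graph -/
def edges : List (Gen × ℕ × Gen) := []

/-- the relators -/
def extra : List (FreeGroup Gen) := extraW.map fun L => (L.map ofCode).prod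

end SC2Fi22xp2

end Cfsg.Agent.Lib.Helper4
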