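import Mathlib
import Cfsg.Prelude.Def_SporCoxeter

/-! The auxiliary presentation `SC2G24p5` for stem extensions of `C2G24` with kernel of order 5 (generated). -/

namespace Cfsg.Agent.Lib.Helper4

namespace SC2G24p5

/-- the generators -/
inductive Gen
  | c
  | d
  | t
  | s
  | z
  | y0
  | r0
  | r1
  | r2
  | y1
  deriving DecidableEq

abbrev c : FreeGroup Gen := FreeGroup.of Gen.c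
abbrev d : FreeGroup Gen := FreeGroup.of Gen.d
abbrev t : FreeGroup Gen := FreeGroup.of Gen.t
abbrev s : FreeGroup Gen := FreeGroup.of Gen.s
abbrev z : FreeGroup Gen := FreeGroup.of Gen.z
abbrev y0 : FreeGroup Gen := FreeGroup.of Gen.y0
abbrev r0 : FreeGroup Gen := FreeGroup.of Gen.r0
abbrev r1 : FreeGroup Gen := FreeGroup.of Gen.r1
abbrev r2 : FreeGroup Gen := FreeGroup.of Gen.r2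
abbrev y1 : FreeGroup Gen := FreeGroup.of Gen.y1

/-- no Coxeter graph -/
def edges : List (Gen × ℕ × Gen) := []

/-- the relators -/
def extra : List (FreeGroup Gen) := [
  c ^ 7,
  d ^ 4,
  t ^ 4,
  s ^ 4,
  z⁻¹ * t * t,
  y0⁻¹ * s * s * z⁻¹,
  r0⁻¹ * c * d * c⁻¹ * t * s * d * s⁻¹ * t * z⁻¹,
  r1⁻¹ * c * d * c⁻¹ * s⁻¹ * t * c⁻¹ * d * c * t * s * z⁻¹,
  r2⁻¹ * c * c * t * d⁻¹ * c⁻¹ * d⁻¹ * c⁻¹ * t * d * t * d⁻¹ * c * s * c * s * t * s⁻¹,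
  y1⁻¹ * z⁻¹ * s⁻¹ * z * s,
  y0 ^ 5,
  r0 ^ 5,
  r1 ^ 5,
  r2 ^ 5,
  y1 ^ 5,
  y0 * c * y0⁻¹ * c⁻¹,
  y0 * d * y0⁻¹ * d⁻¹,
  y0 * t * y0⁻¹ * t⁻¹,
  y0 * s * y0⁻¹ * s⁻¹,
  y0 * z * y0⁻¹ * z⁻¹,
  r0 * c * r0⁻¹ * c⁻¹,
  r0 * d * r0⁻¹ * d⁻¹,
  r0 * t * r0⁻¹ * t⁻¹,
  r0 * s * r0⁻¹ * s⁻¹,
  r0 * z * r0⁻¹ * z⁻¹,
  r1 * c * r1⁻¹ * c⁻¹,
  r1 * d * r1⁻¹ * d⁻¹,
  r1 * t * r1⁻¹ * t⁻¹,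
  r1 * s * r1⁻¹ * s⁻¹,
  r1 * z * r1⁻¹ * z⁻¹,
  r2 * c * r2⁻¹ * c⁻¹,
  r2 * d * r2⁻¹ * d⁻¹,
  r2 * t * r2⁻¹ * t⁻¹,
  r2 * s * r2⁻¹ * s⁻¹,
  r2 * z * r2⁻¹ * z⁻¹,
  y1 * c * y1⁻¹ * c⁻¹,
  y1 * d * y1⁻¹ * d⁻¹,
  y1 * t * y1⁻¹ * t⁻¹,
  y1 * s * y1⁻¹ * s⁻¹,
  y1 * z * y1⁻¹ * z⁻¹,
  c ^ 7,
  c * c * d * c⁻¹ * d * c * d⁻¹ * c * d * c⁻¹ * d,
  (c * c * c * d) ^ 3,
  c * c * d * d * c * c * d⁻¹ * d⁻¹ * c * c * d⁻¹ * d⁻¹,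
  c * t * d⁻¹ * t * d * c⁻¹ * d * c⁻¹ * c⁻¹ * t * d,
  c * t * c⁻¹ * d⁻¹ * c⁻¹ * d⁻¹ * c * t * c⁻¹ * d⁻¹ * c⁻¹ * d⁻¹ * t * t,
  t * t * t * t,
  t⁻¹ * t⁻¹ * c⁻¹ * t * t * c,
  t⁻¹ * t⁻¹ * d⁻¹ * t * t * d ]

end SC2G24p5

end Cfsg.Agent.Lib.Helper4
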