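import Mathlib
import Cfsg.Prelude.Def_SporCoxeter

/-! The auxiliary presentation `SC2HSp2` for stem extensions of `C2HS` with kernel of order 2 (generated). -/

namespace Cfsg.Agent.Lib.Helper4

namespace SC2HSp2

/-- the generators -/
inductive Gen
  | a
  | b
  | x
  | t
  | z
  | z0
  | z1
  | z2
  | z3
  | z5
  | z6
  | z7
  | z8
  | z9
  | z10
  | z11
  deriving DecidableEq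

abbrev a : FreeGroup Gen := FreeGroup.of Gen.a
abbrev b : FreeGroup Gen := FreeGroup.of Gen.b
abbrev x : FreeGroup Gen := FreeGroup.of Gen.x
abbrev t : FreeGroup Gen := FreeGroup.of Gen.t
abbrev z : FreeGroup Gen := FreeGroup.of Gen.z
abbrev z0 : FreeGroup Gen := FreeGroup.of Gen.z0
abbrev z1 : FreeGroup Gen := FreeGroup.of Gen.z1
abbrev z2 : FreeGroup Gen := FreeGroup.of Gen.z2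
abbrev z3 : FreeGroup Gen := FreeGroup.of Gen.z3
abbrev z5 : FreeGroup Gen := FreeGroup.of Gen.z5
abbrev z6 : FreeGroup Gen := FreeGroup.of Gen.z6
abbrev z7 : FreeGroup Gen := FreeGroup.of Gen.z7
abbrev z8 : FreeGroup Gen := FreeGroup.of Gen.z8
abbrev z9 : FreeGroup Gen := FreeGroup.of Gen.z9
abbrev z10 : FreeGroup Gen := FreeGroup.of Gen.z10
abbrev z11 : FreeGroup Gen := FreeGroup.of Gen.z11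

/-- no Coxeter graph -/
def edges : List (Gen × ℕ × Gen) := []

/-- the relators -/
def extra : List (FreeGroup Gen) := [
  a ^ 2,
  b ^ 4,
  x ^ 5,
  t⁻¹ * x * a⁻¹,
  z⁻¹ * ((a * b * a * b⁻¹ * t * b) ^ 2),
  z0⁻¹ * t * t,
  z1⁻¹ * ((a * b * t * b⁻¹) ^ 2),
  z2⁻¹ * b * b * t * b * b * t * b⁻¹ * b⁻¹ * t,
  z3⁻¹ * ((a * t) ^ 5),
  z5⁻¹ * ((b * t) ^ 6),
  z6⁻¹ * ((a * t * b⁻¹ * t * b * t) ^ 3),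
  z7⁻¹ * ((a * b⁻¹ * t * a * t) ^ 4),
  z8⁻¹ * z * z,
  z9⁻¹ * z⁻¹ * a⁻¹ * z * a,
  z10⁻¹ * z⁻¹ * b⁻¹ * z * b,
  z11⁻¹ * z⁻¹ * t⁻¹ * z * t,
  z0 ^ 2,
  z1 ^ 2,
  z2 ^ 2,
  z3 ^ 2,
  z5 ^ 2,
  z6 ^ 2,
  z7 ^ 2,
  z8 ^ 2,
  z9 ^ 2,
  z10 ^ 2,
  z11 ^ 2,
  z0 * a * z0⁻¹ * a⁻¹,
  z0 * b * z0⁻¹ * b⁻¹,
  z0 * x * z0⁻¹ * x⁻¹,
  z0 * t * z0⁻¹ * t⁻¹,
  z0 * z * z0⁻¹ * z⁻¹,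
  z1 * a * z1⁻¹ * a⁻¹,
  z1 * b * z1⁻¹ * b⁻¹,
  z1 * x * z1⁻¹ * x⁻¹,
  z1 * t * z1⁻¹ * t⁻¹,
  z1 * z * z1⁻¹ * z⁻¹,
  z2 * a * z2⁻¹ * a⁻¹,
  z2 * b * z2⁻¹ * b⁻¹,
  z2 * x * z2⁻¹ * x⁻¹,
  z2 * t * z2⁻¹ * t⁻¹,
  z2 * z * z2⁻¹ * z⁻¹,
  z3 * a * z3⁻¹ * a⁻¹,
  z3 * b * z3⁻¹ * b⁻¹,
  z3 * x * z3⁻¹ * x⁻¹,
  z3 * t * z3⁻¹ * t⁻¹,
  z3 * z * z3⁻¹ * z⁻¹,
  z5 * a * z5⁻¹ * a⁻¹,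
  z5 * b * z5⁻¹ * b⁻¹,
  z5 * x * z5⁻¹ * x⁻¹,
  z5 * t * z5⁻¹ * t⁻¹,
  z5 * z * z5⁻¹ * z⁻¹,
  z6 * a * z6⁻¹ * a⁻¹,
  z6 * b * z6⁻¹ * b⁻¹,
  z6 * x * z6⁻¹ * x⁻¹,
  z6 * t * z6⁻¹ * t⁻¹,
  z6 * z * z6⁻¹ * z⁻¹,
  z7 * a * z7⁻¹ * a⁻¹,
  z7 * b * z7⁻¹ * b⁻¹,
  z7 * x * z7⁻¹ * x⁻¹,
  z7 * t * z7⁻¹ * t⁻¹,
  z7 * z * z7⁻¹ * z⁻¹,
  z8 * a * z8⁻¹ * a⁻¹,
  z8 * b * z8⁻¹ * b⁻¹,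
  z8 * x * z8⁻¹ * x⁻¹,
  z8 * t * z8⁻¹ * t⁻¹,
  z8 * z * z8⁻¹ * z⁻¹,
  z9 * a * z9⁻¹ * a⁻¹,
  z9 * b * z9⁻¹ * b⁻¹,
  z9 * x * z9⁻¹ * x⁻¹,
  z9 * t * z9⁻¹ * t⁻¹,
  z9 * z * z9⁻¹ * z⁻¹,
  z10 * a * z10⁻¹ * a⁻¹,
  z10 * b * z10⁻¹ * b⁻¹,
  z10 * x * z10⁻¹ * x⁻¹,
  z10 * t * z10⁻¹ * t⁻¹,
  z10 * z * z10⁻¹ * z⁻¹,
  z11 * a * z11⁻¹ * a⁻¹,
  z11 * b * z11⁻¹ * b⁻¹,
  z11 * x * z11⁻¹ * x⁻¹,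
  z11 * t * z11⁻¹ * t⁻¹,
  z11 * z * z11⁻¹ * z⁻¹,
  a ^ 2,
  b ^ 4,
  (a * b) ^ 11,
  (a * b * b) ^ 6,
  a * b * a * b * a * b⁻¹ * a * b * a * b * b * a * b⁻¹ * a * b * a * b⁻¹ * a * b⁻¹,
  t * a * b * b * a * t * a * b * b * a * b * b * (t * a * b * b * a * t)⁻¹ * (b * b * a * b * b * a)⁻¹,
  t * a * t * b * a * b * b * a * b * a * b * b * (t * a * t)⁻¹ * (b * a * b * a * b⁻¹ * a * b * a * b * a * b * a * b * a * b * b * a * b * a)⁻¹,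
  t * a * t * a * b * b * a * b * b * a * b⁻¹ * a * b⁻¹ * a * b⁻¹ * (t * a * t)⁻¹ * (b⁻¹ * a * b⁻¹ * a * b * b * a * b⁻¹ * a * b⁻¹ * a * b * b * a * b * b * a)⁻¹,
  t * a * t * b * a * b * a * b * b * a * b * a * b⁻¹ * a * b * (t * a * t)⁻¹ * (a * b⁻¹ * a * b⁻¹ * a * b * b * a * b⁻¹ * a * b * b * a * b * a * b * b * a)⁻¹ ]

end SC2HSp2

end Cfsg.Agent.Lib.Helper4
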