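import Mathlib
import Cfsg.Prelude.Def_SporCoxeter

/-! The auxiliary presentation `SC2J2p5` for stem extensions of `C2J2` with kernel of order 5 (generated). -/

namespace Cfsg.Agent.Lib.Helper4

namespace SC2J2p5

/-- the generators -/
inductive Gen
  | c
  | d
  | t
  | z
  | z1
  | z2
  | z3
  | z4
  deriving DecidableEq

abbrev c : FreeGroup Gen := FreeGroup.of Gen.c
abbrev d : FreeGroup Gen := FreeGroup.of Gen.d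
abbrev t : FreeGroup Gen := FreeGroup.of Gen.t
abbrev z : FreeGroup Gen := FreeGroup.of Gen.z
abbrev z1 : FreeGroup Gen := FreeGroup.of Gen.z1
abbrev z2 : FreeGroup Gen := FreeGroup.of Gen.z2
abbrev z3 : FreeGroup Gen := FreeGroup.of Gen.z3
abbrev z4 : FreeGroup Gen := FreeGroup.of Gen.z4

/-- no Coxeter graph -/
def edges : List (Gen × ℕ × Gen) := []

/-- the relators -/
def extra : List (FreeGroup Gen) := [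
  c ^ 7,
  d ^ 4,
  t ^ 4,
  z⁻¹ * t * t,
  z1⁻¹ * c * t * d⁻¹ * t * d * c⁻¹ * d * c⁻¹ * c⁻¹ * t * d,
  z2⁻¹ * c * t * c⁻¹ * d⁻¹ * c⁻¹ * d⁻¹ * c * t * c⁻¹ * d⁻¹ * c⁻¹ * d⁻¹ * z,
  z3⁻¹ * z⁻¹ * c⁻¹ * z * c,
  z4⁻¹ * z⁻¹ * d⁻¹ * z * d,
  z1 ^ 5,
  z2 ^ 5,
  z3 ^ 5,
  z4 ^ 5,
  z1 * c * z1⁻¹ * c⁻¹,
  z1 * d * z1⁻¹ * d⁻¹,
  z1 * t * z1⁻¹ * t⁻¹,
  z1 * z * z1⁻¹ * z⁻¹,
  z2 * c * z2⁻¹ * c⁻¹,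
  z2 * d * z2⁻¹ * d⁻¹,
  z2 * t * z2⁻¹ * t⁻¹,
  z2 * z * z2⁻¹ * z⁻¹,
  z3 * c * z3⁻¹ * c⁻¹,
  z3 * d * z3⁻¹ * d⁻¹,
  z3 * t * z3⁻¹ * t⁻¹,
  z3 * z * z3⁻¹ * z⁻¹,
  z4 * c * z4⁻¹ * c⁻¹,
  z4 * d * z4⁻¹ * d⁻¹,
  z4 * t * z4⁻¹ * t⁻¹,
  z4 * z * z4⁻¹ * z⁻¹,
  c ^ 7,
  c * c * d * c⁻¹ * d * c * d⁻¹ * c * d * c⁻¹ * d,
  (c * c * c * d) ^ 3,
  c * c * d * d * c * c * d⁻¹ * d⁻¹ * c * c * d⁻¹ * d⁻¹ ]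

end SC2J2p5

end Cfsg.Agent.Lib.Helper4
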