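import Mathlib
import Cfsg.Prelude.Def_SporCoxeter

/-! The auxiliary presentation `SC2O73p2` for stem extensions of `C2O73` with kernel of order 2 (generated). -/

namespace Cfsg.Agent.Lib.Helper4

namespace SC2O73p2

/-- the generators -/
inductive Gen
  | c
  | d
  | t
  | v
  | u
  | z
  | r1
  | r2
  | r3
  | r4
  | r5
  | r6
  | r7
  | r8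
  | r9
  | r10
  | r11
  | r12
  | r13
  | r14
  | r15
  | r16
  | r17
  | r18
  | r19
  | y0
  | kc
  | kd
  | kt
  | ku
  deriving DecidableEq

abbrev c : FreeGroup Gen := FreeGroup.of Gen.c
abbrev d : FreeGroup Gen := FreeGroup.of Gen.d
abbrev t : FreeGroup Gen := FreeGroup.of Gen.t
abbrev v : FreeGroup Gen := FreeGroup.of Gen.v
abbrev u : FreeGroup Gen := FreeGroup.of Gen.u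
abbrev z : FreeGroup Gen := FreeGroup.of Gen.z
abbrev r1 : FreeGroup Gen := FreeGroup.of Gen.r1
abbrev r2 : FreeGroup Gen := FreeGroup.of Gen.r2
abbrev r3 : FreeGroup Gen := FreeGroup.of Gen.r3
abbrev r4 : FreeGroup Gen := FreeGroup.of Gen.r4
abbrev r5 : FreeGroup Gen := FreeGroup.of Gen.r5
abbrev r6 : FreeGroup Gen := FreeGroup.of Gen.r6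
abbrev r7 : FreeGroup Gen := FreeGroup.of Gen.r7
abbrev r8 : FreeGroup Gen := FreeGroup.of Gen.r8
abbrev r9 : FreeGroup Gen := FreeGroup.of Gen.r9
abbrev r10 : FreeGroup Gen := FreeGroup.of Gen.r10
abbrev r11 : FreeGroup Gen := FreeGroup.of Gen.r11
abbrev r12 : FreeGroup Gen := FreeGroup.of Gen.r12
abbrev r13 : FreeGroup Gen := FreeGroup.of Gen.r13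
abbrev r14 : FreeGroup Gen := FreeGroup.of Gen.r14
abbrev r15 : FreeGroup Gen := FreeGroup.of Gen.r15
abbrev r16 : FreeGroup Gen := FreeGroup.of Gen.r16
abbrev r17 : FreeGroup Gen := FreeGroup.of Gen.r17
abbrev r18 : FreeGroup Gen := FreeGroup.of Gen.r18
abbrev r19 : FreeGroup Gen := FreeGroup.of Gen.r19
abbrev y0 : FreeGroup Gen := FreeGroup.of Gen.y0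
abbrev kc : FreeGroup Gen := FreeGroup.of Gen.kc
abbrev kd : FreeGroup Gen := FreeGroup.of Gen.kd
abbrev kt : FreeGroup Gen := FreeGroup.of Gen.kt
abbrev ku : FreeGroup Gen := FreeGroup.of Gen.ku

/-- no Coxeter graph -/
def edges : List (Gen × ℕ × Gen) := []

/-- the relators -/
def extra : List (FreeGroup Gen) := [
  c ^ 7,
  d ^ 4,
  t ^ 3,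
  v ^ 7,
  u⁻¹ * v * c⁻¹,
  z⁻¹ * u * u,
  r1⁻¹ * c * u * c⁻¹ * u * c * u * c⁻¹ * u * z⁻¹,
  r2⁻¹ * d * u * d⁻¹ * u * d * u * d⁻¹ * u * z⁻¹,
  r3⁻¹ * c * c * d * c * u * c⁻¹ * d⁻¹ * c⁻¹ * c⁻¹ * u * z⁻¹,
  r4⁻¹ * c * d⁻¹ * t⁻¹ * d * u * d⁻¹ * t * d * c⁻¹ * u * z⁻¹,
  r5⁻¹ * c * d⁻¹ * t * t * d * u * d⁻¹ * t * d * c⁻¹ * u * z⁻¹,
  r6⁻¹ * c * c * c * t * c⁻¹ * c⁻¹ * u * d⁻¹ * t * d * c⁻¹ * u * z⁻¹,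
  r7⁻¹ * c * c * d * c * u * c⁻¹ * d * d * d * c⁻¹ * c⁻¹ * u * z⁻¹,
  r8⁻¹ * c * d * u * d * c⁻¹ * t⁻¹ * c * d * u * d * c⁻¹ * t⁻¹,
  r9⁻¹ * c * d * u * d⁻¹ * c⁻¹ * t * c * d⁻¹ * u * d * c⁻¹ * t⁻¹,
  r10⁻¹ * c * d * u * d⁻¹ * c⁻¹ * t * c * d⁻¹ * u * d * c⁻¹ * t * t,
  r11⁻¹ * c * c * t * c⁻¹ * d * c⁻¹ * u * c * d⁻¹ * c⁻¹ * d⁻¹ * t * d * u * z⁻¹,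
  r12⁻¹ * c * d * d * c * t⁻¹ * c * u * c⁻¹ * t * c⁻¹ * d * d * c⁻¹ * u,
  r13⁻¹ * c * d * c⁻¹ * t⁻¹ * c * u * c⁻¹ * t * c * d⁻¹ * c⁻¹ * d⁻¹ * u * d,
  r14⁻¹ * c * c * d⁻¹ * c * u * c⁻¹ * d * c⁻¹ * c⁻¹ * t * d⁻¹ * u * d * t⁻¹,
  r15⁻¹ * c * c * d * d * u * d * d * c⁻¹ * c⁻¹ * t * d * u * d⁻¹ * t⁻¹ * z⁻¹,
  r16⁻¹ * c * t * d * u * d⁻¹ * t⁻¹ * c⁻¹ * d * t⁻¹ * c⁻¹ * u * c * t * d⁻¹ * z⁻¹,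
  r17⁻¹ * c * d⁻¹ * d⁻¹ * c * t⁻¹ * u * t * c⁻¹ * d * d * c⁻¹ * t⁻¹ * u * t * z⁻¹,
  r18⁻¹ * c * c * d⁻¹ * c * t * c⁻¹ * u * d * c⁻¹ * c⁻¹ * d * c * t⁻¹ * u * c⁻¹ * d⁻¹ * z⁻¹,
  r19⁻¹ * c * c * d⁻¹ * c * d * c * d⁻¹ * u * t * u * t * u * d⁻¹ * c * d * t * c⁻¹ * t,
  y0⁻¹ * z * z,
  kc⁻¹ * z⁻¹ * c⁻¹ * z * c,
  kd⁻¹ * z⁻¹ * d⁻¹ * z * d,
  kt⁻¹ * z⁻¹ * t⁻¹ * z * t,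
  ku⁻¹ * z⁻¹ * u⁻¹ * z * u,
  r1 ^ 2,
  r2 ^ 2,
  r3 ^ 2,
  r4 ^ 2,
  r5 ^ 2,
  r6 ^ 2,
  r7 ^ 2,
  r8 ^ 2,
  r9 ^ 2,
  r10 ^ 2,
  r11 ^ 2,
  r12 ^ 2,
  r13 ^ 2,
  r14 ^ 2,
  r15 ^ 2,
  r16 ^ 2,
  r17 ^ 2,
  r18 ^ 2,
  r19 ^ 2,
  y0 ^ 2,
  kc ^ 2,
  kd ^ 2,
  kt ^ 2,
  ku ^ 2,
  r1 * c * r1⁻¹ * c⁻¹,
  r1 * d * r1⁻¹ * d⁻¹,
  r1 * t * r1⁻¹ * t⁻¹,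
  r1 * v * r1⁻¹ * v⁻¹,
  r1 * u * r1⁻¹ * u⁻¹,
  r1 * z * r1⁻¹ * z⁻¹,
  r2 * c * r2⁻¹ * c⁻¹,
  r2 * d * r2⁻¹ * d⁻¹,
  r2 * t * r2⁻¹ * t⁻¹,
  r2 * v * r2⁻¹ * v⁻¹,
  r2 * u * r2⁻¹ * u⁻¹,
  r2 * z * r2⁻¹ * z⁻¹,
  r3 * c * r3⁻¹ * c⁻¹,
  r3 * d * r3⁻¹ * d⁻¹,
  r3 * t * r3⁻¹ * t⁻¹,
  r3 * v * r3⁻¹ * v⁻¹,
  r3 * u * r3⁻¹ * u⁻¹,
  r3 * z * r3⁻¹ * z⁻¹,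
  r4 * c * r4⁻¹ * c⁻¹,
  r4 * d * r4⁻¹ * d⁻¹,
  r4 * t * r4⁻¹ * t⁻¹,
  r4 * v * r4⁻¹ * v⁻¹,
  r4 * u * r4⁻¹ * u⁻¹,
  r4 * z * r4⁻¹ * z⁻¹,
  r5 * c * r5⁻¹ * c⁻¹,
  r5 * d * r5⁻¹ * d⁻¹,
  r5 * t * r5⁻¹ * t⁻¹,
  r5 * v * r5⁻¹ * v⁻¹,
  r5 * u * r5⁻¹ * u⁻¹,
  r5 * z * r5⁻¹ * z⁻¹,
  r6 * c * r6⁻¹ * c⁻¹,
  r6 * d * r6⁻¹ * d⁻¹,
  r6 * t * r6⁻¹ * t⁻¹,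
  r6 * v * r6⁻¹ * v⁻¹,
  r6 * u * r6⁻¹ * u⁻¹,
  r6 * z * r6⁻¹ * z⁻¹,
  r7 * c * r7⁻¹ * c⁻¹,
  r7 * d * r7⁻¹ * d⁻¹,
  r7 * t * r7⁻¹ * t⁻¹,
  r7 * v * r7⁻¹ * v⁻¹,
  r7 * u * r7⁻¹ * u⁻¹,
  r7 * z * r7⁻¹ * z⁻¹,
  r8 * c * r8⁻¹ * c⁻¹,
  r8 * d * r8⁻¹ * d⁻¹,
  r8 * t * r8⁻¹ * t⁻¹,
  r8 * v * r8⁻¹ * v⁻¹,
  r8 * u * r8⁻¹ * u⁻¹,
  r8 * z * r8⁻¹ * z⁻¹,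
  r9 * c * r9⁻¹ * c⁻¹,
  r9 * d * r9⁻¹ * d⁻¹,
  r9 * t * r9⁻¹ * t⁻¹,
  r9 * v * r9⁻¹ * v⁻¹,
  r9 * u * r9⁻¹ * u⁻¹,
  r9 * z * r9⁻¹ * z⁻¹,
  r10 * c * r10⁻¹ * c⁻¹,
  r10 * d * r10⁻¹ * d⁻¹,
  r10 * t * r10⁻¹ * t⁻¹,
  r10 * v * r10⁻¹ * v⁻¹,
  r10 * u * r10⁻¹ * u⁻¹,
  r10 * z * r10⁻¹ * z⁻¹,
  r11 * c * r11⁻¹ * c⁻¹,
  r11 * d * r11⁻¹ * d⁻¹,
  r11 * t * r11⁻¹ * t⁻¹,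
  r11 * v * r11⁻¹ * v⁻¹,
  r11 * u * r11⁻¹ * u⁻¹,
  r11 * z * r11⁻¹ * z⁻¹,
  r12 * c * r12⁻¹ * c⁻¹,
  r12 * d * r12⁻¹ * d⁻¹,
  r12 * t * r12⁻¹ * t⁻¹,
  r12 * v * r12⁻¹ * v⁻¹,
  r12 * u * r12⁻¹ * u⁻¹,
  r12 * z * r12⁻¹ * z⁻¹,
  r13 * c * r13⁻¹ * c⁻¹,
  r13 * d * r13⁻¹ * d⁻¹,
  r13 * t * r13⁻¹ * t⁻¹,
  r13 * v * r13⁻¹ * v⁻¹,
  r13 * u * r13⁻¹ * u⁻¹,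
  r13 * z * r13⁻¹ * z⁻¹,
  r14 * c * r14⁻¹ * c⁻¹,
  r14 * d * r14⁻¹ * d⁻¹,
  r14 * t * r14⁻¹ * t⁻¹,
  r14 * v * r14⁻¹ * v⁻¹,
  r14 * u * r14⁻¹ * u⁻¹,
  r14 * z * r14⁻¹ * z⁻¹,
  r15 * c * r15⁻¹ * c⁻¹,
  r15 * d * r15⁻¹ * d⁻¹,
  r15 * t * r15⁻¹ * t⁻¹,
  r15 * v * r15⁻¹ * v⁻¹,
  r15 * u * r15⁻¹ * u⁻¹,
  r15 * z * r15⁻¹ * z⁻¹,
  r16 * c * r16⁻¹ * c⁻¹,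
  r16 * d * r16⁻¹ * d⁻¹,
  r16 * t * r16⁻¹ * t⁻¹,
  r16 * v * r16⁻¹ * v⁻¹,
  r16 * u * r16⁻¹ * u⁻¹,
  r16 * z * r16⁻¹ * z⁻¹,
  r17 * c * r17⁻¹ * c⁻¹,
  r17 * d * r17⁻¹ * d⁻¹,
  r17 * t * r17⁻¹ * t⁻¹,
  r17 * v * r17⁻¹ * v⁻¹,
  r17 * u * r17⁻¹ * u⁻¹,
  r17 * z * r17⁻¹ * z⁻¹,
  r18 * c * r18⁻¹ * c⁻¹,
  r18 * d * r18⁻¹ * d⁻¹,
  r18 * t * r18⁻¹ * t⁻¹,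
  r18 * v * r18⁻¹ * v⁻¹,
  r18 * u * r18⁻¹ * u⁻¹,
  r18 * z * r18⁻¹ * z⁻¹,
  r19 * c * r19⁻¹ * c⁻¹,
  r19 * d * r19⁻¹ * d⁻¹,
  r19 * t * r19⁻¹ * t⁻¹,
  r19 * v * r19⁻¹ * v⁻¹,
  r19 * u * r19⁻¹ * u⁻¹,
  r19 * z * r19⁻¹ * z⁻¹,
  y0 * c * y0⁻¹ * c⁻¹,
  y0 * d * y0⁻¹ * d⁻¹,
  y0 * t * y0⁻¹ * t⁻¹,
  y0 * v * y0⁻¹ * v⁻¹,
  y0 * u * y0⁻¹ * u⁻¹,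
  y0 * z * y0⁻¹ * z⁻¹,
  kc * c * kc⁻¹ * c⁻¹,
  kc * d * kc⁻¹ * d⁻¹,
  kc * t * kc⁻¹ * t⁻¹,
  kc * v * kc⁻¹ * v⁻¹,
  kc * u * kc⁻¹ * u⁻¹,
  kc * z * kc⁻¹ * z⁻¹,
  kd * c * kd⁻¹ * c⁻¹,
  kd * d * kd⁻¹ * d⁻¹,
  kd * t * kd⁻¹ * t⁻¹,
  kd * v * kd⁻¹ * v⁻¹,
  kd * u * kd⁻¹ * u⁻¹,
  kd * z * kd⁻¹ * z⁻¹,
  kt * c * kt⁻¹ * c⁻¹,
  kt * d * kt⁻¹ * d⁻¹,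
  kt * t * kt⁻¹ * t⁻¹,
  kt * v * kt⁻¹ * v⁻¹,
  kt * u * kt⁻¹ * u⁻¹,
  kt * z * kt⁻¹ * z⁻¹,
  ku * c * ku⁻¹ * c⁻¹,
  ku * d * ku⁻¹ * d⁻¹,
  ku * t * ku⁻¹ * t⁻¹,
  ku * v * ku⁻¹ * v⁻¹,
  ku * u * ku⁻¹ * u⁻¹,
  ku * z * ku⁻¹ * z⁻¹,
  c ^ 7,
  c * c * d * c⁻¹ * d * c * d⁻¹ * c * d * c⁻¹ * d,
  (c * c * c * d) ^ 3,
  c * c * d * d * c * c * d⁻¹ * d⁻¹ * c * c * d⁻¹ * d⁻¹,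
  t ^ 3,
  c * c * t * c⁻¹ * c⁻¹ * d⁻¹ * t * d,
  (c * d * t) ^ 3,
  c * d * d * c⁻¹ * t * c * d⁻¹ * d⁻¹ * c⁻¹ * t,
  c * t * c⁻¹ * t * c⁻¹ * d * t * d⁻¹ * c * t⁻¹,
  c * c * d⁻¹ * c * t * c⁻¹ * d * c⁻¹ * c⁻¹ * d * c * t⁻¹ * c⁻¹ * d⁻¹ ]

end SC2O73p2

end Cfsg.Agent.Lib.Helper4
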