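import Mathlib
import Cfsg.Prelude.Def_SporCoxeter

/-! The auxiliary presentation `SC2Sp62p2` for stem extensions of `C2Sp62` with kernel of order 2 (generated). -/

namespace Cfsg.Agent.Lib.Helper4

namespace SC2Sp62p2

/-- the generators -/
inductive Gen
  | c
  | d
  | x
  | a
  | z
  | z1
  deriving DecidableEq

abbrev c : FreeGroup Gen := FreeGroup.of Gen.c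
abbrev d : FreeGroup Gen := FreeGroup.of Gen.d
abbrev x : FreeGroup Gen := FreeGroup.of Gen.x
abbrev a : FreeGroup Gen := FreeGroup.of Gen.a
abbrev z : FreeGroup Gen := FreeGroup.of Gen.z
abbrev z1 : FreeGroup Gen := FreeGroup.of Gen.z1

/-- no Coxeter graph -/
def edges : List (Gen × ℕ × Gen) := []

/-- the relators -/
def extra : List (FreeGroup Gen) := [
  c ^ 7,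
  d ^ 4,
  x ^ 9,
  a⁻¹ * x * c⁻¹,
  z⁻¹ * a * a,
  z1⁻¹ * z * z,
  z1 ^ 2,
  z1 * c * z1⁻¹ * c⁻¹,
  z1 * d * z1⁻¹ * d⁻¹,
  z1 * x * z1⁻¹ * x⁻¹,
  z1 * a * z1⁻¹ * a⁻¹,
  z1 * z * z1⁻¹ * z⁻¹,
  c ^ 7,
  c * c * d * c⁻¹ * d * c * d⁻¹ * c * d * c⁻¹ * d,
  (c * c * c * d) ^ 3,
  c * c * d * d * c * c * d⁻¹ * d⁻¹ * c * c * d⁻¹ * d⁻¹,
  x * c⁻¹ * d * c⁻¹ * c⁻¹ * c⁻¹ * d * d * (x * c⁻¹)⁻¹ * (d * c⁻¹ * c⁻¹ * c⁻¹ * d * d)⁻¹,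
  x * c⁻¹ * d * d * c⁻¹ * c⁻¹ * c⁻¹ * d * (x * c⁻¹)⁻¹ * (d * d * c⁻¹ * c⁻¹ * c⁻¹ * d)⁻¹,
  x * x * c⁻¹ * c * d * c * c * (x * x * c⁻¹)⁻¹ * (c * c * d * c)⁻¹,
  x * x * c⁻¹ * c⁻¹ * d⁻¹ * c * c * d * c⁻¹ * d⁻¹ * (x * x * c⁻¹)⁻¹ * (c * d⁻¹ * c⁻¹ * d * c⁻¹ * c⁻¹ * d⁻¹ * c)⁻¹,
  x * c * x⁻¹ * c * d * c * c * (x * c * x⁻¹)⁻¹ * (c * c * d * c)⁻¹,
  x * c * x⁻¹ * c⁻¹ * d⁻¹ * c * c * d * c⁻¹ * d⁻¹ * (x * c * x⁻¹)⁻¹ * (c * d⁻¹ * c⁻¹ * d * c⁻¹ * c⁻¹ * d⁻¹ * c)⁻¹,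
  x * c * x * c⁻¹ * c * d⁻¹ * c⁻¹ * d⁻¹ * c⁻¹ * d * c * (x * c * x * c⁻¹)⁻¹ * (c * c * d * c * d * c⁻¹ * d⁻¹)⁻¹,
  x * c * x * c⁻¹ * c⁻¹ * c⁻¹ * d⁻¹ * c⁻¹ * d⁻¹ * c * d * (x * c * x * c⁻¹)⁻¹ * (c⁻¹ * d * c * d * c * d⁻¹ * c⁻¹)⁻¹ ]

end SC2Sp62p2

end Cfsg.Agent.Lib.Helper4
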