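import Mathlib
import Cfsg.Prelude.Def_SporCoxeter

/-! The auxiliary presentation `SC2Sp62p3` for stem extensions of `C2Sp62` with kernel of order 3 (generated). -/

namespace Cfsg.Agent.Lib.Helper4

namespace SC2Sp62p3

/-- the generators -/
inductive Gen
  | c
  | d
  | a
  | z
  | z1
  deriving DecidableEq

abbrev c : FreeGroup Gen := FreeGroup.of Gen.c
abbrev d : FreeGroup Gen := FreeGroup.of Gen.d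
abbrev a : FreeGroup Gen := FreeGroup.of Gen.a
abbrev z : FreeGroup Gen := FreeGroup.of Gen.z
abbrev z1 : FreeGroup Gen := FreeGroup.of Gen.z1

/-- no Coxeter graph -/
def edges : List (Gen × ℕ × Gen) := []

/-- the relators -/
def extra : List (FreeGroup Gen) := [
  c ^ 7,
  d ^ 4,
  a ^ 4,
  z⁻¹ * a * a,
  z1⁻¹ * ((a * c) ^ 9),
  z1 ^ 3,
  z1 * c * z1⁻¹ * c⁻¹,
  z1 * d * z1⁻¹ * d⁻¹,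
  z1 * a * z1⁻¹ * a⁻¹,
  z1 * z * z1⁻¹ * z⁻¹,
  c ^ 7,
  c * c * d * c⁻¹ * d * c * d⁻¹ * c * d * c⁻¹ * d,
  (c * c * c * d) ^ 3,
  c * c * d * d * c * c * d⁻¹ * d⁻¹ * c * c * d⁻¹ * d⁻¹,
  a * d * c * d * a⁻¹ * (d * c * d)⁻¹,
  a * c * d⁻¹ * c * c * d⁻¹ * c * a⁻¹ * (c * d⁻¹ * c * c * d⁻¹ * c)⁻¹,
  a * c * a * a * a * (a * c * a)⁻¹ * (a * a)⁻¹,
  a * c * a * c⁻¹ * d * d * c⁻¹ * d * d * (a * c * a)⁻¹ * (d⁻¹ * c⁻¹ * d * d * c * d)⁻¹,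
  a * c * a * d * c * d * d * c⁻¹ * d⁻¹ * (a * c * a)⁻¹ * (c * d * d * c * d * d)⁻¹,
  a * c * a * c⁻¹ * d⁻¹ * c * c * d⁻¹ * c⁻¹ * d⁻¹ * (a * c * a)⁻¹ * (c * d * c⁻¹ * c⁻¹ * d * c * d)⁻¹,
  a * c * a⁻¹ * a * a * (a * c * a⁻¹)⁻¹ * (a * a)⁻¹,
  a * c * a⁻¹ * c⁻¹ * d * d * c⁻¹ * d * d * (a * c * a⁻¹)⁻¹ * (d⁻¹ * c⁻¹ * d * d * c * d)⁻¹,
  a * c * a⁻¹ * d * c * d * d * c⁻¹ * d⁻¹ * (a * c * a⁻¹)⁻¹ * (c * d * d * c * d * d)⁻¹,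
  a * c * a⁻¹ * c⁻¹ * d⁻¹ * c * c * d⁻¹ * c⁻¹ * d⁻¹ * (a * c * a⁻¹)⁻¹ * (c * d * c⁻¹ * c⁻¹ * d * c * d)⁻¹,
  a * c * c * a * a * a * (a * c * c * a)⁻¹ * (a * a)⁻¹,
  a * c * c * a * c * d * c * c * c * (a * c * c * a)⁻¹ * (d * c⁻¹ * d⁻¹ * c⁻¹ * d⁻¹ * c * d⁻¹)⁻¹,
  a * c * c * a * d⁻¹ * c * d * c * d * c⁻¹ * d * (a * c * c * a)⁻¹ * (c⁻¹ * d⁻¹ * c⁻¹ * c⁻¹ * c⁻¹)⁻¹ ]

end SC2Sp62p3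

end Cfsg.Agent.Lib.Helper4
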