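import Mathlib
import Cfsg.Prelude.Def_SporCoxeter

/-! The auxiliary presentation `SC3Fi22yp3` for stem extensions of `C3Fi22y` with kernel of order 3 (generated). -/

namespace Cfsg.Agent.Lib.Helper4

namespace SC3Fi22yp3

/-- the generators -/
inductive Gen
  | b
  | c
  | d
  | e
  | f
  | g
  | h
  | i
  | z
  | a
  | a1
  | cc
  | cd
  | ce
  | cf
  | cg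
  | ch
  | ci
  | r1
  | kz
  deriving DecidableEq

abbrev b : FreeGroup Gen := FreeGroup.of Gen.b
abbrev c : FreeGroup Gen := FreeGroup.of Gen.c
abbrev d : FreeGroup Gen := FreeGroup.of Gen.d
abbrev e : FreeGroup Gen := FreeGroup.of Gen.e
abbrev f : FreeGroup Gen := FreeGroup.of Gen.f
abbrev g : FreeGroup Gen := FreeGroup.of Gen.g
abbrev h : FreeGroup Gen := FreeGroup.of Gen.h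
abbrev i : FreeGroup Gen := FreeGroup.of Gen.i
abbrev z : FreeGroup Gen := FreeGroup.of Gen.z
abbrev a : FreeGroup Gen := FreeGroup.of Gen.a
abbrev a1 : FreeGroup Gen := FreeGroup.of Gen.a1
abbrev cc : FreeGroup Gen := FreeGroup.of Gen.cc
abbrev cd : FreeGroup Gen := FreeGroup.of Gen.cd
abbrev ce : FreeGroup Gen := FreeGroup.of Gen.ce
abbrev cf : FreeGroup Gen := FreeGroup.of Gen.cf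
abbrev cg : FreeGroup Gen := FreeGroup.of Gen.cg
abbrev ch : FreeGroup Gen := FreeGroup.of Gen.ch
abbrev ci : FreeGroup Gen := FreeGroup.of Gen.ci
abbrev r1 : FreeGroup Gen := FreeGroup.of Gen.r1
abbrev kz : FreeGroup Gen := FreeGroup.of Gen.kz

/-- no Coxeter graph -/
def edges : List (Gen × ℕ × Gen) := []

/-- the relators -/
def extra : List (FreeGroup Gen) := [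
  b ^ 2,
  c ^ 2,
  d ^ 2,
  e ^ 2,
  f ^ 2,
  g ^ 2,
  h ^ 2,
  i ^ 2,
  z ^ 3,
  a ^ 2,
  a1⁻¹ * ((a * b) ^ 3),
  cc⁻¹ * ((a * c) ^ 2),
  cd⁻¹ * ((a * d) ^ 2),
  ce⁻¹ * ((a * e) ^ 2),
  cf⁻¹ * ((a * f) ^ 2),
  cg⁻¹ * ((a * g) ^ 2),
  ch⁻¹ * ((a * h) ^ 2),
  ci⁻¹ * ((a * i) ^ 2),
  r1⁻¹ * ((a * b * c * d * e * f * h) ^ 9),
  kz⁻¹ * z⁻¹ * a⁻¹ * z * a,
  a1 ^ 3,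
  cc ^ 3,
  cd ^ 3,
  ce ^ 3,
  cf ^ 3,
  cg ^ 3,
  ch ^ 3,
  ci ^ 3,
  r1 ^ 3,
  kz ^ 3,
  a1 * b * a1⁻¹ * b⁻¹,
  a1 * c * a1⁻¹ * c⁻¹,
  a1 * d * a1⁻¹ * d⁻¹,
  a1 * e * a1⁻¹ * e⁻¹,
  a1 * f * a1⁻¹ * f⁻¹,
  a1 * g * a1⁻¹ * g⁻¹,
  a1 * h * a1⁻¹ * h⁻¹,
  a1 * i * a1⁻¹ * i⁻¹,
  a1 * z * a1⁻¹ * z⁻¹,
  a1 * a * a1⁻¹ * a⁻¹,
  cc * b * cc⁻¹ * b⁻¹,
  cc * c * cc⁻¹ * c⁻¹,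
  cc * d * cc⁻¹ * d⁻¹,
  cc * e * cc⁻¹ * e⁻¹,
  cc * f * cc⁻¹ * f⁻¹,
  cc * g * cc⁻¹ * g⁻¹,
  cc * h * cc⁻¹ * h⁻¹,
  cc * i * cc⁻¹ * i⁻¹,
  cc * z * cc⁻¹ * z⁻¹,
  cc * a * cc⁻¹ * a⁻¹,
  cd * b * cd⁻¹ * b⁻¹,
  cd * c * cd⁻¹ * c⁻¹,
  cd * d * cd⁻¹ * d⁻¹,
  cd * e * cd⁻¹ * e⁻¹,
  cd * f * cd⁻¹ * f⁻¹,
  cd * g * cd⁻¹ * g⁻¹,
  cd * h * cd⁻¹ * h⁻¹,
  cd * i * cd⁻¹ * i⁻¹,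
  cd * z * cd⁻¹ * z⁻¹,
  cd * a * cd⁻¹ * a⁻¹,
  ce * b * ce⁻¹ * b⁻¹,
  ce * c * ce⁻¹ * c⁻¹,
  ce * d * ce⁻¹ * d⁻¹,
  ce * e * ce⁻¹ * e⁻¹,
  ce * f * ce⁻¹ * f⁻¹,
  ce * g * ce⁻¹ * g⁻¹,
  ce * h * ce⁻¹ * h⁻¹,
  ce * i * ce⁻¹ * i⁻¹,
  ce * z * ce⁻¹ * z⁻¹,
  ce * a * ce⁻¹ * a⁻¹,
  cf * b * cf⁻¹ * b⁻¹,
  cf * c * cf⁻¹ * c⁻¹,
  cf * d * cf⁻¹ * d⁻¹,
  cf * e * cf⁻¹ * e⁻¹,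
  cf * f * cf⁻¹ * f⁻¹,
  cf * g * cf⁻¹ * g⁻¹,
  cf * h * cf⁻¹ * h⁻¹,
  cf * i * cf⁻¹ * i⁻¹,
  cf * z * cf⁻¹ * z⁻¹,
  cf * a * cf⁻¹ * a⁻¹,
  cg * b * cg⁻¹ * b⁻¹,
  cg * c * cg⁻¹ * c⁻¹,
  cg * d * cg⁻¹ * d⁻¹,
  cg * e * cg⁻¹ * e⁻¹,
  cg * f * cg⁻¹ * f⁻¹,
  cg * g * cg⁻¹ * g⁻¹,
  cg * h * cg⁻¹ * h⁻¹,
  cg * i * cg⁻¹ * i⁻¹,
  cg * z * cg⁻¹ * z⁻¹,
  cg * a * cg⁻¹ * a⁻¹,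
  ch * b * ch⁻¹ * b⁻¹,
  ch * c * ch⁻¹ * c⁻¹,
  ch * d * ch⁻¹ * d⁻¹,
  ch * e * ch⁻¹ * e⁻¹,
  ch * f * ch⁻¹ * f⁻¹,
  ch * g * ch⁻¹ * g⁻¹,
  ch * h * ch⁻¹ * h⁻¹,
  ch * i * ch⁻¹ * i⁻¹,
  ch * z * ch⁻¹ * z⁻¹,
  ch * a * ch⁻¹ * a⁻¹,
  ci * b * ci⁻¹ * b⁻¹,
  ci * c * ci⁻¹ * c⁻¹,
  ci * d * ci⁻¹ * d⁻¹,
  ci * e * ci⁻¹ * e⁻¹,
  ci * f * ci⁻¹ * f⁻¹,
  ci * g * ci⁻¹ * g⁻¹,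
  ci * h * ci⁻¹ * h⁻¹,
  ci * i * ci⁻¹ * i⁻¹,
  ci * z * ci⁻¹ * z⁻¹,
  ci * a * ci⁻¹ * a⁻¹,
  r1 * b * r1⁻¹ * b⁻¹,
  r1 * c * r1⁻¹ * c⁻¹,
  r1 * d * r1⁻¹ * d⁻¹,
  r1 * e * r1⁻¹ * e⁻¹,
  r1 * f * r1⁻¹ * f⁻¹,
  r1 * g * r1⁻¹ * g⁻¹,
  r1 * h * r1⁻¹ * h⁻¹,
  r1 * i * r1⁻¹ * i⁻¹,
  r1 * z * r1⁻¹ * z⁻¹,
  r1 * a * r1⁻¹ * a⁻¹,
  kz * b * kz⁻¹ * b⁻¹,
  kz * c * kz⁻¹ * c⁻¹,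
  kz * d * kz⁻¹ * d⁻¹,
  kz * e * kz⁻¹ * e⁻¹,
  kz * f * kz⁻¹ * f⁻¹,
  kz * g * kz⁻¹ * g⁻¹,
  kz * h * kz⁻¹ * h⁻¹,
  kz * i * kz⁻¹ * i⁻¹,
  kz * z * kz⁻¹ * z⁻¹,
  kz * a * kz⁻¹ * a⁻¹,
  b * b,
  b * c * b * c * b * c,
  b * d * b * d,
  b * e * b * e,
  b * h * b * h,
  b * f * b * f,
  b * g * b * g,
  b * i * b * i,
  c * c,
  c * d * c * d * c * d,
  c * e * c * e,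
  c * h * c * h,
  c * f * c * f,
  c * g * c * g,
  c * i * c * i,
  d * d,
  d * e * d * e * d * e,
  d * h * d * h * d * h,
  d * f * d * f,
  d * g * d * g,
  d * i * d * i,
  e * e,
  e * h * e * h,
  e * f * e * f * e * f,
  e * g * e * g,
  e * i * e * i,
  h * h,
  h * f * h * f,
  h * g * h * g,
  h * i * h * i * h * i,
  f * f,
  f * g * f * g * f * g,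
  f * i * f * i,
  g * g,
  g * i * g * i,
  i * i,
  z⁻¹ * b⁻¹ * z * b,
  z⁻¹ * c⁻¹ * z * c,
  z⁻¹ * d⁻¹ * z * d,
  z⁻¹ * e⁻¹ * z * e,
  z⁻¹ * f⁻¹ * z * f,
  z⁻¹ * g⁻¹ * z * g,
  z⁻¹ * h⁻¹ * z * h,
  z⁻¹ * i⁻¹ * z * i,
  z⁻¹ * ((d * c * b * d * e * f * d * h * i) ^ 10),
  (b * c * d * e * f * g * h) ^ 9 ]

end SC3Fi22yp3

end Cfsg.Agent.Lib.Helper4
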