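import Mathlib
import Cfsg.Prelude.Def_SporCoxeter

/-! The auxiliary presentation `SC3G23p3` for stem extensions of `C3G23` with kernel of order 3 (generated). -/

namespace Cfsg.Agent.Lib.Helper4

namespace SC3G23p3

/-- the generators -/
inductive Gen
  | c
  | d
  | u
  | t
  | z
  | z0
  | c0
  | c1
  | c2
  | c3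
  | z5
  | z6
  | z7
  | z8
  deriving DecidableEq

abbrev c : FreeGroup Gen := FreeGroup.of Gen.c
abbrev d : FreeGroup Gen := FreeGroup.of Gen.d
abbrev u : FreeGroup Gen := FreeGroup.of Gen.u
abbrev t : FreeGroup Gen := FreeGroup.of Gen.t
abbrev z : FreeGroup Gen := FreeGroup.of Gen.z
abbrev z0 : FreeGroup Gen := FreeGroup.of Gen.z0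
abbrev c0 : FreeGroup Gen := FreeGroup.of Gen.c0
abbrev c1 : FreeGroup Gen := FreeGroup.of Gen.c1
abbrev c2 : FreeGroup Gen := FreeGroup.of Gen.c2
abbrev c3 : FreeGroup Gen := FreeGroup.of Gen.c3
abbrev z5 : FreeGroup Gen := FreeGroup.of Gen.z5
abbrev z6 : FreeGroup Gen := FreeGroup.of Gen.z6
abbrev z7 : FreeGroup Gen := FreeGroup.of Gen.z7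
abbrev z8 : FreeGroup Gen := FreeGroup.of Gen.z8

/-- no Coxeter graph -/
def edges : List (Gen × ℕ × Gen) := []

/-- the relators -/
def extra : List (FreeGroup Gen) := [
  c ^ 7,
  d ^ 4,
  u ^ 7,
  t⁻¹ * u * c⁻¹ * d⁻¹ * c,
  z⁻¹ * c * c * d⁻¹ * c * t * c⁻¹ * d * c⁻¹ * c⁻¹ * d * c * t⁻¹ * c⁻¹ * d⁻¹,
  z0⁻¹ * (t ^ 3),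
  c0⁻¹ * c * c * t * c⁻¹ * c⁻¹ * d⁻¹ * t * d,
  c1⁻¹ * ((c * d * t) ^ 3),
  c2⁻¹ * c * d * d * c⁻¹ * t * c * d⁻¹ * d⁻¹ * c⁻¹ * t,
  c3⁻¹ * c * t * c⁻¹ * t * c⁻¹ * d * t * d⁻¹ * c * t⁻¹,
  z5⁻¹ * (z ^ 3),
  z6⁻¹ * z⁻¹ * c⁻¹ * z * c,
  z7⁻¹ * z⁻¹ * d⁻¹ * z * d,
  z8⁻¹ * z⁻¹ * t⁻¹ * z * t,
  z0 ^ 3,
  c0 ^ 3,
  c1 ^ 3,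
  c2 ^ 3,
  c3 ^ 3,
  z5 ^ 3,
  z6 ^ 3,
  z7 ^ 3,
  z8 ^ 3,
  z0 * c * z0⁻¹ * c⁻¹,
  z0 * d * z0⁻¹ * d⁻¹,
  z0 * u * z0⁻¹ * u⁻¹,
  z0 * t * z0⁻¹ * t⁻¹,
  z0 * z * z0⁻¹ * z⁻¹,
  c0 * c * c0⁻¹ * c⁻¹,
  c0 * d * c0⁻¹ * d⁻¹,
  c0 * u * c0⁻¹ * u⁻¹,
  c0 * t * c0⁻¹ * t⁻¹,
  c0 * z * c0⁻¹ * z⁻¹,
  c1 * c * c1⁻¹ * c⁻¹,
  c1 * d * c1⁻¹ * d⁻¹,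
  c1 * u * c1⁻¹ * u⁻¹,
  c1 * t * c1⁻¹ * t⁻¹,
  c1 * z * c1⁻¹ * z⁻¹,
  c2 * c * c2⁻¹ * c⁻¹,
  c2 * d * c2⁻¹ * d⁻¹,
  c2 * u * c2⁻¹ * u⁻¹,
  c2 * t * c2⁻¹ * t⁻¹,
  c2 * z * c2⁻¹ * z⁻¹,
  c3 * c * c3⁻¹ * c⁻¹,
  c3 * d * c3⁻¹ * d⁻¹,
  c3 * u * c3⁻¹ * u⁻¹,
  c3 * t * c3⁻¹ * t⁻¹,
  c3 * z * c3⁻¹ * z⁻¹,
  z5 * c * z5⁻¹ * c⁻¹,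
  z5 * d * z5⁻¹ * d⁻¹,
  z5 * u * z5⁻¹ * u⁻¹,
  z5 * t * z5⁻¹ * t⁻¹,
  z5 * z * z5⁻¹ * z⁻¹,
  z6 * c * z6⁻¹ * c⁻¹,
  z6 * d * z6⁻¹ * d⁻¹,
  z6 * u * z6⁻¹ * u⁻¹,
  z6 * t * z6⁻¹ * t⁻¹,
  z6 * z * z6⁻¹ * z⁻¹,
  z7 * c * z7⁻¹ * c⁻¹,
  z7 * d * z7⁻¹ * d⁻¹,
  z7 * u * z7⁻¹ * u⁻¹,
  z7 * t * z7⁻¹ * t⁻¹,
  z7 * z * z7⁻¹ * z⁻¹,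
  z8 * c * z8⁻¹ * c⁻¹,
  z8 * d * z8⁻¹ * d⁻¹,
  z8 * u * z8⁻¹ * u⁻¹,
  z8 * t * z8⁻¹ * t⁻¹,
  z8 * z * z8⁻¹ * z⁻¹,
  c ^ 7,
  c * c * d * c⁻¹ * d * c * d⁻¹ * c * d * c⁻¹ * d,
  (c * c * c * d) ^ 3,
  c * c * d * d * c * c * d⁻¹ * d⁻¹ * c * c * d⁻¹ * d⁻¹,
  t * c * t⁻¹ * c * d * d * (t * c * t⁻¹)⁻¹ * (c * c * d * d * c⁻¹)⁻¹,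
  t * c * t⁻¹ * d * d * c⁻¹ * (t * c * t⁻¹)⁻¹ * (c * d * d * c⁻¹ * c⁻¹)⁻¹,
  t * c⁻¹ * t⁻¹ * c * c * d * d * c⁻¹ * (t * c⁻¹ * t⁻¹)⁻¹ * (c * d * d)⁻¹,
  t * c⁻¹ * t⁻¹ * c * d * d * c⁻¹ * c⁻¹ * (t * c⁻¹ * t⁻¹)⁻¹ * (d * d * c⁻¹)⁻¹,
  t⁻¹ * c * t * c⁻¹ * c⁻¹ * d * d * c * c * (t⁻¹ * c * t)⁻¹ * (c⁻¹ * d * d * c)⁻¹,
  t⁻¹ * c⁻¹ * t * c⁻¹ * d * d * c * (t⁻¹ * c⁻¹ * t)⁻¹ * (c⁻¹ * c⁻¹ * d * d * c * c)⁻¹,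
  t⁻¹ * d * t * c * d⁻¹ * c * c * (t⁻¹ * d * t)⁻¹ * (d⁻¹ * c * d⁻¹ * c * d⁻¹ * c⁻¹ * d)⁻¹,
  t⁻¹ * d * t * c⁻¹ * c⁻¹ * d * c⁻¹ * (t⁻¹ * d * t)⁻¹ * (d⁻¹ * c * d * c⁻¹ * d * c⁻¹ * d)⁻¹,
  t⁻¹ * d⁻¹ * t * d⁻¹ * c * d * c⁻¹ * d * c⁻¹ * d * (t⁻¹ * d⁻¹ * t)⁻¹ * (c⁻¹ * c⁻¹ * d * c⁻¹)⁻¹,
  t⁻¹ * d⁻¹ * t * d⁻¹ * c * d⁻¹ * c * d⁻¹ * c⁻¹ * d * (t⁻¹ * d⁻¹ * t)⁻¹ * (c * d⁻¹ * c * c)⁻¹,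
  t * d * t⁻¹ * c * c * d * d * c⁻¹ * c⁻¹ * (t * d * t⁻¹)⁻¹ * (d⁻¹ * c⁻¹ * d * d * c * d)⁻¹,
  t * d⁻¹ * t⁻¹ * d⁻¹ * c⁻¹ * d * d * c * d * (t * d⁻¹ * t⁻¹)⁻¹ * (c * c * d * d * c⁻¹ * c⁻¹)⁻¹,
  t⁻¹ * d * t * d⁻¹ * c⁻¹ * d * d * c * d * (t⁻¹ * d * t)⁻¹ * (c * c * d * d * c⁻¹ * c⁻¹)⁻¹,
  t⁻¹ * d⁻¹ * t * c * c * d * d * c⁻¹ * c⁻¹ * (t⁻¹ * d⁻¹ * t)⁻¹ * (d⁻¹ * c⁻¹ * d * d * c * d)⁻¹,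
  t * d * t⁻¹ * c⁻¹ * d⁻¹ * c * d⁻¹ * c * c * d⁻¹ * c⁻¹ * d⁻¹ * (t * d * t⁻¹)⁻¹ * (c * d⁻¹ * c * c)⁻¹,
  t * d * t⁻¹ * d * c * d * c⁻¹ * c⁻¹ * d * c⁻¹ * d * c * (t * d * t⁻¹)⁻¹ * (c⁻¹ * c⁻¹ * d * c⁻¹)⁻¹,
  t * d⁻¹ * t⁻¹ * c * d⁻¹ * c * c * (t * d⁻¹ * t⁻¹)⁻¹ * (c⁻¹ * d⁻¹ * c * d⁻¹ * c * c * d⁻¹ * c⁻¹ * d⁻¹)⁻¹,
  t * d⁻¹ * t⁻¹ * c⁻¹ * c⁻¹ * d * c⁻¹ * (t * d⁻¹ * t⁻¹)⁻¹ * (d * c * d * c⁻¹ * c⁻¹ * d * c⁻¹ * d * c)⁻¹,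
  t⁻¹ * c * t * d * c⁻¹ * d * c⁻¹ * d * c * d⁻¹ * (t⁻¹ * c * t)⁻¹ * (d * c * d⁻¹ * c * c * d⁻¹)⁻¹,
  t⁻¹ * c * t * d * c⁻¹ * d⁻¹ * c * d⁻¹ * c * d⁻¹ * (t⁻¹ * c * t)⁻¹ * (d * c⁻¹ * c⁻¹ * d * c⁻¹ * d⁻¹)⁻¹,
  t⁻¹ * c⁻¹ * t * d * c * d⁻¹ * c * c * d⁻¹ * (t⁻¹ * c⁻¹ * t)⁻¹ * (d * c⁻¹ * d * c⁻¹ * d * c * d⁻¹)⁻¹,
  t⁻¹ * c⁻¹ * t * d * c⁻¹ * c⁻¹ * d * c⁻¹ * d⁻¹ * (t⁻¹ * c⁻¹ * t)⁻¹ * (d * c⁻¹ * d⁻¹ * c * d⁻¹ * c * d⁻¹)⁻¹,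
  t⁻¹ * d * t * d * c * c * d * d * c⁻¹ * d⁻¹ * (t⁻¹ * d * t)⁻¹ * (d⁻¹ * c⁻¹ * c⁻¹ * d⁻¹ * c⁻¹ * d⁻¹)⁻¹,
  t⁻¹ * d * t * d * c * d * d * c⁻¹ * c⁻¹ * d⁻¹ * (t⁻¹ * d * t)⁻¹ * (d * c * d * c * c * d)⁻¹,
  t⁻¹ * d⁻¹ * t * d * c * d * c * c * d * (t⁻¹ * d⁻¹ * t)⁻¹ * (d * c * d * d * c⁻¹ * c⁻¹ * d⁻¹)⁻¹,
  t⁻¹ * d⁻¹ * t * d⁻¹ * c⁻¹ * c⁻¹ * d⁻¹ * c⁻¹ * d⁻¹ * (t⁻¹ * d⁻¹ * t)⁻¹ * (d * c * c * d * d * c⁻¹ * d⁻¹)⁻¹,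
  t * c * t⁻¹ * c * d * d * c * d * d * (t * c * t⁻¹)⁻¹ * (c * c * d * d * c * d * d * c⁻¹)⁻¹,
  t * c⁻¹ * t⁻¹ * c * c * d * d * c * d * d * c⁻¹ * (t * c⁻¹ * t⁻¹)⁻¹ * (c * d * d * c * d * d)⁻¹,
  t * d * t⁻¹ * d⁻¹ * c * d * c⁻¹ * d * c⁻¹ * d * (t * d * t⁻¹)⁻¹ * (d * c * d * d * c⁻¹ * c⁻¹ * d⁻¹)⁻¹,
  t * d * t⁻¹ * d⁻¹ * c * d⁻¹ * c * d⁻¹ * c⁻¹ * d * (t * d * t⁻¹)⁻¹ * (d * c * c * d * d * c⁻¹ * d⁻¹)⁻¹,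
  t * d⁻¹ * t⁻¹ * d * c * c * d * d * c⁻¹ * d⁻¹ * (t * d⁻¹ * t⁻¹)⁻¹ * (d⁻¹ * c * d⁻¹ * c * d⁻¹ * c⁻¹ * d)⁻¹,
  t * d⁻¹ * t⁻¹ * d * c * d * d * c⁻¹ * c⁻¹ * d⁻¹ * (t * d⁻¹ * t⁻¹)⁻¹ * (d⁻¹ * c * d * c⁻¹ * d * c⁻¹ * d)⁻¹,
  t * c * t⁻¹ * c⁻¹ * d * c⁻¹ * c⁻¹ * d⁻¹ * c⁻¹ * d * c⁻¹ * d⁻¹ * (t * c * t⁻¹)⁻¹ * (d⁻¹ * c * d⁻¹ * c * c * d)⁻¹,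
  t * c * t⁻¹ * d * c * d⁻¹ * c * d * c * c * d⁻¹ * c * (t * c * t⁻¹)⁻¹ * (d⁻¹ * c⁻¹ * c⁻¹ * d * c⁻¹ * d)⁻¹,
  t * c⁻¹ * t⁻¹ * d⁻¹ * c * d⁻¹ * c * c * d * (t * c⁻¹ * t⁻¹)⁻¹ * (c⁻¹ * d * c⁻¹ * c⁻¹ * d⁻¹ * c⁻¹ * d * c⁻¹ * d⁻¹)⁻¹,
  t * c⁻¹ * t⁻¹ * d⁻¹ * c⁻¹ * c⁻¹ * d * c⁻¹ * d * (t * c⁻¹ * t⁻¹)⁻¹ * (d * c * d⁻¹ * c * d * c * c * d⁻¹ * c)⁻¹,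
  t * d * t⁻¹ * d * c * d * c * c * d * (t * d * t⁻¹)⁻¹ * (d * c⁻¹ * d⁻¹ * c * d * c⁻¹ * d * d * c)⁻¹,
  t * d * t⁻¹ * d⁻¹ * c⁻¹ * c⁻¹ * d⁻¹ * c⁻¹ * d⁻¹ * (t * d * t⁻¹)⁻¹ * (c⁻¹ * d * d * c * d⁻¹ * c⁻¹ * d * c * d⁻¹)⁻¹,
  t * d⁻¹ * t⁻¹ * c⁻¹ * d * d * c * d⁻¹ * c⁻¹ * d * c * d⁻¹ * (t * d⁻¹ * t⁻¹)⁻¹ * (d⁻¹ * c⁻¹ * c⁻¹ * d⁻¹ * c⁻¹ * d⁻¹)⁻¹,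
  t * d⁻¹ * t⁻¹ * d * c⁻¹ * d⁻¹ * c * d * c⁻¹ * d * d * c * (t * d⁻¹ * t⁻¹)⁻¹ * (d * c * d * c * c * d)⁻¹ ]

end SC3G23p3

end Cfsg.Agent.Lib.Helper4
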