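import Mathlib
import Cfsg.Prelude.Def_SporCoxeter

/-! The auxiliary presentation `SC3J3p3` for stem extensions of `C3J3` with kernel of order 3 (generated). -/

namespace Cfsg.Agent.Lib.Helper4

namespace SC3J3p3

/-- the generators -/
inductive Gen
  | x
  | y
  | t
  | z1
  | z2
  | z3
  | z4
  | z5
  | z6
  deriving DecidableEq

abbrev x : FreeGroup Gen := FreeGroup.of Gen.x
abbrev y : FreeGroup Gen := FreeGroup.of Gen.y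
abbrev t : FreeGroup Gen := FreeGroup.of Gen.t
abbrev z1 : FreeGroup Gen := FreeGroup.of Gen.z1
abbrev z2 : FreeGroup Gen := FreeGroup.of Gen.z2
abbrev z3 : FreeGroup Gen := FreeGroup.of Gen.z3
abbrev z4 : FreeGroup Gen := FreeGroup.of Gen.z4
abbrev z5 : FreeGroup Gen := FreeGroup.of Gen.z5
abbrev z6 : FreeGroup Gen := FreeGroup.of Gen.z6

/-- no Coxeter graph -/
def edges : List (Gen × ℕ × Gen) := []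

/-- the relators -/
def extra : List (FreeGroup Gen) := [
  x ^ 17,
  y ^ 2,
  t ^ 8,
  z1⁻¹ * y * t * y * t * t * y * t * y * t⁻¹ * y * t⁻¹ * t⁻¹ * y * t⁻¹,
  z2⁻¹ * x * y * t * t * y * t * x * t * y * t * t * y * t * x⁻¹ * t,
  z3⁻¹ * x * x * t * t * y * t * t * y * t * x * t * y * t * t * y,
  z4⁻¹ * x * x * y * x * t⁻¹ * t⁻¹ * y * t * x * y * x * y * x⁻¹ * y * t * y,
  z5⁻¹ * x * x * y * x * t⁻¹ * t⁻¹ * y * t * y * x * y * x⁻¹ * y * x⁻¹ * t * y,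
  z6⁻¹ * x * y * x * y * t⁻¹ * y * x * t⁻¹ * y * x * t⁻¹ * y * x * t⁻¹ * y * t⁻¹,
  z1 ^ 3,
  z2 ^ 3,
  z3 ^ 3,
  z4 ^ 3,
  z5 ^ 3,
  z6 ^ 3,
  z1 * x * z1⁻¹ * x⁻¹,
  z1 * y * z1⁻¹ * y⁻¹,
  z1 * t * z1⁻¹ * t⁻¹,
  z2 * x * z2⁻¹ * x⁻¹,
  z2 * y * z2⁻¹ * y⁻¹,
  z2 * t * z2⁻¹ * t⁻¹,
  z3 * x * z3⁻¹ * x⁻¹,
  z3 * y * z3⁻¹ * y⁻¹,
  z3 * t * z3⁻¹ * t⁻¹,
  z4 * x * z4⁻¹ * x⁻¹,
  z4 * y * z4⁻¹ * y⁻¹,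
  z4 * t * z4⁻¹ * t⁻¹,
  z5 * x * z5⁻¹ * x⁻¹,
  z5 * y * z5⁻¹ * y⁻¹,
  z5 * t * z5⁻¹ * t⁻¹,
  z6 * x * z6⁻¹ * x⁻¹,
  z6 * y * z6⁻¹ * y⁻¹,
  z6 * t * z6⁻¹ * t⁻¹,
  x ^ 17,
  y ^ 2,
  (x * x * x * y * x⁻¹ * y * x * y) ^ 2,
  ((x ^ 5) * y) ^ 3,
  t * x * t⁻¹ * (x * x)⁻¹,
  t * t * y * (t * t)⁻¹ * (x⁻¹ * x⁻¹ * x⁻¹ * y * x * y * x * y * x * x)⁻¹,
  t * t * ((x * y) ^ 3) * (t * t)⁻¹ * (y * x * x * x * x * x * y * x)⁻¹ ]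

end SC3J3p3

end Cfsg.Agent.Lib.Helper4
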