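import Mathlib
import Cfsg.Prelude.Def_SporCoxeter

/-! The auxiliary presentation `SC3McLp3` for stem extensions of `C3McL` with kernel of order 3 (generated). -/

namespace Cfsg.Agent.Lib.Helper4

namespace SC3McLp3

/-- the generators -/
inductive Gen
  | x
  | y
  | u
  | t
  | z
  | z0
  | c0
  | c2
  | c4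
  | c6
  | c8
  | z5
  | z6
  | z7
  | z8
  deriving DecidableEq

abbrev x : FreeGroup Gen := FreeGroup.of Gen.x
abbrev y : FreeGroup Gen := FreeGroup.of Gen.y
abbrev u : FreeGroup Gen := FreeGroup.of Gen.u
abbrev t : FreeGroup Gen := FreeGroup.of Gen.t
abbrev z : FreeGroup Gen := FreeGroup.of Gen.z
abbrev z0 : FreeGroup Gen := FreeGroup.of Gen.z0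
abbrev c0 : FreeGroup Gen := FreeGroup.of Gen.c0
abbrev c2 : FreeGroup Gen := FreeGroup.of Gen.c2
abbrev c4 : FreeGroup Gen := FreeGroup.of Gen.c4
abbrev c6 : FreeGroup Gen := FreeGroup.of Gen.c6
abbrev c8 : FreeGroup Gen := FreeGroup.of Gen.c8
abbrev z5 : FreeGroup Gen := FreeGroup.of Gen.z5
abbrev z6 : FreeGroup Gen := FreeGroup.of Gen.z6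
abbrev z7 : FreeGroup Gen := FreeGroup.of Gen.z7
abbrev z8 : FreeGroup Gen := FreeGroup.of Gen.z8

/-- no Coxeter graph -/
def edges : List (Gen × ℕ × Gen) := []

/-- the relators -/
def extra : List (FreeGroup Gen) := [
  x ^ 7,
  y ^ 7,
  u ^ 11,
  t⁻¹ * u * y,
  z⁻¹ * x * x * x * y⁻¹ * t * x⁻¹ * x⁻¹ * y⁻¹ * x * y⁻¹ * x * t⁻¹ * y⁻¹ * y⁻¹ * x * y,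
  z0⁻¹ * (t ^ 3),
  c0⁻¹ * x * x * y⁻¹ * x * y * y * t⁻¹ * x * y * x⁻¹ * y⁻¹ * x⁻¹ * t⁻¹ * y * x * y⁻¹,
  c2⁻¹ * x * x * y * x⁻¹ * y⁻¹ * x * y * x * t⁻¹ * y * y * x * y * x * t⁻¹ * y⁻¹ * z,
  c4⁻¹ * x * x * y * x * y⁻¹ * t⁻¹ * x * y * x * x * t * x⁻¹ * t * x * x * y⁻¹ * y⁻¹,
  c6⁻¹ * x * x * t * x⁻¹ * y * t⁻¹ * y⁻¹ * x⁻¹ * t * x * t⁻¹ * x⁻¹ * y⁻¹ * y⁻¹ * x * y⁻¹,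
  c8⁻¹ * x * x * x * x * y⁻¹ * x⁻¹ * t⁻¹ * y * x⁻¹ * x⁻¹ * x⁻¹ * y * y * x⁻¹ * t⁻¹ * x * t⁻¹,
  z5⁻¹ * (z ^ 3),
  z6⁻¹ * z⁻¹ * x⁻¹ * z * x,
  z7⁻¹ * z⁻¹ * y⁻¹ * z * y,
  z8⁻¹ * z⁻¹ * t⁻¹ * z * t,
  z0 ^ 3,
  c0 ^ 3,
  c2 ^ 3,
  c4 ^ 3,
  c6 ^ 3,
  c8 ^ 3,
  z5 ^ 3,
  z6 ^ 3,
  z7 ^ 3,
  z8 ^ 3,
  z0 * x * z0⁻¹ * x⁻¹,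
  z0 * y * z0⁻¹ * y⁻¹,
  z0 * u * z0⁻¹ * u⁻¹,
  z0 * t * z0⁻¹ * t⁻¹,
  z0 * z * z0⁻¹ * z⁻¹,
  c0 * x * c0⁻¹ * x⁻¹,
  c0 * y * c0⁻¹ * y⁻¹,
  c0 * u * c0⁻¹ * u⁻¹,
  c0 * t * c0⁻¹ * t⁻¹,
  c0 * z * c0⁻¹ * z⁻¹,
  c2 * x * c2⁻¹ * x⁻¹,
  c2 * y * c2⁻¹ * y⁻¹,
  c2 * u * c2⁻¹ * u⁻¹,
  c2 * t * c2⁻¹ * t⁻¹,
  c2 * z * c2⁻¹ * z⁻¹,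
  c4 * x * c4⁻¹ * x⁻¹,
  c4 * y * c4⁻¹ * y⁻¹,
  c4 * u * c4⁻¹ * u⁻¹,
  c4 * t * c4⁻¹ * t⁻¹,
  c4 * z * c4⁻¹ * z⁻¹,
  c6 * x * c6⁻¹ * x⁻¹,
  c6 * y * c6⁻¹ * y⁻¹,
  c6 * u * c6⁻¹ * u⁻¹,
  c6 * t * c6⁻¹ * t⁻¹,
  c6 * z * c6⁻¹ * z⁻¹,
  c8 * x * c8⁻¹ * x⁻¹,
  c8 * y * c8⁻¹ * y⁻¹,
  c8 * u * c8⁻¹ * u⁻¹,
  c8 * t * c8⁻¹ * t⁻¹,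
  c8 * z * c8⁻¹ * z⁻¹,
  z5 * x * z5⁻¹ * x⁻¹,
  z5 * y * z5⁻¹ * y⁻¹,
  z5 * u * z5⁻¹ * u⁻¹,
  z5 * t * z5⁻¹ * t⁻¹,
  z5 * z * z5⁻¹ * z⁻¹,
  z6 * x * z6⁻¹ * x⁻¹,
  z6 * y * z6⁻¹ * y⁻¹,
  z6 * u * z6⁻¹ * u⁻¹,
  z6 * t * z6⁻¹ * t⁻¹,
  z6 * z * z6⁻¹ * z⁻¹,
  z7 * x * z7⁻¹ * x⁻¹,
  z7 * y * z7⁻¹ * y⁻¹,
  z7 * u * z7⁻¹ * u⁻¹,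
  z7 * t * z7⁻¹ * t⁻¹,
  z7 * z * z7⁻¹ * z⁻¹,
  z8 * x * z8⁻¹ * x⁻¹,
  z8 * y * z8⁻¹ * y⁻¹,
  z8 * u * z8⁻¹ * u⁻¹,
  z8 * t * z8⁻¹ * t⁻¹,
  z8 * z * z8⁻¹ * z⁻¹,
  x ^ 7,
  y ^ 7,
  x * x * y * x * y * y * y * x⁻¹ * y * y * x⁻¹ * y,
  x * y * x * y⁻¹ * x⁻¹ * y⁻¹ * y⁻¹ * x⁻¹ * y * x * y * y,
  t * x⁻¹ * y⁻¹ * x⁻¹ * x⁻¹ * y * x * y⁻¹ * t⁻¹ * (x⁻¹ * x⁻¹ * y⁻¹ * x⁻¹ * x⁻¹ * y⁻¹ * x⁻¹ * y * x⁻¹)⁻¹,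
  t * y * x⁻¹ * y⁻¹ * x * x * y * x * t⁻¹ * (x * x * y * y * x⁻¹ * y * x * y * x)⁻¹,
  t * x * y * x * y * x⁻¹ * x⁻¹ * y⁻¹ * y⁻¹ * t⁻¹ * (x * x * y⁻¹ * x * x * x * y * x)⁻¹,
  t * y * y * x * x * y⁻¹ * x⁻¹ * y⁻¹ * x⁻¹ * t⁻¹ * (x⁻¹ * y⁻¹ * x⁻¹ * x⁻¹ * x⁻¹ * y * x⁻¹ * x⁻¹)⁻¹,
  t⁻¹ * x * x * y * x⁻¹ * y⁻¹ * y⁻¹ * t⁻¹⁻¹ * (x * x * y⁻¹ * y⁻¹ * x * x * x * y * x * y)⁻¹,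
  t⁻¹ * y * y * x * y⁻¹ * x⁻¹ * x⁻¹ * t⁻¹⁻¹ * (x⁻¹ * y * x⁻¹ * y⁻¹ * y⁻¹ * x * y * x⁻¹ * y⁻¹ * x)⁻¹,
  t⁻¹ * x * x * y⁻¹ * x * x * x * y * x * t⁻¹⁻¹ * (x * y * x * y * x⁻¹ * x⁻¹ * y⁻¹ * y⁻¹)⁻¹,
  t⁻¹ * x⁻¹ * y⁻¹ * x⁻¹ * x⁻¹ * x⁻¹ * y * x⁻¹ * x⁻¹ * t⁻¹⁻¹ * (y * y * x * x * y⁻¹ * x⁻¹ * y⁻¹ * x⁻¹)⁻¹,
  t⁻¹ * x * x * y * y * x⁻¹ * y * x * y * x * t⁻¹⁻¹ * (y * x⁻¹ * y⁻¹ * x * x * y * x)⁻¹,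
  t⁻¹ * x⁻¹ * x⁻¹ * y⁻¹ * x⁻¹ * x⁻¹ * y⁻¹ * x⁻¹ * y * x⁻¹ * t⁻¹⁻¹ * (x⁻¹ * y⁻¹ * x⁻¹ * x⁻¹ * y * x * y⁻¹)⁻¹,
  t * x⁻¹ * y * x * y⁻¹ * x⁻¹ * y * y * x * y⁻¹ * (t * x⁻¹)⁻¹ * (x * x * y * x⁻¹ * y⁻¹ * y⁻¹)⁻¹,
  t * x⁻¹ * y * x⁻¹ * y⁻¹ * y⁻¹ * x * y * x⁻¹ * y⁻¹ * (t * x⁻¹)⁻¹ * (y * y * x * y⁻¹ * x⁻¹ * x⁻¹)⁻¹,
  t * x⁻¹ * y * x * y⁻¹ * x⁻¹ * y * y * x * (t * x⁻¹ * y)⁻¹ * (x * x * y * x⁻¹ * y⁻¹ * y⁻¹)⁻¹,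
  t * x⁻¹ * y * x⁻¹ * y⁻¹ * y⁻¹ * x * y * x⁻¹ * (t * x⁻¹ * y)⁻¹ * (y * y * x * y⁻¹ * x⁻¹ * x⁻¹)⁻¹,
  t * x⁻¹ * y⁻¹ * x⁻¹ * y⁻¹ * y⁻¹ * x * x * y * (t * x⁻¹ * y⁻¹)⁻¹ * (y * y * x * y⁻¹ * x⁻¹ * x⁻¹)⁻¹,
  t * x⁻¹ * y⁻¹ * y⁻¹ * x⁻¹ * x⁻¹ * y * y * x * (t * x⁻¹ * y⁻¹)⁻¹ * (x * x * y * x⁻¹ * y⁻¹ * y⁻¹)⁻¹,
  t * x⁻¹ * y * x * y * y * x⁻¹ * y⁻¹ * t⁻¹ * (x⁻¹ * x⁻¹ * y * x * y⁻¹ * y⁻¹ * x * x * y⁻¹ * y⁻¹)⁻¹,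
  t * x⁻¹ * y⁻¹ * x⁻¹ * y⁻¹ * x⁻¹ * x⁻¹ * y * t⁻¹ * (y * x * y * x * y⁻¹ * x * y⁻¹ * x * y * x)⁻¹,
  t * y⁻¹ * x * x * y * x * y * x * t⁻¹ * (x⁻¹ * y⁻¹ * x⁻¹ * y * x⁻¹ * y * x⁻¹ * y⁻¹ * x⁻¹ * y⁻¹)⁻¹,
  t * x * x * y * x⁻¹ * y * y * x * y⁻¹ * t⁻¹ * (x * y⁻¹ * y⁻¹ * x * y * x * y * x * y⁻¹)⁻¹,
  t * y * x⁻¹ * y⁻¹ * y⁻¹ * x * y⁻¹ * x⁻¹ * x⁻¹ * t⁻¹ * (y * x⁻¹ * y⁻¹ * x⁻¹ * y⁻¹ * x⁻¹ * y * y * x⁻¹)⁻¹,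
  t * x⁻¹ * x⁻¹ * y⁻¹ * x⁻¹ * y * x⁻¹ * x⁻¹ * x⁻¹ * y⁻¹ * t⁻¹ * (x * y⁻¹ * y⁻¹ * x * y⁻¹ * x * y⁻¹ * x⁻¹)⁻¹,
  t * y * x * x * x * y⁻¹ * x * y * x * x * t⁻¹ * (x * y * x⁻¹ * y * x⁻¹ * y * y * x⁻¹)⁻¹,
  t⁻¹ * x * y * x⁻¹ * y * x⁻¹ * y * y * x⁻¹ * t⁻¹⁻¹ * (y * x * x * x * y⁻¹ * x * y * x * x)⁻¹,
  t⁻¹ * x * y⁻¹ * y⁻¹ * x * y⁻¹ * x * y⁻¹ * x⁻¹ * t⁻¹⁻¹ * (x⁻¹ * x⁻¹ * y⁻¹ * x⁻¹ * y * x⁻¹ * x⁻¹ * x⁻¹ * y⁻¹)⁻¹,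
  t⁻¹ * x * y⁻¹ * y⁻¹ * x * y * x * y * x * y⁻¹ * t⁻¹⁻¹ * (x * x * y * x⁻¹ * y * y * x * y⁻¹)⁻¹,
  t⁻¹ * y * x⁻¹ * y⁻¹ * x⁻¹ * y⁻¹ * x⁻¹ * y * y * x⁻¹ * t⁻¹⁻¹ * (y * x⁻¹ * y⁻¹ * y⁻¹ * x * y⁻¹ * x⁻¹ * x⁻¹)⁻¹,
  t * y⁻¹ * x * y * x * y⁻¹ * x * x * y * (t * y⁻¹)⁻¹ * (x * x * y⁻¹ * x * x * x * y * x)⁻¹,
  t * y⁻¹ * y⁻¹ * x⁻¹ * x⁻¹ * y * x⁻¹ * y⁻¹ * x⁻¹ * (t * y⁻¹)⁻¹ * (x⁻¹ * y⁻¹ * x⁻¹ * x⁻¹ * x⁻¹ * y * x⁻¹ * x⁻¹)⁻¹,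
  t⁻¹ * x * y * x⁻¹ * y * x⁻¹ * y * y * (t⁻¹ * x)⁻¹ * (y * x * x * x * y⁻¹ * x * y * x * x)⁻¹,
  t⁻¹ * x * y⁻¹ * y⁻¹ * x * y⁻¹ * x * y⁻¹ * (t⁻¹ * x)⁻¹ * (x⁻¹ * x⁻¹ * y⁻¹ * x⁻¹ * y * x⁻¹ * x⁻¹ * x⁻¹ * y⁻¹)⁻¹,
  t⁻¹ * y⁻¹ * x * y⁻¹ * x⁻¹ * x⁻¹ * x⁻¹ * y⁻¹ * x * y * (t⁻¹ * y⁻¹)⁻¹ * (y * x⁻¹ * y⁻¹ * x * x * y * x)⁻¹ ]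

end SC3McLp3

end Cfsg.Agent.Lib.Helper4
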