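import Mathlib
import Cfsg.Prelude.Def_SporCoxeter

/-! The auxiliary presentation `SC3McLp5` for stem extensions of `C3McL` with kernel of order 5 (generated). -/

namespace Cfsg.Agent.Lib.Helper4

namespace SC3McLp5

/-- the generators -/
inductive Gen
  | x
  | y
  | t
  | z
  | c0
  | c2
  | c4
  | z5
  | z6
  | z7
  | z8
  deriving DecidableEq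

abbrev x : FreeGroup Gen := FreeGroup.of Gen.x
abbrev y : FreeGroup Gen := FreeGroup.of Gen.y
abbrev t : FreeGroup Gen := FreeGroup.of Gen.t
abbrev z : FreeGroup Gen := FreeGroup.of Gen.z
abbrev c0 : FreeGroup Gen := FreeGroup.of Gen.c0
abbrev c2 : FreeGroup Gen := FreeGroup.of Gen.c2
abbrev c4 : FreeGroup Gen := FreeGroup.of Gen.c4
abbrev z5 : FreeGroup Gen := FreeGroup.of Gen.z5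
abbrev z6 : FreeGroup Gen := FreeGroup.of Gen.z6
abbrev z7 : FreeGroup Gen := FreeGroup.of Gen.z7
abbrev z8 : FreeGroup Gen := FreeGroup.of Gen.z8

/-- no Coxeter graph -/
def edges : List (Gen × ℕ × Gen) := []

/-- the relators -/
def extra : List (FreeGroup Gen) := [
  x ^ 7,
  y ^ 7,
  t ^ 3,
  z⁻¹ * x * x * x * y⁻¹ * t * x⁻¹ * x⁻¹ * y⁻¹ * x * y⁻¹ * x * t⁻¹ * y⁻¹ * y⁻¹ * x * y,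
  c0⁻¹ * x * x * y⁻¹ * x * y * y * t⁻¹ * x * y * x⁻¹ * y⁻¹ * x⁻¹ * t⁻¹ * y * x * y⁻¹,
  c2⁻¹ * x * x * y * x⁻¹ * y⁻¹ * x * y * x * t⁻¹ * y * y * x * y * x * t⁻¹ * y⁻¹ * z,
  c4⁻¹ * x * x * y * x * y⁻¹ * t⁻¹ * x * y * x * x * t * x⁻¹ * t * x * x * y⁻¹ * y⁻¹,
  z5⁻¹ * (z ^ 3),
  z6⁻¹ * z⁻¹ * x⁻¹ * z * x,
  z7⁻¹ * z⁻¹ * y⁻¹ * z * y,
  z8⁻¹ * z⁻¹ * t⁻¹ * z * t,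
  c0 ^ 5,
  c2 ^ 5,
  c4 ^ 5,
  z5 ^ 5,
  z6 ^ 5,
  z7 ^ 5,
  z8 ^ 5,
  c0 * x * c0⁻¹ * x⁻¹,
  c0 * y * c0⁻¹ * y⁻¹,
  c0 * t * c0⁻¹ * t⁻¹,
  c0 * z * c0⁻¹ * z⁻¹,
  c2 * x * c2⁻¹ * x⁻¹,
  c2 * y * c2⁻¹ * y⁻¹,
  c2 * t * c2⁻¹ * t⁻¹,
  c2 * z * c2⁻¹ * z⁻¹,
  c4 * x * c4⁻¹ * x⁻¹,
  c4 * y * c4⁻¹ * y⁻¹,
  c4 * t * c4⁻¹ * t⁻¹,
  c4 * z * c4⁻¹ * z⁻¹,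
  z5 * x * z5⁻¹ * x⁻¹,
  z5 * y * z5⁻¹ * y⁻¹,
  z5 * t * z5⁻¹ * t⁻¹,
  z5 * z * z5⁻¹ * z⁻¹,
  z6 * x * z6⁻¹ * x⁻¹,
  z6 * y * z6⁻¹ * y⁻¹,
  z6 * t * z6⁻¹ * t⁻¹,
  z6 * z * z6⁻¹ * z⁻¹,
  z7 * x * z7⁻¹ * x⁻¹,
  z7 * y * z7⁻¹ * y⁻¹,
  z7 * t * z7⁻¹ * t⁻¹,
  z7 * z * z7⁻¹ * z⁻¹,
  z8 * x * z8⁻¹ * x⁻¹,
  z8 * y * z8⁻¹ * y⁻¹,
  z8 * t * z8⁻¹ * t⁻¹,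
  z8 * z * z8⁻¹ * z⁻¹,
  x ^ 7,
  y ^ 7,
  x * x * y * x * y * y * y * x⁻¹ * y * y * x⁻¹ * y,
  x * y * x * y⁻¹ * x⁻¹ * y⁻¹ * y⁻¹ * x⁻¹ * y * x * y * y,
  t * x⁻¹ * y⁻¹ * x⁻¹ * x⁻¹ * y * x * y⁻¹ * t⁻¹ * (x⁻¹ * x⁻¹ * y⁻¹ * x⁻¹ * x⁻¹ * y⁻¹ * x⁻¹ * y * x⁻¹)⁻¹,
  t * y * x⁻¹ * y⁻¹ * x * x * y * x * t⁻¹ * (x * x * y * y * x⁻¹ * y * x * y * x)⁻¹,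
  t * x * y * x * y * x⁻¹ * x⁻¹ * y⁻¹ * y⁻¹ * t⁻¹ * (x * x * y⁻¹ * x * x * x * y * x)⁻¹,
  t * y * y * x * x * y⁻¹ * x⁻¹ * y⁻¹ * x⁻¹ * t⁻¹ * (x⁻¹ * y⁻¹ * x⁻¹ * x⁻¹ * x⁻¹ * y * x⁻¹ * x⁻¹)⁻¹,
  t⁻¹ * x * x * y * x⁻¹ * y⁻¹ * y⁻¹ * t⁻¹⁻¹ * (x * x * y⁻¹ * y⁻¹ * x * x * x * y * x * y)⁻¹,
  t⁻¹ * y * y * x * y⁻¹ * x⁻¹ * x⁻¹ * t⁻¹⁻¹ * (x⁻¹ * y * x⁻¹ * y⁻¹ * y⁻¹ * x * y * x⁻¹ * y⁻¹ * x)⁻¹,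
  t⁻¹ * x * x * y⁻¹ * x * x * x * y * x * t⁻¹⁻¹ * (x * y * x * y * x⁻¹ * x⁻¹ * y⁻¹ * y⁻¹)⁻¹,
  t⁻¹ * x⁻¹ * y⁻¹ * x⁻¹ * x⁻¹ * x⁻¹ * y * x⁻¹ * x⁻¹ * t⁻¹⁻¹ * (y * y * x * x * y⁻¹ * x⁻¹ * y⁻¹ * x⁻¹)⁻¹ ]

end SC3McLp5

end Cfsg.Agent.Lib.Helper4
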