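import Mathlib
import Cfsg.Prelude.Def_SporCoxeter

/-! The auxiliary presentation `SC3Suzp3` for stem extensions of `C3Suz` with kernel of order 3 (generated). -/

namespace Cfsg.Agent.Lib.Helper4

namespace SC3Suzp3

/-- the generators -/
inductive Gen
  | c
  | d
  | t
  | s
  | u
  | z
  | r0
  | r1
  | r2
  | r3
  | r4
  | r5
  | r6
  | r7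
  | r8
  | r9
  | r10
  | r11
  | r12
  | y0
  | kc
  | kd
  | kt
  | ks
  | ku
  deriving DecidableEq

abbrev c : FreeGroup Gen := FreeGroup.of Gen.c
abbrev d : FreeGroup Gen := FreeGroup.of Gen.d
abbrev t : FreeGroup Gen := FreeGroup.of Gen.t
abbrev s : FreeGroup Gen := FreeGroup.of Gen.s
abbrev u : FreeGroup Gen := FreeGroup.of Gen.u
abbrev z : FreeGroup Gen := FreeGroup.of Gen.z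
abbrev r0 : FreeGroup Gen := FreeGroup.of Gen.r0
abbrev r1 : FreeGroup Gen := FreeGroup.of Gen.r1
abbrev r2 : FreeGroup Gen := FreeGroup.of Gen.r2
abbrev r3 : FreeGroup Gen := FreeGroup.of Gen.r3
abbrev r4 : FreeGroup Gen := FreeGroup.of Gen.r4
abbrev r5 : FreeGroup Gen := FreeGroup.of Gen.r5
abbrev r6 : FreeGroup Gen := FreeGroup.of Gen.r6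
abbrev r7 : FreeGroup Gen := FreeGroup.of Gen.r7
abbrev r8 : FreeGroup Gen := FreeGroup.of Gen.r8
abbrev r9 : FreeGroup Gen := FreeGroup.of Gen.r9
abbrev r10 : FreeGroup Gen := FreeGroup.of Gen.r10
abbrev r11 : FreeGroup Gen := FreeGroup.of Gen.r11
abbrev r12 : FreeGroup Gen := FreeGroup.of Gen.r12
abbrev y0 : FreeGroup Gen := FreeGroup.of Gen.y0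
abbrev kc : FreeGroup Gen := FreeGroup.of Gen.kc
abbrev kd : FreeGroup Gen := FreeGroup.of Gen.kd
abbrev kt : FreeGroup Gen := FreeGroup.of Gen.kt
abbrev ks : FreeGroup Gen := FreeGroup.of Gen.ks
abbrev ku : FreeGroup Gen := FreeGroup.of Gen.ku

/-- no Coxeter graph -/
def edges : List (Gen × ℕ × Gen) := []

/-- the relators -/
def extra : List (FreeGroup Gen) := [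
  c ^ 7,
  d ^ 4,
  t ^ 2,
  s ^ 2,
  u ^ 2,
  z⁻¹ * ((d * u * t * s) ^ 8),
  r0⁻¹ * c * u * c⁻¹ * d⁻¹ * t * d⁻¹ * u * d * t * d,
  r1⁻¹ * c * d⁻¹ * u * d * c⁻¹ * d⁻¹ * c * t * u * t * c⁻¹ * d,
  r2⁻¹ * c * u * c⁻¹ * d * u * d⁻¹ * c * u * c⁻¹ * d * u * d⁻¹,
  r3⁻¹ * c * c * t * d⁻¹ * d⁻¹ * c⁻¹ * u * c * d * d * t * c⁻¹ * c⁻¹ * u,
  r4⁻¹ * c * c * t * d * d * c⁻¹ * u * c * d * d * t * c⁻¹ * c⁻¹ * u,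
  r5⁻¹ * c * c * d⁻¹ * u * c⁻¹ * t * u * t * c * u * c⁻¹ * d⁻¹ * c⁻¹ * d⁻¹,
  r6⁻¹ * c * d * c⁻¹ * t * c * u * c⁻¹ * s * d * s * c * u * c⁻¹ * t,
  r7⁻¹ * c * d⁻¹ * c * d⁻¹ * u * d * c⁻¹ * d * c⁻¹ * d * c * u * c⁻¹ * d⁻¹,
  r8⁻¹ * c * c * d * c * c * d * u * d⁻¹ * c⁻¹ * c⁻¹ * d⁻¹ * c⁻¹ * c⁻¹ * u,
  r9⁻¹ * c * t * d * u * d⁻¹ * t * c⁻¹ * d * t * c * u * c⁻¹ * t * d⁻¹,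
  r10⁻¹ * c * c * c * d⁻¹ * t * u * t * d * c⁻¹ * c⁻¹ * c⁻¹ * t * u * t,
  r11⁻¹ * c * t * u * t * u * d * d * u * t * u * t * c⁻¹ * d * d,
  r12⁻¹ * c * d * u * s * u * t * u * s * u * c * t * c⁻¹ * t * d,
  y0⁻¹ * z * z * z,
  kc⁻¹ * z⁻¹ * c⁻¹ * z * c,
  kd⁻¹ * z⁻¹ * d⁻¹ * z * d,
  kt⁻¹ * z⁻¹ * t⁻¹ * z * t,
  ks⁻¹ * z⁻¹ * s⁻¹ * z * s,
  ku⁻¹ * z⁻¹ * u⁻¹ * z * u,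
  r0 ^ 3,
  r1 ^ 3,
  r2 ^ 3,
  r3 ^ 3,
  r4 ^ 3,
  r5 ^ 3,
  r6 ^ 3,
  r7 ^ 3,
  r8 ^ 3,
  r9 ^ 3,
  r10 ^ 3,
  r11 ^ 3,
  r12 ^ 3,
  y0 ^ 3,
  kc ^ 3,
  kd ^ 3,
  kt ^ 3,
  ks ^ 3,
  ku ^ 3,
  r0 * c * r0⁻¹ * c⁻¹,
  r0 * d * r0⁻¹ * d⁻¹,
  r0 * t * r0⁻¹ * t⁻¹,
  r0 * s * r0⁻¹ * s⁻¹,
  r0 * u * r0⁻¹ * u⁻¹,
  r0 * z * r0⁻¹ * z⁻¹,
  r1 * c * r1⁻¹ * c⁻¹,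
  r1 * d * r1⁻¹ * d⁻¹,
  r1 * t * r1⁻¹ * t⁻¹,
  r1 * s * r1⁻¹ * s⁻¹,
  r1 * u * r1⁻¹ * u⁻¹,
  r1 * z * r1⁻¹ * z⁻¹,
  r2 * c * r2⁻¹ * c⁻¹,
  r2 * d * r2⁻¹ * d⁻¹,
  r2 * t * r2⁻¹ * t⁻¹,
  r2 * s * r2⁻¹ * s⁻¹,
  r2 * u * r2⁻¹ * u⁻¹,
  r2 * z * r2⁻¹ * z⁻¹,
  r3 * c * r3⁻¹ * c⁻¹,
  r3 * d * r3⁻¹ * d⁻¹,
  r3 * t * r3⁻¹ * t⁻¹,
  r3 * s * r3⁻¹ * s⁻¹,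
  r3 * u * r3⁻¹ * u⁻¹,
  r3 * z * r3⁻¹ * z⁻¹,
  r4 * c * r4⁻¹ * c⁻¹,
  r4 * d * r4⁻¹ * d⁻¹,
  r4 * t * r4⁻¹ * t⁻¹,
  r4 * s * r4⁻¹ * s⁻¹,
  r4 * u * r4⁻¹ * u⁻¹,
  r4 * z * r4⁻¹ * z⁻¹,
  r5 * c * r5⁻¹ * c⁻¹,
  r5 * d * r5⁻¹ * d⁻¹,
  r5 * t * r5⁻¹ * t⁻¹,
  r5 * s * r5⁻¹ * s⁻¹,
  r5 * u * r5⁻¹ * u⁻¹,
  r5 * z * r5⁻¹ * z⁻¹,
  r6 * c * r6⁻¹ * c⁻¹,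
  r6 * d * r6⁻¹ * d⁻¹,
  r6 * t * r6⁻¹ * t⁻¹,
  r6 * s * r6⁻¹ * s⁻¹,
  r6 * u * r6⁻¹ * u⁻¹,
  r6 * z * r6⁻¹ * z⁻¹,
  r7 * c * r7⁻¹ * c⁻¹,
  r7 * d * r7⁻¹ * d⁻¹,
  r7 * t * r7⁻¹ * t⁻¹,
  r7 * s * r7⁻¹ * s⁻¹,
  r7 * u * r7⁻¹ * u⁻¹,
  r7 * z * r7⁻¹ * z⁻¹,
  r8 * c * r8⁻¹ * c⁻¹,
  r8 * d * r8⁻¹ * d⁻¹,
  r8 * t * r8⁻¹ * t⁻¹,
  r8 * s * r8⁻¹ * s⁻¹,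
  r8 * u * r8⁻¹ * u⁻¹,
  r8 * z * r8⁻¹ * z⁻¹,
  r9 * c * r9⁻¹ * c⁻¹,
  r9 * d * r9⁻¹ * d⁻¹,
  r9 * t * r9⁻¹ * t⁻¹,
  r9 * s * r9⁻¹ * s⁻¹,
  r9 * u * r9⁻¹ * u⁻¹,
  r9 * z * r9⁻¹ * z⁻¹,
  r10 * c * r10⁻¹ * c⁻¹,
  r10 * d * r10⁻¹ * d⁻¹,
  r10 * t * r10⁻¹ * t⁻¹,
  r10 * s * r10⁻¹ * s⁻¹,
  r10 * u * r10⁻¹ * u⁻¹,
  r10 * z * r10⁻¹ * z⁻¹,
  r11 * c * r11⁻¹ * c⁻¹,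
  r11 * d * r11⁻¹ * d⁻¹,
  r11 * t * r11⁻¹ * t⁻¹,
  r11 * s * r11⁻¹ * s⁻¹,
  r11 * u * r11⁻¹ * u⁻¹,
  r11 * z * r11⁻¹ * z⁻¹,
  r12 * c * r12⁻¹ * c⁻¹,
  r12 * d * r12⁻¹ * d⁻¹,
  r12 * t * r12⁻¹ * t⁻¹,
  r12 * s * r12⁻¹ * s⁻¹,
  r12 * u * r12⁻¹ * u⁻¹,
  r12 * z * r12⁻¹ * z⁻¹,
  y0 * c * y0⁻¹ * c⁻¹,
  y0 * d * y0⁻¹ * d⁻¹,
  y0 * t * y0⁻¹ * t⁻¹,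
  y0 * s * y0⁻¹ * s⁻¹,
  y0 * u * y0⁻¹ * u⁻¹,
  y0 * z * y0⁻¹ * z⁻¹,
  kc * c * kc⁻¹ * c⁻¹,
  kc * d * kc⁻¹ * d⁻¹,
  kc * t * kc⁻¹ * t⁻¹,
  kc * s * kc⁻¹ * s⁻¹,
  kc * u * kc⁻¹ * u⁻¹,
  kc * z * kc⁻¹ * z⁻¹,
  kd * c * kd⁻¹ * c⁻¹,
  kd * d * kd⁻¹ * d⁻¹,
  kd * t * kd⁻¹ * t⁻¹,
  kd * s * kd⁻¹ * s⁻¹,
  kd * u * kd⁻¹ * u⁻¹,
  kd * z * kd⁻¹ * z⁻¹,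
  kt * c * kt⁻¹ * c⁻¹,
  kt * d * kt⁻¹ * d⁻¹,
  kt * t * kt⁻¹ * t⁻¹,
  kt * s * kt⁻¹ * s⁻¹,
  kt * u * kt⁻¹ * u⁻¹,
  kt * z * kt⁻¹ * z⁻¹,
  ks * c * ks⁻¹ * c⁻¹,
  ks * d * ks⁻¹ * d⁻¹,
  ks * t * ks⁻¹ * t⁻¹,
  ks * s * ks⁻¹ * s⁻¹,
  ks * u * ks⁻¹ * u⁻¹,
  ks * z * ks⁻¹ * z⁻¹,
  ku * c * ku⁻¹ * c⁻¹,
  ku * d * ku⁻¹ * d⁻¹,
  ku * t * ku⁻¹ * t⁻¹,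
  ku * s * ku⁻¹ * s⁻¹,
  ku * u * ku⁻¹ * u⁻¹,
  ku * z * ku⁻¹ * z⁻¹,
  c ^ 7,
  c * c * d * c⁻¹ * d * c * d⁻¹ * c * d * c⁻¹ * d,
  (c * c * c * d) ^ 3,
  c * c * d * d * c * c * d⁻¹ * d⁻¹ * c * c * d⁻¹ * d⁻¹,
  t ^ 2,
  c * t * d⁻¹ * t * d * c⁻¹ * d * c⁻¹ * c⁻¹ * t * d,
  c * t * c⁻¹ * d⁻¹ * c⁻¹ * d⁻¹ * c * t * c⁻¹ * d⁻¹ * c⁻¹ * d⁻¹,
  s * s,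
  c * d * c⁻¹ * t * s * d * s⁻¹ * t,
  c * d * c⁻¹ * s⁻¹ * t * c⁻¹ * d * c * t * s,
  c * c * t * d⁻¹ * c⁻¹ * d⁻¹ * c⁻¹ * t * d * t * d⁻¹ * c * s * c * s * t * s⁻¹ ]

end SC3Suzp3

end Cfsg.Agent.Lib.Helper4
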