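import Mathlib
import Cfsg.Prelude.Def_SporCoxeter

/-! The auxiliary presentation `SC3U62p3` for stem extensions of `C3U62` with kernel of order 3 (generated). -/

namespace Cfsg.Agent.Lib.Helper4

namespace SC3U62p3

/-- the generators -/
inductive Gen
  | a
  | b
  | w
  | u
  | t
  | v
  | z
  | r0
  | r1
  | r3
  | z0
  | kza
  | kzb
  | kzw
  | kzu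
  | kzv
  deriving DecidableEq

abbrev a : FreeGroup Gen := FreeGroup.of Gen.a
abbrev b : FreeGroup Gen := FreeGroup.of Gen.b
abbrev w : FreeGroup Gen := FreeGroup.of Gen.w
abbrev u : FreeGroup Gen := FreeGroup.of Gen.u
abbrev t : FreeGroup Gen := FreeGroup.of Gen.t
abbrev v : FreeGroup Gen := FreeGroup.of Gen.v
abbrev z : FreeGroup Gen := FreeGroup.of Gen.z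
abbrev r0 : FreeGroup Gen := FreeGroup.of Gen.r0
abbrev r1 : FreeGroup Gen := FreeGroup.of Gen.r1
abbrev r3 : FreeGroup Gen := FreeGroup.of Gen.r3
abbrev z0 : FreeGroup Gen := FreeGroup.of Gen.z0
abbrev kza : FreeGroup Gen := FreeGroup.of Gen.kza
abbrev kzb : FreeGroup Gen := FreeGroup.of Gen.kzb
abbrev kzw : FreeGroup Gen := FreeGroup.of Gen.kzw
abbrev kzu : FreeGroup Gen := FreeGroup.of Gen.kzu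
abbrev kzv : FreeGroup Gen := FreeGroup.of Gen.kzv

/-- no Coxeter graph -/
def edges : List (Gen × ℕ × Gen) := []

/-- the relators -/
def extra : List (FreeGroup Gen) := [
  a ^ 2,
  b ^ 5,
  w ^ 3,
  u ^ 2,
  t ^ 7,
  v⁻¹ * t * u⁻¹ * b,
  z⁻¹ * a * b * a * b * a * b * a * v * w * v * b * a * b⁻¹ * a * b⁻¹ * a * b * b,
  r0⁻¹ * (v ^ 3),
  r1⁻¹ * a * b * a * b * a * b * w * u * b * a * v * b * a * b⁻¹ * v⁻¹ * a * b⁻¹,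
  r3⁻¹ * a * b * a * b * a * b * a * b⁻¹ * b⁻¹ * a * b⁻¹ * w * u * b * b * u * a * b⁻¹ * v * u * v * w⁻¹ * b * u * v⁻¹ * b⁻¹ * b⁻¹,
  z0⁻¹ * z * z * z,
  kza⁻¹ * z⁻¹ * a⁻¹ * z * a,
  kzb⁻¹ * z⁻¹ * b⁻¹ * z * b,
  kzw⁻¹ * z⁻¹ * w⁻¹ * z * w,
  kzu⁻¹ * z⁻¹ * u⁻¹ * z * u,
  kzv⁻¹ * z⁻¹ * v⁻¹ * z * v,
  r0 ^ 3,
  r1 ^ 3,
  r3 ^ 3,
  z0 ^ 3,
  kza ^ 3,
  kzb ^ 3,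
  kzw ^ 3,
  kzu ^ 3,
  kzv ^ 3,
  r0 * a * r0⁻¹ * a⁻¹,
  r0 * b * r0⁻¹ * b⁻¹,
  r0 * w * r0⁻¹ * w⁻¹,
  r0 * u * r0⁻¹ * u⁻¹,
  r0 * t * r0⁻¹ * t⁻¹,
  r0 * v * r0⁻¹ * v⁻¹,
  r0 * z * r0⁻¹ * z⁻¹,
  r1 * a * r1⁻¹ * a⁻¹,
  r1 * b * r1⁻¹ * b⁻¹,
  r1 * w * r1⁻¹ * w⁻¹,
  r1 * u * r1⁻¹ * u⁻¹,
  r1 * t * r1⁻¹ * t⁻¹,
  r1 * v * r1⁻¹ * v⁻¹,
  r1 * z * r1⁻¹ * z⁻¹,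
  r3 * a * r3⁻¹ * a⁻¹,
  r3 * b * r3⁻¹ * b⁻¹,
  r3 * w * r3⁻¹ * w⁻¹,
  r3 * u * r3⁻¹ * u⁻¹,
  r3 * t * r3⁻¹ * t⁻¹,
  r3 * v * r3⁻¹ * v⁻¹,
  r3 * z * r3⁻¹ * z⁻¹,
  z0 * a * z0⁻¹ * a⁻¹,
  z0 * b * z0⁻¹ * b⁻¹,
  z0 * w * z0⁻¹ * w⁻¹,
  z0 * u * z0⁻¹ * u⁻¹,
  z0 * t * z0⁻¹ * t⁻¹,
  z0 * v * z0⁻¹ * v⁻¹,
  z0 * z * z0⁻¹ * z⁻¹,
  kza * a * kza⁻¹ * a⁻¹,
  kza * b * kza⁻¹ * b⁻¹,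
  kza * w * kza⁻¹ * w⁻¹,
  kza * u * kza⁻¹ * u⁻¹,
  kza * t * kza⁻¹ * t⁻¹,
  kza * v * kza⁻¹ * v⁻¹,
  kza * z * kza⁻¹ * z⁻¹,
  kzb * a * kzb⁻¹ * a⁻¹,
  kzb * b * kzb⁻¹ * b⁻¹,
  kzb * w * kzb⁻¹ * w⁻¹,
  kzb * u * kzb⁻¹ * u⁻¹,
  kzb * t * kzb⁻¹ * t⁻¹,
  kzb * v * kzb⁻¹ * v⁻¹,
  kzb * z * kzb⁻¹ * z⁻¹,
  kzw * a * kzw⁻¹ * a⁻¹,
  kzw * b * kzw⁻¹ * b⁻¹,
  kzw * w * kzw⁻¹ * w⁻¹,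
  kzw * u * kzw⁻¹ * u⁻¹,
  kzw * t * kzw⁻¹ * t⁻¹,
  kzw * v * kzw⁻¹ * v⁻¹,
  kzw * z * kzw⁻¹ * z⁻¹,
  kzu * a * kzu⁻¹ * a⁻¹,
  kzu * b * kzu⁻¹ * b⁻¹,
  kzu * w * kzu⁻¹ * w⁻¹,
  kzu * u * kzu⁻¹ * u⁻¹,
  kzu * t * kzu⁻¹ * t⁻¹,
  kzu * v * kzu⁻¹ * v⁻¹,
  kzu * z * kzu⁻¹ * z⁻¹,
  kzv * a * kzv⁻¹ * a⁻¹,
  kzv * b * kzv⁻¹ * b⁻¹,
  kzv * w * kzv⁻¹ * w⁻¹,
  kzv * u * kzv⁻¹ * u⁻¹,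
  kzv * t * kzv⁻¹ * t⁻¹,
  kzv * v * kzv⁻¹ * v⁻¹,
  kzv * z * kzv⁻¹ * z⁻¹,
  a ^ 2,
  b ^ 5,
  (a * b) ^ 9,
  (a⁻¹ * b⁻¹ * a * b) ^ 3,
  (a⁻¹ * b⁻¹ * a⁻¹ * b⁻¹ * a * b * a * b) ^ 2,
  w ^ 3,
  w⁻¹ * a⁻¹ * w * a,
  w⁻¹ * b⁻¹ * w * b,
  u ^ 2,
  (a * u) ^ 3,
  a * b * a * b * w * u * a * b * u ]

end SC3U62p3

end Cfsg.Agent.Lib.Helper4
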