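import Mathlib
import Cfsg.Prelude.Def_SporCoxeter

/-! The auxiliary presentation `SC48L34p3` for stem extensions of `C48L34` with kernel of order 3 (generated). -/

namespace Cfsg.Agent.Lib.Helper4

namespace SC48L34p3

/-- the generators -/
inductive Gen
  | c
  | d
  | u
  | x
  | y
  | b
  | a
  | t
  | v
  | z1
  | z2
  | z3
  | z4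
  | z5
  | z6
  | z7
  | z8
  | z9
  | z10
  | z11
  | z12
  deriving DecidableEq

abbrev c : FreeGroup Gen := FreeGroup.of Gen.c
abbrev d : FreeGroup Gen := FreeGroup.of Gen.d
abbrev u : FreeGroup Gen := FreeGroup.of Gen.u
abbrev x : FreeGroup Gen := FreeGroup.of Gen.x
abbrev y : FreeGroup Gen := FreeGroup.of Gen.y
abbrev b : FreeGroup Gen := FreeGroup.of Gen.b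
abbrev a : FreeGroup Gen := FreeGroup.of Gen.a
abbrev t : FreeGroup Gen := FreeGroup.of Gen.t
abbrev v : FreeGroup Gen := FreeGroup.of Gen.v
abbrev z1 : FreeGroup Gen := FreeGroup.of Gen.z1
abbrev z2 : FreeGroup Gen := FreeGroup.of Gen.z2
abbrev z3 : FreeGroup Gen := FreeGroup.of Gen.z3
abbrev z4 : FreeGroup Gen := FreeGroup.of Gen.z4
abbrev z5 : FreeGroup Gen := FreeGroup.of Gen.z5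
abbrev z6 : FreeGroup Gen := FreeGroup.of Gen.z6
abbrev z7 : FreeGroup Gen := FreeGroup.of Gen.z7
abbrev z8 : FreeGroup Gen := FreeGroup.of Gen.z8
abbrev z9 : FreeGroup Gen := FreeGroup.of Gen.z9
abbrev z10 : FreeGroup Gen := FreeGroup.of Gen.z10
abbrev z11 : FreeGroup Gen := FreeGroup.of Gen.z11
abbrev z12 : FreeGroup Gen := FreeGroup.of Gen.z12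

/-- no Coxeter graph -/
def edges : List (Gen × ℕ × Gen) := []

/-- the relators -/
def extra : List (FreeGroup Gen) := [
  c ^ 4,
  d ^ 8,
  u ^ 6,
  x ^ 7,
  y ^ 5,
  b⁻¹ * x⁻¹ * y,
  a⁻¹ * x * b⁻¹,
  t⁻¹ * ((a * b * a * b * a * b * b * a * b⁻¹) ^ 5),
  v⁻¹ * ((a * b * a * b * b) ^ 7),
  z1⁻¹ * c⁻¹ * a * (t ^ 5) * v⁻¹,
  z2⁻¹ * d⁻¹ * b * a * b * a * b⁻¹ * a * b * (t⁻¹ ^ 5) * v * v,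
  z3⁻¹ * u⁻¹ * t * t,
  z4⁻¹ * a * a * v⁻¹ * v⁻¹ * t * t * t * t,
  z5⁻¹ * b * b * b * b * v⁻¹ * v⁻¹ * (t⁻¹ ^ 4),
  z6⁻¹ * (t ^ 12),
  z7⁻¹ * (v ^ 4),
  z8⁻¹ * t⁻¹ * a⁻¹ * t * a,
  z9⁻¹ * t⁻¹ * b⁻¹ * t * b,
  z10⁻¹ * v⁻¹ * a⁻¹ * v * a,
  z11⁻¹ * v⁻¹ * b⁻¹ * v * b,
  z12⁻¹ * t⁻¹ * v⁻¹ * t * v,
  z1 ^ 3,
  z2 ^ 3,
  z3 ^ 3,
  z4 ^ 3,
  z5 ^ 3,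
  z6 ^ 3,
  z7 ^ 3,
  z8 ^ 3,
  z9 ^ 3,
  z10 ^ 3,
  z11 ^ 3,
  z12 ^ 3,
  z1 * c * z1⁻¹ * c⁻¹,
  z1 * d * z1⁻¹ * d⁻¹,
  z1 * u * z1⁻¹ * u⁻¹,
  z1 * x * z1⁻¹ * x⁻¹,
  z1 * y * z1⁻¹ * y⁻¹,
  z1 * b * z1⁻¹ * b⁻¹,
  z1 * a * z1⁻¹ * a⁻¹,
  z1 * t * z1⁻¹ * t⁻¹,
  z1 * v * z1⁻¹ * v⁻¹,
  z2 * c * z2⁻¹ * c⁻¹,
  z2 * d * z2⁻¹ * d⁻¹,
  z2 * u * z2⁻¹ * u⁻¹,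
  z2 * x * z2⁻¹ * x⁻¹,
  z2 * y * z2⁻¹ * y⁻¹,
  z2 * b * z2⁻¹ * b⁻¹,
  z2 * a * z2⁻¹ * a⁻¹,
  z2 * t * z2⁻¹ * t⁻¹,
  z2 * v * z2⁻¹ * v⁻¹,
  z3 * c * z3⁻¹ * c⁻¹,
  z3 * d * z3⁻¹ * d⁻¹,
  z3 * u * z3⁻¹ * u⁻¹,
  z3 * x * z3⁻¹ * x⁻¹,
  z3 * y * z3⁻¹ * y⁻¹,
  z3 * b * z3⁻¹ * b⁻¹,
  z3 * a * z3⁻¹ * a⁻¹,
  z3 * t * z3⁻¹ * t⁻¹,
  z3 * v * z3⁻¹ * v⁻¹,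
  z4 * c * z4⁻¹ * c⁻¹,
  z4 * d * z4⁻¹ * d⁻¹,
  z4 * u * z4⁻¹ * u⁻¹,
  z4 * x * z4⁻¹ * x⁻¹,
  z4 * y * z4⁻¹ * y⁻¹,
  z4 * b * z4⁻¹ * b⁻¹,
  z4 * a * z4⁻¹ * a⁻¹,
  z4 * t * z4⁻¹ * t⁻¹,
  z4 * v * z4⁻¹ * v⁻¹,
  z5 * c * z5⁻¹ * c⁻¹,
  z5 * d * z5⁻¹ * d⁻¹,
  z5 * u * z5⁻¹ * u⁻¹,
  z5 * x * z5⁻¹ * x⁻¹,
  z5 * y * z5⁻¹ * y⁻¹,
  z5 * b * z5⁻¹ * b⁻¹,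
  z5 * a * z5⁻¹ * a⁻¹,
  z5 * t * z5⁻¹ * t⁻¹,
  z5 * v * z5⁻¹ * v⁻¹,
  z6 * c * z6⁻¹ * c⁻¹,
  z6 * d * z6⁻¹ * d⁻¹,
  z6 * u * z6⁻¹ * u⁻¹,
  z6 * x * z6⁻¹ * x⁻¹,
  z6 * y * z6⁻¹ * y⁻¹,
  z6 * b * z6⁻¹ * b⁻¹,
  z6 * a * z6⁻¹ * a⁻¹,
  z6 * t * z6⁻¹ * t⁻¹,
  z6 * v * z6⁻¹ * v⁻¹,
  z7 * c * z7⁻¹ * c⁻¹,
  z7 * d * z7⁻¹ * d⁻¹,
  z7 * u * z7⁻¹ * u⁻¹,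
  z7 * x * z7⁻¹ * x⁻¹,
  z7 * y * z7⁻¹ * y⁻¹,
  z7 * b * z7⁻¹ * b⁻¹,
  z7 * a * z7⁻¹ * a⁻¹,
  z7 * t * z7⁻¹ * t⁻¹,
  z7 * v * z7⁻¹ * v⁻¹,
  z8 * c * z8⁻¹ * c⁻¹,
  z8 * d * z8⁻¹ * d⁻¹,
  z8 * u * z8⁻¹ * u⁻¹,
  z8 * x * z8⁻¹ * x⁻¹,
  z8 * y * z8⁻¹ * y⁻¹,
  z8 * b * z8⁻¹ * b⁻¹,
  z8 * a * z8⁻¹ * a⁻¹,
  z8 * t * z8⁻¹ * t⁻¹,
  z8 * v * z8⁻¹ * v⁻¹,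
  z9 * c * z9⁻¹ * c⁻¹,
  z9 * d * z9⁻¹ * d⁻¹,
  z9 * u * z9⁻¹ * u⁻¹,
  z9 * x * z9⁻¹ * x⁻¹,
  z9 * y * z9⁻¹ * y⁻¹,
  z9 * b * z9⁻¹ * b⁻¹,
  z9 * a * z9⁻¹ * a⁻¹,
  z9 * t * z9⁻¹ * t⁻¹,
  z9 * v * z9⁻¹ * v⁻¹,
  z10 * c * z10⁻¹ * c⁻¹,
  z10 * d * z10⁻¹ * d⁻¹,
  z10 * u * z10⁻¹ * u⁻¹,
  z10 * x * z10⁻¹ * x⁻¹,
  z10 * y * z10⁻¹ * y⁻¹,
  z10 * b * z10⁻¹ * b⁻¹,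
  z10 * a * z10⁻¹ * a⁻¹,
  z10 * t * z10⁻¹ * t⁻¹,
  z10 * v * z10⁻¹ * v⁻¹,
  z11 * c * z11⁻¹ * c⁻¹,
  z11 * d * z11⁻¹ * d⁻¹,
  z11 * u * z11⁻¹ * u⁻¹,
  z11 * x * z11⁻¹ * x⁻¹,
  z11 * y * z11⁻¹ * y⁻¹,
  z11 * b * z11⁻¹ * b⁻¹,
  z11 * a * z11⁻¹ * a⁻¹,
  z11 * t * z11⁻¹ * t⁻¹,
  z11 * v * z11⁻¹ * v⁻¹,
  z12 * c * z12⁻¹ * c⁻¹,
  z12 * d * z12⁻¹ * d⁻¹,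
  z12 * u * z12⁻¹ * u⁻¹,
  z12 * x * z12⁻¹ * x⁻¹,
  z12 * y * z12⁻¹ * y⁻¹,
  z12 * b * z12⁻¹ * b⁻¹,
  z12 * a * z12⁻¹ * a⁻¹,
  z12 * t * z12⁻¹ * t⁻¹,
  z12 * v * z12⁻¹ * v⁻¹,
  u ^ 6,
  u * c * u⁻¹ * c⁻¹,
  u * d * u⁻¹ * d⁻¹,
  c ^ 4,
  c * c * u⁻¹ * u⁻¹ * u⁻¹,
  (d ^ 4) * u⁻¹ * u⁻¹ * u⁻¹,
  ((c * d) ^ 5) * (u⁻¹ ^ 4),
  (c * d * d) ^ 5 ]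

end SC48L34p3

end Cfsg.Agent.Lib.Helper4
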