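import Mathlib
import Cfsg.Prelude.Def_SporCoxeter

/-! The auxiliary presentation `SC4O82p3` for stem extensions of `C4O82` with kernel of order 3 (generated). -/

namespace Cfsg.Agent.Lib.Helper4

namespace SC4O82p3

/-- the generators -/
inductive Gen
  | b
  | a
  | u
  | z
  | y
  | r0
  | r2
  | r3
  | r4
  | r5
  | y0
  | kb
  | ka
  | ku
  | kz
  deriving DecidableEq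

abbrev b : FreeGroup Gen := FreeGroup.of Gen.b
abbrev a : FreeGroup Gen := FreeGroup.of Gen.a
abbrev u : FreeGroup Gen := FreeGroup.of Gen.u
abbrev z : FreeGroup Gen := FreeGroup.of Gen.z
abbrev y : FreeGroup Gen := FreeGroup.of Gen.y
abbrev r0 : FreeGroup Gen := FreeGroup.of Gen.r0
abbrev r2 : FreeGroup Gen := FreeGroup.of Gen.r2
abbrev r3 : FreeGroup Gen := FreeGroup.of Gen.r3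
abbrev r4 : FreeGroup Gen := FreeGroup.of Gen.r4
abbrev r5 : FreeGroup Gen := FreeGroup.of Gen.r5
abbrev y0 : FreeGroup Gen := FreeGroup.of Gen.y0
abbrev kb : FreeGroup Gen := FreeGroup.of Gen.kb
abbrev ka : FreeGroup Gen := FreeGroup.of Gen.ka
abbrev ku : FreeGroup Gen := FreeGroup.of Gen.ku
abbrev kz : FreeGroup Gen := FreeGroup.of Gen.kz

/-- no Coxeter graph -/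
def edges : List (Gen × ℕ × Gen) := []

/-- the relators -/
def extra : List (FreeGroup Gen) := [
  b ^ 7,
  a ^ 4,
  u ^ 4,
  z⁻¹ * a * a,
  y⁻¹ * a * u * a * u * a * u,
  r0⁻¹ * u * u * z⁻¹,
  r2⁻¹ * b * b * b * a * b⁻¹ * u * a * b * a * b⁻¹ * u * b⁻¹ * b⁻¹ * a,
  r3⁻¹ * b * b * a * b⁻¹ * a * b⁻¹ * u * b * a * b * a * b⁻¹ * b⁻¹ * u * z⁻¹,
  r4⁻¹ * b * b * b * a * b⁻¹ * u * a * b⁻¹ * b⁻¹ * a * b * b * u * b * a * b⁻¹ * a * b⁻¹ * b⁻¹ * a,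
  r5⁻¹ * b * b * b * a * b⁻¹ * a * b * b * b * a * b⁻¹ * a * b * a * b * b * a * b * b * a * b * u * b⁻¹ * a * u * a * b * u * b⁻¹ * b⁻¹ * b⁻¹ * a,
  y0⁻¹ * y * y,
  kb⁻¹ * y⁻¹ * b⁻¹ * y * b,
  ka⁻¹ * y⁻¹ * a⁻¹ * y * a,
  ku⁻¹ * y⁻¹ * u⁻¹ * y * u,
  kz⁻¹ * z⁻¹ * u⁻¹ * z * u,
  r0 ^ 3,
  r2 ^ 3,
  r3 ^ 3,
  r4 ^ 3,
  r5 ^ 3,
  y0 ^ 3,
  kb ^ 3,
  ka ^ 3,
  ku ^ 3,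
  kz ^ 3,
  r0 * b * r0⁻¹ * b⁻¹,
  r0 * a * r0⁻¹ * a⁻¹,
  r0 * u * r0⁻¹ * u⁻¹,
  r0 * z * r0⁻¹ * z⁻¹,
  r0 * y * r0⁻¹ * y⁻¹,
  r2 * b * r2⁻¹ * b⁻¹,
  r2 * a * r2⁻¹ * a⁻¹,
  r2 * u * r2⁻¹ * u⁻¹,
  r2 * z * r2⁻¹ * z⁻¹,
  r2 * y * r2⁻¹ * y⁻¹,
  r3 * b * r3⁻¹ * b⁻¹,
  r3 * a * r3⁻¹ * a⁻¹,
  r3 * u * r3⁻¹ * u⁻¹,
  r3 * z * r3⁻¹ * z⁻¹,
  r3 * y * r3⁻¹ * y⁻¹,
  r4 * b * r4⁻¹ * b⁻¹,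
  r4 * a * r4⁻¹ * a⁻¹,
  r4 * u * r4⁻¹ * u⁻¹,
  r4 * z * r4⁻¹ * z⁻¹,
  r4 * y * r4⁻¹ * y⁻¹,
  r5 * b * r5⁻¹ * b⁻¹,
  r5 * a * r5⁻¹ * a⁻¹,
  r5 * u * r5⁻¹ * u⁻¹,
  r5 * z * r5⁻¹ * z⁻¹,
  r5 * y * r5⁻¹ * y⁻¹,
  y0 * b * y0⁻¹ * b⁻¹,
  y0 * a * y0⁻¹ * a⁻¹,
  y0 * u * y0⁻¹ * u⁻¹,
  y0 * z * y0⁻¹ * z⁻¹,
  y0 * y * y0⁻¹ * y⁻¹,
  kb * b * kb⁻¹ * b⁻¹,
  kb * a * kb⁻¹ * a⁻¹,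
  kb * u * kb⁻¹ * u⁻¹,
  kb * z * kb⁻¹ * z⁻¹,
  kb * y * kb⁻¹ * y⁻¹,
  ka * b * ka⁻¹ * b⁻¹,
  ka * a * ka⁻¹ * a⁻¹,
  ka * u * ka⁻¹ * u⁻¹,
  ka * z * ka⁻¹ * z⁻¹,
  ka * y * ka⁻¹ * y⁻¹,
  ku * b * ku⁻¹ * b⁻¹,
  ku * a * ku⁻¹ * a⁻¹,
  ku * u * ku⁻¹ * u⁻¹,
  ku * z * ku⁻¹ * z⁻¹,
  ku * y * ku⁻¹ * y⁻¹,
  kz * b * kz⁻¹ * b⁻¹,
  kz * a * kz⁻¹ * a⁻¹,
  kz * u * kz⁻¹ * u⁻¹,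
  kz * z * kz⁻¹ * z⁻¹,
  kz * y * kz⁻¹ * y⁻¹,
  b ^ 7,
  (a * b) ^ 9,
  (a * b * b) ^ 12,
  ((a * b * a⁻¹ * b⁻¹) ^ 3) * a⁻¹ * a⁻¹,
  ((a * b * b * a⁻¹ * b⁻¹ * b⁻¹) ^ 2) * a⁻¹ * a⁻¹,
  a * a * a * a,
  a⁻¹ * a⁻¹ * b⁻¹ * a * a * b ]

end SC4O82p3

end Cfsg.Agent.Lib.Helper4
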