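import Mathlib
import Cfsg.Prelude.Def_SporCoxeter

/-! The auxiliary presentation `SC4U43p2` for stem extensions of `C4U43` with kernel of order 2 (generated). -/

namespace Cfsg.Agent.Lib.Helper4

namespace SC4U43p2

/-- the generators -/
inductive Gen
  | c
  | d
  | t
  | z
  | r0
  | r2
  | r3
  | r4
  | r5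
  | r6
  | r7
  | z3
  | z4
  | z5
  | z6
  deriving DecidableEq

abbrev c : FreeGroup Gen := FreeGroup.of Gen.c
abbrev d : FreeGroup Gen := FreeGroup.of Gen.d
abbrev t : FreeGroup Gen := FreeGroup.of Gen.t
abbrev z : FreeGroup Gen := FreeGroup.of Gen.z
abbrev r0 : FreeGroup Gen := FreeGroup.of Gen.r0
abbrev r2 : FreeGroup Gen := FreeGroup.of Gen.r2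
abbrev r3 : FreeGroup Gen := FreeGroup.of Gen.r3
abbrev r4 : FreeGroup Gen := FreeGroup.of Gen.r4
abbrev r5 : FreeGroup Gen := FreeGroup.of Gen.r5
abbrev r6 : FreeGroup Gen := FreeGroup.of Gen.r6
abbrev r7 : FreeGroup Gen := FreeGroup.of Gen.r7
abbrev z3 : FreeGroup Gen := FreeGroup.of Gen.z3
abbrev z4 : FreeGroup Gen := FreeGroup.of Gen.z4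
abbrev z5 : FreeGroup Gen := FreeGroup.of Gen.z5
abbrev z6 : FreeGroup Gen := FreeGroup.of Gen.z6

/-- no Coxeter graph -/
def edges : List (Gen × ℕ × Gen) := []

/-- the relators -/
def extra : List (FreeGroup Gen) := [
  c ^ 7,
  d ^ 4,
  t ^ 7,
  z⁻¹ * c * c * c * d⁻¹ * t * c⁻¹ * d⁻¹ * t * c⁻¹ * d⁻¹,
  r0⁻¹ * ((d * t) ^ 4) * z⁻¹ * z⁻¹,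
  r2⁻¹ * c * d * c * d * c⁻¹ * t⁻¹ * c⁻¹ * d⁻¹ * c⁻¹ * d⁻¹ * t * z⁻¹ * z⁻¹ * z⁻¹,
  r3⁻¹ * c * c * c * c * t⁻¹ * c⁻¹ * d * c * c * c * d * t⁻¹ * z⁻¹ * z⁻¹ * z⁻¹,
  r4⁻¹ * c * c * c * d * c⁻¹ * d * c⁻¹ * c⁻¹ * c⁻¹ * t⁻¹ * c⁻¹ * d⁻¹ * t⁻¹ * z⁻¹ * z⁻¹,
  r5⁻¹ * c * c * d⁻¹ * c⁻¹ * d⁻¹ * c * c * t * d * c⁻¹ * c⁻¹ * t⁻¹ * d * z⁻¹,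
  r6⁻¹ * c * c * d * c * c * d⁻¹ * c * t⁻¹ * c * t⁻¹ * t⁻¹ * t⁻¹ * c * t⁻¹ * d⁻¹ * z⁻¹ * z⁻¹,
  r7⁻¹ * c * c * d * t * c * t⁻¹ * c⁻¹ * c⁻¹ * t⁻¹ * d⁻¹ * t⁻¹ * d * c * d * d,
  z3⁻¹ * (z ^ 4),
  z4⁻¹ * z⁻¹ * c⁻¹ * z * c,
  z5⁻¹ * z⁻¹ * d⁻¹ * z * d,
  z6⁻¹ * z⁻¹ * t⁻¹ * z * t,
  r0 ^ 2,
  r2 ^ 2,
  r3 ^ 2,
  r4 ^ 2,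
  r5 ^ 2,
  r6 ^ 2,
  r7 ^ 2,
  z3 ^ 2,
  z4 ^ 2,
  z5 ^ 2,
  z6 ^ 2,
  r0 * c * r0⁻¹ * c⁻¹,
  r0 * d * r0⁻¹ * d⁻¹,
  r0 * t * r0⁻¹ * t⁻¹,
  r0 * z * r0⁻¹ * z⁻¹,
  r2 * c * r2⁻¹ * c⁻¹,
  r2 * d * r2⁻¹ * d⁻¹,
  r2 * t * r2⁻¹ * t⁻¹,
  r2 * z * r2⁻¹ * z⁻¹,
  r3 * c * r3⁻¹ * c⁻¹,
  r3 * d * r3⁻¹ * d⁻¹,
  r3 * t * r3⁻¹ * t⁻¹,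
  r3 * z * r3⁻¹ * z⁻¹,
  r4 * c * r4⁻¹ * c⁻¹,
  r4 * d * r4⁻¹ * d⁻¹,
  r4 * t * r4⁻¹ * t⁻¹,
  r4 * z * r4⁻¹ * z⁻¹,
  r5 * c * r5⁻¹ * c⁻¹,
  r5 * d * r5⁻¹ * d⁻¹,
  r5 * t * r5⁻¹ * t⁻¹,
  r5 * z * r5⁻¹ * z⁻¹,
  r6 * c * r6⁻¹ * c⁻¹,
  r6 * d * r6⁻¹ * d⁻¹,
  r6 * t * r6⁻¹ * t⁻¹,
  r6 * z * r6⁻¹ * z⁻¹,
  r7 * c * r7⁻¹ * c⁻¹,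
  r7 * d * r7⁻¹ * d⁻¹,
  r7 * t * r7⁻¹ * t⁻¹,
  r7 * z * r7⁻¹ * z⁻¹,
  z3 * c * z3⁻¹ * c⁻¹,
  z3 * d * z3⁻¹ * d⁻¹,
  z3 * t * z3⁻¹ * t⁻¹,
  z3 * z * z3⁻¹ * z⁻¹,
  z4 * c * z4⁻¹ * c⁻¹,
  z4 * d * z4⁻¹ * d⁻¹,
  z4 * t * z4⁻¹ * t⁻¹,
  z4 * z * z4⁻¹ * z⁻¹,
  z5 * c * z5⁻¹ * c⁻¹,
  z5 * d * z5⁻¹ * d⁻¹,
  z5 * t * z5⁻¹ * t⁻¹,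
  z5 * z * z5⁻¹ * z⁻¹,
  z6 * c * z6⁻¹ * c⁻¹,
  z6 * d * z6⁻¹ * d⁻¹,
  z6 * t * z6⁻¹ * t⁻¹,
  z6 * z * z6⁻¹ * z⁻¹,
  c ^ 7,
  c * c * d * c⁻¹ * d * c * d⁻¹ * c * d * c⁻¹ * d,
  (c * c * c * d) ^ 3,
  c * c * d * d * c * c * d⁻¹ * d⁻¹ * c * c * d⁻¹ * d⁻¹,
  t * c * d⁻¹ * c⁻¹ * d⁻¹ * c * d⁻¹ * t⁻¹ * (d⁻¹ * c⁻¹ * d⁻¹ * c * d⁻¹ * c)⁻¹,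
  t * c⁻¹ * d * c * d * c⁻¹ * d * t⁻¹ * (c⁻¹ * d * c⁻¹ * d * c * d)⁻¹,
  t⁻¹ * c⁻¹ * d * c⁻¹ * d * c * d * t⁻¹⁻¹ * (c⁻¹ * d * c * d * c⁻¹ * d)⁻¹,
  t⁻¹ * d⁻¹ * c⁻¹ * d⁻¹ * c * d⁻¹ * c * t⁻¹⁻¹ * (c * d⁻¹ * c⁻¹ * d⁻¹ * c * d⁻¹)⁻¹,
  t * c * c⁻¹ * d * c⁻¹ * d * c * d * (t * c)⁻¹ * (c⁻¹ * d * c⁻¹ * d * c * d)⁻¹,
  t * c * d⁻¹ * c⁻¹ * d⁻¹ * c * d⁻¹ * c * (t * c)⁻¹ * (d⁻¹ * c⁻¹ * d⁻¹ * c * d⁻¹ * c)⁻¹,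
  t * c⁻¹ * c * d⁻¹ * c * d⁻¹ * c⁻¹ * d⁻¹ * (t * c⁻¹)⁻¹ * (d⁻¹ * c⁻¹ * d⁻¹ * c * d⁻¹ * c)⁻¹,
  t * c⁻¹ * d * c * d * c⁻¹ * d * c⁻¹ * (t * c⁻¹)⁻¹ * (c⁻¹ * d * c⁻¹ * d * c * d)⁻¹,
  t * d * c * d⁻¹ * c⁻¹ * d⁻¹ * c * d⁻¹ * (t * d)⁻¹ * (d⁻¹ * c⁻¹ * d⁻¹ * c * d⁻¹ * c)⁻¹,
  t * d * c⁻¹ * d * c * d * c⁻¹ * d * (t * d)⁻¹ * (c⁻¹ * d * c⁻¹ * d * c * d)⁻¹,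
  t * d⁻¹ * c * d⁻¹ * c⁻¹ * d⁻¹ * c * d⁻¹ * (t * d⁻¹)⁻¹ * (d⁻¹ * c⁻¹ * d⁻¹ * c * d⁻¹ * c)⁻¹,
  t * d⁻¹ * c⁻¹ * d * c * d * c⁻¹ * d * (t * d⁻¹)⁻¹ * (c⁻¹ * d * c⁻¹ * d * c * d)⁻¹,
  t⁻¹ * d⁻¹ * c⁻¹ * d⁻¹ * c * d⁻¹ * c * d⁻¹ * (t⁻¹ * d⁻¹)⁻¹ * (c * d⁻¹ * c⁻¹ * d⁻¹ * c * d⁻¹)⁻¹,
  t⁻¹ * d⁻¹ * d * c⁻¹ * d * c⁻¹ * d * c * (t⁻¹ * d⁻¹)⁻¹ * (c⁻¹ * d * c * d * c⁻¹ * d)⁻¹,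
  t * c * c * d⁻¹ * c * d⁻¹ * c⁻¹ * d⁻¹ * c⁻¹ * t⁻¹ * (d * c * d⁻¹ * c * d⁻¹ * c⁻¹ * d * d)⁻¹,
  t * c * d * c * d * c⁻¹ * d * c⁻¹ * c⁻¹ * t⁻¹ * (d * d * c * d * c⁻¹ * d * c⁻¹ * d⁻¹)⁻¹,
  t * c⁻¹ * d * c * d⁻¹ * c⁻¹ * d * c * d⁻¹ * t⁻¹ * (c⁻¹ * d⁻¹ * c * d * c⁻¹ * d⁻¹ * c * d)⁻¹,
  t * d * c⁻¹ * d⁻¹ * c * d * c⁻¹ * d⁻¹ * c * t⁻¹ * (d⁻¹ * c⁻¹ * d * c * d⁻¹ * c⁻¹ * d * c)⁻¹,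
  t⁻¹ * c⁻¹ * d⁻¹ * c * d * c⁻¹ * d⁻¹ * c * d * t⁻¹⁻¹ * (c⁻¹ * d * c * d⁻¹ * c⁻¹ * d * c * d⁻¹)⁻¹,
  t⁻¹ * d * c * d⁻¹ * c * d⁻¹ * c⁻¹ * d * d * t⁻¹⁻¹ * (c * c * d⁻¹ * c * d⁻¹ * c⁻¹ * d⁻¹ * c⁻¹)⁻¹,
  t⁻¹ * d * d * c * d * c⁻¹ * d * c⁻¹ * d⁻¹ * t⁻¹⁻¹ * (c * d * c * d * c⁻¹ * d * c⁻¹ * c⁻¹)⁻¹,
  t⁻¹ * d⁻¹ * c⁻¹ * d * c * d⁻¹ * c⁻¹ * d * c * t⁻¹⁻¹ * (d * c⁻¹ * d⁻¹ * c * d * c⁻¹ * d⁻¹ * c)⁻¹,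
  t * c * c * d⁻¹ * c * d⁻¹ * c⁻¹ * d⁻¹ * (t * c)⁻¹ * (d * c * d⁻¹ * c * d⁻¹ * c⁻¹ * d * d)⁻¹,
  t * c * d * c * d * c⁻¹ * d * c⁻¹ * (t * c)⁻¹ * (d * d * c * d * c⁻¹ * d * c⁻¹ * d⁻¹)⁻¹,
  t * d⁻¹ * c * c * d * c * c * d * (t * d⁻¹)⁻¹ * (d * c * d⁻¹ * c * d⁻¹ * c⁻¹ * d * d)⁻¹,
  t * d⁻¹ * d⁻¹ * c⁻¹ * c⁻¹ * d⁻¹ * c⁻¹ * c⁻¹ * (t * d⁻¹)⁻¹ * (d * d * c * d * c⁻¹ * d * c⁻¹ * d⁻¹)⁻¹,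
  t * t * d * c * d⁻¹ * c * d⁻¹ * c⁻¹ * d * d * (t * t)⁻¹ * (d⁻¹ * c⁻¹ * c⁻¹ * d⁻¹ * c⁻¹ * c⁻¹)⁻¹,
  t * t * d * d * c * d * c⁻¹ * d * c⁻¹ * d⁻¹ * (t * t)⁻¹ * (c * c * d * c * c * d)⁻¹,
  t⁻¹ * c * c⁻¹ * c⁻¹ * d * c⁻¹ * d * c * d * c * (t⁻¹ * c)⁻¹ * (c⁻¹ * d * c * d * c⁻¹ * d)⁻¹,
  t⁻¹ * c * c⁻¹ * d⁻¹ * c⁻¹ * d⁻¹ * c * d⁻¹ * c * c * (t⁻¹ * c)⁻¹ * (c * d⁻¹ * c⁻¹ * d⁻¹ * c * d⁻¹)⁻¹,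
  t⁻¹ * t⁻¹ * c * c * d * c * c * d * (t⁻¹ * t⁻¹)⁻¹ * (d * d * c * d * c⁻¹ * d * c⁻¹ * d⁻¹)⁻¹,
  t⁻¹ * t⁻¹ * d⁻¹ * c⁻¹ * c⁻¹ * d⁻¹ * c⁻¹ * c⁻¹ * (t⁻¹ * t⁻¹)⁻¹ * (d * c * d⁻¹ * c * d⁻¹ * c⁻¹ * d * d)⁻¹,
  t * c * d * c⁻¹ * d⁻¹ * c * d * c⁻¹ * d⁻¹ * t⁻¹ * (c * d * d * c⁻¹ * d * d * c * d * c⁻¹ * d⁻¹)⁻¹,
  t * d * c * d⁻¹ * c⁻¹ * d * c * d⁻¹ * c⁻¹ * t⁻¹ * (c * c * c * d * d * c⁻¹ * d⁻¹ * c * d⁻¹ * c)⁻¹,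
  t * c * c * d⁻¹ * c⁻¹ * d * c * d⁻¹ * c⁻¹ * d * (t * c)⁻¹ * (d⁻¹ * c⁻¹ * d * c * d⁻¹ * c⁻¹ * d * c)⁻¹,
  t * c * d⁻¹ * c * d * c⁻¹ * d⁻¹ * c * d * c⁻¹ * (t * c)⁻¹ * (c⁻¹ * d⁻¹ * c * d * c⁻¹ * d⁻¹ * c * d)⁻¹,
  t * c⁻¹ * c * d * c⁻¹ * d⁻¹ * c * d * c⁻¹ * d⁻¹ * (t * c⁻¹)⁻¹ * (d⁻¹ * c⁻¹ * d * c * d⁻¹ * c⁻¹ * d * c)⁻¹,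
  t * c⁻¹ * d * c * d⁻¹ * c⁻¹ * d * c * d⁻¹ * c⁻¹ * (t * c⁻¹)⁻¹ * (c⁻¹ * d⁻¹ * c * d * c⁻¹ * d⁻¹ * c * d)⁻¹,
  t * d * c⁻¹ * c⁻¹ * d * c⁻¹ * d * c * d * c * (t * d)⁻¹ * (d * d * c * d * c⁻¹ * d * c⁻¹ * d⁻¹)⁻¹,
  t * d * c⁻¹ * d⁻¹ * c * d * c⁻¹ * d⁻¹ * c * d * (t * d)⁻¹ * (d⁻¹ * c⁻¹ * d * c * d⁻¹ * c⁻¹ * d * c)⁻¹ ]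

end SC4U43p2

end Cfsg.Agent.Lib.Helper4
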