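import Mathlib
import Cfsg.Prelude.Def_SporCoxeter

/-! The auxiliary presentation `SC4U62p2` for stem extensions of `C4U62` with kernel of order 2 (generated). -/

namespace Cfsg.Agent.Lib.Helper4

namespace SC4U62p2

/-- the generators -/
inductive Gen
  | a
  | b
  | w
  | u
  | v
  | y
  | z
  | r1
  | y0
  | z0
  | kya
  | kyb
  | kyw
  | kyu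
  | kyv
  | kza
  | kzb
  | kzw
  | kzu
  | kzv
  | kyz
  deriving DecidableEq

abbrev a : FreeGroup Gen := FreeGroup.of Gen.a
abbrev b : FreeGroup Gen := FreeGroup.of Gen.b
abbrev w : FreeGroup Gen := FreeGroup.of Gen.w
abbrev u : FreeGroup Gen := FreeGroup.of Gen.u
abbrev v : FreeGroup Gen := FreeGroup.of Gen.v
abbrev y : FreeGroup Gen := FreeGroup.of Gen.y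
abbrev z : FreeGroup Gen := FreeGroup.of Gen.z
abbrev r1 : FreeGroup Gen := FreeGroup.of Gen.r1
abbrev y0 : FreeGroup Gen := FreeGroup.of Gen.y0
abbrev z0 : FreeGroup Gen := FreeGroup.of Gen.z0
abbrev kya : FreeGroup Gen := FreeGroup.of Gen.kya
abbrev kyb : FreeGroup Gen := FreeGroup.of Gen.kyb
abbrev kyw : FreeGroup Gen := FreeGroup.of Gen.kyw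
abbrev kyu : FreeGroup Gen := FreeGroup.of Gen.kyu
abbrev kyv : FreeGroup Gen := FreeGroup.of Gen.kyv
abbrev kza : FreeGroup Gen := FreeGroup.of Gen.kza
abbrev kzb : FreeGroup Gen := FreeGroup.of Gen.kzb
abbrev kzw : FreeGroup Gen := FreeGroup.of Gen.kzw
abbrev kzu : FreeGroup Gen := FreeGroup.of Gen.kzu
abbrev kzv : FreeGroup Gen := FreeGroup.of Gen.kzv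
abbrev kyz : FreeGroup Gen := FreeGroup.of Gen.kyz

/-- no Coxeter graph -/
def edges : List (Gen × ℕ × Gen) := []

/-- the relators -/
def extra : List (FreeGroup Gen) := [
  a ^ 2,
  b ^ 5,
  w ^ 3,
  u ^ 2,
  v ^ 3,
  y⁻¹ * a * b * a * b * a * b * a * v * w * v * b * a * b⁻¹ * a * b⁻¹ * a * b * b,
  z⁻¹ * a * b * a * b * a * b * a * b⁻¹ * b⁻¹ * a * b⁻¹ * w * u * b * b * u * a * b⁻¹ * v * u * v * w⁻¹ * b * u * v⁻¹ * b⁻¹ * b⁻¹,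
  r1⁻¹ * a * b * a * b * a * b * w * u * b * a * v * b * a * b⁻¹ * v⁻¹ * a * b⁻¹,
  y0⁻¹ * y * y,
  z0⁻¹ * z * z,
  kya⁻¹ * y⁻¹ * a⁻¹ * y * a,
  kyb⁻¹ * y⁻¹ * b⁻¹ * y * b,
  kyw⁻¹ * y⁻¹ * w⁻¹ * y * w,
  kyu⁻¹ * y⁻¹ * u⁻¹ * y * u,
  kyv⁻¹ * y⁻¹ * v⁻¹ * y * v,
  kza⁻¹ * z⁻¹ * a⁻¹ * z * a,
  kzb⁻¹ * z⁻¹ * b⁻¹ * z * b,
  kzw⁻¹ * z⁻¹ * w⁻¹ * z * w,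
  kzu⁻¹ * z⁻¹ * u⁻¹ * z * u,
  kzv⁻¹ * z⁻¹ * v⁻¹ * z * v,
  kyz⁻¹ * y⁻¹ * z⁻¹ * y * z,
  r1 ^ 2,
  y0 ^ 2,
  z0 ^ 2,
  kya ^ 2,
  kyb ^ 2,
  kyw ^ 2,
  kyu ^ 2,
  kyv ^ 2,
  kza ^ 2,
  kzb ^ 2,
  kzw ^ 2,
  kzu ^ 2,
  kzv ^ 2,
  kyz ^ 2,
  r1 * a * r1⁻¹ * a⁻¹,
  r1 * b * r1⁻¹ * b⁻¹,
  r1 * w * r1⁻¹ * w⁻¹,
  r1 * u * r1⁻¹ * u⁻¹,
  r1 * v * r1⁻¹ * v⁻¹,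
  r1 * y * r1⁻¹ * y⁻¹,
  r1 * z * r1⁻¹ * z⁻¹,
  y0 * a * y0⁻¹ * a⁻¹,
  y0 * b * y0⁻¹ * b⁻¹,
  y0 * w * y0⁻¹ * w⁻¹,
  y0 * u * y0⁻¹ * u⁻¹,
  y0 * v * y0⁻¹ * v⁻¹,
  y0 * y * y0⁻¹ * y⁻¹,
  y0 * z * y0⁻¹ * z⁻¹,
  z0 * a * z0⁻¹ * a⁻¹,
  z0 * b * z0⁻¹ * b⁻¹,
  z0 * w * z0⁻¹ * w⁻¹,
  z0 * u * z0⁻¹ * u⁻¹,
  z0 * v * z0⁻¹ * v⁻¹,
  z0 * y * z0⁻¹ * y⁻¹,
  z0 * z * z0⁻¹ * z⁻¹,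
  kya * a * kya⁻¹ * a⁻¹,
  kya * b * kya⁻¹ * b⁻¹,
  kya * w * kya⁻¹ * w⁻¹,
  kya * u * kya⁻¹ * u⁻¹,
  kya * v * kya⁻¹ * v⁻¹,
  kya * y * kya⁻¹ * y⁻¹,
  kya * z * kya⁻¹ * z⁻¹,
  kyb * a * kyb⁻¹ * a⁻¹,
  kyb * b * kyb⁻¹ * b⁻¹,
  kyb * w * kyb⁻¹ * w⁻¹,
  kyb * u * kyb⁻¹ * u⁻¹,
  kyb * v * kyb⁻¹ * v⁻¹,
  kyb * y * kyb⁻¹ * y⁻¹,
  kyb * z * kyb⁻¹ * z⁻¹,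
  kyw * a * kyw⁻¹ * a⁻¹,
  kyw * b * kyw⁻¹ * b⁻¹,
  kyw * w * kyw⁻¹ * w⁻¹,
  kyw * u * kyw⁻¹ * u⁻¹,
  kyw * v * kyw⁻¹ * v⁻¹,
  kyw * y * kyw⁻¹ * y⁻¹,
  kyw * z * kyw⁻¹ * z⁻¹,
  kyu * a * kyu⁻¹ * a⁻¹,
  kyu * b * kyu⁻¹ * b⁻¹,
  kyu * w * kyu⁻¹ * w⁻¹,
  kyu * u * kyu⁻¹ * u⁻¹,
  kyu * v * kyu⁻¹ * v⁻¹,
  kyu * y * kyu⁻¹ * y⁻¹,
  kyu * z * kyu⁻¹ * z⁻¹,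
  kyv * a * kyv⁻¹ * a⁻¹,
  kyv * b * kyv⁻¹ * b⁻¹,
  kyv * w * kyv⁻¹ * w⁻¹,
  kyv * u * kyv⁻¹ * u⁻¹,
  kyv * v * kyv⁻¹ * v⁻¹,
  kyv * y * kyv⁻¹ * y⁻¹,
  kyv * z * kyv⁻¹ * z⁻¹,
  kza * a * kza⁻¹ * a⁻¹,
  kza * b * kza⁻¹ * b⁻¹,
  kza * w * kza⁻¹ * w⁻¹,
  kza * u * kza⁻¹ * u⁻¹,
  kza * v * kza⁻¹ * v⁻¹,
  kza * y * kza⁻¹ * y⁻¹,
  kza * z * kza⁻¹ * z⁻¹,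
  kzb * a * kzb⁻¹ * a⁻¹,
  kzb * b * kzb⁻¹ * b⁻¹,
  kzb * w * kzb⁻¹ * w⁻¹,
  kzb * u * kzb⁻¹ * u⁻¹,
  kzb * v * kzb⁻¹ * v⁻¹,
  kzb * y * kzb⁻¹ * y⁻¹,
  kzb * z * kzb⁻¹ * z⁻¹,
  kzw * a * kzw⁻¹ * a⁻¹,
  kzw * b * kzw⁻¹ * b⁻¹,
  kzw * w * kzw⁻¹ * w⁻¹,
  kzw * u * kzw⁻¹ * u⁻¹,
  kzw * v * kzw⁻¹ * v⁻¹,
  kzw * y * kzw⁻¹ * y⁻¹,
  kzw * z * kzw⁻¹ * z⁻¹,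
  kzu * a * kzu⁻¹ * a⁻¹,
  kzu * b * kzu⁻¹ * b⁻¹,
  kzu * w * kzu⁻¹ * w⁻¹,
  kzu * u * kzu⁻¹ * u⁻¹,
  kzu * v * kzu⁻¹ * v⁻¹,
  kzu * y * kzu⁻¹ * y⁻¹,
  kzu * z * kzu⁻¹ * z⁻¹,
  kzv * a * kzv⁻¹ * a⁻¹,
  kzv * b * kzv⁻¹ * b⁻¹,
  kzv * w * kzv⁻¹ * w⁻¹,
  kzv * u * kzv⁻¹ * u⁻¹,
  kzv * v * kzv⁻¹ * v⁻¹,
  kzv * y * kzv⁻¹ * y⁻¹,
  kzv * z * kzv⁻¹ * z⁻¹,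
  kyz * a * kyz⁻¹ * a⁻¹,
  kyz * b * kyz⁻¹ * b⁻¹,
  kyz * w * kyz⁻¹ * w⁻¹,
  kyz * u * kyz⁻¹ * u⁻¹,
  kyz * v * kyz⁻¹ * v⁻¹,
  kyz * y * kyz⁻¹ * y⁻¹,
  kyz * z * kyz⁻¹ * z⁻¹,
  a ^ 2,
  b ^ 5,
  (a * b) ^ 9,
  (a⁻¹ * b⁻¹ * a * b) ^ 3,
  (a⁻¹ * b⁻¹ * a⁻¹ * b⁻¹ * a * b * a * b) ^ 2,
  w ^ 3,
  w⁻¹ * a⁻¹ * w * a,
  w⁻¹ * b⁻¹ * w * b,
  u ^ 2,
  (a * u) ^ 3,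
  a * b * a * b * w * u * a * b * u ]

end SC4U62p2

end Cfsg.Agent.Lib.Helper4
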