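import Mathlib
import Cfsg.Prelude.Def_SporCoxeter

/-! The auxiliary presentation `SC6A6p2` for stem extensions of `C6A6` with kernel of order 2 (generated). -/

namespace Cfsg.Agent.Lib.Helper4

namespace SC6A6p2

/-- the generators -/
inductive Gen
  | c
  | d
  | b
  | a
  | z
  | t1
  | t2
  | t3
  | t4
  | t5
  | t6
  | t7
  deriving DecidableEq

abbrev c : FreeGroup Gen := FreeGroup.of Gen.c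
abbrev d : FreeGroup Gen := FreeGroup.of Gen.d
abbrev b : FreeGroup Gen := FreeGroup.of Gen.b
abbrev a : FreeGroup Gen := FreeGroup.of Gen.a
abbrev z : FreeGroup Gen := FreeGroup.of Gen.z
abbrev t1 : FreeGroup Gen := FreeGroup.of Gen.t1
abbrev t2 : FreeGroup Gen := FreeGroup.of Gen.t2
abbrev t3 : FreeGroup Gen := FreeGroup.of Gen.t3
abbrev t4 : FreeGroup Gen := FreeGroup.of Gen.t4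
abbrev t5 : FreeGroup Gen := FreeGroup.of Gen.t5
abbrev t6 : FreeGroup Gen := FreeGroup.of Gen.t6
abbrev t7 : FreeGroup Gen := FreeGroup.of Gen.t7

/-- no Coxeter graph -/
def edges : List (Gen × ℕ × Gen) := []

/-- the relators -/
def extra : List (FreeGroup Gen) := [
  c ^ 15,
  d ^ 5,
  b⁻¹ * c⁻¹ * d,
  a⁻¹ * c * b⁻¹,
  z⁻¹ * (c ^ 5) * a⁻¹ * a⁻¹,
  t1⁻¹ * (z ^ 6),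
  t2⁻¹ * z * a * z⁻¹ * a⁻¹,
  t3⁻¹ * z * b * z⁻¹ * b⁻¹,
  t4⁻¹ * (a ^ 4),
  t5⁻¹ * a * a * z⁻¹ * z⁻¹ * z⁻¹,
  t6⁻¹ * (b ^ 4) * z⁻¹ * z⁻¹ * z⁻¹,
  t7⁻¹ * (c ^ 5) * z⁻¹ * z⁻¹ * z⁻¹ * z⁻¹,
  t1 ^ 2,
  t2 ^ 2,
  t3 ^ 2,
  t4 ^ 2,
  t5 ^ 2,
  t6 ^ 2,
  t7 ^ 2,
  t1 * c * t1⁻¹ * c⁻¹,
  t1 * d * t1⁻¹ * d⁻¹,
  t1 * b * t1⁻¹ * b⁻¹,
  t1 * a * t1⁻¹ * a⁻¹,
  t1 * z * t1⁻¹ * z⁻¹,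
  t2 * c * t2⁻¹ * c⁻¹,
  t2 * d * t2⁻¹ * d⁻¹,
  t2 * b * t2⁻¹ * b⁻¹,
  t2 * a * t2⁻¹ * a⁻¹,
  t2 * z * t2⁻¹ * z⁻¹,
  t3 * c * t3⁻¹ * c⁻¹,
  t3 * d * t3⁻¹ * d⁻¹,
  t3 * b * t3⁻¹ * b⁻¹,
  t3 * a * t3⁻¹ * a⁻¹,
  t3 * z * t3⁻¹ * z⁻¹,
  t4 * c * t4⁻¹ * c⁻¹,
  t4 * d * t4⁻¹ * d⁻¹,
  t4 * b * t4⁻¹ * b⁻¹,
  t4 * a * t4⁻¹ * a⁻¹,
  t4 * z * t4⁻¹ * z⁻¹,
  t5 * c * t5⁻¹ * c⁻¹,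
  t5 * d * t5⁻¹ * d⁻¹,
  t5 * b * t5⁻¹ * b⁻¹,
  t5 * a * t5⁻¹ * a⁻¹,
  t5 * z * t5⁻¹ * z⁻¹,
  t6 * c * t6⁻¹ * c⁻¹,
  t6 * d * t6⁻¹ * d⁻¹,
  t6 * b * t6⁻¹ * b⁻¹,
  t6 * a * t6⁻¹ * a⁻¹,
  t6 * z * t6⁻¹ * z⁻¹,
  t7 * c * t7⁻¹ * c⁻¹,
  t7 * d * t7⁻¹ * d⁻¹,
  t7 * b * t7⁻¹ * b⁻¹,
  t7 * a * t7⁻¹ * a⁻¹,
  t7 * z * t7⁻¹ * z⁻¹ ]

end SC6A6p2

end Cfsg.Agent.Lib.Helper4
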