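import Mathlib
import Cfsg.Prelude.Def_SporCoxeter

/-! The auxiliary presentation `SC6A7p2` for stem extensions of `C6A7` with kernel of order 2 (generated). -/

namespace Cfsg.Agent.Lib.Helper4

namespace SC6A7p2

/-- the generators -/
inductive Gen
  | a
  | b
  | z
  | t1
  | t2
  | t3
  | t4
  | t5
  deriving DecidableEq

abbrev a : FreeGroup Gen := FreeGroup.of Gen.a
abbrev b : FreeGroup Gen := FreeGroup.of Gen.b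
abbrev z : FreeGroup Gen := FreeGroup.of Gen.z
abbrev t1 : FreeGroup Gen := FreeGroup.of Gen.t1
abbrev t2 : FreeGroup Gen := FreeGroup.of Gen.t2
abbrev t3 : FreeGroup Gen := FreeGroup.of Gen.t3
abbrev t4 : FreeGroup Gen := FreeGroup.of Gen.t4
abbrev t5 : FreeGroup Gen := FreeGroup.of Gen.t5

/-- no Coxeter graph -/
def edges : List (Gen × ℕ × Gen) := []

/-- the relators -/
def extra : List (FreeGroup Gen) := [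
  a ^ 3,
  b ^ 5,
  z⁻¹ * ((a * b⁻¹ * a * b) ^ 2),
  t1⁻¹ * (z ^ 6),
  t2⁻¹ * z * a * z⁻¹ * a⁻¹,
  t3⁻¹ * z * b * z⁻¹ * b⁻¹,
  t4⁻¹ * ((a * b) ^ 7),
  t5⁻¹ * ((a * b⁻¹ * b⁻¹ * a * b * b) ^ 2) * z⁻¹ * z⁻¹ * z⁻¹,
  t1 ^ 2,
  t2 ^ 2,
  t3 ^ 2,
  t4 ^ 2,
  t5 ^ 2,
  t1 * a * t1⁻¹ * a⁻¹,
  t1 * b * t1⁻¹ * b⁻¹,
  t1 * z * t1⁻¹ * z⁻¹,
  t2 * a * t2⁻¹ * a⁻¹,
  t2 * b * t2⁻¹ * b⁻¹,
  t2 * z * t2⁻¹ * z⁻¹,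
  t3 * a * t3⁻¹ * a⁻¹,
  t3 * b * t3⁻¹ * b⁻¹,
  t3 * z * t3⁻¹ * z⁻¹,
  t4 * a * t4⁻¹ * a⁻¹,
  t4 * b * t4⁻¹ * b⁻¹,
  t4 * z * t4⁻¹ * z⁻¹,
  t5 * a * t5⁻¹ * a⁻¹,
  t5 * b * t5⁻¹ * b⁻¹,
  t5 * z * t5⁻¹ * z⁻¹ ]

end SC6A7p2

end Cfsg.Agent.Lib.Helper4
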