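import Mathlib
import Cfsg.Prelude.Def_SporCoxeter

/-! The auxiliary presentation `SC9U43p3` for stem extensions of `C9U43` with kernel of order 3 (generated). -/

namespace Cfsg.Agent.Lib.Helper4

namespace SC9U43p3

/-- the generators -/
inductive Gen
  | c
  | d
  | t
  | a
  | b
  | r2
  | r3
  | r4
  | r5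
  | r6
  | r7
  | z2
  | z3
  | z4
  | z5
  | z6
  | z7
  | z8
  | z9
  | z10
  deriving DecidableEq

abbrev c : FreeGroup Gen := FreeGroup.of Gen.c
abbrev d : FreeGroup Gen := FreeGroup.of Gen.d
abbrev t : FreeGroup Gen := FreeGroup.of Gen.t
abbrev a : FreeGroup Gen := FreeGroup.of Gen.a
abbrev b : FreeGroup Gen := FreeGroup.of Gen.b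
abbrev r2 : FreeGroup Gen := FreeGroup.of Gen.r2
abbrev r3 : FreeGroup Gen := FreeGroup.of Gen.r3
abbrev r4 : FreeGroup Gen := FreeGroup.of Gen.r4
abbrev r5 : FreeGroup Gen := FreeGroup.of Gen.r5
abbrev r6 : FreeGroup Gen := FreeGroup.of Gen.r6
abbrev r7 : FreeGroup Gen := FreeGroup.of Gen.r7
abbrev z2 : FreeGroup Gen := FreeGroup.of Gen.z2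
abbrev z3 : FreeGroup Gen := FreeGroup.of Gen.z3
abbrev z4 : FreeGroup Gen := FreeGroup.of Gen.z4
abbrev z5 : FreeGroup Gen := FreeGroup.of Gen.z5
abbrev z6 : FreeGroup Gen := FreeGroup.of Gen.z6
abbrev z7 : FreeGroup Gen := FreeGroup.of Gen.z7
abbrev z8 : FreeGroup Gen := FreeGroup.of Gen.z8
abbrev z9 : FreeGroup Gen := FreeGroup.of Gen.z9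
abbrev z10 : FreeGroup Gen := FreeGroup.of Gen.z10

/-- no Coxeter graph -/
def edges : List (Gen × ℕ × Gen) := []

/-- the relators -/
def extra : List (FreeGroup Gen) := [
  c ^ 7,
  d ^ 4,
  t ^ 7,
  a⁻¹ * ((d * t) ^ 4),
  b⁻¹ * c * c * c * d⁻¹ * t * c⁻¹ * d⁻¹ * t * c⁻¹ * d⁻¹,
  r2⁻¹ * c * d * c * d * c⁻¹ * t⁻¹ * c⁻¹ * d⁻¹ * c⁻¹ * d⁻¹ * t,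
  r3⁻¹ * c * c * c * c * t⁻¹ * c⁻¹ * d * c * c * c * d * t⁻¹ * b⁻¹ * b⁻¹,
  r4⁻¹ * c * c * c * d * c⁻¹ * d * c⁻¹ * c⁻¹ * c⁻¹ * t⁻¹ * c⁻¹ * d⁻¹ * t⁻¹ * b⁻¹ * b⁻¹,
  r5⁻¹ * c * c * d⁻¹ * c⁻¹ * d⁻¹ * c * c * t * d * c⁻¹ * c⁻¹ * t⁻¹ * d,
  r6⁻¹ * c * c * d * c * c * d⁻¹ * c * t⁻¹ * c * t⁻¹ * t⁻¹ * t⁻¹ * c * t⁻¹ * d⁻¹ * b⁻¹,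
  r7⁻¹ * c * c * d * t * c * t⁻¹ * c⁻¹ * c⁻¹ * t⁻¹ * d⁻¹ * t⁻¹ * d * c * d * d * b⁻¹,
  z2⁻¹ * (a ^ 3),
  z3⁻¹ * (b ^ 3),
  z4⁻¹ * a⁻¹ * c⁻¹ * a * c,
  z5⁻¹ * a⁻¹ * d⁻¹ * a * d,
  z6⁻¹ * a⁻¹ * t⁻¹ * a * t,
  z7⁻¹ * b⁻¹ * c⁻¹ * b * c,
  z8⁻¹ * b⁻¹ * d⁻¹ * b * d,
  z9⁻¹ * b⁻¹ * t⁻¹ * b * t,
  z10⁻¹ * a⁻¹ * b⁻¹ * a * b,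
  r2 ^ 3,
  r3 ^ 3,
  r4 ^ 3,
  r5 ^ 3,
  r6 ^ 3,
  r7 ^ 3,
  z2 ^ 3,
  z3 ^ 3,
  z4 ^ 3,
  z5 ^ 3,
  z6 ^ 3,
  z7 ^ 3,
  z8 ^ 3,
  z9 ^ 3,
  z10 ^ 3,
  r2 * c * r2⁻¹ * c⁻¹,
  r2 * d * r2⁻¹ * d⁻¹,
  r2 * t * r2⁻¹ * t⁻¹,
  r2 * a * r2⁻¹ * a⁻¹,
  r2 * b * r2⁻¹ * b⁻¹,
  r3 * c * r3⁻¹ * c⁻¹,
  r3 * d * r3⁻¹ * d⁻¹,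
  r3 * t * r3⁻¹ * t⁻¹,
  r3 * a * r3⁻¹ * a⁻¹,
  r3 * b * r3⁻¹ * b⁻¹,
  r4 * c * r4⁻¹ * c⁻¹,
  r4 * d * r4⁻¹ * d⁻¹,
  r4 * t * r4⁻¹ * t⁻¹,
  r4 * a * r4⁻¹ * a⁻¹,
  r4 * b * r4⁻¹ * b⁻¹,
  r5 * c * r5⁻¹ * c⁻¹,
  r5 * d * r5⁻¹ * d⁻¹,
  r5 * t * r5⁻¹ * t⁻¹,
  r5 * a * r5⁻¹ * a⁻¹,
  r5 * b * r5⁻¹ * b⁻¹,
  r6 * c * r6⁻¹ * c⁻¹,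
  r6 * d * r6⁻¹ * d⁻¹,
  r6 * t * r6⁻¹ * t⁻¹,
  r6 * a * r6⁻¹ * a⁻¹,
  r6 * b * r6⁻¹ * b⁻¹,
  r7 * c * r7⁻¹ * c⁻¹,
  r7 * d * r7⁻¹ * d⁻¹,
  r7 * t * r7⁻¹ * t⁻¹,
  r7 * a * r7⁻¹ * a⁻¹,
  r7 * b * r7⁻¹ * b⁻¹,
  z2 * c * z2⁻¹ * c⁻¹,
  z2 * d * z2⁻¹ * d⁻¹,
  z2 * t * z2⁻¹ * t⁻¹,
  z2 * a * z2⁻¹ * a⁻¹,
  z2 * b * z2⁻¹ * b⁻¹,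
  z3 * c * z3⁻¹ * c⁻¹,
  z3 * d * z3⁻¹ * d⁻¹,
  z3 * t * z3⁻¹ * t⁻¹,
  z3 * a * z3⁻¹ * a⁻¹,
  z3 * b * z3⁻¹ * b⁻¹,
  z4 * c * z4⁻¹ * c⁻¹,
  z4 * d * z4⁻¹ * d⁻¹,
  z4 * t * z4⁻¹ * t⁻¹,
  z4 * a * z4⁻¹ * a⁻¹,
  z4 * b * z4⁻¹ * b⁻¹,
  z5 * c * z5⁻¹ * c⁻¹,
  z5 * d * z5⁻¹ * d⁻¹,
  z5 * t * z5⁻¹ * t⁻¹,
  z5 * a * z5⁻¹ * a⁻¹,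
  z5 * b * z5⁻¹ * b⁻¹,
  z6 * c * z6⁻¹ * c⁻¹,
  z6 * d * z6⁻¹ * d⁻¹,
  z6 * t * z6⁻¹ * t⁻¹,
  z6 * a * z6⁻¹ * a⁻¹,
  z6 * b * z6⁻¹ * b⁻¹,
  z7 * c * z7⁻¹ * c⁻¹,
  z7 * d * z7⁻¹ * d⁻¹,
  z7 * t * z7⁻¹ * t⁻¹,
  z7 * a * z7⁻¹ * a⁻¹,
  z7 * b * z7⁻¹ * b⁻¹,
  z8 * c * z8⁻¹ * c⁻¹,
  z8 * d * z8⁻¹ * d⁻¹,
  z8 * t * z8⁻¹ * t⁻¹,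
  z8 * a * z8⁻¹ * a⁻¹,
  z8 * b * z8⁻¹ * b⁻¹,
  z9 * c * z9⁻¹ * c⁻¹,
  z9 * d * z9⁻¹ * d⁻¹,
  z9 * t * z9⁻¹ * t⁻¹,
  z9 * a * z9⁻¹ * a⁻¹,
  z9 * b * z9⁻¹ * b⁻¹,
  z10 * c * z10⁻¹ * c⁻¹,
  z10 * d * z10⁻¹ * d⁻¹,
  z10 * t * z10⁻¹ * t⁻¹,
  z10 * a * z10⁻¹ * a⁻¹,
  z10 * b * z10⁻¹ * b⁻¹,
  c ^ 7,
  c * c * d * c⁻¹ * d * c * d⁻¹ * c * d * c⁻¹ * d,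
  (c * c * c * d) ^ 3,
  c * c * d * d * c * c * d⁻¹ * d⁻¹ * c * c * d⁻¹ * d⁻¹,
  t * c * c * c * d * c * t⁻¹ * (d * c⁻¹ * c⁻¹ * c⁻¹)⁻¹,
  t * c * d * c * d * c⁻¹ * t⁻¹ * (d * c * d * c)⁻¹,
  t * c * d⁻¹ * c⁻¹ * d⁻¹ * c⁻¹ * t⁻¹ * (c⁻¹ * d⁻¹ * c⁻¹ * d⁻¹)⁻¹,
  t * c⁻¹ * d⁻¹ * c⁻¹ * c⁻¹ * c⁻¹ * t⁻¹ * (c * c * c * d⁻¹)⁻¹,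
  t⁻¹ * c * c * c * d⁻¹ * t⁻¹⁻¹ * (c⁻¹ * d⁻¹ * c⁻¹ * c⁻¹ * c⁻¹)⁻¹,
  t⁻¹ * c⁻¹ * d⁻¹ * c⁻¹ * d⁻¹ * t⁻¹⁻¹ * (c * d⁻¹ * c⁻¹ * d⁻¹ * c⁻¹)⁻¹,
  t⁻¹ * d * c * d * c * t⁻¹⁻¹ * (c * d * c * d * c⁻¹)⁻¹,
  t⁻¹ * d * c⁻¹ * c⁻¹ * c⁻¹ * t⁻¹⁻¹ * (c * c * c * d * c)⁻¹,
  t * c * d * c * d * (t * c)⁻¹ * (d * c * d * c)⁻¹,
  t * c * d⁻¹ * c⁻¹ * d⁻¹ * (t * c)⁻¹ * (c⁻¹ * d⁻¹ * c⁻¹ * d⁻¹)⁻¹,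
  t * c⁻¹ * c⁻¹ * c⁻¹ * c⁻¹ * d * (t * c⁻¹)⁻¹ * (d * c⁻¹ * c⁻¹ * c⁻¹)⁻¹,
  t * c⁻¹ * d⁻¹ * c * c * c * (t * c⁻¹)⁻¹ * (c * c * c * d⁻¹)⁻¹,
  t * c * c * d⁻¹ * t⁻¹ * (d * c * c * d⁻¹ * c⁻¹ * d⁻¹ * c * c)⁻¹,
  t * d * c⁻¹ * c⁻¹ * t⁻¹ * (c⁻¹ * c⁻¹ * d * c * d * c⁻¹ * c⁻¹ * d⁻¹)⁻¹,
  t * c⁻¹ * d⁻¹ * c⁻¹ * d⁻¹ * t⁻¹ * (c⁻¹ * c⁻¹ * d⁻¹ * c⁻¹ * d⁻¹ * c * c)⁻¹,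
  t * d * c * d * c * t⁻¹ * (c⁻¹ * c⁻¹ * d * c * d * c * c)⁻¹,
  t⁻¹ * c⁻¹ * c⁻¹ * d * c * d * c * c * t⁻¹⁻¹ * (d * c * d * c)⁻¹,
  t⁻¹ * c⁻¹ * c⁻¹ * d⁻¹ * c⁻¹ * d⁻¹ * c * c * t⁻¹⁻¹ * (c⁻¹ * d⁻¹ * c⁻¹ * d⁻¹)⁻¹,
  t⁻¹ * c⁻¹ * c⁻¹ * d * c * d * c⁻¹ * c⁻¹ * d⁻¹ * t⁻¹⁻¹ * (d * c⁻¹ * c⁻¹)⁻¹,
  t⁻¹ * d * c * c * d⁻¹ * c⁻¹ * d⁻¹ * c * c * t⁻¹⁻¹ * (c * c * d⁻¹)⁻¹,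
  t * t * c * d * c * d * c⁻¹ * (t * t)⁻¹ * (c⁻¹ * c⁻¹ * d * c * d * c * c)⁻¹,
  t * t * c * d⁻¹ * c⁻¹ * d⁻¹ * c⁻¹ * (t * t)⁻¹ * (c⁻¹ * c⁻¹ * d⁻¹ * c⁻¹ * d⁻¹ * c * c)⁻¹,
  t⁻¹ * t⁻¹ * c⁻¹ * c⁻¹ * d * c * d * c * c * (t⁻¹ * t⁻¹)⁻¹ * (c * d * c * d * c⁻¹)⁻¹,
  t⁻¹ * t⁻¹ * c⁻¹ * c⁻¹ * d⁻¹ * c⁻¹ * d⁻¹ * c * c * (t⁻¹ * t⁻¹)⁻¹ * (c * d⁻¹ * c⁻¹ * d⁻¹ * c⁻¹)⁻¹,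
  t * t * c * c * d⁻¹ * c⁻¹ * d⁻¹ * c⁻¹ * d⁻¹ * (t * t)⁻¹ * (c * d⁻¹ * c * d * d * c⁻¹ * d * c⁻¹)⁻¹,
  t⁻¹ * t⁻¹ * c * d⁻¹ * c * d * d * c⁻¹ * d * c⁻¹ * (t⁻¹ * t⁻¹)⁻¹ * (c * c * d⁻¹ * c⁻¹ * d⁻¹ * c⁻¹ * d⁻¹)⁻¹,
  t * t * c⁻¹ * d * c * d⁻¹ * c * c * c * d * (t * t)⁻¹ * (d⁻¹ * c⁻¹ * d * c⁻¹ * c⁻¹ * c⁻¹ * d⁻¹ * c)⁻¹,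
  t * t * d⁻¹ * c⁻¹ * c⁻¹ * c⁻¹ * d * c⁻¹ * d⁻¹ * c * (t * t)⁻¹ * (c⁻¹ * d * c * c * c * d⁻¹ * c * d)⁻¹,
  t⁻¹ * t⁻¹ * c⁻¹ * d * c * c * c * d⁻¹ * c * d * (t⁻¹ * t⁻¹)⁻¹ * (d⁻¹ * c⁻¹ * c⁻¹ * c⁻¹ * d * c⁻¹ * d⁻¹ * c)⁻¹,
  t⁻¹ * t⁻¹ * d⁻¹ * c⁻¹ * d * c⁻¹ * c⁻¹ * c⁻¹ * d⁻¹ * c * (t⁻¹ * t⁻¹)⁻¹ * (c⁻¹ * d * c * d⁻¹ * c * c * c * d)⁻¹,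
  t * t * c⁻¹ * c⁻¹ * c⁻¹ * d * c⁻¹ * d⁻¹ * c * c * d * (t * t)⁻¹ * (c * d * c⁻¹ * c⁻¹ * d * d * c * d⁻¹ * c⁻¹)⁻¹,
  t * t * d⁻¹ * c⁻¹ * c⁻¹ * d * c * d⁻¹ * c * c * c * (t * t)⁻¹ * (c * c * d⁻¹ * c * d * c⁻¹ * c⁻¹ * d⁻¹ * c)⁻¹,
  t⁻¹ * t⁻¹ * c * c * d⁻¹ * c * d * c⁻¹ * c⁻¹ * d⁻¹ * c * (t⁻¹ * t⁻¹)⁻¹ * (d⁻¹ * c⁻¹ * c⁻¹ * d * c * d⁻¹ * c * c * c)⁻¹,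
  t⁻¹ * t⁻¹ * c * d * c⁻¹ * c⁻¹ * d * d * c * d⁻¹ * c⁻¹ * (t⁻¹ * t⁻¹)⁻¹ * (c⁻¹ * c⁻¹ * c⁻¹ * d * c⁻¹ * d⁻¹ * c * c * d)⁻¹ ]

end SC9U43p3

end Cfsg.Agent.Lib.Helper4
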