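import Mathlib
import Cfsg.Prelude.Def_SporCoxeter

/-! The auxiliary presentation `SCo3pp5` for stem extensions of `Co3p` with kernel of order 5 (generated). -/

namespace Cfsg.Agent.Lib.Helper4

namespace SCo3pp5

/-- the generators -/
inductive Gen
  | a
  | b
  | g
  | t
  | z1
  | z2
  | z3
  | z4
  deriving DecidableEq

abbrev a : FreeGroup Gen := FreeGroup.of Gen.a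
abbrev b : FreeGroup Gen := FreeGroup.of Gen.b
abbrev g : FreeGroup Gen := FreeGroup.of Gen.g
abbrev t : FreeGroup Gen := FreeGroup.of Gen.t
abbrev z1 : FreeGroup Gen := FreeGroup.of Gen.z1
abbrev z2 : FreeGroup Gen := FreeGroup.of Gen.z2
abbrev z3 : FreeGroup Gen := FreeGroup.of Gen.z3
abbrev z4 : FreeGroup Gen := FreeGroup.of Gen.z4

/-- no Coxeter graph -/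
def edges : List (Gen × ℕ × Gen) := []

/-- the relators -/
def extra : List (FreeGroup Gen) := [
  a ^ 2,
  b ^ 4,
  g ^ 23,
  t ^ 2,
  z1⁻¹ * a * b * a * b * b * a * b * a * b * b * a * b * g⁻¹ * a * t * g⁻¹ * t * g⁻¹ * a * t * b⁻¹,
  z2⁻¹ * a * b * a * b * g⁻¹ * b⁻¹ * g⁻¹ * a * t * g⁻¹ * a * g * t * b * b * a * b * b * a * b⁻¹ * a * b * b,
  z3⁻¹ * a * b * a * b⁻¹ * b⁻¹ * a * b * a * b⁻¹ * b⁻¹ * a * t * g⁻¹ * b * g⁻¹ * a * b⁻¹ * b⁻¹ * t * a * g * g * b * g⁻¹,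
  z4⁻¹ * a * b * a * b * a * b⁻¹ * b⁻¹ * a * b⁻¹ * b⁻¹ * t * g * a * b⁻¹ * g⁻¹ * a * t * b⁻¹ * g * b⁻¹ * g⁻¹ * a * g * b⁻¹ * b⁻¹ * a * b⁻¹,
  z1 ^ 5,
  z2 ^ 5,
  z3 ^ 5,
  z4 ^ 5,
  z1 * a * z1⁻¹ * a⁻¹,
  z1 * b * z1⁻¹ * b⁻¹,
  z1 * g * z1⁻¹ * g⁻¹,
  z1 * t * z1⁻¹ * t⁻¹,
  z2 * a * z2⁻¹ * a⁻¹,
  z2 * b * z2⁻¹ * b⁻¹,
  z2 * g * z2⁻¹ * g⁻¹,
  z2 * t * z2⁻¹ * t⁻¹,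
  z3 * a * z3⁻¹ * a⁻¹,
  z3 * b * z3⁻¹ * b⁻¹,
  z3 * g * z3⁻¹ * g⁻¹,
  z3 * t * z3⁻¹ * t⁻¹,
  z4 * a * z4⁻¹ * a⁻¹,
  z4 * b * z4⁻¹ * b⁻¹,
  z4 * g * z4⁻¹ * g⁻¹,
  z4 * t * z4⁻¹ * t⁻¹,
  a ^ 2,
  b ^ 4,
  (a * b) ^ 11,
  (a * b * b) ^ 6,
  a * b * a * b * a * b⁻¹ * a * b * a * b * b * a * b⁻¹ * a * b * a * b⁻¹ * a * b⁻¹,
  g ^ 23,
  a * b * g * b⁻¹ * a⁻¹ * g⁻¹ * g⁻¹,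
  a * g * a * g * b⁻¹ * g * a * g * g * b⁻¹ * g⁻¹ * g⁻¹,
  a * g * a * g⁻¹ * a * g * a * g⁻¹ * a⁻¹ * g * a⁻¹ * g⁻¹,
  a * b * a * g * g * b * a * g * g * b * g⁻¹ * b⁻¹ * g⁻¹ * b * b,
  a * b * g⁻¹ * a * g * b * g⁻¹ * g⁻¹ * a⁻¹ * g⁻¹ * a⁻¹ * g * b * b * g⁻¹,
  a * b⁻¹ * g⁻¹ * a⁻¹ * g * b⁻¹ * g * b⁻¹ * b⁻¹ * g⁻¹ * a * g * b⁻¹ * g * b⁻¹,
  t * b * g * g * a * g⁻¹ * a * b⁻¹ * a * t⁻¹ * (a * b * a * g * a * g⁻¹ * g⁻¹ * b⁻¹)⁻¹,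
  t * a * b * a * g * a * g⁻¹ * g⁻¹ * b⁻¹ * t⁻¹ * (b * a * b * g * b⁻¹ * g⁻¹ * a * b⁻¹ * a)⁻¹,
  t * g * b * a * g⁻¹ * g⁻¹ * a * b⁻¹ * a * b⁻¹ * t⁻¹ * (b * a * b * b * g * b * b * g⁻¹)⁻¹,
  t * g * a * g * b⁻¹ * g * g * g * b * g * b⁻¹ * t⁻¹ * (b * b * a * b⁻¹ * g⁻¹ * b * g⁻¹ * b * b * g)⁻¹,
  t * g⁻¹ * b * b * g⁻¹ * g⁻¹ * b⁻¹ * g⁻¹ * b * g⁻¹ * t⁻¹ * (a * b⁻¹ * a * b * b * a * g⁻¹ * b⁻¹ * g⁻¹ * b⁻¹ * g⁻¹)⁻¹,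
  t * g⁻¹ * a * g * t⁻¹ * (b * b * a * b * b * a * b⁻¹ * a * b * b * a * b * a * b * g⁻¹ * b⁻¹ * g⁻¹ * a)⁻¹ ]

end SCo3pp5

end Cfsg.Agent.Lib.Helper4
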