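import Mathlib
import Cfsg.Prelude.Def_SporCoxeter

/-! The auxiliary presentation `SHep2` for stem extensions of `He` with kernel of order 2 (generated). -/

namespace Cfsg.Agent.Lib.Helper4

namespace SHep2

/-- the generators -/
inductive Gen
  | x
  | y
  | w
  | a
  | d
  | f
  | s
  | r
  | b
  | g
  | z1
  | z2
  | z3
  | z4
  | z5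
  | z6
  | z7
  | z8
  | z9
  | z10
  deriving DecidableEq

abbrev x : FreeGroup Gen := FreeGroup.of Gen.x
abbrev y : FreeGroup Gen := FreeGroup.of Gen.y
abbrev w : FreeGroup Gen := FreeGroup.of Gen.w
abbrev a : FreeGroup Gen := FreeGroup.of Gen.a
abbrev d : FreeGroup Gen := FreeGroup.of Gen.d
abbrev f : FreeGroup Gen := FreeGroup.of Gen.f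
abbrev s : FreeGroup Gen := FreeGroup.of Gen.s
abbrev r : FreeGroup Gen := FreeGroup.of Gen.r
abbrev b : FreeGroup Gen := FreeGroup.of Gen.b
abbrev g : FreeGroup Gen := FreeGroup.of Gen.g
abbrev z1 : FreeGroup Gen := FreeGroup.of Gen.z1
abbrev z2 : FreeGroup Gen := FreeGroup.of Gen.z2
abbrev z3 : FreeGroup Gen := FreeGroup.of Gen.z3
abbrev z4 : FreeGroup Gen := FreeGroup.of Gen.z4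
abbrev z5 : FreeGroup Gen := FreeGroup.of Gen.z5
abbrev z6 : FreeGroup Gen := FreeGroup.of Gen.z6
abbrev z7 : FreeGroup Gen := FreeGroup.of Gen.z7
abbrev z8 : FreeGroup Gen := FreeGroup.of Gen.z8
abbrev z9 : FreeGroup Gen := FreeGroup.of Gen.z9
abbrev z10 : FreeGroup Gen := FreeGroup.of Gen.z10

/-- no Coxeter graph -/
def edges : List (Gen × ℕ × Gen) := []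

/-- the relators -/
def extra : List (FreeGroup Gen) := [
  x ^ 17,
  y ^ 2,
  w ^ 2,
  a ^ 2,
  d ^ 2,
  f ^ 2,
  s ^ 3,
  r ^ 3,
  b⁻¹ * s * w⁻¹,
  g⁻¹ * r * d⁻¹,
  z1⁻¹ * b * d * b⁻¹ * d⁻¹,
  z2⁻¹ * b * f * b⁻¹ * f⁻¹,
  z3⁻¹ * b * g * b⁻¹ * g⁻¹,
  z4⁻¹ * g * a * g⁻¹ * a⁻¹,
  z5⁻¹ * g * w * g⁻¹ * w⁻¹,
  z6⁻¹ * y * ((f * g) ^ 2)⁻¹,
  z7⁻¹ * ((w * d * f * g) ^ 4),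
  z8⁻¹ * ((b * w * d * y) ^ 7) * (d * w * x * f)⁻¹,
  z9⁻¹ * b * b,
  z10⁻¹ * g * g,
  z1 ^ 2,
  z2 ^ 2,
  z3 ^ 2,
  z4 ^ 2,
  z5 ^ 2,
  z6 ^ 2,
  z7 ^ 2,
  z8 ^ 2,
  z9 ^ 2,
  z10 ^ 2,
  z1 * x * z1⁻¹ * x⁻¹,
  z1 * y * z1⁻¹ * y⁻¹,
  z1 * w * z1⁻¹ * w⁻¹,
  z1 * a * z1⁻¹ * a⁻¹,
  z1 * d * z1⁻¹ * d⁻¹,
  z1 * f * z1⁻¹ * f⁻¹,
  z1 * s * z1⁻¹ * s⁻¹,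
  z1 * r * z1⁻¹ * r⁻¹,
  z1 * b * z1⁻¹ * b⁻¹,
  z1 * g * z1⁻¹ * g⁻¹,
  z2 * x * z2⁻¹ * x⁻¹,
  z2 * y * z2⁻¹ * y⁻¹,
  z2 * w * z2⁻¹ * w⁻¹,
  z2 * a * z2⁻¹ * a⁻¹,
  z2 * d * z2⁻¹ * d⁻¹,
  z2 * f * z2⁻¹ * f⁻¹,
  z2 * s * z2⁻¹ * s⁻¹,
  z2 * r * z2⁻¹ * r⁻¹,
  z2 * b * z2⁻¹ * b⁻¹,
  z2 * g * z2⁻¹ * g⁻¹,
  z3 * x * z3⁻¹ * x⁻¹,
  z3 * y * z3⁻¹ * y⁻¹,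
  z3 * w * z3⁻¹ * w⁻¹,
  z3 * a * z3⁻¹ * a⁻¹,
  z3 * d * z3⁻¹ * d⁻¹,
  z3 * f * z3⁻¹ * f⁻¹,
  z3 * s * z3⁻¹ * s⁻¹,
  z3 * r * z3⁻¹ * r⁻¹,
  z3 * b * z3⁻¹ * b⁻¹,
  z3 * g * z3⁻¹ * g⁻¹,
  z4 * x * z4⁻¹ * x⁻¹,
  z4 * y * z4⁻¹ * y⁻¹,
  z4 * w * z4⁻¹ * w⁻¹,
  z4 * a * z4⁻¹ * a⁻¹,
  z4 * d * z4⁻¹ * d⁻¹,
  z4 * f * z4⁻¹ * f⁻¹,
  z4 * s * z4⁻¹ * s⁻¹,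
  z4 * r * z4⁻¹ * r⁻¹,
  z4 * b * z4⁻¹ * b⁻¹,
  z4 * g * z4⁻¹ * g⁻¹,
  z5 * x * z5⁻¹ * x⁻¹,
  z5 * y * z5⁻¹ * y⁻¹,
  z5 * w * z5⁻¹ * w⁻¹,
  z5 * a * z5⁻¹ * a⁻¹,
  z5 * d * z5⁻¹ * d⁻¹,
  z5 * f * z5⁻¹ * f⁻¹,
  z5 * s * z5⁻¹ * s⁻¹,
  z5 * r * z5⁻¹ * r⁻¹,
  z5 * b * z5⁻¹ * b⁻¹,
  z5 * g * z5⁻¹ * g⁻¹,
  z6 * x * z6⁻¹ * x⁻¹,
  z6 * y * z6⁻¹ * y⁻¹,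
  z6 * w * z6⁻¹ * w⁻¹,
  z6 * a * z6⁻¹ * a⁻¹,
  z6 * d * z6⁻¹ * d⁻¹,
  z6 * f * z6⁻¹ * f⁻¹,
  z6 * s * z6⁻¹ * s⁻¹,
  z6 * r * z6⁻¹ * r⁻¹,
  z6 * b * z6⁻¹ * b⁻¹,
  z6 * g * z6⁻¹ * g⁻¹,
  z7 * x * z7⁻¹ * x⁻¹,
  z7 * y * z7⁻¹ * y⁻¹,
  z7 * w * z7⁻¹ * w⁻¹,
  z7 * a * z7⁻¹ * a⁻¹,
  z7 * d * z7⁻¹ * d⁻¹,
  z7 * f * z7⁻¹ * f⁻¹,
  z7 * s * z7⁻¹ * s⁻¹,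
  z7 * r * z7⁻¹ * r⁻¹,
  z7 * b * z7⁻¹ * b⁻¹,
  z7 * g * z7⁻¹ * g⁻¹,
  z8 * x * z8⁻¹ * x⁻¹,
  z8 * y * z8⁻¹ * y⁻¹,
  z8 * w * z8⁻¹ * w⁻¹,
  z8 * a * z8⁻¹ * a⁻¹,
  z8 * d * z8⁻¹ * d⁻¹,
  z8 * f * z8⁻¹ * f⁻¹,
  z8 * s * z8⁻¹ * s⁻¹,
  z8 * r * z8⁻¹ * r⁻¹,
  z8 * b * z8⁻¹ * b⁻¹,
  z8 * g * z8⁻¹ * g⁻¹,
  z9 * x * z9⁻¹ * x⁻¹,
  z9 * y * z9⁻¹ * y⁻¹,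
  z9 * w * z9⁻¹ * w⁻¹,
  z9 * a * z9⁻¹ * a⁻¹,
  z9 * d * z9⁻¹ * d⁻¹,
  z9 * f * z9⁻¹ * f⁻¹,
  z9 * s * z9⁻¹ * s⁻¹,
  z9 * r * z9⁻¹ * r⁻¹,
  z9 * b * z9⁻¹ * b⁻¹,
  z9 * g * z9⁻¹ * g⁻¹,
  z10 * x * z10⁻¹ * x⁻¹,
  z10 * y * z10⁻¹ * y⁻¹,
  z10 * w * z10⁻¹ * w⁻¹,
  z10 * a * z10⁻¹ * a⁻¹,
  z10 * d * z10⁻¹ * d⁻¹,
  z10 * f * z10⁻¹ * f⁻¹,
  z10 * s * z10⁻¹ * s⁻¹,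
  z10 * r * z10⁻¹ * r⁻¹,
  z10 * b * z10⁻¹ * b⁻¹,
  z10 * g * z10⁻¹ * g⁻¹,
  x ^ 17,
  y ^ 2,
  (x * x * x * y * x⁻¹ * y * x * y) ^ 2,
  ((x ^ 5) * y) ^ 3,
  w ^ 2,
  y * w * y * w,
  (x * w) ^ 5,
  x * y * x⁻¹ * y * w * x⁻¹ * y * x * w * x * w * y * x * w * y * x * w,
  x * x * y * x * w * x * w * x⁻¹ * x⁻¹ * y * x⁻¹ * w * x * w * x * y * x * y,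
  a⁻¹ * x * x * x * w * x⁻¹ * w * x * w * x⁻¹ * x⁻¹ * x⁻¹,
  d⁻¹ * x * y * w * x⁻¹ * w * x * y * x⁻¹ * w * x * w * x⁻¹ * y * w,
  f⁻¹ * x * y * x⁻¹ * y * x * y * w,
  (w * d) ^ 10,
  (d * y) ^ 3,
  (d * f) ^ 3,
  a * w * a⁻¹ * w⁻¹,
  a * d * a⁻¹ * d⁻¹,
  a * y * a⁻¹ * y⁻¹,
  a * f * a⁻¹ * f⁻¹,
  w * y * w⁻¹ * y⁻¹,
  w * f * w⁻¹ * f⁻¹,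
  y * f * y⁻¹ * f⁻¹,
  a * ((w * d) ^ 5)⁻¹,
  b * w * x * b⁻¹ * (w * x)⁻¹,
  b * w * x * y * b⁻¹ * (w * x * y)⁻¹,
  b * w * x⁻¹ * y * w * x * w * x⁻¹ * y * x * w * x⁻¹ * b⁻¹ * (w * x⁻¹ * y * w * x * w * x⁻¹ * y * x * w * x⁻¹)⁻¹,
  g * x⁻¹ * x⁻¹ * y * x⁻¹ * x⁻¹ * x⁻¹ * w * g⁻¹ * (x⁻¹ * x⁻¹ * y * x⁻¹ * x⁻¹ * x⁻¹)⁻¹,
  g * x⁻¹ * x⁻¹ * y * x⁻¹ * x⁻¹ * x⁻¹ * g⁻¹ * (x⁻¹ * x⁻¹ * y * x⁻¹ * x⁻¹ * x⁻¹ * w)⁻¹,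
  g * x⁻¹ * x⁻¹ * y * x⁻¹ * x⁻¹ * x⁻¹ * y * g⁻¹ * (x⁻¹ * x⁻¹ * y * x⁻¹ * x⁻¹ * x⁻¹ * y * w)⁻¹,
  g * x * x * y * x * x * x * y * w * g⁻¹ * (y * x * x * y * x * x * x)⁻¹ ]

end SHep2

end Cfsg.Agent.Lib.Helper4
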