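import Mathlib
import Cfsg.Prelude.Def_SporCoxeter

/-! The auxiliary presentation `SHep7` for stem extensions of `He` with kernel of order 7 (generated). -/

namespace Cfsg.Agent.Lib.Helper4

namespace SHep7

/-- the generators -/
inductive Gen
  | x
  | y
  | w
  | a
  | d
  | f
  | b
  | g
  | z1
  | z2
  | z3
  deriving DecidableEq

abbrev x : FreeGroup Gen := FreeGroup.of Gen.x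
abbrev y : FreeGroup Gen := FreeGroup.of Gen.y
abbrev w : FreeGroup Gen := FreeGroup.of Gen.w
abbrev a : FreeGroup Gen := FreeGroup.of Gen.a
abbrev d : FreeGroup Gen := FreeGroup.of Gen.d
abbrev f : FreeGroup Gen := FreeGroup.of Gen.f
abbrev b : FreeGroup Gen := FreeGroup.of Gen.b
abbrev g : FreeGroup Gen := FreeGroup.of Gen.g
abbrev z1 : FreeGroup Gen := FreeGroup.of Gen.z1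
abbrev z2 : FreeGroup Gen := FreeGroup.of Gen.z2
abbrev z3 : FreeGroup Gen := FreeGroup.of Gen.z3

/-- no Coxeter graph -/
def edges : List (Gen × ℕ × Gen) := []

/-- the relators -/
def extra : List (FreeGroup Gen) := [
  x ^ 17,
  y ^ 2,
  w ^ 2,
  a ^ 2,
  d ^ 2,
  f ^ 2,
  b ^ 2,
  g ^ 2,
  z1⁻¹ * y * ((a * b * w) ^ 3)⁻¹,
  z2⁻¹ * ((w * d * f * g) ^ 4),
  z3⁻¹ * ((b * w * d * y) ^ 7) * (d * w * x * f)⁻¹,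
  z1 ^ 7,
  z2 ^ 7,
  z3 ^ 7,
  z1 * x * z1⁻¹ * x⁻¹,
  z1 * y * z1⁻¹ * y⁻¹,
  z1 * w * z1⁻¹ * w⁻¹,
  z1 * a * z1⁻¹ * a⁻¹,
  z1 * d * z1⁻¹ * d⁻¹,
  z1 * f * z1⁻¹ * f⁻¹,
  z1 * b * z1⁻¹ * b⁻¹,
  z1 * g * z1⁻¹ * g⁻¹,
  z2 * x * z2⁻¹ * x⁻¹,
  z2 * y * z2⁻¹ * y⁻¹,
  z2 * w * z2⁻¹ * w⁻¹,
  z2 * a * z2⁻¹ * a⁻¹,
  z2 * d * z2⁻¹ * d⁻¹,
  z2 * f * z2⁻¹ * f⁻¹,
  z2 * b * z2⁻¹ * b⁻¹,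
  z2 * g * z2⁻¹ * g⁻¹,
  z3 * x * z3⁻¹ * x⁻¹,
  z3 * y * z3⁻¹ * y⁻¹,
  z3 * w * z3⁻¹ * w⁻¹,
  z3 * a * z3⁻¹ * a⁻¹,
  z3 * d * z3⁻¹ * d⁻¹,
  z3 * f * z3⁻¹ * f⁻¹,
  z3 * b * z3⁻¹ * b⁻¹,
  z3 * g * z3⁻¹ * g⁻¹,
  x ^ 17,
  y ^ 2,
  (x * x * x * y * x⁻¹ * y * x * y) ^ 2,
  ((x ^ 5) * y) ^ 3,
  w ^ 2,
  y * w * y * w,
  (x * w) ^ 5,
  x * y * x⁻¹ * y * w * x⁻¹ * y * x * w * x * w * y * x * w * y * x * w,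
  x * x * y * x * w * x * w * x⁻¹ * x⁻¹ * y * x⁻¹ * w * x * w * x * y * x * y,
  a⁻¹ * x * x * x * w * x⁻¹ * w * x * w * x⁻¹ * x⁻¹ * x⁻¹,
  d⁻¹ * x * y * w * x⁻¹ * w * x * y * x⁻¹ * w * x * w * x⁻¹ * y * w,
  f⁻¹ * x * y * x⁻¹ * y * x * y * w,
  (w * d) ^ 10,
  (d * y) ^ 3,
  (d * f) ^ 3,
  a * w * a⁻¹ * w⁻¹,
  a * d * a⁻¹ * d⁻¹,
  a * y * a⁻¹ * y⁻¹,
  a * f * a⁻¹ * f⁻¹,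
  w * y * w⁻¹ * y⁻¹,
  w * f * w⁻¹ * f⁻¹,
  y * f * y⁻¹ * f⁻¹,
  a * ((w * d) ^ 5)⁻¹,
  ((b * a) ^ 2) * b * ((b * a) ^ 2)⁻¹ * b⁻¹,
  b * w * b * (b * w)⁻¹ * w⁻¹,
  d * b * d⁻¹ * b⁻¹,
  y * b * y⁻¹ * b⁻¹,
  f * b * f⁻¹ * b⁻¹,
  g * b * g⁻¹ * b⁻¹,
  ((g * f) ^ 2) * g * ((g * f) ^ 2)⁻¹ * g⁻¹,
  g * d * g * (g * d)⁻¹ * d⁻¹,
  a * g * a⁻¹ * g⁻¹,
  w * g * w⁻¹ * g⁻¹,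
  y * g * y⁻¹ * g⁻¹,
  g * f * g⁻¹ * (f * y)⁻¹,
  b * y * b⁻¹ * y⁻¹,
  b * w * x * b⁻¹ * (w * x)⁻¹,
  b * x * y * w * x⁻¹ * y * w * x * y * w * x⁻¹ * b⁻¹ * (x * y * w * x⁻¹ * y * w * x * y * w * x⁻¹)⁻¹,
  g * y * g⁻¹ * y⁻¹,
  g * w * g⁻¹ * w⁻¹,
  g * x * y * x⁻¹ * y * x * y * g⁻¹ * (x * y * x⁻¹ * y * x)⁻¹,
  g * x⁻¹ * x⁻¹ * y * x⁻¹ * x⁻¹ * x⁻¹ * w * g⁻¹ * (x⁻¹ * x⁻¹ * y * x⁻¹ * x⁻¹ * x⁻¹)⁻¹ ]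

end SHep7

end Cfsg.Agent.Lib.Helper4
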