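import Mathlib
import Cfsg.Prelude.Def_SporCoxeter

/-! The auxiliary presentation `SL216pp2` for stem extensions of `L216p` with kernel of order 2 (generated). -/

namespace Cfsg.Agent.Lib.Helper4

namespace SL216pp2

/-- the generators -/
inductive Gen
  | x
  | t
  | y
  | z1
  | z2
  | z3
  deriving DecidableEq

abbrev x : FreeGroup Gen := FreeGroup.of Gen.x
abbrev t : FreeGroup Gen := FreeGroup.of Gen.t
abbrev y : FreeGroup Gen := FreeGroup.of Gen.y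
abbrev z1 : FreeGroup Gen := FreeGroup.of Gen.z1
abbrev z2 : FreeGroup Gen := FreeGroup.of Gen.z2
abbrev z3 : FreeGroup Gen := FreeGroup.of Gen.z3

/-- no Coxeter graph -/
def edges : List (Gen × ℕ × Gen) := []

/-- the relators -/
def extra : List (FreeGroup Gen) := [
  x ^ 17,
  t ^ 15,
  y⁻¹ * x⁻¹ * t,
  z1⁻¹ * y * y,
  z2⁻¹ * ((x * x * x * y * x⁻¹ * y * x * y) ^ 2),
  z3⁻¹ * (((x ^ 5) * y) ^ 3),
  z1 ^ 2,
  z2 ^ 2,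
  z3 ^ 2,
  z1 * x * z1⁻¹ * x⁻¹,
  z1 * t * z1⁻¹ * t⁻¹,
  z1 * y * z1⁻¹ * y⁻¹,
  z2 * x * z2⁻¹ * x⁻¹,
  z2 * t * z2⁻¹ * t⁻¹,
  z2 * y * z2⁻¹ * y⁻¹,
  z3 * x * z3⁻¹ * x⁻¹,
  z3 * t * z3⁻¹ * t⁻¹,
  z3 * y * z3⁻¹ * y⁻¹,
  x ^ 17 ]

end SL216pp2

end Cfsg.Agent.Lib.Helper4
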