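import Mathlib
import Cfsg.Prelude.Def_SporCoxeter

/-! The auxiliary presentation `SL225pp5` for stem extensions of `L225p` with kernel of order 5 (generated). -/

namespace Cfsg.Agent.Lib.Helper4

namespace SL225pp5

/-- the generators -/
inductive Gen
  | c
  | b
  | a
  | z
  | y
  deriving DecidableEq

abbrev c : FreeGroup Gen := FreeGroup.of Gen.c
abbrev b : FreeGroup Gen := FreeGroup.of Gen.b
abbrev a : FreeGroup Gen := FreeGroup.of Gen.a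
abbrev z : FreeGroup Gen := FreeGroup.of Gen.z
abbrev y : FreeGroup Gen := FreeGroup.of Gen.y

/-- no Coxeter graph -/
def edges : List (Gen × ℕ × Gen) := []

/-- the relators -/
def extra : List (FreeGroup Gen) := [
  c ^ 13,
  b ^ 3,
  a⁻¹ * c * b⁻¹,
  z⁻¹ * a * a,
  y⁻¹ * ((((a * b) ^ 3) * a * b⁻¹ * ((a * b) ^ 2) * ((a * b⁻¹) ^ 2)) ^ 2),
  z ^ 5,
  y ^ 5,
  z * c * z⁻¹ * c⁻¹,
  z * b * z⁻¹ * b⁻¹,
  z * a * z⁻¹ * a⁻¹,
  y * c * y⁻¹ * c⁻¹,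
  y * b * y⁻¹ * b⁻¹,
  y * a * y⁻¹ * a⁻¹ ]

end SL225pp5

end Cfsg.Agent.Lib.Helper4
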