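import Mathlib
import Cfsg.Agent.Lib.Helper4.L225pMain
import Cfsg.Agent.Lib.Helper4.TCD_SL225pp5A_Fin
import Cfsg.Agent.Lib.Helper4.TCD_SL225pp5W
import Cfsg.Agent.Lib.Helper4.StemLib5

/-! `L225p` has no stem extension with kernel of order 5 (generated). -/

namespace Cfsg.Agent.Lib.Helper4.SL225pp5Main

open Cfsg.Agent.Lib.Helper4.TC Cfsg.Agent.Lib.Helper4.TCD Cfsg.Agent.Lib.Helper4.TC.Log Cfsg.Agent.Lib.Helper4.Stem

/-- the description of the auxiliary presentation -/
def spec : Spec2 :=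
  { p := 5
    items := [(0, [], 13),
      (2, [], 3),
      (4, [0, 3], 0),
      (6, [4, 4], 0),
      (8, [4, 2, 4, 2, 4, 2, 4, 3, 4, 2, 4, 2, 4, 3, 4, 3, 4, 2, 4, 2, 4, 2, 4, 3, 4, 2, 4, 2, 4, 3, 4, 3], 0)]
    cen := [6, 8]
    R := []
    sub := [0]
    PR := [] }

/-- the letters of the auxiliary presentation as words of the base group -/
def Wl (l : ℕ) : List ℕ :=
  [[0, 2], [3, 1], [2], [3], [0], [1], [], [], [], []].getD l []

theorem checks_eq : checks spec PL225p.P.invR Wl = SL225pp5W.chkAll := by decide +kernel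

set_option maxRecDepth 100000 in
theorem noStem : NoStemPrime PL225p.P.Grp 5 := by
  obtain ⟨fG, hinj, hcard⟩ := L225pMain.order_aux
  have hchecks : ∀ w ∈ checks spec PL225p.P.invR Wl, wordP PL225p.P.gR w = 1 := by
    rw [checks_eq]
    intro w hw
    exact L225pA.inst.word_eq_one hinj w (SL225pp5W.hAll_lt w hw) (SL225pp5W.hAll w hw)
  exact noStemPrime_pres_cyclic PL225p.P PL225p.valid PSL225pp5.P PSL225pp5.valid spec (by show Nat.Prime 5; norm_num) Wl
    (by decide +kernel) (by decide +kernel) hchecks (by decide +kernel) 0 13 rfl (by decide +kernel) (by decide)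
    600 (by decide) SL225pp5A.index_eq fG 7800 hcard (by decide)

end Cfsg.Agent.Lib.Helper4.SL225pp5Main
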