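import Mathlib
import Cfsg.Prelude.Def_KGroupFacts
import Cfsg.Agent.Lib.Helper4.K9Field
import Cfsg.Agent.Lib.Helper4.C6A6Stem
import Cfsg.Agent.Lib.Helper4.SLCard

/-!
The presented six-fold cover `C6A6` of the alternating group of degree 6 maps onto `SL₂(9)` with kernel of
order 3; hence the Schur multiplier of `SL₂(9)` is cyclic of order 3.
-/

set_option autoImplicit false

namespace Cfsg.Agent.Lib.Helper4.SL29Cover

open Cfsg Cfsg.Agent.Lib.Helper4.TC Cfsg.Agent.Lib.Helper4.TCD Cfsg.Agent.Lib.Helper4.TC.Log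
  Cfsg.Agent.Lib.Helper4.Stem Cfsg.Agent.Lib.Helper4.K9Field
open scoped commutatorElement

/-- the group `SL₂` over the model of the field with 9 elements -/
abbrev SL9 : Type := Matrix.SpecialLinearGroup (Fin 2) K9

/-- the image of `a` -/
def mA : SL9 := ⟨!![0, 1; -1, 0], by decide +kernel⟩
/-- its inverse -/
def mA' : SL9 := ⟨!![0, -1; 1, 0], by decide +kernel⟩
/-- the image of `b` -/
def mB : SL9 := ⟨!![⟨1, 1⟩, 0; ⟨1, 1⟩, ⟨2, 1⟩], by decide +kernel⟩
/-- its inverse -/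
def mB' : SL9 := ⟨!![⟨2, 1⟩, 0; ⟨2, 2⟩, ⟨1, 1⟩], by decide +kernel⟩
/-- the image of `z` -/
def mZ : SL9 := ⟨!![-1, 0; 0, -1], by decide +kernel⟩

/-- the images of the letters -/
def gU (l : ℕ) : SL9 := [mA, mA', mB, mB', mZ, mZ].getD l 1

theorem inv_ok : ∀ l, l < PC6A6.P.k → gU l * gU (PC6A6.P.invR l) = 1 := by decide +kernel

theorem rel_ok : ∀ L ∈ PC6A6.P.real, wordP gU L = 1 := by decide +kernel

theorem exists_hom : ∃ f : PC6A6.P.Grp →* SL9, ∀ l, l < PC6A6.P.k → f (PC6A6.P.gR l) = gU l :=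
  exists_hom_of_letters PC6A6.P PC6A6.valid gU inv_ok rel_ok

/-- the homomorphism onto `SL₂(9)` -/
noncomputable def τ0 : PC6A6.P.Grp →* SL9 := Classical.choose exists_hom

theorem τ0_gR (l : ℕ) (hl : l < 6) : τ0 (PC6A6.P.gR l) = gU l := Classical.choose_spec exists_hom l hl

theorem τ0_z : τ0 C6A6Cover.z = mZ := τ0_gR 4 (by decide)

theorem mZ_ne : mZ ≠ 1 := by decide +kernel

theorem mZ_sq : mZ ^ 2 = 1 := by decide +kernel

theorem orderOf_mZ : orderOf mZ = 2 := orderOf_eq_prime mZ_sq mZ_ne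

theorem simpleA6 : IsSimpleGroup PA6p.P.Grp := by
  obtain ⟨e⟩ := A6pIso.iso
  have h5 : 5 ≤ Nat.card (Fin 6) := by
    rw [Nat.card_eq_fintype_card, Fintype.card_fin]
    decide
  have : IsSimpleGroup ↥(alternatingGroup (Fin 6)) := alternatingGroup.isSimpleGroup h5
  exact e.isSimpleGroup

/-- the kernel is generated by the square of the central element -/
theorem ker_eq : τ0.ker = Subgroup.zpowers (C6A6Cover.z ^ 2) := by
  have hs := simpleA6
  have hz2 : C6A6Cover.z ^ 2 ∈ τ0.ker := by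
    rw [MonoidHom.mem_ker, map_pow, τ0_z, mZ_sq]
  have hN : (τ0.ker.map C6A6Cover.π).Normal := Subgroup.Normal.map inferInstance _ C6A6Cover.π_surjective
  rcases hN.eq_bot_or_eq_top with h | h
  · -- the kernel is central
    have hle : τ0.ker ≤ Subgroup.zpowers C6A6Cover.z := by
      rw [← C6A6Cover.ker_eq]
      intro n hn
      rw [MonoidHom.mem_ker]
      have : C6A6Cover.π n ∈ τ0.ker.map C6A6Cover.π := ⟨n, hn, rfl⟩
      rw [h] at this
      exact Subgroup.mem_bot.1 this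
    apply le_antisymm
    · intro n hn
      obtain ⟨k, rfl⟩ := Subgroup.mem_zpowers_iff.1 (hle hn)
      rw [MonoidHom.mem_ker, map_zpow, τ0_z] at hn
      have h2 : (2 : ℤ) ∣ k := by
        have := orderOf_dvd_iff_zpow_eq_one.2 hn
        rwa [orderOf_mZ] at this
      obtain ⟨m, rfl⟩ := h2
      rw [zpow_mul]
      exact Subgroup.zpow_mem _ (Subgroup.mem_zpowers _) m
    · rw [Subgroup.zpowers_le]
      exact hz2
  · -- the kernel covers the quotient: impossible
    exfalso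
    have hcomm : commutator PC6A6.P.Grp ≤ τ0.ker := by
      rw [commutator_def, Subgroup.commutator_le]
      intro g1 _ g2 _
      have hg : ∀ g : PC6A6.P.Grp, ∃ n ∈ τ0.ker, ∃ c ∈ Subgroup.center PC6A6.P.Grp, g = n * c := by
        intro g
        have : C6A6Cover.π g ∈ τ0.ker.map C6A6Cover.π := by rw [h]; trivial
        obtain ⟨n, hn, hng⟩ := this
        refine ⟨n, hn, n⁻¹ * g, ?_, by group⟩
        apply C6A6Cover.isStem.2.1
        rw [MonoidHom.mem_ker, map_mul, map_inv, hng, inv_mul_cancel]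
      obtain ⟨n1, hn1, c1, hc1, rfl⟩ := hg g1
      obtain ⟨n2, hn2, c2, hc2, rfl⟩ := hg g2
      have e : (⁅n1 * c1, n2 * c2⁆ : PC6A6.P.Grp) = ⁅n1, n2⁆ := by
        rw [commutatorElement_def, commutatorElement_def]
        have a1 := Subgroup.mem_center_iff.1 hc1
        have a2 := Subgroup.mem_center_iff.1 hc2
        calc n1 * c1 * (n2 * c2) * (n1 * c1)⁻¹ * (n2 * c2)⁻¹
            = n1 * (c1 * n2) * (c2 * (c1⁻¹ * n1⁻¹)) * (c2⁻¹ * n2⁻¹) := by group
          _ = n1 * (n2 * c1) * ((c1⁻¹ * n1⁻¹) * c2) * (c2⁻¹ * n2⁻¹) := by rw [a1 n2, a2 (c1⁻¹ * n1⁻¹)]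
          _ = n1 * n2 * n1⁻¹ * n2⁻¹ := by group
      rw [e]
      rw [commutatorElement_def]
      exact τ0.ker.mul_mem (τ0.ker.mul_mem (τ0.ker.mul_mem hn1 hn2) (τ0.ker.inv_mem hn1)) (τ0.ker.inv_mem hn2)
    rw [C6A6Cover.perfect] at hcomm
    have : C6A6Cover.z ∈ τ0.ker := hcomm trivial
    rw [MonoidHom.mem_ker, τ0_z] at this
    exact mZ_ne this

theorem orderOf_z2 : orderOf (C6A6Cover.z ^ 2) = 3 := by
  rw [orderOf_pow' _ (by decide), C6A6Cover.orderOf_z]
  decide

theorem card_ker : Nat.card τ0.ker = 3 := by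
  rw [ker_eq, Nat.card_zpowers, orderOf_z2]

theorem card_SL9 : Nat.card SL9 = 720 := by
  rw [Cfsg.Agent.Lib.Helper4.card_SL2, K9.card]
  decide

theorem τ0_surjective : Function.Surjective τ0 := by
  obtain ⟨fG, _, hcard⟩ := C6A6Main.order_aux
  have := fG
  rw [← MonoidHom.range_eq_top]
  apply Subgroup.eq_top_of_card_eq
  have h1 := Subgroup.card_mul_index τ0.ker
  rw [Subgroup.index_ker, card_ker, hcard] at h1
  rw [card_SL9]
  omega

theorem isStem : IsStemExtension τ0 := by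
  refine ⟨τ0_surjective, ?_, ?_⟩
  · rw [ker_eq, Subgroup.zpowers_le]
    exact Subgroup.pow_mem _ C6A6Cover.z_central 2
  · rw [C6A6Cover.perfect]
    exact le_top

theorem ker_equiv : Nonempty (τ0.ker ≃* Multiplicative (ZMod 3)) := by
  have : Fact (Nat.Prime 3) := ⟨Nat.prime_three⟩
  have h3 : Nat.card (Multiplicative (ZMod 3)) = 3 := by
    rw [Nat.card_eq_fintype_card]
    exact ZMod.card 3
  exact ⟨mulEquivOfPrimeCardEq card_ker h3⟩

/-- the Schur multiplier of `SL₂` over a field with 9 elements is cyclic of order 3 -/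
theorem hasMult {F : Type*} [Field F] [Fintype F] (hF : Fintype.card F = 9) :
    Cfsg.HasCyclicSchurMultiplier (Matrix.SpecialLinearGroup (Fin 2) F) 3 := by
  obtain ⟨fG, _, _⟩ := C6A6Main.order_aux
  have := fG
  have e0 : K9 ≃+* F := FiniteField.ringEquivOfCardEq (K9.card.trans hF.symm)
  let e : SL9 ≃* Matrix.SpecialLinearGroup (Fin 2) F := slEquiv e0
  let τ : PC6A6.P.Grp →* Matrix.SpecialLinearGroup (Fin 2) F := e.toMonoidHom.comp τ0
  have hker : τ.ker = τ0.ker := by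
    ext x
    rw [MonoidHom.mem_ker, MonoidHom.mem_ker]
    show e (τ0 x) = 1 ↔ _
    exact EmbeddingLike.map_eq_one_iff
  have hτ : IsStemExtension τ := by
    refine ⟨?_, ?_, ?_⟩
    · exact e.surjective.comp isStem.1
    · rw [hker]
      exact isStem.2.1
    · rw [hker]
      exact isStem.2.2
  obtain ⟨ek⟩ := ker_equiv
  have ek' : τ.ker ≃* Multiplicative (ZMod 3) := (MulEquiv.subgroupCongr hker).trans ek
  exact hasSchurMultiplier_of_cover PC6A6.P.Grp τ hτ ek' C6A6Stem.noStem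

end Cfsg.Agent.Lib.Helper4.SL29Cover
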