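import Mathlib

set_option autoImplicit false

/-! SL₂ over a commutative ring: elementary matrices, generation over a "local" ring,
the Borel-preimage subgroup and its maximality. (helper4) -/

namespace Cfsg.Agent.Lib.Helper4.SL2Loc

open scoped commutatorElement


variable {R : Type*} [CommRing R]

/-- upper elementary matrix -/
def xE (a : R) : Matrix.SpecialLinearGroup (Fin 2) R := ⟨!![1, a; 0, 1], by simp [Matrix.det_fin_two_of]⟩
/-- lower elementary matrix -/
def yE (b : R) : Matrix.SpecialLinearGroup (Fin 2) R := ⟨!![1, 0; b, 1], by simp [Matrix.det_fin_two_of]⟩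
/-- diagonal matrix -/
def hE (u : Rˣ) : Matrix.SpecialLinearGroup (Fin 2) R :=
  ⟨!![(u : R), 0; 0, ((u⁻¹ : Rˣ) : R)], by simp [Matrix.det_fin_two_of]⟩
/-- Weyl element -/
def wE : Matrix.SpecialLinearGroup (Fin 2) R := ⟨!![0, 1; -1, 0], by simp [Matrix.det_fin_two_of]⟩

theorem sl2_ext {g h : Matrix.SpecialLinearGroup (Fin 2) R} (h00 : g 0 0 = h 0 0)
    (h01 : g 0 1 = h 0 1) (h10 : g 1 0 = h 1 0) (h11 : g 1 1 = h 1 1) : g = h := by
  apply Subtype.ext
  ext i j
  fin_cases i <;> fin_cases j <;> assumption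

theorem mul_entry (g h : Matrix.SpecialLinearGroup (Fin 2) R) (i j : Fin 2) :
    (g * h) i j = g i 0 * h 0 j + g i 1 * h 1 j := by
  simp only [Matrix.SpecialLinearGroup.coe_mul, Matrix.mul_apply, Fin.sum_univ_two]

theorem inv_00 (g : Matrix.SpecialLinearGroup (Fin 2) R) : (g⁻¹) 0 0 = g 1 1 := by
  simp [Matrix.SpecialLinearGroup.coe_inv, Matrix.adjugate_fin_two]
theorem inv_01 (g : Matrix.SpecialLinearGroup (Fin 2) R) : (g⁻¹) 0 1 = - g 0 1 := by
  simp [Matrix.SpecialLinearGroup.coe_inv, Matrix.adjugate_fin_two]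
theorem inv_10 (g : Matrix.SpecialLinearGroup (Fin 2) R) : (g⁻¹) 1 0 = - g 1 0 := by
  simp [Matrix.SpecialLinearGroup.coe_inv, Matrix.adjugate_fin_two]
theorem inv_11 (g : Matrix.SpecialLinearGroup (Fin 2) R) : (g⁻¹) 1 1 = g 0 0 := by
  simp [Matrix.SpecialLinearGroup.coe_inv, Matrix.adjugate_fin_two]

theorem det_eq (g : Matrix.SpecialLinearGroup (Fin 2) R) : g 0 0 * g 1 1 - g 0 1 * g 1 0 = 1 := by
  have := g.2
  rw [Matrix.det_fin_two] at this
  exact this

@[simp] theorem xE_00 (a : R) : xE a 0 0 = 1 := rfl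
@[simp] theorem xE_01 (a : R) : xE a 0 1 = a := rfl
@[simp] theorem xE_10 (a : R) : xE a 1 0 = 0 := rfl
@[simp] theorem xE_11 (a : R) : xE a 1 1 = 1 := rfl
@[simp] theorem yE_00 (a : R) : yE a 0 0 = 1 := rfl
@[simp] theorem yE_01 (a : R) : yE a 0 1 = 0 := rfl
@[simp] theorem yE_10 (a : R) : yE a 1 0 = a := rfl
@[simp] theorem yE_11 (a : R) : yE a 1 1 = 1 := rfl
@[simp] theorem hE_00 (u : Rˣ) : hE u 0 0 = (u : R) := rfl
@[simp] theorem hE_01 (u : Rˣ) : hE u 0 1 = 0 := rfl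
@[simp] theorem hE_10 (u : Rˣ) : hE u 1 0 = 0 := rfl
@[simp] theorem hE_11 (u : Rˣ) : hE u 1 1 = ((u⁻¹ : Rˣ) : R) := rfl
@[simp] theorem wE_00 : (wE : Matrix.SpecialLinearGroup (Fin 2) R) 0 0 = 0 := rfl
@[simp] theorem wE_01 : (wE : Matrix.SpecialLinearGroup (Fin 2) R) 0 1 = 1 := rfl
@[simp] theorem wE_10 : (wE : Matrix.SpecialLinearGroup (Fin 2) R) 1 0 = -1 := rfl
@[simp] theorem wE_11 : (wE : Matrix.SpecialLinearGroup (Fin 2) R) 1 1 = 0 := rfl

@[simp] theorem one_00 : (1 : Matrix.SpecialLinearGroup (Fin 2) R) 0 0 = 1 := by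
  simp [Matrix.SpecialLinearGroup.coe_one]
@[simp] theorem one_01 : (1 : Matrix.SpecialLinearGroup (Fin 2) R) 0 1 = 0 := by
  simp [Matrix.SpecialLinearGroup.coe_one]
@[simp] theorem one_10 : (1 : Matrix.SpecialLinearGroup (Fin 2) R) 1 0 = 0 := by
  simp [Matrix.SpecialLinearGroup.coe_one]
@[simp] theorem one_11 : (1 : Matrix.SpecialLinearGroup (Fin 2) R) 1 1 = 1 := by
  simp [Matrix.SpecialLinearGroup.coe_one]

theorem xE_add (a b : R) : xE (a + b) = xE a * xE b := by
  apply sl2_ext <;> simp [mul_entry]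
  ring

theorem xE_zero : xE (0 : R) = 1 := by
  apply sl2_ext <;> simp

theorem xE_inv (a : R) : (xE a)⁻¹ = xE (-a) := by
  apply sl2_ext <;> simp [inv_00, inv_01, inv_10, inv_11]

theorem yE_add (a b : R) : yE (a + b) = yE a * yE b := by
  apply sl2_ext <;> simp [mul_entry]

theorem yE_zero : yE (0 : R) = 1 := by
  apply sl2_ext <;> simp

theorem yE_inv (a : R) : (yE a)⁻¹ = yE (-a) := by
  apply sl2_ext <;> simp [inv_00, inv_01, inv_10, inv_11]

theorem hE_inv (u : Rˣ) : (hE u)⁻¹ = hE u⁻¹ := by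
  apply sl2_ext <;> simp [inv_00, inv_01, inv_10, inv_11]

theorem wE_inv_conj_xE (a : R) : (wE)⁻¹ * xE a * wE = yE (-a) := by
  apply sl2_ext <;> simp [mul_entry, inv_00, inv_01, inv_10, inv_11]

theorem wE_eq : (wE : Matrix.SpecialLinearGroup (Fin 2) R) = xE 1 * yE (-1) * xE 1 := by
  apply sl2_ext <;> simp [mul_entry]

theorem hE_eq (u : Rˣ) :
    hE u = xE (u : R) * yE (-((u⁻¹ : Rˣ) : R)) * xE (u : R) * (xE (-1) * yE 1 * xE (-1)) := by
  apply sl2_ext <;> simp [mul_entry]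

/-- Gauss decomposition when the top-left entry is a unit. -/
theorem gauss_decomp (g : Matrix.SpecialLinearGroup (Fin 2) R) (u : Rˣ) (hu : g 0 0 = (u : R)) :
    g = yE (g 1 0 * ((u⁻¹ : Rˣ) : R)) * hE u * xE (g 0 1 * ((u⁻¹ : Rˣ) : R)) := by
  have e1 : (u : R) * ((u⁻¹ : Rˣ) : R) = 1 := Units.mul_inv u
  have e2 := det_eq g
  rw [hu] at e2
  apply sl2_ext
  · simp only [mul_entry, xE_00, xE_01, xE_10, xE_11, yE_00, yE_01, yE_10, yE_11,
      hE_00, hE_01, hE_10, hE_11, hu]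
    ring
  · simp only [mul_entry, xE_00, xE_01, xE_10, xE_11, yE_00, yE_01, yE_10, yE_11,
      hE_00, hE_01, hE_10, hE_11]
    linear_combination (- g 0 1) * e1
  · simp only [mul_entry, xE_00, xE_01, xE_10, xE_11, yE_00, yE_01, yE_10, yE_11,
      hE_00, hE_01, hE_10, hE_11]
    linear_combination (- g 1 0) * e1
  · simp only [mul_entry, xE_00, xE_01, xE_10, xE_11, yE_00, yE_01, yE_10, yE_11,
      hE_00, hE_01, hE_10, hE_11]
    linear_combination (- g 1 0 * g 0 1 * ((u⁻¹ : Rˣ) : R) - g 1 1) * e1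
      + ((u⁻¹ : Rˣ) : R) * e2

/-- The subgroup generated by the elementary matrices. -/
def elemSubgroup (R : Type*) [CommRing R] : Subgroup (Matrix.SpecialLinearGroup (Fin 2) R) :=
  Subgroup.closure (Set.range xE ∪ Set.range yE)

theorem xE_mem_elem (a : R) : xE a ∈ elemSubgroup R :=
  Subgroup.subset_closure (Or.inl ⟨a, rfl⟩)

theorem yE_mem_elem (a : R) : yE a ∈ elemSubgroup R :=
  Subgroup.subset_closure (Or.inr ⟨a, rfl⟩)

theorem wE_mem_elem : (wE : Matrix.SpecialLinearGroup (Fin 2) R) ∈ elemSubgroup R := by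
  rw [wE_eq]
  exact mul_mem (mul_mem (xE_mem_elem _) (yE_mem_elem _)) (xE_mem_elem _)

theorem hE_mem_elem (u : Rˣ) : hE u ∈ elemSubgroup R := by
  rw [hE_eq]
  exact mul_mem (mul_mem (mul_mem (xE_mem_elem _) (yE_mem_elem _)) (xE_mem_elem _))
    (mul_mem (mul_mem (xE_mem_elem _) (yE_mem_elem _)) (xE_mem_elem _))

theorem mem_elem_of_isUnit_00 (g : Matrix.SpecialLinearGroup (Fin 2) R) (hg : IsUnit (g 0 0)) :
    g ∈ elemSubgroup R := by
  obtain ⟨u, hu⟩ := hg
  rw [gauss_decomp g u hu.symm]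
  exact mul_mem (mul_mem (yE_mem_elem _) (hE_mem_elem _)) (xE_mem_elem _)

/-- Over a ring where every element is a unit or divisible by a fixed non-unit `p`,
the elementary matrices generate `SL₂`. -/
theorem elemSubgroup_eq_top (p : R) (hloc : ∀ a : R, IsUnit a ∨ p ∣ a) (hp : ¬ IsUnit p) :
    elemSubgroup R = ⊤ := by
  rw [eq_top_iff]
  intro g _
  rcases hloc (g 0 0) with h0 | h0
  · exact mem_elem_of_isUnit_00 g h0
  · rcases hloc (g 1 0) with h1 | h1
    · have : wE * g ∈ elemSubgroup R := by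
        apply mem_elem_of_isUnit_00
        simp [mul_entry, h1]
      have h2 := mul_mem (inv_mem (wE_mem_elem (R := R))) this
      rwa [inv_mul_cancel_left] at h2
    · exfalso
      apply hp
      have e := det_eq g
      have : p ∣ g 0 0 * g 1 1 - g 0 1 * g 1 0 :=
        dvd_sub (Dvd.dvd.mul_right h0 _) (Dvd.dvd.mul_left h1 _)
      rw [e] at this
      exact isUnit_of_dvd_one this

/-- The preimage of the Borel subgroup modulo `c`. -/
def borel (c : R) : Subgroup (Matrix.SpecialLinearGroup (Fin 2) R) where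
  carrier := {g | c ∣ g 1 0}
  mul_mem' := by
    intro g h hg hh
    simp only [Set.mem_ofPred_eq] at hg hh ⊢
    rw [mul_entry]
    exact dvd_add (Dvd.dvd.mul_right hg _) (Dvd.dvd.mul_left hh _)
  one_mem' := by simp
  inv_mem' := by
    intro g hg
    simp only [Set.mem_ofPred_eq] at hg ⊢
    rw [inv_10]
    exact (dvd_neg).mpr hg

theorem mem_borel {c : R} {g : Matrix.SpecialLinearGroup (Fin 2) R} : g ∈ borel c ↔ c ∣ g 1 0 := Iff.rfl

theorem xE_mem_borel (c a : R) : xE a ∈ borel c := by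
  rw [mem_borel]; simp

theorem hE_mem_borel (c : R) (u : Rˣ) : hE u ∈ borel c := by
  rw [mem_borel]; simp

theorem yE_mem_borel (c a : R) : yE (c * a) ∈ borel c := by
  rw [mem_borel]; simp

/-- SL₂ of a "local" ring is perfect when `2` and `3` are units. -/
theorem commutator_eq_top (p : R) (hloc : ∀ a : R, IsUnit a ∨ p ∣ a) (hp : ¬ IsUnit p)
    (t u : Rˣ) (htu : (t : R) ^ 2 - 1 = u) :
    commutator (Matrix.SpecialLinearGroup (Fin 2) R) = ⊤ := by
  have e1 : (t : R) * ((t⁻¹ : Rˣ) : R) = 1 := Units.mul_inv t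
  have e2 : (u : R) * ((u⁻¹ : Rˣ) : R) = 1 := Units.mul_inv u
  rw [eq_top_iff, ← elemSubgroup_eq_top p hloc hp, elemSubgroup, Subgroup.closure_le]
  rintro g (⟨a, rfl⟩ | ⟨a, rfl⟩)
  · have : xE a = ⁅hE t, xE (a * ((u⁻¹ : Rˣ) : R))⁆ := by
      rw [commutatorElement_def]
      apply sl2_ext
      · simp [mul_entry, inv_00, inv_01, inv_10, inv_11]
      · simp [mul_entry, inv_00, inv_01, inv_10, inv_11]
        linear_combination (-(a * ((u⁻¹ : Rˣ) : R))) * htu - a * e2
      · simp [mul_entry, inv_00, inv_01, inv_10, inv_11]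
      · simp [mul_entry, inv_00, inv_01, inv_10, inv_11]
    rw [this]
    exact Subgroup.commutator_mem_commutator (Subgroup.mem_top _) (Subgroup.mem_top _)
  · have : yE a = ⁅hE t⁻¹, yE (a * ((u⁻¹ : Rˣ) : R))⁆ := by
      rw [commutatorElement_def]
      apply sl2_ext
      · simp [mul_entry, inv_00, inv_01, inv_10, inv_11]
      · simp [mul_entry, inv_00, inv_01, inv_10, inv_11]
      · simp [mul_entry, inv_00, inv_01, inv_10, inv_11]
        linear_combination (-(a * ((u⁻¹ : Rˣ) : R))) * htu - a * e2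
      · simp [mul_entry, inv_00, inv_01, inv_10, inv_11]
    rw [this]
    exact Subgroup.commutator_mem_commutator (Subgroup.mem_top _) (Subgroup.mem_top _)

end Cfsg.Agent.Lib.Helper4.SL2Loc
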