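import Cfsg.Agent.Lib.Helper4.SL2Loc1

set_option autoImplicit false

/-! SL₂ over a "local" ring: maximality of the Borel preimage, congruence subgroups and the
iterated commutator series. (helper4) -/

namespace Cfsg.Agent.Lib.Helper4.SL2Loc

open scoped commutatorElement

variable {R : Type*} [CommRing R]

theorem borel_isCoatom (p : R) (hloc : ∀ a : R, IsUnit a ∨ p ∣ a) (hp : ¬ IsUnit p) :
    IsCoatom (borel p) := by
  constructor
  · intro h
    have hw : (wE : Matrix.SpecialLinearGroup (Fin 2) R) ∈ borel p := h ▸ Subgroup.mem_top _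
    rw [mem_borel, wE_10] at hw
    exact hp (isUnit_of_dvd_unit hw isUnit_one.neg)
  · intro K hK
    obtain ⟨g, hgK, hgH⟩ := SetLike.exists_of_lt hK
    rw [mem_borel] at hgH
    obtain ⟨v, hv⟩ := (hloc (g 1 0)).resolve_right hgH
    have e1 : (v : R) * ((v⁻¹ : Rˣ) : R) = 1 := Units.mul_inv v
    have e2 := det_eq g
    rw [← hv] at e2
    have hw : (wE : Matrix.SpecialLinearGroup (Fin 2) R)⁻¹ =
        hE v * (xE (-(g 0 0) * ((v⁻¹ : Rˣ) : R)) * g * xE (-(g 1 1) * ((v⁻¹ : Rˣ) : R))) := by
      apply sl2_ext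
      · simp only [mul_entry, inv_00, xE_00, xE_01, xE_10, xE_11, hE_00, hE_01, hE_10, hE_11,
          wE_11]
        rw [← hv]
        linear_combination ((v : R) * g 0 0) * e1
      · simp only [mul_entry, inv_01, xE_00, xE_01, xE_10, xE_11, hE_00, hE_01, hE_10, hE_11,
          wE_01]
        rw [← hv]
        linear_combination e2 + (-(g 0 0 * g 1 1) * ((v : R) * ((v⁻¹ : Rˣ) : R) - 1)) * e1
      · simp only [mul_entry, inv_10, xE_00, xE_01, xE_10, xE_11, hE_00, hE_01, hE_10, hE_11,
          wE_10]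
        rw [← hv]
        linear_combination (-1 : R) * e1
      · simp only [mul_entry, inv_11, xE_00, xE_01, xE_10, xE_11, hE_00, hE_01, hE_10, hE_11,
          wE_00]
        rw [← hv]
        linear_combination (((v⁻¹ : Rˣ) : R) * g 1 1) * e1
    have hwK : (wE : Matrix.SpecialLinearGroup (Fin 2) R) ∈ K := by
      have : (wE : Matrix.SpecialLinearGroup (Fin 2) R)⁻¹ ∈ K := by
        rw [hw]
        exact mul_mem (hK.le (hE_mem_borel p v))
          (mul_mem (mul_mem (hK.le (xE_mem_borel p _)) hgK) (hK.le (xE_mem_borel p _)))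
      simpa using inv_mem this
    rw [eq_top_iff, ← elemSubgroup_eq_top p hloc hp, elemSubgroup, Subgroup.closure_le]
    rintro _ (⟨a, rfl⟩ | ⟨a, rfl⟩)
    · exact hK.le (xE_mem_borel p a)
    · have := wE_inv_conj_xE (-a)
      rw [neg_neg] at this
      rw [← this]
      exact mul_mem (mul_mem (inv_mem hwK) (hK.le (xE_mem_borel _ _))) hwK

end Cfsg.Agent.Lib.Helper4.SL2Loc
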