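import Cfsg.Agent.Lib.Helper4.SL2Loc2

set_option autoImplicit false

/-! Iterated commutator series inside an ambient group, congruence subgroups of SL₂ and
solvability of the Borel preimage. (helper4) -/

namespace Cfsg.Agent.Lib.Helper4.SL2Loc

open scoped commutatorElement

section General

variable {G : Type*} [Group G]

/-- The derived series of a subgroup, computed inside the ambient group. -/
def dSer (H : Subgroup G) : ℕ → Subgroup G
  | 0 => H
  | n + 1 => ⁅dSer H n, dSer H n⁆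

@[simp] theorem dSer_zero (H : Subgroup G) : dSer H 0 = H := rfl
theorem dSer_succ (H : Subgroup G) (n : ℕ) : dSer H (n + 1) = ⁅dSer H n, dSer H n⁆ := rfl

theorem derivedSeries_map_subtype (H : Subgroup G) (n : ℕ) :
    (derivedSeries H n).map H.subtype = dSer H n := by
  induction n with
  | zero =>
    rw [derivedSeries_zero, dSer_zero, ← MonoidHom.range_eq_map, Subgroup.range_subtype]
  | succ n ih =>
    rw [derivedSeries_succ, Subgroup.map_commutator, ih, dSer_succ]

theorem derivedSeries_eq_bot_iff (H : Subgroup G) (n : ℕ) :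
    derivedSeries H n = ⊥ ↔ dSer H n = ⊥ := by
  rw [← derivedSeries_map_subtype, Subgroup.map_eq_bot_iff_of_injective _ H.subtype_injective]

theorem commutator_comap_le {G' : Type*} [Group G'] (f : G →* G') (A B C : Subgroup G')
    (h : ⁅A, B⁆ ≤ C) : ⁅A.comap f, B.comap f⁆ ≤ C.comap f := by
  rw [Subgroup.commutator_le]
  intro g hg k hk
  rw [Subgroup.mem_comap, map_commutatorElement]
  exact h (Subgroup.commutator_mem_commutator hg hk)

end General

variable {R : Type*} [CommRing R]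

section MDvd

variable {n : Type*} [Fintype n]

/-- all entries divisible by `c` -/
def MDvd (c : R) (X : Matrix n n R) : Prop := ∀ i j, c ∣ X i j

theorem MDvd.add {c : R} {X Y : Matrix n n R} (hX : MDvd c X) (hY : MDvd c Y) :
    MDvd c (X + Y) := fun i j => by
  rw [Matrix.add_apply]; exact dvd_add (hX i j) (hY i j)

theorem MDvd.sub {c : R} {X Y : Matrix n n R} (hX : MDvd c X) (hY : MDvd c Y) :
    MDvd c (X - Y) := fun i j => by
  rw [Matrix.sub_apply]; exact dvd_sub (hX i j) (hY i j)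

theorem MDvd.neg {c : R} {X : Matrix n n R} (hX : MDvd c X) :
    MDvd c (-X) := fun i j => by
  rw [Matrix.neg_apply]; exact (dvd_neg).mpr (hX i j)

theorem MDvd.mul_right {c : R} {X : Matrix n n R} (hX : MDvd c X) (Y : Matrix n n R) :
    MDvd c (X * Y) := fun i j => by
  rw [Matrix.mul_apply]
  exact Finset.dvd_sum fun k _ => Dvd.dvd.mul_right (hX i k) _

theorem MDvd.mul_left {c : R} {X : Matrix n n R} (hX : MDvd c X) (Y : Matrix n n R) :
    MDvd c (Y * X) := fun i j => by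
  rw [Matrix.mul_apply]
  exact Finset.dvd_sum fun k _ => Dvd.dvd.mul_left (hX k j) _

theorem MDvd.mul {c c' : R} {X Y : Matrix n n R} (hX : MDvd c X) (hY : MDvd c' Y) :
    MDvd (c * c') (X * Y) := fun i j => by
  rw [Matrix.mul_apply]
  exact Finset.dvd_sum fun k _ => mul_dvd_mul (hX i k) (hY k j)

theorem MDvd.zero (c : R) : MDvd c (0 : Matrix n n R) := fun i j => by
  rw [Matrix.zero_apply]; exact dvd_zero c

end MDvd

theorem coe_mul_inv (g : Matrix.SpecialLinearGroup (Fin 2) R) :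
    (g : Matrix (Fin 2) (Fin 2) R) * ((g⁻¹ : Matrix.SpecialLinearGroup (Fin 2) R) :
      Matrix (Fin 2) (Fin 2) R) = 1 := by
  rw [← Matrix.SpecialLinearGroup.coe_mul, mul_inv_cancel, Matrix.SpecialLinearGroup.coe_one]

theorem coe_inv_mul (g : Matrix.SpecialLinearGroup (Fin 2) R) :
    ((g⁻¹ : Matrix.SpecialLinearGroup (Fin 2) R) : Matrix (Fin 2) (Fin 2) R) *
      (g : Matrix (Fin 2) (Fin 2) R) = 1 := by
  rw [← Matrix.SpecialLinearGroup.coe_mul, inv_mul_cancel, Matrix.SpecialLinearGroup.coe_one]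

/-- principal congruence subgroup -/
def cong (c : R) : Subgroup (Matrix.SpecialLinearGroup (Fin 2) R) where
  carrier := {g | MDvd c ((g : Matrix (Fin 2) (Fin 2) R) - 1)}
  mul_mem' := by
    intro g h hg hh
    simp only [Set.mem_ofPred_eq] at hg hh ⊢
    have : ((g * h : Matrix.SpecialLinearGroup (Fin 2) R) : Matrix (Fin 2) (Fin 2) R) - 1 =
        ((g : Matrix (Fin 2) (Fin 2) R) - 1) * (h : Matrix (Fin 2) (Fin 2) R) +
          ((h : Matrix (Fin 2) (Fin 2) R) - 1) := by
      rw [Matrix.SpecialLinearGroup.coe_mul, sub_mul, one_mul]; abel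
    rw [this]
    exact (hg.mul_right _).add hh
  one_mem' := by
    simp only [Set.mem_ofPred_eq]
    rw [Matrix.SpecialLinearGroup.coe_one, sub_self]
    exact MDvd.zero c
  inv_mem' := by
    intro g hg
    simp only [Set.mem_ofPred_eq] at hg ⊢
    have : ((g⁻¹ : Matrix.SpecialLinearGroup (Fin 2) R) : Matrix (Fin 2) (Fin 2) R) - 1 =
        - (((g⁻¹ : Matrix.SpecialLinearGroup (Fin 2) R) : Matrix (Fin 2) (Fin 2) R) *
          ((g : Matrix (Fin 2) (Fin 2) R) - 1)) := by
      rw [mul_sub, coe_inv_mul, mul_one]; abel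
    rw [this]
    exact (hg.mul_left _).neg

theorem mem_cong {c : R} {g : Matrix.SpecialLinearGroup (Fin 2) R} :
    g ∈ cong c ↔ MDvd c ((g : Matrix (Fin 2) (Fin 2) R) - 1) := Iff.rfl

theorem commutator_coe_sub_one (g h : Matrix.SpecialLinearGroup (Fin 2) R) :
    ((⁅g, h⁆ : Matrix.SpecialLinearGroup (Fin 2) R) : Matrix (Fin 2) (Fin 2) R) - 1 =
      (((g : Matrix (Fin 2) (Fin 2) R) - 1) * ((h : Matrix (Fin 2) (Fin 2) R) - 1) -
        ((h : Matrix (Fin 2) (Fin 2) R) - 1) * ((g : Matrix (Fin 2) (Fin 2) R) - 1)) *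
      (((g⁻¹ : Matrix.SpecialLinearGroup (Fin 2) R) : Matrix (Fin 2) (Fin 2) R) *
        ((h⁻¹ : Matrix.SpecialLinearGroup (Fin 2) R) : Matrix (Fin 2) (Fin 2) R)) := by
  have e1 : ((g : Matrix (Fin 2) (Fin 2) R) - 1) * ((h : Matrix (Fin 2) (Fin 2) R) - 1) -
        ((h : Matrix (Fin 2) (Fin 2) R) - 1) * ((g : Matrix (Fin 2) (Fin 2) R) - 1) =
      (g : Matrix (Fin 2) (Fin 2) R) * (h : Matrix (Fin 2) (Fin 2) R) -
        (h : Matrix (Fin 2) (Fin 2) R) * (g : Matrix (Fin 2) (Fin 2) R) := by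
    noncomm_ring
  rw [e1, commutatorElement_def, Matrix.SpecialLinearGroup.coe_mul,
    Matrix.SpecialLinearGroup.coe_mul, Matrix.SpecialLinearGroup.coe_mul, sub_mul]
  congr 1
  · simp only [mul_assoc]
  · rw [mul_assoc (h : Matrix (Fin 2) (Fin 2) R), ← mul_assoc (g : Matrix (Fin 2) (Fin 2) R),
      coe_mul_inv, one_mul, coe_mul_inv]

theorem commutator_cong_le (c c' : R) : ⁅cong c, cong c'⁆ ≤ cong (c * c') := by
  rw [Subgroup.commutator_le]
  intro g hg h hh
  rw [mem_cong] at hg hh ⊢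
  rw [commutator_coe_sub_one]
  apply MDvd.mul_right
  apply MDvd.sub
  · exact hg.mul hh
  · rw [mul_comm c c']
    exact hh.mul hg

theorem cong_zero : cong (0 : R) = ⊥ := by
  rw [eq_bot_iff]
  intro g hg
  rw [mem_cong] at hg
  rw [Subgroup.mem_bot]
  apply Subtype.ext
  rw [Matrix.SpecialLinearGroup.coe_one]
  ext i j
  have := hg i j
  rw [zero_dvd_iff, Matrix.sub_apply, sub_eq_zero] at this
  exact this

/-! ### Unipotent upper-triangular subgroup -/

/-- upper unitriangular matrices -/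
def unip (R : Type*) [CommRing R] : Subgroup (Matrix.SpecialLinearGroup (Fin 2) R) where
  carrier := {g | g 0 0 = 1 ∧ g 1 0 = 0 ∧ g 1 1 = 1}
  mul_mem' := by
    rintro g h ⟨hg0, hg1, hg2⟩ ⟨hh0, hh1, hh2⟩
    refine ⟨?_, ?_, ?_⟩
    · rw [mul_entry, hg0, hh0, hh1]; ring
    · rw [mul_entry, hg1, hh1, hg2]; ring
    · rw [mul_entry, hg1, hg2, hh2]; ring
  one_mem' := ⟨one_00, one_10, one_11⟩
  inv_mem' := by
    rintro g ⟨hg0, hg1, hg2⟩
    refine ⟨?_, ?_, ?_⟩
    · rw [inv_00, hg2]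
    · rw [inv_10, hg1, neg_zero]
    · rw [inv_11, hg0]

theorem mem_unip {g : Matrix.SpecialLinearGroup (Fin 2) R} :
    g ∈ unip R ↔ g 0 0 = 1 ∧ g 1 0 = 0 ∧ g 1 1 = 1 := Iff.rfl

theorem mem_borel_zero {g : Matrix.SpecialLinearGroup (Fin 2) R} :
    g ∈ borel (0 : R) ↔ g 1 0 = 0 := by
  rw [mem_borel, zero_dvd_iff]

theorem commutator_borel_zero_le : ⁅borel (0 : R), borel (0 : R)⁆ ≤ unip R := by
  rw [Subgroup.commutator_le]
  intro g hg h hh
  rw [mem_borel_zero] at hg hh
  have dg := det_eq g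
  have dh := det_eq h
  rw [hg, mul_zero, sub_zero] at dg
  rw [hh, mul_zero, sub_zero] at dh
  rw [mem_unip, commutatorElement_def]
  refine ⟨?_, ?_, ?_⟩
  · simp only [mul_entry, inv_00, inv_01, inv_10, inv_11, hg, hh]
    linear_combination (h 0 0 * h 1 1) * dg + dh
  · simp only [mul_entry, inv_00, inv_01, inv_10, inv_11, hg, hh]
    ring
  · simp only [mul_entry, inv_00, inv_01, inv_10, inv_11, hg, hh]
    linear_combination (h 0 0 * h 1 1) * dg + dh

theorem commutator_unip_le : ⁅unip R, unip R⁆ ≤ ⊥ := by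
  rw [Subgroup.commutator_le]
  rintro g ⟨hg0, hg1, hg2⟩ h ⟨hh0, hh1, hh2⟩
  rw [Subgroup.mem_bot, commutatorElement_def]
  apply sl2_ext
  · simp only [mul_entry, inv_00, inv_01, inv_10, inv_11, hg0, hg1, hg2, hh0, hh1, hh2, one_00]
    ring
  · simp only [mul_entry, inv_00, inv_01, inv_10, inv_11, hg0, hg1, hg2, hh0, hh1, hh2, one_01]
    ring
  · simp only [mul_entry, inv_00, inv_01, inv_10, inv_11, hg0, hg1, hg2, hh0, hh1, hh2, one_10]
    ring
  · simp only [mul_entry, inv_00, inv_01, inv_10, inv_11, hg0, hg1, hg2, hh0, hh1, hh2, one_11]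
    ring

end Cfsg.Agent.Lib.Helper4.SL2Loc
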