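import Cfsg.Agent.Lib.Helper4.SL2Loc3

set_option autoImplicit false

/-! Solvability of the Borel preimage in SL₂ of a ring with nilpotent `p`. (helper4) -/

namespace Cfsg.Agent.Lib.Helper4.SL2Loc

open scoped commutatorElement

variable {R : Type*} [CommRing R]

/-- reduction modulo `p` -/
noncomputable def redMap (p : R) :
    Matrix.SpecialLinearGroup (Fin 2) R →*
      Matrix.SpecialLinearGroup (Fin 2) (R ⧸ Ideal.span {p}) :=
  Matrix.SpecialLinearGroup.map (Ideal.Quotient.mk (Ideal.span {p}))

theorem redMap_apply (p : R) (g : Matrix.SpecialLinearGroup (Fin 2) R) (i j : Fin 2) :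
    (redMap p g) i j = Ideal.Quotient.mk (Ideal.span {p}) (g i j) := by
  simp [redMap, Matrix.SpecialLinearGroup.map_apply_coe]

theorem borel_le_comap (p : R) : borel p ≤ (borel (0 : R ⧸ Ideal.span {p})).comap (redMap p) := by
  intro g hg
  rw [Subgroup.mem_comap, mem_borel_zero, redMap_apply, Ideal.Quotient.eq_zero_iff_dvd]
  exact hg

theorem ker_redMap_le (p : R) : (redMap p).ker ≤ cong p := by
  intro g hg
  rw [MonoidHom.mem_ker] at hg
  rw [mem_cong]
  intro i j
  have h1 : (redMap p g) i j = (1 : Matrix.SpecialLinearGroup (Fin 2) (R ⧸ Ideal.span {p})) i j := by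
    rw [hg]
  rw [redMap_apply, Matrix.SpecialLinearGroup.coe_one] at h1
  rw [← Ideal.Quotient.eq_zero_iff_dvd, Matrix.sub_apply, map_sub, h1]
  by_cases hij : i = j
  · subst hij
    simp
  · simp [Matrix.one_apply_ne hij]

theorem dSer_two_le (p : R) : dSer (borel p) 2 ≤ cong p := by
  have h0 : dSer (borel p) 0 ≤ (borel (0 : R ⧸ Ideal.span {p})).comap (redMap p) :=
    borel_le_comap p
  have h1 : dSer (borel p) 1 ≤ (unip (R ⧸ Ideal.span {p})).comap (redMap p) := by
    rw [dSer_succ]
    exact (Subgroup.commutator_mono h0 h0).trans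
      (commutator_comap_le _ _ _ _ commutator_borel_zero_le)
  have h2 : dSer (borel p) 2 ≤ (⊥ : Subgroup _).comap (redMap p) := by
    rw [dSer_succ]
    exact (Subgroup.commutator_mono h1 h1).trans
      (commutator_comap_le _ _ _ _ commutator_unip_le)
  exact h2.trans (ker_redMap_le p)

theorem dSer_le_cong (p : R) (j : ℕ) : dSer (borel p) (2 + j) ≤ cong (p ^ (2 ^ j)) := by
  induction j with
  | zero => simpa using dSer_two_le p
  | succ j ih =>
    rw [← add_assoc, dSer_succ]
    refine (Subgroup.commutator_mono ih ih).trans ?_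
    have : p ^ (2 ^ (j + 1)) = p ^ (2 ^ j) * p ^ (2 ^ j) := by
      rw [← pow_add, pow_succ, mul_two]
    rw [this]
    exact commutator_cong_le _ _

theorem borel_isSolvable (p : R) (k : ℕ) (hk : p ^ k = 0) : Group.IsSolvable (borel p) := by
  rw [isSolvable_def]
  refine ⟨2 + k, ?_⟩
  rw [derivedSeries_eq_bot_iff, eq_bot_iff]
  refine (dSer_le_cong p k).trans ?_
  have : p ^ (2 ^ k) = 0 := pow_eq_zero_of_le (Nat.lt_two_pow_self).le hk
  rw [this, cong_zero]

end Cfsg.Agent.Lib.Helper4.SL2Loc
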