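import Cfsg.Agent.Lib.Helper4.SL2Loc4

set_option autoImplicit false

/-! Lower bound for the derived series of the Borel preimage in SL₂. (helper4) -/

namespace Cfsg.Agent.Lib.Helper4.SL2Loc

open scoped commutatorElement

variable {R : Type*} [CommRing R]

theorem comm_hE_xE (t : Rˣ) (s : R) : ⁅hE t, xE s⁆ = xE (((t : R) ^ 2 - 1) * s) := by
  have e1 : (t : R) * ((t⁻¹ : Rˣ) : R) = 1 := Units.mul_inv t
  rw [commutatorElement_def]
  apply sl2_ext
  · simp only [mul_entry, inv_00, inv_01, inv_10, inv_11, xE_00, xE_01, xE_10, xE_11,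
      hE_00, hE_01, hE_10, hE_11]
    linear_combination e1
  · simp only [mul_entry, inv_00, inv_01, inv_10, inv_11, xE_00, xE_01, xE_10, xE_11,
      hE_00, hE_01, hE_10, hE_11]
    linear_combination (-s) * e1
  · simp only [mul_entry, inv_00, inv_01, inv_10, inv_11, xE_00, xE_01, xE_10, xE_11,
      hE_00, hE_01, hE_10, hE_11]
    ring
  · simp only [mul_entry, inv_00, inv_01, inv_10, inv_11, xE_00, xE_01, xE_10, xE_11,
      hE_00, hE_01, hE_10, hE_11]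
    linear_combination e1

theorem comm_hE_yE (t : Rˣ) (s : R) :
    ⁅hE t, yE s⁆ = yE (((((t⁻¹ : Rˣ) : R)) ^ 2 - 1) * s) := by
  have e1 : (t : R) * ((t⁻¹ : Rˣ) : R) = 1 := Units.mul_inv t
  rw [commutatorElement_def]
  apply sl2_ext
  · simp only [mul_entry, inv_00, inv_01, inv_10, inv_11, yE_00, yE_01, yE_10, yE_11,
      hE_00, hE_01, hE_10, hE_11]
    linear_combination e1
  · simp only [mul_entry, inv_00, inv_01, inv_10, inv_11, yE_00, yE_01, yE_10, yE_11,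
      hE_00, hE_01, hE_10, hE_11]
    ring
  · simp only [mul_entry, inv_00, inv_01, inv_10, inv_11, yE_00, yE_01, yE_10, yE_11,
      hE_00, hE_01, hE_10, hE_11]
    linear_combination (-s) * e1
  · simp only [mul_entry, inv_00, inv_01, inv_10, inv_11, yE_00, yE_01, yE_10, yE_11,
      hE_00, hE_01, hE_10, hE_11]
    linear_combination e1

/-- torus element extracted from the commutator of two elementary matrices -/
theorem hE_eq_comm (A B : R) (t : Rˣ) (ht : (t : R) = 1 + A * B + (A * B) ^ 2) :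
    hE t = yE (-(A * B ^ 2 * ((t⁻¹ : Rˣ) : R))) * ⁅xE A, yE B⁆ *
      xE (A ^ 2 * B * ((t⁻¹ : Rˣ) : R)) := by
  have e1 : (t : R) * ((t⁻¹ : Rˣ) : R) = 1 := Units.mul_inv t
  rw [commutatorElement_def]
  apply sl2_ext
  · simp only [mul_entry, inv_00, inv_01, inv_10, inv_11, xE_00, xE_01, xE_10, xE_11,
      yE_00, yE_01, yE_10, yE_11, hE_00, hE_01, hE_10, hE_11]
    rw [ht]; ring
  · simp only [mul_entry, inv_00, inv_01, inv_10, inv_11, xE_00, xE_01, xE_10, xE_11,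
      yE_00, yE_01, yE_10, yE_11, hE_00, hE_01, hE_10, hE_11]
    linear_combination (-(A^2*B)) * e1 + (A^2*B*((t⁻¹ : Rˣ) : R)) * ht
  · simp only [mul_entry, inv_00, inv_01, inv_10, inv_11, xE_00, xE_01, xE_10, xE_11,
      yE_00, yE_01, yE_10, yE_11, hE_00, hE_01, hE_10, hE_11]
    linear_combination (A*B^2) * e1 - (A*B^2*((t⁻¹ : Rˣ) : R)) * ht
  · simp only [mul_entry, inv_00, inv_01, inv_10, inv_11, xE_00, xE_01, xE_10, xE_11,
      yE_00, yE_01, yE_10, yE_11, hE_00, hE_01, hE_10, hE_11]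
    linear_combination (1 - A*B + (A*B)^3*((t⁻¹ : Rˣ) : R)) * e1 - (1 - A*B + (A*B)^3*((t⁻¹ : Rˣ) : R)) * ((t⁻¹ : Rˣ) : R) * ht


/-- one step of the lower-bound induction -/
theorem lower_step (p : R) (hunit : ∀ v z : R, IsUnit v → IsUnit (v + p * z))
    (h2 : IsUnit (2 : R))
    (D : Subgroup (Matrix.SpecialLinearGroup (Fin 2) R)) (a b i : ℕ) (hi : i ≤ a + b)
    (hab : 1 ≤ a + b) (t u : Rˣ) (htu : (t : R) ^ 2 - 1 = p ^ i * u)
    (hx : ∀ r, xE (p ^ a * r) ∈ D) (hy : ∀ r, yE (p ^ b * r) ∈ D) (ht : hE t ∈ D) :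
    ∃ t' u' : Rˣ, (t' : R) ^ 2 - 1 = p ^ (a + b) * u' ∧
      (∀ r, xE (p ^ (a + i) * r) ∈ ⁅D, D⁆) ∧ (∀ r, yE (p ^ (b + i) * r) ∈ ⁅D, D⁆) ∧
      hE t' ∈ ⁅D, D⁆ := by
  have eu : (u : R) * ((u⁻¹ : Rˣ) : R) = 1 := Units.mul_inv u
  have et : (t : R) * ((t⁻¹ : Rˣ) : R) = 1 := Units.mul_inv t
  have hx' : ∀ r, xE (p ^ (a + i) * r) ∈ ⁅D, D⁆ := by
    intro r
    have : xE (p ^ (a + i) * r) = ⁅hE t, xE (p ^ a * (((u⁻¹ : Rˣ) : R) * r))⁆ := by
      rw [comm_hE_xE, htu]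
      congr 1
      rw [pow_add]
      linear_combination (-(p ^ a * p ^ i * r)) * eu
    rw [this]
    exact Subgroup.commutator_mem_commutator ht (hx _)
  have hy' : ∀ r, yE (p ^ (b + i) * r) ∈ ⁅D, D⁆ := by
    intro r
    have : yE (p ^ (b + i) * r) =
        ⁅hE t, yE (p ^ b * (-((t : R) ^ 2) * ((u⁻¹ : Rˣ) : R) * r))⁆ := by
      rw [comm_hE_yE]
      congr 1
      rw [pow_add]
      linear_combination (-(p ^ i * p ^ b * r)) * eu - (((u⁻¹ : Rˣ) : R) * p ^ b * r) * htu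
        + (((t : R) * ((t⁻¹ : Rˣ) : R) + 1) * ((u⁻¹ : Rˣ) : R) * p ^ b * r) * et
    rw [this]
    exact Subgroup.commutator_mem_commutator ht (hy _)
  obtain ⟨q, hq⟩ : ∃ q, p ^ (a + b) = p * q :=
    ⟨p ^ (a + b - 1), by rw [← pow_succ']; congr 1; omega⟩
  have ht'u : IsUnit (1 + p ^ (a + b) + (p ^ (a + b)) ^ 2) := by
    have := hunit 1 (q * (1 + p ^ (a + b))) isUnit_one
    have e : 1 + p * (q * (1 + p ^ (a + b))) = 1 + p ^ (a + b) + (p ^ (a + b)) ^ 2 := by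
      rw [← mul_assoc, ← hq]; ring
    rwa [e] at this
  obtain ⟨t', ht'⟩ := ht'u
  have hu1 : IsUnit (1 + p ^ (a + b)) := by
    have := hunit 1 q isUnit_one
    rwa [← hq] at this
  have hu2 : IsUnit (2 + p ^ (a + b) + (p ^ (a + b)) ^ 2) := by
    have := hunit 2 (q * (1 + p ^ (a + b))) h2
    have e : 2 + p * (q * (1 + p ^ (a + b))) = 2 + p ^ (a + b) + (p ^ (a + b)) ^ 2 := by
      rw [← mul_assoc, ← hq]; ring
    rwa [e] at this
  obtain ⟨u', hu'⟩ := hu1.mul hu2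
  have et' : (t' : R) * ((t'⁻¹ : Rˣ) : R) = 1 := Units.mul_inv t'
  refine ⟨t', u', ?_, hx', hy', ?_⟩
  · rw [ht', hu']
    ring
  · rw [hE_eq_comm (p ^ a) (p ^ b) t' (by rw [ht', pow_add])]
    have hxa : xE (p ^ a) ∈ D := by simpa using hx 1
    have hyb : yE (p ^ b) ∈ D := by simpa using hy 1
    refine mul_mem (mul_mem ?_ (Subgroup.commutator_mem_commutator hxa hyb)) ?_
    · have e : p ^ a * (p ^ b) ^ 2 = p ^ (b + i) * p ^ (a + b - i) := by
        rw [← pow_mul, ← pow_add, ← pow_add]; congr 1; omega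
      have : -(p ^ a * (p ^ b) ^ 2 * ((t'⁻¹ : Rˣ) : R)) =
          p ^ (b + i) * (-(p ^ (a + b - i)) * ((t'⁻¹ : Rˣ) : R)) := by
        rw [e]; ring
      rw [this]
      exact hy' _
    · have e : (p ^ a) ^ 2 * p ^ b = p ^ (a + i) * p ^ (a + b - i) := by
        rw [← pow_mul, ← pow_add, ← pow_add]; congr 1; omega
      have : (p ^ a) ^ 2 * p ^ b * ((t'⁻¹ : Rˣ) : R) =
          p ^ (a + i) * (p ^ (a + b - i) * ((t'⁻¹ : Rˣ) : R)) := by
        rw [e]; ring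
      rw [this]
      exact hx' _

/-- exponent sequence of the lower-bound induction -/
def seq : ℕ → ℕ × ℕ × ℕ
  | 0 => (0, 1, 0)
  | j + 1 => ((seq j).1 + (seq j).2.2, (seq j).2.1 + (seq j).2.2, (seq j).1 + (seq j).2.1)

theorem seq_inv (j : ℕ) : (seq j).2.2 ≤ (seq j).1 + (seq j).2.1 ∧ 1 ≤ (seq j).2.1 := by
  induction j with
  | zero => simp [seq]
  | succ j ih =>
    simp only [seq]
    omega

theorem lower_bound (p : R) (hunit : ∀ v z : R, IsUnit v → IsUnit (v + p * z))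
    (h2 : IsUnit (2 : R)) (h3 : IsUnit (3 : R)) (j : ℕ) :
    ∃ t u : Rˣ, (t : R) ^ 2 - 1 = p ^ (seq j).2.2 * u ∧
      (∀ r, xE (p ^ (seq j).1 * r) ∈ dSer (borel p) j) ∧
      (∀ r, yE (p ^ (seq j).2.1 * r) ∈ dSer (borel p) j) ∧ hE t ∈ dSer (borel p) j := by
  induction j with
  | zero =>
    obtain ⟨t, ht⟩ := h2
    obtain ⟨u, hu⟩ := h3
    refine ⟨t, u, ?_, ?_, ?_, ?_⟩
    · simp only [seq, pow_zero, one_mul]
      rw [ht, hu]; norm_num
    · intro r; exact xE_mem_borel _ _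
    · intro r
      simp only [seq, pow_one]
      exact yE_mem_borel _ _
    · exact hE_mem_borel _ _
  | succ j ih =>
    obtain ⟨t, u, htu, hx, hy, ht⟩ := ih
    obtain ⟨hi, hb⟩ := seq_inv j
    exact lower_step p hunit h2 _ _ _ _ hi (by omega) t u htu hx hy ht

theorem dSer_ne_bot (p : R) (hunit : ∀ v z : R, IsUnit v → IsUnit (v + p * z))
    (h2 : IsUnit (2 : R)) (h3 : IsUnit (3 : R)) (j : ℕ) (hp : p ^ (seq j).1 ≠ 0) :
    dSer (borel p) j ≠ ⊥ := by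
  obtain ⟨t, u, -, hx, -, -⟩ := lower_bound p hunit h2 h3 j
  intro h
  have h1 := hx 1
  rw [h, Subgroup.mem_bot, mul_one] at h1
  apply hp
  have := congrArg (fun g : Matrix.SpecialLinearGroup (Fin 2) R => g 0 1) h1
  simpa using this

end Cfsg.Agent.Lib.Helper4.SL2Loc
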