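import Cfsg.Agent.Lib.Helper4.SL2Loc5

set_option autoImplicit false

/-! The groups `SL₂(ℤ/5^k)`: perfect, with a solvable maximal subgroup of large derived length.
(helper4) -/

namespace Cfsg.Agent.Lib.Helper4.SL2Loc

open scoped commutatorElement

section ZModFacts

variable (k : ℕ)

theorem zmod_isUnit_or_dvd [NeZero (5 ^ k)] (a : ZMod (5 ^ k)) :
    IsUnit a ∨ (5 : ZMod (5 ^ k)) ∣ a := by
  rw [← ZMod.natCast_zmod_val a]
  by_cases h : 5 ∣ a.val
  · right
    obtain ⟨c, hc⟩ := h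
    refine ⟨(c : ZMod (5 ^ k)), ?_⟩
    rw [hc]; push_cast; ring
  · left
    rw [ZMod.isUnit_iff_coprime]
    apply Nat.Coprime.pow_right
    exact ((Nat.Prime.coprime_iff_not_dvd (by norm_num)).mpr h).symm

theorem zmod_five_not_isUnit (hk : 1 ≤ k) : ¬ IsUnit (5 : ZMod (5 ^ k)) := by
  intro h
  have h1 : IsUnit ((5 : ℕ) : ZMod (5 ^ k)) := by simpa using h
  rw [ZMod.isUnit_iff_coprime] at h1
  have h2 : 5 ∣ Nat.gcd 5 (5 ^ k) := Nat.dvd_gcd dvd_rfl (dvd_pow_self 5 (by omega))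
  rw [Nat.Coprime] at h1
  rw [h1] at h2
  omega

theorem zmod_two_isUnit : IsUnit (2 : ZMod (5 ^ k)) := by
  have : IsUnit ((2 : ℕ) : ZMod (5 ^ k)) := by
    rw [ZMod.isUnit_iff_coprime]
    exact Nat.Coprime.pow_right _ (by norm_num)
  simpa using this

theorem zmod_three_isUnit : IsUnit (3 : ZMod (5 ^ k)) := by
  have : IsUnit ((3 : ℕ) : ZMod (5 ^ k)) := by
    rw [ZMod.isUnit_iff_coprime]
    exact Nat.Coprime.pow_right _ (by norm_num)
  simpa using this

theorem zmod_five_pow : (5 : ZMod (5 ^ k)) ^ k = 0 := by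
  have := ZMod.natCast_self (5 ^ k)
  push_cast at this
  exact this

theorem zmod_five_pow_ne_zero (a : ℕ) (ha : a < k) : (5 : ZMod (5 ^ k)) ^ a ≠ 0 := by
  intro h
  have h1 : ((5 ^ a : ℕ) : ZMod (5 ^ k)) = 0 := by push_cast; exact h
  rw [ZMod.natCast_eq_zero_iff] at h1
  rw [Nat.pow_dvd_pow_iff_le_right (by norm_num)] at h1
  omega

theorem zmod_isUnit_add [NeZero (5 ^ k)] (hk : 1 ≤ k) (v z : ZMod (5 ^ k)) (hv : IsUnit v) :
    IsUnit (v + 5 * z) := by
  rcases zmod_isUnit_or_dvd k (v + 5 * z) with h | h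
  · exact h
  · exfalso
    apply zmod_five_not_isUnit k hk
    have : (5 : ZMod (5 ^ k)) ∣ v := (dvd_add_left (Dvd.intro z rfl)).mp h
    exact isUnit_of_dvd_unit this hv

end ZModFacts

/-- For every `d` there is a finite perfect group with a solvable maximal subgroup whose
`d`-th derived subgroup is non-trivial. -/
theorem exists_perfect_solvable_maximal (d : ℕ) :
    ∃ (G : Type) (_ : Group G) (_ : Finite G) (H : Subgroup G), commutator G = ⊤ ∧ IsCoatom H ∧
      Group.IsSolvable H ∧ derivedSeries H d ≠ ⊥ := by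
  obtain ⟨k, hk⟩ : ∃ k, k = (seq d).1 + 1 := ⟨_, rfl⟩
  have hk1 : 1 ≤ k := by omega
  haveI : NeZero (5 ^ k) := ⟨by positivity⟩
  have hloc := zmod_isUnit_or_dvd k
  have hp := zmod_five_not_isUnit k hk1
  obtain ⟨t, ht⟩ := zmod_two_isUnit k
  obtain ⟨u, hu⟩ := zmod_three_isUnit k
  refine ⟨Matrix.SpecialLinearGroup (Fin 2) (ZMod (5 ^ k)), inferInstance, inferInstance,
    borel (5 : ZMod (5 ^ k)), ?_, ?_, ?_, ?_⟩
  · exact commutator_eq_top 5 hloc hp t u (by rw [ht, hu]; norm_num)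
  · exact borel_isCoatom 5 hloc hp
  · exact borel_isSolvable 5 k (zmod_five_pow k)
  · rw [Ne, derivedSeries_eq_bot_iff]
    exact dSer_ne_bot 5 (zmod_isUnit_add k hk1) (zmod_two_isUnit k) (zmod_three_isUnit k) d
      (zmod_five_pow_ne_zero k _ (by omega))

end Cfsg.Agent.Lib.Helper4.SL2Loc
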