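import Mathlib
import Cfsg.Agent.Lib.Helper4.SL2Cov3

set_option autoImplicit false

namespace Cfsg.Agent.Lib.Helper4.SL2Pair

open Matrix Cfsg.Agent.Lib.Helper4 Cfsg.Agent.Lib.Helper4.SL2Tr Cfsg.Agent.Lib.Helper4.SL2Ord
  Cfsg.Agent.Lib.Helper4.SL2Cov

section SL

variable {F : Type*} [Field F] [Fintype F] [DecidableEq F]

local notation "SL2" => Matrix.SpecialLinearGroup (Fin 2) F

theorem compSL_zero_sq : (compSL (0 : F)) ^ 2 = negOneSL F := by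
  apply Subtype.ext
  rw [pow_two, Matrix.SpecialLinearGroup.coe_mul, compSL_coe, negOneSL_coe]
  ext i j
  fin_cases i <;> fin_cases j <;> simp

theorem trace_zero_of_sq (hodd : Odd (Fintype.card F)) (g : SL2) (hg : g ^ 2 = negOneSL F) :
    (g : Matrix (Fin 2) (Fin 2) F).trace = 0 := by
  have hc := cayley g
  have hg' : (g : Matrix (Fin 2) (Fin 2) F) * (g : Matrix (Fin 2) (Fin 2) F)
      = (negOneSL F : Matrix (Fin 2) (Fin 2) F) := by
    rw [← hg, pow_two, Matrix.SpecialLinearGroup.coe_mul]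
  rw [hg', negOneSL_coe] at hc
  by_contra ht
  have hd := sl2_det g
  have h00 := congrFun (congrFun hc 0) 0
  have h01 := congrFun (congrFun hc 0) 1
  have h10 := congrFun (congrFun hc 1) 0
  have h11 := congrFun (congrFun hc 1) 1
  simp at h00 h01 h10 h11
  have e00 : g 0 0 = 0 := by
    have : (g : Matrix (Fin 2) (Fin 2) F).trace * g 0 0 = 0 := by linear_combination -h00
    rcases mul_eq_zero.mp this with h | h
    · exact absurd h ht
    · exact h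
  have e01 : g 0 1 = 0 := by
    rcases h01 with h | h
    · exact absurd h ht
    · exact h
  rw [e00, e01] at hd
  simp at hd

theorem isConj_of_sq (hodd : Odd (Fintype.card F)) (g : SL2) (hg : g ^ 2 = negOneSL F) :
    IsConj (compSL (0 : F)) g := by
  rw [isConj_iff_trace_odd hodd _ _ (compSL_not_scalar 0)]
  · rw [compSL_trace]
    exact trace_zero_of_sq hodd g hg
  · rw [compSL_trace]
    have := four_ne_zero_of_odd hodd
    intro h
    apply this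
    rw [← h]; ring

end SL

section Abstract

variable {G : Type*} [Group G]

theorem mem_sup_of_commute (L₁ L₂ : Subgroup G) (hc : ∀ x ∈ L₁, ∀ y ∈ L₂, x * y = y * x)
    (g : G) (hg : g ∈ L₁ ⊔ L₂) : ∃ a ∈ L₁, ∃ b ∈ L₂, g = a * b := by
  let K : Subgroup G :=
    { carrier := {g | ∃ a ∈ L₁, ∃ b ∈ L₂, g = a * b}
      one_mem' := ⟨1, L₁.one_mem, 1, L₂.one_mem, by simp⟩
      mul_mem' := by
        rintro _ _ ⟨a, ha, b, hb, rfl⟩ ⟨a', ha', b', hb', rfl⟩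
        refine ⟨a * a', L₁.mul_mem ha ha', b * b', L₂.mul_mem hb hb', ?_⟩
        have := hc a' ha' b hb
        calc a * b * (a' * b') = a * (b * a') * b' := by group
          _ = a * (a' * b) * b' := by rw [this]
          _ = a * a' * (b * b') := by group
      inv_mem' := by
        rintro _ ⟨a, ha, b, hb, rfl⟩
        refine ⟨a⁻¹, L₁.inv_mem ha, b⁻¹, L₂.inv_mem hb, ?_⟩
        have := hc a⁻¹ (L₁.inv_mem ha) b⁻¹ (L₂.inv_mem hb)
        rw [_root_.mul_inv_rev, this] }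
  have hle : L₁ ⊔ L₂ ≤ K := by
    apply sup_le
    · intro a ha
      exact ⟨a, ha, 1, L₂.one_mem, by simp⟩
    · intro b hb
      exact ⟨1, L₁.one_mem, b, hb, by simp⟩
  exact hle hg

theorem two_classes (L₁ L₂ : Subgroup G) (hc : ∀ x ∈ L₁, ∀ y ∈ L₂, x * y = y * x)
    (j : G) (hj : orderOf j = 2) (hm : L₁ ⊓ L₂ = Subgroup.zpowers j)
    (h1 : ∀ a ∈ L₁, a ^ 2 = 1 → a = 1 ∨ a = j) (h2 : ∀ b ∈ L₂, b ^ 2 = 1 → b = 1 ∨ b = j)
    (a₀ : G) (ha₀ : a₀ ∈ L₁) (ha₀2 : a₀ ^ 2 = j)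
    (hconj1 : ∀ a ∈ L₁, a ^ 2 = j → ∃ g ∈ L₁, g * a₀ * g⁻¹ = a)
    (b₀ : G) (hb₀ : b₀ ∈ L₂) (hb₀2 : b₀ ^ 2 = j)
    (hconj2 : ∀ b ∈ L₂, b ^ 2 = j → ∃ g ∈ L₂, g * b₀ * g⁻¹ = b) :
    ∃ x ∈ L₁ ⊔ L₂, orderOf x = 2 ∧ x ≠ j ∧
      ∀ y ∈ L₁ ⊔ L₂, orderOf y = 2 → y = j ∨ ∃ g ∈ L₁ ⊔ L₂, g * x * g⁻¹ = y := by
  have hj2 : j ^ 2 = 1 := by rw [← hj]; exact pow_orderOf_eq_one j
  have hj1 : j ≠ 1 := by
    intro h
    rw [h, orderOf_one] at hj
    omega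
  have hmem : ∀ g, g ∈ L₁ → g ∈ L₂ → g = 1 ∨ g = j := by
    intro g hg1 hg2
    have : g ∈ L₁ ⊓ L₂ := ⟨hg1, hg2⟩
    rw [hm, Subgroup.mem_zpowers_iff] at this
    obtain ⟨k, rfl⟩ := this
    rcases Int.even_or_odd' k with ⟨m, rfl | rfl⟩
    · left
      rw [_root_.zpow_mul, zpow_two, ← pow_two, hj2, _root_.one_zpow]
    · right
      rw [_root_.zpow_add, _root_.zpow_mul, zpow_two, ← pow_two, hj2, _root_.one_zpow, one_mul, zpow_one]
  have hjL1 : j ∈ L₁ := by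
    have : j ∈ L₁ ⊓ L₂ := by rw [hm]; exact Subgroup.mem_zpowers j
    exact this.1
  have hjL2 : j ∈ L₂ := by
    have : j ∈ L₁ ⊓ L₂ := by rw [hm]; exact Subgroup.mem_zpowers j
    exact this.2
  have hsq : ∀ g, g = 1 ∨ g = j → g ^ 2 = 1 := by
    rintro g (rfl | rfl)
    · simp
    · exact hj2
  have hx2 : (a₀ * b₀) ^ 2 = 1 := by
    have := hc a₀ ha₀ b₀ hb₀
    have hcm : Commute a₀ b₀ := this
    rw [hcm.mul_pow, ha₀2, hb₀2, ← pow_two, hj2]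
  have ha₀n : ¬ (a₀ = 1 ∨ a₀ = j) := by
    intro h
    have := hsq a₀ h
    rw [ha₀2] at this
    exact hj1 this
  refine ⟨a₀ * b₀, Subgroup.mul_mem _ (Subgroup.mem_sup_left ha₀) (Subgroup.mem_sup_right hb₀),
    ?_, ?_, ?_⟩
  · apply orderOf_eq_prime hx2
    intro h
    apply ha₀n
    apply hmem a₀ ha₀
    have : a₀ = b₀⁻¹ := eq_inv_of_mul_eq_one_left h
    rw [this]
    exact L₂.inv_mem hb₀
  · intro h
    apply ha₀n
    apply hmem a₀ ha₀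
    have : a₀ = j * b₀⁻¹ := by rw [← h]; group
    rw [this]
    exact L₂.mul_mem hjL2 (L₂.inv_mem hb₀)
  · intro y hy hy2
    obtain ⟨a, ha, b, hb, rfl⟩ := mem_sup_of_commute L₁ L₂ hc y hy
    have hcm : Commute a b := hc a ha b hb
    have hy2' : (a * b) ^ 2 = 1 := by rw [← hy2]; exact pow_orderOf_eq_one _
    rw [hcm.mul_pow] at hy2'
    have ha2 : a ^ 2 = (b ^ 2)⁻¹ := eq_inv_of_mul_eq_one_left hy2'
    have ha2mem : a ^ 2 = 1 ∨ a ^ 2 = j := by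
      apply hmem _ (L₁.pow_mem ha 2)
      rw [ha2]
      exact L₂.inv_mem (L₂.pow_mem hb 2)
    rcases ha2mem with h | h
    · left
      have hb2 : b ^ 2 = 1 := by
        rw [h] at ha2
        have := inv_eq_one.mp ha2.symm
        exact this
      rcases h1 a ha h with rfl | rfl <;> rcases h2 b hb hb2 with rfl | rfl
      · exfalso
        rw [one_mul, orderOf_one] at hy2
        omega
      · simp
      · simp
      · exfalso
        rw [← pow_two, hj2, orderOf_one] at hy2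
        omega
    · right
      have hb2 : b ^ 2 = j := by
        rw [h] at ha2
        have : b ^ 2 = j⁻¹ := by rw [ha2, inv_inv]
        rw [this]
        exact inv_eq_of_mul_eq_one_left (by rw [← pow_two]; exact hj2)
      obtain ⟨g₁, hg₁, rfl⟩ := hconj1 a ha h
      obtain ⟨g₂, hg₂, rfl⟩ := hconj2 b hb hb2
      refine ⟨g₁ * g₂, Subgroup.mul_mem _ (Subgroup.mem_sup_left hg₁) (Subgroup.mem_sup_right hg₂), ?_⟩
      have e1 : g₂ * a₀ = a₀ * g₂ := (hc a₀ ha₀ g₂ hg₂).symm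
      have e2 : g₁⁻¹ * (g₂ * b₀ * g₂⁻¹) = (g₂ * b₀ * g₂⁻¹) * g₁⁻¹ :=
        hc g₁⁻¹ (L₁.inv_mem hg₁) _ (L₂.mul_mem (L₂.mul_mem hg₂ hb₀) (L₂.inv_mem hg₂))
      calc g₁ * g₂ * (a₀ * b₀) * (g₁ * g₂)⁻¹
          = g₁ * (g₂ * a₀) * b₀ * g₂⁻¹ * g₁⁻¹ := by group
        _ = g₁ * (a₀ * g₂) * b₀ * g₂⁻¹ * g₁⁻¹ := by rw [e1]
        _ = g₁ * a₀ * ((g₂ * b₀ * g₂⁻¹) * g₁⁻¹) := by group
        _ = g₁ * a₀ * (g₁⁻¹ * (g₂ * b₀ * g₂⁻¹)) := by rw [e2]
        _ = g₁ * a₀ * g₁⁻¹ * (g₂ * b₀ * g₂⁻¹) := by group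

end Abstract

end Cfsg.Agent.Lib.Helper4.SL2Pair
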