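import Mathlib
import Cfsg.Agent.Lib.Helper4.SL2Pair

set_option autoImplicit false

namespace Cfsg.Agent.Lib.Helper4.SL2Pair

open Matrix Cfsg.Agent.Lib.Helper4 Cfsg.Agent.Lib.Helper4.SL2Tr Cfsg.Agent.Lib.Helper4.SL2Ord
  Cfsg.Agent.Lib.Helper4.SL2Cov

theorem factor_facts {G : Type*} [Group G] {F : Type*} [Field F] [Fintype F]
    (hodd : Odd (Fintype.card F)) (L : Subgroup G)
    (e : ↥L ≃* Matrix.SpecialLinearGroup (Fin 2) F) (j : G) (hj : orderOf j = 2) (hjL : j ∈ L) :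
    (∀ a ∈ L, a ^ 2 = 1 → a = 1 ∨ a = j) ∧
      ∃ a₀ ∈ L, a₀ ^ 2 = j ∧ ∀ a ∈ L, a ^ 2 = j → ∃ g ∈ L, g * a₀ * g⁻¹ = a := by
  classical
  have hj2 : j ^ 2 = 1 := by rw [← hj]; exact pow_orderOf_eq_one j
  have hj1 : j ≠ 1 := by
    intro h
    rw [h, orderOf_one] at hj
    omega
  have hej : e ⟨j, hjL⟩ = negOneSL F := by
    have h2 : (e ⟨j, hjL⟩) ^ 2 = 1 := by
      rw [← map_pow]
      have : (⟨j, hjL⟩ : L) ^ 2 = 1 := Subtype.ext (by simpa using hj2)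
      rw [this, map_one]
    rcases eq_one_or_neg_of_sq hodd _ h2 with h | h
    · exfalso
      have : (⟨j, hjL⟩ : L) = 1 := e.injective (by rw [h, map_one])
      exact hj1 (congrArg Subtype.val this)
    · exact h
  refine ⟨?_, ?_⟩
  · intro a ha ha2
    have h2 : (e ⟨a, ha⟩) ^ 2 = 1 := by
      rw [← map_pow]
      have : (⟨a, ha⟩ : L) ^ 2 = 1 := Subtype.ext (by simpa using ha2)
      rw [this, map_one]
    rcases eq_one_or_neg_of_sq hodd _ h2 with h | h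
    · left
      have : (⟨a, ha⟩ : L) = 1 := e.injective (by rw [h, map_one])
      exact congrArg Subtype.val this
    · right
      have : (⟨a, ha⟩ : L) = ⟨j, hjL⟩ := e.injective (by rw [h, hej])
      exact congrArg Subtype.val this
  · refine ⟨(e.symm (compSL 0) : G), (e.symm (compSL 0)).2, ?_, ?_⟩
    · have : (e.symm (compSL 0)) ^ 2 = (⟨j, hjL⟩ : L) := by
        apply e.injective
        rw [map_pow, MulEquiv.apply_symm_apply, hej, compSL_zero_sq]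
      have := congrArg Subtype.val this
      simpa using this
    · intro a ha ha2
      have h2 : (e ⟨a, ha⟩) ^ 2 = negOneSL F := by
        rw [← map_pow, ← hej]
        congr 1
        exact Subtype.ext (by simpa using ha2)
      have hcj := isConj_of_sq hodd _ h2
      rw [isConj_iff] at hcj
      obtain ⟨c, hc⟩ := hcj
      refine ⟨(e.symm c : G), (e.symm c).2, ?_⟩
      have : e.symm c * e.symm (compSL 0) * (e.symm c)⁻¹ = (⟨a, ha⟩ : L) := by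
        apply e.injective
        rw [map_mul, map_mul, map_inv, MulEquiv.apply_symm_apply, MulEquiv.apply_symm_apply, hc]
      have := congrArg Subtype.val this
      simpa using this

theorem main {G : Type*} [Group G]
    {F₁ : Type*} [Field F₁] [Fintype F₁] {F₂ : Type*} [Field F₂] [Fintype F₂]
    (hF₁ : Odd (Fintype.card F₁)) (hF₂ : Odd (Fintype.card F₂)) (L₁ L₂ : Subgroup G)
    (e₁ : ↥L₁ ≃* Matrix.SpecialLinearGroup (Fin 2) F₁) (e₂ : ↥L₂ ≃* Matrix.SpecialLinearGroup (Fin 2) F₂)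
    (hc : ∀ x ∈ L₁, ∀ y ∈ L₂, x * y = y * x) (j : G) (hj : orderOf j = 2) (hm : L₁ ⊓ L₂ = Subgroup.zpowers j) :
    ∃ x ∈ L₁ ⊔ L₂, orderOf x = 2 ∧ x ≠ j ∧
      ∀ y ∈ L₁ ⊔ L₂, orderOf y = 2 → y = j ∨ ∃ g ∈ L₁ ⊔ L₂, g * x * g⁻¹ = y := by
  have hjL : j ∈ L₁ ⊓ L₂ := by rw [hm]; exact Subgroup.mem_zpowers j
  obtain ⟨h1, a₀, ha₀, ha₀2, hconj1⟩ := factor_facts hF₁ L₁ e₁ j hj hjL.1
  obtain ⟨h2, b₀, hb₀, hb₀2, hconj2⟩ := factor_facts hF₂ L₂ e₂ j hj hjL.2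
  exact two_classes L₁ L₂ hc j hj hm h1 h2 a₀ ha₀ ha₀2 hconj1 b₀ hb₀ hb₀2 hconj2

end Cfsg.Agent.Lib.Helper4.SL2Pair
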