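import Mathlib
import Cfsg.Prelude.Def_SporCoxeter

/-! The auxiliary presentation `SL33pp3` for stem extensions of `L33p` with kernel of order 3 (generated). -/

namespace Cfsg.Agent.Lib.Helper4

namespace SL33pp3

/-- the generators -/
inductive Gen
  | c
  | a
  | b
  | z
  | y
  deriving DecidableEq

abbrev c : FreeGroup Gen := FreeGroup.of Gen.c
abbrev a : FreeGroup Gen := FreeGroup.of Gen.a
abbrev b : FreeGroup Gen := FreeGroup.of Gen.b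
abbrev z : FreeGroup Gen := FreeGroup.of Gen.z
abbrev y : FreeGroup Gen := FreeGroup.of Gen.y

/-- no Coxeter graph -/
def edges : List (Gen × ℕ × Gen) := []

/-- the relators -/
def extra : List (FreeGroup Gen) := [
  c ^ 13,
  a ^ 2,
  b⁻¹ * a⁻¹ * c,
  z⁻¹ * b * b * b,
  y⁻¹ * a * b * a * b * a * b * a * b⁻¹ * a * b * a * b * a * b⁻¹ * a * b * a * b * a * b * a * b⁻¹ * a * b⁻¹ * a * b⁻¹ * a * b * a * b * a * b * a * b⁻¹ * a * b⁻¹ * a * b⁻¹,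
  z ^ 3,
  y ^ 3,
  z * c * z⁻¹ * c⁻¹,
  z * a * z⁻¹ * a⁻¹,
  z * b * z⁻¹ * b⁻¹,
  y * c * y⁻¹ * c⁻¹,
  y * a * y⁻¹ * a⁻¹,
  y * b * y⁻¹ * b⁻¹ ]

end SL33pp3

end Cfsg.Agent.Lib.Helper4
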