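import Mathlib
import Cfsg.Prelude.Def_SporCoxeter

/-! The auxiliary presentation `SM11p2` for stem extensions of `M11p` with kernel of order 2 (generated). -/

namespace Cfsg.Agent.Lib.Helper4

namespace SM11p2

/-- the generators -/
inductive Gen
  | c
  | d
  | b
  | a
  | z
  | y
  | x
  | w
  deriving DecidableEq

abbrev c : FreeGroup Gen := FreeGroup.of Gen.c
abbrev d : FreeGroup Gen := FreeGroup.of Gen.d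
abbrev b : FreeGroup Gen := FreeGroup.of Gen.b
abbrev a : FreeGroup Gen := FreeGroup.of Gen.a
abbrev z : FreeGroup Gen := FreeGroup.of Gen.z
abbrev y : FreeGroup Gen := FreeGroup.of Gen.y
abbrev x : FreeGroup Gen := FreeGroup.of Gen.x
abbrev w : FreeGroup Gen := FreeGroup.of Gen.w

/-- no Coxeter graph -/
def edges : List (Gen × ℕ × Gen) := []

/-- the relators -/
def extra : List (FreeGroup Gen) := [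
  c ^ 11,
  d ^ 11,
  b⁻¹ * c⁻¹ * c⁻¹ * c⁻¹ * d,
  a⁻¹ * c * b⁻¹,
  z⁻¹ * a * a,
  y⁻¹ * b * b * b * b,
  x⁻¹ * ((a * b * b) ^ 6),
  w⁻¹ * a * b * a * b * a * b⁻¹ * a * b * a * b * b * a * b⁻¹ * a * b * a * b⁻¹ * a * b⁻¹,
  z ^ 2,
  y ^ 2,
  x ^ 2,
  w ^ 2,
  z * c * z⁻¹ * c⁻¹,
  z * d * z⁻¹ * d⁻¹,
  z * b * z⁻¹ * b⁻¹,
  z * a * z⁻¹ * a⁻¹,
  z * y * z⁻¹ * y⁻¹,
  z * x * z⁻¹ * x⁻¹,
  z * w * z⁻¹ * w⁻¹,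
  y * c * y⁻¹ * c⁻¹,
  y * d * y⁻¹ * d⁻¹,
  y * b * y⁻¹ * b⁻¹,
  y * a * y⁻¹ * a⁻¹,
  y * z * y⁻¹ * z⁻¹,
  y * x * y⁻¹ * x⁻¹,
  y * w * y⁻¹ * w⁻¹,
  x * c * x⁻¹ * c⁻¹,
  x * d * x⁻¹ * d⁻¹,
  x * b * x⁻¹ * b⁻¹,
  x * a * x⁻¹ * a⁻¹,
  x * z * x⁻¹ * z⁻¹,
  x * y * x⁻¹ * y⁻¹,
  x * w * x⁻¹ * w⁻¹,
  w * c * w⁻¹ * c⁻¹,
  w * d * w⁻¹ * d⁻¹,
  w * b * w⁻¹ * b⁻¹,
  w * a * w⁻¹ * a⁻¹,
  w * z * w⁻¹ * z⁻¹,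
  w * y * w⁻¹ * y⁻¹,
  w * x * w⁻¹ * x⁻¹ ]

end SM11p2

end Cfsg.Agent.Lib.Helper4
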