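import Mathlib
import Cfsg.Prelude.Def_SporCoxeter

/-! The auxiliary presentation `SM24pp2` for stem extensions of `M24p` with kernel of order 2 (generated). -/

namespace Cfsg.Agent.Lib.Helper4

namespace SM24pp2

/-- the generators -/
inductive Gen
  | a
  | b
  | g
  | h
  | z
  | y
  | x
  | w
  | v
  deriving DecidableEq

abbrev a : FreeGroup Gen := FreeGroup.of Gen.a
abbrev b : FreeGroup Gen := FreeGroup.of Gen.b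
abbrev g : FreeGroup Gen := FreeGroup.of Gen.g
abbrev h : FreeGroup Gen := FreeGroup.of Gen.h
abbrev z : FreeGroup Gen := FreeGroup.of Gen.z
abbrev y : FreeGroup Gen := FreeGroup.of Gen.y
abbrev x : FreeGroup Gen := FreeGroup.of Gen.x
abbrev w : FreeGroup Gen := FreeGroup.of Gen.w
abbrev v : FreeGroup Gen := FreeGroup.of Gen.v

/-- no Coxeter graph -/
def edges : List (Gen × ℕ × Gen) := []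

/-- the relators -/
def extra : List (FreeGroup Gen) := [
  a ^ 2,
  b ^ 4,
  g ^ 23,
  h ^ 23,
  z⁻¹ * b⁻¹ * a⁻¹ * h * a * b * h⁻¹ * h⁻¹,
  y⁻¹ * g * g * h * g * g * h,
  x⁻¹ * a * b * h * g⁻¹ * a * b * h⁻¹ * g,
  w⁻¹ * a * b * g⁻¹ * a * g * g * b⁻¹ * h * h * b * a⁻¹ * h⁻¹ * b * b,
  v⁻¹ * a * b⁻¹ * a * b⁻¹ * g⁻¹ * a * g * b * b * g⁻¹ * h⁻¹ * h⁻¹ * b⁻¹ * h,
  z ^ 2,
  y ^ 2,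
  x ^ 2,
  w ^ 2,
  v ^ 2,
  z * a * z⁻¹ * a⁻¹,
  z * b * z⁻¹ * b⁻¹,
  z * g * z⁻¹ * g⁻¹,
  z * h * z⁻¹ * h⁻¹,
  y * a * y⁻¹ * a⁻¹,
  y * b * y⁻¹ * b⁻¹,
  y * g * y⁻¹ * g⁻¹,
  y * h * y⁻¹ * h⁻¹,
  x * a * x⁻¹ * a⁻¹,
  x * b * x⁻¹ * b⁻¹,
  x * g * x⁻¹ * g⁻¹,
  x * h * x⁻¹ * h⁻¹,
  w * a * w⁻¹ * a⁻¹,
  w * b * w⁻¹ * b⁻¹,
  w * g * w⁻¹ * g⁻¹,
  w * h * w⁻¹ * h⁻¹,
  v * a * v⁻¹ * a⁻¹,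
  v * b * v⁻¹ * b⁻¹,
  v * g * v⁻¹ * g⁻¹,
  v * h * v⁻¹ * h⁻¹,
  a ^ 2,
  b ^ 4,
  (a * b) ^ 11,
  (a * b * b) ^ 6,
  a * b * a * b * a * b⁻¹ * a * b * a * b * b * a * b⁻¹ * a * b * a * b⁻¹ * a * b⁻¹,
  g ^ 23,
  a * b * g * b⁻¹ * a⁻¹ * g⁻¹ * g⁻¹,
  a * g * a * g * b⁻¹ * g * a * g * g * b⁻¹ * g⁻¹ * g⁻¹,
  a * g * a * g⁻¹ * a * g * a * g⁻¹ * a⁻¹ * g * a⁻¹ * g⁻¹,
  a * b * a * g * g * b * a * g * g * b * g⁻¹ * b⁻¹ * g⁻¹ * b * b,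
  a * b * g⁻¹ * a * g * b * g⁻¹ * g⁻¹ * a⁻¹ * g⁻¹ * a⁻¹ * g * b * b * g⁻¹,
  a * b⁻¹ * g⁻¹ * a⁻¹ * g * b⁻¹ * g * b⁻¹ * b⁻¹ * g⁻¹ * a * g * b⁻¹ * g * b⁻¹ ]

end SM24pp2

end Cfsg.Agent.Lib.Helper4
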