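import Mathlib

/-!
S3641 (SN17) piece N1: the arithmetic of the Sylow numbers `{18, 136, 153}`.
-/

namespace Cfsg.Agent.Lib.Helper4.SN17

theorem n1_prime_cases (r : ℕ) (hr : r.Prime) (c : ℕ) (hc : c = 18 ∨ c = 136 ∨ c = 153)
    (hmod : c ≡ 1 [MOD r]) :
    (r = 17 ∧ c = 18) ∨ (r = 3 ∧ c = 136) ∨ (r = 5 ∧ c = 136) ∨ (r = 2 ∧ c = 153) ∨
      (r = 19 ∧ c = 153) := by
  have hdvd : r ∣ c - 1 := (Nat.modEq_iff_dvd' (by rcases hc with h | h | h <;> omega)).1 hmod.symm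
  rcases hc with rfl | rfl | rfl
  · left
    have h17 : r ∣ 17 := hdvd
    have := (Nat.prime_dvd_prime_iff_eq hr (by norm_num)).1 h17
    exact ⟨this, rfl⟩
  · have h : r ∣ 3 ^ 3 * 5 := hdvd
    rcases (Nat.Prime.dvd_mul hr).1 h with h | h
    · have := hr.dvd_of_dvd_pow h
      have := (Nat.prime_dvd_prime_iff_eq hr (by norm_num)).1 this
      right; left; exact ⟨this, rfl⟩
    · have := (Nat.prime_dvd_prime_iff_eq hr (by norm_num)).1 h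
      right; right; left; exact ⟨this, rfl⟩
  · have h : r ∣ 2 ^ 3 * 19 := hdvd
    rcases (Nat.Prime.dvd_mul hr).1 h with h | h
    · have := hr.dvd_of_dvd_pow h
      have := (Nat.prime_dvd_prime_iff_eq hr (by norm_num)).1 this
      right; right; right; left; exact ⟨this, rfl⟩
    · have := (Nat.prime_dvd_prime_iff_eq hr (by norm_num)).1 h
      right; right; right; right; exact ⟨this, rfl⟩

theorem sylow_numbers {G : Type*} [Group G] [Finite G]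
    (hNS : {c : ℕ | ∃ r : ℕ, r.Prime ∧ r ∣ Nat.card G ∧ c = Nat.card (Sylow r G)} =
      ({18, 136, 153} : Set ℕ)) :
    Nat.card (Sylow 17 G) = 18 ∧ Nat.card (Sylow 2 G) = 153 ∧ Nat.card (Sylow 3 G) = 136 ∧
    (5 ∣ Nat.card G → Nat.card (Sylow 5 G) = 136) ∧
    (19 ∣ Nat.card G → Nat.card (Sylow 19 G) = 153) ∧
    ∀ r : ℕ, r.Prime → r ∣ Nat.card G → r = 2 ∨ r = 3 ∨ r = 5 ∨ r = 17 ∨ r = 19 := by
  -- the key: for each prime divisor r, the pair (r, n_r) is one of five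
  have key : ∀ r : ℕ, r.Prime → r ∣ Nat.card G →
      (r = 17 ∧ Nat.card (Sylow r G) = 18) ∨ (r = 3 ∧ Nat.card (Sylow r G) = 136) ∨
      (r = 5 ∧ Nat.card (Sylow r G) = 136) ∨ (r = 2 ∧ Nat.card (Sylow r G) = 153) ∨
      (r = 19 ∧ Nat.card (Sylow r G) = 153) := by
    intro r hr hdvd
    haveI : Fact r.Prime := ⟨hr⟩
    have hmem : Nat.card (Sylow r G) ∈ ({18, 136, 153} : Set ℕ) := by
      rw [← hNS]
      exact ⟨r, hr, hdvd, rfl⟩
    have hc : Nat.card (Sylow r G) = 18 ∨ Nat.card (Sylow r G) = 136 ∨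
        Nat.card (Sylow r G) = 153 := by
      simpa using hmem
    exact n1_prime_cases r hr _ hc (card_sylow_modEq_one r G)
  -- 18 is a Sylow number, so 17 divides |G| and n_17 = 18
  have h18 : (18 : ℕ) ∈ {c : ℕ | ∃ r : ℕ, r.Prime ∧ r ∣ Nat.card G ∧ c = Nat.card (Sylow r G)} := by
    rw [hNS]; simp
  obtain ⟨r, hr, hrd, hrc⟩ := h18
  have h17 : 17 ∣ Nat.card G ∧ Nat.card (Sylow 17 G) = 18 := by
    rcases key r hr hrd with ⟨rfl, h⟩ | ⟨rfl, h⟩ | ⟨rfl, h⟩ | ⟨rfl, h⟩ | ⟨rfl, h⟩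
    · exact ⟨hrd, h⟩
    all_goals omega
  haveI : Fact (Nat.Prime 17) := ⟨by norm_num⟩
  have h18d : 18 ∣ Nat.card G := by
    rw [← h17.2, Sylow.card_eq_index_normalizer (Classical.arbitrary (Sylow 17 G))]
    exact Subgroup.index_dvd_card _
  have h2d : 2 ∣ Nat.card G := Dvd.dvd.trans (by norm_num) h18d
  have h3d : 3 ∣ Nat.card G := Dvd.dvd.trans (by norm_num) h18d
  refine ⟨h17.2, ?_, ?_, ?_, ?_, ?_⟩
  · rcases key 2 (by norm_num) h2d with ⟨h, _⟩ | ⟨h, _⟩ | ⟨h, _⟩ | ⟨_, h⟩ | ⟨h, _⟩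
    · omega
    · omega
    · omega
    · exact h
    · omega
  · rcases key 3 (by norm_num) h3d with ⟨h, _⟩ | ⟨_, h⟩ | ⟨h, _⟩ | ⟨h, _⟩ | ⟨h, _⟩
    · omega
    · exact h
    · omega
    · omega
    · omega
  · intro h5d
    rcases key 5 (by norm_num) h5d with ⟨h, _⟩ | ⟨h, _⟩ | ⟨_, h⟩ | ⟨h, _⟩ | ⟨h, _⟩
    · omega
    · omega
    · exact h
    · omega
    · omega
  · intro h19d
    rcases key 19 (by norm_num) h19d with ⟨h, _⟩ | ⟨h, _⟩ | ⟨h, _⟩ | ⟨h, _⟩ | ⟨_, h⟩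
    · omega
    · omega
    · omega
    · omega
    · exact h
  · intro r hr hrd
    rcases key r hr hrd with ⟨h, _⟩ | ⟨h, _⟩ | ⟨h, _⟩ | ⟨h, _⟩ | ⟨h, _⟩ <;> simp [h]

end Cfsg.Agent.Lib.Helper4.SN17
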