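import Mathlib
import Cfsg.Agent.Lib.Helper4.K4Field

/-!
S3641 (SN17) piece N9a: transport of `PGL₂` and `PSL₂` along a field of 17 elements.
-/

namespace Cfsg.Agent.Lib.Helper4.SN17

/-- the isomorphism of general linear groups from an isomorphism of rings -/
noncomputable def glEquivN (n : ℕ) {R S : Type*} [CommRing R] [CommRing S] (e : R ≃+* S) :
    GL (Fin n) R ≃* GL (Fin n) S :=
  Units.mapEquiv (RingEquiv.mapMatrix e).toMulEquiv

theorem pgl_transport {F : Type*} [Field F] [Fintype F] (hF : Fintype.card F = 17) :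
    Nonempty (Matrix.ProjGenLinGroup (Fin 2) (ZMod 17) ≃*
      (GL (Fin 2) F ⧸ Subgroup.center (GL (Fin 2) F))) := by
  have e0 : ZMod 17 ≃+* F := ZMod.ringEquivOfPrime F (by norm_num) hF
  exact ⟨QuotientGroup.congr (Subgroup.center (GL (Fin 2) (ZMod 17)))
    (Subgroup.center (GL (Fin 2) F)) (glEquivN 2 e0)
    (Cfsg.Agent.Lib.Helper4.K4Field.map_center_equiv (glEquivN 2 e0))⟩

theorem psl_transport {F : Type*} [Field F] [Fintype F] (hF : Fintype.card F = 17) :
    Nonempty (Matrix.ProjectiveSpecialLinearGroup (Fin 2) (ZMod 17) ≃*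
      Matrix.ProjectiveSpecialLinearGroup (Fin 2) F) := by
  have e0 : ZMod 17 ≃+* F := ZMod.ringEquivOfPrime F (by norm_num) hF
  exact ⟨Cfsg.Agent.Lib.Helper4.K4Field.pslEquivN 2 e0⟩

end Cfsg.Agent.Lib.Helper4.SN17
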