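import Mathlib

/-!
S3996 (SOT3) piece F: with a unique involution, the elements of order `2 d` correspond to the
elements of order `d`, for `d` odd.
-/

namespace Cfsg.Agent.Lib.Helper4.SOT3

/-- (F) a unique involution: elements of order `2 d` correspond to elements of order `d`,
`d` odd. -/
theorem double_of_unique_involution {G : Type*} [Group G] [Finite G]
    (h : Nat.card {g : G // orderOf g = 2} = 1) (d : ℕ) (hd : Odd d) :
    Nat.card {g : G // orderOf g = 2 * d} = Nat.card {g : G // orderOf g = d} := by
  classical
  obtain ⟨hsub, hne⟩ := Nat.card_eq_one_iff_unique.1 h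
  obtain ⟨⟨z, hz⟩⟩ := hne
  have huniq : ∀ g : G, orderOf g = 2 → g = z := by
    intro g hg
    have := hsub.elim ⟨g, hg⟩ ⟨z, hz⟩
    exact congrArg Subtype.val this
  -- z is central
  have hcent : ∀ g : G, Commute z g := by
    intro g
    have h1 : orderOf (g * z * g⁻¹) = 2 := by
      have : g * z * g⁻¹ = MulAut.conj g z := by simp [MulAut.conj_apply]
      rw [this, MulEquiv.orderOf_eq]
      exact hz
    have h2 := huniq _ h1
    have : g * z = z * g := by
      have := congrArg (· * g) h2
      simpa using this
    exact this.symm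
  have hzz : z * z = 1 := by
    have := pow_orderOf_eq_one z
    rw [hz, pow_two] at this
    exact this
  have hdpos : 0 < d := hd.pos
  -- the forward map
  have hfwd : ∀ g : G, orderOf g = d → orderOf (z * g) = 2 * d := by
    intro g hg
    have hcop : Nat.Coprime (orderOf z) (orderOf g) := by
      rw [hz, hg]
      exact (Nat.coprime_two_left).2 hd
    rw [(hcent g).orderOf_mul_eq_mul_orderOf_of_coprime hcop, hz, hg]
  -- the backward map
  have hbwd : ∀ g : G, orderOf g = 2 * d → orderOf (z * g) = d := by
    intro g hg
    -- g ^ d has order two, so it is z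
    have hgd : g ^ d = z := by
      apply huniq
      rw [orderOf_pow_of_dvd hdpos.ne' (by rw [hg]; exact Dvd.intro_left 2 rfl), hg]
      exact Nat.mul_div_cancel _ hdpos
    have hzd : z ^ d = z := by
      obtain ⟨t, rfl⟩ := hd
      rw [pow_succ, pow_mul, pow_two, hzz, one_pow, one_mul]
    have hpow : (z * g) ^ d = 1 := by
      rw [(hcent g).mul_pow, hzd, hgd, hzz]
    have hk : orderOf (z * g) ∣ d := orderOf_dvd_of_pow_eq_one hpow
    have hkodd : Odd (orderOf (z * g)) := by
      obtain ⟨t, ht⟩ := hk
      rw [ht] at hd
      exact (Nat.odd_mul.1 hd).1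
    have hcop : Nat.Coprime (orderOf z) (orderOf (z * g)) := by
      rw [hz]
      exact (Nat.coprime_two_left).2 hkodd
    have hcomm : Commute z (z * g) := (Commute.refl z).mul_right (hcent g)
    have := hcomm.orderOf_mul_eq_mul_orderOf_of_coprime hcop
    rw [← mul_assoc, hzz, one_mul, hg, hz] at this
    omega
  refine Nat.card_congr
    { toFun := fun g => ⟨z * g.1, hbwd g.1 g.2⟩
      invFun := fun g => ⟨z * g.1, hfwd g.1 g.2⟩
      left_inv := ?_
      right_inv := ?_ }
  · intro g
    apply Subtype.ext
    show z * (z * g.1) = g.1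
    rw [← mul_assoc, hzz, one_mul]
  · intro g
    apply Subtype.ext
    show z * (z * g.1) = g.1
    rw [← mul_assoc, hzz, one_mul]

end Cfsg.Agent.Lib.Helper4.SOT3
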