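import Mathlib

/-!
S3996 (SOT3) piece G: a group of order `2 * odd` has a normal subgroup of index two that
contains every element of odd order.
-/

namespace Cfsg.Agent.Lib.Helper4.SOT3

/-- (G) order `2 * odd`: a normal subgroup of index two containing all
elements of odd order. -/
theorem exists_index_two {G : Type*} [Group G] [Finite G] (h2 : 2 ∣ Nat.card G)
    (h4 : ¬ 4 ∣ Nat.card G) :
    ∃ K : Subgroup G, K.Normal ∧ K.index = 2 ∧ Odd (Nat.card K) ∧
      ∀ g : G, Odd (orderOf g) → g ∈ K := by
  classical
  haveI : Fact (Nat.Prime 2) := ⟨Nat.prime_two⟩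
  have hpos : 0 < Nat.card G := Nat.card_pos
  let P : Sylow 2 G := Classical.arbitrary (Sylow 2 G)
  -- the order of `P` is two
  have hPcard : Nat.card (P : Subgroup G) = 2 := by
    rw [Sylow.card_eq_multiplicity]
    have hfac : (Nat.card G).factorization 2 = 1 := by
      have h1 : 1 ≤ (Nat.card G).factorization 2 :=
        (Nat.Prime.dvd_iff_one_le_factorization Nat.prime_two hpos.ne').1 h2
      have h2' : ¬ 2 ≤ (Nat.card G).factorization 2 := by
        intro h
        apply h4
        have : 2 ^ 2 ∣ Nat.card G :=
          (Nat.Prime.pow_dvd_iff_le_factorization Nat.prime_two hpos.ne').2 h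
        simpa using this
      omega
    rw [hfac]; norm_num
  -- the normalizer of `P` centralizes `P`
  have hP : Subgroup.normalizer (P : Set G) ≤ Subgroup.centralizer (P : Set G) := by
    intro g hg
    rw [Subgroup.mem_centralizer_iff]
    intro x hx
    -- x ∈ P, g x g⁻¹ ∈ P
    have hx' : x ∈ (P : Subgroup G) := hx
    by_cases hx1 : x = 1
    · subst hx1; simp
    have hgx : g * x * g⁻¹ ∈ (P : Subgroup G) := by
      have := (Subgroup.mem_normalizer_iff.1 hg x).1 hx'
      exact this
    have hgx1 : g * x * g⁻¹ ≠ 1 := by
      intro h
      apply hx1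
      have : g * x = g := by
        have := congrArg (· * g) h
        simpa using this
      simpa using this
    -- in a group of order two, two nonidentity elements agree
    have h2el : ∀ a b : (P : Subgroup G), a ≠ 1 → b ≠ 1 → a = b := by
      intro a b ha hb
      haveI : Fintype (P : Subgroup G) := Fintype.ofFinite _
      have hc : Fintype.card (P : Subgroup G) = 2 := by
        rw [← Nat.card_eq_fintype_card]; exact hPcard
      by_contra hab
      have h3 : ({1, a, b} : Finset (P : Subgroup G)).card = 3 := by
        rw [Finset.card_insert_of_notMem, Finset.card_insert_of_notMem, Finset.card_singleton]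
        · simpa using hab
        · simp only [Finset.mem_insert, Finset.mem_singleton, not_or]
          exact ⟨fun h => ha h.symm, fun h => hb h.symm⟩
      have := Finset.card_le_univ ({1, a, b} : Finset (P : Subgroup G))
      omega
    have := h2el ⟨g * x * g⁻¹, hgx⟩ ⟨x, hx'⟩
      (fun h => hgx1 (by simpa using congrArg Subtype.val h))
      (fun h => hx1 (by simpa using congrArg Subtype.val h))
    have h' : g * x * g⁻¹ = x := congrArg Subtype.val this
    have : g * x = x * g := by
      have := congrArg (· * g) h'
      simpa using this
    exact this.symm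
  have hcompl := MonoidHom.ker_transferSylow_isComplement' P hP
  set K : Subgroup G := (MonoidHom.transferSylow P hP).ker with hK
  have hidx : K.index = 2 := by
    rw [hcompl.symm.index_eq_card, hPcard]
  have hcard : Nat.card K * 2 = Nat.card G := by
    have := hcompl.card_mul_card
    rw [hPcard] at this
    exact this
  haveI hKn : K.Normal := MonoidHom.normal_ker _
  refine ⟨K, hKn, hidx, ?_, ?_⟩
  · rcases Nat.even_or_odd (Nat.card K) with he | ho
    · exfalso
      apply h4
      obtain ⟨t, ht⟩ := he
      exact ⟨t, by omega⟩
    · exact ho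
  · intro g hg
    have hq : Nat.card (G ⧸ K) = 2 := by
      rw [← Subgroup.index_eq_card]; exact hidx
    have h1 : orderOf (QuotientGroup.mk' K g) ∣ orderOf g := orderOf_map_dvd _ g
    have h2 : orderOf (QuotientGroup.mk' K g) ∣ 2 := by
      rw [← hq]; exact orderOf_dvd_natCard _
    have h3 : orderOf (QuotientGroup.mk' K g) = 1 := by
      rcases (Nat.dvd_prime Nat.prime_two).1 h2 with h | h
      · exact h
      · exfalso
        rw [h] at h1
        obtain ⟨t, ht⟩ := hg
        omega
    have h4' : QuotientGroup.mk' K g = 1 := orderOf_eq_one_iff.1 h3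
    exact (QuotientGroup.eq_one_iff g).1 h4'

end Cfsg.Agent.Lib.Helper4.SOT3
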