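import Mathlib
import Cfsg.Agent.Lib.Helper4.SPWSL2h
import Cfsg.Agent.Lib.Helper4.SL2IndInner

/-!
Farm SPW (statement S2524), unit SL2, part (i): the norm of the restriction of a Weil character
to the Borel subgroup, in terms of its values on the split torus.
-/

set_option autoImplicit false
set_option linter.unusedSectionVars false

namespace Cfsg.Agent.Lib.Helper4.SPW

open Cfsg.Agent.Lib.Helper4 Cfsg.Agent.Lib.Helper6 Matrix Cfsg.Agent.S2308
open scoped ComplexConjugate MatrixGroups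

variable {F : Type*} [Field F] [Fintype F] [DecidableEq F]

theorem ringChar_ne_two_of_odd (hodd : Odd (Fintype.card F)) : ringChar F ≠ 2 := by
  intro h2
  have := FiniteField.even_card_of_char_two h2
  rw [Nat.odd_iff] at hodd
  omega

theorem units_neg_one_ne_one (hodd : Odd (Fintype.card F)) : (-1 : Fˣ) ≠ 1 := by
  intro h
  have h2 : ((-1 : Fˣ) : F) = ((1 : Fˣ) : F) := by rw [h]
  rw [Units.val_neg, Units.val_one] at h2
  exact Ring.neg_one_ne_one_of_char_ne_two (ringChar_ne_two_of_odd hodd) h2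

/-- the sum of `|σ|²` over the coset `-U` -/
theorem IsWeil.sum_neg_unip {ψ : AddChar F ℂ} (hψ : ψ ≠ 1) {m0 : ℕ} (hm0 : m0 = 0 ∨ m0 = 1)
    {σ : Matrix.SpecialLinearGroup (Fin 2) F → ℂ} (h : IsWeil ψ m0 σ) :
    ∑ x : F, σ (mkSL (-1 : Fˣ) x) * conj (σ (mkSL (-1 : Fˣ) x)) = (Fintype.card F : ℂ) * σ 1 := by
  obtain ⟨c, hcc, hc⟩ := apply_center_mul h.1 (mkSL_neg_one_mem_center (F := F))
  rw [← h.sum_unip hψ hm0]
  rw [← Equiv.sum_comp (Equiv.neg F) (fun x => σ (upperU x) * conj (σ (upperU x)))]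
  apply Finset.sum_congr rfl
  intro x _
  rw [mkSL_neg_one_eq, hc, map_mul, Equiv.neg_apply]
  linear_combination σ (upperU (-x)) * conj (σ (upperU (-x))) * hcc

/-- the norm of the restriction to the Borel subgroup of a Weil character, in terms of its
absolute value `v` on the regular elements of the split torus -/
theorem IsWeil.borel_norm (hodd : Odd (Fintype.card F)) {ψ : AddChar F ℂ} (hψ : ψ ≠ 1) {m0 : ℕ}
    (hm0 : m0 = 0 ∨ m0 = 1) {σ : Matrix.SpecialLinearGroup (Fin 2) F → ℂ} (h : IsWeil ψ m0 σ)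
    (v : ℂ) (hdiag : ∀ t : Fˣ, (t : F) ^ 2 ≠ 1 → σ (mkSL t 0) * conj (σ (mkSL t 0)) = v)
    [Fintype (borelSL2 F)] :
    Cfsg.classInner (fun b : borelSL2 F => σ b) (fun b : borelSL2 F => σ b) *
      ((Fintype.card F : ℂ) - 1) = 2 * σ 1 + ((Fintype.card F : ℂ) - 3) * v := by
  have hq1 : 1 ≤ Fintype.card F := Fintype.card_pos
  have hq : (Fintype.card F : ℂ) ≠ 0 := card_ne_zero_C
  have hcf := IsIrrCharacter.isClassFunction h.1
  unfold Cfsg.classInner
  rw [← mkBEquiv.sum_comp, Fintype.sum_prod_type]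
  simp only [mkBEquiv_apply, mkB_coe]
  have hne := units_neg_one_ne_one hodd
  have hmem : (-1 : Fˣ) ∈ (Finset.univ : Finset Fˣ).erase 1 :=
    Finset.mem_erase.mpr ⟨hne, Finset.mem_univ _⟩
  rw [← Finset.add_sum_erase Finset.univ _ (Finset.mem_univ (1 : Fˣ)),
    ← Finset.add_sum_erase _ _ hmem]
  have h1 : ∑ x : F, σ (mkSL (1 : Fˣ) x) * conj (σ (mkSL (1 : Fˣ) x)) =
      (Fintype.card F : ℂ) * σ 1 := by
    simp only [mkSL_one_eq]
    exact h.sum_unip hψ hm0
  have h3 : ∀ t ∈ ((Finset.univ : Finset Fˣ).erase 1).erase (-1),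
      ∑ x : F, σ (mkSL t x) * conj (σ (mkSL t x)) = (Fintype.card F : ℂ) * v := by
    intro t ht
    have ht1 : t ≠ -1 := Finset.ne_of_mem_erase ht
    have ht2 : t ≠ 1 := Finset.ne_of_mem_erase (Finset.mem_of_mem_erase ht)
    have hsq := units_sq_ne_one ht2 ht1
    have : ∀ x : F, σ (mkSL t x) * conj (σ (mkSL t x)) = v := by
      intro x
      rw [classFun_mkSL_of_sq_ne hcf t hsq x, hdiag t hsq]
    rw [Finset.sum_congr rfl (fun x _ => this x), Finset.sum_const, Finset.card_univ,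
      nsmul_eq_mul]
  rw [h1, h.sum_neg_unip hψ hm0, Finset.sum_congr rfl h3, Finset.sum_const,
    Finset.card_erase_of_mem hmem, Finset.card_erase_of_mem (Finset.mem_univ _), Finset.card_univ,
    Fintype.card_units, card_borelSL2, nsmul_eq_mul]
  have h3q : 3 ≤ Fintype.card F := by
    obtain ⟨k, hk⟩ := hodd
    have : 1 < Fintype.card F := Fintype.one_lt_card
    omega
  have hc1 : ((Fintype.card F - 1 - 1 - 1 : ℕ) : ℂ) = (Fintype.card F : ℂ) - 3 := by
    have : Fintype.card F - 1 - 1 - 1 = Fintype.card F - 3 := by omega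
    rw [this, Nat.cast_sub h3q]
    norm_num
  have hq1' : (Fintype.card F : ℂ) - 1 ≠ 0 := by
    intro h0
    have : (Fintype.card F : ℂ) = 1 := by linear_combination h0
    have : Fintype.card F = 1 := by exact_mod_cast this
    omega
  rw [hc1, Nat.cast_mul, Nat.cast_sub hq1, Nat.cast_one]
  field_simp
  ring

end Cfsg.Agent.Lib.Helper4.SPW
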