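import Mathlib
import Cfsg.Agent.Lib.Helper6.WlC
import Cfsg.Agent.Lib.Helper6.WlE
import Cfsg.Agent.Lib.Helper4.SL2Borel

/-!
Farm SPW (statement S2524), unit G0: the isomorphism `SL₂(F) ≃* Sp₂(F)`
(`Sp₂(F) = Matrix.symplecticGroup (Fin 1) F`), compatible with the upper unitriangular subgroups
and with the central elements `-1`.
-/

set_option autoImplicit false

namespace Cfsg.Agent.Lib.Helper4.SPW

open Matrix Cfsg.Agent.Lib.Helper6.Wl Cfsg.Agent.Lib.Helper4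

variable {F : Type*} [Field F]

/-- the `1 × 1` symmetric matrix `(x)` -/
def sym1 (x : F) : symAdd F 1 :=
  ⟨x • (1 : Matrix (Fin 1) (Fin 1) F), by rw [mem_symAdd]; simp⟩

theorem sym1_coe (x : F) : (sym1 x : Matrix (Fin 1) (Fin 1) F) = x • 1 := rfl

theorem sym1_add (x y : F) : sym1 (x + y) = sym1 x + sym1 y := by
  apply Subtype.ext
  rw [AddSubgroup.coe_add, sym1_coe, sym1_coe, sym1_coe, add_smul]

theorem sym1_zero : sym1 (0 : F) = 0 := by
  apply Subtype.ext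
  rw [sym1_coe, zero_smul]
  rfl

theorem sym1_apply (x : F) : (sym1 x : Matrix (Fin 1) (Fin 1) F) 0 0 = x := by
  rw [sym1_coe]
  simp

theorem sym1_injective : Function.Injective (sym1 : F → symAdd F 1) := by
  intro x y h
  rw [← sym1_apply x, ← sym1_apply y, h]

theorem sym1_surjective (S : symAdd F 1) : ∃ x : F, S = sym1 x := by
  refine ⟨(S : Matrix (Fin 1) (Fin 1) F) 0 0, ?_⟩
  apply Subtype.ext
  ext i j
  rw [Subsingleton.elim i 0, Subsingleton.elim j 0, sym1_apply]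

/-- `F ≃ symAdd F 1` -/
noncomputable def sym1Equiv : F ≃ symAdd F 1 :=
  Equiv.ofBijective sym1 ⟨sym1_injective, fun S => by
    obtain ⟨x, hx⟩ := sym1_surjective S
    exact ⟨x, hx.symm⟩⟩

theorem sym1Equiv_apply (x : F) : sym1Equiv x = sym1 x := rfl

theorem trace_sym1_mul (a x : F) :
    Matrix.trace ((sym1 a : Matrix (Fin 1) (Fin 1) F) * (sym1 x : Matrix (Fin 1) (Fin 1) F)) =
      a * x := by
  rw [sym1_coe, sym1_coe]
  simp
  ring

/-- the symplectic matrix of a `2 × 2` matrix -/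
def toSpMat (g : Matrix (Fin 2) (Fin 2) F) : Matrix (Fin 1 ⊕ Fin 1) (Fin 1 ⊕ Fin 1) F :=
  fromBlocks (g 0 0 • (1 : Matrix (Fin 1) (Fin 1) F)) (g 0 1 • (1 : Matrix (Fin 1) (Fin 1) F))
    (g 1 0 • (1 : Matrix (Fin 1) (Fin 1) F)) (g 1 1 • (1 : Matrix (Fin 1) (Fin 1) F))

/-- the `2 × 2` matrix of a matrix indexed by `Fin 1 ⊕ Fin 1` -/
def ofSpMat (A : Matrix (Fin 1 ⊕ Fin 1) (Fin 1 ⊕ Fin 1) F) : Matrix (Fin 2) (Fin 2) F :=
  !![A (Sum.inl 0) (Sum.inl 0), A (Sum.inl 0) (Sum.inr 0);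
     A (Sum.inr 0) (Sum.inl 0), A (Sum.inr 0) (Sum.inr 0)]

theorem ofSpMat_toSpMat (g : Matrix (Fin 2) (Fin 2) F) : ofSpMat (toSpMat g) = g := by
  ext i j
  fin_cases i <;> fin_cases j <;> simp [toSpMat, ofSpMat]

theorem toSpMat_ofSpMat (A : Matrix (Fin 1 ⊕ Fin 1) (Fin 1 ⊕ Fin 1) F) :
    toSpMat (ofSpMat A) = A := by
  ext i j
  rcases i with i | i <;> rcases j with j | j <;>
  · rw [Subsingleton.elim i 0, Subsingleton.elim j 0]
    simp [toSpMat, ofSpMat]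

theorem toSpMat_mul (g h : Matrix (Fin 2) (Fin 2) F) :
    toSpMat (g * h) = toSpMat g * toSpMat h := by
  unfold toSpMat
  rw [fromBlocks_multiply]
  simp only [Matrix.mul_apply, Fin.sum_univ_two, smul_mul_assoc, mul_smul_comm, Matrix.one_mul,
    smul_smul, ← add_smul]
  congr 1 <;> congr 1 <;> ring

theorem toSpMat_one : toSpMat (1 : Matrix (Fin 2) (Fin 2) F) = 1 := by
  unfold toSpMat
  simp

theorem toSpMat_mem_iff (g : Matrix (Fin 2) (Fin 2) F) :
    toSpMat g ∈ symplecticGroup (Fin 1) F ↔ g.det = 1 := by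
  unfold toSpMat
  rw [SymplecticGroup.fromBlocks_mem_iff, Matrix.det_fin_two]
  simp only [transpose_smul, transpose_one, smul_mul_assoc, mul_smul_comm, Matrix.one_mul,
    smul_smul, ← sub_smul]
  constructor
  · rintro ⟨-, -, h⟩
    have := congrFun (congrFun h 0) 0
    simp only [Matrix.smul_apply, Matrix.one_apply_eq, smul_eq_mul, mul_one] at this
    linear_combination this
  · intro h
    refine ⟨by rw [mul_comm], by rw [mul_comm], ?_⟩
    have : g 1 1 * g 0 0 - g 0 1 * g 1 0 = 1 := by linear_combination h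
    rw [this, one_smul]

/-- the isomorphism `SL₂(F) ≃* Sp₂(F)` -/
def sl2Sp : Matrix.SpecialLinearGroup (Fin 2) F ≃* symplecticGroup (Fin 1) F where
  toFun g := ⟨toSpMat (g : Matrix (Fin 2) (Fin 2) F), (toSpMat_mem_iff _).mpr g.2⟩
  invFun A := ⟨ofSpMat (A : Matrix (Fin 1 ⊕ Fin 1) (Fin 1 ⊕ Fin 1) F), by
    rw [← toSpMat_mem_iff, toSpMat_ofSpMat]; exact A.2⟩
  left_inv g := Subtype.ext (ofSpMat_toSpMat _)
  right_inv A := Subtype.ext (toSpMat_ofSpMat _)
  map_mul' g h := Subtype.ext (toSpMat_mul _ _)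

theorem sl2Sp_coe (g : Matrix.SpecialLinearGroup (Fin 2) F) :
    ((sl2Sp g : symplecticGroup (Fin 1) F) : Matrix (Fin 1 ⊕ Fin 1) (Fin 1 ⊕ Fin 1) F) =
      toSpMat (g : Matrix (Fin 2) (Fin 2) F) := rfl

theorem sl2Sp_upperU (x : F) : sl2Sp (upperU x) = uQ (sym1 x) := by
  apply Subtype.ext
  rw [sl2Sp_coe, uQ_coe, sym1_coe, upperU_coe]
  unfold toSpMat
  simp

theorem sl2Sp_neg_one :
    sl2Sp (-1 : Matrix.SpecialLinearGroup (Fin 2) F) = (negSp : symplecticGroup (Fin 1) F) := by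
  apply Subtype.ext
  rw [sl2Sp_coe]
  unfold toSpMat negSp
  simp only [Matrix.SpecialLinearGroup.coe_neg, Matrix.SpecialLinearGroup.coe_one]
  rw [← fromBlocks_one, fromBlocks_neg]
  simp

end Cfsg.Agent.Lib.Helper4.SPW
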