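import Mathlib
import Cfsg.Agent.Lib.Helper4.SPWSl2Sp
import Cfsg.Agent.Lib.Helper4.SPWSL2a
import Cfsg.Agent.Lib.Helper6.Auto
import Cfsg.Agent.Lib.Helper6.RepBasic

/-!
Farm SPW (statement S2524), unit SL2, part (k): the characters of `SL₂(F)` obtained from
representations of `Sp₂(F)` through `sl2Sp`; their `U`-multiplicities are the traces of the
projectors `eT`.
-/

set_option autoImplicit false
set_option linter.unusedSectionVars false

namespace Cfsg.Agent.Lib.Helper4.SPW

open Matrix Cfsg.Agent.Lib.Helper6 Cfsg.Agent.Lib.Helper6.Wl Cfsg.Agent.Lib.Helper4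

variable {F : Type*} [Field F] [Fintype F] [DecidableEq F]
variable {V : Type*} [AddCommGroup V] [Module ℂ V] [FiniteDimensional ℂ V]

/-- the character of `SL₂(F)` of a representation of `Sp₂(F)` -/
noncomputable def pullChar (ρ : Representation ℂ (symplecticGroup (Fin 1) F) V) :
    Matrix.SpecialLinearGroup (Fin 2) F → ℂ :=
  fun g => ρ.character (sl2Sp g)

theorem pullChar_apply (ρ : Representation ℂ (symplecticGroup (Fin 1) F) V)
    (g : Matrix.SpecialLinearGroup (Fin 2) F) :
    pullChar ρ g = LinearMap.trace ℂ V (ρ (sl2Sp g)) := rfl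

theorem pullChar_one (ρ : Representation ℂ (symplecticGroup (Fin 1) F) V) :
    pullChar ρ 1 = Module.finrank ℂ V := by
  rw [pullChar_apply, map_one, map_one]
  exact LinearMap.trace_one ℂ V

theorem isIrr_pullChar {k : ℕ} (ρ : Representation ℂ (symplecticGroup (Fin 1) F) (Fin k → ℂ))
    (hρ : ρ.IsIrreducible) :
    Cfsg.IsIrrCharacter (Matrix.SpecialLinearGroup (Fin 2) F) (pullChar ρ) := by
  have h : Cfsg.IsIrrCharacter (symplecticGroup (Fin 1) F) ρ.character := ⟨k, ρ, hρ, rfl⟩
  exact IsIrrCharacter.comp_mulEquiv sl2Sp h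

/-- the `U`-multiplicities are the traces of the projectors `eT` -/
theorem mU_pullChar (ρ : Representation ℂ (symplecticGroup (Fin 1) F) V) (ψ : AddChar F ℂ)
    (a : F) : mU ψ (pullChar ρ) a = LinearMap.trace ℂ V (eT ρ ψ (sym1 a)) := by
  unfold mU eT
  rw [map_smul, map_sum, smul_eq_mul]
  congr 1
  · rw [Fintype.card_congr (sym1Equiv (F := F))]
  · rw [← Equiv.sum_comp (sym1Equiv (F := F))]
    apply Finset.sum_congr rfl
    intro x _
    rw [map_smul, smul_eq_mul, sym1Equiv_apply, trace_sym1_mul, pullChar_apply, sl2Sp_upperU]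

/-- the effect of the central element -/
theorem pullChar_neg (ρ : Representation ℂ (symplecticGroup (Fin 1) F) V) (ε : ℂ)
    (h : ρ (negSp : symplecticGroup (Fin 1) F) = ε • 1)
    (g : Matrix.SpecialLinearGroup (Fin 2) F) : pullChar ρ (-g) = ε * pullChar ρ g := by
  rw [pullChar_apply, pullChar_apply, ← neg_one_mul g, map_mul, sl2Sp_neg_one, map_mul, h,
    smul_mul_assoc, one_mul, map_smul, smul_eq_mul]

/-- the rank one condition for `1 × 1` matrices -/
theorem sym1_eq_smul_vecMulVec_iff (a : F) :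
    (∃ x : Fin 1 → F, (sym1 a : Matrix (Fin 1) (Fin 1) F) = (1 : F) • vecMulVec x x) ↔
      IsSquare a := by
  constructor
  · rintro ⟨x, hx⟩
    refine ⟨x 0, ?_⟩
    have := congrFun (congrFun hx 0) 0
    rw [sym1_apply] at this
    simpa [vecMulVec_apply] using this
  · rintro ⟨r, hr⟩
    refine ⟨fun _ => r, ?_⟩
    ext i j
    rw [Subsingleton.elim i 0, Subsingleton.elim j 0, sym1_apply]
    simp [vecMulVec_apply, hr]

theorem sym1_eq_smul_vecMulVec_iff' (a : F) :
    (∃ x : Fin 1 → F, x ≠ 0 ∧ (sym1 a : Matrix (Fin 1) (Fin 1) F) = (1 : F) • vecMulVec x x) ↔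
      (a ≠ 0 ∧ IsSquare a) := by
  constructor
  · rintro ⟨x, hx0, hx⟩
    have := congrFun (congrFun hx 0) 0
    rw [sym1_apply] at this
    have h2 : a = x 0 * x 0 := by simpa [vecMulVec_apply] using this
    have hx00 : x 0 ≠ 0 := by
      intro h0
      apply hx0
      funext i
      rw [Subsingleton.elim i 0, h0]
      rfl
    exact ⟨by rw [h2]; exact mul_ne_zero hx00 hx00, x 0, h2⟩
  · rintro ⟨ha, r, hr⟩
    refine ⟨fun _ => r, ?_, ?_⟩
    · intro h0
      have : r = 0 := congrFun h0 0
      apply ha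
      rw [hr, this, mul_zero]
    · ext i j
      rw [Subsingleton.elim i 0, Subsingleton.elim j 0, sym1_apply]
      simp [vecMulVec_apply, hr]

theorem sym1_eq_zero_iff (a : F) : sym1 a = 0 ↔ a = 0 := by
  constructor
  · intro h
    rw [← sym1_apply a, h]
    rfl
  · rintro rfl
    exact sym1_zero

end Cfsg.Agent.Lib.Helper4.SPW
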