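import Mathlib
import Cfsg.Prelude.Def_Local

/-!
# Farm SRC (S3153): unit U0 (rank-one involution lemma).
-/

set_option autoImplicit false
set_option linter.unusedSimpArgs false

namespace Cfsg.Agent.Lib.Helper4.SRC

open Cfsg

/-- U0: in a group of 2-rank at most 1, an involution `a` and a commuting element `b` with
`b ^ 2 = 1`: `b = 1` or `b = a`. -/
theorem U0 {H : Type*} [Group H] (hr : Cfsg.PRankLE 2 1 H) {a b : H}
    (ha : a ^ 2 = 1) (hb : b ^ 2 = 1) (hab : a * b = b * a) (ha1 : a ≠ 1) : b = 1 ∨ b = a := by
  classical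
  by_contra hcon
  have hb1 : b ≠ 1 := fun h => hcon (Or.inl h)
  have hbne : b ≠ a := fun h => hcon (Or.inr h)
  have haa : a * a = 1 := by rw [← sq]; exact ha
  have hbb : b * b = 1 := by rw [← sq]; exact hb
  have hba : b * a = a * b := hab.symm
  have haax : ∀ x : H, a * (a * x) = x := fun x => by rw [← mul_assoc, haa, one_mul]
  have hbbx : ∀ x : H, b * (b * x) = x := fun x => by rw [← mul_assoc, hbb, one_mul]
  have hbax : ∀ x : H, b * (a * x) = a * (b * x) := fun x => by
    rw [← mul_assoc, hba, mul_assoc]
  have hainv : a⁻¹ = a := inv_eq_of_mul_eq_one_left haa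
  have hbinv : b⁻¹ = b := inv_eq_of_mul_eq_one_left hbb
  have hsub : ∀ x ∈ Subgroup.closure ({a, b} : Set H),
      x = 1 ∨ x = a ∨ x = b ∨ x = a * b := by
    intro x hx
    induction hx using Subgroup.closure_induction with
    | mem x hx =>
      simp only [Set.mem_insert_iff, Set.mem_singleton_iff] at hx
      rcases hx with rfl | rfl
      · exact Or.inr (Or.inl rfl)
      · exact Or.inr (Or.inr (Or.inl rfl))
    | one => exact Or.inl rfl
    | mul x y hx hy ihx ihy =>
      rcases ihx with rfl | rfl | rfl | rfl <;> rcases ihy with rfl | rfl | rfl | rfl <;>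
        simp [mul_assoc, haa, hbb, hba, haax, hbbx, hbax]
    | inv x hx ihx =>
      rcases ihx with rfl | rfl | rfl | rfl
      · simp
      · rw [hainv]; simp
      · rw [hbinv]; simp
      · rw [mul_inv_rev, hainv, hbinv, hba]; simp
  have hfinset : (↑(Subgroup.closure ({a, b} : Set H)) : Set H).Finite := by
    apply Set.Finite.subset (Set.toFinite ({1, a, b, a * b} : Set H))
    intro x hx
    have h1 := hsub x hx
    simpa using h1
  have hfin : Finite ↥(Subgroup.closure ({a, b} : Set H)) := hfinset.to_subtype
  have hcomm : ∀ x ∈ ({a, b} : Set H), ∀ y ∈ ({a, b} : Set H), x * y = y * x := by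
    intro x hx y hy
    simp only [Set.mem_insert_iff, Set.mem_singleton_iff] at hx hy
    rcases hx with rfl | rfl <;> rcases hy with rfl | rfl
    · rfl
    · exact hab
    · exact hab.symm
    · rfl
  have hA : IsMulCommutative ↥(Subgroup.closure ({a, b} : Set H)) :=
    Subgroup.isMulCommutative_closure hcomm
  have hexp : ∀ x ∈ Subgroup.closure ({a, b} : Set H), x ^ 2 = 1 := by
    intro x hx
    rcases hsub x hx with rfl | rfl | rfl | rfl
    · exact one_pow 2
    · exact ha
    · exact hb
    · rw [sq]
      simp [mul_assoc, haa, hbb, hba, haax, hbbx, hbax]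
  have hcard := hr (Subgroup.closure ({a, b} : Set H)) hA hexp
  have hfintype : Fintype ↥(Subgroup.closure ({a, b} : Set H)) := Fintype.ofFinite _
  have haA : a ∈ Subgroup.closure ({a, b} : Set H) := Subgroup.subset_closure (by simp)
  have hbA : b ∈ Subgroup.closure ({a, b} : Set H) := Subgroup.subset_closure (by simp)
  have h3 : 2 < Fintype.card ↥(Subgroup.closure ({a, b} : Set H)) := by
    rw [Fintype.two_lt_card_iff]
    refine ⟨1, ⟨a, haA⟩, ⟨b, hbA⟩, ?_, ?_, ?_⟩
    · intro h
      exact ha1 (congrArg Subtype.val h).symm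
    · intro h
      exact hb1 (congrArg Subtype.val h).symm
    · intro h
      exact hbne (congrArg Subtype.val h).symm
  rw [Nat.card_eq_fintype_card] at hcard
  omega

end Cfsg.Agent.Lib.Helper4.SRC
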