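import Mathlib
import Cfsg.Prelude.Def_CaseTheorems

/-!
# Farm SRC (S3153): interface-independent cores of units U2 and U3.

* `mem_sylow_of_normalizes_of_pow`, `mem_map_of_normalizes`: an element normalizing a Sylow
  `p`-subgroup whose `p`-th power lies in it lies in it.
* `eq_of_comm_invol`, `unique_involution`, `central_of_unique`, `U2_core`: in a group of `2`-rank at
  most one a `2`-subgroup has at most one involution, which is therefore centralized by everything
  normalizing the `2`-subgroup.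
-/

set_option autoImplicit false

namespace Cfsg.Agent.Lib.Helper4.SRCU23

/-- U3 core: `x` normalizes the Sylow `p`-subgroup `S` and `x ^ p ∈ S`; then `x ∈ S`. -/
theorem mem_sylow_of_normalizes_of_pow {H : Type*} [Group H] [Finite H] {p : ℕ} [Fact p.Prime]
    (S : Sylow p H) (x : H) (hn : ∀ s, s ∈ S → x * s * x⁻¹ ∈ S) (hx : x ^ p ∈ S) : x ∈ S := by
  have hZ : IsPGroup p ↥(Subgroup.zpowers x) := by
    obtain ⟨k, hk⟩ := S.isPGroup' ⟨x ^ p, hx⟩
    have hk' : (x ^ p) ^ p ^ k = 1 := by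
      have h1 := congrArg Subtype.val hk
      simpa using h1
    rintro ⟨g, hg⟩
    obtain ⟨n, rfl⟩ := Subgroup.mem_zpowers_iff.mp hg
    refine ⟨k + 1, ?_⟩
    apply Subtype.ext
    have h2 : x ^ p ^ (k + 1) = 1 := by
      rw [pow_succ', pow_mul]
      exact hk'
    have h3 : (x ^ n) ^ p ^ (k + 1) = 1 := by
      rw [← zpow_natCast, ← zpow_mul, mul_comm, zpow_mul, zpow_natCast, h2, one_zpow]
    simpa using h3
  have hxn : x ∈ Subgroup.normalizer ((S : Subgroup H) : Set H) :=
    Subgroup.mem_normalizer_fintype (fun s hs => hn s hs)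
  have hle : Subgroup.zpowers x ≤ Subgroup.normalizer ((S : Subgroup H) : Set H) := by
    rw [Subgroup.zpowers_le]
    exact hxn
  have hP : IsPGroup p ↥(Subgroup.zpowers x ⊔ (S : Subgroup H)) :=
    IsPGroup.to_sup_of_normal_right' hZ S.isPGroup' hle
  have heq := S.is_maximal' hP le_sup_right
  have h4 : x ∈ Subgroup.zpowers x ⊔ (S : Subgroup H) :=
    (le_sup_left : Subgroup.zpowers x ≤ _) (Subgroup.mem_zpowers x)
  rw [heq] at h4
  exact h4

/-- U3 core, for the image in `X` of a Sylow subgroup of a subgroup `N`. -/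
theorem mem_map_of_normalizes {X : Type*} [Group X] [Finite X] {p : ℕ} [Fact p.Prime]
    (N : Subgroup X) (S : Sylow p ↥N) (g : X) (hgN : g ∈ N)
    (hn : ∀ s ∈ (S : Subgroup ↥N).map N.subtype, g * s * g⁻¹ ∈ (S : Subgroup ↥N).map N.subtype)
    (hg : g ^ p ∈ (S : Subgroup ↥N).map N.subtype) : g ∈ (S : Subgroup ↥N).map N.subtype := by
  have hmem : ∀ y : ↥N, (y : X) ∈ (S : Subgroup ↥N).map N.subtype ↔ y ∈ S := by
    intro y
    constructor
    · rintro ⟨y', hy', hyy⟩
      have h1 : y' = y := Subtype.ext hyy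
      rw [← h1]
      exact hy'
    · intro hy
      exact ⟨y, hy, rfl⟩
  have key : (⟨g, hgN⟩ : ↥N) ∈ S := by
    apply mem_sylow_of_normalizes_of_pow S
    · intro s hs
      rw [← hmem]
      have h1 := hn (s : X) ((hmem s).mpr hs)
      simpa using h1
    · rw [← hmem]
      simpa using hg
  exact (hmem ⟨g, hgN⟩).mpr key

/-- two commuting involutions of a group of `2`-rank at most one coincide -/
theorem eq_of_comm_invol {K : Type*} [Group K] [Finite K] (hr : Cfsg.PRankLE 2 1 K) (z u : K)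
    (hz : z ^ 2 = 1) (hu : u ^ 2 = 1) (hzu : z * u = u * z) (hz1 : z ≠ 1) (hu1 : u ≠ 1) :
    u = z := by
  by_contra hne
  have hcomm : ∀ x ∈ ({z, u} : Set K), ∀ y ∈ ({z, u} : Set K), x * y = y * x := by
    intro x hx y hy
    simp only [Set.mem_insert_iff, Set.mem_singleton_iff] at hx hy
    rcases hx with rfl | rfl <;> rcases hy with rfl | rfl
    · rfl
    · exact hzu
    · exact hzu.symm
    · rfl
  have hA : IsMulCommutative ↥(Subgroup.closure ({z, u} : Set K)) :=
    Subgroup.isMulCommutative_closure hcomm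
  have hcA : ∀ x ∈ Subgroup.closure ({z, u} : Set K), ∀ y ∈ Subgroup.closure ({z, u} : Set K),
      x * y = y * x := by
    intro x hx y hy
    have h1 := hA.is_comm.comm (⟨x, hx⟩ : ↥(Subgroup.closure ({z, u} : Set K))) ⟨y, hy⟩
    exact congrArg Subtype.val h1
  have hexp : ∀ a ∈ Subgroup.closure ({z, u} : Set K), a ^ 2 = 1 := by
    intro a ha
    induction ha using Subgroup.closure_induction with
    | mem x hx =>
      simp only [Set.mem_insert_iff, Set.mem_singleton_iff] at hx
      rcases hx with rfl | rfl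
      · exact hz
      · exact hu
    | one => exact one_pow 2
    | mul x y hx hy ihx ihy =>
      have h1 : (x * y) ^ 2 = x ^ 2 * y ^ 2 := by
        rw [sq, sq, sq, mul_assoc, ← mul_assoc y x y, hcA y hy x hx, mul_assoc x y y, ← mul_assoc]
      rw [h1, ihx, ihy, one_mul]
    | inv x hx ihx =>
      rw [inv_pow, ihx, inv_one]
  have hcard := hr (Subgroup.closure ({z, u} : Set K)) hA hexp
  have : Fintype ↥(Subgroup.closure ({z, u} : Set K)) := Fintype.ofFinite _
  have hzA : z ∈ Subgroup.closure ({z, u} : Set K) :=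
    Subgroup.subset_closure (by simp)
  have huA : u ∈ Subgroup.closure ({z, u} : Set K) :=
    Subgroup.subset_closure (by simp)
  have h3 : 2 < Fintype.card ↥(Subgroup.closure ({z, u} : Set K)) := by
    rw [Fintype.two_lt_card_iff]
    refine ⟨1, ⟨z, hzA⟩, ⟨u, huA⟩, ?_, ?_, ?_⟩
    · intro h
      exact hz1 (congrArg Subtype.val h).symm
    · intro h
      exact hu1 (congrArg Subtype.val h).symm
    · intro h
      exact hne (congrArg Subtype.val h).symm
  rw [Nat.card_eq_fintype_card] at hcard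
  omega

/-- U2 core: a `2`-subgroup `Q` of a subgroup `K` of `2`-rank at most one has at most one
involution. -/
theorem unique_involution {X : Type*} [Group X] [Finite X] (K : Subgroup X)
    (hr : Cfsg.PRankLE 2 1 ↥K) (Q : Subgroup X) (hQK : Q ≤ K) (hQ2 : IsPGroup 2 ↥Q)
    (t u : X) (ht : t ∈ Q) (hu : u ∈ Q) (ht2 : orderOf t = 2) (hu2 : orderOf u = 2) : u = t := by
  have ht1 : t ≠ 1 := by
    rintro rfl
    rw [orderOf_one] at ht2
    omega
  have : Nontrivial ↥Q := ⟨⟨⟨t, ht⟩, 1, fun h => ht1 (congrArg Subtype.val h)⟩⟩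
  have : Nontrivial ↥(Subgroup.center ↥Q) := hQ2.center_nontrivial
  have hC2 : IsPGroup 2 ↥(Subgroup.center ↥Q) := hQ2.to_subgroup _
  obtain ⟨n, hn0, hn⟩ := (IsPGroup.nontrivial_iff_card hC2).mp inferInstance
  have hdvd : 2 ∣ Nat.card ↥(Subgroup.center ↥Q) := by
    rw [hn]
    exact dvd_pow_self 2 (by omega)
  obtain ⟨z, hz⟩ := exists_prime_orderOf_dvd_card' 2 hdvd
  -- `z` as an element of `X`
  have hzX : orderOf ((z : ↥Q) : X) = 2 := by
    rw [← hz, Subgroup.orderOf_coe, Subgroup.orderOf_coe]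
  have hzQ : ((z : ↥Q) : X) ∈ Q := (z : ↥Q).2
  have hzc : ∀ q ∈ Q, q * ((z : ↥Q) : X) = ((z : ↥Q) : X) * q := by
    intro q hq
    have h1 := Subgroup.mem_center_iff.mp z.2 ⟨q, hq⟩
    exact congrArg Subtype.val h1
  -- every involution of `Q` equals `z`
  have key : ∀ v ∈ Q, orderOf v = 2 → v = ((z : ↥Q) : X) := by
    intro v hv hv2
    have h1 := eq_of_comm_invol hr (⟨((z : ↥Q) : X), hQK hzQ⟩ : ↥K) ⟨v, hQK hv⟩ ?_ ?_ ?_ ?_ ?_
    · exact congrArg Subtype.val h1
    · apply Subtype.ext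
      have h2 := pow_orderOf_eq_one ((z : ↥Q) : X)
      rw [hzX] at h2
      simpa using h2
    · apply Subtype.ext
      have h2 := pow_orderOf_eq_one v
      rw [hv2] at h2
      simpa using h2
    · apply Subtype.ext
      simpa using (hzc v hv).symm
    · intro h
      have h2 : ((z : ↥Q) : X) = 1 := congrArg Subtype.val h
      rw [h2, orderOf_one] at hzX
      omega
    · intro h
      have h2 : v = 1 := congrArg Subtype.val h
      rw [h2, orderOf_one] at hv2
      omega
  rw [key u hu hu2, key t ht ht2]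

/-- the unique involution of `Q` is centralized by everything normalizing `Q` -/
theorem central_of_unique {X : Type*} [Group X] (T Q : Subgroup X)
    (hnorm : ∀ y ∈ T, ∀ q ∈ Q, y * q * y⁻¹ ∈ Q) (t : X) (ht : t ∈ Q) (ht2 : orderOf t = 2)
    (huniq : ∀ u ∈ Q, orderOf u = 2 → u = t) : ∀ y ∈ T, y * t = t * y := by
  intro y hy
  have h1 : orderOf (y * t * y⁻¹) = 2 := by
    have h2 := MulEquiv.orderOf_eq (MulAut.conj y) t
    rw [MulAut.conj_apply] at h2
    rw [h2, ht2]
  have h3 := huniq _ (hnorm y hy t ht) h1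
  calc y * t = y * t * y⁻¹ * y := by group
    _ = t * y := by rw [h3]

/-- U2 core, combined: `T` a `2`-subgroup normalizing `K`, `K` of `2`-rank at most one; an involution
`t ∈ T ⊓ K` is central in `T`. -/
theorem U2_core {X : Type*} [Group X] [Finite X] (K T : Subgroup X) (hr : Cfsg.PRankLE 2 1 ↥K)
    (hT2 : IsPGroup 2 ↥T) (hTK : ∀ y ∈ T, ∀ k ∈ K, y * k * y⁻¹ ∈ K) (t : X) (htT : t ∈ T)
    (htK : t ∈ K) (ht2 : orderOf t = 2) : ∀ y ∈ T, y * t = t * y := by
  have hQ2 : IsPGroup 2 ↥(T ⊓ K) := hT2.to_le inf_le_left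
  apply central_of_unique T (T ⊓ K) _ t ⟨htT, htK⟩ ht2
  · intro u hu hu2
    exact unique_involution K hr (T ⊓ K) inf_le_right hQ2 t u ⟨htT, htK⟩ hu ht2 hu2
  · intro y hy q hq
    exact ⟨T.mul_mem (T.mul_mem hy hq.1) (T.inv_mem hy), hTK y hy q hq.2⟩

end Cfsg.Agent.Lib.Helper4.SRCU23
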