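import Mathlib
import Cfsg.Prelude.Def_Local
import Cfsg.Agent.Lib.Helper4.SRCU23

/-!
# Farm SRC (S3153): unit U2.
-/

set_option autoImplicit false

namespace Cfsg.Agent.Lib.Helper4.SRC

open Cfsg

/-- U2: an involution `t` of `T ∩ C_X(P)` (T a 2-subgroup of `N_X(P)`, `C_X(P)` of 2-rank 1) is
central in `T`. -/
theorem U2 {X : Type*} [Group X] [Finite X] (P : Subgroup X)
    (hr : Cfsg.PRankLE 2 1 ↥(Subgroup.centralizer (P : Set X)))
    (T : Subgroup X) (hT : IsPGroup 2 ↥T) (hTN : T ≤ Subgroup.normalizer (P : Set X))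
    (t : X) (ht : orderOf t = 2) (htT : t ∈ T) (htP : t ∈ Subgroup.centralizer (P : Set X))
    (y : X) (hy : y ∈ T) : y * t = t * y := by
  apply Cfsg.Agent.Lib.Helper4.SRCU23.U2_core (Subgroup.centralizer (P : Set X)) T hr hT _ t htT
    htP ht y hy
  intro y hy k hk
  rw [Subgroup.mem_centralizer_iff]
  intro p hp
  have hyN := hTN hy
  have hp' : y⁻¹ * p * y ∈ P := by
    have h1 := (Subgroup.mem_normalizer_iff.mp hyN (y⁻¹ * p * y))
    apply h1.mpr
    have h2 : y * (y⁻¹ * p * y) * y⁻¹ = p := by group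
    rw [h2]
    exact hp
  have hk' := (Subgroup.mem_centralizer_iff.mp hk) (y⁻¹ * p * y) hp'
  calc p * (y * k * y⁻¹) = y * ((y⁻¹ * p * y) * k) * y⁻¹ := by group
    _ = y * (k * (y⁻¹ * p * y)) * y⁻¹ := by rw [hk']
    _ = y * k * y⁻¹ * p := by group

end Cfsg.Agent.Lib.Helper4.SRC
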