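import Mathlib
import Cfsg.Prelude.Def_Local
import Cfsg.Agent.Lib.Helper4.SRCU23

/-!
# Farm SRC (S3153): unit U3.
-/

set_option autoImplicit false

namespace Cfsg.Agent.Lib.Helper4.SRC

open Cfsg

/-- U3: an element of `N` normalizing the image of a Sylow 2-subgroup of `N`, with square in
it, lies in it. -/
theorem U3 {X : Type*} [Group X] [Finite X] (N : Subgroup X) (S : Sylow 2 ↥N) (g : X)
    (hgN : g ∈ N)
    (hn : ∀ s ∈ (S : Subgroup ↥N).map N.subtype, g * s * g⁻¹ ∈ (S : Subgroup ↥N).map N.subtype)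
    (hg : g ^ 2 ∈ (S : Subgroup ↥N).map N.subtype) : g ∈ (S : Subgroup ↥N).map N.subtype :=
  Cfsg.Agent.Lib.Helper4.SRCU23.mem_map_of_normalizes N S g hgN hn hg

end Cfsg.Agent.Lib.Helper4.SRC
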