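import Mathlib
import Cfsg.Prelude.Def_SporCoxeter

/-! The auxiliary presentation `SS44pp3` for stem extensions of `S44p` with kernel of order 3 (generated). -/

namespace Cfsg.Agent.Lib.Helper4

namespace SS44pp3

/-- the generators -/
inductive Gen
  | x
  | y
  | w
  | z1
  | z2
  | z3
  | z4
  deriving DecidableEq

abbrev x : FreeGroup Gen := FreeGroup.of Gen.x
abbrev y : FreeGroup Gen := FreeGroup.of Gen.y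
abbrev w : FreeGroup Gen := FreeGroup.of Gen.w
abbrev z1 : FreeGroup Gen := FreeGroup.of Gen.z1
abbrev z2 : FreeGroup Gen := FreeGroup.of Gen.z2
abbrev z3 : FreeGroup Gen := FreeGroup.of Gen.z3
abbrev z4 : FreeGroup Gen := FreeGroup.of Gen.z4

/-- no Coxeter graph -/
def edges : List (Gen × ℕ × Gen) := []

/-- the relators -/
def extra : List (FreeGroup Gen) := [
  x ^ 17,
  y ^ 2,
  w ^ 2,
  z1⁻¹ * y * w * y * w,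
  z2⁻¹ * ((x * w) ^ 5),
  z3⁻¹ * x * y * x⁻¹ * y * w * x⁻¹ * y * x * w * x * w * y * x * w * y * x * w,
  z4⁻¹ * x * x * y * x * w * x * w * x⁻¹ * x⁻¹ * y * x⁻¹ * w * x * w * x * y * x * y,
  z1 ^ 3,
  z2 ^ 3,
  z3 ^ 3,
  z4 ^ 3,
  z1 * x * z1⁻¹ * x⁻¹,
  z1 * y * z1⁻¹ * y⁻¹,
  z1 * w * z1⁻¹ * w⁻¹,
  z2 * x * z2⁻¹ * x⁻¹,
  z2 * y * z2⁻¹ * y⁻¹,
  z2 * w * z2⁻¹ * w⁻¹,
  z3 * x * z3⁻¹ * x⁻¹,
  z3 * y * z3⁻¹ * y⁻¹,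
  z3 * w * z3⁻¹ * w⁻¹,
  z4 * x * z4⁻¹ * x⁻¹,
  z4 * y * z4⁻¹ * y⁻¹,
  z4 * w * z4⁻¹ * w⁻¹,
  x ^ 17,
  y ^ 2,
  (x * x * x * y * x⁻¹ * y * x * y) ^ 2,
  ((x ^ 5) * y) ^ 3 ]

end SS44pp3

end Cfsg.Agent.Lib.Helper4
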