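import Mathlib
import Cfsg.Prelude.Def_SporCoxeter

/-! The auxiliary presentation `STitspp2` for stem extensions of `Titsp` with kernel of order 2 (generated). -/

namespace Cfsg.Agent.Lib.Helper4

namespace STitspp2

/-- the generators -/
inductive Gen
  | c
  | b
  | t
  | a
  | z
  | y
  | x
  | w
  | v
  deriving DecidableEq

abbrev c : FreeGroup Gen := FreeGroup.of Gen.c
abbrev b : FreeGroup Gen := FreeGroup.of Gen.b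
abbrev t : FreeGroup Gen := FreeGroup.of Gen.t
abbrev a : FreeGroup Gen := FreeGroup.of Gen.a
abbrev z : FreeGroup Gen := FreeGroup.of Gen.z
abbrev y : FreeGroup Gen := FreeGroup.of Gen.y
abbrev x : FreeGroup Gen := FreeGroup.of Gen.x
abbrev w : FreeGroup Gen := FreeGroup.of Gen.w
abbrev v : FreeGroup Gen := FreeGroup.of Gen.v

/-- no Coxeter graph -/
def edges : List (Gen × ℕ × Gen) := []

/-- the relators -/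
def extra : List (FreeGroup Gen) := [
  c ^ 2,
  b ^ 3,
  t ^ 13,
  a⁻¹ * t * b⁻¹,
  z⁻¹ * a * a,
  y⁻¹ * ((a⁻¹ * b⁻¹ * a * b) ^ 5),
  x⁻¹ * ((a⁻¹ * b⁻¹ * a⁻¹ * b⁻¹ * a * b * a * b) ^ 4),
  w⁻¹ * ((a * b * a * b * a * b * a * b * a * b⁻¹) ^ 6),
  v⁻¹ * c⁻¹ * ((a * b * a * b * a * b⁻¹ * a * b) ^ 4),
  z ^ 2,
  y ^ 2,
  x ^ 2,
  w ^ 2,
  v ^ 2,
  z * c * z⁻¹ * c⁻¹,
  z * b * z⁻¹ * b⁻¹,
  z * t * z⁻¹ * t⁻¹,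
  z * a * z⁻¹ * a⁻¹,
  y * c * y⁻¹ * c⁻¹,
  y * b * y⁻¹ * b⁻¹,
  y * t * y⁻¹ * t⁻¹,
  y * a * y⁻¹ * a⁻¹,
  x * c * x⁻¹ * c⁻¹,
  x * b * x⁻¹ * b⁻¹,
  x * t * x⁻¹ * t⁻¹,
  x * a * x⁻¹ * a⁻¹,
  w * c * w⁻¹ * c⁻¹,
  w * b * w⁻¹ * b⁻¹,
  w * t * w⁻¹ * t⁻¹,
  w * a * w⁻¹ * a⁻¹,
  v * c * v⁻¹ * c⁻¹,
  v * b * v⁻¹ * b⁻¹,
  v * t * v⁻¹ * t⁻¹,
  v * a * v⁻¹ * a⁻¹,
  c ^ 2,
  b ^ 3,
  (c * b) ^ 13,
  c * b * c * b * c * b * c * b⁻¹ * c * b * c * b * c * b⁻¹ * c * b * c * b * c * b * c * b⁻¹ * c * b⁻¹ * c * b⁻¹ * c * b * c * b * c * b * c * b⁻¹ * c * b⁻¹ * c * b⁻¹ ]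

end STitspp2

end Cfsg.Agent.Lib.Helper4
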