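import Cfsg.Agent.Lib.Helper4.TCD_STitspp2A_Acc

namespace Cfsg.Agent.Lib.Helper4.TCD.STitspp2A

open Cfsg.Agent.Lib.Helper4.TC

set_option maxRecDepth 100000
set_option Elab.async false

theorem c_rel_788 : allRange D.relOK 3662460 2588 = true := by decide +kernel
theorem c_rel_789 : allRange D.relOK 3665048 2576 = true := by decide +kernel
theorem c_rel_790 : allRange D.relOK 3667624 2587 = true := by decide +kernel
theorem c_rel_791 : allRange D.relOK 3670211 2530 = true := by decide +kernel
theorem c_rel_792 : allRange D.relOK 3672741 2530 = true := by decide +kernel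
theorem c_rel_793 : allRange D.relOK 3675271 2504 = true := by decide +kernel
theorem c_rel_794 : allRange D.relOK 3677775 2530 = true := by decide +kernel
theorem c_rel_795 : allRange D.relOK 3680305 2491 = true := by decide +kernel
theorem c_rel_796 : allRange D.relOK 3682796 2495 = true := by decide +kernel
theorem c_rel_797 : allRange D.relOK 3685291 2490 = true := by decide +kernel
theorem c_rel_798 : allRange D.relOK 3687781 2458 = true := by decide +kernel
theorem c_rel_799 : allRange D.relOK 3690239 2469 = true := by decide +kernel
theorem c_rel_800 : allRange D.relOK 3692708 2464 = true := by decide +kernel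
theorem c_rel_801 : allRange D.relOK 3695172 2421 = true := by decide +kernel
theorem c_rel_802 : allRange D.relOK 3697593 2439 = true := by decide +kernel
theorem c_rel_803 : allRange D.relOK 3700032 2401 = true := by decide +kernel
theorem c_rel_804 : allRange D.relOK 3702433 2430 = true := by decide +kernel
theorem c_rel_805 : allRange D.relOK 3704863 2385 = true := by decide +kernel
theorem c_rel_806 : allRange D.relOK 3707248 2396 = true := by decide +kernel
theorem c_rel_807 : allRange D.relOK 3709644 2395 = true := by decide +kernel
theorem c_rel_808 : allRange D.relOK 3712039 2396 = true := by decide +kernel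
theorem c_rel_809 : allRange D.relOK 3714435 2344 = true := by decide +kernel
theorem c_rel_810 : allRange D.relOK 3716779 2368 = true := by decide +kernel
theorem c_rel_811 : allRange D.relOK 3719147 2356 = true := by decide +kernel
theorem c_rel_812 : allRange D.relOK 3721503 2592 = true := by decide +kernel
theorem c_rel_813 : allRange D.relOK 3724095 4047 = true := by decide +kernel
theorem c_rel_814 : allRange D.relOK 3728142 4024 = true := by decide +kernel
theorem c_rel_815 : allRange D.relOK 3732166 4030 = true := by decide +kernel
theorem c_rel_816 : allRange D.relOK 3736196 4034 = true := by decide +kernel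
theorem c_rel_817 : allRange D.relOK 3740230 4051 = true := by decide +kernel
theorem c_rel_818 : allRange D.relOK 3744281 4003 = true := by decide +kernel
theorem c_rel_819 : allRange D.relOK 3748284 4035 = true := by decide +kernel
theorem c_rel_820 : allRange D.relOK 3752319 4028 = true := by decide +kernel
theorem c_rel_821 : allRange D.relOK 3756347 3997 = true := by decide +kernel
theorem c_rel_822 : allRange D.relOK 3760344 3997 = true := by decide +kernel
theorem c_rel_823 : allRange D.relOK 3764341 4009 = true := by decide +kernel
theorem c_rel_824 : allRange D.relOK 3768350 4035 = true := by decide +kernel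
theorem c_rel_825 : allRange D.relOK 3772385 1288 = true := by decide +kernel
theorem c_fin_0 : allGrid (T.finOK D) 0 666 18 = true := by decide +kernel
theorem c_fin_1 : allGrid (T.finOK D) 666 666 18 = true := by decide +kernel
theorem c_fin_2 : allGrid (T.finOK D) 1332 666 18 = true := by decide +kernel
theorem c_fin_3 : allGrid (T.finOK D) 1998 666 18 = true := by decide +kernel
theorem c_fin_4 : allGrid (T.finOK D) 2664 536 18 = true := by decide +kernel
theorem c_perm_0 : allGrid (T.permOK1 D) 0 1666 18 = true := by decide +kernel
theorem c_perm_1 : allGrid (T.permOK1 D) 1666 1534 18 = true := by decide +kernel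
theorem c_act0_0 : allRange (fun i => Nat.beq (actR0 i) i) 0 3200 = true := by decide +kernel
theorem c_act1_0 : allRange (fun i => Nat.beq (actR1 i) i) 0 3200 = true := by decide +kernel
theorem c_act2_0 : allRange (fun i => Nat.beq (actR2 i) i) 0 3200 = true := by decide +kernel
theorem c_act3_0 : allRange (fun i => Nat.beq (actR3 i) i) 0 3200 = true := by decide +kernel
theorem c_act4_0 : allRange (fun i => Nat.beq (actR4 i) i) 0 3200 = true := by decide +kernel
theorem c_act5_0 : allRange (fun i => Nat.beq (actR5 i) i) 0 2857 = true := by decide +kernel
theorem c_act5_1 : allRange (fun i => Nat.beq (actR5 i) i) 2857 343 = true := by decide +kernel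
theorem c_act6_0 : allRange (fun i => Nat.beq (actR6 i) i) 0 1818 = true := by decide +kernel
theorem c_act6_1 : allRange (fun i => Nat.beq (actR6 i) i) 1818 1382 = true := by decide +kernel
theorem c_act7_0 : allRange (fun i => Nat.beq (actR7 i) i) 0 983 = true := by decide +kernel
theorem c_act7_1 : allRange (fun i => Nat.beq (actR7 i) i) 983 983 = true := by decide +kernel
theorem c_act7_2 : allRange (fun i => Nat.beq (actR7 i) i) 1966 983 = true := by decide +kernel
theorem c_act7_3 : allRange (fun i => Nat.beq (actR7 i) i) 2949 251 = true := by decide +kernel
theorem c_act8_0 : allRange (fun i => Nat.beq (actR8 i) i) 0 1764 = true := by decide +kernel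
theorem c_act8_1 : allRange (fun i => Nat.beq (actR8 i) i) 1764 1436 = true := by decide +kernel
theorem c_act9_0 : allRange (fun i => Nat.beq (actR9 i) i) 0 3200 = true := by decide +kernel
theorem c_act10_0 : allRange (fun i => Nat.beq (actR10 i) i) 0 3200 = true := by decide +kernel
theorem c_act11_0 : allRange (fun i => Nat.beq (actR11 i) i) 0 3200 = true := by decide +kernel
theorem c_act12_0 : allRange (fun i => Nat.beq (actR12 i) i) 0 3200 = true := by decide +kernel
theorem c_act13_0 : allRange (fun i => Nat.beq (actR13 i) i) 0 3200 = true := by decide +kernel
theorem c_act14_0 : allRange (fun i => Nat.beq (actR14 i) i) 0 3200 = true := by decide +kernel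
theorem c_act15_0 : allRange (fun i => Nat.beq (actR15 i) i) 0 3200 = true := by decide +kernel
theorem c_act16_0 : allRange (fun i => Nat.beq (actR16 i) i) 0 3200 = true := by decide +kernel
theorem c_act17_0 : allRange (fun i => Nat.beq (actR17 i) i) 0 3200 = true := by decide +kernel
theorem c_act18_0 : allRange (fun i => Nat.beq (actR18 i) i) 0 3200 = true := by decide +kernel
theorem c_act19_0 : allRange (fun i => Nat.beq (actR19 i) i) 0 3200 = true := by decide +kernel
theorem c_act20_0 : allRange (fun i => Nat.beq (actR20 i) i) 0 3200 = true := by decide +kernel
theorem c_act21_0 : allRange (fun i => Nat.beq (actR21 i) i) 0 3200 = true := by decide +kernel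
theorem c_act22_0 : allRange (fun i => Nat.beq (actR22 i) i) 0 3200 = true := by decide +kernel
theorem c_act23_0 : allRange (fun i => Nat.beq (actR23 i) i) 0 3200 = true := by decide +kernel
theorem c_act24_0 : allRange (fun i => Nat.beq (actR24 i) i) 0 3200 = true := by decide +kernel
theorem c_act25_0 : allRange (fun i => Nat.beq (actR25 i) i) 0 3200 = true := by decide +kernel
theorem c_act26_0 : allRange (fun i => Nat.beq (actR26 i) i) 0 3200 = true := by decide +kernel
theorem c_act27_0 : allRange (fun i => Nat.beq (actR27 i) i) 0 3200 = true := by decide +kernel
theorem c_act28_0 : allRange (fun i => Nat.beq (actR28 i) i) 0 3200 = true := by decide +kernel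
theorem c_act29_0 : allRange (fun i => Nat.beq (actR29 i) i) 0 3200 = true := by decide +kernel
theorem c_act30_0 : allRange (fun i => Nat.beq (actR30 i) i) 0 3200 = true := by decide +kernel
theorem c_act31_0 : allRange (fun i => Nat.beq (actR31 i) i) 0 3200 = true := by decide +kernel
theorem c_act32_0 : allRange (fun i => Nat.beq (actR32 i) i) 0 3200 = true := by decide +kernel
theorem c_act33_0 : allRange (fun i => Nat.beq (actR33 i) i) 0 3200 = true := by decide +kernel
theorem c_act34_0 : allRange (fun i => Nat.beq (actR34 i) i) 0 3200 = true := by decide +kernel
theorem c_act35_0 : allRange (fun i => Nat.beq (actR35 i) i) 0 3200 = true := by decide +kernel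
theorem c_act36_0 : allRange (fun i => Nat.beq (actR36 i) i) 0 2307 = true := by decide +kernel
theorem c_act36_1 : allRange (fun i => Nat.beq (actR36 i) i) 2307 893 = true := by decide +kernel
theorem c_act37_0 : allRange (fun i => Nat.beq (actR37 i) i) 0 1578 = true := by decide +kernel
theorem c_act37_1 : allRange (fun i => Nat.beq (actR37 i) i) 1578 1578 = true := by decide +kernel
theorem c_act37_2 : allRange (fun i => Nat.beq (actR37 i) i) 3156 44 = true := by decide +kernel

end Cfsg.Agent.Lib.Helper4.TCD.STitspp2A
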