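import Cfsg.Agent.Lib.Helper4.TCD_STitspp2A_Acc

namespace Cfsg.Agent.Lib.Helper4.TCD.STitspp2A

open Cfsg.Agent.Lib.Helper4.TC

set_option maxRecDepth 100000
set_option Elab.async false

theorem c_cls_79 : allRange (T.clsOK D) 1185001 15000 = true := by decide +kernel
theorem c_cls_80 : allRange (T.clsOK D) 1200001 15000 = true := by decide +kernel
theorem c_cls_81 : allRange (T.clsOK D) 1215001 878 = true := by decide +kernel
theorem c_rep_0 : allRange (T.repOK D) 0 3200 = true := by decide +kernel
theorem c_rel_0 : allRange D.relOK 1215883 3496 = true := by decide +kernel
theorem c_rel_1 : allRange D.relOK 1219379 3332 = true := by decide +kernel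
theorem c_rel_2 : allRange D.relOK 1222711 3384 = true := by decide +kernel
theorem c_rel_3 : allRange D.relOK 1226095 3334 = true := by decide +kernel
theorem c_rel_4 : allRange D.relOK 1229429 3215 = true := by decide +kernel
theorem c_rel_5 : allRange D.relOK 1232644 3346 = true := by decide +kernel
theorem c_rel_6 : allRange D.relOK 1235990 3309 = true := by decide +kernel
theorem c_rel_7 : allRange D.relOK 1239299 3337 = true := by decide +kernel
theorem c_rel_8 : allRange D.relOK 1242636 3229 = true := by decide +kernel
theorem c_rel_9 : allRange D.relOK 1245865 3368 = true := by decide +kernel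
theorem c_rel_10 : allRange D.relOK 1249233 3372 = true := by decide +kernel
theorem c_rel_11 : allRange D.relOK 1252605 3400 = true := by decide +kernel
theorem c_rel_12 : allRange D.relOK 1256005 3162 = true := by decide +kernel
theorem c_rel_13 : allRange D.relOK 1259167 3303 = true := by decide +kernel
theorem c_rel_14 : allRange D.relOK 1262470 3211 = true := by decide +kernel
theorem c_rel_15 : allRange D.relOK 1265681 3231 = true := by decide +kernel
theorem c_rel_16 : allRange D.relOK 1268912 3241 = true := by decide +kernel
theorem c_rel_17 : allRange D.relOK 1272153 3324 = true := by decide +kernel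
theorem c_rel_18 : allRange D.relOK 1275477 3168 = true := by decide +kernel
theorem c_rel_19 : allRange D.relOK 1278645 2751 = true := by decide +kernel
theorem c_rel_20 : allRange D.relOK 1281396 2997 = true := by decide +kernel
theorem c_rel_21 : allRange D.relOK 1284393 3250 = true := by decide +kernel
theorem c_rel_22 : allRange D.relOK 1287643 3086 = true := by decide +kernel
theorem c_rel_23 : allRange D.relOK 1290729 3099 = true := by decide +kernel
theorem c_rel_24 : allRange D.relOK 1293828 3123 = true := by decide +kernel
theorem c_rel_25 : allRange D.relOK 1296951 3162 = true := by decide +kernel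
theorem c_rel_26 : allRange D.relOK 1300113 3428 = true := by decide +kernel
theorem c_rel_27 : allRange D.relOK 1303541 3431 = true := by decide +kernel
theorem c_rel_28 : allRange D.relOK 1306972 2828 = true := by decide +kernel
theorem c_rel_29 : allRange D.relOK 1309800 2852 = true := by decide +kernel
theorem c_rel_30 : allRange D.relOK 1312652 3192 = true := by decide +kernel
theorem c_rel_31 : allRange D.relOK 1315844 3129 = true := by decide +kernel
theorem c_rel_32 : allRange D.relOK 1318973 3116 = true := by decide +kernel
theorem c_rel_33 : allRange D.relOK 1322089 2975 = true := by decide +kernel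
theorem c_rel_34 : allRange D.relOK 1325064 3137 = true := by decide +kernel
theorem c_rel_35 : allRange D.relOK 1328201 3091 = true := by decide +kernel
theorem c_rel_36 : allRange D.relOK 1331292 3366 = true := by decide +kernel
theorem c_rel_37 : allRange D.relOK 1334658 2797 = true := by decide +kernel
theorem c_rel_38 : allRange D.relOK 1337455 2906 = true := by decide +kernel
theorem c_rel_39 : allRange D.relOK 1340361 2977 = true := by decide +kernel
theorem c_rel_40 : allRange D.relOK 1343338 3103 = true := by decide +kernel
theorem c_rel_41 : allRange D.relOK 1346441 3055 = true := by decide +kernel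
theorem c_rel_42 : allRange D.relOK 1349496 3095 = true := by decide +kernel
theorem c_rel_43 : allRange D.relOK 1352591 3149 = true := by decide +kernel
theorem c_rel_44 : allRange D.relOK 1355740 3374 = true := by decide +kernel
theorem c_rel_45 : allRange D.relOK 1359114 2776 = true := by decide +kernel
theorem c_rel_46 : allRange D.relOK 1361890 2890 = true := by decide +kernel
theorem c_rel_47 : allRange D.relOK 1364780 3122 = true := by decide +kernel
theorem c_rel_48 : allRange D.relOK 1367902 3062 = true := by decide +kernel
theorem c_rel_49 : allRange D.relOK 1370964 3026 = true := by decide +kernel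
theorem c_rel_50 : allRange D.relOK 1373990 3045 = true := by decide +kernel
theorem c_rel_51 : allRange D.relOK 1377035 3042 = true := by decide +kernel
theorem c_rel_52 : allRange D.relOK 1380077 3292 = true := by decide +kernel
theorem c_rel_53 : allRange D.relOK 1383369 3160 = true := by decide +kernel
theorem c_rel_54 : allRange D.relOK 1386529 2562 = true := by decide +kernel
theorem c_rel_55 : allRange D.relOK 1389091 3135 = true := by decide +kernel
theorem c_rel_56 : allRange D.relOK 1392226 3011 = true := by decide +kernel
theorem c_rel_57 : allRange D.relOK 1395237 2978 = true := by decide +kernel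
theorem c_rel_58 : allRange D.relOK 1398215 3029 = true := by decide +kernel
theorem c_rel_59 : allRange D.relOK 1401244 2984 = true := by decide +kernel
theorem c_rel_60 : allRange D.relOK 1404228 3074 = true := by decide +kernel
theorem c_rel_61 : allRange D.relOK 1407302 3332 = true := by decide +kernel
theorem c_rel_62 : allRange D.relOK 1410634 2619 = true := by decide +kernel
theorem c_rel_63 : allRange D.relOK 1413253 2923 = true := by decide +kernel
theorem c_rel_64 : allRange D.relOK 1416176 3273 = true := by decide +kernel
theorem c_rel_65 : allRange D.relOK 1419449 3064 = true := by decide +kernel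
theorem c_rel_66 : allRange D.relOK 1422513 3291 = true := by decide +kernel
theorem c_rel_67 : allRange D.relOK 1425804 3323 = true := by decide +kernel
theorem c_rel_68 : allRange D.relOK 1429127 3416 = true := by decide +kernel
theorem c_rel_69 : allRange D.relOK 1432543 3365 = true := by decide +kernel
theorem c_rel_70 : allRange D.relOK 1435908 3184 = true := by decide +kernel
theorem c_rel_71 : allRange D.relOK 1439092 3260 = true := by decide +kernel
theorem c_rel_72 : allRange D.relOK 1442352 2917 = true := by decide +kernel
theorem c_rel_73 : allRange D.relOK 1445269 2761 = true := by decide +kernel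
theorem c_rel_74 : allRange D.relOK 1448030 2969 = true := by decide +kernel
theorem c_rel_75 : allRange D.relOK 1450999 3021 = true := by decide +kernel
theorem c_rel_76 : allRange D.relOK 1454020 3135 = true := by decide +kernel
theorem c_rel_77 : allRange D.relOK 1457155 3053 = true := by decide +kernel
theorem c_rel_78 : allRange D.relOK 1460208 2697 = true := by decide +kernel
theorem c_rel_79 : allRange D.relOK 1462905 3056 = true := by decide +kernel
theorem c_rel_80 : allRange D.relOK 1465961 2921 = true := by decide +kernel
theorem c_rel_81 : allRange D.relOK 1468882 3041 = true := by decide +kernel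
theorem c_rel_82 : allRange D.relOK 1471923 3268 = true := by decide +kernel
theorem c_rel_83 : allRange D.relOK 1475191 3408 = true := by decide +kernel
theorem c_rel_84 : allRange D.relOK 1478599 3291 = true := by decide +kernel
theorem c_rel_85 : allRange D.relOK 1481890 2624 = true := by decide +kernel
theorem c_rel_86 : allRange D.relOK 1484514 3161 = true := by decide +kernel
theorem c_rel_87 : allRange D.relOK 1487675 3275 = true := by decide +kernel
theorem c_rel_88 : allRange D.relOK 1490950 2926 = true := by decide +kernel
theorem c_rel_89 : allRange D.relOK 1493876 3051 = true := by decide +kernel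
theorem c_rel_90 : allRange D.relOK 1496927 3022 = true := by decide +kernel
theorem c_rel_91 : allRange D.relOK 1499949 3294 = true := by decide +kernel
theorem c_rel_92 : allRange D.relOK 1503243 2815 = true := by decide +kernel
theorem c_rel_93 : allRange D.relOK 1506058 2838 = true := by decide +kernel
theorem c_rel_94 : allRange D.relOK 1508896 3030 = true := by decide +kernel

end Cfsg.Agent.Lib.Helper4.TCD.STitspp2A
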