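import Cfsg.Agent.Lib.Helper4.TCD_STitspp2A_Acc

namespace Cfsg.Agent.Lib.Helper4.TCD.STitspp2A

open Cfsg.Agent.Lib.Helper4.TC

set_option maxRecDepth 100000
set_option Elab.async false

theorem c_rel_95 : allRange D.relOK 1511926 2973 = true := by decide +kernel
theorem c_rel_96 : allRange D.relOK 1514899 2959 = true := by decide +kernel
theorem c_rel_97 : allRange D.relOK 1517858 3030 = true := by decide +kernel
theorem c_rel_98 : allRange D.relOK 1520888 3177 = true := by decide +kernel
theorem c_rel_99 : allRange D.relOK 1524065 2808 = true := by decide +kernel
theorem c_rel_100 : allRange D.relOK 1526873 3374 = true := by decide +kernel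
theorem c_rel_101 : allRange D.relOK 1530247 3189 = true := by decide +kernel
theorem c_rel_102 : allRange D.relOK 1533436 2962 = true := by decide +kernel
theorem c_rel_103 : allRange D.relOK 1536398 2988 = true := by decide +kernel
theorem c_rel_104 : allRange D.relOK 1539386 2956 = true := by decide +kernel
theorem c_rel_105 : allRange D.relOK 1542342 2910 = true := by decide +kernel
theorem c_rel_106 : allRange D.relOK 1545252 3576 = true := by decide +kernel
theorem c_rel_107 : allRange D.relOK 1548828 3523 = true := by decide +kernel
theorem c_rel_108 : allRange D.relOK 1552351 3527 = true := by decide +kernel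
theorem c_rel_109 : allRange D.relOK 1555878 3338 = true := by decide +kernel
theorem c_rel_110 : allRange D.relOK 1559216 3471 = true := by decide +kernel
theorem c_rel_111 : allRange D.relOK 1562687 3322 = true := by decide +kernel
theorem c_rel_112 : allRange D.relOK 1566009 3481 = true := by decide +kernel
theorem c_rel_113 : allRange D.relOK 1569490 3375 = true := by decide +kernel
theorem c_rel_114 : allRange D.relOK 1572865 3516 = true := by decide +kernel
theorem c_rel_115 : allRange D.relOK 1576381 3459 = true := by decide +kernel
theorem c_rel_116 : allRange D.relOK 1579840 3244 = true := by decide +kernel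
theorem c_rel_117 : allRange D.relOK 1583084 3463 = true := by decide +kernel
theorem c_rel_118 : allRange D.relOK 1586547 3496 = true := by decide +kernel
theorem c_rel_119 : allRange D.relOK 1590043 3423 = true := by decide +kernel
theorem c_rel_120 : allRange D.relOK 1593466 3453 = true := by decide +kernel
theorem c_rel_121 : allRange D.relOK 1596919 3404 = true := by decide +kernel
theorem c_rel_122 : allRange D.relOK 1600323 3477 = true := by decide +kernel
theorem c_rel_123 : allRange D.relOK 1603800 3347 = true := by decide +kernel
theorem c_rel_124 : allRange D.relOK 1607147 3323 = true := by decide +kernel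
theorem c_rel_125 : allRange D.relOK 1610470 3677 = true := by decide +kernel
theorem c_rel_126 : allRange D.relOK 1614147 3727 = true := by decide +kernel
theorem c_rel_127 : allRange D.relOK 1617874 3755 = true := by decide +kernel
theorem c_rel_128 : allRange D.relOK 1621629 4120 = true := by decide +kernel
theorem c_rel_129 : allRange D.relOK 1625749 4035 = true := by decide +kernel
theorem c_rel_130 : allRange D.relOK 1629784 3773 = true := by decide +kernel
theorem c_rel_131 : allRange D.relOK 1633557 3954 = true := by decide +kernel
theorem c_rel_132 : allRange D.relOK 1637511 4001 = true := by decide +kernel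
theorem c_rel_133 : allRange D.relOK 1641512 4067 = true := by decide +kernel
theorem c_rel_134 : allRange D.relOK 1645579 3746 = true := by decide +kernel
theorem c_rel_135 : allRange D.relOK 1649325 3522 = true := by decide +kernel
theorem c_rel_136 : allRange D.relOK 1652847 3437 = true := by decide +kernel
theorem c_rel_137 : allRange D.relOK 1656284 3430 = true := by decide +kernel
theorem c_rel_138 : allRange D.relOK 1659714 3482 = true := by decide +kernel
theorem c_rel_139 : allRange D.relOK 1663196 3512 = true := by decide +kernel
theorem c_rel_140 : allRange D.relOK 1666708 3551 = true := by decide +kernel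
theorem c_rel_141 : allRange D.relOK 1670259 3566 = true := by decide +kernel
theorem c_rel_142 : allRange D.relOK 1673825 3634 = true := by decide +kernel
theorem c_rel_143 : allRange D.relOK 1677459 3666 = true := by decide +kernel
theorem c_rel_144 : allRange D.relOK 1681125 3701 = true := by decide +kernel
theorem c_rel_145 : allRange D.relOK 1684826 3716 = true := by decide +kernel
theorem c_rel_146 : allRange D.relOK 1688542 3703 = true := by decide +kernel
theorem c_rel_147 : allRange D.relOK 1692245 3704 = true := by decide +kernel
theorem c_rel_148 : allRange D.relOK 1695949 3673 = true := by decide +kernel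
theorem c_rel_149 : allRange D.relOK 1699622 3658 = true := by decide +kernel
theorem c_rel_150 : allRange D.relOK 1703280 3566 = true := by decide +kernel
theorem c_rel_151 : allRange D.relOK 1706846 3690 = true := by decide +kernel
theorem c_rel_152 : allRange D.relOK 1710536 3667 = true := by decide +kernel
theorem c_rel_153 : allRange D.relOK 1714203 3737 = true := by decide +kernel
theorem c_rel_154 : allRange D.relOK 1717940 3706 = true := by decide +kernel
theorem c_rel_155 : allRange D.relOK 1721646 3575 = true := by decide +kernel
theorem c_rel_156 : allRange D.relOK 1725221 3601 = true := by decide +kernel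
theorem c_rel_157 : allRange D.relOK 1728822 3555 = true := by decide +kernel
theorem c_rel_158 : allRange D.relOK 1732377 3530 = true := by decide +kernel
theorem c_rel_159 : allRange D.relOK 1735907 3508 = true := by decide +kernel
theorem c_rel_160 : allRange D.relOK 1739415 3769 = true := by decide +kernel
theorem c_rel_161 : allRange D.relOK 1743184 3241 = true := by decide +kernel
theorem c_rel_162 : allRange D.relOK 1746425 2593 = true := by decide +kernel
theorem c_rel_163 : allRange D.relOK 1749018 3231 = true := by decide +kernel
theorem c_rel_164 : allRange D.relOK 1752249 3302 = true := by decide +kernel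
theorem c_rel_165 : allRange D.relOK 1755551 3209 = true := by decide +kernel
theorem c_rel_166 : allRange D.relOK 1758760 2877 = true := by decide +kernel
theorem c_rel_167 : allRange D.relOK 1761637 3022 = true := by decide +kernel
theorem c_rel_168 : allRange D.relOK 1764659 3021 = true := by decide +kernel
theorem c_rel_169 : allRange D.relOK 1767680 3080 = true := by decide +kernel
theorem c_rel_170 : allRange D.relOK 1770760 3325 = true := by decide +kernel
theorem c_rel_171 : allRange D.relOK 1774085 3196 = true := by decide +kernel
theorem c_rel_172 : allRange D.relOK 1777281 3250 = true := by decide +kernel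
theorem c_rel_173 : allRange D.relOK 1780531 3309 = true := by decide +kernel
theorem c_rel_174 : allRange D.relOK 1783840 3480 = true := by decide +kernel
theorem c_rel_175 : allRange D.relOK 1787320 3573 = true := by decide +kernel
theorem c_rel_176 : allRange D.relOK 1790893 2820 = true := by decide +kernel
theorem c_rel_177 : allRange D.relOK 1793713 3137 = true := by decide +kernel
theorem c_rel_178 : allRange D.relOK 1796850 3352 = true := by decide +kernel
theorem c_rel_179 : allRange D.relOK 1800202 2957 = true := by decide +kernel
theorem c_rel_180 : allRange D.relOK 1803159 2735 = true := by decide +kernel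
theorem c_rel_181 : allRange D.relOK 1805894 2904 = true := by decide +kernel
theorem c_rel_182 : allRange D.relOK 1808798 2645 = true := by decide +kernel
theorem c_rel_183 : allRange D.relOK 1811443 2927 = true := by decide +kernel
theorem c_rel_184 : allRange D.relOK 1814370 2752 = true := by decide +kernel
theorem c_rel_185 : allRange D.relOK 1817122 2650 = true := by decide +kernel
theorem c_rel_186 : allRange D.relOK 1819772 2758 = true := by decide +kernel
theorem c_rel_187 : allRange D.relOK 1822530 2844 = true := by decide +kernel
theorem c_rel_188 : allRange D.relOK 1825374 2822 = true := by decide +kernel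
theorem c_rel_189 : allRange D.relOK 1828196 2923 = true := by decide +kernel
theorem c_rel_190 : allRange D.relOK 1831119 3004 = true := by decide +kernel
theorem c_rel_191 : allRange D.relOK 1834123 2871 = true := by decide +kernel
theorem c_rel_192 : allRange D.relOK 1836994 2979 = true := by decide +kernel
theorem c_rel_193 : allRange D.relOK 1839973 2659 = true := by decide +kernel

end Cfsg.Agent.Lib.Helper4.TCD.STitspp2A
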