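import Cfsg.Agent.Lib.Helper4.TCD_STitspp2A_Acc

namespace Cfsg.Agent.Lib.Helper4.TCD.STitspp2A

open Cfsg.Agent.Lib.Helper4.TC

set_option maxRecDepth 100000
set_option Elab.async false

theorem c_rel_194 : allRange D.relOK 1842632 2884 = true := by decide +kernel
theorem c_rel_195 : allRange D.relOK 1845516 2886 = true := by decide +kernel
theorem c_rel_196 : allRange D.relOK 1848402 2871 = true := by decide +kernel
theorem c_rel_197 : allRange D.relOK 1851273 3028 = true := by decide +kernel
theorem c_rel_198 : allRange D.relOK 1854301 2859 = true := by decide +kernel
theorem c_rel_199 : allRange D.relOK 1857160 2927 = true := by decide +kernel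
theorem c_rel_200 : allRange D.relOK 1860087 2900 = true := by decide +kernel
theorem c_rel_201 : allRange D.relOK 1862987 2647 = true := by decide +kernel
theorem c_rel_202 : allRange D.relOK 1865634 2964 = true := by decide +kernel
theorem c_rel_203 : allRange D.relOK 1868598 2836 = true := by decide +kernel
theorem c_rel_204 : allRange D.relOK 1871434 2863 = true := by decide +kernel
theorem c_rel_205 : allRange D.relOK 1874297 2803 = true := by decide +kernel
theorem c_rel_206 : allRange D.relOK 1877100 2934 = true := by decide +kernel
theorem c_rel_207 : allRange D.relOK 1880034 2641 = true := by decide +kernel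
theorem c_rel_208 : allRange D.relOK 1882675 2782 = true := by decide +kernel
theorem c_rel_209 : allRange D.relOK 1885457 2938 = true := by decide +kernel
theorem c_rel_210 : allRange D.relOK 1888395 2768 = true := by decide +kernel
theorem c_rel_211 : allRange D.relOK 1891163 2577 = true := by decide +kernel
theorem c_rel_212 : allRange D.relOK 1893740 3090 = true := by decide +kernel
theorem c_rel_213 : allRange D.relOK 1896830 2808 = true := by decide +kernel
theorem c_rel_214 : allRange D.relOK 1899638 2868 = true := by decide +kernel
theorem c_rel_215 : allRange D.relOK 1902506 3073 = true := by decide +kernel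
theorem c_rel_216 : allRange D.relOK 1905579 2863 = true := by decide +kernel
theorem c_rel_217 : allRange D.relOK 1908442 2718 = true := by decide +kernel
theorem c_rel_218 : allRange D.relOK 1911160 2922 = true := by decide +kernel
theorem c_rel_219 : allRange D.relOK 1914082 2959 = true := by decide +kernel
theorem c_rel_220 : allRange D.relOK 1917041 2949 = true := by decide +kernel
theorem c_rel_221 : allRange D.relOK 1919990 2831 = true := by decide +kernel
theorem c_rel_222 : allRange D.relOK 1922821 2836 = true := by decide +kernel
theorem c_rel_223 : allRange D.relOK 1925657 2585 = true := by decide +kernel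
theorem c_rel_224 : allRange D.relOK 1928242 2730 = true := by decide +kernel
theorem c_rel_225 : allRange D.relOK 1930972 2722 = true := by decide +kernel
theorem c_rel_226 : allRange D.relOK 1933694 2758 = true := by decide +kernel
theorem c_rel_227 : allRange D.relOK 1936452 2845 = true := by decide +kernel
theorem c_rel_228 : allRange D.relOK 1939297 2724 = true := by decide +kernel
theorem c_rel_229 : allRange D.relOK 1942021 2688 = true := by decide +kernel
theorem c_rel_230 : allRange D.relOK 1944709 2989 = true := by decide +kernel
theorem c_rel_231 : allRange D.relOK 1947698 3058 = true := by decide +kernel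
theorem c_rel_232 : allRange D.relOK 1950756 3089 = true := by decide +kernel
theorem c_rel_233 : allRange D.relOK 1953845 3271 = true := by decide +kernel
theorem c_rel_234 : allRange D.relOK 1957116 2998 = true := by decide +kernel
theorem c_rel_235 : allRange D.relOK 1960114 2855 = true := by decide +kernel
theorem c_rel_236 : allRange D.relOK 1962969 3037 = true := by decide +kernel
theorem c_rel_237 : allRange D.relOK 1966006 2848 = true := by decide +kernel
theorem c_rel_238 : allRange D.relOK 1968854 2857 = true := by decide +kernel
theorem c_rel_239 : allRange D.relOK 1971711 3394 = true := by decide +kernel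
theorem c_rel_240 : allRange D.relOK 1975105 3486 = true := by decide +kernel
theorem c_rel_241 : allRange D.relOK 1978591 3778 = true := by decide +kernel
theorem c_rel_242 : allRange D.relOK 1982369 3671 = true := by decide +kernel
theorem c_rel_243 : allRange D.relOK 1986040 3232 = true := by decide +kernel
theorem c_rel_244 : allRange D.relOK 1989272 2974 = true := by decide +kernel
theorem c_rel_245 : allRange D.relOK 1992246 2953 = true := by decide +kernel
theorem c_rel_246 : allRange D.relOK 1995199 3174 = true := by decide +kernel
theorem c_rel_247 : allRange D.relOK 1998373 3099 = true := by decide +kernel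
theorem c_rel_248 : allRange D.relOK 2001472 2924 = true := by decide +kernel
theorem c_rel_249 : allRange D.relOK 2004396 2815 = true := by decide +kernel
theorem c_rel_250 : allRange D.relOK 2007211 2904 = true := by decide +kernel
theorem c_rel_251 : allRange D.relOK 2010115 2909 = true := by decide +kernel
theorem c_rel_252 : allRange D.relOK 2013024 3448 = true := by decide +kernel
theorem c_rel_253 : allRange D.relOK 2016472 3456 = true := by decide +kernel
theorem c_rel_254 : allRange D.relOK 2019928 2937 = true := by decide +kernel
theorem c_rel_255 : allRange D.relOK 2022865 3084 = true := by decide +kernel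
theorem c_rel_256 : allRange D.relOK 2025949 3075 = true := by decide +kernel
theorem c_rel_257 : allRange D.relOK 2029024 3244 = true := by decide +kernel
theorem c_rel_258 : allRange D.relOK 2032268 3080 = true := by decide +kernel
theorem c_rel_259 : allRange D.relOK 2035348 2997 = true := by decide +kernel
theorem c_rel_260 : allRange D.relOK 2038345 2949 = true := by decide +kernel
theorem c_rel_261 : allRange D.relOK 2041294 3029 = true := by decide +kernel
theorem c_rel_262 : allRange D.relOK 2044323 2794 = true := by decide +kernel
theorem c_rel_263 : allRange D.relOK 2047117 2921 = true := by decide +kernel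
theorem c_rel_264 : allRange D.relOK 2050038 2944 = true := by decide +kernel
theorem c_rel_265 : allRange D.relOK 2052982 2910 = true := by decide +kernel
theorem c_rel_266 : allRange D.relOK 2055892 2951 = true := by decide +kernel
theorem c_rel_267 : allRange D.relOK 2058843 3020 = true := by decide +kernel
theorem c_rel_268 : allRange D.relOK 2061863 2899 = true := by decide +kernel
theorem c_rel_269 : allRange D.relOK 2064762 2517 = true := by decide +kernel
theorem c_rel_270 : allRange D.relOK 2067279 2549 = true := by decide +kernel
theorem c_rel_271 : allRange D.relOK 2069828 3151 = true := by decide +kernel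
theorem c_rel_272 : allRange D.relOK 2072979 2764 = true := by decide +kernel
theorem c_rel_273 : allRange D.relOK 2075743 2635 = true := by decide +kernel
theorem c_rel_274 : allRange D.relOK 2078378 2817 = true := by decide +kernel
theorem c_rel_275 : allRange D.relOK 2081195 2611 = true := by decide +kernel
theorem c_rel_276 : allRange D.relOK 2083806 2956 = true := by decide +kernel
theorem c_rel_277 : allRange D.relOK 2086762 2645 = true := by decide +kernel
theorem c_rel_278 : allRange D.relOK 2089407 2830 = true := by decide +kernel
theorem c_rel_279 : allRange D.relOK 2092237 2706 = true := by decide +kernel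
theorem c_rel_280 : allRange D.relOK 2094943 2819 = true := by decide +kernel
theorem c_rel_281 : allRange D.relOK 2097762 2767 = true := by decide +kernel
theorem c_rel_282 : allRange D.relOK 2100529 2786 = true := by decide +kernel
theorem c_rel_283 : allRange D.relOK 2103315 2802 = true := by decide +kernel
theorem c_rel_284 : allRange D.relOK 2106117 2727 = true := by decide +kernel
theorem c_rel_285 : allRange D.relOK 2108844 2850 = true := by decide +kernel
theorem c_rel_286 : allRange D.relOK 2111694 2754 = true := by decide +kernel
theorem c_rel_287 : allRange D.relOK 2114448 2792 = true := by decide +kernel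
theorem c_rel_288 : allRange D.relOK 2117240 2524 = true := by decide +kernel
theorem c_rel_289 : allRange D.relOK 2119764 2841 = true := by decide +kernel
theorem c_rel_290 : allRange D.relOK 2122605 3022 = true := by decide +kernel
theorem c_rel_291 : allRange D.relOK 2125627 2947 = true := by decide +kernel
theorem c_rel_292 : allRange D.relOK 2128574 3027 = true := by decide +kernel

end Cfsg.Agent.Lib.Helper4.TCD.STitspp2A
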