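import Cfsg.Agent.Lib.Helper4.TCD_STitspp2A_Acc

namespace Cfsg.Agent.Lib.Helper4.TCD.STitspp2A

open Cfsg.Agent.Lib.Helper4.TC

set_option maxRecDepth 100000
set_option Elab.async false

theorem c_rel_293 : allRange D.relOK 2131601 2780 = true := by decide +kernel
theorem c_rel_294 : allRange D.relOK 2134381 2807 = true := by decide +kernel
theorem c_rel_295 : allRange D.relOK 2137188 2996 = true := by decide +kernel
theorem c_rel_296 : allRange D.relOK 2140184 2869 = true := by decide +kernel
theorem c_rel_297 : allRange D.relOK 2143053 2789 = true := by decide +kernel
theorem c_rel_298 : allRange D.relOK 2145842 2874 = true := by decide +kernel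
theorem c_rel_299 : allRange D.relOK 2148716 2844 = true := by decide +kernel
theorem c_rel_300 : allRange D.relOK 2151560 2957 = true := by decide +kernel
theorem c_rel_301 : allRange D.relOK 2154517 3003 = true := by decide +kernel
theorem c_rel_302 : allRange D.relOK 2157520 2872 = true := by decide +kernel
theorem c_rel_303 : allRange D.relOK 2160392 3018 = true := by decide +kernel
theorem c_rel_304 : allRange D.relOK 2163410 2818 = true := by decide +kernel
theorem c_rel_305 : allRange D.relOK 2166228 3036 = true := by decide +kernel
theorem c_rel_306 : allRange D.relOK 2169264 2900 = true := by decide +kernel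
theorem c_rel_307 : allRange D.relOK 2172164 2850 = true := by decide +kernel
theorem c_rel_308 : allRange D.relOK 2175014 2681 = true := by decide +kernel
theorem c_rel_309 : allRange D.relOK 2177695 2759 = true := by decide +kernel
theorem c_rel_310 : allRange D.relOK 2180454 2869 = true := by decide +kernel
theorem c_rel_311 : allRange D.relOK 2183323 3011 = true := by decide +kernel
theorem c_rel_312 : allRange D.relOK 2186334 2817 = true := by decide +kernel
theorem c_rel_313 : allRange D.relOK 2189151 2766 = true := by decide +kernel
theorem c_rel_314 : allRange D.relOK 2191917 2826 = true := by decide +kernel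
theorem c_rel_315 : allRange D.relOK 2194743 2805 = true := by decide +kernel
theorem c_rel_316 : allRange D.relOK 2197548 2906 = true := by decide +kernel
theorem c_rel_317 : allRange D.relOK 2200454 2760 = true := by decide +kernel
theorem c_rel_318 : allRange D.relOK 2203214 2620 = true := by decide +kernel
theorem c_rel_319 : allRange D.relOK 2205834 2909 = true := by decide +kernel
theorem c_rel_320 : allRange D.relOK 2208743 2912 = true := by decide +kernel
theorem c_rel_321 : allRange D.relOK 2211655 2734 = true := by decide +kernel
theorem c_rel_322 : allRange D.relOK 2214389 2719 = true := by decide +kernel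
theorem c_rel_323 : allRange D.relOK 2217108 2748 = true := by decide +kernel
theorem c_rel_324 : allRange D.relOK 2219856 2994 = true := by decide +kernel
theorem c_rel_325 : allRange D.relOK 2222850 3019 = true := by decide +kernel
theorem c_rel_326 : allRange D.relOK 2225869 2758 = true := by decide +kernel
theorem c_rel_327 : allRange D.relOK 2228627 2701 = true := by decide +kernel
theorem c_rel_328 : allRange D.relOK 2231328 2809 = true := by decide +kernel
theorem c_rel_329 : allRange D.relOK 2234137 2853 = true := by decide +kernel
theorem c_rel_330 : allRange D.relOK 2236990 3014 = true := by decide +kernel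
theorem c_rel_331 : allRange D.relOK 2240004 2808 = true := by decide +kernel
theorem c_rel_332 : allRange D.relOK 2242812 2754 = true := by decide +kernel
theorem c_rel_333 : allRange D.relOK 2245566 2874 = true := by decide +kernel
theorem c_rel_334 : allRange D.relOK 2248440 2889 = true := by decide +kernel
theorem c_rel_335 : allRange D.relOK 2251329 2814 = true := by decide +kernel
theorem c_rel_336 : allRange D.relOK 2254143 2932 = true := by decide +kernel
theorem c_rel_337 : allRange D.relOK 2257075 3066 = true := by decide +kernel
theorem c_rel_338 : allRange D.relOK 2260141 3062 = true := by decide +kernel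
theorem c_rel_339 : allRange D.relOK 2263203 2952 = true := by decide +kernel
theorem c_rel_340 : allRange D.relOK 2266155 2805 = true := by decide +kernel
theorem c_rel_341 : allRange D.relOK 2268960 2807 = true := by decide +kernel
theorem c_rel_342 : allRange D.relOK 2271767 2994 = true := by decide +kernel
theorem c_rel_343 : allRange D.relOK 2274761 2922 = true := by decide +kernel
theorem c_rel_344 : allRange D.relOK 2277683 2618 = true := by decide +kernel
theorem c_rel_345 : allRange D.relOK 2280301 2784 = true := by decide +kernel
theorem c_rel_346 : allRange D.relOK 2283085 2905 = true := by decide +kernel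
theorem c_rel_347 : allRange D.relOK 2285990 2753 = true := by decide +kernel
theorem c_rel_348 : allRange D.relOK 2288743 2941 = true := by decide +kernel
theorem c_rel_349 : allRange D.relOK 2291684 2825 = true := by decide +kernel
theorem c_rel_350 : allRange D.relOK 2294509 2881 = true := by decide +kernel
theorem c_rel_351 : allRange D.relOK 2297390 2682 = true := by decide +kernel
theorem c_rel_352 : allRange D.relOK 2300072 2731 = true := by decide +kernel
theorem c_rel_353 : allRange D.relOK 2302803 2835 = true := by decide +kernel
theorem c_rel_354 : allRange D.relOK 2305638 2810 = true := by decide +kernel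
theorem c_rel_355 : allRange D.relOK 2308448 2875 = true := by decide +kernel
theorem c_rel_356 : allRange D.relOK 2311323 3587 = true := by decide +kernel
theorem c_rel_357 : allRange D.relOK 2314910 3369 = true := by decide +kernel
theorem c_rel_358 : allRange D.relOK 2318279 3478 = true := by decide +kernel
theorem c_rel_359 : allRange D.relOK 2321757 3837 = true := by decide +kernel
theorem c_rel_360 : allRange D.relOK 2325594 3000 = true := by decide +kernel
theorem c_rel_361 : allRange D.relOK 2328594 3017 = true := by decide +kernel
theorem c_rel_362 : allRange D.relOK 2331611 3129 = true := by decide +kernel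
theorem c_rel_363 : allRange D.relOK 2334740 2861 = true := by decide +kernel
theorem c_rel_364 : allRange D.relOK 2337601 2343 = true := by decide +kernel
theorem c_rel_365 : allRange D.relOK 2339944 3095 = true := by decide +kernel
theorem c_rel_366 : allRange D.relOK 2343039 2878 = true := by decide +kernel
theorem c_rel_367 : allRange D.relOK 2345917 3173 = true := by decide +kernel
theorem c_rel_368 : allRange D.relOK 2349090 2547 = true := by decide +kernel
theorem c_rel_369 : allRange D.relOK 2351637 2730 = true := by decide +kernel
theorem c_rel_370 : allRange D.relOK 2354367 3109 = true := by decide +kernel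
theorem c_rel_371 : allRange D.relOK 2357476 3304 = true := by decide +kernel
theorem c_rel_372 : allRange D.relOK 2360780 3371 = true := by decide +kernel
theorem c_rel_373 : allRange D.relOK 2364151 3432 = true := by decide +kernel
theorem c_rel_374 : allRange D.relOK 2367583 3454 = true := by decide +kernel
theorem c_rel_375 : allRange D.relOK 2371037 3466 = true := by decide +kernel
theorem c_rel_376 : allRange D.relOK 2374503 3492 = true := by decide +kernel
theorem c_rel_377 : allRange D.relOK 2377995 3512 = true := by decide +kernel
theorem c_rel_378 : allRange D.relOK 2381507 3519 = true := by decide +kernel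
theorem c_rel_379 : allRange D.relOK 2385026 3560 = true := by decide +kernel
theorem c_rel_380 : allRange D.relOK 2388586 3569 = true := by decide +kernel
theorem c_rel_381 : allRange D.relOK 2392155 3603 = true := by decide +kernel
theorem c_rel_382 : allRange D.relOK 2395758 3605 = true := by decide +kernel
theorem c_rel_383 : allRange D.relOK 2399363 3634 = true := by decide +kernel
theorem c_rel_384 : allRange D.relOK 2402997 3636 = true := by decide +kernel
theorem c_rel_385 : allRange D.relOK 2406633 3663 = true := by decide +kernel
theorem c_rel_386 : allRange D.relOK 2410296 3675 = true := by decide +kernel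
theorem c_rel_387 : allRange D.relOK 2413971 3686 = true := by decide +kernel
theorem c_rel_388 : allRange D.relOK 2417657 3699 = true := by decide +kernel
theorem c_rel_389 : allRange D.relOK 2421356 3710 = true := by decide +kernel
theorem c_rel_390 : allRange D.relOK 2425066 3718 = true := by decide +kernel
theorem c_rel_391 : allRange D.relOK 2428784 3714 = true := by decide +kernel

end Cfsg.Agent.Lib.Helper4.TCD.STitspp2A
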