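import Cfsg.Agent.Lib.Helper4.TCD_STitspp2A_Acc

namespace Cfsg.Agent.Lib.Helper4.TCD.STitspp2A

open Cfsg.Agent.Lib.Helper4.TC

set_option maxRecDepth 100000
set_option Elab.async false

theorem c_rel_392 : allRange D.relOK 2432498 3582 = true := by decide +kernel
theorem c_rel_393 : allRange D.relOK 2436080 3385 = true := by decide +kernel
theorem c_rel_394 : allRange D.relOK 2439465 3302 = true := by decide +kernel
theorem c_rel_395 : allRange D.relOK 2442767 3274 = true := by decide +kernel
theorem c_rel_396 : allRange D.relOK 2446041 3527 = true := by decide +kernel
theorem c_rel_397 : allRange D.relOK 2449568 3147 = true := by decide +kernel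
theorem c_rel_398 : allRange D.relOK 2452715 3512 = true := by decide +kernel
theorem c_rel_399 : allRange D.relOK 2456227 3241 = true := by decide +kernel
theorem c_rel_400 : allRange D.relOK 2459468 3588 = true := by decide +kernel
theorem c_rel_401 : allRange D.relOK 2463056 3256 = true := by decide +kernel
theorem c_rel_402 : allRange D.relOK 2466312 3186 = true := by decide +kernel
theorem c_rel_403 : allRange D.relOK 2469498 3197 = true := by decide +kernel
theorem c_rel_404 : allRange D.relOK 2472695 3155 = true := by decide +kernel
theorem c_rel_405 : allRange D.relOK 2475850 3433 = true := by decide +kernel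
theorem c_rel_406 : allRange D.relOK 2479283 3284 = true := by decide +kernel
theorem c_rel_407 : allRange D.relOK 2482567 3504 = true := by decide +kernel
theorem c_rel_408 : allRange D.relOK 2486071 3195 = true := by decide +kernel
theorem c_rel_409 : allRange D.relOK 2489266 2981 = true := by decide +kernel
theorem c_rel_410 : allRange D.relOK 2492247 2997 = true := by decide +kernel
theorem c_rel_411 : allRange D.relOK 2495244 3010 = true := by decide +kernel
theorem c_rel_412 : allRange D.relOK 2498254 3060 = true := by decide +kernel
theorem c_rel_413 : allRange D.relOK 2501314 3075 = true := by decide +kernel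
theorem c_rel_414 : allRange D.relOK 2504389 3101 = true := by decide +kernel
theorem c_rel_415 : allRange D.relOK 2507490 3137 = true := by decide +kernel
theorem c_rel_416 : allRange D.relOK 2510627 3190 = true := by decide +kernel
theorem c_rel_417 : allRange D.relOK 2513817 3224 = true := by decide +kernel
theorem c_rel_418 : allRange D.relOK 2517041 3263 = true := by decide +kernel
theorem c_rel_419 : allRange D.relOK 2520304 3309 = true := by decide +kernel
theorem c_rel_420 : allRange D.relOK 2523613 3400 = true := by decide +kernel
theorem c_rel_421 : allRange D.relOK 2527013 3452 = true := by decide +kernel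
theorem c_rel_422 : allRange D.relOK 2530465 3524 = true := by decide +kernel
theorem c_rel_423 : allRange D.relOK 2533989 3518 = true := by decide +kernel
theorem c_rel_424 : allRange D.relOK 2537507 3614 = true := by decide +kernel
theorem c_rel_425 : allRange D.relOK 2541121 3723 = true := by decide +kernel
theorem c_rel_426 : allRange D.relOK 2544844 3473 = true := by decide +kernel
theorem c_rel_427 : allRange D.relOK 2548317 3548 = true := by decide +kernel
theorem c_rel_428 : allRange D.relOK 2551865 3353 = true := by decide +kernel
theorem c_rel_429 : allRange D.relOK 2555218 3503 = true := by decide +kernel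
theorem c_rel_430 : allRange D.relOK 2558721 3531 = true := by decide +kernel
theorem c_rel_431 : allRange D.relOK 2562252 3531 = true := by decide +kernel
theorem c_rel_432 : allRange D.relOK 2565783 3477 = true := by decide +kernel
theorem c_rel_433 : allRange D.relOK 2569260 3451 = true := by decide +kernel
theorem c_rel_434 : allRange D.relOK 2572711 3638 = true := by decide +kernel
theorem c_rel_435 : allRange D.relOK 2576349 3472 = true := by decide +kernel
theorem c_rel_436 : allRange D.relOK 2579821 3585 = true := by decide +kernel
theorem c_rel_437 : allRange D.relOK 2583406 3487 = true := by decide +kernel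
theorem c_rel_438 : allRange D.relOK 2586893 3567 = true := by decide +kernel
theorem c_rel_439 : allRange D.relOK 2590460 3539 = true := by decide +kernel
theorem c_rel_440 : allRange D.relOK 2593999 3525 = true := by decide +kernel
theorem c_rel_441 : allRange D.relOK 2597524 3538 = true := by decide +kernel
theorem c_rel_442 : allRange D.relOK 2601062 3426 = true := by decide +kernel
theorem c_rel_443 : allRange D.relOK 2604488 3387 = true := by decide +kernel
theorem c_rel_444 : allRange D.relOK 2607875 3303 = true := by decide +kernel
theorem c_rel_445 : allRange D.relOK 2611178 3532 = true := by decide +kernel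
theorem c_rel_446 : allRange D.relOK 2614710 3118 = true := by decide +kernel
theorem c_rel_447 : allRange D.relOK 2617828 3452 = true := by decide +kernel
theorem c_rel_448 : allRange D.relOK 2621280 3389 = true := by decide +kernel
theorem c_rel_449 : allRange D.relOK 2624669 3419 = true := by decide +kernel
theorem c_rel_450 : allRange D.relOK 2628088 3291 = true := by decide +kernel
theorem c_rel_451 : allRange D.relOK 2631379 3467 = true := by decide +kernel
theorem c_rel_452 : allRange D.relOK 2634846 3300 = true := by decide +kernel
theorem c_rel_453 : allRange D.relOK 2638146 3197 = true := by decide +kernel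
theorem c_rel_454 : allRange D.relOK 2641343 3277 = true := by decide +kernel
theorem c_rel_455 : allRange D.relOK 2644620 3387 = true := by decide +kernel
theorem c_rel_456 : allRange D.relOK 2648007 3269 = true := by decide +kernel
theorem c_rel_457 : allRange D.relOK 2651276 3320 = true := by decide +kernel
theorem c_rel_458 : allRange D.relOK 2654596 3308 = true := by decide +kernel
theorem c_rel_459 : allRange D.relOK 2657904 3289 = true := by decide +kernel
theorem c_rel_460 : allRange D.relOK 2661193 3231 = true := by decide +kernel
theorem c_rel_461 : allRange D.relOK 2664424 2984 = true := by decide +kernel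
theorem c_rel_462 : allRange D.relOK 2667408 2955 = true := by decide +kernel
theorem c_rel_463 : allRange D.relOK 2670363 3151 = true := by decide +kernel
theorem c_rel_464 : allRange D.relOK 2673514 2910 = true := by decide +kernel
theorem c_rel_465 : allRange D.relOK 2676424 3123 = true := by decide +kernel
theorem c_rel_466 : allRange D.relOK 2679547 3088 = true := by decide +kernel
theorem c_rel_467 : allRange D.relOK 2682635 3503 = true := by decide +kernel
theorem c_rel_468 : allRange D.relOK 2686138 3477 = true := by decide +kernel
theorem c_rel_469 : allRange D.relOK 2689615 3014 = true := by decide +kernel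
theorem c_rel_470 : allRange D.relOK 2692629 2979 = true := by decide +kernel
theorem c_rel_471 : allRange D.relOK 2695608 2840 = true := by decide +kernel
theorem c_rel_472 : allRange D.relOK 2698448 2984 = true := by decide +kernel
theorem c_rel_473 : allRange D.relOK 2701432 3223 = true := by decide +kernel
theorem c_rel_474 : allRange D.relOK 2704655 2918 = true := by decide +kernel
theorem c_rel_475 : allRange D.relOK 2707573 3277 = true := by decide +kernel
theorem c_rel_476 : allRange D.relOK 2710850 3194 = true := by decide +kernel
theorem c_rel_477 : allRange D.relOK 2714044 3169 = true := by decide +kernel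
theorem c_rel_478 : allRange D.relOK 2717213 3152 = true := by decide +kernel
theorem c_rel_479 : allRange D.relOK 2720365 3214 = true := by decide +kernel
theorem c_rel_480 : allRange D.relOK 2723579 3161 = true := by decide +kernel
theorem c_rel_481 : allRange D.relOK 2726740 2943 = true := by decide +kernel
theorem c_rel_482 : allRange D.relOK 2729683 3137 = true := by decide +kernel
theorem c_rel_483 : allRange D.relOK 2732820 3130 = true := by decide +kernel
theorem c_rel_484 : allRange D.relOK 2735950 3009 = true := by decide +kernel
theorem c_rel_485 : allRange D.relOK 2738959 3229 = true := by decide +kernel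
theorem c_rel_486 : allRange D.relOK 2742188 3339 = true := by decide +kernel
theorem c_rel_487 : allRange D.relOK 2745527 3049 = true := by decide +kernel
theorem c_rel_488 : allRange D.relOK 2748576 3127 = true := by decide +kernel
theorem c_rel_489 : allRange D.relOK 2751703 3085 = true := by decide +kernel
theorem c_rel_490 : allRange D.relOK 2754788 3465 = true := by decide +kernel

end Cfsg.Agent.Lib.Helper4.TCD.STitspp2A
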