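import Cfsg.Agent.Lib.Helper4.TCD_STitspp2A_Acc

namespace Cfsg.Agent.Lib.Helper4.TCD.STitspp2A

open Cfsg.Agent.Lib.Helper4.TC

set_option maxRecDepth 100000
set_option Elab.async false

theorem c_rel_491 : allRange D.relOK 2758253 3538 = true := by decide +kernel
theorem c_rel_492 : allRange D.relOK 2761791 3152 = true := by decide +kernel
theorem c_rel_493 : allRange D.relOK 2764943 3376 = true := by decide +kernel
theorem c_rel_494 : allRange D.relOK 2768319 3315 = true := by decide +kernel
theorem c_rel_495 : allRange D.relOK 2771634 2978 = true := by decide +kernel
theorem c_rel_496 : allRange D.relOK 2774612 3114 = true := by decide +kernel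
theorem c_rel_497 : allRange D.relOK 2777726 3183 = true := by decide +kernel
theorem c_rel_498 : allRange D.relOK 2780909 3186 = true := by decide +kernel
theorem c_rel_499 : allRange D.relOK 2784095 3573 = true := by decide +kernel
theorem c_rel_500 : allRange D.relOK 2787668 3477 = true := by decide +kernel
theorem c_rel_501 : allRange D.relOK 2791145 3185 = true := by decide +kernel
theorem c_rel_502 : allRange D.relOK 2794330 3286 = true := by decide +kernel
theorem c_rel_503 : allRange D.relOK 2797616 3337 = true := by decide +kernel
theorem c_rel_504 : allRange D.relOK 2800953 3244 = true := by decide +kernel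
theorem c_rel_505 : allRange D.relOK 2804197 3471 = true := by decide +kernel
theorem c_rel_506 : allRange D.relOK 2807668 3161 = true := by decide +kernel
theorem c_rel_507 : allRange D.relOK 2810829 3036 = true := by decide +kernel
theorem c_rel_508 : allRange D.relOK 2813865 3293 = true := by decide +kernel
theorem c_rel_509 : allRange D.relOK 2817158 3368 = true := by decide +kernel
theorem c_rel_510 : allRange D.relOK 2820526 3498 = true := by decide +kernel
theorem c_rel_511 : allRange D.relOK 2824024 3103 = true := by decide +kernel
theorem c_rel_512 : allRange D.relOK 2827127 3183 = true := by decide +kernel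
theorem c_rel_513 : allRange D.relOK 2830310 3256 = true := by decide +kernel
theorem c_rel_514 : allRange D.relOK 2833566 3247 = true := by decide +kernel
theorem c_rel_515 : allRange D.relOK 2836813 3455 = true := by decide +kernel
theorem c_rel_516 : allRange D.relOK 2840268 3394 = true := by decide +kernel
theorem c_rel_517 : allRange D.relOK 2843662 3162 = true := by decide +kernel
theorem c_rel_518 : allRange D.relOK 2846824 3331 = true := by decide +kernel
theorem c_rel_519 : allRange D.relOK 2850155 3507 = true := by decide +kernel
theorem c_rel_520 : allRange D.relOK 2853662 3401 = true := by decide +kernel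
theorem c_rel_521 : allRange D.relOK 2857063 3063 = true := by decide +kernel
theorem c_rel_522 : allRange D.relOK 2860126 3398 = true := by decide +kernel
theorem c_rel_523 : allRange D.relOK 2863524 3402 = true := by decide +kernel
theorem c_rel_524 : allRange D.relOK 2866926 3535 = true := by decide +kernel
theorem c_rel_525 : allRange D.relOK 2870461 3079 = true := by decide +kernel
theorem c_rel_526 : allRange D.relOK 2873540 2629 = true := by decide +kernel
theorem c_rel_527 : allRange D.relOK 2876169 3247 = true := by decide +kernel
theorem c_rel_528 : allRange D.relOK 2879416 3528 = true := by decide +kernel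
theorem c_rel_529 : allRange D.relOK 2882944 3314 = true := by decide +kernel
theorem c_rel_530 : allRange D.relOK 2886258 3329 = true := by decide +kernel
theorem c_rel_531 : allRange D.relOK 2889587 3221 = true := by decide +kernel
theorem c_rel_532 : allRange D.relOK 2892808 3466 = true := by decide +kernel
theorem c_rel_533 : allRange D.relOK 2896274 3262 = true := by decide +kernel
theorem c_rel_534 : allRange D.relOK 2899536 3013 = true := by decide +kernel
theorem c_rel_535 : allRange D.relOK 2902549 3276 = true := by decide +kernel
theorem c_rel_536 : allRange D.relOK 2905825 3303 = true := by decide +kernel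
theorem c_rel_537 : allRange D.relOK 2909128 3465 = true := by decide +kernel
theorem c_rel_538 : allRange D.relOK 2912593 3321 = true := by decide +kernel
theorem c_rel_539 : allRange D.relOK 2915914 3349 = true := by decide +kernel
theorem c_rel_540 : allRange D.relOK 2919263 3242 = true := by decide +kernel
theorem c_rel_541 : allRange D.relOK 2922505 3359 = true := by decide +kernel
theorem c_rel_542 : allRange D.relOK 2925864 3584 = true := by decide +kernel
theorem c_rel_543 : allRange D.relOK 2929448 3486 = true := by decide +kernel
theorem c_rel_544 : allRange D.relOK 2932934 3095 = true := by decide +kernel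
theorem c_rel_545 : allRange D.relOK 2936029 3249 = true := by decide +kernel
theorem c_rel_546 : allRange D.relOK 2939278 3210 = true := by decide +kernel
theorem c_rel_547 : allRange D.relOK 2942488 3573 = true := by decide +kernel
theorem c_rel_548 : allRange D.relOK 2946061 3203 = true := by decide +kernel
theorem c_rel_549 : allRange D.relOK 2949264 3116 = true := by decide +kernel
theorem c_rel_550 : allRange D.relOK 2952380 3006 = true := by decide +kernel
theorem c_rel_551 : allRange D.relOK 2955386 3570 = true := by decide +kernel
theorem c_rel_552 : allRange D.relOK 2958956 3447 = true := by decide +kernel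
theorem c_rel_553 : allRange D.relOK 2962403 3116 = true := by decide +kernel
theorem c_rel_554 : allRange D.relOK 2965519 3240 = true := by decide +kernel
theorem c_rel_555 : allRange D.relOK 2968759 3275 = true := by decide +kernel
theorem c_rel_556 : allRange D.relOK 2972034 3356 = true := by decide +kernel
theorem c_rel_557 : allRange D.relOK 2975390 3483 = true := by decide +kernel
theorem c_rel_558 : allRange D.relOK 2978873 3072 = true := by decide +kernel
theorem c_rel_559 : allRange D.relOK 2981945 3202 = true := by decide +kernel
theorem c_rel_560 : allRange D.relOK 2985147 3164 = true := by decide +kernel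
theorem c_rel_561 : allRange D.relOK 2988311 3301 = true := by decide +kernel
theorem c_rel_562 : allRange D.relOK 2991612 3475 = true := by decide +kernel
theorem c_rel_563 : allRange D.relOK 2995087 3110 = true := by decide +kernel
theorem c_rel_564 : allRange D.relOK 2998197 2852 = true := by decide +kernel
theorem c_rel_565 : allRange D.relOK 3001049 3347 = true := by decide +kernel
theorem c_rel_566 : allRange D.relOK 3004396 3497 = true := by decide +kernel
theorem c_rel_567 : allRange D.relOK 3007893 2977 = true := by decide +kernel
theorem c_rel_568 : allRange D.relOK 3010870 3317 = true := by decide +kernel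
theorem c_rel_569 : allRange D.relOK 3014187 3249 = true := by decide +kernel
theorem c_rel_570 : allRange D.relOK 3017436 3533 = true := by decide +kernel
theorem c_rel_571 : allRange D.relOK 3020969 2812 = true := by decide +kernel
theorem c_rel_572 : allRange D.relOK 3023781 3032 = true := by decide +kernel
theorem c_rel_573 : allRange D.relOK 3026813 3498 = true := by decide +kernel
theorem c_rel_574 : allRange D.relOK 3030311 3302 = true := by decide +kernel
theorem c_rel_575 : allRange D.relOK 3033613 3168 = true := by decide +kernel
theorem c_rel_576 : allRange D.relOK 3036781 3345 = true := by decide +kernel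
theorem c_rel_577 : allRange D.relOK 3040126 3484 = true := by decide +kernel
theorem c_rel_578 : allRange D.relOK 3043610 3033 = true := by decide +kernel
theorem c_rel_579 : allRange D.relOK 3046643 3255 = true := by decide +kernel
theorem c_rel_580 : allRange D.relOK 3049898 3164 = true := by decide +kernel
theorem c_rel_581 : allRange D.relOK 3053062 3374 = true := by decide +kernel
theorem c_rel_582 : allRange D.relOK 3056436 3271 = true := by decide +kernel
theorem c_rel_583 : allRange D.relOK 3059707 3201 = true := by decide +kernel
theorem c_rel_584 : allRange D.relOK 3062908 3299 = true := by decide +kernel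
theorem c_rel_585 : allRange D.relOK 3066207 3355 = true := by decide +kernel
theorem c_rel_586 : allRange D.relOK 3069562 3070 = true := by decide +kernel
theorem c_rel_587 : allRange D.relOK 3072632 3384 = true := by decide +kernel
theorem c_rel_588 : allRange D.relOK 3076016 3117 = true := by decide +kernel
theorem c_rel_589 : allRange D.relOK 3079133 3454 = true := by decide +kernel

end Cfsg.Agent.Lib.Helper4.TCD.STitspp2A
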