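import Cfsg.Agent.Lib.Helper4.TCD_STitspp2A_Acc

namespace Cfsg.Agent.Lib.Helper4.TCD.STitspp2A

open Cfsg.Agent.Lib.Helper4.TC

set_option maxRecDepth 100000
set_option Elab.async false

theorem c_rel_590 : allRange D.relOK 3082587 3217 = true := by decide +kernel
theorem c_rel_591 : allRange D.relOK 3085804 3041 = true := by decide +kernel
theorem c_rel_592 : allRange D.relOK 3088845 3257 = true := by decide +kernel
theorem c_rel_593 : allRange D.relOK 3092102 3178 = true := by decide +kernel
theorem c_rel_594 : allRange D.relOK 3095280 3204 = true := by decide +kernel
theorem c_rel_595 : allRange D.relOK 3098484 2989 = true := by decide +kernel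
theorem c_rel_596 : allRange D.relOK 3101473 3431 = true := by decide +kernel
theorem c_rel_597 : allRange D.relOK 3104904 2977 = true := by decide +kernel
theorem c_rel_598 : allRange D.relOK 3107881 3310 = true := by decide +kernel
theorem c_rel_599 : allRange D.relOK 3111191 3477 = true := by decide +kernel
theorem c_rel_600 : allRange D.relOK 3114668 3031 = true := by decide +kernel
theorem c_rel_601 : allRange D.relOK 3117699 3240 = true := by decide +kernel
theorem c_rel_602 : allRange D.relOK 3120939 3478 = true := by decide +kernel
theorem c_rel_603 : allRange D.relOK 3124417 3029 = true := by decide +kernel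
theorem c_rel_604 : allRange D.relOK 3127446 3275 = true := by decide +kernel
theorem c_rel_605 : allRange D.relOK 3130721 3367 = true := by decide +kernel
theorem c_rel_606 : allRange D.relOK 3134088 3501 = true := by decide +kernel
theorem c_rel_607 : allRange D.relOK 3137589 3214 = true := by decide +kernel
theorem c_rel_608 : allRange D.relOK 3140803 2953 = true := by decide +kernel
theorem c_rel_609 : allRange D.relOK 3143756 3452 = true := by decide +kernel
theorem c_rel_610 : allRange D.relOK 3147208 3227 = true := by decide +kernel
theorem c_rel_611 : allRange D.relOK 3150435 3037 = true := by decide +kernel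
theorem c_rel_612 : allRange D.relOK 3153472 3411 = true := by decide +kernel
theorem c_rel_613 : allRange D.relOK 3156883 3492 = true := by decide +kernel
theorem c_rel_614 : allRange D.relOK 3160375 3315 = true := by decide +kernel
theorem c_rel_615 : allRange D.relOK 3163690 3130 = true := by decide +kernel
theorem c_rel_616 : allRange D.relOK 3166820 3429 = true := by decide +kernel
theorem c_rel_617 : allRange D.relOK 3170249 3137 = true := by decide +kernel
theorem c_rel_618 : allRange D.relOK 3173386 2922 = true := by decide +kernel
theorem c_rel_619 : allRange D.relOK 3176308 3384 = true := by decide +kernel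
theorem c_rel_620 : allRange D.relOK 3179692 3451 = true := by decide +kernel
theorem c_rel_621 : allRange D.relOK 3183143 3221 = true := by decide +kernel
theorem c_rel_622 : allRange D.relOK 3186364 3164 = true := by decide +kernel
theorem c_rel_623 : allRange D.relOK 3189528 3296 = true := by decide +kernel
theorem c_rel_624 : allRange D.relOK 3192824 3528 = true := by decide +kernel
theorem c_rel_625 : allRange D.relOK 3196352 3078 = true := by decide +kernel
theorem c_rel_626 : allRange D.relOK 3199430 3143 = true := by decide +kernel
theorem c_rel_627 : allRange D.relOK 3202573 3269 = true := by decide +kernel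
theorem c_rel_628 : allRange D.relOK 3205842 3346 = true := by decide +kernel
theorem c_rel_629 : allRange D.relOK 3209188 3131 = true := by decide +kernel
theorem c_rel_630 : allRange D.relOK 3212319 2902 = true := by decide +kernel
theorem c_rel_631 : allRange D.relOK 3215221 3489 = true := by decide +kernel
theorem c_rel_632 : allRange D.relOK 3218710 3591 = true := by decide +kernel
theorem c_rel_633 : allRange D.relOK 3222301 3087 = true := by decide +kernel
theorem c_rel_634 : allRange D.relOK 3225388 3466 = true := by decide +kernel
theorem c_rel_635 : allRange D.relOK 3228854 3174 = true := by decide +kernel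
theorem c_rel_636 : allRange D.relOK 3232028 3103 = true := by decide +kernel
theorem c_rel_637 : allRange D.relOK 3235131 3260 = true := by decide +kernel
theorem c_rel_638 : allRange D.relOK 3238391 2872 = true := by decide +kernel
theorem c_rel_639 : allRange D.relOK 3241263 3217 = true := by decide +kernel
theorem c_rel_640 : allRange D.relOK 3244480 3245 = true := by decide +kernel
theorem c_rel_641 : allRange D.relOK 3247725 2879 = true := by decide +kernel
theorem c_rel_642 : allRange D.relOK 3250604 3054 = true := by decide +kernel
theorem c_rel_643 : allRange D.relOK 3253658 3103 = true := by decide +kernel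
theorem c_rel_644 : allRange D.relOK 3256761 3110 = true := by decide +kernel
theorem c_rel_645 : allRange D.relOK 3259871 2986 = true := by decide +kernel
theorem c_rel_646 : allRange D.relOK 3262857 3205 = true := by decide +kernel
theorem c_rel_647 : allRange D.relOK 3266062 2993 = true := by decide +kernel
theorem c_rel_648 : allRange D.relOK 3269055 3460 = true := by decide +kernel
theorem c_rel_649 : allRange D.relOK 3272515 3070 = true := by decide +kernel
theorem c_rel_650 : allRange D.relOK 3275585 2981 = true := by decide +kernel
theorem c_rel_651 : allRange D.relOK 3278566 2825 = true := by decide +kernel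
theorem c_rel_652 : allRange D.relOK 3281391 3052 = true := by decide +kernel
theorem c_rel_653 : allRange D.relOK 3284443 3179 = true := by decide +kernel
theorem c_rel_654 : allRange D.relOK 3287622 2967 = true := by decide +kernel
theorem c_rel_655 : allRange D.relOK 3290589 2960 = true := by decide +kernel
theorem c_rel_656 : allRange D.relOK 3293549 3146 = true := by decide +kernel
theorem c_rel_657 : allRange D.relOK 3296695 2958 = true := by decide +kernel
theorem c_rel_658 : allRange D.relOK 3299653 2826 = true := by decide +kernel
theorem c_rel_659 : allRange D.relOK 3302479 2940 = true := by decide +kernel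
theorem c_rel_660 : allRange D.relOK 3305419 2810 = true := by decide +kernel
theorem c_rel_661 : allRange D.relOK 3308229 3006 = true := by decide +kernel
theorem c_rel_662 : allRange D.relOK 3311235 2932 = true := by decide +kernel
theorem c_rel_663 : allRange D.relOK 3314167 2786 = true := by decide +kernel
theorem c_rel_664 : allRange D.relOK 3316953 2897 = true := by decide +kernel
theorem c_rel_665 : allRange D.relOK 3319850 3058 = true := by decide +kernel
theorem c_rel_666 : allRange D.relOK 3322908 2960 = true := by decide +kernel
theorem c_rel_667 : allRange D.relOK 3325868 3132 = true := by decide +kernel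
theorem c_rel_668 : allRange D.relOK 3329000 3190 = true := by decide +kernel
theorem c_rel_669 : allRange D.relOK 3332190 2720 = true := by decide +kernel
theorem c_rel_670 : allRange D.relOK 3334910 3036 = true := by decide +kernel
theorem c_rel_671 : allRange D.relOK 3337946 3043 = true := by decide +kernel
theorem c_rel_672 : allRange D.relOK 3340989 3105 = true := by decide +kernel
theorem c_rel_673 : allRange D.relOK 3344094 3139 = true := by decide +kernel
theorem c_rel_674 : allRange D.relOK 3347233 3041 = true := by decide +kernel
theorem c_rel_675 : allRange D.relOK 3350274 3050 = true := by decide +kernel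
theorem c_rel_676 : allRange D.relOK 3353324 2903 = true := by decide +kernel
theorem c_rel_677 : allRange D.relOK 3356227 3059 = true := by decide +kernel
theorem c_rel_678 : allRange D.relOK 3359286 2769 = true := by decide +kernel
theorem c_rel_679 : allRange D.relOK 3362055 2957 = true := by decide +kernel
theorem c_rel_680 : allRange D.relOK 3365012 3159 = true := by decide +kernel
theorem c_rel_681 : allRange D.relOK 3368171 2954 = true := by decide +kernel
theorem c_rel_682 : allRange D.relOK 3371125 3029 = true := by decide +kernel
theorem c_rel_683 : allRange D.relOK 3374154 2825 = true := by decide +kernel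
theorem c_rel_684 : allRange D.relOK 3376979 2963 = true := by decide +kernel
theorem c_rel_685 : allRange D.relOK 3379942 3040 = true := by decide +kernel
theorem c_rel_686 : allRange D.relOK 3382982 3135 = true := by decide +kernel
theorem c_rel_687 : allRange D.relOK 3386117 2976 = true := by decide +kernel
theorem c_rel_688 : allRange D.relOK 3389093 3255 = true := by decide +kernel

end Cfsg.Agent.Lib.Helper4.TCD.STitspp2A
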