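import Cfsg.Agent.Lib.Helper4.TCD_STitspp2A_Acc

namespace Cfsg.Agent.Lib.Helper4.TCD.STitspp2A

open Cfsg.Agent.Lib.Helper4.TC

set_option maxRecDepth 100000
set_option Elab.async false

theorem c_rel_689 : allRange D.relOK 3392348 3130 = true := by decide +kernel
theorem c_rel_690 : allRange D.relOK 3395478 3108 = true := by decide +kernel
theorem c_rel_691 : allRange D.relOK 3398586 3022 = true := by decide +kernel
theorem c_rel_692 : allRange D.relOK 3401608 3084 = true := by decide +kernel
theorem c_rel_693 : allRange D.relOK 3404692 2648 = true := by decide +kernel
theorem c_rel_694 : allRange D.relOK 3407340 3189 = true := by decide +kernel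
theorem c_rel_695 : allRange D.relOK 3410529 2829 = true := by decide +kernel
theorem c_rel_696 : allRange D.relOK 3413358 2970 = true := by decide +kernel
theorem c_rel_697 : allRange D.relOK 3416328 2971 = true := by decide +kernel
theorem c_rel_698 : allRange D.relOK 3419299 3256 = true := by decide +kernel
theorem c_rel_699 : allRange D.relOK 3422555 3005 = true := by decide +kernel
theorem c_rel_700 : allRange D.relOK 3425560 2872 = true := by decide +kernel
theorem c_rel_701 : allRange D.relOK 3428432 2941 = true := by decide +kernel
theorem c_rel_702 : allRange D.relOK 3431373 2776 = true := by decide +kernel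
theorem c_rel_703 : allRange D.relOK 3434149 2562 = true := by decide +kernel
theorem c_rel_704 : allRange D.relOK 3436711 3357 = true := by decide +kernel
theorem c_rel_705 : allRange D.relOK 3440068 3116 = true := by decide +kernel
theorem c_rel_706 : allRange D.relOK 3443184 3206 = true := by decide +kernel
theorem c_rel_707 : allRange D.relOK 3446390 3160 = true := by decide +kernel
theorem c_rel_708 : allRange D.relOK 3449550 3103 = true := by decide +kernel
theorem c_rel_709 : allRange D.relOK 3452653 3318 = true := by decide +kernel
theorem c_rel_710 : allRange D.relOK 3455971 2821 = true := by decide +kernel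
theorem c_rel_711 : allRange D.relOK 3458792 3082 = true := by decide +kernel
theorem c_rel_712 : allRange D.relOK 3461874 2807 = true := by decide +kernel
theorem c_rel_713 : allRange D.relOK 3464681 2756 = true := by decide +kernel
theorem c_rel_714 : allRange D.relOK 3467437 2859 = true := by decide +kernel
theorem c_rel_715 : allRange D.relOK 3470296 3026 = true := by decide +kernel
theorem c_rel_716 : allRange D.relOK 3473322 3227 = true := by decide +kernel
theorem c_rel_717 : allRange D.relOK 3476549 2968 = true := by decide +kernel
theorem c_rel_718 : allRange D.relOK 3479517 2936 = true := by decide +kernel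
theorem c_rel_719 : allRange D.relOK 3482453 2885 = true := by decide +kernel
theorem c_rel_720 : allRange D.relOK 3485338 3002 = true := by decide +kernel
theorem c_rel_721 : allRange D.relOK 3488340 3213 = true := by decide +kernel
theorem c_rel_722 : allRange D.relOK 3491553 2914 = true := by decide +kernel
theorem c_rel_723 : allRange D.relOK 3494467 3030 = true := by decide +kernel
theorem c_rel_724 : allRange D.relOK 3497497 2840 = true := by decide +kernel
theorem c_rel_725 : allRange D.relOK 3500337 2689 = true := by decide +kernel
theorem c_rel_726 : allRange D.relOK 3503026 2672 = true := by decide +kernel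
theorem c_rel_727 : allRange D.relOK 3505698 2660 = true := by decide +kernel
theorem c_rel_728 : allRange D.relOK 3508358 2626 = true := by decide +kernel
theorem c_rel_729 : allRange D.relOK 3510984 2589 = true := by decide +kernel
theorem c_rel_730 : allRange D.relOK 3513573 2602 = true := by decide +kernel
theorem c_rel_731 : allRange D.relOK 3516175 2607 = true := by decide +kernel
theorem c_rel_732 : allRange D.relOK 3518782 2565 = true := by decide +kernel
theorem c_rel_733 : allRange D.relOK 3521347 2578 = true := by decide +kernel
theorem c_rel_734 : allRange D.relOK 3523925 2539 = true := by decide +kernel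
theorem c_rel_735 : allRange D.relOK 3526464 2532 = true := by decide +kernel
theorem c_rel_736 : allRange D.relOK 3528996 2497 = true := by decide +kernel
theorem c_rel_737 : allRange D.relOK 3531493 2506 = true := by decide +kernel
theorem c_rel_738 : allRange D.relOK 3533999 2537 = true := by decide +kernel
theorem c_rel_739 : allRange D.relOK 3536536 2485 = true := by decide +kernel
theorem c_rel_740 : allRange D.relOK 3539021 2464 = true := by decide +kernel
theorem c_rel_741 : allRange D.relOK 3541485 2492 = true := by decide +kernel
theorem c_rel_742 : allRange D.relOK 3543977 2488 = true := by decide +kernel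
theorem c_rel_743 : allRange D.relOK 3546465 2489 = true := by decide +kernel
theorem c_rel_744 : allRange D.relOK 3548954 2472 = true := by decide +kernel
theorem c_rel_745 : allRange D.relOK 3551426 2475 = true := by decide +kernel
theorem c_rel_746 : allRange D.relOK 3553901 2486 = true := by decide +kernel
theorem c_rel_747 : allRange D.relOK 3556387 2464 = true := by decide +kernel
theorem c_rel_748 : allRange D.relOK 3558851 2518 = true := by decide +kernel
theorem c_rel_749 : allRange D.relOK 3561369 2505 = true := by decide +kernel
theorem c_rel_750 : allRange D.relOK 3563874 2496 = true := by decide +kernel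
theorem c_rel_751 : allRange D.relOK 3566370 2515 = true := by decide +kernel
theorem c_rel_752 : allRange D.relOK 3568885 2497 = true := by decide +kernel
theorem c_rel_753 : allRange D.relOK 3571382 2492 = true := by decide +kernel
theorem c_rel_754 : allRange D.relOK 3573874 2517 = true := by decide +kernel
theorem c_rel_755 : allRange D.relOK 3576391 2592 = true := by decide +kernel
theorem c_rel_756 : allRange D.relOK 3578983 2531 = true := by decide +kernel
theorem c_rel_757 : allRange D.relOK 3581514 2527 = true := by decide +kernel
theorem c_rel_758 : allRange D.relOK 3584041 2563 = true := by decide +kernel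
theorem c_rel_759 : allRange D.relOK 3586604 2572 = true := by decide +kernel
theorem c_rel_760 : allRange D.relOK 3589176 2614 = true := by decide +kernel
theorem c_rel_761 : allRange D.relOK 3591790 2584 = true := by decide +kernel
theorem c_rel_762 : allRange D.relOK 3594374 2596 = true := by decide +kernel
theorem c_rel_763 : allRange D.relOK 3596970 2599 = true := by decide +kernel
theorem c_rel_764 : allRange D.relOK 3599569 2597 = true := by decide +kernel
theorem c_rel_765 : allRange D.relOK 3602166 2673 = true := by decide +kernel
theorem c_rel_766 : allRange D.relOK 3604839 2600 = true := by decide +kernel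
theorem c_rel_767 : allRange D.relOK 3607439 2642 = true := by decide +kernel
theorem c_rel_768 : allRange D.relOK 3610081 2619 = true := by decide +kernel
theorem c_rel_769 : allRange D.relOK 3612700 2685 = true := by decide +kernel
theorem c_rel_770 : allRange D.relOK 3615385 2637 = true := by decide +kernel
theorem c_rel_771 : allRange D.relOK 3618022 2603 = true := by decide +kernel
theorem c_rel_772 : allRange D.relOK 3620625 2628 = true := by decide +kernel
theorem c_rel_773 : allRange D.relOK 3623253 2704 = true := by decide +kernel
theorem c_rel_774 : allRange D.relOK 3625957 2617 = true := by decide +kernel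
theorem c_rel_775 : allRange D.relOK 3628574 2608 = true := by decide +kernel
theorem c_rel_776 : allRange D.relOK 3631182 2657 = true := by decide +kernel
theorem c_rel_777 : allRange D.relOK 3633839 2621 = true := by decide +kernel
theorem c_rel_778 : allRange D.relOK 3636460 2635 = true := by decide +kernel
theorem c_rel_779 : allRange D.relOK 3639095 2627 = true := by decide +kernel
theorem c_rel_780 : allRange D.relOK 3641722 2605 = true := by decide +kernel
theorem c_rel_781 : allRange D.relOK 3644327 2598 = true := by decide +kernel
theorem c_rel_782 : allRange D.relOK 3646925 2604 = true := by decide +kernel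
theorem c_rel_783 : allRange D.relOK 3649529 2596 = true := by decide +kernel
theorem c_rel_784 : allRange D.relOK 3652125 2583 = true := by decide +kernel
theorem c_rel_785 : allRange D.relOK 3654708 2604 = true := by decide +kernel
theorem c_rel_786 : allRange D.relOK 3657312 2556 = true := by decide +kernel
theorem c_rel_787 : allRange D.relOK 3659868 2592 = true := by decide +kernel

end Cfsg.Agent.Lib.Helper4.TCD.STitspp2A
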