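import Cfsg.Agent.Lib.Helper4.TCD_STitspp2A_C0
import Cfsg.Agent.Lib.Helper4.TCD_STitspp2A_C1
import Cfsg.Agent.Lib.Helper4.TCD_STitspp2A_C2
import Cfsg.Agent.Lib.Helper4.TCD_STitspp2A_C3
import Cfsg.Agent.Lib.Helper4.TCD_STitspp2A_C4
import Cfsg.Agent.Lib.Helper4.TCD_STitspp2A_C5
import Cfsg.Agent.Lib.Helper4.TCD_STitspp2A_C6
import Cfsg.Agent.Lib.Helper4.TCD_STitspp2A_C7
import Cfsg.Agent.Lib.Helper4.TCD_STitspp2A_C8
import Cfsg.Agent.Lib.Helper4.TCD_STitspp2A_C9
import Cfsg.Agent.Lib.Helper4.TCD_STitspp2A_C10

namespace Cfsg.Agent.Lib.Helper4.TCD.STitspp2A

open Cfsg.Agent.Lib.Helper4.TC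

theorem h_rel_p0 : ∀ t, 1215883 ≤ t → t < 1343338 → D.relOK t = true :=
  (range_glue (range_of_allRange c_rel_0) (range_glue (range_of_allRange c_rel_1) (range_glue (range_of_allRange c_rel_2) (range_glue (range_of_allRange c_rel_3) (range_glue (range_of_allRange c_rel_4) (range_glue (range_of_allRange c_rel_5) (range_glue (range_of_allRange c_rel_6) (range_glue (range_of_allRange c_rel_7) (range_glue (range_of_allRange c_rel_8) (range_glue (range_of_allRange c_rel_9) (range_glue (range_of_allRange c_rel_10) (range_glue (range_of_allRange c_rel_11) (range_glue (range_of_allRange c_rel_12) (range_glue (range_of_allRange c_rel_13) (range_glue (range_of_allRange c_rel_14) (range_glue (range_of_allRange c_rel_15) (range_glue (range_of_allRange c_rel_16) (range_glue (range_of_allRange c_rel_17) (range_glue (range_of_allRange c_rel_18) (range_glue (range_of_allRange c_rel_19) (range_glue (range_of_allRange c_rel_20) (range_glue (range_of_allRange c_rel_21) (range_glue (range_of_allRange c_rel_22) (range_glue (range_of_allRange c_rel_23) (range_glue (range_of_allRange c_rel_24) (range_glue (range_of_allRange c_rel_25) (range_glue (range_of_allRange c_rel_26)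 (range_glue (range_of_allRange c_rel_27) (range_glue (range_of_allRange c_rel_28) (range_glue (range_of_allRange c_rel_29) (range_glue (range_of_allRange c_rel_30) (range_glue (range_of_allRange c_rel_31) (range_glue (range_of_allRange c_rel_32) (range_glue (range_of_allRange c_rel_33) (range_glue (range_of_allRange c_rel_34) (range_glue (range_of_allRange c_rel_35) (range_glue (range_of_allRange c_rel_36) (range_glue (range_of_allRange c_rel_37) (range_glue (range_of_allRange c_rel_38) (range_of_allRange c_rel_39))))))))))))))))))))))))))))))))))))))))
theorem h_rel_p1 : ∀ t, 1343338 ≤ t → t < 1465961 → D.relOK t = true :=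
  (range_glue (range_of_allRange c_rel_40) (range_glue (range_of_allRange c_rel_41) (range_glue (range_of_allRange c_rel_42) (range_glue (range_of_allRange c_rel_43) (range_glue (range_of_allRange c_rel_44) (range_glue (range_of_allRange c_rel_45) (range_glue (range_of_allRange c_rel_46) (range_glue (range_of_allRange c_rel_47) (range_glue (range_of_allRange c_rel_48) (range_glue (range_of_allRange c_rel_49) (range_glue (range_of_allRange c_rel_50) (range_glue (range_of_allRange c_rel_51) (range_glue (range_of_allRange c_rel_52) (range_glue (range_of_allRange c_rel_53) (range_glue (range_of_allRange c_rel_54) (range_glue (range_of_allRange c_rel_55) (range_glue (range_of_allRange c_rel_56) (range_glue (range_of_allRange c_rel_57) (range_glue (range_of_allRange c_rel_58) (range_glue (range_of_allRange c_rel_59) (range_glue (range_of_allRange c_rel_60) (range_glue (range_of_allRange c_rel_61) (range_glue (range_of_allRange c_rel_62) (range_glue (range_of_allRange c_rel_63) (range_glue (range_of_allRange c_rel_64) (range_glue (range_of_allRange c_rel_65) (range_glue (range_of_allRange c_rel_66) (range_glue (range_of_allRange c_rel_67) (range_glue (range_of_allRange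 c_rel_68) (range_glue (range_of_allRange c_rel_69) (range_glue (range_of_allRange c_rel_70) (range_glue (range_of_allRange c_rel_71) (range_glue (range_of_allRange c_rel_72) (range_glue (range_of_allRange c_rel_73) (range_glue (range_of_allRange c_rel_74) (range_glue (range_of_allRange c_rel_75) (range_glue (range_of_allRange c_rel_76) (range_glue (range_of_allRange c_rel_77) (range_glue (range_of_allRange c_rel_78) (range_of_allRange c_rel_79))))))))))))))))))))))))))))))))))))))))
theorem h_rel_p2 : ∀ t, 1465961 ≤ t → t < 1593466 → D.relOK t = true :=
  (range_glue (range_of_allRange c_rel_80) (range_glue (range_of_allRange c_rel_81) (range_glue (range_of_allRange c_rel_82) (range_glue (range_of_allRange c_rel_83) (range_glue (range_of_allRange c_rel_84) (range_glue (range_of_allRange c_rel_85) (range_glue (range_of_allRange c_rel_86) (range_glue (range_of_allRange c_rel_87) (range_glue (range_of_allRange c_rel_88) (range_glue (range_of_allRange c_rel_89) (range_glue (range_of_allRange c_rel_90) (range_glue (range_of_allRange c_rel_91) (range_glue (range_of_allRange c_rel_92) (range_glue (range_of_allRange c_rel_93) (range_glue (range_of_allRange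 c_rel_94) (range_glue (range_of_allRange c_rel_95) (range_glue (range_of_allRange c_rel_96) (range_glue (range_of_allRange c_rel_97) (range_glue (range_of_allRange c_rel_98) (range_glue (range_of_allRange c_rel_99) (range_glue (range_of_allRange c_rel_100) (range_glue (range_of_allRange c_rel_101) (range_glue (range_of_allRange c_rel_102) (range_glue (range_of_allRange c_rel_103) (range_glue (range_of_allRange c_rel_104) (range_glue (range_of_allRange c_rel_105) (range_glue (range_of_allRange c_rel_106) (range_glue (range_of_allRange c_rel_107) (range_glue (range_of_allRange c_rel_108) (range_glue (range_of_allRange c_rel_109) (range_glue (range_of_allRange c_rel_110) (range_glue (range_of_allRange c_rel_111) (range_glue (range_of_allRange c_rel_112) (range_glue (range_of_allRange c_rel_113) (range_glue (range_of_allRange c_rel_114) (range_glue (range_of_allRange c_rel_115) (range_glue (range_of_allRange c_rel_116) (range_glue (range_of_allRange c_rel_117) (range_glue (range_of_allRange c_rel_118) (range_of_allRange c_rel_119))))))))))))))))))))))))))))))))))))))))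
theorem h_rel_p3 : ∀ t, 1593466 ≤ t → t < 1739415 → D.relOK t = true :=
  (range_glue (range_of_allRange c_rel_120) (range_glue (range_of_allRange c_rel_121) (range_glue (range_of_allRange c_rel_122) (range_glue (range_of_allRange c_rel_123) (range_glue (range_of_allRange c_rel_124) (range_glue (range_of_allRange c_rel_125) (range_glue (range_of_allRange c_rel_126) (range_glue (range_of_allRange c_rel_127) (range_glue (range_of_allRange c_rel_128) (range_glue (range_of_allRange c_rel_129) (range_glue (range_of_allRange c_rel_130) (range_glue (range_of_allRange c_rel_131) (range_glue (range_of_allRange c_rel_132) (range_glue (range_of_allRange c_rel_133) (range_glue (range_of_allRange c_rel_134) (range_glue (range_of_allRange c_rel_135) (range_glue (range_of_allRange c_rel_136) (range_glue (range_of_allRange c_rel_137) (range_glue (range_of_allRange c_rel_138) (range_glue (range_of_allRange c_rel_139) (range_glue (range_of_allRange c_rel_140) (range_glue (range_of_allRange c_rel_141) (range_glue (range_of_allRange c_rel_142) (range_glue (range_of_allRange c_rel_143) (range_glue (range_of_allRange c_rel_144) (range_glue (range_of_allRange c_rel_145)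 (range_glue (range_of_allRange c_rel_146) (range_glue (range_of_allRange c_rel_147) (range_glue (range_of_allRange c_rel_148) (range_glue (range_of_allRange c_rel_149) (range_glue (range_of_allRange c_rel_150) (range_glue (range_of_allRange c_rel_151) (range_glue (range_of_allRange c_rel_152) (range_glue (range_of_allRange c_rel_153) (range_glue (range_of_allRange c_rel_154) (range_glue (range_of_allRange c_rel_155) (range_glue (range_of_allRange c_rel_156) (range_glue (range_of_allRange c_rel_157) (range_glue (range_of_allRange c_rel_158) (range_of_allRange c_rel_159))))))))))))))))))))))))))))))))))))))))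
theorem h_rel_p4 : ∀ t, 1739415 ≤ t → t < 1860087 → D.relOK t = true :=
  (range_glue (range_of_allRange c_rel_160) (range_glue (range_of_allRange c_rel_161) (range_glue (range_of_allRange c_rel_162) (range_glue (range_of_allRange c_rel_163) (range_glue (range_of_allRange c_rel_164) (range_glue (range_of_allRange c_rel_165) (range_glue (range_of_allRange c_rel_166) (range_glue (range_of_allRange c_rel_167) (range_glue (range_of_allRange c_rel_168) (range_glue (range_of_allRange c_rel_169) (range_glue (range_of_allRange c_rel_170) (range_glue (range_of_allRange c_rel_171) (range_glue (range_of_allRange c_rel_172) (range_glue (range_of_allRange c_rel_173) (range_glue (range_of_allRange c_rel_174) (range_glue (range_of_allRange c_rel_175) (range_glue (range_of_allRange c_rel_176) (range_glue (range_of_allRange c_rel_177) (range_glue (range_of_allRange c_rel_178) (range_glue (range_of_allRange c_rel_179) (range_glue (range_of_allRange c_rel_180) (range_glue (range_of_allRange c_rel_181) (range_glue (range_of_allRange c_rel_182) (range_glue (range_of_allRange c_rel_183) (range_glue (range_of_allRange c_rel_184) (range_glue (range_of_allRange c_rel_185)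 (range_glue (range_of_allRange c_rel_186) (range_glue (range_of_allRange c_rel_187) (range_glue (range_of_allRange c_rel_188) (range_glue (range_of_allRange c_rel_189) (range_glue (range_of_allRange c_rel_190) (range_glue (range_of_allRange c_rel_191) (range_glue (range_of_allRange c_rel_192) (range_glue (range_of_allRange c_rel_193) (range_glue (range_of_allRange c_rel_194) (range_glue (range_of_allRange c_rel_195) (range_glue (range_of_allRange c_rel_196) (range_glue (range_of_allRange c_rel_197) (range_glue (range_of_allRange c_rel_198) (range_of_allRange c_rel_199))))))))))))))))))))))))))))))))))))))))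
theorem h_rel_p5 : ∀ t, 1860087 ≤ t → t < 1975105 → D.relOK t = true :=
  (range_glue (range_of_allRange c_rel_200) (range_glue (range_of_allRange c_rel_201) (range_glue (range_of_allRange c_rel_202) (range_glue (range_of_allRange c_rel_203) (range_glue (range_of_allRange c_rel_204) (range_glue (range_of_allRange c_rel_205) (range_glue (range_of_allRange c_rel_206) (range_glue (range_of_allRange c_rel_207) (range_glue (range_of_allRange c_rel_208) (range_glue (range_of_allRange c_rel_209) (range_glue (range_of_allRange c_rel_210) (range_glue (range_of_allRange c_rel_211) (range_glue (range_of_allRange c_rel_212) (range_glue (range_of_allRange c_rel_213) (range_glue (range_of_allRange c_rel_214) (range_glue (range_of_allRange c_rel_215) (range_glue (range_of_allRange c_rel_216) (range_glue (range_of_allRange c_rel_217) (range_glue (range_of_allRange c_rel_218) (range_glue (range_of_allRange c_rel_219) (range_glue (range_of_allRange c_rel_220) (range_glue (range_of_allRange c_rel_221) (range_glue (range_of_allRange c_rel_222) (range_glue (range_of_allRange c_rel_223) (range_glue (range_of_allRange c_rel_224) (range_glue (range_of_allRange c_rel_225)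 (range_glue (range_of_allRange c_rel_226) (range_glue (range_of_allRange c_rel_227) (range_glue (range_of_allRange c_rel_228) (range_glue (range_of_allRange c_rel_229) (range_glue (range_of_allRange c_rel_230) (range_glue (range_of_allRange c_rel_231) (range_glue (range_of_allRange c_rel_232) (range_glue (range_of_allRange c_rel_233) (range_glue (range_of_allRange c_rel_234) (range_glue (range_of_allRange c_rel_235) (range_glue (range_of_allRange c_rel_236) (range_glue (range_of_allRange c_rel_237) (range_glue (range_of_allRange c_rel_238) (range_of_allRange c_rel_239))))))))))))))))))))))))))))))))))))))))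
theorem h_rel_p6 : ∀ t, 1975105 ≤ t → t < 2094943 → D.relOK t = true :=
  (range_glue (range_of_allRange c_rel_240) (range_glue (range_of_allRange c_rel_241) (range_glue (range_of_allRange c_rel_242) (range_glue (range_of_allRange c_rel_243) (range_glue (range_of_allRange c_rel_244) (range_glue (range_of_allRange c_rel_245) (range_glue (range_of_allRange c_rel_246) (range_glue (range_of_allRange c_rel_247) (range_glue (range_of_allRange c_rel_248) (range_glue (range_of_allRange c_rel_249) (range_glue (range_of_allRange c_rel_250) (range_glue (range_of_allRange c_rel_251) (range_glue (range_of_allRange c_rel_252) (range_glue (range_of_allRange c_rel_253) (range_glue (range_of_allRange c_rel_254) (range_glue (range_of_allRange c_rel_255) (range_glue (range_of_allRange c_rel_256) (range_glue (range_of_allRange c_rel_257) (range_glue (range_of_allRange c_rel_258) (range_glue (range_of_allRange c_rel_259) (range_glue (range_of_allRange c_rel_260) (range_glue (range_of_allRange c_rel_261) (range_glue (range_of_allRange c_rel_262) (range_glue (range_of_allRange c_rel_263) (range_glue (range_of_allRange c_rel_264) (range_glue (range_of_allRange c_rel_265)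 (range_glue (range_of_allRange c_rel_266) (range_glue (range_of_allRange c_rel_267) (range_glue (range_of_allRange c_rel_268) (range_glue (range_of_allRange c_rel_269) (range_glue (range_of_allRange c_rel_270) (range_glue (range_of_allRange c_rel_271) (range_glue (range_of_allRange c_rel_272) (range_glue (range_of_allRange c_rel_273) (range_glue (range_of_allRange c_rel_274) (range_glue (range_of_allRange c_rel_275) (range_glue (range_of_allRange c_rel_276) (range_glue (range_of_allRange c_rel_277) (range_glue (range_of_allRange c_rel_278) (range_of_allRange c_rel_279))))))))))))))))))))))))))))))))))))))))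
theorem h_rel_p7 : ∀ t, 2094943 ≤ t → t < 2208743 → D.relOK t = true :=
  (range_glue (range_of_allRange c_rel_280) (range_glue (range_of_allRange c_rel_281) (range_glue (range_of_allRange c_rel_282) (range_glue (range_of_allRange c_rel_283) (range_glue (range_of_allRange c_rel_284) (range_glue (range_of_allRange c_rel_285) (range_glue (range_of_allRange c_rel_286) (range_glue (range_of_allRange c_rel_287) (range_glue (range_of_allRange c_rel_288) (range_glue (range_of_allRange c_rel_289) (range_glue (range_of_allRange c_rel_290) (range_glue (range_of_allRange c_rel_291) (range_glue (range_of_allRange c_rel_292) (range_glue (range_of_allRange c_rel_293) (range_glue (range_of_allRange c_rel_294) (range_glue (range_of_allRange c_rel_295) (range_glue (range_of_allRange c_rel_296) (range_glue (range_of_allRange c_rel_297) (range_glue (range_of_allRange c_rel_298) (range_glue (range_of_allRange c_rel_299) (range_glue (range_of_allRange c_rel_300) (range_glue (range_of_allRange c_rel_301) (range_glue (range_of_allRange c_rel_302) (range_glue (range_of_allRange c_rel_303) (range_glue (range_of_allRange c_rel_304) (range_glue (range_of_allRange c_rel_305)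 (range_glue (range_of_allRange c_rel_306) (range_glue (range_of_allRange c_rel_307) (range_glue (range_of_allRange c_rel_308) (range_glue (range_of_allRange c_rel_309) (range_glue (range_of_allRange c_rel_310) (range_glue (range_of_allRange c_rel_311) (range_glue (range_of_allRange c_rel_312) (range_glue (range_of_allRange c_rel_313) (range_glue (range_of_allRange c_rel_314) (range_glue (range_of_allRange c_rel_315) (range_glue (range_of_allRange c_rel_316) (range_glue (range_of_allRange c_rel_317) (range_glue (range_of_allRange c_rel_318) (range_of_allRange c_rel_319))))))))))))))))))))))))))))))))))))))))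
theorem h_rel_p8 : ∀ t, 2208743 ≤ t → t < 2325594 → D.relOK t = true :=
  (range_glue (range_of_allRange c_rel_320) (range_glue (range_of_allRange c_rel_321) (range_glue (range_of_allRange c_rel_322) (range_glue (range_of_allRange c_rel_323) (range_glue (range_of_allRange c_rel_324) (range_glue (range_of_allRange c_rel_325) (range_glue (range_of_allRange c_rel_326) (range_glue (range_of_allRange c_rel_327) (range_glue (range_of_allRange c_rel_328) (range_glue (range_of_allRange c_rel_329) (range_glue (range_of_allRange c_rel_330) (range_glue (range_of_allRange c_rel_331) (range_glue (range_of_allRange c_rel_332) (range_glue (range_of_allRange c_rel_333) (range_glue (range_of_allRange c_rel_334) (range_glue (range_of_allRange c_rel_335) (range_glue (range_of_allRange c_rel_336) (range_glue (range_of_allRange c_rel_337) (range_glue (range_of_allRange c_rel_338) (range_glue (range_of_allRange c_rel_339) (range_glue (range_of_allRange c_rel_340) (range_glue (range_of_allRange c_rel_341) (range_glue (range_of_allRange c_rel_342) (range_glue (range_of_allRange c_rel_343) (range_glue (range_of_allRange c_rel_344) (range_glue (range_of_allRange c_rel_345)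 (range_glue (range_of_allRange c_rel_346) (range_glue (range_of_allRange c_rel_347) (range_glue (range_of_allRange c_rel_348) (range_glue (range_of_allRange c_rel_349) (range_glue (range_of_allRange c_rel_350) (range_glue (range_of_allRange c_rel_351) (range_glue (range_of_allRange c_rel_352) (range_glue (range_of_allRange c_rel_353) (range_glue (range_of_allRange c_rel_354) (range_glue (range_of_allRange c_rel_355) (range_glue (range_of_allRange c_rel_356) (range_glue (range_of_allRange c_rel_357) (range_glue (range_of_allRange c_rel_358) (range_of_allRange c_rel_359))))))))))))))))))))))))))))))))))))))))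
theorem h_rel_p9 : ∀ t, 2325594 ≤ t → t < 2459468 → D.relOK t = true :=
  (range_glue (range_of_allRange c_rel_360) (range_glue (range_of_allRange c_rel_361) (range_glue (range_of_allRange c_rel_362) (range_glue (range_of_allRange c_rel_363) (range_glue (range_of_allRange c_rel_364) (range_glue (range_of_allRange c_rel_365) (range_glue (range_of_allRange c_rel_366) (range_glue (range_of_allRange c_rel_367) (range_glue (range_of_allRange c_rel_368) (range_glue (range_of_allRange c_rel_369) (range_glue (range_of_allRange c_rel_370) (range_glue (range_of_allRange c_rel_371) (range_glue (range_of_allRange c_rel_372) (range_glue (range_of_allRange c_rel_373) (range_glue (range_of_allRange c_rel_374) (range_glue (range_of_allRange c_rel_375) (range_glue (range_of_allRange c_rel_376) (range_glue (range_of_allRange c_rel_377) (range_glue (range_of_allRange c_rel_378) (range_glue (range_of_allRange c_rel_379) (range_glue (range_of_allRange c_rel_380) (range_glue (range_of_allRange c_rel_381) (range_glue (range_of_allRange c_rel_382) (range_glue (range_of_allRange c_rel_383) (range_glue (range_of_allRange c_rel_384) (range_glue (range_of_allRange c_rel_385)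 (range_glue (range_of_allRange c_rel_386) (range_glue (range_of_allRange c_rel_387) (range_glue (range_of_allRange c_rel_388) (range_glue (range_of_allRange c_rel_389) (range_glue (range_of_allRange c_rel_390) (range_glue (range_of_allRange c_rel_391) (range_glue (range_of_allRange c_rel_392) (range_glue (range_of_allRange c_rel_393) (range_glue (range_of_allRange c_rel_394) (range_glue (range_of_allRange c_rel_395) (range_glue (range_of_allRange c_rel_396) (range_glue (range_of_allRange c_rel_397) (range_glue (range_of_allRange c_rel_398) (range_of_allRange c_rel_399))))))))))))))))))))))))))))))))))))))))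
theorem h_rel_p10 : ∀ t, 2459468 ≤ t → t < 2593999 → D.relOK t = true :=
  (range_glue (range_of_allRange c_rel_400) (range_glue (range_of_allRange c_rel_401) (range_glue (range_of_allRange c_rel_402) (range_glue (range_of_allRange c_rel_403) (range_glue (range_of_allRange c_rel_404) (range_glue (range_of_allRange c_rel_405) (range_glue (range_of_allRange c_rel_406) (range_glue (range_of_allRange c_rel_407) (range_glue (range_of_allRange c_rel_408) (range_glue (range_of_allRange c_rel_409) (range_glue (range_of_allRange c_rel_410) (range_glue (range_of_allRange c_rel_411) (range_glue (range_of_allRange c_rel_412) (range_glue (range_of_allRange c_rel_413) (range_glue (range_of_allRange c_rel_414) (range_glue (range_of_allRange c_rel_415) (range_glue (range_of_allRange c_rel_416) (range_glue (range_of_allRange c_rel_417) (range_glue (range_of_allRange c_rel_418) (range_glue (range_of_allRange c_rel_419) (range_glue (range_of_allRange c_rel_420) (range_glue (range_of_allRange c_rel_421) (range_glue (range_of_allRange c_rel_422) (range_glue (range_of_allRange c_rel_423) (range_glue (range_of_allRange c_rel_424) (range_glue (range_of_allRange c_rel_425)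 (range_glue (range_of_allRange c_rel_426) (range_glue (range_of_allRange c_rel_427) (range_glue (range_of_allRange c_rel_428) (range_glue (range_of_allRange c_rel_429) (range_glue (range_of_allRange c_rel_430) (range_glue (range_of_allRange c_rel_431) (range_glue (range_of_allRange c_rel_432) (range_glue (range_of_allRange c_rel_433) (range_glue (range_of_allRange c_rel_434) (range_glue (range_of_allRange c_rel_435) (range_glue (range_of_allRange c_rel_436) (range_glue (range_of_allRange c_rel_437) (range_glue (range_of_allRange c_rel_438) (range_of_allRange c_rel_439))))))))))))))))))))))))))))))))))))))))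
theorem h_rel_p11 : ∀ t, 2593999 ≤ t → t < 2723579 → D.relOK t = true :=
  (range_glue (range_of_allRange c_rel_440) (range_glue (range_of_allRange c_rel_441) (range_glue (range_of_allRange c_rel_442) (range_glue (range_of_allRange c_rel_443) (range_glue (range_of_allRange c_rel_444) (range_glue (range_of_allRange c_rel_445) (range_glue (range_of_allRange c_rel_446) (range_glue (range_of_allRange c_rel_447) (range_glue (range_of_allRange c_rel_448) (range_glue (range_of_allRange c_rel_449) (range_glue (range_of_allRange c_rel_450) (range_glue (range_of_allRange c_rel_451) (range_glue (range_of_allRange c_rel_452) (range_glue (range_of_allRange c_rel_453) (range_glue (range_of_allRange c_rel_454) (range_glue (range_of_allRange c_rel_455) (range_glue (range_of_allRange c_rel_456) (range_glue (range_of_allRange c_rel_457) (range_glue (range_of_allRange c_rel_458) (range_glue (range_of_allRange c_rel_459) (range_glue (range_of_allRange c_rel_460) (range_glue (range_of_allRange c_rel_461) (range_glue (range_of_allRange c_rel_462) (range_glue (range_of_allRange c_rel_463) (range_glue (range_of_allRange c_rel_464) (range_glue (range_of_allRange c_rel_465)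 (range_glue (range_of_allRange c_rel_466) (range_glue (range_of_allRange c_rel_467) (range_glue (range_of_allRange c_rel_468) (range_glue (range_of_allRange c_rel_469) (range_glue (range_of_allRange c_rel_470) (range_glue (range_of_allRange c_rel_471) (range_glue (range_of_allRange c_rel_472) (range_glue (range_of_allRange c_rel_473) (range_glue (range_of_allRange c_rel_474) (range_glue (range_of_allRange c_rel_475) (range_glue (range_of_allRange c_rel_476) (range_glue (range_of_allRange c_rel_477) (range_glue (range_of_allRange c_rel_478) (range_of_allRange c_rel_479))))))))))))))))))))))))))))))))))))))))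
theorem h_rel_p12 : ∀ t, 2723579 ≤ t → t < 2853662 → D.relOK t = true :=
  (range_glue (range_of_allRange c_rel_480) (range_glue (range_of_allRange c_rel_481) (range_glue (range_of_allRange c_rel_482) (range_glue (range_of_allRange c_rel_483) (range_glue (range_of_allRange c_rel_484) (range_glue (range_of_allRange c_rel_485) (range_glue (range_of_allRange c_rel_486) (range_glue (range_of_allRange c_rel_487) (range_glue (range_of_allRange c_rel_488) (range_glue (range_of_allRange c_rel_489) (range_glue (range_of_allRange c_rel_490) (range_glue (range_of_allRange c_rel_491) (range_glue (range_of_allRange c_rel_492) (range_glue (range_of_allRange c_rel_493) (range_glue (range_of_allRange c_rel_494) (range_glue (range_of_allRange c_rel_495) (range_glue (range_of_allRange c_rel_496) (range_glue (range_of_allRange c_rel_497) (range_glue (range_of_allRange c_rel_498) (range_glue (range_of_allRange c_rel_499) (range_glue (range_of_allRange c_rel_500) (range_glue (range_of_allRange c_rel_501) (range_glue (range_of_allRange c_rel_502) (range_glue (range_of_allRange c_rel_503) (range_glue (range_of_allRange c_rel_504) (range_glue (range_of_allRange c_rel_505)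 (range_glue (range_of_allRange c_rel_506) (range_glue (range_of_allRange c_rel_507) (range_glue (range_of_allRange c_rel_508) (range_glue (range_of_allRange c_rel_509) (range_glue (range_of_allRange c_rel_510) (range_glue (range_of_allRange c_rel_511) (range_glue (range_of_allRange c_rel_512) (range_glue (range_of_allRange c_rel_513) (range_glue (range_of_allRange c_rel_514) (range_glue (range_of_allRange c_rel_515) (range_glue (range_of_allRange c_rel_516) (range_glue (range_of_allRange c_rel_517) (range_glue (range_of_allRange c_rel_518) (range_of_allRange c_rel_519))))))))))))))))))))))))))))))))))))))))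
theorem h_rel_p13 : ∀ t, 2853662 ≤ t → t < 2985147 → D.relOK t = true :=
  (range_glue (range_of_allRange c_rel_520) (range_glue (range_of_allRange c_rel_521) (range_glue (range_of_allRange c_rel_522) (range_glue (range_of_allRange c_rel_523) (range_glue (range_of_allRange c_rel_524) (range_glue (range_of_allRange c_rel_525) (range_glue (range_of_allRange c_rel_526) (range_glue (range_of_allRange c_rel_527) (range_glue (range_of_allRange c_rel_528) (range_glue (range_of_allRange c_rel_529) (range_glue (range_of_allRange c_rel_530) (range_glue (range_of_allRange c_rel_531) (range_glue (range_of_allRange c_rel_532) (range_glue (range_of_allRange c_rel_533) (range_glue (range_of_allRange c_rel_534) (range_glue (range_of_allRange c_rel_535) (range_glue (range_of_allRange c_rel_536) (range_glue (range_of_allRange c_rel_537) (range_glue (range_of_allRange c_rel_538) (range_glue (range_of_allRange c_rel_539) (range_glue (range_of_allRange c_rel_540) (range_glue (range_of_allRange c_rel_541) (range_glue (range_of_allRange c_rel_542) (range_glue (range_of_allRange c_rel_543) (range_glue (range_of_allRange c_rel_544) (range_glue (range_of_allRange c_rel_545)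 (range_glue (range_of_allRange c_rel_546) (range_glue (range_of_allRange c_rel_547) (range_glue (range_of_allRange c_rel_548) (range_glue (range_of_allRange c_rel_549) (range_glue (range_of_allRange c_rel_550) (range_glue (range_of_allRange c_rel_551) (range_glue (range_of_allRange c_rel_552) (range_glue (range_of_allRange c_rel_553) (range_glue (range_of_allRange c_rel_554) (range_glue (range_of_allRange c_rel_555) (range_glue (range_of_allRange c_rel_556) (range_glue (range_of_allRange c_rel_557) (range_glue (range_of_allRange c_rel_558) (range_of_allRange c_rel_559))))))))))))))))))))))))))))))))))))))))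
theorem h_rel_p14 : ∀ t, 2985147 ≤ t → t < 3114668 → D.relOK t = true :=
  (range_glue (range_of_allRange c_rel_560) (range_glue (range_of_allRange c_rel_561) (range_glue (range_of_allRange c_rel_562) (range_glue (range_of_allRange c_rel_563) (range_glue (range_of_allRange c_rel_564) (range_glue (range_of_allRange c_rel_565) (range_glue (range_of_allRange c_rel_566) (range_glue (range_of_allRange c_rel_567) (range_glue (range_of_allRange c_rel_568) (range_glue (range_of_allRange c_rel_569) (range_glue (range_of_allRange c_rel_570) (range_glue (range_of_allRange c_rel_571) (range_glue (range_of_allRange c_rel_572) (range_glue (range_of_allRange c_rel_573) (range_glue (range_of_allRange c_rel_574) (range_glue (range_of_allRange c_rel_575) (range_glue (range_of_allRange c_rel_576) (range_glue (range_of_allRange c_rel_577) (range_glue (range_of_allRange c_rel_578) (range_glue (range_of_allRange c_rel_579) (range_glue (range_of_allRange c_rel_580) (range_glue (range_of_allRange c_rel_581) (range_glue (range_of_allRange c_rel_582) (range_glue (range_of_allRange c_rel_583) (range_glue (range_of_allRange c_rel_584) (range_glue (range_of_allRange c_rel_585)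 (range_glue (range_of_allRange c_rel_586) (range_glue (range_of_allRange c_rel_587) (range_glue (range_of_allRange c_rel_588) (range_glue (range_of_allRange c_rel_589) (range_glue (range_of_allRange c_rel_590) (range_glue (range_of_allRange c_rel_591) (range_glue (range_of_allRange c_rel_592) (range_glue (range_of_allRange c_rel_593) (range_glue (range_of_allRange c_rel_594) (range_glue (range_of_allRange c_rel_595) (range_glue (range_of_allRange c_rel_596) (range_glue (range_of_allRange c_rel_597) (range_glue (range_of_allRange c_rel_598) (range_of_allRange c_rel_599))))))))))))))))))))))))))))))))))))))))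
theorem h_rel_p15 : ∀ t, 3114668 ≤ t → t < 3244480 → D.relOK t = true :=
  (range_glue (range_of_allRange c_rel_600) (range_glue (range_of_allRange c_rel_601) (range_glue (range_of_allRange c_rel_602) (range_glue (range_of_allRange c_rel_603) (range_glue (range_of_allRange c_rel_604) (range_glue (range_of_allRange c_rel_605) (range_glue (range_of_allRange c_rel_606) (range_glue (range_of_allRange c_rel_607) (range_glue (range_of_allRange c_rel_608) (range_glue (range_of_allRange c_rel_609) (range_glue (range_of_allRange c_rel_610) (range_glue (range_of_allRange c_rel_611) (range_glue (range_of_allRange c_rel_612) (range_glue (range_of_allRange c_rel_613) (range_glue (range_of_allRange c_rel_614) (range_glue (range_of_allRange c_rel_615) (range_glue (range_of_allRange c_rel_616) (range_glue (range_of_allRange c_rel_617) (range_glue (range_of_allRange c_rel_618) (range_glue (range_of_allRange c_rel_619) (range_glue (range_of_allRange c_rel_620) (range_glue (range_of_allRange c_rel_621) (range_glue (range_of_allRange c_rel_622) (range_glue (range_of_allRange c_rel_623) (range_glue (range_of_allRange c_rel_624) (range_glue (range_of_allRange c_rel_625)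 (range_glue (range_of_allRange c_rel_626) (range_glue (range_of_allRange c_rel_627) (range_glue (range_of_allRange c_rel_628) (range_glue (range_of_allRange c_rel_629) (range_glue (range_of_allRange c_rel_630) (range_glue (range_of_allRange c_rel_631) (range_glue (range_of_allRange c_rel_632) (range_glue (range_of_allRange c_rel_633) (range_glue (range_of_allRange c_rel_634) (range_glue (range_of_allRange c_rel_635) (range_glue (range_of_allRange c_rel_636) (range_glue (range_of_allRange c_rel_637) (range_glue (range_of_allRange c_rel_638) (range_of_allRange c_rel_639))))))))))))))))))))))))))))))))))))))))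
theorem h_rel_p16 : ∀ t, 3244480 ≤ t → t < 3365012 → D.relOK t = true :=
  (range_glue (range_of_allRange c_rel_640) (range_glue (range_of_allRange c_rel_641) (range_glue (range_of_allRange c_rel_642) (range_glue (range_of_allRange c_rel_643) (range_glue (range_of_allRange c_rel_644) (range_glue (range_of_allRange c_rel_645) (range_glue (range_of_allRange c_rel_646) (range_glue (range_of_allRange c_rel_647) (range_glue (range_of_allRange c_rel_648) (range_glue (range_of_allRange c_rel_649) (range_glue (range_of_allRange c_rel_650) (range_glue (range_of_allRange c_rel_651) (range_glue (range_of_allRange c_rel_652) (range_glue (range_of_allRange c_rel_653) (range_glue (range_of_allRange c_rel_654) (range_glue (range_of_allRange c_rel_655) (range_glue (range_of_allRange c_rel_656) (range_glue (range_of_allRange c_rel_657) (range_glue (range_of_allRange c_rel_658) (range_glue (range_of_allRange c_rel_659) (range_glue (range_of_allRange c_rel_660) (range_glue (range_of_allRange c_rel_661) (range_glue (range_of_allRange c_rel_662) (range_glue (range_of_allRange c_rel_663) (range_glue (range_of_allRange c_rel_664) (range_glue (range_of_allRange c_rel_665)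 (range_glue (range_of_allRange c_rel_666) (range_glue (range_of_allRange c_rel_667) (range_glue (range_of_allRange c_rel_668) (range_glue (range_of_allRange c_rel_669) (range_glue (range_of_allRange c_rel_670) (range_glue (range_of_allRange c_rel_671) (range_glue (range_of_allRange c_rel_672) (range_glue (range_of_allRange c_rel_673) (range_glue (range_of_allRange c_rel_674) (range_glue (range_of_allRange c_rel_675) (range_glue (range_of_allRange c_rel_676) (range_glue (range_of_allRange c_rel_677) (range_glue (range_of_allRange c_rel_678) (range_of_allRange c_rel_679))))))))))))))))))))))))))))))))))))))))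
theorem h_rel_p17 : ∀ t, 3365012 ≤ t → t < 3485338 → D.relOK t = true :=
  (range_glue (range_of_allRange c_rel_680) (range_glue (range_of_allRange c_rel_681) (range_glue (range_of_allRange c_rel_682) (range_glue (range_of_allRange c_rel_683) (range_glue (range_of_allRange c_rel_684) (range_glue (range_of_allRange c_rel_685) (range_glue (range_of_allRange c_rel_686) (range_glue (range_of_allRange c_rel_687) (range_glue (range_of_allRange c_rel_688) (range_glue (range_of_allRange c_rel_689) (range_glue (range_of_allRange c_rel_690) (range_glue (range_of_allRange c_rel_691) (range_glue (range_of_allRange c_rel_692) (range_glue (range_of_allRange c_rel_693) (range_glue (range_of_allRange c_rel_694) (range_glue (range_of_allRange c_rel_695) (range_glue (range_of_allRange c_rel_696) (range_glue (range_of_allRange c_rel_697) (range_glue (range_of_allRange c_rel_698) (range_glue (range_of_allRange c_rel_699) (range_glue (range_of_allRange c_rel_700) (range_glue (range_of_allRange c_rel_701) (range_glue (range_of_allRange c_rel_702) (range_glue (range_of_allRange c_rel_703) (range_glue (range_of_allRange c_rel_704) (range_glue (range_of_allRange c_rel_705)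 (range_glue (range_of_allRange c_rel_706) (range_glue (range_of_allRange c_rel_707) (range_glue (range_of_allRange c_rel_708) (range_glue (range_of_allRange c_rel_709) (range_glue (range_of_allRange c_rel_710) (range_glue (range_of_allRange c_rel_711) (range_glue (range_of_allRange c_rel_712) (range_glue (range_of_allRange c_rel_713) (range_glue (range_of_allRange c_rel_714) (range_glue (range_of_allRange c_rel_715) (range_glue (range_of_allRange c_rel_716) (range_glue (range_of_allRange c_rel_717) (range_glue (range_of_allRange c_rel_718) (range_of_allRange c_rel_719))))))))))))))))))))))))))))))))))))))))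
theorem h_rel_p18 : ∀ t, 3485338 ≤ t → t < 3589176 → D.relOK t = true :=
  (range_glue (range_of_allRange c_rel_720) (range_glue (range_of_allRange c_rel_721) (range_glue (range_of_allRange c_rel_722) (range_glue (range_of_allRange c_rel_723) (range_glue (range_of_allRange c_rel_724) (range_glue (range_of_allRange c_rel_725) (range_glue (range_of_allRange c_rel_726) (range_glue (range_of_allRange c_rel_727) (range_glue (range_of_allRange c_rel_728) (range_glue (range_of_allRange c_rel_729) (range_glue (range_of_allRange c_rel_730) (range_glue (range_of_allRange c_rel_731) (range_glue (range_of_allRange c_rel_732) (range_glue (range_of_allRange c_rel_733) (range_glue (range_of_allRange c_rel_734) (range_glue (range_of_allRange c_rel_735) (range_glue (range_of_allRange c_rel_736) (range_glue (range_of_allRange c_rel_737) (range_glue (range_of_allRange c_rel_738) (range_glue (range_of_allRange c_rel_739) (range_glue (range_of_allRange c_rel_740) (range_glue (range_of_allRange c_rel_741) (range_glue (range_of_allRange c_rel_742) (range_glue (range_of_allRange c_rel_743) (range_glue (range_of_allRange c_rel_744) (range_glue (range_of_allRange c_rel_745)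 (range_glue (range_of_allRange c_rel_746) (range_glue (range_of_allRange c_rel_747) (range_glue (range_of_allRange c_rel_748) (range_glue (range_of_allRange c_rel_749) (range_glue (range_of_allRange c_rel_750) (range_glue (range_of_allRange c_rel_751) (range_glue (range_of_allRange c_rel_752) (range_glue (range_of_allRange c_rel_753) (range_glue (range_of_allRange c_rel_754) (range_glue (range_of_allRange c_rel_755) (range_glue (range_of_allRange c_rel_756) (range_glue (range_of_allRange c_rel_757) (range_glue (range_of_allRange c_rel_758) (range_of_allRange c_rel_759))))))))))))))))))))))))))))))))))))))))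
theorem h_rel_p19 : ∀ t, 3589176 ≤ t → t < 3692708 → D.relOK t = true :=
  (range_glue (range_of_allRange c_rel_760) (range_glue (range_of_allRange c_rel_761) (range_glue (range_of_allRange c_rel_762) (range_glue (range_of_allRange c_rel_763) (range_glue (range_of_allRange c_rel_764) (range_glue (range_of_allRange c_rel_765) (range_glue (range_of_allRange c_rel_766) (range_glue (range_of_allRange c_rel_767) (range_glue (range_of_allRange c_rel_768) (range_glue (range_of_allRange c_rel_769) (range_glue (range_of_allRange c_rel_770) (range_glue (range_of_allRange c_rel_771) (range_glue (range_of_allRange c_rel_772) (range_glue (range_of_allRange c_rel_773) (range_glue (range_of_allRange c_rel_774) (range_glue (range_of_allRange c_rel_775) (range_glue (range_of_allRange c_rel_776) (range_glue (range_of_allRange c_rel_777) (range_glue (range_of_allRange c_rel_778) (range_glue (range_of_allRange c_rel_779) (range_glue (range_of_allRange c_rel_780) (range_glue (range_of_allRange c_rel_781) (range_glue (range_of_allRange c_rel_782) (range_glue (range_of_allRange c_rel_783) (range_glue (range_of_allRange c_rel_784) (range_glue (range_of_allRange c_rel_785)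 (range_glue (range_of_allRange c_rel_786) (range_glue (range_of_allRange c_rel_787) (range_glue (range_of_allRange c_rel_788) (range_glue (range_of_allRange c_rel_789) (range_glue (range_of_allRange c_rel_790) (range_glue (range_of_allRange c_rel_791) (range_glue (range_of_allRange c_rel_792) (range_glue (range_of_allRange c_rel_793) (range_glue (range_of_allRange c_rel_794) (range_glue (range_of_allRange c_rel_795) (range_glue (range_of_allRange c_rel_796) (range_glue (range_of_allRange c_rel_797) (range_glue (range_of_allRange c_rel_798) (range_of_allRange c_rel_799))))))))))))))))))))))))))))))))))))))))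
theorem h_rel_p20 : ∀ t, 3692708 ≤ t → t < 3773673 → D.relOK t = true :=
  (range_glue (range_of_allRange c_rel_800) (range_glue (range_of_allRange c_rel_801) (range_glue (range_of_allRange c_rel_802) (range_glue (range_of_allRange c_rel_803) (range_glue (range_of_allRange c_rel_804) (range_glue (range_of_allRange c_rel_805) (range_glue (range_of_allRange c_rel_806) (range_glue (range_of_allRange c_rel_807) (range_glue (range_of_allRange c_rel_808) (range_glue (range_of_allRange c_rel_809) (range_glue (range_of_allRange c_rel_810) (range_glue (range_of_allRange c_rel_811) (range_glue (range_of_allRange c_rel_812) (range_glue (range_of_allRange c_rel_813) (range_glue (range_of_allRange c_rel_814) (range_glue (range_of_allRange c_rel_815) (range_glue (range_of_allRange c_rel_816) (range_glue (range_of_allRange c_rel_817) (range_glue (range_of_allRange c_rel_818) (range_glue (range_of_allRange c_rel_819) (range_glue (range_of_allRange c_rel_820) (range_glue (range_of_allRange c_rel_821) (range_glue (range_of_allRange c_rel_822) (range_glue (range_of_allRange c_rel_823) (range_glue (range_of_allRange c_rel_824) (range_of_allRange c_rel_825))))))))))))))))))))))))))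
theorem h_rel : ∀ t, 1215883 ≤ t → t < 3773673 → D.relOK t = true :=
  (range_glue h_rel_p0 (range_glue h_rel_p1 (range_glue h_rel_p2 (range_glue h_rel_p3 (range_glue h_rel_p4 (range_glue h_rel_p5 (range_glue h_rel_p6 (range_glue h_rel_p7 (range_glue h_rel_p8 (range_glue h_rel_p9 (range_glue h_rel_p10 (range_glue h_rel_p11 (range_glue h_rel_p12 (range_glue h_rel_p13 (range_glue h_rel_p14 (range_glue h_rel_p15 (range_glue h_rel_p16 (range_glue h_rel_p17 (range_glue h_rel_p18 (range_glue h_rel_p19 h_rel_p20))))))))))))))))))))
theorem h_names : ∀ t, 1 ≤ t → t < 1215879 → D.nameOK t = true :=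
  (range_glue (range_of_allRange c_names_0) (range_glue (range_of_allRange c_names_1) (range_glue (range_of_allRange c_names_2) (range_glue (range_of_allRange c_names_3) (range_glue (range_of_allRange c_names_4) (range_glue (range_of_allRange c_names_5) (range_glue (range_of_allRange c_names_6) (range_glue (range_of_allRange c_names_7) (range_glue (range_of_allRange c_names_8) (range_glue (range_of_allRange c_names_9) (range_glue (range_of_allRange c_names_10) (range_glue (range_of_allRange c_names_11) (range_glue (range_of_allRange c_names_12) (range_glue (range_of_allRange c_names_13) (range_glue (range_of_allRange c_names_14) (range_glue (range_of_allRange c_names_15) (range_glue (range_of_allRange c_names_16) (range_glue (range_of_allRange c_names_17) (range_glue (range_of_allRange c_names_18) (range_glue (range_of_allRange c_names_19) (range_of_allRange c_names_20)))))))))))))))))))))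
theorem h_cls_p0 : ∀ t, 1 ≤ t → t < 600001 → T.clsOK D t = true :=
  (range_glue (range_of_allRange c_cls_0) (range_glue (range_of_allRange c_cls_1) (range_glue (range_of_allRange c_cls_2) (range_glue (range_of_allRange c_cls_3) (range_glue (range_of_allRange c_cls_4) (range_glue (range_of_allRange c_cls_5) (range_glue (range_of_allRange c_cls_6) (range_glue (range_of_allRange c_cls_7) (range_glue (range_of_allRange c_cls_8) (range_glue (range_of_allRange c_cls_9) (range_glue (range_of_allRange c_cls_10) (range_glue (range_of_allRange c_cls_11) (range_glue (range_of_allRange c_cls_12) (range_glue (range_of_allRange c_cls_13) (range_glue (range_of_allRange c_cls_14) (range_glue (range_of_allRange c_cls_15) (range_glue (range_of_allRange c_cls_16) (range_glue (range_of_allRange c_cls_17) (range_glue (range_of_allRange c_cls_18) (range_glue (range_of_allRange c_cls_19) (range_glue (range_of_allRange c_cls_20) (range_glue (range_of_allRange c_cls_21) (range_glue (range_of_allRange c_cls_22) (range_glue (range_of_allRange c_cls_23) (range_glue (range_of_allRange c_cls_24) (range_glue (range_of_allRange c_cls_25) (range_glue (range_of_allRange c_cls_26)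 (range_glue (range_of_allRange c_cls_27) (range_glue (range_of_allRange c_cls_28) (range_glue (range_of_allRange c_cls_29) (range_glue (range_of_allRange c_cls_30) (range_glue (range_of_allRange c_cls_31) (range_glue (range_of_allRange c_cls_32) (range_glue (range_of_allRange c_cls_33) (range_glue (range_of_allRange c_cls_34) (range_glue (range_of_allRange c_cls_35) (range_glue (range_of_allRange c_cls_36) (range_glue (range_of_allRange c_cls_37) (range_glue (range_of_allRange c_cls_38) (range_of_allRange c_cls_39))))))))))))))))))))))))))))))))))))))))
theorem h_cls_p1 : ∀ t, 600001 ≤ t → t < 1200001 → T.clsOK D t = true :=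
  (range_glue (range_of_allRange c_cls_40) (range_glue (range_of_allRange c_cls_41) (range_glue (range_of_allRange c_cls_42) (range_glue (range_of_allRange c_cls_43) (range_glue (range_of_allRange c_cls_44) (range_glue (range_of_allRange c_cls_45) (range_glue (range_of_allRange c_cls_46) (range_glue (range_of_allRange c_cls_47) (range_glue (range_of_allRange c_cls_48) (range_glue (range_of_allRange c_cls_49) (range_glue (range_of_allRange c_cls_50) (range_glue (range_of_allRange c_cls_51) (range_glue (range_of_allRange c_cls_52) (range_glue (range_of_allRange c_cls_53) (range_glue (range_of_allRange c_cls_54) (range_glue (range_of_allRange c_cls_55) (range_glue (range_of_allRange c_cls_56) (range_glue (range_of_allRange c_cls_57) (range_glue (range_of_allRange c_cls_58) (range_glue (range_of_allRange c_cls_59) (range_glue (range_of_allRange c_cls_60) (range_glue (range_of_allRange c_cls_61) (range_glue (range_of_allRange c_cls_62) (range_glue (range_of_allRange c_cls_63) (range_glue (range_of_allRange c_cls_64) (range_glue (range_of_allRange c_cls_65) (range_glue (range_of_allRange c_cls_66) (range_glue (range_of_allRange c_cls_67) (range_glue (range_of_allRange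 c_cls_68) (range_glue (range_of_allRange c_cls_69) (range_glue (range_of_allRange c_cls_70) (range_glue (range_of_allRange c_cls_71) (range_glue (range_of_allRange c_cls_72) (range_glue (range_of_allRange c_cls_73) (range_glue (range_of_allRange c_cls_74) (range_glue (range_of_allRange c_cls_75) (range_glue (range_of_allRange c_cls_76) (range_glue (range_of_allRange c_cls_77) (range_glue (range_of_allRange c_cls_78) (range_of_allRange c_cls_79))))))))))))))))))))))))))))))))))))))))
theorem h_cls_p2 : ∀ t, 1200001 ≤ t → t < 1215879 → T.clsOK D t = true :=
  (range_glue (range_of_allRange c_cls_80) (range_of_allRange c_cls_81))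
theorem h_cls : ∀ t, 1 ≤ t → t < 1215879 → T.clsOK D t = true :=
  (range_glue h_cls_p0 (range_glue h_cls_p1 h_cls_p2))
theorem h_rep : ∀ t, 0 ≤ t → t < 3200 → T.repOK D t = true :=
  (range_of_allRange c_rep_0)
theorem h_fin : ∀ i, 0 ≤ i → i < 3200 → ∀ x, x < 18 → T.finOK D i x = true :=
  (range_glue (range_of_allGrid c_fin_0) (range_glue (range_of_allGrid c_fin_1) (range_glue (range_of_allGrid c_fin_2) (range_glue (range_of_allGrid c_fin_3) (range_of_allGrid c_fin_4)))))
theorem h_perm : ∀ i, 0 ≤ i → i < 3200 → ∀ x, x < 18 → T.permOK1 D i x = true :=
  (range_glue (range_of_allGrid c_perm_0) (range_of_allGrid c_perm_1))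
theorem h_act0 : ∀ i, 0 ≤ i → i < 3200 → Nat.beq (actR0 i) i = true :=
  (range_of_allRange c_act0_0)
theorem h_act1 : ∀ i, 0 ≤ i → i < 3200 → Nat.beq (actR1 i) i = true :=
  (range_of_allRange c_act1_0)
theorem h_act2 : ∀ i, 0 ≤ i → i < 3200 → Nat.beq (actR2 i) i = true :=
  (range_of_allRange c_act2_0)
theorem h_act3 : ∀ i, 0 ≤ i → i < 3200 → Nat.beq (actR3 i) i = true :=
  (range_of_allRange c_act3_0)
theorem h_act4 : ∀ i, 0 ≤ i → i < 3200 → Nat.beq (actR4 i) i = true :=
  (range_of_allRange c_act4_0)
theorem h_act5 : ∀ i, 0 ≤ i → i < 3200 → Nat.beq (actR5 i) i = true :=
  (range_glue (range_of_allRange c_act5_0) (range_of_allRange c_act5_1))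
theorem h_act6 : ∀ i, 0 ≤ i → i < 3200 → Nat.beq (actR6 i) i = true :=
  (range_glue (range_of_allRange c_act6_0) (range_of_allRange c_act6_1))
theorem h_act7 : ∀ i, 0 ≤ i → i < 3200 → Nat.beq (actR7 i) i = true :=
  (range_glue (range_of_allRange c_act7_0) (range_glue (range_of_allRange c_act7_1) (range_glue (range_of_allRange c_act7_2) (range_of_allRange c_act7_3))))
theorem h_act8 : ∀ i, 0 ≤ i → i < 3200 → Nat.beq (actR8 i) i = true :=
  (range_glue (range_of_allRange c_act8_0) (range_of_allRange c_act8_1))
theorem h_act9 : ∀ i, 0 ≤ i → i < 3200 → Nat.beq (actR9 i) i = true :=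
  (range_of_allRange c_act9_0)
theorem h_act10 : ∀ i, 0 ≤ i → i < 3200 → Nat.beq (actR10 i) i = true :=
  (range_of_allRange c_act10_0)
theorem h_act11 : ∀ i, 0 ≤ i → i < 3200 → Nat.beq (actR11 i) i = true :=
  (range_of_allRange c_act11_0)
theorem h_act12 : ∀ i, 0 ≤ i → i < 3200 → Nat.beq (actR12 i) i = true :=
  (range_of_allRange c_act12_0)
theorem h_act13 : ∀ i, 0 ≤ i → i < 3200 → Nat.beq (actR13 i) i = true :=
  (range_of_allRange c_act13_0)
theorem h_act14 : ∀ i, 0 ≤ i → i < 3200 → Nat.beq (actR14 i) i = true :=
  (range_of_allRange c_act14_0)
theorem h_act15 : ∀ i, 0 ≤ i → i < 3200 → Nat.beq (actR15 i) i = true :=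
  (range_of_allRange c_act15_0)
theorem h_act16 : ∀ i, 0 ≤ i → i < 3200 → Nat.beq (actR16 i) i = true :=
  (range_of_allRange c_act16_0)
theorem h_act17 : ∀ i, 0 ≤ i → i < 3200 → Nat.beq (actR17 i) i = true :=
  (range_of_allRange c_act17_0)
theorem h_act18 : ∀ i, 0 ≤ i → i < 3200 → Nat.beq (actR18 i) i = true :=
  (range_of_allRange c_act18_0)
theorem h_act19 : ∀ i, 0 ≤ i → i < 3200 → Nat.beq (actR19 i) i = true :=
  (range_of_allRange c_act19_0)
theorem h_act20 : ∀ i, 0 ≤ i → i < 3200 → Nat.beq (actR20 i) i = true :=
  (range_of_allRange c_act20_0)
theorem h_act21 : ∀ i, 0 ≤ i → i < 3200 → Nat.beq (actR21 i) i = true :=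
  (range_of_allRange c_act21_0)
theorem h_act22 : ∀ i, 0 ≤ i → i < 3200 → Nat.beq (actR22 i) i = true :=
  (range_of_allRange c_act22_0)
theorem h_act23 : ∀ i, 0 ≤ i → i < 3200 → Nat.beq (actR23 i) i = true :=
  (range_of_allRange c_act23_0)
theorem h_act24 : ∀ i, 0 ≤ i → i < 3200 → Nat.beq (actR24 i) i = true :=
  (range_of_allRange c_act24_0)
theorem h_act25 : ∀ i, 0 ≤ i → i < 3200 → Nat.beq (actR25 i) i = true :=
  (range_of_allRange c_act25_0)
theorem h_act26 : ∀ i, 0 ≤ i → i < 3200 → Nat.beq (actR26 i) i = true :=
  (range_of_allRange c_act26_0)
theorem h_act27 : ∀ i, 0 ≤ i → i < 3200 → Nat.beq (actR27 i) i = true :=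
  (range_of_allRange c_act27_0)
theorem h_act28 : ∀ i, 0 ≤ i → i < 3200 → Nat.beq (actR28 i) i = true :=
  (range_of_allRange c_act28_0)
theorem h_act29 : ∀ i, 0 ≤ i → i < 3200 → Nat.beq (actR29 i) i = true :=
  (range_of_allRange c_act29_0)
theorem h_act30 : ∀ i, 0 ≤ i → i < 3200 → Nat.beq (actR30 i) i = true :=
  (range_of_allRange c_act30_0)
theorem h_act31 : ∀ i, 0 ≤ i → i < 3200 → Nat.beq (actR31 i) i = true :=
  (range_of_allRange c_act31_0)
theorem h_act32 : ∀ i, 0 ≤ i → i < 3200 → Nat.beq (actR32 i) i = true :=
  (range_of_allRange c_act32_0)
theorem h_act33 : ∀ i, 0 ≤ i → i < 3200 → Nat.beq (actR33 i) i = true :=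
  (range_of_allRange c_act33_0)
theorem h_act34 : ∀ i, 0 ≤ i → i < 3200 → Nat.beq (actR34 i) i = true :=
  (range_of_allRange c_act34_0)
theorem h_act35 : ∀ i, 0 ≤ i → i < 3200 → Nat.beq (actR35 i) i = true :=
  (range_of_allRange c_act35_0)
theorem h_act36 : ∀ i, 0 ≤ i → i < 3200 → Nat.beq (actR36 i) i = true :=
  (range_glue (range_of_allRange c_act36_0) (range_of_allRange c_act36_1))
theorem h_act37 : ∀ i, 0 ≤ i → i < 3200 → Nat.beq (actR37 i) i = true :=
  (range_glue (range_of_allRange c_act37_0) (range_glue (range_of_allRange c_act37_1) (range_of_allRange c_act37_2)))

theorem checked : T.Checked D where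
  hz := c_zero
  hn := fun d h0 hd => h_names d h0 hd
  hb := fun j hj => allBelow_eq_true.1 c_base j hj
  hr := fun t h1 h2 => h_rel t h1 h2
  hfin := fun i x hi hx => h_fin i (Nat.zero_le _) hi x hx
  hperm := fun i x hi hx => h_perm i (Nat.zero_le _) hi x hx
  hlet := fun x hx => allBelow_eq_true.1 c_let x hx
  hcls := fun d h0 hd => h_cls d h0 hd
  hrep := fun i hi => h_rep i (Nat.zero_le _) hi
  hcls0 := c_cls0
  hname0 := c_name0
  hN := by decide
  hM := by decide

theorem h_act : ∀ L ∈ PSTitspp2.P.real, ∀ i, i < T.N → Tab.relActOK T D L i = true := by
  rw [c_real]
  intro L hL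
  simp only [realLit, List.mem_cons, List.not_mem_nil, or_false] at hL
  rcases hL with rfl | rfl | rfl | rfl | rfl | rfl | rfl | rfl | rfl | rfl | rfl | rfl | rfl | rfl | rfl | rfl | rfl | rfl | rfl | rfl | rfl | rfl | rfl | rfl | rfl | rfl | rfl | rfl | rfl | rfl | rfl | rfl | rfl | rfl | rfl | rfl | rfl | rfl
  · intro i hi
    rw [Tab.relActOK, ← actR0_eq]
    exact h_act0 i (Nat.zero_le _) hi
  · intro i hi
    rw [Tab.relActOK, ← actR1_eq]
    exact h_act1 i (Nat.zero_le _) hi
  · intro i hi
    rw [Tab.relActOK, ← actR2_eq]
    exact h_act2 i (Nat.zero_le _) hi
  · intro i hi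
    rw [Tab.relActOK, ← actR3_eq]
    exact h_act3 i (Nat.zero_le _) hi
  · intro i hi
    rw [Tab.relActOK, ← actR4_eq]
    exact h_act4 i (Nat.zero_le _) hi
  · intro i hi
    rw [Tab.relActOK, ← actR5_eq]
    exact h_act5 i (Nat.zero_le _) hi
  · intro i hi
    rw [Tab.relActOK, ← actR6_eq]
    exact h_act6 i (Nat.zero_le _) hi
  · intro i hi
    rw [Tab.relActOK, ← actR7_eq]
    exact h_act7 i (Nat.zero_le _) hi
  · intro i hi
    rw [Tab.relActOK, ← actR8_eq]
    exact h_act8 i (Nat.zero_le _) hi
  · intro i hi
    rw [Tab.relActOK, ← actR9_eq]
    exact h_act9 i (Nat.zero_le _) hi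
  · intro i hi
    rw [Tab.relActOK, ← actR10_eq]
    exact h_act10 i (Nat.zero_le _) hi
  · intro i hi
    rw [Tab.relActOK, ← actR11_eq]
    exact h_act11 i (Nat.zero_le _) hi
  · intro i hi
    rw [Tab.relActOK, ← actR12_eq]
    exact h_act12 i (Nat.zero_le _) hi
  · intro i hi
    rw [Tab.relActOK, ← actR13_eq]
    exact h_act13 i (Nat.zero_le _) hi
  · intro i hi
    rw [Tab.relActOK, ← actR14_eq]
    exact h_act14 i (Nat.zero_le _) hi
  · intro i hi
    rw [Tab.relActOK, ← actR15_eq]
    exact h_act15 i (Nat.zero_le _) hi
  · intro i hi
    rw [Tab.relActOK, ← actR16_eq]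
    exact h_act16 i (Nat.zero_le _) hi
  · intro i hi
    rw [Tab.relActOK, ← actR17_eq]
    exact h_act17 i (Nat.zero_le _) hi
  · intro i hi
    rw [Tab.relActOK, ← actR18_eq]
    exact h_act18 i (Nat.zero_le _) hi
  · intro i hi
    rw [Tab.relActOK, ← actR19_eq]
    exact h_act19 i (Nat.zero_le _) hi
  · intro i hi
    rw [Tab.relActOK, ← actR20_eq]
    exact h_act20 i (Nat.zero_le _) hi
  · intro i hi
    rw [Tab.relActOK, ← actR21_eq]
    exact h_act21 i (Nat.zero_le _) hi
  · intro i hi
    rw [Tab.relActOK, ← actR22_eq]
    exact h_act22 i (Nat.zero_le _) hi
  · intro i hi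
    rw [Tab.relActOK, ← actR23_eq]
    exact h_act23 i (Nat.zero_le _) hi
  · intro i hi
    rw [Tab.relActOK, ← actR24_eq]
    exact h_act24 i (Nat.zero_le _) hi
  · intro i hi
    rw [Tab.relActOK, ← actR25_eq]
    exact h_act25 i (Nat.zero_le _) hi
  · intro i hi
    rw [Tab.relActOK, ← actR26_eq]
    exact h_act26 i (Nat.zero_le _) hi
  · intro i hi
    rw [Tab.relActOK, ← actR27_eq]
    exact h_act27 i (Nat.zero_le _) hi
  · intro i hi
    rw [Tab.relActOK, ← actR28_eq]
    exact h_act28 i (Nat.zero_le _) hi
  · intro i hi
    rw [Tab.relActOK, ← actR29_eq]
    exact h_act29 i (Nat.zero_le _) hi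
  · intro i hi
    rw [Tab.relActOK, ← actR30_eq]
    exact h_act30 i (Nat.zero_le _) hi
  · intro i hi
    rw [Tab.relActOK, ← actR31_eq]
    exact h_act31 i (Nat.zero_le _) hi
  · intro i hi
    rw [Tab.relActOK, ← actR32_eq]
    exact h_act32 i (Nat.zero_le _) hi
  · intro i hi
    rw [Tab.relActOK, ← actR33_eq]
    exact h_act33 i (Nat.zero_le _) hi
  · intro i hi
    rw [Tab.relActOK, ← actR34_eq]
    exact h_act34 i (Nat.zero_le _) hi
  · intro i hi
    rw [Tab.relActOK, ← actR35_eq]
    exact h_act35 i (Nat.zero_le _) hi
  · intro i hi
    rw [Tab.relActOK, ← actR36_eq]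
    exact h_act36 i (Nat.zero_le _) hi
  · intro i hi
    rw [Tab.relActOK, ← actR37_eq]
    exact h_act37 i (Nat.zero_le _) hi

theorem inst : Inst PSTitspp2.P T D subs where
  hP := PSTitspp2.valid
  hk := rfl
  hinv := rfl
  hsubs := by
    intro u hu x hx
    have h1 := List.all_eq_true.1 c_subs u hu
    exact ble_succ (List.all_eq_true.1 h1 x hx)
  htab := c_tab
  hC := checked
  hact := h_act
  hsubfix := fun u hu => beq_eq (List.all_eq_true.1 c_subfix u hu)

theorem index_eq : (Inst.subG PSTitspp2.P subs).index = 3200 := inst.index_eq


end Cfsg.Agent.Lib.Helper4.TCD.STitspp2A
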