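import Mathlib
import Cfsg.Agent.Lib.Helper4.TitspMain
import Cfsg.Agent.Lib.Helper4.L33pStem
import Cfsg.Agent.Lib.Helper4.TC19
import Cfsg.Agent.Lib.Helper4.RelLib
import Cfsg.Agent.Lib.Helper4.StemLib7

/-!
The presented group `L33p` (the group L3(3)) embeds into the presented Tits group `Titsp` as a subgroup of
index 3200; stem extensions of the Tits group with kernel of prime order split over it, and there is none with
kernel of order 3.
-/

set_option autoImplicit false

namespace Cfsg.Agent.Lib.Helper4.TitsL33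

open Cfsg.Agent.Lib.Helper4.TC Cfsg.Agent.Lib.Helper4.TCD Cfsg.Agent.Lib.Helper4.TC.Log
  Cfsg.Agent.Lib.Helper4.Stem

/-- the involution `(ababab⁻¹ab)⁴` -/
def cw : List ℕ := [0, 2, 0, 2, 0, 3, 0, 2, 0, 2, 0, 2, 0, 3, 0, 2, 0, 2, 0, 2, 0, 3, 0, 2, 0, 2, 0, 2, 0, 3, 0, 2]

/-- the letters of `L33p` as words of `Titsp` -/
def Wf (l : ℕ) : List ℕ := [cw, cw, [2], [3]].getD l []

/-- the words generating the subgroup -/
def subs : List (List ℕ) := [cw, [2]]

theorem rel_act : ∀ L ∈ PL33p.P.real, ∀ i, i < TitspA.T.N →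
    Tab.relActOK TitspA.T TitspA.D (L.flatMap Wf) i = true := by decide +kernel

theorem rel_lt : ∀ L ∈ PL33p.P.real, ∀ x ∈ L.flatMap Wf, x < 8 := by decide +kernel

theorem inv_act : ∀ l, l < 4 → ∀ i, i < TitspA.T.N →
    Tab.relActOK TitspA.T TitspA.D (Wf l ++ Wf (PL33p.P.invR l)) i = true := by decide +kernel

theorem inv_lt : ∀ l, l < 4 → ∀ x ∈ Wf l ++ Wf (PL33p.P.invR l), x < 8 := by decide +kernel

theorem emb : WordEmb PL33p.P PTitsp.P.gR Wf where
  hP := PL33p.valid
  hinv := by
    intro l hl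
    obtain ⟨fG, hinj, hcard⟩ := TitspMain.order_aux
    exact TitspA.inst.word_eq_one hinj _ (inv_lt l hl) (inv_act l hl)
  hrel := by
    intro L hL
    obtain ⟨fG, hinj, hcard⟩ := TitspMain.order_aux
    exact TitspA.inst.word_eq_one hinj _ (rel_lt L hL) (rel_act L hL)

/-- the homomorphism from `L33p` -/
noncomputable def f : PL33p.P.Grp →* PTitsp.P.Grp := emb.hom

theorem exists_row : ∃ i, i < TitspA.T.N ∧ Tab.act TitspA.T TitspA.D [2] i ≠ i :=
  ⟨1, by decide +kernel, by decide +kernel⟩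

theorem f_ne : f (PL33p.P.gR 2) ≠ 1 := by
  rw [f, emb.hom_gR 2 (by decide)]
  obtain ⟨i, hi, h⟩ := exists_row
  exact TitspA.inst.word_ne_one [2] (by decide) i hi h

theorem f_inj : Function.Injective f := injective_of_simple L33pMain.simple_aux f _ f_ne

theorem range_eq : f.range = Inst.subG PTitsp.P subs := by
  rw [MonoidHom.range_eq_map, ← PL33p.valid.gen_top, MonoidHom.map_closure]
  unfold Inst.subG
  apply le_antisymm
  · rw [Subgroup.closure_le]
    rintro _ ⟨_, ⟨l, hl, rfl⟩, rfl⟩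
    have hl : l < 4 := hl
    have hw : f (PL33p.P.gR l) = wordP PTitsp.P.gR (Wf l) := emb.hom_gR l hl
    have h3 : PTitsp.P.gR 3 = (PTitsp.P.gR 2)⁻¹ := (PTitsp.valid.invR_sound 2 (by decide)).2
    rw [SetLike.mem_coe, hw]
    interval_cases l
    · exact Subgroup.subset_closure ⟨cw, by simp [subs], rfl⟩
    · exact Subgroup.subset_closure ⟨cw, by simp [subs], rfl⟩
    · exact Subgroup.subset_closure ⟨[2], by simp [subs], rfl⟩
    · have : wordP PTitsp.P.gR (Wf 3) = (wordP PTitsp.P.gR [2])⁻¹ := by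
        show wordP PTitsp.P.gR [3] = _
        rw [wordP_cons, wordP_cons, wordP_nil, mul_one, mul_one, h3]
      rw [this]
      exact Subgroup.inv_mem _ (Subgroup.subset_closure ⟨[2], by simp [subs], rfl⟩)
  · rw [Subgroup.closure_le]
    rintro _ ⟨u, hu, rfl⟩
    have hu' : u = cw ∨ u = [2] := by simpa [subs] using hu
    rcases hu' with rfl | rfl
    · exact Subgroup.subset_closure ⟨PL33p.P.gR 0, ⟨0, by decide, rfl⟩, emb.hom_gR 0 (by decide)⟩
    · exact Subgroup.subset_closure ⟨PL33p.P.gR 2, ⟨2, by decide, rfl⟩, emb.hom_gR 2 (by decide)⟩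

theorem card_range : Nat.card f.range = 5616 := by
  obtain ⟨fK, _, hcardK⟩ := L33pMain.order_aux
  rw [← hcardK]
  exact (Nat.card_congr (MonoidHom.ofInjective f_inj).toEquiv).symm

/-- the subgroup has order 5616 -/
theorem sub_card : Finite (Inst.subG PTitsp.P subs) ∧ Nat.card (Inst.subG PTitsp.P subs) ≤ 5616 := by
  rw [← range_eq]
  refine ⟨Nat.finite_of_card_ne_zero (by rw [card_range]; decide), ?_⟩
  rw [card_range]

/-- stem extensions split over the subgroup -/
theorem liftsP_sub (p : ℕ) (hp : p.Prime) : LiftsP PTitsp.P.Grp (Inst.subG PTitsp.P subs) p :=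
  liftsP_of_injective f f_inj _ range_eq p hp L33pStem.perfect (L33pStem.noStem p hp)

/-- the prime 3: the subgroup has index 3200 -/
theorem noStem3 : NoStemPrime PTitsp.P.Grp 3 := by
  obtain ⟨fG, _, hcard⟩ := TitspMain.order_aux
  have := fG
  have e : PL33p.P.Grp ≃* f.range := MonoidHom.ofInjective f_inj
  have hidx : f.range.index = 3200 := by
    have h := f.range.card_mul_index
    rw [card_range, hcard] at h
    omega
  apply noStemPrime_of_subgroup PTitsp.P.Grp f.range 3 (by norm_num)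
  · rw [hidx]
    decide
  · exact noStemPrime_of_mulEquiv e 3 (L33pStem.noStem 3 (by norm_num))

end Cfsg.Agent.Lib.Helper4.TitsL33
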