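import Mathlib
import Cfsg.Agent.Lib.Helper4.TitspMain
import Cfsg.Agent.Lib.Helper4.TCD_STitspp2A_Fin
import Cfsg.Agent.Lib.Helper4.TCD_STitspp2W
import Cfsg.Agent.Lib.Helper4.StemLib8
import Cfsg.Agent.Lib.Helper4.StemLib9
import Cfsg.Agent.Lib.Helper4.TitsL33

/-! `Titsp` has no stem extension with kernel of order 2 (generated). -/

namespace Cfsg.Agent.Lib.Helper4.STitspp2Main

open Cfsg.Agent.Lib.Helper4.TC Cfsg.Agent.Lib.Helper4.TCD Cfsg.Agent.Lib.Helper4.TC.Log Cfsg.Agent.Lib.Helper4.Stem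

/-- the description of the auxiliary presentation -/
def spec : Spec4 :=
  { p := 2
    items := [(0, [], 2),
      (2, [], 3),
      (4, [], 13),
      (6, [4, 3], 0),
      (8, [6, 6], 0),
      (10, [7, 3, 6, 2, 7, 3, 6, 2, 7, 3, 6, 2, 7, 3, 6, 2, 7, 3, 6, 2], 0),
      (12, [7, 3, 7, 3, 6, 2, 6, 2, 7, 3, 7, 3, 6, 2, 6, 2, 7, 3, 7, 3, 6, 2, 6, 2, 7, 3, 7, 3, 6, 2, 6, 2], 0),
      (14, [6, 2, 6, 2, 6, 2, 6, 2, 6, 3, 6, 2, 6, 2, 6, 2, 6, 2, 6, 3, 6, 2, 6, 2, 6, 2, 6, 2, 6, 3, 6, 2, 6, 2, 6, 2, 6, 2, 6, 3, 6, 2, 6, 2, 6, 2, 6, 2, 6, 3, 6, 2, 6, 2, 6, 2, 6, 2, 6, 3], 0),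
      (16, [1, 6, 2, 6, 2, 6, 3, 6, 2, 6, 2, 6, 2, 6, 3, 6, 2, 6, 2, 6, 2, 6, 3, 6, 2, 6, 2, 6, 2, 6, 3, 6, 2], 0)]
    cen := [8, 10, 12, 14, 16]
    R := []
    sub := [0, 2]
    PR := [[0, 0], [2, 2, 2], [0, 2, 0, 2, 0, 2, 0, 2, 0, 2, 0, 2, 0, 2, 0, 2, 0, 2, 0, 2, 0, 2, 0, 2, 0, 2], [0, 2, 0, 2, 0, 2, 0, 3, 0, 2, 0, 2, 0, 3, 0, 2, 0, 2, 0, 2, 0, 3, 0, 3, 0, 3, 0, 2, 0, 2, 0, 2, 0, 3, 0, 3, 0, 3]]
    XR := [] }

/-- the letters of the auxiliary presentation as words of the base group -/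
def Wl (l : ℕ) : List ℕ :=
  [[0, 2, 0, 2, 0, 3, 0, 2, 0, 2, 0, 2, 0, 3, 0, 2, 0, 2, 0, 2, 0, 3, 0, 2, 0, 2, 0, 2, 0, 3, 0, 2], [3, 1, 2, 1, 3, 1, 3, 1, 3, 1, 2, 1, 3, 1, 3, 1, 3, 1, 2, 1, 3, 1, 3, 1, 3, 1, 2, 1, 3, 1, 3, 1], [2], [3], [0, 2], [3, 1], [0], [1], [], [], [], [], [], [], [], [], [], []].getD l []

theorem checks_eq : checks spec.toSpec2 PTitsp.P.invR Wl ++ checksX spec PSTitspp2.P.invR Wl = STitspp2W.chkAll := by decide +kernel


/-- the word of `x` -/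
def wx : List ℕ := [2, 0, 3, 0, 2, 0, 3, 0, 3, 0, 2, 0, 2, 0, 3, 0, 2, 0, 3]
/-- the word of `y` -/
def wy : List ℕ := [2, 0, 2, 0, 2, 0, 3, 0, 2, 0, 2, 0, 3, 0, 2, 0, 2, 0, 3, 0, 2, 0, 2, 0, 2, 0, 3]

theorem relx : (5 :: wx) ∈ PTitsp.P.real := by decide +kernel
theorem rely : (7 :: wy) ∈ PTitsp.P.real := by decide +kernel

theorem hgen : Subgroup.closure (xw PTitsp.P Wl '' Set.Iio PSTitspp2.P.k) = ⊤ := by
  set K := Subgroup.closure (xw PTitsp.P Wl '' Set.Iio PSTitspp2.P.k) with hK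
  have hk : PSTitspp2.P.k = 18 := rfl
  have mem : ∀ l, l < 18 → wordP PTitsp.P.gR (Wl l) ∈ K := fun l hl =>
    Subgroup.subset_closure ⟨l, by show l < PSTitspp2.P.k; rw [hk]; exact hl, rfl⟩
  have m0 : PTitsp.P.gR 0 ∈ K := by
    have := mem 6 (by decide)
    rwa [show Wl 6 = [0] from rfl, wordP_cons, wordP_nil, mul_one] at this
  have m1 : PTitsp.P.gR 1 ∈ K := by
    have := mem 7 (by decide)
    rwa [show Wl 7 = [1] from rfl, wordP_cons, wordP_nil, mul_one] at this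
  have m2 : PTitsp.P.gR 2 ∈ K := by
    have := mem 2 (by decide)
    rwa [show Wl 2 = [2] from rfl, wordP_cons, wordP_nil, mul_one] at this
  have m3 : PTitsp.P.gR 3 ∈ K := by
    have := mem 3 (by decide)
    rwa [show Wl 3 = [3] from rfl, wordP_cons, wordP_nil, mul_one] at this
  have mw : ∀ w : List ℕ, (∀ e ∈ w, e = 0 ∨ e = 2 ∨ e = 3) → wordP PTitsp.P.gR w ∈ K := by
    intro w hw
    apply Sgs.wordP_mem_closure
    intro e he
    rcases hw e he with rfl | rfl | rfl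
    · exact m0
    · exact m2
    · exact m3
  have g5 : PTitsp.P.gR 5 = (PTitsp.P.gR 4)⁻¹ := (PTitsp.valid.invR_sound 4 (by decide)).2
  have g7 : PTitsp.P.gR 7 = (PTitsp.P.gR 6)⁻¹ := (PTitsp.valid.invR_sound 6 (by decide)).2
  have m4 : PTitsp.P.gR 4 ∈ K := by
    have h := (PTitsp.valid.real_sound _ relx).2
    rw [wordP_cons, g5] at h
    have e : PTitsp.P.gR 4 = wordP PTitsp.P.gR wx := by
      rw [← mul_one (PTitsp.P.gR 4), ← h]; group
    rw [e]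
    exact mw wx (by decide)
  have m6 : PTitsp.P.gR 6 ∈ K := by
    have h := (PTitsp.valid.real_sound _ rely).2
    rw [wordP_cons, g7] at h
    have e : PTitsp.P.gR 6 = wordP PTitsp.P.gR wy := by
      rw [← mul_one (PTitsp.P.gR 6), ← h]; group
    rw [e]
    exact mw wy (by decide)
  rw [eq_top_iff, ← PTitsp.valid.gen_top, Subgroup.closure_le]
  rintro _ ⟨y, hy, rfl⟩
  have hy : y < 8 := hy
  interval_cases y
  · exact m0
  · exact m1
  · exact m2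
  · exact m3
  · exact m4
  · rw [g5]; exact inv_mem m4
  · exact m6
  · rw [g7]; exact inv_mem m6

theorem sub_eq : Subgroup.closure (xw PTitsp.P Wl '' {l | l ∈ spec.sub}) = Inst.subG PTitsp.P TitsL33.subs := by
  rw [closure_xw_eq]
  rfl

set_option maxRecDepth 100000 in
theorem noStem : NoStemPrime PTitsp.P.Grp 2 := by
  obtain ⟨fG, hinj, hcard⟩ := TitspMain.order_aux
  have hall : ∀ w ∈ checks spec.toSpec2 PTitsp.P.invR Wl ++ checksX spec PSTitspp2.P.invR Wl, wordP PTitsp.P.gR w = 1 := by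
    rw [checks_eq]
    intro w hw
    exact TitspA.inst.word_eq_one hinj w (STitspp2W.hAll_lt w hw) (STitspp2W.hAll w hw)
  exact noStemPrime_pres4' PTitsp.P PTitsp.valid PSTitspp2.P PSTitspp2.valid spec (by show Nat.Prime 2; norm_num) Wl
    (by decide +kernel) (by decide +kernel) hgen (fun w hw => hall w (List.mem_append_left _ hw))
    (fun w hw => hall w (List.mem_append_right _ hw)) (by decide +kernel)
    (by rw [sub_eq]; exact TitsL33.liftsP_sub 2 (by norm_num))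
    5616 (by rw [sub_eq]; exact TitsL33.sub_card.2)
    3200 (by decide) STitspp2A.index_eq fG 17971200 hcard (by decide)

end Cfsg.Agent.Lib.Helper4.STitspp2Main
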