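import Mathlib
import Cfsg.Prelude.Def_SporCoxeter

/-! The auxiliary presentation `SU33pp2` for stem extensions of `U33p` with kernel of order 2 (generated). -/

namespace Cfsg.Agent.Lib.Helper4

namespace SU33pp2

/-- the generators -/
inductive Gen
  | c
  | y
  | d
  | z1
  | z2
  deriving DecidableEq

abbrev c : FreeGroup Gen := FreeGroup.of Gen.c
abbrev y : FreeGroup Gen := FreeGroup.of Gen.y
abbrev d : FreeGroup Gen := FreeGroup.of Gen.d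
abbrev z1 : FreeGroup Gen := FreeGroup.of Gen.z1
abbrev z2 : FreeGroup Gen := FreeGroup.of Gen.z2

/-- no Coxeter graph -/
def edges : List (Gen × ℕ × Gen) := []

/-- the relators -/
def extra : List (FreeGroup Gen) := [
  c ^ 7,
  y ^ 3,
  d⁻¹ * c⁻¹ * c⁻¹ * c⁻¹ * y,
  z1⁻¹ * c * c * d * c⁻¹ * d * c * d⁻¹ * c * d * c⁻¹ * d,
  z2⁻¹ * c * c * d * d * c * c * d⁻¹ * d⁻¹ * c * c * d⁻¹ * d⁻¹,
  z1 ^ 2,
  z2 ^ 2,
  z1 * c * z1⁻¹ * c⁻¹,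
  z1 * y * z1⁻¹ * y⁻¹,
  z1 * d * z1⁻¹ * d⁻¹,
  z2 * c * z2⁻¹ * c⁻¹,
  z2 * y * z2⁻¹ * y⁻¹,
  z2 * d * z2⁻¹ * d⁻¹,
  c ^ 7 ]

end SU33pp2

end Cfsg.Agent.Lib.Helper4
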