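import Mathlib
import Cfsg.Prelude.Def_SporCoxeter

/-! The auxiliary presentation `SU33pp3` for stem extensions of `U33p` with kernel of order 3 (generated). -/

namespace Cfsg.Agent.Lib.Helper4

namespace SU33pp3

/-- the generators -/
inductive Gen
  | c
  | d
  | z1
  | z2
  | z3
  deriving DecidableEq

abbrev c : FreeGroup Gen := FreeGroup.of Gen.c
abbrev d : FreeGroup Gen := FreeGroup.of Gen.d
abbrev z1 : FreeGroup Gen := FreeGroup.of Gen.z1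
abbrev z2 : FreeGroup Gen := FreeGroup.of Gen.z2
abbrev z3 : FreeGroup Gen := FreeGroup.of Gen.z3

/-- no Coxeter graph -/
def edges : List (Gen × ℕ × Gen) := []

/-- the relators -/
def extra : List (FreeGroup Gen) := [
  c ^ 7,
  d ^ 4,
  z1⁻¹ * c * c * d * c⁻¹ * d * c * d⁻¹ * c * d * c⁻¹ * d,
  z2⁻¹ * ((c * c * c * d) ^ 3),
  z3⁻¹ * c * c * d * d * c * c * d⁻¹ * d⁻¹ * c * c * d⁻¹ * d⁻¹,
  z1 ^ 3,
  z2 ^ 3,
  z3 ^ 3,
  z1 * c * z1⁻¹ * c⁻¹,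
  z1 * d * z1⁻¹ * d⁻¹,
  z2 * c * z2⁻¹ * c⁻¹,
  z2 * d * z2⁻¹ * d⁻¹,
  z3 * c * z3⁻¹ * c⁻¹,
  z3 * d * z3⁻¹ * d⁻¹,
  c ^ 7 ]

end SU33pp3

end Cfsg.Agent.Lib.Helper4
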