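import Mathlib
import Cfsg.Prelude.Def_SporCoxeter

/-! The auxiliary presentation `SU42pp3` for stem extensions of `U42p` with kernel of order 3 (generated). -/

namespace Cfsg.Agent.Lib.Helper4

namespace SU42pp3

/-- the generators -/
inductive Gen
  | s1
  | s2
  | s3
  | a
  | b
  | z0
  | z1
  | z2
  | y1
  | y2
  | y3
  deriving DecidableEq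

abbrev s1 : FreeGroup Gen := FreeGroup.of Gen.s1
abbrev s2 : FreeGroup Gen := FreeGroup.of Gen.s2
abbrev s3 : FreeGroup Gen := FreeGroup.of Gen.s3
abbrev a : FreeGroup Gen := FreeGroup.of Gen.a
abbrev b : FreeGroup Gen := FreeGroup.of Gen.b
abbrev z0 : FreeGroup Gen := FreeGroup.of Gen.z0
abbrev z1 : FreeGroup Gen := FreeGroup.of Gen.z1
abbrev z2 : FreeGroup Gen := FreeGroup.of Gen.z2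
abbrev y1 : FreeGroup Gen := FreeGroup.of Gen.y1
abbrev y2 : FreeGroup Gen := FreeGroup.of Gen.y2
abbrev y3 : FreeGroup Gen := FreeGroup.of Gen.y3

/-- no Coxeter graph -/
def edges : List (Gen × ℕ × Gen) := []

/-- the relators -/
def extra : List (FreeGroup Gen) := [
  s1 ^ 2,
  s2 ^ 4,
  s3 ^ 2,
  a ^ 2,
  b ^ 5,
  z0⁻¹ * ((a * b) ^ 9),
  z1⁻¹ * ((a⁻¹ * b⁻¹ * a * b) ^ 3),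
  z2⁻¹ * ((a⁻¹ * b⁻¹ * a⁻¹ * b⁻¹ * a * b * a * b) ^ 2),
  y1⁻¹ * s1⁻¹ * a * b * a * b⁻¹ * a,
  y2⁻¹ * s2⁻¹ * b⁻¹ * a * b⁻¹ * b⁻¹ * a * b⁻¹ * b⁻¹ * a * b⁻¹,
  y3⁻¹ * s3⁻¹ * a * b⁻¹ * a * b * a * b⁻¹ * b⁻¹ * a * b * b,
  z0 ^ 3,
  z1 ^ 3,
  z2 ^ 3,
  y1 ^ 3,
  y2 ^ 3,
  y3 ^ 3,
  z0 * s1 * z0⁻¹ * s1⁻¹,
  z0 * s2 * z0⁻¹ * s2⁻¹,
  z0 * s3 * z0⁻¹ * s3⁻¹,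
  z0 * a * z0⁻¹ * a⁻¹,
  z0 * b * z0⁻¹ * b⁻¹,
  z1 * s1 * z1⁻¹ * s1⁻¹,
  z1 * s2 * z1⁻¹ * s2⁻¹,
  z1 * s3 * z1⁻¹ * s3⁻¹,
  z1 * a * z1⁻¹ * a⁻¹,
  z1 * b * z1⁻¹ * b⁻¹,
  z2 * s1 * z2⁻¹ * s1⁻¹,
  z2 * s2 * z2⁻¹ * s2⁻¹,
  z2 * s3 * z2⁻¹ * s3⁻¹,
  z2 * a * z2⁻¹ * a⁻¹,
  z2 * b * z2⁻¹ * b⁻¹,
  y1 * s1 * y1⁻¹ * s1⁻¹,
  y1 * s2 * y1⁻¹ * s2⁻¹,
  y1 * s3 * y1⁻¹ * s3⁻¹,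
  y1 * a * y1⁻¹ * a⁻¹,
  y1 * b * y1⁻¹ * b⁻¹,
  y2 * s1 * y2⁻¹ * s1⁻¹,
  y2 * s2 * y2⁻¹ * s2⁻¹,
  y2 * s3 * y2⁻¹ * s3⁻¹,
  y2 * a * y2⁻¹ * a⁻¹,
  y2 * b * y2⁻¹ * b⁻¹,
  y3 * s1 * y3⁻¹ * s1⁻¹,
  y3 * s2 * y3⁻¹ * s2⁻¹,
  y3 * s3 * y3⁻¹ * s3⁻¹,
  y3 * a * y3⁻¹ * a⁻¹,
  y3 * b * y3⁻¹ * b⁻¹,
  s1 * s1,
  s3 * s3,
  s2 * s3 * s2⁻¹ * s3⁻¹,
  s1 * s2 * s2 * s1⁻¹ * s2⁻¹ * s2⁻¹,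
  s1 * s2 * s1 * s2 * s1⁻¹ * s2⁻¹ * s1⁻¹ * s2⁻¹,
  s1 * s2 * s1⁻¹ * s3⁻¹ * s1⁻¹ * s2 * s1 * s3,
  s1 * s3 * s1 * s3 * s1⁻¹ * s3⁻¹ * s1⁻¹ * s3⁻¹ ]

end SU42pp3

end Cfsg.Agent.Lib.Helper4
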