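import Mathlib
import Cfsg.Prelude.Def_SporCoxeter

/-! The auxiliary presentation `SU52pp2` for stem extensions of `U52p` with kernel of order 2 (generated). -/

namespace Cfsg.Agent.Lib.Helper4

namespace SU52pp2

/-- the generators -/
inductive Gen
  | d
  | c
  | b
  | w
  | x
  | y
  | a
  | u
  | z0
  | z1
  | r0
  | r1
  | r2
  | r3
  | r4
  | yd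
  | yc
  deriving DecidableEq

abbrev d : FreeGroup Gen := FreeGroup.of Gen.d
abbrev c : FreeGroup Gen := FreeGroup.of Gen.c
abbrev b : FreeGroup Gen := FreeGroup.of Gen.b
abbrev w : FreeGroup Gen := FreeGroup.of Gen.w
abbrev x : FreeGroup Gen := FreeGroup.of Gen.x
abbrev y : FreeGroup Gen := FreeGroup.of Gen.y
abbrev a : FreeGroup Gen := FreeGroup.of Gen.a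
abbrev u : FreeGroup Gen := FreeGroup.of Gen.u
abbrev z0 : FreeGroup Gen := FreeGroup.of Gen.z0
abbrev z1 : FreeGroup Gen := FreeGroup.of Gen.z1
abbrev r0 : FreeGroup Gen := FreeGroup.of Gen.r0
abbrev r1 : FreeGroup Gen := FreeGroup.of Gen.r1
abbrev r2 : FreeGroup Gen := FreeGroup.of Gen.r2
abbrev r3 : FreeGroup Gen := FreeGroup.of Gen.r3
abbrev r4 : FreeGroup Gen := FreeGroup.of Gen.r4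
abbrev yd : FreeGroup Gen := FreeGroup.of Gen.yd
abbrev yc : FreeGroup Gen := FreeGroup.of Gen.yc

/-- no Coxeter graph -/
def edges : List (Gen × ℕ × Gen) := []

/-- the relators -/
def extra : List (FreeGroup Gen) := [
  d ^ 3,
  c ^ 5,
  b ^ 5,
  w ^ 3,
  x ^ 9,
  y ^ 3,
  a⁻¹ * x * b⁻¹,
  u⁻¹ * a⁻¹ * y,
  z0⁻¹ * a * a,
  z1⁻¹ * u * u,
  r0⁻¹ * ((a⁻¹ * b⁻¹ * a * b) ^ 3),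
  r1⁻¹ * ((a⁻¹ * b⁻¹ * a⁻¹ * b⁻¹ * a * b * a * b) ^ 2),
  r2⁻¹ * w⁻¹ * a⁻¹ * w * a,
  r3⁻¹ * w⁻¹ * b⁻¹ * w * b,
  r4⁻¹ * a * b * a * b * w * u * a * b * u,
  yd⁻¹ * d⁻¹ * b * a * b * b * a * b * a * b * b * a * w,
  yc⁻¹ * c⁻¹ * a * b * b * a * b⁻¹ * a * b⁻¹ * u * a * b⁻¹ * u * b⁻¹ * u * w,
  z0 ^ 2,
  z1 ^ 2,
  r0 ^ 2,
  r1 ^ 2,
  r2 ^ 2,
  r3 ^ 2,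
  r4 ^ 2,
  yd ^ 2,
  yc ^ 2,
  z0 * d * z0⁻¹ * d⁻¹,
  z0 * c * z0⁻¹ * c⁻¹,
  z0 * b * z0⁻¹ * b⁻¹,
  z0 * w * z0⁻¹ * w⁻¹,
  z0 * x * z0⁻¹ * x⁻¹,
  z0 * y * z0⁻¹ * y⁻¹,
  z0 * a * z0⁻¹ * a⁻¹,
  z0 * u * z0⁻¹ * u⁻¹,
  z1 * d * z1⁻¹ * d⁻¹,
  z1 * c * z1⁻¹ * c⁻¹,
  z1 * b * z1⁻¹ * b⁻¹,
  z1 * w * z1⁻¹ * w⁻¹,
  z1 * x * z1⁻¹ * x⁻¹,
  z1 * y * z1⁻¹ * y⁻¹,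
  z1 * a * z1⁻¹ * a⁻¹,
  z1 * u * z1⁻¹ * u⁻¹,
  r0 * d * r0⁻¹ * d⁻¹,
  r0 * c * r0⁻¹ * c⁻¹,
  r0 * b * r0⁻¹ * b⁻¹,
  r0 * w * r0⁻¹ * w⁻¹,
  r0 * x * r0⁻¹ * x⁻¹,
  r0 * y * r0⁻¹ * y⁻¹,
  r0 * a * r0⁻¹ * a⁻¹,
  r0 * u * r0⁻¹ * u⁻¹,
  r1 * d * r1⁻¹ * d⁻¹,
  r1 * c * r1⁻¹ * c⁻¹,
  r1 * b * r1⁻¹ * b⁻¹,
  r1 * w * r1⁻¹ * w⁻¹,
  r1 * x * r1⁻¹ * x⁻¹,
  r1 * y * r1⁻¹ * y⁻¹,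
  r1 * a * r1⁻¹ * a⁻¹,
  r1 * u * r1⁻¹ * u⁻¹,
  r2 * d * r2⁻¹ * d⁻¹,
  r2 * c * r2⁻¹ * c⁻¹,
  r2 * b * r2⁻¹ * b⁻¹,
  r2 * w * r2⁻¹ * w⁻¹,
  r2 * x * r2⁻¹ * x⁻¹,
  r2 * y * r2⁻¹ * y⁻¹,
  r2 * a * r2⁻¹ * a⁻¹,
  r2 * u * r2⁻¹ * u⁻¹,
  r3 * d * r3⁻¹ * d⁻¹,
  r3 * c * r3⁻¹ * c⁻¹,
  r3 * b * r3⁻¹ * b⁻¹,
  r3 * w * r3⁻¹ * w⁻¹,
  r3 * x * r3⁻¹ * x⁻¹,
  r3 * y * r3⁻¹ * y⁻¹,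
  r3 * a * r3⁻¹ * a⁻¹,
  r3 * u * r3⁻¹ * u⁻¹,
  r4 * d * r4⁻¹ * d⁻¹,
  r4 * c * r4⁻¹ * c⁻¹,
  r4 * b * r4⁻¹ * b⁻¹,
  r4 * w * r4⁻¹ * w⁻¹,
  r4 * x * r4⁻¹ * x⁻¹,
  r4 * y * r4⁻¹ * y⁻¹,
  r4 * a * r4⁻¹ * a⁻¹,
  r4 * u * r4⁻¹ * u⁻¹,
  yd * d * yd⁻¹ * d⁻¹,
  yd * c * yd⁻¹ * c⁻¹,
  yd * b * yd⁻¹ * b⁻¹,
  yd * w * yd⁻¹ * w⁻¹,
  yd * x * yd⁻¹ * x⁻¹,
  yd * y * yd⁻¹ * y⁻¹,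
  yd * a * yd⁻¹ * a⁻¹,
  yd * u * yd⁻¹ * u⁻¹,
  yc * d * yc⁻¹ * d⁻¹,
  yc * c * yc⁻¹ * c⁻¹,
  yc * b * yc⁻¹ * b⁻¹,
  yc * w * yc⁻¹ * w⁻¹,
  yc * x * yc⁻¹ * x⁻¹,
  yc * y * yc⁻¹ * y⁻¹,
  yc * a * yc⁻¹ * a⁻¹,
  yc * u * yc⁻¹ * u⁻¹,
  d * d * d,
  c * c * c * c * c,
  d * c * d * c⁻¹ * d⁻¹ * c * d⁻¹ * c⁻¹,
  d * c * d * c * d * c * d * c * d * c,
  d * c⁻¹ * d * c⁻¹ * d * c⁻¹ * d * c⁻¹ * d * c⁻¹ ]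

end SU52pp2

end Cfsg.Agent.Lib.Helper4
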