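import Mathlib
import Cfsg.Prelude.Def_SporCoxeter

/-! The auxiliary presentation `SU52pq3` for stem extensions of `U52p` with kernel of order 3 (generated). -/

namespace Cfsg.Agent.Lib.Helper4

namespace SU52pq3

/-- the generators -/
inductive Gen
  | a
  | b
  | u
  | t
  | w
  | z0
  | z1
  | z2
  | z3
  | z4
  deriving DecidableEq

abbrev a : FreeGroup Gen := FreeGroup.of Gen.a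
abbrev b : FreeGroup Gen := FreeGroup.of Gen.b
abbrev u : FreeGroup Gen := FreeGroup.of Gen.u
abbrev t : FreeGroup Gen := FreeGroup.of Gen.t
abbrev w : FreeGroup Gen := FreeGroup.of Gen.w
abbrev z0 : FreeGroup Gen := FreeGroup.of Gen.z0
abbrev z1 : FreeGroup Gen := FreeGroup.of Gen.z1
abbrev z2 : FreeGroup Gen := FreeGroup.of Gen.z2
abbrev z3 : FreeGroup Gen := FreeGroup.of Gen.z3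
abbrev z4 : FreeGroup Gen := FreeGroup.of Gen.z4

/-- no Coxeter graph -/
def edges : List (Gen × ℕ × Gen) := []

/-- the relators -/
def extra : List (FreeGroup Gen) := [
  a ^ 2,
  b ^ 5,
  u ^ 2,
  t ^ 11,
  w⁻¹ * t * u⁻¹ * b,
  z0⁻¹ * w * w * w,
  z1⁻¹ * w⁻¹ * a⁻¹ * w * a,
  z2⁻¹ * w⁻¹ * b⁻¹ * w * b,
  z3⁻¹ * ((a * u) ^ 3),
  z4⁻¹ * a * b * a * b * w * u * a * b * u,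
  z0 ^ 3,
  z1 ^ 3,
  z2 ^ 3,
  z3 ^ 3,
  z4 ^ 3,
  z0 * a * z0⁻¹ * a⁻¹,
  z0 * b * z0⁻¹ * b⁻¹,
  z0 * u * z0⁻¹ * u⁻¹,
  z0 * t * z0⁻¹ * t⁻¹,
  z0 * w * z0⁻¹ * w⁻¹,
  z1 * a * z1⁻¹ * a⁻¹,
  z1 * b * z1⁻¹ * b⁻¹,
  z1 * u * z1⁻¹ * u⁻¹,
  z1 * t * z1⁻¹ * t⁻¹,
  z1 * w * z1⁻¹ * w⁻¹,
  z2 * a * z2⁻¹ * a⁻¹,
  z2 * b * z2⁻¹ * b⁻¹,
  z2 * u * z2⁻¹ * u⁻¹,
  z2 * t * z2⁻¹ * t⁻¹,
  z2 * w * z2⁻¹ * w⁻¹,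
  z3 * a * z3⁻¹ * a⁻¹,
  z3 * b * z3⁻¹ * b⁻¹,
  z3 * u * z3⁻¹ * u⁻¹,
  z3 * t * z3⁻¹ * t⁻¹,
  z3 * w * z3⁻¹ * w⁻¹,
  z4 * a * z4⁻¹ * a⁻¹,
  z4 * b * z4⁻¹ * b⁻¹,
  z4 * u * z4⁻¹ * u⁻¹,
  z4 * t * z4⁻¹ * t⁻¹,
  z4 * w * z4⁻¹ * w⁻¹,
  a ^ 2,
  b ^ 5,
  (a * b) ^ 9,
  (a⁻¹ * b⁻¹ * a * b) ^ 3,
  (a⁻¹ * b⁻¹ * a⁻¹ * b⁻¹ * a * b * a * b) ^ 2 ]

end SU52pq3

end Cfsg.Agent.Lib.Helper4
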