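import Mathlib

set_option autoImplicit false
set_option linter.unusedVariables false
set_option linter.style.longLine false

/-! A concrete model of the field with four elements and of 5 x 5 matrices over it, together with the
computational facts about an explicit copy of `L₂(11)` inside `SU₅(2)`. -/

namespace Cfsg.Agent.Lib.Helper4.SU5

/-- the field with four elements `0, 1, ω, ω²` -/
inductive F4 : Type
  | z | o | w | v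
  deriving DecidableEq

instance : Fintype F4 := ⟨⟨[F4.z, F4.o, F4.w, F4.v], by decide⟩, by intro x; cases x <;> decide⟩

namespace F4

def add : F4 → F4 → F4
  | z, x => x
  | o, z => o | o, o => z | o, w => v | o, v => w
  | w, z => w | w, o => v | w, w => z | w, v => o
  | v, z => v | v, o => w | v, w => o | v, v => z

def mul : F4 → F4 → F4
  | z, _ => z
  | o, x => x
  | w, z => z | w, o => w | w, w => v | w, v => o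
  | v, z => z | v, o => v | v, w => o | v, v => w

def inv : F4 → F4
  | z => z | o => o | w => v | v => w

instance : Add F4 := ⟨add⟩
instance : Mul F4 := ⟨mul⟩
instance : Neg F4 := ⟨id⟩
instance : Inv F4 := ⟨inv⟩
instance : Zero F4 := ⟨z⟩
instance : One F4 := ⟨o⟩

instance : Field F4 :=
  Field.ofMinimalAxioms F4 (by decide) (by decide) (by decide) (by decide) (by decide) (by decide)
    (by decide) (by decide) (by decide) (by decide)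

theorem card_eq : Fintype.card F4 = 2 ^ 2 := by decide

theorem add_def (a b : F4) : a + b = add a b := rfl
theorem mul_def (a b : F4) : a * b = mul a b := rfl
theorem zero_def : (0 : F4) = z := rfl
theorem one_def : (1 : F4) = o := rfl

theorem sq_def (a : F4) : a ^ 2 = mul a a := by
  rw [pow_two]; rfl

/-- Boolean universal quantifier over `F4` -/
def all (p : F4 → Bool) : Bool := p z && p o && p w && p v

theorem all_spec {p : F4 → Bool} (h : all p = true) (x : F4) : p x = true := by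
  unfold all at h
  simp only [Bool.and_eq_true] at h
  cases x
  · exact h.1.1.1
  · exact h.1.1.2
  · exact h.1.2
  · exact h.2

end F4

open F4

/-- vectors of length 5 -/
structure V5 where
  x0 : F4
  x1 : F4
  x2 : F4
  x3 : F4
  x4 : F4
  deriving DecidableEq

/-- 5 x 5 matrices, by rows -/
structure M5 where
  r0 : V5
  r1 : V5
  r2 : V5
  r3 : V5
  r4 : V5
  deriving DecidableEq

namespace V5

def add (a b : V5) : V5 :=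
  ⟨F4.add a.x0 b.x0, F4.add a.x1 b.x1, F4.add a.x2 b.x2, F4.add a.x3 b.x3, F4.add a.x4 b.x4⟩

def smul (c : F4) (a : V5) : V5 :=
  ⟨F4.mul c a.x0, F4.mul c a.x1, F4.mul c a.x2, F4.mul c a.x3, F4.mul c a.x4⟩

def dot (a b : V5) : F4 :=
  F4.add (F4.add (F4.add (F4.add (F4.mul a.x0 b.x0) (F4.mul a.x1 b.x1)) (F4.mul a.x2 b.x2))
    (F4.mul a.x3 b.x3)) (F4.mul a.x4 b.x4)

def conj (a : V5) : V5 :=
  ⟨F4.mul a.x0 a.x0, F4.mul a.x1 a.x1, F4.mul a.x2 a.x2, F4.mul a.x3 a.x3, F4.mul a.x4 a.x4⟩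

def zero : V5 := ⟨z, z, z, z, z⟩

/-- entry -/
def get (a : V5) : Fin 5 → F4
  | 0 => a.x0 | 1 => a.x1 | 2 => a.x2 | 3 => a.x3 | 4 => a.x4

end V5

namespace M5

def one : M5 := ⟨⟨o, z, z, z, z⟩, ⟨z, o, z, z, z⟩, ⟨z, z, o, z, z⟩, ⟨z, z, z, o, z⟩, ⟨z, z, z, z, o⟩⟩

/-- linear combination of the rows of `B` with coefficients `a` (= the row vector `a * B`) -/
def lin (a : V5) (B : M5) : V5 :=
  V5.add (V5.add (V5.add (V5.add (V5.smul a.x0 B.r0) (V5.smul a.x1 B.r1)) (V5.smul a.x2 B.r2))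
    (V5.smul a.x3 B.r3)) (V5.smul a.x4 B.r4)

def mul (A B : M5) : M5 := ⟨lin A.r0 B, lin A.r1 B, lin A.r2 B, lin A.r3 B, lin A.r4 B⟩

def mulVec (A : M5) (v : V5) : V5 :=
  ⟨V5.dot A.r0 v, V5.dot A.r1 v, V5.dot A.r2 v, V5.dot A.r3 v, V5.dot A.r4 v⟩

def transpose (A : M5) : M5 :=
  ⟨⟨A.r0.x0, A.r1.x0, A.r2.x0, A.r3.x0, A.r4.x0⟩, ⟨A.r0.x1, A.r1.x1, A.r2.x1, A.r3.x1, A.r4.x1⟩,
   ⟨A.r0.x2, A.r1.x2, A.r2.x2, A.r3.x2, A.r4.x2⟩, ⟨A.r0.x3, A.r1.x3, A.r2.x3, A.r3.x3, A.r4.x3⟩,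
   ⟨A.r0.x4, A.r1.x4, A.r2.x4, A.r3.x4, A.r4.x4⟩⟩

/-- conjugate transpose -/
def ct (A : M5) : M5 :=
  let B := transpose A
  ⟨V5.conj B.r0, V5.conj B.r1, V5.conj B.r2, V5.conj B.r3, V5.conj B.r4⟩

def add (A B : M5) : M5 := ⟨V5.add A.r0 B.r0, V5.add A.r1 B.r1, V5.add A.r2 B.r2, V5.add A.r3 B.r3, V5.add A.r4 B.r4⟩

def smul (c : F4) (A : M5) : M5 := ⟨V5.smul c A.r0, V5.smul c A.r1, V5.smul c A.r2, V5.smul c A.r3, V5.smul c A.r4⟩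

def trace (A : M5) : F4 :=
  F4.add (F4.add (F4.add (F4.add A.r0.x0 A.r1.x1) A.r2.x2) A.r3.x3) A.r4.x4

def pow (A : M5) : ℕ → M5
  | 0 => one
  | n + 1 => mul (pow A n) A

def row (A : M5) : Fin 5 → V5
  | 0 => A.r0 | 1 => A.r1 | 2 => A.r2 | 3 => A.r3 | 4 => A.r4

end M5

/-! ### The explicit matrices -/

def a0 : M5 := ⟨⟨o, w, w, v, v⟩, ⟨z, w, v, z, w⟩, ⟨w, o, v, o, v⟩, ⟨o, o, z, z, o⟩, ⟨z, w, z, o, w⟩⟩
def b0 : M5 := ⟨⟨z, z, v, o, w⟩, ⟨z, o, z, z, z⟩, ⟨o, z, w, v, z⟩, ⟨v, z, z, w, v⟩, ⟨o, z, w, z, o⟩⟩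
def t0 : M5 := ⟨⟨o, z, o, z, o⟩, ⟨z, o, z, z, z⟩, ⟨o, z, o, o, z⟩, ⟨z, z, o, o, o⟩, ⟨o, z, z, o, o⟩⟩
def u0 : M5 := ⟨⟨o, z, z, z, z⟩, ⟨z, o, z, z, z⟩, ⟨z, z, o, z, z⟩, ⟨z, z, z, z, o⟩, ⟨z, z, z, o, z⟩⟩
/-- columns `e, a0 e, ..., a0^4 e` for the cyclic vector `e = e_0` -/
def Mc : M5 := ⟨⟨o, o, o, z, w⟩, ⟨z, z, o, o, z⟩, ⟨z, w, w, z, v⟩, ⟨z, o, o, o, z⟩, ⟨z, z, o, o, o⟩⟩
def Mi : M5 := ⟨⟨o, z, v, z, z⟩, ⟨z, o, z, o, z⟩, ⟨z, v, v, o, w⟩, ⟨z, w, v, o, w⟩, ⟨z, o, z, z, o⟩⟩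

def e0 : V5 := ⟨o, z, z, z, z⟩

/-- the orbit of `e_1` under the copy of `L₂(11)` -/
def S : List V5 := [⟨z, z, o, o, w⟩, ⟨z, z, o, w, v⟩, ⟨z, z, o, v, o⟩, ⟨z, z, w, o, v⟩, ⟨z, z, w, v, w⟩, ⟨z, z, v, o, o⟩, ⟨z, z, v, w, w⟩, ⟨z, o, z, z, z⟩, ⟨z, o, z, o, o⟩, ⟨z, o, z, v, w⟩, ⟨z, o, o, z, v⟩, ⟨z, o, o, w, z⟩, ⟨z, o, w, z, w⟩, ⟨z, o, v, o, z⟩, ⟨z, w, z, v, o⟩, ⟨z, w, w, z, v⟩, ⟨z, w, v, w, z⟩, ⟨z, v, z, v, o⟩, ⟨z, v, w, z, v⟩, ⟨z, v, v, w, z⟩, ⟨o, z, z, z, z⟩, ⟨o, z, z, o, v⟩, ⟨o, z, z, w, w⟩, ⟨o, z, o, z, o⟩, ⟨o, z, o, v, z⟩, ⟨o, z, w, o, z⟩, ⟨o, z, v, z, w⟩, ⟨o, o, z, z, w⟩, ⟨o, o, z, o, z⟩, ⟨o, o, o, z, z⟩, ⟨o, o, o, w, o⟩, ⟨o, o, o, v, v⟩, ⟨o, o, w, o, o⟩, ⟨o, o, w, w, w⟩, ⟨o, o, v, o, v⟩, ⟨o, o, v, v, w⟩, ⟨o, w, o, v, o⟩, ⟨o, w, w, o, v⟩, ⟨o, w, w, w, o⟩, ⟨o, w, v, w, w⟩, ⟨o, w, v, v, v⟩, ⟨o, v, o, v, o⟩, ⟨o, v, w, o, v⟩, ⟨o, v, w, w,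 o⟩, ⟨o, v, v, w, w⟩, ⟨o, v, v, v, v⟩, ⟨w, z, z, w, v⟩, ⟨w, z, w, v, z⟩, ⟨w, z, v, z, o⟩, ⟨w, o, o, w, v⟩, ⟨w, o, w, w, o⟩, ⟨w, o, w, v, w⟩, ⟨w, o, v, o, o⟩, ⟨w, o, v, v, v⟩, ⟨w, w, o, o, w⟩, ⟨w, v, o, o, w⟩, ⟨v, z, z, w, v⟩, ⟨v, z, w, v, z⟩, ⟨v, z, v, z, o⟩, ⟨v, o, o, w, v⟩, ⟨v, o, w, w, o⟩, ⟨v, o, w, v, w⟩, ⟨v, o, v, o, o⟩, ⟨v, o, v, v, v⟩, ⟨v, w, o, o, w⟩, ⟨v, v, o, o, w⟩]

/-- membership in `S` as a Boolean -/
def inS (x : V5) : Bool := S.contains x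

/-- powers of `a0` -/
def ap (k : ℕ) : M5 := M5.pow a0 k

/-- the polynomial `c0 + c1 a0 + ... + c4 a0^4` -/
def poly (c : V5) : M5 :=
  M5.add (M5.add (M5.add (M5.add (M5.smul c.x0 M5.one) (M5.smul c.x1 (ap 1))) (M5.smul c.x2 (ap 2)))
    (M5.smul c.x3 (ap 3))) (M5.smul c.x4 (ap 4))

/-- the 33 scalar multiples of powers of `a0` -/
def list33 : List M5 :=
  (List.range 11).flatMap fun k => [ap k, M5.smul w (ap k), M5.smul v (ap k)]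

/-! ### Computational facts -/

theorem a0_pow : M5.pow a0 11 = M5.one := by decide +kernel
theorem a0_ne : a0 ≠ M5.one := by decide +kernel
theorem a0_unitary : M5.mul (M5.ct a0) a0 = M5.one := by decide +kernel
theorem b0_unitary : M5.mul (M5.ct b0) b0 = M5.one := by decide +kernel
theorem t0_unitary : M5.mul (M5.ct t0) t0 = M5.one := by decide +kernel
theorem u0_unitary : M5.mul (M5.ct u0) u0 = M5.one := by decide +kernel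
theorem b0_pow : M5.pow b0 5 = M5.one := by decide +kernel
theorem t0_sq : M5.mul t0 t0 = M5.one := by decide +kernel
theorem u0_sq : M5.mul u0 u0 = M5.one := by decide +kernel

/-- `b0^j a0 = a0^(4^j) b0^j` -/
theorem b0_conj :
    M5.mul (M5.pow b0 0) a0 = M5.mul (ap 1) (M5.pow b0 0) ∧
    M5.mul (M5.pow b0 1) a0 = M5.mul (ap 4) (M5.pow b0 1) ∧
    M5.mul (M5.pow b0 2) a0 = M5.mul (ap 5) (M5.pow b0 2) ∧
    M5.mul (M5.pow b0 3) a0 = M5.mul (ap 9) (M5.pow b0 3) ∧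
    M5.mul (M5.pow b0 4) a0 = M5.mul (ap 3) (M5.pow b0 4) := by decide +kernel

theorem t0_not_norm : ∀ k : Fin 11, M5.mul t0 a0 ≠ M5.mul (ap k) t0 := by decide +kernel

theorem trace_ap : ∀ k : Fin 11, M5.trace (ap k) = M5.trace a0 →
    (k = 1 ∨ k = 4 ∨ k = 5 ∨ k = 9 ∨ k = 3) := by decide +kernel

theorem Mc_Mi : M5.mul Mc Mi = M5.one := by decide +kernel
theorem Mi_Mc : M5.mul Mi Mc = M5.one := by decide +kernel

/-- the columns of `Mc` are `a0^k e0` -/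
theorem Mc_cols : M5.transpose Mc =
    ⟨M5.mulVec (ap 0) e0, M5.mulVec (ap 1) e0, M5.mulVec (ap 2) e0, M5.mulVec (ap 3) e0, M5.mulVec (ap 4) e0⟩ := by
  decide +kernel

theorem S_closed : S.all (fun s => inS (M5.mulVec a0 s) && inS (M5.mulVec b0 s) && inS (M5.mulVec t0 s)) = true := by
  decide +kernel

theorem S_not_u0 : inS ⟨z, z, o, o, w⟩ = true ∧ inS (M5.mulVec u0 ⟨z, z, o, o, w⟩) = false := by decide +kernel

theorem S_nodup : S.Nodup := by decide +kernel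

theorem poly_unitary :
    F4.all (fun c0 => F4.all fun c1 => F4.all fun c2 => F4.all fun c3 => F4.all fun c4 =>
      let X := poly ⟨c0, c1, c2, c3, c4⟩
      (!(decide (M5.mul (M5.ct X) X = M5.one))) || list33.contains X) = true := by
  decide +kernel

end Cfsg.Agent.Lib.Helper4.SU5
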