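import Mathlib
import Cfsg.Agent.Lib.Helper4.SU5a

set_option autoImplicit false
set_option linter.unusedVariables false
set_option linter.style.longLine false
set_option linter.unusedSimpArgs false

/-! Bridge between the code model `M5` and `Matrix (Fin 5) (Fin 5) F4`. -/

namespace Cfsg.Agent.Lib.Helper4.SU5

open F4 Matrix

/-- the vector of a code -/
def toVec (a : V5) : Fin 5 → F4 := a.get

/-- the matrix of a code -/
def toMat (A : M5) : Matrix (Fin 5) (Fin 5) F4 := fun i j => (A.row i).get j

def ofVec (f : Fin 5 → F4) : V5 := ⟨f 0, f 1, f 2, f 3, f 4⟩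

def ofMat (X : Matrix (Fin 5) (Fin 5) F4) : M5 := ⟨ofVec (X 0), ofVec (X 1), ofVec (X 2), ofVec (X 3), ofVec (X 4)⟩

theorem toVec_ofVec (f : Fin 5 → F4) : toVec (ofVec f) = f := by
  funext i; fin_cases i <;> rfl

theorem ofVec_toVec (a : V5) : ofVec (toVec a) = a := rfl

theorem toMat_ofMat (X : Matrix (Fin 5) (Fin 5) F4) : toMat (ofMat X) = X := by
  funext i j; fin_cases i <;> fin_cases j <;> rfl

theorem ofMat_toMat (A : M5) : ofMat (toMat A) = A := rfl

theorem toMat_injective : Function.Injective toMat := by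
  intro A B h
  rw [← ofMat_toMat A, ← ofMat_toMat B, h]

theorem toVec_injective : Function.Injective toVec := by
  intro A B h
  rw [← ofVec_toVec A, ← ofVec_toVec B, h]

theorem toMat_one : toMat M5.one = 1 := by
  funext i j; fin_cases i <;> fin_cases j <;> rfl

theorem toMat_mul (A B : M5) : toMat (M5.mul A B) = toMat A * toMat B := by
  funext i j
  rw [Matrix.mul_apply, Fin.sum_univ_five]
  fin_cases i <;> fin_cases j <;> rfl

theorem toMat_add (A B : M5) : toMat (M5.add A B) = toMat A + toMat B := by
  funext i j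
  rw [Matrix.add_apply]
  fin_cases i <;> fin_cases j <;> rfl

theorem toMat_smul (c : F4) (A : M5) : toMat (M5.smul c A) = c • toMat A := by
  funext i j
  rw [Matrix.smul_apply, smul_eq_mul]
  fin_cases i <;> fin_cases j <;> rfl

theorem toVec_mulVec (A : M5) (v : V5) : toVec (M5.mulVec A v) = toMat A *ᵥ toVec v := by
  funext i
  rw [Matrix.mulVec, dotProduct, Fin.sum_univ_five]
  fin_cases i <;> rfl

theorem toMat_pow (A : M5) (k : ℕ) : toMat (M5.pow A k) = toMat A ^ k := by
  induction k with
  | zero => rw [pow_zero]; exact toMat_one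
  | succ n ih => rw [pow_succ, ← ih, ← toMat_mul]; rfl

theorem toMat_trace (A : M5) : Matrix.trace (toMat A) = M5.trace A := by
  rw [Matrix.trace, Fin.sum_univ_five]
  rfl

theorem toMat_transpose (A : M5) : toMat (M5.transpose A) = (toMat A)ᵀ := by
  funext i j; fin_cases i <;> fin_cases j <;> rfl

/-- conjugate transpose, matrix form -/
theorem toMat_ct (A : M5) (i j : Fin 5) : toMat (M5.ct A) i j = (toMat A j i) ^ 2 := by
  rw [F4.sq_def]
  fin_cases i <;> fin_cases j <;> rfl

end Cfsg.Agent.Lib.Helper4.SU5
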