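import Mathlib

set_option autoImplicit false
set_option linter.unusedVariables false
set_option linter.style.longLine false
set_option linter.unusedSimpArgs false

/-! Abstract group lemmas for the `SU₅(2)` argument: conjugacy of subgroups of order 11 and the transfer of the
"good overgroup" property along isomorphisms. -/

namespace Cfsg.Agent.Lib.Helper4.SU5

/-- two elements of order 11 in a finite group of order not divisible by 121: a conjugate of the first lies in the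
cyclic group of the second -/
theorem exists_conj_mem_zpowers {Γ : Type*} [Group Γ] [Finite Γ] (h121 : ¬ 121 ∣ Nat.card Γ) (g a : Γ)
    (hg : orderOf g = 11) (ha : orderOf a = 11) :
    ∃ x : Γ, x * g * x⁻¹ ∈ Subgroup.zpowers a := by
  classical
  have : Fact (Nat.Prime 11) := ⟨by norm_num⟩
  have h11 : 11 ∣ Nat.card Γ := by rw [← hg]; exact orderOf_dvd_natCard g
  have hfac : (Nat.card Γ).factorization 11 = 1 := by
    have hpos : Nat.card Γ ≠ 0 := Nat.card_pos.ne'
    have h1 : 1 ≤ (Nat.card Γ).factorization 11 :=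
      (Nat.Prime.dvd_iff_one_le_factorization (by norm_num) hpos).mp h11
    have h2 : ¬ 2 ≤ (Nat.card Γ).factorization 11 := by
      intro h
      apply h121
      have := (Nat.Prime.pow_dvd_iff_le_factorization (p := 11) (by norm_num) hpos (k := 2)).mpr h
      simpa using this
    omega
  have key : ∀ y : Γ, orderOf y = 11 → ∃ Q : Sylow 11 Γ, (Q : Subgroup Γ) = Subgroup.zpowers y := by
    intro y hy
    have hcard : Nat.card (Subgroup.zpowers y) = 11 := by rw [Nat.card_zpowers, hy]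
    have hP : IsPGroup 11 (Subgroup.zpowers y) := IsPGroup.of_card (n := 1) (by rw [hcard]; norm_num)
    obtain ⟨Q, hQ⟩ := hP.exists_le_sylow
    refine ⟨Q, ?_⟩
    have hQc : Nat.card (Q : Subgroup Γ) = 11 := by
      rw [Sylow.card_eq_multiplicity, hfac, pow_one]
    symm
    apply Subgroup.eq_of_le_of_card_ge hQ
    rw [hQc, hcard]
  obtain ⟨Q, hQ⟩ := key g hg
  obtain ⟨Q', hQ'⟩ := key a ha
  obtain ⟨x, hx⟩ := MulAction.exists_smul_eq Γ Q Q'
  refine ⟨x, ?_⟩
  rw [← hQ', ← hx, Sylow.coe_subgroup_smul]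
  have hgQ : g ∈ (Q : Subgroup Γ) := by rw [hQ]; exact Subgroup.mem_zpowers g
  have := Subgroup.smul_mem_pointwise_smul g (MulAut.conj x) (Q : Subgroup Γ) hgQ
  simpa [MulAut.smul_def, MulAut.conj_apply] using this

/-- The property we transfer: every element of order 11 has its normaliser inside a proper subgroup that is
strictly bigger (contains an element not normalising). -/
def Good (Γ : Type*) [Group Γ] : Prop :=
  ∀ g : Γ, orderOf g = 11 → ∃ L : Subgroup Γ, L ≠ ⊤ ∧
    (∀ n : Γ, n * g * n⁻¹ ∈ Subgroup.zpowers g → n ∈ L) ∧ ∃ t ∈ L, t * g * t⁻¹ ∉ Subgroup.zpowers g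

theorem Good.of_equiv {Γ Γ' : Type*} [Group Γ] [Group Γ'] (e : Γ ≃* Γ') (h : Good Γ') : Good Γ := by
  intro g hg
  have hg' : orderOf (e g) = 11 := by rw [MulEquiv.orderOf_eq]; exact hg
  obtain ⟨L, hL, hn, t, ht, htn⟩ := h (e g) hg'
  have hz : ∀ y : Γ, e y ∈ Subgroup.zpowers (e g) ↔ y ∈ Subgroup.zpowers g := by
    intro y
    rw [Subgroup.mem_zpowers_iff, Subgroup.mem_zpowers_iff]
    constructor
    · rintro ⟨k, hk⟩
      refine ⟨k, e.injective ?_⟩
      rw [map_zpow, hk]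
    · rintro ⟨k, hk⟩
      refine ⟨k, ?_⟩
      rw [← map_zpow, hk]
  refine ⟨L.comap e.toMonoidHom, ?_, ?_, e.symm t, ?_, ?_⟩
  · intro htop
    apply hL
    rw [eq_top_iff]
    intro y _
    have : e.symm y ∈ L.comap e.toMonoidHom := by rw [htop]; trivial
    simpa using this
  · intro n hn'
    show e n ∈ L
    apply hn
    have := (hz (n * g * n⁻¹)).mpr hn'
    simpa using this
  · show e (e.symm t) ∈ L
    simpa using ht
  · intro hmem
    apply htn
    have := (hz _).mpr hmem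
    simpa using this

/-- the good property at one element passes to its conjugates and to generators of the same cyclic group -/
theorem good_of_conj {Γ : Type*} [Group Γ] [Finite Γ] (a g x : Γ) (ha : orderOf a = 11) (hg : orderOf g = 11)
    (hx : x * g * x⁻¹ ∈ Subgroup.zpowers a)
    (L : Subgroup Γ) (hL : L ≠ ⊤)
    (hn : ∀ n : Γ, n * a * n⁻¹ ∈ Subgroup.zpowers a → n ∈ L) (t : Γ) (ht : t ∈ L)
    (htn : t * a * t⁻¹ ∉ Subgroup.zpowers a) :
    ∃ L' : Subgroup Γ, L' ≠ ⊤ ∧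
      (∀ n : Γ, n * g * n⁻¹ ∈ Subgroup.zpowers g → n ∈ L') ∧ ∃ t' ∈ L', t' * g * t'⁻¹ ∉ Subgroup.zpowers g := by
  classical
  -- `zpowers (x g x⁻¹) = zpowers a`
  obtain ⟨g', hg'def⟩ : ∃ g', g' = x * g * x⁻¹ := ⟨_, rfl⟩
  rw [← hg'def] at hx
  have hg'ord : orderOf g' = 11 := by
    have hsc : SemiconjBy x g g' := by
      show x * g = g' * x
      rw [hg'def]; group
    rw [← hsc.orderOf_eq]
    exact hg
  have hz : Subgroup.zpowers g' = Subgroup.zpowers a := by
    apply Subgroup.eq_of_le_of_card_ge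
    · rw [Subgroup.zpowers_le]; exact hx
    · rw [Nat.card_zpowers, Nat.card_zpowers, ha, hg'ord]
  -- a normaliser of `zpowers g'` normalises `a`
  have hnorm : ∀ n : Γ, n * g' * n⁻¹ ∈ Subgroup.zpowers g' → n * a * n⁻¹ ∈ Subgroup.zpowers a := by
    intro n hn'
    have ha' : a ∈ Subgroup.zpowers g' := by rw [hz]; exact Subgroup.mem_zpowers a
    obtain ⟨k, hk⟩ := Subgroup.mem_zpowers_iff.mp ha'
    have h1 : n * a * n⁻¹ = (n * g' * n⁻¹) ^ k := by
      rw [conj_zpow, hk]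
    rw [h1, ← hz]
    exact Subgroup.zpow_mem _ hn' k
  have hnorm' : ∀ n : Γ, n * a * n⁻¹ ∈ Subgroup.zpowers a → n * g' * n⁻¹ ∈ Subgroup.zpowers g' := by
    intro n hn'
    have hg'a : g' ∈ Subgroup.zpowers a := hx
    obtain ⟨k, hk⟩ := Subgroup.mem_zpowers_iff.mp hg'a
    have h1 : n * g' * n⁻¹ = (n * a * n⁻¹) ^ k := by
      rw [conj_zpow, hk]
    rw [h1, hz]
    exact Subgroup.zpow_mem _ hn' k
  -- conjugate back by `x`
  refine ⟨L.comap (MulAut.conj x).toMonoidHom, ?_, ?_, x⁻¹ * t * x, ?_, ?_⟩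
  · intro htop
    apply hL
    rw [eq_top_iff]
    intro y _
    have : x⁻¹ * y * x ∈ L.comap (MulAut.conj x).toMonoidHom := by rw [htop]; trivial
    have h2 : x * (x⁻¹ * y * x) * x⁻¹ ∈ L := by simpa [MulAut.conj_apply] using this
    have h3 : x * (x⁻¹ * y * x) * x⁻¹ = y := by group
    rwa [h3] at h2
  · intro n hn'
    show (MulAut.conj x) n ∈ L
    rw [MulAut.conj_apply]
    apply hn
    apply hnorm
    -- (x n x⁻¹) g' (x n x⁻¹)⁻¹ = x (n g n⁻¹) x⁻¹
    have h1 : x * n * x⁻¹ * g' * (x * n * x⁻¹)⁻¹ = x * (n * g * n⁻¹) * x⁻¹ := by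
      rw [hg'def]; group
    rw [h1]
    obtain ⟨k, hk⟩ := Subgroup.mem_zpowers_iff.mp hn'
    rw [← hk]
    have h2 : x * g ^ k * x⁻¹ = g' ^ k := by rw [hg'def, conj_zpow]
    rw [h2]
    exact Subgroup.zpow_mem _ (Subgroup.mem_zpowers g') k
  · show (MulAut.conj x) (x⁻¹ * t * x) ∈ L
    rw [MulAut.conj_apply]
    have h3 : x * (x⁻¹ * t * x) * x⁻¹ = t := by group
    rwa [h3]
  · intro hmem
    apply htn
    apply hnorm
    -- t g' t⁻¹ = x ((x⁻¹ t x) g (x⁻¹ t x)⁻¹) x⁻¹
    have h1 : t * g' * t⁻¹ = x * ((x⁻¹ * t * x) * g * (x⁻¹ * t * x)⁻¹) * x⁻¹ := by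
      rw [hg'def]; group
    rw [h1]
    obtain ⟨k, hk⟩ := Subgroup.mem_zpowers_iff.mp hmem
    rw [← hk]
    have h2 : x * g ^ k * x⁻¹ = g' ^ k := by rw [hg'def, conj_zpow]
    rw [h2]
    exact Subgroup.zpow_mem _ (Subgroup.mem_zpowers g') k

end Cfsg.Agent.Lib.Helper4.SU5
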