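import Mathlib
import Cfsg.Agent.Lib.Helper4.SU5b

set_option autoImplicit false
set_option linter.unusedVariables false
set_option linter.style.longLine false
set_option linter.unusedSimpArgs false

/-! The commutant of the explicit element of order 11 and the stabiliser of the 66 vectors, matrix level. -/

namespace Cfsg.Agent.Lib.Helper4.SU5

open F4 Matrix

/-- the matrix of `a0` -/
noncomputable def A : Matrix (Fin 5) (Fin 5) F4 := toMat a0

theorem toMat_ap (k : ℕ) : toMat (ap k) = A ^ k := toMat_pow a0 k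

theorem toMat_poly (c : V5) :
    toMat (poly c) = c.x0 • (1 : Matrix (Fin 5) (Fin 5) F4) + c.x1 • A ^ 1 + c.x2 • A ^ 2 + c.x3 • A ^ 3 + c.x4 • A ^ 4 := by
  unfold poly
  rw [toMat_add, toMat_add, toMat_add, toMat_add, toMat_smul, toMat_smul, toMat_smul, toMat_smul, toMat_smul,
    toMat_one, toMat_ap, toMat_ap, toMat_ap, toMat_ap]

theorem poly_commute (c : V5) (k : ℕ) : Commute (toMat (poly c)) (A ^ k) := by
  rw [toMat_poly]
  apply Commute.pow_right
  have h1 : Commute (1 : Matrix (Fin 5) (Fin 5) F4) A := Commute.one_left A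
  have hA : Commute A A := Commute.refl A
  refine Commute.add_left (Commute.add_left (Commute.add_left (Commute.add_left ?_ ?_) ?_) ?_) ?_
  · exact Commute.smul_left h1 _
  · exact Commute.smul_left (hA.pow_left 1) _
  · exact Commute.smul_left (hA.pow_left 2) _
  · exact Commute.smul_left (hA.pow_left 3) _
  · exact Commute.smul_left (hA.pow_left 4) _

/-- the vector `e_0` -/
noncomputable def e : Fin 5 → F4 := toVec e0

/-- the columns of `Mc` -/
theorem Mc_col (k : Fin 5) : (fun i => toMat Mc i k) = A ^ (k : ℕ) *ᵥ e := by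
  have h := Mc_cols
  have hT : ∀ i k, toMat Mc i k = toMat (M5.transpose Mc) k i := by
    intro i k
    rw [toMat_transpose]; rfl
  have hrow : ∀ k : Fin 5, (fun i => toMat (M5.transpose Mc) k i) = toVec ((M5.transpose Mc).row k) := by
    intro k; rfl
  simp only [hT]
  rw [hrow, h]
  fin_cases k
  · show toVec (M5.mulVec (ap 0) e0) = _
    rw [toVec_mulVec, toMat_ap]; rfl
  · show toVec (M5.mulVec (ap 1) e0) = _
    rw [toVec_mulVec, toMat_ap]; rfl
  · show toVec (M5.mulVec (ap 2) e0) = _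
    rw [toVec_mulVec, toMat_ap]; rfl
  · show toVec (M5.mulVec (ap 3) e0) = _
    rw [toVec_mulVec, toMat_ap]; rfl
  · show toVec (M5.mulVec (ap 4) e0) = _
    rw [toVec_mulVec, toMat_ap]; rfl

theorem McMi : toMat Mc * toMat Mi = 1 := by rw [← toMat_mul, Mc_Mi, toMat_one]

/-- `Mc *ᵥ u` is the combination of the vectors `A^k e` -/
theorem Mc_mulVec (u : Fin 5 → F4) :
    toMat Mc *ᵥ u = u 0 • (A ^ 0 *ᵥ e) + u 1 • (A ^ 1 *ᵥ e) + u 2 • (A ^ 2 *ᵥ e) + u 3 • (A ^ 3 *ᵥ e) + u 4 • (A ^ 4 *ᵥ e) := by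
  funext i
  have h0 := congrFun (Mc_col 0) i
  have h1 := congrFun (Mc_col 1) i
  have h2 := congrFun (Mc_col 2) i
  have h3 := congrFun (Mc_col 3) i
  have h4 := congrFun (Mc_col 4) i
  simp only [Fin.val_zero, Fin.val_one] at h0 h1
  have h2' : toMat Mc i 2 = (A ^ 2 *ᵥ e) i := h2
  have h3' : toMat Mc i 3 = (A ^ 3 *ᵥ e) i := h3
  have h4' : toMat Mc i 4 = (A ^ 4 *ᵥ e) i := h4
  rw [Matrix.mulVec, dotProduct, Fin.sum_univ_five, h0, h1, h2', h3', h4']
  simp only [Pi.add_apply, Pi.smul_apply, smul_eq_mul]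
  ring

/-- a matrix commuting with `A` is a polynomial in `A` -/
theorem comm_eq_poly (X : Matrix (Fin 5) (Fin 5) F4) (h : X * A = A * X) : ∃ c : V5, X = toMat (poly c) := by
  set c : V5 := ofVec (toMat Mi *ᵥ (X *ᵥ e)) with hc
  refine ⟨c, ?_⟩
  set P := toMat (poly c) with hP
  have hXk : ∀ k : ℕ, X * A ^ k = A ^ k * X := fun k => (Commute.pow_right (show Commute X A from h) k).eq
  have hPk : ∀ k : ℕ, P * A ^ k = A ^ k * P := fun k => (poly_commute c k).eq
  -- `P e = X e`
  have hPe : P *ᵥ e = X *ᵥ e := by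
    have h1 : P *ᵥ e = toMat Mc *ᵥ (toVec c) := by
      rw [Mc_mulVec, hP, toMat_poly]
      simp only [Matrix.add_mulVec, Matrix.smul_mulVec, pow_zero]
      rfl
    rw [h1, hc, toVec_ofVec, Matrix.mulVec_mulVec, McMi, Matrix.one_mulVec]
  have hcol : ∀ k : ℕ, X *ᵥ (A ^ k *ᵥ e) = P *ᵥ (A ^ k *ᵥ e) := by
    intro k
    rw [Matrix.mulVec_mulVec, Matrix.mulVec_mulVec, hXk, hPk, ← Matrix.mulVec_mulVec, ← Matrix.mulVec_mulVec, hPe]
  have hXM : X * toMat Mc = P * toMat Mc := by
    funext i k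
    have e1 : (X * toMat Mc) i k = (X *ᵥ (fun j => toMat Mc j k)) i := rfl
    have e2 : (P * toMat Mc) i k = (P *ᵥ (fun j => toMat Mc j k)) i := rfl
    rw [e1, e2, Mc_col, hcol]
  calc X = X * (toMat Mc * toMat Mi) := by rw [McMi, mul_one]
    _ = (X * toMat Mc) * toMat Mi := by rw [mul_assoc]
    _ = (P * toMat Mc) * toMat Mi := by rw [hXM]
    _ = P := by rw [mul_assoc, McMi, mul_one]

/-- unitary polynomials in `A` are scalar multiples of powers -/
theorem poly_unitary_mem (c : V5) (h : M5.mul (M5.ct (poly c)) (poly c) = M5.one) : poly c ∈ list33 := by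
  have h0 := poly_unitary
  have h1 := F4.all_spec h0 c.x0
  have h2 := F4.all_spec h1 c.x1
  have h3 := F4.all_spec h2 c.x2
  have h4 := F4.all_spec h3 c.x3
  have h5 := F4.all_spec h4 c.x4
  simp only [Bool.or_eq_true, Bool.not_eq_true', decide_eq_false_iff_not] at h5
  rcases h5 with h5 | h5
  · exact absurd h h5
  · exact List.contains_iff_mem.mp h5  -- may need adjusting

theorem mem_list33 (X : M5) (h : X ∈ list33) : ∃ (k : ℕ) (lam : F4), lam ≠ 0 ∧ X = M5.smul lam (ap k) := by
  unfold list33 at h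
  rw [List.mem_flatMap] at h
  obtain ⟨k, _, hk⟩ := h
  simp only [List.mem_cons, List.not_mem_nil, or_false] at hk
  rcases hk with hk | hk | hk
  · refine ⟨k, 1, one_ne_zero, ?_⟩
    rw [hk]
    apply toMat_injective
    rw [toMat_smul, one_smul]
  · exact ⟨k, w, by decide, hk⟩
  · exact ⟨k, v, by decide, hk⟩

/-! ### The 66 vectors -/

/-- the set of the 66 vectors -/
noncomputable def Sfin : Finset (Fin 5 → F4) := (S.map toVec).toFinset

theorem mem_Sfin_iff (f : Fin 5 → F4) : f ∈ Sfin ↔ ∃ s ∈ S, toVec s = f := by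
  unfold Sfin
  rw [List.mem_toFinset, List.mem_map]

theorem inS_iff (x : V5) : inS x = true ↔ x ∈ S := by
  unfold inS
  exact List.contains_iff_mem

/-- a code matrix mapping `S` into `S` -/
theorem maps_of_all (X : M5) (h : S.all (fun s => inS (M5.mulVec X s)) = true) (f : Fin 5 → F4) (hf : f ∈ Sfin) :
    toMat X *ᵥ f ∈ Sfin := by
  rw [mem_Sfin_iff] at hf ⊢
  obtain ⟨s, hs, rfl⟩ := hf
  rw [List.all_eq_true] at h
  have h1 := h s hs
  rw [inS_iff] at h1
  exact ⟨_, h1, toVec_mulVec X s⟩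

theorem all_a0 : S.all (fun s => inS (M5.mulVec a0 s)) = true := by
  have h := S_closed
  rw [List.all_eq_true] at h ⊢
  intro s hs
  have := h s hs
  simp only [Bool.and_eq_true] at this
  exact this.1.1

theorem all_b0 : S.all (fun s => inS (M5.mulVec b0 s)) = true := by
  have h := S_closed
  rw [List.all_eq_true] at h ⊢
  intro s hs
  have := h s hs
  simp only [Bool.and_eq_true] at this
  exact this.1.2

theorem all_t0 : S.all (fun s => inS (M5.mulVec t0 s)) = true := by
  have h := S_closed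
  rw [List.all_eq_true] at h ⊢
  intro s hs
  have := h s hs
  simp only [Bool.and_eq_true] at this
  exact this.2

end Cfsg.Agent.Lib.Helper4.SU5
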