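import Mathlib
import Cfsg.Prelude
import Cfsg.Agent.Lib.Helper9.AschU1
import Cfsg.Agent.Lib.Helper4.SU5c
import Cfsg.Agent.Lib.Helper4.SU5d

set_option autoImplicit false
set_option linter.unusedVariables false
set_option linter.style.longLine false
set_option linter.unusedSimpArgs false
set_option linter.unusedSectionVars false

/-! The group `SU₅(2)` over the model field: normalisers of subgroups of order 11 lie in proper subgroups. -/

namespace Cfsg.Agent.Lib.Helper4.SU5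

open F4 Matrix Cfsg Cfsg.Geo
open Cfsg.Agent.Lib.Helper8 Cfsg.Agent.Lib.Helper5
open Cfsg.Agent.Lib.Helper5.HermBridge (sigma_apply)

abbrev GL5 := Matrix.GeneralLinearGroup (Fin 5) F4

/-- `SU₅(2)` over the model field -/
def G4 : Subgroup GL5 := Cfsg.GU 5 F4 2 ⊓ Cfsg.Geo.specialLinear (Fin 5) F4

theorem hF4 : Fintype.card F4 = 2 ^ 2 := F4.card_eq

theorem star_toMat (X : M5) : Asch.star (HermBridge.sigma hF4) (toMat X) = toMat (M5.ct X) := by
  funext i j
  rw [Asch.star_apply, sigma_apply, toMat_ct]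

/-- the invertible matrix of a unitary code -/
noncomputable def glOf (X : M5) (h : M5.mul (M5.ct X) X = M5.one) : GL5 :=
  ⟨toMat X, toMat (M5.ct X),
    by
      have h1 : toMat (M5.ct X) * toMat X = 1 := by rw [← toMat_mul, h, toMat_one]
      exact mul_eq_one_comm.mp h1,
    by rw [← toMat_mul, h, toMat_one]⟩

theorem glOf_val (X : M5) (h : M5.mul (M5.ct X) X = M5.one) : ((glOf X h : GL5) : Matrix (Fin 5) (Fin 5) F4) = toMat X := rfl

theorem glOf_mem_GU (X : M5) (h : M5.mul (M5.ct X) X = M5.one) : glOf X h ∈ Cfsg.GU 5 F4 2 := by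
  rw [Cfsg.Agent.Lib.Helper9.AschU.mem_GU_iff hF4, glOf_val, star_toMat, ← toMat_mul, h, toMat_one]

/-- a unitary element of `GL5` has a unitary code -/
theorem code_unitary (g : GL5) (hg : g ∈ Cfsg.GU 5 F4 2) :
    M5.mul (M5.ct (ofMat g)) (ofMat g) = M5.one := by
  have h := (Cfsg.Agent.Lib.Helper9.AschU.mem_GU_iff hF4 g).mp hg
  apply toMat_injective
  rw [toMat_mul, ← star_toMat, toMat_ofMat, h, toMat_one]

theorem card_units_F4 : Fintype.card F4ˣ = 3 := by
  rw [Fintype.card_units, F4.card_eq]; norm_num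

/-- an element of order prime to 3 has determinant one -/
theorem det_eq_one_of_pow (g : GL5) (k : ℕ) (hk : Nat.Coprime k 3) (h : g ^ k = 1) :
    g ∈ Cfsg.Geo.specialLinear (Fin 5) F4 := by
  show Matrix.GeneralLinearGroup.det g = 1
  set d := Matrix.GeneralLinearGroup.det g with hd
  have h1 : d ^ k = 1 := by rw [hd, ← map_pow, h, map_one]
  have h2 : d ^ 3 = 1 := by rw [← card_units_F4]; exact pow_card_eq_one
  have h3 : orderOf d ∣ Nat.gcd k 3 := Nat.dvd_gcd (orderOf_dvd_of_pow_eq_one h1) (orderOf_dvd_of_pow_eq_one h2)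
  rw [hk, Nat.dvd_one] at h3
  exact orderOf_eq_one_iff.mp h3

theorem glOf_pow (X : M5) (h : M5.mul (M5.ct X) X = M5.one) (k : ℕ) :
    ((glOf X h ^ k : GL5) : Matrix (Fin 5) (Fin 5) F4) = toMat (M5.pow X k) := by
  rw [Units.val_pow_eq_pow_val, glOf_val, toMat_pow]

theorem glOf_pow_eq_one (X : M5) (h : M5.mul (M5.ct X) X = M5.one) (k : ℕ) (hk : M5.pow X k = M5.one) :
    glOf X h ^ k = 1 := by
  apply Units.ext
  rw [glOf_pow, hk, toMat_one]; rfl

noncomputable def A0 : GL5 := glOf a0 a0_unitary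
noncomputable def B0 : GL5 := glOf b0 b0_unitary
noncomputable def T0 : GL5 := glOf t0 t0_unitary
noncomputable def U0 : GL5 := glOf u0 u0_unitary

theorem A0_pow : A0 ^ 11 = 1 := glOf_pow_eq_one _ _ 11 a0_pow
theorem B0_pow : B0 ^ 5 = 1 := glOf_pow_eq_one _ _ 5 b0_pow
theorem T0_pow : T0 ^ 2 = 1 := glOf_pow_eq_one _ _ 2 t0_sq
theorem U0_pow : U0 ^ 2 = 1 := glOf_pow_eq_one _ _ 2 u0_sq

theorem A0_mem : A0 ∈ G4 := ⟨glOf_mem_GU _ _, det_eq_one_of_pow _ 11 (by norm_num) A0_pow⟩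
theorem B0_mem : B0 ∈ G4 := ⟨glOf_mem_GU _ _, det_eq_one_of_pow _ 5 (by norm_num) B0_pow⟩
theorem T0_mem : T0 ∈ G4 := ⟨glOf_mem_GU _ _, det_eq_one_of_pow _ 2 (by norm_num) T0_pow⟩
theorem U0_mem : U0 ∈ G4 := ⟨glOf_mem_GU _ _, det_eq_one_of_pow _ 2 (by norm_num) U0_pow⟩

theorem A0_val : (A0 : Matrix (Fin 5) (Fin 5) F4) = A := rfl

theorem A0_ne_one : A0 ≠ 1 := by
  intro h
  apply a0_ne
  apply toMat_injective
  rw [toMat_one]
  have := congrArg (fun g : GL5 => (g : Matrix (Fin 5) (Fin 5) F4)) h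
  exact this

theorem orderOf_A0 : orderOf A0 = 11 := by
  have : Fact (Nat.Prime 11) := ⟨by norm_num⟩
  exact orderOf_eq_prime A0_pow A0_ne_one

/-! ### The stabiliser of the 66 vectors -/

/-- the stabiliser of the set of 66 vectors -/
def stabS : Subgroup GL5 where
  carrier := {g | ∀ f : Fin 5 → F4, f ∈ Sfin ↔ (g : Matrix (Fin 5) (Fin 5) F4) *ᵥ f ∈ Sfin}
  mul_mem' {a b} ha hb := by
    intro f
    rw [hb f, ha, Units.val_mul, Matrix.mulVec_mulVec]
  one_mem' := by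
    intro f
    simp
  inv_mem' {a} ha := by
    intro f
    rw [ha (((a⁻¹ : GL5) : Matrix (Fin 5) (Fin 5) F4) *ᵥ f), Matrix.mulVec_mulVec, ← Units.val_mul, mul_inv_cancel,
      Units.val_one, Matrix.one_mulVec]

theorem mem_stabS_of_maps (g : GL5) (h : ∀ f ∈ Sfin, (g : Matrix (Fin 5) (Fin 5) F4) *ᵥ f ∈ Sfin) : g ∈ stabS := by
  classical
  have hinj : Function.Injective (fun f : Fin 5 → F4 => (g : Matrix (Fin 5) (Fin 5) F4) *ᵥ f) := by
    intro f f' hff
    have h1 : ((g⁻¹ : GL5) : Matrix (Fin 5) (Fin 5) F4) *ᵥ ((g : Matrix (Fin 5) (Fin 5) F4) *ᵥ f) =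
        ((g⁻¹ : GL5) : Matrix (Fin 5) (Fin 5) F4) *ᵥ ((g : Matrix (Fin 5) (Fin 5) F4) *ᵥ f') := congrArg _ hff
    rw [Matrix.mulVec_mulVec, Matrix.mulVec_mulVec, ← Units.val_mul, inv_mul_cancel, Units.val_one,
      Matrix.one_mulVec, Matrix.one_mulVec] at h1
    exact h1
  have himg : Sfin.image (fun f : Fin 5 → F4 => (g : Matrix (Fin 5) (Fin 5) F4) *ᵥ f) = Sfin := by
    apply Finset.eq_of_subset_of_card_le
    · intro y hy
      rw [Finset.mem_image] at hy
      obtain ⟨f, hf, rfl⟩ := hy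
      exact h f hf
    · rw [Finset.card_image_of_injective _ hinj]
  intro f
  constructor
  · exact h f
  · intro hf
    rw [← himg, Finset.mem_image] at hf
    obtain ⟨f', hf', hff⟩ := hf
    rw [← hinj hff]
    exact hf'

theorem A0_stab : A0 ∈ stabS := mem_stabS_of_maps _ (fun f hf => maps_of_all a0 all_a0 f hf)
theorem B0_stab : B0 ∈ stabS := mem_stabS_of_maps _ (fun f hf => maps_of_all b0 all_b0 f hf)
theorem T0_stab : T0 ∈ stabS := mem_stabS_of_maps _ (fun f hf => maps_of_all t0 all_t0 f hf)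

theorem U0_not_stab : U0 ∉ stabS := by
  intro h
  have h1 := S_not_u0
  have hs : toVec ⟨z, z, o, o, w⟩ ∈ Sfin := by
    rw [mem_Sfin_iff]
    exact ⟨_, (inS_iff _).mp h1.1, rfl⟩
  have h2 := (h _).mp hs
  rw [show (U0 : Matrix (Fin 5) (Fin 5) F4) = toMat u0 from rfl, ← toVec_mulVec, mem_Sfin_iff] at h2
  obtain ⟨s, hs', hst⟩ := h2
  have := toVec_injective hst
  rw [this, ← inS_iff, h1.2] at hs'
  exact Bool.false_ne_true hs'

end Cfsg.Agent.Lib.Helper4.SU5
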