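import Mathlib
import Cfsg.Prelude
import Cfsg.Agent.Lib.Helper4.SU5e

set_option autoImplicit false
set_option linter.unusedVariables false
set_option linter.style.longLine false
set_option linter.unusedSimpArgs false
set_option linter.unusedSectionVars false

/-! The normaliser in `SU₅(2)` (model field) of the explicit subgroup of order 11 stabilises the 66 vectors, and the
resulting "good overgroup" property of `SU₅(2)`. -/

namespace Cfsg.Agent.Lib.Helper4.SU5

open F4 Matrix Cfsg Cfsg.Geo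

theorem A0_pow_val (m : ℕ) : ((A0 ^ m : GL5) : Matrix (Fin 5) (Fin 5) F4) = toMat (ap m) := glOf_pow _ _ m

theorem B0_pow_val (m : ℕ) : ((B0 ^ m : GL5) : Matrix (Fin 5) (Fin 5) F4) = toMat (M5.pow b0 m) := glOf_pow _ _ m

theorem conj_lift (j m : ℕ) (h : M5.mul (M5.pow b0 j) a0 = M5.mul (ap m) (M5.pow b0 j)) :
    B0 ^ j * A0 = A0 ^ m * B0 ^ j := by
  apply Units.ext
  rw [Units.val_mul, Units.val_mul, A0_pow_val, B0_pow_val, A0_val]
  show toMat (M5.pow b0 j) * toMat a0 = _
  rw [← toMat_mul, ← toMat_mul, h]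

theorem f4_pow_five : ∀ lam : F4, lam ≠ 0 → lam ^ 5 = 1 → lam = 1 := by
  intro lam h0 h5
  have h3 : lam ^ 3 = 1 := by
    have := pow_card_eq_one (x := Units.mk0 lam h0)
    rw [card_units_F4] at this
    have h' := congrArg Units.val this
    simpa using h'
  have h2 : lam ^ 2 = 1 := by
    have : lam ^ 5 = lam ^ 3 * lam ^ 2 := by ring
    rw [this, h3, one_mul] at h5
    exact h5
  have : lam ^ 3 = lam ^ 2 * lam := by ring
  rw [this, h2, one_mul] at h3
  exact h3

theorem det_A : Matrix.det A = 1 := by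
  have h := A0_mem.2
  have h1 : Matrix.GeneralLinearGroup.det A0 = 1 := h
  have h2 := congrArg Units.val h1
  rw [Matrix.GeneralLinearGroup.val_det_apply, A0_val] at h2
  simpa using h2

/-- an element of `G4` commuting with `A0` is a power of `A0` -/
theorem centralizer_mem (y : GL5) (hy : y ∈ G4) (hc : y * A0 = A0 * y) : ∃ k : ℕ, y = A0 ^ k := by
  have hc' : (y : Matrix (Fin 5) (Fin 5) F4) * A = A * (y : Matrix (Fin 5) (Fin 5) F4) := by
    have := congrArg Units.val hc
    rw [Units.val_mul, Units.val_mul, A0_val] at this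
    exact this
  obtain ⟨c, hcp⟩ := comm_eq_poly _ hc'
  have hu := code_unitary y hy.1
  rw [hcp, ofMat_toMat] at hu
  obtain ⟨k, lam, hlam, hX⟩ := mem_list33 _ (poly_unitary_mem c hu)
  have hval : (y : Matrix (Fin 5) (Fin 5) F4) = lam • A ^ k := by
    rw [hcp, hX, toMat_smul, toMat_ap]
  have hdet : Matrix.det (y : Matrix (Fin 5) (Fin 5) F4) = 1 := by
    have h1 : Matrix.GeneralLinearGroup.det y = 1 := hy.2
    have h2 := congrArg Units.val h1
    rw [Matrix.GeneralLinearGroup.val_det_apply] at h2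
    simpa using h2
  rw [hval, Matrix.det_smul, Matrix.det_pow, det_A, one_pow, mul_one, Fintype.card_fin] at hdet
  have hl := f4_pow_five lam hlam hdet
  refine ⟨k, Units.ext ?_⟩
  rw [hval, hl, one_smul, A0_pow_val, toMat_ap]

/-- the normaliser of `⟨A0⟩` in `G4` is generated by `A0` and `B0` -/
theorem normalizer_eq (x : GL5) (hx : x ∈ G4) (h : x * A0 * x⁻¹ ∈ Subgroup.zpowers A0) :
    ∃ j k : ℕ, x = B0 ^ j * A0 ^ k := by
  obtain ⟨k, hk⟩ := Subgroup.mem_zpowers_iff.mp h
  -- reduce the exponent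
  obtain ⟨m, hm, hpow⟩ : ∃ m : ℕ, m < 11 ∧ A0 ^ m = x * A0 * x⁻¹ := by
    refine ⟨(k % 11).toNat, ?_, ?_⟩
    · have := Int.emod_lt_of_pos k (show (0 : ℤ) < 11 by norm_num)
      have h0 := Int.emod_nonneg k (show (11 : ℤ) ≠ 0 by norm_num)
      omega
    · have h0 := Int.emod_nonneg k (show (11 : ℤ) ≠ 0 by norm_num)
      rw [← zpow_natCast, Int.toNat_of_nonneg h0, ← hk]
      have := zpow_mod_orderOf A0 k
      rw [orderOf_A0] at this
      exact this
  -- the trace condition
  have htr : M5.trace (ap m) = M5.trace a0 := by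
    rw [← toMat_trace, ← toMat_trace, ← A0_pow_val, hpow, Units.val_mul, Units.val_mul]
    exact Matrix.trace_units_conj x (toMat a0)
  have hcases := trace_ap ⟨m, hm⟩ htr
  have hxA : x * A0 = A0 ^ m * x := by
    rw [hpow]; group
  have key : ∀ j : ℕ, B0 ^ j * A0 = A0 ^ m * B0 ^ j → ∃ j k : ℕ, x = B0 ^ j * A0 ^ k := by
    intro j hj
    have hyG : (B0 ^ j)⁻¹ * x ∈ G4 := G4.mul_mem (G4.inv_mem (G4.pow_mem B0_mem j)) hx
    have hcomm : (B0 ^ j)⁻¹ * x * A0 = A0 * ((B0 ^ j)⁻¹ * x) := by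
      have h1 : (B0 ^ j)⁻¹ * A0 ^ m = A0 * (B0 ^ j)⁻¹ := by
        rw [inv_mul_eq_iff_eq_mul, ← mul_assoc, hj, mul_assoc, mul_inv_cancel, mul_one]
      rw [mul_assoc, hxA, ← mul_assoc, h1, mul_assoc]
    obtain ⟨k', hk'⟩ := centralizer_mem _ hyG hcomm
    refine ⟨j, k', ?_⟩
    rw [← hk', ← mul_assoc, mul_inv_cancel, one_mul]
  have hb := b0_conj
  have hmv : m = 1 ∨ m = 4 ∨ m = 5 ∨ m = 9 ∨ m = 3 := by
    rcases hcases with h | h | h | h | h
    · left; exact congrArg Fin.val h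
    · right; left; exact congrArg Fin.val h
    · right; right; left; exact congrArg Fin.val h
    · right; right; right; left; exact congrArg Fin.val h
    · right; right; right; right; exact congrArg Fin.val h
  rcases hmv with h | h | h | h | h
  · subst h; exact key 0 (conj_lift 0 1 hb.1)
  · subst h; exact key 1 (conj_lift 1 4 hb.2.1)
  · subst h; exact key 2 (conj_lift 2 5 hb.2.2.1)
  · subst h; exact key 3 (conj_lift 3 9 hb.2.2.2.1)
  · subst h; exact key 4 (conj_lift 4 3 hb.2.2.2.2)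

theorem normalizer_mem (x : GL5) (hx : x ∈ G4) (h : x * A0 * x⁻¹ ∈ Subgroup.zpowers A0) : x ∈ stabS := by
  obtain ⟨j, k, rfl⟩ := normalizer_eq x hx h
  exact stabS.mul_mem (stabS.pow_mem B0_stab j) (stabS.pow_mem A0_stab k)

/-- `T0` does not normalise `⟨A0⟩` -/
theorem T0_not_norm : T0 * A0 * T0⁻¹ ∉ Subgroup.zpowers A0 := by
  intro h
  obtain ⟨k, hk⟩ := Subgroup.mem_zpowers_iff.mp h
  obtain ⟨m, hm, hpow⟩ : ∃ m : ℕ, m < 11 ∧ A0 ^ m = T0 * A0 * T0⁻¹ := by
    refine ⟨(k % 11).toNat, ?_, ?_⟩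
    · have := Int.emod_lt_of_pos k (show (0 : ℤ) < 11 by norm_num)
      have h0 := Int.emod_nonneg k (show (11 : ℤ) ≠ 0 by norm_num)
      omega
    · have h0 := Int.emod_nonneg k (show (11 : ℤ) ≠ 0 by norm_num)
      rw [← zpow_natCast, Int.toNat_of_nonneg h0, ← hk]
      have := zpow_mod_orderOf A0 k
      rw [orderOf_A0] at this
      exact this
  have h1 : T0 * A0 = A0 ^ m * T0 := by rw [hpow]; group
  apply t0_not_norm ⟨m, hm⟩
  apply toMat_injective
  rw [toMat_mul, toMat_mul]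
  have := congrArg Units.val h1
  rw [Units.val_mul, Units.val_mul, A0_pow_val] at this
  exact this

end Cfsg.Agent.Lib.Helper4.SU5
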