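import Mathlib
import Cfsg.Prelude
import Cfsg.Agent.Lib.Helper4.SU5f

set_option autoImplicit false
set_option linter.unusedVariables false
set_option linter.style.longLine false
set_option linter.unusedSimpArgs false
set_option linter.unusedSectionVars false

/-! The "good overgroup" property of `SU₅(2)` over the model field. -/

namespace Cfsg.Agent.Lib.Helper4.SU5

open F4 Matrix Cfsg Cfsg.Geo

theorem card_GL5 : Nat.card GL5 = 1023 * 1020 * 1008 * 960 * 768 := by
  have h := Matrix.card_GL_field (𝔽 := F4) 5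
  rw [h, Fin.prod_univ_five, F4.card_eq]
  norm_num

theorem not_121_dvd : ¬ 121 ∣ Nat.card ↥G4 := by
  intro h
  have h1 : Nat.card ↥G4 ∣ Nat.card GL5 := Subgroup.card_subgroup_dvd_card G4
  have h2 := dvd_trans h h1
  rw [card_GL5] at h2
  revert h2
  norm_num

theorem good_G4 : Good ↥G4 := by
  intro g hg
  set a : ↥G4 := ⟨A0, A0_mem⟩ with ha_def
  have ha : orderOf a = 11 := by
    rw [← orderOf_A0]; exact Subgroup.orderOf_mk A0 A0_mem
  have conv : ∀ n : ↥G4, n * a * n⁻¹ ∈ Subgroup.zpowers a →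
      (n : GL5) * A0 * (n : GL5)⁻¹ ∈ Subgroup.zpowers A0 := by
    intro n hn
    obtain ⟨k, hk⟩ := Subgroup.mem_zpowers_iff.mp hn
    refine Subgroup.mem_zpowers_iff.mpr ⟨k, ?_⟩
    have := congrArg Subtype.val hk
    simpa using this
  obtain ⟨x, hx⟩ := exists_conj_mem_zpowers not_121_dvd g a hg ha
  refine good_of_conj a g x ha hg hx (stabS.subgroupOf G4) ?_ ?_ ⟨T0, T0_mem⟩ ?_ ?_
  · intro htop
    apply U0_not_stab
    have : (⟨U0, U0_mem⟩ : ↥G4) ∈ stabS.subgroupOf G4 := by rw [htop]; trivial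
    exact Subgroup.mem_subgroupOf.mp this
  · intro n hn
    rw [Subgroup.mem_subgroupOf]
    exact normalizer_mem _ n.2 (conv n hn)
  · rw [Subgroup.mem_subgroupOf]
    exact T0_stab
  · intro h
    exact T0_not_norm (conv ⟨T0, T0_mem⟩ h)

end Cfsg.Agent.Lib.Helper4.SU5
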