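import Mathlib
import Cfsg.Prelude
import Cfsg.Agent.Lib.Helper4.SU5g

set_option autoImplicit false
set_option linter.unusedVariables false
set_option linter.style.longLine false
set_option linter.unusedSimpArgs false
set_option linter.unusedSectionVars false

/-! Transfer of the "good overgroup" property to `SU₅(2)` over an arbitrary field with four elements. -/

namespace Cfsg.Agent.Lib.Helper4.SU5

open Matrix Cfsg Cfsg.Geo
open Cfsg.Agent.Lib.Helper8 Cfsg.Agent.Lib.Helper5
open Cfsg.Agent.Lib.Helper5.HermBridge (sigma_apply)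

variable {F : Type*} [Field F] [Fintype F] (hF : Fintype.card F = 2 ^ 2)

/-- the isomorphism with the model field -/
noncomputable def phi : F ≃+* F4 := FiniteField.ringEquivOfCardEq (hF.trans F4.card_eq.symm)

/-- the induced isomorphism of general linear groups -/
noncomputable def glEquiv : Matrix.GeneralLinearGroup (Fin 5) F ≃* GL5 :=
  Units.mapEquiv (RingEquiv.mapMatrix (phi hF)).toMulEquiv

theorem glEquiv_val (g : Matrix.GeneralLinearGroup (Fin 5) F) :
    ((glEquiv hF g : GL5) : Matrix (Fin 5) (Fin 5) F4) = (g : Matrix (Fin 5) (Fin 5) F).map (phi hF) := rfl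

theorem star_map (X : Matrix (Fin 5) (Fin 5) F) :
    Asch.star (HermBridge.sigma hF4) (X.map (phi hF)) = (Asch.star (HermBridge.sigma hF) X).map (phi hF) := by
  funext i j
  rw [Asch.star_apply, sigma_apply, Matrix.map_apply, Matrix.map_apply, Asch.star_apply, sigma_apply, map_pow]

theorem glEquiv_mem_GU (g : Matrix.GeneralLinearGroup (Fin 5) F) :
    glEquiv hF g ∈ Cfsg.GU 5 F4 2 ↔ g ∈ Cfsg.GU 5 F 2 := by
  rw [Cfsg.Agent.Lib.Helper9.AschU.mem_GU_iff hF4, Cfsg.Agent.Lib.Helper9.AschU.mem_GU_iff hF, glEquiv_val, star_map]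
  have h1 : (Asch.star (HermBridge.sigma hF) (g : Matrix (Fin 5) (Fin 5) F)).map (phi hF) * (g : Matrix (Fin 5) (Fin 5) F).map (phi hF)
      = (Asch.star (HermBridge.sigma hF) (g : Matrix (Fin 5) (Fin 5) F) * (g : Matrix (Fin 5) (Fin 5) F)).map (phi hF) := by
    rw [Matrix.map_mul]
  rw [h1]
  constructor
  · intro h
    have h2 : (1 : Matrix (Fin 5) (Fin 5) F4) = (1 : Matrix (Fin 5) (Fin 5) F).map (phi hF) := by
      rw [Matrix.map_one _ (map_zero _) (map_one _)]
    rw [h2] at h
    exact Matrix.map_injective (phi hF).injective h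
  · intro h
    rw [h, Matrix.map_one _ (map_zero _) (map_one _)]

theorem glEquiv_mem_SL (g : Matrix.GeneralLinearGroup (Fin 5) F) :
    glEquiv hF g ∈ Cfsg.Geo.specialLinear (Fin 5) F4 ↔ g ∈ Cfsg.Geo.specialLinear (Fin 5) F := by
  have e1 : ∀ (K : Type) [Field K] (x : Matrix.GeneralLinearGroup (Fin 5) K),
      x ∈ Cfsg.Geo.specialLinear (Fin 5) K ↔ Matrix.det (x : Matrix (Fin 5) (Fin 5) K) = 1 := by
    intro K _ x
    show Matrix.GeneralLinearGroup.det x = 1 ↔ _
    rw [Units.ext_iff, Matrix.GeneralLinearGroup.val_det_apply]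
    rfl
  have e2 : g ∈ Cfsg.Geo.specialLinear (Fin 5) F ↔ Matrix.det (g : Matrix (Fin 5) (Fin 5) F) = 1 := by
    show Matrix.GeneralLinearGroup.det g = 1 ↔ _
    rw [Units.ext_iff, Matrix.GeneralLinearGroup.val_det_apply]
    rfl
  rw [e1, e2, glEquiv_val]
  have h1 : Matrix.det ((g : Matrix (Fin 5) (Fin 5) F).map (phi hF)) = phi hF (Matrix.det (g : Matrix (Fin 5) (Fin 5) F)) := by
    have := RingHom.map_det (phi hF).toRingHom (g : Matrix (Fin 5) (Fin 5) F)
    exact this.symm
  rw [h1]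
  constructor
  · intro h
    apply (phi hF).injective
    rw [h, map_one]
  · intro h
    rw [h, map_one]

theorem map_glEquiv :
    (Cfsg.GU 5 F 2 ⊓ Cfsg.Geo.specialLinear (Fin 5) F).map (glEquiv hF).toMonoidHom = G4 := by
  ext x
  rw [Subgroup.mem_map_equiv]
  have h1 := glEquiv_mem_GU hF ((glEquiv hF).symm x)
  have h2 := glEquiv_mem_SL hF ((glEquiv hF).symm x)
  rw [MulEquiv.apply_symm_apply] at h1 h2
  unfold G4
  rw [Subgroup.mem_inf, Subgroup.mem_inf, h1, h2]

include hF in
/-- the good property of `SU₅(2)` over any field with four elements -/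
theorem good_SU5 : Good ↥(Cfsg.GU 5 F 2 ⊓ Cfsg.Geo.specialLinear (Fin 5) F) :=
  Good.of_equiv (((glEquiv hF).subgroupMap _).trans (MulEquiv.subgroupCongr (map_glEquiv hF))) good_G4

end Cfsg.Agent.Lib.Helper4.SU5
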