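import Mathlib

set_option autoImplicit false
set_option linter.unusedVariables false
set_option linter.style.longLine false
set_option linter.unusedSimpArgs false
set_option linter.unusedSectionVars false

/-! Elements of order 11 in the field with 1024 elements and involutive automorphisms (Gauss period argument). -/

namespace Cfsg.Agent.Lib.Helper4.SU5

theorem exists_order11 {L : Type*} [Field L] [Finite L] (hc : Nat.card L = 1024) : ∃ g : L, orderOf g = 11 := by
  have : Fact (Nat.Prime 11) := ⟨by norm_num⟩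
  have h1 : Nat.card Lˣ = 1023 := by rw [Nat.card_units, hc]
  have h2 : 11 ∣ Nat.card Lˣ := by rw [h1]; norm_num
  obtain ⟨u, hu⟩ := exists_prime_orderOf_dvd_card' 11 h2
  exact ⟨(u : L), by rw [orderOf_units]; exact hu⟩

theorem pow_of_pow11 {L : Type*} [Field L] (g y : L) (hg : orderOf g = 11) (hy : y ^ 11 = 1) :
    ∃ k : ℕ, k < 11 ∧ y = g ^ k := by
  have h : IsPrimitiveRoot g 11 := by
    have := IsPrimitiveRoot.orderOf g
    rwa [hg] at this
  obtain ⟨i, hi, hgi⟩ := h.eq_pow_of_pow_eq_one hy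
  exact ⟨i, hi, hgi.symm⟩

theorem geom_sum11 {L : Type*} [Field L] (g : L) (hg : orderOf g = 11) :
    1 + g + g ^ 2 + g ^ 3 + g ^ 4 + g ^ 5 + g ^ 6 + g ^ 7 + g ^ 8 + g ^ 9 + g ^ 10 = 0 := by
  have h11 : g ^ 11 = 1 := by rw [← hg]; exact pow_orderOf_eq_one g
  have hne : g - 1 ≠ 0 := by
    intro h
    have h1 : g = 1 := sub_eq_zero.mp h
    rw [h1, orderOf_one] at hg
    omega
  have h := mul_eq_zero.mp (show (g - 1) * (1 + g + g ^ 2 + g ^ 3 + g ^ 4 + g ^ 5 + g ^ 6 + g ^ 7 + g ^ 8 + g ^ 9 + g ^ 10) = 0 by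
    linear_combination h11)
  rcases h with h | h
  · exact absurd h hne
  · exact h

/-- an involutive ring automorphism moving a primitive cube root of unity inverts the elements of order 11
(characteristic two) -/
theorem tau_inv {L : Type*} [Field L] (h2 : (2 : L) = 0) (τ : L → L)
    (hadd : ∀ x y, τ (x + y) = τ x + τ y) (hmul : ∀ x y, τ (x * y) = τ x * τ y) (hone : τ 1 = 1)
    (hinv : ∀ x, τ (τ x) = x) (ω : L) (hω : ω ^ 2 + ω + 1 = 0) (hτω : τ ω ≠ ω) (g : L) (hg : orderOf g = 11) :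
    τ g * g = 1 := by
  have h11 : g ^ 11 = 1 := by rw [← hg]; exact pow_orderOf_eq_one g
  have hpow : ∀ (x : L) (n : ℕ), τ (x ^ n) = τ x ^ n := by
    intro x n
    induction n with
    | zero => rw [pow_zero, pow_zero, hone]
    | succ n ih => rw [pow_succ, pow_succ, hmul, ih]
  have hτ11 : τ g ^ 11 = 1 := by rw [← hpow, h11, hone]
  obtain ⟨k, hk, hgk⟩ := pow_of_pow11 g (τ g) hg hτ11
  have hkk : g ^ (k * k) = g ^ 1 := by
    rw [pow_one, pow_mul, ← hgk, ← hpow, ← hgk, hinv]
  have hfin : IsOfFinOrder g := orderOf_pos_iff.mp (by rw [hg]; norm_num)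
  have hmod := hfin.pow_eq_pow_iff_modEq.mp hkk
  rw [hg] at hmod
  have hk2 : k * k % 11 = 1 := hmod
  have hcases : k = 1 ∨ k = 10 := by
    interval_cases k <;> omega
  rcases hcases with rfl | rfl
  · exfalso
    rw [pow_one] at hgk
    set η := g + g ^ 3 + g ^ 4 + g ^ 5 + g ^ 9 with hη
    have hτη : τ η = η := by
      rw [hη, hadd, hadd, hadd, hadd, hpow, hpow, hpow, hpow, hgk]
    have hs := geom_sum11 g hg
    have hquad : η ^ 2 + η + 1 = 0 := by
      rw [hη]
      linear_combination hs + g ^ 7 * h11 +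
        (g ^ 4 + g ^ 5 + g ^ 6 + g ^ 10 + g ^ 7 + g ^ 8 + g ^ 12 + g ^ 9 + g ^ 13 + g ^ 14) * h2
    have hprod : (η - ω) * (η - (ω + 1)) = 0 := by
      linear_combination hquad + hω - (η + ω * η + 1) * h2
    rcases mul_eq_zero.mp hprod with h | h
    · have h1 : η = ω := sub_eq_zero.mp h
      rw [h1] at hτη
      exact hτω hτη
    · have h1 : η = ω + 1 := sub_eq_zero.mp h
      rw [h1, hadd, hone] at hτη
      exact hτω (add_right_cancel hτη)
  · rw [hgk, ← pow_succ, h11]

end Cfsg.Agent.Lib.Helper4.SU5
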