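import Mathlib
import Cfsg.Prelude
import Cfsg.Agent.Lib.Helper4.SU5j

set_option autoImplicit false
set_option linter.unusedVariables false
set_option linter.style.longLine false
set_option linter.unusedSimpArgs false
set_option linter.unusedSectionVars false

/-! The normaliser of a degree 5 field subalgebra is not maximal in `SU₅(2)`: the group-theoretic part. -/

namespace Cfsg.Agent.Lib.Helper4.SU5

open Module Matrix Cfsg Cfsg.Geo
open Cfsg.Agent.Lib.Helper5 Cfsg.Agent.Lib.Helper8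
open Cfsg.Agent.Lib.Helper9.AschU (mem_GU_iff)

variable {F : Type*} [Field F] [Fintype F] (hF : Fintype.card F = 2 ^ 2)

include hF in
theorem card_units_F : Nat.card Fˣ = 3 := by
  rw [Nat.card_units, Nat.card_eq_fintype_card, hF]
  norm_num

include hF in
/-- an element of order prime to 3 has determinant one -/
theorem det_eq_one_of_pow' (g : Matrix.GeneralLinearGroup (Fin 5) F) (k : ℕ) (hk : Nat.Coprime k 3) (h : g ^ k = 1) :
    g ∈ Cfsg.Geo.specialLinear (Fin 5) F := by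
  show Matrix.GeneralLinearGroup.det g = 1
  set d := Matrix.GeneralLinearGroup.det g with hd
  have h1 : d ^ k = 1 := by rw [hd, ← map_pow, h, map_one]
  have h2 : d ^ 3 = 1 := by rw [← card_units_F hF]; exact pow_card_eq_one'
  have h3 : orderOf d ∣ Nat.gcd k 3 := Nat.dvd_gcd (orderOf_dvd_of_pow_eq_one h1) (orderOf_dvd_of_pow_eq_one h2)
  rw [hk, Nat.dvd_one] at h3
  exact orderOf_eq_one_iff.mp h3

include hF in
/-- the normaliser of a field subalgebra of degree 5 is not maximal in `SU₅(2)` -/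
theorem field_not_maximal (K : Subalgebra F (Matrix (Fin 5) (Fin 5) F)) (hK : IsFieldSubalgebra 5 K)
    (hadj : IsAdjointClosedFor (hermForm 5 F 2) K) :
    ¬ IsMaximalIn (Cfsg.GU 5 F 2 ⊓ Cfsg.Geo.specialLinear (Fin 5) F)
      (subalgebraNormalizer K ⊓ (Cfsg.GU 5 F 2 ⊓ Cfsg.Geo.specialLinear (Fin 5) F)) := by
  classical
  intro hmax
  obtain ⟨gM, hgK, hg11, hg1, hstar, hroots⟩ := K_facts hF K hK hadj
  set G : Subgroup (Matrix.GeneralLinearGroup (Fin 5) F) := Cfsg.GU 5 F 2 ⊓ Cfsg.Geo.specialLinear (Fin 5) F with hGdef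
  -- the element as an invertible matrix
  let gG : Matrix.GeneralLinearGroup (Fin 5) F :=
    ⟨gM, gM ^ 10, by rw [← pow_succ', hg11], by rw [← pow_succ, hg11]⟩
  have hgGval : (gG : Matrix (Fin 5) (Fin 5) F) = gM := rfl
  have hgGpow : ∀ k : ℕ, ((gG ^ k : Matrix.GeneralLinearGroup (Fin 5) F) : Matrix (Fin 5) (Fin 5) F) = gM ^ k := by
    intro k
    rw [Units.val_pow_eq_pow_val]
  have hgG11 : gG ^ 11 = 1 := by
    apply Units.ext
    rw [hgGpow, hg11]; rfl
  have hgG1 : gG ≠ 1 := by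
    intro h
    apply hg1
    have := congrArg Units.val h
    exact this
  have hord : orderOf gG = 11 := by
    have : Fact (Nat.Prime 11) := ⟨by norm_num⟩
    exact orderOf_eq_prime hgG11 hgG1
  have hgGU : gG ∈ Cfsg.GU 5 F 2 := (mem_GU_iff hF gG).mpr hstar
  have hgSL : gG ∈ Cfsg.Geo.specialLinear (Fin 5) F := det_eq_one_of_pow' hF gG 11 (by norm_num) hgG11
  have hgG : gG ∈ G := ⟨hgGU, hgSL⟩
  -- normalising elements
  have hconj : ∀ x : Matrix.GeneralLinearGroup (Fin 5) F, x ∈ subalgebraNormalizer K →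
      ∃ k : ℕ, x * gG * x⁻¹ = gG ^ k := by
    intro x hx
    have h1 : (x : Matrix (Fin 5) (Fin 5) F) * gM * ((x⁻¹ : Matrix.GeneralLinearGroup (Fin 5) F) : Matrix (Fin 5) (Fin 5) F) ∈ K :=
      (hx gM).mp hgK
    have h2 : ((x : Matrix (Fin 5) (Fin 5) F) * gM * ((x⁻¹ : Matrix.GeneralLinearGroup (Fin 5) F) : Matrix (Fin 5) (Fin 5) F)) ^ 11 = 1 := by
      have h3 : (x * gG * x⁻¹) ^ 11 = 1 := by
        rw [conj_pow, hgG11, mul_one, mul_inv_cancel]
      have h4 := congrArg Units.val h3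
      rw [Units.val_pow_eq_pow_val, Units.val_mul, Units.val_mul] at h4
      exact h4
    obtain ⟨k, hk⟩ := hroots _ h1 h2
    refine ⟨k, Units.ext ?_⟩
    rw [Units.val_mul, Units.val_mul, hgGpow]
    exact hk
  -- the good property
  let g' : ↥G := ⟨gG, hgG⟩
  have hord' : orderOf g' = 11 := by
    rw [← hord]; exact Subgroup.orderOf_mk gG hgG
  obtain ⟨L, hL, hn, t, ht, htn⟩ := good_SU5 hF g' hord'
  have hnorm : ∀ x : ↥G, (x : Matrix.GeneralLinearGroup (Fin 5) F) ∈ subalgebraNormalizer K →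
      x * g' * x⁻¹ ∈ Subgroup.zpowers g' := by
    intro x hx
    obtain ⟨k, hk⟩ := hconj _ hx
    have : x * g' * x⁻¹ = g' ^ k := by
      apply Subtype.ext
      rw [Subgroup.coe_mul, Subgroup.coe_mul, Subgroup.coe_inv, Subgroup.coe_pow]
      exact hk
    rw [this]
    exact Subgroup.pow_mem _ (Subgroup.mem_zpowers g') k
  set M : Subgroup (Matrix.GeneralLinearGroup (Fin 5) F) := L.map G.subtype with hM
  have hHM : subalgebraNormalizer K ⊓ G ≤ M := by
    intro h hh
    have h1 : (⟨h, hh.2⟩ : ↥G) ∈ L := hn _ (hnorm ⟨h, hh.2⟩ hh.1)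
    exact Subgroup.mem_map.mpr ⟨⟨h, hh.2⟩, h1, rfl⟩
  have hMG : M ≤ G := Subgroup.map_subtype_le L
  rcases hmax.2 M hHM hMG with h | h
  · -- `M = H`: then `t` normalises
    have ht' : (t : Matrix.GeneralLinearGroup (Fin 5) F) ∈ M := Subgroup.mem_map.mpr ⟨t, ht, rfl⟩
    rw [h] at ht'
    exact htn (hnorm t ht'.1)
  · -- `M = G`: then `L = ⊤`
    apply hL
    rw [eq_top_iff]
    intro x _
    have hx : (x : Matrix.GeneralLinearGroup (Fin 5) F) ∈ M := by rw [h]; exact x.2
    obtain ⟨y, hy, hyx⟩ := Subgroup.mem_map.mp hx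
    have : y = x := Subtype.ext hyx
    rw [← this]; exact hy

end Cfsg.Agent.Lib.Helper4.SU5
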