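import Mathlib
import Cfsg.Prelude
import Cfsg.Agent.Lib.Helper3.MaxU8
import Cfsg.Agent.Lib.Helper3.MaxU9
import Cfsg.Agent.Lib.Helper3.MaxC8
import Cfsg.Agent.Lib.Helper4.SU5k

set_option autoImplicit false
set_option maxHeartbeats 4000000
set_option maxRecDepth 100000
set_option linter.unusedVariables false
set_option linter.unusedSectionVars false
set_option linter.style.haveILetI false
set_option linter.style.longLine false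
set_option linter.deprecated false

/-! The maximal subgroups of the special unitary groups in dimension 5. -/

namespace Cfsg.Agent.Lib.Helper4.SU5

open Matrix Cfsg Cfsg.Geo Module
open Cfsg.Agent.Lib.Helper3 Cfsg.Agent.Lib.Helper3.MaxU

theorem row5 {F : Type*} [Field F] [Fintype F] (q : ℕ) (hF : Fintype.card F = q ^ 2) (H : Subgroup (Matrix.GeneralLinearGroup (Fin 5) F)) (hH : Cfsg.Geo.IsMaximalIn (Cfsg.GU 5 F q ⊓ Cfsg.Geo.specialLinear (Fin 5) F) H)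
    (hA : (∃ M : Subgroup (Matrix.GeneralLinearGroup (Fin 5) F), Cfsg.Geo.InUnitaryClass 5 F q M ∧ H ≤ M) ∨ Cfsg.Geo.InUnitaryResidualClass H) :
    (∃ W : Submodule F (Fin 5 → F), W ≠ ⊥ ∧ Cfsg.Geo.IsTotallySingularFor (Cfsg.hermForm 5 F q) W ∧ H = Cfsg.Geo.subspaceStabilizer W ⊓ (Cfsg.GU 5 F q ⊓ Cfsg.Geo.specialLinear (Fin 5) F)) ∨
    (∃ W : Submodule F (Fin 5 → F), W ≠ ⊥ ∧ Cfsg.Geo.IsNondegenerateOn (Cfsg.hermForm 5 F q) W ∧ 2 * Module.finrank F W < 5 ∧ H = Cfsg.Geo.subspaceStabilizer W ⊓ (Cfsg.GU 5 F q ⊓ Cfsg.Geo.specialLinear (Fin 5) F)) ∨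
    (∃ D : Fin 5 → Submodule F (Fin 5 → F), Cfsg.Geo.IsNondegenerateMDecomposition (Cfsg.hermForm 5 F q) 1 D ∧ H = Cfsg.Geo.decompositionStabilizer D ⊓ (Cfsg.GU 5 F q ⊓ Cfsg.Geo.specialLinear (Fin 5) F)) ∨
    (3 ≤ q ∧ ∃ K : Subalgebra F (Matrix (Fin 5) (Fin 5) F), Cfsg.Geo.IsFieldSubalgebra 5 K ∧ Cfsg.Geo.IsAdjointClosedFor (Cfsg.hermForm 5 F q) K ∧ H = Cfsg.Geo.subalgebraNormalizer K ⊓ (Cfsg.GU 5 F q ⊓ Cfsg.Geo.specialLinear (Fin 5) F)) ∨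
    (∃ (F₀ : Subfield F) (r : ℕ) (P : Matrix.GeneralLinearGroup (Fin 5) F), r.Prime ∧ Odd r ∧ Fintype.card F = Nat.card F₀ ^ r ∧ Cfsg.Geo.IsFormRationalStructure (Cfsg.hermForm 5 F q) F₀ 1 P ∧ H = Cfsg.Geo.subfieldSubgroup F₀ P ⊓ (Cfsg.GU 5 F q ⊓ Cfsg.Geo.specialLinear (Fin 5) F)) ∨
    (Odd q ∧ ∃ (F₀ : Subfield F) (P : Matrix.GeneralLinearGroup (Fin 5) F), Fintype.card F = Nat.card F₀ ^ 2 ∧ Cfsg.Geo.IsFormRationalStructure (Cfsg.hermForm 5 F q) F₀ 1 P ∧ H = Cfsg.Geo.subfieldSubgroup F₀ P ⊓ (Cfsg.GU 5 F q ⊓ Cfsg.Geo.specialLinear (Fin 5) F)) ∨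
    (∃ (p : ℕ) (R : Subgroup (Matrix.GeneralLinearGroup (Fin 5) F)), p.Prime ∧ CharP F p ∧ ((q = p ∧ p % 5 = 4) ∨ (q = p ^ 2 ∧ (p % 5 = 2 ∨ p % 5 = 3))) ∧ Cfsg.Geo.IsSymplecticTypeGroup 5 R ∧ Cfsg.Geo.ActsAbsolutelyIrreducibly (Cfsg.Geo.matrixSet R) ∧ R ≤ Cfsg.Geo.similarityGroup (Cfsg.hermForm 5 F q) ∧ Nat.card R = 125 ∧ Nat.card (Subgroup.center R) = 5 ∧ H = Cfsg.Geo.subgroupNormalizer R ⊓ (Cfsg.GU 5 F q ⊓ Cfsg.Geo.specialLinear (Fin 5) F)) ∨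
    Cfsg.Geo.InUnitaryResidualClass H := by
  classical
  have hq1 : 1 < q := one_lt_q hF
  rcases cases_of_max hF (by norm_num) H hH hA with
    ⟨W, h0, hts, hW⟩ | ⟨W, h0, hnd, hlt, hW⟩ | ⟨t, k, D, hD, htk, hs, hHD⟩ |
    ⟨k, D, h2k, hD, hts, hHD⟩ | ⟨F₀, r, P, hr, hodd, hcard, hrat, hHS⟩ |
    ⟨F₀, P, hodd, hcard, hrat, hHS⟩ | ⟨F₀, P, ζ, hev, hcard, hζ0, hζ, hrat, hiso, hHS⟩ |
    ⟨r, R, p, e, k, hR, hirr, hsim, hrp, ⟨hnk, hp, hchar, hcase⟩, hHR⟩ |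
    ⟨r, K, hr, hodd, hrn, hK, hadj, hHK⟩ |
    ⟨n₁, n₂, e, P, f₁, f₂, h1, h2, h12, hs, hf₁, hf₂, hT, hHT⟩ |
    ⟨k, t, e, P, f₁, hk, ht, hkt, hqk, hf₁, hT, hHle, hHW⟩ | hres
  · exact Or.inl ⟨W, h0, hts, hW⟩
  · exact Or.inr (Or.inl ⟨W, h0, hnd, hlt, hW⟩)
  · obtain ⟨rfl, rfl⟩ := fac5 hD.decomp.two_le hD.decomp.pos htk
    iterate 2 right
    left
    exact ⟨D, hD, hHD⟩
  · exfalso
    omega
  ·
    iterate 4 right
    left
    exact ⟨F₀, r, P, hr, hodd, hcard, hrat, hHS⟩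
  ·
    iterate 5 right
    left
    exact ⟨hodd, F₀, P, hcard, hrat, hHS⟩
  · exfalso
    rcases hev with ⟨j, hj⟩
    omega
  · have hr5 : r = 5 := by
      have h5 : (5 : ℕ) ∣ r ^ k := by rw [← hnk]
      exact (MaxC.prime_eq_of_dvd_pow hR.prime (by norm_num) h5).symm
    subst hr5
    have hk1 : k = 1 := pow_eq_self (by norm_num) hnk
    subst hk1
    rcases hcase with ⟨-, hZ, hRc, hev, hdiv, hd1, hmin⟩ | ⟨h2, -⟩
    · iterate 6 right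
      left
      refine ⟨p, R, hp, hchar, ?_, hR, hirr, hsim, hRc.trans (by norm_num), hZ, hHR⟩
      obtain ⟨j, hej, hqj, hj0⟩ := hev
      rcases c6u_arith_5 hp ⟨j, hej, hj0⟩ hdiv hd1 hmin with ⟨he, hp5⟩ | ⟨he, hp5⟩
      · left
        have hj1 : j = 1 := by omega
        subst hj1
        rw [pow_one] at hqj
        exact ⟨hqj, hp5⟩
      · right
        have hj2 : j = 2 := by omega
        subst hj2
        exact ⟨hqj, hp5⟩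
    · omega
  · have hr5 : r = 5 := (Nat.prime_dvd_prime_iff_eq hr (by norm_num)).1 hrn
    subst hr5
    iterate 3 right
    left
    refine ⟨?_, K, hK, hadj, hHK⟩
    by_contra hq3
    have hq2 : q = 2 := by omega
    subst hq2
    rw [hHK] at hH
    exact field_not_maximal hF K hK hadj hH
  · exfalso
    exact ten5 h1 h2 h12
  · exfalso
    have h9 := MaxC.nine_le_pow hk ht
    omega
  · iterate 7 right
    exact hres

end Cfsg.Agent.Lib.Helper4.SU5
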