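import Mathlib
import Cfsg.Agent.Lib.Helper4.SU5a

set_option autoImplicit false
set_option linter.unusedVariables false
set_option linter.style.longLine false

/-! Coded 6 x 6 matrices over the model field with four elements and the computational facts about the
centraliser of an element of order 9 in `SU₆(2)`. -/

namespace Cfsg.Agent.Lib.Helper4.SU6

open Cfsg.Agent.Lib.Helper4.SU5 (F4)
open Cfsg.Agent.Lib.Helper4.SU5.F4

/-- vectors of length 6 -/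
structure V6 where
  x0 : F4
  x1 : F4
  x2 : F4
  x3 : F4
  x4 : F4
  x5 : F4
  deriving DecidableEq

/-- 6 x 6 matrices, by rows -/
structure M6 where
  r0 : V6
  r1 : V6
  r2 : V6
  r3 : V6
  r4 : V6
  r5 : V6
  deriving DecidableEq

def isBit : F4 → Bool
  | z => true | o => true | _ => false

namespace V6

def add (a b : V6) : V6 :=
  ⟨F4.add a.x0 b.x0, F4.add a.x1 b.x1, F4.add a.x2 b.x2, F4.add a.x3 b.x3, F4.add a.x4 b.x4, F4.add a.x5 b.x5⟩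

def smul (c : F4) (a : V6) : V6 :=
  ⟨F4.mul c a.x0, F4.mul c a.x1, F4.mul c a.x2, F4.mul c a.x3, F4.mul c a.x4, F4.mul c a.x5⟩

def dot (a b : V6) : F4 :=
  F4.add (F4.add (F4.add (F4.add (F4.add (F4.mul a.x0 b.x0) (F4.mul a.x1 b.x1)) (F4.mul a.x2 b.x2))
    (F4.mul a.x3 b.x3)) (F4.mul a.x4 b.x4)) (F4.mul a.x5 b.x5)

def conj (a : V6) : V6 :=
  ⟨F4.mul a.x0 a.x0, F4.mul a.x1 a.x1, F4.mul a.x2 a.x2, F4.mul a.x3 a.x3, F4.mul a.x4 a.x4, F4.mul a.x5 a.x5⟩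

/-- the hermitian product -/
def herm (a b : V6) : F4 := dot a (conj b)

def get (a : V6) : Fin 6 → F4
  | 0 => a.x0 | 1 => a.x1 | 2 => a.x2 | 3 => a.x3 | 4 => a.x4 | 5 => a.x5

def bits (a : V6) : Bool := isBit a.x0 && isBit a.x1 && isBit a.x2 && isBit a.x3 && isBit a.x4 && isBit a.x5

/-- Boolean universal quantifier over `V6` -/
def all (p : V6 → Bool) : Bool :=
  F4.all fun a0 => F4.all fun a1 => F4.all fun a2 => F4.all fun a3 => F4.all fun a4 => F4.all fun a5 =>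
    p ⟨a0, a1, a2, a3, a4, a5⟩

theorem all_spec {p : V6 → Bool} (h : all p = true) (x : V6) : p x = true := by
  unfold all at h
  have h0 := F4.all_spec h x.x0
  have h1 := F4.all_spec h0 x.x1
  have h2 := F4.all_spec h1 x.x2
  have h3 := F4.all_spec h2 x.x3
  have h4 := F4.all_spec h3 x.x4
  exact F4.all_spec h4 x.x5

end V6

namespace M6

def one : M6 := ⟨⟨o, z, z, z, z, z⟩, ⟨z, o, z, z, z, z⟩, ⟨z, z, o, z, z, z⟩, ⟨z, z, z, o, z, z⟩, ⟨z, z, z, z, o, z⟩,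
  ⟨z, z, z, z, z, o⟩⟩

/-- the row vector `a * B` -/
def lin (a : V6) (B : M6) : V6 :=
  V6.add (V6.add (V6.add (V6.add (V6.add (V6.smul a.x0 B.r0) (V6.smul a.x1 B.r1)) (V6.smul a.x2 B.r2))
    (V6.smul a.x3 B.r3)) (V6.smul a.x4 B.r4)) (V6.smul a.x5 B.r5)

def mul (A B : M6) : M6 := ⟨lin A.r0 B, lin A.r1 B, lin A.r2 B, lin A.r3 B, lin A.r4 B, lin A.r5 B⟩

def mulVec (A : M6) (v : V6) : V6 :=
  ⟨V6.dot A.r0 v, V6.dot A.r1 v, V6.dot A.r2 v, V6.dot A.r3 v, V6.dot A.r4 v, V6.dot A.r5 v⟩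

def transpose (A : M6) : M6 :=
  ⟨⟨A.r0.x0, A.r1.x0, A.r2.x0, A.r3.x0, A.r4.x0, A.r5.x0⟩, ⟨A.r0.x1, A.r1.x1, A.r2.x1, A.r3.x1, A.r4.x1, A.r5.x1⟩,
   ⟨A.r0.x2, A.r1.x2, A.r2.x2, A.r3.x2, A.r4.x2, A.r5.x2⟩, ⟨A.r0.x3, A.r1.x3, A.r2.x3, A.r3.x3, A.r4.x3, A.r5.x3⟩,
   ⟨A.r0.x4, A.r1.x4, A.r2.x4, A.r3.x4, A.r4.x4, A.r5.x4⟩, ⟨A.r0.x5, A.r1.x5, A.r2.x5, A.r3.x5, A.r4.x5, A.r5.x5⟩⟩

/-- conjugate transpose -/
def ct (A : M6) : M6 :=
  let B := transpose A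
  ⟨V6.conj B.r0, V6.conj B.r1, V6.conj B.r2, V6.conj B.r3, V6.conj B.r4, V6.conj B.r5⟩

def smul (c : F4) (A : M6) : M6 :=
  ⟨V6.smul c A.r0, V6.smul c A.r1, V6.smul c A.r2, V6.smul c A.r3, V6.smul c A.r4, V6.smul c A.r5⟩

def pow (A : M6) : ℕ → M6
  | 0 => one
  | n + 1 => mul (pow A n) A

def row (A : M6) : Fin 6 → V6
  | 0 => A.r0 | 1 => A.r1 | 2 => A.r2 | 3 => A.r3 | 4 => A.r4 | 5 => A.r5

def bits (A : M6) : Bool := A.r0.bits && A.r1.bits && A.r2.bits && A.r3.bits && A.r4.bits && A.r5.bits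

/-- unitarity as a Boolean -/
def unitary (A : M6) : Bool := decide (mul (ct A) A = one)

end M6

/-! ### The explicit matrices -/

/-- the element of order 9 with cube `ω`: two companion blocks -/
def c0 : M6 := ⟨⟨z, z, w, z, z, z⟩, ⟨o, z, z, z, z, z⟩, ⟨z, o, z, z, z, z⟩, ⟨z, z, z, z, z, w⟩, ⟨z, z, z, o, z, z⟩, ⟨z, z, z, z, o, z⟩⟩
/-- the Frobenius element: conjugates `c0` to `ω c0` -/
def Phic : M6 := ⟨⟨o, z, z, z, z, z⟩, ⟨z, w, z, z, z, z⟩, ⟨z, z, v, z, z, z⟩, ⟨z, z, z, o, z, z⟩, ⟨z, z, z, z, w, z⟩, ⟨z, z, z, z, z, v⟩⟩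
/-- swap of the coordinates 0 and 3 (a unitary transvection) -/
def T1c : M6 := ⟨⟨z, z, z, o, z, z⟩, ⟨z, o, z, z, z, z⟩, ⟨z, z, o, z, z, z⟩, ⟨o, z, z, z, z, z⟩, ⟨z, z, z, z, o, z⟩, ⟨z, z, z, z, z, o⟩⟩
/-- swap of the coordinates 4 and 5 -/
def T2c : M6 := ⟨⟨o, z, z, z, z, z⟩, ⟨z, o, z, z, z, z⟩, ⟨z, z, o, z, z, z⟩, ⟨z, z, z, o, z, z⟩, ⟨z, z, z, z, z, o⟩, ⟨z, z, z, z, o, z⟩⟩
/-- identity on the first block, companion on the second -/
def D1c : M6 := ⟨⟨o, z, z, z, z, z⟩, ⟨z, o, z, z, z, z⟩, ⟨z, z, o, z, z, z⟩, ⟨z, z, z, z, z, w⟩, ⟨z, z, z, o, z, z⟩, ⟨z, z, z, z, o, z⟩⟩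
/-- a basis of the form over the prime field -/
def Bc : M6 := ⟨⟨o, z, z, w, o, z⟩, ⟨z, o, w, w, z, w⟩, ⟨z, v, w, w, v, z⟩, ⟨o, z, z, v, o, z⟩, ⟨z, o, w, w, o, z⟩, ⟨z, v, w, w, z, w⟩⟩
def Binvc : M6 := ⟨⟨v, v, v, w, v, v⟩, ⟨z, v, z, z, z, v⟩, ⟨o, z, w, o, o, z⟩, ⟨o, z, z, o, z, z⟩, ⟨z, v, v, z, v, v⟩, ⟨z, o, w, z, o, w⟩⟩

def e0c : V6 := ⟨o, z, z, z, z, z⟩
def e3c : V6 := ⟨z, z, z, o, z, z⟩

/-- the matrix with the given columns -/
def ofCols (a b c d e f : V6) : M6 := M6.transpose ⟨a, b, c, d, e, f⟩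

/-- the vector orthogonal to `u` over the cubic extension -/
def perp (u : V6) : V6 :=
  ⟨F4.mul u.x3 u.x3, F4.mul v (F4.mul u.x5 u.x5), F4.mul v (F4.mul u.x4 u.x4),
   F4.mul u.x0 u.x0, F4.mul v (F4.mul u.x2 u.x2), F4.mul v (F4.mul u.x1 u.x1)⟩

/-- the element of the special unitary group of the plane over the cubic extension with first column `u` -/
def Xcode (u : V6) : M6 :=
  ofCols u (M6.mulVec c0 u) (M6.mulVec c0 (M6.mulVec c0 u))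
    (perp u) (M6.mulVec c0 (perp u)) (M6.mulVec c0 (M6.mulVec c0 (perp u)))

/-- unit vectors over the cubic extension -/
def cond (u : V6) : Bool := decide (V6.herm u u = o) && decide (V6.herm (M6.mulVec c0 u) u = z)

/-- the matrix in the basis `Bc`, rescaled -/
def inB (s : F4) (X : M6) : M6 := M6.smul s (M6.mul Binvc (M6.mul X Bc))

/-! ### Computational facts -/

theorem B_Binv : M6.mul Bc Binvc = M6.one := by decide +kernel
theorem Binv_B : M6.mul Binvc Bc = M6.one := by decide +kernel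

theorem c0_unitary : M6.mul (M6.ct c0) c0 = M6.one := by decide +kernel
theorem c0_cube : M6.pow c0 3 = M6.smul w M6.one := by decide +kernel
theorem c0_e0 : M6.mulVec c0 e0c = ⟨z, o, z, z, z, z⟩ ∧ M6.mulVec c0 ⟨z, o, z, z, z, z⟩ = ⟨z, z, o, z, z, z⟩ ∧
    M6.mulVec c0 e3c = ⟨z, z, z, z, o, z⟩ ∧ M6.mulVec c0 ⟨z, z, z, z, o, z⟩ = ⟨z, z, z, z, z, o⟩ := by decide +kernel

theorem X_facts : V6.all (fun u => !cond u ||
    (M6.unitary (Xcode u) && decide (M6.mul c0 (Xcode u) = M6.mul (Xcode u) c0) &&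
      decide (M6.mulVec (Xcode u) e0c = u) && M6.bits (inB o (Xcode u)))) = true := by decide +kernel

theorem D_facts : V6.all (fun u => !(decide (u.x0 = z) && decide (u.x1 = z) && decide (u.x2 = z) && cond u) ||
    (List.range 9).any (fun j => decide (M6.mulVec (M6.pow D1c j) e3c = u))) = true := by decide +kernel

theorem D1_facts : M6.mul (M6.ct D1c) D1c = M6.one ∧ M6.mul c0 D1c = M6.mul D1c c0 ∧ M6.mulVec D1c e0c = e0c := by
  decide +kernel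

theorem D3_bits : M6.bits (inB w (M6.pow D1c 3)) = true ∧ M6.bits (inB v (M6.pow D1c 6)) = true := by decide +kernel

theorem Phi_facts : M6.mul (M6.ct Phic) Phic = M6.one ∧ M6.mul Phic c0 = M6.mul (M6.smul w c0) Phic ∧
    M6.bits (inB o Phic) = true := by decide +kernel

theorem T1_facts : M6.mul (M6.ct T1c) T1c = M6.one ∧ M6.mul T1c T1c = M6.one ∧ M6.bits (inB o T1c) = true ∧
    M6.mul T1c c0 ≠ M6.mul c0 T1c ∧ M6.mul T1c c0 ≠ M6.mul (M6.smul w c0) T1c ∧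
    M6.mul T1c c0 ≠ M6.mul (M6.smul v c0) T1c := by decide +kernel

theorem T2_facts : M6.mul (M6.ct T2c) T2c = M6.one ∧ M6.mul T2c T2c = M6.one ∧
    M6.mulVec Binvc (M6.mulVec T2c (M6.mulVec Bc ⟨z, o, z, z, z, z⟩)) = ⟨z, z, w, z, z, o⟩ := by decide +kernel

end Cfsg.Agent.Lib.Helper4.SU6
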