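import Mathlib
import Cfsg.Agent.Lib.Helper4.SU6a

set_option autoImplicit false
set_option linter.unusedVariables false
set_option linter.style.longLine false
set_option linter.unusedSimpArgs false

/-! Bridge between the code model `M6` and `Matrix (Fin 6) (Fin 6) F4`. -/

namespace Cfsg.Agent.Lib.Helper4.SU6

open Cfsg.Agent.Lib.Helper4.SU5 (F4)
open Cfsg.Agent.Lib.Helper4.SU5.F4 Matrix

/-- the vector of a code -/
def toVec (a : V6) : Fin 6 → F4 := a.get

/-- the matrix of a code -/
def toMat (A : M6) : Matrix (Fin 6) (Fin 6) F4 := fun i j => (A.row i).get j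

def ofVec (f : Fin 6 → F4) : V6 := ⟨f 0, f 1, f 2, f 3, f 4, f 5⟩

def ofMat (X : Matrix (Fin 6) (Fin 6) F4) : M6 :=
  ⟨ofVec (X 0), ofVec (X 1), ofVec (X 2), ofVec (X 3), ofVec (X 4), ofVec (X 5)⟩

theorem toVec_ofVec (f : Fin 6 → F4) : toVec (ofVec f) = f := by
  funext i; fin_cases i <;> rfl

theorem ofVec_toVec (a : V6) : ofVec (toVec a) = a := rfl

theorem toMat_ofMat (X : Matrix (Fin 6) (Fin 6) F4) : toMat (ofMat X) = X := by
  funext i j; fin_cases i <;> fin_cases j <;> rfl

theorem ofMat_toMat (A : M6) : ofMat (toMat A) = A := rfl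

theorem toMat_injective : Function.Injective toMat := by
  intro A B h
  rw [← ofMat_toMat A, ← ofMat_toMat B, h]

theorem toVec_injective : Function.Injective toVec := by
  intro A B h
  rw [← ofVec_toVec A, ← ofVec_toVec B, h]

theorem toMat_one : toMat M6.one = 1 := by
  funext i j; fin_cases i <;> fin_cases j <;> rfl

theorem toMat_mul (A B : M6) : toMat (M6.mul A B) = toMat A * toMat B := by
  funext i j
  rw [Matrix.mul_apply, Fin.sum_univ_six]
  fin_cases i <;> fin_cases j <;> rfl

theorem toMat_smul (c : F4) (A : M6) : toMat (M6.smul c A) = c • toMat A := by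
  funext i j
  rw [Matrix.smul_apply, smul_eq_mul]
  fin_cases i <;> fin_cases j <;> rfl

theorem toVec_mulVec (A : M6) (v : V6) : toVec (M6.mulVec A v) = toMat A *ᵥ toVec v := by
  funext i
  rw [Matrix.mulVec, dotProduct, Fin.sum_univ_six]
  fin_cases i <;> rfl

theorem toVec_smul (c : F4) (v : V6) : toVec (V6.smul c v) = c • toVec v := by
  funext i
  rw [Pi.smul_apply, smul_eq_mul]
  fin_cases i <;> rfl

theorem toMat_pow (A : M6) (k : ℕ) : toMat (M6.pow A k) = toMat A ^ k := by
  induction k with
  | zero => rw [pow_zero]; exact toMat_one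
  | succ n ih => rw [pow_succ, ← ih, ← toMat_mul]; rfl

/-- conjugate transpose, matrix form -/
theorem toMat_ct (A : M6) (i j : Fin 6) : toMat (M6.ct A) i j = (toMat A j i) ^ 2 := by
  rw [F4.sq_def]
  fin_cases i <;> fin_cases j <;> rfl

/-- the hermitian product -/
theorem toVec_herm (a b : V6) : ∑ i, toVec a i * toVec b i ^ 2 = V6.herm a b := by
  rw [Fin.sum_univ_six]
  simp only [F4.sq_def]
  rfl

end Cfsg.Agent.Lib.Helper4.SU6
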