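import Mathlib
import Cfsg.Prelude
import Cfsg.Agent.Lib.Helper9.AschU1
import Cfsg.Agent.Lib.Helper4.SU5e
import Cfsg.Agent.Lib.Helper4.SU6b

set_option autoImplicit false
set_option linter.unusedVariables false
set_option linter.style.longLine false
set_option linter.unusedSimpArgs false
set_option linter.unusedSectionVars false

/-! `SU₆(2)` over the model field: invertible matrices of codes, the form over the prime field and its stabiliser. -/

namespace Cfsg.Agent.Lib.Helper4.SU6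

open Cfsg.Agent.Lib.Helper4.SU5 (F4 hF4)
open Cfsg.Agent.Lib.Helper4.SU5.F4 Matrix Cfsg Cfsg.Geo
open Cfsg.Agent.Lib.Helper8 Cfsg.Agent.Lib.Helper5
open Cfsg.Agent.Lib.Helper5.HermBridge (sigma_apply)

abbrev GL6 := Matrix.GeneralLinearGroup (Fin 6) F4

/-- `SU₆(2)` over the model field -/
def G6 : Subgroup GL6 := Cfsg.GU 6 F4 2 ⊓ Cfsg.Geo.specialLinear (Fin 6) F4

theorem star_toMat (X : M6) : Asch.star (HermBridge.sigma hF4) (toMat X) = toMat (M6.ct X) := by
  funext i j
  rw [Asch.star_apply, sigma_apply, toMat_ct]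

/-- the invertible matrix of a unitary code -/
noncomputable def glOf (X : M6) (h : M6.mul (M6.ct X) X = M6.one) : GL6 :=
  ⟨toMat X, toMat (M6.ct X),
    by
      have h1 : toMat (M6.ct X) * toMat X = 1 := by rw [← toMat_mul, h, toMat_one]
      exact mul_eq_one_comm.mp h1,
    by rw [← toMat_mul, h, toMat_one]⟩

theorem glOf_val (X : M6) (h : M6.mul (M6.ct X) X = M6.one) : ((glOf X h : GL6) : Matrix (Fin 6) (Fin 6) F4) = toMat X := rfl

theorem glOf_mem_GU (X : M6) (h : M6.mul (M6.ct X) X = M6.one) : glOf X h ∈ Cfsg.GU 6 F4 2 := by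
  rw [Cfsg.Agent.Lib.Helper9.AschU.mem_GU_iff hF4, glOf_val, star_toMat, ← toMat_mul, h, toMat_one]

theorem glOf_pow (X : M6) (h : M6.mul (M6.ct X) X = M6.one) (k : ℕ) :
    ((glOf X h ^ k : GL6) : Matrix (Fin 6) (Fin 6) F4) = toMat (M6.pow X k) := by
  rw [Units.val_pow_eq_pow_val, glOf_val, toMat_pow]

theorem herm_toVec (a b : V6) : Cfsg.hermForm 6 F4 2 (toVec a) (toVec b) = V6.herm a b := by
  unfold Cfsg.hermForm
  exact toVec_herm a b

theorem mem_SL_iff (g : GL6) : g ∈ Cfsg.Geo.specialLinear (Fin 6) F4 ↔ Matrix.det (g : Matrix (Fin 6) (Fin 6) F4) = 1 := by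
  show Matrix.GeneralLinearGroup.det g = 1 ↔ _
  rw [Units.ext_iff, Matrix.GeneralLinearGroup.val_det_apply]
  rfl

theorem card_units_F4 : Nat.card F4ˣ = 3 := by
  rw [Nat.card_units, Nat.card_eq_fintype_card, F4.card_eq]
  norm_num

/-- an element of order prime to 3 has determinant one -/
theorem det_eq_one_of_pow (g : GL6) (k : ℕ) (hk : Nat.Coprime k 3) (h : g ^ k = 1) :
    g ∈ Cfsg.Geo.specialLinear (Fin 6) F4 := by
  show Matrix.GeneralLinearGroup.det g = 1
  set d := Matrix.GeneralLinearGroup.det g with hd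
  have h1 : d ^ k = 1 := by rw [hd, ← map_pow, h, map_one]
  have h2 : d ^ 3 = 1 := by rw [← card_units_F4]; exact pow_card_eq_one'
  have h3 : orderOf d ∣ Nat.gcd k 3 := Nat.dvd_gcd (orderOf_dvd_of_pow_eq_one h1) (orderOf_dvd_of_pow_eq_one h2)
  rw [hk, Nat.dvd_one] at h3
  exact orderOf_eq_one_iff.mp h3

/-! ### The prime field -/

/-- the prime field `{0, 1}` -/
def bitRing : Subring F4 where
  carrier := {x | x = 0 ∨ x = 1}
  mul_mem' := by
    rintro a b (rfl | rfl) (rfl | rfl) <;> decide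
  one_mem' := Or.inr rfl
  add_mem' := by
    rintro a b (rfl | rfl) (rfl | rfl) <;> decide
  zero_mem' := Or.inl rfl
  neg_mem' := by
    rintro a (rfl | rfl) <;> decide

theorem mem_bitRing (x : F4) : x ∈ bitRing ↔ x = 0 ∨ x = 1 := Iff.rfl

theorem isBit_iff (x : F4) : isBit x = true ↔ x ∈ bitRing := by
  rw [mem_bitRing]
  cases x <;> decide

theorem det_mem_bitRing (Y : Matrix (Fin 6) (Fin 6) F4) (hY : ∀ i j, Y i j ∈ bitRing) : Y.det ∈ bitRing := by
  rw [Matrix.det_apply]
  refine Subring.sum_mem _ fun σ _ => ?_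
  refine Subring.zsmul_mem _ ?_ _
  exact Subring.prod_mem _ fun i _ => hY _ _

theorem toMat_bits (X : M6) (h : M6.bits X = true) (i j : Fin 6) : toMat X i j ∈ bitRing := by
  unfold M6.bits V6.bits at h
  simp only [Bool.and_eq_true] at h
  rw [← isBit_iff]
  fin_cases i <;> fin_cases j <;> simp only [toMat, M6.row, V6.get] <;> tauto

/-! ### The form over the prime field and its stabiliser -/

noncomputable def BM : Matrix (Fin 6) (Fin 6) F4 := toMat Bc
noncomputable def BinvM : Matrix (Fin 6) (Fin 6) F4 := toMat Binvc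

theorem BM_BinvM : BM * BinvM = 1 := by
  unfold BM BinvM
  rw [← toMat_mul, B_Binv, toMat_one]

theorem BinvM_BM : BinvM * BM = 1 := by
  unfold BM BinvM
  rw [← toMat_mul, Binv_B, toMat_one]

/-- the non-zero vectors of the form over the prime field, up to scalars -/
def S0 : Set (Fin 6 → F4) :=
  {x | ∃ (ν : F4) (ε : Fin 6 → F4), ν ≠ 0 ∧ ε ≠ 0 ∧ (∀ i, ε i ∈ bitRing) ∧ x = ν • (BM *ᵥ ε)}

/-- the stabiliser of `S0` -/
def stab6 : Subgroup GL6 where
  carrier := {g | ∀ f : Fin 6 → F4, f ∈ S0 ↔ (g : Matrix (Fin 6) (Fin 6) F4) *ᵥ f ∈ S0}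
  mul_mem' {a b} ha hb := by
    intro f
    rw [hb f, ha, Units.val_mul, Matrix.mulVec_mulVec]
  one_mem' := by
    intro f
    simp
  inv_mem' {a} ha := by
    intro f
    rw [ha (((a⁻¹ : GL6) : Matrix (Fin 6) (Fin 6) F4) *ᵥ f), Matrix.mulVec_mulVec, ← Units.val_mul, mul_inv_cancel,
      Units.val_one, Matrix.one_mulVec]

theorem mem_stab6_of_maps (g : GL6) (h : ∀ f ∈ S0, (g : Matrix (Fin 6) (Fin 6) F4) *ᵥ f ∈ S0) : g ∈ stab6 := by
  classical
  set Sfin : Finset (Fin 6 → F4) := Finset.univ.filter (fun f => f ∈ S0) with hSfin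
  have hmem : ∀ f, f ∈ Sfin ↔ f ∈ S0 := by
    intro f
    rw [hSfin, Finset.mem_filter]
    simp
  have hinj : Function.Injective (fun f : Fin 6 → F4 => (g : Matrix (Fin 6) (Fin 6) F4) *ᵥ f) := by
    intro f f' hff
    have h1 : ((g⁻¹ : GL6) : Matrix (Fin 6) (Fin 6) F4) *ᵥ ((g : Matrix (Fin 6) (Fin 6) F4) *ᵥ f) =
        ((g⁻¹ : GL6) : Matrix (Fin 6) (Fin 6) F4) *ᵥ ((g : Matrix (Fin 6) (Fin 6) F4) *ᵥ f') := congrArg _ hff
    rw [Matrix.mulVec_mulVec, Matrix.mulVec_mulVec, ← Units.val_mul, inv_mul_cancel, Units.val_one,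
      Matrix.one_mulVec, Matrix.one_mulVec] at h1
    exact h1
  have himg : Sfin.image (fun f : Fin 6 → F4 => (g : Matrix (Fin 6) (Fin 6) F4) *ᵥ f) = Sfin := by
    apply Finset.eq_of_subset_of_card_le
    · intro y hy
      rw [Finset.mem_image] at hy
      obtain ⟨f, hf, rfl⟩ := hy
      exact (hmem _).mpr (h f ((hmem f).mp hf))
    · rw [Finset.card_image_of_injective _ hinj]
  intro f
  constructor
  · exact h f
  · intro hf
    have hf' := (hmem _).mpr hf
    rw [← himg, Finset.mem_image] at hf'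
    obtain ⟨f', hf'', hff⟩ := hf'
    rw [← hinj hff]
    exact (hmem _).mp hf''

/-- a matrix that is rational over the prime field up to a scalar stabilises `S0` -/
theorem mem_stab6_of_rat (g : GL6) (ν : F4) (hν : ν ≠ 0) (Y : Matrix (Fin 6) (Fin 6) F4) (hY : ∀ i j, Y i j ∈ bitRing)
    (h : (g : Matrix (Fin 6) (Fin 6) F4) * BM = ν • (BM * Y)) : g ∈ stab6 := by
  apply mem_stab6_of_maps
  rintro x ⟨κ, ε, hκ, hε, hbits, rfl⟩
  refine ⟨κ * ν, Y *ᵥ ε, mul_ne_zero hκ hν, ?_, ?_, ?_⟩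
  · intro h0
    -- then `g x = 0`, so `x = 0`, so `ε = 0`
    have h1 : (g : Matrix (Fin 6) (Fin 6) F4) *ᵥ (BM *ᵥ ε) = 0 := by
      rw [Matrix.mulVec_mulVec, h, Matrix.smul_mulVec, ← Matrix.mulVec_mulVec, h0, Matrix.mulVec_zero, smul_zero]
    have h2 : BM *ᵥ ε = 0 := by
      have := congrArg (fun t => ((g⁻¹ : GL6) : Matrix (Fin 6) (Fin 6) F4) *ᵥ t) h1
      simp only [Matrix.mulVec_mulVec, Matrix.mulVec_zero] at this
      rw [← Matrix.mulVec_mulVec, ← Matrix.mulVec_mulVec, Matrix.mulVec_mulVec (BM *ᵥ ε), ← Units.val_mul, inv_mul_cancel,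
        Units.val_one, Matrix.one_mulVec] at this
      exact this
    apply hε
    have := congrArg (fun t => BinvM *ᵥ t) h2
    simp only [Matrix.mulVec_mulVec, Matrix.mulVec_zero, BinvM_BM, Matrix.one_mulVec] at this
    exact this
  · intro i
    rw [Matrix.mulVec, dotProduct]
    exact Subring.sum_mem _ fun j _ => Subring.mul_mem _ (hY i j) (hbits j)
  · rw [Matrix.mulVec_smul, Matrix.mulVec_mulVec, h, Matrix.smul_mulVec, ← Matrix.mulVec_mulVec, smul_smul]

/-- the rational form of a code whose rescaled matrix in the basis `Bc` has entries in the prime field -/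
theorem rat_of_bits (X : M6) (s : F4) (hs : s ≠ 0) (h : M6.bits (inB s X) = true) :
    toMat X * BM = s⁻¹ • (BM * toMat (inB s X)) := by
  unfold inB
  rw [toMat_smul, toMat_mul, toMat_mul]
  show toMat X * BM = s⁻¹ • (BM * (s • (BinvM * (toMat X * BM))))
  rw [Matrix.mul_smul, smul_smul, inv_mul_cancel₀ hs, one_smul, ← Matrix.mul_assoc, BM_BinvM, Matrix.one_mul]

theorem det_BM_ne : BM.det ≠ 0 := by
  intro h
  have := congrArg Matrix.det BM_BinvM
  rw [Matrix.det_mul, h, zero_mul, Matrix.det_one] at this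
  exact zero_ne_one this

/-- a matrix rational over the prime field has determinant one -/
theorem det_eq_one_of_rat (g : GL6) (Y : Matrix (Fin 6) (Fin 6) F4) (hY : ∀ i j, Y i j ∈ bitRing)
    (h : (g : Matrix (Fin 6) (Fin 6) F4) * BM = BM * Y) : Matrix.det (g : Matrix (Fin 6) (Fin 6) F4) = 1 := by
  have h1 := congrArg Matrix.det h
  rw [Matrix.det_mul, Matrix.det_mul, mul_comm] at h1
  have h2 : Matrix.det (g : Matrix (Fin 6) (Fin 6) F4) = Y.det := mul_left_cancel₀ det_BM_ne h1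
  have h3 := det_mem_bitRing Y hY
  rw [← h2, mem_bitRing] at h3
  rcases h3 with h3 | h3
  · exfalso
    have hu : IsUnit (Matrix.det (g : Matrix (Fin 6) (Fin 6) F4)) := by
      rw [← Matrix.isUnit_iff_isUnit_det]
      exact g.isUnit
    rw [h3] at hu
    exact not_isUnit_zero hu
  · exact h3

end Cfsg.Agent.Lib.Helper4.SU6
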