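import Mathlib
import Cfsg.Prelude
import Cfsg.Agent.Lib.Helper4.SU6c

set_option autoImplicit false
set_option linter.unusedVariables false
set_option linter.style.longLine false
set_option linter.unusedSimpArgs false
set_option linter.unusedSectionVars false

/-! The centraliser and normaliser in `SU₆(2)` of the explicit element of order 9 stabilise the form over the prime field. -/

namespace Cfsg.Agent.Lib.Helper4.SU6

open Cfsg.Agent.Lib.Helper4.SU5 (F4 hF4)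
open Cfsg.Agent.Lib.Helper4.SU5.F4 Matrix Cfsg Cfsg.Geo

/-- the matrix of `c0` -/
noncomputable def C0 : Matrix (Fin 6) (Fin 6) F4 := toMat c0

/-- standard basis vectors -/
def E (i : Fin 6) : Fin 6 → F4 := Pi.single i 1

theorem toVec_E0 : toVec e0c = E 0 := by funext i; fin_cases i <;> rfl
theorem toVec_E1 : toVec ⟨z, o, z, z, z, z⟩ = E 1 := by funext i; fin_cases i <;> rfl
theorem toVec_E2 : toVec ⟨z, z, o, z, z, z⟩ = E 2 := by funext i; fin_cases i <;> rfl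
theorem toVec_E3 : toVec e3c = E 3 := by funext i; fin_cases i <;> rfl
theorem toVec_E4 : toVec ⟨z, z, z, z, o, z⟩ = E 4 := by funext i; fin_cases i <;> rfl
theorem toVec_E5 : toVec ⟨z, z, z, z, z, o⟩ = E 5 := by funext i; fin_cases i <;> rfl

theorem C0_E : C0 *ᵥ E 0 = E 1 ∧ C0 *ᵥ E 1 = E 2 ∧ C0 *ᵥ E 3 = E 4 ∧ C0 *ᵥ E 4 = E 5 := by
  obtain ⟨h1, h2, h3, h4⟩ := c0_e0
  unfold C0
  refine ⟨?_, ?_, ?_, ?_⟩
  · rw [← toVec_E0, ← toVec_mulVec, h1, toVec_E1]
  · rw [← toVec_E1, ← toVec_mulVec, h2, toVec_E2]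
  · rw [← toVec_E3, ← toVec_mulVec, h3, toVec_E4]
  · rw [← toVec_E4, ← toVec_mulVec, h4, toVec_E5]

/-- a matrix commuting with `C0` is determined by its columns 0 and 3 -/
theorem eq_of_two_cols (Y₁ Y₂ : Matrix (Fin 6) (Fin 6) F4) (h1 : Y₁ * C0 = C0 * Y₁) (h2 : Y₂ * C0 = C0 * Y₂)
    (h0 : Y₁ *ᵥ E 0 = Y₂ *ᵥ E 0) (h3 : Y₁ *ᵥ E 3 = Y₂ *ᵥ E 3) : Y₁ = Y₂ := by
  have step : ∀ (a b : Fin 6 → F4), C0 *ᵥ a = b → Y₁ *ᵥ a = Y₂ *ᵥ a → Y₁ *ᵥ b = Y₂ *ᵥ b := by
    intro a b hab h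
    rw [← hab, Matrix.mulVec_mulVec, Matrix.mulVec_mulVec, h1, h2, ← Matrix.mulVec_mulVec, ← Matrix.mulVec_mulVec, h]
  obtain ⟨e1, e2, e4, e5⟩ := C0_E
  have c1 := step _ _ e1 h0
  have c2 := step _ _ e2 c1
  have c4 := step _ _ e4 h3
  have c5 := step _ _ e5 c4
  apply Matrix.ext_of_mulVec_single
  intro i
  fin_cases i
  · exact h0
  · exact c1
  · exact c2
  · exact h3
  · exact c4
  · exact c5

/-- the hermitian product with a basis vector -/
theorem herm_basis : V6.all (fun a => decide (V6.herm a e0c = a.x0) && decide (V6.herm a ⟨z, o, z, z, z, z⟩ = a.x1) &&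
    decide (V6.herm a ⟨z, z, o, z, z, z⟩ = a.x2)) = true := by decide +kernel

theorem herm_E : V6.herm e0c e0c = o ∧ V6.herm ⟨z, o, z, z, z, z⟩ e0c = z ∧ V6.herm e3c e3c = o ∧
    V6.herm ⟨z, z, z, z, o, z⟩ e3c = z ∧ V6.herm e3c e0c = z ∧ V6.herm e3c ⟨z, o, z, z, z, z⟩ = z ∧
    V6.herm e3c ⟨z, z, o, z, z, z⟩ = z := by decide +kernel

noncomputable def Cg : GL6 := glOf c0 c0_unitary
noncomputable def D1g : GL6 := glOf D1c D1_facts.1
noncomputable def Phig : GL6 := glOf Phic Phi_facts.1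
noncomputable def T1g : GL6 := glOf T1c T1_facts.1
noncomputable def T2g : GL6 := glOf T2c T2_facts.1

theorem Cg_val : (Cg : Matrix (Fin 6) (Fin 6) F4) = C0 := rfl

theorem D1g_comm : D1g * Cg = Cg * D1g := by
  apply Units.ext
  rw [Units.val_mul, Units.val_mul]
  show toMat D1c * toMat c0 = toMat c0 * toMat D1c
  rw [← toMat_mul, ← toMat_mul, D1_facts.2.1]

theorem D1g_pow_comm (j : ℕ) : D1g ^ j * Cg = Cg * D1g ^ j :=
  ((Commute.pow_left (show Commute D1g Cg from D1g_comm) j)).eq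

theorem D1g_pow_E0 (j : ℕ) : ((D1g ^ j : GL6) : Matrix (Fin 6) (Fin 6) F4) *ᵥ E 0 = E 0 := by
  induction j with
  | zero => rw [pow_zero, Units.val_one, Matrix.one_mulVec]
  | succ n ih =>
    rw [pow_succ, Units.val_mul, ← Matrix.mulVec_mulVec]
    have : (D1g : Matrix (Fin 6) (Fin 6) F4) *ᵥ E 0 = E 0 := by
      show toMat D1c *ᵥ E 0 = E 0
      rw [← toVec_E0, ← toVec_mulVec, D1_facts.2.2]
    rw [this, ih]

theorem det_D1 : (toMat D1c).det = F4.w := by
  have h : toMat D1c = Matrix.reindex finSumFinEquiv finSumFinEquiv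
      (Matrix.fromBlocks (1 : Matrix (Fin 3) (Fin 3) F4) 0 0 !![0, 0, w; 1, 0, 0; 0, 1, 0]) := by
    ext i j
    fin_cases i <;> fin_cases j <;> rfl
  rw [h, Matrix.det_reindex_self, Matrix.det_fromBlocks_zero₂₁, Matrix.det_one, one_mul, Matrix.det_fin_three]
  decide

theorem w_pow_cases : ∀ j : Fin 9, (F4.w : F4) ^ (j : ℕ) = 1 → (j = 0 ∨ j = 3 ∨ j = 6) := by decide

/-- the centraliser of `Cg` in `G6` stabilises `S0` -/
theorem cent_mem_stab6 (y : GL6) (hy : y ∈ G6) (hc : y * Cg = Cg * y) : y ∈ stab6 := by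
  have hU : ∀ a b, Cfsg.hermForm 6 F4 2 ((y : Matrix (Fin 6) (Fin 6) F4) *ᵥ a) ((y : Matrix (Fin 6) (Fin 6) F4) *ᵥ b) =
      Cfsg.hermForm 6 F4 2 a b := hy.1
  have hcm : (y : Matrix (Fin 6) (Fin 6) F4) * C0 = C0 * (y : Matrix (Fin 6) (Fin 6) F4) := by
    have := congrArg Units.val hc
    rw [Units.val_mul, Units.val_mul, Cg_val] at this
    exact this
  obtain ⟨e1, e2, e4, e5⟩ := C0_E
  obtain ⟨hE00, hE10, hE33, hE43, hE30, hE31, hE32⟩ := herm_E
  -- first column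
  set u := ofVec ((y : Matrix (Fin 6) (Fin 6) F4) *ᵥ E 0) with hu
  have hu' : toVec u = (y : Matrix (Fin 6) (Fin 6) F4) *ᵥ E 0 := toVec_ofVec _
  have hcond : cond u = true := by
    unfold cond
    rw [Bool.and_eq_true, decide_eq_true_eq, decide_eq_true_eq]
    constructor
    · rw [← herm_toVec, hu', hU, ← toVec_E0, herm_toVec, hE00]
    · rw [← herm_toVec, toVec_mulVec, hu']
      show Cfsg.hermForm 6 F4 2 (C0 *ᵥ ((y : Matrix (Fin 6) (Fin 6) F4) *ᵥ E 0)) _ = _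
      rw [Matrix.mulVec_mulVec, ← hcm, ← Matrix.mulVec_mulVec, e1, hU, ← toVec_E0, ← toVec_E1, herm_toVec, hE10]
  have hX := V6.all_spec X_facts u
  rw [hcond] at hX
  simp only [Bool.not_true, Bool.false_or, Bool.and_eq_true, decide_eq_true_eq] at hX
  obtain ⟨⟨⟨hunit, hcomm⟩, hcol⟩, hbits⟩ := hX
  have hunit' : M6.mul (M6.ct (Xcode u)) (Xcode u) = M6.one := by
    unfold M6.unitary at hunit
    exact of_decide_eq_true hunit
  set X : GL6 := glOf (Xcode u) hunit' with hXdef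
  have hXGU : X ∈ Cfsg.GU 6 F4 2 := glOf_mem_GU _ _
  have hXcomm : X * Cg = Cg * X := by
    apply Units.ext
    rw [Units.val_mul, Units.val_mul]
    show toMat (Xcode u) * toMat c0 = toMat c0 * toMat (Xcode u)
    rw [← toMat_mul, ← toMat_mul, hcomm]
  have hXE0 : (X : Matrix (Fin 6) (Fin 6) F4) *ᵥ E 0 = (y : Matrix (Fin 6) (Fin 6) F4) *ᵥ E 0 := by
    show toMat (Xcode u) *ᵥ E 0 = _
    rw [← toVec_E0, ← toVec_mulVec, hcol, hu', toVec_E0]
  have hXrat := rat_of_bits (Xcode u) o (by decide) hbits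
  have hXrat' : (X : Matrix (Fin 6) (Fin 6) F4) * BM = BM * toMat (inB o (Xcode u)) := by
    have : (o : F4)⁻¹ = 1 := by decide
    rw [this, one_smul] at hXrat
    exact hXrat
  have hXstab : X ∈ stab6 := by
    refine mem_stab6_of_rat X 1 one_ne_zero _ (toMat_bits _ hbits) ?_
    rw [one_smul]; exact hXrat'
  have hXdet : Matrix.det (X : Matrix (Fin 6) (Fin 6) F4) = 1 := det_eq_one_of_rat X _ (toMat_bits _ hbits) hXrat'
  -- the quotient
  set y' : GL6 := X⁻¹ * y with hy'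
  have hy'GU : y' ∈ Cfsg.GU 6 F4 2 := (Cfsg.GU 6 F4 2).mul_mem ((Cfsg.GU 6 F4 2).inv_mem hXGU) hy.1
  have hU' : ∀ a b, Cfsg.hermForm 6 F4 2 ((y' : Matrix (Fin 6) (Fin 6) F4) *ᵥ a) ((y' : Matrix (Fin 6) (Fin 6) F4) *ᵥ b) =
      Cfsg.hermForm 6 F4 2 a b := hy'GU
  have hy'c : y' * Cg = Cg * y' := by
    have h1 : Commute X⁻¹ Cg := (show Commute X Cg from hXcomm).inv_left
    exact (h1.mul_left (show Commute y Cg from hc)).eq
  have hcm' : (y' : Matrix (Fin 6) (Fin 6) F4) * C0 = C0 * (y' : Matrix (Fin 6) (Fin 6) F4) := by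
    have := congrArg Units.val hy'c
    rw [Units.val_mul, Units.val_mul, Cg_val] at this
    exact this
  have hy'E0 : (y' : Matrix (Fin 6) (Fin 6) F4) *ᵥ E 0 = E 0 := by
    rw [hy', Units.val_mul, ← Matrix.mulVec_mulVec, ← hXE0, Matrix.mulVec_mulVec, ← Units.val_mul, inv_mul_cancel,
      Units.val_one, Matrix.one_mulVec]
  have hy'E1 : (y' : Matrix (Fin 6) (Fin 6) F4) *ᵥ E 1 = E 1 := by
    rw [← e1, Matrix.mulVec_mulVec, hcm', ← Matrix.mulVec_mulVec, hy'E0]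
  have hy'E2 : (y' : Matrix (Fin 6) (Fin 6) F4) *ᵥ E 2 = E 2 := by
    rw [← e2, Matrix.mulVec_mulVec, hcm', ← Matrix.mulVec_mulVec, hy'E1]
  set wv := ofVec ((y' : Matrix (Fin 6) (Fin 6) F4) *ᵥ E 3) with hwv
  have hw' : toVec wv = (y' : Matrix (Fin 6) (Fin 6) F4) *ᵥ E 3 := toVec_ofVec _
  have hb := V6.all_spec herm_basis wv
  simp only [Bool.and_eq_true, decide_eq_true_eq] at hb
  obtain ⟨⟨hb0, hb1⟩, hb2⟩ := hb
  have hw0 : wv.x0 = z := by
    rw [← hb0, ← herm_toVec, hw', toVec_E0]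
    rw [← hy'E0]
    rw [hU', ← toVec_E0, ← toVec_E3, herm_toVec, hE30]
  have hw1 : wv.x1 = z := by
    rw [← hb1, ← herm_toVec, hw', toVec_E1]
    rw [← hy'E1]
    rw [hU', ← toVec_E1, ← toVec_E3, herm_toVec, hE31]
  have hw2 : wv.x2 = z := by
    rw [← hb2, ← herm_toVec, hw', toVec_E2]
    rw [← hy'E2]
    rw [hU', ← toVec_E2, ← toVec_E3, herm_toVec, hE32]
  have hcondw : cond wv = true := by
    unfold cond
    rw [Bool.and_eq_true, decide_eq_true_eq, decide_eq_true_eq]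
    constructor
    · rw [← herm_toVec, hw', hU', ← toVec_E3, herm_toVec, hE33]
    · rw [← herm_toVec, toVec_mulVec, hw']
      show Cfsg.hermForm 6 F4 2 (C0 *ᵥ ((y' : Matrix (Fin 6) (Fin 6) F4) *ᵥ E 3)) _ = _
      rw [Matrix.mulVec_mulVec, ← hcm', ← Matrix.mulVec_mulVec, e4, hU', ← toVec_E3, ← toVec_E4, herm_toVec, hE43]
  have hD := V6.all_spec D_facts wv
  rw [hw0, hw1, hw2, hcondw] at hD
  simp only [decide_true, Bool.and_self, Bool.not_true, Bool.false_or] at hD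
  rw [List.any_eq_true] at hD
  obtain ⟨j, hj, hjw⟩ := hD
  rw [List.mem_range] at hj
  rw [decide_eq_true_eq] at hjw
  -- `y' = D1g ^ j`
  have hy'D : y' = D1g ^ j := by
    apply Units.ext
    apply eq_of_two_cols _ _ hcm'
    · have := congrArg Units.val (D1g_pow_comm j)
      rw [Units.val_mul, Units.val_mul, Cg_val] at this
      exact this
    · rw [hy'E0, D1g_pow_E0]
    · unfold D1g
      rw [glOf_pow, ← toVec_E3, ← toVec_mulVec, hjw, hw', toVec_E3]
  have hyX : y = X * D1g ^ j := by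
    rw [← hy'D, hy', ← mul_assoc, mul_inv_cancel, one_mul]
  -- determinants
  have hdet : (F4.w : F4) ^ j = 1 := by
    have h1 := (mem_SL_iff y).mp hy.2
    rw [hyX, Units.val_mul, Matrix.det_mul, hXdet, one_mul, Units.val_pow_eq_pow_val, Matrix.det_pow] at h1
    have h2 : Matrix.det (D1g : Matrix (Fin 6) (Fin 6) F4) = F4.w := det_D1
    rw [h2] at h1
    exact h1
  have hjc := w_pow_cases ⟨j, hj⟩ hdet
  rw [hyX]
  apply stab6.mul_mem hXstab
  have hD3 : D1g ^ 3 ∈ stab6 := by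
    have hr := rat_of_bits (M6.pow D1c 3) w (by decide) D3_bits.1
    refine mem_stab6_of_rat _ (w : F4)⁻¹ (by decide) _ (toMat_bits _ D3_bits.1) ?_
    unfold D1g
    rw [glOf_pow]
    exact hr
  have hD6 : D1g ^ 6 ∈ stab6 := by
    have hr := rat_of_bits (M6.pow D1c 6) v (by decide) D3_bits.2
    refine mem_stab6_of_rat _ (v : F4)⁻¹ (by decide) _ (toMat_bits _ D3_bits.2) ?_
    unfold D1g
    rw [glOf_pow]
    exact hr
  rcases hjc with h | h | h
  · have : j = 0 := congrArg Fin.val h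
    rw [this, pow_zero]; exact stab6.one_mem
  · have : j = 3 := congrArg Fin.val h
    rw [this]; exact hD3
  · have : j = 6 := congrArg Fin.val h
    rw [this]; exact hD6

end Cfsg.Agent.Lib.Helper4.SU6
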