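import Mathlib
import Cfsg.Prelude
import Cfsg.Agent.Lib.Helper4.SU6d

set_option autoImplicit false
set_option linter.unusedVariables false
set_option linter.style.longLine false
set_option linter.unusedSimpArgs false
set_option linter.unusedSectionVars false

/-! The overgroup property of the normaliser of the explicit element of order 9 in `SU₆(2)` (model field). -/

namespace Cfsg.Agent.Lib.Helper4.SU6

open Cfsg.Agent.Lib.Helper4.SU5 (F4 hF4)
open Cfsg.Agent.Lib.Helper4.SU5.F4 Matrix Cfsg Cfsg.Geo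

/-- the property transferred to arbitrary fields with four elements -/
def Good6 (F : Type*) [Field F] [Fintype F] (ω : F) (C : Matrix (Fin 6) (Fin 6) F) : Prop :=
  ∃ (L : Subgroup (Matrix.GeneralLinearGroup (Fin 6) F)) (t u : Matrix.GeneralLinearGroup (Fin 6) F),
    (∀ n ∈ Cfsg.GU 6 F 2 ⊓ Cfsg.Geo.specialLinear (Fin 6) F,
      (∃ i : ℕ, (n : Matrix (Fin 6) (Fin 6) F) * C = (ω ^ i • C) * (n : Matrix (Fin 6) (Fin 6) F)) → n ∈ L) ∧
    t ∈ L ∧ t ∈ Cfsg.GU 6 F 2 ⊓ Cfsg.Geo.specialLinear (Fin 6) F ∧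
    (∀ i : ℕ, (t : Matrix (Fin 6) (Fin 6) F) * C ≠ (ω ^ i • C) * (t : Matrix (Fin 6) (Fin 6) F)) ∧
    u ∈ Cfsg.GU 6 F 2 ⊓ Cfsg.Geo.specialLinear (Fin 6) F ∧ u ∉ L

theorem Phig_val : (Phig : Matrix (Fin 6) (Fin 6) F4) = toMat Phic := rfl

theorem Phig_rat : (Phig : Matrix (Fin 6) (Fin 6) F4) * BM = BM * toMat (inB o Phic) := by
  have h := rat_of_bits Phic o (by decide) Phi_facts.2.2
  have : (o : F4)⁻¹ = 1 := by decide
  rw [this, one_smul] at h
  exact h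

theorem Phig_stab : Phig ∈ stab6 := by
  refine mem_stab6_of_rat Phig 1 one_ne_zero _ (toMat_bits _ Phi_facts.2.2) ?_
  rw [one_smul]; exact Phig_rat

theorem Phig_mem : Phig ∈ G6 :=
  ⟨glOf_mem_GU _ _, (mem_SL_iff _).mpr (det_eq_one_of_rat Phig _ (toMat_bits _ Phi_facts.2.2) Phig_rat)⟩

theorem Phig_conj : (Phig : Matrix (Fin 6) (Fin 6) F4) * C0 = (F4.w • C0) * (Phig : Matrix (Fin 6) (Fin 6) F4) := by
  show toMat Phic * toMat c0 = (F4.w • toMat c0) * toMat Phic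
  rw [← toMat_mul, Phi_facts.2.1, toMat_mul, toMat_smul]

theorem Phig_pow_conj (i : ℕ) :
    ((Phig ^ i : GL6) : Matrix (Fin 6) (Fin 6) F4) * C0 = (F4.w ^ i • C0) * ((Phig ^ i : GL6) : Matrix (Fin 6) (Fin 6) F4) := by
  induction i with
  | zero => rw [pow_zero, pow_zero, one_smul, Units.val_one, Matrix.one_mul, Matrix.mul_one]
  | succ n ih =>
    rw [pow_succ, Units.val_mul, Matrix.mul_assoc, Phig_conj, Matrix.smul_mul, Matrix.mul_smul, ← Matrix.mul_assoc, ih,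
      Matrix.smul_mul, Matrix.smul_mul, smul_smul, Matrix.mul_assoc, pow_succ, mul_comm, Matrix.smul_mul]

/-- the normaliser of `⟨Cg⟩` (modulo scalars) in `G6` stabilises `S0` -/
theorem norm_mem_stab6 (n : GL6) (hn : n ∈ G6) (i : ℕ)
    (h : (n : Matrix (Fin 6) (Fin 6) F4) * C0 = (F4.w ^ i • C0) * (n : Matrix (Fin 6) (Fin 6) F4)) : n ∈ stab6 := by
  set P := Phig ^ i with hP
  have hPc := Phig_pow_conj i
  rw [← hP] at hPc
  -- `P⁻¹ (w^i C0) = C0 P⁻¹`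
  have hPinv : ((P⁻¹ : GL6) : Matrix (Fin 6) (Fin 6) F4) * (F4.w ^ i • C0) = C0 * ((P⁻¹ : GL6) : Matrix (Fin 6) (Fin 6) F4) := by
    have h1 : ((P⁻¹ : GL6) : Matrix (Fin 6) (Fin 6) F4) * ((P : Matrix (Fin 6) (Fin 6) F4) * C0) * ((P⁻¹ : GL6) : Matrix (Fin 6) (Fin 6) F4)
        = ((P⁻¹ : GL6) : Matrix (Fin 6) (Fin 6) F4) * ((F4.w ^ i • C0) * (P : Matrix (Fin 6) (Fin 6) F4)) * ((P⁻¹ : GL6) : Matrix (Fin 6) (Fin 6) F4) := by
      rw [hPc]
    rw [← Matrix.mul_assoc, ← Units.val_mul, inv_mul_cancel, Units.val_one, Matrix.one_mul] at h1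
    rw [h1, Matrix.mul_assoc, Matrix.mul_assoc, ← Units.val_mul, mul_inv_cancel, Units.val_one, Matrix.mul_one]
  set y : GL6 := P⁻¹ * n with hy
  have hyc : (y : Matrix (Fin 6) (Fin 6) F4) * C0 = C0 * (y : Matrix (Fin 6) (Fin 6) F4) := by
    rw [hy, Units.val_mul, Matrix.mul_assoc, h, ← Matrix.mul_assoc, hPinv, Matrix.mul_assoc]
  have hyc' : y * Cg = Cg * y := by
    apply Units.ext
    rw [Units.val_mul, Units.val_mul, Cg_val]
    exact hyc
  have hPG : P ∈ G6 := G6.pow_mem Phig_mem i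
  have hyG : y ∈ G6 := G6.mul_mem (G6.inv_mem hPG) hn
  have hys := cent_mem_stab6 y hyG hyc'
  have : n = P * y := by rw [hy, ← mul_assoc, mul_inv_cancel, one_mul]
  rw [this]
  exact stab6.mul_mem (stab6.pow_mem Phig_stab i) hys

theorem T1g_rat : (T1g : Matrix (Fin 6) (Fin 6) F4) * BM = BM * toMat (inB o T1c) := by
  have h := rat_of_bits T1c o (by decide) T1_facts.2.2.1
  have : (o : F4)⁻¹ = 1 := by decide
  rw [this, one_smul] at h
  exact h

theorem T1g_stab : T1g ∈ stab6 := by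
  refine mem_stab6_of_rat T1g 1 one_ne_zero _ (toMat_bits _ T1_facts.2.2.1) ?_
  rw [one_smul]; exact T1g_rat

theorem T1g_mem : T1g ∈ G6 :=
  ⟨glOf_mem_GU _ _, (mem_SL_iff _).mpr (det_eq_one_of_rat T1g _ (toMat_bits _ T1_facts.2.2.1) T1g_rat)⟩

theorem w_pow (i : ℕ) : (F4.w : F4) ^ i = 1 ∨ (F4.w : F4) ^ i = F4.w ∨ (F4.w : F4) ^ i = F4.v := by
  have h3 : (F4.w : F4) ^ 3 = 1 := by decide
  have : (F4.w : F4) ^ i = F4.w ^ (i % 3) := by
    conv_lhs => rw [← Nat.div_add_mod i 3, pow_add, pow_mul, h3, one_pow, one_mul]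
  rw [this]
  have hlt : i % 3 < 3 := Nat.mod_lt _ (by norm_num)
  interval_cases (i % 3)
  · left; decide
  · right; left; decide
  · right; right; decide

theorem T1g_not_norm (i : ℕ) :
    (T1g : Matrix (Fin 6) (Fin 6) F4) * C0 ≠ (F4.w ^ i • C0) * (T1g : Matrix (Fin 6) (Fin 6) F4) := by
  obtain ⟨-, -, -, h1, h2, h3⟩ := T1_facts
  intro h
  have hT : (T1g : Matrix (Fin 6) (Fin 6) F4) = toMat T1c := rfl
  rw [hT] at h
  unfold C0 at h
  rcases w_pow i with hw | hw | hw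
  · rw [hw, one_smul, ← toMat_mul, ← toMat_mul] at h
    exact h1 (toMat_injective h)
  · rw [hw, ← toMat_smul, ← toMat_mul, ← toMat_mul] at h
    exact h2 (toMat_injective h)
  · rw [hw, ← toMat_smul, ← toMat_mul, ← toMat_mul] at h
    exact h3 (toMat_injective h)

theorem T2g_mem : T2g ∈ G6 := by
  refine ⟨glOf_mem_GU _ _, det_eq_one_of_pow T2g 2 (by norm_num) ?_⟩
  apply Units.ext
  unfold T2g
  rw [glOf_pow]
  show toMat (M6.mul (M6.mul M6.one T2c) T2c) = 1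
  have : M6.mul M6.one T2c = T2c := by decide +kernel
  rw [this, T2_facts.2.1, toMat_one]

theorem T2g_not_stab : T2g ∉ stab6 := by
  intro h
  -- the vector `B e_1`
  set ε : Fin 6 → F4 := toVec ⟨z, o, z, z, z, z⟩ with hε
  have hx : BM *ᵥ ε ∈ S0 := by
    refine ⟨1, ε, one_ne_zero, ?_, ?_, by rw [one_smul]⟩
    · intro h0
      have := congrFun h0 1
      exact absurd this (by decide)
    · intro i
      rw [mem_bitRing]
      fin_cases i <;> decide
  have h2 := (h _).mp hx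
  obtain ⟨ν, ε', hν, hε', hbits, heq⟩ := h2
  have h3 : BinvM *ᵥ ((T2g : Matrix (Fin 6) (Fin 6) F4) *ᵥ (BM *ᵥ ε)) = ν • ε' := by
    rw [heq, Matrix.mulVec_smul, Matrix.mulVec_mulVec, BinvM_BM, Matrix.one_mulVec]
  have h4 : BinvM *ᵥ ((T2g : Matrix (Fin 6) (Fin 6) F4) *ᵥ (BM *ᵥ ε)) = toVec ⟨z, z, w, z, z, o⟩ := by
    show toMat Binvc *ᵥ (toMat T2c *ᵥ (toMat Bc *ᵥ toVec ⟨z, o, z, z, z, z⟩)) = _
    rw [← toVec_mulVec, ← toVec_mulVec, ← toVec_mulVec, T2_facts.2.2]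
  rw [h4] at h3
  have e5 := congrFun h3 5
  have e2 := congrFun h3 2
  have b5 := (mem_bitRing _).mp (hbits 5)
  have b2 := (mem_bitRing _).mp (hbits 2)
  simp only [Pi.smul_apply, smul_eq_mul] at e5 e2
  have e5' : (1 : F4) = ν * ε' 5 := e5
  have e2' : (F4.w : F4) = ν * ε' 2 := e2
  rcases b5 with b5 | b5
  · rw [b5, mul_zero] at e5'
    exact one_ne_zero e5'
  · rw [b5, mul_one] at e5'
    rw [← e5', one_mul] at e2'
    rcases b2 with b2 | b2
    · rw [b2] at e2'; exact absurd e2' (by decide)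
    · rw [b2] at e2'; exact absurd e2' (by decide)

theorem good6_F4 : Good6 F4 F4.w C0 := by
  refine ⟨stab6, T1g, T2g, ?_, T1g_stab, T1g_mem, T1g_not_norm, T2g_mem, T2g_not_stab⟩
  rintro n hn ⟨i, hi⟩
  exact norm_mem_stab6 n hn i hi

end Cfsg.Agent.Lib.Helper4.SU6
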