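import Mathlib
import Cfsg.Prelude
import Cfsg.Agent.Lib.Helper4.SU5j
import Cfsg.Agent.Lib.Helper4.SU6e

set_option autoImplicit false
set_option linter.unusedVariables false
set_option linter.style.longLine false
set_option linter.unusedSimpArgs false
set_option linter.unusedSectionVars false

/-! Transfer of the overgroup property to `SU₆(2)` over an arbitrary field with four elements. -/

namespace Cfsg.Agent.Lib.Helper4.SU6

open Matrix Cfsg Cfsg.Geo
open Cfsg.Agent.Lib.Helper4.SU5 (F4 hF4 phi omega)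
open Cfsg.Agent.Lib.Helper8 Cfsg.Agent.Lib.Helper5
open Cfsg.Agent.Lib.Helper5.HermBridge (sigma_apply)

variable {F : Type*} [Field F] [Fintype F] (hF : Fintype.card F = 2 ^ 2)

/-- two companion blocks of `X³ - ω` -/
def cstd {F : Type*} [Field F] (ω : F) : Matrix (Fin 6) (Fin 6) F := fun i j =>
  match i, j with
  | 0, 2 => ω | 1, 0 => 1 | 2, 1 => 1 | 3, 5 => ω | 4, 3 => 1 | 5, 4 => 1 | _, _ => 0

/-- the induced isomorphism of general linear groups -/
noncomputable def glEquiv6 : Matrix.GeneralLinearGroup (Fin 6) F ≃* GL6 :=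
  Units.mapEquiv (RingEquiv.mapMatrix (phi hF)).toMulEquiv

theorem glEquiv6_val (g : Matrix.GeneralLinearGroup (Fin 6) F) :
    ((glEquiv6 hF g : GL6) : Matrix (Fin 6) (Fin 6) F4) = (g : Matrix (Fin 6) (Fin 6) F).map (phi hF) := rfl

theorem star_map6 (X : Matrix (Fin 6) (Fin 6) F) :
    Asch.star (HermBridge.sigma hF4) (X.map (phi hF)) = (Asch.star (HermBridge.sigma hF) X).map (phi hF) := by
  funext i j
  rw [Asch.star_apply, sigma_apply, Matrix.map_apply, Matrix.map_apply, Asch.star_apply, sigma_apply, map_pow]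

theorem glEquiv6_mem_GU (g : Matrix.GeneralLinearGroup (Fin 6) F) :
    glEquiv6 hF g ∈ Cfsg.GU 6 F4 2 ↔ g ∈ Cfsg.GU 6 F 2 := by
  rw [Cfsg.Agent.Lib.Helper9.AschU.mem_GU_iff hF4, Cfsg.Agent.Lib.Helper9.AschU.mem_GU_iff hF, glEquiv6_val, star_map6]
  have h1 : (Asch.star (HermBridge.sigma hF) (g : Matrix (Fin 6) (Fin 6) F)).map (phi hF) * (g : Matrix (Fin 6) (Fin 6) F).map (phi hF)
      = (Asch.star (HermBridge.sigma hF) (g : Matrix (Fin 6) (Fin 6) F) * (g : Matrix (Fin 6) (Fin 6) F)).map (phi hF) := by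
    rw [Matrix.map_mul]
  rw [h1]
  constructor
  · intro h
    have h2 : (1 : Matrix (Fin 6) (Fin 6) F4) = (1 : Matrix (Fin 6) (Fin 6) F).map (phi hF) := by
      rw [Matrix.map_one _ (map_zero _) (map_one _)]
    rw [h2] at h
    exact Matrix.map_injective (phi hF).injective h
  · intro h
    rw [h, Matrix.map_one _ (map_zero _) (map_one _)]

theorem mem_SL_iff' (g : Matrix.GeneralLinearGroup (Fin 6) F) :
    g ∈ Cfsg.Geo.specialLinear (Fin 6) F ↔ Matrix.det (g : Matrix (Fin 6) (Fin 6) F) = 1 := by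
  show Matrix.GeneralLinearGroup.det g = 1 ↔ _
  rw [Units.ext_iff, Matrix.GeneralLinearGroup.val_det_apply]
  rfl

theorem glEquiv6_mem_SL (g : Matrix.GeneralLinearGroup (Fin 6) F) :
    glEquiv6 hF g ∈ Cfsg.Geo.specialLinear (Fin 6) F4 ↔ g ∈ Cfsg.Geo.specialLinear (Fin 6) F := by
  rw [mem_SL_iff, mem_SL_iff', glEquiv6_val]
  have h1 : Matrix.det ((g : Matrix (Fin 6) (Fin 6) F).map (phi hF)) = phi hF (Matrix.det (g : Matrix (Fin 6) (Fin 6) F)) := by
    have := RingHom.map_det (phi hF).toRingHom (g : Matrix (Fin 6) (Fin 6) F)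
    exact this.symm
  rw [h1]
  constructor
  · intro h
    apply (phi hF).injective
    rw [h, map_one]
  · intro h
    rw [h, map_one]

theorem glEquiv6_mem (g : Matrix.GeneralLinearGroup (Fin 6) F) :
    glEquiv6 hF g ∈ G6 ↔ g ∈ Cfsg.GU 6 F 2 ⊓ Cfsg.Geo.specialLinear (Fin 6) F := by
  unfold G6
  rw [Subgroup.mem_inf, Subgroup.mem_inf, glEquiv6_mem_GU, glEquiv6_mem_SL]

theorem phi_omega : phi hF (omega hF) = F4.w := by
  unfold omega
  rw [RingEquiv.apply_symm_apply]

theorem cstd_map : (cstd (omega hF)).map (phi hF) = C0 := by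
  ext i j
  rw [Matrix.map_apply]
  fin_cases i <;> fin_cases j <;> first | exact map_zero _ | exact map_one _ | exact phi_omega hF

theorem map_conj_iff (n : Matrix.GeneralLinearGroup (Fin 6) F) (i : ℕ) :
    (n : Matrix (Fin 6) (Fin 6) F) * cstd (omega hF) = ((omega hF) ^ i • cstd (omega hF)) * (n : Matrix (Fin 6) (Fin 6) F) ↔
    ((glEquiv6 hF n : GL6) : Matrix (Fin 6) (Fin 6) F4) * C0 = (F4.w ^ i • C0) * ((glEquiv6 hF n : GL6) : Matrix (Fin 6) (Fin 6) F4) := by
  rw [glEquiv6_val, ← cstd_map hF, ← phi_omega hF, ← map_pow, ← Matrix.map_smul' _ _ _ (map_mul (phi hF)), ← Matrix.map_mul,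
    ← Matrix.map_mul]
  constructor
  · intro h
    rw [h]
  · intro h
    exact Matrix.map_injective (phi hF).injective h

include hF in
/-- the overgroup property over any field with four elements -/
theorem good6 : Good6 F (omega hF) (cstd (omega hF)) := by
  obtain ⟨L, t, u, h1, ht, htG, htn, huG, hu⟩ := good6_F4
  refine ⟨L.comap (glEquiv6 hF).toMonoidHom, (glEquiv6 hF).symm t, (glEquiv6 hF).symm u, ?_, ?_, ?_, ?_, ?_, ?_⟩
  · rintro n hn ⟨i, hi⟩
    show glEquiv6 hF n ∈ L
    exact h1 _ ((glEquiv6_mem hF n).mpr hn) ⟨i, (map_conj_iff hF n i).mp hi⟩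
  · show glEquiv6 hF ((glEquiv6 hF).symm t) ∈ L
    rw [MulEquiv.apply_symm_apply]; exact ht
  · rw [← glEquiv6_mem hF, MulEquiv.apply_symm_apply]; exact htG
  · intro i h
    have := (map_conj_iff hF _ i).mp h
    rw [MulEquiv.apply_symm_apply] at this
    exact htn i this
  · rw [← glEquiv6_mem hF, MulEquiv.apply_symm_apply]; exact huG
  · intro h
    apply hu
    have : glEquiv6 hF ((glEquiv6 hF).symm u) ∈ L := h
    rw [MulEquiv.apply_symm_apply] at this
    exact this

end Cfsg.Agent.Lib.Helper4.SU6
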