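import Mathlib

set_option autoImplicit false
set_option linter.unusedVariables false
set_option linter.style.longLine false
set_option linter.unusedSimpArgs false
set_option linter.unusedSectionVars false

/-! Elements of order 9 in the field with 64 elements and involutive automorphisms. -/

namespace Cfsg.Agent.Lib.Helper4.SU6

theorem cube_root_cases {L : Type*} [Field L] (h2 : (2 : L) = 0) (ω : L) (hω : ω ^ 2 + ω + 1 = 0) (x : L)
    (hx : x ^ 3 = 1) : x = 1 ∨ x = ω ∨ x = ω + 1 := by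
  have h : (x - 1) * ((x - ω) * (x - (ω + 1))) = 0 := by
    linear_combination hx + (x - 1) * hω - (x - 1) * (x + ω * x + 1) * h2
  rcases mul_eq_zero.mp h with h | h
  · left; exact sub_eq_zero.mp h
  · rcases mul_eq_zero.mp h with h | h
    · right; left; exact sub_eq_zero.mp h
    · right; right; exact sub_eq_zero.mp h

theorem omega_sq {L : Type*} [Field L] (h2 : (2 : L) = 0) (ω : L) (hω : ω ^ 2 + ω + 1 = 0) : ω ^ 2 = ω + 1 := by
  linear_combination hω - (ω + 1) * h2

theorem omega_cube {L : Type*} [Field L] (h2 : (2 : L) = 0) (ω : L) (hω : ω ^ 2 + ω + 1 = 0) : ω ^ 3 = 1 := by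
  linear_combination (ω - 1) * hω

theorem cube_eq_cases {L : Type*} [Field L] (h2 : (2 : L) = 0) (ω : L) (hω : ω ^ 2 + ω + 1 = 0) (c z : L) (hc : c ≠ 0)
    (h : z ^ 3 = c ^ 3) : z = c ∨ z = ω * c ∨ z = ω ^ 2 * c := by
  have h1 : (z * c⁻¹) ^ 3 = 1 := by
    rw [mul_pow, h, ← mul_pow, mul_inv_cancel₀ hc, one_pow]
  have hz : z = (z * c⁻¹) * c := by
    rw [mul_assoc, inv_mul_cancel₀ hc, mul_one]
  rcases cube_root_cases h2 ω hω _ h1 with h | h | h
  · left; rw [hz, h, one_mul]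
  · right; left; rw [hz, h]
  · right; right; rw [hz, h, omega_sq h2 ω hω]

theorem exists_order9 {L : Type*} [Field L] [Finite L] (hc : Nat.card L = 64) : ∃ g : L, orderOf g = 9 := by
  have h1 : Nat.card Lˣ = 63 := by rw [Nat.card_units, hc]
  obtain ⟨u, hu⟩ := IsCyclic.exists_ofOrder_eq_natCard (α := Lˣ)
  rw [h1] at hu
  refine ⟨((u ^ 7 : Lˣ) : L), ?_⟩
  rw [orderOf_units, orderOf_pow' u (by norm_num : 7 ≠ 0), hu]
  norm_num

theorem pow_of_pow9 {L : Type*} [Field L] (g y : L) (hg : orderOf g = 9) (hy : y ^ 9 = 1) :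
    ∃ k : ℕ, k < 9 ∧ y = g ^ k := by
  have h : IsPrimitiveRoot g 9 := by
    have := IsPrimitiveRoot.orderOf g
    rwa [hg] at this
  obtain ⟨i, hi, hgi⟩ := h.eq_pow_of_pow_eq_one hy
  exact ⟨i, hi, hgi.symm⟩

/-- an element of order 9 whose cube is a prescribed primitive cube root of unity -/
theorem exists_c {L : Type*} [Field L] [Finite L] (hc : Nat.card L = 64) (h2 : (2 : L) = 0) (ω : L)
    (hω : ω ^ 2 + ω + 1 = 0) : ∃ c : L, orderOf c = 9 ∧ c ^ 3 = ω := by
  obtain ⟨g, hg⟩ := exists_order9 hc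
  have hg9 : g ^ 9 = 1 := by rw [← hg]; exact pow_orderOf_eq_one g
  have h3 : (g ^ 3) ^ 3 = 1 := by rw [← pow_mul]; exact hg9
  have hne : g ^ 3 ≠ 1 := by
    intro h
    have := orderOf_dvd_of_pow_eq_one h
    rw [hg] at this
    omega
  rcases cube_root_cases h2 ω hω _ h3 with h | h | h
  · exact absurd h hne
  · exact ⟨g, hg, h⟩
  · refine ⟨g ^ 2, ?_, ?_⟩
    · rw [Nat.Coprime.orderOf_pow (by rw [hg]; norm_num), hg]
    · rw [← pow_mul, show 2 * 3 = 3 * 2 by norm_num, pow_mul, h]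
      linear_combination hω

/-- an involutive ring automorphism moving a primitive cube root of unity `ω` inverts the elements of order 9
with cube `ω` (characteristic two) -/
theorem tau_inv9 {L : Type*} [Field L] (h2 : (2 : L) = 0) (τ : L → L)
    (hadd : ∀ x y, τ (x + y) = τ x + τ y) (hmul : ∀ x y, τ (x * y) = τ x * τ y) (hone : τ 1 = 1)
    (hinv : ∀ x, τ (τ x) = x) (ω : L) (hω : ω ^ 2 + ω + 1 = 0) (hτω : τ ω ≠ ω) (c : L) (hc : orderOf c = 9)
    (hc3 : c ^ 3 = ω) : τ c * c = 1 := by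
  have h9 : c ^ 9 = 1 := by rw [← hc]; exact pow_orderOf_eq_one c
  have hpow : ∀ (x : L) (n : ℕ), τ (x ^ n) = τ x ^ n := by
    intro x n
    induction n with
    | zero => rw [pow_zero, pow_zero, hone]
    | succ n ih => rw [pow_succ, pow_succ, hmul, ih]
  have hzero : τ 0 = 0 := by
    have := hadd 0 0
    rw [add_zero] at this
    exact left_eq_add.mp this
  have hτ9 : τ c ^ 9 = 1 := by rw [← hpow, h9, hone]
  obtain ⟨k, hk, hck⟩ := pow_of_pow9 c (τ c) hc hτ9
  -- `τ ω = ω + 1`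
  have hτω' : τ ω = ω + 1 := by
    have h1 : τ ω ^ 2 + τ ω + 1 = 0 := by
      rw [← hpow, ← hadd, ← hone, ← hadd, hω, hzero]
    have h3 : τ ω ^ 3 = 1 := omega_cube h2 _ h1
    rcases cube_root_cases h2 ω hω _ h3 with h | h | h
    · exfalso
      rw [h] at h1
      have : (1 : L) = 0 := by linear_combination h1 - h2
      exact one_ne_zero this
    · exact absurd h hτω
    · exact h
  have hfin : IsOfFinOrder c := orderOf_pos_iff.mp (by rw [hc]; norm_num)
  have hA : c ^ (3 * k) = c ^ 6 := by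
    rw [mul_comm, pow_mul, ← hck, ← hpow, hc3, hτω', show 6 = 3 * 2 by norm_num, pow_mul, hc3]
    linear_combination (-1 : L) * hω + (ω + 1) * h2
  have hB : c ^ (k * k) = c ^ 1 := by
    rw [pow_one, pow_mul, ← hck, ← hpow, ← hck, hinv]
  have hmodA := hfin.pow_eq_pow_iff_modEq.mp hA
  have hmodB := hfin.pow_eq_pow_iff_modEq.mp hB
  rw [hc] at hmodA hmodB
  have hA' : 3 * k % 9 = 6 := hmodA
  have hB' : k * k % 9 = 1 := hmodB
  have hk8 : k = 8 := by
    interval_cases k <;> omega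
  rw [hck, hk8, ← pow_succ, h9]

end Cfsg.Agent.Lib.Helper4.SU6
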