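import Mathlib
import Cfsg.Prelude
import Cfsg.Agent.Lib.Helper4.SU5j
import Cfsg.Agent.Lib.Helper4.SU6g

set_option autoImplicit false
set_option linter.unusedVariables false
set_option linter.style.longLine false
set_option linter.unusedSimpArgs false
set_option linter.unusedSectionVars false
set_option linter.style.haveILetI false

/-! A degree 3 field subalgebra of the 6 x 6 matrices over the field with four elements, closed under adjoints:
it contains a unitary element with cube `ω`. -/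

namespace Cfsg.Agent.Lib.Helper4.SU6

open Module Matrix Cfsg Cfsg.Geo
open Cfsg.Agent.Lib.Helper5 Cfsg.Agent.Lib.Helper8
open Cfsg.Agent.Lib.Helper5.Herm
open Cfsg.Agent.Lib.Helper5.HermBridge (sigma_apply sigma_sigma)
open Cfsg.Agent.Lib.Helper9.AschU (herm_adj herm_eq_zero_right mem_GU_iff)
open Cfsg.Agent.Lib.Helper4.SU5 (omega omega_eq omega_sq_ne two_eq_zero)

variable {F : Type*} [Field F] [Fintype F] (hF : Fintype.card F = 2 ^ 2)

theorem star_mem6 (K : Subalgebra F (Matrix (Fin 6) (Fin 6) F))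
    (hadj : IsAdjointClosedFor (hermForm 6 F 2) K) (k : Matrix (Fin 6) (Fin 6) F) (hk : k ∈ K) :
    Asch.star (HermBridge.sigma hF) k ∈ K := by
  obtain ⟨k', hk', h⟩ := hadj k hk
  have : k' = Asch.star (HermBridge.sigma hF) k := by
    apply Matrix.toLin'.injective
    apply LinearMap.ext
    intro v
    rw [Matrix.toLin'_apply, Matrix.toLin'_apply, ← sub_eq_zero]
    apply herm_eq_zero_right hF
    intro u
    rw [sub_eq_add_neg, hermForm_add_right hF, HermEich.hermForm_neg_right hF, ← sub_eq_add_neg, sub_eq_zero,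
      ← h, herm_adj hF]
  rw [← this]; exact hk'

theorem isField_K6 (K : Subalgebra F (Matrix (Fin 6) (Fin 6) F)) (hK : IsFieldSubalgebra 3 K) : IsField ↥K where
  exists_pair_ne := ⟨0, 1, by
    intro h
    have h1 := congrArg Subtype.val h
    have h2 : (0 : Matrix (Fin 6) (Fin 6) F) = 1 := h1
    exact zero_ne_one h2⟩
  mul_comm := fun x y => Subtype.ext (hK.comm x.1 x.2 y.1 y.2)
  mul_inv_cancel := fun {x} hx => by
    obtain ⟨y, hy, hxy⟩ := hK.inv x.1 x.2 (fun h => hx (Subtype.ext h))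
    exact ⟨⟨y, hy⟩, Subtype.ext hxy⟩

include hF in
theorem card_K6 (K : Subalgebra F (Matrix (Fin 6) (Fin 6) F)) (hK : IsFieldSubalgebra 3 K) : Nat.card ↥K = 64 := by
  rw [Module.natCard_eq_pow_finrank (K := F) (V := ↥K), hK.finrank_eq, Nat.card_eq_fintype_card, hF]
  norm_num

/-- the facts about the field `K` used below, in matrix terms -/
theorem K_facts6 (K : Subalgebra F (Matrix (Fin 6) (Fin 6) F)) (hK : IsFieldSubalgebra 3 K)
    (hadj : IsAdjointClosedFor (hermForm 6 F 2) K) :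
    ∃ cM : Matrix (Fin 6) (Fin 6) F, cM ∈ K ∧ cM ^ 3 = omega hF • (1 : Matrix (Fin 6) (Fin 6) F) ∧
      Asch.star (HermBridge.sigma hF) cM * cM = 1 ∧
      ∀ y ∈ K, y ^ 3 = omega hF • (1 : Matrix (Fin 6) (Fin 6) F) → ∃ i : ℕ, y = (omega hF) ^ i • cM := by
  classical
  letI : Field ↥K := (isField_K6 K hK).toField
  have hfin : Finite ↥K := inferInstance
  have hιpow : ∀ (x : ↥K) (n : ℕ), ((x ^ n : ↥K) : Matrix (Fin 6) (Fin 6) F) = (x : Matrix (Fin 6) (Fin 6) F) ^ n := by
    intro x n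
    induction n with
    | zero => rw [pow_zero, pow_zero]; rfl
    | succ n ih => rw [pow_succ, pow_succ, ← ih]; rfl
  let τ : ↥K → ↥K := fun x => ⟨Asch.star (HermBridge.sigma hF) x.1, star_mem6 hF K hadj x.1 x.2⟩
  have h2 : (2 : ↥K) = 0 := by
    rw [← one_add_one_eq_two]
    apply Subtype.ext
    show (1 : Matrix (Fin 6) (Fin 6) F) + 1 = 0
    rw [one_add_one_eq_two]
    have : (2 : Matrix (Fin 6) (Fin 6) F) = (2 : F) • 1 := by
      rw [two_smul, one_add_one_eq_two]
    rw [this, two_eq_zero hF, zero_smul]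
  have hadd : ∀ x y, τ (x + y) = τ x + τ y := by
    intro x y
    apply Subtype.ext
    exact Asch.star_add (HermBridge.sigma hF) x.1 y.1
  have hmul : ∀ x y, τ (x * y) = τ x * τ y := by
    intro x y
    apply Subtype.ext
    show Asch.star (HermBridge.sigma hF) (x.1 * y.1) = Asch.star (HermBridge.sigma hF) x.1 * Asch.star (HermBridge.sigma hF) y.1
    rw [Asch.star_mul]
    exact hK.comm _ (star_mem6 hF K hadj y.1 y.2) _ (star_mem6 hF K hadj x.1 x.2)
  have hone : τ 1 = 1 := by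
    apply Subtype.ext
    exact Asch.star_one (HermBridge.sigma hF)
  have hinv : ∀ x, τ (τ x) = x := by
    intro x
    apply Subtype.ext
    exact Asch.star_star (HermBridge.sigma hF) (sigma_sigma hF) x.1
  let ωK : ↥K := ⟨omega hF • (1 : Matrix (Fin 6) (Fin 6) F), K.smul_mem K.one_mem _⟩
  have hω : ωK ^ 2 + ωK + 1 = 0 := by
    apply Subtype.ext
    show ((ωK ^ 2 : ↥K) : Matrix (Fin 6) (Fin 6) F) + omega hF • (1 : Matrix (Fin 6) (Fin 6) F) + 1 = 0
    rw [hιpow]
    show (omega hF • (1 : Matrix (Fin 6) (Fin 6) F)) ^ 2 + omega hF • (1 : Matrix (Fin 6) (Fin 6) F) + 1 = 0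
    rw [smul_pow, one_pow]
    have : (omega hF) ^ 2 • (1 : Matrix (Fin 6) (Fin 6) F) + omega hF • (1 : Matrix (Fin 6) (Fin 6) F) + 1
        = ((omega hF) ^ 2 + omega hF + 1) • (1 : Matrix (Fin 6) (Fin 6) F) := by
      rw [add_smul, add_smul, one_smul]
    rw [this, omega_eq, zero_smul]
  have hτω : τ ωK ≠ ωK := by
    intro h
    have h1 := congrArg Subtype.val h
    have h2 : Asch.star (HermBridge.sigma hF) (omega hF • (1 : Matrix (Fin 6) (Fin 6) F)) = omega hF • (1 : Matrix (Fin 6) (Fin 6) F) := h1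
    rw [Asch.star_smul, Asch.star_one, sigma_apply] at h2
    have h3 := congrFun (congrFun h2 0) 0
    simp only [Matrix.smul_apply, Matrix.one_apply_eq, smul_eq_mul, mul_one] at h3
    exact omega_sq_ne hF h3
  obtain ⟨c, hc, hc3⟩ := exists_c (L := ↥K) (card_K6 hF K hK) h2 ωK hω
  have hτc := tau_inv9 h2 τ hadd hmul hone hinv ωK hω hτω c hc hc3
  have hc0 : c ≠ 0 := by
    intro h
    rw [h, orderOf_zero] at hc
    omega
  have hωpow : ∀ i : ℕ, ((ωK ^ i : ↥K) : Matrix (Fin 6) (Fin 6) F) = (omega hF) ^ i • (1 : Matrix (Fin 6) (Fin 6) F) := by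
    intro i
    rw [hιpow]
    show (omega hF • (1 : Matrix (Fin 6) (Fin 6) F)) ^ i = _
    rw [smul_pow, one_pow]
  refine ⟨c.1, c.2, ?_, ?_, ?_⟩
  · rw [← hιpow, hc3]
  · have := congrArg Subtype.val hτc
    exact this
  · intro y hy hy3
    have h1 : (⟨y, hy⟩ : ↥K) ^ 3 = c ^ 3 := by
      rw [hc3]
      apply Subtype.ext
      rw [hιpow]
      exact hy3
    have hcases := cube_eq_cases h2 ωK hω c ⟨y, hy⟩ hc0 h1
    have key : ∀ i : ℕ, (⟨y, hy⟩ : ↥K) = ωK ^ i * c → y = (omega hF) ^ i • c.1 := by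
      intro i h
      have h' := congrArg Subtype.val h
      have h'' : y = ((ωK ^ i : ↥K) : Matrix (Fin 6) (Fin 6) F) * c.1 := h'
      rw [h'', hωpow, smul_mul_assoc, one_mul]
    rcases hcases with h | h | h
    · exact ⟨0, key 0 (by rw [pow_zero, one_mul]; exact h)⟩
    · exact ⟨1, key 1 (by rw [pow_one]; exact h)⟩
    · exact ⟨2, key 2 h⟩

end Cfsg.Agent.Lib.Helper4.SU6
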