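import Mathlib
import Cfsg.Prelude
import Cfsg.Agent.Lib.Helper4.SU6f
import Cfsg.Agent.Lib.Helper4.SU6h

set_option autoImplicit false
set_option linter.unusedVariables false
set_option linter.style.longLine false
set_option linter.unusedSimpArgs false
set_option linter.unusedSectionVars false

/-! Normal form of a unitary 6 x 6 matrix over the field with four elements whose cube is the scalar `ω`:
it is conjugate in `GU₆(2)` to two companion blocks of `X³ - ω`. -/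

namespace Cfsg.Agent.Lib.Helper4.SU6

open Module Matrix Cfsg Cfsg.Geo
open Cfsg.Agent.Lib.Helper5 Cfsg.Agent.Lib.Helper8
open Cfsg.Agent.Lib.Helper5.Herm
open Cfsg.Agent.Lib.Helper5.HermBridge (sigma_apply sigma_sigma)
open Cfsg.Agent.Lib.Helper9.AschU (herm_adj herm_adj' herm_eq_zero_right mem_GU_iff)
open Cfsg.Agent.Lib.Helper4.SU5 (F4 hF4 phi omega omega_eq omega_sq_ne two_eq_zero)

variable {F : Type*} [Field F] [Fintype F] (hF : Fintype.card F = 2 ^ 2)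

theorem scal1_F4 : ∀ a t : F4, t ^ 2 + t + 1 = 0 →
    1 + (t * a ^ 2) ^ 2 * a ^ 2 + (t * a ^ 2) * a + (t * a ^ 2) * (t * a ^ 2) ^ 2 = 1 := by decide

theorem scal2_F4 : ∀ a t : F4, t ^ 2 + t + 1 = 0 →
    a + (t * a ^ 2) ^ 2 + (t * a ^ 2) * (t * a ^ 2) + (t * a ^ 2) * ((t * a ^ 2) ^ 2 * a) = 0 := by decide

theorem scal1 (a : F) :
    1 + (omega hF * a ^ 2) ^ 2 * a ^ 2 + (omega hF * a ^ 2) * a + (omega hF * a ^ 2) * (omega hF * a ^ 2) ^ 2 = 1 := by
  apply (phi hF).injective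
  simp only [map_add, map_mul, map_pow, map_one, phi_omega]
  exact scal1_F4 (phi hF a) F4.w (by decide)

theorem scal2 (a : F) :
    a + (omega hF * a ^ 2) ^ 2 + (omega hF * a ^ 2) * (omega hF * a ^ 2)
      + (omega hF * a ^ 2) * ((omega hF * a ^ 2) ^ 2 * a) = 0 := by
  apply (phi hF).injective
  simp only [map_add, map_mul, map_pow, map_one, map_zero, phi_omega]
  exact scal2_F4 (phi hF a) F4.w (by decide)

theorem sq_or_F4 : ∀ a : F4, a ^ 2 = a → a = 0 ∨ a = 1 := by decide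

include hF in
theorem sq_or (a : F) (h : a ^ 2 = a) : a = 0 ∨ a = 1 := by
  have h1 : (phi hF a) ^ 2 = phi hF a := by rw [← map_pow, h]
  rcases sq_or_F4 _ h1 with h2 | h2
  · left; apply (phi hF).injective; rw [h2, map_zero]
  · right; apply (phi hF).injective; rw [h2, map_one]

section nf

variable (c : Matrix (Fin 6) (Fin 6) F)

/-- the value of `f(c²v, v)` -/
theorem gram2 (hU : ∀ x y, hermForm 6 F 2 (c *ᵥ x) (c *ᵥ y) = hermForm 6 F 2 x y)
    (h3 : ∀ x, c *ᵥ (c *ᵥ (c *ᵥ x)) = omega hF • x) (v : Fin 6 → F) :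
    hermForm 6 F 2 (c *ᵥ (c *ᵥ v)) v = omega hF * (hermForm 6 F 2 (c *ᵥ v) v) ^ 2 := by
  rw [← hU (c *ᵥ (c *ᵥ v)) v, h3, hermForm_smul_left, hermForm_conj hF]

/-- rescaling a unit vector inside `⟨v, cv⟩` to make `v ⟂ cv` -/
theorem scaling (hU : ∀ x y, hermForm 6 F 2 (c *ᵥ x) (c *ᵥ y) = hermForm 6 F 2 x y)
    (h3 : ∀ x, c *ᵥ (c *ᵥ (c *ᵥ x)) = omega hF • x) (v : Fin 6 → F) (hv : hermForm 6 F 2 v v = 1) :
    ∃ μ : F, hermForm 6 F 2 (v + μ • (c *ᵥ v)) (v + μ • (c *ᵥ v)) = 1 ∧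
      hermForm 6 F 2 (c *ᵥ (v + μ • (c *ᵥ v))) (v + μ • (c *ᵥ v)) = 0 := by
  set a := hermForm 6 F 2 (c *ᵥ v) v with ha
  have h1 : hermForm 6 F 2 v (c *ᵥ v) = a ^ 2 := by rw [ha, hermForm_conj hF]
  have h2 : hermForm 6 F 2 (c *ᵥ (c *ᵥ v)) v = omega hF * a ^ 2 := gram2 hF c hU h3 v
  have h4 : hermForm 6 F 2 (c *ᵥ v) (c *ᵥ v) = 1 := by rw [hU, hv]
  have h5 : hermForm 6 F 2 (c *ᵥ (c *ᵥ v)) (c *ᵥ v) = a := by rw [hU]
  refine ⟨omega hF * a ^ 2, ?_, ?_⟩
  · rw [hermForm_add_left, hermForm_add_right hF, hermForm_add_right hF, hermForm_smul_left, hermForm_smul_left,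
      hermForm_smul_right, hermForm_smul_right, hv, h1, ← ha, h4]
    refine Eq.trans ?_ (scal1 hF a)
    ring
  · rw [Matrix.mulVec_add, Matrix.mulVec_smul, hermForm_add_left, hermForm_add_right hF, hermForm_add_right hF,
      hermForm_smul_left, hermForm_smul_left, hermForm_smul_right, hermForm_smul_right, ← ha, h4, h2, h5]
    refine Eq.trans ?_ (scal2 hF a)
    ring

end nf

include hF in
theorem omega_ne_zero : omega hF ≠ 0 := by
  intro h
  have h1 := omega_eq hF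
  rw [h] at h1
  simp at h1

/-- orthonormal families -/
def ON {ι : Type*} (b : ι → (Fin 6 → F)) : Prop :=
  (∀ i, hermForm 6 F 2 (b i) (b i) = 1) ∧ ∀ i j, i ≠ j → hermForm 6 F 2 (b i) (b j) = 0

/-- the triple `v, cv, c²v` -/
def tri (c : Matrix (Fin 6) (Fin 6) F) (v : Fin 6 → F) : Fin 3 → (Fin 6 → F) := ![v, c *ᵥ v, c *ᵥ (c *ᵥ v)]

include hF in
theorem tri_on (c : Matrix (Fin 6) (Fin 6) F)
    (hU : ∀ x y, hermForm 6 F 2 (c *ᵥ x) (c *ᵥ y) = hermForm 6 F 2 x y)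
    (h3 : ∀ x, c *ᵥ (c *ᵥ (c *ᵥ x)) = omega hF • x) (v : Fin 6 → F) (hv : hermForm 6 F 2 v v = 1)
    (h0 : hermForm 6 F 2 (c *ᵥ v) v = 0) : ON (tri c v) := by
  have h01 : hermForm 6 F 2 v (c *ᵥ v) = 0 := by rw [← hermForm_conj hF, h0, zero_pow two_ne_zero]
  have h20 : hermForm 6 F 2 (c *ᵥ (c *ᵥ v)) v = 0 := by
    rw [gram2 hF c hU h3, h0, zero_pow two_ne_zero, mul_zero]
  have h02 : hermForm 6 F 2 v (c *ᵥ (c *ᵥ v)) = 0 := by rw [← hermForm_conj hF, h20, zero_pow two_ne_zero]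
  have h21 : hermForm 6 F 2 (c *ᵥ (c *ᵥ v)) (c *ᵥ v) = 0 := by rw [hU]; exact h0
  have h12 : hermForm 6 F 2 (c *ᵥ v) (c *ᵥ (c *ᵥ v)) = 0 := by rw [hU]; exact h01
  have h11 : hermForm 6 F 2 (c *ᵥ v) (c *ᵥ v) = 1 := by rw [hU]; exact hv
  have h22 : hermForm 6 F 2 (c *ᵥ (c *ᵥ v)) (c *ᵥ (c *ᵥ v)) = 1 := by rw [hU]; exact h11
  refine ⟨fun i => ?_, fun i j hij => ?_⟩
  · fin_cases i
    · exact hv
    · exact h11
    · exact h22
  · fin_cases i <;> fin_cases j
    · exact absurd rfl hij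
    · exact h01
    · exact h02
    · exact h0
    · exact absurd rfl hij
    · exact h12
    · exact h20
    · exact h21
    · exact absurd rfl hij

include hF in
theorem on_append (b b' : Fin 3 → (Fin 6 → F)) (hb : ON b) (hb' : ON b')
    (hbb' : ∀ i j, hermForm 6 F 2 (b' i) (b j) = 0) : ON (Fin.append b b') := by
  refine ⟨fun k => ?_, fun k l => ?_⟩
  · refine Fin.addCases (fun i => ?_) (fun i => ?_) k
    · rw [Fin.append_left]; exact hb.1 i
    · rw [Fin.append_right]; exact hb'.1 i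
  · refine Fin.addCases (fun i => ?_) (fun i => ?_) k <;> refine Fin.addCases (fun j => ?_) (fun j => ?_) l <;> intro hkl
    · rw [Fin.append_left, Fin.append_left]; exact hb.2 i j (fun h => hkl (by rw [h]))
    · rw [Fin.append_left, Fin.append_right, ← hermForm_conj hF, hbb' j i, zero_pow two_ne_zero]
    · rw [Fin.append_right, Fin.append_left]; exact hbb' i j
    · rw [Fin.append_right, Fin.append_right]; exact hb'.2 i j (fun h => hkl (by rw [h]))

/-- the projection onto the orthogonal complement of an orthonormal triple (characteristic two) -/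
def proj (b : Fin 3 → (Fin 6 → F)) (x : Fin 6 → F) : Fin 6 → F :=
  x + (hermForm 6 F 2 x (b 0) • b 0 + (hermForm 6 F 2 x (b 1) • b 1 + hermForm 6 F 2 x (b 2) • b 2))

include hF in
theorem proj_perp (b : Fin 3 → (Fin 6 → F)) (hb : ON b) (x : Fin 6 → F) (k : Fin 3) :
    hermForm 6 F 2 (proj b x) (b k) = 0 := by
  unfold proj
  rw [hermForm_add_left, hermForm_add_left, hermForm_add_left, hermForm_smul_left, hermForm_smul_left,
    hermForm_smul_left]
  have h2 := two_eq_zero hF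
  fin_cases k
  · show hermForm 6 F 2 x (b 0) + (hermForm 6 F 2 x (b 0) * hermForm 6 F 2 (b 0) (b 0)
      + (hermForm 6 F 2 x (b 1) * hermForm 6 F 2 (b 1) (b 0) + hermForm 6 F 2 x (b 2) * hermForm 6 F 2 (b 2) (b 0))) = 0
    rw [hb.1 0, hb.2 1 0 (by decide), hb.2 2 0 (by decide)]
    linear_combination (hermForm 6 F 2 x (b 0)) * h2
  · show hermForm 6 F 2 x (b 1) + (hermForm 6 F 2 x (b 0) * hermForm 6 F 2 (b 0) (b 1)
      + (hermForm 6 F 2 x (b 1) * hermForm 6 F 2 (b 1) (b 1) + hermForm 6 F 2 x (b 2) * hermForm 6 F 2 (b 2) (b 1))) = 0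
    rw [hb.1 1, hb.2 0 1 (by decide), hb.2 2 1 (by decide)]
    linear_combination (hermForm 6 F 2 x (b 1)) * h2
  · show hermForm 6 F 2 x (b 2) + (hermForm 6 F 2 x (b 0) * hermForm 6 F 2 (b 0) (b 2)
      + (hermForm 6 F 2 x (b 1) * hermForm 6 F 2 (b 1) (b 2) + hermForm 6 F 2 x (b 2) * hermForm 6 F 2 (b 2) (b 2))) = 0
    rw [hb.1 2, hb.2 0 2 (by decide), hb.2 1 2 (by decide)]
    linear_combination (hermForm 6 F 2 x (b 2)) * h2

include hF in
theorem proj_self (b : Fin 3 → (Fin 6 → F)) (hb : ON b) (x : Fin 6 → F) :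
    hermForm 6 F 2 (proj b x) (proj b x) = hermForm 6 F 2 x x + (hermForm 6 F 2 x (b 0) * hermForm 6 F 2 (b 0) x
      + (hermForm 6 F 2 x (b 1) * hermForm 6 F 2 (b 1) x + hermForm 6 F 2 x (b 2) * hermForm 6 F 2 (b 2) x)) := by
  have e : proj b x = x + (hermForm 6 F 2 x (b 0) • b 0 + (hermForm 6 F 2 x (b 1) • b 1 + hermForm 6 F 2 x (b 2) • b 2)) := rfl
  have h1 : hermForm 6 F 2 (proj b x) (proj b x) = hermForm 6 F 2 (proj b x) x := by
    conv_lhs => arg 5; rw [e]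
    rw [hermForm_add_right hF, hermForm_add_right hF, hermForm_add_right hF, hermForm_smul_right, hermForm_smul_right,
      hermForm_smul_right, proj_perp hF b hb, proj_perp hF b hb, proj_perp hF b hb]
    ring
  rw [h1, e, hermForm_add_left, hermForm_add_left, hermForm_add_left, hermForm_smul_left, hermForm_smul_left,
    hermForm_smul_left]

include hF in
/-- a unit vector orthogonal to an orthonormal triple -/
theorem exists_unit_perp (b : Fin 3 → (Fin 6 → F)) (hb : ON b) :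
    ∃ y : Fin 6 → F, hermForm 6 F 2 y y = 1 ∧ ∀ k, hermForm 6 F 2 y (b k) = 0 := by
  by_contra hcon
  push Not at hcon
  have h0 : ∀ i : Fin 6, hermForm 6 F 2 (proj b (Pi.single i 1)) (proj b (Pi.single i 1)) = 0 := by
    intro i
    have hsq : (hermForm 6 F 2 (proj b (Pi.single i 1)) (proj b (Pi.single i 1))) ^ 2
        = hermForm 6 F 2 (proj b (Pi.single i 1)) (proj b (Pi.single i 1)) := hermForm_conj hF 6 _ _
    rcases sq_or hF _ hsq with h | h
    · exact h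
    · exfalso
      obtain ⟨k, hk⟩ := hcon _ h
      exact hk (proj_perp hF b hb _ k)
  have hk : ∀ k, ∑ i : Fin 6, (b k i) ^ 2 * b k i = 1 := by
    intro k
    rw [← hb.1 k]
    unfold hermForm
    exact Finset.sum_congr rfl (fun i _ => mul_comm _ _)
  have hsum : ∑ i : Fin 6, hermForm 6 F 2 (proj b (Pi.single i 1)) (proj b (Pi.single i 1)) = 1 := by
    have h1 : ∀ i : Fin 6, hermForm 6 F 2 (proj b (Pi.single i 1)) (proj b (Pi.single i 1))
        = 1 + ((b 0 i) ^ 2 * b 0 i + ((b 1 i) ^ 2 * b 1 i + (b 2 i) ^ 2 * b 2 i)) := by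
      intro i
      rw [proj_self hF b hb, hermForm_single_left, hermForm_single_left, hermForm_single_left, hermForm_single_left,
        hermForm_single_right 6 2 (by norm_num), hermForm_single_right 6 2 (by norm_num),
        hermForm_single_right 6 2 (by norm_num), Pi.single_eq_same, one_pow]
    simp only [h1]
    rw [Finset.sum_add_distrib, Finset.sum_add_distrib, Finset.sum_add_distrib, hk 0, hk 1, hk 2, Finset.sum_const,
      Finset.card_univ, Fintype.card_fin, nsmul_eq_mul]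
    push_cast
    linear_combination 4 * two_eq_zero hF
  rw [Finset.sum_eq_zero (fun i _ => h0 i)] at hsum
  exact zero_ne_one hsum

include hF in
theorem perp_invariant (c : Matrix (Fin 6) (Fin 6) F)
    (hU : ∀ x y, hermForm 6 F 2 (c *ᵥ x) (c *ᵥ y) = hermForm 6 F 2 x y)
    (h3 : ∀ x, c *ᵥ (c *ᵥ (c *ᵥ x)) = omega hF • x) (v y : Fin 6 → F)
    (hy : ∀ k, hermForm 6 F 2 y (tri c v k) = 0) : ∀ k, hermForm 6 F 2 (c *ᵥ y) (tri c v k) = 0 := by
  have hy0 : hermForm 6 F 2 y v = 0 := hy 0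
  have hy1 : hermForm 6 F 2 y (c *ᵥ v) = 0 := hy 1
  have hy2 : hermForm 6 F 2 y (c *ᵥ (c *ᵥ v)) = 0 := hy 2
  intro k
  fin_cases k
  · show hermForm 6 F 2 (c *ᵥ y) v = 0
    have h : hermForm 6 F 2 (c *ᵥ y) (omega hF • v) = 0 := by rw [← h3 v, hU]; exact hy2
    rw [hermForm_smul_right] at h
    rcases mul_eq_zero.mp h with h' | h'
    · exact absurd ((pow_eq_zero_iff two_ne_zero).mp h') (omega_ne_zero hF)
    · exact h'
  · show hermForm 6 F 2 (c *ᵥ y) (c *ᵥ v) = 0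
    rw [hU]; exact hy0
  · show hermForm 6 F 2 (c *ᵥ y) (c *ᵥ (c *ᵥ v)) = 0
    rw [hU]; exact hy1

theorem mul_cstd_apply (P : Matrix (Fin 6) (Fin 6) F) (ω : F) (i : Fin 6) :
    (P * cstd ω) i 0 = P i 1 ∧ (P * cstd ω) i 1 = P i 2 ∧ (P * cstd ω) i 2 = P i 0 * ω ∧
    (P * cstd ω) i 3 = P i 4 ∧ (P * cstd ω) i 4 = P i 5 ∧ (P * cstd ω) i 5 = P i 3 * ω := by
  simp only [Matrix.mul_apply, Fin.sum_univ_six]
  refine ⟨?_, ?_, ?_, ?_, ?_, ?_⟩
  · show P i 0 * 0 + P i 1 * 1 + P i 2 * 0 + P i 3 * 0 + P i 4 * 0 + P i 5 * 0 = P i 1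
    ring
  · show P i 0 * 0 + P i 1 * 0 + P i 2 * 1 + P i 3 * 0 + P i 4 * 0 + P i 5 * 0 = P i 2
    ring
  · show P i 0 * ω + P i 1 * 0 + P i 2 * 0 + P i 3 * 0 + P i 4 * 0 + P i 5 * 0 = P i 0 * ω
    ring
  · show P i 0 * 0 + P i 1 * 0 + P i 2 * 0 + P i 3 * 0 + P i 4 * 1 + P i 5 * 0 = P i 4
    ring
  · show P i 0 * 0 + P i 1 * 0 + P i 2 * 0 + P i 3 * 0 + P i 4 * 0 + P i 5 * 1 = P i 5
    ring
  · show P i 0 * 0 + P i 1 * 0 + P i 2 * 0 + P i 3 * ω + P i 4 * 0 + P i 5 * 0 = P i 3 * ω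
    ring

theorem conj_of_cols (c : Matrix (Fin 6) (Fin 6) F) (ω : F) (p : Fin 6 → (Fin 6 → F))
    (h0 : c *ᵥ p 0 = p 1) (h1 : c *ᵥ p 1 = p 2) (h2 : c *ᵥ p 2 = ω • p 0)
    (h3 : c *ᵥ p 3 = p 4) (h4 : c *ᵥ p 4 = p 5) (h5 : c *ᵥ p 5 = ω • p 3) :
    c * (Matrix.of fun i j => p j i) = (Matrix.of fun i j => p j i) * cstd ω := by
  ext i j
  have hl : ∀ j, (c * (Matrix.of fun i j => p j i)) i j = (c *ᵥ p j) i := fun j => by
    rw [Matrix.mul_apply]; rfl
  obtain ⟨e0, e1, e2, e3, e4, e5⟩ := mul_cstd_apply (Matrix.of fun i j => p j i) ω i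
  rw [hl]
  fin_cases j
  · show (c *ᵥ p 0) i = ((Matrix.of fun i j => p j i) * cstd ω) i 0
    rw [h0, e0]; rfl
  · show (c *ᵥ p 1) i = ((Matrix.of fun i j => p j i) * cstd ω) i 1
    rw [h1, e1]; rfl
  · show (c *ᵥ p 2) i = ((Matrix.of fun i j => p j i) * cstd ω) i 2
    rw [h2, e2]; exact mul_comm _ _
  · show (c *ᵥ p 3) i = ((Matrix.of fun i j => p j i) * cstd ω) i 3
    rw [h3, e3]; rfl
  · show (c *ᵥ p 4) i = ((Matrix.of fun i j => p j i) * cstd ω) i 4
    rw [h4, e4]; rfl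
  · show (c *ᵥ p 5) i = ((Matrix.of fun i j => p j i) * cstd ω) i 5
    rw [h5, e5]; exact mul_comm _ _

include hF in
/-- the normal form -/
theorem normal_form (c : Matrix (Fin 6) (Fin 6) F)
    (hU : ∀ x y, hermForm 6 F 2 (c *ᵥ x) (c *ᵥ y) = hermForm 6 F 2 x y)
    (h3 : ∀ x, c *ᵥ (c *ᵥ (c *ᵥ x)) = omega hF • x) :
    ∃ P : Matrix (Fin 6) (Fin 6) F, Asch.star (HermBridge.sigma hF) P * P = 1 ∧ c * P = P * cstd (omega hF) := by
  have he : hermForm 6 F 2 (Pi.single 0 1) (Pi.single 0 1) = 1 := by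
    rw [hermForm_single_left, Pi.single_eq_same, one_pow]
  obtain ⟨μ, hv1, hv0⟩ := scaling hF c hU h3 _ he
  set v : Fin 6 → F := Pi.single 0 1 + μ • (c *ᵥ Pi.single 0 1) with hvdef
  have hb := tri_on hF c hU h3 v hv1 hv0
  obtain ⟨y, hy1, hyb⟩ := exists_unit_perp hF (tri c v) hb
  obtain ⟨μ', hv1', hv0'⟩ := scaling hF c hU h3 y hy1
  set v' : Fin 6 → F := y + μ' • (c *ᵥ y) with hv'def
  have hb' := tri_on hF c hU h3 v' hv1' hv0'
  have hcy := perp_invariant hF c hU h3 v y hyb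
  have hv'b : ∀ k, hermForm 6 F 2 v' (tri c v k) = 0 := by
    intro k
    rw [hv'def, hermForm_add_left, hermForm_smul_left, hyb k, hcy k, mul_zero, add_zero]
  have hcv'b := perp_invariant hF c hU h3 v v' hv'b
  have hccv'b := perp_invariant hF c hU h3 v _ hcv'b
  have hbb' : ∀ i j, hermForm 6 F 2 (tri c v' i) (tri c v j) = 0 := by
    intro i j
    fin_cases i
    · exact hv'b j
    · exact hcv'b j
    · exact hccv'b j
  have hp := on_append hF _ _ hb hb' hbb'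
  set p : Fin 6 → (Fin 6 → F) := Fin.append (tri c v) (tri c v') with hpdef
  have p0 : p 0 = v := Fin.append_left (tri c v) (tri c v') 0
  have p1 : p 1 = c *ᵥ v := Fin.append_left (tri c v) (tri c v') 1
  have p2 : p 2 = c *ᵥ (c *ᵥ v) := Fin.append_left (tri c v) (tri c v') 2
  have p3 : p 3 = v' := Fin.append_right (tri c v) (tri c v') 0
  have p4 : p 4 = c *ᵥ v' := Fin.append_right (tri c v) (tri c v') 1
  have p5 : p 5 = c *ᵥ (c *ᵥ v') := Fin.append_right (tri c v) (tri c v') 2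
  refine ⟨Matrix.of fun i j => p j i, ?_, ?_⟩
  · ext i j
    rw [Matrix.mul_apply]
    have h : ∑ k, Asch.star (HermBridge.sigma hF) (Matrix.of fun i j => p j i) i k * (Matrix.of fun i j => p j i) k j
        = hermForm 6 F 2 (p j) (p i) := by
      unfold hermForm
      refine Finset.sum_congr rfl fun k _ => ?_
      rw [Asch.star_apply, sigma_apply]
      exact mul_comm _ _
    rw [h, Matrix.one_apply]
    by_cases hij : i = j
    · rw [if_pos hij, hij]; exact hp.1 j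
    · rw [if_neg hij]; exact hp.2 j i (Ne.symm hij)
  · apply conj_of_cols
    · rw [p0, p1]
    · rw [p1, p2]
    · rw [p2, p0, h3]
    · rw [p3, p4]
    · rw [p4, p5]
    · rw [p5, p3, h3]

end Cfsg.Agent.Lib.Helper4.SU6
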