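import Mathlib
import Cfsg.Prelude
import Cfsg.Agent.Lib.Helper4.SU6i

set_option autoImplicit false
set_option linter.unusedVariables false
set_option linter.style.longLine false
set_option linter.unusedSimpArgs false
set_option linter.unusedSectionVars false
set_option linter.style.haveILetI false

/-! The normaliser of a degree 3 field subalgebra is not maximal in `SU₆(2)`. -/

namespace Cfsg.Agent.Lib.Helper4.SU6

open Module Matrix Cfsg Cfsg.Geo
open Cfsg.Agent.Lib.Helper5 Cfsg.Agent.Lib.Helper8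
open Cfsg.Agent.Lib.Helper5.Herm
open Cfsg.Agent.Lib.Helper5.HermBridge (sigma_apply sigma_sigma)
open Cfsg.Agent.Lib.Helper9.AschU (herm_adj herm_adj' herm_eq_zero_right mem_GU_iff)
open Cfsg.Agent.Lib.Helper4.SU5 (F4 hF4 phi omega omega_eq omega_sq_ne two_eq_zero)

variable {F : Type*} [Field F] [Fintype F] (hF : Fintype.card F = 2 ^ 2)

/-- transport of the twisted commutation relation along a conjugation -/
theorem conj_transport (A P Pi cM cs : Matrix (Fin 6) (Fin 6) F) (a : F) (h1 : Pi * P = 1) (h2 : P * Pi = 1)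
    (hPc : cM * P = P * cs) (hA : A * cM = (a • cM) * A) :
    (Pi * A * P) * cs = (a • cs) * (Pi * A * P) := by
  have hPc' : Pi * cM = cs * Pi := by
    calc Pi * cM = Pi * cM * (P * Pi) := by rw [h2, Matrix.mul_one]
      _ = Pi * (cM * P) * Pi := by simp only [Matrix.mul_assoc]
      _ = Pi * (P * cs) * Pi := by rw [hPc]
      _ = (Pi * P) * cs * Pi := by simp only [Matrix.mul_assoc]
      _ = cs * Pi := by rw [h1, Matrix.one_mul]
  calc (Pi * A * P) * cs = Pi * A * (P * cs) := by rw [Matrix.mul_assoc]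
    _ = Pi * A * (cM * P) := by rw [hPc]
    _ = Pi * (A * cM) * P := by simp only [Matrix.mul_assoc]
    _ = Pi * ((a • cM) * A) * P := by rw [hA]
    _ = a • ((Pi * cM) * A * P) := by
      simp only [Matrix.mul_assoc, Matrix.smul_mul, Matrix.mul_smul]
    _ = a • ((cs * Pi) * A * P) := by rw [hPc']
    _ = (a • cs) * (Pi * A * P) := by
      simp only [Matrix.mul_assoc, Matrix.smul_mul, Matrix.mul_smul]

include hF in
/-- the normaliser of a field subalgebra of degree 3 is not maximal in `SU₆(2)` -/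
theorem field_not_maximal6 (K : Subalgebra F (Matrix (Fin 6) (Fin 6) F)) (hK : IsFieldSubalgebra 3 K)
    (hadj : IsAdjointClosedFor (hermForm 6 F 2) K) :
    ¬ IsMaximalIn (Cfsg.GU 6 F 2 ⊓ Cfsg.Geo.specialLinear (Fin 6) F)
      (subalgebraNormalizer K ⊓ (Cfsg.GU 6 F 2 ⊓ Cfsg.Geo.specialLinear (Fin 6) F)) := by
  classical
  intro hmax
  obtain ⟨cM, hcK, hc3, hstar, hroots⟩ := K_facts6 hF K hK hadj
  set G : Subgroup (Matrix.GeneralLinearGroup (Fin 6) F) := Cfsg.GU 6 F 2 ⊓ Cfsg.Geo.specialLinear (Fin 6) F with hGdef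
  have hU : ∀ x y, hermForm 6 F 2 (cM *ᵥ x) (cM *ᵥ y) = hermForm 6 F 2 x y := by
    intro x y
    rw [herm_adj hF, Matrix.mulVec_mulVec, hstar, Matrix.one_mulVec]
  have h3 : ∀ x, cM *ᵥ (cM *ᵥ (cM *ᵥ x)) = omega hF • x := by
    intro x
    rw [Matrix.mulVec_mulVec, Matrix.mulVec_mulVec, ← pow_three', hc3, Matrix.smul_mulVec, Matrix.one_mulVec]
  obtain ⟨P, hPu, hPc⟩ := normal_form hF cM hU h3
  have hPu' : P * Asch.star (HermBridge.sigma hF) P = 1 := mul_eq_one_comm.mp hPu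
  let Pg : Matrix.GeneralLinearGroup (Fin 6) F := ⟨P, Asch.star (HermBridge.sigma hF) P, hPu', hPu⟩
  have hPgval : (Pg : Matrix (Fin 6) (Fin 6) F) = P := rfl
  have hPginv : ((Pg⁻¹ : Matrix.GeneralLinearGroup (Fin 6) F) : Matrix (Fin 6) (Fin 6) F) = Asch.star (HermBridge.sigma hF) P := rfl
  have hPgU : Pg ∈ Cfsg.GU 6 F 2 := (mem_GU_iff hF Pg).mpr hPu
  -- the element as an invertible matrix
  have hstar' : cM * Asch.star (HermBridge.sigma hF) cM = 1 := mul_eq_one_comm.mp hstar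
  let cG : Matrix.GeneralLinearGroup (Fin 6) F := ⟨cM, Asch.star (HermBridge.sigma hF) cM, hstar', hstar⟩
  have hcGval : (cG : Matrix (Fin 6) (Fin 6) F) = cM := rfl
  obtain ⟨L, t, u, hL, htL, htG, htn, huG, huL⟩ := good6 hF
  -- `G` is normalised by `GU`
  have hnormal : ∀ (g h : Matrix.GeneralLinearGroup (Fin 6) F), g ∈ Cfsg.GU 6 F 2 → h ∈ G → g * h * g⁻¹ ∈ G := by
    intro g h hg hh
    refine ⟨Subgroup.mul_mem _ (Subgroup.mul_mem _ hg hh.1) (Subgroup.inv_mem _ hg), ?_⟩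
    exact (MonoidHom.normal_ker _).conj_mem h hh.2 g
  -- normalising elements
  have hconj : ∀ x : Matrix.GeneralLinearGroup (Fin 6) F, x ∈ subalgebraNormalizer K →
      ∃ i : ℕ, (x : Matrix (Fin 6) (Fin 6) F) * cM = ((omega hF) ^ i • cM) * (x : Matrix (Fin 6) (Fin 6) F) := by
    intro x hx
    have h1 : (x : Matrix (Fin 6) (Fin 6) F) * cM * ((x⁻¹ : Matrix.GeneralLinearGroup (Fin 6) F) : Matrix (Fin 6) (Fin 6) F) ∈ K :=
      (hx cM).mp hcK
    have h2 : ((x : Matrix (Fin 6) (Fin 6) F) * cM * ((x⁻¹ : Matrix.GeneralLinearGroup (Fin 6) F) : Matrix (Fin 6) (Fin 6) F)) ^ 3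
        = omega hF • (1 : Matrix (Fin 6) (Fin 6) F) := by
      have h4 : ((x * cG * x⁻¹) ^ 3 : Matrix.GeneralLinearGroup (Fin 6) F) = x * cG ^ 3 * x⁻¹ := conj_pow
      have h5 := congrArg Units.val h4
      rw [Units.val_pow_eq_pow_val, Units.val_mul, Units.val_mul, Units.val_mul, Units.val_mul,
        Units.val_pow_eq_pow_val, hcGval, hc3, Matrix.mul_smul, Matrix.mul_one, Matrix.smul_mul, ← Units.val_mul,
        mul_inv_cancel, Units.val_one] at h5
      exact h5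
    obtain ⟨i, hi⟩ := hroots _ h1 h2
    refine ⟨i, ?_⟩
    rw [← hi, Matrix.mul_assoc, ← Units.val_mul, inv_mul_cancel, Units.val_one, Matrix.mul_one]
  have htrans : ∀ (x : Matrix.GeneralLinearGroup (Fin 6) F) (i : ℕ),
      (x : Matrix (Fin 6) (Fin 6) F) * cM = ((omega hF) ^ i • cM) * (x : Matrix (Fin 6) (Fin 6) F) →
      ((Pg⁻¹ * x * Pg : Matrix.GeneralLinearGroup (Fin 6) F) : Matrix (Fin 6) (Fin 6) F) * cstd (omega hF)
        = ((omega hF) ^ i • cstd (omega hF)) * ((Pg⁻¹ * x * Pg : Matrix.GeneralLinearGroup (Fin 6) F) : Matrix (Fin 6) (Fin 6) F) := by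
    intro x i hx
    rw [Units.val_mul, Units.val_mul, hPginv, hPgval]
    exact conj_transport _ P _ cM _ _ hPu hPu' hPc hx
  set M : Subgroup (Matrix.GeneralLinearGroup (Fin 6) F) := (L.comap (MulAut.conj Pg⁻¹).toMonoidHom) ⊓ G with hM
  have hmemM : ∀ x : Matrix.GeneralLinearGroup (Fin 6) F, x ∈ M ↔ (Pg⁻¹ * x * Pg ∈ L ∧ x ∈ G) := by
    intro x
    rw [hM, Subgroup.mem_inf, Subgroup.mem_comap]
    have : (MulAut.conj Pg⁻¹).toMonoidHom x = Pg⁻¹ * x * Pg := by
      show MulAut.conj Pg⁻¹ x = _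
      rw [MulAut.conj_apply, inv_inv]
    rw [this]
  have hPinvU : Pg⁻¹ ∈ Cfsg.GU 6 F 2 := Subgroup.inv_mem _ hPgU
  have hHM : subalgebraNormalizer K ⊓ G ≤ M := by
    intro h hh
    rw [hmemM]
    refine ⟨?_, hh.2⟩
    obtain ⟨i, hi⟩ := hconj h hh.1
    have hn : Pg⁻¹ * h * Pg ∈ G := by
      have := hnormal Pg⁻¹ h hPinvU hh.2
      rw [inv_inv] at this
      exact this
    exact hL _ hn ⟨i, htrans h i hi⟩
  have hMG : M ≤ G := inf_le_right
  rcases hmax.2 M hHM hMG with h | h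
  · -- `M = H`: then the conjugate of `t` normalises
    have ht'G : Pg * t * Pg⁻¹ ∈ G := hnormal Pg t hPgU htG
    have ht'M : Pg * t * Pg⁻¹ ∈ M := by
      rw [hmemM]
      refine ⟨?_, ht'G⟩
      have : Pg⁻¹ * (Pg * t * Pg⁻¹) * Pg = t := by group
      rw [this]; exact htL
    rw [h] at ht'M
    obtain ⟨i, hi⟩ := hconj _ ht'M.1
    have h6 := htrans _ i hi
    have : Pg⁻¹ * (Pg * t * Pg⁻¹) * Pg = t := by group
    rw [this] at h6
    exact htn i h6
  · -- `M = G`: then `u ∈ L`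
    have hu'G : Pg * u * Pg⁻¹ ∈ G := hnormal Pg u hPgU huG
    rw [← h, hmemM] at hu'G
    have : Pg⁻¹ * (Pg * u * Pg⁻¹) * Pg = u := by group
    rw [this] at hu'G
    exact huL hu'G.1

end Cfsg.Agent.Lib.Helper4.SU6
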