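import Mathlib
import Cfsg.Agent.Lib.Helper4.SU5a

set_option autoImplicit false
set_option linter.unusedVariables false
set_option linter.style.longLine false
set_option linter.unusedSimpArgs false
set_option linter.unusedSectionVars false

/-! The set of 378 vectors (126 points) of the six-dimensional unitary space over the field with four elements
which is invariant under the monomial group `3⁵ : S₆` and under a further unitary involution. -/

namespace Cfsg.Agent.Lib.Helper4.SU6

open Cfsg.Agent.Lib.Helper4.SU5 (F4)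

/-- number of non-zero coordinates -/
def wt6 (v : Fin 6 → F4) : ℕ := (Finset.univ.filter (fun i => v i ≠ 0)).card

/-- product of the coordinates -/
def pr6 (v : Fin 6 → F4) : F4 := ∏ i, v i

/-- membership in the set of 378 vectors -/
def S6 (v : Fin 6 → F4) : Bool :=
  decide (wt6 v = 2) || (decide (wt6 v = 6) && decide (pr6 v = 1))

/-- indicator of non-zero elements -/
def nz : F4 → ℕ
  | F4.z => 0
  | _ => 1

/-- the same set in terms of the six coordinates -/
def S6c (a b c d e f : F4) : Bool :=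
  decide (nz a + nz b + nz c + nz d + nz e + nz f = 2) ||
    (decide (nz a + nz b + nz c + nz d + nz e + nz f = 6) && decide (a * b * c * d * e * f = 1))

theorem nz_eq (x : F4) : (if x ≠ 0 then 1 else 0) = nz x := by
  cases x <;> decide

theorem S6_eq (v : Fin 6 → F4) : S6 v = S6c (v 0) (v 1) (v 2) (v 3) (v 4) (v 5) := by
  have h1 : wt6 v = nz (v 0) + nz (v 1) + nz (v 2) + nz (v 3) + nz (v 4) + nz (v 5) := by
    unfold wt6
    rw [Finset.card_filter, Fin.sum_univ_six]
    simp only [nz_eq]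
  have h2 : pr6 v = v 0 * v 1 * v 2 * v 3 * v 4 * v 5 := by
    unfold pr6
    rw [Fin.prod_univ_six]
  unfold S6 S6c
  rw [h1, h2]

theorem T_inv_c : ∀ a b c d e f : F4,
    S6c (b + c + d + e + f) (a + c + d + e + f) (a + b + d + e + f) (a + b + c + e + f) (a + b + c + d + f)
      (a + b + c + d + e) = S6c a b c d e f := by
  decide +kernel

/-- the further involution in coordinates -/
def tt (v : Fin 6 → F4) : Fin 6 → F4 :=
  ![v 1 + v 2 + v 3 + v 4 + v 5, v 0 + v 2 + v 3 + v 4 + v 5, v 0 + v 1 + v 3 + v 4 + v 5,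
    v 0 + v 1 + v 2 + v 4 + v 5, v 0 + v 1 + v 2 + v 3 + v 5, v 0 + v 1 + v 2 + v 3 + v 4]

theorem S6_tt (v : Fin 6 → F4) : S6 (tt v) = S6 v := by
  rw [S6_eq, S6_eq v]
  exact T_inv_c (v 0) (v 1) (v 2) (v 3) (v 4) (v 5)

theorem S6c_bad : ∀ c d : F4, c ≠ 0 → S6c c c c d 0 1 = false := by decide

theorem S6c_good : S6c 0 0 0 1 0 1 = true := by decide

theorem wt6_monomial (σ : Equiv.Perm (Fin 6)) (a v w : Fin 6 → F4) (ha : ∀ i, a i ≠ 0)
    (hw : ∀ i, w (σ i) = a i * v i) : wt6 w = wt6 v := by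
  unfold wt6
  rw [Finset.card_filter, Finset.card_filter, ← Equiv.sum_comp σ]
  refine Finset.sum_congr rfl fun i _ => ?_
  rw [hw i]
  refine if_congr ?_ rfl rfl
  rw [ne_eq, ne_eq, mul_eq_zero, not_or]
  exact ⟨fun h => h.2, fun h => ⟨ha i, h⟩⟩

theorem pr6_monomial (σ : Equiv.Perm (Fin 6)) (a v w : Fin 6 → F4)
    (hw : ∀ i, w (σ i) = a i * v i) : pr6 w = (∏ i, a i) * pr6 v := by
  unfold pr6
  rw [← Equiv.prod_comp σ w, ← Finset.prod_mul_distrib]
  exact Finset.prod_congr rfl fun i _ => hw i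

theorem S6_monomial (σ : Equiv.Perm (Fin 6)) (a v w : Fin 6 → F4) (ha : ∀ i, a i ≠ 0)
    (hpr : (∏ i, a i) = 1) (hw : ∀ i, w (σ i) = a i * v i) : S6 w = S6 v := by
  unfold S6
  rw [wt6_monomial σ a v w ha hw, pr6_monomial σ a v w hw, hpr, one_mul]

end Cfsg.Agent.Lib.Helper4.SU6
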