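import Mathlib
import Cfsg.Prelude
import Cfsg.Agent.Lib.Helper3.MaxU8
import Cfsg.Agent.Lib.Helper5.HermPerp
import Cfsg.Agent.Lib.Helper5.LinDecompForm
import Cfsg.Agent.Lib.Helper4.SU5j
import Cfsg.Agent.Lib.Helper4.SU6k

set_option autoImplicit false
set_option maxRecDepth 100000
set_option linter.unusedVariables false
set_option linter.style.longLine false
set_option linter.unusedSimpArgs false
set_option linter.unusedSectionVars false
set_option linter.style.haveILetI false
set_option linter.deprecated false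

/-! Over the field with four elements the stabiliser of an orthogonal frame of the six-dimensional unitary space
is not maximal in the special unitary group: it preserves a set of 126 points, which is also preserved by a
further unitary involution. -/

namespace Cfsg.Agent.Lib.Helper4.SU6

open Matrix Cfsg Cfsg.Geo Module
open Cfsg.Agent.Lib.Helper5.Herm Cfsg.Agent.Lib.Helper5.HermPerp
open Cfsg.Agent.Lib.Helper5.LinDecompForm (bas bas_mem repr_of_mem)
open Cfsg.Agent.Lib.Helper3.MaxU (SUg exists_norm herm_self_fix herm_smul_smul stab_map_mem exists_c exists_tv)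
open Cfsg.Agent.Lib.Helper4.SU5 (F4 phi two_eq_zero)

section lines
variable {F : Type*} [Field F] {n t : ℕ} {D : Fin t → Submodule F (Fin n → F)} (hD : IsMDecomposition 1 D)

/-- the adapted basis, indexed by the lines -/
noncomputable def bt : Module.Basis (Fin t) F (Fin n → F) :=
  (bas hD).reindex (Equiv.prodUnique (Fin t) (Fin 1))

theorem bt_apply (i : Fin t) : bt hD i = bas hD (i, 0) := by
  unfold bt
  rw [Module.Basis.reindex_apply]
  rfl

theorem bt_repr (x : Fin n → F) (i : Fin t) : (bt hD).repr x i = (bas hD).repr x (i, 0) := by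
  unfold bt
  rw [Module.Basis.repr_reindex_apply]
  rfl

theorem bt_mem (i : Fin t) : bt hD i ∈ D i := by
  rw [bt_apply]
  exact bas_mem hD (i, 0)

theorem bt_repr_of_mem {x : Fin n → F} {j : Fin t} (hx : x ∈ D j) (i : Fin t) (hi : i ≠ j) :
    (bt hD).repr x i = 0 := by
  rw [bt_repr]
  exact repr_of_mem hD hx (i, 0) hi

end lines

section frame
variable {F : Type*} [Field F] [Fintype F] {q : ℕ} (hF : Fintype.card F = q ^ 2)
  {D : Fin 6 → Submodule F (Fin 6 → F)}

include hF in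
theorem exists_orthonormal_frame6 (hD : IsNondegenerateMDecomposition (hermForm 6 F q) 1 D) :
    ∃ b : Module.Basis (Fin 6) F (Fin 6 → F), (∀ i, b i ∈ D i) ∧
      ∀ i j, hermForm 6 F q (b i) (b j) = if i = j then 1 else 0 := by
  classical
  set b0 := bt hD.decomp with hb0
  have hmem : ∀ i, b0 i ∈ D i := bt_mem hD.decomp
  have hd : ∀ i, hermForm 6 F q (b0 i) (b0 i) ≠ 0 := by
    intro i
    obtain ⟨⟨x, hx, hx0⟩, -⟩ := hD.nondegenerate i (b0 i) (hmem i) (b0.ne_zero i)
    have hxc : x = (b0.repr x i) • b0 i := by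
      conv_lhs => rw [← b0.sum_repr x]
      rw [Finset.sum_eq_single i]
      · intro j _ hj
        rw [bt_repr_of_mem hD.decomp hx j hj, zero_smul]
      · intro h
        exact absurd (Finset.mem_univ i) h
    intro h0
    apply hx0
    rw [hxc, hermForm_smul_left, h0, mul_zero]
  choose l hl using fun i => exists_norm hF (hermForm 6 F q (b0 i) (b0 i)) (herm_self_fix hF _)
  have hl0 : ∀ i, l i ≠ 0 := by
    intro i h0
    have := hl i
    rw [h0, zero_pow (Nat.succ_ne_zero q)] at this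
    exact hd i this.symm
  set w : Fin 6 → Fˣ := fun i => Units.mk0 (l i)⁻¹ (inv_ne_zero (hl0 i)) with hw
  refine ⟨b0.unitsSMul w, ?_, ?_⟩
  · intro i
    rw [Module.Basis.unitsSMul_apply]
    exact Submodule.smul_mem _ _ (hmem i)
  · intro i j
    rw [Module.Basis.unitsSMul_apply, Module.Basis.unitsSMul_apply, Units.smul_def,
      Units.smul_def, herm_smul_smul hF]
    by_cases hij : i = j
    · subst hij
      rw [if_pos rfl]
      simp only [hw, Units.val_mk0]
      rw [← hl i, inv_pow, pow_succ]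
      have := hl0 i
      field_simp
    · rw [if_neg hij, hD.orthogonal i j hij _ (hmem i) _ (hmem j), mul_zero]

variable (b : Module.Basis (Fin 6) F (Fin 6 → F))
  (hb : ∀ i j, hermForm 6 F q (b i) (b j) = if i = j then 1 else 0)

include hF hb in
theorem repr_eq_herm6 (x : Fin 6 → F) (i : Fin 6) : b.repr x i = hermForm 6 F q x (b i) := by
  classical
  conv_rhs => rw [← b.sum_repr x]
  rw [hermForm_sum_left hF]
  simp_rw [hermForm_smul_left, hb]
  simp

include hF hb in
theorem herm_coord6 (x y : Fin 6 → F) :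
    hermForm 6 F q x y = ∑ i, b.repr x i * (b.repr y i) ^ q := by
  have h := hermForm_sum_orthonormal hF (fun i => b i) hb (fun i => b.repr x i)
    (fun i => b.repr y i)
  rw [b.sum_repr, b.sum_repr] at h
  rw [h]
  rfl

include hF hb in
theorem repr_of_mem_frame6 (hD : IsNondegenerateMDecomposition (hermForm 6 F q) 1 D)
    (hmem : ∀ i, b i ∈ D i) {x : Fin 6 → F} {j : Fin 6} (hx : x ∈ D j) (i : Fin 6)
    (hi : i ≠ j) : b.repr x i = 0 := by
  rw [repr_eq_herm6 hF b hb]
  exact hD.orthogonal j i (Ne.symm hi) x hx (b i) (hmem i)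

variable (ψ : F ≃+* F4)

/-- coordinates in the model field -/
noncomputable def cvec6 (x : Fin 6 → F) : Fin 6 → F4 := fun i => ψ (b.repr x i)

/-- the stabiliser of the set of 126 points in the special unitary group -/
noncomputable def KS6 (q : ℕ) : Subgroup (GL (Fin 6) F) where
  carrier := {g | g ∈ SUg 6 F q ∧
    ∀ x, S6 (cvec6 b ψ ((g : Matrix (Fin 6) (Fin 6) F) *ᵥ x)) = S6 (cvec6 b ψ x)}
  mul_mem' := by
    rintro a c ⟨ha1, ha2⟩ ⟨hc1, hc2⟩
    refine ⟨mul_mem ha1 hc1, fun x => ?_⟩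
    rw [Units.val_mul, ← Matrix.mulVec_mulVec, ha2, hc2]
  one_mem' := ⟨one_mem _, fun x => by rw [Units.val_one, Matrix.one_mulVec]⟩
  inv_mem' := by
    rintro a ⟨ha1, ha2⟩
    refine ⟨inv_mem ha1, fun x => ?_⟩
    have h := ha2 (((a⁻¹ : GL (Fin 6) F) : Matrix (Fin 6) (Fin 6) F) *ᵥ x)
    rw [Matrix.mulVec_mulVec, ← Units.val_mul, mul_inv_cancel, Units.val_one,
      Matrix.one_mulVec] at h
    exact h.symm

include hF hb in
theorem stab_le_KS6 (hq2 : q = 2) (h2 : (2 : F) = 0) (hD : IsNondegenerateMDecomposition (hermForm 6 F q) 1 D)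
    (hmem : ∀ i, b i ∈ D i) :
    decompositionStabilizer D ⊓ SUg 6 F q ≤ KS6 b ψ q := by
  classical
  intro g hg
  obtain ⟨hgD, hgS⟩ := hg
  refine ⟨hgS, fun x => ?_⟩
  have hgU : ∀ u v, hermForm 6 F q ((g : Matrix (Fin 6) (Fin 6) F) *ᵥ u)
      ((g : Matrix (Fin 6) (Fin 6) F) *ᵥ v) = hermForm 6 F q u v := hgS.1
  set M := LinearMap.toMatrix b b (Matrix.toLin' (g : Matrix (Fin 6) (Fin 6) F)) with hM
  have hdet : M.det = 1 := by
    rw [hM, LinearMap.det_toMatrix, LinearMap.det_toLin']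
    exact (Cfsg.Agent.Lib.Helper5.LinDecompForm.mem_SL_iff g).1 hgS.2
  obtain ⟨σ, hσ⟩ := hgD
  have hmap : ∀ i, ∀ x ∈ D i, (g : Matrix (Fin 6) (Fin 6) F) *ᵥ x ∈ D (σ i) := by
    intro i x hx
    rw [← hσ i]
    exact ⟨x, hx, by rw [Matrix.toLin'_apply]⟩
  have hMzero : ∀ i j : Fin 6, j ≠ σ i → M j i = 0 := by
    intro i j hj
    rw [hM, LinearMap.toMatrix_apply, Matrix.toLin'_apply]
    exact repr_of_mem_frame6 hF b hb hD hmem (hmap i _ (hmem i)) j hj
  set α : Fin 6 → F := fun i => M (σ i) i with hα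
  have hrepr : ∀ (x : Fin 6 → F) (i : Fin 6),
      b.repr ((g : Matrix (Fin 6) (Fin 6) F) *ᵥ x) (σ i) = α i * b.repr x i := by
    intro x i
    have h1 := LinearMap.toMatrix_mulVec_repr b b
      (Matrix.toLin' (g : Matrix (Fin 6) (Fin 6) F)) x
    rw [Matrix.toLin'_apply] at h1
    have h2 := congrFun h1 (σ i)
    rw [← h2, Matrix.mulVec, dotProduct, Finset.sum_eq_single i]
    · intro i' _ hi'
      rw [← hM, hMzero i' (σ i) (fun h => hi' (σ.injective h).symm), zero_mul]
    · intro h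
      exact absurd (Finset.mem_univ i) h
  have hMMt : M * Mᵀ = Matrix.diagonal (fun j => (α (σ.symm j)) ^ 2) := by
    ext j k
    rw [Matrix.mul_apply, Matrix.diagonal_apply]
    rw [Finset.sum_eq_single (σ.symm j)]
    · rw [Matrix.transpose_apply]
      by_cases hjk : j = k
      · subst hjk
        rw [if_pos rfl, hα]
        simp only [Equiv.apply_symm_apply]
        ring
      · rw [if_neg hjk, hMzero (σ.symm j) k (by rw [Equiv.apply_symm_apply]; exact Ne.symm hjk),
          mul_zero]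
    · intro i _ hi
      rw [hMzero i j (fun h => hi (by rw [h, Equiv.symm_apply_apply])), zero_mul]
    · intro h
      exact absurd (Finset.mem_univ _) h
  have hprod2 : (∏ i, α i) ^ 2 = 1 := by
    have h1 := congrArg Matrix.det hMMt
    rw [Matrix.det_mul, Matrix.det_transpose, hdet, one_mul, Matrix.det_diagonal] at h1
    rw [← Finset.prod_pow, ← Equiv.prod_comp σ.symm (fun i => α i ^ 2)]
    exact h1.symm
  have hprod : (∏ i, α i) = 1 := by
    have h3 : ((∏ i, α i) - 1) ^ 2 = 0 := by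
      linear_combination hprod2 - ((∏ i, α i) - 1) * h2
    exact sub_eq_zero.mp ((pow_eq_zero_iff two_ne_zero).mp h3)
  have hα3 : ∀ i, α i ^ 3 = 1 := by
    intro i
    have h1 := hgU (b i) (b i)
    rw [herm_coord6 hF b hb, hb i i, if_pos rfl] at h1
    rw [Finset.sum_eq_single (σ i)] at h1
    · have h2 := hrepr (b i) i
      rw [b.repr_self, Finsupp.single_eq_same, mul_one] at h2
      rw [h2, hq2] at h1
      rw [← h1]
      ring
    · intro j _ hj
      have : b.repr ((g : Matrix (Fin 6) (Fin 6) F) *ᵥ b i) j = 0 :=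
        repr_of_mem_frame6 hF b hb hD hmem (hmap i _ (hmem i)) j hj
      rw [this, zero_mul]
    · intro h
      exact absurd (Finset.mem_univ _) h
  refine S6_monomial σ (fun i => ψ (α i)) (cvec6 b ψ x) _ ?_ ?_ ?_
  · intro i h0
    have h4 : α i = 0 := (map_eq_zero_iff ψ ψ.injective).1 h0
    have h5 := hα3 i
    rw [h4, zero_pow (by norm_num)] at h5
    exact zero_ne_one h5
  · rw [← map_prod, hprod, map_one]
  · intro i
    unfold cvec6
    rw [hrepr x i, map_mul]

/-- the all-ones matrix minus the identity -/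
def T6 (F : Type*) [Field F] : Matrix (Fin 6) (Fin 6) F :=
  !![0, 1, 1, 1, 1, 1; 1, 0, 1, 1, 1, 1; 1, 1, 0, 1, 1, 1; 1, 1, 1, 0, 1, 1; 1, 1, 1, 1, 0, 1; 1, 1, 1, 1, 1, 0]

theorem t6_mulVec (c : Fin 6 → F) : T6 F *ᵥ c =
    ![c 1 + c 2 + c 3 + c 4 + c 5, c 0 + c 2 + c 3 + c 4 + c 5, c 0 + c 1 + c 3 + c 4 + c 5,
      c 0 + c 1 + c 2 + c 4 + c 5, c 0 + c 1 + c 2 + c 3 + c 5, c 0 + c 1 + c 2 + c 3 + c 4] := by
  funext i
  fin_cases i <;> simp [T6, Matrix.mulVec, dotProduct, Fin.sum_univ_six]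

theorem t6_sq (h2 : (2 : F) = 0) : T6 F * T6 F = 1 := by
  ext i j
  fin_cases i <;> fin_cases j <;> simp [T6, Matrix.mul_apply, Fin.sum_univ_six] <;> norm_num <;>
    linear_combination 2 * h2

theorem t6_det (h2 : (2 : F) = 0) : (T6 F).det = 1 := by
  have h1 := congrArg Matrix.det (t6_sq h2)
  rw [Matrix.det_mul, Matrix.det_one] at h1
  have h3 : ((T6 F).det - 1) ^ 2 = 0 := by
    linear_combination h1 - ((T6 F).det - 1) * h2
  exact sub_eq_zero.mp ((pow_eq_zero_iff two_ne_zero).mp h3)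

include hF hb in
/-- the further involution -/
theorem exists_T6 (h2 : (2 : F) = 0)
    (hD : IsNondegenerateMDecomposition (hermForm 6 F q) 1 D) (hmem : ∀ i, b i ∈ D i) :
    ∃ g : GL (Fin 6) F, g ∈ KS6 b ψ q ∧ g ∉ decompositionStabilizer D := by
  classical
  set L : (Fin 6 → F) →ₗ[F] (Fin 6 → F) := Matrix.toLin b b (T6 F) with hL
  have hdetL : LinearMap.det L = 1 := by
    rw [← LinearMap.det_toMatrix b, hL, LinearMap.toMatrix_toLin, t6_det h2]
  set A : Matrix (Fin 6) (Fin 6) F := LinearMap.toMatrix' L with hA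
  have hdetA : A.det = 1 := by rw [hA, LinearMap.det_toMatrix', hdetL]
  have hAx : ∀ x, A *ᵥ x = L x := by
    intro x
    rw [hA, ← Matrix.toLin'_apply, Matrix.toLin'_toMatrix']
  have hrepr : ∀ x i, b.repr (L x) i = (T6 F *ᵥ (fun j => b.repr x j)) i := by
    intro x i
    have h1 := LinearMap.toMatrix_mulVec_repr b b L x
    rw [hL, LinearMap.toMatrix_toLin] at h1
    rw [hL]
    exact (congrFun h1 i).symm
  have hr0 : ∀ x, b.repr (L x) 0 = b.repr x 1 + b.repr x 2 + b.repr x 3 + b.repr x 4 + b.repr x 5 := by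
    intro x
    rw [hrepr, t6_mulVec]
    rfl
  have hr1 : ∀ x, b.repr (L x) 1 = b.repr x 0 + b.repr x 2 + b.repr x 3 + b.repr x 4 + b.repr x 5 := by
    intro x
    rw [hrepr, t6_mulVec]
    rfl
  have hr2 : ∀ x, b.repr (L x) 2 = b.repr x 0 + b.repr x 1 + b.repr x 3 + b.repr x 4 + b.repr x 5 := by
    intro x
    rw [hrepr, t6_mulVec]
    rfl
  have hr3 : ∀ x, b.repr (L x) 3 = b.repr x 0 + b.repr x 1 + b.repr x 2 + b.repr x 4 + b.repr x 5 := by
    intro x
    rw [hrepr, t6_mulVec]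
    rfl
  have hr4 : ∀ x, b.repr (L x) 4 = b.repr x 0 + b.repr x 1 + b.repr x 2 + b.repr x 3 + b.repr x 5 := by
    intro x
    rw [hrepr, t6_mulVec]
    rfl
  have hr5 : ∀ x, b.repr (L x) 5 = b.repr x 0 + b.repr x 1 + b.repr x 2 + b.repr x 3 + b.repr x 4 := by
    intro x
    rw [hrepr, t6_mulVec]
    rfl
  set g : GL (Fin 6) F := Matrix.GeneralLinearGroup.mk'' A (by rw [hdetA]; exact isUnit_one)
    with hg
  have hgval : (g : Matrix (Fin 6) (Fin 6) F) = A := rfl
  have hgU : g ∈ Cfsg.GU 6 F q := by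
    intro u v
    show hermForm 6 F q (A *ᵥ u) (A *ᵥ v) = hermForm 6 F q u v
    rw [hAx, hAx, herm_coord6 hF b hb, herm_coord6 hF b hb u v, Fin.sum_univ_six,
      Fin.sum_univ_six, hr0, hr1, hr2, hr3, hr4, hr5, hr0, hr1, hr2, hr3, hr4, hr5]
    simp only [pow_q_add hF]
    linear_combination (2 * (b.repr u 0 + b.repr u 1 + b.repr u 2 + b.repr u 3 + b.repr u 4 + b.repr u 5) *
      ((b.repr v 0) ^ q + (b.repr v 1) ^ q + (b.repr v 2) ^ q + (b.repr v 3) ^ q + (b.repr v 4) ^ q + (b.repr v 5) ^ q)) * h2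
  have hgSL : g ∈ specialLinear (Fin 6) F := by
    rw [Cfsg.Agent.Lib.Helper5.LinDecompForm.mem_SL_iff, hgval, hdetA]
  refine ⟨g, ⟨⟨hgU, hgSL⟩, ?_⟩, ?_⟩
  · intro x
    rw [hgval, hAx, ← S6_tt (cvec6 b ψ x)]
    congr 1
    funext i
    unfold cvec6 tt
    fin_cases i
    · show ψ (b.repr (L x) 0) = _
      rw [hr0]
      simp [map_add]
    · show ψ (b.repr (L x) 1) = _
      rw [hr1]
      simp [map_add]
    · show ψ (b.repr (L x) 2) = _
      rw [hr2]
      simp [map_add]
    · show ψ (b.repr (L x) 3) = _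
      rw [hr3]
      simp [map_add]
    · show ψ (b.repr (L x) 4) = _
      rw [hr4]
      simp [map_add]
    · show ψ (b.repr (L x) 5) = _
      rw [hr5]
      simp [map_add]
  · intro hstab
    obtain ⟨j, hj⟩ := stab_map_mem g hstab (hmem 0)
    rw [hgval, hAx] at hj
    have h1 : b.repr (L (b 0)) 1 = 1 := by
      rw [hr1]
      simp [Finsupp.single_apply]
    have h2' : b.repr (L (b 0)) 2 = 1 := by
      rw [hr2]
      simp [Finsupp.single_apply]
    by_cases hj1 : j = 1
    · have := repr_of_mem_frame6 hF b hb hD hmem hj 2 (by rw [hj1]; decide)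
      rw [h2'] at this
      exact one_ne_zero this
    · have := repr_of_mem_frame6 hF b hb hD hmem hj 1 (fun h => hj1 h.symm)
      rw [h1] at this
      exact one_ne_zero this

include hF hb in
/-- a transvection outside the stabiliser of the 126 points -/
theorem exists_not_KS6 (hq2 : q = 2) (h2 : (2 : F) = 0) :
    ∃ g : GL (Fin 6) F, g ∈ SUg 6 F q ∧ g ∉ KS6 b ψ q := by
  classical
  obtain ⟨c, hc0, hc⟩ := exists_c hF
  set u : Fin 6 → F := b 0 + b 1 + b 2 + b 3 with hu
  have hru : ∀ i, b.repr u i = if i = 0 then 1 else if i = 1 then 1 else if i = 2 then 1 else if i = 3 then 1 else 0 := by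
    intro i
    rw [hu]
    simp only [map_add, Module.Basis.repr_self, Finsupp.add_apply, Finsupp.single_apply]
    fin_cases i <;> simp
  have hq0 : q ≠ 0 := by omega
  have huu : hermForm 6 F q u u = 0 := by
    rw [herm_coord6 hF b hb, Fin.sum_univ_six, hru, hru, hru, hru, hru, hru]
    simp [hq0]
    linear_combination 2 * h2
  obtain ⟨g, hgS, hgx⟩ := exists_tv hF u huu c hc
  refine ⟨g, hgS, ?_⟩
  rintro ⟨-, h⟩
  have h1 := h (b 3 + b 5)
  have hxu : hermForm 6 F q (b 3 + b 5) u = 1 := by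
    rw [herm_coord6 hF b hb, Fin.sum_univ_six, hru, hru, hru, hru, hru, hru]
    simp [hq0, Finsupp.single_apply]
  rw [hgx, hxu, mul_one] at h1
  have e1 : cvec6 b ψ (b 3 + b 5 + c • u) = ![ψ c, ψ c, ψ c, ψ (1 + c), 0, 1] := by
    funext i
    unfold cvec6
    rw [map_add, map_smul, Finsupp.add_apply, Finsupp.smul_apply, hru, smul_eq_mul]
    simp only [map_add, Module.Basis.repr_self, Finsupp.add_apply, Finsupp.single_apply]
    fin_cases i <;> simp
  have e2 : cvec6 b ψ (b 3 + b 5) = ![0, 0, 0, 1, 0, 1] := by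
    funext i
    unfold cvec6
    simp only [map_add, Module.Basis.repr_self, Finsupp.add_apply, Finsupp.single_apply]
    fin_cases i <;> simp
  rw [e1, e2, S6_eq, S6_eq] at h1
  have h3 : S6c (ψ c) (ψ c) (ψ c) (ψ (1 + c)) 0 1 = false :=
    S6c_bad _ _ (fun h0 => hc0 ((map_eq_zero_iff ψ ψ.injective).1 h0))
  have h4 : S6c 0 0 0 1 0 1 = true := S6c_good
  have h5 : S6c (ψ c) (ψ c) (ψ c) (ψ (1 + c)) 0 1 = S6c 0 0 0 1 0 1 := h1
  rw [h3, h4] at h5
  exact Bool.false_ne_true h5

include hF in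
theorem frame_two_not_max6 (hq2 : q = 2)
    (hD : IsNondegenerateMDecomposition (hermForm 6 F q) 1 D) :
    ∃ K : Subgroup (GL (Fin 6) F),
      decompositionStabilizer D ⊓ SUg 6 F q < K ∧ K < SUg 6 F q := by
  classical
  obtain ⟨b, hmem, hb⟩ := exists_orthonormal_frame6 hF hD
  have hF4 : Fintype.card F = 2 ^ 2 := by rw [hF, hq2]
  have h2 : (2 : F) = 0 := two_eq_zero hF4
  set ψ : F ≃+* F4 := phi hF4 with hψ
  refine ⟨KS6 b ψ q, ?_, ?_⟩
  · refine lt_of_le_of_ne (stab_le_KS6 hF b hb ψ hq2 h2 hD hmem) ?_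
    intro heq
    obtain ⟨g, hg1, hg2⟩ := exists_T6 hF b hb ψ h2 hD hmem
    rw [← heq] at hg1
    exact hg2 hg1.1
  · refine lt_of_le_of_ne (fun g hg => hg.1) ?_
    intro heq
    obtain ⟨g, hg1, hg2⟩ := exists_not_KS6 hF b hb ψ hq2 h2
    rw [← heq] at hg1
    exact hg2 hg1

end frame

end Cfsg.Agent.Lib.Helper4.SU6
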