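import Mathlib
import Cfsg.Prelude
import Cfsg.Agent.Lib.Helper3.MaxU8
import Cfsg.Agent.Lib.Helper3.MaxU9
import Cfsg.Agent.Lib.Helper3.MaxC8
import Cfsg.Agent.Lib.Helper4.SU6j
import Cfsg.Agent.Lib.Helper4.SU6l

set_option autoImplicit false
set_option maxHeartbeats 4000000
set_option maxRecDepth 100000
set_option linter.unusedVariables false
set_option linter.unusedSectionVars false
set_option linter.style.haveILetI false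
set_option linter.style.longLine false
set_option linter.deprecated false

/-! The maximal subgroups of the special unitary groups in dimension 6. -/

namespace Cfsg.Agent.Lib.Helper4.SU6

open Matrix Cfsg Cfsg.Geo Module
open Cfsg.Agent.Lib.Helper3 Cfsg.Agent.Lib.Helper3.MaxU

theorem row6 {F : Type*} [Field F] [Fintype F] (q : ℕ) (hF : Fintype.card F = q ^ 2) (H : Subgroup (Matrix.GeneralLinearGroup (Fin 6) F)) (hH : Cfsg.Geo.IsMaximalIn (Cfsg.GU 6 F q ⊓ Cfsg.Geo.specialLinear (Fin 6) F) H)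
    (hA : (∃ M : Subgroup (Matrix.GeneralLinearGroup (Fin 6) F), Cfsg.Geo.InUnitaryClass 6 F q M ∧ H ≤ M) ∨ Cfsg.Geo.InUnitaryResidualClass H) :
    (∃ W : Submodule F (Fin 6 → F), W ≠ ⊥ ∧ Cfsg.Geo.IsTotallySingularFor (Cfsg.hermForm 6 F q) W ∧ H = Cfsg.Geo.subspaceStabilizer W ⊓ (Cfsg.GU 6 F q ⊓ Cfsg.Geo.specialLinear (Fin 6) F)) ∨
    (∃ W : Submodule F (Fin 6 → F), W ≠ ⊥ ∧ Cfsg.Geo.IsNondegenerateOn (Cfsg.hermForm 6 F q) W ∧ 2 * Module.finrank F W < 6 ∧ H = Cfsg.Geo.subspaceStabilizer W ⊓ (Cfsg.GU 6 F q ⊓ Cfsg.Geo.specialLinear (Fin 6) F)) ∨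
    (3 ≤ q ∧ ∃ D : Fin 6 → Submodule F (Fin 6 → F), Cfsg.Geo.IsNondegenerateMDecomposition (Cfsg.hermForm 6 F q) 1 D ∧ H = Cfsg.Geo.decompositionStabilizer D ⊓ (Cfsg.GU 6 F q ⊓ Cfsg.Geo.specialLinear (Fin 6) F)) ∨
    (3 ≤ q ∧ ∃ D : Fin 3 → Submodule F (Fin 6 → F), Cfsg.Geo.IsNondegenerateMDecomposition (Cfsg.hermForm 6 F q) 2 D ∧ H = Cfsg.Geo.decompositionStabilizer D ⊓ (Cfsg.GU 6 F q ⊓ Cfsg.Geo.specialLinear (Fin 6) F)) ∨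
    (∃ D : Fin 2 → Submodule F (Fin 6 → F), Cfsg.Geo.IsNondegenerateMDecomposition (Cfsg.hermForm 6 F q) 3 D ∧ H = Cfsg.Geo.decompositionStabilizer D ⊓ (Cfsg.GU 6 F q ⊓ Cfsg.Geo.specialLinear (Fin 6) F)) ∨
    (∃ D : Fin 2 → Submodule F (Fin 6 → F), Cfsg.Geo.IsMDecomposition 3 D ∧ (∀ i, Cfsg.Geo.IsTotallySingularFor (Cfsg.hermForm 6 F q) (D i)) ∧ H = Cfsg.Geo.decompositionStabilizer D ⊓ (Cfsg.GU 6 F q ⊓ Cfsg.Geo.specialLinear (Fin 6) F)) ∨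
    (3 ≤ q ∧ ∃ K : Subalgebra F (Matrix (Fin 6) (Fin 6) F), Cfsg.Geo.IsFieldSubalgebra 3 K ∧ Cfsg.Geo.IsAdjointClosedFor (Cfsg.hermForm 6 F q) K ∧ H = Cfsg.Geo.subalgebraNormalizer K ⊓ (Cfsg.GU 6 F q ⊓ Cfsg.Geo.specialLinear (Fin 6) F)) ∨
    (3 ≤ q ∧ ∃ (e : Fin 6 ≃ Fin 2 × Fin 3) (P : Matrix.GeneralLinearGroup (Fin 6) F) (f₁ : (Fin 2 → F) → (Fin 2 → F) → F) (f₂ : (Fin 3 → F) → (Fin 3 → F) → F), Cfsg.Geo.IsUnitaryFormPow q f₁ ∧ Cfsg.Geo.IsUnitaryFormPow q f₂ ∧ Cfsg.Geo.IsTensorFormStructure (fun x : F => x ^ q) (Cfsg.hermForm 6 F q) f₁ f₂ e P ∧ H = Cfsg.Geo.tensorProductSubgroup 2 3 e P ⊓ (Cfsg.GU 6 F q ⊓ Cfsg.Geo.specialLinear (Fin 6) F)) ∨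
    (∃ (F₀ : Subfield F) (r : ℕ) (P : Matrix.GeneralLinearGroup (Fin 6) F), r.Prime ∧ Odd r ∧ Fintype.card F = Nat.card F₀ ^ r ∧ Cfsg.Geo.IsFormRationalStructure (Cfsg.hermForm 6 F q) F₀ 1 P ∧ H = Cfsg.Geo.subfieldSubgroup F₀ P ⊓ (Cfsg.GU 6 F q ⊓ Cfsg.Geo.specialLinear (Fin 6) F)) ∨
    (∃ (F₀ : Subfield F) (P : Matrix.GeneralLinearGroup (Fin 6) F) (ζ : F), Fintype.card F = Nat.card F₀ ^ 2 ∧ ζ ≠ 0 ∧ ζ + ζ ^ q = 0 ∧ Cfsg.Geo.IsFormRationalStructure (Cfsg.hermForm 6 F q) F₀ ζ P ∧ (∀ u : Fin 6 → F, (∀ i, u i ∈ F₀) → (Cfsg.hermForm 6 F q) (Matrix.mulVec (P : Matrix (Fin 6) (Fin 6) F) u) (Matrix.mulVec (P : Matrix (Fin 6) (Fin 6) F) u) = 0) ∧ H = Cfsg.Geo.subfieldSubgroup F₀ P ⊓ (Cfsg.GU 6 F q ⊓ Cfsg.Geo.specialLinear (Fin 6) F)) ∨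
    (Odd q ∧ ∃ (F₀ : Subfield F) (P : Matrix.GeneralLinearGroup (Fin 6) F), Fintype.card F = Nat.card F₀ ^ 2 ∧ Cfsg.Geo.IsFormRationalStructure (Cfsg.hermForm 6 F q) F₀ 1 P ∧ H = Cfsg.Geo.subfieldSubgroup F₀ P ⊓ (Cfsg.GU 6 F q ⊓ Cfsg.Geo.specialLinear (Fin 6) F)) ∨
    Cfsg.Geo.InUnitaryResidualClass H := by
  classical
  have hq1 : 1 < q := one_lt_q hF
  have hnotmax : ∀ K : Subgroup (Matrix.GeneralLinearGroup (Fin 6) F),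
      H < K → K < SUg 6 F q → False := by
    intro K h1 h2
    rcases hH.2 K h1.le h2.le with h | h
    · exact absurd h (ne_of_gt h1)
    · exact absurd h (ne_of_lt h2)
  rcases cases_of_max hF (by norm_num) H hH hA with
    ⟨W, h0, hts, hW⟩ | ⟨W, h0, hnd, hlt, hW⟩ | ⟨t, k, D, hD, htk, hs, hHD⟩ |
    ⟨k, D, h2k, hD, hts, hHD⟩ | ⟨F₀, r, P, hr, hodd, hcard, hrat, hHS⟩ |
    ⟨F₀, P, hodd, hcard, hrat, hHS⟩ | ⟨F₀, P, ζ, hev, hcard, hζ0, hζ, hrat, hiso, hHS⟩ |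
    ⟨r, R, p, e, k, hR, hirr, hsim, hrp, ⟨hnk, hp, hchar, hcase⟩, hHR⟩ |
    ⟨r, K, hr, hodd, hrn, hK, hadj, hHK⟩ |
    ⟨n₁, n₂, e, P, f₁, f₂, h1, h2, h12, hs, hf₁, hf₂, hT, hHT⟩ |
    ⟨k, t, e, P, f₁, hk, ht, hkt, hqk, hf₁, hT, hHle, hHW⟩ | hres
  · exact Or.inl ⟨W, h0, hts, hW⟩
  · exact Or.inr (Or.inl ⟨W, h0, hnd, hlt, hW⟩)
  · rcases fac6 hD.decomp.two_le hD.decomp.pos htk with ⟨rfl, rfl⟩ | ⟨rfl, rfl⟩ | ⟨rfl, rfl⟩
    ·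
      iterate 2 right
      left
      refine ⟨?_, D, hD, hHD⟩
      by_contra hq3
      have hq2 : q = 2 := by omega
      obtain ⟨K, hK1, hK2⟩ := frame_two_not_max6 hF hq2 hD
      rw [← hHD] at hK1
      exact hnotmax K hK1 hK2
    ·
      iterate 3 right
      left
      exact ⟨by omega, D, hD, hHD⟩
    ·
      iterate 4 right
      left
      exact ⟨D, hD, hHD⟩
  · have hk3 : k = 3 := by omega
    subst hk3
    iterate 5 right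
    left
    exact ⟨D, hD, hts, hHD⟩
  ·
    iterate 8 right
    left
    exact ⟨F₀, r, P, hr, hodd, hcard, hrat, hHS⟩
  ·
    iterate 10 right
    left
    exact ⟨hodd, F₀, P, hcard, hrat, hHS⟩
  ·
    iterate 9 right
    left
    exact ⟨F₀, P, ζ, hcard, hζ0, hζ, hrat, hiso, hHS⟩
  · exfalso
    have h2 : (2 : ℕ) ∣ r ^ k := by
      rw [← hnk]
      norm_num
    have h3 : (3 : ℕ) ∣ r ^ k := by
      rw [← hnk]
      norm_num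
    exact MaxC.prime_pow_absurd hR.prime Nat.prime_two (by norm_num) (by norm_num) h2 h3
  · have hr3 : r = 3 := by
      have hle := Nat.le_of_dvd (by norm_num) hrn
      have h2 := hr.two_le
      rcases hodd with ⟨j, hj⟩
      interval_cases r <;> omega
    subst hr3
    iterate 6 right
    left
    refine ⟨?_, K, hK, hadj, hHK⟩
    by_contra hq3
    have hq2 : q = 2 := by omega
    subst hq2
    rw [hHK] at hH
    exact field_not_maximal6 hF K hK hadj hH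
  · obtain ⟨rfl, rfl⟩ := ten6 h1 h2 h12
    iterate 7 right
    left
    exact ⟨by omega, e, P, f₁, f₂, hf₁, hf₂, hT, hHT⟩
  · exfalso
    have h9 := MaxC.nine_le_pow hk ht
    omega
  · iterate 11 right
    exact hres

end Cfsg.Agent.Lib.Helper4.SU6
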