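import Cfsg.Agent.Lib.Helper4.ScalarRes4

set_option autoImplicit false

/-! Extension of scalars: the minus-type orthogonal group over `F_q` inside the plus-type orthogonal
group over `F_{q²}`. (helper4) -/

namespace Cfsg.Agent.Lib.Helper4.ScalarRes

open Cfsg

section QuadMinusExt

variable {F K : Type*} [Field F] [Field K] [Algebra F K] (k : ℕ) (a c : F)

/-- the hyperbolic part of `quadFormMinus` -/
def hypPart {R : Type*} [CommRing R] (u : (Fin k ⊕ Fin k) ⊕ Fin 2 → R) : R :=
  ∑ i : Fin k, u (.inl (.inl i)) * u (.inl (.inr i))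

/-- the binary part -/
def binPart {R : Type*} [CommRing R] (a c : R) (u : (Fin k ⊕ Fin k) ⊕ Fin 2 → R) : R :=
  u (.inr 0) ^ 2 + a * u (.inr 0) * u (.inr 1) + c * u (.inr 1) ^ 2

theorem quadFormMinus_eq {R : Type*} [Field R] (a c : R) (u : (Fin k ⊕ Fin k) ⊕ Fin 2 → R) :
    quadFormMinus k R a c u = hypPart k u + binPart k a c u := rfl

/-- polar form of `quadFormMinus` -/
def polarMinus (u v : (Fin k ⊕ Fin k) ⊕ Fin 2 → F) : F :=
  quadFormMinus k F a c (u + v) - quadFormMinus k F a c u - quadFormMinus k F a c v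

theorem hypPart_ext (θ : K) (u v : (Fin k ⊕ Fin k) ⊕ Fin 2 → F) :
    hypPart k (fun i => algebraMap F K (u i) + θ * algebraMap F K (v i)) =
      algebraMap F K (hypPart k u) +
        θ * algebraMap F K (hypPart k (u + v) - hypPart k u - hypPart k v) +
        θ ^ 2 * algebraMap F K (hypPart k v) := by
  unfold hypPart
  have h : ∀ i : Fin k,
      (algebraMap F K (u (.inl (.inl i))) + θ * algebraMap F K (v (.inl (.inl i)))) *
        (algebraMap F K (u (.inl (.inr i))) + θ * algebraMap F K (v (.inl (.inr i)))) =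
      algebraMap F K (u (.inl (.inl i)) * u (.inl (.inr i))) +
        θ * (algebraMap F K ((u + v) (.inl (.inl i)) * (u + v) (.inl (.inr i))) -
          algebraMap F K (u (.inl (.inl i)) * u (.inl (.inr i))) -
          algebraMap F K (v (.inl (.inl i)) * v (.inl (.inr i)))) +
        θ ^ 2 * algebraMap F K (v (.inl (.inl i)) * v (.inl (.inr i))) := by
    intro i
    simp only [Pi.add_apply, map_add, map_mul]
    ring
  rw [Finset.sum_congr rfl (fun i _ => h i)]
  rw [Finset.sum_add_distrib, Finset.sum_add_distrib, ← Finset.mul_sum, ← Finset.mul_sum,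
    Finset.sum_sub_distrib, Finset.sum_sub_distrib]
  simp only [map_sum, map_sub]

theorem binPart_ext (θ : K) (u v : (Fin k ⊕ Fin k) ⊕ Fin 2 → F) :
    binPart k (algebraMap F K a) (algebraMap F K c)
        (fun i => algebraMap F K (u i) + θ * algebraMap F K (v i)) =
      algebraMap F K (binPart k a c u) +
        θ * algebraMap F K (binPart k a c (u + v) - binPart k a c u - binPart k a c v) +
        θ ^ 2 * algebraMap F K (binPart k a c v) := by
  unfold binPart
  simp only [Pi.add_apply, map_add, map_mul, map_sub, map_pow]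
  ring

theorem quadFormMinus_ext (θ : K) (u v : (Fin k ⊕ Fin k) ⊕ Fin 2 → F) :
    quadFormMinus k K (algebraMap F K a) (algebraMap F K c)
        (fun i => algebraMap F K (u i) + θ * algebraMap F K (v i)) =
      algebraMap F K (quadFormMinus k F a c u) + θ * algebraMap F K (polarMinus k a c u v) +
        θ ^ 2 * algebraMap F K (quadFormMinus k F a c v) := by
  unfold polarMinus
  rw [quadFormMinus_eq, quadFormMinus_eq, quadFormMinus_eq, quadFormMinus_eq, hypPart_ext,
    binPart_ext]
  simp only [map_add, map_sub]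
  ring

end QuadMinusExt

namespace QD

variable {F K : Type*} [Field F] [Field K] [Algebra F K] {q : ℕ} {a b : F} (Q : QD F K q a b)

/-- every `K`-vector is `u + θ v` with `u`, `v` over `F` -/
theorem vec_decomp {ι : Type*} (w : ι → K) :
    w = fun i => algebraMap F K (Q.c0 (w i)) + Q.θ * algebraMap F K (Q.c1 (w i)) := by
  funext i
  have := Q.e_c (w i)
  rw [e_apply] at this
  rw [mul_comm]
  exact this.symm

theorem map_mulVec_decomp {ι : Type*} [Fintype ι] (g : Matrix ι ι F) (u v : ι → F) :
    Matrix.mulVec (g.map (algebraMap F K))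
        (fun i => algebraMap F K (u i) + Q.θ * algebraMap F K (v i)) =
      fun i => algebraMap F K (Matrix.mulVec g u i) + Q.θ * algebraMap F K (Matrix.mulVec g v i) := by
  have h1 : (fun i => algebraMap F K (u i) + Q.θ * algebraMap F K (v i)) =
      (algebraMap F K ∘ u) + Q.θ • (algebraMap F K ∘ v) := by
    funext i; simp
  rw [h1, Matrix.mulVec_add, Matrix.mulVec_smul]
  funext i
  simp only [Pi.add_apply, Pi.smul_apply, smul_eq_mul]
  rw [← RingHom.map_mulVec, ← RingHom.map_mulVec]

include Q in
/-- the extended matrix preserves the extended form -/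
theorem map_preserves (k : ℕ) (g : Matrix ((Fin k ⊕ Fin k) ⊕ Fin 2) ((Fin k ⊕ Fin k) ⊕ Fin 2) F)
    (hg : ∀ u, quadFormMinus k F a b (Matrix.mulVec g u) = quadFormMinus k F a b u)
    (w : (Fin k ⊕ Fin k) ⊕ Fin 2 → K) :
    quadFormMinus k K (algebraMap F K a) (algebraMap F K b)
        (Matrix.mulVec (g.map (algebraMap F K)) w) =
      quadFormMinus k K (algebraMap F K a) (algebraMap F K b) w := by
  have hpol : ∀ u v, polarMinus k a b (Matrix.mulVec g u) (Matrix.mulVec g v) = polarMinus k a b u v := by
    intro u v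
    unfold polarMinus
    rw [← Matrix.mulVec_add, hg, hg, hg]
  rw [Q.vec_decomp w, map_mulVec_decomp, quadFormMinus_ext, quadFormMinus_ext, hg, hg, hpol]

/-- the isometry from the extended minus-type space to the plus-type space -/
noncomputable def RM (hne' : Q.fr Q.θ ≠ Q.θ) (k : ℕ) :
    ((Fin k ⊕ Fin k) ⊕ Fin 2 → K) ≃ₗ[K] (Fin (k + 1) ⊕ Fin (k + 1) → K) where
  toFun w := Sum.elim
    (Fin.snoc (fun i : Fin k => w (.inl (.inl i))) (w (.inr 0) + Q.θ * w (.inr 1)))
    (Fin.snoc (fun i : Fin k => w (.inl (.inr i))) (w (.inr 0) + Q.fr Q.θ * w (.inr 1)))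
  invFun x := Sum.elim
    (Sum.elim (fun i => x (.inl i.castSucc)) (fun i => x (.inr i.castSucc)))
    (fun r : Fin 2 => if r = 0 then
        x (.inl (Fin.last k)) - Q.θ * ((x (.inl (Fin.last k)) - x (.inr (Fin.last k))) / (Q.θ - Q.fr Q.θ))
      else (x (.inl (Fin.last k)) - x (.inr (Fin.last k))) / (Q.θ - Q.fr Q.θ))
  left_inv w := by
    have hne : Q.θ - Q.fr Q.θ ≠ 0 := sub_ne_zero.mpr (Ne.symm hne')
    funext i
    rcases i with (i | i) | r
    · simp [Fin.snoc_castSucc]
    · simp [Fin.snoc_castSucc]
    · fin_cases r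
      · simp only [Fin.zero_eta, Fin.isValue, Sum.elim_inr, ↓reduceIte, Sum.elim_inl,
          Fin.snoc_last]
        field_simp
        ring
      · simp only [Fin.mk_one, Fin.isValue, Sum.elim_inr, one_ne_zero, ↓reduceIte, Sum.elim_inl,
          Fin.snoc_last]
        field_simp
        ring
  right_inv x := by
    have hne : Q.θ - Q.fr Q.θ ≠ 0 := sub_ne_zero.mpr (Ne.symm hne')
    funext i
    rcases i with i | i
    · refine Fin.lastCases ?_ (fun j => ?_) i
      · simp only [Sum.elim_inl, Fin.snoc_last, Sum.elim_inr, Fin.isValue, ↓reduceIte,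
          one_ne_zero]
        ring
      · simp [Fin.snoc_castSucc]
    · refine Fin.lastCases ?_ (fun j => ?_) i
      · simp only [Sum.elim_inl, Fin.snoc_last, Sum.elim_inr, Fin.isValue, ↓reduceIte,
          one_ne_zero]
        field_simp
        ring
      · simp [Fin.snoc_castSucc]
  map_add' w w' := by
    funext i
    rcases i with i | i
    · refine Fin.lastCases ?_ (fun j => ?_) i
      · simp only [Sum.elim_inl, Fin.snoc_last, Pi.add_apply]; ring
      · simp [Fin.snoc_castSucc]
    · refine Fin.lastCases ?_ (fun j => ?_) i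
      · simp only [Sum.elim_inr, Fin.snoc_last, Pi.add_apply]; ring
      · simp [Fin.snoc_castSucc]
  map_smul' t w := by
    funext i
    rcases i with i | i
    · refine Fin.lastCases ?_ (fun j => ?_) i
      · simp only [Sum.elim_inl, Fin.snoc_last, Pi.smul_apply, smul_eq_mul, RingHom.id_apply]; ring
      · simp [Fin.snoc_castSucc]
    · refine Fin.lastCases ?_ (fun j => ?_) i
      · simp only [Sum.elim_inr, Fin.snoc_last, Pi.smul_apply, smul_eq_mul, RingHom.id_apply]; ring
      · simp [Fin.snoc_castSucc]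

end QD

end Cfsg.Agent.Lib.Helper4.ScalarRes
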