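import Cfsg.Agent.Lib.Helper4.ScalarExt1

set_option autoImplicit false

/-! The embedding `O⁻_{2m}(q) → O⁺_{2m}(q²)`. (helper4) -/

namespace Cfsg.Agent.Lib.Helper4.ScalarRes

open Cfsg

namespace QD

variable {F K : Type*} [Field F] [Field K] [Algebra F K] {q : ℕ} {a b : F} (Q : QD F K q a b)

theorem theta_mul_fr : Q.θ * Q.fr Q.θ = algebraMap F K b := by
  rw [Q.hfrθ]
  linear_combination (-1 : K) * Q.hθ

theorem RM_apply (hne' : Q.fr Q.θ ≠ Q.θ) (k : ℕ) (w : (Fin k ⊕ Fin k) ⊕ Fin 2 → K) :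
    Q.RM hne' k w = Sum.elim
      (Fin.snoc (fun i : Fin k => w (.inl (.inl i))) (w (.inr 0) + Q.θ * w (.inr 1)))
      (Fin.snoc (fun i : Fin k => w (.inl (.inr i))) (w (.inr 0) + Q.fr Q.θ * w (.inr 1))) := rfl

theorem quadFormPlus_RM (hne' : Q.fr Q.θ ≠ Q.θ) (k : ℕ) (w : (Fin k ⊕ Fin k) ⊕ Fin 2 → K) :
    quadFormPlus (k + 1) K (Q.RM hne' k w) =
      quadFormMinus k K (algebraMap F K a) (algebraMap F K b) w := by
  unfold quadFormPlus quadFormMinus
  rw [Fin.sum_univ_castSucc]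
  have h1 : ∀ i : Fin k, Q.RM hne' k w (Sum.inl i.castSucc) = w (.inl (.inl i)) := by
    intro i
    rw [RM_apply, Sum.elim_inl, Fin.snoc_castSucc]
  have h2 : ∀ i : Fin k, Q.RM hne' k w (Sum.inr i.castSucc) = w (.inl (.inr i)) := by
    intro i
    rw [RM_apply, Sum.elim_inr, Fin.snoc_castSucc]
  have h3 : Q.RM hne' k w (Sum.inl (Fin.last k)) = w (.inr 0) + Q.θ * w (.inr 1) := by
    rw [RM_apply, Sum.elim_inl, Fin.snoc_last]
  have h4 : Q.RM hne' k w (Sum.inr (Fin.last k)) = w (.inr 0) + Q.fr Q.θ * w (.inr 1) := by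
    rw [RM_apply, Sum.elim_inr, Fin.snoc_last]
  simp only [h1, h2, h3, h4]
  congr 1
  have h5 := Q.theta_mul_fr
  have h6 := Q.hfrθ
  rw [h6] at h5 ⊢
  linear_combination (w (.inr 1)) ^ 2 * h5

include Q in
theorem exists_Ominus_embedding (hne' : Q.fr Q.θ ≠ Q.θ) (k : ℕ) :
    ∃ φ : ↥(Cfsg.isometryGroup F (Cfsg.quadFormMinus k F a b)) →*
        ↥(Cfsg.isometryGroup K (Cfsg.quadFormPlus (k + 1) K)), Function.Injective φ := by
  let T := (Q.RM hne' k).symm
  let ψ : Matrix ((Fin k ⊕ Fin k) ⊕ Fin 2) ((Fin k ⊕ Fin k) ⊕ Fin 2) F →*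
      Matrix (Fin (k + 1) ⊕ Fin (k + 1)) (Fin (k + 1) ⊕ Fin (k + 1)) K :=
    { toFun := fun g => conjMat T (g.map (algebraMap F K))
      map_one' := by
        rw [Matrix.map_one _ (map_zero _) (map_one _), conjMat_one]
      map_mul' := fun g g' => by
        rw [Matrix.map_mul, conjMat_mul] }
  have hψinj : Function.Injective ψ := by
    intro g g' h
    have h1 : g.map (algebraMap F K) = g'.map (algebraMap F K) := conjMat_injective T h
    exact Matrix.map_injective (algebraMap F K).injective h1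
  have hQT : ∀ y, quadFormPlus (k + 1) K y =
      quadFormMinus k K (algebraMap F K a) (algebraMap F K b) (T y) := by
    intro y
    have := Q.quadFormPlus_RM hne' k (T y)
    rw [← this]
    show _ = quadFormPlus (k + 1) K ((Q.RM hne' k) ((Q.RM hne' k).symm y))
    rw [LinearEquiv.apply_symm_apply]
  have hmem : ∀ g : ↥(Cfsg.isometryGroup F (Cfsg.quadFormMinus k F a b)),
      Units.map ψ (g : Matrix.GeneralLinearGroup _ F) ∈
        Cfsg.isometryGroup K (Cfsg.quadFormPlus (k + 1) K) := by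
    intro g x _
    show quadFormPlus (k + 1) K (Matrix.mulVec (conjMat T _) x) = quadFormPlus (k + 1) K x
    rw [hQT, hQT, conjMat_mulVec]
    apply Q.map_preserves k
    intro u
    exact g.2 u u
  refine ⟨((Units.map ψ).comp (Subgroup.subtype _)).codRestrict _ hmem, ?_⟩
  intro g g' h
  have h1 : Units.map ψ (g : Matrix.GeneralLinearGroup _ F) =
      Units.map ψ (g' : Matrix.GeneralLinearGroup _ F) := congrArg Subtype.val h
  apply Subtype.ext
  exact Units.map_injective hψinj h1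

end QD

theorem exists_QD_ne {F K : Type*} [Field F] [Fintype F] [Field K] [Fintype K] {q : ℕ}
    (hF : Fintype.card F = q) (hK : Fintype.card K = q ^ 2) (a b : F)
    (hab : ∀ z₁ z₂ : F, z₁ ^ 2 + a * z₁ * z₂ + b * z₂ ^ 2 = 0 → z₁ = 0 ∧ z₂ = 0) :
    ∃ (inst : Algebra F K) (Q : @QD F K _ _ inst q a b), Q.fr Q.θ ≠ Q.θ := by
  obtain ⟨D⟩ := Cfsg.Agent.Lib.Helper5.QuadExt.nonempty_data (K := K) hF hK a b hab
  refine ⟨D.j.toAlgebra, ?_⟩
  letI : Algebra F K := D.j.toAlgebra
  refine ⟨{ θ := D.θ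
            hθ := D.hθ
            fr := D.frob
            hfr := D.frob_apply
            hfrθ := D.frob_theta
            hfix := D.frob_j
            hbij := by
              constructor
              · rintro ⟨z0, z1⟩ ⟨w0, w1⟩ h
                obtain ⟨h1, h2⟩ := D.coord_injective z0 z1 w0 w1 h
                rw [h1, h2]
              · intro z
                obtain ⟨z0, z1, h⟩ := D.coord_surjective z
                exact ⟨(z0, z1), h⟩ }, ?_⟩
  intro h
  obtain ⟨t, ht⟩ := D.mem_range_of_frob D.θ h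
  exact D.theta_ne t ht

end Cfsg.Agent.Lib.Helper4.ScalarRes
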