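import Cfsg.Agent.Lib.Helper5.QuadExt
import Cfsg.Agent.Lib.Helper5.SympBridge

set_option autoImplicit false

/-! Restriction of scalars for matrix groups: transporting a matrix over an extension field along
an identification of the underlying spaces. (helper4) -/

namespace Cfsg.Agent.Lib.Helper4.ScalarRes

open Cfsg

section General

variable {F K : Type*} [Field F] [Field K] [Algebra F K]
variable {ι κ : Type*} [Fintype ι] [DecidableEq ι] [Fintype κ] [DecidableEq κ]

/-- the matrix over `F` of the `K`-matrix `g`, transported along `T` -/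
noncomputable def conjMat (T : (κ → F) ≃ₗ[F] (ι → K)) (g : Matrix ι ι K) : Matrix κ κ F :=
  LinearMap.toMatrix' ((T.symm : (ι → K) →ₗ[F] (κ → F)) ∘ₗ
    ((Matrix.toLin' g).restrictScalars F) ∘ₗ (T : (κ → F) →ₗ[F] (ι → K)))

theorem conjMat_mulVec (T : (κ → F) ≃ₗ[F] (ι → K)) (g : Matrix ι ι K) (u : κ → F) :
    T (Matrix.mulVec (conjMat T g) u) = Matrix.mulVec g (T u) := by
  unfold conjMat
  rw [← Matrix.toLin'_apply, Matrix.toLin'_toMatrix']
  simp

theorem conjMat_mul (T : (κ → F) ≃ₗ[F] (ι → K)) (g g' : Matrix ι ι K) :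
    conjMat T (g * g') = conjMat T g * conjMat T g' := by
  apply Matrix.toLin'.injective
  apply LinearMap.ext
  intro u
  apply T.injective
  rw [Matrix.toLin'_apply, Matrix.toLin'_apply, conjMat_mulVec, ← Matrix.mulVec_mulVec,
    ← Matrix.mulVec_mulVec, conjMat_mulVec, conjMat_mulVec]

theorem conjMat_one (T : (κ → F) ≃ₗ[F] (ι → K)) : conjMat T (1 : Matrix ι ι K) = 1 := by
  apply Matrix.toLin'.injective
  apply LinearMap.ext
  intro u
  apply T.injective
  rw [Matrix.toLin'_apply, Matrix.toLin'_apply, conjMat_mulVec, Matrix.one_mulVec,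
    Matrix.one_mulVec]

theorem conjMat_injective (T : (κ → F) ≃ₗ[F] (ι → K)) :
    Function.Injective (conjMat T : Matrix ι ι K → Matrix κ κ F) := by
  intro g g' h
  apply Matrix.toLin'.injective
  apply LinearMap.ext
  intro x
  rw [Matrix.toLin'_apply, Matrix.toLin'_apply]
  have h1 := conjMat_mulVec T g (T.symm x)
  have h2 := conjMat_mulVec T g' (T.symm x)
  rw [LinearEquiv.apply_symm_apply] at h1 h2
  rw [← h1, ← h2, h]

end General

section Symp

variable {F : Type*} [Field F] (m : ℕ)

theorem sympForm_eq_sum (u v : Fin m ⊕ Fin m → F) :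
    sympForm m F u v = ∑ i : Fin m, (u (Sum.inr i) * v (Sum.inl i) - u (Sum.inl i) * v (Sum.inr i)) := by
  unfold sympForm Matrix.J
  rw [Matrix.fromBlocks_mulVec]
  simp only [dotProduct, Fintype.sum_sum_type, Sum.elim_inl, Sum.elim_inr, Matrix.zero_mulVec,
    Matrix.neg_mulVec, Matrix.one_mulVec, zero_add, add_zero, Pi.neg_apply, Function.comp_apply]
  rw [← Finset.sum_add_distrib]
  apply Finset.sum_congr rfl
  intro i _
  ring

end Symp

end Cfsg.Agent.Lib.Helper4.ScalarRes
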