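import Cfsg.Agent.Lib.Helper4.ScalarRes1

set_option autoImplicit false

/-! Quadratic extensions of finite fields: coordinates, and the embedding of the unitary group in
the symplectic group. (helper4) -/

namespace Cfsg.Agent.Lib.Helper4.ScalarRes

open Cfsg

theorem exists_anisotropic {F : Type*} [Field F] [Fintype F] :
    ∃ c : F, ∀ z₁ z₂ : F, z₁ ^ 2 + 1 * z₁ * z₂ + c * z₂ ^ 2 = 0 → z₁ = 0 ∧ z₂ = 0 := by
  have hninj : ¬ Function.Injective (fun x : F => x ^ 2 + x) := by
    intro h
    have h1 : (0 : F) = -1 := h (by simp)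
    have h2 : (1 : F) = 0 := neg_eq_zero.mp h1.symm
    exact one_ne_zero h2
  have hnsurj : ¬ Function.Surjective (fun x : F => x ^ 2 + x) := fun h =>
    hninj (Finite.injective_iff_surjective.mpr h)
  unfold Function.Surjective at hnsurj
  push Not at hnsurj
  obtain ⟨d, hd⟩ := hnsurj
  refine ⟨-d, fun z₁ z₂ h => ?_⟩
  by_cases hz : z₂ = 0
  · subst hz
    refine ⟨?_, rfl⟩
    have : z₁ ^ 2 = 0 := by linear_combination h
    exact pow_eq_zero_iff (two_ne_zero) |>.mp this
  · exfalso
    apply hd (z₁ / z₂)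
    show (z₁ / z₂) ^ 2 + z₁ / z₂ = d
    field_simp
    linear_combination h

/-- a quadratic extension `K / F` with generator `θ`, a root of `X² - aX + b`, and Frobenius -/
structure QD (F K : Type*) [Field F] [Field K] [Algebra F K] (q : ℕ) (a b : F) where
  θ : K
  hθ : θ ^ 2 - algebraMap F K a * θ + algebraMap F K b = 0
  fr : K →+* K
  hfr : ∀ x, fr x = x ^ q
  hfrθ : fr θ = algebraMap F K a - θ
  hfix : ∀ t : F, fr (algebraMap F K t) = algebraMap F K t
  hbij : Function.Bijective (fun p : F × F => algebraMap F K p.1 + algebraMap F K p.2 * θ)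

namespace QD

variable {F K : Type*} [Field F] [Field K] [Algebra F K] {q : ℕ} {a b : F} (Q : QD F K q a b)

/-- coordinates `F × F ≃ K` -/
noncomputable def e : (F × F) ≃ₗ[F] K :=
  LinearEquiv.ofBijective
    { toFun := fun p => algebraMap F K p.1 + algebraMap F K p.2 * Q.θ
      map_add' := fun p p' => by
        simp only [Prod.fst_add, Prod.snd_add, map_add]; ring
      map_smul' := fun t p => by
        rcases p with ⟨x, y⟩
        show algebraMap F K (t * x) + algebraMap F K (t * y) * Q.θ =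
          t • (algebraMap F K x + algebraMap F K y * Q.θ)
        rw [Algebra.smul_def, map_mul, map_mul]
        ring } Q.hbij

theorem e_apply (p : F × F) : Q.e p = algebraMap F K p.1 + algebraMap F K p.2 * Q.θ := rfl

/-- the `θ`-coordinate -/
noncomputable def c1 (z : K) : F := (Q.e.symm z).2

/-- the constant coordinate -/
noncomputable def c0 (z : K) : F := (Q.e.symm z).1

theorem c1_e (p : F × F) : Q.c1 (Q.e p) = p.2 := by
  unfold c1; rw [LinearEquiv.symm_apply_apply]

theorem c0_e (p : F × F) : Q.c0 (Q.e p) = p.1 := by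
  unfold c0; rw [LinearEquiv.symm_apply_apply]

theorem e_c (z : K) : Q.e (Q.c0 z, Q.c1 z) = z := by
  unfold c0 c1
  rw [Prod.mk.eta, LinearEquiv.apply_symm_apply]

theorem c1_add (x y : K) : Q.c1 (x + y) = Q.c1 x + Q.c1 y := by
  unfold c1; rw [map_add]; rfl

theorem c1_zero : Q.c1 0 = 0 := by
  unfold c1; rw [map_zero]; rfl

theorem c1_sum {ι : Type*} (s : Finset ι) (f : ι → K) : Q.c1 (∑ i ∈ s, f i) = ∑ i ∈ s, Q.c1 (f i) := by
  classical
  induction s using Finset.induction_on with
  | empty => simp [c1_zero]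
  | insert i s hi ih => rw [Finset.sum_insert hi, Finset.sum_insert hi, c1_add, ih]

theorem fr_e (p : F × F) :
    Q.fr (Q.e p) = algebraMap F K p.1 + algebraMap F K p.2 * (algebraMap F K a - Q.θ) := by
  rw [e_apply, map_add, map_mul, Q.hfix, Q.hfix, Q.hfrθ]

/-- the key identity for the Hermitian form -/
theorem e_mul_fr_e (x y : F × F) :
    Q.e x * Q.fr (Q.e y) =
      Q.e (x.1 * y.1 + a * x.1 * y.2 + b * x.2 * y.2, x.2 * y.1 - x.1 * y.2) := by
  rw [fr_e, e_apply, e_apply]
  simp only [map_add, map_mul, map_sub]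
  linear_combination (-(algebraMap F K x.2) * algebraMap F K y.2) * Q.hθ

theorem c1_mul_fr (x y : F × F) : Q.c1 (Q.e x * Q.fr (Q.e y)) = x.2 * y.1 - x.1 * y.2 := by
  rw [e_mul_fr_e, c1_e]

/-- the identification `F^m ⊕ F^m ≃ K^m` -/
noncomputable def TU (m : ℕ) : (Fin m ⊕ Fin m → F) ≃ₗ[F] (Fin m → K) where
  toFun u i := Q.e (u (Sum.inl i), u (Sum.inr i))
  invFun x := Sum.elim (fun i => Q.c0 (x i)) (fun i => Q.c1 (x i))
  left_inv u := by
    funext i
    rcases i with i | i
    · simp only [Sum.elim_inl]; rw [c0_e]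
    · simp only [Sum.elim_inr]; rw [c1_e]
  right_inv x := by
    funext i
    simp only [Sum.elim_inl, Sum.elim_inr]
    exact Q.e_c (x i)
  map_add' u v := by
    funext i
    simp only [Pi.add_apply]
    rw [← map_add]; rfl
  map_smul' t u := by
    funext i
    simp only [Pi.smul_apply, RingHom.id_apply]
    rw [← map_smul]; rfl

theorem TU_apply (m : ℕ) (u : Fin m ⊕ Fin m → F) (i : Fin m) :
    Q.TU m u i = Q.e (u (Sum.inl i), u (Sum.inr i)) := rfl

theorem sympForm_eq_c1_herm (m : ℕ) (u v : Fin m ⊕ Fin m → F) :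
    sympForm m F u v = Q.c1 (hermForm m K q (Q.TU m u) (Q.TU m v)) := by
  rw [sympForm_eq_sum]
  unfold hermForm
  rw [c1_sum]
  apply Finset.sum_congr rfl
  intro i _
  rw [← Q.hfr, TU_apply, TU_apply, c1_mul_fr]

theorem conjMat_mem_symplectic (m : ℕ) (g : Matrix (Fin m) (Fin m) K)
    (hg : ∀ u v, hermForm m K q (Matrix.mulVec g u) (Matrix.mulVec g v) = hermForm m K q u v) :
    conjMat (Q.TU m) g ∈ Matrix.symplecticGroup (Fin m) F := by
  rw [Cfsg.Agent.Lib.Helper5.SympBridge.mem_symplectic_iff]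
  intro u v
  rw [sympForm_eq_c1_herm Q, sympForm_eq_c1_herm Q, conjMat_mulVec, conjMat_mulVec, hg]

include Q in
/-- the embedding `GU_m(q) → Sp_{2m}(q)` -/
theorem exists_GU_embedding (m : ℕ) :
    ∃ φ : ↥(Cfsg.GU m K q) →* ↥(Matrix.symplecticGroup (Fin m) F), Function.Injective φ := by
  have hmem : ∀ g : ↥(Cfsg.GU m K q),
      conjMat (Q.TU m) ((g : Matrix.GeneralLinearGroup (Fin m) K) : Matrix (Fin m) (Fin m) K) ∈
        Matrix.symplecticGroup (Fin m) F := fun g => Q.conjMat_mem_symplectic m _ g.2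
  refine ⟨MonoidHom.mk' (fun g => ⟨_, hmem g⟩) ?_, ?_⟩
  · intro g g'
    apply Subtype.ext
    show conjMat (Q.TU m) _ = conjMat (Q.TU m) _ * conjMat (Q.TU m) _
    rw [← conjMat_mul]
    rfl
  · intro g g' h
    have h1 : conjMat (Q.TU m) ((g : Matrix.GeneralLinearGroup (Fin m) K) : Matrix (Fin m) (Fin m) K) =
        conjMat (Q.TU m) ((g' : Matrix.GeneralLinearGroup (Fin m) K) : Matrix (Fin m) (Fin m) K) :=
      congrArg Subtype.val h
    apply Subtype.ext
    apply Units.ext
    exact conjMat_injective _ h1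

end QD

end Cfsg.Agent.Lib.Helper4.ScalarRes
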