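import Cfsg.Agent.Lib.Helper4.ScalarRes2

set_option autoImplicit false

/-! Existence of quadratic-extension data for finite fields of orders `q` and `q²`. (helper4) -/

namespace Cfsg.Agent.Lib.Helper4.ScalarRes

open Cfsg Cfsg.Agent.Lib.Helper5.QuadExt

theorem exists_QD {F K : Type*} [Field F] [Fintype F] [Field K] [Fintype K] {q : ℕ}
    (hF : Fintype.card F = q) (hK : Fintype.card K = q ^ 2) (a b : F)
    (hab : ∀ z₁ z₂ : F, z₁ ^ 2 + a * z₁ * z₂ + b * z₂ ^ 2 = 0 → z₁ = 0 ∧ z₂ = 0) :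
    ∃ (inst : Algebra F K), Nonempty (@QD F K _ _ inst q a b) := by
  obtain ⟨D⟩ := nonempty_data (K := K) hF hK a b hab
  refine ⟨D.j.toAlgebra, ⟨?_⟩⟩
  letI : Algebra F K := D.j.toAlgebra
  exact
    { θ := D.θ
      hθ := D.hθ
      fr := D.frob
      hfr := D.frob_apply
      hfrθ := D.frob_theta
      hfix := D.frob_j
      hbij := by
        constructor
        · rintro ⟨z0, z1⟩ ⟨w0, w1⟩ h
          obtain ⟨h1, h2⟩ := D.coord_injective z0 z1 w0 w1 h
          rw [h1, h2]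
        · intro z
          obtain ⟨z0, z1, h⟩ := D.coord_surjective z
          exact ⟨(z0, z1), h⟩ }

theorem exists_QD' {F K : Type*} [Field F] [Fintype F] [Field K] [Fintype K] {q : ℕ}
    (hF : Fintype.card F = q) (hK : Fintype.card K = q ^ 2) :
    ∃ (c : F) (inst : Algebra F K), Nonempty (@QD F K _ _ inst q 1 c) := by
  obtain ⟨c, hc⟩ := exists_anisotropic (F := F)
  obtain ⟨inst, hQ⟩ := exists_QD hF hK 1 c hc
  exact ⟨c, inst, hQ⟩

end Cfsg.Agent.Lib.Helper4.ScalarRes
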