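import Cfsg.Agent.Lib.Helper4.ScalarRes3

set_option autoImplicit false

/-! The embedding `Sp_{2n}(q²) → Sp_{4n}(q)`. (helper4) -/

namespace Cfsg.Agent.Lib.Helper4.ScalarRes

open Cfsg

namespace QD

variable {F K : Type*} [Field F] [Field K] [Algebra F K] {q : ℕ} {a b : F} (Q : QD F K q a b)

theorem e_mul_e (x y : F × F) :
    Q.e x * Q.e y = Q.e (x.1 * y.1 - b * x.2 * y.2, x.1 * y.2 + x.2 * y.1 + a * x.2 * y.2) := by
  rw [e_apply, e_apply, e_apply]
  simp only [map_add, map_mul, map_sub]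
  linear_combination (algebraMap F K x.2 * algebraMap F K y.2) * Q.hθ

theorem c1_mul (x y : F × F) :
    Q.c1 (Q.e x * Q.e y) = x.1 * y.2 + x.2 * y.1 + a * x.2 * y.2 := by
  rw [e_mul_e, c1_e]

theorem c1_sub (x y : K) : Q.c1 (x - y) = Q.c1 x - Q.c1 y := by
  unfold c1; rw [map_sub]; rfl

/-- the index bijection `Fin 2 × Fin n ≃ Fin (2 * n)` -/
abbrev P (n : ℕ) : Fin 2 × Fin n ≃ Fin (2 * n) := finProdFinEquiv

/-- the identification `F^{2n} ⊕ F^{2n} ≃ K^n ⊕ K^n` adapted to the symplectic forms -/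
noncomputable def TS (n : ℕ) : (Fin (2 * n) ⊕ Fin (2 * n) → F) ≃ₗ[F] (Fin n ⊕ Fin n → K) where
  toFun u := Sum.elim (fun i => Q.e (u (Sum.inl (P n (0, i))), u (Sum.inl (P n (1, i)))))
    (fun i => Q.e (u (Sum.inr (P n (1, i))) - a * u (Sum.inr (P n (0, i))), u (Sum.inr (P n (0, i)))))
  invFun X := Sum.elim
    (fun k => if ((P n).symm k).1 = 0 then Q.c0 (X (Sum.inl ((P n).symm k).2))
      else Q.c1 (X (Sum.inl ((P n).symm k).2)))
    (fun k => if ((P n).symm k).1 = 0 then Q.c1 (X (Sum.inr ((P n).symm k).2))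
      else Q.c0 (X (Sum.inr ((P n).symm k).2)) + a * Q.c1 (X (Sum.inr ((P n).symm k).2)))
  left_inv u := by
    funext k
    rcases k with k | k
    · obtain ⟨⟨r, i⟩, rfl⟩ := (P n).surjective k
      simp only [Sum.elim_inl, Equiv.symm_apply_apply]
      fin_cases r
      · simp [c0_e]
      · simp [c1_e]
    · obtain ⟨⟨r, i⟩, rfl⟩ := (P n).surjective k
      simp only [Sum.elim_inr, Equiv.symm_apply_apply]
      fin_cases r
      · simp [c1_e]
      · simp [c0_e, c1_e]
  right_inv X := by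
    funext i
    rcases i with i | i
    · simp only [Sum.elim_inl, Equiv.symm_apply_apply]
      simp only [Fin.isValue, ↓reduceIte, one_ne_zero]
      exact Q.e_c _
    · simp only [Sum.elim_inr, Equiv.symm_apply_apply]
      simp only [Fin.isValue, ↓reduceIte, one_ne_zero, add_sub_cancel_right]
      exact Q.e_c _
  map_add' u v := by
    funext i
    rcases i with i | i
    · simp only [Sum.elim_inl, Pi.add_apply]
      rw [← map_add]; rfl
    · simp only [Sum.elim_inr, Pi.add_apply]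
      rw [← map_add]
      congr 1
      ext
      · simp only [Prod.fst_add]; ring
      · simp only [Prod.snd_add]
  map_smul' t u := by
    funext i
    rcases i with i | i
    · simp only [Sum.elim_inl, Pi.smul_apply, RingHom.id_apply]
      rw [← map_smul]; rfl
    · simp only [Sum.elim_inr, Pi.smul_apply, RingHom.id_apply]
      rw [← map_smul]
      congr 1
      ext
      · simp only [Prod.smul_fst, smul_eq_mul]; ring
      · simp only [Prod.smul_snd, smul_eq_mul]

theorem TS_inl (n : ℕ) (u : Fin (2 * n) ⊕ Fin (2 * n) → F) (i : Fin n) :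
    Q.TS n u (Sum.inl i) = Q.e (u (Sum.inl (P n (0, i))), u (Sum.inl (P n (1, i)))) := rfl

theorem TS_inr (n : ℕ) (u : Fin (2 * n) ⊕ Fin (2 * n) → F) (i : Fin n) :
    Q.TS n u (Sum.inr i) = Q.e (u (Sum.inr (P n (1, i))) - a * u (Sum.inr (P n (0, i))),
      u (Sum.inr (P n (0, i)))) := rfl

theorem sympForm_eq_c1_symp (n : ℕ) (u v : Fin (2 * n) ⊕ Fin (2 * n) → F) :
    sympForm (2 * n) F u v = Q.c1 (sympForm n K (Q.TS n u) (Q.TS n v)) := by
  rw [sympForm_eq_sum, sympForm_eq_sum, c1_sum]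
  rw [← Equiv.sum_comp (P n), Fintype.sum_prod_type, Finset.sum_comm]
  apply Finset.sum_congr rfl
  intro i _
  rw [Fin.sum_univ_two, c1_sub, TS_inl, TS_inr, TS_inl, TS_inr, c1_mul, c1_mul]
  simp only
  ring

theorem conjMat_TS_mem (n : ℕ) (g : Matrix (Fin n ⊕ Fin n) (Fin n ⊕ Fin n) K)
    (hg : g ∈ Matrix.symplecticGroup (Fin n) K) :
    conjMat (Q.TS n) g ∈ Matrix.symplecticGroup (Fin (2 * n)) F := by
  rw [Cfsg.Agent.Lib.Helper5.SympBridge.mem_symplectic_iff] at hg ⊢
  intro u v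
  rw [sympForm_eq_c1_symp Q, sympForm_eq_c1_symp Q, conjMat_mulVec, conjMat_mulVec, hg]

include Q in
/-- the embedding `Sp_{2n}(q²) → Sp_{4n}(q)` -/
theorem exists_Sp_embedding (n : ℕ) :
    ∃ φ : ↥(Matrix.symplecticGroup (Fin n) K) →* ↥(Matrix.symplecticGroup (Fin (2 * n)) F),
      Function.Injective φ := by
  refine ⟨MonoidHom.mk' (fun g => ⟨_, Q.conjMat_TS_mem n g.1 g.2⟩) ?_, ?_⟩
  · intro g g'
    apply Subtype.ext
    show conjMat (Q.TS n) _ = conjMat (Q.TS n) _ * conjMat (Q.TS n) _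
    rw [← conjMat_mul]
    rfl
  · intro g g' h
    have h1 : conjMat (Q.TS n) g.1 = conjMat (Q.TS n) g'.1 := congrArg Subtype.val h
    apply Subtype.ext
    exact conjMat_injective _ h1

end QD

end Cfsg.Agent.Lib.Helper4.ScalarRes
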