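import Cfsg.Agent.Lib.Helper4.ScalarExt2
import Cfsg.Agent.Lib.Helper5.HermCenter

set_option autoImplicit false

/-! The sum of two norm forms of a quadratic extension is a hyperbolic four-space. (helper4) -/

namespace Cfsg.Agent.Lib.Helper4.ScalarRes

open Cfsg

theorem disc_ne_zero {F : Type*} [Field F] [Fintype F] (a b : F)
    (hab : ∀ z₁ z₂ : F, z₁ ^ 2 + a * z₁ * z₂ + b * z₂ ^ 2 = 0 → z₁ = 0 ∧ z₂ = 0) :
    4 * b - a ^ 2 ≠ 0 := by
  intro hD
  by_cases h2 : (2 : F) = 0
  · -- characteristic two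
    have h4 : (4 : F) = 0 := by
      have : (4 : F) = 2 * 2 := by norm_num
      rw [this, h2, mul_zero]
    have ha : a = 0 := by
      have : a ^ 2 = 0 := by linear_combination -hD + b * h4
      exact pow_eq_zero_iff two_ne_zero |>.mp this
    have hinj : Function.Injective (fun x : F => x * x) := by
      intro x y hxy
      have h3 : (x - y) ^ 2 = 0 := by
        have hxy' : x * x = y * y := hxy
        linear_combination hxy' + (y * y - x * y) * h2
      have := pow_eq_zero_iff two_ne_zero |>.mp h3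
      exact sub_eq_zero.mp this
    obtain ⟨s, hs⟩ := (Finite.injective_iff_surjective.mp hinj) b
    have hs' : s * s = b := hs
    have := hab s 1 (by rw [ha]; linear_combination hs' + b * h2)
    exact one_ne_zero this.2
  · have := hab (-a / 2) 1 (by field_simp; linear_combination hD)
    exact one_ne_zero this.2

namespace QD

variable {F K : Type*} [Field F] [Field K] [Algebra F K] {q : ℕ} {a b : F} (Q : QD F K q a b)

/-- extra data for the hyperbolic decomposition -/
structure Hyp where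
  ζ : K
  hζ : ζ * Q.fr ζ = 1
  hζ1 : ζ ≠ 1
  ε : K
  hε : ε * Q.fr ε = -1
  hD : 4 * b - a ^ 2 ≠ 0

variable {Q} (H : Q.Hyp)

/-- the dual coordinates -/
noncomputable def st (y : F × F) : F × F :=
  ((2 * b * y.1 - a * y.2) / (4 * b - a ^ 2), (2 * y.2 - a * y.1) / (4 * b - a ^ 2))

include H in
theorem st_spec (x y : F × F) :
    x.1 * (2 * (st (a := a) (b := b) y).1 + a * (st (a := a) (b := b) y).2) +
      x.2 * (a * (st (a := a) (b := b) y).1 + 2 * b * (st (a := a) (b := b) y).2) =
      x.1 * y.1 + x.2 * y.2 := by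
  have hD := H.hD
  have hs : (st (a := a) (b := b) y).1 * (4 * b - a ^ 2) = 2 * b * y.1 - a * y.2 := by
    unfold st
    simp only
    rw [div_mul_cancel₀ _ hD]
  have ht : (st (a := a) (b := b) y).2 * (4 * b - a ^ 2) = 2 * y.2 - a * y.1 := by
    unfold st
    simp only
    rw [div_mul_cancel₀ _ hD]
  apply mul_right_cancel₀ hD
  linear_combination (x.1 * 2 + x.2 * a) * hs + (x.1 * a + x.2 * (2 * b)) * ht

/-- first component of the hyperbolic pair -/
noncomputable def L1 (xy : (F × F) × (F × F)) : K :=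
  Q.e xy.1 + Q.e (st (a := a) (b := b) xy.2) * (1 - H.ζ)⁻¹

/-- second component of the hyperbolic pair -/
noncomputable def L2 (xy : (F × F) × (F × F)) : K :=
  (Q.e xy.1 + H.ζ * (Q.e (st (a := a) (b := b) xy.2) * (1 - H.ζ)⁻¹)) * H.ε⁻¹

theorem st_add (y y' : F × F) : st (a := a) (b := b) (y + y') = st (a := a) (b := b) y + st (a := a) (b := b) y' := by
  unfold st
  ext
  · simp only [Prod.fst_add, Prod.snd_add]; ring
  · simp only [Prod.fst_add, Prod.snd_add]; ring

theorem st_smul (t : F) (y : F × F) : st (a := a) (b := b) (t • y) = t • st (a := a) (b := b) y := by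
  unfold st
  ext
  · simp only [Prod.smul_fst, Prod.smul_snd, smul_eq_mul]; ring
  · simp only [Prod.smul_fst, Prod.smul_snd, smul_eq_mul]; ring

theorem L1_add (p p' : (F × F) × (F × F)) : L1 H (p + p') = L1 H p + L1 H p' := by
  unfold L1
  rw [Prod.fst_add, Prod.snd_add, st_add, map_add, map_add]
  ring

theorem L2_add (p p' : (F × F) × (F × F)) : L2 H (p + p') = L2 H p + L2 H p' := by
  unfold L2
  rw [Prod.fst_add, Prod.snd_add, st_add, map_add, map_add]
  ring

theorem L1_smul (t : F) (p : (F × F) × (F × F)) : L1 H (t • p) = t • L1 H p := by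
  unfold L1
  rw [Prod.smul_fst, Prod.smul_snd, st_smul, map_smul, map_smul, Algebra.smul_def, Algebra.smul_def,
    Algebra.smul_def]
  ring

theorem L2_smul (t : F) (p : (F × F) × (F × F)) : L2 H (t • p) = t • L2 H p := by
  unfold L2
  rw [Prod.smul_fst, Prod.smul_snd, st_smul, map_smul, map_smul, Algebra.smul_def, Algebra.smul_def,
    Algebra.smul_def]
  ring

theorem one_sub_zeta_ne : (1 : K) - H.ζ ≠ 0 := sub_ne_zero.mpr (Ne.symm H.hζ1)

theorem eps_ne : H.ε ≠ 0 := by
  intro h
  have := H.hε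
  rw [h, zero_mul] at this
  exact (neg_ne_zero.mpr one_ne_zero) this.symm

/-- the key norm identity -/
theorem norm_pair (p : (F × F) × (F × F)) :
    L1 H p * Q.fr (L1 H p) + L2 H p * Q.fr (L2 H p) =
      algebraMap F K (p.1.1 * p.2.1 + p.1.2 * p.2.2) := by
  obtain ⟨w, hw⟩ : ∃ w : K, w = Q.e (st (a := a) (b := b) p.2) * (1 - H.ζ)⁻¹ := ⟨_, rfl⟩
  have hw' : w * (1 - H.ζ) = Q.e (st (a := a) (b := b) p.2) := by
    rw [hw, mul_assoc, inv_mul_cancel₀ (one_sub_zeta_ne H), mul_one]
  have hfw : Q.fr w * (1 - Q.fr H.ζ) = Q.fr (Q.e (st (a := a) (b := b) p.2)) := by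
    rw [← hw', map_mul, map_sub, map_one]
  obtain ⟨ε', hε'⟩ : ∃ ε' : K, ε' = H.ε⁻¹ := ⟨_, rfl⟩
  have hεε : ε' * Q.fr ε' = -1 := by
    have h1 : H.ε * ε' = 1 := by rw [hε', mul_inv_cancel₀ (eps_ne H)]
    have h2 : Q.fr H.ε * Q.fr ε' = 1 := by rw [← map_mul, h1, map_one]
    have h3 := H.hε
    have h4 : (H.ε * Q.fr H.ε) * (ε' * Q.fr ε') = 1 := by
      calc (H.ε * Q.fr H.ε) * (ε' * Q.fr ε') = (H.ε * ε') * (Q.fr H.ε * Q.fr ε') := by ring
        _ = 1 := by rw [h1, h2, one_mul]
    rw [h3] at h4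
    linear_combination -h4
  unfold L1 L2
  rw [← hw, ← hε']
  have h5 := Q.e_mul_fr_e p.1 (st (a := a) (b := b) p.2)
  have h6 := Q.e_mul_fr_e (st (a := a) (b := b) p.2) p.1
  have h7 := st_spec H p.1 p.2
  have h8 : Q.e p.1 * Q.fr (Q.e (st (a := a) (b := b) p.2)) +
      Q.e (st (a := a) (b := b) p.2) * Q.fr (Q.e p.1) =
      algebraMap F K (p.1.1 * p.2.1 + p.1.2 * p.2.2) := by
    rw [h5, h6, ← map_add, e_apply]
    simp only [Prod.mk_add_mk]
    rw [← h7]
    have : (st (a := a) (b := b) p.2).2 * p.1.1 - (st (a := a) (b := b) p.2).1 * p.1.2 +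
        (p.1.2 * (st (a := a) (b := b) p.2).1 - p.1.1 * (st (a := a) (b := b) p.2).2) = 0 := by ring
    rw [add_comm (p.1.2 * (st (a := a) (b := b) p.2).1 - p.1.1 * (st (a := a) (b := b) p.2).2), this,
      map_zero, zero_mul, add_zero]
    congr 1
    ring
  rw [← h8, ← hfw, ← hw']
  simp only [map_add, map_mul]
  linear_combination (Q.e p.1 + H.ζ * w) * (Q.fr (Q.e p.1) + Q.fr H.ζ * Q.fr w) * hεε -
    (w * Q.fr w) * H.hζ

theorem pair_injective (p : (F × F) × (F × F)) (h1 : L1 H p = 0) (h2 : L2 H p = 0) : p = 0 := by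
  unfold L1 at h1
  unfold L2 at h2
  have h3 : Q.e p.1 + H.ζ * (Q.e (st (a := a) (b := b) p.2) * (1 - H.ζ)⁻¹) = 0 := by
    rcases mul_eq_zero.mp h2 with h | h
    · exact h
    · exact absurd (inv_eq_zero.mp h) (eps_ne H)
  have h4 : Q.e (st (a := a) (b := b) p.2) = 0 := by
    have : (1 - H.ζ) * (Q.e (st (a := a) (b := b) p.2) * (1 - H.ζ)⁻¹) = 0 := by
      linear_combination h1 - h3
    rw [mul_comm, mul_assoc, inv_mul_cancel₀ (one_sub_zeta_ne H), mul_one] at this
    exact this
  have h5 : Q.e p.1 = 0 := by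
    rw [h4, zero_mul, add_zero] at h1
    exact h1
  have h6 : p.1 = 0 := by
    have := Q.e.injective (h5.trans (map_zero Q.e).symm)
    exact this
  have h7 : st (a := a) (b := b) p.2 = 0 := Q.e.injective (h4.trans (map_zero Q.e).symm)
  have hD := H.hD
  have h8 : (2 * b * p.2.1 - a * p.2.2) = 0 := by
    have := congrArg Prod.fst h7
    unfold st at this
    simp only [Prod.fst_zero] at this
    rcases div_eq_zero_iff.mp this with h | h
    · exact h
    · exact absurd h hD
  have h9 : (2 * p.2.2 - a * p.2.1) = 0 := by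
    have := congrArg Prod.snd h7
    unfold st at this
    simp only [Prod.snd_zero] at this
    rcases div_eq_zero_iff.mp this with h | h
    · exact h
    · exact absurd h hD
  have h10 : p.2.1 = 0 := by
    have : (4 * b - a ^ 2) * p.2.1 = 0 := by linear_combination 2 * h8 + a * h9
    rcases mul_eq_zero.mp this with h | h
    · exact absurd h hD
    · exact h
  have h11 : p.2.2 = 0 := by
    have : (4 * b - a ^ 2) * p.2.2 = 0 := by linear_combination a * h8 + 2 * b * h9
    rcases mul_eq_zero.mp this with h | h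
    · exact absurd h hD
    · exact h
  ext
  · exact congrArg Prod.fst h6
  · exact congrArg Prod.snd h6
  · exact h10
  · exact h11

end QD

end Cfsg.Agent.Lib.Helper4.ScalarRes
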