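import Cfsg.Agent.Lib.Helper4.ScalarRes5

set_option autoImplicit false

/-! The embedding `GU_{2l}(q) → O⁺_{4l}(q)`. (helper4) -/

namespace Cfsg.Agent.Lib.Helper4.ScalarRes

open Cfsg

namespace QD

variable {F K : Type*} [Field F] [Field K] [Algebra F K] {q : ℕ} {a b : F} {Q : QD F K q a b}
  (H : Q.Hyp)

/-- the four coordinates attached to a pair of `K`-coordinates -/
def quad (l : ℕ) (u : Fin (2 * l) ⊕ Fin (2 * l) → F) (i : Fin l) : (F × F) × (F × F) :=
  ((u (Sum.inl (P l (0, i))), u (Sum.inl (P l (1, i)))),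
    (u (Sum.inr (P l (0, i))), u (Sum.inr (P l (1, i)))))

theorem quad_add (l : ℕ) (u v : Fin (2 * l) ⊕ Fin (2 * l) → F) (i : Fin l) :
    quad l (u + v) i = quad l u i + quad l v i := rfl

theorem quad_smul (l : ℕ) (t : F) (u : Fin (2 * l) ⊕ Fin (2 * l) → F) (i : Fin l) :
    quad l (t • u) i = t • quad l u i := rfl

/-- the identification `F^{2l} ⊕ F^{2l} → K^{2l}` adapted to the hyperbolic form, as a linear map -/
noncomputable def THlin (l : ℕ) : (Fin (2 * l) ⊕ Fin (2 * l) → F) →ₗ[F] (Fin (2 * l) → K) where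
  toFun u j := if ((P l).symm j).1 = 0 then L1 H (quad l u ((P l).symm j).2)
    else L2 H (quad l u ((P l).symm j).2)
  map_add' u v := by
    funext j
    simp only [Pi.add_apply]
    split_ifs
    · rw [quad_add, L1_add]
    · rw [quad_add, L2_add]
  map_smul' t u := by
    funext j
    simp only [Pi.smul_apply, RingHom.id_apply]
    split_ifs
    · rw [quad_smul, L1_smul]
    · rw [quad_smul, L2_smul]

theorem THlin_zero (l : ℕ) (u : Fin (2 * l) ⊕ Fin (2 * l) → F) (i : Fin l) :
    THlin H l u (P l (0, i)) = L1 H (quad l u i) := by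
  show (if ((P l).symm (P l (0, i))).1 = 0 then _ else _) = _
  rw [Equiv.symm_apply_apply]
  simp

theorem THlin_one (l : ℕ) (u : Fin (2 * l) ⊕ Fin (2 * l) → F) (i : Fin l) :
    THlin H l u (P l (1, i)) = L2 H (quad l u i) := by
  show (if ((P l).symm (P l (1, i))).1 = 0 then _ else _) = _
  rw [Equiv.symm_apply_apply]
  simp

theorem THlin_injective (l : ℕ) : Function.Injective (THlin H l) := by
  rw [← LinearMap.ker_eq_bot, LinearMap.ker_eq_bot']
  intro u hu
  have hq : ∀ i, quad l u i = 0 := by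
    intro i
    apply pair_injective H
    · rw [← THlin_zero, hu]; rfl
    · rw [← THlin_one, hu]; rfl
  funext k
  rcases k with k | k
  · obtain ⟨⟨r, i⟩, rfl⟩ := (P l).surjective k
    have := hq i
    fin_cases r
    · exact congrArg (fun p : (F × F) × (F × F) => p.1.1) this
    · exact congrArg (fun p : (F × F) × (F × F) => p.1.2) this
  · obtain ⟨⟨r, i⟩, rfl⟩ := (P l).surjective k
    have := hq i
    fin_cases r
    · exact congrArg (fun p : (F × F) × (F × F) => p.2.1) this
    · exact congrArg (fun p : (F × F) × (F × F) => p.2.2) this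

variable [Fintype F] [Fintype K]

theorem THlin_bijective (hF : Fintype.card F = q) (hK : Fintype.card K = q ^ 2) (l : ℕ) :
    Function.Bijective (THlin H l) := by
  rw [Fintype.bijective_iff_injective_and_card]
  refine ⟨THlin_injective H l, ?_⟩
  rw [Fintype.card_fun, Fintype.card_fun, Fintype.card_sum, Fintype.card_fin, hF, hK, ← pow_mul]
  congr 1
  ring

/-- the identification as a linear equivalence -/
noncomputable def TH (hF : Fintype.card F = q) (hK : Fintype.card K = q ^ 2) (l : ℕ) :
    (Fin (2 * l) ⊕ Fin (2 * l) → F) ≃ₗ[F] (Fin (2 * l) → K) :=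
  LinearEquiv.ofBijective (THlin H l) (THlin_bijective H hF hK l)

theorem TH_apply (hF : Fintype.card F = q) (hK : Fintype.card K = q ^ 2) (l : ℕ)
    (u : Fin (2 * l) ⊕ Fin (2 * l) → F) : TH H hF hK l u = THlin H l u := rfl

theorem herm_THlin (l : ℕ) (u : Fin (2 * l) ⊕ Fin (2 * l) → F) :
    hermForm (2 * l) K q (THlin H l u) (THlin H l u) =
      algebraMap F K (quadFormPlus (2 * l) F u) := by
  have hR : quadFormPlus (2 * l) F u = ∑ i : Fin l,
      (u (Sum.inl (P l (0, i))) * u (Sum.inr (P l (0, i))) +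
        u (Sum.inl (P l (1, i))) * u (Sum.inr (P l (1, i)))) := by
    unfold quadFormPlus
    rw [← Equiv.sum_comp (P l), Fintype.sum_prod_type, Finset.sum_comm]
    apply Finset.sum_congr rfl
    intro i _
    rw [Fin.sum_univ_two]
  have hL : hermForm (2 * l) K q (THlin H l u) (THlin H l u) = ∑ i : Fin l,
      (THlin H l u (P l (0, i)) * THlin H l u (P l (0, i)) ^ q +
        THlin H l u (P l (1, i)) * THlin H l u (P l (1, i)) ^ q) := by
    unfold hermForm
    rw [← Equiv.sum_comp (P l), Fintype.sum_prod_type, Finset.sum_comm]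
    apply Finset.sum_congr rfl
    intro i _
    rw [Fin.sum_univ_two]
  rw [hL, hR, map_sum]
  apply Finset.sum_congr rfl
  intro i _
  rw [THlin_zero, THlin_one, ← Q.hfr, ← Q.hfr, norm_pair]
  rfl

include H in
theorem exists_GU_even_embedding (hF : Fintype.card F = q) (hK : Fintype.card K = q ^ 2) (l : ℕ) :
    ∃ φ : ↥(Cfsg.GU (2 * l) K q) →* ↥(Cfsg.isometryGroup F (Cfsg.quadFormPlus (2 * l) F)),
      Function.Injective φ := by
  let T := TH H hF hK l
  let ψ : Matrix (Fin (2 * l)) (Fin (2 * l)) K →*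
      Matrix (Fin (2 * l) ⊕ Fin (2 * l)) (Fin (2 * l) ⊕ Fin (2 * l)) F :=
    { toFun := fun g => conjMat T g
      map_one' := conjMat_one T
      map_mul' := fun g g' => conjMat_mul T g g' }
  have hψinj : Function.Injective ψ := conjMat_injective T
  have hmem : ∀ g : ↥(Cfsg.GU (2 * l) K q),
      Units.map ψ (g : Matrix.GeneralLinearGroup _ K) ∈
        Cfsg.isometryGroup F (Cfsg.quadFormPlus (2 * l) F) := by
    intro g u _
    show quadFormPlus (2 * l) F (Matrix.mulVec (conjMat T _) u) = quadFormPlus (2 * l) F u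
    apply (algebraMap F K).injective
    rw [← herm_THlin H, ← herm_THlin H, ← TH_apply H hF hK, ← TH_apply H hF hK]
    show hermForm (2 * l) K q (T _) (T _) = hermForm (2 * l) K q (T u) (T u)
    rw [conjMat_mulVec]
    exact g.2 (T u) (T u)
  refine ⟨((Units.map ψ).comp (Subgroup.subtype _)).codRestrict _ hmem, ?_⟩
  intro g g' h
  have h1 : Units.map ψ (g : Matrix.GeneralLinearGroup _ K) =
      Units.map ψ (g' : Matrix.GeneralLinearGroup _ K) := congrArg Subtype.val h
  apply Subtype.ext
  exact Units.map_injective hψinj h1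

end QD

/-- existence of the extra hyperbolic data -/
theorem exists_Hyp {F K : Type*} [Field F] [Fintype F] [Field K] [Fintype K] [Algebra F K] {q : ℕ}
    {a b : F} (Q : QD F K q a b) (hK : Fintype.card K = q ^ 2)
    (hab : ∀ z₁ z₂ : F, z₁ ^ 2 + a * z₁ * z₂ + b * z₂ ^ 2 = 0 → z₁ = 0 ∧ z₂ = 0) :
    Nonempty Q.Hyp := by
  obtain ⟨ζ, hζ, hζ2⟩ := Cfsg.Agent.Lib.Helper5.HermCenter.exists_norm_one_sq_ne hK
  have hneg : ((-1 : K)) ^ q = -1 := by
    rw [← Q.hfr, map_neg, map_one]
  obtain ⟨ε, hε⟩ := Cfsg.Agent.Lib.Helper5.HermCount.exists_norm_eq hK (-1 : K)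
    (neg_ne_zero.mpr one_ne_zero) hneg
  exact ⟨{ ζ := ζ
           hζ := by rw [Q.hfr, ← pow_succ']; exact hζ
           hζ1 := by
             intro h
             apply hζ2
             rw [h, one_pow]
           ε := ε
           hε := by rw [Q.hfr, ← pow_succ']; exact hε
           hD := disc_ne_zero a b hab }⟩

end Cfsg.Agent.Lib.Helper4.ScalarRes
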