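import Cfsg.Agent.Lib.Helper4.ScalarRes6

set_option autoImplicit false

/-! The embedding `GU_{2l+1}(q) → O⁻_{4l+2}(q)`. (helper4) -/

namespace Cfsg.Agent.Lib.Helper4.ScalarRes

open Cfsg

namespace QD

variable {F K : Type*} [Field F] [Field K] [Algebra F K] {q : ℕ} {a b : F} {Q : QD F K q a b}
  (H : Q.Hyp)

/-- the identification `(F^{2l} ⊕ F^{2l}) ⊕ F² → K^{2l+1}` adapted to the minus-type form -/
noncomputable def TMlin (l : ℕ) :
    ((Fin (2 * l) ⊕ Fin (2 * l)) ⊕ Fin 2 → F) →ₗ[F] (Fin (2 * l + 1) → K) where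
  toFun u := Fin.snoc (α := fun _ => K) (THlin H l (fun j => u (Sum.inl j)))
    (Q.e (u (Sum.inr 0), u (Sum.inr 1)))
  map_add' u v := by
    funext j
    refine Fin.lastCases ?_ (fun i => ?_) j
    · simp only [Fin.snoc_last, Pi.add_apply]
      rw [← map_add]; rfl
    · simp only [Fin.snoc_castSucc, Pi.add_apply]
      rw [← Pi.add_apply, ← map_add]; rfl
  map_smul' t u := by
    funext j
    refine Fin.lastCases ?_ (fun i => ?_) j
    · simp only [Fin.snoc_last, Pi.smul_apply, RingHom.id_apply]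
      rw [← map_smul]; rfl
    · simp only [Fin.snoc_castSucc, Pi.smul_apply, RingHom.id_apply]
      rw [← Pi.smul_apply, ← map_smul]; rfl

theorem TMlin_last (l : ℕ) (u : (Fin (2 * l) ⊕ Fin (2 * l)) ⊕ Fin 2 → F) :
    TMlin H l u (Fin.last (2 * l)) = Q.e (u (Sum.inr 0), u (Sum.inr 1)) := by
  show Fin.snoc (α := fun _ => K) _ _ (Fin.last (2 * l)) = _
  rw [Fin.snoc_last]

theorem TMlin_castSucc (l : ℕ) (u : (Fin (2 * l) ⊕ Fin (2 * l)) ⊕ Fin 2 → F) (i : Fin (2 * l)) :
    TMlin H l u i.castSucc = THlin H l (fun j => u (Sum.inl j)) i := by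
  show Fin.snoc (α := fun _ => K) _ _ i.castSucc = _
  rw [Fin.snoc_castSucc]

theorem TMlin_injective (l : ℕ) : Function.Injective (TMlin H l) := by
  rw [← LinearMap.ker_eq_bot, LinearMap.ker_eq_bot']
  intro u hu
  have h1 : THlin H l (fun j => u (Sum.inl j)) = 0 := by
    funext i
    rw [← TMlin_castSucc, hu]; rfl
  have h2 : (fun j => u (Sum.inl j)) = 0 := by
    have := THlin_injective H l (h1.trans (map_zero (THlin H l)).symm)
    exact this
  have h3 : Q.e (u (Sum.inr 0), u (Sum.inr 1)) = 0 := by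
    rw [← TMlin_last, hu]; rfl
  have h4 : (u (Sum.inr 0), u (Sum.inr 1)) = (0 : F × F) :=
    Q.e.injective (h3.trans (map_zero Q.e).symm)
  funext k
  rcases k with k | r
  · exact congrFun h2 k
  · fin_cases r
    · exact congrArg Prod.fst h4
    · exact congrArg Prod.snd h4

variable [Fintype F] [Fintype K]

theorem TMlin_bijective (hF : Fintype.card F = q) (hK : Fintype.card K = q ^ 2) (l : ℕ) :
    Function.Bijective (TMlin H l) := by
  rw [Fintype.bijective_iff_injective_and_card]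
  refine ⟨TMlin_injective H l, ?_⟩
  rw [Fintype.card_fun, Fintype.card_fun, Fintype.card_sum, Fintype.card_sum, Fintype.card_fin,
    Fintype.card_fin, Fintype.card_fin, hF, hK, ← pow_mul]
  congr 1
  ring

/-- the identification as a linear equivalence -/
noncomputable def TM (hF : Fintype.card F = q) (hK : Fintype.card K = q ^ 2) (l : ℕ) :
    ((Fin (2 * l) ⊕ Fin (2 * l)) ⊕ Fin 2 → F) ≃ₗ[F] (Fin (2 * l + 1) → K) :=
  LinearEquiv.ofBijective (TMlin H l) (TMlin_bijective H hF hK l)

theorem TM_apply (hF : Fintype.card F = q) (hK : Fintype.card K = q ^ 2) (l : ℕ)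
    (u : (Fin (2 * l) ⊕ Fin (2 * l)) ⊕ Fin 2 → F) : TM H hF hK l u = TMlin H l u := rfl

theorem herm_TMlin (l : ℕ) (u : (Fin (2 * l) ⊕ Fin (2 * l)) ⊕ Fin 2 → F) :
    hermForm (2 * l + 1) K q (TMlin H l u) (TMlin H l u) =
      algebraMap F K (quadFormMinus (2 * l) F a b u) := by
  have h1 : hermForm (2 * l + 1) K q (TMlin H l u) (TMlin H l u) =
      hermForm (2 * l) K q (THlin H l (fun j => u (Sum.inl j))) (THlin H l (fun j => u (Sum.inl j))) +
        Q.e (u (Sum.inr 0), u (Sum.inr 1)) * Q.fr (Q.e (u (Sum.inr 0), u (Sum.inr 1))) := by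
    unfold hermForm
    rw [Fin.sum_univ_castSucc, TMlin_last, Q.hfr]
    congr 1
    apply Finset.sum_congr rfl
    intro i _
    rw [TMlin_castSucc]
  rw [h1, herm_THlin, e_mul_fr_e, e_apply]
  simp only
  have h2 : u (Sum.inr 1) * u (Sum.inr 0) - u (Sum.inr 0) * u (Sum.inr 1) = 0 := by ring
  rw [h2, map_zero, zero_mul, add_zero, ← map_add]
  congr 1
  unfold quadFormMinus quadFormPlus
  congr 1
  ring

include H in
theorem exists_GU_odd_embedding (hF : Fintype.card F = q) (hK : Fintype.card K = q ^ 2) (l : ℕ) :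
    ∃ φ : ↥(Cfsg.GU (2 * l + 1) K q) →*
        ↥(Cfsg.isometryGroup F (Cfsg.quadFormMinus (2 * l) F a b)), Function.Injective φ := by
  let T := TM H hF hK l
  let ψ : Matrix (Fin (2 * l + 1)) (Fin (2 * l + 1)) K →*
      Matrix ((Fin (2 * l) ⊕ Fin (2 * l)) ⊕ Fin 2) ((Fin (2 * l) ⊕ Fin (2 * l)) ⊕ Fin 2) F :=
    { toFun := fun g => conjMat T g
      map_one' := conjMat_one T
      map_mul' := fun g g' => conjMat_mul T g g' }
  have hψinj : Function.Injective ψ := conjMat_injective T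
  have hmem : ∀ g : ↥(Cfsg.GU (2 * l + 1) K q),
      Units.map ψ (g : Matrix.GeneralLinearGroup _ K) ∈
        Cfsg.isometryGroup F (Cfsg.quadFormMinus (2 * l) F a b) := by
    intro g u _
    show quadFormMinus (2 * l) F a b (Matrix.mulVec (conjMat T _) u) = quadFormMinus (2 * l) F a b u
    apply (algebraMap F K).injective
    rw [← herm_TMlin H, ← herm_TMlin H, ← TM_apply H hF hK, ← TM_apply H hF hK]
    show hermForm (2 * l + 1) K q (T _) (T _) = hermForm (2 * l + 1) K q (T u) (T u)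
    rw [conjMat_mulVec]
    exact g.2 (T u) (T u)
  refine ⟨((Units.map ψ).comp (Subgroup.subtype _)).codRestrict _ hmem, ?_⟩
  intro g g' h
  have h1 : Units.map ψ (g : Matrix.GeneralLinearGroup _ K) =
      Units.map ψ (g' : Matrix.GeneralLinearGroup _ K) := congrArg Subtype.val h
  apply Subtype.ext
  exact Units.map_injective hψinj h1

end QD

end Cfsg.Agent.Lib.Helper4.ScalarRes
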