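import Mathlib

/-! Self-dual irreducible modules of abelian groups over finite fields: the field-level core. -/

set_option autoImplicit false

namespace Cfsg.Agent.Lib.Helper4.SelfDualAb

open FiniteField

section Core

variable {F : Type*} [Field F] [Fintype F] {E : Type*} [Field E] [Algebra F E] [Finite E]
variable {H : Type*} [Group H]

theorem frob_pow_apply (k : ℕ) (a : E) :
    ((frobeniusAlgHom F E) ^ k) a = a ^ (Fintype.card F ^ k) := by
  rw [AlgHom.coe_pow, coe_frobeniusAlgHom, pow_iterate]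

theorem frobEquiv_pow_apply (k : ℕ) (a : E) :
    ((frobeniusAlgEquivOfAlgebraic F E) ^ k) a = a ^ (Fintype.card F ^ k) := by
  rw [AlgEquiv.coe_pow, coe_frobeniusAlgEquivOfAlgebraic, pow_iterate]

/-- Construction of the invariant form. -/
theorem exists_form (ψ : H →* E) (k : ℕ)
    (hψ : ∀ h, ψ h ^ (Fintype.card F ^ k + 1) = 1) :
    ∃ B : LinearMap.BilinForm F E, B.Nondegenerate ∧
      ∀ h x y, B (ψ h * x) (ψ h * y) = B x y := by
  set σ : E →ₐ[F] E := (frobeniusAlgHom F E) ^ k with hσ
  have hσa : ∀ a, σ a = a ^ (Fintype.card F ^ k) := fun a => frob_pow_apply k a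
  have hσinj : Function.Injective σ := σ.toRingHom.injective
  have hσsurj : Function.Surjective σ := Finite.surjective_of_injective hσinj
  refine ⟨(Algebra.traceForm F E).compl₂ σ.toLinearMap, ⟨?_, ?_⟩, ?_⟩
  · intro x hx
    apply (traceForm_nondegenerate F E).1 x
    intro y
    obtain ⟨y', rfl⟩ := hσsurj y
    exact hx y'
  · intro y hy
    have : σ y = 0 := by
      apply (traceForm_nondegenerate F E).2 (σ y)
      intro x
      exact hy x
    exact hσinj (this.trans (map_zero σ).symm)
  · intro h x y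
    simp only [LinearMap.compl₂_apply, AlgHom.toLinearMap_apply, Algebra.traceForm_apply, map_mul]
    congr 1
    have : ψ h * σ (ψ h) = 1 := by
      rw [hσa, ← pow_succ', hψ]
    calc ψ h * x * (σ (ψ h) * σ y) = (ψ h * σ (ψ h)) * (x * σ y) := by ring
    _ = x * σ y := by rw [this, one_mul]

/-- adjoint property -/
def IsAdj (B : LinearMap.BilinForm F E) (a a' : E) : Prop :=
  (∀ x y, B (a * x) y = B x (a' * y)) ∧ (∀ x y, B x (a * y) = B (a' * x) y)

theorem isAdj_unique {B : LinearMap.BilinForm F E} (hB : B.Nondegenerate) {a a' a'' : E}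
    (h1 : IsAdj B a a') (h2 : IsAdj B a a'') : a' = a'' := by
  have : (a' - a'') * 1 = 0 := by
    apply hB.2
    intro x
    rw [sub_mul, map_sub, ← h1.1, ← h2.1, sub_self]
  rw [mul_one, sub_eq_zero] at this
  exact this

theorem exists_isAdj (ψ : H →* E) (hspan : Submodule.span F (Set.range ψ) = ⊤)
    (B : LinearMap.BilinForm F E)
    (hinv : ∀ h x y, B (ψ h * x) (ψ h * y) = B x y) (a : E) : ∃ a', IsAdj B a a' := by
  have ha : a ∈ Submodule.span F (Set.range ψ) := by rw [hspan]; trivial
  induction ha using Submodule.span_induction with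
  | mem x hx =>
    obtain ⟨h, rfl⟩ := hx
    have h1 : ψ h * ψ h⁻¹ = 1 := by rw [← map_mul, mul_inv_cancel, map_one]
    refine ⟨ψ h⁻¹, ?_, ?_⟩
    · intro x y
      rw [← hinv h x (ψ h⁻¹ * y), ← mul_assoc (ψ h), h1, one_mul]
    · intro x y
      rw [← hinv h (ψ h⁻¹ * x) y, ← mul_assoc (ψ h), h1, one_mul]
  | zero =>
    refine ⟨0, ?_, ?_⟩ <;> intro x y <;> simp
  | add x y _ _ hx hy =>
    obtain ⟨x', hx'⟩ := hx
    obtain ⟨y', hy'⟩ := hy
    refine ⟨x' + y', ?_, ?_⟩
    · intro u v
      rw [add_mul, add_mul, map_add, map_add, LinearMap.add_apply, hx'.1, hy'.1]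
    · intro u v
      rw [add_mul, add_mul, map_add, map_add, LinearMap.add_apply, hx'.2, hy'.2]
  | smul c x _ hx =>
    obtain ⟨x', hx'⟩ := hx
    refine ⟨c • x', ?_, ?_⟩
    · intro u v
      rw [smul_mul_assoc, smul_mul_assoc, map_smul, map_smul, LinearMap.smul_apply, hx'.1]
    · intro u v
      rw [smul_mul_assoc, smul_mul_assoc, map_smul, map_smul, LinearMap.smul_apply, hx'.2]

theorem of_form (ψ : H →* E) (hspan : Submodule.span F (Set.range ψ) = ⊤)
    (hn : 2 ≤ Module.finrank F E)
    (B : LinearMap.BilinForm F E) (hB : B.Nondegenerate)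
    (hinv : ∀ h x y, B (ψ h * x) (ψ h * y) = B x y) :
    Even (Module.finrank F E) ∧
      ∀ h, ψ h ^ (Fintype.card F ^ (Module.finrank F E / 2) + 1) = 1 := by
  classical
  have hex := exists_isAdj ψ hspan B hinv
  choose τ hτ using hex
  have huniq : ∀ a a', IsAdj B a a' → τ a = a' := fun a a' h => isAdj_unique hB (hτ a) h
  have hτψ : ∀ h, τ (ψ h) = ψ h⁻¹ := by
    intro h
    apply huniq
    have h1 : ψ h * ψ h⁻¹ = 1 := by rw [← map_mul, mul_inv_cancel, map_one]
    refine ⟨?_, ?_⟩
    · intro x y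
      rw [← hinv h x (ψ h⁻¹ * y), ← mul_assoc (ψ h), h1, one_mul]
    · intro x y
      rw [← hinv h (ψ h⁻¹ * x) y, ← mul_assoc (ψ h), h1, one_mul]
  have hτmul : ∀ a b, τ (a * b) = τ a * τ b := by
    intro a b
    apply huniq
    refine ⟨?_, ?_⟩
    · intro x y
      rw [mul_assoc, (hτ a).1, (hτ b).1, ← mul_assoc, mul_comm (τ b)]
    · intro x y
      rw [mul_assoc, (hτ a).2, (hτ b).2, ← mul_assoc, mul_comm (τ b)]
  have hτadd : ∀ a b, τ (a + b) = τ a + τ b := by
    intro a b
    apply huniq
    refine ⟨?_, ?_⟩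
    · intro u v
      rw [add_mul, add_mul, map_add, map_add, LinearMap.add_apply, (hτ a).1, (hτ b).1]
    · intro u v
      rw [add_mul, add_mul, map_add, map_add, LinearMap.add_apply, (hτ a).2, (hτ b).2]
  have hτalg : ∀ c : F, τ (algebraMap F E c) = algebraMap F E c := by
    intro c
    apply huniq
    refine ⟨?_, ?_⟩
    · intro u v
      rw [Algebra.algebraMap_eq_smul_one, smul_mul_assoc, smul_mul_assoc, one_mul, one_mul,
        map_smul, map_smul, LinearMap.smul_apply]
    · intro u v
      rw [Algebra.algebraMap_eq_smul_one, smul_mul_assoc, smul_mul_assoc, one_mul, one_mul,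
        map_smul, map_smul, LinearMap.smul_apply]
  have hττ : ∀ a, τ (τ a) = a := by
    intro a
    apply huniq
    refine ⟨?_, ?_⟩
    · intro x y
      rw [(hτ a).2]
    · intro x y
      rw [(hτ a).1]
  let σ : E →ₐ[F] E :=
    { toFun := τ
      map_one' := by
        have := hτalg 1
        rwa [map_one] at this
      map_mul' := hτmul
      map_zero' := by
        have := hτalg 0
        rwa [map_zero] at this
      map_add' := hτadd
      commutes' := hτalg }
  have hσσ : σ.comp σ = AlgHom.id F E := by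
    ext a
    exact hττ a
  let e : E ≃ₐ[F] E := AlgEquiv.ofAlgHom σ σ hσσ hσσ
  have he : ∀ a, e a = τ a := fun a => rfl
  obtain ⟨k, hk⟩ := (bijective_frobeniusAlgEquivOfAlgebraic_pow F E).2 e
  have hk' : (frobeniusAlgEquivOfAlgebraic F E) ^ (k : ℕ) = e := hk
  have he2 : e ^ 2 = 1 := by
    ext a
    rw [pow_two, AlgEquiv.mul_apply, he, he, hττ]
    rfl
  have hdvd : Module.finrank F E ∣ 2 * (k : ℕ) := by
    have h1 : orderOf (frobeniusAlgEquivOfAlgebraic F E) ∣ 2 * (k : ℕ) := by
      apply orderOf_dvd_of_pow_eq_one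
      rw [mul_comm, pow_mul, hk', he2]
    rw [orderOf_frobeniusAlgEquivOfAlgebraic F E] at h1
    exact h1
  have hklt : (k : ℕ) < Module.finrank F E := k.2
  have hτk : ∀ a, τ a = a ^ (Fintype.card F ^ (k : ℕ)) := by
    intro a
    rw [← he, ← hk', frobEquiv_pow_apply]
  obtain ⟨c, hc⟩ := hdvd
  have hc01 : c = 0 ∨ c = 1 := by
    rcases Nat.lt_or_ge c 2 with h | h
    · omega
    · exfalso
      have : 2 * Module.finrank F E ≤ Module.finrank F E * c := by
        rw [mul_comm]; exact Nat.mul_le_mul_left _ h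
      omega
  rcases hc01 with rfl | rfl
  · -- k = 0
    exfalso
    have hk0 : (k : ℕ) = 0 := by omega
    have hid : ∀ a, τ a = a := by
      intro a
      rw [hτk, hk0, pow_zero, pow_one]
    have hsq : ∀ h, ψ h = 1 ∨ ψ h = -1 := by
      intro h
      have h1 : ψ h * ψ h⁻¹ = 1 := by rw [← map_mul, mul_inv_cancel, map_one]
      have h2 : ψ h⁻¹ = ψ h := by rw [← hτψ, hid]
      rw [h2] at h1
      exact mul_self_eq_one_iff.mp h1
    have hle : Submodule.span F (Set.range ψ) ≤ Submodule.span F {(1 : E)} := by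
      rw [Submodule.span_le]
      rintro _ ⟨h, rfl⟩
      rcases hsq h with h1 | h1
      · rw [h1]; exact Submodule.subset_span rfl
      · rw [h1]; exact Submodule.neg_mem _ (Submodule.subset_span rfl)
    rw [hspan] at hle
    have := Submodule.finrank_mono hle
    rw [finrank_top, finrank_span_singleton one_ne_zero] at this
    omega
  · have hn2 : Module.finrank F E = 2 * (k : ℕ) := by omega
    refine ⟨⟨k, by omega⟩, ?_⟩
    intro h
    have hk2 : Module.finrank F E / 2 = (k : ℕ) := by omega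
    rw [hk2, pow_succ, ← hτk, hτψ, ← map_mul, inv_mul_cancel, map_one]

end Core

end Cfsg.Agent.Lib.Helper4.SelfDualAb
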