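import Mathlib
import Cfsg.Agent.Lib.Helper4.SelfDualAb1

/-! Self-dual irreducible modules of abelian groups: bridging to the field-level core. -/

set_option autoImplicit false

namespace Cfsg.Agent.Lib.Helper4.SelfDualAb

section Bridge

variable {F : Type*} [Field F] {H : Type*} [Group H]
  {V : Type*} [AddCommGroup V] [Module F V]
  (ρ : Representation F H V)

/-- An endomorphism commuting with an irreducible action is zero or injective. -/
theorem ker_of_comm
    (hirr : ∀ U : Submodule F V, (∀ h : H, ∀ u ∈ U, ρ h u ∈ U) → U = ⊥ ∨ U = ⊤)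
    (T : Module.End F V) (hT : ∀ h, T * ρ h = ρ h * T) :
    T = 0 ∨ Function.Injective T := by
  have hinv : ∀ h : H, ∀ u ∈ LinearMap.ker T, ρ h u ∈ LinearMap.ker T := by
    intro h u hu
    rw [LinearMap.mem_ker] at hu ⊢
    have := LinearMap.congr_fun (hT h) u
    rw [Module.End.mul_apply, Module.End.mul_apply, hu, map_zero] at this
    exact this
  rcases hirr _ hinv with h | h
  · right
    exact LinearMap.ker_eq_bot.mp h
  · left
    exact LinearMap.ker_eq_top.mp h

variable {E : Type*} [Field E] [Algebra F E]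

/-- The evaluation isomorphism. -/
theorem exists_ev [Nontrivial V]
    (hirr : ∀ U : Submodule F V, (∀ h : H, ∀ u ∈ U, ρ h u ∈ U) → U = ⊥ ∨ U = ⊤)
    (ι : E →ₐ[F] Module.End F V) (ψ : H →* E) (hιψ : ∀ h, ι (ψ h) = ρ h) :
    ∃ ev : E ≃ₗ[F] V, ∀ a b, ev (a * b) = ι a (ev b) := by
  obtain ⟨v₀, hv₀⟩ := exists_ne (0 : V)
  let ev₀ : E →ₗ[F] V := (LinearMap.applyₗ v₀ : Module.End F V →ₗ[F] V) ∘ₗ ι.toLinearMap
  have hev₀ : ∀ a, ev₀ a = ι a v₀ := fun a => rfl
  have hιinj : Function.Injective ι := ι.toRingHom.injective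
  have hcomm : ∀ a h, ι a * ρ h = ρ h * ι a := by
    intro a h
    rw [← hιψ, ← map_mul, ← map_mul, mul_comm]
  have hinj : Function.Injective ev₀ := by
    rw [injective_iff_map_eq_zero]
    intro a ha
    rw [hev₀] at ha
    rcases ker_of_comm ρ hirr (ι a) (hcomm a) with h | h
    · exact hιinj (h.trans (map_zero ι).symm)
    · exact absurd (h (ha.trans (map_zero (ι a)).symm)) hv₀
  have hsurj : Function.Surjective ev₀ := by
    rw [← LinearMap.range_eq_top]
    have hinv : ∀ h : H, ∀ u ∈ LinearMap.range ev₀, ρ h u ∈ LinearMap.range ev₀ := by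
      rintro h _ ⟨a, rfl⟩
      refine ⟨ψ h * a, ?_⟩
      rw [hev₀, hev₀, map_mul, hιψ, Module.End.mul_apply]
    rcases hirr _ hinv with h | h
    · exfalso
      apply hv₀
      have : v₀ ∈ LinearMap.range ev₀ := ⟨1, by rw [hev₀, map_one, Module.End.one_apply]⟩
      rw [h] at this
      exact (Submodule.mem_bot F).mp this
    · exact h
  have hbij : Function.Bijective ev₀ := ⟨hinj, hsurj⟩
  refine ⟨LinearEquiv.ofBijective ev₀ hbij, ?_⟩
  intro a b
  show ev₀ (a * b) = ι a (ev₀ b)
  rw [hev₀, hev₀, map_mul, Module.End.mul_apply]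

theorem form_iff
    (ι : E →ₐ[F] Module.End F V) (ψ : H →* E) (hιψ : ∀ h, ι (ψ h) = ρ h)
    (ev : E ≃ₗ[F] V) (hev : ∀ a b, ev (a * b) = ι a (ev b)) :
    (∃ B : LinearMap.BilinForm F V, B.Nondegenerate ∧
        ∀ h : H, ∀ x y : V, B (ρ h x) (ρ h y) = B x y) ↔
    (∃ B : LinearMap.BilinForm F E, B.Nondegenerate ∧
        ∀ h x y, B (ψ h * x) (ψ h * y) = B x y) := by
  constructor
  · rintro ⟨B, hB, hinv⟩
    refine ⟨LinearMap.BilinForm.congr ev.symm B, hB.congr ev.symm, ?_⟩
    intro h x y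
    simp only [LinearMap.BilinForm.congr_apply, LinearEquiv.symm_symm]
    rw [hev, hev, hιψ, hinv]
  · rintro ⟨B, hB, hinv⟩
    refine ⟨LinearMap.BilinForm.congr ev B, hB.congr ev, ?_⟩
    have hsymm : ∀ h x, ev.symm (ρ h x) = ψ h * ev.symm x := by
      intro h x
      apply ev.injective
      rw [LinearEquiv.apply_symm_apply, hev, LinearEquiv.apply_symm_apply, hιψ]
    intro h x y
    simp only [LinearMap.BilinForm.congr_apply]
    rw [hsymm, hsymm, hinv]

end Bridge

end Cfsg.Agent.Lib.Helper4.SelfDualAb
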