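import Mathlib
import Cfsg.Agent.Lib.Helper4.SelfDualAb2

/-! Self-dual irreducible modules of abelian groups: final assembly. -/

set_option autoImplicit false

namespace Cfsg.Agent.Lib.Helper4.SelfDualAb

section Final

variable {F : Type*} [Field F] [Fintype F] {H : Type*} [CommGroup H] [Finite H]
  {V : Type*} [AddCommGroup V] [Module F V] [FiniteDimensional F V]
  (ρ : Representation F H V)

/-- the kernel ideal of the group algebra -/
noncomputable def kerI : Ideal (MonoidAlgebra F H) :=
  RingHom.ker (ρ.asAlgebraHom : MonoidAlgebra F H →+* Module.End F V)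

theorem mem_kerI (a : MonoidAlgebra F H) : a ∈ kerI ρ ↔ ρ.asAlgebraHom a = 0 := by
  unfold kerI
  rw [RingHom.mem_ker]
  rfl

instance : Finite (MonoidAlgebra F H) := by
  classical
  haveI := Fintype.ofFinite H
  exact Finite.of_equiv _ (MonoidAlgebra.coeffEquiv (R := F) (M := H)).symm

instance : Finite (MonoidAlgebra F H ⧸ kerI ρ) :=
  Finite.of_surjective (Ideal.Quotient.mk (kerI ρ)) Ideal.Quotient.mk_surjective

theorem kerI_isPrime [Nontrivial V]
    (hirr : ∀ U : Submodule F V, (∀ h : H, ∀ u ∈ U, ρ h u ∈ U) → U = ⊥ ∨ U = ⊤) :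
    (kerI ρ).IsPrime := by
  rw [Ideal.isPrime_iff]
  constructor
  · intro h
    have h1 : (1 : MonoidAlgebra F H) ∈ kerI ρ := by rw [h]; trivial
    rw [mem_kerI, map_one] at h1
    obtain ⟨v₀, hv₀⟩ := exists_ne (0 : V)
    apply hv₀
    have := LinearMap.congr_fun h1 v₀
    rwa [Module.End.one_apply, LinearMap.zero_apply] at this
  · intro x y hxy
    rw [mem_kerI, map_mul] at hxy
    have hcomm : ∀ h, ρ.asAlgebraHom x * ρ h = ρ h * ρ.asAlgebraHom x := by
      intro h
      rw [← Representation.asAlgebraHom_of, ← map_mul, ← map_mul, mul_comm]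
    rcases ker_of_comm ρ hirr _ hcomm with h | h
    · left
      rw [mem_kerI]; exact h
    · right
      rw [mem_kerI]
      apply LinearMap.ext
      intro v
      apply h
      have := LinearMap.congr_fun hxy v
      rw [Module.End.mul_apply] at this
      rw [this]; simp

theorem kerI_isMaximal [Nontrivial V]
    (hirr : ∀ U : Submodule F V, (∀ h : H, ∀ u ∈ U, ρ h u ∈ U) → U = ⊥ ∨ U = ⊤) :
    (kerI ρ).IsMaximal := by
  haveI := kerI_isPrime ρ hirr
  apply Ideal.Quotient.maximal_of_isField
  exact Finite.isField_of_domain _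

/-- the embedding of the quotient field in `End V` -/
noncomputable def iotaE : (MonoidAlgebra F H ⧸ kerI ρ) →ₐ[F] Module.End F V :=
  Ideal.Quotient.liftₐ (kerI ρ) ρ.asAlgebraHom (fun a ha => (mem_kerI ρ a).mp ha)

theorem iotaE_mk (a : MonoidAlgebra F H) :
    iotaE ρ (Ideal.Quotient.mk (kerI ρ) a) = ρ.asAlgebraHom a := by
  rfl

/-- the group homomorphism into the quotient field -/
noncomputable def psiE : H →* (MonoidAlgebra F H ⧸ kerI ρ) :=
  ((Ideal.Quotient.mk (kerI ρ)) : MonoidAlgebra F H →* _).comp (MonoidAlgebra.of F H)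

theorem iotaE_psiE (h : H) : iotaE ρ (psiE ρ h) = ρ h := by
  unfold psiE
  rw [MonoidHom.comp_apply]
  show iotaE ρ (Ideal.Quotient.mk (kerI ρ) (MonoidAlgebra.of F H h)) = _
  rw [iotaE_mk, Representation.asAlgebraHom_of]

theorem span_psiE : Submodule.span F (Set.range (psiE ρ)) = ⊤ := by
  rw [eq_top_iff]
  rintro e -
  obtain ⟨a, rfl⟩ := Ideal.Quotient.mk_surjective e
  induction a using MonoidAlgebra.induction_on with
  | of h =>
    apply Submodule.subset_span
    exact ⟨h, rfl⟩
  | add x y hx hy =>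
    rw [map_add]
    exact Submodule.add_mem _ hx hy
  | smul r x hx =>
    have : Ideal.Quotient.mk (kerI ρ) (r • x) = r • Ideal.Quotient.mk (kerI ρ) x := by
      exact map_smul (Ideal.Quotient.mkₐ F (kerI ρ)) r x
    rw [this]
    exact Submodule.smul_mem _ r hx

end Final

end Cfsg.Agent.Lib.Helper4.SelfDualAb
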