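import Mathlib
import Cfsg.Agent.Lib.Helper4.SelfDualAb3

/-! Self-dual irreducible modules of abelian groups: main theorem. -/

set_option autoImplicit false

namespace Cfsg.Agent.Lib.Helper4.SelfDualAb

section Main

variable {F : Type*} [Field F] [Fintype F] {H : Type*} [CommGroup H] [Finite H]
  {V : Type*} [AddCommGroup V] [Module F V] [FiniteDimensional F V]
  (ρ : Representation F H V)

theorem part_one (hfaith : Function.Injective ρ) (h1 : Module.finrank F V = 1)
    (hB : ∃ B : LinearMap.BilinForm F V, B.Nondegenerate ∧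
      ∀ h : H, ∀ x y : V, B (ρ h x) (ρ h y) = B x y) : Nat.card H ≤ 2 := by
  classical
  obtain ⟨B, hnd, hinv⟩ := hB
  obtain ⟨v₀, hv₀, hall⟩ := finrank_eq_one_iff'.mp h1
  have hB0 : B v₀ v₀ ≠ 0 := by
    intro h0
    apply hv₀
    apply hnd.1
    intro w
    obtain ⟨c, rfl⟩ := hall w
    rw [map_smul, smul_eq_mul, h0, mul_zero]
  have hc : ∀ h : H, ∃ c : F, c • v₀ = ρ h v₀ := fun h => hall _
  choose c hc using hc
  have hc2 : ∀ h, c h = 1 ∨ c h = -1 := by
    intro h
    have := hinv h v₀ v₀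
    rw [← hc, map_smul, map_smul, LinearMap.smul_apply, smul_eq_mul, smul_eq_mul] at this
    have h' : (c h * c h - 1) * B v₀ v₀ = 0 := by linear_combination this
    rcases mul_eq_zero.mp h' with h' | h'
    · exact mul_self_eq_one_iff.mp (sub_eq_zero.mp h')
    · exact absurd h' hB0
  have hinj : Function.Injective c := by
    intro a b hab
    apply hfaith
    apply LinearMap.ext
    intro w
    obtain ⟨d, rfl⟩ := hall w
    rw [map_smul, map_smul, ← hc, ← hc, hab]
  haveI := Fintype.ofFinite H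
  rw [Nat.card_eq_fintype_card, ← Finset.card_univ]
  calc (Finset.univ : Finset H).card ≤ ({1, -1} : Finset F).card :=
        Finset.card_le_card_of_injOn c (fun h _ => by
          rcases hc2 h with h' | h' <;> simp [h']) (fun a _ b _ hab => hinj hab)
    _ ≤ 2 := Finset.card_le_two

theorem part_two (hfaith : Function.Injective ρ)
    (hirr : ∀ U : Submodule F V, (∀ h : H, ∀ u ∈ U, ρ h u ∈ U) → U = ⊥ ∨ U = ⊤)
    (h2 : 2 ≤ Module.finrank F V) :
    (∃ B : LinearMap.BilinForm F V, B.Nondegenerate ∧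
      ∀ h : H, ∀ x y : V, B (ρ h x) (ρ h y) = B x y) ↔
    (Even (Module.finrank F V) ∧
      Nat.card H ∣ Fintype.card F ^ (Module.finrank F V / 2) + 1) := by
  haveI : Nontrivial V := Module.nontrivial_of_finrank_pos (R := F) (by omega)
  haveI := kerI_isMaximal ρ hirr
  letI : Field (MonoidAlgebra F H ⧸ kerI ρ) := Ideal.Quotient.field (kerI ρ)
  obtain ⟨ev, hev⟩ := exists_ev ρ hirr (iotaE ρ) (psiE ρ) (iotaE_psiE ρ)
  have hdim : Module.finrank F (MonoidAlgebra F H ⧸ kerI ρ) = Module.finrank F V :=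
    LinearEquiv.finrank_eq ev
  rw [form_iff ρ (iotaE ρ) (psiE ρ) (iotaE_psiE ρ) ev hev]
  have hψinj : Function.Injective (psiE ρ) := by
    intro a b hab
    apply hfaith
    rw [← iotaE_psiE, ← iotaE_psiE, hab]
  haveI : IsCyclic H := isCyclic_of_subgroup_isDomain (psiE ρ) hψinj
  constructor
  · rintro ⟨B, hB, hinv⟩
    have := of_form (psiE ρ) (span_psiE ρ) (by rw [hdim]; exact h2) B hB hinv
    rw [hdim] at this
    refine ⟨this.1, ?_⟩
    rw [← IsCyclic.exponent_eq_card]
    apply Monoid.exponent_dvd_of_forall_pow_eq_one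
    intro h
    apply hψinj
    rw [map_pow, this.2, map_one]
  · rintro ⟨-, hdvd⟩
    apply exists_form (psiE ρ) (Module.finrank F V / 2)
    intro h
    obtain ⟨m, hm⟩ := hdvd
    rw [← map_pow, hm, pow_mul, pow_card_eq_one', one_pow, map_one]

theorem main (hfaith : Function.Injective ρ)
    (hirr : ∀ U : Submodule F V, (∀ h : H, ∀ u ∈ U, ρ h u ∈ U) → U = ⊥ ∨ U = ⊤) :
    (Module.finrank F V = 1 → (∃ B : LinearMap.BilinForm F V, B.Nondegenerate ∧
      ∀ h : H, ∀ x y : V, B (ρ h x) (ρ h y) = B x y) → Nat.card H ≤ 2) ∧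
    (2 ≤ Module.finrank F V → ((∃ B : LinearMap.BilinForm F V, B.Nondegenerate ∧
      ∀ h : H, ∀ x y : V, B (ρ h x) (ρ h y) = B x y) ↔
      (Even (Module.finrank F V) ∧
        Nat.card H ∣ Fintype.card F ^ (Module.finrank F V / 2) + 1))) :=
  ⟨part_one ρ hfaith, part_two ρ hfaith hirr⟩

end Main

end Cfsg.Agent.Lib.Helper4.SelfDualAb
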