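import Cfsg.Agent.Lib.Helper4.SemiCount

/-!
# Counting semisimple classes of `GL_n(q)` and `SL_n(q)`
-/

namespace Cfsg.Agent.Lib.Helper4.SemiMod

open Polynomial

variable {F : Type*} [Field F]

/-- the monic polynomial with given lower coefficients -/
noncomputable def polyOf {n : ℕ} (a : Fin n → F) : F[X] := X ^ n + ∑ i : Fin n, C (a i) * X ^ (i : ℕ)

lemma polyOf_monic {n : ℕ} (a : Fin n → F) : (polyOf a).Monic :=
  monic_X_pow_add (degree_sum_fin_lt a)

lemma polyOf_natDegree {n : ℕ} (a : Fin n → F) : (polyOf a).natDegree = n := by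
  unfold polyOf
  rw [add_comm]
  exact natDegree_add_eq_right_of_degree_lt (by rw [degree_X_pow]; exact degree_sum_fin_lt a) |>.trans
    (natDegree_X_pow n)

lemma polyOf_coeff {n : ℕ} (a : Fin n → F) (i : Fin n) : (polyOf a).coeff i = a i := by
  unfold polyOf
  rw [coeff_add, coeff_X_pow, if_neg (by exact i.2.ne), zero_add, finset_sum_coeff]
  rw [Finset.sum_eq_single i]
  · rw [coeff_C_mul, coeff_X_pow, if_pos rfl, mul_one]
  · intro j _ hji
    rw [coeff_C_mul, coeff_X_pow, if_neg, mul_zero]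
    intro h; exact hji (Fin.ext h.symm)
  · intro h; exact absurd (Finset.mem_univ i) h

lemma eq_of_coeff {n : ℕ} {f g : F[X]} (hf : f.Monic) (hg : g.Monic) (hfd : f.natDegree = n)
    (hgd : g.natDegree = n) (h : ∀ i : Fin n, f.coeff i = g.coeff i) : f = g := by
  ext i
  rcases lt_trichotomy i n with hi | hi | hi
  · exact h ⟨i, hi⟩
  · rw [hi]
    conv_lhs => rw [← hfd]
    conv_rhs => rw [← hgd]
    rw [hf.coeff_natDegree, hg.coeff_natDegree]
  · rw [coeff_eq_zero_of_natDegree_lt (hfd ▸ hi), coeff_eq_zero_of_natDegree_lt (hgd ▸ hi)]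

lemma polyOf_charpoly {n : ℕ} (A : Matrix (Fin n) (Fin n) F) :
    polyOf (fun i : Fin n => A.charpoly.coeff i) = A.charpoly := by
  apply eq_of_coeff (polyOf_monic _) (Matrix.charpoly_monic A) (polyOf_natDegree _)
    (by rw [Matrix.charpoly_natDegree_eq_dim, Fintype.card_fin])
  intro i
  rw [polyOf_coeff]

open Classical in
lemma card_ne_zero_first [Fintype F] (m : ℕ) :
    Fintype.card {a : Fin (m + 1) → F // a 0 ≠ 0} = (Fintype.card F - 1) * Fintype.card F ^ m := by
  classical
  have e : {a : Fin (m + 1) → F // a 0 ≠ 0} ≃ {x : F // x ≠ 0} × (Fin m → F) :=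
    { toFun := fun a => (⟨a.1 0, a.2⟩, fun i => a.1 i.succ)
      invFun := fun x => ⟨Fin.cons x.1.1 x.2, by simpa using x.1.2⟩
      left_inv := by
        intro a
        apply Subtype.ext
        funext i
        refine Fin.cases ?_ (fun j => ?_) i <;> simp
      right_inv := by
        intro x
        ext <;> simp }
  rw [Fintype.card_congr e, Fintype.card_prod, Fintype.card_subtype_compl, Fintype.card_subtype_eq,
    Fintype.card_fun, Fintype.card_fin]

open Classical in
lemma card_eq_first [Fintype F] (m : ℕ) (c : F) :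
    Fintype.card {a : Fin (m + 1) → F // a 0 = c} = Fintype.card F ^ m := by
  classical
  have e : {a : Fin (m + 1) → F // a 0 = c} ≃ (Fin m → F) :=
    { toFun := fun a => fun i => a.1 i.succ
      invFun := fun x => ⟨Fin.cons c x, by simp⟩
      left_inv := by
        intro a
        apply Subtype.ext
        funext i
        refine Fin.cases ?_ (fun j => ?_) i
        · simp [a.2]
        · simp
      right_inv := by
        intro x
        ext; simp }
  rw [Fintype.card_congr e, Fintype.card_fun, Fintype.card_fin]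

theorem count_gl [Fintype F] (p : ℕ) [Fact p.Prime] [CharP F p] (m : ℕ) :
    Nat.card {c : ConjClasses (GL (Fin (m + 1)) F) //
      ∃ g : GL (Fin (m + 1)) F, ConjClasses.mk g = c ∧ (orderOf g).Coprime p} =
      (Fintype.card F - 1) * Fintype.card F ^ m := by
  classical
  rw [← card_ne_zero_first, ← Nat.card_eq_fintype_card]
  have hcoeff0 : ∀ g : GL (Fin (m + 1)) F,
      (g : Matrix (Fin (m + 1)) (Fin (m + 1)) F).charpoly.coeff 0 ≠ 0 := by
    intro g h
    have h1 := Matrix.det_eq_sign_charpoly_coeff (g : Matrix (Fin (m + 1)) (Fin (m + 1)) F)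
    rw [h, mul_zero] at h1
    have h2 : (g : Matrix (Fin (m + 1)) (Fin (m + 1)) F).det =
      ((Matrix.GeneralLinearGroup.det g : Fˣ) : F) := rfl
    exact (Matrix.GeneralLinearGroup.det g).ne_zero (h2 ▸ h1)
  let Θ : {c : ConjClasses (GL (Fin (m + 1)) F) //
      ∃ g : GL (Fin (m + 1)) F, ConjClasses.mk g = c ∧ (orderOf g).Coprime p} →
      {a : Fin (m + 1) → F // a 0 ≠ 0} := fun c =>
    ⟨fun i => ((Classical.choose c.2 : GL (Fin (m + 1)) F) :
      Matrix (Fin (m + 1)) (Fin (m + 1)) F).charpoly.coeff i, hcoeff0 _⟩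
  apply Nat.card_congr (Equiv.ofBijective Θ ⟨?_, ?_⟩)
  · intro c c' h
    have hc := Classical.choose_spec c.2
    have hc' := Classical.choose_spec c'.2
    apply Subtype.ext
    rw [← hc.1, ← hc'.1, ConjClasses.mk_eq_mk_iff_isConj]
    apply gl_isConj p _ _ hc.2 hc'.2
    rw [← polyOf_charpoly, ← polyOf_charpoly
      ((Classical.choose c'.2 : GL (Fin (m + 1)) F) : Matrix (Fin (m + 1)) (Fin (m + 1)) F)]
    congr 1
    exact congrArg Subtype.val h
  · intro a
    obtain ⟨g, hg, hgo⟩ := exists_gl p (m + 1) (polyOf a.1) (polyOf_monic _) (polyOf_natDegree _)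
      (by have := polyOf_coeff a.1 0; simp only [Fin.val_zero] at this; rw [this]; exact a.2)
    refine ⟨⟨ConjClasses.mk g, g, rfl, hgo⟩, ?_⟩
    apply Subtype.ext
    funext i
    show ((Classical.choose (⟨g, rfl, hgo⟩ : ∃ g' : GL (Fin (m + 1)) F,
      ConjClasses.mk g' = ConjClasses.mk g ∧ (orderOf g').Coprime p) : GL (Fin (m + 1)) F) :
      Matrix (Fin (m + 1)) (Fin (m + 1)) F).charpoly.coeff i = a.1 i
    have hs := Classical.choose_spec (⟨g, rfl, hgo⟩ : ∃ g' : GL (Fin (m + 1)) F,
      ConjClasses.mk g' = ConjClasses.mk g ∧ (orderOf g').Coprime p)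
    generalize Classical.choose (⟨g, rfl, hgo⟩ : ∃ g' : GL (Fin (m + 1)) F,
      ConjClasses.mk g' = ConjClasses.mk g ∧ (orderOf g').Coprime p) = g₁ at hs ⊢
    have hconj := ConjClasses.mk_eq_mk_iff_isConj.1 hs.1
    rw [isConj_iff] at hconj
    obtain ⟨c, hc⟩ := hconj
    have hcp : (g₁ : Matrix (Fin (m + 1)) (Fin (m + 1)) F).charpoly =
      (g : Matrix (Fin (m + 1)) (Fin (m + 1)) F).charpoly := by
      rw [← hc, Units.val_mul, Units.val_mul, Matrix.coe_units_inv]
      exact (Matrix.charpoly_units_conj c (g₁ : Matrix (Fin (m + 1)) (Fin (m + 1)) F)).symm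
    rw [hcp, hg, polyOf_coeff]

end Cfsg.Agent.Lib.Helper4.SemiMod
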