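import Mathlib

/-!
# Semisimple `F[X]`-modules are determined by their characteristic polynomial
-/

namespace Cfsg.Agent.Lib.Helper4.SemiMod

open Polynomial

universe u v

variable {F : Type u} [Field F]

section basic

variable (M : Type v) [AddCommGroup M] [Module F M] [Module F[X] M] [IsScalarTower F F[X] M]

/-- the action of `X` as an `F`-linear endomorphism. -/
noncomputable def Xact : M →ₗ[F] M where
  toFun m := (X : F[X]) • m
  map_add' := smul_add _
  map_smul' c m := by simp only [RingHom.id_apply]; exact smul_comm _ _ _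

lemma Xact_apply (m : M) : Xact (F := F) M m = (X : F[X]) • m := rfl

lemma C_smul' (a : F) (m : M) : (C a : F[X]) • m = a • m := by
  rw [← Polynomial.algebraMap_eq, algebraMap_smul]

lemma Xact_pow (n : ℕ) (m : M) : ((Xact (F := F) M) ^ n) m = (X ^ n : F[X]) • m := by
  induction n generalizing m with
  | zero => simp
  | succ k ih => rw [pow_succ, Module.End.mul_apply, ih, Xact_apply, pow_succ, mul_smul]

lemma aeval_Xact (r : F[X]) (m : M) : (aeval (Xact (F := F) M) r) m = r • m := by
  induction r using Polynomial.induction_on' with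
  | add p q hp hq => rw [map_add, LinearMap.add_apply, hp, hq, add_smul]
  | monomial n a =>
    rw [← C_mul_X_pow_eq_monomial, map_mul, aeval_C, map_pow, aeval_X, Module.End.mul_apply,
      Xact_pow, Module.algebraMap_end_apply, mul_smul, C_smul']

/-- the characteristic polynomial of the module -/
noncomputable def cp [Module.Finite F M] : F[X] := (Xact (F := F) M).charpoly

lemma cp_monic [Module.Finite F M] : (cp (F := F) M).Monic := LinearMap.charpoly_monic _

lemma cp_natDegree [Module.Finite F M] : (cp (F := F) M).natDegree = Module.finrank F M :=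
  LinearMap.charpoly_natDegree _

end basic

section congr

variable {M : Type v} [AddCommGroup M] [Module F M] [Module F[X] M] [IsScalarTower F F[X] M]
  [Module.Finite F M]
variable {M' : Type v} [AddCommGroup M'] [Module F M'] [Module F[X] M'] [IsScalarTower F F[X] M']
  [Module.Finite F M']

lemma cp_congr (e : M ≃ₗ[F[X]] M') : cp (F := F) M = cp (F := F) M' := by
  unfold cp
  rw [← LinearEquiv.charpoly_conj (e.restrictScalars F) (Xact (F := F) M)]
  congr 1
  ext m
  simp [LinearEquiv.conj_apply, Xact_apply]

lemma cp_prod : cp (F := F) (M × M') = cp (F := F) M * cp (F := F) M' := by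
  unfold cp
  rw [← LinearMap.charpoly_prodMap]
  congr 1

end congr

/-- key matrix lemma: an irreducible factor of the charpoly gives a singular `p(A)`. -/
lemma det_aeval_eq_zero {n : Type*} [Fintype n] [DecidableEq n] (A : Matrix n n F) {p : F[X]}
    (hp : Irreducible p) (hd : p ∣ A.charpoly) : (aeval A p).det = 0 := by
  set K := AlgebraicClosure F
  set ι : F →+* K := algebraMap F K with hι
  have hdeg : (p.map ι).degree ≠ 0 := by
    rw [degree_map]; exact (degree_pos_of_irreducible hp).ne'
  obtain ⟨α, hα⟩ := IsAlgClosed.exists_root (p.map ι) hdeg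
  have h1 : (A.map ι).charpoly.IsRoot α := by
    have : (A.map ι).charpoly = A.charpoly.map ι := Matrix.charpoly_map A ι
    rw [this]
    exact IsRoot.dvd hα (Polynomial.map_dvd ι hd)
  have h2 : (Matrix.scalar n α - A.map ι).det = 0 := by
    rw [← Matrix.eval_charpoly]; exact h1
  obtain ⟨s, hs⟩ : X - C α ∣ p.map ι := dvd_iff_isRoot.2 hα
  have h3 : aeval (A.map ι) (p.map ι) = (A.map ι - Matrix.scalar n α) * aeval (A.map ι) s := by
    rw [hs, map_mul, map_sub, aeval_X, aeval_C]
    rfl
  have h4 : (ι.mapMatrix) (aeval A p) = aeval (A.map ι) (p.map ι) := by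
    have h : (algebraMap K (Matrix n n K)).comp ι =
        (ι.mapMatrix).comp (algebraMap F (Matrix n n F)) := by
      ext a i j
      simp [Matrix.algebraMap_matrix_apply]
      split_ifs <;> simp
    exact map_aeval_eq_aeval_map h p A
  have h5 : (aeval (A.map ι) (p.map ι)).det = 0 := by
    rw [h3, Matrix.det_mul]
    have : (A.map ι - Matrix.scalar n α) = -(Matrix.scalar n α - A.map ι) := by abel
    rw [this, Matrix.det_neg, h2, mul_zero, zero_mul]
  have h6 : ι ((aeval A p).det) = 0 := by
    rw [RingHom.map_det, h4, h5]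
  exact (map_eq_zero ι).1 h6

section torsion

variable (M : Type v) [AddCommGroup M] [Module F M] [Module F[X] M] [IsScalarTower F F[X] M]
  [Module.Finite F M]

theorem exists_torsion_of_dvd_cp {p : F[X]} (hp : Irreducible p) (hd : p ∣ cp (F := F) M) :
    ∃ w : M, w ≠ 0 ∧ p • w = 0 := by
  classical
  set b := Module.finBasis F M
  set A := LinearMap.toMatrix b b (Xact (F := F) M) with hA
  have hch : A.charpoly = cp (F := F) M := LinearMap.charpoly_toMatrix _ b
  have h1 : (aeval A p).det = 0 := det_aeval_eq_zero A hp (hch ▸ hd)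
  have h2 : aeval A p = LinearMap.toMatrix b b (aeval (Xact (F := F) M) p) := by
    have := Polynomial.aeval_algHom_apply
      (LinearMap.toMatrixAlgEquiv b).toAlgHom
      (Xact (F := F) M) p
    exact this
  rw [h2, LinearMap.det_toMatrix] at h1
  have h3 := LinearMap.bot_lt_ker_of_det_eq_zero h1
  obtain ⟨w, hw, hw0⟩ := Submodule.exists_mem_ne_zero_of_ne_bot h3.ne'
  refine ⟨w, hw0, ?_⟩
  rw [← aeval_Xact]
  exact hw

end torsion

end Cfsg.Agent.Lib.Helper4.SemiMod
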