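import Cfsg.Agent.Lib.Helper4.SemiMod

/-!
# Semisimple `F[X]`-modules: embedding of `F[X]/(p)`, isomorphism theorem, centralizer determinants
-/

namespace Cfsg.Agent.Lib.Helper4.SemiMod

open Polynomial

universe u v

variable {F : Type u} [Field F]

section embed

variable (M : Type v) [AddCommGroup M] [Module F[X] M]

lemma dvd_of_smul_eq_zero {p : F[X]} (hp : Irreducible p) (w : M) (hw : w ≠ 0) (hpw : p • w = 0)
    (r : F[X]) (hr : r • w = 0) : p ∣ r := by
  by_contra hnd
  obtain ⟨a, b, hab⟩ := (hp.coprime_iff_not_dvd.2 hnd)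
  apply hw
  calc w = (1 : F[X]) • w := (one_smul _ _).symm
    _ = (a * p + b * r) • w := by rw [hab]
    _ = 0 := by rw [add_smul, mul_smul, mul_smul, hpw, hr, smul_zero, smul_zero, add_zero]

theorem exists_embedding {p : F[X]} (hp : Irreducible p) (w : M) (hw : w ≠ 0) (hpw : p • w = 0) :
    ∃ ψ : (F[X] ⧸ Ideal.span {p}) →ₗ[F[X]] M, Function.Injective ψ ∧
      ∀ r : F[X], ψ (Submodule.Quotient.mk r) = r • w := by
  have hle : Ideal.span {p} ≤ LinearMap.ker (LinearMap.toSpanSingleton F[X] M w) := by
    rw [Ideal.span_le]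
    intro x hx
    rw [Set.mem_singleton_iff] at hx
    subst hx
    show _ ∈ LinearMap.ker _
    rw [LinearMap.mem_ker, LinearMap.toSpanSingleton_apply]; exact hpw
  refine ⟨Submodule.liftQ (Ideal.span {p}) (LinearMap.toSpanSingleton F[X] M w) hle, ?_, ?_⟩
  · rw [injective_iff_map_eq_zero]
    intro x hx
    obtain ⟨r, rfl⟩ := Submodule.Quotient.mk_surjective _ x
    rw [Submodule.liftQ_apply, LinearMap.toSpanSingleton_apply] at hx
    have := dvd_of_smul_eq_zero M hp w hw hpw r hx
    rw [Submodule.Quotient.mk_eq_zero]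
    exact Ideal.mem_span_singleton.2 this
  · intro r
    rw [Submodule.liftQ_apply, LinearMap.toSpanSingleton_apply]

end embed

/-- **Semisimple modules with equal characteristic polynomials are isomorphic.** -/
theorem iso_of_cp_eq : ∀ (d : ℕ) (M M' : Type v) [AddCommGroup M] [Module F M] [Module F[X] M]
    [IsScalarTower F F[X] M] [Module.Finite F M] [AddCommGroup M'] [Module F M'] [Module F[X] M']
    [IsScalarTower F F[X] M'] [Module.Finite F M'] [IsSemisimpleModule F[X] M]
    [IsSemisimpleModule F[X] M'], Module.finrank F M = d → cp (F := F) M = cp (F := F) M' →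
    Nonempty (M ≃ₗ[F[X]] M') := by
  intro d
  induction d using Nat.strong_induction_on with
  | _ d ih =>
  intro M M' _ _ _ _ _ _ _ _ _ _ _ _ hd hcp
  have hd' : Module.finrank F M' = d := by
    rw [← hd, ← cp_natDegree, ← cp_natDegree, hcp]
  rcases Nat.eq_zero_or_pos d with h0 | hpos
  · have h1 : Subsingleton M := Module.finrank_zero_iff.1 (hd.trans h0)
    have h2 : Subsingleton M' := Module.finrank_zero_iff.1 (hd'.trans h0)
    exact ⟨LinearEquiv.ofSubsingleton M M'⟩
  · obtain ⟨p, hp, hpd⟩ := exists_irreducible_of_natDegree_pos (f := cp (F := F) M)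
      (by rw [cp_natDegree, hd]; exact hpos)
    obtain ⟨w, hw, hpw⟩ := exists_torsion_of_dvd_cp M hp hpd
    obtain ⟨w', hw', hpw'⟩ := exists_torsion_of_dvd_cp M' hp (hcp ▸ hpd)
    obtain ⟨ψ, hψ, -⟩ := exists_embedding M hp w hw hpw
    obtain ⟨ψ', hψ', -⟩ := exists_embedding M' hp w' hw' hpw'
    set W := LinearMap.range ψ with hW
    set W' := LinearMap.range ψ' with hW'
    let eW : W ≃ₗ[F[X]] W' :=
      (LinearEquiv.ofInjective ψ hψ).symm.trans (LinearEquiv.ofInjective ψ' hψ')
    obtain ⟨U, hU⟩ := exists_isCompl W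
    obtain ⟨U', hU'⟩ := exists_isCompl W'
    let Φ := Submodule.prodEquivOfIsCompl W U hU
    let Φ' := Submodule.prodEquivOfIsCompl W' U' hU'
    haveI : Module.Finite F W :=
      Module.Finite.of_injective (W.subtype.restrictScalars F) W.injective_subtype
    haveI : Module.Finite F U :=
      Module.Finite.of_injective (U.subtype.restrictScalars F) U.injective_subtype
    haveI : Module.Finite F W' :=
      Module.Finite.of_injective (W'.subtype.restrictScalars F) W'.injective_subtype
    haveI : Module.Finite F U' :=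
      Module.Finite.of_injective (U'.subtype.restrictScalars F) U'.injective_subtype
    have e1 : cp (F := F) M = cp (F := F) W * cp (F := F) U := by
      rw [← cp_prod]; exact (cp_congr Φ).symm
    have e2 : cp (F := F) M' = cp (F := F) W' * cp (F := F) U' := by
      rw [← cp_prod]; exact (cp_congr Φ').symm
    have e3 : cp (F := F) W = cp (F := F) W' := cp_congr eW
    have e4 : cp (F := F) U = cp (F := F) U' := by
      have : cp (F := F) W * cp (F := F) U = cp (F := F) W * cp (F := F) U' := by
        rw [← e1, hcp, e2, e3]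
      exact mul_left_cancel₀ (cp_monic W).ne_zero this
    have hWpos : 0 < Module.finrank F W := by
      rw [Module.finrank_pos_iff]
      exact ⟨⟨⟨ψ (Submodule.Quotient.mk 1), LinearMap.mem_range_self _ _⟩, 0, by
        intro h
        have h' := congrArg Subtype.val h
        simp only [ZeroMemClass.coe_zero] at h'
        have := hψ (h'.trans (map_zero ψ).symm)
        rw [Submodule.Quotient.mk_eq_zero, Ideal.mem_span_singleton] at this
        exact hp.not_isUnit (isUnit_of_dvd_one this)⟩⟩
    have hsum : Module.finrank F W + Module.finrank F U = d := by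
      rw [← hd, ← Module.finrank_prod]
      exact LinearEquiv.finrank_eq (Φ.restrictScalars F)
    obtain ⟨eU⟩ := ih (Module.finrank F U) (by omega) U U' rfl e4
    exact ⟨Φ.symm.trans ((LinearEquiv.prodCongr eW eU).trans Φ')⟩

/-- In a nontrivial semisimple module over `F[X]` (finite `F`) there are automorphisms of every
nonzero determinant. -/
theorem exists_aut_det [Finite F] (M : Type v) [AddCommGroup M] [Module F M] [Module F[X] M]
    [IsScalarTower F F[X] M] [Module.Finite F M] [IsSemisimpleModule F[X] M] [Nontrivial M]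
    (c : F) (hc : c ≠ 0) :
    ∃ e : M ≃ₗ[F[X]] M, LinearMap.det ((e.restrictScalars F : M ≃ₗ[F] M) : M →ₗ[F] M) = c := by
  have hpos : 0 < Module.finrank F M := Module.finrank_pos
  obtain ⟨p, hp, hpd⟩ := exists_irreducible_of_natDegree_pos (f := cp (F := F) M)
    (by rw [cp_natDegree]; exact hpos)
  obtain ⟨w, hw, hpw⟩ := exists_torsion_of_dvd_cp M hp hpd
  obtain ⟨ψ, hψ, hψr⟩ := exists_embedding M hp w hw hpw
  haveI hmax : (Ideal.span {p}).IsMaximal := PrincipalIdealRing.isMaximal_of_irreducible hp
  letI : Field (F[X] ⧸ Ideal.span {p}) := Ideal.Quotient.field _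
  haveI : Module.Finite F (F[X] ⧸ Ideal.span {p}) :=
    Module.Finite.of_injective (ψ.restrictScalars F) hψ
  haveI : Finite (F[X] ⧸ Ideal.span {p}) := Module.finite_of_finite F
  obtain ⟨α, hα⟩ := FiniteField.norm_surjective F (F[X] ⧸ Ideal.span {p}) c
  obtain ⟨r, rfl⟩ := Submodule.Quotient.mk_surjective _ α
  set W := LinearMap.range ψ with hW
  obtain ⟨U, hU⟩ := exists_isCompl W
  let Φ := Submodule.prodEquivOfIsCompl W U hU
  haveI : Module.Finite F W :=
    Module.Finite.of_injective (W.subtype.restrictScalars F) W.injective_subtype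
  haveI : Module.Finite F U :=
    Module.Finite.of_injective (U.subtype.restrictScalars F) U.injective_subtype
  -- multiplication by r on W
  let μW : W →ₗ[F[X]] W := r • LinearMap.id
  let e₀ : M →ₗ[F[X]] M := (Φ : (W × U) →ₗ[F[X]] M) ∘ₗ (μW.prodMap LinearMap.id) ∘ₗ
    (Φ.symm : M →ₗ[F[X]] (W × U))
  have hdet0 : LinearMap.det (e₀.restrictScalars F) = c := by
    have h1 : e₀.restrictScalars F = ((Φ.restrictScalars F : (W × U) ≃ₗ[F] M) : (W × U) →ₗ[F] M) ∘ₗ
        ((μW.restrictScalars F).prodMap LinearMap.id) ∘ₗ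
        (((Φ.restrictScalars F).symm : M ≃ₗ[F] (W × U)) : M →ₗ[F] (W × U)) := by
      ext m; rfl
    rw [h1, LinearMap.det_conj, LinearMap.det_prodMap, LinearMap.det_id, mul_one]
    -- det of μW equals the norm
    let ε : (F[X] ⧸ Ideal.span {p}) ≃ₗ[F] W := (LinearEquiv.ofInjective ψ hψ).restrictScalars F
    have h2 : μW.restrictScalars F = (ε : (F[X] ⧸ Ideal.span {p}) →ₗ[F] W) ∘ₗ
        (Algebra.lmul F (F[X] ⧸ Ideal.span {p}) (Submodule.Quotient.mk r)) ∘ₗ
        (ε.symm : W →ₗ[F] (F[X] ⧸ Ideal.span {p})) := by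
      ext x
      obtain ⟨β, hβ⟩ : ∃ β, ε β = x := ε.surjective x
      subst hβ
      simp only [LinearMap.coe_comp, LinearEquiv.coe_coe, Function.comp_apply,
        LinearEquiv.symm_apply_apply, Algebra.lmul_algebraMap, LinearMap.coe_restrictScalars]
      obtain ⟨s, rfl⟩ := Submodule.Quotient.mk_surjective _ β
      show ((r • (ε (Submodule.Quotient.mk s) : W) : W) : M) = _
      have : (Algebra.lmul F (F[X] ⧸ Ideal.span {p}) (Submodule.Quotient.mk r))
          (Submodule.Quotient.mk s) = (Submodule.Quotient.mk (r * s) : F[X] ⧸ Ideal.span {p}) := rfl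
      rw [this]
      show r • ψ (Submodule.Quotient.mk s) = ψ (Submodule.Quotient.mk (r * s))
      rw [hψr, hψr, mul_smul]
    rw [h2, LinearMap.det_conj, ← Algebra.norm_apply]
    exact hα
  have hbij : Function.Bijective e₀ := by
    have hne : LinearMap.det (e₀.restrictScalars F) ≠ 0 := by rw [hdet0]; exact hc
    have := (LinearMap.equivOfDetNeZero _ hne).bijective
    exact this
  refine ⟨LinearEquiv.ofBijective e₀ hbij, ?_⟩
  rw [← hdet0]
  rfl

end Cfsg.Agent.Lib.Helper4.SemiMod
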