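import Cfsg.Agent.Lib.Helper4.SemiMod2

/-!
# Semisimple matrices: conjugacy from equal characteristic polynomials
-/

namespace Cfsg.Agent.Lib.Helper4.SemiMod

open Polynomial

universe u

variable {F : Type u} [Field F] {n : ℕ}

/-- the `F[X]`-module of a matrix -/
abbrev MA (A : Matrix (Fin n) (Fin n) F) : Type u := Module.AEval' (Matrix.toLin' A)

lemma cp_MA (A : Matrix (Fin n) (Fin n) F) : cp (F := F) (MA A) = A.charpoly := by
  unfold cp
  rw [← Matrix.charpoly_toLin' A,
    ← LinearEquiv.charpoly_conj (Module.AEval'.of (Matrix.toLin' A)) (Matrix.toLin' A)]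
  congr 1
  ext m
  simp only [LinearEquiv.conj_apply, LinearMap.coe_comp, LinearEquiv.coe_coe, Function.comp_apply]
  rw [Xact_apply]
  obtain ⟨v, rfl⟩ := (Module.AEval'.of (Matrix.toLin' A)).surjective m
  rw [LinearEquiv.symm_apply_apply, Module.AEval'.X_smul_of]

lemma aeval_toLin' (A : Matrix (Fin n) (Fin n) F) (q : F[X]) :
    aeval (Matrix.toLin' A) q = Matrix.toLin' (aeval A q) := by
  have := Polynomial.aeval_algHom_apply (Matrix.toLinAlgEquiv' (R := F) (n := Fin n)).toAlgHom A q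
  exact this

lemma semisimple_MA (A : Matrix (Fin n) (Fin n) F) (k : ℕ) (hk : (k : F) ≠ 0) (hA : A ^ k = 1) :
    IsSemisimpleModule F[X] (MA A) := by
  have hsq : Squarefree (X ^ k - C (1 : F)) :=
    (separable_X_pow_sub_C (1 : F) hk one_ne_zero).squarefree
  have h0 : aeval (Matrix.toLin' A) (X ^ k - C (1 : F)) = 0 := by
    rw [aeval_toLin']
    simp [hA]
  exact Module.End.isSemisimple_of_squarefree_aeval_eq_zero hsq h0

/-- an isomorphism of modules gives an intertwining invertible matrix -/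
lemma exists_matrix_of_iso {A B : Matrix (Fin n) (Fin n) F} (e : MA A ≃ₗ[F[X]] MA B) :
    ∃ P : (Matrix (Fin n) (Fin n) F)ˣ, (P : Matrix (Fin n) (Fin n) F) * A = B * P ∧
      (P : Matrix (Fin n) (Fin n) F).det =
        LinearMap.det (((Module.AEval'.of (Matrix.toLin' A)).trans
          ((e.restrictScalars F).trans (Module.AEval'.of (Matrix.toLin' B)).symm) :
            (Fin n → F) ≃ₗ[F] (Fin n → F)) : (Fin n → F) →ₗ[F] (Fin n → F)) := by
  set ε : (Fin n → F) ≃ₗ[F] (Fin n → F) := (Module.AEval'.of (Matrix.toLin' A)).trans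
    ((e.restrictScalars F).trans (Module.AEval'.of (Matrix.toLin' B)).symm) with hε
  have hint : ∀ v, ε (Matrix.toLin' A v) = Matrix.toLin' B (ε v) := by
    intro v
    simp only [hε, LinearEquiv.trans_apply, LinearEquiv.restrictScalars_apply]
    rw [← Module.AEval'.X_smul_of, map_smul, ← Module.AEval'.of_symm_X_smul]
  have h1 : LinearMap.toMatrix' (ε : (Fin n → F) →ₗ[F] (Fin n → F)) *
      LinearMap.toMatrix' (ε.symm : (Fin n → F) →ₗ[F] (Fin n → F)) = 1 := by
    rw [← LinearMap.toMatrix'_comp, ← LinearMap.toMatrix'_id]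
    congr 1
    ext v : 1
    simp
  have h2 : LinearMap.toMatrix' (ε.symm : (Fin n → F) →ₗ[F] (Fin n → F)) *
      LinearMap.toMatrix' (ε : (Fin n → F) →ₗ[F] (Fin n → F)) = 1 := by
    rw [← LinearMap.toMatrix'_comp, ← LinearMap.toMatrix'_id]
    congr 1
    ext v : 1
    simp
  refine ⟨⟨_, _, h1, h2⟩, ?_, ?_⟩
  · show LinearMap.toMatrix' (ε : (Fin n → F) →ₗ[F] (Fin n → F)) * A = B * LinearMap.toMatrix' _
    have hA : A = LinearMap.toMatrix' (Matrix.toLin' A) := (LinearMap.toMatrix'_toLin' A).symm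
    have hB : B = LinearMap.toMatrix' (Matrix.toLin' B) := (LinearMap.toMatrix'_toLin' B).symm
    conv_lhs => rw [hA]
    conv_rhs => rw [hB]
    rw [← LinearMap.toMatrix'_comp, ← LinearMap.toMatrix'_comp]
    congr 1
    apply LinearMap.ext
    intro v
    exact hint v
  · show (LinearMap.toMatrix' (ε : (Fin n → F) →ₗ[F] (Fin n → F))).det = _
    rw [LinearMap.det_toMatrix']

lemma cast_ne_zero_of_coprime (p : ℕ) [Fact p.Prime] [CharP F p] {k : ℕ} (hk : k.Coprime p) :
    (k : F) ≠ 0 := by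
  intro h
  rw [CharP.cast_eq_zero_iff F p] at h
  have := Nat.Coprime.eq_one_of_dvd hk.symm h
  exact (Fact.out : p.Prime).one_lt.ne' this

lemma semisimple_of_gl (p : ℕ) [Fact p.Prime] [CharP F p] (g : GL (Fin n) F)
    (hg : (orderOf g).Coprime p) :
    IsSemisimpleModule F[X] (MA (g : Matrix (Fin n) (Fin n) F)) := by
  apply semisimple_MA _ (orderOf g) (cast_ne_zero_of_coprime p hg)
  rw [← Units.val_pow_eq_pow_val, pow_orderOf_eq_one]
  rfl

/-- **`p'`-elements of `GL_n(F)` with the same characteristic polynomial are conjugate.** -/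
theorem gl_isConj (p : ℕ) [Fact p.Prime] [CharP F p] (g h : GL (Fin n) F)
    (hg : (orderOf g).Coprime p) (hh : (orderOf h).Coprime p)
    (hc : (g : Matrix (Fin n) (Fin n) F).charpoly = (h : Matrix (Fin n) (Fin n) F).charpoly) :
    IsConj g h := by
  haveI := semisimple_of_gl p g hg
  haveI := semisimple_of_gl p h hh
  obtain ⟨e⟩ := iso_of_cp_eq (F := F) _ (MA (g : Matrix (Fin n) (Fin n) F))
    (MA (h : Matrix (Fin n) (Fin n) F)) rfl (by rw [cp_MA, cp_MA, hc])
  obtain ⟨P, hP, -⟩ := exists_matrix_of_iso e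
  rw [isConj_iff]
  refine ⟨P, ?_⟩
  rw [mul_inv_eq_iff_eq_mul]
  apply Units.ext
  exact hP

/-- centralizing elements of every determinant -/
theorem exists_commuting_det [Finite F] (p : ℕ) [Fact p.Prime] [CharP F p] (hn : 0 < n)
    (g : GL (Fin n) F) (hg : (orderOf g).Coprime p) (c : Fˣ) :
    ∃ z : GL (Fin n) F, z * g = g * z ∧ (z : Matrix (Fin n) (Fin n) F).det = c := by
  haveI := semisimple_of_gl p g hg
  haveI : Nonempty (Fin n) := ⟨⟨0, hn⟩⟩
  haveI : Nontrivial (MA (g : Matrix (Fin n) (Fin n) F)) :=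
    (Module.AEval'.of (Matrix.toLin' (g : Matrix (Fin n) (Fin n) F))).injective.nontrivial
  obtain ⟨e, he⟩ := exists_aut_det (MA (g : Matrix (Fin n) (Fin n) F)) (c : F) c.ne_zero
  obtain ⟨P, hP, hdet⟩ := exists_matrix_of_iso e
  refine ⟨P, Units.ext hP, ?_⟩
  rw [hdet, ← he]
  have := LinearMap.det_conj
    ((e.restrictScalars F : MA (g : Matrix (Fin n) (Fin n) F) ≃ₗ[F] _) :
      MA (g : Matrix (Fin n) (Fin n) F) →ₗ[F] _)
    (Module.AEval'.of (Matrix.toLin' (g : Matrix (Fin n) (Fin n) F))).symm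
  rw [← this]
  rfl

end Cfsg.Agent.Lib.Helper4.SemiMod
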