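import Cfsg.Agent.Lib.Helper4.SemiMod3

/-!
# SL-classes of semisimple elements
-/

namespace Cfsg.Agent.Lib.Helper4.SemiMod

open Polynomial

universe u

variable {F : Type u} [Field F] {n : ℕ}

theorem sl_class_eq_gl_class [Finite F] (p : ℕ) [Fact p.Prime] [CharP F p]
    (x g : GL (Fin n) F) (hx : (orderOf x).Coprime p) :
    ∃ h : GL (Fin n) F, (h : Matrix (Fin n) (Fin n) F).det = 1 ∧ h * x * h⁻¹ = g * x * g⁻¹ := by
  rcases Nat.eq_zero_or_pos n with h0 | hpos
  · subst h0
    exact ⟨g, Matrix.det_isEmpty, rfl⟩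
  · obtain ⟨z, hz, hdet⟩ := exists_commuting_det p hpos x hx (Matrix.GeneralLinearGroup.det g)⁻¹
    refine ⟨g * z, ?_, ?_⟩
    · rw [Units.val_mul, Matrix.det_mul, hdet]
      have : (g : Matrix (Fin n) (Fin n) F).det = ((Matrix.GeneralLinearGroup.det g : Fˣ) : F) := rfl
      rw [this, ← Units.val_mul, mul_inv_cancel, Units.val_one]
    · have : z * x * z⁻¹ = x := by rw [hz, mul_inv_cancel_right]
      calc g * z * x * (g * z)⁻¹ = g * (z * x * z⁻¹) * g⁻¹ := by group
        _ = g * x * g⁻¹ := by rw [this]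

theorem sl_isConj [Finite F] (p : ℕ) [Fact p.Prime] [CharP F p]
    (g h : Matrix.SpecialLinearGroup (Fin n) F) (hg : (orderOf g).Coprime p)
    (hh : (orderOf h).Coprime p)
    (hc : (g : Matrix (Fin n) (Fin n) F).charpoly = (h : Matrix (Fin n) (Fin n) F).charpoly) :
    IsConj g h := by
  rcases Nat.eq_zero_or_pos n with h0 | hpos
  · subst h0
    have : g = h := Subsingleton.elim _ _
    rw [this]
  · set g' : GL (Fin n) F := Matrix.SpecialLinearGroup.toGL g with hg'
    set h' : GL (Fin n) F := Matrix.SpecialLinearGroup.toGL h with hh'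
    have hinj : Function.Injective (Matrix.SpecialLinearGroup.toGL (n := Fin n) (R := F)) := by
      intro a b hab
      apply Subtype.ext
      have := congrArg (fun u : GL (Fin n) F => (u : Matrix (Fin n) (Fin n) F)) hab
      exact this
    have ho : orderOf g' = orderOf g := orderOf_injective _ hinj g
    have ho' : orderOf h' = orderOf h := orderOf_injective _ hinj h
    have hconj : IsConj g' h' := gl_isConj p g' h' (ho ▸ hg) (ho' ▸ hh) hc
    rw [isConj_iff] at hconj
    obtain ⟨c, hcc⟩ := hconj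
    obtain ⟨z, hz, hdet⟩ := exists_commuting_det p hpos g' (ho ▸ hg)
      (Matrix.GeneralLinearGroup.det c)⁻¹
    have hdet1 : ((c * z : GL (Fin n) F) : Matrix (Fin n) (Fin n) F).det = 1 := by
      rw [Units.val_mul, Matrix.det_mul, hdet]
      have : (c : Matrix (Fin n) (Fin n) F).det = ((Matrix.GeneralLinearGroup.det c : Fˣ) : F) := rfl
      rw [this, ← Units.val_mul, mul_inv_cancel, Units.val_one]
    have hcz : (c * z) * g' = h' * (c * z) := by
      have : z * g' * z⁻¹ = g' := by rw [hz, mul_inv_cancel_right]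
      calc c * z * g' = c * (z * g' * z⁻¹) * z := by group
        _ = (c * g' * c⁻¹) * (c * z) := by rw [this]; group
        _ = h' * (c * z) := by rw [hcc]
    rw [isConj_iff]
    let s : Matrix.SpecialLinearGroup (Fin n) F :=
      ⟨((c * z : GL (Fin n) F) : Matrix (Fin n) (Fin n) F), hdet1⟩
    refine ⟨s, ?_⟩
    rw [mul_inv_eq_iff_eq_mul]
    apply Subtype.ext
    have := congrArg (fun u : GL (Fin n) F => (u : Matrix (Fin n) (Fin n) F)) hcz
    exact this

end Cfsg.Agent.Lib.Helper4.SemiMod
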