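import Mathlib

/-! Subgroups of `GL(4,2)` (helper4, for S2553), part A: `4 × 4` matrices over `ZMod 2` coded as
natural numbers below `2 ^ 16` (bit `4 * i + j` is the entry `(i, j)`), and multiplication of
codes by bit operations. -/

set_option autoImplicit false

namespace Cfsg.Agent.Lib.Helper4.Sg42

abbrev M4 := Matrix (Fin 4) (Fin 4) (ZMod 2)

abbrev GL42 := Matrix.GeneralLinearGroup (Fin 4) (ZMod 2)

/-- the matrix with code `n` -/
def toM (n : ℕ) : M4 := Matrix.of fun i j => if n.testBit (4 * i.val + j.val) then 1 else 0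

theorem toM_apply (n : ℕ) (i j : Fin 4) :
    toM n i j = if n.testBit (4 * i.val + j.val) then 1 else 0 := rfl

/-- the code of a matrix -/
def code (A : M4) : ℕ :=
  Nat.ofBits fun k : Fin 16 =>
    decide (A ⟨k.val / 4, by omega⟩ ⟨k.val % 4, by omega⟩ = 1)

theorem code_lt (A : M4) : code A < 65536 := Nat.ofBits_lt_two_pow _

theorem zmod2_cases : ∀ x : ZMod 2, x = 0 ∨ x = 1 := by decide

theorem toM_code (A : M4) : toM (code A) = A := by
  ext i j
  rw [toM_apply, code, Nat.testBit_ofBits_lt _ _ (by omega)]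
  have hi : (⟨(4 * i.val + j.val) / 4, by omega⟩ : Fin 4) = i :=
    Fin.ext (by show (4 * i.val + j.val) / 4 = i.val; omega)
  have hj : (⟨(4 * i.val + j.val) % 4, by omega⟩ : Fin 4) = j :=
    Fin.ext (by show (4 * i.val + j.val) % 4 = j.val; omega)
  simp only [hi, hj]
  rcases zmod2_cases (A i j) with h | h <;> simp [h]

theorem testBit_of_lt {n k : ℕ} (hn : n < 65536) (hk : 16 ≤ k) : n.testBit k = false := by
  apply Nat.testBit_lt_two_pow
  calc n < 2 ^ 16 := hn
    _ ≤ 2 ^ k := Nat.pow_le_pow_right (by norm_num) hk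

theorem code_toM {n : ℕ} (hn : n < 65536) : code (toM n) = n := by
  apply Nat.eq_of_testBit_eq
  intro k
  by_cases hk : k < 16
  · rw [code, Nat.testBit_ofBits_lt _ _ hk]
    simp only [toM_apply]
    have : 4 * (k / 4) + k % 4 = k := by omega
    simp only [this]
    cases h : n.testBit k <;> simp
  · rw [code, Nat.testBit_ofBits_ge _ _ (by omega), testBit_of_lt hn (by omega)]

theorem toM_inj {a b : ℕ} (ha : a < 65536) (hb : b < 65536) (h : toM a = toM b) : a = b := by
  rw [← code_toM ha, ← code_toM hb, h]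

/-! ### multiplication of codes -/

def rowOf (n i : ℕ) : ℕ := (n >>> (4 * i)) % 16

/-- `r` if bit `k` of `a` is set, else `0` (written with the kernel-accelerated functions) -/
def sel (a k r : ℕ) : ℕ := Nat.mul (Nat.mod (Nat.shiftRight a k) 2) r

def mrow (a b0 b1 b2 b3 k0 k1 k2 k3 : ℕ) : ℕ :=
  Nat.xor (Nat.xor (Nat.xor (sel a k0 b0) (sel a k1 b1)) (sel a k2 b2)) (sel a k3 b3)

def mulC4 (a b0 b1 b2 b3 : ℕ) : ℕ :=
  Nat.lor (Nat.lor (Nat.lor (mrow a b0 b1 b2 b3 0 1 2 3)
    (Nat.shiftLeft (mrow a b0 b1 b2 b3 4 5 6 7) 4))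
    (Nat.shiftLeft (mrow a b0 b1 b2 b3 8 9 10 11) 8))
    (Nat.shiftLeft (mrow a b0 b1 b2 b3 12 13 14 15) 12)

def mulC (a b : ℕ) : ℕ :=
  mulC4 a (Nat.mod b 16) (Nat.mod (Nat.shiftRight b 4) 16) (Nat.mod (Nat.shiftRight b 8) 16)
    (Nat.mod (Nat.shiftRight b 12) 16)

def selRow (a b i j : ℕ) : ℕ := if a.testBit (4 * i + j) then rowOf b j else 0

def mulRowC (a b i : ℕ) : ℕ :=
  selRow a b i 0 ^^^ selRow a b i 1 ^^^ selRow a b i 2 ^^^ selRow a b i 3

theorem sel_eq (a k r : ℕ) : sel a k r = if a.testBit k then r else 0 := by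
  unfold sel
  show (a >>> k) % 2 * r = _
  rw [Nat.testBit_eq_decide_div_mod_eq, Nat.shiftRight_eq_div_pow]
  rcases Nat.mod_two_eq_zero_or_one (a / 2 ^ k) with h | h <;> simp [h]

theorem mulC_eq (a b : ℕ) :
    mulC a b =
      mulRowC a b 0 ||| (mulRowC a b 1 <<< 4) ||| (mulRowC a b 2 <<< 8) ||| (mulRowC a b 3 <<< 12) := by
  unfold mulC mulC4 mrow mulRowC selRow rowOf
  simp only [sel_eq]
  rfl

theorem rowOf_lt (n i : ℕ) : rowOf n i < 16 := Nat.mod_lt _ (by norm_num)

theorem selRow_lt (a b i j : ℕ) : selRow a b i j < 16 := by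
  unfold selRow
  split_ifs
  · exact rowOf_lt _ _
  · norm_num

theorem mulRowC_lt (a b i : ℕ) : mulRowC a b i < 16 := by
  unfold mulRowC
  have h := fun j => selRow_lt a b i j
  exact Nat.xor_lt_two_pow (n := 4) (Nat.xor_lt_two_pow (n := 4)
    (Nat.xor_lt_two_pow (n := 4) (h 0) (h 1)) (h 2)) (h 3)

theorem testBit_lt16 {x k : ℕ} (hx : x < 16) (hk : 4 ≤ k) : x.testBit k = false := by
  apply Nat.testBit_lt_two_pow
  calc x < 2 ^ 4 := hx
    _ ≤ 2 ^ k := Nat.pow_le_pow_right (by norm_num) hk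

theorem testBit_rowOf (n i j : ℕ) (hj : j < 4) : (rowOf n i).testBit j = n.testBit (4 * i + j) := by
  unfold rowOf
  rw [show (16 : ℕ) = 2 ^ 4 by norm_num, Nat.testBit_mod_two_pow, Nat.testBit_shiftRight]
  simp [hj]

theorem testBit_selRow (a b i k j : ℕ) (hj : j < 4) :
    (selRow a b i k).testBit j = (a.testBit (4 * i + k) && b.testBit (4 * k + j)) := by
  unfold selRow
  split_ifs with h
  · rw [testBit_rowOf _ _ _ hj, h, Bool.true_and]
  · simp at h
    rw [h, Bool.false_and, Nat.zero_testBit]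

theorem testBit_mulRowC (a b i j : ℕ) (hj : j < 4) :
    (mulRowC a b i).testBit j =
      ((a.testBit (4 * i + 0) && b.testBit (4 * 0 + j)) ^^
        (a.testBit (4 * i + 1) && b.testBit (4 * 1 + j)) ^^
        (a.testBit (4 * i + 2) && b.testBit (4 * 2 + j)) ^^
        (a.testBit (4 * i + 3) && b.testBit (4 * 3 + j))) := by
  unfold mulRowC
  simp only [Nat.testBit_xor, testBit_selRow _ _ _ _ _ hj]

theorem mulC_lt (a b : ℕ) : mulC a b < 65536 := by
  rw [mulC_eq]
  have h := fun i => mulRowC_lt a b i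
  have h0 := h 0; have h1 := h 1; have h2 := h 2; have h3 := h 3
  have e1 : mulRowC a b 1 <<< 4 < 2 ^ 16 := by rw [Nat.shiftLeft_eq]; omega
  have e2 : mulRowC a b 2 <<< 8 < 2 ^ 16 := by rw [Nat.shiftLeft_eq]; omega
  have e3 : mulRowC a b 3 <<< 12 < 2 ^ 16 := by rw [Nat.shiftLeft_eq]; omega
  have e0 : mulRowC a b 0 < 2 ^ 16 := by omega
  exact Nat.or_lt_two_pow (Nat.or_lt_two_pow (Nat.or_lt_two_pow e0 e1) e2) e3

theorem testBit_mulC (a b : ℕ) (i j : Fin 4) :
    (mulC a b).testBit (4 * i.val + j.val) = (mulRowC a b i.val).testBit j.val := by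
  have h := fun i => mulRowC_lt a b i
  have t := fun (i k : ℕ) (hk : 4 ≤ k) => testBit_lt16 (h i) hk
  rw [mulC_eq]
  simp only [Nat.testBit_or, Nat.testBit_shiftLeft]
  fin_cases i <;> fin_cases j <;> simp [t]

theorem bool_dot : ∀ p0 p1 p2 p3 q0 q1 q2 q3 : Bool,
    (if ((p0 && q0) ^^ (p1 && q1) ^^ (p2 && q2) ^^ (p3 && q3)) = true then (1 : ZMod 2) else 0) =
      (if p0 = true then 1 else 0) * (if q0 = true then 1 else 0) +
      (if p1 = true then 1 else 0) * (if q1 = true then 1 else 0) +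
      (if p2 = true then 1 else 0) * (if q2 = true then 1 else 0) +
      (if p3 = true then 1 else 0) * (if q3 = true then 1 else 0) := by decide

theorem toM_mulC (a b : ℕ) : toM (mulC a b) = toM a * toM b := by
  ext i j
  rw [Matrix.mul_apply, Fin.sum_univ_four]
  simp only [toM_apply]
  rw [testBit_mulC, testBit_mulRowC _ _ _ _ j.isLt, bool_dot]
  rfl

def idC : ℕ := 33825

theorem toM_idC : toM idC = 1 := by
  ext i j
  fin_cases i <;> fin_cases j <;> simp [toM_apply, idC] <;> decide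

/-- small powers -/
def powC (c : ℕ) : ℕ → ℕ
  | 0 => idC
  | n + 1 => mulC (powC c n) c

theorem toM_powC (c n : ℕ) : toM (powC c n) = toM c ^ n := by
  induction n with
  | zero => rw [powC, toM_idC, pow_zero]
  | succ n ih => rw [powC, toM_mulC, ih, pow_succ]

/-! ### codes of elements of `GL(4,2)` -/

def gcode (g : GL42) : ℕ := code (g : M4)

theorem gcode_lt (g : GL42) : gcode g < 65536 := code_lt _

theorem toM_gcode (g : GL42) : toM (gcode g) = (g : M4) := toM_code _

theorem gcode_injective : Function.Injective gcode := by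
  intro g h e
  apply Units.ext
  rw [← toM_gcode g, ← toM_gcode h, e]

theorem gcode_mul (g h : GL42) : gcode (g * h) = mulC (gcode g) (gcode h) := by
  apply toM_inj (gcode_lt _) (mulC_lt _ _)
  rw [toM_mulC, toM_gcode, toM_gcode, toM_gcode]
  rfl

theorem gcode_one : gcode (1 : GL42) = idC := by
  apply toM_inj (gcode_lt _) (by norm_num [idC])
  rw [toM_gcode, toM_idC]
  rfl

theorem gcode_pow (g : GL42) (n : ℕ) : gcode (g ^ n) = powC (gcode g) n := by
  induction n with
  | zero => rw [pow_zero, gcode_one, powC]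
  | succ n ih => rw [pow_succ, gcode_mul, ih, powC]

theorem eq_one_of_gcode {g : GL42} (h : gcode g = idC) : g = 1 :=
  gcode_injective (h.trans gcode_one.symm)

/-- an element with a given code, from an explicit inverse code -/
theorem exists_gcode {c c' : ℕ} (hc : c < 65536) (h : mulC c c' = idC) :
    ∃ g : GL42, gcode g = c := by
  have h1 : toM c * toM c' = 1 := by rw [← toM_mulC, h, toM_idC]
  have h2 : toM c' * toM c = 1 := mul_eq_one_comm.mp h1
  refine ⟨⟨toM c, toM c', h1, h2⟩, ?_⟩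
  show code (toM c) = c
  exact code_toM hc

theorem gcode_inv {g : GL42} {c' : ℕ} (hc' : c' < 65536) (h : mulC (gcode g) c' = idC) :
    gcode g⁻¹ = c' := by
  have h1 : (g : M4) * toM c' = 1 := by rw [← toM_gcode g, ← toM_mulC, h, toM_idC]
  apply toM_inj (gcode_lt _) hc'
  rw [toM_gcode]
  have h2 : ((g⁻¹ : GL42) : M4) * (g : M4) = 1 := by
    rw [← Units.val_mul, inv_mul_cancel]; rfl
  calc ((g⁻¹ : GL42) : M4) = ((g⁻¹ : GL42) : M4) * ((g : M4) * toM c') := by rw [h1, mul_one]
    _ = toM c' := by rw [← mul_assoc, h2, one_mul]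

theorem card_GL42 : Nat.card GL42 = 20160 := by
  rw [Matrix.card_GL_field]
  simp [Fin.prod_univ_four, ZMod.card]

end Cfsg.Agent.Lib.Helper4.Sg42
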