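import Mathlib
import Cfsg.Agent.Lib.Helper4.Sg42A

/-! Subgroups of `GL(4,2)` (helper4, for S2553), part B: breadth-first closure of a list of
generator codes, and the subgroup `Kof S` generated by the matrices whose codes are in `S`. -/

set_option autoImplicit false

namespace Cfsg.Agent.Lib.Helper4.Sg42

structure St where
  mask : ℕ
  next : List ℕ
  all : List ℕ

/-- bit test written with the kernel-accelerated functions -/
def tb (m y : ℕ) : Bool := Nat.beq (Nat.mod (Nat.shiftRight m y) 2) 1

theorem tb_eq (m y : ℕ) : tb m y = m.testBit y := by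
  unfold tb
  show Nat.beq ((m >>> y) % 2) 1 = _
  rw [Nat.testBit_eq_decide_div_mod_eq, Nat.shiftRight_eq_div_pow]
  rcases Nat.mod_two_eq_zero_or_one (m / 2 ^ y) with h | h
  · rw [h]; simp; rfl
  · rw [h]; simp

def addY (st : St) (y : ℕ) : St :=
  match tb st.mask y with
  | true => st
  | false => ⟨Nat.lor st.mask (Nat.shiftLeft 1 y), y :: st.next, y :: st.all⟩

def addOne (x : ℕ) (st : St) (a : ℕ) : St := addY st (mulC x a)

def expandOne (S : List ℕ) (st : St) (x : ℕ) : St := S.foldl (addOne x) st

def expandAll (S : List ℕ) (st : St) : St :=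
  st.next.foldl (expandOne S) ⟨st.mask, [], st.all⟩

def bfs (S : List ℕ) : ℕ → St → St
  | 0, st => st
  | fuel + 1, st =>
    match st.next with
    | [] => st
    | _ :: _ => bfs S fuel (expandAll S st)

def bfsInit : St := ⟨1 <<< idC, [idC], [idC]⟩

def grpSt (S : List ℕ) : St := bfs S 100 bfsInit

def elems (S : List ℕ) : List ℕ := (grpSt S).all

def gmask (S : List ℕ) : ℕ := (grpSt S).mask

/-! ### invariants -/

def Inv1 (P : ℕ → Prop) (st : St) : Prop := (∀ x ∈ st.next, P x) ∧ ∀ x ∈ st.all, P x

def Inv2 (st : St) : Prop := st.all.Nodup ∧ ∀ c, st.mask.testBit c = true ↔ c ∈ st.all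

theorem testBit_setBit (m y c : ℕ) :
    (m ||| (1 <<< y)).testBit c = true ↔ m.testBit c = true ∨ c = y := by
  rw [Nat.testBit_or, Nat.one_shiftLeft, Nat.testBit_two_pow, Bool.or_eq_true, decide_eq_true_eq]
  constructor
  · rintro (h | h)
    · exact Or.inl h
    · exact Or.inr h.symm
  · rintro (h | h)
    · exact Or.inl h
    · exact Or.inr h.symm

section
variable {P : ℕ → Prop} {S : List ℕ} (hP : ∀ x, P x → ∀ a ∈ S, P (mulC x a))
include hP

theorem inv1_addOne {x a : ℕ} (hx : P x) (ha : a ∈ S) {st : St} (h : Inv1 P st) :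
    Inv1 P (addOne x st a) := by
  unfold addOne addY
  split
  · exact h
  · refine ⟨?_, ?_⟩
    · intro z hz
      rcases List.mem_cons.mp hz with rfl | hz
      · exact hP x hx a ha
      · exact h.1 z hz
    · intro z hz
      rcases List.mem_cons.mp hz with rfl | hz
      · exact hP x hx a ha
      · exact h.2 z hz

theorem inv1_foldl_addOne {x : ℕ} (hx : P x) :
    ∀ (l : List ℕ), (∀ a ∈ l, a ∈ S) → ∀ st : St, Inv1 P st → Inv1 P (l.foldl (addOne x) st) := by
  intro l
  induction l with
  | nil => intro _ st h; exact h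
  | cons a l ih =>
    intro hl st h
    rw [List.foldl_cons]
    exact ih (fun b hb => hl b (List.mem_cons_of_mem _ hb)) _
      (inv1_addOne hP hx (hl a List.mem_cons_self) h)

theorem inv1_expandOne {x : ℕ} (hx : P x) {st : St} (h : Inv1 P st) :
    Inv1 P (expandOne S st x) :=
  inv1_foldl_addOne hP hx S (fun _ ha => ha) st h

theorem inv1_foldl_expandOne :
    ∀ (l : List ℕ), (∀ x ∈ l, P x) → ∀ st : St, Inv1 P st → Inv1 P (l.foldl (expandOne S) st) := by
  intro l
  induction l with
  | nil => intro _ st h; exact h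
  | cons x l ih =>
    intro hl st h
    rw [List.foldl_cons]
    exact ih (fun b hb => hl b (List.mem_cons_of_mem _ hb)) _
      (inv1_expandOne hP (hl x List.mem_cons_self) h)

theorem inv1_expandAll {st : St} (h : Inv1 P st) : Inv1 P (expandAll S st) := by
  unfold expandAll
  refine inv1_foldl_expandOne hP st.next h.1 _ ⟨?_, h.2⟩
  intro x hx
  cases hx

theorem inv1_bfs : ∀ (fuel : ℕ) (st : St), Inv1 P st → Inv1 P (bfs S fuel st) := by
  intro fuel
  induction fuel with
  | zero => intro st h; exact h
  | succ n ih =>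
    intro st h
    unfold bfs
    split
    · exact h
    · exact ih _ (inv1_expandAll hP h)

end

theorem inv2_addOne (x a : ℕ) {st : St} (h : Inv2 st) : Inv2 (addOne x st a) := by
  unfold addOne addY
  split
  · exact h
  · rename_i hb
    rw [tb_eq] at hb
    refine ⟨?_, ?_⟩
    · show (mulC x a :: st.all).Nodup
      rw [List.nodup_cons]
      refine ⟨?_, h.1⟩
      intro hmem
      rw [(h.2 _).mpr hmem] at hb
      exact Bool.noConfusion hb
    · intro c
      show (st.mask ||| (1 <<< mulC x a)).testBit c = true ↔ c ∈ mulC x a :: st.all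
      rw [testBit_setBit, List.mem_cons, h.2 c]
      tauto

theorem inv2_foldl_addOne (x : ℕ) :
    ∀ (l : List ℕ) (st : St), Inv2 st → Inv2 (l.foldl (addOne x) st) := by
  intro l
  induction l with
  | nil => intro st h; exact h
  | cons a l ih =>
    intro st h
    rw [List.foldl_cons]
    exact ih _ (inv2_addOne x a h)

theorem inv2_foldl_expandOne (S : List ℕ) :
    ∀ (l : List ℕ) (st : St), Inv2 st → Inv2 (l.foldl (expandOne S) st) := by
  intro l
  induction l with
  | nil => intro st h; exact h
  | cons x l ih =>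
    intro st h
    rw [List.foldl_cons]
    exact ih _ (inv2_foldl_addOne x S st h)

theorem inv2_expandAll (S : List ℕ) {st : St} (h : Inv2 st) : Inv2 (expandAll S st) := by
  unfold expandAll
  exact inv2_foldl_expandOne S st.next _ h

theorem inv2_bfs (S : List ℕ) : ∀ (fuel : ℕ) (st : St), Inv2 st → Inv2 (bfs S fuel st) := by
  intro fuel
  induction fuel with
  | zero => intro st h; exact h
  | succ n ih =>
    intro st h
    unfold bfs
    split
    · exact h
    · exact ih _ (inv2_expandAll S h)

theorem inv2_init : Inv2 bfsInit := by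
  refine ⟨List.nodup_singleton _, ?_⟩
  intro c
  show (1 <<< idC).testBit c = true ↔ c ∈ [idC]
  rw [Nat.one_shiftLeft, Nat.testBit_two_pow, decide_eq_true_eq, List.mem_singleton]
  exact eq_comm

theorem elems_nodup (S : List ℕ) : (elems S).Nodup := (inv2_bfs S 100 bfsInit inv2_init).1

theorem gmask_iff (S : List ℕ) (c : ℕ) : (gmask S).testBit c = true ↔ c ∈ elems S :=
  (inv2_bfs S 100 bfsInit inv2_init).2 c

/-! ### the subgroup generated by a list of codes -/

/-- the subgroup of `GL(4,2)` generated by the matrices whose codes are in `S` -/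
def Kof (S : List ℕ) : Subgroup GL42 := Subgroup.closure {g | gcode g ∈ S}

/-- every generator code is the code of an invertible matrix (explicit inverses in `Sinv`) -/
def invOK (S Sinv : List ℕ) : Bool :=
  S.all fun a => Sinv.any fun a' => Nat.blt a 65536 && Nat.beq (mulC a a') idC

/-- the breadth-first closure is closed under right multiplication by the generators -/
def closedOK (S : List ℕ) : Bool :=
  tb (gmask S) idC && (elems S).all fun c => S.all fun a => tb (gmask S) (mulC c a)

theorem exists_of_invOK {S Sinv : List ℕ} (h : invOK S Sinv = true) {a : ℕ} (ha : a ∈ S) :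
    ∃ g : GL42, gcode g = a := by
  unfold invOK at h
  rw [List.all_eq_true] at h
  have h1 := h a ha
  rw [List.any_eq_true] at h1
  obtain ⟨a', _, h2⟩ := h1
  rw [Bool.and_eq_true] at h2
  exact exists_gcode (Nat.blt_eq.mp h2.1) (Nat.eq_of_beq_eq_true h2.2)

theorem elems_sound {S Sinv : List ℕ} (h : invOK S Sinv = true) :
    ∀ c ∈ elems S, ∃ g ∈ Kof S, gcode g = c := by
  have hP : ∀ x, (∃ g ∈ Kof S, gcode g = x) → ∀ a ∈ S, ∃ g ∈ Kof S, gcode g = mulC x a := by
    rintro x ⟨g, hg, rfl⟩ a ha
    obtain ⟨k, hk⟩ := exists_of_invOK h ha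
    refine ⟨g * k, (Kof S).mul_mem hg (Subgroup.subset_closure ?_), ?_⟩
    · show gcode k ∈ S
      rw [hk]; exact ha
    · rw [gcode_mul, hk]
  have h0 : Inv1 (fun c => ∃ g ∈ Kof S, gcode g = c) bfsInit := by
    have : ∀ x ∈ [idC], ∃ g ∈ Kof S, gcode g = x := by
      intro x hx
      rw [List.mem_singleton] at hx
      exact ⟨1, (Kof S).one_mem, hx ▸ gcode_one⟩
    exact ⟨this, this⟩
  exact (inv1_bfs hP 100 bfsInit h0).2

theorem mem_elems_of_mem_Kof {S : List ℕ} (h : closedOK S = true) {g : GL42} (hg : g ∈ Kof S) :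
    gcode g ∈ elems S := by
  unfold closedOK at h
  simp only [tb_eq] at h
  rw [Bool.and_eq_true, List.all_eq_true] at h
  obtain ⟨h1, h2⟩ := h
  have hg' : g ∈ Submonoid.closure {g : GL42 | gcode g ∈ S} := by
    rw [← Subgroup.closure_toSubmonoid_of_finite]
    exact hg
  induction hg' using Submonoid.closure_induction_right with
  | one =>
    rw [gcode_one]
    exact (gmask_iff S idC).mp h1
  | mul_right x hx y hy ih =>
    have hx' : x ∈ Kof S := by
      show x ∈ (Subgroup.closure {g : GL42 | gcode g ∈ S}).toSubmonoid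
      rw [Subgroup.closure_toSubmonoid_of_finite]
      exact hx
    have h3 := h2 (gcode x) (ih hx')
    rw [List.all_eq_true] at h3
    rw [gcode_mul]
    exact (gmask_iff S _).mp (h3 (gcode y) hy)

/-- all checks on a generating list -/
def grpOK (S Sinv : List ℕ) : Bool := invOK S Sinv && closedOK S

theorem mem_Kof_iff {S Sinv : List ℕ} (h : grpOK S Sinv = true) (g : GL42) :
    g ∈ Kof S ↔ gcode g ∈ elems S := by
  unfold grpOK at h
  rw [Bool.and_eq_true] at h
  constructor
  · exact mem_elems_of_mem_Kof h.2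
  · intro hg
    obtain ⟨k, hk, hkg⟩ := elems_sound h.1 _ hg
    rwa [gcode_injective hkg] at hk

theorem mem_Kof_iff' {S Sinv : List ℕ} (h : grpOK S Sinv = true) (g : GL42) :
    g ∈ Kof S ↔ tb (gmask S) (gcode g) = true := by
  rw [mem_Kof_iff h, tb_eq, gmask_iff]

theorem tb_gmask_iff (S : List ℕ) (c : ℕ) : tb (gmask S) c = true ↔ c ∈ elems S := by
  rw [tb_eq, gmask_iff]

theorem exists_of_mem_elems {S Sinv : List ℕ} (h : grpOK S Sinv = true) {c : ℕ}
    (hc : c ∈ elems S) : ∃ g ∈ Kof S, gcode g = c := by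
  unfold grpOK at h
  rw [Bool.and_eq_true] at h
  exact elems_sound h.1 c hc

theorem card_Kof {S Sinv : List ℕ} (h : grpOK S Sinv = true) :
    Nat.card (Kof S) = (elems S).length := by
  classical
  rw [← List.toFinset_card_of_nodup (elems_nodup S)]
  have e : ↥(Kof S) ≃ ↥((elems S).toFinset) :=
    Equiv.ofBijective
      (fun g => ⟨gcode g.1, List.mem_toFinset.mpr ((mem_Kof_iff h g.1).mp g.2)⟩)
      ⟨fun a b hab => Subtype.ext (gcode_injective (Subtype.mk.inj hab)), fun c => by
        obtain ⟨g, hg, hgc⟩ := exists_of_mem_elems h (List.mem_toFinset.mp c.2)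
        exact ⟨⟨g, hg⟩, Subtype.ext hgc⟩⟩
  rw [Nat.card_congr e, Nat.card_eq_fintype_card, Fintype.card_coe]

theorem Kof_le {S : List ℕ} {H : Subgroup GL42} (h : ∀ g : GL42, gcode g ∈ S → g ∈ H) :
    Kof S ≤ H := by
  unfold Kof
  rw [Subgroup.closure_le]
  exact fun g hg => h g hg

end Cfsg.Agent.Lib.Helper4.Sg42
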