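import Mathlib
import Cfsg.Agent.Lib.Helper4.Sg42B

/-! Subgroups of `GL(4,2)` (helper4, for S2553), part C: certified overgroup tables.
A table is a list of nodes (subgroups given by generator codes, in increasing order, each
containing the first one).  Node `0` carries a list of double coset representatives covering
the whole group; every other node reduces these representatives to its own (fewer) double coset
representatives `r`; every representative `r` of a node `K` points to a later node whose
generators are explicit words in the generators of `K` and `r`.  A checked table shows that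
every subgroup containing the first node is one of the nodes (or has an element of order `7`,
for truncated tables with parameter `q = 7`). -/

set_option autoImplicit false

namespace Cfsg.Agent.Lib.Helper4.Sg42

structure Entry where
  r : ℕ
  tgt : ℕ
  words : List (List ℕ)

structure Node where
  gens : List ℕ
  ginv : List ℕ
  entries : List Entry
  /-- for node `0`: the single cosets `(entry index, k2)` -/
  cosets : List (ℕ × ℕ)
  /-- for the other nodes: for every entry `e0` of node `0`, `(entry index, k1, k2)` with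
  `e0.r = k1 * r * k2` (or an index out of range when `e0.r` lies in the node) -/
  reduce : List (ℕ × ℕ × ℕ)

/-- unpack a list of pairs of numbers below `2 ^ 16` from one number -/
def unpack2 : ℕ → ℕ → List (ℕ × ℕ)
  | 0, _ => []
  | len + 1, n =>
    (Nat.mod n 65536, Nat.mod (Nat.shiftRight n 16) 65536) :: unpack2 len (Nat.shiftRight n 32)

/-- unpack a list of triples of numbers below `2 ^ 16` from one number -/
def unpack3 : ℕ → ℕ → List (ℕ × ℕ × ℕ)
  | 0, _ => []
  | len + 1, n =>
    (Nat.mod n 65536, Nat.mod (Nat.shiftRight n 16) 65536, Nat.mod (Nat.shiftRight n 32) 65536) ::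
      unpack3 len (Nat.shiftRight n 48)

def emptyEntry : Entry := ⟨idC, 0, []⟩

def emptyNode : Node := ⟨[], [], [], [], []⟩

/-- evaluate a word in the given letters -/
def evalW (letters : List ℕ) (w : List ℕ) : ℕ :=
  w.foldl (fun acc k => mulC acc (letters.getD k idC)) idC

/-- add the coset `l * r` to the mask -/
def cosetAdd (r : ℕ) : List ℕ → ℕ → ℕ
  | [], m => m
  | c :: l, m => cosetAdd r l (Nat.lor m (Nat.shiftLeft 1 (mulC c r)))

def covFold (l : List ℕ) (entries : List Entry) : List (ℕ × ℕ) → ℕ → ℕ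
  | [], m => m
  | p :: ps, m => covFold l entries ps (cosetAdd (mulC (entries.getD p.1 emptyEntry).r p.2) l m)

def covMask (nd : Node) : ℕ := covFold (elems nd.gens) nd.entries nd.cosets (gmask nd.gens)

def cosetsOK (nd : Node) : Bool :=
  nd.cosets.all fun p => tb (gmask nd.gens) p.2 && Nat.blt p.1 nd.entries.length

def wordsOK (letters : List ℕ) : List (List ℕ) → List ℕ → Bool
  | [], [] => true
  | w :: ws, t :: ts => Nat.beq (evalW letters w) t && wordsOK letters ws ts
  | _, _ => false

def entryOK (q : ℕ) (nodes : List Node) (i : ℕ) (gens : List ℕ) (e : Entry) : Bool :=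
  Nat.blt e.r 65536 &&
  (match Nat.blt e.tgt nodes.length with
   | true => Nat.blt i e.tgt && wordsOK (gens ++ [e.r]) e.words (nodes.getD e.tgt emptyNode).gens
   | false =>
     match e.words with
     | [w] => !(Nat.beq (evalW (gens ++ [e.r]) w) idC) &&
        Nat.beq (powC (evalW (gens ++ [e.r]) w) q) idC
     | _ => false)

def itemOK (mask : ℕ) (entries : List Entry) (e0 : Entry) (t : ℕ × ℕ × ℕ) : Bool :=
  match Nat.blt t.1 entries.length with
  | true => tb mask t.2.1 && tb mask t.2.2 &&
      Nat.beq (mulC (mulC t.2.1 (entries.getD t.1 emptyEntry).r) t.2.2) e0.r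
  | false => tb mask e0.r

def redOK (mask : ℕ) (entries : List Entry) : List Entry → List (ℕ × ℕ × ℕ) → Bool
  | [], [] => true
  | e0 :: es, t :: ts => itemOK mask entries e0 t && redOK mask entries es ts
  | _, _ => false

/-- the check of node `0` -/
def node0OK (q : ℕ) (maskG : ℕ) (nodes : List Node) : Bool :=
  grpOK (nodes.getD 0 emptyNode).gens (nodes.getD 0 emptyNode).ginv &&
    cosetsOK (nodes.getD 0 emptyNode) && Nat.beq (covMask (nodes.getD 0 emptyNode)) maskG &&
    (nodes.getD 0 emptyNode).entries.all (entryOK q nodes 0 (nodes.getD 0 emptyNode).gens)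

/-- the check of node `i > 0` -/
def nodeOK (q : ℕ) (nodes : List Node) (i : ℕ) : Bool :=
  grpOK (nodes.getD i emptyNode).gens (nodes.getD i emptyNode).ginv &&
    (nodes.getD 0 emptyNode).gens.all (tb (gmask (nodes.getD i emptyNode).gens)) &&
    redOK (gmask (nodes.getD i emptyNode).gens) (nodes.getD i emptyNode).entries
      (nodes.getD 0 emptyNode).entries (nodes.getD i emptyNode).reduce &&
    (nodes.getD i emptyNode).entries.all (entryOK q nodes i (nodes.getD i emptyNode).gens)

/-! ### soundness -/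

theorem testBit_cosetAdd (r x : ℕ) :
    ∀ (l : List ℕ) (m : ℕ), (cosetAdd r l m).testBit x = true →
      m.testBit x = true ∨ ∃ c ∈ l, x = mulC c r := by
  intro l
  induction l with
  | nil => intro m h; exact Or.inl h
  | cons c l ih =>
    intro m h
    rw [cosetAdd] at h
    rcases ih _ h with h1 | ⟨c', hc', hx⟩
    · have h2 : (m ||| (1 <<< mulC c r)).testBit x = true := h1
      rw [testBit_setBit] at h2
      rcases h2 with h2 | h2
      · exact Or.inl h2
      · exact Or.inr ⟨c, List.mem_cons_self, h2⟩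
    · exact Or.inr ⟨c', List.mem_cons_of_mem _ hc', hx⟩

theorem testBit_covFold (l : List ℕ) (entries : List Entry) (x : ℕ) :
    ∀ (ps : List (ℕ × ℕ)) (m : ℕ), (covFold l entries ps m).testBit x = true →
      m.testBit x = true ∨
        ∃ p ∈ ps, ∃ c ∈ l, x = mulC c (mulC (entries.getD p.1 emptyEntry).r p.2) := by
  intro ps
  induction ps with
  | nil => intro m h; exact Or.inl h
  | cons p ps ih =>
    intro m h
    rw [covFold] at h
    rcases ih _ h with h1 | ⟨p', hp', c, hc, hx⟩
    · rcases testBit_cosetAdd _ x l m h1 with h2 | ⟨c, hc, hx⟩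
      · exact Or.inl h2
      · exact Or.inr ⟨p, List.mem_cons_self, c, hc, hx⟩
    · exact Or.inr ⟨p', List.mem_cons_of_mem _ hp', c, hc, hx⟩

theorem evalW_mem {H : Subgroup GL42} {letters : List ℕ}
    (hl : ∀ a ∈ letters, ∃ h ∈ H, gcode h = a) (w : List ℕ) :
    ∃ h ∈ H, gcode h = evalW letters w := by
  unfold evalW
  have key : ∀ (w : List ℕ) (acc : ℕ), (∃ h ∈ H, gcode h = acc) →
      ∃ h ∈ H, gcode h = w.foldl (fun acc k => mulC acc (letters.getD k idC)) acc := by
    intro w
    induction w with
    | nil => intro acc h; exact h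
    | cons k w ih =>
      intro acc h
      rw [List.foldl_cons]
      apply ih
      obtain ⟨h1, hh1, rfl⟩ := h
      have h2 : ∃ h ∈ H, gcode h = letters.getD k idC := by
        rw [List.getD_eq_getElem?_getD]
        cases hk : letters[k]? with
        | none => exact ⟨1, H.one_mem, by simpa using gcode_one⟩
        | some a =>
          have : a ∈ letters := List.mem_of_getElem? hk
          simpa using hl a this
      obtain ⟨h2, hh2, e2⟩ := h2
      exact ⟨h1 * h2, H.mul_mem hh1 hh2, by rw [gcode_mul, e2]⟩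
  exact key w idC ⟨1, H.one_mem, gcode_one⟩

theorem wordsOK_spec (letters : List ℕ) :
    ∀ (ws : List (List ℕ)) (ts : List ℕ), wordsOK letters ws ts = true →
      ∀ t ∈ ts, ∃ w, evalW letters w = t := by
  intro ws
  induction ws with
  | nil =>
    intro ts h t ht
    cases ts with
    | nil => cases ht
    | cons _ _ => simp [wordsOK] at h
  | cons w ws ih =>
    intro ts h t ht
    cases ts with
    | nil => cases ht
    | cons t0 ts =>
      rw [wordsOK, Bool.and_eq_true] at h
      rcases List.mem_cons.mp ht with rfl | ht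
      · exact ⟨w, Nat.eq_of_beq_eq_true h.1⟩
      · exact ih ts h.2 t ht

theorem redOK_spec (mask : ℕ) (entries : List Entry) :
    ∀ (es : List Entry) (ts : List (ℕ × ℕ × ℕ)), redOK mask entries es ts = true →
      ∀ e0 ∈ es, ∃ t, itemOK mask entries e0 t = true := by
  intro es
  induction es with
  | nil => intro ts _ e0 he0; cases he0
  | cons e es ih =>
    intro ts h e0 he0
    cases ts with
    | nil => simp [redOK] at h
    | cons t ts =>
      rw [redOK, Bool.and_eq_true] at h
      rcases List.mem_cons.mp he0 with rfl | he0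
      · exact ⟨t, h.1⟩
      · exact ih ts h.2 e0 he0

/-- if `g = a * R * b` as matrices then `a⁻¹ * g * b⁻¹` has matrix `R` -/
theorem sandwich {a g b : GL42} {r : ℕ} (hr : r < 65536)
    (h : (g : M4) = (a : M4) * toM r * (b : M4)) : gcode (a⁻¹ * g * b⁻¹) = r := by
  apply toM_inj (gcode_lt _) hr
  rw [toM_gcode]
  have e2 : ((a⁻¹ * g * b⁻¹ : GL42) : M4) =
      ((a⁻¹ : GL42) : M4) * (g : M4) * ((b⁻¹ : GL42) : M4) := rfl
  have e3 : ((a⁻¹ : GL42) : M4) * (a : M4) = 1 := by
    rw [← Units.val_mul, inv_mul_cancel]; rfl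
  have e4 : (b : M4) * ((b⁻¹ : GL42) : M4) = 1 := by
    rw [← Units.val_mul, mul_inv_cancel]; rfl
  rw [e2, h]
  calc ((a⁻¹ : GL42) : M4) * ((a : M4) * toM r * (b : M4)) * ((b⁻¹ : GL42) : M4)
      = (((a⁻¹ : GL42) : M4) * (a : M4)) * toM r * ((b : M4) * ((b⁻¹ : GL42) : M4)) := by
        simp only [mul_assoc]
    _ = toM r := by rw [e3, e4, one_mul, mul_one]

/-- coverage by node `0` -/
theorem cover_step {maskG : ℕ} (hG : ∀ g : GL42, maskG.testBit (gcode g) = true)
    {nd : Node} (hgrp : grpOK nd.gens nd.ginv = true) (hcos : cosetsOK nd = true)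
    (hcov : covMask nd = maskG) (hr : ∀ e ∈ nd.entries, e.r < 65536)
    {g : GL42} (hgK : g ∉ Kof nd.gens) :
    ∃ e ∈ nd.entries, ∃ a ∈ Kof nd.gens, ∃ b ∈ Kof nd.gens, gcode (a⁻¹ * g * b⁻¹) = e.r := by
  have h1 := hG g
  rw [← hcov] at h1
  unfold covMask at h1
  rcases testBit_covFold (elems nd.gens) nd.entries (gcode g) nd.cosets _ h1 with h2 | h2
  · exact absurd ((mem_Kof_iff hgrp g).mpr ((gmask_iff _ _).mp h2)) hgK
  obtain ⟨p, hp, c, hc, hx⟩ := h2
  unfold cosetsOK at hcos
  rw [List.all_eq_true] at hcos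
  have hp' := hcos p hp
  rw [Bool.and_eq_true] at hp'
  have hk2 : p.2 ∈ elems nd.gens := (tb_gmask_iff _ _).mp hp'.1
  have hpl : p.1 < nd.entries.length := Nat.blt_eq.mp hp'.2
  set e := nd.entries.getD p.1 emptyEntry with he
  have hemem : e ∈ nd.entries := by
    rw [he, List.getD_eq_getElem?_getD, List.getElem?_eq_getElem hpl]
    exact List.getElem_mem hpl
  obtain ⟨kc, hkc, hkcc⟩ := exists_of_mem_elems hgrp hc
  obtain ⟨k2, hk2m, hk2c⟩ := exists_of_mem_elems hgrp hk2
  refine ⟨e, hemem, kc, hkc, k2, hk2m, sandwich (hr e hemem) ?_⟩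
  rw [← toM_gcode g, hx, toM_mulC, toM_mulC, hkcc.symm, hk2c.symm, toM_gcode, toM_gcode,
    mul_assoc]

/-- the generators of a node lie in every subgroup containing it, as codes -/
theorem gens_codes {S Sinv : List ℕ} (hgrp : grpOK S Sinv = true) {H : Subgroup GL42}
    (hle : Kof S ≤ H) : ∀ a ∈ S, ∃ h ∈ H, gcode h = a := by
  intro a ha
  unfold grpOK at hgrp
  rw [Bool.and_eq_true] at hgrp
  obtain ⟨k, hk⟩ := exists_of_invOK hgrp.1 ha
  exact ⟨k, hle (Subgroup.subset_closure (by show gcode k ∈ S; rw [hk]; exact ha)), hk⟩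

/-- use of an entry -/
theorem entry_step {q : ℕ} {nodes : List Node} {i : ℕ} {S Sinv : List ℕ}
    (hgrp : grpOK S Sinv = true) {e : Entry} (heok : entryOK q nodes i S e = true)
    {H : Subgroup GL42} (hle : Kof S ≤ H) {ρ : GL42} (hρ : ρ ∈ H) (hρc : gcode ρ = e.r) :
    (∃ j, i < j ∧ j < nodes.length ∧ Kof (nodes.getD j emptyNode).gens ≤ H) ∨
      ∃ x ∈ H, x ≠ 1 ∧ x ^ q = 1 := by
  unfold entryOK at heok
  rw [Bool.and_eq_true] at heok
  obtain ⟨_, heok⟩ := heok
  have hletters : ∀ a ∈ S ++ [e.r], ∃ h ∈ H, gcode h = a := by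
    intro a ha
    rcases List.mem_append.mp ha with ha | ha
    · exact gens_codes hgrp hle a ha
    · rw [List.mem_singleton] at ha
      rw [ha]; exact ⟨ρ, hρ, hρc⟩
  split at heok
  · rename_i hlt
    rw [Bool.and_eq_true] at heok
    left
    refine ⟨e.tgt, Nat.blt_eq.mp heok.1, Nat.blt_eq.mp hlt, ?_⟩
    apply Kof_le
    intro g' hg'
    obtain ⟨w, hw⟩ := wordsOK_spec _ _ _ heok.2 _ hg'
    obtain ⟨h, hh, hhc⟩ := evalW_mem hletters w
    rw [hw] at hhc
    rwa [gcode_injective hhc] at hh
  · right
    split at heok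
    · rename_i w _
      rw [Bool.and_eq_true] at heok
      obtain ⟨h, hh, hhc⟩ := evalW_mem hletters w
      refine ⟨h, hh, ?_, ?_⟩
      · intro h1
        have : Nat.beq (evalW (S ++ [e.r]) w) idC = true := by
          rw [← hhc, h1, gcode_one]; exact Nat.beq_refl _
        rw [this] at heok
        exact Bool.noConfusion heok.1
      · apply eq_one_of_gcode
        rw [gcode_pow, hhc]
        exact Nat.eq_of_beq_eq_true heok.2
    · exact Bool.noConfusion heok

theorem entry_r_lt {q : ℕ} {nodes : List Node} {i : ℕ} {S : List ℕ} {es : List Entry}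
    (h : es.all (entryOK q nodes i S) = true) : ∀ e ∈ es, e.r < 65536 := by
  intro e he
  rw [List.all_eq_true] at h
  have := h e he
  unfold entryOK at this
  rw [Bool.and_eq_true] at this
  exact Nat.blt_eq.mp this.1

/-- one step at node `0` -/
theorem node0_step {q : ℕ} {maskG : ℕ} (hG : ∀ g : GL42, maskG.testBit (gcode g) = true)
    {nodes : List Node} (hok : node0OK q maskG nodes = true)
    {H : Subgroup GL42} (hle : Kof (nodes.getD 0 emptyNode).gens ≤ H)
    (hne : H ≠ Kof (nodes.getD 0 emptyNode).gens) :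
    (∃ j, 0 < j ∧ j < nodes.length ∧ Kof (nodes.getD j emptyNode).gens ≤ H) ∨
      ∃ x ∈ H, x ≠ 1 ∧ x ^ q = 1 := by
  unfold node0OK at hok
  simp only [Bool.and_eq_true] at hok
  obtain ⟨⟨⟨hgrp, hcos⟩, hcov⟩, hent⟩ := hok
  obtain ⟨g, hgH, hgK⟩ : ∃ g ∈ H, g ∉ Kof (nodes.getD 0 emptyNode).gens := by
    by_contra hcon
    push Not at hcon
    exact hne (le_antisymm hcon hle)
  obtain ⟨e, he, a, ha, b, hb, hc⟩ := cover_step hG hgrp hcos (Nat.eq_of_beq_eq_true hcov)
    (entry_r_lt hent) hgK
  rw [List.all_eq_true] at hent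
  exact entry_step hgrp (hent e he) hle
    (H.mul_mem (H.mul_mem (H.inv_mem (hle ha)) hgH) (H.inv_mem (hle hb))) hc

/-- one step at node `i > 0` -/
theorem node_step {q : ℕ} {maskG : ℕ} (hG : ∀ g : GL42, maskG.testBit (gcode g) = true)
    {nodes : List Node} (hok0 : node0OK q maskG nodes = true) {i : ℕ}
    (hok : nodeOK q nodes i = true)
    {H : Subgroup GL42} (hle : Kof (nodes.getD i emptyNode).gens ≤ H)
    (hne : H ≠ Kof (nodes.getD i emptyNode).gens) :
    (∃ j, i < j ∧ j < nodes.length ∧ Kof (nodes.getD j emptyNode).gens ≤ H) ∨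
      ∃ x ∈ H, x ≠ 1 ∧ x ^ q = 1 := by
  unfold node0OK at hok0
  simp only [Bool.and_eq_true] at hok0
  obtain ⟨⟨⟨hgrp0, hcos0⟩, hcov0⟩, hent0⟩ := hok0
  unfold nodeOK at hok
  simp only [Bool.and_eq_true] at hok
  obtain ⟨⟨⟨hgrp, hsub⟩, hred⟩, hent⟩ := hok
  set nd := nodes.getD i emptyNode with hnd
  set nd0 := nodes.getD 0 emptyNode with hnd0
  -- node 0 is contained in node i
  have h0le : Kof nd0.gens ≤ Kof nd.gens := by
    apply Kof_le
    intro g hg
    rw [List.all_eq_true] at hsub
    exact (mem_Kof_iff' hgrp g).mpr (hsub _ hg)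
  obtain ⟨g, hgH, hgK⟩ : ∃ g ∈ H, g ∉ Kof nd.gens := by
    by_contra hcon
    push Not at hcon
    exact hne (le_antisymm hcon hle)
  have hgK0 : g ∉ Kof nd0.gens := fun h => hgK (h0le h)
  obtain ⟨e0, he0, a, ha, b, hb, hc⟩ := cover_step hG hgrp0 hcos0
    (Nat.eq_of_beq_eq_true hcov0) (entry_r_lt hent0) hgK0
  set ρ0 := a⁻¹ * g * b⁻¹ with hρ0
  have hρ0H : ρ0 ∈ H :=
    H.mul_mem (H.mul_mem (H.inv_mem (hle (h0le ha))) hgH) (H.inv_mem (hle (h0le hb)))
  have hρ0K : ρ0 ∉ Kof nd.gens := by
    intro h
    apply hgK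
    have : g = a * ρ0 * b := by rw [hρ0]; group
    rw [this]
    exact (Kof nd.gens).mul_mem ((Kof nd.gens).mul_mem (h0le ha) h) (h0le hb)
  obtain ⟨t, ht⟩ := redOK_spec _ _ _ _ hred e0 he0
  unfold itemOK at ht
  split at ht
  · rename_i hlt
    simp only [Bool.and_eq_true] at ht
    obtain ⟨⟨hk1, hk2⟩, hprod⟩ := ht
    have hpl : t.1 < nd.entries.length := Nat.blt_eq.mp hlt
    set e := nd.entries.getD t.1 emptyEntry with he
    have hemem : e ∈ nd.entries := by
      rw [he, List.getD_eq_getElem?_getD, List.getElem?_eq_getElem hpl]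
      exact List.getElem_mem hpl
    obtain ⟨κ1, hκ1, hκ1c⟩ := exists_of_mem_elems hgrp ((tb_gmask_iff _ _).mp hk1)
    obtain ⟨κ2, hκ2, hκ2c⟩ := exists_of_mem_elems hgrp ((tb_gmask_iff _ _).mp hk2)
    have hρ : gcode (κ1⁻¹ * ρ0 * κ2⁻¹) = e.r := by
      apply sandwich (entry_r_lt hent e hemem)
      rw [← toM_gcode ρ0, hc, ← Nat.eq_of_beq_eq_true hprod, toM_mulC, toM_mulC, hκ1c.symm,
        hκ2c.symm, toM_gcode, toM_gcode]
    rw [List.all_eq_true] at hent
    exact entry_step hgrp (hent e hemem) hle
      (H.mul_mem (H.mul_mem (H.inv_mem (hle hκ1)) hρ0H) (H.inv_mem (hle hκ2))) hρ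
  · exfalso
    apply hρ0K
    rw [mem_Kof_iff' hgrp, hc]
    exact ht

/-- a checked table: every subgroup containing the first node is a node, or has an element of
order `7` -/
theorem table_main {q : ℕ} {maskG : ℕ} (hG : ∀ g : GL42, maskG.testBit (gcode g) = true)
    {nodes : List Node} (hok0 : node0OK q maskG nodes = true)
    (hok : ∀ i, 0 < i → i + 1 < nodes.length → nodeOK q nodes i = true)
    (htop : Kof (nodes.getD (nodes.length - 1) emptyNode).gens = ⊤ ∨
      nodeOK q nodes (nodes.length - 1) = true)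
    (H : Subgroup GL42) :
    ∀ (n i : ℕ), nodes.length - i = n → i < nodes.length →
      Kof (nodes.getD i emptyNode).gens ≤ H →
      (∃ j, j < nodes.length ∧ H = Kof (nodes.getD j emptyNode).gens) ∨
        ∃ x ∈ H, x ≠ 1 ∧ x ^ q = 1 := by
  intro n
  induction n using Nat.strong_induction_on with
  | _ n ih =>
    intro i hn hi hle
    by_cases hne : H = Kof (nodes.getD i emptyNode).gens
    · exact Or.inl ⟨i, hi, hne⟩
    · have hstep : (∃ j, i < j ∧ j < nodes.length ∧ Kof (nodes.getD j emptyNode).gens ≤ H) ∨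
          ∃ x ∈ H, x ≠ 1 ∧ x ^ q = 1 := by
        rcases Nat.eq_zero_or_pos i with h0 | h0
        · subst h0
          exact node0_step hG hok0 hle hne
        · by_cases hlast : i + 1 < nodes.length
          · exact node_step hG hok0 (hok i h0 hlast) hle hne
          · have hi' : i = nodes.length - 1 := by omega
            rcases htop with ht | ht
            · exfalso
              apply hne
              rw [hi', ht]
              rw [hi', ht] at hle
              exact top_le_iff.mp hle
            · rw [← hi'] at ht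
              exact node_step hG hok0 ht hle hne
      rcases hstep with ⟨j, hij, hj, hjle⟩ | h
      · exact ih (nodes.length - j) (by omega) j rfl hj hjle
      · exact Or.inr h

end Cfsg.Agent.Lib.Helper4.Sg42
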