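import Mathlib
import Cfsg.Agent.Lib.Helper4.Sg42E
import Cfsg.Agent.Lib.Helper4.Sg42D5

/-! Subgroups of `GL(4,2)` (helper4, for S2553): kernel checks of the table of the subgroups
containing a fixed element of order 5 (part a). -/

set_option autoImplicit false

namespace Cfsg.Agent.Lib.Helper4.Sg42

set_option maxRecDepth 1000000 in
theorem ok5_0 : node0OK 7 maskG nodes5 = true := by decide +kernel

set_option maxRecDepth 1000000 in
theorem ok5_1 : nodeOK 7 nodes5 1 = true := by decide +kernel

set_option maxRecDepth 1000000 in
theorem ok5_2 : nodeOK 7 nodes5 2 = true := by decide +kernel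

set_option maxRecDepth 1000000 in
theorem ok5_3 : nodeOK 7 nodes5 3 = true := by decide +kernel

set_option maxRecDepth 1000000 in
theorem ok5_4 : nodeOK 7 nodes5 4 = true := by decide +kernel

set_option maxRecDepth 1000000 in
theorem ok5_5 : nodeOK 7 nodes5 5 = true := by decide +kernel

set_option maxRecDepth 1000000 in
theorem ok5_6 : nodeOK 7 nodes5 6 = true := by decide +kernel

set_option maxRecDepth 1000000 in
theorem ok5_7 : nodeOK 7 nodes5 7 = true := by decide +kernel

set_option maxRecDepth 1000000 in
theorem ok5_8 : nodeOK 7 nodes5 8 = true := by decide +kernel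

set_option maxRecDepth 1000000 in
theorem ok5_9 : nodeOK 7 nodes5 9 = true := by decide +kernel

set_option maxRecDepth 1000000 in
theorem ok5_10 : nodeOK 7 nodes5 10 = true := by decide +kernel

set_option maxRecDepth 1000000 in
theorem ok5_11 : nodeOK 7 nodes5 11 = true := by decide +kernel

set_option maxRecDepth 1000000 in
theorem ok5_12 : nodeOK 7 nodes5 12 = true := by decide +kernel

end Cfsg.Agent.Lib.Helper4.Sg42
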