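import Mathlib
import Cfsg.Agent.Lib.Helper4.Sg42E
import Cfsg.Agent.Lib.Helper4.Sg42D5

/-! Subgroups of `GL(4,2)` (helper4, for S2553): kernel checks of the table of the subgroups
containing a fixed element of order 5 (part b). -/

set_option autoImplicit false

namespace Cfsg.Agent.Lib.Helper4.Sg42

set_option maxRecDepth 1000000 in
theorem ok5_13 : nodeOK 7 nodes5 13 = true := by decide +kernel

set_option maxRecDepth 1000000 in
theorem ok5_14 : nodeOK 7 nodes5 14 = true := by decide +kernel

set_option maxRecDepth 1000000 in
theorem ok5_15 : nodeOK 7 nodes5 15 = true := by decide +kernel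

set_option maxRecDepth 1000000 in
theorem ok5_16 : nodeOK 7 nodes5 16 = true := by decide +kernel

set_option maxRecDepth 1000000 in
theorem ok5_17 : nodeOK 7 nodes5 17 = true := by decide +kernel

set_option maxRecDepth 1000000 in
theorem ok5_18 : nodeOK 7 nodes5 18 = true := by decide +kernel

set_option maxRecDepth 1000000 in
theorem ok5_19 : nodeOK 7 nodes5 19 = true := by decide +kernel

set_option maxRecDepth 1000000 in
theorem ok5_20 : nodeOK 7 nodes5 20 = true := by decide +kernel

set_option maxRecDepth 1000000 in
theorem ok5_21 : nodeOK 7 nodes5 21 = true := by decide +kernel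

set_option maxRecDepth 1000000 in
theorem ok5_22 : nodeOK 7 nodes5 22 = true := by decide +kernel

set_option maxRecDepth 1000000 in
theorem ok5_23 : nodeOK 7 nodes5 23 = true := by decide +kernel

set_option maxRecDepth 1000000 in
theorem ok5_24 : nodeOK 7 nodes5 24 = true := by decide +kernel

set_option maxRecDepth 1000000 in
theorem ok5_25 : nodeOK 7 nodes5 25 = true := by decide +kernel

end Cfsg.Agent.Lib.Helper4.Sg42
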