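import Mathlib
import Cfsg.Agent.Lib.Helper4.Sg42E
import Cfsg.Agent.Lib.Helper4.Sg42D7

/-! Subgroups of `GL(4,2)` (helper4, for S2553): kernel checks of the table of the subgroups
containing a fixed element of order 7 (part a). -/

set_option autoImplicit false

namespace Cfsg.Agent.Lib.Helper4.Sg42

set_option maxRecDepth 1000000 in
theorem ok7_0 : node0OK 1 maskG nodes7 = true := by decide +kernel

set_option maxRecDepth 1000000 in
theorem ok7_1 : nodeOK 1 nodes7 1 = true := by decide +kernel

set_option maxRecDepth 1000000 in
theorem ok7_2 : nodeOK 1 nodes7 2 = true := by decide +kernel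

set_option maxRecDepth 1000000 in
theorem ok7_3 : nodeOK 1 nodes7 3 = true := by decide +kernel

set_option maxRecDepth 1000000 in
theorem ok7_4 : nodeOK 1 nodes7 4 = true := by decide +kernel

set_option maxRecDepth 1000000 in
theorem ok7_5 : nodeOK 1 nodes7 5 = true := by decide +kernel

set_option maxRecDepth 1000000 in
theorem ok7_6 : nodeOK 1 nodes7 6 = true := by decide +kernel

set_option maxRecDepth 1000000 in
theorem ok7_7 : nodeOK 1 nodes7 7 = true := by decide +kernel

set_option maxRecDepth 1000000 in
theorem ok7_8 : nodeOK 1 nodes7 8 = true := by decide +kernel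

set_option maxRecDepth 1000000 in
theorem ok7_9 : nodeOK 1 nodes7 9 = true := by decide +kernel

set_option maxRecDepth 1000000 in
theorem ok7_10 : nodeOK 1 nodes7 10 = true := by decide +kernel

set_option maxRecDepth 1000000 in
theorem ok7_11 : nodeOK 1 nodes7 11 = true := by decide +kernel

end Cfsg.Agent.Lib.Helper4.Sg42
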