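import Mathlib
import Cfsg.Agent.Lib.Helper4.Sg42B
import Cfsg.Agent.Lib.Helper4.Sg42G

/-! Subgroups of `GL(4,2)` (helper4, for S2553), part H: from kernel checks on generator codes
to statements about the subgroups `Kof S`: nontrivial cores, isomorphisms with symmetric and
alternating groups, and with `GL(3,2)` (upper left block of block triangular matrices). -/

set_option autoImplicit false

namespace Cfsg.Agent.Lib.Helper4.Sg42

/-! ### subgroups with a nontrivial core -/

def normOK (S SN : List ℕ) : Bool :=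
  S.all fun a => (elems SN).all fun n => (elems SN).any fun n' => Nat.beq (mulC a n) (mulC n' a)

def nonTargetOK (S Sinv SN SNinv : List ℕ) : Bool :=
  grpOK S Sinv && grpOK SN SNinv && SN.all (tb (gmask S)) && Sinv.all (Nat.blt · 65536) &&
    normOK S SN && normOK Sinv SN && !(Nat.beq (elems SN).length 1) &&
    (Nat.beq ((elems SN).length % 2) 1 || Nat.beq (elems SN).length 8)

theorem conj_mem_of_normOK {S SN SNinv : List ℕ} (hN : grpOK SN SNinv = true)
    (h : normOK S SN = true) {x : GL42} (hx : gcode x ∈ S) {n : GL42} (hn : n ∈ Kof SN) :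
    x * n * x⁻¹ ∈ Kof SN := by
  unfold normOK at h
  rw [List.all_eq_true] at h
  have h1 := h _ hx
  rw [List.all_eq_true] at h1
  have h2 := h1 _ ((mem_Kof_iff hN n).mp hn)
  rw [List.any_eq_true] at h2
  obtain ⟨c', hc', he⟩ := h2
  obtain ⟨n', hn', hn'c⟩ := exists_of_mem_elems hN hc'
  have he' : gcode (x * n) = gcode (n' * x) := by
    rw [gcode_mul, gcode_mul, hn'c]
    exact Nat.eq_of_beq_eq_true he
  have : x * n = n' * x := gcode_injective he'
  rw [this, mul_inv_cancel_right]
  exact hn'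

theorem nonTarget {S Sinv SN SNinv : List ℕ} (h : nonTargetOK S Sinv SN SNinv = true) :
    ¬ (Cfsg.pCore 2 ↥(Kof S) = ⊥ ∧ Cfsg.pPrimeCore 2 ↥(Kof S) = ⊥) := by
  unfold nonTargetOK at h
  simp only [Bool.and_eq_true] at h
  obtain ⟨⟨⟨⟨⟨⟨⟨hS, hN⟩, hsub⟩, hlt⟩, hn1⟩, hn2⟩, hne1⟩, hcard⟩ := h
  have hle : Kof SN ≤ Kof S := by
    apply Kof_le
    intro g hg
    rw [List.all_eq_true] at hsub
    exact (mem_Kof_iff' hS g).mpr (hsub _ hg)
  -- generators normalize
  have hnorm : Kof S ≤ Subgroup.normalizer (Kof SN : Set GL42) := by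
    unfold Kof
    rw [Subgroup.closure_le]
    intro x hx
    have hx' : gcode x ∈ S := hx
    -- the inverse
    have hxi : gcode x⁻¹ ∈ Sinv := by
      have hS' := hS
      unfold grpOK at hS'
      rw [Bool.and_eq_true] at hS'
      have hi := hS'.1
      unfold invOK at hi
      rw [List.all_eq_true] at hi
      have h1 := hi _ hx'
      rw [List.any_eq_true] at h1
      obtain ⟨a', ha', h2⟩ := h1
      rw [Bool.and_eq_true] at h2
      rw [List.all_eq_true] at hlt
      have : gcode x⁻¹ = a' :=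
        gcode_inv (Nat.blt_eq.mp (by simpa using hlt a' ha')) (Nat.eq_of_beq_eq_true h2.2)
      rw [this]; exact ha'
    show x ∈ Subgroup.normalizer (Subgroup.closure {g : GL42 | gcode g ∈ SN} : Set GL42)
    rw [Subgroup.mem_normalizer_iff]
    intro n
    constructor
    · intro hn
      exact conj_mem_of_normOK hN hn1 hx' hn
    · intro hn
      have := conj_mem_of_normOK hN hn2 hxi hn
      have e : x⁻¹ * (x * n * x⁻¹) * x⁻¹⁻¹ = n := by group
      rwa [e] at this
  haveI : ((Kof SN).subgroupOf (Kof S)).Normal :=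
    Subgroup.normal_subgroupOf_of_le_normalizer hnorm
  have hc : Nat.card ((Kof SN).subgroupOf (Kof S)) = (elems SN).length := by
    rw [Nat.card_congr (Subgroup.subgroupOfEquivOfLe hle).toEquiv, card_Kof hN]
  apply cores_ne_bot ((Kof SN).subgroupOf (Kof S))
  · intro hbot
    rw [hbot, Subgroup.card_bot] at hc
    rw [← hc] at hne1
    simp at hne1
  · rw [hc]
    rw [Bool.or_eq_true] at hcard
    rcases hcard with h1 | h1
    · right
      exact Nat.odd_iff.mpr (Nat.eq_of_beq_eq_true h1)
    · left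
      exact ⟨3, by rw [Nat.eq_of_beq_eq_true h1]; norm_num⟩

/-! ### symmetric and alternating groups -/

def coreOK (S SM : List ℕ) (conj : List (ℕ × ℕ)) : Bool :=
  (conj.all fun p => tb (gmask S) p.1 && Nat.blt p.2 65536 && Nat.beq (mulC p.1 p.2) idC) &&
    (elems SM).all fun m =>
      Nat.beq m idC || conj.any fun p => !(tb (gmask SM) (mulC (mulC p.1 m) p.2))

def targetOK (S Sinv SM SMinv : List ℕ) (conj : List (ℕ × ℕ)) (n : ℕ) : Bool :=
  grpOK S Sinv && grpOK SM SMinv && SM.all (tb (gmask S)) && coreOK S SM conj &&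
    Nat.beq ((elems SM).length * n) (elems S).length

theorem target_core {S Sinv SM SMinv : List ℕ} {conj : List (ℕ × ℕ)} {n : ℕ}
    (h : targetOK S Sinv SM SMinv conj n = true) :
    ((Kof SM).subgroupOf (Kof S)).index = n ∧ ((Kof SM).subgroupOf (Kof S)).normalCore = ⊥ := by
  unfold targetOK at h
  simp only [Bool.and_eq_true] at h
  obtain ⟨⟨⟨⟨hS, hM⟩, hsub⟩, hcore⟩, hlen⟩ := h
  have hle : Kof SM ≤ Kof S := by
    apply Kof_le
    intro g hg
    rw [List.all_eq_true] at hsub
    exact (mem_Kof_iff' hS g).mpr (hsub _ hg)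
  have hcM : Nat.card ((Kof SM).subgroupOf (Kof S)) = (elems SM).length := by
    rw [Nat.card_congr (Subgroup.subgroupOfEquivOfLe hle).toEquiv, card_Kof hM]
  constructor
  · have h1 := Subgroup.index_mul_card ((Kof SM).subgroupOf (Kof S))
    rw [hcM, card_Kof hS, ← Nat.eq_of_beq_eq_true hlen] at h1
    have hpos : 0 < (elems SM).length := by
      rw [← hcM]; exact Nat.card_pos
    have : ((Kof SM).subgroupOf (Kof S)).index * (elems SM).length = n * (elems SM).length := by
      rw [h1, mul_comm]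
    exact Nat.eq_of_mul_eq_mul_right hpos this
  · rw [eq_bot_iff]
    intro x hx
    rw [Subgroup.mem_bot]
    by_contra hx1
    have hxM : x ∈ (Kof SM).subgroupOf (Kof S) := Subgroup.normalCore_le _ hx
    have hxM' : (x : GL42) ∈ Kof SM := hxM
    have hm : gcode (x : GL42) ∈ elems SM := (mem_Kof_iff hM _).mp hxM'
    unfold coreOK at hcore
    rw [Bool.and_eq_true, List.all_eq_true, List.all_eq_true] at hcore
    obtain ⟨hconj, hall⟩ := hcore
    have h1 := hall _ hm
    rw [Bool.or_eq_true] at h1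
    rcases h1 with h1 | h1
    · apply hx1
      apply Subtype.ext
      exact eq_one_of_gcode (Nat.eq_of_beq_eq_true h1)
    · rw [List.any_eq_true] at h1
      obtain ⟨p, hp, hp2⟩ := h1
      have hp1 := hconj p hp
      simp only [Bool.and_eq_true] at hp1
      obtain ⟨⟨hpS, hplt⟩, hpinv⟩ := hp1
      obtain ⟨η, hη, hηc⟩ := exists_of_mem_elems hS ((tb_gmask_iff _ _).mp hpS)
      have hηi : gcode η⁻¹ = p.2 :=
        gcode_inv (Nat.blt_eq.mp hplt) (by rw [hηc]; exact Nat.eq_of_beq_eq_true hpinv)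
      have hx' : ∀ b : ↥(Kof S), b * x * b⁻¹ ∈ (Kof SM).subgroupOf (Kof S) := hx
      have h2 := hx' ⟨η, hη⟩
      have h3 : η * (x : GL42) * η⁻¹ ∈ Kof SM := h2
      rw [mem_Kof_iff' hM, gcode_mul, gcode_mul, hηc, hηi] at h3
      rw [h3] at hp2
      exact Bool.noConfusion hp2

theorem target_perm {S Sinv SM SMinv : List ℕ} {conj : List (ℕ × ℕ)} {n : ℕ}
    (h : targetOK S Sinv SM SMinv conj n = true) (hn : (elems S).length = n.factorial) :
    Nonempty (↥(Kof S) ≃* Equiv.Perm (Fin n)) := by
  obtain ⟨h1, h2⟩ := target_core h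
  have hS : grpOK S Sinv = true := by
    unfold targetOK at h
    simp only [Bool.and_eq_true] at h
    exact h.1.1.1.1
  exact iso_perm_of_corefree _ n h1 h2 (by rw [card_Kof hS, hn])

theorem target_alt {S Sinv SM SMinv : List ℕ} {conj : List (ℕ × ℕ)} {n : ℕ}
    (h : targetOK S Sinv SM SMinv conj n = true) (hn : (elems S).length * 2 = n.factorial) :
    Nonempty (↥(Kof S) ≃* alternatingGroup (Fin n)) := by
  obtain ⟨h1, h2⟩ := target_core h
  have hS : grpOK S Sinv = true := by
    unfold targetOK at h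
    simp only [Bool.and_eq_true] at h
    exact h.1.1.1.1
  exact iso_alt_of_corefree _ n h1 h2 (by rw [card_Kof hS, hn])

end Cfsg.Agent.Lib.Helper4.Sg42
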