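import Mathlib
import Cfsg.Agent.Lib.Helper4.Sg42B

/-! Subgroups of `GL(4,2)` (helper4, for S2553), part I: a subgroup of order `168` of block
triangular matrices (last column or last row equal to the last basis vector) on which the
upper left `3 × 3` block is injective is isomorphic to `GL(3,2)`. -/

set_option autoImplicit false

namespace Cfsg.Agent.Lib.Helper4.Sg42

abbrev M3 := Matrix (Fin 3) (Fin 3) (ZMod 2)

/-- the upper left block -/
def blk (A : M4) : M3 := Matrix.of fun i j => A i.castSucc j.castSucc

theorem blk_apply (A : M4) (i j : Fin 3) : blk A i j = A i.castSucc j.castSucc := rfl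

theorem blk_one : blk 1 = 1 := by
  ext i j
  rw [blk_apply, Matrix.one_apply, Matrix.one_apply]
  simp [Fin.castSucc_inj]

/-- the last column is zero above the diagonal -/
def ColZ (A : M4) : Prop := ∀ i : Fin 3, A i.castSucc (Fin.last 3) = 0

/-- the last row is zero left of the diagonal -/
def RowZ (A : M4) : Prop := ∀ j : Fin 3, A (Fin.last 3) j.castSucc = 0

theorem blk_mul_of_col {A : M4} (hA : ColZ A) (B : M4) : blk (A * B) = blk A * blk B := by
  ext i j
  rw [blk_apply, Matrix.mul_apply, Matrix.mul_apply, Fin.sum_univ_castSucc, hA i, zero_mul,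
    add_zero]
  rfl

theorem blk_mul_of_row (A : M4) {B : M4} (hB : RowZ B) : blk (A * B) = blk A * blk B := by
  ext i j
  rw [blk_apply, Matrix.mul_apply, Matrix.mul_apply, Fin.sum_univ_castSucc, hB j, mul_zero,
    add_zero]
  rfl

def colC (c : ℕ) : Bool := !tb c 3 && !tb c 7 && !tb c 11

def rowC (c : ℕ) : Bool := !tb c 12 && !tb c 13 && !tb c 14

def blkIdC (c : ℕ) : Bool :=
  tb c 0 && !tb c 1 && !tb c 2 && !tb c 4 && tb c 5 && !tb c 6 && !tb c 8 && !tb c 9 && tb c 10

theorem toM_entry (c : ℕ) (i j : Fin 4) :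
    toM c i j = if tb c (4 * i.val + j.val) = true then 1 else 0 := by
  rw [toM_apply, tb_eq]

theorem colZ_of_colC {c : ℕ} (h : colC c = true) : ColZ (toM c) := by
  unfold colC at h
  simp only [Bool.and_eq_true, Bool.not_eq_true'] at h
  obtain ⟨⟨h0, h1⟩, h2⟩ := h
  intro i
  rw [toM_entry]
  fin_cases i <;> simp [h0, h1, h2]

theorem rowZ_of_rowC {c : ℕ} (h : rowC c = true) : RowZ (toM c) := by
  unfold rowC at h
  simp only [Bool.and_eq_true, Bool.not_eq_true'] at h
  obtain ⟨⟨h0, h1⟩, h2⟩ := h
  intro j
  rw [toM_entry]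
  fin_cases j <;> simp [h0, h1, h2]

theorem one_ne_zero_zmod2 : (1 : ZMod 2) ≠ 0 := by decide

theorem blkIdC_of_blk_eq_one {c : ℕ} (h : blk (toM c) = 1) : blkIdC c = true := by
  have e : ∀ i j : Fin 3, (if tb c (4 * i.val + j.val) = true then (1 : ZMod 2) else 0) =
      if i = j then 1 else 0 := by
    intro i j
    have := congrFun (congrFun h i) j
    rw [blk_apply, toM_entry, Matrix.one_apply] at this
    simpa using this
  have t : ∀ i j : Fin 3, i = j → tb c (4 * i.val + j.val) = true := by
    intro i j hij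
    have := e i j
    rw [if_pos hij] at this
    by_contra hb
    rw [if_neg hb] at this
    exact one_ne_zero_zmod2 this.symm
  have f : ∀ i j : Fin 3, i ≠ j → tb c (4 * i.val + j.val) = false := by
    intro i j hij
    have := e i j
    rw [if_neg hij] at this
    by_contra hb
    rw [Bool.not_eq_false] at hb
    rw [if_pos hb] at this
    exact one_ne_zero_zmod2 this
  unfold blkIdC
  have t00 := t 0 0 rfl; have t11 := t 1 1 rfl; have t22 := t 2 2 rfl
  have f01 := f 0 1 (by decide); have f02 := f 0 2 (by decide); have f10 := f 1 0 (by decide)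
  have f12 := f 1 2 (by decide); have f20 := f 2 0 (by decide); have f21 := f 2 1 (by decide)
  simp only [Fin.val_zero, Fin.val_one, Fin.val_two, Fin.isValue, mul_zero, mul_one, zero_add,
    add_zero, Nat.reduceMul, Nat.reduceAdd] at t00 t11 t22 f01 f02 f10 f12 f20 f21
  simp [t00, t11, t22, f01, f02, f10, f12, f20, f21]

/-- the check: all elements block triangular of the same kind, block map injective, order 168 -/
def blockOK (S Sinv : List ℕ) (col : Bool) : Bool :=
  grpOK S Sinv && Nat.beq (elems S).length 168 &&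
    (elems S).all fun c =>
      (match col with | true => colC c | false => rowC c) && (!blkIdC c || Nat.beq c idC)

theorem card_GL32 : Nat.card (Matrix.GeneralLinearGroup (Fin 3) (ZMod 2)) = 168 := by
  rw [Matrix.card_GL_field]
  simp [Fin.prod_univ_three, ZMod.card]

theorem block_iso {S Sinv : List ℕ} {col : Bool} (h : blockOK S Sinv col = true) :
    Nonempty (↥(Kof S) ≃* Matrix.GeneralLinearGroup (Fin 3) (ZMod 2)) := by
  unfold blockOK at h
  simp only [Bool.and_eq_true] at h
  obtain ⟨⟨hS, hlen⟩, hall⟩ := h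
  rw [List.all_eq_true] at hall
  have hmem : ∀ g : ↥(Kof S), gcode (g : GL42) ∈ elems S := fun g => (mem_Kof_iff hS _).mp g.2
  -- multiplicativity of the block on the subgroup
  have hmul : ∀ a b : ↥(Kof S), blk ((a : GL42) : M4) * blk ((b : GL42) : M4) =
      blk (((a * b : ↥(Kof S)) : GL42) : M4) := by
    intro a b
    have e : (((a * b : ↥(Kof S)) : GL42) : M4) = ((a : GL42) : M4) * ((b : GL42) : M4) := rfl
    rw [e]
    cases col with
    | true =>
      have ha := hall _ (hmem a)
      rw [Bool.and_eq_true] at ha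
      have := colZ_of_colC ha.1
      rw [toM_gcode] at this
      exact (blk_mul_of_col this _).symm
    | false =>
      have hb := hall _ (hmem b)
      rw [Bool.and_eq_true] at hb
      have := rowZ_of_rowC hb.1
      rw [toM_gcode] at this
      exact (blk_mul_of_row _ this).symm
  have hone : blk (((1 : ↥(Kof S)) : GL42) : M4) = 1 := blk_one
  let β : ↥(Kof S) →* Matrix.GeneralLinearGroup (Fin 3) (ZMod 2) :=
    { toFun := fun g => ⟨blk ((g : GL42) : M4), blk (((g⁻¹ : ↥(Kof S)) : GL42) : M4),
        by rw [hmul, mul_inv_cancel, hone], by rw [hmul, inv_mul_cancel, hone]⟩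
      map_one' := Units.ext hone
      map_mul' := fun a b => Units.ext (hmul a b).symm }
  have hinj : Function.Injective β := by
    rw [← MonoidHom.ker_eq_bot_iff, eq_bot_iff]
    intro g hg
    rw [MonoidHom.mem_ker] at hg
    have h1 : blk ((g : GL42) : M4) = 1 := congrArg Units.val hg
    rw [← toM_gcode] at h1
    have h2 := blkIdC_of_blk_eq_one h1
    have h3 := hall _ (hmem g)
    rw [Bool.and_eq_true, h2] at h3
    simp only [Bool.not_true, Bool.false_or] at h3
    rw [Subgroup.mem_bot]
    exact Subtype.ext (eq_one_of_gcode (Nat.eq_of_beq_eq_true h3.2))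
  have hc : Nat.card ↥(Kof S) = Nat.card (Matrix.GeneralLinearGroup (Fin 3) (ZMod 2)) := by
    rw [card_Kof hS, Nat.eq_of_beq_eq_true hlen, card_GL32]
  have hbij : Function.Bijective β := (Nat.bijective_iff_injective_and_card β).mpr ⟨hinj, hc⟩
  exact ⟨MulEquiv.ofBijective β hbij⟩

end Cfsg.Agent.Lib.Helper4.Sg42
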