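import Mathlib
import Cfsg.Agent.Lib.Helper4.Sg42H
import Cfsg.Agent.Lib.Helper4.Sg42I
import Cfsg.Agent.Lib.Helper4.Sg42D5

/-! Subgroups of `GL(4,2)` (helper4, for S2553): the subgroups containing the fixed element of
order 5, one by one: a nontrivial core, or an isomorphism with a target group (part a). -/

set_option autoImplicit false

namespace Cfsg.Agent.Lib.Helper4.Sg42

set_option maxRecDepth 1000000 in
theorem nt5_0 : nonTargetOK node5_0.gens node5_0.ginv [51864] [6483] = true := by
  decide +kernel

set_option maxRecDepth 1000000 in
theorem nt5_1 : nonTargetOK node5_1.gens node5_1.ginv [51864] [6483] = true := by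
  decide +kernel

set_option maxRecDepth 1000000 in
theorem nt5_2 : nonTargetOK node5_2.gens node5_2.ginv [11253] [46727] = true := by
  decide +kernel

set_option maxRecDepth 1000000 in
theorem nt5_3 : nonTargetOK node5_3.gens node5_3.ginv [51864] [6483] = true := by
  decide +kernel

set_option maxRecDepth 1000000 in
theorem nt5_4 : nonTargetOK node5_4.gens node5_4.ginv [51864] [6483] = true := by
  decide +kernel

set_option maxRecDepth 1000000 in
theorem nt5_5 : nonTargetOK node5_5.gens node5_5.ginv [51864] [6483] = true := by
  decide +kernel

set_option maxRecDepth 1000000 in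
theorem nt5_6 : nonTargetOK node5_6.gens node5_6.ginv [54219] [22506] = true := by
  decide +kernel

set_option maxRecDepth 1000000 in
theorem tg5_7 : (targetOK node5_7.gens node5_7.ginv [7603, 35315] [16280, 35804]
    [(50262, 50262), (7656, 7656)] 5 && Nat.beq (elems node5_7.gens).length 60) = true := by
  decide +kernel

set_option maxRecDepth 1000000 in
theorem tg5_8 : (targetOK node5_8.gens node5_8.ginv [13866, 38163] [13866, 42546]
    [(19557, 51369), (33300, 33090)] 5 && Nat.beq (elems node5_8.gens).length 60) = true := by
  decide +kernel

set_option maxRecDepth 1000000 in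
theorem tg5_9 : (targetOK node5_9.gens node5_9.ginv [9133, 51322] [42892, 19547]
    [(44183, 64381), (44342, 32509)] 5 && Nat.beq (elems node5_9.gens).length 60) = true := by
  decide +kernel

set_option maxRecDepth 1000000 in
theorem tg5_10 : (targetOK node5_10.gens node5_10.ginv [58695, 63835] [62038, 63835]
    [(62123, 26947), (51806, 54679)] 5 && Nat.beq (elems node5_10.gens).length 60) = true := by
  decide +kernel

set_option maxRecDepth 1000000 in
theorem nt5_11 : nonTargetOK node5_11.gens node5_11.ginv [22506] [54219] = true := by
  decide +kernel

set_option maxRecDepth 1000000 in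
theorem tg5_12 : (targetOK node5_12.gens node5_12.ginv [10260, 5250] [16770, 9240]
    [(27717, 25251), (10806, 51594), (51354, 19542)] 5 && Nat.beq (elems node5_12.gens).length 120) = true := by
  decide +kernel

set_option maxRecDepth 1000000 in
theorem tg5_13 : (targetOK node5_13.gens node5_13.ginv [16280, 35324] [7603, 35324]
    [(6067, 13720), (7507, 27288), (7654, 16360)] 5 && Nat.beq (elems node5_13.gens).length 120) = true := by
  decide +kernel

set_option maxRecDepth 1000000 in
theorem tg5_14 : (targetOK node5_14.gens node5_14.ginv [58700, 63837] [12950, 13719]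
    [(34209, 34209), (13478, 29789), (4696, 6728)] 5 && Nat.beq (elems node5_14.gens).length 120) = true := by
  decide +kernel

set_option maxRecDepth 1000000 in
theorem tg5_15 : (targetOK node5_15.gens node5_15.ginv [19547, 21499] [51322, 21499]
    [(9151, 25484), (21406, 55231), (50868, 37214)] 5 && Nat.beq (elems node5_15.gens).length 120) = true := by
  decide +kernel

set_option maxRecDepth 1000000 in
theorem tg5_16 : (targetOK node5_16.gens node5_16.ginv [23652, 22091] [20793, 53866]
    [(44342, 32509), (15961, 60799), (51322, 19547)] 5 && Nat.beq (elems node5_16.gens).length 120) = true := by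
  decide +kernel

set_option maxRecDepth 1000000 in
theorem tg5_17 : (targetOK node5_17.gens node5_17.ginv [19997, 46532] [47218, 12773]
    [(23186, 24343), (50262, 50262), (19308, 39079)] 5 && Nat.beq (elems node5_17.gens).length 120) = true := by
  decide +kernel

set_option maxRecDepth 1000000 in
theorem nt5_18 : nonTargetOK node5_18.gens node5_18.ginv [22506] [54219] = true := by
  decide +kernel

set_option maxRecDepth 1000000 in
theorem tg5_19 : (targetOK node5_19.gens node5_19.ginv [37214, 40248] [50868, 7353]
    [(29382, 30025), (49599, 46036), (13979, 38715)] 6 && Nat.beq (elems node5_19.gens).length 360) = true := by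
  decide +kernel

set_option maxRecDepth 1000000 in
theorem tg5_20 : (targetOK node5_20.gens node5_20.ginv [13598, 5250] [54946, 9240]
    [(49133, 48214), (23396, 57657), (56959, 16021)] 6 && Nat.beq (elems node5_20.gens).length 360) = true := by
  decide +kernel

set_option maxRecDepth 1000000 in
theorem nt5_21 : nonTargetOK node5_21.gens node5_21.ginv [22506] [54219] = true := by
  decide +kernel

set_option maxRecDepth 1000000 in
theorem tg5_22 : (targetOK node5_22.gens node5_22.ginv [46126, 51806] [29741, 54679]
    [(55351, 17375), (54546, 50706), (38433, 38433)] 6 && Nat.beq (elems node5_22.gens).length 360) = true := by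
  decide +kernel

set_option maxRecDepth 1000000 in
theorem tg5_23 : (targetOK node5_23.gens node5_23.ginv [9132, 55967] [43916, 55967]
    [(34025, 34025), (49018, 27769), (31059, 63915), (44523, 31481)] 6 && Nat.beq (elems node5_23.gens).length 720) = true := by
  decide +kernel

set_option maxRecDepth 1000000 in
theorem tg5_24 : (targetOK node5_24.gens node5_24.ginv [60183, 51322] [48850, 19547]
    [(35804, 35315), (53695, 62356), (44342, 32509), (44572, 56402)] 6 && Nat.beq (elems node5_24.gens).length 720) = true := by
  decide +kernel

set_option maxRecDepth 1000000 in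
theorem tg5_25 : (targetOK node5_25.gens node5_25.ginv [51849, 53926] [10851, 25931]
    [(32251, 41837), (44184, 5523), (12161, 12161), (48214, 49133)] 6 && Nat.beq (elems node5_25.gens).length 720) = true := by
  decide +kernel

end Cfsg.Agent.Lib.Helper4.Sg42
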