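import Mathlib
import Cfsg.Agent.Lib.Helper4.Sg42H
import Cfsg.Agent.Lib.Helper4.Sg42I
import Cfsg.Agent.Lib.Helper4.Sg42D7

/-! Subgroups of `GL(4,2)` (helper4, for S2553): the subgroups containing the fixed element of
order 7, one by one: a nontrivial core, or an isomorphism with a target group (part a). -/

set_option autoImplicit false

namespace Cfsg.Agent.Lib.Helper4.Sg42

set_option maxRecDepth 1000000 in
theorem nt7_0 : nonTargetOK node7_0.gens node7_0.ginv [33364] [33091] = true := by
  decide +kernel

set_option maxRecDepth 1000000 in
theorem nt7_1 : nonTargetOK node7_1.gens node7_1.ginv [33364, 33063] [33091, 34596] = true := by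
  decide +kernel

set_option maxRecDepth 1000000 in
theorem nt7_2 : nonTargetOK node7_2.gens node7_2.ginv [33953, 35873, 35881] [33953, 35873, 35881] = true := by
  decide +kernel

set_option maxRecDepth 1000000 in
theorem nt7_3 : nonTargetOK node7_3.gens node7_3.ginv [37921, 42017, 62497] [37921, 42017, 62497] = true := by
  decide +kernel

set_option maxRecDepth 1000000 in
theorem bl7_4 : blockOK node7_4.gens node7_4.ginv false = true := by
  decide +kernel

set_option maxRecDepth 1000000 in
theorem bl7_5 : blockOK node7_5.gens node7_5.ginv true = true := by
  decide +kernel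

set_option maxRecDepth 1000000 in
theorem bl7_6 : blockOK node7_6.gens node7_6.ginv true = true := by
  decide +kernel

set_option maxRecDepth 1000000 in
theorem nt7_7 : nonTargetOK node7_7.gens node7_7.ginv [42017, 46113, 62497] [42017, 46113, 62497] = true := by
  decide +kernel

set_option maxRecDepth 1000000 in
theorem nt7_8 : nonTargetOK node7_8.gens node7_8.ginv [33953, 36001, 33961] [33953, 36001, 33961] = true := by
  decide +kernel

set_option maxRecDepth 1000000 in
theorem nt7_9 : nonTargetOK node7_9.gens node7_9.ginv [54305, 46113, 37921] [54305, 46113, 37921] = true := by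
  decide +kernel

set_option maxRecDepth 1000000 in
theorem nt7_10 : nonTargetOK node7_10.gens node7_10.ginv [33953, 35873, 35881] [33953, 35873, 35881] = true := by
  decide +kernel

set_option maxRecDepth 1000000 in
theorem tg7_11 : (targetOK node7_11.gens node7_11.ginv [31178, 54092] [65003, 13017]
    [(55234, 57114), (64641, 9937), (41826, 37653), (25215, 15434)] 7 && Nat.beq (elems node7_11.gens).length 2520) = true := by
  decide +kernel

end Cfsg.Agent.Lib.Helper4.Sg42
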