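import Mathlib
import Cfsg.Agent.Lib.Helper4.Sg42H
import Cfsg.Agent.Lib.Helper4.Sg42I
import Cfsg.Agent.Lib.Helper4.Sg42D7

/-! Subgroups of `GL(4,2)` (helper4, for S2553): the subgroups containing the fixed element of
order 7, one by one: a nontrivial core, or an isomorphism with a target group (part b). -/

set_option autoImplicit false

namespace Cfsg.Agent.Lib.Helper4.Sg42

set_option maxRecDepth 1000000 in
theorem tg7_12 : (targetOK node7_12.gens node7_12.ginv [37767, 19228] [9706, 39154]
    [(54526, 62627), (54299, 58578), (17388, 38967), (14775, 43374), (18401, 30929)] 8 && Nat.beq (elems node7_12.gens).length 20160) = true := by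
  decide +kernel

end Cfsg.Agent.Lib.Helper4.Sg42
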