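import Mathlib
import Cfsg.Agent.Lib.Helper4.Sg42F7a
import Cfsg.Agent.Lib.Helper4.Sg42F5a
import Cfsg.Agent.Lib.Helper4.Sg42F5b
import Cfsg.Agent.Lib.Helper4.Sg42J7a
import Cfsg.Agent.Lib.Helper4.Sg42J7b
import Cfsg.Agent.Lib.Helper4.Sg42J5a
import Cfsg.Agent.Lib.Helper4.Sg42K

/-! Subgroups of `GL(4,2)` (helper4, for S2553), part L: assembly.  A nontrivial subgroup `H`
of `GL(4,2)` with `O_2(H) = O_{2'}(H) = 1` is isomorphic to `A_5, ..., A_8`, `S_5`, `S_6` or
`GL(3,2)`. -/

set_option autoImplicit false

namespace Cfsg.Agent.Lib.Helper4.Sg42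

/-- the conclusion of S2553 for a subgroup -/
def Concl (K : Subgroup GL42) : Prop :=
  Cfsg.pPrimeCore 2 ↥K = ⊥ → Cfsg.pCore 2 ↥K = ⊥ →
    ((∃ n : ℕ, 5 ≤ n ∧ n ≤ 8 ∧ Nonempty (↥K ≃* alternatingGroup (Fin n))) ∨
      Nonempty (↥K ≃* Equiv.Perm (Fin 5)) ∨ Nonempty (↥K ≃* Equiv.Perm (Fin 6)) ∨
      Nonempty (↥K ≃* Matrix.GeneralLinearGroup (Fin 3) (ZMod 2)))

theorem concl_nonTarget {S Sinv SN SNinv : List ℕ} (h : nonTargetOK S Sinv SN SNinv = true) :
    Concl (Kof S) := fun h1 h2 => absurd ⟨h2, h1⟩ (nonTarget h)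

theorem concl_alt {S Sinv SM SMinv : List ℕ} {conj : List (ℕ × ℕ)} {n N : ℕ}
    (h : (targetOK S Sinv SM SMinv conj n && Nat.beq (elems S).length N) = true)
    (h5 : 5 ≤ n) (h8 : n ≤ 8) (hN : N * 2 = n.factorial) : Concl (Kof S) := by
  rw [Bool.and_eq_true] at h
  intro _ _
  exact Or.inl ⟨n, h5, h8, target_alt h.1 (by rw [Nat.eq_of_beq_eq_true h.2, hN])⟩

theorem concl_perm5 {S Sinv SM SMinv : List ℕ} {conj : List (ℕ × ℕ)}
    (h : (targetOK S Sinv SM SMinv conj 5 && Nat.beq (elems S).length 120) = true) :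
    Concl (Kof S) := by
  rw [Bool.and_eq_true] at h
  intro _ _
  exact Or.inr (Or.inl (target_perm h.1 (by rw [Nat.eq_of_beq_eq_true h.2]; rfl)))

theorem concl_perm6 {S Sinv SM SMinv : List ℕ} {conj : List (ℕ × ℕ)}
    (h : (targetOK S Sinv SM SMinv conj 6 && Nat.beq (elems S).length 720) = true) :
    Concl (Kof S) := by
  rw [Bool.and_eq_true] at h
  intro _ _
  exact Or.inr (Or.inr (Or.inl (target_perm h.1 (by rw [Nat.eq_of_beq_eq_true h.2]; rfl))))

theorem concl_block {S Sinv : List ℕ} {col : Bool} (h : blockOK S Sinv col = true) :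
    Concl (Kof S) := fun _ _ => Or.inr (Or.inr (Or.inr (block_iso h)))

theorem concl7 : ∀ j, j < 13 → Concl (Kof (nodes7.getD j emptyNode).gens) := by
  intro j hj
  interval_cases j
  · show Concl (Kof node7_0.gens)
    exact concl_nonTarget nt7_0
  · show Concl (Kof node7_1.gens)
    exact concl_nonTarget nt7_1
  · show Concl (Kof node7_2.gens)
    exact concl_nonTarget nt7_2
  · show Concl (Kof node7_3.gens)
    exact concl_nonTarget nt7_3
  · show Concl (Kof node7_4.gens)
    exact concl_block bl7_4
  · show Concl (Kof node7_5.gens)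
    exact concl_block bl7_5
  · show Concl (Kof node7_6.gens)
    exact concl_block bl7_6
  · show Concl (Kof node7_7.gens)
    exact concl_nonTarget nt7_7
  · show Concl (Kof node7_8.gens)
    exact concl_nonTarget nt7_8
  · show Concl (Kof node7_9.gens)
    exact concl_nonTarget nt7_9
  · show Concl (Kof node7_10.gens)
    exact concl_nonTarget nt7_10
  · show Concl (Kof node7_11.gens)
    exact concl_alt tg7_11 (by norm_num) (by norm_num) (by decide)
  · show Concl (Kof node7_12.gens)
    exact concl_alt tg7_12 (by norm_num) (by norm_num) (by decide)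

theorem concl5 : ∀ j, j < 26 → Concl (Kof (nodes5.getD j emptyNode).gens) := by
  intro j hj
  interval_cases j
  · show Concl (Kof node5_0.gens)
    exact concl_nonTarget nt5_0
  · show Concl (Kof node5_1.gens)
    exact concl_nonTarget nt5_1
  · show Concl (Kof node5_2.gens)
    exact concl_nonTarget nt5_2
  · show Concl (Kof node5_3.gens)
    exact concl_nonTarget nt5_3
  · show Concl (Kof node5_4.gens)
    exact concl_nonTarget nt5_4
  · show Concl (Kof node5_5.gens)
    exact concl_nonTarget nt5_5
  · show Concl (Kof node5_6.gens)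
    exact concl_nonTarget nt5_6
  · show Concl (Kof node5_7.gens)
    exact concl_alt tg5_7 (by norm_num) (by norm_num) (by decide)
  · show Concl (Kof node5_8.gens)
    exact concl_alt tg5_8 (by norm_num) (by norm_num) (by decide)
  · show Concl (Kof node5_9.gens)
    exact concl_alt tg5_9 (by norm_num) (by norm_num) (by decide)
  · show Concl (Kof node5_10.gens)
    exact concl_alt tg5_10 (by norm_num) (by norm_num) (by decide)
  · show Concl (Kof node5_11.gens)
    exact concl_nonTarget nt5_11
  · show Concl (Kof node5_12.gens)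
    exact concl_perm5 tg5_12
  · show Concl (Kof node5_13.gens)
    exact concl_perm5 tg5_13
  · show Concl (Kof node5_14.gens)
    exact concl_perm5 tg5_14
  · show Concl (Kof node5_15.gens)
    exact concl_perm5 tg5_15
  · show Concl (Kof node5_16.gens)
    exact concl_perm5 tg5_16
  · show Concl (Kof node5_17.gens)
    exact concl_perm5 tg5_17
  · show Concl (Kof node5_18.gens)
    exact concl_nonTarget nt5_18
  · show Concl (Kof node5_19.gens)
    exact concl_alt tg5_19 (by norm_num) (by norm_num) (by decide)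
  · show Concl (Kof node5_20.gens)
    exact concl_alt tg5_20 (by norm_num) (by norm_num) (by decide)
  · show Concl (Kof node5_21.gens)
    exact concl_nonTarget nt5_21
  · show Concl (Kof node5_22.gens)
    exact concl_alt tg5_22 (by norm_num) (by norm_num) (by decide)
  · show Concl (Kof node5_23.gens)
    exact concl_perm6 tg5_23
  · show Concl (Kof node5_24.gens)
    exact concl_perm6 tg5_24
  · show Concl (Kof node5_25.gens)
    exact concl_perm6 tg5_25

theorem table7 (H : Subgroup GL42) (hle : Kof [33364] ≤ H) :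
    ∃ j, j < 13 ∧ H = Kof (nodes7.getD j emptyNode).gens := by
  have hok : ∀ i, 0 < i → i + 1 < nodes7.length → nodeOK 1 nodes7 i = true := by
    intro i h0 h1
    have h1' : i < 12 := by have : i + 1 < 13 := h1; omega
    interval_cases i
    · exact ok7_1
    · exact ok7_2
    · exact ok7_3
    · exact ok7_4
    · exact ok7_5
    · exact ok7_6
    · exact ok7_7
    · exact ok7_8
    · exact ok7_9
    · exact ok7_10
    · exact ok7_11
  have htop : Kof (nodes7.getD (nodes7.length - 1) emptyNode).gens = ⊤ ∨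
      nodeOK 1 nodes7 (nodes7.length - 1) = true := Or.inl Kof_gensG
  rcases table_main maskG_spec ok7_0 hok htop H 13 0 rfl (by decide) hle with h | ⟨x, _, hx1, hx2⟩
  · exact h
  · rw [pow_one] at hx2
    exact absurd hx2 hx1

theorem table5 (H : Subgroup GL42) (hle : Kof [51864] ≤ H) :
    (∃ j, j < 26 ∧ H = Kof (nodes5.getD j emptyNode).gens) ∨ ∃ x ∈ H, x ≠ 1 ∧ x ^ 7 = 1 := by
  have hok : ∀ i, 0 < i → i + 1 < nodes5.length → nodeOK 7 nodes5 i = true := by
    intro i h0 h1
    have h1' : i < 25 := by have : i + 1 < 26 := h1; omega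
    interval_cases i
    · exact ok5_1
    · exact ok5_2
    · exact ok5_3
    · exact ok5_4
    · exact ok5_5
    · exact ok5_6
    · exact ok5_7
    · exact ok5_8
    · exact ok5_9
    · exact ok5_10
    · exact ok5_11
    · exact ok5_12
    · exact ok5_13
    · exact ok5_14
    · exact ok5_15
    · exact ok5_16
    · exact ok5_17
    · exact ok5_18
    · exact ok5_19
    · exact ok5_20
    · exact ok5_21
    · exact ok5_22
    · exact ok5_23
    · exact ok5_24
  have htop : Kof (nodes5.getD (nodes5.length - 1) emptyNode).gens = ⊤ ∨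
      nodeOK 7 nodes5 (nodes5.length - 1) = true := Or.inr ok5_25
  exact table_main maskG_spec ok5_0 hok htop H 26 0 rfl (by decide) hle

end Cfsg.Agent.Lib.Helper4.Sg42
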