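import Mathlib
import Cfsg.Agent.Lib.Helper4.Sg42L

/-! Subgroups of `GL(4,2)` (helper4, for S2553), part M: the main theorem. -/

set_option autoImplicit false

namespace Cfsg.Agent.Lib.Helper4.Sg42

/-- an element with a given code and prime order -/
theorem exists_base (c c' p : ℕ) (hp : p.Prime) (hc : c < 65536) (hinv : mulC c c' = idC)
    (hne : c ≠ idC) (hpow : powC c p = idC) : ∃ b : GL42, gcode b = c ∧ orderOf b = p := by
  obtain ⟨b, hb⟩ := exists_gcode hc hinv
  refine ⟨b, hb, ?_⟩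
  haveI := Fact.mk hp
  apply orderOf_eq_prime
  · apply eq_one_of_gcode
    rw [gcode_pow, hb, hpow]
  · intro h1
    apply hne
    rw [← hb, h1, gcode_one]

theorem Kof_singleton_le {c : ℕ} {b : GL42} (hb : gcode b = c) {H : Subgroup GL42} (h : b ∈ H) :
    Kof [c] ≤ H := by
  apply Kof_le
  intro g hg
  rw [List.mem_singleton] at hg
  have : g = b := gcode_injective (hg.trans hb.symm)
  rw [this]; exact h

/-- a subgroup of order divisible by `p` (exactly dividing `|GL(4,2)|`) has a conjugate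
containing a given element of order `p` -/
theorem exists_conj_contains (H : Subgroup GL42) (p m : ℕ) [hp : Fact p.Prime]
    (hG : 20160 = p ^ 1 * m) (hm : ¬ p ∣ m) (hdvd : p ∣ Nat.card H) (b : GL42)
    (hb : orderOf b = p) :
    ∃ x : GL42, b ∈ H.map (MulAut.conj x).toMonoidHom := by
  obtain ⟨h, hh⟩ := exists_prime_orderOf_dvd_card' p hdvd
  have hh' : orderOf (h : GL42) = p := by rw [Subgroup.orderOf_coe, hh]
  obtain ⟨x, hx⟩ := exists_conj_gen p m (card_GL42.trans hG) hm (h : GL42) b hh' hb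
  refine ⟨x, ?_⟩
  have hmem : x * (h : GL42) * x⁻¹ ∈ H.map (MulAut.conj x).toMonoidHom :=
    Subgroup.mem_map.mpr ⟨h, h.2, rfl⟩
  exact (Subgroup.zpowers_le.mpr hmem) hx

/-- transport of the statement along conjugation -/
theorem concl_of_conj (H : Subgroup GL42) (x : GL42)
    (h : Concl (H.map (MulAut.conj x).toMonoidHom)) : Concl H := by
  have e : ↥H ≃* ↥(H.map (MulAut.conj x).toMonoidHom) :=
    Subgroup.equivMapOfInjective H _ (MulAut.conj x).injective
  intro h1 h2
  rcases h (pPrimeCore_eq_bot_of_equiv e 2 h1) (pCore_eq_bot_of_equiv e 2 h2) with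
    h3 | h3 | h3 | h3
  · obtain ⟨n, h5, h8, ⟨f⟩⟩ := h3
    exact Or.inl ⟨n, h5, h8, ⟨e.trans f⟩⟩
  · obtain ⟨f⟩ := h3
    exact Or.inr (Or.inl ⟨e.trans f⟩)
  · obtain ⟨f⟩ := h3
    exact Or.inr (Or.inr (Or.inl ⟨e.trans f⟩))
  · obtain ⟨f⟩ := h3
    exact Or.inr (Or.inr (Or.inr ⟨e.trans f⟩))

theorem main (H : Subgroup GL42) (hH : H ≠ ⊥) : Concl H := by
  intro hO hO2
  -- 5 or 7 divides the order
  have hdvd : 5 ∣ Nat.card H ∨ 7 ∣ Nat.card H := by
    by_contra hcon
    push Not at hcon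
    have h1 : Nat.card H ∣ 20160 := card_GL42 ▸ Subgroup.card_subgroup_dvd_card H
    have hc5 : Nat.Coprime (Nat.card H) 5 :=
      (Nat.Coprime.symm ((Nat.Prime.coprime_iff_not_dvd (by norm_num)).mpr hcon.1))
    have hc7 : Nat.Coprime (Nat.card H) 7 :=
      (Nat.Coprime.symm ((Nat.Prime.coprime_iff_not_dvd (by norm_num)).mpr hcon.2))
    have hc : Nat.Coprime (Nat.card H) (5 * 7) := Nat.Coprime.mul_right hc5 hc7
    have h2 : Nat.card H ∣ 2 ^ 6 * 3 ^ 2 := by
      apply hc.dvd_of_dvd_mul_right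
      have : 2 ^ 6 * 3 ^ 2 * (5 * 7) = 20160 := by norm_num
      rw [this]; exact h1
    obtain ⟨a, b, hab⟩ := Cfsg.Agent.S0144.shape_of_dvd Nat.prime_two Nat.prime_three h2
    haveI : Nontrivial H := (Subgroup.nontrivial_iff_ne_bot H).mpr hH
    exact cores_of_two_three a b hab ⟨hO2, hO⟩
  by_cases h7 : 7 ∣ Nat.card H
  · -- a conjugate contains the fixed element of order 7
    obtain ⟨b, hbc, hbo⟩ := exists_base 33364 33091 7 (by norm_num) (by norm_num)
      (by decide +kernel) (by decide) (by decide +kernel)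
    have : Fact (Nat.Prime 7) := ⟨by norm_num⟩
    obtain ⟨x, hx⟩ := exists_conj_contains H 7 2880 (by norm_num) (by norm_num) h7 b hbo
    obtain ⟨j, hj, hHj⟩ := table7 _ (Kof_singleton_le hbc hx)
    have hc := concl7 j hj
    rw [← hHj] at hc
    exact concl_of_conj H x hc hO hO2
  · have h5 : 5 ∣ Nat.card H := hdvd.resolve_right h7
    obtain ⟨b, hbc, hbo⟩ := exists_base 51864 6483 5 (by norm_num) (by norm_num)
      (by decide +kernel) (by decide) (by decide +kernel)
    have : Fact (Nat.Prime 5) := ⟨by norm_num⟩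
    obtain ⟨x, hx⟩ := exists_conj_contains H 5 4032 (by norm_num) (by norm_num) h5 b hbo
    rcases table5 _ (Kof_singleton_le hbc hx) with ⟨j, hj, hHj⟩ | ⟨y, hy, hy1, hy7⟩
    · have hc := concl5 j hj
      rw [← hHj] at hc
      exact concl_of_conj H x hc hO hO2
    · exfalso
      apply h7
      have : Fact (Nat.Prime 7) := ⟨by norm_num⟩
      have ho : orderOf y = 7 := orderOf_eq_prime hy7 hy1
      have hcard : Nat.card ↥(H.map (MulAut.conj x).toMonoidHom) = Nat.card H :=
        Subgroup.card_map_of_injective (MulAut.conj x).injective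
      rw [← hcard, ← ho]
      have := orderOf_dvd_natCard (⟨y, hy⟩ : ↥(H.map (MulAut.conj x).toMonoidHom))
      rwa [Subgroup.orderOf_mk] at this

end Cfsg.Agent.Lib.Helper4.Sg42
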