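import Mathlib

set_option autoImplicit false

namespace Cfsg.Agent.Lib.Helper4.SingerInter

open Module

variable {F K : Type*} [Field F] [Fintype F] [Field K] [Fintype K] [Algebra F K]

theorem main (n : ℕ) (hn : 2 ≤ n) (hdim : Module.finrank F K = n)
    (g : (Module.End F K)ˣ)
    (hg : ((Units.map ((Algebra.lmul F K : K →ₐ[F] Module.End F K) : K →* Module.End F K)).range).map
        (MulAut.conj g).toMonoidHom
      ≠ (Units.map ((Algebra.lmul F K : K →ₐ[F] Module.End F K) : K →* Module.End F K)).range) :
    ∃ r : ℕ, 1 ≤ r ∧ r ∣ n ∧ r < n ∧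
      Nat.card ↥(((Units.map ((Algebra.lmul F K : K →ₐ[F] Module.End F K) : K →* Module.End F K)).range).map
        (MulAut.conj g).toMonoidHom ⊓
        (Units.map ((Algebra.lmul F K : K →ₐ[F] Module.End F K) : K →* Module.End F K)).range)
        ∣ Fintype.card F ^ r - 1 := by
  classical
  set lm : K →ₐ[F] Module.End F K := Algebra.lmul F K with hlm
  have hlm_inj : Function.Injective lm := Algebra.lmul_injective
  set φ : Kˣ →* (Module.End F K)ˣ := Units.map (lm : K →* Module.End F K) with hφ
  have hφ_inj : Function.Injective φ := by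
    apply Units.map_injective
    intro x y h
    exact hlm_inj h
  have hφ_val : ∀ u : Kˣ, ((φ u : (Module.End F K)ˣ) : Module.End F K) = lm (u : K) := fun u => rfl
  set M : Subgroup (Module.End F K)ˣ := φ.range with hM
  set Mg : Subgroup (Module.End F K)ˣ := M.map (MulAut.conj g).toMonoidHom with hMg
  haveI : Finite (Module.End F K) := Finite.of_injective (fun f : Module.End F K => (f : K → K))
    DFunLike.coe_injective
  haveI : Finite (Module.End F K)ˣ := Finite.of_injective (fun u : (Module.End F K)ˣ => (u : Module.End F K))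
    Units.val_injective
  set D' : Subgroup Kˣ := Mg.comap φ with hD'
  have hcardD : Nat.card ↥(Mg ⊓ M) = Nat.card D' := by
    rw [← Subgroup.card_map_of_injective hφ_inj (K := D'), hD', Subgroup.map_comap_eq, inf_comm]
  rw [hcardD]
  set X : Set K := (fun u : Kˣ => (u : K)) '' (D' : Set Kˣ) with hX
  set L : IntermediateField F K := IntermediateField.adjoin F X with hL
  set r := Module.finrank F L with hr
  have hr1 : 1 ≤ r := Module.finrank_pos
  have htower : r * Module.finrank L K = n := by
    rw [hr, Module.finrank_mul_finrank, hdim]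
  have hrdvd : r ∣ n := ⟨_, htower.symm⟩
  have hrle : r ≤ n := Nat.le_of_dvd (by omega) hrdvd
  -- the conjugated algebra
  let S : Subalgebra F K :=
    { carrier := {x | ∃ y : K, lm x = (g : Module.End F K) * lm y * ((g⁻¹ : (Module.End F K)ˣ) : Module.End F K)}
      mul_mem' := by
        rintro x x' ⟨y, hy⟩ ⟨y', hy'⟩
        refine ⟨y * y', ?_⟩
        rw [map_mul, map_mul, hy, hy']
        have : ((g⁻¹ : (Module.End F K)ˣ) : Module.End F K) * (g : Module.End F K) = 1 := Units.inv_mul g
        calc (g : Module.End F K) * lm y * ((g⁻¹ : (Module.End F K)ˣ) : Module.End F K) *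
              ((g : Module.End F K) * lm y' * ((g⁻¹ : (Module.End F K)ˣ) : Module.End F K))
            = (g : Module.End F K) * lm y * (((g⁻¹ : (Module.End F K)ˣ) : Module.End F K) *
              (g : Module.End F K)) * lm y' * ((g⁻¹ : (Module.End F K)ˣ) : Module.End F K) := by
              noncomm_ring
          _ = (g : Module.End F K) * (lm y * lm y') * ((g⁻¹ : (Module.End F K)ˣ) : Module.End F K) := by
              rw [this]; noncomm_ring
      add_mem' := by
        rintro x x' ⟨y, hy⟩ ⟨y', hy'⟩
        refine ⟨y + y', ?_⟩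
        rw [map_add, map_add, hy, hy']
        noncomm_ring
      algebraMap_mem' := by
        intro c
        refine ⟨algebraMap F K c, ?_⟩
        rw [AlgHom.commutes]
        have h1 : (g : Module.End F K) * algebraMap F (Module.End F K) c
            = algebraMap F (Module.End F K) c * (g : Module.End F K) := (Algebra.commutes c _).symm
        rw [h1, mul_assoc, Units.mul_inv, mul_one] }
  have hS_mem : ∀ x, x ∈ S ↔ ∃ y : K, lm x = (g : Module.End F K) * lm y * ((g⁻¹ : (Module.End F K)ˣ) : Module.End F K) :=
    fun x => Iff.rfl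
  have hXS : X ⊆ S := by
    rintro _ ⟨u, hu, rfl⟩
    have hu' : φ u ∈ Mg := hu
    rw [hMg, Subgroup.mem_map] at hu'
    obtain ⟨m, hm, hmu⟩ := hu'
    obtain ⟨y, rfl⟩ := hm
    refine ⟨(y : K), ?_⟩
    have := congrArg (fun v : (Module.End F K)ˣ => (v : Module.End F K)) hmu
    simp only [MulEquiv.coe_toMonoidHom, MulAut.conj_apply, Units.val_mul] at this
    rw [← hφ_val u, ← this]
    rfl
  have hadj : Algebra.adjoin F X ≤ S := Algebra.adjoin_le hXS
  have hrlt : r < n := by
    by_contra hcon
    have hrn : r = n := by omega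
    have hLtop : ∀ x : K, x ∈ L := by
      intro x
      have h1 : L.toSubalgebra.toSubmodule = ⊤ := by
        apply Submodule.eq_top_of_finrank_eq
        rw [hdim, ← hrn]
        rfl
      have : x ∈ L.toSubalgebra.toSubmodule := by rw [h1]; trivial
      exact this
    have hStop : ∀ x : K, x ∈ S := by
      intro x
      apply hadj
      have := hLtop x
      rw [hL, ← IntermediateField.mem_toSubalgebra, IntermediateField.adjoin_toSubalgebra] at this
      exact this
    apply hg
    symm
    apply Subgroup.eq_of_le_of_card_ge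
    · rintro _ ⟨u, rfl⟩
      obtain ⟨y, hy⟩ := (hS_mem _).1 (hStop (u : K))
      have hy0 : y ≠ 0 := by
        rintro rfl
        rw [map_zero, mul_zero, zero_mul] at hy
        have : (u : K) = 0 := hlm_inj (by rw [hy, map_zero])
        exact u.ne_zero this
      rw [hMg, Subgroup.mem_map]
      refine ⟨φ (Units.mk0 y hy0), ⟨_, rfl⟩, ?_⟩
      apply Units.ext
      simp only [MulEquiv.coe_toMonoidHom, MulAut.conj_apply, Units.val_mul]
      rw [hφ_val, hφ_val, hy]
      rfl
    · rw [hMg, Subgroup.card_map_of_injective (MulAut.conj g).injective]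
  refine ⟨r, hr1, hrdvd, hrlt, ?_⟩
  -- Lagrange
  let LU : Subgroup Kˣ := (Units.map ((algebraMap L K : L →+* K) : L →* K)).range
  have hLUcard : Nat.card LU = Fintype.card F ^ r - 1 := by
    have hinj : Function.Injective (Units.map ((algebraMap L K : L →+* K) : L →* K)) := by
      apply Units.map_injective
      intro x y h
      exact (algebraMap L K).injective h
    have h1 : Nat.card LU = Nat.card Lˣ :=
      (Nat.card_congr (MonoidHom.ofInjective hinj).toEquiv).symm
    rw [h1, Nat.card_units, Module.natCard_eq_pow_finrank (K := F) (V := L), Nat.card_eq_fintype_card]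
  have hDle : D' ≤ LU := by
    intro u hu
    have hmem : (u : K) ∈ L := IntermediateField.subset_adjoin F X ⟨u, hu, rfl⟩
    have hne : (⟨(u : K), hmem⟩ : L) ≠ 0 := by
      intro h
      have := congrArg Subtype.val h
      exact u.ne_zero this
    refine ⟨Units.mk0 ⟨(u : K), hmem⟩ hne, ?_⟩
    apply Units.ext
    rfl
  rw [← hLUcard]
  exact Subgroup.card_dvd_of_le hDle

end Cfsg.Agent.Lib.Helper4.SingerInter
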