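import Mathlib

/-! Elements of order 3 in `Sp₄(3)` conjugate to their inverse: fixed space is a totally
isotropic plane. Application to embeddings of `SL₂(5)`. -/

set_option autoImplicit false

namespace Cfsg.Agent.Lib.Helper4.Sp4Three

open Matrix

section LinAlg

variable {F : Type*} [Field F] {V : Type*} [AddCommGroup V] [Module F V] [FiniteDimensional F V]

theorem finrank_le_map_add_ker {W : Type*} [AddCommGroup W] [Module F W] (f : V →ₗ[F] W)
    (p : Submodule F V) :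
    Module.finrank F p ≤ Module.finrank F (p.map f) + Module.finrank F (LinearMap.ker f) := by
  have h1 := LinearMap.finrank_range_add_finrank_ker (f.domRestrict p)
  rw [LinearMap.range_domRestrict] at h1
  have h2 : Module.finrank F (LinearMap.ker (f.domRestrict p))
      ≤ Module.finrank F (LinearMap.ker f) := by
    let g : LinearMap.ker (f.domRestrict p) →ₗ[F] LinearMap.ker f :=
      LinearMap.codRestrict (LinearMap.ker f)
        (p.subtype.comp (LinearMap.ker (f.domRestrict p)).subtype) (by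
        intro x
        rw [LinearMap.mem_ker]
        have := x.2
        rw [LinearMap.mem_ker] at this
        exact this)
    apply LinearMap.finrank_le_finrank_of_injective (f := g)
    intro x y hxy
    have := congrArg Subtype.val hxy
    exact Subtype.ext (Subtype.ext this)
  omega

theorem finrank_le_three_mul_ker (f : V →ₗ[F] V) (h3 : f ∘ₗ f ∘ₗ f = 0) :
    Module.finrank F V ≤ 3 * Module.finrank F (LinearMap.ker f) := by
  have h1 := LinearMap.finrank_range_add_finrank_ker f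
  have h2 := finrank_le_map_add_ker f (LinearMap.range f)
  have h3' : (LinearMap.range f).map f ≤ LinearMap.ker f := by
    rintro _ ⟨_, ⟨v, rfl⟩, rfl⟩
    rw [LinearMap.mem_ker]
    exact LinearMap.congr_fun h3 v
  have h4 := Submodule.finrank_mono h3'
  omega

end LinAlg

section Symp

variable {F : Type*} [Field F]

/-- the alternating form -/
def Bf (v w : Fin 2 ⊕ Fin 2 → F) : F := v ⬝ᵥ (J (Fin 2) F) *ᵥ w

theorem Bf_add_left (u v w : Fin 2 ⊕ Fin 2 → F) : Bf (u + v) w = Bf u w + Bf v w := by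
  unfold Bf; rw [add_dotProduct]

theorem Bf_smul_left (c : F) (v w : Fin 2 ⊕ Fin 2 → F) : Bf (c • v) w = c * Bf v w := by
  unfold Bf; rw [smul_dotProduct, smul_eq_mul]

theorem Bf_add_right (u v w : Fin 2 ⊕ Fin 2 → F) : Bf u (v + w) = Bf u v + Bf u w := by
  unfold Bf; rw [mulVec_add, dotProduct_add]

theorem Bf_smul_right (c : F) (v w : Fin 2 ⊕ Fin 2 → F) : Bf v (c • w) = c * Bf v w := by
  unfold Bf; rw [mulVec_smul, dotProduct_smul, smul_eq_mul]

theorem Bf_swap (v w : Fin 2 ⊕ Fin 2 → F) : Bf v w = - Bf w v := by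
  unfold Bf
  rw [dotProduct_mulVec, ← mulVec_transpose, J_transpose, neg_mulVec, neg_dotProduct,
    dotProduct_comm]

theorem Bf_self (h2 : (2 : F) ≠ 0) (v : Fin 2 ⊕ Fin 2 → F) : Bf v v = 0 := by
  have h := Bf_swap v v
  have : (2 : F) * Bf v v = 0 := by linear_combination h
  rcases mul_eq_zero.mp this with h | h
  · exact absurd h h2
  · exact h

theorem Bf_zero_left (w : Fin 2 ⊕ Fin 2 → F) : Bf 0 w = 0 := by
  unfold Bf; rw [zero_dotProduct]

theorem Bf_inv {A : Matrix (Fin 2 ⊕ Fin 2) (Fin 2 ⊕ Fin 2) F}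
    (hA : A ∈ symplecticGroup (Fin 2) F) (v w : Fin 2 ⊕ Fin 2 → F) :
    Bf (A *ᵥ v) (A *ᵥ w) = Bf v w := by
  unfold Bf
  rw [mulVec_mulVec, ← vecMul_transpose, ← dotProduct_mulVec, mulVec_mulVec, ← Matrix.mul_assoc,
    SymplecticGroup.mem_iff'.mp hA]

theorem exists_Bf_ne (u : Fin 2 ⊕ Fin 2 → F) (hu : u ≠ 0) : ∃ v, Bf u v ≠ 0 := by
  obtain ⟨i, hi⟩ : ∃ i, u i ≠ 0 := by
    by_contra h
    push Not at h
    exact hu (funext h)
  refine ⟨(-J (Fin 2) F) *ᵥ (Pi.single i 1), ?_⟩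
  unfold Bf
  rw [mulVec_mulVec, mul_neg, J_squared, neg_neg, one_mulVec, dotProduct_single, mul_one]
  exact hi

theorem eq_zero_of_mulVec (M : Matrix (Fin 2 ⊕ Fin 2) (Fin 2 ⊕ Fin 2) F)
    (h : ∀ v, M *ᵥ v = 0) : M = 0 := by
  apply Matrix.toLin'.injective
  apply LinearMap.ext
  intro v
  rw [toLin'_apply, h, map_zero]
  rfl

theorem no_transvection (h2 : (2 : F) ≠ 0) (hsq : ∀ a : F, a ≠ 0 → a ^ 2 = 1)
    {A A' H : Matrix (Fin 2 ⊕ Fin 2) (Fin 2 ⊕ Fin 2) F}
    (hA : A ∈ symplecticGroup (Fin 2) F) (hH : H ∈ symplecticGroup (Fin 2) F)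
    (hA' : A' * A = 1) (hconj : H * A = A' * H)
    (u : Fin 2 ⊕ Fin 2 → F) (hu : u ≠ 0) (hr : ∀ v, ∃ c : F, (A - 1) *ᵥ v = c • u)
    (hne : A ≠ 1) : False := by
  set N := A - 1 with hN
  have hAN : ∀ v, A *ᵥ v = v + N *ᵥ v := by
    intro v
    rw [hN, sub_mulVec, one_mulVec]; abel
  have huu : Bf u u = 0 := Bf_self h2 u
  -- (1)
  have e1 : ∀ v w, Bf (N *ᵥ v) w + Bf v (N *ᵥ w) + Bf (N *ᵥ v) (N *ᵥ w) = 0 := by
    intro v w
    have := Bf_inv hA v w
    rw [hAN, hAN, Bf_add_left, Bf_add_right, Bf_add_right] at this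
    linear_combination this
  have e2 : ∀ v w, Bf (N *ᵥ v) (N *ᵥ w) = 0 := by
    intro v w
    obtain ⟨c, hc⟩ := hr v
    obtain ⟨c', hc'⟩ := hr w
    rw [hc, hc', Bf_smul_left, Bf_smul_right, huu]; ring
  have e3 : ∀ v w, Bf (N *ᵥ v) w = Bf (N *ᵥ w) v := by
    intro v w
    have := e1 v w
    rw [e2, Bf_swap v (N *ᵥ w)] at this
    linear_combination this
  -- (4)
  have hN0 : N ≠ 0 := by
    intro h
    apply hne
    rw [hN, sub_eq_zero] at h
    exact h
  obtain ⟨w0, hw0⟩ : ∃ w0, N *ᵥ w0 ≠ 0 := by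
    by_contra h
    push Not at h
    exact hN0 (eq_zero_of_mulVec N h)
  obtain ⟨c0, hc0⟩ := hr w0
  have hc0ne : c0 ≠ 0 := by
    rintro rfl
    rw [zero_smul] at hc0
    exact hw0 hc0
  set w1 := c0⁻¹ • w0 with hw1
  have hNw1 : N *ᵥ w1 = u := by
    rw [hw1, mulVec_smul, hc0, smul_smul, inv_mul_cancel₀ hc0ne, one_smul]
  set β := Bf u w1 with hβ
  have e5 : ∀ v c, N *ᵥ v = c • u → c * β = Bf u v := by
    intro v c hc
    have := e3 v w1
    rw [hNw1, hc, Bf_smul_left] at this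
    exact this
  obtain ⟨v1, hv1⟩ := exists_Bf_ne u hu
  have hβne : β ≠ 0 := by
    intro h
    obtain ⟨c, hc⟩ := hr v1
    have := e5 v1 c hc
    rw [h, mul_zero] at this
    exact hv1 this.symm
  have e7 : ∀ v, N *ᵥ v = (β⁻¹ * Bf u v) • u := by
    intro v
    obtain ⟨c, hc⟩ := hr v
    rw [hc, ← e5 v c hc]
    congr 1
    field_simp
  have hNu : N *ᵥ u = 0 := by
    rw [e7, huu, mul_zero, zero_smul]
  -- conjugation
  have hAA' : A * A' = 1 := mul_eq_one_comm.mp hA'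
  have e9 : ∀ v, A *ᵥ (H *ᵥ (A *ᵥ v)) = H *ᵥ v := by
    intro v
    rw [mulVec_mulVec, mulVec_mulVec, Matrix.mul_assoc, hconj, ← Matrix.mul_assoc, hAA',
      Matrix.one_mul]
  have e10 : ∀ v, H *ᵥ (N *ᵥ v) + N *ᵥ (H *ᵥ v) + N *ᵥ (H *ᵥ (N *ᵥ v)) = 0 := by
    intro v
    have := e9 v
    rw [hAN (H *ᵥ (A *ᵥ v)), hAN v, mulVec_add, mulVec_add] at this
    have h' : H *ᵥ v + H *ᵥ (N *ᵥ v) + (N *ᵥ (H *ᵥ v) + N *ᵥ (H *ᵥ (N *ᵥ v))) - H *ᵥ v = 0 := by
      rw [this, sub_self]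
    rw [← h']
    abel
  have hNHu : N *ᵥ (H *ᵥ u) = 0 := by
    have := e10 u
    rw [hNu, mulVec_zero, mulVec_zero, zero_add, add_zero] at this
    exact this
  have e11 : ∀ v, (β⁻¹ * Bf u v) • (H *ᵥ u) + (β⁻¹ * Bf u (H *ᵥ v)) • u = 0 := by
    intro v
    have := e10 v
    rw [e7 v, mulVec_smul, mulVec_smul, hNHu, smul_zero, add_zero, e7 (H *ᵥ v)] at this
    exact this
  have hHu : H *ᵥ u ≠ 0 := by
    intro h
    apply hv1
    rw [← Bf_inv hH u v1, h, Bf_zero_left]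
  -- H u = λ u
  have hc1 : β⁻¹ * Bf u v1 ≠ 0 := mul_ne_zero (inv_ne_zero hβne) hv1
  set lam := -((β⁻¹ * Bf u v1)⁻¹ * (β⁻¹ * Bf u (H *ᵥ v1))) with hlam
  have hHu' : H *ᵥ u = lam • u := by
    have := e11 v1
    have h' : H *ᵥ u = (β⁻¹ * Bf u v1)⁻¹ • ((β⁻¹ * Bf u v1) • (H *ᵥ u)) := by
      rw [smul_smul, inv_mul_cancel₀ hc1, one_smul]
    rw [h', eq_neg_of_add_eq_zero_left this, smul_neg, smul_smul, hlam, neg_smul]
  have hlam0 : lam ≠ 0 := by
    intro h
    rw [h, zero_smul] at hHu'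
    exact hHu hHu'
  have e12 : ∀ v, lam * Bf u (H *ᵥ v) = Bf u v := by
    intro v
    have := Bf_inv hH u v
    rw [hHu', Bf_smul_left] at this
    exact this
  have e13 := e11 v1
  rw [hHu', smul_smul, ← add_smul] at e13
  have e14 : β⁻¹ * Bf u v1 * lam + β⁻¹ * Bf u (H *ᵥ v1) = 0 := by
    rcases smul_eq_zero.mp e13 with h | h
    · exact h
    · exact absurd h hu
  have e15 := e12 v1
  have e16 : lam ^ 2 = -1 := by
    have hb : β⁻¹ * β = 1 := inv_mul_cancel₀ hβne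
    have : (β⁻¹ * Bf u v1) * (lam ^ 2 + 1) = 0 := by
      linear_combination lam * e14 - β⁻¹ * e15
    rcases mul_eq_zero.mp this with h | h
    · exact absurd h hc1
    · linear_combination h
  rw [hsq lam hlam0] at e16
  apply h2
  linear_combination e16

theorem Bf_zero_right (w : Fin 2 ⊕ Fin 2 → F) : Bf w 0 = 0 := by
  unfold Bf; rw [mulVec_zero, dotProduct_zero]

theorem sp_main [CharP F 3] (hsq : ∀ a : F, a ≠ 0 → a ^ 2 = 1)
    {A A' H : Matrix (Fin 2 ⊕ Fin 2) (Fin 2 ⊕ Fin 2) F}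
    (hA : A ∈ symplecticGroup (Fin 2) F) (hH : H ∈ symplecticGroup (Fin 2) F)
    (hA' : A' * A = 1) (hconj : H * A = A' * H) (hA3 : A ^ 3 = 1) (hne : A ≠ 1) :
    Module.finrank F (LinearMap.ker (Matrix.toLin' A - LinearMap.id)) = 2 ∧
      ∀ v w : Fin 2 ⊕ Fin 2 → F, A *ᵥ v = v → A *ᵥ w = w →
        v ⬝ᵥ (J (Fin 2) F) *ᵥ w = 0 := by
  have h2 : (2 : F) ≠ 0 := by
    intro h
    have h' : ((2 : ℕ) : F) = 0 := by exact_mod_cast h
    rw [CharP.cast_eq_zero_iff F 3] at h'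
    omega
  haveI : Fact (Nat.Prime 3) := ⟨by norm_num⟩
  set N := A - 1 with hN
  have hN3 : N ^ 3 = 0 := by
    rw [hN, sub_pow_char_of_commute 3 (Commute.one_right A), hA3, one_pow, sub_self]
  have hNNN : N * (N * N) = 0 := by
    have := hN3
    rw [pow_succ', pow_two] at this
    exact this
  have hAN : ∀ v, A *ᵥ v = v + N *ᵥ v := by
    intro v
    rw [hN, sub_mulVec, one_mulVec]; abel
  set f := Matrix.toLin' N with hf
  have hfv : ∀ v, f v = N *ᵥ v := fun v => by rw [hf, toLin'_apply]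
  have hfeq : Matrix.toLin' A - LinearMap.id = f := by
    rw [hf, hN, map_sub, Matrix.toLin'_one]
  have hf3 : f ∘ₗ f ∘ₗ f = 0 := by
    rw [hf, ← Matrix.toLin'_mul, ← Matrix.toLin'_mul, hNNN, map_zero]
  have hdim : Module.finrank F (Fin 2 ⊕ Fin 2 → F) = 4 := by
    rw [Module.finrank_fintype_fun_eq_card]; rfl
  have hker_fix : ∀ v, A *ᵥ v = v ↔ N *ᵥ v = 0 := by
    intro v
    rw [hAN]
    constructor
    · intro h
      have := congrArg (fun y => y - v) h
      simpa using this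
    · intro h
      rw [h, add_zero]
  have h1 := LinearMap.finrank_range_add_finrank_ker f
  have hge := finrank_le_three_mul_ker f hf3
  have hN0 : N ≠ 0 := by
    intro h
    apply hne
    rw [hN, sub_eq_zero] at h
    exact h
  have hk4 : Module.finrank F (LinearMap.ker f) ≠ 4 := by
    intro h
    have h' : LinearMap.ker f = ⊤ := Submodule.eq_top_of_finrank_eq (h.trans hdim.symm)
    have hf0 : f = 0 := LinearMap.ker_eq_top.mp h'
    apply hN0
    apply Matrix.toLin'.injective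
    rw [← hf, hf0, map_zero]
  have hk3 : Module.finrank F (LinearMap.ker f) ≠ 3 := by
    intro h
    have hr1 : Module.finrank F (LinearMap.range f) = 1 := by omega
    obtain ⟨u', hu', hall⟩ := finrank_eq_one_iff'.mp hr1
    apply no_transvection h2 hsq hA hH hA' hconj u'.1
      (by intro h0; exact hu' (Subtype.ext h0)) ?_ hne
    intro v
    obtain ⟨c, hc⟩ := hall ⟨f v, LinearMap.mem_range_self f v⟩
    refine ⟨c, ?_⟩
    have := congrArg Subtype.val hc
    rw [← hN, ← hfv]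
    exact this.symm
  have hk : Module.finrank F (LinearMap.ker f) = 2 := by omega
  refine ⟨by rw [hfeq]; exact hk, ?_⟩
  obtain ⟨v0, hv0⟩ : ∃ v0, N *ᵥ v0 ≠ 0 := by
    by_contra h
    push Not at h
    exact hN0 (eq_zero_of_mulVec N h)
  obtain ⟨u, hu0, hur, huk⟩ : ∃ u, u ≠ 0 ∧ (∃ y, N *ᵥ y = u) ∧ N *ᵥ u = 0 := by
    by_cases h : N *ᵥ (N *ᵥ v0) = 0
    · exact ⟨N *ᵥ v0, hv0, ⟨v0, rfl⟩, h⟩
    · refine ⟨N *ᵥ (N *ᵥ v0), h, ⟨_, rfl⟩, ?_⟩
      rw [mulVec_mulVec, mulVec_mulVec, Matrix.mul_assoc, hNNN, zero_mulVec]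
  have hperp : ∀ y, N *ᵥ y = 0 → Bf u y = 0 := by
    intro y hy
    obtain ⟨x, rfl⟩ := hur
    have := Bf_inv hA x y
    rw [(hker_fix y).mpr hy, hAN x, Bf_add_left] at this
    linear_combination this
  intro v w hv hw
  change Bf v w = 0
  rw [hker_fix] at hv hw
  have hmem : ∀ y, N *ᵥ y = 0 → y ∈ LinearMap.ker f := by
    intro y hy
    rw [LinearMap.mem_ker, hfv, hy]
  let vec : Fin 3 → LinearMap.ker f := ![⟨u, hmem u huk⟩, ⟨v, hmem v hv⟩, ⟨w, hmem w hw⟩]
  have hdep : ¬ LinearIndependent F vec := by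
    intro hli
    have := hli.fintype_card_le_finrank
    rw [hk] at this
    simp at this
  obtain ⟨g, hg, i, hi⟩ := Fintype.not_linearIndependent_iff.mp hdep
  rw [Fin.sum_univ_three] at hg
  have hg' : g 0 • u + g 1 • v + g 2 • w = 0 := by
    have := congrArg Subtype.val hg
    simpa [vec] using this
  have ea : g 1 * Bf v w = 0 := by
    have := congrArg (fun y => Bf y w) hg'
    simp only [Bf_add_left, Bf_smul_left, Bf_zero_left] at this
    rw [hperp w hw, Bf_self h2 w] at this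
    linear_combination this
  have eb : g 2 * Bf v w = 0 := by
    have := congrArg (fun y => Bf v y) hg'
    simp only [Bf_add_right, Bf_smul_right, Bf_zero_right] at this
    rw [Bf_swap v u, hperp v hv, Bf_self h2 v] at this
    linear_combination this
  by_contra hne'
  have g1 : g 1 = 0 := (mul_eq_zero.mp ea).resolve_right hne'
  have g2 : g 2 = 0 := (mul_eq_zero.mp eb).resolve_right hne'
  rw [g1, g2, zero_smul, zero_smul, add_zero, add_zero] at hg'
  have g0 : g 0 = 0 := (smul_eq_zero.mp hg').resolve_right hu0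
  fin_cases i
  · exact hi g0
  · exact hi g1
  · exact hi g2

end Symp

end Cfsg.Agent.Lib.Helper4.Sp4Three
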