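import Mathlib
import Cfsg.Agent.Lib.Helper4.Sp4Three
import Cfsg.Agent.Lib.Helper4.SL2Cov3

/-! `SL₂(5) ↪ Sp₄(3)`: elements of order 3 fix a totally isotropic plane. -/

set_option autoImplicit false

namespace Cfsg.Agent.Lib.Helper4.Sp4Three

open Matrix Cfsg.Agent.Lib.Helper4 Cfsg.Agent.Lib.Helper4.SL2Tr Cfsg.Agent.Lib.Helper4.SL2Ord
  Cfsg.Agent.Lib.Helper4.SL2Cov

theorem exists_conj_inv {K : Type*} [Field K] [Fintype K] [DecidableEq K]
    (hK : Fintype.card K = 5)
    (x : SpecialLinearGroup (Fin 2) K) (hx : orderOf x = 3) : IsConj x x⁻¹ := by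
  have hodd : Odd (Fintype.card K) := by rw [hK]; decide
  haveI : Fact (Nat.Prime 5) := ⟨by norm_num⟩
  haveI : CharP K 5 := charP_of_card_eq_prime hK
  have hx3 : x ^ 3 = 1 := by rw [← hx]; exact pow_orderOf_eq_one x
  have hx1 : x ≠ 1 := by
    intro h
    rw [h, orderOf_one] at hx
    omega
  have hsc : ∀ y : SpecialLinearGroup (Fin 2) K, IsScalar2 (y : Matrix (Fin 2) (Fin 2) K) →
      y ^ 2 = 1 := by
    intro y hy
    rcases eq_one_or_neg_of_isScalar2 y hy with h | h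
    · rw [h, one_pow]
    · rw [h, pow_two, negOneSL_mul_self]
  have hns : ¬ IsScalar2 (x : Matrix (Fin 2) (Fin 2) K) := by
    intro h
    have h2 := hsc x h
    apply hx1
    calc x = x ^ 3 * (x ^ 2)⁻¹ := by group
    _ = 1 := by rw [hx3, h2]; simp
  have ht : (x : Matrix (Fin 2) (Fin 2) K).trace ^ 2 ≠ 4 := by
    intro h
    have h2' := two_ne_zero_of_odd hodd
    have h5 := pow_char_isScalar2 5 x ((x : Matrix (Fin 2) (Fin 2) K).trace / 2)
      (by field_simp; linear_combination h) (by field_simp)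
    have h10 := hsc _ h5
    rw [← pow_mul] at h10
    have := orderOf_dvd_of_pow_eq_one h10
    rw [hx] at this
    omega
  rw [isConj_iff_trace_odd hodd x x⁻¹ hns ht]
  have hinv : ((x⁻¹ : SpecialLinearGroup (Fin 2) K) : Matrix (Fin 2) (Fin 2) K)
      = adjugate (x : Matrix (Fin 2) (Fin 2) K) := Matrix.SpecialLinearGroup.coe_inv x
  show ((x⁻¹ : SpecialLinearGroup (Fin 2) K) : Matrix (Fin 2) (Fin 2) K).trace = _
  rw [hinv, Matrix.trace_fin_two, Matrix.trace_fin_two, Matrix.adjugate_fin_two]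
  simp
  ring

theorem main {F : Type*} [Field F] [Fintype F] (hF : Fintype.card F = 3)
    {K : Type*} [Field K] [Fintype K] (hK : Fintype.card K = 5)
    (φ : Matrix.SpecialLinearGroup (Fin 2) K →* ↥(Matrix.symplecticGroup (Fin 2) F))
    (hφ : Function.Injective φ)
    (x : Matrix.SpecialLinearGroup (Fin 2) K) (hx : orderOf x = 3) :
    Module.finrank F ↥(LinearMap.ker (Matrix.toLin'
        ((φ x : Matrix (Fin 2 ⊕ Fin 2) (Fin 2 ⊕ Fin 2) F)) - LinearMap.id)) = 2 ∧
      ∀ v w : Fin 2 ⊕ Fin 2 → F,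
        (φ x : Matrix (Fin 2 ⊕ Fin 2) (Fin 2 ⊕ Fin 2) F).mulVec v = v →
        (φ x : Matrix (Fin 2 ⊕ Fin 2) (Fin 2 ⊕ Fin 2) F).mulVec w = w →
          dotProduct v ((Matrix.J (Fin 2) F).mulVec w) = 0 := by
  classical
  haveI : Fact (Nat.Prime 3) := ⟨by norm_num⟩
  haveI : CharP F 3 := charP_of_card_eq_prime hF
  have hsq : ∀ a : F, a ≠ 0 → a ^ 2 = 1 := by
    intro a ha
    have := FiniteField.pow_card_sub_one_eq_one a ha
    rw [hF] at this
    exact this
  obtain ⟨c, hc⟩ := isConj_iff.mp (exists_conj_inv hK x hx)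
  have hx3 : x ^ 3 = 1 := by rw [← hx]; exact pow_orderOf_eq_one x
  have hx1 : x ≠ 1 := by
    intro h
    rw [h, orderOf_one] at hx
    omega
  have hg3 : (φ x) ^ 3 = 1 := by rw [← map_pow, hx3, map_one]
  have hg1 : φ x ≠ 1 := by
    intro h
    apply hx1
    apply hφ
    rw [h, map_one]
  have hconj : φ c * φ x = (φ x)⁻¹ * φ c := by
    rw [← map_inv, ← map_mul, ← map_mul]
    congr 1
    rw [← hc]; group
  apply sp_main hsq (φ x).2 (φ c).2 (A' := (((φ x)⁻¹ : ↥(Matrix.symplecticGroup (Fin 2) F)) :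
    Matrix (Fin 2 ⊕ Fin 2) (Fin 2 ⊕ Fin 2) F))
  · have := congrArg Subtype.val (inv_mul_cancel (φ x))
    exact this
  · have := congrArg Subtype.val hconj
    exact this
  · have := congrArg Subtype.val hg3
    exact this
  · intro h
    apply hg1
    exact Subtype.ext h

end Cfsg.Agent.Lib.Helper4.Sp4Three
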