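import Mathlib
import Cfsg.Prelude.Def_SporCoxeter

/-! The symplectic group Sp6(2) of order 1451520 presented on an element `b` of order 7 and an involution `a` with `ab` of order 9 (generated). -/

namespace Cfsg.Agent.Lib.Helper4

namespace Sp62p

/-- the generators -/
inductive Gen
  | b
  | a
  deriving DecidableEq

abbrev b : FreeGroup Gen := FreeGroup.of Gen.b
abbrev a : FreeGroup Gen := FreeGroup.of Gen.a

/-- no Coxeter graph -/
def edges : List (Gen × ℕ × Gen) := []

/-- the relators -/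
def extra : List (FreeGroup Gen) := [
  b ^ 7,
  a ^ 2,
  (a * b) ^ 9,
  (a * b * b) ^ 12,
  (a * b * a⁻¹ * b⁻¹) ^ 3,
  (a * b * b * a⁻¹ * b⁻¹ * b⁻¹) ^ 2 ]

end Sp62p

end Cfsg.Agent.Lib.Helper4
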