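import Mathlib
import Cfsg.Prelude.Def_ClassicalGeometry
import Cfsg.Agent.Lib.Helper5.SympTv
import Cfsg.Agent.Lib.Helper5.AltForm

set_option autoImplicit false
open Cfsg

namespace Cfsg.Agent.Lib.Helper4.SpInvol

open Matrix Cfsg.Agent.Lib.Helper5.SympTv

variable {F : Type*} [Field F] [Fintype F] {m : ℕ}

/-- the additive map `v ↦ f(v, A v)` for a symplectic involution -/
noncomputable def qHom (A : Matrix (Fin m ⊕ Fin m) (Fin m ⊕ Fin m) F)
    (hA : A ∈ symplecticGroup (Fin m) F) (hA2 : A * A = 1) : (Fin m ⊕ Fin m → F) →+ F where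
  toFun v := sympForm m F v (A *ᵥ v)
  map_zero' := by simp [sympForm]
  map_add' v w := by
    have h1 : sympForm m F w (A *ᵥ v) = - sympForm m F v (A *ᵥ w) := by
      rw [← sympForm_mulVec m hA w (A *ᵥ v), mulVec_mulVec, hA2, one_mulVec, sympForm_swap]
    rw [mulVec_add, sympForm_add_left, sympForm_add_right, sympForm_add_right, h1]
    ring

theorem qHom_apply (A : Matrix (Fin m ⊕ Fin m) (Fin m ⊕ Fin m) F)
    (hA : A ∈ symplecticGroup (Fin m) F) (hA2 : A * A = 1) (v : Fin m ⊕ Fin m → F) :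
    qHom A hA hA2 v = sympForm m F v (A *ᵥ v) := rfl

theorem qHom_smul (A : Matrix (Fin m ⊕ Fin m) (Fin m ⊕ Fin m) F)
    (hA : A ∈ symplecticGroup (Fin m) F) (hA2 : A * A = 1) (c : F) (v : Fin m ⊕ Fin m → F) :
    qHom A hA hA2 (c • v) = c ^ 2 * qHom A hA hA2 v := by
  rw [qHom_apply, qHom_apply, mulVec_smul, sympForm_smul_left, sympForm_smul_right]
  ring

theorem card_cases [CharP F 2] (A : Matrix (Fin m ⊕ Fin m) (Fin m ⊕ Fin m) F)
    (hA : A ∈ symplecticGroup (Fin m) F) (hA2 : A * A = 1) :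
    Nat.card {v : Fin m ⊕ Fin m → F // sympForm m F v (A *ᵥ v) = 0} = Fintype.card F ^ (2 * m) ∨
    Nat.card {v : Fin m ⊕ Fin m → F // sympForm m F v (A *ᵥ v) = 0} * Fintype.card F
      = Fintype.card F ^ (2 * m) := by
  classical
  set Q := qHom A hA hA2 with hQ
  have hcardV : Nat.card (Fin m ⊕ Fin m → F) = Fintype.card F ^ (2 * m) := by
    rw [Nat.card_eq_fintype_card, Fintype.card_fun, Fintype.card_sum, Fintype.card_fin]
    congr 1; ring
  have hker : Nat.card {v : Fin m ⊕ Fin m → F // sympForm m F v (A *ᵥ v) = 0} = Nat.card Q.ker := by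
    apply Nat.card_congr
    exact Equiv.subtypeEquivRight (fun v => by rw [AddMonoidHom.mem_ker]; rfl)
  have hmul : Nat.card Q.ker * Nat.card Q.range = Fintype.card F ^ (2 * m) := by
    rw [← AddSubgroup.index_ker, AddSubgroup.card_mul_index, hcardV]
  rw [hker]
  by_cases h0 : ∀ v, Q v = 0
  · left
    have : Q.ker = ⊤ := by
      ext v
      simp [AddMonoidHom.mem_ker, h0 v]
    rw [this, ← hcardV]
    exact Nat.card_congr AddSubgroup.topEquiv.toEquiv
  · right
    push Not at h0
    obtain ⟨v₀, hv₀⟩ := h0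
    have hsurj : Q.range = ⊤ := by
      rw [AddMonoidHom.range_eq_top]
      intro z
      obtain ⟨c, hc⟩ := (bijective_frobenius F 2).surjective (z / Q v₀)
      rw [frobenius_def] at hc
      refine ⟨c • v₀, ?_⟩
      rw [hQ, qHom_smul, hc, ← hQ]
      field_simp
    have hr : Nat.card Q.range = Fintype.card F := by
      rw [hsurj, ← Nat.card_eq_fintype_card]
      exact Nat.card_congr AddSubgroup.topEquiv.toEquiv
    rw [hr] at hmul
    exact hmul

theorem even_rank (A : Matrix (Fin m ⊕ Fin m) (Fin m ⊕ Fin m) F)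
    (h0 : ∀ v : Fin m ⊕ Fin m → F, sympForm m F v (A *ᵥ v) = 0) :
    Even (A - 1).rank := by
  classical
  set M : Matrix (Fin m ⊕ Fin m) (Fin m ⊕ Fin m) F := J (Fin m) F * (A - 1) with hM
  let B : LinearMap.BilinForm F (Fin m ⊕ Fin m → F) := Matrix.toBilin' M
  have hB : ∀ v w, B v w = v ⬝ᵥ (M *ᵥ w) := by
    intro v w
    simp only [B]
    rw [Matrix.toBilin'_apply']
  have hAlt : B.IsAlt := by
    intro v
    rw [hB, hM, ← mulVec_mulVec, sub_mulVec, one_mulVec, mulVec_sub, dotProduct_sub]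
    have h1 := h0 v
    have h2 := sympForm_self m v
    unfold sympForm at h1 h2
    rw [h1, h2, sub_zero]
  obtain ⟨m', k, b, -, -, -, -, h5, h6⟩ := Cfsg.Agent.Lib.Helper5.AltForm.exists_darboux_basis B hAlt
  have hker : LinearMap.ker B = LinearMap.ker (Mᵀ.mulVecLin) := by
    ext v
    rw [LinearMap.mem_ker, LinearMap.mem_ker, Matrix.mulVecLin_apply]
    constructor
    · intro h
      rw [← dotProduct_eq_zero_iff]
      intro w
      have := congrArg (fun f => f w) h
      simp only [LinearMap.zero_apply] at this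
      rw [hB, dotProduct_mulVec, ← mulVec_transpose] at this
      exact this
    · intro h
      apply LinearMap.ext
      intro w
      rw [LinearMap.zero_apply, hB, dotProduct_mulVec, ← mulVec_transpose, h, zero_dotProduct]
  have hrk : (A - 1).rank = Mᵀ.rank := by
    rw [Matrix.rank_transpose, hM, Matrix.rank_mul_eq_right_of_isUnit_det _ _ (isUnit_det_J (Fin m) F)]
  have hrn := LinearMap.finrank_range_add_finrank_ker (Mᵀ.mulVecLin)
  have hfr : Module.finrank F (Fin m ⊕ Fin m → F) = 2 * m := by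
    rw [Module.finrank_fintype_fun_eq_card, Fintype.card_sum, Fintype.card_fin]; ring
  rw [hfr] at h5 hrn
  rw [hker] at h6
  have : Mᵀ.rank = Module.finrank F (LinearMap.range (Mᵀ.mulVecLin)) := rfl
  rw [hrk, this]
  exact ⟨m', by omega⟩

end Cfsg.Agent.Lib.Helper4.SpInvol
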