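import Mathlib
import Cfsg.Prelude.Def_ClassicalGeometry
import Cfsg.Agent.Lib.Helper2.SpUDefs

set_option autoImplicit false
set_option linter.style.haveILetI false

namespace Cfsg.Agent.Lib.Helper4.SpUG3

open Matrix Polynomial Cfsg.Agent.Lib.Helper2.SpU Cfsg.Agent.Lib.Helper5.SympBlock

variable {F : Type*} [Field F]

section aux

variable {κ μ : Type*} [Fintype κ] [DecidableEq κ] [Fintype μ] [DecidableEq μ]

theorem off_diag_zero (b : Matrix κ μ F) (N₁ : Matrix κ κ F) (B₀ : Matrix μ μ F)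
    (hN₁ : IsNilpotent N₁) (hB₀ : IsUnit B₀) (hb : b * B₀ = N₁ * b) : b = 0 := by
  have hbj : ∀ j : ℕ, b * B₀ ^ j = N₁ ^ j * b := by
    intro j
    induction j with
    | zero => simp
    | succ j ih =>
      rw [pow_succ, ← Matrix.mul_assoc, ih, Matrix.mul_assoc, hb, ← Matrix.mul_assoc, ← pow_succ]
  obtain ⟨j, hj⟩ := hN₁
  have h3 := hbj j
  rw [hj, Matrix.zero_mul] at h3
  obtain ⟨u, hu⟩ := hB₀.pow j
  rw [← hu] at h3
  have : b * (u : Matrix μ μ F) * ((u⁻¹ : (Matrix μ μ F)ˣ) : Matrix μ μ F) = 0 := by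
    rw [h3, Matrix.zero_mul]
  rwa [Matrix.mul_assoc, Units.mul_inv, Matrix.mul_one] at this

theorem off_diag_zero' (c : Matrix μ κ F) (N₀ : Matrix κ κ F) (B₁ : Matrix μ μ F)
    (hN₀ : IsNilpotent N₀) (hB₁ : IsUnit B₁) (hc : c * N₀ = B₁ * c) : c = 0 := by
  have hcj : ∀ j : ℕ, c * N₀ ^ j = B₁ ^ j * c := by
    intro j
    induction j with
    | zero => simp
    | succ j ih =>
      rw [pow_succ, ← Matrix.mul_assoc, ih, Matrix.mul_assoc, hc, ← Matrix.mul_assoc, ← pow_succ]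
  obtain ⟨j, hj⟩ := hN₀
  have h3 := hcj j
  rw [hj, Matrix.mul_zero] at h3
  obtain ⟨u, hu⟩ := hB₁.pow j
  rw [← hu] at h3
  have : ((u⁻¹ : (Matrix μ μ F)ˣ) : Matrix μ μ F) * ((u : Matrix μ μ F) * c) = 0 := by
    rw [← h3, Matrix.mul_zero]
  rwa [← Matrix.mul_assoc, Units.inv_mul, Matrix.one_mul] at this

theorem charpoly_nilpotent' (N : Matrix κ κ F) (hN : IsNilpotent N) :
    N.charpoly = X ^ Fintype.card κ := by
  rw [← sub_eq_zero]
  exact (Matrix.isNilpotent_charpoly_sub_pow_of_isNilpotent hN).eq_zero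

theorem natTrailingDegree_charpoly_unit' (B : Matrix μ μ F) (hB : IsUnit B) :
    B.charpoly.natTrailingDegree = 0 := by
  rw [Polynomial.natTrailingDegree_eq_zero]
  right
  have hdet : IsUnit B.det := (Matrix.isUnit_iff_isUnit_det _).1 hB
  intro h0
  rw [Matrix.det_eq_sign_charpoly_coeff, h0, mul_zero] at hdet
  exact not_isUnit_zero hdet

end aux

/-- `bd` as a reindexed `fromBlocks` -/
theorem bd_eq (k l : ℕ) (M₁ : Mat F k) (M₂ : Mat F l) :
    bd k l M₁ M₂ = (fromBlocks M₁ 0 0 M₂).submatrix (eKL k l).symm (eKL k l).symm := rfl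

theorem eq_bd_of_submatrix (k l : ℕ) (Y : Mat F (k + l)) (P : Mat F k) (S : Mat F l)
    (h : Y.submatrix (eKL k l) (eKL k l) = fromBlocks P 0 0 S) : Y = bd k l P S := by
  rw [bd_eq, ← h, Matrix.submatrix_submatrix]
  simp

/-- G3a -/
theorem block_of_intertwine (k l : ℕ) (Y : Mat F (k + l)) (N N' : Mat F k) (R R' : Mat F l)
    (hN : IsNilpotent N) (hN' : IsNilpotent N') (hR : IsUnit R) (hR' : IsUnit R')
    (h : Y * bd k l N R = bd k l N' R' * Y) :
    ∃ (P : Mat F k) (S : Mat F l), Y = bd k l P S := by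
  have h2 := congrArg (fun A : Mat F (k + l) => A.submatrix (eKL k l) (eKL k l)) h
  rw [← Matrix.submatrix_mul_equiv Y _ (eKL k l) (eKL k l) (eKL k l),
    ← Matrix.submatrix_mul_equiv _ Y (eKL k l) (eKL k l) (eKL k l)] at h2
  rw [show (bd k l N R).submatrix (eKL k l) (eKL k l) = fromBlocks N 0 0 R from
      blockDiag_submatrix k l N R,
    show (bd k l N' R').submatrix (eKL k l) (eKL k l) = fromBlocks N' 0 0 R' from
      blockDiag_submatrix k l N' R'] at h2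
  obtain ⟨a, b, c, d, hg⟩ : ∃ a b c d, Y.submatrix (eKL k l) (eKL k l) = fromBlocks a b c d :=
    ⟨_, _, _, _, (fromBlocks_toBlocks _).symm⟩
  rw [hg, fromBlocks_multiply, fromBlocks_multiply] at h2
  simp only [Matrix.mul_zero, Matrix.zero_mul, add_zero, zero_add, fromBlocks_inj] at h2
  obtain ⟨-, hb, hc, -⟩ := h2
  have hb0 : b = 0 := off_diag_zero b N' R hN' hR hb
  have hc0 : c = 0 := off_diag_zero' c N R' hN hR' hc
  subst hb0 hc0
  exact ⟨a, d, eq_bd_of_submatrix k l Y a d hg⟩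

/-- G3b -/
theorem bd_mem_iff (k l : ℕ) (P : Mat F k) (S : Mat F l) :
    bd k l P S ∈ Matrix.symplecticGroup (Fin (k + l)) F ↔
      P ∈ Matrix.symplecticGroup (Fin k) F ∧ S ∈ Matrix.symplecticGroup (Fin l) F := by
  rw [mem_symplectic_iff_submatrix,
    show (bd k l P S).submatrix (eKL k l) (eKL k l) = fromBlocks P 0 0 S from
      blockDiag_submatrix k l P S,
    fromBlocks_transpose, fromBlocks_multiply, fromBlocks_multiply,
    SymplecticGroup.mem_iff', SymplecticGroup.mem_iff']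
  simp only [Matrix.mul_zero, Matrix.zero_mul, add_zero, zero_add, fromBlocks_inj,
    transpose_zero]
  tauto

/-- G3c -/
theorem nd_bd (k l : ℕ) (N : Mat F k) (R : Mat F l) (hN : IsNilpotent N) (hR : IsUnit R) :
    nd (bd k l N R) = 2 * k := by
  unfold nd
  have h1 : (bd k l N R).charpoly = (fromBlocks N 0 0 R).charpoly := by
    rw [bd_eq]
    exact Matrix.charpoly_reindex (eKL k l) (fromBlocks N 0 0 R)
  rw [h1, Matrix.charpoly_fromBlocks_zero₁₂, charpoly_nilpotent' N hN,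
    natTrailingDegree_mul (pow_ne_zero _ X_ne_zero) (Matrix.charpoly_monic R).ne_zero,
    natTrailingDegree_X_pow, natTrailingDegree_charpoly_unit' R hR, add_zero,
    Fintype.card_sum, Fintype.card_fin]
  omega

/-- G3d -/
theorem nd_cj {n : ℕ} (x : Sp F n) (A : Mat F n) : nd (cj x A) = nd A := by
  unfold nd cj
  let u : (Mat F n)ˣ := ⟨(x : Mat F n), ((x⁻¹ : Sp F n) : Mat F n), coe_mul_inv x, coe_inv_mul x⟩
  have := Matrix.charpoly_units_conj u A
  rw [show (u : Mat F n) = (x : Mat F n) from rfl,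
    Matrix.inv_eq_right_inv (coe_mul_inv x)] at this
  rw [this]

/-- G3e -/
theorem isNilpotent_bd_iff (k l : ℕ) (M₁ : Mat F k) (M₂ : Mat F l) :
    IsNilpotent (bd k l M₁ M₂) ↔ IsNilpotent M₁ ∧ IsNilpotent M₂ := by
  constructor
  · rintro ⟨j, hj⟩
    rw [← bd_pow, ← bd_zero k l] at hj
    obtain ⟨h1, h2⟩ := bd_injective k l _ _ _ _ hj
    exact ⟨⟨j, h1⟩, ⟨j, h2⟩⟩
  · rintro ⟨⟨j₁, h1⟩, ⟨j₂, h2⟩⟩
    refine ⟨j₁ + j₂, ?_⟩
    rw [← bd_pow, pow_add, h1, Matrix.zero_mul, pow_add, h2, Matrix.mul_zero, bd_zero]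

/-- G3f -/
theorem isUnit_bd_iff (k l : ℕ) (M₁ : Mat F k) (M₂ : Mat F l) :
    IsUnit (bd k l M₁ M₂) ↔ IsUnit M₁ ∧ IsUnit M₂ := by
  rw [Matrix.isUnit_iff_isUnit_det, Matrix.isUnit_iff_isUnit_det, Matrix.isUnit_iff_isUnit_det]
  have h1 : (bd k l M₁ M₂).det = M₁.det * M₂.det := by
    rw [bd_eq, Matrix.det_submatrix_equiv_self, Matrix.det_fromBlocks_zero₂₁]
  rw [h1, IsUnit.mul_iff]

end Cfsg.Agent.Lib.Helper4.SpUG3
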