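import Mathlib

/-!
# Counting nilpotent matrices (Fine-Herstein / Steinberg): orbit counting and block matrices
-/

namespace Cfsg.Agent.Lib.Helper4.UnipCount

open Matrix

/-- orbit counting for a subset `D` whose transporter is a subgroup `H` -/
theorem card_orbit_set {G X : Type*} [Group G] [Finite G] [Finite X] (act : G → X → X)
    (h1 : ∀ x, act 1 x = x) (hm : ∀ g h x, act (g * h) x = act g (act h x))
    (D : Set X) (H : Subgroup G)
    (hi : ∀ h ∈ H, ∀ d ∈ D, act h d ∈ D) (hii : ∀ g, ∀ d ∈ D, act g d ∈ D → g ∈ H) :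
    Nat.card {x : X // ∃ g, ∃ d ∈ D, act g d = x} * Nat.card H = Nat.card G * Nat.card D := by
  classical
  haveI := Fintype.ofFinite G
  haveI := Fintype.ofFinite X
  have hinv : ∀ g x, act g⁻¹ (act g x) = x := by
    intro g x; rw [← hm, inv_mul_cancel, h1]
  let φ : G × D → {x : X // ∃ g, ∃ d ∈ D, act g d = x} :=
    fun p => ⟨act p.1 p.2.1, p.1, p.2.1, p.2.2, rfl⟩
  have hfib : ∀ x : {x : X // ∃ g, ∃ d ∈ D, act g d = x},
      Nat.card {p : G × D // φ p = x} = Nat.card H := by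
    intro x
    obtain ⟨g₀, d₀, hd₀, hx⟩ := x.2
    apply Nat.card_congr
    symm
    refine Equiv.ofBijective (fun h : H => (⟨(g₀ * h.1, ⟨act h.1⁻¹ d₀,
      hi _ (H.inv_mem h.2) _ hd₀⟩), ?_⟩ : {p : G × D // φ p = x})) ?_
    · apply Subtype.ext
      show act (g₀ * h.1) (act h.1⁻¹ d₀) = x.1
      rw [hm, ← hm h.1, mul_inv_cancel, h1, hx]
    · constructor
      · intro h h' e
        have e1 : g₀ * h.1 = g₀ * h'.1 := congrArg (fun p : {p : G × D // φ p = x} => p.1.1) e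
        exact Subtype.ext (mul_left_cancel e1)
      · rintro ⟨⟨g, d⟩, hp⟩
        have hp' : act g d.1 = x.1 := congrArg Subtype.val hp
        have hd₀' : d₀ = act (g₀⁻¹ * g) d.1 := by rw [hm, hp', ← hx, hinv]
        have hmem : g₀⁻¹ * g ∈ H := by
          apply hii _ d.1 d.2
          rw [← hd₀']; exact hd₀
        refine ⟨⟨g₀⁻¹ * g, hmem⟩, ?_⟩
        apply Subtype.ext
        apply Prod.ext
        · show g₀ * (g₀⁻¹ * g) = g
          rw [mul_inv_cancel_left]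
        · apply Subtype.ext
          show act (g₀⁻¹ * g)⁻¹ d₀ = d.1
          rw [hd₀', hinv]
  have h2 : Nat.card (G × D) = Nat.card {x : X // ∃ g, ∃ d ∈ D, act g d = x} * Nat.card H := by
    rw [Nat.card_congr (Equiv.sigmaFiberEquiv φ).symm, Nat.card_sigma]
    simp only [hfib]
    rw [Finset.sum_const, Finset.card_univ, smul_eq_mul]
    simp only [Nat.card_eq_fintype_card]
  rw [← h2, Nat.card_prod]

section blocks

variable {F : Type*} [Field F] {κ μ : Type*} [Fintype κ] [DecidableEq κ] [Fintype μ]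
  [DecidableEq μ]

/-- block diagonal embedding -/
def blockHom : GL κ F × GL μ F →* GL (κ ⊕ μ) F where
  toFun p := ⟨fromBlocks (p.1 : Matrix κ κ F) 0 0 (p.2 : Matrix μ μ F),
    fromBlocks ((p.1⁻¹ : GL κ F) : Matrix κ κ F) 0 0 ((p.2⁻¹ : GL μ F) : Matrix μ μ F),
    by rw [fromBlocks_multiply]; simp [fromBlocks_one],
    by rw [fromBlocks_multiply]; simp [fromBlocks_one]⟩
  map_one' := by
    apply Units.ext
    simp [fromBlocks_one]
  map_mul' := by
    intro p p'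
    apply Units.ext
    simp [fromBlocks_multiply]

lemma blockHom_val (p : GL κ F × GL μ F) :
    ((blockHom p : GL (κ ⊕ μ) F) : Matrix (κ ⊕ μ) (κ ⊕ μ) F) =
      fromBlocks (p.1 : Matrix κ κ F) 0 0 (p.2 : Matrix μ μ F) := rfl

lemma blockHom_inv_val (p : GL κ F × GL μ F) :
    (((blockHom p)⁻¹ : GL (κ ⊕ μ) F) : Matrix (κ ⊕ μ) (κ ⊕ μ) F) =
      fromBlocks ((p.1⁻¹ : GL κ F) : Matrix κ κ F) 0 0 ((p.2⁻¹ : GL μ F) : Matrix μ μ F) := rfl

lemma blockHom_injective : Function.Injective (blockHom : GL κ F × GL μ F →* GL (κ ⊕ μ) F) := by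
  intro p p' h
  have h' := congrArg (fun g : GL (κ ⊕ μ) F => (g : Matrix (κ ⊕ μ) (κ ⊕ μ) F)) h
  simp only [blockHom_val, fromBlocks_inj] at h'
  exact Prod.ext (Units.ext h'.1) (Units.ext h'.2.2.2)

variable (κ μ F) in
/-- block diagonal matrices with a nilpotent and an invertible block -/
def Dset : Set (Matrix (κ ⊕ μ) (κ ⊕ μ) F) :=
  {M | ∃ (N : Matrix κ κ F) (B : Matrix μ μ F), IsNilpotent N ∧ IsUnit B ∧ M = fromBlocks N 0 0 B}

/-- conjugation action -/
def cact {ι : Type*} [Fintype ι] [DecidableEq ι] (g : GL ι F) (M : Matrix ι ι F) : Matrix ι ι F :=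
  (g : Matrix ι ι F) * M * ((g⁻¹ : GL ι F) : Matrix ι ι F)

lemma cact_one {ι : Type*} [Fintype ι] [DecidableEq ι] (M : Matrix ι ι F) :
    cact (1 : GL ι F) M = M := by
  simp [cact]

lemma cact_mul {ι : Type*} [Fintype ι] [DecidableEq ι] (g h : GL ι F) (M : Matrix ι ι F) :
    cact (g * h) M = cact g (cact h M) := by
  simp only [cact, _root_.mul_inv_rev, Units.val_mul]
  simp only [mul_assoc]

lemma card_Dset [Finite F] :
    Nat.card (Dset F κ μ) = Nat.card {N : Matrix κ κ F // IsNilpotent N} * Nat.card (GL μ F) := by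
  rw [← Nat.card_prod]
  apply Nat.card_congr
  symm
  refine Equiv.ofBijective (fun p : {N : Matrix κ κ F // IsNilpotent N} × GL μ F =>
    (⟨fromBlocks p.1.1 0 0 (p.2 : Matrix μ μ F), p.1.1, _, p.1.2, p.2.isUnit, rfl⟩ : Dset F κ μ)) ?_
  constructor
  · intro p p' h
    have h' := congrArg Subtype.val h
    simp only [fromBlocks_inj] at h'
    exact Prod.ext (Subtype.ext h'.1) (Units.ext h'.2.2.2)
  · rintro ⟨M, N, B, hN, hB, rfl⟩
    obtain ⟨u, rfl⟩ := hB
    exact ⟨(⟨N, hN⟩, u), rfl⟩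

lemma cact_blockHom_mem (p : GL κ F × GL μ F) (M : Matrix (κ ⊕ μ) (κ ⊕ μ) F)
    (hM : M ∈ Dset F κ μ) : cact (blockHom p) M ∈ Dset F κ μ := by
  obtain ⟨N, B, hN, hB, rfl⟩ := hM
  refine ⟨(p.1 : Matrix κ κ F) * N * ((p.1⁻¹ : GL κ F) : Matrix κ κ F),
    (p.2 : Matrix μ μ F) * B * ((p.2⁻¹ : GL μ F) : Matrix μ μ F), ?_, ?_, ?_⟩
  · obtain ⟨j, hj⟩ := hN
    refine ⟨j, ?_⟩
    rw [Units.conj_pow, hj, mul_zero, zero_mul]
  · exact (p.2.isUnit.mul hB).mul (p.2⁻¹).isUnit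
  · unfold cact
    rw [blockHom_val, blockHom_inv_val, fromBlocks_multiply, fromBlocks_multiply]
    simp

/-- the intertwiner lemma -/
lemma mem_range_of_cact_mem (g : GL (κ ⊕ μ) F) (M : Matrix (κ ⊕ μ) (κ ⊕ μ) F)
    (hM : M ∈ Dset F κ μ) (hgM : cact g M ∈ Dset F κ μ) :
    g ∈ (blockHom : GL κ F × GL μ F →* GL (κ ⊕ μ) F).range := by
  obtain ⟨N₀, B₀, hN₀, hB₀, rfl⟩ := hM
  obtain ⟨N₁, B₁, hN₁, hB₁, h⟩ := hgM
  -- g D₀ = D₁ g
  have h2 : (g : Matrix (κ ⊕ μ) (κ ⊕ μ) F) * fromBlocks N₀ 0 0 B₀ =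
      fromBlocks N₁ 0 0 B₁ * (g : Matrix (κ ⊕ μ) (κ ⊕ μ) F) := by
    rw [← h]
    unfold cact
    rw [mul_assoc, ← Units.val_mul, inv_mul_cancel, Units.val_one, mul_one]
  obtain ⟨a, b, c, d, hg⟩ : ∃ a b c d, (g : Matrix (κ ⊕ μ) (κ ⊕ μ) F) = fromBlocks a b c d :=
    ⟨_, _, _, _, (fromBlocks_toBlocks _).symm⟩
  rw [hg, fromBlocks_multiply, fromBlocks_multiply] at h2
  simp only [Matrix.mul_zero, Matrix.zero_mul, add_zero, zero_add, fromBlocks_inj] at h2
  obtain ⟨-, hb, hc, -⟩ := h2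
  -- b = 0
  have hb0 : b = 0 := by
    have hbj : ∀ j : ℕ, b * B₀ ^ j = N₁ ^ j * b := by
      intro j
      induction j with
      | zero => simp
      | succ j ih =>
        rw [pow_succ, ← Matrix.mul_assoc, ih, Matrix.mul_assoc, hb, ← Matrix.mul_assoc, ← pow_succ]
    obtain ⟨j, hj⟩ := hN₁
    have h3 := hbj j
    rw [hj, Matrix.zero_mul] at h3
    obtain ⟨u, hu⟩ := hB₀.pow j
    rw [← hu] at h3
    have : b * (u : Matrix μ μ F) * ((u⁻¹ : (Matrix μ μ F)ˣ) : Matrix μ μ F) = 0 := by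
      rw [h3, Matrix.zero_mul]
    rwa [Matrix.mul_assoc, Units.mul_inv, Matrix.mul_one] at this
  have hc0 : c = 0 := by
    have hcj : ∀ j : ℕ, c * N₀ ^ j = B₁ ^ j * c := by
      intro j
      induction j with
      | zero => simp
      | succ j ih =>
        rw [pow_succ, ← Matrix.mul_assoc, ih, Matrix.mul_assoc, hc, ← Matrix.mul_assoc, ← pow_succ]
    obtain ⟨j, hj⟩ := hN₀
    have h3 := hcj j
    rw [hj, Matrix.mul_zero] at h3
    obtain ⟨u, hu⟩ := hB₁.pow j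
    rw [← hu] at h3
    have : ((u⁻¹ : (Matrix μ μ F)ˣ) : Matrix μ μ F) * ((u : Matrix μ μ F) * c) = 0 := by
      rw [← h3, Matrix.mul_zero]
    rwa [← Matrix.mul_assoc, Units.inv_mul, Matrix.one_mul] at this
  subst hb0 hc0
  -- a, d invertible
  have hdet : (fromBlocks a 0 0 d).det = a.det * d.det := det_fromBlocks_zero₂₁ a 0 d
  have hgu : IsUnit (fromBlocks a (0 : Matrix κ μ F) (0 : Matrix μ κ F) d).det := by
    rw [← hg]
    exact (Matrix.isUnit_iff_isUnit_det _).1 g.isUnit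
  rw [hdet] at hgu
  have ha : IsUnit a := (Matrix.isUnit_iff_isUnit_det _).2 (isUnit_of_mul_isUnit_left hgu)
  have hd : IsUnit d := (Matrix.isUnit_iff_isUnit_det _).2 (isUnit_of_mul_isUnit_right hgu)
  obtain ⟨ua, rfl⟩ := ha
  obtain ⟨ud, rfl⟩ := hd
  exact ⟨(ua, ud), Units.ext (by rw [blockHom_val, hg])⟩

variable (κ μ F) in
/-- the set of matrices conjugate into `Dset` -/
def Sset : Set (Matrix (κ ⊕ μ) (κ ⊕ μ) F) :=
  {A | ∃ g : GL (κ ⊕ μ) F, ∃ d ∈ Dset F κ μ, cact g d = A}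

/-- **Core count.** -/
theorem card_Sset [Finite F] :
    Nat.card (Sset F κ μ) * (Nat.card (GL κ F) * Nat.card (GL μ F)) =
      Nat.card (GL (κ ⊕ μ) F) *
        (Nat.card {N : Matrix κ κ F // IsNilpotent N} * Nat.card (GL μ F)) := by
  have h := card_orbit_set (G := GL (κ ⊕ μ) F) (X := Matrix (κ ⊕ μ) (κ ⊕ μ) F) cact cact_one
    cact_mul (Dset F κ μ) (blockHom : GL κ F × GL μ F →* GL (κ ⊕ μ) F).range
    (by
      rintro h ⟨p, rfl⟩ d hd
      exact cact_blockHom_mem p d hd)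
    (fun g d hd hgd => mem_range_of_cact_mem g d hd hgd)
  rw [card_Dset] at h
  have h3 : Nat.card (blockHom : GL κ F × GL μ F →* GL (κ ⊕ μ) F).range =
      Nat.card (GL κ F) * Nat.card (GL μ F) := by
    rw [← Nat.card_prod]
    exact Nat.card_congr (MonoidHom.ofInjective blockHom_injective).toEquiv.symm
  rw [h3] at h
  exact h

end blocks

end Cfsg.Agent.Lib.Helper4.UnipCount
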