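import Mathlib
import Cfsg.Prelude.Def_ClassicalGeometry
import Cfsg.Agent.Lib.Helper2.SpUDefs
import Cfsg.Agent.Lib.Helper4.SpUG3
import Cfsg.Agent.Lib.Helper4.UnipCount1

set_option autoImplicit false
set_option linter.style.haveILetI false

namespace Cfsg.Agent.Lib.Helper4.SpUG2c

open Matrix Cfsg.Agent.Lib.Helper2.SpU Cfsg.Agent.Lib.Helper4.SpUG3

variable {F : Type*} [Field F]

/-- the statement of G1a -/
def G1a (F : Type*) [Field F] : Prop :=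
  ∀ {m : ℕ} (A C : Mat F m), C * A = A * C →
    Aᵀ * Matrix.J (Fin m) F = Matrix.J (Fin m) F * C * A → ∃ k : ℕ, k ≤ m ∧ nd A = 2 * k

/-- the statement of G1b -/
def G1b (F : Type*) [Field F] : Prop :=
  ∀ (k l : ℕ) (A C : Mat F (k + l)), C * A = A * C →
    Aᵀ * Matrix.J (Fin (k + l)) F = Matrix.J (Fin (k + l)) F * C * A → nd A = 2 * k →
    ∃ (x : Sp F (k + l)) (N : Mat F k) (R : Mat F l), IsNilpotent N ∧ IsUnit R ∧
      A = cj x (bd k l N R)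

/-- G2a -/
theorem even_nd (fitSp_even : G1a F) (D : FitData F) (m : ℕ) (A : Mat F m) (hA : A ∈ D.X m) :
    ∃ k : ℕ, k ≤ m ∧ nd (D.φ m A) = 2 * k := by
  obtain ⟨C, hC, hadj⟩ := D.adj m A hA
  exact fitSp_even (D.φ m A) C hC hadj

/-- block diagonal embedding of `Sp_2k × Sp_2l` in `Sp_2(k+l)` -/
def bdHom (k l : ℕ) : Sp F k × Sp F l →* Sp F (k + l) where
  toFun p := ⟨bd k l p.1.1 p.2.1, (bd_mem_iff k l p.1.1 p.2.1).mpr ⟨p.1.2, p.2.2⟩⟩
  map_one' := by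
    apply Subtype.ext
    exact bd_one k l
  map_mul' p q := by
    apply Subtype.ext
    exact bd_mul k l p.1.1 q.1.1 p.2.1 q.2.1

theorem bdHom_val (k l : ℕ) (p : Sp F k × Sp F l) :
    ((bdHom k l p : Sp F (k + l)) : Mat F (k + l)) = bd k l p.1.1 p.2.1 := rfl

theorem bdHom_injective (k l : ℕ) : Function.Injective (bdHom (F := F) k l) := by
  intro p q h
  have h1 : bd k l p.1.1 p.2.1 = bd k l q.1.1 q.2.1 := congrArg Subtype.val h
  obtain ⟨ha, hb⟩ := bd_injective k l _ _ _ _ h1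
  exact Prod.ext (Subtype.ext ha) (Subtype.ext hb)

theorem mem_range_bdHom (k l : ℕ) (x : Sp F (k + l)) (P : Mat F k) (S : Mat F l)
    (h : (x : Mat F (k + l)) = bd k l P S) : x ∈ (bdHom (F := F) k l).range := by
  have hx := x.2
  rw [h, bd_mem_iff] at hx
  exact ⟨(⟨P, hx.1⟩, ⟨S, hx.2⟩), Subtype.ext h.symm⟩

theorem cj_bdHom (k l : ℕ) (p : Sp F k × Sp F l) (M₁ : Mat F k) (M₂ : Mat F l) :
    cj (bdHom k l p) (bd k l M₁ M₂) = bd k l (cj p.1 M₁) (cj p.2 M₂) := by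
  unfold cj
  rw [← map_inv, bdHom_val, bdHom_val, ← bd_mul, ← bd_mul]
  rfl

/-- the set of block diagonal matrices with nilpotent / unit `φ`-parts -/
def Dd (D : FitData F) (k l : ℕ) : Set (Mat F (k + l)) :=
  {M | ∃ (M₁ : Mat F k) (M₂ : Mat F l), M₁ ∈ D.X k ∧ IsNilpotent (D.φ k M₁) ∧ M₂ ∈ D.X l ∧
    IsUnit (D.φ l M₂) ∧ M = bd k l M₁ M₂}

theorem card_Dd [Finite F] (D : FitData F) (k l : ℕ) :
    Nat.card (Dd D k l) = Nat.card {A : Mat F k // A ∈ D.X k ∧ IsNilpotent (D.φ k A)} *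
      Nat.card {A : Mat F l // A ∈ D.X l ∧ IsUnit (D.φ l A)} := by
  rw [← Nat.card_prod]
  apply Nat.card_congr
  symm
  refine Equiv.ofBijective (fun p : {A : Mat F k // A ∈ D.X k ∧ IsNilpotent (D.φ k A)} ×
      {A : Mat F l // A ∈ D.X l ∧ IsUnit (D.φ l A)} =>
    (⟨bd k l p.1.1 p.2.1, p.1.1, p.2.1, p.1.2.1, p.1.2.2, p.2.2.1, p.2.2.2, rfl⟩ : Dd D k l)) ?_
  constructor
  · intro p p' h
    have h' : bd k l p.1.1 p.2.1 = bd k l p'.1.1 p'.2.1 := congrArg Subtype.val h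
    obtain ⟨ha, hb⟩ := bd_injective k l _ _ _ _ h'
    exact Prod.ext (Subtype.ext ha) (Subtype.ext hb)
  · rintro ⟨M, M₁, M₂, h1, h2, h3, h4, rfl⟩
    exact ⟨(⟨M₁, h1, h2⟩, ⟨M₂, h3, h4⟩), rfl⟩

theorem orbit_iff (fitSp_block : G1b F) (D : FitData F) (k l : ℕ) (A : Mat F (k + l)) :
    (∃ g : Sp F (k + l), ∃ d ∈ Dd D k l, cj g d = A) ↔
      A ∈ D.X (k + l) ∧ nd (D.φ (k + l) A) = 2 * k := by
  constructor
  · rintro ⟨g, d, ⟨M₁, M₂, h1, h2, h3, h4, rfl⟩, rfl⟩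
    refine ⟨D.conj_mem _ g _ ((D.block_mem k l M₁ M₂).mpr ⟨h1, h3⟩), ?_⟩
    rw [D.φ_conj, nd_cj, D.φ_block, nd_bd k l _ _ h2 h4]
  · rintro ⟨hA, hnd⟩
    obtain ⟨C, hC, hadj⟩ := D.adj _ A hA
    obtain ⟨x, N, R, hN, hR, hφ⟩ := fitSp_block k l (D.φ (k + l) A) C hC hadj hnd
    set A' := cj x⁻¹ A with hA'
    have hA'X : A' ∈ D.X (k + l) := D.conj_mem _ _ _ hA
    have hφA' : D.φ (k + l) A' = bd k l N R := by
      rw [hA', D.φ_conj, hφ, cj_inv_cj]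
    have hcomm := D.comm _ A' hA'X
    rw [hφA'] at hcomm
    obtain ⟨P, S, hPS⟩ := block_of_intertwine k l A' N N R R hN hN hR hR hcomm
    have hmem := hA'X
    rw [hPS, D.block_mem] at hmem
    have hφPS : bd k l (D.φ k P) (D.φ l S) = bd k l N R := by
      rw [← D.φ_block, ← hPS, hφA']
    obtain ⟨e1, e2⟩ := bd_injective k l _ _ _ _ hφPS
    refine ⟨x, A', ⟨P, S, hmem.1, by rw [e1]; exact hN, hmem.2, by rw [e2]; exact hR, hPS⟩, ?_⟩
    rw [hA', cj_cj_inv]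

/-- G2b: the generic count. -/
theorem card_fit [Fintype F] (fitSp_block : G1b F) (D : FitData F) (k l : ℕ) :
    Nat.card {A : Mat F (k + l) // A ∈ D.X (k + l) ∧ nd (D.φ (k + l) A) = 2 * k} *
        (Nat.card (Sp F k) * Nat.card (Sp F l)) =
      Nat.card (Sp F (k + l)) *
        (Nat.card {A : Mat F k // A ∈ D.X k ∧ IsNilpotent (D.φ k A)} *
          Nat.card {A : Mat F l // A ∈ D.X l ∧ IsUnit (D.φ l A)}) := by
  have h := Cfsg.Agent.Lib.Helper4.UnipCount.card_orbit_set (G := Sp F (k + l))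
    (X := Mat F (k + l)) cj cj_one_left cj_mul_left (Dd D k l) (bdHom (F := F) k l).range
    (by
      rintro h ⟨p, rfl⟩ d ⟨M₁, M₂, h1, h2, h3, h4, rfl⟩
      rw [cj_bdHom]
      refine ⟨_, _, D.conj_mem _ _ _ h1, ?_, D.conj_mem _ _ _ h3, ?_, rfl⟩
      · rw [D.φ_conj, isNilpotent_cj_iff]; exact h2
      · rw [D.φ_conj, isUnit_cj_iff]; exact h4)
    (by
      rintro g d ⟨M₁, M₂, h1, h2, h3, h4, rfl⟩ ⟨M₁', M₂', h1', h2', h3', h4', hgd⟩
      have e := congrArg (D.φ (k + l)) hgd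
      rw [D.φ_conj, D.φ_block, D.φ_block] at e
      have e2 : (g : Mat F (k + l)) * bd k l (D.φ k M₁) (D.φ l M₂) =
          bd k l (D.φ k M₁') (D.φ l M₂') * (g : Mat F (k + l)) := by
        rw [← e]
        unfold cj
        rw [Matrix.mul_assoc, coe_inv_mul, Matrix.mul_one]
      obtain ⟨P, S, hPS⟩ := block_of_intertwine k l _ _ _ _ _ h2 h2' h4 h4' e2
      exact mem_range_bdHom k l g P S hPS)
  rw [card_Dd] at h
  have h3 : Nat.card (bdHom (F := F) k l).range = Nat.card (Sp F k) * Nat.card (Sp F l) := by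
    rw [← Nat.card_prod]
    exact Nat.card_congr (MonoidHom.ofInjective (bdHom_injective k l)).toEquiv.symm
  rw [h3] at h
  rw [← h]
  congr 1
  exact Nat.card_congr (Equiv.subtypeEquivRight (fun A => (orbit_iff fitSp_block D k l A).symm))

end Cfsg.Agent.Lib.Helper4.SpUG2c
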