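import Mathlib
import Cfsg.Prelude.Def_ClassicalGeometry
import Cfsg.Agent.Lib.Helper2.SpUDefs
import Cfsg.Agent.Lib.Helper4.SpUG2c
import Cfsg.Agent.Lib.Helper5.SpUG1

set_option autoImplicit false

namespace Cfsg.Agent.Lib.Helper4.SpUG2

open Matrix Cfsg.Agent.Lib.Helper2.SpU

variable {F : Type*} [Field F]

/-- G2a -/
theorem even_nd (D : FitData F) (m : ℕ) (A : Mat F m) (hA : A ∈ D.X m) :
    ∃ k : ℕ, k ≤ m ∧ nd (D.φ m A) = 2 * k :=
  Cfsg.Agent.Lib.Helper4.SpUG2c.even_nd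
    (fun A C hC hadj => Cfsg.Agent.Lib.Helper5.SpUG1.fitSp_even A C hC hadj) D m A hA

/-- G2b: the generic count. -/
theorem card_fit [Fintype F] (D : FitData F) (k l : ℕ) :
    Nat.card {A : Mat F (k + l) // A ∈ D.X (k + l) ∧ nd (D.φ (k + l) A) = 2 * k} *
        (Nat.card (Sp F k) * Nat.card (Sp F l)) =
      Nat.card (Sp F (k + l)) *
        (Nat.card {A : Mat F k // A ∈ D.X k ∧ IsNilpotent (D.φ k A)} *
          Nat.card {A : Mat F l // A ∈ D.X l ∧ IsUnit (D.φ l A)}) :=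
  Cfsg.Agent.Lib.Helper4.SpUG2c.card_fit
    (fun k l A C hC hadj hnd => Cfsg.Agent.Lib.Helper5.SpUG1.fitSp_block k l A C hC hadj hnd) D k l

end Cfsg.Agent.Lib.Helper4.SpUG2
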