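import Mathlib

set_option autoImplicit false

/-!
# `p`-power order versus unipotent for matrices in characteristic `p`
-/

namespace Cfsg.Agent.Lib.Helper4.SpUnip5

open Polynomial

variable {F : Type*} [Field F] {ι : Type*} [Fintype ι] [DecidableEq ι]

theorem sub_one_pow_char_pow (p : ℕ) [Fact p.Prime] [CharP F p] (A : Matrix ι ι F)
    (k : ℕ) : (A - 1) ^ p ^ k = A ^ p ^ k - 1 := by
  have h : ((X : F[X]) - 1) ^ p ^ k = X ^ p ^ k - 1 := by
    rw [sub_pow_char_pow, one_pow]
  have := congrArg (aeval A) h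
  simpa using this

/-- a square matrix over a field of characteristic `p` has `p`-power order iff `A - 1` is
nilpotent -/
theorem matrix_ppow_iff (p : ℕ) [Fact p.Prime] [CharP F p] (A : Matrix ι ι F) :
    (∃ k : ℕ, orderOf A = p ^ k) ↔ IsNilpotent (A - 1) := by
  constructor
  · rintro ⟨k, hk⟩
    refine ⟨p ^ k, ?_⟩
    rw [sub_one_pow_char_pow p, ← hk, pow_orderOf_eq_one, sub_self]
  · rintro ⟨m, hm⟩
    have hp : p.Prime := Fact.out
    have hlt : m < p ^ m := Nat.lt_pow_self hp.one_lt
    have h1 : (A - 1) ^ (p ^ m) = 0 := by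
      rw [← Nat.sub_add_cancel hlt.le, pow_add, hm, mul_zero]
    rw [sub_one_pow_char_pow p, sub_eq_zero] at h1
    obtain ⟨j, -, hj⟩ := (Nat.dvd_prime_pow hp).1 (orderOf_dvd_of_pow_eq_one h1)
    exact ⟨j, hj⟩

/-- the same for the elements of a submonoid of matrices which is a group (e.g. the symplectic
group) -/
theorem submonoid_ppow_iff (p : ℕ) [Fact p.Prime] [CharP F p] (S : Submonoid (Matrix ι ι F))
    (g : S) : (∃ k : ℕ, orderOf g = p ^ k) ↔ IsNilpotent ((g : Matrix ι ι F) - 1) := by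
  rw [← matrix_ppow_iff p]
  have : orderOf (g : Matrix ι ι F) = orderOf g :=
    orderOf_injective S.subtype Subtype.coe_injective g
  rw [this]

/-- (5): in the symplectic group, `p`-power order iff `g - 1` nilpotent -/
theorem sp_ppow_iff (p : ℕ) [Fact p.Prime] [CharP F p] {l : Type*} [Fintype l] [DecidableEq l]
    (g : Matrix.symplecticGroup l F) :
    (∃ k : ℕ, orderOf g = p ^ k) ↔ IsNilpotent ((g : Matrix (l ⊕ l) (l ⊕ l) F) - 1) :=
  submonoid_ppow_iff p (Matrix.symplecticGroup l F) g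

/-- counting form -/
theorem card_sp_ppow (p : ℕ) [Fact p.Prime] [CharP F p] {l : Type*} [Fintype l] [DecidableEq l] :
    Nat.card {g : Matrix.symplecticGroup l F // ∃ k : ℕ, orderOf g = p ^ k} =
      Nat.card {g : Matrix.symplecticGroup l F //
        IsNilpotent ((g : Matrix (l ⊕ l) (l ⊕ l) F) - 1)} :=
  Nat.card_congr (Equiv.subtypeEquivRight (fun g => sp_ppow_iff p g))

end Cfsg.Agent.Lib.Helper4.SpUnip5
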