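import Mathlib
import Cfsg.Prelude.Def_Sporadic
import Cfsg.Prelude.Def_Classical

set_option autoImplicit false
open Cfsg

namespace Cfsg.Agent.Lib.Helper4.SporadicP3

open Nat

theorem aux (N : ℕ) (l : List ℕ) (hl : Nat.primeFactorsList N = l) (p : ℕ) (hodd : p ≠ 2)
    (h3 : N.factorization p = 3)
    (hcheck : ∀ q ∈ l, q ≠ 2 → l.count q = 3 → q ^ 3 < 2 ^ (l.count 2)) :
    p ^ 3 < 2 ^ (N.factorization 2) := by
  rw [← Nat.primeFactorsList_count_eq, hl] at h3 ⊢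
  have hmem : p ∈ l := by
    rw [← List.count_pos_iff]
    omega
  exact hcheck p hmem hodd h3

set_option maxRecDepth 100000 in
theorem spor0 (p : ℕ) (hodd : p ≠ 2) (h3 : (7920 : ℕ).factorization p = 3) :
    p ^ 3 < 2 ^ ((7920 : ℕ).factorization 2) := by
  have hl : Nat.primeFactorsList 7920 = [2, 2, 2, 2, 3, 3, 5, 11] := by
    simp only [Nat.primeFactorsList_ofNat]
  refine aux _ _ hl p hodd h3 ?_
  decide

set_option maxRecDepth 100000 in
theorem spor1 (p : ℕ) (hodd : p ≠ 2) (h3 : (95040 : ℕ).factorization p = 3) :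
    p ^ 3 < 2 ^ ((95040 : ℕ).factorization 2) := by
  have hl : Nat.primeFactorsList 95040 = [2, 2, 2, 2, 2, 2, 3, 3, 3, 5, 11] := by
    simp only [Nat.primeFactorsList_ofNat]
  refine aux _ _ hl p hodd h3 ?_
  decide

set_option maxRecDepth 100000 in
theorem spor2 (p : ℕ) (hodd : p ≠ 2) (h3 : (443520 : ℕ).factorization p = 3) :
    p ^ 3 < 2 ^ ((443520 : ℕ).factorization 2) := by
  have hl : Nat.primeFactorsList 443520 = [2, 2, 2, 2, 2, 2, 2, 3, 3, 5, 7, 11] := by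
    simp only [Nat.primeFactorsList_ofNat]
  refine aux _ _ hl p hodd h3 ?_
  decide

set_option maxRecDepth 100000 in
theorem spor3 (p : ℕ) (hodd : p ≠ 2) (h3 : (10200960 : ℕ).factorization p = 3) :
    p ^ 3 < 2 ^ ((10200960 : ℕ).factorization 2) := by
  have hl : Nat.primeFactorsList 10200960 = [2, 2, 2, 2, 2, 2, 2, 3, 3, 5, 7, 11, 23] := by
    simp only [Nat.primeFactorsList_ofNat]
  refine aux _ _ hl p hodd h3 ?_
  decide

set_option maxRecDepth 100000 in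
theorem spor4 (p : ℕ) (hodd : p ≠ 2) (h3 : (244823040 : ℕ).factorization p = 3) :
    p ^ 3 < 2 ^ ((244823040 : ℕ).factorization 2) := by
  have hl : Nat.primeFactorsList 244823040 = [2, 2, 2, 2, 2, 2, 2, 2, 2, 2, 3, 3, 3, 5, 7, 11, 23] := by
    simp only [Nat.primeFactorsList_ofNat]
  refine aux _ _ hl p hodd h3 ?_
  decide

set_option maxRecDepth 100000 in
theorem spor5 (p : ℕ) (hodd : p ≠ 2) (h3 : (175560 : ℕ).factorization p = 3) :
    p ^ 3 < 2 ^ ((175560 : ℕ).factorization 2) := by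
  have hl : Nat.primeFactorsList 175560 = [2, 2, 2, 3, 5, 7, 11, 19] := by
    simp only [Nat.primeFactorsList_ofNat]
  refine aux _ _ hl p hodd h3 ?_
  decide

set_option maxRecDepth 100000 in
theorem spor6 (p : ℕ) (hodd : p ≠ 2) (h3 : (604800 : ℕ).factorization p = 3) :
    p ^ 3 < 2 ^ ((604800 : ℕ).factorization 2) := by
  have hl : Nat.primeFactorsList 604800 = [2, 2, 2, 2, 2, 2, 2, 3, 3, 3, 5, 5, 7] := by
    simp only [Nat.primeFactorsList_ofNat]
  refine aux _ _ hl p hodd h3 ?_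
  decide

set_option maxRecDepth 100000 in
theorem spor7 (p : ℕ) (hodd : p ≠ 2) (h3 : (50232960 : ℕ).factorization p = 3) :
    p ^ 3 < 2 ^ ((50232960 : ℕ).factorization 2) := by
  have hl : Nat.primeFactorsList 50232960 = [2, 2, 2, 2, 2, 2, 2, 3, 3, 3, 3, 3, 5, 17, 19] := by
    simp only [Nat.primeFactorsList_ofNat]
  refine aux _ _ hl p hodd h3 ?_
  decide

set_option maxRecDepth 100000 in
theorem spor8 (p : ℕ) (hodd : p ≠ 2) (h3 : (86775571046077562880 : ℕ).factorization p = 3) :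
    p ^ 3 < 2 ^ ((86775571046077562880 : ℕ).factorization 2) := by
  have hl : Nat.primeFactorsList 86775571046077562880 = [2, 2, 2, 2, 2, 2, 2, 2, 2, 2, 2, 2, 2, 2, 2, 2, 2, 2, 2, 2, 2, 3, 3, 3, 5, 7, 11, 11, 11, 23, 29, 31, 37, 43] := by
    simp only [Nat.primeFactorsList_ofNat]
  refine aux _ _ hl p hodd h3 ?_
  decide

set_option maxRecDepth 100000 in
theorem spor9 (p : ℕ) (hodd : p ≠ 2) (h3 : (4157776806543360000 : ℕ).factorization p = 3) :
    p ^ 3 < 2 ^ ((4157776806543360000 : ℕ).factorization 2) := by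
  have hl : Nat.primeFactorsList 4157776806543360000 = [2, 2, 2, 2, 2, 2, 2, 2, 2, 2, 2, 2, 2, 2, 2, 2, 2, 2, 2, 2, 2, 3, 3, 3, 3, 3, 3, 3, 3, 3, 5, 5, 5, 5, 7, 7, 11, 13, 23] := by
    simp only [Nat.primeFactorsList_ofNat]
  refine aux _ _ hl p hodd h3 ?_
  decide

set_option maxRecDepth 100000 in
theorem spor10 (p : ℕ) (hodd : p ≠ 2) (h3 : (42305421312000 : ℕ).factorization p = 3) :
    p ^ 3 < 2 ^ ((42305421312000 : ℕ).factorization 2) := by
  have hl : Nat.primeFactorsList 42305421312000 = [2, 2, 2, 2, 2, 2, 2, 2, 2, 2, 2, 2, 2, 2, 2, 2, 2, 2, 3, 3, 3, 3, 3, 3, 5, 5, 5, 7, 11, 23] := by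
    simp only [Nat.primeFactorsList_ofNat]
  refine aux _ _ hl p hodd h3 ?_
  decide

set_option maxRecDepth 100000 in
theorem spor11 (p : ℕ) (hodd : p ≠ 2) (h3 : (495766656000 : ℕ).factorization p = 3) :
    p ^ 3 < 2 ^ ((495766656000 : ℕ).factorization 2) := by
  have hl : Nat.primeFactorsList 495766656000 = [2, 2, 2, 2, 2, 2, 2, 2, 2, 2, 3, 3, 3, 3, 3, 3, 3, 5, 5, 5, 7, 11, 23] := by
    simp only [Nat.primeFactorsList_ofNat]
  refine aux _ _ hl p hodd h3 ?_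
  decide

set_option maxRecDepth 100000 in
theorem spor12 (p : ℕ) (hodd : p ≠ 2) (h3 : (64561751654400 : ℕ).factorization p = 3) :
    p ^ 3 < 2 ^ ((64561751654400 : ℕ).factorization 2) := by
  have hl : Nat.primeFactorsList 64561751654400 = [2, 2, 2, 2, 2, 2, 2, 2, 2, 2, 2, 2, 2, 2, 2, 2, 2, 3, 3, 3, 3, 3, 3, 3, 3, 3, 5, 5, 7, 11, 13] := by
    simp only [Nat.primeFactorsList_ofNat]
  refine aux _ _ hl p hodd h3 ?_
  decide

set_option maxRecDepth 100000 in
theorem spor13 (p : ℕ) (hodd : p ≠ 2) (h3 : (4089470473293004800 : ℕ).factorization p = 3) :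
    p ^ 3 < 2 ^ ((4089470473293004800 : ℕ).factorization 2) := by
  have hl : Nat.primeFactorsList 4089470473293004800 = [2, 2, 2, 2, 2, 2, 2, 2, 2, 2, 2, 2, 2, 2, 2, 2, 2, 2, 3, 3, 3, 3, 3, 3, 3, 3, 3, 3, 3, 3, 3, 5, 5, 7, 11, 13, 17, 23] := by
    simp only [Nat.primeFactorsList_ofNat]
  refine aux _ _ hl p hodd h3 ?_
  decide

set_option maxRecDepth 100000 in
theorem spor14 (p : ℕ) (hodd : p ≠ 2) (h3 : (1255205709190661721292800 : ℕ).factorization p = 3) :
    p ^ 3 < 2 ^ ((1255205709190661721292800 : ℕ).factorization 2) := by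
  have hl : Nat.primeFactorsList 1255205709190661721292800 = [2, 2, 2, 2, 2, 2, 2, 2, 2, 2, 2, 2, 2, 2, 2, 2, 2, 2, 2, 2, 2, 3, 3, 3, 3, 3, 3, 3, 3, 3, 3, 3, 3, 3, 3, 3, 3, 5, 5, 7, 7, 7, 11, 13, 17, 23, 29] := by
    simp only [Nat.primeFactorsList_ofNat]
  refine aux _ _ hl p hodd h3 ?_
  decide

set_option maxRecDepth 100000 in
theorem spor15 (p : ℕ) (hodd : p ≠ 2) (h3 : (44352000 : ℕ).factorization p = 3) :
    p ^ 3 < 2 ^ ((44352000 : ℕ).factorization 2) := by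
  have hl : Nat.primeFactorsList 44352000 = [2, 2, 2, 2, 2, 2, 2, 2, 2, 3, 3, 5, 5, 5, 7, 11] := by
    simp only [Nat.primeFactorsList_ofNat]
  refine aux _ _ hl p hodd h3 ?_
  decide

set_option maxRecDepth 100000 in
theorem spor16 (p : ℕ) (hodd : p ≠ 2) (h3 : (898128000 : ℕ).factorization p = 3) :
    p ^ 3 < 2 ^ ((898128000 : ℕ).factorization 2) := by
  have hl : Nat.primeFactorsList 898128000 = [2, 2, 2, 2, 2, 2, 2, 3, 3, 3, 3, 3, 3, 5, 5, 5, 7, 11] := by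
    simp only [Nat.primeFactorsList_ofNat]
  refine aux _ _ hl p hodd h3 ?_
  decide

set_option maxRecDepth 100000 in
theorem spor17 (p : ℕ) (hodd : p ≠ 2) (h3 : (4030387200 : ℕ).factorization p = 3) :
    p ^ 3 < 2 ^ ((4030387200 : ℕ).factorization 2) := by
  have hl : Nat.primeFactorsList 4030387200 = [2, 2, 2, 2, 2, 2, 2, 2, 2, 2, 3, 3, 3, 5, 5, 7, 7, 7, 17] := by
    simp only [Nat.primeFactorsList_ofNat]
  refine aux _ _ hl p hodd h3 ?_
  decide

set_option maxRecDepth 100000 in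
theorem spor18 (p : ℕ) (hodd : p ≠ 2) (h3 : (145926144000 : ℕ).factorization p = 3) :
    p ^ 3 < 2 ^ ((145926144000 : ℕ).factorization 2) := by
  have hl : Nat.primeFactorsList 145926144000 = [2, 2, 2, 2, 2, 2, 2, 2, 2, 2, 2, 2, 2, 2, 3, 3, 3, 5, 5, 5, 7, 13, 29] := by
    simp only [Nat.primeFactorsList_ofNat]
  refine aux _ _ hl p hodd h3 ?_
  decide

set_option maxRecDepth 100000 in
theorem spor19 (p : ℕ) (hodd : p ≠ 2) (h3 : (448345497600 : ℕ).factorization p = 3) :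
    p ^ 3 < 2 ^ ((448345497600 : ℕ).factorization 2) := by
  have hl : Nat.primeFactorsList 448345497600 = [2, 2, 2, 2, 2, 2, 2, 2, 2, 2, 2, 2, 2, 3, 3, 3, 3, 3, 3, 3, 5, 5, 7, 11, 13] := by
    simp only [Nat.primeFactorsList_ofNat]
  refine aux _ _ hl p hodd h3 ?_
  decide

set_option maxRecDepth 100000 in
theorem spor20 (p : ℕ) (hodd : p ≠ 2) (h3 : (460815505920 : ℕ).factorization p = 3) :
    p ^ 3 < 2 ^ ((460815505920 : ℕ).factorization 2) := by
  have hl : Nat.primeFactorsList 460815505920 = [2, 2, 2, 2, 2, 2, 2, 2, 2, 3, 3, 3, 3, 5, 7, 7, 7, 11, 19, 31] := by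
    simp only [Nat.primeFactorsList_ofNat]
  refine aux _ _ hl p hodd h3 ?_
  decide

set_option maxRecDepth 100000 in
theorem spor21 (p : ℕ) (hodd : p ≠ 2) (h3 : (273030912000000 : ℕ).factorization p = 3) :
    p ^ 3 < 2 ^ ((273030912000000 : ℕ).factorization 2) := by
  have hl : Nat.primeFactorsList 273030912000000 = [2, 2, 2, 2, 2, 2, 2, 2, 2, 2, 2, 2, 2, 2, 3, 3, 3, 3, 3, 3, 5, 5, 5, 5, 5, 5, 7, 11, 19] := by
    simp only [Nat.primeFactorsList_ofNat]
  refine aux _ _ hl p hodd h3 ?_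
  decide

set_option maxRecDepth 100000 in
theorem spor22 (p : ℕ) (hodd : p ≠ 2) (h3 : (51765179004000000 : ℕ).factorization p = 3) :
    p ^ 3 < 2 ^ ((51765179004000000 : ℕ).factorization 2) := by
  have hl : Nat.primeFactorsList 51765179004000000 = [2, 2, 2, 2, 2, 2, 2, 2, 3, 3, 3, 3, 3, 3, 3, 5, 5, 5, 5, 5, 5, 7, 11, 31, 37, 67] := by
    simp only [Nat.primeFactorsList_ofNat]
  refine aux _ _ hl p hodd h3 ?_
  decide

set_option maxRecDepth 100000 in
theorem spor23 (p : ℕ) (hodd : p ≠ 2) (h3 : (90745943887872000 : ℕ).factorization p = 3) :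
    p ^ 3 < 2 ^ ((90745943887872000 : ℕ).factorization 2) := by
  have hl : Nat.primeFactorsList 90745943887872000 = [2, 2, 2, 2, 2, 2, 2, 2, 2, 2, 2, 2, 2, 2, 2, 3, 3, 3, 3, 3, 3, 3, 3, 3, 3, 5, 5, 5, 7, 7, 13, 19, 31] := by
    simp only [Nat.primeFactorsList_ofNat]
  refine aux _ _ hl p hodd h3 ?_
  decide

set_option maxRecDepth 100000 in
theorem spor24 (p : ℕ) (hodd : p ≠ 2) (h3 : (4154781481226426191177580544000000 : ℕ).factorization p = 3) :
    p ^ 3 < 2 ^ ((4154781481226426191177580544000000 : ℕ).factorization 2) := by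
  have hl : Nat.primeFactorsList 4154781481226426191177580544000000 = [2, 2, 2, 2, 2, 2, 2, 2, 2, 2, 2, 2, 2, 2, 2, 2, 2, 2, 2, 2, 2, 2, 2, 2, 2, 2, 2, 2, 2, 2, 2, 2, 2, 2, 2, 2, 2, 2, 2, 2, 2, 3, 3, 3, 3, 3, 3, 3, 3, 3, 3, 3, 3, 3, 5, 5, 5, 5, 5, 5, 7, 7, 11, 13, 17, 19, 23, 31, 47] := by
    simp only [Nat.primeFactorsList_ofNat]
  refine aux _ _ hl p hodd h3 ?_
  decide

set_option maxRecDepth 100000 in
theorem spor25 (p : ℕ) (hodd : p ≠ 2) (h3 : (808017424794512875886459904961710757005754368000000000 : ℕ).factorization p = 3) :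
    p ^ 3 < 2 ^ ((808017424794512875886459904961710757005754368000000000 : ℕ).factorization 2) := by
  have hl : Nat.primeFactorsList 808017424794512875886459904961710757005754368000000000 = [2, 2, 2, 2, 2, 2, 2, 2, 2, 2, 2, 2, 2, 2, 2, 2, 2, 2, 2, 2, 2, 2, 2, 2, 2, 2, 2, 2, 2, 2, 2, 2, 2, 2, 2, 2, 2, 2, 2, 2, 2, 2, 2, 2, 2, 2, 3, 3, 3, 3, 3, 3, 3, 3, 3, 3, 3, 3, 3, 3, 3, 3, 3, 3, 3, 3, 5, 5, 5, 5, 5, 5, 5, 5, 5, 7, 7, 7, 7, 7, 7, 11, 11, 13, 13, 13, 17, 19, 23, 29, 31, 41, 47, 59, 71] := by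
    simp only [Nat.primeFactorsList_ofNat]
  refine aux _ _ hl p hodd h3 ?_
  decide

theorem sporadic {G : Type*} [Group G] (hG : Cfsg.IsSporadic G)
    (p : ℕ) (hodd : p ≠ 2) (h3 : (Nat.card G).factorization p = 3) :
    p ^ 3 < 2 ^ (Nat.card G).factorization 2 := by
  unfold Cfsg.IsSporadic at hG
  rcases hG with h | h | h | h | h | h | h | h | h | h | h | h | h | h | h | h | h | h | h | h | h | h | h | h | h | h
  · obtain ⟨-, hc⟩ := h
    rw [hc] at h3 ⊢
    exact spor0 p hodd h3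
  · obtain ⟨-, hc⟩ := h
    rw [hc] at h3 ⊢
    exact spor1 p hodd h3
  · obtain ⟨-, hc⟩ := h
    rw [hc] at h3 ⊢
    exact spor2 p hodd h3
  · obtain ⟨-, hc⟩ := h
    rw [hc] at h3 ⊢
    exact spor3 p hodd h3
  · obtain ⟨-, hc⟩ := h
    rw [hc] at h3 ⊢
    exact spor4 p hodd h3
  · obtain ⟨-, hc⟩ := h
    rw [hc] at h3 ⊢
    exact spor5 p hodd h3
  · obtain ⟨-, hc⟩ := h
    rw [hc] at h3 ⊢
    exact spor6 p hodd h3
  · obtain ⟨-, hc⟩ := h
    rw [hc] at h3 ⊢
    exact spor7 p hodd h3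
  · obtain ⟨-, hc⟩ := h
    rw [hc] at h3 ⊢
    exact spor8 p hodd h3
  · obtain ⟨-, hc⟩ := h
    rw [hc] at h3 ⊢
    exact spor9 p hodd h3
  · obtain ⟨-, hc⟩ := h
    rw [hc] at h3 ⊢
    exact spor10 p hodd h3
  · obtain ⟨-, hc⟩ := h
    rw [hc] at h3 ⊢
    exact spor11 p hodd h3
  · obtain ⟨-, hc⟩ := h
    rw [hc] at h3 ⊢
    exact spor12 p hodd h3
  · obtain ⟨-, hc⟩ := h
    rw [hc] at h3 ⊢
    exact spor13 p hodd h3
  · obtain ⟨-, hc⟩ := h
    rw [hc] at h3 ⊢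
    exact spor14 p hodd h3
  · obtain ⟨-, hc⟩ := h
    rw [hc] at h3 ⊢
    exact spor15 p hodd h3
  · obtain ⟨-, hc⟩ := h
    rw [hc] at h3 ⊢
    exact spor16 p hodd h3
  · obtain ⟨-, hc⟩ := h
    rw [hc] at h3 ⊢
    exact spor17 p hodd h3
  · obtain ⟨-, hc⟩ := h
    rw [hc] at h3 ⊢
    exact spor18 p hodd h3
  · obtain ⟨-, hc⟩ := h
    rw [hc] at h3 ⊢
    exact spor19 p hodd h3
  · obtain ⟨-, hc⟩ := h
    rw [hc] at h3 ⊢
    exact spor20 p hodd h3
  · obtain ⟨-, hc⟩ := h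
    rw [hc] at h3 ⊢
    exact spor21 p hodd h3
  · obtain ⟨-, hc⟩ := h
    rw [hc] at h3 ⊢
    exact spor22 p hodd h3
  · obtain ⟨-, hc⟩ := h
    rw [hc] at h3 ⊢
    exact spor23 p hodd h3
  · obtain ⟨-, hc⟩ := h
    rw [hc] at h3 ⊢
    exact spor24 p hodd h3
  · obtain ⟨-, hc⟩ := h
    rw [hc] at h3 ⊢
    exact spor25 p hodd h3

theorem pow_lt (p : ℕ) (hp : 3 ≤ p) : p ^ 3 < 2 ^ (2 * p - 1) := by
  induction p, hp using Nat.le_induction with
  | base => norm_num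
  | succ k hk ih =>
    have e : 2 * (k + 1) - 1 = (2 * k - 1) + 2 := by omega
    rw [e, pow_add]
    have h1 : (k + 1) ^ 3 ≤ 4 * k ^ 3 := by
      have : 3 * k ^ 2 + 3 * k + 1 ≤ 3 * k ^ 3 := by nlinarith [hk, Nat.pow_le_pow_left hk 2]
      nlinarith
    nlinarith

theorem alternating {G : Type*} [Group G] (hG : Cfsg.IsAlternating G)
    (p : ℕ) (hp : p.Prime) (hodd : p ≠ 2) (h3 : (Nat.card G).factorization p = 3) :
    p ^ 3 < 2 ^ (Nat.card G).factorization 2 := by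
  obtain ⟨n, hn, ⟨e⟩⟩ := hG
  have hcard : 2 * Nat.card G = n ! := by
    rw [Nat.card_congr e.toEquiv, Nat.card_eq_fintype_card]
    haveI : Nontrivial (Fin n) := Fin.nontrivial_iff_two_le.2 (by omega)
    rw [two_mul_card_alternatingGroup, Fintype.card_perm, Fintype.card_fin]
  have hM0 : Nat.card G ≠ 0 := by
    intro h
    rw [h, mul_zero] at hcard
    exact (Nat.factorial_ne_zero n) hcard.symm
  have hp3 : 3 ≤ p := by
    have := hp.two_le
    omega
  have hfp : (n !).factorization p = 3 := by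
    rw [← hcard, Nat.factorization_mul (by norm_num) hM0, Finsupp.add_apply, h3]
    have : (2 : ℕ).factorization p = 0 := by
      rw [Nat.prime_two.factorization]
      simp [hodd.symm]
    rw [this]
  have hf2 : (n !).factorization 2 = 1 + (Nat.card G).factorization 2 := by
    rw [← hcard, Nat.factorization_mul (by norm_num) hM0, Finsupp.add_apply]
    rw [Nat.prime_two.factorization]
    simp
  have hn3p : 3 * p ≤ n := by
    by_contra hlt
    push Not at hlt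
    have hlog : Nat.log p n < 2 := by
      apply Nat.log_lt_of_lt_pow (by omega)
      nlinarith
    rw [Nat.factorization_factorial hp hlog] at hfp
    simp at hfp
    have : n / p < 3 := by
      apply Nat.div_lt_of_lt_mul
      linarith
    omega
  have hlog2 : Nat.log 2 n < Nat.log 2 n + 1 := Nat.lt_succ_self _
  have h2log : 2 ≤ Nat.log 2 n := by
    apply Nat.le_log_of_pow_le (by norm_num)
    omega
  have hv2 : n / 2 + n / 4 ≤ (n !).factorization 2 := by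
    rw [Nat.factorization_factorial Nat.prime_two hlog2]
    have hsub : ({1, 2} : Finset ℕ) ⊆ Finset.Ico 1 (Nat.log 2 n + 1) := by
      intro x hx
      simp only [Finset.mem_insert, Finset.mem_singleton] at hx
      rw [Finset.mem_Ico]
      omega
    calc n / 2 + n / 4 = ∑ i ∈ ({1, 2} : Finset ℕ), n / 2 ^ i := by
          rw [Finset.sum_pair (by norm_num)]
          norm_num
      _ ≤ ∑ i ∈ Finset.Ico 1 (Nat.log 2 n + 1), n / 2 ^ i :=
          Finset.sum_le_sum_of_subset hsub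
  have hk : 2 * p - 1 ≤ (Nat.card G).factorization 2 := by omega
  calc p ^ 3 < 2 ^ (2 * p - 1) := pow_lt p hp3
    _ ≤ 2 ^ (Nat.card G).factorization 2 := Nat.pow_le_pow_right (by norm_num) hk

end Cfsg.Agent.Lib.Helper4.SporadicP3
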