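import Mathlib
import Cfsg.Agent.Lib.Helper3.ConjCover
import Cfsg.Agent.Lib.Helper4.SqfG

/-!
# S4130, piece PA

If no class size is divisible by `p ^ 2` and a Sylow `p`-subgroup is not elementary abelian,
then it contains a nontrivial central element of `G`.
-/

namespace Cfsg.Agent.Lib.Helper4.SqF

open scoped commutatorElement

/-- In a finite `p`-group a subgroup of index dividing `p` contains all commutators and all
`p`-th powers. -/
theorem frat_mem {Q : Type*} [Group Q] [Finite Q] {p : ℕ} [Fact p.Prime] (hQ : IsPGroup p Q)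
    (H : Subgroup Q) (hH : H.index ∣ p) :
    (∀ a b : Q, a * b * a⁻¹ * b⁻¹ ∈ H) ∧ (∀ a : Q, a ^ p ∈ H) := by
  have hp : p.Prime := Fact.out
  rcases (Nat.dvd_prime hp).1 hH with h1 | h1
  · rw [Subgroup.index_eq_one.1 h1]
    exact ⟨fun _ _ => Subgroup.mem_top _, fun _ => Subgroup.mem_top _⟩
  · obtain ⟨n, hn⟩ := IsPGroup.iff_card.1 hQ
    have hn0 : n ≠ 0 := by
      rintro rfl
      rw [pow_zero] at hn
      have := H.index_dvd_card
      rw [hn, h1] at this
      exact hp.one_lt.ne' (Nat.dvd_one.1 this)
    have hmf : (Nat.card Q).minFac = p := by rw [hn]; exact hp.pow_minFac hn0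
    have hnorm : H.Normal := Subgroup.normal_of_index_eq_minFac_card (by rw [h1, hmf])
    have hcq : Nat.card (Q ⧸ H) = p := by rw [← Subgroup.index_eq_card, h1]
    have : IsCyclic (Q ⧸ H) := isCyclic_of_prime_card hcq
    constructor
    · intro a b
      have hc : commutator Q ≤ H :=
        Subgroup.Normal.quotient_commutative_iff_commutator_le.1 inferInstance
      have := hc (comm_mem_commutator a b)
      rwa [commutatorElement_def] at this
    · intro a
      rw [← QuotientGroup.eq_one_iff, QuotientGroup.mk_pow, ← hcq]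
      exact pow_card_eq_one'

theorem exists_central_of_not_elemAb {G : Type*} [Group G] [Finite G] {p : ℕ} [Fact p.Prime]
    (P : Sylow p G) (h : ∀ x : G, ¬ p ^ 2 ∣ (Subgroup.centralizer ({x} : Set G)).index)
    (hP : ¬ ((∀ a ∈ (P : Subgroup G), ∀ b ∈ (P : Subgroup G), a * b = b * a) ∧
      ∀ a ∈ (P : Subgroup G), a ^ p = 1)) :
    ∃ z ∈ (P : Subgroup G), z ≠ 1 ∧ z ∈ Subgroup.center G := by
  have hp : p.Prime := Fact.out
  have hz : ∃ z : (P : Subgroup G), z ≠ 1 ∧
      ∀ H : Subgroup (P : Subgroup G), H.index ∣ p → z ∈ H := by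
    by_cases hab : ∀ a ∈ (P : Subgroup G), ∀ b ∈ (P : Subgroup G), a * b = b * a
    · have hex : ¬ ∀ a ∈ (P : Subgroup G), a ^ p = 1 := fun h' => hP ⟨hab, h'⟩
      push Not at hex
      obtain ⟨a, ha, hap⟩ := hex
      refine ⟨(⟨a, ha⟩ : (P : Subgroup G)) ^ p, ?_,
        fun H hH => (frat_mem P.isPGroup' H hH).2 _⟩
      intro h1
      apply hap
      have := congrArg Subtype.val h1
      simpa using this
    · push Not at hab
      obtain ⟨a, ha, b, hb, hne⟩ := hab
      refine ⟨(⟨a, ha⟩ : (P : Subgroup G)) * ⟨b, hb⟩ * (⟨a, ha⟩ : (P : Subgroup G))⁻¹ *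
        (⟨b, hb⟩ : (P : Subgroup G))⁻¹, ?_, fun H hH => (frat_mem P.isPGroup' H hH).1 _ _⟩
      intro h1
      apply hne
      have h2 : a * b * a⁻¹ * b⁻¹ = 1 := by
        have := congrArg Subtype.val h1
        simpa using this
      calc a * b = (a * b * a⁻¹ * b⁻¹) * (b * a) := by group
        _ = b * a := by rw [h2, one_mul]
  obtain ⟨z, hz1, hzH⟩ := hz
  refine ⟨(z : G), z.2, fun h1 => hz1 (Subtype.ext h1), ?_⟩
  have hcov : ∀ y : G, ∃ c : G, c⁻¹ * y * c ∈ Subgroup.centralizer ({(z : G)} : Set G) := by
    intro y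
    obtain ⟨T⟩ : Nonempty (Sylow p (Subgroup.centralizer ({y} : Set G))) := inferInstance
    have hT'p : IsPGroup p ((T : Subgroup (Subgroup.centralizer ({y} : Set G))).map
        (Subgroup.centralizer ({y} : Set G)).subtype) :=
      T.isPGroup'.map (Subgroup.centralizer ({y} : Set G)).subtype
    obtain ⟨Q, hQ⟩ := hT'p.exists_le_sylow
    obtain ⟨g, hg⟩ := MulAction.exists_smul_eq G P Q
    have hHP : ((T : Subgroup (Subgroup.centralizer ({y} : Set G))).map
        (Subgroup.centralizer ({y} : Set G)).subtype).map (MulAut.conj g⁻¹).toMonoidHom ≤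
        (P : Subgroup G) := by
      rintro _ ⟨t, ht, rfl⟩
      have h1 : t ∈ (Q : Subgroup G) := hQ ht
      rw [← hg, Sylow.coe_subgroup_smul, Subgroup.mem_pointwise_smul_iff_inv_smul_mem] at h1
      simpa [MulAut.smul_def] using h1
    have hcardH : Nat.card (((T : Subgroup (Subgroup.centralizer ({y} : Set G))).map
        (Subgroup.centralizer ({y} : Set G)).subtype).map (MulAut.conj g⁻¹).toMonoidHom) =
        Nat.card T := by
      rw [Subgroup.card_map_of_injective (MulAut.conj g⁻¹).injective, Subgroup.card_subtype]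
    have hidx : ((((T : Subgroup (Subgroup.centralizer ({y} : Set G))).map
        (Subgroup.centralizer ({y} : Set G)).subtype).map
        (MulAut.conj g⁻¹).toMonoidHom).subgroupOf (P : Subgroup G)).index ∣ p := by
      have hcH' : Nat.card ((((T : Subgroup (Subgroup.centralizer ({y} : Set G))).map
          (Subgroup.centralizer ({y} : Set G)).subtype).map
          (MulAut.conj g⁻¹).toMonoidHom).subgroupOf (P : Subgroup G)) = Nat.card T := by
        rw [← hcardH]; exact Nat.card_congr (Subgroup.subgroupOfEquivOfLe hHP).toEquiv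
      have hmul := ((((T : Subgroup (Subgroup.centralizer ({y} : Set G))).map
          (Subgroup.centralizer ({y} : Set G)).subtype).map
          (MulAut.conj g⁻¹).toMonoidHom).subgroupOf (P : Subgroup G)).card_mul_index
      have hTc := T.card_eq_multiplicity
      have hPc := P.card_eq_multiplicity
      rw [hcH', hTc, hPc] at hmul
      have hGC : Nat.card G = Nat.card (Subgroup.centralizer ({y} : Set G)) *
          (Subgroup.centralizer ({y} : Set G)).index :=
        (Subgroup.card_mul_index _).symm
      have hfact : (Nat.card G).factorization p =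
          (Nat.card (Subgroup.centralizer ({y} : Set G))).factorization p +
          ((Subgroup.centralizer ({y} : Set G)).index).factorization p := by
        rw [hGC, Nat.factorization_mul (Nat.card_pos.ne') (Subgroup.index_ne_zero_of_finite)]
        rfl
      have he : ((Subgroup.centralizer ({y} : Set G)).index).factorization p ≤ 1 := by
        by_contra hcon
        push Not at hcon
        apply h y
        exact (hp.pow_dvd_iff_le_factorization Subgroup.index_ne_zero_of_finite).2 hcon
      rw [hfact, pow_add] at hmul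
      have := Nat.eq_of_mul_eq_mul_left (pow_pos hp.pos _) hmul
      rw [this]
      calc p ^ ((Subgroup.centralizer ({y} : Set G)).index).factorization p ∣ p ^ 1 :=
            pow_dvd_pow p he
        _ = p := pow_one p
    have hzmem := hzH _ hidx
    rw [Subgroup.mem_subgroupOf] at hzmem
    obtain ⟨t, ht, htz⟩ := hzmem
    obtain ⟨c, -, rfl⟩ := ht
    have hcy := Subgroup.mem_centralizer_singleton_iff.1 c.2
    refine ⟨g, ?_⟩
    rw [Subgroup.mem_centralizer_singleton_iff, ← htz]
    simp only [MulEquiv.coe_toMonoidHom, MulAut.conj_apply, inv_inv, Subgroup.coe_subtype]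
    calc g⁻¹ * y * g * (g⁻¹ * (c : G) * g) = g⁻¹ * (y * (c : G)) * g := by group
      _ = g⁻¹ * ((c : G) * y) * g := by rw [hcy]
      _ = g⁻¹ * (c : G) * g * (g⁻¹ * y * g) := by group
  have htop := Cfsg.Agent.Lib.Helper3.eq_top_of_conj_cover _ hcov
  rw [Subgroup.mem_center_iff]
  intro g
  have : g ∈ Subgroup.centralizer ({(z : G)} : Set G) := by rw [htop]; exact Subgroup.mem_top _
  exact Subgroup.mem_centralizer_singleton_iff.1 this

end Cfsg.Agent.Lib.Helper4.SqF
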