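import Mathlib
import Cfsg.Agent.Lib.Helper6.StSLDefs

set_option autoImplicit false

/-!
Farm STSL (S2401), unit E, part 1: the Finset induction (`inj_sub_of`) and injectivity of `π` when
the generators generate (`injective_of_top_of`), with the units D1 (`inj_pair`) and D2 (`inj_step`)
as hypotheses.
-/

namespace Cfsg.Agent.Lib.Helper4.StSL

open Matrix Cfsg.Agent.Lib.Helper6.StSL

variable {I : Type*} [DecidableEq I] [Fintype I] {K : Type*} [Field K] {Γ : Type*} [Group Γ]
  (S : StA I K Γ)

/-- Finset induction from the rank one case and the induction step. -/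
theorem inj_sub_of
    (hpair : ∀ {i j : I}, i ≠ j → ∀ g ∈ S.sub {i, j}, S.π g = 1 → g = 1)
    (hstep : ∀ (J : Finset I) (a : I), a ∈ J → 3 ≤ J.card →
      (∀ g ∈ S.sub (J.erase a), S.π g = 1 → g = 1) → ∀ g ∈ S.sub J, S.π g = 1 → g = 1)
    (J : Finset I) (hJ : 2 ≤ J.card) : ∀ g ∈ S.sub J, S.π g = 1 → g = 1 := by
  induction hn : J.card using Nat.strong_induction_on generalizing J with
  | _ n ih =>
    rcases Nat.lt_or_ge J.card 3 with h | h
    · have h2 : J.card = 2 := by omega
      obtain ⟨i, j, hij, rfl⟩ := Finset.card_eq_two.1 h2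
      exact hpair hij
    · obtain ⟨a, ha⟩ : J.Nonempty := Finset.card_pos.1 (by omega)
      have hc : (J.erase a).card = J.card - 1 := Finset.card_erase_of_mem ha
      refine hstep J a ha h ?_
      exact ih (J.erase a).card (by omega) (J.erase a) (by omega) rfl

/-- If the generators generate `Γ` then `π` is injective. -/
theorem injective_of_top_of (h3 : 3 ≤ Fintype.card I)
    (hpair : ∀ {i j : I}, i ≠ j → ∀ g ∈ S.sub {i, j}, S.π g = 1 → g = 1)
    (hstep : ∀ (J : Finset I) (a : I), a ∈ J → 3 ≤ J.card →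
      (∀ g ∈ S.sub (J.erase a), S.π g = 1 → g = 1) → ∀ g ∈ S.sub J, S.π g = 1 → g = 1)
    (htop : S.sub Finset.univ = ⊤) : Function.Injective S.π := by
  rw [injective_iff_map_eq_one]
  intro g hg
  refine inj_sub_of S hpair hstep Finset.univ ?_ g ?_ hg
  · rw [Finset.card_univ]; omega
  · rw [htop]; exact Subgroup.mem_top g

end Cfsg.Agent.Lib.Helper4.StSL
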