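import Mathlib
import Cfsg.Agent.Lib.Helper6.StSLDefs
import Cfsg.Agent.Lib.Helper4.SLnGen
import Cfsg.Agent.Lib.Helper4.StSLE

set_option autoImplicit false

/-!
Farm STSL (S2401), unit E, part 2: the `StA` structure on the presented group of the statement,
generation, surjectivity of `π`, and the assembly `main_of` (units D1, D2 as hypotheses).
-/

namespace Cfsg.Agent.Lib.Helper4.StSL

open Matrix Cfsg.Agent.Lib.Helper6.StSL

/-- the relators of the statement S2401 (verbatim) -/
def rels (n : ℕ) (K : Type*) [Field K] :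
    Set (FreeGroup ({ij : Fin n × Fin n // ij.1 ≠ ij.2} × K)) :=
  {g : FreeGroup ({ij : Fin n × Fin n // ij.1 ≠ ij.2} × K) | ∃ (a : {ij : Fin n × Fin n // ij.1 ≠ ij.2}) (t u : K),
            g = FreeGroup.of (a, t) * FreeGroup.of (a, u) * (FreeGroup.of (a, t + u))⁻¹} ∪
          {g | ∃ (a b : {ij : Fin n × Fin n // ij.1 ≠ ij.2}) (t u : K), a.1.1 ≠ b.1.2 ∧ a.1.2 ≠ b.1.1 ∧
            g = FreeGroup.of (a, t) * FreeGroup.of (b, u) * (FreeGroup.of (a, t))⁻¹ * (FreeGroup.of (b, u))⁻¹} ∪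
          {g | ∃ (a b : {ij : Fin n × Fin n // ij.1 ≠ ij.2}) (h : a.1.1 ≠ b.1.2) (t u : K), a.1.2 = b.1.1 ∧
            g = FreeGroup.of (a, t) * FreeGroup.of (b, u) * (FreeGroup.of (a, t))⁻¹ * (FreeGroup.of (b, u))⁻¹ *
              (FreeGroup.of (⟨(a.1.1, b.1.2), h⟩, t * u))⁻¹}

variable {n : ℕ} {K : Type*} [Field K]

theorem h4_of_add (a : {ij : Fin n × Fin n // ij.1 ≠ ij.2}) (t u : K) :
    (PresentedGroup.of (a, t) : PresentedGroup (rels n K)) * PresentedGroup.of (a, u) =
      PresentedGroup.of (a, t + u) := by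
  have h := PresentedGroup.one_of_mem (rels := rels n K)
    (x := FreeGroup.of (a, t) * FreeGroup.of (a, u) * (FreeGroup.of (a, t + u))⁻¹)
    (Or.inl (Or.inl ⟨a, t, u, rfl⟩))
  simp only [map_mul, map_inv] at h
  exact mul_inv_eq_one.1 h

theorem h4_of_comm (a b : {ij : Fin n × Fin n // ij.1 ≠ ij.2}) (h1 : a.1.1 ≠ b.1.2)
    (h2 : a.1.2 ≠ b.1.1) (t u : K) :
    (PresentedGroup.of (a, t) : PresentedGroup (rels n K)) * PresentedGroup.of (b, u) =
      PresentedGroup.of (b, u) * PresentedGroup.of (a, t) := by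
  have h := PresentedGroup.one_of_mem (rels := rels n K)
    (x := FreeGroup.of (a, t) * FreeGroup.of (b, u) * (FreeGroup.of (a, t))⁻¹ *
      (FreeGroup.of (b, u))⁻¹)
    (Or.inl (Or.inr ⟨a, b, t, u, h1, h2, rfl⟩))
  simp only [map_mul, map_inv] at h
  have h' := mul_inv_eq_one.1 h
  exact mul_inv_eq_iff_eq_mul.1 h'

theorem h4_of_comm_eq (a b : {ij : Fin n × Fin n // ij.1 ≠ ij.2}) (h1 : a.1.1 ≠ b.1.2)
    (h2 : a.1.2 = b.1.1) (t u : K) :
    (PresentedGroup.of (a, t) : PresentedGroup (rels n K)) * PresentedGroup.of (b, u) *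
        (PresentedGroup.of (a, t))⁻¹ * (PresentedGroup.of (b, u))⁻¹ =
      PresentedGroup.of (⟨(a.1.1, b.1.2), h1⟩, t * u) := by
  have h := PresentedGroup.one_of_mem (rels := rels n K)
    (x := FreeGroup.of (a, t) * FreeGroup.of (b, u) * (FreeGroup.of (a, t))⁻¹ *
      (FreeGroup.of (b, u))⁻¹ * (FreeGroup.of (⟨(a.1.1, b.1.2), h1⟩, t * u))⁻¹)
    (Or.inr ⟨a, b, h1, t, u, h2, rfl⟩)
  simp only [map_mul, map_inv] at h
  exact mul_inv_eq_one.1 h

/-- the generators are mapped to the transvections -/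
noncomputable def h4_f (n : ℕ) (K : Type*) [Field K] :
    {ij : Fin n × Fin n // ij.1 ≠ ij.2} × K → Matrix.SpecialLinearGroup (Fin n) K :=
  fun p => Matrix.SpecialLinearGroup.transvection p.1.2 p.2

theorem h4_transvection_comm {i j k l : Fin n} (hij : i ≠ j) (hkl : k ≠ l) (hil : i ≠ l)
    (hjk : j ≠ k) (t u : K) :
    Matrix.SpecialLinearGroup.transvection hij t * Matrix.SpecialLinearGroup.transvection hkl u =
      Matrix.SpecialLinearGroup.transvection hkl u *
        Matrix.SpecialLinearGroup.transvection hij t := by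
  apply Subtype.ext
  simp only [Matrix.SpecialLinearGroup.coe_mul, Matrix.SpecialLinearGroup.transvection_coe,
    mul_add, add_mul, mul_one, one_mul, single_mul_single_of_ne _ _ _ _ hjk,
    single_mul_single_of_ne _ _ _ _ hil.symm]
  abel

theorem h4_f_rels : ∀ r ∈ rels n K, FreeGroup.lift (h4_f n K) r = 1 := by
  rintro r ((⟨a, t, u, rfl⟩ | ⟨a, b, t, u, h1, h2, rfl⟩) | ⟨a, b, h, t, u, h2, rfl⟩)
  · simp only [map_mul, map_inv, FreeGroup.lift_apply_of, h4_f]
    rw [mul_inv_eq_one]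
    apply Subtype.ext
    exact Matrix.transvection_mul_transvection_same _ _ a.2 t u
  · simp only [map_mul, map_inv, FreeGroup.lift_apply_of, h4_f]
    rw [h4_transvection_comm a.2 b.2 h1 h2]
    group
  · obtain ⟨⟨i, j⟩, hij⟩ := a
    obtain ⟨⟨j', l⟩, hjl⟩ := b
    simp only at h h2 hij hjl
    subst h2
    simp only [map_mul, map_inv, FreeGroup.lift_apply_of, h4_f]
    rw [mul_inv_eq_one]
    have := Cfsg.Agent.Lib.Helper4.commutator_transvection (F := K) h hij hjl t u
    rw [commutatorElement_def] at this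
    exact this

/-- the homomorphism to `SL_n(K)` -/
noncomputable def h4_π (n : ℕ) (K : Type*) [Field K] :
    PresentedGroup (rels n K) →* Matrix.SpecialLinearGroup (Fin n) K :=
  PresentedGroup.toGroup (f := h4_f n K) h4_f_rels

theorem h4_π_of (a : {ij : Fin n × Fin n // ij.1 ≠ ij.2}) (t : K) :
    h4_π n K (PresentedGroup.of (a, t)) = Matrix.SpecialLinearGroup.transvection a.2 t := by
  unfold h4_π
  rw [PresentedGroup.toGroup.of]
  rfl

/-- the generators `x i j t` of the presented group (`1` on the diagonal) -/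
noncomputable def h4_x (n : ℕ) (K : Type*) [Field K] (i j : Fin n) (t : K) :
    PresentedGroup (rels n K) :=
  if h : i ≠ j then PresentedGroup.of (⟨(i, j), h⟩, t) else 1

theorem h4_x_of {i j : Fin n} (h : i ≠ j) (t : K) :
    h4_x n K i j t = PresentedGroup.of (⟨(i, j), h⟩, t) := by
  unfold h4_x
  rw [dif_pos h]

/-- the presented group of the statement S2401 is a group with Steinberg generators of type A -/
noncomputable def stA (n : ℕ) (K : Type*) [Field K] : StA (Fin n) K (PresentedGroup (rels n K)) where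
  x := h4_x n K
  x_add := by
    intro i j hij t u
    rw [h4_x_of hij, h4_x_of hij, h4_x_of hij, h4_of_add]
  comm_ne := by
    intro i j k l hij hkl hil hjk t u
    rw [h4_x_of hij, h4_x_of hkl]
    exact h4_of_comm _ _ hil hjk t u
  comm_eq := by
    intro i j l hij hjl hil t u
    rw [h4_x_of hij, h4_x_of hjl, h4_x_of hil]
    exact h4_of_comm_eq ⟨(i, j), hij⟩ ⟨(j, l), hjl⟩ hil rfl t u
  π := h4_π n K
  π_x := by
    intro i j hij t
    rw [h4_x_of hij, h4_π_of]
    rfl

theorem stA_sub_univ (n : ℕ) (K : Type*) [Field K] : (stA n K).sub Finset.univ = ⊤ := by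
  rw [eq_top_iff, ← PresentedGroup.closure_range_of (rels n K)]
  apply Subgroup.closure_mono
  rintro g ⟨⟨a, t⟩, rfl⟩
  refine ⟨a.1.1, a.1.2, t, Finset.mem_univ _, Finset.mem_univ _, a.2, ?_⟩
  change _ = h4_x n K a.1.1 a.1.2 t
  rw [h4_x_of a.2]

theorem stA_π_surjective (n : ℕ) (hn : 3 ≤ n) (K : Type*) [Field K] :
    Function.Surjective (stA n K).π := by
  have : Nontrivial (Fin n) := Fin.nontrivial_iff_two_le.mpr (by omega)
  intro A
  have : A ∈ (stA n K).π.range := by
    refine Cfsg.Agent.Lib.Helper4.transvection_induction_gen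
      (P := fun A => A ∈ (stA n K).π.range) ?_ ?_ A
    · intro i j h c
      exact ⟨PresentedGroup.of (⟨(i, j), h⟩, c), h4_π_of _ c⟩
    · intro A B hA hB
      exact mul_mem hA hB
  exact this

/-- Assembly of S2401 from the units D1 (`inj_pair`) and D2 (`inj_step`) for the structure
`stA n K`. -/
theorem main_of (n : ℕ) (hn : 3 ≤ n) (K : Type*) [Field K]
    (hpair : ∀ {i j : Fin n}, i ≠ j → ∀ g ∈ (stA n K).sub {i, j}, (stA n K).π g = 1 → g = 1)
    (hstep : ∀ (J : Finset (Fin n)) (a : Fin n), a ∈ J → 3 ≤ J.card →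
      (∀ g ∈ (stA n K).sub (J.erase a), (stA n K).π g = 1 → g = 1) →
      ∀ g ∈ (stA n K).sub J, (stA n K).π g = 1 → g = 1) :
    ∃ e : PresentedGroup (rels n K) ≃* Matrix.SpecialLinearGroup (Fin n) K,
      ∀ (a : {ij : Fin n × Fin n // ij.1 ≠ ij.2}) (t : K),
        ((e (PresentedGroup.of (a, t)) : Matrix (Fin n) (Fin n) K)) =
          Matrix.transvection a.1.1 a.1.2 t := by
  have h3 : 3 ≤ Fintype.card (Fin n) := by rw [Fintype.card_fin]; exact hn
  have hinj : Function.Injective (stA n K).π :=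
    injective_of_top_of (stA n K) h3 hpair hstep (stA_sub_univ n K)
  have hbij : Function.Bijective (stA n K).π := ⟨hinj, stA_π_surjective n hn K⟩
  refine ⟨MulEquiv.ofBijective (stA n K).π hbij, ?_⟩
  intro a t
  have h1 : (MulEquiv.ofBijective (stA n K).π hbij) (PresentedGroup.of (a, t)) =
      h4_π n K (PresentedGroup.of (a, t)) := rfl
  rw [h1, h4_π_of]
  rfl

end Cfsg.Agent.Lib.Helper4.StSL
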