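import Mathlib
import Cfsg.Agent.Lib.Helper5.StPres.RankOneSym

set_option autoImplicit false

/-!
Farm STSL (S2401), unit H2, part a: the rank one identity
`x(t) y(u) = y(u/d) h(d) x(t/d)`, `d = 1 + t u ≠ 0`, in helper5's `SL2Like` groups in which `h` is
multiplicative.
-/

namespace Cfsg.Agent.Lib.Helper4.StSL

open Cfsg.Agent.Lib.Helper5.StPres

variable {K : Type*} [Field K] {Γ : Type*} [Group Γ] (S : SL2Like K Γ)

theorem h4_sl2_y_eq (u : K) (_hu : u ≠ 0) : S.y u = S.x u⁻¹ * S.n (-u⁻¹) * S.x u⁻¹ := by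
  have h1 : S.n (-u⁻¹) = S.x (-u⁻¹) * S.y u * S.x (-u⁻¹) := by
    unfold SL2Like.n
    rw [inv_neg, inv_inv, neg_neg]
  rw [h1, S.x_neg]
  group

theorem h4_sl2_x_eq (a : K) : S.x a = S.n a * S.x (-a) * S.y a⁻¹ := by
  have h1 : S.n a = S.x a * S.y (-a⁻¹) * S.x a := rfl
  rw [h1, S.x_neg, show S.y a⁻¹ = (S.y (-a⁻¹))⁻¹ by rw [← S.y_neg, neg_neg]]
  group

theorem h4_sl2_n_mul_n (a s : K) : S.n a * S.n s = S.h a * (S.h (-s))⁻¹ := by
  have h1 : S.h a = S.n a * S.n (-1) := rfl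
  have h2 : S.h (-s) = S.n (-s) * S.n (-1) := rfl
  rw [h1, h2, mul_inv_rev, S.n_inv, S.n_inv, neg_neg, neg_neg]
  have h3 : S.n (-1) * S.n 1 = 1 := by
    have := S.n_mul_neg (-1)
    rwa [neg_neg] at this
  rw [mul_assoc, ← mul_assoc (S.n (-1)), h3, one_mul]

theorem h4_sl2_x_mul_y
    (hmul : ∀ t u : K, t ≠ 0 → u ≠ 0 → S.h t * S.h u = S.h (t * u))
    (t u : K) (hd : 1 + t * u ≠ 0) :
    S.x t * S.y u = S.y (u / (1 + t * u)) * S.h (1 + t * u) * S.x (t / (1 + t * u)) := by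
  by_cases hu : u = 0
  · subst hu
    simp only [mul_zero, add_zero, div_one, S.y_zero, S.h_one, mul_one, one_mul]
  · set d : K := 1 + t * u with hd_def
    have ha : t + u⁻¹ ≠ 0 := by
      intro h
      apply hd
      have : (t + u⁻¹) * u = d := by rw [hd_def]; field_simp; ring
      rw [← this, h, zero_mul]
    have hau : (t + u⁻¹) * u = d := by rw [hd_def]; field_simp; ring
    have hs : -u⁻¹ ≠ 0 := neg_ne_zero.2 (inv_ne_zero hu)
    have hhu : (S.h u⁻¹)⁻¹ = S.h u := by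
      rw [inv_eq_iff_mul_eq_one, hmul _ _ (inv_ne_zero hu) hu, inv_mul_cancel₀ hu, S.h_one]
    calc S.x t * S.y u = S.x t * (S.x u⁻¹ * S.n (-u⁻¹) * S.x u⁻¹) := by rw [← h4_sl2_y_eq S u hu]
      _ = S.x (t + u⁻¹) * S.n (-u⁻¹) * S.x u⁻¹ := by
          rw [← S.x_add]; group
      _ = S.n (t + u⁻¹) * S.x (-(t + u⁻¹)) * S.y (t + u⁻¹)⁻¹ * S.n (-u⁻¹) * S.x u⁻¹ := by
          rw [← h4_sl2_x_eq S (t + u⁻¹)]
      _ = S.n (t + u⁻¹) * (S.x (-(t + u⁻¹)) * S.n (-u⁻¹)) *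
            S.x (-(-u⁻¹ * -u⁻¹) * (t + u⁻¹)⁻¹) * S.x u⁻¹ := by
          rw [mul_assoc (S.n (t + u⁻¹) * S.x (-(t + u⁻¹))), S.y_n _ _ hs]
          group
      _ = S.n (t + u⁻¹) * S.n (-u⁻¹) * S.y (-((-u⁻¹)⁻¹ * (-u⁻¹)⁻¹) * (-(t + u⁻¹))) *
            (S.x (-(-u⁻¹ * -u⁻¹) * (t + u⁻¹)⁻¹) * S.x u⁻¹) := by
          rw [S.x_n _ _ hs]
          group
      _ = S.h d * S.y (u * d) * S.x (t / d) := by
          rw [h4_sl2_n_mul_n, neg_neg, hhu, hmul _ _ ha hu, hau, S.x_add]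
          congr 2
          · congr 1
            rw [← hau]; field_simp
          · have hd' : 1 + t * u ≠ 0 := by rw [← hd_def]; exact hd
            have hd'' : 1 + u * t ≠ 0 := by rw [mul_comm u t]; exact hd'
            have h1 : t + u⁻¹ = (1 + t * u) / u := by field_simp; ring
            rw [h1, hd_def, inv_div]
            field_simp
            ring
      _ = S.y (u / d) * S.h d * S.x (t / d) := by
          rw [S.h_y _ _ hd]
          congr 3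
          field_simp

end Cfsg.Agent.Lib.Helper4.StSL
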