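import Mathlib
import Cfsg.Agent.Lib.Helper6.StSLDefs
import Cfsg.Agent.Lib.Helper5.StPres.RankOneSym
import Cfsg.Agent.Lib.Helper4.StSLH2a
import Cfsg.Agent.Lib.Helper2.StSLW
import Cfsg.Agent.Lib.Helper1.StSLH1

set_option autoImplicit false

/-!
Farm STSL (S2401), unit H2: over a finite field the torus elements `h i j t` are multiplicative
(helper5's `SL2Like` on the subgroup generated by the `x`), they commute, `h j i t = (h i j t)⁻¹`,
`h i k t = h i j t * h j k t`, and the rank one identity `x_mul_opp`.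
-/

namespace Cfsg.Agent.Lib.Helper4.StSL

open Matrix Cfsg.Agent.Lib.Helper6.StSL Cfsg.Agent.Lib.Helper5.StPres
open Cfsg.Agent.Lib.Helper2.StSL Cfsg.Agent.Lib.Helper1.StSL

variable {I : Type*} [DecidableEq I] [Fintype I] {K : Type*} [Field K] {Γ : Type*} [Group Γ]
  (S : StA I K Γ)

omit [Fintype I] in
theorem h4_chi_mul (i j : I) (t u : K) (k : I) : chi i j (t * u) k = chi i j t k * chi i j u k := by
  unfold chi
  split_ifs
  · rfl
  · rw [mul_inv]
  · rw [one_mul]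

omit [Fintype I] in
theorem h4_chi_ne_zero (i j : I) {t : K} (ht : t ≠ 0) (k : I) : chi i j t k ≠ 0 := by
  unfold chi
  split_ifs <;> simp [ht]

/-- an element commuting with all generators commutes with the subgroup they generate -/
theorem h4_comm_of_mem_sub (z : Γ)
    (hz : ∀ k l : I, k ≠ l → ∀ v : K, z * S.x k l v = S.x k l v * z) :
    ∀ g ∈ S.sub Finset.univ, g * z = z * g := by
  have hle : S.sub Finset.univ ≤ Subgroup.centralizer {z} := by
    unfold StA.sub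
    rw [Subgroup.closure_le]
    rintro g ⟨k, l, v, -, -, hkl, rfl⟩
    rw [SetLike.mem_coe, Subgroup.mem_centralizer_iff]
    intro y hy
    rw [Set.mem_singleton_iff] at hy
    subst hy
    exact hz k l hkl v
  intro g hg
  have := Subgroup.mem_centralizer_iff.1 (hle hg) z (Set.mem_singleton z)
  exact this.symm

theorem h4_h_mul_x (h3 : 3 ≤ Fintype.card I) {i j : I} (hij : i ≠ j) {t : K} (ht : t ≠ 0)
    {k l : I} (hkl : k ≠ l) (v : K) :
    S.h i j t * S.x k l v = S.x k l (chi i j t k * (chi i j t l)⁻¹ * v) * S.h i j t := by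
  rw [← h_conj S h3 hij ht hkl v]
  group

theorem h4_hinv_mul_x (h3 : 3 ≤ Fintype.card I) {i j : I} (hij : i ≠ j) {t : K} (ht : t ≠ 0)
    {k l : I} (hkl : k ≠ l) (v : K) :
    (S.h i j t)⁻¹ * S.x k l v =
      S.x k l ((chi i j t k * (chi i j t l)⁻¹)⁻¹ * v) * (S.h i j t)⁻¹ := by
  have hc : chi i j t k * (chi i j t l)⁻¹ ≠ 0 :=
    mul_ne_zero (h4_chi_ne_zero i j ht k) (inv_ne_zero (h4_chi_ne_zero i j ht l))
  have h := h4_h_mul_x S h3 hij ht hkl ((chi i j t k * (chi i j t l)⁻¹)⁻¹ * v)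
  rw [← mul_assoc, mul_inv_cancel₀ hc, one_mul] at h
  rw [inv_mul_eq_iff_eq_mul, ← mul_assoc, h, mul_assoc, mul_inv_cancel, mul_one]

/-- the symbol commutes with every generator -/
theorem h4_sym_comm (h3 : 3 ≤ Fintype.card I) {i j : I} (hij : i ≠ j) {t u : K} (ht : t ≠ 0)
    (hu : u ≠ 0) {k l : I} (hkl : k ≠ l) (v : K) :
    (S.h i j t * S.h i j u * (S.h i j (t * u))⁻¹) * S.x k l v =
      S.x k l v * (S.h i j t * S.h i j u * (S.h i j (t * u))⁻¹) := by
  have htu : t * u ≠ 0 := mul_ne_zero ht hu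
  rw [mul_assoc _ _ (S.x k l v), h4_hinv_mul_x S h3 hij htu hkl, ← mul_assoc,
    mul_assoc (S.h i j t), h4_h_mul_x S h3 hij hu hkl, ← mul_assoc,
    h4_h_mul_x S h3 hij ht hkl]
  have hk := h4_chi_ne_zero i j ht k
  have hl := h4_chi_ne_zero i j ht l
  have hk' := h4_chi_ne_zero i j hu k
  have hl' := h4_chi_ne_zero i j hu l
  have : chi i j t k * (chi i j t l)⁻¹ * (chi i j u k * (chi i j u l)⁻¹ *
      ((chi i j (t * u) k * (chi i j (t * u) l)⁻¹)⁻¹ * v)) = v := by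
    rw [h4_chi_mul, h4_chi_mul]
    field_simp
  rw [this]
  group

/-- helper5's `SL2Like` structure on the subgroup generated by the `x`, for the pair `(i, j)` -/
def h4_sl2 (h3 : 3 ≤ Fintype.card I) {i j : I} (hij : i ≠ j) :
    SL2Like K ↥(S.sub Finset.univ) where
  x t := ⟨S.x i j t, S.x_mem_sub (Finset.mem_univ i) (Finset.mem_univ j) hij t⟩
  y t := ⟨S.x j i t, S.x_mem_sub (Finset.mem_univ j) (Finset.mem_univ i) hij.symm t⟩
  x_add t u := Subtype.ext (S.x_add i j hij t u)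
  y_add t u := Subtype.ext (S.x_add j i hij.symm t u)
  conj_x t u ht := by
    apply Subtype.ext
    change S.w i j t * S.x i j u * (S.w i j t)⁻¹ = S.x j i (-(t⁻¹ * t⁻¹) * u)
    rw [w_conj S h3 hij ht hij u, Equiv.swap_apply_left, Equiv.swap_apply_right]
    congr 1
    simp only [wc, if_true, if_neg hij.symm]
    ring
  conj_y t u ht := by
    apply Subtype.ext
    change S.w i j t * S.x j i u * (S.w i j t)⁻¹ = S.x i j (-(t * t) * u)
    rw [w_conj S h3 hij ht hij.symm u, Equiv.swap_apply_left, Equiv.swap_apply_right]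
    congr 1
    simp only [wc, if_true, if_neg hij.symm, inv_neg, inv_inv]
    ring
  central t u ht hu := by
    rw [Subgroup.mem_center_iff]
    intro g
    apply Subtype.ext
    change (g : Γ) * (S.h i j t * S.h i j u * (S.h i j (t * u))⁻¹) =
      (S.h i j t * S.h i j u * (S.h i j (t * u))⁻¹) * (g : Γ)
    exact h4_comm_of_mem_sub S _ (fun k l hkl v => h4_sym_comm S h3 hij ht hu hkl v) g g.2

theorem h4_sl2_h (h3 : 3 ≤ Fintype.card I) {i j : I} (hij : i ≠ j) (t : K) :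
    (((h4_sl2 S h3 hij).h t : ↥(S.sub Finset.univ)) : Γ) = S.h i j t := rfl

/-- unit H2: `h` is multiplicative over a finite field -/
theorem h_mul [Finite K] (h3 : 3 ≤ Fintype.card I) {i j : I} (hij : i ≠ j) {t u : K}
    (ht : t ≠ 0) (hu : u ≠ 0) : S.h i j t * S.h i j u = S.h i j (t * u) := by
  have h := congrArg Subtype.val ((h4_sl2 S h3 hij).h_mul_h t u ht hu)
  exact h

theorem h4_h_comm_same [Finite K] (h3 : 3 ≤ Fintype.card I) {i j : I} (hij : i ≠ j) {t u : K}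
    (ht : t ≠ 0) (hu : u ≠ 0) : S.h i j t * S.h i j u = S.h i j u * S.h i j t := by
  have h := congrArg Subtype.val ((h4_sl2 S h3 hij).h_commute t u ht hu)
  exact h

theorem h4_h_inv [Finite K] (h3 : 3 ≤ Fintype.card I) {i j : I} (hij : i ≠ j) {t : K}
    (ht : t ≠ 0) : (S.h i j t)⁻¹ = S.h i j t⁻¹ := by
  rw [inv_eq_iff_mul_eq_one, h_mul S h3 hij ht (inv_ne_zero ht), mul_inv_cancel₀ ht,
    h_one S hij]

/-- an element acting on the root groups `(k,l)`, `(l,k)` by inverse scalars maps `w k l u` to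
`w k l (c u)` -/
theorem h4_conj_w_of (g : Γ) {c : K} (_hc : c ≠ 0) {k l : I}
    (h1 : ∀ v : K, g * S.x k l v * g⁻¹ = S.x k l (c * v))
    (h2 : ∀ v : K, g * S.x l k v * g⁻¹ = S.x l k (c⁻¹ * v)) {u : K} (_hu : u ≠ 0) :
    g * S.w k l u * g⁻¹ = S.w k l (c * u) := by
  unfold StA.w
  have : g * (S.x k l u * S.x l k (-u⁻¹) * S.x k l u) * g⁻¹ =
      (g * S.x k l u * g⁻¹) * (g * S.x l k (-u⁻¹) * g⁻¹) * (g * S.x k l u * g⁻¹) := by group
  rw [this, h1, h2]
  congr 2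
  field_simp

theorem h4_h_conj_w (h3 : 3 ≤ Fintype.card I) {i j : I} (hij : i ≠ j) {t : K} (ht : t ≠ 0)
    {k l : I} (hkl : k ≠ l) {u : K} (hu : u ≠ 0) :
    S.h i j t * S.w k l u * (S.h i j t)⁻¹ = S.w k l (chi i j t k * (chi i j t l)⁻¹ * u) := by
  have hc : chi i j t k * (chi i j t l)⁻¹ ≠ 0 :=
    mul_ne_zero (h4_chi_ne_zero i j ht k) (inv_ne_zero (h4_chi_ne_zero i j ht l))
  refine h4_conj_w_of S _ hc (fun v => h_conj S h3 hij ht hkl v) (fun v => ?_) hu
  rw [h_conj S h3 hij ht hkl.symm v, _root_.mul_inv_rev, inv_inv]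

theorem h4_w_mul_neg {i j : I} (hij : i ≠ j) (t : K) : S.w i j t * S.w i j (-t) = 1 := by
  rw [← w_inv S hij t, mul_inv_cancel]

theorem h4_w_neg_mul {i j : I} (hij : i ≠ j) (t : K) : S.w i j (-t) * S.w i j t = 1 := by
  rw [← w_inv S hij t, inv_mul_cancel]

/-- `w(a) w(b) = h(a) h(-b)⁻¹` -/
theorem h4_w_mul_w {i j : I} (hij : i ≠ j) (a b : K) :
    S.w i j a * S.w i j b = S.h i j a * (S.h i j (-b))⁻¹ := by
  unfold StA.h
  rw [_root_.mul_inv_rev, w_inv S hij, w_inv S hij, neg_neg, neg_neg, mul_assoc,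
    ← mul_assoc (S.w i j (-1)), h4_w_neg_mul S hij, one_mul]

theorem h4_h_conj_h (h3 : 3 ≤ Fintype.card I) {i j : I} (hij : i ≠ j) {t : K} (ht : t ≠ 0)
    {k l : I} (hkl : k ≠ l) {u : K} (hu : u ≠ 0) :
    S.h i j t * S.h k l u * (S.h i j t)⁻¹ =
      S.h k l (chi i j t k * (chi i j t l)⁻¹ * u) *
        (S.h k l (chi i j t k * (chi i j t l)⁻¹))⁻¹ := by
  have : S.h i j t * S.h k l u * (S.h i j t)⁻¹ =
      (S.h i j t * S.w k l u * (S.h i j t)⁻¹) * (S.h i j t * S.w k l (-1) * (S.h i j t)⁻¹) := by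
    unfold StA.h
    group
  rw [this, h4_h_conj_w S h3 hij ht hkl hu, h4_h_conj_w S h3 hij ht hkl (neg_ne_zero.2 one_ne_zero),
    h4_w_mul_w S hkl, mul_neg, mul_one, neg_neg]

/-- unit H2: all the `h` commute -/
theorem h_comm [Finite K] (h3 : 3 ≤ Fintype.card I) {i j k l : I} (hij : i ≠ j) (hkl : k ≠ l)
    {t u : K} (ht : t ≠ 0) (hu : u ≠ 0) : S.h i j t * S.h k l u = S.h k l u * S.h i j t := by
  have hc : chi i j t k * (chi i j t l)⁻¹ ≠ 0 :=
    mul_ne_zero (h4_chi_ne_zero i j ht k) (inv_ne_zero (h4_chi_ne_zero i j ht l))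
  have h := h4_h_conj_h S h3 hij ht hkl hu
  have e1 : S.h k l (chi i j t k * (chi i j t l)⁻¹ * u) =
      S.h k l u * S.h k l (chi i j t k * (chi i j t l)⁻¹) := by
    rw [← h_mul S h3 hkl hc hu, h4_h_comm_same S h3 hkl hc hu]
  rw [e1, mul_assoc (S.h k l u), mul_inv_cancel, mul_one] at h
  exact mul_inv_eq_iff_eq_mul.1 h

/-- `w(-s) w(1) = h(s)` -/
theorem h4_w_neg_mul_w_one [Finite K] (h3 : 3 ≤ Fintype.card I) {i j : I} (hij : i ≠ j) {s : K}
    (hs : s ≠ 0) : S.w i j (-s) * S.w i j 1 = S.h i j s := by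
  have e : S.h i j (-s) = S.h i j s * S.h i j (-1) := by
    rw [h_mul S h3 hij hs (neg_ne_zero.2 one_ne_zero), mul_neg, mul_one]
  rw [h4_w_mul_w S hij, e, mul_assoc, mul_inv_cancel, mul_one]

/-- unit H2 -/
theorem h_symm [Finite K] (h3 : 3 ≤ Fintype.card I) {i j : I} (hij : i ≠ j) {t : K} (ht : t ≠ 0) :
    S.h j i t = (S.h i j t)⁻¹ := by
  have e1 : (-(-1 : K)⁻¹) = 1 := by rw [inv_neg, inv_one, neg_neg]
  change S.w j i t * S.w j i (-1) = _
  rw [w_symm S h3 hij ht, w_symm S h3 hij (neg_ne_zero.2 one_ne_zero), e1,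
    h4_w_neg_mul_w_one S h3 hij (inv_ne_zero ht), h4_h_inv S h3 hij ht]

/-- `w j k 1` maps `w i j s` to `w i k (-s)` -/
theorem h4_w_conj_w_adj (h3 : 3 ≤ Fintype.card I) {i j k : I} (hij : i ≠ j) (hjk : j ≠ k)
    (hik : i ≠ k) {s : K} (hs : s ≠ 0) :
    S.w j k 1 * S.w i j s * (S.w j k 1)⁻¹ = S.w i k (-s) := by
  rw [w_conj_w S h3 hjk one_ne_zero hij hs, Equiv.swap_apply_of_ne_of_ne hij hik,
    Equiv.swap_apply_left]
  congr 1
  simp only [wc, if_neg hij, if_neg hik, if_true, inv_one, inv_neg, one_mul]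
  rw [neg_one_mul]

/-- unit H2 -/
theorem h_trans [Finite K] (h3 : 3 ≤ Fintype.card I) {i j k : I} (hij : i ≠ j) (hjk : j ≠ k)
    (hik : i ≠ k) {t : K} (ht : t ≠ 0) : S.h i k t = S.h i j t * S.h j k t := by
  have hA : S.w j k 1 * S.h i j t * (S.w j k 1)⁻¹ = S.h i k t := by
    have : S.w j k 1 * S.h i j t * (S.w j k 1)⁻¹ =
        (S.w j k 1 * S.w i j t * (S.w j k 1)⁻¹) * (S.w j k 1 * S.w i j (-1) * (S.w j k 1)⁻¹) := by
      unfold StA.h
      group
    rw [this, h4_w_conj_w_adj S h3 hij hjk hik ht,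
      h4_w_conj_w_adj S h3 hij hjk hik (neg_ne_zero.2 one_ne_zero), neg_neg,
      h4_w_neg_mul_w_one S h3 hik ht]
  have hB : (S.h i j t)⁻¹ * S.w j k 1 * S.h i j t = S.w j k t := by
    have h := h4_h_conj_w S h3 hij (inv_ne_zero ht) hjk (one_ne_zero (α := K))
    rw [← h4_h_inv S h3 hij ht, inv_inv] at h
    rw [h]
    congr 1
    simp only [chi, if_neg hij.symm, if_true, if_neg hik.symm, if_neg hjk.symm, inv_inv, inv_one,
      mul_one]
  calc S.h i k t = S.w j k 1 * S.h i j t * (S.w j k 1)⁻¹ := hA.symm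
    _ = S.h i j t * ((S.h i j t)⁻¹ * S.w j k 1 * S.h i j t) * (S.w j k 1)⁻¹ := by group
    _ = S.h i j t * (S.w j k t * S.w j k (-1)) := by rw [hB, w_inv S hjk, mul_assoc]
    _ = S.h i j t * S.h j k t := rfl

/-- unit H2: the rank one identity -/
theorem x_mul_opp [Finite K] (h3 : 3 ≤ Fintype.card I) {i j : I} (hij : i ≠ j) (t u : K)
    (hd : 1 + t * u ≠ 0) :
    S.x i j t * S.x j i u =
      S.x j i (u / (1 + t * u)) * S.h i j (1 + t * u) * S.x i j (t / (1 + t * u)) := by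
  have h := congrArg Subtype.val (h4_sl2_x_mul_y (h4_sl2 S h3 hij)
    (fun t u ht hu => (h4_sl2 S h3 hij).h_mul_h t u ht hu) t u hd)
  exact h

end Cfsg.Agent.Lib.Helper4.StSL
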