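import Mathlib
import Cfsg.Agent.Lib.Helper9.AlperinCor
import Cfsg.Agent.Lib.Helper9.GroupFusionSat
import Cfsg.Agent.Lib.Helper9.GroupFusionAut
import Cfsg.Agent.Lib.Helper9.StronglyEmbedded
import Cfsg.Agent.Lib.Helper7.PNilp
import Cfsg.Agent.Lib.Helper4.NilSeries

set_option autoImplicit false

/-!
# Frobenius' normal `p`-complement criterion relative to a strongly closed subgroup
-/

namespace Cfsg.Agent.Lib.Helper4.StrClosedNPC

open Cfsg Cfsg.FusionSystem Cfsg.Agent.Lib.Helper9 Cfsg.Agent.Lib.Helper7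

section core

variable {G : Type*} [Group G] {S D : Subgroup G}

theorem conj_mem_D (hD : Cfsg.IsStronglyClosed D S) {s d : G} (hs : s ∈ S) (hd : d ∈ D) :
    s * d * s⁻¹ ∈ D :=
  hD.2 d hd s (S.mul_mem (S.mul_mem hs (hD.1 hd)) (S.inv_mem hs))

theorem normalizer_le_normalizer_inf (hD : Cfsg.IsStronglyClosed D S) {P : Subgroup G}
    (hP : P ≤ S) :
    Subgroup.normalizer (P : Set G) ≤ Subgroup.normalizer ((P ⊓ D : Subgroup G) : Set G) := by
  apply Cfsg.Agent.Lib.Helper4.NilSeries.le_normalizer_of_conj_mem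
  intro n hn x hx
  have h1 : n * x * n⁻¹ ∈ P := (Subgroup.mem_normalizer_iff.mp hn x).mp hx.1
  exact ⟨h1, hD.2 x hx.2 n (hP h1)⟩

variable [Finite G] {p : ℕ} [hp : Fact p.Prime]

/-- The local hypothesis. -/
def Hyp (p : ℕ) (D : Subgroup G) : Prop :=
  ∀ U : Subgroup G, U ≤ D → D ⊓ Subgroup.centralizer (U : Set G) ≤ U →
    Cfsg.HasNormalPComplement p ↥(Subgroup.normalizer (U : Set G))

theorem coprime_centralizes (hS : IsPGroup p S) (hD : Cfsg.IsStronglyClosed D S)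
    (hH : Hyp p D) {P : Subgroup G} (hP : P ≤ S)
    (hU : D ⊓ Subgroup.centralizer ((P ⊓ D : Subgroup G) : Set G) ≤ P ⊓ D)
    {n : G} (hn : n ∈ Subgroup.normalizer (P : Set G)) (hno : (orderOf n).Coprime p) :
    n ∈ Subgroup.centralizer (P : Set G) := by
  have h1 := hH (P ⊓ D) inf_le_right hU
  rw [← pn_iff] at h1
  have hle := normalizer_le_normalizer_inf hD hP
  have hPN : P ≤ Subgroup.normalizer ((P ⊓ D : Subgroup G) : Set G) :=
    Subgroup.le_normalizer.trans hle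
  exact h1.centralizes hPN (isPGroup_of_le hS hP) (hle hn) hn hno

theorem autInducedBy_isPGroup (hS : IsPGroup p S) (hD : Cfsg.IsStronglyClosed D S)
    (hH : Hyp p D) {P : Subgroup G} (hP : P ≤ S)
    (hU : D ⊓ Subgroup.centralizer ((P ⊓ D : Subgroup G) : Set G) ≤ P ⊓ D) :
    IsPGroup p ↥(autInducedBy ⊤ P) := by
  rintro ⟨α, hα⟩
  rw [← range_conjAut_eq] at hα
  obtain ⟨n, rfl⟩ := hα
  obtain ⟨x, hx, y, hy, hxy, hxc, k, hyk⟩ := exists_pPart_decomp p (n : G)
  have hzn : Subgroup.zpowers (n : G) ≤ Subgroup.normalizer (P : Set G) :=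
    Subgroup.zpowers_le.mpr n.2
  have hxN := hzn hx
  have hyN := hzn hy
  have hxC := coprime_centralizes hS hD hH hP hU hxN hxc
  have hx1 : conjAut P ⟨x, hxN⟩ = 1 := by
    ext z
    rw [conjAut_apply]
    show x * (z : G) * x⁻¹ = z
    have := Subgroup.mem_centralizer_iff.mp hxC z z.2
    rw [← this, mul_inv_cancel_right]
  have hn : n = ⟨x, hxN⟩ * ⟨y, hyN⟩ := Subtype.ext hxy
  refine ⟨k, Subtype.ext ?_⟩
  show (conjAut P n) ^ (p ^ k) = 1
  rw [hn, map_mul, hx1, one_mul, ← map_pow]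
  have : (⟨y, hyN⟩ : ↥(Subgroup.normalizer (P : Set G))) ^ (p ^ k) = 1 := Subtype.ext (by
    rw [Subgroup.coe_pow]; exact hyk)
  rw [this, map_one]

end core

section chain

variable {G : Type*} [Group G]

/-- The stabilizer of the chain `P ≥ U ≥ 1` inside a group `𝔸` of automorphisms of `P`. -/
def chainStab {P : Subgroup G} (𝔸 : Subgroup (MulAut P)) (U : Subgroup G) :
    Subgroup (MulAut P) where
  carrier := {α | α ∈ 𝔸 ∧ (∀ z : P, (z : G) ∈ U → α z = z) ∧
    ∀ z : P, ((α z : P) : G) * (z : G)⁻¹ ∈ U}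
  one_mem' := ⟨one_mem _, fun z _ => rfl, fun z => by
    show (z : G) * (z : G)⁻¹ ∈ U
    rw [mul_inv_cancel]; exact one_mem _⟩
  mul_mem' := by
    rintro α β ⟨hα, hα1, hα2⟩ ⟨hβ, hβ1, hβ2⟩
    refine ⟨mul_mem hα hβ, fun z hz => ?_, fun z => ?_⟩
    · rw [MulAut.mul_apply, hβ1 z hz, hα1 z hz]
    · rw [MulAut.mul_apply]
      have e : ((α (β z) : P) : G) * (z : G)⁻¹ =
          (((α (β z) : P) : G) * ((β z : P) : G)⁻¹) * (((β z : P) : G) * (z : G)⁻¹) := by group
      rw [e]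
      exact mul_mem (hα2 (β z)) (hβ2 z)
  inv_mem' := by
    rintro α ⟨hα, hα1, hα2⟩
    refine ⟨inv_mem hα, fun z hz => ?_, fun z => ?_⟩
    · conv_lhs => rw [← hα1 z hz]
      exact MulAut.inv_apply_self _ α z
    · have h1 := hα2 (α⁻¹ z)
      rw [MulAut.apply_inv_self] at h1
      have e : ((α⁻¹ z : P) : G) * (z : G)⁻¹ = ((z : G) * ((α⁻¹ z : P) : G)⁻¹)⁻¹ := by group
      rw [e]
      exact inv_mem h1

theorem chainStab_le {P : Subgroup G} (𝔸 : Subgroup (MulAut P)) (U : Subgroup G) :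
    chainStab 𝔸 U ≤ 𝔸 := fun _ h => h.1

theorem chainStab_conj {P : Subgroup G} (𝔸 : Subgroup (MulAut P)) (U : Subgroup G)
    (hU : ∀ β ∈ 𝔸, ∀ z : P, (z : G) ∈ U → ((β z : P) : G) ∈ U) {β α : MulAut P} (hβ : β ∈ 𝔸)
    (hα : α ∈ chainStab 𝔸 U) : β * α * β⁻¹ ∈ chainStab 𝔸 U := by
  obtain ⟨hα0, hα1, hα2⟩ := hα
  refine ⟨mul_mem (mul_mem hβ hα0) (inv_mem hβ), fun z hz => ?_, fun z => ?_⟩
  · rw [MulAut.mul_apply, MulAut.mul_apply, hα1 _ (hU β⁻¹ (inv_mem hβ) z hz),
      MulAut.apply_inv_self]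
  · rw [MulAut.mul_apply, MulAut.mul_apply]
    obtain ⟨w, hw⟩ : ∃ w, w = β⁻¹ z := ⟨_, rfl⟩
    have hz : z = β w := by rw [hw, MulAut.apply_inv_self]
    rw [← hw]
    have h1 := hU β hβ (α w * w⁻¹) (by
      rw [Subgroup.coe_mul, Subgroup.coe_inv]; exact hα2 w)
    rw [map_mul, map_inv, Subgroup.coe_mul, Subgroup.coe_inv, ← hz] at h1
    exact h1

theorem chainStab_pow {P : Subgroup G} (𝔸 : Subgroup (MulAut P)) (U : Subgroup G)
    {α : MulAut P} (hα : α ∈ chainStab 𝔸 U) (z : P) (k : ℕ) :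
    (α ^ k) z = (α z * z⁻¹) ^ k * z := by
  obtain ⟨-, hα1, hα2⟩ := hα
  induction k with
  | zero => simp
  | succ k ih =>
    have hu : α (α z * z⁻¹) = α z * z⁻¹ := hα1 _ (by
      rw [Subgroup.coe_mul, Subgroup.coe_inv]; exact hα2 z)
    rw [pow_succ', MulAut.mul_apply, ih, map_mul, map_pow, hu, pow_succ]
    group

theorem chainStab_isPGroup {p : ℕ} [Fact p.Prime] {P : Subgroup G} (𝔸 : Subgroup (MulAut P))
    (U : Subgroup G) [Finite U] (hUp : IsPGroup p U) : IsPGroup p (chainStab 𝔸 U) := by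
  obtain ⟨j, hj⟩ := IsPGroup.iff_card.mp hUp
  rintro ⟨α, hα⟩
  refine ⟨j, Subtype.ext ?_⟩
  show α ^ (p ^ j) = 1
  ext z
  rw [chainStab_pow 𝔸 U hα z (p ^ j)]
  have hu : ((α z * z⁻¹ : P) : G) ∈ U := by
    rw [Subgroup.coe_mul, Subgroup.coe_inv]; exact hα.2.2 z
  have h1 : (α z * z⁻¹) ^ (p ^ j) = 1 := by
    apply Subtype.ext
    rw [Subgroup.coe_pow]
    have := pow_card_eq_one' (x := (⟨_, hu⟩ : U))
    rw [hj] at this
    exact congrArg Subtype.val this
  rw [h1, one_mul]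
  rfl

end chain

section radical

variable {G : Type*} [Group G] [Finite G] {S D : Subgroup G} {p : ℕ} [hp : Fact p.Prime]

/-- A centric radical subgroup `P` of `S` meets a strongly closed `D` in a `D`-centric subgroup. -/
theorem inf_centric_of_centric_radical (hS : IsPGroup p S) (hD : Cfsg.IsStronglyClosed D S)
    {P : Subgroup G} (hP : P ≤ S) (hcen : S ⊓ Subgroup.centralizer (P : Set G) ≤ P)
    (hrad : ∀ A : Subgroup (MulAut P), A ≤ autInducedBy ⊤ P →
      (∀ β ∈ autInducedBy ⊤ P, ∀ α ∈ A, β * α * β⁻¹ ∈ A) → IsPGroup p A → A ≤ Inn P) :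
    D ⊓ Subgroup.centralizer ((P ⊓ D : Subgroup G) : Set G) ≤ P ⊓ D := by
  obtain ⟨U, hUdef⟩ : ∃ U, U = P ⊓ D := ⟨_, rfl⟩
  rw [← hUdef]
  have hUP : U ≤ P := hUdef ▸ inf_le_left
  have hUD : U ≤ D := hUdef ▸ inf_le_right
  have hUS : U ≤ S := hUP.trans hP
  have hNle : Subgroup.normalizer (P : Set G) ≤ Subgroup.normalizer (U : Set G) := by
    rw [hUdef]; exact normalizer_le_normalizer_inf hD hP
  obtain ⟨𝔸, h𝔸⟩ : ∃ 𝔸, 𝔸 = autInducedBy ⊤ P := ⟨_, rfl⟩
  have hUpres : ∀ β ∈ 𝔸, ∀ z : P, (z : G) ∈ U → ((β z : P) : G) ∈ U := by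
    intro β hβ z hz
    rw [h𝔸] at hβ
    obtain ⟨g, -, hg⟩ := (mem_autInducedBy_iff ⊤ P β).mp hβ
    have hgN := hNle (mem_normalizer_of_induces β hg)
    rw [hg z]
    exact (Subgroup.mem_normalizer_iff.mp hgN z).mp hz
  have hA := hrad (chainStab 𝔸 U) (h𝔸 ▸ chainStab_le 𝔸 U)
    (fun β hβ α hα => chainStab_conj 𝔸 U hUpres (h𝔸 ▸ hβ) hα)
    (chainStab_isPGroup 𝔸 U (isPGroup_of_le hS hUS))
  -- Step X
  have hX : ∀ x ∈ D, x ∈ Subgroup.centralizer (U : Set G) →
      x ∈ Subgroup.normalizer (P : Set G) → x ∈ P := by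
    intro x hxD hxC hxN
    have hα : conjAut P ⟨x, hxN⟩ ∈ chainStab 𝔸 U := by
      refine ⟨?_, fun z hz => ?_, fun z => ?_⟩
      · rw [h𝔸, ← range_conjAut_eq]; exact ⟨_, rfl⟩
      · apply Subtype.ext
        rw [conjAut_apply]
        show x * (z : G) * x⁻¹ = z
        have := Subgroup.mem_centralizer_iff.mp hxC z hz
        rw [← this, mul_inv_cancel_right]
      · rw [conjAut_apply]
        show x * (z : G) * x⁻¹ * (z : G)⁻¹ ∈ U
        rw [hUdef]
        refine ⟨?_, ?_⟩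
        · exact mul_mem ((Subgroup.mem_normalizer_iff.mp hxN z).mp z.2) (Subgroup.inv_mem _ z.2)
        · have h1 : (z : G) * x⁻¹ * (z : G)⁻¹ ∈ D := conj_mem_D hD (hP z.2) (Subgroup.inv_mem _ hxD)
          have e : x * (z : G) * x⁻¹ * (z : G)⁻¹ = x * ((z : G) * x⁻¹ * (z : G)⁻¹) := by group
          rw [e]
          exact mul_mem hxD h1
    obtain ⟨y, hy⟩ := hA hα
    have hyz : ∀ z : P, (y : G) * z * (y : G)⁻¹ = x * z * x⁻¹ := by
      intro z
      have := congrArg (fun f : MulAut P => ((f z : P) : G)) hy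
      simpa [conjAut_apply, MulAut.conj_apply] using this
    have hc : (y : G)⁻¹ * x ∈ S ⊓ Subgroup.centralizer (P : Set G) := by
      refine Subgroup.mem_inf.mpr ⟨mul_mem (Subgroup.inv_mem _ (hP y.2)) (hD.1 hxD), ?_⟩
      rw [Subgroup.mem_centralizer_iff]
      intro z hz
      have h1 := hyz ⟨z, hz⟩
      have h2 : x * z = (y : G) * z * (y : G)⁻¹ * x := by
        rw [h1]; group
      calc z * ((y : G)⁻¹ * x) = (y : G)⁻¹ * ((y : G) * z * (y : G)⁻¹ * x) := by group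
        _ = (y : G)⁻¹ * (x * z) := by rw [h2]
        _ = (y : G)⁻¹ * x * z := by group
    have := mul_mem y.2 (hcen hc)
    rwa [mul_inv_cancel_left] at this
  -- the normalizer argument
  by_contra hcon
  obtain ⟨C, hCdef⟩ : ∃ C, C = D ⊓ Subgroup.centralizer (U : Set G) := ⟨_, rfl⟩
  rw [← hCdef] at hcon
  have hCD : C ≤ D := hCdef ▸ inf_le_left
  have hCC : C ≤ Subgroup.centralizer (U : Set G) := hCdef ▸ inf_le_right
  have hPC : P ≤ Subgroup.normalizer (C : Set G) := by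
    apply Cfsg.Agent.Lib.Helper4.NilSeries.le_normalizer_of_conj_mem
    intro y hy c hc
    rw [hCdef]
    refine Subgroup.mem_inf.mpr ⟨conj_mem_D hD (hP hy) (hCD hc), ?_⟩
    rw [Subgroup.mem_centralizer_iff]
    intro u hu
    have hu' : y⁻¹ * u * y ∈ U := by
      rw [hUdef]
      refine ⟨mul_mem (mul_mem (Subgroup.inv_mem _ hy) (hUP hu)) hy, ?_⟩
      have := conj_mem_D hD (S.inv_mem (hP hy)) (hUD hu)
      rwa [inv_inv] at this
    have h1 := Subgroup.mem_centralizer_iff.mp (hCC hc) _ hu'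
    calc u * (y * c * y⁻¹) = y * ((y⁻¹ * u * y) * c) * y⁻¹ := by group
      _ = y * (c * (y⁻¹ * u * y)) * y⁻¹ := by rw [h1]
      _ = y * c * y⁻¹ * u := by group
  have hQS : P ⊔ C ≤ S := sup_le hP (hCD.trans hD.1)
  have hlt : P < P ⊔ C := by
    refine lt_of_le_of_ne le_sup_left (fun h => hcon ?_)
    have hCP : C ≤ P := by rw [h]; exact le_sup_right
    rw [hUdef]
    exact le_inf hCP hCD
  obtain ⟨g, ⟨hgQ, hgN⟩, hgP⟩ :=
    exists_mem_normalizerIn_not_mem (S := P ⊔ C) (isPGroup_of_le hS hQS) hlt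
  have hmem : g ∈ ((P ⊔ C : Subgroup G) : Set G) := hgQ
  rw [Subgroup.coe_mul_of_left_le_normalizer_right P C hPC] at hmem
  obtain ⟨y, hy, c, hc, rfl⟩ := Set.mem_mul.mp hmem
  have hcN : c ∈ Subgroup.normalizer (P : Set G) := by
    have : c = y⁻¹ * (y * c) := by group
    rw [this]
    exact mul_mem (Subgroup.inv_mem _ (Subgroup.le_normalizer hy)) hgN
  exact hgP (mul_mem hy (hX c (hCD hc) (hCC hc) hcN))

end radical

section fusion

variable {G : Type*} [Group G] [Finite G] {p : ℕ} [hp : Fact p.Prime]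

theorem fusion_le_inner (S : Sylow p G) (D : Subgroup G)
    (hD : Cfsg.IsStronglyClosed D (S : Subgroup G)) (hH : Hyp p D) :
    groupFusionSystem (S : Subgroup G) ≤ innerFusionSystem (S : Subgroup G) := by
  obtain ⟨F, hFdef⟩ : ∃ F, F = groupFusionSystem (S : Subgroup G) := ⟨_, rfl⟩
  rw [← hFdef]
  have hSp : IsPGroup p (S : Subgroup G) := S.isPGroup'
  have hF : F.IsSaturated p := hFdef ▸ groupFusion_saturated S
  apply alperin p hSp F hF
  rintro P (rfl | hess)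
  · have hU : D ⊓ Subgroup.centralizer ((((S : Subgroup G) ⊓ D : Subgroup G)) : Set G) ≤
        (S : Subgroup G) ⊓ D := by
      rw [inf_eq_right.mpr hD.1]
      exact inf_le_left
    have hp' : IsPGroup p (F.autGroup (S : Subgroup G)) := by
      rw [hFdef, groupFusion_autGroup_eq le_rfl]
      exact autInducedBy_isPGroup hSp hD hH le_rfl hU
    have hfa := fullyAutomized_of_fullyNormalized hSp F hF (fullyNormalized_top F)
    obtain ⟨-, R, hR⟩ := hfa
    have hRtop : (R : Subgroup (F.autGroup (S : Subgroup G))) = ⊤ :=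
      (R.is_maximal' (hp'.to_subgroup ⊤) le_top).symm
    intro α hα
    have h1 : (⟨α, hα⟩ : F.autGroup (S : Subgroup G)) ∈
        (R : Subgroup (F.autGroup (S : Subgroup G))) := by
      rw [hRtop]
      trivial
    rw [hR] at h1
    exact autInducedBy_le_autGroup (innerFusionSystem (S : Subgroup G)) le_rfl
      (Subgroup.mem_subgroupOf.mp h1)
  · exfalso
    have hPS : P ≤ (S : Subgroup G) := hess.1.1
    have hcen : (S : Subgroup G) ⊓ Subgroup.centralizer (P : Set G) ≤ P :=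
      hess.1.2 P ⟨P.subtype, subtype_mem F hPS, Subgroup.range_subtype P⟩
    have hAG : F.autGroup P = autInducedBy ⊤ P := by
      rw [hFdef]; exact groupFusion_autGroup_eq hPS
    have hrad : ∀ A : Subgroup (MulAut P), A ≤ autInducedBy ⊤ P →
        (∀ β ∈ autInducedBy ⊤ P, ∀ α ∈ A, β * α * β⁻¹ ∈ A) → IsPGroup p A → A ≤ Inn P := by
      obtain ⟨hn, E, hE⟩ := hess.2.2
      have hcore := pCore_eq_bot_of_stronglyPEmbedded hE
      intro A hA𝔸 hAnorm hAp
      have hAF : A ≤ F.autGroup P := hAG ▸ hA𝔸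
      have hA'n : (A.subgroupOf (F.autGroup P)).Normal := ⟨fun a ha b => by
        rw [Subgroup.mem_subgroupOf] at ha ⊢
        exact hAnorm b (hAG ▸ b.2) a ha⟩
      have hA'p : IsPGroup p (A.subgroupOf (F.autGroup P)) :=
        hAp.of_equiv (Subgroup.subgroupOfEquivOfLe hAF).symm
      have h1 : (A.subgroupOf (F.autGroup P)).map
          (QuotientGroup.mk' ((Inn P).subgroupOf (F.autGroup P))) ≤ pCore p _ :=
        le_pCore' (hA'n.map _ (QuotientGroup.mk'_surjective _)) (hA'p.map _)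
      rw [hcore, le_bot_iff, Subgroup.map_eq_bot_iff, QuotientGroup.ker_mk'] at h1
      intro α hα
      have h2 := h1 (show (⟨α, hAF hα⟩ : F.autGroup P) ∈ A.subgroupOf (F.autGroup P) from
        Subgroup.mem_subgroupOf.mpr hα)
      exact Subgroup.mem_subgroupOf.mp h2
    have hU := inf_centric_of_centric_radical hSp hD hPS hcen hrad
    have hp' : IsPGroup p (F.autGroup P) := by
      rw [hAG]
      exact autInducedBy_isPGroup hSp hD hH hPS hU
    exact not_essential_of_isPGroup F hp' hess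

theorem main (S : Sylow p G) (D : Subgroup G)
    (hD : Cfsg.IsStronglyClosed D (S : Subgroup G)) (hH : Hyp p D) :
    Cfsg.HasNormalPComplement p G := by
  have hle := fusion_le_inner S D hD hH
  have hSp : IsPGroup p (S : Subgroup G) := S.isPGroup'
  rw [Cfsg.Agent.Lib.Helper1.hasNormalPComplement_iff_frobeniusCondition]
  apply Cfsg.Agent.Lib.Helper1.frobeniusCondition_of_sylow S
  intro Q hQ g hg hgo
  have hmap : Q.map (MulAut.conj g).toMonoidHom ≤ (S : Subgroup G) := by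
    rintro _ ⟨x, hx, rfl⟩
    exact hQ ((Subgroup.mem_normalizer_iff.mp hg x).mp hx)
  obtain ⟨-, s, hs, hφ⟩ := hle Q (groupFusion_conjHom_mem hQ hmap)
  have hsN : s ∈ Subgroup.normalizer (Q : Set G) :=
    mem_normalizer_of_induces (conjAut Q ⟨g, hg⟩) (fun x => by
      rw [conjAut_apply]; exact hφ x)
  have e : conjAut Q ⟨g, hg⟩ = conjAut Q ⟨s, hsN⟩ := by
    ext x
    rw [conjAut_apply, conjAut_apply]
    exact hφ x
  obtain ⟨k, hk⟩ := hSp ⟨s, hs⟩
  have hk' : s ^ (p ^ k) = 1 := by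
    have := congrArg Subtype.val hk
    simpa using this
  have h1 : (conjAut Q ⟨g, hg⟩) ^ (p ^ k) = 1 := by
    rw [e, ← map_pow]
    have : (⟨s, hsN⟩ : ↥(Subgroup.normalizer (Q : Set G))) ^ (p ^ k) = 1 :=
      Subtype.ext (by rw [Subgroup.coe_pow]; exact hk')
    rw [this, map_one]
  have h2 : (conjAut Q ⟨g, hg⟩) ^ (orderOf g) = 1 := by
    rw [← map_pow]
    have : (⟨g, hg⟩ : ↥(Subgroup.normalizer (Q : Set G))) ^ (orderOf g) = 1 :=
      Subtype.ext (by rw [Subgroup.coe_pow]; exact pow_orderOf_eq_one g)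
    rw [this, map_one]
  have h3 : orderOf (conjAut Q ⟨g, hg⟩) ∣ Nat.gcd (orderOf g) (p ^ k) :=
    Nat.dvd_gcd (orderOf_dvd_of_pow_eq_one h2) (orderOf_dvd_of_pow_eq_one h1)
  rw [Nat.Coprime.pow_right k hgo] at h3
  have h4 : conjAut Q ⟨g, hg⟩ = 1 := orderOf_eq_one_iff.mp (Nat.dvd_one.mp h3)
  rw [Subgroup.mem_centralizer_iff]
  intro x hx
  have h5 := congrArg (fun f : MulAut Q => ((f ⟨x, hx⟩ : Q) : G)) h4
  have h6 : g * x * g⁻¹ = x := by simpa [conjAut_apply] using h5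
  calc x * g = (g * x * g⁻¹) * g := by rw [h6]
    _ = g * x := by group

theorem S3839 (S : Sylow p G) (D : Subgroup G)
    (hD : Cfsg.IsStronglyClosed D (S : Subgroup G)) :
    Cfsg.HasNormalPComplement p G ↔ ∀ U : Subgroup G, U ≤ D →
      D ⊓ Subgroup.centralizer (U : Set G) ≤ U →
      Cfsg.HasNormalPComplement p ↥(Subgroup.normalizer (U : Set G)) := by
  constructor
  · intro h U _ _
    exact Cfsg.Agent.Lib.Helper1.hasNormalPComplement_subgroup h _
  · intro h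
    exact main S D hD h

end fusion

end Cfsg.Agent.Lib.Helper4.StrClosedNPC
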