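import Mathlib
import Cfsg.Prelude.Def_LieExceptional
import Cfsg.Agent.Lib.Helper4.Suz29

/-!
# Suzuki groups, part 30: the Sylow 2-subgroup attached to a point; involutions
-/

set_option autoImplicit false
set_option linter.unusedSimpArgs false
set_option linter.unusedVariables false
set_option linter.style.haveILetI false

namespace Cfsg.Agent.Lib.Helper4.Suz

open MulAction Matrix

variable {F : Type*} [Field F] [Fintype F] {m : ℕ}

/-- The Sylow 2-subgroup fixing the point `P`. -/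
def Uat (hF : Fintype.card F = 2 ^ (2 * m + 1)) (P : Cfsg.suzukiOvoid F m) :
    Subgroup (Cfsg.Sz F m) where
  carrier := {g | ∀ c : Cfsg.Sz F m, c • oInf F m = P → c⁻¹ * g * c ∈ USub hF}
  one_mem' := by
    intro c _
    rw [mul_one, inv_mul_cancel]
    exact (USub hF).one_mem
  mul_mem' := by
    intro a b ha hb c hc
    have : c⁻¹ * (a * b) * c = (c⁻¹ * a * c) * (c⁻¹ * b * c) := by group
    rw [this]
    exact (USub hF).mul_mem (ha c hc) (hb c hc)
  inv_mem' := by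
    intro a ha c hc
    have : c⁻¹ * a⁻¹ * c = (c⁻¹ * a * c)⁻¹ := by group
    rw [this]
    exact (USub hF).inv_mem (ha c hc)

theorem conj_mem_USub_of_fix (hF : Fintype.card F = 2 ^ (2 * m + 1)) (hm : 1 ≤ m)
    {b : Cfsg.Sz F m} (hb : b • oInf F m = oInf F m) {u : Cfsg.Sz F m} (hu : u ∈ USub hF) :
    b * u * b⁻¹ ∈ USub hF := by
  have hn : b ∈ Subgroup.normalizer (USub hF : Set (Cfsg.Sz F m)) := by
    rw [normalizer_USub hF hm, mem_stabilizer_iff]; exact hb
  exact (Subgroup.mem_normalizer_iff.mp hn u).mp hu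

theorem mem_Uat_iff (hF : Fintype.card F = 2 ^ (2 * m + 1)) (hm : 1 ≤ m)
    {P : Cfsg.suzukiOvoid F m} {c : Cfsg.Sz F m} (hc : c • oInf F m = P) (g : Cfsg.Sz F m) :
    g ∈ Uat hF P ↔ c⁻¹ * g * c ∈ USub hF := by
  constructor
  · intro h; exact h c hc
  · intro h c' hc'
    have hb : (c'⁻¹ * c) • oInf F m = oInf F m := by
      rw [mul_smul, hc, ← hc', inv_smul_smul]
    have := conj_mem_USub_of_fix hF hm hb h
    have e : (c'⁻¹ * c) * (c⁻¹ * g * c) * (c'⁻¹ * c)⁻¹ = c'⁻¹ * g * c' := by group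
    rwa [e] at this

theorem Uat_oInf (hF : Fintype.card F = 2 ^ (2 * m + 1)) (hm : 1 ≤ m) :
    Uat hF (oInf F m) = USub hF := by
  ext g
  rw [mem_Uat_iff hF hm (c := 1) (one_smul _ _)]
  simp

theorem mem_Uat_smul_iff (hF : Fintype.card F = 2 ^ (2 * m + 1)) (hm : 1 ≤ m)
    (P : Cfsg.suzukiOvoid F m) (x g : Cfsg.Sz F m) :
    g ∈ Uat hF (x • P) ↔ x⁻¹ * g * x ∈ Uat hF P := by
  obtain ⟨c, hc⟩ := exists_smul_eq_oInf hF P
  have hc' : c⁻¹ • oInf F m = P := by rw [inv_smul_eq_iff, hc]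
  have hxc : (x * c⁻¹) • oInf F m = x • P := by rw [mul_smul, hc']
  rw [mem_Uat_iff hF hm hxc, mem_Uat_iff hF hm hc']
  have e : (x * c⁻¹)⁻¹ * g * (x * c⁻¹) = c⁻¹⁻¹ * (x⁻¹ * g * x) * c⁻¹ := by group
  rw [e]

theorem conj_mem_Uat (hF : Fintype.card F = 2 ^ (2 * m + 1)) (hm : 1 ≤ m)
    {P : Cfsg.suzukiOvoid F m} {g : Cfsg.Sz F m} (hg : g ∈ Uat hF P) (x : Cfsg.Sz F m) :
    x * g * x⁻¹ ∈ Uat hF (x • P) := by
  rw [mem_Uat_smul_iff hF hm]
  have e : x⁻¹ * (x * g * x⁻¹) * x = g := by group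
  rwa [e]

theorem smul_eq_of_mem_Uat (hF : Fintype.card F = 2 ^ (2 * m + 1)) (hm : 1 ≤ m)
    {P : Cfsg.suzukiOvoid F m} {g : Cfsg.Sz F m} (hg : g ∈ Uat hF P) : g • P = P := by
  obtain ⟨c, hc⟩ := exists_smul_eq_oInf hF P
  have hc' : c⁻¹ • oInf F m = P := by rw [inv_smul_eq_iff, hc]
  obtain ⟨a, b, hab⟩ := (mem_Uat_iff hF hm hc' g).mp hg
  have e : g = c⁻¹ * uZ hF a b * c := by rw [← hab]; group
  rw [e, mul_smul, mul_smul, hc, uZ_smul_oInf, hc']

theorem eq_of_mem_Uat_of_smul_eq (hF : Fintype.card F = 2 ^ (2 * m + 1)) (hm : 1 ≤ m)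
    {P Q : Cfsg.suzukiOvoid F m} {g : Cfsg.Sz F m} (hg : g ∈ Uat hF P) (hg1 : g ≠ 1)
    (hQ : g • Q = Q) : Q = P := by
  obtain ⟨c, hc⟩ := exists_smul_eq_oInf hF P
  have hc' : c⁻¹ • oInf F m = P := by rw [inv_smul_eq_iff, hc]
  obtain ⟨a, b, hab⟩ := (mem_Uat_iff hF hm hc' g).mp hg
  have e : g = c⁻¹ * uZ hF a b * c := by rw [← hab]; group
  have hne : uZ hF a b ≠ 1 := by
    intro h
    apply hg1
    rw [e, h]; group
  have h3 : uZ hF a b • (c • Q) = c • Q := by
    have : uZ hF a b = c * g * c⁻¹ := by rw [e]; group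
    rw [this, mul_smul, mul_smul, inv_smul_smul, hQ]
  have h4 := uZ_fix_only hF hne h3
  rw [← hc'] 
  rw [← h4, inv_smul_smul]

theorem Uat_inf_Uat (hF : Fintype.card F = 2 ^ (2 * m + 1)) (hm : 1 ≤ m)
    {P Q : Cfsg.suzukiOvoid F m} (hPQ : P ≠ Q) {g : Cfsg.Sz F m} (hP : g ∈ Uat hF P)
    (hQ : g ∈ Uat hF Q) : g = 1 := by
  by_contra hg1
  have := eq_of_mem_Uat_of_smul_eq hF hm hP hg1 (smul_eq_of_mem_Uat hF hm hQ)
  exact hPQ this.symm

/-- Every involution lies in exactly one `Uat P`. -/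
theorem exists_mem_Uat_of_involution (hF : Fintype.card F = 2 ^ (2 * m + 1)) (hm : 1 ≤ m)
    {x : Cfsg.Sz F m} (hx1 : x ≠ 1) (hx : x * x = 1) : ∃ P, x ∈ Uat hF P := by
  have ho : orderOf x = 2 := by
    apply orderOf_eq_prime
    · rw [sq]; exact hx
    · exact hx1
  obtain ⟨c, b, hb, hxc⟩ := involution_conj hF hm x ho
  refine ⟨c • oInf F m, ?_⟩
  rw [mem_Uat_iff hF hm rfl, hxc]
  have e : c⁻¹ * (c * uZ hF 0 b * c⁻¹) * c = uZ hF 0 b := by group
  rw [e]
  exact uZ_mem_USub hF 0 b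

/-- The centraliser of an involution of `Uat P` lies in `Uat P`. -/
theorem commute_mem_Uat (hF : Fintype.card F = 2 ^ (2 * m + 1)) (hm : 1 ≤ m)
    {P : Cfsg.suzukiOvoid F m} {s : Cfsg.Sz F m} (hs : s ∈ Uat hF P) (hs1 : s ≠ 1)
    (hss : s * s = 1) {g : Cfsg.Sz F m} (hg : g * s = s * g) : g ∈ Uat hF P := by
  obtain ⟨c, hc⟩ := exists_smul_eq_oInf hF P
  have hc' : c⁻¹ • oInf F m = P := by rw [inv_smul_eq_iff, hc]
  obtain ⟨a, b, hab⟩ := (mem_Uat_iff hF hm hc' s).mp hs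
  rw [inv_inv] at hab
  -- `a = 0`
  have hsq : uZ hF a b * uZ hF a b = 1 := by
    rw [← hab]
    calc c * s * c⁻¹ * (c * s * c⁻¹) = c * (s * s) * c⁻¹ := by group
      _ = 1 := by rw [hss]; group
  rw [uZ_sq, ← uZ_zero hF] at hsq
  have ha : a = 0 := by
    rcases mul_eq_zero.mp (uZ_injective hF hsq).2 with h | h
    · exact h
    · exact th_eq_zero h
  subst ha
  have hb : b ≠ 0 := by
    rintro rfl
    apply hs1
    have : s = c⁻¹ * (c * s * c⁻¹) * c := by group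
    rw [this, hab, uZ_zero]; group
  rw [mem_Uat_iff hF hm hc', inv_inv]
  apply centralizer_uZ_le hF hm hb
  rw [mem_centralizer_singleton, ← hab]
  calc c * s * c⁻¹ * (c * g * c⁻¹) = c * (s * g) * c⁻¹ := by group
    _ = c * (g * s) * c⁻¹ := by rw [hg]
    _ = c * g * c⁻¹ * (c * s * c⁻¹) := by group

/-- An element interchanging two points is an involution. -/
theorem mul_self_of_swap (hF : Fintype.card F = 2 ^ (2 * m + 1)) (hm : 1 ≤ m)
    {P Q : Cfsg.suzukiOvoid F m} (hPQ : P ≠ Q) {g : Cfsg.Sz F m} (h1 : g • P = Q)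
    (h2 : g • Q = P) : g * g = 1 := by
  obtain ⟨c, hcP, hcQ⟩ := exists_smul_pair hF hPQ
  set g' := c * g * c⁻¹ with hg'
  have e1 : g' • oInf F m = oPt m 0 0 := by
    rw [hg', mul_smul, mul_smul, ← hcP, inv_smul_smul, h1, hcQ]
  have e2 : g' • oPt m (0 : F) 0 = oInf F m := by
    rw [hg', mul_smul, mul_smul, ← hcQ, inv_smul_smul, h2, hcP]
  obtain ⟨z, hz⟩ := fix_oInf_zero hF hm (wZ hF * g')
    (by rw [mul_smul, e1, wZ_smul_oPt_zero]) (by rw [mul_smul, e2, wZ_smul_oInf])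
  have e3 : g' = wZ hF * hZ hF z := by
    rw [← hz, ← mul_assoc, wZ_mul_wZ, one_mul]
  have e4 : g' * g' = 1 := by
    rw [e3]
    calc wZ hF * hZ hF z * (wZ hF * hZ hF z) = (wZ hF * hZ hF z * wZ hF) * hZ hF z := by
          simp only [mul_assoc]
      _ = 1 := by rw [wZ_hZ_wZ, ← hZ_mul, inv_mul_cancel, hZ_one]
  have : g * g = c⁻¹ * (g' * g') * c := by rw [hg']; group
  rw [this, e4]; group

theorem conj_pow_of_invert {G : Type*} [Group G] {s x : G} (hs : s * s = 1)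
    (hsx : s * x * s = x⁻¹) (n : ℕ) : s * x ^ n * s = (x ^ n)⁻¹ := by
  induction n with
  | zero => simp [hs]
  | succ n ih =>
    have e : s * x ^ (n + 1) * s = (s * x ^ n * s) * (s * x * s) := by
      have : s * x ^ n * s * (s * x * s) = s * x ^ n * (s * s) * x * s := by group
      rw [this, hs, pow_succ]; group
    rw [e, ih, hsx, pow_succ', _root_.mul_inv_rev]

/-- Two involutions whose product has even order are centralised by a common involution. -/
theorem exists_central_involution {G : Type*} [Group G] [Finite G] {s t : G} (hs : s * s = 1)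
    (ht : t * t = 1) (he : 2 ∣ orderOf (s * t)) :
    ∃ z : G, z ≠ 1 ∧ z * z = 1 ∧ z * s = s * z ∧ z * t = t * z := by
  obtain ⟨k, hk⟩ := he
  have hpos : 0 < orderOf (s * t) := orderOf_pos (s * t)
  have hk0 : 0 < k := by
    rcases Nat.eq_zero_or_pos k with h | h
    · rw [h, mul_zero] at hk; omega
    · exact h
  have hsinv : s⁻¹ = s := inv_eq_of_mul_eq_one_right hs
  have htinv : t⁻¹ = t := inv_eq_of_mul_eq_one_right ht
  have hxinv : (s * t)⁻¹ = t * s := by rw [_root_.mul_inv_rev, hsinv, htinv]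
  have hsx : s * (s * t) * s = (s * t)⁻¹ := by
    rw [hxinv]
    calc s * (s * t) * s = (s * s) * t * s := by group
      _ = t * s := by rw [hs, one_mul]
  have hsxk := conj_pow_of_invert hs hsx k
  have hkk : (s * t) ^ k * (s * t) ^ k = 1 := by
    rw [← pow_add, ← two_mul, ← hk, pow_orderOf_eq_one]
  have h1 : ((s * t) ^ k)⁻¹ = (s * t) ^ k := inv_eq_of_mul_eq_one_right hkk
  rw [h1] at hsxk
  have h3 : (s * t) ^ k * s = s * (s * t) ^ k := by
    calc (s * t) ^ k * s = (s * (s * t) ^ k * s) * s := by rw [hsxk]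
      _ = s * (s * t) ^ k * (s * s) := by group
      _ = s * (s * t) ^ k := by rw [hs, mul_one]
  refine ⟨(s * t) ^ k, ?_, hkk, h3, ?_⟩
  · intro h
    have := orderOf_dvd_of_pow_eq_one h
    rw [hk] at this
    have := Nat.le_of_dvd hk0 this
    omega
  · have ht' : t = s * (s * t) := by rw [← mul_assoc, hs, one_mul]
    have hc : (s * t) ^ k * (s * t) = (s * t) * (s * t) ^ k := (Commute.pow_self (s * t) k).eq
    calc (s * t) ^ k * t = (s * t) ^ k * (s * (s * t)) := by rw [← ht']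
      _ = ((s * t) ^ k * s) * (s * t) := by simp only [mul_assoc]
      _ = s * (s * t) ^ k * (s * t) := by rw [h3]
      _ = s * ((s * t) ^ k * (s * t)) := by simp only [mul_assoc]
      _ = s * ((s * t) * (s * t) ^ k) := by rw [hc]
      _ = (s * (s * t)) * (s * t) ^ k := by simp only [mul_assoc]
      _ = t * (s * t) ^ k := by rw [← ht']

/-- Two involutions whose product has odd order are conjugate by an involution of the group
they generate. -/
theorem exists_conj_involution {G : Type*} [Group G] [Finite G] {s t : G} (hs : s * s = 1)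
    (ht : t * t = 1) (ho : ¬ 2 ∣ orderOf (s * t)) (M : Subgroup G) (hsM : s ∈ M) (htM : t ∈ M) :
    ∃ r ∈ M, r * r = 1 ∧ r * s * r⁻¹ = t := by
  obtain ⟨j, hj⟩ : ∃ j, orderOf (s * t) = 2 * j + 1 := by
    have := Nat.mod_two_eq_zero_or_one (orderOf (s * t))
    rcases this with h | h
    · exact absurd (Nat.dvd_of_mod_eq_zero h) ho
    · exact ⟨orderOf (s * t) / 2, by omega⟩
  have hsinv : s⁻¹ = s := inv_eq_of_mul_eq_one_right hs
  have htinv : t⁻¹ = t := inv_eq_of_mul_eq_one_right ht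
  have hxinv : (s * t)⁻¹ = t * s := by rw [_root_.mul_inv_rev, hsinv, htinv]
  have hsx : s * (s * t) * s = (s * t)⁻¹ := by
    rw [hxinv]
    calc s * (s * t) * s = (s * s) * t * s := by group
      _ = t * s := by rw [hs, one_mul]
  have hsxk := conj_pow_of_invert hs hsx j
  have hxM : s * t ∈ M := M.mul_mem hsM htM
  have hrr : (s * t) ^ j * s * ((s * t) ^ j * s) = 1 := by
    calc (s * t) ^ j * s * ((s * t) ^ j * s) = (s * t) ^ j * (s * (s * t) ^ j * s) := by group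
      _ = 1 := by rw [hsxk, mul_inv_cancel]
  refine ⟨(s * t) ^ j * s, M.mul_mem (M.pow_mem hxM j) hsM, hrr, ?_⟩
  have h0 : ((s * t) ^ j * s)⁻¹ = (s * t) ^ j * s := inv_eq_of_mul_eq_one_right hrr
  have h2 : (s * t) ^ (j + j) = (s * t)⁻¹ := by
    apply eq_inv_of_mul_eq_one_left
    rw [← pow_succ, ← two_mul, ← hj, pow_orderOf_eq_one]
  rw [h0]
  calc (s * t) ^ j * s * s * ((s * t) ^ j * s)
      = (s * t) ^ j * (s * s) * (s * t) ^ j * s := by group
    _ = (s * t) ^ (j + j) * s := by rw [hs, mul_one, pow_add]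
    _ = t := by rw [h2, hxinv, mul_assoc, hs, mul_one]

end Cfsg.Agent.Lib.Helper4.Suz
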