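import Mathlib
import Cfsg.Prelude.Def_LieExceptional
import Cfsg.Agent.Lib.Helper4.Suz30

/-!
# Suzuki groups, part 31: subgroups of odd order
-/

set_option autoImplicit false
set_option linter.unusedSimpArgs false
set_option linter.unusedVariables false
set_option linter.style.haveILetI false

namespace Cfsg.Agent.Lib.Helper4.Suz

open MulAction

/-- Frobenius-type counting: a finite group partitioned by self-normalising subgroups, the
partition being closed under conjugation, is one of the parts. -/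
theorem top_mem_of_partition {M : Type*} [Group M] [Finite M] (D : Set (Subgroup M))
    (hcov : ∀ g : M, g ≠ 1 → ∃ A ∈ D, g ∈ A)
    (hdis : ∀ A ∈ D, ∀ B ∈ D, ∀ g : M, g ≠ 1 → g ∈ A → g ∈ B → A = B)
    (hconj : ∀ A ∈ D, ∀ x : M, A.map (MulAut.conj x).toMonoidHom ∈ D)
    (hnorm : ∀ A ∈ D, Subgroup.normalizer (A : Set M) ≤ A)
    (hne : ∃ g : M, g ≠ 1) : (⊤ : Subgroup M) ∈ D := by
  classical
  obtain ⟨g₀, hg₀⟩ := hne
  obtain ⟨A, hA, hgA⟩ := hcov g₀ hg₀
  -- general facts about a part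
  have hTI : ∀ B ∈ D, ∀ g : M, ∀ a ∈ B, a ≠ 1 → g * a * g⁻¹ ∈ B →
      g ∈ Subgroup.normalizer (B : Set M) := by
    intro B hB g a ha ha1 hga
    have h1 : B.map (MulAut.conj g).toMonoidHom ∈ D := hconj B hB g
    have h2 : g * a * g⁻¹ ∈ B.map (MulAut.conj g).toMonoidHom :=
      Subgroup.mem_map.mpr ⟨a, ha, by simp [MulAut.conj_apply]⟩
    have h3 : g * a * g⁻¹ ≠ 1 := by
      intro h
      apply ha1
      have : a = g⁻¹ * (g * a * g⁻¹) * g := by group
      rw [this, h]; group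
    have h4 := hdis _ h1 B hB _ h3 h2 hga
    apply mem_normalizer_of_conj_mem
    intro b hb
    rw [← h4]
    exact Subgroup.mem_map.mpr ⟨b, hb, by simp [MulAut.conj_apply]⟩
  have hcount : ∀ B ∈ D, Nat.card (YSet B) * Nat.card B = Nat.card M * (Nat.card B - 1) := by
    intro B hB
    have h := card_YSet B (hTI B hB)
    have : Subgroup.normalizer (B : Set M) = B :=
      le_antisymm (hnorm B hB) Subgroup.le_normalizer
    rwa [this] at h
  have hhalf : ∀ B ∈ D, (∃ b ∈ B, b ≠ 1) → Nat.card M ≤ 2 * Nat.card (YSet B) := by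
    intro B hB ⟨b, hb, hb1⟩
    have h := hcount B hB
    have h2 : 2 ≤ Nat.card B := by
      have : 1 < Nat.card B := by
        rw [Subgroup.one_lt_card_iff_ne_bot]
        intro h'
        rw [h'] at hb
        exact hb1 (Subgroup.mem_bot.mp hb)
      omega
    obtain ⟨e, he⟩ : ∃ e, Nat.card B = e + 2 := ⟨Nat.card B - 2, by omega⟩
    rw [he] at h
    have h3 : e + 2 - 1 = e + 1 := by omega
    rw [h3] at h
    have hpos : 0 < e + 2 := by omega
    apply Nat.le_of_mul_le_mul_right (c := e + 2) _ hpos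
    calc Nat.card M * (e + 2) ≤ 2 * (Nat.card M * (e + 1)) := by nlinarith
      _ = 2 * Nat.card (YSet B) * (e + 2) := by rw [← h]; ring
  by_cases hall : ∀ g : M, g ≠ 1 → g ∈ YSet A
  · -- every nonidentity element is conjugate into `A`
    have hY : Nat.card (YSet A) = Nat.card M - 1 := by
      rw [← card_ne_one']
      apply Nat.card_congr
      refine ⟨fun y => ⟨y.1, y.2.1⟩, fun y => ⟨y.1, hall y.1 y.2⟩, ?_, ?_⟩
      · intro y; rfl
      · intro y; rfl
    have h := hcount A hA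
    rw [hY] at h
    have hM : 1 ≤ Nat.card M := Nat.card_pos
    have hAc : 1 ≤ Nat.card A := Nat.card_pos
    have hAM : Nat.card A ≤ Nat.card M := Subgroup.card_le_card_group A
    have heq : Nat.card A = Nat.card M := by
      obtain ⟨n, hn⟩ : ∃ n, Nat.card M = n + 1 := ⟨Nat.card M - 1, by omega⟩
      obtain ⟨a, ha⟩ : ∃ a, Nat.card A = a + 1 := ⟨Nat.card A - 1, by omega⟩
      rw [hn, ha] at h
      simp only [Nat.add_sub_cancel] at h
      rw [hn, ha]
      nlinarith
    have : A = ⊤ := Subgroup.eq_top_of_card_eq A heq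
    rw [← this]; exact hA
  · exfalso
    rw [not_forall] at hall
    obtain ⟨g', hg'⟩ := hall
    rw [Classical.not_imp] at hg'
    obtain ⟨hg'1, hg'Y⟩ := hg'
    obtain ⟨B, hB, hgB⟩ := hcov g' hg'1
    have hdisj : Disjoint (YSet A) (YSet B) := by
      rw [Set.disjoint_left]
      rintro y ⟨hy1, x, a, ha, hya⟩ ⟨-, x', b, hb, hyb⟩
      have h1 : A.map (MulAut.conj x).toMonoidHom ∈ D := hconj A hA x
      have h2 : B.map (MulAut.conj x').toMonoidHom ∈ D := hconj B hB x'
      have h3 : y ∈ A.map (MulAut.conj x).toMonoidHom :=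
        Subgroup.mem_map.mpr ⟨a, ha, by simp [MulAut.conj_apply, hya]⟩
      have h4 : y ∈ B.map (MulAut.conj x').toMonoidHom :=
        Subgroup.mem_map.mpr ⟨b, hb, by simp [MulAut.conj_apply, hyb]⟩
      have h5 := hdis _ h1 _ h2 y hy1 h3 h4
      have h6 : x' * g' * x'⁻¹ ∈ B.map (MulAut.conj x').toMonoidHom :=
        Subgroup.mem_map.mpr ⟨g', hgB, by simp [MulAut.conj_apply]⟩
      rw [← h5] at h6
      obtain ⟨a', ha', hax⟩ := Subgroup.mem_map.mp h6
      simp only [MulEquiv.coe_toMonoidHom, MulAut.conj_apply] at hax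
      apply hg'Y
      refine ⟨hg'1, x'⁻¹ * x, a', ha', ?_⟩
      have : g' = x'⁻¹ * (x' * g' * x'⁻¹) * x' := by group
      rw [this, ← hax]; group
    have hsub : ∀ C : Subgroup M, YSet C ⊆ {y : M | y ≠ 1} := fun C y hy => hy.1
    have hle := card_union_le (YSet A) (YSet B) {y : M | y ≠ 1} (hsub A) (hsub B) hdisj
    have hc1 : Nat.card {y : M | y ≠ 1} = Nat.card M - 1 := card_ne_one'
    rw [hc1] at hle
    have hA2 := hhalf A hA ⟨g₀, hgA, hg₀⟩
    have hB2 := hhalf B hB ⟨g', hgB, hg'1⟩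
    have hM : 1 ≤ Nat.card M := Nat.card_pos
    omega

variable {F : Type*} [Field F] [Fintype F] {m : ℕ}

/-- Cyclic subgroups of the three standard orders. -/
def InList (U : Subgroup (Cfsg.Sz F m)) : Prop :=
  IsCyclic U ∧ Nat.card U ∈ ({2 ^ (2 * m + 1) - 1, 2 ^ (2 * m + 1) + 2 ^ (m + 1) + 1,
        2 ^ (2 * m + 1) - 2 ^ (m + 1) + 1} : Set ℕ)

theorem InList.eq_of_common (hF : Fintype.card F = 2 ^ (2 * m + 1)) (hm : 1 ≤ m)
    {U U' : Subgroup (Cfsg.Sz F m)} (hU : InList U) (hU' : InList U') {g : Cfsg.Sz F m}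
    (hg : g ≠ 1) (h1 : g ∈ U) (h2 : g ∈ U') : U = U' := by
  obtain ⟨W, -, hW⟩ := partition hF hm g hg
  rw [hW U ⟨Or.inr hU, h1⟩, hW U' ⟨Or.inr hU', h2⟩]

theorem InList.conj {U : Subgroup (Cfsg.Sz F m)} (hU : InList U) (c : Cfsg.Sz F m) :
    InList (U.map (MulAut.conj c).toMonoidHom) := by
  refine ⟨isCyclic_map_conj U hU.1 c, ?_⟩
  rw [card_map_conj]; exact hU.2

theorem odd_order_eq_one_of_two_pow {G : Type*} [Group G] {g : G} {k : ℕ}
    (h1 : orderOf g ∣ 2 ^ k) (h2 : ¬ 2 ∣ orderOf g) : g = 1 := by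
  rw [← orderOf_eq_one_iff]
  obtain ⟨j, -, hj⟩ := (Nat.dvd_prime_pow Nat.prime_two).mp h1
  rcases Nat.eq_zero_or_pos j with h | h
  · rw [hj, h, pow_zero]
  · exfalso; apply h2; rw [hj]; exact dvd_pow_self 2 h.ne'

theorem exists_inList_of_odd (hF : Fintype.card F = 2 ^ (2 * m + 1)) (hm : 1 ≤ m)
    {g : Cfsg.Sz F m} (hg : g ≠ 1) (hodd : ¬ 2 ∣ orderOf g) :
    ∃ U : Subgroup (Cfsg.Sz F m), InList U ∧ g ∈ U := by
  haveI : Fact (Nat.Prime 2) := ⟨Nat.prime_two⟩
  obtain ⟨W, ⟨hW, hgW⟩, -⟩ := partition hF hm g hg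
  rcases hW with ⟨P, rfl⟩ | hW
  · exfalso
    have h3 : orderOf g ∣ Nat.card (P : Subgroup (Cfsg.Sz F m)) :=
      Subgroup.orderOf_dvd_natCard _ hgW
    rw [Sylow.card_eq_multiplicity] at h3
    exact hg (odd_order_eq_one_of_two_pow h3 hodd)
  · exact ⟨W, hW, hgW⟩

theorem InList.five_le {U : Subgroup (Cfsg.Sz F m)} (hU : InList U) (hm : 1 ≤ m) :
    5 ≤ Nat.card U := by
  have hq := q_ge m hm
  have hs : 1 ≤ 2 ^ (m + 1) := Nat.one_le_two_pow
  have hfac := pow_facts m
  have hr : 2 ≤ 2 ^ m := by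
    calc 2 = 2 ^ 1 := by norm_num
      _ ≤ 2 ^ m := Nat.pow_le_pow_right (by norm_num) hm
  rcases hU.2 with h | h | h
  · rw [h]; omega
  · rw [h]; omega
  · simp only [Set.mem_singleton_iff] at h
    rw [h, hfac.1, hfac.2]
    have : 2 * 2 ^ m + 4 ≤ 2 * (2 ^ m) ^ 2 := by nlinarith
    omega

/-- Structure of the cyclic subgroups of the three standard orders. -/
theorem InList.cases (hF : Fintype.card F = 2 ^ (2 * m + 1)) (hm : 1 ≤ m)
    {U : Subgroup (Cfsg.Sz F m)} (hU : InList U) :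
    IsA U ∨ ∃ c : Cfsg.Sz F m, U = (Tor hF).map (MulAut.conj c).toMonoidHom := by
  obtain ⟨A₁, A₂, hA₁, hA₂, h1, h2, -, -, -⟩ := exists_two_classes hF hm
  have h5 := hU.five_le hm
  haveI := hU.1
  obtain ⟨g, hg⟩ := IsCyclic.exists_generator (α := U)
  have hog : orderOf (g : Cfsg.Sz F m) = Nat.card U := by
    rw [Subgroup.orderOf_coe, orderOf_eq_card_of_forall_mem_zpowers hg]
  obtain ⟨p, hp, hpd⟩ := Nat.exists_prime_and_dvd (show Nat.card U ≠ 1 by omega)
  haveI : Fact p.Prime := ⟨hp⟩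
  have hpo : p ∣ orderOf (g : Cfsg.Sz F m) := by rw [hog]; exact hpd
  have ho : orderOf ((g : Cfsg.Sz F m) ^ (orderOf (g : Cfsg.Sz F m) / p)) = p :=
    orderOf_pow_orderOf_div (orderOf_pos _).ne' hpo
  set x := (g : Cfsg.Sz F m) ^ (orderOf (g : Cfsg.Sz F m) / p) with hx
  have hxU : x ∈ U := U.pow_mem g.2 _
  have hle : U ≤ Subgroup.centralizer ({x} : Set (Cfsg.Sz F m)) :=
    le_centralizer_of_isCyclic U hU.1 hxU
  have hIsA : ∀ A' : Subgroup (Cfsg.Sz F m), IsA A' → Nat.card U = Nat.card A' → IsA U := by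
    intro A' hA' hcard
    have hpN : p ∣ NN m := (hcard ▸ hpd).trans (hA'.card_dvd hF hm)
    have hC : IsA (Subgroup.centralizer ({x} : Set (Cfsg.Sz F m))) := ⟨x, p, hp, hpN, ho, rfl⟩
    have hpC : p ∣ Nat.card (Subgroup.centralizer ({x} : Set (Cfsg.Sz F m))) := by
      rw [← ho]
      exact Subgroup.orderOf_dvd_natCard _ (mem_centralizer_self x)
    obtain ⟨c, hc⟩ := hA'.conj_of_common_prime hF hm hC hp (hcard ▸ hpd) hpC
    have hcc : Nat.card (Subgroup.centralizer ({x} : Set (Cfsg.Sz F m))) = Nat.card U := by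
      rw [hc, card_map_conj, hcard]
    have : U = Subgroup.centralizer ({x} : Set (Cfsg.Sz F m)) :=
      Subgroup.eq_of_le_of_card_ge hle (le_of_eq hcc)
    rw [this]; exact hC
  rcases hU.2 with h | h | h
  · right
    have hp2 : p ≠ 2 := by
      rintro rfl
      rw [h] at hpd
      exact q_sub_one_odd m hpd
    obtain ⟨c, z, hz, hy⟩ := dvd_sub_conj hF hm hp2 (h ▸ hpd) x ho
    refine ⟨c, ?_⟩
    have hle2 : U ≤ (Tor hF).map (MulAut.conj c).toMonoidHom := by
      refine le_trans hle ?_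
      rw [hy]
      exact centralizer_conj_hZ_le hF hm hz c
    apply Subgroup.eq_of_le_of_card_ge hle2
    rw [card_map_conj, card_Tor, h]
  · left
    exact hIsA A₁ hA₁ (by rw [h, h1])
  · left
    simp only [Set.mem_singleton_iff] at h
    exact hIsA A₂ hA₂ (by rw [h, h2])

theorem pow_mem_of_mem_normalizer {G : Type*} [Group G] [Finite G] (H : Subgroup G) {n : ℕ}
    (hn : Nat.card (Subgroup.normalizer (H : Set G)) = n * Nat.card H) {x : G}
    (hx : x ∈ Subgroup.normalizer (H : Set G)) : x ^ n ∈ H := by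
  set N := Subgroup.normalizer (H : Set G) with hN
  have hle : H ≤ N := Subgroup.le_normalizer
  have h1 : Nat.card (H.subgroupOf N) = Nat.card H :=
    Nat.card_congr (Subgroup.subgroupOfEquivOfLe hle).toEquiv
  have h2 := Subgroup.index_mul_card (H.subgroupOf N)
  rw [h1, hn] at h2
  have hpos : 0 < Nat.card H := Nat.card_pos
  have h3 : (H.subgroupOf N).index = n := Nat.eq_of_mul_eq_mul_right hpos h2
  have h4 := Subgroup.pow_index_mem (H.subgroupOf N) (⟨x, hx⟩ : N)
  rw [h3, Subgroup.mem_subgroupOf] at h4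
  simpa using h4

theorem mem_of_pow_mem_of_coprime {G : Type*} [Group G] (H : Subgroup G) {n : ℕ} {x : G}
    (h : x ^ n ∈ H) (hc : Nat.Coprime n (orderOf x)) : x ∈ H := by
  by_cases h1 : orderOf x = 1
  · rw [orderOf_eq_one_iff] at h1
    rw [h1]; exact H.one_mem
  · by_cases h0 : orderOf x = 0
    · rw [h0, Nat.coprime_zero_right] at hc
      rw [hc, pow_one] at h; exact h
    · have hk : 1 < orderOf x := by omega
      obtain ⟨j, -, hj⟩ := Nat.exists_mul_mod_eq_one_of_coprime hc hk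
      have h2 : (x ^ n) ^ j = x := by
        rw [← pow_mul, ← pow_mod_orderOf, hj, pow_one]
      rw [← h2]
      exact H.pow_mem h j

theorem mem_Tor_of_normalizer (hF : Fintype.card F = 2 ^ (2 * m + 1)) (hm : 1 ≤ m)
    {y : Cfsg.Sz F m} (hy : y ∈ Subgroup.normalizer (Tor hF : Set (Cfsg.Sz F m)))
    (hodd : ¬ 2 ∣ orderOf y) : y ∈ Tor hF := by
  obtain ⟨z, hz⟩ := exists_unit_ne_one hF hm
  have h1 : y * hZ hF z * y⁻¹ ∈ Tor hF :=
    (Subgroup.mem_normalizer_iff.mp hy _).mp (hZ_mem_Tor hF z)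
  obtain ⟨z', hz'⟩ := (mem_Tor_iff hF _).mp h1
  have hz'1 : z' ≠ 1 := by
    rintro rfl
    rw [hZ_one] at hz'
    apply hz
    apply hZ_injective hF
    rw [hZ_one]
    have : hZ hF z = y⁻¹ * (y * hZ hF z * y⁻¹) * y := by group
    rw [this, hz']; group
  have hfix : ∀ P : Cfsg.suzukiOvoid F m, hZ hF z • P = P → hZ hF z' • (y • P) = y • P := by
    intro P hP
    rw [← hz', mul_smul, mul_smul, inv_smul_smul, hP]
  have ha := hZ_fixed_cases hF hz'1 (hfix _ (hZ_smul_oInf hF z))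
  have hb := hZ_fixed_cases hF hz'1 (hfix _ (hZ_smul_zero hF z))
  have hne : y • oInf F m ≠ y • oPt m (0 : F) 0 := by
    intro h
    exact oPt_ne_oInf (0 : F) 0 ((MulAction.injective y h).symm)
  rcases ha with ha | ha
  · rcases hb with hb | hb
    · exact absurd (ha.trans hb.symm) hne
    · obtain ⟨w, hw⟩ := fix_oInf_zero hF hm y ha hb
      rw [hw]; exact hZ_mem_Tor hF w
  · rcases hb with hb | hb
    · exfalso
      have hsq := mul_self_of_swap hF hm (oPt_ne_oInf (0 : F) 0).symm ha hb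
      have hd : orderOf y ∣ 2 ^ 1 := by
        rw [pow_one]; apply orderOf_dvd_of_pow_eq_one; rw [sq]; exact hsq
      have := odd_order_eq_one_of_two_pow hd hodd
      rw [this, one_smul] at ha
      exact oPt_ne_oInf (0 : F) 0 ha.symm
    · exact absurd (ha.trans hb.symm) hne

theorem mem_normalizer_conj_iff {G : Type*} [Group G] (H : Subgroup G) (c x : G) :
    x ∈ Subgroup.normalizer ((H.map (MulAut.conj c).toMonoidHom : Subgroup G) : Set G) ↔
      c⁻¹ * x * c ∈ Subgroup.normalizer (H : Set G) := by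
  rw [Subgroup.mem_normalizer_iff, Subgroup.mem_normalizer_iff]
  constructor
  · intro h a
    have h1 := h (c * a * c⁻¹)
    have e1 : c * a * c⁻¹ ∈ H.map (MulAut.conj c).toMonoidHom ↔ a ∈ H := by
      rw [Subgroup.mem_map]
      constructor
      · rintro ⟨b, hb, hbe⟩
        simp only [MulEquiv.coe_toMonoidHom, MulAut.conj_apply] at hbe
        have : a = b := by
          have : a = c⁻¹ * (c * a * c⁻¹) * c := by group
          rw [this, ← hbe]; group
        rw [this]; exact hb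
      · intro ha; exact ⟨a, ha, by simp [MulAut.conj_apply]⟩
    have e2 : x * (c * a * c⁻¹) * x⁻¹ ∈ H.map (MulAut.conj c).toMonoidHom ↔
        c⁻¹ * x * c * a * (c⁻¹ * x * c)⁻¹ ∈ H := by
      rw [Subgroup.mem_map]
      constructor
      · rintro ⟨b, hb, hbe⟩
        simp only [MulEquiv.coe_toMonoidHom, MulAut.conj_apply] at hbe
        have : c⁻¹ * x * c * a * (c⁻¹ * x * c)⁻¹ = b := by
          have : c⁻¹ * x * c * a * (c⁻¹ * x * c)⁻¹ = c⁻¹ * (x * (c * a * c⁻¹) * x⁻¹) * c := by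
            group
          rw [this, ← hbe]; group
        rw [this]; exact hb
      · intro ha
        refine ⟨_, ha, ?_⟩
        simp only [MulEquiv.coe_toMonoidHom, MulAut.conj_apply]
        group
    rw [← e1, ← e2]; exact h1
  · intro h a
    have h1 := h (c⁻¹ * a * c)
    have e1 : a ∈ H.map (MulAut.conj c).toMonoidHom ↔ c⁻¹ * a * c ∈ H := by
      rw [Subgroup.mem_map]
      constructor
      · rintro ⟨b, hb, hbe⟩
        simp only [MulEquiv.coe_toMonoidHom, MulAut.conj_apply] at hbe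
        have : c⁻¹ * a * c = b := by rw [← hbe]; group
        rw [this]; exact hb
      · intro ha
        refine ⟨_, ha, ?_⟩
        simp only [MulEquiv.coe_toMonoidHom, MulAut.conj_apply]
        group
    have e2 : x * a * x⁻¹ ∈ H.map (MulAut.conj c).toMonoidHom ↔
        c⁻¹ * x * c * (c⁻¹ * a * c) * (c⁻¹ * x * c)⁻¹ ∈ H := by
      rw [Subgroup.mem_map]
      constructor
      · rintro ⟨b, hb, hbe⟩
        simp only [MulEquiv.coe_toMonoidHom, MulAut.conj_apply] at hbe
        have : c⁻¹ * x * c * (c⁻¹ * a * c) * (c⁻¹ * x * c)⁻¹ = b := by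
          have : c⁻¹ * x * c * (c⁻¹ * a * c) * (c⁻¹ * x * c)⁻¹ = c⁻¹ * (x * a * x⁻¹) * c := by
            group
          rw [this, ← hbe]; group
        rw [this]; exact hb
      · intro ha
        refine ⟨_, ha, ?_⟩
        simp only [MulEquiv.coe_toMonoidHom, MulAut.conj_apply]
        group
    rw [e1, e2]; exact h1

theorem orderOf_conj'' {G : Type*} [Group G] (c u : G) : orderOf (c⁻¹ * u * c) = orderOf u := by
  have := orderOf_conj' c⁻¹ u
  rwa [inv_inv] at this

/-- Elements of odd order normalising a standard cyclic subgroup lie in it. -/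
theorem InList.mem_of_normalizer (hF : Fintype.card F = 2 ^ (2 * m + 1)) (hm : 1 ≤ m)
    {U : Subgroup (Cfsg.Sz F m)} (hU : InList U) {x : Cfsg.Sz F m}
    (hx : x ∈ Subgroup.normalizer (U : Set (Cfsg.Sz F m))) (hodd : ¬ 2 ∣ orderOf x) : x ∈ U := by
  rcases hU.cases hF hm with hA | ⟨c, rfl⟩
  · obtain ⟨n, hn, hcard⟩ := hA.exists_index hF hm
    have h1 := pow_mem_of_mem_normalizer U hcard hx
    apply mem_of_pow_mem_of_coprime U h1
    have h2 : Nat.Coprime 2 (orderOf x) := (Nat.Prime.coprime_iff_not_dvd Nat.prime_two).mpr hodd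
    rcases hn with rfl | rfl | rfl
    · exact Nat.coprime_one_left _
    · exact h2
    · exact Nat.Coprime.pow_left 2 h2
  · rw [mem_normalizer_conj_iff] at hx
    have h1 := mem_Tor_of_normalizer hF hm hx (by rw [orderOf_conj'']; exact hodd)
    rw [Subgroup.mem_map]
    refine ⟨_, h1, ?_⟩
    simp only [MulEquiv.coe_toMonoidHom, MulAut.conj_apply]
    group

theorem subgroupOf_map_conj {G : Type*} [Group G] (U M : Subgroup G) (x : M) :
    (U.subgroupOf M).map (MulAut.conj x).toMonoidHom =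
      (U.map (MulAut.conj (x : G)).toMonoidHom).subgroupOf M := by
  ext y
  rw [Subgroup.mem_map, Subgroup.mem_subgroupOf, Subgroup.mem_map]
  constructor
  · rintro ⟨d, hd, hde⟩
    rw [Subgroup.mem_subgroupOf] at hd
    refine ⟨(d : G), hd, ?_⟩
    rw [← hde]
    simp [MulAut.conj_apply]
  · rintro ⟨d, hd, hde⟩
    simp only [MulEquiv.coe_toMonoidHom, MulAut.conj_apply] at hde
    have hdM : d ∈ M := by
      have : d = (x : G)⁻¹ * (y : G) * (x : G) := by rw [← hde]; group
      rw [this]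
      exact M.mul_mem (M.mul_mem (M.inv_mem x.2) y.2) x.2
    refine ⟨⟨d, hdM⟩, ?_, ?_⟩
    · rw [Subgroup.mem_subgroupOf]; exact hd
    · apply Subtype.ext
      simp only [MulEquiv.coe_toMonoidHom, MulAut.conj_apply, Subgroup.coe_mul,
        Subgroup.coe_inv]
      exact hde

/-- Subgroups of odd order are contained in one of the standard cyclic subgroups. -/
theorem exists_inList_of_odd_sub (hF : Fintype.card F = 2 ^ (2 * m + 1)) (hm : 1 ≤ m)
    (M : Subgroup (Cfsg.Sz F m)) (hodd : ∀ g ∈ M, ¬ 2 ∣ orderOf g) (hne : M ≠ ⊥) :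
    ∃ U : Subgroup (Cfsg.Sz F m), InList U ∧ M ≤ U := by
  let D : Set (Subgroup M) := {A | ∃ U : Subgroup (Cfsg.Sz F m), InList U ∧
    A = U.subgroupOf M ∧ A ≠ ⊥}
  have hne1 : ∀ g : M, g ≠ 1 → (g : Cfsg.Sz F m) ≠ 1 := by
    intro g hg h
    apply hg
    exact Subtype.ext h
  have key : (⊤ : Subgroup M) ∈ D := by
    apply top_mem_of_partition D
    · intro g hg
      obtain ⟨U, hU, hgU⟩ := exists_inList_of_odd hF hm (hne1 g hg) (hodd g g.2)
      refine ⟨U.subgroupOf M, ⟨U, hU, rfl, ?_⟩, ?_⟩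
      · intro h
        have : g ∈ U.subgroupOf M := by rw [Subgroup.mem_subgroupOf]; exact hgU
        rw [h, Subgroup.mem_bot] at this
        exact hg this
      · rw [Subgroup.mem_subgroupOf]; exact hgU
    · rintro A ⟨U, hU, rfl, -⟩ B ⟨U', hU', rfl, -⟩ g hg hgA hgB
      rw [Subgroup.mem_subgroupOf] at hgA hgB
      rw [hU.eq_of_common hF hm hU' (hne1 g hg) hgA hgB]
    · rintro A ⟨U, hU, rfl, hbot⟩ x
      refine ⟨U.map (MulAut.conj (x : Cfsg.Sz F m)).toMonoidHom, hU.conj _,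
        subgroupOf_map_conj U M x, ?_⟩
      intro h
      apply hbot
      rw [eq_bot_iff]
      intro d hd
      have : (MulAut.conj x).toMonoidHom d ∈
          (U.subgroupOf M).map (MulAut.conj x).toMonoidHom := Subgroup.mem_map_of_mem _ hd
      rw [h, Subgroup.mem_bot] at this
      rw [Subgroup.mem_bot]
      simp only [MulEquiv.coe_toMonoidHom, MulAut.conj_apply] at this
      have e : d = x⁻¹ * (x * d * x⁻¹) * x := by group
      rw [e, this]; group
    · rintro A ⟨U, hU, rfl, hbot⟩ y hy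
      rw [Subgroup.mem_subgroupOf]
      obtain ⟨d, hd, hd1⟩ : ∃ d ∈ U.subgroupOf M, d ≠ 1 := by
        by_contra hcon
        apply hbot
        rw [eq_bot_iff]
        intro d hd
        rw [Subgroup.mem_bot]
        by_contra hd1
        exact hcon ⟨d, hd, hd1⟩
      have h1 : y * d * y⁻¹ ∈ U.subgroupOf M := (Subgroup.mem_normalizer_iff.mp hy d).mp hd
      rw [Subgroup.mem_subgroupOf] at h1 hd
      simp only [Subgroup.coe_mul, Subgroup.coe_inv] at h1
      have h2 : (y : Cfsg.Sz F m) * d * (y : Cfsg.Sz F m)⁻¹ ∈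
          U.map (MulAut.conj (y : Cfsg.Sz F m)).toMonoidHom :=
        Subgroup.mem_map.mpr ⟨d, hd, by simp [MulAut.conj_apply]⟩
      have h3 : (y : Cfsg.Sz F m) * d * (y : Cfsg.Sz F m)⁻¹ ≠ 1 := by
        intro h
        apply hne1 d hd1
        have : (d : Cfsg.Sz F m) = (y : Cfsg.Sz F m)⁻¹ *
            ((y : Cfsg.Sz F m) * d * (y : Cfsg.Sz F m)⁻¹) * (y : Cfsg.Sz F m) := by group
        rw [this, h]; group
      have h4 := hU.eq_of_common hF hm (hU.conj (y : Cfsg.Sz F m)) h3 h1 h2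
      have h5 : (y : Cfsg.Sz F m) ∈ Subgroup.normalizer (U : Set (Cfsg.Sz F m)) := by
        apply mem_normalizer_of_conj_mem
        intro b hb
        rw [h4]
        exact Subgroup.mem_map.mpr ⟨b, hb, by simp [MulAut.conj_apply]⟩
      exact hU.mem_of_normalizer hF hm h5 (hodd y y.2)
    · by_contra hcon
      apply hne
      rw [eq_bot_iff]
      intro g hg
      rw [Subgroup.mem_bot]
      by_contra hg1
      apply hcon
      refine ⟨⟨g, hg⟩, ?_⟩
      intro h
      exact hg1 (congrArg Subtype.val h)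
  obtain ⟨U, hU, hUtop, -⟩ := key
  refine ⟨U, hU, ?_⟩
  exact Subgroup.subgroupOf_eq_top.mp hUtop.symm

/-- A subgroup normalising a nontrivial subgroup of odd order normalises a standard cyclic
subgroup. -/
theorem exists_inList_normalizer (hF : Fintype.card F = 2 ^ (2 * m + 1)) (hm : 1 ≤ m)
    (K M : Subgroup (Cfsg.Sz F m)) (hodd : ∀ g ∈ K, ¬ 2 ∣ orderOf g) (hne : K ≠ ⊥)
    (hM : M ≤ Subgroup.normalizer (K : Set (Cfsg.Sz F m))) :
    ∃ U : Subgroup (Cfsg.Sz F m), InList U ∧ M ≤ Subgroup.normalizer (U : Set (Cfsg.Sz F m)) := by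
  obtain ⟨U, hU, hKU⟩ := exists_inList_of_odd_sub hF hm K hodd hne
  refine ⟨U, hU, ?_⟩
  obtain ⟨d, hd, hd1⟩ : ∃ d ∈ K, d ≠ 1 := by
    by_contra hcon
    apply hne
    rw [eq_bot_iff]
    intro d hd
    rw [Subgroup.mem_bot]
    by_contra hd1
    exact hcon ⟨d, hd, hd1⟩
  intro y hy
  have h1 : y * d * y⁻¹ ∈ K := (Subgroup.mem_normalizer_iff.mp (hM hy) d).mp hd
  have h2 : y * d * y⁻¹ ∈ U.map (MulAut.conj y).toMonoidHom :=
    Subgroup.mem_map.mpr ⟨d, hKU hd, by simp [MulAut.conj_apply]⟩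
  have h3 : y * d * y⁻¹ ≠ 1 := by
    intro h
    apply hd1
    have : d = y⁻¹ * (y * d * y⁻¹) * y := by group
    rw [this, h]; group
  have h4 := hU.eq_of_common hF hm (hU.conj y) h3 (hKU h1) h2
  apply mem_normalizer_of_conj_mem
  intro b hb
  rw [h4]
  exact Subgroup.mem_map.mpr ⟨b, hb, by simp [MulAut.conj_apply]⟩

end Cfsg.Agent.Lib.Helper4.Suz
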