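import Mathlib
import Cfsg.Prelude.Def_LieExceptional
import Cfsg.Agent.Lib.Helper4.Suz31

/-!
# Suzuki groups, part 32: counting involutions in a subgroup
-/

set_option autoImplicit false
set_option linter.unusedSimpArgs false
set_option linter.unusedVariables false
set_option linter.style.haveILetI false

namespace Cfsg.Agent.Lib.Helper4.Suz

open MulAction

variable {F : Type*} [Field F] [Fintype F] {m : ℕ}

/-- The points of the ovoid fixed by some involution of `M`. -/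
def Del (hF : Fintype.card F = 2 ^ (2 * m + 1)) (M : Subgroup (Cfsg.Sz F m)) :
    Set (Cfsg.suzukiOvoid F m) :=
  {P | ∃ t ∈ M, t ≠ 1 ∧ t * t = 1 ∧ t ∈ Uat hF P}

theorem conj_ne_one {G : Type*} [Group G] {t : G} (ht : t ≠ 1) (g : G) : g * t * g⁻¹ ≠ 1 := by
  intro h
  apply ht
  have : t = g⁻¹ * (g * t * g⁻¹) * g := by group
  rw [this, h]; group

theorem conj_mul_self {G : Type*} [Group G] {t : G} (ht : t * t = 1) (g : G) :
    g * t * g⁻¹ * (g * t * g⁻¹) = 1 := by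
  have : g * t * g⁻¹ * (g * t * g⁻¹) = g * (t * t) * g⁻¹ := by group
  rw [this, ht]; group

theorem Del_smul (hF : Fintype.card F = 2 ^ (2 * m + 1)) (hm : 1 ≤ m)
    {M : Subgroup (Cfsg.Sz F m)} {P : Cfsg.suzukiOvoid F m} (hP : P ∈ Del hF M)
    {g : Cfsg.Sz F m} (hg : g ∈ M) : g • P ∈ Del hF M := by
  obtain ⟨t, htM, ht1, htt, htU⟩ := hP
  exact ⟨g * t * g⁻¹, M.mul_mem (M.mul_mem hg htM) (M.inv_mem hg), conj_ne_one ht1 g,
    conj_mul_self htt g, conj_mem_Uat hF hm htU g⟩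

/-- Any two points of `Del` are interchanged by an involution of `M`. -/
theorem exists_swap (hF : Fintype.card F = 2 ^ (2 * m + 1)) (hm : 1 ≤ m)
    {M : Subgroup (Cfsg.Sz F m)} {P Q : Cfsg.suzukiOvoid F m} (hP : P ∈ Del hF M)
    (hQ : Q ∈ Del hF M) (hPQ : P ≠ Q) : ∃ r ∈ M, r * r = 1 ∧ r • P = Q ∧ r • Q = P := by
  obtain ⟨s, hsM, hs1, hss, hsU⟩ := hP
  obtain ⟨t, htM, ht1, htt, htU⟩ := hQ
  by_cases he : 2 ∣ orderOf (s * t)
  · exfalso
    obtain ⟨z, hz1, hzz, hzs, hzt⟩ := exists_central_involution hss htt he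
    have h1 := commute_mem_Uat hF hm hsU hs1 hss hzs
    have h2 := commute_mem_Uat hF hm htU ht1 htt hzt
    exact hz1 (Uat_inf_Uat hF hm hPQ h1 h2)
  · obtain ⟨r, hrM, hrr, hrs⟩ := exists_conj_involution hss htt he M hsM htM
    have h1 : r * s * r⁻¹ ∈ Uat hF (r • P) := conj_mem_Uat hF hm hsU r
    rw [hrs] at h1
    have h2 : r • P = Q := by
      by_contra hne
      exact ht1 (Uat_inf_Uat hF hm hne h1 htU)
    refine ⟨r, hrM, hrr, h2, ?_⟩
    rw [← h2, ← mul_smul, hrr, one_smul]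

/-- A nonidentity element of `Uat P` in `M` puts `P` into `Del`. -/
theorem mem_Del_of_mem_Uat (hF : Fintype.card F = 2 ^ (2 * m + 1)) (hm : 1 ≤ m)
    {M : Subgroup (Cfsg.Sz F m)} {P : Cfsg.suzukiOvoid F m} {t : Cfsg.Sz F m} (htM : t ∈ M)
    (ht1 : t ≠ 1) (htU : t ∈ Uat hF P) : P ∈ Del hF M := by
  obtain ⟨c, hc⟩ := exists_smul_eq_oInf hF P
  have hc' : c⁻¹ • oInf F m = P := by rw [inv_smul_eq_iff, hc]
  obtain ⟨a, b, hab⟩ := (mem_Uat_iff hF hm hc' t).mp htU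
  rw [inv_inv] at hab
  have h2 := two_eq_zero hF
  have h4 : (t * t) * (t * t) = 1 := by
    have e : c * ((t * t) * (t * t)) * c⁻¹ =
        (c * t * c⁻¹ * (c * t * c⁻¹)) * (c * t * c⁻¹ * (c * t * c⁻¹)) := by group
    have e2 : (c * t * c⁻¹ * (c * t * c⁻¹)) * (c * t * c⁻¹ * (c * t * c⁻¹)) = 1 := by
      rw [hab, uZ_sq, uZ_mul, th_zero, zero_mul, add_zero, add_zero, add_self' h2, uZ_zero]
    rw [e2] at e
    have : (t * t) * (t * t) = c⁻¹ * (c * ((t * t) * (t * t)) * c⁻¹) * c := by group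
    rw [this, e]; group
  by_cases htt : t * t = 1
  · exact ⟨t, htM, ht1, htt, htU⟩
  · exact ⟨t * t, M.mul_mem htM htM, htt, h4, (Uat hF P).mul_mem htU htU⟩

/-- The two-point stabiliser in `M` is no larger than the set of involutions at a point. -/
theorem stab_conj_injOn (hF : Fintype.card F = 2 ^ (2 * m + 1)) (hm : 1 ≤ m)
    {P₀ Q : Cfsg.suzukiOvoid F m} (hne : Q ≠ P₀) {s : Cfsg.Sz F m} (hs1 : s ≠ 1)
    (hss : s * s = 1) (hsU : s ∈ Uat hF P₀) {h h' : Cfsg.Sz F m} (hP : h • P₀ = P₀)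
    (hQ : h • Q = Q) (hP' : h' • P₀ = P₀) (hQ' : h' • Q = Q)
    (he : h * s * h⁻¹ = h' * s * h'⁻¹) : h = h' := by
  have hc : (h'⁻¹ * h) * s = s * (h'⁻¹ * h) := by
    have : (h'⁻¹ * h) * s = h'⁻¹ * (h * s * h⁻¹) * h := by group
    rw [this, he]; group
  have h1 := commute_mem_Uat hF hm hsU hs1 hss hc
  have h2 : (h'⁻¹ * h) • Q = Q := by
    rw [mul_smul, hQ, inv_smul_eq_iff, hQ']
  by_contra hhh
  have h3 : h'⁻¹ * h ≠ 1 := by
    intro h4
    apply hhh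
    have : h = h' * (h'⁻¹ * h) := by group
    rw [this, h4, mul_one]
  exact hne (eq_of_mem_Uat_of_smul_eq hF hm h1 h3 h2)

/-- The counting argument: the two-point stabilisers in `M` of points of `Del` act transitively
on the involutions of `M` at a point. -/
theorem exists_conj_in_stab (hF : Fintype.card F = 2 ^ (2 * m + 1)) (hm : 1 ≤ m)
    (M : Subgroup (Cfsg.Sz F m)) {P₀ Q₀ : Cfsg.suzukiOvoid F m} (hP₀ : P₀ ∈ Del hF M)
    (hQ₀ : Q₀ ∈ Del hF M) (hne₀ : Q₀ ≠ P₀) {s s' : Cfsg.Sz F m}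
    (hsM : s ∈ M) (hs1 : s ≠ 1) (hss : s * s = 1) (hsU : s ∈ Uat hF P₀)
    (hsM' : s' ∈ M) (hs1' : s' ≠ 1) (hss' : s' * s' = 1) (hsU' : s' ∈ Uat hF P₀) :
    ∃ h ∈ M, h • P₀ = P₀ ∧ h • Q₀ = Q₀ ∧ h * s * h⁻¹ = s' := by
  classical
  letI : Fintype (Cfsg.Sz F m) := Fintype.ofFinite _
  letI : Fintype (Cfsg.suzukiOvoid F m) := Fintype.ofFinite _
  let IR : Cfsg.suzukiOvoid F m → Finset (Cfsg.Sz F m) := fun R =>
    Finset.univ.filter (fun t => t ∈ M ∧ t ≠ 1 ∧ t * t = 1 ∧ t ∈ Uat hF R)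
  let Sw : Cfsg.suzukiOvoid F m → Finset (Cfsg.Sz F m) := fun Q =>
    Finset.univ.filter (fun t => t ∈ M ∧ t • P₀ = Q ∧ t • Q = P₀)
  let H : Cfsg.suzukiOvoid F m → Finset (Cfsg.Sz F m) := fun Q =>
    Finset.univ.filter (fun h => h ∈ M ∧ h • P₀ = P₀ ∧ h • Q = Q)
  let D' : Finset (Cfsg.suzukiOvoid F m) :=
    Finset.univ.filter (fun Q => Q ∈ Del hF M ∧ Q ≠ P₀)
  let I' : Finset (Cfsg.Sz F m) :=
    Finset.univ.filter (fun t => t ∈ M ∧ t ≠ 1 ∧ t * t = 1 ∧ t ∉ Uat hF P₀)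
  have memIR : ∀ R t, t ∈ IR R ↔ t ∈ M ∧ t ≠ 1 ∧ t * t = 1 ∧ t ∈ Uat hF R := by
    intro R t; simp only [IR, Finset.mem_filter, Finset.mem_univ, true_and]
  have memSw : ∀ Q t, t ∈ Sw Q ↔ t ∈ M ∧ t • P₀ = Q ∧ t • Q = P₀ := by
    intro R t; simp only [Sw, Finset.mem_filter, Finset.mem_univ, true_and]
  have memH : ∀ Q t, t ∈ H Q ↔ t ∈ M ∧ t • P₀ = P₀ ∧ t • Q = Q := by
    intro R t; simp only [H, Finset.mem_filter, Finset.mem_univ, true_and]
  have memD' : ∀ Q, Q ∈ D' ↔ Q ∈ Del hF M ∧ Q ≠ P₀ := by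
    intro Q; simp only [D', Finset.mem_filter, Finset.mem_univ, true_and]
  have memI' : ∀ t, t ∈ I' ↔ t ∈ M ∧ t ≠ 1 ∧ t * t = 1 ∧ t ∉ Uat hF P₀ := by
    intro t; simp only [I', Finset.mem_filter, Finset.mem_univ, true_and]
  -- first decomposition
  have c1 : I' = D'.biUnion IR := by
    ext t
    rw [memI', Finset.mem_biUnion]
    constructor
    · rintro ⟨htM, ht1, htt, htU⟩
      obtain ⟨R, hR⟩ := exists_mem_Uat_of_involution hF hm ht1 htt
      refine ⟨R, ?_, ?_⟩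
      · rw [memD']
        refine ⟨⟨t, htM, ht1, htt, hR⟩, ?_⟩
        rintro rfl
        exact htU hR
      · rw [memIR]; exact ⟨htM, ht1, htt, hR⟩
    · rintro ⟨R, hR, htR⟩
      rw [memD'] at hR
      rw [memIR] at htR
      refine ⟨htR.1, htR.2.1, htR.2.2.1, ?_⟩
      intro htU
      exact htR.2.1 (Uat_inf_Uat hF hm hR.2 htR.2.2.2 htU)
  have d1 : ∀ R ∈ D', ∀ R' ∈ D', R ≠ R' → Disjoint (IR R) (IR R') := by
    intro R _ R' _ hRR
    rw [Finset.disjoint_left]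
    intro t ht ht'
    rw [memIR] at ht ht'
    exact ht.2.1 (Uat_inf_Uat hF hm hRR ht.2.2.2 ht'.2.2.2)
  -- second decomposition
  have c2 : I' = D'.biUnion Sw := by
    ext t
    rw [memI', Finset.mem_biUnion]
    constructor
    · rintro ⟨htM, ht1, htt, htU⟩
      obtain ⟨R, hR⟩ := exists_mem_Uat_of_involution hF hm ht1 htt
      have hmove : t • P₀ ≠ P₀ := by
        intro hfix
        have := eq_of_mem_Uat_of_smul_eq hF hm hR ht1 hfix
        rw [this] at htU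
        exact htU hR
      refine ⟨t • P₀, ?_, ?_⟩
      · rw [memD']
        exact ⟨Del_smul hF hm hP₀ htM, hmove⟩
      · rw [memSw]
        refine ⟨htM, rfl, ?_⟩
        rw [← mul_smul, htt, one_smul]
    · rintro ⟨Q, hQ, htQ⟩
      rw [memD'] at hQ
      rw [memSw] at htQ
      have htt : t * t = 1 := mul_self_of_swap hF hm hQ.2.symm htQ.2.1 htQ.2.2
      have hmove : t • P₀ ≠ P₀ := by rw [htQ.2.1]; exact hQ.2
      refine ⟨htQ.1, ?_, htt, ?_⟩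
      · rintro rfl
        rw [one_smul] at hmove
        exact hmove rfl
      · intro htU
        exact hmove (smul_eq_of_mem_Uat hF hm htU)
  have d2 : ∀ Q ∈ D', ∀ Q' ∈ D', Q ≠ Q' → Disjoint (Sw Q) (Sw Q') := by
    intro Q _ Q' _ hQQ
    rw [Finset.disjoint_left]
    intro t ht ht'
    rw [memSw] at ht ht'
    exact hQQ (ht.2.1.symm.trans ht'.2.1)
  -- the fibres
  have c4 : ∀ R ∈ D', (IR R).card = (IR P₀).card := by
    intro R hR
    rw [memD'] at hR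
    obtain ⟨r, hrM, hrr, hrP, hrR⟩ := exists_swap hF hm hP₀ hR.1 hR.2.symm
    have hrinv : r⁻¹ = r := inv_eq_of_mul_eq_one_right hrr
    apply Finset.card_nbij' (fun t => r * t * r⁻¹) (fun t => r * t * r⁻¹)
    · intro t ht
      rw [Finset.mem_coe, memIR] at ht ⊢
      refine ⟨M.mul_mem (M.mul_mem hrM ht.1) (M.inv_mem hrM), conj_ne_one ht.2.1 r,
        conj_mul_self ht.2.2.1 r, ?_⟩
      have := conj_mem_Uat hF hm ht.2.2.2 r
      rwa [hrR] at this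
    · intro t ht
      rw [Finset.mem_coe, memIR] at ht ⊢
      refine ⟨M.mul_mem (M.mul_mem hrM ht.1) (M.inv_mem hrM), conj_ne_one ht.2.1 r,
        conj_mul_self ht.2.2.1 r, ?_⟩
      have := conj_mem_Uat hF hm ht.2.2.2 r
      rwa [hrP] at this
    · intro t _
      simp only [hrinv]
      calc r * (r * t * r) * r = (r * r) * t * (r * r) := by group
        _ = t := by rw [hrr, one_mul, mul_one]
    · intro t _
      simp only [hrinv]
      calc r * (r * t * r) * r = (r * r) * t * (r * r) := by group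
        _ = t := by rw [hrr, one_mul, mul_one]
  have c5 : ∀ Q ∈ D', (Sw Q).card = (H Q).card := by
    intro Q hQ
    rw [memD'] at hQ
    obtain ⟨r, hrM, hrr, hrP, hrQ⟩ := exists_swap hF hm hP₀ hQ.1 hQ.2.symm
    have hrinv : r⁻¹ = r := inv_eq_of_mul_eq_one_right hrr
    apply Finset.card_nbij' (fun t => r * t) (fun t => r * t)
    · intro t ht
      rw [Finset.mem_coe, memSw] at ht
      rw [Finset.mem_coe, memH]
      refine ⟨M.mul_mem hrM ht.1, ?_, ?_⟩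
      · rw [mul_smul, ht.2.1, hrQ]
      · rw [mul_smul, ht.2.2, hrP]
    · intro t ht
      rw [Finset.mem_coe, memH] at ht
      rw [Finset.mem_coe, memSw]
      refine ⟨M.mul_mem hrM ht.1, ?_, ?_⟩
      · rw [mul_smul, ht.2.1, hrP]
      · rw [mul_smul, ht.2.2, hrQ]
    · intro t _
      simp only
      rw [← mul_assoc, hrr, one_mul]
    · intro t _
      simp only
      rw [← mul_assoc, hrr, one_mul]
  have hsI : ∀ x : Cfsg.Sz F m, x ∈ IR P₀ → ∀ Q ∈ D', ∀ h ∈ H Q, h * x * h⁻¹ ∈ IR P₀ := by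
    intro x hx Q hQ h hh
    rw [memIR] at hx ⊢
    rw [memH] at hh
    refine ⟨M.mul_mem (M.mul_mem hh.1 hx.1) (M.inv_mem hh.1), conj_ne_one hx.2.1 h,
      conj_mul_self hx.2.2.1 h, ?_⟩
    have := conj_mem_Uat hF hm hx.2.2.2 h
    rwa [hh.2.1] at this
  have hinj : ∀ x : Cfsg.Sz F m, x ∈ IR P₀ → ∀ Q ∈ D', ∀ h ∈ H Q, ∀ h' ∈ H Q,
      h * x * h⁻¹ = h' * x * h'⁻¹ → h = h' := by
    intro x hx Q hQ h hh h' hh' he
    rw [memIR] at hx
    rw [memH] at hh hh'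
    rw [memD'] at hQ
    exact stab_conj_injOn hF hm hQ.2 hx.2.1 hx.2.2.1 hx.2.2.2 hh.2.1 hh.2.2 hh'.2.1 hh'.2.2 he
  have hsIR : s ∈ IR P₀ := by rw [memIR]; exact ⟨hsM, hs1, hss, hsU⟩
  have hsIR' : s' ∈ IR P₀ := by rw [memIR]; exact ⟨hsM', hs1', hss', hsU'⟩
  have c6 : ∀ Q ∈ D', (H Q).card ≤ (IR P₀).card := by
    intro Q hQ
    apply Finset.card_le_card_of_injOn (fun h => h * s * h⁻¹)
    · intro h hh
      exact hsI s hsIR Q hQ h hh
    · intro h hh h' hh' he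
      exact hinj s hsIR Q hQ h hh h' hh' he
  -- compare the two counts
  have e1 : I'.card = ∑ R ∈ D', (IR R).card := by rw [c1]; exact Finset.card_biUnion d1
  have e2 : I'.card = ∑ Q ∈ D', (Sw Q).card := by rw [c2]; exact Finset.card_biUnion d2
  have e3 : ∑ Q ∈ D', (H Q).card = ∑ R ∈ D', (IR P₀).card := by
    rw [← Finset.sum_congr rfl c5, ← e2, e1]
    exact Finset.sum_congr rfl c4
  have c7 : ∀ Q ∈ D', (H Q).card = (IR P₀).card :=
    (Finset.sum_eq_sum_iff_of_le c6).mp e3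
  have hQ₀D : Q₀ ∈ D' := by rw [memD']; exact ⟨hQ₀, hne₀⟩
  have hsurj := Finset.surj_on_of_inj_on_of_card_le (s := H Q₀) (t := IR P₀)
    (fun h _ => h * s * h⁻¹) (fun h hh => hsI s hsIR Q₀ hQ₀D h hh)
    (fun h h' hh hh' he => hinj s hsIR Q₀ hQ₀D h hh h' hh' he) (le_of_eq (c7 Q₀ hQ₀D).symm)
  obtain ⟨h, hh, he⟩ := hsurj s' hsIR'
  rw [memH] at hh
  exact ⟨h, hh.1, hh.2.1, hh.2.2, he.symm⟩

/-- The point stabiliser in `M` is the product of its unipotent part and any two-point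
stabiliser. -/
theorem stab_decomp (hF : Fintype.card F = 2 ^ (2 * m + 1)) (hm : 1 ≤ m)
    (M : Subgroup (Cfsg.Sz F m)) {P₀ Q₀ : Cfsg.suzukiOvoid F m} (hP₀ : P₀ ∈ Del hF M)
    (hQ₀ : Q₀ ∈ Del hF M) (hne₀ : Q₀ ≠ P₀) {g : Cfsg.Sz F m} (hgM : g ∈ M)
    (hg : g • P₀ = P₀) :
    ∃ v ∈ M, v ∈ Uat hF P₀ ∧ ∃ h ∈ M, h • P₀ = P₀ ∧ h • Q₀ = Q₀ ∧ g = v * h := by
  obtain ⟨s, hsM, hs1, hss, hsU⟩ := hP₀
  have hP₀' : P₀ ∈ Del hF M := ⟨s, hsM, hs1, hss, hsU⟩
  have hgs : g * s * g⁻¹ ∈ Uat hF P₀ := by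
    have := conj_mem_Uat hF hm hsU g
    rwa [hg] at this
  obtain ⟨h, hhM, hhP, hhQ, he⟩ := exists_conj_in_stab hF hm M hP₀' hQ₀ hne₀ hsM hs1 hss hsU
    (M.mul_mem (M.mul_mem hgM hsM) (M.inv_mem hgM)) (conj_ne_one hs1 g) (conj_mul_self hss g) hgs
  have hc : (h⁻¹ * g) * s = s * (h⁻¹ * g) := by
    have : s * (h⁻¹ * g) = h⁻¹ * (h * s * h⁻¹) * g := by group
    rw [this, he]; group
  have h1 := commute_mem_Uat hF hm hsU hs1 hss hc
  refine ⟨h * (h⁻¹ * g) * h⁻¹, ?_, ?_, h, hhM, hhP, hhQ, by group⟩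
  · exact M.mul_mem (M.mul_mem hhM (M.mul_mem (M.inv_mem hhM) hgM)) (M.inv_mem hhM)
  · have := conj_mem_Uat hF hm h1 h
    rwa [hhP] at this

end Cfsg.Agent.Lib.Helper4.Suz
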