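import Mathlib
import Cfsg.Prelude.Def_LieExceptional
import Cfsg.Agent.Lib.Helper4.Suz32

/-!
# Suzuki groups, part 33: coordinates for a subgroup with at least two involution points
-/

set_option autoImplicit false
set_option linter.unusedSimpArgs false
set_option linter.unusedVariables false
set_option linter.style.haveILetI false

namespace Cfsg.Agent.Lib.Helper4.Suz

open MulAction

variable {F : Type*} [Field F] [Fintype F] {m : ℕ}

/-- The multiplier `κ(z) = θ(z) z²`. -/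
def kap (m : ℕ) (z : F) : F := th m z * z ^ 2

theorem kap_zero (m : ℕ) : kap m (0 : F) = 0 := by
  unfold kap; rw [th_zero, zero_mul]

theorem kap_one (m : ℕ) : kap m (1 : F) = 1 := by
  unfold kap; rw [th_one, one_pow, mul_one]

theorem kap_mul (m : ℕ) (x y : F) : kap m (x * y) = kap m x * kap m y := by
  unfold kap; rw [th_mul, mul_pow]; ring

theorem kap_inv (m : ℕ) (x : F) : kap m x⁻¹ = (kap m x)⁻¹ := by
  unfold kap; rw [th_inv, inv_pow, _root_.mul_inv]

theorem kap_eq_zero {x : F} (h : kap m x = 0) : x = 0 := by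
  unfold kap at h
  rcases mul_eq_zero.mp h with h | h
  · exact th_eq_zero h
  · exact pow_eq_zero_iff (by norm_num) |>.mp h

theorem kap_eq_one (hF : Fintype.card F = 2 ^ (2 * m + 1)) {z : F} (h : kap m z = 1) :
    z = 1 := by
  have h2 := two_eq_zero hF
  unfold kap at h
  have h1 := congrArg (th m) h
  rw [th_mul, th_th hF, th_pow, th_one] at h1
  apply mul_th_eq_one hF
  apply sq_inj h2
  rw [one_pow, mul_pow]
  exact h1

theorem kap_injective (hF : Fintype.card F = 2 ^ (2 * m + 1)) :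
    Function.Injective (kap m : F → F) := by
  intro x y h
  by_cases hy : y = 0
  · rw [hy, kap_zero] at h
    rw [hy]; exact kap_eq_zero h
  · have hky : kap m y ≠ 0 := fun h' => hy (kap_eq_zero h')
    have h1 : kap m (x * y⁻¹) = 1 := by
      rw [kap_mul, kap_inv, h, mul_inv_cancel₀ hky]
    have h2 := kap_eq_one hF h1
    field_simp at h2
    exact h2

theorem div_th_injective (hF : Fintype.card F = 2 ^ (2 * m + 1)) :
    Function.Injective (fun x : F => x / th m x) := by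
  intro x y h
  simp only at h
  by_cases hy : y = 0
  · rw [hy, th_zero, div_zero] at h
    rw [hy]
    by_contra hx
    exact (div_ne_zero hx (th_ne_zero hx)) h
  · by_cases hx : x = 0
    · rw [hx, th_zero, div_zero] at h
      exact absurd h.symm (div_ne_zero hy (th_ne_zero hy))
    · have hty := th_ne_zero (m := m) hy
      have htx := th_ne_zero (m := m) hx
      have h1 : th m (x / y) = x / y := by
        rw [th_div]
        field_simp
        field_simp at h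
        rw [← h]; ring
      rcases th_eq_self hF h1 with h2 | h2
      · exfalso
        exact (div_ne_zero hx hy) h2
      · field_simp at h2
        exact h2

/-- The standard subgroup attached to a subset `S` of the field (as a set). -/
def SSet (hF : Fintype.card F = 2 ^ (2 * m + 1)) (S : Set F) : Set (Cfsg.Sz F m) :=
  {g | (∃ (a b : F) (z : Fˣ), a ∈ S ∧ b ∈ S ∧ (z : F) ∈ S ∧ g = uZ hF a b * hZ hF z) ∨
    (∃ (a b a' b' : F) (z : Fˣ), a ∈ S ∧ b ∈ S ∧ a' ∈ S ∧ b' ∈ S ∧ (z : F) ∈ S ∧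
      g = uZ hF a b * wZ hF * (uZ hF a' b' * hZ hF z))}

/-- Normalisation hypotheses. -/
structure Normd (hF : Fintype.card F = 2 ^ (2 * m + 1)) (M : Subgroup (Cfsg.Sz F m)) : Prop where
  inf : oInf F m ∈ Del hF M
  zero : oPt m (0 : F) 0 ∈ Del hF M
  one : uZ hF 0 1 ∈ M

theorem uZ_zero_mul_self (hF : Fintype.card F = 2 ^ (2 * m + 1)) (b : F) :
    uZ hF 0 b * uZ hF 0 b = 1 := by
  rw [uZ_sq, zero_mul, uZ_zero]

theorem uZ_zero_mem_Uat (hF : Fintype.card F = 2 ^ (2 * m + 1)) (hm : 1 ≤ m) (a b : F) :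
    uZ hF a b ∈ Uat hF (oInf F m) := by
  rw [Uat_oInf hF hm]; exact uZ_mem_USub hF a b

theorem Normd.borel_split (hF : Fintype.card F = 2 ^ (2 * m + 1)) (hm : 1 ≤ m)
    {M : Subgroup (Cfsg.Sz F m)} (hN : Normd hF M) {a b : F} {z : Fˣ}
    (h : uZ hF a b * hZ hF z ∈ M) : uZ hF a b ∈ M ∧ hZ hF z ∈ M := by
  have hfix : (uZ hF a b * hZ hF z) • oInf F m = oInf F m := by
    rw [mul_smul, hZ_smul_oInf, uZ_smul_oInf]
  obtain ⟨v, hvM, hvU, h', hhM, hhP, hhQ, he⟩ :=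
    stab_decomp hF hm M hN.inf hN.zero (oPt_ne_oInf (0 : F) 0) h hfix
  rw [Uat_oInf hF hm, mem_USub_iff] at hvU
  obtain ⟨a', b', rfl⟩ := hvU
  obtain ⟨z', rfl⟩ := fix_oInf_zero hF hm h' hhP hhQ
  obtain ⟨rfl, rfl, rfl⟩ := borel_unique hF he
  exact ⟨hvM, hhM⟩

theorem Normd.exists_hZ (hF : Fintype.card F = 2 ^ (2 * m + 1)) (hm : 1 ≤ m)
    {M : Subgroup (Cfsg.Sz F m)} (hN : Normd hF M) {b : F} (hb : b ≠ 0)
    (h : uZ hF 0 b ∈ M) : ∃ z : Fˣ, hZ hF z ∈ M ∧ kap m (z : F) = b := by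
  obtain ⟨h', hhM, hhP, hhQ, he⟩ := exists_conj_in_stab hF hm M hN.inf hN.zero
    (oPt_ne_oInf (0 : F) 0) hN.one (uZ_zero_ne_one hF one_ne_zero) (uZ_zero_mul_self hF 1)
    (uZ_zero_mem_Uat hF hm 0 1) h (uZ_zero_ne_one hF hb) (uZ_zero_mul_self hF b)
    (uZ_zero_mem_Uat hF hm 0 b)
  obtain ⟨z, rfl⟩ := fix_oInf_zero hF hm h' hhP hhQ
  refine ⟨z, hhM, ?_⟩
  rw [hZ_uZ_hZ, mul_zero, mul_one] at he
  exact (uZ_injective hF he).2

theorem Normd.uZ_kap_mem (hF : Fintype.card F = 2 ^ (2 * m + 1))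
    {M : Subgroup (Cfsg.Sz F m)} (hN : Normd hF M) {z : Fˣ} (h : hZ hF z ∈ M) :
    uZ hF 0 (kap m (z : F)) ∈ M := by
  have := M.mul_mem (M.mul_mem h hN.one) (M.inv_mem h)
  rw [hZ_uZ_hZ, mul_zero, mul_one] at this
  exact this

/-- The subfield of those `b` with `u(0,b) ∈ M`. -/
def Normd.K1 (hF : Fintype.card F = 2 ^ (2 * m + 1)) (hm : 1 ≤ m)
    {M : Subgroup (Cfsg.Sz F m)} (hN : Normd hF M) : Subfield F where
  carrier := {b | uZ hF 0 b ∈ M}
  mul_mem' := by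
    intro a b ha hb
    simp only [Set.mem_setOf_eq] at ha hb ⊢
    by_cases ha0 : a = 0
    · rw [ha0, zero_mul, uZ_zero]; exact M.one_mem
    by_cases hb0 : b = 0
    · rw [hb0, mul_zero, uZ_zero]; exact M.one_mem
    obtain ⟨z, hz, hza⟩ := hN.exists_hZ hF hm ha0 ha
    obtain ⟨z', hz', hzb⟩ := hN.exists_hZ hF hm hb0 hb
    have h1 : hZ hF (z * z') ∈ M := by rw [hZ_mul]; exact M.mul_mem hz hz'
    have h2 := hN.uZ_kap_mem hF h1
    rwa [Units.val_mul, kap_mul, hza, hzb] at h2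
  one_mem' := hN.one
  add_mem' := by
    intro a b ha hb
    simp only [Set.mem_setOf_eq] at ha hb ⊢
    have := M.mul_mem ha hb
    rwa [uZ_mul, th_zero, zero_mul, add_zero, add_zero] at this
  zero_mem' := by
    simp only [Set.mem_setOf_eq]
    rw [uZ_zero]; exact M.one_mem
  neg_mem' := by
    intro a ha
    simp only [Set.mem_setOf_eq] at ha ⊢
    rwa [neg_eq' (two_eq_zero hF)]
  inv_mem' := by
    intro a ha
    simp only [Set.mem_setOf_eq] at ha ⊢
    by_cases ha0 : a = 0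
    · rw [ha0, inv_zero, uZ_zero]; exact M.one_mem
    obtain ⟨z, hz, hza⟩ := hN.exists_hZ hF hm ha0 ha
    have h1 : hZ hF z⁻¹ ∈ M := by rw [← hZ_inv]; exact M.inv_mem hz
    have h2 := hN.uZ_kap_mem hF h1
    rwa [Units.val_inv_eq_inv_val, kap_inv, hza] at h2

theorem Normd.mem_K1 (hF : Fintype.card F = 2 ^ (2 * m + 1)) (hm : 1 ≤ m)
    {M : Subgroup (Cfsg.Sz F m)} (hN : Normd hF M) (b : F) :
    b ∈ hN.K1 hF hm ↔ uZ hF 0 b ∈ M := Iff.rfl

theorem th_mem_subfield (S : Subfield F) {x : F} (hx : x ∈ S) : th m x ∈ S := by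
  unfold th; exact S.pow_mem hx _

theorem kap_mem_subfield (S : Subfield F) {x : F} (hx : x ∈ S) : kap m x ∈ S := by
  unfold kap; exact S.mul_mem (th_mem_subfield S hx) (S.pow_mem hx _)

/-- An injective map of `F` preserving a subfield is surjective on the subfield. -/
theorem exists_preimage_subfield (S : Subfield F) (f : F → F) (hinj : Function.Injective f)
    (hS : ∀ x ∈ S, f x ∈ S) {y : F} (hy : y ∈ S) : ∃ x ∈ S, f x = y := by
  let g : S → S := fun x => ⟨f x, hS x x.2⟩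
  have hg : Function.Injective g := by
    intro a b hab
    apply Subtype.ext
    apply hinj
    exact congrArg Subtype.val hab
  have hs := Finite.injective_iff_surjective.mp hg
  obtain ⟨x, hx⟩ := hs ⟨y, hy⟩
  exact ⟨x, x.2, congrArg Subtype.val hx⟩

theorem mem_of_kap_mem (hF : Fintype.card F = 2 ^ (2 * m + 1)) (S : Subfield F) {z : F}
    (h : kap m z ∈ S) : z ∈ S := by
  obtain ⟨x, hx, hxe⟩ := exists_preimage_subfield S (kap m) (kap_injective hF)
    (fun x hx => kap_mem_subfield S hx) h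
  rw [← kap_injective hF hxe]; exact hx

theorem mem_of_mul_th_mem (hF : Fintype.card F = 2 ^ (2 * m + 1)) (S : Subfield F) {a : F}
    (h : a * th m a ∈ S) : a ∈ S := by
  obtain ⟨x, hx, hxe⟩ := exists_preimage_subfield S (fun a => a * th m a) (mul_th_injective hF)
    (fun x hx => S.mul_mem hx (th_mem_subfield S hx)) h
  rw [← mul_th_injective hF hxe]; exact hx

theorem mem_of_div_th_mem (hF : Fintype.card F = 2 ^ (2 * m + 1)) (S : Subfield F) {a : F}
    (h : a / th m a ∈ S) : a ∈ S := by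
  obtain ⟨x, hx, hxe⟩ := exists_preimage_subfield S (fun a => a / th m a) (div_th_injective hF)
    (fun x hx => S.div_mem hx (th_mem_subfield S hx)) h
  rw [← div_th_injective hF hxe]; exact hx

theorem exists_th_eq_subfield (hF : Fintype.card F = 2 ^ (2 * m + 1)) (S : Subfield F) {a : F}
    (h : a ∈ S) : ∃ x ∈ S, th m x = a :=
  exists_preimage_subfield S (th m) (th_injective hF) (fun x hx => th_mem_subfield S hx) h

theorem Normd.hZ_mem_iff (hF : Fintype.card F = 2 ^ (2 * m + 1)) (hm : 1 ≤ m)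
    {M : Subgroup (Cfsg.Sz F m)} (hN : Normd hF M) (z : Fˣ) :
    hZ hF z ∈ M ↔ (z : F) ∈ hN.K1 hF hm := by
  constructor
  · intro h
    apply mem_of_kap_mem hF
    rw [hN.mem_K1]
    exact hN.uZ_kap_mem hF h
  · intro h
    have h1 : kap m (z : F) ∈ hN.K1 hF hm := kap_mem_subfield _ h
    rw [hN.mem_K1] at h1
    have hne : kap m (z : F) ≠ 0 := fun h' => z.ne_zero (kap_eq_zero h')
    obtain ⟨z', hz', hze⟩ := hN.exists_hZ hF hm hne h1
    have := kap_injective hF hze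
    rw [← Units.ext this]; exact hz'

theorem Normd.fst_mem (hF : Fintype.card F = 2 ^ (2 * m + 1)) (hm : 1 ≤ m)
    {M : Subgroup (Cfsg.Sz F m)} (hN : Normd hF M) {a b : F} (h : uZ hF a b ∈ M) :
    a ∈ hN.K1 hF hm := by
  apply mem_of_mul_th_mem hF
  rw [hN.mem_K1, ← uZ_sq hF a b]
  exact M.mul_mem h h

theorem Normd.exists_swap_elt (hF : Fintype.card F = 2 ^ (2 * m + 1)) (hm : 1 ≤ m)
    {M : Subgroup (Cfsg.Sz F m)} (hN : Normd hF M) : ∃ z₀ : Fˣ, wZ hF * hZ hF z₀ ∈ M := by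
  obtain ⟨r, hrM, hrr, hr1, hr2⟩ := exists_swap hF hm hN.inf hN.zero (oPt_ne_oInf (0 : F) 0).symm
  obtain ⟨z, hz⟩ := fix_oInf_zero hF hm (wZ hF * r)
    (by rw [mul_smul, hr1, wZ_smul_oPt_zero]) (by rw [mul_smul, hr2, wZ_smul_oInf])
  refine ⟨z, ?_⟩
  rw [← hz, ← mul_assoc, wZ_mul_wZ, one_mul]
  exact hrM

/-- With two distinct involutions at infinity, every two-point stabiliser is nontrivial. -/
theorem Normd.exists_fix (hF : Fintype.card F = 2 ^ (2 * m + 1)) (hm : 1 ≤ m)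
    {M : Subgroup (Cfsg.Sz F m)} (hN : Normd hF M) {l : F} (hl0 : l ≠ 0)
    (hlM : uZ hF 0 l ∈ M) {Q : Cfsg.suzukiOvoid F m} (hQ : Q ∈ Del hF M) (hQne : Q ≠ oInf F m) :
    ∃ (c d : F) (z : Fˣ), uZ hF c d ∈ M ∧ hZ hF z ∈ M ∧ kap m (z : F) = l ∧
      (uZ hF c d * hZ hF z) • Q = Q := by
  obtain ⟨h', hhM, hhP, hhQ, he⟩ := exists_conj_in_stab hF hm M hN.inf hQ hQne
    hN.one (uZ_zero_ne_one hF one_ne_zero) (uZ_zero_mul_self hF 1)
    (uZ_zero_mem_Uat hF hm 0 1) hlM (uZ_zero_ne_one hF hl0) (uZ_zero_mul_self hF l)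
    (uZ_zero_mem_Uat hF hm 0 l)
  obtain ⟨c, d, z, rfl⟩ := fix_oInf hF hm h' hhP
  obtain ⟨h1, h2⟩ := hN.borel_split hF hm hhM
  refine ⟨c, d, z, h1, h2, ?_, hhQ⟩
  rw [borel_conj_central, mul_one] at he
  exact (uZ_injective hF he).2

theorem one_add_th_ne_zero (hF : Fintype.card F = 2 ^ (2 * m + 1)) {z : F} (hz : z ≠ 1) :
    1 + th m z ≠ 0 := by
  intro h
  apply hz
  apply th_eq_one hF
  exact (eq_of_add_eq_zero (two_eq_zero hF) h).symm

theorem one_add_kap_ne_zero (hF : Fintype.card F = 2 ^ (2 * m + 1)) {z : F} (hz : z ≠ 1) :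
    1 + kap m z ≠ 0 := by
  intro h
  apply hz
  apply kap_eq_one hF
  exact (eq_of_add_eq_zero (two_eq_zero hF) h).symm

/-- Key consequence of a nontrivial two-point stabiliser: nonzero first coordinates occur and
the swapping involution is standard. -/
theorem Normd.key (hF : Fintype.card F = 2 ^ (2 * m + 1)) (hm : 1 ≤ m)
    {M : Subgroup (Cfsg.Sz F m)} (hN : Normd hF M) {l : F} (hl0 : l ≠ 0) (hl1 : l ≠ 1)
    (hlM : uZ hF 0 l ∈ M) :
    (∃ a b : F, a ≠ 0 ∧ uZ hF a b ∈ M) ∧ wZ hF ∈ M := by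
  have h2 := two_eq_zero hF
  obtain ⟨z₀, hr⟩ := hN.exists_swap_elt hF hm
  set r := wZ hF * hZ hF z₀ with hrdef
  have hr1 : r • oInf F m = oPt m (0 : F) 0 := by
    rw [hrdef, mul_smul, hZ_smul_oInf, wZ_smul_oInf]
  have hr2 : r • oPt m (0 : F) 0 = oInf F m := by
    rw [hrdef, mul_smul, hZ_smul_zero, wZ_smul_oPt_zero]
  have hr3 : r⁻¹ • oInf F m = oPt m (0 : F) 0 := by rw [inv_smul_eq_iff, hr2]
  have hk0 : kap m (z₀ : F) ≠ 0 := fun h' => z₀.ne_zero (kap_eq_zero h')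
  have htk0 : th m (kap m (z₀ : F)) ≠ 0 := th_ne_zero hk0
  set a' := kap m (z₀ : F) / th m (kap m (z₀ : F)) with ha'
  have ha'0 : a' ≠ 0 := div_ne_zero hk0 htk0
  have hQ' : (r * uZ hF 0 1 * r⁻¹) • oInf F m = oPt m a' 0 := by
    rw [mul_smul, mul_smul, hr3, uZ_smul_zero, hrdef, mul_smul, hZ_smul_oPt, mul_zero, mul_one,
      wZ_smul_oPt hF (Or.inr (by exact hk0)), ff_zero_left, zero_div]
    rfl
  have hQD : oPt m a' 0 ∈ Del hF M := by
    rw [← hQ']
    exact Del_smul hF hm hN.inf (M.mul_mem (M.mul_mem hr hN.one) (M.inv_mem hr))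
  obtain ⟨c, d, z, hcd, hz, hkz, hfix⟩ :=
    hN.exists_fix hF hm hl0 hlM hQD (oPt_ne_oInf a' 0)
  have hz1 : (z : F) ≠ 1 := by
    intro h
    rw [h, kap_one] at hkz
    exact hl1 hkz.symm
  rw [mul_smul, hZ_smul_oPt, uZ_smul_oPt] at hfix
  obtain ⟨e1, -⟩ := oPt_inj hfix
  have hc : c = a' * (1 + th m (z : F)) := by
    have : c = a' + th m (z : F) * a' := by
      linear_combination e1 + (-(th m (z : F) * a')) * h2
    rw [this]; ring
  have hne := one_add_th_ne_zero hF hz1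
  have hc0 : c ≠ 0 := by rw [hc]; exact mul_ne_zero ha'0 hne
  refine ⟨⟨c, d, hc0, hcd⟩, ?_⟩
  -- `a' ∈ K1`
  have hcK := hN.fst_mem hF hm hcd
  have hzK := (hN.hZ_mem_iff hF hm z).mp hz
  have ha'K : a' ∈ hN.K1 hF hm := by
    have : a' = c / (1 + th m (z : F)) := by rw [hc]; field_simp
    rw [this]
    exact (hN.K1 hF hm).div_mem hcK
      ((hN.K1 hF hm).add_mem (hN.K1 hF hm).one_mem (th_mem_subfield _ hzK))
  have hkK : kap m (z₀ : F) ∈ hN.K1 hF hm := mem_of_div_th_mem hF _ ha'K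
  have hz₀K : (z₀ : F) ∈ hN.K1 hF hm := mem_of_kap_mem hF _ hkK
  have hz₀M := (hN.hZ_mem_iff hF hm z₀).mpr hz₀K
  have : wZ hF = r * (hZ hF z₀)⁻¹ := by rw [hrdef]; group
  rw [this]
  exact M.mul_mem hr (M.inv_mem hz₀M)

theorem Normd.conj_hZ_mem (hF : Fintype.card F = 2 ^ (2 * m + 1)) (hm : 1 ≤ m)
    {M : Subgroup (Cfsg.Sz F m)} (hN : Normd hF M) {a b x : F} (hab : uZ hF a b ∈ M)
    (hx : x ∈ hN.K1 hF hm) (hx0 : x ≠ 0) : uZ hF (th m x * a) (th m x * x ^ 2 * b) ∈ M := by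
  have hz := (hN.hZ_mem_iff hF hm (Units.mk0 x hx0)).mpr (by rw [Units.val_mk0]; exact hx)
  have := M.mul_mem (M.mul_mem hz hab) (M.inv_mem hz)
  rwa [hZ_uZ_hZ, Units.val_mk0] at this

/-- Determination of the unipotent part of `M`. -/
theorem Normd.uZ_mem_iff (hF : Fintype.card F = 2 ^ (2 * m + 1)) (hm : 1 ≤ m)
    {M : Subgroup (Cfsg.Sz F m)} (hN : Normd hF M) {l : F} (hl0 : l ≠ 0) (hl1 : l ≠ 1)
    (hlM : uZ hF 0 l ∈ M) (a b : F) :
    uZ hF a b ∈ M ↔ a ∈ hN.K1 hF hm ∧ b ∈ hN.K1 hF hm := by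
  have h2 := two_eq_zero hF
  set S := hN.K1 hF hm with hS
  obtain ⟨⟨a₀, b₀, ha₀, hab₀⟩, -⟩ := hN.key hF hm hl0 hl1 hlM
  have ha₀S : a₀ ∈ S := hN.fst_mem hF hm hab₀
  -- Step A
  have stepA : ∀ c ∈ S, ∃ d, uZ hF c d ∈ M := by
    intro c hc
    by_cases hc0 : c = 0
    · exact ⟨0, by rw [hc0, uZ_zero]; exact M.one_mem⟩
    · have hμ : c / a₀ ∈ S := S.div_mem hc ha₀S
      obtain ⟨x, hx, hxe⟩ := exists_th_eq_subfield hF S hμ
      have hx0 : x ≠ 0 := by
        rintro rfl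
        rw [th_zero] at hxe
        exact (div_ne_zero hc0 ha₀) hxe.symm
      have := hN.conj_hZ_mem hF hm hab₀ hx hx0
      rw [hxe, div_mul_cancel₀ c ha₀] at this
      exact ⟨_, this⟩
  obtain ⟨g, hg⟩ := stepA 1 S.one_mem
  -- Step B
  have stepB : ∀ μ ∈ S, μ ≠ 0 → uZ hF μ (μ * th m μ * g) ∈ M := by
    intro μ hμ hμ0
    obtain ⟨x, hx, hxe⟩ := exists_th_eq_subfield hF S hμ
    have hx0 : x ≠ 0 := by
      rintro rfl
      rw [th_zero] at hxe
      exact hμ0 hxe.symm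
    have := hN.conj_hZ_mem hF hm hg hx hx0
    have hx2 : x ^ 2 = th m μ := by rw [← hxe, th_th hF]
    rwa [hxe, hx2, mul_one] at this
  -- Step C
  have hlS : l ∈ S := hlM
  have hl1' : l + 1 ≠ 0 := by
    intro h
    exact hl1 (eq_of_add_eq_zero h2 h)
  have hl1S : l + 1 ∈ S := S.add_mem hlS S.one_mem
  have hu1 := stepB l hlS hl0
  have hu2 := stepB (l + 1) hl1S hl1'
  have hprod : uZ hF l (l * th m l * g) * uZ hF (l + 1) ((l + 1) * th m (l + 1) * g) *
      (uZ hF 1 g)⁻¹ = uZ hF 0 ((l + th m l) * g + th m l * (l + 1)) := by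
    rw [uZ_inv, uZ_mul, uZ_mul, th_add hF, th_add hF, th_add hF, th_one]
    congr 1
    · linear_combination (l + 1) * h2
    · linear_combination (l * th m l * g + g + 1 + th m l) * h2
  have hY : (l + th m l) * g + th m l * (l + 1) ∈ S := by
    have := M.mul_mem (M.mul_mem hu1 hu2) (M.inv_mem hg)
    rw [hprod] at this
    exact this
  have hlt : l + th m l ≠ 0 := by
    intro h
    have := (eq_of_add_eq_zero h2 h).symm
    rcases th_eq_self hF this with h' | h'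
    · exact hl0 h'
    · exact hl1 h'
  have hltS : l + th m l ∈ S := S.add_mem hlS (th_mem_subfield S hlS)
  have hgS : g ∈ S := by
    have h1 : (l + th m l) * g ∈ S := by
      have := S.sub_mem hY (S.mul_mem (th_mem_subfield (m := m) S hlS) hl1S)
      rwa [add_sub_cancel_right] at this
    have : g = (l + th m l) * g / (l + th m l) := by field_simp
    rw [this]
    exact S.div_mem h1 hltS
  -- Step D
  have h10 : uZ hF 1 0 ∈ M := by
    have := M.mul_mem hg (show uZ hF 0 g ∈ M from hgS)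
    rw [uZ_mul] at this
    have e : uZ hF (1 + 0) (g + g + th m 1 * 0) = uZ hF 1 0 := by
      congr 1
      · ring
      · linear_combination g * h2
    rwa [e] at this
  -- Step E
  have stepE : ∀ c ∈ S, uZ hF c 0 ∈ M := by
    intro c hc
    by_cases hc0 : c = 0
    · rw [hc0, uZ_zero]; exact M.one_mem
    · obtain ⟨x, hx, hxe⟩ := exists_th_eq_subfield hF S hc
      have hx0 : x ≠ 0 := by
        rintro rfl
        rw [th_zero] at hxe
        exact hc0 hxe.symm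
      have := hN.conj_hZ_mem hF hm h10 hx hx0
      rwa [hxe, mul_one, mul_zero] at this
  constructor
  · intro h
    have haS := hN.fst_mem hF hm h
    refine ⟨haS, ?_⟩
    have h1 := stepE a haS
    have h3 : uZ hF 0 b = (uZ hF a 0)⁻¹ * uZ hF a b := by
      rw [uZ_split hF a b]; group
    show uZ hF 0 b ∈ M
    rw [h3]
    exact M.mul_mem (M.inv_mem h1) h
  · rintro ⟨ha, hb⟩
    rw [uZ_split]
    exact M.mul_mem (stepE a ha) hb

/-- Determination of `Del`. -/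
theorem Normd.Del_sub (hF : Fintype.card F = 2 ^ (2 * m + 1)) (hm : 1 ≤ m)
    {M : Subgroup (Cfsg.Sz F m)} (hN : Normd hF M) {l : F} (hl0 : l ≠ 0) (hl1 : l ≠ 1)
    (hlM : uZ hF 0 l ∈ M) {a b : F} (h : oPt m a b ∈ Del hF M) :
    a ∈ hN.K1 hF hm ∧ b ∈ hN.K1 hF hm := by
  have h2 := two_eq_zero hF
  set S := hN.K1 hF hm with hS
  obtain ⟨c, d, z, hcd, hz, hkz, hfix⟩ := hN.exists_fix hF hm hl0 hlM h (oPt_ne_oInf a b)
  have hz1 : (z : F) ≠ 1 := by
    intro h
    rw [h, kap_one] at hkz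
    exact hl1 hkz.symm
  obtain ⟨hcS, hdS⟩ := (hN.uZ_mem_iff hF hm hl0 hl1 hlM c d).mp hcd
  have hzS : (z : F) ∈ S := (hN.hZ_mem_iff hF hm z).mp hz
  rw [mul_smul, hZ_smul_oPt, uZ_smul_oPt] at hfix
  obtain ⟨e1, e2⟩ := oPt_inj hfix
  have hne := one_add_th_ne_zero hF hz1
  have hne2 := one_add_kap_ne_zero hF hz1
  have ha : a * (1 + th m (z : F)) = c := by
    linear_combination e1 + (a - c) * h2
  have haS : a ∈ S := by
    have : a = c / (1 + th m (z : F)) := by rw [← ha]; field_simp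
    rw [this]
    exact S.div_mem hcS (S.add_mem S.one_mem (th_mem_subfield S hzS))
  refine ⟨haS, ?_⟩
  have hb : b * (1 + kap m (z : F)) = d + th m c * (th m (z : F) * a) := by
    unfold kap
    linear_combination e2 + (b - d - th m c * (th m (z : F) * a)) * h2
  have : b = (d + th m c * (th m (z : F) * a)) / (1 + kap m (z : F)) := by
    rw [← hb]; field_simp
  rw [this]
  exact S.div_mem (S.add_mem hdS (S.mul_mem (th_mem_subfield S hcS)
    (S.mul_mem (th_mem_subfield S hzS) haS))) (S.add_mem S.one_mem (kap_mem_subfield S hzS))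

/-- The subgroup is the standard subgroup over the subfield `K1`. -/
theorem Normd.eq_SSet (hF : Fintype.card F = 2 ^ (2 * m + 1)) (hm : 1 ≤ m)
    {M : Subgroup (Cfsg.Sz F m)} (hN : Normd hF M) {l : F} (hl0 : l ≠ 0) (hl1 : l ≠ 1)
    (hlM : uZ hF 0 l ∈ M) : (M : Set (Cfsg.Sz F m)) = SSet hF (hN.K1 hF hm : Set F) := by
  set S := hN.K1 hF hm with hS
  have hw : wZ hF ∈ M := (hN.key hF hm hl0 hl1 hlM).2
  ext g
  constructor
  · intro hg
    rw [SetLike.mem_coe] at hg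
    rcases bruhat hF hm g with ⟨a, b, z, rfl⟩ | ⟨a, b, a', b', z, rfl⟩
    · obtain ⟨h1, h2⟩ := hN.borel_split hF hm hg
      obtain ⟨haS, hbS⟩ := (hN.uZ_mem_iff hF hm hl0 hl1 hlM a b).mp h1
      exact Or.inl ⟨a, b, z, haS, hbS, (hN.hZ_mem_iff hF hm z).mp h2, rfl⟩
    · have hpt : (uZ hF a b * wZ hF * (uZ hF a' b' * hZ hF z)) • oInf F m = oPt m a b := by
        rw [mul_smul, mul_smul, mul_smul, hZ_smul_oInf, uZ_smul_oInf, wZ_smul_oInf,
          uZ_smul_zero]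
      have hD : oPt m a b ∈ Del hF M := by
        rw [← hpt]; exact Del_smul hF hm hN.inf hg
      obtain ⟨haS, hbS⟩ := hN.Del_sub hF hm hl0 hl1 hlM hD
      have h1 : uZ hF a b ∈ M := (hN.uZ_mem_iff hF hm hl0 hl1 hlM a b).mpr ⟨haS, hbS⟩
      have h3 : uZ hF a' b' * hZ hF z ∈ M := by
        have : uZ hF a' b' * hZ hF z =
            (uZ hF a b * wZ hF)⁻¹ * (uZ hF a b * wZ hF * (uZ hF a' b' * hZ hF z)) := by group
        rw [this]
        exact M.mul_mem (M.inv_mem (M.mul_mem h1 hw)) hg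
      obtain ⟨h4, h5⟩ := hN.borel_split hF hm h3
      obtain ⟨haS', hbS'⟩ := (hN.uZ_mem_iff hF hm hl0 hl1 hlM a' b').mp h4
      exact Or.inr ⟨a, b, a', b', z, haS, hbS, haS', hbS', (hN.hZ_mem_iff hF hm z).mp h5, rfl⟩
  · rintro (⟨a, b, z, ha, hb, hz, rfl⟩ | ⟨a, b, a', b', z, ha, hb, ha', hb', hz, rfl⟩)
    · rw [SetLike.mem_coe]
      exact M.mul_mem ((hN.uZ_mem_iff hF hm hl0 hl1 hlM a b).mpr ⟨ha, hb⟩)
        ((hN.hZ_mem_iff hF hm z).mpr hz)
    · rw [SetLike.mem_coe]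
      exact M.mul_mem (M.mul_mem ((hN.uZ_mem_iff hF hm hl0 hl1 hlM a b).mpr ⟨ha, hb⟩) hw)
        (M.mul_mem ((hN.uZ_mem_iff hF hm hl0 hl1 hlM a' b').mpr ⟨ha', hb'⟩)
          ((hN.hZ_mem_iff hF hm z).mpr hz))

end Cfsg.Agent.Lib.Helper4.Suz
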