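import Mathlib
import Cfsg.Prelude.Def_LieExceptional
import Cfsg.Agent.Lib.Helper4.Suz33

/-!
# Suzuki groups, part 34: subgroups with a unique involution at each point
-/

set_option autoImplicit false
set_option linter.unusedSimpArgs false
set_option linter.unusedVariables false
set_option linter.style.haveILetI false

namespace Cfsg.Agent.Lib.Helper4.Suz

open MulAction

variable {F : Type*} [Field F] [Fintype F] {m : ℕ}

theorem involution_uZ (hF : Fintype.card F = 2 ^ (2 * m + 1)) {a b : F}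
    (h1 : uZ hF a b ≠ 1) (hsq : uZ hF a b * uZ hF a b = 1) : a = 0 ∧ b ≠ 0 := by
  rw [uZ_sq, ← uZ_zero hF] at hsq
  have ha : a = 0 := by
    rcases mul_eq_zero.mp (uZ_injective hF hsq).2 with h | h
    · exact h
    · exact th_eq_zero h
  refine ⟨ha, ?_⟩
  rintro rfl
  apply h1
  rw [ha, uZ_zero]

theorem uZ_pow_four (hF : Fintype.card F = 2 ^ (2 * m + 1)) (a b : F) :
    uZ hF a b ^ 2 ^ 2 = 1 := by
  have : uZ hF a b ^ 2 ^ 2 = (uZ hF a b * uZ hF a b) * (uZ hF a b * uZ hF a b) := by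
    norm_num [pow_succ, mul_assoc]
  rw [this, uZ_sq, uZ_zero_mul_self]

theorem Normd.stab_small (hF : Fintype.card F = 2 ^ (2 * m + 1)) (hm : 1 ≤ m)
    {M : Subgroup (Cfsg.Sz F m)} (hN : Normd hF M)
    (hsmall : ∀ b : F, uZ hF 0 b ∈ M → b = 0 ∨ b = 1) {g : Cfsg.Sz F m} (hg : g ∈ M)
    (hfix : g • oInf F m = oInf F m) : ∃ a b : F, g = uZ hF a b := by
  obtain ⟨a, b, z, rfl⟩ := fix_oInf hF hm g hfix
  obtain ⟨h1, h2⟩ := hN.borel_split hF hm hg
  have h3 := hN.uZ_kap_mem hF h2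
  have hz : z = 1 := by
    rcases hsmall _ h3 with h | h
    · exact absurd (kap_eq_zero h) z.ne_zero
    · exact Units.ext (kap_eq_one hF h)
  exact ⟨a, b, by rw [hz, hZ_one, mul_one]⟩

theorem Normd.zero_or_one (hF : Fintype.card F = 2 ^ (2 * m + 1)) (hm : 1 ≤ m)
    {M : Subgroup (Cfsg.Sz F m)} (hN : Normd hF M)
    (hsmall : ∀ b : F, uZ hF 0 b ∈ M → b = 0 ∨ b = 1) {a b : F} (h : uZ hF a b ∈ M) :
    a = 0 ∨ a = 1 :=
  hsmall a ((hN.mem_K1 hF hm a).mp (hN.fst_mem hF hm h))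

theorem Normd.comm_small (hF : Fintype.card F = 2 ^ (2 * m + 1)) (hm : 1 ≤ m)
    {M : Subgroup (Cfsg.Sz F m)} (hN : Normd hF M)
    (hsmall : ∀ b : F, uZ hF 0 b ∈ M → b = 0 ∨ b = 1) {a b a' b' : F} (h : uZ hF a b ∈ M)
    (h' : uZ hF a' b' ∈ M) : uZ hF a b * uZ hF a' b' = uZ hF a' b' * uZ hF a b := by
  rw [uZ_mul, uZ_mul]
  have e : th m a * a' = th m a' * a := by
    rcases hN.zero_or_one hF hm hsmall h with rfl | rfl <;>
      rcases hN.zero_or_one hF hm hsmall h' with rfl | rfl <;> simp [th_zero, th_one]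
  congr 1
  · ring
  · rw [e]; ring

/-- With a unique involution at infinity, commuting involutions of `M` coincide. -/
theorem Normd.commuting_involutions (hF : Fintype.card F = 2 ^ (2 * m + 1)) (hm : 1 ≤ m)
    {M : Subgroup (Cfsg.Sz F m)} (hN : Normd hF M)
    (hsmall : ∀ b : F, uZ hF 0 b ∈ M → b = 0 ∨ b = 1) {s t : Cfsg.Sz F m} (hsM : s ∈ M)
    (hs1 : s ≠ 1) (hss : s * s = 1) (htM : t ∈ M) (ht1 : t ≠ 1) (htt : t * t = 1)
    (hc : s * t = t * s) : s = t := by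
  obtain ⟨P, hsU⟩ := exists_mem_Uat_of_involution hF hm hs1 hss
  have htU : t ∈ Uat hF P := commute_mem_Uat hF hm hsU hs1 hss hc.symm
  have hPD : P ∈ Del hF M := ⟨s, hsM, hs1, hss, hsU⟩
  obtain ⟨g, hgM, hgP⟩ : ∃ g ∈ M, g • P = oInf F m := by
    by_cases hP : P = oInf F m
    · exact ⟨1, M.one_mem, by rw [one_smul, hP]⟩
    · obtain ⟨r, hrM, -, hr, -⟩ := exists_swap hF hm hPD hN.inf hP
      exact ⟨r, hrM, hr⟩
  have key : ∀ x : Cfsg.Sz F m, x ∈ M → x ≠ 1 → x * x = 1 → x ∈ Uat hF P →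
      g * x * g⁻¹ = uZ hF 0 1 := by
    intro x hxM hx1 hxx hxU
    have h1 : g * x * g⁻¹ ∈ Uat hF (oInf F m) := by
      rw [← hgP]; exact conj_mem_Uat hF hm hxU g
    rw [Uat_oInf hF hm, mem_USub_iff] at h1
    obtain ⟨a, b, hab⟩ := h1
    have h2 : uZ hF a b ≠ 1 := by rw [← hab]; exact conj_ne_one hx1 g
    have h3 : uZ hF a b * uZ hF a b = 1 := by rw [← hab]; exact conj_mul_self hxx g
    obtain ⟨ha, hb⟩ := involution_uZ hF h2 h3
    have h4 : uZ hF a b ∈ M := by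
      rw [← hab]; exact M.mul_mem (M.mul_mem hgM hxM) (M.inv_mem hgM)
    rw [ha] at h4 hab
    rcases hsmall b h4 with h | h
    · exact absurd h hb
    · rw [hab, h]
  have h1 := key s hsM hs1 hss hsU
  have h2 := key t htM ht1 htt htU
  have : s = g⁻¹ * (g * s * g⁻¹) * g := by group
  rw [this, h1, ← h2]; group

theorem mem_map_conj_USub_iff (hF : Fintype.card F = 2 ^ (2 * m + 1)) (hm : 1 ≤ m)
    (c g : Cfsg.Sz F m) :
    g ∈ (USub hF).map (MulAut.conj c).toMonoidHom ↔ g ∈ Uat hF (c • oInf F m) := by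
  rw [mem_Uat_iff hF hm rfl, Subgroup.mem_map]
  constructor
  · rintro ⟨u, hu, rfl⟩
    simp only [MulEquiv.coe_toMonoidHom, MulAut.conj_apply]
    have : c⁻¹ * (c * u * c⁻¹) * c = u := by group
    rw [this]; exact hu
  · intro h
    refine ⟨_, h, ?_⟩
    simp only [MulEquiv.coe_toMonoidHom, MulAut.conj_apply]
    group

/-- Every `2`-subgroup of the Suzuki group lies in some `Uat P`. -/
theorem exists_le_Uat (hF : Fintype.card F = 2 ^ (2 * m + 1)) (hm : 1 ≤ m)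
    (Q : Subgroup (Cfsg.Sz F m)) (hQ : IsPGroup 2 Q) :
    ∃ P : Cfsg.suzukiOvoid F m, Q ≤ Uat hF P := by
  haveI : Fact (Nat.Prime 2) := ⟨Nat.prime_two⟩
  obtain ⟨R, hR⟩ := hQ.exists_le_sylow
  obtain ⟨c, hc⟩ := sylow_eq_map hF hm R
  refine ⟨c • oInf F m, ?_⟩
  intro g hg
  rw [← mem_map_conj_USub_iff hF hm, ← hc]
  exact hR hg

/-- The case of a unique involution at each point: `M` normalises a standard cyclic subgroup. -/
theorem Normd.exists_inList_small (hF : Fintype.card F = 2 ^ (2 * m + 1)) (hm : 1 ≤ m)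
    {M : Subgroup (Cfsg.Sz F m)} (hN : Normd hF M)
    (hsmall : ∀ b : F, uZ hF 0 b ∈ M → b = 0 ∨ b = 1) :
    ∃ U : Subgroup (Cfsg.Sz F m), InList U ∧ M ≤ Subgroup.normalizer (U : Set (Cfsg.Sz F m)) := by
  haveI : Fact (Nat.Prime 2) := ⟨Nat.prime_two⟩
  have hV'2 : IsPGroup 2 ((USub hF).subgroupOf M) := by
    intro g
    refine ⟨2, ?_⟩
    have hg : (g : M) ∈ (USub hF).subgroupOf M := g.2
    rw [Subgroup.mem_subgroupOf, mem_USub_iff] at hg
    obtain ⟨a, b, hab⟩ := hg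
    apply Subtype.ext
    apply Subtype.ext
    simp only [Subgroup.coe_pow, Subgroup.coe_one]
    rw [hab]
    exact uZ_pow_four hF a b
  obtain ⟨P, hP⟩ := hV'2.exists_le_sylow
  have h01M : (⟨uZ hF 0 1, hN.one⟩ : M) ∈ (USub hF).subgroupOf M := by
    rw [Subgroup.mem_subgroupOf]; exact uZ_mem_USub hF 0 1
  -- `P = V'`
  have hPle : ∀ x : M, x ∈ P → (x : Cfsg.Sz F m) ∈ USub hF := by
    intro x hx
    have h2 : IsPGroup 2 ((P : Subgroup M).map M.subtype) := P.2.map _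
    obtain ⟨R, hR⟩ := exists_le_Uat hF hm _ h2
    have h3 : uZ hF 0 1 ∈ Uat hF R := by
      apply hR
      exact Subgroup.mem_map.mpr ⟨⟨uZ hF 0 1, hN.one⟩, hP h01M, rfl⟩
    have h4 : R = oInf F m := by
      by_contra hne
      exact uZ_zero_ne_one hF one_ne_zero
        (Uat_inf_Uat hF hm hne h3 (uZ_zero_mem_Uat hF hm 0 1))
    have h5 : (x : Cfsg.Sz F m) ∈ Uat hF R := by
      apply hR
      exact Subgroup.mem_map.mpr ⟨x, hx, rfl⟩
    rwa [h4, Uat_oInf hF hm] at h5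
  have hNC : Subgroup.normalizer ((P : Subgroup M) : Set M) ≤
      Subgroup.centralizer ((P : Subgroup M) : Set M) := by
    intro y hy
    have h1 : y * ⟨uZ hF 0 1, hN.one⟩ * y⁻¹ ∈ (P : Subgroup M) :=
      (Subgroup.mem_normalizer_iff.mp hy _).mp (hP h01M)
    have h2 := hPle _ h1
    simp only [Subgroup.coe_mul, Subgroup.coe_inv] at h2
    have h3 : (y : Cfsg.Sz F m) * uZ hF 0 1 * (y : Cfsg.Sz F m)⁻¹ ∈
        Uat hF ((y : Cfsg.Sz F m) • oInf F m) :=
      conj_mem_Uat hF hm (uZ_zero_mem_Uat hF hm 0 1) _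
    rw [← Uat_oInf hF hm] at h2
    have hfix : (y : Cfsg.Sz F m) • oInf F m = oInf F m := by
      by_contra hne
      exact conj_ne_one (uZ_zero_ne_one hF one_ne_zero) _ (Uat_inf_Uat hF hm hne h3 h2)
    obtain ⟨a, b, hab⟩ := hN.stab_small hF hm hsmall y.2 hfix
    rw [Subgroup.mem_centralizer_iff]
    intro x hx
    have hxU := hPle x hx
    rw [mem_USub_iff] at hxU
    obtain ⟨a', b', hab'⟩ := hxU
    apply Subtype.ext
    simp only [Subgroup.coe_mul]
    rw [hab, hab']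
    apply hN.comm_small hF hm hsmall
    · rw [← hab']; exact x.2
    · rw [← hab]; exact y.2
  set K := (MonoidHom.transferSylow P hNC).ker with hK
  have hcompl : Subgroup.IsComplement' K (P : Subgroup M) :=
    MonoidHom.ker_transferSylow_isComplement' P hNC
  have hKodd : ¬ 2 ∣ Nat.card K := MonoidHom.not_dvd_card_ker_transferSylow P hNC
  have hKnorm : K.Normal := MonoidHom.normal_ker _
  have hKbot : K ≠ ⊥ := by
    intro h
    rw [h, Subgroup.isComplement'_bot_left] at hcompl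
    obtain ⟨z₀, hr⟩ := hN.exists_swap_elt hF hm
    have h1 : (⟨_, hr⟩ : M) ∈ (P : Subgroup M) := by rw [hcompl]; exact Subgroup.mem_top _
    have h2 := hPle _ h1
    simp only at h2
    rw [mem_USub_iff] at h2
    obtain ⟨a, b, hab⟩ := h2
    have h3 : (wZ hF * hZ hF z₀) • oInf F m = oPt m (0 : F) 0 := by
      rw [mul_smul, hZ_smul_oInf, wZ_smul_oInf]
    rw [hab, uZ_smul_oInf] at h3
    exact oPt_ne_oInf (0 : F) 0 h3.symm
  set K' : Subgroup (Cfsg.Sz F m) := K.map M.subtype with hK'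
  apply exists_inList_normalizer hF hm K' M
  · rintro g hg
    rw [hK', Subgroup.mem_map] at hg
    obtain ⟨k, hk, rfl⟩ := hg
    intro h2
    apply hKodd
    have e1 : orderOf (M.subtype k) = orderOf k := Subgroup.orderOf_coe k
    have e2 : orderOf (⟨k, hk⟩ : K) = orderOf k := Subgroup.orderOf_mk k hk
    rw [e1, ← e2] at h2
    exact h2.trans (orderOf_dvd_natCard _)
  · intro h
    apply hKbot
    rw [eq_bot_iff]
    intro k hk
    have : M.subtype k ∈ K' := Subgroup.mem_map_of_mem _ hk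
    rw [h, Subgroup.mem_bot] at this
    rw [Subgroup.mem_bot]
    apply Subtype.ext
    exact this
  · intro y hy
    apply mem_normalizer_of_conj_mem
    intro a ha
    rw [hK', Subgroup.mem_map] at ha ⊢
    obtain ⟨k, hk, rfl⟩ := ha
    refine ⟨(⟨y, hy⟩ : M) * k * (⟨y, hy⟩ : M)⁻¹, hKnorm.conj_mem k hk (⟨y, hy⟩ : M), ?_⟩
    simp

end Cfsg.Agent.Lib.Helper4.Suz
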