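import Mathlib
import Cfsg.Prelude.Def_LieExceptional
import Cfsg.Agent.Lib.Helper4.Suz34

/-!
# Suzuki groups, part 35: the subfield subgroups
-/

set_option autoImplicit false
set_option linter.unusedSimpArgs false
set_option linter.unusedVariables false
set_option linter.style.haveILetI false

namespace Cfsg.Agent.Lib.Helper4.Suz

open MulAction Matrix

variable {F : Type*} [Field F] [Fintype F] {m : ℕ}
variable {K : Type*} [Field K] [Fintype K] {k : ℕ}

omit [Fintype F] [Fintype K] in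
theorem sub_map_ff (ι : K →+* F) (hι : ∀ x, ι (th k x) = th m (ι x)) (x y : K) :
    ι (ff k x y) = ff m (ι x) (ι y) := by
  unfold ff
  rw [map_add, map_add, map_mul, map_mul, map_pow, hι, hι]

omit [Fintype F] [Fintype K] in
theorem sub_map_uS (ι : K →+* F) (hι : ∀ x, ι (th k x) = th m (ι x)) (a b : K) :
    SpecialLinearGroup.map ι (uS k a b) = uS m (ι a) (ι b) := by
  apply Subtype.ext
  change ι.mapMatrix (uM k a b) = uM m (ι a) (ι b)
  ext i j
  rw [RingHom.mapMatrix_apply, Matrix.map_apply]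
  fin_cases i <;> fin_cases j <;> simp [uM, hι, sub_map_ff ι hι]

omit [Fintype F] [Fintype K] in
theorem sub_map_hS (ι : K →+* F) (hι : ∀ x, ι (th k x) = th m (ι x)) (z : Kˣ) :
    SpecialLinearGroup.map ι (hS k z) = hS m (Units.map (ι : K →* F) z) := by
  apply Subtype.ext
  change ι.mapMatrix (hM k (z : K)) = hM m ((Units.map (ι : K →* F) z : Fˣ) : F)
  ext i j
  rw [RingHom.mapMatrix_apply, Matrix.map_apply]
  fin_cases i <;> fin_cases j <;> simp [hM, hι]

theorem sub_map_wS (hF : Fintype.card F = 2 ^ (2 * m + 1)) (hK : Fintype.card K = 2 ^ (2 * k + 1))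
    (ι : K →+* F) : SpecialLinearGroup.map ι (wS hK) = wS hF := by
  apply Subtype.ext
  change ι.mapMatrix (wM : Matrix (Fin 4) (Fin 4) K) = wM
  ext i j
  rw [RingHom.mapMatrix_apply, Matrix.map_apply]
  fin_cases i <;> fin_cases j <;> simp [wM]

theorem sub_map_mem (hF : Fintype.card F = 2 ^ (2 * m + 1))
    (hK : Fintype.card K = 2 ^ (2 * k + 1)) (hk : 1 ≤ k) (ι : K →+* F)
    (hι : ∀ x, ι (th k x) = th m (ι x)) (g : Cfsg.Sz K k) :
    SpecialLinearGroup.map ι g.1 ∈ Cfsg.Sz F m := by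
  rcases bruhat hK hk g with ⟨a, b, z, h⟩ | ⟨a, b, a', b', z, h⟩
  · have h' : g.1 = uS k a b * hS k z := congrArg Subtype.val h
    rw [h', map_mul, sub_map_uS ι hι, sub_map_hS ι hι]
    exact (Cfsg.Sz F m).mul_mem (uS_mem hF _ _) (hS_mem hF _)
  · have h' : g.1 = uS k a b * wS hK * (uS k a' b' * hS k z) := congrArg Subtype.val h
    rw [h', map_mul, map_mul, map_mul, sub_map_uS ι hι, sub_map_uS ι hι, sub_map_hS ι hι,
      sub_map_wS hF hK]
    exact (Cfsg.Sz F m).mul_mem ((Cfsg.Sz F m).mul_mem (uS_mem hF _ _) (wS_mem hF))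
      ((Cfsg.Sz F m).mul_mem (uS_mem hF _ _) (hS_mem hF _))

/-- The embedding of `Sz(K)` into `Sz(F)` induced by a field embedding compatible with the Tits
endomorphisms. -/
noncomputable def subHom (hF : Fintype.card F = 2 ^ (2 * m + 1))
    (hK : Fintype.card K = 2 ^ (2 * k + 1)) (hk : 1 ≤ k) (ι : K →+* F)
    (hι : ∀ x, ι (th k x) = th m (ι x)) : Cfsg.Sz K k →* Cfsg.Sz F m where
  toFun g := ⟨SpecialLinearGroup.map ι g.1, sub_map_mem hF hK hk ι hι g⟩
  map_one' := by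
    apply Subtype.ext
    simp
  map_mul' x y := by
    apply Subtype.ext
    simp

theorem subHom_uZ (hF : Fintype.card F = 2 ^ (2 * m + 1))
    (hK : Fintype.card K = 2 ^ (2 * k + 1)) (hk : 1 ≤ k) (ι : K →+* F)
    (hι : ∀ x, ι (th k x) = th m (ι x)) (a b : K) :
    subHom hF hK hk ι hι (uZ hK a b) = uZ hF (ι a) (ι b) :=
  Subtype.ext (sub_map_uS ι hι a b)

theorem subHom_hZ (hF : Fintype.card F = 2 ^ (2 * m + 1))
    (hK : Fintype.card K = 2 ^ (2 * k + 1)) (hk : 1 ≤ k) (ι : K →+* F)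
    (hι : ∀ x, ι (th k x) = th m (ι x)) (z : Kˣ) :
    subHom hF hK hk ι hι (hZ hK z) = hZ hF (Units.map (ι : K →* F) z) :=
  Subtype.ext (sub_map_hS ι hι z)

theorem subHom_wZ (hF : Fintype.card F = 2 ^ (2 * m + 1))
    (hK : Fintype.card K = 2 ^ (2 * k + 1)) (hk : 1 ≤ k) (ι : K →+* F)
    (hι : ∀ x, ι (th k x) = th m (ι x)) :
    subHom hF hK hk ι hι (wZ hK) = wZ hF :=
  Subtype.ext (sub_map_wS hF hK ι)

theorem subHom_injective (hF : Fintype.card F = 2 ^ (2 * m + 1))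
    (hK : Fintype.card K = 2 ^ (2 * k + 1)) (hk : 1 ≤ k) (ι : K →+* F)
    (hι : ∀ x, ι (th k x) = th m (ι x)) : Function.Injective (subHom hF hK hk ι hι) := by
  intro g h hgh
  apply Subtype.ext
  apply Subtype.ext
  ext i j
  have h1 := congrArg (fun x : Cfsg.Sz F m => (x.1.1 : Matrix (Fin 4) (Fin 4) F) i j) hgh
  simp only [subHom, MonoidHom.coe_mk, OneHom.coe_mk, SpecialLinearGroup.map_apply_coe,
    RingHom.mapMatrix_apply, Matrix.map_apply] at h1
  exact ι.injective h1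

/-- The image of the embedding is the standard subgroup over the image of the field. -/
theorem subHom_range (hF : Fintype.card F = 2 ^ (2 * m + 1))
    (hK : Fintype.card K = 2 ^ (2 * k + 1)) (hk : 1 ≤ k) (ι : K →+* F)
    (hι : ∀ x, ι (th k x) = th m (ι x)) :
    ((subHom hF hK hk ι hι).range : Set (Cfsg.Sz F m)) = SSet hF (Set.range ι) := by
  ext g
  constructor
  · rintro ⟨x, rfl⟩
    rcases bruhat hK hk x with ⟨a, b, z, rfl⟩ | ⟨a, b, a', b', z, rfl⟩
    · left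
      refine ⟨ι a, ι b, Units.map (ι : K →* F) z, ⟨a, rfl⟩, ⟨b, rfl⟩, ⟨(z : K), rfl⟩, ?_⟩
      rw [map_mul, subHom_uZ, subHom_hZ]
    · right
      refine ⟨ι a, ι b, ι a', ι b', Units.map (ι : K →* F) z, ⟨a, rfl⟩, ⟨b, rfl⟩, ⟨a', rfl⟩,
        ⟨b', rfl⟩, ⟨(z : K), rfl⟩, ?_⟩
      rw [map_mul, map_mul, map_mul, subHom_uZ, subHom_uZ, subHom_hZ, subHom_wZ]
  · have hunit : ∀ z : Fˣ, (z : F) ∈ Set.range ι → ∃ z₀ : Kˣ, Units.map (ι : K →* F) z₀ = z := by
      rintro z ⟨x, hx⟩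
      have hx0 : x ≠ 0 := by
        rintro rfl
        rw [map_zero] at hx
        exact z.ne_zero hx.symm
      refine ⟨Units.mk0 x hx0, ?_⟩
      apply Units.ext
      simp [hx]
    rintro (⟨a, b, z, ⟨a₀, rfl⟩, ⟨b₀, rfl⟩, hz, rfl⟩ |
      ⟨a, b, a', b', z, ⟨a₀, rfl⟩, ⟨b₀, rfl⟩, ⟨a₁, rfl⟩, ⟨b₁, rfl⟩, hz, rfl⟩)
    · obtain ⟨z₀, rfl⟩ := hunit z hz
      refine ⟨uZ hK a₀ b₀ * hZ hK z₀, ?_⟩
      rw [map_mul, subHom_uZ, subHom_hZ]
    · obtain ⟨z₀, rfl⟩ := hunit z hz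
      refine ⟨uZ hK a₀ b₀ * wZ hK * (uZ hK a₁ b₁ * hZ hK z₀), ?_⟩
      rw [map_mul, map_mul, map_mul, subHom_uZ, subHom_uZ, subHom_hZ, subHom_wZ]

theorem pow_pow_fixed {R : Type*} [Monoid R] {y : R} {n : ℕ} (hy : y ^ n = y) (j : ℕ) :
    y ^ n ^ j = y := by
  induction j with
  | zero => simp
  | succ j ih => rw [pow_succ, pow_mul, ih, hy]

/-- Field embeddings are compatible with the Tits endomorphisms. -/
theorem th_compat (hK : Fintype.card K = 2 ^ (2 * k + 1)) (hdiv : 2 * k + 1 ∣ 2 * m + 1)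
    (ι : K →+* F) (x : K) : ι (th k x) = th m (ι x) := by
  unfold th
  rw [map_pow]
  have hy : (ι x) ^ 2 ^ (2 * k + 1) = ι x := by
    rw [← map_pow, ← hK, FiniteField.pow_card]
  obtain ⟨d, hd⟩ := hdiv
  obtain ⟨j, hj⟩ : ∃ j, d = 2 * j + 1 := by
    rcases Nat.even_or_odd' d with ⟨j, h | h⟩
    · exfalso
      rw [h] at hd
      have : 2 * m + 1 = 2 * ((2 * k + 1) * j) := by rw [hd]; ring
      omega
    · exact ⟨j, h⟩
  have hm : m + 1 = (2 * k + 1) * j + (k + 1) := by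
    rw [hj] at hd
    have : 2 * m + 1 = 2 * ((2 * k + 1) * j + k) + 1 := by rw [hd]; ring
    omega
  have e : 2 ^ (m + 1) = (2 ^ (2 * k + 1)) ^ j * 2 ^ (k + 1) := by
    rw [hm, pow_add, pow_mul]
  rw [e, pow_mul, pow_pow_fixed hy]

theorem card_subfield (hF : Fintype.card F = 2 ^ (2 * m + 1)) (S : Subfield F) :
    ∃ e : ℕ, 1 ≤ e ∧ e ∣ 2 * m + 1 ∧ Nat.card S = 2 ^ e := by
  have h1 : Nat.card F = Nat.card S ^ Module.finrank S F := Module.natCard_eq_pow_finrank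
  rw [Nat.card_eq_fintype_card, hF] at h1
  have hd0 : Module.finrank S F ≠ 0 := by
    intro h
    rw [h, pow_zero] at h1
    have : 2 ≤ 2 ^ (2 * m + 1) := by
      calc 2 = 2 ^ 1 := by norm_num
        _ ≤ 2 ^ (2 * m + 1) := Nat.pow_le_pow_right (by norm_num) (by omega)
    omega
  have hdvd : Nat.card S ∣ 2 ^ (2 * m + 1) := by
    rw [h1]; exact dvd_pow_self _ hd0
  obtain ⟨e, -, he⟩ := (Nat.dvd_prime_pow Nat.prime_two).mp hdvd
  refine ⟨e, ?_, ?_, he⟩
  · by_contra hlt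
    have he0 : e = 0 := by omega
    rw [he0, pow_zero] at he
    have : 1 < Nat.card S := Finite.one_lt_card
    omega
  · rw [he, ← pow_mul] at h1
    have := Nat.pow_right_injective (le_refl 2) h1
    exact ⟨_, this⟩

theorem exists_ringHom_range (S : Subfield F) {e : ℕ} (hS : Nat.card S = 2 ^ e)
    (hK : Fintype.card K = 2 ^ e) : ∃ ι : K →+* F, Set.range ι = (S : Set F) := by
  letI : Fintype S := Fintype.ofFinite S
  have hc : Fintype.card K = Fintype.card S := by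
    rw [hK, ← hS, Nat.card_eq_fintype_card]
  let φ : K ≃+* S := FiniteField.ringEquivOfCardEq hc
  refine ⟨S.subtype.comp (φ : K →+* S), ?_⟩
  ext y
  constructor
  · rintro ⟨x, rfl⟩
    exact (φ x).2
  · intro hy
    refine ⟨φ.symm ⟨y, hy⟩, ?_⟩
    simp

universe v

/-- The standard subgroup over a subfield with more than two elements is a Suzuki group over
that subfield. -/
theorem exists_subHom (hF : Fintype.card F = 2 ^ (2 * m + 1)) (S : Subfield F) {l : F}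
    (hl : l ∈ S) (hl0 : l ≠ 0) (hl1 : l ≠ 1) :
    ∃ k' : ℕ, 1 ≤ k' ∧ 2 * k' + 1 ∣ 2 * m + 1 ∧ Nat.card S = 2 ^ (2 * k' + 1) ∧
      ∀ (K' : Type v) [Field K'] [Fintype K'], Fintype.card K' = 2 ^ (2 * k' + 1) →
        ∃ Ψ : Cfsg.Sz K' k' →* Cfsg.Sz F m, Function.Injective Ψ ∧
          (Ψ.range : Set (Cfsg.Sz F m)) = SSet hF (S : Set F) := by
  obtain ⟨e, he1, hediv, hcard⟩ := card_subfield hF S
  have h3 : 2 < Nat.card S := by
    letI : Fintype S := Fintype.ofFinite S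
    rw [Nat.card_eq_fintype_card, Fintype.two_lt_card_iff]
    refine ⟨⟨0, S.zero_mem⟩, ⟨1, S.one_mem⟩, ⟨l, hl⟩, ?_, ?_, ?_⟩
    · intro h; exact zero_ne_one (congrArg Subtype.val h)
    · intro h; exact hl0 (congrArg Subtype.val h).symm
    · intro h; exact hl1 (congrArg Subtype.val h).symm
  have he2 : 2 ≤ e := by
    by_contra hlt
    have : e = 1 := by omega
    rw [hcard, this] at h3
    norm_num at h3
  obtain ⟨k', hk'⟩ : ∃ k', e = 2 * k' + 1 := by
    rcases Nat.even_or_odd' e with ⟨j, h | h⟩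
    · exfalso
      rw [h] at hediv
      have : 2 ∣ 2 * m + 1 := (Dvd.intro _ rfl).trans hediv
      omega
    · exact ⟨j, h⟩
  have hk1 : 1 ≤ k' := by omega
  rw [hk'] at hediv hcard
  refine ⟨k', hk1, hediv, hcard, ?_⟩
  intro K' _ _ hK'
  obtain ⟨ι, hι⟩ := exists_ringHom_range S hcard hK'
  have hth := th_compat (F := F) (m := m) hK' hediv ι
  refine ⟨subHom hF hK' hk1 ι hth, subHom_injective hF hK' hk1 ι hth, ?_⟩
  rw [subHom_range, hι]

end Cfsg.Agent.Lib.Helper4.Suz
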