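import Mathlib
import Cfsg.Prelude.Def_LieExceptional
import Cfsg.Agent.Lib.Helper4.Suz35

/-!
# Suzuki groups, part 36: the subgroup theorem
-/

set_option autoImplicit false
set_option linter.unusedSimpArgs false
set_option linter.unusedVariables false
set_option linter.style.haveILetI false

namespace Cfsg.Agent.Lib.Helper4.Suz

open MulAction

variable {F : Type*} [Field F] [Fintype F] {m : ℕ}

/-- The three alternatives of the subgroup theorem. -/
def SubProp (hF : Fintype.card F = 2 ^ (2 * m + 1)) (M : Subgroup (Cfsg.Sz F m)) : Prop :=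
  (∃ P : Cfsg.suzukiOvoid F m, ∀ g ∈ M, g • P = P) ∨
  ((∃ U : Subgroup (Cfsg.Sz F m), InList U ∧
      M ≤ Subgroup.normalizer (U : Set (Cfsg.Sz F m))) ∧
    (∀ s ∈ M, ∀ t ∈ M, s ≠ 1 → s * s = 1 → t ≠ 1 → t * t = 1 → s * t = t * s → s = t)) ∨
  (∃ (S : Subfield F) (c : Cfsg.Sz F m), (∃ l ∈ S, l ≠ 0 ∧ l ≠ 1) ∧
    ((M.map (MulAut.conj c).toMonoidHom : Subgroup (Cfsg.Sz F m)) : Set (Cfsg.Sz F m)) =
      SSet hF (S : Set F))

theorem conj_mem_map {G : Type*} [Group G] {M : Subgroup G} {g : G} (hg : g ∈ M) (x : G) :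
    x * g * x⁻¹ ∈ M.map (MulAut.conj x).toMonoidHom :=
  Subgroup.mem_map.mpr ⟨g, hg, by simp [MulAut.conj_apply]⟩

theorem map_conj_map_conj {G : Type*} [Group G] (M : Subgroup G) (x c : G) :
    (M.map (MulAut.conj x).toMonoidHom).map (MulAut.conj c).toMonoidHom =
      M.map (MulAut.conj (c * x)).toMonoidHom := by
  rw [Subgroup.map_map]
  congr 1
  ext g
  simp [MulAut.conj_apply, mul_assoc]

theorem map_conj_one {G : Type*} [Group G] (M : Subgroup G) :
    M.map (MulAut.conj (1 : G)).toMonoidHom = M := by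
  ext g
  rw [Subgroup.mem_map]
  constructor
  · rintro ⟨a, ha, rfl⟩
    simpa using ha
  · intro hg
    exact ⟨g, hg, by simp⟩

theorem SubProp.of_conj (hF : Fintype.card F = 2 ^ (2 * m + 1)) (hm : 1 ≤ m)
    {M : Subgroup (Cfsg.Sz F m)} (x : Cfsg.Sz F m)
    (h : SubProp hF (M.map (MulAut.conj x).toMonoidHom)) : SubProp hF M := by
  rcases h with ⟨P, hP⟩ | ⟨⟨U, hU, hMU⟩, hinv⟩ | ⟨S, c, hl, hS⟩
  · left
    refine ⟨x⁻¹ • P, ?_⟩
    intro g hg
    have := hP _ (conj_mem_map hg x)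
    rw [mul_smul, mul_smul] at this
    exact eq_inv_smul_iff.mpr this
  · right; left
    refine ⟨⟨U.map (MulAut.conj x⁻¹).toMonoidHom, hU.conj _, ?_⟩, ?_⟩
    · intro g hg
      rw [mem_normalizer_conj_iff, inv_inv]
      exact hMU (conj_mem_map hg x)
    · intro s hs t ht hs1 hss ht1 htt hc
      have := hinv _ (conj_mem_map hs x) _ (conj_mem_map ht x) (conj_ne_one hs1 x)
        (conj_mul_self hss x) (conj_ne_one ht1 x) (conj_mul_self htt x) (by
          calc x * s * x⁻¹ * (x * t * x⁻¹) = x * (s * t) * x⁻¹ := by group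
            _ = x * (t * s) * x⁻¹ := by rw [hc]
            _ = x * t * x⁻¹ * (x * s * x⁻¹) := by group)
      have e : s = x⁻¹ * (x * s * x⁻¹) * x := by group
      rw [e, this]; group
  · right; right
    refine ⟨S, c * x, hl, ?_⟩
    rw [← map_conj_map_conj]
    exact hS

theorem Del_conj (hF : Fintype.card F = 2 ^ (2 * m + 1)) (hm : 1 ≤ m)
    {M : Subgroup (Cfsg.Sz F m)} {P : Cfsg.suzukiOvoid F m} (hP : P ∈ Del hF M)
    (c : Cfsg.Sz F m) : c • P ∈ Del hF (M.map (MulAut.conj c).toMonoidHom) := by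
  obtain ⟨t, htM, ht1, htt, htU⟩ := hP
  exact ⟨c * t * c⁻¹, conj_mem_map htM c, conj_ne_one ht1 c, conj_mul_self htt c,
    conj_mem_Uat hF hm htU c⟩

/-- Normalisation: two points of `Del` can be moved to `∞` and `0`, with `u(0,1) ∈ M`. -/
theorem exists_normd (hF : Fintype.card F = 2 ^ (2 * m + 1)) (hm : 1 ≤ m)
    {M : Subgroup (Cfsg.Sz F m)} {P Q : Cfsg.suzukiOvoid F m} (hP : P ∈ Del hF M)
    (hQ : Q ∈ Del hF M) (hPQ : P ≠ Q) :
    ∃ x : Cfsg.Sz F m, Normd hF (M.map (MulAut.conj x).toMonoidHom) := by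
  obtain ⟨c, hcP, hcQ⟩ := exists_smul_pair hF hPQ
  set M₁ := M.map (MulAut.conj c).toMonoidHom with hM₁
  have h1 : oInf F m ∈ Del hF M₁ := by rw [← hcP]; exact Del_conj hF hm hP c
  have h2 : oPt m (0 : F) 0 ∈ Del hF M₁ := by rw [← hcQ]; exact Del_conj hF hm hQ c
  obtain ⟨t, htM, ht1, htt, htU⟩ := h1
  rw [Uat_oInf hF hm, mem_USub_iff] at htU
  obtain ⟨a, b, rfl⟩ := htU
  obtain ⟨rfl, hb⟩ := involution_uZ hF ht1 htt
  have h1 : oInf F m ∈ Del hF M₁ := ⟨_, htM, ht1, htt, uZ_zero_mem_Uat hF hm 0 b⟩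
  obtain ⟨z, hz⟩ := exists_multiplier hF (Units.mk0 b⁻¹ (inv_ne_zero hb))
  rw [Units.val_mk0] at hz
  refine ⟨hZ hF z * c, ?_⟩
  rw [← map_conj_map_conj]
  refine ⟨?_, ?_, ?_⟩
  · have := Del_conj hF hm h1 (hZ hF z)
    rwa [hZ_smul_oInf] at this
  · have := Del_conj hF hm h2 (hZ hF z)
    rwa [hZ_smul_zero] at this
  · have := conj_mem_map htM (hZ hF z)
    rw [hZ_uZ_hZ, mul_zero, hz, inv_mul_cancel₀ hb] at this
    exact this

/-- **The subgroup theorem for the Suzuki groups.** -/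
theorem subgroup_theorem (hF : Fintype.card F = 2 ^ (2 * m + 1)) (hm : 1 ≤ m)
    (M : Subgroup (Cfsg.Sz F m)) : SubProp hF M := by
  by_cases hinv : ∃ t ∈ M, t ≠ 1 ∧ t * t = 1
  · obtain ⟨t, htM, ht1, htt⟩ := hinv
    obtain ⟨P, htU⟩ := exists_mem_Uat_of_involution hF hm ht1 htt
    have hPD : P ∈ Del hF M := ⟨t, htM, ht1, htt, htU⟩
    by_cases hone : ∀ Q ∈ Del hF M, Q = P
    · left
      exact ⟨P, fun g hg => hone _ (Del_smul hF hm hPD hg)⟩
    · rw [not_forall] at hone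
      obtain ⟨Q, hQ⟩ := hone
      rw [Classical.not_imp] at hQ
      obtain ⟨hQD, hQP⟩ := hQ
      obtain ⟨x, hN⟩ := exists_normd hF hm hPD hQD (Ne.symm hQP)
      apply SubProp.of_conj hF hm x
      set M' := M.map (MulAut.conj x).toMonoidHom with hM'
      by_cases hbig : ∃ l : F, l ≠ 0 ∧ l ≠ 1 ∧ uZ hF 0 l ∈ M'
      · obtain ⟨l, hl0, hl1, hlM⟩ := hbig
        right; right
        refine ⟨hN.K1 hF hm, 1, ⟨l, hlM, hl0, hl1⟩, ?_⟩
        rw [map_conj_one]
        exact hN.eq_SSet hF hm hl0 hl1 hlM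
      · have hsmall : ∀ b : F, uZ hF 0 b ∈ M' → b = 0 ∨ b = 1 := by
          intro b hb
          by_contra hcon
          rw [not_or] at hcon
          exact hbig ⟨b, hcon.1, hcon.2, hb⟩
        right; left
        refine ⟨hN.exists_inList_small hF hm hsmall, ?_⟩
        intro s hs t ht hs1 hss ht1 htt hc
        exact hN.commuting_involutions hF hm hsmall hs hs1 hss ht ht1 htt hc
  · have hno : ∀ t ∈ M, t * t = 1 → t = 1 := by
      intro t ht htt
      by_contra ht1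
      exact hinv ⟨t, ht, ht1, htt⟩
    have hodd : ∀ g ∈ M, ¬ 2 ∣ orderOf g := by
      intro g hg h2
      have ho : orderOf (g ^ (orderOf g / 2)) = 2 :=
        orderOf_pow_orderOf_div (orderOf_pos g).ne' h2
      have h1 : g ^ (orderOf g / 2) * g ^ (orderOf g / 2) = 1 := by
        have := pow_orderOf_eq_one (g ^ (orderOf g / 2))
        rw [ho, sq] at this
        exact this
      have h3 := hno _ (M.pow_mem hg _) h1
      rw [h3, orderOf_one] at ho
      omega
    by_cases hbot : M = ⊥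
    · left
      refine ⟨oInf F m, ?_⟩
      intro g hg
      rw [hbot, Subgroup.mem_bot] at hg
      rw [hg, one_smul]
    · right; left
      obtain ⟨U, hU, hMU⟩ := exists_inList_of_odd_sub hF hm M hodd hbot
      refine ⟨⟨U, hU, hMU.trans Subgroup.le_normalizer⟩, ?_⟩
      intro s hs t ht hs1 hss
      exact absurd (hno s hs hss) hs1

end Cfsg.Agent.Lib.Helper4.Suz
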