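import Mathlib
import Cfsg.Prelude.Def_LieExceptional
import Cfsg.Agent.Lib.Helper4.Suz36

/-!
# Suzuki groups, part 37: consequences of the subgroup theorem
-/

set_option autoImplicit false
set_option linter.unusedSimpArgs false
set_option linter.unusedVariables false
set_option linter.style.haveILetI false

namespace Cfsg.Agent.Lib.Helper4.Suz

open MulAction

variable {F : Type*} [Field F] [Fintype F] {m : ℕ}

theorem Uat_eq_map (hF : Fintype.card F = 2 ^ (2 * m + 1)) (hm : 1 ≤ m) (c : Cfsg.Sz F m) :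
    Uat hF (c • oInf F m) = (USub hF).map (MulAut.conj c).toMonoidHom := by
  ext g
  rw [mem_map_conj_USub_iff hF hm]

theorem exists_sylow_Uat (hF : Fintype.card F = 2 ^ (2 * m + 1)) (hm : 1 ≤ m)
    (P : Cfsg.suzukiOvoid F m) :
    ∃ Q : Sylow 2 (Cfsg.Sz F m), (Q : Subgroup (Cfsg.Sz F m)) = Uat hF P := by
  haveI : Fact (Nat.Prime 2) := ⟨Nat.prime_two⟩
  obtain ⟨c, hc⟩ := exists_smul_eq_oInf hF P
  have hc' : c⁻¹ • oInf F m = P := by rw [inv_smul_eq_iff, hc]
  have hcard : Nat.card (Uat hF P) = 2 ^ (Nat.card (Cfsg.Sz F m)).factorization 2 := by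
    rw [← hc', Uat_eq_map hF hm, card_map_conj, card_USub, factorization_card_Sz hF hm, pow_mul,
      ← pow_mul, ← pow_mul, mul_comm]
  exact ⟨Sylow.ofCard (Uat hF P) hcard, Sylow.coe_ofCard _ _⟩

theorem mem_normalizer_Uat (hF : Fintype.card F = 2 ^ (2 * m + 1)) (hm : 1 ≤ m)
    {P : Cfsg.suzukiOvoid F m} {g : Cfsg.Sz F m} (hg : g • P = P) :
    g ∈ Subgroup.normalizer (Uat hF P : Set (Cfsg.Sz F m)) := by
  apply mem_normalizer_of_conj_mem
  intro a ha
  have := conj_mem_Uat hF hm ha g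
  rwa [hg] at this

/-- The standard subgroup over the whole field is the whole group. -/
theorem SSet_univ (hF : Fintype.card F = 2 ^ (2 * m + 1)) (hm : 1 ≤ m) (S : Set F)
    (hS : ∀ x, x ∈ S) : SSet hF S = Set.univ := by
  ext g
  simp only [Set.mem_univ, iff_true]
  rcases bruhat hF hm g with ⟨a, b, z, rfl⟩ | ⟨a, b, a', b', z, rfl⟩
  · exact Or.inl ⟨a, b, z, hS _, hS _, hS _, rfl⟩
  · exact Or.inr ⟨a, b, a', b', z, hS _, hS _, hS _, hS _, hS _, rfl⟩

theorem subfield_eq_top_of_card (hF : Fintype.card F = 2 ^ (2 * m + 1)) (S : Subfield F)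
    (hS : Nat.card S = 2 ^ (2 * m + 1)) : ∀ x : F, x ∈ S := by
  have h1 : (S : Set F) = Set.univ := by
    apply Set.eq_of_subset_of_ncard_le (Set.subset_univ _)
    rw [Set.ncard_univ, Nat.card_eq_fintype_card, hF, ← hS]
    rfl
  intro x
  have : x ∈ (S : Set F) := by rw [h1]; exact Set.mem_univ x
  exact this

end Cfsg.Agent.Lib.Helper4.Suz
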