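import Mathlib
import Cfsg.Prelude.Def_LieExceptional
import Cfsg.Agent.Lib.Helper4.Suz37

/-!
# Suzuki groups, part 38: subgroups isomorphic to a smaller Suzuki group
-/

set_option autoImplicit false
set_option linter.unusedSimpArgs false
set_option linter.unusedVariables false
set_option linter.style.haveILetI false

namespace Cfsg.Agent.Lib.Helper4.Suz

open MulAction

variable {F : Type*} [Field F] [Fintype F] {m : ℕ}
variable {K : Type*} [Field K] [Fintype K] {k : ℕ}

theorem exists_ringHom_of_dvd (hF : Fintype.card F = 2 ^ (2 * m + 1))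
    (hK : Fintype.card K = 2 ^ (2 * k + 1)) (hdiv : 2 * k + 1 ∣ 2 * m + 1) :
    Nonempty (K →+* F) := by
  haveI : Fact (Nat.Prime 2) := ⟨Nat.prime_two⟩
  haveI : CharP K 2 := CharTwo.of_one_ne_zero_of_two_eq_zero one_ne_zero (two_eq_zero hK)
  haveI : CharP F 2 := CharTwo.of_one_ne_zero_of_two_eq_zero one_ne_zero (two_eq_zero hF)
  letI := ZMod.algebra K 2
  letI := ZMod.algebra F 2
  have h1 : Module.finrank (ZMod 2) K = 2 * k + 1 := by
    have := FiniteField.pow_finrank_eq_card 2 K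
    rw [hK] at this
    exact Nat.pow_right_injective (le_refl 2) this
  have h2 : Module.finrank (ZMod 2) F = 2 * m + 1 := by
    have := FiniteField.pow_finrank_eq_card 2 F
    rw [hF] at this
    exact Nat.pow_right_injective (le_refl 2) this
  obtain ⟨f⟩ := FiniteField.nonempty_algHom_of_finrank_dvd (F := ZMod 2) (K := K) (L := F)
    (by rw [h1, h2]; exact hdiv)
  exact ⟨f.toRingHom⟩

/-- A subfield of order `2^e` is the set of fixed points of `x ↦ x^(2^e)`. -/
theorem subfield_eq_fixed (hF : Fintype.card F = 2 ^ (2 * m + 1)) (S : Subfield F) {e : ℕ}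
    (he1 : 1 ≤ e) (hediv : e ∣ 2 * m + 1) (hcard : Nat.card S = 2 ^ e) :
    (S : Set F) = {b : F | b ^ 2 ^ e = b} := by
  apply Set.eq_of_subset_of_ncard_le
  · intro x hx
    letI : Fintype S := Fintype.ofFinite S
    have h := FiniteField.pow_card (⟨x, hx⟩ : S)
    rw [← Nat.card_eq_fintype_card, hcard] at h
    have h' := congrArg Subtype.val h
    simpa using h'
  · have h1 : Nat.card {b : F // b ^ 2 ^ e = b} = 2 ^ e := card_fixed_pow hF he1 hediv
    have h2 : ({b : F | b ^ 2 ^ e = b} : Set F).ncard = 2 ^ e := by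
      have : ({b : F | b ^ 2 ^ e = b} : Set F).ncard = Nat.card {b : F // b ^ 2 ^ e = b} := rfl
      rw [this, h1]
    have h3 : (S : Set F).ncard = 2 ^ e := by
      have : (S : Set F).ncard = Nat.card S := rfl
      rw [this, hcard]
    rw [h2, h3]
  · exact Set.toFinite _

theorem subfield_eq_of_card_eq (hF : Fintype.card F = 2 ^ (2 * m + 1)) (S S' : Subfield F)
    (h : Nat.card S = Nat.card S') : S = S' := by
  obtain ⟨e, he1, hediv, hcard⟩ := card_subfield hF S
  have hcard' : Nat.card S' = 2 ^ e := by rw [← h, hcard]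
  apply SetLike.coe_injective
  rw [subfield_eq_fixed hF S he1 hediv hcard, subfield_eq_fixed hF S' he1 hediv hcard']

/-- Two involutions of `Uat P` commute. -/
theorem Uat_involutions_commute (hF : Fintype.card F = 2 ^ (2 * m + 1)) (hm : 1 ≤ m)
    {P : Cfsg.suzukiOvoid F m} {s t : Cfsg.Sz F m} (hs : s ∈ Uat hF P) (hss : s * s = 1)
    (ht : t ∈ Uat hF P) (htt : t * t = 1) : s * t = t * s := by
  obtain ⟨c, hc⟩ := exists_smul_eq_oInf hF P
  have hc' : c⁻¹ • oInf F m = P := by rw [inv_smul_eq_iff, hc]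
  obtain ⟨a, b, hab⟩ := (mem_Uat_iff hF hm hc' s).mp hs
  obtain ⟨a', b', hab'⟩ := (mem_Uat_iff hF hm hc' t).mp ht
  rw [inv_inv] at hab hab'
  have key : ∀ {x : Cfsg.Sz F m} {a b : F}, c * x * c⁻¹ = uZ hF a b → x * x = 1 → a = 0 := by
    intro x a b hx hxx
    have hsq : uZ hF a b * uZ hF a b = 1 := by rw [← hx]; exact conj_mul_self hxx c
    rw [uZ_sq, ← uZ_zero hF] at hsq
    rcases mul_eq_zero.mp (uZ_injective hF hsq).2 with h | h
    · exact h
    · exact th_eq_zero h
  have ha := key hab hss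
  have ha' := key hab' htt
  subst ha ha'
  have e1 : s = c⁻¹ * uZ hF 0 b * c := by rw [← hab]; group
  have e2 : t = c⁻¹ * uZ hF 0 b' * c := by rw [← hab']; group
  have e3 : uZ hF 0 b * uZ hF 0 b' = uZ hF 0 b' * uZ hF 0 b := by
    rw [uZ_mul, uZ_mul, th_zero, zero_mul, add_comm b b']
  rw [e1, e2]
  calc c⁻¹ * uZ hF 0 b * c * (c⁻¹ * uZ hF 0 b' * c)
      = c⁻¹ * (uZ hF 0 b * uZ hF 0 b') * c := by group
    _ = c⁻¹ * (uZ hF 0 b' * uZ hF 0 b) * c := by rw [e3]
    _ = c⁻¹ * uZ hF 0 b' * c * (c⁻¹ * uZ hF 0 b * c) := by group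

/-- Two non-commuting involutions of the Suzuki group. -/
theorem noncommuting_involutions (hK : Fintype.card K = 2 ^ (2 * k + 1)) (hk : 1 ≤ k) :
    uZ hK 0 1 * (wZ hK * uZ hK 0 1 * wZ hK) ≠ (wZ hK * uZ hK 0 1 * wZ hK) * uZ hK 0 1 := by
  intro h
  have h1 : wZ hK * uZ hK 0 1 * wZ hK ∈ Subgroup.centralizer ({uZ hK 0 1} : Set (Cfsg.Sz K k)) := by
    rw [mem_centralizer_singleton]; exact h
  have h2 := centralizer_uZ_le hK hk one_ne_zero h1
  rw [mem_USub_iff] at h2
  obtain ⟨a, b, hab⟩ := h2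
  have h3 : (wZ hK * uZ hK 0 1 * wZ hK) • oInf K k = oInf K k := by
    rw [hab, uZ_smul_oInf]
  rw [mul_smul, mul_smul, wZ_smul_oInf, uZ_smul_zero,
    wZ_smul_oPt hK (Or.inr (one_ne_zero))] at h3
  exact oPt_ne_oInf _ _ h3

/-- An involution fixing a point lies in the Sylow subgroup at that point. -/
theorem involution_mem_Uat_of_fix (hF : Fintype.card F = 2 ^ (2 * m + 1)) (hm : 1 ≤ m)
    {P : Cfsg.suzukiOvoid F m} {s : Cfsg.Sz F m} (hs1 : s ≠ 1) (hss : s * s = 1)
    (hfix : s • P = P) : s ∈ Uat hF P := by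
  obtain ⟨R, hR⟩ := exists_mem_Uat_of_involution hF hm hs1 hss
  have := eq_of_mem_Uat_of_smul_eq hF hm hR hs1 hfix
  rw [this]; exact hR

/-- A subgroup isomorphic to `Sz(K)` is conjugate to the standard subgroup over the subfield of
the same order as `K`. -/
theorem conj_to_standard (hF : Fintype.card F = 2 ^ (2 * m + 1)) (hm : 1 ≤ m)
    (hK : Fintype.card K = 2 ^ (2 * k + 1)) (hk : 1 ≤ k) (S₁ : Subgroup (Cfsg.Sz F m))
    (e : S₁ ≃* Cfsg.Sz K k) :
    ∃ (S' : Subfield F) (c : Cfsg.Sz F m), Nat.card S' = 2 ^ (2 * k + 1) ∧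
      ((S₁.map (MulAut.conj c).toMonoidHom : Subgroup (Cfsg.Sz F m)) : Set (Cfsg.Sz F m)) =
        SSet hF (S' : Set F) := by
  haveI : Fact (Nat.Prime 2) := ⟨Nat.prime_two⟩
  -- transport of elements
  let f : Cfsg.Sz K k → Cfsg.Sz F m := fun x => ((e.symm x : S₁) : Cfsg.Sz F m)
  have hfM : ∀ x, f x ∈ S₁ := fun x => (e.symm x).2
  have hfmul : ∀ x y, f (x * y) = f x * f y := by
    intro x y; simp only [f, map_mul, Subgroup.coe_mul]
  have hfone : f 1 = 1 := by simp only [f, map_one, Subgroup.coe_one]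
  have hfinj : Function.Injective f := by
    intro x y h
    exact e.symm.injective (Subtype.ext h)
  have hfne : ∀ x, x ≠ 1 → f x ≠ 1 := by
    intro x hx h
    apply hx
    apply hfinj
    rw [h, hfone]
  have hfsq : ∀ x, x * x = 1 → f x * f x = 1 := by
    intro x hx
    rw [← hfmul, hx, hfone]
  -- the test elements
  set u := uZ hK 0 1 with hu
  set v := wZ hK * uZ hK 0 1 * wZ hK with hv
  have hu1 : u ≠ 1 := uZ_zero_ne_one hK one_ne_zero
  have huu : u * u = 1 := uZ_zero_mul_self hK 1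
  have hvv : v * v = 1 := by
    rw [hv]
    calc wZ hK * uZ hK 0 1 * wZ hK * (wZ hK * uZ hK 0 1 * wZ hK)
        = wZ hK * uZ hK 0 1 * (wZ hK * wZ hK) * uZ hK 0 1 * wZ hK := by group
      _ = 1 := by
          rw [wZ_mul_wZ, mul_one, mul_assoc (wZ hK), uZ_zero_mul_self, mul_one, wZ_mul_wZ]
  have hv1 : v ≠ 1 := by
    intro h
    apply hu1
    have : u = wZ hK * v * wZ hK := by
      rw [hv]
      calc u = (wZ hK * wZ hK) * u * (wZ hK * wZ hK) := by
            rw [wZ_mul_wZ, one_mul, mul_one]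
        _ = wZ hK * (wZ hK * uZ hK 0 1 * wZ hK) * wZ hK := by rw [hu]; group
    rw [this, h, mul_one, wZ_mul_wZ]
  have huv : u * v ≠ v * u := noncommuting_involutions hK hk
  obtain ⟨l, hl0, hl1⟩ := exists_ne_zero_one hK hk
  set u' := uZ hK 0 l with hu'
  have hu'1 : u' ≠ 1 := uZ_zero_ne_one hK hl0
  have hu'u' : u' * u' = 1 := uZ_zero_mul_self hK l
  have huu' : u * u' = u' * u := by
    rw [hu, hu', uZ_mul, uZ_mul, th_zero, zero_mul, add_comm (1 : K) l]
  have hne : u ≠ u' := by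
    intro h
    exact hl1 (uZ_injective hK h).2.symm
  rcases subgroup_theorem hF hm S₁ with ⟨P, hP⟩ | ⟨-, hinv⟩ | ⟨S', c, ⟨l', hlS, hl0', hl1'⟩, hS⟩
  · exfalso
    have h1 := involution_mem_Uat_of_fix hF hm (hfne u hu1) (hfsq u huu) (hP _ (hfM u))
    have h2 := involution_mem_Uat_of_fix hF hm (hfne v hv1) (hfsq v hvv) (hP _ (hfM v))
    have h3 := Uat_involutions_commute hF hm h1 (hfsq u huu) h2 (hfsq v hvv)
    rw [← hfmul, ← hfmul] at h3
    exact huv (hfinj h3)
  · exfalso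
    have := hinv _ (hfM u) _ (hfM u') (hfne u hu1) (hfsq u huu) (hfne u' hu'1) (hfsq u' hu'u')
      (by rw [← hfmul, ← hfmul, huu'])
    exact hne (hfinj this)
  · obtain ⟨k', hk1, hdiv', hcard', hΨ⟩ := exists_subHom.{0, _} hF S' hlS hl0' hl1'
    letI : Fintype (GaloisField 2 (2 * k' + 1)) := Fintype.ofFinite _
    have hK' : Fintype.card (GaloisField 2 (2 * k' + 1)) = 2 ^ (2 * k' + 1) := by
      rw [← Nat.card_eq_fintype_card, GaloisField.card 2 (2 * k' + 1) (by omega)]
    obtain ⟨Ψ, hinj, hrange⟩ := hΨ (GaloisField 2 (2 * k' + 1)) hK'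
    have hsub : Ψ.range = S₁.map (MulAut.conj c).toMonoidHom := by
      apply SetLike.coe_injective
      rw [hrange, hS]
    have hc1 : Nat.card (Cfsg.Sz (GaloisField 2 (2 * k' + 1)) k') = Nat.card (Cfsg.Sz K k) := by
      rw [Nat.card_congr (MonoidHom.ofInjective hinj).toEquiv, hsub, card_map_conj,
        Nat.card_congr e.toEquiv]
    have hkk : k' = k := by
      have h1 := factorization_card_Sz hK' hk1
      have h2 := factorization_card_Sz hK hk
      rw [hc1, h2] at h1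
      omega
    refine ⟨S', c, ?_, hS⟩
    rw [hcard', hkk]

end Cfsg.Agent.Lib.Helper4.Suz
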