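import Mathlib
import Cfsg.Prelude.Def_LieExceptional
import Cfsg.Prelude.Def_Sz
import Cfsg.Agent.Lib.Helper4.Suz38
import Cfsg.Agent.Lib.Helper4.SzB4

/-!
# Suzuki groups, part 39: nilpotent covers
-/

set_option autoImplicit false
set_option linter.unusedSimpArgs false
set_option linter.unusedVariables false
set_option linter.style.haveILetI false

namespace Cfsg.Agent.Lib.Helper4.Suz

open MulAction

/-- If two elements lie only in nilpotent subgroups contained in a fixed proper subgroup, and in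
no common nilpotent subgroup, there is no nilpotent minimal cover. -/
theorem no_nilpotent_min_cover {G : Type*} [Group G] (B : Subgroup G) (hB : B ≠ ⊤) (x y : G)
    (hx : ∀ A : Subgroup G, Group.IsNilpotent A → x ∈ A → A ≤ B)
    (hy : ∀ A : Subgroup G, Group.IsNilpotent A → y ∈ A → A ≤ B)
    (hxy : ∀ A : Subgroup G, Group.IsNilpotent A → x ∈ A → y ∈ A → False) :
    ¬ ∃ 𝓐 : Finset (Subgroup G), ((∀ A ∈ 𝓐, A ≠ ⊤) ∧ (∀ g : G, ∃ A ∈ 𝓐, g ∈ A)) ∧
      (∀ 𝓑 : Finset (Subgroup G), (∀ A ∈ 𝓑, A ≠ ⊤) ∧ (∀ g : G, ∃ A ∈ 𝓑, g ∈ A) →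
        𝓐.card ≤ 𝓑.card) ∧ (∀ A ∈ 𝓐, Group.IsNilpotent A) := by
  classical
  rintro ⟨𝓐, ⟨hprop, hcov⟩, hmin, hnil⟩
  obtain ⟨Ax, hAx, hxA⟩ := hcov x
  obtain ⟨Ay, hAy, hyA⟩ := hcov y
  have hne : Ay ≠ Ax := by
    rintro rfl
    exact hxy Ay (hnil Ay hAy) hxA hyA
  have hAy' : Ay ∈ 𝓐.erase Ax := Finset.mem_erase.mpr ⟨hne, hAy⟩
  have hcard : (insert B ((𝓐.erase Ax).erase Ay)).card + 1 ≤ 𝓐.card := by
    have h1 := Finset.card_insert_le B ((𝓐.erase Ax).erase Ay)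
    have h2 := Finset.card_erase_of_mem hAy'
    have h3 := Finset.card_erase_of_mem hAx
    have h4 : 0 < (𝓐.erase Ax).card := Finset.card_pos.mpr ⟨Ay, hAy'⟩
    omega
  have := hmin (insert B ((𝓐.erase Ax).erase Ay)) ⟨?_, ?_⟩
  · omega
  · intro A hA
    rw [Finset.mem_insert] at hA
    rcases hA with rfl | hA
    · exact hB
    · exact hprop A (Finset.mem_of_mem_erase (Finset.mem_of_mem_erase hA))
  · intro g
    obtain ⟨A, hA, hgA⟩ := hcov g
    by_cases h1 : A = Ax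
    · exact ⟨B, Finset.mem_insert_self _ _, hx Ax (hnil Ax hAx) hxA (h1 ▸ hgA)⟩
    by_cases h2 : A = Ay
    · exact ⟨B, Finset.mem_insert_self _ _, hy Ay (hnil Ay hAy) hyA (h2 ▸ hgA)⟩
    exact ⟨A, Finset.mem_insert_of_mem
      (Finset.mem_erase.mpr ⟨h2, Finset.mem_erase.mpr ⟨h1, hA⟩⟩), hgA⟩

/-- Transport of the hypotheses of `no_nilpotent_min_cover` along an isomorphism. -/
theorem no_nilpotent_min_cover_of_equiv {G G' : Type*} [Group G] [Group G'] (e : G ≃* G')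
    (B : Subgroup G) (hB : B ≠ ⊤) (x y : G)
    (hx : ∀ A : Subgroup G, Group.IsNilpotent A → x ∈ A → A ≤ B)
    (hy : ∀ A : Subgroup G, Group.IsNilpotent A → y ∈ A → A ≤ B)
    (hxy : ∀ A : Subgroup G, Group.IsNilpotent A → x ∈ A → y ∈ A → False) :
    ¬ ∃ 𝓐 : Finset (Subgroup G'), ((∀ A ∈ 𝓐, A ≠ ⊤) ∧ (∀ g : G', ∃ A ∈ 𝓐, g ∈ A)) ∧
      (∀ 𝓑 : Finset (Subgroup G'), (∀ A ∈ 𝓑, A ≠ ⊤) ∧ (∀ g : G', ∃ A ∈ 𝓑, g ∈ A) →
        𝓐.card ≤ 𝓑.card) ∧ (∀ A ∈ 𝓐, Group.IsNilpotent A) := by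
  have hnil : ∀ A' : Subgroup G', Group.IsNilpotent A' →
      Group.IsNilpotent (A'.map e.symm.toMonoidHom) := by
    intro A' hA'
    haveI := hA'
    exact Group.nilpotent_of_mulEquiv (e.symm.subgroupMap A')
  have hmem : ∀ (A' : Subgroup G') (g : G), e g ∈ A' → g ∈ A'.map e.symm.toMonoidHom := by
    intro A' g hg
    exact Subgroup.mem_map.mpr ⟨e g, hg, by simp⟩
  have hle : ∀ A' : Subgroup G', A'.map e.symm.toMonoidHom ≤ B → A' ≤ B.map e.toMonoidHom := by
    intro A' h g hg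
    have : e.symm g ∈ A'.map e.symm.toMonoidHom := Subgroup.mem_map_of_mem _ hg
    exact Subgroup.mem_map.mpr ⟨e.symm g, h this, by simp⟩
  apply no_nilpotent_min_cover (B.map e.toMonoidHom) _ (e x) (e y)
  · intro A' hA' hxA'
    exact hle A' (hx _ (hnil A' hA') (hmem A' x hxA'))
  · intro A' hA' hyA'
    exact hle A' (hy _ (hnil A' hA') (hmem A' y hyA'))
  · intro A' hA' hxA' hyA'
    exact hxy _ (hnil A' hA') (hmem A' x hxA') (hmem A' y hyA')
  · intro h
    apply hB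
    rw [eq_top_iff]
    intro g _
    have : e g ∈ B.map e.toMonoidHom := by rw [h]; exact Subgroup.mem_top _
    obtain ⟨b, hb, hbe⟩ := Subgroup.mem_map.mp this
    have : b = g := e.injective hbe
    rw [← this]; exact hb

variable {F : Type*} [Field F] [Fintype F] {m : ℕ}

/-- A nontrivial central element of a nilpotent subgroup. -/
theorem exists_central_of_nilpotent {G : Type*} [Group G] (A : Subgroup G)
    (hA : Group.IsNilpotent A) {x : G} (hxA : x ∈ A) (hx1 : x ≠ 1) :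
    ∃ c ∈ A, c ≠ 1 ∧ ∀ g ∈ A, g * c = c * g := by
  haveI := hA
  haveI : Nontrivial A := ⟨⟨⟨x, hxA⟩, 1, fun h => hx1 (congrArg Subtype.val h)⟩⟩
  have h := Group.IsNilpotent.center_ne_bot (G := A)
  obtain ⟨c, hc, hc1⟩ : ∃ c ∈ Subgroup.center A, c ≠ 1 := by
    by_contra hcon
    apply h
    rw [eq_bot_iff]
    intro d hd
    rw [Subgroup.mem_bot]
    by_contra hd1
    exact hcon ⟨d, hd, hd1⟩
  refine ⟨c, c.2, fun h' => hc1 (Subtype.ext h'), ?_⟩
  intro g hg
  have := Subgroup.mem_center_iff.mp hc ⟨g, hg⟩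
  exact congrArg Subtype.val this

theorem commute_mem_USub (hF : Fintype.card F = 2 ^ (2 * m + 1)) (hm : 1 ≤ m) {a b : F}
    (hab : uZ hF a b ≠ 1) {g : Cfsg.Sz F m} (hg : g * uZ hF a b = uZ hF a b * g) :
    g ∈ USub hF := by
  by_cases ha : a = 0
  · subst ha
    have hb : b ≠ 0 := by
      rintro rfl
      exact hab (uZ_zero hF)
    apply centralizer_uZ_le hF hm hb
    rw [mem_centralizer_singleton]; exact hg.symm
  · have hne : a * th m a ≠ 0 := mul_ne_zero ha (th_ne_zero ha)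
    apply centralizer_uZ_le hF hm hne
    rw [mem_centralizer_singleton, ← uZ_sq hF a b]
    calc uZ hF a b * uZ hF a b * g = uZ hF a b * (uZ hF a b * g) := by group
      _ = uZ hF a b * (g * uZ hF a b) := by rw [hg]
      _ = (uZ hF a b * g) * uZ hF a b := by group
      _ = g * uZ hF a b * uZ hF a b := by rw [hg]
      _ = g * (uZ hF a b * uZ hF a b) := by group

/-- A nilpotent subgroup containing a nontrivial unipotent element is unipotent. -/
theorem nilpotent_le_USub (hF : Fintype.card F = 2 ^ (2 * m + 1)) (hm : 1 ≤ m)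
    (A : Subgroup (Cfsg.Sz F m)) (hA : Group.IsNilpotent A) {a b : F} (hab : uZ hF a b ≠ 1)
    (hxA : uZ hF a b ∈ A) : A ≤ USub hF := by
  obtain ⟨c, hcA, hc1, hcc⟩ := exists_central_of_nilpotent A hA hxA hab
  have h1 : c ∈ USub hF := commute_mem_USub hF hm hab (hcc _ hxA).symm
  rw [mem_USub_iff] at h1
  obtain ⟨a', b', rfl⟩ := h1
  intro g hg
  exact commute_mem_USub hF hm hc1 (hcc g hg)

/-- A nilpotent subgroup containing a nontrivial toral element is toral. -/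
theorem nilpotent_le_Tor (hF : Fintype.card F = 2 ^ (2 * m + 1)) (hm : 1 ≤ m)
    (A : Subgroup (Cfsg.Sz F m)) (hA : Group.IsNilpotent A) {z : Fˣ} (hz : z ≠ 1)
    (hxA : hZ hF z ∈ A) : A ≤ Tor hF := by
  have hne : hZ hF z ≠ 1 := by
    intro h
    rw [← hZ_one hF] at h
    exact hz (hZ_injective hF h)
  obtain ⟨c, hcA, hc1, hcc⟩ := exists_central_of_nilpotent A hA hxA hne
  have h1 : c ∈ Tor hF := by
    apply centralizer_hZ_le hF hm hz
    rw [mem_centralizer_singleton]; exact hcc _ hxA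
  rw [mem_Tor_iff] at h1
  obtain ⟨z', rfl⟩ := h1
  have hz' : z' ≠ 1 := by
    rintro rfl
    exact hc1 (hZ_one hF)
  intro g hg
  apply centralizer_hZ_le hF hm hz'
  rw [mem_centralizer_singleton]; exact (hcc g hg).symm

end Cfsg.Agent.Lib.Helper4.Suz
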