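import Mathlib
import Cfsg.Prelude.Def_LieExceptional
import Cfsg.Agent.Lib.Helper4.Suz39

/-!
# Suzuki groups, part 40: subgroups of fixity two
-/

set_option autoImplicit false
set_option linter.unusedSimpArgs false
set_option linter.unusedVariables false
set_option linter.style.haveILetI false

namespace Cfsg.Agent.Lib.Helper4.Suz

open MulAction

/-- Every nonidentity element fixes at most two cosets of `H`. -/
def FixTwo {G : Type*} [Group G] (H : Subgroup G) : Prop :=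
  ∀ h b₁ b₂ b₃ : G, h ≠ 1 → b₁⁻¹ * h * b₁ ∈ H → b₂⁻¹ * h * b₂ ∈ H → b₃⁻¹ * h * b₃ ∈ H →
    b₁⁻¹ * b₂ ∈ H ∨ b₁⁻¹ * b₃ ∈ H ∨ b₂⁻¹ * b₃ ∈ H

theorem FixTwo.conj {G : Type*} [Group G] {H : Subgroup G} (hH : FixTwo H) (c : G) :
    FixTwo (H.map (MulAut.conj c).toMonoidHom) := by
  have hmem : ∀ g : G, g ∈ H.map (MulAut.conj c).toMonoidHom ↔ c⁻¹ * g * c ∈ H := by
    intro g
    rw [Subgroup.mem_map]
    constructor
    · rintro ⟨a, ha, rfl⟩
      simp only [MulEquiv.coe_toMonoidHom, MulAut.conj_apply]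
      have : c⁻¹ * (c * a * c⁻¹) * c = a := by group
      rw [this]; exact ha
    · intro h
      refine ⟨_, h, ?_⟩
      simp only [MulEquiv.coe_toMonoidHom, MulAut.conj_apply]
      group
  intro h b₁ b₂ b₃ hh h1 h2 h3
  rw [hmem] at h1 h2 h3
  have key := hH (c⁻¹ * h * c) (c⁻¹ * b₁ * c) (c⁻¹ * b₂ * c) (c⁻¹ * b₃ * c) (by
    intro h'
    apply hh
    have : h = c * (c⁻¹ * h * c) * c⁻¹ := by group
    rw [this, h']; group)
    (by
      have : (c⁻¹ * b₁ * c)⁻¹ * (c⁻¹ * h * c) * (c⁻¹ * b₁ * c) = c⁻¹ * (b₁⁻¹ * h * b₁) * c := by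
        group
      rw [this]; exact h1)
    (by
      have : (c⁻¹ * b₂ * c)⁻¹ * (c⁻¹ * h * c) * (c⁻¹ * b₂ * c) = c⁻¹ * (b₂⁻¹ * h * b₂) * c := by
        group
      rw [this]; exact h2)
    (by
      have : (c⁻¹ * b₃ * c)⁻¹ * (c⁻¹ * h * c) * (c⁻¹ * b₃ * c) = c⁻¹ * (b₃⁻¹ * h * b₃) * c := by
        group
      rw [this]; exact h3)
  have e : ∀ x y : G, (c⁻¹ * x * c)⁻¹ * (c⁻¹ * y * c) = c⁻¹ * (x⁻¹ * y) * c := by
    intro x y; group
  rw [e, e, e] at key
  rw [hmem, hmem, hmem]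
  exact key

/-- If all conjugates of `h` by a set of elements stay in `H`, that set meets at most two
cosets of `H`. -/
theorem FixTwo.index_le_two {G : Type*} [Group G] {H : Subgroup G} (hH : FixTwo H) {h : G}
    (hhH : h ∈ H) (hh1 : h ≠ 1) {b₂ b₃ : G} (h2 : b₂⁻¹ * h * b₂ ∈ H) (h3 : b₃⁻¹ * h * b₃ ∈ H) :
    b₂ ∈ H ∨ b₃ ∈ H ∨ b₂⁻¹ * b₃ ∈ H := by
  have := hH h 1 b₂ b₃ hh1 (by simpa using hhH) h2 h3
  simpa using this

variable {F : Type*} [Field F] [Fintype F] {m : ℕ}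

/-- Involutions of `Uat P` are central in `Uat P`. -/
theorem involution_central_Uat (hF : Fintype.card F = 2 ^ (2 * m + 1)) (hm : 1 ≤ m)
    {P : Cfsg.suzukiOvoid F m} {s b : Cfsg.Sz F m} (hs : s ∈ Uat hF P) (hss : s * s = 1)
    (hb : b ∈ Uat hF P) : b⁻¹ * s * b = s := by
  obtain ⟨c, hc⟩ := exists_smul_eq_oInf hF P
  have hc' : c⁻¹ • oInf F m = P := by rw [inv_smul_eq_iff, hc]
  obtain ⟨a, β, hab⟩ := (mem_Uat_iff hF hm hc' s).mp hs
  obtain ⟨a', b', hab'⟩ := (mem_Uat_iff hF hm hc' b).mp hb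
  rw [inv_inv] at hab hab'
  have ha : a = 0 := by
    have hsq : uZ hF a β * uZ hF a β = 1 := by rw [← hab]; exact conj_mul_self hss c
    rw [uZ_sq, ← uZ_zero hF] at hsq
    rcases mul_eq_zero.mp (uZ_injective hF hsq).2 with h | h
    · exact h
    · exact th_eq_zero h
  subst ha
  have e1 : s = c⁻¹ * uZ hF 0 β * c := by rw [← hab]; group
  have e2 : b = c⁻¹ * uZ hF a' b' * c := by rw [← hab']; group
  have e3 : (uZ hF a' b')⁻¹ * uZ hF 0 β * uZ hF a' b' = uZ hF 0 β := by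
    have := uZ_central hF a' b' β
    calc (uZ hF a' b')⁻¹ * uZ hF 0 β * uZ hF a' b'
        = (uZ hF a' b')⁻¹ * (uZ hF a' b' * uZ hF 0 β * (uZ hF a' b')⁻¹) * uZ hF a' b' := by
          rw [this]
      _ = uZ hF 0 β := by group
  rw [e1, e2]
  calc (c⁻¹ * uZ hF a' b' * c)⁻¹ * (c⁻¹ * uZ hF 0 β * c) * (c⁻¹ * uZ hF a' b' * c)
      = c⁻¹ * ((uZ hF a' b')⁻¹ * uZ hF 0 β * uZ hF a' b') * c := by group
    _ = c⁻¹ * uZ hF 0 β * c := by rw [e3]

/-- Every involution of `Uat P` is a square in `Uat P`. -/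
theorem involution_is_square (hF : Fintype.card F = 2 ^ (2 * m + 1)) (hm : 1 ≤ m)
    {P : Cfsg.suzukiOvoid F m} {s : Cfsg.Sz F m} (hs : s ∈ Uat hF P) (hss : s * s = 1) :
    ∃ b ∈ Uat hF P, b * b = s := by
  obtain ⟨c, hc⟩ := exists_smul_eq_oInf hF P
  have hc' : c⁻¹ • oInf F m = P := by rw [inv_smul_eq_iff, hc]
  obtain ⟨a, β, hab⟩ := (mem_Uat_iff hF hm hc' s).mp hs
  rw [inv_inv] at hab
  have ha : a = 0 := by
    have hsq : uZ hF a β * uZ hF a β = 1 := by rw [← hab]; exact conj_mul_self hss c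
    rw [uZ_sq, ← uZ_zero hF] at hsq
    rcases mul_eq_zero.mp (uZ_injective hF hsq).2 with h | h
    · exact h
    · exact th_eq_zero h
  subst ha
  obtain ⟨a₀, ha₀⟩ := mul_th_surjective hF β
  simp only at ha₀
  refine ⟨c⁻¹ * uZ hF a₀ 0 * c, ?_, ?_⟩
  · rw [mem_Uat_iff hF hm hc', inv_inv]
    have : c * (c⁻¹ * uZ hF a₀ 0 * c) * c⁻¹ = uZ hF a₀ 0 := by group
    rw [this]; exact uZ_mem_USub hF a₀ 0
  · have e1 : s = c⁻¹ * uZ hF 0 β * c := by rw [← hab]; group
    rw [e1]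
    calc c⁻¹ * uZ hF a₀ 0 * c * (c⁻¹ * uZ hF a₀ 0 * c)
        = c⁻¹ * (uZ hF a₀ 0 * uZ hF a₀ 0) * c := by group
      _ = c⁻¹ * uZ hF 0 β * c := by rw [uZ_sq, ha₀]

/-- With fixity two, an involution of `H` at `P` forces all involutions at `P` into `H`, and
`H ∩ Uat P` to have index at most two in `Uat P`. -/
theorem FixTwo.local_at (hF : Fintype.card F = 2 ^ (2 * m + 1)) (hm : 1 ≤ m)
    {H : Subgroup (Cfsg.Sz F m)} (hH : FixTwo H) {P : Cfsg.suzukiOvoid F m}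
    {x : Cfsg.Sz F m} (hxH : x ∈ H) (hx1 : x ≠ 1) (hxx : x * x = 1) (hxU : x ∈ Uat hF P) :
    (∀ b₂ ∈ Uat hF P, ∀ b₃ ∈ Uat hF P, b₂ ∈ H ∨ b₃ ∈ H ∨ b₂⁻¹ * b₃ ∈ H) ∧
    (∀ s ∈ Uat hF P, s * s = 1 → s ∈ H) := by
  have h1 : ∀ b₂ ∈ Uat hF P, ∀ b₃ ∈ Uat hF P, b₂ ∈ H ∨ b₃ ∈ H ∨ b₂⁻¹ * b₃ ∈ H := by
    intro b₂ hb₂ b₃ hb₃
    apply hH.index_le_two hxH hx1
    · rw [involution_central_Uat hF hm hxU hxx hb₂]; exact hxH
    · rw [involution_central_Uat hF hm hxU hxx hb₃]; exact hxH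
  refine ⟨h1, ?_⟩
  intro s hs hss
  obtain ⟨b, hb, hbb⟩ := involution_is_square hF hm hs hss
  rw [← hbb]
  rcases h1 b⁻¹ ((Uat hF P).inv_mem hb) b hb with h | h | h
  · have := H.inv_mem h
    rw [inv_inv] at this
    exact H.mul_mem this this
  · exact H.mul_mem h h
  · rwa [inv_inv] at h

theorem map_conj_eq_top {G : Type*} [Group G] {H : Subgroup G} {c : G}
    (h : H.map (MulAut.conj c).toMonoidHom = ⊤) : H = ⊤ := by
  rw [eq_top_iff]
  intro g _
  have h1 : c * g * c⁻¹ ∈ H.map (MulAut.conj c).toMonoidHom := by rw [h]; exact Subgroup.mem_top _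
  obtain ⟨a, ha, hae⟩ := Subgroup.mem_map.mp h1
  simp only [MulEquiv.coe_toMonoidHom, MulAut.conj_apply] at hae
  have : g = a := by
    have e : g = c⁻¹ * (c * g * c⁻¹) * c := by group
    rw [e, ← hae]; group
  rw [this]; exact ha

/-- With fixity two, a proper subgroup with an involution at `P` fixes `P`. -/
theorem FixTwo.fixes_point (hF : Fintype.card F = 2 ^ (2 * m + 1)) (hm : 1 ≤ m)
    {H : Subgroup (Cfsg.Sz F m)} (hH : FixTwo H) (htop : H ≠ ⊤) {P : Cfsg.suzukiOvoid F m}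
    {x : Cfsg.Sz F m} (hxH : x ∈ H) (hx1 : x ≠ 1) (hxx : x * x = 1) (hxU : x ∈ Uat hF P) :
    ∀ g ∈ H, g • P = P := by
  intro g hg
  by_contra hne
  have hPD : P ∈ Del hF H := ⟨x, hxH, hx1, hxx, hxU⟩
  have hQD : g • P ∈ Del hF H := Del_smul hF hm hPD hg
  obtain ⟨x₀, hN⟩ := exists_normd hF hm hPD hQD (Ne.symm hne)
  have hH' := hH.conj x₀
  obtain ⟨-, hall⟩ := hH'.local_at hF hm hN.one (uZ_zero_ne_one hF one_ne_zero)
    (uZ_zero_mul_self hF 1) (uZ_zero_mem_Uat hF hm 0 1)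
  have hcen : ∀ b : F, uZ hF 0 b ∈ H.map (MulAut.conj x₀).toMonoidHom := fun b =>
    hall _ (uZ_zero_mem_Uat hF hm 0 b) (uZ_zero_mul_self hF b)
  obtain ⟨l, hl0, hl1⟩ := exists_ne_zero_one hF hm
  have h1 := hN.eq_SSet hF hm hl0 hl1 (hcen l)
  rw [SSet_univ hF hm _ (fun b => (hN.mem_K1 hF hm b).mpr (hcen b))] at h1
  apply htop
  apply map_conj_eq_top (c := x₀)
  apply SetLike.coe_injective
  rw [h1]; rfl

theorem exists_not_mem_finset (hF : Fintype.card F = 2 ^ (2 * m + 1)) (hm : 1 ≤ m)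
    (S : Finset F) (hS : S.card ≤ 7) : ∃ t : F, t ∉ S := by
  have h8 := q_ge m hm
  have : S.card < (Finset.univ : Finset F).card := by
    rw [Finset.card_univ, hF]; omega
  obtain ⟨t, -, ht⟩ := Finset.exists_mem_notMem_of_card_lt_card this
  exact ⟨t, ht⟩

/-- With fixity two, if `H` fixes `∞`, contains the centre of `USub` and meets `USub` in a
subgroup of index at most two, then `H` contains `USub`. -/
theorem FixTwo.USub_le (hF : Fintype.card F = 2 ^ (2 * m + 1)) (hm : 1 ≤ m)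
    {H : Subgroup (Cfsg.Sz F m)} (hH : FixTwo H)
    (hcen : ∀ b : F, uZ hF 0 b ∈ H)
    (hidx : ∀ b₂ ∈ USub hF, ∀ b₃ ∈ USub hF, b₂ ∈ H ∨ b₃ ∈ H ∨ b₂⁻¹ * b₃ ∈ H) :
    USub hF ≤ H := by
  classical
  have h2 := two_eq_zero hF
  have memA : ∀ a b : F, uZ hF a b ∈ H ↔ uZ hF a 0 ∈ H := by
    intro a b
    rw [uZ_split hF a b]
    constructor
    · intro h
      have := H.mul_mem h (H.inv_mem (hcen b))
      rwa [mul_inv_cancel_right] at this
    · intro h; exact H.mul_mem h (hcen b)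
  have addA : ∀ a a' : F, uZ hF a 0 ∈ H → uZ hF a' 0 ∈ H → uZ hF (a + a') 0 ∈ H := by
    intro a a' ha ha'
    have := H.mul_mem ha ha'
    rw [uZ_mul] at this
    exact (memA _ _).mp this
  have idxA : ∀ a₂ a₃ : F, uZ hF a₂ 0 ∉ H → uZ hF a₃ 0 ∉ H → uZ hF (a₂ + a₃) 0 ∈ H := by
    intro a₂ a₃ h2' h3'
    rcases hidx _ (uZ_mem_USub hF a₂ 0) _ (uZ_mem_USub hF a₃ 0) with h | h | h
    · exact absurd h h2'
    · exact absurd h h3'
    · rw [uZ_inv, uZ_mul] at h
      exact (memA _ _).mp h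
  by_contra hcon
  obtain ⟨u, huU, huH⟩ := SetLike.not_le_iff_exists.mp hcon
  rw [mem_USub_iff] at huU
  obtain ⟨α₀, β₀, rfl⟩ := huU
  have hα₀ : uZ hF α₀ 0 ∉ H := fun h => huH ((memA _ _).mpr h)
  -- elements of `A₀` avoiding a small set
  have exA : ∀ S : Finset F, S.card ≤ 3 → ∃ a : F, uZ hF a 0 ∈ H ∧ a ∉ S := by
    intro S hS
    obtain ⟨t, ht⟩ := exists_not_mem_finset hF hm (S ∪ S.image (fun s => s + α₀)) (by
      have h1 := Finset.card_union_le S (S.image (fun s => s + α₀))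
      have h2 := Finset.card_image_le (s := S) (f := fun s => s + α₀)
      omega)
    rw [Finset.mem_union, not_or] at ht
    by_cases htA : uZ hF t 0 ∈ H
    · exact ⟨t, htA, ht.1⟩
    · refine ⟨t + α₀, idxA t α₀ htA hα₀, ?_⟩
      intro hmem
      apply ht.2
      rw [Finset.mem_image]
      refine ⟨t + α₀, hmem, ?_⟩
      linear_combination α₀ * h2
  obtain ⟨a₁, ha₁H, ha₁S⟩ := exA {0} (by simp)
  have ha₁0 : a₁ ≠ 0 := by simpa using ha₁S
  obtain ⟨a₂, ha₂H, ha₂S⟩ := exA {0, a₁} (by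
    have := Finset.card_insert_le (0 : F) {a₁}
    simp at this ⊢
    omega)
  have ha₂0 : a₂ ≠ 0 := by
    intro h; apply ha₂S; rw [h]; simp
  have ha₂1 : a₂ ≠ a₁ := by
    intro h; apply ha₂S; rw [h]; simp
  have hx₁1 : uZ hF a₁ 0 ≠ 1 := by
    intro h
    rw [← uZ_zero hF] at h
    exact ha₁0 (uZ_injective hF h).1
  -- closure under multiplication
  have closure : ∀ μ : F, μ ≠ 0 → uZ hF (μ * a₁) 0 ∈ H →
      (∀ a' : F, uZ hF a' 0 ∈ H → uZ hF (μ * a') 0 ∈ H) ∧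
      (∀ a' : F, uZ hF a' 0 ∈ H → uZ hF (μ⁻¹ * a') 0 ∈ H) := by
    intro μ hμ0 hμ
    obtain ⟨y, hy⟩ := th_surjective hF μ⁻¹
    have hy0 : y ≠ 0 := by
      rintro rfl
      rw [th_zero] at hy
      exact (inv_ne_zero hμ0) hy.symm
    set y' : Fˣ := Units.mk0 y hy0 with hy'
    have hthy : th m ((y'⁻¹ : Fˣ) : F) = μ := by
      rw [Units.val_inv_eq_inv_val, hy', Units.val_mk0, th_inv, hy, inv_inv]
    have hthy' : th m (y' : F) = μ⁻¹ := by rw [hy', Units.val_mk0, hy]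
    have hc3 : (hZ hF y')⁻¹ * uZ hF a₁ 0 * hZ hF y' ∈ H := by
      have e : (hZ hF y')⁻¹ * uZ hF a₁ 0 * hZ hF y' =
          hZ hF y'⁻¹ * uZ hF a₁ 0 * (hZ hF y'⁻¹)⁻¹ := by
        rw [hZ_inv, hZ_inv, inv_inv]
      rw [e, hZ_uZ_hZ, hthy, mul_zero]
      exact hμ
    have hc2 : (uZ hF α₀ β₀)⁻¹ * uZ hF a₁ 0 * uZ hF α₀ β₀ ∈ H := by
      rw [uZ_inv, uZ_mul, uZ_mul]
      have e : α₀ + a₁ + α₀ = a₁ := by linear_combination α₀ * h2
      rw [e]
      exact (memA _ _).mpr ha₁H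
    have hL : ∃ a b : F, uZ hF a b * hZ hF y' ∈ H := by
      rcases hH.index_le_two ha₁H hx₁1 hc2 hc3 with h | h | h
      · exact absurd h huH
      · exact ⟨0, 0, by rw [uZ_zero, one_mul]; exact h⟩
      · rw [uZ_inv] at h
        exact ⟨_, _, h⟩
    obtain ⟨a, b, hab⟩ := hL
    constructor
    · intro a' ha'
      have h1 := H.mul_mem (H.mul_mem (H.inv_mem hab) ha') hab
      have e : (uZ hF a b * hZ hF y')⁻¹ * uZ hF a' 0 * (uZ hF a b * hZ hF y') =
          hZ hF y'⁻¹ * ((uZ hF a b)⁻¹ * uZ hF a' 0 * uZ hF a b) * (hZ hF y'⁻¹)⁻¹ := by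
        rw [← hZ_inv hF y']; group
      rw [e, uZ_inv, uZ_mul, uZ_mul, hZ_uZ_hZ, hthy] at h1
      have e2 : μ * (a + a' + a) = μ * a' := by linear_combination (μ * a) * h2
      rw [e2] at h1
      exact (memA _ _).mp h1
    · intro a' ha'
      have h1 := H.mul_mem (H.mul_mem hab ha') (H.inv_mem hab)
      have e : (uZ hF a b * hZ hF y') * uZ hF a' 0 * (uZ hF a b * hZ hF y')⁻¹ =
          uZ hF a b * (hZ hF y' * uZ hF a' 0 * (hZ hF y')⁻¹) * (uZ hF a b)⁻¹ := by group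
      rw [e, hZ_uZ_hZ, hthy', uZ_inv, uZ_mul, uZ_mul] at h1
      have e2 : a + μ⁻¹ * a' + a = μ⁻¹ * a' := by linear_combination a * h2
      rw [e2] at h1
      exact (memA _ _).mp h1
  -- the final contradiction
  set lam := a₂ / a₁ with hlam
  have hlam0 : lam ≠ 0 := div_ne_zero ha₂0 ha₁0
  have hlam1 : 1 + lam ≠ 0 := by
    intro h
    have : lam = 1 := (eq_of_add_eq_zero h2 h).symm
    rw [hlam, div_eq_one_iff_eq ha₁0] at this
    exact ha₂1 this
  have hl1 : uZ hF (lam * a₁) 0 ∈ H := by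
    rw [hlam, div_mul_cancel₀ a₂ ha₁0]; exact ha₂H
  have hl2 : uZ hF ((1 + lam) * a₁) 0 ∈ H := by
    have : (1 + lam) * a₁ = a₁ + a₂ := by rw [hlam]; field_simp
    rw [this]; exact addA _ _ ha₁H ha₂H
  obtain ⟨-, c1⟩ := closure lam hlam0 hl1
  obtain ⟨-, c2⟩ := closure (1 + lam) hlam1 hl2
  have h3 : uZ hF (lam * α₀) 0 ∉ H := by
    intro h
    have := c1 _ h
    rw [← mul_assoc, inv_mul_cancel₀ hlam0, one_mul] at this
    exact hα₀ this
  have h4 := idxA _ _ hα₀ h3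
  have h5 : α₀ + lam * α₀ = (1 + lam) * α₀ := by ring
  rw [h5] at h4
  have := c2 _ h4
  rw [← mul_assoc, inv_mul_cancel₀ hlam1, one_mul] at this
  exact hα₀ this

theorem exists_unit_sq (hF : Fintype.card F = 2 ^ (2 * m + 1)) (z : Fˣ) : ∃ y : Fˣ, y * y = z := by
  refine ⟨z ^ (2 ^ (2 * m)), ?_⟩
  rw [← pow_add]
  have e : 2 ^ (2 * m) + 2 ^ (2 * m) = Fintype.card F := by rw [hF, pow_succ]; ring
  rw [e]
  apply Units.ext
  rw [Units.val_pow_eq_pow_val, FiniteField.pow_card]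

/-- With fixity two, a subgroup containing `USub` contains the torus. -/
theorem FixTwo.Tor_le (hF : Fintype.card F = 2 ^ (2 * m + 1)) (hm : 1 ≤ m)
    {H : Subgroup (Cfsg.Sz F m)} (hH : FixTwo H) (hU : USub hF ≤ H) : Tor hF ≤ H := by
  have hx1 : uZ hF 0 1 ≠ 1 := uZ_zero_ne_one hF one_ne_zero
  have hxH : uZ hF 0 (1 : F) ∈ H := hU (uZ_mem_USub hF 0 1)
  have hconj : ∀ z : Fˣ, (hZ hF z)⁻¹ * uZ hF 0 1 * hZ hF z ∈ H := by
    intro z
    have e : (hZ hF z)⁻¹ * uZ hF 0 1 * hZ hF z = hZ hF z⁻¹ * uZ hF 0 1 * (hZ hF z⁻¹)⁻¹ := by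
      rw [hZ_inv, hZ_inv, inv_inv]
    rw [e, hZ_uZ_hZ]
    exact hU (uZ_mem_USub hF _ _)
  have hall : ∀ z : Fˣ, hZ hF z ∈ H := by
    intro z
    obtain ⟨y, hy⟩ := exists_unit_sq hF z
    rcases hH.index_le_two hxH hx1 (hconj y) (hconj z) with h | h | h
    · rw [← hy, hZ_mul]; exact H.mul_mem h h
    · exact h
    · rw [hZ_inv, ← hZ_mul, ← hy, inv_mul_cancel_left] at h
      rw [← hy, hZ_mul]; exact H.mul_mem h h
  intro g hg
  obtain ⟨z, rfl⟩ := (mem_Tor_iff hF g).mp hg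
  exact hall z

/-- With fixity two, a proper subgroup containing an involution is a point stabiliser. -/
theorem FixTwo.eq_stabilizer_of_involution (hF : Fintype.card F = 2 ^ (2 * m + 1)) (hm : 1 ≤ m)
    {H : Subgroup (Cfsg.Sz F m)} (hH : FixTwo H) (htop : H ≠ ⊤)
    {x : Cfsg.Sz F m} (hxH : x ∈ H) (hx1 : x ≠ 1) (hxx : x * x = 1) :
    ∃ P : Cfsg.suzukiOvoid F m, H = stabilizer (Cfsg.Sz F m) P := by
  obtain ⟨P, hxU⟩ := exists_mem_Uat_of_involution hF hm hx1 hxx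
  refine ⟨P, ?_⟩
  have hfixP := hH.fixes_point hF hm htop hxH hx1 hxx hxU
  apply le_antisymm
  · intro g hg
    rw [mem_stabilizer_iff]; exact hfixP g hg
  obtain ⟨c, hc⟩ := exists_smul_eq_oInf hF P
  have hH' := hH.conj c
  have hmem : ∀ g : Cfsg.Sz F m, g ∈ H.map (MulAut.conj c).toMonoidHom ↔ c⁻¹ * g * c ∈ H := by
    intro g
    rw [Subgroup.mem_map]
    constructor
    · rintro ⟨a, ha, rfl⟩
      simp only [MulEquiv.coe_toMonoidHom, MulAut.conj_apply]
      have : c⁻¹ * (c * a * c⁻¹) * c = a := by group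
      rw [this]; exact ha
    · intro h
      refine ⟨_, h, ?_⟩
      simp only [MulEquiv.coe_toMonoidHom, MulAut.conj_apply]
      group
  have hx' : c * x * c⁻¹ ∈ H.map (MulAut.conj c).toMonoidHom := by
    rw [hmem]
    have : c⁻¹ * (c * x * c⁻¹) * c = x := by group
    rw [this]; exact hxH
  have hx'1 : c * x * c⁻¹ ≠ 1 := conj_ne_one hx1 c
  have hx'x : (c * x * c⁻¹) * (c * x * c⁻¹) = 1 := conj_mul_self hxx c
  have hx'U : c * x * c⁻¹ ∈ Uat hF (oInf F m) := by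
    rw [← hc]; exact conj_mem_Uat hF hm hxU c
  obtain ⟨hidx, hinv⟩ := hH'.local_at hF hm hx' hx'1 hx'x hx'U
  rw [Uat_oInf hF hm] at hidx hinv
  have hUle : USub hF ≤ H.map (MulAut.conj c).toMonoidHom := by
    apply hH'.USub_le hF hm _ hidx
    intro b
    exact hinv _ (uZ_mem_USub hF 0 b) (uZ_zero_mul_self hF b)
  have hTle := hH'.Tor_le hF hm hUle
  intro g hg
  rw [mem_stabilizer_iff] at hg
  have hg' : (c * g * c⁻¹) • oInf F m = oInf F m := by
    rw [mul_smul, mul_smul, ← hc, inv_smul_smul, hg]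
  obtain ⟨a, b, z, hab⟩ := fix_oInf hF hm _ hg'
  have h1 : c * g * c⁻¹ ∈ H.map (MulAut.conj c).toMonoidHom := by
    rw [hab]
    exact Subgroup.mul_mem _ (hUle (uZ_mem_USub hF a b)) (hTle (hZ_mem_Tor hF z))
  rw [hmem] at h1
  have : c⁻¹ * (c * g * c⁻¹) * c = g := by group
  rwa [this] at h1

/-- In a cyclic subgroup `C`, a subgroup `H` contains every `x ∈ C` with `x ^ |H| = 1`. -/
theorem mem_of_pow_card_eq_one {G : Type*} [Group G] [Finite G] {C H : Subgroup G}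
    (hC : IsCyclic C) (hH : H ≤ C) {x : G} (hxC : x ∈ C) (hx : x ^ Nat.card H = 1) : x ∈ H := by
  classical
  haveI := Fintype.ofFinite C
  have hn0 : 0 < Nat.card H := Nat.card_pos
  let T : Finset C := Finset.univ.filter (fun a : C => a ^ Nat.card H = 1)
  have hT : T.card ≤ Nat.card H := IsCyclic.card_pow_eq_one_le hn0
  let L : Subgroup C := H.subgroupOf C
  have hLcard : Nat.card L = Nat.card H :=
    Nat.card_congr (Subgroup.subgroupOfEquivOfLe hH).toEquiv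
  have hsub : (L : Set C).toFinset ⊆ T := by
    intro a ha
    rw [Set.mem_toFinset] at ha
    simp only [T, Finset.mem_filter, Finset.mem_univ, true_and]
    have : (⟨a, ha⟩ : L) ^ Nat.card H = 1 := by
      rw [← hLcard]; exact pow_card_eq_one'
    exact congrArg Subtype.val this
  have hcard : (L : Set C).toFinset.card = Nat.card H := by
    rw [Set.toFinset_card, ← Nat.card_eq_fintype_card]; exact hLcard
  have heq : (L : Set C).toFinset = T :=
    Finset.eq_of_subset_of_card_le hsub (by rw [hcard]; exact hT)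
  have hxT : (⟨x, hxC⟩ : C) ∈ T := by
    simp only [T, Finset.mem_filter, Finset.mem_univ, true_and]
    apply Subtype.ext
    simpa using hx
  rw [← heq, Set.mem_toFinset] at hxT
  exact hxT

/-- Subgroups of a cyclic subgroup are normalised by its normaliser. -/
theorem conj_mem_of_le_cyclic {G : Type*} [Group G] [Finite G] {C H : Subgroup G}
    (hC : IsCyclic C) (hH : H ≤ C) {b : G} (hb : b ∈ Subgroup.normalizer (C : Set G)) {h : G}
    (hh : h ∈ H) : b⁻¹ * h * b ∈ H := by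
  have hb' : b⁻¹ ∈ Subgroup.normalizer (C : Set G) := Subgroup.inv_mem _ hb
  have h1 : b⁻¹ * h * b ∈ C := by
    have := (Subgroup.mem_normalizer_iff.mp hb' h).mp (hH hh)
    rwa [inv_inv] at this
  apply mem_of_pow_card_eq_one hC hH h1
  have e : b⁻¹ * h * b = b⁻¹ * h * b⁻¹⁻¹ := by rw [inv_inv]
  rw [e, conj_pow]
  have : h ^ Nat.card H = 1 := by
    have : (⟨h, hh⟩ : H) ^ Nat.card H = 1 := pow_card_eq_one'
    exact congrArg Subtype.val this
  rw [this]; group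

/-- The "at most two cosets" condition bounds the order. -/
theorem card_le_two_mul {G : Type*} [Group G] [Finite G] (H N : Subgroup G)
    (h : ∀ b₂ ∈ N, ∀ b₃ ∈ N, b₂ ∈ H ∨ b₃ ∈ H ∨ b₂⁻¹ * b₃ ∈ H) :
    Nat.card N ≤ 2 * Nat.card H := by
  by_cases hle : N ≤ H
  · have := Subgroup.card_le_of_le hle
    omega
  · obtain ⟨b₂, hb₂N, hb₂H⟩ := SetLike.not_le_iff_exists.mp hle
    have hsub : (N : Set G) ⊆ (H : Set G) ∪ (fun x => b₂ * x) '' (H : Set G) := by
      intro b₃ hb₃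
      rcases h b₂ hb₂N b₃ hb₃ with h1 | h1 | h1
      · exact absurd h1 hb₂H
      · left; exact h1
      · right; exact ⟨b₂⁻¹ * b₃, h1, by simp⟩
    have h1 : (N : Set G).ncard ≤ ((H : Set G) ∪ (fun x => b₂ * x) '' (H : Set G)).ncard :=
      Set.ncard_le_ncard hsub (Set.toFinite _)
    have h2 := Set.ncard_union_le (H : Set G) ((fun x => b₂ * x) '' (H : Set G))
    have h3 : ((fun x => b₂ * x) '' (H : Set G)).ncard = (H : Set G).ncard :=
      Set.ncard_image_of_injective _ (mul_right_injective b₂)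
    have e1 : Nat.card N = (N : Set G).ncard := (Nat.card_coe_set_eq _)
    have e2 : Nat.card H = (H : Set G).ncard := (Nat.card_coe_set_eq _)
    omega

theorem card_normalizer_map_conj {G : Type*} [Group G] (A : Subgroup G) (g : G) :
    Nat.card (Subgroup.normalizer ((A.map (MulAut.conj g).toMonoidHom : Subgroup G) : Set G)) =
      Nat.card (Subgroup.normalizer (A : Set G)) := by
  rw [← Subgroup.map_equiv_normalizer_eq A (MulAut.conj g), card_map_conj]

/-- The normaliser of an `A`-type subgroup has index four. -/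
theorem IsA.card_normalizer (hF : Fintype.card F = 2 ^ (2 * m + 1)) (hm : 1 ≤ m)
    {A : Subgroup (Cfsg.Sz F m)} (hA : IsA A) :
    Nat.card (Subgroup.normalizer (A : Set (Cfsg.Sz F m))) = 4 * Nat.card A := by
  obtain ⟨A₁, A₂, hA₁, hA₂, h1, h2, hN1, hN2, -⟩ := exists_two_classes hF hm
  obtain ⟨h5, hd, -⟩ := hA.data hF hm
  rcases hA₁.coprime_or_eq hF hm hA with hc1 | ⟨g, rfl⟩
  · rcases hA₂.coprime_or_eq hF hm hA with hc2 | ⟨g, rfl⟩
    · exfalso
      have hNN : NN m = Nat.card A₁ * Nat.card A₂ := by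
        rw [h1, h2]
        unfold NN
        have hfac := pow_facts m
        have hr : 1 ≤ 2 ^ m := Nat.one_le_two_pow
        rw [hfac.1, hfac.2]
        have : 2 * 2 ^ m ≤ 2 * (2 ^ m) ^ 2 := by nlinarith
        zify [this]
        ring
      have hc : Nat.Coprime (Nat.card A₁ * Nat.card A₂) (Nat.card A) :=
        Nat.Coprime.mul_left hc1 hc2
      rw [← hNN] at hc
      have := Nat.eq_one_of_dvd_coprimes hc hd (dvd_refl _)
      omega
    · rw [card_normalizer_map_conj, card_map_conj, hN2]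
  · rw [card_normalizer_map_conj, card_map_conj, hN1]

theorem wZ_not_mem_Tor (hF : Fintype.card F = 2 ^ (2 * m + 1)) : wZ hF ∉ Tor hF := by
  intro h
  obtain ⟨z, hz⟩ := (mem_Tor_iff hF _).mp h
  have h1 := wZ_smul_oInf hF (m := m)
  rw [hz, hZ_smul_oInf] at h1
  exact oPt_ne_oInf (m := m) (0 : F) 0 h1.symm

theorem wZ_mem_normalizer_Tor (hF : Fintype.card F = 2 ^ (2 * m + 1)) :
    wZ hF ∈ Subgroup.normalizer (Tor hF : Set (Cfsg.Sz F m)) := by
  have key : ∀ g ∈ Tor hF, wZ hF * g * (wZ hF)⁻¹ ∈ Tor hF := by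
    intro g hg
    obtain ⟨z, rfl⟩ := (mem_Tor_iff hF _).mp hg
    rw [wZ_inv, wZ_hZ_wZ]
    exact hZ_mem_Tor hF _
  rw [Subgroup.mem_normalizer_iff]
  intro g
  constructor
  · exact key g
  · intro h
    have := key _ h
    rw [wZ_inv] at this
    have e : wZ hF * (wZ hF * g * wZ hF) * wZ hF = (wZ hF * wZ hF) * g * (wZ hF * wZ hF) := by
      group
    rw [e, wZ_mul_wZ, one_mul, mul_one] at this
    exact this

/-- With fixity two, a nontrivial subgroup of the torus is the whole torus. -/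
theorem FixTwo.eq_Tor (hF : Fintype.card F = 2 ^ (2 * m + 1)) (hm : 1 ≤ m)
    {H : Subgroup (Cfsg.Sz F m)} (hH : FixTwo H) (hle : H ≤ Tor hF) (hne : H ≠ ⊥) :
    H = Tor hF := by
  obtain ⟨⟨h, hhH⟩, hh1⟩ := (Subgroup.ne_bot_iff_exists_ne_one).mp hne
  have hh1' : h ≠ 1 := fun e => hh1 (Subtype.ext e)
  have hw := conj_mem_of_le_cyclic (isCyclic_Tor hF) hle (wZ_mem_normalizer_Tor hF) hhH
  apply le_antisymm hle
  intro g hg
  have hgN : g ∈ Subgroup.normalizer (Tor hF : Set (Cfsg.Sz F m)) := Subgroup.le_normalizer hg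
  have hgc := conj_mem_of_le_cyclic (isCyclic_Tor hF) hle hgN hhH
  rcases hH.index_le_two hhH hh1' hw hgc with h1 | h1 | h1
  · exact absurd (hle h1) (wZ_not_mem_Tor hF)
  · exact h1
  · exfalso
    apply wZ_not_mem_Tor hF
    have := (Tor hF).mul_mem hg ((Tor hF).inv_mem (hle h1))
    rw [mul_inv_rev, inv_inv, ← mul_assoc, mul_inv_cancel, one_mul] at this
    exact this

/-- With fixity two, a nontrivial subgroup of odd order has order `q - 1`. -/
theorem FixTwo.card_of_odd (hF : Fintype.card F = 2 ^ (2 * m + 1)) (hm : 1 ≤ m)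
    {H : Subgroup (Cfsg.Sz F m)} (hH : FixTwo H) (hne : H ≠ ⊥)
    (hodd : ∀ g ∈ H, ¬ 2 ∣ orderOf g) : Nat.card H = 2 ^ (2 * m + 1) - 1 := by
  obtain ⟨U, hU, hHU⟩ := exists_inList_of_odd_sub hF hm H hodd hne
  rcases hU.cases hF hm with hA | ⟨c, rfl⟩
  · exfalso
    obtain ⟨⟨h, hhH⟩, hh1⟩ := (Subgroup.ne_bot_iff_exists_ne_one).mp hne
    have hh1' : h ≠ 1 := fun e => hh1 (Subtype.ext e)
    have hidx : ∀ b₂ ∈ Subgroup.normalizer (U : Set (Cfsg.Sz F m)),
        ∀ b₃ ∈ Subgroup.normalizer (U : Set (Cfsg.Sz F m)), b₂ ∈ H ∨ b₃ ∈ H ∨ b₂⁻¹ * b₃ ∈ H := by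
      intro b₂ hb₂ b₃ hb₃
      exact hH.index_le_two hhH hh1' (conj_mem_of_le_cyclic hU.1 hHU hb₂ hhH)
        (conj_mem_of_le_cyclic hU.1 hHU hb₃ hhH)
    have h1 := card_le_two_mul H _ hidx
    rw [hA.card_normalizer hF hm] at h1
    have h2 := Subgroup.card_le_of_le hHU
    have h3 : 0 < Nat.card H := Nat.card_pos
    omega
  · -- conjugate into the torus
    have hH' := hH.conj c⁻¹
    have hle : H.map (MulAut.conj c⁻¹).toMonoidHom ≤ Tor hF := by
      intro g hg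
      obtain ⟨a, ha, rfl⟩ := Subgroup.mem_map.mp hg
      obtain ⟨t, ht, rfl⟩ := Subgroup.mem_map.mp (hHU ha)
      simp only [MulEquiv.coe_toMonoidHom, MulAut.conj_apply, inv_inv]
      have : c⁻¹ * (c * t * c⁻¹) * c = t := by group
      rw [this]; exact ht
    have hne' : H.map (MulAut.conj c⁻¹).toMonoidHom ≠ ⊥ := by
      intro hb
      apply hne
      rw [← Subgroup.card_eq_one, ← card_map_conj H c⁻¹, hb, Subgroup.card_bot]
    have := hH'.eq_Tor hF hm hle hne'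
    rw [← card_map_conj H c⁻¹, this, card_Tor]

/-- The dichotomy for proper nontrivial subgroups with fixity two. -/
theorem FixTwo.main (hF : Fintype.card F = 2 ^ (2 * m + 1)) (hm : 1 ≤ m)
    {H : Subgroup (Cfsg.Sz F m)} (hH : FixTwo H) (hbot : H ≠ ⊥) (htop : H ≠ ⊤) :
    (∃ P : Cfsg.suzukiOvoid F m, H = stabilizer (Cfsg.Sz F m) P) ∨
      Nat.card H = 2 ^ (2 * m + 1) - 1 := by
  by_cases hev : ∃ g ∈ H, 2 ∣ orderOf g
  · left
    obtain ⟨g, hgH, hg2⟩ := hev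
    have ho : orderOf (g ^ (orderOf g / 2)) = 2 :=
      orderOf_pow_orderOf_div (orderOf_pos g).ne' hg2
    have hx1 : g ^ (orderOf g / 2) ≠ 1 := by
      intro h
      rw [h, orderOf_one] at ho
      omega
    have hxx : g ^ (orderOf g / 2) * g ^ (orderOf g / 2) = 1 := by
      have := pow_orderOf_eq_one (g ^ (orderOf g / 2))
      rw [ho, sq] at this
      exact this
    exact hH.eq_stabilizer_of_involution hF hm htop (H.pow_mem hgH _) hx1 hxx
  · right
    push_neg at hev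
    exact hH.card_of_odd hF hm hbot hev

/-- Point stabilisers of an action with fixity two satisfy `FixTwo`. -/
theorem fixTwo_stabilizer {G : Type*} [Group G] {Ω : Type*} [Finite Ω] [MulAction G Ω]
    (hfix : ∀ g : G, g ≠ 1 → Nat.card (fixedBy Ω g) ≤ 2) (α : Ω) :
    FixTwo (stabilizer G α) := by
  intro h b₁ b₂ b₃ hh h1 h2 h3
  have hmem : ∀ b : G, b⁻¹ * h * b ∈ stabilizer G α → b • α ∈ fixedBy Ω h := by
    intro b hb
    rw [mem_stabilizer_iff, mul_smul, mul_smul, inv_smul_eq_iff] at hb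
    exact hb
  have heq : ∀ b b' : G, b • α = b' • α → b⁻¹ * b' ∈ stabilizer G α := by
    intro b b' hbb
    rw [mem_stabilizer_iff, mul_smul, inv_smul_eq_iff, hbb]
  by_contra hcon
  push_neg at hcon
  obtain ⟨c1, c2, c3⟩ := hcon
  have n12 : b₁ • α ≠ b₂ • α := fun h => c1 (heq _ _ h)
  have n13 : b₁ • α ≠ b₃ • α := fun h => c2 (heq _ _ h)
  have n23 : b₂ • α ≠ b₃ • α := fun h => c3 (heq _ _ h)
  let f : Fin 3 → fixedBy Ω h :=
    ![⟨b₁ • α, hmem b₁ h1⟩, ⟨b₂ • α, hmem b₂ h2⟩, ⟨b₃ • α, hmem b₃ h3⟩]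
  have hf : Function.Injective f := by
    intro i j hij
    fin_cases i <;> fin_cases j <;> simp [f] at hij ⊢
    · exact absurd hij n12
    · exact absurd hij n13
    · exact absurd hij.symm n12
    · exact absurd hij n23
    · exact absurd hij.symm n13
    · exact absurd hij.symm n23
  have := Nat.card_le_card_of_injective f hf
  rw [Nat.card_eq_fintype_card, Fintype.card_fin] at this
  have := hfix h hh
  omega

theorem FixTwo.map_equiv {G G' : Type*} [Group G] [Group G'] {H : Subgroup G} (hH : FixTwo H)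
    (e : G ≃* G') : FixTwo (H.map e.toMonoidHom) := by
  have hmem : ∀ g : G', g ∈ H.map e.toMonoidHom ↔ e.symm g ∈ H := by
    intro g
    rw [Subgroup.mem_map]
    constructor
    · rintro ⟨a, ha, rfl⟩
      simpa using ha
    · intro h
      exact ⟨_, h, by simp⟩
  intro h b₁ b₂ b₃ hh h1 h2 h3
  rw [hmem] at h1 h2 h3 ⊢
  rw [hmem, hmem]
  simp only [map_mul, map_inv] at h1 h2 h3 ⊢
  apply hH (e.symm h) _ _ _ _ h1 h2 h3
  intro h'
  apply hh
  have := congrArg e h'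
  simpa using this

theorem two_pretransitive_of_stabilizer {G Ω : Type*} [Group G] [MulAction G Ω]
    [IsPretransitive G Ω] (α : Ω)
    (h : ∀ x y : G, x • α ≠ α → y • α ≠ α → ∃ s : G, s • α = α ∧ s • x • α = y • α) :
    IsMultiplyPretransitive G Ω 2 := by
  rw [MulAction.is_two_pretransitive_iff]
  intro a b c d hab hcd
  obtain ⟨g₁, hg₁⟩ := exists_smul_eq G a α
  obtain ⟨g₂, hg₂⟩ := exists_smul_eq G c α
  obtain ⟨x, hx⟩ := exists_smul_eq G α (g₁ • b)
  obtain ⟨y, hy⟩ := exists_smul_eq G α (g₂ • d)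
  have hxα : x • α ≠ α := by
    rw [hx, ← hg₁]
    intro h'
    exact hab (smul_left_cancel g₁ h').symm
  have hyα : y • α ≠ α := by
    rw [hy, ← hg₂]
    intro h'
    exact hcd (smul_left_cancel g₂ h').symm
  obtain ⟨s, hs1, hs2⟩ := h x y hxα hyα
  refine ⟨g₂⁻¹ * s * g₁, ?_, ?_⟩
  · rw [mul_smul, mul_smul, hg₁, hs1, inv_smul_eq_iff, hg₂]
  · rw [mul_smul, mul_smul, ← hx, hs2, hy, inv_smul_smul]

/-- Transitive actions of fixity two of a group isomorphic to `Sz(q)`. -/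
theorem fixity_two_actions (hF : Fintype.card F = 2 ^ (2 * m + 1)) (hm : 1 ≤ m)
    {G : Type*} [Group G] [Finite G] (e : G ≃* Cfsg.Sz F m) {Ω : Type*} [Fintype Ω]
    [MulAction G Ω] (htr : IsPretransitive G Ω)
    (hfix : ∀ g : G, g ≠ 1 → Nat.card (fixedBy Ω g) ≤ 2)
    (hex : ∃ g : G, g ≠ 1 ∧ Nat.card (fixedBy Ω g) = 2) :
    (Fintype.card Ω = (2 ^ (2 * m + 1)) ^ 2 + 1 ∧ IsMultiplyPretransitive G Ω 2) ∨
    (Fintype.card Ω = (2 ^ (2 * m + 1)) ^ 2 * ((2 ^ (2 * m + 1)) ^ 2 + 1) ∧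
      ∀ α : Ω, Nat.card (stabilizer G α) = 2 ^ (2 * m + 1) - 1) := by
  obtain ⟨g₀, hg₀1, hg₀c⟩ := hex
  have hq := q_ge m hm
  have hne : Nonempty (fixedBy Ω g₀) := by
    by_contra hemp
    rw [not_nonempty_iff] at hemp
    rw [Nat.card_of_isEmpty] at hg₀c
    omega
  obtain ⟨⟨α, hα⟩⟩ := hne
  set H₀ := stabilizer G α with hH₀
  have hg₀H : g₀ ∈ H₀ := hα
  have hbot₀ : H₀ ≠ ⊥ := by
    intro h
    rw [h, Subgroup.mem_bot] at hg₀H
    exact hg₀1 hg₀H
  have htop₀ : H₀ ≠ ⊤ := by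
    intro h
    have hall : ∀ ω : Ω, ω = α := by
      intro ω
      obtain ⟨g, hg⟩ := exists_smul_eq G α ω
      have : g ∈ H₀ := by rw [h]; exact Subgroup.mem_top g
      rw [← hg]; exact this
    haveI : Subsingleton Ω := ⟨fun a b => by rw [hall a, hall b]⟩
    have := Finite.card_le_one_iff_subsingleton.mpr
      (inferInstance : Subsingleton (fixedBy Ω g₀))
    omega
  set H := H₀.map e.toMonoidHom with hHdef
  have hmemH : ∀ g : G, e g ∈ H ↔ g ∈ H₀ := by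
    intro g
    exact Subgroup.mem_map_iff_mem e.injective
  have hFT : FixTwo H := (fixTwo_stabilizer hfix α).map_equiv e
  have hbot : H ≠ ⊥ := by
    intro h
    apply hbot₀
    rw [eq_bot_iff]
    intro g hg
    have := (hmemH g).mpr hg
    rw [h, Subgroup.mem_bot] at this
    rw [Subgroup.mem_bot]
    exact e.injective (by rw [this, map_one])
  have htop : H ≠ ⊤ := by
    intro h
    apply htop₀
    rw [eq_top_iff]
    intro g _
    rw [← hmemH, h]; exact Subgroup.mem_top _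
  have hcardH : Nat.card H = Nat.card H₀ :=
    (Nat.card_congr (Subgroup.equivMapOfInjective _ _ e.injective).toEquiv).symm
  have hcardG : Nat.card G = (2 ^ (2 * m + 1)) ^ 2 * NN m * (2 ^ (2 * m + 1) - 1) := by
    rw [Nat.card_congr e.toEquiv, card_Sz' hF hm]
  have hidx : ∀ β : Ω, Nat.card (stabilizer G β) * Fintype.card Ω = Nat.card G := by
    intro β
    rw [← Nat.card_eq_fintype_card, ← MulAction.index_stabilizer_of_transitive G β]
    exact Subgroup.card_mul_index _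
  have hq2 : 0 < (2 ^ (2 * m + 1)) ^ 2 := by positivity
  have hq1 : 0 < 2 ^ (2 * m + 1) - 1 := by omega
  rcases hFT.main hF hm hbot htop with ⟨P, hP⟩ | hc
  · left
    have hc : Nat.card H₀ = (2 ^ (2 * m + 1)) ^ 2 * (2 ^ (2 * m + 1) - 1) := by
      rw [← hcardH, hP, card_stabilizer hF hm]
    constructor
    · have h1 := hidx α
      rw [← hH₀, hc, hcardG] at h1
      unfold NN at h1
      have h2 : (2 ^ (2 * m + 1)) ^ 2 * (2 ^ (2 * m + 1) - 1) * Fintype.card Ω =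
          (2 ^ (2 * m + 1)) ^ 2 * (2 ^ (2 * m + 1) - 1) * ((2 ^ (2 * m + 1)) ^ 2 + 1) := by
        rw [h1]; ring
      exact Nat.eq_of_mul_eq_mul_left (Nat.mul_pos hq2 hq1) h2
    · haveI := htr
      apply two_pretransitive_of_stabilizer α
      intro x y hx hy
      have hmem' : ∀ g : G, g • α = α ↔ (e g) • P = P := by
        intro g
        rw [← mem_stabilizer_iff, ← mem_stabilizer_iff, ← hP, hmemH]
      have hx' : (e x) • P ≠ P := fun h => hx ((hmem' x).mpr h)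
      have hy' : (e y) • P ≠ P := fun h => hy ((hmem' y).mpr h)
      have h2t := is_two_pretransitive hF (m := m)
      rw [MulAction.is_two_pretransitive_iff] at h2t
      obtain ⟨t, ht1, ht2⟩ := h2t (a := P) (b := e x • P) (c := P) (d := e y • P)
        (Ne.symm hx') (Ne.symm hy')
      refine ⟨e.symm t, ?_, ?_⟩
      · rw [hmem', MulEquiv.apply_symm_apply]; exact ht1
      · have : (y⁻¹ * e.symm t * x) • α = α := by
          rw [hmem']
          simp only [map_mul, map_inv, MulEquiv.apply_symm_apply]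
          rw [mul_smul, mul_smul, ht2, inv_smul_smul]
        rw [mul_smul, mul_smul, inv_smul_eq_iff] at this
        exact this
  · right
    have hc₀ : Nat.card H₀ = 2 ^ (2 * m + 1) - 1 := by rw [← hcardH, hc]
    constructor
    · have h1 := hidx α
      rw [← hH₀, hc₀, hcardG] at h1
      unfold NN at h1
      have h2 : (2 ^ (2 * m + 1) - 1) * Fintype.card Ω =
          (2 ^ (2 * m + 1) - 1) * ((2 ^ (2 * m + 1)) ^ 2 * ((2 ^ (2 * m + 1)) ^ 2 + 1)) := by
        rw [h1]; ring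
      exact Nat.eq_of_mul_eq_mul_left hq1 h2
    · intro β
      have h1 := hidx α
      have h2 := hidx β
      rw [← h1] at h2
      have hΩ : 0 < Fintype.card Ω := Fintype.card_pos_iff.mpr ⟨α⟩
      rw [← hc₀]
      exact Nat.eq_of_mul_eq_mul_right hΩ h2

end Cfsg.Agent.Lib.Helper4.Suz
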