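import Mathlib
import Cfsg.Prelude.Def_LieExceptional
import Cfsg.Agent.Lib.Helper4.Suz40

/-!
# Suzuki groups, part 41: extensions with the same prime graph
-/

set_option autoImplicit false
set_option linter.unusedSimpArgs false
set_option linter.unusedVariables false
set_option linter.style.haveILetI false

namespace Cfsg.Agent.Lib.Helper4.Suz

open MulAction Matrix

section Generic

/-- The action of a group on an additive group, as automorphisms of the multiplicative copy. -/
def actHom (S W : Type*) [Group S] [AddGroup W] [DistribMulAction S W] :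
    S →* MulAut (Multiplicative W) where
  toFun g :=
    { toFun := fun w => Multiplicative.ofAdd (g • Multiplicative.toAdd w)
      invFun := fun w => Multiplicative.ofAdd (g⁻¹ • Multiplicative.toAdd w)
      left_inv := fun w => by simp
      right_inv := fun w => by simp
      map_mul' := fun a b => by simp [smul_add] }
  map_one' := by
    ext w
    simp
  map_mul' a b := by
    ext w
    simp [mul_smul]

@[simp]
theorem actHom_apply {S W : Type*} [Group S] [AddGroup W] [DistribMulAction S W] (g : S)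
    (w : Multiplicative W) :
    actHom S W g w = Multiplicative.ofAdd (g • Multiplicative.toAdd w) := rfl

/-- Element orders `r * s` in a semidirect product of an elementary abelian `2`-group by a group
whose elements of odd prime order act without fixed points. -/
theorem semidirect_orders {N G : Type*} [CommGroup N] [Group G] [Finite N] [Finite G]
    (φ : G →* MulAut N) (hexp : ∀ n : N, n * n = 1)
    (hfpf : ∀ (g : G) (p : ℕ), p.Prime → p ≠ 2 → orderOf g = p → ∀ n : N, φ g n = n → n = 1)
    (hno : ∀ (g : G) (p : ℕ), p.Prime → p ≠ 2 → orderOf g ≠ 2 * p)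
    {r s : ℕ} (hr : r.Prime) (hs : s.Prime) (hrs : r ≠ s) :
    (∃ y : N ⋊[φ] G, orderOf y = r * s) ↔ ∃ x : G, orderOf x = r * s := by
  haveI : Finite (N ⋊[φ] G) := Finite.of_equiv _ SemidirectProduct.equivProd.symm
  constructor
  · rintro ⟨y, hy⟩
    set f : N ⋊[φ] G →* G := SemidirectProduct.rightHom with hf
    have key1 : ∀ k : N ⋊[φ] G, f k = 1 → k * k = 1 := by
      intro k hk
      have hk' : k ∈ (SemidirectProduct.inl : N →* N ⋊[φ] G).range := by
        rw [SemidirectProduct.range_inl_eq_ker_rightHom]; exact hk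
      obtain ⟨n, rfl⟩ := hk'
      rw [← map_mul, hexp, map_one]
    have key2 : ∀ u : N ⋊[φ] G, ¬ 2 ∣ orderOf u → orderOf (f u) = orderOf u := by
      intro u hu
      apply Nat.dvd_antisymm (orderOf_map_dvd f u)
      have h1 : f (u ^ orderOf (f u)) = 1 := by rw [map_pow, pow_orderOf_eq_one]
      have h2 := key1 _ h1
      rw [← pow_add, ← two_mul] at h2
      have h3 := orderOf_dvd_of_pow_eq_one h2
      have hc : Nat.Coprime (orderOf u) 2 := by
        rw [Nat.coprime_comm, Nat.Prime.coprime_iff_not_dvd Nat.prime_two]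
        exact hu
      exact hc.dvd_of_dvd_mul_left h3
    by_cases h2 : 2 ∣ r * s
    · exfalso
      obtain ⟨p, hp, hp2, hyp⟩ : ∃ p : ℕ, p.Prime ∧ p ≠ 2 ∧ orderOf y = 2 * p := by
        rcases (Nat.Prime.dvd_mul Nat.prime_two).mp h2 with h | h
        · have : r = 2 := ((Nat.prime_dvd_prime_iff_eq Nat.prime_two hr).mp h).symm
          refine ⟨s, hs, ?_, by rw [hy, this]⟩
          rw [← this]; exact Ne.symm hrs
        · have : s = 2 := ((Nat.prime_dvd_prime_iff_eq Nat.prime_two hs).mp h).symm
          refine ⟨r, hr, ?_, by rw [hy, this, mul_comm]⟩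
          rw [← this]; exact hrs
      have hp0 : p ≠ 0 := hp.ne_zero
      have hpodd : ¬ 2 ∣ p := by
        intro h
        exact hp2 ((Nat.prime_dvd_prime_iff_eq Nat.prime_two hp).mp h).symm
      have hot : orderOf (y ^ p) = 2 := by
        rw [orderOf_pow' y hp0, hyp, Nat.gcd_mul_left_left, Nat.mul_div_cancel _ hp.pos]
      have hou : orderOf (y ^ 2) = p := by
        rw [orderOf_pow' y two_ne_zero, hyp, Nat.gcd_mul_right_left,
          Nat.mul_div_cancel_left _ (by norm_num)]
      have hfu : orderOf (f (y ^ 2)) = p := by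
        rw [key2 _ (by rw [hou]; exact hpodd), hou]
      have hcomm : Commute (y ^ p) (y ^ 2) := (Commute.refl y).pow_pow p 2
      by_cases hft : f (y ^ p) = 1
      · -- `t = y ^ p` lies in the kernel
        have hcm := hcomm.eq
        have h1 := congrArg SemidirectProduct.left hcm
        rw [SemidirectProduct.mul_left, SemidirectProduct.mul_left] at h1
        have hr1 : (y ^ p).right = 1 := hft
        rw [hr1, map_one, MulAut.one_apply, mul_comm] at h1
        have h3 : φ (y ^ 2).right (y ^ p).left = (y ^ p).left := mul_left_cancel h1.symm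
        have h4 := hfpf (y ^ 2).right p hp hp2 hfu _ h3
        have h5 : y ^ p = 1 := by
          apply SemidirectProduct.ext
          · exact h4
          · exact hr1
        rw [h5, orderOf_one] at hot
        omega
      · have h1 : orderOf (f (y ^ p)) = 2 := by
          apply orderOf_eq_prime
          · rw [← map_pow, ← hot, pow_orderOf_eq_one, map_one]
          · exact hft
        have hc : Commute (f (y ^ p)) (f (y ^ 2)) := hcomm.map f
        have := hc.orderOf_mul_eq_mul_orderOf_of_coprime (by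
          rw [h1, hfu, Nat.Prime.coprime_iff_not_dvd Nat.prime_two]; exact hpodd)
        rw [h1, hfu] at this
        exact hno _ p hp hp2 this
    · refine ⟨f y, ?_⟩
      rw [key2 y (by rw [hy]; exact h2), hy]
  · rintro ⟨x, hx⟩
    refine ⟨SemidirectProduct.inr x, ?_⟩
    rw [orderOf_injective _ SemidirectProduct.inr_injective, hx]

end Generic

theorem exists_orderOf_of_dvd_card {G : Type*} [Group G] {U : Subgroup G} [Finite U]
    (hU : IsCyclic U) {d : ℕ} (hd : d ∣ Nat.card U) : ∃ x : G, orderOf x = d := by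
  obtain ⟨g, hg⟩ := IsCyclic.exists_ofOrder_eq_natCard (α := U)
  have hg' : orderOf (g : G) = Nat.card U := by rw [Subgroup.orderOf_coe, hg]
  refine ⟨(g : G) ^ (orderOf (g : G) / d), ?_⟩
  apply orderOf_pow_orderOf_div
  · rw [hg']; exact Nat.card_pos.ne'
  · rw [hg']; exact hd

variable {F : Type*} [Field F] [Fintype F] {m : ℕ}

/-- Which products of two distinct primes are element orders of `Sz(q)`. -/
theorem exists_orderOf_mul_iff (hF : Fintype.card F = 2 ^ (2 * m + 1)) (hm : 1 ≤ m)
    {r s : ℕ} (hr : r.Prime) (hs : s.Prime) (hrs : r ≠ s) :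
    (∃ x : Cfsg.Sz F m, orderOf x = r * s) ↔
      (r * s ∣ 2 ^ (2 * m + 1) - 1 ∨ r * s ∣ 2 ^ (2 * m + 1) + 2 ^ (m + 1) + 1 ∨
        r * s ∣ 2 ^ (2 * m + 1) - 2 ^ (m + 1) + 1) := by
  constructor
  · rintro ⟨x, hx⟩
    have hx1 : x ≠ 1 := by
      intro h
      rw [h, orderOf_one] at hx
      have := hr.two_le
      have := hs.two_le
      nlinarith
    obtain ⟨U, ⟨hU, hxU⟩, -⟩ := partition hF hm x hx1
    rcases hU with ⟨P, rfl⟩ | ⟨hcyc, hcard⟩
    · exfalso
      obtain ⟨k, hk⟩ := P.2 ⟨x, hxU⟩
      have hk' : x ^ 2 ^ k = 1 := by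
        have := congrArg Subtype.val hk
        simpa using this
      have hd := orderOf_dvd_of_pow_eq_one hk'
      rw [hx] at hd
      have h1 : r = 2 :=
        (Nat.prime_dvd_prime_iff_eq hr Nat.prime_two).mp
          (hr.dvd_of_dvd_pow ((dvd_mul_right r s).trans hd))
      have h2 : s = 2 :=
        (Nat.prime_dvd_prime_iff_eq hs Nat.prime_two).mp
          (hs.dvd_of_dvd_pow ((dvd_mul_left s r).trans hd))
      exact hrs (h1.trans h2.symm)
    · have hd : orderOf x ∣ Nat.card U := Subgroup.orderOf_dvd_natCard _ hxU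
      rw [hx] at hd
      rcases hcard with h | h | h
      · left; rw [← h]; exact hd
      · right; left; rw [← h]; exact hd
      · right; right
        simp only [Set.mem_singleton_iff] at h
        rw [← h]; exact hd
  · obtain ⟨A₁, A₂, hA₁, hA₂, h1, h2, -, -, -⟩ := exists_two_classes hF hm
    rintro (h | h | h)
    · exact exists_orderOf_of_dvd_card (isCyclic_Tor hF) (by rw [card_Tor]; exact h)
    · exact exists_orderOf_of_dvd_card (hA₁.isCyclic hF) (by rw [h1]; exact h)
    · exact exists_orderOf_of_dvd_card (hA₂.isCyclic hF) (by rw [h2]; exact h)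

/-- Nontrivial torus elements fix no nonzero vector. -/
theorem hZ_fpf (hF : Fintype.card F = 2 ^ (2 * m + 1)) {z : Fˣ} (hz : z ≠ 1) (v : Fin 4 → F)
    (hv : hZ hF z • v = v) : v = 0 := by
  have hv' : hM m (z : F) *ᵥ v = v := hv
  rw [mulVec4] at hv'
  have hz0 : (z : F) ≠ 0 := z.ne_zero
  have hz1 : (z : F) ≠ 1 := fun h => hz (Units.ext h)
  have hk1 : (z : F) * th m (z : F) ≠ 1 := fun h => hz1 (mul_th_eq_one hF h)
  have hk0 : (z : F) * th m (z : F) ≠ 0 := by
    intro h
    rcases mul_eq_zero.mp h with h | h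
    · exact hz0 h
    · exact hz0 (th_eq_zero h)
  have e0 := congrFun hv' 0
  have e1 := congrFun hv' 1
  have e2 := congrFun hv' 2
  have e3 := congrFun hv' 3
  simp [hM] at e0 e1 e2 e3
  have key : ∀ (c x : F), c ≠ 1 → c * x = x → x = 0 := by
    intro c x hc h
    have : (c - 1) * x = 0 := by rw [sub_mul, h, one_mul, sub_self]
    rcases mul_eq_zero.mp this with h' | h'
    · exact absurd (sub_eq_zero.mp h') hc
    · exact h'
  have hzi1 : (z : F)⁻¹ ≠ 1 := by
    intro h
    exact hz1 (inv_eq_one.mp h)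
  have hki1 : (th m (z : F))⁻¹ * (z : F)⁻¹ ≠ 1 := by
    intro h
    apply hk1
    rw [← mul_inv, inv_eq_one] at h
    rw [mul_comm]; exact h
  have h0 : v 0 = 0 := key _ _ hk1 e0
  have h1 : v 1 = 0 := key _ _ hz1 e1
  have h2 : v 2 = 0 := key _ _ hzi1 e2
  have h3 : v 3 = 0 := key _ _ hki1 e3
  ext i
  fin_cases i <;> simp [h0, h1, h2, h3]

theorem zmod_four_contra {p : ℕ} [Fact p.Prime] (hp2 : p ≠ 2) {a : ZMod p} (h1 : a ^ 2 + 1 = 0)
    {d : ℕ} (hd : d = 1 ∨ d = 2 ∨ d = 3) (h2 : a ^ 4 = a ^ d) : False := by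
  have h20 : (2 : ZMod p) ≠ 0 := by
    intro h
    have h' : ((2 : ℕ) : ZMod p) = 0 := by exact_mod_cast h
    rw [ZMod.natCast_eq_zero_iff] at h'
    exact hp2 ((Nat.prime_dvd_prime_iff_eq (Fact.out : p.Prime) Nat.prime_two).mp h')
  have ha2 : a ^ 2 = -1 := eq_neg_of_add_eq_zero_left h1
  have ha4 : a ^ 4 = 1 := by
    have : a ^ 4 = (a ^ 2) ^ 2 := by ring
    rw [this, ha2]; ring
  have hfin : a ^ 2 = 1 → False := by
    intro h
    rw [h] at ha2
    apply h20
    linear_combination ha2
  rcases hd with rfl | rfl | rfl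
  · rw [ha4, pow_one] at h2
    apply hfin
    rw [← h2]; ring
  · rw [ha4] at h2
    exact hfin h2.symm
  · rw [ha4] at h2
    have : a = 1 := by
      have : a ^ 4 = a ^ 3 * a := by ring
      rw [ha4, ← h2, one_mul] at this
      exact this.symm
    apply hfin
    rw [this]; ring

/-- Elements of prime order dividing `q² + 1` fix no nonzero vector. -/
theorem fpf_of_dvd_NN (hF : Fintype.card F = 2 ^ (2 * m + 1)) {p : ℕ} (hp : p.Prime)
    (hpN : p ∣ NN m) (g : Matrix.SpecialLinearGroup (Fin 4) F) (hg : g ^ p = 1) (hg1 : g ≠ 1)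
    (v : Fin 4 → F) (hv : g • v = v) : v = 0 := by
  classical
  haveI : Fact p.Prime := ⟨hp⟩
  have hp2 : p ≠ 2 := prime_ne_two_of_dvd_NN hpN
  let f : Function.End (Fin 4 → F) := fun w => g • w
  have hfpow : ∀ n : ℕ, f ^ n = fun w => g ^ n • w := by
    intro n
    induction n with
    | zero =>
      funext w
      rw [pow_zero, pow_zero, one_smul]
      rfl
    | succ n ih =>
      rw [pow_succ, ih]
      funext w
      show g ^ n • (g • w) = g ^ (n + 1) • w
      rw [pow_succ, mul_smul]
  have hf : f ^ p ^ 1 = 1 := by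
    rw [pow_one, hfpow, hg]
    funext w
    rw [one_smul]
    rfl
  have hmod := Equiv.Perm.card_fixedPoints_modEq (f := f) (p := p) (n := 1) hf
  let Fix : Submodule F (Fin 4 → F) :=
    { carrier := {w | g • w = w}
      add_mem' := by
        intro a b ha hb
        simp only [Set.mem_setOf_eq] at ha hb ⊢
        rw [smul_add, ha, hb]
      zero_mem' := by simp
      smul_mem' := by
        intro c a ha
        simp only [Set.mem_setOf_eq] at ha ⊢
        rw [smul_comm, ha] }
  have hFixeq : Fintype.card (Function.fixedPoints f) = Fintype.card Fix := by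
    apply Fintype.card_congr
    exact Equiv.subtypeEquivRight (fun w => Iff.rfl)
  have hcardFix : Fintype.card Fix = Fintype.card F ^ Module.finrank F Fix :=
    Module.card_eq_pow_finrank
  have hcardV : Fintype.card (Fin 4 → F) = Fintype.card F ^ 4 := by
    rw [Fintype.card_fun, Fintype.card_fin]
  rw [hFixeq, hcardFix, hcardV] at hmod
  set d := Module.finrank F Fix with hd
  have hd4 : d ≤ 4 := by
    have := Submodule.finrank_le Fix
    rw [Module.finrank_fin_fun] at this
    exact this
  have hN : ((Fintype.card F : ℕ) : ZMod p) ^ 2 + 1 = 0 := by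
    have : ((NN m : ℕ) : ZMod p) = 0 := (ZMod.natCast_eq_zero_iff _ _).mpr hpN
    unfold NN at this
    rw [← hF] at this
    push_cast at this
    exact this
  have hmod' : ((Fintype.card F : ℕ) : ZMod p) ^ 4 = ((Fintype.card F : ℕ) : ZMod p) ^ d := by
    have := (ZMod.natCast_eq_natCast_iff _ _ _).mpr hmod
    push_cast at this
    exact this
  have hcases : d = 0 ∨ (d = 1 ∨ d = 2 ∨ d = 3) ∨ d = 4 := by omega
  rcases hcases with h0 | h123 | h4
  · have hbot : Fix = ⊥ := by
      apply Submodule.finrank_eq_zero.mp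
      rw [← hd, h0]
    have : v ∈ Fix := hv
    rw [hbot, Submodule.mem_bot] at this
    exact this
  · exact (zmod_four_contra hp2 hN h123 hmod').elim
  · exfalso
    apply hg1
    have htop : Fix = ⊤ := by
      apply Submodule.eq_top_of_finrank_eq
      rw [← hd, h4, Module.finrank_fin_fun]
    have hall : ∀ w : Fin 4 → F, g.1 *ᵥ w = w := by
      intro w
      have : w ∈ Fix := by rw [htop]; exact Submodule.mem_top
      exact this
    apply Subtype.ext
    apply Matrix.toLin'.injective
    apply LinearMap.ext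
    intro w
    rw [Matrix.toLin'_apply, hall]
    simp

/-- Elements of odd prime order of `Sz(q)` fix no nonzero vector of the natural module. -/
theorem sz_fpf (hF : Fintype.card F = 2 ^ (2 * m + 1)) (hm : 1 ≤ m) {g : Cfsg.Sz F m} {p : ℕ}
    (hp : p.Prime) (hp2 : p ≠ 2) (hg : orderOf g = p) (v : Fin 4 → F) (hv : g • v = v) :
    v = 0 := by
  haveI : Fact p.Prime := ⟨hp⟩
  have hg1 : g ≠ 1 := by
    intro h
    rw [h, orderOf_one] at hg
    exact hp.one_lt.ne hg
  have hpd : p ∣ Nat.card (Cfsg.Sz F m) := by rw [← hg]; exact orderOf_dvd_natCard g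
  rw [card_Sz' hF hm] at hpd
  have hp2' : ¬ p ∣ 2 := by
    intro h
    exact hp2 ((Nat.prime_dvd_prime_iff_eq hp Nat.prime_two).mp h)
  rcases (Nat.Prime.dvd_mul hp).mp hpd with h | h
  · rcases (Nat.Prime.dvd_mul hp).mp h with h | h
    · exact absurd (hp.dvd_of_dvd_pow (hp.dvd_of_dvd_pow h)) hp2'
    · apply fpf_of_dvd_NN hF hp h (g : Matrix.SpecialLinearGroup (Fin 4) F) _ _ v hv
      · have := pow_orderOf_eq_one g
        rw [hg] at this
        have h' := congrArg Subtype.val this
        simpa using h'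
      · intro h'
        exact hg1 (Subtype.ext h')
  · obtain ⟨c, z, hz, hgc⟩ := dvd_sub_conj hF hm hp2 h g hg
    rw [hgc, mul_smul, mul_smul] at hv
    have h1 : hZ hF z • (c⁻¹ • v) = c⁻¹ • v := (smul_eq_iff_eq_inv_smul c).mp hv
    have h2 := hZ_fpf hF hz _ h1
    have : v = c • (c⁻¹ • v) := by rw [smul_inv_smul]
    rw [this, h2, smul_zero]

/-- No element of `Sz(q)` has order twice an odd prime. -/
theorem orderOf_ne_two_mul (hF : Fintype.card F = 2 ^ (2 * m + 1)) (hm : 1 ≤ m)
    (g : Cfsg.Sz F m) {p : ℕ} (hp : p.Prime) (hp2 : p ≠ 2) : orderOf g ≠ 2 * p := by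
  intro h
  have h1 := (exists_orderOf_mul_iff hF hm Nat.prime_two hp (Ne.symm hp2)).mp ⟨g, h⟩
  have hs : 2 ^ (m + 1) ≤ 2 ^ (2 * m + 1) := Nat.pow_le_pow_right (by norm_num) (by omega)
  have e1 : 2 ∣ 2 ^ (2 * m + 1) := dvd_pow_self 2 (by omega)
  have e2 : 2 ∣ 2 ^ (m + 1) := dvd_pow_self 2 (by omega)
  have hq := q_ge m hm
  rcases h1 with h1 | h1 | h1
  · have := (dvd_mul_right 2 p).trans h1
    omega
  · have := (dvd_mul_right 2 p).trans h1
    omega
  · have := (dvd_mul_right 2 p).trans h1
    omega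

/-- Finite groups of arbitrarily large order with the prime graph of `Sz(q)`. -/
theorem exists_same_prime_graph (hF : Fintype.card F = 2 ^ (2 * m + 1)) (hm : 1 ≤ m) (N : ℕ) :
    ∃ (H : Type) (_ : Group H) (_ : Fintype H), N < Fintype.card H ∧
      (∀ r : ℕ, r.Prime → (r ∣ Nat.card (Cfsg.Sz F m) ↔ r ∣ Nat.card H)) ∧
      (∀ r s : ℕ, r.Prime → s.Prime → r ≠ s →
        ((∃ x : Cfsg.Sz F m, orderOf x = r * s) ↔ ∃ y : H, orderOf y = r * s)) := by
  classical
  haveI : Fact (Nat.Prime 2) := ⟨Nat.prime_two⟩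
  let K : Type := GaloisField 2 (2 * m + 1)
  letI : Fintype K := Fintype.ofFinite K
  have hK : Fintype.card K = 2 ^ (2 * m + 1) := by
    rw [← Nat.card_eq_fintype_card]
    exact GaloisField.card 2 (2 * m + 1) (by omega)
  let S : Type := Cfsg.Sz K m
  let W : Type := Fin (N + 1) → Fin 4 → K
  letI : Fintype S := Fintype.ofFinite S
  let φ : S →* MulAut (Multiplicative W) := actHom S W
  let H : Type := Multiplicative W ⋊[φ] S
  letI : Fintype H := Fintype.ofEquiv (Multiplicative W × S) SemidirectProduct.equivProd.symm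
  have h2K := two_eq_zero hK
  have hcardW : Nat.card (Multiplicative W) = ((2 ^ (2 * m + 1)) ^ 4) ^ (N + 1) := by
    rw [Nat.card_congr (Multiplicative.toAdd : Multiplicative W ≃ W)]
    show Nat.card (Fin (N + 1) → Fin 4 → K) = _
    rw [Nat.card_fun, Nat.card_fun, Nat.card_eq_fintype_card (α := K), hK, Nat.card_fin,
      Nat.card_fin]
  have hcardH : Nat.card H = ((2 ^ (2 * m + 1)) ^ 4) ^ (N + 1) * Nat.card S := by
    rw [SemidirectProduct.card, hcardW]
  have hcardS : Nat.card S = Nat.card (Cfsg.Sz F m) := by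
    rw [card_Sz' hF hm]; exact card_Sz' hK hm
  refine ⟨H, inferInstance, inferInstance, ?_, ?_, ?_⟩
  · rw [← Nat.card_eq_fintype_card, hcardH]
    have h1 : 0 < Nat.card S := Nat.card_pos
    have h2 : N < 2 ^ (N + 1) := by
      calc N < 2 ^ N := Nat.lt_two_pow_self
        _ ≤ 2 ^ (N + 1) := Nat.pow_le_pow_right (by norm_num) (by omega)
    have h3 : 2 ^ (N + 1) ≤ ((2 ^ (2 * m + 1)) ^ 4) ^ (N + 1) := by
      apply Nat.pow_le_pow_left
      have := q_ge m hm
      calc 2 ≤ 2 ^ (2 * m + 1) := by omega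
        _ = (2 ^ (2 * m + 1)) ^ 1 := (pow_one _).symm
        _ ≤ (2 ^ (2 * m + 1)) ^ 4 := Nat.pow_le_pow_right (by omega) (by norm_num)
    calc N < ((2 ^ (2 * m + 1)) ^ 4) ^ (N + 1) := lt_of_lt_of_le h2 h3
      _ = ((2 ^ (2 * m + 1)) ^ 4) ^ (N + 1) * 1 := (mul_one _).symm
      _ ≤ ((2 ^ (2 * m + 1)) ^ 4) ^ (N + 1) * Nat.card S := Nat.mul_le_mul_left _ h1
  · intro r hr
    rw [hcardH, hcardS]
    constructor
    · intro h; exact Dvd.dvd.mul_left h _
    · intro h
      rcases (Nat.Prime.dvd_mul hr).mp h with h | h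
      · have h' := hr.dvd_of_dvd_pow (hr.dvd_of_dvd_pow (hr.dvd_of_dvd_pow h))
        have hr2 : r = 2 := (Nat.prime_dvd_prime_iff_eq hr Nat.prime_two).mp h'
        rw [hr2, card_Sz' hF hm]
        apply Dvd.dvd.mul_right
        apply Dvd.dvd.mul_right
        rw [← pow_mul]
        exact dvd_pow_self 2 (by omega)
      · exact h
  · intro r s hr hs hrs
    rw [exists_orderOf_mul_iff hF hm hr hs hrs, ← exists_orderOf_mul_iff hK hm hr hs hrs]
    symm
    apply semidirect_orders φ _ _ _ hr hs hrs
    · intro n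
      show Multiplicative.ofAdd (Multiplicative.toAdd n + Multiplicative.toAdd n) = 1
      have : Multiplicative.toAdd n + Multiplicative.toAdd n = 0 := by
        funext i j
        exact add_self' h2K _
      rw [this]; rfl
    · intro g p hp hp2 hg n hn
      have hn' : g • Multiplicative.toAdd n = Multiplicative.toAdd n := by
        have := congrArg Multiplicative.toAdd hn
        simpa [φ] using this
      have : Multiplicative.toAdd n = 0 := by
        funext i
        have hi : g • (Multiplicative.toAdd n i) = Multiplicative.toAdd n i := congrFun hn' i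
        exact sz_fpf hK hm hp hp2 hg _ hi
      show n = Multiplicative.ofAdd 0
      rw [← this]; rfl
    · intro g p hp hp2
      exact orderOf_ne_two_mul hK hm g hp hp2

end Cfsg.Agent.Lib.Helper4.Suz
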