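import Mathlib
import Cfsg.Prelude.Def_LieExceptional
import Cfsg.Agent.Lib.Helper4.Suz41

/-!
# Suzuki groups, part 42: solvable subgroups when `2m+1` is prime
-/

set_option autoImplicit false
set_option linter.unusedSimpArgs false
set_option linter.unusedVariables false
set_option linter.style.haveILetI false

namespace Cfsg.Agent.Lib.Helper4.Suz

open MulAction

/-- A subgroup is solvable if its commutators lie in a solvable subgroup. -/
theorem isSolvable_of_commutators_mem {G : Type*} [Group G] (M K : Subgroup G) (hKM : K ≤ M)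
    (hK : Group.IsSolvable K) (hcomm : ∀ g ∈ M, ∀ h ∈ M, g * h * g⁻¹ * h⁻¹ ∈ K) :
    Group.IsSolvable M := by
  haveI := hK
  apply solvable_of_ker_le_range (Subgroup.inclusion hKM) (Abelianization.of (G := M))
  rw [Abelianization.ker_of, commutator_def, Subgroup.commutator_le]
  intro g _ h _
  rw [commutatorElement_def]
  refine ⟨⟨(g : G) * h * (g : G)⁻¹ * (h : G)⁻¹, hcomm g g.2 h h.2⟩, ?_⟩
  apply Subtype.ext
  simp

/-- Commutators of elements normalising a cyclic subgroup centralise it. -/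
theorem commutator_mem_centralizer_of_cyclic {G : Type*} [Group G] {U : Subgroup G}
    (hU : IsCyclic U) {g h : G} (hg : g ∈ Subgroup.normalizer (U : Set G))
    (hh : h ∈ Subgroup.normalizer (U : Set G)) :
    g * h * g⁻¹ * h⁻¹ ∈ Subgroup.centralizer (U : Set G) := by
  haveI := hU
  have hcomm : ∀ a b : MulAut U, a * b = b * a := by
    intro a b
    apply (IsCyclic.mulAutMulEquiv U).injective
    rw [map_mul, map_mul, mul_comm]
  let φ := U.normalizerMonoidHom
  let c : Subgroup.normalizer (U : Set G) := ⟨g, hg⟩ * ⟨h, hh⟩ * ⟨g, hg⟩⁻¹ * ⟨h, hh⟩⁻¹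
  have hc : φ c = 1 := by
    simp only [c, map_mul, map_inv]
    rw [hcomm (φ ⟨g, hg⟩) (φ ⟨h, hh⟩)]
    group
  have hker : c ∈ φ.ker := hc
  rw [Subgroup.normalizerMonoidHom_ker, Subgroup.mem_subgroupOf] at hker
  exact hker

variable {F : Type*} [Field F] [Fintype F] {m : ℕ}

/-- A standard cyclic subgroup is self-centralising. -/
theorem InList.centralizer_le (hF : Fintype.card F = 2 ^ (2 * m + 1)) (hm : 1 ≤ m)
    {U : Subgroup (Cfsg.Sz F m)} (hU : InList U) :
    Subgroup.centralizer (U : Set (Cfsg.Sz F m)) ≤ U := by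
  have h5 := hU.five_le hm
  rcases hU.cases hF hm with hA | ⟨c, rfl⟩
  · obtain ⟨a, haU, ha1⟩ : ∃ a ∈ U, a ≠ 1 := by
      by_contra hcon
      push_neg at hcon
      have : U = ⊥ := by
        rw [eq_bot_iff]
        intro a ha
        rw [Subgroup.mem_bot]; exact hcon a ha
      rw [this, Subgroup.card_bot] at h5
      omega
    intro g hg
    rw [← hA.centralizer_eq hF hm haU ha1, mem_centralizer_singleton]
    exact (Subgroup.mem_centralizer_iff.mp hg a haU)
  · obtain ⟨z, hz⟩ := exists_unit_ne_one hF hm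
    intro g hg
    have h1 : c * hZ hF z * c⁻¹ ∈ (Tor hF).map (MulAut.conj c).toMonoidHom :=
      conj_mem_map (hZ_mem_Tor hF z) c
    have h2 := Subgroup.mem_centralizer_iff.mp hg _ h1
    have h3 : c⁻¹ * g * c ∈ Subgroup.centralizer ({hZ hF z} : Set (Cfsg.Sz F m)) := by
      rw [mem_centralizer_singleton]
      have e1 : hZ hF z * (c⁻¹ * g * c) = c⁻¹ * ((c * hZ hF z * c⁻¹) * g) * c := by group
      have e2 : c⁻¹ * g * c * hZ hF z = c⁻¹ * (g * (c * hZ hF z * c⁻¹)) * c := by group
      rw [e1, e2, h2]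
    have h4 := centralizer_hZ_le hF hm hz h3
    have h5' := conj_mem_map h4 c
    have e : c * (c⁻¹ * g * c) * c⁻¹ = g := by group
    rwa [e] at h5'

/-- Commutators of elements normalising a standard cyclic subgroup lie in it. -/
theorem InList.commutator_mem (hF : Fintype.card F = 2 ^ (2 * m + 1)) (hm : 1 ≤ m)
    {U : Subgroup (Cfsg.Sz F m)} (hU : InList U) {g h : Cfsg.Sz F m}
    (hg : g ∈ Subgroup.normalizer (U : Set (Cfsg.Sz F m)))
    (hh : h ∈ Subgroup.normalizer (U : Set (Cfsg.Sz F m))) : g * h * g⁻¹ * h⁻¹ ∈ U :=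
  hU.centralizer_le hF hm (commutator_mem_centralizer_of_cyclic hU.1 hg hh)

theorem InList.isSolvable_normalizer (hF : Fintype.card F = 2 ^ (2 * m + 1)) (hm : 1 ≤ m)
    {U : Subgroup (Cfsg.Sz F m)} (hU : InList U) :
    Group.IsSolvable (Subgroup.normalizer (U : Set (Cfsg.Sz F m))) := by
  apply isSolvable_of_commutators_mem _ U Subgroup.le_normalizer
  · haveI := hU.1
    letI := IsCyclic.commGroup (α := U)
    infer_instance
  · intro g hg h hh
    exact hU.commutator_mem hF hm hg hh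

/-- Point stabilisers are solvable. -/
theorem isSolvable_stabilizer (hF : Fintype.card F = 2 ^ (2 * m + 1)) (hm : 1 ≤ m)
    (P : Cfsg.suzukiOvoid F m) : Group.IsSolvable (stabilizer (Cfsg.Sz F m) P) := by
  haveI : Fact (Nat.Prime 2) := ⟨Nat.prime_two⟩
  obtain ⟨c, hc⟩ := exists_smul_eq_oInf hF P
  have hc' : c⁻¹ • oInf F m = P := by rw [inv_smul_eq_iff, hc]
  apply isSolvable_of_commutators_mem _ (Uat hF P)
  · intro g hg
    rw [mem_stabilizer_iff]; exact smul_eq_of_mem_Uat hF hm hg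
  · have hcard : Nat.card (Uat hF P) = 2 ^ (2 * (2 * m + 1)) := by
      rw [← hc', Uat_eq_map hF hm, card_map_conj, card_USub hF, ← pow_mul, mul_comm]
    have hpU : IsPGroup 2 (Uat hF P) := IsPGroup.of_card hcard
    haveI : Group.IsNilpotent (Uat hF P) := hpU.isNilpotent
    infer_instance
  · intro g hg h hh
    rw [mem_stabilizer_iff] at hg hh
    rw [mem_Uat_iff hF hm hc', inv_inv]
    have hg' : (c * g * c⁻¹) • oInf F m = oInf F m := by
      rw [mul_smul, mul_smul, ← hc, inv_smul_smul, hg]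
    have hh' : (c * h * c⁻¹) • oInf F m = oInf F m := by
      rw [mul_smul, mul_smul, ← hc, inv_smul_smul, hh]
    obtain ⟨a, b, z, hab⟩ := fix_oInf hF hm _ hg'
    obtain ⟨a', b', z', hab'⟩ := fix_oInf hF hm _ hh'
    have e : c * (g * h * g⁻¹ * h⁻¹) * c⁻¹ =
        (c * g * c⁻¹) * (c * h * c⁻¹) * (c * g * c⁻¹)⁻¹ * (c * h * c⁻¹)⁻¹ := by group
    rw [e, hab, hab']
    -- a commutator of two Borel elements is unipotent
    have e2 : uZ hF a b * hZ hF z * (uZ hF a' b' * hZ hF z') * (uZ hF a b * hZ hF z)⁻¹ *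
        (uZ hF a' b' * hZ hF z')⁻¹ =
        uZ hF a b * (hZ hF z * uZ hF a' b' * (hZ hF z)⁻¹) *
          (hZ hF z' * (uZ hF a b)⁻¹ * (hZ hF z')⁻¹) * (uZ hF a' b')⁻¹ *
          (hZ hF z * hZ hF z' * (hZ hF z)⁻¹ * (hZ hF z')⁻¹) := by
      have hcomm : hZ hF z * hZ hF z' = hZ hF z' * hZ hF z := by
        rw [← hZ_mul, ← hZ_mul, mul_comm]
      have h1 : hZ hF z * hZ hF z' * (hZ hF z)⁻¹ * (hZ hF z')⁻¹ = 1 := by
        rw [hcomm]; group
      rw [h1, mul_one]
      have h2 : uZ hF a b * hZ hF z * (uZ hF a' b' * hZ hF z') * (uZ hF a b * hZ hF z)⁻¹ *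
          (uZ hF a' b' * hZ hF z')⁻¹ =
          uZ hF a b * (hZ hF z * uZ hF a' b' * (hZ hF z)⁻¹) *
          ((hZ hF z * hZ hF z') * ((hZ hF z)⁻¹ * (uZ hF a b)⁻¹ * hZ hF z) * (hZ hF z * hZ hF z')⁻¹) *
          ((hZ hF z * hZ hF z') * (hZ hF z)⁻¹ * (hZ hF z')⁻¹) * (uZ hF a' b')⁻¹ := by group
      rw [h2, h1, mul_one, hcomm]
      group
    rw [e2]
    have hcomm : hZ hF z * hZ hF z' = hZ hF z' * hZ hF z := by
      rw [← hZ_mul, ← hZ_mul, mul_comm]
    have h1 : hZ hF z * hZ hF z' * (hZ hF z)⁻¹ * (hZ hF z')⁻¹ = 1 := by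
      rw [hcomm]; group
    rw [h1, mul_one, hZ_uZ_hZ, uZ_inv, hZ_uZ_hZ, uZ_inv, uZ_mul, uZ_mul, uZ_mul]
    exact uZ_mem_USub hF _ _

theorem not_isSolvable (hF : Fintype.card F = 2 ^ (2 * m + 1)) (hm : 1 ≤ m) :
    ¬ Group.IsSolvable (Cfsg.Sz F m) := by
  intro h
  haveI := h
  haveI : Nontrivial (Cfsg.Sz F m) := by
    obtain ⟨z, hz⟩ := exists_unit_ne_one hF hm
    refine ⟨⟨hZ hF z, 1, ?_⟩⟩
    intro h'
    rw [← hZ_one hF] at h'
    exact hz (hZ_injective hF h')
  have := Group.IsSolvable.commutator_lt_top_of_nontrivial (Cfsg.Sz F m)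
  rw [perfect hF hm] at this
  exact lt_irrefl _ this

/-- When `2m+1` is prime, a subfield with an element other than `0, 1` is everything. -/
theorem subfield_top_of_prime (hF : Fintype.card F = 2 ^ (2 * m + 1)) (hp : (2 * m + 1).Prime)
    (S : Subfield F) {l : F} (hl : l ∈ S) (hl0 : l ≠ 0) (hl1 : l ≠ 1) : ∀ x : F, x ∈ S := by
  obtain ⟨e, he1, hed, hcard⟩ := card_subfield hF S
  rcases (Nat.dvd_prime hp).mp hed with h | h
  · exfalso
    rw [h, pow_one] at hcard
    have hsub : ({0, 1, l} : Set F) ⊆ (S : Set F) := by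
      intro x hx
      rcases hx with rfl | rfl | rfl
      · exact S.zero_mem
      · exact S.one_mem
      · exact hl
    have h3 : ({0, 1, l} : Set F).ncard = 3 := by
      rw [Set.ncard_eq_three]
      exact ⟨0, 1, l, zero_ne_one, Ne.symm hl0, Ne.symm hl1, rfl⟩
    have := Set.ncard_le_ncard hsub (Set.toFinite _)
    rw [h3] at this
    have e2 : (S : Set F).ncard = Nat.card S := (Nat.card_coe_set_eq _).symm
    rw [e2, hcard] at this
    omega
  · rw [h] at hcard
    exact subfield_eq_top_of_card hF S hcard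

/-- When `2m+1` is prime, `⟨x, y⟩` is solvable exactly when it fixes a point or normalises a
standard cyclic subgroup. -/
theorem isSolvable_closure_iff (hF : Fintype.card F = 2 ^ (2 * m + 1)) (hm : 1 ≤ m)
    (hp : (2 * m + 1).Prime) (x y : Cfsg.Sz F m) :
    Group.IsSolvable (Subgroup.closure ({x, y} : Set (Cfsg.Sz F m))) ↔
      (∃ P : Cfsg.suzukiOvoid F m, x • P = P ∧ y • P = P) ∨
      (∃ U : Subgroup (Cfsg.Sz F m), InList U ∧
        x ∈ Subgroup.normalizer (U : Set (Cfsg.Sz F m)) ∧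
        y ∈ Subgroup.normalizer (U : Set (Cfsg.Sz F m))) := by
  have hxM : x ∈ Subgroup.closure ({x, y} : Set (Cfsg.Sz F m)) :=
    Subgroup.subset_closure (by simp)
  have hyM : y ∈ Subgroup.closure ({x, y} : Set (Cfsg.Sz F m)) :=
    Subgroup.subset_closure (by simp)
  constructor
  · intro hsol
    rcases subgroup_theorem hF hm (Subgroup.closure ({x, y} : Set (Cfsg.Sz F m))) with
      ⟨P, hP⟩ | ⟨⟨U, hU, hle⟩, -⟩ | ⟨S, c, ⟨l, hlS, hl0, hl1⟩, hS⟩
    · left; exact ⟨P, hP x hxM, hP y hyM⟩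
    · right; exact ⟨U, hU, hle hxM, hle hyM⟩
    · exfalso
      have hall := subfield_top_of_prime hF hp S hlS hl0 hl1
      rw [SSet_univ hF hm _ hall] at hS
      have htop : Subgroup.closure ({x, y} : Set (Cfsg.Sz F m)) = ⊤ := by
        apply map_conj_eq_top (c := c)
        apply SetLike.coe_injective
        rw [hS]; rfl
      apply not_isSolvable hF hm
      rw [htop] at hsol
      haveI := hsol
      exact solvable_of_surjective (f := (Subgroup.topEquiv (G := Cfsg.Sz F m)).toMonoidHom)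
        (Subgroup.topEquiv.surjective)
  · rintro (⟨P, hxP, hyP⟩ | ⟨U, hU, hxU, hyU⟩)
    · have hle : Subgroup.closure ({x, y} : Set (Cfsg.Sz F m)) ≤ stabilizer (Cfsg.Sz F m) P := by
        rw [Subgroup.closure_le]
        intro g hg
        rcases hg with rfl | rfl
        · exact hxP
        · exact hyP
      haveI := isSolvable_stabilizer hF hm P
      exact solvable_of_solvable_injective (Subgroup.inclusion_injective hle)
    · have hle : Subgroup.closure ({x, y} : Set (Cfsg.Sz F m)) ≤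
          Subgroup.normalizer (U : Set (Cfsg.Sz F m)) := by
        rw [Subgroup.closure_le]
        intro g hg
        rcases hg with rfl | rfl
        · exact hxU
        · exact hyU
      haveI := hU.isSolvable_normalizer hF hm
      exact solvable_of_solvable_injective (Subgroup.inclusion_injective hle)

end Cfsg.Agent.Lib.Helper4.Suz
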