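import Mathlib
import Cfsg.Prelude.Def_LieExceptional
import Cfsg.Agent.Lib.Helper4.Suz42

/-!
# Suzuki groups, part 43: solubilizers of elements of odd order
-/

set_option autoImplicit false
set_option linter.unusedSimpArgs false
set_option linter.unusedVariables false
set_option linter.style.haveILetI false

namespace Cfsg.Agent.Lib.Helper4.Suz

open MulAction

theorem r_le_q (m : ℕ) : 2 ^ (m + 1) ≤ 2 ^ (2 * m + 1) :=
  Nat.pow_le_pow_right (by norm_num) (by omega)

theorem NN_eq (m : ℕ) :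
    NN m = (2 ^ (2 * m + 1) + 2 ^ (m + 1) + 1) * (2 ^ (2 * m + 1) - 2 ^ (m + 1) + 1) := by
  unfold NN
  have hfac := pow_facts m
  have hr : 1 ≤ 2 ^ m := Nat.one_le_two_pow
  rw [hfac.1, hfac.2]
  have : 2 * 2 ^ m ≤ 2 * (2 ^ m) ^ 2 := by nlinarith
  zify [this]
  ring

theorem a1_dvd_NN (m : ℕ) : 2 ^ (2 * m + 1) + 2 ^ (m + 1) + 1 ∣ NN m := by
  rw [NN_eq]; exact dvd_mul_right _ _

theorem a2_dvd_NN (m : ℕ) : 2 ^ (2 * m + 1) - 2 ^ (m + 1) + 1 ∣ NN m := by
  rw [NN_eq]; exact dvd_mul_left _ _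

theorem coprime_a1_a2 (m : ℕ) :
    Nat.Coprime (2 ^ (2 * m + 1) + 2 ^ (m + 1) + 1) (2 ^ (2 * m + 1) - 2 ^ (m + 1) + 1) := by
  apply Nat.coprime_of_dvd
  intro p hp h1 h2
  have hle := r_le_q m
  have h3 : p ∣ (2 ^ (2 * m + 1) + 2 ^ (m + 1) + 1) - (2 ^ (2 * m + 1) - 2 ^ (m + 1) + 1) :=
    Nat.dvd_sub h1 h2
  have e : (2 ^ (2 * m + 1) + 2 ^ (m + 1) + 1) - (2 ^ (2 * m + 1) - 2 ^ (m + 1) + 1) =
      2 ^ (m + 2) := by
    rw [pow_succ 2 (m + 1)]; omega
  rw [e] at h3
  have hp2 : p = 2 := (Nat.prime_dvd_prime_iff_eq hp Nat.prime_two).mp (hp.dvd_of_dvd_pow h3)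
  rw [hp2] at h1
  exact odd_NN m (h1.trans (a1_dvd_NN m))

theorem coprime_sub_one_of_dvd_NN (m : ℕ) {c : ℕ} (hc : c ∣ NN m) :
    Nat.Coprime (2 ^ (2 * m + 1) - 1) c := by
  have h := coprime_NN m
  have h1 : Nat.Coprime (NN m) (2 ^ (2 * m + 1) - 1) := Nat.Coprime.coprime_mul_left_right h
  exact (Nat.Coprime.coprime_dvd_left hc h1).symm

theorem sol_card_conj {G : Type*} [Group G] (c x : G) :
    Nat.card {y : G // Group.IsSolvable (Subgroup.closure ({c * x * c⁻¹, y} : Set G))} =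
      Nat.card {y : G // Group.IsSolvable (Subgroup.closure ({x, y} : Set G))} := by
  have key : ∀ y : G, Group.IsSolvable (Subgroup.closure ({c * x * c⁻¹, c * y * c⁻¹} : Set G)) ↔
      Group.IsSolvable (Subgroup.closure ({x, y} : Set G)) := by
    intro y
    have e : Subgroup.closure ({c * x * c⁻¹, c * y * c⁻¹} : Set G) =
        (Subgroup.closure ({x, y} : Set G)).map (MulAut.conj c).toMonoidHom := by
      rw [MonoidHom.map_closure, Set.image_pair]
      simp [MulAut.conj_apply]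
    rw [e]
    have eq := Subgroup.equivMapOfInjective (Subgroup.closure ({x, y} : Set G))
      (MulAut.conj c).toMonoidHom (MulAut.conj c).injective
    constructor
    · intro h
      haveI := h
      exact solvable_of_surjective (f := eq.symm.toMonoidHom) eq.symm.surjective
    · intro h
      haveI := h
      exact solvable_of_surjective (f := eq.toMonoidHom) eq.surjective
  symm
  apply Nat.card_congr
  refine ⟨fun y => ⟨c * y.1 * c⁻¹, (key y.1).mpr y.2⟩, fun y => ⟨c⁻¹ * y.1 * c, ?_⟩, ?_, ?_⟩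
  · have h := y.2
    have e : y.1 = c * (c⁻¹ * y.1 * c) * c⁻¹ := by group
    rw [e] at h
    exact (key _).mp h
  · intro y
    apply Subtype.ext
    simp only
    group
  · intro y
    apply Subtype.ext
    simp only
    group

variable {F : Type*} [Field F] [Fintype F] {m : ℕ}

/-- The solubilizer of an element of order dividing `q ± r + 1` is a normaliser of order `4c`. -/
theorem card_sol_A (hF : Fintype.card F = 2 ^ (2 * m + 1)) (hm : 1 ≤ m)
    (hp : (2 * m + 1).Prime) {x : Cfsg.Sz F m} (hx1 : x ≠ 1) {c : ℕ}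
    (hc : c = 2 ^ (2 * m + 1) + 2 ^ (m + 1) + 1 ∨ c = 2 ^ (2 * m + 1) - 2 ^ (m + 1) + 1)
    (hxc : orderOf x ∣ c) :
    Nat.card {y : Cfsg.Sz F m //
      Group.IsSolvable (Subgroup.closure ({x, y} : Set (Cfsg.Sz F m)))} = 4 * c := by
  have hq := q_ge m hm
  have hle := r_le_q m
  have hr4 : 4 ≤ 2 ^ (m + 1) := by
    calc 4 = 2 ^ 2 := by norm_num
      _ ≤ 2 ^ (m + 1) := Nat.pow_le_pow_right (by norm_num) (by omega)
  have hcN : c ∣ NN m := by
    rcases hc with rfl | rfl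
    · exact a1_dvd_NN m
    · exact a2_dvd_NN m
  have hxN : orderOf x ∣ NN m := hxc.trans hcN
  have hodd : ¬ 2 ∣ orderOf x := fun h => odd_NN m (h.trans hxN)
  obtain ⟨U, hU, hxU⟩ := exists_inList_of_odd hF hm hx1 hodd
  have hxU' : orderOf x ∣ Nat.card U := Subgroup.orderOf_dvd_natCard U hxU
  have hn1 : orderOf x ≠ 1 := by rwa [Ne, orderOf_eq_one_iff]
  have hcardU : Nat.card U = c := by
    by_contra hne
    apply hn1
    have hcop : Nat.Coprime (Nat.card U) c := by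
      rcases hU.2 with h | h | h
      · rw [h]; exact coprime_sub_one_of_dvd_NN m hcN
      · rw [h]
        rcases hc with rfl | rfl
        · exact absurd h hne
        · exact coprime_a1_a2 m
      · simp only [Set.mem_singleton_iff] at h
        rw [h]
        rcases hc with rfl | rfl
        · exact (coprime_a1_a2 m).symm
        · exact absurd h hne
    exact Nat.eq_one_of_dvd_coprimes hcop hxU' hxc
  have hA : IsA U := by
    rcases hU.cases hF hm with h | ⟨d, rfl⟩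
    · exact h
    · exfalso
      rw [card_map_conj, card_Tor] at hcardU
      rcases hc with rfl | rfl <;> omega
  have hset : ∀ y : Cfsg.Sz F m,
      Group.IsSolvable (Subgroup.closure ({x, y} : Set (Cfsg.Sz F m))) ↔
        y ∈ Subgroup.normalizer (U : Set (Cfsg.Sz F m)) := by
    intro y
    rw [isSolvable_closure_iff hF hm hp]
    constructor
    · rintro (⟨P, hxP, -⟩ | ⟨U', hU', hxU'', hyU'⟩)
      · exact absurd hxP (no_fix_of_orderOf_dvd hF hm x hx1 hxN P)
      · have := hU'.mem_of_normalizer hF hm hxU'' hodd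
        rw [hU.eq_of_common hF hm hU' hx1 hxU this]
        exact hyU'
    · intro hy
      right
      exact ⟨U, hU, Subgroup.le_normalizer hxU, hy⟩
  rw [Nat.card_congr (Equiv.subtypeEquivRight hset)]
  have := hA.card_normalizer hF hm
  rw [hcardU] at this
  exact this

theorem hZ_ne_one (hF : Fintype.card F = 2 ^ (2 * m + 1)) {z : Fˣ} (hz : z ≠ 1) :
    hZ hF z ≠ 1 := by
  intro h
  rw [← hZ_one hF] at h
  exact hz (hZ_injective hF h)

theorem oInf_ne_zero : oInf F m ≠ oPt m (0 : F) 0 := (oPt_ne_oInf (m := m) (0 : F) 0).symm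

/-- The normaliser of the torus is `T ∪ wT`. -/
theorem normalizer_Tor_cases (hF : Fintype.card F = 2 ^ (2 * m + 1)) (hm : 1 ≤ m)
    {n : Cfsg.Sz F m} (hn : n ∈ Subgroup.normalizer (Tor hF : Set (Cfsg.Sz F m))) :
    n ∈ Tor hF ∨ wZ hF * n ∈ Tor hF := by
  obtain ⟨z, hz⟩ := exists_unit_ne_one hF hm
  have h1 : n * hZ hF z * n⁻¹ ∈ Tor hF :=
    (Subgroup.mem_normalizer_iff.mp hn _).mp (hZ_mem_Tor hF z)
  obtain ⟨z', hz'⟩ := (mem_Tor_iff hF _).mp h1
  have hz'1 : z' ≠ 1 := by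
    rintro rfl
    rw [hZ_one] at hz'
    apply hZ_ne_one hF hz
    have : hZ hF z = n⁻¹ * (n * hZ hF z * n⁻¹) * n := by group
    rw [this, hz']; group
  have hfix : ∀ P : Cfsg.suzukiOvoid F m, hZ hF z • P = P → hZ hF z' • (n • P) = n • P := by
    intro P hP
    rw [← hz', mul_smul, mul_smul, inv_smul_smul, hP]
  have hc1 := hZ_fixed_cases hF hz'1 (hfix _ (hZ_smul_oInf hF z))
  have hc2 := hZ_fixed_cases hF hz'1 (hfix _ (hZ_smul_zero hF z))
  have hne : n • oInf F m ≠ n • oPt m (0 : F) 0 := fun h => oInf_ne_zero (smul_left_cancel n h)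
  rcases hc1 with hi | hi
  · left
    rcases hc2 with h0 | h0
    · exact absurd (hi.trans h0.symm) hne
    · obtain ⟨z'', hz''⟩ := fix_oInf_zero hF hm n hi h0
      rw [hz'']; exact hZ_mem_Tor hF z''
  · right
    rcases hc2 with h0 | h0
    · have e1 : (wZ hF * n) • oInf F m = oInf F m := by
        rw [mul_smul, hi, wZ_smul_oPt_zero]
      have e2 : (wZ hF * n) • oPt m (0 : F) 0 = oPt m 0 0 := by
        rw [mul_smul, h0, wZ_smul_oInf]
      obtain ⟨z'', hz''⟩ := fix_oInf_zero hF hm _ e1 e2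
      rw [hz'']; exact hZ_mem_Tor hF z''
    · exact absurd (hi.trans h0.symm) hne

theorem mem_normalizer_Tor_of_wZ_mul (hF : Fintype.card F = 2 ^ (2 * m + 1))
    {n : Cfsg.Sz F m} (hn : wZ hF * n ∈ Tor hF) :
    n ∈ Subgroup.normalizer (Tor hF : Set (Cfsg.Sz F m)) := by
  have h1 := Subgroup.le_normalizer hn
  have h2 := wZ_mem_normalizer_Tor hF (m := m) (F := F)
  have := Subgroup.mul_mem _ (Subgroup.inv_mem _ h2) h1
  rwa [inv_mul_cancel_left] at this

/-- The solubilizer of a nontrivial torus element. -/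
theorem card_sol_hZ (hF : Fintype.card F = 2 ^ (2 * m + 1)) (hm : 1 ≤ m)
    (hp : (2 * m + 1).Prime) {z : Fˣ} (hz : z ≠ 1) :
    Nat.card {y : Cfsg.Sz F m //
      Group.IsSolvable (Subgroup.closure ({hZ hF z, y} : Set (Cfsg.Sz F m)))} =
      2 * (2 ^ (2 * m + 1)) ^ 2 * (2 ^ (2 * m + 1) - 1) := by
  have hq := q_ge m hm
  have hx1 := hZ_ne_one hF hz
  have hTin : InList (Tor hF) := ⟨isCyclic_Tor hF, Or.inl (card_Tor hF)⟩
  have hodd : ¬ 2 ∣ orderOf (hZ hF z) := by
    intro h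
    have := h.trans (Subgroup.orderOf_dvd_natCard _ (hZ_mem_Tor hF z))
    rw [card_Tor] at this
    exact q_sub_one_odd m this
  let A : Set (Cfsg.Sz F m) := (stabilizer (Cfsg.Sz F m) (oInf F m) : Set (Cfsg.Sz F m))
  let B : Set (Cfsg.Sz F m) := (stabilizer (Cfsg.Sz F m) (oPt m (0 : F) 0) : Set (Cfsg.Sz F m))
  let C : Set (Cfsg.Sz F m) := {n | wZ hF * n ∈ Tor hF}
  have hset : ∀ y : Cfsg.Sz F m,
      Group.IsSolvable (Subgroup.closure ({hZ hF z, y} : Set (Cfsg.Sz F m))) ↔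
        y ∈ (A ∪ B) ∪ C := by
    intro y
    rw [isSolvable_closure_iff hF hm hp]
    constructor
    · rintro (⟨P, hxP, hyP⟩ | ⟨U', hU', hxU', hyU'⟩)
      · left
        rcases hZ_fixed_cases hF hz hxP with rfl | rfl
        · left; exact hyP
        · right; exact hyP
      · have h1 := hU'.mem_of_normalizer hF hm hxU' hodd
        have h2 : U' = Tor hF := hU'.eq_of_common hF hm hTin hx1 h1 (hZ_mem_Tor hF z)
        rw [h2] at hyU'
        rcases normalizer_Tor_cases hF hm hyU' with h | h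
        · left; left
          obtain ⟨w, rfl⟩ := (mem_Tor_iff hF _).mp h
          exact hZ_smul_oInf hF w
        · right; exact h
    · rintro ((h | h) | h)
      · left; exact ⟨_, hZ_smul_oInf hF z, h⟩
      · left; exact ⟨_, hZ_smul_zero hF z, h⟩
      · right
        exact ⟨Tor hF, hTin, Subgroup.le_normalizer (hZ_mem_Tor hF z),
          mem_normalizer_Tor_of_wZ_mul hF h⟩
  rw [Nat.card_congr (Equiv.subtypeEquivRight hset), Nat.card_coe_set_eq]
  have hA : A.ncard = (2 ^ (2 * m + 1)) ^ 2 * (2 ^ (2 * m + 1) - 1) := by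
    rw [← Nat.card_coe_set_eq]; exact card_stabilizer hF hm _
  have hB : B.ncard = (2 ^ (2 * m + 1)) ^ 2 * (2 ^ (2 * m + 1) - 1) := by
    rw [← Nat.card_coe_set_eq]; exact card_stabilizer hF hm _
  have hAB : A ∩ B = (Tor hF : Set (Cfsg.Sz F m)) := by
    ext g
    constructor
    · rintro ⟨h1, h2⟩
      obtain ⟨w, rfl⟩ := fix_oInf_zero hF hm g h1 h2
      exact hZ_mem_Tor hF w
    · intro h
      obtain ⟨w, rfl⟩ := (mem_Tor_iff hF _).mp h
      exact ⟨hZ_smul_oInf hF w, hZ_smul_zero hF w⟩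
  have hABc : (A ∩ B).ncard = 2 ^ (2 * m + 1) - 1 := by
    rw [hAB, ← Nat.card_coe_set_eq]; exact card_Tor hF
  have hC : C.ncard = 2 ^ (2 * m + 1) - 1 := by
    have : C = (fun g => wZ hF * g) '' (Tor hF : Set (Cfsg.Sz F m)) := by
      ext n
      constructor
      · intro h
        refine ⟨wZ hF * n, h, ?_⟩
        simp only
        rw [← mul_assoc, wZ_mul_wZ, one_mul]
      · rintro ⟨t, ht, rfl⟩
        show wZ hF * (wZ hF * t) ∈ Tor hF
        rw [← mul_assoc, wZ_mul_wZ, one_mul]; exact ht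
    rw [this, Set.ncard_image_of_injective _ (mul_right_injective _), ← Nat.card_coe_set_eq]
    exact card_Tor hF
  have hdisj : Disjoint (A ∪ B) C := by
    rw [Set.disjoint_left]
    rintro g (h | h) hC
    · obtain ⟨w, hw⟩ := (mem_Tor_iff hF _).mp hC
      have h1 : (wZ hF * g) • oInf F m = oInf F m := by rw [hw, hZ_smul_oInf]
      rw [mul_smul, show g • oInf F m = oInf F m from h, wZ_smul_oInf] at h1
      exact oInf_ne_zero h1.symm
    · obtain ⟨w, hw⟩ := (mem_Tor_iff hF _).mp hC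
      have h1 : (wZ hF * g) • oPt m (0 : F) 0 = oPt m 0 0 := by rw [hw, hZ_smul_zero]
      rw [mul_smul, show g • oPt m (0 : F) 0 = oPt m 0 0 from h, wZ_smul_oPt_zero] at h1
      exact oInf_ne_zero h1
  rw [Set.ncard_union_eq hdisj (Set.toFinite _) (Set.toFinite _), hC]
  have h1 := Set.ncard_union_add_ncard_inter A B (Set.toFinite _) (Set.toFinite _)
  rw [hA, hB, hABc] at h1
  have h2 : 2 ^ (2 * m + 1) - 1 ≤ (2 ^ (2 * m + 1)) ^ 2 * (2 ^ (2 * m + 1) - 1) := by
    apply Nat.le_mul_of_pos_left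
    positivity
  have h3 : 2 * (2 ^ (2 * m + 1)) ^ 2 * (2 ^ (2 * m + 1) - 1) =
      (2 ^ (2 * m + 1)) ^ 2 * (2 ^ (2 * m + 1) - 1) +
        (2 ^ (2 * m + 1)) ^ 2 * (2 ^ (2 * m + 1) - 1) := by ring
  rw [h3]
  omega

/-- The solubilizer of a nontrivial element of order dividing `q - 1`. -/
theorem card_sol_T (hF : Fintype.card F = 2 ^ (2 * m + 1)) (hm : 1 ≤ m)
    (hp : (2 * m + 1).Prime) {x : Cfsg.Sz F m} (hx1 : x ≠ 1)
    (hxc : orderOf x ∣ 2 ^ (2 * m + 1) - 1) :
    Nat.card {y : Cfsg.Sz F m //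
      Group.IsSolvable (Subgroup.closure ({x, y} : Set (Cfsg.Sz F m)))} =
      2 * (2 ^ (2 * m + 1)) ^ 2 * (2 ^ (2 * m + 1) - 1) := by
  have hodd : ¬ 2 ∣ orderOf x := fun h => q_sub_one_odd m (h.trans hxc)
  obtain ⟨U, hU, hxU⟩ := exists_inList_of_odd hF hm hx1 hodd
  have hxU' : orderOf x ∣ Nat.card U := Subgroup.orderOf_dvd_natCard U hxU
  have hn1 : orderOf x ≠ 1 := by rwa [Ne, orderOf_eq_one_iff]
  rcases hU.cases hF hm with hA | ⟨c, rfl⟩
  · exfalso
    apply hn1
    have hcop := coprime_sub_one_of_dvd_NN m (hA.card_dvd hF hm)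
    exact Nat.eq_one_of_dvd_coprimes hcop hxc hxU'
  · obtain ⟨t, ht, hxt⟩ := Subgroup.mem_map.mp hxU
    obtain ⟨z, rfl⟩ := (mem_Tor_iff hF _).mp ht
    have hx : x = c * hZ hF z * c⁻¹ := by rw [← hxt]; rfl
    have hz : z ≠ 1 := by
      rintro rfl
      apply hx1
      rw [hx, hZ_one]; group
    rw [hx, sol_card_conj]
    exact card_sol_hZ hF hm hp hz

end Cfsg.Agent.Lib.Helper4.Suz
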