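import Mathlib
import Cfsg.Prelude.Def_LieExceptional
import Cfsg.Agent.Lib.Helper4.Suz43

/-!
# Suzuki groups, part 44: counting conjugates whose normaliser contains a given element
-/

set_option autoImplicit false
set_option linter.unusedSimpArgs false
set_option linter.unusedVariables false
set_option linter.style.haveILetI false

namespace Cfsg.Agent.Lib.Helper4.Suz

open MulAction

/-- Elements conjugating `x` into `N`, counted through the conjugates of `x` in `N`. -/
theorem card_conj_into {G : Type*} [Group G] [Finite G] (x : G) (N : Subgroup G) :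
    Nat.card {g : G // g⁻¹ * x * g ∈ N} =
      Nat.card {t : G // t ∈ N ∧ ∃ g : G, g⁻¹ * x * g = t} *
        Nat.card (Subgroup.centralizer ({x} : Set G)) := by
  classical
  have hch : ∀ t : {t : G // t ∈ N ∧ ∃ g : G, g⁻¹ * x * g = t}, ∃ g : G, g⁻¹ * x * g = t.1 :=
    fun t => t.2.2
  choose gt hgt using hch
  let Φ : {t : G // t ∈ N ∧ ∃ g : G, g⁻¹ * x * g = t} × Subgroup.centralizer ({x} : Set G) →
      {g : G // g⁻¹ * x * g ∈ N} := fun tc =>
    ⟨(tc.2 : G) * gt tc.1, by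
      have hc : x * (tc.2 : G) = (tc.2 : G) * x := (mem_centralizer_singleton x _).mp tc.2.2
      have e : ((tc.2 : G) * gt tc.1)⁻¹ * x * ((tc.2 : G) * gt tc.1) =
          (gt tc.1)⁻¹ * ((tc.2 : G)⁻¹ * (x * (tc.2 : G))) * gt tc.1 := by group
      rw [e, hc, inv_mul_cancel_left, hgt]
      exact tc.1.2.1⟩
  have hΦ : ∀ tc, ((Φ tc).1)⁻¹ * x * (Φ tc).1 = tc.1.1 := by
    intro tc
    have hc : x * (tc.2 : G) = (tc.2 : G) * x := (mem_centralizer_singleton x _).mp tc.2.2
    have e : ((tc.2 : G) * gt tc.1)⁻¹ * x * ((tc.2 : G) * gt tc.1) =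
        (gt tc.1)⁻¹ * ((tc.2 : G)⁻¹ * (x * (tc.2 : G))) * gt tc.1 := by group
    show ((tc.2 : G) * gt tc.1)⁻¹ * x * ((tc.2 : G) * gt tc.1) = tc.1.1
    rw [e, hc, inv_mul_cancel_left, hgt]
  have hinj : Function.Injective Φ := by
    rintro ⟨t, c⟩ ⟨t', c'⟩ h
    have h1 := hΦ (t, c)
    have h2 := hΦ (t', c')
    rw [h] at h1
    have htt : t = t' := Subtype.ext (h1.symm.trans h2)
    subst htt
    have h3 := congrArg Subtype.val h
    simp only [Φ] at h3
    have : (c : G) = c' := mul_right_cancel h3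
    rw [Subtype.ext this]
  have hsurj : Function.Surjective Φ := by
    rintro ⟨g, hg⟩
    let t : {t : G // t ∈ N ∧ ∃ g : G, g⁻¹ * x * g = t} := ⟨g⁻¹ * x * g, hg, g, rfl⟩
    have hc : g * (gt t)⁻¹ ∈ Subgroup.centralizer ({x} : Set G) := by
      rw [mem_centralizer_singleton]
      have h1 : (gt t)⁻¹ * x * gt t = g⁻¹ * x * g := hgt t
      have h2 : x = gt t * (g⁻¹ * x * g) * (gt t)⁻¹ := by rw [← h1]; group
      calc x * (g * (gt t)⁻¹) = g * (g⁻¹ * x * g) * (gt t)⁻¹ := by group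
        _ = g * (gt t)⁻¹ * (gt t * (g⁻¹ * x * g) * (gt t)⁻¹) := by group
        _ = g * (gt t)⁻¹ * x := by rw [← h2]
    refine ⟨(t, ⟨g * (gt t)⁻¹, hc⟩), ?_⟩
    apply Subtype.ext
    simp only [Φ]
    group
  have e := Equiv.ofBijective Φ ⟨hinj, hsurj⟩
  rw [← Nat.card_congr e, Nat.card_prod]

theorem map_conj_mul_normalizer {G : Type*} [Group G] (U₀ : Subgroup G) (g : G) {n : G}
    (hn : n ∈ Subgroup.normalizer (U₀ : Set G)) :
    U₀.map (MulAut.conj (g * n)).toMonoidHom = U₀.map (MulAut.conj g).toMonoidHom := by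
  rw [← map_conj_map_conj, map_conj_of_mem_normalizer U₀ hn]

theorem mem_normalizer_of_map_conj_eq {G : Type*} [Group G] (U₀ : Subgroup G) {g g' : G}
    (h : U₀.map (MulAut.conj g).toMonoidHom = U₀.map (MulAut.conj g').toMonoidHom) :
    g'⁻¹ * g ∈ Subgroup.normalizer (U₀ : Set G) := by
  have h1 : U₀.map (MulAut.conj (g'⁻¹ * g)).toMonoidHom = U₀ := by
    rw [← map_conj_map_conj, h, map_conj_map_conj, inv_mul_cancel, map_conj_one]
  rw [Subgroup.mem_normalizer_iff]
  intro u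
  constructor
  · intro hu
    rw [← h1]
    exact conj_mem_map hu _
  · intro hu
    rw [← h1] at hu
    obtain ⟨v, hv, hve⟩ := Subgroup.mem_map.mp hu
    simp only [MulEquiv.coe_toMonoidHom, MulAut.conj_apply] at hve
    have : v = u := by
      have e1 : v = (g'⁻¹ * g)⁻¹ * ((g'⁻¹ * g) * v * (g'⁻¹ * g)⁻¹) * (g'⁻¹ * g) := by group
      rw [e1, hve]; group
    rw [← this]; exact hv

/-- Elements conjugating `x` into `N(U₀)`, counted through the conjugates of `U₀`. -/
theorem card_conj_into_normalizer {G : Type*} [Group G] [Finite G] (x : G) (U₀ : Subgroup G) :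
    Nat.card {g : G // g⁻¹ * x * g ∈ Subgroup.normalizer (U₀ : Set G)} =
      Nat.card {U : Subgroup G // (∃ g : G, U = U₀.map (MulAut.conj g).toMonoidHom) ∧
        x ∈ Subgroup.normalizer (U : Set G)} *
        Nat.card (Subgroup.normalizer (U₀ : Set G)) := by
  classical
  have hch : ∀ U : {U : Subgroup G // (∃ g : G, U = U₀.map (MulAut.conj g).toMonoidHom) ∧
      x ∈ Subgroup.normalizer (U : Set G)}, ∃ g : G, U.1 = U₀.map (MulAut.conj g).toMonoidHom :=
    fun U => U.2.1
  choose gU hgU using hch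
  let Φ : {U : Subgroup G // (∃ g : G, U = U₀.map (MulAut.conj g).toMonoidHom) ∧
      x ∈ Subgroup.normalizer (U : Set G)} × Subgroup.normalizer (U₀ : Set G) →
      {g : G // g⁻¹ * x * g ∈ Subgroup.normalizer (U₀ : Set G)} := fun Un =>
    ⟨gU Un.1 * (Un.2 : G), by
      have h1 : x ∈ Subgroup.normalizer
          ((U₀.map (MulAut.conj (gU Un.1 * (Un.2 : G))).toMonoidHom : Subgroup G) : Set G) := by
        rw [map_conj_mul_normalizer U₀ _ Un.2.2, ← hgU]
        exact Un.1.2.2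
      exact (mem_normalizer_conj_iff U₀ _ x).mp h1⟩
  have hΦ : ∀ Un, U₀.map (MulAut.conj (Φ Un).1).toMonoidHom = Un.1.1 := by
    intro Un
    show U₀.map (MulAut.conj (gU Un.1 * (Un.2 : G))).toMonoidHom = Un.1.1
    rw [map_conj_mul_normalizer U₀ _ Un.2.2, ← hgU]
  have hinj : Function.Injective Φ := by
    rintro ⟨U, n⟩ ⟨U', n'⟩ h
    have h1 := hΦ (U, n)
    have h2 := hΦ (U', n')
    rw [h] at h1
    have hUU : U = U' := Subtype.ext (h1.symm.trans h2)
    subst hUU
    have h3 := congrArg Subtype.val h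
    simp only [Φ] at h3
    have : (n : G) = n' := mul_left_cancel h3
    rw [Subtype.ext this]
  have hsurj : Function.Surjective Φ := by
    rintro ⟨g, hg⟩
    let U : {U : Subgroup G // (∃ g : G, U = U₀.map (MulAut.conj g).toMonoidHom) ∧
        x ∈ Subgroup.normalizer (U : Set G)} :=
      ⟨U₀.map (MulAut.conj g).toMonoidHom, ⟨g, rfl⟩, (mem_normalizer_conj_iff U₀ g x).mpr hg⟩
    have hn : (gU U)⁻¹ * g ∈ Subgroup.normalizer (U₀ : Set G) :=
      mem_normalizer_of_map_conj_eq U₀ (hgU U)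
    refine ⟨(U, ⟨(gU U)⁻¹ * g, hn⟩), ?_⟩
    apply Subtype.ext
    simp only [Φ]
    group
  have e := Equiv.ofBijective Φ ⟨hinj, hsurj⟩
  rw [← Nat.card_congr e, Nat.card_prod]

end Cfsg.Agent.Lib.Helper4.Suz
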