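import Mathlib
import Cfsg.Prelude.Def_LieExceptional
import Cfsg.Agent.Lib.Helper4.Suz44

/-!
# Suzuki groups, part 45: `2`-elements in normalisers of standard cyclic subgroups
-/

set_option autoImplicit false
set_option linter.unusedSimpArgs false
set_option linter.unusedVariables false
set_option linter.style.haveILetI false

namespace Cfsg.Agent.Lib.Helper4.Suz

open MulAction

variable {F : Type*} [Field F] [Fintype F] {m : ℕ}

theorem Uat_pow_four (hF : Fintype.card F = 2 ^ (2 * m + 1)) (hm : 1 ≤ m)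
    {P : Cfsg.suzukiOvoid F m} {y : Cfsg.Sz F m} (hy : y ∈ Uat hF P) : y ^ 4 = 1 := by
  obtain ⟨c, hc⟩ := exists_smul_eq_oInf hF P
  have hc' : c⁻¹ • oInf F m = P := by rw [inv_smul_eq_iff, hc]
  obtain ⟨a, b, hab⟩ := (mem_Uat_iff hF hm hc' y).mp hy
  rw [inv_inv] at hab
  have e : y = c⁻¹ * uZ hF a b * c := by rw [← hab]; group
  have e2 : c⁻¹ * uZ hF a b * c = c⁻¹ * uZ hF a b * c⁻¹⁻¹ := by rw [inv_inv]
  rw [e, e2, conj_pow]
  have := uZ_pow_four hF a b
  norm_num at this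
  rw [this]; group

theorem Uat_odd_eq_one (hF : Fintype.card F = 2 ^ (2 * m + 1)) (hm : 1 ≤ m)
    {P : Cfsg.suzukiOvoid F m} {y : Cfsg.Sz F m} (hy : y ∈ Uat hF P) (hodd : ¬ 2 ∣ orderOf y) :
    y = 1 := by
  apply odd_order_eq_one_of_two_pow (k := 2) _ hodd
  apply orderOf_dvd_of_pow_eq_one
  have := Uat_pow_four hF hm hy
  norm_num
  exact this

theorem InList.odd_card {U : Subgroup (Cfsg.Sz F m)} (hU : InList U) : ¬ 2 ∣ Nat.card U := by
  rcases hU.2 with h | h | h
  · rw [h]; exact q_sub_one_odd m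
  · rw [h]; exact fun h' => odd_NN m (h'.trans (a1_dvd_NN m))
  · simp only [Set.mem_singleton_iff] at h
    rw [h]; exact fun h' => odd_NN m (h'.trans (a2_dvd_NN m))

theorem InList.odd_order {U : Subgroup (Cfsg.Sz F m)} (hU : InList U) {u : Cfsg.Sz F m}
    (hu : u ∈ U) : ¬ 2 ∣ orderOf u :=
  fun h => hU.odd_card (h.trans (Subgroup.orderOf_dvd_natCard U hu))

/-- An element commuting with a nontrivial element of `Uat P` fixes `P`. -/
theorem fix_of_commute_Uat (hF : Fintype.card F = 2 ^ (2 * m + 1)) (hm : 1 ≤ m)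
    {P : Cfsg.suzukiOvoid F m} {x y : Cfsg.Sz F m} (hx : x ∈ Uat hF P) (hx1 : x ≠ 1)
    (hxy : x * y = y * x) : y • P = P := by
  apply eq_of_mem_Uat_of_smul_eq hF hm hx hx1
  rw [← mul_smul, hxy, mul_smul, smul_eq_of_mem_Uat hF hm hx]

/-- Every nontrivial element of `Uat P` has an involution among its powers. -/
theorem exists_involution_power (hF : Fintype.card F = 2 ^ (2 * m + 1)) (hm : 1 ≤ m)
    {P : Cfsg.suzukiOvoid F m} {x : Cfsg.Sz F m} (hx : x ∈ Uat hF P) (hx1 : x ≠ 1) :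
    ∃ s ∈ Uat hF P, s ≠ 1 ∧ s * s = 1 ∧ ∀ u : Cfsg.Sz F m, x * u = u * x → s * u = u * s := by
  by_cases hxx : x * x = 1
  · exact ⟨x, hx, hx1, hxx, fun u h => h⟩
  · refine ⟨x * x, (Uat hF P).mul_mem hx hx, hxx, ?_, ?_⟩
    · have := Uat_pow_four hF hm hx
      rw [← this]
      simp only [pow_succ, pow_zero, one_mul, mul_assoc]
    · intro u hu
      calc x * x * u = x * (x * u) := by group
        _ = x * (u * x) := by rw [hu]
        _ = (x * u) * x := by group
        _ = u * x * x := by rw [hu]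
        _ = u * (x * x) := by group

/-- Elements of a standard cyclic subgroup normalised by a `2`-element `x ∈ Uat P` do not
fix `P`. -/
theorem InList.no_fix (hF : Fintype.card F = 2 ^ (2 * m + 1)) (hm : 1 ≤ m)
    {U : Subgroup (Cfsg.Sz F m)} (hU : InList U) {P : Cfsg.suzukiOvoid F m}
    {x : Cfsg.Sz F m} (hx : x ∈ Uat hF P) (hx1 : x ≠ 1)
    (hxN : x ∈ Subgroup.normalizer (U : Set (Cfsg.Sz F m))) {u : Cfsg.Sz F m} (hu : u ∈ U)
    (huP : u • P = P) : u = 1 := by
  have hw1 : x * u * x⁻¹ * u⁻¹ ∈ U :=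
    U.mul_mem ((Subgroup.mem_normalizer_iff.mp hxN u).mp hu) (U.inv_mem hu)
  have hw2 : x * u * x⁻¹ * u⁻¹ ∈ Uat hF P := by
    have h1 : u * x⁻¹ * u⁻¹ ∈ Uat hF (u • P) := conj_mem_Uat hF hm ((Uat hF P).inv_mem hx) u
    rw [huP] at h1
    have e : x * u * x⁻¹ * u⁻¹ = x * (u * x⁻¹ * u⁻¹) := by group
    rw [e]; exact (Uat hF P).mul_mem hx h1
  have hw : x * u * x⁻¹ * u⁻¹ = 1 := Uat_odd_eq_one hF hm hw2 (hU.odd_order hw1)
  have hcomm : x * u = u * x := by
    have e : x * u = (x * u * x⁻¹ * u⁻¹) * (u * x) := by group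
    rw [e, hw, one_mul]
  obtain ⟨s, hs, hs1, hss, hsc⟩ := exists_involution_power hF hm hx hx1
  have hsu := hsc u hcomm
  have huU := commute_mem_Uat hF hm hs hs1 hss hsu.symm
  exact Uat_odd_eq_one hF hm huU (hU.odd_order hu)

/-- Uniqueness of the standard cyclic subgroup whose normaliser contains `x` and `y`. -/
theorem InList.eq_of_normalizers (hF : Fintype.card F = 2 ^ (2 * m + 1)) (hm : 1 ≤ m)
    {U U' : Subgroup (Cfsg.Sz F m)} (hU : InList U) (hU' : InList U')
    {P : Cfsg.suzukiOvoid F m} {x y : Cfsg.Sz F m} (hx : x ∈ Uat hF P) (hx1 : x ≠ 1)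
    (hyP : y • P ≠ P)
    (hxN : x ∈ Subgroup.normalizer (U : Set (Cfsg.Sz F m)))
    (hyN : y ∈ Subgroup.normalizer (U : Set (Cfsg.Sz F m)))
    (hxN' : x ∈ Subgroup.normalizer (U' : Set (Cfsg.Sz F m)))
    (hyN' : y ∈ Subgroup.normalizer (U' : Set (Cfsg.Sz F m))) : U = U' := by
  have h1 := hU.commutator_mem hF hm hxN hyN
  have h2 := hU'.commutator_mem hF hm hxN' hyN'
  apply hU.eq_of_common hF hm hU' _ h1 h2
  intro hw
  apply hyP
  apply fix_of_commute_Uat hF hm hx hx1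
  have e : x * y = (x * y * x⁻¹ * y⁻¹) * (y * x) := by group
  rw [e, hw, one_mul]

theorem comm_of_card_two_or_four {Q : Type*} [Group Q] {k : ℕ} (hk : k = 2 ∨ k = 4)
    (hQ : Nat.card Q = k) (a b : Q) : a * b = b * a := by
  haveI : Fact (Nat.Prime 2) := ⟨Nat.prime_two⟩
  rcases hk with rfl | rfl
  · haveI := isCyclic_of_prime_card (p := 2) hQ
    letI := IsCyclic.commGroup (α := Q)
    exact mul_comm a b
  · exact IsPGroup.commutative_of_card_eq_prime_sq (p := 2) (by rw [hQ]; norm_num) a b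

theorem factorization_two_mul_odd {k c : ℕ} (hk : k = 2 ∨ k = 4) (hc : ¬ 2 ∣ c) :
    2 ^ (k * c).factorization 2 = k := by
  have hc0 : c ≠ 0 := by rintro rfl; exact hc (dvd_zero 2)
  have h0 : c.factorization 2 = 0 := Nat.factorization_eq_zero_of_not_dvd hc
  rcases hk with rfl | rfl
  · rw [Nat.factorization_mul (by norm_num) hc0]
    simp only [Finsupp.coe_add, Pi.add_apply, h0, add_zero]
    rw [Nat.Prime.factorization_self Nat.prime_two, pow_one]
  · rw [Nat.factorization_mul (by norm_num) hc0]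
    simp only [Finsupp.coe_add, Pi.add_apply, h0, add_zero]
    have : (4 : ℕ) = 2 ^ 2 := by norm_num
    rw [this, Nat.Prime.factorization_pow Nat.prime_two]
    simp

/-- The part of `N(U)` fixing the fixed point of a `2`-element `x ∈ N(U)` has order `k`. -/
theorem InList.card_inf_stabilizer (hF : Fintype.card F = 2 ^ (2 * m + 1)) (hm : 1 ≤ m)
    {U : Subgroup (Cfsg.Sz F m)} (hU : InList U) {k : ℕ} (hk : k = 2 ∨ k = 4)
    (hN : Nat.card (Subgroup.normalizer (U : Set (Cfsg.Sz F m))) = k * Nat.card U)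
    {P : Cfsg.suzukiOvoid F m} {x : Cfsg.Sz F m} (hx : x ∈ Uat hF P) (hx1 : x ≠ 1)
    (hxN : x ∈ Subgroup.normalizer (U : Set (Cfsg.Sz F m))) :
    Nat.card ↥(Subgroup.normalizer (U : Set (Cfsg.Sz F m)) ⊓ stabilizer (Cfsg.Sz F m) P) = k := by
  haveI : Fact (Nat.Prime 2) := ⟨Nat.prime_two⟩
  set N := Subgroup.normalizer (U : Set (Cfsg.Sz F m)) with hNdef
  set D := N ⊓ stabilizer (Cfsg.Sz F m) P with hDdef
  have hUpos : 0 < Nat.card U := Nat.card_pos
  apply le_antisymm
  · -- `D × U` embeds in `N`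
    let f : D × U → N := fun du => ⟨(du.1 : Cfsg.Sz F m) * (du.2 : Cfsg.Sz F m),
      N.mul_mem du.1.2.1 (Subgroup.le_normalizer du.2.2)⟩
    have hf : Function.Injective f := by
      rintro ⟨d, u⟩ ⟨d', u'⟩ h
      have h1 : (d : Cfsg.Sz F m) * u = (d' : Cfsg.Sz F m) * u' := congrArg Subtype.val h
      have h2 : (d' : Cfsg.Sz F m)⁻¹ * d = (u' : Cfsg.Sz F m) * (u : Cfsg.Sz F m)⁻¹ := by
        have : (d' : Cfsg.Sz F m)⁻¹ * d = (d' : Cfsg.Sz F m)⁻¹ * ((d : Cfsg.Sz F m) * u) * (u : Cfsg.Sz F m)⁻¹ := by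
          group
        rw [this, h1]; group
      have h3 : (u' : Cfsg.Sz F m) * (u : Cfsg.Sz F m)⁻¹ ∈ U := U.mul_mem u'.2 (U.inv_mem u.2)
      have h4 : ((u' : Cfsg.Sz F m) * (u : Cfsg.Sz F m)⁻¹) • P = P := by
        rw [← h2, mul_smul, inv_smul_eq_iff]
        rw [show (d : Cfsg.Sz F m) • P = P from d.2.2, show (d' : Cfsg.Sz F m) • P = P from d'.2.2]
      have h5 := hU.no_fix hF hm hx hx1 hxN h3 h4
      have huu : (u' : Cfsg.Sz F m) = u := by
        have : (u' : Cfsg.Sz F m) = ((u' : Cfsg.Sz F m) * (u : Cfsg.Sz F m)⁻¹) * u := by group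
        rw [this, h5, one_mul]
      have hdd : (d : Cfsg.Sz F m) = d' := by
        rw [huu] at h1
        exact mul_right_cancel h1
      exact Prod.ext (Subtype.ext hdd) (Subtype.ext huu.symm)
    have h1 := Nat.card_le_card_of_injective f hf
    rw [Nat.card_prod, hN] at h1
    exact Nat.le_of_mul_le_mul_right h1 hUpos
  · -- a Sylow `2`-subgroup of `N` through `x` lies in `D`
    let x' : N := ⟨x, hxN⟩
    have hx'4 : x' ^ 4 = 1 := by
      apply Subtype.ext
      simp only [x', Subgroup.coe_pow, Subgroup.coe_one]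
      exact Uat_pow_four hF hm hx
    have hZ2 : IsPGroup 2 (Subgroup.zpowers x') := by
      rintro ⟨g, hg⟩
      refine ⟨2, ?_⟩
      obtain ⟨j, rfl⟩ := Subgroup.mem_zpowers_iff.mp hg
      apply Subtype.ext
      simp only [Subgroup.coe_pow, Subgroup.coe_one]
      rw [← zpow_natCast, ← zpow_mul, mul_comm, zpow_mul, zpow_natCast]
      norm_num
      rw [hx'4, one_zpow]
    obtain ⟨Q, hQ⟩ := hZ2.exists_le_sylow
    have hQcard : Nat.card (Q : Subgroup N) = k := by
      rw [Sylow.card_eq_multiplicity, hN]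
      exact factorization_two_mul_odd hk hU.odd_card
    have hx'Q : x' ∈ (Q : Subgroup N) := hQ (Subgroup.mem_zpowers x')
    let f : ↥(Q : Subgroup N) → D := fun q => ⟨((q : N) : Cfsg.Sz F m), by
      refine ⟨(q : N).2, ?_⟩
      show ((q : N) : Cfsg.Sz F m) • P = P
      apply fix_of_commute_Uat hF hm hx hx1
      have := comm_of_card_two_or_four hk hQcard ⟨x', hx'Q⟩ q
      have h' := congrArg (fun t : (Q : Subgroup N) => ((t : N) : Cfsg.Sz F m)) this
      exact h'⟩
    have hf : Function.Injective f := by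
      intro q q' h
      have : ((q : N) : Cfsg.Sz F m) = ((q' : N) : Cfsg.Sz F m) :=
        congrArg (fun d : D => (d : Cfsg.Sz F m)) h
      exact Subtype.ext (Subtype.ext this)
    have := Nat.card_le_card_of_injective f hf
    rw [hQcard] at this
    exact this

theorem involution_of_orderOf {G : Type*} [Group G] {s : G} (h : orderOf s = 2) :
    s ≠ 1 ∧ s * s = 1 := by
  constructor
  · intro h1
    rw [h1, orderOf_one] at h
    omega
  · have := pow_orderOf_eq_one s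
    rw [h, sq] at this
    exact this

theorem orderOf_of_involution {G : Type*} [Group G] {s : G} (h1 : s ≠ 1) (hss : s * s = 1) :
    orderOf s = 2 := by
  apply orderOf_eq_prime
  · rw [sq]; exact hss
  · exact h1

/-- Involutions normalising a standard cyclic subgroup invert it. -/
theorem InList.involution_inverts (hF : Fintype.card F = 2 ^ (2 * m + 1)) (hm : 1 ≤ m)
    {U : Subgroup (Cfsg.Sz F m)} (hU : InList U) {s : Cfsg.Sz F m}
    (hs : s ∈ Subgroup.normalizer (U : Set (Cfsg.Sz F m))) (hs1 : s ≠ 1) (hss : s * s = 1)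
    {u : Cfsg.Sz F m} (hu : u ∈ U) : s * u * s⁻¹ = u⁻¹ := by
  obtain ⟨P, hsP⟩ := exists_mem_Uat_of_involution hF hm hs1 hss
  have hsinv : s⁻¹ = s := inv_eq_of_mul_eq_one_left hss
  have hsu : s * u * s⁻¹ ∈ U := (Subgroup.mem_normalizer_iff.mp hs u).mp hu
  have hv : u * (s * u * s⁻¹) ∈ U := U.mul_mem hu hsu
  haveI := hU.1
  letI := IsCyclic.commGroup (α := U)
  have hcomm : u * (s * u * s⁻¹) = (s * u * s⁻¹) * u := by
    have := mul_comm (⟨u, hu⟩ : U) ⟨s * u * s⁻¹, hsu⟩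
    exact congrArg Subtype.val this
  have hsv : (u * (s * u * s⁻¹)) * s = s * (u * (s * u * s⁻¹)) := by
    have e1 : (u * (s * u * s⁻¹)) * s = u * s * u := by group
    have e2 : s * (u * (s * u * s⁻¹)) = s * ((s * u * s⁻¹) * u) := by rw [hcomm]
    have e3 : s * ((s * u * s⁻¹) * u) = (s * s) * u * s⁻¹ * u := by group
    rw [e1, e2, e3, hss, one_mul, hsinv]
  have hvP := commute_mem_Uat hF hm hsP hs1 hss hsv
  have hv1 := Uat_odd_eq_one hF hm hvP (hU.odd_order hv)
  exact (eq_inv_of_mul_eq_one_right hv1)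

/-- The involutions of `N(U)` form a coset of `U`. -/
theorem InList.card_involutions (hF : Fintype.card F = 2 ^ (2 * m + 1)) (hm : 1 ≤ m)
    {U : Subgroup (Cfsg.Sz F m)} (hU : InList U)
    (h2 : 2 ∣ Nat.card (Subgroup.normalizer (U : Set (Cfsg.Sz F m)))) :
    Nat.card {t : Cfsg.Sz F m // t ∈ Subgroup.normalizer (U : Set (Cfsg.Sz F m)) ∧
      orderOf t = 2} = Nat.card U := by
  haveI : Fact (Nat.Prime 2) := ⟨Nat.prime_two⟩
  obtain ⟨s₀', hs₀'⟩ := exists_prime_orderOf_dvd_card' 2 h2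
  obtain ⟨s₀, hs₀N⟩ := s₀'
  have hs₀o : orderOf s₀ = 2 := by
    rw [← hs₀']
    exact (Subgroup.orderOf_coe (⟨s₀, hs₀N⟩ : Subgroup.normalizer (U : Set (Cfsg.Sz F m))))
  obtain ⟨hs₀1, hs₀s⟩ := involution_of_orderOf hs₀o
  have hs₀inv : s₀⁻¹ = s₀ := inv_eq_of_mul_eq_one_left hs₀s
  symm
  apply Nat.card_congr
  refine Equiv.ofBijective (fun u : U => ⟨s₀ * (u : Cfsg.Sz F m), ?_, ?_⟩) ⟨?_, ?_⟩
  · exact Subgroup.mul_mem _ hs₀N (Subgroup.le_normalizer u.2)
  · apply orderOf_of_involution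
    · intro h
      have : s₀ = (u : Cfsg.Sz F m)⁻¹ := eq_inv_of_mul_eq_one_left h
      have hodd := hU.odd_order (U.inv_mem u.2)
      rw [← this, hs₀o] at hodd
      exact hodd (dvd_refl 2)
    · have hinv := hU.involution_inverts hF hm hs₀N hs₀1 hs₀s u.2
      rw [hs₀inv] at hinv
      calc s₀ * (u : Cfsg.Sz F m) * (s₀ * u) = (s₀ * u * s₀) * u := by group
        _ = 1 := by rw [hinv, inv_mul_cancel]
  · intro u u' h
    have : s₀ * (u : Cfsg.Sz F m) = s₀ * (u' : Cfsg.Sz F m) := congrArg Subtype.val h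
    exact Subtype.ext (mul_left_cancel this)
  · rintro ⟨t, htN, hto⟩
    obtain ⟨ht1, hts⟩ := involution_of_orderOf hto
    have htinv : t⁻¹ = t := inv_eq_of_mul_eq_one_left hts
    have hmem : s₀⁻¹ * t ∈ U := by
      apply hU.centralizer_le hF hm
      rw [Subgroup.mem_centralizer_iff]
      intro u hu
      have h1 := hU.involution_inverts hF hm htN ht1 hts hu
      have h2' := hU.involution_inverts hF hm hs₀N hs₀1 hs₀s (U.inv_mem hu)
      rw [inv_inv] at h2'
      rw [htinv] at h1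
      rw [hs₀inv] at h2' ⊢
      -- `s₀ t u = s₀ u⁻¹ t = u s₀ t`
      have e1 : t * u = u⁻¹ * t := by
        have : t * u = (t * u * t) * t := by
          rw [mul_assoc (t * u), hts, mul_one]
        rw [this, h1]
      have e2 : s₀ * u⁻¹ = u * s₀ := by
        have : s₀ * u⁻¹ = (s₀ * u⁻¹ * s₀) * s₀ := by
          rw [mul_assoc (s₀ * u⁻¹), hs₀s, mul_one]
        rw [this, h2']
      calc u * (s₀ * t) = (u * s₀) * t := by group
        _ = (s₀ * u⁻¹) * t := by rw [e2]
        _ = s₀ * (u⁻¹ * t) := by group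
        _ = s₀ * (t * u) := by rw [e1]
        _ = s₀ * t * u := by group
    refine ⟨⟨s₀⁻¹ * t, hmem⟩, ?_⟩
    apply Subtype.ext
    simp only
    group

end Cfsg.Agent.Lib.Helper4.Suz
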