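import Mathlib
import Cfsg.Prelude.Def_LieExceptional
import Cfsg.Agent.Lib.Helper4.Suz45

/-!
# Suzuki groups, part 46: solubilizers of involutions
-/

set_option autoImplicit false
set_option linter.unusedSimpArgs false
set_option linter.unusedVariables false
set_option linter.style.haveILetI false

namespace Cfsg.Agent.Lib.Helper4.Suz

open MulAction

variable {F : Type*} [Field F] [Fintype F] {m : ℕ}

/-- All involutions are conjugate. -/
theorem involutions_conj (hF : Fintype.card F = 2 ^ (2 * m + 1)) (hm : 1 ≤ m)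
    {x t : Cfsg.Sz F m} (hx : orderOf x = 2) (ht : orderOf t = 2) :
    ∃ g : Cfsg.Sz F m, g⁻¹ * x * g = t := by
  obtain ⟨c₁, b₁, hb₁, rfl⟩ := involution_conj hF hm x hx
  obtain ⟨c₂, b₂, hb₂, rfl⟩ := involution_conj hF hm t ht
  obtain ⟨z, hz⟩ := exists_multiplier hF (Units.mk0 (b₂ / b₁) (div_ne_zero hb₂ hb₁))
  rw [Units.val_mk0] at hz
  have h1 : hZ hF z * uZ hF 0 b₁ * (hZ hF z)⁻¹ = uZ hF 0 b₂ := by
    rw [hZ_uZ_hZ, mul_zero, hz, div_mul_cancel₀ _ hb₁]
  refine ⟨(c₂ * hZ hF z * c₁⁻¹)⁻¹, ?_⟩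
  rw [← h1]
  group

/-- The centraliser of an involution has order `q²`. -/
theorem card_centralizer_involution (hF : Fintype.card F = 2 ^ (2 * m + 1)) (hm : 1 ≤ m)
    {x : Cfsg.Sz F m} (hx : orderOf x = 2) :
    Nat.card (Subgroup.centralizer ({x} : Set (Cfsg.Sz F m))) = (2 ^ (2 * m + 1)) ^ 2 := by
  obtain ⟨hx1, hxx⟩ := involution_of_orderOf hx
  obtain ⟨P, hxP⟩ := exists_mem_Uat_of_involution hF hm hx1 hxx
  have heq : Subgroup.centralizer ({x} : Set (Cfsg.Sz F m)) = Uat hF P := by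
    ext g
    rw [mem_centralizer_singleton]
    constructor
    · intro h
      exact commute_mem_Uat hF hm hxP hx1 hxx h.symm
    · intro h
      have := involution_central_Uat hF hm hxP hxx h
      have e : x * g = g * (g⁻¹ * x * g) := by group
      rw [e, this]
  rw [heq]
  obtain ⟨c, hc⟩ := exists_smul_eq_oInf hF P
  have hc' : c⁻¹ • oInf F m = P := by rw [inv_smul_eq_iff, hc]
  rw [← hc', Uat_eq_map hF hm, card_map_conj, card_USub hF]

/-- Standard cyclic subgroups of the same order are conjugate. -/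
theorem InList.conj_of_card_eq (hF : Fintype.card F = 2 ^ (2 * m + 1)) (hm : 1 ≤ m)
    {U U' : Subgroup (Cfsg.Sz F m)} (hU : InList U) (hU' : InList U')
    (hcard : Nat.card U' = Nat.card U) :
    ∃ g : Cfsg.Sz F m, U' = U.map (MulAut.conj g).toMonoidHom := by
  have h5 := hU.five_le hm
  rcases hU.cases hF hm with hA | ⟨c, rfl⟩
  · rcases hU'.cases hF hm with hA' | ⟨c', rfl⟩
    · rcases hA.coprime_or_eq hF hm hA' with h | h
      · exfalso
        rw [hcard, Nat.coprime_self] at h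
        omega
      · exact h
    · exfalso
      rw [card_map_conj, card_Tor] at hcard
      have := coprime_sub_one_of_dvd_NN m (hA.card_dvd hF hm)
      rw [hcard, Nat.coprime_self] at this
      omega
  · rcases hU'.cases hF hm with hA' | ⟨c', rfl⟩
    · exfalso
      rw [card_map_conj, card_Tor] at hcard
      have := coprime_sub_one_of_dvd_NN m (hA'.card_dvd hF hm)
      rw [← hcard, Nat.coprime_self] at this
      rw [card_map_conj, card_Tor, ← hcard] at h5
      omega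
    · refine ⟨c' * c⁻¹, ?_⟩
      rw [map_conj_map_conj, inv_mul_cancel_right]

/-- For an involution `x`, the number of standard cyclic subgroups of a given order whose
normaliser contains `x`. -/
theorem card_inList_normalizing_involution (hF : Fintype.card F = 2 ^ (2 * m + 1)) (hm : 1 ≤ m)
    {U₀ : Subgroup (Cfsg.Sz F m)} (hU₀ : InList U₀) {k : ℕ} (hk : k = 2 ∨ k = 4)
    (hN : Nat.card (Subgroup.normalizer (U₀ : Set (Cfsg.Sz F m))) = k * Nat.card U₀)
    {x : Cfsg.Sz F m} (hx : orderOf x = 2) :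
    Nat.card {U : Subgroup (Cfsg.Sz F m) // InList U ∧ Nat.card U = Nat.card U₀ ∧
      x ∈ Subgroup.normalizer (U : Set (Cfsg.Sz F m))} * k = (2 ^ (2 * m + 1)) ^ 2 := by
  have h1 := card_conj_into x (Subgroup.normalizer (U₀ : Set (Cfsg.Sz F m)))
  have h2 := card_conj_into_normalizer x U₀
  rw [h1, card_centralizer_involution hF hm hx, hN] at h2
  have h2k : 2 ∣ Nat.card (Subgroup.normalizer (U₀ : Set (Cfsg.Sz F m))) := by
    rw [hN]
    rcases hk with rfl | rfl
    · exact Dvd.intro _ rfl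
    · exact Dvd.dvd.mul_right (by norm_num) _
  have e1 : Nat.card {t : Cfsg.Sz F m // t ∈ Subgroup.normalizer (U₀ : Set (Cfsg.Sz F m)) ∧
      ∃ g : Cfsg.Sz F m, g⁻¹ * x * g = t} = Nat.card U₀ := by
    rw [← hU₀.card_involutions hF hm h2k]
    apply Nat.card_congr
    apply Equiv.subtypeEquivRight
    intro t
    constructor
    · rintro ⟨htN, g, rfl⟩
      exact ⟨htN, by rw [orderOf_conj'', hx]⟩
    · rintro ⟨htN, hto⟩
      exact ⟨htN, involutions_conj hF hm hx hto⟩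
  have e2 : Nat.card {U : Subgroup (Cfsg.Sz F m) //
      (∃ g : Cfsg.Sz F m, U = U₀.map (MulAut.conj g).toMonoidHom) ∧
        x ∈ Subgroup.normalizer (U : Set (Cfsg.Sz F m))} =
      Nat.card {U : Subgroup (Cfsg.Sz F m) // InList U ∧ Nat.card U = Nat.card U₀ ∧
        x ∈ Subgroup.normalizer (U : Set (Cfsg.Sz F m))} := by
    apply Nat.card_congr
    apply Equiv.subtypeEquivRight
    intro U
    constructor
    · rintro ⟨⟨g, rfl⟩, hxU⟩
      exact ⟨hU₀.conj g, card_map_conj U₀ g, hxU⟩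
    · rintro ⟨hU, hcard, hxU⟩
      exact ⟨hU₀.conj_of_card_eq hF hm hU hcard, hxU⟩
  rw [e1, e2] at h2
  have hpos : 0 < Nat.card U₀ := Nat.card_pos
  have h3 : Nat.card U₀ * (Nat.card {U : Subgroup (Cfsg.Sz F m) // InList U ∧
      Nat.card U = Nat.card U₀ ∧ x ∈ Subgroup.normalizer (U : Set (Cfsg.Sz F m))} * k) =
      Nat.card U₀ * (2 ^ (2 * m + 1)) ^ 2 := by
    rw [h2]; ring
  exact Nat.eq_of_mul_eq_mul_left hpos h3

/-- Elements moving `P` that, together with the `2`-element `x`, normalise a standard cyclic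
subgroup of order `c`. -/
theorem card_W (hF : Fintype.card F = 2 ^ (2 * m + 1)) (hm : 1 ≤ m)
    {P : Cfsg.suzukiOvoid F m} {x : Cfsg.Sz F m} (hx : x ∈ Uat hF P) (hx1 : x ≠ 1) {c k : ℕ}
    (hk : k = 2 ∨ k = 4)
    (hall : ∀ U : Subgroup (Cfsg.Sz F m), InList U → Nat.card U = c →
      Nat.card (Subgroup.normalizer (U : Set (Cfsg.Sz F m))) = k * c) :
    Nat.card {y : Cfsg.Sz F m // y • P ≠ P ∧ ∃ U : Subgroup (Cfsg.Sz F m), InList U ∧
      Nat.card U = c ∧ x ∈ Subgroup.normalizer (U : Set (Cfsg.Sz F m)) ∧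
      y ∈ Subgroup.normalizer (U : Set (Cfsg.Sz F m))} =
    Nat.card {U : Subgroup (Cfsg.Sz F m) // InList U ∧ Nat.card U = c ∧
      x ∈ Subgroup.normalizer (U : Set (Cfsg.Sz F m))} * (k * c - k) := by
  classical
  let I := {U : Subgroup (Cfsg.Sz F m) // InList U ∧ Nat.card U = c ∧
      x ∈ Subgroup.normalizer (U : Set (Cfsg.Sz F m))}
  letI : Fintype I := Fintype.ofFinite I
  let β : I → Type _ := fun U => {y : Cfsg.Sz F m //
    y ∈ Subgroup.normalizer (U.1 : Set (Cfsg.Sz F m)) ∧ y • P ≠ P}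
  have hβ : ∀ U : I, Nat.card (β U) = k * c - k := by
    intro U
    have hNU : Nat.card (Subgroup.normalizer (U.1 : Set (Cfsg.Sz F m))) = k * Nat.card U.1 := by
      rw [hall U.1 U.2.1 U.2.2.1, U.2.2.1]
    have hD := U.2.1.card_inf_stabilizer hF hm hk hNU hx hx1 U.2.2.2
    have e : β U ≃ ↥(((Subgroup.normalizer (U.1 : Set (Cfsg.Sz F m)) : Subgroup (Cfsg.Sz F m)) :
        Set (Cfsg.Sz F m)) \ ((Subgroup.normalizer (U.1 : Set (Cfsg.Sz F m)) ⊓
          stabilizer (Cfsg.Sz F m) P : Subgroup (Cfsg.Sz F m)) : Set (Cfsg.Sz F m))) := by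
      apply Equiv.subtypeEquivRight
      intro y
      constructor
      · rintro ⟨h1, h2⟩
        exact ⟨h1, fun h => h2 h.2⟩
      · rintro ⟨h1, h2⟩
        exact ⟨h1, fun h => h2 ⟨h1, h⟩⟩
    rw [Nat.card_congr e, Nat.card_coe_set_eq, Set.ncard_diff (by
      intro y hy; exact hy.1) (Set.toFinite _), ← Nat.card_coe_set_eq, ← Nat.card_coe_set_eq]
    show Nat.card ↥(Subgroup.normalizer (U.1 : Set (Cfsg.Sz F m))) -
      Nat.card ↥(Subgroup.normalizer (U.1 : Set (Cfsg.Sz F m)) ⊓ stabilizer (Cfsg.Sz F m) P) = _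
    rw [hD, hall U.1 U.2.1 U.2.2.1]
  let Φ : Sigma β → {y : Cfsg.Sz F m // y • P ≠ P ∧ ∃ U : Subgroup (Cfsg.Sz F m), InList U ∧
      Nat.card U = c ∧ x ∈ Subgroup.normalizer (U : Set (Cfsg.Sz F m)) ∧
      y ∈ Subgroup.normalizer (U : Set (Cfsg.Sz F m))} := fun Uy =>
    ⟨Uy.2.1, Uy.2.2.2, Uy.1.1, Uy.1.2.1, Uy.1.2.2.1, Uy.1.2.2.2, Uy.2.2.1⟩
  have hinj : Function.Injective Φ := by
    rintro ⟨U, y⟩ ⟨U', y'⟩ h
    have hy : y.1 = y'.1 := congrArg Subtype.val h
    have hUU : U.1 = U'.1 := by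
      apply U.2.1.eq_of_normalizers hF hm U'.2.1 hx hx1 y.2.2 U.2.2.2 y.2.1 U'.2.2.2
      rw [hy]; exact y'.2.1
    have hUU' : U = U' := Subtype.ext hUU
    subst hUU'
    have : y = y' := Subtype.ext hy
    rw [this]
  have hsurj : Function.Surjective Φ := by
    rintro ⟨y, hyP, U, hU, hc, hxU, hyU⟩
    exact ⟨⟨⟨U, hU, hc, hxU⟩, ⟨y, hyU, hyP⟩⟩, rfl⟩
  rw [← Nat.card_congr (Equiv.ofBijective Φ ⟨hinj, hsurj⟩), Nat.card_sigma]
  simp only [hβ]
  rw [Finset.sum_const, Finset.card_univ, smul_eq_mul, Nat.card_eq_fintype_card]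

end Cfsg.Agent.Lib.Helper4.Suz
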