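import Mathlib
import Cfsg.Prelude.Def_LieExceptional
import Cfsg.Agent.Lib.Helper4.Suz46

/-!
# Suzuki groups, part 47: the solubilizer of a `2`-element
-/

set_option autoImplicit false
set_option linter.unusedSimpArgs false
set_option linter.unusedVariables false
set_option linter.style.haveILetI false

namespace Cfsg.Agent.Lib.Helper4.Suz

open MulAction

variable {F : Type*} [Field F] [Fintype F] {m : ℕ}

theorem card_normalizer_Tor (hF : Fintype.card F = 2 ^ (2 * m + 1)) (hm : 1 ≤ m) :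
    Nat.card (Subgroup.normalizer (Tor hF : Set (Cfsg.Sz F m))) = 2 * (2 ^ (2 * m + 1) - 1) := by
  have hset : ((Subgroup.normalizer (Tor hF : Set (Cfsg.Sz F m)) : Subgroup (Cfsg.Sz F m)) :
      Set (Cfsg.Sz F m)) = (Tor hF : Set (Cfsg.Sz F m)) ∪ {n | wZ hF * n ∈ Tor hF} := by
    ext n
    constructor
    · intro hn
      rcases normalizer_Tor_cases hF hm hn with h | h
      · left; exact h
      · right; exact h
    · rintro (h | h)
      · exact Subgroup.le_normalizer h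
      · exact mem_normalizer_Tor_of_wZ_mul hF h
  have hC : ({n | wZ hF * n ∈ Tor hF} : Set (Cfsg.Sz F m)).ncard = 2 ^ (2 * m + 1) - 1 := by
    have : ({n | wZ hF * n ∈ Tor hF} : Set (Cfsg.Sz F m)) =
        (fun g => wZ hF * g) '' (Tor hF : Set (Cfsg.Sz F m)) := by
      ext n
      constructor
      · intro h
        refine ⟨wZ hF * n, h, ?_⟩
        simp only
        rw [← mul_assoc, wZ_mul_wZ, one_mul]
      · rintro ⟨t, ht, rfl⟩
        show wZ hF * (wZ hF * t) ∈ Tor hF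
        rw [← mul_assoc, wZ_mul_wZ, one_mul]; exact ht
    rw [this, Set.ncard_image_of_injective _ (mul_right_injective _), ← Nat.card_coe_set_eq]
    exact card_Tor hF
  have hdisj : Disjoint (Tor hF : Set (Cfsg.Sz F m)) {n | wZ hF * n ∈ Tor hF} := by
    rw [Set.disjoint_left]
    intro n h1 h2
    apply wZ_not_mem_Tor hF (m := m) (F := F)
    have := (Tor hF).mul_mem h2 ((Tor hF).inv_mem h1)
    rwa [mul_inv_cancel_right] at this
  rw [← Nat.card_coe_set_eq] at hC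
  have h1 : Nat.card ↥(Subgroup.normalizer (Tor hF : Set (Cfsg.Sz F m))) =
      (((Subgroup.normalizer (Tor hF : Set (Cfsg.Sz F m)) : Subgroup (Cfsg.Sz F m)) :
      Set (Cfsg.Sz F m))).ncard := (Nat.card_coe_set_eq _)
  rw [h1, hset, Set.ncard_union_eq hdisj (Set.toFinite _) (Set.toFinite _),
    ← Nat.card_coe_set_eq, ← Nat.card_coe_set_eq, hC]
  have : Nat.card ↥(Tor hF : Set (Cfsg.Sz F m)) = 2 ^ (2 * m + 1) - 1 := card_Tor hF
  rw [this]; ring

/-- The normaliser of a standard cyclic subgroup has order `2|U|` or `4|U|`. -/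
theorem InList.card_normalizer (hF : Fintype.card F = 2 ^ (2 * m + 1)) (hm : 1 ≤ m)
    {U : Subgroup (Cfsg.Sz F m)} (hU : InList U) :
    (Nat.card U = 2 ^ (2 * m + 1) - 1 →
      Nat.card (Subgroup.normalizer (U : Set (Cfsg.Sz F m))) = 2 * (2 ^ (2 * m + 1) - 1)) ∧
    (Nat.card U ≠ 2 ^ (2 * m + 1) - 1 →
      Nat.card (Subgroup.normalizer (U : Set (Cfsg.Sz F m))) = 4 * Nat.card U) := by
  have h5 := hU.five_le hm
  rcases hU.cases hF hm with hA | ⟨c, rfl⟩
  · constructor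
    · intro h
      exfalso
      have := coprime_sub_one_of_dvd_NN m (hA.card_dvd hF hm)
      rw [← h, Nat.coprime_self] at this
      omega
    · intro _
      exact hA.card_normalizer hF hm
  · constructor
    · intro _
      rw [card_normalizer_map_conj, card_normalizer_Tor hF hm]
    · intro h
      exfalso
      apply h
      rw [card_map_conj, card_Tor]

/-- The number of standard cyclic subgroups of order `c` whose normaliser contains `x`. -/
noncomputable def nU (x : Cfsg.Sz F m) (c : ℕ) : ℕ :=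
  Nat.card {U : Subgroup (Cfsg.Sz F m) // InList U ∧ Nat.card U = c ∧
    x ∈ Subgroup.normalizer (U : Set (Cfsg.Sz F m))}

/-- The solubilizer of a nontrivial `2`-element, in terms of the numbers `nU`. -/
theorem card_sol_two_element (hF : Fintype.card F = 2 ^ (2 * m + 1)) (hm : 1 ≤ m)
    (hp : (2 * m + 1).Prime) {P : Cfsg.suzukiOvoid F m} {x : Cfsg.Sz F m}
    (hx : x ∈ Uat hF P) (hx1 : x ≠ 1) :
    Nat.card {y : Cfsg.Sz F m //
      Group.IsSolvable (Subgroup.closure ({x, y} : Set (Cfsg.Sz F m)))} =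
      (2 ^ (2 * m + 1)) ^ 2 * (2 ^ (2 * m + 1) - 1) +
      nU x (2 ^ (2 * m + 1) - 1) * (2 * (2 ^ (2 * m + 1) - 1) - 2) +
      nU x (2 ^ (2 * m + 1) + 2 ^ (m + 1) + 1) * (4 * (2 ^ (2 * m + 1) + 2 ^ (m + 1) + 1) - 4) +
      nU x (2 ^ (2 * m + 1) - 2 ^ (m + 1) + 1) * (4 * (2 ^ (2 * m + 1) - 2 ^ (m + 1) + 1) - 4) := by
  have hq := q_ge m hm
  have hle := r_le_q m
  have hr4 : 4 ≤ 2 ^ (m + 1) := by
    calc 4 = 2 ^ 2 := by norm_num
      _ ≤ 2 ^ (m + 1) := Nat.pow_le_pow_right (by norm_num) (by omega)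
  let W : ℕ → Set (Cfsg.Sz F m) := fun c => {y | y • P ≠ P ∧ ∃ U : Subgroup (Cfsg.Sz F m),
    InList U ∧ Nat.card U = c ∧ x ∈ Subgroup.normalizer (U : Set (Cfsg.Sz F m)) ∧
    y ∈ Subgroup.normalizer (U : Set (Cfsg.Sz F m))}
  let S₀ : Set (Cfsg.Sz F m) := (stabilizer (Cfsg.Sz F m) P : Set (Cfsg.Sz F m))
  have hset : ∀ y : Cfsg.Sz F m,
      Group.IsSolvable (Subgroup.closure ({x, y} : Set (Cfsg.Sz F m))) ↔
        y ∈ ((S₀ ∪ W (2 ^ (2 * m + 1) - 1)) ∪ W (2 ^ (2 * m + 1) + 2 ^ (m + 1) + 1)) ∪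
          W (2 ^ (2 * m + 1) - 2 ^ (m + 1) + 1) := by
    intro y
    rw [isSolvable_closure_iff hF hm hp]
    constructor
    · rintro (⟨P', hxP', hyP'⟩ | ⟨U, hU, hxU, hyU⟩)
      · have := eq_of_mem_Uat_of_smul_eq hF hm hx hx1 hxP'
        subst this
        left; left; left; exact hyP'
      · by_cases hyP : y • P = P
        · left; left; left; exact hyP
        · rcases hU.2 with h | h | h
          · left; left; right; exact ⟨hyP, U, hU, h, hxU, hyU⟩
          · left; right; exact ⟨hyP, U, hU, h, hxU, hyU⟩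
          · right; exact ⟨hyP, U, hU, h, hxU, hyU⟩
    · rintro (((h | h) | h) | h)
      · left; exact ⟨P, smul_eq_of_mem_Uat hF hm hx, h⟩
      · obtain ⟨-, U, hU, -, hxU, hyU⟩ := h
        right; exact ⟨U, hU, hxU, hyU⟩
      · obtain ⟨-, U, hU, -, hxU, hyU⟩ := h
        right; exact ⟨U, hU, hxU, hyU⟩
      · obtain ⟨-, U, hU, -, hxU, hyU⟩ := h
        right; exact ⟨U, hU, hxU, hyU⟩
  have hWdisj : ∀ c c' : ℕ, c ≠ c' → Disjoint (W c) (W c') := by
    intro c c' hcc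
    rw [Set.disjoint_left]
    rintro y ⟨hyP, U, hU, hc, hxU, hyU⟩ ⟨-, U', hU', hc', hxU', hyU'⟩
    apply hcc
    have := hU.eq_of_normalizers hF hm hU' hx hx1 hyP hxU hyU hxU' hyU'
    rw [← hc, ← hc', this]
  have hS₀disj : ∀ c : ℕ, Disjoint S₀ (W c) := by
    intro c
    rw [Set.disjoint_left]
    rintro y hy ⟨hyP, -⟩
    exact hyP hy
  have hWcard : ∀ c k : ℕ, (k = 2 ∨ k = 4) →
      (∀ U : Subgroup (Cfsg.Sz F m), InList U → Nat.card U = c →
        Nat.card (Subgroup.normalizer (U : Set (Cfsg.Sz F m))) = k * c) →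
      (W c).ncard = nU x c * (k * c - k) := by
    intro c k hk hall
    rw [← Nat.card_coe_set_eq]
    exact card_W hF hm hx hx1 hk hall
  have hW1 := hWcard (2 ^ (2 * m + 1) - 1) 2 (Or.inl rfl) (by
    intro U hU hc
    rw [(hU.card_normalizer hF hm).1 hc])
  have hW2 := hWcard (2 ^ (2 * m + 1) + 2 ^ (m + 1) + 1) 4 (Or.inr rfl) (by
    intro U hU hc
    rw [(hU.card_normalizer hF hm).2 (by rw [hc]; omega), hc])
  have hW3 := hWcard (2 ^ (2 * m + 1) - 2 ^ (m + 1) + 1) 4 (Or.inr rfl) (by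
    intro U hU hc
    rw [(hU.card_normalizer hF hm).2 (by rw [hc]; omega), hc])
  have hS₀ : S₀.ncard = (2 ^ (2 * m + 1)) ^ 2 * (2 ^ (2 * m + 1) - 1) := by
    rw [← Nat.card_coe_set_eq]; exact card_stabilizer hF hm P
  rw [Nat.card_congr (Equiv.subtypeEquivRight hset), Nat.card_coe_set_eq]
  have hne12 : 2 ^ (2 * m + 1) - 1 ≠ 2 ^ (2 * m + 1) + 2 ^ (m + 1) + 1 := by omega
  have hne13 : 2 ^ (2 * m + 1) - 1 ≠ 2 ^ (2 * m + 1) - 2 ^ (m + 1) + 1 := by omega
  have hne23 : 2 ^ (2 * m + 1) + 2 ^ (m + 1) + 1 ≠ 2 ^ (2 * m + 1) - 2 ^ (m + 1) + 1 := by omega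
  have d3 : Disjoint ((S₀ ∪ W (2 ^ (2 * m + 1) - 1)) ∪ W (2 ^ (2 * m + 1) + 2 ^ (m + 1) + 1))
      (W (2 ^ (2 * m + 1) - 2 ^ (m + 1) + 1)) := by
    rw [Set.disjoint_union_left, Set.disjoint_union_left]
    exact ⟨⟨hS₀disj _, hWdisj _ _ hne13⟩, hWdisj _ _ hne23⟩
  have d2 : Disjoint (S₀ ∪ W (2 ^ (2 * m + 1) - 1)) (W (2 ^ (2 * m + 1) + 2 ^ (m + 1) + 1)) := by
    rw [Set.disjoint_union_left]
    exact ⟨hS₀disj _, hWdisj _ _ hne12⟩
  rw [Set.ncard_union_eq d3 (Set.toFinite _) (Set.toFinite _),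
    Set.ncard_union_eq d2 (Set.toFinite _) (Set.toFinite _),
    Set.ncard_union_eq (hS₀disj _) (Set.toFinite _) (Set.toFinite _), hS₀, hW1, hW2, hW3]

end Cfsg.Agent.Lib.Helper4.Suz
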