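import Mathlib
import Cfsg.Prelude.Def_LieExceptional
import Cfsg.Agent.Lib.Helper4.Suz47

/-!
# Suzuki groups, part 48: the solubilizer of an involution
-/

set_option autoImplicit false
set_option linter.unusedSimpArgs false
set_option linter.unusedVariables false
set_option linter.style.haveILetI false

namespace Cfsg.Agent.Lib.Helper4.Suz

open MulAction

variable {F : Type*} [Field F] [Fintype F] {m : ℕ}

theorem nU_involution (hF : Fintype.card F = 2 ^ (2 * m + 1)) (hm : 1 ≤ m)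
    {x : Cfsg.Sz F m} (hx : orderOf x = 2) :
    nU x (2 ^ (2 * m + 1) - 1) * 2 = (2 ^ (2 * m + 1)) ^ 2 ∧
    nU x (2 ^ (2 * m + 1) + 2 ^ (m + 1) + 1) * 4 = (2 ^ (2 * m + 1)) ^ 2 ∧
    nU x (2 ^ (2 * m + 1) - 2 ^ (m + 1) + 1) * 4 = (2 ^ (2 * m + 1)) ^ 2 := by
  obtain ⟨A₁, A₂, hA₁, hA₂, h1, h2, hN1, hN2, -⟩ := exists_two_classes hF hm
  have hTin : InList (Tor hF : Subgroup (Cfsg.Sz F m)) := ⟨isCyclic_Tor hF, Or.inl (card_Tor hF)⟩
  have hA₁in : InList A₁ := ⟨hA₁.isCyclic hF, Or.inr (Or.inl h1)⟩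
  have hA₂in : InList A₂ := ⟨hA₂.isCyclic hF, Or.inr (Or.inr h2)⟩
  refine ⟨?_, ?_, ?_⟩
  · have := card_inList_normalizing_involution hF hm hTin (k := 2) (Or.inl rfl)
      (by rw [card_normalizer_Tor hF hm, card_Tor]) hx
    rw [card_Tor] at this
    exact this
  · have := card_inList_normalizing_involution hF hm hA₁in (k := 4) (Or.inr rfl) hN1 hx
    rw [h1] at this
    exact this
  · have := card_inList_normalizing_involution hF hm hA₂in (k := 4) (Or.inr rfl) hN2 hx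
    rw [h2] at this
    exact this

theorem card_sol_involution (hF : Fintype.card F = 2 ^ (2 * m + 1)) (hm : 1 ≤ m)
    (hp : (2 * m + 1).Prime) {x : Cfsg.Sz F m} (hx : orderOf x = 2) :
    Nat.card {y : Cfsg.Sz F m //
      Group.IsSolvable (Subgroup.closure ({x, y} : Set (Cfsg.Sz F m)))} =
      (2 ^ (2 * m + 1)) ^ 2 * (4 * 2 ^ (2 * m + 1) - 3) := by
  obtain ⟨hx1, hxx⟩ := involution_of_orderOf hx
  obtain ⟨P, hxP⟩ := exists_mem_Uat_of_involution hF hm hx1 hxx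
  rw [card_sol_two_element hF hm hp hxP hx1]
  obtain ⟨e1, e2, e3⟩ := nU_involution hF hm hx
  have hq := q_ge m hm
  have hle := r_le_q m
  have hr4 : 4 ≤ 2 ^ (m + 1) := by
    calc 4 = 2 ^ 2 := by norm_num
      _ ≤ 2 ^ (m + 1) := Nat.pow_le_pow_right (by norm_num) (by omega)
  have hqr : 2 * 2 ^ (m + 1) ≤ 2 ^ (2 * m + 1) := by
    have : 2 ^ (2 * m + 1) = 2 ^ (m + 1) * 2 ^ m := by rw [← pow_add]; congr 1; omega
    rw [this]
    have : 2 ≤ 2 ^ m := by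
      calc 2 = 2 ^ 1 := by norm_num
        _ ≤ 2 ^ m := Nat.pow_le_pow_right (by norm_num) hm
    nlinarith
  generalize nU x (2 ^ (2 * m + 1) - 1) = n1 at e1 ⊢
  generalize nU x (2 ^ (2 * m + 1) + 2 ^ (m + 1) + 1) = n2 at e2 ⊢
  generalize nU x (2 ^ (2 * m + 1) - 2 ^ (m + 1) + 1) = n3 at e3 ⊢
  generalize hqq : 2 ^ (2 * m + 1) = q at e1 e2 e3 hq hle hqr ⊢
  generalize hrr : 2 ^ (m + 1) = r at hle hr4 hqr ⊢
  obtain ⟨q', rfl⟩ : ∃ q', q = r + q' + 4 := ⟨q - r - 4, by omega⟩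
  have t1 : 2 * (r + q' + 4 - 1) - 2 = 2 * (r + q' + 2) := by omega
  have t2 : 4 * (r + q' + 4 + r + 1) - 4 = 4 * (r + q' + 4 + r) := by omega
  have t3 : 4 * (r + q' + 4 - r + 1) - 4 = 4 * (q' + 4) := by omega
  have t4 : 4 * (r + q' + 4) - 3 = 4 * (r + q') + 13 := by omega
  have t5 : r + q' + 4 - 1 = r + q' + 3 := by omega
  rw [t1, t2, t3, t4, t5]
  have f1 : n1 * (2 * (r + q' + 2)) = (r + q' + 4) ^ 2 * (r + q' + 2) := by
    rw [← e1]; ring
  have f2 : n2 * (4 * (r + q' + 4 + r)) = (r + q' + 4) ^ 2 * (r + q' + 4 + r) := by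
    rw [← e2]; ring
  have f3 : n3 * (4 * (q' + 4)) = (r + q' + 4) ^ 2 * (q' + 4) := by
    rw [← e3]; ring
  rw [f1, f2, f3]; ring

end Cfsg.Agent.Lib.Helper4.Suz
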