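import Mathlib
import Cfsg.Prelude.Def_LieExceptional
import Cfsg.Agent.Lib.Helper4.Suz48

/-!
# Suzuki groups, part 49: elements of order four
-/

set_option autoImplicit false
set_option linter.unusedSimpArgs false
set_option linter.unusedVariables false
set_option linter.style.haveILetI false

namespace Cfsg.Agent.Lib.Helper4.Suz

open MulAction

theorem pow_two_pow_two_eq {G : Type*} [Group G] (y : G) :
    y ^ 2 ^ (1 + 1) = (y * y) * (y * y) := by
  have e4 : 2 ^ (1 + 1) = 2 + 2 := by norm_num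
  rw [e4, pow_add, sq]

variable {F : Type*} [Field F] [Fintype F] {m : ℕ}

theorem th_add_self_eq_zero (hF : Fintype.card F = 2 ^ (2 * m + 1)) {c : F}
    (h : th m c + c = 0) : c = 0 ∨ c = 1 :=
  th_eq_self hF (eq_of_add_eq_zero (two_eq_zero hF) h)

theorem th_add_self_ne_one (hF : Fintype.card F = 2 ^ (2 * m + 1)) (c : F) :
    th m c + c ≠ 1 := by
  intro h
  have h2 := two_eq_zero hF
  have h' : th m (th m c + c) = th m 1 := by rw [h]
  rw [th_add hF, th_th hF, th_one] at h'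
  have h3 : c ^ 2 + c = 0 := by
    have e : c ^ 2 + c = (c ^ 2 + th m c) + (th m c + c) - 2 * th m c := by ring
    rw [e, h', h, h2]; ring_nf
    exact h2
  have h4 : c * (c + 1) = 0 := by rw [← h3]; ring
  rcases mul_eq_zero.mp h4 with h5 | h5
  · rw [h5, th_zero, add_zero] at h
    exact zero_ne_one h
  · have h6 : c = 1 := eq_of_add_eq_zero h2 h5
    rw [h6, th_one] at h
    have : (1 : F) + 1 = 2 := by norm_num
    rw [this, h2] at h
    exact zero_ne_one h

/-- The additive map `c ↦ θ(c) + c`. -/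
noncomputable def thAdd (hF : Fintype.card F = 2 ^ (2 * m + 1)) : F →+ F :=
  AddMonoidHom.mk' (fun c => th m c + c) (by
    intro a b
    rw [th_add hF]; ring)

theorem thAdd_apply (hF : Fintype.card F = 2 ^ (2 * m + 1)) (c : F) :
    thAdd hF c = th m c + c := rfl

theorem card_ker_thAdd (hF : Fintype.card F = 2 ^ (2 * m + 1)) :
    Nat.card (thAdd hF).ker = 2 := by
  have hset : ((thAdd hF).ker : Set F) = {0, 1} := by
    ext c
    simp only [SetLike.mem_coe, AddMonoidHom.mem_ker, thAdd_apply, Set.mem_insert_iff,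
      Set.mem_singleton_iff]
    constructor
    · exact th_add_self_eq_zero hF
    · rintro (rfl | rfl)
      · rw [th_zero, add_zero]
      · rw [th_one]
        have : (1 : F) + 1 = 2 := by norm_num
        rw [this, two_eq_zero hF]
  have : Nat.card (thAdd hF).ker = ((thAdd hF).ker : Set F).ncard := (Nat.card_coe_set_eq _)
  rw [this, hset, Set.ncard_pair zero_ne_one]

theorem index_range_thAdd (hF : Fintype.card F = 2 ^ (2 * m + 1)) :
    (thAdd hF).range.index = 2 := by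
  have h1 := AddSubgroup.card_mul_index (thAdd hF).ker
  have h2 := AddSubgroup.card_mul_index (thAdd hF).range
  rw [AddSubgroup.index_ker, card_ker_thAdd] at h1
  rw [← h1] at h2
  have hpos : 0 < Nat.card (thAdd hF).range := Nat.card_pos
  have h3 : Nat.card (thAdd hF).range * (thAdd hF).range.index =
      Nat.card (thAdd hF).range * 2 := by rw [h2]; ring
  exact Nat.eq_of_mul_eq_mul_left hpos h3

theorem exists_th_add_self (hF : Fintype.card F = 2 ^ (2 * m + 1)) (e : F) :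
    (∃ c : F, th m c + c = e) ∨ (∃ c : F, th m c + c = e + 1) := by
  by_cases he : e ∈ (thAdd hF).range
  · left
    obtain ⟨c, hc⟩ := he
    exact ⟨c, hc⟩
  · right
    have h1 : (1 : F) ∉ (thAdd hF).range := by
      rintro ⟨c, hc⟩
      exact th_add_self_ne_one hF c hc
    have := (AddSubgroup.add_mem_iff_of_index_two (index_range_thAdd hF) (a := e) (b := 1)).mpr
      ⟨fun h => absurd h he, fun h => absurd h h1⟩
    obtain ⟨c, hc⟩ := this
    exact ⟨c, hc⟩

/-- Conjugation inside the unipotent subgroup. -/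
theorem uZ_conj_uZ (hF : Fintype.card F = 2 ^ (2 * m + 1)) (a b c d : F) :
    uZ hF c d * uZ hF a b * (uZ hF c d)⁻¹ = uZ hF a (b + th m c * a + th m a * c) := by
  have h2 := two_eq_zero hF
  rw [uZ_inv, uZ_mul, uZ_mul]
  congr 1
  · rw [add_comm c a, add_assoc, add_self' h2, add_zero]
  · rw [th_add hF]
    have e : d + b + th m c * a + (d + c * th m c) + (th m c + th m a) * c =
        b + th m c * a + th m a * c + 2 * d + 2 * (c * th m c) := by ring
    rw [e, h2]; ring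

theorem uZ_one_inv (hF : Fintype.card F = 2 ^ (2 * m + 1)) (b : F) :
    (uZ hF 1 b)⁻¹ = uZ hF 1 (b + 1) := by
  rw [uZ_inv, th_one, mul_one]

theorem uZ_one_sq (hF : Fintype.card F = 2 ^ (2 * m + 1)) (b : F) :
    uZ hF 1 b * uZ hF 1 b = uZ hF 0 1 := by
  have h2 := two_eq_zero hF
  rw [uZ_mul, th_one, mul_one]
  congr 1
  · have : (1 : F) + 1 = 2 := by norm_num
    rw [this, h2]
  · rw [add_self' h2, zero_add]

theorem uZ_one_ne_one (hF : Fintype.card F = 2 ^ (2 * m + 1)) (b : F) : uZ hF 1 b ≠ 1 := by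
  intro h
  rw [← uZ_zero hF] at h
  exact one_ne_zero (uZ_injective hF h).1

theorem orderOf_uZ_one (hF : Fintype.card F = 2 ^ (2 * m + 1)) (b : F) :
    orderOf (uZ hF 1 b) = 4 := by
  haveI : Fact (Nat.Prime 2) := ⟨Nat.prime_two⟩
  have h2 := two_eq_zero hF
  have := orderOf_eq_prime_pow (x := uZ hF 1 b) (p := 2) (n := 1) ?_ ?_
  · rw [this]; norm_num
  · rw [pow_one, sq, uZ_one_sq]
    intro h
    rw [← uZ_zero hF] at h
    exact one_ne_zero (uZ_injective hF h).2
  · have e : uZ hF 1 b ^ 2 ^ (1 + 1) = (uZ hF 1 b * uZ hF 1 b) * (uZ hF 1 b * uZ hF 1 b) :=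
      pow_two_pow_two_eq _
    rw [e, uZ_one_sq, uZ_mul, th_zero, zero_mul, add_zero, add_zero, add_self' h2, uZ_zero]

/-- An element conjugating one standard element of order four to another is unipotent. -/
theorem conj_uZ_one (hF : Fintype.card F = 2 ^ (2 * m + 1)) (hm : 1 ≤ m) {b b' : F}
    {g : Cfsg.Sz F m} (hg : g * uZ hF 1 b * g⁻¹ = uZ hF 1 b') :
    ∃ c d : F, g = uZ hF c d ∧ b' = b + th m c + c := by
  have hx : uZ hF 1 b ∈ Uat hF (oInf F m) := by
    rw [Uat_oInf hF hm]; exact uZ_mem_USub hF 1 b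
  have hfix : g⁻¹ • oInf F m = oInf F m := by
    apply eq_of_mem_Uat_of_smul_eq hF hm hx (uZ_one_ne_one hF b)
    have e : uZ hF 1 b * g⁻¹ = g⁻¹ * uZ hF 1 b' := by rw [← hg]; group
    rw [← mul_smul, e, mul_smul, uZ_smul_oInf]
  have hfix' : g • oInf F m = oInf F m := by
    rw [← hfix, smul_inv_smul, hfix]
  obtain ⟨c, d, z, rfl⟩ := fix_oInf hF hm g hfix'
  have e : uZ hF c d * hZ hF z * uZ hF 1 b * (uZ hF c d * hZ hF z)⁻¹ =
      uZ hF c d * (hZ hF z * uZ hF 1 b * (hZ hF z)⁻¹) * (uZ hF c d)⁻¹ := by group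
  rw [e, hZ_uZ_hZ, uZ_conj_uZ] at hg
  obtain ⟨h1, h2⟩ := uZ_injective hF hg
  rw [mul_one] at h1
  have hz1 : z = 1 := Units.ext (th_eq_one hF h1)
  subst hz1
  refine ⟨c, d, by rw [hZ_one, mul_one], ?_⟩
  rw [← h2]
  simp only [Units.val_one, th_one, one_pow, mul_one, one_mul]

theorem uZ_one_not_conj_inv (hF : Fintype.card F = 2 ^ (2 * m + 1)) (hm : 1 ≤ m) (b : F)
    (g : Cfsg.Sz F m) : g * uZ hF 1 b * g⁻¹ ≠ (uZ hF 1 b)⁻¹ := by
  intro h
  rw [uZ_one_inv] at h
  obtain ⟨c, d, -, hb⟩ := conj_uZ_one hF hm h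
  apply th_add_self_ne_one hF c
  have : b + 1 = b + (th m c + c) := by rw [hb]; ring
  exact (add_left_cancel this).symm

/-- Standard elements of order four: two conjugacy classes, swapped by inversion. -/
theorem uZ_one_conj_or (hF : Fintype.card F = 2 ^ (2 * m + 1)) (b b' : F) :
    (∃ g : Cfsg.Sz F m, g * uZ hF 1 b * g⁻¹ = uZ hF 1 b') ∨
    (∃ g : Cfsg.Sz F m, g * uZ hF 1 b * g⁻¹ = (uZ hF 1 b')⁻¹) := by
  have h2 := two_eq_zero hF
  rcases exists_th_add_self hF (b + b') with ⟨c, hc⟩ | ⟨c, hc⟩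
  · left
    refine ⟨uZ hF c 0, ?_⟩
    rw [uZ_conj_uZ, mul_one, th_one, one_mul, add_assoc, hc, ← add_assoc, add_self' h2, zero_add]
  · right
    refine ⟨uZ hF c 0, ?_⟩
    rw [uZ_one_inv, uZ_conj_uZ, mul_one, th_one, one_mul, add_assoc, hc]
    congr 1
    rw [← add_assoc, ← add_assoc, add_self' h2, zero_add]

/-- Normal form of an element of order four. -/
theorem exists_std_of_orderOf_four (hF : Fintype.card F = 2 ^ (2 * m + 1)) (hm : 1 ≤ m)
    {x : Cfsg.Sz F m} (hx : orderOf x = 4) : ∃ (c : Cfsg.Sz F m) (b : F),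
      x = c * uZ hF 1 b * c⁻¹ := by
  haveI : Fact (Nat.Prime 2) := ⟨Nat.prime_two⟩
  have h2 := two_eq_zero hF
  have hpg : IsPGroup 2 (Subgroup.zpowers x) := by
    apply IsPGroup.of_card (n := 2)
    rw [Nat.card_zpowers, hx]; norm_num
  obtain ⟨P, hP⟩ := exists_le_Uat hF hm _ hpg
  have hxP : x ∈ Uat hF P := hP (Subgroup.mem_zpowers x)
  obtain ⟨c₀, hc₀⟩ := exists_smul_eq_oInf hF P
  have hc' : c₀⁻¹ • oInf F m = P := by rw [inv_smul_eq_iff, hc₀]
  obtain ⟨a, b, hab⟩ := (mem_Uat_iff hF hm hc' x).mp hxP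
  rw [inv_inv] at hab
  have ex : x = c₀⁻¹ * uZ hF a b * c₀ := by rw [← hab]; group
  have ha : a ≠ 0 := by
    rintro rfl
    have hxx : x * x = 1 := by
      rw [ex]
      have e : c₀⁻¹ * uZ hF 0 b * c₀ * (c₀⁻¹ * uZ hF 0 b * c₀) =
          c₀⁻¹ * (uZ hF 0 b * uZ hF 0 b) * c₀ := by group
      rw [e, uZ_mul, th_zero, zero_mul, add_zero, add_zero, add_self' h2, uZ_zero]
      group
    have := orderOf_dvd_of_pow_eq_one (x := x) (n := 2) (by rw [sq]; exact hxx)
    rw [hx] at this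
    omega
  obtain ⟨w, hw⟩ := th_surjective hF a⁻¹
  have hw0 : w ≠ 0 := by
    rintro rfl
    rw [th_zero] at hw
    exact inv_ne_zero ha hw.symm
  have hconj := hZ_uZ_hZ hF (Units.mk0 w hw0) a b
  rw [Units.val_mk0, hw, inv_mul_cancel₀ ha] at hconj
  refine ⟨c₀⁻¹ * (hZ hF (Units.mk0 w hw0))⁻¹, a⁻¹ * w ^ 2 * b, ?_⟩
  rw [ex, ← hconj]
  group

end Cfsg.Agent.Lib.Helper4.Suz
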