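import Mathlib
import Cfsg.Prelude.Def_LieExceptional
import Cfsg.Agent.Lib.Helper4.Suz49

/-!
# Suzuki groups, part 50: the solubilizer of an element of order four
-/

set_option autoImplicit false
set_option linter.unusedSimpArgs false
set_option linter.unusedVariables false
set_option linter.style.haveILetI false

namespace Cfsg.Agent.Lib.Helper4.Suz

open MulAction

theorem card_centralizer_conj {G : Type*} [Group G] (c x : G) :
    Nat.card (Subgroup.centralizer ({c * x * c⁻¹} : Set G)) =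
      Nat.card (Subgroup.centralizer ({x} : Set G)) := by
  apply Nat.card_congr
  refine ⟨fun g => ⟨c⁻¹ * g.1 * c, ?_⟩, fun g => ⟨c * g.1 * c⁻¹, ?_⟩, ?_, ?_⟩
  · have h := (mem_centralizer_singleton _ _).mp g.2
    rw [mem_centralizer_singleton]
    have e1 : x * (c⁻¹ * g.1 * c) = c⁻¹ * ((c * x * c⁻¹) * g.1) * c := by group
    have e2 : c⁻¹ * g.1 * c * x = c⁻¹ * (g.1 * (c * x * c⁻¹)) * c := by group
    rw [e1, e2, h]
  · have h := (mem_centralizer_singleton _ _).mp g.2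
    rw [mem_centralizer_singleton]
    have e1 : c * x * c⁻¹ * (c * g.1 * c⁻¹) = c * (x * g.1) * c⁻¹ := by group
    have e2 : c * g.1 * c⁻¹ * (c * x * c⁻¹) = c * (g.1 * x) * c⁻¹ := by group
    rw [e1, e2, h]
  · intro g
    apply Subtype.ext
    simp only
    group
  · intro g
    apply Subtype.ext
    simp only
    group

variable {F : Type*} [Field F] [Fintype F] {m : ℕ}

theorem conj_or_of_orderOf_four (hF : Fintype.card F = 2 ^ (2 * m + 1)) (hm : 1 ≤ m)
    {x t : Cfsg.Sz F m} (hx : orderOf x = 4) (ht : orderOf t = 4) :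
    (∃ g : Cfsg.Sz F m, g⁻¹ * x * g = t) ∨ (∃ g : Cfsg.Sz F m, g⁻¹ * x * g = t⁻¹) := by
  obtain ⟨c, b, rfl⟩ := exists_std_of_orderOf_four hF hm hx
  obtain ⟨c', b', rfl⟩ := exists_std_of_orderOf_four hF hm ht
  rcases uZ_one_conj_or hF b b' with ⟨g, hg⟩ | ⟨g, hg⟩
  · left
    refine ⟨c * g⁻¹ * c'⁻¹, ?_⟩
    rw [← hg]
    group
  · right
    refine ⟨c * g⁻¹ * c'⁻¹, ?_⟩
    have e : (c' * uZ hF 1 b' * c'⁻¹)⁻¹ = c' * (uZ hF 1 b')⁻¹ * c'⁻¹ := by group
    rw [e, ← hg]
    group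

theorem not_conj_inv_of_orderOf_four (hF : Fintype.card F = 2 ^ (2 * m + 1)) (hm : 1 ≤ m)
    {x : Cfsg.Sz F m} (hx : orderOf x = 4) (g : Cfsg.Sz F m) : g⁻¹ * x * g ≠ x⁻¹ := by
  obtain ⟨c, b, rfl⟩ := exists_std_of_orderOf_four hF hm hx
  intro h
  apply uZ_one_not_conj_inv hF hm b (c⁻¹ * g⁻¹ * c)
  have e1 : c⁻¹ * g⁻¹ * c * uZ hF 1 b * (c⁻¹ * g⁻¹ * c)⁻¹ =
      c⁻¹ * (g⁻¹ * (c * uZ hF 1 b * c⁻¹) * g) * c := by group
  have e2 : (uZ hF 1 b)⁻¹ = c⁻¹ * (c * uZ hF 1 b * c⁻¹)⁻¹ * c := by group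
  rw [e1, e2, h]

theorem card_centralizer_uZ_one (hF : Fintype.card F = 2 ^ (2 * m + 1)) (hm : 1 ≤ m) (b : F) :
    Nat.card (Subgroup.centralizer ({uZ hF 1 b} : Set (Cfsg.Sz F m))) =
      2 * 2 ^ (2 * m + 1) := by
  have h2 := two_eq_zero hF
  let f : Bool × F → Cfsg.Sz F m := fun p => uZ hF (if p.1 then 1 else 0) p.2
  have hinj : Function.Injective f := by
    rintro ⟨i, d⟩ ⟨j, e⟩ h
    obtain ⟨h1, h2'⟩ := uZ_injective hF h
    simp only at h1 h2'
    have hij : i = j := by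
      cases i <;> cases j <;> simp at h1 ⊢
    rw [hij, h2']
  have hset : ((Subgroup.centralizer ({uZ hF 1 b} : Set (Cfsg.Sz F m)) :
      Subgroup (Cfsg.Sz F m)) : Set (Cfsg.Sz F m)) = Set.range f := by
    ext g
    rw [SetLike.mem_coe, mem_centralizer_singleton]
    constructor
    · intro h
      have hg : g * uZ hF 1 b * g⁻¹ = uZ hF 1 b := by rw [← h]; group
      obtain ⟨c, d, rfl, hb⟩ := conj_uZ_one hF hm hg
      have hc : th m c + c = 0 := by
        have : b + 0 = b + (th m c + c) := by rw [add_zero, ← add_assoc, ← hb]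
        exact (add_left_cancel this).symm
      rcases th_add_self_eq_zero hF hc with rfl | rfl
      · exact ⟨(false, d), rfl⟩
      · exact ⟨(true, d), rfl⟩
    · rintro ⟨⟨i, d⟩, rfl⟩
      have key : ∀ c : F, th m c + c = 0 → uZ hF 1 b * uZ hF c d = uZ hF c d * uZ hF 1 b := by
        intro c hc
        have := uZ_conj_uZ hF 1 b c d
        rw [mul_one, th_one, one_mul, add_assoc, hc, add_zero] at this
        exact (mul_inv_eq_iff_eq_mul.mp this).symm
      cases i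
      · exact key 0 (by rw [th_zero, add_zero])
      · apply key 1
        rw [th_one]
        have : (1 : F) + 1 = 2 := by norm_num
        rw [this, h2]
  have : Nat.card (Subgroup.centralizer ({uZ hF 1 b} : Set (Cfsg.Sz F m))) =
      Nat.card ((Subgroup.centralizer ({uZ hF 1 b} : Set (Cfsg.Sz F m)) :
      Subgroup (Cfsg.Sz F m)) : Set (Cfsg.Sz F m)) := rfl
  rw [this, hset, Nat.card_range_of_injective hinj, Nat.card_prod, Nat.card_eq_fintype_card,
    Nat.card_eq_fintype_card, Fintype.card_bool, hF]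

theorem card_centralizer_orderOf_four (hF : Fintype.card F = 2 ^ (2 * m + 1)) (hm : 1 ≤ m)
    {x : Cfsg.Sz F m} (hx : orderOf x = 4) :
    Nat.card (Subgroup.centralizer ({x} : Set (Cfsg.Sz F m))) = 2 * 2 ^ (2 * m + 1) := by
  obtain ⟨c, b, rfl⟩ := exists_std_of_orderOf_four hF hm hx
  rw [card_centralizer_conj, card_centralizer_uZ_one hF hm]

/-- Elements of the normaliser of an `A`-type subgroup: in `A`, or of order two or four. -/
theorem IsA.mem_or_order (hF : Fintype.card F = 2 ^ (2 * m + 1)) (hm : 1 ≤ m)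
    {A : Subgroup (Cfsg.Sz F m)} (hA : IsA A) {t : Cfsg.Sz F m}
    (ht : t ∈ Subgroup.normalizer (A : Set (Cfsg.Sz F m))) :
    t ∈ A ∨ orderOf t = 2 ∨ orderOf t = 4 := by
  have hN := hA.card_normalizer hF hm
  have h4 := pow_mem_of_mem_normalizer A hN ht
  by_cases h1 : t ^ 4 = 1
  · have hd : orderOf t ∣ 2 ^ 2 := orderOf_dvd_of_pow_eq_one h1
    obtain ⟨j, hj, hjo⟩ := (Nat.dvd_prime_pow Nat.prime_two).mp hd
    interval_cases j
    · left
      rw [pow_zero, orderOf_eq_one_iff] at hjo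
      rw [hjo]; exact A.one_mem
    · right; left; rw [hjo]; norm_num
    · right; right; rw [hjo]; norm_num
  · left
    rw [← hA.centralizer_eq hF hm h4 h1, mem_centralizer_singleton]
    rw [← pow_succ, ← pow_succ']

theorem IsA.inList (hF : Fintype.card F = 2 ^ (2 * m + 1)) (hm : 1 ≤ m)
    {A : Subgroup (Cfsg.Sz F m)} (hA : IsA A)
    (hc : Nat.card A = 2 ^ (2 * m + 1) + 2 ^ (m + 1) + 1 ∨
      Nat.card A = 2 ^ (2 * m + 1) - 2 ^ (m + 1) + 1) : InList A := by
  refine ⟨hA.isCyclic hF, ?_⟩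
  rcases hc with h | h
  · exact Or.inr (Or.inl h)
  · exact Or.inr (Or.inr h)

theorem IsA.card_order_four (hF : Fintype.card F = 2 ^ (2 * m + 1)) (hm : 1 ≤ m)
    {A : Subgroup (Cfsg.Sz F m)} (hA : IsA A) (hU : InList A) :
    Nat.card {t : Cfsg.Sz F m // t ∈ Subgroup.normalizer (A : Set (Cfsg.Sz F m)) ∧
      orderOf t = 4} = 2 * Nat.card A := by
  have hN := hA.card_normalizer hF hm
  have h2N : 2 ∣ Nat.card (Subgroup.normalizer (A : Set (Cfsg.Sz F m))) := by
    rw [hN]; exact Dvd.dvd.mul_right (by norm_num) _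
  have hI := hU.card_involutions hF hm h2N
  let N : Set (Cfsg.Sz F m) := (Subgroup.normalizer (A : Set (Cfsg.Sz F m)) : Set (Cfsg.Sz F m))
  let I : Set (Cfsg.Sz F m) := {t | t ∈ Subgroup.normalizer (A : Set (Cfsg.Sz F m)) ∧
    orderOf t = 2}
  let S : Set (Cfsg.Sz F m) := {t | t ∈ Subgroup.normalizer (A : Set (Cfsg.Sz F m)) ∧
    orderOf t = 4}
  have hNeq : N = ((A : Set (Cfsg.Sz F m)) ∪ I) ∪ S := by
    ext t
    constructor
    · intro ht
      rcases hA.mem_or_order hF hm ht with h | h | h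
      · left; left; exact h
      · left; right; exact ⟨ht, h⟩
      · right; exact ⟨ht, h⟩
    · rintro ((h | h) | h)
      · exact Subgroup.le_normalizer h
      · exact h.1
      · exact h.1
  have d1 : Disjoint (A : Set (Cfsg.Sz F m)) I := by
    rw [Set.disjoint_left]
    rintro t htA ⟨-, h2⟩
    apply hU.odd_order htA
    rw [h2]
  have d2 : Disjoint ((A : Set (Cfsg.Sz F m)) ∪ I) S := by
    rw [Set.disjoint_union_left]
    constructor
    · rw [Set.disjoint_left]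
      rintro t htA ⟨-, h4⟩
      apply hU.odd_order htA
      rw [h4]; norm_num
    · rw [Set.disjoint_left]
      rintro t ⟨-, h2⟩ ⟨-, h4⟩
      rw [h2] at h4; omega
  have hNc : N.ncard = 4 * Nat.card A := by
    rw [← hN, ← Nat.card_coe_set_eq]; rfl
  have hIc : I.ncard = Nat.card A := by
    rw [← hI, ← Nat.card_coe_set_eq]; rfl
  have hAc : (A : Set (Cfsg.Sz F m)).ncard = Nat.card A := by
    rw [← Nat.card_coe_set_eq]; rfl
  rw [hNeq, Set.ncard_union_eq d2 (Set.toFinite _) (Set.toFinite _),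
    Set.ncard_union_eq d1 (Set.toFinite _) (Set.toFinite _), hIc, hAc] at hNc
  have hS : S.ncard = 2 * Nat.card A := by omega
  rw [← hS, ← Nat.card_coe_set_eq]; rfl

/-- Half of the elements of order four in such a normaliser are conjugate to `x`. -/
theorem IsA.card_conj_order_four (hF : Fintype.card F = 2 ^ (2 * m + 1)) (hm : 1 ≤ m)
    {A : Subgroup (Cfsg.Sz F m)} (hA : IsA A) (hU : InList A) {x : Cfsg.Sz F m}
    (hx : orderOf x = 4) :
    Nat.card {t : Cfsg.Sz F m // t ∈ Subgroup.normalizer (A : Set (Cfsg.Sz F m)) ∧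
      ∃ g : Cfsg.Sz F m, g⁻¹ * x * g = t} = Nat.card A := by
  have hS := hA.card_order_four hF hm hU
  let S : Set (Cfsg.Sz F m) := {t | t ∈ Subgroup.normalizer (A : Set (Cfsg.Sz F m)) ∧
    orderOf t = 4}
  let X : Set (Cfsg.Sz F m) := {t | t ∈ Subgroup.normalizer (A : Set (Cfsg.Sz F m)) ∧
    ∃ g : Cfsg.Sz F m, g⁻¹ * x * g = t}
  let X' : Set (Cfsg.Sz F m) := {t | t ∈ Subgroup.normalizer (A : Set (Cfsg.Sz F m)) ∧
    ∃ g : Cfsg.Sz F m, g⁻¹ * x * g = t⁻¹}
  have hSeq : S = X ∪ X' := by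
    ext t
    constructor
    · rintro ⟨htN, ht4⟩
      rcases conj_or_of_orderOf_four hF hm hx ht4 with h | h
      · left; exact ⟨htN, h⟩
      · right; exact ⟨htN, h⟩
    · rintro (⟨htN, g, rfl⟩ | ⟨htN, g, hg⟩)
      · exact ⟨htN, by rw [orderOf_conj'', hx]⟩
      · refine ⟨htN, ?_⟩
        rw [← orderOf_inv, ← hg, orderOf_conj'', hx]
  have hd : Disjoint X X' := by
    rw [Set.disjoint_left]
    rintro t ⟨-, g, hg⟩ ⟨-, g', hg'⟩
    apply not_conj_inv_of_orderOf_four hF hm hx (g * g'⁻¹)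
    have e : (g * g'⁻¹)⁻¹ * x * (g * g'⁻¹) = g' * (g⁻¹ * x * g) * g'⁻¹ := by group
    rw [e, hg]
    have e2 : x⁻¹ = g' * (g'⁻¹ * x * g')⁻¹ * g'⁻¹ := by group
    rw [e2, hg', inv_inv]
  have hXX' : X'.ncard = X.ncard := by
    have : X' = (fun t => t⁻¹) '' X := by
      ext t
      constructor
      · rintro ⟨htN, g, hg⟩
        exact ⟨t⁻¹, ⟨(Subgroup.normalizer _).inv_mem htN, g, hg⟩, inv_inv t⟩
      · rintro ⟨s, ⟨hsN, g, hg⟩, rfl⟩
        exact ⟨(Subgroup.normalizer _).inv_mem hsN, g, by rw [inv_inv]; exact hg⟩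
    rw [this, Set.ncard_image_of_injective _ inv_injective]
  have hSc : S.ncard = 2 * Nat.card A := by
    rw [← hS, ← Nat.card_coe_set_eq]; rfl
  rw [hSeq, Set.ncard_union_eq hd (Set.toFinite _) (Set.toFinite _), hXX'] at hSc
  have hX : X.ncard = Nat.card A := by omega
  rw [← hX, ← Nat.card_coe_set_eq]; rfl

theorem nU_orderOf_four (hF : Fintype.card F = 2 ^ (2 * m + 1)) (hm : 1 ≤ m)
    {x : Cfsg.Sz F m} (hx : orderOf x = 4) :
    nU x (2 ^ (2 * m + 1) - 1) = 0 ∧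
    nU x (2 ^ (2 * m + 1) + 2 ^ (m + 1) + 1) * 2 = 2 ^ (2 * m + 1) ∧
    nU x (2 ^ (2 * m + 1) - 2 ^ (m + 1) + 1) * 2 = 2 ^ (2 * m + 1) := by
  obtain ⟨A₁, A₂, hA₁, hA₂, h1, h2, hN1, hN2, -⟩ := exists_two_classes hF hm
  have hA₁in : InList A₁ := hA₁.inList hF hm (Or.inl h1)
  have hA₂in : InList A₂ := hA₂.inList hF hm (Or.inr h2)
  have key : ∀ A : Subgroup (Cfsg.Sz F m), IsA A → InList A →
      nU x (Nat.card A) * 2 = 2 ^ (2 * m + 1) := by
    intro A hA hU
    have hN := hA.card_normalizer hF hm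
    have e1 := card_conj_into x (Subgroup.normalizer (A : Set (Cfsg.Sz F m)))
    have e2 := card_conj_into_normalizer x A
    rw [e1, hA.card_conj_order_four hF hm hU hx, card_centralizer_orderOf_four hF hm hx,
      hN] at e2
    have e3 : Nat.card {U : Subgroup (Cfsg.Sz F m) //
        (∃ g : Cfsg.Sz F m, U = A.map (MulAut.conj g).toMonoidHom) ∧
          x ∈ Subgroup.normalizer (U : Set (Cfsg.Sz F m))} = nU x (Nat.card A) := by
      apply Nat.card_congr
      apply Equiv.subtypeEquivRight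
      intro U
      constructor
      · rintro ⟨⟨g, rfl⟩, hxU⟩
        exact ⟨hU.conj g, card_map_conj A g, hxU⟩
      · rintro ⟨hU', hcard, hxU⟩
        exact ⟨hU.conj_of_card_eq hF hm hU' hcard, hxU⟩
    rw [e3] at e2
    have hpos : 0 < Nat.card A := Nat.card_pos
    have e4 : Nat.card A * (nU x (Nat.card A) * 2) = Nat.card A * 2 ^ (2 * m + 1) := by
      have : 2 * (Nat.card A * (nU x (Nat.card A) * 2)) = 2 * (Nat.card A * 2 ^ (2 * m + 1)) := by
        calc 2 * (Nat.card A * (nU x (Nat.card A) * 2))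
            = nU x (Nat.card A) * (4 * Nat.card A) := by ring
          _ = Nat.card A * (2 * 2 ^ (2 * m + 1)) := e2.symm
          _ = 2 * (Nat.card A * 2 ^ (2 * m + 1)) := by ring
      omega
    exact Nat.eq_of_mul_eq_mul_left hpos e4
  refine ⟨?_, ?_, ?_⟩
  · unfold nU
    haveI : IsEmpty {U : Subgroup (Cfsg.Sz F m) // InList U ∧
        Nat.card U = 2 ^ (2 * m + 1) - 1 ∧ x ∈ Subgroup.normalizer (U : Set (Cfsg.Sz F m))} := by
      constructor
      rintro ⟨U, hU, hc, hxU⟩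
      have hN := (hU.card_normalizer hF hm).1 hc
      rw [← hc] at hN
      have h2' := pow_mem_of_mem_normalizer U hN hxU
      have hodd := hU.odd_order h2'
      apply hodd
      rw [orderOf_pow' x (by norm_num : 2 ≠ 0), hx]
      norm_num
    exact Nat.card_of_isEmpty
  · have := key A₁ hA₁ hA₁in
    rwa [h1] at this
  · have := key A₂ hA₂ hA₂in
    rwa [h2] at this

theorem card_sol_order_four (hF : Fintype.card F = 2 ^ (2 * m + 1)) (hm : 1 ≤ m)
    (hp : (2 * m + 1).Prime) {x : Cfsg.Sz F m} (hx : orderOf x = 4) :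
    Nat.card {y : Cfsg.Sz F m //
      Group.IsSolvable (Subgroup.closure ({x, y} : Set (Cfsg.Sz F m)))} =
      (2 ^ (2 * m + 1)) ^ 2 * (2 ^ (2 * m + 1) + 3) := by
  haveI : Fact (Nat.Prime 2) := ⟨Nat.prime_two⟩
  have hpg : IsPGroup 2 (Subgroup.zpowers x) := by
    apply IsPGroup.of_card (n := 2)
    rw [Nat.card_zpowers, hx]; norm_num
  obtain ⟨P, hP⟩ := exists_le_Uat hF hm _ hpg
  have hxP : x ∈ Uat hF P := hP (Subgroup.mem_zpowers x)
  have hx1 : x ≠ 1 := by
    rintro rfl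
    rw [orderOf_one] at hx; omega
  rw [card_sol_two_element hF hm hp hxP hx1]
  obtain ⟨e1, e2, e3⟩ := nU_orderOf_four hF hm hx
  have hq := q_ge m hm
  have hle := r_le_q m
  have hr4 : 4 ≤ 2 ^ (m + 1) := by
    calc 4 = 2 ^ 2 := by norm_num
      _ ≤ 2 ^ (m + 1) := Nat.pow_le_pow_right (by norm_num) (by omega)
  have hqr : 2 * 2 ^ (m + 1) ≤ 2 ^ (2 * m + 1) := by
    have : 2 ^ (2 * m + 1) = 2 ^ (m + 1) * 2 ^ m := by rw [← pow_add]; congr 1; omega
    rw [this]
    have : 2 ≤ 2 ^ m := by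
      calc 2 = 2 ^ 1 := by norm_num
        _ ≤ 2 ^ m := Nat.pow_le_pow_right (by norm_num) hm
    nlinarith
  rw [e1]
  generalize nU x (2 ^ (2 * m + 1) + 2 ^ (m + 1) + 1) = n2 at e2 ⊢
  generalize nU x (2 ^ (2 * m + 1) - 2 ^ (m + 1) + 1) = n3 at e3 ⊢
  generalize hqq : 2 ^ (2 * m + 1) = q at e2 e3 hq hle hqr ⊢
  generalize hrr : 2 ^ (m + 1) = r at hle hr4 hqr ⊢
  obtain ⟨q', rfl⟩ : ∃ q', q = r + q' + 4 := ⟨q - r - 4, by omega⟩
  have t2 : 4 * (r + q' + 4 + r + 1) - 4 = 4 * (r + q' + 4 + r) := by omega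
  have t3 : 4 * (r + q' + 4 - r + 1) - 4 = 4 * (q' + 4) := by omega
  have t5 : r + q' + 4 - 1 = r + q' + 3 := by omega
  rw [t2, t3, t5, zero_mul, add_zero]
  have f2 : n2 * (4 * (r + q' + 4 + r)) = 2 * (r + q' + 4) * (r + q' + 4 + r) := by
    rw [← e2]; ring
  have f3 : n3 * (4 * (q' + 4)) = 2 * (r + q' + 4) * (q' + 4) := by
    rw [← e3]; ring
  rw [f2, f3]; ring

end Cfsg.Agent.Lib.Helper4.Suz
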