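import Mathlib
import Cfsg.Prelude.Def_LieExceptional
import Cfsg.Agent.Lib.Helper4.Suz50

/-!
# Suzuki groups, part 51: solubilizer sizes, transported to `Cfsg.Lie.Sz`
-/

set_option autoImplicit false
set_option linter.unusedSimpArgs false
set_option linter.unusedVariables false
set_option linter.style.haveILetI false

namespace Cfsg.Agent.Lib.Helper4.Suz

open MulAction

theorem sol_card_equiv {G H : Type*} [Group G] [Group H] (e : G ≃* H) (x : G) :
    Nat.card {y : H // Group.IsSolvable (Subgroup.closure ({e x, y} : Set H))} =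
      Nat.card {y : G // Group.IsSolvable (Subgroup.closure ({x, y} : Set G))} := by
  have key : ∀ y : G, Group.IsSolvable (Subgroup.closure ({e x, e y} : Set H)) ↔
      Group.IsSolvable (Subgroup.closure ({x, y} : Set G)) := by
    intro y
    have e' : Subgroup.closure ({e x, e y} : Set H) =
        (Subgroup.closure ({x, y} : Set G)).map e.toMonoidHom := by
      rw [MonoidHom.map_closure, Set.image_pair]
      rfl
    rw [e']
    have eq := Subgroup.equivMapOfInjective (Subgroup.closure ({x, y} : Set G))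
      e.toMonoidHom e.injective
    constructor
    · intro h
      haveI := h
      exact solvable_of_surjective (f := eq.symm.toMonoidHom) eq.symm.surjective
    · intro h
      haveI := h
      exact solvable_of_surjective (f := eq.toMonoidHom) eq.surjective
  symm
  apply Nat.card_congr
  refine ⟨fun y => ⟨e y.1, (key y.1).mpr y.2⟩, fun y => ⟨e.symm y.1, ?_⟩, ?_, ?_⟩
  · have h := y.2
    rw [← e.apply_symm_apply y.1] at h
    exact (key _).mp h
  · intro y
    apply Subtype.ext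
    simp
  · intro y
    apply Subtype.ext
    simp

variable {F : Type*} [Field F] [Fintype F] {m : ℕ}

theorem solubilizer_card (hm : 1 ≤ m)
    (hp : (2 * m + 1).Prime) (hF : Fintype.card F = 2 ^ (2 * m + 1))
    (x : ↥(Cfsg.Lie.Sz F (2 ^ (m + 1)))) :
    (orderOf x = 2 → Nat.card {y : ↥(Cfsg.Lie.Sz F (2 ^ (m + 1))) // Group.IsSolvable ↥(Subgroup.closure ({x, y} : Set (↥(Cfsg.Lie.Sz F (2 ^ (m + 1))))))} = (2 ^ (2 * m + 1)) ^ 2 * (4 * 2 ^ (2 * m + 1) - 3)) ∧
    (orderOf x = 4 → Nat.card {y : ↥(Cfsg.Lie.Sz F (2 ^ (m + 1))) // Group.IsSolvable ↥(Subgroup.closure ({x, y} : Set (↥(Cfsg.Lie.Sz F (2 ^ (m + 1))))))} = (2 ^ (2 * m + 1)) ^ 2 * (2 ^ (2 * m + 1) + 3)) ∧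
    (x ≠ 1 → orderOf x ∣ 2 ^ (2 * m + 1) - 1 →
      Nat.card {y : ↥(Cfsg.Lie.Sz F (2 ^ (m + 1))) // Group.IsSolvable ↥(Subgroup.closure ({x, y} : Set (↥(Cfsg.Lie.Sz F (2 ^ (m + 1))))))} = 2 * (2 ^ (2 * m + 1)) ^ 2 * (2 ^ (2 * m + 1) - 1)) ∧
    (x ≠ 1 → orderOf x ∣ 2 ^ (2 * m + 1) + 2 ^ (m + 1) + 1 → Nat.card {y : ↥(Cfsg.Lie.Sz F (2 ^ (m + 1))) // Group.IsSolvable ↥(Subgroup.closure ({x, y} : Set (↥(Cfsg.Lie.Sz F (2 ^ (m + 1))))))} = 4 * (2 ^ (2 * m + 1) + 2 ^ (m + 1) + 1)) ∧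
    (x ≠ 1 → orderOf x ∣ 2 ^ (2 * m + 1) - 2 ^ (m + 1) + 1 → Nat.card {y : ↥(Cfsg.Lie.Sz F (2 ^ (m + 1))) // Group.IsSolvable ↥(Subgroup.closure ({x, y} : Set (↥(Cfsg.Lie.Sz F (2 ^ (m + 1))))))} = 4 * (2 ^ (2 * m + 1) - 2 ^ (m + 1) + 1)) := by
  obtain ⟨x', rfl⟩ := (szEquiv hF hm).surjective x
  have ho : orderOf ((szEquiv hF hm) x') = orderOf x' := MulEquiv.orderOf_eq _ _
  have h1 : (szEquiv hF hm) x' ≠ 1 → x' ≠ 1 := by
    intro h h'
    apply h
    rw [h', map_one]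
  rw [sol_card_equiv (szEquiv hF hm) x', ho]
  refine ⟨?_, ?_, ?_, ?_, ?_⟩
  · intro h
    exact card_sol_involution hF hm hp h
  · intro h
    exact card_sol_order_four hF hm hp h
  · intro hx1 h
    exact card_sol_T hF hm hp (h1 hx1) h
  · intro hx1 h
    exact card_sol_A hF hm hp (h1 hx1) (Or.inl rfl) h
  · intro hx1 h
    exact card_sol_A hF hm hp (h1 hx1) (Or.inr rfl) h

end Cfsg.Agent.Lib.Helper4.Suz
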