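import Mathlib

set_option autoImplicit false

/-! Transfer of identities between words in transpositions from `Perm (Fin k)` to `Perm Ω`
along an injective tuple of points. (helper4) -/

namespace Cfsg.Agent.Lib.Helper4.SwapWord

open Equiv

variable {Ω : Type*} [DecidableEq Ω]

/-- the homomorphism `Perm (Fin k) →* Perm Ω` induced by an injective `k`-tuple of points -/
noncomputable def tupleHom {k : ℕ} (v : Fin k → Ω) (hv : Function.Injective v) :
    Perm (Fin k) →* Perm Ω :=
  Perm.viaEmbeddingHom ⟨v, hv⟩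

theorem tupleHom_apply {k : ℕ} (v : Fin k → Ω) (hv : Function.Injective v) (σ : Perm (Fin k))
    (i : Fin k) : tupleHom v hv σ (v i) = v (σ i) := by
  have := Perm.viaEmbedding_apply σ ⟨v, hv⟩ i
  exact this

theorem tupleHom_apply_of_notMem {k : ℕ} (v : Fin k → Ω) (hv : Function.Injective v)
    (σ : Perm (Fin k)) (x : Ω) (hx : x ∉ Set.range v) : tupleHom v hv σ x = x :=
  Perm.viaEmbedding_apply_of_notMem σ ⟨v, hv⟩ x hx

theorem tupleHom_swap {k : ℕ} (v : Fin k → Ω) (hv : Function.Injective v) (i j : Fin k) :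
    tupleHom v hv (swap i j) = swap (v i) (v j) := by
  ext x
  by_cases hx : x ∈ Set.range v
  · obtain ⟨l, rfl⟩ := hx
    rw [tupleHom_apply]
    by_cases hli : l = i
    · subst hli; simp
    · by_cases hlj : l = j
      · subst hlj; simp
      · rw [swap_apply_of_ne_of_ne hli hlj,
          swap_apply_of_ne_of_ne (fun h => hli (hv h)) (fun h => hlj (hv h))]
  · rw [tupleHom_apply_of_notMem _ _ _ _ hx]
    have h1 : x ≠ v i := fun h => hx ⟨i, h.symm⟩
    have h2 : x ≠ v j := fun h => hx ⟨j, h.symm⟩
    rw [swap_apply_of_ne_of_ne h1 h2]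

end Cfsg.Agent.Lib.Helper4.SwapWord
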