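import Mathlib

/-! Arithmetic for Sylow `r`-subgroups of classical groups, `r` larger than the Weyl group primes. -/

namespace Cfsg.Agent.Lib.Helper4.SylLarge

variable {q r : ℕ} [hr : Fact r.Prime]

theorem cast_ne_zero' (hrq : ¬ r ∣ q) : (q : ZMod r) ≠ 0 := by
  rw [Ne, CharP.cast_eq_zero_iff (ZMod r) r]
  exact hrq

theorem orderOf_pos' (hrq : ¬ r ∣ q) : 0 < orderOf (q : ZMod r) := by
  have := ZMod.pow_card_sub_one_eq_one (cast_ne_zero' hrq)
  have h2 := hr.out.two_le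
  exact orderOf_pos_iff.mpr (isOfFinOrder_iff_pow_eq_one.mpr ⟨r - 1, by omega, this⟩)

theorem dvd_pow_sub_one_iff (hq : 0 < q) (j : ℕ) :
    r ∣ q ^ j - 1 ↔ orderOf (q : ZMod r) ∣ j := by
  rw [orderOf_dvd_iff_pow_eq_one, ← CharP.cast_eq_zero_iff (ZMod r) r,
    Nat.cast_sub (Nat.one_le_pow _ _ hq), sub_eq_zero]
  push_cast
  rfl

theorem val_pow_mul (x k : ℕ) (hx1 : 1 ≤ x) (hx : r ∣ x - 1) (hk : 0 < k) (hkr : ¬ r ∣ k) :
    padicValNat r (x ^ k - 1) = padicValNat r (x - 1) := by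
  rcases Nat.eq_or_lt_of_le hx1 with rfl | hx2
  · simp
  have hS : (∑ i ∈ Finset.range k, x ^ i) * (x - 1) = x ^ k - 1 := geom_sum_mul_of_one_le hx1 k
  have hx' : (x : ZMod r) = 1 := by
    have := (CharP.cast_eq_zero_iff (ZMod r) r (x - 1)).mpr hx
    rw [Nat.cast_sub hx1] at this
    push_cast at this
    exact sub_eq_zero.mp this
  have hSne : ¬ r ∣ ∑ i ∈ Finset.range k, x ^ i := by
    rw [← CharP.cast_eq_zero_iff (ZMod r) r]
    push_cast
    rw [hx']
    simp only [one_pow, Finset.sum_const, Finset.card_range, nsmul_eq_mul, mul_one]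
    rw [CharP.cast_eq_zero_iff (ZMod r) r]
    exact hkr
  have hSpos : (∑ i ∈ Finset.range k, x ^ i) ≠ 0 := by
    intro h
    apply hSne
    rw [h]
    exact dvd_zero r
  rw [← hS, padicValNat.mul hSpos (by omega), padicValNat.eq_zero_of_not_dvd hSne, zero_add]

theorem val_cyclotomic (hq : 2 ≤ q) (hrq : ¬ r ∣ q) :
    padicValNat r (q ^ orderOf (q : ZMod r) - 1) =
      padicValNat r ((Polynomial.cyclotomic (orderOf (q : ZMod r)) ℤ).eval (q : ℤ)).natAbs := by
  obtain ⟨d, hd⟩ : ∃ d, d = orderOf (q : ZMod r) := ⟨_, rfl⟩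
  rw [← hd]
  have hdpos : 0 < d := hd ▸ orderOf_pos' hrq
  have h := congrArg (Polynomial.eval (q : ℤ)) (Polynomial.prod_cyclotomic_eq_X_pow_sub_one hdpos ℤ)
  rw [Polynomial.eval_prod] at h
  simp only [Polynomial.eval_sub, Polynomial.eval_pow, Polynomial.eval_X, Polynomial.eval_one] at h
  rw [← Finset.mul_prod_erase _ _ (Nat.mem_divisors_self d hdpos.ne')] at h
  have hnd : ¬ (r : ℤ) ∣ ∏ e ∈ d.divisors.erase d, (Polynomial.cyclotomic e ℤ).eval (q : ℤ) := by
    intro hdvd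
    have hrp : Prime (r : ℤ) := Nat.prime_iff_prime_int.mp hr.out
    obtain ⟨e, he, hre⟩ := hrp.exists_mem_finset_dvd hdvd
    rw [Finset.mem_erase, Nat.mem_divisors] at he
    obtain ⟨hne, hed, -⟩ := he
    have hepos : 0 < e := Nat.pos_of_dvd_of_pos hed hdpos
    have helt : e < d := lt_of_le_of_ne (Nat.le_of_dvd hdpos hed) hne
    have h1 : (Polynomial.cyclotomic e ℤ).eval (q : ℤ) ∣ (q : ℤ) ^ e - 1 := by
      have := Polynomial.eval_dvd (x := (q : ℤ)) (Polynomial.cyclotomic.dvd_X_pow_sub_one e ℤ)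
      simpa using this
    have h2 : (r : ℤ) ∣ ((q ^ e - 1 : ℕ) : ℤ) := by
      rw [Nat.cast_sub (Nat.one_le_pow _ _ (by omega))]
      push_cast
      exact hre.trans h1
    rw [Int.natCast_dvd_natCast, dvd_pow_sub_one_iff (by omega), ← hd] at h2
    exact absurd (Nat.le_of_dvd hepos h2) (by omega)
  have hqd : 1 ≤ q ^ d := Nat.one_le_pow _ _ (by omega)
  have hqd2 : q ^ d - 1 ≠ 0 := by
    have : 2 ^ 1 ≤ q ^ d := (Nat.pow_le_pow_left hq 1).trans (Nat.pow_le_pow_right (by omega) hdpos)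
    omega
  have h3 : q ^ d - 1 = ((Polynomial.cyclotomic d ℤ).eval (q : ℤ)).natAbs *
      (∏ e ∈ d.divisors.erase d, (Polynomial.cyclotomic e ℤ).eval (q : ℤ)).natAbs := by
    rw [← Int.natAbs_mul, h]
    have : ((q : ℤ) ^ d - 1) = ((q ^ d - 1 : ℕ) : ℤ) := by
      rw [Nat.cast_sub hqd]; push_cast; rfl
    rw [this, Int.natAbs_natCast]
  have hA : ((Polynomial.cyclotomic d ℤ).eval (q : ℤ)).natAbs ≠ 0 := by
    intro h0
    rw [h0, zero_mul] at h3
    exact hqd2 h3
  have hB : (∏ e ∈ d.divisors.erase d, (Polynomial.cyclotomic e ℤ).eval (q : ℤ)).natAbs ≠ 0 := by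
    intro h0
    rw [h0, mul_zero] at h3
    exact hqd2 h3
  have hB' : ¬ r ∣ (∏ e ∈ d.divisors.erase d, (Polynomial.cyclotomic e ℤ).eval (q : ℤ)).natAbs := by
    intro hdvd
    exact hnd (Int.natCast_dvd.mpr hdvd)
  rw [h3, padicValNat.mul hA hB, padicValNat.eq_zero_of_not_dvd hB', add_zero]

theorem val_pow_sub_one (hq : 2 ≤ q) (hrq : ¬ r ∣ q) (N j : ℕ) (hN : N / orderOf (q : ZMod r) < r)
    (hj : j ≤ N) (hj0 : 0 < j) :
    padicValNat r (q ^ j - 1) = if orderOf (q : ZMod r) ∣ j then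
      padicValNat r (q ^ orderOf (q : ZMod r) - 1) else 0 := by
  obtain ⟨d, hd⟩ : ∃ d, d = orderOf (q : ZMod r) := ⟨_, rfl⟩
  rw [← hd] at hN ⊢
  have hdpos : 0 < d := hd ▸ orderOf_pos' hrq
  split_ifs with hdj
  · obtain ⟨k, rfl⟩ := hdj
    have hkpos : 0 < k := Nat.pos_of_mul_pos_left hj0 |> fun h => by
      rcases Nat.eq_zero_or_pos k with rfl | h'
      · simp at hj0
      · exact h'
    have hk : k ≤ N / d := by
      rw [Nat.le_div_iff_mul_le hdpos, mul_comm]
      exact hj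
    have hkr : ¬ r ∣ k := fun h => absurd (Nat.le_of_dvd hkpos h) (by omega)
    rw [pow_mul]
    apply val_pow_mul _ _ (Nat.one_le_pow _ _ (by omega)) _ hkpos hkr
    rw [dvd_pow_sub_one_iff (by omega), ← hd]
  · apply padicValNat.eq_zero_of_not_dvd
    rw [dvd_pow_sub_one_iff (by omega), ← hd]
    exact hdj

theorem factorization_card_GL (hq : 2 ≤ q) (hrq : ¬ r ∣ q) (N : ℕ)
    (hN : N / orderOf (q : ZMod r) < r) :
    (∏ i : Fin N, (q ^ N - q ^ (i : ℕ))).factorization r =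
      (N / orderOf (q : ZMod r)) * padicValNat r (q ^ orderOf (q : ZMod r) - 1) := by
  obtain ⟨d, hd⟩ : ∃ d, d = orderOf (q : ZMod r) := ⟨_, rfl⟩
  have hdpos : 0 < d := hd ▸ orderOf_pos' hrq
  rw [Fin.prod_univ_eq_prod_range (fun i => q ^ N - q ^ i) N]
  have hne : ∀ i ∈ Finset.range N, q ^ N - q ^ i ≠ 0 := by
    intro i hi
    rw [Finset.mem_range] at hi
    have : q ^ i < q ^ N := Nat.pow_lt_pow_right (by omega) hi
    omega
  rw [Nat.factorization_prod hne, Finsupp.finset_sum_apply]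
  have hterm : ∀ i ∈ Finset.range N, (q ^ N - q ^ i).factorization r
      = padicValNat r (q ^ (N - i) - 1) := by
    intro i hi
    rw [Finset.mem_range] at hi
    have h1 : q ^ N - q ^ i = q ^ i * (q ^ (N - i) - 1) := by
      rw [Nat.mul_sub, mul_one, ← pow_add, Nat.add_sub_cancel' hi.le]
    have h2 : q ^ (N - i) - 1 ≠ 0 := by
      have : 2 ^ 1 ≤ q ^ (N - i) :=
        (Nat.pow_le_pow_left hq 1).trans (Nat.pow_le_pow_right (by omega) (by omega))
      omega
    rw [← Nat.factorization_def _ hr.out, h1, Nat.factorization_mul (by positivity) h2,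
      Finsupp.add_apply, Nat.factorization_pow, Finsupp.smul_apply,
      Nat.factorization_eq_zero_of_not_dvd hrq, smul_zero, zero_add]
  rw [Finset.sum_congr rfl hterm]
  have hrefl := Finset.sum_range_reflect (fun j => padicValNat r (q ^ (j + 1) - 1)) N
  have hre2 : ∑ i ∈ Finset.range N, padicValNat r (q ^ (N - i) - 1)
      = ∑ j ∈ Finset.range N, padicValNat r (q ^ (N - 1 - j + 1) - 1) := by
    apply Finset.sum_congr rfl
    intro i hi
    rw [Finset.mem_range] at hi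
    congr 3
    omega
  rw [hre2, hrefl]
  have hterm2 : ∀ j ∈ Finset.range N, padicValNat r (q ^ (j + 1) - 1)
      = if d ∣ j + 1 then padicValNat r (q ^ d - 1) else 0 := by
    intro j hj
    rw [Finset.mem_range] at hj
    rw [hd]
    exact val_pow_sub_one hq hrq N (j + 1) hN (by omega) (by omega)
  rw [Finset.sum_congr rfl hterm2, ← Finset.sum_filter, Finset.sum_const, Nat.card_multiples,
    smul_eq_mul, ← hd]

end Cfsg.Agent.Lib.Helper4.SylLarge
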