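import Mathlib
import Cfsg.Agent.Lib.Helper4.SylLarge1

/-! Homocyclic subgroups of `GL_N(F)` and the Sylow `r`-subgroups for `N / d < r`. -/

namespace Cfsg.Agent.Lib.Helper4.SylLarge

open Matrix

section cyc
variable {G : Type*} [Group G]

/-- The homomorphism `ZMod m → G` attached to an element with `M ^ m = 1`. -/
def cycHom (M : G) (m : ℕ) [NeZero m] (hM : M ^ m = 1) : Multiplicative (ZMod m) →* G where
  toFun x := M ^ (Multiplicative.toAdd x).val
  map_one' := by simp
  map_mul' x y := by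
    rw [toAdd_mul, ZMod.val_add, ← pow_eq_pow_mod _ hM, pow_add]

theorem cycHom_injective (M : G) (m : ℕ) [NeZero m] (hM : orderOf M = m) :
    Function.Injective (cycHom M m (hM ▸ pow_orderOf_eq_one M)) := by
  intro x y hxy
  change M ^ (Multiplicative.toAdd x).val = M ^ (Multiplicative.toAdd y).val at hxy
  have hx : (Multiplicative.toAdd x).val ∈ Set.Iio (orderOf M) := by
    rw [hM]; exact ZMod.val_lt _
  have hy : (Multiplicative.toAdd y).val ∈ Set.Iio (orderOf M) := by
    rw [hM]; exact ZMod.val_lt _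
  have := pow_injOn_Iio_orderOf hx hy hxy
  have h2 := ZMod.val_injective m this
  exact Multiplicative.toAdd.injective h2

end cyc

variable {F : Type*} [Field F] [Fintype F]

theorem exists_orderOf_GL (d : ℕ) (hd : 1 ≤ d) (m : ℕ) (hm : m ∣ Fintype.card F ^ d - 1) :
    ∃ M : GL (Fin d) F, orderOf M = m := by
  classical
  obtain ⟨p, hp⟩ := CharP.exists F
  haveI := hp
  haveI : Fact p.Prime := ⟨CharP.char_is_prime F p⟩
  haveI : NeZero d := ⟨by omega⟩
  set q := Fintype.card F with hq
  have hq2 : 2 ≤ q := Fintype.one_lt_card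
  let L := FiniteField.Extension F p d
  have hfr : Module.finrank F L = d := FiniteField.finrank_extension F p d
  have hcL : Nat.card L = q ^ d := by
    rw [FiniteField.natCard_extension F p d, Nat.card_eq_fintype_card]
  haveI : Finite L := Nat.finite_of_card_ne_zero (by rw [hcL]; positivity)
  let b : Module.Basis (Fin d) F L := Module.finBasisOfFinrankEq F L hfr
  let φ : L →ₐ[F] Matrix (Fin d) (Fin d) F := Algebra.leftMulMatrix b
  have hφ : Function.Injective φ := Algebra.leftMulMatrix_injective b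
  obtain ⟨θ, hθ⟩ := IsCyclic.exists_ofOrder_eq_natCard (α := Lˣ)
  have hcardU : Nat.card Lˣ = q ^ d - 1 := by rw [Nat.card_units, hcL]
  let ψ : Lˣ →* GL (Fin d) F := Units.map (φ : L →* Matrix (Fin d) (Fin d) F)
  have hψ : Function.Injective ψ := Units.map_injective hφ
  have hM0 : orderOf (ψ θ) = q ^ d - 1 := by rw [orderOf_injective ψ hψ, hθ, hcardU]
  have hpos : 0 < q ^ d - 1 := by
    have : 2 ^ 1 ≤ q ^ d := (Nat.pow_le_pow_left hq2 1).trans (Nat.pow_le_pow_right (by omega) hd)
    omega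
  obtain ⟨k, hk⟩ := hm
  have hkpos : 0 < k := by
    rcases Nat.eq_zero_or_pos k with rfl | h
    · rw [mul_zero] at hk; omega
    · exact h
  refine ⟨(ψ θ) ^ k, ?_⟩
  rw [orderOf_pow_of_dvd hkpos.ne' (by rw [hM0, hk]; exact Dvd.intro_left m rfl), hM0, hk,
    Nat.mul_div_cancel _ hkpos]

/-- index equivalence -/
def blockEquiv (a d n : ℕ) (h : a * d ≤ n) : (Fin d × Fin a) ⊕ Fin (n - a * d) ≃ Fin n :=
  ((finProdFinEquiv.sumCongr (Equiv.refl _)).trans finSumFinEquiv).trans
    (finCongr (by rw [mul_comm d a]; omega))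

/-- Block diagonal monoid homomorphism. -/
noncomputable def blockHom (a d n : ℕ) (h : a * d ≤ n) :
    (Fin a → Matrix (Fin d) (Fin d) F) →* Matrix (Fin n) (Fin n) F where
  toFun A := Matrix.reindexAlgEquiv F F (blockEquiv a d n h)
    (Matrix.fromBlocks (Matrix.blockDiagonal A) 0 0 1)
  map_one' := by
    rw [Matrix.blockDiagonal_one, Matrix.fromBlocks_one, map_one]
  map_mul' A B := by
    have e : Matrix.blockDiagonal (A * B) = Matrix.blockDiagonal A * Matrix.blockDiagonal B :=
      Matrix.blockDiagonal_mul A B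
    rw [← map_mul, Matrix.fromBlocks_multiply, e]
    simp

theorem blockHom_injective (a d n : ℕ) (h : a * d ≤ n) :
    Function.Injective (blockHom (F := F) a d n h) := by
  intro A B hAB
  have h1 := (Matrix.reindexAlgEquiv F F (blockEquiv a d n h)).injective hAB
  rw [Matrix.fromBlocks_inj] at h1
  exact Matrix.blockDiagonal_injective h1.1

/-- The embedding of a homocyclic group. -/
noncomputable def homocyc (a d n : ℕ) (h : a * d ≤ n) (M : GL (Fin d) F) (m : ℕ) [NeZero m]
    (hM : M ^ m = 1) : (Fin a → Multiplicative (ZMod m)) →* GL (Fin n) F :=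
  ((Units.map (blockHom (F := F) a d n h)).comp
    (MulEquiv.piUnits (M := fun _ : Fin a => Matrix (Fin d) (Fin d) F)).symm.toMonoidHom).comp
    (MonoidHom.pi (fun i => (cycHom M m hM).comp (Pi.evalMonoidHom _ i)))

theorem homocyc_injective (a d n : ℕ) (h : a * d ≤ n) (M : GL (Fin d) F) (m : ℕ) [NeZero m]
    (hM : orderOf M = m) :
    Function.Injective (homocyc a d n h M m (hM ▸ pow_orderOf_eq_one M)) := by
  unfold homocyc
  simp only [MonoidHom.coe_comp]
  refine ((Units.map_injective (blockHom_injective a d n h)).comp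
    (MulEquiv.injective _)).comp ?_
  intro x y hxy
  funext i
  have := congrFun hxy i
  exact cycHom_injective M m hM this

theorem card_homocyc_dom (a m : ℕ) [NeZero m] :
    Nat.card (Fin a → Multiplicative (ZMod m)) = m ^ a := by
  rw [Nat.card_fun, Nat.card_congr Multiplicative.toAdd, Nat.card_zmod, Nat.card_fin]

/-- Any subgroup of `GL_N(F)` of the Sylow order is homocyclic. -/
theorem equiv_of_card {q : ℕ} (hq : Fintype.card F = q) (N r : ℕ) [hr : Fact r.Prime]
    (hrq : ¬ r ∣ q) (hN : N / orderOf (q : ZMod r) < r) (H : Subgroup (GL (Fin N) F))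
    (hH : Nat.card H = (r ^ padicValNat r (q ^ orderOf (q : ZMod r) - 1)) ^
      (N / orderOf (q : ZMod r))) :
    Nonempty (H ≃* (Fin (N / orderOf (q : ZMod r)) →
      Multiplicative (ZMod (r ^ padicValNat r (q ^ orderOf (q : ZMod r) - 1))))) := by
  classical
  obtain ⟨d, hd⟩ : ∃ d, d = orderOf (q : ZMod r) := ⟨_, rfl⟩
  obtain ⟨v, hv⟩ : ∃ v, v = padicValNat r (q ^ d - 1) := ⟨_, rfl⟩
  rw [← hd] at hN hH ⊢
  rw [← hv] at hH ⊢
  have hq2 : 2 ≤ q := hq ▸ Fintype.one_lt_card
  have hdpos : 0 < d := hd ▸ orderOf_pos' hrq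
  have hcardG : (Nat.card (GL (Fin N) F)).factorization r = (N / d) * v := by
    rw [Matrix.card_GL_field, hq, hd, hv, hd]
    exact factorization_card_GL hq2 hrq N (hd ▸ hN)
  haveI : NeZero (r ^ v) := ⟨pow_ne_zero _ hr.out.ne_zero⟩
  have hmdvd : r ^ v ∣ Fintype.card F ^ d - 1 := by
    rw [hq, hv]
    exact pow_padicValNat_dvd
  obtain ⟨M, hM⟩ := exists_orderOf_GL (F := F) d hdpos (r ^ v) hmdvd
  have hle : N / d * d ≤ N := Nat.div_mul_le_self N d
  have hinj := homocyc_injective (N / d) d N hle M (r ^ v) hM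
  set ι := homocyc (N / d) d N hle M (r ^ v) (hM ▸ pow_orderOf_eq_one M) with hι
  have hRcard : Nat.card ι.range = r ^ (Nat.card (GL (Fin N) F)).factorization r := by
    rw [← Nat.card_congr (MonoidHom.ofInjective hinj).toEquiv, card_homocyc_dom, hcardG,
      ← pow_mul, mul_comm]
  have hHcard : Nat.card H = r ^ (Nat.card (GL (Fin N) F)).factorization r := by
    rw [hH, hcardG, ← pow_mul, mul_comm]
  let P₁ : Sylow r (GL (Fin N) F) := Sylow.ofCard H hHcard
  let P₂ : Sylow r (GL (Fin N) F) := Sylow.ofCard ι.range hRcard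
  have e1 : H ≃* ι.range := Sylow.equiv P₁ P₂
  exact ⟨e1.trans (MonoidHom.ofInjective hinj).symm⟩

end Cfsg.Agent.Lib.Helper4.SylLarge
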