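import Mathlib
import Cfsg.Agent.Lib.Helper4.SylLarge2

/-! Sylow `r`-subgroups of `GL_N(F)` for `N / d < r`. -/

namespace Cfsg.Agent.Lib.Helper4.SylLarge

open Matrix

variable {F : Type*} [Field F] [Fintype F]

theorem card_sylow_GL {q : ℕ} (hq : Fintype.card F = q) (N r : ℕ) [hr : Fact r.Prime]
    (hrq : ¬ r ∣ q) (hN : N / orderOf (q : ZMod r) < r) (P : Sylow r (GL (Fin N) F)) :
    Nat.card P = (r ^ padicValNat r (q ^ orderOf (q : ZMod r) - 1)) ^
      (N / orderOf (q : ZMod r)) := by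
  have hq2 : 2 ≤ q := hq ▸ Fintype.one_lt_card
  rw [Sylow.card_eq_multiplicity, Matrix.card_GL_field, hq, factorization_card_GL hq2 hrq N hN,
    ← pow_mul, mul_comm]

theorem sylow_GL {q : ℕ} (hq : Fintype.card F = q) (N r : ℕ) [hr : Fact r.Prime]
    (hrq : ¬ r ∣ q) (hN : N / orderOf (q : ZMod r) < r) (P : Sylow r (GL (Fin N) F)) :
    Nonempty (↥(P : Subgroup (GL (Fin N) F)) ≃* (Fin (N / orderOf (q : ZMod r)) →
      Multiplicative (ZMod (r ^ padicValNat r
        ((Polynomial.cyclotomic (orderOf (q : ZMod r)) ℤ).eval (q : ℤ)).natAbs)))) := by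
  have hq2 : 2 ≤ q := hq ▸ Fintype.one_lt_card
  rw [← val_cyclotomic hq2 hrq]
  exact equiv_of_card hq N r hrq hN (P : Subgroup (GL (Fin N) F)) (card_sylow_GL hq N r hrq hN P)

end Cfsg.Agent.Lib.Helper4.SylLarge
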