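import Mathlib
import Cfsg.Agent.Lib.Helper4.SylLarge3
import Cfsg.Agent.Lib.Helper4.SLCard

/-! Sylow `r`-subgroups of `SL_n(F)` for `n < r`. -/

namespace Cfsg.Agent.Lib.Helper4.SylLarge

open Matrix

variable {F : Type*} [Field F] [Fintype F]

/-- diagonal embedding of `(C_m)^k` in `SL_{k+1}`. -/
noncomputable def diagFun (k : ℕ) (x : Fin k → Fˣ) : Fin (k + 1) → Fˣ :=
  Fin.snoc (α := fun _ => Fˣ) x (∏ i, x i)⁻¹

theorem diagFun_mul (k : ℕ) (x y : Fin k → Fˣ) :
    diagFun k (x * y) = diagFun k x * diagFun k y := by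
  funext j
  refine Fin.lastCases ?_ (fun i => ?_) j
  · simp only [diagFun, Fin.snoc_last, Pi.mul_apply, Finset.prod_mul_distrib, mul_inv]
  · simp only [diagFun, Fin.snoc_castSucc, Pi.mul_apply]

theorem diagFun_one (k : ℕ) : diagFun (F := F) k 1 = 1 := by
  funext j
  refine Fin.lastCases ?_ (fun i => ?_) j
  · simp [diagFun]
  · simp [diagFun]

theorem prod_diagFun (k : ℕ) (x : Fin k → Fˣ) : ∏ j, diagFun k x j = 1 := by
  rw [Fin.prod_univ_castSucc]
  simp only [diagFun, Fin.snoc_castSucc, Fin.snoc_last]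
  exact mul_inv_cancel _

noncomputable def diagSL (k : ℕ) : (Fin k → Fˣ) →* Matrix.SpecialLinearGroup (Fin (k + 1)) F where
  toFun x := ⟨Matrix.diagonal (fun j => ((diagFun k x j : Fˣ) : F)), by
    rw [Matrix.det_diagonal]
    have := congrArg Units.val (prod_diagFun k x)
    rw [Units.coe_prod] at this
    simpa using this⟩
  map_one' := by
    apply Subtype.ext
    simp [diagFun_one]
  map_mul' x y := by
    apply Subtype.ext
    show Matrix.diagonal _ = Matrix.diagonal _ * Matrix.diagonal _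
    rw [Matrix.diagonal_mul_diagonal, diagFun_mul]
    simp only [Pi.mul_apply, Units.val_mul]

theorem diagSL_injective (k : ℕ) : Function.Injective (diagSL (F := F) k) := by
  intro x y hxy
  have h1 := congrArg Subtype.val hxy
  change Matrix.diagonal _ = Matrix.diagonal _ at h1
  have h2 := Matrix.diagonal_injective h1
  funext i
  have h3 := congrFun h2 (Fin.castSucc i)
  simp only [diagFun, Fin.snoc_castSucc] at h3
  exact Units.ext h3

theorem exists_orderOf_units (m : ℕ) (hm : m ∣ Fintype.card F - 1) :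
    ∃ θ : Fˣ, orderOf θ = m := by
  obtain ⟨g, hg⟩ := IsCyclic.exists_ofOrder_eq_natCard (α := Fˣ)
  have hcard : Nat.card Fˣ = Fintype.card F - 1 := by
    rw [Nat.card_units, Nat.card_eq_fintype_card]
  have hpos : 0 < Fintype.card F - 1 := by
    have := Fintype.one_lt_card (α := F)
    omega
  obtain ⟨k, hk⟩ := hm
  have hkpos : 0 < k := by
    rcases Nat.eq_zero_or_pos k with rfl | h
    · rw [mul_zero] at hk; omega
    · exact h
  refine ⟨g ^ k, ?_⟩
  rw [orderOf_pow_of_dvd hkpos.ne' (by rw [hg, hcard, hk]; exact Dvd.intro_left m rfl), hg, hcard,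
    hk, Nat.mul_div_cancel _ hkpos]

theorem filter_Icc_two (n d : ℕ) (hd : 2 ≤ d) :
    ((Finset.Icc 2 n).filter (fun i => d ∣ i)).card = n / d := by
  rw [← Nat.Ioc_filter_dvd_card_eq_div]
  congr 1
  ext i
  simp only [Finset.mem_filter, Finset.mem_Icc, Finset.mem_Ioc]
  constructor
  · rintro ⟨⟨h1, h2⟩, h3⟩
    exact ⟨⟨by omega, h2⟩, h3⟩
  · rintro ⟨⟨h1, h2⟩, h3⟩
    have := Nat.le_of_dvd h1 h3
    exact ⟨⟨by omega, h2⟩, h3⟩

theorem filter_Icc_one (n : ℕ) :
    ((Finset.Icc 2 n).filter (fun i => 1 ∣ i)).card = n - 1 := by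
  simp only [one_dvd, Finset.filter_true, Nat.card_Icc]
  omega

theorem sylow_SL {q : ℕ} (hq : Fintype.card F = q) (n r : ℕ) [hr : Fact r.Prime]
    (hrn : n < r) (hrq : ¬ r ∣ q) (P : Sylow r (Matrix.SpecialLinearGroup (Fin n) F)) :
    Nonempty (↥(P : Subgroup (Matrix.SpecialLinearGroup (Fin n) F)) ≃*
      (Fin ((Finset.Icc 2 n).filter (fun i => orderOf (q : ZMod r) ∣ i)).card →
        Multiplicative (ZMod (r ^ padicValNat r
          ((Polynomial.cyclotomic (orderOf (q : ZMod r)) ℤ).eval (q : ℤ)).natAbs)))) := by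
  classical
  have hq2 : 2 ≤ q := hq ▸ Fintype.one_lt_card
  rw [← val_cyclotomic hq2 hrq]
  obtain ⟨d, hd⟩ : ∃ d, d = orderOf (q : ZMod r) := ⟨_, rfl⟩
  obtain ⟨v, hv⟩ : ∃ v, v = padicValNat r (q ^ d - 1) := ⟨_, rfl⟩
  rw [← hd, ← hv]
  have hdpos : 0 < d := hd ▸ orderOf_pos' hrq
  haveI : NeZero (r ^ v) := ⟨pow_ne_zero _ hr.out.ne_zero⟩
  rcases Nat.eq_zero_or_pos n with rfl | hnpos
  · -- trivial group
    have hcard0 : ((Finset.Icc 2 0).filter (fun i => d ∣ i)).card = 0 := by simp
    rw [hcard0]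
    haveI : Subsingleton (Matrix.SpecialLinearGroup (Fin 0) F) :=
      ⟨fun a b => Subtype.ext (Subsingleton.elim _ _)⟩
    haveI : Unique (↥(P : Subgroup (Matrix.SpecialLinearGroup (Fin 0) F))) :=
      ⟨⟨1⟩, fun a => Subsingleton.elim _ _⟩
    exact ⟨MulEquiv.ofUnique⟩
  have hN : n / d < r := lt_of_le_of_lt (Nat.div_le_self _ _) hrn
  have hGL : (Nat.card (GL (Fin n) F)).factorization r = (n / d) * v := by
    rw [Matrix.card_GL_field, hq, hd, hv, hd]
    exact factorization_card_GL hq2 hrq n (hd ▸ hN)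
  have hSLGL := Cfsg.Agent.Lib.Helper4.card_SL_mul (F := F) n hnpos
  rw [hq] at hSLGL
  have hq1 : q - 1 ≠ 0 := by omega
  have hSLne : Nat.card (Matrix.SpecialLinearGroup (Fin n) F) ≠ 0 := Nat.card_pos.ne'
  have hfac : (Nat.card (Matrix.SpecialLinearGroup (Fin n) F)).factorization r
      + (q - 1).factorization r = (n / d) * v := by
    rw [← hGL, ← hSLGL, Nat.factorization_mul hSLne hq1, Finsupp.add_apply]
  have hPcard := Sylow.card_eq_multiplicity P
  rcases Nat.lt_or_ge 1 d with hd2 | hd1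
  · -- d ≥ 2
    rw [filter_Icc_two n d hd2]
    have hq1' : (q - 1).factorization r = 0 := by
      apply Nat.factorization_eq_zero_of_not_dvd
      have := dvd_pow_sub_one_iff (r := r) (q := q) (by omega) 1
      rw [pow_one, ← hd] at this
      rw [this]
      intro h
      have := Nat.le_of_dvd one_pos h
      omega
    rw [hq1', add_zero] at hfac
    -- map into GL
    let H : Subgroup (GL (Fin n) F) :=
      (P : Subgroup (Matrix.SpecialLinearGroup (Fin n) F)).map Matrix.SpecialLinearGroup.toGL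
    have e1 : ↥(P : Subgroup (Matrix.SpecialLinearGroup (Fin n) F)) ≃* H :=
      Subgroup.equivMapOfInjective _ _ Matrix.SpecialLinearGroup.toGL_injective
    have hHcard : Nat.card H = (r ^ v) ^ (n / d) := by
      rw [← Nat.card_congr e1.toEquiv, hPcard, hfac, ← pow_mul, mul_comm]
    have hH' : Nat.card H = (r ^ padicValNat r (q ^ orderOf (q : ZMod r) - 1)) ^
        (n / orderOf (q : ZMod r)) := by
      rw [← hd, ← hv]; exact hHcard
    obtain ⟨e2⟩ := equiv_of_card hq n r hrq (hd ▸ hN) H hH'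
    rw [← hd, ← hv] at e2
    exact ⟨e1.trans e2⟩
  · -- d = 1
    have hd1' : d = 1 := by omega
    rw [hd1', filter_Icc_one]
    rw [hd1', pow_one] at hv
    have hq1' : (q - 1).factorization r = v := by
      rw [hv, Nat.factorization_def _ hr.out]
    rw [hq1', hd1', Nat.div_one] at hfac
    have hSLfac : (Nat.card (Matrix.SpecialLinearGroup (Fin n) F)).factorization r
        = (n - 1) * v := by
      have : n * v = (n - 1) * v + v := by
        rw [← Nat.succ_mul, Nat.succ_eq_add_one, Nat.sub_add_cancel hnpos]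
      omega
    obtain ⟨k, rfl⟩ : ∃ k, n = k + 1 := ⟨n - 1, by omega⟩
    rw [Nat.add_sub_cancel] at hSLfac ⊢
    have hmdvd : r ^ v ∣ Fintype.card F - 1 := by
      rw [hq, hv]
      exact pow_padicValNat_dvd
    obtain ⟨θ, hθ⟩ := exists_orderOf_units (F := F) (r ^ v) hmdvd
    let κ : (Fin k → Multiplicative (ZMod (r ^ v))) →* Matrix.SpecialLinearGroup (Fin (k + 1)) F :=
      (diagSL k).comp (MonoidHom.pi (fun i =>
        (cycHom θ (r ^ v) (hθ ▸ pow_orderOf_eq_one θ)).comp (Pi.evalMonoidHom _ i)))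
    have hκ : Function.Injective κ := by
      refine (diagSL_injective k).comp ?_
      intro x y hxy
      funext i
      have := congrFun hxy i
      exact cycHom_injective θ (r ^ v) hθ this
    have hRcard : Nat.card κ.range
        = r ^ (Nat.card (Matrix.SpecialLinearGroup (Fin (k + 1)) F)).factorization r := by
      rw [← Nat.card_congr (MonoidHom.ofInjective hκ).toEquiv, card_homocyc_dom, hSLfac,
        ← pow_mul, mul_comm]
    let P₂ : Sylow r (Matrix.SpecialLinearGroup (Fin (k + 1)) F) := Sylow.ofCard κ.range hRcard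
    have e1 : ↥(P : Subgroup (Matrix.SpecialLinearGroup (Fin (k + 1)) F)) ≃* κ.range :=
      Sylow.equiv P P₂
    exact ⟨e1.trans (MonoidHom.ofInjective hκ).symm⟩

end Cfsg.Agent.Lib.Helper4.SylLarge
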