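import Mathlib
import Cfsg.Agent.Lib.Helper4.SylLarge3
import Cfsg.Agent.Lib.Helper5.SympCard

/-! Sylow `r`-subgroups of `Sp_{2n}(F)` for `n < r`, `r` odd. -/

namespace Cfsg.Agent.Lib.Helper4.SylLarge

open Matrix

section arith
variable {q r : ℕ} [hr : Fact r.Prime]

theorem val_pow_sub_one' (hq : 2 ≤ q) (hrq : ¬ r ∣ q) (j : ℕ) (hj0 : 0 < j)
    (hjr : orderOf (q : ZMod r) ∣ j → ¬ r ∣ j / orderOf (q : ZMod r)) :
    padicValNat r (q ^ j - 1) = if orderOf (q : ZMod r) ∣ j then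
      padicValNat r (q ^ orderOf (q : ZMod r) - 1) else 0 := by
  obtain ⟨d, hd⟩ : ∃ d, d = orderOf (q : ZMod r) := ⟨_, rfl⟩
  rw [← hd] at hjr ⊢
  have hdpos : 0 < d := hd ▸ orderOf_pos' hrq
  split_ifs with hdj
  · have hkr := hjr hdj
    obtain ⟨k, rfl⟩ := hdj
    rw [Nat.mul_div_cancel_left _ hdpos] at hkr
    have hkpos : 0 < k := by
      rcases Nat.eq_zero_or_pos k with rfl | h'
      · simp at hj0
      · exact h'
    rw [pow_mul]
    apply val_pow_mul _ _ (Nat.one_le_pow _ _ (by omega)) _ hkpos hkr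
    rw [dvd_pow_sub_one_iff (by omega), ← hd]
  · apply padicValNat.eq_zero_of_not_dvd
    rw [dvd_pow_sub_one_iff (by omega), ← hd]
    exact hdj

theorem factorization_card_Sp (hq : 2 ≤ q) (hrq : ¬ r ∣ q) (hr2 : r ≠ 2) (n : ℕ) (hn : n < r) :
    (q ^ (n ^ 2) * ∏ i ∈ Finset.range n, (q ^ (2 * (i + 1)) - 1)).factorization r =
      ((Finset.Icc 1 n).filter (fun i => orderOf (q : ZMod r) ∣ 2 * i)).card *
        padicValNat r (q ^ orderOf (q : ZMod r) - 1) := by
  obtain ⟨d, hd⟩ : ∃ d, d = orderOf (q : ZMod r) := ⟨_, rfl⟩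
  rw [← hd]
  have hdpos : 0 < d := hd ▸ orderOf_pos' hrq
  have hne : ∀ i ∈ Finset.range n, q ^ (2 * (i + 1)) - 1 ≠ 0 := by
    intro i _
    have : 2 ^ 1 ≤ q ^ (2 * (i + 1)) :=
      (Nat.pow_le_pow_left hq 1).trans (Nat.pow_le_pow_right (by omega) (by omega))
    omega
  have hprodne : (∏ i ∈ Finset.range n, (q ^ (2 * (i + 1)) - 1)) ≠ 0 :=
    Finset.prod_ne_zero_iff.mpr hne
  rw [Nat.factorization_mul (by positivity) hprodne, Finsupp.add_apply, Nat.factorization_pow,
    Finsupp.smul_apply, Nat.factorization_eq_zero_of_not_dvd hrq, smul_zero, zero_add,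
    Nat.factorization_prod hne, Finsupp.finset_sum_apply]
  have hterm : ∀ i ∈ Finset.range n, (q ^ (2 * (i + 1)) - 1).factorization r
      = if d ∣ 2 * (i + 1) then padicValNat r (q ^ d - 1) else 0 := by
    intro i hi
    rw [Finset.mem_range] at hi
    rw [Nat.factorization_def _ hr.out, hd]
    apply val_pow_sub_one' hq hrq _ (by omega)
    intro hdvd hrdvd
    have h1 : r ∣ 2 * (i + 1) := hrdvd.trans (Nat.div_dvd_of_dvd hdvd)
    rcases (Nat.Prime.dvd_mul hr.out).mp h1 with h | h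
    · have := (Nat.prime_dvd_prime_iff_eq hr.out Nat.prime_two).mp h
      exact hr2 this
    · have := Nat.le_of_dvd (by omega) h
      omega
  rw [Finset.sum_congr rfl hterm, ← Finset.sum_filter, Finset.sum_const, smul_eq_mul]
  congr 1
  apply Finset.card_bij (fun i _ => i + 1)
  · intro i hi
    rw [Finset.mem_filter, Finset.mem_range] at hi
    rw [Finset.mem_filter, Finset.mem_Icc]
    exact ⟨⟨by omega, by omega⟩, hi.2⟩
  · intro i _ j _ h
    omega
  · intro j hj
    rw [Finset.mem_filter, Finset.mem_Icc] at hj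
    refine ⟨j - 1, ?_, by omega⟩
    rw [Finset.mem_filter, Finset.mem_range]
    refine ⟨by omega, ?_⟩
    rw [Nat.sub_add_cancel hj.1.1]
    exact hj.2

theorem filter_even (n e : ℕ) (he : 0 < e) :
    ((Finset.Icc 1 n).filter (fun i => 2 * e ∣ 2 * i)).card = n / e := by
  rw [← Nat.Ioc_filter_dvd_card_eq_div]
  congr 1
  ext i
  simp only [Finset.mem_filter, Finset.mem_Icc, Finset.mem_Ioc]
  rw [Nat.mul_dvd_mul_iff_left (by norm_num : 0 < 2)]
  constructor
  · rintro ⟨⟨h1, h2⟩, h3⟩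
    exact ⟨⟨by omega, h2⟩, h3⟩
  · rintro ⟨⟨h1, h2⟩, h3⟩
    exact ⟨⟨by omega, h2⟩, h3⟩

theorem filter_odd (n d : ℕ) (hd : ¬ 2 ∣ d) :
    ((Finset.Icc 1 n).filter (fun i => d ∣ 2 * i)).card = n / d := by
  rw [← Nat.Ioc_filter_dvd_card_eq_div]
  congr 1
  ext i
  simp only [Finset.mem_filter, Finset.mem_Icc, Finset.mem_Ioc]
  have hcop : Nat.Coprime d 2 := by
    rw [Nat.coprime_comm]
    exact (Nat.Prime.coprime_iff_not_dvd Nat.prime_two).mpr hd
  rw [hcop.dvd_mul_left]
  constructor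
  · rintro ⟨⟨h1, h2⟩, h3⟩
    exact ⟨⟨by omega, h2⟩, h3⟩
  · rintro ⟨⟨h1, h2⟩, h3⟩
    exact ⟨⟨by omega, h2⟩, h3⟩

end arith

variable {F : Type*} [Field F] [Fintype F]

/-- `A ↦ diag(A, A⁻ᵀ)`. -/
noncomputable def glToSp (n : ℕ) : GL (Fin n) F →* symplecticGroup (Fin n) F where
  toFun A := ⟨Matrix.fromBlocks (A : Matrix (Fin n) (Fin n) F) 0 0
      ((A⁻¹ : GL (Fin n) F) : Matrix (Fin n) (Fin n) F)ᵀ, by
    have h1 : (A : Matrix (Fin n) (Fin n) F) * ((A⁻¹ : GL (Fin n) F) : Matrix (Fin n) (Fin n) F)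
        = 1 := by
      rw [← Units.val_mul, mul_inv_cancel, Units.val_one]
    rw [SymplecticGroup.mem_iff, Matrix.J, Matrix.fromBlocks_transpose,
      Matrix.fromBlocks_multiply, Matrix.fromBlocks_multiply]
    simp only [Matrix.mul_zero, Matrix.zero_mul, add_zero, zero_add, Matrix.mul_one,
      Matrix.transpose_zero, Matrix.mul_neg, Matrix.neg_mul, Matrix.transpose_transpose, h1,
      ← Matrix.transpose_mul]
    simp⟩
  map_one' := by
    apply Subtype.ext
    simp [Matrix.fromBlocks_one]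
  map_mul' A B := by
    apply Subtype.ext
    rw [Submonoid.coe_mul]
    have e : (((A * B)⁻¹ : GL (Fin n) F) : Matrix (Fin n) (Fin n) F)ᵀ
        = ((A⁻¹ : GL (Fin n) F) : Matrix (Fin n) (Fin n) F)ᵀ
          * ((B⁻¹ : GL (Fin n) F) : Matrix (Fin n) (Fin n) F)ᵀ := by
      rw [_root_.mul_inv_rev, Units.val_mul, Matrix.transpose_mul]
    simp only [Matrix.fromBlocks_multiply, Matrix.mul_zero, Matrix.zero_mul, add_zero, zero_add,
      Units.val_mul]
    rw [e]

theorem glToSp_injective (n : ℕ) : Function.Injective (glToSp (F := F) n) := by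
  intro A B hAB
  have h1 := congrArg Subtype.val hAB
  change Matrix.fromBlocks _ _ _ _ = Matrix.fromBlocks _ _ _ _ at h1
  rw [Matrix.fromBlocks_inj] at h1
  exact Units.ext h1.1

/-- The embedding `Sp_{2n}(F) → GL_{n+n}(F)`. -/
noncomputable def spToGL (n : ℕ) : symplecticGroup (Fin n) F →* GL (Fin (n + n)) F :=
  (Units.mapEquiv (Matrix.reindexAlgEquiv F F finSumFinEquiv).toMulEquiv).toMonoidHom.comp
    (MonoidHom.toHomUnits (symplecticGroup (Fin n) F).subtype)

theorem spToGL_injective (n : ℕ) : Function.Injective (spToGL (F := F) n) := by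
  unfold spToGL
  simp only [MonoidHom.coe_comp]
  refine (MulEquiv.injective _).comp ?_
  intro A B hAB
  have := congrArg Units.val hAB
  rw [MonoidHom.coe_toHomUnits, MonoidHom.coe_toHomUnits] at this
  exact Subtype.ext this

theorem sylow_Sp {q : ℕ} (hq : Fintype.card F = q) (n r : ℕ) [hr : Fact r.Prime] (hr2 : r ≠ 2)
    (hrn : n < r) (hrq : ¬ r ∣ q) (P : Sylow r ↥(Matrix.symplecticGroup (Fin n) F)) :
    Nonempty (↥(P : Subgroup ↥(Matrix.symplecticGroup (Fin n) F)) ≃*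
      (Fin ((Finset.Icc 1 n).filter (fun i => orderOf (q : ZMod r) ∣ 2 * i)).card →
        Multiplicative (ZMod (r ^ padicValNat r
          ((Polynomial.cyclotomic (orderOf (q : ZMod r)) ℤ).eval (q : ℤ)).natAbs)))) := by
  classical
  have hq2 : 2 ≤ q := hq ▸ Fintype.one_lt_card
  rw [← val_cyclotomic hq2 hrq]
  have hcardSp : (Nat.card (symplecticGroup (Fin n) F)).factorization r =
      ((Finset.Icc 1 n).filter (fun i => orderOf (q : ZMod r) ∣ 2 * i)).card *
        padicValNat r (q ^ orderOf (q : ZMod r) - 1) := by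
    rw [Cfsg.Agent.Lib.Helper5.SympCard.card_symplecticGroup, hq]
    exact factorization_card_Sp hq2 hrq hr2 n hrn
  obtain ⟨d, hd⟩ : ∃ d, d = orderOf (q : ZMod r) := ⟨_, rfl⟩
  obtain ⟨v, hv⟩ : ∃ v, v = padicValNat r (q ^ d - 1) := ⟨_, rfl⟩
  rw [← hd, ← hv] at hcardSp
  rw [← hd, ← hv]
  have hdpos : 0 < d := hd ▸ orderOf_pos' hrq
  haveI : NeZero (r ^ v) := ⟨pow_ne_zero _ hr.out.ne_zero⟩
  have hPcard := Sylow.card_eq_multiplicity P
  by_cases hpar : 2 ∣ d
  · -- d even
    obtain ⟨e, he⟩ := hpar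
    have hepos : 0 < e := by omega
    have hcnt : ((Finset.Icc 1 n).filter (fun i => d ∣ 2 * i)).card = (n + n) / d := by
      rw [he, filter_even n e hepos, ← two_mul, Nat.mul_div_mul_left _ _ (by norm_num : 0 < 2)]
    rw [hcnt] at hcardSp ⊢
    have hN : (n + n) / d < r := by
      rw [he, ← two_mul, Nat.mul_div_mul_left _ _ (by norm_num : 0 < 2)]
      exact lt_of_le_of_lt (Nat.div_le_self _ _) hrn
    let H : Subgroup (GL (Fin (n + n)) F) :=
      (P : Subgroup ↥(Matrix.symplecticGroup (Fin n) F)).map (spToGL n)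
    have e1 : ↥(P : Subgroup ↥(Matrix.symplecticGroup (Fin n) F)) ≃* H :=
      Subgroup.equivMapOfInjective _ _ (spToGL_injective n)
    have hHcard : Nat.card H = (r ^ v) ^ ((n + n) / d) := by
      rw [← Nat.card_congr e1.toEquiv, hPcard, hcardSp, ← pow_mul, mul_comm]
    have hH' : Nat.card H = (r ^ padicValNat r (q ^ orderOf (q : ZMod r) - 1)) ^
        ((n + n) / orderOf (q : ZMod r)) := by
      rw [← hd, ← hv]; exact hHcard
    obtain ⟨e2⟩ := equiv_of_card hq (n + n) r hrq (hd ▸ hN) H hH'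
    rw [← hd, ← hv] at e2
    exact ⟨e1.trans e2⟩
  · -- d odd
    have hcnt : ((Finset.Icc 1 n).filter (fun i => d ∣ 2 * i)).card = n / d := filter_odd n d hpar
    rw [hcnt] at hcardSp ⊢
    have hmdvd : r ^ v ∣ Fintype.card F ^ d - 1 := by
      rw [hq, hv]
      exact pow_padicValNat_dvd
    obtain ⟨M, hM⟩ := exists_orderOf_GL (F := F) d hdpos (r ^ v) hmdvd
    have hle : n / d * d ≤ n := Nat.div_mul_le_self n d
    have hinj := homocyc_injective (n / d) d n hle M (r ^ v) hM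
    let κ : (Fin (n / d) → Multiplicative (ZMod (r ^ v))) →* symplecticGroup (Fin n) F :=
      (glToSp n).comp (homocyc (n / d) d n hle M (r ^ v) (hM ▸ pow_orderOf_eq_one M))
    have hκ : Function.Injective κ := (glToSp_injective n).comp hinj
    have hRcard : Nat.card κ.range
        = r ^ (Nat.card (symplecticGroup (Fin n) F)).factorization r := by
      rw [← Nat.card_congr (MonoidHom.ofInjective hκ).toEquiv, card_homocyc_dom, hcardSp,
        ← pow_mul, mul_comm]
    let P₂ : Sylow r (symplecticGroup (Fin n) F) := Sylow.ofCard κ.range hRcard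
    have e1 : ↥(P : Subgroup ↥(Matrix.symplecticGroup (Fin n) F)) ≃* κ.range :=
      Sylow.equiv P P₂
    exact ⟨e1.trans (MonoidHom.ofInjective hκ).symm⟩

end Cfsg.Agent.Lib.Helper4.SylLarge
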