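import Cfsg.Agent.Lib.Helper4.SylSym1

/-! Sylow `p`-subgroups of symmetric groups: decomposition along `p ^ k ≤ n < p ^ (k+1)` and the
derived length. -/
set_option autoImplicit false
universe u
open scoped commutatorElement Nat

namespace Cfsg.Agent.Lib.Helper4.SylSym

variable {p : ℕ} [hp : Fact p.Prime]

theorem padicValNat_factorial_split (k n : ℕ) (h1 : p ^ k ≤ n) (h2 : n < p ^ (k + 1)) :
    padicValNat p (n !) = padicValNat p ((p ^ k)!) + padicValNat p ((n - p ^ k)!) := by
  have hlog : Nat.log p n = k := Nat.log_eq_of_pow_le_of_lt_pow h1 h2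
  have hlog2 : Nat.log p (p ^ k) = k := Nat.log_pow hp.out.one_lt k
  have hlog3 : Nat.log p (n - p ^ k) ≤ k := hlog ▸ Nat.log_mono_right (Nat.sub_le _ _)
  rw [padicValNat_factorial (b := k + 1) (by omega), padicValNat_factorial (n := p ^ k) (b := k + 1)
    (by omega), padicValNat_factorial (n := n - p ^ k) (b := k + 1) (by omega),
    ← Finset.sum_add_distrib]
  apply Finset.sum_congr rfl
  intro i hi
  rw [Finset.mem_Ico] at hi
  have hdvd : p ^ i ∣ p ^ k := pow_dvd_pow p (by omega)
  conv_lhs => rw [show n = p ^ k + (n - p ^ k) by omega]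
  exact Nat.add_div_of_dvd_right hdvd

theorem factorization_factorial_split (k n : ℕ) (h1 : p ^ k ≤ n) (h2 : n < p ^ (k + 1)) :
    (n !).factorization p = ((p ^ k)!).factorization p + ((n - p ^ k)!).factorization p := by
  rw [Nat.factorization_def _ hp.out, Nat.factorization_def _ hp.out,
    Nat.factorization_def _ hp.out]
  exact padicValNat_factorial_split k n h1 h2

section sum

variable {α β γ : Type u}

/-- the embedding `Perm β × Perm γ →* Perm α` induced by `e : β ⊕ γ ≃ α`. -/
def sumHom (e : β ⊕ γ ≃ α) : Equiv.Perm β × Equiv.Perm γ →* Equiv.Perm α :=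
  (e.permCongrHom).toMonoidHom.comp (Equiv.Perm.sumCongrHom β γ)

theorem sumHom_injective (e : β ⊕ γ ≃ α) : Function.Injective (sumHom e) :=
  (e.permCongrHom.injective).comp Equiv.Perm.sumCongrHom_injective

theorem sylow_sum_equiv [Finite α] [Finite β] [Finite γ] (e : β ⊕ γ ≃ α)
    (hν : ((Nat.card α)!).factorization p =
      ((Nat.card β)!).factorization p + ((Nat.card γ)!).factorization p)
    (P : Sylow p (Equiv.Perm α)) (Pβ : Sylow p (Equiv.Perm β)) (Pγ : Sylow p (Equiv.Perm γ)) :
    Nonempty (P ≃* Pβ × Pγ) := by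
  obtain ⟨H, hH⟩ : ∃ H : Subgroup (Equiv.Perm α),
      H = ((Pβ : Subgroup _).prod (Pγ : Subgroup _)).map (sumHom e) := ⟨_, rfl⟩
  have hcard : Nat.card H = p ^ (Nat.card (Equiv.Perm α)).factorization p := by
    rw [hH, Subgroup.card_map_of_injective (sumHom_injective e),
      Nat.card_congr (Subgroup.prodEquiv _ _).toEquiv, Nat.card_prod, Pβ.card_eq_multiplicity,
      Pγ.card_eq_multiplicity, Nat.card_perm, Nat.card_perm, Nat.card_perm, hν, pow_add]
  have e1 : P ≃* H := P.equiv (Sylow.ofCard H hcard)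
  have e2 : ((Pβ : Subgroup (Equiv.Perm β)).prod (Pγ : Subgroup (Equiv.Perm γ))) ≃* H := by
    rw [hH]
    exact Subgroup.equivMapOfInjective _ (sumHom e) (sumHom_injective e)
  exact ⟨(e1.trans e2.symm).trans (Subgroup.prodEquiv _ _)⟩

end sum

theorem derivedSeries_prod' (A B : Type u) [Group A] [Group B] (j : ℕ) :
    derivedSeries (A × B) j = (derivedSeries A j).prod (derivedSeries B j) := by
  induction j with
  | zero => simp [Subgroup.top_prod_top]
  | succ j ih =>
    rw [derivedSeries_succ, ih, Subgroup.commutator_prod_prod, derivedSeries_succ,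
      derivedSeries_succ]

theorem derivedSeries_eq_bot_iff_of_mulEquiv {G H : Type*} [Group G] [Group H] (e : G ≃* H)
    (j : ℕ) : derivedSeries G j = ⊥ ↔ derivedSeries H j = ⊥ := by
  rw [← map_derivedSeries_eq (f := e.toMonoidHom) e.surjective j,
    Subgroup.map_eq_bot_iff_of_injective _ e.injective]

theorem main_aux (p : ℕ) [hp : Fact p.Prime] : ∀ (n : ℕ) (α : Type u) [Finite α],
    Nat.card α = n → ∀ P : Sylow p (Equiv.Perm α),
    derivedSeries P (Nat.log p n) = ⊥ ∧
      (1 ≤ Nat.log p n → derivedSeries P (Nat.log p n - 1) ≠ ⊥) := by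
  intro n
  induction n using Nat.strong_induction_on with
  | _ n ih =>
  intro α _ hα P
  rcases Nat.lt_or_ge n p with hnp | hnp
  · rw [Nat.log_of_lt hnp]
    refine ⟨?_, fun h => absurd h (by norm_num)⟩
    have hcard : Nat.card P = 1 := by
      rw [P.card_eq_multiplicity, Nat.card_perm, hα,
        Nat.factorization_factorial_eq_zero_of_lt hnp, pow_zero]
    haveI : Subsingleton P := (Nat.card_eq_one_iff_unique.mp hcard).1
    exact Subsingleton.elim _ _
  · obtain ⟨k, hk⟩ : ∃ k, k = Nat.log p n := ⟨_, rfl⟩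
    rw [← hk]
    have hn0 : n ≠ 0 := by have := hp.out.pos; omega
    have h1 : p ^ k ≤ n := hk ▸ Nat.pow_log_le_self p hn0
    have h2 : n < p ^ (k + 1) := hk ▸ Nat.lt_pow_succ_log_self hp.out.one_lt n
    have hk1 : 1 ≤ k := by
      rw [hk]
      exact Nat.log_pos hp.out.one_lt hnp
    have hpk : 0 < p ^ k := pow_pos hp.out.pos k
    obtain ⟨e⟩ : Nonempty (ULift.{u} (Fin (p ^ k)) ⊕ ULift.{u} (Fin (n - p ^ k)) ≃ α) := by
      rw [← Finite.card_eq, Nat.card_sum, hα]
      simp only [Nat.card_ulift, Nat.card_fin]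
      omega
    have hν : ((Nat.card α)!).factorization p =
        ((Nat.card (ULift.{u} (Fin (p ^ k))))!).factorization p +
          ((Nat.card (ULift.{u} (Fin (n - p ^ k))))!).factorization p := by
      simp only [Nat.card_ulift, Nat.card_fin, hα]
      exact factorization_factorial_split k n h1 h2
    obtain ⟨Pβ⟩ : Nonempty (Sylow p (Equiv.Perm (ULift.{u} (Fin (p ^ k))))) := inferInstance
    obtain ⟨Pγ⟩ : Nonempty (Sylow p (Equiv.Perm (ULift.{u} (Fin (n - p ^ k))))) := inferInstance
    obtain ⟨f⟩ := sylow_sum_equiv e hν P Pβ Pγ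
    have hG : Nat.card (Multiplicative (ZMod p)) = p := by
      rw [Nat.card_eq_fintype_card]; simp [ZMod.card]
    have g := Sylow.mulEquivIteratedWreathProduct p k (ULift.{u} (Fin (p ^ k)))
      (by simp) (Multiplicative (ZMod p)) hG Pβ
    have hcomm : ∀ a b : Multiplicative (ZMod p), a * b = b * a := mul_comm
    obtain ⟨g₀, hg₀⟩ : ∃ g₀ : Multiplicative (ZMod p), g₀ ≠ 1 := by
      haveI : Nontrivial (Multiplicative (ZMod p)) := by
        rw [← Finite.one_lt_card_iff_nontrivial, hG]
        exact hp.out.one_lt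
      exact exists_ne 1
    have hβ1 : derivedSeries Pβ k = ⊥ :=
      (derivedSeries_eq_bot_iff_of_mulEquiv g k).mpr (derivedSeries_iterated_eq_bot _ hcomm k)
    have hβ2 : derivedSeries Pβ (k - 1) ≠ ⊥ := by
      intro h
      have h3 := (derivedSeries_eq_bot_iff_of_mulEquiv g (k - 1)).mp h
      obtain ⟨k', rfl⟩ : ∃ k', k = k' + 1 := ⟨k - 1, by omega⟩
      exact derivedSeries_iterated_ne_bot _ g₀ hg₀ k' h3
    have hγ1 : derivedSeries Pγ k = ⊥ := by
      have hlt : n - p ^ k < n := by omega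
      have h3 := (ih (n - p ^ k) hlt (ULift.{u} (Fin (n - p ^ k))) (by simp) Pγ).1
      have h4 : Nat.log p (n - p ^ k) ≤ k := hk ▸ Nat.log_mono_right (Nat.sub_le _ _)
      rw [eq_bot_iff, ← h3]
      exact derivedSeries_antitone _ h4
    constructor
    · rw [derivedSeries_eq_bot_iff_of_mulEquiv f k, derivedSeries_prod', hβ1, hγ1]
      exact Subgroup.prod_eq_bot_iff.mpr ⟨rfl, rfl⟩
    · intro _ h
      rw [derivedSeries_eq_bot_iff_of_mulEquiv f (k - 1), derivedSeries_prod',
        Subgroup.prod_eq_bot_iff] at h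
      exact hβ2 h.1

/-- A Sylow `p`-subgroup of the symmetric group of degree `n` has derived length `⌊log_p n⌋`. -/
theorem derivedLength_sylow_perm {p : ℕ} [Fact p.Prime] {α : Type u} [Finite α]
    (P : Sylow p (Equiv.Perm α)) :
    derivedSeries P (Nat.log p (Nat.card α)) = ⊥ ∧
      (1 ≤ Nat.log p (Nat.card α) → derivedSeries P (Nat.log p (Nat.card α) - 1) ≠ ⊥) :=
  main_aux p _ α rfl P

end Cfsg.Agent.Lib.Helper4.SylSym
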