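import Cfsg.Agent.Lib.Helper4.SylSym2

/-! Explicit Sylow `p`-subgroups of symmetric groups with good generating sets. -/
set_option autoImplicit false
open scoped Nat

namespace Cfsg.Agent.Lib.Helper4.SylSym

open RegularWreathProduct

/-- a faithful permutation representation whose image is a Sylow `p`-subgroup, together with a
generating set of elements of order dividing `p` whose odd members commute. -/
structure Nice (p : ℕ) {G Λ : Type} [Group G] [Fintype Λ] [DecidableEq Λ]
    (ρ : G →* Equiv.Perm Λ) : Prop where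
  inj : Function.Injective ρ
  card : Nat.card G = p ^ ((Fintype.card Λ)!).factorization p
  gen : ∃ T : Set G, Subgroup.closure T = ⊤ ∧ (∀ t ∈ T, t ^ p = 1) ∧
    ∀ s ∈ T, ∀ t ∈ T, Equiv.Perm.sign (ρ s) = -1 → Equiv.Perm.sign (ρ t) = -1 → s * t = t * s

section wreath

variable {D Q Λ : Type} [Group D] [Group Q] [Fintype Q] [DecidableEq Q] [Fintype Λ]
  [DecidableEq Λ] [MulAction D Λ]

/-- the coordinate embedding of `D` into the base group. -/
def coord (D Q : Type) [Group D] [Group Q] [DecidableEq Q] (x : Q) : D →* D ≀ᵣ Q where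
  toFun d := ⟨Pi.mulSingle x d, 1⟩
  map_one' := by
    ext y
    · simp
    · rfl
  map_mul' a b := by
    ext y
    · simp [mul_left, Pi.mulSingle_mul]
    · simp

omit [Fintype Q] in
theorem coord_right (x : Q) (d : D) : (coord D Q x d).right = 1 := rfl

omit [Fintype Q] in
theorem coord_left (x : Q) (d : D) : (coord D Q x d).left = Pi.mulSingle x d := rfl

theorem sign_toPerm_coord (x : Q) (d : D) :
    Equiv.Perm.sign (toPerm D Q Λ (coord D Q x d)) =
      Equiv.Perm.sign (MulAction.toPerm d : Equiv.Perm Λ) := by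
  have h : toPerm D Q Λ (coord D Q x d) = Equiv.prodCongrLeft
      (fun y => (MulAction.toPerm ((Pi.mulSingle x d : Q → D) y) : Equiv.Perm Λ)) := by
    ext ⟨l, y⟩ <;> simp [toPerm, coord]
  rw [h, Equiv.Perm.sign_prodCongrLeft, Finset.prod_eq_single x]
  · rw [Pi.mulSingle_eq_same]
  · intro y _ hy
    rw [Pi.mulSingle_eq_of_ne hy]
    have : (MulAction.toPerm (1 : D) : Equiv.Perm Λ) = 1 := by ext l; simp
    rw [this, map_one]
  · simp

theorem sign_toPerm_inl (q : Q) :
    Equiv.Perm.sign (toPerm D Q Λ (inl q)) =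
      Equiv.Perm.sign (Equiv.mulLeft q) ^ Fintype.card Λ := by
  have h : toPerm D Q Λ (inl q) = Equiv.prodCongrRight (fun _ : Λ => Equiv.mulLeft q) := by
    ext ⟨l, y⟩ <;> simp [toPerm, inl]
  rw [h, Equiv.Perm.sign_prodCongrRight, Finset.prod_const, Finset.card_univ]

omit [Fintype Q] [DecidableEq Q] in
theorem mulLeft_pow (q : Q) (n : ℕ) : (Equiv.mulLeft q) ^ n = Equiv.mulLeft (q ^ n) := by
  induction n with
  | zero => ext y; simp
  | succ n ih =>
    rw [pow_succ, ih]
    ext y
    simp [pow_succ, mul_assoc]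

theorem sign_mulLeft_pow (p : ℕ) (q : Q) (hq : q ^ p = 1) (m : ℕ) :
    Equiv.Perm.sign (Equiv.mulLeft q) ^ (p * m) = 1 := by
  rw [pow_mul, ← map_pow, mulLeft_pow, hq]
  have : Equiv.mulLeft (1 : Q) = 1 := by ext y; simp
  rw [this, map_one, one_pow]

omit [Fintype Q] in
theorem mem_closure_base (T : Set (D ≀ᵣ Q))
    (hT : ∀ (x : Q) (d : D), coord D Q x d ∈ Subgroup.closure T)
    (s : Finset Q) : ∀ f : Q → D, (∀ x, x ∉ s → f x = 1) →
      (⟨f, 1⟩ : D ≀ᵣ Q) ∈ Subgroup.closure T := by
  induction s using Finset.induction_on with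
  | empty =>
    intro f hf
    have : f = 1 := funext fun x => hf x (Finset.notMem_empty x)
    rw [this]
    exact one_mem _
  | insert a s ha ih =>
    intro f hf
    have h1 : (⟨f, 1⟩ : D ≀ᵣ Q) = coord D Q a (f a) * ⟨Function.update f a 1, 1⟩ := by
      ext y
      · rw [mul_left_of_right_eq_one _ _ (coord_right a (f a)), coord_left]
        by_cases hy : y = a
        · subst hy; simp
        · simp [Pi.mulSingle_eq_of_ne hy, Function.update_of_ne hy]
      · simp [coord_right]
    rw [h1]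
    refine mul_mem (hT a (f a)) (ih _ ?_)
    intro x hx
    by_cases hxa : x = a
    · subst hxa; simp
    · rw [Function.update_of_ne hxa]
      exact hf x (by simp [hxa, hx])

end wreath

section cyclic

variable (p : ℕ) [hp : Fact p.Prime]

/-- the cyclic group of order `p`. -/
abbrev Cp : Type := Multiplicative (ZMod p)

/-- a generator. -/
def c₀ : Cp p := Multiplicative.ofAdd 1

theorem card_Cp : Nat.card (Cp p) = p := by
  rw [Nat.card_eq_fintype_card]; simp [ZMod.card]

theorem c₀_ne_one : c₀ p ≠ 1 := by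
  intro h
  have h1 : (1 : ZMod p) = 0 := by
    have := congrArg Multiplicative.toAdd h
    simpa [c₀] using this
  haveI : Nontrivial (ZMod p) := ZMod.nontrivial_iff.mpr hp.out.one_lt.ne'
  exact one_ne_zero h1

theorem c₀_pow : c₀ p ^ p = 1 := by
  have := pow_card_eq_one' (G := Cp p) (x := c₀ p)
  rwa [card_Cp] at this

theorem zpowers_c₀ : Subgroup.zpowers (c₀ p) = ⊤ :=
  zpowers_eq_top_of_prime_card (card_Cp p) (c₀_ne_one p)

end cyclic

section steps

variable {p : ℕ} [hp : Fact p.Prime]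

theorem factorization_factorial_pow (k : ℕ) :
    ((p ^ k)!).factorization p = ∑ i ∈ Finset.range k, p ^ i := by
  rw [← Nat.multiplicity_eq_factorization hp.out (p ^ k).factorial_ne_zero,
    Nat.Prime.multiplicity_factorial_pow hp.out]

/-- the wreath step. -/
theorem Nice.wreath {D Λ : Type} [Group D] [Finite D] [Fintype Λ] [DecidableEq Λ]
    {ρ : D →* Equiv.Perm Λ} (k : ℕ) (hΛ : Fintype.card Λ = p ^ k) (h : Nice p ρ) :
    letI := MulAction.compHom Λ ρ
    Nice p (toPerm D (Cp p) Λ) := by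
  letI := MulAction.compHom Λ ρ
  have hperm : ∀ d : D, (MulAction.toPerm d : Equiv.Perm Λ) = ρ d :=
    fun d => Equiv.ext fun _ => rfl
  obtain ⟨T, hT1, hT2, hT3⟩ := h.gen
  haveI : FaithfulSMul D Λ := ⟨fun {a b} hab => h.inj (Equiv.ext hab)⟩
  haveI : Nonempty Λ := by
    rw [← Fintype.card_pos_iff, hΛ]; exact pow_pos hp.out.pos k
  refine ⟨toPermInj D (Cp p) Λ, ?_, ?_⟩
  · rw [RegularWreathProduct.card, h.card, card_Cp, Fintype.card_prod, hΛ,
      ← Nat.card_eq_fintype_card (α := Cp p), card_Cp, ← pow_succ, factorization_factorial_pow,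
      factorization_factorial_pow, ← pow_mul, ← pow_succ, geom_sum_succ]
    congr 1
    ring
  · refine ⟨{w | ∃ x t, t ∈ T ∧ w = coord D (Cp p) x t} ∪ {inl (c₀ p)}, ?_, ?_, ?_⟩
    · rw [eq_top_iff]
      intro w _
      have hcoord : ∀ (x : Cp p) (d : D), coord D (Cp p) x d ∈
          Subgroup.closure ({w | ∃ x t, t ∈ T ∧ w = coord D (Cp p) x t} ∪ {inl (c₀ p)}) := by
        intro x d
        have hd : d ∈ Subgroup.closure T := hT1 ▸ Subgroup.mem_top d
        have hle : (Subgroup.closure T).map (coord D (Cp p) x) ≤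
            Subgroup.closure ({w | ∃ x t, t ∈ T ∧ w = coord D (Cp p) x t} ∪ {inl (c₀ p)}) := by
          rw [MonoidHom.map_closure]
          apply Subgroup.closure_mono
          rintro _ ⟨t, ht, rfl⟩
          exact Or.inl ⟨x, t, ht, rfl⟩
        exact hle ⟨d, hd, rfl⟩
      have hinl : ∀ q : Cp p, (inl q : D ≀ᵣ Cp p) ∈
          Subgroup.closure ({w | ∃ x t, t ∈ T ∧ w = coord D (Cp p) x t} ∪ {inl (c₀ p)}) := by
        intro q
        have hq : q ∈ Subgroup.zpowers (c₀ p) := by
          rw [zpowers_c₀]; exact Subgroup.mem_top q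
        obtain ⟨j, rfl⟩ := Subgroup.mem_zpowers_iff.mp hq
        rw [map_zpow (inl : Cp p →* D ≀ᵣ Cp p) (c₀ p) j]
        have hmem : (inl (c₀ p) : D ≀ᵣ Cp p) ∈ Subgroup.closure
            ({w | ∃ x t, t ∈ T ∧ w = coord D (Cp p) x t} ∪ {inl (c₀ p)}) :=
          Subgroup.subset_closure (Set.mem_union_right _ (Set.mem_singleton _))
        exact Subgroup.zpow_mem _ hmem j
      have h1 : w = (⟨w.left, 1⟩ : D ≀ᵣ Cp p) * inl w.right := by
        ext y
        · rw [mul_left_of_right_eq_one _ _ rfl]; simp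
        · simp
      rw [h1]
      exact mul_mem (mem_closure_base _ hcoord Finset.univ _
        (fun x hx => absurd (Finset.mem_univ x) hx)) (hinl _)
    · rintro t (⟨x, t', ht', rfl⟩ | ht)
      · rw [← map_pow, hT2 t' ht', map_one]
      · rw [Set.mem_singleton_iff] at ht
        rw [ht, ← map_pow, c₀_pow, map_one]
    · have hcoord : ∀ (x : Cp p) (t : D),
          Equiv.Perm.sign (toPerm D (Cp p) Λ (coord D (Cp p) x t)) = Equiv.Perm.sign (ρ t) := by
        intro x t
        rw [sign_toPerm_coord, hperm]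
      have hinl : Equiv.Perm.sign (toPerm D (Cp p) Λ (inl (c₀ p) : D ≀ᵣ Cp p)) = -1 → k = 0 := by
        intro h
        by_contra hk
        obtain ⟨k', rfl⟩ : ∃ k', k = k' + 1 := ⟨k - 1, by omega⟩
        rw [sign_toPerm_inl, hΛ, pow_succ', sign_mulLeft_pow p (c₀ p) (c₀_pow p)] at h
        exact absurd h (by decide)
      have htriv : k = 0 → ∀ d : D, d = 1 := by
        intro hk d
        subst hk
        rw [pow_zero] at hΛ
        haveI : Subsingleton Λ := Fintype.card_le_one_iff_subsingleton.mp hΛ.le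
        exact h.inj (Subsingleton.elim _ _)
      rintro s (⟨x, s', hs', rfl⟩ | hs) t (⟨y, t', ht', rfl⟩ | ht) h1 h2
      · rw [hcoord] at h1 h2
        by_cases hxy : x = y
        · subst hxy
          rw [← map_mul, ← map_mul, hT3 s' hs' t' ht' h1 h2]
        · have hc := Pi.mulSingle_commute (f := fun _ : Cp p => D) hxy s' t'
          ext z
          · rw [mul_left_of_right_eq_one _ _ (coord_right x s'),
              mul_left_of_right_eq_one _ _ (coord_right y t'), coord_left, coord_left]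
            exact congrFun hc.eq z
          · simp [coord_right]
      · rw [Set.mem_singleton_iff] at ht
        rw [ht] at h2
        rw [htriv (hinl h2) s', map_one, one_mul, mul_one]
      · rw [Set.mem_singleton_iff] at hs
        rw [hs] at h1
        rw [htriv (hinl h1) t', map_one, one_mul, mul_one]
      · rw [Set.mem_singleton_iff] at hs ht
        rw [hs, ht]

/-- the trivial representation for degrees below `p`. -/
theorem Nice.trivial {Λ : Type} [Fintype Λ] [DecidableEq Λ] (hΛ : Fintype.card Λ < p) :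
    Nice p (1 : PUnit.{1} →* Equiv.Perm Λ) := by
  refine ⟨Function.injective_of_subsingleton _, ?_, ∅, ?_, ?_, ?_⟩
  · rw [Nat.factorization_factorial_eq_zero_of_lt hΛ, pow_zero]
    simp
  · rw [eq_top_iff]
    intro x _
    rw [Subsingleton.elim x 1]; exact one_mem _
  · intro t ht; exact absurd ht (Set.notMem_empty t)
  · intro s hs; exact absurd hs (Set.notMem_empty s)

/-- the sum step. -/
theorem Nice.sum {A B α β γ : Type} [Group A] [Group B] [Finite A] [Finite B] [Fintype α]
    [DecidableEq α] [Fintype β] [DecidableEq β] [Fintype γ] [DecidableEq γ]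
    {ρA : A →* Equiv.Perm β} {ρB : B →* Equiv.Perm γ} (hA : Nice p ρA) (hB : Nice p ρB)
    (e : β ⊕ γ ≃ α)
    (hν : ((Fintype.card α)!).factorization p =
      ((Fintype.card β)!).factorization p + ((Fintype.card γ)!).factorization p) :
    Nice p ((sumHom e).comp (ρA.prodMap ρB)) := by
  obtain ⟨TA, hA1, hA2, hA3⟩ := hA.gen
  obtain ⟨TB, hB1, hB2, hB3⟩ := hB.gen
  have hsign : ∀ (a : A) (b : B), Equiv.Perm.sign ((sumHom e).comp (ρA.prodMap ρB) (a, b)) =
      Equiv.Perm.sign (ρA a) * Equiv.Perm.sign (ρB b) := by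
    intro a b
    have : (sumHom e).comp (ρA.prodMap ρB) (a, b) =
        e.permCongr (Equiv.Perm.sumCongr (ρA a) (ρB b)) := rfl
    rw [this, Equiv.Perm.sign_permCongr, Equiv.Perm.sign_sumCongr]
  refine ⟨?_, ?_, ?_⟩
  · refine (sumHom_injective e).comp ?_
    rw [MonoidHom.coe_prodMap]
    exact Prod.map_injective.mpr ⟨hA.inj, hB.inj⟩
  · rw [Nat.card_prod, hA.card, hB.card, hν, pow_add]
  · refine ⟨(fun a => (a, 1)) '' TA ∪ (fun b => (1, b)) '' TB, ?_, ?_, ?_⟩
    · rw [eq_top_iff]
      rintro ⟨a, b⟩ _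
      have h1 : ((a, 1) : A × B) ∈ Subgroup.closure
          ((fun a => ((a, 1) : A × B)) '' TA ∪ (fun b => ((1, b) : A × B)) '' TB) := by
        have hle : (Subgroup.closure TA).map (MonoidHom.inl A B) ≤ Subgroup.closure
            ((fun a => ((a, 1) : A × B)) '' TA ∪ (fun b => ((1, b) : A × B)) '' TB) := by
          rw [MonoidHom.map_closure]
          apply Subgroup.closure_mono
          rintro _ ⟨t, ht, rfl⟩
          exact Or.inl ⟨t, ht, rfl⟩
        exact hle ⟨a, hA1 ▸ Subgroup.mem_top a, rfl⟩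
      have h2 : ((1, b) : A × B) ∈ Subgroup.closure
          ((fun a => ((a, 1) : A × B)) '' TA ∪ (fun b => ((1, b) : A × B)) '' TB) := by
        have hle : (Subgroup.closure TB).map (MonoidHom.inr A B) ≤ Subgroup.closure
            ((fun a => ((a, 1) : A × B)) '' TA ∪ (fun b => ((1, b) : A × B)) '' TB) := by
          rw [MonoidHom.map_closure]
          apply Subgroup.closure_mono
          rintro _ ⟨t, ht, rfl⟩
          exact Or.inr ⟨t, ht, rfl⟩
        exact hle ⟨b, hB1 ▸ Subgroup.mem_top b, rfl⟩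
      have : ((a, b) : A × B) = (a, 1) * (1, b) := by simp
      rw [this]
      exact mul_mem h1 h2
    · rintro t (⟨a, ha, rfl⟩ | ⟨b, hb, rfl⟩)
      · simp [Prod.pow_mk, hA2 a ha]
      · simp [Prod.pow_mk, hB2 b hb]
    · rintro s (⟨a, ha, rfl⟩ | ⟨b, hb, rfl⟩) t (⟨a', ha', rfl⟩ | ⟨b', hb', rfl⟩) h1 h2
      · simp only [hsign, map_one, mul_one] at h1 h2
        simp [hA3 a ha a' ha' h1 h2]
      · simp
      · simp
      · simp only [hsign, map_one, one_mul] at h1 h2
        simp [hB3 b hb b' hb' h1 h2]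

/-- transport along an equivalence. -/
theorem Nice.congr {G α β : Type} [Group G] [Fintype α] [DecidableEq α] [Fintype β]
    [DecidableEq β] {ρ : G →* Equiv.Perm α} (h : Nice p ρ) (e : α ≃ β) :
    Nice p ((e.permCongrHom).toMonoidHom.comp ρ) := by
  obtain ⟨T, hT1, hT2, hT3⟩ := h.gen
  have hsign : ∀ g : G, Equiv.Perm.sign ((e.permCongrHom).toMonoidHom.comp ρ g) =
      Equiv.Perm.sign (ρ g) := by
    intro g
    have : (e.permCongrHom).toMonoidHom.comp ρ g = e.permCongr (ρ g) := rfl
    rw [this, Equiv.Perm.sign_permCongr]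
  refine ⟨(e.permCongrHom.injective).comp h.inj, ?_, T, hT1, hT2, ?_⟩
  · rw [h.card, Fintype.card_congr e]
  · intro s hs t ht h1 h2
    rw [hsign] at h1 h2
    exact hT3 s hs t ht h1 h2

/-- existence of a nice representation in each degree. -/
def HasNice (p n : ℕ) : Prop :=
  ∃ (G : Type) (_ : Group G) (_ : Finite G) (ρ : G →* Equiv.Perm (Fin n)), Nice p ρ

theorem hasNice_pow (k : ℕ) : ∃ (G : Type) (_ : Group G) (_ : Finite G) (Λ : Type) (_ : Fintype Λ)
    (_ : DecidableEq Λ) (ρ : G →* Equiv.Perm Λ), Fintype.card Λ = p ^ k ∧ Nice p ρ := by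
  induction k with
  | zero =>
    refine ⟨PUnit, inferInstance, inferInstance, Fin 1, inferInstance, inferInstance, 1, by simp, ?_⟩
    exact Nice.trivial (by simpa using hp.out.one_lt)
  | succ k ih =>
    obtain ⟨G, hG, hGf, Λ, hΛ1, hΛ2, ρ, hcard, hρ⟩ := ih
    letI := MulAction.compHom Λ ρ
    refine ⟨G ≀ᵣ Cp p, inferInstance, inferInstance, Λ × Cp p, inferInstance, inferInstance,
      toPerm G (Cp p) Λ, ?_, Nice.wreath k hcard hρ⟩
    rw [Fintype.card_prod, hcard, ← Nat.card_eq_fintype_card (α := Cp p), card_Cp, pow_succ]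

theorem hasNice (p : ℕ) [hp : Fact p.Prime] : ∀ n : ℕ, HasNice p n := by
  intro n
  induction n using Nat.strong_induction_on with
  | _ n ih =>
  rcases Nat.lt_or_ge n p with hnp | hnp
  · exact ⟨PUnit, inferInstance, inferInstance, 1, Nice.trivial (by simpa using hnp)⟩
  · obtain ⟨k, hk⟩ : ∃ k, k = Nat.log p n := ⟨_, rfl⟩
    have hn0 : n ≠ 0 := by have := hp.out.pos; omega
    have h1 : p ^ k ≤ n := hk ▸ Nat.pow_log_le_self p hn0
    have h2 : n < p ^ (k + 1) := hk ▸ Nat.lt_pow_succ_log_self hp.out.one_lt n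
    have hpk : 0 < p ^ k := pow_pos hp.out.pos k
    obtain ⟨A, hA, hAf, Λ, hΛ1, hΛ2, ρA, hcard, hρA⟩ := hasNice_pow (p := p) k
    obtain ⟨B, hB, hBf, ρB, hρB⟩ := ih (n - p ^ k) (by omega)
    have e : Λ ⊕ Fin (n - p ^ k) ≃ Fin n := by
      apply Fintype.equivOfCardEq
      rw [Fintype.card_sum, hcard, Fintype.card_fin, Fintype.card_fin]
      omega
    refine ⟨A × B, inferInstance, inferInstance, _, Nice.sum hρA hρB e ?_⟩
    rw [Fintype.card_fin, hcard, Fintype.card_fin]
    exact factorization_factorial_split k n h1 h2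

end steps

end Cfsg.Agent.Lib.Helper4.SylSym
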