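import Cfsg.Agent.Lib.Helper4.SylSym3

/-! Sylow subgroups of symmetric and alternating groups have elementary abelian abelianization. -/
set_option autoImplicit false
open scoped Nat

namespace Cfsg.Agent.Lib.Helper4.SylSym

theorem pow_mem_commutator_of_gen {G : Type*} [Group G] (p : ℕ) (T : Set G)
    (hT : Subgroup.closure T = ⊤) (h : ∀ t ∈ T, t ^ p ∈ commutator G) :
    ∀ x : G, x ^ p ∈ commutator G := by
  obtain ⟨f, hf⟩ : ∃ f : G →* Abelianization G,
      f = (powMonoidHom p).comp Abelianization.of := ⟨_, rfl⟩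
  have hker : ∀ x, x ∈ f.ker ↔ x ^ p ∈ commutator G := by
    intro x
    rw [MonoidHom.mem_ker, hf, MonoidHom.comp_apply, powMonoidHom_apply, ← map_pow,
      ← MonoidHom.mem_ker, Abelianization.ker_of]
  intro x
  rw [← hker]
  have hle : Subgroup.closure T ≤ f.ker :=
    (Subgroup.closure_le _).mpr (fun t ht => (hker t).mpr (h t ht))
  exact hle (hT ▸ Subgroup.mem_top x)

theorem pow_mem_commutator_of_mulEquiv {G H : Type*} [Group G] [Group H] (p : ℕ) (e : G ≃* H)
    (h : ∀ x : G, x ^ p ∈ commutator G) : ∀ y : H, y ^ p ∈ commutator H := by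
  intro y
  have hmap : (commutator G).map e.toMonoidHom = commutator H := by
    rw [commutator_def, commutator_def, Subgroup.map_commutator,
      Subgroup.map_top_of_surjective _ e.surjective]
  rw [← hmap]
  refine ⟨(e.symm y) ^ p, h _, ?_⟩
  simp

/-- a subgroup generated by elements of order dividing `p` has elementary abelianization. -/
theorem pow_mem_commutator_subgroup {G : Type*} [Group G] (p : ℕ) (K : Subgroup G) (U : Set G)
    (hU : Subgroup.closure U = K) (hUp : ∀ u ∈ U, u ^ p = 1) :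
    ∀ x : K, x ^ p ∈ commutator K := by
  subst hU
  have hUK : U ⊆ Subgroup.closure U := Subgroup.subset_closure
  apply pow_mem_commutator_of_gen p {x : Subgroup.closure U | (x : G) ∈ U}
  · apply Subgroup.map_injective (Subgroup.subtype_injective (Subgroup.closure U))
    rw [MonoidHom.map_closure, ← MonoidHom.range_eq_map, Subgroup.range_subtype]
    congr 1
    ext y
    constructor
    · rintro ⟨x, hx, rfl⟩; exact hx
    · intro hy; exact ⟨⟨y, hUK hy⟩, hy, rfl⟩
  · intro t ht
    have : t ^ p = 1 := Subtype.ext (by simpa using hUp _ ht)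
    rw [this]; exact one_mem _

theorem pow_mem_commutator_ker {G : Type*} [Group G] (p : ℕ) (hp : p.Prime) (χ : G →* ℤˣ)
    (T : Set G) (hT1 : Subgroup.closure T = ⊤) (hT2 : ∀ t ∈ T, t ^ p = 1)
    (hT3 : ∀ s ∈ T, ∀ t ∈ T, χ s = -1 → χ t = -1 → s * t = t * s) :
    ∀ x : χ.ker, x ^ p ∈ commutator χ.ker := by
  by_cases hall : ∀ t ∈ T, χ t = 1
  · apply pow_mem_commutator_subgroup p χ.ker T _ hT2
    rw [eq_comm, hT1, eq_top_iff, ← hT1, Subgroup.closure_le]
    exact fun t ht => hall t ht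
  push Not at hall
  obtain ⟨t₀, ht₀T, ht₀⟩ := hall
  have hχ0 : χ t₀ = -1 := (Int.units_eq_one_or _).resolve_left ht₀
  have hp2 : p = 2 := by
    have h1 : (χ t₀) ^ p = 1 := by rw [← map_pow, hT2 t₀ ht₀T, map_one]
    rw [hχ0] at h1
    by_contra hne
    have hodd : Odd p := hp.odd_of_ne_two hne
    rw [hodd.neg_one_pow] at h1
    exact absurd h1 (by decide)
  subst hp2
  have hsq : ∀ t ∈ T, t * t = 1 := by
    intro t ht
    rw [← pow_two]; exact hT2 t ht
  have h00 : t₀ * t₀ = 1 := hsq t₀ ht₀T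
  have h0inv : t₀⁻¹ = t₀ := inv_eq_of_mul_eq_one_right h00
  obtain ⟨U, hU⟩ : ∃ U : Set G, U = {u | ∃ t ∈ T, χ t = 1 ∧ (u = t ∨ u = t₀ * t * t₀)} ∪
      {u | ∃ t ∈ T, χ t = -1 ∧ u = t₀ * t} := ⟨_, rfl⟩
  have hUker : ∀ u ∈ U, χ u = 1 := by
    intro u hu
    rw [hU] at hu
    rcases hu with ⟨t, _, hχ, h | rfl⟩ | ⟨t, _, hχ, rfl⟩
    · rw [h]; exact hχ
    · rw [map_mul, map_mul, hχ0, hχ]; decide
    · rw [map_mul, hχ0, hχ]; decide
  have hUsq : ∀ u ∈ U, u ^ 2 = 1 := by
    intro u hu
    rw [hU] at hu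
    rcases hu with ⟨t, ht, hχ, h | rfl⟩ | ⟨t, ht, hχ, rfl⟩
    · rw [h]; exact hT2 t ht
    · have h1 := hsq t ht
      calc (t₀ * t * t₀) ^ 2 = t₀ * t * (t₀ * t₀) * t * t₀ := by rw [pow_two]; group
        _ = t₀ * (t * t) * t₀ := by rw [h00]; group
        _ = 1 := by rw [h1, mul_one, h00]
    · have hc : t₀ * t = t * t₀ := hT3 t₀ ht₀T t ht hχ0 hχ
      have h1 := hsq t ht
      calc (t₀ * t) ^ 2 = t₀ * (t * t₀) * t := by rw [pow_two]; group
        _ = t₀ * (t₀ * t) * t := by rw [hc]
        _ = (t₀ * t₀) * (t * t) := by group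
        _ = 1 := by rw [h00, h1, mul_one]
  obtain ⟨K', hK'⟩ : ∃ K' : Subgroup G, K' = Subgroup.closure U := ⟨_, rfl⟩
  have hUK' : U ⊆ K' := hK' ▸ Subgroup.subset_closure
  have hconj0 : ∀ k ∈ K', t₀ * k * t₀ ∈ K' := by
    intro k hk
    rw [hK'] at hk
    induction hk using Subgroup.closure_induction with
    | mem u hu =>
      apply hUK'
      have hu' := hu
      rw [hU] at hu ⊢
      rcases hu with ⟨t, ht, hχ, h | rfl⟩ | ⟨t, ht, hχ, rfl⟩
      · exact Or.inl ⟨t, ht, hχ, Or.inr (by rw [h])⟩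
      · refine Or.inl ⟨t, ht, hχ, Or.inl ?_⟩
        calc t₀ * (t₀ * t * t₀) * t₀ = (t₀ * t₀) * t * (t₀ * t₀) := by group
          _ = t := by rw [h00, one_mul, mul_one]
      · refine Or.inr ⟨t, ht, hχ, ?_⟩
        have hc : t₀ * t = t * t₀ := hT3 t₀ ht₀T t ht hχ0 hχ
        calc t₀ * (t₀ * t) * t₀ = (t₀ * t₀) * (t * t₀) := by group
          _ = t₀ * t := by rw [h00, one_mul, hc]
    | one => rw [mul_one, h00]; exact one_mem _
    | mul a b _ _ ha hb =>
      have : t₀ * (a * b) * t₀ = (t₀ * a * t₀) * (t₀ * b * t₀) := by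
        calc t₀ * (a * b) * t₀ = t₀ * a * 1 * b * t₀ := by group
          _ = t₀ * a * (t₀ * t₀) * b * t₀ := by rw [h00]
          _ = _ := by group
      rw [this]; exact mul_mem ha hb
    | inv a _ ha =>
      have : t₀ * a⁻¹ * t₀ = (t₀ * a * t₀)⁻¹ := by
        rw [mul_inv_rev, mul_inv_rev, h0inv]; group
      rw [this]; exact inv_mem ha
  have hall : ∀ g : G, g ∈ K' ∨ t₀ * g ∈ K' := by
    intro g
    have hg : g ∈ Subgroup.closure T := hT1 ▸ Subgroup.mem_top g
    induction hg using Subgroup.closure_induction with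
    | mem t ht =>
      rcases Int.units_eq_one_or (χ t) with hχ | hχ
      · exact Or.inl (hUK' (hU ▸ Or.inl ⟨t, ht, hχ, Or.inl rfl⟩))
      · exact Or.inr (hUK' (hU ▸ Or.inr ⟨t, ht, hχ, rfl⟩))
    | one => exact Or.inl (one_mem _)
    | mul a b _ _ ha hb =>
      rcases ha with ha | ha <;> rcases hb with hb | hb
      · exact Or.inl (mul_mem ha hb)
      · right
        have : t₀ * (a * b) = (t₀ * a * t₀) * (t₀ * b) := by
          calc t₀ * (a * b) = t₀ * a * 1 * b := by group
            _ = t₀ * a * (t₀ * t₀) * b := by rw [h00]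
            _ = _ := by group
        rw [this]; exact mul_mem (hconj0 a ha) hb
      · right
        rw [← mul_assoc]; exact mul_mem ha hb
      · left
        have : a * b = (t₀ * (t₀ * a) * t₀) * (t₀ * b) := by
          calc a * b = 1 * a * 1 * b := by group
            _ = (t₀ * t₀) * a * (t₀ * t₀) * b := by rw [h00]
            _ = _ := by group
        rw [this]; exact mul_mem (hconj0 _ ha) hb
    | inv a _ ha =>
      rcases ha with ha | ha
      · exact Or.inl (inv_mem ha)
      · right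
        have : t₀ * a⁻¹ = t₀ * (t₀ * a)⁻¹ * t₀ := by
          rw [mul_inv_rev]; group
        rw [this]; exact hconj0 _ (inv_mem ha)
  have hKK' : χ.ker = K' := by
    apply le_antisymm
    · intro x hx
      rcases hall x with h | h
      · exact h
      · exfalso
        have h1 : χ (t₀ * x) = 1 := by
          have : K' ≤ χ.ker := by
            rw [hK', Subgroup.closure_le]
            exact fun u hu => hUker u hu
          exact this h
        rw [map_mul, hχ0, MonoidHom.mem_ker.mp hx] at h1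
        exact absurd h1 (by decide)
    · rw [hK', Subgroup.closure_le]
      exact fun u hu => hUker u hu
  exact pow_mem_commutator_subgroup 2 χ.ker U (by rw [hKK', hK']) hUsq

end Cfsg.Agent.Lib.Helper4.SylSym
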