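import Cfsg.Agent.Lib.Helper4.SylSym4

/-! Sylow subgroups of `S_n` and `A_n` have elementary abelian abelianization. -/
set_option autoImplicit false
open scoped Nat

namespace Cfsg.Agent.Lib.Helper4.SylSym

variable (p : ℕ) [hp : Fact p.Prime]

theorem range_card {G : Type} [Group G] {n : ℕ} {ρ : G →* Equiv.Perm (Fin n)} (hρ : Nice p ρ) :
    Nat.card ρ.range = p ^ (Nat.card (Equiv.Perm (Fin n))).factorization p := by
  rw [Nat.card_congr (MonoidHom.ofInjective hρ.inj).toEquiv.symm, hρ.card, Nat.card_perm,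
    Nat.card_fin, Fintype.card_fin]

theorem sylow_perm_pow_mem_commutator (n : ℕ) (P : Sylow p (Equiv.Perm (Fin n))) :
    ∀ x : P, x ^ p ∈ commutator P := by
  obtain ⟨G, hG, hGf, ρ, hρ⟩ := hasNice p n
  have e : P ≃* G := (P.equiv (Sylow.ofCard ρ.range (range_card p hρ))).trans
    (MonoidHom.ofInjective hρ.inj).symm
  obtain ⟨T, hT1, hT2, _⟩ := hρ.gen
  have hE : ∀ x : G, x ^ p ∈ commutator G :=
    pow_mem_commutator_of_gen p T hT1 (fun t ht => by rw [hT2 t ht]; exact one_mem _)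
  exact pow_mem_commutator_of_mulEquiv p e.symm hE

theorem sylow_alt_pow_mem_commutator (n : ℕ) (Q : Sylow p (alternatingGroup (Fin n))) :
    ∀ x : Q, x ^ p ∈ commutator Q := by
  obtain ⟨G, hG, hGf, ρ, hρ⟩ := hasNice p n
  obtain ⟨A, hA⟩ : ∃ A : Subgroup (Equiv.Perm (Fin n)), A = alternatingGroup (Fin n) := ⟨_, rfl⟩
  obtain ⟨P₀, hP₀⟩ : ∃ P₀ : Sylow p (Equiv.Perm (Fin n)), (P₀ : Subgroup _) = ρ.range :=
    ⟨Sylow.ofCard ρ.range (range_card p hρ), rfl⟩
  have hQ' : IsPGroup p ((Q : Subgroup (alternatingGroup (Fin n))).map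
      (alternatingGroup (Fin n)).subtype) := Q.isPGroup'.map _
  obtain ⟨P, hQP⟩ := hQ'.exists_le_sylow
  obtain ⟨g, hg⟩ := MulAction.exists_smul_eq (Equiv.Perm (Fin n)) P₀ P
  obtain ⟨χ, hχ⟩ : ∃ χ : G →* ℤˣ, χ = Equiv.Perm.sign.comp ρ := ⟨_, rfl⟩
  have hχ_apply : ∀ y : G, χ y = Equiv.Perm.sign (ρ y) := fun y => by rw [hχ]; rfl
  obtain ⟨T, hT1, hT2, hT3⟩ := hρ.gen
  have hE := pow_mem_commutator_ker p hp.out χ T hT1 hT2 (by
    intro s hs t ht h1 h2
    rw [hχ_apply] at h1 h2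
    exact hT3 s hs t ht h1 h2)
  -- the embedding of `ker χ` into the alternating group
  obtain ⟨ψ₀, hψ₀⟩ : ∃ ψ₀ : χ.ker →* Equiv.Perm (Fin n),
      ψ₀ = (MulAut.conj g).toMonoidHom.comp (ρ.comp χ.ker.subtype) := ⟨_, rfl⟩
  have hψ₀_apply : ∀ x : χ.ker, ψ₀ x = g * ρ x * g⁻¹ := by
    intro x; rw [hψ₀]; rfl
  have hmem : ∀ x : χ.ker, ψ₀ x ∈ alternatingGroup (Fin n) := by
    intro x
    rw [Equiv.Perm.mem_alternatingGroup, hψ₀_apply, map_mul, map_mul, map_inv]
    have h1 : Equiv.Perm.sign (ρ x) = 1 := by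
      have := x.2
      rw [MonoidHom.mem_ker, hχ_apply] at this
      exact this
    rw [h1, mul_one, mul_inv_cancel]
  obtain ⟨ψ, hψ⟩ : ∃ ψ : χ.ker →* alternatingGroup (Fin n),
      ψ = ψ₀.codRestrict (alternatingGroup (Fin n)) hmem := ⟨_, rfl⟩
  have hψ_apply : ∀ x : χ.ker, ((ψ x : alternatingGroup (Fin n)) : Equiv.Perm (Fin n)) =
      g * ρ x * g⁻¹ := by
    intro x; rw [hψ]; exact hψ₀_apply x
  have hψinj : Function.Injective ψ := by
    intro x y hxy
    have h1 := congrArg (fun z : alternatingGroup (Fin n) => (z : Equiv.Perm (Fin n))) hxy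
    simp only [hψ_apply] at h1
    have h2 : ρ x = ρ y := by
      have := mul_left_cancel (mul_right_cancel h1)
      exact this
    exact Subtype.ext (hρ.inj h2)
  have hGp : IsPGroup p G := IsPGroup.of_card hρ.card
  have hR : IsPGroup p ψ.range :=
    (hGp.to_subgroup χ.ker).of_surjective ψ.rangeRestrict ψ.rangeRestrict_surjective
  have hQR : (Q : Subgroup (alternatingGroup (Fin n))) ≤ ψ.range := by
    intro x hx
    have h1 : (x : Equiv.Perm (Fin n)) ∈ (P : Subgroup (Equiv.Perm (Fin n))) :=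
      hQP ⟨x, hx, rfl⟩
    rw [← hg, Sylow.coe_subgroup_smul, Subgroup.mem_pointwise_smul_iff_inv_smul_mem, hP₀] at h1
    obtain ⟨y, hy⟩ := h1
    have hy' : ρ y = g⁻¹ * (x : Equiv.Perm (Fin n)) * g := by
      rw [hy]; simp [MulAut.smul_def]
    have hχy : y ∈ χ.ker := by
      rw [MonoidHom.mem_ker, hχ_apply, hy', map_mul, map_mul, map_inv]
      have : Equiv.Perm.sign (x : Equiv.Perm (Fin n)) = 1 :=
        Equiv.Perm.mem_alternatingGroup.mp x.2
      rw [this, mul_one, inv_mul_cancel]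
    refine ⟨⟨y, hχy⟩, ?_⟩
    apply Subtype.ext
    rw [hψ_apply]
    show g * ρ y * g⁻¹ = x
    rw [hy']; group
  have hRQ : ψ.range = (Q : Subgroup (alternatingGroup (Fin n))) := Q.is_maximal' hR hQR
  have e : Q ≃* χ.ker :=
    (MulEquiv.subgroupCongr hRQ.symm).trans (MonoidHom.ofInjective hψinj).symm
  exact pow_mem_commutator_of_mulEquiv p e.symm hE

end Cfsg.Agent.Lib.Helper4.SylSym
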