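import Mathlib

/-!
# Sylow 2-subgroups of symmetric groups lying in a unique maximal subgroup (part 2)

A design-counting argument: a 2-transitive group of degree `n ≥ 5`, `n ≠ 7, 8`, containing
a Klein four-group acting regularly on four points and fixing the rest contains a 3-cycle.
-/

namespace Cfsg.Agent.Lib.Helper4.SylTwoMax2

open Equiv Equiv.Perm MulAction

variable {α : Type*} [Fintype α] [DecidableEq α]

/-- The counting: no `2-(n,4,λ)` family of 4-sets with pairwise intersections of size 0 or 2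
for `n ≥ 5`, `n ≠ 7, 8`. -/
theorem design_count (𝓑 : Finset (Finset α)) (lam : ℕ)
    (h4 : ∀ B ∈ 𝓑, B.card = 4)
    (hint : ∀ B ∈ 𝓑, ∀ B' ∈ 𝓑, B ≠ B' → (B ∩ B').card = 0 ∨ (B ∩ B').card = 2)
    (hlam : ∀ x y : α, x ≠ y → (𝓑.filter (fun B => x ∈ B ∧ y ∈ B)).card = lam)
    (hpos : 1 ≤ lam) (hn : 5 ≤ Fintype.card α) (h7 : Fintype.card α ≠ 7)
    (h8 : Fintype.card α ≠ 8) : False := by
  classical
  obtain ⟨x, y, hxy⟩ := Fintype.exists_pair_of_one_lt_card (α := α) (by omega)
  set F := 𝓑.filter (fun B => x ∈ B ∧ y ∈ B) with hF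
  have hFcard : F.card = lam := hlam x y hxy
  have hFne : F.Nonempty := by
    rw [← Finset.card_pos]; omega
  obtain ⟨B₀, hB₀⟩ := hFne
  have hB₀𝓑 : B₀ ∈ 𝓑 := (Finset.mem_filter.mp hB₀).1
  have hxB₀ : x ∈ B₀ := (Finset.mem_filter.mp hB₀).2.1
  set Bx := 𝓑.filter (fun B => x ∈ B) with hBx
  set r := Bx.card with hr
  have hB₀x : B₀ ∈ Bx := Finset.mem_filter.mpr ⟨hB₀𝓑, hxB₀⟩
  -- three common points force equality
  have three : ∀ B ∈ 𝓑, ∀ B' ∈ 𝓑, ∀ a b c : α, a ≠ b → a ≠ c → b ≠ c → a ∈ B → b ∈ B → c ∈ B →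
      a ∈ B' → b ∈ B' → c ∈ B' → B = B' := by
    intro B hB B' hB' a b c hab hac hbc ha hb hc ha' hb' hc'
    by_contra hne
    have hsub : ({a, b, c} : Finset α) ⊆ B ∩ B' := by
      intro z hz
      simp only [Finset.mem_insert, Finset.mem_singleton] at hz
      rcases hz with rfl | rfl | rfl <;> simp [*]
    have h3 : ({a, b, c} : Finset α).card = 3 := Finset.card_eq_three.mpr ⟨a, b, c, hab, hac, hbc, rfl⟩
    have := Finset.card_le_card hsub
    rcases hint B hB B' hB' hne with h | h <;> omega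
  -- (i) (n-1) * lam = 3 * r
  have e1 : (Fintype.card α - 1) * lam = 3 * r := by
    have s1 : ∑ z ∈ Finset.univ.erase x, (𝓑.filter (fun B => x ∈ B ∧ z ∈ B)).card
        = (Fintype.card α - 1) * lam := by
      rw [Finset.sum_congr rfl (fun z hz => hlam x z (Finset.ne_of_mem_erase hz).symm)]
      rw [Finset.sum_const, Finset.card_erase_of_mem (Finset.mem_univ x), Finset.card_univ,
        smul_eq_mul]
    have s2 : ∀ z, (𝓑.filter (fun B => x ∈ B ∧ z ∈ B)).card
        = ∑ B ∈ Bx, if z ∈ B then 1 else 0 := by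
      intro z
      rw [← Finset.card_filter, hBx, Finset.filter_filter]
    have s3 : ∑ z ∈ Finset.univ.erase x, (𝓑.filter (fun B => x ∈ B ∧ z ∈ B)).card
        = ∑ B ∈ Bx, 3 := by
      rw [Finset.sum_congr rfl (fun z _ => s2 z), Finset.sum_comm]
      apply Finset.sum_congr rfl
      intro B hB
      rw [← Finset.card_filter]
      have : (Finset.univ.erase x).filter (fun z => z ∈ B) = B.erase x := by
        ext z
        simp only [Finset.mem_filter, Finset.mem_erase, Finset.mem_univ, and_true]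
      rw [this, Finset.card_erase_of_mem (Finset.mem_filter.mp hB).2,
        h4 B (Finset.mem_filter.mp hB).1]
    rw [← s1, s3, Finset.sum_const, smul_eq_mul, mul_comm]
  -- (ii) r - 1 = 3 * (lam - 1)
  have e2 : r - 1 = 3 * (lam - 1) := by
    have hunion : Bx.erase B₀ = (B₀.erase x).biUnion
        (fun z => (𝓑.filter (fun B => x ∈ B ∧ z ∈ B)).erase B₀) := by
      ext B
      simp only [Finset.mem_erase, Finset.mem_biUnion, Finset.mem_filter, hBx]
      constructor
      · rintro ⟨hne, hB, hxB⟩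
        have hc : (B ∩ B₀).card = 2 := by
          rcases hint B hB B₀ hB₀𝓑 hne with h | h
          · exfalso
            have : x ∈ B ∩ B₀ := Finset.mem_inter.mpr ⟨hxB, hxB₀⟩
            rw [Finset.card_eq_zero] at h
            rw [h] at this
            simp at this
          · exact h
        have hc' : ((B ∩ B₀).erase x).card = 1 := by
          rw [Finset.card_erase_of_mem (Finset.mem_inter.mpr ⟨hxB, hxB₀⟩), hc]
        obtain ⟨z, hz⟩ := Finset.card_eq_one.mp hc'
        have hz' : z ∈ (B ∩ B₀).erase x := by rw [hz]; simp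
        rw [Finset.mem_erase, Finset.mem_inter] at hz'
        exact ⟨z, ⟨hz'.1, hz'.2.2⟩, hne, hB, hxB, hz'.2.1⟩
      · rintro ⟨z, -, hne, hB, hxB, -⟩
        exact ⟨hne, hB, hxB⟩
    have hdisj : ((B₀.erase x : Finset α) : Set α).PairwiseDisjoint
        (fun z => (𝓑.filter (fun B => x ∈ B ∧ z ∈ B)).erase B₀) := by
      intro z hz z' hz' hzz'
      rw [Function.onFun, Finset.disjoint_left]
      intro B hB hB'
      simp only [Finset.mem_erase, Finset.mem_filter] at hB hB'
      simp only [Finset.mem_coe, Finset.mem_erase] at hz hz'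
      exact hB.1 (three B hB.2.1 B₀ hB₀𝓑 x z z' hz.1.symm hz'.1.symm hzz' hB.2.2.1 hB.2.2.2
        hB'.2.2.2 hxB₀ hz.2 hz'.2)
    have hc := congrArg Finset.card hunion
    rw [Finset.card_erase_of_mem hB₀x, Finset.card_biUnion hdisj] at hc
    rw [← hr] at hc
    rw [hc]
    have : ∀ z ∈ B₀.erase x, ((𝓑.filter (fun B => x ∈ B ∧ z ∈ B)).erase B₀).card = lam - 1 := by
      intro z hz
      rw [Finset.mem_erase] at hz
      rw [Finset.card_erase_of_mem, hlam x z hz.1.symm]
      exact Finset.mem_filter.mpr ⟨hB₀𝓑, hxB₀, hz.2⟩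
    rw [Finset.sum_congr rfl this, Finset.sum_const, Finset.card_erase_of_mem hxB₀, h4 B₀ hB₀𝓑,
      smul_eq_mul]
  -- (iii) 2 * lam + 2 ≤ n
  have e3 : 2 * lam + 2 ≤ Fintype.card α := by
    have hdisj : ((F : Finset (Finset α)) : Set (Finset α)).PairwiseDisjoint
        (fun B => (B.erase x).erase y) := by
      intro B hB B' hB' hne
      rw [Function.onFun, Finset.disjoint_left]
      intro z hz hz'
      simp only [Finset.mem_erase] at hz hz'
      rw [Finset.mem_coe, hF, Finset.mem_filter] at hB hB'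
      exact hne (three B hB.1 B' hB'.1 x y z hxy hz.2.1.symm hz.1.symm hB.2.1 hB.2.2 hz.2.2
        hB'.2.1 hB'.2.2 hz'.2.2)
    have hsub : F.biUnion (fun B => (B.erase x).erase y) ⊆ (Finset.univ.erase x).erase y := by
      intro z hz
      simp only [Finset.mem_biUnion, Finset.mem_erase] at hz
      obtain ⟨B, -, h1, h2, -⟩ := hz
      simp [h1, h2]
    have hc := Finset.card_le_card hsub
    rw [Finset.card_biUnion hdisj] at hc
    have : ∀ B ∈ F, ((B.erase x).erase y).card = 2 := by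
      intro B hB
      rw [hF, Finset.mem_filter] at hB
      rw [Finset.card_erase_of_mem (Finset.mem_erase.mpr ⟨hxy.symm, hB.2.2⟩),
        Finset.card_erase_of_mem hB.2.1, h4 B hB.1]
    rw [Finset.sum_congr rfl this, Finset.sum_const, hFcard, smul_eq_mul,
      Finset.card_erase_of_mem (Finset.mem_erase.mpr ⟨hxy.symm, Finset.mem_univ y⟩),
      Finset.card_erase_of_mem (Finset.mem_univ x), Finset.card_univ] at hc
    omega
  -- arithmetic
  have hr1 : 1 ≤ r := by
    rw [hr]; exact Finset.card_pos.mpr ⟨B₀, hB₀x⟩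
  have e2' : r + 2 = 3 * lam := by omega
  set n := Fintype.card α with hn'
  have e1' : (n - 1) * lam + 6 = 9 * lam := by
    have : 3 * r + 6 = 9 * lam := by omega
    omega
  rcases Nat.lt_or_ge n 10 with hlt | hge
  · interval_cases n <;> omega
  · have : 9 * lam ≤ (n - 1) * lam := Nat.mul_le_mul_right lam (by omega)
    omega

/-- All double transpositions on the set `B` lie in `M`. -/
def HasV (M : Subgroup (Perm α)) (B : Finset α) : Prop :=
  ∀ a b c d : α, a ∈ B → b ∈ B → c ∈ B → d ∈ B → a ≠ b → a ≠ c → a ≠ d → b ≠ c → b ≠ d → c ≠ d →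
    swap a b * swap c d ∈ M

theorem conj_double_swap (f : Perm α) (a b c d : α) :
    f * (swap a b * swap c d) * f⁻¹ = swap (f a) (f b) * swap (f c) (f d) := by
  rw [swap_apply_apply, swap_apply_apply]
  group

theorem hasV_image {M : Subgroup (Perm α)} {B : Finset α} (h : HasV M B) {g : Perm α}
    (hg : g ∈ M) : HasV M (B.image g) := by
  intro a b c d ha hb hc hd hab hac had hbc hbd hcd
  rw [Finset.mem_image] at ha hb hc hd
  obtain ⟨a, ha, rfl⟩ := ha
  obtain ⟨b, hb, rfl⟩ := hb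
  obtain ⟨c, hc, rfl⟩ := hc
  obtain ⟨d, hd, rfl⟩ := hd
  rw [← conj_double_swap]
  have := h a b c d ha hb hc hd (fun h => hab (by rw [h])) (fun h => hac (by rw [h]))
    (fun h => had (by rw [h])) (fun h => hbc (by rw [h])) (fun h => hbd (by rw [h]))
    (fun h => hcd (by rw [h]))
  exact M.mul_mem (M.mul_mem hg this) (M.inv_mem hg)

theorem threeCycle_of_inter_one {M : Subgroup (Perm α)} {B B' : Finset α} (hB : B.card = 4)
    (hB' : B'.card = 4) (hV : HasV M B) (hV' : HasV M B') (h1 : (B ∩ B').card = 1) :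
    ∃ g ∈ M, IsThreeCycle g := by
  obtain ⟨a, ha⟩ := Finset.card_eq_one.mp h1
  have haBB : a ∈ B ∩ B' := by rw [ha]; simp
  rw [Finset.mem_inter] at haBB
  have only : ∀ z, z ∈ B → z ∈ B' → z = a := by
    intro z hz hz'
    have : z ∈ B ∩ B' := Finset.mem_inter.mpr ⟨hz, hz'⟩
    rw [ha] at this
    simpa using this
  have c3 : (B.erase a).card = 3 := by rw [Finset.card_erase_of_mem haBB.1, hB]
  have c3' : (B'.erase a).card = 3 := by rw [Finset.card_erase_of_mem haBB.2, hB']
  obtain ⟨b, c, d, hbc, hbd, hcd, hbcd⟩ := Finset.card_eq_three.mp c3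
  obtain ⟨e, f, g, hef, heg, hfg, hefg⟩ := Finset.card_eq_three.mp c3'
  have mem : ∀ z, z ∈ B.erase a ↔ z = b ∨ z = c ∨ z = d := by
    intro z; rw [hbcd]; simp
  have mem' : ∀ z, z ∈ B'.erase a ↔ z = e ∨ z = f ∨ z = g := by
    intro z; rw [hefg]; simp
  have hb := (mem b).mpr (Or.inl rfl)
  have hc := (mem c).mpr (Or.inr (Or.inl rfl))
  have hd := (mem d).mpr (Or.inr (Or.inr rfl))
  have he := (mem' e).mpr (Or.inl rfl)
  have hf := (mem' f).mpr (Or.inr (Or.inl rfl))
  have hg := (mem' g).mpr (Or.inr (Or.inr rfl))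
  rw [Finset.mem_erase] at hb hc hd he hf hg
  -- points of B other than a are not in B'
  have nb : ∀ z, z ∈ B → z ≠ a → ∀ w, w ∈ B' → z ≠ w := by
    intro z hz hza w hw hzw
    subst hzw
    exact hza (only z hz hw)
  have t_mem : swap a b * swap c d ∈ M :=
    hV a b c d haBB.1 hb.2 hc.2 hd.2 hb.1.symm hc.1.symm hd.1.symm hbc hbd hcd
  have t'_mem : swap a e * swap f g ∈ M :=
    hV' a e f g haBB.2 he.2 hf.2 hg.2 he.1.symm hf.1.symm hg.1.symm hef heg hfg
  set t := swap a b * swap c d with ht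
  set t' := swap a e * swap f g with ht'
  have t'a : t' a = e := by
    rw [ht', Perm.mul_apply, swap_apply_of_ne_of_ne hf.1.symm hg.1.symm, swap_apply_left]
  have t'fix : ∀ z, z ∈ B → z ≠ a → t' z = z := by
    intro z hz hza
    rw [ht', Perm.mul_apply, swap_apply_of_ne_of_ne (nb z hz hza f hf.2) (nb z hz hza g hg.2),
      swap_apply_of_ne_of_ne hza (nb z hz hza e he.2)]
  have hconj : t' * t * t'⁻¹ = swap e b * swap c d := by
    rw [ht, conj_double_swap, t'a, t'fix b hb.2 hb.1, t'fix c hc.2 hc.1, t'fix d hd.2 hd.1]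
  have hbe : b ≠ e := nb b hb.2 hb.1 e he.2
  have hce : c ≠ e := nb c hc.2 hc.1 e he.2
  have hde : d ≠ e := nb d hd.2 hd.1 e he.2
  have hcomm : Commute (swap c d) (swap e b) := by
    apply Disjoint.commute
    apply disjoint_swap_swap
    simp [hcd, hce, hbc.symm, hde, hbd.symm, hbe.symm]
  refine ⟨t * (t' * t * t'⁻¹), M.mul_mem t_mem (M.mul_mem (M.mul_mem t'_mem t_mem)
    (M.inv_mem t'_mem)), ?_⟩
  have : t * (t' * t * t'⁻¹) = swap b a * swap b e := by
    rw [hconj, ht]
    calc swap a b * swap c d * (swap e b * swap c d)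
        = swap a b * (swap c d * swap e b) * swap c d := by simp only [mul_assoc]
      _ = swap a b * (swap e b * swap c d) * swap c d := by rw [hcomm.eq]
      _ = swap a b * swap e b * (swap c d * swap c d) := by simp only [mul_assoc]
      _ = swap b a * swap b e := by rw [swap_mul_self, mul_one, swap_comm a b, swap_comm e b]
  rw [this]
  exact isThreeCycle_swap_mul_swap_same hb.1 hbe (by
    intro h; exact (nb b hb.2 hb.1 e he.2) (by
      exfalso
      have : e ∈ B := h ▸ haBB.1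
      exact he.1 (only e this he.2)))

theorem threeCycle_of_inter_three {M : Subgroup (Perm α)} {B B' : Finset α} (hB : B.card = 4)
    (hB' : B'.card = 4) (hV : HasV M B) (hV' : HasV M B') (h3 : (B ∩ B').card = 3) :
    ∃ g ∈ M, IsThreeCycle g := by
  obtain ⟨a, b, c, hab, hac, hbc, habc⟩ := Finset.card_eq_three.mp h3
  have mem : ∀ z, z ∈ B ∩ B' ↔ z = a ∨ z = b ∨ z = c := by
    intro z; rw [habc]; simp
  have ha := (mem a).mpr (Or.inl rfl)
  have hb := (mem b).mpr (Or.inr (Or.inl rfl))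
  have hc := (mem c).mpr (Or.inr (Or.inr rfl))
  rw [Finset.mem_inter] at ha hb hc
  have c1 : (B \ (B ∩ B')).card = 1 := by
    rw [Finset.card_sdiff_of_subset Finset.inter_subset_left, hB, h3]
  have c1' : (B' \ (B ∩ B')).card = 1 := by
    rw [Finset.card_sdiff_of_subset Finset.inter_subset_right, hB', h3]
  obtain ⟨d, hd⟩ := Finset.card_eq_one.mp c1
  obtain ⟨e, he⟩ := Finset.card_eq_one.mp c1'
  have hd' : d ∈ B \ (B ∩ B') := by rw [hd]; simp
  have he' : e ∈ B' \ (B ∩ B') := by rw [he]; simp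
  rw [Finset.mem_sdiff, Finset.mem_inter] at hd' he'
  have hdB' : d ∉ B' := fun h => hd'.2 ⟨hd'.1, h⟩
  have heB : e ∉ B := fun h => he'.2 ⟨h, he'.1⟩
  have hda : d ≠ a := fun h => hdB' (h ▸ ha.2)
  have hdb : d ≠ b := fun h => hdB' (h ▸ hb.2)
  have hdc : d ≠ c := fun h => hdB' (h ▸ hc.2)
  have hea : e ≠ a := fun h => heB (h ▸ ha.1)
  have heb : e ≠ b := fun h => heB (h ▸ hb.1)
  have hec : e ≠ c := fun h => heB (h ▸ hc.1)
  have hde : d ≠ e := fun h => hdB' (h ▸ he'.1)
  have t_mem : swap a b * swap c d ∈ M :=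
    hV a b c d ha.1 hb.1 hc.1 hd'.1 hab hac hda.symm hbc hdb.symm hdc.symm
  have t'_mem : swap a b * swap c e ∈ M :=
    hV' a b c e ha.2 hb.2 hc.2 he'.1 hab hac hea.symm hbc heb.symm hec.symm
  have hcomm : Commute (swap a b) (swap c d) := by
    apply Disjoint.commute
    apply disjoint_swap_swap
    simp [hab, hac, hda.symm, hbc, hdb.symm, hdc.symm]
  refine ⟨swap a b * swap c d * (swap a b * swap c e), M.mul_mem t_mem t'_mem, ?_⟩
  have : swap a b * swap c d * (swap a b * swap c e) = swap c d * swap c e := by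
    calc swap a b * swap c d * (swap a b * swap c e)
        = swap c d * swap a b * (swap a b * swap c e) := by rw [hcomm.eq]
      _ = swap c d * (swap a b * swap a b) * swap c e := by simp only [mul_assoc]
      _ = swap c d * swap c e := by rw [swap_mul_self, mul_one]
  rw [this]
  exact isThreeCycle_swap_mul_swap_same hdc.symm hec.symm hde

/-- A 2-transitive group of degree `n ≥ 5`, `n ≠ 7, 8`, containing all double transpositions
on some 4-set contains a 3-cycle. -/
theorem exists_threeCycle (M : Subgroup (Perm α)) (h2 : IsMultiplyPretransitive M α 2)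
    (Δ : Finset α) (hΔ : Δ.card = 4) (hV : HasV M Δ) (hn : 5 ≤ Fintype.card α)
    (h7 : Fintype.card α ≠ 7) (h8 : Fintype.card α ≠ 8) : ∃ g ∈ M, IsThreeCycle g := by
  classical
  by_contra hno
  push Not at hno
  set 𝓑 : Finset (Finset α) := Finset.univ.filter (fun B => B.card = 4 ∧ HasV M B) with h𝓑
  have mem𝓑 : ∀ B, B ∈ 𝓑 ↔ B.card = 4 ∧ HasV M B := by
    intro B; rw [h𝓑]; simp
  -- monotonicity of the pair counts under the group
  have hle : ∀ x y x' y' : α, x ≠ y → x' ≠ y' →
      (𝓑.filter (fun B => x ∈ B ∧ y ∈ B)).card ≤ (𝓑.filter (fun B => x' ∈ B ∧ y' ∈ B)).card := by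
    intro x y x' y' hxy hxy'
    obtain ⟨⟨g, hg⟩, hgx, hgy⟩ := (is_two_pretransitive_iff.mp h2) hxy hxy'
    change g x = x' at hgx
    change g y = y' at hgy
    apply Finset.card_le_card_of_injOn (fun B => B.image g)
    · intro B hB
      rw [Finset.mem_coe, Finset.mem_filter] at hB ⊢
      refine ⟨(mem𝓑 _).mpr ⟨?_, hasV_image ((mem𝓑 B).mp hB.1).2 hg⟩, ?_, ?_⟩
      · rw [Finset.card_image_of_injective _ g.injective]
        exact ((mem𝓑 B).mp hB.1).1
      · rw [← hgx]; exact Finset.mem_image_of_mem _ hB.2.1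
      · rw [← hgy]; exact Finset.mem_image_of_mem _ hB.2.2
    · intro B _ B' _ h
      exact Finset.image_injective g.injective h
  obtain ⟨x₀, y₀, hxy₀⟩ := Fintype.exists_pair_of_one_lt_card (α := α) (by omega)
  set lam := (𝓑.filter (fun B => x₀ ∈ B ∧ y₀ ∈ B)).card with hlam
  have hlam' : ∀ x y : α, x ≠ y → (𝓑.filter (fun B => x ∈ B ∧ y ∈ B)).card = lam := by
    intro x y hxy
    exact le_antisymm (hle x y x₀ y₀ hxy hxy₀) (hle x₀ y₀ x y hxy₀ hxy)
  -- positivity
  have hpos : 1 ≤ lam := by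
    have h2' : 1 < Δ.card := by omega
    obtain ⟨a, ha, b, hb, hab⟩ := Finset.one_lt_card.mp h2'
    rw [← hlam' a b hab]
    apply Finset.card_pos.mpr
    exact ⟨Δ, Finset.mem_filter.mpr ⟨(mem𝓑 Δ).mpr ⟨hΔ, hV⟩, ha, hb⟩⟩
  apply design_count 𝓑 lam (fun B hB => ((mem𝓑 B).mp hB).1) ?_ hlam' hpos hn h7 h8
  intro B hB B' hB' hne
  obtain ⟨hB4, hBV⟩ := (mem𝓑 B).mp hB
  obtain ⟨hB4', hBV'⟩ := (mem𝓑 B').mp hB'
  have hle4 : (B ∩ B').card ≤ 4 := hB4 ▸ Finset.card_le_card Finset.inter_subset_left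
  have hne4 : (B ∩ B').card ≠ 4 := by
    intro h
    apply hne
    have e1 : B ∩ B' = B :=
      Finset.eq_of_subset_of_card_le Finset.inter_subset_left (by rw [h, hB4])
    have e2 : B ∩ B' = B' :=
      Finset.eq_of_subset_of_card_le Finset.inter_subset_right (by rw [h, hB4'])
    rw [← e1]
    nth_rewrite 2 [← e2]
    rfl
  have hne1 : (B ∩ B').card ≠ 1 := by
    intro h
    obtain ⟨g, hg, hg3⟩ := threeCycle_of_inter_one hB4 hB4' hBV hBV' h
    exact hno g hg hg3
  have hne3 : (B ∩ B').card ≠ 3 := by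
    intro h
    obtain ⟨g, hg, hg3⟩ := threeCycle_of_inter_three hB4 hB4' hBV hBV' h
    exact hno g hg hg3
  omega

end Cfsg.Agent.Lib.Helper4.SylTwoMax2
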