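import Mathlib
import Cfsg.Agent.Lib.Helper4.SylTwoMax1
import Cfsg.Agent.Lib.Helper4.SylTwoMax2

/-!
# Sylow 2-subgroups of alternating groups lying in a unique maximal subgroup (part 3)

The alternating group of degree `2 ^ k + 1`, `k ≥ 2`.
-/

namespace Cfsg.Agent.Lib.Helper4.SylTwoMax3

open Equiv Equiv.Perm MulAction
open Cfsg.Agent.Lib.Helper4.SylTwoMax1 Cfsg.Agent.Lib.Helper4.SylTwoMax2

/-- The Klein four-group inside `Perm (Fin 4)`. -/
def V4 : Subgroup (Perm (Fin 4)) where
  carrier := {g | g = 1 ∨ g = swap 0 1 * swap 2 3 ∨ g = swap 0 2 * swap 1 3 ∨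
    g = swap 0 3 * swap 1 2}
  mul_mem' := by
    rintro a b (rfl | rfl | rfl | rfl) (rfl | rfl | rfl | rfl) <;>
      simp only [Set.mem_setOf_eq] <;> decide
  one_mem' := Or.inl rfl
  inv_mem' := by
    rintro a (rfl | rfl | rfl | rfl) <;> simp only [Set.mem_setOf_eq] <;> decide

theorem mem_V4 (g : Perm (Fin 4)) : g ∈ V4 ↔ g = 1 ∨ g = swap 0 1 * swap 2 3 ∨
    g = swap 0 2 * swap 1 3 ∨ g = swap 0 3 * swap 1 2 := Iff.rfl

theorem V4_sq (v : Perm (Fin 4)) (hv : v ∈ V4) : v * v = 1 := by
  rcases hv with rfl | rfl | rfl | rfl <;> decide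

theorem V4_sign (v : Perm (Fin 4)) (hv : v ∈ V4) : sign v = 1 := by
  rcases hv with rfl | rfl | rfl | rfl <;> decide

theorem V4_mem (i j k l : Fin 4) (hij : i ≠ j) (hik : i ≠ k) (hil : i ≠ l) (hjk : j ≠ k)
    (hjl : j ≠ l) (hkl : k ≠ l) : swap i j * swap k l ∈ V4 := by
  rw [mem_V4]
  revert hij hik hil hjk hjl hkl
  fin_cases i <;> fin_cases j <;> fin_cases k <;> fin_cases l <;> decide

variable {α : Type*} [Fintype α] [DecidableEq α]

theorem viaEmb_swap (ι : Fin 4 ↪ α) (i j : Fin 4) :
    viaEmbeddingHom ι (swap i j) = swap (ι i) (ι j) := by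
  ext x
  rw [viaEmbeddingHom_apply]
  by_cases hx : x ∈ Set.range ι
  · obtain ⟨y, rfl⟩ := hx
    rw [viaEmbedding_apply, ι.injective.swap_apply]
  · rw [viaEmbedding_apply_of_notMem _ _ _ hx, swap_apply_of_ne_of_ne]
    · rintro rfl; exact hx ⟨i, rfl⟩
    · rintro rfl; exact hx ⟨j, rfl⟩

theorem sign_viaEmb_V4 (ι : Fin 4 ↪ α) (v : Perm (Fin 4)) (hv : v ∈ V4) :
    sign (viaEmbeddingHom ι v) = 1 := by
  have h01 : ι 0 ≠ ι 1 := fun h => by simpa using ι.injective h
  have h23 : ι 2 ≠ ι 3 := fun h => by simpa using ι.injective h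
  have h02 : ι 0 ≠ ι 2 := fun h => by simpa using ι.injective h
  have h13 : ι 1 ≠ ι 3 := fun h => by simpa using ι.injective h
  have h03 : ι 0 ≠ ι 3 := fun h => by simpa using ι.injective h
  have h12 : ι 1 ≠ ι 2 := fun h => by simpa using ι.injective h
  rcases hv with rfl | rfl | rfl | rfl
  · simp
  · rw [map_mul, viaEmb_swap, viaEmb_swap, map_mul, sign_swap h01, sign_swap h23]; rfl
  · rw [map_mul, viaEmb_swap, viaEmb_swap, map_mul, sign_swap h02, sign_swap h13]; rfl
  · rw [map_mul, viaEmb_swap, viaEmb_swap, map_mul, sign_swap h03, sign_swap h12]; rfl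

/-- Transport of `HasV` by conjugation into another subgroup. -/
theorem hasV_conj {T Q' : Subgroup (Perm α)} {B : Finset α} (h : HasV T B) (g : Perm α)
    (hg : ∀ t ∈ T, g * t * g⁻¹ ∈ Q') : HasV Q' (B.image g) := by
  intro a b c d ha hb hc hd hab hac had hbc hbd hcd
  rw [Finset.mem_image] at ha hb hc hd
  obtain ⟨a, ha, rfl⟩ := ha
  obtain ⟨b, hb, rfl⟩ := hb
  obtain ⟨c, hc, rfl⟩ := hc
  obtain ⟨d, hd, rfl⟩ := hd
  rw [← conj_double_swap]
  exact hg _ (h a b c d ha hb hc hd (fun h => hab (by rw [h])) (fun h => hac (by rw [h]))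
    (fun h => had (by rw [h])) (fun h => hbc (by rw [h])) (fun h => hbd (by rw [h]))
    (fun h => hcd (by rw [h])))

/-- A Sylow 2-subgroup of an alternating group of degree at least 4 contains all double
transpositions on some 4-set. -/
theorem sylow_alt_hasV (hα : 4 ≤ Fintype.card α) (Q : Sylow 2 (alternatingGroup α)) :
    ∃ Δ : Finset α, Δ.card = 4 ∧
      HasV ((Q : Subgroup (alternatingGroup α)).map (alternatingGroup α).subtype) Δ := by
  obtain ⟨ι⟩ := Function.Embedding.nonempty_of_card_le (α := Fin 4) (β := α) (by simpa using hα)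
  set T : Subgroup (Perm α) := V4.map (viaEmbeddingHom ι) with hT
  have hTA : T ≤ alternatingGroup α := by
    rintro _ ⟨v, hv, rfl⟩
    rw [mem_alternatingGroup]
    exact sign_viaEmb_V4 ι v hv
  have hTsq : ∀ t ∈ T, t * t = 1 := by
    rintro _ ⟨v, hv, rfl⟩
    rw [← map_mul, V4_sq v hv, map_one]
  have hTp : IsPGroup 2 (T.subgroupOf (alternatingGroup α)) := by
    rintro ⟨⟨t, htA⟩, ht⟩
    refine ⟨1, ?_⟩
    rw [Subgroup.mem_subgroupOf] at ht
    apply Subtype.ext
    apply Subtype.ext
    simp only [pow_one, Subgroup.coe_pow, Subgroup.coe_one]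
    rw [pow_two]
    exact hTsq t ht
  obtain ⟨g, hg⟩ := exists_conj_le_sylow Q _ hTp
  have hVT : HasV T (Finset.univ.image ι) := by
    intro a b c d ha hb hc hd hab hac had hbc hbd hcd
    rw [Finset.mem_image] at ha hb hc hd
    obtain ⟨i, -, rfl⟩ := ha
    obtain ⟨j, -, rfl⟩ := hb
    obtain ⟨k, -, rfl⟩ := hc
    obtain ⟨l, -, rfl⟩ := hd
    refine ⟨swap i j * swap k l, V4_mem i j k l (fun h => hab (by rw [h])) (fun h => hac (by rw [h]))
      (fun h => had (by rw [h])) (fun h => hbc (by rw [h])) (fun h => hbd (by rw [h]))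
      (fun h => hcd (by rw [h])), ?_⟩
    rw [map_mul, viaEmb_swap, viaEmb_swap]
  refine ⟨(Finset.univ.image ι).image (g : Perm α), ?_, ?_⟩
  · rw [Finset.card_image_of_injective _ (g : Perm α).injective,
      Finset.card_image_of_injective _ ι.injective]
    simp
  · apply hasV_conj hVT
    intro t ht
    have := hg ⟨t, hTA ht⟩ (by rw [Subgroup.mem_subgroupOf]; exact ht)
    exact ⟨g * ⟨t, hTA ht⟩ * g⁻¹, this, rfl⟩

theorem hasV_mono {T M : Subgroup (Perm α)} {B : Finset α} (h : HasV T B) (hle : T ≤ M) :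
    HasV M B := fun a b c d ha hb hc hd hab hac had hbc hbd hcd =>
  hle (h a b c d ha hb hc hd hab hac had hbc hbd hcd)

/-- A Sylow 2-subgroup of the alternating group of degree `2 ^ k + 1`, `k ≥ 2`, fixes a point
and is transitive on the remaining points. -/
theorem sylow_alt_pointedTrans {k : ℕ} (hk : 2 ≤ k) (hα : Fintype.card α = 2 ^ k + 1)
    (Q : Sylow 2 (alternatingGroup α)) :
    ∃ x, PointedTrans ((Q : Subgroup (alternatingGroup α)).map (alternatingGroup α).subtype) x := by
  set Q' := (Q : Subgroup (alternatingGroup α)).map (alternatingGroup α).subtype with hQ'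
  have hQ'p : IsPGroup 2 Q' := Q.isPGroup'.map _
  obtain ⟨R, hR⟩ := hQ'p.exists_le_sylow
  obtain ⟨x, hx⟩ := sylow_pointedTrans (by omega) hα R
  have h4 : 4 ≤ 2 ^ k := by
    calc 4 = 2 ^ 2 := by norm_num
      _ ≤ 2 ^ k := Nat.pow_le_pow_right (by norm_num) hk
  -- even elements of `R` lie in `Q'`
  have heven : ∀ r ∈ (R : Subgroup (Perm α)), sign r = 1 → r ∈ Q' := by
    intro r hr hs
    have hS : IsPGroup 2 ((R : Subgroup (Perm α)).subgroupOf (alternatingGroup α)) :=
      R.isPGroup'.comap_subtype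
    have hle : (Q : Subgroup (alternatingGroup α)) ≤
        (R : Subgroup (Perm α)).subgroupOf (alternatingGroup α) := by
      intro q hq
      rw [Subgroup.mem_subgroupOf]
      exact hR ⟨q, hq, rfl⟩
    have heq := Q.is_maximal' hS hle
    have : (⟨r, mem_alternatingGroup.mpr hs⟩ : alternatingGroup α) ∈
        (R : Subgroup (Perm α)).subgroupOf (alternatingGroup α) := by
      rw [Subgroup.mem_subgroupOf]; exact hr
    rw [heq] at this
    exact ⟨_, this, rfl⟩
  refine ⟨x, fun r hr => hx.1 r (hR hr), ?_⟩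
  intro y z hy hz
  obtain ⟨r, hr, hryz⟩ := hx.2 y z hy hz
  by_cases hs : sign r = 1
  · exact ⟨r, heven r hr hs, hryz⟩
  · have hs' : sign r = -1 := (Int.units_eq_one_or _).resolve_left hs
    obtain ⟨t, ht, u, v, huv, rfl⟩ := sylow_contains_swap (by omega) R
    have hxu : x ≠ u := by
      intro h
      have := hx.1 _ ht
      rw [h, swap_apply_left] at this
      exact huv this.symm
    have hxv : x ≠ v := by
      intro h
      have := hx.1 _ ht
      rw [h, swap_apply_right] at this
      exact huv this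
    have hcard : ({x, u, v} : Finset α).card < (Finset.univ : Finset α).card := by
      rw [Finset.card_univ, hα]
      have := Finset.card_le_three (a := x) (b := u) (c := v)
      omega
    obtain ⟨w, -, hw⟩ := Finset.exists_mem_notMem_of_card_lt_card hcard
    simp only [Finset.mem_insert, Finset.mem_singleton, not_or] at hw
    obtain ⟨r', hr', hr'w⟩ := hx.2 w z hw.1 hz
    set s := r' * swap u v * r'⁻¹ with hs_def
    have hsR : s ∈ (R : Subgroup (Perm α)) :=
      Subgroup.mul_mem _ (Subgroup.mul_mem _ hr' ht) (Subgroup.inv_mem _ hr')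
    have hsz : s z = z := by
      rw [hs_def, ← hr'w]
      simp only [Perm.coe_mul, Function.comp_apply]
      rw [show r'⁻¹ (r' w) = w from by simp, swap_apply_of_ne_of_ne hw.2.1 hw.2.2]
    have hss : sign s = -1 := by
      rw [hs_def, Perm.sign_mul, Perm.sign_mul, sign_inv, sign_swap huv]
      rcases Int.units_eq_one_or (sign r') with h | h <;> rw [h] <;> decide
    refine ⟨s * r, heven _ (Subgroup.mul_mem _ hsR hr) ?_, ?_⟩
    · rw [Perm.sign_mul, hss, hs']; decide
    · rw [Perm.mul_apply, hryz, hsz]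

/-- **Alternating group, degree `2 ^ k + 1`, `k ≥ 2`**: a Sylow 2-subgroup lies in exactly one
maximal subgroup. -/
theorem unique_coatom_alt {k : ℕ} (hk : 2 ≤ k) (hα : Fintype.card α = 2 ^ k + 1)
    (Q : Sylow 2 (alternatingGroup α)) :
    ∃! M : Subgroup (alternatingGroup α), IsCoatom M ∧ (Q : Subgroup (alternatingGroup α)) ≤ M := by
  obtain ⟨x, hx⟩ := sylow_alt_pointedTrans hk hα Q
  have h4 : 4 ≤ 2 ^ k := by
    calc 4 = 2 ^ 2 := by norm_num
      _ ≤ 2 ^ k := Nat.pow_le_pow_right (by norm_num) hk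
  obtain ⟨Δ, hΔ, hV⟩ := sylow_alt_hasV (by omega) Q
  have hco : IsCoatom (stabilizer (alternatingGroup α) x) := by
    rw [← stabilizer_singleton]
    apply alternatingGroup.isCoatom_stabilizer
    · exact Set.singleton_nonempty x
    · obtain ⟨y, hy⟩ := Fintype.exists_ne_of_one_lt_card (α := α) (by omega) x
      exact ⟨y, by simpa using hy⟩
    · rw [Nat.card_eq_fintype_card, hα, Set.ncard_singleton]
      omega
  refine ⟨stabilizer (alternatingGroup α) x, ⟨hco, ?_⟩, ?_⟩
  · intro q hq
    rw [mem_stabilizer_iff]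
    exact hx.1 _ ⟨q, hq, rfl⟩
  · rintro M ⟨hM, hQM⟩
    set M' := M.map (alternatingGroup α).subtype with hM'
    have hQM' : (Q : Subgroup (alternatingGroup α)).map (alternatingGroup α).subtype ≤ M' :=
      Subgroup.map_mono hQM
    by_cases hfix : ∀ g ∈ M', g x = x
    · have hle : M ≤ stabilizer (alternatingGroup α) x := by
        intro m hm
        rw [mem_stabilizer_iff]
        exact hfix _ ⟨m, hm, rfl⟩
      by_contra hne
      exact hco.1 (hM.2 _ (lt_of_le_of_ne hle hne))
    · exfalso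
      push Not at hfix
      have h2 := two_trans_of_pointedTrans hx hQM' hfix
      have hprim : IsPreprimitive M' α := isPreprimitive_of_is_two_pretransitive h2
      have h7 : Fintype.card α ≠ 7 := by
        rw [hα]
        intro h
        have h6 : 2 ^ k = 6 := by omega
        rcases Nat.lt_or_ge k 3 with h3 | h3
        · interval_cases k; omega
        · have : 2 ^ 3 ≤ 2 ^ k := Nat.pow_le_pow_right (by norm_num) h3
          omega
      have h8 : Fintype.card α ≠ 8 := by
        rw [hα]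
        intro h
        have hd : 2 ∣ 2 ^ k := dvd_pow_self 2 (by omega)
        omega
      obtain ⟨g, hg, hg3⟩ := exists_threeCycle M' h2 Δ hΔ (hasV_mono hV hQM') (by omega) h7 h8
      have hA := alternatingGroup_le_of_isPreprimitive_of_isThreeCycle_mem hprim hg3 hg
      apply hM.1
      rw [eq_top_iff]
      intro a _
      obtain ⟨m, hm, hma⟩ := hA a.2
      have : m = a := Subtype.ext hma
      rw [← this]
      exact hm

end Cfsg.Agent.Lib.Helper4.SylTwoMax3
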