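import Mathlib

/-!
# Sylow 2-subgroups of symmetric groups lying in a unique maximal subgroup (part 4)

A 2-group of permutations of a set of even size commutes with some fixed-point-free involution.
-/

namespace Cfsg.Agent.Lib.Helper4.SylTwoMax4

open Equiv Equiv.Perm MulAction
open scoped Nat

theorem odd_doubleFactorial (k : ℕ) : Odd (2 * k + 1)‼ := by
  induction k with
  | zero => simp
  | succ k ih =>
    have : 2 * (k + 1) + 1 = (2 * k + 1) + 2 := by ring
    rw [this, Nat.doubleFactorial_add_two]
    exact Odd.mul ⟨k + 1, by ring⟩ ih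

variable {α : Type*} [Fintype α] [DecidableEq α]

/-- The number of fixed-point-free involutions of a set of size `2k` is odd. -/
theorem odd_card_fpf (k : ℕ) (hk : 1 ≤ k) (hα : Fintype.card α = 2 * k) :
    Odd (Finset.univ.filter (fun g : Perm α => g.cycleType = Multiset.replicate k 2)).card := by
  have h := card_of_cycleType_mul_eq α (Multiset.replicate k 2)
  have hsum : (Multiset.replicate k 2).sum = 2 * k := by
    rw [Multiset.sum_replicate, smul_eq_mul, mul_comm]
  rw [if_pos, hsum, hα, Nat.sub_self, Nat.factorial_zero, one_mul, Multiset.prod_replicate,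
    Multiset.toFinset_replicate, if_neg (by omega), Finset.prod_singleton,
    Multiset.count_replicate_self] at h
  · obtain ⟨j, rfl⟩ : ∃ j, k = j + 1 := ⟨k - 1, by omega⟩
    have h2 : (2 * (j + 1))! = 2 ^ (j + 1) * (j + 1)! * (2 * j + 1)‼ := by
      have : 2 * (j + 1) = (2 * j + 1) + 1 := by ring
      rw [this, Nat.factorial_eq_mul_doubleFactorial, ← this, Nat.doubleFactorial_two_mul]
    rw [h2, mul_comm] at h
    have hpos : 0 < 2 ^ (j + 1) * (j + 1)! := by positivity
    have := Nat.eq_of_mul_eq_mul_left hpos h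
    rw [this]
    exact odd_doubleFactorial j
  · refine ⟨by rw [hsum, hα], fun a ha => ?_⟩
    rw [Multiset.mem_replicate] at ha
    omega

/-- A 2-group of permutations of a nonempty set of even size commutes with a fixed-point-free
involution. -/
theorem exists_fpf_invol_commute (k : ℕ) (hk : 1 ≤ k) (hα : Fintype.card α = 2 * k)
    (P : Subgroup (Perm α)) (hP : IsPGroup 2 P) :
    ∃ μ : Perm α, (∀ y, μ y ≠ y) ∧ (∀ y, μ (μ y) = y) ∧ ∀ p ∈ P, p * μ = μ * p := by
  classical
  set m := Multiset.replicate k 2 with hm
  letI act : MulAction P {g : Perm α // g.cycleType = m} :=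
    { smul := fun p g => ⟨(p : Perm α) * g.1 * (p : Perm α)⁻¹, by rw [cycleType_conj]; exact g.2⟩
      one_smul := fun g => Subtype.ext (by
        change ((1 : P) : Perm α) * g.1 * ((1 : P) : Perm α)⁻¹ = g.1
        simp)
      mul_smul := fun p q g => Subtype.ext (by
        change ((p * q : P) : Perm α) * g.1 * ((p * q : P) : Perm α)⁻¹ =
          (p : Perm α) * ((q : Perm α) * g.1 * (q : Perm α)⁻¹) * (p : Perm α)⁻¹
        simp [mul_assoc]) }
  have hcard : ¬ 2 ∣ Nat.card {g : Perm α // g.cycleType = m} := by
    rw [Nat.card_eq_fintype_card, Fintype.card_subtype]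
    have := odd_card_fpf k hk hα
    rw [← Nat.not_even_iff_odd, even_iff_two_dvd] at this
    exact this
  obtain ⟨⟨μ, hμ⟩, hfix⟩ := hP.nonempty_fixed_point_of_prime_not_dvd_card _ hcard
  refine ⟨μ, ?_, ?_, ?_⟩
  · -- fixed-point-free
    have hs : μ.support.card = Fintype.card α := by
      rw [← sum_cycleType, hμ, hm, Multiset.sum_replicate, smul_eq_mul, hα, mul_comm]
    have hsupp : μ.support = Finset.univ := Finset.eq_univ_of_card _ hs
    intro y
    rw [← mem_support, hsupp]
    exact Finset.mem_univ y
  · -- involution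
    have ho : orderOf μ ∣ 2 := by
      rw [← lcm_cycleType, hμ, hm, Multiset.lcm_dvd]
      intro b hb
      rw [Multiset.mem_replicate] at hb
      rw [hb.2]
    have h2 : μ ^ 2 = 1 := orderOf_dvd_iff_pow_eq_one.mp ho
    intro y
    have := congrArg (fun f : Perm α => f y) h2
    simpa [pow_two] using this
  · intro p hp
    have := hfix ⟨p, hp⟩
    have h1 : p * μ * p⁻¹ = μ := congrArg Subtype.val this
    calc p * μ = p * μ * p⁻¹ * p := by group
      _ = μ * p := by rw [h1]

end Cfsg.Agent.Lib.Helper4.SylTwoMax4
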