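import Mathlib
import Cfsg.Agent.Lib.Helper4.SylTwoMax1
import Cfsg.Agent.Lib.Helper4.SylTwoMax4

/-!
# Sylow 2-subgroups of symmetric groups lying in a unique maximal subgroup (part 5)

Non-uniqueness: odd degree `n` with `n - 1` not a power of 2, and even degree not a power of 2.
-/

namespace Cfsg.Agent.Lib.Helper4.SylTwoMax5

open Equiv Equiv.Perm MulAction
open scoped Pointwise
open Cfsg.Agent.Lib.Helper4.SylTwoMax1 Cfsg.Agent.Lib.Helper4.SylTwoMax4

variable {α : Type*} [Fintype α] [DecidableEq α]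

/-- The orbit of `y` under a subgroup of `Perm α`, as a plain set. -/
def orb (P : Subgroup (Perm α)) (y : α) : Set α := {z | ∃ p ∈ P, p y = z}

theorem mem_orb_self (P : Subgroup (Perm α)) (y : α) : y ∈ orb P y := ⟨1, P.one_mem, rfl⟩

theorem orb_invariant {P : Subgroup (Perm α)} {y : α} {p : Perm α} (hp : p ∈ P) (b : α) :
    p b ∈ orb P y ↔ b ∈ orb P y := by
  constructor
  · rintro ⟨q, hq, hqy⟩
    refine ⟨p⁻¹ * q, P.mul_mem (P.inv_mem hp) hq, ?_⟩
    rw [Perm.mul_apply, hqy]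
    simp
  · rintro ⟨q, hq, rfl⟩
    exact ⟨p * q, P.mul_mem hp hq, rfl⟩

theorem orb_ncard {P : Subgroup (Perm α)} (hP : IsPGroup 2 P) (y : α) :
    ∃ c : ℕ, (orb P y).ncard = 2 ^ c := by
  have : orb P y = MulAction.orbit P y := by
    ext z
    rw [MulAction.mem_orbit_iff]
    constructor
    · rintro ⟨p, hp, rfl⟩
      exact ⟨⟨p, hp⟩, rfl⟩
    · rintro ⟨⟨p, hp⟩, rfl⟩
      exact ⟨p, hp, rfl⟩
  obtain ⟨c, hc⟩ := hP.card_orbit y
  refine ⟨c, ?_⟩
  rw [this, ← Nat.card_coe_set_eq, hc]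

theorem compl_nonempty_of_ncard_ne {s : Set α} (h : s.ncard ≠ Fintype.card α) : sᶜ.Nonempty := by
  by_contra hne
  rw [Set.not_nonempty_iff_eq_empty, Set.compl_empty_iff] at hne
  rw [hne, Set.ncard_univ, Nat.card_eq_fintype_card] at h
  exact h rfl

/-- The double swap `(a b)(μ a μ b)` commutes with the involution `μ`. -/
theorem double_swap_spec (μ : Perm α) (hfpf : ∀ y, μ y ≠ y) (hinv : ∀ y, μ (μ y) = y) (a b : α)
    (hab : a ≠ b) (hab' : b ≠ μ a) :
    (swap a b * swap (μ a) (μ b)) * μ = μ * (swap a b * swap (μ a) (μ b)) ∧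
    sign (swap a b * swap (μ a) (μ b)) = 1 ∧ (swap a b * swap (μ a) (μ b)) a = b := by
  have h1 : a ≠ μ a := (hfpf a).symm
  have h2 : a ≠ μ b := by
    intro h
    apply hab'
    rw [h, hinv]
  have h3 : b ≠ μ b := (hfpf b).symm
  have h4 : μ a ≠ μ b := fun h => hab (μ.injective h)
  refine ⟨?_, ?_, ?_⟩
  · have hconj : μ * (swap a b * swap (μ a) (μ b)) * μ⁻¹ = swap a b * swap (μ a) (μ b) := by
      have e1 : μ * (swap a b * swap (μ a) (μ b)) * μ⁻¹ =
          (μ * swap a b * μ⁻¹) * (μ * swap (μ a) (μ b) * μ⁻¹) := by group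
      rw [e1, ← swap_apply_apply, ← swap_apply_apply, hinv, hinv]
      have hd : Perm.Disjoint (swap (μ a) (μ b)) (swap a b) := by
        apply disjoint_swap_swap
        simp [h4, h1.symm, hab'.symm, h2.symm, h3.symm, hab]
      exact hd.commute.eq
    calc (swap a b * swap (μ a) (μ b)) * μ
        = (μ * (swap a b * swap (μ a) (μ b)) * μ⁻¹) * μ := by rw [hconj]
      _ = μ * (swap a b * swap (μ a) (μ b)) := by group
  · rw [Perm.sign_mul, sign_swap hab, sign_swap h4]; rfl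
  · rw [Perm.mul_apply, swap_apply_of_ne_of_ne h1 h2, swap_apply_left]

/-- An even permutation not commuting with a fixed-point-free involution. -/
theorem exists_even_not_commute (μ : Perm α) (hfpf : ∀ y, μ y ≠ y) (hinv : ∀ y, μ (μ y) = y)
    (h3 : 3 ≤ Fintype.card α) : ∃ c : Perm α, sign c = 1 ∧ c * μ ≠ μ * c := by
  have hne : Nonempty α := by
    rw [← Fintype.card_pos_iff]; omega
  obtain ⟨a⟩ := hne
  have hcard : ({a, μ a} : Finset α).card < (Finset.univ : Finset α).card := by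
    rw [Finset.card_univ]
    have := Finset.card_le_two (a := a) (b := μ a)
    omega
  obtain ⟨q, -, hq⟩ := Finset.exists_mem_notMem_of_card_lt_card hcard
  simp only [Finset.mem_insert, Finset.mem_singleton, not_or] at hq
  refine ⟨swap a q * swap a (μ a), ?_, ?_⟩
  · rw [Perm.sign_mul, sign_swap (Ne.symm hq.1), sign_swap (hfpf a).symm]; rfl
  · intro h
    have := congrArg (fun f : Perm α => f a) h
    simp only [Perm.mul_apply] at this
    rw [swap_apply_right, swap_apply_left, swap_apply_left,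
      swap_apply_of_ne_of_ne (hfpf a) (Ne.symm hq.2), hinv] at this
    exact hq.1 this

/-- Data for the odd case: a fixed point, an invariant set and an even permutation separating
their stabilizers. -/
theorem kit_odd (hodd : ¬ 2 ∣ Fintype.card α) (h5 : 5 ≤ Fintype.card α)
    (hnp : ∀ c : ℕ, Fintype.card α ≠ 2 ^ c + 1) (P : Subgroup (Perm α)) (hP : IsPGroup 2 P) :
    ∃ (x : α) (s : Set α) (c : Perm α), (∀ p ∈ P, p x = x) ∧ (∀ p ∈ P, ∀ b, p b ∈ s ↔ b ∈ s) ∧
      s.Nonempty ∧ x ∉ s ∧ c x = x ∧ (∃ y ∈ s, c y ∉ s) ∧ sign c = 1 := by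
  obtain ⟨x, hx⟩ := hP.nonempty_fixed_point_of_prime_not_dvd_card α
    (by rwa [Nat.card_eq_fintype_card])
  have hfix : ∀ p ∈ P, p x = x := fun p hp => hx ⟨p, hp⟩
  obtain ⟨y, hy⟩ := Fintype.exists_ne_of_one_lt_card (α := α) (by omega) x
  have hxs : x ∉ orb P y := by
    rintro ⟨p, hp, hpy⟩
    apply hy
    apply p.injective
    rw [hpy, hfix p hp]
  obtain ⟨c, hc⟩ := orb_ncard hP y
  -- a point outside the orbit, different from `x`
  have hw : ∃ w, w ≠ x ∧ w ∉ orb P y := by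
    by_contra hcon
    push Not at hcon
    have hs : orb P y = ({x} : Set α)ᶜ := by
      ext z
      simp only [Set.mem_compl_iff, Set.mem_singleton_iff]
      constructor
      · intro hz hzx
        exact hxs (hzx ▸ hz)
      · exact hcon z
    have h1 := Set.ncard_add_ncard_compl ({x} : Set α)
    rw [← hs, hc, Set.ncard_singleton, Nat.card_eq_fintype_card] at h1
    exact hnp c (by omega)
  obtain ⟨w, hwx, hws⟩ := hw
  have hwy : w ≠ y := fun h => hws (h ▸ mem_orb_self P y)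
  have hcard : ({x, y, w} : Finset α).card < (Finset.univ : Finset α).card := by
    rw [Finset.card_univ]
    have := Finset.card_le_three (a := x) (b := y) (c := w)
    omega
  obtain ⟨w', -, hw'⟩ := Finset.exists_mem_notMem_of_card_lt_card hcard
  simp only [Finset.mem_insert, Finset.mem_singleton, not_or] at hw'
  refine ⟨x, orb P y, swap y w' * swap y w, hfix, fun p hp b => orb_invariant hp b,
    ⟨y, mem_orb_self P y⟩, hxs, ?_, ⟨y, mem_orb_self P y, ?_⟩, ?_⟩
  · rw [Perm.mul_apply, swap_apply_of_ne_of_ne hy.symm hwx.symm,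
      swap_apply_of_ne_of_ne hy.symm (Ne.symm hw'.1)]
  · rw [Perm.mul_apply, swap_apply_left, swap_apply_of_ne_of_ne hwy (Ne.symm hw'.2.2)]
    exact hws
  · rw [Perm.sign_mul, sign_swap (Ne.symm hw'.2.1), sign_swap hwy.symm]; rfl

/-- Symmetric group, odd degree `n` with `n - 1` not a power of 2: no unique maximal subgroup
above a Sylow 2-subgroup. -/
theorem not_unique_perm_odd (hodd : ¬ 2 ∣ Fintype.card α) (h5 : 5 ≤ Fintype.card α)
    (hnp : ∀ c : ℕ, Fintype.card α ≠ 2 ^ c + 1) (R : Sylow 2 (Perm α)) :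
    ¬ ∃! M : Subgroup (Perm α), IsCoatom M ∧ (R : Subgroup (Perm α)) ≤ M := by
  obtain ⟨x, s, c, hfix, hinv, hne, hxs, hcx, ⟨y, hys, hcy⟩, -⟩ :=
    kit_odd hodd h5 hnp (R : Subgroup (Perm α)) R.isPGroup'
  have hodd' : ∀ m : ℕ, Nat.card α ≠ 2 * m := by
    intro m h
    rw [Nat.card_eq_fintype_card] at h
    exact hodd ⟨m, h⟩
  have c1 : IsCoatom (stabilizer (Perm α) ({x} : Set α)) :=
    Equiv.Perm.isCoatom_stabilizer (Set.singleton_nonempty x)
      (by obtain ⟨z, hz⟩ := hne; exact ⟨z, fun h => hxs (h ▸ hz)⟩) (hodd' _)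
  have c2 : IsCoatom (stabilizer (Perm α) s) :=
    Equiv.Perm.isCoatom_stabilizer hne ⟨x, hxs⟩ (hodd' _)
  apply not_unique_coatom' (R : Subgroup (Perm α)) _ _ _ _ c1 c2
  · intro h
    have hc1 : c ∈ stabilizer (Perm α) ({x} : Set α) := by
      rw [stabilizer_singleton, mem_stabilizer_iff]
      exact hcx
    rw [h, mem_stabilizer_set] at hc1
    exact hcy ((hc1 y).mpr hys)
  · intro r hr
    rw [stabilizer_singleton, mem_stabilizer_iff]
    exact hfix r hr
  · intro r hr
    rw [mem_stabilizer_set]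
    exact hinv r hr

/-- Alternating group, odd degree `n` with `n - 1` not a power of 2. -/
theorem not_unique_alt_odd (hodd : ¬ 2 ∣ Fintype.card α) (h5 : 5 ≤ Fintype.card α)
    (hnp : ∀ c : ℕ, Fintype.card α ≠ 2 ^ c + 1) (Q : Sylow 2 (alternatingGroup α)) :
    ¬ ∃! M : Subgroup (alternatingGroup α), IsCoatom M ∧
      (Q : Subgroup (alternatingGroup α)) ≤ M := by
  obtain ⟨x, s, c, hfix, hinv, hne, hxs, hcx, ⟨y, hys, hcy⟩, hsign⟩ :=
    kit_odd hodd h5 hnp ((Q : Subgroup (alternatingGroup α)).map (alternatingGroup α).subtype)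
      (Q.isPGroup'.map _)
  have hodd' : ∀ m : ℕ, Nat.card α ≠ 2 * m := by
    intro m h
    rw [Nat.card_eq_fintype_card] at h
    exact hodd ⟨m, h⟩
  have c1 : IsCoatom (stabilizer (alternatingGroup α) ({x} : Set α)) :=
    alternatingGroup.isCoatom_stabilizer (Set.singleton_nonempty x)
      (by obtain ⟨z, hz⟩ := hne; exact ⟨z, fun h => hxs (h ▸ hz)⟩) (hodd' _)
  have c2 : IsCoatom (stabilizer (alternatingGroup α) s) :=
    alternatingGroup.isCoatom_stabilizer hne ⟨x, hxs⟩ (hodd' _)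
  apply not_unique_coatom' (Q : Subgroup (alternatingGroup α)) _ _ _ _ c1 c2
  · intro h
    have hc1 : (⟨c, mem_alternatingGroup.mpr hsign⟩ : alternatingGroup α) ∈
        stabilizer (alternatingGroup α) ({x} : Set α) := by
      rw [stabilizer_singleton, mem_stabilizer_iff]
      exact hcx
    rw [h, mem_stabilizer_set] at hc1
    exact hcy ((hc1 y).mpr hys)
  · intro q hq
    rw [stabilizer_singleton, mem_stabilizer_iff]
    exact hfix _ ⟨q, hq, rfl⟩
  · intro q hq
    rw [mem_stabilizer_set]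
    exact hinv _ ⟨q, hq, rfl⟩

/-- Data for the even non-2-power case. -/
theorem kit_even (k : ℕ) (hk : 2 ≤ k) (hα : Fintype.card α = 2 * k)
    (hnp : ∀ c : ℕ, Fintype.card α ≠ 2 ^ c) (P : Subgroup (Perm α)) (hP : IsPGroup 2 P) :
    ∃ (s : Set α) (μ t c : Perm α), (∀ p ∈ P, ∀ b, p b ∈ s ↔ b ∈ s) ∧ s.Nonempty ∧ sᶜ.Nonempty ∧
      Nat.card α ≠ 2 * s.ncard ∧ (∀ p ∈ P, p * μ = μ * p) ∧ t * μ = μ * t ∧ sign t = 1 ∧
      (∃ y ∈ s, t y ∉ s) ∧ sign c = 1 ∧ c * μ ≠ μ * c := by
  have hne : Nonempty α := by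
    rw [← Fintype.card_pos_iff]; omega
  obtain ⟨y⟩ := hne
  obtain ⟨c, hc⟩ := orb_ncard hP y
  obtain ⟨μ, hfpf, hinv, hcomm⟩ := exists_fpf_invol_commute k (by omega) hα P hP
  have hsc : (orb P y)ᶜ.Nonempty := compl_nonempty_of_ncard_ne (by rw [hc]; exact (hnp c).symm)
  obtain ⟨q₀, hq₀⟩ := hsc
  -- a pair `p ∈ s`, `q ∉ s` with `q ≠ μ p`
  have hpq : ∃ p ∈ orb P y, ∃ q, q ∉ orb P y ∧ q ≠ μ p := by
    by_contra hcon
    push Not at hcon
    have hq₀' : q₀ = μ y := hcon y (mem_orb_self P y) q₀ hq₀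
    have hcard : ({y, q₀} : Finset α).card < (Finset.univ : Finset α).card := by
      rw [Finset.card_univ]
      have := Finset.card_le_two (a := y) (b := q₀)
      omega
    obtain ⟨z, -, hz⟩ := Finset.exists_mem_notMem_of_card_lt_card hcard
    simp only [Finset.mem_insert, Finset.mem_singleton, not_or] at hz
    by_cases hzs : z ∈ orb P y
    · have := hcon z hzs q₀ hq₀
      rw [hq₀'] at this
      exact hz.1 (μ.injective this).symm
    · have := hcon y (mem_orb_self P y) z hzs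
      rw [← hq₀'] at this
      exact hz.2 this
  obtain ⟨p, hp, q, hq, hqp⟩ := hpq
  have hpq' : p ≠ q := fun h => hq (h ▸ hp)
  obtain ⟨ht1, ht2, ht3⟩ := double_swap_spec μ hfpf hinv p q hpq' hqp
  obtain ⟨c3, hc3, hc3'⟩ := exists_even_not_commute μ hfpf hinv (by omega)
  refine ⟨orb P y, μ, swap p q * swap (μ p) (μ q), c3, fun p hp b => orb_invariant hp b,
    ⟨y, mem_orb_self P y⟩, ⟨q₀, hq₀⟩, ?_, hcomm, ht1, ht2, ⟨p, hp, by rw [ht3]; exact hq⟩,
    hc3, hc3'⟩
  rw [Nat.card_eq_fintype_card, hc, ← pow_succ']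
  exact hnp (c + 1)

/-- Symmetric group, even degree not a power of 2. -/
theorem not_unique_perm_even (k : ℕ) (hk : 2 ≤ k) (hα : Fintype.card α = 2 * k)
    (hnp : ∀ c : ℕ, Fintype.card α ≠ 2 ^ c) (R : Sylow 2 (Perm α)) :
    ¬ ∃! M : Subgroup (Perm α), IsCoatom M ∧ (R : Subgroup (Perm α)) ≤ M := by
  obtain ⟨s, μ, t, c, hinv, hne, hnec, hcard, hcomm, htμ, -, ⟨y, hys, hty⟩, -, hcμ⟩ :=
    kit_even k hk hα hnp (R : Subgroup (Perm α)) R.isPGroup'
  have c1 : IsCoatom (stabilizer (Perm α) s) := Equiv.Perm.isCoatom_stabilizer hne hnec hcard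
  have hH2 : Subgroup.centralizer ({μ} : Set (Perm α)) ≠ ⊤ := by
    intro h
    have : c ∈ Subgroup.centralizer ({μ} : Set (Perm α)) := by rw [h]; trivial
    rw [Subgroup.mem_centralizer_iff] at this
    exact hcμ (this μ rfl).symm
  obtain ⟨M₂, hM₂, hle⟩ := (eq_top_or_exists_le_coatom _).resolve_left hH2
  apply not_unique_coatom' (R : Subgroup (Perm α)) _ _ _ _ c1 hM₂
  · intro h
    have ht : t ∈ M₂ := hle (by
      rw [Subgroup.mem_centralizer_iff]
      rintro _ rfl
      exact htμ.symm)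
    rw [← h, mem_stabilizer_set] at ht
    exact hty ((ht y).mpr hys)
  · intro r hr
    rw [mem_stabilizer_set]
    exact hinv r hr
  · intro r hr
    apply hle
    rw [Subgroup.mem_centralizer_iff]
    rintro _ rfl
    exact (hcomm r hr).symm

/-- Alternating group, even degree not a power of 2. -/
theorem not_unique_alt_even (k : ℕ) (hk : 2 ≤ k) (hα : Fintype.card α = 2 * k)
    (hnp : ∀ c : ℕ, Fintype.card α ≠ 2 ^ c) (Q : Sylow 2 (alternatingGroup α)) :
    ¬ ∃! M : Subgroup (alternatingGroup α), IsCoatom M ∧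
      (Q : Subgroup (alternatingGroup α)) ≤ M := by
  obtain ⟨s, μ, t, c, hinv, hne, hnec, hcard, hcomm, htμ, hts, ⟨y, hys, hty⟩, hcs, hcμ⟩ :=
    kit_even k hk hα hnp ((Q : Subgroup (alternatingGroup α)).map (alternatingGroup α).subtype)
      (Q.isPGroup'.map _)
  have c1 : IsCoatom (stabilizer (alternatingGroup α) s) :=
    alternatingGroup.isCoatom_stabilizer hne hnec hcard
  set H₂ : Subgroup (alternatingGroup α) :=
    (Subgroup.centralizer ({μ} : Set (Perm α))).subgroupOf (alternatingGroup α) with hH₂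
  have hH2 : H₂ ≠ ⊤ := by
    intro h
    have : (⟨c, mem_alternatingGroup.mpr hcs⟩ : alternatingGroup α) ∈ H₂ := by rw [h]; trivial
    rw [hH₂, Subgroup.mem_subgroupOf, Subgroup.mem_centralizer_iff] at this
    exact hcμ (this μ rfl).symm
  obtain ⟨M₂, hM₂, hle⟩ := (eq_top_or_exists_le_coatom _).resolve_left hH2
  apply not_unique_coatom' (Q : Subgroup (alternatingGroup α)) _ _ _ _ c1 hM₂
  · intro h
    have ht : (⟨t, mem_alternatingGroup.mpr hts⟩ : alternatingGroup α) ∈ M₂ := hle (by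
      rw [hH₂, Subgroup.mem_subgroupOf, Subgroup.mem_centralizer_iff]
      rintro _ rfl
      exact htμ.symm)
    rw [← h, mem_stabilizer_set] at ht
    exact hty ((ht y).mpr hys)
  · intro q hq
    rw [mem_stabilizer_set]
    exact hinv _ ⟨q, hq, rfl⟩
  · intro q hq
    apply hle
    rw [hH₂, Subgroup.mem_subgroupOf, Subgroup.mem_centralizer_iff]
    rintro _ rfl
    exact (hcomm _ ⟨q, hq, rfl⟩).symm

end Cfsg.Agent.Lib.Helper4.SylTwoMax5
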