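import Mathlib
import Cfsg.Agent.Lib.Helper4.SylTwoMax1
import Cfsg.Agent.Lib.Helper4.SylTwoMax4
import Cfsg.Agent.Lib.Helper4.SylTwoMax5

/-!
# Sylow 2-subgroups of symmetric groups lying in a unique maximal subgroup (part 6)

Non-uniqueness in degree `2 ^ a`, `a ≥ 3`.
-/

namespace Cfsg.Agent.Lib.Helper4.SylTwoMax6

open Equiv Equiv.Perm MulAction
open scoped Pointwise
open Cfsg.Agent.Lib.Helper4.SylTwoMax1 Cfsg.Agent.Lib.Helper4.SylTwoMax4
  Cfsg.Agent.Lib.Helper4.SylTwoMax5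

/-- A proper subgroup of a finite 2-group lies in a subgroup of index 2. -/
theorem exists_index_two_ge {G : Type*} [Group G] [Finite G] (hG : IsPGroup 2 G)
    (H : Subgroup G) (hH : H ≠ ⊤) : ∃ K : Subgroup G, H ≤ K ∧ K.index = 2 := by
  obtain ⟨N, hN⟩ := IsPGroup.iff_card.mp hG
  obtain ⟨j, hj⟩ := IsPGroup.iff_card.mp (hG.to_subgroup H)
  have hjN : j < N := by
    have h1 : Nat.card H ≤ Nat.card G := Subgroup.card_le_card_group H
    have h2 : Nat.card H ≠ Nat.card G := fun h => hH (Subgroup.eq_top_of_card_eq H h)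
    rw [hj, hN] at h1 h2
    have : 2 ^ j < 2 ^ N := lt_of_le_of_ne h1 h2
    exact (Nat.pow_lt_pow_iff_right (by norm_num)).mp this
  obtain ⟨K, hK, hle⟩ := Sylow.exists_subgroup_card_pow_prime_le (G := G) 2 (n := j) (m := N - 1)
    (by rw [hN]; exact pow_dvd_pow 2 (by omega)) H hj (by omega)
  refine ⟨K, hle, ?_⟩
  have h := Subgroup.index_mul_card K
  rw [hK, hN] at h
  have hN' : N = (N - 1) + 1 := by omega
  rw [hN', pow_succ] at h
  simp only [Nat.add_sub_cancel] at h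
  have hpos : 0 < 2 ^ (N - 1) := by positivity
  rw [mul_comm (2 ^ (N - 1)) 2] at h
  exact Nat.eq_of_mul_eq_mul_right hpos h

variable {α : Type*} [Fintype α] [DecidableEq α]

/-- A Sylow 2-subgroup of a symmetric group of degree `2 ^ a` is transitive. -/
theorem sylow_transitive {a : ℕ} (ha : 1 ≤ a) (hα : Fintype.card α = 2 ^ a)
    (R : Sylow 2 (Perm α)) : ∀ y z : α, ∃ r ∈ (R : Subgroup (Perm α)), r y = z := by
  have hpos : 2 ≤ 2 ^ a := by
    calc 2 = 2 ^ 1 := by norm_num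
      _ ≤ 2 ^ a := Nat.pow_le_pow_right (by norm_num) ha
  set l : List α := (Finset.univ : Finset α).toList with hl
  have hlen : l.length = 2 ^ a := by
    rw [hl, Finset.length_toList, Finset.card_univ, hα]
  have hnd' : l.Nodup := Finset.nodup_toList _
  have hcyc : l.formPerm.IsCycle := List.isCycle_formPerm hnd' (by omega)
  have hsupp : l.formPerm.support = Finset.univ := by
    rw [List.support_formPerm_of_nodup l hnd', hl, Finset.toList_toFinset]
    intro y hy
    have : l.length = 1 := by rw [hy]; rfl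
    omega
  have hord : orderOf l.formPerm = 2 ^ a := by
    rw [hcyc.orderOf, hsupp, Finset.card_univ, hα]
  have hT : IsPGroup 2 (Subgroup.zpowers l.formPerm) := by
    apply IsPGroup.of_card (n := a)
    rw [Nat.card_zpowers, hord]
  obtain ⟨g, hg⟩ := exists_conj_le_sylow R _ hT
  set σ : Perm α := g * l.formPerm * g⁻¹ with hσ
  have hσR : σ ∈ (R : Subgroup (Perm α)) := hg _ (Subgroup.mem_zpowers _)
  have hσc : σ.IsCycle := hcyc.conj
  have hσsupp : σ.support = Finset.univ := by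
    apply Finset.eq_univ_of_card
    rw [hσ, card_support_conj, hsupp, Finset.card_univ]
  intro y z
  have hy' : σ y ≠ y := by
    rw [← mem_support, hσsupp]; exact Finset.mem_univ y
  have hz' : σ z ≠ z := by
    rw [← mem_support, hσsupp]; exact Finset.mem_univ z
  obtain ⟨i, hi⟩ := hσc.exists_zpow_eq hy' hz'
  exact ⟨σ ^ i, Subgroup.zpow_mem _ hσR i, hi⟩

/-- A transitive 2-group of permutations preserves a bipartition and contains an element
exchanging the two parts. -/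
theorem exists_bipartition (R : Subgroup (Perm α)) (hR : IsPGroup 2 R) (h2 : 2 ≤ Fintype.card α)
    (htr : ∀ y z : α, ∃ r ∈ R, r y = z) :
    ∃ B : Set α, (∀ r ∈ R, (∀ y, r y ∈ B ↔ y ∈ B) ∨ (∀ y, r y ∈ B ↔ y ∉ B)) ∧
      (∃ r ∈ R, ∀ y, r y ∈ B ↔ y ∉ B) ∧ B.Nonempty := by
  have hne : Nonempty α := by
    rw [← Fintype.card_pos_iff]; omega
  obtain ⟨x⟩ := hne
  obtain ⟨x', hx'⟩ := Fintype.exists_ne_of_one_lt_card (α := α) (by omega) x
  have hH : stabilizer R x ≠ ⊤ := by
    intro h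
    obtain ⟨r, hr, hrx⟩ := htr x x'
    have : (⟨r, hr⟩ : R) ∈ stabilizer R x := by rw [h]; trivial
    rw [mem_stabilizer_iff] at this
    exact hx' (hrx.symm.trans this)
  obtain ⟨K, hHK, hK2⟩ := exists_index_two_ge hR (stabilizer R x) hH
  set B : Set α := {y | ∃ k : R, k ∈ K ∧ (k : Perm α) x = y} with hB
  have key : ∀ s : R, (s : Perm α) x ∈ B ↔ s ∈ K := by
    intro s
    constructor
    · rintro ⟨k, hk, hkx⟩
      have : k⁻¹ * s ∈ stabilizer R x := by
        rw [mem_stabilizer_iff]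
        change ((k⁻¹ * s : R) : Perm α) x = x
        rw [Subgroup.coe_mul, Subgroup.coe_inv, Perm.mul_apply, ← hkx]
        simp
      have h2 := K.mul_mem hk (hHK this)
      simpa using h2
    · intro hs
      exact ⟨s, hs, rfl⟩
  have main : ∀ r : R, ∀ y, (r : Perm α) y ∈ B ↔ (r ∈ K ↔ y ∈ B) := by
    intro r y
    obtain ⟨s, hs, rfl⟩ := htr x y
    have e1 : (r : Perm α) (s x) = ((r * ⟨s, hs⟩ : R) : Perm α) x := rfl
    rw [e1, key, Subgroup.mul_mem_iff_of_index_two hK2]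
    have e2 : s x = ((⟨s, hs⟩ : R) : Perm α) x := rfl
    rw [e2, key]
  have hKtop : K ≠ ⊤ := by
    intro h
    rw [h, Subgroup.index_top] at hK2
    omega
  obtain ⟨r₀, hr₀⟩ : ∃ r₀ : R, r₀ ∉ K := by
    by_contra hcon
    push Not at hcon
    exact hKtop (eq_top_iff.mpr fun r _ => hcon r)
  refine ⟨B, ?_, ⟨r₀, r₀.2, ?_⟩, ⟨x, (1 : R), K.one_mem, rfl⟩⟩
  · intro r hr
    by_cases hrK : (⟨r, hr⟩ : R) ∈ K
    · left
      intro y
      have := main ⟨r, hr⟩ y
      simpa [hrK] using this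
    · right
      intro y
      have := main ⟨r, hr⟩ y
      simpa [hrK] using this
  · intro y
    have := main r₀ y
    simpa [hr₀] using this

/-- The stabilizer of the bipartition `{B, Bᶜ}`. -/
def flipStab (B : Set α) : Subgroup (Perm α) where
  carrier := {g | (∀ y, g y ∈ B ↔ y ∈ B) ∨ (∀ y, g y ∈ B ↔ y ∉ B)}
  one_mem' := Or.inl (fun _ => Iff.rfl)
  mul_mem' := by
    rintro g h (hg | hg) (hh | hh)
    · left; intro y; rw [Perm.mul_apply, hg, hh]
    · right; intro y; rw [Perm.mul_apply, hg, hh]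
    · right; intro y; rw [Perm.mul_apply, hg, hh]
    · left; intro y; rw [Perm.mul_apply, hg, hh, not_not]
  inv_mem' := by
    rintro g (hg | hg)
    · left; intro y
      have := hg (g⁻¹ y)
      rw [show g (g⁻¹ y) = y from by simp] at this
      exact this.symm
    · right; intro y
      have := hg (g⁻¹ y)
      rw [show g (g⁻¹ y) = y from by simp] at this
      tauto

theorem mem_flipStab {B : Set α} {g : Perm α} :
    g ∈ flipStab B ↔ (∀ y, g y ∈ B ↔ y ∈ B) ∨ (∀ y, g y ∈ B ↔ y ∉ B) := Iff.rfl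

theorem swap_mem_flipStab {B : Set α} {u v : α} (h : u ∈ B ↔ v ∈ B) :
    swap u v ∈ flipStab B := by
  left
  intro y
  by_cases hu : y = u
  · rw [hu, swap_apply_left]; exact h.symm
  · by_cases hv : y = v
    · rw [hv, swap_apply_right]; exact h
    · rw [swap_apply_of_ne_of_ne hu hv]

/-- The centralizer of a fixed-point-free involution and the stabilizer of a bipartition with
large parts generate the symmetric group. -/
theorem sup_eq_top (μ : Perm α) (hfpf : ∀ y, μ y ≠ y) (hinv : ∀ y, μ (μ y) = y) (B : Set α)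
    (hB4 : 4 ≤ B.ncard) (hBc2 : 2 ≤ Bᶜ.ncard) :
    Subgroup.centralizer ({μ} : Set (Perm α)) ⊔ flipStab B = ⊤ := by
  classical
  set J := Subgroup.centralizer ({μ} : Set (Perm α)) ⊔ flipStab B with hJ
  have h1 : Subgroup.centralizer ({μ} : Set (Perm α)) ≤ J := le_sup_left
  have h2 : flipStab B ≤ J := le_sup_right
  have hBne : B.Nonempty := by
    rw [← Set.ncard_pos]; omega
  obtain ⟨b, hb⟩ := hBne
  obtain ⟨c₁, c₂, hc₁, hc₂, hc12⟩ :=
    (Set.one_lt_ncard_iff (Set.toFinite _)).mp (by omega : 1 < Bᶜ.ncard)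
  obtain ⟨c, hc, hcμ⟩ : ∃ c, c ∉ B ∧ c ≠ μ b := by
    by_cases h : c₁ = μ b
    · exact ⟨c₂, hc₂, fun h' => hc12 (h.trans h'.symm)⟩
    · exact ⟨c₁, hc₁, h⟩
  have hbc : b ≠ c := fun h => hc (h ▸ hb)
  obtain ⟨hg1, -, hg3⟩ := double_swap_spec μ hfpf hinv b c hbc hcμ
  set g := swap b c * swap (μ b) (μ c) with hg
  have hgJ : g ∈ J := h1 (by
    rw [Subgroup.mem_centralizer_iff]
    rintro _ rfl
    exact hg1.symm)
  have hcardlt : ({b, μ b, μ c} : Finset α).card < B.toFinset.card := by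
    rw [← Set.ncard_eq_toFinset_card']
    have := Finset.card_le_three (a := b) (b := μ b) (c := μ c)
    omega
  obtain ⟨p₁, hp₁B, hp₁⟩ := Finset.exists_mem_notMem_of_card_lt_card hcardlt
  rw [Set.mem_toFinset] at hp₁B
  simp only [Finset.mem_insert, Finset.mem_singleton, not_or] at hp₁
  have hp₁c : p₁ ≠ c := fun h => hc (h ▸ hp₁B)
  have hgp₁ : g p₁ = p₁ := by
    rw [hg, Perm.mul_apply, swap_apply_of_ne_of_ne hp₁.2.1 hp₁.2.2,
      swap_apply_of_ne_of_ne hp₁.1 hp₁c]
  have hcross : swap p₁ c ∈ J := by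
    have : swap p₁ c = g * swap p₁ b * g⁻¹ := by
      rw [← swap_apply_apply, hgp₁, hg3]
    rw [this]
    exact J.mul_mem (J.mul_mem hgJ (h2 (swap_mem_flipStab (by simp [hp₁B, hb])))) (J.inv_mem hgJ)
  have hall : ∀ u v : α, u ∈ B → v ∉ B → swap u v ∈ J := by
    intro u v hu hv
    have huv : u ≠ v := fun h => hv (h ▸ hu)
    have hσ : swap u p₁ * swap v c ∈ J :=
      J.mul_mem (h2 (swap_mem_flipStab (by simp [hu, hp₁B])))
        (h2 (swap_mem_flipStab (by simp [hv, hc])))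
    have e1 : (swap u p₁ * swap v c) p₁ = u := by
      rw [Perm.mul_apply, swap_apply_of_ne_of_ne (fun h : p₁ = v => hv (h ▸ hp₁B)) hp₁c, swap_apply_right]
    have e2 : (swap u p₁ * swap v c) c = v := by
      rw [Perm.mul_apply, swap_apply_right, swap_apply_of_ne_of_ne huv.symm
        (fun h : v = p₁ => hv (h.symm ▸ hp₁B))]
    have : swap u v = (swap u p₁ * swap v c) * swap p₁ c * (swap u p₁ * swap v c)⁻¹ := by
      rw [← swap_apply_apply, e1, e2]
    rw [this]
    exact J.mul_mem (J.mul_mem hσ hcross) (J.inv_mem hσ)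
  rw [eq_top_iff, ← Equiv.Perm.closure_isSwap, Subgroup.closure_le]
  rintro _ ⟨u, v, huv, rfl⟩
  by_cases hu : u ∈ B
  · by_cases hv : v ∈ B
    · exact h2 (swap_mem_flipStab (by simp [hu, hv]))
    · exact hall u v hu hv
  · by_cases hv : v ∈ B
    · rw [swap_comm]; exact hall v u hv hu
    · exact h2 (swap_mem_flipStab (by simp [hu, hv]))

/-- If two subgroups of the symmetric group sharing an odd permutation generate everything, their
even parts generate the alternating group. -/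
theorem alt_sup_eq_top (h5 : 5 ≤ Fintype.card α) (H₁ H₂ : Subgroup (Perm α)) (τ : Perm α)
    (hτ1 : τ ∈ H₁) (hτ2 : τ ∈ H₂) (hτs : sign τ = -1) (hsup : H₁ ⊔ H₂ = ⊤)
    (hnt : ∃ g ∈ H₁, sign g = 1 ∧ g ≠ 1) :
    H₁.subgroupOf (alternatingGroup α) ⊔ H₂.subgroupOf (alternatingGroup α) = ⊤ := by
  set A := alternatingGroup α with hA
  set N : Subgroup (Perm α) := (H₁ ⊓ A) ⊔ (H₂ ⊓ A) with hN
  have hsign_conj : ∀ σ h : Perm α, sign (σ * h * σ⁻¹) = sign h := by
    intro σ h
    rw [Perm.sign_mul, Perm.sign_mul, sign_inv, mul_comm, ← mul_assoc]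
    rcases Int.units_eq_one_or (sign σ) with h' | h' <;> rw [h'] <;> simp
  -- conjugation by elements of `H₁ ⊓ H₂` preserves `N`
  have hconj : ∀ σ : Perm α, σ ∈ H₁ → σ ∈ H₂ → ∀ n ∈ N, σ * n * σ⁻¹ ∈ N := by
    intro σ hσ1 hσ2
    have hle : N ≤ N.comap (MulAut.conj σ).toMonoidHom := by
      rw [hN]
      apply sup_le
      · rintro h ⟨hh, hhA⟩
        rw [Subgroup.mem_comap]
        apply Subgroup.mem_sup_left
        refine ⟨H₁.mul_mem (H₁.mul_mem hσ1 hh) (H₁.inv_mem hσ1), ?_⟩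
        change σ * h * σ⁻¹ ∈ alternatingGroup α
        rw [mem_alternatingGroup, hsign_conj]
        exact mem_alternatingGroup.mp hhA
      · rintro h ⟨hh, hhA⟩
        rw [Subgroup.mem_comap]
        apply Subgroup.mem_sup_right
        refine ⟨H₂.mul_mem (H₂.mul_mem hσ2 hh) (H₂.inv_mem hσ2), ?_⟩
        change σ * h * σ⁻¹ ∈ alternatingGroup α
        rw [mem_alternatingGroup, hsign_conj]
        exact mem_alternatingGroup.mp hhA
    intro n hn
    exact hle hn
  have hτnorm : τ ∈ Subgroup.normalizer (N : Set (Perm α)) := by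
    rw [Subgroup.mem_normalizer_iff]
    intro h
    constructor
    · exact hconj τ hτ1 hτ2 h
    · intro hh
      have := hconj τ⁻¹ (H₁.inv_mem hτ1) (H₂.inv_mem hτ2) _ hh
      simpa [mul_assoc] using this
  -- the normalizer of `N` is everything
  have hle : ∀ H : Subgroup (Perm α), τ ∈ H → H ⊓ A ≤ N → H ≤ Subgroup.normalizer (N : Set (Perm α)) := by
    intro H hτH hHN h hh
    rcases Int.units_eq_one_or (sign h) with hs | hs
    · exact Subgroup.le_normalizer (hHN ⟨hh, mem_alternatingGroup.mpr hs⟩)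
    · have h1 : h * τ⁻¹ ∈ N := hHN ⟨H.mul_mem hh (H.inv_mem hτH), by
        change h * τ⁻¹ ∈ alternatingGroup α
        rw [mem_alternatingGroup, Perm.sign_mul, sign_inv, hs, hτs]; decide⟩
      have : h = (h * τ⁻¹) * τ := by group
      rw [this]
      exact Subgroup.mul_mem _ (Subgroup.le_normalizer h1) hτnorm
  have hnormal : N.Normal := by
    rw [← Subgroup.normalizer_eq_top_iff, eq_top_iff, ← hsup]
    exact sup_le (hle H₁ hτ1 le_sup_left) (hle H₂ hτ2 le_sup_right)
  obtain ⟨g, hg1, hgs, hgne⟩ := hnt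
  have hgN : g ∈ N := Subgroup.mem_sup_left ⟨hg1, mem_alternatingGroup.mpr hgs⟩
  have hntN : Nontrivial N := ⟨⟨⟨g, hgN⟩, 1, fun h => hgne (congrArg Subtype.val h)⟩⟩
  have hAN : alternatingGroup α ≤ N :=
    alternatingGroup_le_of_normal (by rwa [Nat.card_eq_fintype_card]) hntN
  rw [eq_top_iff]
  intro a _
  have ha : (a : Perm α) ∈ N := hAN a.2
  rw [hN, ← Subgroup.subgroupOf_map_subtype, ← Subgroup.subgroupOf_map_subtype,
    ← Subgroup.map_sup] at ha
  obtain ⟨a', ha', haa'⟩ := ha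
  have : a' = a := Subtype.ext haa'
  rw [← this]
  exact ha'

/-- Data for degree `2 ^ a`, `a ≥ 3`. -/
theorem kit_pow {a : ℕ} (ha : 3 ≤ a) (hα : Fintype.card α = 2 ^ a) (R : Sylow 2 (Perm α)) :
    ∃ (μ : Perm α) (B : Set α) (c e : Perm α),
      (R : Subgroup (Perm α)) ≤ Subgroup.centralizer ({μ} : Set (Perm α)) ∧
      (R : Subgroup (Perm α)) ≤ flipStab B ∧
      Subgroup.centralizer ({μ} : Set (Perm α)) ⊔ flipStab B = ⊤ ∧
      sign c = 1 ∧ c ∉ Subgroup.centralizer ({μ} : Set (Perm α)) ∧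
      sign e = 1 ∧ e ∉ flipStab B ∧
      ∃ g ∈ Subgroup.centralizer ({μ} : Set (Perm α)), sign g = 1 ∧ g ≠ 1 := by
  have h8 : 8 ≤ 2 ^ a := by
    calc 8 = 2 ^ 3 := by norm_num
      _ ≤ 2 ^ a := Nat.pow_le_pow_right (by norm_num) ha
  have htr := sylow_transitive (by omega) hα R
  obtain ⟨B, hB, ⟨r₀, hr₀, hflip⟩, hBne⟩ :=
    exists_bipartition (R : Subgroup (Perm α)) R.isPGroup' (by omega) htr
  -- the two parts have equal size
  have himg : B = r₀ '' Bᶜ := by
    ext y
    constructor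
    · intro hy
      refine ⟨r₀⁻¹ y, ?_, by simp⟩
      have := hflip (r₀⁻¹ y)
      rw [show r₀ (r₀⁻¹ y) = y from by simp] at this
      exact this.mp hy
    · rintro ⟨z, hz, rfl⟩
      exact (hflip z).mpr hz
  have hcardB : B.ncard = Bᶜ.ncard := by
    conv_lhs => rw [himg]
    exact Set.ncard_image_of_injective _ r₀.injective
  have hsum := Set.ncard_add_ncard_compl B
  rw [Nat.card_eq_fintype_card, hα] at hsum
  have hB4 : 4 ≤ B.ncard := by omega
  have hBc2 : 2 ≤ Bᶜ.ncard := by omega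
  have hk : 2 ^ a = 2 * 2 ^ (a - 1) := by
    rw [← pow_succ']
    congr 1
    omega
  obtain ⟨μ, hfpf, hinv, hcomm⟩ := exists_fpf_invol_commute (2 ^ (a - 1))
    (Nat.one_le_two_pow) (hα.trans hk) (R : Subgroup (Perm α)) R.isPGroup'
  obtain ⟨c, hcs, hcμ⟩ := exists_even_not_commute μ hfpf hinv (by omega)
  -- elements for `e`
  obtain ⟨b, b', hb, hb', hbb'⟩ :=
    (Set.one_lt_ncard_iff (Set.toFinite _)).mp (by omega : 1 < B.ncard)
  obtain ⟨c₁, c₂, hc₁, hc₂, hc12⟩ :=
    (Set.one_lt_ncard_iff (Set.toFinite _)).mp (by omega : 1 < Bᶜ.ncard)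
  obtain ⟨d, hd, hdμ⟩ : ∃ d, d ∉ B ∧ d ≠ μ b := by
    by_cases h : c₁ = μ b
    · exact ⟨c₂, hc₂, fun h' => hc12 (h.trans h'.symm)⟩
    · exact ⟨c₁, hc₁, h⟩
  have hbd : b ≠ d := fun h => hd (h ▸ hb)
  have hb'd : b' ≠ d := fun h => hd (h ▸ hb')
  obtain ⟨ht1, ht2, ht3⟩ := double_swap_spec μ hfpf hinv b d hbd hdμ
  refine ⟨μ, B, c, swap b b' * swap b d, ?_, hB, sup_eq_top μ hfpf hinv B hB4 hBc2, hcs, ?_, ?_,
    ?_, ⟨swap b d * swap (μ b) (μ d), ?_, ht2, ?_⟩⟩
  · intro r hr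
    rw [Subgroup.mem_centralizer_iff]
    rintro _ rfl
    exact (hcomm r hr).symm
  · intro h
    rw [Subgroup.mem_centralizer_iff] at h
    exact hcμ (h μ rfl).symm
  · rw [Perm.sign_mul, sign_swap hbb', sign_swap hbd]; rfl
  · rw [mem_flipStab]
    have e1 : (swap b b' * swap b d) b = d := by
      rw [Perm.mul_apply, swap_apply_left, swap_apply_of_ne_of_ne hbd.symm hb'd.symm]
    have e2 : (swap b b' * swap b d) b' = b := by
      rw [Perm.mul_apply, swap_apply_of_ne_of_ne hbb'.symm hb'd, swap_apply_right]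
    rintro (h | h)
    · have := (h b).mpr hb
      rw [e1] at this
      exact hd this
    · have := (h b').mp (by rw [e2]; exact hb)
      exact this hb'
  · rw [Subgroup.mem_centralizer_iff]
    rintro _ rfl
    exact ht1.symm
  · intro h
    have := congrArg (fun f : Perm α => f b) h
    simp only [Perm.one_apply] at this
    rw [ht3] at this
    exact hbd this.symm

/-- Symmetric group of degree `2 ^ a`, `a ≥ 3`. -/
theorem not_unique_perm_pow {a : ℕ} (ha : 3 ≤ a) (hα : Fintype.card α = 2 ^ a)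
    (R : Sylow 2 (Perm α)) :
    ¬ ∃! M : Subgroup (Perm α), IsCoatom M ∧ (R : Subgroup (Perm α)) ≤ M := by
  obtain ⟨μ, B, c, e, h1, h2, hsup, -, hc, -, he, -⟩ := kit_pow ha hα R
  apply not_unique_coatom (R : Subgroup (Perm α)) _ _ h1 h2 _ _ hsup
  · intro h; apply hc; rw [h]; trivial
  · intro h; apply he; rw [h]; trivial

/-- Alternating group of degree `2 ^ a`, `a ≥ 3`. -/
theorem not_unique_alt_pow {a : ℕ} (ha : 3 ≤ a) (hα : Fintype.card α = 2 ^ a)
    (Q : Sylow 2 (alternatingGroup α)) :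
    ¬ ∃! M : Subgroup (alternatingGroup α), IsCoatom M ∧
      (Q : Subgroup (alternatingGroup α)) ≤ M := by
  have h8 : 8 ≤ 2 ^ a := by
    calc 8 = 2 ^ 3 := by norm_num
      _ ≤ 2 ^ a := Nat.pow_le_pow_right (by norm_num) ha
  have hQ'p : IsPGroup 2 ((Q : Subgroup (alternatingGroup α)).map (alternatingGroup α).subtype) :=
    Q.isPGroup'.map _
  obtain ⟨R, hR⟩ := hQ'p.exists_le_sylow
  obtain ⟨μ, B, c, e, h1, h2, hsup, hcs, hc, hes, he, hnt⟩ := kit_pow ha hα R
  obtain ⟨τ, hτR, u, v, huv, rfl⟩ := sylow_contains_swap (by omega) R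
  have hsup' := alt_sup_eq_top (by omega) _ _ (swap u v) (h1 hτR) (h2 hτR) (sign_swap huv) hsup hnt
  apply not_unique_coatom (Q : Subgroup (alternatingGroup α)) _ _ _ _ _ _ hsup'
  · intro q hq
    rw [Subgroup.mem_subgroupOf]
    exact h1 (hR ⟨q, hq, rfl⟩)
  · intro q hq
    rw [Subgroup.mem_subgroupOf]
    exact h2 (hR ⟨q, hq, rfl⟩)
  · intro h
    apply hc
    have : (⟨c, mem_alternatingGroup.mpr hcs⟩ : alternatingGroup α) ∈
        (Subgroup.centralizer ({μ} : Set (Perm α))).subgroupOf (alternatingGroup α) := by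
      rw [h]; trivial
    rwa [Subgroup.mem_subgroupOf] at this
  · intro h
    apply he
    have : (⟨e, mem_alternatingGroup.mpr hes⟩ : alternatingGroup α) ∈
        (flipStab B).subgroupOf (alternatingGroup α) := by
      rw [h]; trivial
    rwa [Subgroup.mem_subgroupOf] at this

end Cfsg.Agent.Lib.Helper4.SylTwoMax6
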