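import Mathlib
import Cfsg.Agent.Lib.Helper4.SylTwoMax1
import Cfsg.Agent.Lib.Helper4.SylTwoMax3
import Cfsg.Agent.Lib.Helper4.SylTwoMax5
import Cfsg.Agent.Lib.Helper4.SylTwoMax6

/-!
# Sylow 2-subgroups of `A_n` and `S_n` lying in a unique maximal subgroup: assembly
-/

namespace Cfsg.Agent.Lib.Helper4.SylTwoMax7

open Equiv Equiv.Perm MulAction
open Cfsg.Agent.Lib.Helper4.SylTwoMax1 Cfsg.Agent.Lib.Helper4.SylTwoMax3
  Cfsg.Agent.Lib.Helper4.SylTwoMax5 Cfsg.Agent.Lib.Helper4.SylTwoMax6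

/-- Arithmetic case split. -/
theorem cases_n (n : ℕ) (hn : 5 ≤ n) (h6 : n ≠ 6) (hno : ¬ ∃ k : ℕ, 2 ≤ k ∧ n = 2 ^ k + 1) :
    (¬ 2 ∣ n ∧ ∀ c : ℕ, n ≠ 2 ^ c + 1) ∨ (∃ a : ℕ, 3 ≤ a ∧ n = 2 ^ a) ∨
    (∃ k : ℕ, 2 ≤ k ∧ n = 2 * k ∧ ∀ c : ℕ, n ≠ 2 ^ c) := by
  by_cases hodd : 2 ∣ n
  · right
    obtain ⟨k, hk⟩ := hodd
    by_cases hpow : ∃ a : ℕ, n = 2 ^ a
    · left
      obtain ⟨a, ha⟩ := hpow
      refine ⟨a, ?_, ha⟩
      by_contra hlt
      push Not at hlt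
      interval_cases a <;> omega
    · right
      push Not at hpow
      exact ⟨k, by omega, hk, hpow⟩
  · left
    refine ⟨hodd, fun c hc => hno ⟨c, ?_, hc⟩⟩
    by_contra hlt
    push Not at hlt
    interval_cases c <;> omega

theorem main (n : ℕ) (hn : 5 ≤ n) (h6 : n ≠ 6) :
    ((∀ R : Sylow 2 ↥(alternatingGroup (Fin n)),
      (∃! M : Subgroup ↥(alternatingGroup (Fin n)), IsCoatom M ∧
        (R : Subgroup ↥(alternatingGroup (Fin n))) ≤ M) ↔ ∃ k : ℕ, 2 ≤ k ∧ n = 2 ^ k + 1) ∧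
    (∀ R : Sylow 2 (Equiv.Perm (Fin n)),
      (∃! M : Subgroup (Equiv.Perm (Fin n)), IsCoatom M ∧
        (R : Subgroup (Equiv.Perm (Fin n))) ≤ M) ↔ ∃ k : ℕ, 2 ≤ k ∧ n = 2 ^ k + 1)) := by
  have hcard : Fintype.card (Fin n) = n := Fintype.card_fin n
  constructor
  · intro R
    constructor
    · intro huniq
      by_contra hno
      rcases cases_n n hn h6 hno with ⟨hodd, hnp⟩ | ⟨a, ha, hna⟩ | ⟨k, hk, hnk, hnp⟩
      · exact not_unique_alt_odd (by rwa [hcard]) (by rwa [hcard]) (by rwa [hcard]) R huniq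
      · exact not_unique_alt_pow ha (by rw [hcard]; exact hna) R huniq
      · exact not_unique_alt_even k hk (by rw [hcard]; exact hnk) (by rwa [hcard]) R huniq
    · rintro ⟨k, hk, rfl⟩
      exact unique_coatom_alt hk hcard R
  · intro R
    constructor
    · intro huniq
      by_contra hno
      rcases cases_n n hn h6 hno with ⟨hodd, hnp⟩ | ⟨a, ha, hna⟩ | ⟨k, hk, hnk, hnp⟩
      · exact not_unique_perm_odd (by rwa [hcard]) (by rwa [hcard]) (by rwa [hcard]) R huniq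
      · exact not_unique_perm_pow ha (by rw [hcard]; exact hna) R huniq
      · exact not_unique_perm_even k hk (by rw [hcard]; exact hnk) (by rwa [hcard]) R huniq
    · rintro ⟨k, hk, rfl⟩
      exact unique_coatom_perm (by omega) hcard R

end Cfsg.Agent.Lib.Helper4.SylTwoMax7
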