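import Mathlib
import Cfsg.Prelude.Def_LieExceptional
import Cfsg.Prelude.Def_Sz
import Cfsg.Agent.Lib.Helper4.SzB4

/-!
# Bridge between the two models of the Suzuki group, part 5: the permutation representation on
the cosets of a Sylow 2-normaliser
-/

set_option autoImplicit false
set_option linter.unusedSimpArgs false
set_option linter.unusedVariables false
set_option linter.style.haveILetI false

namespace Cfsg.Agent.Lib.Helper4.Suz

open Matrix

/-- Abstract transfer from an action on `Ω` to the action on cosets of a point stabiliser. -/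
theorem two_trans_quot {G Ω : Type*} [Group G] [MulAction G Ω] (ω₀ : Ω) (S N : Subgroup G)
    (hN : N = MulAction.stabilizer G ω₀)
    (h2 : MulAction.IsMultiplyPretransitive G Ω 2)
    (hreg : ∀ a b : Ω, a ≠ ω₀ → b ≠ ω₀ → ∃! s : S, (s : G) • a = b) :
    MulAction.IsMultiplyPretransitive G (G ⧸ N) 2 ∧
    ∀ x y : G ⧸ N, x ≠ QuotientGroup.mk 1 → y ≠ QuotientGroup.mk 1 →
      ∃! s : S, (s : G) • x = y := by
  subst hN
  have hinj := MulAction.injective_ofQuotientStabilizer G ω₀
  have hsm := MulAction.ofQuotientStabilizer_smul G ω₀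
  have h1 : MulAction.ofQuotientStabilizer G ω₀ (QuotientGroup.mk 1) = ω₀ := by
    rw [MulAction.ofQuotientStabilizer_mk, one_smul]
  constructor
  · rw [MulAction.is_two_pretransitive_iff] at h2 ⊢
    intro a b c d hab hcd
    obtain ⟨g, hg1, hg2⟩ := h2 (a := MulAction.ofQuotientStabilizer G ω₀ a)
      (b := MulAction.ofQuotientStabilizer G ω₀ b) (c := MulAction.ofQuotientStabilizer G ω₀ c)
      (d := MulAction.ofQuotientStabilizer G ω₀ d) (fun h => hab (hinj h)) (fun h => hcd (hinj h))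
    refine ⟨g, hinj ?_, hinj ?_⟩
    · rw [hsm, hg1]
    · rw [hsm, hg2]
  · intro x y hx hy
    have hx' : MulAction.ofQuotientStabilizer G ω₀ x ≠ ω₀ := by
      intro h; exact hx (hinj (h.trans h1.symm))
    have hy' : MulAction.ofQuotientStabilizer G ω₀ y ≠ ω₀ := by
      intro h; exact hy (hinj (h.trans h1.symm))
    obtain ⟨s, hs, hu⟩ := hreg _ _ hx' hy'
    refine ⟨s, ?_, ?_⟩
    · apply hinj
      show MulAction.ofQuotientStabilizer G ω₀ ((s : G) • x) = _
      rw [hsm]; exact hs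
    · intro t ht
      apply hu
      show (t : G) • MulAction.ofQuotientStabilizer G ω₀ x = _
      rw [← hsm]
      exact congrArg _ ht

variable {F : Type*} [Field F] [Fintype F] {m : ℕ}

/-- `U` acts regularly on the affine points. -/
theorem USub_regular (hF : Fintype.card F = 2 ^ (2 * m + 1))
    (a b : Cfsg.suzukiOvoid F m) (ha : a ≠ oInf F m) (hb : b ≠ oInf F m) :
    ∃! s : USub hF, (s : Cfsg.Sz F m) • a = b := by
  rcases ovoid_cases a with rfl | ⟨x, y, rfl⟩
  · exact absurd rfl ha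
  rcases ovoid_cases b with rfl | ⟨x', y', rfl⟩
  · exact absurd rfl hb
  refine ⟨uU hF (x' - x) (y' - y - th m (x' - x) * x), ?_, ?_⟩
  · show uZ hF _ _ • oPt m x y = _
    rw [uZ_smul_oPt]
    congr 1 <;> ring
  · intro t ht
    obtain ⟨c, d, rfl⟩ := exists_uU hF t
    have ht' : uZ hF c d • oPt m x y = oPt m x' y' := ht
    rw [uZ_smul_oPt] at ht'
    obtain ⟨h1, h2⟩ := oPt_inj ht'
    have hc : c = x' - x := by rw [← h1]; ring
    have hd : d = y' - y - th m (x' - x) * x := by rw [← h2, ← hc]; ring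
    rw [hc, hd]

/-- The main structural statement for the ovoid model. -/
theorem sz_structure (hF : Fintype.card F = 2 ^ (2 * m + 1)) (hm : 1 ≤ m)
    {G : Type*} [Group G] (e : G ≃* Cfsg.Sz F m) :
    Nat.card G = (2 ^ (2 * m + 1)) ^ 2 * (2 ^ (2 * m + 1) - 1) * ((2 ^ (2 * m + 1)) ^ 2 + 1) ∧
    ∃ S : Sylow 2 G,
      Nat.card (Subgroup.normalizer ((S : Subgroup G) : Set G)) =
        (2 ^ (2 * m + 1)) ^ 2 * (2 ^ (2 * m + 1) - 1) ∧
      (Subgroup.normalizer ((S : Subgroup G) : Set G)).index = (2 ^ (2 * m + 1)) ^ 2 + 1 ∧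
      MulAction.IsMultiplyPretransitive G (G ⧸ Subgroup.normalizer ((S : Subgroup G) : Set G)) 2 ∧
      ∀ x y : G ⧸ Subgroup.normalizer ((S : Subgroup G) : Set G),
        x ≠ (QuotientGroup.mk 1) → y ≠ (QuotientGroup.mk 1) →
          ∃! s : ↥(S : Subgroup G), (s : G) • x = y := by
  have hcard : Nat.card G =
      (2 ^ (2 * m + 1)) ^ 2 * (2 ^ (2 * m + 1) - 1) * ((2 ^ (2 * m + 1)) ^ 2 + 1) := by
    rw [Nat.card_congr e.toEquiv, card_Sz hF hm]; ring
  refine ⟨hcard, ?_⟩
  haveI : Finite G := Finite.of_equiv _ e.symm.toEquiv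
  letI act : MulAction G (Cfsg.suzukiOvoid F m) :=
    MulAction.compHom (Cfsg.suzukiOvoid F m) e.toMonoidHom
  have hact : ∀ (g : G) (p : Cfsg.suzukiOvoid F m), g • p = e g • p := fun _ _ => rfl
  -- the Sylow subgroup
  set S₀ : Subgroup G := (USub hF).comap e.toMonoidHom with hS₀
  have hmemS : ∀ g : G, g ∈ S₀ ↔ e g ∈ USub hF := fun g => Iff.rfl
  have hcardS : Nat.card S₀ = 2 ^ (Nat.card G).factorization 2 := by
    have e1 : Nat.card S₀ = Nat.card (USub hF) := by
      refine Nat.card_congr ⟨fun s => ⟨e s.1, s.2⟩, fun u => ⟨e.symm u.1, ?_⟩, ?_, ?_⟩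
      · rw [hmemS, e.apply_symm_apply]; exact u.2
      · intro s; apply Subtype.ext; simp
      · intro u; apply Subtype.ext; simp
    rw [e1, card_USub hF, Nat.card_congr e.toEquiv, factorization_card_Sz hF hm, ← pow_mul,
      mul_comm]
  refine ⟨Sylow.ofCard S₀ hcardS, ?_⟩
  have hcoe : ((Sylow.ofCard S₀ hcardS : Sylow 2 G) : Subgroup G) = S₀ := rfl
  rw [hcoe]
  have hnorm : Subgroup.normalizer (S₀ : Set G) =
      MulAction.stabilizer G (oInf F m) := by
    rw [hS₀, ← Subgroup.comap_normalizer_eq_of_surjective _ e.surjective, normalizer_USub hF hm]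
    ext g
    rw [Subgroup.mem_comap, MulAction.mem_stabilizer_iff, MulAction.mem_stabilizer_iff]
    rfl
  have hcardN : Nat.card (Subgroup.normalizer (S₀ : Set G)) =
      (2 ^ (2 * m + 1)) ^ 2 * (2 ^ (2 * m + 1) - 1) := by
    rw [hnorm, ← card_borel hF hm]
    refine Nat.card_congr ⟨fun s => ⟨e s.1, ?_⟩, fun u => ⟨e.symm u.1, ?_⟩, ?_, ?_⟩
    · have := s.2
      rw [MulAction.mem_stabilizer_iff] at this ⊢
      exact this
    · have := u.2
      rw [MulAction.mem_stabilizer_iff] at this ⊢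
      rw [hact, e.apply_symm_apply]
      exact this
    · intro s; apply Subtype.ext; simp
    · intro u; apply Subtype.ext; simp
  have hidx : (Subgroup.normalizer (S₀ : Set G)).index = (2 ^ (2 * m + 1)) ^ 2 + 1 := by
    have := Subgroup.card_mul_index (Subgroup.normalizer (S₀ : Set G))
    rw [hcardN, hcard] at this
    have hpos : 0 < (2 ^ (2 * m + 1)) ^ 2 * (2 ^ (2 * m + 1) - 1) := by
      have : 2 ≤ 2 ^ (2 * m + 1) := by
        calc 2 = 2 ^ 1 := by norm_num
          _ ≤ 2 ^ (2 * m + 1) := Nat.pow_le_pow_right (by norm_num) (by omega)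
      have h1 : 0 < 2 ^ (2 * m + 1) - 1 := by omega
      have h2 : 0 < (2 ^ (2 * m + 1)) ^ 2 := by positivity
      exact Nat.mul_pos h2 h1
    exact Nat.eq_of_mul_eq_mul_left hpos this
  refine ⟨hcardN, hidx, ?_⟩
  have h2 : MulAction.IsMultiplyPretransitive G (Cfsg.suzukiOvoid F m) 2 := by
    have h0 := is_two_pretransitive (m := m) hF
    rw [MulAction.is_two_pretransitive_iff] at h0 ⊢
    intro a b c d hab hcd
    obtain ⟨g, hg1, hg2⟩ := h0 hab hcd
    refine ⟨e.symm g, ?_, ?_⟩
    · rw [hact, e.apply_symm_apply]; exact hg1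
    · rw [hact, e.apply_symm_apply]; exact hg2
  have hreg : ∀ a b : Cfsg.suzukiOvoid F m, a ≠ oInf F m → b ≠ oInf F m →
      ∃! s : S₀, (s : G) • a = b := by
    intro a b ha hb
    obtain ⟨u, hu, huniq⟩ := USub_regular hF a b ha hb
    refine ⟨⟨e.symm u.1, ?_⟩, ?_, ?_⟩
    · rw [hmemS, e.apply_symm_apply]; exact u.2
    · show e.symm (u : Cfsg.Sz F m) • a = b
      rw [hact, e.apply_symm_apply]; exact hu
    · intro t ht
      have ht' : (e t.1) • a = b := ht
      have := huniq ⟨e t.1, t.2⟩ ht'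
      apply Subtype.ext
      show t.1 = e.symm u.1
      rw [← this]
      simp
  exact two_trans_quot (oInf F m) S₀ _ hnorm h2 hreg

end Cfsg.Agent.Lib.Helper4.Suz
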