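import Mathlib

/-! Laws in Suzuki groups: generic first-row recursion. -/

set_option autoImplicit false

namespace Cfsg.Agent.Lib.Helper4.SzLaw

section Generic

variable {R : Type*} [CommRing R]

/-- right multiplication of a row vector by the central unipotent `u(c)` -/
def rowU (r : ℕ) (c : R) (s : Fin 4 → R) : Fin 4 → R :=
  ![s 0, s 1, s 2 + c * s 0, s 3 + c * s 1 + c ^ r * s 0]

/-- right multiplication of a row vector by the Weyl element -/
def rowT (s : Fin 4 → R) : Fin 4 → R := ![s 3, s 2, s 1, s 0]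

/-- first parameter of a letter -/
def lX (par : ℕ × Bool → R) (a : ℕ × Bool) : R := par a

/-- second parameter of a letter -/
def lY (par : ℕ × Bool → R) (a : ℕ × Bool) : R := par (a.1, !a.2)

/-- process a word letter by letter -/
def run (r : ℕ) (par : ℕ × Bool → R) : List (ℕ × Bool) → (Fin 4 → R) → (Fin 4 → R)
  | [], s => s
  | a :: L, s => run r par L (rowU r (lY par a) (rowT (rowU r (lX par a) s)))

/-- merged parameters -/
def cs (par : ℕ × Bool → R) : R → List (ℕ × Bool) → List R
  | y, [] => [y]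
  | y, a :: L => (y + lX par a) :: cs par (lY par a) L

/-- process merged parameters -/
def fold (r : ℕ) : List R → (Fin 4 → R) → (Fin 4 → R)
  | [], s => s
  | [c], s => rowU r c s
  | c :: c' :: l, s => fold r (c' :: l) (rowT (rowU r c s))

theorem rowU_rowU (r : ℕ) (c c' : R) (hadd : (c + c') ^ r = c ^ r + c' ^ r) (s : Fin 4 → R) :
    rowU r c' (rowU r c s) = rowU r (c + c') s := by
  ext i
  fin_cases i
  · simp [rowU]
  · simp [rowU]
  · simp [rowU]; ring
  · simp [rowU, hadd]; ring

theorem rowU_zero (r : ℕ) (hr : 0 < r) (s : Fin 4 → R) : rowU r 0 s = s := by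
  ext i
  fin_cases i <;> simp [rowU, zero_pow hr.ne']

theorem cs_ne_nil (par : ℕ × Bool → R) (y : R) (L : List (ℕ × Bool)) : cs par y L ≠ [] := by
  cases L <;> simp [cs]

theorem run_eq_fold (r : ℕ) (par : ℕ × Bool → R)
    (hadd : ∀ x y : R, (x + y) ^ r = x ^ r + y ^ r) :
    ∀ (L : List (ℕ × Bool)) (y : R) (s : Fin 4 → R),
      run r par L (rowU r y s) = fold r (cs par y L) s
  | [], y, s => rfl
  | a :: L, y, s => by
    rw [run, rowU_rowU r y (lX par a) (hadd _ _), run_eq_fold r par hadd L (lY par a)]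
    rw [cs]
    obtain ⟨c', l, h⟩ : ∃ c' l, cs par (lY par a) L = c' :: l := by
      cases h : cs par (lY par a) L with
      | nil => exact absurd h (cs_ne_nil _ _ _)
      | cons c' l => exact ⟨c', l, rfl⟩
    rw [h, fold]

theorem run_eq_fold' (r : ℕ) (hr : 0 < r) (par : ℕ × Bool → R)
    (hadd : ∀ x y : R, (x + y) ^ r = x ^ r + y ^ r) (L : List (ℕ × Bool)) (s : Fin 4 → R) :
    run r par L s = fold r (cs par 0 L) s := by
  rw [← run_eq_fold r par hadd L 0 s, rowU_zero r hr]

variable {R' : Type*} [CommRing R']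

theorem map_rowU (φ : R →+* R') (r : ℕ) (c : R) (s : Fin 4 → R) :
    φ ∘ rowU r c s = rowU r (φ c) (φ ∘ s) := by
  ext i
  fin_cases i <;> simp [rowU]

theorem map_rowT (φ : R →+* R') (s : Fin 4 → R) :
    φ ∘ rowT s = rowT (φ ∘ s) := by
  ext i
  fin_cases i <;> simp [rowT]

theorem map_run (φ : R →+* R') (r : ℕ) (par : ℕ × Bool → R) :
    ∀ (L : List (ℕ × Bool)) (s : Fin 4 → R),
      φ ∘ run r par L s = run r (φ ∘ par) L (φ ∘ s)
  | [], s => rfl
  | a :: L, s => by
    rw [run, run, map_run φ r par L, map_rowU, map_rowT, map_rowU]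
    rfl

end Generic

end Cfsg.Agent.Lib.Helper4.SzLaw
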