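import Mathlib
import Cfsg.Agent.Lib.Helper4.SzLaw1

/-! Laws in Suzuki groups: degree analysis of the polynomial first-row recursion. -/

set_option autoImplicit false

namespace Cfsg.Agent.Lib.Helper4.SzLaw

open Polynomial

section Poly

variable {K : Type*} [Field K]

/-- degree invariant of a state -/
def Inv (s : Fin 4 → K[X]) (D : ℕ) : Prop :=
  (s 0).degree = D ∧ (s 1).degree < D ∧ (s 2).degree < D ∧ (s 3).degree < D

theorem deg_mul_lt {c p : K[X]} {n D : ℕ} (hc : c.degree = n) (hp : p.degree < D) :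
    (c * p).degree < ((n + D : ℕ) : WithBot ℕ) := by
  rw [degree_mul, hc, Nat.cast_add]
  exact WithBot.add_lt_add_left WithBot.coe_ne_bot hp

theorem deg_add_lt {p q : K[X]} {D : WithBot ℕ} (hp : p.degree < D) (hq : q.degree < D) :
    (p + q).degree < D :=
  (degree_add_le p q).trans_lt (max_lt hp hq)

theorem deg_lt_of_le {p : K[X]} {D D' : ℕ} (hp : p.degree < D) (h : D ≤ D') :
    p.degree < (D' : WithBot ℕ) :=
  hp.trans_le (by exact_mod_cast h)

/-- degree of the dominant entry after `u(c)` -/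
theorem deg_last {r : ℕ} {c : K[X]} {n D : ℕ} (hr : 1 ≤ r) (hc0 : c ≠ 0) (hcn : c.natDegree = n)
    {s : Fin 4 → K[X]} (hs : Inv s D) :
    (s 3 + c * s 1 + c ^ r * s 0).degree = ((D + r * n : ℕ) : WithBot ℕ) := by
  obtain ⟨h0, h1, h2, h3⟩ := hs
  have hs0 : s 0 ≠ 0 := by
    intro h
    rw [h, degree_zero] at h0
    exact WithBot.bot_ne_coe h0
  have hcd : c.degree = n := by rw [degree_eq_natDegree hc0, hcn]
  have hq0 : c ^ r * s 0 ≠ 0 := mul_ne_zero (pow_ne_zero _ hc0) hs0
  have hs0n : (s 0).natDegree = D := natDegree_eq_of_degree_eq_some h0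
  have hqn : (c ^ r * s 0).natDegree = D + r * n := by
    rw [natDegree_mul (pow_ne_zero _ hc0) hs0, natDegree_pow, hcn, hs0n, add_comm]
  have hq : (c ^ r * s 0).degree = ((D + r * n : ℕ) : WithBot ℕ) := by
    rw [degree_eq_natDegree hq0, hqn]
  have hp : (s 3 + c * s 1).degree < ((n + D : ℕ) : WithBot ℕ) :=
    deg_add_lt (deg_lt_of_le h3 (by omega)) (deg_mul_lt hcd h1)
  have hle : n + D ≤ D + r * n := by nlinarith
  rw [degree_add_eq_right_of_degree_lt, hq]
  rw [hq]
  exact deg_lt_of_le hp hle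

theorem inv_step {r : ℕ} {c : K[X]} {n D : ℕ} (hr : 2 ≤ r) (hn : 1 ≤ n) (hcn : c.natDegree = n)
    {s : Fin 4 → K[X]} (hs : Inv s D) :
    Inv (rowT (rowU r c s)) (D + r * n) := by
  have hc0 : c ≠ 0 := by
    intro h
    rw [h, natDegree_zero] at hcn
    omega
  have hl := deg_last (r := r) (by omega) hc0 hcn hs
  obtain ⟨h0, h1, h2, h3⟩ := hs
  have hs0 : s 0 ≠ 0 := by
    intro h
    rw [h, degree_zero] at h0
    exact WithBot.bot_ne_coe h0
  have hs0n : (s 0).natDegree = D := natDegree_eq_of_degree_eq_some h0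
  have hrn : n < r * n := by nlinarith
  refine ⟨?_, ?_, ?_, ?_⟩
  · show (s 3 + c * s 1 + c ^ r * s 0).degree = _
    exact hl
  · show (s 2 + c * s 0).degree < _
    apply deg_add_lt (deg_lt_of_le h2 (by omega))
    rw [degree_eq_natDegree (mul_ne_zero hc0 hs0), natDegree_mul hc0 hs0, hcn, hs0n]
    exact_mod_cast (by omega : n + D < D + r * n)
  · show (s 1).degree < _
    exact deg_lt_of_le h1 (by omega)
  · show (s 0).degree < _
    rw [h0]
    exact_mod_cast (by omega : D < D + r * n)

theorem fold_degree {r : ℕ} (hr : 2 ≤ r) :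
    ∀ (l : List K[X]), l ≠ [] → (∀ c ∈ l, 1 ≤ c.natDegree) → ∀ (s : Fin 4 → K[X]) (D : ℕ),
      Inv s D →
      ((fold r l s) 3).degree = ((D + r * (l.map natDegree).sum : ℕ) : WithBot ℕ)
  | [], h, _, _, _, _ => absurd rfl h
  | [c], _, hc, s, D, hs => by
    have h1 := hc c (by simp)
    have hc0 : c ≠ 0 := by
      intro h
      rw [h, natDegree_zero] at h1
      omega
    have := deg_last (r := r) (by omega) hc0 rfl hs
    simpa [fold, rowU] using this
  | c :: c' :: l, _, hc, s, D, hs => by
    have h1 := hc c (by simp)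
    have hstep := inv_step hr h1 rfl hs
    have := fold_degree hr (c' :: l) (by simp) (fun x hx => hc x (List.mem_cons_of_mem _ hx))
      _ _ hstep
    rw [fold, this]
    congr 1
    simp only [List.map_cons, List.sum_cons]
    ring

/-- the starting vector -/
noncomputable def e1 : Fin 4 → K[X] := ![1, 0, 0, 0]

theorem inv_e1 : Inv (e1 : Fin 4 → K[X]) 0 := by
  refine ⟨?_, ?_, ?_, ?_⟩
  · show (1 : K[X]).degree = _
    rw [degree_one]; rfl
  · show (0 : K[X]).degree < _
    rw [degree_zero]; exact WithBot.bot_lt_coe _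
  · show (0 : K[X]).degree < _
    rw [degree_zero]; exact WithBot.bot_lt_coe _
  · show (0 : K[X]).degree < _
    rw [degree_zero]; exact WithBot.bot_lt_coe _

/-- exponent attached to a letter parameter -/
def expo (a : ℕ × Bool) : ℕ := 2 * a.1 + (if a.2 then 1 else 2)

theorem expo_injective : Function.Injective expo := by
  rintro ⟨i, b⟩ ⟨j, c⟩ h
  unfold expo at h
  cases b <;> cases c <;> simp only [Bool.false_eq_true, if_false, if_true] at h
  · have : i = j := by omega
    rw [this]
  · omega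
  · omega
  · have : i = j := by omega
    rw [this]

theorem expo_pos (a : ℕ × Bool) : 1 ≤ expo a := by
  unfold expo; split_ifs <;> omega

theorem expo_le (a : ℕ × Bool) : expo a ≤ 2 * a.1 + 2 := by
  unfold expo; split_ifs <;> omega

/-- polynomial parameters -/
noncomputable def ppar (a : ℕ × Bool) : K[X] := X ^ expo a

theorem natDegree_ppar (a : ℕ × Bool) : (ppar a : K[X]).natDegree = expo a := by
  unfold ppar; rw [natDegree_X_pow]

theorem natDegree_ppar_add {a b : ℕ × Bool} (h : a ≠ b) :
    1 ≤ (ppar a + ppar b : K[X]).natDegree ∧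
      (ppar a + ppar b : K[X]).natDegree ≤ max (expo a) (expo b) := by
  have hne : expo a ≠ expo b := fun h' => h (expo_injective h')
  refine ⟨?_, (natDegree_add_le _ _).trans (by rw [natDegree_ppar, natDegree_ppar])⟩
  rcases Nat.lt_or_gt_of_ne hne with h' | h'
  · rw [natDegree_add_eq_right_of_natDegree_lt (by rw [natDegree_ppar, natDegree_ppar]; exact h'),
      natDegree_ppar]
    exact expo_pos b
  · rw [natDegree_add_eq_left_of_natDegree_lt (by rw [natDegree_ppar, natDegree_ppar]; exact h'),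
      natDegree_ppar]
    exact expo_pos a

/-- all merged parameters are good -/
theorem cs_good (B : ℕ) :
    ∀ (L : List (ℕ × Bool)) (y : K[X]), FreeGroup.IsReduced L → (∀ a ∈ L, 2 * a.1 + 2 ≤ B) →
      ((y = 0 ∧ L ≠ []) ∨ (∃ a : ℕ × Bool, y = ppar (a.1, !a.2) ∧ FreeGroup.IsReduced (a :: L)
        ∧ 2 * a.1 + 2 ≤ B)) →
      ∀ c ∈ cs (ppar : ℕ × Bool → K[X]) y L, 1 ≤ c.natDegree ∧ c.natDegree ≤ B
  | [], y, _, _, hy => by
    intro c hc
    simp only [cs, List.mem_singleton] at hc
    subst hc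
    rcases hy with ⟨-, h⟩ | ⟨a, rfl, -, ha⟩
    · exact absurd rfl h
    · rw [natDegree_ppar]
      exact ⟨expo_pos _, (expo_le _).trans ha⟩
  | a :: L, y, hL, hB, hy => by
    intro c hc
    rw [cs, List.mem_cons] at hc
    have haB : 2 * a.1 + 2 ≤ B := hB a (by simp)
    rcases hc with rfl | hc
    · rcases hy with ⟨rfl, -⟩ | ⟨a', rfl, hred, ha'⟩
      · rw [zero_add]
        show 1 ≤ (ppar a : K[X]).natDegree ∧ (ppar a : K[X]).natDegree ≤ B
        rw [natDegree_ppar]
        exact ⟨expo_pos _, (expo_le _).trans haB⟩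
      · have hne : (a'.1, !a'.2) ≠ a := by
          intro h
          have hch : a'.1 = a.1 → a'.2 = a.2 := by
            have := hred
            unfold FreeGroup.IsReduced at this
            rw [List.isChain_cons_cons] at this
            exact this.1
          have h1 : a'.1 = a.1 := by rw [← h]
          have h2 : (!a'.2) = a.2 := by rw [← h]
          have h3 := hch h1
          rw [h3] at h2
          cases ha2 : a.2 <;> rw [ha2] at h2 <;> simp at h2
        have := natDegree_ppar_add (K := K) hne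
        refine ⟨this.1, this.2.trans (max_le ((expo_le _).trans ha') ((expo_le _).trans haB))⟩
    · have hL' : FreeGroup.IsReduced L := by
        unfold FreeGroup.IsReduced at hL ⊢
        exact hL.tail
      exact cs_good B L (lY ppar a) hL' (fun b hb => hB b (List.mem_cons_of_mem _ hb))
        (Or.inr ⟨a, rfl, hL, haB⟩) c hc

theorem length_cs {R : Type*} [CommRing R] (par : ℕ × Bool → R) :
    ∀ (L : List (ℕ × Bool)) (y : R), (cs par y L).length = L.length + 1
  | [], y => rfl
  | a :: L, y => by rw [cs, List.length_cons, length_cs par L, List.length_cons]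

theorem poly_main [CharP K 2] {r k : ℕ} (hrk : r = 2 ^ k) (hr : 2 ≤ r)
    (L : List (ℕ × Bool)) (hL : FreeGroup.IsReduced L) (hne : L ≠ []) (B : ℕ)
    (hB : ∀ a ∈ L, 2 * a.1 + 2 ≤ B) :
    (run r (ppar : ℕ × Bool → K[X]) L e1) 3 ≠ 0 ∧
      ((run r (ppar : ℕ × Bool → K[X]) L e1) 3).natDegree ≤ r * ((L.length + 1) * B) := by
  haveI : Fact (Nat.Prime 2) := ⟨Nat.prime_two⟩
  have hadd : ∀ x y : K[X], (x + y) ^ r = x ^ r + y ^ r := by
    intro x y
    rw [hrk]
    exact add_pow_char_pow x y 2 k
  rw [run_eq_fold' r (by omega) ppar hadd L e1]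
  have hgood := cs_good (K := K) B L 0 hL hB (Or.inl ⟨rfl, hne⟩)
  have hdeg := fold_degree (K := K) hr (cs ppar 0 L) (cs_ne_nil _ _ _)
    (fun c hc => (hgood c hc).1) e1 0 inv_e1
  have hsum : ((cs (ppar : ℕ × Bool → K[X]) 0 L).map natDegree).sum ≤ (L.length + 1) * B := by
    have h1 : ∀ x ∈ (cs (ppar : ℕ × Bool → K[X]) 0 L).map natDegree, x ≤ B := by
      intro x hx
      obtain ⟨c, hc, rfl⟩ := List.mem_map.mp hx
      exact (hgood c hc).2
    have := List.sum_le_card_nsmul _ B h1
    rw [List.length_map, length_cs, smul_eq_mul] at this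
    exact this
  constructor
  · intro h0
    rw [h0, degree_zero] at hdeg
    exact WithBot.bot_ne_coe hdeg
  · rw [natDegree_eq_of_degree_eq_some hdeg, zero_add]
    exact Nat.mul_le_mul_left r hsum

end Poly

end Cfsg.Agent.Lib.Helper4.SzLaw
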