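import Mathlib
import Cfsg.Agent.Lib.Helper4.SzLaw2
import Cfsg.Agent.Lib.Helper4.SzB4

/-! Laws in Suzuki groups: the main theorem. -/

set_option autoImplicit false

namespace Cfsg.Agent.Lib.Helper4.SzLaw

open Matrix Cfsg.Agent.Lib.Helper4.Suz Polynomial

section Main

variable {F : Type*} [Field F] [Fintype F] {m : ℕ}

omit [Fintype F] in
theorem vecMul_uM (c : F) (s : Fin 4 → F) :
    s ᵥ* (uM m 0 c) = rowU (2 ^ (m + 1)) c s := by
  ext i
  fin_cases i <;>
    simp [Matrix.vecMul, dotProduct, Fin.sum_univ_four, uM, rowU, th, ff] <;> ring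

omit [Fintype F] in
theorem vecMul_wM (s : Fin 4 → F) : s ᵥ* (wM : Matrix (Fin 4) (Fin 4) F) = rowT s := by
  ext i
  fin_cases i <;> simp [Matrix.vecMul, dotProduct, Fin.sum_univ_four, wM, rowT]

/-- the group element attached to a letter -/
def gS (hF : Fintype.card F = 2 ^ (2 * m + 1)) (β : ℕ × Bool → F) (a : ℕ × Bool) :
    Matrix.SpecialLinearGroup (Fin 4) F :=
  uS m 0 (β a) * wS hF * uS m 0 (β (a.1, !a.2))

theorem uS_mul_self (hF : Fintype.card F = 2 ^ (2 * m + 1)) (c : F) :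
    uS m 0 c * uS m 0 c = 1 := by
  rw [uS_mul hF, th_zero, zero_mul, add_zero, add_zero, add_self' (two_eq_zero hF), uS_zero]

theorem gS_inv (hF : Fintype.card F = 2 ^ (2 * m + 1)) (β : ℕ × Bool → F) (i : ℕ) :
    (gS hF β (i, true))⁻¹ = gS hF β (i, false) := by
  apply inv_eq_of_mul_eq_one_right
  unfold gS
  simp only [Bool.not_true, Bool.not_false]
  calc uS m 0 (β (i, true)) * wS hF * uS m 0 (β (i, false)) *
        (uS m 0 (β (i, false)) * wS hF * uS m 0 (β (i, true)))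
      = uS m 0 (β (i, true)) * (wS hF * (uS m 0 (β (i, false)) * uS m 0 (β (i, false))) * wS hF) *
          uS m 0 (β (i, true)) := by group
    _ = 1 := by rw [uS_mul_self hF, mul_one, wS_mul_wS, mul_one, uS_mul_self hF]

theorem gS_cond (hF : Fintype.card F = 2 ^ (2 * m + 1)) (β : ℕ × Bool → F) (a : ℕ × Bool) :
    (bif a.2 then gS hF β (a.1, true) else (gS hF β (a.1, true))⁻¹) = gS hF β a := by
  obtain ⟨i, b⟩ := a
  cases b
  · simp [gS_inv]
  · simp

theorem vecMul_gS (hF : Fintype.card F = 2 ^ (2 * m + 1)) (β : ℕ × Bool → F) (a : ℕ × Bool)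
    (s : Fin 4 → F) :
    s ᵥ* (gS hF β a : Matrix (Fin 4) (Fin 4) F) =
      rowU (2 ^ (m + 1)) (lY β a) (rowT (rowU (2 ^ (m + 1)) (lX β a) s)) := by
  have : (gS hF β a : Matrix (Fin 4) (Fin 4) F) = uM m 0 (β a) * wM * uM m 0 (β (a.1, !a.2)) := rfl
  rw [this, ← Matrix.vecMul_vecMul, ← Matrix.vecMul_vecMul, vecMul_uM, vecMul_wM, vecMul_uM]
  rfl

theorem vecMul_prod (hF : Fintype.card F = 2 ^ (2 * m + 1)) (β : ℕ × Bool → F) :
    ∀ (L : List (ℕ × Bool)) (s : Fin 4 → F),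
      s ᵥ* (((L.map (gS hF β)).prod : Matrix.SpecialLinearGroup (Fin 4) F) :
        Matrix (Fin 4) (Fin 4) F) = run (2 ^ (m + 1)) β L s
  | [], s => by
    simp [run]
  | a :: L, s => by
    rw [List.map_cons, List.prod_cons, Matrix.SpecialLinearGroup.coe_mul, ← Matrix.vecMul_vecMul,
      vecMul_gS, vecMul_prod hF β L, run]

end Main

theorem main (w : FreeGroup ℕ) (hw : w ≠ 1) :
    ∃ N : ℕ, ∀ (F : Type*) [Field F] [Fintype F] (m : ℕ), 1 ≤ m → N ≤ m →
      Fintype.card F = 2 ^ (2 * m + 1) →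
      ∃ f : ℕ → ↥(Cfsg.Lie.Sz F (2 ^ (m + 1))), FreeGroup.lift f w ≠ 1 := by
  classical
  set L := w.toWord with hLdef
  have hL : FreeGroup.IsReduced L := FreeGroup.isReduced_toWord
  have hne : L ≠ [] := fun h => hw (FreeGroup.toWord_eq_nil_iff.mp h)
  set B := 2 * (L.map Prod.fst).sum + 2 with hBdef
  have hB : ∀ a ∈ L, 2 * a.1 + 2 ≤ B := by
    intro a ha
    have : a.1 ≤ (L.map Prod.fst).sum :=
      List.single_le_sum (fun _ _ => Nat.zero_le _) _ (List.mem_map_of_mem ha)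
    omega
  refine ⟨(L.length + 1) * B, ?_⟩
  intro F _ _ m hm hN hF
  haveI : Fact (Nat.Prime 2) := ⟨Nat.prime_two⟩
  haveI : CharP F 2 := charP_of_card_eq_prime_pow hF
  set r := 2 ^ (m + 1) with hr
  have hr2 : 2 ≤ r := by
    rw [hr, pow_succ]
    have : 1 ≤ 2 ^ m := Nat.one_le_two_pow
    omega
  obtain ⟨hP0, hPdeg⟩ := poly_main (K := F) (r := r) (k := m + 1) rfl hr2 L hL hne B hB
  set P := (run r (ppar : ℕ × Bool → F[X]) L e1) 3 with hP
  have hlt : P.natDegree < Fintype.card F := by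
    have h1 : (L.length + 1) * B < 2 ^ m := lt_of_le_of_lt hN Nat.lt_two_pow_self
    calc P.natDegree ≤ r * ((L.length + 1) * B) := hPdeg
      _ < r * 2 ^ m := Nat.mul_lt_mul_of_pos_left h1 (by omega)
      _ = Fintype.card F := by rw [hF, hr, ← pow_add]; congr 1; ring
  obtain ⟨t, ht⟩ := Polynomial.exists_eval_ne_zero_of_natDegree_lt_card P hP0 (by
    rw [Cardinal.mk_fintype]
    exact_mod_cast hlt)
  set β : ℕ × Bool → F := fun a => t ^ expo a with hβ
  have hmem : ∀ i, Matrix.SpecialLinearGroup.toGL (gS hF β (i, true)) ∈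
      Cfsg.Lie.Sz F (2 ^ (m + 1)) := by
    intro i
    rw [lieSz_eq]
    unfold gS
    rw [map_mul, map_mul]
    exact mul_mem (mul_mem (Subgroup.subset_closure (toGL_uS_mem hF _ _))
      (Subgroup.subset_closure (toGL_wS_mem hF))) (Subgroup.subset_closure (toGL_uS_mem hF _ _))
  refine ⟨fun i => ⟨_, hmem i⟩, ?_⟩
  intro h1
  -- pass to SL
  have hcomp : (Subgroup.subtype (Cfsg.Lie.Sz F (2 ^ (m + 1)))).comp
      (FreeGroup.lift fun i => (⟨_, hmem i⟩ : ↥(Cfsg.Lie.Sz F (2 ^ (m + 1))))) =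
      (Matrix.SpecialLinearGroup.toGL).comp (FreeGroup.lift fun i => gS hF β (i, true)) := by
    apply FreeGroup.ext_hom
    intro i
    simp
  have h2 := DFunLike.congr_fun hcomp w
  rw [MonoidHom.comp_apply, h1, map_one, MonoidHom.comp_apply] at h2
  have h3 : FreeGroup.lift (fun i => gS hF β (i, true)) w = 1 :=
    toGL_injective (h2.symm.trans (map_one _).symm)
  rw [← FreeGroup.mk_toWord (x := w), FreeGroup.lift_mk] at h3
  have h4 : (List.map (fun x : ℕ × Bool =>
      bif x.2 then gS hF β (x.1, true) else (gS hF β (x.1, true))⁻¹) w.toWord) =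
      List.map (gS hF β) L := by
    apply List.map_congr_left
    intro a _
    exact gS_cond hF β a
  rw [h4] at h3
  have h5 := vecMul_prod hF β L ![1, 0, 0, 0]
  rw [h3, Matrix.SpecialLinearGroup.coe_one, Matrix.vecMul_one] at h5
  have h6 := map_run (Polynomial.evalRingHom t) r (ppar : ℕ × Bool → F[X]) L e1
  have h7 : (Polynomial.evalRingHom t) ∘ (ppar : ℕ × Bool → F[X]) = β := by
    funext a
    simp [ppar, hβ]
  have h8 : (Polynomial.evalRingHom t) ∘ (e1 : Fin 4 → F[X]) = ![1, 0, 0, 0] := by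
    funext i
    fin_cases i <;> simp [e1]
  rw [h7, h8, ← h5] at h6
  have h9 := congrFun h6 3
  simp only [Function.comp_apply, Polynomial.coe_evalRingHom] at h9
  apply ht
  rw [hP, h9]
  rfl

end Cfsg.Agent.Lib.Helper4.SzLaw
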