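import Mathlib
import Cfsg.Agent.Lib.Helper4.TC12

/-!
Verified Todd–Coxeter logs, part 21: if adding a relator `w` makes the presented group cyclic (one coset
of the subgroup generated by a single letter), the normal closure of `w` contains the commutator
subgroup.
-/

namespace Cfsg.Agent.Lib.Helper4.TC

open Log Cfsg.Spor

/-- If adding the relator `w` leaves one coset of the subgroup generated by the letter `a`, the normal
closure of `w` contains the commutator subgroup. -/
theorem commutator_le_normalClosure {α : Type} [DecidableEq α] {P : CoxEnc α} (hP : P.Valid) (w : List ℕ)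
    (hw : ∀ x ∈ w, x ≤ P.k) (a : ℕ) {T : Tab} {D : Log}
    (I : GInst P.k P.invR (w :: P.real) [[a]] T D) (hN : T.N = 1) :
    commutator P.Grp ≤ Subgroup.normalClosure {wordP P.gR w} := by
  set Nn := Subgroup.normalClosure {wordP P.gR w} with hNn
  have hS : GSound (fun l => (QuotientGroup.mk' Nn) (P.gR l)) P.k P.invR (w :: P.real) := by
    refine ⟨?_, ?_, ?_⟩
    · have : P.gR P.k = 1 := by rw [CoxEnc.gR, if_neg (lt_irrefl _)]
      rw [this, map_one]
    · intro l hl
      obtain ⟨h1, h2⟩ := hP.invR_sound l hl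
      exact ⟨h1, by rw [h2, map_inv]⟩
    · intro r hr
      rw [wordP_hom (QuotientGroup.mk' Nn) P.gR r]
      rcases List.mem_cons.1 hr with rfl | hr
      · refine ⟨hw, ?_⟩
        exact (QuotientGroup.eq_one_iff _).2 (Subgroup.subset_normalClosure rfl)
      · obtain ⟨h1, h2⟩ := hP.real_sound r hr
        exact ⟨h1, by rw [h2, map_one]⟩
  set ga : P.Grp ⧸ Nn := (QuotientGroup.mk' Nn) (P.gR a) with hga
  have hsub : GInst.subK (fun l => (QuotientGroup.mk' Nn) (P.gR l)) [[a]] = Subgroup.zpowers ga := by
    rw [Subgroup.zpowers_eq_closure]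
    unfold GInst.subK
    congr 1
    ext s
    simp only [List.mem_cons, List.not_mem_nil, or_false, exists_eq_left, Set.mem_setOf_eq,
      Set.mem_singleton_iff, wordP_cons, wordP_nil, mul_one, hga]
  -- every element of the quotient is a power of the image of `a`
  have hall : ∀ γ : P.Grp, (QuotientGroup.mk' Nn) γ ∈ Subgroup.zpowers ga := by
    intro γ
    have hγ : γ ∈ Subgroup.closure (P.gR '' Set.Iio P.k) := by rw [hP.gen_top]; trivial
    have hmem : (QuotientGroup.mk' Nn) γ ∈
        Subgroup.closure ((fun l => (QuotientGroup.mk' Nn) (P.gR l)) '' Set.Iio P.k) := by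
      have : (fun l => (QuotientGroup.mk' Nn) (P.gR l)) '' Set.Iio P.k =
          (QuotientGroup.mk' Nn) '' (P.gR '' Set.Iio P.k) := by
        rw [Set.image_image]
      rw [this, ← MonoidHom.map_closure]
      exact Subgroup.mem_map_of_mem _ hγ
    obtain ⟨i, hi, hm⟩ := I.cover hS _ hmem
    have hi0 : i = 0 := by omega
    rw [hi0, I.hC.hname0, D.V_zero, inv_one, mul_one, hsub] at hm
    exact hm
  rw [commutator_def, Subgroup.commutator_le]
  intro g₁ _ g₂ _
  rw [← QuotientGroup.eq_one_iff, ← QuotientGroup.mk'_apply, map_commutatorElement,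
    commutatorElement_eq_one_iff_commute]
  obtain ⟨m, hm⟩ := Subgroup.mem_zpowers_iff.1 (hall g₁)
  obtain ⟨n, hn⟩ := Subgroup.mem_zpowers_iff.1 (hall g₂)
  rw [← hm, ← hn]
  exact (Commute.refl ga).zpow_zpow m n

end Cfsg.Agent.Lib.Helper4.TC
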