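namespace Cfsg.Agent.Lib.Helper4.TCD.A12pL

noncomputable def st11_0 : Nat := nat_lit 0xba9876543021
noncomputable def st12_0 : Nat := nat_lit 0xba9876543102
noncomputable def st13_0 : Nat := nat_lit 0xba9786543201
noncomputable def st14_0 : Nat := nat_lit 0xba8976543201
noncomputable def st15_0 : Nat := nat_lit 0xba9876534201
noncomputable def st16_0 : Nat := nat_lit 0xba9678543201
noncomputable def st17_0 : Nat := nat_lit 0xba9876453201
noncomputable def st18_0 : Nat := nat_lit 0xba9875643201
noncomputable def st19_0 : Nat := nat_lit 0xb9a876543201
noncomputable def st20_0 : Nat := nat_lit 0xba9876540231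
noncomputable def st21_0 : Nat := nat_lit 0xba9876541203
noncomputable def st22_0 : Nat := nat_lit 0xba9876513204
noncomputable def st23_0 : Nat := nat_lit 0xba9876503241
noncomputable def st24_0 : Nat := nat_lit 0xba9876043251
noncomputable def st25_0 : Nat := nat_lit 0xba9876143205
noncomputable def st26_0 : Nat := nat_lit 0xb9687a543210
noncomputable def st27_0 : Nat := nat_lit 0xb6a879543210
noncomputable def st28_0 : Nat := nat_lit 0xba9871543206
noncomputable def st29_0 : Nat := nat_lit 0xba9870543261
noncomputable def st30_0 : Nat := nat_lit 0xb9a871543260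
noncomputable def st31_0 : Nat := nat_lit 0xb918765432a0
noncomputable def st32_0 : Nat := nat_lit 0xb1a876543290
noncomputable def levTab_0 : Nat := nat_lit 0x998778866554476534321107322654111
noncomputable def betaTab_0 : Nat := nat_lit 0x160543872b
noncomputable def nodeTab_0 : Nat := nat_lit 0x5f0a600900015a1a5b1900065e119f1aa0195c06490100009a3a9b3945260005592158209f1aa019853644250004562157209f1aa0199c0684354324000355215420897a4869000850668555d714d4139f719d509a5a9b594768000746668555c444d4139c519d509f1aa019d068c6679d16981597144223000240214120000b4aba89a9c898c6679ba6c565d714d413c112a0a1dd60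
noncomputable def offTab_0 : Nat := nat_lit 0x24447ee592a425c600
noncomputable def nTab_0 : Nat := nat_lit 0x3456789abc
noncomputable def rootTab_0 : Nat := nat_lit 0x10222662b

end Cfsg.Agent.Lib.Helper4.TCD.A12pL
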