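namespace Cfsg.Agent.Lib.Helper4.TCD.A12pR

noncomputable def col0_0 : Nat := nat_lit 0xba9876543021
noncomputable def col1_0 : Nat := nat_lit 0xba9876543102
noncomputable def col2_0 : Nat := nat_lit 0xba9876542301
noncomputable def col3_0 : Nat := nat_lit 0xba9876534201
noncomputable def col4_0 : Nat := nat_lit 0xba9876453201
noncomputable def col5_0 : Nat := nat_lit 0xba9875643201
noncomputable def col6_0 : Nat := nat_lit 0xba9867543201
noncomputable def col7_0 : Nat := nat_lit 0xba9786543201
noncomputable def col8_0 : Nat := nat_lit 0xba8976543201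
noncomputable def col9_0 : Nat := nat_lit 0xb9a876543201
noncomputable def col10_0 : Nat := nat_lit 0xab9876543201

end Cfsg.Agent.Lib.Helper4.TCD.A12pR
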