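import Cfsg.Agent.Lib.Helper4.TC14
import Cfsg.Agent.Lib.Helper4.TCP_A12p
import Cfsg.Agent.Lib.Helper4.TCD_A12pR_D0

namespace Cfsg.Agent.Lib.Helper4.TCD.A12pR

open Cfsg.Agent.Lib.Helper4.TC

set_option maxRecDepth 100000

noncomputable def col0 (i : Nat) : Nat := rdw 4 15 col0_0 i
noncomputable def col1 (i : Nat) : Nat := rdw 4 15 col1_0 i
noncomputable def col2 (i : Nat) : Nat := rdw 4 15 col2_0 i
noncomputable def col3 (i : Nat) : Nat := rdw 4 15 col3_0 i
noncomputable def col4 (i : Nat) : Nat := rdw 4 15 col4_0 i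
noncomputable def col5 (i : Nat) : Nat := rdw 4 15 col5_0 i
noncomputable def col6 (i : Nat) : Nat := rdw 4 15 col6_0 i
noncomputable def col7 (i : Nat) : Nat := rdw 4 15 col7_0 i
noncomputable def col8 (i : Nat) : Nat := rdw 4 15 col8_0 i
noncomputable def col9 (i : Nat) : Nat := rdw 4 15 col9_0 i
noncomputable def col10 (i : Nat) : Nat := rdw 4 15 col10_0 i
noncomputable def tblF (i x : Nat) : Nat := @Bool.rec (fun _ => Nat) (@Bool.rec (fun _ => Nat) (@Bool.rec (fun _ => Nat) (col0 i) (col1 i) (Nat.ble 1 x)) (@Bool.rec (fun _ => Nat) (col2 i) (@Bool.rec (fun _ => Nat) (col3 i) (col4 i) (Nat.ble 4 x)) (Nat.ble 3 x)) (Nat.ble 2 x)) (@Bool.rec (fun _ => Nat) (@Bool.rec (fun _ => Nat) (col5 i) (@Bool.rec (fun _ => Nat) (col6 i) (col7 i) (Nat.ble 7 x)) (Nat.ble 6 x)) (@Bool.rec (fun _ => Nat) (col8 i) (@Bool.rec (fun _ => Nat) (col9 i) (col10 i) (Nat.ble 10 x)) (Nat.ble 9 x)) (Nat.ble 8 x)) (Nat.ble 5 x)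

noncomputable def D : Log :=
  { k := 11, inv := PA12p.invR, nR := 0, rBase := fun _ => 0, rLen := fun _ => 0, RR := fun _ => 0,
    M := 0, nB := 0, F := 0, src := fun _ => 0, lt := fun _ => 0, tgt := fun _ => 0, rho := fun _ => 0, rot := fun _ => 0,
    off := fun _ => 0, len := fun _ => 0, pf := fun _ => 0, pd := fun _ => 0 }

noncomputable def T : Tab :=
  { N := 12, nameOf := fun _ => 0, tbl := tblF, finF := fun _ _ => 0, finD := fun _ _ => 0, cls := fun _ => 0 }

def rw0 : List Nat := [2, 2]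
def rw1 : List Nat := [2, 3, 2, 3, 2, 3]
def rw2 : List Nat := [2, 4, 2, 4]
def rw3 : List Nat := [2, 5, 2, 5]
def rw4 : List Nat := [2, 6, 2, 6]
def rw5 : List Nat := [2, 7, 2, 7]
def rw6 : List Nat := [2, 8, 2, 8]
def rw7 : List Nat := [2, 9, 2, 9]
def rw8 : List Nat := [2, 10, 2, 10]
def rw9 : List Nat := [3, 3]
def rw10 : List Nat := [3, 4, 3, 4, 3, 4]
def rw11 : List Nat := [3, 5, 3, 5]
def rw12 : List Nat := [3, 6, 3, 6]
def rw13 : List Nat := [3, 7, 3, 7]
def rw14 : List Nat := [3, 8, 3, 8]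
def rw15 : List Nat := [3, 9, 3, 9]
def rw16 : List Nat := [3, 10, 3, 10]
def rw17 : List Nat := [4, 4]
def rw18 : List Nat := [4, 5, 4, 5, 4, 5]
def rw19 : List Nat := [4, 6, 4, 6]
def rw20 : List Nat := [4, 7, 4, 7]
def rw21 : List Nat := [4, 8, 4, 8]
def rw22 : List Nat := [4, 9, 4, 9]
def rw23 : List Nat := [4, 10, 4, 10]
def rw24 : List Nat := [5, 5]
def rw25 : List Nat := [5, 6, 5, 6, 5, 6]
def rw26 : List Nat := [5, 7, 5, 7]
def rw27 : List Nat := [5, 8, 5, 8]
def rw28 : List Nat := [5, 9, 5, 9]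
def rw29 : List Nat := [5, 10, 5, 10]
def rw30 : List Nat := [6, 6]
def rw31 : List Nat := [6, 7, 6, 7, 6, 7]
def rw32 : List Nat := [6, 8, 6, 8]
def rw33 : List Nat := [6, 9, 6, 9]
def rw34 : List Nat := [6, 10, 6, 10]
def rw35 : List Nat := [7, 7]
def rw36 : List Nat := [7, 8, 7, 8, 7, 8]
def rw37 : List Nat := [7, 9, 7, 9]
def rw38 : List Nat := [7, 10, 7, 10]
def rw39 : List Nat := [8, 8]
def rw40 : List Nat := [8, 9, 8, 9, 8, 9]
def rw41 : List Nat := [8, 10, 8, 10]
def rw42 : List Nat := [9, 9]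
def rw43 : List Nat := [9, 10, 9, 10, 9, 10]
def rw44 : List Nat := [10, 10]
def rw45 : List Nat := [0, 0, 0]
def rw46 : List Nat := [0, 2, 0, 2, 0, 2]
def rw47 : List Nat := [0, 3, 0, 3]
def rw48 : List Nat := [0, 4, 0, 4]
def rw49 : List Nat := [0, 5, 0, 5]
def rw50 : List Nat := [0, 6, 0, 6]
def rw51 : List Nat := [0, 7, 0, 7]
def rw52 : List Nat := [0, 8, 0, 8]
def rw53 : List Nat := [0, 9, 0, 9]
def rw54 : List Nat := [0, 10, 0, 10]
def realLit : List (List Nat) := [rw0, rw1, rw2, rw3, rw4, rw5, rw6, rw7, rw8, rw9, rw10, rw11, rw12, rw13, rw14, rw15, rw16, rw17, rw18, rw19, rw20, rw21, rw22, rw23, rw24, rw25, rw26, rw27, rw28, rw29, rw30, rw31, rw32, rw33, rw34, rw35, rw36, rw37, rw38, rw39, rw40, rw41, rw42, rw43, rw44, rw45, rw46, rw47, rw48, rw49, rw50, rw51, rw52, rw53, rw54]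
noncomputable def actR0 (i : Nat) : Nat := col2 (col2 (i))
theorem actR0_eq (i : Nat) : actR0 i = Tab.act T D rw0 i := rfl
noncomputable def actR1 (i : Nat) : Nat := col2 (col3 (col2 (col3 (col2 (col3 (i))))))
theorem actR1_eq (i : Nat) : actR1 i = Tab.act T D rw1 i := rfl
noncomputable def actR2 (i : Nat) : Nat := col2 (col4 (col2 (col4 (i))))
theorem actR2_eq (i : Nat) : actR2 i = Tab.act T D rw2 i := rfl
noncomputable def actR3 (i : Nat) : Nat := col2 (col5 (col2 (col5 (i))))
theorem actR3_eq (i : Nat) : actR3 i = Tab.act T D rw3 i := rfl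
noncomputable def actR4 (i : Nat) : Nat := col2 (col6 (col2 (col6 (i))))
theorem actR4_eq (i : Nat) : actR4 i = Tab.act T D rw4 i := rfl
noncomputable def actR5 (i : Nat) : Nat := col2 (col7 (col2 (col7 (i))))
theorem actR5_eq (i : Nat) : actR5 i = Tab.act T D rw5 i := rfl
noncomputable def actR6 (i : Nat) : Nat := col2 (col8 (col2 (col8 (i))))
theorem actR6_eq (i : Nat) : actR6 i = Tab.act T D rw6 i := rfl
noncomputable def actR7 (i : Nat) : Nat := col2 (col9 (col2 (col9 (i))))
theorem actR7_eq (i : Nat) : actR7 i = Tab.act T D rw7 i := rfl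
noncomputable def actR8 (i : Nat) : Nat := col2 (col10 (col2 (col10 (i))))
theorem actR8_eq (i : Nat) : actR8 i = Tab.act T D rw8 i := rfl
noncomputable def actR9 (i : Nat) : Nat := col3 (col3 (i))
theorem actR9_eq (i : Nat) : actR9 i = Tab.act T D rw9 i := rfl
noncomputable def actR10 (i : Nat) : Nat := col3 (col4 (col3 (col4 (col3 (col4 (i))))))
theorem actR10_eq (i : Nat) : actR10 i = Tab.act T D rw10 i := rfl
noncomputable def actR11 (i : Nat) : Nat := col3 (col5 (col3 (col5 (i))))
theorem actR11_eq (i : Nat) : actR11 i = Tab.act T D rw11 i := rfl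
noncomputable def actR12 (i : Nat) : Nat := col3 (col6 (col3 (col6 (i))))
theorem actR12_eq (i : Nat) : actR12 i = Tab.act T D rw12 i := rfl
noncomputable def actR13 (i : Nat) : Nat := col3 (col7 (col3 (col7 (i))))
theorem actR13_eq (i : Nat) : actR13 i = Tab.act T D rw13 i := rfl
noncomputable def actR14 (i : Nat) : Nat := col3 (col8 (col3 (col8 (i))))
theorem actR14_eq (i : Nat) : actR14 i = Tab.act T D rw14 i := rfl
noncomputable def actR15 (i : Nat) : Nat := col3 (col9 (col3 (col9 (i))))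
theorem actR15_eq (i : Nat) : actR15 i = Tab.act T D rw15 i := rfl
noncomputable def actR16 (i : Nat) : Nat := col3 (col10 (col3 (col10 (i))))
theorem actR16_eq (i : Nat) : actR16 i = Tab.act T D rw16 i := rfl
noncomputable def actR17 (i : Nat) : Nat := col4 (col4 (i))
theorem actR17_eq (i : Nat) : actR17 i = Tab.act T D rw17 i := rfl
noncomputable def actR18 (i : Nat) : Nat := col4 (col5 (col4 (col5 (col4 (col5 (i))))))
theorem actR18_eq (i : Nat) : actR18 i = Tab.act T D rw18 i := rfl
noncomputable def actR19 (i : Nat) : Nat := col4 (col6 (col4 (col6 (i))))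
theorem actR19_eq (i : Nat) : actR19 i = Tab.act T D rw19 i := rfl
noncomputable def actR20 (i : Nat) : Nat := col4 (col7 (col4 (col7 (i))))
theorem actR20_eq (i : Nat) : actR20 i = Tab.act T D rw20 i := rfl
noncomputable def actR21 (i : Nat) : Nat := col4 (col8 (col4 (col8 (i))))
theorem actR21_eq (i : Nat) : actR21 i = Tab.act T D rw21 i := rfl
noncomputable def actR22 (i : Nat) : Nat := col4 (col9 (col4 (col9 (i))))
theorem actR22_eq (i : Nat) : actR22 i = Tab.act T D rw22 i := rfl
noncomputable def actR23 (i : Nat) : Nat := col4 (col10 (col4 (col10 (i))))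
theorem actR23_eq (i : Nat) : actR23 i = Tab.act T D rw23 i := rfl
noncomputable def actR24 (i : Nat) : Nat := col5 (col5 (i))
theorem actR24_eq (i : Nat) : actR24 i = Tab.act T D rw24 i := rfl
noncomputable def actR25 (i : Nat) : Nat := col5 (col6 (col5 (col6 (col5 (col6 (i))))))
theorem actR25_eq (i : Nat) : actR25 i = Tab.act T D rw25 i := rfl
noncomputable def actR26 (i : Nat) : Nat := col5 (col7 (col5 (col7 (i))))
theorem actR26_eq (i : Nat) : actR26 i = Tab.act T D rw26 i := rfl
noncomputable def actR27 (i : Nat) : Nat := col5 (col8 (col5 (col8 (i))))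
theorem actR27_eq (i : Nat) : actR27 i = Tab.act T D rw27 i := rfl
noncomputable def actR28 (i : Nat) : Nat := col5 (col9 (col5 (col9 (i))))
theorem actR28_eq (i : Nat) : actR28 i = Tab.act T D rw28 i := rfl
noncomputable def actR29 (i : Nat) : Nat := col5 (col10 (col5 (col10 (i))))
theorem actR29_eq (i : Nat) : actR29 i = Tab.act T D rw29 i := rfl
noncomputable def actR30 (i : Nat) : Nat := col6 (col6 (i))
theorem actR30_eq (i : Nat) : actR30 i = Tab.act T D rw30 i := rfl
noncomputable def actR31 (i : Nat) : Nat := col6 (col7 (col6 (col7 (col6 (col7 (i))))))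
theorem actR31_eq (i : Nat) : actR31 i = Tab.act T D rw31 i := rfl
noncomputable def actR32 (i : Nat) : Nat := col6 (col8 (col6 (col8 (i))))
theorem actR32_eq (i : Nat) : actR32 i = Tab.act T D rw32 i := rfl
noncomputable def actR33 (i : Nat) : Nat := col6 (col9 (col6 (col9 (i))))
theorem actR33_eq (i : Nat) : actR33 i = Tab.act T D rw33 i := rfl
noncomputable def actR34 (i : Nat) : Nat := col6 (col10 (col6 (col10 (i))))
theorem actR34_eq (i : Nat) : actR34 i = Tab.act T D rw34 i := rfl
noncomputable def actR35 (i : Nat) : Nat := col7 (col7 (i))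
theorem actR35_eq (i : Nat) : actR35 i = Tab.act T D rw35 i := rfl
noncomputable def actR36 (i : Nat) : Nat := col7 (col8 (col7 (col8 (col7 (col8 (i))))))
theorem actR36_eq (i : Nat) : actR36 i = Tab.act T D rw36 i := rfl
noncomputable def actR37 (i : Nat) : Nat := col7 (col9 (col7 (col9 (i))))
theorem actR37_eq (i : Nat) : actR37 i = Tab.act T D rw37 i := rfl
noncomputable def actR38 (i : Nat) : Nat := col7 (col10 (col7 (col10 (i))))
theorem actR38_eq (i : Nat) : actR38 i = Tab.act T D rw38 i := rfl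
noncomputable def actR39 (i : Nat) : Nat := col8 (col8 (i))
theorem actR39_eq (i : Nat) : actR39 i = Tab.act T D rw39 i := rfl
noncomputable def actR40 (i : Nat) : Nat := col8 (col9 (col8 (col9 (col8 (col9 (i))))))
theorem actR40_eq (i : Nat) : actR40 i = Tab.act T D rw40 i := rfl
noncomputable def actR41 (i : Nat) : Nat := col8 (col10 (col8 (col10 (i))))
theorem actR41_eq (i : Nat) : actR41 i = Tab.act T D rw41 i := rfl
noncomputable def actR42 (i : Nat) : Nat := col9 (col9 (i))
theorem actR42_eq (i : Nat) : actR42 i = Tab.act T D rw42 i := rfl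
noncomputable def actR43 (i : Nat) : Nat := col9 (col10 (col9 (col10 (col9 (col10 (i))))))
theorem actR43_eq (i : Nat) : actR43 i = Tab.act T D rw43 i := rfl
noncomputable def actR44 (i : Nat) : Nat := col10 (col10 (i))
theorem actR44_eq (i : Nat) : actR44 i = Tab.act T D rw44 i := rfl
noncomputable def actR45 (i : Nat) : Nat := col1 (col1 (col1 (i)))
theorem actR45_eq (i : Nat) : actR45 i = Tab.act T D rw45 i := rfl
noncomputable def actR46 (i : Nat) : Nat := col1 (col2 (col1 (col2 (col1 (col2 (i))))))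
theorem actR46_eq (i : Nat) : actR46 i = Tab.act T D rw46 i := rfl
noncomputable def actR47 (i : Nat) : Nat := col1 (col3 (col1 (col3 (i))))
theorem actR47_eq (i : Nat) : actR47 i = Tab.act T D rw47 i := rfl
noncomputable def actR48 (i : Nat) : Nat := col1 (col4 (col1 (col4 (i))))
theorem actR48_eq (i : Nat) : actR48 i = Tab.act T D rw48 i := rfl
noncomputable def actR49 (i : Nat) : Nat := col1 (col5 (col1 (col5 (i))))
theorem actR49_eq (i : Nat) : actR49 i = Tab.act T D rw49 i := rfl
noncomputable def actR50 (i : Nat) : Nat := col1 (col6 (col1 (col6 (i))))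
theorem actR50_eq (i : Nat) : actR50 i = Tab.act T D rw50 i := rfl
noncomputable def actR51 (i : Nat) : Nat := col1 (col7 (col1 (col7 (i))))
theorem actR51_eq (i : Nat) : actR51 i = Tab.act T D rw51 i := rfl
noncomputable def actR52 (i : Nat) : Nat := col1 (col8 (col1 (col8 (i))))
theorem actR52_eq (i : Nat) : actR52 i = Tab.act T D rw52 i := rfl
noncomputable def actR53 (i : Nat) : Nat := col1 (col9 (col1 (col9 (i))))
theorem actR53_eq (i : Nat) : actR53 i = Tab.act T D rw53 i := rfl
noncomputable def actR54 (i : Nat) : Nat := col1 (col10 (col1 (col10 (i))))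
theorem actR54_eq (i : Nat) : actR54 i = Tab.act T D rw54 i := rfl

end Cfsg.Agent.Lib.Helper4.TCD.A12pR
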