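import Cfsg.Agent.Lib.Helper4.TC11
import Cfsg.Agent.Lib.Helper4.TCD_A12pR_Acc
import Cfsg.Agent.Lib.Helper4.TCD_A12pL_D0

namespace Cfsg.Agent.Lib.Helper4.TCD.A12pL

open Cfsg.Agent.Lib.Helper4.TC Cfsg.Agent.Lib.Helper4.TCD.A12pR

set_option maxRecDepth 100000

noncomputable def st11 (i : Nat) : Nat := rdw 4 15 st11_0 i
noncomputable def st12 (i : Nat) : Nat := rdw 4 15 st12_0 i
noncomputable def st13 (i : Nat) : Nat := rdw 4 15 st13_0 i
noncomputable def st14 (i : Nat) : Nat := rdw 4 15 st14_0 i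
noncomputable def st15 (i : Nat) : Nat := rdw 4 15 st15_0 i
noncomputable def st16 (i : Nat) : Nat := rdw 4 15 st16_0 i
noncomputable def st17 (i : Nat) : Nat := rdw 4 15 st17_0 i
noncomputable def st18 (i : Nat) : Nat := rdw 4 15 st18_0 i
noncomputable def st19 (i : Nat) : Nat := rdw 4 15 st19_0 i
noncomputable def st20 (i : Nat) : Nat := rdw 4 15 st20_0 i
noncomputable def st21 (i : Nat) : Nat := rdw 4 15 st21_0 i
noncomputable def st22 (i : Nat) : Nat := rdw 4 15 st22_0 i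
noncomputable def st23 (i : Nat) : Nat := rdw 4 15 st23_0 i
noncomputable def st24 (i : Nat) : Nat := rdw 4 15 st24_0 i
noncomputable def st25 (i : Nat) : Nat := rdw 4 15 st25_0 i
noncomputable def st26 (i : Nat) : Nat := rdw 4 15 st26_0 i
noncomputable def st27 (i : Nat) : Nat := rdw 4 15 st27_0 i
noncomputable def st28 (i : Nat) : Nat := rdw 4 15 st28_0 i
noncomputable def st29 (i : Nat) : Nat := rdw 4 15 st29_0 i
noncomputable def st30 (i : Nat) : Nat := rdw 4 15 st30_0 i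
noncomputable def st31 (i : Nat) : Nat := rdw 4 15 st31_0 i
noncomputable def st32 (i : Nat) : Nat := rdw 4 15 st32_0 i
noncomputable def levTab (i : Nat) : Nat := rdw 4 15 levTab_0 i
noncomputable def betaTab (i : Nat) : Nat := rdw 4 15 betaTab_0 i
noncomputable def nodeTab (i : Nat) : Nat := rdw 16 65535 nodeTab_0 i
noncomputable def offTab (i : Nat) : Nat := rdw 7 127 offTab_0 i
noncomputable def nTab (i : Nat) : Nat := rdw 4 15 nTab_0 i
noncomputable def rootTab (i : Nat) : Nat := rdw 4 15 rootTab_0 i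
noncomputable def tabF (i p : Nat) : Nat := @Bool.rec (fun _ => Nat) (@Bool.rec (fun _ => Nat) (@Bool.rec (fun _ => Nat) (@Bool.rec (fun _ => Nat) (@Bool.rec (fun _ => Nat) (col1 p) (col0 p) (Nat.ble 1 i)) (@Bool.rec (fun _ => Nat) (col2 p) (col3 p) (Nat.ble 3 i)) (Nat.ble 2 i)) (@Bool.rec (fun _ => Nat) (@Bool.rec (fun _ => Nat) (col4 p) (col5 p) (Nat.ble 5 i)) (@Bool.rec (fun _ => Nat) (col6 p) (col7 p) (Nat.ble 7 i)) (Nat.ble 6 i)) (Nat.ble 4 i)) (@Bool.rec (fun _ => Nat) (@Bool.rec (fun _ => Nat) (@Bool.rec (fun _ => Nat) (col8 p) (col9 p) (Nat.ble 9 i)) (@Bool.rec (fun _ => Nat) (col10 p) (st11 p) (Nat.ble 11 i)) (Nat.ble 10 i)) (@Bool.rec (fun _ => Nat) (@Bool.rec (fun _ => Nat) (st12 p) (st13 p) (Nat.ble 13 i)) (@Bool.rec (fun _ => Nat) (st14 p) (st15 p) (Nat.ble 15 i)) (Nat.ble 14 i)) (Nat.ble 12 i)) (Nat.ble 8 i)) (@Bool.rec (fun _ => Nat) (@Bool.rec (fun _ => Nat) (@Bool.rec (fun _ => Nat) (@Bool.rec (fun _ => Nat)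 (st16 p) (st17 p) (Nat.ble 17 i)) (@Bool.rec (fun _ => Nat) (st18 p) (st19 p) (Nat.ble 19 i)) (Nat.ble 18 i)) (@Bool.rec (fun _ => Nat) (@Bool.rec (fun _ => Nat) (st20 p) (st21 p) (Nat.ble 21 i)) (@Bool.rec (fun _ => Nat) (st22 p) (st23 p) (Nat.ble 23 i)) (Nat.ble 22 i)) (Nat.ble 20 i)) (@Bool.rec (fun _ => Nat) (@Bool.rec (fun _ => Nat) (@Bool.rec (fun _ => Nat) (st24 p) (st25 p) (Nat.ble 25 i)) (@Bool.rec (fun _ => Nat) (st26 p) (st27 p) (Nat.ble 27 i)) (Nat.ble 26 i)) (@Bool.rec (fun _ => Nat) (@Bool.rec (fun _ => Nat) (st28 p) (st29 p) (Nat.ble 29 i)) (@Bool.rec (fun _ => Nat) (st30 p) (@Bool.rec (fun _ => Nat) (st31 p) (st32 p) (Nat.ble 32 i)) (Nat.ble 31 i)) (Nat.ble 30 i)) (Nat.ble 28 i)) (Nat.ble 24 i)) (Nat.ble 16 i)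
def wAF : Nat → List Nat
  | 11 => [9, 10]
  | 12 => [11]
  | 13 => [2]
  | 14 => []
  | 15 => [9, 8]
  | 16 => [6]
  | 17 => []
  | 18 => []
  | 19 => []
  | 20 => [8, 16, 5, 4, 3, 2]
  | 21 => [20]
  | 22 => [3]
  | 23 => [22]
  | 24 => [5, 4, 23, 0, 4, 3, 22]
  | 25 => [24]
  | 26 => [8, 9]
  | 27 => [26]
  | 28 => [5]
  | 29 => [28]
  | 30 => [9]
  | 31 => [27]
  | 32 => [31]
  | _ => []
def wBF : Nat → List Nat
  | 11 => [1, 9, 10]
  | 12 => []
  | 13 => [7, 2]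
  | 14 => [8]
  | 15 => [3, 9, 8]
  | 16 => [13, 6]
  | 17 => [4]
  | 18 => [5]
  | 19 => [9]
  | 20 => [1, 8, 16, 5, 4, 3, 2]
  | 21 => []
  | 22 => [20, 3]
  | 23 => []
  | 24 => [15, 5, 4, 23, 0]
  | 25 => []
  | 26 => [16, 8]
  | 27 => []
  | 28 => [24, 5]
  | 29 => []
  | 30 => [29]
  | 31 => [30, 26]
  | 32 => []
  | _ => []
noncomputable def ptF (j idx : Nat) : Nat := Nat.land (nodeTab (Nat.add (offTab j) idx)) 15
noncomputable def parF (j idx : Nat) : Nat := Nat.land (Nat.shiftRight (nodeTab (Nat.add (offTab j) idx)) 4) 15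
noncomputable def giF (j idx : Nat) : Nat := Nat.land (Nat.shiftRight (nodeTab (Nat.add (offTab j) idx)) 8) 63
noncomputable def depF (j idx : Nat) : Nat := Nat.shiftRight (nodeTab (Nat.add (offTab j) idx)) 14

noncomputable def S : Sgs :=
  { N := 12, k := 11, m := 33, tab := tabF, wA := wAF, wB := wBF, lev := levTab, r := 10, beta := betaTab,
    n := nTab, root := rootTab, pt := ptF, par := parF, gi := giF, dep := depF }

noncomputable def chk11 (p : Nat) : Bool := band (Nat.ble (Nat.succ (st11 p)) 12) (Nat.beq (col9 (col10 (st11 p))) (col0 (col9 (col10 p))))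
theorem chk11_eq (p : Nat) : chk11 p = Sgs.permOK S 11 p := rfl
noncomputable def chk12 (p : Nat) : Bool := band (Nat.ble (Nat.succ (st12 p)) 12) (Nat.beq (st11 (st12 p)) p)
theorem chk12_eq (p : Nat) : chk12 p = Sgs.permOK S 12 p := rfl
noncomputable def chk13 (p : Nat) : Bool := band (Nat.ble (Nat.succ (st13 p)) 12) (Nat.beq (col2 (st13 p)) (col7 (col2 p)))
theorem chk13_eq (p : Nat) : chk13 p = Sgs.permOK S 13 p := rfl
noncomputable def chk14 (p : Nat) : Bool := band (Nat.ble (Nat.succ (st14 p)) 12) (Nat.beq (st14 p) (col8 p))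
theorem chk14_eq (p : Nat) : chk14 p = Sgs.permOK S 14 p := rfl
noncomputable def chk15 (p : Nat) : Bool := band (Nat.ble (Nat.succ (st15 p)) 12) (Nat.beq (col9 (col8 (st15 p))) (col3 (col9 (col8 p))))
theorem chk15_eq (p : Nat) : chk15 p = Sgs.permOK S 15 p := rfl
noncomputable def chk16 (p : Nat) : Bool := band (Nat.ble (Nat.succ (st16 p)) 12) (Nat.beq (col6 (st16 p)) (st13 (col6 p)))
theorem chk16_eq (p : Nat) : chk16 p = Sgs.permOK S 16 p := rfl
noncomputable def chk17 (p : Nat) : Bool := band (Nat.ble (Nat.succ (st17 p)) 12) (Nat.beq (st17 p) (col4 p))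
theorem chk17_eq (p : Nat) : chk17 p = Sgs.permOK S 17 p := rfl
noncomputable def chk18 (p : Nat) : Bool := band (Nat.ble (Nat.succ (st18 p)) 12) (Nat.beq (st18 p) (col5 p))
theorem chk18_eq (p : Nat) : chk18 p = Sgs.permOK S 18 p := rfl
noncomputable def chk19 (p : Nat) : Bool := band (Nat.ble (Nat.succ (st19 p)) 12) (Nat.beq (st19 p) (col9 p))
theorem chk19_eq (p : Nat) : chk19 p = Sgs.permOK S 19 p := rfl
noncomputable def chk20 (p : Nat) : Bool := band (Nat.ble (Nat.succ (st20 p)) 12) (Nat.beq (col8 (st16 (col5 (col4 (col3 (col2 (st20 p))))))) (col0 (col8 (st16 (col5 (col4 (col3 (col2 p))))))))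
theorem chk20_eq (p : Nat) : chk20 p = Sgs.permOK S 20 p := rfl
noncomputable def chk21 (p : Nat) : Bool := band (Nat.ble (Nat.succ (st21 p)) 12) (Nat.beq (st20 (st21 p)) p)
theorem chk21_eq (p : Nat) : chk21 p = Sgs.permOK S 21 p := rfl
noncomputable def chk22 (p : Nat) : Bool := band (Nat.ble (Nat.succ (st22 p)) 12) (Nat.beq (col3 (st22 p)) (st20 (col3 p)))
theorem chk22_eq (p : Nat) : chk22 p = Sgs.permOK S 22 p := rfl
noncomputable def chk23 (p : Nat) : Bool := band (Nat.ble (Nat.succ (st23 p)) 12) (Nat.beq (st22 (st23 p)) p)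
theorem chk23_eq (p : Nat) : chk23 p = Sgs.permOK S 23 p := rfl
noncomputable def chk24 (p : Nat) : Bool := band (Nat.ble (Nat.succ (st24 p)) 12) (Nat.beq (col5 (col4 (st23 (col1 (col4 (col3 (st22 (st24 p)))))))) (st15 (col5 (col4 (st23 (col1 p))))))
theorem chk24_eq (p : Nat) : chk24 p = Sgs.permOK S 24 p := rfl
noncomputable def chk25 (p : Nat) : Bool := band (Nat.ble (Nat.succ (st25 p)) 12) (Nat.beq (st24 (st25 p)) p)
theorem chk25_eq (p : Nat) : chk25 p = Sgs.permOK S 25 p := rfl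
noncomputable def chk26 (p : Nat) : Bool := band (Nat.ble (Nat.succ (st26 p)) 12) (Nat.beq (col8 (col9 (st26 p))) (st16 (col8 p)))
theorem chk26_eq (p : Nat) : chk26 p = Sgs.permOK S 26 p := rfl
noncomputable def chk27 (p : Nat) : Bool := band (Nat.ble (Nat.succ (st27 p)) 12) (Nat.beq (st26 (st27 p)) p)
theorem chk27_eq (p : Nat) : chk27 p = Sgs.permOK S 27 p := rfl
noncomputable def chk28 (p : Nat) : Bool := band (Nat.ble (Nat.succ (st28 p)) 12) (Nat.beq (col5 (st28 p)) (st24 (col5 p)))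
theorem chk28_eq (p : Nat) : chk28 p = Sgs.permOK S 28 p := rfl
noncomputable def chk29 (p : Nat) : Bool := band (Nat.ble (Nat.succ (st29 p)) 12) (Nat.beq (st28 (st29 p)) p)
theorem chk29_eq (p : Nat) : chk29 p = Sgs.permOK S 29 p := rfl
noncomputable def chk30 (p : Nat) : Bool := band (Nat.ble (Nat.succ (st30 p)) 12) (Nat.beq (col9 (st30 p)) (st29 p))
theorem chk30_eq (p : Nat) : chk30 p = Sgs.permOK S 30 p := rfl
noncomputable def chk31 (p : Nat) : Bool := band (Nat.ble (Nat.succ (st31 p)) 12) (Nat.beq (st27 (st31 p)) (st30 (st26 p)))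
theorem chk31_eq (p : Nat) : chk31 p = Sgs.permOK S 31 p := rfl
noncomputable def chk32 (p : Nat) : Bool := band (Nat.ble (Nat.succ (st32 p)) 12) (Nat.beq (st31 (st32 p)) p)
theorem chk32_eq (p : Nat) : chk32 p = Sgs.permOK S 32 p := rfl

end Cfsg.Agent.Lib.Helper4.TCD.A12pL
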