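namespace Cfsg.Agent.Lib.Helper4.TCD.A12pU2

noncomputable def Atab_0 : Nat := nat_lit 0x2b36028403a25230
noncomputable def Btab_0 : Nat := nat_lit 0xea91460086
noncomputable def Ptab_0 : Nat := nat_lit 0x309a3298ab
noncomputable def RRtab_0 : Nat := nat_lit 0x34d49204120828a28a28a2492524a0812481048210410410400000492
noncomputable def rBtab_0 : Nat := nat_lit 0x244480f182a4c88f1a2c28200
noncomputable def rLtab_0 : Nat := nat_lit 0x124b349259a
noncomputable def nameTab_0 : Nat := nat_lit 0xb4
noncomputable def col0_0 : Nat := nat_lit 0x9c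
noncomputable def col1_0 : Nat := nat_lit 0x78
noncomputable def col2_0 : Nat := nat_lit 0xb1
noncomputable def finTab_0 : Nat := nat_lit 0x895f071c66209ac
noncomputable def clsTab_0 : Nat := nat_lit 0xb4

end Cfsg.Agent.Lib.Helper4.TCD.A12pU2
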