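namespace Cfsg.Agent.Lib.Helper4.TCD.A12pU3

noncomputable def Atab_0 : Nat := nat_lit 0x3709c170d2024800020070180500620689132100
noncomputable def Btab_0 : Nat := nat_lit 0x8b516550522f2d211345090b010a
noncomputable def Ptab_0 : Nat := nat_lit 0x2191c811714720710254314248344d
noncomputable def RRtab_0 : Nat := nat_lit 0x28281616333322220101101013131313121212121212111111333323232323232322227272505033332222010110103030303020202020202000000033333232323232322222
noncomputable def rBtab_0 : Nat := nat_lit 0x8884807c78746c605a564a46423e3a36322e261a14100400
noncomputable def rLtab_0 : Nat := nat_lit 0x4924a66b24924a66b2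
noncomputable def nameTab_0 : Nat := nat_lit 0x3888
noncomputable def col0_0 : Nat := nat_lit 0x3508
noncomputable def col1_0 : Nat := nat_lit 0x28c8
noncomputable def col2_0 : Nat := nat_lit 0x3850
noncomputable def col3_0 : Nat := nat_lit 0x3881
noncomputable def finTab_0 : Nat := nat_lit 0x7dd1db79c6896052060c45d60944d2
noncomputable def clsTab_0 : Nat := nat_lit 0x3888

end Cfsg.Agent.Lib.Helper4.TCD.A12pU3
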