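import Cfsg.Agent.Lib.Helper4.TC7
import Cfsg.Agent.Lib.Helper4.TC8
import Cfsg.Agent.Lib.Helper4.TCP_A12p
import Cfsg.Agent.Lib.Helper4.TCD_A12pU3_D0

namespace Cfsg.Agent.Lib.Helper4.TCD.A12pU3

open Cfsg.Agent.Lib.Helper4.TC

set_option maxRecDepth 100000

noncomputable def Atab (i : Nat) : Nat := rdw 10 1023 Atab_0 i
noncomputable def Btab (i : Nat) : Nat := rdw 16 65535 Btab_0 i
noncomputable def Ptab (i : Nat) : Nat := rdw 6 63 Ptab_0 i
noncomputable def RRtab (i : Nat) : Nat := rdw 4 15 RRtab_0 i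
noncomputable def rBtab (i : Nat) : Nat := rdw 8 255 rBtab_0 i
noncomputable def rLtab (i : Nat) : Nat := rdw 3 7 rLtab_0 i
noncomputable def nameTab (i : Nat) : Nat := rdw 3 7 nameTab_0 i
noncomputable def col0 (i : Nat) : Nat := rdw 3 7 col0_0 i
noncomputable def col1 (i : Nat) : Nat := rdw 3 7 col1_0 i
noncomputable def col2 (i : Nat) : Nat := rdw 3 7 col2_0 i
noncomputable def col3 (i : Nat) : Nat := rdw 3 7 col3_0 i
noncomputable def finTab (i : Nat) : Nat := rdw 6 63 finTab_0 i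
noncomputable def clsTab (i : Nat) : Nat := rdw 3 7 clsTab_0 i
noncomputable def srcF (t : Nat) : Nat := Nat.land (Atab t) 7
noncomputable def tgtF (t : Nat) : Nat := Nat.land (Nat.shiftRight (Atab t) 3) 7
noncomputable def ltF (t : Nat) : Nat := Nat.shiftRight (Atab t) 6
noncomputable def rhoF (t : Nat) : Nat := Nat.land (Btab (Nat.sub t 9)) 31
noncomputable def rotF (t : Nat) : Nat := Nat.land (Nat.shiftRight (Btab (Nat.sub t 9)) 5) 7
noncomputable def lenF (t : Nat) : Nat := Nat.land (Nat.shiftRight (Btab (Nat.sub t 9)) 8) 7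
noncomputable def offF (t : Nat) : Nat := Nat.shiftRight (Btab (Nat.sub t 9)) 11
noncomputable def pfF (j : Nat) : Nat := Nat.shiftRight (Ptab j) 1
noncomputable def pdF (j : Nat) : Nat := Nat.land (Ptab j) 1
noncomputable def tblF (i x : Nat) : Nat := @Bool.rec (fun _ => Nat) (@Bool.rec (fun _ => Nat) (col0 i) (col1 i) (Nat.ble 1 x)) (@Bool.rec (fun _ => Nat) (col2 i) (col3 i) (Nat.ble 3 x)) (Nat.ble 2 x)
noncomputable def finE (i x : Nat) : Nat := finTab (Nat.add (Nat.mul i 4) x)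
noncomputable def finFF (i x : Nat) : Nat := Nat.shiftRight (finE i x) 1
noncomputable def finDF (i x : Nat) : Nat := Nat.land (finE i x) 1

def invLoc : ℕ → ℕ
  | 0 => 1
  | 1 => 0
  | l => l
def emb : List Nat := [0, 1, 2, 3]
noncomputable def D : Log :=
  { k := 4, inv := invE 4 invLoc, nR := 24, rBase := rBtab, rLen := rLtab, RR := RRtab,
    M := 5, nB := 4, F := 16, src := srcF, lt := ltF, tgt := tgtF, rho := rhoF, rot := rotF,
    off := offF, len := lenF, pf := pfF, pd := pdF }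

noncomputable def T : Tab :=
  { N := 5, nameOf := nameTab, tbl := tblF, finF := finFF, finD := finDF, cls := clsTab }

def subs : List (List Nat) := [
[0], [2] ]

def realLoc : List (List Nat) := [
  [2, 2],
  [2, 3, 2, 3, 2, 3],
  [3, 3],
  [0, 0, 0],
  [0, 2, 0, 2, 0, 2],
  [0, 3, 0, 3] ]

end Cfsg.Agent.Lib.Helper4.TCD.A12pU3
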