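namespace Cfsg.Agent.Lib.Helper4.TCD.A12pU4

noncomputable def Atab_0 : Nat := nat_lit 0x125394a51951b36c1244809224c020000b028090200701801ac23268d142140
noncomputable def Btab_0 : Nat := nat_lit 0x2369b81a69ba9965161664246904e6882691066890da08221104840020f
noncomputable def Ptab_0 : Nat := nat_lit 0x2a924a9c928694724a2468c71847c51c480510274314260309b0d74cf
noncomputable def RRtab_0 : Nat := nat_lit 0x3b3b2929171744443333222201011010141414141313131312121212121211111144443434343434343333242424242323232323232222a3a38282606044443333222201011010404040403030303020202020202000000044444343434343433333424242423232323232322222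
noncomputable def rBtab_0 : Nat := nat_lit 0xd8d4d0ccc8c4c0bcb4aca09a968a867e726e6a66625e5a56524e463e322c281c18100400
noncomputable def rLtab_0 : Nat := nat_lit 0x492492933594c924924a4cd6532
noncomputable def nameTab_0 : Nat := nat_lit 0x25688
noncomputable def col0_0 : Nat := nat_lit 0x23a88
noncomputable def col1_0 : Nat := nat_lit 0x1d888
noncomputable def col2_0 : Nat := nat_lit 0x254c8
noncomputable def col3_0 : Nat := nat_lit 0x25650
noncomputable def col4_0 : Nat := nat_lit 0x25681
noncomputable def finTab_0 : Nat := nat_lit 0xc6fb49af0baca8ba261ca2221469640c47a180271a658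
noncomputable def clsTab_0 : Nat := nat_lit 0x25688

end Cfsg.Agent.Lib.Helper4.TCD.A12pU4
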