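namespace Cfsg.Agent.Lib.Helper4.TCD.A12pU5

noncomputable def Atab_0 : Nat := nat_lit 0x5b92e3b8ae1b964490e406d5b46c1254892024c9225003008000380d0300b028090200700740b0a33691152180
noncomputable def Btab_0 : Nat := nat_lit 0x3b6a7e1a9b56a5c2a92e463ad90e86428e906068c759198a4555a350a4835a08a68e1da1846830c8602217048580215
noncomputable def Ptab_0 : Nat := nat_lit 0x63d1631d8b18e458c10dc48b182c4351221989101968712198070cbc38608a428708a82840494185089c2823c0c12306090833a64a91
noncomputable def RRtab_0 : Nat := nat_lit 0x4e4e3c3c2a2a18185555444433332222010110101515151514141414131313131212121212121111115555454545454545444435353535343434343434333325252525242424242323232323232222d4d4b3b3929270705555444433332222010110105050505040404040303030302020202020200000005555545454545454444453535353434343434343333352525252424242423232323232322222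
noncomputable def rBtab_0 : Nat := nat_lit 0x27134984b2512490472311486411f8f075399b4d6673097cb6572893c9a4b2491c8a43208fc7a3b1b8cc5e29130903c1c0c048200c0400800
noncomputable def rLtab_0 : Nat := nat_lit 0x124924929266b2994992492492524cd6532932
noncomputable def nameTab_0 : Nat := nat_lit 0x174688
noncomputable def col0_0 : Nat := nat_lit 0x166688
noncomputable def col1_0 : Nat := nat_lit 0x135688
noncomputable def col2_0 : Nat := nat_lit 0x173888
noncomputable def col3_0 : Nat := nat_lit 0x1744c8
noncomputable def col4_0 : Nat := nat_lit 0x174650
noncomputable def col5_0 : Nat := nat_lit 0x174681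
noncomputable def finTab_0 : Nat := nat_lit 0x23c587045bf8d121407c35e3a702460a68c83886ed97050cb18b0061142656a81244480f9e
noncomputable def clsTab_0 : Nat := nat_lit 0x174688

end Cfsg.Agent.Lib.Helper4.TCD.A12pU5
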