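namespace Cfsg.Agent.Lib.Helper4.TCD.A12pU6

noncomputable def Atab_0 : Nat := nat_lit 0x1b72ee4dc7b8b70ee6b4b692d1da090d216424806ccd95b136048c90d2124024848c9112500800c010000220400780e01a0300580a01202000fa0d4560e3234544c41c0
noncomputable def Btab_0 : Nat := nat_lit 0xb2d35acd34a6d33a0d3297531928b08cc8486c8380c827748170d116ac8864c875b48654d124ec8b4548a3ed0238d132f48d28d0722d031cd1416d0b10d080ad04084200641f0441e0241d0041c
noncomputable def Ptab_0 : Nat := nat_lit 0x1d5468ea6347511a3a78d1c2a68b1a3868a962c549162a38b1421f891622209110c4888224406721c486781c33b0e182330a1c3370e11a0508096830a1188508bc282480c12b0609483049c1a33e6cb93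
noncomputable def RRtab_0 : Nat := nat_lit 0x2c4b123c8f1b46d12c4b0a429318c6294a52108418c6310842004010802009826098260942509425090240902408c2308c2308822088220882208421084c6318a6298a6298a6298a5294862188621885214852148521484210661986619865194651946419064190641906318c4611846118451144511444110441104310c4310c4310c4210a05815c47118360d4250900400c6318a5294842106318c421080100420080c0300c0300a0280a0280802008020060180601804010040100401000000000318c6314c5314c5314c5294a5310c4310c4290a4290a4290a42108430cc330cc328ca328ca320c8320c8320c8318c63308c2308c2288a2288a2208822088218862188621886210842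
noncomputable def rBtab_0 : Nat := nat_lit 0x351a4d06733194c86331184c05f2e96cb2572a14aa34ea6d2e9147a2d0e813f9ecee73369acd2673298cc25f2e96cb2572a94c9e4b2390c7a3a1c0c8602c13090401c0b050200c0400800
noncomputable def rLtab_0 : Nat := nat_lit 0x124924924a4933594ca4ca49924924924949266b2994994932
noncomputable def nameTab_0 : Nat := nat_lit 0xdec688
noncomputable def col0_0 : Nat := nat_lit 0xd7c688
noncomputable def col1_0 : Nat := nat_lit 0xbf4688
noncomputable def col2_0 : Nat := nat_lit 0xde5688
noncomputable def col3_0 : Nat := nat_lit 0xdeb888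
noncomputable def col4_0 : Nat := nat_lit 0xdec4c8
noncomputable def col5_0 : Nat := nat_lit 0xdec650
noncomputable def col6_0 : Nat := nat_lit 0xdec681
noncomputable def finTab_0 : Nat := nat_lit 0xc37eedbb236be0bd72d58ac3ea52a13858e192a446122a6cc85003887d1623a0a19c367af018464c1735680962a50992a4
noncomputable def clsTab_0 : Nat := nat_lit 0xdec688

end Cfsg.Agent.Lib.Helper4.TCD.A12pU6
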