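namespace Cfsg.Agent.Lib.Helper4.TCD.A12pU7

noncomputable def Atab_0 : Nat := nat_lit 0x3bc19e0af04781bc09e02f076633315988cc36602a9d54caa55522a8110e886442a209100667333198ccc466022391108864422200894448223111089800a00400180080000140098048022010007803801a00c00580280120018603b09946a84432991884e20800
noncomputable def Btab_0 : Nat := nat_lit 0x3eb515e9a88eed43746a138b505b2a80d48bf67642b2321185906bcc8259a40ab345d4d914a0c894d64424521d15a3084c8e3f6469d5230dda0468d1931648965240a5a104cd032368d0f524c6da1a30d091568209346c3da2218d0e096850334141485208428032138110980484a00424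
noncomputable def Ptab_0 : Nat := nat_lit 0x10710f106f0f106d0f106b0f10690f100c670d0f100f0c650d0c630d0c610d0c5f0d0c0a550b0d0a5c0b0a5b0b0a590b0a570b0a084d090b085209085109084f090806450709084b0906480706470706043d0507064307064107043e050402350305043b05043905043705022a03023303023103022f03022d032925211d1915
noncomputable def RRtab_0 : Nat := nat_lit 0x350d42c8b2240901b86e1304c0a82a39ce7318c6294a52108418c6310842004010802009c2709c2709826098260942509425090240902408c2308c2308822088220882208421084e739cc731cc731cc731cc6318a729ca729ca6298a6298a6298a52948721c8721c8621886218852148521485214842106719c6719c661986619865194651946419064190641906318c4711c4711c4611846118451144511444110441104310c4310c4310c4210a6699a25895e4791a368d6258920480e739cc6318a5294842106318c421080100420080e0380e0380c0300c0300a0280a028080200802006018060180401004010040100000000039ce7398e6398e6398e6318c6394e5394e5314c5314c5314c5294a5390e4390e4310c4310c4290a4290a4290a42108438ce338ce330cc330cc328ca328ca320c8320c8320c8318c63388e2388e2308c2308c2288a2288a2208822088218862188621886210842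
noncomputable def rBtab_0 : Nat := nat_lit 0x8a2248821c862148420c82204801fc7e1f47b1e4771d4731c06e9b66a9a667992639865f9725b96657956529464f9364b926469164490e42906408fe3e8f63c8ee3a8e6388de358ce318be2d8aa290a0250902207c1e0701a05c16050120400d0300a0200601001000
noncomputable def rLtab_0 : Nat := nat_lit 0x4924924924a49266b2994994932924c9249249249292499aca6526524ca4932
noncomputable def nameTab_0 : Nat := nat_lit 0x786543210
noncomputable def col0_0 : Nat := nat_lit 0x768543210
noncomputable def col1_0 : Nat := nat_lit 0x687543210
noncomputable def col2_0 : Nat := nat_lit 0x785643210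
noncomputable def col3_0 : Nat := nat_lit 0x786453210
noncomputable def col4_0 : Nat := nat_lit 0x786534210
noncomputable def col5_0 : Nat := nat_lit 0x786542310
noncomputable def col6_0 : Nat := nat_lit 0x786543120
noncomputable def col7_0 : Nat := nat_lit 0x786543201
noncomputable def finTab_0 : Nat := nat_lit 0x7f7d7b7977750f737e7c7a7876747211706e6c6a680d100e6462605e0b0c67665a5856090a545d5c504e07084c4a5352460506444240494803043c3a38363f3e023432302e2c2b2a
noncomputable def clsTab_0 : Nat := nat_lit 0x786543210

end Cfsg.Agent.Lib.Helper4.TCD.A12pU7
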