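namespace Cfsg.Agent.Lib.Helper4.TCD.A12pU8

noncomputable def Atab_0 : Nat := nat_lit 0x8893c49a24b124891c48a243128773bb99dcaee4771bb81990cc76633315988cc05542a9d54caa55512a81110887443220d104880334199ccc86633311980890445222110c8844401130894448223111089c00c005002000c00400000b805802a0140098048022010007803801a00c00580280032e08713b0d948a85433191c85020900
noncomputable def Btab_0 : Nat := nat_lit 0x14ed57a46ab50b55679aa936d53986a949d546451a11cc868b642c432121590704c827da40bd3479dd918e8c8b71645373225a6910ccd1f63648b032417591eb148e556812934813d92a98c9447a49a2342505a067cd213b64c1b525ccda1e60d0a2d6821534889693444d141f6880e342c65a0a2cd231368c08345435a2214d0c076830310cc1486408431032180110bc0485c0042d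
noncomputable def Ptab_0 : Nat := nat_lit 0x129111128f11128d11128b11128911128711120e850f1112110e830f0e810f0e7f0f0e7d0f0e7b0f0e0c6f0d0f0c780d0c770d0c750d0c730d0c710d0c0a650b0d0a6c0b0a6b0b0a690b0a670b0a085b090b0a630b086009085f09085d0908065107090859090857090654070653070604470507064f07064d07064b0704480504023d0305044505044305044105043f05023003023b030239030237030235030233032f2b27231f1b17
noncomputable def RRtab_0 : Nat := nat_lit 0x3dcf7354d52ccb3244911bc6f1344d0ac2b4210839ce7318c6294a52108418c631084200401080200a0280a02809c2709c2709826098260942509425090240902408c2308c230882208822088220842108508420e83a0e83a0e83a0e739cc8320c8320c731cc731cc731cc6318a82a0a82a0a729ca729ca6298a6298a6298a529488220882208721c8721c862188621885214852148521484210681a0681a06719c6719c661986619865194651946419064190641906318c48120481204711c4711c4611846118451144511444110441104310c4310c4310c4210ac7b1e86a1a4591604811c370d826094050108420e739cc6318a5294842106318c4210801004200810040100400e0380e0380c0300c0300a0280a02808020080200601806018040100401004010000000004210841d0741d0741d0739ce74190641906398e6398e6398e6318c64150541505394e5394e5314c5314c5314c5294a54110441104390e4390e4310c4310c4290a4290a4290a42108440d0340d0338ce338ce330cc330cc328ca328ca320c8320c8320c8318c634090240902388e2388e2308c2308c2288a2288a2208822088218862188621886210842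
noncomputable def rBtab_0 : Nat := nat_lit 0xae2b4ac2acaa2a4a829ca6294a428ca2284a027c9d26c9925c9524c9023a8da2a89a1e84a0e819fe7c9ee799de759ca719be6d9ae6999a6598e6197e5d96e5895e569565494e529465093e4e9364c92e4a9264891e4590e418fe3d8ee388dc360cc320c02d0b02a0a025090220801e06c1a060160501203c0e0300a0200601001000
noncomputable def rLtab_0 : Nat := nat_lit 0x492492492492924933594ca4ca4994926524932492492492492924933594ca4ca4994926524932
noncomputable def nameTab_0 : Nat := nat_lit 0x8976543210
noncomputable def col0_0 : Nat := nat_lit 0x8796543210
noncomputable def col1_0 : Nat := nat_lit 0x7986543210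
noncomputable def col2_0 : Nat := nat_lit 0x8967543210
noncomputable def col3_0 : Nat := nat_lit 0x8975643210
noncomputable def col4_0 : Nat := nat_lit 0x8976453210
noncomputable def col5_0 : Nat := nat_lit 0x8976534210
noncomputable def col6_0 : Nat := nat_lit 0x8976542310
noncomputable def col7_0 : Nat := nat_lit 0x8976543120
noncomputable def col8_0 : Nat := nat_lit 0x8976543201
noncomputable def finTab_0 : Nat := nat_lit 0xa19f9d9b9997951193a09e9c9a9896949213908e8c8a88860f121082807e7c7a0d0e8584767472700b0c6e79786a6866090a64626d6c5e5c07085a58566160520506504e4c4a55540304464442403e4948023c3a383634323130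
noncomputable def clsTab_0 : Nat := nat_lit 0x8976543210

end Cfsg.Agent.Lib.Helper4.TCD.A12pU8
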