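namespace Cfsg.Agent.Lib.Helper4.TCD.A12pU9

noncomputable def Atab_0 : Nat := nat_lit 0x4cd2268f3469a2cd126873429a0cd2621110788344162091038803ba5dd0ee77733b95dc8ee0664b32198ecc6662b309980aa95542a9d54caa35512a81112888443a21110688244019a4cd0665332198ccc4660224911888a4442219108880227113089444822311108a000e0060028010006002000006803201800b805802a0140098048022010007803801a00c0058006a01302871bb1194aa86433992085220a00
noncomputable def Btab_0 : Nat := nat_lit 0x1aed6bd46b568b5a739ad196d67c86b362b59702ac97c8e3bb643dc321ad590b64c84af641d6320a9e90348d26a16474f32366d91930c8b9564548522635a4f14c9487649c2324a05922f9490796813b34a1cd932e0c986d64bb4525995a14c4d035f694ae327565938a949b51688a7342d2da0890d2a4565020527cf5a2e74d12376861a3414c5a56594a22968e1334608da2640d0d1d6830d34b05da4028d1d1168c8734502da1c10d070721f0310f4148780843b0321d0110e40487000437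
noncomputable def Ptab_0 : Nat := nat_lit 0x14b51314b31314b11314af1314ad1314ab1314a9131410a71113141310a51110a31110a111109f11109d11109b11100e8d0f110e980f0e970f0e950f0e930f0e910f0e8f0f0e0c810d0f0c8a0d0c890d0c870d0c850d0c830d0c0a750b0d0c7f0d0a7c0b0a7b0b0a790b0a770b0a0869090b0a730b0a710b086e09086d09086b0908065d0709086709086509086309066007065f070604510507065b070659070657070655070452050402450305044f05044d05044b05044905044705023603024303024103023f03023d03023b0302390335312d2925211d19
noncomputable def RRtab_0 : Nat := nat_lit 0x4691a3e0f8358d62d0b4248921c0701384e0b02c4a5294210839ce7318c6294a52108418c631084200401080200a4290a4290a0280a02809c2709c2709826098260942509425090240902408c2308c2308822088220882208421085294a509425094250942508420e93a4e93a4e83a0e83a0e83a0e739cc9324c9324c8320c8320c731cc731cc731cc6318a92a4a92a4a82a0a82a0a729ca729ca6298a6298a6298a5294892248922488220882208721c8721c862188621885214852148521484210691a4691a4681a0681a06719c6719c661986619865194651946419064190641906318c491244912448120481204711c4711c4611846118451144511444110441104310c4310c4310c4210b28ca2e7b9ea6a9a6599624891e378da268960581294a508420e739cc6318a5294842106318c42108010042008120481204810040100400e0380e0380c0300c0300a0280a02808020080200601806018040100401004010000000004a5294a1284a1284a1284210849d2749d2741d0741d0741d0739ce749926499264190641906398e6398e6398e6318c649525495254150541505394e5394e5314c5314c5314c5294a549124491244110441104390e4390e4310c4310c4290a4290a4290a42108448d2348d2340d0340d0338ce338ce330cc330cc328ca328ca320c8320c8320c8318c6348922489224090240902388e2388e2308c2308c2288a2288a2208822088218862188621886210842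
noncomputable def rBtab_0 : Nat := nat_lit 0xd6354d434cd2344d033cce334cc32cca324c831cc6314c3304bf2f4bb2e4b72d0b2ac6aeab6abaa2a7a96a3a829fa769ba6696a5693a468fa368aa2687a1683a067f9f27b9e6779d6739c66f9b26b9aa699a26799a659926398a619825f97a5d9725b96a5995e5594e5193e4d92e4891c4610c421003d0f03a0e0350d0320c02e0ac2a0a0260902207c1e0701a06016050110400e0300a0200601001000
noncomputable def rLtab_0 : Nat := nat_lit 0x124924924924929249266b2994994932924ca4926524926492492492492494924933594ca4ca4994926524932924932
noncomputable def nameTab_0 : Nat := nat_lit 0x9a876543210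
noncomputable def col0_0 : Nat := nat_lit 0x98a76543210
noncomputable def col1_0 : Nat := nat_lit 0x8a976543210
noncomputable def col2_0 : Nat := nat_lit 0x9a786543210
noncomputable def col3_0 : Nat := nat_lit 0x9a867543210
noncomputable def col4_0 : Nat := nat_lit 0x9a875643210
noncomputable def col5_0 : Nat := nat_lit 0x9a876453210
noncomputable def col6_0 : Nat := nat_lit 0x9a876534210
noncomputable def col7_0 : Nat := nat_lit 0x9a876542310
noncomputable def col8_0 : Nat := nat_lit 0x9a876543120
noncomputable def col9_0 : Nat := nat_lit 0x9a876543201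
noncomputable def finTab_0 : Nat := nat_lit 0xc7c5c3c1bfbdbbb913b7c6c4c2c0bebcbab8b615b4b2b0aeacaaa8111412a4a2a09e9c9a0f10a7a6969492908e0d0e8c9998888684820b0c807e8b8a7a7876090a7472707d7c6c6a0708686664626f6e5e05065c5a58565461600304504e4c4a48465352024442403e3c3a383736
noncomputable def clsTab_0 : Nat := nat_lit 0x9a876543210

end Cfsg.Agent.Lib.Helper4.TCD.A12pU9
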