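namespace Cfsg.Agent.Lib.Helper4.TCD.A6pA

noncomputable def Atab_0 : Nat := nat_lit 0x13b00ec161c18713180c62004c2043250654089004422104e463512b433c60a254012f03b48ec032c0452110023000200070018005000a0907a49c8069c9860598d452494104338c8c302888810184c402081000
noncomputable def Btab_0 : Nat := nat_lit 0x6e101760809a8405d020265181710c0980406bc203db189ac0c4954626872d1c0189da318492083423121752307a0d230621161100a088038c42182200a1100218840844000208
noncomputable def Ptab_0 : Nat := nat_lit 0x846a1376d0cdc39d00b17833e5040b2c94d1a2a5875d241c6202012a0aba31010095055d1880804762ae384042c1eda198650490a34d0c328248abd404852e10b07b42cf9cb942f0a3108ac1871a51884521581574809153c68c0c1e585080414325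
noncomputable def RRtab_0 : Nat := nat_lit 0x20203313820203313816162323323201011010133133133133133133133133133133131313131313131313133333333311117202213137202213135050232332320101101022022022022022022022022022022020202020202020202020222222220000
noncomputable def rBtab_0 : Nat := nat_lit 0xb6b2aeaaa6a284706864524e4a46423e200c0400
noncomputable def rLtab_0 : Nat := nat_lit 0x922222fa42922222fa42
noncomputable def nameTab_0 : Nat := nat_lit 0xec30c20
noncomputable def col0_0 : Nat := nat_lit 0x25650
noncomputable def col1_0 : Nat := nat_lit 0x25650
noncomputable def col2_0 : Nat := nat_lit 0x158c1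
noncomputable def col3_0 : Nat := nat_lit 0x23541
noncomputable def finTab_0 : Nat := nat_lit 0x6a3ed5832d2f5c1a62b541c303ac0749686a0095aa
noncomputable def clsTab_0 : Nat := nat_lit 0x4664758ad0448
noncomputable def oparTab_0 : Nat := nat_lit 0x23240
noncomputable def olabTab_0 : Nat := nat_lit 0x140

end Cfsg.Agent.Lib.Helper4.TCD.A6pA
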