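import Cfsg.Agent.Lib.Helper4.TC7
import Cfsg.Agent.Lib.Helper4.TCP_A6p
import Cfsg.Agent.Lib.Helper4.TCD_A6pA_D0

namespace Cfsg.Agent.Lib.Helper4.TCD.A6pA

open Cfsg.Agent.Lib.Helper4.TC

set_option maxRecDepth 100000

noncomputable def Atab (i : Nat) : Nat := rdw 14 16383 Atab_0 i
noncomputable def Btab (i : Nat) : Nat := rdw 21 2097151 Btab_0 i
noncomputable def Ptab (i : Nat) : Nat := rdw 7 127 Ptab_0 i
noncomputable def RRtab (i : Nat) : Nat := rdw 4 15 RRtab_0 i
noncomputable def rBtab (i : Nat) : Nat := rdw 8 255 rBtab_0 i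
noncomputable def rLtab (i : Nat) : Nat := rdw 4 15 rLtab_0 i
noncomputable def nameTab (i : Nat) : Nat := rdw 5 31 nameTab_0 i
noncomputable def col0 (i : Nat) : Nat := rdw 3 7 col0_0 i
noncomputable def col1 (i : Nat) : Nat := rdw 3 7 col1_0 i
noncomputable def col2 (i : Nat) : Nat := rdw 3 7 col2_0 i
noncomputable def col3 (i : Nat) : Nat := rdw 3 7 col3_0 i
noncomputable def finTab (i : Nat) : Nat := rdw 7 127 finTab_0 i
noncomputable def clsTab (i : Nat) : Nat := rdw 3 7 clsTab_0 i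
noncomputable def oparTab (i : Nat) : Nat := rdw 3 7 oparTab_0 i
noncomputable def olabTab (i : Nat) : Nat := rdw 2 3 olabTab_0 i
noncomputable def srcF (t : Nat) : Nat := Nat.land (Atab t) 31
noncomputable def tgtF (t : Nat) : Nat := Nat.land (Nat.shiftRight (Atab t) 5) 31
noncomputable def ltF (t : Nat) : Nat := Nat.shiftRight (Atab t) 10
noncomputable def rhoF (t : Nat) : Nat := Nat.land (Btab (Nat.sub t 21)) 31
noncomputable def rotF (t : Nat) : Nat := Nat.land (Nat.shiftRight (Btab (Nat.sub t 21)) 5) 15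
noncomputable def lenF (t : Nat) : Nat := Nat.land (Nat.shiftRight (Btab (Nat.sub t 21)) 9) 31
noncomputable def offF (t : Nat) : Nat := Nat.shiftRight (Btab (Nat.sub t 21)) 14
noncomputable def pfF (j : Nat) : Nat := Nat.shiftRight (Ptab j) 1
noncomputable def pdF (j : Nat) : Nat := Nat.land (Ptab j) 1
noncomputable def tblF (i x : Nat) : Nat := @Bool.rec (fun _ => Nat) (@Bool.rec (fun _ => Nat) (col0 i) (col1 i) (Nat.ble 1 x)) (@Bool.rec (fun _ => Nat) (col2 i) (col3 i) (Nat.ble 3 x)) (Nat.ble 2 x)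
noncomputable def finE (i x : Nat) : Nat := finTab (Nat.add (Nat.mul i 4) x)
noncomputable def finFF (i x : Nat) : Nat := Nat.shiftRight (finE i x) 1
noncomputable def finDF (i x : Nat) : Nat := Nat.land (finE i x) 1

noncomputable def D : Log :=
  { k := 4, inv := invE 4 PA6p.invR, nR := 20, rBase := rBtab, rLen := rLtab, RR := RRtab,
    M := 17, nB := 4, F := 48, src := srcF, lt := ltF, tgt := tgtF, rho := rhoF, rot := rotF,
    off := offF, len := lenF, pf := pfF, pd := pdF }

noncomputable def T : Tab :=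
  { N := 6, nameOf := nameTab, tbl := tblF, finF := finFF, finD := finDF, cls := clsTab }

def subs : List (List Nat) := [
  [0],
  [3, 1, 3, 1, 2, 2, 0, 2] ]

def rw0 : List Nat := [0, 0]
def rw1 : List Nat := [2, 2, 2, 2]
def rw2 : List Nat := [0, 2, 0, 2, 0, 2, 0, 2, 0, 2]
def rw3 : List Nat := [0, 2, 2, 0, 2, 2, 0, 2, 2, 0, 2, 2, 0, 2, 2]
def realLit : List (List Nat) := [rw0, rw1, rw2, rw3]
noncomputable def actR0 (i : Nat) : Nat := col1 (col1 (i))
theorem actR0_eq (i : Nat) : actR0 i = Tab.act T D rw0 i := rfl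
noncomputable def actR1 (i : Nat) : Nat := col3 (col3 (col3 (col3 (i))))
theorem actR1_eq (i : Nat) : actR1 i = Tab.act T D rw1 i := rfl
noncomputable def actR2 (i : Nat) : Nat := col1 (col3 (col1 (col3 (col1 (col3 (col1 (col3 (col1 (col3 (i))))))))))
theorem actR2_eq (i : Nat) : actR2 i = Tab.act T D rw2 i := rfl
noncomputable def actR3 (i : Nat) : Nat := col1 (col3 (col3 (col1 (col3 (col3 (col1 (col3 (col3 (col1 (col3 (col3 (col1 (col3 (col3 (i)))))))))))))))
theorem actR3_eq (i : Nat) : actR3 i = Tab.act T D rw3 i := rfl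

end Cfsg.Agent.Lib.Helper4.TCD.A6pA
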