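namespace Cfsg.Agent.Lib.Helper4.TCD.A6pL

noncomputable def st4_0 : Nat := nat_lit 0x1ab08
noncomputable def st5_0 : Nat := nat_lit 0xa728
noncomputable def st6_0 : Nat := nat_lit 0x15708
noncomputable def st7_0 : Nat := nat_lit 0x22748
noncomputable def levTab_0 : Nat := nat_lit 0x6d1012
noncomputable def betaTab_0 : Nat := nat_lit 0x458
noncomputable def nodeTab_0 : Nat := nat_lit 0x5c558400254594c4020015158240039a296194dd14cd380a481000
noncomputable def offTab_0 : Nat := nat_lit 0x7acc0
noncomputable def nTab_0 : Nat := nat_lit 0x72e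
noncomputable def rootTab_0 : Nat := nat_lit 0x10

end Cfsg.Agent.Lib.Helper4.TCD.A6pL
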