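import Cfsg.Agent.Lib.Helper4.TC7
import Cfsg.Agent.Lib.Helper4.TC8
import Cfsg.Agent.Lib.Helper4.TCP_A6p
import Cfsg.Agent.Lib.Helper4.TCD_A6pU2_D0

namespace Cfsg.Agent.Lib.Helper4.TCD.A6pU2

open Cfsg.Agent.Lib.Helper4.TC

set_option maxRecDepth 100000

noncomputable def Atab (i : Nat) : Nat := rdw 4 15 Atab_0 i
noncomputable def Btab (i : Nat) : Nat := rdw 8 255 Btab_0 i
noncomputable def Ptab (i : Nat) : Nat := rdw 3 7 Ptab_0 i
noncomputable def RRtab (i : Nat) : Nat := rdw 2 3 RRtab_0 i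
noncomputable def rBtab (i : Nat) : Nat := rdw 5 31 rBtab_0 i
noncomputable def rLtab (i : Nat) : Nat := rdw 2 3 rLtab_0 i
noncomputable def nameTab (i : Nat) : Nat := rdw 1 1 nameTab_0 i
noncomputable def col0 (i : Nat) : Nat := rdw 1 1 col0_0 i
noncomputable def col1 (i : Nat) : Nat := rdw 1 1 col1_0 i
noncomputable def finTab (i : Nat) : Nat := rdw 3 7 finTab_0 i
noncomputable def clsTab (i : Nat) : Nat := rdw 1 1 clsTab_0 i
noncomputable def srcF (t : Nat) : Nat := Nat.land (Atab t) 1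
noncomputable def tgtF (t : Nat) : Nat := Nat.land (Nat.shiftRight (Atab t) 1) 1
noncomputable def ltF (t : Nat) : Nat := Nat.shiftRight (Atab t) 2
noncomputable def rhoF (t : Nat) : Nat := Nat.land (Btab (Nat.sub t 2)) 7
noncomputable def rotF (t : Nat) : Nat := Nat.land (Nat.shiftRight (Btab (Nat.sub t 2)) 3) 3
noncomputable def lenF (t : Nat) : Nat := Nat.land (Nat.shiftRight (Btab (Nat.sub t 2)) 5) 1
noncomputable def offF (t : Nat) : Nat := Nat.shiftRight (Btab (Nat.sub t 2)) 6
noncomputable def pfF (j : Nat) : Nat := Nat.shiftRight (Ptab j) 1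
noncomputable def pdF (j : Nat) : Nat := Nat.land (Ptab j) 1
noncomputable def tblF (i x : Nat) : Nat := @Bool.rec (fun _ => Nat) (col0 i) (col1 i) (Nat.ble 1 x)
noncomputable def finE (i x : Nat) : Nat := finTab (Nat.add (Nat.mul i 2) x)
noncomputable def finFF (i x : Nat) : Nat := Nat.shiftRight (finE i x) 1
noncomputable def finDF (i x : Nat) : Nat := Nat.land (finE i x) 1

def invLoc : ℕ → ℕ
  | 0 => 1
  | 1 => 0
  | l => l
def emb : List Nat := [0, 1]
noncomputable def D : Log :=
  { k := 2, inv := invE 2 invLoc, nR := 6, rBase := rBtab, rLen := rLtab, RR := RRtab,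
    M := 2, nB := 0, F := 3, src := srcF, lt := ltF, tgt := tgtF, rho := rhoF, rot := rotF,
    off := offF, len := lenF, pf := pfF, pd := pdF }

noncomputable def T : Tab :=
  { N := 2, nameOf := nameTab, tbl := tblF, finF := finFF, finD := finDF, cls := clsTab }

def subs : List (List Nat) := [
 ]

def realLoc : List (List Nat) := [
  [0, 0] ]

end Cfsg.Agent.Lib.Helper4.TCD.A6pU2
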