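namespace Cfsg.Agent.Lib.Helper4.TCD.A7pA

noncomputable def Atab_0 : Nat := nat_lit 0xee0d82d0901b2484a2020070180500f42ace12645002100
noncomputable def Btab_0 : Nat := nat_lit 0xa9058fd9914b621ae4319d06198a8121580209
noncomputable def Ptab_0 : Nat := nat_lit 0x3081cb3080965856db64934a1825d715a6991cb2025856d924609715a6471151440d1
noncomputable def RRtab_0 : Nat := nat_lit 0x3180318363623233232010110101221331221331221331221331213121312131213131313131313131313131313131333333333331111117021702152522323323201011010220330220330220330220330203020302030203020202020202020202020202020202222222222000000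
noncomputable def rBtab_0 : Nat := nat_lit 0xd8d4d0ccc8c4ac9c8076706864605c58543c2c100600
noncomputable def rLtab_0 : Nat := nat_lit 0x422222c8e53422222c8e53
noncomputable def nameTab_0 : Nat := nat_lit 0x9dd08
noncomputable def col0_0 : Nat := nat_lit 0x2c6b1
noncomputable def col1_0 : Nat := nat_lit 0x6c686
noncomputable def col2_0 : Nat := nat_lit 0x1a3468
noncomputable def col3_0 : Nat := nat_lit 0x18d8d0
noncomputable def finTab_0 : Nat := nat_lit 0x6da6051ca75c2e586090d8e23097de2060d95d6102
noncomputable def clsTab_0 : Nat := nat_lit 0xe2b88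
noncomputable def oparTab_0 : Nat := nat_lit 0x163440
noncomputable def olabTab_0 : Nat := nat_lit 0x1000

end Cfsg.Agent.Lib.Helper4.TCD.A7pA
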