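import Mathlib
import Cfsg.Agent.Lib.Helper4.A7pDef
import Cfsg.Agent.Lib.Helper4.TC7

/-! The letter encoding of the presentation of A7p (generated). -/

namespace Cfsg.Agent.Lib.Helper4.TC.PA7p

set_option linter.unusedSimpArgs false
set_option linter.unusedTactic false
set_option linter.unreachableTactic false

open Cfsg.Spor Cfsg.Agent.Lib.Helper4 Cfsg.Agent.Lib.Helper4.A7p Cfsg.Agent.Lib.Helper4.TC Cfsg.Agent.Lib.Helper4.TC.Log

def enc : Gen → ℕ
  | .a => 0
  | .b => 2

def dec : ℕ → FreeGroup Gen
  | 0 => FreeGroup.of Gen.a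
  | 1 => (FreeGroup.of Gen.a)⁻¹
  | 2 => FreeGroup.of Gen.b
  | 3 => (FreeGroup.of Gen.b)⁻¹
  | _ => 1

def invR : ℕ → ℕ
  | 0 => 1
  | 1 => 0
  | 2 => 3
  | 3 => 2
  | l => l

def tri : List (ℕ × ℕ × ℕ) := []

def extraW : List (List ℕ) := [
  (List.replicate 3 [0]).flatten,
  (List.replicate 5 [2]).flatten,
  (List.replicate 7 [0, 2]).flatten,
  (List.replicate 2 [0, 3, 0, 2]).flatten,
  (List.replicate 2 [0, 3, 3, 0, 2, 2]).flatten ]

def P : CoxEnc Gen :=
  { edges := A7p.edges, extra := A7p.extra, k := 4, enc := enc, dec := dec, invR := invR, tri := tri,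
    extraW := extraW }

theorem valid : P.Valid where
  hnode := by
    intro x hx
    cases x <;> first | exact ⟨rfl, by decide, rfl⟩ | exact absurd hx (by decide)
  hsound := by decide +kernel
  hcomplete := by decide +kernel
  hlen := rfl
  hextraW := by decide +kernel
  hinvk := rfl
  hsurj := by
    intro x
    cases x
    · exact ⟨0, by decide, rfl⟩
    · exact ⟨2, by decide, rfl⟩
  hdec := by
    intro l hl
    have hl : l < 4 := hl
    interval_cases l
    · exact Or.inl ⟨Gen.a, rfl, rfl⟩
    · exact Or.inr ⟨Gen.a, rfl, rfl, by decide, rfl⟩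
    · exact Or.inl ⟨Gen.b, rfl, rfl⟩
    · exact Or.inr ⟨Gen.b, rfl, rfl, by decide, rfl⟩
  hinvR := by
    intro l hl
    have hl : l < 4 := hl
    interval_cases l
    · exact ⟨by decide, Or.inl rfl⟩
    · exact ⟨by decide, Or.inl (inv_inv _).symm⟩
    · exact ⟨by decide, Or.inl rfl⟩
    · exact ⟨by decide, Or.inl (inv_inv _).symm⟩
  hextra := by
    intro Γ _ f hn i h h'
    have hi : i < 5 := h
    interval_cases i
    · show FreeGroup.lift f (A7p.extra[0]) = wordP (fun l => FreeGroup.lift f (dec l)) (extraW[0])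
      simp only [A7p.extra, extraW, List.getElem_cons_zero, List.getElem_cons_succ, wordP_replicate_flatten,
        wordP_append, wordP_cons, wordP_nil, dec, map_mul, map_pow, map_inv, FreeGroup.lift_apply_of, mul_one,
        ← inv_pow, mul_inv_rev, inv_inv, mul_assoc]
    · show FreeGroup.lift f (A7p.extra[1]) = wordP (fun l => FreeGroup.lift f (dec l)) (extraW[1])
      simp only [A7p.extra, extraW, List.getElem_cons_zero, List.getElem_cons_succ, wordP_replicate_flatten,
        wordP_append, wordP_cons, wordP_nil, dec, map_mul, map_pow, map_inv, FreeGroup.lift_apply_of, mul_one,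
        ← inv_pow, mul_inv_rev, inv_inv, mul_assoc]
    · show FreeGroup.lift f (A7p.extra[2]) = wordP (fun l => FreeGroup.lift f (dec l)) (extraW[2])
      simp only [A7p.extra, extraW, List.getElem_cons_zero, List.getElem_cons_succ, wordP_replicate_flatten,
        wordP_append, wordP_cons, wordP_nil, dec, map_mul, map_pow, map_inv, FreeGroup.lift_apply_of, mul_one,
        ← inv_pow, mul_inv_rev, inv_inv, mul_assoc]
    · show FreeGroup.lift f (A7p.extra[3]) = wordP (fun l => FreeGroup.lift f (dec l)) (extraW[3])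
      simp only [A7p.extra, extraW, List.getElem_cons_zero, List.getElem_cons_succ, wordP_replicate_flatten,
        wordP_append, wordP_cons, wordP_nil, dec, map_mul, map_pow, map_inv, FreeGroup.lift_apply_of, mul_one,
        ← inv_pow, mul_inv_rev, inv_inv, mul_assoc]
    · show FreeGroup.lift f (A7p.extra[4]) = wordP (fun l => FreeGroup.lift f (dec l)) (extraW[4])
      simp only [A7p.extra, extraW, List.getElem_cons_zero, List.getElem_cons_succ, wordP_replicate_flatten,
        wordP_append, wordP_cons, wordP_nil, dec, map_mul, map_pow, map_inv, FreeGroup.lift_apply_of, mul_one,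
        ← inv_pow, mul_inv_rev, inv_inv, mul_assoc]

end Cfsg.Agent.Lib.Helper4.TC.PA7p
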