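namespace Cfsg.Agent.Lib.Helper4.TCD.A7pL

noncomputable def st4_0 : Nat := nat_lit 0x6e6a0
noncomputable def st5_0 : Nat := nat_lit 0x1296b0
noncomputable def st6_0 : Nat := nat_lit 0x1a9710
noncomputable def st7_0 : Nat := nat_lit 0x1aa660
noncomputable def st8_0 : Nat := nat_lit 0x1a3a88
noncomputable def st9_0 : Nat := nat_lit 0x19d888
noncomputable def st10_0 : Nat := nat_lit 0x195708
noncomputable def st11_0 : Nat := nat_lit 0x1a2748
noncomputable def levTab_0 : Nat := nat_lit 0x91b489480
noncomputable def betaTab_0 : Nat := nat_lit 0x2670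
noncomputable def nodeTab_0 : Nat := nat_lit 0x6c568400260d64c003a9a4c55c488b4820010068c556c8db8825294068cd974ce388a441000
noncomputable def offTab_0 : Nat := nat_lit 0x16934e0
noncomputable def nTab_0 : Nat := nat_lit 0x3977
noncomputable def rootTab_0 : Nat := nat_lit 0x228

end Cfsg.Agent.Lib.Helper4.TCD.A7pL
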