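import Cfsg.Agent.Lib.Helper4.TC11
import Cfsg.Agent.Lib.Helper4.TCD_A7pA_Acc
import Cfsg.Agent.Lib.Helper4.TCD_A7pL_D0

namespace Cfsg.Agent.Lib.Helper4.TCD.A7pL

open Cfsg.Agent.Lib.Helper4.TC Cfsg.Agent.Lib.Helper4.TCD.A7pA

set_option maxRecDepth 100000

noncomputable def st4 (i : Nat) : Nat := rdw 3 7 st4_0 i
noncomputable def st5 (i : Nat) : Nat := rdw 3 7 st5_0 i
noncomputable def st6 (i : Nat) : Nat := rdw 3 7 st6_0 i
noncomputable def st7 (i : Nat) : Nat := rdw 3 7 st7_0 i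
noncomputable def st8 (i : Nat) : Nat := rdw 3 7 st8_0 i
noncomputable def st9 (i : Nat) : Nat := rdw 3 7 st9_0 i
noncomputable def st10 (i : Nat) : Nat := rdw 3 7 st10_0 i
noncomputable def st11 (i : Nat) : Nat := rdw 3 7 st11_0 i
noncomputable def levTab (i : Nat) : Nat := rdw 3 7 levTab_0 i
noncomputable def betaTab (i : Nat) : Nat := rdw 3 7 betaTab_0 i
noncomputable def nodeTab (i : Nat) : Nat := rdw 12 4095 nodeTab_0 i
noncomputable def offTab (i : Nat) : Nat := rdw 5 31 offTab_0 i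
noncomputable def nTab (i : Nat) : Nat := rdw 3 7 nTab_0 i
noncomputable def rootTab (i : Nat) : Nat := rdw 3 7 rootTab_0 i
noncomputable def tabF (i p : Nat) : Nat := @Bool.rec (fun _ => Nat) (@Bool.rec (fun _ => Nat) (@Bool.rec (fun _ => Nat) (col1 p) (@Bool.rec (fun _ => Nat) (col0 p) (col3 p) (Nat.ble 2 i)) (Nat.ble 1 i)) (@Bool.rec (fun _ => Nat) (col2 p) (@Bool.rec (fun _ => Nat) (st4 p) (st5 p) (Nat.ble 5 i)) (Nat.ble 4 i)) (Nat.ble 3 i)) (@Bool.rec (fun _ => Nat) (@Bool.rec (fun _ => Nat) (st6 p) (@Bool.rec (fun _ => Nat) (st7 p) (st8 p) (Nat.ble 8 i)) (Nat.ble 7 i)) (@Bool.rec (fun _ => Nat) (st9 p) (@Bool.rec (fun _ => Nat) (st10 p) (st11 p) (Nat.ble 11 i)) (Nat.ble 10 i)) (Nat.ble 9 i)) (Nat.ble 6 i)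
def wAF : Nat → List Nat
  | 4 => [2, 2, 1]
  | 5 => [4]
  | 6 => [0, 3, 4]
  | 7 => [6]
  | 8 => [2, 1, 4, 7]
  | 9 => [8]
  | 10 => [2, 1, 4, 7, 9]
  | 11 => [10]
  | _ => []
def wBF : Nat → List Nat
  | 4 => [0, 2, 2, 1]
  | 5 => []
  | 6 => [3, 0]
  | 7 => []
  | 8 => [3, 3, 5, 0]
  | 9 => []
  | 10 => [7, 5, 0]
  | 11 => []
  | _ => []
noncomputable def ptF (j idx : Nat) : Nat := Nat.land (nodeTab (Nat.add (offTab j) idx)) 7
noncomputable def parF (j idx : Nat) : Nat := Nat.land (Nat.shiftRight (nodeTab (Nat.add (offTab j) idx)) 3) 7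
noncomputable def giF (j idx : Nat) : Nat := Nat.land (Nat.shiftRight (nodeTab (Nat.add (offTab j) idx)) 6) 15
noncomputable def depF (j idx : Nat) : Nat := Nat.shiftRight (nodeTab (Nat.add (offTab j) idx)) 10

noncomputable def S : Sgs :=
  { N := 7, k := 4, m := 12, tab := tabF, wA := wAF, wB := wBF, lev := levTab, r := 5, beta := betaTab,
    n := nTab, root := rootTab, pt := ptF, par := parF, gi := giF, dep := depF }

noncomputable def chk4 (p : Nat) : Bool := band (Nat.ble (Nat.succ (st4 p)) 7) (Nat.beq (col3 (col3 (col0 (st4 p)))) (col1 (col3 (col3 (col0 p)))))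
theorem chk4_eq (p : Nat) : chk4 p = Sgs.permOK S 4 p := rfl
noncomputable def chk5 (p : Nat) : Bool := band (Nat.ble (Nat.succ (st5 p)) 7) (Nat.beq (st4 (st5 p)) p)
theorem chk5_eq (p : Nat) : chk5 p = Sgs.permOK S 5 p := rfl
noncomputable def chk6 (p : Nat) : Bool := band (Nat.ble (Nat.succ (st6 p)) 7) (Nat.beq (col1 (col2 (st4 (st6 p)))) (col2 (col1 p)))
theorem chk6_eq (p : Nat) : chk6 p = Sgs.permOK S 6 p := rfl
noncomputable def chk7 (p : Nat) : Bool := band (Nat.ble (Nat.succ (st7 p)) 7) (Nat.beq (st6 (st7 p)) p)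
theorem chk7_eq (p : Nat) : chk7 p = Sgs.permOK S 7 p := rfl
noncomputable def chk8 (p : Nat) : Bool := band (Nat.ble (Nat.succ (st8 p)) 7) (Nat.beq (col3 (col0 (st4 (st7 (st8 p))))) (col2 (col2 (st5 (col1 p)))))
theorem chk8_eq (p : Nat) : chk8 p = Sgs.permOK S 8 p := rfl
noncomputable def chk9 (p : Nat) : Bool := band (Nat.ble (Nat.succ (st9 p)) 7) (Nat.beq (st8 (st9 p)) p)
theorem chk9_eq (p : Nat) : chk9 p = Sgs.permOK S 9 p := rfl
noncomputable def chk10 (p : Nat) : Bool := band (Nat.ble (Nat.succ (st10 p)) 7) (Nat.beq (col3 (col0 (st4 (st7 (st9 (st10 p)))))) (st7 (st5 (col1 p))))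
theorem chk10_eq (p : Nat) : chk10 p = Sgs.permOK S 10 p := rfl
noncomputable def chk11 (p : Nat) : Bool := band (Nat.ble (Nat.succ (st11 p)) 7) (Nat.beq (st10 (st11 p)) p)
theorem chk11_eq (p : Nat) : chk11 p = Sgs.permOK S 11 p := rfl

end Cfsg.Agent.Lib.Helper4.TCD.A7pL
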