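namespace Cfsg.Agent.Lib.Helper4.TCD.A7pU2

noncomputable def Atab_0 : Nat := nat_lit 0x598120
noncomputable def Btab_0 : Nat := nat_lit 0x4b
noncomputable def Ptab_0 : Nat := nat_lit 0x43
noncomputable def RRtab_0 : Nat := nat_lit 0x11445551144000
noncomputable def rBtab_0 : Nat := nat_lit 0x314728c0
noncomputable def rLtab_0 : Nat := nat_lit 0xaeb
noncomputable def nameTab_0 : Nat := nat_lit 0x24
noncomputable def col0_0 : Nat := nat_lit 0x9
noncomputable def col1_0 : Nat := nat_lit 0x12
noncomputable def finTab_0 : Nat := nat_lit 0x653742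
noncomputable def clsTab_0 : Nat := nat_lit 0x24

end Cfsg.Agent.Lib.Helper4.TCD.A7pU2
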