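import Mathlib
import Cfsg.Agent.Lib.Helper4.C12M22Def
import Cfsg.Agent.Lib.Helper4.TC7

/-! The letter encoding of the presentation of C12M22 (generated). -/

namespace Cfsg.Agent.Lib.Helper4.TC.PC12M22

set_option linter.unusedSimpArgs false
set_option linter.unusedTactic false
set_option linter.unreachableTactic false

open Cfsg.Spor Cfsg.Agent.Lib.Helper4 Cfsg.Agent.Lib.Helper4.C12M22 Cfsg.Agent.Lib.Helper4.TC Cfsg.Agent.Lib.Helper4.TC.Log

def enc : Gen → ℕ
  | .a => 0
  | .b => 2
  | .u => 4
  | .g => 6
  | .z => 8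

def dec : ℕ → FreeGroup Gen
  | 0 => FreeGroup.of Gen.a
  | 1 => (FreeGroup.of Gen.a)⁻¹
  | 2 => FreeGroup.of Gen.b
  | 3 => (FreeGroup.of Gen.b)⁻¹
  | 4 => FreeGroup.of Gen.u
  | 5 => (FreeGroup.of Gen.u)⁻¹
  | 6 => FreeGroup.of Gen.g
  | 7 => (FreeGroup.of Gen.g)⁻¹
  | 8 => FreeGroup.of Gen.z
  | 9 => (FreeGroup.of Gen.z)⁻¹
  | _ => 1

def invR : ℕ → ℕ
  | 0 => 1
  | 1 => 0
  | 2 => 3
  | 3 => 2
  | 4 => 5
  | 5 => 4
  | 6 => 7
  | 7 => 6
  | 8 => 9
  | 9 => 8
  | l => l

def tri : List (ℕ × ℕ × ℕ) := []

def extraW : List (List ℕ) := [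
  (List.replicate 6 [4]).flatten,
  [4, 0, 5, 1],
  [4, 2, 5, 3],
  (List.replicate 3 [0]).flatten,
  (List.replicate 5 [2]).flatten,
  (List.replicate 7 [0, 2]).flatten,
  ((List.replicate 2 [0, 3, 0, 2]).flatten ++ [5]),
  ((List.replicate 2 [0, 3, 3, 0, 2, 2]).flatten ++ (List.replicate 3 [5]).flatten),
  (List.replicate 11 [6]).flatten,
  [3, 6, 2, 7, 7, 7, 7, 7],
  [4, 9, 9],
  (List.replicate 12 [8]).flatten,
  [8, 0, 9, 1],
  [8, 2, 9, 3],
  [8, 6, 9, 7],
  ([0, 2, 0, 2, 1, 2, 7, 2, 1, 2, 2, 7] ++ (List.replicate 6 [9]).flatten),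
  ([0, 2, 7, 1, 6, 2, 0, 2, 7, 2, 2, 1, 2] ++ (List.replicate 5 [9]).flatten) ]

def P : CoxEnc Gen :=
  { edges := C12M22.edges, extra := C12M22.extra, k := 10, enc := enc, dec := dec, invR := invR, tri := tri,
    extraW := extraW }

theorem valid : P.Valid where
  hnode := by
    intro x hx
    cases x <;> first | exact ⟨rfl, by decide, rfl⟩ | exact absurd hx (by decide)
  hsound := by decide +kernel
  hcomplete := by decide +kernel
  hlen := rfl
  hextraW := by decide +kernel
  hinvk := rfl
  hsurj := by
    intro x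
    cases x
    · exact ⟨0, by decide, rfl⟩
    · exact ⟨2, by decide, rfl⟩
    · exact ⟨4, by decide, rfl⟩
    · exact ⟨6, by decide, rfl⟩
    · exact ⟨8, by decide, rfl⟩
  hdec := by
    intro l hl
    have hl : l < 10 := hl
    interval_cases l
    · exact Or.inl ⟨Gen.a, rfl, rfl⟩
    · exact Or.inr ⟨Gen.a, rfl, rfl, by decide, rfl⟩
    · exact Or.inl ⟨Gen.b, rfl, rfl⟩
    · exact Or.inr ⟨Gen.b, rfl, rfl, by decide, rfl⟩
    · exact Or.inl ⟨Gen.u, rfl, rfl⟩
    · exact Or.inr ⟨Gen.u, rfl, rfl, by decide, rfl⟩
    · exact Or.inl ⟨Gen.g, rfl, rfl⟩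
    · exact Or.inr ⟨Gen.g, rfl, rfl, by decide, rfl⟩
    · exact Or.inl ⟨Gen.z, rfl, rfl⟩
    · exact Or.inr ⟨Gen.z, rfl, rfl, by decide, rfl⟩
  hinvR := by
    intro l hl
    have hl : l < 10 := hl
    interval_cases l
    · exact ⟨by decide, Or.inl rfl⟩
    · exact ⟨by decide, Or.inl (inv_inv _).symm⟩
    · exact ⟨by decide, Or.inl rfl⟩
    · exact ⟨by decide, Or.inl (inv_inv _).symm⟩
    · exact ⟨by decide, Or.inl rfl⟩
    · exact ⟨by decide, Or.inl (inv_inv _).symm⟩
    · exact ⟨by decide, Or.inl rfl⟩
    · exact ⟨by decide, Or.inl (inv_inv _).symm⟩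
    · exact ⟨by decide, Or.inl rfl⟩
    · exact ⟨by decide, Or.inl (inv_inv _).symm⟩
  hextra := by
    intro Γ _ f hn i h h'
    have hi : i < 17 := h
    interval_cases i
    · show FreeGroup.lift f (C12M22.extra[0]) = wordP (fun l => FreeGroup.lift f (dec l)) (extraW[0])
      simp only [C12M22.extra, extraW, List.getElem_cons_zero, List.getElem_cons_succ, wordP_replicate_flatten,
        wordP_append, wordP_cons, wordP_nil, dec, map_mul, map_pow, map_inv, FreeGroup.lift_apply_of, mul_one,
        ← inv_pow, mul_inv_rev, inv_inv, mul_assoc]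
    · show FreeGroup.lift f (C12M22.extra[1]) = wordP (fun l => FreeGroup.lift f (dec l)) (extraW[1])
      simp only [C12M22.extra, extraW, List.getElem_cons_zero, List.getElem_cons_succ, wordP_replicate_flatten,
        wordP_append, wordP_cons, wordP_nil, dec, map_mul, map_pow, map_inv, FreeGroup.lift_apply_of, mul_one,
        ← inv_pow, mul_inv_rev, inv_inv, mul_assoc]
    · show FreeGroup.lift f (C12M22.extra[2]) = wordP (fun l => FreeGroup.lift f (dec l)) (extraW[2])
      simp only [C12M22.extra, extraW, List.getElem_cons_zero, List.getElem_cons_succ, wordP_replicate_flatten,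
        wordP_append, wordP_cons, wordP_nil, dec, map_mul, map_pow, map_inv, FreeGroup.lift_apply_of, mul_one,
        ← inv_pow, mul_inv_rev, inv_inv, mul_assoc]
    · show FreeGroup.lift f (C12M22.extra[3]) = wordP (fun l => FreeGroup.lift f (dec l)) (extraW[3])
      simp only [C12M22.extra, extraW, List.getElem_cons_zero, List.getElem_cons_succ, wordP_replicate_flatten,
        wordP_append, wordP_cons, wordP_nil, dec, map_mul, map_pow, map_inv, FreeGroup.lift_apply_of, mul_one,
        ← inv_pow, mul_inv_rev, inv_inv, mul_assoc]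
    · show FreeGroup.lift f (C12M22.extra[4]) = wordP (fun l => FreeGroup.lift f (dec l)) (extraW[4])
      simp only [C12M22.extra, extraW, List.getElem_cons_zero, List.getElem_cons_succ, wordP_replicate_flatten,
        wordP_append, wordP_cons, wordP_nil, dec, map_mul, map_pow, map_inv, FreeGroup.lift_apply_of, mul_one,
        ← inv_pow, mul_inv_rev, inv_inv, mul_assoc]
    · show FreeGroup.lift f (C12M22.extra[5]) = wordP (fun l => FreeGroup.lift f (dec l)) (extraW[5])
      simp only [C12M22.extra, extraW, List.getElem_cons_zero, List.getElem_cons_succ, wordP_replicate_flatten,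
        wordP_append, wordP_cons, wordP_nil, dec, map_mul, map_pow, map_inv, FreeGroup.lift_apply_of, mul_one,
        ← inv_pow, mul_inv_rev, inv_inv, mul_assoc]
    · show FreeGroup.lift f (C12M22.extra[6]) = wordP (fun l => FreeGroup.lift f (dec l)) (extraW[6])
      simp only [C12M22.extra, extraW, List.getElem_cons_zero, List.getElem_cons_succ, wordP_replicate_flatten,
        wordP_append, wordP_cons, wordP_nil, dec, map_mul, map_pow, map_inv, FreeGroup.lift_apply_of, mul_one,
        ← inv_pow, mul_inv_rev, inv_inv, mul_assoc]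
    · show FreeGroup.lift f (C12M22.extra[7]) = wordP (fun l => FreeGroup.lift f (dec l)) (extraW[7])
      simp only [C12M22.extra, extraW, List.getElem_cons_zero, List.getElem_cons_succ, wordP_replicate_flatten,
        wordP_append, wordP_cons, wordP_nil, dec, map_mul, map_pow, map_inv, FreeGroup.lift_apply_of, mul_one,
        ← inv_pow, mul_inv_rev, inv_inv, mul_assoc]
    · show FreeGroup.lift f (C12M22.extra[8]) = wordP (fun l => FreeGroup.lift f (dec l)) (extraW[8])
      simp only [C12M22.extra, extraW, List.getElem_cons_zero, List.getElem_cons_succ, wordP_replicate_flatten,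
        wordP_append, wordP_cons, wordP_nil, dec, map_mul, map_pow, map_inv, FreeGroup.lift_apply_of, mul_one,
        ← inv_pow, mul_inv_rev, inv_inv, mul_assoc]
    · show FreeGroup.lift f (C12M22.extra[9]) = wordP (fun l => FreeGroup.lift f (dec l)) (extraW[9])
      simp only [C12M22.extra, extraW, List.getElem_cons_zero, List.getElem_cons_succ, wordP_replicate_flatten,
        wordP_append, wordP_cons, wordP_nil, dec, map_mul, map_pow, map_inv, FreeGroup.lift_apply_of, mul_one,
        ← inv_pow, mul_inv_rev, inv_inv, mul_assoc]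
    · show FreeGroup.lift f (C12M22.extra[10]) = wordP (fun l => FreeGroup.lift f (dec l)) (extraW[10])
      simp only [C12M22.extra, extraW, List.getElem_cons_zero, List.getElem_cons_succ, wordP_replicate_flatten,
        wordP_append, wordP_cons, wordP_nil, dec, map_mul, map_pow, map_inv, FreeGroup.lift_apply_of, mul_one,
        ← inv_pow, mul_inv_rev, inv_inv, mul_assoc]
    · show FreeGroup.lift f (C12M22.extra[11]) = wordP (fun l => FreeGroup.lift f (dec l)) (extraW[11])
      simp only [C12M22.extra, extraW, List.getElem_cons_zero, List.getElem_cons_succ, wordP_replicate_flatten,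
        wordP_append, wordP_cons, wordP_nil, dec, map_mul, map_pow, map_inv, FreeGroup.lift_apply_of, mul_one,
        ← inv_pow, mul_inv_rev, inv_inv, mul_assoc]
    · show FreeGroup.lift f (C12M22.extra[12]) = wordP (fun l => FreeGroup.lift f (dec l)) (extraW[12])
      simp only [C12M22.extra, extraW, List.getElem_cons_zero, List.getElem_cons_succ, wordP_replicate_flatten,
        wordP_append, wordP_cons, wordP_nil, dec, map_mul, map_pow, map_inv, FreeGroup.lift_apply_of, mul_one,
        ← inv_pow, mul_inv_rev, inv_inv, mul_assoc]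
    · show FreeGroup.lift f (C12M22.extra[13]) = wordP (fun l => FreeGroup.lift f (dec l)) (extraW[13])
      simp only [C12M22.extra, extraW, List.getElem_cons_zero, List.getElem_cons_succ, wordP_replicate_flatten,
        wordP_append, wordP_cons, wordP_nil, dec, map_mul, map_pow, map_inv, FreeGroup.lift_apply_of, mul_one,
        ← inv_pow, mul_inv_rev, inv_inv, mul_assoc]
    · show FreeGroup.lift f (C12M22.extra[14]) = wordP (fun l => FreeGroup.lift f (dec l)) (extraW[14])
      simp only [C12M22.extra, extraW, List.getElem_cons_zero, List.getElem_cons_succ, wordP_replicate_flatten,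
        wordP_append, wordP_cons, wordP_nil, dec, map_mul, map_pow, map_inv, FreeGroup.lift_apply_of, mul_one,
        ← inv_pow, mul_inv_rev, inv_inv, mul_assoc]
    · show FreeGroup.lift f (C12M22.extra[15]) = wordP (fun l => FreeGroup.lift f (dec l)) (extraW[15])
      simp only [C12M22.extra, extraW, List.getElem_cons_zero, List.getElem_cons_succ, wordP_replicate_flatten,
        wordP_append, wordP_cons, wordP_nil, dec, map_mul, map_pow, map_inv, FreeGroup.lift_apply_of, mul_one,
        ← inv_pow, mul_inv_rev, inv_inv, mul_assoc]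
    · show FreeGroup.lift f (C12M22.extra[16]) = wordP (fun l => FreeGroup.lift f (dec l)) (extraW[16])
      simp only [C12M22.extra, extraW, List.getElem_cons_zero, List.getElem_cons_succ, wordP_replicate_flatten,
        wordP_append, wordP_cons, wordP_nil, dec, map_mul, map_pow, map_inv, FreeGroup.lift_apply_of, mul_one,
        ← inv_pow, mul_inv_rev, inv_inv, mul_assoc]

end Cfsg.Agent.Lib.Helper4.TC.PC12M22
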