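import Cfsg.Agent.Lib.Helper4.TC7
import Cfsg.Agent.Lib.Helper4.TCP_C12M22
import Cfsg.Agent.Lib.Helper4.TCD_C12M22A_D0
import Cfsg.Agent.Lib.Helper4.TCD_C12M22A_D1
import Cfsg.Agent.Lib.Helper4.TCD_C12M22A_D2
import Cfsg.Agent.Lib.Helper4.TCD_C12M22A_D3
import Cfsg.Agent.Lib.Helper4.TCD_C12M22A_D4
import Cfsg.Agent.Lib.Helper4.TCD_C12M22A_D5
import Cfsg.Agent.Lib.Helper4.TCD_C12M22A_D6
import Cfsg.Agent.Lib.Helper4.TCD_C12M22A_D7
import Cfsg.Agent.Lib.Helper4.TCD_C12M22A_D8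
import Cfsg.Agent.Lib.Helper4.TCD_C12M22A_D9
import Cfsg.Agent.Lib.Helper4.TCD_C12M22A_D10
import Cfsg.Agent.Lib.Helper4.TCD_C12M22A_D11
import Cfsg.Agent.Lib.Helper4.TCD_C12M22A_D12
import Cfsg.Agent.Lib.Helper4.TCD_C12M22A_D13
import Cfsg.Agent.Lib.Helper4.TCD_C12M22A_D14
import Cfsg.Agent.Lib.Helper4.TCD_C12M22A_D15
import Cfsg.Agent.Lib.Helper4.TCD_C12M22A_D16
import Cfsg.Agent.Lib.Helper4.TCD_C12M22A_D17
import Cfsg.Agent.Lib.Helper4.TCD_C12M22A_D18
import Cfsg.Agent.Lib.Helper4.TCD_C12M22A_D19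
import Cfsg.Agent.Lib.Helper4.TCD_C12M22A_D20
import Cfsg.Agent.Lib.Helper4.TCD_C12M22A_D21
import Cfsg.Agent.Lib.Helper4.TCD_C12M22A_D22
import Cfsg.Agent.Lib.Helper4.TCD_C12M22A_D23
import Cfsg.Agent.Lib.Helper4.TCD_C12M22A_D24
import Cfsg.Agent.Lib.Helper4.TCD_C12M22A_D25
import Cfsg.Agent.Lib.Helper4.TCD_C12M22A_D26
import Cfsg.Agent.Lib.Helper4.TCD_C12M22A_D27
import Cfsg.Agent.Lib.Helper4.TCD_C12M22A_D28
import Cfsg.Agent.Lib.Helper4.TCD_C12M22A_D29
import Cfsg.Agent.Lib.Helper4.TCD_C12M22A_D30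
import Cfsg.Agent.Lib.Helper4.TCD_C12M22A_D31
import Cfsg.Agent.Lib.Helper4.TCD_C12M22A_D32
import Cfsg.Agent.Lib.Helper4.TCD_C12M22A_D33
import Cfsg.Agent.Lib.Helper4.TCD_C12M22A_D34
import Cfsg.Agent.Lib.Helper4.TCD_C12M22A_D35
import Cfsg.Agent.Lib.Helper4.TCD_C12M22A_D36
import Cfsg.Agent.Lib.Helper4.TCD_C12M22A_D37
import Cfsg.Agent.Lib.Helper4.TCD_C12M22A_D38
import Cfsg.Agent.Lib.Helper4.TCD_C12M22A_D39
import Cfsg.Agent.Lib.Helper4.TCD_C12M22A_D40

namespace Cfsg.Agent.Lib.Helper4.TCD.C12M22A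

open Cfsg.Agent.Lib.Helper4.TC

set_option maxRecDepth 100000

noncomputable def Atab_s_0_2 (c : Nat) : Nat := @Bool.rec (fun _ => Nat) (Atab_0) (Atab_1) (Nat.ble 1 c)
noncomputable def Atab_s_3_5 (c : Nat) : Nat := @Bool.rec (fun _ => Nat) (Atab_3) (Atab_4) (Nat.ble 4 c)
noncomputable def Atab_s_2_5 (c : Nat) : Nat := @Bool.rec (fun _ => Nat) (Atab_2) (Atab_s_3_5 c) (Nat.ble 3 c)
noncomputable def Atab_s_0_5 (c : Nat) : Nat := @Bool.rec (fun _ => Nat) (Atab_s_0_2 c) (Atab_s_2_5 c) (Nat.ble 2 c)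
noncomputable def Atab_s_5_7 (c : Nat) : Nat := @Bool.rec (fun _ => Nat) (Atab_5) (Atab_6) (Nat.ble 6 c)
noncomputable def Atab_s_8_10 (c : Nat) : Nat := @Bool.rec (fun _ => Nat) (Atab_8) (Atab_9) (Nat.ble 9 c)
noncomputable def Atab_s_7_10 (c : Nat) : Nat := @Bool.rec (fun _ => Nat) (Atab_7) (Atab_s_8_10 c) (Nat.ble 8 c)
noncomputable def Atab_s_5_10 (c : Nat) : Nat := @Bool.rec (fun _ => Nat) (Atab_s_5_7 c) (Atab_s_7_10 c) (Nat.ble 7 c)
noncomputable def Atab_s_0_10 (c : Nat) : Nat := @Bool.rec (fun _ => Nat) (Atab_s_0_5 c) (Atab_s_5_10 c) (Nat.ble 5 c)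
noncomputable def Atab_s_10_12 (c : Nat) : Nat := @Bool.rec (fun _ => Nat) (Atab_10) (Atab_11) (Nat.ble 11 c)
noncomputable def Atab_s_13_15 (c : Nat) : Nat := @Bool.rec (fun _ => Nat) (Atab_13) (Atab_14) (Nat.ble 14 c)
noncomputable def Atab_s_12_15 (c : Nat) : Nat := @Bool.rec (fun _ => Nat) (Atab_12) (Atab_s_13_15 c) (Nat.ble 13 c)
noncomputable def Atab_s_10_15 (c : Nat) : Nat := @Bool.rec (fun _ => Nat) (Atab_s_10_12 c) (Atab_s_12_15 c) (Nat.ble 12 c)
noncomputable def Atab_s_16_18 (c : Nat) : Nat := @Bool.rec (fun _ => Nat) (Atab_16) (Atab_17) (Nat.ble 17 c)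
noncomputable def Atab_s_15_18 (c : Nat) : Nat := @Bool.rec (fun _ => Nat) (Atab_15) (Atab_s_16_18 c) (Nat.ble 16 c)
noncomputable def Atab_s_19_21 (c : Nat) : Nat := @Bool.rec (fun _ => Nat) (Atab_19) (Atab_20) (Nat.ble 20 c)
noncomputable def Atab_s_18_21 (c : Nat) : Nat := @Bool.rec (fun _ => Nat) (Atab_18) (Atab_s_19_21 c) (Nat.ble 19 c)
noncomputable def Atab_s_15_21 (c : Nat) : Nat := @Bool.rec (fun _ => Nat) (Atab_s_15_18 c) (Atab_s_18_21 c) (Nat.ble 18 c)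
noncomputable def Atab_s_10_21 (c : Nat) : Nat := @Bool.rec (fun _ => Nat) (Atab_s_10_15 c) (Atab_s_15_21 c) (Nat.ble 15 c)
noncomputable def Atab_s_0_21 (c : Nat) : Nat := @Bool.rec (fun _ => Nat) (Atab_s_0_10 c) (Atab_s_10_21 c) (Nat.ble 10 c)
noncomputable def Atab_s_21_23 (c : Nat) : Nat := @Bool.rec (fun _ => Nat) (Atab_21) (Atab_22) (Nat.ble 22 c)
noncomputable def Atab_s_24_26 (c : Nat) : Nat := @Bool.rec (fun _ => Nat) (Atab_24) (Atab_25) (Nat.ble 25 c)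
noncomputable def Atab_s_23_26 (c : Nat) : Nat := @Bool.rec (fun _ => Nat) (Atab_23) (Atab_s_24_26 c) (Nat.ble 24 c)
noncomputable def Atab_s_21_26 (c : Nat) : Nat := @Bool.rec (fun _ => Nat) (Atab_s_21_23 c) (Atab_s_23_26 c) (Nat.ble 23 c)
noncomputable def Atab_s_27_29 (c : Nat) : Nat := @Bool.rec (fun _ => Nat) (Atab_27) (Atab_28) (Nat.ble 28 c)
noncomputable def Atab_s_26_29 (c : Nat) : Nat := @Bool.rec (fun _ => Nat) (Atab_26) (Atab_s_27_29 c) (Nat.ble 27 c)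
noncomputable def Atab_s_30_32 (c : Nat) : Nat := @Bool.rec (fun _ => Nat) (Atab_30) (Atab_31) (Nat.ble 31 c)
noncomputable def Atab_s_29_32 (c : Nat) : Nat := @Bool.rec (fun _ => Nat) (Atab_29) (Atab_s_30_32 c) (Nat.ble 30 c)
noncomputable def Atab_s_26_32 (c : Nat) : Nat := @Bool.rec (fun _ => Nat) (Atab_s_26_29 c) (Atab_s_29_32 c) (Nat.ble 29 c)
noncomputable def Atab_s_21_32 (c : Nat) : Nat := @Bool.rec (fun _ => Nat) (Atab_s_21_26 c) (Atab_s_26_32 c) (Nat.ble 26 c)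
noncomputable def Atab_s_32_34 (c : Nat) : Nat := @Bool.rec (fun _ => Nat) (Atab_32) (Atab_33) (Nat.ble 33 c)
noncomputable def Atab_s_35_37 (c : Nat) : Nat := @Bool.rec (fun _ => Nat) (Atab_35) (Atab_36) (Nat.ble 36 c)
noncomputable def Atab_s_34_37 (c : Nat) : Nat := @Bool.rec (fun _ => Nat) (Atab_34) (Atab_s_35_37 c) (Nat.ble 35 c)
noncomputable def Atab_s_32_37 (c : Nat) : Nat := @Bool.rec (fun _ => Nat) (Atab_s_32_34 c) (Atab_s_34_37 c) (Nat.ble 34 c)
noncomputable def Atab_s_38_40 (c : Nat) : Nat := @Bool.rec (fun _ => Nat) (Atab_38) (Atab_39) (Nat.ble 39 c)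
noncomputable def Atab_s_37_40 (c : Nat) : Nat := @Bool.rec (fun _ => Nat) (Atab_37) (Atab_s_38_40 c) (Nat.ble 38 c)
noncomputable def Atab_s_41_43 (c : Nat) : Nat := @Bool.rec (fun _ => Nat) (Atab_41) (Atab_42) (Nat.ble 42 c)
noncomputable def Atab_s_40_43 (c : Nat) : Nat := @Bool.rec (fun _ => Nat) (Atab_40) (Atab_s_41_43 c) (Nat.ble 41 c)
noncomputable def Atab_s_37_43 (c : Nat) : Nat := @Bool.rec (fun _ => Nat) (Atab_s_37_40 c) (Atab_s_40_43 c) (Nat.ble 40 c)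
noncomputable def Atab_s_32_43 (c : Nat) : Nat := @Bool.rec (fun _ => Nat) (Atab_s_32_37 c) (Atab_s_37_43 c) (Nat.ble 37 c)
noncomputable def Atab_s_21_43 (c : Nat) : Nat := @Bool.rec (fun _ => Nat) (Atab_s_21_32 c) (Atab_s_32_43 c) (Nat.ble 32 c)
noncomputable def Atab_s_0_43 (c : Nat) : Nat := @Bool.rec (fun _ => Nat) (Atab_s_0_21 c) (Atab_s_21_43 c) (Nat.ble 21 c)
noncomputable def Atab_s_43_45 (c : Nat) : Nat := @Bool.rec (fun _ => Nat) (Atab_43) (Atab_44) (Nat.ble 44 c)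
noncomputable def Atab_s_46_48 (c : Nat) : Nat := @Bool.rec (fun _ => Nat) (Atab_46) (Atab_47) (Nat.ble 47 c)
noncomputable def Atab_s_45_48 (c : Nat) : Nat := @Bool.rec (fun _ => Nat) (Atab_45) (Atab_s_46_48 c) (Nat.ble 46 c)
noncomputable def Atab_s_43_48 (c : Nat) : Nat := @Bool.rec (fun _ => Nat) (Atab_s_43_45 c) (Atab_s_45_48 c) (Nat.ble 45 c)
noncomputable def Atab_s_48_50 (c : Nat) : Nat := @Bool.rec (fun _ => Nat) (Atab_48) (Atab_49) (Nat.ble 49 c)
noncomputable def Atab_s_51_53 (c : Nat) : Nat := @Bool.rec (fun _ => Nat) (Atab_51) (Atab_52) (Nat.ble 52 c)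
noncomputable def Atab_s_50_53 (c : Nat) : Nat := @Bool.rec (fun _ => Nat) (Atab_50) (Atab_s_51_53 c) (Nat.ble 51 c)
noncomputable def Atab_s_48_53 (c : Nat) : Nat := @Bool.rec (fun _ => Nat) (Atab_s_48_50 c) (Atab_s_50_53 c) (Nat.ble 50 c)
noncomputable def Atab_s_43_53 (c : Nat) : Nat := @Bool.rec (fun _ => Nat) (Atab_s_43_48 c) (Atab_s_48_53 c) (Nat.ble 48 c)
noncomputable def Atab_s_53_55 (c : Nat) : Nat := @Bool.rec (fun _ => Nat) (Atab_53) (Atab_54) (Nat.ble 54 c)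
noncomputable def Atab_s_56_58 (c : Nat) : Nat := @Bool.rec (fun _ => Nat) (Atab_56) (Atab_57) (Nat.ble 57 c)
noncomputable def Atab_s_55_58 (c : Nat) : Nat := @Bool.rec (fun _ => Nat) (Atab_55) (Atab_s_56_58 c) (Nat.ble 56 c)
noncomputable def Atab_s_53_58 (c : Nat) : Nat := @Bool.rec (fun _ => Nat) (Atab_s_53_55 c) (Atab_s_55_58 c) (Nat.ble 55 c)
noncomputable def Atab_s_59_61 (c : Nat) : Nat := @Bool.rec (fun _ => Nat) (Atab_59) (Atab_60) (Nat.ble 60 c)
noncomputable def Atab_s_58_61 (c : Nat) : Nat := @Bool.rec (fun _ => Nat) (Atab_58) (Atab_s_59_61 c) (Nat.ble 59 c)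
noncomputable def Atab_s_62_64 (c : Nat) : Nat := @Bool.rec (fun _ => Nat) (Atab_62) (Atab_63) (Nat.ble 63 c)
noncomputable def Atab_s_61_64 (c : Nat) : Nat := @Bool.rec (fun _ => Nat) (Atab_61) (Atab_s_62_64 c) (Nat.ble 62 c)
noncomputable def Atab_s_58_64 (c : Nat) : Nat := @Bool.rec (fun _ => Nat) (Atab_s_58_61 c) (Atab_s_61_64 c) (Nat.ble 61 c)
noncomputable def Atab_s_53_64 (c : Nat) : Nat := @Bool.rec (fun _ => Nat) (Atab_s_53_58 c) (Atab_s_58_64 c) (Nat.ble 58 c)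
noncomputable def Atab_s_43_64 (c : Nat) : Nat := @Bool.rec (fun _ => Nat) (Atab_s_43_53 c) (Atab_s_53_64 c) (Nat.ble 53 c)
noncomputable def Atab_s_64_66 (c : Nat) : Nat := @Bool.rec (fun _ => Nat) (Atab_64) (Atab_65) (Nat.ble 65 c)
noncomputable def Atab_s_67_69 (c : Nat) : Nat := @Bool.rec (fun _ => Nat) (Atab_67) (Atab_68) (Nat.ble 68 c)
noncomputable def Atab_s_66_69 (c : Nat) : Nat := @Bool.rec (fun _ => Nat) (Atab_66) (Atab_s_67_69 c) (Nat.ble 67 c)
noncomputable def Atab_s_64_69 (c : Nat) : Nat := @Bool.rec (fun _ => Nat) (Atab_s_64_66 c) (Atab_s_66_69 c) (Nat.ble 66 c)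
noncomputable def Atab_s_70_72 (c : Nat) : Nat := @Bool.rec (fun _ => Nat) (Atab_70) (Atab_71) (Nat.ble 71 c)
noncomputable def Atab_s_69_72 (c : Nat) : Nat := @Bool.rec (fun _ => Nat) (Atab_69) (Atab_s_70_72 c) (Nat.ble 70 c)
noncomputable def Atab_s_73_75 (c : Nat) : Nat := @Bool.rec (fun _ => Nat) (Atab_73) (Atab_74) (Nat.ble 74 c)
noncomputable def Atab_s_72_75 (c : Nat) : Nat := @Bool.rec (fun _ => Nat) (Atab_72) (Atab_s_73_75 c) (Nat.ble 73 c)
noncomputable def Atab_s_69_75 (c : Nat) : Nat := @Bool.rec (fun _ => Nat) (Atab_s_69_72 c) (Atab_s_72_75 c) (Nat.ble 72 c)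
noncomputable def Atab_s_64_75 (c : Nat) : Nat := @Bool.rec (fun _ => Nat) (Atab_s_64_69 c) (Atab_s_69_75 c) (Nat.ble 69 c)
noncomputable def Atab_s_75_77 (c : Nat) : Nat := @Bool.rec (fun _ => Nat) (Atab_75) (Atab_76) (Nat.ble 76 c)
noncomputable def Atab_s_78_80 (c : Nat) : Nat := @Bool.rec (fun _ => Nat) (Atab_78) (Atab_79) (Nat.ble 79 c)
noncomputable def Atab_s_77_80 (c : Nat) : Nat := @Bool.rec (fun _ => Nat) (Atab_77) (Atab_s_78_80 c) (Nat.ble 78 c)
noncomputable def Atab_s_75_80 (c : Nat) : Nat := @Bool.rec (fun _ => Nat) (Atab_s_75_77 c) (Atab_s_77_80 c) (Nat.ble 77 c)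
noncomputable def Atab_s_81_83 (c : Nat) : Nat := @Bool.rec (fun _ => Nat) (Atab_81) (Atab_82) (Nat.ble 82 c)
noncomputable def Atab_s_80_83 (c : Nat) : Nat := @Bool.rec (fun _ => Nat) (Atab_80) (Atab_s_81_83 c) (Nat.ble 81 c)
noncomputable def Atab_s_84_86 (c : Nat) : Nat := @Bool.rec (fun _ => Nat) (Atab_84) (Atab_85) (Nat.ble 85 c)
noncomputable def Atab_s_83_86 (c : Nat) : Nat := @Bool.rec (fun _ => Nat) (Atab_83) (Atab_s_84_86 c) (Nat.ble 84 c)
noncomputable def Atab_s_80_86 (c : Nat) : Nat := @Bool.rec (fun _ => Nat) (Atab_s_80_83 c) (Atab_s_83_86 c) (Nat.ble 83 c)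
noncomputable def Atab_s_75_86 (c : Nat) : Nat := @Bool.rec (fun _ => Nat) (Atab_s_75_80 c) (Atab_s_80_86 c) (Nat.ble 80 c)
noncomputable def Atab_s_64_86 (c : Nat) : Nat := @Bool.rec (fun _ => Nat) (Atab_s_64_75 c) (Atab_s_75_86 c) (Nat.ble 75 c)
noncomputable def Atab_s_43_86 (c : Nat) : Nat := @Bool.rec (fun _ => Nat) (Atab_s_43_64 c) (Atab_s_64_86 c) (Nat.ble 64 c)
noncomputable def Atab_s_0_86 (c : Nat) : Nat := @Bool.rec (fun _ => Nat) (Atab_s_0_43 c) (Atab_s_43_86 c) (Nat.ble 43 c)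
noncomputable def Atab_s_86_88 (c : Nat) : Nat := @Bool.rec (fun _ => Nat) (Atab_86) (Atab_87) (Nat.ble 87 c)
noncomputable def Atab_s_89_91 (c : Nat) : Nat := @Bool.rec (fun _ => Nat) (Atab_89) (Atab_90) (Nat.ble 90 c)
noncomputable def Atab_s_88_91 (c : Nat) : Nat := @Bool.rec (fun _ => Nat) (Atab_88) (Atab_s_89_91 c) (Nat.ble 89 c)
noncomputable def Atab_s_86_91 (c : Nat) : Nat := @Bool.rec (fun _ => Nat) (Atab_s_86_88 c) (Atab_s_88_91 c) (Nat.ble 88 c)
noncomputable def Atab_s_91_93 (c : Nat) : Nat := @Bool.rec (fun _ => Nat) (Atab_91) (Atab_92) (Nat.ble 92 c)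
noncomputable def Atab_s_94_96 (c : Nat) : Nat := @Bool.rec (fun _ => Nat) (Atab_94) (Atab_95) (Nat.ble 95 c)
noncomputable def Atab_s_93_96 (c : Nat) : Nat := @Bool.rec (fun _ => Nat) (Atab_93) (Atab_s_94_96 c) (Nat.ble 94 c)
noncomputable def Atab_s_91_96 (c : Nat) : Nat := @Bool.rec (fun _ => Nat) (Atab_s_91_93 c) (Atab_s_93_96 c) (Nat.ble 93 c)
noncomputable def Atab_s_86_96 (c : Nat) : Nat := @Bool.rec (fun _ => Nat) (Atab_s_86_91 c) (Atab_s_91_96 c) (Nat.ble 91 c)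
noncomputable def Atab_s_96_98 (c : Nat) : Nat := @Bool.rec (fun _ => Nat) (Atab_96) (Atab_97) (Nat.ble 97 c)
noncomputable def Atab_s_99_101 (c : Nat) : Nat := @Bool.rec (fun _ => Nat) (Atab_99) (Atab_100) (Nat.ble 100 c)
noncomputable def Atab_s_98_101 (c : Nat) : Nat := @Bool.rec (fun _ => Nat) (Atab_98) (Atab_s_99_101 c) (Nat.ble 99 c)
noncomputable def Atab_s_96_101 (c : Nat) : Nat := @Bool.rec (fun _ => Nat) (Atab_s_96_98 c) (Atab_s_98_101 c) (Nat.ble 98 c)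
noncomputable def Atab_s_102_104 (c : Nat) : Nat := @Bool.rec (fun _ => Nat) (Atab_102) (Atab_103) (Nat.ble 103 c)
noncomputable def Atab_s_101_104 (c : Nat) : Nat := @Bool.rec (fun _ => Nat) (Atab_101) (Atab_s_102_104 c) (Nat.ble 102 c)
noncomputable def Atab_s_105_107 (c : Nat) : Nat := @Bool.rec (fun _ => Nat) (Atab_105) (Atab_106) (Nat.ble 106 c)
noncomputable def Atab_s_104_107 (c : Nat) : Nat := @Bool.rec (fun _ => Nat) (Atab_104) (Atab_s_105_107 c) (Nat.ble 105 c)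
noncomputable def Atab_s_101_107 (c : Nat) : Nat := @Bool.rec (fun _ => Nat) (Atab_s_101_104 c) (Atab_s_104_107 c) (Nat.ble 104 c)
noncomputable def Atab_s_96_107 (c : Nat) : Nat := @Bool.rec (fun _ => Nat) (Atab_s_96_101 c) (Atab_s_101_107 c) (Nat.ble 101 c)
noncomputable def Atab_s_86_107 (c : Nat) : Nat := @Bool.rec (fun _ => Nat) (Atab_s_86_96 c) (Atab_s_96_107 c) (Nat.ble 96 c)
noncomputable def Atab_s_107_109 (c : Nat) : Nat := @Bool.rec (fun _ => Nat) (Atab_107) (Atab_108) (Nat.ble 108 c)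
noncomputable def Atab_s_110_112 (c : Nat) : Nat := @Bool.rec (fun _ => Nat) (Atab_110) (Atab_111) (Nat.ble 111 c)
noncomputable def Atab_s_109_112 (c : Nat) : Nat := @Bool.rec (fun _ => Nat) (Atab_109) (Atab_s_110_112 c) (Nat.ble 110 c)
noncomputable def Atab_s_107_112 (c : Nat) : Nat := @Bool.rec (fun _ => Nat) (Atab_s_107_109 c) (Atab_s_109_112 c) (Nat.ble 109 c)
noncomputable def Atab_s_113_115 (c : Nat) : Nat := @Bool.rec (fun _ => Nat) (Atab_113) (Atab_114) (Nat.ble 114 c)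
noncomputable def Atab_s_112_115 (c : Nat) : Nat := @Bool.rec (fun _ => Nat) (Atab_112) (Atab_s_113_115 c) (Nat.ble 113 c)
noncomputable def Atab_s_116_118 (c : Nat) : Nat := @Bool.rec (fun _ => Nat) (Atab_116) (Atab_117) (Nat.ble 117 c)
noncomputable def Atab_s_115_118 (c : Nat) : Nat := @Bool.rec (fun _ => Nat) (Atab_115) (Atab_s_116_118 c) (Nat.ble 116 c)
noncomputable def Atab_s_112_118 (c : Nat) : Nat := @Bool.rec (fun _ => Nat) (Atab_s_112_115 c) (Atab_s_115_118 c) (Nat.ble 115 c)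
noncomputable def Atab_s_107_118 (c : Nat) : Nat := @Bool.rec (fun _ => Nat) (Atab_s_107_112 c) (Atab_s_112_118 c) (Nat.ble 112 c)
noncomputable def Atab_s_118_120 (c : Nat) : Nat := @Bool.rec (fun _ => Nat) (Atab_118) (Atab_119) (Nat.ble 119 c)
noncomputable def Atab_s_121_123 (c : Nat) : Nat := @Bool.rec (fun _ => Nat) (Atab_121) (Atab_122) (Nat.ble 122 c)
noncomputable def Atab_s_120_123 (c : Nat) : Nat := @Bool.rec (fun _ => Nat) (Atab_120) (Atab_s_121_123 c) (Nat.ble 121 c)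
noncomputable def Atab_s_118_123 (c : Nat) : Nat := @Bool.rec (fun _ => Nat) (Atab_s_118_120 c) (Atab_s_120_123 c) (Nat.ble 120 c)
noncomputable def Atab_s_124_126 (c : Nat) : Nat := @Bool.rec (fun _ => Nat) (Atab_124) (Atab_125) (Nat.ble 125 c)
noncomputable def Atab_s_123_126 (c : Nat) : Nat := @Bool.rec (fun _ => Nat) (Atab_123) (Atab_s_124_126 c) (Nat.ble 124 c)
noncomputable def Atab_s_127_129 (c : Nat) : Nat := @Bool.rec (fun _ => Nat) (Atab_127) (Atab_128) (Nat.ble 128 c)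
noncomputable def Atab_s_126_129 (c : Nat) : Nat := @Bool.rec (fun _ => Nat) (Atab_126) (Atab_s_127_129 c) (Nat.ble 127 c)
noncomputable def Atab_s_123_129 (c : Nat) : Nat := @Bool.rec (fun _ => Nat) (Atab_s_123_126 c) (Atab_s_126_129 c) (Nat.ble 126 c)
noncomputable def Atab_s_118_129 (c : Nat) : Nat := @Bool.rec (fun _ => Nat) (Atab_s_118_123 c) (Atab_s_123_129 c) (Nat.ble 123 c)
noncomputable def Atab_s_107_129 (c : Nat) : Nat := @Bool.rec (fun _ => Nat) (Atab_s_107_118 c) (Atab_s_118_129 c) (Nat.ble 118 c)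
noncomputable def Atab_s_86_129 (c : Nat) : Nat := @Bool.rec (fun _ => Nat) (Atab_s_86_107 c) (Atab_s_107_129 c) (Nat.ble 107 c)
noncomputable def Atab_s_129_131 (c : Nat) : Nat := @Bool.rec (fun _ => Nat) (Atab_129) (Atab_130) (Nat.ble 130 c)
noncomputable def Atab_s_132_134 (c : Nat) : Nat := @Bool.rec (fun _ => Nat) (Atab_132) (Atab_133) (Nat.ble 133 c)
noncomputable def Atab_s_131_134 (c : Nat) : Nat := @Bool.rec (fun _ => Nat) (Atab_131) (Atab_s_132_134 c) (Nat.ble 132 c)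
noncomputable def Atab_s_129_134 (c : Nat) : Nat := @Bool.rec (fun _ => Nat) (Atab_s_129_131 c) (Atab_s_131_134 c) (Nat.ble 131 c)
noncomputable def Atab_s_135_137 (c : Nat) : Nat := @Bool.rec (fun _ => Nat) (Atab_135) (Atab_136) (Nat.ble 136 c)
noncomputable def Atab_s_134_137 (c : Nat) : Nat := @Bool.rec (fun _ => Nat) (Atab_134) (Atab_s_135_137 c) (Nat.ble 135 c)
noncomputable def Atab_s_138_140 (c : Nat) : Nat := @Bool.rec (fun _ => Nat) (Atab_138) (Atab_139) (Nat.ble 139 c)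
noncomputable def Atab_s_137_140 (c : Nat) : Nat := @Bool.rec (fun _ => Nat) (Atab_137) (Atab_s_138_140 c) (Nat.ble 138 c)
noncomputable def Atab_s_134_140 (c : Nat) : Nat := @Bool.rec (fun _ => Nat) (Atab_s_134_137 c) (Atab_s_137_140 c) (Nat.ble 137 c)
noncomputable def Atab_s_129_140 (c : Nat) : Nat := @Bool.rec (fun _ => Nat) (Atab_s_129_134 c) (Atab_s_134_140 c) (Nat.ble 134 c)
noncomputable def Atab_s_140_142 (c : Nat) : Nat := @Bool.rec (fun _ => Nat) (Atab_140) (Atab_141) (Nat.ble 141 c)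
noncomputable def Atab_s_143_145 (c : Nat) : Nat := @Bool.rec (fun _ => Nat) (Atab_143) (Atab_144) (Nat.ble 144 c)
noncomputable def Atab_s_142_145 (c : Nat) : Nat := @Bool.rec (fun _ => Nat) (Atab_142) (Atab_s_143_145 c) (Nat.ble 143 c)
noncomputable def Atab_s_140_145 (c : Nat) : Nat := @Bool.rec (fun _ => Nat) (Atab_s_140_142 c) (Atab_s_142_145 c) (Nat.ble 142 c)
noncomputable def Atab_s_146_148 (c : Nat) : Nat := @Bool.rec (fun _ => Nat) (Atab_146) (Atab_147) (Nat.ble 147 c)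
noncomputable def Atab_s_145_148 (c : Nat) : Nat := @Bool.rec (fun _ => Nat) (Atab_145) (Atab_s_146_148 c) (Nat.ble 146 c)
noncomputable def Atab_s_149_151 (c : Nat) : Nat := @Bool.rec (fun _ => Nat) (Atab_149) (Atab_150) (Nat.ble 150 c)
noncomputable def Atab_s_148_151 (c : Nat) : Nat := @Bool.rec (fun _ => Nat) (Atab_148) (Atab_s_149_151 c) (Nat.ble 149 c)
noncomputable def Atab_s_145_151 (c : Nat) : Nat := @Bool.rec (fun _ => Nat) (Atab_s_145_148 c) (Atab_s_148_151 c) (Nat.ble 148 c)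
noncomputable def Atab_s_140_151 (c : Nat) : Nat := @Bool.rec (fun _ => Nat) (Atab_s_140_145 c) (Atab_s_145_151 c) (Nat.ble 145 c)
noncomputable def Atab_s_129_151 (c : Nat) : Nat := @Bool.rec (fun _ => Nat) (Atab_s_129_140 c) (Atab_s_140_151 c) (Nat.ble 140 c)
noncomputable def Atab_s_151_153 (c : Nat) : Nat := @Bool.rec (fun _ => Nat) (Atab_151) (Atab_152) (Nat.ble 152 c)
noncomputable def Atab_s_154_156 (c : Nat) : Nat := @Bool.rec (fun _ => Nat) (Atab_154) (Atab_155) (Nat.ble 155 c)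
noncomputable def Atab_s_153_156 (c : Nat) : Nat := @Bool.rec (fun _ => Nat) (Atab_153) (Atab_s_154_156 c) (Nat.ble 154 c)
noncomputable def Atab_s_151_156 (c : Nat) : Nat := @Bool.rec (fun _ => Nat) (Atab_s_151_153 c) (Atab_s_153_156 c) (Nat.ble 153 c)
noncomputable def Atab_s_157_159 (c : Nat) : Nat := @Bool.rec (fun _ => Nat) (Atab_157) (Atab_158) (Nat.ble 158 c)
noncomputable def Atab_s_156_159 (c : Nat) : Nat := @Bool.rec (fun _ => Nat) (Atab_156) (Atab_s_157_159 c) (Nat.ble 157 c)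
noncomputable def Atab_s_160_162 (c : Nat) : Nat := @Bool.rec (fun _ => Nat) (Atab_160) (Atab_161) (Nat.ble 161 c)
noncomputable def Atab_s_159_162 (c : Nat) : Nat := @Bool.rec (fun _ => Nat) (Atab_159) (Atab_s_160_162 c) (Nat.ble 160 c)
noncomputable def Atab_s_156_162 (c : Nat) : Nat := @Bool.rec (fun _ => Nat) (Atab_s_156_159 c) (Atab_s_159_162 c) (Nat.ble 159 c)
noncomputable def Atab_s_151_162 (c : Nat) : Nat := @Bool.rec (fun _ => Nat) (Atab_s_151_156 c) (Atab_s_156_162 c) (Nat.ble 156 c)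
noncomputable def Atab_s_162_164 (c : Nat) : Nat := @Bool.rec (fun _ => Nat) (Atab_162) (Atab_163) (Nat.ble 163 c)
noncomputable def Atab_s_165_167 (c : Nat) : Nat := @Bool.rec (fun _ => Nat) (Atab_165) (Atab_166) (Nat.ble 166 c)
noncomputable def Atab_s_164_167 (c : Nat) : Nat := @Bool.rec (fun _ => Nat) (Atab_164) (Atab_s_165_167 c) (Nat.ble 165 c)
noncomputable def Atab_s_162_167 (c : Nat) : Nat := @Bool.rec (fun _ => Nat) (Atab_s_162_164 c) (Atab_s_164_167 c) (Nat.ble 164 c)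
noncomputable def Atab_s_168_170 (c : Nat) : Nat := @Bool.rec (fun _ => Nat) (Atab_168) (Atab_169) (Nat.ble 169 c)
noncomputable def Atab_s_167_170 (c : Nat) : Nat := @Bool.rec (fun _ => Nat) (Atab_167) (Atab_s_168_170 c) (Nat.ble 168 c)
noncomputable def Atab_s_171_173 (c : Nat) : Nat := @Bool.rec (fun _ => Nat) (Atab_171) (Atab_172) (Nat.ble 172 c)
noncomputable def Atab_s_170_173 (c : Nat) : Nat := @Bool.rec (fun _ => Nat) (Atab_170) (Atab_s_171_173 c) (Nat.ble 171 c)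
noncomputable def Atab_s_167_173 (c : Nat) : Nat := @Bool.rec (fun _ => Nat) (Atab_s_167_170 c) (Atab_s_170_173 c) (Nat.ble 170 c)
noncomputable def Atab_s_162_173 (c : Nat) : Nat := @Bool.rec (fun _ => Nat) (Atab_s_162_167 c) (Atab_s_167_173 c) (Nat.ble 167 c)
noncomputable def Atab_s_151_173 (c : Nat) : Nat := @Bool.rec (fun _ => Nat) (Atab_s_151_162 c) (Atab_s_162_173 c) (Nat.ble 162 c)
noncomputable def Atab_s_129_173 (c : Nat) : Nat := @Bool.rec (fun _ => Nat) (Atab_s_129_151 c) (Atab_s_151_173 c) (Nat.ble 151 c)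
noncomputable def Atab_s_86_173 (c : Nat) : Nat := @Bool.rec (fun _ => Nat) (Atab_s_86_129 c) (Atab_s_129_173 c) (Nat.ble 129 c)
noncomputable def Atab_s_0_173 (c : Nat) : Nat := @Bool.rec (fun _ => Nat) (Atab_s_0_86 c) (Atab_s_86_173 c) (Nat.ble 86 c)
noncomputable def Atab_s_173_175 (c : Nat) : Nat := @Bool.rec (fun _ => Nat) (Atab_173) (Atab_174) (Nat.ble 174 c)
noncomputable def Atab_s_176_178 (c : Nat) : Nat := @Bool.rec (fun _ => Nat) (Atab_176) (Atab_177) (Nat.ble 177 c)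
noncomputable def Atab_s_175_178 (c : Nat) : Nat := @Bool.rec (fun _ => Nat) (Atab_175) (Atab_s_176_178 c) (Nat.ble 176 c)
noncomputable def Atab_s_173_178 (c : Nat) : Nat := @Bool.rec (fun _ => Nat) (Atab_s_173_175 c) (Atab_s_175_178 c) (Nat.ble 175 c)
noncomputable def Atab_s_178_180 (c : Nat) : Nat := @Bool.rec (fun _ => Nat) (Atab_178) (Atab_179) (Nat.ble 179 c)
noncomputable def Atab_s_181_183 (c : Nat) : Nat := @Bool.rec (fun _ => Nat) (Atab_181) (Atab_182) (Nat.ble 182 c)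
noncomputable def Atab_s_180_183 (c : Nat) : Nat := @Bool.rec (fun _ => Nat) (Atab_180) (Atab_s_181_183 c) (Nat.ble 181 c)
noncomputable def Atab_s_178_183 (c : Nat) : Nat := @Bool.rec (fun _ => Nat) (Atab_s_178_180 c) (Atab_s_180_183 c) (Nat.ble 180 c)
noncomputable def Atab_s_173_183 (c : Nat) : Nat := @Bool.rec (fun _ => Nat) (Atab_s_173_178 c) (Atab_s_178_183 c) (Nat.ble 178 c)
noncomputable def Atab_s_183_185 (c : Nat) : Nat := @Bool.rec (fun _ => Nat) (Atab_183) (Atab_184) (Nat.ble 184 c)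
noncomputable def Atab_s_186_188 (c : Nat) : Nat := @Bool.rec (fun _ => Nat) (Atab_186) (Atab_187) (Nat.ble 187 c)
noncomputable def Atab_s_185_188 (c : Nat) : Nat := @Bool.rec (fun _ => Nat) (Atab_185) (Atab_s_186_188 c) (Nat.ble 186 c)
noncomputable def Atab_s_183_188 (c : Nat) : Nat := @Bool.rec (fun _ => Nat) (Atab_s_183_185 c) (Atab_s_185_188 c) (Nat.ble 185 c)
noncomputable def Atab_s_189_191 (c : Nat) : Nat := @Bool.rec (fun _ => Nat) (Atab_189) (Atab_190) (Nat.ble 190 c)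
noncomputable def Atab_s_188_191 (c : Nat) : Nat := @Bool.rec (fun _ => Nat) (Atab_188) (Atab_s_189_191 c) (Nat.ble 189 c)
noncomputable def Atab_s_192_194 (c : Nat) : Nat := @Bool.rec (fun _ => Nat) (Atab_192) (Atab_193) (Nat.ble 193 c)
noncomputable def Atab_s_191_194 (c : Nat) : Nat := @Bool.rec (fun _ => Nat) (Atab_191) (Atab_s_192_194 c) (Nat.ble 192 c)
noncomputable def Atab_s_188_194 (c : Nat) : Nat := @Bool.rec (fun _ => Nat) (Atab_s_188_191 c) (Atab_s_191_194 c) (Nat.ble 191 c)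
noncomputable def Atab_s_183_194 (c : Nat) : Nat := @Bool.rec (fun _ => Nat) (Atab_s_183_188 c) (Atab_s_188_194 c) (Nat.ble 188 c)
noncomputable def Atab_s_173_194 (c : Nat) : Nat := @Bool.rec (fun _ => Nat) (Atab_s_173_183 c) (Atab_s_183_194 c) (Nat.ble 183 c)
noncomputable def Atab_s_194_196 (c : Nat) : Nat := @Bool.rec (fun _ => Nat) (Atab_194) (Atab_195) (Nat.ble 195 c)
noncomputable def Atab_s_197_199 (c : Nat) : Nat := @Bool.rec (fun _ => Nat) (Atab_197) (Atab_198) (Nat.ble 198 c)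
noncomputable def Atab_s_196_199 (c : Nat) : Nat := @Bool.rec (fun _ => Nat) (Atab_196) (Atab_s_197_199 c) (Nat.ble 197 c)
noncomputable def Atab_s_194_199 (c : Nat) : Nat := @Bool.rec (fun _ => Nat) (Atab_s_194_196 c) (Atab_s_196_199 c) (Nat.ble 196 c)
noncomputable def Atab_s_200_202 (c : Nat) : Nat := @Bool.rec (fun _ => Nat) (Atab_200) (Atab_201) (Nat.ble 201 c)
noncomputable def Atab_s_199_202 (c : Nat) : Nat := @Bool.rec (fun _ => Nat) (Atab_199) (Atab_s_200_202 c) (Nat.ble 200 c)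
noncomputable def Atab_s_203_205 (c : Nat) : Nat := @Bool.rec (fun _ => Nat) (Atab_203) (Atab_204) (Nat.ble 204 c)
noncomputable def Atab_s_202_205 (c : Nat) : Nat := @Bool.rec (fun _ => Nat) (Atab_202) (Atab_s_203_205 c) (Nat.ble 203 c)
noncomputable def Atab_s_199_205 (c : Nat) : Nat := @Bool.rec (fun _ => Nat) (Atab_s_199_202 c) (Atab_s_202_205 c) (Nat.ble 202 c)
noncomputable def Atab_s_194_205 (c : Nat) : Nat := @Bool.rec (fun _ => Nat) (Atab_s_194_199 c) (Atab_s_199_205 c) (Nat.ble 199 c)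
noncomputable def Atab_s_205_207 (c : Nat) : Nat := @Bool.rec (fun _ => Nat) (Atab_205) (Atab_206) (Nat.ble 206 c)
noncomputable def Atab_s_208_210 (c : Nat) : Nat := @Bool.rec (fun _ => Nat) (Atab_208) (Atab_209) (Nat.ble 209 c)
noncomputable def Atab_s_207_210 (c : Nat) : Nat := @Bool.rec (fun _ => Nat) (Atab_207) (Atab_s_208_210 c) (Nat.ble 208 c)
noncomputable def Atab_s_205_210 (c : Nat) : Nat := @Bool.rec (fun _ => Nat) (Atab_s_205_207 c) (Atab_s_207_210 c) (Nat.ble 207 c)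
noncomputable def Atab_s_211_213 (c : Nat) : Nat := @Bool.rec (fun _ => Nat) (Atab_211) (Atab_212) (Nat.ble 212 c)
noncomputable def Atab_s_210_213 (c : Nat) : Nat := @Bool.rec (fun _ => Nat) (Atab_210) (Atab_s_211_213 c) (Nat.ble 211 c)
noncomputable def Atab_s_214_216 (c : Nat) : Nat := @Bool.rec (fun _ => Nat) (Atab_214) (Atab_215) (Nat.ble 215 c)
noncomputable def Atab_s_213_216 (c : Nat) : Nat := @Bool.rec (fun _ => Nat) (Atab_213) (Atab_s_214_216 c) (Nat.ble 214 c)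
noncomputable def Atab_s_210_216 (c : Nat) : Nat := @Bool.rec (fun _ => Nat) (Atab_s_210_213 c) (Atab_s_213_216 c) (Nat.ble 213 c)
noncomputable def Atab_s_205_216 (c : Nat) : Nat := @Bool.rec (fun _ => Nat) (Atab_s_205_210 c) (Atab_s_210_216 c) (Nat.ble 210 c)
noncomputable def Atab_s_194_216 (c : Nat) : Nat := @Bool.rec (fun _ => Nat) (Atab_s_194_205 c) (Atab_s_205_216 c) (Nat.ble 205 c)
noncomputable def Atab_s_173_216 (c : Nat) : Nat := @Bool.rec (fun _ => Nat) (Atab_s_173_194 c) (Atab_s_194_216 c) (Nat.ble 194 c)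
noncomputable def Atab_s_216_218 (c : Nat) : Nat := @Bool.rec (fun _ => Nat) (Atab_216) (Atab_217) (Nat.ble 217 c)
noncomputable def Atab_s_219_221 (c : Nat) : Nat := @Bool.rec (fun _ => Nat) (Atab_219) (Atab_220) (Nat.ble 220 c)
noncomputable def Atab_s_218_221 (c : Nat) : Nat := @Bool.rec (fun _ => Nat) (Atab_218) (Atab_s_219_221 c) (Nat.ble 219 c)
noncomputable def Atab_s_216_221 (c : Nat) : Nat := @Bool.rec (fun _ => Nat) (Atab_s_216_218 c) (Atab_s_218_221 c) (Nat.ble 218 c)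
noncomputable def Atab_s_221_223 (c : Nat) : Nat := @Bool.rec (fun _ => Nat) (Atab_221) (Atab_222) (Nat.ble 222 c)
noncomputable def Atab_s_224_226 (c : Nat) : Nat := @Bool.rec (fun _ => Nat) (Atab_224) (Atab_225) (Nat.ble 225 c)
noncomputable def Atab_s_223_226 (c : Nat) : Nat := @Bool.rec (fun _ => Nat) (Atab_223) (Atab_s_224_226 c) (Nat.ble 224 c)
noncomputable def Atab_s_221_226 (c : Nat) : Nat := @Bool.rec (fun _ => Nat) (Atab_s_221_223 c) (Atab_s_223_226 c) (Nat.ble 223 c)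
noncomputable def Atab_s_216_226 (c : Nat) : Nat := @Bool.rec (fun _ => Nat) (Atab_s_216_221 c) (Atab_s_221_226 c) (Nat.ble 221 c)
noncomputable def Atab_s_226_228 (c : Nat) : Nat := @Bool.rec (fun _ => Nat) (Atab_226) (Atab_227) (Nat.ble 227 c)
noncomputable def Atab_s_229_231 (c : Nat) : Nat := @Bool.rec (fun _ => Nat) (Atab_229) (Atab_230) (Nat.ble 230 c)
noncomputable def Atab_s_228_231 (c : Nat) : Nat := @Bool.rec (fun _ => Nat) (Atab_228) (Atab_s_229_231 c) (Nat.ble 229 c)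
noncomputable def Atab_s_226_231 (c : Nat) : Nat := @Bool.rec (fun _ => Nat) (Atab_s_226_228 c) (Atab_s_228_231 c) (Nat.ble 228 c)
noncomputable def Atab_s_232_234 (c : Nat) : Nat := @Bool.rec (fun _ => Nat) (Atab_232) (Atab_233) (Nat.ble 233 c)
noncomputable def Atab_s_231_234 (c : Nat) : Nat := @Bool.rec (fun _ => Nat) (Atab_231) (Atab_s_232_234 c) (Nat.ble 232 c)
noncomputable def Atab_s_235_237 (c : Nat) : Nat := @Bool.rec (fun _ => Nat) (Atab_235) (Atab_236) (Nat.ble 236 c)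
noncomputable def Atab_s_234_237 (c : Nat) : Nat := @Bool.rec (fun _ => Nat) (Atab_234) (Atab_s_235_237 c) (Nat.ble 235 c)
noncomputable def Atab_s_231_237 (c : Nat) : Nat := @Bool.rec (fun _ => Nat) (Atab_s_231_234 c) (Atab_s_234_237 c) (Nat.ble 234 c)
noncomputable def Atab_s_226_237 (c : Nat) : Nat := @Bool.rec (fun _ => Nat) (Atab_s_226_231 c) (Atab_s_231_237 c) (Nat.ble 231 c)
noncomputable def Atab_s_216_237 (c : Nat) : Nat := @Bool.rec (fun _ => Nat) (Atab_s_216_226 c) (Atab_s_226_237 c) (Nat.ble 226 c)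
noncomputable def Atab_s_237_239 (c : Nat) : Nat := @Bool.rec (fun _ => Nat) (Atab_237) (Atab_238) (Nat.ble 238 c)
noncomputable def Atab_s_240_242 (c : Nat) : Nat := @Bool.rec (fun _ => Nat) (Atab_240) (Atab_241) (Nat.ble 241 c)
noncomputable def Atab_s_239_242 (c : Nat) : Nat := @Bool.rec (fun _ => Nat) (Atab_239) (Atab_s_240_242 c) (Nat.ble 240 c)
noncomputable def Atab_s_237_242 (c : Nat) : Nat := @Bool.rec (fun _ => Nat) (Atab_s_237_239 c) (Atab_s_239_242 c) (Nat.ble 239 c)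
noncomputable def Atab_s_243_245 (c : Nat) : Nat := @Bool.rec (fun _ => Nat) (Atab_243) (Atab_244) (Nat.ble 244 c)
noncomputable def Atab_s_242_245 (c : Nat) : Nat := @Bool.rec (fun _ => Nat) (Atab_242) (Atab_s_243_245 c) (Nat.ble 243 c)
noncomputable def Atab_s_246_248 (c : Nat) : Nat := @Bool.rec (fun _ => Nat) (Atab_246) (Atab_247) (Nat.ble 247 c)
noncomputable def Atab_s_245_248 (c : Nat) : Nat := @Bool.rec (fun _ => Nat) (Atab_245) (Atab_s_246_248 c) (Nat.ble 246 c)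
noncomputable def Atab_s_242_248 (c : Nat) : Nat := @Bool.rec (fun _ => Nat) (Atab_s_242_245 c) (Atab_s_245_248 c) (Nat.ble 245 c)
noncomputable def Atab_s_237_248 (c : Nat) : Nat := @Bool.rec (fun _ => Nat) (Atab_s_237_242 c) (Atab_s_242_248 c) (Nat.ble 242 c)
noncomputable def Atab_s_248_250 (c : Nat) : Nat := @Bool.rec (fun _ => Nat) (Atab_248) (Atab_249) (Nat.ble 249 c)
noncomputable def Atab_s_251_253 (c : Nat) : Nat := @Bool.rec (fun _ => Nat) (Atab_251) (Atab_252) (Nat.ble 252 c)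
noncomputable def Atab_s_250_253 (c : Nat) : Nat := @Bool.rec (fun _ => Nat) (Atab_250) (Atab_s_251_253 c) (Nat.ble 251 c)
noncomputable def Atab_s_248_253 (c : Nat) : Nat := @Bool.rec (fun _ => Nat) (Atab_s_248_250 c) (Atab_s_250_253 c) (Nat.ble 250 c)
noncomputable def Atab_s_254_256 (c : Nat) : Nat := @Bool.rec (fun _ => Nat) (Atab_254) (Atab_255) (Nat.ble 255 c)
noncomputable def Atab_s_253_256 (c : Nat) : Nat := @Bool.rec (fun _ => Nat) (Atab_253) (Atab_s_254_256 c) (Nat.ble 254 c)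
noncomputable def Atab_s_257_259 (c : Nat) : Nat := @Bool.rec (fun _ => Nat) (Atab_257) (Atab_258) (Nat.ble 258 c)
noncomputable def Atab_s_256_259 (c : Nat) : Nat := @Bool.rec (fun _ => Nat) (Atab_256) (Atab_s_257_259 c) (Nat.ble 257 c)
noncomputable def Atab_s_253_259 (c : Nat) : Nat := @Bool.rec (fun _ => Nat) (Atab_s_253_256 c) (Atab_s_256_259 c) (Nat.ble 256 c)
noncomputable def Atab_s_248_259 (c : Nat) : Nat := @Bool.rec (fun _ => Nat) (Atab_s_248_253 c) (Atab_s_253_259 c) (Nat.ble 253 c)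
noncomputable def Atab_s_237_259 (c : Nat) : Nat := @Bool.rec (fun _ => Nat) (Atab_s_237_248 c) (Atab_s_248_259 c) (Nat.ble 248 c)
noncomputable def Atab_s_216_259 (c : Nat) : Nat := @Bool.rec (fun _ => Nat) (Atab_s_216_237 c) (Atab_s_237_259 c) (Nat.ble 237 c)
noncomputable def Atab_s_173_259 (c : Nat) : Nat := @Bool.rec (fun _ => Nat) (Atab_s_173_216 c) (Atab_s_216_259 c) (Nat.ble 216 c)
noncomputable def Atab_s_259_261 (c : Nat) : Nat := @Bool.rec (fun _ => Nat) (Atab_259) (Atab_260) (Nat.ble 260 c)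
noncomputable def Atab_s_262_264 (c : Nat) : Nat := @Bool.rec (fun _ => Nat) (Atab_262) (Atab_263) (Nat.ble 263 c)
noncomputable def Atab_s_261_264 (c : Nat) : Nat := @Bool.rec (fun _ => Nat) (Atab_261) (Atab_s_262_264 c) (Nat.ble 262 c)
noncomputable def Atab_s_259_264 (c : Nat) : Nat := @Bool.rec (fun _ => Nat) (Atab_s_259_261 c) (Atab_s_261_264 c) (Nat.ble 261 c)
noncomputable def Atab_s_264_266 (c : Nat) : Nat := @Bool.rec (fun _ => Nat) (Atab_264) (Atab_265) (Nat.ble 265 c)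
noncomputable def Atab_s_267_269 (c : Nat) : Nat := @Bool.rec (fun _ => Nat) (Atab_267) (Atab_268) (Nat.ble 268 c)
noncomputable def Atab_s_266_269 (c : Nat) : Nat := @Bool.rec (fun _ => Nat) (Atab_266) (Atab_s_267_269 c) (Nat.ble 267 c)
noncomputable def Atab_s_264_269 (c : Nat) : Nat := @Bool.rec (fun _ => Nat) (Atab_s_264_266 c) (Atab_s_266_269 c) (Nat.ble 266 c)
noncomputable def Atab_s_259_269 (c : Nat) : Nat := @Bool.rec (fun _ => Nat) (Atab_s_259_264 c) (Atab_s_264_269 c) (Nat.ble 264 c)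
noncomputable def Atab_s_269_271 (c : Nat) : Nat := @Bool.rec (fun _ => Nat) (Atab_269) (Atab_270) (Nat.ble 270 c)
noncomputable def Atab_s_272_274 (c : Nat) : Nat := @Bool.rec (fun _ => Nat) (Atab_272) (Atab_273) (Nat.ble 273 c)
noncomputable def Atab_s_271_274 (c : Nat) : Nat := @Bool.rec (fun _ => Nat) (Atab_271) (Atab_s_272_274 c) (Nat.ble 272 c)
noncomputable def Atab_s_269_274 (c : Nat) : Nat := @Bool.rec (fun _ => Nat) (Atab_s_269_271 c) (Atab_s_271_274 c) (Nat.ble 271 c)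
noncomputable def Atab_s_275_277 (c : Nat) : Nat := @Bool.rec (fun _ => Nat) (Atab_275) (Atab_276) (Nat.ble 276 c)
noncomputable def Atab_s_274_277 (c : Nat) : Nat := @Bool.rec (fun _ => Nat) (Atab_274) (Atab_s_275_277 c) (Nat.ble 275 c)
noncomputable def Atab_s_278_280 (c : Nat) : Nat := @Bool.rec (fun _ => Nat) (Atab_278) (Atab_279) (Nat.ble 279 c)
noncomputable def Atab_s_277_280 (c : Nat) : Nat := @Bool.rec (fun _ => Nat) (Atab_277) (Atab_s_278_280 c) (Nat.ble 278 c)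
noncomputable def Atab_s_274_280 (c : Nat) : Nat := @Bool.rec (fun _ => Nat) (Atab_s_274_277 c) (Atab_s_277_280 c) (Nat.ble 277 c)
noncomputable def Atab_s_269_280 (c : Nat) : Nat := @Bool.rec (fun _ => Nat) (Atab_s_269_274 c) (Atab_s_274_280 c) (Nat.ble 274 c)
noncomputable def Atab_s_259_280 (c : Nat) : Nat := @Bool.rec (fun _ => Nat) (Atab_s_259_269 c) (Atab_s_269_280 c) (Nat.ble 269 c)
noncomputable def Atab_s_280_282 (c : Nat) : Nat := @Bool.rec (fun _ => Nat) (Atab_280) (Atab_281) (Nat.ble 281 c)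
noncomputable def Atab_s_283_285 (c : Nat) : Nat := @Bool.rec (fun _ => Nat) (Atab_283) (Atab_284) (Nat.ble 284 c)
noncomputable def Atab_s_282_285 (c : Nat) : Nat := @Bool.rec (fun _ => Nat) (Atab_282) (Atab_s_283_285 c) (Nat.ble 283 c)
noncomputable def Atab_s_280_285 (c : Nat) : Nat := @Bool.rec (fun _ => Nat) (Atab_s_280_282 c) (Atab_s_282_285 c) (Nat.ble 282 c)
noncomputable def Atab_s_286_288 (c : Nat) : Nat := @Bool.rec (fun _ => Nat) (Atab_286) (Atab_287) (Nat.ble 287 c)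
noncomputable def Atab_s_285_288 (c : Nat) : Nat := @Bool.rec (fun _ => Nat) (Atab_285) (Atab_s_286_288 c) (Nat.ble 286 c)
noncomputable def Atab_s_289_291 (c : Nat) : Nat := @Bool.rec (fun _ => Nat) (Atab_289) (Atab_290) (Nat.ble 290 c)
noncomputable def Atab_s_288_291 (c : Nat) : Nat := @Bool.rec (fun _ => Nat) (Atab_288) (Atab_s_289_291 c) (Nat.ble 289 c)
noncomputable def Atab_s_285_291 (c : Nat) : Nat := @Bool.rec (fun _ => Nat) (Atab_s_285_288 c) (Atab_s_288_291 c) (Nat.ble 288 c)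
noncomputable def Atab_s_280_291 (c : Nat) : Nat := @Bool.rec (fun _ => Nat) (Atab_s_280_285 c) (Atab_s_285_291 c) (Nat.ble 285 c)
noncomputable def Atab_s_291_293 (c : Nat) : Nat := @Bool.rec (fun _ => Nat) (Atab_291) (Atab_292) (Nat.ble 292 c)
noncomputable def Atab_s_294_296 (c : Nat) : Nat := @Bool.rec (fun _ => Nat) (Atab_294) (Atab_295) (Nat.ble 295 c)
noncomputable def Atab_s_293_296 (c : Nat) : Nat := @Bool.rec (fun _ => Nat) (Atab_293) (Atab_s_294_296 c) (Nat.ble 294 c)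
noncomputable def Atab_s_291_296 (c : Nat) : Nat := @Bool.rec (fun _ => Nat) (Atab_s_291_293 c) (Atab_s_293_296 c) (Nat.ble 293 c)
noncomputable def Atab_s_297_299 (c : Nat) : Nat := @Bool.rec (fun _ => Nat) (Atab_297) (Atab_298) (Nat.ble 298 c)
noncomputable def Atab_s_296_299 (c : Nat) : Nat := @Bool.rec (fun _ => Nat) (Atab_296) (Atab_s_297_299 c) (Nat.ble 297 c)
noncomputable def Atab_s_300_302 (c : Nat) : Nat := @Bool.rec (fun _ => Nat) (Atab_300) (Atab_301) (Nat.ble 301 c)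
noncomputable def Atab_s_299_302 (c : Nat) : Nat := @Bool.rec (fun _ => Nat) (Atab_299) (Atab_s_300_302 c) (Nat.ble 300 c)
noncomputable def Atab_s_296_302 (c : Nat) : Nat := @Bool.rec (fun _ => Nat) (Atab_s_296_299 c) (Atab_s_299_302 c) (Nat.ble 299 c)
noncomputable def Atab_s_291_302 (c : Nat) : Nat := @Bool.rec (fun _ => Nat) (Atab_s_291_296 c) (Atab_s_296_302 c) (Nat.ble 296 c)
noncomputable def Atab_s_280_302 (c : Nat) : Nat := @Bool.rec (fun _ => Nat) (Atab_s_280_291 c) (Atab_s_291_302 c) (Nat.ble 291 c)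
noncomputable def Atab_s_259_302 (c : Nat) : Nat := @Bool.rec (fun _ => Nat) (Atab_s_259_280 c) (Atab_s_280_302 c) (Nat.ble 280 c)
noncomputable def Atab_s_302_304 (c : Nat) : Nat := @Bool.rec (fun _ => Nat) (Atab_302) (Atab_303) (Nat.ble 303 c)
noncomputable def Atab_s_305_307 (c : Nat) : Nat := @Bool.rec (fun _ => Nat) (Atab_305) (Atab_306) (Nat.ble 306 c)
noncomputable def Atab_s_304_307 (c : Nat) : Nat := @Bool.rec (fun _ => Nat) (Atab_304) (Atab_s_305_307 c) (Nat.ble 305 c)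
noncomputable def Atab_s_302_307 (c : Nat) : Nat := @Bool.rec (fun _ => Nat) (Atab_s_302_304 c) (Atab_s_304_307 c) (Nat.ble 304 c)
noncomputable def Atab_s_308_310 (c : Nat) : Nat := @Bool.rec (fun _ => Nat) (Atab_308) (Atab_309) (Nat.ble 309 c)
noncomputable def Atab_s_307_310 (c : Nat) : Nat := @Bool.rec (fun _ => Nat) (Atab_307) (Atab_s_308_310 c) (Nat.ble 308 c)
noncomputable def Atab_s_311_313 (c : Nat) : Nat := @Bool.rec (fun _ => Nat) (Atab_311) (Atab_312) (Nat.ble 312 c)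
noncomputable def Atab_s_310_313 (c : Nat) : Nat := @Bool.rec (fun _ => Nat) (Atab_310) (Atab_s_311_313 c) (Nat.ble 311 c)
noncomputable def Atab_s_307_313 (c : Nat) : Nat := @Bool.rec (fun _ => Nat) (Atab_s_307_310 c) (Atab_s_310_313 c) (Nat.ble 310 c)
noncomputable def Atab_s_302_313 (c : Nat) : Nat := @Bool.rec (fun _ => Nat) (Atab_s_302_307 c) (Atab_s_307_313 c) (Nat.ble 307 c)
noncomputable def Atab_s_313_315 (c : Nat) : Nat := @Bool.rec (fun _ => Nat) (Atab_313) (Atab_314) (Nat.ble 314 c)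
noncomputable def Atab_s_316_318 (c : Nat) : Nat := @Bool.rec (fun _ => Nat) (Atab_316) (Atab_317) (Nat.ble 317 c)
noncomputable def Atab_s_315_318 (c : Nat) : Nat := @Bool.rec (fun _ => Nat) (Atab_315) (Atab_s_316_318 c) (Nat.ble 316 c)
noncomputable def Atab_s_313_318 (c : Nat) : Nat := @Bool.rec (fun _ => Nat) (Atab_s_313_315 c) (Atab_s_315_318 c) (Nat.ble 315 c)
noncomputable def Atab_s_319_321 (c : Nat) : Nat := @Bool.rec (fun _ => Nat) (Atab_319) (Atab_320) (Nat.ble 320 c)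
noncomputable def Atab_s_318_321 (c : Nat) : Nat := @Bool.rec (fun _ => Nat) (Atab_318) (Atab_s_319_321 c) (Nat.ble 319 c)
noncomputable def Atab_s_322_324 (c : Nat) : Nat := @Bool.rec (fun _ => Nat) (Atab_322) (Atab_323) (Nat.ble 323 c)
noncomputable def Atab_s_321_324 (c : Nat) : Nat := @Bool.rec (fun _ => Nat) (Atab_321) (Atab_s_322_324 c) (Nat.ble 322 c)
noncomputable def Atab_s_318_324 (c : Nat) : Nat := @Bool.rec (fun _ => Nat) (Atab_s_318_321 c) (Atab_s_321_324 c) (Nat.ble 321 c)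
noncomputable def Atab_s_313_324 (c : Nat) : Nat := @Bool.rec (fun _ => Nat) (Atab_s_313_318 c) (Atab_s_318_324 c) (Nat.ble 318 c)
noncomputable def Atab_s_302_324 (c : Nat) : Nat := @Bool.rec (fun _ => Nat) (Atab_s_302_313 c) (Atab_s_313_324 c) (Nat.ble 313 c)
noncomputable def Atab_s_324_326 (c : Nat) : Nat := @Bool.rec (fun _ => Nat) (Atab_324) (Atab_325) (Nat.ble 325 c)
noncomputable def Atab_s_327_329 (c : Nat) : Nat := @Bool.rec (fun _ => Nat) (Atab_327) (Atab_328) (Nat.ble 328 c)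
noncomputable def Atab_s_326_329 (c : Nat) : Nat := @Bool.rec (fun _ => Nat) (Atab_326) (Atab_s_327_329 c) (Nat.ble 327 c)
noncomputable def Atab_s_324_329 (c : Nat) : Nat := @Bool.rec (fun _ => Nat) (Atab_s_324_326 c) (Atab_s_326_329 c) (Nat.ble 326 c)
noncomputable def Atab_s_330_332 (c : Nat) : Nat := @Bool.rec (fun _ => Nat) (Atab_330) (Atab_331) (Nat.ble 331 c)
noncomputable def Atab_s_329_332 (c : Nat) : Nat := @Bool.rec (fun _ => Nat) (Atab_329) (Atab_s_330_332 c) (Nat.ble 330 c)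
noncomputable def Atab_s_333_335 (c : Nat) : Nat := @Bool.rec (fun _ => Nat) (Atab_333) (Atab_334) (Nat.ble 334 c)
noncomputable def Atab_s_332_335 (c : Nat) : Nat := @Bool.rec (fun _ => Nat) (Atab_332) (Atab_s_333_335 c) (Nat.ble 333 c)
noncomputable def Atab_s_329_335 (c : Nat) : Nat := @Bool.rec (fun _ => Nat) (Atab_s_329_332 c) (Atab_s_332_335 c) (Nat.ble 332 c)
noncomputable def Atab_s_324_335 (c : Nat) : Nat := @Bool.rec (fun _ => Nat) (Atab_s_324_329 c) (Atab_s_329_335 c) (Nat.ble 329 c)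
noncomputable def Atab_s_335_337 (c : Nat) : Nat := @Bool.rec (fun _ => Nat) (Atab_335) (Atab_336) (Nat.ble 336 c)
noncomputable def Atab_s_338_340 (c : Nat) : Nat := @Bool.rec (fun _ => Nat) (Atab_338) (Atab_339) (Nat.ble 339 c)
noncomputable def Atab_s_337_340 (c : Nat) : Nat := @Bool.rec (fun _ => Nat) (Atab_337) (Atab_s_338_340 c) (Nat.ble 338 c)
noncomputable def Atab_s_335_340 (c : Nat) : Nat := @Bool.rec (fun _ => Nat) (Atab_s_335_337 c) (Atab_s_337_340 c) (Nat.ble 337 c)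
noncomputable def Atab_s_341_343 (c : Nat) : Nat := @Bool.rec (fun _ => Nat) (Atab_341) (Atab_342) (Nat.ble 342 c)
noncomputable def Atab_s_340_343 (c : Nat) : Nat := @Bool.rec (fun _ => Nat) (Atab_340) (Atab_s_341_343 c) (Nat.ble 341 c)
noncomputable def Atab_s_344_346 (c : Nat) : Nat := @Bool.rec (fun _ => Nat) (Atab_344) (Atab_345) (Nat.ble 345 c)
noncomputable def Atab_s_343_346 (c : Nat) : Nat := @Bool.rec (fun _ => Nat) (Atab_343) (Atab_s_344_346 c) (Nat.ble 344 c)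
noncomputable def Atab_s_340_346 (c : Nat) : Nat := @Bool.rec (fun _ => Nat) (Atab_s_340_343 c) (Atab_s_343_346 c) (Nat.ble 343 c)
noncomputable def Atab_s_335_346 (c : Nat) : Nat := @Bool.rec (fun _ => Nat) (Atab_s_335_340 c) (Atab_s_340_346 c) (Nat.ble 340 c)
noncomputable def Atab_s_324_346 (c : Nat) : Nat := @Bool.rec (fun _ => Nat) (Atab_s_324_335 c) (Atab_s_335_346 c) (Nat.ble 335 c)
noncomputable def Atab_s_302_346 (c : Nat) : Nat := @Bool.rec (fun _ => Nat) (Atab_s_302_324 c) (Atab_s_324_346 c) (Nat.ble 324 c)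
noncomputable def Atab_s_259_346 (c : Nat) : Nat := @Bool.rec (fun _ => Nat) (Atab_s_259_302 c) (Atab_s_302_346 c) (Nat.ble 302 c)
noncomputable def Atab_s_173_346 (c : Nat) : Nat := @Bool.rec (fun _ => Nat) (Atab_s_173_259 c) (Atab_s_259_346 c) (Nat.ble 259 c)
noncomputable def Atab_s_0_346 (c : Nat) : Nat := @Bool.rec (fun _ => Nat) (Atab_s_0_173 c) (Atab_s_173_346 c) (Nat.ble 173 c)
noncomputable def Atab_s_346_348 (c : Nat) : Nat := @Bool.rec (fun _ => Nat) (Atab_346) (Atab_347) (Nat.ble 347 c)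
noncomputable def Atab_s_349_351 (c : Nat) : Nat := @Bool.rec (fun _ => Nat) (Atab_349) (Atab_350) (Nat.ble 350 c)
noncomputable def Atab_s_348_351 (c : Nat) : Nat := @Bool.rec (fun _ => Nat) (Atab_348) (Atab_s_349_351 c) (Nat.ble 349 c)
noncomputable def Atab_s_346_351 (c : Nat) : Nat := @Bool.rec (fun _ => Nat) (Atab_s_346_348 c) (Atab_s_348_351 c) (Nat.ble 348 c)
noncomputable def Atab_s_351_353 (c : Nat) : Nat := @Bool.rec (fun _ => Nat) (Atab_351) (Atab_352) (Nat.ble 352 c)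
noncomputable def Atab_s_354_356 (c : Nat) : Nat := @Bool.rec (fun _ => Nat) (Atab_354) (Atab_355) (Nat.ble 355 c)
noncomputable def Atab_s_353_356 (c : Nat) : Nat := @Bool.rec (fun _ => Nat) (Atab_353) (Atab_s_354_356 c) (Nat.ble 354 c)
noncomputable def Atab_s_351_356 (c : Nat) : Nat := @Bool.rec (fun _ => Nat) (Atab_s_351_353 c) (Atab_s_353_356 c) (Nat.ble 353 c)
noncomputable def Atab_s_346_356 (c : Nat) : Nat := @Bool.rec (fun _ => Nat) (Atab_s_346_351 c) (Atab_s_351_356 c) (Nat.ble 351 c)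
noncomputable def Atab_s_356_358 (c : Nat) : Nat := @Bool.rec (fun _ => Nat) (Atab_356) (Atab_357) (Nat.ble 357 c)
noncomputable def Atab_s_359_361 (c : Nat) : Nat := @Bool.rec (fun _ => Nat) (Atab_359) (Atab_360) (Nat.ble 360 c)
noncomputable def Atab_s_358_361 (c : Nat) : Nat := @Bool.rec (fun _ => Nat) (Atab_358) (Atab_s_359_361 c) (Nat.ble 359 c)
noncomputable def Atab_s_356_361 (c : Nat) : Nat := @Bool.rec (fun _ => Nat) (Atab_s_356_358 c) (Atab_s_358_361 c) (Nat.ble 358 c)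
noncomputable def Atab_s_362_364 (c : Nat) : Nat := @Bool.rec (fun _ => Nat) (Atab_362) (Atab_363) (Nat.ble 363 c)
noncomputable def Atab_s_361_364 (c : Nat) : Nat := @Bool.rec (fun _ => Nat) (Atab_361) (Atab_s_362_364 c) (Nat.ble 362 c)
noncomputable def Atab_s_365_367 (c : Nat) : Nat := @Bool.rec (fun _ => Nat) (Atab_365) (Atab_366) (Nat.ble 366 c)
noncomputable def Atab_s_364_367 (c : Nat) : Nat := @Bool.rec (fun _ => Nat) (Atab_364) (Atab_s_365_367 c) (Nat.ble 365 c)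
noncomputable def Atab_s_361_367 (c : Nat) : Nat := @Bool.rec (fun _ => Nat) (Atab_s_361_364 c) (Atab_s_364_367 c) (Nat.ble 364 c)
noncomputable def Atab_s_356_367 (c : Nat) : Nat := @Bool.rec (fun _ => Nat) (Atab_s_356_361 c) (Atab_s_361_367 c) (Nat.ble 361 c)
noncomputable def Atab_s_346_367 (c : Nat) : Nat := @Bool.rec (fun _ => Nat) (Atab_s_346_356 c) (Atab_s_356_367 c) (Nat.ble 356 c)
noncomputable def Atab_s_367_369 (c : Nat) : Nat := @Bool.rec (fun _ => Nat) (Atab_367) (Atab_368) (Nat.ble 368 c)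
noncomputable def Atab_s_370_372 (c : Nat) : Nat := @Bool.rec (fun _ => Nat) (Atab_370) (Atab_371) (Nat.ble 371 c)
noncomputable def Atab_s_369_372 (c : Nat) : Nat := @Bool.rec (fun _ => Nat) (Atab_369) (Atab_s_370_372 c) (Nat.ble 370 c)
noncomputable def Atab_s_367_372 (c : Nat) : Nat := @Bool.rec (fun _ => Nat) (Atab_s_367_369 c) (Atab_s_369_372 c) (Nat.ble 369 c)
noncomputable def Atab_s_373_375 (c : Nat) : Nat := @Bool.rec (fun _ => Nat) (Atab_373) (Atab_374) (Nat.ble 374 c)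
noncomputable def Atab_s_372_375 (c : Nat) : Nat := @Bool.rec (fun _ => Nat) (Atab_372) (Atab_s_373_375 c) (Nat.ble 373 c)
noncomputable def Atab_s_376_378 (c : Nat) : Nat := @Bool.rec (fun _ => Nat) (Atab_376) (Atab_377) (Nat.ble 377 c)
noncomputable def Atab_s_375_378 (c : Nat) : Nat := @Bool.rec (fun _ => Nat) (Atab_375) (Atab_s_376_378 c) (Nat.ble 376 c)
noncomputable def Atab_s_372_378 (c : Nat) : Nat := @Bool.rec (fun _ => Nat) (Atab_s_372_375 c) (Atab_s_375_378 c) (Nat.ble 375 c)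
noncomputable def Atab_s_367_378 (c : Nat) : Nat := @Bool.rec (fun _ => Nat) (Atab_s_367_372 c) (Atab_s_372_378 c) (Nat.ble 372 c)
noncomputable def Atab_s_378_380 (c : Nat) : Nat := @Bool.rec (fun _ => Nat) (Atab_378) (Atab_379) (Nat.ble 379 c)
noncomputable def Atab_s_381_383 (c : Nat) : Nat := @Bool.rec (fun _ => Nat) (Atab_381) (Atab_382) (Nat.ble 382 c)
noncomputable def Atab_s_380_383 (c : Nat) : Nat := @Bool.rec (fun _ => Nat) (Atab_380) (Atab_s_381_383 c) (Nat.ble 381 c)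
noncomputable def Atab_s_378_383 (c : Nat) : Nat := @Bool.rec (fun _ => Nat) (Atab_s_378_380 c) (Atab_s_380_383 c) (Nat.ble 380 c)
noncomputable def Atab_s_384_386 (c : Nat) : Nat := @Bool.rec (fun _ => Nat) (Atab_384) (Atab_385) (Nat.ble 385 c)
noncomputable def Atab_s_383_386 (c : Nat) : Nat := @Bool.rec (fun _ => Nat) (Atab_383) (Atab_s_384_386 c) (Nat.ble 384 c)
noncomputable def Atab_s_387_389 (c : Nat) : Nat := @Bool.rec (fun _ => Nat) (Atab_387) (Atab_388) (Nat.ble 388 c)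
noncomputable def Atab_s_386_389 (c : Nat) : Nat := @Bool.rec (fun _ => Nat) (Atab_386) (Atab_s_387_389 c) (Nat.ble 387 c)
noncomputable def Atab_s_383_389 (c : Nat) : Nat := @Bool.rec (fun _ => Nat) (Atab_s_383_386 c) (Atab_s_386_389 c) (Nat.ble 386 c)
noncomputable def Atab_s_378_389 (c : Nat) : Nat := @Bool.rec (fun _ => Nat) (Atab_s_378_383 c) (Atab_s_383_389 c) (Nat.ble 383 c)
noncomputable def Atab_s_367_389 (c : Nat) : Nat := @Bool.rec (fun _ => Nat) (Atab_s_367_378 c) (Atab_s_378_389 c) (Nat.ble 378 c)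
noncomputable def Atab_s_346_389 (c : Nat) : Nat := @Bool.rec (fun _ => Nat) (Atab_s_346_367 c) (Atab_s_367_389 c) (Nat.ble 367 c)
noncomputable def Atab_s_389_391 (c : Nat) : Nat := @Bool.rec (fun _ => Nat) (Atab_389) (Atab_390) (Nat.ble 390 c)
noncomputable def Atab_s_392_394 (c : Nat) : Nat := @Bool.rec (fun _ => Nat) (Atab_392) (Atab_393) (Nat.ble 393 c)
noncomputable def Atab_s_391_394 (c : Nat) : Nat := @Bool.rec (fun _ => Nat) (Atab_391) (Atab_s_392_394 c) (Nat.ble 392 c)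
noncomputable def Atab_s_389_394 (c : Nat) : Nat := @Bool.rec (fun _ => Nat) (Atab_s_389_391 c) (Atab_s_391_394 c) (Nat.ble 391 c)
noncomputable def Atab_s_394_396 (c : Nat) : Nat := @Bool.rec (fun _ => Nat) (Atab_394) (Atab_395) (Nat.ble 395 c)
noncomputable def Atab_s_397_399 (c : Nat) : Nat := @Bool.rec (fun _ => Nat) (Atab_397) (Atab_398) (Nat.ble 398 c)
noncomputable def Atab_s_396_399 (c : Nat) : Nat := @Bool.rec (fun _ => Nat) (Atab_396) (Atab_s_397_399 c) (Nat.ble 397 c)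
noncomputable def Atab_s_394_399 (c : Nat) : Nat := @Bool.rec (fun _ => Nat) (Atab_s_394_396 c) (Atab_s_396_399 c) (Nat.ble 396 c)
noncomputable def Atab_s_389_399 (c : Nat) : Nat := @Bool.rec (fun _ => Nat) (Atab_s_389_394 c) (Atab_s_394_399 c) (Nat.ble 394 c)
noncomputable def Atab_s_399_401 (c : Nat) : Nat := @Bool.rec (fun _ => Nat) (Atab_399) (Atab_400) (Nat.ble 400 c)
noncomputable def Atab_s_402_404 (c : Nat) : Nat := @Bool.rec (fun _ => Nat) (Atab_402) (Atab_403) (Nat.ble 403 c)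
noncomputable def Atab_s_401_404 (c : Nat) : Nat := @Bool.rec (fun _ => Nat) (Atab_401) (Atab_s_402_404 c) (Nat.ble 402 c)
noncomputable def Atab_s_399_404 (c : Nat) : Nat := @Bool.rec (fun _ => Nat) (Atab_s_399_401 c) (Atab_s_401_404 c) (Nat.ble 401 c)
noncomputable def Atab_s_405_407 (c : Nat) : Nat := @Bool.rec (fun _ => Nat) (Atab_405) (Atab_406) (Nat.ble 406 c)
noncomputable def Atab_s_404_407 (c : Nat) : Nat := @Bool.rec (fun _ => Nat) (Atab_404) (Atab_s_405_407 c) (Nat.ble 405 c)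
noncomputable def Atab_s_408_410 (c : Nat) : Nat := @Bool.rec (fun _ => Nat) (Atab_408) (Atab_409) (Nat.ble 409 c)
noncomputable def Atab_s_407_410 (c : Nat) : Nat := @Bool.rec (fun _ => Nat) (Atab_407) (Atab_s_408_410 c) (Nat.ble 408 c)
noncomputable def Atab_s_404_410 (c : Nat) : Nat := @Bool.rec (fun _ => Nat) (Atab_s_404_407 c) (Atab_s_407_410 c) (Nat.ble 407 c)
noncomputable def Atab_s_399_410 (c : Nat) : Nat := @Bool.rec (fun _ => Nat) (Atab_s_399_404 c) (Atab_s_404_410 c) (Nat.ble 404 c)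
noncomputable def Atab_s_389_410 (c : Nat) : Nat := @Bool.rec (fun _ => Nat) (Atab_s_389_399 c) (Atab_s_399_410 c) (Nat.ble 399 c)
noncomputable def Atab_s_410_412 (c : Nat) : Nat := @Bool.rec (fun _ => Nat) (Atab_410) (Atab_411) (Nat.ble 411 c)
noncomputable def Atab_s_413_415 (c : Nat) : Nat := @Bool.rec (fun _ => Nat) (Atab_413) (Atab_414) (Nat.ble 414 c)
noncomputable def Atab_s_412_415 (c : Nat) : Nat := @Bool.rec (fun _ => Nat) (Atab_412) (Atab_s_413_415 c) (Nat.ble 413 c)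
noncomputable def Atab_s_410_415 (c : Nat) : Nat := @Bool.rec (fun _ => Nat) (Atab_s_410_412 c) (Atab_s_412_415 c) (Nat.ble 412 c)
noncomputable def Atab_s_416_418 (c : Nat) : Nat := @Bool.rec (fun _ => Nat) (Atab_416) (Atab_417) (Nat.ble 417 c)
noncomputable def Atab_s_415_418 (c : Nat) : Nat := @Bool.rec (fun _ => Nat) (Atab_415) (Atab_s_416_418 c) (Nat.ble 416 c)
noncomputable def Atab_s_419_421 (c : Nat) : Nat := @Bool.rec (fun _ => Nat) (Atab_419) (Atab_420) (Nat.ble 420 c)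
noncomputable def Atab_s_418_421 (c : Nat) : Nat := @Bool.rec (fun _ => Nat) (Atab_418) (Atab_s_419_421 c) (Nat.ble 419 c)
noncomputable def Atab_s_415_421 (c : Nat) : Nat := @Bool.rec (fun _ => Nat) (Atab_s_415_418 c) (Atab_s_418_421 c) (Nat.ble 418 c)
noncomputable def Atab_s_410_421 (c : Nat) : Nat := @Bool.rec (fun _ => Nat) (Atab_s_410_415 c) (Atab_s_415_421 c) (Nat.ble 415 c)
noncomputable def Atab_s_421_423 (c : Nat) : Nat := @Bool.rec (fun _ => Nat) (Atab_421) (Atab_422) (Nat.ble 422 c)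
noncomputable def Atab_s_424_426 (c : Nat) : Nat := @Bool.rec (fun _ => Nat) (Atab_424) (Atab_425) (Nat.ble 425 c)
noncomputable def Atab_s_423_426 (c : Nat) : Nat := @Bool.rec (fun _ => Nat) (Atab_423) (Atab_s_424_426 c) (Nat.ble 424 c)
noncomputable def Atab_s_421_426 (c : Nat) : Nat := @Bool.rec (fun _ => Nat) (Atab_s_421_423 c) (Atab_s_423_426 c) (Nat.ble 423 c)
noncomputable def Atab_s_427_429 (c : Nat) : Nat := @Bool.rec (fun _ => Nat) (Atab_427) (Atab_428) (Nat.ble 428 c)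
noncomputable def Atab_s_426_429 (c : Nat) : Nat := @Bool.rec (fun _ => Nat) (Atab_426) (Atab_s_427_429 c) (Nat.ble 427 c)
noncomputable def Atab_s_430_432 (c : Nat) : Nat := @Bool.rec (fun _ => Nat) (Atab_430) (Atab_431) (Nat.ble 431 c)
noncomputable def Atab_s_429_432 (c : Nat) : Nat := @Bool.rec (fun _ => Nat) (Atab_429) (Atab_s_430_432 c) (Nat.ble 430 c)
noncomputable def Atab_s_426_432 (c : Nat) : Nat := @Bool.rec (fun _ => Nat) (Atab_s_426_429 c) (Atab_s_429_432 c) (Nat.ble 429 c)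
noncomputable def Atab_s_421_432 (c : Nat) : Nat := @Bool.rec (fun _ => Nat) (Atab_s_421_426 c) (Atab_s_426_432 c) (Nat.ble 426 c)
noncomputable def Atab_s_410_432 (c : Nat) : Nat := @Bool.rec (fun _ => Nat) (Atab_s_410_421 c) (Atab_s_421_432 c) (Nat.ble 421 c)
noncomputable def Atab_s_389_432 (c : Nat) : Nat := @Bool.rec (fun _ => Nat) (Atab_s_389_410 c) (Atab_s_410_432 c) (Nat.ble 410 c)
noncomputable def Atab_s_346_432 (c : Nat) : Nat := @Bool.rec (fun _ => Nat) (Atab_s_346_389 c) (Atab_s_389_432 c) (Nat.ble 389 c)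
noncomputable def Atab_s_432_434 (c : Nat) : Nat := @Bool.rec (fun _ => Nat) (Atab_432) (Atab_433) (Nat.ble 433 c)
noncomputable def Atab_s_435_437 (c : Nat) : Nat := @Bool.rec (fun _ => Nat) (Atab_435) (Atab_436) (Nat.ble 436 c)
noncomputable def Atab_s_434_437 (c : Nat) : Nat := @Bool.rec (fun _ => Nat) (Atab_434) (Atab_s_435_437 c) (Nat.ble 435 c)
noncomputable def Atab_s_432_437 (c : Nat) : Nat := @Bool.rec (fun _ => Nat) (Atab_s_432_434 c) (Atab_s_434_437 c) (Nat.ble 434 c)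
noncomputable def Atab_s_437_439 (c : Nat) : Nat := @Bool.rec (fun _ => Nat) (Atab_437) (Atab_438) (Nat.ble 438 c)
noncomputable def Atab_s_440_442 (c : Nat) : Nat := @Bool.rec (fun _ => Nat) (Atab_440) (Atab_441) (Nat.ble 441 c)
noncomputable def Atab_s_439_442 (c : Nat) : Nat := @Bool.rec (fun _ => Nat) (Atab_439) (Atab_s_440_442 c) (Nat.ble 440 c)
noncomputable def Atab_s_437_442 (c : Nat) : Nat := @Bool.rec (fun _ => Nat) (Atab_s_437_439 c) (Atab_s_439_442 c) (Nat.ble 439 c)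
noncomputable def Atab_s_432_442 (c : Nat) : Nat := @Bool.rec (fun _ => Nat) (Atab_s_432_437 c) (Atab_s_437_442 c) (Nat.ble 437 c)
noncomputable def Atab_s_442_444 (c : Nat) : Nat := @Bool.rec (fun _ => Nat) (Atab_442) (Atab_443) (Nat.ble 443 c)
noncomputable def Atab_s_445_447 (c : Nat) : Nat := @Bool.rec (fun _ => Nat) (Atab_445) (Atab_446) (Nat.ble 446 c)
noncomputable def Atab_s_444_447 (c : Nat) : Nat := @Bool.rec (fun _ => Nat) (Atab_444) (Atab_s_445_447 c) (Nat.ble 445 c)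
noncomputable def Atab_s_442_447 (c : Nat) : Nat := @Bool.rec (fun _ => Nat) (Atab_s_442_444 c) (Atab_s_444_447 c) (Nat.ble 444 c)
noncomputable def Atab_s_448_450 (c : Nat) : Nat := @Bool.rec (fun _ => Nat) (Atab_448) (Atab_449) (Nat.ble 449 c)
noncomputable def Atab_s_447_450 (c : Nat) : Nat := @Bool.rec (fun _ => Nat) (Atab_447) (Atab_s_448_450 c) (Nat.ble 448 c)
noncomputable def Atab_s_451_453 (c : Nat) : Nat := @Bool.rec (fun _ => Nat) (Atab_451) (Atab_452) (Nat.ble 452 c)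
noncomputable def Atab_s_450_453 (c : Nat) : Nat := @Bool.rec (fun _ => Nat) (Atab_450) (Atab_s_451_453 c) (Nat.ble 451 c)
noncomputable def Atab_s_447_453 (c : Nat) : Nat := @Bool.rec (fun _ => Nat) (Atab_s_447_450 c) (Atab_s_450_453 c) (Nat.ble 450 c)
noncomputable def Atab_s_442_453 (c : Nat) : Nat := @Bool.rec (fun _ => Nat) (Atab_s_442_447 c) (Atab_s_447_453 c) (Nat.ble 447 c)
noncomputable def Atab_s_432_453 (c : Nat) : Nat := @Bool.rec (fun _ => Nat) (Atab_s_432_442 c) (Atab_s_442_453 c) (Nat.ble 442 c)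
noncomputable def Atab_s_453_455 (c : Nat) : Nat := @Bool.rec (fun _ => Nat) (Atab_453) (Atab_454) (Nat.ble 454 c)
noncomputable def Atab_s_456_458 (c : Nat) : Nat := @Bool.rec (fun _ => Nat) (Atab_456) (Atab_457) (Nat.ble 457 c)
noncomputable def Atab_s_455_458 (c : Nat) : Nat := @Bool.rec (fun _ => Nat) (Atab_455) (Atab_s_456_458 c) (Nat.ble 456 c)
noncomputable def Atab_s_453_458 (c : Nat) : Nat := @Bool.rec (fun _ => Nat) (Atab_s_453_455 c) (Atab_s_455_458 c) (Nat.ble 455 c)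
noncomputable def Atab_s_459_461 (c : Nat) : Nat := @Bool.rec (fun _ => Nat) (Atab_459) (Atab_460) (Nat.ble 460 c)
noncomputable def Atab_s_458_461 (c : Nat) : Nat := @Bool.rec (fun _ => Nat) (Atab_458) (Atab_s_459_461 c) (Nat.ble 459 c)
noncomputable def Atab_s_462_464 (c : Nat) : Nat := @Bool.rec (fun _ => Nat) (Atab_462) (Atab_463) (Nat.ble 463 c)
noncomputable def Atab_s_461_464 (c : Nat) : Nat := @Bool.rec (fun _ => Nat) (Atab_461) (Atab_s_462_464 c) (Nat.ble 462 c)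
noncomputable def Atab_s_458_464 (c : Nat) : Nat := @Bool.rec (fun _ => Nat) (Atab_s_458_461 c) (Atab_s_461_464 c) (Nat.ble 461 c)
noncomputable def Atab_s_453_464 (c : Nat) : Nat := @Bool.rec (fun _ => Nat) (Atab_s_453_458 c) (Atab_s_458_464 c) (Nat.ble 458 c)
noncomputable def Atab_s_464_466 (c : Nat) : Nat := @Bool.rec (fun _ => Nat) (Atab_464) (Atab_465) (Nat.ble 465 c)
noncomputable def Atab_s_467_469 (c : Nat) : Nat := @Bool.rec (fun _ => Nat) (Atab_467) (Atab_468) (Nat.ble 468 c)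
noncomputable def Atab_s_466_469 (c : Nat) : Nat := @Bool.rec (fun _ => Nat) (Atab_466) (Atab_s_467_469 c) (Nat.ble 467 c)
noncomputable def Atab_s_464_469 (c : Nat) : Nat := @Bool.rec (fun _ => Nat) (Atab_s_464_466 c) (Atab_s_466_469 c) (Nat.ble 466 c)
noncomputable def Atab_s_470_472 (c : Nat) : Nat := @Bool.rec (fun _ => Nat) (Atab_470) (Atab_471) (Nat.ble 471 c)
noncomputable def Atab_s_469_472 (c : Nat) : Nat := @Bool.rec (fun _ => Nat) (Atab_469) (Atab_s_470_472 c) (Nat.ble 470 c)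
noncomputable def Atab_s_473_475 (c : Nat) : Nat := @Bool.rec (fun _ => Nat) (Atab_473) (Atab_474) (Nat.ble 474 c)
noncomputable def Atab_s_472_475 (c : Nat) : Nat := @Bool.rec (fun _ => Nat) (Atab_472) (Atab_s_473_475 c) (Nat.ble 473 c)
noncomputable def Atab_s_469_475 (c : Nat) : Nat := @Bool.rec (fun _ => Nat) (Atab_s_469_472 c) (Atab_s_472_475 c) (Nat.ble 472 c)
noncomputable def Atab_s_464_475 (c : Nat) : Nat := @Bool.rec (fun _ => Nat) (Atab_s_464_469 c) (Atab_s_469_475 c) (Nat.ble 469 c)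
noncomputable def Atab_s_453_475 (c : Nat) : Nat := @Bool.rec (fun _ => Nat) (Atab_s_453_464 c) (Atab_s_464_475 c) (Nat.ble 464 c)
noncomputable def Atab_s_432_475 (c : Nat) : Nat := @Bool.rec (fun _ => Nat) (Atab_s_432_453 c) (Atab_s_453_475 c) (Nat.ble 453 c)
noncomputable def Atab_s_475_477 (c : Nat) : Nat := @Bool.rec (fun _ => Nat) (Atab_475) (Atab_476) (Nat.ble 476 c)
noncomputable def Atab_s_478_480 (c : Nat) : Nat := @Bool.rec (fun _ => Nat) (Atab_478) (Atab_479) (Nat.ble 479 c)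
noncomputable def Atab_s_477_480 (c : Nat) : Nat := @Bool.rec (fun _ => Nat) (Atab_477) (Atab_s_478_480 c) (Nat.ble 478 c)
noncomputable def Atab_s_475_480 (c : Nat) : Nat := @Bool.rec (fun _ => Nat) (Atab_s_475_477 c) (Atab_s_477_480 c) (Nat.ble 477 c)
noncomputable def Atab_s_481_483 (c : Nat) : Nat := @Bool.rec (fun _ => Nat) (Atab_481) (Atab_482) (Nat.ble 482 c)
noncomputable def Atab_s_480_483 (c : Nat) : Nat := @Bool.rec (fun _ => Nat) (Atab_480) (Atab_s_481_483 c) (Nat.ble 481 c)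
noncomputable def Atab_s_484_486 (c : Nat) : Nat := @Bool.rec (fun _ => Nat) (Atab_484) (Atab_485) (Nat.ble 485 c)
noncomputable def Atab_s_483_486 (c : Nat) : Nat := @Bool.rec (fun _ => Nat) (Atab_483) (Atab_s_484_486 c) (Nat.ble 484 c)
noncomputable def Atab_s_480_486 (c : Nat) : Nat := @Bool.rec (fun _ => Nat) (Atab_s_480_483 c) (Atab_s_483_486 c) (Nat.ble 483 c)
noncomputable def Atab_s_475_486 (c : Nat) : Nat := @Bool.rec (fun _ => Nat) (Atab_s_475_480 c) (Atab_s_480_486 c) (Nat.ble 480 c)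
noncomputable def Atab_s_486_488 (c : Nat) : Nat := @Bool.rec (fun _ => Nat) (Atab_486) (Atab_487) (Nat.ble 487 c)
noncomputable def Atab_s_489_491 (c : Nat) : Nat := @Bool.rec (fun _ => Nat) (Atab_489) (Atab_490) (Nat.ble 490 c)
noncomputable def Atab_s_488_491 (c : Nat) : Nat := @Bool.rec (fun _ => Nat) (Atab_488) (Atab_s_489_491 c) (Nat.ble 489 c)
noncomputable def Atab_s_486_491 (c : Nat) : Nat := @Bool.rec (fun _ => Nat) (Atab_s_486_488 c) (Atab_s_488_491 c) (Nat.ble 488 c)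
noncomputable def Atab_s_492_494 (c : Nat) : Nat := @Bool.rec (fun _ => Nat) (Atab_492) (Atab_493) (Nat.ble 493 c)
noncomputable def Atab_s_491_494 (c : Nat) : Nat := @Bool.rec (fun _ => Nat) (Atab_491) (Atab_s_492_494 c) (Nat.ble 492 c)
noncomputable def Atab_s_495_497 (c : Nat) : Nat := @Bool.rec (fun _ => Nat) (Atab_495) (Atab_496) (Nat.ble 496 c)
noncomputable def Atab_s_494_497 (c : Nat) : Nat := @Bool.rec (fun _ => Nat) (Atab_494) (Atab_s_495_497 c) (Nat.ble 495 c)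
noncomputable def Atab_s_491_497 (c : Nat) : Nat := @Bool.rec (fun _ => Nat) (Atab_s_491_494 c) (Atab_s_494_497 c) (Nat.ble 494 c)
noncomputable def Atab_s_486_497 (c : Nat) : Nat := @Bool.rec (fun _ => Nat) (Atab_s_486_491 c) (Atab_s_491_497 c) (Nat.ble 491 c)
noncomputable def Atab_s_475_497 (c : Nat) : Nat := @Bool.rec (fun _ => Nat) (Atab_s_475_486 c) (Atab_s_486_497 c) (Nat.ble 486 c)
noncomputable def Atab_s_497_499 (c : Nat) : Nat := @Bool.rec (fun _ => Nat) (Atab_497) (Atab_498) (Nat.ble 498 c)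
noncomputable def Atab_s_500_502 (c : Nat) : Nat := @Bool.rec (fun _ => Nat) (Atab_500) (Atab_501) (Nat.ble 501 c)
noncomputable def Atab_s_499_502 (c : Nat) : Nat := @Bool.rec (fun _ => Nat) (Atab_499) (Atab_s_500_502 c) (Nat.ble 500 c)
noncomputable def Atab_s_497_502 (c : Nat) : Nat := @Bool.rec (fun _ => Nat) (Atab_s_497_499 c) (Atab_s_499_502 c) (Nat.ble 499 c)
noncomputable def Atab_s_503_505 (c : Nat) : Nat := @Bool.rec (fun _ => Nat) (Atab_503) (Atab_504) (Nat.ble 504 c)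
noncomputable def Atab_s_502_505 (c : Nat) : Nat := @Bool.rec (fun _ => Nat) (Atab_502) (Atab_s_503_505 c) (Nat.ble 503 c)
noncomputable def Atab_s_506_508 (c : Nat) : Nat := @Bool.rec (fun _ => Nat) (Atab_506) (Atab_507) (Nat.ble 507 c)
noncomputable def Atab_s_505_508 (c : Nat) : Nat := @Bool.rec (fun _ => Nat) (Atab_505) (Atab_s_506_508 c) (Nat.ble 506 c)
noncomputable def Atab_s_502_508 (c : Nat) : Nat := @Bool.rec (fun _ => Nat) (Atab_s_502_505 c) (Atab_s_505_508 c) (Nat.ble 505 c)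
noncomputable def Atab_s_497_508 (c : Nat) : Nat := @Bool.rec (fun _ => Nat) (Atab_s_497_502 c) (Atab_s_502_508 c) (Nat.ble 502 c)
noncomputable def Atab_s_508_510 (c : Nat) : Nat := @Bool.rec (fun _ => Nat) (Atab_508) (Atab_509) (Nat.ble 509 c)
noncomputable def Atab_s_511_513 (c : Nat) : Nat := @Bool.rec (fun _ => Nat) (Atab_511) (Atab_512) (Nat.ble 512 c)
noncomputable def Atab_s_510_513 (c : Nat) : Nat := @Bool.rec (fun _ => Nat) (Atab_510) (Atab_s_511_513 c) (Nat.ble 511 c)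
noncomputable def Atab_s_508_513 (c : Nat) : Nat := @Bool.rec (fun _ => Nat) (Atab_s_508_510 c) (Atab_s_510_513 c) (Nat.ble 510 c)
noncomputable def Atab_s_514_516 (c : Nat) : Nat := @Bool.rec (fun _ => Nat) (Atab_514) (Atab_515) (Nat.ble 515 c)
noncomputable def Atab_s_513_516 (c : Nat) : Nat := @Bool.rec (fun _ => Nat) (Atab_513) (Atab_s_514_516 c) (Nat.ble 514 c)
noncomputable def Atab_s_517_519 (c : Nat) : Nat := @Bool.rec (fun _ => Nat) (Atab_517) (Atab_518) (Nat.ble 518 c)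
noncomputable def Atab_s_516_519 (c : Nat) : Nat := @Bool.rec (fun _ => Nat) (Atab_516) (Atab_s_517_519 c) (Nat.ble 517 c)
noncomputable def Atab_s_513_519 (c : Nat) : Nat := @Bool.rec (fun _ => Nat) (Atab_s_513_516 c) (Atab_s_516_519 c) (Nat.ble 516 c)
noncomputable def Atab_s_508_519 (c : Nat) : Nat := @Bool.rec (fun _ => Nat) (Atab_s_508_513 c) (Atab_s_513_519 c) (Nat.ble 513 c)
noncomputable def Atab_s_497_519 (c : Nat) : Nat := @Bool.rec (fun _ => Nat) (Atab_s_497_508 c) (Atab_s_508_519 c) (Nat.ble 508 c)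
noncomputable def Atab_s_475_519 (c : Nat) : Nat := @Bool.rec (fun _ => Nat) (Atab_s_475_497 c) (Atab_s_497_519 c) (Nat.ble 497 c)
noncomputable def Atab_s_432_519 (c : Nat) : Nat := @Bool.rec (fun _ => Nat) (Atab_s_432_475 c) (Atab_s_475_519 c) (Nat.ble 475 c)
noncomputable def Atab_s_346_519 (c : Nat) : Nat := @Bool.rec (fun _ => Nat) (Atab_s_346_432 c) (Atab_s_432_519 c) (Nat.ble 432 c)
noncomputable def Atab_s_519_521 (c : Nat) : Nat := @Bool.rec (fun _ => Nat) (Atab_519) (Atab_520) (Nat.ble 520 c)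
noncomputable def Atab_s_522_524 (c : Nat) : Nat := @Bool.rec (fun _ => Nat) (Atab_522) (Atab_523) (Nat.ble 523 c)
noncomputable def Atab_s_521_524 (c : Nat) : Nat := @Bool.rec (fun _ => Nat) (Atab_521) (Atab_s_522_524 c) (Nat.ble 522 c)
noncomputable def Atab_s_519_524 (c : Nat) : Nat := @Bool.rec (fun _ => Nat) (Atab_s_519_521 c) (Atab_s_521_524 c) (Nat.ble 521 c)
noncomputable def Atab_s_524_526 (c : Nat) : Nat := @Bool.rec (fun _ => Nat) (Atab_524) (Atab_525) (Nat.ble 525 c)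
noncomputable def Atab_s_527_529 (c : Nat) : Nat := @Bool.rec (fun _ => Nat) (Atab_527) (Atab_528) (Nat.ble 528 c)
noncomputable def Atab_s_526_529 (c : Nat) : Nat := @Bool.rec (fun _ => Nat) (Atab_526) (Atab_s_527_529 c) (Nat.ble 527 c)
noncomputable def Atab_s_524_529 (c : Nat) : Nat := @Bool.rec (fun _ => Nat) (Atab_s_524_526 c) (Atab_s_526_529 c) (Nat.ble 526 c)
noncomputable def Atab_s_519_529 (c : Nat) : Nat := @Bool.rec (fun _ => Nat) (Atab_s_519_524 c) (Atab_s_524_529 c) (Nat.ble 524 c)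
noncomputable def Atab_s_529_531 (c : Nat) : Nat := @Bool.rec (fun _ => Nat) (Atab_529) (Atab_530) (Nat.ble 530 c)
noncomputable def Atab_s_532_534 (c : Nat) : Nat := @Bool.rec (fun _ => Nat) (Atab_532) (Atab_533) (Nat.ble 533 c)
noncomputable def Atab_s_531_534 (c : Nat) : Nat := @Bool.rec (fun _ => Nat) (Atab_531) (Atab_s_532_534 c) (Nat.ble 532 c)
noncomputable def Atab_s_529_534 (c : Nat) : Nat := @Bool.rec (fun _ => Nat) (Atab_s_529_531 c) (Atab_s_531_534 c) (Nat.ble 531 c)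
noncomputable def Atab_s_535_537 (c : Nat) : Nat := @Bool.rec (fun _ => Nat) (Atab_535) (Atab_536) (Nat.ble 536 c)
noncomputable def Atab_s_534_537 (c : Nat) : Nat := @Bool.rec (fun _ => Nat) (Atab_534) (Atab_s_535_537 c) (Nat.ble 535 c)
noncomputable def Atab_s_538_540 (c : Nat) : Nat := @Bool.rec (fun _ => Nat) (Atab_538) (Atab_539) (Nat.ble 539 c)
noncomputable def Atab_s_537_540 (c : Nat) : Nat := @Bool.rec (fun _ => Nat) (Atab_537) (Atab_s_538_540 c) (Nat.ble 538 c)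
noncomputable def Atab_s_534_540 (c : Nat) : Nat := @Bool.rec (fun _ => Nat) (Atab_s_534_537 c) (Atab_s_537_540 c) (Nat.ble 537 c)
noncomputable def Atab_s_529_540 (c : Nat) : Nat := @Bool.rec (fun _ => Nat) (Atab_s_529_534 c) (Atab_s_534_540 c) (Nat.ble 534 c)
noncomputable def Atab_s_519_540 (c : Nat) : Nat := @Bool.rec (fun _ => Nat) (Atab_s_519_529 c) (Atab_s_529_540 c) (Nat.ble 529 c)
noncomputable def Atab_s_540_542 (c : Nat) : Nat := @Bool.rec (fun _ => Nat) (Atab_540) (Atab_541) (Nat.ble 541 c)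
noncomputable def Atab_s_543_545 (c : Nat) : Nat := @Bool.rec (fun _ => Nat) (Atab_543) (Atab_544) (Nat.ble 544 c)
noncomputable def Atab_s_542_545 (c : Nat) : Nat := @Bool.rec (fun _ => Nat) (Atab_542) (Atab_s_543_545 c) (Nat.ble 543 c)
noncomputable def Atab_s_540_545 (c : Nat) : Nat := @Bool.rec (fun _ => Nat) (Atab_s_540_542 c) (Atab_s_542_545 c) (Nat.ble 542 c)
noncomputable def Atab_s_546_548 (c : Nat) : Nat := @Bool.rec (fun _ => Nat) (Atab_546) (Atab_547) (Nat.ble 547 c)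
noncomputable def Atab_s_545_548 (c : Nat) : Nat := @Bool.rec (fun _ => Nat) (Atab_545) (Atab_s_546_548 c) (Nat.ble 546 c)
noncomputable def Atab_s_549_551 (c : Nat) : Nat := @Bool.rec (fun _ => Nat) (Atab_549) (Atab_550) (Nat.ble 550 c)
noncomputable def Atab_s_548_551 (c : Nat) : Nat := @Bool.rec (fun _ => Nat) (Atab_548) (Atab_s_549_551 c) (Nat.ble 549 c)
noncomputable def Atab_s_545_551 (c : Nat) : Nat := @Bool.rec (fun _ => Nat) (Atab_s_545_548 c) (Atab_s_548_551 c) (Nat.ble 548 c)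
noncomputable def Atab_s_540_551 (c : Nat) : Nat := @Bool.rec (fun _ => Nat) (Atab_s_540_545 c) (Atab_s_545_551 c) (Nat.ble 545 c)
noncomputable def Atab_s_551_553 (c : Nat) : Nat := @Bool.rec (fun _ => Nat) (Atab_551) (Atab_552) (Nat.ble 552 c)
noncomputable def Atab_s_554_556 (c : Nat) : Nat := @Bool.rec (fun _ => Nat) (Atab_554) (Atab_555) (Nat.ble 555 c)
noncomputable def Atab_s_553_556 (c : Nat) : Nat := @Bool.rec (fun _ => Nat) (Atab_553) (Atab_s_554_556 c) (Nat.ble 554 c)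
noncomputable def Atab_s_551_556 (c : Nat) : Nat := @Bool.rec (fun _ => Nat) (Atab_s_551_553 c) (Atab_s_553_556 c) (Nat.ble 553 c)
noncomputable def Atab_s_557_559 (c : Nat) : Nat := @Bool.rec (fun _ => Nat) (Atab_557) (Atab_558) (Nat.ble 558 c)
noncomputable def Atab_s_556_559 (c : Nat) : Nat := @Bool.rec (fun _ => Nat) (Atab_556) (Atab_s_557_559 c) (Nat.ble 557 c)
noncomputable def Atab_s_560_562 (c : Nat) : Nat := @Bool.rec (fun _ => Nat) (Atab_560) (Atab_561) (Nat.ble 561 c)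
noncomputable def Atab_s_559_562 (c : Nat) : Nat := @Bool.rec (fun _ => Nat) (Atab_559) (Atab_s_560_562 c) (Nat.ble 560 c)
noncomputable def Atab_s_556_562 (c : Nat) : Nat := @Bool.rec (fun _ => Nat) (Atab_s_556_559 c) (Atab_s_559_562 c) (Nat.ble 559 c)
noncomputable def Atab_s_551_562 (c : Nat) : Nat := @Bool.rec (fun _ => Nat) (Atab_s_551_556 c) (Atab_s_556_562 c) (Nat.ble 556 c)
noncomputable def Atab_s_540_562 (c : Nat) : Nat := @Bool.rec (fun _ => Nat) (Atab_s_540_551 c) (Atab_s_551_562 c) (Nat.ble 551 c)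
noncomputable def Atab_s_519_562 (c : Nat) : Nat := @Bool.rec (fun _ => Nat) (Atab_s_519_540 c) (Atab_s_540_562 c) (Nat.ble 540 c)
noncomputable def Atab_s_562_564 (c : Nat) : Nat := @Bool.rec (fun _ => Nat) (Atab_562) (Atab_563) (Nat.ble 563 c)
noncomputable def Atab_s_565_567 (c : Nat) : Nat := @Bool.rec (fun _ => Nat) (Atab_565) (Atab_566) (Nat.ble 566 c)
noncomputable def Atab_s_564_567 (c : Nat) : Nat := @Bool.rec (fun _ => Nat) (Atab_564) (Atab_s_565_567 c) (Nat.ble 565 c)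
noncomputable def Atab_s_562_567 (c : Nat) : Nat := @Bool.rec (fun _ => Nat) (Atab_s_562_564 c) (Atab_s_564_567 c) (Nat.ble 564 c)
noncomputable def Atab_s_568_570 (c : Nat) : Nat := @Bool.rec (fun _ => Nat) (Atab_568) (Atab_569) (Nat.ble 569 c)
noncomputable def Atab_s_567_570 (c : Nat) : Nat := @Bool.rec (fun _ => Nat) (Atab_567) (Atab_s_568_570 c) (Nat.ble 568 c)
noncomputable def Atab_s_571_573 (c : Nat) : Nat := @Bool.rec (fun _ => Nat) (Atab_571) (Atab_572) (Nat.ble 572 c)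
noncomputable def Atab_s_570_573 (c : Nat) : Nat := @Bool.rec (fun _ => Nat) (Atab_570) (Atab_s_571_573 c) (Nat.ble 571 c)
noncomputable def Atab_s_567_573 (c : Nat) : Nat := @Bool.rec (fun _ => Nat) (Atab_s_567_570 c) (Atab_s_570_573 c) (Nat.ble 570 c)
noncomputable def Atab_s_562_573 (c : Nat) : Nat := @Bool.rec (fun _ => Nat) (Atab_s_562_567 c) (Atab_s_567_573 c) (Nat.ble 567 c)
noncomputable def Atab_s_573_575 (c : Nat) : Nat := @Bool.rec (fun _ => Nat) (Atab_573) (Atab_574) (Nat.ble 574 c)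
noncomputable def Atab_s_576_578 (c : Nat) : Nat := @Bool.rec (fun _ => Nat) (Atab_576) (Atab_577) (Nat.ble 577 c)
noncomputable def Atab_s_575_578 (c : Nat) : Nat := @Bool.rec (fun _ => Nat) (Atab_575) (Atab_s_576_578 c) (Nat.ble 576 c)
noncomputable def Atab_s_573_578 (c : Nat) : Nat := @Bool.rec (fun _ => Nat) (Atab_s_573_575 c) (Atab_s_575_578 c) (Nat.ble 575 c)
noncomputable def Atab_s_579_581 (c : Nat) : Nat := @Bool.rec (fun _ => Nat) (Atab_579) (Atab_580) (Nat.ble 580 c)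
noncomputable def Atab_s_578_581 (c : Nat) : Nat := @Bool.rec (fun _ => Nat) (Atab_578) (Atab_s_579_581 c) (Nat.ble 579 c)
noncomputable def Atab_s_582_584 (c : Nat) : Nat := @Bool.rec (fun _ => Nat) (Atab_582) (Atab_583) (Nat.ble 583 c)
noncomputable def Atab_s_581_584 (c : Nat) : Nat := @Bool.rec (fun _ => Nat) (Atab_581) (Atab_s_582_584 c) (Nat.ble 582 c)
noncomputable def Atab_s_578_584 (c : Nat) : Nat := @Bool.rec (fun _ => Nat) (Atab_s_578_581 c) (Atab_s_581_584 c) (Nat.ble 581 c)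
noncomputable def Atab_s_573_584 (c : Nat) : Nat := @Bool.rec (fun _ => Nat) (Atab_s_573_578 c) (Atab_s_578_584 c) (Nat.ble 578 c)
noncomputable def Atab_s_562_584 (c : Nat) : Nat := @Bool.rec (fun _ => Nat) (Atab_s_562_573 c) (Atab_s_573_584 c) (Nat.ble 573 c)
noncomputable def Atab_s_584_586 (c : Nat) : Nat := @Bool.rec (fun _ => Nat) (Atab_584) (Atab_585) (Nat.ble 585 c)
noncomputable def Atab_s_587_589 (c : Nat) : Nat := @Bool.rec (fun _ => Nat) (Atab_587) (Atab_588) (Nat.ble 588 c)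
noncomputable def Atab_s_586_589 (c : Nat) : Nat := @Bool.rec (fun _ => Nat) (Atab_586) (Atab_s_587_589 c) (Nat.ble 587 c)
noncomputable def Atab_s_584_589 (c : Nat) : Nat := @Bool.rec (fun _ => Nat) (Atab_s_584_586 c) (Atab_s_586_589 c) (Nat.ble 586 c)
noncomputable def Atab_s_590_592 (c : Nat) : Nat := @Bool.rec (fun _ => Nat) (Atab_590) (Atab_591) (Nat.ble 591 c)
noncomputable def Atab_s_589_592 (c : Nat) : Nat := @Bool.rec (fun _ => Nat) (Atab_589) (Atab_s_590_592 c) (Nat.ble 590 c)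
noncomputable def Atab_s_593_595 (c : Nat) : Nat := @Bool.rec (fun _ => Nat) (Atab_593) (Atab_594) (Nat.ble 594 c)
noncomputable def Atab_s_592_595 (c : Nat) : Nat := @Bool.rec (fun _ => Nat) (Atab_592) (Atab_s_593_595 c) (Nat.ble 593 c)
noncomputable def Atab_s_589_595 (c : Nat) : Nat := @Bool.rec (fun _ => Nat) (Atab_s_589_592 c) (Atab_s_592_595 c) (Nat.ble 592 c)
noncomputable def Atab_s_584_595 (c : Nat) : Nat := @Bool.rec (fun _ => Nat) (Atab_s_584_589 c) (Atab_s_589_595 c) (Nat.ble 589 c)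
noncomputable def Atab_s_595_597 (c : Nat) : Nat := @Bool.rec (fun _ => Nat) (Atab_595) (Atab_596) (Nat.ble 596 c)
noncomputable def Atab_s_598_600 (c : Nat) : Nat := @Bool.rec (fun _ => Nat) (Atab_598) (Atab_599) (Nat.ble 599 c)
noncomputable def Atab_s_597_600 (c : Nat) : Nat := @Bool.rec (fun _ => Nat) (Atab_597) (Atab_s_598_600 c) (Nat.ble 598 c)
noncomputable def Atab_s_595_600 (c : Nat) : Nat := @Bool.rec (fun _ => Nat) (Atab_s_595_597 c) (Atab_s_597_600 c) (Nat.ble 597 c)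
noncomputable def Atab_s_601_603 (c : Nat) : Nat := @Bool.rec (fun _ => Nat) (Atab_601) (Atab_602) (Nat.ble 602 c)
noncomputable def Atab_s_600_603 (c : Nat) : Nat := @Bool.rec (fun _ => Nat) (Atab_600) (Atab_s_601_603 c) (Nat.ble 601 c)
noncomputable def Atab_s_604_606 (c : Nat) : Nat := @Bool.rec (fun _ => Nat) (Atab_604) (Atab_605) (Nat.ble 605 c)
noncomputable def Atab_s_603_606 (c : Nat) : Nat := @Bool.rec (fun _ => Nat) (Atab_603) (Atab_s_604_606 c) (Nat.ble 604 c)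
noncomputable def Atab_s_600_606 (c : Nat) : Nat := @Bool.rec (fun _ => Nat) (Atab_s_600_603 c) (Atab_s_603_606 c) (Nat.ble 603 c)
noncomputable def Atab_s_595_606 (c : Nat) : Nat := @Bool.rec (fun _ => Nat) (Atab_s_595_600 c) (Atab_s_600_606 c) (Nat.ble 600 c)
noncomputable def Atab_s_584_606 (c : Nat) : Nat := @Bool.rec (fun _ => Nat) (Atab_s_584_595 c) (Atab_s_595_606 c) (Nat.ble 595 c)
noncomputable def Atab_s_562_606 (c : Nat) : Nat := @Bool.rec (fun _ => Nat) (Atab_s_562_584 c) (Atab_s_584_606 c) (Nat.ble 584 c)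
noncomputable def Atab_s_519_606 (c : Nat) : Nat := @Bool.rec (fun _ => Nat) (Atab_s_519_562 c) (Atab_s_562_606 c) (Nat.ble 562 c)
noncomputable def Atab_s_606_608 (c : Nat) : Nat := @Bool.rec (fun _ => Nat) (Atab_606) (Atab_607) (Nat.ble 607 c)
noncomputable def Atab_s_609_611 (c : Nat) : Nat := @Bool.rec (fun _ => Nat) (Atab_609) (Atab_610) (Nat.ble 610 c)
noncomputable def Atab_s_608_611 (c : Nat) : Nat := @Bool.rec (fun _ => Nat) (Atab_608) (Atab_s_609_611 c) (Nat.ble 609 c)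
noncomputable def Atab_s_606_611 (c : Nat) : Nat := @Bool.rec (fun _ => Nat) (Atab_s_606_608 c) (Atab_s_608_611 c) (Nat.ble 608 c)
noncomputable def Atab_s_611_613 (c : Nat) : Nat := @Bool.rec (fun _ => Nat) (Atab_611) (Atab_612) (Nat.ble 612 c)
noncomputable def Atab_s_614_616 (c : Nat) : Nat := @Bool.rec (fun _ => Nat) (Atab_614) (Atab_615) (Nat.ble 615 c)
noncomputable def Atab_s_613_616 (c : Nat) : Nat := @Bool.rec (fun _ => Nat) (Atab_613) (Atab_s_614_616 c) (Nat.ble 614 c)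
noncomputable def Atab_s_611_616 (c : Nat) : Nat := @Bool.rec (fun _ => Nat) (Atab_s_611_613 c) (Atab_s_613_616 c) (Nat.ble 613 c)
noncomputable def Atab_s_606_616 (c : Nat) : Nat := @Bool.rec (fun _ => Nat) (Atab_s_606_611 c) (Atab_s_611_616 c) (Nat.ble 611 c)
noncomputable def Atab_s_616_618 (c : Nat) : Nat := @Bool.rec (fun _ => Nat) (Atab_616) (Atab_617) (Nat.ble 617 c)
noncomputable def Atab_s_619_621 (c : Nat) : Nat := @Bool.rec (fun _ => Nat) (Atab_619) (Atab_620) (Nat.ble 620 c)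
noncomputable def Atab_s_618_621 (c : Nat) : Nat := @Bool.rec (fun _ => Nat) (Atab_618) (Atab_s_619_621 c) (Nat.ble 619 c)
noncomputable def Atab_s_616_621 (c : Nat) : Nat := @Bool.rec (fun _ => Nat) (Atab_s_616_618 c) (Atab_s_618_621 c) (Nat.ble 618 c)
noncomputable def Atab_s_622_624 (c : Nat) : Nat := @Bool.rec (fun _ => Nat) (Atab_622) (Atab_623) (Nat.ble 623 c)
noncomputable def Atab_s_621_624 (c : Nat) : Nat := @Bool.rec (fun _ => Nat) (Atab_621) (Atab_s_622_624 c) (Nat.ble 622 c)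
noncomputable def Atab_s_625_627 (c : Nat) : Nat := @Bool.rec (fun _ => Nat) (Atab_625) (Atab_626) (Nat.ble 626 c)
noncomputable def Atab_s_624_627 (c : Nat) : Nat := @Bool.rec (fun _ => Nat) (Atab_624) (Atab_s_625_627 c) (Nat.ble 625 c)
noncomputable def Atab_s_621_627 (c : Nat) : Nat := @Bool.rec (fun _ => Nat) (Atab_s_621_624 c) (Atab_s_624_627 c) (Nat.ble 624 c)
noncomputable def Atab_s_616_627 (c : Nat) : Nat := @Bool.rec (fun _ => Nat) (Atab_s_616_621 c) (Atab_s_621_627 c) (Nat.ble 621 c)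
noncomputable def Atab_s_606_627 (c : Nat) : Nat := @Bool.rec (fun _ => Nat) (Atab_s_606_616 c) (Atab_s_616_627 c) (Nat.ble 616 c)
noncomputable def Atab_s_627_629 (c : Nat) : Nat := @Bool.rec (fun _ => Nat) (Atab_627) (Atab_628) (Nat.ble 628 c)
noncomputable def Atab_s_630_632 (c : Nat) : Nat := @Bool.rec (fun _ => Nat) (Atab_630) (Atab_631) (Nat.ble 631 c)
noncomputable def Atab_s_629_632 (c : Nat) : Nat := @Bool.rec (fun _ => Nat) (Atab_629) (Atab_s_630_632 c) (Nat.ble 630 c)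
noncomputable def Atab_s_627_632 (c : Nat) : Nat := @Bool.rec (fun _ => Nat) (Atab_s_627_629 c) (Atab_s_629_632 c) (Nat.ble 629 c)
noncomputable def Atab_s_633_635 (c : Nat) : Nat := @Bool.rec (fun _ => Nat) (Atab_633) (Atab_634) (Nat.ble 634 c)
noncomputable def Atab_s_632_635 (c : Nat) : Nat := @Bool.rec (fun _ => Nat) (Atab_632) (Atab_s_633_635 c) (Nat.ble 633 c)
noncomputable def Atab_s_636_638 (c : Nat) : Nat := @Bool.rec (fun _ => Nat) (Atab_636) (Atab_637) (Nat.ble 637 c)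
noncomputable def Atab_s_635_638 (c : Nat) : Nat := @Bool.rec (fun _ => Nat) (Atab_635) (Atab_s_636_638 c) (Nat.ble 636 c)
noncomputable def Atab_s_632_638 (c : Nat) : Nat := @Bool.rec (fun _ => Nat) (Atab_s_632_635 c) (Atab_s_635_638 c) (Nat.ble 635 c)
noncomputable def Atab_s_627_638 (c : Nat) : Nat := @Bool.rec (fun _ => Nat) (Atab_s_627_632 c) (Atab_s_632_638 c) (Nat.ble 632 c)
noncomputable def Atab_s_638_640 (c : Nat) : Nat := @Bool.rec (fun _ => Nat) (Atab_638) (Atab_639) (Nat.ble 639 c)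
noncomputable def Atab_s_641_643 (c : Nat) : Nat := @Bool.rec (fun _ => Nat) (Atab_641) (Atab_642) (Nat.ble 642 c)
noncomputable def Atab_s_640_643 (c : Nat) : Nat := @Bool.rec (fun _ => Nat) (Atab_640) (Atab_s_641_643 c) (Nat.ble 641 c)
noncomputable def Atab_s_638_643 (c : Nat) : Nat := @Bool.rec (fun _ => Nat) (Atab_s_638_640 c) (Atab_s_640_643 c) (Nat.ble 640 c)
noncomputable def Atab_s_644_646 (c : Nat) : Nat := @Bool.rec (fun _ => Nat) (Atab_644) (Atab_645) (Nat.ble 645 c)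
noncomputable def Atab_s_643_646 (c : Nat) : Nat := @Bool.rec (fun _ => Nat) (Atab_643) (Atab_s_644_646 c) (Nat.ble 644 c)
noncomputable def Atab_s_647_649 (c : Nat) : Nat := @Bool.rec (fun _ => Nat) (Atab_647) (Atab_648) (Nat.ble 648 c)
noncomputable def Atab_s_646_649 (c : Nat) : Nat := @Bool.rec (fun _ => Nat) (Atab_646) (Atab_s_647_649 c) (Nat.ble 647 c)
noncomputable def Atab_s_643_649 (c : Nat) : Nat := @Bool.rec (fun _ => Nat) (Atab_s_643_646 c) (Atab_s_646_649 c) (Nat.ble 646 c)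
noncomputable def Atab_s_638_649 (c : Nat) : Nat := @Bool.rec (fun _ => Nat) (Atab_s_638_643 c) (Atab_s_643_649 c) (Nat.ble 643 c)
noncomputable def Atab_s_627_649 (c : Nat) : Nat := @Bool.rec (fun _ => Nat) (Atab_s_627_638 c) (Atab_s_638_649 c) (Nat.ble 638 c)
noncomputable def Atab_s_606_649 (c : Nat) : Nat := @Bool.rec (fun _ => Nat) (Atab_s_606_627 c) (Atab_s_627_649 c) (Nat.ble 627 c)
noncomputable def Atab_s_649_651 (c : Nat) : Nat := @Bool.rec (fun _ => Nat) (Atab_649) (Atab_650) (Nat.ble 650 c)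
noncomputable def Atab_s_652_654 (c : Nat) : Nat := @Bool.rec (fun _ => Nat) (Atab_652) (Atab_653) (Nat.ble 653 c)
noncomputable def Atab_s_651_654 (c : Nat) : Nat := @Bool.rec (fun _ => Nat) (Atab_651) (Atab_s_652_654 c) (Nat.ble 652 c)
noncomputable def Atab_s_649_654 (c : Nat) : Nat := @Bool.rec (fun _ => Nat) (Atab_s_649_651 c) (Atab_s_651_654 c) (Nat.ble 651 c)
noncomputable def Atab_s_655_657 (c : Nat) : Nat := @Bool.rec (fun _ => Nat) (Atab_655) (Atab_656) (Nat.ble 656 c)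
noncomputable def Atab_s_654_657 (c : Nat) : Nat := @Bool.rec (fun _ => Nat) (Atab_654) (Atab_s_655_657 c) (Nat.ble 655 c)
noncomputable def Atab_s_658_660 (c : Nat) : Nat := @Bool.rec (fun _ => Nat) (Atab_658) (Atab_659) (Nat.ble 659 c)
noncomputable def Atab_s_657_660 (c : Nat) : Nat := @Bool.rec (fun _ => Nat) (Atab_657) (Atab_s_658_660 c) (Nat.ble 658 c)
noncomputable def Atab_s_654_660 (c : Nat) : Nat := @Bool.rec (fun _ => Nat) (Atab_s_654_657 c) (Atab_s_657_660 c) (Nat.ble 657 c)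
noncomputable def Atab_s_649_660 (c : Nat) : Nat := @Bool.rec (fun _ => Nat) (Atab_s_649_654 c) (Atab_s_654_660 c) (Nat.ble 654 c)
noncomputable def Atab_s_660_662 (c : Nat) : Nat := @Bool.rec (fun _ => Nat) (Atab_660) (Atab_661) (Nat.ble 661 c)
noncomputable def Atab_s_663_665 (c : Nat) : Nat := @Bool.rec (fun _ => Nat) (Atab_663) (Atab_664) (Nat.ble 664 c)
noncomputable def Atab_s_662_665 (c : Nat) : Nat := @Bool.rec (fun _ => Nat) (Atab_662) (Atab_s_663_665 c) (Nat.ble 663 c)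
noncomputable def Atab_s_660_665 (c : Nat) : Nat := @Bool.rec (fun _ => Nat) (Atab_s_660_662 c) (Atab_s_662_665 c) (Nat.ble 662 c)
noncomputable def Atab_s_666_668 (c : Nat) : Nat := @Bool.rec (fun _ => Nat) (Atab_666) (Atab_667) (Nat.ble 667 c)
noncomputable def Atab_s_665_668 (c : Nat) : Nat := @Bool.rec (fun _ => Nat) (Atab_665) (Atab_s_666_668 c) (Nat.ble 666 c)
noncomputable def Atab_s_669_671 (c : Nat) : Nat := @Bool.rec (fun _ => Nat) (Atab_669) (Atab_670) (Nat.ble 670 c)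
noncomputable def Atab_s_668_671 (c : Nat) : Nat := @Bool.rec (fun _ => Nat) (Atab_668) (Atab_s_669_671 c) (Nat.ble 669 c)
noncomputable def Atab_s_665_671 (c : Nat) : Nat := @Bool.rec (fun _ => Nat) (Atab_s_665_668 c) (Atab_s_668_671 c) (Nat.ble 668 c)
noncomputable def Atab_s_660_671 (c : Nat) : Nat := @Bool.rec (fun _ => Nat) (Atab_s_660_665 c) (Atab_s_665_671 c) (Nat.ble 665 c)
noncomputable def Atab_s_649_671 (c : Nat) : Nat := @Bool.rec (fun _ => Nat) (Atab_s_649_660 c) (Atab_s_660_671 c) (Nat.ble 660 c)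
noncomputable def Atab_s_671_673 (c : Nat) : Nat := @Bool.rec (fun _ => Nat) (Atab_671) (Atab_672) (Nat.ble 672 c)
noncomputable def Atab_s_674_676 (c : Nat) : Nat := @Bool.rec (fun _ => Nat) (Atab_674) (Atab_675) (Nat.ble 675 c)
noncomputable def Atab_s_673_676 (c : Nat) : Nat := @Bool.rec (fun _ => Nat) (Atab_673) (Atab_s_674_676 c) (Nat.ble 674 c)
noncomputable def Atab_s_671_676 (c : Nat) : Nat := @Bool.rec (fun _ => Nat) (Atab_s_671_673 c) (Atab_s_673_676 c) (Nat.ble 673 c)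
noncomputable def Atab_s_677_679 (c : Nat) : Nat := @Bool.rec (fun _ => Nat) (Atab_677) (Atab_678) (Nat.ble 678 c)
noncomputable def Atab_s_676_679 (c : Nat) : Nat := @Bool.rec (fun _ => Nat) (Atab_676) (Atab_s_677_679 c) (Nat.ble 677 c)
noncomputable def Atab_s_680_682 (c : Nat) : Nat := @Bool.rec (fun _ => Nat) (Atab_680) (Atab_681) (Nat.ble 681 c)
noncomputable def Atab_s_679_682 (c : Nat) : Nat := @Bool.rec (fun _ => Nat) (Atab_679) (Atab_s_680_682 c) (Nat.ble 680 c)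
noncomputable def Atab_s_676_682 (c : Nat) : Nat := @Bool.rec (fun _ => Nat) (Atab_s_676_679 c) (Atab_s_679_682 c) (Nat.ble 679 c)
noncomputable def Atab_s_671_682 (c : Nat) : Nat := @Bool.rec (fun _ => Nat) (Atab_s_671_676 c) (Atab_s_676_682 c) (Nat.ble 676 c)
noncomputable def Atab_s_682_684 (c : Nat) : Nat := @Bool.rec (fun _ => Nat) (Atab_682) (Atab_683) (Nat.ble 683 c)
noncomputable def Atab_s_685_687 (c : Nat) : Nat := @Bool.rec (fun _ => Nat) (Atab_685) (Atab_686) (Nat.ble 686 c)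
noncomputable def Atab_s_684_687 (c : Nat) : Nat := @Bool.rec (fun _ => Nat) (Atab_684) (Atab_s_685_687 c) (Nat.ble 685 c)
noncomputable def Atab_s_682_687 (c : Nat) : Nat := @Bool.rec (fun _ => Nat) (Atab_s_682_684 c) (Atab_s_684_687 c) (Nat.ble 684 c)
noncomputable def Atab_s_688_690 (c : Nat) : Nat := @Bool.rec (fun _ => Nat) (Atab_688) (Atab_689) (Nat.ble 689 c)
noncomputable def Atab_s_687_690 (c : Nat) : Nat := @Bool.rec (fun _ => Nat) (Atab_687) (Atab_s_688_690 c) (Nat.ble 688 c)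
noncomputable def Atab_s_691_693 (c : Nat) : Nat := @Bool.rec (fun _ => Nat) (Atab_691) (Atab_692) (Nat.ble 692 c)
noncomputable def Atab_s_690_693 (c : Nat) : Nat := @Bool.rec (fun _ => Nat) (Atab_690) (Atab_s_691_693 c) (Nat.ble 691 c)
noncomputable def Atab_s_687_693 (c : Nat) : Nat := @Bool.rec (fun _ => Nat) (Atab_s_687_690 c) (Atab_s_690_693 c) (Nat.ble 690 c)
noncomputable def Atab_s_682_693 (c : Nat) : Nat := @Bool.rec (fun _ => Nat) (Atab_s_682_687 c) (Atab_s_687_693 c) (Nat.ble 687 c)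
noncomputable def Atab_s_671_693 (c : Nat) : Nat := @Bool.rec (fun _ => Nat) (Atab_s_671_682 c) (Atab_s_682_693 c) (Nat.ble 682 c)
noncomputable def Atab_s_649_693 (c : Nat) : Nat := @Bool.rec (fun _ => Nat) (Atab_s_649_671 c) (Atab_s_671_693 c) (Nat.ble 671 c)
noncomputable def Atab_s_606_693 (c : Nat) : Nat := @Bool.rec (fun _ => Nat) (Atab_s_606_649 c) (Atab_s_649_693 c) (Nat.ble 649 c)
noncomputable def Atab_s_519_693 (c : Nat) : Nat := @Bool.rec (fun _ => Nat) (Atab_s_519_606 c) (Atab_s_606_693 c) (Nat.ble 606 c)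
noncomputable def Atab_s_346_693 (c : Nat) : Nat := @Bool.rec (fun _ => Nat) (Atab_s_346_519 c) (Atab_s_519_693 c) (Nat.ble 519 c)
noncomputable def Atab_s_0_693 (c : Nat) : Nat := @Bool.rec (fun _ => Nat) (Atab_s_0_346 c) (Atab_s_346_693 c) (Nat.ble 346 c)
noncomputable def Atab (i : Nat) : Nat := rdw 42 4398046511103 (Atab_s_0_693 (Nat.shiftRight i 11)) (Nat.land i 2047)
noncomputable def Btab_s_0_2 (c : Nat) : Nat := @Bool.rec (fun _ => Nat) (Btab_0) (Btab_1) (Nat.ble 1 c)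
noncomputable def Btab_s_2_4 (c : Nat) : Nat := @Bool.rec (fun _ => Nat) (Btab_2) (Btab_3) (Nat.ble 3 c)
noncomputable def Btab_s_0_4 (c : Nat) : Nat := @Bool.rec (fun _ => Nat) (Btab_s_0_2 c) (Btab_s_2_4 c) (Nat.ble 2 c)
noncomputable def Btab_s_4_6 (c : Nat) : Nat := @Bool.rec (fun _ => Nat) (Btab_4) (Btab_5) (Nat.ble 5 c)
noncomputable def Btab_s_6_8 (c : Nat) : Nat := @Bool.rec (fun _ => Nat) (Btab_6) (Btab_7) (Nat.ble 7 c)
noncomputable def Btab_s_4_8 (c : Nat) : Nat := @Bool.rec (fun _ => Nat) (Btab_s_4_6 c) (Btab_s_6_8 c) (Nat.ble 6 c)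
noncomputable def Btab_s_0_8 (c : Nat) : Nat := @Bool.rec (fun _ => Nat) (Btab_s_0_4 c) (Btab_s_4_8 c) (Nat.ble 4 c)
noncomputable def Btab_s_8_10 (c : Nat) : Nat := @Bool.rec (fun _ => Nat) (Btab_8) (Btab_9) (Nat.ble 9 c)
noncomputable def Btab_s_10_12 (c : Nat) : Nat := @Bool.rec (fun _ => Nat) (Btab_10) (Btab_11) (Nat.ble 11 c)
noncomputable def Btab_s_8_12 (c : Nat) : Nat := @Bool.rec (fun _ => Nat) (Btab_s_8_10 c) (Btab_s_10_12 c) (Nat.ble 10 c)
noncomputable def Btab_s_12_14 (c : Nat) : Nat := @Bool.rec (fun _ => Nat) (Btab_12) (Btab_13) (Nat.ble 13 c)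
noncomputable def Btab_s_14_16 (c : Nat) : Nat := @Bool.rec (fun _ => Nat) (Btab_14) (Btab_15) (Nat.ble 15 c)
noncomputable def Btab_s_12_16 (c : Nat) : Nat := @Bool.rec (fun _ => Nat) (Btab_s_12_14 c) (Btab_s_14_16 c) (Nat.ble 14 c)
noncomputable def Btab_s_8_16 (c : Nat) : Nat := @Bool.rec (fun _ => Nat) (Btab_s_8_12 c) (Btab_s_12_16 c) (Nat.ble 12 c)
noncomputable def Btab_s_0_16 (c : Nat) : Nat := @Bool.rec (fun _ => Nat) (Btab_s_0_8 c) (Btab_s_8_16 c) (Nat.ble 8 c)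
noncomputable def Btab_s_16_18 (c : Nat) : Nat := @Bool.rec (fun _ => Nat) (Btab_16) (Btab_17) (Nat.ble 17 c)
noncomputable def Btab_s_18_20 (c : Nat) : Nat := @Bool.rec (fun _ => Nat) (Btab_18) (Btab_19) (Nat.ble 19 c)
noncomputable def Btab_s_16_20 (c : Nat) : Nat := @Bool.rec (fun _ => Nat) (Btab_s_16_18 c) (Btab_s_18_20 c) (Nat.ble 18 c)
noncomputable def Btab_s_20_22 (c : Nat) : Nat := @Bool.rec (fun _ => Nat) (Btab_20) (Btab_21) (Nat.ble 21 c)
noncomputable def Btab_s_22_24 (c : Nat) : Nat := @Bool.rec (fun _ => Nat) (Btab_22) (Btab_23) (Nat.ble 23 c)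
noncomputable def Btab_s_20_24 (c : Nat) : Nat := @Bool.rec (fun _ => Nat) (Btab_s_20_22 c) (Btab_s_22_24 c) (Nat.ble 22 c)
noncomputable def Btab_s_16_24 (c : Nat) : Nat := @Bool.rec (fun _ => Nat) (Btab_s_16_20 c) (Btab_s_20_24 c) (Nat.ble 20 c)
noncomputable def Btab_s_24_26 (c : Nat) : Nat := @Bool.rec (fun _ => Nat) (Btab_24) (Btab_25) (Nat.ble 25 c)
noncomputable def Btab_s_26_28 (c : Nat) : Nat := @Bool.rec (fun _ => Nat) (Btab_26) (Btab_27) (Nat.ble 27 c)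
noncomputable def Btab_s_24_28 (c : Nat) : Nat := @Bool.rec (fun _ => Nat) (Btab_s_24_26 c) (Btab_s_26_28 c) (Nat.ble 26 c)
noncomputable def Btab_s_28_30 (c : Nat) : Nat := @Bool.rec (fun _ => Nat) (Btab_28) (Btab_29) (Nat.ble 29 c)
noncomputable def Btab_s_31_33 (c : Nat) : Nat := @Bool.rec (fun _ => Nat) (Btab_31) (Btab_32) (Nat.ble 32 c)
noncomputable def Btab_s_30_33 (c : Nat) : Nat := @Bool.rec (fun _ => Nat) (Btab_30) (Btab_s_31_33 c) (Nat.ble 31 c)
noncomputable def Btab_s_28_33 (c : Nat) : Nat := @Bool.rec (fun _ => Nat) (Btab_s_28_30 c) (Btab_s_30_33 c) (Nat.ble 30 c)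
noncomputable def Btab_s_24_33 (c : Nat) : Nat := @Bool.rec (fun _ => Nat) (Btab_s_24_28 c) (Btab_s_28_33 c) (Nat.ble 28 c)
noncomputable def Btab_s_16_33 (c : Nat) : Nat := @Bool.rec (fun _ => Nat) (Btab_s_16_24 c) (Btab_s_24_33 c) (Nat.ble 24 c)
noncomputable def Btab_s_0_33 (c : Nat) : Nat := @Bool.rec (fun _ => Nat) (Btab_s_0_16 c) (Btab_s_16_33 c) (Nat.ble 16 c)
noncomputable def Btab_s_33_35 (c : Nat) : Nat := @Bool.rec (fun _ => Nat) (Btab_33) (Btab_34) (Nat.ble 34 c)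
noncomputable def Btab_s_35_37 (c : Nat) : Nat := @Bool.rec (fun _ => Nat) (Btab_35) (Btab_36) (Nat.ble 36 c)
noncomputable def Btab_s_33_37 (c : Nat) : Nat := @Bool.rec (fun _ => Nat) (Btab_s_33_35 c) (Btab_s_35_37 c) (Nat.ble 35 c)
noncomputable def Btab_s_37_39 (c : Nat) : Nat := @Bool.rec (fun _ => Nat) (Btab_37) (Btab_38) (Nat.ble 38 c)
noncomputable def Btab_s_39_41 (c : Nat) : Nat := @Bool.rec (fun _ => Nat) (Btab_39) (Btab_40) (Nat.ble 40 c)
noncomputable def Btab_s_37_41 (c : Nat) : Nat := @Bool.rec (fun _ => Nat) (Btab_s_37_39 c) (Btab_s_39_41 c) (Nat.ble 39 c)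
noncomputable def Btab_s_33_41 (c : Nat) : Nat := @Bool.rec (fun _ => Nat) (Btab_s_33_37 c) (Btab_s_37_41 c) (Nat.ble 37 c)
noncomputable def Btab_s_41_43 (c : Nat) : Nat := @Bool.rec (fun _ => Nat) (Btab_41) (Btab_42) (Nat.ble 42 c)
noncomputable def Btab_s_43_45 (c : Nat) : Nat := @Bool.rec (fun _ => Nat) (Btab_43) (Btab_44) (Nat.ble 44 c)
noncomputable def Btab_s_41_45 (c : Nat) : Nat := @Bool.rec (fun _ => Nat) (Btab_s_41_43 c) (Btab_s_43_45 c) (Nat.ble 43 c)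
noncomputable def Btab_s_45_47 (c : Nat) : Nat := @Bool.rec (fun _ => Nat) (Btab_45) (Btab_46) (Nat.ble 46 c)
noncomputable def Btab_s_47_49 (c : Nat) : Nat := @Bool.rec (fun _ => Nat) (Btab_47) (Btab_48) (Nat.ble 48 c)
noncomputable def Btab_s_45_49 (c : Nat) : Nat := @Bool.rec (fun _ => Nat) (Btab_s_45_47 c) (Btab_s_47_49 c) (Nat.ble 47 c)
noncomputable def Btab_s_41_49 (c : Nat) : Nat := @Bool.rec (fun _ => Nat) (Btab_s_41_45 c) (Btab_s_45_49 c) (Nat.ble 45 c)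
noncomputable def Btab_s_33_49 (c : Nat) : Nat := @Bool.rec (fun _ => Nat) (Btab_s_33_41 c) (Btab_s_41_49 c) (Nat.ble 41 c)
noncomputable def Btab_s_49_51 (c : Nat) : Nat := @Bool.rec (fun _ => Nat) (Btab_49) (Btab_50) (Nat.ble 50 c)
noncomputable def Btab_s_51_53 (c : Nat) : Nat := @Bool.rec (fun _ => Nat) (Btab_51) (Btab_52) (Nat.ble 52 c)
noncomputable def Btab_s_49_53 (c : Nat) : Nat := @Bool.rec (fun _ => Nat) (Btab_s_49_51 c) (Btab_s_51_53 c) (Nat.ble 51 c)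
noncomputable def Btab_s_53_55 (c : Nat) : Nat := @Bool.rec (fun _ => Nat) (Btab_53) (Btab_54) (Nat.ble 54 c)
noncomputable def Btab_s_55_57 (c : Nat) : Nat := @Bool.rec (fun _ => Nat) (Btab_55) (Btab_56) (Nat.ble 56 c)
noncomputable def Btab_s_53_57 (c : Nat) : Nat := @Bool.rec (fun _ => Nat) (Btab_s_53_55 c) (Btab_s_55_57 c) (Nat.ble 55 c)
noncomputable def Btab_s_49_57 (c : Nat) : Nat := @Bool.rec (fun _ => Nat) (Btab_s_49_53 c) (Btab_s_53_57 c) (Nat.ble 53 c)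
noncomputable def Btab_s_57_59 (c : Nat) : Nat := @Bool.rec (fun _ => Nat) (Btab_57) (Btab_58) (Nat.ble 58 c)
noncomputable def Btab_s_59_61 (c : Nat) : Nat := @Bool.rec (fun _ => Nat) (Btab_59) (Btab_60) (Nat.ble 60 c)
noncomputable def Btab_s_57_61 (c : Nat) : Nat := @Bool.rec (fun _ => Nat) (Btab_s_57_59 c) (Btab_s_59_61 c) (Nat.ble 59 c)
noncomputable def Btab_s_61_63 (c : Nat) : Nat := @Bool.rec (fun _ => Nat) (Btab_61) (Btab_62) (Nat.ble 62 c)
noncomputable def Btab_s_64_66 (c : Nat) : Nat := @Bool.rec (fun _ => Nat) (Btab_64) (Btab_65) (Nat.ble 65 c)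
noncomputable def Btab_s_63_66 (c : Nat) : Nat := @Bool.rec (fun _ => Nat) (Btab_63) (Btab_s_64_66 c) (Nat.ble 64 c)
noncomputable def Btab_s_61_66 (c : Nat) : Nat := @Bool.rec (fun _ => Nat) (Btab_s_61_63 c) (Btab_s_63_66 c) (Nat.ble 63 c)
noncomputable def Btab_s_57_66 (c : Nat) : Nat := @Bool.rec (fun _ => Nat) (Btab_s_57_61 c) (Btab_s_61_66 c) (Nat.ble 61 c)
noncomputable def Btab_s_49_66 (c : Nat) : Nat := @Bool.rec (fun _ => Nat) (Btab_s_49_57 c) (Btab_s_57_66 c) (Nat.ble 57 c)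
noncomputable def Btab_s_33_66 (c : Nat) : Nat := @Bool.rec (fun _ => Nat) (Btab_s_33_49 c) (Btab_s_49_66 c) (Nat.ble 49 c)
noncomputable def Btab_s_0_66 (c : Nat) : Nat := @Bool.rec (fun _ => Nat) (Btab_s_0_33 c) (Btab_s_33_66 c) (Nat.ble 33 c)
noncomputable def Btab_s_66_68 (c : Nat) : Nat := @Bool.rec (fun _ => Nat) (Btab_66) (Btab_67) (Nat.ble 67 c)
noncomputable def Btab_s_68_70 (c : Nat) : Nat := @Bool.rec (fun _ => Nat) (Btab_68) (Btab_69) (Nat.ble 69 c)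
noncomputable def Btab_s_66_70 (c : Nat) : Nat := @Bool.rec (fun _ => Nat) (Btab_s_66_68 c) (Btab_s_68_70 c) (Nat.ble 68 c)
noncomputable def Btab_s_70_72 (c : Nat) : Nat := @Bool.rec (fun _ => Nat) (Btab_70) (Btab_71) (Nat.ble 71 c)
noncomputable def Btab_s_72_74 (c : Nat) : Nat := @Bool.rec (fun _ => Nat) (Btab_72) (Btab_73) (Nat.ble 73 c)
noncomputable def Btab_s_70_74 (c : Nat) : Nat := @Bool.rec (fun _ => Nat) (Btab_s_70_72 c) (Btab_s_72_74 c) (Nat.ble 72 c)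
noncomputable def Btab_s_66_74 (c : Nat) : Nat := @Bool.rec (fun _ => Nat) (Btab_s_66_70 c) (Btab_s_70_74 c) (Nat.ble 70 c)
noncomputable def Btab_s_74_76 (c : Nat) : Nat := @Bool.rec (fun _ => Nat) (Btab_74) (Btab_75) (Nat.ble 75 c)
noncomputable def Btab_s_76_78 (c : Nat) : Nat := @Bool.rec (fun _ => Nat) (Btab_76) (Btab_77) (Nat.ble 77 c)
noncomputable def Btab_s_74_78 (c : Nat) : Nat := @Bool.rec (fun _ => Nat) (Btab_s_74_76 c) (Btab_s_76_78 c) (Nat.ble 76 c)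
noncomputable def Btab_s_78_80 (c : Nat) : Nat := @Bool.rec (fun _ => Nat) (Btab_78) (Btab_79) (Nat.ble 79 c)
noncomputable def Btab_s_80_82 (c : Nat) : Nat := @Bool.rec (fun _ => Nat) (Btab_80) (Btab_81) (Nat.ble 81 c)
noncomputable def Btab_s_78_82 (c : Nat) : Nat := @Bool.rec (fun _ => Nat) (Btab_s_78_80 c) (Btab_s_80_82 c) (Nat.ble 80 c)
noncomputable def Btab_s_74_82 (c : Nat) : Nat := @Bool.rec (fun _ => Nat) (Btab_s_74_78 c) (Btab_s_78_82 c) (Nat.ble 78 c)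
noncomputable def Btab_s_66_82 (c : Nat) : Nat := @Bool.rec (fun _ => Nat) (Btab_s_66_74 c) (Btab_s_74_82 c) (Nat.ble 74 c)
noncomputable def Btab_s_82_84 (c : Nat) : Nat := @Bool.rec (fun _ => Nat) (Btab_82) (Btab_83) (Nat.ble 83 c)
noncomputable def Btab_s_84_86 (c : Nat) : Nat := @Bool.rec (fun _ => Nat) (Btab_84) (Btab_85) (Nat.ble 85 c)
noncomputable def Btab_s_82_86 (c : Nat) : Nat := @Bool.rec (fun _ => Nat) (Btab_s_82_84 c) (Btab_s_84_86 c) (Nat.ble 84 c)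
noncomputable def Btab_s_86_88 (c : Nat) : Nat := @Bool.rec (fun _ => Nat) (Btab_86) (Btab_87) (Nat.ble 87 c)
noncomputable def Btab_s_88_90 (c : Nat) : Nat := @Bool.rec (fun _ => Nat) (Btab_88) (Btab_89) (Nat.ble 89 c)
noncomputable def Btab_s_86_90 (c : Nat) : Nat := @Bool.rec (fun _ => Nat) (Btab_s_86_88 c) (Btab_s_88_90 c) (Nat.ble 88 c)
noncomputable def Btab_s_82_90 (c : Nat) : Nat := @Bool.rec (fun _ => Nat) (Btab_s_82_86 c) (Btab_s_86_90 c) (Nat.ble 86 c)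
noncomputable def Btab_s_90_92 (c : Nat) : Nat := @Bool.rec (fun _ => Nat) (Btab_90) (Btab_91) (Nat.ble 91 c)
noncomputable def Btab_s_92_94 (c : Nat) : Nat := @Bool.rec (fun _ => Nat) (Btab_92) (Btab_93) (Nat.ble 93 c)
noncomputable def Btab_s_90_94 (c : Nat) : Nat := @Bool.rec (fun _ => Nat) (Btab_s_90_92 c) (Btab_s_92_94 c) (Nat.ble 92 c)
noncomputable def Btab_s_94_96 (c : Nat) : Nat := @Bool.rec (fun _ => Nat) (Btab_94) (Btab_95) (Nat.ble 95 c)
noncomputable def Btab_s_97_99 (c : Nat) : Nat := @Bool.rec (fun _ => Nat) (Btab_97) (Btab_98) (Nat.ble 98 c)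
noncomputable def Btab_s_96_99 (c : Nat) : Nat := @Bool.rec (fun _ => Nat) (Btab_96) (Btab_s_97_99 c) (Nat.ble 97 c)
noncomputable def Btab_s_94_99 (c : Nat) : Nat := @Bool.rec (fun _ => Nat) (Btab_s_94_96 c) (Btab_s_96_99 c) (Nat.ble 96 c)
noncomputable def Btab_s_90_99 (c : Nat) : Nat := @Bool.rec (fun _ => Nat) (Btab_s_90_94 c) (Btab_s_94_99 c) (Nat.ble 94 c)
noncomputable def Btab_s_82_99 (c : Nat) : Nat := @Bool.rec (fun _ => Nat) (Btab_s_82_90 c) (Btab_s_90_99 c) (Nat.ble 90 c)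
noncomputable def Btab_s_66_99 (c : Nat) : Nat := @Bool.rec (fun _ => Nat) (Btab_s_66_82 c) (Btab_s_82_99 c) (Nat.ble 82 c)
noncomputable def Btab_s_99_101 (c : Nat) : Nat := @Bool.rec (fun _ => Nat) (Btab_99) (Btab_100) (Nat.ble 100 c)
noncomputable def Btab_s_101_103 (c : Nat) : Nat := @Bool.rec (fun _ => Nat) (Btab_101) (Btab_102) (Nat.ble 102 c)
noncomputable def Btab_s_99_103 (c : Nat) : Nat := @Bool.rec (fun _ => Nat) (Btab_s_99_101 c) (Btab_s_101_103 c) (Nat.ble 101 c)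
noncomputable def Btab_s_103_105 (c : Nat) : Nat := @Bool.rec (fun _ => Nat) (Btab_103) (Btab_104) (Nat.ble 104 c)
noncomputable def Btab_s_105_107 (c : Nat) : Nat := @Bool.rec (fun _ => Nat) (Btab_105) (Btab_106) (Nat.ble 106 c)
noncomputable def Btab_s_103_107 (c : Nat) : Nat := @Bool.rec (fun _ => Nat) (Btab_s_103_105 c) (Btab_s_105_107 c) (Nat.ble 105 c)
noncomputable def Btab_s_99_107 (c : Nat) : Nat := @Bool.rec (fun _ => Nat) (Btab_s_99_103 c) (Btab_s_103_107 c) (Nat.ble 103 c)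
noncomputable def Btab_s_107_109 (c : Nat) : Nat := @Bool.rec (fun _ => Nat) (Btab_107) (Btab_108) (Nat.ble 108 c)
noncomputable def Btab_s_109_111 (c : Nat) : Nat := @Bool.rec (fun _ => Nat) (Btab_109) (Btab_110) (Nat.ble 110 c)
noncomputable def Btab_s_107_111 (c : Nat) : Nat := @Bool.rec (fun _ => Nat) (Btab_s_107_109 c) (Btab_s_109_111 c) (Nat.ble 109 c)
noncomputable def Btab_s_111_113 (c : Nat) : Nat := @Bool.rec (fun _ => Nat) (Btab_111) (Btab_112) (Nat.ble 112 c)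
noncomputable def Btab_s_114_116 (c : Nat) : Nat := @Bool.rec (fun _ => Nat) (Btab_114) (Btab_115) (Nat.ble 115 c)
noncomputable def Btab_s_113_116 (c : Nat) : Nat := @Bool.rec (fun _ => Nat) (Btab_113) (Btab_s_114_116 c) (Nat.ble 114 c)
noncomputable def Btab_s_111_116 (c : Nat) : Nat := @Bool.rec (fun _ => Nat) (Btab_s_111_113 c) (Btab_s_113_116 c) (Nat.ble 113 c)
noncomputable def Btab_s_107_116 (c : Nat) : Nat := @Bool.rec (fun _ => Nat) (Btab_s_107_111 c) (Btab_s_111_116 c) (Nat.ble 111 c)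
noncomputable def Btab_s_99_116 (c : Nat) : Nat := @Bool.rec (fun _ => Nat) (Btab_s_99_107 c) (Btab_s_107_116 c) (Nat.ble 107 c)
noncomputable def Btab_s_116_118 (c : Nat) : Nat := @Bool.rec (fun _ => Nat) (Btab_116) (Btab_117) (Nat.ble 117 c)
noncomputable def Btab_s_118_120 (c : Nat) : Nat := @Bool.rec (fun _ => Nat) (Btab_118) (Btab_119) (Nat.ble 119 c)
noncomputable def Btab_s_116_120 (c : Nat) : Nat := @Bool.rec (fun _ => Nat) (Btab_s_116_118 c) (Btab_s_118_120 c) (Nat.ble 118 c)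
noncomputable def Btab_s_120_122 (c : Nat) : Nat := @Bool.rec (fun _ => Nat) (Btab_120) (Btab_121) (Nat.ble 121 c)
noncomputable def Btab_s_122_124 (c : Nat) : Nat := @Bool.rec (fun _ => Nat) (Btab_122) (Btab_123) (Nat.ble 123 c)
noncomputable def Btab_s_120_124 (c : Nat) : Nat := @Bool.rec (fun _ => Nat) (Btab_s_120_122 c) (Btab_s_122_124 c) (Nat.ble 122 c)
noncomputable def Btab_s_116_124 (c : Nat) : Nat := @Bool.rec (fun _ => Nat) (Btab_s_116_120 c) (Btab_s_120_124 c) (Nat.ble 120 c)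
noncomputable def Btab_s_124_126 (c : Nat) : Nat := @Bool.rec (fun _ => Nat) (Btab_124) (Btab_125) (Nat.ble 125 c)
noncomputable def Btab_s_126_128 (c : Nat) : Nat := @Bool.rec (fun _ => Nat) (Btab_126) (Btab_127) (Nat.ble 127 c)
noncomputable def Btab_s_124_128 (c : Nat) : Nat := @Bool.rec (fun _ => Nat) (Btab_s_124_126 c) (Btab_s_126_128 c) (Nat.ble 126 c)
noncomputable def Btab_s_128_130 (c : Nat) : Nat := @Bool.rec (fun _ => Nat) (Btab_128) (Btab_129) (Nat.ble 129 c)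
noncomputable def Btab_s_131_133 (c : Nat) : Nat := @Bool.rec (fun _ => Nat) (Btab_131) (Btab_132) (Nat.ble 132 c)
noncomputable def Btab_s_130_133 (c : Nat) : Nat := @Bool.rec (fun _ => Nat) (Btab_130) (Btab_s_131_133 c) (Nat.ble 131 c)
noncomputable def Btab_s_128_133 (c : Nat) : Nat := @Bool.rec (fun _ => Nat) (Btab_s_128_130 c) (Btab_s_130_133 c) (Nat.ble 130 c)
noncomputable def Btab_s_124_133 (c : Nat) : Nat := @Bool.rec (fun _ => Nat) (Btab_s_124_128 c) (Btab_s_128_133 c) (Nat.ble 128 c)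
noncomputable def Btab_s_116_133 (c : Nat) : Nat := @Bool.rec (fun _ => Nat) (Btab_s_116_124 c) (Btab_s_124_133 c) (Nat.ble 124 c)
noncomputable def Btab_s_99_133 (c : Nat) : Nat := @Bool.rec (fun _ => Nat) (Btab_s_99_116 c) (Btab_s_116_133 c) (Nat.ble 116 c)
noncomputable def Btab_s_66_133 (c : Nat) : Nat := @Bool.rec (fun _ => Nat) (Btab_s_66_99 c) (Btab_s_99_133 c) (Nat.ble 99 c)
noncomputable def Btab_s_0_133 (c : Nat) : Nat := @Bool.rec (fun _ => Nat) (Btab_s_0_66 c) (Btab_s_66_133 c) (Nat.ble 66 c)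
noncomputable def Btab_s_133_135 (c : Nat) : Nat := @Bool.rec (fun _ => Nat) (Btab_133) (Btab_134) (Nat.ble 134 c)
noncomputable def Btab_s_135_137 (c : Nat) : Nat := @Bool.rec (fun _ => Nat) (Btab_135) (Btab_136) (Nat.ble 136 c)
noncomputable def Btab_s_133_137 (c : Nat) : Nat := @Bool.rec (fun _ => Nat) (Btab_s_133_135 c) (Btab_s_135_137 c) (Nat.ble 135 c)
noncomputable def Btab_s_137_139 (c : Nat) : Nat := @Bool.rec (fun _ => Nat) (Btab_137) (Btab_138) (Nat.ble 138 c)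
noncomputable def Btab_s_139_141 (c : Nat) : Nat := @Bool.rec (fun _ => Nat) (Btab_139) (Btab_140) (Nat.ble 140 c)
noncomputable def Btab_s_137_141 (c : Nat) : Nat := @Bool.rec (fun _ => Nat) (Btab_s_137_139 c) (Btab_s_139_141 c) (Nat.ble 139 c)
noncomputable def Btab_s_133_141 (c : Nat) : Nat := @Bool.rec (fun _ => Nat) (Btab_s_133_137 c) (Btab_s_137_141 c) (Nat.ble 137 c)
noncomputable def Btab_s_141_143 (c : Nat) : Nat := @Bool.rec (fun _ => Nat) (Btab_141) (Btab_142) (Nat.ble 142 c)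
noncomputable def Btab_s_143_145 (c : Nat) : Nat := @Bool.rec (fun _ => Nat) (Btab_143) (Btab_144) (Nat.ble 144 c)
noncomputable def Btab_s_141_145 (c : Nat) : Nat := @Bool.rec (fun _ => Nat) (Btab_s_141_143 c) (Btab_s_143_145 c) (Nat.ble 143 c)
noncomputable def Btab_s_145_147 (c : Nat) : Nat := @Bool.rec (fun _ => Nat) (Btab_145) (Btab_146) (Nat.ble 146 c)
noncomputable def Btab_s_147_149 (c : Nat) : Nat := @Bool.rec (fun _ => Nat) (Btab_147) (Btab_148) (Nat.ble 148 c)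
noncomputable def Btab_s_145_149 (c : Nat) : Nat := @Bool.rec (fun _ => Nat) (Btab_s_145_147 c) (Btab_s_147_149 c) (Nat.ble 147 c)
noncomputable def Btab_s_141_149 (c : Nat) : Nat := @Bool.rec (fun _ => Nat) (Btab_s_141_145 c) (Btab_s_145_149 c) (Nat.ble 145 c)
noncomputable def Btab_s_133_149 (c : Nat) : Nat := @Bool.rec (fun _ => Nat) (Btab_s_133_141 c) (Btab_s_141_149 c) (Nat.ble 141 c)
noncomputable def Btab_s_149_151 (c : Nat) : Nat := @Bool.rec (fun _ => Nat) (Btab_149) (Btab_150) (Nat.ble 150 c)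
noncomputable def Btab_s_151_153 (c : Nat) : Nat := @Bool.rec (fun _ => Nat) (Btab_151) (Btab_152) (Nat.ble 152 c)
noncomputable def Btab_s_149_153 (c : Nat) : Nat := @Bool.rec (fun _ => Nat) (Btab_s_149_151 c) (Btab_s_151_153 c) (Nat.ble 151 c)
noncomputable def Btab_s_153_155 (c : Nat) : Nat := @Bool.rec (fun _ => Nat) (Btab_153) (Btab_154) (Nat.ble 154 c)
noncomputable def Btab_s_155_157 (c : Nat) : Nat := @Bool.rec (fun _ => Nat) (Btab_155) (Btab_156) (Nat.ble 156 c)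
noncomputable def Btab_s_153_157 (c : Nat) : Nat := @Bool.rec (fun _ => Nat) (Btab_s_153_155 c) (Btab_s_155_157 c) (Nat.ble 155 c)
noncomputable def Btab_s_149_157 (c : Nat) : Nat := @Bool.rec (fun _ => Nat) (Btab_s_149_153 c) (Btab_s_153_157 c) (Nat.ble 153 c)
noncomputable def Btab_s_157_159 (c : Nat) : Nat := @Bool.rec (fun _ => Nat) (Btab_157) (Btab_158) (Nat.ble 158 c)
noncomputable def Btab_s_159_161 (c : Nat) : Nat := @Bool.rec (fun _ => Nat) (Btab_159) (Btab_160) (Nat.ble 160 c)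
noncomputable def Btab_s_157_161 (c : Nat) : Nat := @Bool.rec (fun _ => Nat) (Btab_s_157_159 c) (Btab_s_159_161 c) (Nat.ble 159 c)
noncomputable def Btab_s_161_163 (c : Nat) : Nat := @Bool.rec (fun _ => Nat) (Btab_161) (Btab_162) (Nat.ble 162 c)
noncomputable def Btab_s_164_166 (c : Nat) : Nat := @Bool.rec (fun _ => Nat) (Btab_164) (Btab_165) (Nat.ble 165 c)
noncomputable def Btab_s_163_166 (c : Nat) : Nat := @Bool.rec (fun _ => Nat) (Btab_163) (Btab_s_164_166 c) (Nat.ble 164 c)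
noncomputable def Btab_s_161_166 (c : Nat) : Nat := @Bool.rec (fun _ => Nat) (Btab_s_161_163 c) (Btab_s_163_166 c) (Nat.ble 163 c)
noncomputable def Btab_s_157_166 (c : Nat) : Nat := @Bool.rec (fun _ => Nat) (Btab_s_157_161 c) (Btab_s_161_166 c) (Nat.ble 161 c)
noncomputable def Btab_s_149_166 (c : Nat) : Nat := @Bool.rec (fun _ => Nat) (Btab_s_149_157 c) (Btab_s_157_166 c) (Nat.ble 157 c)
noncomputable def Btab_s_133_166 (c : Nat) : Nat := @Bool.rec (fun _ => Nat) (Btab_s_133_149 c) (Btab_s_149_166 c) (Nat.ble 149 c)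
noncomputable def Btab_s_166_168 (c : Nat) : Nat := @Bool.rec (fun _ => Nat) (Btab_166) (Btab_167) (Nat.ble 167 c)
noncomputable def Btab_s_168_170 (c : Nat) : Nat := @Bool.rec (fun _ => Nat) (Btab_168) (Btab_169) (Nat.ble 169 c)
noncomputable def Btab_s_166_170 (c : Nat) : Nat := @Bool.rec (fun _ => Nat) (Btab_s_166_168 c) (Btab_s_168_170 c) (Nat.ble 168 c)
noncomputable def Btab_s_170_172 (c : Nat) : Nat := @Bool.rec (fun _ => Nat) (Btab_170) (Btab_171) (Nat.ble 171 c)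
noncomputable def Btab_s_172_174 (c : Nat) : Nat := @Bool.rec (fun _ => Nat) (Btab_172) (Btab_173) (Nat.ble 173 c)
noncomputable def Btab_s_170_174 (c : Nat) : Nat := @Bool.rec (fun _ => Nat) (Btab_s_170_172 c) (Btab_s_172_174 c) (Nat.ble 172 c)
noncomputable def Btab_s_166_174 (c : Nat) : Nat := @Bool.rec (fun _ => Nat) (Btab_s_166_170 c) (Btab_s_170_174 c) (Nat.ble 170 c)
noncomputable def Btab_s_174_176 (c : Nat) : Nat := @Bool.rec (fun _ => Nat) (Btab_174) (Btab_175) (Nat.ble 175 c)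
noncomputable def Btab_s_176_178 (c : Nat) : Nat := @Bool.rec (fun _ => Nat) (Btab_176) (Btab_177) (Nat.ble 177 c)
noncomputable def Btab_s_174_178 (c : Nat) : Nat := @Bool.rec (fun _ => Nat) (Btab_s_174_176 c) (Btab_s_176_178 c) (Nat.ble 176 c)
noncomputable def Btab_s_178_180 (c : Nat) : Nat := @Bool.rec (fun _ => Nat) (Btab_178) (Btab_179) (Nat.ble 179 c)
noncomputable def Btab_s_181_183 (c : Nat) : Nat := @Bool.rec (fun _ => Nat) (Btab_181) (Btab_182) (Nat.ble 182 c)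
noncomputable def Btab_s_180_183 (c : Nat) : Nat := @Bool.rec (fun _ => Nat) (Btab_180) (Btab_s_181_183 c) (Nat.ble 181 c)
noncomputable def Btab_s_178_183 (c : Nat) : Nat := @Bool.rec (fun _ => Nat) (Btab_s_178_180 c) (Btab_s_180_183 c) (Nat.ble 180 c)
noncomputable def Btab_s_174_183 (c : Nat) : Nat := @Bool.rec (fun _ => Nat) (Btab_s_174_178 c) (Btab_s_178_183 c) (Nat.ble 178 c)
noncomputable def Btab_s_166_183 (c : Nat) : Nat := @Bool.rec (fun _ => Nat) (Btab_s_166_174 c) (Btab_s_174_183 c) (Nat.ble 174 c)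
noncomputable def Btab_s_183_185 (c : Nat) : Nat := @Bool.rec (fun _ => Nat) (Btab_183) (Btab_184) (Nat.ble 184 c)
noncomputable def Btab_s_185_187 (c : Nat) : Nat := @Bool.rec (fun _ => Nat) (Btab_185) (Btab_186) (Nat.ble 186 c)
noncomputable def Btab_s_183_187 (c : Nat) : Nat := @Bool.rec (fun _ => Nat) (Btab_s_183_185 c) (Btab_s_185_187 c) (Nat.ble 185 c)
noncomputable def Btab_s_187_189 (c : Nat) : Nat := @Bool.rec (fun _ => Nat) (Btab_187) (Btab_188) (Nat.ble 188 c)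
noncomputable def Btab_s_189_191 (c : Nat) : Nat := @Bool.rec (fun _ => Nat) (Btab_189) (Btab_190) (Nat.ble 190 c)
noncomputable def Btab_s_187_191 (c : Nat) : Nat := @Bool.rec (fun _ => Nat) (Btab_s_187_189 c) (Btab_s_189_191 c) (Nat.ble 189 c)
noncomputable def Btab_s_183_191 (c : Nat) : Nat := @Bool.rec (fun _ => Nat) (Btab_s_183_187 c) (Btab_s_187_191 c) (Nat.ble 187 c)
noncomputable def Btab_s_191_193 (c : Nat) : Nat := @Bool.rec (fun _ => Nat) (Btab_191) (Btab_192) (Nat.ble 192 c)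
noncomputable def Btab_s_193_195 (c : Nat) : Nat := @Bool.rec (fun _ => Nat) (Btab_193) (Btab_194) (Nat.ble 194 c)
noncomputable def Btab_s_191_195 (c : Nat) : Nat := @Bool.rec (fun _ => Nat) (Btab_s_191_193 c) (Btab_s_193_195 c) (Nat.ble 193 c)
noncomputable def Btab_s_195_197 (c : Nat) : Nat := @Bool.rec (fun _ => Nat) (Btab_195) (Btab_196) (Nat.ble 196 c)
noncomputable def Btab_s_198_200 (c : Nat) : Nat := @Bool.rec (fun _ => Nat) (Btab_198) (Btab_199) (Nat.ble 199 c)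
noncomputable def Btab_s_197_200 (c : Nat) : Nat := @Bool.rec (fun _ => Nat) (Btab_197) (Btab_s_198_200 c) (Nat.ble 198 c)
noncomputable def Btab_s_195_200 (c : Nat) : Nat := @Bool.rec (fun _ => Nat) (Btab_s_195_197 c) (Btab_s_197_200 c) (Nat.ble 197 c)
noncomputable def Btab_s_191_200 (c : Nat) : Nat := @Bool.rec (fun _ => Nat) (Btab_s_191_195 c) (Btab_s_195_200 c) (Nat.ble 195 c)
noncomputable def Btab_s_183_200 (c : Nat) : Nat := @Bool.rec (fun _ => Nat) (Btab_s_183_191 c) (Btab_s_191_200 c) (Nat.ble 191 c)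
noncomputable def Btab_s_166_200 (c : Nat) : Nat := @Bool.rec (fun _ => Nat) (Btab_s_166_183 c) (Btab_s_183_200 c) (Nat.ble 183 c)
noncomputable def Btab_s_133_200 (c : Nat) : Nat := @Bool.rec (fun _ => Nat) (Btab_s_133_166 c) (Btab_s_166_200 c) (Nat.ble 166 c)
noncomputable def Btab_s_200_202 (c : Nat) : Nat := @Bool.rec (fun _ => Nat) (Btab_200) (Btab_201) (Nat.ble 201 c)
noncomputable def Btab_s_202_204 (c : Nat) : Nat := @Bool.rec (fun _ => Nat) (Btab_202) (Btab_203) (Nat.ble 203 c)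
noncomputable def Btab_s_200_204 (c : Nat) : Nat := @Bool.rec (fun _ => Nat) (Btab_s_200_202 c) (Btab_s_202_204 c) (Nat.ble 202 c)
noncomputable def Btab_s_204_206 (c : Nat) : Nat := @Bool.rec (fun _ => Nat) (Btab_204) (Btab_205) (Nat.ble 205 c)
noncomputable def Btab_s_206_208 (c : Nat) : Nat := @Bool.rec (fun _ => Nat) (Btab_206) (Btab_207) (Nat.ble 207 c)
noncomputable def Btab_s_204_208 (c : Nat) : Nat := @Bool.rec (fun _ => Nat) (Btab_s_204_206 c) (Btab_s_206_208 c) (Nat.ble 206 c)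
noncomputable def Btab_s_200_208 (c : Nat) : Nat := @Bool.rec (fun _ => Nat) (Btab_s_200_204 c) (Btab_s_204_208 c) (Nat.ble 204 c)
noncomputable def Btab_s_208_210 (c : Nat) : Nat := @Bool.rec (fun _ => Nat) (Btab_208) (Btab_209) (Nat.ble 209 c)
noncomputable def Btab_s_210_212 (c : Nat) : Nat := @Bool.rec (fun _ => Nat) (Btab_210) (Btab_211) (Nat.ble 211 c)
noncomputable def Btab_s_208_212 (c : Nat) : Nat := @Bool.rec (fun _ => Nat) (Btab_s_208_210 c) (Btab_s_210_212 c) (Nat.ble 210 c)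
noncomputable def Btab_s_212_214 (c : Nat) : Nat := @Bool.rec (fun _ => Nat) (Btab_212) (Btab_213) (Nat.ble 213 c)
noncomputable def Btab_s_214_216 (c : Nat) : Nat := @Bool.rec (fun _ => Nat) (Btab_214) (Btab_215) (Nat.ble 215 c)
noncomputable def Btab_s_212_216 (c : Nat) : Nat := @Bool.rec (fun _ => Nat) (Btab_s_212_214 c) (Btab_s_214_216 c) (Nat.ble 214 c)
noncomputable def Btab_s_208_216 (c : Nat) : Nat := @Bool.rec (fun _ => Nat) (Btab_s_208_212 c) (Btab_s_212_216 c) (Nat.ble 212 c)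
noncomputable def Btab_s_200_216 (c : Nat) : Nat := @Bool.rec (fun _ => Nat) (Btab_s_200_208 c) (Btab_s_208_216 c) (Nat.ble 208 c)
noncomputable def Btab_s_216_218 (c : Nat) : Nat := @Bool.rec (fun _ => Nat) (Btab_216) (Btab_217) (Nat.ble 217 c)
noncomputable def Btab_s_218_220 (c : Nat) : Nat := @Bool.rec (fun _ => Nat) (Btab_218) (Btab_219) (Nat.ble 219 c)
noncomputable def Btab_s_216_220 (c : Nat) : Nat := @Bool.rec (fun _ => Nat) (Btab_s_216_218 c) (Btab_s_218_220 c) (Nat.ble 218 c)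
noncomputable def Btab_s_220_222 (c : Nat) : Nat := @Bool.rec (fun _ => Nat) (Btab_220) (Btab_221) (Nat.ble 221 c)
noncomputable def Btab_s_222_224 (c : Nat) : Nat := @Bool.rec (fun _ => Nat) (Btab_222) (Btab_223) (Nat.ble 223 c)
noncomputable def Btab_s_220_224 (c : Nat) : Nat := @Bool.rec (fun _ => Nat) (Btab_s_220_222 c) (Btab_s_222_224 c) (Nat.ble 222 c)
noncomputable def Btab_s_216_224 (c : Nat) : Nat := @Bool.rec (fun _ => Nat) (Btab_s_216_220 c) (Btab_s_220_224 c) (Nat.ble 220 c)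
noncomputable def Btab_s_224_226 (c : Nat) : Nat := @Bool.rec (fun _ => Nat) (Btab_224) (Btab_225) (Nat.ble 225 c)
noncomputable def Btab_s_226_228 (c : Nat) : Nat := @Bool.rec (fun _ => Nat) (Btab_226) (Btab_227) (Nat.ble 227 c)
noncomputable def Btab_s_224_228 (c : Nat) : Nat := @Bool.rec (fun _ => Nat) (Btab_s_224_226 c) (Btab_s_226_228 c) (Nat.ble 226 c)
noncomputable def Btab_s_228_230 (c : Nat) : Nat := @Bool.rec (fun _ => Nat) (Btab_228) (Btab_229) (Nat.ble 229 c)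
noncomputable def Btab_s_231_233 (c : Nat) : Nat := @Bool.rec (fun _ => Nat) (Btab_231) (Btab_232) (Nat.ble 232 c)
noncomputable def Btab_s_230_233 (c : Nat) : Nat := @Bool.rec (fun _ => Nat) (Btab_230) (Btab_s_231_233 c) (Nat.ble 231 c)
noncomputable def Btab_s_228_233 (c : Nat) : Nat := @Bool.rec (fun _ => Nat) (Btab_s_228_230 c) (Btab_s_230_233 c) (Nat.ble 230 c)
noncomputable def Btab_s_224_233 (c : Nat) : Nat := @Bool.rec (fun _ => Nat) (Btab_s_224_228 c) (Btab_s_228_233 c) (Nat.ble 228 c)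
noncomputable def Btab_s_216_233 (c : Nat) : Nat := @Bool.rec (fun _ => Nat) (Btab_s_216_224 c) (Btab_s_224_233 c) (Nat.ble 224 c)
noncomputable def Btab_s_200_233 (c : Nat) : Nat := @Bool.rec (fun _ => Nat) (Btab_s_200_216 c) (Btab_s_216_233 c) (Nat.ble 216 c)
noncomputable def Btab_s_233_235 (c : Nat) : Nat := @Bool.rec (fun _ => Nat) (Btab_233) (Btab_234) (Nat.ble 234 c)
noncomputable def Btab_s_235_237 (c : Nat) : Nat := @Bool.rec (fun _ => Nat) (Btab_235) (Btab_236) (Nat.ble 236 c)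
noncomputable def Btab_s_233_237 (c : Nat) : Nat := @Bool.rec (fun _ => Nat) (Btab_s_233_235 c) (Btab_s_235_237 c) (Nat.ble 235 c)
noncomputable def Btab_s_237_239 (c : Nat) : Nat := @Bool.rec (fun _ => Nat) (Btab_237) (Btab_238) (Nat.ble 238 c)
noncomputable def Btab_s_239_241 (c : Nat) : Nat := @Bool.rec (fun _ => Nat) (Btab_239) (Btab_240) (Nat.ble 240 c)
noncomputable def Btab_s_237_241 (c : Nat) : Nat := @Bool.rec (fun _ => Nat) (Btab_s_237_239 c) (Btab_s_239_241 c) (Nat.ble 239 c)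
noncomputable def Btab_s_233_241 (c : Nat) : Nat := @Bool.rec (fun _ => Nat) (Btab_s_233_237 c) (Btab_s_237_241 c) (Nat.ble 237 c)
noncomputable def Btab_s_241_243 (c : Nat) : Nat := @Bool.rec (fun _ => Nat) (Btab_241) (Btab_242) (Nat.ble 242 c)
noncomputable def Btab_s_243_245 (c : Nat) : Nat := @Bool.rec (fun _ => Nat) (Btab_243) (Btab_244) (Nat.ble 244 c)
noncomputable def Btab_s_241_245 (c : Nat) : Nat := @Bool.rec (fun _ => Nat) (Btab_s_241_243 c) (Btab_s_243_245 c) (Nat.ble 243 c)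
noncomputable def Btab_s_245_247 (c : Nat) : Nat := @Bool.rec (fun _ => Nat) (Btab_245) (Btab_246) (Nat.ble 246 c)
noncomputable def Btab_s_248_250 (c : Nat) : Nat := @Bool.rec (fun _ => Nat) (Btab_248) (Btab_249) (Nat.ble 249 c)
noncomputable def Btab_s_247_250 (c : Nat) : Nat := @Bool.rec (fun _ => Nat) (Btab_247) (Btab_s_248_250 c) (Nat.ble 248 c)
noncomputable def Btab_s_245_250 (c : Nat) : Nat := @Bool.rec (fun _ => Nat) (Btab_s_245_247 c) (Btab_s_247_250 c) (Nat.ble 247 c)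
noncomputable def Btab_s_241_250 (c : Nat) : Nat := @Bool.rec (fun _ => Nat) (Btab_s_241_245 c) (Btab_s_245_250 c) (Nat.ble 245 c)
noncomputable def Btab_s_233_250 (c : Nat) : Nat := @Bool.rec (fun _ => Nat) (Btab_s_233_241 c) (Btab_s_241_250 c) (Nat.ble 241 c)
noncomputable def Btab_s_250_252 (c : Nat) : Nat := @Bool.rec (fun _ => Nat) (Btab_250) (Btab_251) (Nat.ble 251 c)
noncomputable def Btab_s_252_254 (c : Nat) : Nat := @Bool.rec (fun _ => Nat) (Btab_252) (Btab_253) (Nat.ble 253 c)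
noncomputable def Btab_s_250_254 (c : Nat) : Nat := @Bool.rec (fun _ => Nat) (Btab_s_250_252 c) (Btab_s_252_254 c) (Nat.ble 252 c)
noncomputable def Btab_s_254_256 (c : Nat) : Nat := @Bool.rec (fun _ => Nat) (Btab_254) (Btab_255) (Nat.ble 255 c)
noncomputable def Btab_s_256_258 (c : Nat) : Nat := @Bool.rec (fun _ => Nat) (Btab_256) (Btab_257) (Nat.ble 257 c)
noncomputable def Btab_s_254_258 (c : Nat) : Nat := @Bool.rec (fun _ => Nat) (Btab_s_254_256 c) (Btab_s_256_258 c) (Nat.ble 256 c)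
noncomputable def Btab_s_250_258 (c : Nat) : Nat := @Bool.rec (fun _ => Nat) (Btab_s_250_254 c) (Btab_s_254_258 c) (Nat.ble 254 c)
noncomputable def Btab_s_258_260 (c : Nat) : Nat := @Bool.rec (fun _ => Nat) (Btab_258) (Btab_259) (Nat.ble 259 c)
noncomputable def Btab_s_260_262 (c : Nat) : Nat := @Bool.rec (fun _ => Nat) (Btab_260) (Btab_261) (Nat.ble 261 c)
noncomputable def Btab_s_258_262 (c : Nat) : Nat := @Bool.rec (fun _ => Nat) (Btab_s_258_260 c) (Btab_s_260_262 c) (Nat.ble 260 c)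
noncomputable def Btab_s_262_264 (c : Nat) : Nat := @Bool.rec (fun _ => Nat) (Btab_262) (Btab_263) (Nat.ble 263 c)
noncomputable def Btab_s_265_267 (c : Nat) : Nat := @Bool.rec (fun _ => Nat) (Btab_265) (Btab_266) (Nat.ble 266 c)
noncomputable def Btab_s_264_267 (c : Nat) : Nat := @Bool.rec (fun _ => Nat) (Btab_264) (Btab_s_265_267 c) (Nat.ble 265 c)
noncomputable def Btab_s_262_267 (c : Nat) : Nat := @Bool.rec (fun _ => Nat) (Btab_s_262_264 c) (Btab_s_264_267 c) (Nat.ble 264 c)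
noncomputable def Btab_s_258_267 (c : Nat) : Nat := @Bool.rec (fun _ => Nat) (Btab_s_258_262 c) (Btab_s_262_267 c) (Nat.ble 262 c)
noncomputable def Btab_s_250_267 (c : Nat) : Nat := @Bool.rec (fun _ => Nat) (Btab_s_250_258 c) (Btab_s_258_267 c) (Nat.ble 258 c)
noncomputable def Btab_s_233_267 (c : Nat) : Nat := @Bool.rec (fun _ => Nat) (Btab_s_233_250 c) (Btab_s_250_267 c) (Nat.ble 250 c)
noncomputable def Btab_s_200_267 (c : Nat) : Nat := @Bool.rec (fun _ => Nat) (Btab_s_200_233 c) (Btab_s_233_267 c) (Nat.ble 233 c)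
noncomputable def Btab_s_133_267 (c : Nat) : Nat := @Bool.rec (fun _ => Nat) (Btab_s_133_200 c) (Btab_s_200_267 c) (Nat.ble 200 c)
noncomputable def Btab_s_0_267 (c : Nat) : Nat := @Bool.rec (fun _ => Nat) (Btab_s_0_133 c) (Btab_s_133_267 c) (Nat.ble 133 c)
noncomputable def Btab_s_267_269 (c : Nat) : Nat := @Bool.rec (fun _ => Nat) (Btab_267) (Btab_268) (Nat.ble 268 c)
noncomputable def Btab_s_269_271 (c : Nat) : Nat := @Bool.rec (fun _ => Nat) (Btab_269) (Btab_270) (Nat.ble 270 c)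
noncomputable def Btab_s_267_271 (c : Nat) : Nat := @Bool.rec (fun _ => Nat) (Btab_s_267_269 c) (Btab_s_269_271 c) (Nat.ble 269 c)
noncomputable def Btab_s_271_273 (c : Nat) : Nat := @Bool.rec (fun _ => Nat) (Btab_271) (Btab_272) (Nat.ble 272 c)
noncomputable def Btab_s_273_275 (c : Nat) : Nat := @Bool.rec (fun _ => Nat) (Btab_273) (Btab_274) (Nat.ble 274 c)
noncomputable def Btab_s_271_275 (c : Nat) : Nat := @Bool.rec (fun _ => Nat) (Btab_s_271_273 c) (Btab_s_273_275 c) (Nat.ble 273 c)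
noncomputable def Btab_s_267_275 (c : Nat) : Nat := @Bool.rec (fun _ => Nat) (Btab_s_267_271 c) (Btab_s_271_275 c) (Nat.ble 271 c)
noncomputable def Btab_s_275_277 (c : Nat) : Nat := @Bool.rec (fun _ => Nat) (Btab_275) (Btab_276) (Nat.ble 276 c)
noncomputable def Btab_s_277_279 (c : Nat) : Nat := @Bool.rec (fun _ => Nat) (Btab_277) (Btab_278) (Nat.ble 278 c)
noncomputable def Btab_s_275_279 (c : Nat) : Nat := @Bool.rec (fun _ => Nat) (Btab_s_275_277 c) (Btab_s_277_279 c) (Nat.ble 277 c)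
noncomputable def Btab_s_279_281 (c : Nat) : Nat := @Bool.rec (fun _ => Nat) (Btab_279) (Btab_280) (Nat.ble 280 c)
noncomputable def Btab_s_281_283 (c : Nat) : Nat := @Bool.rec (fun _ => Nat) (Btab_281) (Btab_282) (Nat.ble 282 c)
noncomputable def Btab_s_279_283 (c : Nat) : Nat := @Bool.rec (fun _ => Nat) (Btab_s_279_281 c) (Btab_s_281_283 c) (Nat.ble 281 c)
noncomputable def Btab_s_275_283 (c : Nat) : Nat := @Bool.rec (fun _ => Nat) (Btab_s_275_279 c) (Btab_s_279_283 c) (Nat.ble 279 c)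
noncomputable def Btab_s_267_283 (c : Nat) : Nat := @Bool.rec (fun _ => Nat) (Btab_s_267_275 c) (Btab_s_275_283 c) (Nat.ble 275 c)
noncomputable def Btab_s_283_285 (c : Nat) : Nat := @Bool.rec (fun _ => Nat) (Btab_283) (Btab_284) (Nat.ble 284 c)
noncomputable def Btab_s_285_287 (c : Nat) : Nat := @Bool.rec (fun _ => Nat) (Btab_285) (Btab_286) (Nat.ble 286 c)
noncomputable def Btab_s_283_287 (c : Nat) : Nat := @Bool.rec (fun _ => Nat) (Btab_s_283_285 c) (Btab_s_285_287 c) (Nat.ble 285 c)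
noncomputable def Btab_s_287_289 (c : Nat) : Nat := @Bool.rec (fun _ => Nat) (Btab_287) (Btab_288) (Nat.ble 288 c)
noncomputable def Btab_s_289_291 (c : Nat) : Nat := @Bool.rec (fun _ => Nat) (Btab_289) (Btab_290) (Nat.ble 290 c)
noncomputable def Btab_s_287_291 (c : Nat) : Nat := @Bool.rec (fun _ => Nat) (Btab_s_287_289 c) (Btab_s_289_291 c) (Nat.ble 289 c)
noncomputable def Btab_s_283_291 (c : Nat) : Nat := @Bool.rec (fun _ => Nat) (Btab_s_283_287 c) (Btab_s_287_291 c) (Nat.ble 287 c)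
noncomputable def Btab_s_291_293 (c : Nat) : Nat := @Bool.rec (fun _ => Nat) (Btab_291) (Btab_292) (Nat.ble 292 c)
noncomputable def Btab_s_293_295 (c : Nat) : Nat := @Bool.rec (fun _ => Nat) (Btab_293) (Btab_294) (Nat.ble 294 c)
noncomputable def Btab_s_291_295 (c : Nat) : Nat := @Bool.rec (fun _ => Nat) (Btab_s_291_293 c) (Btab_s_293_295 c) (Nat.ble 293 c)
noncomputable def Btab_s_295_297 (c : Nat) : Nat := @Bool.rec (fun _ => Nat) (Btab_295) (Btab_296) (Nat.ble 296 c)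
noncomputable def Btab_s_298_300 (c : Nat) : Nat := @Bool.rec (fun _ => Nat) (Btab_298) (Btab_299) (Nat.ble 299 c)
noncomputable def Btab_s_297_300 (c : Nat) : Nat := @Bool.rec (fun _ => Nat) (Btab_297) (Btab_s_298_300 c) (Nat.ble 298 c)
noncomputable def Btab_s_295_300 (c : Nat) : Nat := @Bool.rec (fun _ => Nat) (Btab_s_295_297 c) (Btab_s_297_300 c) (Nat.ble 297 c)
noncomputable def Btab_s_291_300 (c : Nat) : Nat := @Bool.rec (fun _ => Nat) (Btab_s_291_295 c) (Btab_s_295_300 c) (Nat.ble 295 c)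
noncomputable def Btab_s_283_300 (c : Nat) : Nat := @Bool.rec (fun _ => Nat) (Btab_s_283_291 c) (Btab_s_291_300 c) (Nat.ble 291 c)
noncomputable def Btab_s_267_300 (c : Nat) : Nat := @Bool.rec (fun _ => Nat) (Btab_s_267_283 c) (Btab_s_283_300 c) (Nat.ble 283 c)
noncomputable def Btab_s_300_302 (c : Nat) : Nat := @Bool.rec (fun _ => Nat) (Btab_300) (Btab_301) (Nat.ble 301 c)
noncomputable def Btab_s_302_304 (c : Nat) : Nat := @Bool.rec (fun _ => Nat) (Btab_302) (Btab_303) (Nat.ble 303 c)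
noncomputable def Btab_s_300_304 (c : Nat) : Nat := @Bool.rec (fun _ => Nat) (Btab_s_300_302 c) (Btab_s_302_304 c) (Nat.ble 302 c)
noncomputable def Btab_s_304_306 (c : Nat) : Nat := @Bool.rec (fun _ => Nat) (Btab_304) (Btab_305) (Nat.ble 305 c)
noncomputable def Btab_s_306_308 (c : Nat) : Nat := @Bool.rec (fun _ => Nat) (Btab_306) (Btab_307) (Nat.ble 307 c)
noncomputable def Btab_s_304_308 (c : Nat) : Nat := @Bool.rec (fun _ => Nat) (Btab_s_304_306 c) (Btab_s_306_308 c) (Nat.ble 306 c)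
noncomputable def Btab_s_300_308 (c : Nat) : Nat := @Bool.rec (fun _ => Nat) (Btab_s_300_304 c) (Btab_s_304_308 c) (Nat.ble 304 c)
noncomputable def Btab_s_308_310 (c : Nat) : Nat := @Bool.rec (fun _ => Nat) (Btab_308) (Btab_309) (Nat.ble 309 c)
noncomputable def Btab_s_310_312 (c : Nat) : Nat := @Bool.rec (fun _ => Nat) (Btab_310) (Btab_311) (Nat.ble 311 c)
noncomputable def Btab_s_308_312 (c : Nat) : Nat := @Bool.rec (fun _ => Nat) (Btab_s_308_310 c) (Btab_s_310_312 c) (Nat.ble 310 c)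
noncomputable def Btab_s_312_314 (c : Nat) : Nat := @Bool.rec (fun _ => Nat) (Btab_312) (Btab_313) (Nat.ble 313 c)
noncomputable def Btab_s_314_316 (c : Nat) : Nat := @Bool.rec (fun _ => Nat) (Btab_314) (Btab_315) (Nat.ble 315 c)
noncomputable def Btab_s_312_316 (c : Nat) : Nat := @Bool.rec (fun _ => Nat) (Btab_s_312_314 c) (Btab_s_314_316 c) (Nat.ble 314 c)
noncomputable def Btab_s_308_316 (c : Nat) : Nat := @Bool.rec (fun _ => Nat) (Btab_s_308_312 c) (Btab_s_312_316 c) (Nat.ble 312 c)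
noncomputable def Btab_s_300_316 (c : Nat) : Nat := @Bool.rec (fun _ => Nat) (Btab_s_300_308 c) (Btab_s_308_316 c) (Nat.ble 308 c)
noncomputable def Btab_s_316_318 (c : Nat) : Nat := @Bool.rec (fun _ => Nat) (Btab_316) (Btab_317) (Nat.ble 317 c)
noncomputable def Btab_s_318_320 (c : Nat) : Nat := @Bool.rec (fun _ => Nat) (Btab_318) (Btab_319) (Nat.ble 319 c)
noncomputable def Btab_s_316_320 (c : Nat) : Nat := @Bool.rec (fun _ => Nat) (Btab_s_316_318 c) (Btab_s_318_320 c) (Nat.ble 318 c)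
noncomputable def Btab_s_320_322 (c : Nat) : Nat := @Bool.rec (fun _ => Nat) (Btab_320) (Btab_321) (Nat.ble 321 c)
noncomputable def Btab_s_322_324 (c : Nat) : Nat := @Bool.rec (fun _ => Nat) (Btab_322) (Btab_323) (Nat.ble 323 c)
noncomputable def Btab_s_320_324 (c : Nat) : Nat := @Bool.rec (fun _ => Nat) (Btab_s_320_322 c) (Btab_s_322_324 c) (Nat.ble 322 c)
noncomputable def Btab_s_316_324 (c : Nat) : Nat := @Bool.rec (fun _ => Nat) (Btab_s_316_320 c) (Btab_s_320_324 c) (Nat.ble 320 c)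
noncomputable def Btab_s_324_326 (c : Nat) : Nat := @Bool.rec (fun _ => Nat) (Btab_324) (Btab_325) (Nat.ble 325 c)
noncomputable def Btab_s_326_328 (c : Nat) : Nat := @Bool.rec (fun _ => Nat) (Btab_326) (Btab_327) (Nat.ble 327 c)
noncomputable def Btab_s_324_328 (c : Nat) : Nat := @Bool.rec (fun _ => Nat) (Btab_s_324_326 c) (Btab_s_326_328 c) (Nat.ble 326 c)
noncomputable def Btab_s_328_330 (c : Nat) : Nat := @Bool.rec (fun _ => Nat) (Btab_328) (Btab_329) (Nat.ble 329 c)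
noncomputable def Btab_s_331_333 (c : Nat) : Nat := @Bool.rec (fun _ => Nat) (Btab_331) (Btab_332) (Nat.ble 332 c)
noncomputable def Btab_s_330_333 (c : Nat) : Nat := @Bool.rec (fun _ => Nat) (Btab_330) (Btab_s_331_333 c) (Nat.ble 331 c)
noncomputable def Btab_s_328_333 (c : Nat) : Nat := @Bool.rec (fun _ => Nat) (Btab_s_328_330 c) (Btab_s_330_333 c) (Nat.ble 330 c)
noncomputable def Btab_s_324_333 (c : Nat) : Nat := @Bool.rec (fun _ => Nat) (Btab_s_324_328 c) (Btab_s_328_333 c) (Nat.ble 328 c)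
noncomputable def Btab_s_316_333 (c : Nat) : Nat := @Bool.rec (fun _ => Nat) (Btab_s_316_324 c) (Btab_s_324_333 c) (Nat.ble 324 c)
noncomputable def Btab_s_300_333 (c : Nat) : Nat := @Bool.rec (fun _ => Nat) (Btab_s_300_316 c) (Btab_s_316_333 c) (Nat.ble 316 c)
noncomputable def Btab_s_267_333 (c : Nat) : Nat := @Bool.rec (fun _ => Nat) (Btab_s_267_300 c) (Btab_s_300_333 c) (Nat.ble 300 c)
noncomputable def Btab_s_333_335 (c : Nat) : Nat := @Bool.rec (fun _ => Nat) (Btab_333) (Btab_334) (Nat.ble 334 c)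
noncomputable def Btab_s_335_337 (c : Nat) : Nat := @Bool.rec (fun _ => Nat) (Btab_335) (Btab_336) (Nat.ble 336 c)
noncomputable def Btab_s_333_337 (c : Nat) : Nat := @Bool.rec (fun _ => Nat) (Btab_s_333_335 c) (Btab_s_335_337 c) (Nat.ble 335 c)
noncomputable def Btab_s_337_339 (c : Nat) : Nat := @Bool.rec (fun _ => Nat) (Btab_337) (Btab_338) (Nat.ble 338 c)
noncomputable def Btab_s_339_341 (c : Nat) : Nat := @Bool.rec (fun _ => Nat) (Btab_339) (Btab_340) (Nat.ble 340 c)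
noncomputable def Btab_s_337_341 (c : Nat) : Nat := @Bool.rec (fun _ => Nat) (Btab_s_337_339 c) (Btab_s_339_341 c) (Nat.ble 339 c)
noncomputable def Btab_s_333_341 (c : Nat) : Nat := @Bool.rec (fun _ => Nat) (Btab_s_333_337 c) (Btab_s_337_341 c) (Nat.ble 337 c)
noncomputable def Btab_s_341_343 (c : Nat) : Nat := @Bool.rec (fun _ => Nat) (Btab_341) (Btab_342) (Nat.ble 342 c)
noncomputable def Btab_s_343_345 (c : Nat) : Nat := @Bool.rec (fun _ => Nat) (Btab_343) (Btab_344) (Nat.ble 344 c)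
noncomputable def Btab_s_341_345 (c : Nat) : Nat := @Bool.rec (fun _ => Nat) (Btab_s_341_343 c) (Btab_s_343_345 c) (Nat.ble 343 c)
noncomputable def Btab_s_345_347 (c : Nat) : Nat := @Bool.rec (fun _ => Nat) (Btab_345) (Btab_346) (Nat.ble 346 c)
noncomputable def Btab_s_347_349 (c : Nat) : Nat := @Bool.rec (fun _ => Nat) (Btab_347) (Btab_348) (Nat.ble 348 c)
noncomputable def Btab_s_345_349 (c : Nat) : Nat := @Bool.rec (fun _ => Nat) (Btab_s_345_347 c) (Btab_s_347_349 c) (Nat.ble 347 c)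
noncomputable def Btab_s_341_349 (c : Nat) : Nat := @Bool.rec (fun _ => Nat) (Btab_s_341_345 c) (Btab_s_345_349 c) (Nat.ble 345 c)
noncomputable def Btab_s_333_349 (c : Nat) : Nat := @Bool.rec (fun _ => Nat) (Btab_s_333_341 c) (Btab_s_341_349 c) (Nat.ble 341 c)
noncomputable def Btab_s_349_351 (c : Nat) : Nat := @Bool.rec (fun _ => Nat) (Btab_349) (Btab_350) (Nat.ble 350 c)
noncomputable def Btab_s_351_353 (c : Nat) : Nat := @Bool.rec (fun _ => Nat) (Btab_351) (Btab_352) (Nat.ble 352 c)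
noncomputable def Btab_s_349_353 (c : Nat) : Nat := @Bool.rec (fun _ => Nat) (Btab_s_349_351 c) (Btab_s_351_353 c) (Nat.ble 351 c)
noncomputable def Btab_s_353_355 (c : Nat) : Nat := @Bool.rec (fun _ => Nat) (Btab_353) (Btab_354) (Nat.ble 354 c)
noncomputable def Btab_s_355_357 (c : Nat) : Nat := @Bool.rec (fun _ => Nat) (Btab_355) (Btab_356) (Nat.ble 356 c)
noncomputable def Btab_s_353_357 (c : Nat) : Nat := @Bool.rec (fun _ => Nat) (Btab_s_353_355 c) (Btab_s_355_357 c) (Nat.ble 355 c)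
noncomputable def Btab_s_349_357 (c : Nat) : Nat := @Bool.rec (fun _ => Nat) (Btab_s_349_353 c) (Btab_s_353_357 c) (Nat.ble 353 c)
noncomputable def Btab_s_357_359 (c : Nat) : Nat := @Bool.rec (fun _ => Nat) (Btab_357) (Btab_358) (Nat.ble 358 c)
noncomputable def Btab_s_359_361 (c : Nat) : Nat := @Bool.rec (fun _ => Nat) (Btab_359) (Btab_360) (Nat.ble 360 c)
noncomputable def Btab_s_357_361 (c : Nat) : Nat := @Bool.rec (fun _ => Nat) (Btab_s_357_359 c) (Btab_s_359_361 c) (Nat.ble 359 c)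
noncomputable def Btab_s_361_363 (c : Nat) : Nat := @Bool.rec (fun _ => Nat) (Btab_361) (Btab_362) (Nat.ble 362 c)
noncomputable def Btab_s_364_366 (c : Nat) : Nat := @Bool.rec (fun _ => Nat) (Btab_364) (Btab_365) (Nat.ble 365 c)
noncomputable def Btab_s_363_366 (c : Nat) : Nat := @Bool.rec (fun _ => Nat) (Btab_363) (Btab_s_364_366 c) (Nat.ble 364 c)
noncomputable def Btab_s_361_366 (c : Nat) : Nat := @Bool.rec (fun _ => Nat) (Btab_s_361_363 c) (Btab_s_363_366 c) (Nat.ble 363 c)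
noncomputable def Btab_s_357_366 (c : Nat) : Nat := @Bool.rec (fun _ => Nat) (Btab_s_357_361 c) (Btab_s_361_366 c) (Nat.ble 361 c)
noncomputable def Btab_s_349_366 (c : Nat) : Nat := @Bool.rec (fun _ => Nat) (Btab_s_349_357 c) (Btab_s_357_366 c) (Nat.ble 357 c)
noncomputable def Btab_s_333_366 (c : Nat) : Nat := @Bool.rec (fun _ => Nat) (Btab_s_333_349 c) (Btab_s_349_366 c) (Nat.ble 349 c)
noncomputable def Btab_s_366_368 (c : Nat) : Nat := @Bool.rec (fun _ => Nat) (Btab_366) (Btab_367) (Nat.ble 367 c)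
noncomputable def Btab_s_368_370 (c : Nat) : Nat := @Bool.rec (fun _ => Nat) (Btab_368) (Btab_369) (Nat.ble 369 c)
noncomputable def Btab_s_366_370 (c : Nat) : Nat := @Bool.rec (fun _ => Nat) (Btab_s_366_368 c) (Btab_s_368_370 c) (Nat.ble 368 c)
noncomputable def Btab_s_370_372 (c : Nat) : Nat := @Bool.rec (fun _ => Nat) (Btab_370) (Btab_371) (Nat.ble 371 c)
noncomputable def Btab_s_372_374 (c : Nat) : Nat := @Bool.rec (fun _ => Nat) (Btab_372) (Btab_373) (Nat.ble 373 c)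
noncomputable def Btab_s_370_374 (c : Nat) : Nat := @Bool.rec (fun _ => Nat) (Btab_s_370_372 c) (Btab_s_372_374 c) (Nat.ble 372 c)
noncomputable def Btab_s_366_374 (c : Nat) : Nat := @Bool.rec (fun _ => Nat) (Btab_s_366_370 c) (Btab_s_370_374 c) (Nat.ble 370 c)
noncomputable def Btab_s_374_376 (c : Nat) : Nat := @Bool.rec (fun _ => Nat) (Btab_374) (Btab_375) (Nat.ble 375 c)
noncomputable def Btab_s_376_378 (c : Nat) : Nat := @Bool.rec (fun _ => Nat) (Btab_376) (Btab_377) (Nat.ble 377 c)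
noncomputable def Btab_s_374_378 (c : Nat) : Nat := @Bool.rec (fun _ => Nat) (Btab_s_374_376 c) (Btab_s_376_378 c) (Nat.ble 376 c)
noncomputable def Btab_s_378_380 (c : Nat) : Nat := @Bool.rec (fun _ => Nat) (Btab_378) (Btab_379) (Nat.ble 379 c)
noncomputable def Btab_s_381_383 (c : Nat) : Nat := @Bool.rec (fun _ => Nat) (Btab_381) (Btab_382) (Nat.ble 382 c)
noncomputable def Btab_s_380_383 (c : Nat) : Nat := @Bool.rec (fun _ => Nat) (Btab_380) (Btab_s_381_383 c) (Nat.ble 381 c)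
noncomputable def Btab_s_378_383 (c : Nat) : Nat := @Bool.rec (fun _ => Nat) (Btab_s_378_380 c) (Btab_s_380_383 c) (Nat.ble 380 c)
noncomputable def Btab_s_374_383 (c : Nat) : Nat := @Bool.rec (fun _ => Nat) (Btab_s_374_378 c) (Btab_s_378_383 c) (Nat.ble 378 c)
noncomputable def Btab_s_366_383 (c : Nat) : Nat := @Bool.rec (fun _ => Nat) (Btab_s_366_374 c) (Btab_s_374_383 c) (Nat.ble 374 c)
noncomputable def Btab_s_383_385 (c : Nat) : Nat := @Bool.rec (fun _ => Nat) (Btab_383) (Btab_384) (Nat.ble 384 c)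
noncomputable def Btab_s_385_387 (c : Nat) : Nat := @Bool.rec (fun _ => Nat) (Btab_385) (Btab_386) (Nat.ble 386 c)
noncomputable def Btab_s_383_387 (c : Nat) : Nat := @Bool.rec (fun _ => Nat) (Btab_s_383_385 c) (Btab_s_385_387 c) (Nat.ble 385 c)
noncomputable def Btab_s_387_389 (c : Nat) : Nat := @Bool.rec (fun _ => Nat) (Btab_387) (Btab_388) (Nat.ble 388 c)
noncomputable def Btab_s_389_391 (c : Nat) : Nat := @Bool.rec (fun _ => Nat) (Btab_389) (Btab_390) (Nat.ble 390 c)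
noncomputable def Btab_s_387_391 (c : Nat) : Nat := @Bool.rec (fun _ => Nat) (Btab_s_387_389 c) (Btab_s_389_391 c) (Nat.ble 389 c)
noncomputable def Btab_s_383_391 (c : Nat) : Nat := @Bool.rec (fun _ => Nat) (Btab_s_383_387 c) (Btab_s_387_391 c) (Nat.ble 387 c)
noncomputable def Btab_s_391_393 (c : Nat) : Nat := @Bool.rec (fun _ => Nat) (Btab_391) (Btab_392) (Nat.ble 392 c)
noncomputable def Btab_s_393_395 (c : Nat) : Nat := @Bool.rec (fun _ => Nat) (Btab_393) (Btab_394) (Nat.ble 394 c)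
noncomputable def Btab_s_391_395 (c : Nat) : Nat := @Bool.rec (fun _ => Nat) (Btab_s_391_393 c) (Btab_s_393_395 c) (Nat.ble 393 c)
noncomputable def Btab_s_395_397 (c : Nat) : Nat := @Bool.rec (fun _ => Nat) (Btab_395) (Btab_396) (Nat.ble 396 c)
noncomputable def Btab_s_398_400 (c : Nat) : Nat := @Bool.rec (fun _ => Nat) (Btab_398) (Btab_399) (Nat.ble 399 c)
noncomputable def Btab_s_397_400 (c : Nat) : Nat := @Bool.rec (fun _ => Nat) (Btab_397) (Btab_s_398_400 c) (Nat.ble 398 c)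
noncomputable def Btab_s_395_400 (c : Nat) : Nat := @Bool.rec (fun _ => Nat) (Btab_s_395_397 c) (Btab_s_397_400 c) (Nat.ble 397 c)
noncomputable def Btab_s_391_400 (c : Nat) : Nat := @Bool.rec (fun _ => Nat) (Btab_s_391_395 c) (Btab_s_395_400 c) (Nat.ble 395 c)
noncomputable def Btab_s_383_400 (c : Nat) : Nat := @Bool.rec (fun _ => Nat) (Btab_s_383_391 c) (Btab_s_391_400 c) (Nat.ble 391 c)
noncomputable def Btab_s_366_400 (c : Nat) : Nat := @Bool.rec (fun _ => Nat) (Btab_s_366_383 c) (Btab_s_383_400 c) (Nat.ble 383 c)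
noncomputable def Btab_s_333_400 (c : Nat) : Nat := @Bool.rec (fun _ => Nat) (Btab_s_333_366 c) (Btab_s_366_400 c) (Nat.ble 366 c)
noncomputable def Btab_s_267_400 (c : Nat) : Nat := @Bool.rec (fun _ => Nat) (Btab_s_267_333 c) (Btab_s_333_400 c) (Nat.ble 333 c)
noncomputable def Btab_s_400_402 (c : Nat) : Nat := @Bool.rec (fun _ => Nat) (Btab_400) (Btab_401) (Nat.ble 401 c)
noncomputable def Btab_s_402_404 (c : Nat) : Nat := @Bool.rec (fun _ => Nat) (Btab_402) (Btab_403) (Nat.ble 403 c)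
noncomputable def Btab_s_400_404 (c : Nat) : Nat := @Bool.rec (fun _ => Nat) (Btab_s_400_402 c) (Btab_s_402_404 c) (Nat.ble 402 c)
noncomputable def Btab_s_404_406 (c : Nat) : Nat := @Bool.rec (fun _ => Nat) (Btab_404) (Btab_405) (Nat.ble 405 c)
noncomputable def Btab_s_406_408 (c : Nat) : Nat := @Bool.rec (fun _ => Nat) (Btab_406) (Btab_407) (Nat.ble 407 c)
noncomputable def Btab_s_404_408 (c : Nat) : Nat := @Bool.rec (fun _ => Nat) (Btab_s_404_406 c) (Btab_s_406_408 c) (Nat.ble 406 c)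
noncomputable def Btab_s_400_408 (c : Nat) : Nat := @Bool.rec (fun _ => Nat) (Btab_s_400_404 c) (Btab_s_404_408 c) (Nat.ble 404 c)
noncomputable def Btab_s_408_410 (c : Nat) : Nat := @Bool.rec (fun _ => Nat) (Btab_408) (Btab_409) (Nat.ble 409 c)
noncomputable def Btab_s_410_412 (c : Nat) : Nat := @Bool.rec (fun _ => Nat) (Btab_410) (Btab_411) (Nat.ble 411 c)
noncomputable def Btab_s_408_412 (c : Nat) : Nat := @Bool.rec (fun _ => Nat) (Btab_s_408_410 c) (Btab_s_410_412 c) (Nat.ble 410 c)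
noncomputable def Btab_s_412_414 (c : Nat) : Nat := @Bool.rec (fun _ => Nat) (Btab_412) (Btab_413) (Nat.ble 413 c)
noncomputable def Btab_s_414_416 (c : Nat) : Nat := @Bool.rec (fun _ => Nat) (Btab_414) (Btab_415) (Nat.ble 415 c)
noncomputable def Btab_s_412_416 (c : Nat) : Nat := @Bool.rec (fun _ => Nat) (Btab_s_412_414 c) (Btab_s_414_416 c) (Nat.ble 414 c)
noncomputable def Btab_s_408_416 (c : Nat) : Nat := @Bool.rec (fun _ => Nat) (Btab_s_408_412 c) (Btab_s_412_416 c) (Nat.ble 412 c)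
noncomputable def Btab_s_400_416 (c : Nat) : Nat := @Bool.rec (fun _ => Nat) (Btab_s_400_408 c) (Btab_s_408_416 c) (Nat.ble 408 c)
noncomputable def Btab_s_416_418 (c : Nat) : Nat := @Bool.rec (fun _ => Nat) (Btab_416) (Btab_417) (Nat.ble 417 c)
noncomputable def Btab_s_418_420 (c : Nat) : Nat := @Bool.rec (fun _ => Nat) (Btab_418) (Btab_419) (Nat.ble 419 c)
noncomputable def Btab_s_416_420 (c : Nat) : Nat := @Bool.rec (fun _ => Nat) (Btab_s_416_418 c) (Btab_s_418_420 c) (Nat.ble 418 c)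
noncomputable def Btab_s_420_422 (c : Nat) : Nat := @Bool.rec (fun _ => Nat) (Btab_420) (Btab_421) (Nat.ble 421 c)
noncomputable def Btab_s_422_424 (c : Nat) : Nat := @Bool.rec (fun _ => Nat) (Btab_422) (Btab_423) (Nat.ble 423 c)
noncomputable def Btab_s_420_424 (c : Nat) : Nat := @Bool.rec (fun _ => Nat) (Btab_s_420_422 c) (Btab_s_422_424 c) (Nat.ble 422 c)
noncomputable def Btab_s_416_424 (c : Nat) : Nat := @Bool.rec (fun _ => Nat) (Btab_s_416_420 c) (Btab_s_420_424 c) (Nat.ble 420 c)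
noncomputable def Btab_s_424_426 (c : Nat) : Nat := @Bool.rec (fun _ => Nat) (Btab_424) (Btab_425) (Nat.ble 425 c)
noncomputable def Btab_s_426_428 (c : Nat) : Nat := @Bool.rec (fun _ => Nat) (Btab_426) (Btab_427) (Nat.ble 427 c)
noncomputable def Btab_s_424_428 (c : Nat) : Nat := @Bool.rec (fun _ => Nat) (Btab_s_424_426 c) (Btab_s_426_428 c) (Nat.ble 426 c)
noncomputable def Btab_s_428_430 (c : Nat) : Nat := @Bool.rec (fun _ => Nat) (Btab_428) (Btab_429) (Nat.ble 429 c)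
noncomputable def Btab_s_431_433 (c : Nat) : Nat := @Bool.rec (fun _ => Nat) (Btab_431) (Btab_432) (Nat.ble 432 c)
noncomputable def Btab_s_430_433 (c : Nat) : Nat := @Bool.rec (fun _ => Nat) (Btab_430) (Btab_s_431_433 c) (Nat.ble 431 c)
noncomputable def Btab_s_428_433 (c : Nat) : Nat := @Bool.rec (fun _ => Nat) (Btab_s_428_430 c) (Btab_s_430_433 c) (Nat.ble 430 c)
noncomputable def Btab_s_424_433 (c : Nat) : Nat := @Bool.rec (fun _ => Nat) (Btab_s_424_428 c) (Btab_s_428_433 c) (Nat.ble 428 c)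
noncomputable def Btab_s_416_433 (c : Nat) : Nat := @Bool.rec (fun _ => Nat) (Btab_s_416_424 c) (Btab_s_424_433 c) (Nat.ble 424 c)
noncomputable def Btab_s_400_433 (c : Nat) : Nat := @Bool.rec (fun _ => Nat) (Btab_s_400_416 c) (Btab_s_416_433 c) (Nat.ble 416 c)
noncomputable def Btab_s_433_435 (c : Nat) : Nat := @Bool.rec (fun _ => Nat) (Btab_433) (Btab_434) (Nat.ble 434 c)
noncomputable def Btab_s_435_437 (c : Nat) : Nat := @Bool.rec (fun _ => Nat) (Btab_435) (Btab_436) (Nat.ble 436 c)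
noncomputable def Btab_s_433_437 (c : Nat) : Nat := @Bool.rec (fun _ => Nat) (Btab_s_433_435 c) (Btab_s_435_437 c) (Nat.ble 435 c)
noncomputable def Btab_s_437_439 (c : Nat) : Nat := @Bool.rec (fun _ => Nat) (Btab_437) (Btab_438) (Nat.ble 438 c)
noncomputable def Btab_s_439_441 (c : Nat) : Nat := @Bool.rec (fun _ => Nat) (Btab_439) (Btab_440) (Nat.ble 440 c)
noncomputable def Btab_s_437_441 (c : Nat) : Nat := @Bool.rec (fun _ => Nat) (Btab_s_437_439 c) (Btab_s_439_441 c) (Nat.ble 439 c)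
noncomputable def Btab_s_433_441 (c : Nat) : Nat := @Bool.rec (fun _ => Nat) (Btab_s_433_437 c) (Btab_s_437_441 c) (Nat.ble 437 c)
noncomputable def Btab_s_441_443 (c : Nat) : Nat := @Bool.rec (fun _ => Nat) (Btab_441) (Btab_442) (Nat.ble 442 c)
noncomputable def Btab_s_443_445 (c : Nat) : Nat := @Bool.rec (fun _ => Nat) (Btab_443) (Btab_444) (Nat.ble 444 c)
noncomputable def Btab_s_441_445 (c : Nat) : Nat := @Bool.rec (fun _ => Nat) (Btab_s_441_443 c) (Btab_s_443_445 c) (Nat.ble 443 c)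
noncomputable def Btab_s_445_447 (c : Nat) : Nat := @Bool.rec (fun _ => Nat) (Btab_445) (Btab_446) (Nat.ble 446 c)
noncomputable def Btab_s_448_450 (c : Nat) : Nat := @Bool.rec (fun _ => Nat) (Btab_448) (Btab_449) (Nat.ble 449 c)
noncomputable def Btab_s_447_450 (c : Nat) : Nat := @Bool.rec (fun _ => Nat) (Btab_447) (Btab_s_448_450 c) (Nat.ble 448 c)
noncomputable def Btab_s_445_450 (c : Nat) : Nat := @Bool.rec (fun _ => Nat) (Btab_s_445_447 c) (Btab_s_447_450 c) (Nat.ble 447 c)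
noncomputable def Btab_s_441_450 (c : Nat) : Nat := @Bool.rec (fun _ => Nat) (Btab_s_441_445 c) (Btab_s_445_450 c) (Nat.ble 445 c)
noncomputable def Btab_s_433_450 (c : Nat) : Nat := @Bool.rec (fun _ => Nat) (Btab_s_433_441 c) (Btab_s_441_450 c) (Nat.ble 441 c)
noncomputable def Btab_s_450_452 (c : Nat) : Nat := @Bool.rec (fun _ => Nat) (Btab_450) (Btab_451) (Nat.ble 451 c)
noncomputable def Btab_s_452_454 (c : Nat) : Nat := @Bool.rec (fun _ => Nat) (Btab_452) (Btab_453) (Nat.ble 453 c)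
noncomputable def Btab_s_450_454 (c : Nat) : Nat := @Bool.rec (fun _ => Nat) (Btab_s_450_452 c) (Btab_s_452_454 c) (Nat.ble 452 c)
noncomputable def Btab_s_454_456 (c : Nat) : Nat := @Bool.rec (fun _ => Nat) (Btab_454) (Btab_455) (Nat.ble 455 c)
noncomputable def Btab_s_456_458 (c : Nat) : Nat := @Bool.rec (fun _ => Nat) (Btab_456) (Btab_457) (Nat.ble 457 c)
noncomputable def Btab_s_454_458 (c : Nat) : Nat := @Bool.rec (fun _ => Nat) (Btab_s_454_456 c) (Btab_s_456_458 c) (Nat.ble 456 c)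
noncomputable def Btab_s_450_458 (c : Nat) : Nat := @Bool.rec (fun _ => Nat) (Btab_s_450_454 c) (Btab_s_454_458 c) (Nat.ble 454 c)
noncomputable def Btab_s_458_460 (c : Nat) : Nat := @Bool.rec (fun _ => Nat) (Btab_458) (Btab_459) (Nat.ble 459 c)
noncomputable def Btab_s_460_462 (c : Nat) : Nat := @Bool.rec (fun _ => Nat) (Btab_460) (Btab_461) (Nat.ble 461 c)
noncomputable def Btab_s_458_462 (c : Nat) : Nat := @Bool.rec (fun _ => Nat) (Btab_s_458_460 c) (Btab_s_460_462 c) (Nat.ble 460 c)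
noncomputable def Btab_s_462_464 (c : Nat) : Nat := @Bool.rec (fun _ => Nat) (Btab_462) (Btab_463) (Nat.ble 463 c)
noncomputable def Btab_s_465_467 (c : Nat) : Nat := @Bool.rec (fun _ => Nat) (Btab_465) (Btab_466) (Nat.ble 466 c)
noncomputable def Btab_s_464_467 (c : Nat) : Nat := @Bool.rec (fun _ => Nat) (Btab_464) (Btab_s_465_467 c) (Nat.ble 465 c)
noncomputable def Btab_s_462_467 (c : Nat) : Nat := @Bool.rec (fun _ => Nat) (Btab_s_462_464 c) (Btab_s_464_467 c) (Nat.ble 464 c)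
noncomputable def Btab_s_458_467 (c : Nat) : Nat := @Bool.rec (fun _ => Nat) (Btab_s_458_462 c) (Btab_s_462_467 c) (Nat.ble 462 c)
noncomputable def Btab_s_450_467 (c : Nat) : Nat := @Bool.rec (fun _ => Nat) (Btab_s_450_458 c) (Btab_s_458_467 c) (Nat.ble 458 c)
noncomputable def Btab_s_433_467 (c : Nat) : Nat := @Bool.rec (fun _ => Nat) (Btab_s_433_450 c) (Btab_s_450_467 c) (Nat.ble 450 c)
noncomputable def Btab_s_400_467 (c : Nat) : Nat := @Bool.rec (fun _ => Nat) (Btab_s_400_433 c) (Btab_s_433_467 c) (Nat.ble 433 c)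
noncomputable def Btab_s_467_469 (c : Nat) : Nat := @Bool.rec (fun _ => Nat) (Btab_467) (Btab_468) (Nat.ble 468 c)
noncomputable def Btab_s_469_471 (c : Nat) : Nat := @Bool.rec (fun _ => Nat) (Btab_469) (Btab_470) (Nat.ble 470 c)
noncomputable def Btab_s_467_471 (c : Nat) : Nat := @Bool.rec (fun _ => Nat) (Btab_s_467_469 c) (Btab_s_469_471 c) (Nat.ble 469 c)
noncomputable def Btab_s_471_473 (c : Nat) : Nat := @Bool.rec (fun _ => Nat) (Btab_471) (Btab_472) (Nat.ble 472 c)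
noncomputable def Btab_s_473_475 (c : Nat) : Nat := @Bool.rec (fun _ => Nat) (Btab_473) (Btab_474) (Nat.ble 474 c)
noncomputable def Btab_s_471_475 (c : Nat) : Nat := @Bool.rec (fun _ => Nat) (Btab_s_471_473 c) (Btab_s_473_475 c) (Nat.ble 473 c)
noncomputable def Btab_s_467_475 (c : Nat) : Nat := @Bool.rec (fun _ => Nat) (Btab_s_467_471 c) (Btab_s_471_475 c) (Nat.ble 471 c)
noncomputable def Btab_s_475_477 (c : Nat) : Nat := @Bool.rec (fun _ => Nat) (Btab_475) (Btab_476) (Nat.ble 476 c)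
noncomputable def Btab_s_477_479 (c : Nat) : Nat := @Bool.rec (fun _ => Nat) (Btab_477) (Btab_478) (Nat.ble 478 c)
noncomputable def Btab_s_475_479 (c : Nat) : Nat := @Bool.rec (fun _ => Nat) (Btab_s_475_477 c) (Btab_s_477_479 c) (Nat.ble 477 c)
noncomputable def Btab_s_479_481 (c : Nat) : Nat := @Bool.rec (fun _ => Nat) (Btab_479) (Btab_480) (Nat.ble 480 c)
noncomputable def Btab_s_481_483 (c : Nat) : Nat := @Bool.rec (fun _ => Nat) (Btab_481) (Btab_482) (Nat.ble 482 c)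
noncomputable def Btab_s_479_483 (c : Nat) : Nat := @Bool.rec (fun _ => Nat) (Btab_s_479_481 c) (Btab_s_481_483 c) (Nat.ble 481 c)
noncomputable def Btab_s_475_483 (c : Nat) : Nat := @Bool.rec (fun _ => Nat) (Btab_s_475_479 c) (Btab_s_479_483 c) (Nat.ble 479 c)
noncomputable def Btab_s_467_483 (c : Nat) : Nat := @Bool.rec (fun _ => Nat) (Btab_s_467_475 c) (Btab_s_475_483 c) (Nat.ble 475 c)
noncomputable def Btab_s_483_485 (c : Nat) : Nat := @Bool.rec (fun _ => Nat) (Btab_483) (Btab_484) (Nat.ble 484 c)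
noncomputable def Btab_s_485_487 (c : Nat) : Nat := @Bool.rec (fun _ => Nat) (Btab_485) (Btab_486) (Nat.ble 486 c)
noncomputable def Btab_s_483_487 (c : Nat) : Nat := @Bool.rec (fun _ => Nat) (Btab_s_483_485 c) (Btab_s_485_487 c) (Nat.ble 485 c)
noncomputable def Btab_s_487_489 (c : Nat) : Nat := @Bool.rec (fun _ => Nat) (Btab_487) (Btab_488) (Nat.ble 488 c)
noncomputable def Btab_s_489_491 (c : Nat) : Nat := @Bool.rec (fun _ => Nat) (Btab_489) (Btab_490) (Nat.ble 490 c)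
noncomputable def Btab_s_487_491 (c : Nat) : Nat := @Bool.rec (fun _ => Nat) (Btab_s_487_489 c) (Btab_s_489_491 c) (Nat.ble 489 c)
noncomputable def Btab_s_483_491 (c : Nat) : Nat := @Bool.rec (fun _ => Nat) (Btab_s_483_487 c) (Btab_s_487_491 c) (Nat.ble 487 c)
noncomputable def Btab_s_491_493 (c : Nat) : Nat := @Bool.rec (fun _ => Nat) (Btab_491) (Btab_492) (Nat.ble 492 c)
noncomputable def Btab_s_493_495 (c : Nat) : Nat := @Bool.rec (fun _ => Nat) (Btab_493) (Btab_494) (Nat.ble 494 c)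
noncomputable def Btab_s_491_495 (c : Nat) : Nat := @Bool.rec (fun _ => Nat) (Btab_s_491_493 c) (Btab_s_493_495 c) (Nat.ble 493 c)
noncomputable def Btab_s_495_497 (c : Nat) : Nat := @Bool.rec (fun _ => Nat) (Btab_495) (Btab_496) (Nat.ble 496 c)
noncomputable def Btab_s_498_500 (c : Nat) : Nat := @Bool.rec (fun _ => Nat) (Btab_498) (Btab_499) (Nat.ble 499 c)
noncomputable def Btab_s_497_500 (c : Nat) : Nat := @Bool.rec (fun _ => Nat) (Btab_497) (Btab_s_498_500 c) (Nat.ble 498 c)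
noncomputable def Btab_s_495_500 (c : Nat) : Nat := @Bool.rec (fun _ => Nat) (Btab_s_495_497 c) (Btab_s_497_500 c) (Nat.ble 497 c)
noncomputable def Btab_s_491_500 (c : Nat) : Nat := @Bool.rec (fun _ => Nat) (Btab_s_491_495 c) (Btab_s_495_500 c) (Nat.ble 495 c)
noncomputable def Btab_s_483_500 (c : Nat) : Nat := @Bool.rec (fun _ => Nat) (Btab_s_483_491 c) (Btab_s_491_500 c) (Nat.ble 491 c)
noncomputable def Btab_s_467_500 (c : Nat) : Nat := @Bool.rec (fun _ => Nat) (Btab_s_467_483 c) (Btab_s_483_500 c) (Nat.ble 483 c)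
noncomputable def Btab_s_500_502 (c : Nat) : Nat := @Bool.rec (fun _ => Nat) (Btab_500) (Btab_501) (Nat.ble 501 c)
noncomputable def Btab_s_502_504 (c : Nat) : Nat := @Bool.rec (fun _ => Nat) (Btab_502) (Btab_503) (Nat.ble 503 c)
noncomputable def Btab_s_500_504 (c : Nat) : Nat := @Bool.rec (fun _ => Nat) (Btab_s_500_502 c) (Btab_s_502_504 c) (Nat.ble 502 c)
noncomputable def Btab_s_504_506 (c : Nat) : Nat := @Bool.rec (fun _ => Nat) (Btab_504) (Btab_505) (Nat.ble 505 c)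
noncomputable def Btab_s_506_508 (c : Nat) : Nat := @Bool.rec (fun _ => Nat) (Btab_506) (Btab_507) (Nat.ble 507 c)
noncomputable def Btab_s_504_508 (c : Nat) : Nat := @Bool.rec (fun _ => Nat) (Btab_s_504_506 c) (Btab_s_506_508 c) (Nat.ble 506 c)
noncomputable def Btab_s_500_508 (c : Nat) : Nat := @Bool.rec (fun _ => Nat) (Btab_s_500_504 c) (Btab_s_504_508 c) (Nat.ble 504 c)
noncomputable def Btab_s_508_510 (c : Nat) : Nat := @Bool.rec (fun _ => Nat) (Btab_508) (Btab_509) (Nat.ble 509 c)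
noncomputable def Btab_s_510_512 (c : Nat) : Nat := @Bool.rec (fun _ => Nat) (Btab_510) (Btab_511) (Nat.ble 511 c)
noncomputable def Btab_s_508_512 (c : Nat) : Nat := @Bool.rec (fun _ => Nat) (Btab_s_508_510 c) (Btab_s_510_512 c) (Nat.ble 510 c)
noncomputable def Btab_s_512_514 (c : Nat) : Nat := @Bool.rec (fun _ => Nat) (Btab_512) (Btab_513) (Nat.ble 513 c)
noncomputable def Btab_s_515_517 (c : Nat) : Nat := @Bool.rec (fun _ => Nat) (Btab_515) (Btab_516) (Nat.ble 516 c)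
noncomputable def Btab_s_514_517 (c : Nat) : Nat := @Bool.rec (fun _ => Nat) (Btab_514) (Btab_s_515_517 c) (Nat.ble 515 c)
noncomputable def Btab_s_512_517 (c : Nat) : Nat := @Bool.rec (fun _ => Nat) (Btab_s_512_514 c) (Btab_s_514_517 c) (Nat.ble 514 c)
noncomputable def Btab_s_508_517 (c : Nat) : Nat := @Bool.rec (fun _ => Nat) (Btab_s_508_512 c) (Btab_s_512_517 c) (Nat.ble 512 c)
noncomputable def Btab_s_500_517 (c : Nat) : Nat := @Bool.rec (fun _ => Nat) (Btab_s_500_508 c) (Btab_s_508_517 c) (Nat.ble 508 c)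
noncomputable def Btab_s_517_519 (c : Nat) : Nat := @Bool.rec (fun _ => Nat) (Btab_517) (Btab_518) (Nat.ble 518 c)
noncomputable def Btab_s_519_521 (c : Nat) : Nat := @Bool.rec (fun _ => Nat) (Btab_519) (Btab_520) (Nat.ble 520 c)
noncomputable def Btab_s_517_521 (c : Nat) : Nat := @Bool.rec (fun _ => Nat) (Btab_s_517_519 c) (Btab_s_519_521 c) (Nat.ble 519 c)
noncomputable def Btab_s_521_523 (c : Nat) : Nat := @Bool.rec (fun _ => Nat) (Btab_521) (Btab_522) (Nat.ble 522 c)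
noncomputable def Btab_s_523_525 (c : Nat) : Nat := @Bool.rec (fun _ => Nat) (Btab_523) (Btab_524) (Nat.ble 524 c)
noncomputable def Btab_s_521_525 (c : Nat) : Nat := @Bool.rec (fun _ => Nat) (Btab_s_521_523 c) (Btab_s_523_525 c) (Nat.ble 523 c)
noncomputable def Btab_s_517_525 (c : Nat) : Nat := @Bool.rec (fun _ => Nat) (Btab_s_517_521 c) (Btab_s_521_525 c) (Nat.ble 521 c)
noncomputable def Btab_s_525_527 (c : Nat) : Nat := @Bool.rec (fun _ => Nat) (Btab_525) (Btab_526) (Nat.ble 526 c)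
noncomputable def Btab_s_527_529 (c : Nat) : Nat := @Bool.rec (fun _ => Nat) (Btab_527) (Btab_528) (Nat.ble 528 c)
noncomputable def Btab_s_525_529 (c : Nat) : Nat := @Bool.rec (fun _ => Nat) (Btab_s_525_527 c) (Btab_s_527_529 c) (Nat.ble 527 c)
noncomputable def Btab_s_529_531 (c : Nat) : Nat := @Bool.rec (fun _ => Nat) (Btab_529) (Btab_530) (Nat.ble 530 c)
noncomputable def Btab_s_532_534 (c : Nat) : Nat := @Bool.rec (fun _ => Nat) (Btab_532) (Btab_533) (Nat.ble 533 c)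
noncomputable def Btab_s_531_534 (c : Nat) : Nat := @Bool.rec (fun _ => Nat) (Btab_531) (Btab_s_532_534 c) (Nat.ble 532 c)
noncomputable def Btab_s_529_534 (c : Nat) : Nat := @Bool.rec (fun _ => Nat) (Btab_s_529_531 c) (Btab_s_531_534 c) (Nat.ble 531 c)
noncomputable def Btab_s_525_534 (c : Nat) : Nat := @Bool.rec (fun _ => Nat) (Btab_s_525_529 c) (Btab_s_529_534 c) (Nat.ble 529 c)
noncomputable def Btab_s_517_534 (c : Nat) : Nat := @Bool.rec (fun _ => Nat) (Btab_s_517_525 c) (Btab_s_525_534 c) (Nat.ble 525 c)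
noncomputable def Btab_s_500_534 (c : Nat) : Nat := @Bool.rec (fun _ => Nat) (Btab_s_500_517 c) (Btab_s_517_534 c) (Nat.ble 517 c)
noncomputable def Btab_s_467_534 (c : Nat) : Nat := @Bool.rec (fun _ => Nat) (Btab_s_467_500 c) (Btab_s_500_534 c) (Nat.ble 500 c)
noncomputable def Btab_s_400_534 (c : Nat) : Nat := @Bool.rec (fun _ => Nat) (Btab_s_400_467 c) (Btab_s_467_534 c) (Nat.ble 467 c)
noncomputable def Btab_s_267_534 (c : Nat) : Nat := @Bool.rec (fun _ => Nat) (Btab_s_267_400 c) (Btab_s_400_534 c) (Nat.ble 400 c)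
noncomputable def Btab_s_0_534 (c : Nat) : Nat := @Bool.rec (fun _ => Nat) (Btab_s_0_267 c) (Btab_s_267_534 c) (Nat.ble 267 c)
noncomputable def Btab (i : Nat) : Nat := rdw 39 549755813887 (Btab_s_0_534 (Nat.shiftRight i 11)) (Nat.land i 2047)
noncomputable def Ptab_s_1_3 (c : Nat) : Nat := @Bool.rec (fun _ => Nat) (Ptab_1) (Ptab_2) (Nat.ble 2 c)
noncomputable def Ptab_s_0_3 (c : Nat) : Nat := @Bool.rec (fun _ => Nat) (Ptab_0) (Ptab_s_1_3 c) (Nat.ble 1 c)
noncomputable def Ptab_s_3_5 (c : Nat) : Nat := @Bool.rec (fun _ => Nat) (Ptab_3) (Ptab_4) (Nat.ble 4 c)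
noncomputable def Ptab_s_5_7 (c : Nat) : Nat := @Bool.rec (fun _ => Nat) (Ptab_5) (Ptab_6) (Nat.ble 6 c)
noncomputable def Ptab_s_3_7 (c : Nat) : Nat := @Bool.rec (fun _ => Nat) (Ptab_s_3_5 c) (Ptab_s_5_7 c) (Nat.ble 5 c)
noncomputable def Ptab_s_0_7 (c : Nat) : Nat := @Bool.rec (fun _ => Nat) (Ptab_s_0_3 c) (Ptab_s_3_7 c) (Nat.ble 3 c)
noncomputable def Ptab_s_7_9 (c : Nat) : Nat := @Bool.rec (fun _ => Nat) (Ptab_7) (Ptab_8) (Nat.ble 8 c)
noncomputable def Ptab_s_9_11 (c : Nat) : Nat := @Bool.rec (fun _ => Nat) (Ptab_9) (Ptab_10) (Nat.ble 10 c)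
noncomputable def Ptab_s_7_11 (c : Nat) : Nat := @Bool.rec (fun _ => Nat) (Ptab_s_7_9 c) (Ptab_s_9_11 c) (Nat.ble 9 c)
noncomputable def Ptab_s_11_13 (c : Nat) : Nat := @Bool.rec (fun _ => Nat) (Ptab_11) (Ptab_12) (Nat.ble 12 c)
noncomputable def Ptab_s_13_15 (c : Nat) : Nat := @Bool.rec (fun _ => Nat) (Ptab_13) (Ptab_14) (Nat.ble 14 c)
noncomputable def Ptab_s_11_15 (c : Nat) : Nat := @Bool.rec (fun _ => Nat) (Ptab_s_11_13 c) (Ptab_s_13_15 c) (Nat.ble 13 c)
noncomputable def Ptab_s_7_15 (c : Nat) : Nat := @Bool.rec (fun _ => Nat) (Ptab_s_7_11 c) (Ptab_s_11_15 c) (Nat.ble 11 c)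
noncomputable def Ptab_s_0_15 (c : Nat) : Nat := @Bool.rec (fun _ => Nat) (Ptab_s_0_7 c) (Ptab_s_7_15 c) (Nat.ble 7 c)
noncomputable def Ptab_s_15_17 (c : Nat) : Nat := @Bool.rec (fun _ => Nat) (Ptab_15) (Ptab_16) (Nat.ble 16 c)
noncomputable def Ptab_s_17_19 (c : Nat) : Nat := @Bool.rec (fun _ => Nat) (Ptab_17) (Ptab_18) (Nat.ble 18 c)
noncomputable def Ptab_s_15_19 (c : Nat) : Nat := @Bool.rec (fun _ => Nat) (Ptab_s_15_17 c) (Ptab_s_17_19 c) (Nat.ble 17 c)
noncomputable def Ptab_s_19_21 (c : Nat) : Nat := @Bool.rec (fun _ => Nat) (Ptab_19) (Ptab_20) (Nat.ble 20 c)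
noncomputable def Ptab_s_21_23 (c : Nat) : Nat := @Bool.rec (fun _ => Nat) (Ptab_21) (Ptab_22) (Nat.ble 22 c)
noncomputable def Ptab_s_19_23 (c : Nat) : Nat := @Bool.rec (fun _ => Nat) (Ptab_s_19_21 c) (Ptab_s_21_23 c) (Nat.ble 21 c)
noncomputable def Ptab_s_15_23 (c : Nat) : Nat := @Bool.rec (fun _ => Nat) (Ptab_s_15_19 c) (Ptab_s_19_23 c) (Nat.ble 19 c)
noncomputable def Ptab_s_23_25 (c : Nat) : Nat := @Bool.rec (fun _ => Nat) (Ptab_23) (Ptab_24) (Nat.ble 24 c)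
noncomputable def Ptab_s_25_27 (c : Nat) : Nat := @Bool.rec (fun _ => Nat) (Ptab_25) (Ptab_26) (Nat.ble 26 c)
noncomputable def Ptab_s_23_27 (c : Nat) : Nat := @Bool.rec (fun _ => Nat) (Ptab_s_23_25 c) (Ptab_s_25_27 c) (Nat.ble 25 c)
noncomputable def Ptab_s_27_29 (c : Nat) : Nat := @Bool.rec (fun _ => Nat) (Ptab_27) (Ptab_28) (Nat.ble 28 c)
noncomputable def Ptab_s_29_31 (c : Nat) : Nat := @Bool.rec (fun _ => Nat) (Ptab_29) (Ptab_30) (Nat.ble 30 c)
noncomputable def Ptab_s_27_31 (c : Nat) : Nat := @Bool.rec (fun _ => Nat) (Ptab_s_27_29 c) (Ptab_s_29_31 c) (Nat.ble 29 c)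
noncomputable def Ptab_s_23_31 (c : Nat) : Nat := @Bool.rec (fun _ => Nat) (Ptab_s_23_27 c) (Ptab_s_27_31 c) (Nat.ble 27 c)
noncomputable def Ptab_s_15_31 (c : Nat) : Nat := @Bool.rec (fun _ => Nat) (Ptab_s_15_23 c) (Ptab_s_23_31 c) (Nat.ble 23 c)
noncomputable def Ptab_s_0_31 (c : Nat) : Nat := @Bool.rec (fun _ => Nat) (Ptab_s_0_15 c) (Ptab_s_15_31 c) (Nat.ble 15 c)
noncomputable def Ptab_s_31_33 (c : Nat) : Nat := @Bool.rec (fun _ => Nat) (Ptab_31) (Ptab_32) (Nat.ble 32 c)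
noncomputable def Ptab_s_33_35 (c : Nat) : Nat := @Bool.rec (fun _ => Nat) (Ptab_33) (Ptab_34) (Nat.ble 34 c)
noncomputable def Ptab_s_31_35 (c : Nat) : Nat := @Bool.rec (fun _ => Nat) (Ptab_s_31_33 c) (Ptab_s_33_35 c) (Nat.ble 33 c)
noncomputable def Ptab_s_35_37 (c : Nat) : Nat := @Bool.rec (fun _ => Nat) (Ptab_35) (Ptab_36) (Nat.ble 36 c)
noncomputable def Ptab_s_37_39 (c : Nat) : Nat := @Bool.rec (fun _ => Nat) (Ptab_37) (Ptab_38) (Nat.ble 38 c)
noncomputable def Ptab_s_35_39 (c : Nat) : Nat := @Bool.rec (fun _ => Nat) (Ptab_s_35_37 c) (Ptab_s_37_39 c) (Nat.ble 37 c)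
noncomputable def Ptab_s_31_39 (c : Nat) : Nat := @Bool.rec (fun _ => Nat) (Ptab_s_31_35 c) (Ptab_s_35_39 c) (Nat.ble 35 c)
noncomputable def Ptab_s_39_41 (c : Nat) : Nat := @Bool.rec (fun _ => Nat) (Ptab_39) (Ptab_40) (Nat.ble 40 c)
noncomputable def Ptab_s_41_43 (c : Nat) : Nat := @Bool.rec (fun _ => Nat) (Ptab_41) (Ptab_42) (Nat.ble 42 c)
noncomputable def Ptab_s_39_43 (c : Nat) : Nat := @Bool.rec (fun _ => Nat) (Ptab_s_39_41 c) (Ptab_s_41_43 c) (Nat.ble 41 c)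
noncomputable def Ptab_s_43_45 (c : Nat) : Nat := @Bool.rec (fun _ => Nat) (Ptab_43) (Ptab_44) (Nat.ble 44 c)
noncomputable def Ptab_s_45_47 (c : Nat) : Nat := @Bool.rec (fun _ => Nat) (Ptab_45) (Ptab_46) (Nat.ble 46 c)
noncomputable def Ptab_s_43_47 (c : Nat) : Nat := @Bool.rec (fun _ => Nat) (Ptab_s_43_45 c) (Ptab_s_45_47 c) (Nat.ble 45 c)
noncomputable def Ptab_s_39_47 (c : Nat) : Nat := @Bool.rec (fun _ => Nat) (Ptab_s_39_43 c) (Ptab_s_43_47 c) (Nat.ble 43 c)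
noncomputable def Ptab_s_31_47 (c : Nat) : Nat := @Bool.rec (fun _ => Nat) (Ptab_s_31_39 c) (Ptab_s_39_47 c) (Nat.ble 39 c)
noncomputable def Ptab_s_47_49 (c : Nat) : Nat := @Bool.rec (fun _ => Nat) (Ptab_47) (Ptab_48) (Nat.ble 48 c)
noncomputable def Ptab_s_49_51 (c : Nat) : Nat := @Bool.rec (fun _ => Nat) (Ptab_49) (Ptab_50) (Nat.ble 50 c)
noncomputable def Ptab_s_47_51 (c : Nat) : Nat := @Bool.rec (fun _ => Nat) (Ptab_s_47_49 c) (Ptab_s_49_51 c) (Nat.ble 49 c)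
noncomputable def Ptab_s_51_53 (c : Nat) : Nat := @Bool.rec (fun _ => Nat) (Ptab_51) (Ptab_52) (Nat.ble 52 c)
noncomputable def Ptab_s_53_55 (c : Nat) : Nat := @Bool.rec (fun _ => Nat) (Ptab_53) (Ptab_54) (Nat.ble 54 c)
noncomputable def Ptab_s_51_55 (c : Nat) : Nat := @Bool.rec (fun _ => Nat) (Ptab_s_51_53 c) (Ptab_s_53_55 c) (Nat.ble 53 c)
noncomputable def Ptab_s_47_55 (c : Nat) : Nat := @Bool.rec (fun _ => Nat) (Ptab_s_47_51 c) (Ptab_s_51_55 c) (Nat.ble 51 c)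
noncomputable def Ptab_s_55_57 (c : Nat) : Nat := @Bool.rec (fun _ => Nat) (Ptab_55) (Ptab_56) (Nat.ble 56 c)
noncomputable def Ptab_s_57_59 (c : Nat) : Nat := @Bool.rec (fun _ => Nat) (Ptab_57) (Ptab_58) (Nat.ble 58 c)
noncomputable def Ptab_s_55_59 (c : Nat) : Nat := @Bool.rec (fun _ => Nat) (Ptab_s_55_57 c) (Ptab_s_57_59 c) (Nat.ble 57 c)
noncomputable def Ptab_s_59_61 (c : Nat) : Nat := @Bool.rec (fun _ => Nat) (Ptab_59) (Ptab_60) (Nat.ble 60 c)
noncomputable def Ptab_s_61_63 (c : Nat) : Nat := @Bool.rec (fun _ => Nat) (Ptab_61) (Ptab_62) (Nat.ble 62 c)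
noncomputable def Ptab_s_59_63 (c : Nat) : Nat := @Bool.rec (fun _ => Nat) (Ptab_s_59_61 c) (Ptab_s_61_63 c) (Nat.ble 61 c)
noncomputable def Ptab_s_55_63 (c : Nat) : Nat := @Bool.rec (fun _ => Nat) (Ptab_s_55_59 c) (Ptab_s_59_63 c) (Nat.ble 59 c)
noncomputable def Ptab_s_47_63 (c : Nat) : Nat := @Bool.rec (fun _ => Nat) (Ptab_s_47_55 c) (Ptab_s_55_63 c) (Nat.ble 55 c)
noncomputable def Ptab_s_31_63 (c : Nat) : Nat := @Bool.rec (fun _ => Nat) (Ptab_s_31_47 c) (Ptab_s_47_63 c) (Nat.ble 47 c)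
noncomputable def Ptab_s_0_63 (c : Nat) : Nat := @Bool.rec (fun _ => Nat) (Ptab_s_0_31 c) (Ptab_s_31_63 c) (Nat.ble 31 c)
noncomputable def Ptab_s_63_65 (c : Nat) : Nat := @Bool.rec (fun _ => Nat) (Ptab_63) (Ptab_64) (Nat.ble 64 c)
noncomputable def Ptab_s_65_67 (c : Nat) : Nat := @Bool.rec (fun _ => Nat) (Ptab_65) (Ptab_66) (Nat.ble 66 c)
noncomputable def Ptab_s_63_67 (c : Nat) : Nat := @Bool.rec (fun _ => Nat) (Ptab_s_63_65 c) (Ptab_s_65_67 c) (Nat.ble 65 c)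
noncomputable def Ptab_s_67_69 (c : Nat) : Nat := @Bool.rec (fun _ => Nat) (Ptab_67) (Ptab_68) (Nat.ble 68 c)
noncomputable def Ptab_s_69_71 (c : Nat) : Nat := @Bool.rec (fun _ => Nat) (Ptab_69) (Ptab_70) (Nat.ble 70 c)
noncomputable def Ptab_s_67_71 (c : Nat) : Nat := @Bool.rec (fun _ => Nat) (Ptab_s_67_69 c) (Ptab_s_69_71 c) (Nat.ble 69 c)
noncomputable def Ptab_s_63_71 (c : Nat) : Nat := @Bool.rec (fun _ => Nat) (Ptab_s_63_67 c) (Ptab_s_67_71 c) (Nat.ble 67 c)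
noncomputable def Ptab_s_71_73 (c : Nat) : Nat := @Bool.rec (fun _ => Nat) (Ptab_71) (Ptab_72) (Nat.ble 72 c)
noncomputable def Ptab_s_73_75 (c : Nat) : Nat := @Bool.rec (fun _ => Nat) (Ptab_73) (Ptab_74) (Nat.ble 74 c)
noncomputable def Ptab_s_71_75 (c : Nat) : Nat := @Bool.rec (fun _ => Nat) (Ptab_s_71_73 c) (Ptab_s_73_75 c) (Nat.ble 73 c)
noncomputable def Ptab_s_75_77 (c : Nat) : Nat := @Bool.rec (fun _ => Nat) (Ptab_75) (Ptab_76) (Nat.ble 76 c)
noncomputable def Ptab_s_77_79 (c : Nat) : Nat := @Bool.rec (fun _ => Nat) (Ptab_77) (Ptab_78) (Nat.ble 78 c)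
noncomputable def Ptab_s_75_79 (c : Nat) : Nat := @Bool.rec (fun _ => Nat) (Ptab_s_75_77 c) (Ptab_s_77_79 c) (Nat.ble 77 c)
noncomputable def Ptab_s_71_79 (c : Nat) : Nat := @Bool.rec (fun _ => Nat) (Ptab_s_71_75 c) (Ptab_s_75_79 c) (Nat.ble 75 c)
noncomputable def Ptab_s_63_79 (c : Nat) : Nat := @Bool.rec (fun _ => Nat) (Ptab_s_63_71 c) (Ptab_s_71_79 c) (Nat.ble 71 c)
noncomputable def Ptab_s_79_81 (c : Nat) : Nat := @Bool.rec (fun _ => Nat) (Ptab_79) (Ptab_80) (Nat.ble 80 c)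
noncomputable def Ptab_s_81_83 (c : Nat) : Nat := @Bool.rec (fun _ => Nat) (Ptab_81) (Ptab_82) (Nat.ble 82 c)
noncomputable def Ptab_s_79_83 (c : Nat) : Nat := @Bool.rec (fun _ => Nat) (Ptab_s_79_81 c) (Ptab_s_81_83 c) (Nat.ble 81 c)
noncomputable def Ptab_s_83_85 (c : Nat) : Nat := @Bool.rec (fun _ => Nat) (Ptab_83) (Ptab_84) (Nat.ble 84 c)
noncomputable def Ptab_s_85_87 (c : Nat) : Nat := @Bool.rec (fun _ => Nat) (Ptab_85) (Ptab_86) (Nat.ble 86 c)
noncomputable def Ptab_s_83_87 (c : Nat) : Nat := @Bool.rec (fun _ => Nat) (Ptab_s_83_85 c) (Ptab_s_85_87 c) (Nat.ble 85 c)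
noncomputable def Ptab_s_79_87 (c : Nat) : Nat := @Bool.rec (fun _ => Nat) (Ptab_s_79_83 c) (Ptab_s_83_87 c) (Nat.ble 83 c)
noncomputable def Ptab_s_87_89 (c : Nat) : Nat := @Bool.rec (fun _ => Nat) (Ptab_87) (Ptab_88) (Nat.ble 88 c)
noncomputable def Ptab_s_89_91 (c : Nat) : Nat := @Bool.rec (fun _ => Nat) (Ptab_89) (Ptab_90) (Nat.ble 90 c)
noncomputable def Ptab_s_87_91 (c : Nat) : Nat := @Bool.rec (fun _ => Nat) (Ptab_s_87_89 c) (Ptab_s_89_91 c) (Nat.ble 89 c)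
noncomputable def Ptab_s_91_93 (c : Nat) : Nat := @Bool.rec (fun _ => Nat) (Ptab_91) (Ptab_92) (Nat.ble 92 c)
noncomputable def Ptab_s_93_95 (c : Nat) : Nat := @Bool.rec (fun _ => Nat) (Ptab_93) (Ptab_94) (Nat.ble 94 c)
noncomputable def Ptab_s_91_95 (c : Nat) : Nat := @Bool.rec (fun _ => Nat) (Ptab_s_91_93 c) (Ptab_s_93_95 c) (Nat.ble 93 c)
noncomputable def Ptab_s_87_95 (c : Nat) : Nat := @Bool.rec (fun _ => Nat) (Ptab_s_87_91 c) (Ptab_s_91_95 c) (Nat.ble 91 c)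
noncomputable def Ptab_s_79_95 (c : Nat) : Nat := @Bool.rec (fun _ => Nat) (Ptab_s_79_87 c) (Ptab_s_87_95 c) (Nat.ble 87 c)
noncomputable def Ptab_s_63_95 (c : Nat) : Nat := @Bool.rec (fun _ => Nat) (Ptab_s_63_79 c) (Ptab_s_79_95 c) (Nat.ble 79 c)
noncomputable def Ptab_s_95_97 (c : Nat) : Nat := @Bool.rec (fun _ => Nat) (Ptab_95) (Ptab_96) (Nat.ble 96 c)
noncomputable def Ptab_s_97_99 (c : Nat) : Nat := @Bool.rec (fun _ => Nat) (Ptab_97) (Ptab_98) (Nat.ble 98 c)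
noncomputable def Ptab_s_95_99 (c : Nat) : Nat := @Bool.rec (fun _ => Nat) (Ptab_s_95_97 c) (Ptab_s_97_99 c) (Nat.ble 97 c)
noncomputable def Ptab_s_99_101 (c : Nat) : Nat := @Bool.rec (fun _ => Nat) (Ptab_99) (Ptab_100) (Nat.ble 100 c)
noncomputable def Ptab_s_101_103 (c : Nat) : Nat := @Bool.rec (fun _ => Nat) (Ptab_101) (Ptab_102) (Nat.ble 102 c)
noncomputable def Ptab_s_99_103 (c : Nat) : Nat := @Bool.rec (fun _ => Nat) (Ptab_s_99_101 c) (Ptab_s_101_103 c) (Nat.ble 101 c)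
noncomputable def Ptab_s_95_103 (c : Nat) : Nat := @Bool.rec (fun _ => Nat) (Ptab_s_95_99 c) (Ptab_s_99_103 c) (Nat.ble 99 c)
noncomputable def Ptab_s_103_105 (c : Nat) : Nat := @Bool.rec (fun _ => Nat) (Ptab_103) (Ptab_104) (Nat.ble 104 c)
noncomputable def Ptab_s_105_107 (c : Nat) : Nat := @Bool.rec (fun _ => Nat) (Ptab_105) (Ptab_106) (Nat.ble 106 c)
noncomputable def Ptab_s_103_107 (c : Nat) : Nat := @Bool.rec (fun _ => Nat) (Ptab_s_103_105 c) (Ptab_s_105_107 c) (Nat.ble 105 c)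
noncomputable def Ptab_s_107_109 (c : Nat) : Nat := @Bool.rec (fun _ => Nat) (Ptab_107) (Ptab_108) (Nat.ble 108 c)
noncomputable def Ptab_s_109_111 (c : Nat) : Nat := @Bool.rec (fun _ => Nat) (Ptab_109) (Ptab_110) (Nat.ble 110 c)
noncomputable def Ptab_s_107_111 (c : Nat) : Nat := @Bool.rec (fun _ => Nat) (Ptab_s_107_109 c) (Ptab_s_109_111 c) (Nat.ble 109 c)
noncomputable def Ptab_s_103_111 (c : Nat) : Nat := @Bool.rec (fun _ => Nat) (Ptab_s_103_107 c) (Ptab_s_107_111 c) (Nat.ble 107 c)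
noncomputable def Ptab_s_95_111 (c : Nat) : Nat := @Bool.rec (fun _ => Nat) (Ptab_s_95_103 c) (Ptab_s_103_111 c) (Nat.ble 103 c)
noncomputable def Ptab_s_111_113 (c : Nat) : Nat := @Bool.rec (fun _ => Nat) (Ptab_111) (Ptab_112) (Nat.ble 112 c)
noncomputable def Ptab_s_113_115 (c : Nat) : Nat := @Bool.rec (fun _ => Nat) (Ptab_113) (Ptab_114) (Nat.ble 114 c)
noncomputable def Ptab_s_111_115 (c : Nat) : Nat := @Bool.rec (fun _ => Nat) (Ptab_s_111_113 c) (Ptab_s_113_115 c) (Nat.ble 113 c)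
noncomputable def Ptab_s_115_117 (c : Nat) : Nat := @Bool.rec (fun _ => Nat) (Ptab_115) (Ptab_116) (Nat.ble 116 c)
noncomputable def Ptab_s_117_119 (c : Nat) : Nat := @Bool.rec (fun _ => Nat) (Ptab_117) (Ptab_118) (Nat.ble 118 c)
noncomputable def Ptab_s_115_119 (c : Nat) : Nat := @Bool.rec (fun _ => Nat) (Ptab_s_115_117 c) (Ptab_s_117_119 c) (Nat.ble 117 c)
noncomputable def Ptab_s_111_119 (c : Nat) : Nat := @Bool.rec (fun _ => Nat) (Ptab_s_111_115 c) (Ptab_s_115_119 c) (Nat.ble 115 c)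
noncomputable def Ptab_s_119_121 (c : Nat) : Nat := @Bool.rec (fun _ => Nat) (Ptab_119) (Ptab_120) (Nat.ble 120 c)
noncomputable def Ptab_s_121_123 (c : Nat) : Nat := @Bool.rec (fun _ => Nat) (Ptab_121) (Ptab_122) (Nat.ble 122 c)
noncomputable def Ptab_s_119_123 (c : Nat) : Nat := @Bool.rec (fun _ => Nat) (Ptab_s_119_121 c) (Ptab_s_121_123 c) (Nat.ble 121 c)
noncomputable def Ptab_s_123_125 (c : Nat) : Nat := @Bool.rec (fun _ => Nat) (Ptab_123) (Ptab_124) (Nat.ble 124 c)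
noncomputable def Ptab_s_125_127 (c : Nat) : Nat := @Bool.rec (fun _ => Nat) (Ptab_125) (Ptab_126) (Nat.ble 126 c)
noncomputable def Ptab_s_123_127 (c : Nat) : Nat := @Bool.rec (fun _ => Nat) (Ptab_s_123_125 c) (Ptab_s_125_127 c) (Nat.ble 125 c)
noncomputable def Ptab_s_119_127 (c : Nat) : Nat := @Bool.rec (fun _ => Nat) (Ptab_s_119_123 c) (Ptab_s_123_127 c) (Nat.ble 123 c)
noncomputable def Ptab_s_111_127 (c : Nat) : Nat := @Bool.rec (fun _ => Nat) (Ptab_s_111_119 c) (Ptab_s_119_127 c) (Nat.ble 119 c)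
noncomputable def Ptab_s_95_127 (c : Nat) : Nat := @Bool.rec (fun _ => Nat) (Ptab_s_95_111 c) (Ptab_s_111_127 c) (Nat.ble 111 c)
noncomputable def Ptab_s_63_127 (c : Nat) : Nat := @Bool.rec (fun _ => Nat) (Ptab_s_63_95 c) (Ptab_s_95_127 c) (Nat.ble 95 c)
noncomputable def Ptab_s_0_127 (c : Nat) : Nat := @Bool.rec (fun _ => Nat) (Ptab_s_0_63 c) (Ptab_s_63_127 c) (Nat.ble 63 c)
noncomputable def Ptab_s_127_129 (c : Nat) : Nat := @Bool.rec (fun _ => Nat) (Ptab_127) (Ptab_128) (Nat.ble 128 c)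
noncomputable def Ptab_s_129_131 (c : Nat) : Nat := @Bool.rec (fun _ => Nat) (Ptab_129) (Ptab_130) (Nat.ble 130 c)
noncomputable def Ptab_s_127_131 (c : Nat) : Nat := @Bool.rec (fun _ => Nat) (Ptab_s_127_129 c) (Ptab_s_129_131 c) (Nat.ble 129 c)
noncomputable def Ptab_s_131_133 (c : Nat) : Nat := @Bool.rec (fun _ => Nat) (Ptab_131) (Ptab_132) (Nat.ble 132 c)
noncomputable def Ptab_s_133_135 (c : Nat) : Nat := @Bool.rec (fun _ => Nat) (Ptab_133) (Ptab_134) (Nat.ble 134 c)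
noncomputable def Ptab_s_131_135 (c : Nat) : Nat := @Bool.rec (fun _ => Nat) (Ptab_s_131_133 c) (Ptab_s_133_135 c) (Nat.ble 133 c)
noncomputable def Ptab_s_127_135 (c : Nat) : Nat := @Bool.rec (fun _ => Nat) (Ptab_s_127_131 c) (Ptab_s_131_135 c) (Nat.ble 131 c)
noncomputable def Ptab_s_135_137 (c : Nat) : Nat := @Bool.rec (fun _ => Nat) (Ptab_135) (Ptab_136) (Nat.ble 136 c)
noncomputable def Ptab_s_137_139 (c : Nat) : Nat := @Bool.rec (fun _ => Nat) (Ptab_137) (Ptab_138) (Nat.ble 138 c)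
noncomputable def Ptab_s_135_139 (c : Nat) : Nat := @Bool.rec (fun _ => Nat) (Ptab_s_135_137 c) (Ptab_s_137_139 c) (Nat.ble 137 c)
noncomputable def Ptab_s_139_141 (c : Nat) : Nat := @Bool.rec (fun _ => Nat) (Ptab_139) (Ptab_140) (Nat.ble 140 c)
noncomputable def Ptab_s_141_143 (c : Nat) : Nat := @Bool.rec (fun _ => Nat) (Ptab_141) (Ptab_142) (Nat.ble 142 c)
noncomputable def Ptab_s_139_143 (c : Nat) : Nat := @Bool.rec (fun _ => Nat) (Ptab_s_139_141 c) (Ptab_s_141_143 c) (Nat.ble 141 c)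
noncomputable def Ptab_s_135_143 (c : Nat) : Nat := @Bool.rec (fun _ => Nat) (Ptab_s_135_139 c) (Ptab_s_139_143 c) (Nat.ble 139 c)
noncomputable def Ptab_s_127_143 (c : Nat) : Nat := @Bool.rec (fun _ => Nat) (Ptab_s_127_135 c) (Ptab_s_135_143 c) (Nat.ble 135 c)
noncomputable def Ptab_s_143_145 (c : Nat) : Nat := @Bool.rec (fun _ => Nat) (Ptab_143) (Ptab_144) (Nat.ble 144 c)
noncomputable def Ptab_s_145_147 (c : Nat) : Nat := @Bool.rec (fun _ => Nat) (Ptab_145) (Ptab_146) (Nat.ble 146 c)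
noncomputable def Ptab_s_143_147 (c : Nat) : Nat := @Bool.rec (fun _ => Nat) (Ptab_s_143_145 c) (Ptab_s_145_147 c) (Nat.ble 145 c)
noncomputable def Ptab_s_147_149 (c : Nat) : Nat := @Bool.rec (fun _ => Nat) (Ptab_147) (Ptab_148) (Nat.ble 148 c)
noncomputable def Ptab_s_149_151 (c : Nat) : Nat := @Bool.rec (fun _ => Nat) (Ptab_149) (Ptab_150) (Nat.ble 150 c)
noncomputable def Ptab_s_147_151 (c : Nat) : Nat := @Bool.rec (fun _ => Nat) (Ptab_s_147_149 c) (Ptab_s_149_151 c) (Nat.ble 149 c)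
noncomputable def Ptab_s_143_151 (c : Nat) : Nat := @Bool.rec (fun _ => Nat) (Ptab_s_143_147 c) (Ptab_s_147_151 c) (Nat.ble 147 c)
noncomputable def Ptab_s_151_153 (c : Nat) : Nat := @Bool.rec (fun _ => Nat) (Ptab_151) (Ptab_152) (Nat.ble 152 c)
noncomputable def Ptab_s_153_155 (c : Nat) : Nat := @Bool.rec (fun _ => Nat) (Ptab_153) (Ptab_154) (Nat.ble 154 c)
noncomputable def Ptab_s_151_155 (c : Nat) : Nat := @Bool.rec (fun _ => Nat) (Ptab_s_151_153 c) (Ptab_s_153_155 c) (Nat.ble 153 c)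
noncomputable def Ptab_s_155_157 (c : Nat) : Nat := @Bool.rec (fun _ => Nat) (Ptab_155) (Ptab_156) (Nat.ble 156 c)
noncomputable def Ptab_s_157_159 (c : Nat) : Nat := @Bool.rec (fun _ => Nat) (Ptab_157) (Ptab_158) (Nat.ble 158 c)
noncomputable def Ptab_s_155_159 (c : Nat) : Nat := @Bool.rec (fun _ => Nat) (Ptab_s_155_157 c) (Ptab_s_157_159 c) (Nat.ble 157 c)
noncomputable def Ptab_s_151_159 (c : Nat) : Nat := @Bool.rec (fun _ => Nat) (Ptab_s_151_155 c) (Ptab_s_155_159 c) (Nat.ble 155 c)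
noncomputable def Ptab_s_143_159 (c : Nat) : Nat := @Bool.rec (fun _ => Nat) (Ptab_s_143_151 c) (Ptab_s_151_159 c) (Nat.ble 151 c)
noncomputable def Ptab_s_127_159 (c : Nat) : Nat := @Bool.rec (fun _ => Nat) (Ptab_s_127_143 c) (Ptab_s_143_159 c) (Nat.ble 143 c)
noncomputable def Ptab_s_159_161 (c : Nat) : Nat := @Bool.rec (fun _ => Nat) (Ptab_159) (Ptab_160) (Nat.ble 160 c)
noncomputable def Ptab_s_161_163 (c : Nat) : Nat := @Bool.rec (fun _ => Nat) (Ptab_161) (Ptab_162) (Nat.ble 162 c)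
noncomputable def Ptab_s_159_163 (c : Nat) : Nat := @Bool.rec (fun _ => Nat) (Ptab_s_159_161 c) (Ptab_s_161_163 c) (Nat.ble 161 c)
noncomputable def Ptab_s_163_165 (c : Nat) : Nat := @Bool.rec (fun _ => Nat) (Ptab_163) (Ptab_164) (Nat.ble 164 c)
noncomputable def Ptab_s_165_167 (c : Nat) : Nat := @Bool.rec (fun _ => Nat) (Ptab_165) (Ptab_166) (Nat.ble 166 c)
noncomputable def Ptab_s_163_167 (c : Nat) : Nat := @Bool.rec (fun _ => Nat) (Ptab_s_163_165 c) (Ptab_s_165_167 c) (Nat.ble 165 c)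
noncomputable def Ptab_s_159_167 (c : Nat) : Nat := @Bool.rec (fun _ => Nat) (Ptab_s_159_163 c) (Ptab_s_163_167 c) (Nat.ble 163 c)
noncomputable def Ptab_s_167_169 (c : Nat) : Nat := @Bool.rec (fun _ => Nat) (Ptab_167) (Ptab_168) (Nat.ble 168 c)
noncomputable def Ptab_s_169_171 (c : Nat) : Nat := @Bool.rec (fun _ => Nat) (Ptab_169) (Ptab_170) (Nat.ble 170 c)
noncomputable def Ptab_s_167_171 (c : Nat) : Nat := @Bool.rec (fun _ => Nat) (Ptab_s_167_169 c) (Ptab_s_169_171 c) (Nat.ble 169 c)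
noncomputable def Ptab_s_171_173 (c : Nat) : Nat := @Bool.rec (fun _ => Nat) (Ptab_171) (Ptab_172) (Nat.ble 172 c)
noncomputable def Ptab_s_173_175 (c : Nat) : Nat := @Bool.rec (fun _ => Nat) (Ptab_173) (Ptab_174) (Nat.ble 174 c)
noncomputable def Ptab_s_171_175 (c : Nat) : Nat := @Bool.rec (fun _ => Nat) (Ptab_s_171_173 c) (Ptab_s_173_175 c) (Nat.ble 173 c)
noncomputable def Ptab_s_167_175 (c : Nat) : Nat := @Bool.rec (fun _ => Nat) (Ptab_s_167_171 c) (Ptab_s_171_175 c) (Nat.ble 171 c)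
noncomputable def Ptab_s_159_175 (c : Nat) : Nat := @Bool.rec (fun _ => Nat) (Ptab_s_159_167 c) (Ptab_s_167_175 c) (Nat.ble 167 c)
noncomputable def Ptab_s_175_177 (c : Nat) : Nat := @Bool.rec (fun _ => Nat) (Ptab_175) (Ptab_176) (Nat.ble 176 c)
noncomputable def Ptab_s_177_179 (c : Nat) : Nat := @Bool.rec (fun _ => Nat) (Ptab_177) (Ptab_178) (Nat.ble 178 c)
noncomputable def Ptab_s_175_179 (c : Nat) : Nat := @Bool.rec (fun _ => Nat) (Ptab_s_175_177 c) (Ptab_s_177_179 c) (Nat.ble 177 c)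
noncomputable def Ptab_s_179_181 (c : Nat) : Nat := @Bool.rec (fun _ => Nat) (Ptab_179) (Ptab_180) (Nat.ble 180 c)
noncomputable def Ptab_s_181_183 (c : Nat) : Nat := @Bool.rec (fun _ => Nat) (Ptab_181) (Ptab_182) (Nat.ble 182 c)
noncomputable def Ptab_s_179_183 (c : Nat) : Nat := @Bool.rec (fun _ => Nat) (Ptab_s_179_181 c) (Ptab_s_181_183 c) (Nat.ble 181 c)
noncomputable def Ptab_s_175_183 (c : Nat) : Nat := @Bool.rec (fun _ => Nat) (Ptab_s_175_179 c) (Ptab_s_179_183 c) (Nat.ble 179 c)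
noncomputable def Ptab_s_183_185 (c : Nat) : Nat := @Bool.rec (fun _ => Nat) (Ptab_183) (Ptab_184) (Nat.ble 184 c)
noncomputable def Ptab_s_185_187 (c : Nat) : Nat := @Bool.rec (fun _ => Nat) (Ptab_185) (Ptab_186) (Nat.ble 186 c)
noncomputable def Ptab_s_183_187 (c : Nat) : Nat := @Bool.rec (fun _ => Nat) (Ptab_s_183_185 c) (Ptab_s_185_187 c) (Nat.ble 185 c)
noncomputable def Ptab_s_187_189 (c : Nat) : Nat := @Bool.rec (fun _ => Nat) (Ptab_187) (Ptab_188) (Nat.ble 188 c)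
noncomputable def Ptab_s_189_191 (c : Nat) : Nat := @Bool.rec (fun _ => Nat) (Ptab_189) (Ptab_190) (Nat.ble 190 c)
noncomputable def Ptab_s_187_191 (c : Nat) : Nat := @Bool.rec (fun _ => Nat) (Ptab_s_187_189 c) (Ptab_s_189_191 c) (Nat.ble 189 c)
noncomputable def Ptab_s_183_191 (c : Nat) : Nat := @Bool.rec (fun _ => Nat) (Ptab_s_183_187 c) (Ptab_s_187_191 c) (Nat.ble 187 c)
noncomputable def Ptab_s_175_191 (c : Nat) : Nat := @Bool.rec (fun _ => Nat) (Ptab_s_175_183 c) (Ptab_s_183_191 c) (Nat.ble 183 c)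
noncomputable def Ptab_s_159_191 (c : Nat) : Nat := @Bool.rec (fun _ => Nat) (Ptab_s_159_175 c) (Ptab_s_175_191 c) (Nat.ble 175 c)
noncomputable def Ptab_s_127_191 (c : Nat) : Nat := @Bool.rec (fun _ => Nat) (Ptab_s_127_159 c) (Ptab_s_159_191 c) (Nat.ble 159 c)
noncomputable def Ptab_s_191_193 (c : Nat) : Nat := @Bool.rec (fun _ => Nat) (Ptab_191) (Ptab_192) (Nat.ble 192 c)
noncomputable def Ptab_s_193_195 (c : Nat) : Nat := @Bool.rec (fun _ => Nat) (Ptab_193) (Ptab_194) (Nat.ble 194 c)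
noncomputable def Ptab_s_191_195 (c : Nat) : Nat := @Bool.rec (fun _ => Nat) (Ptab_s_191_193 c) (Ptab_s_193_195 c) (Nat.ble 193 c)
noncomputable def Ptab_s_195_197 (c : Nat) : Nat := @Bool.rec (fun _ => Nat) (Ptab_195) (Ptab_196) (Nat.ble 196 c)
noncomputable def Ptab_s_197_199 (c : Nat) : Nat := @Bool.rec (fun _ => Nat) (Ptab_197) (Ptab_198) (Nat.ble 198 c)
noncomputable def Ptab_s_195_199 (c : Nat) : Nat := @Bool.rec (fun _ => Nat) (Ptab_s_195_197 c) (Ptab_s_197_199 c) (Nat.ble 197 c)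
noncomputable def Ptab_s_191_199 (c : Nat) : Nat := @Bool.rec (fun _ => Nat) (Ptab_s_191_195 c) (Ptab_s_195_199 c) (Nat.ble 195 c)
noncomputable def Ptab_s_199_201 (c : Nat) : Nat := @Bool.rec (fun _ => Nat) (Ptab_199) (Ptab_200) (Nat.ble 200 c)
noncomputable def Ptab_s_201_203 (c : Nat) : Nat := @Bool.rec (fun _ => Nat) (Ptab_201) (Ptab_202) (Nat.ble 202 c)
noncomputable def Ptab_s_199_203 (c : Nat) : Nat := @Bool.rec (fun _ => Nat) (Ptab_s_199_201 c) (Ptab_s_201_203 c) (Nat.ble 201 c)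
noncomputable def Ptab_s_203_205 (c : Nat) : Nat := @Bool.rec (fun _ => Nat) (Ptab_203) (Ptab_204) (Nat.ble 204 c)
noncomputable def Ptab_s_205_207 (c : Nat) : Nat := @Bool.rec (fun _ => Nat) (Ptab_205) (Ptab_206) (Nat.ble 206 c)
noncomputable def Ptab_s_203_207 (c : Nat) : Nat := @Bool.rec (fun _ => Nat) (Ptab_s_203_205 c) (Ptab_s_205_207 c) (Nat.ble 205 c)
noncomputable def Ptab_s_199_207 (c : Nat) : Nat := @Bool.rec (fun _ => Nat) (Ptab_s_199_203 c) (Ptab_s_203_207 c) (Nat.ble 203 c)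
noncomputable def Ptab_s_191_207 (c : Nat) : Nat := @Bool.rec (fun _ => Nat) (Ptab_s_191_199 c) (Ptab_s_199_207 c) (Nat.ble 199 c)
noncomputable def Ptab_s_207_209 (c : Nat) : Nat := @Bool.rec (fun _ => Nat) (Ptab_207) (Ptab_208) (Nat.ble 208 c)
noncomputable def Ptab_s_209_211 (c : Nat) : Nat := @Bool.rec (fun _ => Nat) (Ptab_209) (Ptab_210) (Nat.ble 210 c)
noncomputable def Ptab_s_207_211 (c : Nat) : Nat := @Bool.rec (fun _ => Nat) (Ptab_s_207_209 c) (Ptab_s_209_211 c) (Nat.ble 209 c)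
noncomputable def Ptab_s_211_213 (c : Nat) : Nat := @Bool.rec (fun _ => Nat) (Ptab_211) (Ptab_212) (Nat.ble 212 c)
noncomputable def Ptab_s_213_215 (c : Nat) : Nat := @Bool.rec (fun _ => Nat) (Ptab_213) (Ptab_214) (Nat.ble 214 c)
noncomputable def Ptab_s_211_215 (c : Nat) : Nat := @Bool.rec (fun _ => Nat) (Ptab_s_211_213 c) (Ptab_s_213_215 c) (Nat.ble 213 c)
noncomputable def Ptab_s_207_215 (c : Nat) : Nat := @Bool.rec (fun _ => Nat) (Ptab_s_207_211 c) (Ptab_s_211_215 c) (Nat.ble 211 c)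
noncomputable def Ptab_s_215_217 (c : Nat) : Nat := @Bool.rec (fun _ => Nat) (Ptab_215) (Ptab_216) (Nat.ble 216 c)
noncomputable def Ptab_s_217_219 (c : Nat) : Nat := @Bool.rec (fun _ => Nat) (Ptab_217) (Ptab_218) (Nat.ble 218 c)
noncomputable def Ptab_s_215_219 (c : Nat) : Nat := @Bool.rec (fun _ => Nat) (Ptab_s_215_217 c) (Ptab_s_217_219 c) (Nat.ble 217 c)
noncomputable def Ptab_s_219_221 (c : Nat) : Nat := @Bool.rec (fun _ => Nat) (Ptab_219) (Ptab_220) (Nat.ble 220 c)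
noncomputable def Ptab_s_221_223 (c : Nat) : Nat := @Bool.rec (fun _ => Nat) (Ptab_221) (Ptab_222) (Nat.ble 222 c)
noncomputable def Ptab_s_219_223 (c : Nat) : Nat := @Bool.rec (fun _ => Nat) (Ptab_s_219_221 c) (Ptab_s_221_223 c) (Nat.ble 221 c)
noncomputable def Ptab_s_215_223 (c : Nat) : Nat := @Bool.rec (fun _ => Nat) (Ptab_s_215_219 c) (Ptab_s_219_223 c) (Nat.ble 219 c)
noncomputable def Ptab_s_207_223 (c : Nat) : Nat := @Bool.rec (fun _ => Nat) (Ptab_s_207_215 c) (Ptab_s_215_223 c) (Nat.ble 215 c)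
noncomputable def Ptab_s_191_223 (c : Nat) : Nat := @Bool.rec (fun _ => Nat) (Ptab_s_191_207 c) (Ptab_s_207_223 c) (Nat.ble 207 c)
noncomputable def Ptab_s_223_225 (c : Nat) : Nat := @Bool.rec (fun _ => Nat) (Ptab_223) (Ptab_224) (Nat.ble 224 c)
noncomputable def Ptab_s_225_227 (c : Nat) : Nat := @Bool.rec (fun _ => Nat) (Ptab_225) (Ptab_226) (Nat.ble 226 c)
noncomputable def Ptab_s_223_227 (c : Nat) : Nat := @Bool.rec (fun _ => Nat) (Ptab_s_223_225 c) (Ptab_s_225_227 c) (Nat.ble 225 c)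
noncomputable def Ptab_s_227_229 (c : Nat) : Nat := @Bool.rec (fun _ => Nat) (Ptab_227) (Ptab_228) (Nat.ble 228 c)
noncomputable def Ptab_s_229_231 (c : Nat) : Nat := @Bool.rec (fun _ => Nat) (Ptab_229) (Ptab_230) (Nat.ble 230 c)
noncomputable def Ptab_s_227_231 (c : Nat) : Nat := @Bool.rec (fun _ => Nat) (Ptab_s_227_229 c) (Ptab_s_229_231 c) (Nat.ble 229 c)
noncomputable def Ptab_s_223_231 (c : Nat) : Nat := @Bool.rec (fun _ => Nat) (Ptab_s_223_227 c) (Ptab_s_227_231 c) (Nat.ble 227 c)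
noncomputable def Ptab_s_231_233 (c : Nat) : Nat := @Bool.rec (fun _ => Nat) (Ptab_231) (Ptab_232) (Nat.ble 232 c)
noncomputable def Ptab_s_233_235 (c : Nat) : Nat := @Bool.rec (fun _ => Nat) (Ptab_233) (Ptab_234) (Nat.ble 234 c)
noncomputable def Ptab_s_231_235 (c : Nat) : Nat := @Bool.rec (fun _ => Nat) (Ptab_s_231_233 c) (Ptab_s_233_235 c) (Nat.ble 233 c)
noncomputable def Ptab_s_235_237 (c : Nat) : Nat := @Bool.rec (fun _ => Nat) (Ptab_235) (Ptab_236) (Nat.ble 236 c)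
noncomputable def Ptab_s_237_239 (c : Nat) : Nat := @Bool.rec (fun _ => Nat) (Ptab_237) (Ptab_238) (Nat.ble 238 c)
noncomputable def Ptab_s_235_239 (c : Nat) : Nat := @Bool.rec (fun _ => Nat) (Ptab_s_235_237 c) (Ptab_s_237_239 c) (Nat.ble 237 c)
noncomputable def Ptab_s_231_239 (c : Nat) : Nat := @Bool.rec (fun _ => Nat) (Ptab_s_231_235 c) (Ptab_s_235_239 c) (Nat.ble 235 c)
noncomputable def Ptab_s_223_239 (c : Nat) : Nat := @Bool.rec (fun _ => Nat) (Ptab_s_223_231 c) (Ptab_s_231_239 c) (Nat.ble 231 c)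
noncomputable def Ptab_s_239_241 (c : Nat) : Nat := @Bool.rec (fun _ => Nat) (Ptab_239) (Ptab_240) (Nat.ble 240 c)
noncomputable def Ptab_s_241_243 (c : Nat) : Nat := @Bool.rec (fun _ => Nat) (Ptab_241) (Ptab_242) (Nat.ble 242 c)
noncomputable def Ptab_s_239_243 (c : Nat) : Nat := @Bool.rec (fun _ => Nat) (Ptab_s_239_241 c) (Ptab_s_241_243 c) (Nat.ble 241 c)
noncomputable def Ptab_s_243_245 (c : Nat) : Nat := @Bool.rec (fun _ => Nat) (Ptab_243) (Ptab_244) (Nat.ble 244 c)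
noncomputable def Ptab_s_245_247 (c : Nat) : Nat := @Bool.rec (fun _ => Nat) (Ptab_245) (Ptab_246) (Nat.ble 246 c)
noncomputable def Ptab_s_243_247 (c : Nat) : Nat := @Bool.rec (fun _ => Nat) (Ptab_s_243_245 c) (Ptab_s_245_247 c) (Nat.ble 245 c)
noncomputable def Ptab_s_239_247 (c : Nat) : Nat := @Bool.rec (fun _ => Nat) (Ptab_s_239_243 c) (Ptab_s_243_247 c) (Nat.ble 243 c)
noncomputable def Ptab_s_247_249 (c : Nat) : Nat := @Bool.rec (fun _ => Nat) (Ptab_247) (Ptab_248) (Nat.ble 248 c)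
noncomputable def Ptab_s_249_251 (c : Nat) : Nat := @Bool.rec (fun _ => Nat) (Ptab_249) (Ptab_250) (Nat.ble 250 c)
noncomputable def Ptab_s_247_251 (c : Nat) : Nat := @Bool.rec (fun _ => Nat) (Ptab_s_247_249 c) (Ptab_s_249_251 c) (Nat.ble 249 c)
noncomputable def Ptab_s_251_253 (c : Nat) : Nat := @Bool.rec (fun _ => Nat) (Ptab_251) (Ptab_252) (Nat.ble 252 c)
noncomputable def Ptab_s_253_255 (c : Nat) : Nat := @Bool.rec (fun _ => Nat) (Ptab_253) (Ptab_254) (Nat.ble 254 c)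
noncomputable def Ptab_s_251_255 (c : Nat) : Nat := @Bool.rec (fun _ => Nat) (Ptab_s_251_253 c) (Ptab_s_253_255 c) (Nat.ble 253 c)
noncomputable def Ptab_s_247_255 (c : Nat) : Nat := @Bool.rec (fun _ => Nat) (Ptab_s_247_251 c) (Ptab_s_251_255 c) (Nat.ble 251 c)
noncomputable def Ptab_s_239_255 (c : Nat) : Nat := @Bool.rec (fun _ => Nat) (Ptab_s_239_247 c) (Ptab_s_247_255 c) (Nat.ble 247 c)
noncomputable def Ptab_s_223_255 (c : Nat) : Nat := @Bool.rec (fun _ => Nat) (Ptab_s_223_239 c) (Ptab_s_239_255 c) (Nat.ble 239 c)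
noncomputable def Ptab_s_191_255 (c : Nat) : Nat := @Bool.rec (fun _ => Nat) (Ptab_s_191_223 c) (Ptab_s_223_255 c) (Nat.ble 223 c)
noncomputable def Ptab_s_127_255 (c : Nat) : Nat := @Bool.rec (fun _ => Nat) (Ptab_s_127_191 c) (Ptab_s_191_255 c) (Nat.ble 191 c)
noncomputable def Ptab_s_0_255 (c : Nat) : Nat := @Bool.rec (fun _ => Nat) (Ptab_s_0_127 c) (Ptab_s_127_255 c) (Nat.ble 127 c)
noncomputable def Ptab_s_255_257 (c : Nat) : Nat := @Bool.rec (fun _ => Nat) (Ptab_255) (Ptab_256) (Nat.ble 256 c)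
noncomputable def Ptab_s_257_259 (c : Nat) : Nat := @Bool.rec (fun _ => Nat) (Ptab_257) (Ptab_258) (Nat.ble 258 c)
noncomputable def Ptab_s_255_259 (c : Nat) : Nat := @Bool.rec (fun _ => Nat) (Ptab_s_255_257 c) (Ptab_s_257_259 c) (Nat.ble 257 c)
noncomputable def Ptab_s_259_261 (c : Nat) : Nat := @Bool.rec (fun _ => Nat) (Ptab_259) (Ptab_260) (Nat.ble 260 c)
noncomputable def Ptab_s_261_263 (c : Nat) : Nat := @Bool.rec (fun _ => Nat) (Ptab_261) (Ptab_262) (Nat.ble 262 c)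
noncomputable def Ptab_s_259_263 (c : Nat) : Nat := @Bool.rec (fun _ => Nat) (Ptab_s_259_261 c) (Ptab_s_261_263 c) (Nat.ble 261 c)
noncomputable def Ptab_s_255_263 (c : Nat) : Nat := @Bool.rec (fun _ => Nat) (Ptab_s_255_259 c) (Ptab_s_259_263 c) (Nat.ble 259 c)
noncomputable def Ptab_s_263_265 (c : Nat) : Nat := @Bool.rec (fun _ => Nat) (Ptab_263) (Ptab_264) (Nat.ble 264 c)
noncomputable def Ptab_s_265_267 (c : Nat) : Nat := @Bool.rec (fun _ => Nat) (Ptab_265) (Ptab_266) (Nat.ble 266 c)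
noncomputable def Ptab_s_263_267 (c : Nat) : Nat := @Bool.rec (fun _ => Nat) (Ptab_s_263_265 c) (Ptab_s_265_267 c) (Nat.ble 265 c)
noncomputable def Ptab_s_267_269 (c : Nat) : Nat := @Bool.rec (fun _ => Nat) (Ptab_267) (Ptab_268) (Nat.ble 268 c)
noncomputable def Ptab_s_269_271 (c : Nat) : Nat := @Bool.rec (fun _ => Nat) (Ptab_269) (Ptab_270) (Nat.ble 270 c)
noncomputable def Ptab_s_267_271 (c : Nat) : Nat := @Bool.rec (fun _ => Nat) (Ptab_s_267_269 c) (Ptab_s_269_271 c) (Nat.ble 269 c)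
noncomputable def Ptab_s_263_271 (c : Nat) : Nat := @Bool.rec (fun _ => Nat) (Ptab_s_263_267 c) (Ptab_s_267_271 c) (Nat.ble 267 c)
noncomputable def Ptab_s_255_271 (c : Nat) : Nat := @Bool.rec (fun _ => Nat) (Ptab_s_255_263 c) (Ptab_s_263_271 c) (Nat.ble 263 c)
noncomputable def Ptab_s_271_273 (c : Nat) : Nat := @Bool.rec (fun _ => Nat) (Ptab_271) (Ptab_272) (Nat.ble 272 c)
noncomputable def Ptab_s_273_275 (c : Nat) : Nat := @Bool.rec (fun _ => Nat) (Ptab_273) (Ptab_274) (Nat.ble 274 c)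
noncomputable def Ptab_s_271_275 (c : Nat) : Nat := @Bool.rec (fun _ => Nat) (Ptab_s_271_273 c) (Ptab_s_273_275 c) (Nat.ble 273 c)
noncomputable def Ptab_s_275_277 (c : Nat) : Nat := @Bool.rec (fun _ => Nat) (Ptab_275) (Ptab_276) (Nat.ble 276 c)
noncomputable def Ptab_s_277_279 (c : Nat) : Nat := @Bool.rec (fun _ => Nat) (Ptab_277) (Ptab_278) (Nat.ble 278 c)
noncomputable def Ptab_s_275_279 (c : Nat) : Nat := @Bool.rec (fun _ => Nat) (Ptab_s_275_277 c) (Ptab_s_277_279 c) (Nat.ble 277 c)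
noncomputable def Ptab_s_271_279 (c : Nat) : Nat := @Bool.rec (fun _ => Nat) (Ptab_s_271_275 c) (Ptab_s_275_279 c) (Nat.ble 275 c)
noncomputable def Ptab_s_279_281 (c : Nat) : Nat := @Bool.rec (fun _ => Nat) (Ptab_279) (Ptab_280) (Nat.ble 280 c)
noncomputable def Ptab_s_281_283 (c : Nat) : Nat := @Bool.rec (fun _ => Nat) (Ptab_281) (Ptab_282) (Nat.ble 282 c)
noncomputable def Ptab_s_279_283 (c : Nat) : Nat := @Bool.rec (fun _ => Nat) (Ptab_s_279_281 c) (Ptab_s_281_283 c) (Nat.ble 281 c)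
noncomputable def Ptab_s_283_285 (c : Nat) : Nat := @Bool.rec (fun _ => Nat) (Ptab_283) (Ptab_284) (Nat.ble 284 c)
noncomputable def Ptab_s_285_287 (c : Nat) : Nat := @Bool.rec (fun _ => Nat) (Ptab_285) (Ptab_286) (Nat.ble 286 c)
noncomputable def Ptab_s_283_287 (c : Nat) : Nat := @Bool.rec (fun _ => Nat) (Ptab_s_283_285 c) (Ptab_s_285_287 c) (Nat.ble 285 c)
noncomputable def Ptab_s_279_287 (c : Nat) : Nat := @Bool.rec (fun _ => Nat) (Ptab_s_279_283 c) (Ptab_s_283_287 c) (Nat.ble 283 c)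
noncomputable def Ptab_s_271_287 (c : Nat) : Nat := @Bool.rec (fun _ => Nat) (Ptab_s_271_279 c) (Ptab_s_279_287 c) (Nat.ble 279 c)
noncomputable def Ptab_s_255_287 (c : Nat) : Nat := @Bool.rec (fun _ => Nat) (Ptab_s_255_271 c) (Ptab_s_271_287 c) (Nat.ble 271 c)
noncomputable def Ptab_s_287_289 (c : Nat) : Nat := @Bool.rec (fun _ => Nat) (Ptab_287) (Ptab_288) (Nat.ble 288 c)
noncomputable def Ptab_s_289_291 (c : Nat) : Nat := @Bool.rec (fun _ => Nat) (Ptab_289) (Ptab_290) (Nat.ble 290 c)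
noncomputable def Ptab_s_287_291 (c : Nat) : Nat := @Bool.rec (fun _ => Nat) (Ptab_s_287_289 c) (Ptab_s_289_291 c) (Nat.ble 289 c)
noncomputable def Ptab_s_291_293 (c : Nat) : Nat := @Bool.rec (fun _ => Nat) (Ptab_291) (Ptab_292) (Nat.ble 292 c)
noncomputable def Ptab_s_293_295 (c : Nat) : Nat := @Bool.rec (fun _ => Nat) (Ptab_293) (Ptab_294) (Nat.ble 294 c)
noncomputable def Ptab_s_291_295 (c : Nat) : Nat := @Bool.rec (fun _ => Nat) (Ptab_s_291_293 c) (Ptab_s_293_295 c) (Nat.ble 293 c)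
noncomputable def Ptab_s_287_295 (c : Nat) : Nat := @Bool.rec (fun _ => Nat) (Ptab_s_287_291 c) (Ptab_s_291_295 c) (Nat.ble 291 c)
noncomputable def Ptab_s_295_297 (c : Nat) : Nat := @Bool.rec (fun _ => Nat) (Ptab_295) (Ptab_296) (Nat.ble 296 c)
noncomputable def Ptab_s_297_299 (c : Nat) : Nat := @Bool.rec (fun _ => Nat) (Ptab_297) (Ptab_298) (Nat.ble 298 c)
noncomputable def Ptab_s_295_299 (c : Nat) : Nat := @Bool.rec (fun _ => Nat) (Ptab_s_295_297 c) (Ptab_s_297_299 c) (Nat.ble 297 c)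
noncomputable def Ptab_s_299_301 (c : Nat) : Nat := @Bool.rec (fun _ => Nat) (Ptab_299) (Ptab_300) (Nat.ble 300 c)
noncomputable def Ptab_s_301_303 (c : Nat) : Nat := @Bool.rec (fun _ => Nat) (Ptab_301) (Ptab_302) (Nat.ble 302 c)
noncomputable def Ptab_s_299_303 (c : Nat) : Nat := @Bool.rec (fun _ => Nat) (Ptab_s_299_301 c) (Ptab_s_301_303 c) (Nat.ble 301 c)
noncomputable def Ptab_s_295_303 (c : Nat) : Nat := @Bool.rec (fun _ => Nat) (Ptab_s_295_299 c) (Ptab_s_299_303 c) (Nat.ble 299 c)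
noncomputable def Ptab_s_287_303 (c : Nat) : Nat := @Bool.rec (fun _ => Nat) (Ptab_s_287_295 c) (Ptab_s_295_303 c) (Nat.ble 295 c)
noncomputable def Ptab_s_303_305 (c : Nat) : Nat := @Bool.rec (fun _ => Nat) (Ptab_303) (Ptab_304) (Nat.ble 304 c)
noncomputable def Ptab_s_305_307 (c : Nat) : Nat := @Bool.rec (fun _ => Nat) (Ptab_305) (Ptab_306) (Nat.ble 306 c)
noncomputable def Ptab_s_303_307 (c : Nat) : Nat := @Bool.rec (fun _ => Nat) (Ptab_s_303_305 c) (Ptab_s_305_307 c) (Nat.ble 305 c)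
noncomputable def Ptab_s_307_309 (c : Nat) : Nat := @Bool.rec (fun _ => Nat) (Ptab_307) (Ptab_308) (Nat.ble 308 c)
noncomputable def Ptab_s_309_311 (c : Nat) : Nat := @Bool.rec (fun _ => Nat) (Ptab_309) (Ptab_310) (Nat.ble 310 c)
noncomputable def Ptab_s_307_311 (c : Nat) : Nat := @Bool.rec (fun _ => Nat) (Ptab_s_307_309 c) (Ptab_s_309_311 c) (Nat.ble 309 c)
noncomputable def Ptab_s_303_311 (c : Nat) : Nat := @Bool.rec (fun _ => Nat) (Ptab_s_303_307 c) (Ptab_s_307_311 c) (Nat.ble 307 c)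
noncomputable def Ptab_s_311_313 (c : Nat) : Nat := @Bool.rec (fun _ => Nat) (Ptab_311) (Ptab_312) (Nat.ble 312 c)
noncomputable def Ptab_s_313_315 (c : Nat) : Nat := @Bool.rec (fun _ => Nat) (Ptab_313) (Ptab_314) (Nat.ble 314 c)
noncomputable def Ptab_s_311_315 (c : Nat) : Nat := @Bool.rec (fun _ => Nat) (Ptab_s_311_313 c) (Ptab_s_313_315 c) (Nat.ble 313 c)
noncomputable def Ptab_s_315_317 (c : Nat) : Nat := @Bool.rec (fun _ => Nat) (Ptab_315) (Ptab_316) (Nat.ble 316 c)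
noncomputable def Ptab_s_317_319 (c : Nat) : Nat := @Bool.rec (fun _ => Nat) (Ptab_317) (Ptab_318) (Nat.ble 318 c)
noncomputable def Ptab_s_315_319 (c : Nat) : Nat := @Bool.rec (fun _ => Nat) (Ptab_s_315_317 c) (Ptab_s_317_319 c) (Nat.ble 317 c)
noncomputable def Ptab_s_311_319 (c : Nat) : Nat := @Bool.rec (fun _ => Nat) (Ptab_s_311_315 c) (Ptab_s_315_319 c) (Nat.ble 315 c)
noncomputable def Ptab_s_303_319 (c : Nat) : Nat := @Bool.rec (fun _ => Nat) (Ptab_s_303_311 c) (Ptab_s_311_319 c) (Nat.ble 311 c)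
noncomputable def Ptab_s_287_319 (c : Nat) : Nat := @Bool.rec (fun _ => Nat) (Ptab_s_287_303 c) (Ptab_s_303_319 c) (Nat.ble 303 c)
noncomputable def Ptab_s_255_319 (c : Nat) : Nat := @Bool.rec (fun _ => Nat) (Ptab_s_255_287 c) (Ptab_s_287_319 c) (Nat.ble 287 c)
noncomputable def Ptab_s_319_321 (c : Nat) : Nat := @Bool.rec (fun _ => Nat) (Ptab_319) (Ptab_320) (Nat.ble 320 c)
noncomputable def Ptab_s_321_323 (c : Nat) : Nat := @Bool.rec (fun _ => Nat) (Ptab_321) (Ptab_322) (Nat.ble 322 c)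
noncomputable def Ptab_s_319_323 (c : Nat) : Nat := @Bool.rec (fun _ => Nat) (Ptab_s_319_321 c) (Ptab_s_321_323 c) (Nat.ble 321 c)
noncomputable def Ptab_s_323_325 (c : Nat) : Nat := @Bool.rec (fun _ => Nat) (Ptab_323) (Ptab_324) (Nat.ble 324 c)
noncomputable def Ptab_s_325_327 (c : Nat) : Nat := @Bool.rec (fun _ => Nat) (Ptab_325) (Ptab_326) (Nat.ble 326 c)
noncomputable def Ptab_s_323_327 (c : Nat) : Nat := @Bool.rec (fun _ => Nat) (Ptab_s_323_325 c) (Ptab_s_325_327 c) (Nat.ble 325 c)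
noncomputable def Ptab_s_319_327 (c : Nat) : Nat := @Bool.rec (fun _ => Nat) (Ptab_s_319_323 c) (Ptab_s_323_327 c) (Nat.ble 323 c)
noncomputable def Ptab_s_327_329 (c : Nat) : Nat := @Bool.rec (fun _ => Nat) (Ptab_327) (Ptab_328) (Nat.ble 328 c)
noncomputable def Ptab_s_329_331 (c : Nat) : Nat := @Bool.rec (fun _ => Nat) (Ptab_329) (Ptab_330) (Nat.ble 330 c)
noncomputable def Ptab_s_327_331 (c : Nat) : Nat := @Bool.rec (fun _ => Nat) (Ptab_s_327_329 c) (Ptab_s_329_331 c) (Nat.ble 329 c)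
noncomputable def Ptab_s_331_333 (c : Nat) : Nat := @Bool.rec (fun _ => Nat) (Ptab_331) (Ptab_332) (Nat.ble 332 c)
noncomputable def Ptab_s_333_335 (c : Nat) : Nat := @Bool.rec (fun _ => Nat) (Ptab_333) (Ptab_334) (Nat.ble 334 c)
noncomputable def Ptab_s_331_335 (c : Nat) : Nat := @Bool.rec (fun _ => Nat) (Ptab_s_331_333 c) (Ptab_s_333_335 c) (Nat.ble 333 c)
noncomputable def Ptab_s_327_335 (c : Nat) : Nat := @Bool.rec (fun _ => Nat) (Ptab_s_327_331 c) (Ptab_s_331_335 c) (Nat.ble 331 c)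
noncomputable def Ptab_s_319_335 (c : Nat) : Nat := @Bool.rec (fun _ => Nat) (Ptab_s_319_327 c) (Ptab_s_327_335 c) (Nat.ble 327 c)
noncomputable def Ptab_s_335_337 (c : Nat) : Nat := @Bool.rec (fun _ => Nat) (Ptab_335) (Ptab_336) (Nat.ble 336 c)
noncomputable def Ptab_s_337_339 (c : Nat) : Nat := @Bool.rec (fun _ => Nat) (Ptab_337) (Ptab_338) (Nat.ble 338 c)
noncomputable def Ptab_s_335_339 (c : Nat) : Nat := @Bool.rec (fun _ => Nat) (Ptab_s_335_337 c) (Ptab_s_337_339 c) (Nat.ble 337 c)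
noncomputable def Ptab_s_339_341 (c : Nat) : Nat := @Bool.rec (fun _ => Nat) (Ptab_339) (Ptab_340) (Nat.ble 340 c)
noncomputable def Ptab_s_341_343 (c : Nat) : Nat := @Bool.rec (fun _ => Nat) (Ptab_341) (Ptab_342) (Nat.ble 342 c)
noncomputable def Ptab_s_339_343 (c : Nat) : Nat := @Bool.rec (fun _ => Nat) (Ptab_s_339_341 c) (Ptab_s_341_343 c) (Nat.ble 341 c)
noncomputable def Ptab_s_335_343 (c : Nat) : Nat := @Bool.rec (fun _ => Nat) (Ptab_s_335_339 c) (Ptab_s_339_343 c) (Nat.ble 339 c)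
noncomputable def Ptab_s_343_345 (c : Nat) : Nat := @Bool.rec (fun _ => Nat) (Ptab_343) (Ptab_344) (Nat.ble 344 c)
noncomputable def Ptab_s_345_347 (c : Nat) : Nat := @Bool.rec (fun _ => Nat) (Ptab_345) (Ptab_346) (Nat.ble 346 c)
noncomputable def Ptab_s_343_347 (c : Nat) : Nat := @Bool.rec (fun _ => Nat) (Ptab_s_343_345 c) (Ptab_s_345_347 c) (Nat.ble 345 c)
noncomputable def Ptab_s_347_349 (c : Nat) : Nat := @Bool.rec (fun _ => Nat) (Ptab_347) (Ptab_348) (Nat.ble 348 c)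
noncomputable def Ptab_s_349_351 (c : Nat) : Nat := @Bool.rec (fun _ => Nat) (Ptab_349) (Ptab_350) (Nat.ble 350 c)
noncomputable def Ptab_s_347_351 (c : Nat) : Nat := @Bool.rec (fun _ => Nat) (Ptab_s_347_349 c) (Ptab_s_349_351 c) (Nat.ble 349 c)
noncomputable def Ptab_s_343_351 (c : Nat) : Nat := @Bool.rec (fun _ => Nat) (Ptab_s_343_347 c) (Ptab_s_347_351 c) (Nat.ble 347 c)
noncomputable def Ptab_s_335_351 (c : Nat) : Nat := @Bool.rec (fun _ => Nat) (Ptab_s_335_343 c) (Ptab_s_343_351 c) (Nat.ble 343 c)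
noncomputable def Ptab_s_319_351 (c : Nat) : Nat := @Bool.rec (fun _ => Nat) (Ptab_s_319_335 c) (Ptab_s_335_351 c) (Nat.ble 335 c)
noncomputable def Ptab_s_351_353 (c : Nat) : Nat := @Bool.rec (fun _ => Nat) (Ptab_351) (Ptab_352) (Nat.ble 352 c)
noncomputable def Ptab_s_353_355 (c : Nat) : Nat := @Bool.rec (fun _ => Nat) (Ptab_353) (Ptab_354) (Nat.ble 354 c)
noncomputable def Ptab_s_351_355 (c : Nat) : Nat := @Bool.rec (fun _ => Nat) (Ptab_s_351_353 c) (Ptab_s_353_355 c) (Nat.ble 353 c)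
noncomputable def Ptab_s_355_357 (c : Nat) : Nat := @Bool.rec (fun _ => Nat) (Ptab_355) (Ptab_356) (Nat.ble 356 c)
noncomputable def Ptab_s_357_359 (c : Nat) : Nat := @Bool.rec (fun _ => Nat) (Ptab_357) (Ptab_358) (Nat.ble 358 c)
noncomputable def Ptab_s_355_359 (c : Nat) : Nat := @Bool.rec (fun _ => Nat) (Ptab_s_355_357 c) (Ptab_s_357_359 c) (Nat.ble 357 c)
noncomputable def Ptab_s_351_359 (c : Nat) : Nat := @Bool.rec (fun _ => Nat) (Ptab_s_351_355 c) (Ptab_s_355_359 c) (Nat.ble 355 c)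
noncomputable def Ptab_s_359_361 (c : Nat) : Nat := @Bool.rec (fun _ => Nat) (Ptab_359) (Ptab_360) (Nat.ble 360 c)
noncomputable def Ptab_s_361_363 (c : Nat) : Nat := @Bool.rec (fun _ => Nat) (Ptab_361) (Ptab_362) (Nat.ble 362 c)
noncomputable def Ptab_s_359_363 (c : Nat) : Nat := @Bool.rec (fun _ => Nat) (Ptab_s_359_361 c) (Ptab_s_361_363 c) (Nat.ble 361 c)
noncomputable def Ptab_s_363_365 (c : Nat) : Nat := @Bool.rec (fun _ => Nat) (Ptab_363) (Ptab_364) (Nat.ble 364 c)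
noncomputable def Ptab_s_365_367 (c : Nat) : Nat := @Bool.rec (fun _ => Nat) (Ptab_365) (Ptab_366) (Nat.ble 366 c)
noncomputable def Ptab_s_363_367 (c : Nat) : Nat := @Bool.rec (fun _ => Nat) (Ptab_s_363_365 c) (Ptab_s_365_367 c) (Nat.ble 365 c)
noncomputable def Ptab_s_359_367 (c : Nat) : Nat := @Bool.rec (fun _ => Nat) (Ptab_s_359_363 c) (Ptab_s_363_367 c) (Nat.ble 363 c)
noncomputable def Ptab_s_351_367 (c : Nat) : Nat := @Bool.rec (fun _ => Nat) (Ptab_s_351_359 c) (Ptab_s_359_367 c) (Nat.ble 359 c)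
noncomputable def Ptab_s_367_369 (c : Nat) : Nat := @Bool.rec (fun _ => Nat) (Ptab_367) (Ptab_368) (Nat.ble 368 c)
noncomputable def Ptab_s_369_371 (c : Nat) : Nat := @Bool.rec (fun _ => Nat) (Ptab_369) (Ptab_370) (Nat.ble 370 c)
noncomputable def Ptab_s_367_371 (c : Nat) : Nat := @Bool.rec (fun _ => Nat) (Ptab_s_367_369 c) (Ptab_s_369_371 c) (Nat.ble 369 c)
noncomputable def Ptab_s_371_373 (c : Nat) : Nat := @Bool.rec (fun _ => Nat) (Ptab_371) (Ptab_372) (Nat.ble 372 c)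
noncomputable def Ptab_s_373_375 (c : Nat) : Nat := @Bool.rec (fun _ => Nat) (Ptab_373) (Ptab_374) (Nat.ble 374 c)
noncomputable def Ptab_s_371_375 (c : Nat) : Nat := @Bool.rec (fun _ => Nat) (Ptab_s_371_373 c) (Ptab_s_373_375 c) (Nat.ble 373 c)
noncomputable def Ptab_s_367_375 (c : Nat) : Nat := @Bool.rec (fun _ => Nat) (Ptab_s_367_371 c) (Ptab_s_371_375 c) (Nat.ble 371 c)
noncomputable def Ptab_s_375_377 (c : Nat) : Nat := @Bool.rec (fun _ => Nat) (Ptab_375) (Ptab_376) (Nat.ble 376 c)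
noncomputable def Ptab_s_377_379 (c : Nat) : Nat := @Bool.rec (fun _ => Nat) (Ptab_377) (Ptab_378) (Nat.ble 378 c)
noncomputable def Ptab_s_375_379 (c : Nat) : Nat := @Bool.rec (fun _ => Nat) (Ptab_s_375_377 c) (Ptab_s_377_379 c) (Nat.ble 377 c)
noncomputable def Ptab_s_379_381 (c : Nat) : Nat := @Bool.rec (fun _ => Nat) (Ptab_379) (Ptab_380) (Nat.ble 380 c)
noncomputable def Ptab_s_381_383 (c : Nat) : Nat := @Bool.rec (fun _ => Nat) (Ptab_381) (Ptab_382) (Nat.ble 382 c)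
noncomputable def Ptab_s_379_383 (c : Nat) : Nat := @Bool.rec (fun _ => Nat) (Ptab_s_379_381 c) (Ptab_s_381_383 c) (Nat.ble 381 c)
noncomputable def Ptab_s_375_383 (c : Nat) : Nat := @Bool.rec (fun _ => Nat) (Ptab_s_375_379 c) (Ptab_s_379_383 c) (Nat.ble 379 c)
noncomputable def Ptab_s_367_383 (c : Nat) : Nat := @Bool.rec (fun _ => Nat) (Ptab_s_367_375 c) (Ptab_s_375_383 c) (Nat.ble 375 c)
noncomputable def Ptab_s_351_383 (c : Nat) : Nat := @Bool.rec (fun _ => Nat) (Ptab_s_351_367 c) (Ptab_s_367_383 c) (Nat.ble 367 c)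
noncomputable def Ptab_s_319_383 (c : Nat) : Nat := @Bool.rec (fun _ => Nat) (Ptab_s_319_351 c) (Ptab_s_351_383 c) (Nat.ble 351 c)
noncomputable def Ptab_s_255_383 (c : Nat) : Nat := @Bool.rec (fun _ => Nat) (Ptab_s_255_319 c) (Ptab_s_319_383 c) (Nat.ble 319 c)
noncomputable def Ptab_s_383_385 (c : Nat) : Nat := @Bool.rec (fun _ => Nat) (Ptab_383) (Ptab_384) (Nat.ble 384 c)
noncomputable def Ptab_s_385_387 (c : Nat) : Nat := @Bool.rec (fun _ => Nat) (Ptab_385) (Ptab_386) (Nat.ble 386 c)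
noncomputable def Ptab_s_383_387 (c : Nat) : Nat := @Bool.rec (fun _ => Nat) (Ptab_s_383_385 c) (Ptab_s_385_387 c) (Nat.ble 385 c)
noncomputable def Ptab_s_387_389 (c : Nat) : Nat := @Bool.rec (fun _ => Nat) (Ptab_387) (Ptab_388) (Nat.ble 388 c)
noncomputable def Ptab_s_389_391 (c : Nat) : Nat := @Bool.rec (fun _ => Nat) (Ptab_389) (Ptab_390) (Nat.ble 390 c)
noncomputable def Ptab_s_387_391 (c : Nat) : Nat := @Bool.rec (fun _ => Nat) (Ptab_s_387_389 c) (Ptab_s_389_391 c) (Nat.ble 389 c)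
noncomputable def Ptab_s_383_391 (c : Nat) : Nat := @Bool.rec (fun _ => Nat) (Ptab_s_383_387 c) (Ptab_s_387_391 c) (Nat.ble 387 c)
noncomputable def Ptab_s_391_393 (c : Nat) : Nat := @Bool.rec (fun _ => Nat) (Ptab_391) (Ptab_392) (Nat.ble 392 c)
noncomputable def Ptab_s_393_395 (c : Nat) : Nat := @Bool.rec (fun _ => Nat) (Ptab_393) (Ptab_394) (Nat.ble 394 c)
noncomputable def Ptab_s_391_395 (c : Nat) : Nat := @Bool.rec (fun _ => Nat) (Ptab_s_391_393 c) (Ptab_s_393_395 c) (Nat.ble 393 c)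
noncomputable def Ptab_s_395_397 (c : Nat) : Nat := @Bool.rec (fun _ => Nat) (Ptab_395) (Ptab_396) (Nat.ble 396 c)
noncomputable def Ptab_s_397_399 (c : Nat) : Nat := @Bool.rec (fun _ => Nat) (Ptab_397) (Ptab_398) (Nat.ble 398 c)
noncomputable def Ptab_s_395_399 (c : Nat) : Nat := @Bool.rec (fun _ => Nat) (Ptab_s_395_397 c) (Ptab_s_397_399 c) (Nat.ble 397 c)
noncomputable def Ptab_s_391_399 (c : Nat) : Nat := @Bool.rec (fun _ => Nat) (Ptab_s_391_395 c) (Ptab_s_395_399 c) (Nat.ble 395 c)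
noncomputable def Ptab_s_383_399 (c : Nat) : Nat := @Bool.rec (fun _ => Nat) (Ptab_s_383_391 c) (Ptab_s_391_399 c) (Nat.ble 391 c)
noncomputable def Ptab_s_399_401 (c : Nat) : Nat := @Bool.rec (fun _ => Nat) (Ptab_399) (Ptab_400) (Nat.ble 400 c)
noncomputable def Ptab_s_401_403 (c : Nat) : Nat := @Bool.rec (fun _ => Nat) (Ptab_401) (Ptab_402) (Nat.ble 402 c)
noncomputable def Ptab_s_399_403 (c : Nat) : Nat := @Bool.rec (fun _ => Nat) (Ptab_s_399_401 c) (Ptab_s_401_403 c) (Nat.ble 401 c)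
noncomputable def Ptab_s_403_405 (c : Nat) : Nat := @Bool.rec (fun _ => Nat) (Ptab_403) (Ptab_404) (Nat.ble 404 c)
noncomputable def Ptab_s_405_407 (c : Nat) : Nat := @Bool.rec (fun _ => Nat) (Ptab_405) (Ptab_406) (Nat.ble 406 c)
noncomputable def Ptab_s_403_407 (c : Nat) : Nat := @Bool.rec (fun _ => Nat) (Ptab_s_403_405 c) (Ptab_s_405_407 c) (Nat.ble 405 c)
noncomputable def Ptab_s_399_407 (c : Nat) : Nat := @Bool.rec (fun _ => Nat) (Ptab_s_399_403 c) (Ptab_s_403_407 c) (Nat.ble 403 c)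
noncomputable def Ptab_s_407_409 (c : Nat) : Nat := @Bool.rec (fun _ => Nat) (Ptab_407) (Ptab_408) (Nat.ble 408 c)
noncomputable def Ptab_s_409_411 (c : Nat) : Nat := @Bool.rec (fun _ => Nat) (Ptab_409) (Ptab_410) (Nat.ble 410 c)
noncomputable def Ptab_s_407_411 (c : Nat) : Nat := @Bool.rec (fun _ => Nat) (Ptab_s_407_409 c) (Ptab_s_409_411 c) (Nat.ble 409 c)
noncomputable def Ptab_s_411_413 (c : Nat) : Nat := @Bool.rec (fun _ => Nat) (Ptab_411) (Ptab_412) (Nat.ble 412 c)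
noncomputable def Ptab_s_413_415 (c : Nat) : Nat := @Bool.rec (fun _ => Nat) (Ptab_413) (Ptab_414) (Nat.ble 414 c)
noncomputable def Ptab_s_411_415 (c : Nat) : Nat := @Bool.rec (fun _ => Nat) (Ptab_s_411_413 c) (Ptab_s_413_415 c) (Nat.ble 413 c)
noncomputable def Ptab_s_407_415 (c : Nat) : Nat := @Bool.rec (fun _ => Nat) (Ptab_s_407_411 c) (Ptab_s_411_415 c) (Nat.ble 411 c)
noncomputable def Ptab_s_399_415 (c : Nat) : Nat := @Bool.rec (fun _ => Nat) (Ptab_s_399_407 c) (Ptab_s_407_415 c) (Nat.ble 407 c)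
noncomputable def Ptab_s_383_415 (c : Nat) : Nat := @Bool.rec (fun _ => Nat) (Ptab_s_383_399 c) (Ptab_s_399_415 c) (Nat.ble 399 c)
noncomputable def Ptab_s_415_417 (c : Nat) : Nat := @Bool.rec (fun _ => Nat) (Ptab_415) (Ptab_416) (Nat.ble 416 c)
noncomputable def Ptab_s_417_419 (c : Nat) : Nat := @Bool.rec (fun _ => Nat) (Ptab_417) (Ptab_418) (Nat.ble 418 c)
noncomputable def Ptab_s_415_419 (c : Nat) : Nat := @Bool.rec (fun _ => Nat) (Ptab_s_415_417 c) (Ptab_s_417_419 c) (Nat.ble 417 c)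
noncomputable def Ptab_s_419_421 (c : Nat) : Nat := @Bool.rec (fun _ => Nat) (Ptab_419) (Ptab_420) (Nat.ble 420 c)
noncomputable def Ptab_s_421_423 (c : Nat) : Nat := @Bool.rec (fun _ => Nat) (Ptab_421) (Ptab_422) (Nat.ble 422 c)
noncomputable def Ptab_s_419_423 (c : Nat) : Nat := @Bool.rec (fun _ => Nat) (Ptab_s_419_421 c) (Ptab_s_421_423 c) (Nat.ble 421 c)
noncomputable def Ptab_s_415_423 (c : Nat) : Nat := @Bool.rec (fun _ => Nat) (Ptab_s_415_419 c) (Ptab_s_419_423 c) (Nat.ble 419 c)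
noncomputable def Ptab_s_423_425 (c : Nat) : Nat := @Bool.rec (fun _ => Nat) (Ptab_423) (Ptab_424) (Nat.ble 424 c)
noncomputable def Ptab_s_425_427 (c : Nat) : Nat := @Bool.rec (fun _ => Nat) (Ptab_425) (Ptab_426) (Nat.ble 426 c)
noncomputable def Ptab_s_423_427 (c : Nat) : Nat := @Bool.rec (fun _ => Nat) (Ptab_s_423_425 c) (Ptab_s_425_427 c) (Nat.ble 425 c)
noncomputable def Ptab_s_427_429 (c : Nat) : Nat := @Bool.rec (fun _ => Nat) (Ptab_427) (Ptab_428) (Nat.ble 428 c)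
noncomputable def Ptab_s_429_431 (c : Nat) : Nat := @Bool.rec (fun _ => Nat) (Ptab_429) (Ptab_430) (Nat.ble 430 c)
noncomputable def Ptab_s_427_431 (c : Nat) : Nat := @Bool.rec (fun _ => Nat) (Ptab_s_427_429 c) (Ptab_s_429_431 c) (Nat.ble 429 c)
noncomputable def Ptab_s_423_431 (c : Nat) : Nat := @Bool.rec (fun _ => Nat) (Ptab_s_423_427 c) (Ptab_s_427_431 c) (Nat.ble 427 c)
noncomputable def Ptab_s_415_431 (c : Nat) : Nat := @Bool.rec (fun _ => Nat) (Ptab_s_415_423 c) (Ptab_s_423_431 c) (Nat.ble 423 c)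
noncomputable def Ptab_s_431_433 (c : Nat) : Nat := @Bool.rec (fun _ => Nat) (Ptab_431) (Ptab_432) (Nat.ble 432 c)
noncomputable def Ptab_s_433_435 (c : Nat) : Nat := @Bool.rec (fun _ => Nat) (Ptab_433) (Ptab_434) (Nat.ble 434 c)
noncomputable def Ptab_s_431_435 (c : Nat) : Nat := @Bool.rec (fun _ => Nat) (Ptab_s_431_433 c) (Ptab_s_433_435 c) (Nat.ble 433 c)
noncomputable def Ptab_s_435_437 (c : Nat) : Nat := @Bool.rec (fun _ => Nat) (Ptab_435) (Ptab_436) (Nat.ble 436 c)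
noncomputable def Ptab_s_437_439 (c : Nat) : Nat := @Bool.rec (fun _ => Nat) (Ptab_437) (Ptab_438) (Nat.ble 438 c)
noncomputable def Ptab_s_435_439 (c : Nat) : Nat := @Bool.rec (fun _ => Nat) (Ptab_s_435_437 c) (Ptab_s_437_439 c) (Nat.ble 437 c)
noncomputable def Ptab_s_431_439 (c : Nat) : Nat := @Bool.rec (fun _ => Nat) (Ptab_s_431_435 c) (Ptab_s_435_439 c) (Nat.ble 435 c)
noncomputable def Ptab_s_439_441 (c : Nat) : Nat := @Bool.rec (fun _ => Nat) (Ptab_439) (Ptab_440) (Nat.ble 440 c)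
noncomputable def Ptab_s_441_443 (c : Nat) : Nat := @Bool.rec (fun _ => Nat) (Ptab_441) (Ptab_442) (Nat.ble 442 c)
noncomputable def Ptab_s_439_443 (c : Nat) : Nat := @Bool.rec (fun _ => Nat) (Ptab_s_439_441 c) (Ptab_s_441_443 c) (Nat.ble 441 c)
noncomputable def Ptab_s_443_445 (c : Nat) : Nat := @Bool.rec (fun _ => Nat) (Ptab_443) (Ptab_444) (Nat.ble 444 c)
noncomputable def Ptab_s_445_447 (c : Nat) : Nat := @Bool.rec (fun _ => Nat) (Ptab_445) (Ptab_446) (Nat.ble 446 c)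
noncomputable def Ptab_s_443_447 (c : Nat) : Nat := @Bool.rec (fun _ => Nat) (Ptab_s_443_445 c) (Ptab_s_445_447 c) (Nat.ble 445 c)
noncomputable def Ptab_s_439_447 (c : Nat) : Nat := @Bool.rec (fun _ => Nat) (Ptab_s_439_443 c) (Ptab_s_443_447 c) (Nat.ble 443 c)
noncomputable def Ptab_s_431_447 (c : Nat) : Nat := @Bool.rec (fun _ => Nat) (Ptab_s_431_439 c) (Ptab_s_439_447 c) (Nat.ble 439 c)
noncomputable def Ptab_s_415_447 (c : Nat) : Nat := @Bool.rec (fun _ => Nat) (Ptab_s_415_431 c) (Ptab_s_431_447 c) (Nat.ble 431 c)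
noncomputable def Ptab_s_383_447 (c : Nat) : Nat := @Bool.rec (fun _ => Nat) (Ptab_s_383_415 c) (Ptab_s_415_447 c) (Nat.ble 415 c)
noncomputable def Ptab_s_447_449 (c : Nat) : Nat := @Bool.rec (fun _ => Nat) (Ptab_447) (Ptab_448) (Nat.ble 448 c)
noncomputable def Ptab_s_449_451 (c : Nat) : Nat := @Bool.rec (fun _ => Nat) (Ptab_449) (Ptab_450) (Nat.ble 450 c)
noncomputable def Ptab_s_447_451 (c : Nat) : Nat := @Bool.rec (fun _ => Nat) (Ptab_s_447_449 c) (Ptab_s_449_451 c) (Nat.ble 449 c)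
noncomputable def Ptab_s_451_453 (c : Nat) : Nat := @Bool.rec (fun _ => Nat) (Ptab_451) (Ptab_452) (Nat.ble 452 c)
noncomputable def Ptab_s_453_455 (c : Nat) : Nat := @Bool.rec (fun _ => Nat) (Ptab_453) (Ptab_454) (Nat.ble 454 c)
noncomputable def Ptab_s_451_455 (c : Nat) : Nat := @Bool.rec (fun _ => Nat) (Ptab_s_451_453 c) (Ptab_s_453_455 c) (Nat.ble 453 c)
noncomputable def Ptab_s_447_455 (c : Nat) : Nat := @Bool.rec (fun _ => Nat) (Ptab_s_447_451 c) (Ptab_s_451_455 c) (Nat.ble 451 c)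
noncomputable def Ptab_s_455_457 (c : Nat) : Nat := @Bool.rec (fun _ => Nat) (Ptab_455) (Ptab_456) (Nat.ble 456 c)
noncomputable def Ptab_s_457_459 (c : Nat) : Nat := @Bool.rec (fun _ => Nat) (Ptab_457) (Ptab_458) (Nat.ble 458 c)
noncomputable def Ptab_s_455_459 (c : Nat) : Nat := @Bool.rec (fun _ => Nat) (Ptab_s_455_457 c) (Ptab_s_457_459 c) (Nat.ble 457 c)
noncomputable def Ptab_s_459_461 (c : Nat) : Nat := @Bool.rec (fun _ => Nat) (Ptab_459) (Ptab_460) (Nat.ble 460 c)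
noncomputable def Ptab_s_461_463 (c : Nat) : Nat := @Bool.rec (fun _ => Nat) (Ptab_461) (Ptab_462) (Nat.ble 462 c)
noncomputable def Ptab_s_459_463 (c : Nat) : Nat := @Bool.rec (fun _ => Nat) (Ptab_s_459_461 c) (Ptab_s_461_463 c) (Nat.ble 461 c)
noncomputable def Ptab_s_455_463 (c : Nat) : Nat := @Bool.rec (fun _ => Nat) (Ptab_s_455_459 c) (Ptab_s_459_463 c) (Nat.ble 459 c)
noncomputable def Ptab_s_447_463 (c : Nat) : Nat := @Bool.rec (fun _ => Nat) (Ptab_s_447_455 c) (Ptab_s_455_463 c) (Nat.ble 455 c)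
noncomputable def Ptab_s_463_465 (c : Nat) : Nat := @Bool.rec (fun _ => Nat) (Ptab_463) (Ptab_464) (Nat.ble 464 c)
noncomputable def Ptab_s_465_467 (c : Nat) : Nat := @Bool.rec (fun _ => Nat) (Ptab_465) (Ptab_466) (Nat.ble 466 c)
noncomputable def Ptab_s_463_467 (c : Nat) : Nat := @Bool.rec (fun _ => Nat) (Ptab_s_463_465 c) (Ptab_s_465_467 c) (Nat.ble 465 c)
noncomputable def Ptab_s_467_469 (c : Nat) : Nat := @Bool.rec (fun _ => Nat) (Ptab_467) (Ptab_468) (Nat.ble 468 c)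
noncomputable def Ptab_s_469_471 (c : Nat) : Nat := @Bool.rec (fun _ => Nat) (Ptab_469) (Ptab_470) (Nat.ble 470 c)
noncomputable def Ptab_s_467_471 (c : Nat) : Nat := @Bool.rec (fun _ => Nat) (Ptab_s_467_469 c) (Ptab_s_469_471 c) (Nat.ble 469 c)
noncomputable def Ptab_s_463_471 (c : Nat) : Nat := @Bool.rec (fun _ => Nat) (Ptab_s_463_467 c) (Ptab_s_467_471 c) (Nat.ble 467 c)
noncomputable def Ptab_s_471_473 (c : Nat) : Nat := @Bool.rec (fun _ => Nat) (Ptab_471) (Ptab_472) (Nat.ble 472 c)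
noncomputable def Ptab_s_473_475 (c : Nat) : Nat := @Bool.rec (fun _ => Nat) (Ptab_473) (Ptab_474) (Nat.ble 474 c)
noncomputable def Ptab_s_471_475 (c : Nat) : Nat := @Bool.rec (fun _ => Nat) (Ptab_s_471_473 c) (Ptab_s_473_475 c) (Nat.ble 473 c)
noncomputable def Ptab_s_475_477 (c : Nat) : Nat := @Bool.rec (fun _ => Nat) (Ptab_475) (Ptab_476) (Nat.ble 476 c)
noncomputable def Ptab_s_477_479 (c : Nat) : Nat := @Bool.rec (fun _ => Nat) (Ptab_477) (Ptab_478) (Nat.ble 478 c)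
noncomputable def Ptab_s_475_479 (c : Nat) : Nat := @Bool.rec (fun _ => Nat) (Ptab_s_475_477 c) (Ptab_s_477_479 c) (Nat.ble 477 c)
noncomputable def Ptab_s_471_479 (c : Nat) : Nat := @Bool.rec (fun _ => Nat) (Ptab_s_471_475 c) (Ptab_s_475_479 c) (Nat.ble 475 c)
noncomputable def Ptab_s_463_479 (c : Nat) : Nat := @Bool.rec (fun _ => Nat) (Ptab_s_463_471 c) (Ptab_s_471_479 c) (Nat.ble 471 c)
noncomputable def Ptab_s_447_479 (c : Nat) : Nat := @Bool.rec (fun _ => Nat) (Ptab_s_447_463 c) (Ptab_s_463_479 c) (Nat.ble 463 c)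
noncomputable def Ptab_s_479_481 (c : Nat) : Nat := @Bool.rec (fun _ => Nat) (Ptab_479) (Ptab_480) (Nat.ble 480 c)
noncomputable def Ptab_s_481_483 (c : Nat) : Nat := @Bool.rec (fun _ => Nat) (Ptab_481) (Ptab_482) (Nat.ble 482 c)
noncomputable def Ptab_s_479_483 (c : Nat) : Nat := @Bool.rec (fun _ => Nat) (Ptab_s_479_481 c) (Ptab_s_481_483 c) (Nat.ble 481 c)
noncomputable def Ptab_s_483_485 (c : Nat) : Nat := @Bool.rec (fun _ => Nat) (Ptab_483) (Ptab_484) (Nat.ble 484 c)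
noncomputable def Ptab_s_485_487 (c : Nat) : Nat := @Bool.rec (fun _ => Nat) (Ptab_485) (Ptab_486) (Nat.ble 486 c)
noncomputable def Ptab_s_483_487 (c : Nat) : Nat := @Bool.rec (fun _ => Nat) (Ptab_s_483_485 c) (Ptab_s_485_487 c) (Nat.ble 485 c)
noncomputable def Ptab_s_479_487 (c : Nat) : Nat := @Bool.rec (fun _ => Nat) (Ptab_s_479_483 c) (Ptab_s_483_487 c) (Nat.ble 483 c)
noncomputable def Ptab_s_487_489 (c : Nat) : Nat := @Bool.rec (fun _ => Nat) (Ptab_487) (Ptab_488) (Nat.ble 488 c)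
noncomputable def Ptab_s_489_491 (c : Nat) : Nat := @Bool.rec (fun _ => Nat) (Ptab_489) (Ptab_490) (Nat.ble 490 c)
noncomputable def Ptab_s_487_491 (c : Nat) : Nat := @Bool.rec (fun _ => Nat) (Ptab_s_487_489 c) (Ptab_s_489_491 c) (Nat.ble 489 c)
noncomputable def Ptab_s_491_493 (c : Nat) : Nat := @Bool.rec (fun _ => Nat) (Ptab_491) (Ptab_492) (Nat.ble 492 c)
noncomputable def Ptab_s_493_495 (c : Nat) : Nat := @Bool.rec (fun _ => Nat) (Ptab_493) (Ptab_494) (Nat.ble 494 c)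
noncomputable def Ptab_s_491_495 (c : Nat) : Nat := @Bool.rec (fun _ => Nat) (Ptab_s_491_493 c) (Ptab_s_493_495 c) (Nat.ble 493 c)
noncomputable def Ptab_s_487_495 (c : Nat) : Nat := @Bool.rec (fun _ => Nat) (Ptab_s_487_491 c) (Ptab_s_491_495 c) (Nat.ble 491 c)
noncomputable def Ptab_s_479_495 (c : Nat) : Nat := @Bool.rec (fun _ => Nat) (Ptab_s_479_487 c) (Ptab_s_487_495 c) (Nat.ble 487 c)
noncomputable def Ptab_s_495_497 (c : Nat) : Nat := @Bool.rec (fun _ => Nat) (Ptab_495) (Ptab_496) (Nat.ble 496 c)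
noncomputable def Ptab_s_497_499 (c : Nat) : Nat := @Bool.rec (fun _ => Nat) (Ptab_497) (Ptab_498) (Nat.ble 498 c)
noncomputable def Ptab_s_495_499 (c : Nat) : Nat := @Bool.rec (fun _ => Nat) (Ptab_s_495_497 c) (Ptab_s_497_499 c) (Nat.ble 497 c)
noncomputable def Ptab_s_499_501 (c : Nat) : Nat := @Bool.rec (fun _ => Nat) (Ptab_499) (Ptab_500) (Nat.ble 500 c)
noncomputable def Ptab_s_501_503 (c : Nat) : Nat := @Bool.rec (fun _ => Nat) (Ptab_501) (Ptab_502) (Nat.ble 502 c)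
noncomputable def Ptab_s_499_503 (c : Nat) : Nat := @Bool.rec (fun _ => Nat) (Ptab_s_499_501 c) (Ptab_s_501_503 c) (Nat.ble 501 c)
noncomputable def Ptab_s_495_503 (c : Nat) : Nat := @Bool.rec (fun _ => Nat) (Ptab_s_495_499 c) (Ptab_s_499_503 c) (Nat.ble 499 c)
noncomputable def Ptab_s_503_505 (c : Nat) : Nat := @Bool.rec (fun _ => Nat) (Ptab_503) (Ptab_504) (Nat.ble 504 c)
noncomputable def Ptab_s_505_507 (c : Nat) : Nat := @Bool.rec (fun _ => Nat) (Ptab_505) (Ptab_506) (Nat.ble 506 c)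
noncomputable def Ptab_s_503_507 (c : Nat) : Nat := @Bool.rec (fun _ => Nat) (Ptab_s_503_505 c) (Ptab_s_505_507 c) (Nat.ble 505 c)
noncomputable def Ptab_s_507_509 (c : Nat) : Nat := @Bool.rec (fun _ => Nat) (Ptab_507) (Ptab_508) (Nat.ble 508 c)
noncomputable def Ptab_s_509_511 (c : Nat) : Nat := @Bool.rec (fun _ => Nat) (Ptab_509) (Ptab_510) (Nat.ble 510 c)
noncomputable def Ptab_s_507_511 (c : Nat) : Nat := @Bool.rec (fun _ => Nat) (Ptab_s_507_509 c) (Ptab_s_509_511 c) (Nat.ble 509 c)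
noncomputable def Ptab_s_503_511 (c : Nat) : Nat := @Bool.rec (fun _ => Nat) (Ptab_s_503_507 c) (Ptab_s_507_511 c) (Nat.ble 507 c)
noncomputable def Ptab_s_495_511 (c : Nat) : Nat := @Bool.rec (fun _ => Nat) (Ptab_s_495_503 c) (Ptab_s_503_511 c) (Nat.ble 503 c)
noncomputable def Ptab_s_479_511 (c : Nat) : Nat := @Bool.rec (fun _ => Nat) (Ptab_s_479_495 c) (Ptab_s_495_511 c) (Nat.ble 495 c)
noncomputable def Ptab_s_447_511 (c : Nat) : Nat := @Bool.rec (fun _ => Nat) (Ptab_s_447_479 c) (Ptab_s_479_511 c) (Nat.ble 479 c)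
noncomputable def Ptab_s_383_511 (c : Nat) : Nat := @Bool.rec (fun _ => Nat) (Ptab_s_383_447 c) (Ptab_s_447_511 c) (Nat.ble 447 c)
noncomputable def Ptab_s_255_511 (c : Nat) : Nat := @Bool.rec (fun _ => Nat) (Ptab_s_255_383 c) (Ptab_s_383_511 c) (Nat.ble 383 c)
noncomputable def Ptab_s_0_511 (c : Nat) : Nat := @Bool.rec (fun _ => Nat) (Ptab_s_0_255 c) (Ptab_s_255_511 c) (Nat.ble 255 c)
noncomputable def Ptab_s_512_514 (c : Nat) : Nat := @Bool.rec (fun _ => Nat) (Ptab_512) (Ptab_513) (Nat.ble 513 c)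
noncomputable def Ptab_s_511_514 (c : Nat) : Nat := @Bool.rec (fun _ => Nat) (Ptab_511) (Ptab_s_512_514 c) (Nat.ble 512 c)
noncomputable def Ptab_s_514_516 (c : Nat) : Nat := @Bool.rec (fun _ => Nat) (Ptab_514) (Ptab_515) (Nat.ble 515 c)
noncomputable def Ptab_s_516_518 (c : Nat) : Nat := @Bool.rec (fun _ => Nat) (Ptab_516) (Ptab_517) (Nat.ble 517 c)
noncomputable def Ptab_s_514_518 (c : Nat) : Nat := @Bool.rec (fun _ => Nat) (Ptab_s_514_516 c) (Ptab_s_516_518 c) (Nat.ble 516 c)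
noncomputable def Ptab_s_511_518 (c : Nat) : Nat := @Bool.rec (fun _ => Nat) (Ptab_s_511_514 c) (Ptab_s_514_518 c) (Nat.ble 514 c)
noncomputable def Ptab_s_518_520 (c : Nat) : Nat := @Bool.rec (fun _ => Nat) (Ptab_518) (Ptab_519) (Nat.ble 519 c)
noncomputable def Ptab_s_520_522 (c : Nat) : Nat := @Bool.rec (fun _ => Nat) (Ptab_520) (Ptab_521) (Nat.ble 521 c)
noncomputable def Ptab_s_518_522 (c : Nat) : Nat := @Bool.rec (fun _ => Nat) (Ptab_s_518_520 c) (Ptab_s_520_522 c) (Nat.ble 520 c)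
noncomputable def Ptab_s_522_524 (c : Nat) : Nat := @Bool.rec (fun _ => Nat) (Ptab_522) (Ptab_523) (Nat.ble 523 c)
noncomputable def Ptab_s_524_526 (c : Nat) : Nat := @Bool.rec (fun _ => Nat) (Ptab_524) (Ptab_525) (Nat.ble 525 c)
noncomputable def Ptab_s_522_526 (c : Nat) : Nat := @Bool.rec (fun _ => Nat) (Ptab_s_522_524 c) (Ptab_s_524_526 c) (Nat.ble 524 c)
noncomputable def Ptab_s_518_526 (c : Nat) : Nat := @Bool.rec (fun _ => Nat) (Ptab_s_518_522 c) (Ptab_s_522_526 c) (Nat.ble 522 c)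
noncomputable def Ptab_s_511_526 (c : Nat) : Nat := @Bool.rec (fun _ => Nat) (Ptab_s_511_518 c) (Ptab_s_518_526 c) (Nat.ble 518 c)
noncomputable def Ptab_s_526_528 (c : Nat) : Nat := @Bool.rec (fun _ => Nat) (Ptab_526) (Ptab_527) (Nat.ble 527 c)
noncomputable def Ptab_s_528_530 (c : Nat) : Nat := @Bool.rec (fun _ => Nat) (Ptab_528) (Ptab_529) (Nat.ble 529 c)
noncomputable def Ptab_s_526_530 (c : Nat) : Nat := @Bool.rec (fun _ => Nat) (Ptab_s_526_528 c) (Ptab_s_528_530 c) (Nat.ble 528 c)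
noncomputable def Ptab_s_530_532 (c : Nat) : Nat := @Bool.rec (fun _ => Nat) (Ptab_530) (Ptab_531) (Nat.ble 531 c)
noncomputable def Ptab_s_532_534 (c : Nat) : Nat := @Bool.rec (fun _ => Nat) (Ptab_532) (Ptab_533) (Nat.ble 533 c)
noncomputable def Ptab_s_530_534 (c : Nat) : Nat := @Bool.rec (fun _ => Nat) (Ptab_s_530_532 c) (Ptab_s_532_534 c) (Nat.ble 532 c)
noncomputable def Ptab_s_526_534 (c : Nat) : Nat := @Bool.rec (fun _ => Nat) (Ptab_s_526_530 c) (Ptab_s_530_534 c) (Nat.ble 530 c)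
noncomputable def Ptab_s_534_536 (c : Nat) : Nat := @Bool.rec (fun _ => Nat) (Ptab_534) (Ptab_535) (Nat.ble 535 c)
noncomputable def Ptab_s_536_538 (c : Nat) : Nat := @Bool.rec (fun _ => Nat) (Ptab_536) (Ptab_537) (Nat.ble 537 c)
noncomputable def Ptab_s_534_538 (c : Nat) : Nat := @Bool.rec (fun _ => Nat) (Ptab_s_534_536 c) (Ptab_s_536_538 c) (Nat.ble 536 c)
noncomputable def Ptab_s_538_540 (c : Nat) : Nat := @Bool.rec (fun _ => Nat) (Ptab_538) (Ptab_539) (Nat.ble 539 c)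
noncomputable def Ptab_s_540_542 (c : Nat) : Nat := @Bool.rec (fun _ => Nat) (Ptab_540) (Ptab_541) (Nat.ble 541 c)
noncomputable def Ptab_s_538_542 (c : Nat) : Nat := @Bool.rec (fun _ => Nat) (Ptab_s_538_540 c) (Ptab_s_540_542 c) (Nat.ble 540 c)
noncomputable def Ptab_s_534_542 (c : Nat) : Nat := @Bool.rec (fun _ => Nat) (Ptab_s_534_538 c) (Ptab_s_538_542 c) (Nat.ble 538 c)
noncomputable def Ptab_s_526_542 (c : Nat) : Nat := @Bool.rec (fun _ => Nat) (Ptab_s_526_534 c) (Ptab_s_534_542 c) (Nat.ble 534 c)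
noncomputable def Ptab_s_511_542 (c : Nat) : Nat := @Bool.rec (fun _ => Nat) (Ptab_s_511_526 c) (Ptab_s_526_542 c) (Nat.ble 526 c)
noncomputable def Ptab_s_542_544 (c : Nat) : Nat := @Bool.rec (fun _ => Nat) (Ptab_542) (Ptab_543) (Nat.ble 543 c)
noncomputable def Ptab_s_544_546 (c : Nat) : Nat := @Bool.rec (fun _ => Nat) (Ptab_544) (Ptab_545) (Nat.ble 545 c)
noncomputable def Ptab_s_542_546 (c : Nat) : Nat := @Bool.rec (fun _ => Nat) (Ptab_s_542_544 c) (Ptab_s_544_546 c) (Nat.ble 544 c)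
noncomputable def Ptab_s_546_548 (c : Nat) : Nat := @Bool.rec (fun _ => Nat) (Ptab_546) (Ptab_547) (Nat.ble 547 c)
noncomputable def Ptab_s_548_550 (c : Nat) : Nat := @Bool.rec (fun _ => Nat) (Ptab_548) (Ptab_549) (Nat.ble 549 c)
noncomputable def Ptab_s_546_550 (c : Nat) : Nat := @Bool.rec (fun _ => Nat) (Ptab_s_546_548 c) (Ptab_s_548_550 c) (Nat.ble 548 c)
noncomputable def Ptab_s_542_550 (c : Nat) : Nat := @Bool.rec (fun _ => Nat) (Ptab_s_542_546 c) (Ptab_s_546_550 c) (Nat.ble 546 c)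
noncomputable def Ptab_s_550_552 (c : Nat) : Nat := @Bool.rec (fun _ => Nat) (Ptab_550) (Ptab_551) (Nat.ble 551 c)
noncomputable def Ptab_s_552_554 (c : Nat) : Nat := @Bool.rec (fun _ => Nat) (Ptab_552) (Ptab_553) (Nat.ble 553 c)
noncomputable def Ptab_s_550_554 (c : Nat) : Nat := @Bool.rec (fun _ => Nat) (Ptab_s_550_552 c) (Ptab_s_552_554 c) (Nat.ble 552 c)
noncomputable def Ptab_s_554_556 (c : Nat) : Nat := @Bool.rec (fun _ => Nat) (Ptab_554) (Ptab_555) (Nat.ble 555 c)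
noncomputable def Ptab_s_556_558 (c : Nat) : Nat := @Bool.rec (fun _ => Nat) (Ptab_556) (Ptab_557) (Nat.ble 557 c)
noncomputable def Ptab_s_554_558 (c : Nat) : Nat := @Bool.rec (fun _ => Nat) (Ptab_s_554_556 c) (Ptab_s_556_558 c) (Nat.ble 556 c)
noncomputable def Ptab_s_550_558 (c : Nat) : Nat := @Bool.rec (fun _ => Nat) (Ptab_s_550_554 c) (Ptab_s_554_558 c) (Nat.ble 554 c)
noncomputable def Ptab_s_542_558 (c : Nat) : Nat := @Bool.rec (fun _ => Nat) (Ptab_s_542_550 c) (Ptab_s_550_558 c) (Nat.ble 550 c)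
noncomputable def Ptab_s_558_560 (c : Nat) : Nat := @Bool.rec (fun _ => Nat) (Ptab_558) (Ptab_559) (Nat.ble 559 c)
noncomputable def Ptab_s_560_562 (c : Nat) : Nat := @Bool.rec (fun _ => Nat) (Ptab_560) (Ptab_561) (Nat.ble 561 c)
noncomputable def Ptab_s_558_562 (c : Nat) : Nat := @Bool.rec (fun _ => Nat) (Ptab_s_558_560 c) (Ptab_s_560_562 c) (Nat.ble 560 c)
noncomputable def Ptab_s_562_564 (c : Nat) : Nat := @Bool.rec (fun _ => Nat) (Ptab_562) (Ptab_563) (Nat.ble 563 c)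
noncomputable def Ptab_s_564_566 (c : Nat) : Nat := @Bool.rec (fun _ => Nat) (Ptab_564) (Ptab_565) (Nat.ble 565 c)
noncomputable def Ptab_s_562_566 (c : Nat) : Nat := @Bool.rec (fun _ => Nat) (Ptab_s_562_564 c) (Ptab_s_564_566 c) (Nat.ble 564 c)
noncomputable def Ptab_s_558_566 (c : Nat) : Nat := @Bool.rec (fun _ => Nat) (Ptab_s_558_562 c) (Ptab_s_562_566 c) (Nat.ble 562 c)
noncomputable def Ptab_s_566_568 (c : Nat) : Nat := @Bool.rec (fun _ => Nat) (Ptab_566) (Ptab_567) (Nat.ble 567 c)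
noncomputable def Ptab_s_568_570 (c : Nat) : Nat := @Bool.rec (fun _ => Nat) (Ptab_568) (Ptab_569) (Nat.ble 569 c)
noncomputable def Ptab_s_566_570 (c : Nat) : Nat := @Bool.rec (fun _ => Nat) (Ptab_s_566_568 c) (Ptab_s_568_570 c) (Nat.ble 568 c)
noncomputable def Ptab_s_570_572 (c : Nat) : Nat := @Bool.rec (fun _ => Nat) (Ptab_570) (Ptab_571) (Nat.ble 571 c)
noncomputable def Ptab_s_572_574 (c : Nat) : Nat := @Bool.rec (fun _ => Nat) (Ptab_572) (Ptab_573) (Nat.ble 573 c)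
noncomputable def Ptab_s_570_574 (c : Nat) : Nat := @Bool.rec (fun _ => Nat) (Ptab_s_570_572 c) (Ptab_s_572_574 c) (Nat.ble 572 c)
noncomputable def Ptab_s_566_574 (c : Nat) : Nat := @Bool.rec (fun _ => Nat) (Ptab_s_566_570 c) (Ptab_s_570_574 c) (Nat.ble 570 c)
noncomputable def Ptab_s_558_574 (c : Nat) : Nat := @Bool.rec (fun _ => Nat) (Ptab_s_558_566 c) (Ptab_s_566_574 c) (Nat.ble 566 c)
noncomputable def Ptab_s_542_574 (c : Nat) : Nat := @Bool.rec (fun _ => Nat) (Ptab_s_542_558 c) (Ptab_s_558_574 c) (Nat.ble 558 c)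
noncomputable def Ptab_s_511_574 (c : Nat) : Nat := @Bool.rec (fun _ => Nat) (Ptab_s_511_542 c) (Ptab_s_542_574 c) (Nat.ble 542 c)
noncomputable def Ptab_s_574_576 (c : Nat) : Nat := @Bool.rec (fun _ => Nat) (Ptab_574) (Ptab_575) (Nat.ble 575 c)
noncomputable def Ptab_s_576_578 (c : Nat) : Nat := @Bool.rec (fun _ => Nat) (Ptab_576) (Ptab_577) (Nat.ble 577 c)
noncomputable def Ptab_s_574_578 (c : Nat) : Nat := @Bool.rec (fun _ => Nat) (Ptab_s_574_576 c) (Ptab_s_576_578 c) (Nat.ble 576 c)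
noncomputable def Ptab_s_578_580 (c : Nat) : Nat := @Bool.rec (fun _ => Nat) (Ptab_578) (Ptab_579) (Nat.ble 579 c)
noncomputable def Ptab_s_580_582 (c : Nat) : Nat := @Bool.rec (fun _ => Nat) (Ptab_580) (Ptab_581) (Nat.ble 581 c)
noncomputable def Ptab_s_578_582 (c : Nat) : Nat := @Bool.rec (fun _ => Nat) (Ptab_s_578_580 c) (Ptab_s_580_582 c) (Nat.ble 580 c)
noncomputable def Ptab_s_574_582 (c : Nat) : Nat := @Bool.rec (fun _ => Nat) (Ptab_s_574_578 c) (Ptab_s_578_582 c) (Nat.ble 578 c)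
noncomputable def Ptab_s_582_584 (c : Nat) : Nat := @Bool.rec (fun _ => Nat) (Ptab_582) (Ptab_583) (Nat.ble 583 c)
noncomputable def Ptab_s_584_586 (c : Nat) : Nat := @Bool.rec (fun _ => Nat) (Ptab_584) (Ptab_585) (Nat.ble 585 c)
noncomputable def Ptab_s_582_586 (c : Nat) : Nat := @Bool.rec (fun _ => Nat) (Ptab_s_582_584 c) (Ptab_s_584_586 c) (Nat.ble 584 c)
noncomputable def Ptab_s_586_588 (c : Nat) : Nat := @Bool.rec (fun _ => Nat) (Ptab_586) (Ptab_587) (Nat.ble 587 c)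
noncomputable def Ptab_s_588_590 (c : Nat) : Nat := @Bool.rec (fun _ => Nat) (Ptab_588) (Ptab_589) (Nat.ble 589 c)
noncomputable def Ptab_s_586_590 (c : Nat) : Nat := @Bool.rec (fun _ => Nat) (Ptab_s_586_588 c) (Ptab_s_588_590 c) (Nat.ble 588 c)
noncomputable def Ptab_s_582_590 (c : Nat) : Nat := @Bool.rec (fun _ => Nat) (Ptab_s_582_586 c) (Ptab_s_586_590 c) (Nat.ble 586 c)
noncomputable def Ptab_s_574_590 (c : Nat) : Nat := @Bool.rec (fun _ => Nat) (Ptab_s_574_582 c) (Ptab_s_582_590 c) (Nat.ble 582 c)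
noncomputable def Ptab_s_590_592 (c : Nat) : Nat := @Bool.rec (fun _ => Nat) (Ptab_590) (Ptab_591) (Nat.ble 591 c)
noncomputable def Ptab_s_592_594 (c : Nat) : Nat := @Bool.rec (fun _ => Nat) (Ptab_592) (Ptab_593) (Nat.ble 593 c)
noncomputable def Ptab_s_590_594 (c : Nat) : Nat := @Bool.rec (fun _ => Nat) (Ptab_s_590_592 c) (Ptab_s_592_594 c) (Nat.ble 592 c)
noncomputable def Ptab_s_594_596 (c : Nat) : Nat := @Bool.rec (fun _ => Nat) (Ptab_594) (Ptab_595) (Nat.ble 595 c)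
noncomputable def Ptab_s_596_598 (c : Nat) : Nat := @Bool.rec (fun _ => Nat) (Ptab_596) (Ptab_597) (Nat.ble 597 c)
noncomputable def Ptab_s_594_598 (c : Nat) : Nat := @Bool.rec (fun _ => Nat) (Ptab_s_594_596 c) (Ptab_s_596_598 c) (Nat.ble 596 c)
noncomputable def Ptab_s_590_598 (c : Nat) : Nat := @Bool.rec (fun _ => Nat) (Ptab_s_590_594 c) (Ptab_s_594_598 c) (Nat.ble 594 c)
noncomputable def Ptab_s_598_600 (c : Nat) : Nat := @Bool.rec (fun _ => Nat) (Ptab_598) (Ptab_599) (Nat.ble 599 c)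
noncomputable def Ptab_s_600_602 (c : Nat) : Nat := @Bool.rec (fun _ => Nat) (Ptab_600) (Ptab_601) (Nat.ble 601 c)
noncomputable def Ptab_s_598_602 (c : Nat) : Nat := @Bool.rec (fun _ => Nat) (Ptab_s_598_600 c) (Ptab_s_600_602 c) (Nat.ble 600 c)
noncomputable def Ptab_s_602_604 (c : Nat) : Nat := @Bool.rec (fun _ => Nat) (Ptab_602) (Ptab_603) (Nat.ble 603 c)
noncomputable def Ptab_s_604_606 (c : Nat) : Nat := @Bool.rec (fun _ => Nat) (Ptab_604) (Ptab_605) (Nat.ble 605 c)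
noncomputable def Ptab_s_602_606 (c : Nat) : Nat := @Bool.rec (fun _ => Nat) (Ptab_s_602_604 c) (Ptab_s_604_606 c) (Nat.ble 604 c)
noncomputable def Ptab_s_598_606 (c : Nat) : Nat := @Bool.rec (fun _ => Nat) (Ptab_s_598_602 c) (Ptab_s_602_606 c) (Nat.ble 602 c)
noncomputable def Ptab_s_590_606 (c : Nat) : Nat := @Bool.rec (fun _ => Nat) (Ptab_s_590_598 c) (Ptab_s_598_606 c) (Nat.ble 598 c)
noncomputable def Ptab_s_574_606 (c : Nat) : Nat := @Bool.rec (fun _ => Nat) (Ptab_s_574_590 c) (Ptab_s_590_606 c) (Nat.ble 590 c)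
noncomputable def Ptab_s_606_608 (c : Nat) : Nat := @Bool.rec (fun _ => Nat) (Ptab_606) (Ptab_607) (Nat.ble 607 c)
noncomputable def Ptab_s_608_610 (c : Nat) : Nat := @Bool.rec (fun _ => Nat) (Ptab_608) (Ptab_609) (Nat.ble 609 c)
noncomputable def Ptab_s_606_610 (c : Nat) : Nat := @Bool.rec (fun _ => Nat) (Ptab_s_606_608 c) (Ptab_s_608_610 c) (Nat.ble 608 c)
noncomputable def Ptab_s_610_612 (c : Nat) : Nat := @Bool.rec (fun _ => Nat) (Ptab_610) (Ptab_611) (Nat.ble 611 c)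
noncomputable def Ptab_s_612_614 (c : Nat) : Nat := @Bool.rec (fun _ => Nat) (Ptab_612) (Ptab_613) (Nat.ble 613 c)
noncomputable def Ptab_s_610_614 (c : Nat) : Nat := @Bool.rec (fun _ => Nat) (Ptab_s_610_612 c) (Ptab_s_612_614 c) (Nat.ble 612 c)
noncomputable def Ptab_s_606_614 (c : Nat) : Nat := @Bool.rec (fun _ => Nat) (Ptab_s_606_610 c) (Ptab_s_610_614 c) (Nat.ble 610 c)
noncomputable def Ptab_s_614_616 (c : Nat) : Nat := @Bool.rec (fun _ => Nat) (Ptab_614) (Ptab_615) (Nat.ble 615 c)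
noncomputable def Ptab_s_616_618 (c : Nat) : Nat := @Bool.rec (fun _ => Nat) (Ptab_616) (Ptab_617) (Nat.ble 617 c)
noncomputable def Ptab_s_614_618 (c : Nat) : Nat := @Bool.rec (fun _ => Nat) (Ptab_s_614_616 c) (Ptab_s_616_618 c) (Nat.ble 616 c)
noncomputable def Ptab_s_618_620 (c : Nat) : Nat := @Bool.rec (fun _ => Nat) (Ptab_618) (Ptab_619) (Nat.ble 619 c)
noncomputable def Ptab_s_620_622 (c : Nat) : Nat := @Bool.rec (fun _ => Nat) (Ptab_620) (Ptab_621) (Nat.ble 621 c)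
noncomputable def Ptab_s_618_622 (c : Nat) : Nat := @Bool.rec (fun _ => Nat) (Ptab_s_618_620 c) (Ptab_s_620_622 c) (Nat.ble 620 c)
noncomputable def Ptab_s_614_622 (c : Nat) : Nat := @Bool.rec (fun _ => Nat) (Ptab_s_614_618 c) (Ptab_s_618_622 c) (Nat.ble 618 c)
noncomputable def Ptab_s_606_622 (c : Nat) : Nat := @Bool.rec (fun _ => Nat) (Ptab_s_606_614 c) (Ptab_s_614_622 c) (Nat.ble 614 c)
noncomputable def Ptab_s_622_624 (c : Nat) : Nat := @Bool.rec (fun _ => Nat) (Ptab_622) (Ptab_623) (Nat.ble 623 c)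
noncomputable def Ptab_s_624_626 (c : Nat) : Nat := @Bool.rec (fun _ => Nat) (Ptab_624) (Ptab_625) (Nat.ble 625 c)
noncomputable def Ptab_s_622_626 (c : Nat) : Nat := @Bool.rec (fun _ => Nat) (Ptab_s_622_624 c) (Ptab_s_624_626 c) (Nat.ble 624 c)
noncomputable def Ptab_s_626_628 (c : Nat) : Nat := @Bool.rec (fun _ => Nat) (Ptab_626) (Ptab_627) (Nat.ble 627 c)
noncomputable def Ptab_s_628_630 (c : Nat) : Nat := @Bool.rec (fun _ => Nat) (Ptab_628) (Ptab_629) (Nat.ble 629 c)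
noncomputable def Ptab_s_626_630 (c : Nat) : Nat := @Bool.rec (fun _ => Nat) (Ptab_s_626_628 c) (Ptab_s_628_630 c) (Nat.ble 628 c)
noncomputable def Ptab_s_622_630 (c : Nat) : Nat := @Bool.rec (fun _ => Nat) (Ptab_s_622_626 c) (Ptab_s_626_630 c) (Nat.ble 626 c)
noncomputable def Ptab_s_630_632 (c : Nat) : Nat := @Bool.rec (fun _ => Nat) (Ptab_630) (Ptab_631) (Nat.ble 631 c)
noncomputable def Ptab_s_632_634 (c : Nat) : Nat := @Bool.rec (fun _ => Nat) (Ptab_632) (Ptab_633) (Nat.ble 633 c)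
noncomputable def Ptab_s_630_634 (c : Nat) : Nat := @Bool.rec (fun _ => Nat) (Ptab_s_630_632 c) (Ptab_s_632_634 c) (Nat.ble 632 c)
noncomputable def Ptab_s_634_636 (c : Nat) : Nat := @Bool.rec (fun _ => Nat) (Ptab_634) (Ptab_635) (Nat.ble 635 c)
noncomputable def Ptab_s_636_638 (c : Nat) : Nat := @Bool.rec (fun _ => Nat) (Ptab_636) (Ptab_637) (Nat.ble 637 c)
noncomputable def Ptab_s_634_638 (c : Nat) : Nat := @Bool.rec (fun _ => Nat) (Ptab_s_634_636 c) (Ptab_s_636_638 c) (Nat.ble 636 c)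
noncomputable def Ptab_s_630_638 (c : Nat) : Nat := @Bool.rec (fun _ => Nat) (Ptab_s_630_634 c) (Ptab_s_634_638 c) (Nat.ble 634 c)
noncomputable def Ptab_s_622_638 (c : Nat) : Nat := @Bool.rec (fun _ => Nat) (Ptab_s_622_630 c) (Ptab_s_630_638 c) (Nat.ble 630 c)
noncomputable def Ptab_s_606_638 (c : Nat) : Nat := @Bool.rec (fun _ => Nat) (Ptab_s_606_622 c) (Ptab_s_622_638 c) (Nat.ble 622 c)
noncomputable def Ptab_s_574_638 (c : Nat) : Nat := @Bool.rec (fun _ => Nat) (Ptab_s_574_606 c) (Ptab_s_606_638 c) (Nat.ble 606 c)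
noncomputable def Ptab_s_511_638 (c : Nat) : Nat := @Bool.rec (fun _ => Nat) (Ptab_s_511_574 c) (Ptab_s_574_638 c) (Nat.ble 574 c)
noncomputable def Ptab_s_638_640 (c : Nat) : Nat := @Bool.rec (fun _ => Nat) (Ptab_638) (Ptab_639) (Nat.ble 639 c)
noncomputable def Ptab_s_640_642 (c : Nat) : Nat := @Bool.rec (fun _ => Nat) (Ptab_640) (Ptab_641) (Nat.ble 641 c)
noncomputable def Ptab_s_638_642 (c : Nat) : Nat := @Bool.rec (fun _ => Nat) (Ptab_s_638_640 c) (Ptab_s_640_642 c) (Nat.ble 640 c)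
noncomputable def Ptab_s_642_644 (c : Nat) : Nat := @Bool.rec (fun _ => Nat) (Ptab_642) (Ptab_643) (Nat.ble 643 c)
noncomputable def Ptab_s_644_646 (c : Nat) : Nat := @Bool.rec (fun _ => Nat) (Ptab_644) (Ptab_645) (Nat.ble 645 c)
noncomputable def Ptab_s_642_646 (c : Nat) : Nat := @Bool.rec (fun _ => Nat) (Ptab_s_642_644 c) (Ptab_s_644_646 c) (Nat.ble 644 c)
noncomputable def Ptab_s_638_646 (c : Nat) : Nat := @Bool.rec (fun _ => Nat) (Ptab_s_638_642 c) (Ptab_s_642_646 c) (Nat.ble 642 c)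
noncomputable def Ptab_s_646_648 (c : Nat) : Nat := @Bool.rec (fun _ => Nat) (Ptab_646) (Ptab_647) (Nat.ble 647 c)
noncomputable def Ptab_s_648_650 (c : Nat) : Nat := @Bool.rec (fun _ => Nat) (Ptab_648) (Ptab_649) (Nat.ble 649 c)
noncomputable def Ptab_s_646_650 (c : Nat) : Nat := @Bool.rec (fun _ => Nat) (Ptab_s_646_648 c) (Ptab_s_648_650 c) (Nat.ble 648 c)
noncomputable def Ptab_s_650_652 (c : Nat) : Nat := @Bool.rec (fun _ => Nat) (Ptab_650) (Ptab_651) (Nat.ble 651 c)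
noncomputable def Ptab_s_652_654 (c : Nat) : Nat := @Bool.rec (fun _ => Nat) (Ptab_652) (Ptab_653) (Nat.ble 653 c)
noncomputable def Ptab_s_650_654 (c : Nat) : Nat := @Bool.rec (fun _ => Nat) (Ptab_s_650_652 c) (Ptab_s_652_654 c) (Nat.ble 652 c)
noncomputable def Ptab_s_646_654 (c : Nat) : Nat := @Bool.rec (fun _ => Nat) (Ptab_s_646_650 c) (Ptab_s_650_654 c) (Nat.ble 650 c)
noncomputable def Ptab_s_638_654 (c : Nat) : Nat := @Bool.rec (fun _ => Nat) (Ptab_s_638_646 c) (Ptab_s_646_654 c) (Nat.ble 646 c)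
noncomputable def Ptab_s_654_656 (c : Nat) : Nat := @Bool.rec (fun _ => Nat) (Ptab_654) (Ptab_655) (Nat.ble 655 c)
noncomputable def Ptab_s_656_658 (c : Nat) : Nat := @Bool.rec (fun _ => Nat) (Ptab_656) (Ptab_657) (Nat.ble 657 c)
noncomputable def Ptab_s_654_658 (c : Nat) : Nat := @Bool.rec (fun _ => Nat) (Ptab_s_654_656 c) (Ptab_s_656_658 c) (Nat.ble 656 c)
noncomputable def Ptab_s_658_660 (c : Nat) : Nat := @Bool.rec (fun _ => Nat) (Ptab_658) (Ptab_659) (Nat.ble 659 c)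
noncomputable def Ptab_s_660_662 (c : Nat) : Nat := @Bool.rec (fun _ => Nat) (Ptab_660) (Ptab_661) (Nat.ble 661 c)
noncomputable def Ptab_s_658_662 (c : Nat) : Nat := @Bool.rec (fun _ => Nat) (Ptab_s_658_660 c) (Ptab_s_660_662 c) (Nat.ble 660 c)
noncomputable def Ptab_s_654_662 (c : Nat) : Nat := @Bool.rec (fun _ => Nat) (Ptab_s_654_658 c) (Ptab_s_658_662 c) (Nat.ble 658 c)
noncomputable def Ptab_s_662_664 (c : Nat) : Nat := @Bool.rec (fun _ => Nat) (Ptab_662) (Ptab_663) (Nat.ble 663 c)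
noncomputable def Ptab_s_664_666 (c : Nat) : Nat := @Bool.rec (fun _ => Nat) (Ptab_664) (Ptab_665) (Nat.ble 665 c)
noncomputable def Ptab_s_662_666 (c : Nat) : Nat := @Bool.rec (fun _ => Nat) (Ptab_s_662_664 c) (Ptab_s_664_666 c) (Nat.ble 664 c)
noncomputable def Ptab_s_666_668 (c : Nat) : Nat := @Bool.rec (fun _ => Nat) (Ptab_666) (Ptab_667) (Nat.ble 667 c)
noncomputable def Ptab_s_668_670 (c : Nat) : Nat := @Bool.rec (fun _ => Nat) (Ptab_668) (Ptab_669) (Nat.ble 669 c)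
noncomputable def Ptab_s_666_670 (c : Nat) : Nat := @Bool.rec (fun _ => Nat) (Ptab_s_666_668 c) (Ptab_s_668_670 c) (Nat.ble 668 c)
noncomputable def Ptab_s_662_670 (c : Nat) : Nat := @Bool.rec (fun _ => Nat) (Ptab_s_662_666 c) (Ptab_s_666_670 c) (Nat.ble 666 c)
noncomputable def Ptab_s_654_670 (c : Nat) : Nat := @Bool.rec (fun _ => Nat) (Ptab_s_654_662 c) (Ptab_s_662_670 c) (Nat.ble 662 c)
noncomputable def Ptab_s_638_670 (c : Nat) : Nat := @Bool.rec (fun _ => Nat) (Ptab_s_638_654 c) (Ptab_s_654_670 c) (Nat.ble 654 c)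
noncomputable def Ptab_s_670_672 (c : Nat) : Nat := @Bool.rec (fun _ => Nat) (Ptab_670) (Ptab_671) (Nat.ble 671 c)
noncomputable def Ptab_s_672_674 (c : Nat) : Nat := @Bool.rec (fun _ => Nat) (Ptab_672) (Ptab_673) (Nat.ble 673 c)
noncomputable def Ptab_s_670_674 (c : Nat) : Nat := @Bool.rec (fun _ => Nat) (Ptab_s_670_672 c) (Ptab_s_672_674 c) (Nat.ble 672 c)
noncomputable def Ptab_s_674_676 (c : Nat) : Nat := @Bool.rec (fun _ => Nat) (Ptab_674) (Ptab_675) (Nat.ble 675 c)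
noncomputable def Ptab_s_676_678 (c : Nat) : Nat := @Bool.rec (fun _ => Nat) (Ptab_676) (Ptab_677) (Nat.ble 677 c)
noncomputable def Ptab_s_674_678 (c : Nat) : Nat := @Bool.rec (fun _ => Nat) (Ptab_s_674_676 c) (Ptab_s_676_678 c) (Nat.ble 676 c)
noncomputable def Ptab_s_670_678 (c : Nat) : Nat := @Bool.rec (fun _ => Nat) (Ptab_s_670_674 c) (Ptab_s_674_678 c) (Nat.ble 674 c)
noncomputable def Ptab_s_678_680 (c : Nat) : Nat := @Bool.rec (fun _ => Nat) (Ptab_678) (Ptab_679) (Nat.ble 679 c)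
noncomputable def Ptab_s_680_682 (c : Nat) : Nat := @Bool.rec (fun _ => Nat) (Ptab_680) (Ptab_681) (Nat.ble 681 c)
noncomputable def Ptab_s_678_682 (c : Nat) : Nat := @Bool.rec (fun _ => Nat) (Ptab_s_678_680 c) (Ptab_s_680_682 c) (Nat.ble 680 c)
noncomputable def Ptab_s_682_684 (c : Nat) : Nat := @Bool.rec (fun _ => Nat) (Ptab_682) (Ptab_683) (Nat.ble 683 c)
noncomputable def Ptab_s_684_686 (c : Nat) : Nat := @Bool.rec (fun _ => Nat) (Ptab_684) (Ptab_685) (Nat.ble 685 c)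
noncomputable def Ptab_s_682_686 (c : Nat) : Nat := @Bool.rec (fun _ => Nat) (Ptab_s_682_684 c) (Ptab_s_684_686 c) (Nat.ble 684 c)
noncomputable def Ptab_s_678_686 (c : Nat) : Nat := @Bool.rec (fun _ => Nat) (Ptab_s_678_682 c) (Ptab_s_682_686 c) (Nat.ble 682 c)
noncomputable def Ptab_s_670_686 (c : Nat) : Nat := @Bool.rec (fun _ => Nat) (Ptab_s_670_678 c) (Ptab_s_678_686 c) (Nat.ble 678 c)
noncomputable def Ptab_s_686_688 (c : Nat) : Nat := @Bool.rec (fun _ => Nat) (Ptab_686) (Ptab_687) (Nat.ble 687 c)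
noncomputable def Ptab_s_688_690 (c : Nat) : Nat := @Bool.rec (fun _ => Nat) (Ptab_688) (Ptab_689) (Nat.ble 689 c)
noncomputable def Ptab_s_686_690 (c : Nat) : Nat := @Bool.rec (fun _ => Nat) (Ptab_s_686_688 c) (Ptab_s_688_690 c) (Nat.ble 688 c)
noncomputable def Ptab_s_690_692 (c : Nat) : Nat := @Bool.rec (fun _ => Nat) (Ptab_690) (Ptab_691) (Nat.ble 691 c)
noncomputable def Ptab_s_692_694 (c : Nat) : Nat := @Bool.rec (fun _ => Nat) (Ptab_692) (Ptab_693) (Nat.ble 693 c)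
noncomputable def Ptab_s_690_694 (c : Nat) : Nat := @Bool.rec (fun _ => Nat) (Ptab_s_690_692 c) (Ptab_s_692_694 c) (Nat.ble 692 c)
noncomputable def Ptab_s_686_694 (c : Nat) : Nat := @Bool.rec (fun _ => Nat) (Ptab_s_686_690 c) (Ptab_s_690_694 c) (Nat.ble 690 c)
noncomputable def Ptab_s_694_696 (c : Nat) : Nat := @Bool.rec (fun _ => Nat) (Ptab_694) (Ptab_695) (Nat.ble 695 c)
noncomputable def Ptab_s_696_698 (c : Nat) : Nat := @Bool.rec (fun _ => Nat) (Ptab_696) (Ptab_697) (Nat.ble 697 c)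
noncomputable def Ptab_s_694_698 (c : Nat) : Nat := @Bool.rec (fun _ => Nat) (Ptab_s_694_696 c) (Ptab_s_696_698 c) (Nat.ble 696 c)
noncomputable def Ptab_s_698_700 (c : Nat) : Nat := @Bool.rec (fun _ => Nat) (Ptab_698) (Ptab_699) (Nat.ble 699 c)
noncomputable def Ptab_s_700_702 (c : Nat) : Nat := @Bool.rec (fun _ => Nat) (Ptab_700) (Ptab_701) (Nat.ble 701 c)
noncomputable def Ptab_s_698_702 (c : Nat) : Nat := @Bool.rec (fun _ => Nat) (Ptab_s_698_700 c) (Ptab_s_700_702 c) (Nat.ble 700 c)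
noncomputable def Ptab_s_694_702 (c : Nat) : Nat := @Bool.rec (fun _ => Nat) (Ptab_s_694_698 c) (Ptab_s_698_702 c) (Nat.ble 698 c)
noncomputable def Ptab_s_686_702 (c : Nat) : Nat := @Bool.rec (fun _ => Nat) (Ptab_s_686_694 c) (Ptab_s_694_702 c) (Nat.ble 694 c)
noncomputable def Ptab_s_670_702 (c : Nat) : Nat := @Bool.rec (fun _ => Nat) (Ptab_s_670_686 c) (Ptab_s_686_702 c) (Nat.ble 686 c)
noncomputable def Ptab_s_638_702 (c : Nat) : Nat := @Bool.rec (fun _ => Nat) (Ptab_s_638_670 c) (Ptab_s_670_702 c) (Nat.ble 670 c)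
noncomputable def Ptab_s_702_704 (c : Nat) : Nat := @Bool.rec (fun _ => Nat) (Ptab_702) (Ptab_703) (Nat.ble 703 c)
noncomputable def Ptab_s_704_706 (c : Nat) : Nat := @Bool.rec (fun _ => Nat) (Ptab_704) (Ptab_705) (Nat.ble 705 c)
noncomputable def Ptab_s_702_706 (c : Nat) : Nat := @Bool.rec (fun _ => Nat) (Ptab_s_702_704 c) (Ptab_s_704_706 c) (Nat.ble 704 c)
noncomputable def Ptab_s_706_708 (c : Nat) : Nat := @Bool.rec (fun _ => Nat) (Ptab_706) (Ptab_707) (Nat.ble 707 c)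
noncomputable def Ptab_s_708_710 (c : Nat) : Nat := @Bool.rec (fun _ => Nat) (Ptab_708) (Ptab_709) (Nat.ble 709 c)
noncomputable def Ptab_s_706_710 (c : Nat) : Nat := @Bool.rec (fun _ => Nat) (Ptab_s_706_708 c) (Ptab_s_708_710 c) (Nat.ble 708 c)
noncomputable def Ptab_s_702_710 (c : Nat) : Nat := @Bool.rec (fun _ => Nat) (Ptab_s_702_706 c) (Ptab_s_706_710 c) (Nat.ble 706 c)
noncomputable def Ptab_s_710_712 (c : Nat) : Nat := @Bool.rec (fun _ => Nat) (Ptab_710) (Ptab_711) (Nat.ble 711 c)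
noncomputable def Ptab_s_712_714 (c : Nat) : Nat := @Bool.rec (fun _ => Nat) (Ptab_712) (Ptab_713) (Nat.ble 713 c)
noncomputable def Ptab_s_710_714 (c : Nat) : Nat := @Bool.rec (fun _ => Nat) (Ptab_s_710_712 c) (Ptab_s_712_714 c) (Nat.ble 712 c)
noncomputable def Ptab_s_714_716 (c : Nat) : Nat := @Bool.rec (fun _ => Nat) (Ptab_714) (Ptab_715) (Nat.ble 715 c)
noncomputable def Ptab_s_716_718 (c : Nat) : Nat := @Bool.rec (fun _ => Nat) (Ptab_716) (Ptab_717) (Nat.ble 717 c)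
noncomputable def Ptab_s_714_718 (c : Nat) : Nat := @Bool.rec (fun _ => Nat) (Ptab_s_714_716 c) (Ptab_s_716_718 c) (Nat.ble 716 c)
noncomputable def Ptab_s_710_718 (c : Nat) : Nat := @Bool.rec (fun _ => Nat) (Ptab_s_710_714 c) (Ptab_s_714_718 c) (Nat.ble 714 c)
noncomputable def Ptab_s_702_718 (c : Nat) : Nat := @Bool.rec (fun _ => Nat) (Ptab_s_702_710 c) (Ptab_s_710_718 c) (Nat.ble 710 c)
noncomputable def Ptab_s_718_720 (c : Nat) : Nat := @Bool.rec (fun _ => Nat) (Ptab_718) (Ptab_719) (Nat.ble 719 c)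
noncomputable def Ptab_s_720_722 (c : Nat) : Nat := @Bool.rec (fun _ => Nat) (Ptab_720) (Ptab_721) (Nat.ble 721 c)
noncomputable def Ptab_s_718_722 (c : Nat) : Nat := @Bool.rec (fun _ => Nat) (Ptab_s_718_720 c) (Ptab_s_720_722 c) (Nat.ble 720 c)
noncomputable def Ptab_s_722_724 (c : Nat) : Nat := @Bool.rec (fun _ => Nat) (Ptab_722) (Ptab_723) (Nat.ble 723 c)
noncomputable def Ptab_s_724_726 (c : Nat) : Nat := @Bool.rec (fun _ => Nat) (Ptab_724) (Ptab_725) (Nat.ble 725 c)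
noncomputable def Ptab_s_722_726 (c : Nat) : Nat := @Bool.rec (fun _ => Nat) (Ptab_s_722_724 c) (Ptab_s_724_726 c) (Nat.ble 724 c)
noncomputable def Ptab_s_718_726 (c : Nat) : Nat := @Bool.rec (fun _ => Nat) (Ptab_s_718_722 c) (Ptab_s_722_726 c) (Nat.ble 722 c)
noncomputable def Ptab_s_726_728 (c : Nat) : Nat := @Bool.rec (fun _ => Nat) (Ptab_726) (Ptab_727) (Nat.ble 727 c)
noncomputable def Ptab_s_728_730 (c : Nat) : Nat := @Bool.rec (fun _ => Nat) (Ptab_728) (Ptab_729) (Nat.ble 729 c)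
noncomputable def Ptab_s_726_730 (c : Nat) : Nat := @Bool.rec (fun _ => Nat) (Ptab_s_726_728 c) (Ptab_s_728_730 c) (Nat.ble 728 c)
noncomputable def Ptab_s_730_732 (c : Nat) : Nat := @Bool.rec (fun _ => Nat) (Ptab_730) (Ptab_731) (Nat.ble 731 c)
noncomputable def Ptab_s_732_734 (c : Nat) : Nat := @Bool.rec (fun _ => Nat) (Ptab_732) (Ptab_733) (Nat.ble 733 c)
noncomputable def Ptab_s_730_734 (c : Nat) : Nat := @Bool.rec (fun _ => Nat) (Ptab_s_730_732 c) (Ptab_s_732_734 c) (Nat.ble 732 c)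
noncomputable def Ptab_s_726_734 (c : Nat) : Nat := @Bool.rec (fun _ => Nat) (Ptab_s_726_730 c) (Ptab_s_730_734 c) (Nat.ble 730 c)
noncomputable def Ptab_s_718_734 (c : Nat) : Nat := @Bool.rec (fun _ => Nat) (Ptab_s_718_726 c) (Ptab_s_726_734 c) (Nat.ble 726 c)
noncomputable def Ptab_s_702_734 (c : Nat) : Nat := @Bool.rec (fun _ => Nat) (Ptab_s_702_718 c) (Ptab_s_718_734 c) (Nat.ble 718 c)
noncomputable def Ptab_s_734_736 (c : Nat) : Nat := @Bool.rec (fun _ => Nat) (Ptab_734) (Ptab_735) (Nat.ble 735 c)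
noncomputable def Ptab_s_736_738 (c : Nat) : Nat := @Bool.rec (fun _ => Nat) (Ptab_736) (Ptab_737) (Nat.ble 737 c)
noncomputable def Ptab_s_734_738 (c : Nat) : Nat := @Bool.rec (fun _ => Nat) (Ptab_s_734_736 c) (Ptab_s_736_738 c) (Nat.ble 736 c)
noncomputable def Ptab_s_738_740 (c : Nat) : Nat := @Bool.rec (fun _ => Nat) (Ptab_738) (Ptab_739) (Nat.ble 739 c)
noncomputable def Ptab_s_740_742 (c : Nat) : Nat := @Bool.rec (fun _ => Nat) (Ptab_740) (Ptab_741) (Nat.ble 741 c)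
noncomputable def Ptab_s_738_742 (c : Nat) : Nat := @Bool.rec (fun _ => Nat) (Ptab_s_738_740 c) (Ptab_s_740_742 c) (Nat.ble 740 c)
noncomputable def Ptab_s_734_742 (c : Nat) : Nat := @Bool.rec (fun _ => Nat) (Ptab_s_734_738 c) (Ptab_s_738_742 c) (Nat.ble 738 c)
noncomputable def Ptab_s_742_744 (c : Nat) : Nat := @Bool.rec (fun _ => Nat) (Ptab_742) (Ptab_743) (Nat.ble 743 c)
noncomputable def Ptab_s_744_746 (c : Nat) : Nat := @Bool.rec (fun _ => Nat) (Ptab_744) (Ptab_745) (Nat.ble 745 c)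
noncomputable def Ptab_s_742_746 (c : Nat) : Nat := @Bool.rec (fun _ => Nat) (Ptab_s_742_744 c) (Ptab_s_744_746 c) (Nat.ble 744 c)
noncomputable def Ptab_s_746_748 (c : Nat) : Nat := @Bool.rec (fun _ => Nat) (Ptab_746) (Ptab_747) (Nat.ble 747 c)
noncomputable def Ptab_s_748_750 (c : Nat) : Nat := @Bool.rec (fun _ => Nat) (Ptab_748) (Ptab_749) (Nat.ble 749 c)
noncomputable def Ptab_s_746_750 (c : Nat) : Nat := @Bool.rec (fun _ => Nat) (Ptab_s_746_748 c) (Ptab_s_748_750 c) (Nat.ble 748 c)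
noncomputable def Ptab_s_742_750 (c : Nat) : Nat := @Bool.rec (fun _ => Nat) (Ptab_s_742_746 c) (Ptab_s_746_750 c) (Nat.ble 746 c)
noncomputable def Ptab_s_734_750 (c : Nat) : Nat := @Bool.rec (fun _ => Nat) (Ptab_s_734_742 c) (Ptab_s_742_750 c) (Nat.ble 742 c)
noncomputable def Ptab_s_750_752 (c : Nat) : Nat := @Bool.rec (fun _ => Nat) (Ptab_750) (Ptab_751) (Nat.ble 751 c)
noncomputable def Ptab_s_752_754 (c : Nat) : Nat := @Bool.rec (fun _ => Nat) (Ptab_752) (Ptab_753) (Nat.ble 753 c)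
noncomputable def Ptab_s_750_754 (c : Nat) : Nat := @Bool.rec (fun _ => Nat) (Ptab_s_750_752 c) (Ptab_s_752_754 c) (Nat.ble 752 c)
noncomputable def Ptab_s_754_756 (c : Nat) : Nat := @Bool.rec (fun _ => Nat) (Ptab_754) (Ptab_755) (Nat.ble 755 c)
noncomputable def Ptab_s_756_758 (c : Nat) : Nat := @Bool.rec (fun _ => Nat) (Ptab_756) (Ptab_757) (Nat.ble 757 c)
noncomputable def Ptab_s_754_758 (c : Nat) : Nat := @Bool.rec (fun _ => Nat) (Ptab_s_754_756 c) (Ptab_s_756_758 c) (Nat.ble 756 c)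
noncomputable def Ptab_s_750_758 (c : Nat) : Nat := @Bool.rec (fun _ => Nat) (Ptab_s_750_754 c) (Ptab_s_754_758 c) (Nat.ble 754 c)
noncomputable def Ptab_s_758_760 (c : Nat) : Nat := @Bool.rec (fun _ => Nat) (Ptab_758) (Ptab_759) (Nat.ble 759 c)
noncomputable def Ptab_s_760_762 (c : Nat) : Nat := @Bool.rec (fun _ => Nat) (Ptab_760) (Ptab_761) (Nat.ble 761 c)
noncomputable def Ptab_s_758_762 (c : Nat) : Nat := @Bool.rec (fun _ => Nat) (Ptab_s_758_760 c) (Ptab_s_760_762 c) (Nat.ble 760 c)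
noncomputable def Ptab_s_762_764 (c : Nat) : Nat := @Bool.rec (fun _ => Nat) (Ptab_762) (Ptab_763) (Nat.ble 763 c)
noncomputable def Ptab_s_764_766 (c : Nat) : Nat := @Bool.rec (fun _ => Nat) (Ptab_764) (Ptab_765) (Nat.ble 765 c)
noncomputable def Ptab_s_762_766 (c : Nat) : Nat := @Bool.rec (fun _ => Nat) (Ptab_s_762_764 c) (Ptab_s_764_766 c) (Nat.ble 764 c)
noncomputable def Ptab_s_758_766 (c : Nat) : Nat := @Bool.rec (fun _ => Nat) (Ptab_s_758_762 c) (Ptab_s_762_766 c) (Nat.ble 762 c)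
noncomputable def Ptab_s_750_766 (c : Nat) : Nat := @Bool.rec (fun _ => Nat) (Ptab_s_750_758 c) (Ptab_s_758_766 c) (Nat.ble 758 c)
noncomputable def Ptab_s_734_766 (c : Nat) : Nat := @Bool.rec (fun _ => Nat) (Ptab_s_734_750 c) (Ptab_s_750_766 c) (Nat.ble 750 c)
noncomputable def Ptab_s_702_766 (c : Nat) : Nat := @Bool.rec (fun _ => Nat) (Ptab_s_702_734 c) (Ptab_s_734_766 c) (Nat.ble 734 c)
noncomputable def Ptab_s_638_766 (c : Nat) : Nat := @Bool.rec (fun _ => Nat) (Ptab_s_638_702 c) (Ptab_s_702_766 c) (Nat.ble 702 c)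
noncomputable def Ptab_s_511_766 (c : Nat) : Nat := @Bool.rec (fun _ => Nat) (Ptab_s_511_638 c) (Ptab_s_638_766 c) (Nat.ble 638 c)
noncomputable def Ptab_s_766_768 (c : Nat) : Nat := @Bool.rec (fun _ => Nat) (Ptab_766) (Ptab_767) (Nat.ble 767 c)
noncomputable def Ptab_s_768_770 (c : Nat) : Nat := @Bool.rec (fun _ => Nat) (Ptab_768) (Ptab_769) (Nat.ble 769 c)
noncomputable def Ptab_s_766_770 (c : Nat) : Nat := @Bool.rec (fun _ => Nat) (Ptab_s_766_768 c) (Ptab_s_768_770 c) (Nat.ble 768 c)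
noncomputable def Ptab_s_770_772 (c : Nat) : Nat := @Bool.rec (fun _ => Nat) (Ptab_770) (Ptab_771) (Nat.ble 771 c)
noncomputable def Ptab_s_772_774 (c : Nat) : Nat := @Bool.rec (fun _ => Nat) (Ptab_772) (Ptab_773) (Nat.ble 773 c)
noncomputable def Ptab_s_770_774 (c : Nat) : Nat := @Bool.rec (fun _ => Nat) (Ptab_s_770_772 c) (Ptab_s_772_774 c) (Nat.ble 772 c)
noncomputable def Ptab_s_766_774 (c : Nat) : Nat := @Bool.rec (fun _ => Nat) (Ptab_s_766_770 c) (Ptab_s_770_774 c) (Nat.ble 770 c)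
noncomputable def Ptab_s_774_776 (c : Nat) : Nat := @Bool.rec (fun _ => Nat) (Ptab_774) (Ptab_775) (Nat.ble 775 c)
noncomputable def Ptab_s_776_778 (c : Nat) : Nat := @Bool.rec (fun _ => Nat) (Ptab_776) (Ptab_777) (Nat.ble 777 c)
noncomputable def Ptab_s_774_778 (c : Nat) : Nat := @Bool.rec (fun _ => Nat) (Ptab_s_774_776 c) (Ptab_s_776_778 c) (Nat.ble 776 c)
noncomputable def Ptab_s_778_780 (c : Nat) : Nat := @Bool.rec (fun _ => Nat) (Ptab_778) (Ptab_779) (Nat.ble 779 c)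
noncomputable def Ptab_s_780_782 (c : Nat) : Nat := @Bool.rec (fun _ => Nat) (Ptab_780) (Ptab_781) (Nat.ble 781 c)
noncomputable def Ptab_s_778_782 (c : Nat) : Nat := @Bool.rec (fun _ => Nat) (Ptab_s_778_780 c) (Ptab_s_780_782 c) (Nat.ble 780 c)
noncomputable def Ptab_s_774_782 (c : Nat) : Nat := @Bool.rec (fun _ => Nat) (Ptab_s_774_778 c) (Ptab_s_778_782 c) (Nat.ble 778 c)
noncomputable def Ptab_s_766_782 (c : Nat) : Nat := @Bool.rec (fun _ => Nat) (Ptab_s_766_774 c) (Ptab_s_774_782 c) (Nat.ble 774 c)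
noncomputable def Ptab_s_782_784 (c : Nat) : Nat := @Bool.rec (fun _ => Nat) (Ptab_782) (Ptab_783) (Nat.ble 783 c)
noncomputable def Ptab_s_784_786 (c : Nat) : Nat := @Bool.rec (fun _ => Nat) (Ptab_784) (Ptab_785) (Nat.ble 785 c)
noncomputable def Ptab_s_782_786 (c : Nat) : Nat := @Bool.rec (fun _ => Nat) (Ptab_s_782_784 c) (Ptab_s_784_786 c) (Nat.ble 784 c)
noncomputable def Ptab_s_786_788 (c : Nat) : Nat := @Bool.rec (fun _ => Nat) (Ptab_786) (Ptab_787) (Nat.ble 787 c)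
noncomputable def Ptab_s_788_790 (c : Nat) : Nat := @Bool.rec (fun _ => Nat) (Ptab_788) (Ptab_789) (Nat.ble 789 c)
noncomputable def Ptab_s_786_790 (c : Nat) : Nat := @Bool.rec (fun _ => Nat) (Ptab_s_786_788 c) (Ptab_s_788_790 c) (Nat.ble 788 c)
noncomputable def Ptab_s_782_790 (c : Nat) : Nat := @Bool.rec (fun _ => Nat) (Ptab_s_782_786 c) (Ptab_s_786_790 c) (Nat.ble 786 c)
noncomputable def Ptab_s_790_792 (c : Nat) : Nat := @Bool.rec (fun _ => Nat) (Ptab_790) (Ptab_791) (Nat.ble 791 c)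
noncomputable def Ptab_s_792_794 (c : Nat) : Nat := @Bool.rec (fun _ => Nat) (Ptab_792) (Ptab_793) (Nat.ble 793 c)
noncomputable def Ptab_s_790_794 (c : Nat) : Nat := @Bool.rec (fun _ => Nat) (Ptab_s_790_792 c) (Ptab_s_792_794 c) (Nat.ble 792 c)
noncomputable def Ptab_s_794_796 (c : Nat) : Nat := @Bool.rec (fun _ => Nat) (Ptab_794) (Ptab_795) (Nat.ble 795 c)
noncomputable def Ptab_s_796_798 (c : Nat) : Nat := @Bool.rec (fun _ => Nat) (Ptab_796) (Ptab_797) (Nat.ble 797 c)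
noncomputable def Ptab_s_794_798 (c : Nat) : Nat := @Bool.rec (fun _ => Nat) (Ptab_s_794_796 c) (Ptab_s_796_798 c) (Nat.ble 796 c)
noncomputable def Ptab_s_790_798 (c : Nat) : Nat := @Bool.rec (fun _ => Nat) (Ptab_s_790_794 c) (Ptab_s_794_798 c) (Nat.ble 794 c)
noncomputable def Ptab_s_782_798 (c : Nat) : Nat := @Bool.rec (fun _ => Nat) (Ptab_s_782_790 c) (Ptab_s_790_798 c) (Nat.ble 790 c)
noncomputable def Ptab_s_766_798 (c : Nat) : Nat := @Bool.rec (fun _ => Nat) (Ptab_s_766_782 c) (Ptab_s_782_798 c) (Nat.ble 782 c)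
noncomputable def Ptab_s_798_800 (c : Nat) : Nat := @Bool.rec (fun _ => Nat) (Ptab_798) (Ptab_799) (Nat.ble 799 c)
noncomputable def Ptab_s_800_802 (c : Nat) : Nat := @Bool.rec (fun _ => Nat) (Ptab_800) (Ptab_801) (Nat.ble 801 c)
noncomputable def Ptab_s_798_802 (c : Nat) : Nat := @Bool.rec (fun _ => Nat) (Ptab_s_798_800 c) (Ptab_s_800_802 c) (Nat.ble 800 c)
noncomputable def Ptab_s_802_804 (c : Nat) : Nat := @Bool.rec (fun _ => Nat) (Ptab_802) (Ptab_803) (Nat.ble 803 c)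
noncomputable def Ptab_s_804_806 (c : Nat) : Nat := @Bool.rec (fun _ => Nat) (Ptab_804) (Ptab_805) (Nat.ble 805 c)
noncomputable def Ptab_s_802_806 (c : Nat) : Nat := @Bool.rec (fun _ => Nat) (Ptab_s_802_804 c) (Ptab_s_804_806 c) (Nat.ble 804 c)
noncomputable def Ptab_s_798_806 (c : Nat) : Nat := @Bool.rec (fun _ => Nat) (Ptab_s_798_802 c) (Ptab_s_802_806 c) (Nat.ble 802 c)
noncomputable def Ptab_s_806_808 (c : Nat) : Nat := @Bool.rec (fun _ => Nat) (Ptab_806) (Ptab_807) (Nat.ble 807 c)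
noncomputable def Ptab_s_808_810 (c : Nat) : Nat := @Bool.rec (fun _ => Nat) (Ptab_808) (Ptab_809) (Nat.ble 809 c)
noncomputable def Ptab_s_806_810 (c : Nat) : Nat := @Bool.rec (fun _ => Nat) (Ptab_s_806_808 c) (Ptab_s_808_810 c) (Nat.ble 808 c)
noncomputable def Ptab_s_810_812 (c : Nat) : Nat := @Bool.rec (fun _ => Nat) (Ptab_810) (Ptab_811) (Nat.ble 811 c)
noncomputable def Ptab_s_812_814 (c : Nat) : Nat := @Bool.rec (fun _ => Nat) (Ptab_812) (Ptab_813) (Nat.ble 813 c)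
noncomputable def Ptab_s_810_814 (c : Nat) : Nat := @Bool.rec (fun _ => Nat) (Ptab_s_810_812 c) (Ptab_s_812_814 c) (Nat.ble 812 c)
noncomputable def Ptab_s_806_814 (c : Nat) : Nat := @Bool.rec (fun _ => Nat) (Ptab_s_806_810 c) (Ptab_s_810_814 c) (Nat.ble 810 c)
noncomputable def Ptab_s_798_814 (c : Nat) : Nat := @Bool.rec (fun _ => Nat) (Ptab_s_798_806 c) (Ptab_s_806_814 c) (Nat.ble 806 c)
noncomputable def Ptab_s_814_816 (c : Nat) : Nat := @Bool.rec (fun _ => Nat) (Ptab_814) (Ptab_815) (Nat.ble 815 c)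
noncomputable def Ptab_s_816_818 (c : Nat) : Nat := @Bool.rec (fun _ => Nat) (Ptab_816) (Ptab_817) (Nat.ble 817 c)
noncomputable def Ptab_s_814_818 (c : Nat) : Nat := @Bool.rec (fun _ => Nat) (Ptab_s_814_816 c) (Ptab_s_816_818 c) (Nat.ble 816 c)
noncomputable def Ptab_s_818_820 (c : Nat) : Nat := @Bool.rec (fun _ => Nat) (Ptab_818) (Ptab_819) (Nat.ble 819 c)
noncomputable def Ptab_s_820_822 (c : Nat) : Nat := @Bool.rec (fun _ => Nat) (Ptab_820) (Ptab_821) (Nat.ble 821 c)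
noncomputable def Ptab_s_818_822 (c : Nat) : Nat := @Bool.rec (fun _ => Nat) (Ptab_s_818_820 c) (Ptab_s_820_822 c) (Nat.ble 820 c)
noncomputable def Ptab_s_814_822 (c : Nat) : Nat := @Bool.rec (fun _ => Nat) (Ptab_s_814_818 c) (Ptab_s_818_822 c) (Nat.ble 818 c)
noncomputable def Ptab_s_822_824 (c : Nat) : Nat := @Bool.rec (fun _ => Nat) (Ptab_822) (Ptab_823) (Nat.ble 823 c)
noncomputable def Ptab_s_824_826 (c : Nat) : Nat := @Bool.rec (fun _ => Nat) (Ptab_824) (Ptab_825) (Nat.ble 825 c)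
noncomputable def Ptab_s_822_826 (c : Nat) : Nat := @Bool.rec (fun _ => Nat) (Ptab_s_822_824 c) (Ptab_s_824_826 c) (Nat.ble 824 c)
noncomputable def Ptab_s_826_828 (c : Nat) : Nat := @Bool.rec (fun _ => Nat) (Ptab_826) (Ptab_827) (Nat.ble 827 c)
noncomputable def Ptab_s_828_830 (c : Nat) : Nat := @Bool.rec (fun _ => Nat) (Ptab_828) (Ptab_829) (Nat.ble 829 c)
noncomputable def Ptab_s_826_830 (c : Nat) : Nat := @Bool.rec (fun _ => Nat) (Ptab_s_826_828 c) (Ptab_s_828_830 c) (Nat.ble 828 c)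
noncomputable def Ptab_s_822_830 (c : Nat) : Nat := @Bool.rec (fun _ => Nat) (Ptab_s_822_826 c) (Ptab_s_826_830 c) (Nat.ble 826 c)
noncomputable def Ptab_s_814_830 (c : Nat) : Nat := @Bool.rec (fun _ => Nat) (Ptab_s_814_822 c) (Ptab_s_822_830 c) (Nat.ble 822 c)
noncomputable def Ptab_s_798_830 (c : Nat) : Nat := @Bool.rec (fun _ => Nat) (Ptab_s_798_814 c) (Ptab_s_814_830 c) (Nat.ble 814 c)
noncomputable def Ptab_s_766_830 (c : Nat) : Nat := @Bool.rec (fun _ => Nat) (Ptab_s_766_798 c) (Ptab_s_798_830 c) (Nat.ble 798 c)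
noncomputable def Ptab_s_830_832 (c : Nat) : Nat := @Bool.rec (fun _ => Nat) (Ptab_830) (Ptab_831) (Nat.ble 831 c)
noncomputable def Ptab_s_832_834 (c : Nat) : Nat := @Bool.rec (fun _ => Nat) (Ptab_832) (Ptab_833) (Nat.ble 833 c)
noncomputable def Ptab_s_830_834 (c : Nat) : Nat := @Bool.rec (fun _ => Nat) (Ptab_s_830_832 c) (Ptab_s_832_834 c) (Nat.ble 832 c)
noncomputable def Ptab_s_834_836 (c : Nat) : Nat := @Bool.rec (fun _ => Nat) (Ptab_834) (Ptab_835) (Nat.ble 835 c)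
noncomputable def Ptab_s_836_838 (c : Nat) : Nat := @Bool.rec (fun _ => Nat) (Ptab_836) (Ptab_837) (Nat.ble 837 c)
noncomputable def Ptab_s_834_838 (c : Nat) : Nat := @Bool.rec (fun _ => Nat) (Ptab_s_834_836 c) (Ptab_s_836_838 c) (Nat.ble 836 c)
noncomputable def Ptab_s_830_838 (c : Nat) : Nat := @Bool.rec (fun _ => Nat) (Ptab_s_830_834 c) (Ptab_s_834_838 c) (Nat.ble 834 c)
noncomputable def Ptab_s_838_840 (c : Nat) : Nat := @Bool.rec (fun _ => Nat) (Ptab_838) (Ptab_839) (Nat.ble 839 c)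
noncomputable def Ptab_s_840_842 (c : Nat) : Nat := @Bool.rec (fun _ => Nat) (Ptab_840) (Ptab_841) (Nat.ble 841 c)
noncomputable def Ptab_s_838_842 (c : Nat) : Nat := @Bool.rec (fun _ => Nat) (Ptab_s_838_840 c) (Ptab_s_840_842 c) (Nat.ble 840 c)
noncomputable def Ptab_s_842_844 (c : Nat) : Nat := @Bool.rec (fun _ => Nat) (Ptab_842) (Ptab_843) (Nat.ble 843 c)
noncomputable def Ptab_s_844_846 (c : Nat) : Nat := @Bool.rec (fun _ => Nat) (Ptab_844) (Ptab_845) (Nat.ble 845 c)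
noncomputable def Ptab_s_842_846 (c : Nat) : Nat := @Bool.rec (fun _ => Nat) (Ptab_s_842_844 c) (Ptab_s_844_846 c) (Nat.ble 844 c)
noncomputable def Ptab_s_838_846 (c : Nat) : Nat := @Bool.rec (fun _ => Nat) (Ptab_s_838_842 c) (Ptab_s_842_846 c) (Nat.ble 842 c)
noncomputable def Ptab_s_830_846 (c : Nat) : Nat := @Bool.rec (fun _ => Nat) (Ptab_s_830_838 c) (Ptab_s_838_846 c) (Nat.ble 838 c)
noncomputable def Ptab_s_846_848 (c : Nat) : Nat := @Bool.rec (fun _ => Nat) (Ptab_846) (Ptab_847) (Nat.ble 847 c)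
noncomputable def Ptab_s_848_850 (c : Nat) : Nat := @Bool.rec (fun _ => Nat) (Ptab_848) (Ptab_849) (Nat.ble 849 c)
noncomputable def Ptab_s_846_850 (c : Nat) : Nat := @Bool.rec (fun _ => Nat) (Ptab_s_846_848 c) (Ptab_s_848_850 c) (Nat.ble 848 c)
noncomputable def Ptab_s_850_852 (c : Nat) : Nat := @Bool.rec (fun _ => Nat) (Ptab_850) (Ptab_851) (Nat.ble 851 c)
noncomputable def Ptab_s_852_854 (c : Nat) : Nat := @Bool.rec (fun _ => Nat) (Ptab_852) (Ptab_853) (Nat.ble 853 c)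
noncomputable def Ptab_s_850_854 (c : Nat) : Nat := @Bool.rec (fun _ => Nat) (Ptab_s_850_852 c) (Ptab_s_852_854 c) (Nat.ble 852 c)
noncomputable def Ptab_s_846_854 (c : Nat) : Nat := @Bool.rec (fun _ => Nat) (Ptab_s_846_850 c) (Ptab_s_850_854 c) (Nat.ble 850 c)
noncomputable def Ptab_s_854_856 (c : Nat) : Nat := @Bool.rec (fun _ => Nat) (Ptab_854) (Ptab_855) (Nat.ble 855 c)
noncomputable def Ptab_s_856_858 (c : Nat) : Nat := @Bool.rec (fun _ => Nat) (Ptab_856) (Ptab_857) (Nat.ble 857 c)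
noncomputable def Ptab_s_854_858 (c : Nat) : Nat := @Bool.rec (fun _ => Nat) (Ptab_s_854_856 c) (Ptab_s_856_858 c) (Nat.ble 856 c)
noncomputable def Ptab_s_858_860 (c : Nat) : Nat := @Bool.rec (fun _ => Nat) (Ptab_858) (Ptab_859) (Nat.ble 859 c)
noncomputable def Ptab_s_860_862 (c : Nat) : Nat := @Bool.rec (fun _ => Nat) (Ptab_860) (Ptab_861) (Nat.ble 861 c)
noncomputable def Ptab_s_858_862 (c : Nat) : Nat := @Bool.rec (fun _ => Nat) (Ptab_s_858_860 c) (Ptab_s_860_862 c) (Nat.ble 860 c)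
noncomputable def Ptab_s_854_862 (c : Nat) : Nat := @Bool.rec (fun _ => Nat) (Ptab_s_854_858 c) (Ptab_s_858_862 c) (Nat.ble 858 c)
noncomputable def Ptab_s_846_862 (c : Nat) : Nat := @Bool.rec (fun _ => Nat) (Ptab_s_846_854 c) (Ptab_s_854_862 c) (Nat.ble 854 c)
noncomputable def Ptab_s_830_862 (c : Nat) : Nat := @Bool.rec (fun _ => Nat) (Ptab_s_830_846 c) (Ptab_s_846_862 c) (Nat.ble 846 c)
noncomputable def Ptab_s_862_864 (c : Nat) : Nat := @Bool.rec (fun _ => Nat) (Ptab_862) (Ptab_863) (Nat.ble 863 c)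
noncomputable def Ptab_s_864_866 (c : Nat) : Nat := @Bool.rec (fun _ => Nat) (Ptab_864) (Ptab_865) (Nat.ble 865 c)
noncomputable def Ptab_s_862_866 (c : Nat) : Nat := @Bool.rec (fun _ => Nat) (Ptab_s_862_864 c) (Ptab_s_864_866 c) (Nat.ble 864 c)
noncomputable def Ptab_s_866_868 (c : Nat) : Nat := @Bool.rec (fun _ => Nat) (Ptab_866) (Ptab_867) (Nat.ble 867 c)
noncomputable def Ptab_s_868_870 (c : Nat) : Nat := @Bool.rec (fun _ => Nat) (Ptab_868) (Ptab_869) (Nat.ble 869 c)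
noncomputable def Ptab_s_866_870 (c : Nat) : Nat := @Bool.rec (fun _ => Nat) (Ptab_s_866_868 c) (Ptab_s_868_870 c) (Nat.ble 868 c)
noncomputable def Ptab_s_862_870 (c : Nat) : Nat := @Bool.rec (fun _ => Nat) (Ptab_s_862_866 c) (Ptab_s_866_870 c) (Nat.ble 866 c)
noncomputable def Ptab_s_870_872 (c : Nat) : Nat := @Bool.rec (fun _ => Nat) (Ptab_870) (Ptab_871) (Nat.ble 871 c)
noncomputable def Ptab_s_872_874 (c : Nat) : Nat := @Bool.rec (fun _ => Nat) (Ptab_872) (Ptab_873) (Nat.ble 873 c)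
noncomputable def Ptab_s_870_874 (c : Nat) : Nat := @Bool.rec (fun _ => Nat) (Ptab_s_870_872 c) (Ptab_s_872_874 c) (Nat.ble 872 c)
noncomputable def Ptab_s_874_876 (c : Nat) : Nat := @Bool.rec (fun _ => Nat) (Ptab_874) (Ptab_875) (Nat.ble 875 c)
noncomputable def Ptab_s_876_878 (c : Nat) : Nat := @Bool.rec (fun _ => Nat) (Ptab_876) (Ptab_877) (Nat.ble 877 c)
noncomputable def Ptab_s_874_878 (c : Nat) : Nat := @Bool.rec (fun _ => Nat) (Ptab_s_874_876 c) (Ptab_s_876_878 c) (Nat.ble 876 c)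
noncomputable def Ptab_s_870_878 (c : Nat) : Nat := @Bool.rec (fun _ => Nat) (Ptab_s_870_874 c) (Ptab_s_874_878 c) (Nat.ble 874 c)
noncomputable def Ptab_s_862_878 (c : Nat) : Nat := @Bool.rec (fun _ => Nat) (Ptab_s_862_870 c) (Ptab_s_870_878 c) (Nat.ble 870 c)
noncomputable def Ptab_s_878_880 (c : Nat) : Nat := @Bool.rec (fun _ => Nat) (Ptab_878) (Ptab_879) (Nat.ble 879 c)
noncomputable def Ptab_s_880_882 (c : Nat) : Nat := @Bool.rec (fun _ => Nat) (Ptab_880) (Ptab_881) (Nat.ble 881 c)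
noncomputable def Ptab_s_878_882 (c : Nat) : Nat := @Bool.rec (fun _ => Nat) (Ptab_s_878_880 c) (Ptab_s_880_882 c) (Nat.ble 880 c)
noncomputable def Ptab_s_882_884 (c : Nat) : Nat := @Bool.rec (fun _ => Nat) (Ptab_882) (Ptab_883) (Nat.ble 883 c)
noncomputable def Ptab_s_884_886 (c : Nat) : Nat := @Bool.rec (fun _ => Nat) (Ptab_884) (Ptab_885) (Nat.ble 885 c)
noncomputable def Ptab_s_882_886 (c : Nat) : Nat := @Bool.rec (fun _ => Nat) (Ptab_s_882_884 c) (Ptab_s_884_886 c) (Nat.ble 884 c)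
noncomputable def Ptab_s_878_886 (c : Nat) : Nat := @Bool.rec (fun _ => Nat) (Ptab_s_878_882 c) (Ptab_s_882_886 c) (Nat.ble 882 c)
noncomputable def Ptab_s_886_888 (c : Nat) : Nat := @Bool.rec (fun _ => Nat) (Ptab_886) (Ptab_887) (Nat.ble 887 c)
noncomputable def Ptab_s_888_890 (c : Nat) : Nat := @Bool.rec (fun _ => Nat) (Ptab_888) (Ptab_889) (Nat.ble 889 c)
noncomputable def Ptab_s_886_890 (c : Nat) : Nat := @Bool.rec (fun _ => Nat) (Ptab_s_886_888 c) (Ptab_s_888_890 c) (Nat.ble 888 c)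
noncomputable def Ptab_s_890_892 (c : Nat) : Nat := @Bool.rec (fun _ => Nat) (Ptab_890) (Ptab_891) (Nat.ble 891 c)
noncomputable def Ptab_s_892_894 (c : Nat) : Nat := @Bool.rec (fun _ => Nat) (Ptab_892) (Ptab_893) (Nat.ble 893 c)
noncomputable def Ptab_s_890_894 (c : Nat) : Nat := @Bool.rec (fun _ => Nat) (Ptab_s_890_892 c) (Ptab_s_892_894 c) (Nat.ble 892 c)
noncomputable def Ptab_s_886_894 (c : Nat) : Nat := @Bool.rec (fun _ => Nat) (Ptab_s_886_890 c) (Ptab_s_890_894 c) (Nat.ble 890 c)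
noncomputable def Ptab_s_878_894 (c : Nat) : Nat := @Bool.rec (fun _ => Nat) (Ptab_s_878_886 c) (Ptab_s_886_894 c) (Nat.ble 886 c)
noncomputable def Ptab_s_862_894 (c : Nat) : Nat := @Bool.rec (fun _ => Nat) (Ptab_s_862_878 c) (Ptab_s_878_894 c) (Nat.ble 878 c)
noncomputable def Ptab_s_830_894 (c : Nat) : Nat := @Bool.rec (fun _ => Nat) (Ptab_s_830_862 c) (Ptab_s_862_894 c) (Nat.ble 862 c)
noncomputable def Ptab_s_766_894 (c : Nat) : Nat := @Bool.rec (fun _ => Nat) (Ptab_s_766_830 c) (Ptab_s_830_894 c) (Nat.ble 830 c)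
noncomputable def Ptab_s_894_896 (c : Nat) : Nat := @Bool.rec (fun _ => Nat) (Ptab_894) (Ptab_895) (Nat.ble 895 c)
noncomputable def Ptab_s_896_898 (c : Nat) : Nat := @Bool.rec (fun _ => Nat) (Ptab_896) (Ptab_897) (Nat.ble 897 c)
noncomputable def Ptab_s_894_898 (c : Nat) : Nat := @Bool.rec (fun _ => Nat) (Ptab_s_894_896 c) (Ptab_s_896_898 c) (Nat.ble 896 c)
noncomputable def Ptab_s_898_900 (c : Nat) : Nat := @Bool.rec (fun _ => Nat) (Ptab_898) (Ptab_899) (Nat.ble 899 c)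
noncomputable def Ptab_s_900_902 (c : Nat) : Nat := @Bool.rec (fun _ => Nat) (Ptab_900) (Ptab_901) (Nat.ble 901 c)
noncomputable def Ptab_s_898_902 (c : Nat) : Nat := @Bool.rec (fun _ => Nat) (Ptab_s_898_900 c) (Ptab_s_900_902 c) (Nat.ble 900 c)
noncomputable def Ptab_s_894_902 (c : Nat) : Nat := @Bool.rec (fun _ => Nat) (Ptab_s_894_898 c) (Ptab_s_898_902 c) (Nat.ble 898 c)
noncomputable def Ptab_s_902_904 (c : Nat) : Nat := @Bool.rec (fun _ => Nat) (Ptab_902) (Ptab_903) (Nat.ble 903 c)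
noncomputable def Ptab_s_904_906 (c : Nat) : Nat := @Bool.rec (fun _ => Nat) (Ptab_904) (Ptab_905) (Nat.ble 905 c)
noncomputable def Ptab_s_902_906 (c : Nat) : Nat := @Bool.rec (fun _ => Nat) (Ptab_s_902_904 c) (Ptab_s_904_906 c) (Nat.ble 904 c)
noncomputable def Ptab_s_906_908 (c : Nat) : Nat := @Bool.rec (fun _ => Nat) (Ptab_906) (Ptab_907) (Nat.ble 907 c)
noncomputable def Ptab_s_908_910 (c : Nat) : Nat := @Bool.rec (fun _ => Nat) (Ptab_908) (Ptab_909) (Nat.ble 909 c)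
noncomputable def Ptab_s_906_910 (c : Nat) : Nat := @Bool.rec (fun _ => Nat) (Ptab_s_906_908 c) (Ptab_s_908_910 c) (Nat.ble 908 c)
noncomputable def Ptab_s_902_910 (c : Nat) : Nat := @Bool.rec (fun _ => Nat) (Ptab_s_902_906 c) (Ptab_s_906_910 c) (Nat.ble 906 c)
noncomputable def Ptab_s_894_910 (c : Nat) : Nat := @Bool.rec (fun _ => Nat) (Ptab_s_894_902 c) (Ptab_s_902_910 c) (Nat.ble 902 c)
noncomputable def Ptab_s_910_912 (c : Nat) : Nat := @Bool.rec (fun _ => Nat) (Ptab_910) (Ptab_911) (Nat.ble 911 c)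
noncomputable def Ptab_s_912_914 (c : Nat) : Nat := @Bool.rec (fun _ => Nat) (Ptab_912) (Ptab_913) (Nat.ble 913 c)
noncomputable def Ptab_s_910_914 (c : Nat) : Nat := @Bool.rec (fun _ => Nat) (Ptab_s_910_912 c) (Ptab_s_912_914 c) (Nat.ble 912 c)
noncomputable def Ptab_s_914_916 (c : Nat) : Nat := @Bool.rec (fun _ => Nat) (Ptab_914) (Ptab_915) (Nat.ble 915 c)
noncomputable def Ptab_s_916_918 (c : Nat) : Nat := @Bool.rec (fun _ => Nat) (Ptab_916) (Ptab_917) (Nat.ble 917 c)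
noncomputable def Ptab_s_914_918 (c : Nat) : Nat := @Bool.rec (fun _ => Nat) (Ptab_s_914_916 c) (Ptab_s_916_918 c) (Nat.ble 916 c)
noncomputable def Ptab_s_910_918 (c : Nat) : Nat := @Bool.rec (fun _ => Nat) (Ptab_s_910_914 c) (Ptab_s_914_918 c) (Nat.ble 914 c)
noncomputable def Ptab_s_918_920 (c : Nat) : Nat := @Bool.rec (fun _ => Nat) (Ptab_918) (Ptab_919) (Nat.ble 919 c)
noncomputable def Ptab_s_920_922 (c : Nat) : Nat := @Bool.rec (fun _ => Nat) (Ptab_920) (Ptab_921) (Nat.ble 921 c)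
noncomputable def Ptab_s_918_922 (c : Nat) : Nat := @Bool.rec (fun _ => Nat) (Ptab_s_918_920 c) (Ptab_s_920_922 c) (Nat.ble 920 c)
noncomputable def Ptab_s_922_924 (c : Nat) : Nat := @Bool.rec (fun _ => Nat) (Ptab_922) (Ptab_923) (Nat.ble 923 c)
noncomputable def Ptab_s_924_926 (c : Nat) : Nat := @Bool.rec (fun _ => Nat) (Ptab_924) (Ptab_925) (Nat.ble 925 c)
noncomputable def Ptab_s_922_926 (c : Nat) : Nat := @Bool.rec (fun _ => Nat) (Ptab_s_922_924 c) (Ptab_s_924_926 c) (Nat.ble 924 c)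
noncomputable def Ptab_s_918_926 (c : Nat) : Nat := @Bool.rec (fun _ => Nat) (Ptab_s_918_922 c) (Ptab_s_922_926 c) (Nat.ble 922 c)
noncomputable def Ptab_s_910_926 (c : Nat) : Nat := @Bool.rec (fun _ => Nat) (Ptab_s_910_918 c) (Ptab_s_918_926 c) (Nat.ble 918 c)
noncomputable def Ptab_s_894_926 (c : Nat) : Nat := @Bool.rec (fun _ => Nat) (Ptab_s_894_910 c) (Ptab_s_910_926 c) (Nat.ble 910 c)
noncomputable def Ptab_s_926_928 (c : Nat) : Nat := @Bool.rec (fun _ => Nat) (Ptab_926) (Ptab_927) (Nat.ble 927 c)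
noncomputable def Ptab_s_928_930 (c : Nat) : Nat := @Bool.rec (fun _ => Nat) (Ptab_928) (Ptab_929) (Nat.ble 929 c)
noncomputable def Ptab_s_926_930 (c : Nat) : Nat := @Bool.rec (fun _ => Nat) (Ptab_s_926_928 c) (Ptab_s_928_930 c) (Nat.ble 928 c)
noncomputable def Ptab_s_930_932 (c : Nat) : Nat := @Bool.rec (fun _ => Nat) (Ptab_930) (Ptab_931) (Nat.ble 931 c)
noncomputable def Ptab_s_932_934 (c : Nat) : Nat := @Bool.rec (fun _ => Nat) (Ptab_932) (Ptab_933) (Nat.ble 933 c)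
noncomputable def Ptab_s_930_934 (c : Nat) : Nat := @Bool.rec (fun _ => Nat) (Ptab_s_930_932 c) (Ptab_s_932_934 c) (Nat.ble 932 c)
noncomputable def Ptab_s_926_934 (c : Nat) : Nat := @Bool.rec (fun _ => Nat) (Ptab_s_926_930 c) (Ptab_s_930_934 c) (Nat.ble 930 c)
noncomputable def Ptab_s_934_936 (c : Nat) : Nat := @Bool.rec (fun _ => Nat) (Ptab_934) (Ptab_935) (Nat.ble 935 c)
noncomputable def Ptab_s_936_938 (c : Nat) : Nat := @Bool.rec (fun _ => Nat) (Ptab_936) (Ptab_937) (Nat.ble 937 c)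
noncomputable def Ptab_s_934_938 (c : Nat) : Nat := @Bool.rec (fun _ => Nat) (Ptab_s_934_936 c) (Ptab_s_936_938 c) (Nat.ble 936 c)
noncomputable def Ptab_s_938_940 (c : Nat) : Nat := @Bool.rec (fun _ => Nat) (Ptab_938) (Ptab_939) (Nat.ble 939 c)
noncomputable def Ptab_s_940_942 (c : Nat) : Nat := @Bool.rec (fun _ => Nat) (Ptab_940) (Ptab_941) (Nat.ble 941 c)
noncomputable def Ptab_s_938_942 (c : Nat) : Nat := @Bool.rec (fun _ => Nat) (Ptab_s_938_940 c) (Ptab_s_940_942 c) (Nat.ble 940 c)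
noncomputable def Ptab_s_934_942 (c : Nat) : Nat := @Bool.rec (fun _ => Nat) (Ptab_s_934_938 c) (Ptab_s_938_942 c) (Nat.ble 938 c)
noncomputable def Ptab_s_926_942 (c : Nat) : Nat := @Bool.rec (fun _ => Nat) (Ptab_s_926_934 c) (Ptab_s_934_942 c) (Nat.ble 934 c)
noncomputable def Ptab_s_942_944 (c : Nat) : Nat := @Bool.rec (fun _ => Nat) (Ptab_942) (Ptab_943) (Nat.ble 943 c)
noncomputable def Ptab_s_944_946 (c : Nat) : Nat := @Bool.rec (fun _ => Nat) (Ptab_944) (Ptab_945) (Nat.ble 945 c)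
noncomputable def Ptab_s_942_946 (c : Nat) : Nat := @Bool.rec (fun _ => Nat) (Ptab_s_942_944 c) (Ptab_s_944_946 c) (Nat.ble 944 c)
noncomputable def Ptab_s_946_948 (c : Nat) : Nat := @Bool.rec (fun _ => Nat) (Ptab_946) (Ptab_947) (Nat.ble 947 c)
noncomputable def Ptab_s_948_950 (c : Nat) : Nat := @Bool.rec (fun _ => Nat) (Ptab_948) (Ptab_949) (Nat.ble 949 c)
noncomputable def Ptab_s_946_950 (c : Nat) : Nat := @Bool.rec (fun _ => Nat) (Ptab_s_946_948 c) (Ptab_s_948_950 c) (Nat.ble 948 c)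
noncomputable def Ptab_s_942_950 (c : Nat) : Nat := @Bool.rec (fun _ => Nat) (Ptab_s_942_946 c) (Ptab_s_946_950 c) (Nat.ble 946 c)
noncomputable def Ptab_s_950_952 (c : Nat) : Nat := @Bool.rec (fun _ => Nat) (Ptab_950) (Ptab_951) (Nat.ble 951 c)
noncomputable def Ptab_s_952_954 (c : Nat) : Nat := @Bool.rec (fun _ => Nat) (Ptab_952) (Ptab_953) (Nat.ble 953 c)
noncomputable def Ptab_s_950_954 (c : Nat) : Nat := @Bool.rec (fun _ => Nat) (Ptab_s_950_952 c) (Ptab_s_952_954 c) (Nat.ble 952 c)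
noncomputable def Ptab_s_954_956 (c : Nat) : Nat := @Bool.rec (fun _ => Nat) (Ptab_954) (Ptab_955) (Nat.ble 955 c)
noncomputable def Ptab_s_956_958 (c : Nat) : Nat := @Bool.rec (fun _ => Nat) (Ptab_956) (Ptab_957) (Nat.ble 957 c)
noncomputable def Ptab_s_954_958 (c : Nat) : Nat := @Bool.rec (fun _ => Nat) (Ptab_s_954_956 c) (Ptab_s_956_958 c) (Nat.ble 956 c)
noncomputable def Ptab_s_950_958 (c : Nat) : Nat := @Bool.rec (fun _ => Nat) (Ptab_s_950_954 c) (Ptab_s_954_958 c) (Nat.ble 954 c)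
noncomputable def Ptab_s_942_958 (c : Nat) : Nat := @Bool.rec (fun _ => Nat) (Ptab_s_942_950 c) (Ptab_s_950_958 c) (Nat.ble 950 c)
noncomputable def Ptab_s_926_958 (c : Nat) : Nat := @Bool.rec (fun _ => Nat) (Ptab_s_926_942 c) (Ptab_s_942_958 c) (Nat.ble 942 c)
noncomputable def Ptab_s_894_958 (c : Nat) : Nat := @Bool.rec (fun _ => Nat) (Ptab_s_894_926 c) (Ptab_s_926_958 c) (Nat.ble 926 c)
noncomputable def Ptab_s_958_960 (c : Nat) : Nat := @Bool.rec (fun _ => Nat) (Ptab_958) (Ptab_959) (Nat.ble 959 c)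
noncomputable def Ptab_s_960_962 (c : Nat) : Nat := @Bool.rec (fun _ => Nat) (Ptab_960) (Ptab_961) (Nat.ble 961 c)
noncomputable def Ptab_s_958_962 (c : Nat) : Nat := @Bool.rec (fun _ => Nat) (Ptab_s_958_960 c) (Ptab_s_960_962 c) (Nat.ble 960 c)
noncomputable def Ptab_s_962_964 (c : Nat) : Nat := @Bool.rec (fun _ => Nat) (Ptab_962) (Ptab_963) (Nat.ble 963 c)
noncomputable def Ptab_s_964_966 (c : Nat) : Nat := @Bool.rec (fun _ => Nat) (Ptab_964) (Ptab_965) (Nat.ble 965 c)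
noncomputable def Ptab_s_962_966 (c : Nat) : Nat := @Bool.rec (fun _ => Nat) (Ptab_s_962_964 c) (Ptab_s_964_966 c) (Nat.ble 964 c)
noncomputable def Ptab_s_958_966 (c : Nat) : Nat := @Bool.rec (fun _ => Nat) (Ptab_s_958_962 c) (Ptab_s_962_966 c) (Nat.ble 962 c)
noncomputable def Ptab_s_966_968 (c : Nat) : Nat := @Bool.rec (fun _ => Nat) (Ptab_966) (Ptab_967) (Nat.ble 967 c)
noncomputable def Ptab_s_968_970 (c : Nat) : Nat := @Bool.rec (fun _ => Nat) (Ptab_968) (Ptab_969) (Nat.ble 969 c)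
noncomputable def Ptab_s_966_970 (c : Nat) : Nat := @Bool.rec (fun _ => Nat) (Ptab_s_966_968 c) (Ptab_s_968_970 c) (Nat.ble 968 c)
noncomputable def Ptab_s_970_972 (c : Nat) : Nat := @Bool.rec (fun _ => Nat) (Ptab_970) (Ptab_971) (Nat.ble 971 c)
noncomputable def Ptab_s_972_974 (c : Nat) : Nat := @Bool.rec (fun _ => Nat) (Ptab_972) (Ptab_973) (Nat.ble 973 c)
noncomputable def Ptab_s_970_974 (c : Nat) : Nat := @Bool.rec (fun _ => Nat) (Ptab_s_970_972 c) (Ptab_s_972_974 c) (Nat.ble 972 c)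
noncomputable def Ptab_s_966_974 (c : Nat) : Nat := @Bool.rec (fun _ => Nat) (Ptab_s_966_970 c) (Ptab_s_970_974 c) (Nat.ble 970 c)
noncomputable def Ptab_s_958_974 (c : Nat) : Nat := @Bool.rec (fun _ => Nat) (Ptab_s_958_966 c) (Ptab_s_966_974 c) (Nat.ble 966 c)
noncomputable def Ptab_s_974_976 (c : Nat) : Nat := @Bool.rec (fun _ => Nat) (Ptab_974) (Ptab_975) (Nat.ble 975 c)
noncomputable def Ptab_s_976_978 (c : Nat) : Nat := @Bool.rec (fun _ => Nat) (Ptab_976) (Ptab_977) (Nat.ble 977 c)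
noncomputable def Ptab_s_974_978 (c : Nat) : Nat := @Bool.rec (fun _ => Nat) (Ptab_s_974_976 c) (Ptab_s_976_978 c) (Nat.ble 976 c)
noncomputable def Ptab_s_978_980 (c : Nat) : Nat := @Bool.rec (fun _ => Nat) (Ptab_978) (Ptab_979) (Nat.ble 979 c)
noncomputable def Ptab_s_980_982 (c : Nat) : Nat := @Bool.rec (fun _ => Nat) (Ptab_980) (Ptab_981) (Nat.ble 981 c)
noncomputable def Ptab_s_978_982 (c : Nat) : Nat := @Bool.rec (fun _ => Nat) (Ptab_s_978_980 c) (Ptab_s_980_982 c) (Nat.ble 980 c)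
noncomputable def Ptab_s_974_982 (c : Nat) : Nat := @Bool.rec (fun _ => Nat) (Ptab_s_974_978 c) (Ptab_s_978_982 c) (Nat.ble 978 c)
noncomputable def Ptab_s_982_984 (c : Nat) : Nat := @Bool.rec (fun _ => Nat) (Ptab_982) (Ptab_983) (Nat.ble 983 c)
noncomputable def Ptab_s_984_986 (c : Nat) : Nat := @Bool.rec (fun _ => Nat) (Ptab_984) (Ptab_985) (Nat.ble 985 c)
noncomputable def Ptab_s_982_986 (c : Nat) : Nat := @Bool.rec (fun _ => Nat) (Ptab_s_982_984 c) (Ptab_s_984_986 c) (Nat.ble 984 c)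
noncomputable def Ptab_s_986_988 (c : Nat) : Nat := @Bool.rec (fun _ => Nat) (Ptab_986) (Ptab_987) (Nat.ble 987 c)
noncomputable def Ptab_s_988_990 (c : Nat) : Nat := @Bool.rec (fun _ => Nat) (Ptab_988) (Ptab_989) (Nat.ble 989 c)
noncomputable def Ptab_s_986_990 (c : Nat) : Nat := @Bool.rec (fun _ => Nat) (Ptab_s_986_988 c) (Ptab_s_988_990 c) (Nat.ble 988 c)
noncomputable def Ptab_s_982_990 (c : Nat) : Nat := @Bool.rec (fun _ => Nat) (Ptab_s_982_986 c) (Ptab_s_986_990 c) (Nat.ble 986 c)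
noncomputable def Ptab_s_974_990 (c : Nat) : Nat := @Bool.rec (fun _ => Nat) (Ptab_s_974_982 c) (Ptab_s_982_990 c) (Nat.ble 982 c)
noncomputable def Ptab_s_958_990 (c : Nat) : Nat := @Bool.rec (fun _ => Nat) (Ptab_s_958_974 c) (Ptab_s_974_990 c) (Nat.ble 974 c)
noncomputable def Ptab_s_990_992 (c : Nat) : Nat := @Bool.rec (fun _ => Nat) (Ptab_990) (Ptab_991) (Nat.ble 991 c)
noncomputable def Ptab_s_992_994 (c : Nat) : Nat := @Bool.rec (fun _ => Nat) (Ptab_992) (Ptab_993) (Nat.ble 993 c)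
noncomputable def Ptab_s_990_994 (c : Nat) : Nat := @Bool.rec (fun _ => Nat) (Ptab_s_990_992 c) (Ptab_s_992_994 c) (Nat.ble 992 c)
noncomputable def Ptab_s_994_996 (c : Nat) : Nat := @Bool.rec (fun _ => Nat) (Ptab_994) (Ptab_995) (Nat.ble 995 c)
noncomputable def Ptab_s_996_998 (c : Nat) : Nat := @Bool.rec (fun _ => Nat) (Ptab_996) (Ptab_997) (Nat.ble 997 c)
noncomputable def Ptab_s_994_998 (c : Nat) : Nat := @Bool.rec (fun _ => Nat) (Ptab_s_994_996 c) (Ptab_s_996_998 c) (Nat.ble 996 c)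
noncomputable def Ptab_s_990_998 (c : Nat) : Nat := @Bool.rec (fun _ => Nat) (Ptab_s_990_994 c) (Ptab_s_994_998 c) (Nat.ble 994 c)
noncomputable def Ptab_s_998_1000 (c : Nat) : Nat := @Bool.rec (fun _ => Nat) (Ptab_998) (Ptab_999) (Nat.ble 999 c)
noncomputable def Ptab_s_1000_1002 (c : Nat) : Nat := @Bool.rec (fun _ => Nat) (Ptab_1000) (Ptab_1001) (Nat.ble 1001 c)
noncomputable def Ptab_s_998_1002 (c : Nat) : Nat := @Bool.rec (fun _ => Nat) (Ptab_s_998_1000 c) (Ptab_s_1000_1002 c) (Nat.ble 1000 c)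
noncomputable def Ptab_s_1002_1004 (c : Nat) : Nat := @Bool.rec (fun _ => Nat) (Ptab_1002) (Ptab_1003) (Nat.ble 1003 c)
noncomputable def Ptab_s_1004_1006 (c : Nat) : Nat := @Bool.rec (fun _ => Nat) (Ptab_1004) (Ptab_1005) (Nat.ble 1005 c)
noncomputable def Ptab_s_1002_1006 (c : Nat) : Nat := @Bool.rec (fun _ => Nat) (Ptab_s_1002_1004 c) (Ptab_s_1004_1006 c) (Nat.ble 1004 c)
noncomputable def Ptab_s_998_1006 (c : Nat) : Nat := @Bool.rec (fun _ => Nat) (Ptab_s_998_1002 c) (Ptab_s_1002_1006 c) (Nat.ble 1002 c)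
noncomputable def Ptab_s_990_1006 (c : Nat) : Nat := @Bool.rec (fun _ => Nat) (Ptab_s_990_998 c) (Ptab_s_998_1006 c) (Nat.ble 998 c)
noncomputable def Ptab_s_1006_1008 (c : Nat) : Nat := @Bool.rec (fun _ => Nat) (Ptab_1006) (Ptab_1007) (Nat.ble 1007 c)
noncomputable def Ptab_s_1008_1010 (c : Nat) : Nat := @Bool.rec (fun _ => Nat) (Ptab_1008) (Ptab_1009) (Nat.ble 1009 c)
noncomputable def Ptab_s_1006_1010 (c : Nat) : Nat := @Bool.rec (fun _ => Nat) (Ptab_s_1006_1008 c) (Ptab_s_1008_1010 c) (Nat.ble 1008 c)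
noncomputable def Ptab_s_1010_1012 (c : Nat) : Nat := @Bool.rec (fun _ => Nat) (Ptab_1010) (Ptab_1011) (Nat.ble 1011 c)
noncomputable def Ptab_s_1012_1014 (c : Nat) : Nat := @Bool.rec (fun _ => Nat) (Ptab_1012) (Ptab_1013) (Nat.ble 1013 c)
noncomputable def Ptab_s_1010_1014 (c : Nat) : Nat := @Bool.rec (fun _ => Nat) (Ptab_s_1010_1012 c) (Ptab_s_1012_1014 c) (Nat.ble 1012 c)
noncomputable def Ptab_s_1006_1014 (c : Nat) : Nat := @Bool.rec (fun _ => Nat) (Ptab_s_1006_1010 c) (Ptab_s_1010_1014 c) (Nat.ble 1010 c)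
noncomputable def Ptab_s_1014_1016 (c : Nat) : Nat := @Bool.rec (fun _ => Nat) (Ptab_1014) (Ptab_1015) (Nat.ble 1015 c)
noncomputable def Ptab_s_1016_1018 (c : Nat) : Nat := @Bool.rec (fun _ => Nat) (Ptab_1016) (Ptab_1017) (Nat.ble 1017 c)
noncomputable def Ptab_s_1014_1018 (c : Nat) : Nat := @Bool.rec (fun _ => Nat) (Ptab_s_1014_1016 c) (Ptab_s_1016_1018 c) (Nat.ble 1016 c)
noncomputable def Ptab_s_1018_1020 (c : Nat) : Nat := @Bool.rec (fun _ => Nat) (Ptab_1018) (Ptab_1019) (Nat.ble 1019 c)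
noncomputable def Ptab_s_1020_1022 (c : Nat) : Nat := @Bool.rec (fun _ => Nat) (Ptab_1020) (Ptab_1021) (Nat.ble 1021 c)
noncomputable def Ptab_s_1018_1022 (c : Nat) : Nat := @Bool.rec (fun _ => Nat) (Ptab_s_1018_1020 c) (Ptab_s_1020_1022 c) (Nat.ble 1020 c)
noncomputable def Ptab_s_1014_1022 (c : Nat) : Nat := @Bool.rec (fun _ => Nat) (Ptab_s_1014_1018 c) (Ptab_s_1018_1022 c) (Nat.ble 1018 c)
noncomputable def Ptab_s_1006_1022 (c : Nat) : Nat := @Bool.rec (fun _ => Nat) (Ptab_s_1006_1014 c) (Ptab_s_1014_1022 c) (Nat.ble 1014 c)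
noncomputable def Ptab_s_990_1022 (c : Nat) : Nat := @Bool.rec (fun _ => Nat) (Ptab_s_990_1006 c) (Ptab_s_1006_1022 c) (Nat.ble 1006 c)
noncomputable def Ptab_s_958_1022 (c : Nat) : Nat := @Bool.rec (fun _ => Nat) (Ptab_s_958_990 c) (Ptab_s_990_1022 c) (Nat.ble 990 c)
noncomputable def Ptab_s_894_1022 (c : Nat) : Nat := @Bool.rec (fun _ => Nat) (Ptab_s_894_958 c) (Ptab_s_958_1022 c) (Nat.ble 958 c)
noncomputable def Ptab_s_766_1022 (c : Nat) : Nat := @Bool.rec (fun _ => Nat) (Ptab_s_766_894 c) (Ptab_s_894_1022 c) (Nat.ble 894 c)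
noncomputable def Ptab_s_511_1022 (c : Nat) : Nat := @Bool.rec (fun _ => Nat) (Ptab_s_511_766 c) (Ptab_s_766_1022 c) (Nat.ble 766 c)
noncomputable def Ptab_s_0_1022 (c : Nat) : Nat := @Bool.rec (fun _ => Nat) (Ptab_s_0_511 c) (Ptab_s_511_1022 c) (Nat.ble 511 c)
noncomputable def Ptab (i : Nat) : Nat := rdw 22 4194303 (Ptab_s_0_1022 (Nat.shiftRight i 12)) (Nat.land i 4095)
noncomputable def RRtab (i : Nat) : Nat := rdw 4 15 RRtab_0 i
noncomputable def rBtab (i : Nat) : Nat := rdw 10 1023 rBtab_0 i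
noncomputable def rLtab (i : Nat) : Nat := rdw 5 31 rLtab_0 i
noncomputable def nameTab_s_1_3 (c : Nat) : Nat := @Bool.rec (fun _ => Nat) (nameTab_1) (nameTab_2) (Nat.ble 2 c)
noncomputable def nameTab_s_0_3 (c : Nat) : Nat := @Bool.rec (fun _ => Nat) (nameTab_0) (nameTab_s_1_3 c) (Nat.ble 1 c)
noncomputable def nameTab_s_4_6 (c : Nat) : Nat := @Bool.rec (fun _ => Nat) (nameTab_4) (nameTab_5) (Nat.ble 5 c)
noncomputable def nameTab_s_3_6 (c : Nat) : Nat := @Bool.rec (fun _ => Nat) (nameTab_3) (nameTab_s_4_6 c) (Nat.ble 4 c)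
noncomputable def nameTab_s_0_6 (c : Nat) : Nat := @Bool.rec (fun _ => Nat) (nameTab_s_0_3 c) (nameTab_s_3_6 c) (Nat.ble 3 c)
noncomputable def nameTab_s_7_9 (c : Nat) : Nat := @Bool.rec (fun _ => Nat) (nameTab_7) (nameTab_8) (Nat.ble 8 c)
noncomputable def nameTab_s_6_9 (c : Nat) : Nat := @Bool.rec (fun _ => Nat) (nameTab_6) (nameTab_s_7_9 c) (Nat.ble 7 c)
noncomputable def nameTab_s_10_12 (c : Nat) : Nat := @Bool.rec (fun _ => Nat) (nameTab_10) (nameTab_11) (Nat.ble 11 c)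
noncomputable def nameTab_s_9_12 (c : Nat) : Nat := @Bool.rec (fun _ => Nat) (nameTab_9) (nameTab_s_10_12 c) (Nat.ble 10 c)
noncomputable def nameTab_s_6_12 (c : Nat) : Nat := @Bool.rec (fun _ => Nat) (nameTab_s_6_9 c) (nameTab_s_9_12 c) (Nat.ble 9 c)
noncomputable def nameTab_s_0_12 (c : Nat) : Nat := @Bool.rec (fun _ => Nat) (nameTab_s_0_6 c) (nameTab_s_6_12 c) (Nat.ble 6 c)
noncomputable def nameTab_s_13_15 (c : Nat) : Nat := @Bool.rec (fun _ => Nat) (nameTab_13) (nameTab_14) (Nat.ble 14 c)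
noncomputable def nameTab_s_12_15 (c : Nat) : Nat := @Bool.rec (fun _ => Nat) (nameTab_12) (nameTab_s_13_15 c) (Nat.ble 13 c)
noncomputable def nameTab_s_16_18 (c : Nat) : Nat := @Bool.rec (fun _ => Nat) (nameTab_16) (nameTab_17) (Nat.ble 17 c)
noncomputable def nameTab_s_15_18 (c : Nat) : Nat := @Bool.rec (fun _ => Nat) (nameTab_15) (nameTab_s_16_18 c) (Nat.ble 16 c)
noncomputable def nameTab_s_12_18 (c : Nat) : Nat := @Bool.rec (fun _ => Nat) (nameTab_s_12_15 c) (nameTab_s_15_18 c) (Nat.ble 15 c)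
noncomputable def nameTab_s_19_21 (c : Nat) : Nat := @Bool.rec (fun _ => Nat) (nameTab_19) (nameTab_20) (Nat.ble 20 c)
noncomputable def nameTab_s_18_21 (c : Nat) : Nat := @Bool.rec (fun _ => Nat) (nameTab_18) (nameTab_s_19_21 c) (Nat.ble 19 c)
noncomputable def nameTab_s_22_24 (c : Nat) : Nat := @Bool.rec (fun _ => Nat) (nameTab_22) (nameTab_23) (Nat.ble 23 c)
noncomputable def nameTab_s_21_24 (c : Nat) : Nat := @Bool.rec (fun _ => Nat) (nameTab_21) (nameTab_s_22_24 c) (Nat.ble 22 c)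
noncomputable def nameTab_s_18_24 (c : Nat) : Nat := @Bool.rec (fun _ => Nat) (nameTab_s_18_21 c) (nameTab_s_21_24 c) (Nat.ble 21 c)
noncomputable def nameTab_s_12_24 (c : Nat) : Nat := @Bool.rec (fun _ => Nat) (nameTab_s_12_18 c) (nameTab_s_18_24 c) (Nat.ble 18 c)
noncomputable def nameTab_s_0_24 (c : Nat) : Nat := @Bool.rec (fun _ => Nat) (nameTab_s_0_12 c) (nameTab_s_12_24 c) (Nat.ble 12 c)
noncomputable def nameTab (i : Nat) : Nat := rdw 19 524287 (nameTab_s_0_24 (Nat.shiftRight i 12)) (Nat.land i 4095)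
noncomputable def col0_s_1_3 (c : Nat) : Nat := @Bool.rec (fun _ => Nat) (col0_1) (col0_2) (Nat.ble 2 c)
noncomputable def col0_s_0_3 (c : Nat) : Nat := @Bool.rec (fun _ => Nat) (col0_0) (col0_s_1_3 c) (Nat.ble 1 c)
noncomputable def col0_s_4_6 (c : Nat) : Nat := @Bool.rec (fun _ => Nat) (col0_4) (col0_5) (Nat.ble 5 c)
noncomputable def col0_s_3_6 (c : Nat) : Nat := @Bool.rec (fun _ => Nat) (col0_3) (col0_s_4_6 c) (Nat.ble 4 c)
noncomputable def col0_s_0_6 (c : Nat) : Nat := @Bool.rec (fun _ => Nat) (col0_s_0_3 c) (col0_s_3_6 c) (Nat.ble 3 c)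
noncomputable def col0_s_7_9 (c : Nat) : Nat := @Bool.rec (fun _ => Nat) (col0_7) (col0_8) (Nat.ble 8 c)
noncomputable def col0_s_6_9 (c : Nat) : Nat := @Bool.rec (fun _ => Nat) (col0_6) (col0_s_7_9 c) (Nat.ble 7 c)
noncomputable def col0_s_10_12 (c : Nat) : Nat := @Bool.rec (fun _ => Nat) (col0_10) (col0_11) (Nat.ble 11 c)
noncomputable def col0_s_9_12 (c : Nat) : Nat := @Bool.rec (fun _ => Nat) (col0_9) (col0_s_10_12 c) (Nat.ble 10 c)
noncomputable def col0_s_6_12 (c : Nat) : Nat := @Bool.rec (fun _ => Nat) (col0_s_6_9 c) (col0_s_9_12 c) (Nat.ble 9 c)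
noncomputable def col0_s_0_12 (c : Nat) : Nat := @Bool.rec (fun _ => Nat) (col0_s_0_6 c) (col0_s_6_12 c) (Nat.ble 6 c)
noncomputable def col0_s_13_15 (c : Nat) : Nat := @Bool.rec (fun _ => Nat) (col0_13) (col0_14) (Nat.ble 14 c)
noncomputable def col0_s_12_15 (c : Nat) : Nat := @Bool.rec (fun _ => Nat) (col0_12) (col0_s_13_15 c) (Nat.ble 13 c)
noncomputable def col0_s_16_18 (c : Nat) : Nat := @Bool.rec (fun _ => Nat) (col0_16) (col0_17) (Nat.ble 17 c)
noncomputable def col0_s_15_18 (c : Nat) : Nat := @Bool.rec (fun _ => Nat) (col0_15) (col0_s_16_18 c) (Nat.ble 16 c)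
noncomputable def col0_s_12_18 (c : Nat) : Nat := @Bool.rec (fun _ => Nat) (col0_s_12_15 c) (col0_s_15_18 c) (Nat.ble 15 c)
noncomputable def col0_s_19_21 (c : Nat) : Nat := @Bool.rec (fun _ => Nat) (col0_19) (col0_20) (Nat.ble 20 c)
noncomputable def col0_s_18_21 (c : Nat) : Nat := @Bool.rec (fun _ => Nat) (col0_18) (col0_s_19_21 c) (Nat.ble 19 c)
noncomputable def col0_s_22_24 (c : Nat) : Nat := @Bool.rec (fun _ => Nat) (col0_22) (col0_23) (Nat.ble 23 c)
noncomputable def col0_s_21_24 (c : Nat) : Nat := @Bool.rec (fun _ => Nat) (col0_21) (col0_s_22_24 c) (Nat.ble 22 c)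
noncomputable def col0_s_18_24 (c : Nat) : Nat := @Bool.rec (fun _ => Nat) (col0_s_18_21 c) (col0_s_21_24 c) (Nat.ble 21 c)
noncomputable def col0_s_12_24 (c : Nat) : Nat := @Bool.rec (fun _ => Nat) (col0_s_12_18 c) (col0_s_18_24 c) (Nat.ble 18 c)
noncomputable def col0_s_0_24 (c : Nat) : Nat := @Bool.rec (fun _ => Nat) (col0_s_0_12 c) (col0_s_12_24 c) (Nat.ble 12 c)
noncomputable def col0 (i : Nat) : Nat := rdw 17 131071 (col0_s_0_24 (Nat.shiftRight i 12)) (Nat.land i 4095)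
noncomputable def col1_s_1_3 (c : Nat) : Nat := @Bool.rec (fun _ => Nat) (col1_1) (col1_2) (Nat.ble 2 c)
noncomputable def col1_s_0_3 (c : Nat) : Nat := @Bool.rec (fun _ => Nat) (col1_0) (col1_s_1_3 c) (Nat.ble 1 c)
noncomputable def col1_s_4_6 (c : Nat) : Nat := @Bool.rec (fun _ => Nat) (col1_4) (col1_5) (Nat.ble 5 c)
noncomputable def col1_s_3_6 (c : Nat) : Nat := @Bool.rec (fun _ => Nat) (col1_3) (col1_s_4_6 c) (Nat.ble 4 c)
noncomputable def col1_s_0_6 (c : Nat) : Nat := @Bool.rec (fun _ => Nat) (col1_s_0_3 c) (col1_s_3_6 c) (Nat.ble 3 c)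
noncomputable def col1_s_7_9 (c : Nat) : Nat := @Bool.rec (fun _ => Nat) (col1_7) (col1_8) (Nat.ble 8 c)
noncomputable def col1_s_6_9 (c : Nat) : Nat := @Bool.rec (fun _ => Nat) (col1_6) (col1_s_7_9 c) (Nat.ble 7 c)
noncomputable def col1_s_10_12 (c : Nat) : Nat := @Bool.rec (fun _ => Nat) (col1_10) (col1_11) (Nat.ble 11 c)
noncomputable def col1_s_9_12 (c : Nat) : Nat := @Bool.rec (fun _ => Nat) (col1_9) (col1_s_10_12 c) (Nat.ble 10 c)
noncomputable def col1_s_6_12 (c : Nat) : Nat := @Bool.rec (fun _ => Nat) (col1_s_6_9 c) (col1_s_9_12 c) (Nat.ble 9 c)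
noncomputable def col1_s_0_12 (c : Nat) : Nat := @Bool.rec (fun _ => Nat) (col1_s_0_6 c) (col1_s_6_12 c) (Nat.ble 6 c)
noncomputable def col1_s_13_15 (c : Nat) : Nat := @Bool.rec (fun _ => Nat) (col1_13) (col1_14) (Nat.ble 14 c)
noncomputable def col1_s_12_15 (c : Nat) : Nat := @Bool.rec (fun _ => Nat) (col1_12) (col1_s_13_15 c) (Nat.ble 13 c)
noncomputable def col1_s_16_18 (c : Nat) : Nat := @Bool.rec (fun _ => Nat) (col1_16) (col1_17) (Nat.ble 17 c)
noncomputable def col1_s_15_18 (c : Nat) : Nat := @Bool.rec (fun _ => Nat) (col1_15) (col1_s_16_18 c) (Nat.ble 16 c)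
noncomputable def col1_s_12_18 (c : Nat) : Nat := @Bool.rec (fun _ => Nat) (col1_s_12_15 c) (col1_s_15_18 c) (Nat.ble 15 c)
noncomputable def col1_s_19_21 (c : Nat) : Nat := @Bool.rec (fun _ => Nat) (col1_19) (col1_20) (Nat.ble 20 c)
noncomputable def col1_s_18_21 (c : Nat) : Nat := @Bool.rec (fun _ => Nat) (col1_18) (col1_s_19_21 c) (Nat.ble 19 c)
noncomputable def col1_s_22_24 (c : Nat) : Nat := @Bool.rec (fun _ => Nat) (col1_22) (col1_23) (Nat.ble 23 c)
noncomputable def col1_s_21_24 (c : Nat) : Nat := @Bool.rec (fun _ => Nat) (col1_21) (col1_s_22_24 c) (Nat.ble 22 c)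
noncomputable def col1_s_18_24 (c : Nat) : Nat := @Bool.rec (fun _ => Nat) (col1_s_18_21 c) (col1_s_21_24 c) (Nat.ble 21 c)
noncomputable def col1_s_12_24 (c : Nat) : Nat := @Bool.rec (fun _ => Nat) (col1_s_12_18 c) (col1_s_18_24 c) (Nat.ble 18 c)
noncomputable def col1_s_0_24 (c : Nat) : Nat := @Bool.rec (fun _ => Nat) (col1_s_0_12 c) (col1_s_12_24 c) (Nat.ble 12 c)
noncomputable def col1 (i : Nat) : Nat := rdw 17 131071 (col1_s_0_24 (Nat.shiftRight i 12)) (Nat.land i 4095)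
noncomputable def col2_s_1_3 (c : Nat) : Nat := @Bool.rec (fun _ => Nat) (col2_1) (col2_2) (Nat.ble 2 c)
noncomputable def col2_s_0_3 (c : Nat) : Nat := @Bool.rec (fun _ => Nat) (col2_0) (col2_s_1_3 c) (Nat.ble 1 c)
noncomputable def col2_s_4_6 (c : Nat) : Nat := @Bool.rec (fun _ => Nat) (col2_4) (col2_5) (Nat.ble 5 c)
noncomputable def col2_s_3_6 (c : Nat) : Nat := @Bool.rec (fun _ => Nat) (col2_3) (col2_s_4_6 c) (Nat.ble 4 c)
noncomputable def col2_s_0_6 (c : Nat) : Nat := @Bool.rec (fun _ => Nat) (col2_s_0_3 c) (col2_s_3_6 c) (Nat.ble 3 c)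
noncomputable def col2_s_7_9 (c : Nat) : Nat := @Bool.rec (fun _ => Nat) (col2_7) (col2_8) (Nat.ble 8 c)
noncomputable def col2_s_6_9 (c : Nat) : Nat := @Bool.rec (fun _ => Nat) (col2_6) (col2_s_7_9 c) (Nat.ble 7 c)
noncomputable def col2_s_10_12 (c : Nat) : Nat := @Bool.rec (fun _ => Nat) (col2_10) (col2_11) (Nat.ble 11 c)
noncomputable def col2_s_9_12 (c : Nat) : Nat := @Bool.rec (fun _ => Nat) (col2_9) (col2_s_10_12 c) (Nat.ble 10 c)
noncomputable def col2_s_6_12 (c : Nat) : Nat := @Bool.rec (fun _ => Nat) (col2_s_6_9 c) (col2_s_9_12 c) (Nat.ble 9 c)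
noncomputable def col2_s_0_12 (c : Nat) : Nat := @Bool.rec (fun _ => Nat) (col2_s_0_6 c) (col2_s_6_12 c) (Nat.ble 6 c)
noncomputable def col2_s_13_15 (c : Nat) : Nat := @Bool.rec (fun _ => Nat) (col2_13) (col2_14) (Nat.ble 14 c)
noncomputable def col2_s_12_15 (c : Nat) : Nat := @Bool.rec (fun _ => Nat) (col2_12) (col2_s_13_15 c) (Nat.ble 13 c)
noncomputable def col2_s_16_18 (c : Nat) : Nat := @Bool.rec (fun _ => Nat) (col2_16) (col2_17) (Nat.ble 17 c)
noncomputable def col2_s_15_18 (c : Nat) : Nat := @Bool.rec (fun _ => Nat) (col2_15) (col2_s_16_18 c) (Nat.ble 16 c)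
noncomputable def col2_s_12_18 (c : Nat) : Nat := @Bool.rec (fun _ => Nat) (col2_s_12_15 c) (col2_s_15_18 c) (Nat.ble 15 c)
noncomputable def col2_s_19_21 (c : Nat) : Nat := @Bool.rec (fun _ => Nat) (col2_19) (col2_20) (Nat.ble 20 c)
noncomputable def col2_s_18_21 (c : Nat) : Nat := @Bool.rec (fun _ => Nat) (col2_18) (col2_s_19_21 c) (Nat.ble 19 c)
noncomputable def col2_s_22_24 (c : Nat) : Nat := @Bool.rec (fun _ => Nat) (col2_22) (col2_23) (Nat.ble 23 c)
noncomputable def col2_s_21_24 (c : Nat) : Nat := @Bool.rec (fun _ => Nat) (col2_21) (col2_s_22_24 c) (Nat.ble 22 c)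
noncomputable def col2_s_18_24 (c : Nat) : Nat := @Bool.rec (fun _ => Nat) (col2_s_18_21 c) (col2_s_21_24 c) (Nat.ble 21 c)
noncomputable def col2_s_12_24 (c : Nat) : Nat := @Bool.rec (fun _ => Nat) (col2_s_12_18 c) (col2_s_18_24 c) (Nat.ble 18 c)
noncomputable def col2_s_0_24 (c : Nat) : Nat := @Bool.rec (fun _ => Nat) (col2_s_0_12 c) (col2_s_12_24 c) (Nat.ble 12 c)
noncomputable def col2 (i : Nat) : Nat := rdw 17 131071 (col2_s_0_24 (Nat.shiftRight i 12)) (Nat.land i 4095)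
noncomputable def col3_s_1_3 (c : Nat) : Nat := @Bool.rec (fun _ => Nat) (col3_1) (col3_2) (Nat.ble 2 c)
noncomputable def col3_s_0_3 (c : Nat) : Nat := @Bool.rec (fun _ => Nat) (col3_0) (col3_s_1_3 c) (Nat.ble 1 c)
noncomputable def col3_s_4_6 (c : Nat) : Nat := @Bool.rec (fun _ => Nat) (col3_4) (col3_5) (Nat.ble 5 c)
noncomputable def col3_s_3_6 (c : Nat) : Nat := @Bool.rec (fun _ => Nat) (col3_3) (col3_s_4_6 c) (Nat.ble 4 c)
noncomputable def col3_s_0_6 (c : Nat) : Nat := @Bool.rec (fun _ => Nat) (col3_s_0_3 c) (col3_s_3_6 c) (Nat.ble 3 c)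
noncomputable def col3_s_7_9 (c : Nat) : Nat := @Bool.rec (fun _ => Nat) (col3_7) (col3_8) (Nat.ble 8 c)
noncomputable def col3_s_6_9 (c : Nat) : Nat := @Bool.rec (fun _ => Nat) (col3_6) (col3_s_7_9 c) (Nat.ble 7 c)
noncomputable def col3_s_10_12 (c : Nat) : Nat := @Bool.rec (fun _ => Nat) (col3_10) (col3_11) (Nat.ble 11 c)
noncomputable def col3_s_9_12 (c : Nat) : Nat := @Bool.rec (fun _ => Nat) (col3_9) (col3_s_10_12 c) (Nat.ble 10 c)
noncomputable def col3_s_6_12 (c : Nat) : Nat := @Bool.rec (fun _ => Nat) (col3_s_6_9 c) (col3_s_9_12 c) (Nat.ble 9 c)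
noncomputable def col3_s_0_12 (c : Nat) : Nat := @Bool.rec (fun _ => Nat) (col3_s_0_6 c) (col3_s_6_12 c) (Nat.ble 6 c)
noncomputable def col3_s_13_15 (c : Nat) : Nat := @Bool.rec (fun _ => Nat) (col3_13) (col3_14) (Nat.ble 14 c)
noncomputable def col3_s_12_15 (c : Nat) : Nat := @Bool.rec (fun _ => Nat) (col3_12) (col3_s_13_15 c) (Nat.ble 13 c)
noncomputable def col3_s_16_18 (c : Nat) : Nat := @Bool.rec (fun _ => Nat) (col3_16) (col3_17) (Nat.ble 17 c)
noncomputable def col3_s_15_18 (c : Nat) : Nat := @Bool.rec (fun _ => Nat) (col3_15) (col3_s_16_18 c) (Nat.ble 16 c)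
noncomputable def col3_s_12_18 (c : Nat) : Nat := @Bool.rec (fun _ => Nat) (col3_s_12_15 c) (col3_s_15_18 c) (Nat.ble 15 c)
noncomputable def col3_s_19_21 (c : Nat) : Nat := @Bool.rec (fun _ => Nat) (col3_19) (col3_20) (Nat.ble 20 c)
noncomputable def col3_s_18_21 (c : Nat) : Nat := @Bool.rec (fun _ => Nat) (col3_18) (col3_s_19_21 c) (Nat.ble 19 c)
noncomputable def col3_s_22_24 (c : Nat) : Nat := @Bool.rec (fun _ => Nat) (col3_22) (col3_23) (Nat.ble 23 c)
noncomputable def col3_s_21_24 (c : Nat) : Nat := @Bool.rec (fun _ => Nat) (col3_21) (col3_s_22_24 c) (Nat.ble 22 c)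
noncomputable def col3_s_18_24 (c : Nat) : Nat := @Bool.rec (fun _ => Nat) (col3_s_18_21 c) (col3_s_21_24 c) (Nat.ble 21 c)
noncomputable def col3_s_12_24 (c : Nat) : Nat := @Bool.rec (fun _ => Nat) (col3_s_12_18 c) (col3_s_18_24 c) (Nat.ble 18 c)
noncomputable def col3_s_0_24 (c : Nat) : Nat := @Bool.rec (fun _ => Nat) (col3_s_0_12 c) (col3_s_12_24 c) (Nat.ble 12 c)
noncomputable def col3 (i : Nat) : Nat := rdw 17 131071 (col3_s_0_24 (Nat.shiftRight i 12)) (Nat.land i 4095)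
noncomputable def col4_s_1_3 (c : Nat) : Nat := @Bool.rec (fun _ => Nat) (col4_1) (col4_2) (Nat.ble 2 c)
noncomputable def col4_s_0_3 (c : Nat) : Nat := @Bool.rec (fun _ => Nat) (col4_0) (col4_s_1_3 c) (Nat.ble 1 c)
noncomputable def col4_s_4_6 (c : Nat) : Nat := @Bool.rec (fun _ => Nat) (col4_4) (col4_5) (Nat.ble 5 c)
noncomputable def col4_s_3_6 (c : Nat) : Nat := @Bool.rec (fun _ => Nat) (col4_3) (col4_s_4_6 c) (Nat.ble 4 c)
noncomputable def col4_s_0_6 (c : Nat) : Nat := @Bool.rec (fun _ => Nat) (col4_s_0_3 c) (col4_s_3_6 c) (Nat.ble 3 c)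
noncomputable def col4_s_7_9 (c : Nat) : Nat := @Bool.rec (fun _ => Nat) (col4_7) (col4_8) (Nat.ble 8 c)
noncomputable def col4_s_6_9 (c : Nat) : Nat := @Bool.rec (fun _ => Nat) (col4_6) (col4_s_7_9 c) (Nat.ble 7 c)
noncomputable def col4_s_10_12 (c : Nat) : Nat := @Bool.rec (fun _ => Nat) (col4_10) (col4_11) (Nat.ble 11 c)
noncomputable def col4_s_9_12 (c : Nat) : Nat := @Bool.rec (fun _ => Nat) (col4_9) (col4_s_10_12 c) (Nat.ble 10 c)
noncomputable def col4_s_6_12 (c : Nat) : Nat := @Bool.rec (fun _ => Nat) (col4_s_6_9 c) (col4_s_9_12 c) (Nat.ble 9 c)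
noncomputable def col4_s_0_12 (c : Nat) : Nat := @Bool.rec (fun _ => Nat) (col4_s_0_6 c) (col4_s_6_12 c) (Nat.ble 6 c)
noncomputable def col4_s_13_15 (c : Nat) : Nat := @Bool.rec (fun _ => Nat) (col4_13) (col4_14) (Nat.ble 14 c)
noncomputable def col4_s_12_15 (c : Nat) : Nat := @Bool.rec (fun _ => Nat) (col4_12) (col4_s_13_15 c) (Nat.ble 13 c)
noncomputable def col4_s_16_18 (c : Nat) : Nat := @Bool.rec (fun _ => Nat) (col4_16) (col4_17) (Nat.ble 17 c)
noncomputable def col4_s_15_18 (c : Nat) : Nat := @Bool.rec (fun _ => Nat) (col4_15) (col4_s_16_18 c) (Nat.ble 16 c)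
noncomputable def col4_s_12_18 (c : Nat) : Nat := @Bool.rec (fun _ => Nat) (col4_s_12_15 c) (col4_s_15_18 c) (Nat.ble 15 c)
noncomputable def col4_s_19_21 (c : Nat) : Nat := @Bool.rec (fun _ => Nat) (col4_19) (col4_20) (Nat.ble 20 c)
noncomputable def col4_s_18_21 (c : Nat) : Nat := @Bool.rec (fun _ => Nat) (col4_18) (col4_s_19_21 c) (Nat.ble 19 c)
noncomputable def col4_s_22_24 (c : Nat) : Nat := @Bool.rec (fun _ => Nat) (col4_22) (col4_23) (Nat.ble 23 c)
noncomputable def col4_s_21_24 (c : Nat) : Nat := @Bool.rec (fun _ => Nat) (col4_21) (col4_s_22_24 c) (Nat.ble 22 c)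
noncomputable def col4_s_18_24 (c : Nat) : Nat := @Bool.rec (fun _ => Nat) (col4_s_18_21 c) (col4_s_21_24 c) (Nat.ble 21 c)
noncomputable def col4_s_12_24 (c : Nat) : Nat := @Bool.rec (fun _ => Nat) (col4_s_12_18 c) (col4_s_18_24 c) (Nat.ble 18 c)
noncomputable def col4_s_0_24 (c : Nat) : Nat := @Bool.rec (fun _ => Nat) (col4_s_0_12 c) (col4_s_12_24 c) (Nat.ble 12 c)
noncomputable def col4 (i : Nat) : Nat := rdw 17 131071 (col4_s_0_24 (Nat.shiftRight i 12)) (Nat.land i 4095)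
noncomputable def col5_s_1_3 (c : Nat) : Nat := @Bool.rec (fun _ => Nat) (col5_1) (col5_2) (Nat.ble 2 c)
noncomputable def col5_s_0_3 (c : Nat) : Nat := @Bool.rec (fun _ => Nat) (col5_0) (col5_s_1_3 c) (Nat.ble 1 c)
noncomputable def col5_s_4_6 (c : Nat) : Nat := @Bool.rec (fun _ => Nat) (col5_4) (col5_5) (Nat.ble 5 c)
noncomputable def col5_s_3_6 (c : Nat) : Nat := @Bool.rec (fun _ => Nat) (col5_3) (col5_s_4_6 c) (Nat.ble 4 c)
noncomputable def col5_s_0_6 (c : Nat) : Nat := @Bool.rec (fun _ => Nat) (col5_s_0_3 c) (col5_s_3_6 c) (Nat.ble 3 c)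
noncomputable def col5_s_7_9 (c : Nat) : Nat := @Bool.rec (fun _ => Nat) (col5_7) (col5_8) (Nat.ble 8 c)
noncomputable def col5_s_6_9 (c : Nat) : Nat := @Bool.rec (fun _ => Nat) (col5_6) (col5_s_7_9 c) (Nat.ble 7 c)
noncomputable def col5_s_10_12 (c : Nat) : Nat := @Bool.rec (fun _ => Nat) (col5_10) (col5_11) (Nat.ble 11 c)
noncomputable def col5_s_9_12 (c : Nat) : Nat := @Bool.rec (fun _ => Nat) (col5_9) (col5_s_10_12 c) (Nat.ble 10 c)
noncomputable def col5_s_6_12 (c : Nat) : Nat := @Bool.rec (fun _ => Nat) (col5_s_6_9 c) (col5_s_9_12 c) (Nat.ble 9 c)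
noncomputable def col5_s_0_12 (c : Nat) : Nat := @Bool.rec (fun _ => Nat) (col5_s_0_6 c) (col5_s_6_12 c) (Nat.ble 6 c)
noncomputable def col5_s_13_15 (c : Nat) : Nat := @Bool.rec (fun _ => Nat) (col5_13) (col5_14) (Nat.ble 14 c)
noncomputable def col5_s_12_15 (c : Nat) : Nat := @Bool.rec (fun _ => Nat) (col5_12) (col5_s_13_15 c) (Nat.ble 13 c)
noncomputable def col5_s_16_18 (c : Nat) : Nat := @Bool.rec (fun _ => Nat) (col5_16) (col5_17) (Nat.ble 17 c)
noncomputable def col5_s_15_18 (c : Nat) : Nat := @Bool.rec (fun _ => Nat) (col5_15) (col5_s_16_18 c) (Nat.ble 16 c)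
noncomputable def col5_s_12_18 (c : Nat) : Nat := @Bool.rec (fun _ => Nat) (col5_s_12_15 c) (col5_s_15_18 c) (Nat.ble 15 c)
noncomputable def col5_s_19_21 (c : Nat) : Nat := @Bool.rec (fun _ => Nat) (col5_19) (col5_20) (Nat.ble 20 c)
noncomputable def col5_s_18_21 (c : Nat) : Nat := @Bool.rec (fun _ => Nat) (col5_18) (col5_s_19_21 c) (Nat.ble 19 c)
noncomputable def col5_s_22_24 (c : Nat) : Nat := @Bool.rec (fun _ => Nat) (col5_22) (col5_23) (Nat.ble 23 c)
noncomputable def col5_s_21_24 (c : Nat) : Nat := @Bool.rec (fun _ => Nat) (col5_21) (col5_s_22_24 c) (Nat.ble 22 c)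
noncomputable def col5_s_18_24 (c : Nat) : Nat := @Bool.rec (fun _ => Nat) (col5_s_18_21 c) (col5_s_21_24 c) (Nat.ble 21 c)
noncomputable def col5_s_12_24 (c : Nat) : Nat := @Bool.rec (fun _ => Nat) (col5_s_12_18 c) (col5_s_18_24 c) (Nat.ble 18 c)
noncomputable def col5_s_0_24 (c : Nat) : Nat := @Bool.rec (fun _ => Nat) (col5_s_0_12 c) (col5_s_12_24 c) (Nat.ble 12 c)
noncomputable def col5 (i : Nat) : Nat := rdw 17 131071 (col5_s_0_24 (Nat.shiftRight i 12)) (Nat.land i 4095)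
noncomputable def col6_s_1_3 (c : Nat) : Nat := @Bool.rec (fun _ => Nat) (col6_1) (col6_2) (Nat.ble 2 c)
noncomputable def col6_s_0_3 (c : Nat) : Nat := @Bool.rec (fun _ => Nat) (col6_0) (col6_s_1_3 c) (Nat.ble 1 c)
noncomputable def col6_s_4_6 (c : Nat) : Nat := @Bool.rec (fun _ => Nat) (col6_4) (col6_5) (Nat.ble 5 c)
noncomputable def col6_s_3_6 (c : Nat) : Nat := @Bool.rec (fun _ => Nat) (col6_3) (col6_s_4_6 c) (Nat.ble 4 c)
noncomputable def col6_s_0_6 (c : Nat) : Nat := @Bool.rec (fun _ => Nat) (col6_s_0_3 c) (col6_s_3_6 c) (Nat.ble 3 c)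
noncomputable def col6_s_7_9 (c : Nat) : Nat := @Bool.rec (fun _ => Nat) (col6_7) (col6_8) (Nat.ble 8 c)
noncomputable def col6_s_6_9 (c : Nat) : Nat := @Bool.rec (fun _ => Nat) (col6_6) (col6_s_7_9 c) (Nat.ble 7 c)
noncomputable def col6_s_10_12 (c : Nat) : Nat := @Bool.rec (fun _ => Nat) (col6_10) (col6_11) (Nat.ble 11 c)
noncomputable def col6_s_9_12 (c : Nat) : Nat := @Bool.rec (fun _ => Nat) (col6_9) (col6_s_10_12 c) (Nat.ble 10 c)
noncomputable def col6_s_6_12 (c : Nat) : Nat := @Bool.rec (fun _ => Nat) (col6_s_6_9 c) (col6_s_9_12 c) (Nat.ble 9 c)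
noncomputable def col6_s_0_12 (c : Nat) : Nat := @Bool.rec (fun _ => Nat) (col6_s_0_6 c) (col6_s_6_12 c) (Nat.ble 6 c)
noncomputable def col6_s_13_15 (c : Nat) : Nat := @Bool.rec (fun _ => Nat) (col6_13) (col6_14) (Nat.ble 14 c)
noncomputable def col6_s_12_15 (c : Nat) : Nat := @Bool.rec (fun _ => Nat) (col6_12) (col6_s_13_15 c) (Nat.ble 13 c)
noncomputable def col6_s_16_18 (c : Nat) : Nat := @Bool.rec (fun _ => Nat) (col6_16) (col6_17) (Nat.ble 17 c)
noncomputable def col6_s_15_18 (c : Nat) : Nat := @Bool.rec (fun _ => Nat) (col6_15) (col6_s_16_18 c) (Nat.ble 16 c)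
noncomputable def col6_s_12_18 (c : Nat) : Nat := @Bool.rec (fun _ => Nat) (col6_s_12_15 c) (col6_s_15_18 c) (Nat.ble 15 c)
noncomputable def col6_s_19_21 (c : Nat) : Nat := @Bool.rec (fun _ => Nat) (col6_19) (col6_20) (Nat.ble 20 c)
noncomputable def col6_s_18_21 (c : Nat) : Nat := @Bool.rec (fun _ => Nat) (col6_18) (col6_s_19_21 c) (Nat.ble 19 c)
noncomputable def col6_s_22_24 (c : Nat) : Nat := @Bool.rec (fun _ => Nat) (col6_22) (col6_23) (Nat.ble 23 c)
noncomputable def col6_s_21_24 (c : Nat) : Nat := @Bool.rec (fun _ => Nat) (col6_21) (col6_s_22_24 c) (Nat.ble 22 c)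
noncomputable def col6_s_18_24 (c : Nat) : Nat := @Bool.rec (fun _ => Nat) (col6_s_18_21 c) (col6_s_21_24 c) (Nat.ble 21 c)
noncomputable def col6_s_12_24 (c : Nat) : Nat := @Bool.rec (fun _ => Nat) (col6_s_12_18 c) (col6_s_18_24 c) (Nat.ble 18 c)
noncomputable def col6_s_0_24 (c : Nat) : Nat := @Bool.rec (fun _ => Nat) (col6_s_0_12 c) (col6_s_12_24 c) (Nat.ble 12 c)
noncomputable def col6 (i : Nat) : Nat := rdw 17 131071 (col6_s_0_24 (Nat.shiftRight i 12)) (Nat.land i 4095)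
noncomputable def col7_s_1_3 (c : Nat) : Nat := @Bool.rec (fun _ => Nat) (col7_1) (col7_2) (Nat.ble 2 c)
noncomputable def col7_s_0_3 (c : Nat) : Nat := @Bool.rec (fun _ => Nat) (col7_0) (col7_s_1_3 c) (Nat.ble 1 c)
noncomputable def col7_s_4_6 (c : Nat) : Nat := @Bool.rec (fun _ => Nat) (col7_4) (col7_5) (Nat.ble 5 c)
noncomputable def col7_s_3_6 (c : Nat) : Nat := @Bool.rec (fun _ => Nat) (col7_3) (col7_s_4_6 c) (Nat.ble 4 c)
noncomputable def col7_s_0_6 (c : Nat) : Nat := @Bool.rec (fun _ => Nat) (col7_s_0_3 c) (col7_s_3_6 c) (Nat.ble 3 c)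
noncomputable def col7_s_7_9 (c : Nat) : Nat := @Bool.rec (fun _ => Nat) (col7_7) (col7_8) (Nat.ble 8 c)
noncomputable def col7_s_6_9 (c : Nat) : Nat := @Bool.rec (fun _ => Nat) (col7_6) (col7_s_7_9 c) (Nat.ble 7 c)
noncomputable def col7_s_10_12 (c : Nat) : Nat := @Bool.rec (fun _ => Nat) (col7_10) (col7_11) (Nat.ble 11 c)
noncomputable def col7_s_9_12 (c : Nat) : Nat := @Bool.rec (fun _ => Nat) (col7_9) (col7_s_10_12 c) (Nat.ble 10 c)
noncomputable def col7_s_6_12 (c : Nat) : Nat := @Bool.rec (fun _ => Nat) (col7_s_6_9 c) (col7_s_9_12 c) (Nat.ble 9 c)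
noncomputable def col7_s_0_12 (c : Nat) : Nat := @Bool.rec (fun _ => Nat) (col7_s_0_6 c) (col7_s_6_12 c) (Nat.ble 6 c)
noncomputable def col7_s_13_15 (c : Nat) : Nat := @Bool.rec (fun _ => Nat) (col7_13) (col7_14) (Nat.ble 14 c)
noncomputable def col7_s_12_15 (c : Nat) : Nat := @Bool.rec (fun _ => Nat) (col7_12) (col7_s_13_15 c) (Nat.ble 13 c)
noncomputable def col7_s_16_18 (c : Nat) : Nat := @Bool.rec (fun _ => Nat) (col7_16) (col7_17) (Nat.ble 17 c)
noncomputable def col7_s_15_18 (c : Nat) : Nat := @Bool.rec (fun _ => Nat) (col7_15) (col7_s_16_18 c) (Nat.ble 16 c)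
noncomputable def col7_s_12_18 (c : Nat) : Nat := @Bool.rec (fun _ => Nat) (col7_s_12_15 c) (col7_s_15_18 c) (Nat.ble 15 c)
noncomputable def col7_s_19_21 (c : Nat) : Nat := @Bool.rec (fun _ => Nat) (col7_19) (col7_20) (Nat.ble 20 c)
noncomputable def col7_s_18_21 (c : Nat) : Nat := @Bool.rec (fun _ => Nat) (col7_18) (col7_s_19_21 c) (Nat.ble 19 c)
noncomputable def col7_s_22_24 (c : Nat) : Nat := @Bool.rec (fun _ => Nat) (col7_22) (col7_23) (Nat.ble 23 c)
noncomputable def col7_s_21_24 (c : Nat) : Nat := @Bool.rec (fun _ => Nat) (col7_21) (col7_s_22_24 c) (Nat.ble 22 c)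
noncomputable def col7_s_18_24 (c : Nat) : Nat := @Bool.rec (fun _ => Nat) (col7_s_18_21 c) (col7_s_21_24 c) (Nat.ble 21 c)
noncomputable def col7_s_12_24 (c : Nat) : Nat := @Bool.rec (fun _ => Nat) (col7_s_12_18 c) (col7_s_18_24 c) (Nat.ble 18 c)
noncomputable def col7_s_0_24 (c : Nat) : Nat := @Bool.rec (fun _ => Nat) (col7_s_0_12 c) (col7_s_12_24 c) (Nat.ble 12 c)
noncomputable def col7 (i : Nat) : Nat := rdw 17 131071 (col7_s_0_24 (Nat.shiftRight i 12)) (Nat.land i 4095)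
noncomputable def col8_s_1_3 (c : Nat) : Nat := @Bool.rec (fun _ => Nat) (col8_1) (col8_2) (Nat.ble 2 c)
noncomputable def col8_s_0_3 (c : Nat) : Nat := @Bool.rec (fun _ => Nat) (col8_0) (col8_s_1_3 c) (Nat.ble 1 c)
noncomputable def col8_s_4_6 (c : Nat) : Nat := @Bool.rec (fun _ => Nat) (col8_4) (col8_5) (Nat.ble 5 c)
noncomputable def col8_s_3_6 (c : Nat) : Nat := @Bool.rec (fun _ => Nat) (col8_3) (col8_s_4_6 c) (Nat.ble 4 c)
noncomputable def col8_s_0_6 (c : Nat) : Nat := @Bool.rec (fun _ => Nat) (col8_s_0_3 c) (col8_s_3_6 c) (Nat.ble 3 c)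
noncomputable def col8_s_7_9 (c : Nat) : Nat := @Bool.rec (fun _ => Nat) (col8_7) (col8_8) (Nat.ble 8 c)
noncomputable def col8_s_6_9 (c : Nat) : Nat := @Bool.rec (fun _ => Nat) (col8_6) (col8_s_7_9 c) (Nat.ble 7 c)
noncomputable def col8_s_10_12 (c : Nat) : Nat := @Bool.rec (fun _ => Nat) (col8_10) (col8_11) (Nat.ble 11 c)
noncomputable def col8_s_9_12 (c : Nat) : Nat := @Bool.rec (fun _ => Nat) (col8_9) (col8_s_10_12 c) (Nat.ble 10 c)
noncomputable def col8_s_6_12 (c : Nat) : Nat := @Bool.rec (fun _ => Nat) (col8_s_6_9 c) (col8_s_9_12 c) (Nat.ble 9 c)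
noncomputable def col8_s_0_12 (c : Nat) : Nat := @Bool.rec (fun _ => Nat) (col8_s_0_6 c) (col8_s_6_12 c) (Nat.ble 6 c)
noncomputable def col8_s_13_15 (c : Nat) : Nat := @Bool.rec (fun _ => Nat) (col8_13) (col8_14) (Nat.ble 14 c)
noncomputable def col8_s_12_15 (c : Nat) : Nat := @Bool.rec (fun _ => Nat) (col8_12) (col8_s_13_15 c) (Nat.ble 13 c)
noncomputable def col8_s_16_18 (c : Nat) : Nat := @Bool.rec (fun _ => Nat) (col8_16) (col8_17) (Nat.ble 17 c)
noncomputable def col8_s_15_18 (c : Nat) : Nat := @Bool.rec (fun _ => Nat) (col8_15) (col8_s_16_18 c) (Nat.ble 16 c)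
noncomputable def col8_s_12_18 (c : Nat) : Nat := @Bool.rec (fun _ => Nat) (col8_s_12_15 c) (col8_s_15_18 c) (Nat.ble 15 c)
noncomputable def col8_s_19_21 (c : Nat) : Nat := @Bool.rec (fun _ => Nat) (col8_19) (col8_20) (Nat.ble 20 c)
noncomputable def col8_s_18_21 (c : Nat) : Nat := @Bool.rec (fun _ => Nat) (col8_18) (col8_s_19_21 c) (Nat.ble 19 c)
noncomputable def col8_s_22_24 (c : Nat) : Nat := @Bool.rec (fun _ => Nat) (col8_22) (col8_23) (Nat.ble 23 c)
noncomputable def col8_s_21_24 (c : Nat) : Nat := @Bool.rec (fun _ => Nat) (col8_21) (col8_s_22_24 c) (Nat.ble 22 c)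
noncomputable def col8_s_18_24 (c : Nat) : Nat := @Bool.rec (fun _ => Nat) (col8_s_18_21 c) (col8_s_21_24 c) (Nat.ble 21 c)
noncomputable def col8_s_12_24 (c : Nat) : Nat := @Bool.rec (fun _ => Nat) (col8_s_12_18 c) (col8_s_18_24 c) (Nat.ble 18 c)
noncomputable def col8_s_0_24 (c : Nat) : Nat := @Bool.rec (fun _ => Nat) (col8_s_0_12 c) (col8_s_12_24 c) (Nat.ble 12 c)
noncomputable def col8 (i : Nat) : Nat := rdw 17 131071 (col8_s_0_24 (Nat.shiftRight i 12)) (Nat.land i 4095)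
noncomputable def col9_s_1_3 (c : Nat) : Nat := @Bool.rec (fun _ => Nat) (col9_1) (col9_2) (Nat.ble 2 c)
noncomputable def col9_s_0_3 (c : Nat) : Nat := @Bool.rec (fun _ => Nat) (col9_0) (col9_s_1_3 c) (Nat.ble 1 c)
noncomputable def col9_s_4_6 (c : Nat) : Nat := @Bool.rec (fun _ => Nat) (col9_4) (col9_5) (Nat.ble 5 c)
noncomputable def col9_s_3_6 (c : Nat) : Nat := @Bool.rec (fun _ => Nat) (col9_3) (col9_s_4_6 c) (Nat.ble 4 c)
noncomputable def col9_s_0_6 (c : Nat) : Nat := @Bool.rec (fun _ => Nat) (col9_s_0_3 c) (col9_s_3_6 c) (Nat.ble 3 c)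
noncomputable def col9_s_7_9 (c : Nat) : Nat := @Bool.rec (fun _ => Nat) (col9_7) (col9_8) (Nat.ble 8 c)
noncomputable def col9_s_6_9 (c : Nat) : Nat := @Bool.rec (fun _ => Nat) (col9_6) (col9_s_7_9 c) (Nat.ble 7 c)
noncomputable def col9_s_10_12 (c : Nat) : Nat := @Bool.rec (fun _ => Nat) (col9_10) (col9_11) (Nat.ble 11 c)
noncomputable def col9_s_9_12 (c : Nat) : Nat := @Bool.rec (fun _ => Nat) (col9_9) (col9_s_10_12 c) (Nat.ble 10 c)
noncomputable def col9_s_6_12 (c : Nat) : Nat := @Bool.rec (fun _ => Nat) (col9_s_6_9 c) (col9_s_9_12 c) (Nat.ble 9 c)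
noncomputable def col9_s_0_12 (c : Nat) : Nat := @Bool.rec (fun _ => Nat) (col9_s_0_6 c) (col9_s_6_12 c) (Nat.ble 6 c)
noncomputable def col9_s_13_15 (c : Nat) : Nat := @Bool.rec (fun _ => Nat) (col9_13) (col9_14) (Nat.ble 14 c)
noncomputable def col9_s_12_15 (c : Nat) : Nat := @Bool.rec (fun _ => Nat) (col9_12) (col9_s_13_15 c) (Nat.ble 13 c)
noncomputable def col9_s_16_18 (c : Nat) : Nat := @Bool.rec (fun _ => Nat) (col9_16) (col9_17) (Nat.ble 17 c)
noncomputable def col9_s_15_18 (c : Nat) : Nat := @Bool.rec (fun _ => Nat) (col9_15) (col9_s_16_18 c) (Nat.ble 16 c)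
noncomputable def col9_s_12_18 (c : Nat) : Nat := @Bool.rec (fun _ => Nat) (col9_s_12_15 c) (col9_s_15_18 c) (Nat.ble 15 c)
noncomputable def col9_s_19_21 (c : Nat) : Nat := @Bool.rec (fun _ => Nat) (col9_19) (col9_20) (Nat.ble 20 c)
noncomputable def col9_s_18_21 (c : Nat) : Nat := @Bool.rec (fun _ => Nat) (col9_18) (col9_s_19_21 c) (Nat.ble 19 c)
noncomputable def col9_s_22_24 (c : Nat) : Nat := @Bool.rec (fun _ => Nat) (col9_22) (col9_23) (Nat.ble 23 c)
noncomputable def col9_s_21_24 (c : Nat) : Nat := @Bool.rec (fun _ => Nat) (col9_21) (col9_s_22_24 c) (Nat.ble 22 c)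
noncomputable def col9_s_18_24 (c : Nat) : Nat := @Bool.rec (fun _ => Nat) (col9_s_18_21 c) (col9_s_21_24 c) (Nat.ble 21 c)
noncomputable def col9_s_12_24 (c : Nat) : Nat := @Bool.rec (fun _ => Nat) (col9_s_12_18 c) (col9_s_18_24 c) (Nat.ble 18 c)
noncomputable def col9_s_0_24 (c : Nat) : Nat := @Bool.rec (fun _ => Nat) (col9_s_0_12 c) (col9_s_12_24 c) (Nat.ble 12 c)
noncomputable def col9 (i : Nat) : Nat := rdw 17 131071 (col9_s_0_24 (Nat.shiftRight i 12)) (Nat.land i 4095)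
noncomputable def finTab_s_1_3 (c : Nat) : Nat := @Bool.rec (fun _ => Nat) (finTab_1) (finTab_2) (Nat.ble 2 c)
noncomputable def finTab_s_0_3 (c : Nat) : Nat := @Bool.rec (fun _ => Nat) (finTab_0) (finTab_s_1_3 c) (Nat.ble 1 c)
noncomputable def finTab_s_3_5 (c : Nat) : Nat := @Bool.rec (fun _ => Nat) (finTab_3) (finTab_4) (Nat.ble 4 c)
noncomputable def finTab_s_5_7 (c : Nat) : Nat := @Bool.rec (fun _ => Nat) (finTab_5) (finTab_6) (Nat.ble 6 c)
noncomputable def finTab_s_3_7 (c : Nat) : Nat := @Bool.rec (fun _ => Nat) (finTab_s_3_5 c) (finTab_s_5_7 c) (Nat.ble 5 c)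
noncomputable def finTab_s_0_7 (c : Nat) : Nat := @Bool.rec (fun _ => Nat) (finTab_s_0_3 c) (finTab_s_3_7 c) (Nat.ble 3 c)
noncomputable def finTab_s_8_10 (c : Nat) : Nat := @Bool.rec (fun _ => Nat) (finTab_8) (finTab_9) (Nat.ble 9 c)
noncomputable def finTab_s_7_10 (c : Nat) : Nat := @Bool.rec (fun _ => Nat) (finTab_7) (finTab_s_8_10 c) (Nat.ble 8 c)
noncomputable def finTab_s_10_12 (c : Nat) : Nat := @Bool.rec (fun _ => Nat) (finTab_10) (finTab_11) (Nat.ble 11 c)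
noncomputable def finTab_s_12_14 (c : Nat) : Nat := @Bool.rec (fun _ => Nat) (finTab_12) (finTab_13) (Nat.ble 13 c)
noncomputable def finTab_s_10_14 (c : Nat) : Nat := @Bool.rec (fun _ => Nat) (finTab_s_10_12 c) (finTab_s_12_14 c) (Nat.ble 12 c)
noncomputable def finTab_s_7_14 (c : Nat) : Nat := @Bool.rec (fun _ => Nat) (finTab_s_7_10 c) (finTab_s_10_14 c) (Nat.ble 10 c)
noncomputable def finTab_s_0_14 (c : Nat) : Nat := @Bool.rec (fun _ => Nat) (finTab_s_0_7 c) (finTab_s_7_14 c) (Nat.ble 7 c)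
noncomputable def finTab_s_15_17 (c : Nat) : Nat := @Bool.rec (fun _ => Nat) (finTab_15) (finTab_16) (Nat.ble 16 c)
noncomputable def finTab_s_14_17 (c : Nat) : Nat := @Bool.rec (fun _ => Nat) (finTab_14) (finTab_s_15_17 c) (Nat.ble 15 c)
noncomputable def finTab_s_17_19 (c : Nat) : Nat := @Bool.rec (fun _ => Nat) (finTab_17) (finTab_18) (Nat.ble 18 c)
noncomputable def finTab_s_19_21 (c : Nat) : Nat := @Bool.rec (fun _ => Nat) (finTab_19) (finTab_20) (Nat.ble 20 c)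
noncomputable def finTab_s_17_21 (c : Nat) : Nat := @Bool.rec (fun _ => Nat) (finTab_s_17_19 c) (finTab_s_19_21 c) (Nat.ble 19 c)
noncomputable def finTab_s_14_21 (c : Nat) : Nat := @Bool.rec (fun _ => Nat) (finTab_s_14_17 c) (finTab_s_17_21 c) (Nat.ble 17 c)
noncomputable def finTab_s_21_23 (c : Nat) : Nat := @Bool.rec (fun _ => Nat) (finTab_21) (finTab_22) (Nat.ble 22 c)
noncomputable def finTab_s_23_25 (c : Nat) : Nat := @Bool.rec (fun _ => Nat) (finTab_23) (finTab_24) (Nat.ble 24 c)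
noncomputable def finTab_s_21_25 (c : Nat) : Nat := @Bool.rec (fun _ => Nat) (finTab_s_21_23 c) (finTab_s_23_25 c) (Nat.ble 23 c)
noncomputable def finTab_s_25_27 (c : Nat) : Nat := @Bool.rec (fun _ => Nat) (finTab_25) (finTab_26) (Nat.ble 26 c)
noncomputable def finTab_s_27_29 (c : Nat) : Nat := @Bool.rec (fun _ => Nat) (finTab_27) (finTab_28) (Nat.ble 28 c)
noncomputable def finTab_s_25_29 (c : Nat) : Nat := @Bool.rec (fun _ => Nat) (finTab_s_25_27 c) (finTab_s_27_29 c) (Nat.ble 27 c)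
noncomputable def finTab_s_21_29 (c : Nat) : Nat := @Bool.rec (fun _ => Nat) (finTab_s_21_25 c) (finTab_s_25_29 c) (Nat.ble 25 c)
noncomputable def finTab_s_14_29 (c : Nat) : Nat := @Bool.rec (fun _ => Nat) (finTab_s_14_21 c) (finTab_s_21_29 c) (Nat.ble 21 c)
noncomputable def finTab_s_0_29 (c : Nat) : Nat := @Bool.rec (fun _ => Nat) (finTab_s_0_14 c) (finTab_s_14_29 c) (Nat.ble 14 c)
noncomputable def finTab_s_30_32 (c : Nat) : Nat := @Bool.rec (fun _ => Nat) (finTab_30) (finTab_31) (Nat.ble 31 c)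
noncomputable def finTab_s_29_32 (c : Nat) : Nat := @Bool.rec (fun _ => Nat) (finTab_29) (finTab_s_30_32 c) (Nat.ble 30 c)
noncomputable def finTab_s_32_34 (c : Nat) : Nat := @Bool.rec (fun _ => Nat) (finTab_32) (finTab_33) (Nat.ble 33 c)
noncomputable def finTab_s_34_36 (c : Nat) : Nat := @Bool.rec (fun _ => Nat) (finTab_34) (finTab_35) (Nat.ble 35 c)
noncomputable def finTab_s_32_36 (c : Nat) : Nat := @Bool.rec (fun _ => Nat) (finTab_s_32_34 c) (finTab_s_34_36 c) (Nat.ble 34 c)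
noncomputable def finTab_s_29_36 (c : Nat) : Nat := @Bool.rec (fun _ => Nat) (finTab_s_29_32 c) (finTab_s_32_36 c) (Nat.ble 32 c)
noncomputable def finTab_s_36_38 (c : Nat) : Nat := @Bool.rec (fun _ => Nat) (finTab_36) (finTab_37) (Nat.ble 37 c)
noncomputable def finTab_s_38_40 (c : Nat) : Nat := @Bool.rec (fun _ => Nat) (finTab_38) (finTab_39) (Nat.ble 39 c)
noncomputable def finTab_s_36_40 (c : Nat) : Nat := @Bool.rec (fun _ => Nat) (finTab_s_36_38 c) (finTab_s_38_40 c) (Nat.ble 38 c)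
noncomputable def finTab_s_40_42 (c : Nat) : Nat := @Bool.rec (fun _ => Nat) (finTab_40) (finTab_41) (Nat.ble 41 c)
noncomputable def finTab_s_42_44 (c : Nat) : Nat := @Bool.rec (fun _ => Nat) (finTab_42) (finTab_43) (Nat.ble 43 c)
noncomputable def finTab_s_40_44 (c : Nat) : Nat := @Bool.rec (fun _ => Nat) (finTab_s_40_42 c) (finTab_s_42_44 c) (Nat.ble 42 c)
noncomputable def finTab_s_36_44 (c : Nat) : Nat := @Bool.rec (fun _ => Nat) (finTab_s_36_40 c) (finTab_s_40_44 c) (Nat.ble 40 c)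
noncomputable def finTab_s_29_44 (c : Nat) : Nat := @Bool.rec (fun _ => Nat) (finTab_s_29_36 c) (finTab_s_36_44 c) (Nat.ble 36 c)
noncomputable def finTab_s_45_47 (c : Nat) : Nat := @Bool.rec (fun _ => Nat) (finTab_45) (finTab_46) (Nat.ble 46 c)
noncomputable def finTab_s_44_47 (c : Nat) : Nat := @Bool.rec (fun _ => Nat) (finTab_44) (finTab_s_45_47 c) (Nat.ble 45 c)
noncomputable def finTab_s_47_49 (c : Nat) : Nat := @Bool.rec (fun _ => Nat) (finTab_47) (finTab_48) (Nat.ble 48 c)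
noncomputable def finTab_s_49_51 (c : Nat) : Nat := @Bool.rec (fun _ => Nat) (finTab_49) (finTab_50) (Nat.ble 50 c)
noncomputable def finTab_s_47_51 (c : Nat) : Nat := @Bool.rec (fun _ => Nat) (finTab_s_47_49 c) (finTab_s_49_51 c) (Nat.ble 49 c)
noncomputable def finTab_s_44_51 (c : Nat) : Nat := @Bool.rec (fun _ => Nat) (finTab_s_44_47 c) (finTab_s_47_51 c) (Nat.ble 47 c)
noncomputable def finTab_s_51_53 (c : Nat) : Nat := @Bool.rec (fun _ => Nat) (finTab_51) (finTab_52) (Nat.ble 52 c)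
noncomputable def finTab_s_53_55 (c : Nat) : Nat := @Bool.rec (fun _ => Nat) (finTab_53) (finTab_54) (Nat.ble 54 c)
noncomputable def finTab_s_51_55 (c : Nat) : Nat := @Bool.rec (fun _ => Nat) (finTab_s_51_53 c) (finTab_s_53_55 c) (Nat.ble 53 c)
noncomputable def finTab_s_55_57 (c : Nat) : Nat := @Bool.rec (fun _ => Nat) (finTab_55) (finTab_56) (Nat.ble 56 c)
noncomputable def finTab_s_57_59 (c : Nat) : Nat := @Bool.rec (fun _ => Nat) (finTab_57) (finTab_58) (Nat.ble 58 c)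
noncomputable def finTab_s_55_59 (c : Nat) : Nat := @Bool.rec (fun _ => Nat) (finTab_s_55_57 c) (finTab_s_57_59 c) (Nat.ble 57 c)
noncomputable def finTab_s_51_59 (c : Nat) : Nat := @Bool.rec (fun _ => Nat) (finTab_s_51_55 c) (finTab_s_55_59 c) (Nat.ble 55 c)
noncomputable def finTab_s_44_59 (c : Nat) : Nat := @Bool.rec (fun _ => Nat) (finTab_s_44_51 c) (finTab_s_51_59 c) (Nat.ble 51 c)
noncomputable def finTab_s_29_59 (c : Nat) : Nat := @Bool.rec (fun _ => Nat) (finTab_s_29_44 c) (finTab_s_44_59 c) (Nat.ble 44 c)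
noncomputable def finTab_s_0_59 (c : Nat) : Nat := @Bool.rec (fun _ => Nat) (finTab_s_0_29 c) (finTab_s_29_59 c) (Nat.ble 29 c)
noncomputable def finTab_s_60_62 (c : Nat) : Nat := @Bool.rec (fun _ => Nat) (finTab_60) (finTab_61) (Nat.ble 61 c)
noncomputable def finTab_s_59_62 (c : Nat) : Nat := @Bool.rec (fun _ => Nat) (finTab_59) (finTab_s_60_62 c) (Nat.ble 60 c)
noncomputable def finTab_s_62_64 (c : Nat) : Nat := @Bool.rec (fun _ => Nat) (finTab_62) (finTab_63) (Nat.ble 63 c)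
noncomputable def finTab_s_64_66 (c : Nat) : Nat := @Bool.rec (fun _ => Nat) (finTab_64) (finTab_65) (Nat.ble 65 c)
noncomputable def finTab_s_62_66 (c : Nat) : Nat := @Bool.rec (fun _ => Nat) (finTab_s_62_64 c) (finTab_s_64_66 c) (Nat.ble 64 c)
noncomputable def finTab_s_59_66 (c : Nat) : Nat := @Bool.rec (fun _ => Nat) (finTab_s_59_62 c) (finTab_s_62_66 c) (Nat.ble 62 c)
noncomputable def finTab_s_67_69 (c : Nat) : Nat := @Bool.rec (fun _ => Nat) (finTab_67) (finTab_68) (Nat.ble 68 c)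
noncomputable def finTab_s_66_69 (c : Nat) : Nat := @Bool.rec (fun _ => Nat) (finTab_66) (finTab_s_67_69 c) (Nat.ble 67 c)
noncomputable def finTab_s_69_71 (c : Nat) : Nat := @Bool.rec (fun _ => Nat) (finTab_69) (finTab_70) (Nat.ble 70 c)
noncomputable def finTab_s_71_73 (c : Nat) : Nat := @Bool.rec (fun _ => Nat) (finTab_71) (finTab_72) (Nat.ble 72 c)
noncomputable def finTab_s_69_73 (c : Nat) : Nat := @Bool.rec (fun _ => Nat) (finTab_s_69_71 c) (finTab_s_71_73 c) (Nat.ble 71 c)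
noncomputable def finTab_s_66_73 (c : Nat) : Nat := @Bool.rec (fun _ => Nat) (finTab_s_66_69 c) (finTab_s_69_73 c) (Nat.ble 69 c)
noncomputable def finTab_s_59_73 (c : Nat) : Nat := @Bool.rec (fun _ => Nat) (finTab_s_59_66 c) (finTab_s_66_73 c) (Nat.ble 66 c)
noncomputable def finTab_s_74_76 (c : Nat) : Nat := @Bool.rec (fun _ => Nat) (finTab_74) (finTab_75) (Nat.ble 75 c)
noncomputable def finTab_s_73_76 (c : Nat) : Nat := @Bool.rec (fun _ => Nat) (finTab_73) (finTab_s_74_76 c) (Nat.ble 74 c)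
noncomputable def finTab_s_76_78 (c : Nat) : Nat := @Bool.rec (fun _ => Nat) (finTab_76) (finTab_77) (Nat.ble 77 c)
noncomputable def finTab_s_78_80 (c : Nat) : Nat := @Bool.rec (fun _ => Nat) (finTab_78) (finTab_79) (Nat.ble 79 c)
noncomputable def finTab_s_76_80 (c : Nat) : Nat := @Bool.rec (fun _ => Nat) (finTab_s_76_78 c) (finTab_s_78_80 c) (Nat.ble 78 c)
noncomputable def finTab_s_73_80 (c : Nat) : Nat := @Bool.rec (fun _ => Nat) (finTab_s_73_76 c) (finTab_s_76_80 c) (Nat.ble 76 c)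
noncomputable def finTab_s_80_82 (c : Nat) : Nat := @Bool.rec (fun _ => Nat) (finTab_80) (finTab_81) (Nat.ble 81 c)
noncomputable def finTab_s_82_84 (c : Nat) : Nat := @Bool.rec (fun _ => Nat) (finTab_82) (finTab_83) (Nat.ble 83 c)
noncomputable def finTab_s_80_84 (c : Nat) : Nat := @Bool.rec (fun _ => Nat) (finTab_s_80_82 c) (finTab_s_82_84 c) (Nat.ble 82 c)
noncomputable def finTab_s_84_86 (c : Nat) : Nat := @Bool.rec (fun _ => Nat) (finTab_84) (finTab_85) (Nat.ble 85 c)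
noncomputable def finTab_s_86_88 (c : Nat) : Nat := @Bool.rec (fun _ => Nat) (finTab_86) (finTab_87) (Nat.ble 87 c)
noncomputable def finTab_s_84_88 (c : Nat) : Nat := @Bool.rec (fun _ => Nat) (finTab_s_84_86 c) (finTab_s_86_88 c) (Nat.ble 86 c)
noncomputable def finTab_s_80_88 (c : Nat) : Nat := @Bool.rec (fun _ => Nat) (finTab_s_80_84 c) (finTab_s_84_88 c) (Nat.ble 84 c)
noncomputable def finTab_s_73_88 (c : Nat) : Nat := @Bool.rec (fun _ => Nat) (finTab_s_73_80 c) (finTab_s_80_88 c) (Nat.ble 80 c)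
noncomputable def finTab_s_59_88 (c : Nat) : Nat := @Bool.rec (fun _ => Nat) (finTab_s_59_73 c) (finTab_s_73_88 c) (Nat.ble 73 c)
noncomputable def finTab_s_89_91 (c : Nat) : Nat := @Bool.rec (fun _ => Nat) (finTab_89) (finTab_90) (Nat.ble 90 c)
noncomputable def finTab_s_88_91 (c : Nat) : Nat := @Bool.rec (fun _ => Nat) (finTab_88) (finTab_s_89_91 c) (Nat.ble 89 c)
noncomputable def finTab_s_91_93 (c : Nat) : Nat := @Bool.rec (fun _ => Nat) (finTab_91) (finTab_92) (Nat.ble 92 c)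
noncomputable def finTab_s_93_95 (c : Nat) : Nat := @Bool.rec (fun _ => Nat) (finTab_93) (finTab_94) (Nat.ble 94 c)
noncomputable def finTab_s_91_95 (c : Nat) : Nat := @Bool.rec (fun _ => Nat) (finTab_s_91_93 c) (finTab_s_93_95 c) (Nat.ble 93 c)
noncomputable def finTab_s_88_95 (c : Nat) : Nat := @Bool.rec (fun _ => Nat) (finTab_s_88_91 c) (finTab_s_91_95 c) (Nat.ble 91 c)
noncomputable def finTab_s_95_97 (c : Nat) : Nat := @Bool.rec (fun _ => Nat) (finTab_95) (finTab_96) (Nat.ble 96 c)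
noncomputable def finTab_s_97_99 (c : Nat) : Nat := @Bool.rec (fun _ => Nat) (finTab_97) (finTab_98) (Nat.ble 98 c)
noncomputable def finTab_s_95_99 (c : Nat) : Nat := @Bool.rec (fun _ => Nat) (finTab_s_95_97 c) (finTab_s_97_99 c) (Nat.ble 97 c)
noncomputable def finTab_s_99_101 (c : Nat) : Nat := @Bool.rec (fun _ => Nat) (finTab_99) (finTab_100) (Nat.ble 100 c)
noncomputable def finTab_s_101_103 (c : Nat) : Nat := @Bool.rec (fun _ => Nat) (finTab_101) (finTab_102) (Nat.ble 102 c)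
noncomputable def finTab_s_99_103 (c : Nat) : Nat := @Bool.rec (fun _ => Nat) (finTab_s_99_101 c) (finTab_s_101_103 c) (Nat.ble 101 c)
noncomputable def finTab_s_95_103 (c : Nat) : Nat := @Bool.rec (fun _ => Nat) (finTab_s_95_99 c) (finTab_s_99_103 c) (Nat.ble 99 c)
noncomputable def finTab_s_88_103 (c : Nat) : Nat := @Bool.rec (fun _ => Nat) (finTab_s_88_95 c) (finTab_s_95_103 c) (Nat.ble 95 c)
noncomputable def finTab_s_104_106 (c : Nat) : Nat := @Bool.rec (fun _ => Nat) (finTab_104) (finTab_105) (Nat.ble 105 c)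
noncomputable def finTab_s_103_106 (c : Nat) : Nat := @Bool.rec (fun _ => Nat) (finTab_103) (finTab_s_104_106 c) (Nat.ble 104 c)
noncomputable def finTab_s_106_108 (c : Nat) : Nat := @Bool.rec (fun _ => Nat) (finTab_106) (finTab_107) (Nat.ble 107 c)
noncomputable def finTab_s_108_110 (c : Nat) : Nat := @Bool.rec (fun _ => Nat) (finTab_108) (finTab_109) (Nat.ble 109 c)
noncomputable def finTab_s_106_110 (c : Nat) : Nat := @Bool.rec (fun _ => Nat) (finTab_s_106_108 c) (finTab_s_108_110 c) (Nat.ble 108 c)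
noncomputable def finTab_s_103_110 (c : Nat) : Nat := @Bool.rec (fun _ => Nat) (finTab_s_103_106 c) (finTab_s_106_110 c) (Nat.ble 106 c)
noncomputable def finTab_s_110_112 (c : Nat) : Nat := @Bool.rec (fun _ => Nat) (finTab_110) (finTab_111) (Nat.ble 111 c)
noncomputable def finTab_s_112_114 (c : Nat) : Nat := @Bool.rec (fun _ => Nat) (finTab_112) (finTab_113) (Nat.ble 113 c)
noncomputable def finTab_s_110_114 (c : Nat) : Nat := @Bool.rec (fun _ => Nat) (finTab_s_110_112 c) (finTab_s_112_114 c) (Nat.ble 112 c)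
noncomputable def finTab_s_114_116 (c : Nat) : Nat := @Bool.rec (fun _ => Nat) (finTab_114) (finTab_115) (Nat.ble 115 c)
noncomputable def finTab_s_116_118 (c : Nat) : Nat := @Bool.rec (fun _ => Nat) (finTab_116) (finTab_117) (Nat.ble 117 c)
noncomputable def finTab_s_114_118 (c : Nat) : Nat := @Bool.rec (fun _ => Nat) (finTab_s_114_116 c) (finTab_s_116_118 c) (Nat.ble 116 c)
noncomputable def finTab_s_110_118 (c : Nat) : Nat := @Bool.rec (fun _ => Nat) (finTab_s_110_114 c) (finTab_s_114_118 c) (Nat.ble 114 c)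
noncomputable def finTab_s_103_118 (c : Nat) : Nat := @Bool.rec (fun _ => Nat) (finTab_s_103_110 c) (finTab_s_110_118 c) (Nat.ble 110 c)
noncomputable def finTab_s_88_118 (c : Nat) : Nat := @Bool.rec (fun _ => Nat) (finTab_s_88_103 c) (finTab_s_103_118 c) (Nat.ble 103 c)
noncomputable def finTab_s_59_118 (c : Nat) : Nat := @Bool.rec (fun _ => Nat) (finTab_s_59_88 c) (finTab_s_88_118 c) (Nat.ble 88 c)
noncomputable def finTab_s_0_118 (c : Nat) : Nat := @Bool.rec (fun _ => Nat) (finTab_s_0_59 c) (finTab_s_59_118 c) (Nat.ble 59 c)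
noncomputable def finTab_s_119_121 (c : Nat) : Nat := @Bool.rec (fun _ => Nat) (finTab_119) (finTab_120) (Nat.ble 120 c)
noncomputable def finTab_s_118_121 (c : Nat) : Nat := @Bool.rec (fun _ => Nat) (finTab_118) (finTab_s_119_121 c) (Nat.ble 119 c)
noncomputable def finTab_s_121_123 (c : Nat) : Nat := @Bool.rec (fun _ => Nat) (finTab_121) (finTab_122) (Nat.ble 122 c)
noncomputable def finTab_s_123_125 (c : Nat) : Nat := @Bool.rec (fun _ => Nat) (finTab_123) (finTab_124) (Nat.ble 124 c)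
noncomputable def finTab_s_121_125 (c : Nat) : Nat := @Bool.rec (fun _ => Nat) (finTab_s_121_123 c) (finTab_s_123_125 c) (Nat.ble 123 c)
noncomputable def finTab_s_118_125 (c : Nat) : Nat := @Bool.rec (fun _ => Nat) (finTab_s_118_121 c) (finTab_s_121_125 c) (Nat.ble 121 c)
noncomputable def finTab_s_126_128 (c : Nat) : Nat := @Bool.rec (fun _ => Nat) (finTab_126) (finTab_127) (Nat.ble 127 c)
noncomputable def finTab_s_125_128 (c : Nat) : Nat := @Bool.rec (fun _ => Nat) (finTab_125) (finTab_s_126_128 c) (Nat.ble 126 c)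
noncomputable def finTab_s_128_130 (c : Nat) : Nat := @Bool.rec (fun _ => Nat) (finTab_128) (finTab_129) (Nat.ble 129 c)
noncomputable def finTab_s_130_132 (c : Nat) : Nat := @Bool.rec (fun _ => Nat) (finTab_130) (finTab_131) (Nat.ble 131 c)
noncomputable def finTab_s_128_132 (c : Nat) : Nat := @Bool.rec (fun _ => Nat) (finTab_s_128_130 c) (finTab_s_130_132 c) (Nat.ble 130 c)
noncomputable def finTab_s_125_132 (c : Nat) : Nat := @Bool.rec (fun _ => Nat) (finTab_s_125_128 c) (finTab_s_128_132 c) (Nat.ble 128 c)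
noncomputable def finTab_s_118_132 (c : Nat) : Nat := @Bool.rec (fun _ => Nat) (finTab_s_118_125 c) (finTab_s_125_132 c) (Nat.ble 125 c)
noncomputable def finTab_s_133_135 (c : Nat) : Nat := @Bool.rec (fun _ => Nat) (finTab_133) (finTab_134) (Nat.ble 134 c)
noncomputable def finTab_s_132_135 (c : Nat) : Nat := @Bool.rec (fun _ => Nat) (finTab_132) (finTab_s_133_135 c) (Nat.ble 133 c)
noncomputable def finTab_s_135_137 (c : Nat) : Nat := @Bool.rec (fun _ => Nat) (finTab_135) (finTab_136) (Nat.ble 136 c)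
noncomputable def finTab_s_137_139 (c : Nat) : Nat := @Bool.rec (fun _ => Nat) (finTab_137) (finTab_138) (Nat.ble 138 c)
noncomputable def finTab_s_135_139 (c : Nat) : Nat := @Bool.rec (fun _ => Nat) (finTab_s_135_137 c) (finTab_s_137_139 c) (Nat.ble 137 c)
noncomputable def finTab_s_132_139 (c : Nat) : Nat := @Bool.rec (fun _ => Nat) (finTab_s_132_135 c) (finTab_s_135_139 c) (Nat.ble 135 c)
noncomputable def finTab_s_139_141 (c : Nat) : Nat := @Bool.rec (fun _ => Nat) (finTab_139) (finTab_140) (Nat.ble 140 c)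
noncomputable def finTab_s_141_143 (c : Nat) : Nat := @Bool.rec (fun _ => Nat) (finTab_141) (finTab_142) (Nat.ble 142 c)
noncomputable def finTab_s_139_143 (c : Nat) : Nat := @Bool.rec (fun _ => Nat) (finTab_s_139_141 c) (finTab_s_141_143 c) (Nat.ble 141 c)
noncomputable def finTab_s_143_145 (c : Nat) : Nat := @Bool.rec (fun _ => Nat) (finTab_143) (finTab_144) (Nat.ble 144 c)
noncomputable def finTab_s_145_147 (c : Nat) : Nat := @Bool.rec (fun _ => Nat) (finTab_145) (finTab_146) (Nat.ble 146 c)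
noncomputable def finTab_s_143_147 (c : Nat) : Nat := @Bool.rec (fun _ => Nat) (finTab_s_143_145 c) (finTab_s_145_147 c) (Nat.ble 145 c)
noncomputable def finTab_s_139_147 (c : Nat) : Nat := @Bool.rec (fun _ => Nat) (finTab_s_139_143 c) (finTab_s_143_147 c) (Nat.ble 143 c)
noncomputable def finTab_s_132_147 (c : Nat) : Nat := @Bool.rec (fun _ => Nat) (finTab_s_132_139 c) (finTab_s_139_147 c) (Nat.ble 139 c)
noncomputable def finTab_s_118_147 (c : Nat) : Nat := @Bool.rec (fun _ => Nat) (finTab_s_118_132 c) (finTab_s_132_147 c) (Nat.ble 132 c)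
noncomputable def finTab_s_148_150 (c : Nat) : Nat := @Bool.rec (fun _ => Nat) (finTab_148) (finTab_149) (Nat.ble 149 c)
noncomputable def finTab_s_147_150 (c : Nat) : Nat := @Bool.rec (fun _ => Nat) (finTab_147) (finTab_s_148_150 c) (Nat.ble 148 c)
noncomputable def finTab_s_150_152 (c : Nat) : Nat := @Bool.rec (fun _ => Nat) (finTab_150) (finTab_151) (Nat.ble 151 c)
noncomputable def finTab_s_152_154 (c : Nat) : Nat := @Bool.rec (fun _ => Nat) (finTab_152) (finTab_153) (Nat.ble 153 c)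
noncomputable def finTab_s_150_154 (c : Nat) : Nat := @Bool.rec (fun _ => Nat) (finTab_s_150_152 c) (finTab_s_152_154 c) (Nat.ble 152 c)
noncomputable def finTab_s_147_154 (c : Nat) : Nat := @Bool.rec (fun _ => Nat) (finTab_s_147_150 c) (finTab_s_150_154 c) (Nat.ble 150 c)
noncomputable def finTab_s_154_156 (c : Nat) : Nat := @Bool.rec (fun _ => Nat) (finTab_154) (finTab_155) (Nat.ble 155 c)
noncomputable def finTab_s_156_158 (c : Nat) : Nat := @Bool.rec (fun _ => Nat) (finTab_156) (finTab_157) (Nat.ble 157 c)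
noncomputable def finTab_s_154_158 (c : Nat) : Nat := @Bool.rec (fun _ => Nat) (finTab_s_154_156 c) (finTab_s_156_158 c) (Nat.ble 156 c)
noncomputable def finTab_s_158_160 (c : Nat) : Nat := @Bool.rec (fun _ => Nat) (finTab_158) (finTab_159) (Nat.ble 159 c)
noncomputable def finTab_s_160_162 (c : Nat) : Nat := @Bool.rec (fun _ => Nat) (finTab_160) (finTab_161) (Nat.ble 161 c)
noncomputable def finTab_s_158_162 (c : Nat) : Nat := @Bool.rec (fun _ => Nat) (finTab_s_158_160 c) (finTab_s_160_162 c) (Nat.ble 160 c)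
noncomputable def finTab_s_154_162 (c : Nat) : Nat := @Bool.rec (fun _ => Nat) (finTab_s_154_158 c) (finTab_s_158_162 c) (Nat.ble 158 c)
noncomputable def finTab_s_147_162 (c : Nat) : Nat := @Bool.rec (fun _ => Nat) (finTab_s_147_154 c) (finTab_s_154_162 c) (Nat.ble 154 c)
noncomputable def finTab_s_163_165 (c : Nat) : Nat := @Bool.rec (fun _ => Nat) (finTab_163) (finTab_164) (Nat.ble 164 c)
noncomputable def finTab_s_162_165 (c : Nat) : Nat := @Bool.rec (fun _ => Nat) (finTab_162) (finTab_s_163_165 c) (Nat.ble 163 c)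
noncomputable def finTab_s_165_167 (c : Nat) : Nat := @Bool.rec (fun _ => Nat) (finTab_165) (finTab_166) (Nat.ble 166 c)
noncomputable def finTab_s_167_169 (c : Nat) : Nat := @Bool.rec (fun _ => Nat) (finTab_167) (finTab_168) (Nat.ble 168 c)
noncomputable def finTab_s_165_169 (c : Nat) : Nat := @Bool.rec (fun _ => Nat) (finTab_s_165_167 c) (finTab_s_167_169 c) (Nat.ble 167 c)
noncomputable def finTab_s_162_169 (c : Nat) : Nat := @Bool.rec (fun _ => Nat) (finTab_s_162_165 c) (finTab_s_165_169 c) (Nat.ble 165 c)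
noncomputable def finTab_s_169_171 (c : Nat) : Nat := @Bool.rec (fun _ => Nat) (finTab_169) (finTab_170) (Nat.ble 170 c)
noncomputable def finTab_s_171_173 (c : Nat) : Nat := @Bool.rec (fun _ => Nat) (finTab_171) (finTab_172) (Nat.ble 172 c)
noncomputable def finTab_s_169_173 (c : Nat) : Nat := @Bool.rec (fun _ => Nat) (finTab_s_169_171 c) (finTab_s_171_173 c) (Nat.ble 171 c)
noncomputable def finTab_s_173_175 (c : Nat) : Nat := @Bool.rec (fun _ => Nat) (finTab_173) (finTab_174) (Nat.ble 174 c)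
noncomputable def finTab_s_175_177 (c : Nat) : Nat := @Bool.rec (fun _ => Nat) (finTab_175) (finTab_176) (Nat.ble 176 c)
noncomputable def finTab_s_173_177 (c : Nat) : Nat := @Bool.rec (fun _ => Nat) (finTab_s_173_175 c) (finTab_s_175_177 c) (Nat.ble 175 c)
noncomputable def finTab_s_169_177 (c : Nat) : Nat := @Bool.rec (fun _ => Nat) (finTab_s_169_173 c) (finTab_s_173_177 c) (Nat.ble 173 c)
noncomputable def finTab_s_162_177 (c : Nat) : Nat := @Bool.rec (fun _ => Nat) (finTab_s_162_169 c) (finTab_s_169_177 c) (Nat.ble 169 c)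
noncomputable def finTab_s_147_177 (c : Nat) : Nat := @Bool.rec (fun _ => Nat) (finTab_s_147_162 c) (finTab_s_162_177 c) (Nat.ble 162 c)
noncomputable def finTab_s_118_177 (c : Nat) : Nat := @Bool.rec (fun _ => Nat) (finTab_s_118_147 c) (finTab_s_147_177 c) (Nat.ble 147 c)
noncomputable def finTab_s_178_180 (c : Nat) : Nat := @Bool.rec (fun _ => Nat) (finTab_178) (finTab_179) (Nat.ble 179 c)
noncomputable def finTab_s_177_180 (c : Nat) : Nat := @Bool.rec (fun _ => Nat) (finTab_177) (finTab_s_178_180 c) (Nat.ble 178 c)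
noncomputable def finTab_s_180_182 (c : Nat) : Nat := @Bool.rec (fun _ => Nat) (finTab_180) (finTab_181) (Nat.ble 181 c)
noncomputable def finTab_s_182_184 (c : Nat) : Nat := @Bool.rec (fun _ => Nat) (finTab_182) (finTab_183) (Nat.ble 183 c)
noncomputable def finTab_s_180_184 (c : Nat) : Nat := @Bool.rec (fun _ => Nat) (finTab_s_180_182 c) (finTab_s_182_184 c) (Nat.ble 182 c)
noncomputable def finTab_s_177_184 (c : Nat) : Nat := @Bool.rec (fun _ => Nat) (finTab_s_177_180 c) (finTab_s_180_184 c) (Nat.ble 180 c)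
noncomputable def finTab_s_184_186 (c : Nat) : Nat := @Bool.rec (fun _ => Nat) (finTab_184) (finTab_185) (Nat.ble 185 c)
noncomputable def finTab_s_186_188 (c : Nat) : Nat := @Bool.rec (fun _ => Nat) (finTab_186) (finTab_187) (Nat.ble 187 c)
noncomputable def finTab_s_184_188 (c : Nat) : Nat := @Bool.rec (fun _ => Nat) (finTab_s_184_186 c) (finTab_s_186_188 c) (Nat.ble 186 c)
noncomputable def finTab_s_188_190 (c : Nat) : Nat := @Bool.rec (fun _ => Nat) (finTab_188) (finTab_189) (Nat.ble 189 c)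
noncomputable def finTab_s_190_192 (c : Nat) : Nat := @Bool.rec (fun _ => Nat) (finTab_190) (finTab_191) (Nat.ble 191 c)
noncomputable def finTab_s_188_192 (c : Nat) : Nat := @Bool.rec (fun _ => Nat) (finTab_s_188_190 c) (finTab_s_190_192 c) (Nat.ble 190 c)
noncomputable def finTab_s_184_192 (c : Nat) : Nat := @Bool.rec (fun _ => Nat) (finTab_s_184_188 c) (finTab_s_188_192 c) (Nat.ble 188 c)
noncomputable def finTab_s_177_192 (c : Nat) : Nat := @Bool.rec (fun _ => Nat) (finTab_s_177_184 c) (finTab_s_184_192 c) (Nat.ble 184 c)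
noncomputable def finTab_s_193_195 (c : Nat) : Nat := @Bool.rec (fun _ => Nat) (finTab_193) (finTab_194) (Nat.ble 194 c)
noncomputable def finTab_s_192_195 (c : Nat) : Nat := @Bool.rec (fun _ => Nat) (finTab_192) (finTab_s_193_195 c) (Nat.ble 193 c)
noncomputable def finTab_s_195_197 (c : Nat) : Nat := @Bool.rec (fun _ => Nat) (finTab_195) (finTab_196) (Nat.ble 196 c)
noncomputable def finTab_s_197_199 (c : Nat) : Nat := @Bool.rec (fun _ => Nat) (finTab_197) (finTab_198) (Nat.ble 198 c)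
noncomputable def finTab_s_195_199 (c : Nat) : Nat := @Bool.rec (fun _ => Nat) (finTab_s_195_197 c) (finTab_s_197_199 c) (Nat.ble 197 c)
noncomputable def finTab_s_192_199 (c : Nat) : Nat := @Bool.rec (fun _ => Nat) (finTab_s_192_195 c) (finTab_s_195_199 c) (Nat.ble 195 c)
noncomputable def finTab_s_199_201 (c : Nat) : Nat := @Bool.rec (fun _ => Nat) (finTab_199) (finTab_200) (Nat.ble 200 c)
noncomputable def finTab_s_201_203 (c : Nat) : Nat := @Bool.rec (fun _ => Nat) (finTab_201) (finTab_202) (Nat.ble 202 c)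
noncomputable def finTab_s_199_203 (c : Nat) : Nat := @Bool.rec (fun _ => Nat) (finTab_s_199_201 c) (finTab_s_201_203 c) (Nat.ble 201 c)
noncomputable def finTab_s_203_205 (c : Nat) : Nat := @Bool.rec (fun _ => Nat) (finTab_203) (finTab_204) (Nat.ble 204 c)
noncomputable def finTab_s_205_207 (c : Nat) : Nat := @Bool.rec (fun _ => Nat) (finTab_205) (finTab_206) (Nat.ble 206 c)
noncomputable def finTab_s_203_207 (c : Nat) : Nat := @Bool.rec (fun _ => Nat) (finTab_s_203_205 c) (finTab_s_205_207 c) (Nat.ble 205 c)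
noncomputable def finTab_s_199_207 (c : Nat) : Nat := @Bool.rec (fun _ => Nat) (finTab_s_199_203 c) (finTab_s_203_207 c) (Nat.ble 203 c)
noncomputable def finTab_s_192_207 (c : Nat) : Nat := @Bool.rec (fun _ => Nat) (finTab_s_192_199 c) (finTab_s_199_207 c) (Nat.ble 199 c)
noncomputable def finTab_s_177_207 (c : Nat) : Nat := @Bool.rec (fun _ => Nat) (finTab_s_177_192 c) (finTab_s_192_207 c) (Nat.ble 192 c)
noncomputable def finTab_s_208_210 (c : Nat) : Nat := @Bool.rec (fun _ => Nat) (finTab_208) (finTab_209) (Nat.ble 209 c)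
noncomputable def finTab_s_207_210 (c : Nat) : Nat := @Bool.rec (fun _ => Nat) (finTab_207) (finTab_s_208_210 c) (Nat.ble 208 c)
noncomputable def finTab_s_210_212 (c : Nat) : Nat := @Bool.rec (fun _ => Nat) (finTab_210) (finTab_211) (Nat.ble 211 c)
noncomputable def finTab_s_212_214 (c : Nat) : Nat := @Bool.rec (fun _ => Nat) (finTab_212) (finTab_213) (Nat.ble 213 c)
noncomputable def finTab_s_210_214 (c : Nat) : Nat := @Bool.rec (fun _ => Nat) (finTab_s_210_212 c) (finTab_s_212_214 c) (Nat.ble 212 c)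
noncomputable def finTab_s_207_214 (c : Nat) : Nat := @Bool.rec (fun _ => Nat) (finTab_s_207_210 c) (finTab_s_210_214 c) (Nat.ble 210 c)
noncomputable def finTab_s_214_216 (c : Nat) : Nat := @Bool.rec (fun _ => Nat) (finTab_214) (finTab_215) (Nat.ble 215 c)
noncomputable def finTab_s_216_218 (c : Nat) : Nat := @Bool.rec (fun _ => Nat) (finTab_216) (finTab_217) (Nat.ble 217 c)
noncomputable def finTab_s_214_218 (c : Nat) : Nat := @Bool.rec (fun _ => Nat) (finTab_s_214_216 c) (finTab_s_216_218 c) (Nat.ble 216 c)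
noncomputable def finTab_s_218_220 (c : Nat) : Nat := @Bool.rec (fun _ => Nat) (finTab_218) (finTab_219) (Nat.ble 219 c)
noncomputable def finTab_s_220_222 (c : Nat) : Nat := @Bool.rec (fun _ => Nat) (finTab_220) (finTab_221) (Nat.ble 221 c)
noncomputable def finTab_s_218_222 (c : Nat) : Nat := @Bool.rec (fun _ => Nat) (finTab_s_218_220 c) (finTab_s_220_222 c) (Nat.ble 220 c)
noncomputable def finTab_s_214_222 (c : Nat) : Nat := @Bool.rec (fun _ => Nat) (finTab_s_214_218 c) (finTab_s_218_222 c) (Nat.ble 218 c)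
noncomputable def finTab_s_207_222 (c : Nat) : Nat := @Bool.rec (fun _ => Nat) (finTab_s_207_214 c) (finTab_s_214_222 c) (Nat.ble 214 c)
noncomputable def finTab_s_223_225 (c : Nat) : Nat := @Bool.rec (fun _ => Nat) (finTab_223) (finTab_224) (Nat.ble 224 c)
noncomputable def finTab_s_222_225 (c : Nat) : Nat := @Bool.rec (fun _ => Nat) (finTab_222) (finTab_s_223_225 c) (Nat.ble 223 c)
noncomputable def finTab_s_225_227 (c : Nat) : Nat := @Bool.rec (fun _ => Nat) (finTab_225) (finTab_226) (Nat.ble 226 c)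
noncomputable def finTab_s_227_229 (c : Nat) : Nat := @Bool.rec (fun _ => Nat) (finTab_227) (finTab_228) (Nat.ble 228 c)
noncomputable def finTab_s_225_229 (c : Nat) : Nat := @Bool.rec (fun _ => Nat) (finTab_s_225_227 c) (finTab_s_227_229 c) (Nat.ble 227 c)
noncomputable def finTab_s_222_229 (c : Nat) : Nat := @Bool.rec (fun _ => Nat) (finTab_s_222_225 c) (finTab_s_225_229 c) (Nat.ble 225 c)
noncomputable def finTab_s_229_231 (c : Nat) : Nat := @Bool.rec (fun _ => Nat) (finTab_229) (finTab_230) (Nat.ble 230 c)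
noncomputable def finTab_s_231_233 (c : Nat) : Nat := @Bool.rec (fun _ => Nat) (finTab_231) (finTab_232) (Nat.ble 232 c)
noncomputable def finTab_s_229_233 (c : Nat) : Nat := @Bool.rec (fun _ => Nat) (finTab_s_229_231 c) (finTab_s_231_233 c) (Nat.ble 231 c)
noncomputable def finTab_s_233_235 (c : Nat) : Nat := @Bool.rec (fun _ => Nat) (finTab_233) (finTab_234) (Nat.ble 234 c)
noncomputable def finTab_s_235_237 (c : Nat) : Nat := @Bool.rec (fun _ => Nat) (finTab_235) (finTab_236) (Nat.ble 236 c)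
noncomputable def finTab_s_233_237 (c : Nat) : Nat := @Bool.rec (fun _ => Nat) (finTab_s_233_235 c) (finTab_s_235_237 c) (Nat.ble 235 c)
noncomputable def finTab_s_229_237 (c : Nat) : Nat := @Bool.rec (fun _ => Nat) (finTab_s_229_233 c) (finTab_s_233_237 c) (Nat.ble 233 c)
noncomputable def finTab_s_222_237 (c : Nat) : Nat := @Bool.rec (fun _ => Nat) (finTab_s_222_229 c) (finTab_s_229_237 c) (Nat.ble 229 c)
noncomputable def finTab_s_207_237 (c : Nat) : Nat := @Bool.rec (fun _ => Nat) (finTab_s_207_222 c) (finTab_s_222_237 c) (Nat.ble 222 c)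
noncomputable def finTab_s_177_237 (c : Nat) : Nat := @Bool.rec (fun _ => Nat) (finTab_s_177_207 c) (finTab_s_207_237 c) (Nat.ble 207 c)
noncomputable def finTab_s_118_237 (c : Nat) : Nat := @Bool.rec (fun _ => Nat) (finTab_s_118_177 c) (finTab_s_177_237 c) (Nat.ble 177 c)
noncomputable def finTab_s_0_237 (c : Nat) : Nat := @Bool.rec (fun _ => Nat) (finTab_s_0_118 c) (finTab_s_118_237 c) (Nat.ble 118 c)
noncomputable def finTab (i : Nat) : Nat := rdw 22 4194303 (finTab_s_0_237 (Nat.shiftRight i 12)) (Nat.land i 4095)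
noncomputable def clsTab_s_0_2 (c : Nat) : Nat := @Bool.rec (fun _ => Nat) (clsTab_0) (clsTab_1) (Nat.ble 1 c)
noncomputable def clsTab_s_3_5 (c : Nat) : Nat := @Bool.rec (fun _ => Nat) (clsTab_3) (clsTab_4) (Nat.ble 4 c)
noncomputable def clsTab_s_2_5 (c : Nat) : Nat := @Bool.rec (fun _ => Nat) (clsTab_2) (clsTab_s_3_5 c) (Nat.ble 3 c)
noncomputable def clsTab_s_0_5 (c : Nat) : Nat := @Bool.rec (fun _ => Nat) (clsTab_s_0_2 c) (clsTab_s_2_5 c) (Nat.ble 2 c)
noncomputable def clsTab_s_5_7 (c : Nat) : Nat := @Bool.rec (fun _ => Nat) (clsTab_5) (clsTab_6) (Nat.ble 6 c)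
noncomputable def clsTab_s_8_10 (c : Nat) : Nat := @Bool.rec (fun _ => Nat) (clsTab_8) (clsTab_9) (Nat.ble 9 c)
noncomputable def clsTab_s_7_10 (c : Nat) : Nat := @Bool.rec (fun _ => Nat) (clsTab_7) (clsTab_s_8_10 c) (Nat.ble 8 c)
noncomputable def clsTab_s_5_10 (c : Nat) : Nat := @Bool.rec (fun _ => Nat) (clsTab_s_5_7 c) (clsTab_s_7_10 c) (Nat.ble 7 c)
noncomputable def clsTab_s_0_10 (c : Nat) : Nat := @Bool.rec (fun _ => Nat) (clsTab_s_0_5 c) (clsTab_s_5_10 c) (Nat.ble 5 c)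
noncomputable def clsTab_s_10_12 (c : Nat) : Nat := @Bool.rec (fun _ => Nat) (clsTab_10) (clsTab_11) (Nat.ble 11 c)
noncomputable def clsTab_s_13_15 (c : Nat) : Nat := @Bool.rec (fun _ => Nat) (clsTab_13) (clsTab_14) (Nat.ble 14 c)
noncomputable def clsTab_s_12_15 (c : Nat) : Nat := @Bool.rec (fun _ => Nat) (clsTab_12) (clsTab_s_13_15 c) (Nat.ble 13 c)
noncomputable def clsTab_s_10_15 (c : Nat) : Nat := @Bool.rec (fun _ => Nat) (clsTab_s_10_12 c) (clsTab_s_12_15 c) (Nat.ble 12 c)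
noncomputable def clsTab_s_15_17 (c : Nat) : Nat := @Bool.rec (fun _ => Nat) (clsTab_15) (clsTab_16) (Nat.ble 16 c)
noncomputable def clsTab_s_18_20 (c : Nat) : Nat := @Bool.rec (fun _ => Nat) (clsTab_18) (clsTab_19) (Nat.ble 19 c)
noncomputable def clsTab_s_17_20 (c : Nat) : Nat := @Bool.rec (fun _ => Nat) (clsTab_17) (clsTab_s_18_20 c) (Nat.ble 18 c)
noncomputable def clsTab_s_15_20 (c : Nat) : Nat := @Bool.rec (fun _ => Nat) (clsTab_s_15_17 c) (clsTab_s_17_20 c) (Nat.ble 17 c)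
noncomputable def clsTab_s_10_20 (c : Nat) : Nat := @Bool.rec (fun _ => Nat) (clsTab_s_10_15 c) (clsTab_s_15_20 c) (Nat.ble 15 c)
noncomputable def clsTab_s_0_20 (c : Nat) : Nat := @Bool.rec (fun _ => Nat) (clsTab_s_0_10 c) (clsTab_s_10_20 c) (Nat.ble 10 c)
noncomputable def clsTab_s_20_22 (c : Nat) : Nat := @Bool.rec (fun _ => Nat) (clsTab_20) (clsTab_21) (Nat.ble 21 c)
noncomputable def clsTab_s_23_25 (c : Nat) : Nat := @Bool.rec (fun _ => Nat) (clsTab_23) (clsTab_24) (Nat.ble 24 c)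
noncomputable def clsTab_s_22_25 (c : Nat) : Nat := @Bool.rec (fun _ => Nat) (clsTab_22) (clsTab_s_23_25 c) (Nat.ble 23 c)
noncomputable def clsTab_s_20_25 (c : Nat) : Nat := @Bool.rec (fun _ => Nat) (clsTab_s_20_22 c) (clsTab_s_22_25 c) (Nat.ble 22 c)
noncomputable def clsTab_s_25_27 (c : Nat) : Nat := @Bool.rec (fun _ => Nat) (clsTab_25) (clsTab_26) (Nat.ble 26 c)
noncomputable def clsTab_s_28_30 (c : Nat) : Nat := @Bool.rec (fun _ => Nat) (clsTab_28) (clsTab_29) (Nat.ble 29 c)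
noncomputable def clsTab_s_27_30 (c : Nat) : Nat := @Bool.rec (fun _ => Nat) (clsTab_27) (clsTab_s_28_30 c) (Nat.ble 28 c)
noncomputable def clsTab_s_25_30 (c : Nat) : Nat := @Bool.rec (fun _ => Nat) (clsTab_s_25_27 c) (clsTab_s_27_30 c) (Nat.ble 27 c)
noncomputable def clsTab_s_20_30 (c : Nat) : Nat := @Bool.rec (fun _ => Nat) (clsTab_s_20_25 c) (clsTab_s_25_30 c) (Nat.ble 25 c)
noncomputable def clsTab_s_30_32 (c : Nat) : Nat := @Bool.rec (fun _ => Nat) (clsTab_30) (clsTab_31) (Nat.ble 31 c)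
noncomputable def clsTab_s_33_35 (c : Nat) : Nat := @Bool.rec (fun _ => Nat) (clsTab_33) (clsTab_34) (Nat.ble 34 c)
noncomputable def clsTab_s_32_35 (c : Nat) : Nat := @Bool.rec (fun _ => Nat) (clsTab_32) (clsTab_s_33_35 c) (Nat.ble 33 c)
noncomputable def clsTab_s_30_35 (c : Nat) : Nat := @Bool.rec (fun _ => Nat) (clsTab_s_30_32 c) (clsTab_s_32_35 c) (Nat.ble 32 c)
noncomputable def clsTab_s_35_37 (c : Nat) : Nat := @Bool.rec (fun _ => Nat) (clsTab_35) (clsTab_36) (Nat.ble 36 c)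
noncomputable def clsTab_s_38_40 (c : Nat) : Nat := @Bool.rec (fun _ => Nat) (clsTab_38) (clsTab_39) (Nat.ble 39 c)
noncomputable def clsTab_s_37_40 (c : Nat) : Nat := @Bool.rec (fun _ => Nat) (clsTab_37) (clsTab_s_38_40 c) (Nat.ble 38 c)
noncomputable def clsTab_s_35_40 (c : Nat) : Nat := @Bool.rec (fun _ => Nat) (clsTab_s_35_37 c) (clsTab_s_37_40 c) (Nat.ble 37 c)
noncomputable def clsTab_s_30_40 (c : Nat) : Nat := @Bool.rec (fun _ => Nat) (clsTab_s_30_35 c) (clsTab_s_35_40 c) (Nat.ble 35 c)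
noncomputable def clsTab_s_20_40 (c : Nat) : Nat := @Bool.rec (fun _ => Nat) (clsTab_s_20_30 c) (clsTab_s_30_40 c) (Nat.ble 30 c)
noncomputable def clsTab_s_0_40 (c : Nat) : Nat := @Bool.rec (fun _ => Nat) (clsTab_s_0_20 c) (clsTab_s_20_40 c) (Nat.ble 20 c)
noncomputable def clsTab_s_40_42 (c : Nat) : Nat := @Bool.rec (fun _ => Nat) (clsTab_40) (clsTab_41) (Nat.ble 41 c)
noncomputable def clsTab_s_43_45 (c : Nat) : Nat := @Bool.rec (fun _ => Nat) (clsTab_43) (clsTab_44) (Nat.ble 44 c)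
noncomputable def clsTab_s_42_45 (c : Nat) : Nat := @Bool.rec (fun _ => Nat) (clsTab_42) (clsTab_s_43_45 c) (Nat.ble 43 c)
noncomputable def clsTab_s_40_45 (c : Nat) : Nat := @Bool.rec (fun _ => Nat) (clsTab_s_40_42 c) (clsTab_s_42_45 c) (Nat.ble 42 c)
noncomputable def clsTab_s_45_47 (c : Nat) : Nat := @Bool.rec (fun _ => Nat) (clsTab_45) (clsTab_46) (Nat.ble 46 c)
noncomputable def clsTab_s_48_50 (c : Nat) : Nat := @Bool.rec (fun _ => Nat) (clsTab_48) (clsTab_49) (Nat.ble 49 c)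
noncomputable def clsTab_s_47_50 (c : Nat) : Nat := @Bool.rec (fun _ => Nat) (clsTab_47) (clsTab_s_48_50 c) (Nat.ble 48 c)
noncomputable def clsTab_s_45_50 (c : Nat) : Nat := @Bool.rec (fun _ => Nat) (clsTab_s_45_47 c) (clsTab_s_47_50 c) (Nat.ble 47 c)
noncomputable def clsTab_s_40_50 (c : Nat) : Nat := @Bool.rec (fun _ => Nat) (clsTab_s_40_45 c) (clsTab_s_45_50 c) (Nat.ble 45 c)
noncomputable def clsTab_s_50_52 (c : Nat) : Nat := @Bool.rec (fun _ => Nat) (clsTab_50) (clsTab_51) (Nat.ble 51 c)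
noncomputable def clsTab_s_53_55 (c : Nat) : Nat := @Bool.rec (fun _ => Nat) (clsTab_53) (clsTab_54) (Nat.ble 54 c)
noncomputable def clsTab_s_52_55 (c : Nat) : Nat := @Bool.rec (fun _ => Nat) (clsTab_52) (clsTab_s_53_55 c) (Nat.ble 53 c)
noncomputable def clsTab_s_50_55 (c : Nat) : Nat := @Bool.rec (fun _ => Nat) (clsTab_s_50_52 c) (clsTab_s_52_55 c) (Nat.ble 52 c)
noncomputable def clsTab_s_55_57 (c : Nat) : Nat := @Bool.rec (fun _ => Nat) (clsTab_55) (clsTab_56) (Nat.ble 56 c)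
noncomputable def clsTab_s_58_60 (c : Nat) : Nat := @Bool.rec (fun _ => Nat) (clsTab_58) (clsTab_59) (Nat.ble 59 c)
noncomputable def clsTab_s_57_60 (c : Nat) : Nat := @Bool.rec (fun _ => Nat) (clsTab_57) (clsTab_s_58_60 c) (Nat.ble 58 c)
noncomputable def clsTab_s_55_60 (c : Nat) : Nat := @Bool.rec (fun _ => Nat) (clsTab_s_55_57 c) (clsTab_s_57_60 c) (Nat.ble 57 c)
noncomputable def clsTab_s_50_60 (c : Nat) : Nat := @Bool.rec (fun _ => Nat) (clsTab_s_50_55 c) (clsTab_s_55_60 c) (Nat.ble 55 c)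
noncomputable def clsTab_s_40_60 (c : Nat) : Nat := @Bool.rec (fun _ => Nat) (clsTab_s_40_50 c) (clsTab_s_50_60 c) (Nat.ble 50 c)
noncomputable def clsTab_s_60_62 (c : Nat) : Nat := @Bool.rec (fun _ => Nat) (clsTab_60) (clsTab_61) (Nat.ble 61 c)
noncomputable def clsTab_s_63_65 (c : Nat) : Nat := @Bool.rec (fun _ => Nat) (clsTab_63) (clsTab_64) (Nat.ble 64 c)
noncomputable def clsTab_s_62_65 (c : Nat) : Nat := @Bool.rec (fun _ => Nat) (clsTab_62) (clsTab_s_63_65 c) (Nat.ble 63 c)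
noncomputable def clsTab_s_60_65 (c : Nat) : Nat := @Bool.rec (fun _ => Nat) (clsTab_s_60_62 c) (clsTab_s_62_65 c) (Nat.ble 62 c)
noncomputable def clsTab_s_65_67 (c : Nat) : Nat := @Bool.rec (fun _ => Nat) (clsTab_65) (clsTab_66) (Nat.ble 66 c)
noncomputable def clsTab_s_68_70 (c : Nat) : Nat := @Bool.rec (fun _ => Nat) (clsTab_68) (clsTab_69) (Nat.ble 69 c)
noncomputable def clsTab_s_67_70 (c : Nat) : Nat := @Bool.rec (fun _ => Nat) (clsTab_67) (clsTab_s_68_70 c) (Nat.ble 68 c)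
noncomputable def clsTab_s_65_70 (c : Nat) : Nat := @Bool.rec (fun _ => Nat) (clsTab_s_65_67 c) (clsTab_s_67_70 c) (Nat.ble 67 c)
noncomputable def clsTab_s_60_70 (c : Nat) : Nat := @Bool.rec (fun _ => Nat) (clsTab_s_60_65 c) (clsTab_s_65_70 c) (Nat.ble 65 c)
noncomputable def clsTab_s_70_72 (c : Nat) : Nat := @Bool.rec (fun _ => Nat) (clsTab_70) (clsTab_71) (Nat.ble 71 c)
noncomputable def clsTab_s_73_75 (c : Nat) : Nat := @Bool.rec (fun _ => Nat) (clsTab_73) (clsTab_74) (Nat.ble 74 c)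
noncomputable def clsTab_s_72_75 (c : Nat) : Nat := @Bool.rec (fun _ => Nat) (clsTab_72) (clsTab_s_73_75 c) (Nat.ble 73 c)
noncomputable def clsTab_s_70_75 (c : Nat) : Nat := @Bool.rec (fun _ => Nat) (clsTab_s_70_72 c) (clsTab_s_72_75 c) (Nat.ble 72 c)
noncomputable def clsTab_s_75_77 (c : Nat) : Nat := @Bool.rec (fun _ => Nat) (clsTab_75) (clsTab_76) (Nat.ble 76 c)
noncomputable def clsTab_s_78_80 (c : Nat) : Nat := @Bool.rec (fun _ => Nat) (clsTab_78) (clsTab_79) (Nat.ble 79 c)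
noncomputable def clsTab_s_77_80 (c : Nat) : Nat := @Bool.rec (fun _ => Nat) (clsTab_77) (clsTab_s_78_80 c) (Nat.ble 78 c)
noncomputable def clsTab_s_75_80 (c : Nat) : Nat := @Bool.rec (fun _ => Nat) (clsTab_s_75_77 c) (clsTab_s_77_80 c) (Nat.ble 77 c)
noncomputable def clsTab_s_70_80 (c : Nat) : Nat := @Bool.rec (fun _ => Nat) (clsTab_s_70_75 c) (clsTab_s_75_80 c) (Nat.ble 75 c)
noncomputable def clsTab_s_60_80 (c : Nat) : Nat := @Bool.rec (fun _ => Nat) (clsTab_s_60_70 c) (clsTab_s_70_80 c) (Nat.ble 70 c)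
noncomputable def clsTab_s_40_80 (c : Nat) : Nat := @Bool.rec (fun _ => Nat) (clsTab_s_40_60 c) (clsTab_s_60_80 c) (Nat.ble 60 c)
noncomputable def clsTab_s_0_80 (c : Nat) : Nat := @Bool.rec (fun _ => Nat) (clsTab_s_0_40 c) (clsTab_s_40_80 c) (Nat.ble 40 c)
noncomputable def clsTab (i : Nat) : Nat := rdw 17 131071 (clsTab_s_0_80 (Nat.shiftRight i 12)) (Nat.land i 4095)
noncomputable def oparTab_s_1_3 (c : Nat) : Nat := @Bool.rec (fun _ => Nat) (oparTab_1) (oparTab_2) (Nat.ble 2 c)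
noncomputable def oparTab_s_0_3 (c : Nat) : Nat := @Bool.rec (fun _ => Nat) (oparTab_0) (oparTab_s_1_3 c) (Nat.ble 1 c)
noncomputable def oparTab_s_4_6 (c : Nat) : Nat := @Bool.rec (fun _ => Nat) (oparTab_4) (oparTab_5) (Nat.ble 5 c)
noncomputable def oparTab_s_3_6 (c : Nat) : Nat := @Bool.rec (fun _ => Nat) (oparTab_3) (oparTab_s_4_6 c) (Nat.ble 4 c)
noncomputable def oparTab_s_0_6 (c : Nat) : Nat := @Bool.rec (fun _ => Nat) (oparTab_s_0_3 c) (oparTab_s_3_6 c) (Nat.ble 3 c)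
noncomputable def oparTab_s_7_9 (c : Nat) : Nat := @Bool.rec (fun _ => Nat) (oparTab_7) (oparTab_8) (Nat.ble 8 c)
noncomputable def oparTab_s_6_9 (c : Nat) : Nat := @Bool.rec (fun _ => Nat) (oparTab_6) (oparTab_s_7_9 c) (Nat.ble 7 c)
noncomputable def oparTab_s_10_12 (c : Nat) : Nat := @Bool.rec (fun _ => Nat) (oparTab_10) (oparTab_11) (Nat.ble 11 c)
noncomputable def oparTab_s_9_12 (c : Nat) : Nat := @Bool.rec (fun _ => Nat) (oparTab_9) (oparTab_s_10_12 c) (Nat.ble 10 c)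
noncomputable def oparTab_s_6_12 (c : Nat) : Nat := @Bool.rec (fun _ => Nat) (oparTab_s_6_9 c) (oparTab_s_9_12 c) (Nat.ble 9 c)
noncomputable def oparTab_s_0_12 (c : Nat) : Nat := @Bool.rec (fun _ => Nat) (oparTab_s_0_6 c) (oparTab_s_6_12 c) (Nat.ble 6 c)
noncomputable def oparTab_s_13_15 (c : Nat) : Nat := @Bool.rec (fun _ => Nat) (oparTab_13) (oparTab_14) (Nat.ble 14 c)
noncomputable def oparTab_s_12_15 (c : Nat) : Nat := @Bool.rec (fun _ => Nat) (oparTab_12) (oparTab_s_13_15 c) (Nat.ble 13 c)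
noncomputable def oparTab_s_16_18 (c : Nat) : Nat := @Bool.rec (fun _ => Nat) (oparTab_16) (oparTab_17) (Nat.ble 17 c)
noncomputable def oparTab_s_15_18 (c : Nat) : Nat := @Bool.rec (fun _ => Nat) (oparTab_15) (oparTab_s_16_18 c) (Nat.ble 16 c)
noncomputable def oparTab_s_12_18 (c : Nat) : Nat := @Bool.rec (fun _ => Nat) (oparTab_s_12_15 c) (oparTab_s_15_18 c) (Nat.ble 15 c)
noncomputable def oparTab_s_19_21 (c : Nat) : Nat := @Bool.rec (fun _ => Nat) (oparTab_19) (oparTab_20) (Nat.ble 20 c)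
noncomputable def oparTab_s_18_21 (c : Nat) : Nat := @Bool.rec (fun _ => Nat) (oparTab_18) (oparTab_s_19_21 c) (Nat.ble 19 c)
noncomputable def oparTab_s_22_24 (c : Nat) : Nat := @Bool.rec (fun _ => Nat) (oparTab_22) (oparTab_23) (Nat.ble 23 c)
noncomputable def oparTab_s_21_24 (c : Nat) : Nat := @Bool.rec (fun _ => Nat) (oparTab_21) (oparTab_s_22_24 c) (Nat.ble 22 c)
noncomputable def oparTab_s_18_24 (c : Nat) : Nat := @Bool.rec (fun _ => Nat) (oparTab_s_18_21 c) (oparTab_s_21_24 c) (Nat.ble 21 c)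
noncomputable def oparTab_s_12_24 (c : Nat) : Nat := @Bool.rec (fun _ => Nat) (oparTab_s_12_18 c) (oparTab_s_18_24 c) (Nat.ble 18 c)
noncomputable def oparTab_s_0_24 (c : Nat) : Nat := @Bool.rec (fun _ => Nat) (oparTab_s_0_12 c) (oparTab_s_12_24 c) (Nat.ble 12 c)
noncomputable def oparTab (i : Nat) : Nat := rdw 17 131071 (oparTab_s_0_24 (Nat.shiftRight i 12)) (Nat.land i 4095)
noncomputable def olabTab_s_1_3 (c : Nat) : Nat := @Bool.rec (fun _ => Nat) (olabTab_1) (olabTab_2) (Nat.ble 2 c)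
noncomputable def olabTab_s_0_3 (c : Nat) : Nat := @Bool.rec (fun _ => Nat) (olabTab_0) (olabTab_s_1_3 c) (Nat.ble 1 c)
noncomputable def olabTab (i : Nat) : Nat := rdw 2 3 (olabTab_s_0_3 (Nat.shiftRight i 15)) (Nat.land i 32767)
noncomputable def srcF (t : Nat) : Nat := Nat.land (Atab t) 524287
noncomputable def tgtF (t : Nat) : Nat := Nat.land (Nat.shiftRight (Atab t) 19) 524287
noncomputable def ltF (t : Nat) : Nat := Nat.shiftRight (Atab t) 38
noncomputable def rhoF (t : Nat) : Nat := Nat.land (Btab (Nat.sub t 326409)) 63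
noncomputable def rotF (t : Nat) : Nat := Nat.land (Nat.shiftRight (Btab (Nat.sub t 326409)) 6) 31
noncomputable def lenF (t : Nat) : Nat := Nat.land (Nat.shiftRight (Btab (Nat.sub t 326409)) 11) 63
noncomputable def offF (t : Nat) : Nat := Nat.shiftRight (Btab (Nat.sub t 326409)) 17
noncomputable def pfF (j : Nat) : Nat := Nat.shiftRight (Ptab j) 1
noncomputable def pdF (j : Nat) : Nat := Nat.land (Ptab j) 1
noncomputable def tblF (i x : Nat) : Nat := @Bool.rec (fun _ => Nat) (@Bool.rec (fun _ => Nat) (@Bool.rec (fun _ => Nat) (col0 i) (col1 i) (Nat.ble 1 x)) (@Bool.rec (fun _ => Nat) (col2 i) (@Bool.rec (fun _ => Nat) (col3 i) (col4 i) (Nat.ble 4 x)) (Nat.ble 3 x)) (Nat.ble 2 x)) (@Bool.rec (fun _ => Nat) (@Bool.rec (fun _ => Nat) (col5 i) (col6 i) (Nat.ble 6 x)) (@Bool.rec (fun _ => Nat) (col7 i) (@Bool.rec (fun _ => Nat) (col8 i) (col9 i) (Nat.ble 9 x)) (Nat.ble 8 x)) (Nat.ble 7 x)) (Nat.ble 5 x)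
noncomputable def finE (i x : Nat) : Nat := finTab (Nat.add (Nat.mul i 10) x)
noncomputable def finFF (i x : Nat) : Nat := Nat.shiftRight (finE i x) 1
noncomputable def finDF (i x : Nat) : Nat := Nat.land (finE i x) 1

noncomputable def D : Log :=
  { k := 10, inv := invE 10 PC12M22.invR, nR := 58, rBase := rBtab, rLen := rLtab, RR := RRtab,
    M := 326405, nB := 4, F := 1418764, src := srcF, lt := ltF, tgt := tgtF, rho := rhoF, rot := rotF,
    off := offF, len := lenF, pf := pfF, pd := pdF }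

noncomputable def T : Tab :=
  { N := 96768, nameOf := nameTab, tbl := tblF, finF := finFF, finD := finDF, cls := clsTab }

def subs : List (List Nat) := [
  [6],
  [2] ]

def rw0 : List Nat := [4, 4, 4, 4, 4, 4]
def rw1 : List Nat := [4, 0, 5, 1]
def rw2 : List Nat := [4, 2, 5, 3]
def rw3 : List Nat := [0, 0, 0]
def rw4 : List Nat := [2, 2, 2, 2, 2]
def rw5 : List Nat := [0, 2, 0, 2, 0, 2, 0, 2, 0, 2, 0, 2, 0, 2]
def rw6 : List Nat := [0, 3, 0, 2, 0, 3, 0, 2, 5]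
def rw7 : List Nat := [0, 3, 3, 0, 2, 2, 0, 3, 3, 0, 2, 2, 5, 5, 5]
def rw8 : List Nat := [6, 6, 6, 6, 6, 6, 6, 6, 6, 6, 6]
def rw9 : List Nat := [3, 6, 2, 7, 7, 7, 7, 7]
def rw10 : List Nat := [4, 9, 9]
def rw11 : List Nat := [8, 8, 8, 8, 8, 8, 8, 8, 8, 8, 8, 8]
def rw12 : List Nat := [8, 0, 9, 1]
def rw13 : List Nat := [8, 2, 9, 3]
def rw14 : List Nat := [8, 6, 9, 7]
def rw15 : List Nat := [0, 2, 0, 2, 1, 2, 7, 2, 1, 2, 2, 7, 9, 9, 9, 9, 9, 9]
def rw16 : List Nat := [0, 2, 7, 1, 6, 2, 0, 2, 7, 2, 2, 1, 2, 9, 9, 9, 9, 9]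
def realLit : List (List Nat) := [rw0, rw1, rw2, rw3, rw4, rw5, rw6, rw7, rw8, rw9, rw10, rw11, rw12, rw13, rw14, rw15, rw16]
noncomputable def actR0 (i : Nat) : Nat := col5 (col5 (col5 (col5 (col5 (col5 (i))))))
theorem actR0_eq (i : Nat) : actR0 i = Tab.act T D rw0 i := rfl
noncomputable def actR1 (i : Nat) : Nat := col5 (col1 (col4 (col0 (i))))
theorem actR1_eq (i : Nat) : actR1 i = Tab.act T D rw1 i := rfl
noncomputable def actR2 (i : Nat) : Nat := col5 (col3 (col4 (col2 (i))))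
theorem actR2_eq (i : Nat) : actR2 i = Tab.act T D rw2 i := rfl
noncomputable def actR3 (i : Nat) : Nat := col1 (col1 (col1 (i)))
theorem actR3_eq (i : Nat) : actR3 i = Tab.act T D rw3 i := rfl
noncomputable def actR4 (i : Nat) : Nat := col3 (col3 (col3 (col3 (col3 (i)))))
theorem actR4_eq (i : Nat) : actR4 i = Tab.act T D rw4 i := rfl
noncomputable def actR5 (i : Nat) : Nat := col1 (col3 (col1 (col3 (col1 (col3 (col1 (col3 (col1 (col3 (col1 (col3 (col1 (col3 (i))))))))))))))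
theorem actR5_eq (i : Nat) : actR5 i = Tab.act T D rw5 i := rfl
noncomputable def actR6 (i : Nat) : Nat := col1 (col2 (col1 (col3 (col1 (col2 (col1 (col3 (col4 (i)))))))))
theorem actR6_eq (i : Nat) : actR6 i = Tab.act T D rw6 i := rfl
noncomputable def actR7 (i : Nat) : Nat := col1 (col2 (col2 (col1 (col3 (col3 (col1 (col2 (col2 (col1 (col3 (col3 (col4 (col4 (col4 (i)))))))))))))))
theorem actR7_eq (i : Nat) : actR7 i = Tab.act T D rw7 i := rfl
noncomputable def actR8 (i : Nat) : Nat := col7 (col7 (col7 (col7 (col7 (col7 (col7 (col7 (col7 (col7 (col7 (i)))))))))))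
theorem actR8_eq (i : Nat) : actR8 i = Tab.act T D rw8 i := rfl
noncomputable def actR9 (i : Nat) : Nat := col2 (col7 (col3 (col6 (col6 (col6 (col6 (col6 (i))))))))
theorem actR9_eq (i : Nat) : actR9 i = Tab.act T D rw9 i := rfl
noncomputable def actR10 (i : Nat) : Nat := col5 (col8 (col8 (i)))
theorem actR10_eq (i : Nat) : actR10 i = Tab.act T D rw10 i := rfl
noncomputable def actR11 (i : Nat) : Nat := col9 (col9 (col9 (col9 (col9 (col9 (col9 (col9 (col9 (col9 (col9 (col9 (i))))))))))))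
theorem actR11_eq (i : Nat) : actR11 i = Tab.act T D rw11 i := rfl
noncomputable def actR12 (i : Nat) : Nat := col9 (col1 (col8 (col0 (i))))
theorem actR12_eq (i : Nat) : actR12 i = Tab.act T D rw12 i := rfl
noncomputable def actR13 (i : Nat) : Nat := col9 (col3 (col8 (col2 (i))))
theorem actR13_eq (i : Nat) : actR13 i = Tab.act T D rw13 i := rfl
noncomputable def actR14 (i : Nat) : Nat := col9 (col7 (col8 (col6 (i))))
theorem actR14_eq (i : Nat) : actR14 i = Tab.act T D rw14 i := rfl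
noncomputable def actR15 (i : Nat) : Nat := col1 (col3 (col1 (col3 (col0 (col3 (col6 (col3 (col0 (col3 (col3 (col6 (col8 (col8 (col8 (col8 (col8 (col8 (i))))))))))))))))))
theorem actR15_eq (i : Nat) : actR15 i = Tab.act T D rw15 i := rfl
noncomputable def actR16 (i : Nat) : Nat := col1 (col3 (col6 (col0 (col7 (col3 (col1 (col3 (col6 (col3 (col3 (col0 (col3 (col8 (col8 (col8 (col8 (col8 (i))))))))))))))))))
theorem actR16_eq (i : Nat) : actR16 i = Tab.act T D rw16 i := rfl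

end Cfsg.Agent.Lib.Helper4.TCD.C12M22A
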