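import Cfsg.Agent.Lib.Helper4.TCD_C12M22A_Acc

namespace Cfsg.Agent.Lib.Helper4.TCD.C12M22A

open Cfsg.Agent.Lib.Helper4.TC

set_option maxRecDepth 100000
set_option Elab.async false

theorem c_zero : D.zeroOK = true := by decide +kernel
theorem c_base : allBelow D.baseOK 4 = true := by decide +kernel
theorem c_let : allBelow D.letOK 10 = true := by decide +kernel
theorem c_cls0 : T.cls 0 = 0 := by decide +kernel
theorem c_name0 : T.nameOf 0 = 0 := by decide +kernel
theorem c_tab : D.relTabOK 0 (baseRels 10 PC12M22.invR PC12M22.P.real subs ++ (baseRels 10 PC12M22.invR PC12M22.P.real subs).map (invWord D.inv)) = true := by decide +kernel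
theorem c_real : PC12M22.P.real = realLit := by decide +kernel
theorem c_subfix : subs.all (fun u => Nat.beq (Tab.act T D u 0) 0) = true := by decide +kernel
theorem c_subs : subs.all (fun u => u.all (fun x => Nat.ble (Nat.succ x) 10)) = true := by decide +kernel
theorem c_names_0 : allRange D.nameOK 1 60000 = true := by decide +kernel
theorem c_names_1 : allRange D.nameOK 60001 60000 = true := by decide +kernel
theorem c_names_2 : allRange D.nameOK 120001 60000 = true := by decide +kernel
theorem c_names_3 : allRange D.nameOK 180001 60000 = true := by decide +kernel
theorem c_names_4 : allRange D.nameOK 240001 60000 = true := by decide +kernel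
theorem c_names_5 : allRange D.nameOK 300001 26404 = true := by decide +kernel
theorem c_cls_0 : allRange (T.clsOK D) 1 15000 = true := by decide +kernel
theorem c_cls_1 : allRange (T.clsOK D) 15001 15000 = true := by decide +kernel
theorem c_cls_2 : allRange (T.clsOK D) 30001 15000 = true := by decide +kernel
theorem c_cls_3 : allRange (T.clsOK D) 45001 15000 = true := by decide +kernel
theorem c_cls_4 : allRange (T.clsOK D) 60001 15000 = true := by decide +kernel
theorem c_cls_5 : allRange (T.clsOK D) 75001 15000 = true := by decide +kernel
theorem c_cls_6 : allRange (T.clsOK D) 90001 15000 = true := by decide +kernel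
theorem c_cls_7 : allRange (T.clsOK D) 105001 15000 = true := by decide +kernel
theorem c_cls_8 : allRange (T.clsOK D) 120001 15000 = true := by decide +kernel
theorem c_cls_9 : allRange (T.clsOK D) 135001 15000 = true := by decide +kernel
theorem c_cls_10 : allRange (T.clsOK D) 150001 15000 = true := by decide +kernel
theorem c_cls_11 : allRange (T.clsOK D) 165001 15000 = true := by decide +kernel
theorem c_cls_12 : allRange (T.clsOK D) 180001 15000 = true := by decide +kernel
theorem c_cls_13 : allRange (T.clsOK D) 195001 15000 = true := by decide +kernel
theorem c_cls_14 : allRange (T.clsOK D) 210001 15000 = true := by decide +kernel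
theorem c_cls_15 : allRange (T.clsOK D) 225001 15000 = true := by decide +kernel
theorem c_cls_16 : allRange (T.clsOK D) 240001 15000 = true := by decide +kernel
theorem c_cls_17 : allRange (T.clsOK D) 255001 15000 = true := by decide +kernel
theorem c_cls_18 : allRange (T.clsOK D) 270001 15000 = true := by decide +kernel
theorem c_cls_19 : allRange (T.clsOK D) 285001 15000 = true := by decide +kernel
theorem c_cls_20 : allRange (T.clsOK D) 300001 15000 = true := by decide +kernel
theorem c_cls_21 : allRange (T.clsOK D) 315001 11404 = true := by decide +kernel
theorem c_rep_0 : allRange (T.repOK D) 0 30000 = true := by decide +kernel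
theorem c_rep_1 : allRange (T.repOK D) 30000 30000 = true := by decide +kernel
theorem c_rep_2 : allRange (T.repOK D) 60000 30000 = true := by decide +kernel
theorem c_rep_3 : allRange (T.repOK D) 90000 6768 = true := by decide +kernel
theorem c_rel_0 : allRange D.relOK 326409 3698 = true := by decide +kernel
theorem c_rel_1 : allRange D.relOK 330107 3823 = true := by decide +kernel
theorem c_rel_2 : allRange D.relOK 333930 3752 = true := by decide +kernel
theorem c_rel_3 : allRange D.relOK 337682 3649 = true := by decide +kernel
theorem c_rel_4 : allRange D.relOK 341331 3707 = true := by decide +kernel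
theorem c_rel_5 : allRange D.relOK 345038 3679 = true := by decide +kernel
theorem c_rel_6 : allRange D.relOK 348717 3836 = true := by decide +kernel
theorem c_rel_7 : allRange D.relOK 352553 3715 = true := by decide +kernel
theorem c_rel_8 : allRange D.relOK 356268 3739 = true := by decide +kernel
theorem c_rel_9 : allRange D.relOK 360007 3613 = true := by decide +kernel
theorem c_rel_10 : allRange D.relOK 363620 3828 = true := by decide +kernel
theorem c_rel_11 : allRange D.relOK 367448 3636 = true := by decide +kernel
theorem c_rel_12 : allRange D.relOK 371084 3664 = true := by decide +kernel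
theorem c_rel_13 : allRange D.relOK 374748 3694 = true := by decide +kernel
theorem c_rel_14 : allRange D.relOK 378442 3620 = true := by decide +kernel
theorem c_rel_15 : allRange D.relOK 382062 3781 = true := by decide +kernel
theorem c_rel_16 : allRange D.relOK 385843 3591 = true := by decide +kernel
theorem c_rel_17 : allRange D.relOK 389434 3316 = true := by decide +kernel
theorem c_rel_18 : allRange D.relOK 392750 3452 = true := by decide +kernel
theorem c_rel_19 : allRange D.relOK 396202 3545 = true := by decide +kernel
theorem c_rel_20 : allRange D.relOK 399747 3592 = true := by decide +kernel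
theorem c_rel_21 : allRange D.relOK 403339 3556 = true := by decide +kernel
theorem c_rel_22 : allRange D.relOK 406895 3836 = true := by decide +kernel
theorem c_rel_23 : allRange D.relOK 410731 3752 = true := by decide +kernel
theorem c_rel_24 : allRange D.relOK 414483 3719 = true := by decide +kernel
theorem c_rel_25 : allRange D.relOK 418202 3848 = true := by decide +kernel
theorem c_rel_26 : allRange D.relOK 422050 3672 = true := by decide +kernel
theorem c_rel_27 : allRange D.relOK 425722 3706 = true := by decide +kernel
theorem c_rel_28 : allRange D.relOK 429428 3469 = true := by decide +kernel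
theorem c_rel_29 : allRange D.relOK 432897 3434 = true := by decide +kernel
theorem c_rel_30 : allRange D.relOK 436331 3524 = true := by decide +kernel
theorem c_rel_31 : allRange D.relOK 439855 3645 = true := by decide +kernel
theorem c_rel_32 : allRange D.relOK 443500 3446 = true := by decide +kernel
theorem c_rel_33 : allRange D.relOK 446946 3485 = true := by decide +kernel
theorem c_rel_34 : allRange D.relOK 450431 3426 = true := by decide +kernel
theorem c_rel_35 : allRange D.relOK 453857 3570 = true := by decide +kernel
theorem c_rel_36 : allRange D.relOK 457427 3649 = true := by decide +kernel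
theorem c_rel_37 : allRange D.relOK 461076 3700 = true := by decide +kernel
theorem c_rel_38 : allRange D.relOK 464776 3744 = true := by decide +kernel

end Cfsg.Agent.Lib.Helper4.TCD.C12M22A
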