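import Cfsg.Agent.Lib.Helper4.TC7
import Cfsg.Agent.Lib.Helper4.TCP_C12M22
import Cfsg.Agent.Lib.Helper4.TCD_C12M22B_D0

namespace Cfsg.Agent.Lib.Helper4.TCD.C12M22B

open Cfsg.Agent.Lib.Helper4.TC

set_option maxRecDepth 100000

noncomputable def Atab_s_0_2 (c : Nat) : Nat := @Bool.rec (fun _ => Nat) (Atab_0) (Atab_1) (Nat.ble 1 c)
noncomputable def Atab_s_2_4 (c : Nat) : Nat := @Bool.rec (fun _ => Nat) (Atab_2) (Atab_3) (Nat.ble 3 c)
noncomputable def Atab_s_0_4 (c : Nat) : Nat := @Bool.rec (fun _ => Nat) (Atab_s_0_2 c) (Atab_s_2_4 c) (Nat.ble 2 c)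
noncomputable def Atab (i : Nat) : Nat := rdw 27 134217727 (Atab_s_0_4 (Nat.shiftRight i 11)) (Nat.land i 2047)
noncomputable def Btab_s_1_3 (c : Nat) : Nat := @Bool.rec (fun _ => Nat) (Btab_1) (Btab_2) (Nat.ble 2 c)
noncomputable def Btab_s_0_3 (c : Nat) : Nat := @Bool.rec (fun _ => Nat) (Btab_0) (Btab_s_1_3 c) (Nat.ble 1 c)
noncomputable def Btab (i : Nat) : Nat := rdw 32 4294967295 (Btab_s_0_3 (Nat.shiftRight i 11)) (Nat.land i 2047)
noncomputable def Ptab_s_0_2 (c : Nat) : Nat := @Bool.rec (fun _ => Nat) (Ptab_0) (Ptab_1) (Nat.ble 1 c)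
noncomputable def Ptab_s_3_5 (c : Nat) : Nat := @Bool.rec (fun _ => Nat) (Ptab_3) (Ptab_4) (Nat.ble 4 c)
noncomputable def Ptab_s_2_5 (c : Nat) : Nat := @Bool.rec (fun _ => Nat) (Ptab_2) (Ptab_s_3_5 c) (Nat.ble 3 c)
noncomputable def Ptab_s_0_5 (c : Nat) : Nat := @Bool.rec (fun _ => Nat) (Ptab_s_0_2 c) (Ptab_s_2_5 c) (Nat.ble 2 c)
noncomputable def Ptab (i : Nat) : Nat := rdw 14 16383 (Ptab_s_0_5 (Nat.shiftRight i 12)) (Nat.land i 4095)
noncomputable def RRtab (i : Nat) : Nat := rdw 5 31 RRtab_0 i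
noncomputable def rBtab (i : Nat) : Nat := rdw 10 1023 rBtab_0 i
noncomputable def rLtab (i : Nat) : Nat := rdw 5 31 rLtab_0 i
noncomputable def nameTab (i : Nat) : Nat := rdw 11 2047 nameTab_0 i
noncomputable def col0 (i : Nat) : Nat := rdw 9 511 col0_0 i
noncomputable def col1 (i : Nat) : Nat := rdw 9 511 col1_0 i
noncomputable def col2 (i : Nat) : Nat := rdw 9 511 col2_0 i
noncomputable def col3 (i : Nat) : Nat := rdw 9 511 col3_0 i
noncomputable def col4 (i : Nat) : Nat := rdw 9 511 col4_0 i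
noncomputable def col5 (i : Nat) : Nat := rdw 9 511 col5_0 i
noncomputable def col6 (i : Nat) : Nat := rdw 9 511 col6_0 i
noncomputable def col7 (i : Nat) : Nat := rdw 9 511 col7_0 i
noncomputable def col8 (i : Nat) : Nat := rdw 9 511 col8_0 i
noncomputable def col9 (i : Nat) : Nat := rdw 9 511 col9_0 i
noncomputable def finTab (i : Nat) : Nat := rdw 14 16383 finTab_0 i
noncomputable def clsTab (i : Nat) : Nat := rdw 9 511 clsTab_0 i
noncomputable def oparTab (i : Nat) : Nat := rdw 9 511 oparTab_0 i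
noncomputable def olabTab (i : Nat) : Nat := rdw 2 3 olabTab_0 i
noncomputable def srcF (t : Nat) : Nat := Nat.land (Atab t) 2047
noncomputable def tgtF (t : Nat) : Nat := Nat.land (Nat.shiftRight (Atab t) 11) 2047
noncomputable def ltF (t : Nat) : Nat := Nat.shiftRight (Atab t) 22
noncomputable def rhoF (t : Nat) : Nat := Nat.land (Btab (Nat.sub t 1831)) 63
noncomputable def rotF (t : Nat) : Nat := Nat.land (Nat.shiftRight (Btab (Nat.sub t 1831)) 6) 31
noncomputable def lenF (t : Nat) : Nat := Nat.land (Nat.shiftRight (Btab (Nat.sub t 1831)) 11) 63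
noncomputable def offF (t : Nat) : Nat := Nat.shiftRight (Btab (Nat.sub t 1831)) 17
noncomputable def pfF (j : Nat) : Nat := Nat.shiftRight (Ptab j) 1
noncomputable def pdF (j : Nat) : Nat := Nat.land (Ptab j) 1
noncomputable def tblF (i x : Nat) : Nat := @Bool.rec (fun _ => Nat) (@Bool.rec (fun _ => Nat) (@Bool.rec (fun _ => Nat) (col0 i) (col1 i) (Nat.ble 1 x)) (@Bool.rec (fun _ => Nat) (col2 i) (@Bool.rec (fun _ => Nat) (col3 i) (col4 i) (Nat.ble 4 x)) (Nat.ble 3 x)) (Nat.ble 2 x)) (@Bool.rec (fun _ => Nat) (@Bool.rec (fun _ => Nat) (col5 i) (col6 i) (Nat.ble 6 x)) (@Bool.rec (fun _ => Nat) (col7 i) (@Bool.rec (fun _ => Nat) (col8 i) (col9 i) (Nat.ble 9 x)) (Nat.ble 8 x)) (Nat.ble 7 x)) (Nat.ble 5 x)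
noncomputable def finE (i x : Nat) : Nat := finTab (Nat.add (Nat.mul i 10) x)
noncomputable def finFF (i x : Nat) : Nat := Nat.shiftRight (finE i x) 1
noncomputable def finDF (i x : Nat) : Nat := Nat.land (finE i x) 1

noncomputable def D : Log :=
  { k := 10, inv := invE 10 PC12M22.invR, nR := 60, rBase := rBtab, rLen := rLtab, RR := RRtab,
    M := 1825, nB := 6, F := 6676, src := srcF, lt := ltF, tgt := tgtF, rho := rhoF, rot := rotF,
    off := offF, len := lenF, pf := pfF, pd := pdF }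

noncomputable def T : Tab :=
  { N := 352, nameOf := nameTab, tbl := tblF, finF := finFF, finD := finDF, cls := clsTab }

def subs : List (List Nat) := [
  [0],
  [2],
  [4] ]

def rw0 : List Nat := [4, 4, 4, 4, 4, 4]
def rw1 : List Nat := [4, 0, 5, 1]
def rw2 : List Nat := [4, 2, 5, 3]
def rw3 : List Nat := [0, 0, 0]
def rw4 : List Nat := [2, 2, 2, 2, 2]
def rw5 : List Nat := [0, 2, 0, 2, 0, 2, 0, 2, 0, 2, 0, 2, 0, 2]
def rw6 : List Nat := [0, 3, 0, 2, 0, 3, 0, 2, 5]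
def rw7 : List Nat := [0, 3, 3, 0, 2, 2, 0, 3, 3, 0, 2, 2, 5, 5, 5]
def rw8 : List Nat := [6, 6, 6, 6, 6, 6, 6, 6, 6, 6, 6]
def rw9 : List Nat := [3, 6, 2, 7, 7, 7, 7, 7]
def rw10 : List Nat := [4, 9, 9]
def rw11 : List Nat := [8, 8, 8, 8, 8, 8, 8, 8, 8, 8, 8, 8]
def rw12 : List Nat := [8, 0, 9, 1]
def rw13 : List Nat := [8, 2, 9, 3]
def rw14 : List Nat := [8, 6, 9, 7]
def rw15 : List Nat := [0, 2, 0, 2, 1, 2, 7, 2, 1, 2, 2, 7, 9, 9, 9, 9, 9, 9]
def rw16 : List Nat := [0, 2, 7, 1, 6, 2, 0, 2, 7, 2, 2, 1, 2, 9, 9, 9, 9, 9]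
def realLit : List (List Nat) := [rw0, rw1, rw2, rw3, rw4, rw5, rw6, rw7, rw8, rw9, rw10, rw11, rw12, rw13, rw14, rw15, rw16]
noncomputable def actR0 (i : Nat) : Nat := col5 (col5 (col5 (col5 (col5 (col5 (i))))))
theorem actR0_eq (i : Nat) : actR0 i = Tab.act T D rw0 i := rfl
noncomputable def actR1 (i : Nat) : Nat := col5 (col1 (col4 (col0 (i))))
theorem actR1_eq (i : Nat) : actR1 i = Tab.act T D rw1 i := rfl
noncomputable def actR2 (i : Nat) : Nat := col5 (col3 (col4 (col2 (i))))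
theorem actR2_eq (i : Nat) : actR2 i = Tab.act T D rw2 i := rfl
noncomputable def actR3 (i : Nat) : Nat := col1 (col1 (col1 (i)))
theorem actR3_eq (i : Nat) : actR3 i = Tab.act T D rw3 i := rfl
noncomputable def actR4 (i : Nat) : Nat := col3 (col3 (col3 (col3 (col3 (i)))))
theorem actR4_eq (i : Nat) : actR4 i = Tab.act T D rw4 i := rfl
noncomputable def actR5 (i : Nat) : Nat := col1 (col3 (col1 (col3 (col1 (col3 (col1 (col3 (col1 (col3 (col1 (col3 (col1 (col3 (i))))))))))))))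
theorem actR5_eq (i : Nat) : actR5 i = Tab.act T D rw5 i := rfl
noncomputable def actR6 (i : Nat) : Nat := col1 (col2 (col1 (col3 (col1 (col2 (col1 (col3 (col4 (i)))))))))
theorem actR6_eq (i : Nat) : actR6 i = Tab.act T D rw6 i := rfl
noncomputable def actR7 (i : Nat) : Nat := col1 (col2 (col2 (col1 (col3 (col3 (col1 (col2 (col2 (col1 (col3 (col3 (col4 (col4 (col4 (i)))))))))))))))
theorem actR7_eq (i : Nat) : actR7 i = Tab.act T D rw7 i := rfl
noncomputable def actR8 (i : Nat) : Nat := col7 (col7 (col7 (col7 (col7 (col7 (col7 (col7 (col7 (col7 (col7 (i)))))))))))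
theorem actR8_eq (i : Nat) : actR8 i = Tab.act T D rw8 i := rfl
noncomputable def actR9 (i : Nat) : Nat := col2 (col7 (col3 (col6 (col6 (col6 (col6 (col6 (i))))))))
theorem actR9_eq (i : Nat) : actR9 i = Tab.act T D rw9 i := rfl
noncomputable def actR10 (i : Nat) : Nat := col5 (col8 (col8 (i)))
theorem actR10_eq (i : Nat) : actR10 i = Tab.act T D rw10 i := rfl
noncomputable def actR11 (i : Nat) : Nat := col9 (col9 (col9 (col9 (col9 (col9 (col9 (col9 (col9 (col9 (col9 (col9 (i))))))))))))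
theorem actR11_eq (i : Nat) : actR11 i = Tab.act T D rw11 i := rfl
noncomputable def actR12 (i : Nat) : Nat := col9 (col1 (col8 (col0 (i))))
theorem actR12_eq (i : Nat) : actR12 i = Tab.act T D rw12 i := rfl
noncomputable def actR13 (i : Nat) : Nat := col9 (col3 (col8 (col2 (i))))
theorem actR13_eq (i : Nat) : actR13 i = Tab.act T D rw13 i := rfl
noncomputable def actR14 (i : Nat) : Nat := col9 (col7 (col8 (col6 (i))))
theorem actR14_eq (i : Nat) : actR14 i = Tab.act T D rw14 i := rfl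
noncomputable def actR15 (i : Nat) : Nat := col1 (col3 (col1 (col3 (col0 (col3 (col6 (col3 (col0 (col3 (col3 (col6 (col8 (col8 (col8 (col8 (col8 (col8 (i))))))))))))))))))
theorem actR15_eq (i : Nat) : actR15 i = Tab.act T D rw15 i := rfl
noncomputable def actR16 (i : Nat) : Nat := col1 (col3 (col6 (col0 (col7 (col3 (col1 (col3 (col6 (col3 (col3 (col0 (col3 (col8 (col8 (col8 (col8 (col8 (i))))))))))))))))))
theorem actR16_eq (i : Nat) : actR16 i = Tab.act T D rw16 i := rfl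

end Cfsg.Agent.Lib.Helper4.TCD.C12M22B
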