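import Cfsg.Agent.Lib.Helper4.TC11
import Cfsg.Agent.Lib.Helper4.TCD_C12M22A_Acc
import Cfsg.Agent.Lib.Helper4.TCD_C12M22L_D0
import Cfsg.Agent.Lib.Helper4.TCD_C12M22L_D1

namespace Cfsg.Agent.Lib.Helper4.TCD.C12M22L

open Cfsg.Agent.Lib.Helper4.TC Cfsg.Agent.Lib.Helper4.TCD.C12M22A

set_option maxRecDepth 100000

noncomputable def st10_s_1_3 (c : Nat) : Nat := @Bool.rec (fun _ => Nat) (st10_1) (st10_2) (Nat.ble 2 c)
noncomputable def st10_s_0_3 (c : Nat) : Nat := @Bool.rec (fun _ => Nat) (st10_0) (st10_s_1_3 c) (Nat.ble 1 c)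
noncomputable def st10_s_4_6 (c : Nat) : Nat := @Bool.rec (fun _ => Nat) (st10_4) (st10_5) (Nat.ble 5 c)
noncomputable def st10_s_3_6 (c : Nat) : Nat := @Bool.rec (fun _ => Nat) (st10_3) (st10_s_4_6 c) (Nat.ble 4 c)
noncomputable def st10_s_0_6 (c : Nat) : Nat := @Bool.rec (fun _ => Nat) (st10_s_0_3 c) (st10_s_3_6 c) (Nat.ble 3 c)
noncomputable def st10_s_7_9 (c : Nat) : Nat := @Bool.rec (fun _ => Nat) (st10_7) (st10_8) (Nat.ble 8 c)
noncomputable def st10_s_6_9 (c : Nat) : Nat := @Bool.rec (fun _ => Nat) (st10_6) (st10_s_7_9 c) (Nat.ble 7 c)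
noncomputable def st10_s_10_12 (c : Nat) : Nat := @Bool.rec (fun _ => Nat) (st10_10) (st10_11) (Nat.ble 11 c)
noncomputable def st10_s_9_12 (c : Nat) : Nat := @Bool.rec (fun _ => Nat) (st10_9) (st10_s_10_12 c) (Nat.ble 10 c)
noncomputable def st10_s_6_12 (c : Nat) : Nat := @Bool.rec (fun _ => Nat) (st10_s_6_9 c) (st10_s_9_12 c) (Nat.ble 9 c)
noncomputable def st10_s_0_12 (c : Nat) : Nat := @Bool.rec (fun _ => Nat) (st10_s_0_6 c) (st10_s_6_12 c) (Nat.ble 6 c)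
noncomputable def st10_s_13_15 (c : Nat) : Nat := @Bool.rec (fun _ => Nat) (st10_13) (st10_14) (Nat.ble 14 c)
noncomputable def st10_s_12_15 (c : Nat) : Nat := @Bool.rec (fun _ => Nat) (st10_12) (st10_s_13_15 c) (Nat.ble 13 c)
noncomputable def st10_s_16_18 (c : Nat) : Nat := @Bool.rec (fun _ => Nat) (st10_16) (st10_17) (Nat.ble 17 c)
noncomputable def st10_s_15_18 (c : Nat) : Nat := @Bool.rec (fun _ => Nat) (st10_15) (st10_s_16_18 c) (Nat.ble 16 c)
noncomputable def st10_s_12_18 (c : Nat) : Nat := @Bool.rec (fun _ => Nat) (st10_s_12_15 c) (st10_s_15_18 c) (Nat.ble 15 c)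
noncomputable def st10_s_19_21 (c : Nat) : Nat := @Bool.rec (fun _ => Nat) (st10_19) (st10_20) (Nat.ble 20 c)
noncomputable def st10_s_18_21 (c : Nat) : Nat := @Bool.rec (fun _ => Nat) (st10_18) (st10_s_19_21 c) (Nat.ble 19 c)
noncomputable def st10_s_22_24 (c : Nat) : Nat := @Bool.rec (fun _ => Nat) (st10_22) (st10_23) (Nat.ble 23 c)
noncomputable def st10_s_21_24 (c : Nat) : Nat := @Bool.rec (fun _ => Nat) (st10_21) (st10_s_22_24 c) (Nat.ble 22 c)
noncomputable def st10_s_18_24 (c : Nat) : Nat := @Bool.rec (fun _ => Nat) (st10_s_18_21 c) (st10_s_21_24 c) (Nat.ble 21 c)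
noncomputable def st10_s_12_24 (c : Nat) : Nat := @Bool.rec (fun _ => Nat) (st10_s_12_18 c) (st10_s_18_24 c) (Nat.ble 18 c)
noncomputable def st10_s_0_24 (c : Nat) : Nat := @Bool.rec (fun _ => Nat) (st10_s_0_12 c) (st10_s_12_24 c) (Nat.ble 12 c)
noncomputable def st10 (i : Nat) : Nat := rdw 17 131071 (st10_s_0_24 (Nat.shiftRight i 12)) (Nat.land i 4095)
noncomputable def st11_s_1_3 (c : Nat) : Nat := @Bool.rec (fun _ => Nat) (st11_1) (st11_2) (Nat.ble 2 c)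
noncomputable def st11_s_0_3 (c : Nat) : Nat := @Bool.rec (fun _ => Nat) (st11_0) (st11_s_1_3 c) (Nat.ble 1 c)
noncomputable def st11_s_4_6 (c : Nat) : Nat := @Bool.rec (fun _ => Nat) (st11_4) (st11_5) (Nat.ble 5 c)
noncomputable def st11_s_3_6 (c : Nat) : Nat := @Bool.rec (fun _ => Nat) (st11_3) (st11_s_4_6 c) (Nat.ble 4 c)
noncomputable def st11_s_0_6 (c : Nat) : Nat := @Bool.rec (fun _ => Nat) (st11_s_0_3 c) (st11_s_3_6 c) (Nat.ble 3 c)
noncomputable def st11_s_7_9 (c : Nat) : Nat := @Bool.rec (fun _ => Nat) (st11_7) (st11_8) (Nat.ble 8 c)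
noncomputable def st11_s_6_9 (c : Nat) : Nat := @Bool.rec (fun _ => Nat) (st11_6) (st11_s_7_9 c) (Nat.ble 7 c)
noncomputable def st11_s_10_12 (c : Nat) : Nat := @Bool.rec (fun _ => Nat) (st11_10) (st11_11) (Nat.ble 11 c)
noncomputable def st11_s_9_12 (c : Nat) : Nat := @Bool.rec (fun _ => Nat) (st11_9) (st11_s_10_12 c) (Nat.ble 10 c)
noncomputable def st11_s_6_12 (c : Nat) : Nat := @Bool.rec (fun _ => Nat) (st11_s_6_9 c) (st11_s_9_12 c) (Nat.ble 9 c)
noncomputable def st11_s_0_12 (c : Nat) : Nat := @Bool.rec (fun _ => Nat) (st11_s_0_6 c) (st11_s_6_12 c) (Nat.ble 6 c)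
noncomputable def st11_s_13_15 (c : Nat) : Nat := @Bool.rec (fun _ => Nat) (st11_13) (st11_14) (Nat.ble 14 c)
noncomputable def st11_s_12_15 (c : Nat) : Nat := @Bool.rec (fun _ => Nat) (st11_12) (st11_s_13_15 c) (Nat.ble 13 c)
noncomputable def st11_s_16_18 (c : Nat) : Nat := @Bool.rec (fun _ => Nat) (st11_16) (st11_17) (Nat.ble 17 c)
noncomputable def st11_s_15_18 (c : Nat) : Nat := @Bool.rec (fun _ => Nat) (st11_15) (st11_s_16_18 c) (Nat.ble 16 c)
noncomputable def st11_s_12_18 (c : Nat) : Nat := @Bool.rec (fun _ => Nat) (st11_s_12_15 c) (st11_s_15_18 c) (Nat.ble 15 c)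
noncomputable def st11_s_19_21 (c : Nat) : Nat := @Bool.rec (fun _ => Nat) (st11_19) (st11_20) (Nat.ble 20 c)
noncomputable def st11_s_18_21 (c : Nat) : Nat := @Bool.rec (fun _ => Nat) (st11_18) (st11_s_19_21 c) (Nat.ble 19 c)
noncomputable def st11_s_22_24 (c : Nat) : Nat := @Bool.rec (fun _ => Nat) (st11_22) (st11_23) (Nat.ble 23 c)
noncomputable def st11_s_21_24 (c : Nat) : Nat := @Bool.rec (fun _ => Nat) (st11_21) (st11_s_22_24 c) (Nat.ble 22 c)
noncomputable def st11_s_18_24 (c : Nat) : Nat := @Bool.rec (fun _ => Nat) (st11_s_18_21 c) (st11_s_21_24 c) (Nat.ble 21 c)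
noncomputable def st11_s_12_24 (c : Nat) : Nat := @Bool.rec (fun _ => Nat) (st11_s_12_18 c) (st11_s_18_24 c) (Nat.ble 18 c)
noncomputable def st11_s_0_24 (c : Nat) : Nat := @Bool.rec (fun _ => Nat) (st11_s_0_12 c) (st11_s_12_24 c) (Nat.ble 12 c)
noncomputable def st11 (i : Nat) : Nat := rdw 17 131071 (st11_s_0_24 (Nat.shiftRight i 12)) (Nat.land i 4095)
noncomputable def st12_s_1_3 (c : Nat) : Nat := @Bool.rec (fun _ => Nat) (st12_1) (st12_2) (Nat.ble 2 c)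
noncomputable def st12_s_0_3 (c : Nat) : Nat := @Bool.rec (fun _ => Nat) (st12_0) (st12_s_1_3 c) (Nat.ble 1 c)
noncomputable def st12_s_4_6 (c : Nat) : Nat := @Bool.rec (fun _ => Nat) (st12_4) (st12_5) (Nat.ble 5 c)
noncomputable def st12_s_3_6 (c : Nat) : Nat := @Bool.rec (fun _ => Nat) (st12_3) (st12_s_4_6 c) (Nat.ble 4 c)
noncomputable def st12_s_0_6 (c : Nat) : Nat := @Bool.rec (fun _ => Nat) (st12_s_0_3 c) (st12_s_3_6 c) (Nat.ble 3 c)
noncomputable def st12_s_7_9 (c : Nat) : Nat := @Bool.rec (fun _ => Nat) (st12_7) (st12_8) (Nat.ble 8 c)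
noncomputable def st12_s_6_9 (c : Nat) : Nat := @Bool.rec (fun _ => Nat) (st12_6) (st12_s_7_9 c) (Nat.ble 7 c)
noncomputable def st12_s_10_12 (c : Nat) : Nat := @Bool.rec (fun _ => Nat) (st12_10) (st12_11) (Nat.ble 11 c)
noncomputable def st12_s_9_12 (c : Nat) : Nat := @Bool.rec (fun _ => Nat) (st12_9) (st12_s_10_12 c) (Nat.ble 10 c)
noncomputable def st12_s_6_12 (c : Nat) : Nat := @Bool.rec (fun _ => Nat) (st12_s_6_9 c) (st12_s_9_12 c) (Nat.ble 9 c)
noncomputable def st12_s_0_12 (c : Nat) : Nat := @Bool.rec (fun _ => Nat) (st12_s_0_6 c) (st12_s_6_12 c) (Nat.ble 6 c)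
noncomputable def st12_s_13_15 (c : Nat) : Nat := @Bool.rec (fun _ => Nat) (st12_13) (st12_14) (Nat.ble 14 c)
noncomputable def st12_s_12_15 (c : Nat) : Nat := @Bool.rec (fun _ => Nat) (st12_12) (st12_s_13_15 c) (Nat.ble 13 c)
noncomputable def st12_s_16_18 (c : Nat) : Nat := @Bool.rec (fun _ => Nat) (st12_16) (st12_17) (Nat.ble 17 c)
noncomputable def st12_s_15_18 (c : Nat) : Nat := @Bool.rec (fun _ => Nat) (st12_15) (st12_s_16_18 c) (Nat.ble 16 c)
noncomputable def st12_s_12_18 (c : Nat) : Nat := @Bool.rec (fun _ => Nat) (st12_s_12_15 c) (st12_s_15_18 c) (Nat.ble 15 c)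
noncomputable def st12_s_19_21 (c : Nat) : Nat := @Bool.rec (fun _ => Nat) (st12_19) (st12_20) (Nat.ble 20 c)
noncomputable def st12_s_18_21 (c : Nat) : Nat := @Bool.rec (fun _ => Nat) (st12_18) (st12_s_19_21 c) (Nat.ble 19 c)
noncomputable def st12_s_22_24 (c : Nat) : Nat := @Bool.rec (fun _ => Nat) (st12_22) (st12_23) (Nat.ble 23 c)
noncomputable def st12_s_21_24 (c : Nat) : Nat := @Bool.rec (fun _ => Nat) (st12_21) (st12_s_22_24 c) (Nat.ble 22 c)
noncomputable def st12_s_18_24 (c : Nat) : Nat := @Bool.rec (fun _ => Nat) (st12_s_18_21 c) (st12_s_21_24 c) (Nat.ble 21 c)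
noncomputable def st12_s_12_24 (c : Nat) : Nat := @Bool.rec (fun _ => Nat) (st12_s_12_18 c) (st12_s_18_24 c) (Nat.ble 18 c)
noncomputable def st12_s_0_24 (c : Nat) : Nat := @Bool.rec (fun _ => Nat) (st12_s_0_12 c) (st12_s_12_24 c) (Nat.ble 12 c)
noncomputable def st12 (i : Nat) : Nat := rdw 17 131071 (st12_s_0_24 (Nat.shiftRight i 12)) (Nat.land i 4095)
noncomputable def st13_s_1_3 (c : Nat) : Nat := @Bool.rec (fun _ => Nat) (st13_1) (st13_2) (Nat.ble 2 c)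
noncomputable def st13_s_0_3 (c : Nat) : Nat := @Bool.rec (fun _ => Nat) (st13_0) (st13_s_1_3 c) (Nat.ble 1 c)
noncomputable def st13_s_4_6 (c : Nat) : Nat := @Bool.rec (fun _ => Nat) (st13_4) (st13_5) (Nat.ble 5 c)
noncomputable def st13_s_3_6 (c : Nat) : Nat := @Bool.rec (fun _ => Nat) (st13_3) (st13_s_4_6 c) (Nat.ble 4 c)
noncomputable def st13_s_0_6 (c : Nat) : Nat := @Bool.rec (fun _ => Nat) (st13_s_0_3 c) (st13_s_3_6 c) (Nat.ble 3 c)
noncomputable def st13_s_7_9 (c : Nat) : Nat := @Bool.rec (fun _ => Nat) (st13_7) (st13_8) (Nat.ble 8 c)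
noncomputable def st13_s_6_9 (c : Nat) : Nat := @Bool.rec (fun _ => Nat) (st13_6) (st13_s_7_9 c) (Nat.ble 7 c)
noncomputable def st13_s_10_12 (c : Nat) : Nat := @Bool.rec (fun _ => Nat) (st13_10) (st13_11) (Nat.ble 11 c)
noncomputable def st13_s_9_12 (c : Nat) : Nat := @Bool.rec (fun _ => Nat) (st13_9) (st13_s_10_12 c) (Nat.ble 10 c)
noncomputable def st13_s_6_12 (c : Nat) : Nat := @Bool.rec (fun _ => Nat) (st13_s_6_9 c) (st13_s_9_12 c) (Nat.ble 9 c)
noncomputable def st13_s_0_12 (c : Nat) : Nat := @Bool.rec (fun _ => Nat) (st13_s_0_6 c) (st13_s_6_12 c) (Nat.ble 6 c)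
noncomputable def st13_s_13_15 (c : Nat) : Nat := @Bool.rec (fun _ => Nat) (st13_13) (st13_14) (Nat.ble 14 c)
noncomputable def st13_s_12_15 (c : Nat) : Nat := @Bool.rec (fun _ => Nat) (st13_12) (st13_s_13_15 c) (Nat.ble 13 c)
noncomputable def st13_s_16_18 (c : Nat) : Nat := @Bool.rec (fun _ => Nat) (st13_16) (st13_17) (Nat.ble 17 c)
noncomputable def st13_s_15_18 (c : Nat) : Nat := @Bool.rec (fun _ => Nat) (st13_15) (st13_s_16_18 c) (Nat.ble 16 c)
noncomputable def st13_s_12_18 (c : Nat) : Nat := @Bool.rec (fun _ => Nat) (st13_s_12_15 c) (st13_s_15_18 c) (Nat.ble 15 c)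
noncomputable def st13_s_19_21 (c : Nat) : Nat := @Bool.rec (fun _ => Nat) (st13_19) (st13_20) (Nat.ble 20 c)
noncomputable def st13_s_18_21 (c : Nat) : Nat := @Bool.rec (fun _ => Nat) (st13_18) (st13_s_19_21 c) (Nat.ble 19 c)
noncomputable def st13_s_22_24 (c : Nat) : Nat := @Bool.rec (fun _ => Nat) (st13_22) (st13_23) (Nat.ble 23 c)
noncomputable def st13_s_21_24 (c : Nat) : Nat := @Bool.rec (fun _ => Nat) (st13_21) (st13_s_22_24 c) (Nat.ble 22 c)
noncomputable def st13_s_18_24 (c : Nat) : Nat := @Bool.rec (fun _ => Nat) (st13_s_18_21 c) (st13_s_21_24 c) (Nat.ble 21 c)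
noncomputable def st13_s_12_24 (c : Nat) : Nat := @Bool.rec (fun _ => Nat) (st13_s_12_18 c) (st13_s_18_24 c) (Nat.ble 18 c)
noncomputable def st13_s_0_24 (c : Nat) : Nat := @Bool.rec (fun _ => Nat) (st13_s_0_12 c) (st13_s_12_24 c) (Nat.ble 12 c)
noncomputable def st13 (i : Nat) : Nat := rdw 17 131071 (st13_s_0_24 (Nat.shiftRight i 12)) (Nat.land i 4095)
noncomputable def levTab (i : Nat) : Nat := rdw 2 3 levTab_0 i
noncomputable def betaTab (i : Nat) : Nat := rdw 17 131071 betaTab_0 i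
noncomputable def nodeTab_s_1_3 (c : Nat) : Nat := @Bool.rec (fun _ => Nat) (nodeTab_1) (nodeTab_2) (Nat.ble 2 c)
noncomputable def nodeTab_s_0_3 (c : Nat) : Nat := @Bool.rec (fun _ => Nat) (nodeTab_0) (nodeTab_s_1_3 c) (Nat.ble 1 c)
noncomputable def nodeTab_s_4_6 (c : Nat) : Nat := @Bool.rec (fun _ => Nat) (nodeTab_4) (nodeTab_5) (Nat.ble 5 c)
noncomputable def nodeTab_s_3_6 (c : Nat) : Nat := @Bool.rec (fun _ => Nat) (nodeTab_3) (nodeTab_s_4_6 c) (Nat.ble 4 c)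
noncomputable def nodeTab_s_0_6 (c : Nat) : Nat := @Bool.rec (fun _ => Nat) (nodeTab_s_0_3 c) (nodeTab_s_3_6 c) (Nat.ble 3 c)
noncomputable def nodeTab_s_7_9 (c : Nat) : Nat := @Bool.rec (fun _ => Nat) (nodeTab_7) (nodeTab_8) (Nat.ble 8 c)
noncomputable def nodeTab_s_6_9 (c : Nat) : Nat := @Bool.rec (fun _ => Nat) (nodeTab_6) (nodeTab_s_7_9 c) (Nat.ble 7 c)
noncomputable def nodeTab_s_10_12 (c : Nat) : Nat := @Bool.rec (fun _ => Nat) (nodeTab_10) (nodeTab_11) (Nat.ble 11 c)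
noncomputable def nodeTab_s_9_12 (c : Nat) : Nat := @Bool.rec (fun _ => Nat) (nodeTab_9) (nodeTab_s_10_12 c) (Nat.ble 10 c)
noncomputable def nodeTab_s_6_12 (c : Nat) : Nat := @Bool.rec (fun _ => Nat) (nodeTab_s_6_9 c) (nodeTab_s_9_12 c) (Nat.ble 9 c)
noncomputable def nodeTab_s_0_12 (c : Nat) : Nat := @Bool.rec (fun _ => Nat) (nodeTab_s_0_6 c) (nodeTab_s_6_12 c) (Nat.ble 6 c)
noncomputable def nodeTab_s_13_15 (c : Nat) : Nat := @Bool.rec (fun _ => Nat) (nodeTab_13) (nodeTab_14) (Nat.ble 14 c)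
noncomputable def nodeTab_s_12_15 (c : Nat) : Nat := @Bool.rec (fun _ => Nat) (nodeTab_12) (nodeTab_s_13_15 c) (Nat.ble 13 c)
noncomputable def nodeTab_s_16_18 (c : Nat) : Nat := @Bool.rec (fun _ => Nat) (nodeTab_16) (nodeTab_17) (Nat.ble 17 c)
noncomputable def nodeTab_s_15_18 (c : Nat) : Nat := @Bool.rec (fun _ => Nat) (nodeTab_15) (nodeTab_s_16_18 c) (Nat.ble 16 c)
noncomputable def nodeTab_s_12_18 (c : Nat) : Nat := @Bool.rec (fun _ => Nat) (nodeTab_s_12_15 c) (nodeTab_s_15_18 c) (Nat.ble 15 c)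
noncomputable def nodeTab_s_19_21 (c : Nat) : Nat := @Bool.rec (fun _ => Nat) (nodeTab_19) (nodeTab_20) (Nat.ble 20 c)
noncomputable def nodeTab_s_18_21 (c : Nat) : Nat := @Bool.rec (fun _ => Nat) (nodeTab_18) (nodeTab_s_19_21 c) (Nat.ble 19 c)
noncomputable def nodeTab_s_22_24 (c : Nat) : Nat := @Bool.rec (fun _ => Nat) (nodeTab_22) (nodeTab_23) (Nat.ble 23 c)
noncomputable def nodeTab_s_21_24 (c : Nat) : Nat := @Bool.rec (fun _ => Nat) (nodeTab_21) (nodeTab_s_22_24 c) (Nat.ble 22 c)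
noncomputable def nodeTab_s_18_24 (c : Nat) : Nat := @Bool.rec (fun _ => Nat) (nodeTab_s_18_21 c) (nodeTab_s_21_24 c) (Nat.ble 21 c)
noncomputable def nodeTab_s_12_24 (c : Nat) : Nat := @Bool.rec (fun _ => Nat) (nodeTab_s_12_18 c) (nodeTab_s_18_24 c) (Nat.ble 18 c)
noncomputable def nodeTab_s_0_24 (c : Nat) : Nat := @Bool.rec (fun _ => Nat) (nodeTab_s_0_12 c) (nodeTab_s_12_24 c) (Nat.ble 12 c)
noncomputable def nodeTab_s_25_27 (c : Nat) : Nat := @Bool.rec (fun _ => Nat) (nodeTab_25) (nodeTab_26) (Nat.ble 26 c)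
noncomputable def nodeTab_s_24_27 (c : Nat) : Nat := @Bool.rec (fun _ => Nat) (nodeTab_24) (nodeTab_s_25_27 c) (Nat.ble 25 c)
noncomputable def nodeTab_s_28_30 (c : Nat) : Nat := @Bool.rec (fun _ => Nat) (nodeTab_28) (nodeTab_29) (Nat.ble 29 c)
noncomputable def nodeTab_s_27_30 (c : Nat) : Nat := @Bool.rec (fun _ => Nat) (nodeTab_27) (nodeTab_s_28_30 c) (Nat.ble 28 c)
noncomputable def nodeTab_s_24_30 (c : Nat) : Nat := @Bool.rec (fun _ => Nat) (nodeTab_s_24_27 c) (nodeTab_s_27_30 c) (Nat.ble 27 c)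
noncomputable def nodeTab_s_31_33 (c : Nat) : Nat := @Bool.rec (fun _ => Nat) (nodeTab_31) (nodeTab_32) (Nat.ble 32 c)
noncomputable def nodeTab_s_30_33 (c : Nat) : Nat := @Bool.rec (fun _ => Nat) (nodeTab_30) (nodeTab_s_31_33 c) (Nat.ble 31 c)
noncomputable def nodeTab_s_34_36 (c : Nat) : Nat := @Bool.rec (fun _ => Nat) (nodeTab_34) (nodeTab_35) (Nat.ble 35 c)
noncomputable def nodeTab_s_33_36 (c : Nat) : Nat := @Bool.rec (fun _ => Nat) (nodeTab_33) (nodeTab_s_34_36 c) (Nat.ble 34 c)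
noncomputable def nodeTab_s_30_36 (c : Nat) : Nat := @Bool.rec (fun _ => Nat) (nodeTab_s_30_33 c) (nodeTab_s_33_36 c) (Nat.ble 33 c)
noncomputable def nodeTab_s_24_36 (c : Nat) : Nat := @Bool.rec (fun _ => Nat) (nodeTab_s_24_30 c) (nodeTab_s_30_36 c) (Nat.ble 30 c)
noncomputable def nodeTab_s_37_39 (c : Nat) : Nat := @Bool.rec (fun _ => Nat) (nodeTab_37) (nodeTab_38) (Nat.ble 38 c)
noncomputable def nodeTab_s_36_39 (c : Nat) : Nat := @Bool.rec (fun _ => Nat) (nodeTab_36) (nodeTab_s_37_39 c) (Nat.ble 37 c)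
noncomputable def nodeTab_s_40_42 (c : Nat) : Nat := @Bool.rec (fun _ => Nat) (nodeTab_40) (nodeTab_41) (Nat.ble 41 c)
noncomputable def nodeTab_s_39_42 (c : Nat) : Nat := @Bool.rec (fun _ => Nat) (nodeTab_39) (nodeTab_s_40_42 c) (Nat.ble 40 c)
noncomputable def nodeTab_s_36_42 (c : Nat) : Nat := @Bool.rec (fun _ => Nat) (nodeTab_s_36_39 c) (nodeTab_s_39_42 c) (Nat.ble 39 c)
noncomputable def nodeTab_s_43_45 (c : Nat) : Nat := @Bool.rec (fun _ => Nat) (nodeTab_43) (nodeTab_44) (Nat.ble 44 c)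
noncomputable def nodeTab_s_42_45 (c : Nat) : Nat := @Bool.rec (fun _ => Nat) (nodeTab_42) (nodeTab_s_43_45 c) (Nat.ble 43 c)
noncomputable def nodeTab_s_46_48 (c : Nat) : Nat := @Bool.rec (fun _ => Nat) (nodeTab_46) (nodeTab_47) (Nat.ble 47 c)
noncomputable def nodeTab_s_45_48 (c : Nat) : Nat := @Bool.rec (fun _ => Nat) (nodeTab_45) (nodeTab_s_46_48 c) (Nat.ble 46 c)
noncomputable def nodeTab_s_42_48 (c : Nat) : Nat := @Bool.rec (fun _ => Nat) (nodeTab_s_42_45 c) (nodeTab_s_45_48 c) (Nat.ble 45 c)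
noncomputable def nodeTab_s_36_48 (c : Nat) : Nat := @Bool.rec (fun _ => Nat) (nodeTab_s_36_42 c) (nodeTab_s_42_48 c) (Nat.ble 42 c)
noncomputable def nodeTab_s_24_48 (c : Nat) : Nat := @Bool.rec (fun _ => Nat) (nodeTab_s_24_36 c) (nodeTab_s_36_48 c) (Nat.ble 36 c)
noncomputable def nodeTab_s_0_48 (c : Nat) : Nat := @Bool.rec (fun _ => Nat) (nodeTab_s_0_24 c) (nodeTab_s_24_48 c) (Nat.ble 24 c)
noncomputable def nodeTab (i : Nat) : Nat := rdw 42 4398046511103 (nodeTab_s_0_48 (Nat.shiftRight i 11)) (Nat.land i 2047)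
noncomputable def offTab (i : Nat) : Nat := rdw 17 131071 offTab_0 i
noncomputable def nTab (i : Nat) : Nat := rdw 17 131071 nTab_0 i
noncomputable def rootTab (i : Nat) : Nat := rdw 17 131071 rootTab_0 i
noncomputable def tabF (i p : Nat) : Nat := @Bool.rec (fun _ => Nat) (@Bool.rec (fun _ => Nat) (@Bool.rec (fun _ => Nat) (col1 p) (@Bool.rec (fun _ => Nat) (col0 p) (col3 p) (Nat.ble 2 i)) (Nat.ble 1 i)) (@Bool.rec (fun _ => Nat) (@Bool.rec (fun _ => Nat) (col2 p) (col5 p) (Nat.ble 4 i)) (@Bool.rec (fun _ => Nat) (col4 p) (col7 p) (Nat.ble 6 i)) (Nat.ble 5 i)) (Nat.ble 3 i)) (@Bool.rec (fun _ => Nat) (@Bool.rec (fun _ => Nat) (col6 p) (@Bool.rec (fun _ => Nat) (col9 p) (col8 p) (Nat.ble 9 i)) (Nat.ble 8 i)) (@Bool.rec (fun _ => Nat) (@Bool.rec (fun _ => Nat) (st10 p) (st11 p) (Nat.ble 11 i)) (@Bool.rec (fun _ => Nat) (st12 p) (st13 p) (Nat.ble 13 i)) (Nat.ble 12 i)) (Nat.ble 10 i)) (Nat.ble 7 i)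
def wAF : Nat → List Nat
  | 10 => [2, 0, 3, 6, 5, 0, 3, 0]
  | 11 => [10]
  | 12 => [6, 6]
  | 13 => [12]
  | _ => []
def wBF : Nat → List Nat
  | 10 => [3, 3, 7, 0, 7, 7, 3, 0]
  | 11 => []
  | 12 => [2, 7]
  | 13 => []
  | _ => []
noncomputable def ptF (j idx : Nat) : Nat := Nat.land (nodeTab (Nat.add (offTab j) idx)) 131071
noncomputable def parF (j idx : Nat) : Nat := Nat.land (Nat.shiftRight (nodeTab (Nat.add (offTab j) idx)) 17) 131071
noncomputable def giF (j idx : Nat) : Nat := Nat.land (Nat.shiftRight (nodeTab (Nat.add (offTab j) idx)) 34) 15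
noncomputable def depF (j idx : Nat) : Nat := Nat.shiftRight (nodeTab (Nat.add (offTab j) idx)) 38

noncomputable def S : Sgs :=
  { N := 96768, k := 10, m := 14, tab := tabF, wA := wAF, wB := wBF, lev := levTab, r := 3, beta := betaTab,
    n := nTab, root := rootTab, pt := ptF, par := parF, gi := giF, dep := depF }

noncomputable def chk10 (p : Nat) : Bool := band (Nat.ble (Nat.succ (st10 p)) 96768) (Nat.beq (col3 (col1 (col2 (col7 (col4 (col1 (col2 (col1 (st10 p))))))))) (col2 (col2 (col6 (col1 (col6 (col6 (col2 (col1 p)))))))))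
theorem chk10_eq (p : Nat) : chk10 p = Sgs.permOK S 10 p := rfl
noncomputable def chk11 (p : Nat) : Bool := band (Nat.ble (Nat.succ (st11 p)) 96768) (Nat.beq (st10 (st11 p)) p)
theorem chk11_eq (p : Nat) : chk11 p = Sgs.permOK S 11 p := rfl
noncomputable def chk12 (p : Nat) : Bool := band (Nat.ble (Nat.succ (st12 p)) 96768) (Nat.beq (col7 (col7 (st12 p))) (col3 (col6 p)))
theorem chk12_eq (p : Nat) : chk12 p = Sgs.permOK S 12 p := rfl
noncomputable def chk13 (p : Nat) : Bool := band (Nat.ble (Nat.succ (st13 p)) 96768) (Nat.beq (st12 (st13 p)) p)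
theorem chk13_eq (p : Nat) : chk13 p = Sgs.permOK S 13 p := rfl

end Cfsg.Agent.Lib.Helper4.TCD.C12M22L
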