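import Cfsg.Agent.Lib.Helper4.TCD_C12M22L_Acc

namespace Cfsg.Agent.Lib.Helper4.TCD.C12M22L

open Cfsg.Agent.Lib.Helper4.TC Cfsg.Agent.Lib.Helper4.TCD.C12M22A

set_option maxRecDepth 100000
set_option Elab.async false

theorem c_words : allRange S.wordsOK 10 4 = true := by decide +kernel
theorem c_fix : allGrid S.fixOK 0 14 3 = true := by decide +kernel
theorem c_root : allBelow (fun j => Nat.ble (Nat.succ (S.root j)) (S.n j)) 3 = true := by decide +kernel
theorem c_n0 : S.n 0 = 96768 := by decide +kernel
theorem c_n1 : S.n 1 = 11 := by decide +kernel
theorem c_n2 : S.n 2 = 5 := by decide +kernel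
theorem c_p10_0 : allRange chk10 0 3157 = true := by decide +kernel
theorem c_p10_1 : allRange chk10 3157 3157 = true := by decide +kernel
theorem c_p10_2 : allRange chk10 6314 3157 = true := by decide +kernel
theorem c_p10_3 : allRange chk10 9471 3157 = true := by decide +kernel
theorem c_p10_4 : allRange chk10 12628 3157 = true := by decide +kernel
theorem c_p10_5 : allRange chk10 15785 3157 = true := by decide +kernel
theorem c_p10_6 : allRange chk10 18942 3157 = true := by decide +kernel
theorem c_p10_7 : allRange chk10 22099 3157 = true := by decide +kernel
theorem c_p10_8 : allRange chk10 25256 3157 = true := by decide +kernel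
theorem c_p10_9 : allRange chk10 28413 3157 = true := by decide +kernel
theorem c_p10_10 : allRange chk10 31570 3157 = true := by decide +kernel
theorem c_p10_11 : allRange chk10 34727 3157 = true := by decide +kernel
theorem c_p10_12 : allRange chk10 37884 3157 = true := by decide +kernel
theorem c_p10_13 : allRange chk10 41041 3157 = true := by decide +kernel
theorem c_p10_14 : allRange chk10 44198 3157 = true := by decide +kernel
theorem c_p10_15 : allRange chk10 47355 3157 = true := by decide +kernel
theorem c_p10_16 : allRange chk10 50512 3157 = true := by decide +kernel
theorem c_p10_17 : allRange chk10 53669 3157 = true := by decide +kernel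
theorem c_p10_18 : allRange chk10 56826 3157 = true := by decide +kernel
theorem c_p10_19 : allRange chk10 59983 3157 = true := by decide +kernel
theorem c_p10_20 : allRange chk10 63140 3157 = true := by decide +kernel
theorem c_p10_21 : allRange chk10 66297 3157 = true := by decide +kernel
theorem c_p10_22 : allRange chk10 69454 3157 = true := by decide +kernel
theorem c_p10_23 : allRange chk10 72611 3157 = true := by decide +kernel
theorem c_p10_24 : allRange chk10 75768 3157 = true := by decide +kernel
theorem c_p10_25 : allRange chk10 78925 3157 = true := by decide +kernel
theorem c_p10_26 : allRange chk10 82082 3157 = true := by decide +kernel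
theorem c_p10_27 : allRange chk10 85239 3157 = true := by decide +kernel
theorem c_p10_28 : allRange chk10 88396 3157 = true := by decide +kernel
theorem c_p10_29 : allRange chk10 91553 3157 = true := by decide +kernel
theorem c_p10_30 : allRange chk10 94710 2058 = true := by decide +kernel
theorem c_p11_0 : allRange chk11 0 15000 = true := by decide +kernel
theorem c_p11_1 : allRange chk11 15000 15000 = true := by decide +kernel
theorem c_p11_2 : allRange chk11 30000 15000 = true := by decide +kernel
theorem c_p11_3 : allRange chk11 45000 15000 = true := by decide +kernel
theorem c_p11_4 : allRange chk11 60000 15000 = true := by decide +kernel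
theorem c_p11_5 : allRange chk11 75000 15000 = true := by decide +kernel
theorem c_p11_6 : allRange chk11 90000 6768 = true := by decide +kernel
theorem c_p12_0 : allRange chk12 0 8571 = true := by decide +kernel
theorem c_p12_1 : allRange chk12 8571 8571 = true := by decide +kernel
theorem c_p12_2 : allRange chk12 17142 8571 = true := by decide +kernel
theorem c_p12_3 : allRange chk12 25713 8571 = true := by decide +kernel
theorem c_p12_4 : allRange chk12 34284 8571 = true := by decide +kernel
theorem c_p12_5 : allRange chk12 42855 8571 = true := by decide +kernel
theorem c_p12_6 : allRange chk12 51426 8571 = true := by decide +kernel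
theorem c_p12_7 : allRange chk12 59997 8571 = true := by decide +kernel
theorem c_p12_8 : allRange chk12 68568 8571 = true := by decide +kernel
theorem c_p12_9 : allRange chk12 77139 8571 = true := by decide +kernel
theorem c_p12_10 : allRange chk12 85710 8571 = true := by decide +kernel
theorem c_p12_11 : allRange chk12 94281 2487 = true := by decide +kernel
theorem c_p13_0 : allRange chk13 0 15000 = true := by decide +kernel

end Cfsg.Agent.Lib.Helper4.TCD.C12M22L
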