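import Cfsg.Agent.Lib.Helper4.TC7
import Cfsg.Agent.Lib.Helper4.TCP_C2A8
import Cfsg.Agent.Lib.Helper4.TCD_C2A8A_D0

namespace Cfsg.Agent.Lib.Helper4.TCD.C2A8A

open Cfsg.Agent.Lib.Helper4.TC

set_option maxRecDepth 100000

noncomputable def Atab_s_0_2 (c : Nat) : Nat := @Bool.rec (fun _ => Nat) (Atab_0) (Atab_1) (Nat.ble 1 c)
noncomputable def Atab_s_3_5 (c : Nat) : Nat := @Bool.rec (fun _ => Nat) (Atab_3) (Atab_4) (Nat.ble 4 c)
noncomputable def Atab_s_2_5 (c : Nat) : Nat := @Bool.rec (fun _ => Nat) (Atab_2) (Atab_s_3_5 c) (Nat.ble 3 c)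
noncomputable def Atab_s_0_5 (c : Nat) : Nat := @Bool.rec (fun _ => Nat) (Atab_s_0_2 c) (Atab_s_2_5 c) (Nat.ble 2 c)
noncomputable def Atab_s_6_8 (c : Nat) : Nat := @Bool.rec (fun _ => Nat) (Atab_6) (Atab_7) (Nat.ble 7 c)
noncomputable def Atab_s_5_8 (c : Nat) : Nat := @Bool.rec (fun _ => Nat) (Atab_5) (Atab_s_6_8 c) (Nat.ble 6 c)
noncomputable def Atab_s_9_11 (c : Nat) : Nat := @Bool.rec (fun _ => Nat) (Atab_9) (Atab_10) (Nat.ble 10 c)
noncomputable def Atab_s_8_11 (c : Nat) : Nat := @Bool.rec (fun _ => Nat) (Atab_8) (Atab_s_9_11 c) (Nat.ble 9 c)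
noncomputable def Atab_s_5_11 (c : Nat) : Nat := @Bool.rec (fun _ => Nat) (Atab_s_5_8 c) (Atab_s_8_11 c) (Nat.ble 8 c)
noncomputable def Atab_s_0_11 (c : Nat) : Nat := @Bool.rec (fun _ => Nat) (Atab_s_0_5 c) (Atab_s_5_11 c) (Nat.ble 5 c)
noncomputable def Atab_s_11_13 (c : Nat) : Nat := @Bool.rec (fun _ => Nat) (Atab_11) (Atab_12) (Nat.ble 12 c)
noncomputable def Atab_s_14_16 (c : Nat) : Nat := @Bool.rec (fun _ => Nat) (Atab_14) (Atab_15) (Nat.ble 15 c)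
noncomputable def Atab_s_13_16 (c : Nat) : Nat := @Bool.rec (fun _ => Nat) (Atab_13) (Atab_s_14_16 c) (Nat.ble 14 c)
noncomputable def Atab_s_11_16 (c : Nat) : Nat := @Bool.rec (fun _ => Nat) (Atab_s_11_13 c) (Atab_s_13_16 c) (Nat.ble 13 c)
noncomputable def Atab_s_17_19 (c : Nat) : Nat := @Bool.rec (fun _ => Nat) (Atab_17) (Atab_18) (Nat.ble 18 c)
noncomputable def Atab_s_16_19 (c : Nat) : Nat := @Bool.rec (fun _ => Nat) (Atab_16) (Atab_s_17_19 c) (Nat.ble 17 c)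
noncomputable def Atab_s_20_22 (c : Nat) : Nat := @Bool.rec (fun _ => Nat) (Atab_20) (Atab_21) (Nat.ble 21 c)
noncomputable def Atab_s_19_22 (c : Nat) : Nat := @Bool.rec (fun _ => Nat) (Atab_19) (Atab_s_20_22 c) (Nat.ble 20 c)
noncomputable def Atab_s_16_22 (c : Nat) : Nat := @Bool.rec (fun _ => Nat) (Atab_s_16_19 c) (Atab_s_19_22 c) (Nat.ble 19 c)
noncomputable def Atab_s_11_22 (c : Nat) : Nat := @Bool.rec (fun _ => Nat) (Atab_s_11_16 c) (Atab_s_16_22 c) (Nat.ble 16 c)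
noncomputable def Atab_s_0_22 (c : Nat) : Nat := @Bool.rec (fun _ => Nat) (Atab_s_0_11 c) (Atab_s_11_22 c) (Nat.ble 11 c)
noncomputable def Atab (i : Nat) : Nat := rdw 33 8589934591 (Atab_s_0_22 (Nat.shiftRight i 11)) (Nat.land i 2047)
noncomputable def Btab_s_1_3 (c : Nat) : Nat := @Bool.rec (fun _ => Nat) (Btab_1) (Btab_2) (Nat.ble 2 c)
noncomputable def Btab_s_0_3 (c : Nat) : Nat := @Bool.rec (fun _ => Nat) (Btab_0) (Btab_s_1_3 c) (Nat.ble 1 c)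
noncomputable def Btab_s_4_6 (c : Nat) : Nat := @Bool.rec (fun _ => Nat) (Btab_4) (Btab_5) (Nat.ble 5 c)
noncomputable def Btab_s_3_6 (c : Nat) : Nat := @Bool.rec (fun _ => Nat) (Btab_3) (Btab_s_4_6 c) (Nat.ble 4 c)
noncomputable def Btab_s_0_6 (c : Nat) : Nat := @Bool.rec (fun _ => Nat) (Btab_s_0_3 c) (Btab_s_3_6 c) (Nat.ble 3 c)
noncomputable def Btab_s_7_9 (c : Nat) : Nat := @Bool.rec (fun _ => Nat) (Btab_7) (Btab_8) (Nat.ble 8 c)
noncomputable def Btab_s_6_9 (c : Nat) : Nat := @Bool.rec (fun _ => Nat) (Btab_6) (Btab_s_7_9 c) (Nat.ble 7 c)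
noncomputable def Btab_s_9_11 (c : Nat) : Nat := @Bool.rec (fun _ => Nat) (Btab_9) (Btab_10) (Nat.ble 10 c)
noncomputable def Btab_s_11_13 (c : Nat) : Nat := @Bool.rec (fun _ => Nat) (Btab_11) (Btab_12) (Nat.ble 12 c)
noncomputable def Btab_s_9_13 (c : Nat) : Nat := @Bool.rec (fun _ => Nat) (Btab_s_9_11 c) (Btab_s_11_13 c) (Nat.ble 11 c)
noncomputable def Btab_s_6_13 (c : Nat) : Nat := @Bool.rec (fun _ => Nat) (Btab_s_6_9 c) (Btab_s_9_13 c) (Nat.ble 9 c)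
noncomputable def Btab_s_0_13 (c : Nat) : Nat := @Bool.rec (fun _ => Nat) (Btab_s_0_6 c) (Btab_s_6_13 c) (Nat.ble 6 c)
noncomputable def Btab (i : Nat) : Nat := rdw 31 2147483647 (Btab_s_0_13 (Nat.shiftRight i 11)) (Nat.land i 2047)
noncomputable def Ptab_s_0_2 (c : Nat) : Nat := @Bool.rec (fun _ => Nat) (Ptab_0) (Ptab_1) (Nat.ble 1 c)
noncomputable def Ptab_s_2_4 (c : Nat) : Nat := @Bool.rec (fun _ => Nat) (Ptab_2) (Ptab_3) (Nat.ble 3 c)
noncomputable def Ptab_s_0_4 (c : Nat) : Nat := @Bool.rec (fun _ => Nat) (Ptab_s_0_2 c) (Ptab_s_2_4 c) (Nat.ble 2 c)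
noncomputable def Ptab_s_4_6 (c : Nat) : Nat := @Bool.rec (fun _ => Nat) (Ptab_4) (Ptab_5) (Nat.ble 5 c)
noncomputable def Ptab_s_6_8 (c : Nat) : Nat := @Bool.rec (fun _ => Nat) (Ptab_6) (Ptab_7) (Nat.ble 7 c)
noncomputable def Ptab_s_4_8 (c : Nat) : Nat := @Bool.rec (fun _ => Nat) (Ptab_s_4_6 c) (Ptab_s_6_8 c) (Nat.ble 6 c)
noncomputable def Ptab_s_0_8 (c : Nat) : Nat := @Bool.rec (fun _ => Nat) (Ptab_s_0_4 c) (Ptab_s_4_8 c) (Nat.ble 4 c)
noncomputable def Ptab_s_8_10 (c : Nat) : Nat := @Bool.rec (fun _ => Nat) (Ptab_8) (Ptab_9) (Nat.ble 9 c)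
noncomputable def Ptab_s_10_12 (c : Nat) : Nat := @Bool.rec (fun _ => Nat) (Ptab_10) (Ptab_11) (Nat.ble 11 c)
noncomputable def Ptab_s_8_12 (c : Nat) : Nat := @Bool.rec (fun _ => Nat) (Ptab_s_8_10 c) (Ptab_s_10_12 c) (Nat.ble 10 c)
noncomputable def Ptab_s_12_14 (c : Nat) : Nat := @Bool.rec (fun _ => Nat) (Ptab_12) (Ptab_13) (Nat.ble 13 c)
noncomputable def Ptab_s_14_16 (c : Nat) : Nat := @Bool.rec (fun _ => Nat) (Ptab_14) (Ptab_15) (Nat.ble 15 c)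
noncomputable def Ptab_s_12_16 (c : Nat) : Nat := @Bool.rec (fun _ => Nat) (Ptab_s_12_14 c) (Ptab_s_14_16 c) (Nat.ble 14 c)
noncomputable def Ptab_s_8_16 (c : Nat) : Nat := @Bool.rec (fun _ => Nat) (Ptab_s_8_12 c) (Ptab_s_12_16 c) (Nat.ble 12 c)
noncomputable def Ptab_s_0_16 (c : Nat) : Nat := @Bool.rec (fun _ => Nat) (Ptab_s_0_8 c) (Ptab_s_8_16 c) (Nat.ble 8 c)
noncomputable def Ptab_s_16_18 (c : Nat) : Nat := @Bool.rec (fun _ => Nat) (Ptab_16) (Ptab_17) (Nat.ble 17 c)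
noncomputable def Ptab_s_18_20 (c : Nat) : Nat := @Bool.rec (fun _ => Nat) (Ptab_18) (Ptab_19) (Nat.ble 19 c)
noncomputable def Ptab_s_16_20 (c : Nat) : Nat := @Bool.rec (fun _ => Nat) (Ptab_s_16_18 c) (Ptab_s_18_20 c) (Nat.ble 18 c)
noncomputable def Ptab_s_20_22 (c : Nat) : Nat := @Bool.rec (fun _ => Nat) (Ptab_20) (Ptab_21) (Nat.ble 21 c)
noncomputable def Ptab_s_22_24 (c : Nat) : Nat := @Bool.rec (fun _ => Nat) (Ptab_22) (Ptab_23) (Nat.ble 23 c)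
noncomputable def Ptab_s_20_24 (c : Nat) : Nat := @Bool.rec (fun _ => Nat) (Ptab_s_20_22 c) (Ptab_s_22_24 c) (Nat.ble 22 c)
noncomputable def Ptab_s_16_24 (c : Nat) : Nat := @Bool.rec (fun _ => Nat) (Ptab_s_16_20 c) (Ptab_s_20_24 c) (Nat.ble 20 c)
noncomputable def Ptab_s_24_26 (c : Nat) : Nat := @Bool.rec (fun _ => Nat) (Ptab_24) (Ptab_25) (Nat.ble 25 c)
noncomputable def Ptab_s_26_28 (c : Nat) : Nat := @Bool.rec (fun _ => Nat) (Ptab_26) (Ptab_27) (Nat.ble 27 c)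
noncomputable def Ptab_s_24_28 (c : Nat) : Nat := @Bool.rec (fun _ => Nat) (Ptab_s_24_26 c) (Ptab_s_26_28 c) (Nat.ble 26 c)
noncomputable def Ptab_s_28_30 (c : Nat) : Nat := @Bool.rec (fun _ => Nat) (Ptab_28) (Ptab_29) (Nat.ble 29 c)
noncomputable def Ptab_s_30_32 (c : Nat) : Nat := @Bool.rec (fun _ => Nat) (Ptab_30) (Ptab_31) (Nat.ble 31 c)
noncomputable def Ptab_s_28_32 (c : Nat) : Nat := @Bool.rec (fun _ => Nat) (Ptab_s_28_30 c) (Ptab_s_30_32 c) (Nat.ble 30 c)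
noncomputable def Ptab_s_24_32 (c : Nat) : Nat := @Bool.rec (fun _ => Nat) (Ptab_s_24_28 c) (Ptab_s_28_32 c) (Nat.ble 28 c)
noncomputable def Ptab_s_16_32 (c : Nat) : Nat := @Bool.rec (fun _ => Nat) (Ptab_s_16_24 c) (Ptab_s_24_32 c) (Nat.ble 24 c)
noncomputable def Ptab_s_0_32 (c : Nat) : Nat := @Bool.rec (fun _ => Nat) (Ptab_s_0_16 c) (Ptab_s_16_32 c) (Nat.ble 16 c)
noncomputable def Ptab (i : Nat) : Nat := rdw 17 131071 (Ptab_s_0_32 (Nat.shiftRight i 12)) (Nat.land i 4095)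
noncomputable def RRtab (i : Nat) : Nat := rdw 3 7 RRtab_0 i
noncomputable def rBtab (i : Nat) : Nat := rdw 8 255 rBtab_0 i
noncomputable def rLtab (i : Nat) : Nat := rdw 4 15 rLtab_0 i
noncomputable def nameTab_s_0_2 (c : Nat) : Nat := @Bool.rec (fun _ => Nat) (nameTab_0) (nameTab_1) (Nat.ble 1 c)
noncomputable def nameTab (i : Nat) : Nat := rdw 15 32767 (nameTab_s_0_2 (Nat.shiftRight i 12)) (Nat.land i 4095)
noncomputable def col0_s_0_2 (c : Nat) : Nat := @Bool.rec (fun _ => Nat) (col0_0) (col0_1) (Nat.ble 1 c)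
noncomputable def col0 (i : Nat) : Nat := rdw 13 8191 (col0_s_0_2 (Nat.shiftRight i 12)) (Nat.land i 4095)
noncomputable def col1_s_0_2 (c : Nat) : Nat := @Bool.rec (fun _ => Nat) (col1_0) (col1_1) (Nat.ble 1 c)
noncomputable def col1 (i : Nat) : Nat := rdw 13 8191 (col1_s_0_2 (Nat.shiftRight i 12)) (Nat.land i 4095)
noncomputable def col2_s_0_2 (c : Nat) : Nat := @Bool.rec (fun _ => Nat) (col2_0) (col2_1) (Nat.ble 1 c)
noncomputable def col2 (i : Nat) : Nat := rdw 13 8191 (col2_s_0_2 (Nat.shiftRight i 12)) (Nat.land i 4095)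
noncomputable def col3_s_0_2 (c : Nat) : Nat := @Bool.rec (fun _ => Nat) (col3_0) (col3_1) (Nat.ble 1 c)
noncomputable def col3 (i : Nat) : Nat := rdw 13 8191 (col3_s_0_2 (Nat.shiftRight i 12)) (Nat.land i 4095)
noncomputable def finTab_s_1_3 (c : Nat) : Nat := @Bool.rec (fun _ => Nat) (finTab_1) (finTab_2) (Nat.ble 2 c)
noncomputable def finTab_s_0_3 (c : Nat) : Nat := @Bool.rec (fun _ => Nat) (finTab_0) (finTab_s_1_3 c) (Nat.ble 1 c)
noncomputable def finTab_s_4_6 (c : Nat) : Nat := @Bool.rec (fun _ => Nat) (finTab_4) (finTab_5) (Nat.ble 5 c)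
noncomputable def finTab_s_3_6 (c : Nat) : Nat := @Bool.rec (fun _ => Nat) (finTab_3) (finTab_s_4_6 c) (Nat.ble 4 c)
noncomputable def finTab_s_0_6 (c : Nat) : Nat := @Bool.rec (fun _ => Nat) (finTab_s_0_3 c) (finTab_s_3_6 c) (Nat.ble 3 c)
noncomputable def finTab (i : Nat) : Nat := rdw 17 131071 (finTab_s_0_6 (Nat.shiftRight i 12)) (Nat.land i 4095)
noncomputable def clsTab_s_0_2 (c : Nat) : Nat := @Bool.rec (fun _ => Nat) (clsTab_0) (clsTab_1) (Nat.ble 1 c)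
noncomputable def clsTab_s_3_5 (c : Nat) : Nat := @Bool.rec (fun _ => Nat) (clsTab_3) (clsTab_4) (Nat.ble 4 c)
noncomputable def clsTab_s_2_5 (c : Nat) : Nat := @Bool.rec (fun _ => Nat) (clsTab_2) (clsTab_s_3_5 c) (Nat.ble 3 c)
noncomputable def clsTab_s_0_5 (c : Nat) : Nat := @Bool.rec (fun _ => Nat) (clsTab_s_0_2 c) (clsTab_s_2_5 c) (Nat.ble 2 c)
noncomputable def clsTab (i : Nat) : Nat := rdw 13 8191 (clsTab_s_0_5 (Nat.shiftRight i 12)) (Nat.land i 4095)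
noncomputable def oparTab_s_0_2 (c : Nat) : Nat := @Bool.rec (fun _ => Nat) (oparTab_0) (oparTab_1) (Nat.ble 1 c)
noncomputable def oparTab (i : Nat) : Nat := rdw 13 8191 (oparTab_s_0_2 (Nat.shiftRight i 12)) (Nat.land i 4095)
noncomputable def olabTab (i : Nat) : Nat := rdw 1 1 olabTab_0 i
noncomputable def srcF (t : Nat) : Nat := Nat.land (Atab t) 32767
noncomputable def tgtF (t : Nat) : Nat := Nat.land (Nat.shiftRight (Atab t) 15) 32767
noncomputable def ltF (t : Nat) : Nat := Nat.shiftRight (Atab t) 30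
noncomputable def rhoF (t : Nat) : Nat := Nat.land (Btab (Nat.sub t 18662)) 31
noncomputable def rotF (t : Nat) : Nat := Nat.land (Nat.shiftRight (Btab (Nat.sub t 18662)) 5) 15
noncomputable def lenF (t : Nat) : Nat := Nat.land (Nat.shiftRight (Btab (Nat.sub t 18662)) 9) 31
noncomputable def offF (t : Nat) : Nat := Nat.shiftRight (Btab (Nat.sub t 18662)) 14
noncomputable def pfF (j : Nat) : Nat := Nat.shiftRight (Ptab j) 1
noncomputable def pdF (j : Nat) : Nat := Nat.land (Ptab j) 1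
noncomputable def tblF (i x : Nat) : Nat := @Bool.rec (fun _ => Nat) (@Bool.rec (fun _ => Nat) (col0 i) (col1 i) (Nat.ble 1 x)) (@Bool.rec (fun _ => Nat) (col2 i) (col3 i) (Nat.ble 3 x)) (Nat.ble 2 x)
noncomputable def finE (i x : Nat) : Nat := finTab (Nat.add (Nat.mul i 4) x)
noncomputable def finFF (i x : Nat) : Nat := Nat.shiftRight (finE i x) 1
noncomputable def finDF (i x : Nat) : Nat := Nat.land (finE i x) 1

noncomputable def D : Log :=
  { k := 4, inv := invE 4 PC2A8.invR, nR := 18, rBase := rBtab, rLen := rLtab, RR := RRtab,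
    M := 18660, nB := 2, F := 44653, src := srcF, lt := ltF, tgt := tgtF, rho := rhoF, rot := rotF,
    off := offF, len := lenF, pf := pfF, pd := pdF }

noncomputable def T : Tab :=
  { N := 5760, nameOf := nameTab, tbl := tblF, finF := finFF, finD := finDF, cls := clsTab }

def subs : List (List Nat) := [
  [0] ]

def rw0 : List Nat := [0, 0, 0, 0, 0, 0, 0]
def rw1 : List Nat := [2, 2, 2, 2, 2, 2, 2]
def rw2 : List Nat := [0, 0, 2, 0, 2, 2, 2, 1, 2, 2, 1, 2]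
def rw3 : List Nat := [0, 2, 0, 3, 1, 3, 3, 1, 2, 0, 2, 2]
def realLit : List (List Nat) := [rw0, rw1, rw2, rw3]
noncomputable def actR0 (i : Nat) : Nat := col1 (col1 (col1 (col1 (col1 (col1 (col1 (i)))))))
theorem actR0_eq (i : Nat) : actR0 i = Tab.act T D rw0 i := rfl
noncomputable def actR1 (i : Nat) : Nat := col3 (col3 (col3 (col3 (col3 (col3 (col3 (i)))))))
theorem actR1_eq (i : Nat) : actR1 i = Tab.act T D rw1 i := rfl
noncomputable def actR2 (i : Nat) : Nat := col1 (col1 (col3 (col1 (col3 (col3 (col3 (col0 (col3 (col3 (col0 (col3 (i))))))))))))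
theorem actR2_eq (i : Nat) : actR2 i = Tab.act T D rw2 i := rfl
noncomputable def actR3 (i : Nat) : Nat := col1 (col3 (col1 (col2 (col0 (col2 (col2 (col0 (col3 (col1 (col3 (col3 (i))))))))))))
theorem actR3_eq (i : Nat) : actR3 i = Tab.act T D rw3 i := rfl

end Cfsg.Agent.Lib.Helper4.TCD.C2A8A
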