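import Cfsg.Agent.Lib.Helper4.TC11
import Cfsg.Agent.Lib.Helper4.TCD_C2A8A_Acc
import Cfsg.Agent.Lib.Helper4.TCD_C2A8L_D0

namespace Cfsg.Agent.Lib.Helper4.TCD.C2A8L

open Cfsg.Agent.Lib.Helper4.TC Cfsg.Agent.Lib.Helper4.TCD.C2A8A

set_option maxRecDepth 100000

noncomputable def st4_s_0_2 (c : Nat) : Nat := @Bool.rec (fun _ => Nat) (st4_0) (st4_1) (Nat.ble 1 c)
noncomputable def st4 (i : Nat) : Nat := rdw 13 8191 (st4_s_0_2 (Nat.shiftRight i 12)) (Nat.land i 4095)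
noncomputable def st5_s_0_2 (c : Nat) : Nat := @Bool.rec (fun _ => Nat) (st5_0) (st5_1) (Nat.ble 1 c)
noncomputable def st5 (i : Nat) : Nat := rdw 13 8191 (st5_s_0_2 (Nat.shiftRight i 12)) (Nat.land i 4095)
noncomputable def levTab (i : Nat) : Nat := rdw 2 3 levTab_0 i
noncomputable def betaTab (i : Nat) : Nat := rdw 13 8191 betaTab_0 i
noncomputable def nodeTab_s_1_3 (c : Nat) : Nat := @Bool.rec (fun _ => Nat) (nodeTab_1) (nodeTab_2) (Nat.ble 2 c)
noncomputable def nodeTab_s_0_3 (c : Nat) : Nat := @Bool.rec (fun _ => Nat) (nodeTab_0) (nodeTab_s_1_3 c) (Nat.ble 1 c)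
noncomputable def nodeTab (i : Nat) : Nat := rdw 33 8589934591 (nodeTab_s_0_3 (Nat.shiftRight i 11)) (Nat.land i 2047)
noncomputable def offTab (i : Nat) : Nat := rdw 13 8191 offTab_0 i
noncomputable def nTab (i : Nat) : Nat := rdw 13 8191 nTab_0 i
noncomputable def rootTab (i : Nat) : Nat := rdw 13 8191 rootTab_0 i
noncomputable def tabF (i p : Nat) : Nat := @Bool.rec (fun _ => Nat) (@Bool.rec (fun _ => Nat) (col1 p) (@Bool.rec (fun _ => Nat) (col0 p) (col3 p) (Nat.ble 2 i)) (Nat.ble 1 i)) (@Bool.rec (fun _ => Nat) (col2 p) (@Bool.rec (fun _ => Nat) (st4 p) (st5 p) (Nat.ble 5 i)) (Nat.ble 4 i)) (Nat.ble 3 i)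
def wAF : Nat → List Nat
  | 4 => [2, 0, 0, 3, 3, 3]
  | 5 => [4]
  | _ => []
def wBF : Nat → List Nat
  | 4 => [0, 0, 2, 2, 1, 3, 3]
  | 5 => []
  | _ => []
noncomputable def ptF (j idx : Nat) : Nat := Nat.land (nodeTab (Nat.add (offTab j) idx)) 8191
noncomputable def parF (j idx : Nat) : Nat := Nat.land (Nat.shiftRight (nodeTab (Nat.add (offTab j) idx)) 13) 8191
noncomputable def giF (j idx : Nat) : Nat := Nat.land (Nat.shiftRight (nodeTab (Nat.add (offTab j) idx)) 26) 7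
noncomputable def depF (j idx : Nat) : Nat := Nat.shiftRight (nodeTab (Nat.add (offTab j) idx)) 29

noncomputable def S : Sgs :=
  { N := 5760, k := 4, m := 6, tab := tabF, wA := wAF, wB := wBF, lev := levTab, r := 2, beta := betaTab,
    n := nTab, root := rootTab, pt := ptF, par := parF, gi := giF, dep := depF }

noncomputable def chk4 (p : Nat) : Bool := band (Nat.ble (Nat.succ (st4 p)) 5760) (Nat.beq (col3 (col1 (col1 (col2 (col2 (col2 (st4 p))))))) (col1 (col1 (col3 (col3 (col0 (col2 (col2 p))))))))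
theorem chk4_eq (p : Nat) : chk4 p = Sgs.permOK S 4 p := rfl
noncomputable def chk5 (p : Nat) : Bool := band (Nat.ble (Nat.succ (st5 p)) 5760) (Nat.beq (st4 (st5 p)) p)
theorem chk5_eq (p : Nat) : chk5 p = Sgs.permOK S 5 p := rfl

end Cfsg.Agent.Lib.Helper4.TCD.C2A8L
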