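namespace Cfsg.Agent.Lib.Helper4.TCD.C2A8U2

noncomputable def Atab_0 : Nat := nat_lit 0x6e742b6219500880
noncomputable def Btab_0 : Nat := nat_lit 0x18b
noncomputable def Ptab_0 : Nat := nat_lit 0x18820ceb
noncomputable def RRtab_0 : Nat := nat_lit 0x1144555555511440000000
noncomputable def rBtab_0 : Nat := nat_lit 0xa24592380
noncomputable def rLtab_0 : Nat := nat_lit 0x12e97
noncomputable def nameTab_0 : Nat := nat_lit 0x1ac688
noncomputable def col0_0 : Nat := nat_lit 0x132a19
noncomputable def col1_0 : Nat := nat_lit 0x15e302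
noncomputable def finTab_0 : Nat := nat_lit 0x1cd5bd893a90519882
noncomputable def clsTab_0 : Nat := nat_lit 0x1ac688

end Cfsg.Agent.Lib.Helper4.TCD.C2A8U2
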