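import Cfsg.Agent.Lib.Helper4.TC7
import Cfsg.Agent.Lib.Helper4.TCP_C2Fi22x
import Cfsg.Agent.Lib.Helper4.TCD_C2Fi22xB_D0
import Cfsg.Agent.Lib.Helper4.TCD_C2Fi22xB_D1
import Cfsg.Agent.Lib.Helper4.TCD_C2Fi22xB_D2
import Cfsg.Agent.Lib.Helper4.TCD_C2Fi22xB_D3
import Cfsg.Agent.Lib.Helper4.TCD_C2Fi22xB_D4
import Cfsg.Agent.Lib.Helper4.TCD_C2Fi22xB_D5

namespace Cfsg.Agent.Lib.Helper4.TCD.C2Fi22xB

open Cfsg.Agent.Lib.Helper4.TC

set_option maxRecDepth 100000

noncomputable def Atab_s_0_2 (c : Nat) : Nat := @Bool.rec (fun _ => Nat) (Atab_0) (Atab_1) (Nat.ble 1 c)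
noncomputable def Atab_s_2_4 (c : Nat) : Nat := @Bool.rec (fun _ => Nat) (Atab_2) (Atab_3) (Nat.ble 3 c)
noncomputable def Atab_s_0_4 (c : Nat) : Nat := @Bool.rec (fun _ => Nat) (Atab_s_0_2 c) (Atab_s_2_4 c) (Nat.ble 2 c)
noncomputable def Atab_s_4_6 (c : Nat) : Nat := @Bool.rec (fun _ => Nat) (Atab_4) (Atab_5) (Nat.ble 5 c)
noncomputable def Atab_s_6_8 (c : Nat) : Nat := @Bool.rec (fun _ => Nat) (Atab_6) (Atab_7) (Nat.ble 7 c)
noncomputable def Atab_s_4_8 (c : Nat) : Nat := @Bool.rec (fun _ => Nat) (Atab_s_4_6 c) (Atab_s_6_8 c) (Nat.ble 6 c)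
noncomputable def Atab_s_0_8 (c : Nat) : Nat := @Bool.rec (fun _ => Nat) (Atab_s_0_4 c) (Atab_s_4_8 c) (Nat.ble 4 c)
noncomputable def Atab_s_8_10 (c : Nat) : Nat := @Bool.rec (fun _ => Nat) (Atab_8) (Atab_9) (Nat.ble 9 c)
noncomputable def Atab_s_10_12 (c : Nat) : Nat := @Bool.rec (fun _ => Nat) (Atab_10) (Atab_11) (Nat.ble 11 c)
noncomputable def Atab_s_8_12 (c : Nat) : Nat := @Bool.rec (fun _ => Nat) (Atab_s_8_10 c) (Atab_s_10_12 c) (Nat.ble 10 c)
noncomputable def Atab_s_12_14 (c : Nat) : Nat := @Bool.rec (fun _ => Nat) (Atab_12) (Atab_13) (Nat.ble 13 c)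
noncomputable def Atab_s_15_17 (c : Nat) : Nat := @Bool.rec (fun _ => Nat) (Atab_15) (Atab_16) (Nat.ble 16 c)
noncomputable def Atab_s_14_17 (c : Nat) : Nat := @Bool.rec (fun _ => Nat) (Atab_14) (Atab_s_15_17 c) (Nat.ble 15 c)
noncomputable def Atab_s_12_17 (c : Nat) : Nat := @Bool.rec (fun _ => Nat) (Atab_s_12_14 c) (Atab_s_14_17 c) (Nat.ble 14 c)
noncomputable def Atab_s_8_17 (c : Nat) : Nat := @Bool.rec (fun _ => Nat) (Atab_s_8_12 c) (Atab_s_12_17 c) (Nat.ble 12 c)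
noncomputable def Atab_s_0_17 (c : Nat) : Nat := @Bool.rec (fun _ => Nat) (Atab_s_0_8 c) (Atab_s_8_17 c) (Nat.ble 8 c)
noncomputable def Atab_s_17_19 (c : Nat) : Nat := @Bool.rec (fun _ => Nat) (Atab_17) (Atab_18) (Nat.ble 18 c)
noncomputable def Atab_s_19_21 (c : Nat) : Nat := @Bool.rec (fun _ => Nat) (Atab_19) (Atab_20) (Nat.ble 20 c)
noncomputable def Atab_s_17_21 (c : Nat) : Nat := @Bool.rec (fun _ => Nat) (Atab_s_17_19 c) (Atab_s_19_21 c) (Nat.ble 19 c)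
noncomputable def Atab_s_21_23 (c : Nat) : Nat := @Bool.rec (fun _ => Nat) (Atab_21) (Atab_22) (Nat.ble 22 c)
noncomputable def Atab_s_24_26 (c : Nat) : Nat := @Bool.rec (fun _ => Nat) (Atab_24) (Atab_25) (Nat.ble 25 c)
noncomputable def Atab_s_23_26 (c : Nat) : Nat := @Bool.rec (fun _ => Nat) (Atab_23) (Atab_s_24_26 c) (Nat.ble 24 c)
noncomputable def Atab_s_21_26 (c : Nat) : Nat := @Bool.rec (fun _ => Nat) (Atab_s_21_23 c) (Atab_s_23_26 c) (Nat.ble 23 c)
noncomputable def Atab_s_17_26 (c : Nat) : Nat := @Bool.rec (fun _ => Nat) (Atab_s_17_21 c) (Atab_s_21_26 c) (Nat.ble 21 c)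
noncomputable def Atab_s_26_28 (c : Nat) : Nat := @Bool.rec (fun _ => Nat) (Atab_26) (Atab_27) (Nat.ble 27 c)
noncomputable def Atab_s_28_30 (c : Nat) : Nat := @Bool.rec (fun _ => Nat) (Atab_28) (Atab_29) (Nat.ble 29 c)
noncomputable def Atab_s_26_30 (c : Nat) : Nat := @Bool.rec (fun _ => Nat) (Atab_s_26_28 c) (Atab_s_28_30 c) (Nat.ble 28 c)
noncomputable def Atab_s_30_32 (c : Nat) : Nat := @Bool.rec (fun _ => Nat) (Atab_30) (Atab_31) (Nat.ble 31 c)
noncomputable def Atab_s_33_35 (c : Nat) : Nat := @Bool.rec (fun _ => Nat) (Atab_33) (Atab_34) (Nat.ble 34 c)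
noncomputable def Atab_s_32_35 (c : Nat) : Nat := @Bool.rec (fun _ => Nat) (Atab_32) (Atab_s_33_35 c) (Nat.ble 33 c)
noncomputable def Atab_s_30_35 (c : Nat) : Nat := @Bool.rec (fun _ => Nat) (Atab_s_30_32 c) (Atab_s_32_35 c) (Nat.ble 32 c)
noncomputable def Atab_s_26_35 (c : Nat) : Nat := @Bool.rec (fun _ => Nat) (Atab_s_26_30 c) (Atab_s_30_35 c) (Nat.ble 30 c)
noncomputable def Atab_s_17_35 (c : Nat) : Nat := @Bool.rec (fun _ => Nat) (Atab_s_17_26 c) (Atab_s_26_35 c) (Nat.ble 26 c)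
noncomputable def Atab_s_0_35 (c : Nat) : Nat := @Bool.rec (fun _ => Nat) (Atab_s_0_17 c) (Atab_s_17_35 c) (Nat.ble 17 c)
noncomputable def Atab_s_35_37 (c : Nat) : Nat := @Bool.rec (fun _ => Nat) (Atab_35) (Atab_36) (Nat.ble 36 c)
noncomputable def Atab_s_37_39 (c : Nat) : Nat := @Bool.rec (fun _ => Nat) (Atab_37) (Atab_38) (Nat.ble 38 c)
noncomputable def Atab_s_35_39 (c : Nat) : Nat := @Bool.rec (fun _ => Nat) (Atab_s_35_37 c) (Atab_s_37_39 c) (Nat.ble 37 c)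
noncomputable def Atab_s_39_41 (c : Nat) : Nat := @Bool.rec (fun _ => Nat) (Atab_39) (Atab_40) (Nat.ble 40 c)
noncomputable def Atab_s_42_44 (c : Nat) : Nat := @Bool.rec (fun _ => Nat) (Atab_42) (Atab_43) (Nat.ble 43 c)
noncomputable def Atab_s_41_44 (c : Nat) : Nat := @Bool.rec (fun _ => Nat) (Atab_41) (Atab_s_42_44 c) (Nat.ble 42 c)
noncomputable def Atab_s_39_44 (c : Nat) : Nat := @Bool.rec (fun _ => Nat) (Atab_s_39_41 c) (Atab_s_41_44 c) (Nat.ble 41 c)
noncomputable def Atab_s_35_44 (c : Nat) : Nat := @Bool.rec (fun _ => Nat) (Atab_s_35_39 c) (Atab_s_39_44 c) (Nat.ble 39 c)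
noncomputable def Atab_s_44_46 (c : Nat) : Nat := @Bool.rec (fun _ => Nat) (Atab_44) (Atab_45) (Nat.ble 45 c)
noncomputable def Atab_s_46_48 (c : Nat) : Nat := @Bool.rec (fun _ => Nat) (Atab_46) (Atab_47) (Nat.ble 47 c)
noncomputable def Atab_s_44_48 (c : Nat) : Nat := @Bool.rec (fun _ => Nat) (Atab_s_44_46 c) (Atab_s_46_48 c) (Nat.ble 46 c)
noncomputable def Atab_s_48_50 (c : Nat) : Nat := @Bool.rec (fun _ => Nat) (Atab_48) (Atab_49) (Nat.ble 49 c)
noncomputable def Atab_s_51_53 (c : Nat) : Nat := @Bool.rec (fun _ => Nat) (Atab_51) (Atab_52) (Nat.ble 52 c)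
noncomputable def Atab_s_50_53 (c : Nat) : Nat := @Bool.rec (fun _ => Nat) (Atab_50) (Atab_s_51_53 c) (Nat.ble 51 c)
noncomputable def Atab_s_48_53 (c : Nat) : Nat := @Bool.rec (fun _ => Nat) (Atab_s_48_50 c) (Atab_s_50_53 c) (Nat.ble 50 c)
noncomputable def Atab_s_44_53 (c : Nat) : Nat := @Bool.rec (fun _ => Nat) (Atab_s_44_48 c) (Atab_s_48_53 c) (Nat.ble 48 c)
noncomputable def Atab_s_35_53 (c : Nat) : Nat := @Bool.rec (fun _ => Nat) (Atab_s_35_44 c) (Atab_s_44_53 c) (Nat.ble 44 c)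
noncomputable def Atab_s_53_55 (c : Nat) : Nat := @Bool.rec (fun _ => Nat) (Atab_53) (Atab_54) (Nat.ble 54 c)
noncomputable def Atab_s_55_57 (c : Nat) : Nat := @Bool.rec (fun _ => Nat) (Atab_55) (Atab_56) (Nat.ble 56 c)
noncomputable def Atab_s_53_57 (c : Nat) : Nat := @Bool.rec (fun _ => Nat) (Atab_s_53_55 c) (Atab_s_55_57 c) (Nat.ble 55 c)
noncomputable def Atab_s_57_59 (c : Nat) : Nat := @Bool.rec (fun _ => Nat) (Atab_57) (Atab_58) (Nat.ble 58 c)
noncomputable def Atab_s_60_62 (c : Nat) : Nat := @Bool.rec (fun _ => Nat) (Atab_60) (Atab_61) (Nat.ble 61 c)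
noncomputable def Atab_s_59_62 (c : Nat) : Nat := @Bool.rec (fun _ => Nat) (Atab_59) (Atab_s_60_62 c) (Nat.ble 60 c)
noncomputable def Atab_s_57_62 (c : Nat) : Nat := @Bool.rec (fun _ => Nat) (Atab_s_57_59 c) (Atab_s_59_62 c) (Nat.ble 59 c)
noncomputable def Atab_s_53_62 (c : Nat) : Nat := @Bool.rec (fun _ => Nat) (Atab_s_53_57 c) (Atab_s_57_62 c) (Nat.ble 57 c)
noncomputable def Atab_s_62_64 (c : Nat) : Nat := @Bool.rec (fun _ => Nat) (Atab_62) (Atab_63) (Nat.ble 63 c)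
noncomputable def Atab_s_64_66 (c : Nat) : Nat := @Bool.rec (fun _ => Nat) (Atab_64) (Atab_65) (Nat.ble 65 c)
noncomputable def Atab_s_62_66 (c : Nat) : Nat := @Bool.rec (fun _ => Nat) (Atab_s_62_64 c) (Atab_s_64_66 c) (Nat.ble 64 c)
noncomputable def Atab_s_66_68 (c : Nat) : Nat := @Bool.rec (fun _ => Nat) (Atab_66) (Atab_67) (Nat.ble 67 c)
noncomputable def Atab_s_69_71 (c : Nat) : Nat := @Bool.rec (fun _ => Nat) (Atab_69) (Atab_70) (Nat.ble 70 c)
noncomputable def Atab_s_68_71 (c : Nat) : Nat := @Bool.rec (fun _ => Nat) (Atab_68) (Atab_s_69_71 c) (Nat.ble 69 c)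
noncomputable def Atab_s_66_71 (c : Nat) : Nat := @Bool.rec (fun _ => Nat) (Atab_s_66_68 c) (Atab_s_68_71 c) (Nat.ble 68 c)
noncomputable def Atab_s_62_71 (c : Nat) : Nat := @Bool.rec (fun _ => Nat) (Atab_s_62_66 c) (Atab_s_66_71 c) (Nat.ble 66 c)
noncomputable def Atab_s_53_71 (c : Nat) : Nat := @Bool.rec (fun _ => Nat) (Atab_s_53_62 c) (Atab_s_62_71 c) (Nat.ble 62 c)
noncomputable def Atab_s_35_71 (c : Nat) : Nat := @Bool.rec (fun _ => Nat) (Atab_s_35_53 c) (Atab_s_53_71 c) (Nat.ble 53 c)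
noncomputable def Atab_s_0_71 (c : Nat) : Nat := @Bool.rec (fun _ => Nat) (Atab_s_0_35 c) (Atab_s_35_71 c) (Nat.ble 35 c)
noncomputable def Atab (i : Nat) : Nat := rdw 35 34359738367 (Atab_s_0_71 (Nat.shiftRight i 11)) (Nat.land i 2047)
noncomputable def Btab_s_0_2 (c : Nat) : Nat := @Bool.rec (fun _ => Nat) (Btab_0) (Btab_1) (Nat.ble 1 c)
noncomputable def Btab_s_2_4 (c : Nat) : Nat := @Bool.rec (fun _ => Nat) (Btab_2) (Btab_3) (Nat.ble 3 c)
noncomputable def Btab_s_0_4 (c : Nat) : Nat := @Bool.rec (fun _ => Nat) (Btab_s_0_2 c) (Btab_s_2_4 c) (Nat.ble 2 c)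
noncomputable def Btab_s_4_6 (c : Nat) : Nat := @Bool.rec (fun _ => Nat) (Btab_4) (Btab_5) (Nat.ble 5 c)
noncomputable def Btab_s_6_8 (c : Nat) : Nat := @Bool.rec (fun _ => Nat) (Btab_6) (Btab_7) (Nat.ble 7 c)
noncomputable def Btab_s_4_8 (c : Nat) : Nat := @Bool.rec (fun _ => Nat) (Btab_s_4_6 c) (Btab_s_6_8 c) (Nat.ble 6 c)
noncomputable def Btab_s_0_8 (c : Nat) : Nat := @Bool.rec (fun _ => Nat) (Btab_s_0_4 c) (Btab_s_4_8 c) (Nat.ble 4 c)
noncomputable def Btab_s_8_10 (c : Nat) : Nat := @Bool.rec (fun _ => Nat) (Btab_8) (Btab_9) (Nat.ble 9 c)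
noncomputable def Btab_s_10_12 (c : Nat) : Nat := @Bool.rec (fun _ => Nat) (Btab_10) (Btab_11) (Nat.ble 11 c)
noncomputable def Btab_s_8_12 (c : Nat) : Nat := @Bool.rec (fun _ => Nat) (Btab_s_8_10 c) (Btab_s_10_12 c) (Nat.ble 10 c)
noncomputable def Btab_s_12_14 (c : Nat) : Nat := @Bool.rec (fun _ => Nat) (Btab_12) (Btab_13) (Nat.ble 13 c)
noncomputable def Btab_s_14_16 (c : Nat) : Nat := @Bool.rec (fun _ => Nat) (Btab_14) (Btab_15) (Nat.ble 15 c)
noncomputable def Btab_s_12_16 (c : Nat) : Nat := @Bool.rec (fun _ => Nat) (Btab_s_12_14 c) (Btab_s_14_16 c) (Nat.ble 14 c)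
noncomputable def Btab_s_8_16 (c : Nat) : Nat := @Bool.rec (fun _ => Nat) (Btab_s_8_12 c) (Btab_s_12_16 c) (Nat.ble 12 c)
noncomputable def Btab_s_0_16 (c : Nat) : Nat := @Bool.rec (fun _ => Nat) (Btab_s_0_8 c) (Btab_s_8_16 c) (Nat.ble 8 c)
noncomputable def Btab_s_16_18 (c : Nat) : Nat := @Bool.rec (fun _ => Nat) (Btab_16) (Btab_17) (Nat.ble 17 c)
noncomputable def Btab_s_18_20 (c : Nat) : Nat := @Bool.rec (fun _ => Nat) (Btab_18) (Btab_19) (Nat.ble 19 c)
noncomputable def Btab_s_16_20 (c : Nat) : Nat := @Bool.rec (fun _ => Nat) (Btab_s_16_18 c) (Btab_s_18_20 c) (Nat.ble 18 c)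
noncomputable def Btab_s_20_22 (c : Nat) : Nat := @Bool.rec (fun _ => Nat) (Btab_20) (Btab_21) (Nat.ble 21 c)
noncomputable def Btab_s_22_24 (c : Nat) : Nat := @Bool.rec (fun _ => Nat) (Btab_22) (Btab_23) (Nat.ble 23 c)
noncomputable def Btab_s_20_24 (c : Nat) : Nat := @Bool.rec (fun _ => Nat) (Btab_s_20_22 c) (Btab_s_22_24 c) (Nat.ble 22 c)
noncomputable def Btab_s_16_24 (c : Nat) : Nat := @Bool.rec (fun _ => Nat) (Btab_s_16_20 c) (Btab_s_20_24 c) (Nat.ble 20 c)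
noncomputable def Btab_s_24_26 (c : Nat) : Nat := @Bool.rec (fun _ => Nat) (Btab_24) (Btab_25) (Nat.ble 25 c)
noncomputable def Btab_s_26_28 (c : Nat) : Nat := @Bool.rec (fun _ => Nat) (Btab_26) (Btab_27) (Nat.ble 27 c)
noncomputable def Btab_s_24_28 (c : Nat) : Nat := @Bool.rec (fun _ => Nat) (Btab_s_24_26 c) (Btab_s_26_28 c) (Nat.ble 26 c)
noncomputable def Btab_s_28_30 (c : Nat) : Nat := @Bool.rec (fun _ => Nat) (Btab_28) (Btab_29) (Nat.ble 29 c)
noncomputable def Btab_s_30_32 (c : Nat) : Nat := @Bool.rec (fun _ => Nat) (Btab_30) (Btab_31) (Nat.ble 31 c)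
noncomputable def Btab_s_28_32 (c : Nat) : Nat := @Bool.rec (fun _ => Nat) (Btab_s_28_30 c) (Btab_s_30_32 c) (Nat.ble 30 c)
noncomputable def Btab_s_24_32 (c : Nat) : Nat := @Bool.rec (fun _ => Nat) (Btab_s_24_28 c) (Btab_s_28_32 c) (Nat.ble 28 c)
noncomputable def Btab_s_16_32 (c : Nat) : Nat := @Bool.rec (fun _ => Nat) (Btab_s_16_24 c) (Btab_s_24_32 c) (Nat.ble 24 c)
noncomputable def Btab_s_0_32 (c : Nat) : Nat := @Bool.rec (fun _ => Nat) (Btab_s_0_16 c) (Btab_s_16_32 c) (Nat.ble 16 c)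
noncomputable def Btab_s_32_34 (c : Nat) : Nat := @Bool.rec (fun _ => Nat) (Btab_32) (Btab_33) (Nat.ble 33 c)
noncomputable def Btab_s_34_36 (c : Nat) : Nat := @Bool.rec (fun _ => Nat) (Btab_34) (Btab_35) (Nat.ble 35 c)
noncomputable def Btab_s_32_36 (c : Nat) : Nat := @Bool.rec (fun _ => Nat) (Btab_s_32_34 c) (Btab_s_34_36 c) (Nat.ble 34 c)
noncomputable def Btab_s_36_38 (c : Nat) : Nat := @Bool.rec (fun _ => Nat) (Btab_36) (Btab_37) (Nat.ble 37 c)
noncomputable def Btab_s_38_40 (c : Nat) : Nat := @Bool.rec (fun _ => Nat) (Btab_38) (Btab_39) (Nat.ble 39 c)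
noncomputable def Btab_s_36_40 (c : Nat) : Nat := @Bool.rec (fun _ => Nat) (Btab_s_36_38 c) (Btab_s_38_40 c) (Nat.ble 38 c)
noncomputable def Btab_s_32_40 (c : Nat) : Nat := @Bool.rec (fun _ => Nat) (Btab_s_32_36 c) (Btab_s_36_40 c) (Nat.ble 36 c)
noncomputable def Btab_s_40_42 (c : Nat) : Nat := @Bool.rec (fun _ => Nat) (Btab_40) (Btab_41) (Nat.ble 41 c)
noncomputable def Btab_s_42_44 (c : Nat) : Nat := @Bool.rec (fun _ => Nat) (Btab_42) (Btab_43) (Nat.ble 43 c)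
noncomputable def Btab_s_40_44 (c : Nat) : Nat := @Bool.rec (fun _ => Nat) (Btab_s_40_42 c) (Btab_s_42_44 c) (Nat.ble 42 c)
noncomputable def Btab_s_44_46 (c : Nat) : Nat := @Bool.rec (fun _ => Nat) (Btab_44) (Btab_45) (Nat.ble 45 c)
noncomputable def Btab_s_46_48 (c : Nat) : Nat := @Bool.rec (fun _ => Nat) (Btab_46) (Btab_47) (Nat.ble 47 c)
noncomputable def Btab_s_44_48 (c : Nat) : Nat := @Bool.rec (fun _ => Nat) (Btab_s_44_46 c) (Btab_s_46_48 c) (Nat.ble 46 c)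
noncomputable def Btab_s_40_48 (c : Nat) : Nat := @Bool.rec (fun _ => Nat) (Btab_s_40_44 c) (Btab_s_44_48 c) (Nat.ble 44 c)
noncomputable def Btab_s_32_48 (c : Nat) : Nat := @Bool.rec (fun _ => Nat) (Btab_s_32_40 c) (Btab_s_40_48 c) (Nat.ble 40 c)
noncomputable def Btab_s_48_50 (c : Nat) : Nat := @Bool.rec (fun _ => Nat) (Btab_48) (Btab_49) (Nat.ble 49 c)
noncomputable def Btab_s_50_52 (c : Nat) : Nat := @Bool.rec (fun _ => Nat) (Btab_50) (Btab_51) (Nat.ble 51 c)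
noncomputable def Btab_s_48_52 (c : Nat) : Nat := @Bool.rec (fun _ => Nat) (Btab_s_48_50 c) (Btab_s_50_52 c) (Nat.ble 50 c)
noncomputable def Btab_s_52_54 (c : Nat) : Nat := @Bool.rec (fun _ => Nat) (Btab_52) (Btab_53) (Nat.ble 53 c)
noncomputable def Btab_s_54_56 (c : Nat) : Nat := @Bool.rec (fun _ => Nat) (Btab_54) (Btab_55) (Nat.ble 55 c)
noncomputable def Btab_s_52_56 (c : Nat) : Nat := @Bool.rec (fun _ => Nat) (Btab_s_52_54 c) (Btab_s_54_56 c) (Nat.ble 54 c)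
noncomputable def Btab_s_48_56 (c : Nat) : Nat := @Bool.rec (fun _ => Nat) (Btab_s_48_52 c) (Btab_s_52_56 c) (Nat.ble 52 c)
noncomputable def Btab_s_56_58 (c : Nat) : Nat := @Bool.rec (fun _ => Nat) (Btab_56) (Btab_57) (Nat.ble 57 c)
noncomputable def Btab_s_58_60 (c : Nat) : Nat := @Bool.rec (fun _ => Nat) (Btab_58) (Btab_59) (Nat.ble 59 c)
noncomputable def Btab_s_56_60 (c : Nat) : Nat := @Bool.rec (fun _ => Nat) (Btab_s_56_58 c) (Btab_s_58_60 c) (Nat.ble 58 c)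
noncomputable def Btab_s_60_62 (c : Nat) : Nat := @Bool.rec (fun _ => Nat) (Btab_60) (Btab_61) (Nat.ble 61 c)
noncomputable def Btab_s_62_64 (c : Nat) : Nat := @Bool.rec (fun _ => Nat) (Btab_62) (Btab_63) (Nat.ble 63 c)
noncomputable def Btab_s_60_64 (c : Nat) : Nat := @Bool.rec (fun _ => Nat) (Btab_s_60_62 c) (Btab_s_62_64 c) (Nat.ble 62 c)
noncomputable def Btab_s_56_64 (c : Nat) : Nat := @Bool.rec (fun _ => Nat) (Btab_s_56_60 c) (Btab_s_60_64 c) (Nat.ble 60 c)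
noncomputable def Btab_s_48_64 (c : Nat) : Nat := @Bool.rec (fun _ => Nat) (Btab_s_48_56 c) (Btab_s_56_64 c) (Nat.ble 56 c)
noncomputable def Btab_s_32_64 (c : Nat) : Nat := @Bool.rec (fun _ => Nat) (Btab_s_32_48 c) (Btab_s_48_64 c) (Nat.ble 48 c)
noncomputable def Btab_s_0_64 (c : Nat) : Nat := @Bool.rec (fun _ => Nat) (Btab_s_0_32 c) (Btab_s_32_64 c) (Nat.ble 32 c)
noncomputable def Btab (i : Nat) : Nat := rdw 46 70368744177663 (Btab_s_0_64 (Nat.shiftRight i 11)) (Nat.land i 2047)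
noncomputable def Ptab_s_1_3 (c : Nat) : Nat := @Bool.rec (fun _ => Nat) (Ptab_1) (Ptab_2) (Nat.ble 2 c)
noncomputable def Ptab_s_0_3 (c : Nat) : Nat := @Bool.rec (fun _ => Nat) (Ptab_0) (Ptab_s_1_3 c) (Nat.ble 1 c)
noncomputable def Ptab_s_3_5 (c : Nat) : Nat := @Bool.rec (fun _ => Nat) (Ptab_3) (Ptab_4) (Nat.ble 4 c)
noncomputable def Ptab_s_5_7 (c : Nat) : Nat := @Bool.rec (fun _ => Nat) (Ptab_5) (Ptab_6) (Nat.ble 6 c)
noncomputable def Ptab_s_3_7 (c : Nat) : Nat := @Bool.rec (fun _ => Nat) (Ptab_s_3_5 c) (Ptab_s_5_7 c) (Nat.ble 5 c)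
noncomputable def Ptab_s_0_7 (c : Nat) : Nat := @Bool.rec (fun _ => Nat) (Ptab_s_0_3 c) (Ptab_s_3_7 c) (Nat.ble 3 c)
noncomputable def Ptab_s_8_10 (c : Nat) : Nat := @Bool.rec (fun _ => Nat) (Ptab_8) (Ptab_9) (Nat.ble 9 c)
noncomputable def Ptab_s_7_10 (c : Nat) : Nat := @Bool.rec (fun _ => Nat) (Ptab_7) (Ptab_s_8_10 c) (Nat.ble 8 c)
noncomputable def Ptab_s_10_12 (c : Nat) : Nat := @Bool.rec (fun _ => Nat) (Ptab_10) (Ptab_11) (Nat.ble 11 c)
noncomputable def Ptab_s_12_14 (c : Nat) : Nat := @Bool.rec (fun _ => Nat) (Ptab_12) (Ptab_13) (Nat.ble 13 c)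
noncomputable def Ptab_s_10_14 (c : Nat) : Nat := @Bool.rec (fun _ => Nat) (Ptab_s_10_12 c) (Ptab_s_12_14 c) (Nat.ble 12 c)
noncomputable def Ptab_s_7_14 (c : Nat) : Nat := @Bool.rec (fun _ => Nat) (Ptab_s_7_10 c) (Ptab_s_10_14 c) (Nat.ble 10 c)
noncomputable def Ptab_s_0_14 (c : Nat) : Nat := @Bool.rec (fun _ => Nat) (Ptab_s_0_7 c) (Ptab_s_7_14 c) (Nat.ble 7 c)
noncomputable def Ptab_s_15_17 (c : Nat) : Nat := @Bool.rec (fun _ => Nat) (Ptab_15) (Ptab_16) (Nat.ble 16 c)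
noncomputable def Ptab_s_14_17 (c : Nat) : Nat := @Bool.rec (fun _ => Nat) (Ptab_14) (Ptab_s_15_17 c) (Nat.ble 15 c)
noncomputable def Ptab_s_17_19 (c : Nat) : Nat := @Bool.rec (fun _ => Nat) (Ptab_17) (Ptab_18) (Nat.ble 18 c)
noncomputable def Ptab_s_19_21 (c : Nat) : Nat := @Bool.rec (fun _ => Nat) (Ptab_19) (Ptab_20) (Nat.ble 20 c)
noncomputable def Ptab_s_17_21 (c : Nat) : Nat := @Bool.rec (fun _ => Nat) (Ptab_s_17_19 c) (Ptab_s_19_21 c) (Nat.ble 19 c)
noncomputable def Ptab_s_14_21 (c : Nat) : Nat := @Bool.rec (fun _ => Nat) (Ptab_s_14_17 c) (Ptab_s_17_21 c) (Nat.ble 17 c)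
noncomputable def Ptab_s_21_23 (c : Nat) : Nat := @Bool.rec (fun _ => Nat) (Ptab_21) (Ptab_22) (Nat.ble 22 c)
noncomputable def Ptab_s_23_25 (c : Nat) : Nat := @Bool.rec (fun _ => Nat) (Ptab_23) (Ptab_24) (Nat.ble 24 c)
noncomputable def Ptab_s_21_25 (c : Nat) : Nat := @Bool.rec (fun _ => Nat) (Ptab_s_21_23 c) (Ptab_s_23_25 c) (Nat.ble 23 c)
noncomputable def Ptab_s_25_27 (c : Nat) : Nat := @Bool.rec (fun _ => Nat) (Ptab_25) (Ptab_26) (Nat.ble 26 c)
noncomputable def Ptab_s_27_29 (c : Nat) : Nat := @Bool.rec (fun _ => Nat) (Ptab_27) (Ptab_28) (Nat.ble 28 c)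
noncomputable def Ptab_s_25_29 (c : Nat) : Nat := @Bool.rec (fun _ => Nat) (Ptab_s_25_27 c) (Ptab_s_27_29 c) (Nat.ble 27 c)
noncomputable def Ptab_s_21_29 (c : Nat) : Nat := @Bool.rec (fun _ => Nat) (Ptab_s_21_25 c) (Ptab_s_25_29 c) (Nat.ble 25 c)
noncomputable def Ptab_s_14_29 (c : Nat) : Nat := @Bool.rec (fun _ => Nat) (Ptab_s_14_21 c) (Ptab_s_21_29 c) (Nat.ble 21 c)
noncomputable def Ptab_s_0_29 (c : Nat) : Nat := @Bool.rec (fun _ => Nat) (Ptab_s_0_14 c) (Ptab_s_14_29 c) (Nat.ble 14 c)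
noncomputable def Ptab_s_30_32 (c : Nat) : Nat := @Bool.rec (fun _ => Nat) (Ptab_30) (Ptab_31) (Nat.ble 31 c)
noncomputable def Ptab_s_29_32 (c : Nat) : Nat := @Bool.rec (fun _ => Nat) (Ptab_29) (Ptab_s_30_32 c) (Nat.ble 30 c)
noncomputable def Ptab_s_32_34 (c : Nat) : Nat := @Bool.rec (fun _ => Nat) (Ptab_32) (Ptab_33) (Nat.ble 33 c)
noncomputable def Ptab_s_34_36 (c : Nat) : Nat := @Bool.rec (fun _ => Nat) (Ptab_34) (Ptab_35) (Nat.ble 35 c)
noncomputable def Ptab_s_32_36 (c : Nat) : Nat := @Bool.rec (fun _ => Nat) (Ptab_s_32_34 c) (Ptab_s_34_36 c) (Nat.ble 34 c)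
noncomputable def Ptab_s_29_36 (c : Nat) : Nat := @Bool.rec (fun _ => Nat) (Ptab_s_29_32 c) (Ptab_s_32_36 c) (Nat.ble 32 c)
noncomputable def Ptab_s_37_39 (c : Nat) : Nat := @Bool.rec (fun _ => Nat) (Ptab_37) (Ptab_38) (Nat.ble 38 c)
noncomputable def Ptab_s_36_39 (c : Nat) : Nat := @Bool.rec (fun _ => Nat) (Ptab_36) (Ptab_s_37_39 c) (Nat.ble 37 c)
noncomputable def Ptab_s_39_41 (c : Nat) : Nat := @Bool.rec (fun _ => Nat) (Ptab_39) (Ptab_40) (Nat.ble 40 c)
noncomputable def Ptab_s_41_43 (c : Nat) : Nat := @Bool.rec (fun _ => Nat) (Ptab_41) (Ptab_42) (Nat.ble 42 c)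
noncomputable def Ptab_s_39_43 (c : Nat) : Nat := @Bool.rec (fun _ => Nat) (Ptab_s_39_41 c) (Ptab_s_41_43 c) (Nat.ble 41 c)
noncomputable def Ptab_s_36_43 (c : Nat) : Nat := @Bool.rec (fun _ => Nat) (Ptab_s_36_39 c) (Ptab_s_39_43 c) (Nat.ble 39 c)
noncomputable def Ptab_s_29_43 (c : Nat) : Nat := @Bool.rec (fun _ => Nat) (Ptab_s_29_36 c) (Ptab_s_36_43 c) (Nat.ble 36 c)
noncomputable def Ptab_s_44_46 (c : Nat) : Nat := @Bool.rec (fun _ => Nat) (Ptab_44) (Ptab_45) (Nat.ble 45 c)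
noncomputable def Ptab_s_43_46 (c : Nat) : Nat := @Bool.rec (fun _ => Nat) (Ptab_43) (Ptab_s_44_46 c) (Nat.ble 44 c)
noncomputable def Ptab_s_46_48 (c : Nat) : Nat := @Bool.rec (fun _ => Nat) (Ptab_46) (Ptab_47) (Nat.ble 47 c)
noncomputable def Ptab_s_48_50 (c : Nat) : Nat := @Bool.rec (fun _ => Nat) (Ptab_48) (Ptab_49) (Nat.ble 49 c)
noncomputable def Ptab_s_46_50 (c : Nat) : Nat := @Bool.rec (fun _ => Nat) (Ptab_s_46_48 c) (Ptab_s_48_50 c) (Nat.ble 48 c)
noncomputable def Ptab_s_43_50 (c : Nat) : Nat := @Bool.rec (fun _ => Nat) (Ptab_s_43_46 c) (Ptab_s_46_50 c) (Nat.ble 46 c)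
noncomputable def Ptab_s_50_52 (c : Nat) : Nat := @Bool.rec (fun _ => Nat) (Ptab_50) (Ptab_51) (Nat.ble 51 c)
noncomputable def Ptab_s_52_54 (c : Nat) : Nat := @Bool.rec (fun _ => Nat) (Ptab_52) (Ptab_53) (Nat.ble 53 c)
noncomputable def Ptab_s_50_54 (c : Nat) : Nat := @Bool.rec (fun _ => Nat) (Ptab_s_50_52 c) (Ptab_s_52_54 c) (Nat.ble 52 c)
noncomputable def Ptab_s_54_56 (c : Nat) : Nat := @Bool.rec (fun _ => Nat) (Ptab_54) (Ptab_55) (Nat.ble 55 c)
noncomputable def Ptab_s_56_58 (c : Nat) : Nat := @Bool.rec (fun _ => Nat) (Ptab_56) (Ptab_57) (Nat.ble 57 c)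
noncomputable def Ptab_s_54_58 (c : Nat) : Nat := @Bool.rec (fun _ => Nat) (Ptab_s_54_56 c) (Ptab_s_56_58 c) (Nat.ble 56 c)
noncomputable def Ptab_s_50_58 (c : Nat) : Nat := @Bool.rec (fun _ => Nat) (Ptab_s_50_54 c) (Ptab_s_54_58 c) (Nat.ble 54 c)
noncomputable def Ptab_s_43_58 (c : Nat) : Nat := @Bool.rec (fun _ => Nat) (Ptab_s_43_50 c) (Ptab_s_50_58 c) (Nat.ble 50 c)
noncomputable def Ptab_s_29_58 (c : Nat) : Nat := @Bool.rec (fun _ => Nat) (Ptab_s_29_43 c) (Ptab_s_43_58 c) (Nat.ble 43 c)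
noncomputable def Ptab_s_0_58 (c : Nat) : Nat := @Bool.rec (fun _ => Nat) (Ptab_s_0_29 c) (Ptab_s_29_58 c) (Nat.ble 29 c)
noncomputable def Ptab_s_59_61 (c : Nat) : Nat := @Bool.rec (fun _ => Nat) (Ptab_59) (Ptab_60) (Nat.ble 60 c)
noncomputable def Ptab_s_58_61 (c : Nat) : Nat := @Bool.rec (fun _ => Nat) (Ptab_58) (Ptab_s_59_61 c) (Nat.ble 59 c)
noncomputable def Ptab_s_61_63 (c : Nat) : Nat := @Bool.rec (fun _ => Nat) (Ptab_61) (Ptab_62) (Nat.ble 62 c)
noncomputable def Ptab_s_63_65 (c : Nat) : Nat := @Bool.rec (fun _ => Nat) (Ptab_63) (Ptab_64) (Nat.ble 64 c)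
noncomputable def Ptab_s_61_65 (c : Nat) : Nat := @Bool.rec (fun _ => Nat) (Ptab_s_61_63 c) (Ptab_s_63_65 c) (Nat.ble 63 c)
noncomputable def Ptab_s_58_65 (c : Nat) : Nat := @Bool.rec (fun _ => Nat) (Ptab_s_58_61 c) (Ptab_s_61_65 c) (Nat.ble 61 c)
noncomputable def Ptab_s_66_68 (c : Nat) : Nat := @Bool.rec (fun _ => Nat) (Ptab_66) (Ptab_67) (Nat.ble 67 c)
noncomputable def Ptab_s_65_68 (c : Nat) : Nat := @Bool.rec (fun _ => Nat) (Ptab_65) (Ptab_s_66_68 c) (Nat.ble 66 c)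
noncomputable def Ptab_s_68_70 (c : Nat) : Nat := @Bool.rec (fun _ => Nat) (Ptab_68) (Ptab_69) (Nat.ble 69 c)
noncomputable def Ptab_s_70_72 (c : Nat) : Nat := @Bool.rec (fun _ => Nat) (Ptab_70) (Ptab_71) (Nat.ble 71 c)
noncomputable def Ptab_s_68_72 (c : Nat) : Nat := @Bool.rec (fun _ => Nat) (Ptab_s_68_70 c) (Ptab_s_70_72 c) (Nat.ble 70 c)
noncomputable def Ptab_s_65_72 (c : Nat) : Nat := @Bool.rec (fun _ => Nat) (Ptab_s_65_68 c) (Ptab_s_68_72 c) (Nat.ble 68 c)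
noncomputable def Ptab_s_58_72 (c : Nat) : Nat := @Bool.rec (fun _ => Nat) (Ptab_s_58_65 c) (Ptab_s_65_72 c) (Nat.ble 65 c)
noncomputable def Ptab_s_73_75 (c : Nat) : Nat := @Bool.rec (fun _ => Nat) (Ptab_73) (Ptab_74) (Nat.ble 74 c)
noncomputable def Ptab_s_72_75 (c : Nat) : Nat := @Bool.rec (fun _ => Nat) (Ptab_72) (Ptab_s_73_75 c) (Nat.ble 73 c)
noncomputable def Ptab_s_75_77 (c : Nat) : Nat := @Bool.rec (fun _ => Nat) (Ptab_75) (Ptab_76) (Nat.ble 76 c)
noncomputable def Ptab_s_77_79 (c : Nat) : Nat := @Bool.rec (fun _ => Nat) (Ptab_77) (Ptab_78) (Nat.ble 78 c)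
noncomputable def Ptab_s_75_79 (c : Nat) : Nat := @Bool.rec (fun _ => Nat) (Ptab_s_75_77 c) (Ptab_s_77_79 c) (Nat.ble 77 c)
noncomputable def Ptab_s_72_79 (c : Nat) : Nat := @Bool.rec (fun _ => Nat) (Ptab_s_72_75 c) (Ptab_s_75_79 c) (Nat.ble 75 c)
noncomputable def Ptab_s_79_81 (c : Nat) : Nat := @Bool.rec (fun _ => Nat) (Ptab_79) (Ptab_80) (Nat.ble 80 c)
noncomputable def Ptab_s_81_83 (c : Nat) : Nat := @Bool.rec (fun _ => Nat) (Ptab_81) (Ptab_82) (Nat.ble 82 c)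
noncomputable def Ptab_s_79_83 (c : Nat) : Nat := @Bool.rec (fun _ => Nat) (Ptab_s_79_81 c) (Ptab_s_81_83 c) (Nat.ble 81 c)
noncomputable def Ptab_s_83_85 (c : Nat) : Nat := @Bool.rec (fun _ => Nat) (Ptab_83) (Ptab_84) (Nat.ble 84 c)
noncomputable def Ptab_s_85_87 (c : Nat) : Nat := @Bool.rec (fun _ => Nat) (Ptab_85) (Ptab_86) (Nat.ble 86 c)
noncomputable def Ptab_s_83_87 (c : Nat) : Nat := @Bool.rec (fun _ => Nat) (Ptab_s_83_85 c) (Ptab_s_85_87 c) (Nat.ble 85 c)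
noncomputable def Ptab_s_79_87 (c : Nat) : Nat := @Bool.rec (fun _ => Nat) (Ptab_s_79_83 c) (Ptab_s_83_87 c) (Nat.ble 83 c)
noncomputable def Ptab_s_72_87 (c : Nat) : Nat := @Bool.rec (fun _ => Nat) (Ptab_s_72_79 c) (Ptab_s_79_87 c) (Nat.ble 79 c)
noncomputable def Ptab_s_58_87 (c : Nat) : Nat := @Bool.rec (fun _ => Nat) (Ptab_s_58_72 c) (Ptab_s_72_87 c) (Nat.ble 72 c)
noncomputable def Ptab_s_88_90 (c : Nat) : Nat := @Bool.rec (fun _ => Nat) (Ptab_88) (Ptab_89) (Nat.ble 89 c)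
noncomputable def Ptab_s_87_90 (c : Nat) : Nat := @Bool.rec (fun _ => Nat) (Ptab_87) (Ptab_s_88_90 c) (Nat.ble 88 c)
noncomputable def Ptab_s_90_92 (c : Nat) : Nat := @Bool.rec (fun _ => Nat) (Ptab_90) (Ptab_91) (Nat.ble 91 c)
noncomputable def Ptab_s_92_94 (c : Nat) : Nat := @Bool.rec (fun _ => Nat) (Ptab_92) (Ptab_93) (Nat.ble 93 c)
noncomputable def Ptab_s_90_94 (c : Nat) : Nat := @Bool.rec (fun _ => Nat) (Ptab_s_90_92 c) (Ptab_s_92_94 c) (Nat.ble 92 c)
noncomputable def Ptab_s_87_94 (c : Nat) : Nat := @Bool.rec (fun _ => Nat) (Ptab_s_87_90 c) (Ptab_s_90_94 c) (Nat.ble 90 c)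
noncomputable def Ptab_s_95_97 (c : Nat) : Nat := @Bool.rec (fun _ => Nat) (Ptab_95) (Ptab_96) (Nat.ble 96 c)
noncomputable def Ptab_s_94_97 (c : Nat) : Nat := @Bool.rec (fun _ => Nat) (Ptab_94) (Ptab_s_95_97 c) (Nat.ble 95 c)
noncomputable def Ptab_s_97_99 (c : Nat) : Nat := @Bool.rec (fun _ => Nat) (Ptab_97) (Ptab_98) (Nat.ble 98 c)
noncomputable def Ptab_s_99_101 (c : Nat) : Nat := @Bool.rec (fun _ => Nat) (Ptab_99) (Ptab_100) (Nat.ble 100 c)
noncomputable def Ptab_s_97_101 (c : Nat) : Nat := @Bool.rec (fun _ => Nat) (Ptab_s_97_99 c) (Ptab_s_99_101 c) (Nat.ble 99 c)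
noncomputable def Ptab_s_94_101 (c : Nat) : Nat := @Bool.rec (fun _ => Nat) (Ptab_s_94_97 c) (Ptab_s_97_101 c) (Nat.ble 97 c)
noncomputable def Ptab_s_87_101 (c : Nat) : Nat := @Bool.rec (fun _ => Nat) (Ptab_s_87_94 c) (Ptab_s_94_101 c) (Nat.ble 94 c)
noncomputable def Ptab_s_102_104 (c : Nat) : Nat := @Bool.rec (fun _ => Nat) (Ptab_102) (Ptab_103) (Nat.ble 103 c)
noncomputable def Ptab_s_101_104 (c : Nat) : Nat := @Bool.rec (fun _ => Nat) (Ptab_101) (Ptab_s_102_104 c) (Nat.ble 102 c)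
noncomputable def Ptab_s_104_106 (c : Nat) : Nat := @Bool.rec (fun _ => Nat) (Ptab_104) (Ptab_105) (Nat.ble 105 c)
noncomputable def Ptab_s_106_108 (c : Nat) : Nat := @Bool.rec (fun _ => Nat) (Ptab_106) (Ptab_107) (Nat.ble 107 c)
noncomputable def Ptab_s_104_108 (c : Nat) : Nat := @Bool.rec (fun _ => Nat) (Ptab_s_104_106 c) (Ptab_s_106_108 c) (Nat.ble 106 c)
noncomputable def Ptab_s_101_108 (c : Nat) : Nat := @Bool.rec (fun _ => Nat) (Ptab_s_101_104 c) (Ptab_s_104_108 c) (Nat.ble 104 c)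
noncomputable def Ptab_s_108_110 (c : Nat) : Nat := @Bool.rec (fun _ => Nat) (Ptab_108) (Ptab_109) (Nat.ble 109 c)
noncomputable def Ptab_s_110_112 (c : Nat) : Nat := @Bool.rec (fun _ => Nat) (Ptab_110) (Ptab_111) (Nat.ble 111 c)
noncomputable def Ptab_s_108_112 (c : Nat) : Nat := @Bool.rec (fun _ => Nat) (Ptab_s_108_110 c) (Ptab_s_110_112 c) (Nat.ble 110 c)
noncomputable def Ptab_s_112_114 (c : Nat) : Nat := @Bool.rec (fun _ => Nat) (Ptab_112) (Ptab_113) (Nat.ble 113 c)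
noncomputable def Ptab_s_114_116 (c : Nat) : Nat := @Bool.rec (fun _ => Nat) (Ptab_114) (Ptab_115) (Nat.ble 115 c)
noncomputable def Ptab_s_112_116 (c : Nat) : Nat := @Bool.rec (fun _ => Nat) (Ptab_s_112_114 c) (Ptab_s_114_116 c) (Nat.ble 114 c)
noncomputable def Ptab_s_108_116 (c : Nat) : Nat := @Bool.rec (fun _ => Nat) (Ptab_s_108_112 c) (Ptab_s_112_116 c) (Nat.ble 112 c)
noncomputable def Ptab_s_101_116 (c : Nat) : Nat := @Bool.rec (fun _ => Nat) (Ptab_s_101_108 c) (Ptab_s_108_116 c) (Nat.ble 108 c)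
noncomputable def Ptab_s_87_116 (c : Nat) : Nat := @Bool.rec (fun _ => Nat) (Ptab_s_87_101 c) (Ptab_s_101_116 c) (Nat.ble 101 c)
noncomputable def Ptab_s_58_116 (c : Nat) : Nat := @Bool.rec (fun _ => Nat) (Ptab_s_58_87 c) (Ptab_s_87_116 c) (Nat.ble 87 c)
noncomputable def Ptab_s_0_116 (c : Nat) : Nat := @Bool.rec (fun _ => Nat) (Ptab_s_0_58 c) (Ptab_s_58_116 c) (Nat.ble 58 c)
noncomputable def Ptab_s_117_119 (c : Nat) : Nat := @Bool.rec (fun _ => Nat) (Ptab_117) (Ptab_118) (Nat.ble 118 c)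
noncomputable def Ptab_s_116_119 (c : Nat) : Nat := @Bool.rec (fun _ => Nat) (Ptab_116) (Ptab_s_117_119 c) (Nat.ble 117 c)
noncomputable def Ptab_s_119_121 (c : Nat) : Nat := @Bool.rec (fun _ => Nat) (Ptab_119) (Ptab_120) (Nat.ble 120 c)
noncomputable def Ptab_s_121_123 (c : Nat) : Nat := @Bool.rec (fun _ => Nat) (Ptab_121) (Ptab_122) (Nat.ble 122 c)
noncomputable def Ptab_s_119_123 (c : Nat) : Nat := @Bool.rec (fun _ => Nat) (Ptab_s_119_121 c) (Ptab_s_121_123 c) (Nat.ble 121 c)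
noncomputable def Ptab_s_116_123 (c : Nat) : Nat := @Bool.rec (fun _ => Nat) (Ptab_s_116_119 c) (Ptab_s_119_123 c) (Nat.ble 119 c)
noncomputable def Ptab_s_124_126 (c : Nat) : Nat := @Bool.rec (fun _ => Nat) (Ptab_124) (Ptab_125) (Nat.ble 125 c)
noncomputable def Ptab_s_123_126 (c : Nat) : Nat := @Bool.rec (fun _ => Nat) (Ptab_123) (Ptab_s_124_126 c) (Nat.ble 124 c)
noncomputable def Ptab_s_126_128 (c : Nat) : Nat := @Bool.rec (fun _ => Nat) (Ptab_126) (Ptab_127) (Nat.ble 127 c)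
noncomputable def Ptab_s_128_130 (c : Nat) : Nat := @Bool.rec (fun _ => Nat) (Ptab_128) (Ptab_129) (Nat.ble 129 c)
noncomputable def Ptab_s_126_130 (c : Nat) : Nat := @Bool.rec (fun _ => Nat) (Ptab_s_126_128 c) (Ptab_s_128_130 c) (Nat.ble 128 c)
noncomputable def Ptab_s_123_130 (c : Nat) : Nat := @Bool.rec (fun _ => Nat) (Ptab_s_123_126 c) (Ptab_s_126_130 c) (Nat.ble 126 c)
noncomputable def Ptab_s_116_130 (c : Nat) : Nat := @Bool.rec (fun _ => Nat) (Ptab_s_116_123 c) (Ptab_s_123_130 c) (Nat.ble 123 c)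
noncomputable def Ptab_s_131_133 (c : Nat) : Nat := @Bool.rec (fun _ => Nat) (Ptab_131) (Ptab_132) (Nat.ble 132 c)
noncomputable def Ptab_s_130_133 (c : Nat) : Nat := @Bool.rec (fun _ => Nat) (Ptab_130) (Ptab_s_131_133 c) (Nat.ble 131 c)
noncomputable def Ptab_s_133_135 (c : Nat) : Nat := @Bool.rec (fun _ => Nat) (Ptab_133) (Ptab_134) (Nat.ble 134 c)
noncomputable def Ptab_s_135_137 (c : Nat) : Nat := @Bool.rec (fun _ => Nat) (Ptab_135) (Ptab_136) (Nat.ble 136 c)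
noncomputable def Ptab_s_133_137 (c : Nat) : Nat := @Bool.rec (fun _ => Nat) (Ptab_s_133_135 c) (Ptab_s_135_137 c) (Nat.ble 135 c)
noncomputable def Ptab_s_130_137 (c : Nat) : Nat := @Bool.rec (fun _ => Nat) (Ptab_s_130_133 c) (Ptab_s_133_137 c) (Nat.ble 133 c)
noncomputable def Ptab_s_137_139 (c : Nat) : Nat := @Bool.rec (fun _ => Nat) (Ptab_137) (Ptab_138) (Nat.ble 138 c)
noncomputable def Ptab_s_139_141 (c : Nat) : Nat := @Bool.rec (fun _ => Nat) (Ptab_139) (Ptab_140) (Nat.ble 140 c)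
noncomputable def Ptab_s_137_141 (c : Nat) : Nat := @Bool.rec (fun _ => Nat) (Ptab_s_137_139 c) (Ptab_s_139_141 c) (Nat.ble 139 c)
noncomputable def Ptab_s_141_143 (c : Nat) : Nat := @Bool.rec (fun _ => Nat) (Ptab_141) (Ptab_142) (Nat.ble 142 c)
noncomputable def Ptab_s_143_145 (c : Nat) : Nat := @Bool.rec (fun _ => Nat) (Ptab_143) (Ptab_144) (Nat.ble 144 c)
noncomputable def Ptab_s_141_145 (c : Nat) : Nat := @Bool.rec (fun _ => Nat) (Ptab_s_141_143 c) (Ptab_s_143_145 c) (Nat.ble 143 c)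
noncomputable def Ptab_s_137_145 (c : Nat) : Nat := @Bool.rec (fun _ => Nat) (Ptab_s_137_141 c) (Ptab_s_141_145 c) (Nat.ble 141 c)
noncomputable def Ptab_s_130_145 (c : Nat) : Nat := @Bool.rec (fun _ => Nat) (Ptab_s_130_137 c) (Ptab_s_137_145 c) (Nat.ble 137 c)
noncomputable def Ptab_s_116_145 (c : Nat) : Nat := @Bool.rec (fun _ => Nat) (Ptab_s_116_130 c) (Ptab_s_130_145 c) (Nat.ble 130 c)
noncomputable def Ptab_s_146_148 (c : Nat) : Nat := @Bool.rec (fun _ => Nat) (Ptab_146) (Ptab_147) (Nat.ble 147 c)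
noncomputable def Ptab_s_145_148 (c : Nat) : Nat := @Bool.rec (fun _ => Nat) (Ptab_145) (Ptab_s_146_148 c) (Nat.ble 146 c)
noncomputable def Ptab_s_148_150 (c : Nat) : Nat := @Bool.rec (fun _ => Nat) (Ptab_148) (Ptab_149) (Nat.ble 149 c)
noncomputable def Ptab_s_150_152 (c : Nat) : Nat := @Bool.rec (fun _ => Nat) (Ptab_150) (Ptab_151) (Nat.ble 151 c)
noncomputable def Ptab_s_148_152 (c : Nat) : Nat := @Bool.rec (fun _ => Nat) (Ptab_s_148_150 c) (Ptab_s_150_152 c) (Nat.ble 150 c)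
noncomputable def Ptab_s_145_152 (c : Nat) : Nat := @Bool.rec (fun _ => Nat) (Ptab_s_145_148 c) (Ptab_s_148_152 c) (Nat.ble 148 c)
noncomputable def Ptab_s_153_155 (c : Nat) : Nat := @Bool.rec (fun _ => Nat) (Ptab_153) (Ptab_154) (Nat.ble 154 c)
noncomputable def Ptab_s_152_155 (c : Nat) : Nat := @Bool.rec (fun _ => Nat) (Ptab_152) (Ptab_s_153_155 c) (Nat.ble 153 c)
noncomputable def Ptab_s_155_157 (c : Nat) : Nat := @Bool.rec (fun _ => Nat) (Ptab_155) (Ptab_156) (Nat.ble 156 c)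
noncomputable def Ptab_s_157_159 (c : Nat) : Nat := @Bool.rec (fun _ => Nat) (Ptab_157) (Ptab_158) (Nat.ble 158 c)
noncomputable def Ptab_s_155_159 (c : Nat) : Nat := @Bool.rec (fun _ => Nat) (Ptab_s_155_157 c) (Ptab_s_157_159 c) (Nat.ble 157 c)
noncomputable def Ptab_s_152_159 (c : Nat) : Nat := @Bool.rec (fun _ => Nat) (Ptab_s_152_155 c) (Ptab_s_155_159 c) (Nat.ble 155 c)
noncomputable def Ptab_s_145_159 (c : Nat) : Nat := @Bool.rec (fun _ => Nat) (Ptab_s_145_152 c) (Ptab_s_152_159 c) (Nat.ble 152 c)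
noncomputable def Ptab_s_160_162 (c : Nat) : Nat := @Bool.rec (fun _ => Nat) (Ptab_160) (Ptab_161) (Nat.ble 161 c)
noncomputable def Ptab_s_159_162 (c : Nat) : Nat := @Bool.rec (fun _ => Nat) (Ptab_159) (Ptab_s_160_162 c) (Nat.ble 160 c)
noncomputable def Ptab_s_162_164 (c : Nat) : Nat := @Bool.rec (fun _ => Nat) (Ptab_162) (Ptab_163) (Nat.ble 163 c)
noncomputable def Ptab_s_164_166 (c : Nat) : Nat := @Bool.rec (fun _ => Nat) (Ptab_164) (Ptab_165) (Nat.ble 165 c)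
noncomputable def Ptab_s_162_166 (c : Nat) : Nat := @Bool.rec (fun _ => Nat) (Ptab_s_162_164 c) (Ptab_s_164_166 c) (Nat.ble 164 c)
noncomputable def Ptab_s_159_166 (c : Nat) : Nat := @Bool.rec (fun _ => Nat) (Ptab_s_159_162 c) (Ptab_s_162_166 c) (Nat.ble 162 c)
noncomputable def Ptab_s_166_168 (c : Nat) : Nat := @Bool.rec (fun _ => Nat) (Ptab_166) (Ptab_167) (Nat.ble 167 c)
noncomputable def Ptab_s_168_170 (c : Nat) : Nat := @Bool.rec (fun _ => Nat) (Ptab_168) (Ptab_169) (Nat.ble 169 c)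
noncomputable def Ptab_s_166_170 (c : Nat) : Nat := @Bool.rec (fun _ => Nat) (Ptab_s_166_168 c) (Ptab_s_168_170 c) (Nat.ble 168 c)
noncomputable def Ptab_s_170_172 (c : Nat) : Nat := @Bool.rec (fun _ => Nat) (Ptab_170) (Ptab_171) (Nat.ble 171 c)
noncomputable def Ptab_s_172_174 (c : Nat) : Nat := @Bool.rec (fun _ => Nat) (Ptab_172) (Ptab_173) (Nat.ble 173 c)
noncomputable def Ptab_s_170_174 (c : Nat) : Nat := @Bool.rec (fun _ => Nat) (Ptab_s_170_172 c) (Ptab_s_172_174 c) (Nat.ble 172 c)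
noncomputable def Ptab_s_166_174 (c : Nat) : Nat := @Bool.rec (fun _ => Nat) (Ptab_s_166_170 c) (Ptab_s_170_174 c) (Nat.ble 170 c)
noncomputable def Ptab_s_159_174 (c : Nat) : Nat := @Bool.rec (fun _ => Nat) (Ptab_s_159_166 c) (Ptab_s_166_174 c) (Nat.ble 166 c)
noncomputable def Ptab_s_145_174 (c : Nat) : Nat := @Bool.rec (fun _ => Nat) (Ptab_s_145_159 c) (Ptab_s_159_174 c) (Nat.ble 159 c)
noncomputable def Ptab_s_116_174 (c : Nat) : Nat := @Bool.rec (fun _ => Nat) (Ptab_s_116_145 c) (Ptab_s_145_174 c) (Nat.ble 145 c)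
noncomputable def Ptab_s_175_177 (c : Nat) : Nat := @Bool.rec (fun _ => Nat) (Ptab_175) (Ptab_176) (Nat.ble 176 c)
noncomputable def Ptab_s_174_177 (c : Nat) : Nat := @Bool.rec (fun _ => Nat) (Ptab_174) (Ptab_s_175_177 c) (Nat.ble 175 c)
noncomputable def Ptab_s_177_179 (c : Nat) : Nat := @Bool.rec (fun _ => Nat) (Ptab_177) (Ptab_178) (Nat.ble 178 c)
noncomputable def Ptab_s_179_181 (c : Nat) : Nat := @Bool.rec (fun _ => Nat) (Ptab_179) (Ptab_180) (Nat.ble 180 c)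
noncomputable def Ptab_s_177_181 (c : Nat) : Nat := @Bool.rec (fun _ => Nat) (Ptab_s_177_179 c) (Ptab_s_179_181 c) (Nat.ble 179 c)
noncomputable def Ptab_s_174_181 (c : Nat) : Nat := @Bool.rec (fun _ => Nat) (Ptab_s_174_177 c) (Ptab_s_177_181 c) (Nat.ble 177 c)
noncomputable def Ptab_s_182_184 (c : Nat) : Nat := @Bool.rec (fun _ => Nat) (Ptab_182) (Ptab_183) (Nat.ble 183 c)
noncomputable def Ptab_s_181_184 (c : Nat) : Nat := @Bool.rec (fun _ => Nat) (Ptab_181) (Ptab_s_182_184 c) (Nat.ble 182 c)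
noncomputable def Ptab_s_184_186 (c : Nat) : Nat := @Bool.rec (fun _ => Nat) (Ptab_184) (Ptab_185) (Nat.ble 185 c)
noncomputable def Ptab_s_186_188 (c : Nat) : Nat := @Bool.rec (fun _ => Nat) (Ptab_186) (Ptab_187) (Nat.ble 187 c)
noncomputable def Ptab_s_184_188 (c : Nat) : Nat := @Bool.rec (fun _ => Nat) (Ptab_s_184_186 c) (Ptab_s_186_188 c) (Nat.ble 186 c)
noncomputable def Ptab_s_181_188 (c : Nat) : Nat := @Bool.rec (fun _ => Nat) (Ptab_s_181_184 c) (Ptab_s_184_188 c) (Nat.ble 184 c)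
noncomputable def Ptab_s_174_188 (c : Nat) : Nat := @Bool.rec (fun _ => Nat) (Ptab_s_174_181 c) (Ptab_s_181_188 c) (Nat.ble 181 c)
noncomputable def Ptab_s_189_191 (c : Nat) : Nat := @Bool.rec (fun _ => Nat) (Ptab_189) (Ptab_190) (Nat.ble 190 c)
noncomputable def Ptab_s_188_191 (c : Nat) : Nat := @Bool.rec (fun _ => Nat) (Ptab_188) (Ptab_s_189_191 c) (Nat.ble 189 c)
noncomputable def Ptab_s_191_193 (c : Nat) : Nat := @Bool.rec (fun _ => Nat) (Ptab_191) (Ptab_192) (Nat.ble 192 c)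
noncomputable def Ptab_s_193_195 (c : Nat) : Nat := @Bool.rec (fun _ => Nat) (Ptab_193) (Ptab_194) (Nat.ble 194 c)
noncomputable def Ptab_s_191_195 (c : Nat) : Nat := @Bool.rec (fun _ => Nat) (Ptab_s_191_193 c) (Ptab_s_193_195 c) (Nat.ble 193 c)
noncomputable def Ptab_s_188_195 (c : Nat) : Nat := @Bool.rec (fun _ => Nat) (Ptab_s_188_191 c) (Ptab_s_191_195 c) (Nat.ble 191 c)
noncomputable def Ptab_s_195_197 (c : Nat) : Nat := @Bool.rec (fun _ => Nat) (Ptab_195) (Ptab_196) (Nat.ble 196 c)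
noncomputable def Ptab_s_197_199 (c : Nat) : Nat := @Bool.rec (fun _ => Nat) (Ptab_197) (Ptab_198) (Nat.ble 198 c)
noncomputable def Ptab_s_195_199 (c : Nat) : Nat := @Bool.rec (fun _ => Nat) (Ptab_s_195_197 c) (Ptab_s_197_199 c) (Nat.ble 197 c)
noncomputable def Ptab_s_199_201 (c : Nat) : Nat := @Bool.rec (fun _ => Nat) (Ptab_199) (Ptab_200) (Nat.ble 200 c)
noncomputable def Ptab_s_201_203 (c : Nat) : Nat := @Bool.rec (fun _ => Nat) (Ptab_201) (Ptab_202) (Nat.ble 202 c)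
noncomputable def Ptab_s_199_203 (c : Nat) : Nat := @Bool.rec (fun _ => Nat) (Ptab_s_199_201 c) (Ptab_s_201_203 c) (Nat.ble 201 c)
noncomputable def Ptab_s_195_203 (c : Nat) : Nat := @Bool.rec (fun _ => Nat) (Ptab_s_195_199 c) (Ptab_s_199_203 c) (Nat.ble 199 c)
noncomputable def Ptab_s_188_203 (c : Nat) : Nat := @Bool.rec (fun _ => Nat) (Ptab_s_188_195 c) (Ptab_s_195_203 c) (Nat.ble 195 c)
noncomputable def Ptab_s_174_203 (c : Nat) : Nat := @Bool.rec (fun _ => Nat) (Ptab_s_174_188 c) (Ptab_s_188_203 c) (Nat.ble 188 c)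
noncomputable def Ptab_s_204_206 (c : Nat) : Nat := @Bool.rec (fun _ => Nat) (Ptab_204) (Ptab_205) (Nat.ble 205 c)
noncomputable def Ptab_s_203_206 (c : Nat) : Nat := @Bool.rec (fun _ => Nat) (Ptab_203) (Ptab_s_204_206 c) (Nat.ble 204 c)
noncomputable def Ptab_s_206_208 (c : Nat) : Nat := @Bool.rec (fun _ => Nat) (Ptab_206) (Ptab_207) (Nat.ble 207 c)
noncomputable def Ptab_s_208_210 (c : Nat) : Nat := @Bool.rec (fun _ => Nat) (Ptab_208) (Ptab_209) (Nat.ble 209 c)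
noncomputable def Ptab_s_206_210 (c : Nat) : Nat := @Bool.rec (fun _ => Nat) (Ptab_s_206_208 c) (Ptab_s_208_210 c) (Nat.ble 208 c)
noncomputable def Ptab_s_203_210 (c : Nat) : Nat := @Bool.rec (fun _ => Nat) (Ptab_s_203_206 c) (Ptab_s_206_210 c) (Nat.ble 206 c)
noncomputable def Ptab_s_210_212 (c : Nat) : Nat := @Bool.rec (fun _ => Nat) (Ptab_210) (Ptab_211) (Nat.ble 211 c)
noncomputable def Ptab_s_212_214 (c : Nat) : Nat := @Bool.rec (fun _ => Nat) (Ptab_212) (Ptab_213) (Nat.ble 213 c)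
noncomputable def Ptab_s_210_214 (c : Nat) : Nat := @Bool.rec (fun _ => Nat) (Ptab_s_210_212 c) (Ptab_s_212_214 c) (Nat.ble 212 c)
noncomputable def Ptab_s_214_216 (c : Nat) : Nat := @Bool.rec (fun _ => Nat) (Ptab_214) (Ptab_215) (Nat.ble 215 c)
noncomputable def Ptab_s_216_218 (c : Nat) : Nat := @Bool.rec (fun _ => Nat) (Ptab_216) (Ptab_217) (Nat.ble 217 c)
noncomputable def Ptab_s_214_218 (c : Nat) : Nat := @Bool.rec (fun _ => Nat) (Ptab_s_214_216 c) (Ptab_s_216_218 c) (Nat.ble 216 c)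
noncomputable def Ptab_s_210_218 (c : Nat) : Nat := @Bool.rec (fun _ => Nat) (Ptab_s_210_214 c) (Ptab_s_214_218 c) (Nat.ble 214 c)
noncomputable def Ptab_s_203_218 (c : Nat) : Nat := @Bool.rec (fun _ => Nat) (Ptab_s_203_210 c) (Ptab_s_210_218 c) (Nat.ble 210 c)
noncomputable def Ptab_s_219_221 (c : Nat) : Nat := @Bool.rec (fun _ => Nat) (Ptab_219) (Ptab_220) (Nat.ble 220 c)
noncomputable def Ptab_s_218_221 (c : Nat) : Nat := @Bool.rec (fun _ => Nat) (Ptab_218) (Ptab_s_219_221 c) (Nat.ble 219 c)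
noncomputable def Ptab_s_221_223 (c : Nat) : Nat := @Bool.rec (fun _ => Nat) (Ptab_221) (Ptab_222) (Nat.ble 222 c)
noncomputable def Ptab_s_223_225 (c : Nat) : Nat := @Bool.rec (fun _ => Nat) (Ptab_223) (Ptab_224) (Nat.ble 224 c)
noncomputable def Ptab_s_221_225 (c : Nat) : Nat := @Bool.rec (fun _ => Nat) (Ptab_s_221_223 c) (Ptab_s_223_225 c) (Nat.ble 223 c)
noncomputable def Ptab_s_218_225 (c : Nat) : Nat := @Bool.rec (fun _ => Nat) (Ptab_s_218_221 c) (Ptab_s_221_225 c) (Nat.ble 221 c)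
noncomputable def Ptab_s_225_227 (c : Nat) : Nat := @Bool.rec (fun _ => Nat) (Ptab_225) (Ptab_226) (Nat.ble 226 c)
noncomputable def Ptab_s_227_229 (c : Nat) : Nat := @Bool.rec (fun _ => Nat) (Ptab_227) (Ptab_228) (Nat.ble 228 c)
noncomputable def Ptab_s_225_229 (c : Nat) : Nat := @Bool.rec (fun _ => Nat) (Ptab_s_225_227 c) (Ptab_s_227_229 c) (Nat.ble 227 c)
noncomputable def Ptab_s_229_231 (c : Nat) : Nat := @Bool.rec (fun _ => Nat) (Ptab_229) (Ptab_230) (Nat.ble 230 c)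
noncomputable def Ptab_s_231_233 (c : Nat) : Nat := @Bool.rec (fun _ => Nat) (Ptab_231) (Ptab_232) (Nat.ble 232 c)
noncomputable def Ptab_s_229_233 (c : Nat) : Nat := @Bool.rec (fun _ => Nat) (Ptab_s_229_231 c) (Ptab_s_231_233 c) (Nat.ble 231 c)
noncomputable def Ptab_s_225_233 (c : Nat) : Nat := @Bool.rec (fun _ => Nat) (Ptab_s_225_229 c) (Ptab_s_229_233 c) (Nat.ble 229 c)
noncomputable def Ptab_s_218_233 (c : Nat) : Nat := @Bool.rec (fun _ => Nat) (Ptab_s_218_225 c) (Ptab_s_225_233 c) (Nat.ble 225 c)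
noncomputable def Ptab_s_203_233 (c : Nat) : Nat := @Bool.rec (fun _ => Nat) (Ptab_s_203_218 c) (Ptab_s_218_233 c) (Nat.ble 218 c)
noncomputable def Ptab_s_174_233 (c : Nat) : Nat := @Bool.rec (fun _ => Nat) (Ptab_s_174_203 c) (Ptab_s_203_233 c) (Nat.ble 203 c)
noncomputable def Ptab_s_116_233 (c : Nat) : Nat := @Bool.rec (fun _ => Nat) (Ptab_s_116_174 c) (Ptab_s_174_233 c) (Nat.ble 174 c)
noncomputable def Ptab_s_0_233 (c : Nat) : Nat := @Bool.rec (fun _ => Nat) (Ptab_s_0_116 c) (Ptab_s_116_233 c) (Nat.ble 116 c)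
noncomputable def Ptab (i : Nat) : Nat := rdw 19 524287 (Ptab_s_0_233 (Nat.shiftRight i 12)) (Nat.land i 4095)
noncomputable def RRtab (i : Nat) : Nat := rdw 7 127 RRtab_0 i
noncomputable def rBtab (i : Nat) : Nat := rdw 13 8191 rBtab_0 i
noncomputable def rLtab (i : Nat) : Nat := rdw 8 255 rLtab_0 i
noncomputable def nameTab (i : Nat) : Nat := rdw 14 16383 nameTab_0 i
noncomputable def col0 (i : Nat) : Nat := rdw 12 4095 col0_0 i
noncomputable def col1 (i : Nat) : Nat := rdw 12 4095 col1_0 i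
noncomputable def col2 (i : Nat) : Nat := rdw 12 4095 col2_0 i
noncomputable def col3 (i : Nat) : Nat := rdw 12 4095 col3_0 i
noncomputable def col4 (i : Nat) : Nat := rdw 12 4095 col4_0 i
noncomputable def col5 (i : Nat) : Nat := rdw 12 4095 col5_0 i
noncomputable def col6 (i : Nat) : Nat := rdw 12 4095 col6_0 i
noncomputable def col7 (i : Nat) : Nat := rdw 12 4095 col7_0 i
noncomputable def col8 (i : Nat) : Nat := rdw 12 4095 col8_0 i
noncomputable def col9 (i : Nat) : Nat := rdw 12 4095 col9_0 i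
noncomputable def col10 (i : Nat) : Nat := rdw 12 4095 col10_0 i
noncomputable def col11 (i : Nat) : Nat := rdw 12 4095 col11_0 i
noncomputable def col12 (i : Nat) : Nat := rdw 12 4095 col12_0 i
noncomputable def col13 (i : Nat) : Nat := rdw 12 4095 col13_0 i
noncomputable def col14 (i : Nat) : Nat := rdw 12 4095 col14_0 i
noncomputable def col15 (i : Nat) : Nat := rdw 12 4095 col15_0 i
noncomputable def col16 (i : Nat) : Nat := rdw 12 4095 col16_0 i
noncomputable def col17 (i : Nat) : Nat := rdw 12 4095 col17_0 i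
noncomputable def col18 (i : Nat) : Nat := rdw 12 4095 col18_0 i
noncomputable def col19 (i : Nat) : Nat := rdw 12 4095 col19_0 i
noncomputable def col20 (i : Nat) : Nat := rdw 12 4095 col20_0 i
noncomputable def col21 (i : Nat) : Nat := rdw 12 4095 col21_0 i
noncomputable def col22 (i : Nat) : Nat := rdw 12 4095 col22_0 i
noncomputable def col23 (i : Nat) : Nat := rdw 12 4095 col23_0 i
noncomputable def col24 (i : Nat) : Nat := rdw 12 4095 col24_0 i
noncomputable def col25 (i : Nat) : Nat := rdw 12 4095 col25_0 i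
noncomputable def col26 (i : Nat) : Nat := rdw 12 4095 col26_0 i
noncomputable def col27 (i : Nat) : Nat := rdw 12 4095 col27_0 i
noncomputable def col28 (i : Nat) : Nat := rdw 12 4095 col28_0 i
noncomputable def col29 (i : Nat) : Nat := rdw 12 4095 col29_0 i
noncomputable def col30 (i : Nat) : Nat := rdw 12 4095 col30_0 i
noncomputable def col31 (i : Nat) : Nat := rdw 12 4095 col31_0 i
noncomputable def finTab_s_1_3 (c : Nat) : Nat := @Bool.rec (fun _ => Nat) (finTab_1) (finTab_2) (Nat.ble 2 c)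
noncomputable def finTab_s_0_3 (c : Nat) : Nat := @Bool.rec (fun _ => Nat) (finTab_0) (finTab_s_1_3 c) (Nat.ble 1 c)
noncomputable def finTab_s_3_5 (c : Nat) : Nat := @Bool.rec (fun _ => Nat) (finTab_3) (finTab_4) (Nat.ble 4 c)
noncomputable def finTab_s_5_7 (c : Nat) : Nat := @Bool.rec (fun _ => Nat) (finTab_5) (finTab_6) (Nat.ble 6 c)
noncomputable def finTab_s_3_7 (c : Nat) : Nat := @Bool.rec (fun _ => Nat) (finTab_s_3_5 c) (finTab_s_5_7 c) (Nat.ble 5 c)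
noncomputable def finTab_s_0_7 (c : Nat) : Nat := @Bool.rec (fun _ => Nat) (finTab_s_0_3 c) (finTab_s_3_7 c) (Nat.ble 3 c)
noncomputable def finTab_s_8_10 (c : Nat) : Nat := @Bool.rec (fun _ => Nat) (finTab_8) (finTab_9) (Nat.ble 9 c)
noncomputable def finTab_s_7_10 (c : Nat) : Nat := @Bool.rec (fun _ => Nat) (finTab_7) (finTab_s_8_10 c) (Nat.ble 8 c)
noncomputable def finTab_s_10_12 (c : Nat) : Nat := @Bool.rec (fun _ => Nat) (finTab_10) (finTab_11) (Nat.ble 11 c)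
noncomputable def finTab_s_12_14 (c : Nat) : Nat := @Bool.rec (fun _ => Nat) (finTab_12) (finTab_13) (Nat.ble 13 c)
noncomputable def finTab_s_10_14 (c : Nat) : Nat := @Bool.rec (fun _ => Nat) (finTab_s_10_12 c) (finTab_s_12_14 c) (Nat.ble 12 c)
noncomputable def finTab_s_7_14 (c : Nat) : Nat := @Bool.rec (fun _ => Nat) (finTab_s_7_10 c) (finTab_s_10_14 c) (Nat.ble 10 c)
noncomputable def finTab_s_0_14 (c : Nat) : Nat := @Bool.rec (fun _ => Nat) (finTab_s_0_7 c) (finTab_s_7_14 c) (Nat.ble 7 c)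
noncomputable def finTab_s_15_17 (c : Nat) : Nat := @Bool.rec (fun _ => Nat) (finTab_15) (finTab_16) (Nat.ble 16 c)
noncomputable def finTab_s_14_17 (c : Nat) : Nat := @Bool.rec (fun _ => Nat) (finTab_14) (finTab_s_15_17 c) (Nat.ble 15 c)
noncomputable def finTab_s_17_19 (c : Nat) : Nat := @Bool.rec (fun _ => Nat) (finTab_17) (finTab_18) (Nat.ble 18 c)
noncomputable def finTab_s_19_21 (c : Nat) : Nat := @Bool.rec (fun _ => Nat) (finTab_19) (finTab_20) (Nat.ble 20 c)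
noncomputable def finTab_s_17_21 (c : Nat) : Nat := @Bool.rec (fun _ => Nat) (finTab_s_17_19 c) (finTab_s_19_21 c) (Nat.ble 19 c)
noncomputable def finTab_s_14_21 (c : Nat) : Nat := @Bool.rec (fun _ => Nat) (finTab_s_14_17 c) (finTab_s_17_21 c) (Nat.ble 17 c)
noncomputable def finTab_s_22_24 (c : Nat) : Nat := @Bool.rec (fun _ => Nat) (finTab_22) (finTab_23) (Nat.ble 23 c)
noncomputable def finTab_s_21_24 (c : Nat) : Nat := @Bool.rec (fun _ => Nat) (finTab_21) (finTab_s_22_24 c) (Nat.ble 22 c)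
noncomputable def finTab_s_24_26 (c : Nat) : Nat := @Bool.rec (fun _ => Nat) (finTab_24) (finTab_25) (Nat.ble 25 c)
noncomputable def finTab_s_26_28 (c : Nat) : Nat := @Bool.rec (fun _ => Nat) (finTab_26) (finTab_27) (Nat.ble 27 c)
noncomputable def finTab_s_24_28 (c : Nat) : Nat := @Bool.rec (fun _ => Nat) (finTab_s_24_26 c) (finTab_s_26_28 c) (Nat.ble 26 c)
noncomputable def finTab_s_21_28 (c : Nat) : Nat := @Bool.rec (fun _ => Nat) (finTab_s_21_24 c) (finTab_s_24_28 c) (Nat.ble 24 c)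
noncomputable def finTab_s_14_28 (c : Nat) : Nat := @Bool.rec (fun _ => Nat) (finTab_s_14_21 c) (finTab_s_21_28 c) (Nat.ble 21 c)
noncomputable def finTab_s_0_28 (c : Nat) : Nat := @Bool.rec (fun _ => Nat) (finTab_s_0_14 c) (finTab_s_14_28 c) (Nat.ble 14 c)
noncomputable def finTab (i : Nat) : Nat := rdw 19 524287 (finTab_s_0_28 (Nat.shiftRight i 12)) (Nat.land i 4095)
noncomputable def clsTab_s_0_2 (c : Nat) : Nat := @Bool.rec (fun _ => Nat) (clsTab_0) (clsTab_1) (Nat.ble 1 c)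
noncomputable def clsTab (i : Nat) : Nat := rdw 12 4095 (clsTab_s_0_2 (Nat.shiftRight i 13)) (Nat.land i 8191)
noncomputable def oparTab (i : Nat) : Nat := rdw 12 4095 oparTab_0 i
noncomputable def olabTab (i : Nat) : Nat := rdw 5 31 olabTab_0 i
noncomputable def srcF (t : Nat) : Nat := Nat.land (Atab t) 16383
noncomputable def tgtF (t : Nat) : Nat := Nat.land (Nat.shiftRight (Atab t) 14) 16383
noncomputable def ltF (t : Nat) : Nat := Nat.shiftRight (Atab t) 28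
noncomputable def rhoF (t : Nat) : Nat := Nat.land (Btab (Nat.sub t 14757)) 511
noncomputable def rotF (t : Nat) : Nat := Nat.land (Nat.shiftRight (Btab (Nat.sub t 14757)) 9) 255
noncomputable def lenF (t : Nat) : Nat := Nat.land (Nat.shiftRight (Btab (Nat.sub t 14757)) 17) 511
noncomputable def offF (t : Nat) : Nat := Nat.shiftRight (Btab (Nat.sub t 14757)) 26
noncomputable def pfF (j : Nat) : Nat := Nat.shiftRight (Ptab j) 1
noncomputable def pdF (j : Nat) : Nat := Nat.land (Ptab j) 1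
noncomputable def tblF (i x : Nat) : Nat := @Bool.rec (fun _ => Nat) (@Bool.rec (fun _ => Nat) (@Bool.rec (fun _ => Nat) (@Bool.rec (fun _ => Nat) (@Bool.rec (fun _ => Nat) (col0 i) (col1 i) (Nat.ble 1 x)) (@Bool.rec (fun _ => Nat) (col2 i) (col3 i) (Nat.ble 3 x)) (Nat.ble 2 x)) (@Bool.rec (fun _ => Nat) (@Bool.rec (fun _ => Nat) (col4 i) (col5 i) (Nat.ble 5 x)) (@Bool.rec (fun _ => Nat) (col6 i) (col7 i) (Nat.ble 7 x)) (Nat.ble 6 x)) (Nat.ble 4 x)) (@Bool.rec (fun _ => Nat) (@Bool.rec (fun _ => Nat) (@Bool.rec (fun _ => Nat) (col8 i) (col9 i) (Nat.ble 9 x)) (@Bool.rec (fun _ => Nat) (col10 i) (col11 i) (Nat.ble 11 x)) (Nat.ble 10 x)) (@Bool.rec (fun _ => Nat) (@Bool.rec (fun _ => Nat) (col12 i) (col13 i) (Nat.ble 13 x)) (@Bool.rec (fun _ => Nat) (col14 i) (col15 i) (Nat.ble 15 x)) (Nat.ble 14 x)) (Nat.ble 12 x)) (Nat.ble 8 x)) (@Bool.rec (fun _ => Nat) (@Bool.rec (fun _ => Nat) (@Bool.rec (fun _ => Nat) (@Bool.rec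 (fun _ => Nat) (col16 i) (col17 i) (Nat.ble 17 x)) (@Bool.rec (fun _ => Nat) (col18 i) (col19 i) (Nat.ble 19 x)) (Nat.ble 18 x)) (@Bool.rec (fun _ => Nat) (@Bool.rec (fun _ => Nat) (col20 i) (col21 i) (Nat.ble 21 x)) (@Bool.rec (fun _ => Nat) (col22 i) (col23 i) (Nat.ble 23 x)) (Nat.ble 22 x)) (Nat.ble 20 x)) (@Bool.rec (fun _ => Nat) (@Bool.rec (fun _ => Nat) (@Bool.rec (fun _ => Nat) (col24 i) (col25 i) (Nat.ble 25 x)) (@Bool.rec (fun _ => Nat) (col26 i) (col27 i) (Nat.ble 27 x)) (Nat.ble 26 x)) (@Bool.rec (fun _ => Nat) (@Bool.rec (fun _ => Nat) (col28 i) (col29 i) (Nat.ble 29 x)) (@Bool.rec (fun _ => Nat) (col30 i) (col31 i) (Nat.ble 31 x)) (Nat.ble 30 x)) (Nat.ble 28 x)) (Nat.ble 24 x)) (Nat.ble 16 x)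
noncomputable def finE (i x : Nat) : Nat := finTab (Nat.add (Nat.mul i 32) x)
noncomputable def finFF (i x : Nat) : Nat := Nat.shiftRight (finE i x) 1
noncomputable def finDF (i x : Nat) : Nat := Nat.land (finE i x) 1

noncomputable def D : Log :=
  { k := 32, inv := invE 32 PC2Fi22x.invR, nR := 290, rBase := rBtab, rLen := rLtab, RR := RRtab,
    M := 14725, nB := 32, F := 144800, src := srcF, lt := ltF, tgt := tgtF, rho := rhoF, rot := rotF,
    off := offF, len := lenF, pf := pfF, pd := pdF }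

noncomputable def T : Tab :=
  { N := 3510, nameOf := nameTab, tbl := tblF, finF := finFF, finD := finDF, cls := clsTab }

def subs : List (List Nat) := [
  [0],
  [4],
  [6],
  [8],
  [10],
  [12],
  [14],
  [16],
  (List.replicate 5 [0, 2, 4, 6, 8, 14]).flatten,
  [30],
  [18],
  [20],
  [22],
  [24],
  [26],
  [28] ]

def rw0 : List Nat := [0, 0]
def rw1 : List Nat := [0, 2, 0, 2, 0, 2]
def rw2 : List Nat := [0, 4, 0, 4]
def rw3 : List Nat := [0, 6, 0, 6]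
def rw4 : List Nat := [0, 8, 0, 8]
def rw5 : List Nat := [0, 14, 0, 14]
def rw6 : List Nat := [0, 10, 0, 10]
def rw7 : List Nat := [0, 12, 0, 12]
def rw8 : List Nat := [0, 16, 0, 16]
def rw9 : List Nat := [2, 2]
def rw10 : List Nat := [2, 4, 2, 4, 2, 4]
def rw11 : List Nat := [2, 6, 2, 6]
def rw12 : List Nat := [2, 8, 2, 8]
def rw13 : List Nat := [2, 14, 2, 14]
def rw14 : List Nat := [2, 10, 2, 10]
def rw15 : List Nat := [2, 12, 2, 12]
def rw16 : List Nat := [2, 16, 2, 16]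
def rw17 : List Nat := [4, 4]
def rw18 : List Nat := [4, 6, 4, 6, 4, 6]
def rw19 : List Nat := [4, 8, 4, 8]
def rw20 : List Nat := [4, 14, 4, 14]
def rw21 : List Nat := [4, 10, 4, 10]
def rw22 : List Nat := [4, 12, 4, 12]
def rw23 : List Nat := [4, 16, 4, 16]
def rw24 : List Nat := [6, 6]
def rw25 : List Nat := [6, 8, 6, 8, 6, 8]
def rw26 : List Nat := [6, 14, 6, 14, 6, 14]
def rw27 : List Nat := [6, 10, 6, 10]
def rw28 : List Nat := [6, 12, 6, 12]
def rw29 : List Nat := [6, 16, 6, 16]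
def rw30 : List Nat := [8, 8]
def rw31 : List Nat := [8, 14, 8, 14]
def rw32 : List Nat := [8, 10, 8, 10, 8, 10]
def rw33 : List Nat := [8, 12, 8, 12]
def rw34 : List Nat := [8, 16, 8, 16]
def rw35 : List Nat := [14, 14]
def rw36 : List Nat := [14, 10, 14, 10]
def rw37 : List Nat := [14, 12, 14, 12]
def rw38 : List Nat := [14, 16, 14, 16, 14, 16]
def rw39 : List Nat := [10, 10]
def rw40 : List Nat := [10, 12, 10, 12, 10, 12]
def rw41 : List Nat := [10, 16, 10, 16]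
def rw42 : List Nat := [12, 12]
def rw43 : List Nat := [12, 16, 12, 16]
def rw44 : List Nat := [16, 16]
def rw45 : List Nat := [6, 4, 2, 6, 8, 10, 6, 14, 16, 6, 4, 2, 6, 8, 10, 6, 14, 16, 6, 4, 2, 6, 8, 10, 6, 14, 16, 6, 4, 2, 6, 8, 10, 6, 14, 16, 6, 4, 2, 6, 8, 10, 6, 14, 16, 6, 4, 2, 6, 8, 10, 6, 14, 16, 6, 4, 2, 6, 8, 10, 6, 14, 16, 6, 4, 2, 6, 8, 10, 6, 14, 16, 6, 4, 2, 6, 8, 10, 6, 14, 16, 6, 4, 2, 6, 8, 10, 6, 14, 16]
def rw46 : List Nat := [0, 2, 4, 6, 8, 10, 14, 0, 2, 4, 6, 8, 10, 14, 0, 2, 4, 6, 8, 10, 14, 0, 2, 4, 6, 8, 10, 14, 0, 2, 4, 6, 8, 10, 14, 0, 2, 4, 6, 8, 10, 14, 0, 2, 4, 6, 8, 10, 14, 0, 2, 4, 6, 8, 10, 14, 0, 2, 4, 6, 8, 10, 14, 31]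
def rw47 : List Nat := [2, 4, 6, 8, 10, 12, 14, 2, 4, 6, 8, 10, 12, 14, 2, 4, 6, 8, 10, 12, 14, 2, 4, 6, 8, 10, 12, 14, 2, 4, 6, 8, 10, 12, 14, 2, 4, 6, 8, 10, 12, 14, 2, 4, 6, 8, 10, 12, 14, 2, 4, 6, 8, 10, 12, 14, 2, 4, 6, 8, 10, 12, 14]
def rw48 : List Nat := [19, 12, 10, 6, 8, 4, 6, 2, 4, 0, 2, 0, 2, 0, 4, 2, 6, 4, 8, 6, 10, 12, 0, 30]
def rw49 : List Nat := [21, 14, 8, 10, 6, 8, 4, 6, 14, 16, 6, 14, 8, 10, 6, 8, 2, 4, 6, 14, 12, 10, 8, 6, 4, 2, 0, 2, 4, 6, 8, 10, 12, 14, 6, 4, 2, 8, 6, 10, 8, 14, 6, 16, 14, 6, 4, 8, 6, 10, 8, 14, 16, 6, 14, 8, 10, 6, 8, 2, 4, 6, 14, 12, 10, 8, 6, 4, 2, 0, 2, 4, 6, 8, 10, 12, 14, 6, 4, 2, 8, 6, 10, 8, 14, 6, 16, 14, 6, 8, 4, 6, 14, 16, 2, 4, 6, 14, 8, 6, 4, 2, 0, 2, 4, 6, 8, 14, 6, 4, 2, 16, 14, 6, 4, 8, 6, 14, 10, 8, 6, 14, 12, 10, 8, 6, 2, 4, 0, 2, 0, 2, 0, 4, 2, 6, 8, 10, 12, 14, 6, 8, 10]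
def rw50 : List Nat := [23, 10, 8, 4, 6, 14, 16, 14, 8, 10, 4, 6, 8, 2, 4, 6, 14, 12, 10, 8, 6, 4, 2, 0, 2, 4, 6, 8, 10, 12, 14, 6, 4, 2, 8, 6, 4, 10, 8, 14, 16, 14, 6, 4, 8, 10, 2, 4, 0, 2, 0, 2, 0, 4, 2]
def rw51 : List Nat := [25, 16, 8, 6, 14, 10, 12, 8, 10, 6, 8, 4, 6, 14, 16, 8, 10, 4, 6, 8, 2, 4, 6, 14, 12, 10, 8, 6, 4, 2, 0, 2, 4, 6, 8, 10, 12, 14, 6, 4, 2, 8, 6, 4, 10, 8, 16, 14, 6, 4, 8, 6, 10, 8, 12, 10, 14, 6, 8, 16, 0, 30]
def rw52 : List Nat := [27, 6, 14, 16, 4, 6, 14, 8, 10, 6, 8, 4, 6, 14, 16, 6, 14, 8, 10, 6, 8, 2, 4, 6, 14, 12, 10, 8, 6, 4, 2, 0, 2, 4, 6, 8, 10, 12, 14, 6, 4, 2, 8, 6, 10, 8, 14, 6, 16, 14, 6, 4, 8, 6, 10, 8, 14, 6, 4, 16, 14, 6, 6, 8, 4, 6, 14, 16, 8, 2, 4, 6, 14, 10, 8, 6, 4, 2, 0, 2, 4, 6, 8, 10, 14, 6, 4, 2, 8, 16, 14, 6, 4, 8, 6, 4, 6, 14, 16, 6, 8, 2, 4, 6, 14, 10, 8, 6, 4, 2, 0, 2, 4, 6, 8, 10, 14, 6, 4, 2, 8, 6, 16, 14, 6, 4, 14, 6, 8, 2, 4, 6, 14, 12, 10, 8, 6, 4, 2,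 0, 2, 4, 6, 8, 10, 12, 14, 6, 4, 2, 8, 6, 14]
def rw53 : List Nat := [29, 0, 30]
def rw54 : List Nat := [18, 18]
def rw55 : List Nat := [20, 20, 20, 20, 20]
def rw56 : List Nat := [18, 20, 18, 20, 18, 20, 18, 20, 18, 20, 18, 20, 18, 20, 18, 20, 18, 20]
def rw57 : List Nat := [19, 21, 18, 20, 19, 21, 18, 20, 19, 21, 18, 20]
def rw58 : List Nat := [19, 21, 19, 21, 18, 20, 18, 20, 19, 21, 19, 21, 18, 20, 18, 20]
def rw59 : List Nat := [22, 22, 22]
def rw60 : List Nat := [23, 19, 22, 18]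
def rw61 : List Nat := [23, 21, 22, 20]
def rw62 : List Nat := [24, 24]
def rw63 : List Nat := [18, 24, 18, 24, 18, 24]
def rw64 : List Nat := [18, 20, 18, 20, 22, 24, 18, 20, 24]
def rw65 : List Nat := [26, 26, 26]
def rw66 : List Nat := [18, 20, 18, 20, 18, 20, 22, 24, 20, 18, 26, 20, 18, 21, 27, 18, 21]
def rw67 : List Nat := [18, 20, 18, 20, 18, 20, 18, 26, 22, 26, 20, 18, 21, 18, 21, 18, 20, 20, 1]
def rw68 : List Nat := [18, 20, 18, 20, 18, 20, 18, 21, 21, 18, 21, 22, 24, 20, 20, 24, 18, 21, 26, 24, 26, 23, 20, 24, 27, 21, 21, 29]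
def rw69 : List Nat := [28, 28]
def rw70 : List Nat := [1, 19, 0, 18]
def rw71 : List Nat := [1, 21, 0, 20]
def rw72 : List Nat := [1, 23, 0, 22]
def rw73 : List Nat := [1, 25, 0, 24]
def rw74 : List Nat := [1, 27, 0, 26]
def rw75 : List Nat := [29, 19, 28, 18]
def rw76 : List Nat := [29, 21, 28, 20]
def rw77 : List Nat := [29, 23, 28, 22]
def rw78 : List Nat := [29, 25, 28, 24]
def rw79 : List Nat := [29, 27, 28, 26]
def rw80 : List Nat := [1, 29, 0, 28]
def rw81 : List Nat := [30, 30]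
def rw82 : List Nat := [31, 1, 30, 0]
def rw83 : List Nat := [31, 3, 30, 2]
def rw84 : List Nat := [31, 5, 30, 4]
def rw85 : List Nat := [31, 7, 30, 6]
def rw86 : List Nat := [31, 9, 30, 8]
def rw87 : List Nat := [31, 11, 30, 10]
def rw88 : List Nat := [31, 13, 30, 12]
def rw89 : List Nat := [31, 15, 30, 14]
def rw90 : List Nat := [31, 17, 30, 16]
def rw91 : List Nat := [31, 19, 30, 18]
def rw92 : List Nat := [31, 21, 30, 20]
def rw93 : List Nat := [31, 23, 30, 22]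
def rw94 : List Nat := [31, 25, 30, 24]
def rw95 : List Nat := [31, 27, 30, 26]
def rw96 : List Nat := [31, 29, 30, 28]
def realLit : List (List Nat) := [rw0, rw1, rw2, rw3, rw4, rw5, rw6, rw7, rw8, rw9, rw10, rw11, rw12, rw13, rw14, rw15, rw16, rw17, rw18, rw19, rw20, rw21, rw22, rw23, rw24, rw25, rw26, rw27, rw28, rw29, rw30, rw31, rw32, rw33, rw34, rw35, rw36, rw37, rw38, rw39, rw40, rw41, rw42, rw43, rw44, rw45, rw46, rw47, rw48, rw49, rw50, rw51, rw52, rw53, rw54, rw55, rw56, rw57, rw58, rw59, rw60, rw61, rw62, rw63, rw64, rw65, rw66, rw67, rw68, rw69, rw70, rw71, rw72, rw73, rw74, rw75, rw76, rw77, rw78, rw79, rw80, rw81, rw82, rw83, rw84, rw85, rw86, rw87, rw88, rw89, rw90, rw91, rw92, rw93, rw94, rw95, rw96]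
noncomputable def actR0 (i : Nat) : Nat := col1 (col1 (i))
theorem actR0_eq (i : Nat) : actR0 i = Tab.act T D rw0 i := rfl
noncomputable def actR1 (i : Nat) : Nat := col1 (col3 (col1 (col3 (col1 (col3 (i))))))
theorem actR1_eq (i : Nat) : actR1 i = Tab.act T D rw1 i := rfl
noncomputable def actR2 (i : Nat) : Nat := col1 (col5 (col1 (col5 (i))))
theorem actR2_eq (i : Nat) : actR2 i = Tab.act T D rw2 i := rfl
noncomputable def actR3 (i : Nat) : Nat := col1 (col7 (col1 (col7 (i))))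
theorem actR3_eq (i : Nat) : actR3 i = Tab.act T D rw3 i := rfl
noncomputable def actR4 (i : Nat) : Nat := col1 (col9 (col1 (col9 (i))))
theorem actR4_eq (i : Nat) : actR4 i = Tab.act T D rw4 i := rfl
noncomputable def actR5 (i : Nat) : Nat := col1 (col15 (col1 (col15 (i))))
theorem actR5_eq (i : Nat) : actR5 i = Tab.act T D rw5 i := rfl
noncomputable def actR6 (i : Nat) : Nat := col1 (col11 (col1 (col11 (i))))
theorem actR6_eq (i : Nat) : actR6 i = Tab.act T D rw6 i := rfl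
noncomputable def actR7 (i : Nat) : Nat := col1 (col13 (col1 (col13 (i))))
theorem actR7_eq (i : Nat) : actR7 i = Tab.act T D rw7 i := rfl
noncomputable def actR8 (i : Nat) : Nat := col1 (col17 (col1 (col17 (i))))
theorem actR8_eq (i : Nat) : actR8 i = Tab.act T D rw8 i := rfl
noncomputable def actR9 (i : Nat) : Nat := col3 (col3 (i))
theorem actR9_eq (i : Nat) : actR9 i = Tab.act T D rw9 i := rfl
noncomputable def actR10 (i : Nat) : Nat := col3 (col5 (col3 (col5 (col3 (col5 (i))))))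
theorem actR10_eq (i : Nat) : actR10 i = Tab.act T D rw10 i := rfl
noncomputable def actR11 (i : Nat) : Nat := col3 (col7 (col3 (col7 (i))))
theorem actR11_eq (i : Nat) : actR11 i = Tab.act T D rw11 i := rfl
noncomputable def actR12 (i : Nat) : Nat := col3 (col9 (col3 (col9 (i))))
theorem actR12_eq (i : Nat) : actR12 i = Tab.act T D rw12 i := rfl
noncomputable def actR13 (i : Nat) : Nat := col3 (col15 (col3 (col15 (i))))
theorem actR13_eq (i : Nat) : actR13 i = Tab.act T D rw13 i := rfl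
noncomputable def actR14 (i : Nat) : Nat := col3 (col11 (col3 (col11 (i))))
theorem actR14_eq (i : Nat) : actR14 i = Tab.act T D rw14 i := rfl
noncomputable def actR15 (i : Nat) : Nat := col3 (col13 (col3 (col13 (i))))
theorem actR15_eq (i : Nat) : actR15 i = Tab.act T D rw15 i := rfl
noncomputable def actR16 (i : Nat) : Nat := col3 (col17 (col3 (col17 (i))))
theorem actR16_eq (i : Nat) : actR16 i = Tab.act T D rw16 i := rfl
noncomputable def actR17 (i : Nat) : Nat := col5 (col5 (i))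
theorem actR17_eq (i : Nat) : actR17 i = Tab.act T D rw17 i := rfl
noncomputable def actR18 (i : Nat) : Nat := col5 (col7 (col5 (col7 (col5 (col7 (i))))))
theorem actR18_eq (i : Nat) : actR18 i = Tab.act T D rw18 i := rfl
noncomputable def actR19 (i : Nat) : Nat := col5 (col9 (col5 (col9 (i))))
theorem actR19_eq (i : Nat) : actR19 i = Tab.act T D rw19 i := rfl
noncomputable def actR20 (i : Nat) : Nat := col5 (col15 (col5 (col15 (i))))
theorem actR20_eq (i : Nat) : actR20 i = Tab.act T D rw20 i := rfl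
noncomputable def actR21 (i : Nat) : Nat := col5 (col11 (col5 (col11 (i))))
theorem actR21_eq (i : Nat) : actR21 i = Tab.act T D rw21 i := rfl
noncomputable def actR22 (i : Nat) : Nat := col5 (col13 (col5 (col13 (i))))
theorem actR22_eq (i : Nat) : actR22 i = Tab.act T D rw22 i := rfl
noncomputable def actR23 (i : Nat) : Nat := col5 (col17 (col5 (col17 (i))))
theorem actR23_eq (i : Nat) : actR23 i = Tab.act T D rw23 i := rfl
noncomputable def actR24 (i : Nat) : Nat := col7 (col7 (i))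
theorem actR24_eq (i : Nat) : actR24 i = Tab.act T D rw24 i := rfl
noncomputable def actR25 (i : Nat) : Nat := col7 (col9 (col7 (col9 (col7 (col9 (i))))))
theorem actR25_eq (i : Nat) : actR25 i = Tab.act T D rw25 i := rfl
noncomputable def actR26 (i : Nat) : Nat := col7 (col15 (col7 (col15 (col7 (col15 (i))))))
theorem actR26_eq (i : Nat) : actR26 i = Tab.act T D rw26 i := rfl
noncomputable def actR27 (i : Nat) : Nat := col7 (col11 (col7 (col11 (i))))
theorem actR27_eq (i : Nat) : actR27 i = Tab.act T D rw27 i := rfl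
noncomputable def actR28 (i : Nat) : Nat := col7 (col13 (col7 (col13 (i))))
theorem actR28_eq (i : Nat) : actR28 i = Tab.act T D rw28 i := rfl
noncomputable def actR29 (i : Nat) : Nat := col7 (col17 (col7 (col17 (i))))
theorem actR29_eq (i : Nat) : actR29 i = Tab.act T D rw29 i := rfl
noncomputable def actR30 (i : Nat) : Nat := col9 (col9 (i))
theorem actR30_eq (i : Nat) : actR30 i = Tab.act T D rw30 i := rfl
noncomputable def actR31 (i : Nat) : Nat := col9 (col15 (col9 (col15 (i))))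
theorem actR31_eq (i : Nat) : actR31 i = Tab.act T D rw31 i := rfl
noncomputable def actR32 (i : Nat) : Nat := col9 (col11 (col9 (col11 (col9 (col11 (i))))))
theorem actR32_eq (i : Nat) : actR32 i = Tab.act T D rw32 i := rfl
noncomputable def actR33 (i : Nat) : Nat := col9 (col13 (col9 (col13 (i))))
theorem actR33_eq (i : Nat) : actR33 i = Tab.act T D rw33 i := rfl
noncomputable def actR34 (i : Nat) : Nat := col9 (col17 (col9 (col17 (i))))
theorem actR34_eq (i : Nat) : actR34 i = Tab.act T D rw34 i := rfl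
noncomputable def actR35 (i : Nat) : Nat := col15 (col15 (i))
theorem actR35_eq (i : Nat) : actR35 i = Tab.act T D rw35 i := rfl
noncomputable def actR36 (i : Nat) : Nat := col15 (col11 (col15 (col11 (i))))
theorem actR36_eq (i : Nat) : actR36 i = Tab.act T D rw36 i := rfl
noncomputable def actR37 (i : Nat) : Nat := col15 (col13 (col15 (col13 (i))))
theorem actR37_eq (i : Nat) : actR37 i = Tab.act T D rw37 i := rfl
noncomputable def actR38 (i : Nat) : Nat := col15 (col17 (col15 (col17 (col15 (col17 (i))))))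
theorem actR38_eq (i : Nat) : actR38 i = Tab.act T D rw38 i := rfl
noncomputable def actR39 (i : Nat) : Nat := col11 (col11 (i))
theorem actR39_eq (i : Nat) : actR39 i = Tab.act T D rw39 i := rfl
noncomputable def actR40 (i : Nat) : Nat := col11 (col13 (col11 (col13 (col11 (col13 (i))))))
theorem actR40_eq (i : Nat) : actR40 i = Tab.act T D rw40 i := rfl
noncomputable def actR41 (i : Nat) : Nat := col11 (col17 (col11 (col17 (i))))
theorem actR41_eq (i : Nat) : actR41 i = Tab.act T D rw41 i := rfl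
noncomputable def actR42 (i : Nat) : Nat := col13 (col13 (i))
theorem actR42_eq (i : Nat) : actR42 i = Tab.act T D rw42 i := rfl
noncomputable def actR43 (i : Nat) : Nat := col13 (col17 (col13 (col17 (i))))
theorem actR43_eq (i : Nat) : actR43 i = Tab.act T D rw43 i := rfl
noncomputable def actR44 (i : Nat) : Nat := col17 (col17 (i))
theorem actR44_eq (i : Nat) : actR44 i = Tab.act T D rw44 i := rfl
noncomputable def actR45 (i : Nat) : Nat := col7 (col5 (col3 (col7 (col9 (col11 (col7 (col15 (col17 (col7 (col5 (col3 (col7 (col9 (col11 (col7 (col15 (col17 (col7 (col5 (col3 (col7 (col9 (col11 (col7 (col15 (col17 (col7 (col5 (col3 (col7 (col9 (col11 (col7 (col15 (col17 (col7 (col5 (col3 (col7 (col9 (col11 (col7 (col15 (col17 (col7 (col5 (col3 (col7 (col9 (col11 (col7 (col15 (col17 (col7 (col5 (col3 (col7 (col9 (col11 (col7 (col15 (col17 (col7 (col5 (col3 (col7 (col9 (col11 (col7 (col15 (col17 (col7 (col5 (col3 (col7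 (col9 (col11 (col7 (col15 (col17 (col7 (col5 (col3 (col7 (col9 (col11 (col7 (col15 (col17 (i))))))))))))))))))))))))))))))))))))))))))))))))))))))))))))))))))))))))))))))))))))))))))
theorem actR45_eq (i : Nat) : actR45 i = Tab.act T D rw45 i := rfl
noncomputable def actR46 (i : Nat) : Nat := col1 (col3 (col5 (col7 (col9 (col11 (col15 (col1 (col3 (col5 (col7 (col9 (col11 (col15 (col1 (col3 (col5 (col7 (col9 (col11 (col15 (col1 (col3 (col5 (col7 (col9 (col11 (col15 (col1 (col3 (col5 (col7 (col9 (col11 (col15 (col1 (col3 (col5 (col7 (col9 (col11 (col15 (col1 (col3 (col5 (col7 (col9 (col11 (col15 (col1 (col3 (col5 (col7 (col9 (col11 (col15 (col1 (col3 (col5 (col7 (col9 (col11 (col15 (col30 (i))))))))))))))))))))))))))))))))))))))))))))))))))))))))))))))))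
theorem actR46_eq (i : Nat) : actR46 i = Tab.act T D rw46 i := rfl
noncomputable def actR47 (i : Nat) : Nat := col3 (col5 (col7 (col9 (col11 (col13 (col15 (col3 (col5 (col7 (col9 (col11 (col13 (col15 (col3 (col5 (col7 (col9 (col11 (col13 (col15 (col3 (col5 (col7 (col9 (col11 (col13 (col15 (col3 (col5 (col7 (col9 (col11 (col13 (col15 (col3 (col5 (col7 (col9 (col11 (col13 (col15 (col3 (col5 (col7 (col9 (col11 (col13 (col15 (col3 (col5 (col7 (col9 (col11 (col13 (col15 (col3 (col5 (col7 (col9 (col11 (col13 (col15 (i)))))))))))))))))))))))))))))))))))))))))))))))))))))))))))))))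
theorem actR47_eq (i : Nat) : actR47 i = Tab.act T D rw47 i := rfl
noncomputable def actR48 (i : Nat) : Nat := col18 (col13 (col11 (col7 (col9 (col5 (col7 (col3 (col5 (col1 (col3 (col1 (col3 (col1 (col5 (col3 (col7 (col5 (col9 (col7 (col11 (col13 (col1 (col31 (i))))))))))))))))))))))))
theorem actR48_eq (i : Nat) : actR48 i = Tab.act T D rw48 i := rfl
noncomputable def actR49 (i : Nat) : Nat := col20 (col15 (col9 (col11 (col7 (col9 (col5 (col7 (col15 (col17 (col7 (col15 (col9 (col11 (col7 (col9 (col3 (col5 (col7 (col15 (col13 (col11 (col9 (col7 (col5 (col3 (col1 (col3 (col5 (col7 (col9 (col11 (col13 (col15 (col7 (col5 (col3 (col9 (col7 (col11 (col9 (col15 (col7 (col17 (col15 (col7 (col5 (col9 (col7 (col11 (col9 (col15 (col17 (col7 (col15 (col9 (col11 (col7 (col9 (col3 (col5 (col7 (col15 (col13 (col11 (col9 (col7 (col5 (col3 (col1 (col3 (col5 (col7 (col9 (col11 (col13 (col15 (col7 (col5 (col3 (col9 (col7 (col11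 (col9 (col15 (col7 (col17 (col15 (col7 (col9 (col5 (col7 (col15 (col17 (col3 (col5 (col7 (col15 (col9 (col7 (col5 (col3 (col1 (col3 (col5 (col7 (col9 (col15 (col7 (col5 (col3 (col17 (col15 (col7 (col5 (col9 (col7 (col15 (col11 (col9 (col7 (col15 (col13 (col11 (col9 (col7 (col3 (col5 (col1 (col3 (col1 (col3 (col1 (col5 (col3 (col7 (col9 (col11 (col13 (col15 (col7 (col9 (col11 (i)))))))))))))))))))))))))))))))))))))))))))))))))))))))))))))))))))))))))))))))))))))))))))))))))))))))))))))))))))))))))))))))))))))))))))))))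
theorem actR49_eq (i : Nat) : actR49 i = Tab.act T D rw49 i := rfl
noncomputable def actR50 (i : Nat) : Nat := col22 (col11 (col9 (col5 (col7 (col15 (col17 (col15 (col9 (col11 (col5 (col7 (col9 (col3 (col5 (col7 (col15 (col13 (col11 (col9 (col7 (col5 (col3 (col1 (col3 (col5 (col7 (col9 (col11 (col13 (col15 (col7 (col5 (col3 (col9 (col7 (col5 (col11 (col9 (col15 (col17 (col15 (col7 (col5 (col9 (col11 (col3 (col5 (col1 (col3 (col1 (col3 (col1 (col5 (col3 (i)))))))))))))))))))))))))))))))))))))))))))))))))))))))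
theorem actR50_eq (i : Nat) : actR50 i = Tab.act T D rw50 i := rfl
noncomputable def actR51 (i : Nat) : Nat := col24 (col17 (col9 (col7 (col15 (col11 (col13 (col9 (col11 (col7 (col9 (col5 (col7 (col15 (col17 (col9 (col11 (col5 (col7 (col9 (col3 (col5 (col7 (col15 (col13 (col11 (col9 (col7 (col5 (col3 (col1 (col3 (col5 (col7 (col9 (col11 (col13 (col15 (col7 (col5 (col3 (col9 (col7 (col5 (col11 (col9 (col17 (col15 (col7 (col5 (col9 (col7 (col11 (col9 (col13 (col11 (col15 (col7 (col9 (col17 (col1 (col31 (i))))))))))))))))))))))))))))))))))))))))))))))))))))))))))))))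
theorem actR51_eq (i : Nat) : actR51 i = Tab.act T D rw51 i := rfl
noncomputable def actR52 (i : Nat) : Nat := col26 (col7 (col15 (col17 (col5 (col7 (col15 (col9 (col11 (col7 (col9 (col5 (col7 (col15 (col17 (col7 (col15 (col9 (col11 (col7 (col9 (col3 (col5 (col7 (col15 (col13 (col11 (col9 (col7 (col5 (col3 (col1 (col3 (col5 (col7 (col9 (col11 (col13 (col15 (col7 (col5 (col3 (col9 (col7 (col11 (col9 (col15 (col7 (col17 (col15 (col7 (col5 (col9 (col7 (col11 (col9 (col15 (col7 (col5 (col17 (col15 (col7 (col7 (col9 (col5 (col7 (col15 (col17 (col9 (col3 (col5 (col7 (col15 (col11 (col9 (col7 (col5 (col3 (col1 (col3 (col5 (col7 (col9 (col11 (col15 (col7 (col5 (col3 (col9 (col17 (col15 (col7 (col5 (col9 (col7 (col5 (col7 (col15 (col17 (col7 (col9 (col3 (col5 (col7 (col15 (col11 (col9 (col7 (col5 (col3 (col1 (col3 (col5 (col7 (col9 (col11 (col15 (col7 (col5 (col3 (col9 (col7 (col17 (col15 (col7 (col5 (col15 (col7 (col9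 (col3 (col5 (col7 (col15 (col13 (col11 (col9 (col7 (col5 (col3 (col1 (col3 (col5 (col7 (col9 (col11 (col13 (col15 (col7 (col5 (col3 (col9 (col7 (col15 (i)))))))))))))))))))))))))))))))))))))))))))))))))))))))))))))))))))))))))))))))))))))))))))))))))))))))))))))))))))))))))))))))))))))))))))))))))))))))))
theorem actR52_eq (i : Nat) : actR52 i = Tab.act T D rw52 i := rfl
noncomputable def actR53 (i : Nat) : Nat := col28 (col1 (col31 (i)))
theorem actR53_eq (i : Nat) : actR53 i = Tab.act T D rw53 i := rfl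
noncomputable def actR54 (i : Nat) : Nat := col19 (col19 (i))
theorem actR54_eq (i : Nat) : actR54 i = Tab.act T D rw54 i := rfl
noncomputable def actR55 (i : Nat) : Nat := col21 (col21 (col21 (col21 (col21 (i)))))
theorem actR55_eq (i : Nat) : actR55 i = Tab.act T D rw55 i := rfl
noncomputable def actR56 (i : Nat) : Nat := col19 (col21 (col19 (col21 (col19 (col21 (col19 (col21 (col19 (col21 (col19 (col21 (col19 (col21 (col19 (col21 (col19 (col21 (i))))))))))))))))))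
theorem actR56_eq (i : Nat) : actR56 i = Tab.act T D rw56 i := rfl
noncomputable def actR57 (i : Nat) : Nat := col18 (col20 (col19 (col21 (col18 (col20 (col19 (col21 (col18 (col20 (col19 (col21 (i))))))))))))
theorem actR57_eq (i : Nat) : actR57 i = Tab.act T D rw57 i := rfl
noncomputable def actR58 (i : Nat) : Nat := col18 (col20 (col18 (col20 (col19 (col21 (col19 (col21 (col18 (col20 (col18 (col20 (col19 (col21 (col19 (col21 (i))))))))))))))))
theorem actR58_eq (i : Nat) : actR58 i = Tab.act T D rw58 i := rfl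
noncomputable def actR59 (i : Nat) : Nat := col23 (col23 (col23 (i)))
theorem actR59_eq (i : Nat) : actR59 i = Tab.act T D rw59 i := rfl
noncomputable def actR60 (i : Nat) : Nat := col22 (col18 (col23 (col19 (i))))
theorem actR60_eq (i : Nat) : actR60 i = Tab.act T D rw60 i := rfl
noncomputable def actR61 (i : Nat) : Nat := col22 (col20 (col23 (col21 (i))))
theorem actR61_eq (i : Nat) : actR61 i = Tab.act T D rw61 i := rfl
noncomputable def actR62 (i : Nat) : Nat := col25 (col25 (i))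
theorem actR62_eq (i : Nat) : actR62 i = Tab.act T D rw62 i := rfl
noncomputable def actR63 (i : Nat) : Nat := col19 (col25 (col19 (col25 (col19 (col25 (i))))))
theorem actR63_eq (i : Nat) : actR63 i = Tab.act T D rw63 i := rfl
noncomputable def actR64 (i : Nat) : Nat := col19 (col21 (col19 (col21 (col23 (col25 (col19 (col21 (col25 (i)))))))))
theorem actR64_eq (i : Nat) : actR64 i = Tab.act T D rw64 i := rfl
noncomputable def actR65 (i : Nat) : Nat := col27 (col27 (col27 (i)))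
theorem actR65_eq (i : Nat) : actR65 i = Tab.act T D rw65 i := rfl
noncomputable def actR66 (i : Nat) : Nat := col19 (col21 (col19 (col21 (col19 (col21 (col23 (col25 (col21 (col19 (col27 (col21 (col19 (col20 (col26 (col19 (col20 (i)))))))))))))))))
theorem actR66_eq (i : Nat) : actR66 i = Tab.act T D rw66 i := rfl
noncomputable def actR67 (i : Nat) : Nat := col19 (col21 (col19 (col21 (col19 (col21 (col19 (col27 (col23 (col27 (col21 (col19 (col20 (col19 (col20 (col19 (col21 (col21 (col0 (i)))))))))))))))))))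
theorem actR67_eq (i : Nat) : actR67 i = Tab.act T D rw67 i := rfl
noncomputable def actR68 (i : Nat) : Nat := col19 (col21 (col19 (col21 (col19 (col21 (col19 (col20 (col20 (col19 (col20 (col23 (col25 (col21 (col21 (col25 (col19 (col20 (col27 (col25 (col27 (col22 (col21 (col25 (col26 (col20 (col20 (col28 (i))))))))))))))))))))))))))))
theorem actR68_eq (i : Nat) : actR68 i = Tab.act T D rw68 i := rfl
noncomputable def actR69 (i : Nat) : Nat := col29 (col29 (i))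
theorem actR69_eq (i : Nat) : actR69 i = Tab.act T D rw69 i := rfl
noncomputable def actR70 (i : Nat) : Nat := col0 (col18 (col1 (col19 (i))))
theorem actR70_eq (i : Nat) : actR70 i = Tab.act T D rw70 i := rfl
noncomputable def actR71 (i : Nat) : Nat := col0 (col20 (col1 (col21 (i))))
theorem actR71_eq (i : Nat) : actR71 i = Tab.act T D rw71 i := rfl
noncomputable def actR72 (i : Nat) : Nat := col0 (col22 (col1 (col23 (i))))
theorem actR72_eq (i : Nat) : actR72 i = Tab.act T D rw72 i := rfl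
noncomputable def actR73 (i : Nat) : Nat := col0 (col24 (col1 (col25 (i))))
theorem actR73_eq (i : Nat) : actR73 i = Tab.act T D rw73 i := rfl
noncomputable def actR74 (i : Nat) : Nat := col0 (col26 (col1 (col27 (i))))
theorem actR74_eq (i : Nat) : actR74 i = Tab.act T D rw74 i := rfl
noncomputable def actR75 (i : Nat) : Nat := col28 (col18 (col29 (col19 (i))))
theorem actR75_eq (i : Nat) : actR75 i = Tab.act T D rw75 i := rfl
noncomputable def actR76 (i : Nat) : Nat := col28 (col20 (col29 (col21 (i))))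
theorem actR76_eq (i : Nat) : actR76 i = Tab.act T D rw76 i := rfl
noncomputable def actR77 (i : Nat) : Nat := col28 (col22 (col29 (col23 (i))))
theorem actR77_eq (i : Nat) : actR77 i = Tab.act T D rw77 i := rfl
noncomputable def actR78 (i : Nat) : Nat := col28 (col24 (col29 (col25 (i))))
theorem actR78_eq (i : Nat) : actR78 i = Tab.act T D rw78 i := rfl
noncomputable def actR79 (i : Nat) : Nat := col28 (col26 (col29 (col27 (i))))
theorem actR79_eq (i : Nat) : actR79 i = Tab.act T D rw79 i := rfl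
noncomputable def actR80 (i : Nat) : Nat := col0 (col28 (col1 (col29 (i))))
theorem actR80_eq (i : Nat) : actR80 i = Tab.act T D rw80 i := rfl
noncomputable def actR81 (i : Nat) : Nat := col31 (col31 (i))
theorem actR81_eq (i : Nat) : actR81 i = Tab.act T D rw81 i := rfl
noncomputable def actR82 (i : Nat) : Nat := col30 (col0 (col31 (col1 (i))))
theorem actR82_eq (i : Nat) : actR82 i = Tab.act T D rw82 i := rfl
noncomputable def actR83 (i : Nat) : Nat := col30 (col2 (col31 (col3 (i))))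
theorem actR83_eq (i : Nat) : actR83 i = Tab.act T D rw83 i := rfl
noncomputable def actR84 (i : Nat) : Nat := col30 (col4 (col31 (col5 (i))))
theorem actR84_eq (i : Nat) : actR84 i = Tab.act T D rw84 i := rfl
noncomputable def actR85 (i : Nat) : Nat := col30 (col6 (col31 (col7 (i))))
theorem actR85_eq (i : Nat) : actR85 i = Tab.act T D rw85 i := rfl
noncomputable def actR86 (i : Nat) : Nat := col30 (col8 (col31 (col9 (i))))
theorem actR86_eq (i : Nat) : actR86 i = Tab.act T D rw86 i := rfl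
noncomputable def actR87 (i : Nat) : Nat := col30 (col10 (col31 (col11 (i))))
theorem actR87_eq (i : Nat) : actR87 i = Tab.act T D rw87 i := rfl
noncomputable def actR88 (i : Nat) : Nat := col30 (col12 (col31 (col13 (i))))
theorem actR88_eq (i : Nat) : actR88 i = Tab.act T D rw88 i := rfl
noncomputable def actR89 (i : Nat) : Nat := col30 (col14 (col31 (col15 (i))))
theorem actR89_eq (i : Nat) : actR89 i = Tab.act T D rw89 i := rfl
noncomputable def actR90 (i : Nat) : Nat := col30 (col16 (col31 (col17 (i))))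
theorem actR90_eq (i : Nat) : actR90 i = Tab.act T D rw90 i := rfl
noncomputable def actR91 (i : Nat) : Nat := col30 (col18 (col31 (col19 (i))))
theorem actR91_eq (i : Nat) : actR91 i = Tab.act T D rw91 i := rfl
noncomputable def actR92 (i : Nat) : Nat := col30 (col20 (col31 (col21 (i))))
theorem actR92_eq (i : Nat) : actR92 i = Tab.act T D rw92 i := rfl
noncomputable def actR93 (i : Nat) : Nat := col30 (col22 (col31 (col23 (i))))
theorem actR93_eq (i : Nat) : actR93 i = Tab.act T D rw93 i := rfl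
noncomputable def actR94 (i : Nat) : Nat := col30 (col24 (col31 (col25 (i))))
theorem actR94_eq (i : Nat) : actR94 i = Tab.act T D rw94 i := rfl
noncomputable def actR95 (i : Nat) : Nat := col30 (col26 (col31 (col27 (i))))
theorem actR95_eq (i : Nat) : actR95 i = Tab.act T D rw95 i := rfl
noncomputable def actR96 (i : Nat) : Nat := col30 (col28 (col31 (col29 (i))))
theorem actR96_eq (i : Nat) : actR96 i = Tab.act T D rw96 i := rfl

end Cfsg.Agent.Lib.Helper4.TCD.C2Fi22xB
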