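import Cfsg.Agent.Lib.Helper4.TCD_C2Fi22xB_Acc

namespace Cfsg.Agent.Lib.Helper4.TCD.C2Fi22xB

open Cfsg.Agent.Lib.Helper4.TC

set_option maxRecDepth 100000
set_option Elab.async false

theorem c_zero : D.zeroOK = true := by decide +kernel
theorem c_base : allBelow D.baseOK 32 = true := by decide +kernel
theorem c_let : allBelow D.letOK 32 = true := by decide +kernel
theorem c_cls0 : T.cls 0 = 0 := by decide +kernel
theorem c_name0 : T.nameOf 0 = 0 := by decide +kernel
theorem c_tab : D.relTabOK 0 (baseRels 32 PC2Fi22x.invR PC2Fi22x.P.real subs ++ (baseRels 32 PC2Fi22x.invR PC2Fi22x.P.real subs).map (invWord D.inv)) = true := by decide +kernel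
theorem c_real : PC2Fi22x.P.real = realLit := by decide +kernel
theorem c_subfix : subs.all (fun u => Nat.beq (Tab.act T D u 0) 0) = true := by decide +kernel
theorem c_subs : subs.all (fun u => u.all (fun x => Nat.ble (Nat.succ x) 32)) = true := by decide +kernel
theorem c_names_0 : allRange D.nameOK 1 14724 = true := by decide +kernel
theorem c_cls_0 : allRange (T.clsOK D) 1 14724 = true := by decide +kernel
theorem c_rep_0 : allRange (T.repOK D) 0 3510 = true := by decide +kernel
theorem c_rel_0 : allRange D.relOK 14757 3390 = true := by decide +kernel
theorem c_rel_1 : allRange D.relOK 18147 3368 = true := by decide +kernel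
theorem c_rel_2 : allRange D.relOK 21515 3393 = true := by decide +kernel
theorem c_rel_3 : allRange D.relOK 24908 3452 = true := by decide +kernel
theorem c_rel_4 : allRange D.relOK 28360 3203 = true := by decide +kernel
theorem c_rel_5 : allRange D.relOK 31563 2701 = true := by decide +kernel
theorem c_rel_6 : allRange D.relOK 34264 2961 = true := by decide +kernel
theorem c_rel_7 : allRange D.relOK 37225 3444 = true := by decide +kernel
theorem c_rel_8 : allRange D.relOK 40669 2784 = true := by decide +kernel
theorem c_rel_9 : allRange D.relOK 43453 2611 = true := by decide +kernel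
theorem c_rel_10 : allRange D.relOK 46064 2697 = true := by decide +kernel
theorem c_rel_11 : allRange D.relOK 48761 2400 = true := by decide +kernel
theorem c_rel_12 : allRange D.relOK 51161 2356 = true := by decide +kernel
theorem c_rel_13 : allRange D.relOK 53517 2299 = true := by decide +kernel
theorem c_rel_14 : allRange D.relOK 55816 2307 = true := by decide +kernel
theorem c_rel_15 : allRange D.relOK 58123 1993 = true := by decide +kernel
theorem c_rel_16 : allRange D.relOK 60116 1257 = true := by decide +kernel
theorem c_rel_17 : allRange D.relOK 61373 2168 = true := by decide +kernel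
theorem c_rel_18 : allRange D.relOK 63541 1413 = true := by decide +kernel
theorem c_rel_19 : allRange D.relOK 64954 1444 = true := by decide +kernel
theorem c_rel_20 : allRange D.relOK 66398 1386 = true := by decide +kernel
theorem c_rel_21 : allRange D.relOK 67784 970 = true := by decide +kernel
theorem c_rel_22 : allRange D.relOK 68754 1470 = true := by decide +kernel
theorem c_rel_23 : allRange D.relOK 70224 1191 = true := by decide +kernel
theorem c_rel_24 : allRange D.relOK 71415 835 = true := by decide +kernel
theorem c_rel_25 : allRange D.relOK 72250 2058 = true := by decide +kernel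
theorem c_rel_26 : allRange D.relOK 74308 897 = true := by decide +kernel
theorem c_rel_27 : allRange D.relOK 75205 1026 = true := by decide +kernel
theorem c_rel_28 : allRange D.relOK 76231 709 = true := by decide +kernel
theorem c_rel_29 : allRange D.relOK 76940 895 = true := by decide +kernel
theorem c_rel_30 : allRange D.relOK 77835 717 = true := by decide +kernel
theorem c_rel_31 : allRange D.relOK 78552 500 = true := by decide +kernel
theorem c_rel_32 : allRange D.relOK 79052 951 = true := by decide +kernel
theorem c_rel_33 : allRange D.relOK 80003 821 = true := by decide +kernel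
theorem c_rel_34 : allRange D.relOK 80824 1315 = true := by decide +kernel
theorem c_rel_35 : allRange D.relOK 82139 736 = true := by decide +kernel
theorem c_rel_36 : allRange D.relOK 82875 821 = true := by decide +kernel
theorem c_rel_37 : allRange D.relOK 83696 758 = true := by decide +kernel
theorem c_rel_38 : allRange D.relOK 84454 1108 = true := by decide +kernel
theorem c_rel_39 : allRange D.relOK 85562 1498 = true := by decide +kernel
theorem c_rel_40 : allRange D.relOK 87060 1081 = true := by decide +kernel
theorem c_rel_41 : allRange D.relOK 88141 973 = true := by decide +kernel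
theorem c_rel_42 : allRange D.relOK 89114 841 = true := by decide +kernel
theorem c_rel_43 : allRange D.relOK 89955 707 = true := by decide +kernel
theorem c_rel_44 : allRange D.relOK 90662 655 = true := by decide +kernel
theorem c_rel_45 : allRange D.relOK 91317 446 = true := by decide +kernel
theorem c_rel_46 : allRange D.relOK 91763 617 = true := by decide +kernel
theorem c_rel_47 : allRange D.relOK 92380 372 = true := by decide +kernel
theorem c_rel_48 : allRange D.relOK 92752 746 = true := by decide +kernel
theorem c_rel_49 : allRange D.relOK 93498 573 = true := by decide +kernel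
theorem c_rel_50 : allRange D.relOK 94071 369 = true := by decide +kernel
theorem c_rel_51 : allRange D.relOK 94440 526 = true := by decide +kernel
theorem c_rel_52 : allRange D.relOK 94966 570 = true := by decide +kernel
theorem c_rel_53 : allRange D.relOK 95536 510 = true := by decide +kernel
theorem c_rel_54 : allRange D.relOK 96046 420 = true := by decide +kernel
theorem c_rel_55 : allRange D.relOK 96466 309 = true := by decide +kernel
theorem c_rel_56 : allRange D.relOK 96775 296 = true := by decide +kernel
theorem c_rel_57 : allRange D.relOK 97071 344 = true := by decide +kernel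
theorem c_rel_58 : allRange D.relOK 97415 298 = true := by decide +kernel
theorem c_rel_59 : allRange D.relOK 97713 229 = true := by decide +kernel
theorem c_rel_60 : allRange D.relOK 97942 3313 = true := by decide +kernel
theorem c_rel_61 : allRange D.relOK 101255 4047 = true := by decide +kernel
theorem c_rel_62 : allRange D.relOK 105302 4089 = true := by decide +kernel
theorem c_rel_63 : allRange D.relOK 109391 4109 = true := by decide +kernel
theorem c_rel_64 : allRange D.relOK 113500 4065 = true := by decide +kernel
theorem c_rel_65 : allRange D.relOK 117565 4080 = true := by decide +kernel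
theorem c_rel_66 : allRange D.relOK 121645 4041 = true := by decide +kernel
theorem c_rel_67 : allRange D.relOK 125686 4076 = true := by decide +kernel
theorem c_rel_68 : allRange D.relOK 129762 4002 = true := by decide +kernel
theorem c_rel_69 : allRange D.relOK 133764 3841 = true := by decide +kernel
theorem c_rel_70 : allRange D.relOK 137605 3914 = true := by decide +kernel
theorem c_rel_71 : allRange D.relOK 141519 3281 = true := by decide +kernel
theorem c_fin_0 : allGrid (T.finOK D) 0 375 32 = true := by decide +kernel
theorem c_fin_1 : allGrid (T.finOK D) 375 375 32 = true := by decide +kernel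
theorem c_fin_2 : allGrid (T.finOK D) 750 375 32 = true := by decide +kernel
theorem c_fin_3 : allGrid (T.finOK D) 1125 375 32 = true := by decide +kernel
theorem c_fin_4 : allGrid (T.finOK D) 1500 375 32 = true := by decide +kernel
theorem c_fin_5 : allGrid (T.finOK D) 1875 375 32 = true := by decide +kernel
theorem c_fin_6 : allGrid (T.finOK D) 2250 375 32 = true := by decide +kernel
theorem c_fin_7 : allGrid (T.finOK D) 2625 375 32 = true := by decide +kernel
theorem c_fin_8 : allGrid (T.finOK D) 3000 375 32 = true := by decide +kernel
theorem c_fin_9 : allGrid (T.finOK D) 3375 135 32 = true := by decide +kernel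
theorem c_perm_0 : allGrid (T.permOK1 D) 0 937 32 = true := by decide +kernel
theorem c_perm_1 : allGrid (T.permOK1 D) 937 937 32 = true := by decide +kernel
theorem c_perm_2 : allGrid (T.permOK1 D) 1874 937 32 = true := by decide +kernel

end Cfsg.Agent.Lib.Helper4.TCD.C2Fi22xB
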