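import Cfsg.Agent.Lib.Helper4.TC14
import Cfsg.Agent.Lib.Helper4.TCP_C2Fi22x
import Cfsg.Agent.Lib.Helper4.TCD_C2Fi22xR_D0
import Cfsg.Agent.Lib.Helper4.TCD_C2Fi22xR_D1

namespace Cfsg.Agent.Lib.Helper4.TCD.C2Fi22xR

open Cfsg.Agent.Lib.Helper4.TC

set_option maxRecDepth 100000

noncomputable def col0_s_1_3 (c : Nat) : Nat := @Bool.rec (fun _ => Nat) (col0_1) (col0_2) (Nat.ble 2 c)
noncomputable def col0_s_0_3 (c : Nat) : Nat := @Bool.rec (fun _ => Nat) (col0_0) (col0_s_1_3 c) (Nat.ble 1 c)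
noncomputable def col0_s_3_5 (c : Nat) : Nat := @Bool.rec (fun _ => Nat) (col0_3) (col0_4) (Nat.ble 4 c)
noncomputable def col0_s_5_7 (c : Nat) : Nat := @Bool.rec (fun _ => Nat) (col0_5) (col0_6) (Nat.ble 6 c)
noncomputable def col0_s_3_7 (c : Nat) : Nat := @Bool.rec (fun _ => Nat) (col0_s_3_5 c) (col0_s_5_7 c) (Nat.ble 5 c)
noncomputable def col0_s_0_7 (c : Nat) : Nat := @Bool.rec (fun _ => Nat) (col0_s_0_3 c) (col0_s_3_7 c) (Nat.ble 3 c)
noncomputable def col0 (i : Nat) : Nat := rdw 15 32767 (col0_s_0_7 (Nat.shiftRight i 12)) (Nat.land i 4095)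
noncomputable def col1 (i : Nat) : Nat := col0 i
noncomputable def col2_s_1_3 (c : Nat) : Nat := @Bool.rec (fun _ => Nat) (col2_1) (col2_2) (Nat.ble 2 c)
noncomputable def col2_s_0_3 (c : Nat) : Nat := @Bool.rec (fun _ => Nat) (col2_0) (col2_s_1_3 c) (Nat.ble 1 c)
noncomputable def col2_s_3_5 (c : Nat) : Nat := @Bool.rec (fun _ => Nat) (col2_3) (col2_4) (Nat.ble 4 c)
noncomputable def col2_s_5_7 (c : Nat) : Nat := @Bool.rec (fun _ => Nat) (col2_5) (col2_6) (Nat.ble 6 c)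
noncomputable def col2_s_3_7 (c : Nat) : Nat := @Bool.rec (fun _ => Nat) (col2_s_3_5 c) (col2_s_5_7 c) (Nat.ble 5 c)
noncomputable def col2_s_0_7 (c : Nat) : Nat := @Bool.rec (fun _ => Nat) (col2_s_0_3 c) (col2_s_3_7 c) (Nat.ble 3 c)
noncomputable def col2 (i : Nat) : Nat := rdw 15 32767 (col2_s_0_7 (Nat.shiftRight i 12)) (Nat.land i 4095)
noncomputable def col3 (i : Nat) : Nat := col2 i
noncomputable def col4_s_1_3 (c : Nat) : Nat := @Bool.rec (fun _ => Nat) (col4_1) (col4_2) (Nat.ble 2 c)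
noncomputable def col4_s_0_3 (c : Nat) : Nat := @Bool.rec (fun _ => Nat) (col4_0) (col4_s_1_3 c) (Nat.ble 1 c)
noncomputable def col4_s_3_5 (c : Nat) : Nat := @Bool.rec (fun _ => Nat) (col4_3) (col4_4) (Nat.ble 4 c)
noncomputable def col4_s_5_7 (c : Nat) : Nat := @Bool.rec (fun _ => Nat) (col4_5) (col4_6) (Nat.ble 6 c)
noncomputable def col4_s_3_7 (c : Nat) : Nat := @Bool.rec (fun _ => Nat) (col4_s_3_5 c) (col4_s_5_7 c) (Nat.ble 5 c)
noncomputable def col4_s_0_7 (c : Nat) : Nat := @Bool.rec (fun _ => Nat) (col4_s_0_3 c) (col4_s_3_7 c) (Nat.ble 3 c)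
noncomputable def col4 (i : Nat) : Nat := rdw 15 32767 (col4_s_0_7 (Nat.shiftRight i 12)) (Nat.land i 4095)
noncomputable def col5 (i : Nat) : Nat := col4 i
noncomputable def col6_s_1_3 (c : Nat) : Nat := @Bool.rec (fun _ => Nat) (col6_1) (col6_2) (Nat.ble 2 c)
noncomputable def col6_s_0_3 (c : Nat) : Nat := @Bool.rec (fun _ => Nat) (col6_0) (col6_s_1_3 c) (Nat.ble 1 c)
noncomputable def col6_s_3_5 (c : Nat) : Nat := @Bool.rec (fun _ => Nat) (col6_3) (col6_4) (Nat.ble 4 c)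
noncomputable def col6_s_5_7 (c : Nat) : Nat := @Bool.rec (fun _ => Nat) (col6_5) (col6_6) (Nat.ble 6 c)
noncomputable def col6_s_3_7 (c : Nat) : Nat := @Bool.rec (fun _ => Nat) (col6_s_3_5 c) (col6_s_5_7 c) (Nat.ble 5 c)
noncomputable def col6_s_0_7 (c : Nat) : Nat := @Bool.rec (fun _ => Nat) (col6_s_0_3 c) (col6_s_3_7 c) (Nat.ble 3 c)
noncomputable def col6 (i : Nat) : Nat := rdw 15 32767 (col6_s_0_7 (Nat.shiftRight i 12)) (Nat.land i 4095)
noncomputable def col7 (i : Nat) : Nat := col6 i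
noncomputable def col8_s_1_3 (c : Nat) : Nat := @Bool.rec (fun _ => Nat) (col8_1) (col8_2) (Nat.ble 2 c)
noncomputable def col8_s_0_3 (c : Nat) : Nat := @Bool.rec (fun _ => Nat) (col8_0) (col8_s_1_3 c) (Nat.ble 1 c)
noncomputable def col8_s_3_5 (c : Nat) : Nat := @Bool.rec (fun _ => Nat) (col8_3) (col8_4) (Nat.ble 4 c)
noncomputable def col8_s_5_7 (c : Nat) : Nat := @Bool.rec (fun _ => Nat) (col8_5) (col8_6) (Nat.ble 6 c)
noncomputable def col8_s_3_7 (c : Nat) : Nat := @Bool.rec (fun _ => Nat) (col8_s_3_5 c) (col8_s_5_7 c) (Nat.ble 5 c)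
noncomputable def col8_s_0_7 (c : Nat) : Nat := @Bool.rec (fun _ => Nat) (col8_s_0_3 c) (col8_s_3_7 c) (Nat.ble 3 c)
noncomputable def col8 (i : Nat) : Nat := rdw 15 32767 (col8_s_0_7 (Nat.shiftRight i 12)) (Nat.land i 4095)
noncomputable def col9 (i : Nat) : Nat := col8 i
noncomputable def col10_s_1_3 (c : Nat) : Nat := @Bool.rec (fun _ => Nat) (col10_1) (col10_2) (Nat.ble 2 c)
noncomputable def col10_s_0_3 (c : Nat) : Nat := @Bool.rec (fun _ => Nat) (col10_0) (col10_s_1_3 c) (Nat.ble 1 c)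
noncomputable def col10_s_3_5 (c : Nat) : Nat := @Bool.rec (fun _ => Nat) (col10_3) (col10_4) (Nat.ble 4 c)
noncomputable def col10_s_5_7 (c : Nat) : Nat := @Bool.rec (fun _ => Nat) (col10_5) (col10_6) (Nat.ble 6 c)
noncomputable def col10_s_3_7 (c : Nat) : Nat := @Bool.rec (fun _ => Nat) (col10_s_3_5 c) (col10_s_5_7 c) (Nat.ble 5 c)
noncomputable def col10_s_0_7 (c : Nat) : Nat := @Bool.rec (fun _ => Nat) (col10_s_0_3 c) (col10_s_3_7 c) (Nat.ble 3 c)
noncomputable def col10 (i : Nat) : Nat := rdw 15 32767 (col10_s_0_7 (Nat.shiftRight i 12)) (Nat.land i 4095)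
noncomputable def col11 (i : Nat) : Nat := col10 i
noncomputable def col12_s_1_3 (c : Nat) : Nat := @Bool.rec (fun _ => Nat) (col12_1) (col12_2) (Nat.ble 2 c)
noncomputable def col12_s_0_3 (c : Nat) : Nat := @Bool.rec (fun _ => Nat) (col12_0) (col12_s_1_3 c) (Nat.ble 1 c)
noncomputable def col12_s_3_5 (c : Nat) : Nat := @Bool.rec (fun _ => Nat) (col12_3) (col12_4) (Nat.ble 4 c)
noncomputable def col12_s_5_7 (c : Nat) : Nat := @Bool.rec (fun _ => Nat) (col12_5) (col12_6) (Nat.ble 6 c)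
noncomputable def col12_s_3_7 (c : Nat) : Nat := @Bool.rec (fun _ => Nat) (col12_s_3_5 c) (col12_s_5_7 c) (Nat.ble 5 c)
noncomputable def col12_s_0_7 (c : Nat) : Nat := @Bool.rec (fun _ => Nat) (col12_s_0_3 c) (col12_s_3_7 c) (Nat.ble 3 c)
noncomputable def col12 (i : Nat) : Nat := rdw 15 32767 (col12_s_0_7 (Nat.shiftRight i 12)) (Nat.land i 4095)
noncomputable def col13 (i : Nat) : Nat := col12 i
noncomputable def col14_s_1_3 (c : Nat) : Nat := @Bool.rec (fun _ => Nat) (col14_1) (col14_2) (Nat.ble 2 c)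
noncomputable def col14_s_0_3 (c : Nat) : Nat := @Bool.rec (fun _ => Nat) (col14_0) (col14_s_1_3 c) (Nat.ble 1 c)
noncomputable def col14_s_3_5 (c : Nat) : Nat := @Bool.rec (fun _ => Nat) (col14_3) (col14_4) (Nat.ble 4 c)
noncomputable def col14_s_5_7 (c : Nat) : Nat := @Bool.rec (fun _ => Nat) (col14_5) (col14_6) (Nat.ble 6 c)
noncomputable def col14_s_3_7 (c : Nat) : Nat := @Bool.rec (fun _ => Nat) (col14_s_3_5 c) (col14_s_5_7 c) (Nat.ble 5 c)
noncomputable def col14_s_0_7 (c : Nat) : Nat := @Bool.rec (fun _ => Nat) (col14_s_0_3 c) (col14_s_3_7 c) (Nat.ble 3 c)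
noncomputable def col14 (i : Nat) : Nat := rdw 15 32767 (col14_s_0_7 (Nat.shiftRight i 12)) (Nat.land i 4095)
noncomputable def col15 (i : Nat) : Nat := col14 i
noncomputable def col16_s_1_3 (c : Nat) : Nat := @Bool.rec (fun _ => Nat) (col16_1) (col16_2) (Nat.ble 2 c)
noncomputable def col16_s_0_3 (c : Nat) : Nat := @Bool.rec (fun _ => Nat) (col16_0) (col16_s_1_3 c) (Nat.ble 1 c)
noncomputable def col16_s_3_5 (c : Nat) : Nat := @Bool.rec (fun _ => Nat) (col16_3) (col16_4) (Nat.ble 4 c)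
noncomputable def col16_s_5_7 (c : Nat) : Nat := @Bool.rec (fun _ => Nat) (col16_5) (col16_6) (Nat.ble 6 c)
noncomputable def col16_s_3_7 (c : Nat) : Nat := @Bool.rec (fun _ => Nat) (col16_s_3_5 c) (col16_s_5_7 c) (Nat.ble 5 c)
noncomputable def col16_s_0_7 (c : Nat) : Nat := @Bool.rec (fun _ => Nat) (col16_s_0_3 c) (col16_s_3_7 c) (Nat.ble 3 c)
noncomputable def col16 (i : Nat) : Nat := rdw 15 32767 (col16_s_0_7 (Nat.shiftRight i 12)) (Nat.land i 4095)
noncomputable def col17 (i : Nat) : Nat := col16 i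
noncomputable def col18_s_1_3 (c : Nat) : Nat := @Bool.rec (fun _ => Nat) (col18_1) (col18_2) (Nat.ble 2 c)
noncomputable def col18_s_0_3 (c : Nat) : Nat := @Bool.rec (fun _ => Nat) (col18_0) (col18_s_1_3 c) (Nat.ble 1 c)
noncomputable def col18_s_3_5 (c : Nat) : Nat := @Bool.rec (fun _ => Nat) (col18_3) (col18_4) (Nat.ble 4 c)
noncomputable def col18_s_5_7 (c : Nat) : Nat := @Bool.rec (fun _ => Nat) (col18_5) (col18_6) (Nat.ble 6 c)
noncomputable def col18_s_3_7 (c : Nat) : Nat := @Bool.rec (fun _ => Nat) (col18_s_3_5 c) (col18_s_5_7 c) (Nat.ble 5 c)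
noncomputable def col18_s_0_7 (c : Nat) : Nat := @Bool.rec (fun _ => Nat) (col18_s_0_3 c) (col18_s_3_7 c) (Nat.ble 3 c)
noncomputable def col18 (i : Nat) : Nat := rdw 15 32767 (col18_s_0_7 (Nat.shiftRight i 12)) (Nat.land i 4095)
noncomputable def col19 (i : Nat) : Nat := col18 i
noncomputable def col20_s_1_3 (c : Nat) : Nat := @Bool.rec (fun _ => Nat) (col20_1) (col20_2) (Nat.ble 2 c)
noncomputable def col20_s_0_3 (c : Nat) : Nat := @Bool.rec (fun _ => Nat) (col20_0) (col20_s_1_3 c) (Nat.ble 1 c)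
noncomputable def col20_s_3_5 (c : Nat) : Nat := @Bool.rec (fun _ => Nat) (col20_3) (col20_4) (Nat.ble 4 c)
noncomputable def col20_s_5_7 (c : Nat) : Nat := @Bool.rec (fun _ => Nat) (col20_5) (col20_6) (Nat.ble 6 c)
noncomputable def col20_s_3_7 (c : Nat) : Nat := @Bool.rec (fun _ => Nat) (col20_s_3_5 c) (col20_s_5_7 c) (Nat.ble 5 c)
noncomputable def col20_s_0_7 (c : Nat) : Nat := @Bool.rec (fun _ => Nat) (col20_s_0_3 c) (col20_s_3_7 c) (Nat.ble 3 c)
noncomputable def col20 (i : Nat) : Nat := rdw 15 32767 (col20_s_0_7 (Nat.shiftRight i 12)) (Nat.land i 4095)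
noncomputable def col21_s_1_3 (c : Nat) : Nat := @Bool.rec (fun _ => Nat) (col21_1) (col21_2) (Nat.ble 2 c)
noncomputable def col21_s_0_3 (c : Nat) : Nat := @Bool.rec (fun _ => Nat) (col21_0) (col21_s_1_3 c) (Nat.ble 1 c)
noncomputable def col21_s_3_5 (c : Nat) : Nat := @Bool.rec (fun _ => Nat) (col21_3) (col21_4) (Nat.ble 4 c)
noncomputable def col21_s_5_7 (c : Nat) : Nat := @Bool.rec (fun _ => Nat) (col21_5) (col21_6) (Nat.ble 6 c)
noncomputable def col21_s_3_7 (c : Nat) : Nat := @Bool.rec (fun _ => Nat) (col21_s_3_5 c) (col21_s_5_7 c) (Nat.ble 5 c)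
noncomputable def col21_s_0_7 (c : Nat) : Nat := @Bool.rec (fun _ => Nat) (col21_s_0_3 c) (col21_s_3_7 c) (Nat.ble 3 c)
noncomputable def col21 (i : Nat) : Nat := rdw 15 32767 (col21_s_0_7 (Nat.shiftRight i 12)) (Nat.land i 4095)
noncomputable def col22_s_1_3 (c : Nat) : Nat := @Bool.rec (fun _ => Nat) (col22_1) (col22_2) (Nat.ble 2 c)
noncomputable def col22_s_0_3 (c : Nat) : Nat := @Bool.rec (fun _ => Nat) (col22_0) (col22_s_1_3 c) (Nat.ble 1 c)
noncomputable def col22_s_3_5 (c : Nat) : Nat := @Bool.rec (fun _ => Nat) (col22_3) (col22_4) (Nat.ble 4 c)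
noncomputable def col22_s_5_7 (c : Nat) : Nat := @Bool.rec (fun _ => Nat) (col22_5) (col22_6) (Nat.ble 6 c)
noncomputable def col22_s_3_7 (c : Nat) : Nat := @Bool.rec (fun _ => Nat) (col22_s_3_5 c) (col22_s_5_7 c) (Nat.ble 5 c)
noncomputable def col22_s_0_7 (c : Nat) : Nat := @Bool.rec (fun _ => Nat) (col22_s_0_3 c) (col22_s_3_7 c) (Nat.ble 3 c)
noncomputable def col22 (i : Nat) : Nat := rdw 15 32767 (col22_s_0_7 (Nat.shiftRight i 12)) (Nat.land i 4095)
noncomputable def col23_s_1_3 (c : Nat) : Nat := @Bool.rec (fun _ => Nat) (col23_1) (col23_2) (Nat.ble 2 c)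
noncomputable def col23_s_0_3 (c : Nat) : Nat := @Bool.rec (fun _ => Nat) (col23_0) (col23_s_1_3 c) (Nat.ble 1 c)
noncomputable def col23_s_3_5 (c : Nat) : Nat := @Bool.rec (fun _ => Nat) (col23_3) (col23_4) (Nat.ble 4 c)
noncomputable def col23_s_5_7 (c : Nat) : Nat := @Bool.rec (fun _ => Nat) (col23_5) (col23_6) (Nat.ble 6 c)
noncomputable def col23_s_3_7 (c : Nat) : Nat := @Bool.rec (fun _ => Nat) (col23_s_3_5 c) (col23_s_5_7 c) (Nat.ble 5 c)
noncomputable def col23_s_0_7 (c : Nat) : Nat := @Bool.rec (fun _ => Nat) (col23_s_0_3 c) (col23_s_3_7 c) (Nat.ble 3 c)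
noncomputable def col23 (i : Nat) : Nat := rdw 15 32767 (col23_s_0_7 (Nat.shiftRight i 12)) (Nat.land i 4095)
noncomputable def col24_s_1_3 (c : Nat) : Nat := @Bool.rec (fun _ => Nat) (col24_1) (col24_2) (Nat.ble 2 c)
noncomputable def col24_s_0_3 (c : Nat) : Nat := @Bool.rec (fun _ => Nat) (col24_0) (col24_s_1_3 c) (Nat.ble 1 c)
noncomputable def col24_s_3_5 (c : Nat) : Nat := @Bool.rec (fun _ => Nat) (col24_3) (col24_4) (Nat.ble 4 c)
noncomputable def col24_s_5_7 (c : Nat) : Nat := @Bool.rec (fun _ => Nat) (col24_5) (col24_6) (Nat.ble 6 c)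
noncomputable def col24_s_3_7 (c : Nat) : Nat := @Bool.rec (fun _ => Nat) (col24_s_3_5 c) (col24_s_5_7 c) (Nat.ble 5 c)
noncomputable def col24_s_0_7 (c : Nat) : Nat := @Bool.rec (fun _ => Nat) (col24_s_0_3 c) (col24_s_3_7 c) (Nat.ble 3 c)
noncomputable def col24 (i : Nat) : Nat := rdw 15 32767 (col24_s_0_7 (Nat.shiftRight i 12)) (Nat.land i 4095)
noncomputable def col25 (i : Nat) : Nat := col24 i
noncomputable def col26_s_1_3 (c : Nat) : Nat := @Bool.rec (fun _ => Nat) (col26_1) (col26_2) (Nat.ble 2 c)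
noncomputable def col26_s_0_3 (c : Nat) : Nat := @Bool.rec (fun _ => Nat) (col26_0) (col26_s_1_3 c) (Nat.ble 1 c)
noncomputable def col26_s_3_5 (c : Nat) : Nat := @Bool.rec (fun _ => Nat) (col26_3) (col26_4) (Nat.ble 4 c)
noncomputable def col26_s_5_7 (c : Nat) : Nat := @Bool.rec (fun _ => Nat) (col26_5) (col26_6) (Nat.ble 6 c)
noncomputable def col26_s_3_7 (c : Nat) : Nat := @Bool.rec (fun _ => Nat) (col26_s_3_5 c) (col26_s_5_7 c) (Nat.ble 5 c)
noncomputable def col26_s_0_7 (c : Nat) : Nat := @Bool.rec (fun _ => Nat) (col26_s_0_3 c) (col26_s_3_7 c) (Nat.ble 3 c)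
noncomputable def col26 (i : Nat) : Nat := rdw 15 32767 (col26_s_0_7 (Nat.shiftRight i 12)) (Nat.land i 4095)
noncomputable def col27_s_1_3 (c : Nat) : Nat := @Bool.rec (fun _ => Nat) (col27_1) (col27_2) (Nat.ble 2 c)
noncomputable def col27_s_0_3 (c : Nat) : Nat := @Bool.rec (fun _ => Nat) (col27_0) (col27_s_1_3 c) (Nat.ble 1 c)
noncomputable def col27_s_3_5 (c : Nat) : Nat := @Bool.rec (fun _ => Nat) (col27_3) (col27_4) (Nat.ble 4 c)
noncomputable def col27_s_5_7 (c : Nat) : Nat := @Bool.rec (fun _ => Nat) (col27_5) (col27_6) (Nat.ble 6 c)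
noncomputable def col27_s_3_7 (c : Nat) : Nat := @Bool.rec (fun _ => Nat) (col27_s_3_5 c) (col27_s_5_7 c) (Nat.ble 5 c)
noncomputable def col27_s_0_7 (c : Nat) : Nat := @Bool.rec (fun _ => Nat) (col27_s_0_3 c) (col27_s_3_7 c) (Nat.ble 3 c)
noncomputable def col27 (i : Nat) : Nat := rdw 15 32767 (col27_s_0_7 (Nat.shiftRight i 12)) (Nat.land i 4095)
noncomputable def col28_s_1_3 (c : Nat) : Nat := @Bool.rec (fun _ => Nat) (col28_1) (col28_2) (Nat.ble 2 c)
noncomputable def col28_s_0_3 (c : Nat) : Nat := @Bool.rec (fun _ => Nat) (col28_0) (col28_s_1_3 c) (Nat.ble 1 c)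
noncomputable def col28_s_3_5 (c : Nat) : Nat := @Bool.rec (fun _ => Nat) (col28_3) (col28_4) (Nat.ble 4 c)
noncomputable def col28_s_5_7 (c : Nat) : Nat := @Bool.rec (fun _ => Nat) (col28_5) (col28_6) (Nat.ble 6 c)
noncomputable def col28_s_3_7 (c : Nat) : Nat := @Bool.rec (fun _ => Nat) (col28_s_3_5 c) (col28_s_5_7 c) (Nat.ble 5 c)
noncomputable def col28_s_0_7 (c : Nat) : Nat := @Bool.rec (fun _ => Nat) (col28_s_0_3 c) (col28_s_3_7 c) (Nat.ble 3 c)
noncomputable def col28 (i : Nat) : Nat := rdw 15 32767 (col28_s_0_7 (Nat.shiftRight i 12)) (Nat.land i 4095)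
noncomputable def col29 (i : Nat) : Nat := col28 i
noncomputable def col30_s_1_3 (c : Nat) : Nat := @Bool.rec (fun _ => Nat) (col30_1) (col30_2) (Nat.ble 2 c)
noncomputable def col30_s_0_3 (c : Nat) : Nat := @Bool.rec (fun _ => Nat) (col30_0) (col30_s_1_3 c) (Nat.ble 1 c)
noncomputable def col30_s_3_5 (c : Nat) : Nat := @Bool.rec (fun _ => Nat) (col30_3) (col30_4) (Nat.ble 4 c)
noncomputable def col30_s_5_7 (c : Nat) : Nat := @Bool.rec (fun _ => Nat) (col30_5) (col30_6) (Nat.ble 6 c)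
noncomputable def col30_s_3_7 (c : Nat) : Nat := @Bool.rec (fun _ => Nat) (col30_s_3_5 c) (col30_s_5_7 c) (Nat.ble 5 c)
noncomputable def col30_s_0_7 (c : Nat) : Nat := @Bool.rec (fun _ => Nat) (col30_s_0_3 c) (col30_s_3_7 c) (Nat.ble 3 c)
noncomputable def col30 (i : Nat) : Nat := rdw 15 32767 (col30_s_0_7 (Nat.shiftRight i 12)) (Nat.land i 4095)
noncomputable def col31 (i : Nat) : Nat := col30 i
noncomputable def tblF (i x : Nat) : Nat := @Bool.rec (fun _ => Nat) (@Bool.rec (fun _ => Nat) (@Bool.rec (fun _ => Nat) (@Bool.rec (fun _ => Nat) (@Bool.rec (fun _ => Nat) (col0 i) (col1 i) (Nat.ble 1 x)) (@Bool.rec (fun _ => Nat) (col2 i) (col3 i) (Nat.ble 3 x)) (Nat.ble 2 x)) (@Bool.rec (fun _ => Nat) (@Bool.rec (fun _ => Nat) (col4 i) (col5 i) (Nat.ble 5 x)) (@Bool.rec (fun _ => Nat) (col6 i) (col7 i) (Nat.ble 7 x)) (Nat.ble 6 x)) (Nat.ble 4 x)) (@Bool.rec (fun _ => Nat) (@Bool.rec (fun _ => Nat) (@Bool.rec (fun _ => Nat) (col8 i) (col9 i)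 (Nat.ble 9 x)) (@Bool.rec (fun _ => Nat) (col10 i) (col11 i) (Nat.ble 11 x)) (Nat.ble 10 x)) (@Bool.rec (fun _ => Nat) (@Bool.rec (fun _ => Nat) (col12 i) (col13 i) (Nat.ble 13 x)) (@Bool.rec (fun _ => Nat) (col14 i) (col15 i) (Nat.ble 15 x)) (Nat.ble 14 x)) (Nat.ble 12 x)) (Nat.ble 8 x)) (@Bool.rec (fun _ => Nat) (@Bool.rec (fun _ => Nat) (@Bool.rec (fun _ => Nat) (@Bool.rec (fun _ => Nat) (col16 i) (col17 i) (Nat.ble 17 x)) (@Bool.rec (fun _ => Nat) (col18 i) (col19 i) (Nat.ble 19 x)) (Nat.ble 18 x)) (@Bool.rec (fun _ => Nat) (@Bool.rec (fun _ => Nat) (col20 i) (col21 i) (Nat.ble 21 x)) (@Bool.rec (fun _ => Nat) (col22 i) (col23 i) (Nat.ble 23 x)) (Nat.ble 22 x)) (Nat.ble 20 x)) (@Bool.rec (fun _ => Nat) (@Bool.rec (fun _ => Nat) (@Bool.rec (fun _ => Nat) (col24 i) (col25 i) (Nat.ble 25 x)) (@Bool.rec (fun _ => Nat) (col26 i) (col27 i) (Nat.ble 27 x)) (Nat.ble 26 x)) (@Bool.rec (fun _ => Nat) (@Bool.rec (fun _ => Nat) (col28 i) (col29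 i) (Nat.ble 29 x)) (@Bool.rec (fun _ => Nat) (col30 i) (col31 i) (Nat.ble 31 x)) (Nat.ble 30 x)) (Nat.ble 28 x)) (Nat.ble 24 x)) (Nat.ble 16 x)

noncomputable def D : Log :=
  { k := 32, inv := PC2Fi22x.invR, nR := 0, rBase := fun _ => 0, rLen := fun _ => 0, RR := fun _ => 0,
    M := 0, nB := 0, F := 0, src := fun _ => 0, lt := fun _ => 0, tgt := fun _ => 0, rho := fun _ => 0, rot := fun _ => 0,
    off := fun _ => 0, len := fun _ => 0, pf := fun _ => 0, pd := fun _ => 0 }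

noncomputable def T : Tab :=
  { N := 28160, nameOf := fun _ => 0, tbl := tblF, finF := fun _ _ => 0, finD := fun _ _ => 0, cls := fun _ => 0 }

def rw0 : List Nat := [0, 0]
def rw1 : List Nat := [0, 2, 0, 2, 0, 2]
def rw2 : List Nat := [0, 4, 0, 4]
def rw3 : List Nat := [0, 6, 0, 6]
def rw4 : List Nat := [0, 8, 0, 8]
def rw5 : List Nat := [0, 14, 0, 14]
def rw6 : List Nat := [0, 10, 0, 10]
def rw7 : List Nat := [0, 12, 0, 12]
def rw8 : List Nat := [0, 16, 0, 16]
def rw9 : List Nat := [2, 2]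
def rw10 : List Nat := [2, 4, 2, 4, 2, 4]
def rw11 : List Nat := [2, 6, 2, 6]
def rw12 : List Nat := [2, 8, 2, 8]
def rw13 : List Nat := [2, 14, 2, 14]
def rw14 : List Nat := [2, 10, 2, 10]
def rw15 : List Nat := [2, 12, 2, 12]
def rw16 : List Nat := [2, 16, 2, 16]
def rw17 : List Nat := [4, 4]
def rw18 : List Nat := [4, 6, 4, 6, 4, 6]
def rw19 : List Nat := [4, 8, 4, 8]
def rw20 : List Nat := [4, 14, 4, 14]
def rw21 : List Nat := [4, 10, 4, 10]
def rw22 : List Nat := [4, 12, 4, 12]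
def rw23 : List Nat := [4, 16, 4, 16]
def rw24 : List Nat := [6, 6]
def rw25 : List Nat := [6, 8, 6, 8, 6, 8]
def rw26 : List Nat := [6, 14, 6, 14, 6, 14]
def rw27 : List Nat := [6, 10, 6, 10]
def rw28 : List Nat := [6, 12, 6, 12]
def rw29 : List Nat := [6, 16, 6, 16]
def rw30 : List Nat := [8, 8]
def rw31 : List Nat := [8, 14, 8, 14]
def rw32 : List Nat := [8, 10, 8, 10, 8, 10]
def rw33 : List Nat := [8, 12, 8, 12]
def rw34 : List Nat := [8, 16, 8, 16]
def rw35 : List Nat := [14, 14]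
def rw36 : List Nat := [14, 10, 14, 10]
def rw37 : List Nat := [14, 12, 14, 12]
def rw38 : List Nat := [14, 16, 14, 16, 14, 16]
def rw39 : List Nat := [10, 10]
def rw40 : List Nat := [10, 12, 10, 12, 10, 12]
def rw41 : List Nat := [10, 16, 10, 16]
def rw42 : List Nat := [12, 12]
def rw43 : List Nat := [12, 16, 12, 16]
def rw44 : List Nat := [16, 16]
def rw45 : List Nat := [6, 4, 2, 6, 8, 10, 6, 14, 16, 6, 4, 2, 6, 8, 10, 6, 14, 16, 6, 4, 2, 6, 8, 10, 6, 14, 16, 6, 4, 2, 6, 8, 10, 6, 14, 16, 6, 4, 2, 6, 8, 10, 6, 14, 16, 6, 4, 2, 6, 8, 10, 6, 14, 16, 6, 4, 2, 6, 8, 10, 6, 14, 16, 6, 4, 2, 6, 8, 10, 6, 14, 16, 6, 4, 2, 6, 8, 10, 6, 14, 16, 6, 4, 2, 6, 8, 10, 6, 14, 16]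
def rw46 : List Nat := [0, 2, 4, 6, 8, 10, 14, 0, 2, 4, 6, 8, 10, 14, 0, 2, 4, 6, 8, 10, 14, 0, 2, 4, 6, 8, 10, 14, 0, 2, 4, 6, 8, 10, 14, 0, 2, 4, 6, 8, 10, 14, 0, 2, 4, 6, 8, 10, 14, 0, 2, 4, 6, 8, 10, 14, 0, 2, 4, 6, 8, 10, 14, 31]
def rw47 : List Nat := [2, 4, 6, 8, 10, 12, 14, 2, 4, 6, 8, 10, 12, 14, 2, 4, 6, 8, 10, 12, 14, 2, 4, 6, 8, 10, 12, 14, 2, 4, 6, 8, 10, 12, 14, 2, 4, 6, 8, 10, 12, 14, 2, 4, 6, 8, 10, 12, 14, 2, 4, 6, 8, 10, 12, 14, 2, 4, 6, 8, 10, 12, 14]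
def rw48 : List Nat := [19, 12, 10, 6, 8, 4, 6, 2, 4, 0, 2, 0, 2, 0, 4, 2, 6, 4, 8, 6, 10, 12, 0, 30]
def rw49 : List Nat := [21, 14, 8, 10, 6, 8, 4, 6, 14, 16, 6, 14, 8, 10, 6, 8, 2, 4, 6, 14, 12, 10, 8, 6, 4, 2, 0, 2, 4, 6, 8, 10, 12, 14, 6, 4, 2, 8, 6, 10, 8, 14, 6, 16, 14, 6, 4, 8, 6, 10, 8, 14, 16, 6, 14, 8, 10, 6, 8, 2, 4, 6, 14, 12, 10, 8, 6, 4, 2, 0, 2, 4, 6, 8, 10, 12, 14, 6, 4, 2, 8, 6, 10, 8, 14, 6, 16, 14, 6, 8, 4, 6, 14, 16, 2, 4, 6, 14, 8, 6, 4, 2, 0, 2, 4, 6, 8, 14, 6, 4, 2, 16, 14, 6, 4, 8, 6, 14, 10, 8, 6, 14, 12, 10, 8, 6, 2, 4, 0, 2, 0, 2, 0, 4, 2, 6, 8, 10, 12, 14, 6, 8, 10]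
def rw50 : List Nat := [23, 10, 8, 4, 6, 14, 16, 14, 8, 10, 4, 6, 8, 2, 4, 6, 14, 12, 10, 8, 6, 4, 2, 0, 2, 4, 6, 8, 10, 12, 14, 6, 4, 2, 8, 6, 4, 10, 8, 14, 16, 14, 6, 4, 8, 10, 2, 4, 0, 2, 0, 2, 0, 4, 2]
def rw51 : List Nat := [25, 16, 8, 6, 14, 10, 12, 8, 10, 6, 8, 4, 6, 14, 16, 8, 10, 4, 6, 8, 2, 4, 6, 14, 12, 10, 8, 6, 4, 2, 0, 2, 4, 6, 8, 10, 12, 14, 6, 4, 2, 8, 6, 4, 10, 8, 16, 14, 6, 4, 8, 6, 10, 8, 12, 10, 14, 6, 8, 16, 0, 30]
def rw52 : List Nat := [27, 6, 14, 16, 4, 6, 14, 8, 10, 6, 8, 4, 6, 14, 16, 6, 14, 8, 10, 6, 8, 2, 4, 6, 14, 12, 10, 8, 6, 4, 2, 0, 2, 4, 6, 8, 10, 12, 14, 6, 4, 2, 8, 6, 10, 8, 14, 6, 16, 14, 6, 4, 8, 6, 10, 8, 14, 6, 4, 16, 14, 6, 6, 8, 4, 6, 14, 16, 8, 2, 4, 6, 14, 10, 8, 6, 4, 2, 0, 2, 4, 6, 8, 10, 14, 6, 4, 2, 8, 16, 14, 6, 4, 8, 6, 4, 6, 14, 16, 6, 8, 2, 4, 6, 14, 10, 8, 6, 4, 2, 0, 2, 4, 6, 8, 10, 14, 6, 4, 2, 8, 6, 16, 14, 6, 4, 14, 6, 8, 2, 4, 6, 14, 12, 10, 8, 6, 4, 2, 0, 2, 4, 6, 8, 10, 12, 14,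 6, 4, 2, 8, 6, 14]
def rw53 : List Nat := [29, 0, 30]
def rw54 : List Nat := [18, 18]
def rw55 : List Nat := [20, 20, 20, 20, 20]
def rw56 : List Nat := [18, 20, 18, 20, 18, 20, 18, 20, 18, 20, 18, 20, 18, 20, 18, 20, 18, 20]
def rw57 : List Nat := [19, 21, 18, 20, 19, 21, 18, 20, 19, 21, 18, 20]
def rw58 : List Nat := [19, 21, 19, 21, 18, 20, 18, 20, 19, 21, 19, 21, 18, 20, 18, 20]
def rw59 : List Nat := [22, 22, 22]
def rw60 : List Nat := [23, 19, 22, 18]
def rw61 : List Nat := [23, 21, 22, 20]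
def rw62 : List Nat := [24, 24]
def rw63 : List Nat := [18, 24, 18, 24, 18, 24]
def rw64 : List Nat := [18, 20, 18, 20, 22, 24, 18, 20, 24]
def rw65 : List Nat := [26, 26, 26]
def rw66 : List Nat := [18, 20, 18, 20, 18, 20, 22, 24, 20, 18, 26, 20, 18, 21, 27, 18, 21]
def rw67 : List Nat := [18, 20, 18, 20, 18, 20, 18, 26, 22, 26, 20, 18, 21, 18, 21, 18, 20, 20, 1]
def rw68 : List Nat := [18, 20, 18, 20, 18, 20, 18, 21, 21, 18, 21, 22, 24, 20, 20, 24, 18, 21, 26, 24, 26, 23, 20, 24, 27, 21, 21, 29]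
def rw69 : List Nat := [28, 28]
def rw70 : List Nat := [1, 19, 0, 18]
def rw71 : List Nat := [1, 21, 0, 20]
def rw72 : List Nat := [1, 23, 0, 22]
def rw73 : List Nat := [1, 25, 0, 24]
def rw74 : List Nat := [1, 27, 0, 26]
def rw75 : List Nat := [29, 19, 28, 18]
def rw76 : List Nat := [29, 21, 28, 20]
def rw77 : List Nat := [29, 23, 28, 22]
def rw78 : List Nat := [29, 25, 28, 24]
def rw79 : List Nat := [29, 27, 28, 26]
def rw80 : List Nat := [1, 29, 0, 28]
def rw81 : List Nat := [30, 30]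
def rw82 : List Nat := [31, 1, 30, 0]
def rw83 : List Nat := [31, 3, 30, 2]
def rw84 : List Nat := [31, 5, 30, 4]
def rw85 : List Nat := [31, 7, 30, 6]
def rw86 : List Nat := [31, 9, 30, 8]
def rw87 : List Nat := [31, 11, 30, 10]
def rw88 : List Nat := [31, 13, 30, 12]
def rw89 : List Nat := [31, 15, 30, 14]
def rw90 : List Nat := [31, 17, 30, 16]
def rw91 : List Nat := [31, 19, 30, 18]
def rw92 : List Nat := [31, 21, 30, 20]
def rw93 : List Nat := [31, 23, 30, 22]
def rw94 : List Nat := [31, 25, 30, 24]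
def rw95 : List Nat := [31, 27, 30, 26]
def rw96 : List Nat := [31, 29, 30, 28]
def realLit : List (List Nat) := [rw0, rw1, rw2, rw3, rw4, rw5, rw6, rw7, rw8, rw9, rw10, rw11, rw12, rw13, rw14, rw15, rw16, rw17, rw18, rw19, rw20, rw21, rw22, rw23, rw24, rw25, rw26, rw27, rw28, rw29, rw30, rw31, rw32, rw33, rw34, rw35, rw36, rw37, rw38, rw39, rw40, rw41, rw42, rw43, rw44, rw45, rw46, rw47, rw48, rw49, rw50, rw51, rw52, rw53, rw54, rw55, rw56, rw57, rw58, rw59, rw60, rw61, rw62, rw63, rw64, rw65, rw66, rw67, rw68, rw69, rw70, rw71, rw72, rw73, rw74, rw75, rw76, rw77, rw78, rw79, rw80, rw81, rw82, rw83, rw84, rw85, rw86, rw87, rw88, rw89, rw90, rw91, rw92, rw93, rw94, rw95, rw96]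
noncomputable def actR0 (i : Nat) : Nat := col1 (col1 (i))
theorem actR0_eq (i : Nat) : actR0 i = Tab.act T D rw0 i := rfl
noncomputable def actR1 (i : Nat) : Nat := col1 (col3 (col1 (col3 (col1 (col3 (i))))))
theorem actR1_eq (i : Nat) : actR1 i = Tab.act T D rw1 i := rfl
noncomputable def actR2 (i : Nat) : Nat := col1 (col5 (col1 (col5 (i))))
theorem actR2_eq (i : Nat) : actR2 i = Tab.act T D rw2 i := rfl
noncomputable def actR3 (i : Nat) : Nat := col1 (col7 (col1 (col7 (i))))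
theorem actR3_eq (i : Nat) : actR3 i = Tab.act T D rw3 i := rfl
noncomputable def actR4 (i : Nat) : Nat := col1 (col9 (col1 (col9 (i))))
theorem actR4_eq (i : Nat) : actR4 i = Tab.act T D rw4 i := rfl
noncomputable def actR5 (i : Nat) : Nat := col1 (col15 (col1 (col15 (i))))
theorem actR5_eq (i : Nat) : actR5 i = Tab.act T D rw5 i := rfl
noncomputable def actR6 (i : Nat) : Nat := col1 (col11 (col1 (col11 (i))))
theorem actR6_eq (i : Nat) : actR6 i = Tab.act T D rw6 i := rfl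
noncomputable def actR7 (i : Nat) : Nat := col1 (col13 (col1 (col13 (i))))
theorem actR7_eq (i : Nat) : actR7 i = Tab.act T D rw7 i := rfl
noncomputable def actR8 (i : Nat) : Nat := col1 (col17 (col1 (col17 (i))))
theorem actR8_eq (i : Nat) : actR8 i = Tab.act T D rw8 i := rfl
noncomputable def actR9 (i : Nat) : Nat := col3 (col3 (i))
theorem actR9_eq (i : Nat) : actR9 i = Tab.act T D rw9 i := rfl
noncomputable def actR10 (i : Nat) : Nat := col3 (col5 (col3 (col5 (col3 (col5 (i))))))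
theorem actR10_eq (i : Nat) : actR10 i = Tab.act T D rw10 i := rfl
noncomputable def actR11 (i : Nat) : Nat := col3 (col7 (col3 (col7 (i))))
theorem actR11_eq (i : Nat) : actR11 i = Tab.act T D rw11 i := rfl
noncomputable def actR12 (i : Nat) : Nat := col3 (col9 (col3 (col9 (i))))
theorem actR12_eq (i : Nat) : actR12 i = Tab.act T D rw12 i := rfl
noncomputable def actR13 (i : Nat) : Nat := col3 (col15 (col3 (col15 (i))))
theorem actR13_eq (i : Nat) : actR13 i = Tab.act T D rw13 i := rfl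
noncomputable def actR14 (i : Nat) : Nat := col3 (col11 (col3 (col11 (i))))
theorem actR14_eq (i : Nat) : actR14 i = Tab.act T D rw14 i := rfl
noncomputable def actR15 (i : Nat) : Nat := col3 (col13 (col3 (col13 (i))))
theorem actR15_eq (i : Nat) : actR15 i = Tab.act T D rw15 i := rfl
noncomputable def actR16 (i : Nat) : Nat := col3 (col17 (col3 (col17 (i))))
theorem actR16_eq (i : Nat) : actR16 i = Tab.act T D rw16 i := rfl
noncomputable def actR17 (i : Nat) : Nat := col5 (col5 (i))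
theorem actR17_eq (i : Nat) : actR17 i = Tab.act T D rw17 i := rfl
noncomputable def actR18 (i : Nat) : Nat := col5 (col7 (col5 (col7 (col5 (col7 (i))))))
theorem actR18_eq (i : Nat) : actR18 i = Tab.act T D rw18 i := rfl
noncomputable def actR19 (i : Nat) : Nat := col5 (col9 (col5 (col9 (i))))
theorem actR19_eq (i : Nat) : actR19 i = Tab.act T D rw19 i := rfl
noncomputable def actR20 (i : Nat) : Nat := col5 (col15 (col5 (col15 (i))))
theorem actR20_eq (i : Nat) : actR20 i = Tab.act T D rw20 i := rfl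
noncomputable def actR21 (i : Nat) : Nat := col5 (col11 (col5 (col11 (i))))
theorem actR21_eq (i : Nat) : actR21 i = Tab.act T D rw21 i := rfl
noncomputable def actR22 (i : Nat) : Nat := col5 (col13 (col5 (col13 (i))))
theorem actR22_eq (i : Nat) : actR22 i = Tab.act T D rw22 i := rfl
noncomputable def actR23 (i : Nat) : Nat := col5 (col17 (col5 (col17 (i))))
theorem actR23_eq (i : Nat) : actR23 i = Tab.act T D rw23 i := rfl
noncomputable def actR24 (i : Nat) : Nat := col7 (col7 (i))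
theorem actR24_eq (i : Nat) : actR24 i = Tab.act T D rw24 i := rfl
noncomputable def actR25 (i : Nat) : Nat := col7 (col9 (col7 (col9 (col7 (col9 (i))))))
theorem actR25_eq (i : Nat) : actR25 i = Tab.act T D rw25 i := rfl
noncomputable def actR26 (i : Nat) : Nat := col7 (col15 (col7 (col15 (col7 (col15 (i))))))
theorem actR26_eq (i : Nat) : actR26 i = Tab.act T D rw26 i := rfl
noncomputable def actR27 (i : Nat) : Nat := col7 (col11 (col7 (col11 (i))))
theorem actR27_eq (i : Nat) : actR27 i = Tab.act T D rw27 i := rfl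
noncomputable def actR28 (i : Nat) : Nat := col7 (col13 (col7 (col13 (i))))
theorem actR28_eq (i : Nat) : actR28 i = Tab.act T D rw28 i := rfl
noncomputable def actR29 (i : Nat) : Nat := col7 (col17 (col7 (col17 (i))))
theorem actR29_eq (i : Nat) : actR29 i = Tab.act T D rw29 i := rfl
noncomputable def actR30 (i : Nat) : Nat := col9 (col9 (i))
theorem actR30_eq (i : Nat) : actR30 i = Tab.act T D rw30 i := rfl
noncomputable def actR31 (i : Nat) : Nat := col9 (col15 (col9 (col15 (i))))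
theorem actR31_eq (i : Nat) : actR31 i = Tab.act T D rw31 i := rfl
noncomputable def actR32 (i : Nat) : Nat := col9 (col11 (col9 (col11 (col9 (col11 (i))))))
theorem actR32_eq (i : Nat) : actR32 i = Tab.act T D rw32 i := rfl
noncomputable def actR33 (i : Nat) : Nat := col9 (col13 (col9 (col13 (i))))
theorem actR33_eq (i : Nat) : actR33 i = Tab.act T D rw33 i := rfl
noncomputable def actR34 (i : Nat) : Nat := col9 (col17 (col9 (col17 (i))))
theorem actR34_eq (i : Nat) : actR34 i = Tab.act T D rw34 i := rfl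
noncomputable def actR35 (i : Nat) : Nat := col15 (col15 (i))
theorem actR35_eq (i : Nat) : actR35 i = Tab.act T D rw35 i := rfl
noncomputable def actR36 (i : Nat) : Nat := col15 (col11 (col15 (col11 (i))))
theorem actR36_eq (i : Nat) : actR36 i = Tab.act T D rw36 i := rfl
noncomputable def actR37 (i : Nat) : Nat := col15 (col13 (col15 (col13 (i))))
theorem actR37_eq (i : Nat) : actR37 i = Tab.act T D rw37 i := rfl
noncomputable def actR38 (i : Nat) : Nat := col15 (col17 (col15 (col17 (col15 (col17 (i))))))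
theorem actR38_eq (i : Nat) : actR38 i = Tab.act T D rw38 i := rfl
noncomputable def actR39 (i : Nat) : Nat := col11 (col11 (i))
theorem actR39_eq (i : Nat) : actR39 i = Tab.act T D rw39 i := rfl
noncomputable def actR40 (i : Nat) : Nat := col11 (col13 (col11 (col13 (col11 (col13 (i))))))
theorem actR40_eq (i : Nat) : actR40 i = Tab.act T D rw40 i := rfl
noncomputable def actR41 (i : Nat) : Nat := col11 (col17 (col11 (col17 (i))))
theorem actR41_eq (i : Nat) : actR41 i = Tab.act T D rw41 i := rfl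
noncomputable def actR42 (i : Nat) : Nat := col13 (col13 (i))
theorem actR42_eq (i : Nat) : actR42 i = Tab.act T D rw42 i := rfl
noncomputable def actR43 (i : Nat) : Nat := col13 (col17 (col13 (col17 (i))))
theorem actR43_eq (i : Nat) : actR43 i = Tab.act T D rw43 i := rfl
noncomputable def actR44 (i : Nat) : Nat := col17 (col17 (i))
theorem actR44_eq (i : Nat) : actR44 i = Tab.act T D rw44 i := rfl
noncomputable def actR45 (i : Nat) : Nat := col7 (col5 (col3 (col7 (col9 (col11 (col7 (col15 (col17 (col7 (col5 (col3 (col7 (col9 (col11 (col7 (col15 (col17 (col7 (col5 (col3 (col7 (col9 (col11 (col7 (col15 (col17 (col7 (col5 (col3 (col7 (col9 (col11 (col7 (col15 (col17 (col7 (col5 (col3 (col7 (col9 (col11 (col7 (col15 (col17 (col7 (col5 (col3 (col7 (col9 (col11 (col7 (col15 (col17 (col7 (col5 (col3 (col7 (col9 (col11 (col7 (col15 (col17 (col7 (col5 (col3 (col7 (col9 (col11 (col7 (col15 (col17 (col7 (col5 (col3 (col7 (col9 (col11 (col7 (col15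 (col17 (col7 (col5 (col3 (col7 (col9 (col11 (col7 (col15 (col17 (i))))))))))))))))))))))))))))))))))))))))))))))))))))))))))))))))))))))))))))))))))))))))))
theorem actR45_eq (i : Nat) : actR45 i = Tab.act T D rw45 i := rfl
noncomputable def actR46 (i : Nat) : Nat := col1 (col3 (col5 (col7 (col9 (col11 (col15 (col1 (col3 (col5 (col7 (col9 (col11 (col15 (col1 (col3 (col5 (col7 (col9 (col11 (col15 (col1 (col3 (col5 (col7 (col9 (col11 (col15 (col1 (col3 (col5 (col7 (col9 (col11 (col15 (col1 (col3 (col5 (col7 (col9 (col11 (col15 (col1 (col3 (col5 (col7 (col9 (col11 (col15 (col1 (col3 (col5 (col7 (col9 (col11 (col15 (col1 (col3 (col5 (col7 (col9 (col11 (col15 (col30 (i))))))))))))))))))))))))))))))))))))))))))))))))))))))))))))))))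
theorem actR46_eq (i : Nat) : actR46 i = Tab.act T D rw46 i := rfl
noncomputable def actR47 (i : Nat) : Nat := col3 (col5 (col7 (col9 (col11 (col13 (col15 (col3 (col5 (col7 (col9 (col11 (col13 (col15 (col3 (col5 (col7 (col9 (col11 (col13 (col15 (col3 (col5 (col7 (col9 (col11 (col13 (col15 (col3 (col5 (col7 (col9 (col11 (col13 (col15 (col3 (col5 (col7 (col9 (col11 (col13 (col15 (col3 (col5 (col7 (col9 (col11 (col13 (col15 (col3 (col5 (col7 (col9 (col11 (col13 (col15 (col3 (col5 (col7 (col9 (col11 (col13 (col15 (i)))))))))))))))))))))))))))))))))))))))))))))))))))))))))))))))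
theorem actR47_eq (i : Nat) : actR47 i = Tab.act T D rw47 i := rfl
noncomputable def actR48 (i : Nat) : Nat := col18 (col13 (col11 (col7 (col9 (col5 (col7 (col3 (col5 (col1 (col3 (col1 (col3 (col1 (col5 (col3 (col7 (col5 (col9 (col7 (col11 (col13 (col1 (col31 (i))))))))))))))))))))))))
theorem actR48_eq (i : Nat) : actR48 i = Tab.act T D rw48 i := rfl
noncomputable def actR49 (i : Nat) : Nat := col20 (col15 (col9 (col11 (col7 (col9 (col5 (col7 (col15 (col17 (col7 (col15 (col9 (col11 (col7 (col9 (col3 (col5 (col7 (col15 (col13 (col11 (col9 (col7 (col5 (col3 (col1 (col3 (col5 (col7 (col9 (col11 (col13 (col15 (col7 (col5 (col3 (col9 (col7 (col11 (col9 (col15 (col7 (col17 (col15 (col7 (col5 (col9 (col7 (col11 (col9 (col15 (col17 (col7 (col15 (col9 (col11 (col7 (col9 (col3 (col5 (col7 (col15 (col13 (col11 (col9 (col7 (col5 (col3 (col1 (col3 (col5 (col7 (col9 (col11 (col13 (col15 (col7 (col5 (col3 (col9 (col7 (col11 (col9 (col15 (col7 (col17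 (col15 (col7 (col9 (col5 (col7 (col15 (col17 (col3 (col5 (col7 (col15 (col9 (col7 (col5 (col3 (col1 (col3 (col5 (col7 (col9 (col15 (col7 (col5 (col3 (col17 (col15 (col7 (col5 (col9 (col7 (col15 (col11 (col9 (col7 (col15 (col13 (col11 (col9 (col7 (col3 (col5 (col1 (col3 (col1 (col3 (col1 (col5 (col3 (col7 (col9 (col11 (col13 (col15 (col7 (col9 (col11 (i)))))))))))))))))))))))))))))))))))))))))))))))))))))))))))))))))))))))))))))))))))))))))))))))))))))))))))))))))))))))))))))))))))))))))))))))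
theorem actR49_eq (i : Nat) : actR49 i = Tab.act T D rw49 i := rfl
noncomputable def actR50 (i : Nat) : Nat := col22 (col11 (col9 (col5 (col7 (col15 (col17 (col15 (col9 (col11 (col5 (col7 (col9 (col3 (col5 (col7 (col15 (col13 (col11 (col9 (col7 (col5 (col3 (col1 (col3 (col5 (col7 (col9 (col11 (col13 (col15 (col7 (col5 (col3 (col9 (col7 (col5 (col11 (col9 (col15 (col17 (col15 (col7 (col5 (col9 (col11 (col3 (col5 (col1 (col3 (col1 (col3 (col1 (col5 (col3 (i)))))))))))))))))))))))))))))))))))))))))))))))))))))))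
theorem actR50_eq (i : Nat) : actR50 i = Tab.act T D rw50 i := rfl
noncomputable def actR51 (i : Nat) : Nat := col24 (col17 (col9 (col7 (col15 (col11 (col13 (col9 (col11 (col7 (col9 (col5 (col7 (col15 (col17 (col9 (col11 (col5 (col7 (col9 (col3 (col5 (col7 (col15 (col13 (col11 (col9 (col7 (col5 (col3 (col1 (col3 (col5 (col7 (col9 (col11 (col13 (col15 (col7 (col5 (col3 (col9 (col7 (col5 (col11 (col9 (col17 (col15 (col7 (col5 (col9 (col7 (col11 (col9 (col13 (col11 (col15 (col7 (col9 (col17 (col1 (col31 (i))))))))))))))))))))))))))))))))))))))))))))))))))))))))))))))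
theorem actR51_eq (i : Nat) : actR51 i = Tab.act T D rw51 i := rfl
noncomputable def actR52 (i : Nat) : Nat := col26 (col7 (col15 (col17 (col5 (col7 (col15 (col9 (col11 (col7 (col9 (col5 (col7 (col15 (col17 (col7 (col15 (col9 (col11 (col7 (col9 (col3 (col5 (col7 (col15 (col13 (col11 (col9 (col7 (col5 (col3 (col1 (col3 (col5 (col7 (col9 (col11 (col13 (col15 (col7 (col5 (col3 (col9 (col7 (col11 (col9 (col15 (col7 (col17 (col15 (col7 (col5 (col9 (col7 (col11 (col9 (col15 (col7 (col5 (col17 (col15 (col7 (col7 (col9 (col5 (col7 (col15 (col17 (col9 (col3 (col5 (col7 (col15 (col11 (col9 (col7 (col5 (col3 (col1 (col3 (col5 (col7 (col9 (col11 (col15 (col7 (col5 (col3 (col9 (col17 (col15 (col7 (col5 (col9 (col7 (col5 (col7 (col15 (col17 (col7 (col9 (col3 (col5 (col7 (col15 (col11 (col9 (col7 (col5 (col3 (col1 (col3 (col5 (col7 (col9 (col11 (col15 (col7 (col5 (col3 (col9 (col7 (col17 (col15 (col7 (col5 (col15 (col7 (col9 (col3 (col5 (col7 (col15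 (col13 (col11 (col9 (col7 (col5 (col3 (col1 (col3 (col5 (col7 (col9 (col11 (col13 (col15 (col7 (col5 (col3 (col9 (col7 (col15 (i)))))))))))))))))))))))))))))))))))))))))))))))))))))))))))))))))))))))))))))))))))))))))))))))))))))))))))))))))))))))))))))))))))))))))))))))))))))))))
theorem actR52_eq (i : Nat) : actR52 i = Tab.act T D rw52 i := rfl
noncomputable def actR53 (i : Nat) : Nat := col28 (col1 (col31 (i)))
theorem actR53_eq (i : Nat) : actR53 i = Tab.act T D rw53 i := rfl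
noncomputable def actR54 (i : Nat) : Nat := col19 (col19 (i))
theorem actR54_eq (i : Nat) : actR54 i = Tab.act T D rw54 i := rfl
noncomputable def actR55 (i : Nat) : Nat := col21 (col21 (col21 (col21 (col21 (i)))))
theorem actR55_eq (i : Nat) : actR55 i = Tab.act T D rw55 i := rfl
noncomputable def actR56 (i : Nat) : Nat := col19 (col21 (col19 (col21 (col19 (col21 (col19 (col21 (col19 (col21 (col19 (col21 (col19 (col21 (col19 (col21 (col19 (col21 (i))))))))))))))))))
theorem actR56_eq (i : Nat) : actR56 i = Tab.act T D rw56 i := rfl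
noncomputable def actR57 (i : Nat) : Nat := col18 (col20 (col19 (col21 (col18 (col20 (col19 (col21 (col18 (col20 (col19 (col21 (i))))))))))))
theorem actR57_eq (i : Nat) : actR57 i = Tab.act T D rw57 i := rfl
noncomputable def actR58 (i : Nat) : Nat := col18 (col20 (col18 (col20 (col19 (col21 (col19 (col21 (col18 (col20 (col18 (col20 (col19 (col21 (col19 (col21 (i))))))))))))))))
theorem actR58_eq (i : Nat) : actR58 i = Tab.act T D rw58 i := rfl
noncomputable def actR59 (i : Nat) : Nat := col23 (col23 (col23 (i)))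
theorem actR59_eq (i : Nat) : actR59 i = Tab.act T D rw59 i := rfl
noncomputable def actR60 (i : Nat) : Nat := col22 (col18 (col23 (col19 (i))))
theorem actR60_eq (i : Nat) : actR60 i = Tab.act T D rw60 i := rfl
noncomputable def actR61 (i : Nat) : Nat := col22 (col20 (col23 (col21 (i))))
theorem actR61_eq (i : Nat) : actR61 i = Tab.act T D rw61 i := rfl
noncomputable def actR62 (i : Nat) : Nat := col25 (col25 (i))
theorem actR62_eq (i : Nat) : actR62 i = Tab.act T D rw62 i := rfl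
noncomputable def actR63 (i : Nat) : Nat := col19 (col25 (col19 (col25 (col19 (col25 (i))))))
theorem actR63_eq (i : Nat) : actR63 i = Tab.act T D rw63 i := rfl
noncomputable def actR64 (i : Nat) : Nat := col19 (col21 (col19 (col21 (col23 (col25 (col19 (col21 (col25 (i)))))))))
theorem actR64_eq (i : Nat) : actR64 i = Tab.act T D rw64 i := rfl
noncomputable def actR65 (i : Nat) : Nat := col27 (col27 (col27 (i)))
theorem actR65_eq (i : Nat) : actR65 i = Tab.act T D rw65 i := rfl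
noncomputable def actR66 (i : Nat) : Nat := col19 (col21 (col19 (col21 (col19 (col21 (col23 (col25 (col21 (col19 (col27 (col21 (col19 (col20 (col26 (col19 (col20 (i)))))))))))))))))
theorem actR66_eq (i : Nat) : actR66 i = Tab.act T D rw66 i := rfl
noncomputable def actR67 (i : Nat) : Nat := col19 (col21 (col19 (col21 (col19 (col21 (col19 (col27 (col23 (col27 (col21 (col19 (col20 (col19 (col20 (col19 (col21 (col21 (col0 (i)))))))))))))))))))
theorem actR67_eq (i : Nat) : actR67 i = Tab.act T D rw67 i := rfl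
noncomputable def actR68 (i : Nat) : Nat := col19 (col21 (col19 (col21 (col19 (col21 (col19 (col20 (col20 (col19 (col20 (col23 (col25 (col21 (col21 (col25 (col19 (col20 (col27 (col25 (col27 (col22 (col21 (col25 (col26 (col20 (col20 (col28 (i))))))))))))))))))))))))))))
theorem actR68_eq (i : Nat) : actR68 i = Tab.act T D rw68 i := rfl
noncomputable def actR69 (i : Nat) : Nat := col29 (col29 (i))
theorem actR69_eq (i : Nat) : actR69 i = Tab.act T D rw69 i := rfl
noncomputable def actR70 (i : Nat) : Nat := col0 (col18 (col1 (col19 (i))))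
theorem actR70_eq (i : Nat) : actR70 i = Tab.act T D rw70 i := rfl
noncomputable def actR71 (i : Nat) : Nat := col0 (col20 (col1 (col21 (i))))
theorem actR71_eq (i : Nat) : actR71 i = Tab.act T D rw71 i := rfl
noncomputable def actR72 (i : Nat) : Nat := col0 (col22 (col1 (col23 (i))))
theorem actR72_eq (i : Nat) : actR72 i = Tab.act T D rw72 i := rfl
noncomputable def actR73 (i : Nat) : Nat := col0 (col24 (col1 (col25 (i))))
theorem actR73_eq (i : Nat) : actR73 i = Tab.act T D rw73 i := rfl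
noncomputable def actR74 (i : Nat) : Nat := col0 (col26 (col1 (col27 (i))))
theorem actR74_eq (i : Nat) : actR74 i = Tab.act T D rw74 i := rfl
noncomputable def actR75 (i : Nat) : Nat := col28 (col18 (col29 (col19 (i))))
theorem actR75_eq (i : Nat) : actR75 i = Tab.act T D rw75 i := rfl
noncomputable def actR76 (i : Nat) : Nat := col28 (col20 (col29 (col21 (i))))
theorem actR76_eq (i : Nat) : actR76 i = Tab.act T D rw76 i := rfl
noncomputable def actR77 (i : Nat) : Nat := col28 (col22 (col29 (col23 (i))))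
theorem actR77_eq (i : Nat) : actR77 i = Tab.act T D rw77 i := rfl
noncomputable def actR78 (i : Nat) : Nat := col28 (col24 (col29 (col25 (i))))
theorem actR78_eq (i : Nat) : actR78 i = Tab.act T D rw78 i := rfl
noncomputable def actR79 (i : Nat) : Nat := col28 (col26 (col29 (col27 (i))))
theorem actR79_eq (i : Nat) : actR79 i = Tab.act T D rw79 i := rfl
noncomputable def actR80 (i : Nat) : Nat := col0 (col28 (col1 (col29 (i))))
theorem actR80_eq (i : Nat) : actR80 i = Tab.act T D rw80 i := rfl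
noncomputable def actR81 (i : Nat) : Nat := col31 (col31 (i))
theorem actR81_eq (i : Nat) : actR81 i = Tab.act T D rw81 i := rfl
noncomputable def actR82 (i : Nat) : Nat := col30 (col0 (col31 (col1 (i))))
theorem actR82_eq (i : Nat) : actR82 i = Tab.act T D rw82 i := rfl
noncomputable def actR83 (i : Nat) : Nat := col30 (col2 (col31 (col3 (i))))
theorem actR83_eq (i : Nat) : actR83 i = Tab.act T D rw83 i := rfl
noncomputable def actR84 (i : Nat) : Nat := col30 (col4 (col31 (col5 (i))))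
theorem actR84_eq (i : Nat) : actR84 i = Tab.act T D rw84 i := rfl
noncomputable def actR85 (i : Nat) : Nat := col30 (col6 (col31 (col7 (i))))
theorem actR85_eq (i : Nat) : actR85 i = Tab.act T D rw85 i := rfl
noncomputable def actR86 (i : Nat) : Nat := col30 (col8 (col31 (col9 (i))))
theorem actR86_eq (i : Nat) : actR86 i = Tab.act T D rw86 i := rfl
noncomputable def actR87 (i : Nat) : Nat := col30 (col10 (col31 (col11 (i))))
theorem actR87_eq (i : Nat) : actR87 i = Tab.act T D rw87 i := rfl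
noncomputable def actR88 (i : Nat) : Nat := col30 (col12 (col31 (col13 (i))))
theorem actR88_eq (i : Nat) : actR88 i = Tab.act T D rw88 i := rfl
noncomputable def actR89 (i : Nat) : Nat := col30 (col14 (col31 (col15 (i))))
theorem actR89_eq (i : Nat) : actR89 i = Tab.act T D rw89 i := rfl
noncomputable def actR90 (i : Nat) : Nat := col30 (col16 (col31 (col17 (i))))
theorem actR90_eq (i : Nat) : actR90 i = Tab.act T D rw90 i := rfl
noncomputable def actR91 (i : Nat) : Nat := col30 (col18 (col31 (col19 (i))))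
theorem actR91_eq (i : Nat) : actR91 i = Tab.act T D rw91 i := rfl
noncomputable def actR92 (i : Nat) : Nat := col30 (col20 (col31 (col21 (i))))
theorem actR92_eq (i : Nat) : actR92 i = Tab.act T D rw92 i := rfl
noncomputable def actR93 (i : Nat) : Nat := col30 (col22 (col31 (col23 (i))))
theorem actR93_eq (i : Nat) : actR93 i = Tab.act T D rw93 i := rfl
noncomputable def actR94 (i : Nat) : Nat := col30 (col24 (col31 (col25 (i))))
theorem actR94_eq (i : Nat) : actR94 i = Tab.act T D rw94 i := rfl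
noncomputable def actR95 (i : Nat) : Nat := col30 (col26 (col31 (col27 (i))))
theorem actR95_eq (i : Nat) : actR95 i = Tab.act T D rw95 i := rfl
noncomputable def actR96 (i : Nat) : Nat := col30 (col28 (col31 (col29 (i))))
theorem actR96_eq (i : Nat) : actR96 i = Tab.act T D rw96 i := rfl

end Cfsg.Agent.Lib.Helper4.TCD.C2Fi22xR
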