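import Cfsg.Agent.Lib.Helper4.TCD_C2Fi22xR_Acc

namespace Cfsg.Agent.Lib.Helper4.TCD.C2Fi22xR

open Cfsg.Agent.Lib.Helper4.TC

set_option maxRecDepth 100000
set_option Elab.async false

theorem c_let : allBelow D.letOK 32 = true := by decide +kernel
theorem c_real : PC2Fi22x.P.real = realLit := by decide +kernel
theorem c_perm_0 : allGrid (T.permOK1 D) 0 937 32 = true := by decide +kernel
theorem c_perm_1 : allGrid (T.permOK1 D) 937 937 32 = true := by decide +kernel
theorem c_perm_2 : allGrid (T.permOK1 D) 1874 937 32 = true := by decide +kernel
theorem c_perm_3 : allGrid (T.permOK1 D) 2811 937 32 = true := by decide +kernel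
theorem c_perm_4 : allGrid (T.permOK1 D) 3748 937 32 = true := by decide +kernel
theorem c_perm_5 : allGrid (T.permOK1 D) 4685 937 32 = true := by decide +kernel
theorem c_perm_6 : allGrid (T.permOK1 D) 5622 937 32 = true := by decide +kernel
theorem c_perm_7 : allGrid (T.permOK1 D) 6559 937 32 = true := by decide +kernel
theorem c_perm_8 : allGrid (T.permOK1 D) 7496 937 32 = true := by decide +kernel
theorem c_perm_9 : allGrid (T.permOK1 D) 8433 937 32 = true := by decide +kernel
theorem c_perm_10 : allGrid (T.permOK1 D) 9370 937 32 = true := by decide +kernel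
theorem c_perm_11 : allGrid (T.permOK1 D) 10307 937 32 = true := by decide +kernel
theorem c_perm_12 : allGrid (T.permOK1 D) 11244 937 32 = true := by decide +kernel
theorem c_perm_13 : allGrid (T.permOK1 D) 12181 937 32 = true := by decide +kernel
theorem c_perm_14 : allGrid (T.permOK1 D) 13118 937 32 = true := by decide +kernel
theorem c_perm_15 : allGrid (T.permOK1 D) 14055 937 32 = true := by decide +kernel
theorem c_perm_16 : allGrid (T.permOK1 D) 14992 937 32 = true := by decide +kernel
theorem c_perm_17 : allGrid (T.permOK1 D) 15929 937 32 = true := by decide +kernel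
theorem c_perm_18 : allGrid (T.permOK1 D) 16866 937 32 = true := by decide +kernel
theorem c_perm_19 : allGrid (T.permOK1 D) 17803 937 32 = true := by decide +kernel
theorem c_perm_20 : allGrid (T.permOK1 D) 18740 937 32 = true := by decide +kernel
theorem c_perm_21 : allGrid (T.permOK1 D) 19677 937 32 = true := by decide +kernel
theorem c_perm_22 : allGrid (T.permOK1 D) 20614 937 32 = true := by decide +kernel
theorem c_perm_23 : allGrid (T.permOK1 D) 21551 937 32 = true := by decide +kernel
theorem c_perm_24 : allGrid (T.permOK1 D) 22488 937 32 = true := by decide +kernel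
theorem c_perm_25 : allGrid (T.permOK1 D) 23425 937 32 = true := by decide +kernel
theorem c_perm_26 : allGrid (T.permOK1 D) 24362 937 32 = true := by decide +kernel
theorem c_perm_27 : allGrid (T.permOK1 D) 25299 937 32 = true := by decide +kernel
theorem c_perm_28 : allGrid (T.permOK1 D) 26236 937 32 = true := by decide +kernel
theorem c_perm_29 : allGrid (T.permOK1 D) 27173 937 32 = true := by decide +kernel
theorem c_perm_30 : allGrid (T.permOK1 D) 28110 50 32 = true := by decide +kernel
theorem c_act0_0 : allRange (fun i => Nat.beq (actR0 i) i) 0 28160 = true := by decide +kernel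
theorem c_act1_0 : allRange (fun i => Nat.beq (actR1 i) i) 0 10000 = true := by decide +kernel
theorem c_act1_1 : allRange (fun i => Nat.beq (actR1 i) i) 10000 10000 = true := by decide +kernel
theorem c_act1_2 : allRange (fun i => Nat.beq (actR1 i) i) 20000 8160 = true := by decide +kernel
theorem c_act2_0 : allRange (fun i => Nat.beq (actR2 i) i) 0 15000 = true := by decide +kernel
theorem c_act2_1 : allRange (fun i => Nat.beq (actR2 i) i) 15000 13160 = true := by decide +kernel
theorem c_act3_0 : allRange (fun i => Nat.beq (actR3 i) i) 0 15000 = true := by decide +kernel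
theorem c_act3_1 : allRange (fun i => Nat.beq (actR3 i) i) 15000 13160 = true := by decide +kernel
theorem c_act4_0 : allRange (fun i => Nat.beq (actR4 i) i) 0 15000 = true := by decide +kernel
theorem c_act4_1 : allRange (fun i => Nat.beq (actR4 i) i) 15000 13160 = true := by decide +kernel
theorem c_act5_0 : allRange (fun i => Nat.beq (actR5 i) i) 0 15000 = true := by decide +kernel
theorem c_act5_1 : allRange (fun i => Nat.beq (actR5 i) i) 15000 13160 = true := by decide +kernel
theorem c_act6_0 : allRange (fun i => Nat.beq (actR6 i) i) 0 15000 = true := by decide +kernel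
theorem c_act6_1 : allRange (fun i => Nat.beq (actR6 i) i) 15000 13160 = true := by decide +kernel
theorem c_act7_0 : allRange (fun i => Nat.beq (actR7 i) i) 0 15000 = true := by decide +kernel
theorem c_act7_1 : allRange (fun i => Nat.beq (actR7 i) i) 15000 13160 = true := by decide +kernel
theorem c_act8_0 : allRange (fun i => Nat.beq (actR8 i) i) 0 15000 = true := by decide +kernel
theorem c_act8_1 : allRange (fun i => Nat.beq (actR8 i) i) 15000 13160 = true := by decide +kernel
theorem c_act9_0 : allRange (fun i => Nat.beq (actR9 i) i) 0 28160 = true := by decide +kernel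
theorem c_act10_0 : allRange (fun i => Nat.beq (actR10 i) i) 0 10000 = true := by decide +kernel
theorem c_act10_1 : allRange (fun i => Nat.beq (actR10 i) i) 10000 10000 = true := by decide +kernel

end Cfsg.Agent.Lib.Helper4.TCD.C2Fi22xR
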