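import Cfsg.Agent.Lib.Helper4.TC11
import Cfsg.Agent.Lib.Helper4.TCD_C2G24R_Acc
import Cfsg.Agent.Lib.Helper4.TCD_C2G24L_D0
import Cfsg.Agent.Lib.Helper4.TCD_C2G24L_D1
import Cfsg.Agent.Lib.Helper4.TCD_C2G24L_D2

namespace Cfsg.Agent.Lib.Helper4.TCD.C2G24L

open Cfsg.Agent.Lib.Helper4.TC Cfsg.Agent.Lib.Helper4.TCD.C2G24R

set_option maxRecDepth 100000

noncomputable def st10_s_0_2 (c : Nat) : Nat := @Bool.rec (fun _ => Nat) (st10_0) (st10_1) (Nat.ble 1 c)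
noncomputable def st10_s_3_5 (c : Nat) : Nat := @Bool.rec (fun _ => Nat) (st10_3) (st10_4) (Nat.ble 4 c)
noncomputable def st10_s_2_5 (c : Nat) : Nat := @Bool.rec (fun _ => Nat) (st10_2) (st10_s_3_5 c) (Nat.ble 3 c)
noncomputable def st10_s_0_5 (c : Nat) : Nat := @Bool.rec (fun _ => Nat) (st10_s_0_2 c) (st10_s_2_5 c) (Nat.ble 2 c)
noncomputable def st10_s_5_7 (c : Nat) : Nat := @Bool.rec (fun _ => Nat) (st10_5) (st10_6) (Nat.ble 6 c)
noncomputable def st10_s_8_10 (c : Nat) : Nat := @Bool.rec (fun _ => Nat) (st10_8) (st10_9) (Nat.ble 9 c)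
noncomputable def st10_s_7_10 (c : Nat) : Nat := @Bool.rec (fun _ => Nat) (st10_7) (st10_s_8_10 c) (Nat.ble 8 c)
noncomputable def st10_s_5_10 (c : Nat) : Nat := @Bool.rec (fun _ => Nat) (st10_s_5_7 c) (st10_s_7_10 c) (Nat.ble 7 c)
noncomputable def st10_s_0_10 (c : Nat) : Nat := @Bool.rec (fun _ => Nat) (st10_s_0_5 c) (st10_s_5_10 c) (Nat.ble 5 c)
noncomputable def st10_s_10_12 (c : Nat) : Nat := @Bool.rec (fun _ => Nat) (st10_10) (st10_11) (Nat.ble 11 c)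
noncomputable def st10_s_13_15 (c : Nat) : Nat := @Bool.rec (fun _ => Nat) (st10_13) (st10_14) (Nat.ble 14 c)
noncomputable def st10_s_12_15 (c : Nat) : Nat := @Bool.rec (fun _ => Nat) (st10_12) (st10_s_13_15 c) (Nat.ble 13 c)
noncomputable def st10_s_10_15 (c : Nat) : Nat := @Bool.rec (fun _ => Nat) (st10_s_10_12 c) (st10_s_12_15 c) (Nat.ble 12 c)
noncomputable def st10_s_16_18 (c : Nat) : Nat := @Bool.rec (fun _ => Nat) (st10_16) (st10_17) (Nat.ble 17 c)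
noncomputable def st10_s_15_18 (c : Nat) : Nat := @Bool.rec (fun _ => Nat) (st10_15) (st10_s_16_18 c) (Nat.ble 16 c)
noncomputable def st10_s_19_21 (c : Nat) : Nat := @Bool.rec (fun _ => Nat) (st10_19) (st10_20) (Nat.ble 20 c)
noncomputable def st10_s_18_21 (c : Nat) : Nat := @Bool.rec (fun _ => Nat) (st10_18) (st10_s_19_21 c) (Nat.ble 19 c)
noncomputable def st10_s_15_21 (c : Nat) : Nat := @Bool.rec (fun _ => Nat) (st10_s_15_18 c) (st10_s_18_21 c) (Nat.ble 18 c)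
noncomputable def st10_s_10_21 (c : Nat) : Nat := @Bool.rec (fun _ => Nat) (st10_s_10_15 c) (st10_s_15_21 c) (Nat.ble 15 c)
noncomputable def st10_s_0_21 (c : Nat) : Nat := @Bool.rec (fun _ => Nat) (st10_s_0_10 c) (st10_s_10_21 c) (Nat.ble 10 c)
noncomputable def st10 (i : Nat) : Nat := rdw 17 131071 (st10_s_0_21 (Nat.shiftRight i 12)) (Nat.land i 4095)
noncomputable def st11_s_0_2 (c : Nat) : Nat := @Bool.rec (fun _ => Nat) (st11_0) (st11_1) (Nat.ble 1 c)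
noncomputable def st11_s_3_5 (c : Nat) : Nat := @Bool.rec (fun _ => Nat) (st11_3) (st11_4) (Nat.ble 4 c)
noncomputable def st11_s_2_5 (c : Nat) : Nat := @Bool.rec (fun _ => Nat) (st11_2) (st11_s_3_5 c) (Nat.ble 3 c)
noncomputable def st11_s_0_5 (c : Nat) : Nat := @Bool.rec (fun _ => Nat) (st11_s_0_2 c) (st11_s_2_5 c) (Nat.ble 2 c)
noncomputable def st11_s_5_7 (c : Nat) : Nat := @Bool.rec (fun _ => Nat) (st11_5) (st11_6) (Nat.ble 6 c)
noncomputable def st11_s_8_10 (c : Nat) : Nat := @Bool.rec (fun _ => Nat) (st11_8) (st11_9) (Nat.ble 9 c)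
noncomputable def st11_s_7_10 (c : Nat) : Nat := @Bool.rec (fun _ => Nat) (st11_7) (st11_s_8_10 c) (Nat.ble 8 c)
noncomputable def st11_s_5_10 (c : Nat) : Nat := @Bool.rec (fun _ => Nat) (st11_s_5_7 c) (st11_s_7_10 c) (Nat.ble 7 c)
noncomputable def st11_s_0_10 (c : Nat) : Nat := @Bool.rec (fun _ => Nat) (st11_s_0_5 c) (st11_s_5_10 c) (Nat.ble 5 c)
noncomputable def st11_s_10_12 (c : Nat) : Nat := @Bool.rec (fun _ => Nat) (st11_10) (st11_11) (Nat.ble 11 c)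
noncomputable def st11_s_13_15 (c : Nat) : Nat := @Bool.rec (fun _ => Nat) (st11_13) (st11_14) (Nat.ble 14 c)
noncomputable def st11_s_12_15 (c : Nat) : Nat := @Bool.rec (fun _ => Nat) (st11_12) (st11_s_13_15 c) (Nat.ble 13 c)
noncomputable def st11_s_10_15 (c : Nat) : Nat := @Bool.rec (fun _ => Nat) (st11_s_10_12 c) (st11_s_12_15 c) (Nat.ble 12 c)
noncomputable def st11_s_16_18 (c : Nat) : Nat := @Bool.rec (fun _ => Nat) (st11_16) (st11_17) (Nat.ble 17 c)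
noncomputable def st11_s_15_18 (c : Nat) : Nat := @Bool.rec (fun _ => Nat) (st11_15) (st11_s_16_18 c) (Nat.ble 16 c)
noncomputable def st11_s_19_21 (c : Nat) : Nat := @Bool.rec (fun _ => Nat) (st11_19) (st11_20) (Nat.ble 20 c)
noncomputable def st11_s_18_21 (c : Nat) : Nat := @Bool.rec (fun _ => Nat) (st11_18) (st11_s_19_21 c) (Nat.ble 19 c)
noncomputable def st11_s_15_21 (c : Nat) : Nat := @Bool.rec (fun _ => Nat) (st11_s_15_18 c) (st11_s_18_21 c) (Nat.ble 18 c)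
noncomputable def st11_s_10_21 (c : Nat) : Nat := @Bool.rec (fun _ => Nat) (st11_s_10_15 c) (st11_s_15_21 c) (Nat.ble 15 c)
noncomputable def st11_s_0_21 (c : Nat) : Nat := @Bool.rec (fun _ => Nat) (st11_s_0_10 c) (st11_s_10_21 c) (Nat.ble 10 c)
noncomputable def st11 (i : Nat) : Nat := rdw 17 131071 (st11_s_0_21 (Nat.shiftRight i 12)) (Nat.land i 4095)
noncomputable def st12_s_0_2 (c : Nat) : Nat := @Bool.rec (fun _ => Nat) (st12_0) (st12_1) (Nat.ble 1 c)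
noncomputable def st12_s_3_5 (c : Nat) : Nat := @Bool.rec (fun _ => Nat) (st12_3) (st12_4) (Nat.ble 4 c)
noncomputable def st12_s_2_5 (c : Nat) : Nat := @Bool.rec (fun _ => Nat) (st12_2) (st12_s_3_5 c) (Nat.ble 3 c)
noncomputable def st12_s_0_5 (c : Nat) : Nat := @Bool.rec (fun _ => Nat) (st12_s_0_2 c) (st12_s_2_5 c) (Nat.ble 2 c)
noncomputable def st12_s_5_7 (c : Nat) : Nat := @Bool.rec (fun _ => Nat) (st12_5) (st12_6) (Nat.ble 6 c)
noncomputable def st12_s_8_10 (c : Nat) : Nat := @Bool.rec (fun _ => Nat) (st12_8) (st12_9) (Nat.ble 9 c)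
noncomputable def st12_s_7_10 (c : Nat) : Nat := @Bool.rec (fun _ => Nat) (st12_7) (st12_s_8_10 c) (Nat.ble 8 c)
noncomputable def st12_s_5_10 (c : Nat) : Nat := @Bool.rec (fun _ => Nat) (st12_s_5_7 c) (st12_s_7_10 c) (Nat.ble 7 c)
noncomputable def st12_s_0_10 (c : Nat) : Nat := @Bool.rec (fun _ => Nat) (st12_s_0_5 c) (st12_s_5_10 c) (Nat.ble 5 c)
noncomputable def st12_s_10_12 (c : Nat) : Nat := @Bool.rec (fun _ => Nat) (st12_10) (st12_11) (Nat.ble 11 c)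
noncomputable def st12_s_13_15 (c : Nat) : Nat := @Bool.rec (fun _ => Nat) (st12_13) (st12_14) (Nat.ble 14 c)
noncomputable def st12_s_12_15 (c : Nat) : Nat := @Bool.rec (fun _ => Nat) (st12_12) (st12_s_13_15 c) (Nat.ble 13 c)
noncomputable def st12_s_10_15 (c : Nat) : Nat := @Bool.rec (fun _ => Nat) (st12_s_10_12 c) (st12_s_12_15 c) (Nat.ble 12 c)
noncomputable def st12_s_16_18 (c : Nat) : Nat := @Bool.rec (fun _ => Nat) (st12_16) (st12_17) (Nat.ble 17 c)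
noncomputable def st12_s_15_18 (c : Nat) : Nat := @Bool.rec (fun _ => Nat) (st12_15) (st12_s_16_18 c) (Nat.ble 16 c)
noncomputable def st12_s_19_21 (c : Nat) : Nat := @Bool.rec (fun _ => Nat) (st12_19) (st12_20) (Nat.ble 20 c)
noncomputable def st12_s_18_21 (c : Nat) : Nat := @Bool.rec (fun _ => Nat) (st12_18) (st12_s_19_21 c) (Nat.ble 19 c)
noncomputable def st12_s_15_21 (c : Nat) : Nat := @Bool.rec (fun _ => Nat) (st12_s_15_18 c) (st12_s_18_21 c) (Nat.ble 18 c)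
noncomputable def st12_s_10_21 (c : Nat) : Nat := @Bool.rec (fun _ => Nat) (st12_s_10_15 c) (st12_s_15_21 c) (Nat.ble 15 c)
noncomputable def st12_s_0_21 (c : Nat) : Nat := @Bool.rec (fun _ => Nat) (st12_s_0_10 c) (st12_s_10_21 c) (Nat.ble 10 c)
noncomputable def st12 (i : Nat) : Nat := rdw 17 131071 (st12_s_0_21 (Nat.shiftRight i 12)) (Nat.land i 4095)
noncomputable def st13_s_0_2 (c : Nat) : Nat := @Bool.rec (fun _ => Nat) (st13_0) (st13_1) (Nat.ble 1 c)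
noncomputable def st13_s_3_5 (c : Nat) : Nat := @Bool.rec (fun _ => Nat) (st13_3) (st13_4) (Nat.ble 4 c)
noncomputable def st13_s_2_5 (c : Nat) : Nat := @Bool.rec (fun _ => Nat) (st13_2) (st13_s_3_5 c) (Nat.ble 3 c)
noncomputable def st13_s_0_5 (c : Nat) : Nat := @Bool.rec (fun _ => Nat) (st13_s_0_2 c) (st13_s_2_5 c) (Nat.ble 2 c)
noncomputable def st13_s_5_7 (c : Nat) : Nat := @Bool.rec (fun _ => Nat) (st13_5) (st13_6) (Nat.ble 6 c)
noncomputable def st13_s_8_10 (c : Nat) : Nat := @Bool.rec (fun _ => Nat) (st13_8) (st13_9) (Nat.ble 9 c)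
noncomputable def st13_s_7_10 (c : Nat) : Nat := @Bool.rec (fun _ => Nat) (st13_7) (st13_s_8_10 c) (Nat.ble 8 c)
noncomputable def st13_s_5_10 (c : Nat) : Nat := @Bool.rec (fun _ => Nat) (st13_s_5_7 c) (st13_s_7_10 c) (Nat.ble 7 c)
noncomputable def st13_s_0_10 (c : Nat) : Nat := @Bool.rec (fun _ => Nat) (st13_s_0_5 c) (st13_s_5_10 c) (Nat.ble 5 c)
noncomputable def st13_s_10_12 (c : Nat) : Nat := @Bool.rec (fun _ => Nat) (st13_10) (st13_11) (Nat.ble 11 c)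
noncomputable def st13_s_13_15 (c : Nat) : Nat := @Bool.rec (fun _ => Nat) (st13_13) (st13_14) (Nat.ble 14 c)
noncomputable def st13_s_12_15 (c : Nat) : Nat := @Bool.rec (fun _ => Nat) (st13_12) (st13_s_13_15 c) (Nat.ble 13 c)
noncomputable def st13_s_10_15 (c : Nat) : Nat := @Bool.rec (fun _ => Nat) (st13_s_10_12 c) (st13_s_12_15 c) (Nat.ble 12 c)
noncomputable def st13_s_16_18 (c : Nat) : Nat := @Bool.rec (fun _ => Nat) (st13_16) (st13_17) (Nat.ble 17 c)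
noncomputable def st13_s_15_18 (c : Nat) : Nat := @Bool.rec (fun _ => Nat) (st13_15) (st13_s_16_18 c) (Nat.ble 16 c)
noncomputable def st13_s_19_21 (c : Nat) : Nat := @Bool.rec (fun _ => Nat) (st13_19) (st13_20) (Nat.ble 20 c)
noncomputable def st13_s_18_21 (c : Nat) : Nat := @Bool.rec (fun _ => Nat) (st13_18) (st13_s_19_21 c) (Nat.ble 19 c)
noncomputable def st13_s_15_21 (c : Nat) : Nat := @Bool.rec (fun _ => Nat) (st13_s_15_18 c) (st13_s_18_21 c) (Nat.ble 18 c)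
noncomputable def st13_s_10_21 (c : Nat) : Nat := @Bool.rec (fun _ => Nat) (st13_s_10_15 c) (st13_s_15_21 c) (Nat.ble 15 c)
noncomputable def st13_s_0_21 (c : Nat) : Nat := @Bool.rec (fun _ => Nat) (st13_s_0_10 c) (st13_s_10_21 c) (Nat.ble 10 c)
noncomputable def st13 (i : Nat) : Nat := rdw 17 131071 (st13_s_0_21 (Nat.shiftRight i 12)) (Nat.land i 4095)
noncomputable def st14_s_0_2 (c : Nat) : Nat := @Bool.rec (fun _ => Nat) (st14_0) (st14_1) (Nat.ble 1 c)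
noncomputable def st14_s_3_5 (c : Nat) : Nat := @Bool.rec (fun _ => Nat) (st14_3) (st14_4) (Nat.ble 4 c)
noncomputable def st14_s_2_5 (c : Nat) : Nat := @Bool.rec (fun _ => Nat) (st14_2) (st14_s_3_5 c) (Nat.ble 3 c)
noncomputable def st14_s_0_5 (c : Nat) : Nat := @Bool.rec (fun _ => Nat) (st14_s_0_2 c) (st14_s_2_5 c) (Nat.ble 2 c)
noncomputable def st14_s_5_7 (c : Nat) : Nat := @Bool.rec (fun _ => Nat) (st14_5) (st14_6) (Nat.ble 6 c)
noncomputable def st14_s_8_10 (c : Nat) : Nat := @Bool.rec (fun _ => Nat) (st14_8) (st14_9) (Nat.ble 9 c)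
noncomputable def st14_s_7_10 (c : Nat) : Nat := @Bool.rec (fun _ => Nat) (st14_7) (st14_s_8_10 c) (Nat.ble 8 c)
noncomputable def st14_s_5_10 (c : Nat) : Nat := @Bool.rec (fun _ => Nat) (st14_s_5_7 c) (st14_s_7_10 c) (Nat.ble 7 c)
noncomputable def st14_s_0_10 (c : Nat) : Nat := @Bool.rec (fun _ => Nat) (st14_s_0_5 c) (st14_s_5_10 c) (Nat.ble 5 c)
noncomputable def st14_s_10_12 (c : Nat) : Nat := @Bool.rec (fun _ => Nat) (st14_10) (st14_11) (Nat.ble 11 c)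
noncomputable def st14_s_13_15 (c : Nat) : Nat := @Bool.rec (fun _ => Nat) (st14_13) (st14_14) (Nat.ble 14 c)
noncomputable def st14_s_12_15 (c : Nat) : Nat := @Bool.rec (fun _ => Nat) (st14_12) (st14_s_13_15 c) (Nat.ble 13 c)
noncomputable def st14_s_10_15 (c : Nat) : Nat := @Bool.rec (fun _ => Nat) (st14_s_10_12 c) (st14_s_12_15 c) (Nat.ble 12 c)
noncomputable def st14_s_16_18 (c : Nat) : Nat := @Bool.rec (fun _ => Nat) (st14_16) (st14_17) (Nat.ble 17 c)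
noncomputable def st14_s_15_18 (c : Nat) : Nat := @Bool.rec (fun _ => Nat) (st14_15) (st14_s_16_18 c) (Nat.ble 16 c)
noncomputable def st14_s_19_21 (c : Nat) : Nat := @Bool.rec (fun _ => Nat) (st14_19) (st14_20) (Nat.ble 20 c)
noncomputable def st14_s_18_21 (c : Nat) : Nat := @Bool.rec (fun _ => Nat) (st14_18) (st14_s_19_21 c) (Nat.ble 19 c)
noncomputable def st14_s_15_21 (c : Nat) : Nat := @Bool.rec (fun _ => Nat) (st14_s_15_18 c) (st14_s_18_21 c) (Nat.ble 18 c)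
noncomputable def st14_s_10_21 (c : Nat) : Nat := @Bool.rec (fun _ => Nat) (st14_s_10_15 c) (st14_s_15_21 c) (Nat.ble 15 c)
noncomputable def st14_s_0_21 (c : Nat) : Nat := @Bool.rec (fun _ => Nat) (st14_s_0_10 c) (st14_s_10_21 c) (Nat.ble 10 c)
noncomputable def st14 (i : Nat) : Nat := rdw 17 131071 (st14_s_0_21 (Nat.shiftRight i 12)) (Nat.land i 4095)
noncomputable def st15_s_0_2 (c : Nat) : Nat := @Bool.rec (fun _ => Nat) (st15_0) (st15_1) (Nat.ble 1 c)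
noncomputable def st15_s_3_5 (c : Nat) : Nat := @Bool.rec (fun _ => Nat) (st15_3) (st15_4) (Nat.ble 4 c)
noncomputable def st15_s_2_5 (c : Nat) : Nat := @Bool.rec (fun _ => Nat) (st15_2) (st15_s_3_5 c) (Nat.ble 3 c)
noncomputable def st15_s_0_5 (c : Nat) : Nat := @Bool.rec (fun _ => Nat) (st15_s_0_2 c) (st15_s_2_5 c) (Nat.ble 2 c)
noncomputable def st15_s_5_7 (c : Nat) : Nat := @Bool.rec (fun _ => Nat) (st15_5) (st15_6) (Nat.ble 6 c)
noncomputable def st15_s_8_10 (c : Nat) : Nat := @Bool.rec (fun _ => Nat) (st15_8) (st15_9) (Nat.ble 9 c)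
noncomputable def st15_s_7_10 (c : Nat) : Nat := @Bool.rec (fun _ => Nat) (st15_7) (st15_s_8_10 c) (Nat.ble 8 c)
noncomputable def st15_s_5_10 (c : Nat) : Nat := @Bool.rec (fun _ => Nat) (st15_s_5_7 c) (st15_s_7_10 c) (Nat.ble 7 c)
noncomputable def st15_s_0_10 (c : Nat) : Nat := @Bool.rec (fun _ => Nat) (st15_s_0_5 c) (st15_s_5_10 c) (Nat.ble 5 c)
noncomputable def st15_s_10_12 (c : Nat) : Nat := @Bool.rec (fun _ => Nat) (st15_10) (st15_11) (Nat.ble 11 c)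
noncomputable def st15_s_13_15 (c : Nat) : Nat := @Bool.rec (fun _ => Nat) (st15_13) (st15_14) (Nat.ble 14 c)
noncomputable def st15_s_12_15 (c : Nat) : Nat := @Bool.rec (fun _ => Nat) (st15_12) (st15_s_13_15 c) (Nat.ble 13 c)
noncomputable def st15_s_10_15 (c : Nat) : Nat := @Bool.rec (fun _ => Nat) (st15_s_10_12 c) (st15_s_12_15 c) (Nat.ble 12 c)
noncomputable def st15_s_16_18 (c : Nat) : Nat := @Bool.rec (fun _ => Nat) (st15_16) (st15_17) (Nat.ble 17 c)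
noncomputable def st15_s_15_18 (c : Nat) : Nat := @Bool.rec (fun _ => Nat) (st15_15) (st15_s_16_18 c) (Nat.ble 16 c)
noncomputable def st15_s_19_21 (c : Nat) : Nat := @Bool.rec (fun _ => Nat) (st15_19) (st15_20) (Nat.ble 20 c)
noncomputable def st15_s_18_21 (c : Nat) : Nat := @Bool.rec (fun _ => Nat) (st15_18) (st15_s_19_21 c) (Nat.ble 19 c)
noncomputable def st15_s_15_21 (c : Nat) : Nat := @Bool.rec (fun _ => Nat) (st15_s_15_18 c) (st15_s_18_21 c) (Nat.ble 18 c)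
noncomputable def st15_s_10_21 (c : Nat) : Nat := @Bool.rec (fun _ => Nat) (st15_s_10_15 c) (st15_s_15_21 c) (Nat.ble 15 c)
noncomputable def st15_s_0_21 (c : Nat) : Nat := @Bool.rec (fun _ => Nat) (st15_s_0_10 c) (st15_s_10_21 c) (Nat.ble 10 c)
noncomputable def st15 (i : Nat) : Nat := rdw 17 131071 (st15_s_0_21 (Nat.shiftRight i 12)) (Nat.land i 4095)
noncomputable def levTab (i : Nat) : Nat := rdw 3 7 levTab_0 i
noncomputable def betaTab (i : Nat) : Nat := rdw 17 131071 betaTab_0 i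
noncomputable def nodeTab_s_0_2 (c : Nat) : Nat := @Bool.rec (fun _ => Nat) (nodeTab_0) (nodeTab_1) (Nat.ble 1 c)
noncomputable def nodeTab_s_3_5 (c : Nat) : Nat := @Bool.rec (fun _ => Nat) (nodeTab_3) (nodeTab_4) (Nat.ble 4 c)
noncomputable def nodeTab_s_2_5 (c : Nat) : Nat := @Bool.rec (fun _ => Nat) (nodeTab_2) (nodeTab_s_3_5 c) (Nat.ble 3 c)
noncomputable def nodeTab_s_0_5 (c : Nat) : Nat := @Bool.rec (fun _ => Nat) (nodeTab_s_0_2 c) (nodeTab_s_2_5 c) (Nat.ble 2 c)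
noncomputable def nodeTab_s_5_7 (c : Nat) : Nat := @Bool.rec (fun _ => Nat) (nodeTab_5) (nodeTab_6) (Nat.ble 6 c)
noncomputable def nodeTab_s_8_10 (c : Nat) : Nat := @Bool.rec (fun _ => Nat) (nodeTab_8) (nodeTab_9) (Nat.ble 9 c)
noncomputable def nodeTab_s_7_10 (c : Nat) : Nat := @Bool.rec (fun _ => Nat) (nodeTab_7) (nodeTab_s_8_10 c) (Nat.ble 8 c)
noncomputable def nodeTab_s_5_10 (c : Nat) : Nat := @Bool.rec (fun _ => Nat) (nodeTab_s_5_7 c) (nodeTab_s_7_10 c) (Nat.ble 7 c)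
noncomputable def nodeTab_s_0_10 (c : Nat) : Nat := @Bool.rec (fun _ => Nat) (nodeTab_s_0_5 c) (nodeTab_s_5_10 c) (Nat.ble 5 c)
noncomputable def nodeTab_s_10_12 (c : Nat) : Nat := @Bool.rec (fun _ => Nat) (nodeTab_10) (nodeTab_11) (Nat.ble 11 c)
noncomputable def nodeTab_s_13_15 (c : Nat) : Nat := @Bool.rec (fun _ => Nat) (nodeTab_13) (nodeTab_14) (Nat.ble 14 c)
noncomputable def nodeTab_s_12_15 (c : Nat) : Nat := @Bool.rec (fun _ => Nat) (nodeTab_12) (nodeTab_s_13_15 c) (Nat.ble 13 c)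
noncomputable def nodeTab_s_10_15 (c : Nat) : Nat := @Bool.rec (fun _ => Nat) (nodeTab_s_10_12 c) (nodeTab_s_12_15 c) (Nat.ble 12 c)
noncomputable def nodeTab_s_15_17 (c : Nat) : Nat := @Bool.rec (fun _ => Nat) (nodeTab_15) (nodeTab_16) (Nat.ble 16 c)
noncomputable def nodeTab_s_18_20 (c : Nat) : Nat := @Bool.rec (fun _ => Nat) (nodeTab_18) (nodeTab_19) (Nat.ble 19 c)
noncomputable def nodeTab_s_17_20 (c : Nat) : Nat := @Bool.rec (fun _ => Nat) (nodeTab_17) (nodeTab_s_18_20 c) (Nat.ble 18 c)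
noncomputable def nodeTab_s_15_20 (c : Nat) : Nat := @Bool.rec (fun _ => Nat) (nodeTab_s_15_17 c) (nodeTab_s_17_20 c) (Nat.ble 17 c)
noncomputable def nodeTab_s_10_20 (c : Nat) : Nat := @Bool.rec (fun _ => Nat) (nodeTab_s_10_15 c) (nodeTab_s_15_20 c) (Nat.ble 15 c)
noncomputable def nodeTab_s_0_20 (c : Nat) : Nat := @Bool.rec (fun _ => Nat) (nodeTab_s_0_10 c) (nodeTab_s_10_20 c) (Nat.ble 10 c)
noncomputable def nodeTab_s_20_22 (c : Nat) : Nat := @Bool.rec (fun _ => Nat) (nodeTab_20) (nodeTab_21) (Nat.ble 21 c)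
noncomputable def nodeTab_s_23_25 (c : Nat) : Nat := @Bool.rec (fun _ => Nat) (nodeTab_23) (nodeTab_24) (Nat.ble 24 c)
noncomputable def nodeTab_s_22_25 (c : Nat) : Nat := @Bool.rec (fun _ => Nat) (nodeTab_22) (nodeTab_s_23_25 c) (Nat.ble 23 c)
noncomputable def nodeTab_s_20_25 (c : Nat) : Nat := @Bool.rec (fun _ => Nat) (nodeTab_s_20_22 c) (nodeTab_s_22_25 c) (Nat.ble 22 c)
noncomputable def nodeTab_s_25_27 (c : Nat) : Nat := @Bool.rec (fun _ => Nat) (nodeTab_25) (nodeTab_26) (Nat.ble 26 c)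
noncomputable def nodeTab_s_28_30 (c : Nat) : Nat := @Bool.rec (fun _ => Nat) (nodeTab_28) (nodeTab_29) (Nat.ble 29 c)
noncomputable def nodeTab_s_27_30 (c : Nat) : Nat := @Bool.rec (fun _ => Nat) (nodeTab_27) (nodeTab_s_28_30 c) (Nat.ble 28 c)
noncomputable def nodeTab_s_25_30 (c : Nat) : Nat := @Bool.rec (fun _ => Nat) (nodeTab_s_25_27 c) (nodeTab_s_27_30 c) (Nat.ble 27 c)
noncomputable def nodeTab_s_20_30 (c : Nat) : Nat := @Bool.rec (fun _ => Nat) (nodeTab_s_20_25 c) (nodeTab_s_25_30 c) (Nat.ble 25 c)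
noncomputable def nodeTab_s_30_32 (c : Nat) : Nat := @Bool.rec (fun _ => Nat) (nodeTab_30) (nodeTab_31) (Nat.ble 31 c)
noncomputable def nodeTab_s_33_35 (c : Nat) : Nat := @Bool.rec (fun _ => Nat) (nodeTab_33) (nodeTab_34) (Nat.ble 34 c)
noncomputable def nodeTab_s_32_35 (c : Nat) : Nat := @Bool.rec (fun _ => Nat) (nodeTab_32) (nodeTab_s_33_35 c) (Nat.ble 33 c)
noncomputable def nodeTab_s_30_35 (c : Nat) : Nat := @Bool.rec (fun _ => Nat) (nodeTab_s_30_32 c) (nodeTab_s_32_35 c) (Nat.ble 32 c)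
noncomputable def nodeTab_s_36_38 (c : Nat) : Nat := @Bool.rec (fun _ => Nat) (nodeTab_36) (nodeTab_37) (Nat.ble 37 c)
noncomputable def nodeTab_s_35_38 (c : Nat) : Nat := @Bool.rec (fun _ => Nat) (nodeTab_35) (nodeTab_s_36_38 c) (Nat.ble 36 c)
noncomputable def nodeTab_s_39_41 (c : Nat) : Nat := @Bool.rec (fun _ => Nat) (nodeTab_39) (nodeTab_40) (Nat.ble 40 c)
noncomputable def nodeTab_s_38_41 (c : Nat) : Nat := @Bool.rec (fun _ => Nat) (nodeTab_38) (nodeTab_s_39_41 c) (Nat.ble 39 c)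
noncomputable def nodeTab_s_35_41 (c : Nat) : Nat := @Bool.rec (fun _ => Nat) (nodeTab_s_35_38 c) (nodeTab_s_38_41 c) (Nat.ble 38 c)
noncomputable def nodeTab_s_30_41 (c : Nat) : Nat := @Bool.rec (fun _ => Nat) (nodeTab_s_30_35 c) (nodeTab_s_35_41 c) (Nat.ble 35 c)
noncomputable def nodeTab_s_20_41 (c : Nat) : Nat := @Bool.rec (fun _ => Nat) (nodeTab_s_20_30 c) (nodeTab_s_30_41 c) (Nat.ble 30 c)
noncomputable def nodeTab_s_0_41 (c : Nat) : Nat := @Bool.rec (fun _ => Nat) (nodeTab_s_0_20 c) (nodeTab_s_20_41 c) (Nat.ble 20 c)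
noncomputable def nodeTab (i : Nat) : Nat := rdw 43 8796093022207 (nodeTab_s_0_41 (Nat.shiftRight i 11)) (Nat.land i 2047)
noncomputable def offTab (i : Nat) : Nat := rdw 17 131071 offTab_0 i
noncomputable def nTab (i : Nat) : Nat := rdw 17 131071 nTab_0 i
noncomputable def rootTab (i : Nat) : Nat := rdw 17 131071 rootTab_0 i
noncomputable def tabF (i p : Nat) : Nat := @Bool.rec (fun _ => Nat) (@Bool.rec (fun _ => Nat) (@Bool.rec (fun _ => Nat) (@Bool.rec (fun _ => Nat) (col1 p) (col0 p) (Nat.ble 1 i)) (@Bool.rec (fun _ => Nat) (col3 p) (col2 p) (Nat.ble 3 i)) (Nat.ble 2 i)) (@Bool.rec (fun _ => Nat) (@Bool.rec (fun _ => Nat) (col5 p) (col4 p) (Nat.ble 5 i)) (@Bool.rec (fun _ => Nat) (col7 p) (col6 p) (Nat.ble 7 i)) (Nat.ble 6 i)) (Nat.ble 4 i)) (@Bool.rec (fun _ => Nat) (@Bool.rec (fun _ => Nat) (@Bool.rec (fun _ => Nat) (col9 p) (col8 p) (Nat.ble 9 i)) (@Bool.rec (fun _ => Nat) (st10 p) (st11 p) (Nat.ble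 11 i)) (Nat.ble 10 i)) (@Bool.rec (fun _ => Nat) (@Bool.rec (fun _ => Nat) (st12 p) (st13 p) (Nat.ble 13 i)) (@Bool.rec (fun _ => Nat) (st14 p) (st15 p) (Nat.ble 15 i)) (Nat.ble 14 i)) (Nat.ble 12 i)) (Nat.ble 8 i)
def wAF : Nat → List Nat
  | 10 => [2, 1, 3, 6, 1, 4, 6]
  | 11 => [10]
  | 12 => [10, 10, 0, 7, 1, 4, 6, 1, 11]
  | 13 => [12]
  | 14 => [10, 0, 0, 3, 12]
  | 15 => [14]
  | _ => []
def wBF : Nat → List Nat
  | 10 => [1, 3, 6, 4, 1, 4, 6, 4]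
  | 11 => []
  | 12 => [6, 11, 11, 7, 11, 4, 1, 6]
  | 13 => []
  | 14 => [3, 11, 0]
  | 15 => []
  | _ => []
noncomputable def ptF (j idx : Nat) : Nat := Nat.land (nodeTab (Nat.add (offTab j) idx)) 131071
noncomputable def parF (j idx : Nat) : Nat := Nat.land (Nat.shiftRight (nodeTab (Nat.add (offTab j) idx)) 17) 131071
noncomputable def giF (j idx : Nat) : Nat := Nat.land (Nat.shiftRight (nodeTab (Nat.add (offTab j) idx)) 34) 31
noncomputable def depF (j idx : Nat) : Nat := Nat.shiftRight (nodeTab (Nat.add (offTab j) idx)) 39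

noncomputable def S : Sgs :=
  { N := 83200, k := 10, m := 16, tab := tabF, wA := wAF, wB := wBF, lev := levTab, r := 4, beta := betaTab,
    n := nTab, root := rootTab, pt := ptF, par := parF, gi := giF, dep := depF }

noncomputable def chk10 (p : Nat) : Bool := band (Nat.ble (Nat.succ (st10 p)) 83200) (Nat.beq (col3 (col0 (col2 (col7 (col0 (col5 (col7 (st10 p)))))))) (col0 (col2 (col7 (col5 (col0 (col5 (col7 (col5 p)))))))))
theorem chk10_eq (p : Nat) : chk10 p = Sgs.permOK S 10 p := rfl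
noncomputable def chk11 (p : Nat) : Bool := band (Nat.ble (Nat.succ (st11 p)) 83200) (Nat.beq (st10 (st11 p)) p)
theorem chk11_eq (p : Nat) : chk11 p = Sgs.permOK S 11 p := rfl
noncomputable def chk12 (p : Nat) : Bool := band (Nat.ble (Nat.succ (st12 p)) 83200) (Nat.beq (st10 (st10 (col1 (col6 (col0 (col5 (col7 (col0 (st11 (st12 p)))))))))) (col7 (st11 (st11 (col6 (st11 (col5 (col0 (col7 p)))))))))
theorem chk12_eq (p : Nat) : chk12 p = Sgs.permOK S 12 p := rfl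
noncomputable def chk13 (p : Nat) : Bool := band (Nat.ble (Nat.succ (st13 p)) 83200) (Nat.beq (st12 (st13 p)) p)
theorem chk13_eq (p : Nat) : chk13 p = Sgs.permOK S 13 p := rfl
noncomputable def chk14 (p : Nat) : Bool := band (Nat.ble (Nat.succ (st14 p)) 83200) (Nat.beq (st10 (col1 (col1 (col2 (st12 (st14 p)))))) (col2 (st11 (col1 p))))
theorem chk14_eq (p : Nat) : chk14 p = Sgs.permOK S 14 p := rfl
noncomputable def chk15 (p : Nat) : Bool := band (Nat.ble (Nat.succ (st15 p)) 83200) (Nat.beq (st14 (st15 p)) p)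
theorem chk15_eq (p : Nat) : chk15 p = Sgs.permOK S 15 p := rfl

end Cfsg.Agent.Lib.Helper4.TCD.C2G24L
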