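import Cfsg.Agent.Lib.Helper4.TCD_C2G24L_Acc

namespace Cfsg.Agent.Lib.Helper4.TCD.C2G24L

open Cfsg.Agent.Lib.Helper4.TC Cfsg.Agent.Lib.Helper4.TCD.C2G24R

set_option maxRecDepth 100000
set_option Elab.async false

theorem c_words : allRange S.wordsOK 10 6 = true := by decide +kernel
theorem c_fix : allGrid S.fixOK 0 16 4 = true := by decide +kernel
theorem c_root : allBelow (fun j => Nat.ble (Nat.succ (S.root j)) (S.n j)) 4 = true := by decide +kernel
theorem c_n0 : S.n 0 = 83200 := by decide +kernel
theorem c_n1 : S.n 1 = 63 := by decide +kernel
theorem c_n2 : S.n 2 = 24 := by decide +kernel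
theorem c_n3 : S.n 3 = 4 := by decide +kernel
theorem c_p10_0 : allRange chk10 0 3333 = true := by decide +kernel
theorem c_p10_1 : allRange chk10 3333 3333 = true := by decide +kernel
theorem c_p10_2 : allRange chk10 6666 3333 = true := by decide +kernel
theorem c_p10_3 : allRange chk10 9999 3333 = true := by decide +kernel
theorem c_p10_4 : allRange chk10 13332 3333 = true := by decide +kernel
theorem c_p10_5 : allRange chk10 16665 3333 = true := by decide +kernel
theorem c_p10_6 : allRange chk10 19998 3333 = true := by decide +kernel
theorem c_p10_7 : allRange chk10 23331 3333 = true := by decide +kernel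
theorem c_p10_8 : allRange chk10 26664 3333 = true := by decide +kernel
theorem c_p10_9 : allRange chk10 29997 3333 = true := by decide +kernel
theorem c_p10_10 : allRange chk10 33330 3333 = true := by decide +kernel
theorem c_p10_11 : allRange chk10 36663 3333 = true := by decide +kernel
theorem c_p10_12 : allRange chk10 39996 3333 = true := by decide +kernel
theorem c_p10_13 : allRange chk10 43329 3333 = true := by decide +kernel
theorem c_p10_14 : allRange chk10 46662 3333 = true := by decide +kernel
theorem c_p10_15 : allRange chk10 49995 3333 = true := by decide +kernel
theorem c_p10_16 : allRange chk10 53328 3333 = true := by decide +kernel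
theorem c_p10_17 : allRange chk10 56661 3333 = true := by decide +kernel
theorem c_p10_18 : allRange chk10 59994 3333 = true := by decide +kernel
theorem c_p10_19 : allRange chk10 63327 3333 = true := by decide +kernel
theorem c_p10_20 : allRange chk10 66660 3333 = true := by decide +kernel
theorem c_p10_21 : allRange chk10 69993 3333 = true := by decide +kernel
theorem c_p10_22 : allRange chk10 73326 3333 = true := by decide +kernel
theorem c_p10_23 : allRange chk10 76659 3333 = true := by decide +kernel
theorem c_p10_24 : allRange chk10 79992 3208 = true := by decide +kernel
theorem c_p11_0 : allRange chk11 0 15000 = true := by decide +kernel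
theorem c_p11_1 : allRange chk11 15000 15000 = true := by decide +kernel
theorem c_p11_2 : allRange chk11 30000 15000 = true := by decide +kernel
theorem c_p11_3 : allRange chk11 45000 15000 = true := by decide +kernel
theorem c_p11_4 : allRange chk11 60000 15000 = true := by decide +kernel
theorem c_p11_5 : allRange chk11 75000 8200 = true := by decide +kernel
theorem c_p12_0 : allRange chk12 0 3000 = true := by decide +kernel
theorem c_p12_1 : allRange chk12 3000 3000 = true := by decide +kernel
theorem c_p12_2 : allRange chk12 6000 3000 = true := by decide +kernel
theorem c_p12_3 : allRange chk12 9000 3000 = true := by decide +kernel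
theorem c_p12_4 : allRange chk12 12000 3000 = true := by decide +kernel
theorem c_p12_5 : allRange chk12 15000 3000 = true := by decide +kernel
theorem c_p12_6 : allRange chk12 18000 3000 = true := by decide +kernel
theorem c_p12_7 : allRange chk12 21000 3000 = true := by decide +kernel
theorem c_p12_8 : allRange chk12 24000 3000 = true := by decide +kernel
theorem c_p12_9 : allRange chk12 27000 3000 = true := by decide +kernel
theorem c_p12_10 : allRange chk12 30000 3000 = true := by decide +kernel
theorem c_p12_11 : allRange chk12 33000 3000 = true := by decide +kernel
theorem c_p12_12 : allRange chk12 36000 3000 = true := by decide +kernel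
theorem c_p12_13 : allRange chk12 39000 3000 = true := by decide +kernel
theorem c_p12_14 : allRange chk12 42000 3000 = true := by decide +kernel
theorem c_p12_15 : allRange chk12 45000 3000 = true := by decide +kernel
theorem c_p12_16 : allRange chk12 48000 3000 = true := by decide +kernel
theorem c_p12_17 : allRange chk12 51000 3000 = true := by decide +kernel
theorem c_p12_18 : allRange chk12 54000 3000 = true := by decide +kernel

end Cfsg.Agent.Lib.Helper4.TCD.C2G24L
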