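import Cfsg.Agent.Lib.Helper4.TCD_C2G24R_Acc

namespace Cfsg.Agent.Lib.Helper4.TCD.C2G24R

open Cfsg.Agent.Lib.Helper4.TC

set_option maxRecDepth 100000
set_option Elab.async false

theorem c_let : allBelow D.letOK 10 = true := by decide +kernel
theorem c_real : PC2G24.P.real = realLit := by decide +kernel
theorem c_perm_0 : allGrid (T.permOK1 D) 0 3000 10 = true := by decide +kernel
theorem c_perm_1 : allGrid (T.permOK1 D) 3000 3000 10 = true := by decide +kernel
theorem c_perm_2 : allGrid (T.permOK1 D) 6000 3000 10 = true := by decide +kernel
theorem c_perm_3 : allGrid (T.permOK1 D) 9000 3000 10 = true := by decide +kernel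
theorem c_perm_4 : allGrid (T.permOK1 D) 12000 3000 10 = true := by decide +kernel
theorem c_perm_5 : allGrid (T.permOK1 D) 15000 3000 10 = true := by decide +kernel
theorem c_perm_6 : allGrid (T.permOK1 D) 18000 3000 10 = true := by decide +kernel
theorem c_perm_7 : allGrid (T.permOK1 D) 21000 3000 10 = true := by decide +kernel
theorem c_perm_8 : allGrid (T.permOK1 D) 24000 3000 10 = true := by decide +kernel
theorem c_perm_9 : allGrid (T.permOK1 D) 27000 3000 10 = true := by decide +kernel
theorem c_perm_10 : allGrid (T.permOK1 D) 30000 3000 10 = true := by decide +kernel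
theorem c_perm_11 : allGrid (T.permOK1 D) 33000 3000 10 = true := by decide +kernel
theorem c_perm_12 : allGrid (T.permOK1 D) 36000 3000 10 = true := by decide +kernel
theorem c_perm_13 : allGrid (T.permOK1 D) 39000 3000 10 = true := by decide +kernel
theorem c_perm_14 : allGrid (T.permOK1 D) 42000 3000 10 = true := by decide +kernel
theorem c_perm_15 : allGrid (T.permOK1 D) 45000 3000 10 = true := by decide +kernel
theorem c_perm_16 : allGrid (T.permOK1 D) 48000 3000 10 = true := by decide +kernel
theorem c_perm_17 : allGrid (T.permOK1 D) 51000 3000 10 = true := by decide +kernel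
theorem c_perm_18 : allGrid (T.permOK1 D) 54000 3000 10 = true := by decide +kernel
theorem c_perm_19 : allGrid (T.permOK1 D) 57000 3000 10 = true := by decide +kernel
theorem c_perm_20 : allGrid (T.permOK1 D) 60000 3000 10 = true := by decide +kernel
theorem c_perm_21 : allGrid (T.permOK1 D) 63000 3000 10 = true := by decide +kernel
theorem c_perm_22 : allGrid (T.permOK1 D) 66000 3000 10 = true := by decide +kernel
theorem c_perm_23 : allGrid (T.permOK1 D) 69000 3000 10 = true := by decide +kernel
theorem c_perm_24 : allGrid (T.permOK1 D) 72000 3000 10 = true := by decide +kernel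
theorem c_perm_25 : allGrid (T.permOK1 D) 75000 3000 10 = true := by decide +kernel
theorem c_perm_26 : allGrid (T.permOK1 D) 78000 3000 10 = true := by decide +kernel
theorem c_perm_27 : allGrid (T.permOK1 D) 81000 2200 10 = true := by decide +kernel
theorem c_act0_0 : allRange (fun i => Nat.beq (actR0 i) i) 0 8571 = true := by decide +kernel
theorem c_act0_1 : allRange (fun i => Nat.beq (actR0 i) i) 8571 8571 = true := by decide +kernel
theorem c_act0_2 : allRange (fun i => Nat.beq (actR0 i) i) 17142 8571 = true := by decide +kernel
theorem c_act0_3 : allRange (fun i => Nat.beq (actR0 i) i) 25713 8571 = true := by decide +kernel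
theorem c_act0_4 : allRange (fun i => Nat.beq (actR0 i) i) 34284 8571 = true := by decide +kernel
theorem c_act0_5 : allRange (fun i => Nat.beq (actR0 i) i) 42855 8571 = true := by decide +kernel
theorem c_act0_6 : allRange (fun i => Nat.beq (actR0 i) i) 51426 8571 = true := by decide +kernel
theorem c_act0_7 : allRange (fun i => Nat.beq (actR0 i) i) 59997 8571 = true := by decide +kernel
theorem c_act0_8 : allRange (fun i => Nat.beq (actR0 i) i) 68568 8571 = true := by decide +kernel
theorem c_act0_9 : allRange (fun i => Nat.beq (actR0 i) i) 77139 6061 = true := by decide +kernel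
theorem c_act1_0 : allRange (fun i => Nat.beq (actR1 i) i) 0 5454 = true := by decide +kernel
theorem c_act1_1 : allRange (fun i => Nat.beq (actR1 i) i) 5454 5454 = true := by decide +kernel
theorem c_act1_2 : allRange (fun i => Nat.beq (actR1 i) i) 10908 5454 = true := by decide +kernel
theorem c_act1_3 : allRange (fun i => Nat.beq (actR1 i) i) 16362 5454 = true := by decide +kernel
theorem c_act1_4 : allRange (fun i => Nat.beq (actR1 i) i) 21816 5454 = true := by decide +kernel
theorem c_act1_5 : allRange (fun i => Nat.beq (actR1 i) i) 27270 5454 = true := by decide +kernel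
theorem c_act1_6 : allRange (fun i => Nat.beq (actR1 i) i) 32724 5454 = true := by decide +kernel
theorem c_act1_7 : allRange (fun i => Nat.beq (actR1 i) i) 38178 5454 = true := by decide +kernel
theorem c_act1_8 : allRange (fun i => Nat.beq (actR1 i) i) 43632 5454 = true := by decide +kernel
theorem c_act1_9 : allRange (fun i => Nat.beq (actR1 i) i) 49086 5454 = true := by decide +kernel
theorem c_act1_10 : allRange (fun i => Nat.beq (actR1 i) i) 54540 5454 = true := by decide +kernel
theorem c_act1_11 : allRange (fun i => Nat.beq (actR1 i) i) 59994 5454 = true := by decide +kernel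

end Cfsg.Agent.Lib.Helper4.TCD.C2G24R
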