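import Cfsg.Agent.Lib.Helper4.TC7
import Cfsg.Agent.Lib.Helper4.TCP_C2HS
import Cfsg.Agent.Lib.Helper4.TCD_C2HSB_D0
import Cfsg.Agent.Lib.Helper4.TCD_C2HSB_D1
import Cfsg.Agent.Lib.Helper4.TCD_C2HSB_D2
import Cfsg.Agent.Lib.Helper4.TCD_C2HSB_D3
import Cfsg.Agent.Lib.Helper4.TCD_C2HSB_D4
import Cfsg.Agent.Lib.Helper4.TCD_C2HSB_D5
import Cfsg.Agent.Lib.Helper4.TCD_C2HSB_D6
import Cfsg.Agent.Lib.Helper4.TCD_C2HSB_D7

namespace Cfsg.Agent.Lib.Helper4.TCD.C2HSB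

open Cfsg.Agent.Lib.Helper4.TC

set_option maxRecDepth 100000

noncomputable def Atab_s_0_2 (c : Nat) : Nat := @Bool.rec (fun _ => Nat) (Atab_0) (Atab_1) (Nat.ble 1 c)
noncomputable def Atab_s_3_5 (c : Nat) : Nat := @Bool.rec (fun _ => Nat) (Atab_3) (Atab_4) (Nat.ble 4 c)
noncomputable def Atab_s_2_5 (c : Nat) : Nat := @Bool.rec (fun _ => Nat) (Atab_2) (Atab_s_3_5 c) (Nat.ble 3 c)
noncomputable def Atab_s_0_5 (c : Nat) : Nat := @Bool.rec (fun _ => Nat) (Atab_s_0_2 c) (Atab_s_2_5 c) (Nat.ble 2 c)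
noncomputable def Atab_s_6_8 (c : Nat) : Nat := @Bool.rec (fun _ => Nat) (Atab_6) (Atab_7) (Nat.ble 7 c)
noncomputable def Atab_s_5_8 (c : Nat) : Nat := @Bool.rec (fun _ => Nat) (Atab_5) (Atab_s_6_8 c) (Nat.ble 6 c)
noncomputable def Atab_s_9_11 (c : Nat) : Nat := @Bool.rec (fun _ => Nat) (Atab_9) (Atab_10) (Nat.ble 10 c)
noncomputable def Atab_s_8_11 (c : Nat) : Nat := @Bool.rec (fun _ => Nat) (Atab_8) (Atab_s_9_11 c) (Nat.ble 9 c)
noncomputable def Atab_s_5_11 (c : Nat) : Nat := @Bool.rec (fun _ => Nat) (Atab_s_5_8 c) (Atab_s_8_11 c) (Nat.ble 8 c)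
noncomputable def Atab_s_0_11 (c : Nat) : Nat := @Bool.rec (fun _ => Nat) (Atab_s_0_5 c) (Atab_s_5_11 c) (Nat.ble 5 c)
noncomputable def Atab_s_11_13 (c : Nat) : Nat := @Bool.rec (fun _ => Nat) (Atab_11) (Atab_12) (Nat.ble 12 c)
noncomputable def Atab_s_14_16 (c : Nat) : Nat := @Bool.rec (fun _ => Nat) (Atab_14) (Atab_15) (Nat.ble 15 c)
noncomputable def Atab_s_13_16 (c : Nat) : Nat := @Bool.rec (fun _ => Nat) (Atab_13) (Atab_s_14_16 c) (Nat.ble 14 c)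
noncomputable def Atab_s_11_16 (c : Nat) : Nat := @Bool.rec (fun _ => Nat) (Atab_s_11_13 c) (Atab_s_13_16 c) (Nat.ble 13 c)
noncomputable def Atab_s_17_19 (c : Nat) : Nat := @Bool.rec (fun _ => Nat) (Atab_17) (Atab_18) (Nat.ble 18 c)
noncomputable def Atab_s_16_19 (c : Nat) : Nat := @Bool.rec (fun _ => Nat) (Atab_16) (Atab_s_17_19 c) (Nat.ble 17 c)
noncomputable def Atab_s_20_22 (c : Nat) : Nat := @Bool.rec (fun _ => Nat) (Atab_20) (Atab_21) (Nat.ble 21 c)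
noncomputable def Atab_s_19_22 (c : Nat) : Nat := @Bool.rec (fun _ => Nat) (Atab_19) (Atab_s_20_22 c) (Nat.ble 20 c)
noncomputable def Atab_s_16_22 (c : Nat) : Nat := @Bool.rec (fun _ => Nat) (Atab_s_16_19 c) (Atab_s_19_22 c) (Nat.ble 19 c)
noncomputable def Atab_s_11_22 (c : Nat) : Nat := @Bool.rec (fun _ => Nat) (Atab_s_11_16 c) (Atab_s_16_22 c) (Nat.ble 16 c)
noncomputable def Atab_s_0_22 (c : Nat) : Nat := @Bool.rec (fun _ => Nat) (Atab_s_0_11 c) (Atab_s_11_22 c) (Nat.ble 11 c)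
noncomputable def Atab_s_22_24 (c : Nat) : Nat := @Bool.rec (fun _ => Nat) (Atab_22) (Atab_23) (Nat.ble 23 c)
noncomputable def Atab_s_25_27 (c : Nat) : Nat := @Bool.rec (fun _ => Nat) (Atab_25) (Atab_26) (Nat.ble 26 c)
noncomputable def Atab_s_24_27 (c : Nat) : Nat := @Bool.rec (fun _ => Nat) (Atab_24) (Atab_s_25_27 c) (Nat.ble 25 c)
noncomputable def Atab_s_22_27 (c : Nat) : Nat := @Bool.rec (fun _ => Nat) (Atab_s_22_24 c) (Atab_s_24_27 c) (Nat.ble 24 c)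
noncomputable def Atab_s_28_30 (c : Nat) : Nat := @Bool.rec (fun _ => Nat) (Atab_28) (Atab_29) (Nat.ble 29 c)
noncomputable def Atab_s_27_30 (c : Nat) : Nat := @Bool.rec (fun _ => Nat) (Atab_27) (Atab_s_28_30 c) (Nat.ble 28 c)
noncomputable def Atab_s_31_33 (c : Nat) : Nat := @Bool.rec (fun _ => Nat) (Atab_31) (Atab_32) (Nat.ble 32 c)
noncomputable def Atab_s_30_33 (c : Nat) : Nat := @Bool.rec (fun _ => Nat) (Atab_30) (Atab_s_31_33 c) (Nat.ble 31 c)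
noncomputable def Atab_s_27_33 (c : Nat) : Nat := @Bool.rec (fun _ => Nat) (Atab_s_27_30 c) (Atab_s_30_33 c) (Nat.ble 30 c)
noncomputable def Atab_s_22_33 (c : Nat) : Nat := @Bool.rec (fun _ => Nat) (Atab_s_22_27 c) (Atab_s_27_33 c) (Nat.ble 27 c)
noncomputable def Atab_s_33_35 (c : Nat) : Nat := @Bool.rec (fun _ => Nat) (Atab_33) (Atab_34) (Nat.ble 34 c)
noncomputable def Atab_s_36_38 (c : Nat) : Nat := @Bool.rec (fun _ => Nat) (Atab_36) (Atab_37) (Nat.ble 37 c)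
noncomputable def Atab_s_35_38 (c : Nat) : Nat := @Bool.rec (fun _ => Nat) (Atab_35) (Atab_s_36_38 c) (Nat.ble 36 c)
noncomputable def Atab_s_33_38 (c : Nat) : Nat := @Bool.rec (fun _ => Nat) (Atab_s_33_35 c) (Atab_s_35_38 c) (Nat.ble 35 c)
noncomputable def Atab_s_39_41 (c : Nat) : Nat := @Bool.rec (fun _ => Nat) (Atab_39) (Atab_40) (Nat.ble 40 c)
noncomputable def Atab_s_38_41 (c : Nat) : Nat := @Bool.rec (fun _ => Nat) (Atab_38) (Atab_s_39_41 c) (Nat.ble 39 c)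
noncomputable def Atab_s_42_44 (c : Nat) : Nat := @Bool.rec (fun _ => Nat) (Atab_42) (Atab_43) (Nat.ble 43 c)
noncomputable def Atab_s_41_44 (c : Nat) : Nat := @Bool.rec (fun _ => Nat) (Atab_41) (Atab_s_42_44 c) (Nat.ble 42 c)
noncomputable def Atab_s_38_44 (c : Nat) : Nat := @Bool.rec (fun _ => Nat) (Atab_s_38_41 c) (Atab_s_41_44 c) (Nat.ble 41 c)
noncomputable def Atab_s_33_44 (c : Nat) : Nat := @Bool.rec (fun _ => Nat) (Atab_s_33_38 c) (Atab_s_38_44 c) (Nat.ble 38 c)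
noncomputable def Atab_s_22_44 (c : Nat) : Nat := @Bool.rec (fun _ => Nat) (Atab_s_22_33 c) (Atab_s_33_44 c) (Nat.ble 33 c)
noncomputable def Atab_s_0_44 (c : Nat) : Nat := @Bool.rec (fun _ => Nat) (Atab_s_0_22 c) (Atab_s_22_44 c) (Nat.ble 22 c)
noncomputable def Atab_s_44_46 (c : Nat) : Nat := @Bool.rec (fun _ => Nat) (Atab_44) (Atab_45) (Nat.ble 45 c)
noncomputable def Atab_s_47_49 (c : Nat) : Nat := @Bool.rec (fun _ => Nat) (Atab_47) (Atab_48) (Nat.ble 48 c)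
noncomputable def Atab_s_46_49 (c : Nat) : Nat := @Bool.rec (fun _ => Nat) (Atab_46) (Atab_s_47_49 c) (Nat.ble 47 c)
noncomputable def Atab_s_44_49 (c : Nat) : Nat := @Bool.rec (fun _ => Nat) (Atab_s_44_46 c) (Atab_s_46_49 c) (Nat.ble 46 c)
noncomputable def Atab_s_50_52 (c : Nat) : Nat := @Bool.rec (fun _ => Nat) (Atab_50) (Atab_51) (Nat.ble 51 c)
noncomputable def Atab_s_49_52 (c : Nat) : Nat := @Bool.rec (fun _ => Nat) (Atab_49) (Atab_s_50_52 c) (Nat.ble 50 c)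
noncomputable def Atab_s_53_55 (c : Nat) : Nat := @Bool.rec (fun _ => Nat) (Atab_53) (Atab_54) (Nat.ble 54 c)
noncomputable def Atab_s_52_55 (c : Nat) : Nat := @Bool.rec (fun _ => Nat) (Atab_52) (Atab_s_53_55 c) (Nat.ble 53 c)
noncomputable def Atab_s_49_55 (c : Nat) : Nat := @Bool.rec (fun _ => Nat) (Atab_s_49_52 c) (Atab_s_52_55 c) (Nat.ble 52 c)
noncomputable def Atab_s_44_55 (c : Nat) : Nat := @Bool.rec (fun _ => Nat) (Atab_s_44_49 c) (Atab_s_49_55 c) (Nat.ble 49 c)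
noncomputable def Atab_s_55_57 (c : Nat) : Nat := @Bool.rec (fun _ => Nat) (Atab_55) (Atab_56) (Nat.ble 56 c)
noncomputable def Atab_s_58_60 (c : Nat) : Nat := @Bool.rec (fun _ => Nat) (Atab_58) (Atab_59) (Nat.ble 59 c)
noncomputable def Atab_s_57_60 (c : Nat) : Nat := @Bool.rec (fun _ => Nat) (Atab_57) (Atab_s_58_60 c) (Nat.ble 58 c)
noncomputable def Atab_s_55_60 (c : Nat) : Nat := @Bool.rec (fun _ => Nat) (Atab_s_55_57 c) (Atab_s_57_60 c) (Nat.ble 57 c)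
noncomputable def Atab_s_61_63 (c : Nat) : Nat := @Bool.rec (fun _ => Nat) (Atab_61) (Atab_62) (Nat.ble 62 c)
noncomputable def Atab_s_60_63 (c : Nat) : Nat := @Bool.rec (fun _ => Nat) (Atab_60) (Atab_s_61_63 c) (Nat.ble 61 c)
noncomputable def Atab_s_64_66 (c : Nat) : Nat := @Bool.rec (fun _ => Nat) (Atab_64) (Atab_65) (Nat.ble 65 c)
noncomputable def Atab_s_63_66 (c : Nat) : Nat := @Bool.rec (fun _ => Nat) (Atab_63) (Atab_s_64_66 c) (Nat.ble 64 c)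
noncomputable def Atab_s_60_66 (c : Nat) : Nat := @Bool.rec (fun _ => Nat) (Atab_s_60_63 c) (Atab_s_63_66 c) (Nat.ble 63 c)
noncomputable def Atab_s_55_66 (c : Nat) : Nat := @Bool.rec (fun _ => Nat) (Atab_s_55_60 c) (Atab_s_60_66 c) (Nat.ble 60 c)
noncomputable def Atab_s_44_66 (c : Nat) : Nat := @Bool.rec (fun _ => Nat) (Atab_s_44_55 c) (Atab_s_55_66 c) (Nat.ble 55 c)
noncomputable def Atab_s_66_68 (c : Nat) : Nat := @Bool.rec (fun _ => Nat) (Atab_66) (Atab_67) (Nat.ble 67 c)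
noncomputable def Atab_s_69_71 (c : Nat) : Nat := @Bool.rec (fun _ => Nat) (Atab_69) (Atab_70) (Nat.ble 70 c)
noncomputable def Atab_s_68_71 (c : Nat) : Nat := @Bool.rec (fun _ => Nat) (Atab_68) (Atab_s_69_71 c) (Nat.ble 69 c)
noncomputable def Atab_s_66_71 (c : Nat) : Nat := @Bool.rec (fun _ => Nat) (Atab_s_66_68 c) (Atab_s_68_71 c) (Nat.ble 68 c)
noncomputable def Atab_s_72_74 (c : Nat) : Nat := @Bool.rec (fun _ => Nat) (Atab_72) (Atab_73) (Nat.ble 73 c)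
noncomputable def Atab_s_71_74 (c : Nat) : Nat := @Bool.rec (fun _ => Nat) (Atab_71) (Atab_s_72_74 c) (Nat.ble 72 c)
noncomputable def Atab_s_75_77 (c : Nat) : Nat := @Bool.rec (fun _ => Nat) (Atab_75) (Atab_76) (Nat.ble 76 c)
noncomputable def Atab_s_74_77 (c : Nat) : Nat := @Bool.rec (fun _ => Nat) (Atab_74) (Atab_s_75_77 c) (Nat.ble 75 c)
noncomputable def Atab_s_71_77 (c : Nat) : Nat := @Bool.rec (fun _ => Nat) (Atab_s_71_74 c) (Atab_s_74_77 c) (Nat.ble 74 c)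
noncomputable def Atab_s_66_77 (c : Nat) : Nat := @Bool.rec (fun _ => Nat) (Atab_s_66_71 c) (Atab_s_71_77 c) (Nat.ble 71 c)
noncomputable def Atab_s_78_80 (c : Nat) : Nat := @Bool.rec (fun _ => Nat) (Atab_78) (Atab_79) (Nat.ble 79 c)
noncomputable def Atab_s_77_80 (c : Nat) : Nat := @Bool.rec (fun _ => Nat) (Atab_77) (Atab_s_78_80 c) (Nat.ble 78 c)
noncomputable def Atab_s_81_83 (c : Nat) : Nat := @Bool.rec (fun _ => Nat) (Atab_81) (Atab_82) (Nat.ble 82 c)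
noncomputable def Atab_s_80_83 (c : Nat) : Nat := @Bool.rec (fun _ => Nat) (Atab_80) (Atab_s_81_83 c) (Nat.ble 81 c)
noncomputable def Atab_s_77_83 (c : Nat) : Nat := @Bool.rec (fun _ => Nat) (Atab_s_77_80 c) (Atab_s_80_83 c) (Nat.ble 80 c)
noncomputable def Atab_s_84_86 (c : Nat) : Nat := @Bool.rec (fun _ => Nat) (Atab_84) (Atab_85) (Nat.ble 85 c)
noncomputable def Atab_s_83_86 (c : Nat) : Nat := @Bool.rec (fun _ => Nat) (Atab_83) (Atab_s_84_86 c) (Nat.ble 84 c)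
noncomputable def Atab_s_87_89 (c : Nat) : Nat := @Bool.rec (fun _ => Nat) (Atab_87) (Atab_88) (Nat.ble 88 c)
noncomputable def Atab_s_86_89 (c : Nat) : Nat := @Bool.rec (fun _ => Nat) (Atab_86) (Atab_s_87_89 c) (Nat.ble 87 c)
noncomputable def Atab_s_83_89 (c : Nat) : Nat := @Bool.rec (fun _ => Nat) (Atab_s_83_86 c) (Atab_s_86_89 c) (Nat.ble 86 c)
noncomputable def Atab_s_77_89 (c : Nat) : Nat := @Bool.rec (fun _ => Nat) (Atab_s_77_83 c) (Atab_s_83_89 c) (Nat.ble 83 c)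
noncomputable def Atab_s_66_89 (c : Nat) : Nat := @Bool.rec (fun _ => Nat) (Atab_s_66_77 c) (Atab_s_77_89 c) (Nat.ble 77 c)
noncomputable def Atab_s_44_89 (c : Nat) : Nat := @Bool.rec (fun _ => Nat) (Atab_s_44_66 c) (Atab_s_66_89 c) (Nat.ble 66 c)
noncomputable def Atab_s_0_89 (c : Nat) : Nat := @Bool.rec (fun _ => Nat) (Atab_s_0_44 c) (Atab_s_44_89 c) (Nat.ble 44 c)
noncomputable def Atab_s_89_91 (c : Nat) : Nat := @Bool.rec (fun _ => Nat) (Atab_89) (Atab_90) (Nat.ble 90 c)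
noncomputable def Atab_s_92_94 (c : Nat) : Nat := @Bool.rec (fun _ => Nat) (Atab_92) (Atab_93) (Nat.ble 93 c)
noncomputable def Atab_s_91_94 (c : Nat) : Nat := @Bool.rec (fun _ => Nat) (Atab_91) (Atab_s_92_94 c) (Nat.ble 92 c)
noncomputable def Atab_s_89_94 (c : Nat) : Nat := @Bool.rec (fun _ => Nat) (Atab_s_89_91 c) (Atab_s_91_94 c) (Nat.ble 91 c)
noncomputable def Atab_s_95_97 (c : Nat) : Nat := @Bool.rec (fun _ => Nat) (Atab_95) (Atab_96) (Nat.ble 96 c)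
noncomputable def Atab_s_94_97 (c : Nat) : Nat := @Bool.rec (fun _ => Nat) (Atab_94) (Atab_s_95_97 c) (Nat.ble 95 c)
noncomputable def Atab_s_98_100 (c : Nat) : Nat := @Bool.rec (fun _ => Nat) (Atab_98) (Atab_99) (Nat.ble 99 c)
noncomputable def Atab_s_97_100 (c : Nat) : Nat := @Bool.rec (fun _ => Nat) (Atab_97) (Atab_s_98_100 c) (Nat.ble 98 c)
noncomputable def Atab_s_94_100 (c : Nat) : Nat := @Bool.rec (fun _ => Nat) (Atab_s_94_97 c) (Atab_s_97_100 c) (Nat.ble 97 c)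
noncomputable def Atab_s_89_100 (c : Nat) : Nat := @Bool.rec (fun _ => Nat) (Atab_s_89_94 c) (Atab_s_94_100 c) (Nat.ble 94 c)
noncomputable def Atab_s_100_102 (c : Nat) : Nat := @Bool.rec (fun _ => Nat) (Atab_100) (Atab_101) (Nat.ble 101 c)
noncomputable def Atab_s_103_105 (c : Nat) : Nat := @Bool.rec (fun _ => Nat) (Atab_103) (Atab_104) (Nat.ble 104 c)
noncomputable def Atab_s_102_105 (c : Nat) : Nat := @Bool.rec (fun _ => Nat) (Atab_102) (Atab_s_103_105 c) (Nat.ble 103 c)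
noncomputable def Atab_s_100_105 (c : Nat) : Nat := @Bool.rec (fun _ => Nat) (Atab_s_100_102 c) (Atab_s_102_105 c) (Nat.ble 102 c)
noncomputable def Atab_s_106_108 (c : Nat) : Nat := @Bool.rec (fun _ => Nat) (Atab_106) (Atab_107) (Nat.ble 107 c)
noncomputable def Atab_s_105_108 (c : Nat) : Nat := @Bool.rec (fun _ => Nat) (Atab_105) (Atab_s_106_108 c) (Nat.ble 106 c)
noncomputable def Atab_s_109_111 (c : Nat) : Nat := @Bool.rec (fun _ => Nat) (Atab_109) (Atab_110) (Nat.ble 110 c)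
noncomputable def Atab_s_108_111 (c : Nat) : Nat := @Bool.rec (fun _ => Nat) (Atab_108) (Atab_s_109_111 c) (Nat.ble 109 c)
noncomputable def Atab_s_105_111 (c : Nat) : Nat := @Bool.rec (fun _ => Nat) (Atab_s_105_108 c) (Atab_s_108_111 c) (Nat.ble 108 c)
noncomputable def Atab_s_100_111 (c : Nat) : Nat := @Bool.rec (fun _ => Nat) (Atab_s_100_105 c) (Atab_s_105_111 c) (Nat.ble 105 c)
noncomputable def Atab_s_89_111 (c : Nat) : Nat := @Bool.rec (fun _ => Nat) (Atab_s_89_100 c) (Atab_s_100_111 c) (Nat.ble 100 c)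
noncomputable def Atab_s_111_113 (c : Nat) : Nat := @Bool.rec (fun _ => Nat) (Atab_111) (Atab_112) (Nat.ble 112 c)
noncomputable def Atab_s_114_116 (c : Nat) : Nat := @Bool.rec (fun _ => Nat) (Atab_114) (Atab_115) (Nat.ble 115 c)
noncomputable def Atab_s_113_116 (c : Nat) : Nat := @Bool.rec (fun _ => Nat) (Atab_113) (Atab_s_114_116 c) (Nat.ble 114 c)
noncomputable def Atab_s_111_116 (c : Nat) : Nat := @Bool.rec (fun _ => Nat) (Atab_s_111_113 c) (Atab_s_113_116 c) (Nat.ble 113 c)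
noncomputable def Atab_s_117_119 (c : Nat) : Nat := @Bool.rec (fun _ => Nat) (Atab_117) (Atab_118) (Nat.ble 118 c)
noncomputable def Atab_s_116_119 (c : Nat) : Nat := @Bool.rec (fun _ => Nat) (Atab_116) (Atab_s_117_119 c) (Nat.ble 117 c)
noncomputable def Atab_s_120_122 (c : Nat) : Nat := @Bool.rec (fun _ => Nat) (Atab_120) (Atab_121) (Nat.ble 121 c)
noncomputable def Atab_s_119_122 (c : Nat) : Nat := @Bool.rec (fun _ => Nat) (Atab_119) (Atab_s_120_122 c) (Nat.ble 120 c)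
noncomputable def Atab_s_116_122 (c : Nat) : Nat := @Bool.rec (fun _ => Nat) (Atab_s_116_119 c) (Atab_s_119_122 c) (Nat.ble 119 c)
noncomputable def Atab_s_111_122 (c : Nat) : Nat := @Bool.rec (fun _ => Nat) (Atab_s_111_116 c) (Atab_s_116_122 c) (Nat.ble 116 c)
noncomputable def Atab_s_123_125 (c : Nat) : Nat := @Bool.rec (fun _ => Nat) (Atab_123) (Atab_124) (Nat.ble 124 c)
noncomputable def Atab_s_122_125 (c : Nat) : Nat := @Bool.rec (fun _ => Nat) (Atab_122) (Atab_s_123_125 c) (Nat.ble 123 c)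
noncomputable def Atab_s_126_128 (c : Nat) : Nat := @Bool.rec (fun _ => Nat) (Atab_126) (Atab_127) (Nat.ble 127 c)
noncomputable def Atab_s_125_128 (c : Nat) : Nat := @Bool.rec (fun _ => Nat) (Atab_125) (Atab_s_126_128 c) (Nat.ble 126 c)
noncomputable def Atab_s_122_128 (c : Nat) : Nat := @Bool.rec (fun _ => Nat) (Atab_s_122_125 c) (Atab_s_125_128 c) (Nat.ble 125 c)
noncomputable def Atab_s_129_131 (c : Nat) : Nat := @Bool.rec (fun _ => Nat) (Atab_129) (Atab_130) (Nat.ble 130 c)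
noncomputable def Atab_s_128_131 (c : Nat) : Nat := @Bool.rec (fun _ => Nat) (Atab_128) (Atab_s_129_131 c) (Nat.ble 129 c)
noncomputable def Atab_s_132_134 (c : Nat) : Nat := @Bool.rec (fun _ => Nat) (Atab_132) (Atab_133) (Nat.ble 133 c)
noncomputable def Atab_s_131_134 (c : Nat) : Nat := @Bool.rec (fun _ => Nat) (Atab_131) (Atab_s_132_134 c) (Nat.ble 132 c)
noncomputable def Atab_s_128_134 (c : Nat) : Nat := @Bool.rec (fun _ => Nat) (Atab_s_128_131 c) (Atab_s_131_134 c) (Nat.ble 131 c)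
noncomputable def Atab_s_122_134 (c : Nat) : Nat := @Bool.rec (fun _ => Nat) (Atab_s_122_128 c) (Atab_s_128_134 c) (Nat.ble 128 c)
noncomputable def Atab_s_111_134 (c : Nat) : Nat := @Bool.rec (fun _ => Nat) (Atab_s_111_122 c) (Atab_s_122_134 c) (Nat.ble 122 c)
noncomputable def Atab_s_89_134 (c : Nat) : Nat := @Bool.rec (fun _ => Nat) (Atab_s_89_111 c) (Atab_s_111_134 c) (Nat.ble 111 c)
noncomputable def Atab_s_134_136 (c : Nat) : Nat := @Bool.rec (fun _ => Nat) (Atab_134) (Atab_135) (Nat.ble 135 c)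
noncomputable def Atab_s_137_139 (c : Nat) : Nat := @Bool.rec (fun _ => Nat) (Atab_137) (Atab_138) (Nat.ble 138 c)
noncomputable def Atab_s_136_139 (c : Nat) : Nat := @Bool.rec (fun _ => Nat) (Atab_136) (Atab_s_137_139 c) (Nat.ble 137 c)
noncomputable def Atab_s_134_139 (c : Nat) : Nat := @Bool.rec (fun _ => Nat) (Atab_s_134_136 c) (Atab_s_136_139 c) (Nat.ble 136 c)
noncomputable def Atab_s_140_142 (c : Nat) : Nat := @Bool.rec (fun _ => Nat) (Atab_140) (Atab_141) (Nat.ble 141 c)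
noncomputable def Atab_s_139_142 (c : Nat) : Nat := @Bool.rec (fun _ => Nat) (Atab_139) (Atab_s_140_142 c) (Nat.ble 140 c)
noncomputable def Atab_s_143_145 (c : Nat) : Nat := @Bool.rec (fun _ => Nat) (Atab_143) (Atab_144) (Nat.ble 144 c)
noncomputable def Atab_s_142_145 (c : Nat) : Nat := @Bool.rec (fun _ => Nat) (Atab_142) (Atab_s_143_145 c) (Nat.ble 143 c)
noncomputable def Atab_s_139_145 (c : Nat) : Nat := @Bool.rec (fun _ => Nat) (Atab_s_139_142 c) (Atab_s_142_145 c) (Nat.ble 142 c)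
noncomputable def Atab_s_134_145 (c : Nat) : Nat := @Bool.rec (fun _ => Nat) (Atab_s_134_139 c) (Atab_s_139_145 c) (Nat.ble 139 c)
noncomputable def Atab_s_145_147 (c : Nat) : Nat := @Bool.rec (fun _ => Nat) (Atab_145) (Atab_146) (Nat.ble 146 c)
noncomputable def Atab_s_148_150 (c : Nat) : Nat := @Bool.rec (fun _ => Nat) (Atab_148) (Atab_149) (Nat.ble 149 c)
noncomputable def Atab_s_147_150 (c : Nat) : Nat := @Bool.rec (fun _ => Nat) (Atab_147) (Atab_s_148_150 c) (Nat.ble 148 c)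
noncomputable def Atab_s_145_150 (c : Nat) : Nat := @Bool.rec (fun _ => Nat) (Atab_s_145_147 c) (Atab_s_147_150 c) (Nat.ble 147 c)
noncomputable def Atab_s_151_153 (c : Nat) : Nat := @Bool.rec (fun _ => Nat) (Atab_151) (Atab_152) (Nat.ble 152 c)
noncomputable def Atab_s_150_153 (c : Nat) : Nat := @Bool.rec (fun _ => Nat) (Atab_150) (Atab_s_151_153 c) (Nat.ble 151 c)
noncomputable def Atab_s_154_156 (c : Nat) : Nat := @Bool.rec (fun _ => Nat) (Atab_154) (Atab_155) (Nat.ble 155 c)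
noncomputable def Atab_s_153_156 (c : Nat) : Nat := @Bool.rec (fun _ => Nat) (Atab_153) (Atab_s_154_156 c) (Nat.ble 154 c)
noncomputable def Atab_s_150_156 (c : Nat) : Nat := @Bool.rec (fun _ => Nat) (Atab_s_150_153 c) (Atab_s_153_156 c) (Nat.ble 153 c)
noncomputable def Atab_s_145_156 (c : Nat) : Nat := @Bool.rec (fun _ => Nat) (Atab_s_145_150 c) (Atab_s_150_156 c) (Nat.ble 150 c)
noncomputable def Atab_s_134_156 (c : Nat) : Nat := @Bool.rec (fun _ => Nat) (Atab_s_134_145 c) (Atab_s_145_156 c) (Nat.ble 145 c)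
noncomputable def Atab_s_156_158 (c : Nat) : Nat := @Bool.rec (fun _ => Nat) (Atab_156) (Atab_157) (Nat.ble 157 c)
noncomputable def Atab_s_159_161 (c : Nat) : Nat := @Bool.rec (fun _ => Nat) (Atab_159) (Atab_160) (Nat.ble 160 c)
noncomputable def Atab_s_158_161 (c : Nat) : Nat := @Bool.rec (fun _ => Nat) (Atab_158) (Atab_s_159_161 c) (Nat.ble 159 c)
noncomputable def Atab_s_156_161 (c : Nat) : Nat := @Bool.rec (fun _ => Nat) (Atab_s_156_158 c) (Atab_s_158_161 c) (Nat.ble 158 c)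
noncomputable def Atab_s_162_164 (c : Nat) : Nat := @Bool.rec (fun _ => Nat) (Atab_162) (Atab_163) (Nat.ble 163 c)
noncomputable def Atab_s_161_164 (c : Nat) : Nat := @Bool.rec (fun _ => Nat) (Atab_161) (Atab_s_162_164 c) (Nat.ble 162 c)
noncomputable def Atab_s_165_167 (c : Nat) : Nat := @Bool.rec (fun _ => Nat) (Atab_165) (Atab_166) (Nat.ble 166 c)
noncomputable def Atab_s_164_167 (c : Nat) : Nat := @Bool.rec (fun _ => Nat) (Atab_164) (Atab_s_165_167 c) (Nat.ble 165 c)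
noncomputable def Atab_s_161_167 (c : Nat) : Nat := @Bool.rec (fun _ => Nat) (Atab_s_161_164 c) (Atab_s_164_167 c) (Nat.ble 164 c)
noncomputable def Atab_s_156_167 (c : Nat) : Nat := @Bool.rec (fun _ => Nat) (Atab_s_156_161 c) (Atab_s_161_167 c) (Nat.ble 161 c)
noncomputable def Atab_s_168_170 (c : Nat) : Nat := @Bool.rec (fun _ => Nat) (Atab_168) (Atab_169) (Nat.ble 169 c)
noncomputable def Atab_s_167_170 (c : Nat) : Nat := @Bool.rec (fun _ => Nat) (Atab_167) (Atab_s_168_170 c) (Nat.ble 168 c)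
noncomputable def Atab_s_171_173 (c : Nat) : Nat := @Bool.rec (fun _ => Nat) (Atab_171) (Atab_172) (Nat.ble 172 c)
noncomputable def Atab_s_170_173 (c : Nat) : Nat := @Bool.rec (fun _ => Nat) (Atab_170) (Atab_s_171_173 c) (Nat.ble 171 c)
noncomputable def Atab_s_167_173 (c : Nat) : Nat := @Bool.rec (fun _ => Nat) (Atab_s_167_170 c) (Atab_s_170_173 c) (Nat.ble 170 c)
noncomputable def Atab_s_174_176 (c : Nat) : Nat := @Bool.rec (fun _ => Nat) (Atab_174) (Atab_175) (Nat.ble 175 c)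
noncomputable def Atab_s_173_176 (c : Nat) : Nat := @Bool.rec (fun _ => Nat) (Atab_173) (Atab_s_174_176 c) (Nat.ble 174 c)
noncomputable def Atab_s_177_179 (c : Nat) : Nat := @Bool.rec (fun _ => Nat) (Atab_177) (Atab_178) (Nat.ble 178 c)
noncomputable def Atab_s_176_179 (c : Nat) : Nat := @Bool.rec (fun _ => Nat) (Atab_176) (Atab_s_177_179 c) (Nat.ble 177 c)
noncomputable def Atab_s_173_179 (c : Nat) : Nat := @Bool.rec (fun _ => Nat) (Atab_s_173_176 c) (Atab_s_176_179 c) (Nat.ble 176 c)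
noncomputable def Atab_s_167_179 (c : Nat) : Nat := @Bool.rec (fun _ => Nat) (Atab_s_167_173 c) (Atab_s_173_179 c) (Nat.ble 173 c)
noncomputable def Atab_s_156_179 (c : Nat) : Nat := @Bool.rec (fun _ => Nat) (Atab_s_156_167 c) (Atab_s_167_179 c) (Nat.ble 167 c)
noncomputable def Atab_s_134_179 (c : Nat) : Nat := @Bool.rec (fun _ => Nat) (Atab_s_134_156 c) (Atab_s_156_179 c) (Nat.ble 156 c)
noncomputable def Atab_s_89_179 (c : Nat) : Nat := @Bool.rec (fun _ => Nat) (Atab_s_89_134 c) (Atab_s_134_179 c) (Nat.ble 134 c)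
noncomputable def Atab_s_0_179 (c : Nat) : Nat := @Bool.rec (fun _ => Nat) (Atab_s_0_89 c) (Atab_s_89_179 c) (Nat.ble 89 c)
noncomputable def Atab (i : Nat) : Nat := rdw 38 274877906943 (Atab_s_0_179 (Nat.shiftRight i 11)) (Nat.land i 2047)
noncomputable def Btab_s_1_3 (c : Nat) : Nat := @Bool.rec (fun _ => Nat) (Btab_1) (Btab_2) (Nat.ble 2 c)
noncomputable def Btab_s_0_3 (c : Nat) : Nat := @Bool.rec (fun _ => Nat) (Btab_0) (Btab_s_1_3 c) (Nat.ble 1 c)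
noncomputable def Btab_s_3_5 (c : Nat) : Nat := @Bool.rec (fun _ => Nat) (Btab_3) (Btab_4) (Nat.ble 4 c)
noncomputable def Btab_s_5_7 (c : Nat) : Nat := @Bool.rec (fun _ => Nat) (Btab_5) (Btab_6) (Nat.ble 6 c)
noncomputable def Btab_s_3_7 (c : Nat) : Nat := @Bool.rec (fun _ => Nat) (Btab_s_3_5 c) (Btab_s_5_7 c) (Nat.ble 5 c)
noncomputable def Btab_s_0_7 (c : Nat) : Nat := @Bool.rec (fun _ => Nat) (Btab_s_0_3 c) (Btab_s_3_7 c) (Nat.ble 3 c)
noncomputable def Btab_s_7_9 (c : Nat) : Nat := @Bool.rec (fun _ => Nat) (Btab_7) (Btab_8) (Nat.ble 8 c)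
noncomputable def Btab_s_9_11 (c : Nat) : Nat := @Bool.rec (fun _ => Nat) (Btab_9) (Btab_10) (Nat.ble 10 c)
noncomputable def Btab_s_7_11 (c : Nat) : Nat := @Bool.rec (fun _ => Nat) (Btab_s_7_9 c) (Btab_s_9_11 c) (Nat.ble 9 c)
noncomputable def Btab_s_11_13 (c : Nat) : Nat := @Bool.rec (fun _ => Nat) (Btab_11) (Btab_12) (Nat.ble 12 c)
noncomputable def Btab_s_13_15 (c : Nat) : Nat := @Bool.rec (fun _ => Nat) (Btab_13) (Btab_14) (Nat.ble 14 c)
noncomputable def Btab_s_11_15 (c : Nat) : Nat := @Bool.rec (fun _ => Nat) (Btab_s_11_13 c) (Btab_s_13_15 c) (Nat.ble 13 c)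
noncomputable def Btab_s_7_15 (c : Nat) : Nat := @Bool.rec (fun _ => Nat) (Btab_s_7_11 c) (Btab_s_11_15 c) (Nat.ble 11 c)
noncomputable def Btab_s_0_15 (c : Nat) : Nat := @Bool.rec (fun _ => Nat) (Btab_s_0_7 c) (Btab_s_7_15 c) (Nat.ble 7 c)
noncomputable def Btab_s_16_18 (c : Nat) : Nat := @Bool.rec (fun _ => Nat) (Btab_16) (Btab_17) (Nat.ble 17 c)
noncomputable def Btab_s_15_18 (c : Nat) : Nat := @Bool.rec (fun _ => Nat) (Btab_15) (Btab_s_16_18 c) (Nat.ble 16 c)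
noncomputable def Btab_s_18_20 (c : Nat) : Nat := @Bool.rec (fun _ => Nat) (Btab_18) (Btab_19) (Nat.ble 19 c)
noncomputable def Btab_s_20_22 (c : Nat) : Nat := @Bool.rec (fun _ => Nat) (Btab_20) (Btab_21) (Nat.ble 21 c)
noncomputable def Btab_s_18_22 (c : Nat) : Nat := @Bool.rec (fun _ => Nat) (Btab_s_18_20 c) (Btab_s_20_22 c) (Nat.ble 20 c)
noncomputable def Btab_s_15_22 (c : Nat) : Nat := @Bool.rec (fun _ => Nat) (Btab_s_15_18 c) (Btab_s_18_22 c) (Nat.ble 18 c)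
noncomputable def Btab_s_22_24 (c : Nat) : Nat := @Bool.rec (fun _ => Nat) (Btab_22) (Btab_23) (Nat.ble 23 c)
noncomputable def Btab_s_24_26 (c : Nat) : Nat := @Bool.rec (fun _ => Nat) (Btab_24) (Btab_25) (Nat.ble 25 c)
noncomputable def Btab_s_22_26 (c : Nat) : Nat := @Bool.rec (fun _ => Nat) (Btab_s_22_24 c) (Btab_s_24_26 c) (Nat.ble 24 c)
noncomputable def Btab_s_26_28 (c : Nat) : Nat := @Bool.rec (fun _ => Nat) (Btab_26) (Btab_27) (Nat.ble 27 c)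
noncomputable def Btab_s_28_30 (c : Nat) : Nat := @Bool.rec (fun _ => Nat) (Btab_28) (Btab_29) (Nat.ble 29 c)
noncomputable def Btab_s_26_30 (c : Nat) : Nat := @Bool.rec (fun _ => Nat) (Btab_s_26_28 c) (Btab_s_28_30 c) (Nat.ble 28 c)
noncomputable def Btab_s_22_30 (c : Nat) : Nat := @Bool.rec (fun _ => Nat) (Btab_s_22_26 c) (Btab_s_26_30 c) (Nat.ble 26 c)
noncomputable def Btab_s_15_30 (c : Nat) : Nat := @Bool.rec (fun _ => Nat) (Btab_s_15_22 c) (Btab_s_22_30 c) (Nat.ble 22 c)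
noncomputable def Btab_s_0_30 (c : Nat) : Nat := @Bool.rec (fun _ => Nat) (Btab_s_0_15 c) (Btab_s_15_30 c) (Nat.ble 15 c)
noncomputable def Btab_s_31_33 (c : Nat) : Nat := @Bool.rec (fun _ => Nat) (Btab_31) (Btab_32) (Nat.ble 32 c)
noncomputable def Btab_s_30_33 (c : Nat) : Nat := @Bool.rec (fun _ => Nat) (Btab_30) (Btab_s_31_33 c) (Nat.ble 31 c)
noncomputable def Btab_s_33_35 (c : Nat) : Nat := @Bool.rec (fun _ => Nat) (Btab_33) (Btab_34) (Nat.ble 34 c)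
noncomputable def Btab_s_35_37 (c : Nat) : Nat := @Bool.rec (fun _ => Nat) (Btab_35) (Btab_36) (Nat.ble 36 c)
noncomputable def Btab_s_33_37 (c : Nat) : Nat := @Bool.rec (fun _ => Nat) (Btab_s_33_35 c) (Btab_s_35_37 c) (Nat.ble 35 c)
noncomputable def Btab_s_30_37 (c : Nat) : Nat := @Bool.rec (fun _ => Nat) (Btab_s_30_33 c) (Btab_s_33_37 c) (Nat.ble 33 c)
noncomputable def Btab_s_37_39 (c : Nat) : Nat := @Bool.rec (fun _ => Nat) (Btab_37) (Btab_38) (Nat.ble 38 c)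
noncomputable def Btab_s_39_41 (c : Nat) : Nat := @Bool.rec (fun _ => Nat) (Btab_39) (Btab_40) (Nat.ble 40 c)
noncomputable def Btab_s_37_41 (c : Nat) : Nat := @Bool.rec (fun _ => Nat) (Btab_s_37_39 c) (Btab_s_39_41 c) (Nat.ble 39 c)
noncomputable def Btab_s_41_43 (c : Nat) : Nat := @Bool.rec (fun _ => Nat) (Btab_41) (Btab_42) (Nat.ble 42 c)
noncomputable def Btab_s_43_45 (c : Nat) : Nat := @Bool.rec (fun _ => Nat) (Btab_43) (Btab_44) (Nat.ble 44 c)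
noncomputable def Btab_s_41_45 (c : Nat) : Nat := @Bool.rec (fun _ => Nat) (Btab_s_41_43 c) (Btab_s_43_45 c) (Nat.ble 43 c)
noncomputable def Btab_s_37_45 (c : Nat) : Nat := @Bool.rec (fun _ => Nat) (Btab_s_37_41 c) (Btab_s_41_45 c) (Nat.ble 41 c)
noncomputable def Btab_s_30_45 (c : Nat) : Nat := @Bool.rec (fun _ => Nat) (Btab_s_30_37 c) (Btab_s_37_45 c) (Nat.ble 37 c)
noncomputable def Btab_s_45_47 (c : Nat) : Nat := @Bool.rec (fun _ => Nat) (Btab_45) (Btab_46) (Nat.ble 46 c)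
noncomputable def Btab_s_47_49 (c : Nat) : Nat := @Bool.rec (fun _ => Nat) (Btab_47) (Btab_48) (Nat.ble 48 c)
noncomputable def Btab_s_45_49 (c : Nat) : Nat := @Bool.rec (fun _ => Nat) (Btab_s_45_47 c) (Btab_s_47_49 c) (Nat.ble 47 c)
noncomputable def Btab_s_49_51 (c : Nat) : Nat := @Bool.rec (fun _ => Nat) (Btab_49) (Btab_50) (Nat.ble 50 c)
noncomputable def Btab_s_51_53 (c : Nat) : Nat := @Bool.rec (fun _ => Nat) (Btab_51) (Btab_52) (Nat.ble 52 c)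
noncomputable def Btab_s_49_53 (c : Nat) : Nat := @Bool.rec (fun _ => Nat) (Btab_s_49_51 c) (Btab_s_51_53 c) (Nat.ble 51 c)
noncomputable def Btab_s_45_53 (c : Nat) : Nat := @Bool.rec (fun _ => Nat) (Btab_s_45_49 c) (Btab_s_49_53 c) (Nat.ble 49 c)
noncomputable def Btab_s_53_55 (c : Nat) : Nat := @Bool.rec (fun _ => Nat) (Btab_53) (Btab_54) (Nat.ble 54 c)
noncomputable def Btab_s_55_57 (c : Nat) : Nat := @Bool.rec (fun _ => Nat) (Btab_55) (Btab_56) (Nat.ble 56 c)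
noncomputable def Btab_s_53_57 (c : Nat) : Nat := @Bool.rec (fun _ => Nat) (Btab_s_53_55 c) (Btab_s_55_57 c) (Nat.ble 55 c)
noncomputable def Btab_s_57_59 (c : Nat) : Nat := @Bool.rec (fun _ => Nat) (Btab_57) (Btab_58) (Nat.ble 58 c)
noncomputable def Btab_s_59_61 (c : Nat) : Nat := @Bool.rec (fun _ => Nat) (Btab_59) (Btab_60) (Nat.ble 60 c)
noncomputable def Btab_s_57_61 (c : Nat) : Nat := @Bool.rec (fun _ => Nat) (Btab_s_57_59 c) (Btab_s_59_61 c) (Nat.ble 59 c)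
noncomputable def Btab_s_53_61 (c : Nat) : Nat := @Bool.rec (fun _ => Nat) (Btab_s_53_57 c) (Btab_s_57_61 c) (Nat.ble 57 c)
noncomputable def Btab_s_45_61 (c : Nat) : Nat := @Bool.rec (fun _ => Nat) (Btab_s_45_53 c) (Btab_s_53_61 c) (Nat.ble 53 c)
noncomputable def Btab_s_30_61 (c : Nat) : Nat := @Bool.rec (fun _ => Nat) (Btab_s_30_45 c) (Btab_s_45_61 c) (Nat.ble 45 c)
noncomputable def Btab_s_0_61 (c : Nat) : Nat := @Bool.rec (fun _ => Nat) (Btab_s_0_30 c) (Btab_s_30_61 c) (Nat.ble 30 c)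
noncomputable def Btab_s_62_64 (c : Nat) : Nat := @Bool.rec (fun _ => Nat) (Btab_62) (Btab_63) (Nat.ble 63 c)
noncomputable def Btab_s_61_64 (c : Nat) : Nat := @Bool.rec (fun _ => Nat) (Btab_61) (Btab_s_62_64 c) (Nat.ble 62 c)
noncomputable def Btab_s_64_66 (c : Nat) : Nat := @Bool.rec (fun _ => Nat) (Btab_64) (Btab_65) (Nat.ble 65 c)
noncomputable def Btab_s_66_68 (c : Nat) : Nat := @Bool.rec (fun _ => Nat) (Btab_66) (Btab_67) (Nat.ble 67 c)
noncomputable def Btab_s_64_68 (c : Nat) : Nat := @Bool.rec (fun _ => Nat) (Btab_s_64_66 c) (Btab_s_66_68 c) (Nat.ble 66 c)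
noncomputable def Btab_s_61_68 (c : Nat) : Nat := @Bool.rec (fun _ => Nat) (Btab_s_61_64 c) (Btab_s_64_68 c) (Nat.ble 64 c)
noncomputable def Btab_s_68_70 (c : Nat) : Nat := @Bool.rec (fun _ => Nat) (Btab_68) (Btab_69) (Nat.ble 69 c)
noncomputable def Btab_s_70_72 (c : Nat) : Nat := @Bool.rec (fun _ => Nat) (Btab_70) (Btab_71) (Nat.ble 71 c)
noncomputable def Btab_s_68_72 (c : Nat) : Nat := @Bool.rec (fun _ => Nat) (Btab_s_68_70 c) (Btab_s_70_72 c) (Nat.ble 70 c)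
noncomputable def Btab_s_72_74 (c : Nat) : Nat := @Bool.rec (fun _ => Nat) (Btab_72) (Btab_73) (Nat.ble 73 c)
noncomputable def Btab_s_74_76 (c : Nat) : Nat := @Bool.rec (fun _ => Nat) (Btab_74) (Btab_75) (Nat.ble 75 c)
noncomputable def Btab_s_72_76 (c : Nat) : Nat := @Bool.rec (fun _ => Nat) (Btab_s_72_74 c) (Btab_s_74_76 c) (Nat.ble 74 c)
noncomputable def Btab_s_68_76 (c : Nat) : Nat := @Bool.rec (fun _ => Nat) (Btab_s_68_72 c) (Btab_s_72_76 c) (Nat.ble 72 c)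
noncomputable def Btab_s_61_76 (c : Nat) : Nat := @Bool.rec (fun _ => Nat) (Btab_s_61_68 c) (Btab_s_68_76 c) (Nat.ble 68 c)
noncomputable def Btab_s_77_79 (c : Nat) : Nat := @Bool.rec (fun _ => Nat) (Btab_77) (Btab_78) (Nat.ble 78 c)
noncomputable def Btab_s_76_79 (c : Nat) : Nat := @Bool.rec (fun _ => Nat) (Btab_76) (Btab_s_77_79 c) (Nat.ble 77 c)
noncomputable def Btab_s_79_81 (c : Nat) : Nat := @Bool.rec (fun _ => Nat) (Btab_79) (Btab_80) (Nat.ble 80 c)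
noncomputable def Btab_s_81_83 (c : Nat) : Nat := @Bool.rec (fun _ => Nat) (Btab_81) (Btab_82) (Nat.ble 82 c)
noncomputable def Btab_s_79_83 (c : Nat) : Nat := @Bool.rec (fun _ => Nat) (Btab_s_79_81 c) (Btab_s_81_83 c) (Nat.ble 81 c)
noncomputable def Btab_s_76_83 (c : Nat) : Nat := @Bool.rec (fun _ => Nat) (Btab_s_76_79 c) (Btab_s_79_83 c) (Nat.ble 79 c)
noncomputable def Btab_s_83_85 (c : Nat) : Nat := @Bool.rec (fun _ => Nat) (Btab_83) (Btab_84) (Nat.ble 84 c)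
noncomputable def Btab_s_85_87 (c : Nat) : Nat := @Bool.rec (fun _ => Nat) (Btab_85) (Btab_86) (Nat.ble 86 c)
noncomputable def Btab_s_83_87 (c : Nat) : Nat := @Bool.rec (fun _ => Nat) (Btab_s_83_85 c) (Btab_s_85_87 c) (Nat.ble 85 c)
noncomputable def Btab_s_87_89 (c : Nat) : Nat := @Bool.rec (fun _ => Nat) (Btab_87) (Btab_88) (Nat.ble 88 c)
noncomputable def Btab_s_89_91 (c : Nat) : Nat := @Bool.rec (fun _ => Nat) (Btab_89) (Btab_90) (Nat.ble 90 c)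
noncomputable def Btab_s_87_91 (c : Nat) : Nat := @Bool.rec (fun _ => Nat) (Btab_s_87_89 c) (Btab_s_89_91 c) (Nat.ble 89 c)
noncomputable def Btab_s_83_91 (c : Nat) : Nat := @Bool.rec (fun _ => Nat) (Btab_s_83_87 c) (Btab_s_87_91 c) (Nat.ble 87 c)
noncomputable def Btab_s_76_91 (c : Nat) : Nat := @Bool.rec (fun _ => Nat) (Btab_s_76_83 c) (Btab_s_83_91 c) (Nat.ble 83 c)
noncomputable def Btab_s_61_91 (c : Nat) : Nat := @Bool.rec (fun _ => Nat) (Btab_s_61_76 c) (Btab_s_76_91 c) (Nat.ble 76 c)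
noncomputable def Btab_s_92_94 (c : Nat) : Nat := @Bool.rec (fun _ => Nat) (Btab_92) (Btab_93) (Nat.ble 93 c)
noncomputable def Btab_s_91_94 (c : Nat) : Nat := @Bool.rec (fun _ => Nat) (Btab_91) (Btab_s_92_94 c) (Nat.ble 92 c)
noncomputable def Btab_s_94_96 (c : Nat) : Nat := @Bool.rec (fun _ => Nat) (Btab_94) (Btab_95) (Nat.ble 95 c)
noncomputable def Btab_s_96_98 (c : Nat) : Nat := @Bool.rec (fun _ => Nat) (Btab_96) (Btab_97) (Nat.ble 97 c)
noncomputable def Btab_s_94_98 (c : Nat) : Nat := @Bool.rec (fun _ => Nat) (Btab_s_94_96 c) (Btab_s_96_98 c) (Nat.ble 96 c)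
noncomputable def Btab_s_91_98 (c : Nat) : Nat := @Bool.rec (fun _ => Nat) (Btab_s_91_94 c) (Btab_s_94_98 c) (Nat.ble 94 c)
noncomputable def Btab_s_98_100 (c : Nat) : Nat := @Bool.rec (fun _ => Nat) (Btab_98) (Btab_99) (Nat.ble 99 c)
noncomputable def Btab_s_100_102 (c : Nat) : Nat := @Bool.rec (fun _ => Nat) (Btab_100) (Btab_101) (Nat.ble 101 c)
noncomputable def Btab_s_98_102 (c : Nat) : Nat := @Bool.rec (fun _ => Nat) (Btab_s_98_100 c) (Btab_s_100_102 c) (Nat.ble 100 c)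
noncomputable def Btab_s_102_104 (c : Nat) : Nat := @Bool.rec (fun _ => Nat) (Btab_102) (Btab_103) (Nat.ble 103 c)
noncomputable def Btab_s_104_106 (c : Nat) : Nat := @Bool.rec (fun _ => Nat) (Btab_104) (Btab_105) (Nat.ble 105 c)
noncomputable def Btab_s_102_106 (c : Nat) : Nat := @Bool.rec (fun _ => Nat) (Btab_s_102_104 c) (Btab_s_104_106 c) (Nat.ble 104 c)
noncomputable def Btab_s_98_106 (c : Nat) : Nat := @Bool.rec (fun _ => Nat) (Btab_s_98_102 c) (Btab_s_102_106 c) (Nat.ble 102 c)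
noncomputable def Btab_s_91_106 (c : Nat) : Nat := @Bool.rec (fun _ => Nat) (Btab_s_91_98 c) (Btab_s_98_106 c) (Nat.ble 98 c)
noncomputable def Btab_s_106_108 (c : Nat) : Nat := @Bool.rec (fun _ => Nat) (Btab_106) (Btab_107) (Nat.ble 107 c)
noncomputable def Btab_s_108_110 (c : Nat) : Nat := @Bool.rec (fun _ => Nat) (Btab_108) (Btab_109) (Nat.ble 109 c)
noncomputable def Btab_s_106_110 (c : Nat) : Nat := @Bool.rec (fun _ => Nat) (Btab_s_106_108 c) (Btab_s_108_110 c) (Nat.ble 108 c)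
noncomputable def Btab_s_110_112 (c : Nat) : Nat := @Bool.rec (fun _ => Nat) (Btab_110) (Btab_111) (Nat.ble 111 c)
noncomputable def Btab_s_112_114 (c : Nat) : Nat := @Bool.rec (fun _ => Nat) (Btab_112) (Btab_113) (Nat.ble 113 c)
noncomputable def Btab_s_110_114 (c : Nat) : Nat := @Bool.rec (fun _ => Nat) (Btab_s_110_112 c) (Btab_s_112_114 c) (Nat.ble 112 c)
noncomputable def Btab_s_106_114 (c : Nat) : Nat := @Bool.rec (fun _ => Nat) (Btab_s_106_110 c) (Btab_s_110_114 c) (Nat.ble 110 c)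
noncomputable def Btab_s_114_116 (c : Nat) : Nat := @Bool.rec (fun _ => Nat) (Btab_114) (Btab_115) (Nat.ble 115 c)
noncomputable def Btab_s_116_118 (c : Nat) : Nat := @Bool.rec (fun _ => Nat) (Btab_116) (Btab_117) (Nat.ble 117 c)
noncomputable def Btab_s_114_118 (c : Nat) : Nat := @Bool.rec (fun _ => Nat) (Btab_s_114_116 c) (Btab_s_116_118 c) (Nat.ble 116 c)
noncomputable def Btab_s_118_120 (c : Nat) : Nat := @Bool.rec (fun _ => Nat) (Btab_118) (Btab_119) (Nat.ble 119 c)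
noncomputable def Btab_s_120_122 (c : Nat) : Nat := @Bool.rec (fun _ => Nat) (Btab_120) (Btab_121) (Nat.ble 121 c)
noncomputable def Btab_s_118_122 (c : Nat) : Nat := @Bool.rec (fun _ => Nat) (Btab_s_118_120 c) (Btab_s_120_122 c) (Nat.ble 120 c)
noncomputable def Btab_s_114_122 (c : Nat) : Nat := @Bool.rec (fun _ => Nat) (Btab_s_114_118 c) (Btab_s_118_122 c) (Nat.ble 118 c)
noncomputable def Btab_s_106_122 (c : Nat) : Nat := @Bool.rec (fun _ => Nat) (Btab_s_106_114 c) (Btab_s_114_122 c) (Nat.ble 114 c)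
noncomputable def Btab_s_91_122 (c : Nat) : Nat := @Bool.rec (fun _ => Nat) (Btab_s_91_106 c) (Btab_s_106_122 c) (Nat.ble 106 c)
noncomputable def Btab_s_61_122 (c : Nat) : Nat := @Bool.rec (fun _ => Nat) (Btab_s_61_91 c) (Btab_s_91_122 c) (Nat.ble 91 c)
noncomputable def Btab_s_0_122 (c : Nat) : Nat := @Bool.rec (fun _ => Nat) (Btab_s_0_61 c) (Btab_s_61_122 c) (Nat.ble 61 c)
noncomputable def Btab (i : Nat) : Nat := rdw 37 137438953471 (Btab_s_0_122 (Nat.shiftRight i 11)) (Nat.land i 2047)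
noncomputable def Ptab_s_1_3 (c : Nat) : Nat := @Bool.rec (fun _ => Nat) (Ptab_1) (Ptab_2) (Nat.ble 2 c)
noncomputable def Ptab_s_0_3 (c : Nat) : Nat := @Bool.rec (fun _ => Nat) (Ptab_0) (Ptab_s_1_3 c) (Nat.ble 1 c)
noncomputable def Ptab_s_4_6 (c : Nat) : Nat := @Bool.rec (fun _ => Nat) (Ptab_4) (Ptab_5) (Nat.ble 5 c)
noncomputable def Ptab_s_3_6 (c : Nat) : Nat := @Bool.rec (fun _ => Nat) (Ptab_3) (Ptab_s_4_6 c) (Nat.ble 4 c)
noncomputable def Ptab_s_0_6 (c : Nat) : Nat := @Bool.rec (fun _ => Nat) (Ptab_s_0_3 c) (Ptab_s_3_6 c) (Nat.ble 3 c)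
noncomputable def Ptab_s_7_9 (c : Nat) : Nat := @Bool.rec (fun _ => Nat) (Ptab_7) (Ptab_8) (Nat.ble 8 c)
noncomputable def Ptab_s_6_9 (c : Nat) : Nat := @Bool.rec (fun _ => Nat) (Ptab_6) (Ptab_s_7_9 c) (Nat.ble 7 c)
noncomputable def Ptab_s_10_12 (c : Nat) : Nat := @Bool.rec (fun _ => Nat) (Ptab_10) (Ptab_11) (Nat.ble 11 c)
noncomputable def Ptab_s_9_12 (c : Nat) : Nat := @Bool.rec (fun _ => Nat) (Ptab_9) (Ptab_s_10_12 c) (Nat.ble 10 c)
noncomputable def Ptab_s_6_12 (c : Nat) : Nat := @Bool.rec (fun _ => Nat) (Ptab_s_6_9 c) (Ptab_s_9_12 c) (Nat.ble 9 c)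
noncomputable def Ptab_s_0_12 (c : Nat) : Nat := @Bool.rec (fun _ => Nat) (Ptab_s_0_6 c) (Ptab_s_6_12 c) (Nat.ble 6 c)
noncomputable def Ptab_s_13_15 (c : Nat) : Nat := @Bool.rec (fun _ => Nat) (Ptab_13) (Ptab_14) (Nat.ble 14 c)
noncomputable def Ptab_s_12_15 (c : Nat) : Nat := @Bool.rec (fun _ => Nat) (Ptab_12) (Ptab_s_13_15 c) (Nat.ble 13 c)
noncomputable def Ptab_s_16_18 (c : Nat) : Nat := @Bool.rec (fun _ => Nat) (Ptab_16) (Ptab_17) (Nat.ble 17 c)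
noncomputable def Ptab_s_15_18 (c : Nat) : Nat := @Bool.rec (fun _ => Nat) (Ptab_15) (Ptab_s_16_18 c) (Nat.ble 16 c)
noncomputable def Ptab_s_12_18 (c : Nat) : Nat := @Bool.rec (fun _ => Nat) (Ptab_s_12_15 c) (Ptab_s_15_18 c) (Nat.ble 15 c)
noncomputable def Ptab_s_19_21 (c : Nat) : Nat := @Bool.rec (fun _ => Nat) (Ptab_19) (Ptab_20) (Nat.ble 20 c)
noncomputable def Ptab_s_18_21 (c : Nat) : Nat := @Bool.rec (fun _ => Nat) (Ptab_18) (Ptab_s_19_21 c) (Nat.ble 19 c)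
noncomputable def Ptab_s_22_24 (c : Nat) : Nat := @Bool.rec (fun _ => Nat) (Ptab_22) (Ptab_23) (Nat.ble 23 c)
noncomputable def Ptab_s_21_24 (c : Nat) : Nat := @Bool.rec (fun _ => Nat) (Ptab_21) (Ptab_s_22_24 c) (Nat.ble 22 c)
noncomputable def Ptab_s_18_24 (c : Nat) : Nat := @Bool.rec (fun _ => Nat) (Ptab_s_18_21 c) (Ptab_s_21_24 c) (Nat.ble 21 c)
noncomputable def Ptab_s_12_24 (c : Nat) : Nat := @Bool.rec (fun _ => Nat) (Ptab_s_12_18 c) (Ptab_s_18_24 c) (Nat.ble 18 c)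
noncomputable def Ptab_s_0_24 (c : Nat) : Nat := @Bool.rec (fun _ => Nat) (Ptab_s_0_12 c) (Ptab_s_12_24 c) (Nat.ble 12 c)
noncomputable def Ptab_s_25_27 (c : Nat) : Nat := @Bool.rec (fun _ => Nat) (Ptab_25) (Ptab_26) (Nat.ble 26 c)
noncomputable def Ptab_s_24_27 (c : Nat) : Nat := @Bool.rec (fun _ => Nat) (Ptab_24) (Ptab_s_25_27 c) (Nat.ble 25 c)
noncomputable def Ptab_s_28_30 (c : Nat) : Nat := @Bool.rec (fun _ => Nat) (Ptab_28) (Ptab_29) (Nat.ble 29 c)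
noncomputable def Ptab_s_27_30 (c : Nat) : Nat := @Bool.rec (fun _ => Nat) (Ptab_27) (Ptab_s_28_30 c) (Nat.ble 28 c)
noncomputable def Ptab_s_24_30 (c : Nat) : Nat := @Bool.rec (fun _ => Nat) (Ptab_s_24_27 c) (Ptab_s_27_30 c) (Nat.ble 27 c)
noncomputable def Ptab_s_31_33 (c : Nat) : Nat := @Bool.rec (fun _ => Nat) (Ptab_31) (Ptab_32) (Nat.ble 32 c)
noncomputable def Ptab_s_30_33 (c : Nat) : Nat := @Bool.rec (fun _ => Nat) (Ptab_30) (Ptab_s_31_33 c) (Nat.ble 31 c)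
noncomputable def Ptab_s_34_36 (c : Nat) : Nat := @Bool.rec (fun _ => Nat) (Ptab_34) (Ptab_35) (Nat.ble 35 c)
noncomputable def Ptab_s_33_36 (c : Nat) : Nat := @Bool.rec (fun _ => Nat) (Ptab_33) (Ptab_s_34_36 c) (Nat.ble 34 c)
noncomputable def Ptab_s_30_36 (c : Nat) : Nat := @Bool.rec (fun _ => Nat) (Ptab_s_30_33 c) (Ptab_s_33_36 c) (Nat.ble 33 c)
noncomputable def Ptab_s_24_36 (c : Nat) : Nat := @Bool.rec (fun _ => Nat) (Ptab_s_24_30 c) (Ptab_s_30_36 c) (Nat.ble 30 c)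
noncomputable def Ptab_s_37_39 (c : Nat) : Nat := @Bool.rec (fun _ => Nat) (Ptab_37) (Ptab_38) (Nat.ble 38 c)
noncomputable def Ptab_s_36_39 (c : Nat) : Nat := @Bool.rec (fun _ => Nat) (Ptab_36) (Ptab_s_37_39 c) (Nat.ble 37 c)
noncomputable def Ptab_s_40_42 (c : Nat) : Nat := @Bool.rec (fun _ => Nat) (Ptab_40) (Ptab_41) (Nat.ble 41 c)
noncomputable def Ptab_s_39_42 (c : Nat) : Nat := @Bool.rec (fun _ => Nat) (Ptab_39) (Ptab_s_40_42 c) (Nat.ble 40 c)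
noncomputable def Ptab_s_36_42 (c : Nat) : Nat := @Bool.rec (fun _ => Nat) (Ptab_s_36_39 c) (Ptab_s_39_42 c) (Nat.ble 39 c)
noncomputable def Ptab_s_43_45 (c : Nat) : Nat := @Bool.rec (fun _ => Nat) (Ptab_43) (Ptab_44) (Nat.ble 44 c)
noncomputable def Ptab_s_42_45 (c : Nat) : Nat := @Bool.rec (fun _ => Nat) (Ptab_42) (Ptab_s_43_45 c) (Nat.ble 43 c)
noncomputable def Ptab_s_45_47 (c : Nat) : Nat := @Bool.rec (fun _ => Nat) (Ptab_45) (Ptab_46) (Nat.ble 46 c)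
noncomputable def Ptab_s_47_49 (c : Nat) : Nat := @Bool.rec (fun _ => Nat) (Ptab_47) (Ptab_48) (Nat.ble 48 c)
noncomputable def Ptab_s_45_49 (c : Nat) : Nat := @Bool.rec (fun _ => Nat) (Ptab_s_45_47 c) (Ptab_s_47_49 c) (Nat.ble 47 c)
noncomputable def Ptab_s_42_49 (c : Nat) : Nat := @Bool.rec (fun _ => Nat) (Ptab_s_42_45 c) (Ptab_s_45_49 c) (Nat.ble 45 c)
noncomputable def Ptab_s_36_49 (c : Nat) : Nat := @Bool.rec (fun _ => Nat) (Ptab_s_36_42 c) (Ptab_s_42_49 c) (Nat.ble 42 c)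
noncomputable def Ptab_s_24_49 (c : Nat) : Nat := @Bool.rec (fun _ => Nat) (Ptab_s_24_36 c) (Ptab_s_36_49 c) (Nat.ble 36 c)
noncomputable def Ptab_s_0_49 (c : Nat) : Nat := @Bool.rec (fun _ => Nat) (Ptab_s_0_24 c) (Ptab_s_24_49 c) (Nat.ble 24 c)
noncomputable def Ptab_s_50_52 (c : Nat) : Nat := @Bool.rec (fun _ => Nat) (Ptab_50) (Ptab_51) (Nat.ble 51 c)
noncomputable def Ptab_s_49_52 (c : Nat) : Nat := @Bool.rec (fun _ => Nat) (Ptab_49) (Ptab_s_50_52 c) (Nat.ble 50 c)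
noncomputable def Ptab_s_53_55 (c : Nat) : Nat := @Bool.rec (fun _ => Nat) (Ptab_53) (Ptab_54) (Nat.ble 54 c)
noncomputable def Ptab_s_52_55 (c : Nat) : Nat := @Bool.rec (fun _ => Nat) (Ptab_52) (Ptab_s_53_55 c) (Nat.ble 53 c)
noncomputable def Ptab_s_49_55 (c : Nat) : Nat := @Bool.rec (fun _ => Nat) (Ptab_s_49_52 c) (Ptab_s_52_55 c) (Nat.ble 52 c)
noncomputable def Ptab_s_56_58 (c : Nat) : Nat := @Bool.rec (fun _ => Nat) (Ptab_56) (Ptab_57) (Nat.ble 57 c)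
noncomputable def Ptab_s_55_58 (c : Nat) : Nat := @Bool.rec (fun _ => Nat) (Ptab_55) (Ptab_s_56_58 c) (Nat.ble 56 c)
noncomputable def Ptab_s_59_61 (c : Nat) : Nat := @Bool.rec (fun _ => Nat) (Ptab_59) (Ptab_60) (Nat.ble 60 c)
noncomputable def Ptab_s_58_61 (c : Nat) : Nat := @Bool.rec (fun _ => Nat) (Ptab_58) (Ptab_s_59_61 c) (Nat.ble 59 c)
noncomputable def Ptab_s_55_61 (c : Nat) : Nat := @Bool.rec (fun _ => Nat) (Ptab_s_55_58 c) (Ptab_s_58_61 c) (Nat.ble 58 c)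
noncomputable def Ptab_s_49_61 (c : Nat) : Nat := @Bool.rec (fun _ => Nat) (Ptab_s_49_55 c) (Ptab_s_55_61 c) (Nat.ble 55 c)
noncomputable def Ptab_s_62_64 (c : Nat) : Nat := @Bool.rec (fun _ => Nat) (Ptab_62) (Ptab_63) (Nat.ble 63 c)
noncomputable def Ptab_s_61_64 (c : Nat) : Nat := @Bool.rec (fun _ => Nat) (Ptab_61) (Ptab_s_62_64 c) (Nat.ble 62 c)
noncomputable def Ptab_s_65_67 (c : Nat) : Nat := @Bool.rec (fun _ => Nat) (Ptab_65) (Ptab_66) (Nat.ble 66 c)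
noncomputable def Ptab_s_64_67 (c : Nat) : Nat := @Bool.rec (fun _ => Nat) (Ptab_64) (Ptab_s_65_67 c) (Nat.ble 65 c)
noncomputable def Ptab_s_61_67 (c : Nat) : Nat := @Bool.rec (fun _ => Nat) (Ptab_s_61_64 c) (Ptab_s_64_67 c) (Nat.ble 64 c)
noncomputable def Ptab_s_68_70 (c : Nat) : Nat := @Bool.rec (fun _ => Nat) (Ptab_68) (Ptab_69) (Nat.ble 69 c)
noncomputable def Ptab_s_67_70 (c : Nat) : Nat := @Bool.rec (fun _ => Nat) (Ptab_67) (Ptab_s_68_70 c) (Nat.ble 68 c)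
noncomputable def Ptab_s_71_73 (c : Nat) : Nat := @Bool.rec (fun _ => Nat) (Ptab_71) (Ptab_72) (Nat.ble 72 c)
noncomputable def Ptab_s_70_73 (c : Nat) : Nat := @Bool.rec (fun _ => Nat) (Ptab_70) (Ptab_s_71_73 c) (Nat.ble 71 c)
noncomputable def Ptab_s_67_73 (c : Nat) : Nat := @Bool.rec (fun _ => Nat) (Ptab_s_67_70 c) (Ptab_s_70_73 c) (Nat.ble 70 c)
noncomputable def Ptab_s_61_73 (c : Nat) : Nat := @Bool.rec (fun _ => Nat) (Ptab_s_61_67 c) (Ptab_s_67_73 c) (Nat.ble 67 c)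
noncomputable def Ptab_s_49_73 (c : Nat) : Nat := @Bool.rec (fun _ => Nat) (Ptab_s_49_61 c) (Ptab_s_61_73 c) (Nat.ble 61 c)
noncomputable def Ptab_s_74_76 (c : Nat) : Nat := @Bool.rec (fun _ => Nat) (Ptab_74) (Ptab_75) (Nat.ble 75 c)
noncomputable def Ptab_s_73_76 (c : Nat) : Nat := @Bool.rec (fun _ => Nat) (Ptab_73) (Ptab_s_74_76 c) (Nat.ble 74 c)
noncomputable def Ptab_s_77_79 (c : Nat) : Nat := @Bool.rec (fun _ => Nat) (Ptab_77) (Ptab_78) (Nat.ble 78 c)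
noncomputable def Ptab_s_76_79 (c : Nat) : Nat := @Bool.rec (fun _ => Nat) (Ptab_76) (Ptab_s_77_79 c) (Nat.ble 77 c)
noncomputable def Ptab_s_73_79 (c : Nat) : Nat := @Bool.rec (fun _ => Nat) (Ptab_s_73_76 c) (Ptab_s_76_79 c) (Nat.ble 76 c)
noncomputable def Ptab_s_80_82 (c : Nat) : Nat := @Bool.rec (fun _ => Nat) (Ptab_80) (Ptab_81) (Nat.ble 81 c)
noncomputable def Ptab_s_79_82 (c : Nat) : Nat := @Bool.rec (fun _ => Nat) (Ptab_79) (Ptab_s_80_82 c) (Nat.ble 80 c)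
noncomputable def Ptab_s_83_85 (c : Nat) : Nat := @Bool.rec (fun _ => Nat) (Ptab_83) (Ptab_84) (Nat.ble 84 c)
noncomputable def Ptab_s_82_85 (c : Nat) : Nat := @Bool.rec (fun _ => Nat) (Ptab_82) (Ptab_s_83_85 c) (Nat.ble 83 c)
noncomputable def Ptab_s_79_85 (c : Nat) : Nat := @Bool.rec (fun _ => Nat) (Ptab_s_79_82 c) (Ptab_s_82_85 c) (Nat.ble 82 c)
noncomputable def Ptab_s_73_85 (c : Nat) : Nat := @Bool.rec (fun _ => Nat) (Ptab_s_73_79 c) (Ptab_s_79_85 c) (Nat.ble 79 c)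
noncomputable def Ptab_s_86_88 (c : Nat) : Nat := @Bool.rec (fun _ => Nat) (Ptab_86) (Ptab_87) (Nat.ble 87 c)
noncomputable def Ptab_s_85_88 (c : Nat) : Nat := @Bool.rec (fun _ => Nat) (Ptab_85) (Ptab_s_86_88 c) (Nat.ble 86 c)
noncomputable def Ptab_s_89_91 (c : Nat) : Nat := @Bool.rec (fun _ => Nat) (Ptab_89) (Ptab_90) (Nat.ble 90 c)
noncomputable def Ptab_s_88_91 (c : Nat) : Nat := @Bool.rec (fun _ => Nat) (Ptab_88) (Ptab_s_89_91 c) (Nat.ble 89 c)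
noncomputable def Ptab_s_85_91 (c : Nat) : Nat := @Bool.rec (fun _ => Nat) (Ptab_s_85_88 c) (Ptab_s_88_91 c) (Nat.ble 88 c)
noncomputable def Ptab_s_92_94 (c : Nat) : Nat := @Bool.rec (fun _ => Nat) (Ptab_92) (Ptab_93) (Nat.ble 93 c)
noncomputable def Ptab_s_91_94 (c : Nat) : Nat := @Bool.rec (fun _ => Nat) (Ptab_91) (Ptab_s_92_94 c) (Nat.ble 92 c)
noncomputable def Ptab_s_94_96 (c : Nat) : Nat := @Bool.rec (fun _ => Nat) (Ptab_94) (Ptab_95) (Nat.ble 95 c)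
noncomputable def Ptab_s_96_98 (c : Nat) : Nat := @Bool.rec (fun _ => Nat) (Ptab_96) (Ptab_97) (Nat.ble 97 c)
noncomputable def Ptab_s_94_98 (c : Nat) : Nat := @Bool.rec (fun _ => Nat) (Ptab_s_94_96 c) (Ptab_s_96_98 c) (Nat.ble 96 c)
noncomputable def Ptab_s_91_98 (c : Nat) : Nat := @Bool.rec (fun _ => Nat) (Ptab_s_91_94 c) (Ptab_s_94_98 c) (Nat.ble 94 c)
noncomputable def Ptab_s_85_98 (c : Nat) : Nat := @Bool.rec (fun _ => Nat) (Ptab_s_85_91 c) (Ptab_s_91_98 c) (Nat.ble 91 c)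
noncomputable def Ptab_s_73_98 (c : Nat) : Nat := @Bool.rec (fun _ => Nat) (Ptab_s_73_85 c) (Ptab_s_85_98 c) (Nat.ble 85 c)
noncomputable def Ptab_s_49_98 (c : Nat) : Nat := @Bool.rec (fun _ => Nat) (Ptab_s_49_73 c) (Ptab_s_73_98 c) (Nat.ble 73 c)
noncomputable def Ptab_s_0_98 (c : Nat) : Nat := @Bool.rec (fun _ => Nat) (Ptab_s_0_49 c) (Ptab_s_49_98 c) (Nat.ble 49 c)
noncomputable def Ptab_s_99_101 (c : Nat) : Nat := @Bool.rec (fun _ => Nat) (Ptab_99) (Ptab_100) (Nat.ble 100 c)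
noncomputable def Ptab_s_98_101 (c : Nat) : Nat := @Bool.rec (fun _ => Nat) (Ptab_98) (Ptab_s_99_101 c) (Nat.ble 99 c)
noncomputable def Ptab_s_102_104 (c : Nat) : Nat := @Bool.rec (fun _ => Nat) (Ptab_102) (Ptab_103) (Nat.ble 103 c)
noncomputable def Ptab_s_101_104 (c : Nat) : Nat := @Bool.rec (fun _ => Nat) (Ptab_101) (Ptab_s_102_104 c) (Nat.ble 102 c)
noncomputable def Ptab_s_98_104 (c : Nat) : Nat := @Bool.rec (fun _ => Nat) (Ptab_s_98_101 c) (Ptab_s_101_104 c) (Nat.ble 101 c)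
noncomputable def Ptab_s_105_107 (c : Nat) : Nat := @Bool.rec (fun _ => Nat) (Ptab_105) (Ptab_106) (Nat.ble 106 c)
noncomputable def Ptab_s_104_107 (c : Nat) : Nat := @Bool.rec (fun _ => Nat) (Ptab_104) (Ptab_s_105_107 c) (Nat.ble 105 c)
noncomputable def Ptab_s_108_110 (c : Nat) : Nat := @Bool.rec (fun _ => Nat) (Ptab_108) (Ptab_109) (Nat.ble 109 c)
noncomputable def Ptab_s_107_110 (c : Nat) : Nat := @Bool.rec (fun _ => Nat) (Ptab_107) (Ptab_s_108_110 c) (Nat.ble 108 c)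
noncomputable def Ptab_s_104_110 (c : Nat) : Nat := @Bool.rec (fun _ => Nat) (Ptab_s_104_107 c) (Ptab_s_107_110 c) (Nat.ble 107 c)
noncomputable def Ptab_s_98_110 (c : Nat) : Nat := @Bool.rec (fun _ => Nat) (Ptab_s_98_104 c) (Ptab_s_104_110 c) (Nat.ble 104 c)
noncomputable def Ptab_s_111_113 (c : Nat) : Nat := @Bool.rec (fun _ => Nat) (Ptab_111) (Ptab_112) (Nat.ble 112 c)
noncomputable def Ptab_s_110_113 (c : Nat) : Nat := @Bool.rec (fun _ => Nat) (Ptab_110) (Ptab_s_111_113 c) (Nat.ble 111 c)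
noncomputable def Ptab_s_114_116 (c : Nat) : Nat := @Bool.rec (fun _ => Nat) (Ptab_114) (Ptab_115) (Nat.ble 115 c)
noncomputable def Ptab_s_113_116 (c : Nat) : Nat := @Bool.rec (fun _ => Nat) (Ptab_113) (Ptab_s_114_116 c) (Nat.ble 114 c)
noncomputable def Ptab_s_110_116 (c : Nat) : Nat := @Bool.rec (fun _ => Nat) (Ptab_s_110_113 c) (Ptab_s_113_116 c) (Nat.ble 113 c)
noncomputable def Ptab_s_117_119 (c : Nat) : Nat := @Bool.rec (fun _ => Nat) (Ptab_117) (Ptab_118) (Nat.ble 118 c)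
noncomputable def Ptab_s_116_119 (c : Nat) : Nat := @Bool.rec (fun _ => Nat) (Ptab_116) (Ptab_s_117_119 c) (Nat.ble 117 c)
noncomputable def Ptab_s_120_122 (c : Nat) : Nat := @Bool.rec (fun _ => Nat) (Ptab_120) (Ptab_121) (Nat.ble 121 c)
noncomputable def Ptab_s_119_122 (c : Nat) : Nat := @Bool.rec (fun _ => Nat) (Ptab_119) (Ptab_s_120_122 c) (Nat.ble 120 c)
noncomputable def Ptab_s_116_122 (c : Nat) : Nat := @Bool.rec (fun _ => Nat) (Ptab_s_116_119 c) (Ptab_s_119_122 c) (Nat.ble 119 c)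
noncomputable def Ptab_s_110_122 (c : Nat) : Nat := @Bool.rec (fun _ => Nat) (Ptab_s_110_116 c) (Ptab_s_116_122 c) (Nat.ble 116 c)
noncomputable def Ptab_s_98_122 (c : Nat) : Nat := @Bool.rec (fun _ => Nat) (Ptab_s_98_110 c) (Ptab_s_110_122 c) (Nat.ble 110 c)
noncomputable def Ptab_s_123_125 (c : Nat) : Nat := @Bool.rec (fun _ => Nat) (Ptab_123) (Ptab_124) (Nat.ble 124 c)
noncomputable def Ptab_s_122_125 (c : Nat) : Nat := @Bool.rec (fun _ => Nat) (Ptab_122) (Ptab_s_123_125 c) (Nat.ble 123 c)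
noncomputable def Ptab_s_126_128 (c : Nat) : Nat := @Bool.rec (fun _ => Nat) (Ptab_126) (Ptab_127) (Nat.ble 127 c)
noncomputable def Ptab_s_125_128 (c : Nat) : Nat := @Bool.rec (fun _ => Nat) (Ptab_125) (Ptab_s_126_128 c) (Nat.ble 126 c)
noncomputable def Ptab_s_122_128 (c : Nat) : Nat := @Bool.rec (fun _ => Nat) (Ptab_s_122_125 c) (Ptab_s_125_128 c) (Nat.ble 125 c)
noncomputable def Ptab_s_129_131 (c : Nat) : Nat := @Bool.rec (fun _ => Nat) (Ptab_129) (Ptab_130) (Nat.ble 130 c)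
noncomputable def Ptab_s_128_131 (c : Nat) : Nat := @Bool.rec (fun _ => Nat) (Ptab_128) (Ptab_s_129_131 c) (Nat.ble 129 c)
noncomputable def Ptab_s_132_134 (c : Nat) : Nat := @Bool.rec (fun _ => Nat) (Ptab_132) (Ptab_133) (Nat.ble 133 c)
noncomputable def Ptab_s_131_134 (c : Nat) : Nat := @Bool.rec (fun _ => Nat) (Ptab_131) (Ptab_s_132_134 c) (Nat.ble 132 c)
noncomputable def Ptab_s_128_134 (c : Nat) : Nat := @Bool.rec (fun _ => Nat) (Ptab_s_128_131 c) (Ptab_s_131_134 c) (Nat.ble 131 c)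
noncomputable def Ptab_s_122_134 (c : Nat) : Nat := @Bool.rec (fun _ => Nat) (Ptab_s_122_128 c) (Ptab_s_128_134 c) (Nat.ble 128 c)
noncomputable def Ptab_s_135_137 (c : Nat) : Nat := @Bool.rec (fun _ => Nat) (Ptab_135) (Ptab_136) (Nat.ble 136 c)
noncomputable def Ptab_s_134_137 (c : Nat) : Nat := @Bool.rec (fun _ => Nat) (Ptab_134) (Ptab_s_135_137 c) (Nat.ble 135 c)
noncomputable def Ptab_s_138_140 (c : Nat) : Nat := @Bool.rec (fun _ => Nat) (Ptab_138) (Ptab_139) (Nat.ble 139 c)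
noncomputable def Ptab_s_137_140 (c : Nat) : Nat := @Bool.rec (fun _ => Nat) (Ptab_137) (Ptab_s_138_140 c) (Nat.ble 138 c)
noncomputable def Ptab_s_134_140 (c : Nat) : Nat := @Bool.rec (fun _ => Nat) (Ptab_s_134_137 c) (Ptab_s_137_140 c) (Nat.ble 137 c)
noncomputable def Ptab_s_141_143 (c : Nat) : Nat := @Bool.rec (fun _ => Nat) (Ptab_141) (Ptab_142) (Nat.ble 142 c)
noncomputable def Ptab_s_140_143 (c : Nat) : Nat := @Bool.rec (fun _ => Nat) (Ptab_140) (Ptab_s_141_143 c) (Nat.ble 141 c)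
noncomputable def Ptab_s_143_145 (c : Nat) : Nat := @Bool.rec (fun _ => Nat) (Ptab_143) (Ptab_144) (Nat.ble 144 c)
noncomputable def Ptab_s_145_147 (c : Nat) : Nat := @Bool.rec (fun _ => Nat) (Ptab_145) (Ptab_146) (Nat.ble 146 c)
noncomputable def Ptab_s_143_147 (c : Nat) : Nat := @Bool.rec (fun _ => Nat) (Ptab_s_143_145 c) (Ptab_s_145_147 c) (Nat.ble 145 c)
noncomputable def Ptab_s_140_147 (c : Nat) : Nat := @Bool.rec (fun _ => Nat) (Ptab_s_140_143 c) (Ptab_s_143_147 c) (Nat.ble 143 c)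
noncomputable def Ptab_s_134_147 (c : Nat) : Nat := @Bool.rec (fun _ => Nat) (Ptab_s_134_140 c) (Ptab_s_140_147 c) (Nat.ble 140 c)
noncomputable def Ptab_s_122_147 (c : Nat) : Nat := @Bool.rec (fun _ => Nat) (Ptab_s_122_134 c) (Ptab_s_134_147 c) (Nat.ble 134 c)
noncomputable def Ptab_s_98_147 (c : Nat) : Nat := @Bool.rec (fun _ => Nat) (Ptab_s_98_122 c) (Ptab_s_122_147 c) (Nat.ble 122 c)
noncomputable def Ptab_s_148_150 (c : Nat) : Nat := @Bool.rec (fun _ => Nat) (Ptab_148) (Ptab_149) (Nat.ble 149 c)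
noncomputable def Ptab_s_147_150 (c : Nat) : Nat := @Bool.rec (fun _ => Nat) (Ptab_147) (Ptab_s_148_150 c) (Nat.ble 148 c)
noncomputable def Ptab_s_151_153 (c : Nat) : Nat := @Bool.rec (fun _ => Nat) (Ptab_151) (Ptab_152) (Nat.ble 152 c)
noncomputable def Ptab_s_150_153 (c : Nat) : Nat := @Bool.rec (fun _ => Nat) (Ptab_150) (Ptab_s_151_153 c) (Nat.ble 151 c)
noncomputable def Ptab_s_147_153 (c : Nat) : Nat := @Bool.rec (fun _ => Nat) (Ptab_s_147_150 c) (Ptab_s_150_153 c) (Nat.ble 150 c)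
noncomputable def Ptab_s_154_156 (c : Nat) : Nat := @Bool.rec (fun _ => Nat) (Ptab_154) (Ptab_155) (Nat.ble 155 c)
noncomputable def Ptab_s_153_156 (c : Nat) : Nat := @Bool.rec (fun _ => Nat) (Ptab_153) (Ptab_s_154_156 c) (Nat.ble 154 c)
noncomputable def Ptab_s_157_159 (c : Nat) : Nat := @Bool.rec (fun _ => Nat) (Ptab_157) (Ptab_158) (Nat.ble 158 c)
noncomputable def Ptab_s_156_159 (c : Nat) : Nat := @Bool.rec (fun _ => Nat) (Ptab_156) (Ptab_s_157_159 c) (Nat.ble 157 c)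
noncomputable def Ptab_s_153_159 (c : Nat) : Nat := @Bool.rec (fun _ => Nat) (Ptab_s_153_156 c) (Ptab_s_156_159 c) (Nat.ble 156 c)
noncomputable def Ptab_s_147_159 (c : Nat) : Nat := @Bool.rec (fun _ => Nat) (Ptab_s_147_153 c) (Ptab_s_153_159 c) (Nat.ble 153 c)
noncomputable def Ptab_s_160_162 (c : Nat) : Nat := @Bool.rec (fun _ => Nat) (Ptab_160) (Ptab_161) (Nat.ble 161 c)
noncomputable def Ptab_s_159_162 (c : Nat) : Nat := @Bool.rec (fun _ => Nat) (Ptab_159) (Ptab_s_160_162 c) (Nat.ble 160 c)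
noncomputable def Ptab_s_163_165 (c : Nat) : Nat := @Bool.rec (fun _ => Nat) (Ptab_163) (Ptab_164) (Nat.ble 164 c)
noncomputable def Ptab_s_162_165 (c : Nat) : Nat := @Bool.rec (fun _ => Nat) (Ptab_162) (Ptab_s_163_165 c) (Nat.ble 163 c)
noncomputable def Ptab_s_159_165 (c : Nat) : Nat := @Bool.rec (fun _ => Nat) (Ptab_s_159_162 c) (Ptab_s_162_165 c) (Nat.ble 162 c)
noncomputable def Ptab_s_166_168 (c : Nat) : Nat := @Bool.rec (fun _ => Nat) (Ptab_166) (Ptab_167) (Nat.ble 167 c)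
noncomputable def Ptab_s_165_168 (c : Nat) : Nat := @Bool.rec (fun _ => Nat) (Ptab_165) (Ptab_s_166_168 c) (Nat.ble 166 c)
noncomputable def Ptab_s_168_170 (c : Nat) : Nat := @Bool.rec (fun _ => Nat) (Ptab_168) (Ptab_169) (Nat.ble 169 c)
noncomputable def Ptab_s_170_172 (c : Nat) : Nat := @Bool.rec (fun _ => Nat) (Ptab_170) (Ptab_171) (Nat.ble 171 c)
noncomputable def Ptab_s_168_172 (c : Nat) : Nat := @Bool.rec (fun _ => Nat) (Ptab_s_168_170 c) (Ptab_s_170_172 c) (Nat.ble 170 c)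
noncomputable def Ptab_s_165_172 (c : Nat) : Nat := @Bool.rec (fun _ => Nat) (Ptab_s_165_168 c) (Ptab_s_168_172 c) (Nat.ble 168 c)
noncomputable def Ptab_s_159_172 (c : Nat) : Nat := @Bool.rec (fun _ => Nat) (Ptab_s_159_165 c) (Ptab_s_165_172 c) (Nat.ble 165 c)
noncomputable def Ptab_s_147_172 (c : Nat) : Nat := @Bool.rec (fun _ => Nat) (Ptab_s_147_159 c) (Ptab_s_159_172 c) (Nat.ble 159 c)
noncomputable def Ptab_s_173_175 (c : Nat) : Nat := @Bool.rec (fun _ => Nat) (Ptab_173) (Ptab_174) (Nat.ble 174 c)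
noncomputable def Ptab_s_172_175 (c : Nat) : Nat := @Bool.rec (fun _ => Nat) (Ptab_172) (Ptab_s_173_175 c) (Nat.ble 173 c)
noncomputable def Ptab_s_176_178 (c : Nat) : Nat := @Bool.rec (fun _ => Nat) (Ptab_176) (Ptab_177) (Nat.ble 177 c)
noncomputable def Ptab_s_175_178 (c : Nat) : Nat := @Bool.rec (fun _ => Nat) (Ptab_175) (Ptab_s_176_178 c) (Nat.ble 176 c)
noncomputable def Ptab_s_172_178 (c : Nat) : Nat := @Bool.rec (fun _ => Nat) (Ptab_s_172_175 c) (Ptab_s_175_178 c) (Nat.ble 175 c)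
noncomputable def Ptab_s_179_181 (c : Nat) : Nat := @Bool.rec (fun _ => Nat) (Ptab_179) (Ptab_180) (Nat.ble 180 c)
noncomputable def Ptab_s_178_181 (c : Nat) : Nat := @Bool.rec (fun _ => Nat) (Ptab_178) (Ptab_s_179_181 c) (Nat.ble 179 c)
noncomputable def Ptab_s_182_184 (c : Nat) : Nat := @Bool.rec (fun _ => Nat) (Ptab_182) (Ptab_183) (Nat.ble 183 c)
noncomputable def Ptab_s_181_184 (c : Nat) : Nat := @Bool.rec (fun _ => Nat) (Ptab_181) (Ptab_s_182_184 c) (Nat.ble 182 c)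
noncomputable def Ptab_s_178_184 (c : Nat) : Nat := @Bool.rec (fun _ => Nat) (Ptab_s_178_181 c) (Ptab_s_181_184 c) (Nat.ble 181 c)
noncomputable def Ptab_s_172_184 (c : Nat) : Nat := @Bool.rec (fun _ => Nat) (Ptab_s_172_178 c) (Ptab_s_178_184 c) (Nat.ble 178 c)
noncomputable def Ptab_s_185_187 (c : Nat) : Nat := @Bool.rec (fun _ => Nat) (Ptab_185) (Ptab_186) (Nat.ble 186 c)
noncomputable def Ptab_s_184_187 (c : Nat) : Nat := @Bool.rec (fun _ => Nat) (Ptab_184) (Ptab_s_185_187 c) (Nat.ble 185 c)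
noncomputable def Ptab_s_188_190 (c : Nat) : Nat := @Bool.rec (fun _ => Nat) (Ptab_188) (Ptab_189) (Nat.ble 189 c)
noncomputable def Ptab_s_187_190 (c : Nat) : Nat := @Bool.rec (fun _ => Nat) (Ptab_187) (Ptab_s_188_190 c) (Nat.ble 188 c)
noncomputable def Ptab_s_184_190 (c : Nat) : Nat := @Bool.rec (fun _ => Nat) (Ptab_s_184_187 c) (Ptab_s_187_190 c) (Nat.ble 187 c)
noncomputable def Ptab_s_191_193 (c : Nat) : Nat := @Bool.rec (fun _ => Nat) (Ptab_191) (Ptab_192) (Nat.ble 192 c)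
noncomputable def Ptab_s_190_193 (c : Nat) : Nat := @Bool.rec (fun _ => Nat) (Ptab_190) (Ptab_s_191_193 c) (Nat.ble 191 c)
noncomputable def Ptab_s_193_195 (c : Nat) : Nat := @Bool.rec (fun _ => Nat) (Ptab_193) (Ptab_194) (Nat.ble 194 c)
noncomputable def Ptab_s_195_197 (c : Nat) : Nat := @Bool.rec (fun _ => Nat) (Ptab_195) (Ptab_196) (Nat.ble 196 c)
noncomputable def Ptab_s_193_197 (c : Nat) : Nat := @Bool.rec (fun _ => Nat) (Ptab_s_193_195 c) (Ptab_s_195_197 c) (Nat.ble 195 c)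
noncomputable def Ptab_s_190_197 (c : Nat) : Nat := @Bool.rec (fun _ => Nat) (Ptab_s_190_193 c) (Ptab_s_193_197 c) (Nat.ble 193 c)
noncomputable def Ptab_s_184_197 (c : Nat) : Nat := @Bool.rec (fun _ => Nat) (Ptab_s_184_190 c) (Ptab_s_190_197 c) (Nat.ble 190 c)
noncomputable def Ptab_s_172_197 (c : Nat) : Nat := @Bool.rec (fun _ => Nat) (Ptab_s_172_184 c) (Ptab_s_184_197 c) (Nat.ble 184 c)
noncomputable def Ptab_s_147_197 (c : Nat) : Nat := @Bool.rec (fun _ => Nat) (Ptab_s_147_172 c) (Ptab_s_172_197 c) (Nat.ble 172 c)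
noncomputable def Ptab_s_98_197 (c : Nat) : Nat := @Bool.rec (fun _ => Nat) (Ptab_s_98_147 c) (Ptab_s_147_197 c) (Nat.ble 147 c)
noncomputable def Ptab_s_0_197 (c : Nat) : Nat := @Bool.rec (fun _ => Nat) (Ptab_s_0_98 c) (Ptab_s_98_197 c) (Nat.ble 98 c)
noncomputable def Ptab (i : Nat) : Nat := rdw 20 1048575 (Ptab_s_0_197 (Nat.shiftRight i 12)) (Nat.land i 4095)
noncomputable def RRtab (i : Nat) : Nat := rdw 4 15 RRtab_0 i
noncomputable def rBtab (i : Nat) : Nat := rdw 10 1023 rBtab_0 i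
noncomputable def rLtab (i : Nat) : Nat := rdw 5 31 rLtab_0 i
noncomputable def nameTab_s_1_3 (c : Nat) : Nat := @Bool.rec (fun _ => Nat) (nameTab_1) (nameTab_2) (Nat.ble 2 c)
noncomputable def nameTab_s_0_3 (c : Nat) : Nat := @Bool.rec (fun _ => Nat) (nameTab_0) (nameTab_s_1_3 c) (Nat.ble 1 c)
noncomputable def nameTab (i : Nat) : Nat := rdw 17 131071 (nameTab_s_0_3 (Nat.shiftRight i 12)) (Nat.land i 4095)
noncomputable def col0_s_1_3 (c : Nat) : Nat := @Bool.rec (fun _ => Nat) (col0_1) (col0_2) (Nat.ble 2 c)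
noncomputable def col0_s_0_3 (c : Nat) : Nat := @Bool.rec (fun _ => Nat) (col0_0) (col0_s_1_3 c) (Nat.ble 1 c)
noncomputable def col0 (i : Nat) : Nat := rdw 14 16383 (col0_s_0_3 (Nat.shiftRight i 12)) (Nat.land i 4095)
noncomputable def col1_s_1_3 (c : Nat) : Nat := @Bool.rec (fun _ => Nat) (col1_1) (col1_2) (Nat.ble 2 c)
noncomputable def col1_s_0_3 (c : Nat) : Nat := @Bool.rec (fun _ => Nat) (col1_0) (col1_s_1_3 c) (Nat.ble 1 c)
noncomputable def col1 (i : Nat) : Nat := rdw 14 16383 (col1_s_0_3 (Nat.shiftRight i 12)) (Nat.land i 4095)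
noncomputable def col2_s_1_3 (c : Nat) : Nat := @Bool.rec (fun _ => Nat) (col2_1) (col2_2) (Nat.ble 2 c)
noncomputable def col2_s_0_3 (c : Nat) : Nat := @Bool.rec (fun _ => Nat) (col2_0) (col2_s_1_3 c) (Nat.ble 1 c)
noncomputable def col2 (i : Nat) : Nat := rdw 14 16383 (col2_s_0_3 (Nat.shiftRight i 12)) (Nat.land i 4095)
noncomputable def col3_s_1_3 (c : Nat) : Nat := @Bool.rec (fun _ => Nat) (col3_1) (col3_2) (Nat.ble 2 c)
noncomputable def col3_s_0_3 (c : Nat) : Nat := @Bool.rec (fun _ => Nat) (col3_0) (col3_s_1_3 c) (Nat.ble 1 c)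
noncomputable def col3 (i : Nat) : Nat := rdw 14 16383 (col3_s_0_3 (Nat.shiftRight i 12)) (Nat.land i 4095)
noncomputable def col4_s_1_3 (c : Nat) : Nat := @Bool.rec (fun _ => Nat) (col4_1) (col4_2) (Nat.ble 2 c)
noncomputable def col4_s_0_3 (c : Nat) : Nat := @Bool.rec (fun _ => Nat) (col4_0) (col4_s_1_3 c) (Nat.ble 1 c)
noncomputable def col4 (i : Nat) : Nat := rdw 14 16383 (col4_s_0_3 (Nat.shiftRight i 12)) (Nat.land i 4095)
noncomputable def col5_s_1_3 (c : Nat) : Nat := @Bool.rec (fun _ => Nat) (col5_1) (col5_2) (Nat.ble 2 c)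
noncomputable def col5_s_0_3 (c : Nat) : Nat := @Bool.rec (fun _ => Nat) (col5_0) (col5_s_1_3 c) (Nat.ble 1 c)
noncomputable def col5 (i : Nat) : Nat := rdw 14 16383 (col5_s_0_3 (Nat.shiftRight i 12)) (Nat.land i 4095)
noncomputable def col6_s_1_3 (c : Nat) : Nat := @Bool.rec (fun _ => Nat) (col6_1) (col6_2) (Nat.ble 2 c)
noncomputable def col6_s_0_3 (c : Nat) : Nat := @Bool.rec (fun _ => Nat) (col6_0) (col6_s_1_3 c) (Nat.ble 1 c)
noncomputable def col6 (i : Nat) : Nat := rdw 14 16383 (col6_s_0_3 (Nat.shiftRight i 12)) (Nat.land i 4095)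
noncomputable def col7_s_1_3 (c : Nat) : Nat := @Bool.rec (fun _ => Nat) (col7_1) (col7_2) (Nat.ble 2 c)
noncomputable def col7_s_0_3 (c : Nat) : Nat := @Bool.rec (fun _ => Nat) (col7_0) (col7_s_1_3 c) (Nat.ble 1 c)
noncomputable def col7 (i : Nat) : Nat := rdw 14 16383 (col7_s_0_3 (Nat.shiftRight i 12)) (Nat.land i 4095)
noncomputable def finTab_s_0_2 (c : Nat) : Nat := @Bool.rec (fun _ => Nat) (finTab_0) (finTab_1) (Nat.ble 1 c)
noncomputable def finTab_s_3_5 (c : Nat) : Nat := @Bool.rec (fun _ => Nat) (finTab_3) (finTab_4) (Nat.ble 4 c)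
noncomputable def finTab_s_2_5 (c : Nat) : Nat := @Bool.rec (fun _ => Nat) (finTab_2) (finTab_s_3_5 c) (Nat.ble 3 c)
noncomputable def finTab_s_0_5 (c : Nat) : Nat := @Bool.rec (fun _ => Nat) (finTab_s_0_2 c) (finTab_s_2_5 c) (Nat.ble 2 c)
noncomputable def finTab_s_6_8 (c : Nat) : Nat := @Bool.rec (fun _ => Nat) (finTab_6) (finTab_7) (Nat.ble 7 c)
noncomputable def finTab_s_5_8 (c : Nat) : Nat := @Bool.rec (fun _ => Nat) (finTab_5) (finTab_s_6_8 c) (Nat.ble 6 c)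
noncomputable def finTab_s_9_11 (c : Nat) : Nat := @Bool.rec (fun _ => Nat) (finTab_9) (finTab_10) (Nat.ble 10 c)
noncomputable def finTab_s_8_11 (c : Nat) : Nat := @Bool.rec (fun _ => Nat) (finTab_8) (finTab_s_9_11 c) (Nat.ble 9 c)
noncomputable def finTab_s_5_11 (c : Nat) : Nat := @Bool.rec (fun _ => Nat) (finTab_s_5_8 c) (finTab_s_8_11 c) (Nat.ble 8 c)
noncomputable def finTab_s_0_11 (c : Nat) : Nat := @Bool.rec (fun _ => Nat) (finTab_s_0_5 c) (finTab_s_5_11 c) (Nat.ble 5 c)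
noncomputable def finTab_s_11_13 (c : Nat) : Nat := @Bool.rec (fun _ => Nat) (finTab_11) (finTab_12) (Nat.ble 12 c)
noncomputable def finTab_s_14_16 (c : Nat) : Nat := @Bool.rec (fun _ => Nat) (finTab_14) (finTab_15) (Nat.ble 15 c)
noncomputable def finTab_s_13_16 (c : Nat) : Nat := @Bool.rec (fun _ => Nat) (finTab_13) (finTab_s_14_16 c) (Nat.ble 14 c)
noncomputable def finTab_s_11_16 (c : Nat) : Nat := @Bool.rec (fun _ => Nat) (finTab_s_11_13 c) (finTab_s_13_16 c) (Nat.ble 13 c)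
noncomputable def finTab_s_17_19 (c : Nat) : Nat := @Bool.rec (fun _ => Nat) (finTab_17) (finTab_18) (Nat.ble 18 c)
noncomputable def finTab_s_16_19 (c : Nat) : Nat := @Bool.rec (fun _ => Nat) (finTab_16) (finTab_s_17_19 c) (Nat.ble 17 c)
noncomputable def finTab_s_20_22 (c : Nat) : Nat := @Bool.rec (fun _ => Nat) (finTab_20) (finTab_21) (Nat.ble 21 c)
noncomputable def finTab_s_19_22 (c : Nat) : Nat := @Bool.rec (fun _ => Nat) (finTab_19) (finTab_s_20_22 c) (Nat.ble 20 c)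
noncomputable def finTab_s_16_22 (c : Nat) : Nat := @Bool.rec (fun _ => Nat) (finTab_s_16_19 c) (finTab_s_19_22 c) (Nat.ble 19 c)
noncomputable def finTab_s_11_22 (c : Nat) : Nat := @Bool.rec (fun _ => Nat) (finTab_s_11_16 c) (finTab_s_16_22 c) (Nat.ble 16 c)
noncomputable def finTab_s_0_22 (c : Nat) : Nat := @Bool.rec (fun _ => Nat) (finTab_s_0_11 c) (finTab_s_11_22 c) (Nat.ble 11 c)
noncomputable def finTab (i : Nat) : Nat := rdw 20 1048575 (finTab_s_0_22 (Nat.shiftRight i 12)) (Nat.land i 4095)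
noncomputable def clsTab_s_1_3 (c : Nat) : Nat := @Bool.rec (fun _ => Nat) (clsTab_1) (clsTab_2) (Nat.ble 2 c)
noncomputable def clsTab_s_0_3 (c : Nat) : Nat := @Bool.rec (fun _ => Nat) (clsTab_0) (clsTab_s_1_3 c) (Nat.ble 1 c)
noncomputable def clsTab_s_3_5 (c : Nat) : Nat := @Bool.rec (fun _ => Nat) (clsTab_3) (clsTab_4) (Nat.ble 4 c)
noncomputable def clsTab_s_5_7 (c : Nat) : Nat := @Bool.rec (fun _ => Nat) (clsTab_5) (clsTab_6) (Nat.ble 6 c)
noncomputable def clsTab_s_3_7 (c : Nat) : Nat := @Bool.rec (fun _ => Nat) (clsTab_s_3_5 c) (clsTab_s_5_7 c) (Nat.ble 5 c)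
noncomputable def clsTab_s_0_7 (c : Nat) : Nat := @Bool.rec (fun _ => Nat) (clsTab_s_0_3 c) (clsTab_s_3_7 c) (Nat.ble 3 c)
noncomputable def clsTab_s_8_10 (c : Nat) : Nat := @Bool.rec (fun _ => Nat) (clsTab_8) (clsTab_9) (Nat.ble 9 c)
noncomputable def clsTab_s_7_10 (c : Nat) : Nat := @Bool.rec (fun _ => Nat) (clsTab_7) (clsTab_s_8_10 c) (Nat.ble 8 c)
noncomputable def clsTab_s_10_12 (c : Nat) : Nat := @Bool.rec (fun _ => Nat) (clsTab_10) (clsTab_11) (Nat.ble 11 c)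
noncomputable def clsTab_s_12_14 (c : Nat) : Nat := @Bool.rec (fun _ => Nat) (clsTab_12) (clsTab_13) (Nat.ble 13 c)
noncomputable def clsTab_s_10_14 (c : Nat) : Nat := @Bool.rec (fun _ => Nat) (clsTab_s_10_12 c) (clsTab_s_12_14 c) (Nat.ble 12 c)
noncomputable def clsTab_s_7_14 (c : Nat) : Nat := @Bool.rec (fun _ => Nat) (clsTab_s_7_10 c) (clsTab_s_10_14 c) (Nat.ble 10 c)
noncomputable def clsTab_s_0_14 (c : Nat) : Nat := @Bool.rec (fun _ => Nat) (clsTab_s_0_7 c) (clsTab_s_7_14 c) (Nat.ble 7 c)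
noncomputable def clsTab_s_15_17 (c : Nat) : Nat := @Bool.rec (fun _ => Nat) (clsTab_15) (clsTab_16) (Nat.ble 16 c)
noncomputable def clsTab_s_14_17 (c : Nat) : Nat := @Bool.rec (fun _ => Nat) (clsTab_14) (clsTab_s_15_17 c) (Nat.ble 15 c)
noncomputable def clsTab_s_17_19 (c : Nat) : Nat := @Bool.rec (fun _ => Nat) (clsTab_17) (clsTab_18) (Nat.ble 18 c)
noncomputable def clsTab_s_19_21 (c : Nat) : Nat := @Bool.rec (fun _ => Nat) (clsTab_19) (clsTab_20) (Nat.ble 20 c)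
noncomputable def clsTab_s_17_21 (c : Nat) : Nat := @Bool.rec (fun _ => Nat) (clsTab_s_17_19 c) (clsTab_s_19_21 c) (Nat.ble 19 c)
noncomputable def clsTab_s_14_21 (c : Nat) : Nat := @Bool.rec (fun _ => Nat) (clsTab_s_14_17 c) (clsTab_s_17_21 c) (Nat.ble 17 c)
noncomputable def clsTab_s_21_23 (c : Nat) : Nat := @Bool.rec (fun _ => Nat) (clsTab_21) (clsTab_22) (Nat.ble 22 c)
noncomputable def clsTab_s_23_25 (c : Nat) : Nat := @Bool.rec (fun _ => Nat) (clsTab_23) (clsTab_24) (Nat.ble 24 c)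
noncomputable def clsTab_s_21_25 (c : Nat) : Nat := @Bool.rec (fun _ => Nat) (clsTab_s_21_23 c) (clsTab_s_23_25 c) (Nat.ble 23 c)
noncomputable def clsTab_s_25_27 (c : Nat) : Nat := @Bool.rec (fun _ => Nat) (clsTab_25) (clsTab_26) (Nat.ble 26 c)
noncomputable def clsTab_s_27_29 (c : Nat) : Nat := @Bool.rec (fun _ => Nat) (clsTab_27) (clsTab_28) (Nat.ble 28 c)
noncomputable def clsTab_s_25_29 (c : Nat) : Nat := @Bool.rec (fun _ => Nat) (clsTab_s_25_27 c) (clsTab_s_27_29 c) (Nat.ble 27 c)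
noncomputable def clsTab_s_21_29 (c : Nat) : Nat := @Bool.rec (fun _ => Nat) (clsTab_s_21_25 c) (clsTab_s_25_29 c) (Nat.ble 25 c)
noncomputable def clsTab_s_14_29 (c : Nat) : Nat := @Bool.rec (fun _ => Nat) (clsTab_s_14_21 c) (clsTab_s_21_29 c) (Nat.ble 21 c)
noncomputable def clsTab_s_0_29 (c : Nat) : Nat := @Bool.rec (fun _ => Nat) (clsTab_s_0_14 c) (clsTab_s_14_29 c) (Nat.ble 14 c)
noncomputable def clsTab (i : Nat) : Nat := rdw 14 16383 (clsTab_s_0_29 (Nat.shiftRight i 12)) (Nat.land i 4095)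
noncomputable def oparTab_s_1_3 (c : Nat) : Nat := @Bool.rec (fun _ => Nat) (oparTab_1) (oparTab_2) (Nat.ble 2 c)
noncomputable def oparTab_s_0_3 (c : Nat) : Nat := @Bool.rec (fun _ => Nat) (oparTab_0) (oparTab_s_1_3 c) (Nat.ble 1 c)
noncomputable def oparTab (i : Nat) : Nat := rdw 14 16383 (oparTab_s_0_3 (Nat.shiftRight i 12)) (Nat.land i 4095)
noncomputable def olabTab (i : Nat) : Nat := rdw 2 3 olabTab_0 i
noncomputable def srcF (t : Nat) : Nat := Nat.land (Atab t) 131071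
noncomputable def tgtF (t : Nat) : Nat := Nat.land (Nat.shiftRight (Atab t) 17) 131071
noncomputable def ltF (t : Nat) : Nat := Nat.shiftRight (Atab t) 34
noncomputable def rhoF (t : Nat) : Nat := Nat.land (Btab (Nat.sub t 116796)) 63
noncomputable def rotF (t : Nat) : Nat := Nat.land (Nat.shiftRight (Btab (Nat.sub t 116796)) 6) 31
noncomputable def lenF (t : Nat) : Nat := Nat.land (Nat.shiftRight (Btab (Nat.sub t 116796)) 11) 63
noncomputable def offF (t : Nat) : Nat := Nat.shiftRight (Btab (Nat.sub t 116796)) 17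
noncomputable def pfF (j : Nat) : Nat := Nat.shiftRight (Ptab j) 1
noncomputable def pdF (j : Nat) : Nat := Nat.land (Ptab j) 1
noncomputable def tblF (i x : Nat) : Nat := @Bool.rec (fun _ => Nat) (@Bool.rec (fun _ => Nat) (@Bool.rec (fun _ => Nat) (col0 i) (col1 i) (Nat.ble 1 x)) (@Bool.rec (fun _ => Nat) (col2 i) (col3 i) (Nat.ble 3 x)) (Nat.ble 2 x)) (@Bool.rec (fun _ => Nat) (@Bool.rec (fun _ => Nat) (col4 i) (col5 i) (Nat.ble 5 x)) (@Bool.rec (fun _ => Nat) (col6 i) (col7 i) (Nat.ble 7 x)) (Nat.ble 6 x)) (Nat.ble 4 x)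
noncomputable def finE (i x : Nat) : Nat := finTab (Nat.add (Nat.mul i 8) x)
noncomputable def finFF (i x : Nat) : Nat := Nat.shiftRight (finE i x) 1
noncomputable def finDF (i x : Nat) : Nat := Nat.land (finE i x) 1

noncomputable def D : Log :=
  { k := 8, inv := invE 8 PC2HS.invR, nR := 54, rBase := rBtab, rLen := rLtab, RR := RRtab,
    M := 116792, nB := 4, F := 365430, src := srcF, lt := ltF, tgt := tgtF, rho := rhoF, rot := rotF,
    off := offF, len := lenF, pf := pfF, pd := pdF }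

noncomputable def T : Tab :=
  { N := 11200, nameOf := nameTab, tbl := tblF, finF := finFF, finD := finDF, cls := clsTab }

def subs : List (List Nat) := [
  [0],
  [2] ]

def rw0 : List Nat := [0, 0]
def rw1 : List Nat := [2, 2, 2, 2]
def rw2 : List Nat := [0, 2, 0, 2, 0, 2, 0, 2, 0, 2, 0, 2, 0, 2, 0, 2, 0, 2, 0, 2, 0, 2]
def rw3 : List Nat := [0, 2, 2, 0, 2, 2, 0, 2, 2, 0, 2, 2, 0, 2, 2, 0, 2, 2]
def rw4 : List Nat := [0, 2, 0, 2, 0, 3, 0, 2, 0, 2, 2, 0, 3, 0, 2, 0, 3, 0, 3]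
def rw5 : List Nat := [4, 4]
def rw6 : List Nat := [0, 2, 4, 3, 0, 2, 4, 3]
def rw7 : List Nat := [2, 2, 4, 2, 2, 4, 3, 3, 4]
def rw8 : List Nat := [0, 4, 0, 4, 0, 4, 0, 4, 0, 4]
def rw9 : List Nat := [0, 2, 0, 3, 4, 2, 0, 2, 0, 3, 4, 2, 6]
def rw10 : List Nat := [2, 4, 2, 4, 2, 4, 2, 4, 2, 4, 2, 4]
def rw11 : List Nat := [0, 4, 3, 4, 2, 4, 0, 4, 3, 4, 2, 4, 0, 4, 3, 4, 2, 4]
def rw12 : List Nat := [0, 3, 4, 0, 4, 0, 3, 4, 0, 4, 0, 3, 4, 0, 4, 0, 3, 4, 0, 4]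
def rw13 : List Nat := [6, 6]
def rw14 : List Nat := [7, 1, 6, 0]
def rw15 : List Nat := [7, 3, 6, 2]
def rw16 : List Nat := [7, 5, 6, 4]
def realLit : List (List Nat) := [rw0, rw1, rw2, rw3, rw4, rw5, rw6, rw7, rw8, rw9, rw10, rw11, rw12, rw13, rw14, rw15, rw16]
noncomputable def actR0 (i : Nat) : Nat := col1 (col1 (i))
theorem actR0_eq (i : Nat) : actR0 i = Tab.act T D rw0 i := rfl
noncomputable def actR1 (i : Nat) : Nat := col3 (col3 (col3 (col3 (i))))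
theorem actR1_eq (i : Nat) : actR1 i = Tab.act T D rw1 i := rfl
noncomputable def actR2 (i : Nat) : Nat := col1 (col3 (col1 (col3 (col1 (col3 (col1 (col3 (col1 (col3 (col1 (col3 (col1 (col3 (col1 (col3 (col1 (col3 (col1 (col3 (col1 (col3 (i))))))))))))))))))))))
theorem actR2_eq (i : Nat) : actR2 i = Tab.act T D rw2 i := rfl
noncomputable def actR3 (i : Nat) : Nat := col1 (col3 (col3 (col1 (col3 (col3 (col1 (col3 (col3 (col1 (col3 (col3 (col1 (col3 (col3 (col1 (col3 (col3 (i))))))))))))))))))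
theorem actR3_eq (i : Nat) : actR3 i = Tab.act T D rw3 i := rfl
noncomputable def actR4 (i : Nat) : Nat := col1 (col3 (col1 (col3 (col1 (col2 (col1 (col3 (col1 (col3 (col3 (col1 (col2 (col1 (col3 (col1 (col2 (col1 (col2 (i)))))))))))))))))))
theorem actR4_eq (i : Nat) : actR4 i = Tab.act T D rw4 i := rfl
noncomputable def actR5 (i : Nat) : Nat := col5 (col5 (i))
theorem actR5_eq (i : Nat) : actR5 i = Tab.act T D rw5 i := rfl
noncomputable def actR6 (i : Nat) : Nat := col1 (col3 (col5 (col2 (col1 (col3 (col5 (col2 (i))))))))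
theorem actR6_eq (i : Nat) : actR6 i = Tab.act T D rw6 i := rfl
noncomputable def actR7 (i : Nat) : Nat := col3 (col3 (col5 (col3 (col3 (col5 (col2 (col2 (col5 (i)))))))))
theorem actR7_eq (i : Nat) : actR7 i = Tab.act T D rw7 i := rfl
noncomputable def actR8 (i : Nat) : Nat := col1 (col5 (col1 (col5 (col1 (col5 (col1 (col5 (col1 (col5 (i))))))))))
theorem actR8_eq (i : Nat) : actR8 i = Tab.act T D rw8 i := rfl
noncomputable def actR9 (i : Nat) : Nat := col1 (col3 (col1 (col2 (col5 (col3 (col1 (col3 (col1 (col2 (col5 (col3 (col7 (i)))))))))))))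
theorem actR9_eq (i : Nat) : actR9 i = Tab.act T D rw9 i := rfl
noncomputable def actR10 (i : Nat) : Nat := col3 (col5 (col3 (col5 (col3 (col5 (col3 (col5 (col3 (col5 (col3 (col5 (i))))))))))))
theorem actR10_eq (i : Nat) : actR10 i = Tab.act T D rw10 i := rfl
noncomputable def actR11 (i : Nat) : Nat := col1 (col5 (col2 (col5 (col3 (col5 (col1 (col5 (col2 (col5 (col3 (col5 (col1 (col5 (col2 (col5 (col3 (col5 (i))))))))))))))))))
theorem actR11_eq (i : Nat) : actR11 i = Tab.act T D rw11 i := rfl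
noncomputable def actR12 (i : Nat) : Nat := col1 (col2 (col5 (col1 (col5 (col1 (col2 (col5 (col1 (col5 (col1 (col2 (col5 (col1 (col5 (col1 (col2 (col5 (col1 (col5 (i))))))))))))))))))))
theorem actR12_eq (i : Nat) : actR12 i = Tab.act T D rw12 i := rfl
noncomputable def actR13 (i : Nat) : Nat := col7 (col7 (i))
theorem actR13_eq (i : Nat) : actR13 i = Tab.act T D rw13 i := rfl
noncomputable def actR14 (i : Nat) : Nat := col6 (col0 (col7 (col1 (i))))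
theorem actR14_eq (i : Nat) : actR14 i = Tab.act T D rw14 i := rfl
noncomputable def actR15 (i : Nat) : Nat := col6 (col2 (col7 (col3 (i))))
theorem actR15_eq (i : Nat) : actR15 i = Tab.act T D rw15 i := rfl
noncomputable def actR16 (i : Nat) : Nat := col6 (col4 (col7 (col5 (i))))
theorem actR16_eq (i : Nat) : actR16 i = Tab.act T D rw16 i := rfl

end Cfsg.Agent.Lib.Helper4.TCD.C2HSB
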