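import Cfsg.Agent.Lib.Helper4.TCD_C2HSB_Acc

namespace Cfsg.Agent.Lib.Helper4.TCD.C2HSB

open Cfsg.Agent.Lib.Helper4.TC

set_option maxRecDepth 100000
set_option Elab.async false

theorem c_zero : D.zeroOK = true := by decide +kernel
theorem c_base : allBelow D.baseOK 4 = true := by decide +kernel
theorem c_let : allBelow D.letOK 8 = true := by decide +kernel
theorem c_cls0 : T.cls 0 = 0 := by decide +kernel
theorem c_name0 : T.nameOf 0 = 0 := by decide +kernel
theorem c_tab : D.relTabOK 0 (baseRels 8 PC2HS.invR PC2HS.P.real subs ++ (baseRels 8 PC2HS.invR PC2HS.P.real subs).map (invWord D.inv)) = true := by decide +kernel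
theorem c_real : PC2HS.P.real = realLit := by decide +kernel
theorem c_subfix : subs.all (fun u => Nat.beq (Tab.act T D u 0) 0) = true := by decide +kernel
theorem c_subs : subs.all (fun u => u.all (fun x => Nat.ble (Nat.succ x) 8)) = true := by decide +kernel
theorem c_names_0 : allRange D.nameOK 1 60000 = true := by decide +kernel
theorem c_names_1 : allRange D.nameOK 60001 56791 = true := by decide +kernel
theorem c_cls_0 : allRange (T.clsOK D) 1 15000 = true := by decide +kernel
theorem c_cls_1 : allRange (T.clsOK D) 15001 15000 = true := by decide +kernel
theorem c_cls_2 : allRange (T.clsOK D) 30001 15000 = true := by decide +kernel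
theorem c_cls_3 : allRange (T.clsOK D) 45001 15000 = true := by decide +kernel
theorem c_cls_4 : allRange (T.clsOK D) 60001 15000 = true := by decide +kernel
theorem c_cls_5 : allRange (T.clsOK D) 75001 15000 = true := by decide +kernel
theorem c_cls_6 : allRange (T.clsOK D) 90001 15000 = true := by decide +kernel
theorem c_cls_7 : allRange (T.clsOK D) 105001 11791 = true := by decide +kernel
theorem c_rep_0 : allRange (T.repOK D) 0 11200 = true := by decide +kernel
theorem c_rel_0 : allRange D.relOK 116796 4250 = true := by decide +kernel
theorem c_rel_1 : allRange D.relOK 121046 4288 = true := by decide +kernel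
theorem c_rel_2 : allRange D.relOK 125334 4150 = true := by decide +kernel
theorem c_rel_3 : allRange D.relOK 129484 4103 = true := by decide +kernel
theorem c_rel_4 : allRange D.relOK 133587 4003 = true := by decide +kernel
theorem c_rel_5 : allRange D.relOK 137590 3988 = true := by decide +kernel
theorem c_rel_6 : allRange D.relOK 141578 4092 = true := by decide +kernel
theorem c_rel_7 : allRange D.relOK 145670 3900 = true := by decide +kernel
theorem c_rel_8 : allRange D.relOK 149570 3988 = true := by decide +kernel
theorem c_rel_9 : allRange D.relOK 153558 3443 = true := by decide +kernel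
theorem c_rel_10 : allRange D.relOK 157001 3597 = true := by decide +kernel
theorem c_rel_11 : allRange D.relOK 160598 3738 = true := by decide +kernel
theorem c_rel_12 : allRange D.relOK 164336 3709 = true := by decide +kernel
theorem c_rel_13 : allRange D.relOK 168045 3706 = true := by decide +kernel
theorem c_rel_14 : allRange D.relOK 171751 3646 = true := by decide +kernel
theorem c_rel_15 : allRange D.relOK 175397 3585 = true := by decide +kernel
theorem c_rel_16 : allRange D.relOK 178982 3571 = true := by decide +kernel
theorem c_rel_17 : allRange D.relOK 182553 3364 = true := by decide +kernel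
theorem c_rel_18 : allRange D.relOK 185917 3262 = true := by decide +kernel
theorem c_rel_19 : allRange D.relOK 189179 3425 = true := by decide +kernel
theorem c_rel_20 : allRange D.relOK 192604 3450 = true := by decide +kernel
theorem c_rel_21 : allRange D.relOK 196054 3463 = true := by decide +kernel
theorem c_rel_22 : allRange D.relOK 199517 3431 = true := by decide +kernel
theorem c_rel_23 : allRange D.relOK 202948 3343 = true := by decide +kernel
theorem c_rel_24 : allRange D.relOK 206291 3354 = true := by decide +kernel
theorem c_rel_25 : allRange D.relOK 209645 3228 = true := by decide +kernel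
theorem c_rel_26 : allRange D.relOK 212873 3088 = true := by decide +kernel
theorem c_rel_27 : allRange D.relOK 215961 2998 = true := by decide +kernel
theorem c_rel_28 : allRange D.relOK 218959 3091 = true := by decide +kernel
theorem c_rel_29 : allRange D.relOK 222050 3191 = true := by decide +kernel
theorem c_rel_30 : allRange D.relOK 225241 3043 = true := by decide +kernel
theorem c_rel_31 : allRange D.relOK 228284 3027 = true := by decide +kernel
theorem c_rel_32 : allRange D.relOK 231311 2983 = true := by decide +kernel
theorem c_rel_33 : allRange D.relOK 234294 2990 = true := by decide +kernel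
theorem c_rel_34 : allRange D.relOK 237284 2785 = true := by decide +kernel
theorem c_rel_35 : allRange D.relOK 240069 3677 = true := by decide +kernel
theorem c_rel_36 : allRange D.relOK 243746 3589 = true := by decide +kernel
theorem c_rel_37 : allRange D.relOK 247335 3594 = true := by decide +kernel
theorem c_rel_38 : allRange D.relOK 250929 3522 = true := by decide +kernel
theorem c_rel_39 : allRange D.relOK 254451 3547 = true := by decide +kernel
theorem c_rel_40 : allRange D.relOK 257998 3508 = true := by decide +kernel
theorem c_rel_41 : allRange D.relOK 261506 3447 = true := by decide +kernel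
theorem c_rel_42 : allRange D.relOK 264953 3392 = true := by decide +kernel
theorem c_rel_43 : allRange D.relOK 268345 3367 = true := by decide +kernel
theorem c_rel_44 : allRange D.relOK 271712 3310 = true := by decide +kernel
theorem c_rel_45 : allRange D.relOK 275022 3280 = true := by decide +kernel
theorem c_rel_46 : allRange D.relOK 278302 3261 = true := by decide +kernel
theorem c_rel_47 : allRange D.relOK 281563 3285 = true := by decide +kernel
theorem c_rel_48 : allRange D.relOK 284848 3261 = true := by decide +kernel
theorem c_rel_49 : allRange D.relOK 288109 3247 = true := by decide +kernel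
theorem c_rel_50 : allRange D.relOK 291356 3220 = true := by decide +kernel
theorem c_rel_51 : allRange D.relOK 294576 3211 = true := by decide +kernel
theorem c_rel_52 : allRange D.relOK 297787 3182 = true := by decide +kernel
theorem c_rel_53 : allRange D.relOK 300969 3141 = true := by decide +kernel
theorem c_rel_54 : allRange D.relOK 304110 3140 = true := by decide +kernel
theorem c_rel_55 : allRange D.relOK 307250 3156 = true := by decide +kernel
theorem c_rel_56 : allRange D.relOK 310406 3140 = true := by decide +kernel
theorem c_rel_57 : allRange D.relOK 313546 3103 = true := by decide +kernel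
theorem c_rel_58 : allRange D.relOK 316649 3087 = true := by decide +kernel
theorem c_rel_59 : allRange D.relOK 319736 3077 = true := by decide +kernel
theorem c_rel_60 : allRange D.relOK 322813 3148 = true := by decide +kernel
theorem c_rel_61 : allRange D.relOK 325961 2501 = true := by decide +kernel
theorem c_rel_62 : allRange D.relOK 328462 4509 = true := by decide +kernel
theorem c_rel_63 : allRange D.relOK 332971 4421 = true := by decide +kernel
theorem c_rel_64 : allRange D.relOK 337392 4401 = true := by decide +kernel
theorem c_rel_65 : allRange D.relOK 341793 4439 = true := by decide +kernel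
theorem c_rel_66 : allRange D.relOK 346232 4368 = true := by decide +kernel
theorem c_rel_67 : allRange D.relOK 350600 4443 = true := by decide +kernel
theorem c_rel_68 : allRange D.relOK 355043 4429 = true := by decide +kernel
theorem c_rel_69 : allRange D.relOK 359472 4574 = true := by decide +kernel
theorem c_rel_70 : allRange D.relOK 364046 1384 = true := by decide +kernel
theorem c_fin_0 : allGrid (T.finOK D) 0 1500 8 = true := by decide +kernel
theorem c_fin_1 : allGrid (T.finOK D) 1500 1500 8 = true := by decide +kernel
theorem c_fin_2 : allGrid (T.finOK D) 3000 1500 8 = true := by decide +kernel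
theorem c_fin_3 : allGrid (T.finOK D) 4500 1500 8 = true := by decide +kernel

end Cfsg.Agent.Lib.Helper4.TCD.C2HSB
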