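import Cfsg.Agent.Lib.Helper4.TC14
import Cfsg.Agent.Lib.Helper4.TCP_C2HS
import Cfsg.Agent.Lib.Helper4.TCD_C2HSR_D0

namespace Cfsg.Agent.Lib.Helper4.TCD.C2HSR

open Cfsg.Agent.Lib.Helper4.TC

set_option maxRecDepth 100000

noncomputable def col0_s_1_3 (c : Nat) : Nat := @Bool.rec (fun _ => Nat) (col0_1) (col0_2) (Nat.ble 2 c)
noncomputable def col0_s_0_3 (c : Nat) : Nat := @Bool.rec (fun _ => Nat) (col0_0) (col0_s_1_3 c) (Nat.ble 1 c)
noncomputable def col0 (i : Nat) : Nat := rdw 14 16383 (col0_s_0_3 (Nat.shiftRight i 12)) (Nat.land i 4095)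
noncomputable def col1_s_1_3 (c : Nat) : Nat := @Bool.rec (fun _ => Nat) (col1_1) (col1_2) (Nat.ble 2 c)
noncomputable def col1_s_0_3 (c : Nat) : Nat := @Bool.rec (fun _ => Nat) (col1_0) (col1_s_1_3 c) (Nat.ble 1 c)
noncomputable def col1 (i : Nat) : Nat := rdw 14 16383 (col1_s_0_3 (Nat.shiftRight i 12)) (Nat.land i 4095)
noncomputable def col2_s_1_3 (c : Nat) : Nat := @Bool.rec (fun _ => Nat) (col2_1) (col2_2) (Nat.ble 2 c)
noncomputable def col2_s_0_3 (c : Nat) : Nat := @Bool.rec (fun _ => Nat) (col2_0) (col2_s_1_3 c) (Nat.ble 1 c)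
noncomputable def col2 (i : Nat) : Nat := rdw 14 16383 (col2_s_0_3 (Nat.shiftRight i 12)) (Nat.land i 4095)
noncomputable def col3_s_1_3 (c : Nat) : Nat := @Bool.rec (fun _ => Nat) (col3_1) (col3_2) (Nat.ble 2 c)
noncomputable def col3_s_0_3 (c : Nat) : Nat := @Bool.rec (fun _ => Nat) (col3_0) (col3_s_1_3 c) (Nat.ble 1 c)
noncomputable def col3 (i : Nat) : Nat := rdw 14 16383 (col3_s_0_3 (Nat.shiftRight i 12)) (Nat.land i 4095)
noncomputable def col4_s_1_3 (c : Nat) : Nat := @Bool.rec (fun _ => Nat) (col4_1) (col4_2) (Nat.ble 2 c)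
noncomputable def col4_s_0_3 (c : Nat) : Nat := @Bool.rec (fun _ => Nat) (col4_0) (col4_s_1_3 c) (Nat.ble 1 c)
noncomputable def col4 (i : Nat) : Nat := rdw 14 16383 (col4_s_0_3 (Nat.shiftRight i 12)) (Nat.land i 4095)
noncomputable def col5_s_1_3 (c : Nat) : Nat := @Bool.rec (fun _ => Nat) (col5_1) (col5_2) (Nat.ble 2 c)
noncomputable def col5_s_0_3 (c : Nat) : Nat := @Bool.rec (fun _ => Nat) (col5_0) (col5_s_1_3 c) (Nat.ble 1 c)
noncomputable def col5 (i : Nat) : Nat := rdw 14 16383 (col5_s_0_3 (Nat.shiftRight i 12)) (Nat.land i 4095)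
noncomputable def col6_s_1_3 (c : Nat) : Nat := @Bool.rec (fun _ => Nat) (col6_1) (col6_2) (Nat.ble 2 c)
noncomputable def col6_s_0_3 (c : Nat) : Nat := @Bool.rec (fun _ => Nat) (col6_0) (col6_s_1_3 c) (Nat.ble 1 c)
noncomputable def col6 (i : Nat) : Nat := rdw 14 16383 (col6_s_0_3 (Nat.shiftRight i 12)) (Nat.land i 4095)
noncomputable def col7_s_1_3 (c : Nat) : Nat := @Bool.rec (fun _ => Nat) (col7_1) (col7_2) (Nat.ble 2 c)
noncomputable def col7_s_0_3 (c : Nat) : Nat := @Bool.rec (fun _ => Nat) (col7_0) (col7_s_1_3 c) (Nat.ble 1 c)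
noncomputable def col7 (i : Nat) : Nat := rdw 14 16383 (col7_s_0_3 (Nat.shiftRight i 12)) (Nat.land i 4095)
noncomputable def tblF (i x : Nat) : Nat := @Bool.rec (fun _ => Nat) (@Bool.rec (fun _ => Nat) (@Bool.rec (fun _ => Nat) (col0 i) (col1 i) (Nat.ble 1 x)) (@Bool.rec (fun _ => Nat) (col2 i) (col3 i) (Nat.ble 3 x)) (Nat.ble 2 x)) (@Bool.rec (fun _ => Nat) (@Bool.rec (fun _ => Nat) (col4 i) (col5 i) (Nat.ble 5 x)) (@Bool.rec (fun _ => Nat) (col6 i) (col7 i) (Nat.ble 7 x)) (Nat.ble 6 x)) (Nat.ble 4 x)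

noncomputable def D : Log :=
  { k := 8, inv := PC2HS.invR, nR := 0, rBase := fun _ => 0, rLen := fun _ => 0, RR := fun _ => 0,
    M := 0, nB := 0, F := 0, src := fun _ => 0, lt := fun _ => 0, tgt := fun _ => 0, rho := fun _ => 0, rot := fun _ => 0,
    off := fun _ => 0, len := fun _ => 0, pf := fun _ => 0, pd := fun _ => 0 }

noncomputable def T : Tab :=
  { N := 11200, nameOf := fun _ => 0, tbl := tblF, finF := fun _ _ => 0, finD := fun _ _ => 0, cls := fun _ => 0 }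

def rw0 : List Nat := [0, 0]
def rw1 : List Nat := [2, 2, 2, 2]
def rw2 : List Nat := [0, 2, 0, 2, 0, 2, 0, 2, 0, 2, 0, 2, 0, 2, 0, 2, 0, 2, 0, 2, 0, 2]
def rw3 : List Nat := [0, 2, 2, 0, 2, 2, 0, 2, 2, 0, 2, 2, 0, 2, 2, 0, 2, 2]
def rw4 : List Nat := [0, 2, 0, 2, 0, 3, 0, 2, 0, 2, 2, 0, 3, 0, 2, 0, 3, 0, 3]
def rw5 : List Nat := [4, 4]
def rw6 : List Nat := [0, 2, 4, 3, 0, 2, 4, 3]
def rw7 : List Nat := [2, 2, 4, 2, 2, 4, 3, 3, 4]
def rw8 : List Nat := [0, 4, 0, 4, 0, 4, 0, 4, 0, 4]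
def rw9 : List Nat := [0, 2, 0, 3, 4, 2, 0, 2, 0, 3, 4, 2, 6]
def rw10 : List Nat := [2, 4, 2, 4, 2, 4, 2, 4, 2, 4, 2, 4]
def rw11 : List Nat := [0, 4, 3, 4, 2, 4, 0, 4, 3, 4, 2, 4, 0, 4, 3, 4, 2, 4]
def rw12 : List Nat := [0, 3, 4, 0, 4, 0, 3, 4, 0, 4, 0, 3, 4, 0, 4, 0, 3, 4, 0, 4]
def rw13 : List Nat := [6, 6]
def rw14 : List Nat := [7, 1, 6, 0]
def rw15 : List Nat := [7, 3, 6, 2]
def rw16 : List Nat := [7, 5, 6, 4]
def realLit : List (List Nat) := [rw0, rw1, rw2, rw3, rw4, rw5, rw6, rw7, rw8, rw9, rw10, rw11, rw12, rw13, rw14, rw15, rw16]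
noncomputable def actR0 (i : Nat) : Nat := col1 (col1 (i))
theorem actR0_eq (i : Nat) : actR0 i = Tab.act T D rw0 i := rfl
noncomputable def actR1 (i : Nat) : Nat := col3 (col3 (col3 (col3 (i))))
theorem actR1_eq (i : Nat) : actR1 i = Tab.act T D rw1 i := rfl
noncomputable def actR2 (i : Nat) : Nat := col1 (col3 (col1 (col3 (col1 (col3 (col1 (col3 (col1 (col3 (col1 (col3 (col1 (col3 (col1 (col3 (col1 (col3 (col1 (col3 (col1 (col3 (i))))))))))))))))))))))
theorem actR2_eq (i : Nat) : actR2 i = Tab.act T D rw2 i := rfl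
noncomputable def actR3 (i : Nat) : Nat := col1 (col3 (col3 (col1 (col3 (col3 (col1 (col3 (col3 (col1 (col3 (col3 (col1 (col3 (col3 (col1 (col3 (col3 (i))))))))))))))))))
theorem actR3_eq (i : Nat) : actR3 i = Tab.act T D rw3 i := rfl
noncomputable def actR4 (i : Nat) : Nat := col1 (col3 (col1 (col3 (col1 (col2 (col1 (col3 (col1 (col3 (col3 (col1 (col2 (col1 (col3 (col1 (col2 (col1 (col2 (i)))))))))))))))))))
theorem actR4_eq (i : Nat) : actR4 i = Tab.act T D rw4 i := rfl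
noncomputable def actR5 (i : Nat) : Nat := col5 (col5 (i))
theorem actR5_eq (i : Nat) : actR5 i = Tab.act T D rw5 i := rfl
noncomputable def actR6 (i : Nat) : Nat := col1 (col3 (col5 (col2 (col1 (col3 (col5 (col2 (i))))))))
theorem actR6_eq (i : Nat) : actR6 i = Tab.act T D rw6 i := rfl
noncomputable def actR7 (i : Nat) : Nat := col3 (col3 (col5 (col3 (col3 (col5 (col2 (col2 (col5 (i)))))))))
theorem actR7_eq (i : Nat) : actR7 i = Tab.act T D rw7 i := rfl
noncomputable def actR8 (i : Nat) : Nat := col1 (col5 (col1 (col5 (col1 (col5 (col1 (col5 (col1 (col5 (i))))))))))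
theorem actR8_eq (i : Nat) : actR8 i = Tab.act T D rw8 i := rfl
noncomputable def actR9 (i : Nat) : Nat := col1 (col3 (col1 (col2 (col5 (col3 (col1 (col3 (col1 (col2 (col5 (col3 (col7 (i)))))))))))))
theorem actR9_eq (i : Nat) : actR9 i = Tab.act T D rw9 i := rfl
noncomputable def actR10 (i : Nat) : Nat := col3 (col5 (col3 (col5 (col3 (col5 (col3 (col5 (col3 (col5 (col3 (col5 (i))))))))))))
theorem actR10_eq (i : Nat) : actR10 i = Tab.act T D rw10 i := rfl
noncomputable def actR11 (i : Nat) : Nat := col1 (col5 (col2 (col5 (col3 (col5 (col1 (col5 (col2 (col5 (col3 (col5 (col1 (col5 (col2 (col5 (col3 (col5 (i))))))))))))))))))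
theorem actR11_eq (i : Nat) : actR11 i = Tab.act T D rw11 i := rfl
noncomputable def actR12 (i : Nat) : Nat := col1 (col2 (col5 (col1 (col5 (col1 (col2 (col5 (col1 (col5 (col1 (col2 (col5 (col1 (col5 (col1 (col2 (col5 (col1 (col5 (i))))))))))))))))))))
theorem actR12_eq (i : Nat) : actR12 i = Tab.act T D rw12 i := rfl
noncomputable def actR13 (i : Nat) : Nat := col7 (col7 (i))
theorem actR13_eq (i : Nat) : actR13 i = Tab.act T D rw13 i := rfl
noncomputable def actR14 (i : Nat) : Nat := col6 (col0 (col7 (col1 (i))))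
theorem actR14_eq (i : Nat) : actR14 i = Tab.act T D rw14 i := rfl
noncomputable def actR15 (i : Nat) : Nat := col6 (col2 (col7 (col3 (i))))
theorem actR15_eq (i : Nat) : actR15 i = Tab.act T D rw15 i := rfl
noncomputable def actR16 (i : Nat) : Nat := col6 (col4 (col7 (col5 (i))))
theorem actR16_eq (i : Nat) : actR16 i = Tab.act T D rw16 i := rfl

end Cfsg.Agent.Lib.Helper4.TCD.C2HSR
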