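import Cfsg.Agent.Lib.Helper4.TC11
import Cfsg.Agent.Lib.Helper4.TCD_C2HSR_Acc
import Cfsg.Agent.Lib.Helper4.TCD_C2HSL_D0

namespace Cfsg.Agent.Lib.Helper4.TCD.C2HSL

open Cfsg.Agent.Lib.Helper4.TC Cfsg.Agent.Lib.Helper4.TCD.C2HSR

set_option maxRecDepth 100000

noncomputable def st8_s_1_3 (c : Nat) : Nat := @Bool.rec (fun _ => Nat) (st8_1) (st8_2) (Nat.ble 2 c)
noncomputable def st8_s_0_3 (c : Nat) : Nat := @Bool.rec (fun _ => Nat) (st8_0) (st8_s_1_3 c) (Nat.ble 1 c)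
noncomputable def st8 (i : Nat) : Nat := rdw 14 16383 (st8_s_0_3 (Nat.shiftRight i 12)) (Nat.land i 4095)
noncomputable def st9_s_1_3 (c : Nat) : Nat := @Bool.rec (fun _ => Nat) (st9_1) (st9_2) (Nat.ble 2 c)
noncomputable def st9_s_0_3 (c : Nat) : Nat := @Bool.rec (fun _ => Nat) (st9_0) (st9_s_1_3 c) (Nat.ble 1 c)
noncomputable def st9 (i : Nat) : Nat := rdw 14 16383 (st9_s_0_3 (Nat.shiftRight i 12)) (Nat.land i 4095)
noncomputable def st10_s_1_3 (c : Nat) : Nat := @Bool.rec (fun _ => Nat) (st10_1) (st10_2) (Nat.ble 2 c)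
noncomputable def st10_s_0_3 (c : Nat) : Nat := @Bool.rec (fun _ => Nat) (st10_0) (st10_s_1_3 c) (Nat.ble 1 c)
noncomputable def st10 (i : Nat) : Nat := rdw 14 16383 (st10_s_0_3 (Nat.shiftRight i 12)) (Nat.land i 4095)
noncomputable def st11_s_1_3 (c : Nat) : Nat := @Bool.rec (fun _ => Nat) (st11_1) (st11_2) (Nat.ble 2 c)
noncomputable def st11_s_0_3 (c : Nat) : Nat := @Bool.rec (fun _ => Nat) (st11_0) (st11_s_1_3 c) (Nat.ble 1 c)
noncomputable def st11 (i : Nat) : Nat := rdw 14 16383 (st11_s_0_3 (Nat.shiftRight i 12)) (Nat.land i 4095)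
noncomputable def st12_s_1_3 (c : Nat) : Nat := @Bool.rec (fun _ => Nat) (st12_1) (st12_2) (Nat.ble 2 c)
noncomputable def st12_s_0_3 (c : Nat) : Nat := @Bool.rec (fun _ => Nat) (st12_0) (st12_s_1_3 c) (Nat.ble 1 c)
noncomputable def st12 (i : Nat) : Nat := rdw 14 16383 (st12_s_0_3 (Nat.shiftRight i 12)) (Nat.land i 4095)
noncomputable def levTab (i : Nat) : Nat := rdw 3 7 levTab_0 i
noncomputable def betaTab (i : Nat) : Nat := rdw 14 16383 betaTab_0 i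
noncomputable def nodeTab_s_1_3 (c : Nat) : Nat := @Bool.rec (fun _ => Nat) (nodeTab_1) (nodeTab_2) (Nat.ble 2 c)
noncomputable def nodeTab_s_0_3 (c : Nat) : Nat := @Bool.rec (fun _ => Nat) (nodeTab_0) (nodeTab_s_1_3 c) (Nat.ble 1 c)
noncomputable def nodeTab_s_4_6 (c : Nat) : Nat := @Bool.rec (fun _ => Nat) (nodeTab_4) (nodeTab_5) (Nat.ble 5 c)
noncomputable def nodeTab_s_3_6 (c : Nat) : Nat := @Bool.rec (fun _ => Nat) (nodeTab_3) (nodeTab_s_4_6 c) (Nat.ble 4 c)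
noncomputable def nodeTab_s_0_6 (c : Nat) : Nat := @Bool.rec (fun _ => Nat) (nodeTab_s_0_3 c) (nodeTab_s_3_6 c) (Nat.ble 3 c)
noncomputable def nodeTab (i : Nat) : Nat := rdw 36 68719476735 (nodeTab_s_0_6 (Nat.shiftRight i 11)) (Nat.land i 2047)
noncomputable def offTab (i : Nat) : Nat := rdw 14 16383 offTab_0 i
noncomputable def nTab (i : Nat) : Nat := rdw 14 16383 nTab_0 i
noncomputable def rootTab (i : Nat) : Nat := rdw 14 16383 rootTab_0 i
noncomputable def tabF (i p : Nat) : Nat := @Bool.rec (fun _ => Nat) (@Bool.rec (fun _ => Nat) (@Bool.rec (fun _ => Nat) (col1 p) (@Bool.rec (fun _ => Nat) (col0 p) (col3 p) (Nat.ble 2 i)) (Nat.ble 1 i)) (@Bool.rec (fun _ => Nat) (col2 p) (@Bool.rec (fun _ => Nat) (col5 p) (col4 p) (Nat.ble 5 i)) (Nat.ble 4 i)) (Nat.ble 3 i)) (@Bool.rec (fun _ => Nat) (@Bool.rec (fun _ => Nat) (col7 p) (@Bool.rec (fun _ => Nat) (col6 p) (st8 p) (Nat.ble 8 i)) (Nat.ble 7 i)) (@Bool.rec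 (fun _ => Nat) (@Bool.rec (fun _ => Nat) (st9 p) (st10 p) (Nat.ble 10 i)) (@Bool.rec (fun _ => Nat) (st11 p) (st12 p) (Nat.ble 12 i)) (Nat.ble 11 i)) (Nat.ble 9 i)) (Nat.ble 6 i)
def wAF : Nat → List Nat
  | 8 => [6, 2, 0, 2, 2, 4, 3, 4, 2, 4]
  | 9 => [8]
  | 10 => [4, 3, 9, 4, 3, 0, 4, 8, 2, 8, 2, 2, 0, 2]
  | 11 => [10]
  | 12 => []
  | _ => []
def wBF : Nat → List Nat
  | 8 => [0, 2, 0, 4, 2, 0, 2, 0, 3, 0, 4]
  | 9 => []
  | 10 => [0, 4, 3, 9, 4, 3, 4]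
  | 11 => []
  | 12 => [1]
  | _ => []
noncomputable def ptF (j idx : Nat) : Nat := Nat.land (nodeTab (Nat.add (offTab j) idx)) 16383
noncomputable def parF (j idx : Nat) : Nat := Nat.land (Nat.shiftRight (nodeTab (Nat.add (offTab j) idx)) 14) 16383
noncomputable def giF (j idx : Nat) : Nat := Nat.land (Nat.shiftRight (nodeTab (Nat.add (offTab j) idx)) 28) 15
noncomputable def depF (j idx : Nat) : Nat := Nat.shiftRight (nodeTab (Nat.add (offTab j) idx)) 32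

noncomputable def S : Sgs :=
  { N := 11200, k := 8, m := 13, tab := tabF, wA := wAF, wB := wBF, lev := levTab, r := 4, beta := betaTab,
    n := nTab, root := rootTab, pt := ptF, par := parF, gi := giF, dep := depF }

noncomputable def chk8 (p : Nat) : Bool := band (Nat.ble (Nat.succ (st8 p)) 11200) (Nat.beq (col7 (col3 (col1 (col3 (col3 (col5 (col2 (col5 (col3 (col5 (st8 p))))))))))) (col1 (col3 (col1 (col5 (col3 (col1 (col3 (col1 (col2 (col1 (col5 p))))))))))))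
theorem chk8_eq (p : Nat) : chk8 p = Sgs.permOK S 8 p := rfl
noncomputable def chk9 (p : Nat) : Bool := band (Nat.ble (Nat.succ (st9 p)) 11200) (Nat.beq (st8 (st9 p)) p)
theorem chk9_eq (p : Nat) : chk9 p = Sgs.permOK S 9 p := rfl
noncomputable def chk10 (p : Nat) : Bool := band (Nat.ble (Nat.succ (st10 p)) 11200) (Nat.beq (col5 (col2 (st9 (col5 (col2 (col1 (col5 (st8 (col3 (st8 (col3 (col3 (col1 (col3 (st10 p))))))))))))))) (col1 (col5 (col2 (st9 (col5 (col2 (col5 p))))))))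
theorem chk10_eq (p : Nat) : chk10 p = Sgs.permOK S 10 p := rfl
noncomputable def chk11 (p : Nat) : Bool := band (Nat.ble (Nat.succ (st11 p)) 11200) (Nat.beq (st10 (st11 p)) p)
theorem chk11_eq (p : Nat) : chk11 p = Sgs.permOK S 11 p := rfl
noncomputable def chk12 (p : Nat) : Bool := band (Nat.ble (Nat.succ (st12 p)) 11200) (Nat.beq (st12 p) (col0 p))
theorem chk12_eq (p : Nat) : chk12 p = Sgs.permOK S 12 p := rfl

end Cfsg.Agent.Lib.Helper4.TCD.C2HSL
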