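import Cfsg.Agent.Lib.Helper4.TC7
import Cfsg.Agent.Lib.Helper4.TCP_C2J2
import Cfsg.Agent.Lib.Helper4.TCD_C2J2B_D0

namespace Cfsg.Agent.Lib.Helper4.TCD.C2J2B

open Cfsg.Agent.Lib.Helper4.TC

set_option maxRecDepth 100000

noncomputable def Atab_s_1_3 (c : Nat) : Nat := @Bool.rec (fun _ => Nat) (Atab_1) (Atab_2) (Nat.ble 2 c)
noncomputable def Atab_s_0_3 (c : Nat) : Nat := @Bool.rec (fun _ => Nat) (Atab_0) (Atab_s_1_3 c) (Nat.ble 1 c)
noncomputable def Atab_s_3_5 (c : Nat) : Nat := @Bool.rec (fun _ => Nat) (Atab_3) (Atab_4) (Nat.ble 4 c)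
noncomputable def Atab_s_5_7 (c : Nat) : Nat := @Bool.rec (fun _ => Nat) (Atab_5) (Atab_6) (Nat.ble 6 c)
noncomputable def Atab_s_3_7 (c : Nat) : Nat := @Bool.rec (fun _ => Nat) (Atab_s_3_5 c) (Atab_s_5_7 c) (Nat.ble 5 c)
noncomputable def Atab_s_0_7 (c : Nat) : Nat := @Bool.rec (fun _ => Nat) (Atab_s_0_3 c) (Atab_s_3_7 c) (Nat.ble 3 c)
noncomputable def Atab_s_7_9 (c : Nat) : Nat := @Bool.rec (fun _ => Nat) (Atab_7) (Atab_8) (Nat.ble 8 c)
noncomputable def Atab_s_9_11 (c : Nat) : Nat := @Bool.rec (fun _ => Nat) (Atab_9) (Atab_10) (Nat.ble 10 c)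
noncomputable def Atab_s_7_11 (c : Nat) : Nat := @Bool.rec (fun _ => Nat) (Atab_s_7_9 c) (Atab_s_9_11 c) (Nat.ble 9 c)
noncomputable def Atab_s_11_13 (c : Nat) : Nat := @Bool.rec (fun _ => Nat) (Atab_11) (Atab_12) (Nat.ble 12 c)
noncomputable def Atab_s_13_15 (c : Nat) : Nat := @Bool.rec (fun _ => Nat) (Atab_13) (Atab_14) (Nat.ble 14 c)
noncomputable def Atab_s_11_15 (c : Nat) : Nat := @Bool.rec (fun _ => Nat) (Atab_s_11_13 c) (Atab_s_13_15 c) (Nat.ble 13 c)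
noncomputable def Atab_s_7_15 (c : Nat) : Nat := @Bool.rec (fun _ => Nat) (Atab_s_7_11 c) (Atab_s_11_15 c) (Nat.ble 11 c)
noncomputable def Atab_s_0_15 (c : Nat) : Nat := @Bool.rec (fun _ => Nat) (Atab_s_0_7 c) (Atab_s_7_15 c) (Nat.ble 7 c)
noncomputable def Atab_s_16_18 (c : Nat) : Nat := @Bool.rec (fun _ => Nat) (Atab_16) (Atab_17) (Nat.ble 17 c)
noncomputable def Atab_s_15_18 (c : Nat) : Nat := @Bool.rec (fun _ => Nat) (Atab_15) (Atab_s_16_18 c) (Nat.ble 16 c)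
noncomputable def Atab_s_18_20 (c : Nat) : Nat := @Bool.rec (fun _ => Nat) (Atab_18) (Atab_19) (Nat.ble 19 c)
noncomputable def Atab_s_20_22 (c : Nat) : Nat := @Bool.rec (fun _ => Nat) (Atab_20) (Atab_21) (Nat.ble 21 c)
noncomputable def Atab_s_18_22 (c : Nat) : Nat := @Bool.rec (fun _ => Nat) (Atab_s_18_20 c) (Atab_s_20_22 c) (Nat.ble 20 c)
noncomputable def Atab_s_15_22 (c : Nat) : Nat := @Bool.rec (fun _ => Nat) (Atab_s_15_18 c) (Atab_s_18_22 c) (Nat.ble 18 c)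
noncomputable def Atab_s_22_24 (c : Nat) : Nat := @Bool.rec (fun _ => Nat) (Atab_22) (Atab_23) (Nat.ble 23 c)
noncomputable def Atab_s_24_26 (c : Nat) : Nat := @Bool.rec (fun _ => Nat) (Atab_24) (Atab_25) (Nat.ble 25 c)
noncomputable def Atab_s_22_26 (c : Nat) : Nat := @Bool.rec (fun _ => Nat) (Atab_s_22_24 c) (Atab_s_24_26 c) (Nat.ble 24 c)
noncomputable def Atab_s_26_28 (c : Nat) : Nat := @Bool.rec (fun _ => Nat) (Atab_26) (Atab_27) (Nat.ble 27 c)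
noncomputable def Atab_s_28_30 (c : Nat) : Nat := @Bool.rec (fun _ => Nat) (Atab_28) (Atab_29) (Nat.ble 29 c)
noncomputable def Atab_s_26_30 (c : Nat) : Nat := @Bool.rec (fun _ => Nat) (Atab_s_26_28 c) (Atab_s_28_30 c) (Nat.ble 28 c)
noncomputable def Atab_s_22_30 (c : Nat) : Nat := @Bool.rec (fun _ => Nat) (Atab_s_22_26 c) (Atab_s_26_30 c) (Nat.ble 26 c)
noncomputable def Atab_s_15_30 (c : Nat) : Nat := @Bool.rec (fun _ => Nat) (Atab_s_15_22 c) (Atab_s_22_30 c) (Nat.ble 22 c)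
noncomputable def Atab_s_0_30 (c : Nat) : Nat := @Bool.rec (fun _ => Nat) (Atab_s_0_15 c) (Atab_s_15_30 c) (Nat.ble 15 c)
noncomputable def Atab (i : Nat) : Nat := rdw 34 17179869183 (Atab_s_0_30 (Nat.shiftRight i 11)) (Nat.land i 2047)
noncomputable def Btab_s_0_2 (c : Nat) : Nat := @Bool.rec (fun _ => Nat) (Btab_0) (Btab_1) (Nat.ble 1 c)
noncomputable def Btab_s_2_4 (c : Nat) : Nat := @Bool.rec (fun _ => Nat) (Btab_2) (Btab_3) (Nat.ble 3 c)
noncomputable def Btab_s_0_4 (c : Nat) : Nat := @Bool.rec (fun _ => Nat) (Btab_s_0_2 c) (Btab_s_2_4 c) (Nat.ble 2 c)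
noncomputable def Btab_s_4_6 (c : Nat) : Nat := @Bool.rec (fun _ => Nat) (Btab_4) (Btab_5) (Nat.ble 5 c)
noncomputable def Btab_s_6_8 (c : Nat) : Nat := @Bool.rec (fun _ => Nat) (Btab_6) (Btab_7) (Nat.ble 7 c)
noncomputable def Btab_s_4_8 (c : Nat) : Nat := @Bool.rec (fun _ => Nat) (Btab_s_4_6 c) (Btab_s_6_8 c) (Nat.ble 6 c)
noncomputable def Btab_s_0_8 (c : Nat) : Nat := @Bool.rec (fun _ => Nat) (Btab_s_0_4 c) (Btab_s_4_8 c) (Nat.ble 4 c)
noncomputable def Btab_s_8_10 (c : Nat) : Nat := @Bool.rec (fun _ => Nat) (Btab_8) (Btab_9) (Nat.ble 9 c)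
noncomputable def Btab_s_10_12 (c : Nat) : Nat := @Bool.rec (fun _ => Nat) (Btab_10) (Btab_11) (Nat.ble 11 c)
noncomputable def Btab_s_8_12 (c : Nat) : Nat := @Bool.rec (fun _ => Nat) (Btab_s_8_10 c) (Btab_s_10_12 c) (Nat.ble 10 c)
noncomputable def Btab_s_12_14 (c : Nat) : Nat := @Bool.rec (fun _ => Nat) (Btab_12) (Btab_13) (Nat.ble 13 c)
noncomputable def Btab_s_15_17 (c : Nat) : Nat := @Bool.rec (fun _ => Nat) (Btab_15) (Btab_16) (Nat.ble 16 c)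
noncomputable def Btab_s_14_17 (c : Nat) : Nat := @Bool.rec (fun _ => Nat) (Btab_14) (Btab_s_15_17 c) (Nat.ble 15 c)
noncomputable def Btab_s_12_17 (c : Nat) : Nat := @Bool.rec (fun _ => Nat) (Btab_s_12_14 c) (Btab_s_14_17 c) (Nat.ble 14 c)
noncomputable def Btab_s_8_17 (c : Nat) : Nat := @Bool.rec (fun _ => Nat) (Btab_s_8_12 c) (Btab_s_12_17 c) (Nat.ble 12 c)
noncomputable def Btab_s_0_17 (c : Nat) : Nat := @Bool.rec (fun _ => Nat) (Btab_s_0_8 c) (Btab_s_8_17 c) (Nat.ble 8 c)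
noncomputable def Btab (i : Nat) : Nat := rdw 33 8589934591 (Btab_s_0_17 (Nat.shiftRight i 11)) (Nat.land i 2047)
noncomputable def Ptab_s_0_2 (c : Nat) : Nat := @Bool.rec (fun _ => Nat) (Ptab_0) (Ptab_1) (Nat.ble 1 c)
noncomputable def Ptab_s_2_4 (c : Nat) : Nat := @Bool.rec (fun _ => Nat) (Ptab_2) (Ptab_3) (Nat.ble 3 c)
noncomputable def Ptab_s_0_4 (c : Nat) : Nat := @Bool.rec (fun _ => Nat) (Ptab_s_0_2 c) (Ptab_s_2_4 c) (Nat.ble 2 c)
noncomputable def Ptab_s_4_6 (c : Nat) : Nat := @Bool.rec (fun _ => Nat) (Ptab_4) (Ptab_5) (Nat.ble 5 c)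
noncomputable def Ptab_s_7_9 (c : Nat) : Nat := @Bool.rec (fun _ => Nat) (Ptab_7) (Ptab_8) (Nat.ble 8 c)
noncomputable def Ptab_s_6_9 (c : Nat) : Nat := @Bool.rec (fun _ => Nat) (Ptab_6) (Ptab_s_7_9 c) (Nat.ble 7 c)
noncomputable def Ptab_s_4_9 (c : Nat) : Nat := @Bool.rec (fun _ => Nat) (Ptab_s_4_6 c) (Ptab_s_6_9 c) (Nat.ble 6 c)
noncomputable def Ptab_s_0_9 (c : Nat) : Nat := @Bool.rec (fun _ => Nat) (Ptab_s_0_4 c) (Ptab_s_4_9 c) (Nat.ble 4 c)
noncomputable def Ptab_s_9_11 (c : Nat) : Nat := @Bool.rec (fun _ => Nat) (Ptab_9) (Ptab_10) (Nat.ble 10 c)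
noncomputable def Ptab_s_11_13 (c : Nat) : Nat := @Bool.rec (fun _ => Nat) (Ptab_11) (Ptab_12) (Nat.ble 12 c)
noncomputable def Ptab_s_9_13 (c : Nat) : Nat := @Bool.rec (fun _ => Nat) (Ptab_s_9_11 c) (Ptab_s_11_13 c) (Nat.ble 11 c)
noncomputable def Ptab_s_13_15 (c : Nat) : Nat := @Bool.rec (fun _ => Nat) (Ptab_13) (Ptab_14) (Nat.ble 14 c)
noncomputable def Ptab_s_16_18 (c : Nat) : Nat := @Bool.rec (fun _ => Nat) (Ptab_16) (Ptab_17) (Nat.ble 17 c)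
noncomputable def Ptab_s_15_18 (c : Nat) : Nat := @Bool.rec (fun _ => Nat) (Ptab_15) (Ptab_s_16_18 c) (Nat.ble 16 c)
noncomputable def Ptab_s_13_18 (c : Nat) : Nat := @Bool.rec (fun _ => Nat) (Ptab_s_13_15 c) (Ptab_s_15_18 c) (Nat.ble 15 c)
noncomputable def Ptab_s_9_18 (c : Nat) : Nat := @Bool.rec (fun _ => Nat) (Ptab_s_9_13 c) (Ptab_s_13_18 c) (Nat.ble 13 c)
noncomputable def Ptab_s_0_18 (c : Nat) : Nat := @Bool.rec (fun _ => Nat) (Ptab_s_0_9 c) (Ptab_s_9_18 c) (Nat.ble 9 c)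
noncomputable def Ptab_s_18_20 (c : Nat) : Nat := @Bool.rec (fun _ => Nat) (Ptab_18) (Ptab_19) (Nat.ble 19 c)
noncomputable def Ptab_s_20_22 (c : Nat) : Nat := @Bool.rec (fun _ => Nat) (Ptab_20) (Ptab_21) (Nat.ble 21 c)
noncomputable def Ptab_s_18_22 (c : Nat) : Nat := @Bool.rec (fun _ => Nat) (Ptab_s_18_20 c) (Ptab_s_20_22 c) (Nat.ble 20 c)
noncomputable def Ptab_s_22_24 (c : Nat) : Nat := @Bool.rec (fun _ => Nat) (Ptab_22) (Ptab_23) (Nat.ble 23 c)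
noncomputable def Ptab_s_25_27 (c : Nat) : Nat := @Bool.rec (fun _ => Nat) (Ptab_25) (Ptab_26) (Nat.ble 26 c)
noncomputable def Ptab_s_24_27 (c : Nat) : Nat := @Bool.rec (fun _ => Nat) (Ptab_24) (Ptab_s_25_27 c) (Nat.ble 25 c)
noncomputable def Ptab_s_22_27 (c : Nat) : Nat := @Bool.rec (fun _ => Nat) (Ptab_s_22_24 c) (Ptab_s_24_27 c) (Nat.ble 24 c)
noncomputable def Ptab_s_18_27 (c : Nat) : Nat := @Bool.rec (fun _ => Nat) (Ptab_s_18_22 c) (Ptab_s_22_27 c) (Nat.ble 22 c)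
noncomputable def Ptab_s_27_29 (c : Nat) : Nat := @Bool.rec (fun _ => Nat) (Ptab_27) (Ptab_28) (Nat.ble 28 c)
noncomputable def Ptab_s_30_32 (c : Nat) : Nat := @Bool.rec (fun _ => Nat) (Ptab_30) (Ptab_31) (Nat.ble 31 c)
noncomputable def Ptab_s_29_32 (c : Nat) : Nat := @Bool.rec (fun _ => Nat) (Ptab_29) (Ptab_s_30_32 c) (Nat.ble 30 c)
noncomputable def Ptab_s_27_32 (c : Nat) : Nat := @Bool.rec (fun _ => Nat) (Ptab_s_27_29 c) (Ptab_s_29_32 c) (Nat.ble 29 c)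
noncomputable def Ptab_s_32_34 (c : Nat) : Nat := @Bool.rec (fun _ => Nat) (Ptab_32) (Ptab_33) (Nat.ble 33 c)
noncomputable def Ptab_s_35_37 (c : Nat) : Nat := @Bool.rec (fun _ => Nat) (Ptab_35) (Ptab_36) (Nat.ble 36 c)
noncomputable def Ptab_s_34_37 (c : Nat) : Nat := @Bool.rec (fun _ => Nat) (Ptab_34) (Ptab_s_35_37 c) (Nat.ble 35 c)
noncomputable def Ptab_s_32_37 (c : Nat) : Nat := @Bool.rec (fun _ => Nat) (Ptab_s_32_34 c) (Ptab_s_34_37 c) (Nat.ble 34 c)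
noncomputable def Ptab_s_27_37 (c : Nat) : Nat := @Bool.rec (fun _ => Nat) (Ptab_s_27_32 c) (Ptab_s_32_37 c) (Nat.ble 32 c)
noncomputable def Ptab_s_18_37 (c : Nat) : Nat := @Bool.rec (fun _ => Nat) (Ptab_s_18_27 c) (Ptab_s_27_37 c) (Nat.ble 27 c)
noncomputable def Ptab_s_0_37 (c : Nat) : Nat := @Bool.rec (fun _ => Nat) (Ptab_s_0_18 c) (Ptab_s_18_37 c) (Nat.ble 18 c)
noncomputable def Ptab (i : Nat) : Nat := rdw 17 131071 (Ptab_s_0_37 (Nat.shiftRight i 12)) (Nat.land i 4095)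
noncomputable def RRtab (i : Nat) : Nat := rdw 4 15 RRtab_0 i
noncomputable def rBtab (i : Nat) : Nat := rdw 9 511 rBtab_0 i
noncomputable def rLtab (i : Nat) : Nat := rdw 4 15 rLtab_0 i
noncomputable def nameTab (i : Nat) : Nat := rdw 15 32767 nameTab_0 i
noncomputable def col0 (i : Nat) : Nat := rdw 8 255 col0_0 i
noncomputable def col1 (i : Nat) : Nat := rdw 8 255 col1_0 i
noncomputable def col2 (i : Nat) : Nat := rdw 8 255 col2_0 i
noncomputable def col3 (i : Nat) : Nat := rdw 8 255 col3_0 i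
noncomputable def col4 (i : Nat) : Nat := rdw 8 255 col4_0 i
noncomputable def col5 (i : Nat) : Nat := rdw 8 255 col5_0 i
noncomputable def col6 (i : Nat) : Nat := rdw 8 255 col6_0 i
noncomputable def col7 (i : Nat) : Nat := rdw 8 255 col7_0 i
noncomputable def finTab (i : Nat) : Nat := rdw 17 131071 finTab_0 i
noncomputable def clsTab_s_0_2 (c : Nat) : Nat := @Bool.rec (fun _ => Nat) (clsTab_0) (clsTab_1) (Nat.ble 1 c)
noncomputable def clsTab_s_2_4 (c : Nat) : Nat := @Bool.rec (fun _ => Nat) (clsTab_2) (clsTab_3) (Nat.ble 3 c)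
noncomputable def clsTab_s_0_4 (c : Nat) : Nat := @Bool.rec (fun _ => Nat) (clsTab_s_0_2 c) (clsTab_s_2_4 c) (Nat.ble 2 c)
noncomputable def clsTab (i : Nat) : Nat := rdw 8 255 (clsTab_s_0_4 (Nat.shiftRight i 13)) (Nat.land i 8191)
noncomputable def oparTab (i : Nat) : Nat := rdw 8 255 oparTab_0 i
noncomputable def olabTab (i : Nat) : Nat := rdw 2 3 olabTab_0 i
noncomputable def srcF (t : Nat) : Nat := Nat.land (Atab t) 32767
noncomputable def tgtF (t : Nat) : Nat := Nat.land (Nat.shiftRight (Atab t) 15) 32767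
noncomputable def ltF (t : Nat) : Nat := Nat.shiftRight (Atab t) 30
noncomputable def rhoF (t : Nat) : Nat := Nat.land (Btab (Nat.sub t 25204)) 63
noncomputable def rotF (t : Nat) : Nat := Nat.land (Nat.shiftRight (Btab (Nat.sub t 25204)) 6) 15
noncomputable def lenF (t : Nat) : Nat := Nat.land (Nat.shiftRight (Btab (Nat.sub t 25204)) 10) 31
noncomputable def offF (t : Nat) : Nat := Nat.shiftRight (Btab (Nat.sub t 25204)) 15
noncomputable def pfF (j : Nat) : Nat := Nat.shiftRight (Ptab j) 1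
noncomputable def pdF (j : Nat) : Nat := Nat.land (Ptab j) 1
noncomputable def tblF (i x : Nat) : Nat := @Bool.rec (fun _ => Nat) (@Bool.rec (fun _ => Nat) (@Bool.rec (fun _ => Nat) (col0 i) (col1 i) (Nat.ble 1 x)) (@Bool.rec (fun _ => Nat) (col2 i) (col3 i) (Nat.ble 3 x)) (Nat.ble 2 x)) (@Bool.rec (fun _ => Nat) (@Bool.rec (fun _ => Nat) (col4 i) (col5 i) (Nat.ble 5 x)) (@Bool.rec (fun _ => Nat) (col6 i) (col7 i) (Nat.ble 7 x)) (Nat.ble 6 x)) (Nat.ble 4 x)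
noncomputable def finE (i x : Nat) : Nat := finTab (Nat.add (Nat.mul i 8) x)
noncomputable def finFF (i x : Nat) : Nat := Nat.shiftRight (finE i x) 1
noncomputable def finDF (i x : Nat) : Nat := Nat.land (finE i x) 1

noncomputable def D : Log :=
  { k := 8, inv := invE 8 PC2J2.invR, nR := 42, rBase := rBtab, rLen := rLtab, RR := RRtab,
    M := 25200, nB := 4, F := 59993, src := srcF, lt := ltF, tgt := tgtF, rho := rhoF, rot := rotF,
    off := offF, len := lenF, pf := pfF, pd := pdF }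

noncomputable def T : Tab :=
  { N := 200, nameOf := nameTab, tbl := tblF, finF := finFF, finD := finDF, cls := clsTab }

def subs : List (List Nat) := [
  [0],
  [2] ]

def rw0 : List Nat := [0, 0, 0, 0, 0, 0, 0]
def rw1 : List Nat := [0, 0, 2, 1, 2, 0, 3, 0, 2, 1, 2]
def rw2 : List Nat := [0, 0, 0, 2, 0, 0, 0, 2, 0, 0, 0, 2]
def rw3 : List Nat := [0, 0, 2, 2, 0, 0, 3, 3, 0, 0, 3, 3]
def rw4 : List Nat := [4, 4, 7]
def rw5 : List Nat := [0, 4, 3, 4, 2, 1, 2, 1, 1, 4, 2]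
def rw6 : List Nat := [0, 4, 1, 3, 1, 3, 0, 4, 1, 3, 1, 3, 6]
def rw7 : List Nat := [6, 6]
def rw8 : List Nat := [7, 1, 6, 0]
def rw9 : List Nat := [7, 3, 6, 2]
def rw10 : List Nat := [7, 5, 6, 4]
def realLit : List (List Nat) := [rw0, rw1, rw2, rw3, rw4, rw5, rw6, rw7, rw8, rw9, rw10]
noncomputable def actR0 (i : Nat) : Nat := col1 (col1 (col1 (col1 (col1 (col1 (col1 (i)))))))
theorem actR0_eq (i : Nat) : actR0 i = Tab.act T D rw0 i := rfl
noncomputable def actR1 (i : Nat) : Nat := col1 (col1 (col3 (col0 (col3 (col1 (col2 (col1 (col3 (col0 (col3 (i)))))))))))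
theorem actR1_eq (i : Nat) : actR1 i = Tab.act T D rw1 i := rfl
noncomputable def actR2 (i : Nat) : Nat := col1 (col1 (col1 (col3 (col1 (col1 (col1 (col3 (col1 (col1 (col1 (col3 (i))))))))))))
theorem actR2_eq (i : Nat) : actR2 i = Tab.act T D rw2 i := rfl
noncomputable def actR3 (i : Nat) : Nat := col1 (col1 (col3 (col3 (col1 (col1 (col2 (col2 (col1 (col1 (col2 (col2 (i))))))))))))
theorem actR3_eq (i : Nat) : actR3 i = Tab.act T D rw3 i := rfl
noncomputable def actR4 (i : Nat) : Nat := col5 (col5 (col6 (i)))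
theorem actR4_eq (i : Nat) : actR4 i = Tab.act T D rw4 i := rfl
noncomputable def actR5 (i : Nat) : Nat := col1 (col5 (col2 (col5 (col3 (col0 (col3 (col0 (col0 (col5 (col3 (i)))))))))))
theorem actR5_eq (i : Nat) : actR5 i = Tab.act T D rw5 i := rfl
noncomputable def actR6 (i : Nat) : Nat := col1 (col5 (col0 (col2 (col0 (col2 (col1 (col5 (col0 (col2 (col0 (col2 (col7 (i)))))))))))))
theorem actR6_eq (i : Nat) : actR6 i = Tab.act T D rw6 i := rfl
noncomputable def actR7 (i : Nat) : Nat := col7 (col7 (i))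
theorem actR7_eq (i : Nat) : actR7 i = Tab.act T D rw7 i := rfl
noncomputable def actR8 (i : Nat) : Nat := col6 (col0 (col7 (col1 (i))))
theorem actR8_eq (i : Nat) : actR8 i = Tab.act T D rw8 i := rfl
noncomputable def actR9 (i : Nat) : Nat := col6 (col2 (col7 (col3 (i))))
theorem actR9_eq (i : Nat) : actR9 i = Tab.act T D rw9 i := rfl
noncomputable def actR10 (i : Nat) : Nat := col6 (col4 (col7 (col5 (i))))
theorem actR10_eq (i : Nat) : actR10 i = Tab.act T D rw10 i := rfl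

end Cfsg.Agent.Lib.Helper4.TCD.C2J2B
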