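import Cfsg.Agent.Lib.Helper4.TCD_C2J2B_Acc

namespace Cfsg.Agent.Lib.Helper4.TCD.C2J2B

open Cfsg.Agent.Lib.Helper4.TC

set_option maxRecDepth 100000
set_option Elab.async false

theorem c_zero : D.zeroOK = true := by decide +kernel
theorem c_base : allBelow D.baseOK 4 = true := by decide +kernel
theorem c_let : allBelow D.letOK 8 = true := by decide +kernel
theorem c_cls0 : T.cls 0 = 0 := by decide +kernel
theorem c_name0 : T.nameOf 0 = 0 := by decide +kernel
theorem c_tab : D.relTabOK 0 (baseRels 8 PC2J2.invR PC2J2.P.real subs ++ (baseRels 8 PC2J2.invR PC2J2.P.real subs).map (invWord D.inv)) = true := by decide +kernel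
theorem c_real : PC2J2.P.real = realLit := by decide +kernel
theorem c_subfix : subs.all (fun u => Nat.beq (Tab.act T D u 0) 0) = true := by decide +kernel
theorem c_subs : subs.all (fun u => u.all (fun x => Nat.ble (Nat.succ x) 8)) = true := by decide +kernel
theorem c_names_0 : allRange D.nameOK 1 25199 = true := by decide +kernel
theorem c_cls_0 : allRange (T.clsOK D) 1 15000 = true := by decide +kernel
theorem c_cls_1 : allRange (T.clsOK D) 15001 10199 = true := by decide +kernel
theorem c_rep_0 : allRange (T.repOK D) 0 200 = true := by decide +kernel
theorem c_rel_0 : allRange D.relOK 25204 3584 = true := by decide +kernel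
theorem c_rel_1 : allRange D.relOK 28788 3138 = true := by decide +kernel
theorem c_rel_2 : allRange D.relOK 31926 2583 = true := by decide +kernel
theorem c_rel_3 : allRange D.relOK 34509 2166 = true := by decide +kernel
theorem c_rel_4 : allRange D.relOK 36675 2082 = true := by decide +kernel
theorem c_rel_5 : allRange D.relOK 38757 3434 = true := by decide +kernel
theorem c_rel_6 : allRange D.relOK 42191 3223 = true := by decide +kernel
theorem c_rel_7 : allRange D.relOK 45414 2708 = true := by decide +kernel
theorem c_rel_8 : allRange D.relOK 48122 2883 = true := by decide +kernel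
theorem c_rel_9 : allRange D.relOK 51005 2825 = true := by decide +kernel
theorem c_rel_10 : allRange D.relOK 53830 2841 = true := by decide +kernel
theorem c_rel_11 : allRange D.relOK 56671 2559 = true := by decide +kernel
theorem c_rel_12 : allRange D.relOK 59230 763 = true := by decide +kernel
theorem c_fin_0 : allGrid (T.finOK D) 0 200 8 = true := by decide +kernel
theorem c_perm_0 : allGrid (T.permOK1 D) 0 200 8 = true := by decide +kernel
theorem c_act0_0 : allRange (fun i => Nat.beq (actR0 i) i) 0 200 = true := by decide +kernel
theorem c_act1_0 : allRange (fun i => Nat.beq (actR1 i) i) 0 200 = true := by decide +kernel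
theorem c_act2_0 : allRange (fun i => Nat.beq (actR2 i) i) 0 200 = true := by decide +kernel
theorem c_act3_0 : allRange (fun i => Nat.beq (actR3 i) i) 0 200 = true := by decide +kernel
theorem c_act4_0 : allRange (fun i => Nat.beq (actR4 i) i) 0 200 = true := by decide +kernel
theorem c_act5_0 : allRange (fun i => Nat.beq (actR5 i) i) 0 200 = true := by decide +kernel
theorem c_act6_0 : allRange (fun i => Nat.beq (actR6 i) i) 0 200 = true := by decide +kernel
theorem c_act7_0 : allRange (fun i => Nat.beq (actR7 i) i) 0 200 = true := by decide +kernel
theorem c_act8_0 : allRange (fun i => Nat.beq (actR8 i) i) 0 200 = true := by decide +kernel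
theorem c_act9_0 : allRange (fun i => Nat.beq (actR9 i) i) 0 200 = true := by decide +kernel
theorem c_act10_0 : allRange (fun i => Nat.beq (actR10 i) i) 0 200 = true := by decide +kernel

end Cfsg.Agent.Lib.Helper4.TCD.C2J2B
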