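namespace Cfsg.Agent.Lib.Helper4.TCD.C2J2R

noncomputable def col0_0 : Nat := nat_lit 0xb3b2a7a3b0aea4a5c4c59c9ec6c7bebfc0c174736f6b7d697f6865c2629493c35e96716d5c8b6461835386528d8c4ba1aab987bcbd47a0a9bbbaaca8b884b5b45b427e5d417c403f7aab7badb7b678593a7656808135b188338eaf89328f4e4f665a9f30999d2f924ca62ba22a43753c292879274a4626679b9a4d779897209591901f8a5485823e3d706c5719171615517213226e6a1263603b5f5845490e5550141b0d36233948440b31371c24093810082e2534061e2d2c0f05211d1a18020c11010a03070400
noncomputable def col1_0 : Nat := nat_lit 0xbabbbebfa8acb6b7b8b993948f8e968b7b7a8988c7c671c36dc27c8d7e97908cc55ec0c1c45c989165bc62bd4f4e634b4aa648aaa96047466a6e9b9aa2446c70959d428a9f417374af85b1827d7f55794c7659b5b436a53eb333a43db232b0ae5067ada130aba02f2da784a38766782c3c7528439e9c372768694d5f99532a2092522b1f5a86838180403f582e7721181c2372136f6b1d646115100f5d5b57565451141a22340c4945110b1b250a3b093a393826353106170e2924071e04191602120d0103080500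
noncomputable def col2_0 : Nat := nat_lit 0xc7c6bfbea1a0b1af8d8cbcbd89888683b9b8b2b3c2c369c468c58fbb8e7473ba7fa2aaa97da6b5b4536d5271c1c09291ad5e9793949998ab958aaeb05c90636082814e85804fb7b63ea73da37a7b3b567239386a6e77339c9da4329e9fa59b9a31543065ac2f62a83a2b6b2a6f2c2d29517935675d5b572642412459204547961f494b8b1e878464617e7c5a785f767514131655706c66403f10211a48445818110d504d0c194c4a46430f0a123c23282e340937361c2708051d2522061b021715010e0b03070400
noncomputable def col3_0 : Nat := nat_lit 0xc7c6aeb0b2b39b9ac5c4bcbdaca8b7b68180a1a0b4b5c18cc08d976390a5a4607ea26a6e7ca6c3c26b6c6f706968929195488f939499988aadabbfbe448ebbba42b98441b8878683a73ea33d7a7b563b723938aaa9779c335b739e325d74b1af5431644089613f883a96538b523c4c29517834669f9d5725828524214520462b491f4a2a1e4f4e302f7f7d1a795f767514135516716d67656217595a5e5c581811500d4d190c2d4b47430e120a2c222808350737361b272e1d052623041c1510020b0f0103090600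
noncomputable def col4_0 : Nat := nat_lit 0xc3c2b3b2c6c7b5b4babb8b96bfbe9e9c7e7cc0c1c4c591a798a36e656a616462ae6d5c5eb07157776fb86bb9979060b19abd50474b63af9b45494448bc55437579665867785f51724db676b73c4c8486a17f89363781a65b9daba25d9fad313b8783a8aa99aca99285a570a46c293a82a04a95462635808a24397d7b94548f8d93568e8c881d2e1b221a217a695a4f347473531e1219681118421c230e17590d1652384e2d403e0b1525412c3f3d33302b28200609322f08052a27041f07140f0c13100a02000301
noncomputable def col5_0 : Nat := nat_lit 0xc2c3b2b3c7c6b4b5bbba968bbebf9c9e7c7ec1c0c5c498a391a76a626e646165b0715e5cae6d77576bb96fb8909763af9bbc554b4760b19a49454844bd50754367785f796658725176b74db64c3c8783a07d88373680a25d9fada65b9dab3b318486aca992a8aa9982a46ca5703a2985a1468a4a3526819539247f7a93568e8c94548f8d892e1d221b211a7b68594e2573745238191269181141231c170e5a160d531e4f2c3f3d150b34422d403e322f2a271f0906333005082b2807200413100a140f0c01030002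
noncomputable def col6_0 : Nat := nat_lit 0xc6c7c4c5c2c3c0c1bebfbcbdbabbb8b9b6b7b4b5b2b3afaeb1b0aba8ada9aaaca3a2a4a5a7a6a0a19d9c9f9e9a9b9291908b8a93949998978e8f8c8d9695888984838287868580817d7c7f7e7a7b6766574d437374516d6c6b6a71706f6e68697978626160656463585c5b5e5d595a5f77545056525372554e4f763c474645444b4a49487541423f403d3e4c3129241e3637262532333b2f301d2c2d2a2b3a27283534391c1b1a1f20382e23222112110e0d0b131419180f1017160a150c06050409080700010203
noncomputable def col7_0 : Nat := nat_lit 0xc6c7c4c5c2c3c0c1bebfbcbdbabbb8b9b6b7b4b5b2b3afaeb1b0aba8ada9aaaca3a2a4a5a7a6a0a19d9c9f9e9a9b9291908b8a93949998978e8f8c8d9695888984838287868580817d7c7f7e7a7b6766574d437374516d6c6b6a71706f6e68697978626160656463585c5b5e5d595a5f77545056525372554e4f763c474645444b4a49487541423f403d3e4c3129241e3637262532333b2f301d2c2d2a2b3a27283534391c1b1a1f20382e23222112110e0d0b131419180f1017160a150c06050409080700010203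

end Cfsg.Agent.Lib.Helper4.TCD.C2J2R
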