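import Cfsg.Agent.Lib.Helper4.TC11
import Cfsg.Agent.Lib.Helper4.TCD_C2J2R_Acc
import Cfsg.Agent.Lib.Helper4.TCD_C2J2L_D0

namespace Cfsg.Agent.Lib.Helper4.TCD.C2J2L

open Cfsg.Agent.Lib.Helper4.TC Cfsg.Agent.Lib.Helper4.TCD.C2J2R

set_option maxRecDepth 100000

noncomputable def st8 (i : Nat) : Nat := rdw 8 255 st8_0 i
noncomputable def st9 (i : Nat) : Nat := rdw 8 255 st9_0 i
noncomputable def st10 (i : Nat) : Nat := rdw 8 255 st10_0 i
noncomputable def st11 (i : Nat) : Nat := rdw 8 255 st11_0 i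
noncomputable def st12 (i : Nat) : Nat := rdw 8 255 st12_0 i
noncomputable def st13 (i : Nat) : Nat := rdw 8 255 st13_0 i
noncomputable def st14 (i : Nat) : Nat := rdw 8 255 st14_0 i
noncomputable def st15 (i : Nat) : Nat := rdw 8 255 st15_0 i
noncomputable def levTab (i : Nat) : Nat := rdw 3 7 levTab_0 i
noncomputable def betaTab (i : Nat) : Nat := rdw 8 255 betaTab_0 i
noncomputable def nodeTab (i : Nat) : Nat := rdw 24 16777215 nodeTab_0 i
noncomputable def offTab (i : Nat) : Nat := rdw 9 511 offTab_0 i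
noncomputable def nTab (i : Nat) : Nat := rdw 8 255 nTab_0 i
noncomputable def rootTab (i : Nat) : Nat := rdw 8 255 rootTab_0 i
noncomputable def tabF (i p : Nat) : Nat := @Bool.rec (fun _ => Nat) (@Bool.rec (fun _ => Nat) (@Bool.rec (fun _ => Nat) (@Bool.rec (fun _ => Nat) (col1 p) (col0 p) (Nat.ble 1 i)) (@Bool.rec (fun _ => Nat) (col3 p) (col2 p) (Nat.ble 3 i)) (Nat.ble 2 i)) (@Bool.rec (fun _ => Nat) (@Bool.rec (fun _ => Nat) (col5 p) (col4 p) (Nat.ble 5 i)) (@Bool.rec (fun _ => Nat) (col7 p) (col6 p) (Nat.ble 7 i)) (Nat.ble 6 i)) (Nat.ble 4 i)) (@Bool.rec (fun _ => Nat) (@Bool.rec (fun _ => Nat) (@Bool.rec (fun _ => Nat) (st8 p) (st9 p) (Nat.ble 9 i)) (@Bool.rec (fun _ => Nat) (st10 p) (st11 p) (Nat.ble 11 i)) (Nat.ble 10 i)) (@Bool.rec (fun _ => Nat) (@Bool.rec (fun _ => Nat) (st12 p) (st13 p) (Nat.ble 13 i)) (@Bool.rec (fun _ => Nat) (st14 p) (st15 p) (Nat.ble 15 i)) (Nat.ble 14 i)) (Nat.ble 12 i)) (Nat.ble 8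 i)
def wAF : Nat → List Nat
  | 8 => [2, 4, 1, 4]
  | 9 => [8]
  | 10 => [1, 2]
  | 11 => [10]
  | 12 => [4, 9, 0, 4, 10, 0, 2, 0, 0, 11, 0]
  | 13 => [9, 5, 0, 2, 11, 12, 1]
  | 14 => [8, 5, 8, 8, 12, 1]
  | 15 => [14]
  | _ => []
def wBF : Nat → List Nat
  | 8 => [6, 2, 1, 1, 4]
  | 9 => []
  | 10 => [3, 9, 2]
  | 11 => []
  | 12 => [8, 3, 0, 5]
  | 13 => [12, 10, 5]
  | 14 => [13, 8, 5]
  | 15 => []
  | _ => []
noncomputable def ptF (j idx : Nat) : Nat := Nat.land (nodeTab (Nat.add (offTab j) idx)) 255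
noncomputable def parF (j idx : Nat) : Nat := Nat.land (Nat.shiftRight (nodeTab (Nat.add (offTab j) idx)) 8) 255
noncomputable def giF (j idx : Nat) : Nat := Nat.land (Nat.shiftRight (nodeTab (Nat.add (offTab j) idx)) 16) 31
noncomputable def depF (j idx : Nat) : Nat := Nat.shiftRight (nodeTab (Nat.add (offTab j) idx)) 21

noncomputable def S : Sgs :=
  { N := 200, k := 8, m := 16, tab := tabF, wA := wAF, wB := wBF, lev := levTab, r := 5, beta := betaTab,
    n := nTab, root := rootTab, pt := ptF, par := parF, gi := giF, dep := depF }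

noncomputable def chk8 (p : Nat) : Bool := band (Nat.ble (Nat.succ (st8 p)) 200) (Nat.beq (col3 (col5 (col0 (col5 (st8 p))))) (col7 (col3 (col0 (col0 (col5 p))))))
theorem chk8_eq (p : Nat) : chk8 p = Sgs.permOK S 8 p := rfl
noncomputable def chk9 (p : Nat) : Bool := band (Nat.ble (Nat.succ (st9 p)) 200) (Nat.beq (st8 (st9 p)) p)
theorem chk9_eq (p : Nat) : chk9 p = Sgs.permOK S 9 p := rfl
noncomputable def chk10 (p : Nat) : Bool := band (Nat.ble (Nat.succ (st10 p)) 200) (Nat.beq (col0 (col3 (st10 p))) (col2 (st9 (col3 p))))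
theorem chk10_eq (p : Nat) : chk10 p = Sgs.permOK S 10 p := rfl
noncomputable def chk11 (p : Nat) : Bool := band (Nat.ble (Nat.succ (st11 p)) 200) (Nat.beq (st10 (st11 p)) p)
theorem chk11_eq (p : Nat) : chk11 p = Sgs.permOK S 11 p := rfl
noncomputable def chk12 (p : Nat) : Bool := band (Nat.ble (Nat.succ (st12 p)) 200) (Nat.beq (col5 (st9 (col1 (col5 (st10 (col1 (col3 (col1 (col1 (st11 (col1 (st12 p)))))))))))) (st8 (col2 (col1 (col4 p)))))
theorem chk12_eq (p : Nat) : chk12 p = Sgs.permOK S 12 p := rfl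
noncomputable def chk13 (p : Nat) : Bool := band (Nat.ble (Nat.succ (st13 p)) 200) (Nat.beq (st9 (col4 (col1 (col3 (st11 (st12 (col0 (st13 p)))))))) (st12 (st10 (col4 p))))
theorem chk13_eq (p : Nat) : chk13 p = Sgs.permOK S 13 p := rfl
noncomputable def chk14 (p : Nat) : Bool := band (Nat.ble (Nat.succ (st14 p)) 200) (Nat.beq (st8 (col4 (st8 (st8 (st12 (col0 (st14 p))))))) (st13 (st8 (col4 p))))
theorem chk14_eq (p : Nat) : chk14 p = Sgs.permOK S 14 p := rfl
noncomputable def chk15 (p : Nat) : Bool := band (Nat.ble (Nat.succ (st15 p)) 200) (Nat.beq (st14 (st15 p)) p)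
theorem chk15_eq (p : Nat) : chk15 p = Sgs.permOK S 15 p := rfl

end Cfsg.Agent.Lib.Helper4.TCD.C2J2L
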