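import Cfsg.Agent.Lib.Helper4.TCD_C2J2R_Acc

namespace Cfsg.Agent.Lib.Helper4.TCD.C2J2R

open Cfsg.Agent.Lib.Helper4.TC

set_option maxRecDepth 100000
set_option Elab.async false

theorem c_let : allBelow D.letOK 8 = true := by decide +kernel
theorem c_real : PC2J2.P.real = realLit := by decide +kernel
theorem c_perm_0 : allGrid (T.permOK1 D) 0 200 8 = true := by decide +kernel
theorem c_act0_0 : allRange (fun i => Nat.beq (actR0 i) i) 0 200 = true := by decide +kernel
theorem c_act1_0 : allRange (fun i => Nat.beq (actR1 i) i) 0 200 = true := by decide +kernel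
theorem c_act2_0 : allRange (fun i => Nat.beq (actR2 i) i) 0 200 = true := by decide +kernel
theorem c_act3_0 : allRange (fun i => Nat.beq (actR3 i) i) 0 200 = true := by decide +kernel
theorem c_act4_0 : allRange (fun i => Nat.beq (actR4 i) i) 0 200 = true := by decide +kernel
theorem c_act5_0 : allRange (fun i => Nat.beq (actR5 i) i) 0 200 = true := by decide +kernel
theorem c_act6_0 : allRange (fun i => Nat.beq (actR6 i) i) 0 200 = true := by decide +kernel
theorem c_act7_0 : allRange (fun i => Nat.beq (actR7 i) i) 0 200 = true := by decide +kernel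
theorem c_act8_0 : allRange (fun i => Nat.beq (actR8 i) i) 0 200 = true := by decide +kernel
theorem c_act9_0 : allRange (fun i => Nat.beq (actR9 i) i) 0 200 = true := by decide +kernel
theorem c_act10_0 : allRange (fun i => Nat.beq (actR10 i) i) 0 200 = true := by decide +kernel

end Cfsg.Agent.Lib.Helper4.TCD.C2J2R
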