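namespace Cfsg.Agent.Lib.Helper4.TCD.C2M12L

noncomputable def st8_0 : Nat := nat_lit 0xbd6d49c64e7c16a6b0e64a0a410c20
noncomputable def st9_0 : Nat := nat_lit 0xbd9d3a4942354275c52863c851c1a0
noncomputable def st10_0 : Nat := nat_lit 0xbdab2650d0410530a92f3c46e2b560
noncomputable def st11_0 : Nat := nat_lit 0xbd8943b10d78e12119319a8b572c20
noncomputable def st12_0 : Nat := nat_lit 0xbdaa42c6487998d52d303ba7410c20
noncomputable def st13_0 : Nat := nat_lit 0xbd86b69e2c7aa70a392591106a8820
noncomputable def levTab_0 : Nat := nat_lit 0x23691000489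
noncomputable def betaTab_0 : Nat := nat_lit 0x310520
noncomputable def nodeTab_0 : Nat := nat_lit 0x74150001ad0d56968ac2e3605ac2a9d90cf0e4380180009d8eab53446b9b27495162a4305257ac2b8c81ab16c3405ab2a91250cd072603391951048b023240100006852d3455732a2b34d69a4e5317ab84383dea5cf16d52663c4ad119400097a441041dda4c8cc572423248e008508a12c0bb0ad9152a50145349a3a4984a2cab04c17b9ab9251ad24c5b45bc5a92852f4a86d53a3099350ab2847b51a2088a8020000
noncomputable def offTab_0 : Nat := nat_lit 0x4b84b8c00
noncomputable def nTab_0 : Nat := nat_lit 0x24d2d8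
noncomputable def rootTab_0 : Nat := nat_lit 0x100

end Cfsg.Agent.Lib.Helper4.TCD.C2M12L
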