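import Mathlib
import Cfsg.Agent.Lib.Helper4.C2O73Def
import Cfsg.Agent.Lib.Helper4.TC7

/-! The letter encoding of the presentation of C2O73 (generated). -/

namespace Cfsg.Agent.Lib.Helper4.TC.PC2O73

set_option linter.unusedSimpArgs false
set_option linter.unusedTactic false
set_option linter.unreachableTactic false

open Cfsg.Spor Cfsg.Agent.Lib.Helper4 Cfsg.Agent.Lib.Helper4.C2O73 Cfsg.Agent.Lib.Helper4.TC Cfsg.Agent.Lib.Helper4.TC.Log

def enc : Gen → ℕ
  | .c => 0
  | .d => 2
  | .t => 4
  | .u => 6
  | .z => 8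

def dec : ℕ → FreeGroup Gen
  | 0 => FreeGroup.of Gen.c
  | 1 => (FreeGroup.of Gen.c)⁻¹
  | 2 => FreeGroup.of Gen.d
  | 3 => (FreeGroup.of Gen.d)⁻¹
  | 4 => FreeGroup.of Gen.t
  | 5 => (FreeGroup.of Gen.t)⁻¹
  | 6 => FreeGroup.of Gen.u
  | 7 => (FreeGroup.of Gen.u)⁻¹
  | 8 => FreeGroup.of Gen.z
  | 9 => (FreeGroup.of Gen.z)⁻¹
  | _ => 1

def invR : ℕ → ℕ
  | 0 => 1
  | 1 => 0
  | 2 => 3
  | 3 => 2
  | 4 => 5
  | 5 => 4
  | 6 => 7
  | 7 => 6
  | 8 => 9
  | 9 => 8
  | l => l

def tri : List (ℕ × ℕ × ℕ) := []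

def extraW : List (List ℕ) := [
  (List.replicate 7 [0]).flatten,
  [0, 0, 2, 1, 2, 0, 3, 0, 2, 1, 2],
  (List.replicate 3 [0, 0, 0, 2]).flatten,
  [0, 0, 2, 2, 0, 0, 3, 3, 0, 0, 3, 3],
  (List.replicate 3 [4]).flatten,
  [0, 0, 4, 1, 1, 3, 4, 2],
  (List.replicate 3 [0, 2, 4]).flatten,
  [0, 2, 2, 1, 4, 0, 3, 3, 1, 4],
  [0, 4, 1, 4, 1, 2, 4, 3, 0, 5],
  [0, 0, 3, 0, 4, 1, 2, 1, 1, 2, 0, 5, 1, 3],
  [6, 6, 9],
  [0, 6, 1, 6, 0, 6, 1, 6, 9],
  [2, 6, 3, 6, 2, 6, 3, 6, 9],
  [0, 0, 2, 0, 6, 1, 3, 1, 1, 6, 9],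
  [0, 3, 5, 2, 6, 3, 4, 2, 1, 6, 9],
  [0, 3, 4, 4, 2, 6, 3, 4, 2, 1, 6, 9],
  [0, 0, 0, 4, 1, 1, 6, 3, 4, 2, 1, 6, 9],
  [0, 0, 2, 0, 6, 1, 2, 2, 2, 1, 1, 6, 9],
  [0, 2, 6, 2, 1, 5, 0, 2, 6, 2, 1, 5],
  [0, 2, 6, 3, 1, 4, 0, 3, 6, 2, 1, 5],
  [0, 2, 6, 3, 1, 4, 0, 3, 6, 2, 1, 4, 4],
  [0, 0, 4, 1, 2, 1, 6, 0, 3, 1, 3, 4, 2, 6, 9],
  [0, 2, 2, 0, 5, 0, 6, 1, 4, 1, 2, 2, 1, 6],
  [0, 2, 1, 5, 0, 6, 1, 4, 0, 3, 1, 3, 6, 2],
  [0, 0, 3, 0, 6, 1, 2, 1, 1, 4, 3, 6, 2, 5],
  [0, 0, 2, 2, 6, 2, 2, 1, 1, 4, 2, 6, 3, 5, 9],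
  [0, 4, 2, 6, 3, 5, 1, 2, 5, 1, 6, 0, 4, 3, 9],
  [0, 3, 3, 0, 5, 6, 4, 1, 2, 2, 1, 5, 6, 4, 9],
  [0, 0, 3, 0, 4, 1, 6, 2, 1, 1, 2, 0, 5, 6, 1, 3, 9],
  [0, 0, 3, 0, 2, 0, 3, 6, 4, 6, 4, 6, 3, 0, 2, 4, 1, 4],
  (List.replicate 2 [8]).flatten,
  [9, 1, 8, 0],
  [9, 3, 8, 2],
  [9, 5, 8, 4],
  [9, 7, 8, 6] ]

def P : CoxEnc Gen :=
  { edges := C2O73.edges, extra := C2O73.extra, k := 10, enc := enc, dec := dec, invR := invR, tri := tri,
    extraW := extraW }

set_option maxHeartbeats 4000000 in
theorem valid : P.Valid where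
  hnode := by
    intro x hx
    cases x <;> first | exact ⟨rfl, by decide, rfl⟩ | exact absurd hx (by decide)
  hsound := by decide +kernel
  hcomplete := by decide +kernel
  hlen := rfl
  hextraW := by decide +kernel
  hinvk := rfl
  hsurj := by
    intro x
    cases x
    · exact ⟨0, by decide, rfl⟩
    · exact ⟨2, by decide, rfl⟩
    · exact ⟨4, by decide, rfl⟩
    · exact ⟨6, by decide, rfl⟩
    · exact ⟨8, by decide, rfl⟩
  hdec := by
    intro l hl
    have hl : l < 10 := hl
    interval_cases l
    · exact Or.inl ⟨Gen.c, rfl, rfl⟩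
    · exact Or.inr ⟨Gen.c, rfl, rfl, by decide, rfl⟩
    · exact Or.inl ⟨Gen.d, rfl, rfl⟩
    · exact Or.inr ⟨Gen.d, rfl, rfl, by decide, rfl⟩
    · exact Or.inl ⟨Gen.t, rfl, rfl⟩
    · exact Or.inr ⟨Gen.t, rfl, rfl, by decide, rfl⟩
    · exact Or.inl ⟨Gen.u, rfl, rfl⟩
    · exact Or.inr ⟨Gen.u, rfl, rfl, by decide, rfl⟩
    · exact Or.inl ⟨Gen.z, rfl, rfl⟩
    · exact Or.inr ⟨Gen.z, rfl, rfl, by decide, rfl⟩
  hinvR := by
    intro l hl
    have hl : l < 10 := hl
    interval_cases l
    · exact ⟨by decide, Or.inl rfl⟩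
    · exact ⟨by decide, Or.inl (inv_inv _).symm⟩
    · exact ⟨by decide, Or.inl rfl⟩
    · exact ⟨by decide, Or.inl (inv_inv _).symm⟩
    · exact ⟨by decide, Or.inl rfl⟩
    · exact ⟨by decide, Or.inl (inv_inv _).symm⟩
    · exact ⟨by decide, Or.inl rfl⟩
    · exact ⟨by decide, Or.inl (inv_inv _).symm⟩
    · exact ⟨by decide, Or.inl rfl⟩
    · exact ⟨by decide, Or.inl (inv_inv _).symm⟩
  hextra := by
    intro Γ _ f hn i h h'
    have hi : i < 35 := h
    interval_cases i
    · show FreeGroup.lift f (C2O73.extra[0]) = wordP (fun l => FreeGroup.lift f (dec l)) (extraW[0])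
      simp only [C2O73.extra, extraW, List.getElem_cons_zero, List.getElem_cons_succ, wordP_replicate_flatten,
        wordP_append, wordP_cons, wordP_nil, dec, map_mul, map_pow, map_inv, FreeGroup.lift_apply_of, mul_one,
        ← inv_pow, mul_inv_rev, inv_inv, mul_assoc]
    · show FreeGroup.lift f (C2O73.extra[1]) = wordP (fun l => FreeGroup.lift f (dec l)) (extraW[1])
      simp only [C2O73.extra, extraW, List.getElem_cons_zero, List.getElem_cons_succ, wordP_replicate_flatten,
        wordP_append, wordP_cons, wordP_nil, dec, map_mul, map_pow, map_inv, FreeGroup.lift_apply_of, mul_one,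
        ← inv_pow, mul_inv_rev, inv_inv, mul_assoc]
    · show FreeGroup.lift f (C2O73.extra[2]) = wordP (fun l => FreeGroup.lift f (dec l)) (extraW[2])
      simp only [C2O73.extra, extraW, List.getElem_cons_zero, List.getElem_cons_succ, wordP_replicate_flatten,
        wordP_append, wordP_cons, wordP_nil, dec, map_mul, map_pow, map_inv, FreeGroup.lift_apply_of, mul_one,
        ← inv_pow, mul_inv_rev, inv_inv, mul_assoc]
    · show FreeGroup.lift f (C2O73.extra[3]) = wordP (fun l => FreeGroup.lift f (dec l)) (extraW[3])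
      simp only [C2O73.extra, extraW, List.getElem_cons_zero, List.getElem_cons_succ, wordP_replicate_flatten,
        wordP_append, wordP_cons, wordP_nil, dec, map_mul, map_pow, map_inv, FreeGroup.lift_apply_of, mul_one,
        ← inv_pow, mul_inv_rev, inv_inv, mul_assoc]
    · show FreeGroup.lift f (C2O73.extra[4]) = wordP (fun l => FreeGroup.lift f (dec l)) (extraW[4])
      simp only [C2O73.extra, extraW, List.getElem_cons_zero, List.getElem_cons_succ, wordP_replicate_flatten,
        wordP_append, wordP_cons, wordP_nil, dec, map_mul, map_pow, map_inv, FreeGroup.lift_apply_of, mul_one,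
        ← inv_pow, mul_inv_rev, inv_inv, mul_assoc]
    · show FreeGroup.lift f (C2O73.extra[5]) = wordP (fun l => FreeGroup.lift f (dec l)) (extraW[5])
      simp only [C2O73.extra, extraW, List.getElem_cons_zero, List.getElem_cons_succ, wordP_replicate_flatten,
        wordP_append, wordP_cons, wordP_nil, dec, map_mul, map_pow, map_inv, FreeGroup.lift_apply_of, mul_one,
        ← inv_pow, mul_inv_rev, inv_inv, mul_assoc]
    · show FreeGroup.lift f (C2O73.extra[6]) = wordP (fun l => FreeGroup.lift f (dec l)) (extraW[6])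
      simp only [C2O73.extra, extraW, List.getElem_cons_zero, List.getElem_cons_succ, wordP_replicate_flatten,
        wordP_append, wordP_cons, wordP_nil, dec, map_mul, map_pow, map_inv, FreeGroup.lift_apply_of, mul_one,
        ← inv_pow, mul_inv_rev, inv_inv, mul_assoc]
    · show FreeGroup.lift f (C2O73.extra[7]) = wordP (fun l => FreeGroup.lift f (dec l)) (extraW[7])
      simp only [C2O73.extra, extraW, List.getElem_cons_zero, List.getElem_cons_succ, wordP_replicate_flatten,
        wordP_append, wordP_cons, wordP_nil, dec, map_mul, map_pow, map_inv, FreeGroup.lift_apply_of, mul_one,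
        ← inv_pow, mul_inv_rev, inv_inv, mul_assoc]
    · show FreeGroup.lift f (C2O73.extra[8]) = wordP (fun l => FreeGroup.lift f (dec l)) (extraW[8])
      simp only [C2O73.extra, extraW, List.getElem_cons_zero, List.getElem_cons_succ, wordP_replicate_flatten,
        wordP_append, wordP_cons, wordP_nil, dec, map_mul, map_pow, map_inv, FreeGroup.lift_apply_of, mul_one,
        ← inv_pow, mul_inv_rev, inv_inv, mul_assoc]
    · show FreeGroup.lift f (C2O73.extra[9]) = wordP (fun l => FreeGroup.lift f (dec l)) (extraW[9])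
      simp only [C2O73.extra, extraW, List.getElem_cons_zero, List.getElem_cons_succ, wordP_replicate_flatten,
        wordP_append, wordP_cons, wordP_nil, dec, map_mul, map_pow, map_inv, FreeGroup.lift_apply_of, mul_one,
        ← inv_pow, mul_inv_rev, inv_inv, mul_assoc]
    · show FreeGroup.lift f (C2O73.extra[10]) = wordP (fun l => FreeGroup.lift f (dec l)) (extraW[10])
      simp only [C2O73.extra, extraW, List.getElem_cons_zero, List.getElem_cons_succ, wordP_replicate_flatten,
        wordP_append, wordP_cons, wordP_nil, dec, map_mul, map_pow, map_inv, FreeGroup.lift_apply_of, mul_one,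
        ← inv_pow, mul_inv_rev, inv_inv, mul_assoc]
    · show FreeGroup.lift f (C2O73.extra[11]) = wordP (fun l => FreeGroup.lift f (dec l)) (extraW[11])
      simp only [C2O73.extra, extraW, List.getElem_cons_zero, List.getElem_cons_succ, wordP_replicate_flatten,
        wordP_append, wordP_cons, wordP_nil, dec, map_mul, map_pow, map_inv, FreeGroup.lift_apply_of, mul_one,
        ← inv_pow, mul_inv_rev, inv_inv, mul_assoc]
    · show FreeGroup.lift f (C2O73.extra[12]) = wordP (fun l => FreeGroup.lift f (dec l)) (extraW[12])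
      simp only [C2O73.extra, extraW, List.getElem_cons_zero, List.getElem_cons_succ, wordP_replicate_flatten,
        wordP_append, wordP_cons, wordP_nil, dec, map_mul, map_pow, map_inv, FreeGroup.lift_apply_of, mul_one,
        ← inv_pow, mul_inv_rev, inv_inv, mul_assoc]
    · show FreeGroup.lift f (C2O73.extra[13]) = wordP (fun l => FreeGroup.lift f (dec l)) (extraW[13])
      simp only [C2O73.extra, extraW, List.getElem_cons_zero, List.getElem_cons_succ, wordP_replicate_flatten,
        wordP_append, wordP_cons, wordP_nil, dec, map_mul, map_pow, map_inv, FreeGroup.lift_apply_of, mul_one,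
        ← inv_pow, mul_inv_rev, inv_inv, mul_assoc]
    · show FreeGroup.lift f (C2O73.extra[14]) = wordP (fun l => FreeGroup.lift f (dec l)) (extraW[14])
      simp only [C2O73.extra, extraW, List.getElem_cons_zero, List.getElem_cons_succ, wordP_replicate_flatten,
        wordP_append, wordP_cons, wordP_nil, dec, map_mul, map_pow, map_inv, FreeGroup.lift_apply_of, mul_one,
        ← inv_pow, mul_inv_rev, inv_inv, mul_assoc]
    · show FreeGroup.lift f (C2O73.extra[15]) = wordP (fun l => FreeGroup.lift f (dec l)) (extraW[15])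
      simp only [C2O73.extra, extraW, List.getElem_cons_zero, List.getElem_cons_succ, wordP_replicate_flatten,
        wordP_append, wordP_cons, wordP_nil, dec, map_mul, map_pow, map_inv, FreeGroup.lift_apply_of, mul_one,
        ← inv_pow, mul_inv_rev, inv_inv, mul_assoc]
    · show FreeGroup.lift f (C2O73.extra[16]) = wordP (fun l => FreeGroup.lift f (dec l)) (extraW[16])
      simp only [C2O73.extra, extraW, List.getElem_cons_zero, List.getElem_cons_succ, wordP_replicate_flatten,
        wordP_append, wordP_cons, wordP_nil, dec, map_mul, map_pow, map_inv, FreeGroup.lift_apply_of, mul_one,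
        ← inv_pow, mul_inv_rev, inv_inv, mul_assoc]
    · show FreeGroup.lift f (C2O73.extra[17]) = wordP (fun l => FreeGroup.lift f (dec l)) (extraW[17])
      simp only [C2O73.extra, extraW, List.getElem_cons_zero, List.getElem_cons_succ, wordP_replicate_flatten,
        wordP_append, wordP_cons, wordP_nil, dec, map_mul, map_pow, map_inv, FreeGroup.lift_apply_of, mul_one,
        ← inv_pow, mul_inv_rev, inv_inv, mul_assoc]
    · show FreeGroup.lift f (C2O73.extra[18]) = wordP (fun l => FreeGroup.lift f (dec l)) (extraW[18])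
      simp only [C2O73.extra, extraW, List.getElem_cons_zero, List.getElem_cons_succ, wordP_replicate_flatten,
        wordP_append, wordP_cons, wordP_nil, dec, map_mul, map_pow, map_inv, FreeGroup.lift_apply_of, mul_one,
        ← inv_pow, mul_inv_rev, inv_inv, mul_assoc]
    · show FreeGroup.lift f (C2O73.extra[19]) = wordP (fun l => FreeGroup.lift f (dec l)) (extraW[19])
      simp only [C2O73.extra, extraW, List.getElem_cons_zero, List.getElem_cons_succ, wordP_replicate_flatten,
        wordP_append, wordP_cons, wordP_nil, dec, map_mul, map_pow, map_inv, FreeGroup.lift_apply_of, mul_one,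
        ← inv_pow, mul_inv_rev, inv_inv, mul_assoc]
    · show FreeGroup.lift f (C2O73.extra[20]) = wordP (fun l => FreeGroup.lift f (dec l)) (extraW[20])
      simp only [C2O73.extra, extraW, List.getElem_cons_zero, List.getElem_cons_succ, wordP_replicate_flatten,
        wordP_append, wordP_cons, wordP_nil, dec, map_mul, map_pow, map_inv, FreeGroup.lift_apply_of, mul_one,
        ← inv_pow, mul_inv_rev, inv_inv, mul_assoc]
    · show FreeGroup.lift f (C2O73.extra[21]) = wordP (fun l => FreeGroup.lift f (dec l)) (extraW[21])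
      simp only [C2O73.extra, extraW, List.getElem_cons_zero, List.getElem_cons_succ, wordP_replicate_flatten,
        wordP_append, wordP_cons, wordP_nil, dec, map_mul, map_pow, map_inv, FreeGroup.lift_apply_of, mul_one,
        ← inv_pow, mul_inv_rev, inv_inv, mul_assoc]
    · show FreeGroup.lift f (C2O73.extra[22]) = wordP (fun l => FreeGroup.lift f (dec l)) (extraW[22])
      simp only [C2O73.extra, extraW, List.getElem_cons_zero, List.getElem_cons_succ, wordP_replicate_flatten,
        wordP_append, wordP_cons, wordP_nil, dec, map_mul, map_pow, map_inv, FreeGroup.lift_apply_of, mul_one,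
        ← inv_pow, mul_inv_rev, inv_inv, mul_assoc]
    · show FreeGroup.lift f (C2O73.extra[23]) = wordP (fun l => FreeGroup.lift f (dec l)) (extraW[23])
      simp only [C2O73.extra, extraW, List.getElem_cons_zero, List.getElem_cons_succ, wordP_replicate_flatten,
        wordP_append, wordP_cons, wordP_nil, dec, map_mul, map_pow, map_inv, FreeGroup.lift_apply_of, mul_one,
        ← inv_pow, mul_inv_rev, inv_inv, mul_assoc]
    · show FreeGroup.lift f (C2O73.extra[24]) = wordP (fun l => FreeGroup.lift f (dec l)) (extraW[24])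
      simp only [C2O73.extra, extraW, List.getElem_cons_zero, List.getElem_cons_succ, wordP_replicate_flatten,
        wordP_append, wordP_cons, wordP_nil, dec, map_mul, map_pow, map_inv, FreeGroup.lift_apply_of, mul_one,
        ← inv_pow, mul_inv_rev, inv_inv, mul_assoc]
    · show FreeGroup.lift f (C2O73.extra[25]) = wordP (fun l => FreeGroup.lift f (dec l)) (extraW[25])
      simp only [C2O73.extra, extraW, List.getElem_cons_zero, List.getElem_cons_succ, wordP_replicate_flatten,
        wordP_append, wordP_cons, wordP_nil, dec, map_mul, map_pow, map_inv, FreeGroup.lift_apply_of, mul_one,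
        ← inv_pow, mul_inv_rev, inv_inv, mul_assoc]
    · show FreeGroup.lift f (C2O73.extra[26]) = wordP (fun l => FreeGroup.lift f (dec l)) (extraW[26])
      simp only [C2O73.extra, extraW, List.getElem_cons_zero, List.getElem_cons_succ, wordP_replicate_flatten,
        wordP_append, wordP_cons, wordP_nil, dec, map_mul, map_pow, map_inv, FreeGroup.lift_apply_of, mul_one,
        ← inv_pow, mul_inv_rev, inv_inv, mul_assoc]
    · show FreeGroup.lift f (C2O73.extra[27]) = wordP (fun l => FreeGroup.lift f (dec l)) (extraW[27])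
      simp only [C2O73.extra, extraW, List.getElem_cons_zero, List.getElem_cons_succ, wordP_replicate_flatten,
        wordP_append, wordP_cons, wordP_nil, dec, map_mul, map_pow, map_inv, FreeGroup.lift_apply_of, mul_one,
        ← inv_pow, mul_inv_rev, inv_inv, mul_assoc]
    · show FreeGroup.lift f (C2O73.extra[28]) = wordP (fun l => FreeGroup.lift f (dec l)) (extraW[28])
      simp only [C2O73.extra, extraW, List.getElem_cons_zero, List.getElem_cons_succ, wordP_replicate_flatten,
        wordP_append, wordP_cons, wordP_nil, dec, map_mul, map_pow, map_inv, FreeGroup.lift_apply_of, mul_one,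
        ← inv_pow, mul_inv_rev, inv_inv, mul_assoc]
    · show FreeGroup.lift f (C2O73.extra[29]) = wordP (fun l => FreeGroup.lift f (dec l)) (extraW[29])
      simp only [C2O73.extra, extraW, List.getElem_cons_zero, List.getElem_cons_succ, wordP_replicate_flatten,
        wordP_append, wordP_cons, wordP_nil, dec, map_mul, map_pow, map_inv, FreeGroup.lift_apply_of, mul_one,
        ← inv_pow, mul_inv_rev, inv_inv, mul_assoc]
    · show FreeGroup.lift f (C2O73.extra[30]) = wordP (fun l => FreeGroup.lift f (dec l)) (extraW[30])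
      simp only [C2O73.extra, extraW, List.getElem_cons_zero, List.getElem_cons_succ, wordP_replicate_flatten,
        wordP_append, wordP_cons, wordP_nil, dec, map_mul, map_pow, map_inv, FreeGroup.lift_apply_of, mul_one,
        ← inv_pow, mul_inv_rev, inv_inv, mul_assoc]
    · show FreeGroup.lift f (C2O73.extra[31]) = wordP (fun l => FreeGroup.lift f (dec l)) (extraW[31])
      simp only [C2O73.extra, extraW, List.getElem_cons_zero, List.getElem_cons_succ, wordP_replicate_flatten,
        wordP_append, wordP_cons, wordP_nil, dec, map_mul, map_pow, map_inv, FreeGroup.lift_apply_of, mul_one,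
        ← inv_pow, mul_inv_rev, inv_inv, mul_assoc]
    · show FreeGroup.lift f (C2O73.extra[32]) = wordP (fun l => FreeGroup.lift f (dec l)) (extraW[32])
      simp only [C2O73.extra, extraW, List.getElem_cons_zero, List.getElem_cons_succ, wordP_replicate_flatten,
        wordP_append, wordP_cons, wordP_nil, dec, map_mul, map_pow, map_inv, FreeGroup.lift_apply_of, mul_one,
        ← inv_pow, mul_inv_rev, inv_inv, mul_assoc]
    · show FreeGroup.lift f (C2O73.extra[33]) = wordP (fun l => FreeGroup.lift f (dec l)) (extraW[33])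
      simp only [C2O73.extra, extraW, List.getElem_cons_zero, List.getElem_cons_succ, wordP_replicate_flatten,
        wordP_append, wordP_cons, wordP_nil, dec, map_mul, map_pow, map_inv, FreeGroup.lift_apply_of, mul_one,
        ← inv_pow, mul_inv_rev, inv_inv, mul_assoc]
    · show FreeGroup.lift f (C2O73.extra[34]) = wordP (fun l => FreeGroup.lift f (dec l)) (extraW[34])
      simp only [C2O73.extra, extraW, List.getElem_cons_zero, List.getElem_cons_succ, wordP_replicate_flatten,
        wordP_append, wordP_cons, wordP_nil, dec, map_mul, map_pow, map_inv, FreeGroup.lift_apply_of, mul_one,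
        ← inv_pow, mul_inv_rev, inv_inv, mul_assoc]

end Cfsg.Agent.Lib.Helper4.TC.PC2O73
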