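import Cfsg.Agent.Lib.Helper4.TC7
import Cfsg.Agent.Lib.Helper4.TCP_C2Sp62
import Cfsg.Agent.Lib.Helper4.TCD_C2Sp62B_D0

namespace Cfsg.Agent.Lib.Helper4.TCD.C2Sp62B

open Cfsg.Agent.Lib.Helper4.TC

set_option maxRecDepth 100000

noncomputable def Atab_s_1_3 (c : Nat) : Nat := @Bool.rec (fun _ => Nat) (Atab_1) (Atab_2) (Nat.ble 2 c)
noncomputable def Atab_s_0_3 (c : Nat) : Nat := @Bool.rec (fun _ => Nat) (Atab_0) (Atab_s_1_3 c) (Nat.ble 1 c)
noncomputable def Atab_s_3_5 (c : Nat) : Nat := @Bool.rec (fun _ => Nat) (Atab_3) (Atab_4) (Nat.ble 4 c)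
noncomputable def Atab_s_5_7 (c : Nat) : Nat := @Bool.rec (fun _ => Nat) (Atab_5) (Atab_6) (Nat.ble 6 c)
noncomputable def Atab_s_3_7 (c : Nat) : Nat := @Bool.rec (fun _ => Nat) (Atab_s_3_5 c) (Atab_s_5_7 c) (Nat.ble 5 c)
noncomputable def Atab_s_0_7 (c : Nat) : Nat := @Bool.rec (fun _ => Nat) (Atab_s_0_3 c) (Atab_s_3_7 c) (Nat.ble 3 c)
noncomputable def Atab_s_8_10 (c : Nat) : Nat := @Bool.rec (fun _ => Nat) (Atab_8) (Atab_9) (Nat.ble 9 c)
noncomputable def Atab_s_7_10 (c : Nat) : Nat := @Bool.rec (fun _ => Nat) (Atab_7) (Atab_s_8_10 c) (Nat.ble 8 c)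
noncomputable def Atab_s_10_12 (c : Nat) : Nat := @Bool.rec (fun _ => Nat) (Atab_10) (Atab_11) (Nat.ble 11 c)
noncomputable def Atab_s_12_14 (c : Nat) : Nat := @Bool.rec (fun _ => Nat) (Atab_12) (Atab_13) (Nat.ble 13 c)
noncomputable def Atab_s_10_14 (c : Nat) : Nat := @Bool.rec (fun _ => Nat) (Atab_s_10_12 c) (Atab_s_12_14 c) (Nat.ble 12 c)
noncomputable def Atab_s_7_14 (c : Nat) : Nat := @Bool.rec (fun _ => Nat) (Atab_s_7_10 c) (Atab_s_10_14 c) (Nat.ble 10 c)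
noncomputable def Atab_s_0_14 (c : Nat) : Nat := @Bool.rec (fun _ => Nat) (Atab_s_0_7 c) (Atab_s_7_14 c) (Nat.ble 7 c)
noncomputable def Atab (i : Nat) : Nat := rdw 32 4294967295 (Atab_s_0_14 (Nat.shiftRight i 11)) (Nat.land i 2047)
noncomputable def Btab_s_0_2 (c : Nat) : Nat := @Bool.rec (fun _ => Nat) (Btab_0) (Btab_1) (Nat.ble 1 c)
noncomputable def Btab_s_2_4 (c : Nat) : Nat := @Bool.rec (fun _ => Nat) (Btab_2) (Btab_3) (Nat.ble 3 c)
noncomputable def Btab_s_0_4 (c : Nat) : Nat := @Bool.rec (fun _ => Nat) (Btab_s_0_2 c) (Btab_s_2_4 c) (Nat.ble 2 c)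
noncomputable def Btab_s_4_6 (c : Nat) : Nat := @Bool.rec (fun _ => Nat) (Btab_4) (Btab_5) (Nat.ble 5 c)
noncomputable def Btab_s_7_9 (c : Nat) : Nat := @Bool.rec (fun _ => Nat) (Btab_7) (Btab_8) (Nat.ble 8 c)
noncomputable def Btab_s_6_9 (c : Nat) : Nat := @Bool.rec (fun _ => Nat) (Btab_6) (Btab_s_7_9 c) (Nat.ble 7 c)
noncomputable def Btab_s_4_9 (c : Nat) : Nat := @Bool.rec (fun _ => Nat) (Btab_s_4_6 c) (Btab_s_6_9 c) (Nat.ble 6 c)
noncomputable def Btab_s_0_9 (c : Nat) : Nat := @Bool.rec (fun _ => Nat) (Btab_s_0_4 c) (Btab_s_4_9 c) (Nat.ble 4 c)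
noncomputable def Btab (i : Nat) : Nat := rdw 35 34359738367 (Btab_s_0_9 (Nat.shiftRight i 11)) (Nat.land i 2047)
noncomputable def Ptab_s_0_2 (c : Nat) : Nat := @Bool.rec (fun _ => Nat) (Ptab_0) (Ptab_1) (Nat.ble 1 c)
noncomputable def Ptab_s_2_4 (c : Nat) : Nat := @Bool.rec (fun _ => Nat) (Ptab_2) (Ptab_3) (Nat.ble 3 c)
noncomputable def Ptab_s_0_4 (c : Nat) : Nat := @Bool.rec (fun _ => Nat) (Ptab_s_0_2 c) (Ptab_s_2_4 c) (Nat.ble 2 c)
noncomputable def Ptab_s_4_6 (c : Nat) : Nat := @Bool.rec (fun _ => Nat) (Ptab_4) (Ptab_5) (Nat.ble 5 c)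
noncomputable def Ptab_s_6_8 (c : Nat) : Nat := @Bool.rec (fun _ => Nat) (Ptab_6) (Ptab_7) (Nat.ble 7 c)
noncomputable def Ptab_s_4_8 (c : Nat) : Nat := @Bool.rec (fun _ => Nat) (Ptab_s_4_6 c) (Ptab_s_6_8 c) (Nat.ble 6 c)
noncomputable def Ptab_s_0_8 (c : Nat) : Nat := @Bool.rec (fun _ => Nat) (Ptab_s_0_4 c) (Ptab_s_4_8 c) (Nat.ble 4 c)
noncomputable def Ptab_s_8_10 (c : Nat) : Nat := @Bool.rec (fun _ => Nat) (Ptab_8) (Ptab_9) (Nat.ble 9 c)
noncomputable def Ptab_s_10_12 (c : Nat) : Nat := @Bool.rec (fun _ => Nat) (Ptab_10) (Ptab_11) (Nat.ble 11 c)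
noncomputable def Ptab_s_8_12 (c : Nat) : Nat := @Bool.rec (fun _ => Nat) (Ptab_s_8_10 c) (Ptab_s_10_12 c) (Nat.ble 10 c)
noncomputable def Ptab_s_12_14 (c : Nat) : Nat := @Bool.rec (fun _ => Nat) (Ptab_12) (Ptab_13) (Nat.ble 13 c)
noncomputable def Ptab_s_15_17 (c : Nat) : Nat := @Bool.rec (fun _ => Nat) (Ptab_15) (Ptab_16) (Nat.ble 16 c)
noncomputable def Ptab_s_14_17 (c : Nat) : Nat := @Bool.rec (fun _ => Nat) (Ptab_14) (Ptab_s_15_17 c) (Nat.ble 15 c)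
noncomputable def Ptab_s_12_17 (c : Nat) : Nat := @Bool.rec (fun _ => Nat) (Ptab_s_12_14 c) (Ptab_s_14_17 c) (Nat.ble 14 c)
noncomputable def Ptab_s_8_17 (c : Nat) : Nat := @Bool.rec (fun _ => Nat) (Ptab_s_8_12 c) (Ptab_s_12_17 c) (Nat.ble 12 c)
noncomputable def Ptab_s_0_17 (c : Nat) : Nat := @Bool.rec (fun _ => Nat) (Ptab_s_0_8 c) (Ptab_s_8_17 c) (Nat.ble 8 c)
noncomputable def Ptab (i : Nat) : Nat := rdw 16 65535 (Ptab_s_0_17 (Nat.shiftRight i 12)) (Nat.land i 4095)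
noncomputable def RRtab (i : Nat) : Nat := rdw 4 15 RRtab_0 i
noncomputable def rBtab (i : Nat) : Nat := rdw 9 511 rBtab_0 i
noncomputable def rLtab (i : Nat) : Nat := rdw 6 63 rLtab_0 i
noncomputable def nameTab (i : Nat) : Nat := rdw 14 16383 nameTab_0 i
noncomputable def col0 (i : Nat) : Nat := rdw 9 511 col0_0 i
noncomputable def col1 (i : Nat) : Nat := rdw 9 511 col1_0 i
noncomputable def col2 (i : Nat) : Nat := rdw 9 511 col2_0 i
noncomputable def col3 (i : Nat) : Nat := rdw 9 511 col3_0 i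
noncomputable def col4 (i : Nat) : Nat := rdw 9 511 col4_0 i
noncomputable def col5 (i : Nat) : Nat := rdw 9 511 col5_0 i
noncomputable def finTab (i : Nat) : Nat := rdw 16 65535 finTab_0 i
noncomputable def clsTab_s_0_2 (c : Nat) : Nat := @Bool.rec (fun _ => Nat) (clsTab_0) (clsTab_1) (Nat.ble 1 c)
noncomputable def clsTab (i : Nat) : Nat := rdw 9 511 (clsTab_s_0_2 (Nat.shiftRight i 13)) (Nat.land i 8191)
noncomputable def oparTab (i : Nat) : Nat := rdw 9 511 oparTab_0 i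
noncomputable def olabTab (i : Nat) : Nat := rdw 2 3 olabTab_0 i
noncomputable def srcF (t : Nat) : Nat := Nat.land (Atab t) 16383
noncomputable def tgtF (t : Nat) : Nat := Nat.land (Nat.shiftRight (Atab t) 14) 16383
noncomputable def ltF (t : Nat) : Nat := Nat.shiftRight (Atab t) 28
noncomputable def rhoF (t : Nat) : Nat := Nat.land (Btab (Nat.sub t 10547)) 63
noncomputable def rotF (t : Nat) : Nat := Nat.land (Nat.shiftRight (Btab (Nat.sub t 10547)) 6) 63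
noncomputable def lenF (t : Nat) : Nat := Nat.land (Nat.shiftRight (Btab (Nat.sub t 10547)) 12) 63
noncomputable def offF (t : Nat) : Nat := Nat.shiftRight (Btab (Nat.sub t 10547)) 18
noncomputable def pfF (j : Nat) : Nat := Nat.shiftRight (Ptab j) 1
noncomputable def pdF (j : Nat) : Nat := Nat.land (Ptab j) 1
noncomputable def tblF (i x : Nat) : Nat := @Bool.rec (fun _ => Nat) (@Bool.rec (fun _ => Nat) (col0 i) (@Bool.rec (fun _ => Nat) (col1 i) (col2 i) (Nat.ble 2 x)) (Nat.ble 1 x)) (@Bool.rec (fun _ => Nat) (col3 i) (@Bool.rec (fun _ => Nat) (col4 i) (col5 i) (Nat.ble 5 x)) (Nat.ble 4 x)) (Nat.ble 3 x)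
noncomputable def finE (i x : Nat) : Nat := finTab (Nat.add (Nat.mul i 6) x)
noncomputable def finFF (i x : Nat) : Nat := Nat.shiftRight (finE i x) 1
noncomputable def finDF (i x : Nat) : Nat := Nat.land (finE i x) 1

noncomputable def D : Log :=
  { k := 6, inv := invE 6 PC2Sp62.invR, nR := 34, rBase := rBtab, rLen := rLtab, RR := RRtab,
    M := 10543, nB := 4, F := 28509, src := srcF, lt := ltF, tgt := tgtF, rho := rhoF, rot := rotF,
    off := offF, len := lenF, pf := pfF, pd := pdF }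

noncomputable def T : Tab :=
  { N := 480, nameOf := nameTab, tbl := tblF, finF := finFF, finD := finDF, cls := clsTab }

def subs : List (List Nat) := [
  [0],
  [2, 0, 2, 0, 0, 2, 0, 0, 2, 0, 2] ]

def rw0 : List Nat := [0, 0, 0, 0, 0, 0, 0]
def rw1 : List Nat := [2, 2, 5]
def rw2 : List Nat := [2, 0, 2, 0, 2, 0, 2, 0, 2, 0, 2, 0, 2, 0, 2, 0, 2, 0]
def rw3 : List Nat := [2, 0, 0, 2, 0, 0, 2, 0, 0, 2, 0, 0, 2, 0, 0, 2, 0, 0, 2, 0, 0, 2, 0, 0, 2, 0, 0, 2, 0, 0, 2, 0, 0, 2, 0, 0]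
def rw4 : List Nat := [2, 0, 3, 1, 2, 0, 3, 1, 2, 0, 3, 1, 5]
def rw5 : List Nat := [2, 0, 0, 3, 1, 1, 2, 0, 0, 3, 1, 1, 5]
def rw6 : List Nat := [4, 4]
def rw7 : List Nat := [5, 1, 4, 0]
def rw8 : List Nat := [5, 3, 4, 2]
def realLit : List (List Nat) := [rw0, rw1, rw2, rw3, rw4, rw5, rw6, rw7, rw8]
noncomputable def actR0 (i : Nat) : Nat := col1 (col1 (col1 (col1 (col1 (col1 (col1 (i)))))))
theorem actR0_eq (i : Nat) : actR0 i = Tab.act T D rw0 i := rfl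
noncomputable def actR1 (i : Nat) : Nat := col3 (col3 (col4 (i)))
theorem actR1_eq (i : Nat) : actR1 i = Tab.act T D rw1 i := rfl
noncomputable def actR2 (i : Nat) : Nat := col3 (col1 (col3 (col1 (col3 (col1 (col3 (col1 (col3 (col1 (col3 (col1 (col3 (col1 (col3 (col1 (col3 (col1 (i))))))))))))))))))
theorem actR2_eq (i : Nat) : actR2 i = Tab.act T D rw2 i := rfl
noncomputable def actR3 (i : Nat) : Nat := col3 (col1 (col1 (col3 (col1 (col1 (col3 (col1 (col1 (col3 (col1 (col1 (col3 (col1 (col1 (col3 (col1 (col1 (col3 (col1 (col1 (col3 (col1 (col1 (col3 (col1 (col1 (col3 (col1 (col1 (col3 (col1 (col1 (col3 (col1 (col1 (i))))))))))))))))))))))))))))))))))))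
theorem actR3_eq (i : Nat) : actR3 i = Tab.act T D rw3 i := rfl
noncomputable def actR4 (i : Nat) : Nat := col3 (col1 (col2 (col0 (col3 (col1 (col2 (col0 (col3 (col1 (col2 (col0 (col4 (i)))))))))))))
theorem actR4_eq (i : Nat) : actR4 i = Tab.act T D rw4 i := rfl
noncomputable def actR5 (i : Nat) : Nat := col3 (col1 (col1 (col2 (col0 (col0 (col3 (col1 (col1 (col2 (col0 (col0 (col4 (i)))))))))))))
theorem actR5_eq (i : Nat) : actR5 i = Tab.act T D rw5 i := rfl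
noncomputable def actR6 (i : Nat) : Nat := col5 (col5 (i))
theorem actR6_eq (i : Nat) : actR6 i = Tab.act T D rw6 i := rfl
noncomputable def actR7 (i : Nat) : Nat := col4 (col0 (col5 (col1 (i))))
theorem actR7_eq (i : Nat) : actR7 i = Tab.act T D rw7 i := rfl
noncomputable def actR8 (i : Nat) : Nat := col4 (col2 (col5 (col3 (i))))
theorem actR8_eq (i : Nat) : actR8 i = Tab.act T D rw8 i := rfl

end Cfsg.Agent.Lib.Helper4.TCD.C2Sp62B
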