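import Cfsg.Agent.Lib.Helper4.TC14
import Cfsg.Agent.Lib.Helper4.TCP_C2Sp62
import Cfsg.Agent.Lib.Helper4.TCD_C2Sp62R_D0

namespace Cfsg.Agent.Lib.Helper4.TCD.C2Sp62R

open Cfsg.Agent.Lib.Helper4.TC

set_option maxRecDepth 100000

noncomputable def col0 (i : Nat) : Nat := rdw 9 511 col0_0 i
noncomputable def col1 (i : Nat) : Nat := rdw 9 511 col1_0 i
noncomputable def col2 (i : Nat) : Nat := rdw 9 511 col2_0 i
noncomputable def col3 (i : Nat) : Nat := rdw 9 511 col3_0 i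
noncomputable def col4 (i : Nat) : Nat := rdw 9 511 col4_0 i
noncomputable def col5 (i : Nat) : Nat := rdw 9 511 col5_0 i
noncomputable def tblF (i x : Nat) : Nat := @Bool.rec (fun _ => Nat) (@Bool.rec (fun _ => Nat) (col0 i) (@Bool.rec (fun _ => Nat) (col1 i) (col2 i) (Nat.ble 2 x)) (Nat.ble 1 x)) (@Bool.rec (fun _ => Nat) (col3 i) (@Bool.rec (fun _ => Nat) (col4 i) (col5 i) (Nat.ble 5 x)) (Nat.ble 4 x)) (Nat.ble 3 x)

noncomputable def D : Log :=
  { k := 6, inv := PC2Sp62.invR, nR := 0, rBase := fun _ => 0, rLen := fun _ => 0, RR := fun _ => 0,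
    M := 0, nB := 0, F := 0, src := fun _ => 0, lt := fun _ => 0, tgt := fun _ => 0, rho := fun _ => 0, rot := fun _ => 0,
    off := fun _ => 0, len := fun _ => 0, pf := fun _ => 0, pd := fun _ => 0 }

noncomputable def T : Tab :=
  { N := 480, nameOf := fun _ => 0, tbl := tblF, finF := fun _ _ => 0, finD := fun _ _ => 0, cls := fun _ => 0 }

def rw0 : List Nat := [0, 0, 0, 0, 0, 0, 0]
def rw1 : List Nat := [2, 2, 5]
def rw2 : List Nat := [2, 0, 2, 0, 2, 0, 2, 0, 2, 0, 2, 0, 2, 0, 2, 0, 2, 0]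
def rw3 : List Nat := [2, 0, 0, 2, 0, 0, 2, 0, 0, 2, 0, 0, 2, 0, 0, 2, 0, 0, 2, 0, 0, 2, 0, 0, 2, 0, 0, 2, 0, 0, 2, 0, 0, 2, 0, 0]
def rw4 : List Nat := [2, 0, 3, 1, 2, 0, 3, 1, 2, 0, 3, 1, 5]
def rw5 : List Nat := [2, 0, 0, 3, 1, 1, 2, 0, 0, 3, 1, 1, 5]
def rw6 : List Nat := [4, 4]
def rw7 : List Nat := [5, 1, 4, 0]
def rw8 : List Nat := [5, 3, 4, 2]
def realLit : List (List Nat) := [rw0, rw1, rw2, rw3, rw4, rw5, rw6, rw7, rw8]
noncomputable def actR0 (i : Nat) : Nat := col1 (col1 (col1 (col1 (col1 (col1 (col1 (i)))))))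
theorem actR0_eq (i : Nat) : actR0 i = Tab.act T D rw0 i := rfl
noncomputable def actR1 (i : Nat) : Nat := col3 (col3 (col4 (i)))
theorem actR1_eq (i : Nat) : actR1 i = Tab.act T D rw1 i := rfl
noncomputable def actR2 (i : Nat) : Nat := col3 (col1 (col3 (col1 (col3 (col1 (col3 (col1 (col3 (col1 (col3 (col1 (col3 (col1 (col3 (col1 (col3 (col1 (i))))))))))))))))))
theorem actR2_eq (i : Nat) : actR2 i = Tab.act T D rw2 i := rfl
noncomputable def actR3 (i : Nat) : Nat := col3 (col1 (col1 (col3 (col1 (col1 (col3 (col1 (col1 (col3 (col1 (col1 (col3 (col1 (col1 (col3 (col1 (col1 (col3 (col1 (col1 (col3 (col1 (col1 (col3 (col1 (col1 (col3 (col1 (col1 (col3 (col1 (col1 (col3 (col1 (col1 (i))))))))))))))))))))))))))))))))))))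
theorem actR3_eq (i : Nat) : actR3 i = Tab.act T D rw3 i := rfl
noncomputable def actR4 (i : Nat) : Nat := col3 (col1 (col2 (col0 (col3 (col1 (col2 (col0 (col3 (col1 (col2 (col0 (col4 (i)))))))))))))
theorem actR4_eq (i : Nat) : actR4 i = Tab.act T D rw4 i := rfl
noncomputable def actR5 (i : Nat) : Nat := col3 (col1 (col1 (col2 (col0 (col0 (col3 (col1 (col1 (col2 (col0 (col0 (col4 (i)))))))))))))
theorem actR5_eq (i : Nat) : actR5 i = Tab.act T D rw5 i := rfl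
noncomputable def actR6 (i : Nat) : Nat := col5 (col5 (i))
theorem actR6_eq (i : Nat) : actR6 i = Tab.act T D rw6 i := rfl
noncomputable def actR7 (i : Nat) : Nat := col4 (col0 (col5 (col1 (i))))
theorem actR7_eq (i : Nat) : actR7 i = Tab.act T D rw7 i := rfl
noncomputable def actR8 (i : Nat) : Nat := col4 (col2 (col5 (col3 (i))))
theorem actR8_eq (i : Nat) : actR8 i = Tab.act T D rw8 i := rfl

end Cfsg.Agent.Lib.Helper4.TCD.C2Sp62R
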