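import Cfsg.Agent.Lib.Helper4.TC7
import Cfsg.Agent.Lib.Helper4.TCP_C2Suz
import Cfsg.Agent.Lib.Helper4.TCD_C2SuzB_D0
import Cfsg.Agent.Lib.Helper4.TCD_C2SuzB_D1
import Cfsg.Agent.Lib.Helper4.TCD_C2SuzB_D2

namespace Cfsg.Agent.Lib.Helper4.TCD.C2SuzB

open Cfsg.Agent.Lib.Helper4.TC

set_option maxRecDepth 100000

noncomputable def Atab_s_1_3 (c : Nat) : Nat := @Bool.rec (fun _ => Nat) (Atab_1) (Atab_2) (Nat.ble 2 c)
noncomputable def Atab_s_0_3 (c : Nat) : Nat := @Bool.rec (fun _ => Nat) (Atab_0) (Atab_s_1_3 c) (Nat.ble 1 c)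
noncomputable def Atab_s_4_6 (c : Nat) : Nat := @Bool.rec (fun _ => Nat) (Atab_4) (Atab_5) (Nat.ble 5 c)
noncomputable def Atab_s_3_6 (c : Nat) : Nat := @Bool.rec (fun _ => Nat) (Atab_3) (Atab_s_4_6 c) (Nat.ble 4 c)
noncomputable def Atab_s_0_6 (c : Nat) : Nat := @Bool.rec (fun _ => Nat) (Atab_s_0_3 c) (Atab_s_3_6 c) (Nat.ble 3 c)
noncomputable def Atab_s_7_9 (c : Nat) : Nat := @Bool.rec (fun _ => Nat) (Atab_7) (Atab_8) (Nat.ble 8 c)
noncomputable def Atab_s_6_9 (c : Nat) : Nat := @Bool.rec (fun _ => Nat) (Atab_6) (Atab_s_7_9 c) (Nat.ble 7 c)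
noncomputable def Atab_s_10_12 (c : Nat) : Nat := @Bool.rec (fun _ => Nat) (Atab_10) (Atab_11) (Nat.ble 11 c)
noncomputable def Atab_s_9_12 (c : Nat) : Nat := @Bool.rec (fun _ => Nat) (Atab_9) (Atab_s_10_12 c) (Nat.ble 10 c)
noncomputable def Atab_s_6_12 (c : Nat) : Nat := @Bool.rec (fun _ => Nat) (Atab_s_6_9 c) (Atab_s_9_12 c) (Nat.ble 9 c)
noncomputable def Atab_s_0_12 (c : Nat) : Nat := @Bool.rec (fun _ => Nat) (Atab_s_0_6 c) (Atab_s_6_12 c) (Nat.ble 6 c)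
noncomputable def Atab_s_13_15 (c : Nat) : Nat := @Bool.rec (fun _ => Nat) (Atab_13) (Atab_14) (Nat.ble 14 c)
noncomputable def Atab_s_12_15 (c : Nat) : Nat := @Bool.rec (fun _ => Nat) (Atab_12) (Atab_s_13_15 c) (Nat.ble 13 c)
noncomputable def Atab_s_16_18 (c : Nat) : Nat := @Bool.rec (fun _ => Nat) (Atab_16) (Atab_17) (Nat.ble 17 c)
noncomputable def Atab_s_15_18 (c : Nat) : Nat := @Bool.rec (fun _ => Nat) (Atab_15) (Atab_s_16_18 c) (Nat.ble 16 c)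
noncomputable def Atab_s_12_18 (c : Nat) : Nat := @Bool.rec (fun _ => Nat) (Atab_s_12_15 c) (Atab_s_15_18 c) (Nat.ble 15 c)
noncomputable def Atab_s_19_21 (c : Nat) : Nat := @Bool.rec (fun _ => Nat) (Atab_19) (Atab_20) (Nat.ble 20 c)
noncomputable def Atab_s_18_21 (c : Nat) : Nat := @Bool.rec (fun _ => Nat) (Atab_18) (Atab_s_19_21 c) (Nat.ble 19 c)
noncomputable def Atab_s_21_23 (c : Nat) : Nat := @Bool.rec (fun _ => Nat) (Atab_21) (Atab_22) (Nat.ble 22 c)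
noncomputable def Atab_s_23_25 (c : Nat) : Nat := @Bool.rec (fun _ => Nat) (Atab_23) (Atab_24) (Nat.ble 24 c)
noncomputable def Atab_s_21_25 (c : Nat) : Nat := @Bool.rec (fun _ => Nat) (Atab_s_21_23 c) (Atab_s_23_25 c) (Nat.ble 23 c)
noncomputable def Atab_s_18_25 (c : Nat) : Nat := @Bool.rec (fun _ => Nat) (Atab_s_18_21 c) (Atab_s_21_25 c) (Nat.ble 21 c)
noncomputable def Atab_s_12_25 (c : Nat) : Nat := @Bool.rec (fun _ => Nat) (Atab_s_12_18 c) (Atab_s_18_25 c) (Nat.ble 18 c)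
noncomputable def Atab_s_0_25 (c : Nat) : Nat := @Bool.rec (fun _ => Nat) (Atab_s_0_12 c) (Atab_s_12_25 c) (Nat.ble 12 c)
noncomputable def Atab_s_26_28 (c : Nat) : Nat := @Bool.rec (fun _ => Nat) (Atab_26) (Atab_27) (Nat.ble 27 c)
noncomputable def Atab_s_25_28 (c : Nat) : Nat := @Bool.rec (fun _ => Nat) (Atab_25) (Atab_s_26_28 c) (Nat.ble 26 c)
noncomputable def Atab_s_29_31 (c : Nat) : Nat := @Bool.rec (fun _ => Nat) (Atab_29) (Atab_30) (Nat.ble 30 c)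
noncomputable def Atab_s_28_31 (c : Nat) : Nat := @Bool.rec (fun _ => Nat) (Atab_28) (Atab_s_29_31 c) (Nat.ble 29 c)
noncomputable def Atab_s_25_31 (c : Nat) : Nat := @Bool.rec (fun _ => Nat) (Atab_s_25_28 c) (Atab_s_28_31 c) (Nat.ble 28 c)
noncomputable def Atab_s_32_34 (c : Nat) : Nat := @Bool.rec (fun _ => Nat) (Atab_32) (Atab_33) (Nat.ble 33 c)
noncomputable def Atab_s_31_34 (c : Nat) : Nat := @Bool.rec (fun _ => Nat) (Atab_31) (Atab_s_32_34 c) (Nat.ble 32 c)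
noncomputable def Atab_s_34_36 (c : Nat) : Nat := @Bool.rec (fun _ => Nat) (Atab_34) (Atab_35) (Nat.ble 35 c)
noncomputable def Atab_s_36_38 (c : Nat) : Nat := @Bool.rec (fun _ => Nat) (Atab_36) (Atab_37) (Nat.ble 37 c)
noncomputable def Atab_s_34_38 (c : Nat) : Nat := @Bool.rec (fun _ => Nat) (Atab_s_34_36 c) (Atab_s_36_38 c) (Nat.ble 36 c)
noncomputable def Atab_s_31_38 (c : Nat) : Nat := @Bool.rec (fun _ => Nat) (Atab_s_31_34 c) (Atab_s_34_38 c) (Nat.ble 34 c)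
noncomputable def Atab_s_25_38 (c : Nat) : Nat := @Bool.rec (fun _ => Nat) (Atab_s_25_31 c) (Atab_s_31_38 c) (Nat.ble 31 c)
noncomputable def Atab_s_39_41 (c : Nat) : Nat := @Bool.rec (fun _ => Nat) (Atab_39) (Atab_40) (Nat.ble 40 c)
noncomputable def Atab_s_38_41 (c : Nat) : Nat := @Bool.rec (fun _ => Nat) (Atab_38) (Atab_s_39_41 c) (Nat.ble 39 c)
noncomputable def Atab_s_42_44 (c : Nat) : Nat := @Bool.rec (fun _ => Nat) (Atab_42) (Atab_43) (Nat.ble 43 c)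
noncomputable def Atab_s_41_44 (c : Nat) : Nat := @Bool.rec (fun _ => Nat) (Atab_41) (Atab_s_42_44 c) (Nat.ble 42 c)
noncomputable def Atab_s_38_44 (c : Nat) : Nat := @Bool.rec (fun _ => Nat) (Atab_s_38_41 c) (Atab_s_41_44 c) (Nat.ble 41 c)
noncomputable def Atab_s_45_47 (c : Nat) : Nat := @Bool.rec (fun _ => Nat) (Atab_45) (Atab_46) (Nat.ble 46 c)
noncomputable def Atab_s_44_47 (c : Nat) : Nat := @Bool.rec (fun _ => Nat) (Atab_44) (Atab_s_45_47 c) (Nat.ble 45 c)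
noncomputable def Atab_s_47_49 (c : Nat) : Nat := @Bool.rec (fun _ => Nat) (Atab_47) (Atab_48) (Nat.ble 48 c)
noncomputable def Atab_s_49_51 (c : Nat) : Nat := @Bool.rec (fun _ => Nat) (Atab_49) (Atab_50) (Nat.ble 50 c)
noncomputable def Atab_s_47_51 (c : Nat) : Nat := @Bool.rec (fun _ => Nat) (Atab_s_47_49 c) (Atab_s_49_51 c) (Nat.ble 49 c)
noncomputable def Atab_s_44_51 (c : Nat) : Nat := @Bool.rec (fun _ => Nat) (Atab_s_44_47 c) (Atab_s_47_51 c) (Nat.ble 47 c)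
noncomputable def Atab_s_38_51 (c : Nat) : Nat := @Bool.rec (fun _ => Nat) (Atab_s_38_44 c) (Atab_s_44_51 c) (Nat.ble 44 c)
noncomputable def Atab_s_25_51 (c : Nat) : Nat := @Bool.rec (fun _ => Nat) (Atab_s_25_38 c) (Atab_s_38_51 c) (Nat.ble 38 c)
noncomputable def Atab_s_0_51 (c : Nat) : Nat := @Bool.rec (fun _ => Nat) (Atab_s_0_25 c) (Atab_s_25_51 c) (Nat.ble 25 c)
noncomputable def Atab (i : Nat) : Nat := rdw 35 34359738367 (Atab_s_0_51 (Nat.shiftRight i 11)) (Nat.land i 2047)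
noncomputable def Btab_s_0_2 (c : Nat) : Nat := @Bool.rec (fun _ => Nat) (Btab_0) (Btab_1) (Nat.ble 1 c)
noncomputable def Btab_s_2_4 (c : Nat) : Nat := @Bool.rec (fun _ => Nat) (Btab_2) (Btab_3) (Nat.ble 3 c)
noncomputable def Btab_s_0_4 (c : Nat) : Nat := @Bool.rec (fun _ => Nat) (Btab_s_0_2 c) (Btab_s_2_4 c) (Nat.ble 2 c)
noncomputable def Btab_s_4_6 (c : Nat) : Nat := @Bool.rec (fun _ => Nat) (Btab_4) (Btab_5) (Nat.ble 5 c)
noncomputable def Btab_s_7_9 (c : Nat) : Nat := @Bool.rec (fun _ => Nat) (Btab_7) (Btab_8) (Nat.ble 8 c)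
noncomputable def Btab_s_6_9 (c : Nat) : Nat := @Bool.rec (fun _ => Nat) (Btab_6) (Btab_s_7_9 c) (Nat.ble 7 c)
noncomputable def Btab_s_4_9 (c : Nat) : Nat := @Bool.rec (fun _ => Nat) (Btab_s_4_6 c) (Btab_s_6_9 c) (Nat.ble 6 c)
noncomputable def Btab_s_0_9 (c : Nat) : Nat := @Bool.rec (fun _ => Nat) (Btab_s_0_4 c) (Btab_s_4_9 c) (Nat.ble 4 c)
noncomputable def Btab_s_9_11 (c : Nat) : Nat := @Bool.rec (fun _ => Nat) (Btab_9) (Btab_10) (Nat.ble 10 c)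
noncomputable def Btab_s_11_13 (c : Nat) : Nat := @Bool.rec (fun _ => Nat) (Btab_11) (Btab_12) (Nat.ble 12 c)
noncomputable def Btab_s_9_13 (c : Nat) : Nat := @Bool.rec (fun _ => Nat) (Btab_s_9_11 c) (Btab_s_11_13 c) (Nat.ble 11 c)
noncomputable def Btab_s_13_15 (c : Nat) : Nat := @Bool.rec (fun _ => Nat) (Btab_13) (Btab_14) (Nat.ble 14 c)
noncomputable def Btab_s_16_18 (c : Nat) : Nat := @Bool.rec (fun _ => Nat) (Btab_16) (Btab_17) (Nat.ble 17 c)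
noncomputable def Btab_s_15_18 (c : Nat) : Nat := @Bool.rec (fun _ => Nat) (Btab_15) (Btab_s_16_18 c) (Nat.ble 16 c)
noncomputable def Btab_s_13_18 (c : Nat) : Nat := @Bool.rec (fun _ => Nat) (Btab_s_13_15 c) (Btab_s_15_18 c) (Nat.ble 15 c)
noncomputable def Btab_s_9_18 (c : Nat) : Nat := @Bool.rec (fun _ => Nat) (Btab_s_9_13 c) (Btab_s_13_18 c) (Nat.ble 13 c)
noncomputable def Btab_s_0_18 (c : Nat) : Nat := @Bool.rec (fun _ => Nat) (Btab_s_0_9 c) (Btab_s_9_18 c) (Nat.ble 9 c)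
noncomputable def Btab_s_18_20 (c : Nat) : Nat := @Bool.rec (fun _ => Nat) (Btab_18) (Btab_19) (Nat.ble 19 c)
noncomputable def Btab_s_20_22 (c : Nat) : Nat := @Bool.rec (fun _ => Nat) (Btab_20) (Btab_21) (Nat.ble 21 c)
noncomputable def Btab_s_18_22 (c : Nat) : Nat := @Bool.rec (fun _ => Nat) (Btab_s_18_20 c) (Btab_s_20_22 c) (Nat.ble 20 c)
noncomputable def Btab_s_22_24 (c : Nat) : Nat := @Bool.rec (fun _ => Nat) (Btab_22) (Btab_23) (Nat.ble 23 c)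
noncomputable def Btab_s_25_27 (c : Nat) : Nat := @Bool.rec (fun _ => Nat) (Btab_25) (Btab_26) (Nat.ble 26 c)
noncomputable def Btab_s_24_27 (c : Nat) : Nat := @Bool.rec (fun _ => Nat) (Btab_24) (Btab_s_25_27 c) (Nat.ble 25 c)
noncomputable def Btab_s_22_27 (c : Nat) : Nat := @Bool.rec (fun _ => Nat) (Btab_s_22_24 c) (Btab_s_24_27 c) (Nat.ble 24 c)
noncomputable def Btab_s_18_27 (c : Nat) : Nat := @Bool.rec (fun _ => Nat) (Btab_s_18_22 c) (Btab_s_22_27 c) (Nat.ble 22 c)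
noncomputable def Btab_s_27_29 (c : Nat) : Nat := @Bool.rec (fun _ => Nat) (Btab_27) (Btab_28) (Nat.ble 28 c)
noncomputable def Btab_s_29_31 (c : Nat) : Nat := @Bool.rec (fun _ => Nat) (Btab_29) (Btab_30) (Nat.ble 30 c)
noncomputable def Btab_s_27_31 (c : Nat) : Nat := @Bool.rec (fun _ => Nat) (Btab_s_27_29 c) (Btab_s_29_31 c) (Nat.ble 29 c)
noncomputable def Btab_s_31_33 (c : Nat) : Nat := @Bool.rec (fun _ => Nat) (Btab_31) (Btab_32) (Nat.ble 32 c)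
noncomputable def Btab_s_34_36 (c : Nat) : Nat := @Bool.rec (fun _ => Nat) (Btab_34) (Btab_35) (Nat.ble 35 c)
noncomputable def Btab_s_33_36 (c : Nat) : Nat := @Bool.rec (fun _ => Nat) (Btab_33) (Btab_s_34_36 c) (Nat.ble 34 c)
noncomputable def Btab_s_31_36 (c : Nat) : Nat := @Bool.rec (fun _ => Nat) (Btab_s_31_33 c) (Btab_s_33_36 c) (Nat.ble 33 c)
noncomputable def Btab_s_27_36 (c : Nat) : Nat := @Bool.rec (fun _ => Nat) (Btab_s_27_31 c) (Btab_s_31_36 c) (Nat.ble 31 c)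
noncomputable def Btab_s_18_36 (c : Nat) : Nat := @Bool.rec (fun _ => Nat) (Btab_s_18_27 c) (Btab_s_27_36 c) (Nat.ble 27 c)
noncomputable def Btab_s_0_36 (c : Nat) : Nat := @Bool.rec (fun _ => Nat) (Btab_s_0_18 c) (Btab_s_18_36 c) (Nat.ble 18 c)
noncomputable def Btab (i : Nat) : Nat := rdw 38 274877906943 (Btab_s_0_36 (Nat.shiftRight i 11)) (Nat.land i 2047)
noncomputable def Ptab_s_0_2 (c : Nat) : Nat := @Bool.rec (fun _ => Nat) (Ptab_0) (Ptab_1) (Nat.ble 1 c)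
noncomputable def Ptab_s_3_5 (c : Nat) : Nat := @Bool.rec (fun _ => Nat) (Ptab_3) (Ptab_4) (Nat.ble 4 c)
noncomputable def Ptab_s_2_5 (c : Nat) : Nat := @Bool.rec (fun _ => Nat) (Ptab_2) (Ptab_s_3_5 c) (Nat.ble 3 c)
noncomputable def Ptab_s_0_5 (c : Nat) : Nat := @Bool.rec (fun _ => Nat) (Ptab_s_0_2 c) (Ptab_s_2_5 c) (Nat.ble 2 c)
noncomputable def Ptab_s_5_7 (c : Nat) : Nat := @Bool.rec (fun _ => Nat) (Ptab_5) (Ptab_6) (Nat.ble 6 c)
noncomputable def Ptab_s_8_10 (c : Nat) : Nat := @Bool.rec (fun _ => Nat) (Ptab_8) (Ptab_9) (Nat.ble 9 c)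
noncomputable def Ptab_s_7_10 (c : Nat) : Nat := @Bool.rec (fun _ => Nat) (Ptab_7) (Ptab_s_8_10 c) (Nat.ble 8 c)
noncomputable def Ptab_s_5_10 (c : Nat) : Nat := @Bool.rec (fun _ => Nat) (Ptab_s_5_7 c) (Ptab_s_7_10 c) (Nat.ble 7 c)
noncomputable def Ptab_s_0_10 (c : Nat) : Nat := @Bool.rec (fun _ => Nat) (Ptab_s_0_5 c) (Ptab_s_5_10 c) (Nat.ble 5 c)
noncomputable def Ptab_s_10_12 (c : Nat) : Nat := @Bool.rec (fun _ => Nat) (Ptab_10) (Ptab_11) (Nat.ble 11 c)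
noncomputable def Ptab_s_13_15 (c : Nat) : Nat := @Bool.rec (fun _ => Nat) (Ptab_13) (Ptab_14) (Nat.ble 14 c)
noncomputable def Ptab_s_12_15 (c : Nat) : Nat := @Bool.rec (fun _ => Nat) (Ptab_12) (Ptab_s_13_15 c) (Nat.ble 13 c)
noncomputable def Ptab_s_10_15 (c : Nat) : Nat := @Bool.rec (fun _ => Nat) (Ptab_s_10_12 c) (Ptab_s_12_15 c) (Nat.ble 12 c)
noncomputable def Ptab_s_16_18 (c : Nat) : Nat := @Bool.rec (fun _ => Nat) (Ptab_16) (Ptab_17) (Nat.ble 17 c)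
noncomputable def Ptab_s_15_18 (c : Nat) : Nat := @Bool.rec (fun _ => Nat) (Ptab_15) (Ptab_s_16_18 c) (Nat.ble 16 c)
noncomputable def Ptab_s_19_21 (c : Nat) : Nat := @Bool.rec (fun _ => Nat) (Ptab_19) (Ptab_20) (Nat.ble 20 c)
noncomputable def Ptab_s_18_21 (c : Nat) : Nat := @Bool.rec (fun _ => Nat) (Ptab_18) (Ptab_s_19_21 c) (Nat.ble 19 c)
noncomputable def Ptab_s_15_21 (c : Nat) : Nat := @Bool.rec (fun _ => Nat) (Ptab_s_15_18 c) (Ptab_s_18_21 c) (Nat.ble 18 c)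
noncomputable def Ptab_s_10_21 (c : Nat) : Nat := @Bool.rec (fun _ => Nat) (Ptab_s_10_15 c) (Ptab_s_15_21 c) (Nat.ble 15 c)
noncomputable def Ptab_s_0_21 (c : Nat) : Nat := @Bool.rec (fun _ => Nat) (Ptab_s_0_10 c) (Ptab_s_10_21 c) (Nat.ble 10 c)
noncomputable def Ptab_s_21_23 (c : Nat) : Nat := @Bool.rec (fun _ => Nat) (Ptab_21) (Ptab_22) (Nat.ble 22 c)
noncomputable def Ptab_s_24_26 (c : Nat) : Nat := @Bool.rec (fun _ => Nat) (Ptab_24) (Ptab_25) (Nat.ble 25 c)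
noncomputable def Ptab_s_23_26 (c : Nat) : Nat := @Bool.rec (fun _ => Nat) (Ptab_23) (Ptab_s_24_26 c) (Nat.ble 24 c)
noncomputable def Ptab_s_21_26 (c : Nat) : Nat := @Bool.rec (fun _ => Nat) (Ptab_s_21_23 c) (Ptab_s_23_26 c) (Nat.ble 23 c)
noncomputable def Ptab_s_26_28 (c : Nat) : Nat := @Bool.rec (fun _ => Nat) (Ptab_26) (Ptab_27) (Nat.ble 27 c)
noncomputable def Ptab_s_29_31 (c : Nat) : Nat := @Bool.rec (fun _ => Nat) (Ptab_29) (Ptab_30) (Nat.ble 30 c)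
noncomputable def Ptab_s_28_31 (c : Nat) : Nat := @Bool.rec (fun _ => Nat) (Ptab_28) (Ptab_s_29_31 c) (Nat.ble 29 c)
noncomputable def Ptab_s_26_31 (c : Nat) : Nat := @Bool.rec (fun _ => Nat) (Ptab_s_26_28 c) (Ptab_s_28_31 c) (Nat.ble 28 c)
noncomputable def Ptab_s_21_31 (c : Nat) : Nat := @Bool.rec (fun _ => Nat) (Ptab_s_21_26 c) (Ptab_s_26_31 c) (Nat.ble 26 c)
noncomputable def Ptab_s_31_33 (c : Nat) : Nat := @Bool.rec (fun _ => Nat) (Ptab_31) (Ptab_32) (Nat.ble 32 c)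
noncomputable def Ptab_s_34_36 (c : Nat) : Nat := @Bool.rec (fun _ => Nat) (Ptab_34) (Ptab_35) (Nat.ble 35 c)
noncomputable def Ptab_s_33_36 (c : Nat) : Nat := @Bool.rec (fun _ => Nat) (Ptab_33) (Ptab_s_34_36 c) (Nat.ble 34 c)
noncomputable def Ptab_s_31_36 (c : Nat) : Nat := @Bool.rec (fun _ => Nat) (Ptab_s_31_33 c) (Ptab_s_33_36 c) (Nat.ble 33 c)
noncomputable def Ptab_s_37_39 (c : Nat) : Nat := @Bool.rec (fun _ => Nat) (Ptab_37) (Ptab_38) (Nat.ble 38 c)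
noncomputable def Ptab_s_36_39 (c : Nat) : Nat := @Bool.rec (fun _ => Nat) (Ptab_36) (Ptab_s_37_39 c) (Nat.ble 37 c)
noncomputable def Ptab_s_40_42 (c : Nat) : Nat := @Bool.rec (fun _ => Nat) (Ptab_40) (Ptab_41) (Nat.ble 41 c)
noncomputable def Ptab_s_39_42 (c : Nat) : Nat := @Bool.rec (fun _ => Nat) (Ptab_39) (Ptab_s_40_42 c) (Nat.ble 40 c)
noncomputable def Ptab_s_36_42 (c : Nat) : Nat := @Bool.rec (fun _ => Nat) (Ptab_s_36_39 c) (Ptab_s_39_42 c) (Nat.ble 39 c)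
noncomputable def Ptab_s_31_42 (c : Nat) : Nat := @Bool.rec (fun _ => Nat) (Ptab_s_31_36 c) (Ptab_s_36_42 c) (Nat.ble 36 c)
noncomputable def Ptab_s_21_42 (c : Nat) : Nat := @Bool.rec (fun _ => Nat) (Ptab_s_21_31 c) (Ptab_s_31_42 c) (Nat.ble 31 c)
noncomputable def Ptab_s_0_42 (c : Nat) : Nat := @Bool.rec (fun _ => Nat) (Ptab_s_0_21 c) (Ptab_s_21_42 c) (Nat.ble 21 c)
noncomputable def Ptab_s_42_44 (c : Nat) : Nat := @Bool.rec (fun _ => Nat) (Ptab_42) (Ptab_43) (Nat.ble 43 c)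
noncomputable def Ptab_s_45_47 (c : Nat) : Nat := @Bool.rec (fun _ => Nat) (Ptab_45) (Ptab_46) (Nat.ble 46 c)
noncomputable def Ptab_s_44_47 (c : Nat) : Nat := @Bool.rec (fun _ => Nat) (Ptab_44) (Ptab_s_45_47 c) (Nat.ble 45 c)
noncomputable def Ptab_s_42_47 (c : Nat) : Nat := @Bool.rec (fun _ => Nat) (Ptab_s_42_44 c) (Ptab_s_44_47 c) (Nat.ble 44 c)
noncomputable def Ptab_s_47_49 (c : Nat) : Nat := @Bool.rec (fun _ => Nat) (Ptab_47) (Ptab_48) (Nat.ble 48 c)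
noncomputable def Ptab_s_50_52 (c : Nat) : Nat := @Bool.rec (fun _ => Nat) (Ptab_50) (Ptab_51) (Nat.ble 51 c)
noncomputable def Ptab_s_49_52 (c : Nat) : Nat := @Bool.rec (fun _ => Nat) (Ptab_49) (Ptab_s_50_52 c) (Nat.ble 50 c)
noncomputable def Ptab_s_47_52 (c : Nat) : Nat := @Bool.rec (fun _ => Nat) (Ptab_s_47_49 c) (Ptab_s_49_52 c) (Nat.ble 49 c)
noncomputable def Ptab_s_42_52 (c : Nat) : Nat := @Bool.rec (fun _ => Nat) (Ptab_s_42_47 c) (Ptab_s_47_52 c) (Nat.ble 47 c)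
noncomputable def Ptab_s_52_54 (c : Nat) : Nat := @Bool.rec (fun _ => Nat) (Ptab_52) (Ptab_53) (Nat.ble 53 c)
noncomputable def Ptab_s_55_57 (c : Nat) : Nat := @Bool.rec (fun _ => Nat) (Ptab_55) (Ptab_56) (Nat.ble 56 c)
noncomputable def Ptab_s_54_57 (c : Nat) : Nat := @Bool.rec (fun _ => Nat) (Ptab_54) (Ptab_s_55_57 c) (Nat.ble 55 c)
noncomputable def Ptab_s_52_57 (c : Nat) : Nat := @Bool.rec (fun _ => Nat) (Ptab_s_52_54 c) (Ptab_s_54_57 c) (Nat.ble 54 c)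
noncomputable def Ptab_s_58_60 (c : Nat) : Nat := @Bool.rec (fun _ => Nat) (Ptab_58) (Ptab_59) (Nat.ble 59 c)
noncomputable def Ptab_s_57_60 (c : Nat) : Nat := @Bool.rec (fun _ => Nat) (Ptab_57) (Ptab_s_58_60 c) (Nat.ble 58 c)
noncomputable def Ptab_s_61_63 (c : Nat) : Nat := @Bool.rec (fun _ => Nat) (Ptab_61) (Ptab_62) (Nat.ble 62 c)
noncomputable def Ptab_s_60_63 (c : Nat) : Nat := @Bool.rec (fun _ => Nat) (Ptab_60) (Ptab_s_61_63 c) (Nat.ble 61 c)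
noncomputable def Ptab_s_57_63 (c : Nat) : Nat := @Bool.rec (fun _ => Nat) (Ptab_s_57_60 c) (Ptab_s_60_63 c) (Nat.ble 60 c)
noncomputable def Ptab_s_52_63 (c : Nat) : Nat := @Bool.rec (fun _ => Nat) (Ptab_s_52_57 c) (Ptab_s_57_63 c) (Nat.ble 57 c)
noncomputable def Ptab_s_42_63 (c : Nat) : Nat := @Bool.rec (fun _ => Nat) (Ptab_s_42_52 c) (Ptab_s_52_63 c) (Nat.ble 52 c)
noncomputable def Ptab_s_63_65 (c : Nat) : Nat := @Bool.rec (fun _ => Nat) (Ptab_63) (Ptab_64) (Nat.ble 64 c)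
noncomputable def Ptab_s_66_68 (c : Nat) : Nat := @Bool.rec (fun _ => Nat) (Ptab_66) (Ptab_67) (Nat.ble 67 c)
noncomputable def Ptab_s_65_68 (c : Nat) : Nat := @Bool.rec (fun _ => Nat) (Ptab_65) (Ptab_s_66_68 c) (Nat.ble 66 c)
noncomputable def Ptab_s_63_68 (c : Nat) : Nat := @Bool.rec (fun _ => Nat) (Ptab_s_63_65 c) (Ptab_s_65_68 c) (Nat.ble 65 c)
noncomputable def Ptab_s_69_71 (c : Nat) : Nat := @Bool.rec (fun _ => Nat) (Ptab_69) (Ptab_70) (Nat.ble 70 c)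
noncomputable def Ptab_s_68_71 (c : Nat) : Nat := @Bool.rec (fun _ => Nat) (Ptab_68) (Ptab_s_69_71 c) (Nat.ble 69 c)
noncomputable def Ptab_s_72_74 (c : Nat) : Nat := @Bool.rec (fun _ => Nat) (Ptab_72) (Ptab_73) (Nat.ble 73 c)
noncomputable def Ptab_s_71_74 (c : Nat) : Nat := @Bool.rec (fun _ => Nat) (Ptab_71) (Ptab_s_72_74 c) (Nat.ble 72 c)
noncomputable def Ptab_s_68_74 (c : Nat) : Nat := @Bool.rec (fun _ => Nat) (Ptab_s_68_71 c) (Ptab_s_71_74 c) (Nat.ble 71 c)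
noncomputable def Ptab_s_63_74 (c : Nat) : Nat := @Bool.rec (fun _ => Nat) (Ptab_s_63_68 c) (Ptab_s_68_74 c) (Nat.ble 68 c)
noncomputable def Ptab_s_74_76 (c : Nat) : Nat := @Bool.rec (fun _ => Nat) (Ptab_74) (Ptab_75) (Nat.ble 75 c)
noncomputable def Ptab_s_77_79 (c : Nat) : Nat := @Bool.rec (fun _ => Nat) (Ptab_77) (Ptab_78) (Nat.ble 78 c)
noncomputable def Ptab_s_76_79 (c : Nat) : Nat := @Bool.rec (fun _ => Nat) (Ptab_76) (Ptab_s_77_79 c) (Nat.ble 77 c)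
noncomputable def Ptab_s_74_79 (c : Nat) : Nat := @Bool.rec (fun _ => Nat) (Ptab_s_74_76 c) (Ptab_s_76_79 c) (Nat.ble 76 c)
noncomputable def Ptab_s_80_82 (c : Nat) : Nat := @Bool.rec (fun _ => Nat) (Ptab_80) (Ptab_81) (Nat.ble 81 c)
noncomputable def Ptab_s_79_82 (c : Nat) : Nat := @Bool.rec (fun _ => Nat) (Ptab_79) (Ptab_s_80_82 c) (Nat.ble 80 c)
noncomputable def Ptab_s_83_85 (c : Nat) : Nat := @Bool.rec (fun _ => Nat) (Ptab_83) (Ptab_84) (Nat.ble 84 c)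
noncomputable def Ptab_s_82_85 (c : Nat) : Nat := @Bool.rec (fun _ => Nat) (Ptab_82) (Ptab_s_83_85 c) (Nat.ble 83 c)
noncomputable def Ptab_s_79_85 (c : Nat) : Nat := @Bool.rec (fun _ => Nat) (Ptab_s_79_82 c) (Ptab_s_82_85 c) (Nat.ble 82 c)
noncomputable def Ptab_s_74_85 (c : Nat) : Nat := @Bool.rec (fun _ => Nat) (Ptab_s_74_79 c) (Ptab_s_79_85 c) (Nat.ble 79 c)
noncomputable def Ptab_s_63_85 (c : Nat) : Nat := @Bool.rec (fun _ => Nat) (Ptab_s_63_74 c) (Ptab_s_74_85 c) (Nat.ble 74 c)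
noncomputable def Ptab_s_42_85 (c : Nat) : Nat := @Bool.rec (fun _ => Nat) (Ptab_s_42_63 c) (Ptab_s_63_85 c) (Nat.ble 63 c)
noncomputable def Ptab_s_0_85 (c : Nat) : Nat := @Bool.rec (fun _ => Nat) (Ptab_s_0_42 c) (Ptab_s_42_85 c) (Nat.ble 42 c)
noncomputable def Ptab (i : Nat) : Nat := rdw 18 262143 (Ptab_s_0_85 (Nat.shiftRight i 12)) (Nat.land i 4095)
noncomputable def RRtab (i : Nat) : Nat := rdw 5 31 RRtab_0 i
noncomputable def rBtab (i : Nat) : Nat := rdw 11 2047 rBtab_0 i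
noncomputable def rLtab (i : Nat) : Nat := rdw 6 63 rLtab_0 i
noncomputable def nameTab (i : Nat) : Nat := rdw 15 32767 nameTab_0 i
noncomputable def col0 (i : Nat) : Nat := rdw 11 2047 col0_0 i
noncomputable def col1 (i : Nat) : Nat := rdw 11 2047 col1_0 i
noncomputable def col2 (i : Nat) : Nat := rdw 11 2047 col2_0 i
noncomputable def col3 (i : Nat) : Nat := rdw 11 2047 col3_0 i
noncomputable def col4 (i : Nat) : Nat := rdw 11 2047 col4_0 i
noncomputable def col5 (i : Nat) : Nat := rdw 11 2047 col5_0 i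
noncomputable def col6 (i : Nat) : Nat := rdw 11 2047 col6_0 i
noncomputable def col7 (i : Nat) : Nat := rdw 11 2047 col7_0 i
noncomputable def col8 (i : Nat) : Nat := rdw 11 2047 col8_0 i
noncomputable def col9 (i : Nat) : Nat := rdw 11 2047 col9_0 i
noncomputable def col10 (i : Nat) : Nat := rdw 11 2047 col10_0 i
noncomputable def col11 (i : Nat) : Nat := rdw 11 2047 col11_0 i
noncomputable def finTab_s_1_3 (c : Nat) : Nat := @Bool.rec (fun _ => Nat) (finTab_1) (finTab_2) (Nat.ble 2 c)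
noncomputable def finTab_s_0_3 (c : Nat) : Nat := @Bool.rec (fun _ => Nat) (finTab_0) (finTab_s_1_3 c) (Nat.ble 1 c)
noncomputable def finTab_s_4_6 (c : Nat) : Nat := @Bool.rec (fun _ => Nat) (finTab_4) (finTab_5) (Nat.ble 5 c)
noncomputable def finTab_s_3_6 (c : Nat) : Nat := @Bool.rec (fun _ => Nat) (finTab_3) (finTab_s_4_6 c) (Nat.ble 4 c)
noncomputable def finTab_s_0_6 (c : Nat) : Nat := @Bool.rec (fun _ => Nat) (finTab_s_0_3 c) (finTab_s_3_6 c) (Nat.ble 3 c)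
noncomputable def finTab (i : Nat) : Nat := rdw 18 262143 (finTab_s_0_6 (Nat.shiftRight i 12)) (Nat.land i 4095)
noncomputable def clsTab_s_0_2 (c : Nat) : Nat := @Bool.rec (fun _ => Nat) (clsTab_0) (clsTab_1) (Nat.ble 1 c)
noncomputable def clsTab_s_2_4 (c : Nat) : Nat := @Bool.rec (fun _ => Nat) (clsTab_2) (clsTab_3) (Nat.ble 3 c)
noncomputable def clsTab_s_0_4 (c : Nat) : Nat := @Bool.rec (fun _ => Nat) (clsTab_s_0_2 c) (clsTab_s_2_4 c) (Nat.ble 2 c)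
noncomputable def clsTab (i : Nat) : Nat := rdw 11 2047 (clsTab_s_0_4 (Nat.shiftRight i 13)) (Nat.land i 8191)
noncomputable def oparTab (i : Nat) : Nat := rdw 11 2047 oparTab_0 i
noncomputable def olabTab (i : Nat) : Nat := rdw 3 7 olabTab_0 i
noncomputable def srcF (t : Nat) : Nat := Nat.land (Atab t) 32767
noncomputable def tgtF (t : Nat) : Nat := Nat.land (Nat.shiftRight (Atab t) 15) 32767
noncomputable def ltF (t : Nat) : Nat := Nat.shiftRight (Atab t) 30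
noncomputable def rhoF (t : Nat) : Nat := Nat.land (Btab (Nat.sub t 31950)) 127
noncomputable def rotF (t : Nat) : Nat := Nat.land (Nat.shiftRight (Btab (Nat.sub t 31950)) 7) 63
noncomputable def lenF (t : Nat) : Nat := Nat.land (Nat.shiftRight (Btab (Nat.sub t 31950)) 13) 63
noncomputable def offF (t : Nat) : Nat := Nat.shiftRight (Btab (Nat.sub t 31950)) 19
noncomputable def pfF (j : Nat) : Nat := Nat.shiftRight (Ptab j) 1
noncomputable def pdF (j : Nat) : Nat := Nat.land (Ptab j) 1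
noncomputable def tblF (i x : Nat) : Nat := @Bool.rec (fun _ => Nat) (@Bool.rec (fun _ => Nat) (@Bool.rec (fun _ => Nat) (col0 i) (@Bool.rec (fun _ => Nat) (col1 i) (col2 i) (Nat.ble 2 x)) (Nat.ble 1 x)) (@Bool.rec (fun _ => Nat) (col3 i) (@Bool.rec (fun _ => Nat) (col4 i) (col5 i) (Nat.ble 5 x)) (Nat.ble 4 x)) (Nat.ble 3 x)) (@Bool.rec (fun _ => Nat) (@Bool.rec (fun _ => Nat) (col6 i) (@Bool.rec (fun _ => Nat) (col7 i) (col8 i) (Nat.ble 8 x)) (Nat.ble 7 x)) (@Bool.rec (fun _ => Nat) (col9 i) (@Bool.rec (fun _ => Nat) (col10 i) (col11 i) (Nat.ble 11 x)) (Nat.ble 10 x)) (Nat.ble 9 x)) (Nat.ble 6 x)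
noncomputable def finE (i x : Nat) : Nat := finTab (Nat.add (Nat.mul i 12) x)
noncomputable def finFF (i x : Nat) : Nat := Nat.shiftRight (finE i x) 1
noncomputable def finDF (i x : Nat) : Nat := Nat.land (finE i x) 1

noncomputable def D : Log :=
  { k := 12, inv := invE 12 PC2Suz.invR, nR := 96, rBase := rBtab, rLen := rLtab, RR := RRtab,
    M := 31942, nB := 8, F := 104337, src := srcF, lt := ltF, tgt := tgtF, rho := rhoF, rot := rotF,
    off := offF, len := lenF, pf := pfF, pd := pdF }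

noncomputable def T : Tab :=
  { N := 1782, nameOf := nameTab, tbl := tblF, finF := finFF, finD := finDF, cls := clsTab }

def subs : List (List Nat) := [
  [0],
  [2],
  [4],
  [6] ]

def rw0 : List Nat := [0, 0, 0, 0, 0, 0, 0]
def rw1 : List Nat := [0, 0, 2, 1, 2, 0, 3, 0, 2, 1, 2]
def rw2 : List Nat := [0, 0, 0, 2, 0, 0, 0, 2, 0, 0, 0, 2]
def rw3 : List Nat := [0, 0, 2, 2, 0, 0, 3, 3, 0, 0, 3, 3]
def rw4 : List Nat := [4, 4, 11]
def rw5 : List Nat := [0, 4, 3, 4, 2, 1, 2, 1, 1, 4, 2]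
def rw6 : List Nat := [0, 4, 1, 3, 1, 3, 0, 4, 1, 3, 1, 3, 10]
def rw7 : List Nat := [6, 6, 11]
def rw8 : List Nat := [0, 2, 1, 4, 6, 2, 7, 4, 11]
def rw9 : List Nat := [0, 2, 1, 7, 4, 1, 2, 0, 4, 6, 11]
def rw10 : List Nat := [0, 0, 4, 3, 1, 3, 1, 4, 2, 4, 3, 0, 6, 0, 6, 4, 7]
def rw11 : List Nat := [8, 8]
def rw12 : List Nat := [0, 8, 1, 3, 4, 3, 8, 2, 4, 2, 11]
def rw13 : List Nat := [0, 3, 8, 2, 1, 3, 0, 4, 8, 4, 1, 2, 11]
def rw14 : List Nat := [0, 8, 1, 2, 8, 3, 0, 8, 1, 2, 8, 3]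
def rw15 : List Nat := [0, 0, 4, 3, 3, 1, 8, 0, 2, 2, 4, 1, 1, 8, 11]
def rw16 : List Nat := [0, 0, 4, 2, 2, 1, 8, 0, 2, 2, 4, 1, 1, 8, 11]
def rw17 : List Nat := [0, 0, 3, 8, 1, 4, 8, 4, 0, 8, 1, 3, 1, 3]
def rw18 : List Nat := [0, 2, 1, 4, 0, 8, 1, 6, 2, 6, 0, 8, 1, 4]
def rw19 : List Nat := [0, 3, 0, 3, 8, 2, 1, 2, 1, 2, 0, 8, 1, 3]
def rw20 : List Nat := [0, 0, 2, 0, 0, 2, 8, 3, 1, 1, 3, 1, 1, 8]
def rw21 : List Nat := [0, 4, 2, 8, 3, 4, 1, 2, 4, 0, 8, 1, 4, 3]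
def rw22 : List Nat := [0, 0, 0, 3, 4, 8, 4, 2, 1, 1, 1, 4, 8, 4]
def rw23 : List Nat := [0, 4, 8, 4, 8, 2, 2, 8, 4, 8, 4, 1, 2, 2]
def rw24 : List Nat := [0, 2, 8, 6, 8, 4, 8, 6, 8, 0, 4, 1, 4, 2, 11]
def rw25 : List Nat := [2, 8, 4, 6, 2, 8, 4, 6, 2, 8, 4, 6, 2, 8, 4, 6, 2, 8, 4, 6, 2, 8, 4, 6, 2, 8, 4, 6, 2, 8, 4, 6]
def rw26 : List Nat := [10, 10]
def rw27 : List Nat := [11, 1, 10, 0]
def rw28 : List Nat := [11, 3, 10, 2]
def rw29 : List Nat := [11, 5, 10, 4]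
def rw30 : List Nat := [11, 7, 10, 6]
def rw31 : List Nat := [11, 9, 10, 8]
def realLit : List (List Nat) := [rw0, rw1, rw2, rw3, rw4, rw5, rw6, rw7, rw8, rw9, rw10, rw11, rw12, rw13, rw14, rw15, rw16, rw17, rw18, rw19, rw20, rw21, rw22, rw23, rw24, rw25, rw26, rw27, rw28, rw29, rw30, rw31]
noncomputable def actR0 (i : Nat) : Nat := col1 (col1 (col1 (col1 (col1 (col1 (col1 (i)))))))
theorem actR0_eq (i : Nat) : actR0 i = Tab.act T D rw0 i := rfl
noncomputable def actR1 (i : Nat) : Nat := col1 (col1 (col3 (col0 (col3 (col1 (col2 (col1 (col3 (col0 (col3 (i)))))))))))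
theorem actR1_eq (i : Nat) : actR1 i = Tab.act T D rw1 i := rfl
noncomputable def actR2 (i : Nat) : Nat := col1 (col1 (col1 (col3 (col1 (col1 (col1 (col3 (col1 (col1 (col1 (col3 (i))))))))))))
theorem actR2_eq (i : Nat) : actR2 i = Tab.act T D rw2 i := rfl
noncomputable def actR3 (i : Nat) : Nat := col1 (col1 (col3 (col3 (col1 (col1 (col2 (col2 (col1 (col1 (col2 (col2 (i))))))))))))
theorem actR3_eq (i : Nat) : actR3 i = Tab.act T D rw3 i := rfl
noncomputable def actR4 (i : Nat) : Nat := col5 (col5 (col10 (i)))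
theorem actR4_eq (i : Nat) : actR4 i = Tab.act T D rw4 i := rfl
noncomputable def actR5 (i : Nat) : Nat := col1 (col5 (col2 (col5 (col3 (col0 (col3 (col0 (col0 (col5 (col3 (i)))))))))))
theorem actR5_eq (i : Nat) : actR5 i = Tab.act T D rw5 i := rfl
noncomputable def actR6 (i : Nat) : Nat := col1 (col5 (col0 (col2 (col0 (col2 (col1 (col5 (col0 (col2 (col0 (col2 (col11 (i)))))))))))))
theorem actR6_eq (i : Nat) : actR6 i = Tab.act T D rw6 i := rfl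
noncomputable def actR7 (i : Nat) : Nat := col7 (col7 (col10 (i)))
theorem actR7_eq (i : Nat) : actR7 i = Tab.act T D rw7 i := rfl
noncomputable def actR8 (i : Nat) : Nat := col1 (col3 (col0 (col5 (col7 (col3 (col6 (col5 (col10 (i)))))))))
theorem actR8_eq (i : Nat) : actR8 i = Tab.act T D rw8 i := rfl
noncomputable def actR9 (i : Nat) : Nat := col1 (col3 (col0 (col6 (col5 (col0 (col3 (col1 (col5 (col7 (col10 (i)))))))))))
theorem actR9_eq (i : Nat) : actR9 i = Tab.act T D rw9 i := rfl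
noncomputable def actR10 (i : Nat) : Nat := col1 (col1 (col5 (col2 (col0 (col2 (col0 (col5 (col3 (col5 (col2 (col1 (col7 (col1 (col7 (col5 (col6 (i)))))))))))))))))
theorem actR10_eq (i : Nat) : actR10 i = Tab.act T D rw10 i := rfl
noncomputable def actR11 (i : Nat) : Nat := col9 (col9 (i))
theorem actR11_eq (i : Nat) : actR11 i = Tab.act T D rw11 i := rfl
noncomputable def actR12 (i : Nat) : Nat := col1 (col9 (col0 (col2 (col5 (col2 (col9 (col3 (col5 (col3 (col10 (i)))))))))))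
theorem actR12_eq (i : Nat) : actR12 i = Tab.act T D rw12 i := rfl
noncomputable def actR13 (i : Nat) : Nat := col1 (col2 (col9 (col3 (col0 (col2 (col1 (col5 (col9 (col5 (col0 (col3 (col10 (i)))))))))))))
theorem actR13_eq (i : Nat) : actR13 i = Tab.act T D rw13 i := rfl
noncomputable def actR14 (i : Nat) : Nat := col1 (col9 (col0 (col3 (col9 (col2 (col1 (col9 (col0 (col3 (col9 (col2 (i))))))))))))
theorem actR14_eq (i : Nat) : actR14 i = Tab.act T D rw14 i := rfl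
noncomputable def actR15 (i : Nat) : Nat := col1 (col1 (col5 (col2 (col2 (col0 (col9 (col1 (col3 (col3 (col5 (col0 (col0 (col9 (col10 (i)))))))))))))))
theorem actR15_eq (i : Nat) : actR15 i = Tab.act T D rw15 i := rfl
noncomputable def actR16 (i : Nat) : Nat := col1 (col1 (col5 (col3 (col3 (col0 (col9 (col1 (col3 (col3 (col5 (col0 (col0 (col9 (col10 (i)))))))))))))))
theorem actR16_eq (i : Nat) : actR16 i = Tab.act T D rw16 i := rfl
noncomputable def actR17 (i : Nat) : Nat := col1 (col1 (col2 (col9 (col0 (col5 (col9 (col5 (col1 (col9 (col0 (col2 (col0 (col2 (i))))))))))))))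
theorem actR17_eq (i : Nat) : actR17 i = Tab.act T D rw17 i := rfl
noncomputable def actR18 (i : Nat) : Nat := col1 (col3 (col0 (col5 (col1 (col9 (col0 (col7 (col3 (col7 (col1 (col9 (col0 (col5 (i))))))))))))))
theorem actR18_eq (i : Nat) : actR18 i = Tab.act T D rw18 i := rfl
noncomputable def actR19 (i : Nat) : Nat := col1 (col2 (col1 (col2 (col9 (col3 (col0 (col3 (col0 (col3 (col1 (col9 (col0 (col2 (i))))))))))))))
theorem actR19_eq (i : Nat) : actR19 i = Tab.act T D rw19 i := rfl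
noncomputable def actR20 (i : Nat) : Nat := col1 (col1 (col3 (col1 (col1 (col3 (col9 (col2 (col0 (col0 (col2 (col0 (col0 (col9 (i))))))))))))))
theorem actR20_eq (i : Nat) : actR20 i = Tab.act T D rw20 i := rfl
noncomputable def actR21 (i : Nat) : Nat := col1 (col5 (col3 (col9 (col2 (col5 (col0 (col3 (col5 (col1 (col9 (col0 (col5 (col2 (i))))))))))))))
theorem actR21_eq (i : Nat) : actR21 i = Tab.act T D rw21 i := rfl
noncomputable def actR22 (i : Nat) : Nat := col1 (col1 (col1 (col2 (col5 (col9 (col5 (col3 (col0 (col0 (col0 (col5 (col9 (col5 (i))))))))))))))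
theorem actR22_eq (i : Nat) : actR22 i = Tab.act T D rw22 i := rfl
noncomputable def actR23 (i : Nat) : Nat := col1 (col5 (col9 (col5 (col9 (col3 (col3 (col9 (col5 (col9 (col5 (col0 (col3 (col3 (i))))))))))))))
theorem actR23_eq (i : Nat) : actR23 i = Tab.act T D rw23 i := rfl
noncomputable def actR24 (i : Nat) : Nat := col1 (col3 (col9 (col7 (col9 (col5 (col9 (col7 (col9 (col1 (col5 (col0 (col5 (col3 (col10 (i)))))))))))))))
theorem actR24_eq (i : Nat) : actR24 i = Tab.act T D rw24 i := rfl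
noncomputable def actR25 (i : Nat) : Nat := col3 (col9 (col5 (col7 (col3 (col9 (col5 (col7 (col3 (col9 (col5 (col7 (col3 (col9 (col5 (col7 (col3 (col9 (col5 (col7 (col3 (col9 (col5 (col7 (col3 (col9 (col5 (col7 (col3 (col9 (col5 (col7 (i))))))))))))))))))))))))))))))))
theorem actR25_eq (i : Nat) : actR25 i = Tab.act T D rw25 i := rfl
noncomputable def actR26 (i : Nat) : Nat := col11 (col11 (i))
theorem actR26_eq (i : Nat) : actR26 i = Tab.act T D rw26 i := rfl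
noncomputable def actR27 (i : Nat) : Nat := col10 (col0 (col11 (col1 (i))))
theorem actR27_eq (i : Nat) : actR27 i = Tab.act T D rw27 i := rfl
noncomputable def actR28 (i : Nat) : Nat := col10 (col2 (col11 (col3 (i))))
theorem actR28_eq (i : Nat) : actR28 i = Tab.act T D rw28 i := rfl
noncomputable def actR29 (i : Nat) : Nat := col10 (col4 (col11 (col5 (i))))
theorem actR29_eq (i : Nat) : actR29 i = Tab.act T D rw29 i := rfl
noncomputable def actR30 (i : Nat) : Nat := col10 (col6 (col11 (col7 (i))))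
theorem actR30_eq (i : Nat) : actR30 i = Tab.act T D rw30 i := rfl
noncomputable def actR31 (i : Nat) : Nat := col10 (col8 (col11 (col9 (i))))
theorem actR31_eq (i : Nat) : actR31 i = Tab.act T D rw31 i := rfl

end Cfsg.Agent.Lib.Helper4.TCD.C2SuzB
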