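import Cfsg.Agent.Lib.Helper4.TC14
import Cfsg.Agent.Lib.Helper4.TCP_C2Suz
import Cfsg.Agent.Lib.Helper4.TCD_C2SuzR_D0
import Cfsg.Agent.Lib.Helper4.TCD_C2SuzR_D1
import Cfsg.Agent.Lib.Helper4.TCD_C2SuzR_D2

namespace Cfsg.Agent.Lib.Helper4.TCD.C2SuzR

open Cfsg.Agent.Lib.Helper4.TC

set_option maxRecDepth 100000

noncomputable def col0_s_0_2 (c : Nat) : Nat := @Bool.rec (fun _ => Nat) (col0_0) (col0_1) (Nat.ble 1 c)
noncomputable def col0_s_2_4 (c : Nat) : Nat := @Bool.rec (fun _ => Nat) (col0_2) (col0_3) (Nat.ble 3 c)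
noncomputable def col0_s_0_4 (c : Nat) : Nat := @Bool.rec (fun _ => Nat) (col0_s_0_2 c) (col0_s_2_4 c) (Nat.ble 2 c)
noncomputable def col0_s_4_6 (c : Nat) : Nat := @Bool.rec (fun _ => Nat) (col0_4) (col0_5) (Nat.ble 5 c)
noncomputable def col0_s_6_8 (c : Nat) : Nat := @Bool.rec (fun _ => Nat) (col0_6) (col0_7) (Nat.ble 7 c)
noncomputable def col0_s_4_8 (c : Nat) : Nat := @Bool.rec (fun _ => Nat) (col0_s_4_6 c) (col0_s_6_8 c) (Nat.ble 6 c)
noncomputable def col0_s_0_8 (c : Nat) : Nat := @Bool.rec (fun _ => Nat) (col0_s_0_4 c) (col0_s_4_8 c) (Nat.ble 4 c)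
noncomputable def col0_s_8_10 (c : Nat) : Nat := @Bool.rec (fun _ => Nat) (col0_8) (col0_9) (Nat.ble 9 c)
noncomputable def col0_s_10_12 (c : Nat) : Nat := @Bool.rec (fun _ => Nat) (col0_10) (col0_11) (Nat.ble 11 c)
noncomputable def col0_s_8_12 (c : Nat) : Nat := @Bool.rec (fun _ => Nat) (col0_s_8_10 c) (col0_s_10_12 c) (Nat.ble 10 c)
noncomputable def col0_s_12_14 (c : Nat) : Nat := @Bool.rec (fun _ => Nat) (col0_12) (col0_13) (Nat.ble 13 c)
noncomputable def col0_s_14_16 (c : Nat) : Nat := @Bool.rec (fun _ => Nat) (col0_14) (col0_15) (Nat.ble 15 c)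
noncomputable def col0_s_12_16 (c : Nat) : Nat := @Bool.rec (fun _ => Nat) (col0_s_12_14 c) (col0_s_14_16 c) (Nat.ble 14 c)
noncomputable def col0_s_8_16 (c : Nat) : Nat := @Bool.rec (fun _ => Nat) (col0_s_8_12 c) (col0_s_12_16 c) (Nat.ble 12 c)
noncomputable def col0_s_0_16 (c : Nat) : Nat := @Bool.rec (fun _ => Nat) (col0_s_0_8 c) (col0_s_8_16 c) (Nat.ble 8 c)
noncomputable def col0 (i : Nat) : Nat := rdw 16 65535 (col0_s_0_16 (Nat.shiftRight i 12)) (Nat.land i 4095)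
noncomputable def col1_s_0_2 (c : Nat) : Nat := @Bool.rec (fun _ => Nat) (col1_0) (col1_1) (Nat.ble 1 c)
noncomputable def col1_s_2_4 (c : Nat) : Nat := @Bool.rec (fun _ => Nat) (col1_2) (col1_3) (Nat.ble 3 c)
noncomputable def col1_s_0_4 (c : Nat) : Nat := @Bool.rec (fun _ => Nat) (col1_s_0_2 c) (col1_s_2_4 c) (Nat.ble 2 c)
noncomputable def col1_s_4_6 (c : Nat) : Nat := @Bool.rec (fun _ => Nat) (col1_4) (col1_5) (Nat.ble 5 c)
noncomputable def col1_s_6_8 (c : Nat) : Nat := @Bool.rec (fun _ => Nat) (col1_6) (col1_7) (Nat.ble 7 c)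
noncomputable def col1_s_4_8 (c : Nat) : Nat := @Bool.rec (fun _ => Nat) (col1_s_4_6 c) (col1_s_6_8 c) (Nat.ble 6 c)
noncomputable def col1_s_0_8 (c : Nat) : Nat := @Bool.rec (fun _ => Nat) (col1_s_0_4 c) (col1_s_4_8 c) (Nat.ble 4 c)
noncomputable def col1_s_8_10 (c : Nat) : Nat := @Bool.rec (fun _ => Nat) (col1_8) (col1_9) (Nat.ble 9 c)
noncomputable def col1_s_10_12 (c : Nat) : Nat := @Bool.rec (fun _ => Nat) (col1_10) (col1_11) (Nat.ble 11 c)
noncomputable def col1_s_8_12 (c : Nat) : Nat := @Bool.rec (fun _ => Nat) (col1_s_8_10 c) (col1_s_10_12 c) (Nat.ble 10 c)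
noncomputable def col1_s_12_14 (c : Nat) : Nat := @Bool.rec (fun _ => Nat) (col1_12) (col1_13) (Nat.ble 13 c)
noncomputable def col1_s_14_16 (c : Nat) : Nat := @Bool.rec (fun _ => Nat) (col1_14) (col1_15) (Nat.ble 15 c)
noncomputable def col1_s_12_16 (c : Nat) : Nat := @Bool.rec (fun _ => Nat) (col1_s_12_14 c) (col1_s_14_16 c) (Nat.ble 14 c)
noncomputable def col1_s_8_16 (c : Nat) : Nat := @Bool.rec (fun _ => Nat) (col1_s_8_12 c) (col1_s_12_16 c) (Nat.ble 12 c)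
noncomputable def col1_s_0_16 (c : Nat) : Nat := @Bool.rec (fun _ => Nat) (col1_s_0_8 c) (col1_s_8_16 c) (Nat.ble 8 c)
noncomputable def col1 (i : Nat) : Nat := rdw 16 65535 (col1_s_0_16 (Nat.shiftRight i 12)) (Nat.land i 4095)
noncomputable def col2_s_0_2 (c : Nat) : Nat := @Bool.rec (fun _ => Nat) (col2_0) (col2_1) (Nat.ble 1 c)
noncomputable def col2_s_2_4 (c : Nat) : Nat := @Bool.rec (fun _ => Nat) (col2_2) (col2_3) (Nat.ble 3 c)
noncomputable def col2_s_0_4 (c : Nat) : Nat := @Bool.rec (fun _ => Nat) (col2_s_0_2 c) (col2_s_2_4 c) (Nat.ble 2 c)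
noncomputable def col2_s_4_6 (c : Nat) : Nat := @Bool.rec (fun _ => Nat) (col2_4) (col2_5) (Nat.ble 5 c)
noncomputable def col2_s_6_8 (c : Nat) : Nat := @Bool.rec (fun _ => Nat) (col2_6) (col2_7) (Nat.ble 7 c)
noncomputable def col2_s_4_8 (c : Nat) : Nat := @Bool.rec (fun _ => Nat) (col2_s_4_6 c) (col2_s_6_8 c) (Nat.ble 6 c)
noncomputable def col2_s_0_8 (c : Nat) : Nat := @Bool.rec (fun _ => Nat) (col2_s_0_4 c) (col2_s_4_8 c) (Nat.ble 4 c)
noncomputable def col2_s_8_10 (c : Nat) : Nat := @Bool.rec (fun _ => Nat) (col2_8) (col2_9) (Nat.ble 9 c)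
noncomputable def col2_s_10_12 (c : Nat) : Nat := @Bool.rec (fun _ => Nat) (col2_10) (col2_11) (Nat.ble 11 c)
noncomputable def col2_s_8_12 (c : Nat) : Nat := @Bool.rec (fun _ => Nat) (col2_s_8_10 c) (col2_s_10_12 c) (Nat.ble 10 c)
noncomputable def col2_s_12_14 (c : Nat) : Nat := @Bool.rec (fun _ => Nat) (col2_12) (col2_13) (Nat.ble 13 c)
noncomputable def col2_s_14_16 (c : Nat) : Nat := @Bool.rec (fun _ => Nat) (col2_14) (col2_15) (Nat.ble 15 c)
noncomputable def col2_s_12_16 (c : Nat) : Nat := @Bool.rec (fun _ => Nat) (col2_s_12_14 c) (col2_s_14_16 c) (Nat.ble 14 c)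
noncomputable def col2_s_8_16 (c : Nat) : Nat := @Bool.rec (fun _ => Nat) (col2_s_8_12 c) (col2_s_12_16 c) (Nat.ble 12 c)
noncomputable def col2_s_0_16 (c : Nat) : Nat := @Bool.rec (fun _ => Nat) (col2_s_0_8 c) (col2_s_8_16 c) (Nat.ble 8 c)
noncomputable def col2 (i : Nat) : Nat := rdw 16 65535 (col2_s_0_16 (Nat.shiftRight i 12)) (Nat.land i 4095)
noncomputable def col3_s_0_2 (c : Nat) : Nat := @Bool.rec (fun _ => Nat) (col3_0) (col3_1) (Nat.ble 1 c)
noncomputable def col3_s_2_4 (c : Nat) : Nat := @Bool.rec (fun _ => Nat) (col3_2) (col3_3) (Nat.ble 3 c)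
noncomputable def col3_s_0_4 (c : Nat) : Nat := @Bool.rec (fun _ => Nat) (col3_s_0_2 c) (col3_s_2_4 c) (Nat.ble 2 c)
noncomputable def col3_s_4_6 (c : Nat) : Nat := @Bool.rec (fun _ => Nat) (col3_4) (col3_5) (Nat.ble 5 c)
noncomputable def col3_s_6_8 (c : Nat) : Nat := @Bool.rec (fun _ => Nat) (col3_6) (col3_7) (Nat.ble 7 c)
noncomputable def col3_s_4_8 (c : Nat) : Nat := @Bool.rec (fun _ => Nat) (col3_s_4_6 c) (col3_s_6_8 c) (Nat.ble 6 c)
noncomputable def col3_s_0_8 (c : Nat) : Nat := @Bool.rec (fun _ => Nat) (col3_s_0_4 c) (col3_s_4_8 c) (Nat.ble 4 c)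
noncomputable def col3_s_8_10 (c : Nat) : Nat := @Bool.rec (fun _ => Nat) (col3_8) (col3_9) (Nat.ble 9 c)
noncomputable def col3_s_10_12 (c : Nat) : Nat := @Bool.rec (fun _ => Nat) (col3_10) (col3_11) (Nat.ble 11 c)
noncomputable def col3_s_8_12 (c : Nat) : Nat := @Bool.rec (fun _ => Nat) (col3_s_8_10 c) (col3_s_10_12 c) (Nat.ble 10 c)
noncomputable def col3_s_12_14 (c : Nat) : Nat := @Bool.rec (fun _ => Nat) (col3_12) (col3_13) (Nat.ble 13 c)
noncomputable def col3_s_14_16 (c : Nat) : Nat := @Bool.rec (fun _ => Nat) (col3_14) (col3_15) (Nat.ble 15 c)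
noncomputable def col3_s_12_16 (c : Nat) : Nat := @Bool.rec (fun _ => Nat) (col3_s_12_14 c) (col3_s_14_16 c) (Nat.ble 14 c)
noncomputable def col3_s_8_16 (c : Nat) : Nat := @Bool.rec (fun _ => Nat) (col3_s_8_12 c) (col3_s_12_16 c) (Nat.ble 12 c)
noncomputable def col3_s_0_16 (c : Nat) : Nat := @Bool.rec (fun _ => Nat) (col3_s_0_8 c) (col3_s_8_16 c) (Nat.ble 8 c)
noncomputable def col3 (i : Nat) : Nat := rdw 16 65535 (col3_s_0_16 (Nat.shiftRight i 12)) (Nat.land i 4095)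
noncomputable def col4_s_0_2 (c : Nat) : Nat := @Bool.rec (fun _ => Nat) (col4_0) (col4_1) (Nat.ble 1 c)
noncomputable def col4_s_2_4 (c : Nat) : Nat := @Bool.rec (fun _ => Nat) (col4_2) (col4_3) (Nat.ble 3 c)
noncomputable def col4_s_0_4 (c : Nat) : Nat := @Bool.rec (fun _ => Nat) (col4_s_0_2 c) (col4_s_2_4 c) (Nat.ble 2 c)
noncomputable def col4_s_4_6 (c : Nat) : Nat := @Bool.rec (fun _ => Nat) (col4_4) (col4_5) (Nat.ble 5 c)
noncomputable def col4_s_6_8 (c : Nat) : Nat := @Bool.rec (fun _ => Nat) (col4_6) (col4_7) (Nat.ble 7 c)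
noncomputable def col4_s_4_8 (c : Nat) : Nat := @Bool.rec (fun _ => Nat) (col4_s_4_6 c) (col4_s_6_8 c) (Nat.ble 6 c)
noncomputable def col4_s_0_8 (c : Nat) : Nat := @Bool.rec (fun _ => Nat) (col4_s_0_4 c) (col4_s_4_8 c) (Nat.ble 4 c)
noncomputable def col4_s_8_10 (c : Nat) : Nat := @Bool.rec (fun _ => Nat) (col4_8) (col4_9) (Nat.ble 9 c)
noncomputable def col4_s_10_12 (c : Nat) : Nat := @Bool.rec (fun _ => Nat) (col4_10) (col4_11) (Nat.ble 11 c)
noncomputable def col4_s_8_12 (c : Nat) : Nat := @Bool.rec (fun _ => Nat) (col4_s_8_10 c) (col4_s_10_12 c) (Nat.ble 10 c)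
noncomputable def col4_s_12_14 (c : Nat) : Nat := @Bool.rec (fun _ => Nat) (col4_12) (col4_13) (Nat.ble 13 c)
noncomputable def col4_s_14_16 (c : Nat) : Nat := @Bool.rec (fun _ => Nat) (col4_14) (col4_15) (Nat.ble 15 c)
noncomputable def col4_s_12_16 (c : Nat) : Nat := @Bool.rec (fun _ => Nat) (col4_s_12_14 c) (col4_s_14_16 c) (Nat.ble 14 c)
noncomputable def col4_s_8_16 (c : Nat) : Nat := @Bool.rec (fun _ => Nat) (col4_s_8_12 c) (col4_s_12_16 c) (Nat.ble 12 c)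
noncomputable def col4_s_0_16 (c : Nat) : Nat := @Bool.rec (fun _ => Nat) (col4_s_0_8 c) (col4_s_8_16 c) (Nat.ble 8 c)
noncomputable def col4 (i : Nat) : Nat := rdw 16 65535 (col4_s_0_16 (Nat.shiftRight i 12)) (Nat.land i 4095)
noncomputable def col5_s_0_2 (c : Nat) : Nat := @Bool.rec (fun _ => Nat) (col5_0) (col5_1) (Nat.ble 1 c)
noncomputable def col5_s_2_4 (c : Nat) : Nat := @Bool.rec (fun _ => Nat) (col5_2) (col5_3) (Nat.ble 3 c)
noncomputable def col5_s_0_4 (c : Nat) : Nat := @Bool.rec (fun _ => Nat) (col5_s_0_2 c) (col5_s_2_4 c) (Nat.ble 2 c)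
noncomputable def col5_s_4_6 (c : Nat) : Nat := @Bool.rec (fun _ => Nat) (col5_4) (col5_5) (Nat.ble 5 c)
noncomputable def col5_s_6_8 (c : Nat) : Nat := @Bool.rec (fun _ => Nat) (col5_6) (col5_7) (Nat.ble 7 c)
noncomputable def col5_s_4_8 (c : Nat) : Nat := @Bool.rec (fun _ => Nat) (col5_s_4_6 c) (col5_s_6_8 c) (Nat.ble 6 c)
noncomputable def col5_s_0_8 (c : Nat) : Nat := @Bool.rec (fun _ => Nat) (col5_s_0_4 c) (col5_s_4_8 c) (Nat.ble 4 c)
noncomputable def col5_s_8_10 (c : Nat) : Nat := @Bool.rec (fun _ => Nat) (col5_8) (col5_9) (Nat.ble 9 c)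
noncomputable def col5_s_10_12 (c : Nat) : Nat := @Bool.rec (fun _ => Nat) (col5_10) (col5_11) (Nat.ble 11 c)
noncomputable def col5_s_8_12 (c : Nat) : Nat := @Bool.rec (fun _ => Nat) (col5_s_8_10 c) (col5_s_10_12 c) (Nat.ble 10 c)
noncomputable def col5_s_12_14 (c : Nat) : Nat := @Bool.rec (fun _ => Nat) (col5_12) (col5_13) (Nat.ble 13 c)
noncomputable def col5_s_14_16 (c : Nat) : Nat := @Bool.rec (fun _ => Nat) (col5_14) (col5_15) (Nat.ble 15 c)
noncomputable def col5_s_12_16 (c : Nat) : Nat := @Bool.rec (fun _ => Nat) (col5_s_12_14 c) (col5_s_14_16 c) (Nat.ble 14 c)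
noncomputable def col5_s_8_16 (c : Nat) : Nat := @Bool.rec (fun _ => Nat) (col5_s_8_12 c) (col5_s_12_16 c) (Nat.ble 12 c)
noncomputable def col5_s_0_16 (c : Nat) : Nat := @Bool.rec (fun _ => Nat) (col5_s_0_8 c) (col5_s_8_16 c) (Nat.ble 8 c)
noncomputable def col5 (i : Nat) : Nat := rdw 16 65535 (col5_s_0_16 (Nat.shiftRight i 12)) (Nat.land i 4095)
noncomputable def col6_s_0_2 (c : Nat) : Nat := @Bool.rec (fun _ => Nat) (col6_0) (col6_1) (Nat.ble 1 c)
noncomputable def col6_s_2_4 (c : Nat) : Nat := @Bool.rec (fun _ => Nat) (col6_2) (col6_3) (Nat.ble 3 c)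
noncomputable def col6_s_0_4 (c : Nat) : Nat := @Bool.rec (fun _ => Nat) (col6_s_0_2 c) (col6_s_2_4 c) (Nat.ble 2 c)
noncomputable def col6_s_4_6 (c : Nat) : Nat := @Bool.rec (fun _ => Nat) (col6_4) (col6_5) (Nat.ble 5 c)
noncomputable def col6_s_6_8 (c : Nat) : Nat := @Bool.rec (fun _ => Nat) (col6_6) (col6_7) (Nat.ble 7 c)
noncomputable def col6_s_4_8 (c : Nat) : Nat := @Bool.rec (fun _ => Nat) (col6_s_4_6 c) (col6_s_6_8 c) (Nat.ble 6 c)
noncomputable def col6_s_0_8 (c : Nat) : Nat := @Bool.rec (fun _ => Nat) (col6_s_0_4 c) (col6_s_4_8 c) (Nat.ble 4 c)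
noncomputable def col6_s_8_10 (c : Nat) : Nat := @Bool.rec (fun _ => Nat) (col6_8) (col6_9) (Nat.ble 9 c)
noncomputable def col6_s_10_12 (c : Nat) : Nat := @Bool.rec (fun _ => Nat) (col6_10) (col6_11) (Nat.ble 11 c)
noncomputable def col6_s_8_12 (c : Nat) : Nat := @Bool.rec (fun _ => Nat) (col6_s_8_10 c) (col6_s_10_12 c) (Nat.ble 10 c)
noncomputable def col6_s_12_14 (c : Nat) : Nat := @Bool.rec (fun _ => Nat) (col6_12) (col6_13) (Nat.ble 13 c)
noncomputable def col6_s_14_16 (c : Nat) : Nat := @Bool.rec (fun _ => Nat) (col6_14) (col6_15) (Nat.ble 15 c)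
noncomputable def col6_s_12_16 (c : Nat) : Nat := @Bool.rec (fun _ => Nat) (col6_s_12_14 c) (col6_s_14_16 c) (Nat.ble 14 c)
noncomputable def col6_s_8_16 (c : Nat) : Nat := @Bool.rec (fun _ => Nat) (col6_s_8_12 c) (col6_s_12_16 c) (Nat.ble 12 c)
noncomputable def col6_s_0_16 (c : Nat) : Nat := @Bool.rec (fun _ => Nat) (col6_s_0_8 c) (col6_s_8_16 c) (Nat.ble 8 c)
noncomputable def col6 (i : Nat) : Nat := rdw 16 65535 (col6_s_0_16 (Nat.shiftRight i 12)) (Nat.land i 4095)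
noncomputable def col7_s_0_2 (c : Nat) : Nat := @Bool.rec (fun _ => Nat) (col7_0) (col7_1) (Nat.ble 1 c)
noncomputable def col7_s_2_4 (c : Nat) : Nat := @Bool.rec (fun _ => Nat) (col7_2) (col7_3) (Nat.ble 3 c)
noncomputable def col7_s_0_4 (c : Nat) : Nat := @Bool.rec (fun _ => Nat) (col7_s_0_2 c) (col7_s_2_4 c) (Nat.ble 2 c)
noncomputable def col7_s_4_6 (c : Nat) : Nat := @Bool.rec (fun _ => Nat) (col7_4) (col7_5) (Nat.ble 5 c)
noncomputable def col7_s_6_8 (c : Nat) : Nat := @Bool.rec (fun _ => Nat) (col7_6) (col7_7) (Nat.ble 7 c)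
noncomputable def col7_s_4_8 (c : Nat) : Nat := @Bool.rec (fun _ => Nat) (col7_s_4_6 c) (col7_s_6_8 c) (Nat.ble 6 c)
noncomputable def col7_s_0_8 (c : Nat) : Nat := @Bool.rec (fun _ => Nat) (col7_s_0_4 c) (col7_s_4_8 c) (Nat.ble 4 c)
noncomputable def col7_s_8_10 (c : Nat) : Nat := @Bool.rec (fun _ => Nat) (col7_8) (col7_9) (Nat.ble 9 c)
noncomputable def col7_s_10_12 (c : Nat) : Nat := @Bool.rec (fun _ => Nat) (col7_10) (col7_11) (Nat.ble 11 c)
noncomputable def col7_s_8_12 (c : Nat) : Nat := @Bool.rec (fun _ => Nat) (col7_s_8_10 c) (col7_s_10_12 c) (Nat.ble 10 c)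
noncomputable def col7_s_12_14 (c : Nat) : Nat := @Bool.rec (fun _ => Nat) (col7_12) (col7_13) (Nat.ble 13 c)
noncomputable def col7_s_14_16 (c : Nat) : Nat := @Bool.rec (fun _ => Nat) (col7_14) (col7_15) (Nat.ble 15 c)
noncomputable def col7_s_12_16 (c : Nat) : Nat := @Bool.rec (fun _ => Nat) (col7_s_12_14 c) (col7_s_14_16 c) (Nat.ble 14 c)
noncomputable def col7_s_8_16 (c : Nat) : Nat := @Bool.rec (fun _ => Nat) (col7_s_8_12 c) (col7_s_12_16 c) (Nat.ble 12 c)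
noncomputable def col7_s_0_16 (c : Nat) : Nat := @Bool.rec (fun _ => Nat) (col7_s_0_8 c) (col7_s_8_16 c) (Nat.ble 8 c)
noncomputable def col7 (i : Nat) : Nat := rdw 16 65535 (col7_s_0_16 (Nat.shiftRight i 12)) (Nat.land i 4095)
noncomputable def col8_s_0_2 (c : Nat) : Nat := @Bool.rec (fun _ => Nat) (col8_0) (col8_1) (Nat.ble 1 c)
noncomputable def col8_s_2_4 (c : Nat) : Nat := @Bool.rec (fun _ => Nat) (col8_2) (col8_3) (Nat.ble 3 c)
noncomputable def col8_s_0_4 (c : Nat) : Nat := @Bool.rec (fun _ => Nat) (col8_s_0_2 c) (col8_s_2_4 c) (Nat.ble 2 c)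
noncomputable def col8_s_4_6 (c : Nat) : Nat := @Bool.rec (fun _ => Nat) (col8_4) (col8_5) (Nat.ble 5 c)
noncomputable def col8_s_6_8 (c : Nat) : Nat := @Bool.rec (fun _ => Nat) (col8_6) (col8_7) (Nat.ble 7 c)
noncomputable def col8_s_4_8 (c : Nat) : Nat := @Bool.rec (fun _ => Nat) (col8_s_4_6 c) (col8_s_6_8 c) (Nat.ble 6 c)
noncomputable def col8_s_0_8 (c : Nat) : Nat := @Bool.rec (fun _ => Nat) (col8_s_0_4 c) (col8_s_4_8 c) (Nat.ble 4 c)
noncomputable def col8_s_8_10 (c : Nat) : Nat := @Bool.rec (fun _ => Nat) (col8_8) (col8_9) (Nat.ble 9 c)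
noncomputable def col8_s_10_12 (c : Nat) : Nat := @Bool.rec (fun _ => Nat) (col8_10) (col8_11) (Nat.ble 11 c)
noncomputable def col8_s_8_12 (c : Nat) : Nat := @Bool.rec (fun _ => Nat) (col8_s_8_10 c) (col8_s_10_12 c) (Nat.ble 10 c)
noncomputable def col8_s_12_14 (c : Nat) : Nat := @Bool.rec (fun _ => Nat) (col8_12) (col8_13) (Nat.ble 13 c)
noncomputable def col8_s_14_16 (c : Nat) : Nat := @Bool.rec (fun _ => Nat) (col8_14) (col8_15) (Nat.ble 15 c)
noncomputable def col8_s_12_16 (c : Nat) : Nat := @Bool.rec (fun _ => Nat) (col8_s_12_14 c) (col8_s_14_16 c) (Nat.ble 14 c)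
noncomputable def col8_s_8_16 (c : Nat) : Nat := @Bool.rec (fun _ => Nat) (col8_s_8_12 c) (col8_s_12_16 c) (Nat.ble 12 c)
noncomputable def col8_s_0_16 (c : Nat) : Nat := @Bool.rec (fun _ => Nat) (col8_s_0_8 c) (col8_s_8_16 c) (Nat.ble 8 c)
noncomputable def col8 (i : Nat) : Nat := rdw 16 65535 (col8_s_0_16 (Nat.shiftRight i 12)) (Nat.land i 4095)
noncomputable def col9_s_0_2 (c : Nat) : Nat := @Bool.rec (fun _ => Nat) (col9_0) (col9_1) (Nat.ble 1 c)
noncomputable def col9_s_2_4 (c : Nat) : Nat := @Bool.rec (fun _ => Nat) (col9_2) (col9_3) (Nat.ble 3 c)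
noncomputable def col9_s_0_4 (c : Nat) : Nat := @Bool.rec (fun _ => Nat) (col9_s_0_2 c) (col9_s_2_4 c) (Nat.ble 2 c)
noncomputable def col9_s_4_6 (c : Nat) : Nat := @Bool.rec (fun _ => Nat) (col9_4) (col9_5) (Nat.ble 5 c)
noncomputable def col9_s_6_8 (c : Nat) : Nat := @Bool.rec (fun _ => Nat) (col9_6) (col9_7) (Nat.ble 7 c)
noncomputable def col9_s_4_8 (c : Nat) : Nat := @Bool.rec (fun _ => Nat) (col9_s_4_6 c) (col9_s_6_8 c) (Nat.ble 6 c)
noncomputable def col9_s_0_8 (c : Nat) : Nat := @Bool.rec (fun _ => Nat) (col9_s_0_4 c) (col9_s_4_8 c) (Nat.ble 4 c)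
noncomputable def col9_s_8_10 (c : Nat) : Nat := @Bool.rec (fun _ => Nat) (col9_8) (col9_9) (Nat.ble 9 c)
noncomputable def col9_s_10_12 (c : Nat) : Nat := @Bool.rec (fun _ => Nat) (col9_10) (col9_11) (Nat.ble 11 c)
noncomputable def col9_s_8_12 (c : Nat) : Nat := @Bool.rec (fun _ => Nat) (col9_s_8_10 c) (col9_s_10_12 c) (Nat.ble 10 c)
noncomputable def col9_s_12_14 (c : Nat) : Nat := @Bool.rec (fun _ => Nat) (col9_12) (col9_13) (Nat.ble 13 c)
noncomputable def col9_s_14_16 (c : Nat) : Nat := @Bool.rec (fun _ => Nat) (col9_14) (col9_15) (Nat.ble 15 c)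
noncomputable def col9_s_12_16 (c : Nat) : Nat := @Bool.rec (fun _ => Nat) (col9_s_12_14 c) (col9_s_14_16 c) (Nat.ble 14 c)
noncomputable def col9_s_8_16 (c : Nat) : Nat := @Bool.rec (fun _ => Nat) (col9_s_8_12 c) (col9_s_12_16 c) (Nat.ble 12 c)
noncomputable def col9_s_0_16 (c : Nat) : Nat := @Bool.rec (fun _ => Nat) (col9_s_0_8 c) (col9_s_8_16 c) (Nat.ble 8 c)
noncomputable def col9 (i : Nat) : Nat := rdw 16 65535 (col9_s_0_16 (Nat.shiftRight i 12)) (Nat.land i 4095)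
noncomputable def col10_s_0_2 (c : Nat) : Nat := @Bool.rec (fun _ => Nat) (col10_0) (col10_1) (Nat.ble 1 c)
noncomputable def col10_s_2_4 (c : Nat) : Nat := @Bool.rec (fun _ => Nat) (col10_2) (col10_3) (Nat.ble 3 c)
noncomputable def col10_s_0_4 (c : Nat) : Nat := @Bool.rec (fun _ => Nat) (col10_s_0_2 c) (col10_s_2_4 c) (Nat.ble 2 c)
noncomputable def col10_s_4_6 (c : Nat) : Nat := @Bool.rec (fun _ => Nat) (col10_4) (col10_5) (Nat.ble 5 c)
noncomputable def col10_s_6_8 (c : Nat) : Nat := @Bool.rec (fun _ => Nat) (col10_6) (col10_7) (Nat.ble 7 c)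
noncomputable def col10_s_4_8 (c : Nat) : Nat := @Bool.rec (fun _ => Nat) (col10_s_4_6 c) (col10_s_6_8 c) (Nat.ble 6 c)
noncomputable def col10_s_0_8 (c : Nat) : Nat := @Bool.rec (fun _ => Nat) (col10_s_0_4 c) (col10_s_4_8 c) (Nat.ble 4 c)
noncomputable def col10_s_8_10 (c : Nat) : Nat := @Bool.rec (fun _ => Nat) (col10_8) (col10_9) (Nat.ble 9 c)
noncomputable def col10_s_10_12 (c : Nat) : Nat := @Bool.rec (fun _ => Nat) (col10_10) (col10_11) (Nat.ble 11 c)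
noncomputable def col10_s_8_12 (c : Nat) : Nat := @Bool.rec (fun _ => Nat) (col10_s_8_10 c) (col10_s_10_12 c) (Nat.ble 10 c)
noncomputable def col10_s_12_14 (c : Nat) : Nat := @Bool.rec (fun _ => Nat) (col10_12) (col10_13) (Nat.ble 13 c)
noncomputable def col10_s_14_16 (c : Nat) : Nat := @Bool.rec (fun _ => Nat) (col10_14) (col10_15) (Nat.ble 15 c)
noncomputable def col10_s_12_16 (c : Nat) : Nat := @Bool.rec (fun _ => Nat) (col10_s_12_14 c) (col10_s_14_16 c) (Nat.ble 14 c)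
noncomputable def col10_s_8_16 (c : Nat) : Nat := @Bool.rec (fun _ => Nat) (col10_s_8_12 c) (col10_s_12_16 c) (Nat.ble 12 c)
noncomputable def col10_s_0_16 (c : Nat) : Nat := @Bool.rec (fun _ => Nat) (col10_s_0_8 c) (col10_s_8_16 c) (Nat.ble 8 c)
noncomputable def col10 (i : Nat) : Nat := rdw 16 65535 (col10_s_0_16 (Nat.shiftRight i 12)) (Nat.land i 4095)
noncomputable def col11_s_0_2 (c : Nat) : Nat := @Bool.rec (fun _ => Nat) (col11_0) (col11_1) (Nat.ble 1 c)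
noncomputable def col11_s_2_4 (c : Nat) : Nat := @Bool.rec (fun _ => Nat) (col11_2) (col11_3) (Nat.ble 3 c)
noncomputable def col11_s_0_4 (c : Nat) : Nat := @Bool.rec (fun _ => Nat) (col11_s_0_2 c) (col11_s_2_4 c) (Nat.ble 2 c)
noncomputable def col11_s_4_6 (c : Nat) : Nat := @Bool.rec (fun _ => Nat) (col11_4) (col11_5) (Nat.ble 5 c)
noncomputable def col11_s_6_8 (c : Nat) : Nat := @Bool.rec (fun _ => Nat) (col11_6) (col11_7) (Nat.ble 7 c)
noncomputable def col11_s_4_8 (c : Nat) : Nat := @Bool.rec (fun _ => Nat) (col11_s_4_6 c) (col11_s_6_8 c) (Nat.ble 6 c)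
noncomputable def col11_s_0_8 (c : Nat) : Nat := @Bool.rec (fun _ => Nat) (col11_s_0_4 c) (col11_s_4_8 c) (Nat.ble 4 c)
noncomputable def col11_s_8_10 (c : Nat) : Nat := @Bool.rec (fun _ => Nat) (col11_8) (col11_9) (Nat.ble 9 c)
noncomputable def col11_s_10_12 (c : Nat) : Nat := @Bool.rec (fun _ => Nat) (col11_10) (col11_11) (Nat.ble 11 c)
noncomputable def col11_s_8_12 (c : Nat) : Nat := @Bool.rec (fun _ => Nat) (col11_s_8_10 c) (col11_s_10_12 c) (Nat.ble 10 c)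
noncomputable def col11_s_12_14 (c : Nat) : Nat := @Bool.rec (fun _ => Nat) (col11_12) (col11_13) (Nat.ble 13 c)
noncomputable def col11_s_14_16 (c : Nat) : Nat := @Bool.rec (fun _ => Nat) (col11_14) (col11_15) (Nat.ble 15 c)
noncomputable def col11_s_12_16 (c : Nat) : Nat := @Bool.rec (fun _ => Nat) (col11_s_12_14 c) (col11_s_14_16 c) (Nat.ble 14 c)
noncomputable def col11_s_8_16 (c : Nat) : Nat := @Bool.rec (fun _ => Nat) (col11_s_8_12 c) (col11_s_12_16 c) (Nat.ble 12 c)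
noncomputable def col11_s_0_16 (c : Nat) : Nat := @Bool.rec (fun _ => Nat) (col11_s_0_8 c) (col11_s_8_16 c) (Nat.ble 8 c)
noncomputable def col11 (i : Nat) : Nat := rdw 16 65535 (col11_s_0_16 (Nat.shiftRight i 12)) (Nat.land i 4095)
noncomputable def tblF (i x : Nat) : Nat := @Bool.rec (fun _ => Nat) (@Bool.rec (fun _ => Nat) (@Bool.rec (fun _ => Nat) (col0 i) (@Bool.rec (fun _ => Nat) (col1 i) (col2 i) (Nat.ble 2 x)) (Nat.ble 1 x)) (@Bool.rec (fun _ => Nat) (col3 i) (@Bool.rec (fun _ => Nat) (col4 i) (col5 i) (Nat.ble 5 x)) (Nat.ble 4 x)) (Nat.ble 3 x)) (@Bool.rec (fun _ => Nat) (@Bool.rec (fun _ => Nat) (col6 i) (@Bool.rec (fun _ => Nat) (col7 i) (col8 i) (Nat.ble 8 x)) (Nat.ble 7 x)) (@Bool.rec (fun _ => Nat) (col9 i) (@Bool.rec (fun _ => Nat) (col10 i) (col11 i) (Nat.ble 11 x)) (Nat.ble 10 x)) (Nat.ble 9 x)) (Nat.ble 6 x)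

noncomputable def D : Log :=
  { k := 12, inv := PC2Suz.invR, nR := 0, rBase := fun _ => 0, rLen := fun _ => 0, RR := fun _ => 0,
    M := 0, nB := 0, F := 0, src := fun _ => 0, lt := fun _ => 0, tgt := fun _ => 0, rho := fun _ => 0, rot := fun _ => 0,
    off := fun _ => 0, len := fun _ => 0, pf := fun _ => 0, pd := fun _ => 0 }

noncomputable def T : Tab :=
  { N := 65520, nameOf := fun _ => 0, tbl := tblF, finF := fun _ _ => 0, finD := fun _ _ => 0, cls := fun _ => 0 }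

def rw0 : List Nat := [0, 0, 0, 0, 0, 0, 0]
def rw1 : List Nat := [0, 0, 2, 1, 2, 0, 3, 0, 2, 1, 2]
def rw2 : List Nat := [0, 0, 0, 2, 0, 0, 0, 2, 0, 0, 0, 2]
def rw3 : List Nat := [0, 0, 2, 2, 0, 0, 3, 3, 0, 0, 3, 3]
def rw4 : List Nat := [4, 4, 11]
def rw5 : List Nat := [0, 4, 3, 4, 2, 1, 2, 1, 1, 4, 2]
def rw6 : List Nat := [0, 4, 1, 3, 1, 3, 0, 4, 1, 3, 1, 3, 10]
def rw7 : List Nat := [6, 6, 11]
def rw8 : List Nat := [0, 2, 1, 4, 6, 2, 7, 4, 11]
def rw9 : List Nat := [0, 2, 1, 7, 4, 1, 2, 0, 4, 6, 11]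
def rw10 : List Nat := [0, 0, 4, 3, 1, 3, 1, 4, 2, 4, 3, 0, 6, 0, 6, 4, 7]
def rw11 : List Nat := [8, 8]
def rw12 : List Nat := [0, 8, 1, 3, 4, 3, 8, 2, 4, 2, 11]
def rw13 : List Nat := [0, 3, 8, 2, 1, 3, 0, 4, 8, 4, 1, 2, 11]
def rw14 : List Nat := [0, 8, 1, 2, 8, 3, 0, 8, 1, 2, 8, 3]
def rw15 : List Nat := [0, 0, 4, 3, 3, 1, 8, 0, 2, 2, 4, 1, 1, 8, 11]
def rw16 : List Nat := [0, 0, 4, 2, 2, 1, 8, 0, 2, 2, 4, 1, 1, 8, 11]
def rw17 : List Nat := [0, 0, 3, 8, 1, 4, 8, 4, 0, 8, 1, 3, 1, 3]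
def rw18 : List Nat := [0, 2, 1, 4, 0, 8, 1, 6, 2, 6, 0, 8, 1, 4]
def rw19 : List Nat := [0, 3, 0, 3, 8, 2, 1, 2, 1, 2, 0, 8, 1, 3]
def rw20 : List Nat := [0, 0, 2, 0, 0, 2, 8, 3, 1, 1, 3, 1, 1, 8]
def rw21 : List Nat := [0, 4, 2, 8, 3, 4, 1, 2, 4, 0, 8, 1, 4, 3]
def rw22 : List Nat := [0, 0, 0, 3, 4, 8, 4, 2, 1, 1, 1, 4, 8, 4]
def rw23 : List Nat := [0, 4, 8, 4, 8, 2, 2, 8, 4, 8, 4, 1, 2, 2]
def rw24 : List Nat := [0, 2, 8, 6, 8, 4, 8, 6, 8, 0, 4, 1, 4, 2, 11]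
def rw25 : List Nat := [2, 8, 4, 6, 2, 8, 4, 6, 2, 8, 4, 6, 2, 8, 4, 6, 2, 8, 4, 6, 2, 8, 4, 6, 2, 8, 4, 6, 2, 8, 4, 6]
def rw26 : List Nat := [10, 10]
def rw27 : List Nat := [11, 1, 10, 0]
def rw28 : List Nat := [11, 3, 10, 2]
def rw29 : List Nat := [11, 5, 10, 4]
def rw30 : List Nat := [11, 7, 10, 6]
def rw31 : List Nat := [11, 9, 10, 8]
def realLit : List (List Nat) := [rw0, rw1, rw2, rw3, rw4, rw5, rw6, rw7, rw8, rw9, rw10, rw11, rw12, rw13, rw14, rw15, rw16, rw17, rw18, rw19, rw20, rw21, rw22, rw23, rw24, rw25, rw26, rw27, rw28, rw29, rw30, rw31]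
noncomputable def actR0 (i : Nat) : Nat := col1 (col1 (col1 (col1 (col1 (col1 (col1 (i)))))))
theorem actR0_eq (i : Nat) : actR0 i = Tab.act T D rw0 i := rfl
noncomputable def actR1 (i : Nat) : Nat := col1 (col1 (col3 (col0 (col3 (col1 (col2 (col1 (col3 (col0 (col3 (i)))))))))))
theorem actR1_eq (i : Nat) : actR1 i = Tab.act T D rw1 i := rfl
noncomputable def actR2 (i : Nat) : Nat := col1 (col1 (col1 (col3 (col1 (col1 (col1 (col3 (col1 (col1 (col1 (col3 (i))))))))))))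
theorem actR2_eq (i : Nat) : actR2 i = Tab.act T D rw2 i := rfl
noncomputable def actR3 (i : Nat) : Nat := col1 (col1 (col3 (col3 (col1 (col1 (col2 (col2 (col1 (col1 (col2 (col2 (i))))))))))))
theorem actR3_eq (i : Nat) : actR3 i = Tab.act T D rw3 i := rfl
noncomputable def actR4 (i : Nat) : Nat := col5 (col5 (col10 (i)))
theorem actR4_eq (i : Nat) : actR4 i = Tab.act T D rw4 i := rfl
noncomputable def actR5 (i : Nat) : Nat := col1 (col5 (col2 (col5 (col3 (col0 (col3 (col0 (col0 (col5 (col3 (i)))))))))))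
theorem actR5_eq (i : Nat) : actR5 i = Tab.act T D rw5 i := rfl
noncomputable def actR6 (i : Nat) : Nat := col1 (col5 (col0 (col2 (col0 (col2 (col1 (col5 (col0 (col2 (col0 (col2 (col11 (i)))))))))))))
theorem actR6_eq (i : Nat) : actR6 i = Tab.act T D rw6 i := rfl
noncomputable def actR7 (i : Nat) : Nat := col7 (col7 (col10 (i)))
theorem actR7_eq (i : Nat) : actR7 i = Tab.act T D rw7 i := rfl
noncomputable def actR8 (i : Nat) : Nat := col1 (col3 (col0 (col5 (col7 (col3 (col6 (col5 (col10 (i)))))))))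
theorem actR8_eq (i : Nat) : actR8 i = Tab.act T D rw8 i := rfl
noncomputable def actR9 (i : Nat) : Nat := col1 (col3 (col0 (col6 (col5 (col0 (col3 (col1 (col5 (col7 (col10 (i)))))))))))
theorem actR9_eq (i : Nat) : actR9 i = Tab.act T D rw9 i := rfl
noncomputable def actR10 (i : Nat) : Nat := col1 (col1 (col5 (col2 (col0 (col2 (col0 (col5 (col3 (col5 (col2 (col1 (col7 (col1 (col7 (col5 (col6 (i)))))))))))))))))
theorem actR10_eq (i : Nat) : actR10 i = Tab.act T D rw10 i := rfl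
noncomputable def actR11 (i : Nat) : Nat := col9 (col9 (i))
theorem actR11_eq (i : Nat) : actR11 i = Tab.act T D rw11 i := rfl
noncomputable def actR12 (i : Nat) : Nat := col1 (col9 (col0 (col2 (col5 (col2 (col9 (col3 (col5 (col3 (col10 (i)))))))))))
theorem actR12_eq (i : Nat) : actR12 i = Tab.act T D rw12 i := rfl
noncomputable def actR13 (i : Nat) : Nat := col1 (col2 (col9 (col3 (col0 (col2 (col1 (col5 (col9 (col5 (col0 (col3 (col10 (i)))))))))))))
theorem actR13_eq (i : Nat) : actR13 i = Tab.act T D rw13 i := rfl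
noncomputable def actR14 (i : Nat) : Nat := col1 (col9 (col0 (col3 (col9 (col2 (col1 (col9 (col0 (col3 (col9 (col2 (i))))))))))))
theorem actR14_eq (i : Nat) : actR14 i = Tab.act T D rw14 i := rfl
noncomputable def actR15 (i : Nat) : Nat := col1 (col1 (col5 (col2 (col2 (col0 (col9 (col1 (col3 (col3 (col5 (col0 (col0 (col9 (col10 (i)))))))))))))))
theorem actR15_eq (i : Nat) : actR15 i = Tab.act T D rw15 i := rfl
noncomputable def actR16 (i : Nat) : Nat := col1 (col1 (col5 (col3 (col3 (col0 (col9 (col1 (col3 (col3 (col5 (col0 (col0 (col9 (col10 (i)))))))))))))))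
theorem actR16_eq (i : Nat) : actR16 i = Tab.act T D rw16 i := rfl
noncomputable def actR17 (i : Nat) : Nat := col1 (col1 (col2 (col9 (col0 (col5 (col9 (col5 (col1 (col9 (col0 (col2 (col0 (col2 (i))))))))))))))
theorem actR17_eq (i : Nat) : actR17 i = Tab.act T D rw17 i := rfl
noncomputable def actR18 (i : Nat) : Nat := col1 (col3 (col0 (col5 (col1 (col9 (col0 (col7 (col3 (col7 (col1 (col9 (col0 (col5 (i))))))))))))))
theorem actR18_eq (i : Nat) : actR18 i = Tab.act T D rw18 i := rfl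
noncomputable def actR19 (i : Nat) : Nat := col1 (col2 (col1 (col2 (col9 (col3 (col0 (col3 (col0 (col3 (col1 (col9 (col0 (col2 (i))))))))))))))
theorem actR19_eq (i : Nat) : actR19 i = Tab.act T D rw19 i := rfl
noncomputable def actR20 (i : Nat) : Nat := col1 (col1 (col3 (col1 (col1 (col3 (col9 (col2 (col0 (col0 (col2 (col0 (col0 (col9 (i))))))))))))))
theorem actR20_eq (i : Nat) : actR20 i = Tab.act T D rw20 i := rfl
noncomputable def actR21 (i : Nat) : Nat := col1 (col5 (col3 (col9 (col2 (col5 (col0 (col3 (col5 (col1 (col9 (col0 (col5 (col2 (i))))))))))))))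
theorem actR21_eq (i : Nat) : actR21 i = Tab.act T D rw21 i := rfl
noncomputable def actR22 (i : Nat) : Nat := col1 (col1 (col1 (col2 (col5 (col9 (col5 (col3 (col0 (col0 (col0 (col5 (col9 (col5 (i))))))))))))))
theorem actR22_eq (i : Nat) : actR22 i = Tab.act T D rw22 i := rfl
noncomputable def actR23 (i : Nat) : Nat := col1 (col5 (col9 (col5 (col9 (col3 (col3 (col9 (col5 (col9 (col5 (col0 (col3 (col3 (i))))))))))))))
theorem actR23_eq (i : Nat) : actR23 i = Tab.act T D rw23 i := rfl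
noncomputable def actR24 (i : Nat) : Nat := col1 (col3 (col9 (col7 (col9 (col5 (col9 (col7 (col9 (col1 (col5 (col0 (col5 (col3 (col10 (i)))))))))))))))
theorem actR24_eq (i : Nat) : actR24 i = Tab.act T D rw24 i := rfl
noncomputable def actR25 (i : Nat) : Nat := col3 (col9 (col5 (col7 (col3 (col9 (col5 (col7 (col3 (col9 (col5 (col7 (col3 (col9 (col5 (col7 (col3 (col9 (col5 (col7 (col3 (col9 (col5 (col7 (col3 (col9 (col5 (col7 (col3 (col9 (col5 (col7 (i))))))))))))))))))))))))))))))))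
theorem actR25_eq (i : Nat) : actR25 i = Tab.act T D rw25 i := rfl
noncomputable def actR26 (i : Nat) : Nat := col11 (col11 (i))
theorem actR26_eq (i : Nat) : actR26 i = Tab.act T D rw26 i := rfl
noncomputable def actR27 (i : Nat) : Nat := col10 (col0 (col11 (col1 (i))))
theorem actR27_eq (i : Nat) : actR27 i = Tab.act T D rw27 i := rfl
noncomputable def actR28 (i : Nat) : Nat := col10 (col2 (col11 (col3 (i))))
theorem actR28_eq (i : Nat) : actR28 i = Tab.act T D rw28 i := rfl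
noncomputable def actR29 (i : Nat) : Nat := col10 (col4 (col11 (col5 (i))))
theorem actR29_eq (i : Nat) : actR29 i = Tab.act T D rw29 i := rfl
noncomputable def actR30 (i : Nat) : Nat := col10 (col6 (col11 (col7 (i))))
theorem actR30_eq (i : Nat) : actR30 i = Tab.act T D rw30 i := rfl
noncomputable def actR31 (i : Nat) : Nat := col10 (col8 (col11 (col9 (i))))
theorem actR31_eq (i : Nat) : actR31 i = Tab.act T D rw31 i := rfl

end Cfsg.Agent.Lib.Helper4.TCD.C2SuzR
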