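import Cfsg.Agent.Lib.Helper4.TCD_C2SuzR_Acc

namespace Cfsg.Agent.Lib.Helper4.TCD.C2SuzR

open Cfsg.Agent.Lib.Helper4.TC

set_option maxRecDepth 100000
set_option Elab.async false

theorem c_let : allBelow D.letOK 12 = true := by decide +kernel
theorem c_real : PC2Suz.P.real = realLit := by decide +kernel
theorem c_perm_0 : allGrid (T.permOK1 D) 0 2500 12 = true := by decide +kernel
theorem c_perm_1 : allGrid (T.permOK1 D) 2500 2500 12 = true := by decide +kernel
theorem c_perm_2 : allGrid (T.permOK1 D) 5000 2500 12 = true := by decide +kernel
theorem c_perm_3 : allGrid (T.permOK1 D) 7500 2500 12 = true := by decide +kernel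
theorem c_perm_4 : allGrid (T.permOK1 D) 10000 2500 12 = true := by decide +kernel
theorem c_perm_5 : allGrid (T.permOK1 D) 12500 2500 12 = true := by decide +kernel
theorem c_perm_6 : allGrid (T.permOK1 D) 15000 2500 12 = true := by decide +kernel
theorem c_perm_7 : allGrid (T.permOK1 D) 17500 2500 12 = true := by decide +kernel
theorem c_perm_8 : allGrid (T.permOK1 D) 20000 2500 12 = true := by decide +kernel
theorem c_perm_9 : allGrid (T.permOK1 D) 22500 2500 12 = true := by decide +kernel
theorem c_perm_10 : allGrid (T.permOK1 D) 25000 2500 12 = true := by decide +kernel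
theorem c_perm_11 : allGrid (T.permOK1 D) 27500 2500 12 = true := by decide +kernel
theorem c_perm_12 : allGrid (T.permOK1 D) 30000 2500 12 = true := by decide +kernel
theorem c_perm_13 : allGrid (T.permOK1 D) 32500 2500 12 = true := by decide +kernel
theorem c_perm_14 : allGrid (T.permOK1 D) 35000 2500 12 = true := by decide +kernel
theorem c_perm_15 : allGrid (T.permOK1 D) 37500 2500 12 = true := by decide +kernel
theorem c_perm_16 : allGrid (T.permOK1 D) 40000 2500 12 = true := by decide +kernel
theorem c_perm_17 : allGrid (T.permOK1 D) 42500 2500 12 = true := by decide +kernel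
theorem c_perm_18 : allGrid (T.permOK1 D) 45000 2500 12 = true := by decide +kernel
theorem c_perm_19 : allGrid (T.permOK1 D) 47500 2500 12 = true := by decide +kernel
theorem c_perm_20 : allGrid (T.permOK1 D) 50000 2500 12 = true := by decide +kernel
theorem c_perm_21 : allGrid (T.permOK1 D) 52500 2500 12 = true := by decide +kernel
theorem c_perm_22 : allGrid (T.permOK1 D) 55000 2500 12 = true := by decide +kernel
theorem c_perm_23 : allGrid (T.permOK1 D) 57500 2500 12 = true := by decide +kernel
theorem c_perm_24 : allGrid (T.permOK1 D) 60000 2500 12 = true := by decide +kernel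
theorem c_perm_25 : allGrid (T.permOK1 D) 62500 2500 12 = true := by decide +kernel
theorem c_perm_26 : allGrid (T.permOK1 D) 65000 520 12 = true := by decide +kernel
theorem c_act0_0 : allRange (fun i => Nat.beq (actR0 i) i) 0 8571 = true := by decide +kernel
theorem c_act0_1 : allRange (fun i => Nat.beq (actR0 i) i) 8571 8571 = true := by decide +kernel
theorem c_act0_2 : allRange (fun i => Nat.beq (actR0 i) i) 17142 8571 = true := by decide +kernel
theorem c_act0_3 : allRange (fun i => Nat.beq (actR0 i) i) 25713 8571 = true := by decide +kernel
theorem c_act0_4 : allRange (fun i => Nat.beq (actR0 i) i) 34284 8571 = true := by decide +kernel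
theorem c_act0_5 : allRange (fun i => Nat.beq (actR0 i) i) 42855 8571 = true := by decide +kernel
theorem c_act0_6 : allRange (fun i => Nat.beq (actR0 i) i) 51426 8571 = true := by decide +kernel
theorem c_act0_7 : allRange (fun i => Nat.beq (actR0 i) i) 59997 5523 = true := by decide +kernel
theorem c_act1_0 : allRange (fun i => Nat.beq (actR1 i) i) 0 5454 = true := by decide +kernel
theorem c_act1_1 : allRange (fun i => Nat.beq (actR1 i) i) 5454 5454 = true := by decide +kernel
theorem c_act1_2 : allRange (fun i => Nat.beq (actR1 i) i) 10908 5454 = true := by decide +kernel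
theorem c_act1_3 : allRange (fun i => Nat.beq (actR1 i) i) 16362 5454 = true := by decide +kernel
theorem c_act1_4 : allRange (fun i => Nat.beq (actR1 i) i) 21816 5454 = true := by decide +kernel
theorem c_act1_5 : allRange (fun i => Nat.beq (actR1 i) i) 27270 5454 = true := by decide +kernel
theorem c_act1_6 : allRange (fun i => Nat.beq (actR1 i) i) 32724 5454 = true := by decide +kernel
theorem c_act1_7 : allRange (fun i => Nat.beq (actR1 i) i) 38178 5454 = true := by decide +kernel
theorem c_act1_8 : allRange (fun i => Nat.beq (actR1 i) i) 43632 5454 = true := by decide +kernel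
theorem c_act1_9 : allRange (fun i => Nat.beq (actR1 i) i) 49086 5454 = true := by decide +kernel
theorem c_act1_10 : allRange (fun i => Nat.beq (actR1 i) i) 54540 5454 = true := by decide +kernel
theorem c_act1_11 : allRange (fun i => Nat.beq (actR1 i) i) 59994 5454 = true := by decide +kernel
theorem c_act1_12 : allRange (fun i => Nat.beq (actR1 i) i) 65448 72 = true := by decide +kernel
theorem c_act2_0 : allRange (fun i => Nat.beq (actR2 i) i) 0 5000 = true := by decide +kernel
theorem c_act2_1 : allRange (fun i => Nat.beq (actR2 i) i) 5000 5000 = true := by decide +kernel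
theorem c_act2_2 : allRange (fun i => Nat.beq (actR2 i) i) 10000 5000 = true := by decide +kernel
theorem c_act2_3 : allRange (fun i => Nat.beq (actR2 i) i) 15000 5000 = true := by decide +kernel

end Cfsg.Agent.Lib.Helper4.TCD.C2SuzR
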