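import Cfsg.Agent.Lib.Helper4.TC7
import Cfsg.Agent.Lib.Helper4.TCP_C3Fi22y
import Cfsg.Agent.Lib.Helper4.TCD_C3Fi22yB_D0
import Cfsg.Agent.Lib.Helper4.TCD_C3Fi22yB_D1
import Cfsg.Agent.Lib.Helper4.TCD_C3Fi22yB_D2
import Cfsg.Agent.Lib.Helper4.TCD_C3Fi22yB_D3
import Cfsg.Agent.Lib.Helper4.TCD_C3Fi22yB_D4
import Cfsg.Agent.Lib.Helper4.TCD_C3Fi22yB_D5
import Cfsg.Agent.Lib.Helper4.TCD_C3Fi22yB_D6
import Cfsg.Agent.Lib.Helper4.TCD_C3Fi22yB_D7
import Cfsg.Agent.Lib.Helper4.TCD_C3Fi22yB_D8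
import Cfsg.Agent.Lib.Helper4.TCD_C3Fi22yB_D9
import Cfsg.Agent.Lib.Helper4.TCD_C3Fi22yB_D10
import Cfsg.Agent.Lib.Helper4.TCD_C3Fi22yB_D11
import Cfsg.Agent.Lib.Helper4.TCD_C3Fi22yB_D12
import Cfsg.Agent.Lib.Helper4.TCD_C3Fi22yB_D13
import Cfsg.Agent.Lib.Helper4.TCD_C3Fi22yB_D14
import Cfsg.Agent.Lib.Helper4.TCD_C3Fi22yB_D15
import Cfsg.Agent.Lib.Helper4.TCD_C3Fi22yB_D16
import Cfsg.Agent.Lib.Helper4.TCD_C3Fi22yB_D17
import Cfsg.Agent.Lib.Helper4.TCD_C3Fi22yB_D18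

namespace Cfsg.Agent.Lib.Helper4.TCD.C3Fi22yB

open Cfsg.Agent.Lib.Helper4.TC

set_option maxRecDepth 100000

noncomputable def Atab_s_0_2 (c : Nat) : Nat := @Bool.rec (fun _ => Nat) (Atab_0) (Atab_1) (Nat.ble 1 c)
noncomputable def Atab_s_2_4 (c : Nat) : Nat := @Bool.rec (fun _ => Nat) (Atab_2) (Atab_3) (Nat.ble 3 c)
noncomputable def Atab_s_0_4 (c : Nat) : Nat := @Bool.rec (fun _ => Nat) (Atab_s_0_2 c) (Atab_s_2_4 c) (Nat.ble 2 c)
noncomputable def Atab_s_4_6 (c : Nat) : Nat := @Bool.rec (fun _ => Nat) (Atab_4) (Atab_5) (Nat.ble 5 c)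
noncomputable def Atab_s_7_9 (c : Nat) : Nat := @Bool.rec (fun _ => Nat) (Atab_7) (Atab_8) (Nat.ble 8 c)
noncomputable def Atab_s_6_9 (c : Nat) : Nat := @Bool.rec (fun _ => Nat) (Atab_6) (Atab_s_7_9 c) (Nat.ble 7 c)
noncomputable def Atab_s_4_9 (c : Nat) : Nat := @Bool.rec (fun _ => Nat) (Atab_s_4_6 c) (Atab_s_6_9 c) (Nat.ble 6 c)
noncomputable def Atab_s_0_9 (c : Nat) : Nat := @Bool.rec (fun _ => Nat) (Atab_s_0_4 c) (Atab_s_4_9 c) (Nat.ble 4 c)
noncomputable def Atab_s_9_11 (c : Nat) : Nat := @Bool.rec (fun _ => Nat) (Atab_9) (Atab_10) (Nat.ble 10 c)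
noncomputable def Atab_s_12_14 (c : Nat) : Nat := @Bool.rec (fun _ => Nat) (Atab_12) (Atab_13) (Nat.ble 13 c)
noncomputable def Atab_s_11_14 (c : Nat) : Nat := @Bool.rec (fun _ => Nat) (Atab_11) (Atab_s_12_14 c) (Nat.ble 12 c)
noncomputable def Atab_s_9_14 (c : Nat) : Nat := @Bool.rec (fun _ => Nat) (Atab_s_9_11 c) (Atab_s_11_14 c) (Nat.ble 11 c)
noncomputable def Atab_s_14_16 (c : Nat) : Nat := @Bool.rec (fun _ => Nat) (Atab_14) (Atab_15) (Nat.ble 15 c)
noncomputable def Atab_s_17_19 (c : Nat) : Nat := @Bool.rec (fun _ => Nat) (Atab_17) (Atab_18) (Nat.ble 18 c)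
noncomputable def Atab_s_16_19 (c : Nat) : Nat := @Bool.rec (fun _ => Nat) (Atab_16) (Atab_s_17_19 c) (Nat.ble 17 c)
noncomputable def Atab_s_14_19 (c : Nat) : Nat := @Bool.rec (fun _ => Nat) (Atab_s_14_16 c) (Atab_s_16_19 c) (Nat.ble 16 c)
noncomputable def Atab_s_9_19 (c : Nat) : Nat := @Bool.rec (fun _ => Nat) (Atab_s_9_14 c) (Atab_s_14_19 c) (Nat.ble 14 c)
noncomputable def Atab_s_0_19 (c : Nat) : Nat := @Bool.rec (fun _ => Nat) (Atab_s_0_9 c) (Atab_s_9_19 c) (Nat.ble 9 c)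
noncomputable def Atab_s_19_21 (c : Nat) : Nat := @Bool.rec (fun _ => Nat) (Atab_19) (Atab_20) (Nat.ble 20 c)
noncomputable def Atab_s_22_24 (c : Nat) : Nat := @Bool.rec (fun _ => Nat) (Atab_22) (Atab_23) (Nat.ble 23 c)
noncomputable def Atab_s_21_24 (c : Nat) : Nat := @Bool.rec (fun _ => Nat) (Atab_21) (Atab_s_22_24 c) (Nat.ble 22 c)
noncomputable def Atab_s_19_24 (c : Nat) : Nat := @Bool.rec (fun _ => Nat) (Atab_s_19_21 c) (Atab_s_21_24 c) (Nat.ble 21 c)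
noncomputable def Atab_s_24_26 (c : Nat) : Nat := @Bool.rec (fun _ => Nat) (Atab_24) (Atab_25) (Nat.ble 25 c)
noncomputable def Atab_s_27_29 (c : Nat) : Nat := @Bool.rec (fun _ => Nat) (Atab_27) (Atab_28) (Nat.ble 28 c)
noncomputable def Atab_s_26_29 (c : Nat) : Nat := @Bool.rec (fun _ => Nat) (Atab_26) (Atab_s_27_29 c) (Nat.ble 27 c)
noncomputable def Atab_s_24_29 (c : Nat) : Nat := @Bool.rec (fun _ => Nat) (Atab_s_24_26 c) (Atab_s_26_29 c) (Nat.ble 26 c)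
noncomputable def Atab_s_19_29 (c : Nat) : Nat := @Bool.rec (fun _ => Nat) (Atab_s_19_24 c) (Atab_s_24_29 c) (Nat.ble 24 c)
noncomputable def Atab_s_29_31 (c : Nat) : Nat := @Bool.rec (fun _ => Nat) (Atab_29) (Atab_30) (Nat.ble 30 c)
noncomputable def Atab_s_32_34 (c : Nat) : Nat := @Bool.rec (fun _ => Nat) (Atab_32) (Atab_33) (Nat.ble 33 c)
noncomputable def Atab_s_31_34 (c : Nat) : Nat := @Bool.rec (fun _ => Nat) (Atab_31) (Atab_s_32_34 c) (Nat.ble 32 c)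
noncomputable def Atab_s_29_34 (c : Nat) : Nat := @Bool.rec (fun _ => Nat) (Atab_s_29_31 c) (Atab_s_31_34 c) (Nat.ble 31 c)
noncomputable def Atab_s_34_36 (c : Nat) : Nat := @Bool.rec (fun _ => Nat) (Atab_34) (Atab_35) (Nat.ble 35 c)
noncomputable def Atab_s_37_39 (c : Nat) : Nat := @Bool.rec (fun _ => Nat) (Atab_37) (Atab_38) (Nat.ble 38 c)
noncomputable def Atab_s_36_39 (c : Nat) : Nat := @Bool.rec (fun _ => Nat) (Atab_36) (Atab_s_37_39 c) (Nat.ble 37 c)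
noncomputable def Atab_s_34_39 (c : Nat) : Nat := @Bool.rec (fun _ => Nat) (Atab_s_34_36 c) (Atab_s_36_39 c) (Nat.ble 36 c)
noncomputable def Atab_s_29_39 (c : Nat) : Nat := @Bool.rec (fun _ => Nat) (Atab_s_29_34 c) (Atab_s_34_39 c) (Nat.ble 34 c)
noncomputable def Atab_s_19_39 (c : Nat) : Nat := @Bool.rec (fun _ => Nat) (Atab_s_19_29 c) (Atab_s_29_39 c) (Nat.ble 29 c)
noncomputable def Atab_s_0_39 (c : Nat) : Nat := @Bool.rec (fun _ => Nat) (Atab_s_0_19 c) (Atab_s_19_39 c) (Nat.ble 19 c)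
noncomputable def Atab_s_39_41 (c : Nat) : Nat := @Bool.rec (fun _ => Nat) (Atab_39) (Atab_40) (Nat.ble 40 c)
noncomputable def Atab_s_42_44 (c : Nat) : Nat := @Bool.rec (fun _ => Nat) (Atab_42) (Atab_43) (Nat.ble 43 c)
noncomputable def Atab_s_41_44 (c : Nat) : Nat := @Bool.rec (fun _ => Nat) (Atab_41) (Atab_s_42_44 c) (Nat.ble 42 c)
noncomputable def Atab_s_39_44 (c : Nat) : Nat := @Bool.rec (fun _ => Nat) (Atab_s_39_41 c) (Atab_s_41_44 c) (Nat.ble 41 c)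
noncomputable def Atab_s_44_46 (c : Nat) : Nat := @Bool.rec (fun _ => Nat) (Atab_44) (Atab_45) (Nat.ble 45 c)
noncomputable def Atab_s_47_49 (c : Nat) : Nat := @Bool.rec (fun _ => Nat) (Atab_47) (Atab_48) (Nat.ble 48 c)
noncomputable def Atab_s_46_49 (c : Nat) : Nat := @Bool.rec (fun _ => Nat) (Atab_46) (Atab_s_47_49 c) (Nat.ble 47 c)
noncomputable def Atab_s_44_49 (c : Nat) : Nat := @Bool.rec (fun _ => Nat) (Atab_s_44_46 c) (Atab_s_46_49 c) (Nat.ble 46 c)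
noncomputable def Atab_s_39_49 (c : Nat) : Nat := @Bool.rec (fun _ => Nat) (Atab_s_39_44 c) (Atab_s_44_49 c) (Nat.ble 44 c)
noncomputable def Atab_s_49_51 (c : Nat) : Nat := @Bool.rec (fun _ => Nat) (Atab_49) (Atab_50) (Nat.ble 50 c)
noncomputable def Atab_s_52_54 (c : Nat) : Nat := @Bool.rec (fun _ => Nat) (Atab_52) (Atab_53) (Nat.ble 53 c)
noncomputable def Atab_s_51_54 (c : Nat) : Nat := @Bool.rec (fun _ => Nat) (Atab_51) (Atab_s_52_54 c) (Nat.ble 52 c)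
noncomputable def Atab_s_49_54 (c : Nat) : Nat := @Bool.rec (fun _ => Nat) (Atab_s_49_51 c) (Atab_s_51_54 c) (Nat.ble 51 c)
noncomputable def Atab_s_54_56 (c : Nat) : Nat := @Bool.rec (fun _ => Nat) (Atab_54) (Atab_55) (Nat.ble 55 c)
noncomputable def Atab_s_57_59 (c : Nat) : Nat := @Bool.rec (fun _ => Nat) (Atab_57) (Atab_58) (Nat.ble 58 c)
noncomputable def Atab_s_56_59 (c : Nat) : Nat := @Bool.rec (fun _ => Nat) (Atab_56) (Atab_s_57_59 c) (Nat.ble 57 c)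
noncomputable def Atab_s_54_59 (c : Nat) : Nat := @Bool.rec (fun _ => Nat) (Atab_s_54_56 c) (Atab_s_56_59 c) (Nat.ble 56 c)
noncomputable def Atab_s_49_59 (c : Nat) : Nat := @Bool.rec (fun _ => Nat) (Atab_s_49_54 c) (Atab_s_54_59 c) (Nat.ble 54 c)
noncomputable def Atab_s_39_59 (c : Nat) : Nat := @Bool.rec (fun _ => Nat) (Atab_s_39_49 c) (Atab_s_49_59 c) (Nat.ble 49 c)
noncomputable def Atab_s_59_61 (c : Nat) : Nat := @Bool.rec (fun _ => Nat) (Atab_59) (Atab_60) (Nat.ble 60 c)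
noncomputable def Atab_s_62_64 (c : Nat) : Nat := @Bool.rec (fun _ => Nat) (Atab_62) (Atab_63) (Nat.ble 63 c)
noncomputable def Atab_s_61_64 (c : Nat) : Nat := @Bool.rec (fun _ => Nat) (Atab_61) (Atab_s_62_64 c) (Nat.ble 62 c)
noncomputable def Atab_s_59_64 (c : Nat) : Nat := @Bool.rec (fun _ => Nat) (Atab_s_59_61 c) (Atab_s_61_64 c) (Nat.ble 61 c)
noncomputable def Atab_s_64_66 (c : Nat) : Nat := @Bool.rec (fun _ => Nat) (Atab_64) (Atab_65) (Nat.ble 65 c)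
noncomputable def Atab_s_67_69 (c : Nat) : Nat := @Bool.rec (fun _ => Nat) (Atab_67) (Atab_68) (Nat.ble 68 c)
noncomputable def Atab_s_66_69 (c : Nat) : Nat := @Bool.rec (fun _ => Nat) (Atab_66) (Atab_s_67_69 c) (Nat.ble 67 c)
noncomputable def Atab_s_64_69 (c : Nat) : Nat := @Bool.rec (fun _ => Nat) (Atab_s_64_66 c) (Atab_s_66_69 c) (Nat.ble 66 c)
noncomputable def Atab_s_59_69 (c : Nat) : Nat := @Bool.rec (fun _ => Nat) (Atab_s_59_64 c) (Atab_s_64_69 c) (Nat.ble 64 c)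
noncomputable def Atab_s_69_71 (c : Nat) : Nat := @Bool.rec (fun _ => Nat) (Atab_69) (Atab_70) (Nat.ble 70 c)
noncomputable def Atab_s_72_74 (c : Nat) : Nat := @Bool.rec (fun _ => Nat) (Atab_72) (Atab_73) (Nat.ble 73 c)
noncomputable def Atab_s_71_74 (c : Nat) : Nat := @Bool.rec (fun _ => Nat) (Atab_71) (Atab_s_72_74 c) (Nat.ble 72 c)
noncomputable def Atab_s_69_74 (c : Nat) : Nat := @Bool.rec (fun _ => Nat) (Atab_s_69_71 c) (Atab_s_71_74 c) (Nat.ble 71 c)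
noncomputable def Atab_s_74_76 (c : Nat) : Nat := @Bool.rec (fun _ => Nat) (Atab_74) (Atab_75) (Nat.ble 75 c)
noncomputable def Atab_s_77_79 (c : Nat) : Nat := @Bool.rec (fun _ => Nat) (Atab_77) (Atab_78) (Nat.ble 78 c)
noncomputable def Atab_s_76_79 (c : Nat) : Nat := @Bool.rec (fun _ => Nat) (Atab_76) (Atab_s_77_79 c) (Nat.ble 77 c)
noncomputable def Atab_s_74_79 (c : Nat) : Nat := @Bool.rec (fun _ => Nat) (Atab_s_74_76 c) (Atab_s_76_79 c) (Nat.ble 76 c)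
noncomputable def Atab_s_69_79 (c : Nat) : Nat := @Bool.rec (fun _ => Nat) (Atab_s_69_74 c) (Atab_s_74_79 c) (Nat.ble 74 c)
noncomputable def Atab_s_59_79 (c : Nat) : Nat := @Bool.rec (fun _ => Nat) (Atab_s_59_69 c) (Atab_s_69_79 c) (Nat.ble 69 c)
noncomputable def Atab_s_39_79 (c : Nat) : Nat := @Bool.rec (fun _ => Nat) (Atab_s_39_59 c) (Atab_s_59_79 c) (Nat.ble 59 c)
noncomputable def Atab_s_0_79 (c : Nat) : Nat := @Bool.rec (fun _ => Nat) (Atab_s_0_39 c) (Atab_s_39_79 c) (Nat.ble 39 c)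
noncomputable def Atab_s_79_81 (c : Nat) : Nat := @Bool.rec (fun _ => Nat) (Atab_79) (Atab_80) (Nat.ble 80 c)
noncomputable def Atab_s_82_84 (c : Nat) : Nat := @Bool.rec (fun _ => Nat) (Atab_82) (Atab_83) (Nat.ble 83 c)
noncomputable def Atab_s_81_84 (c : Nat) : Nat := @Bool.rec (fun _ => Nat) (Atab_81) (Atab_s_82_84 c) (Nat.ble 82 c)
noncomputable def Atab_s_79_84 (c : Nat) : Nat := @Bool.rec (fun _ => Nat) (Atab_s_79_81 c) (Atab_s_81_84 c) (Nat.ble 81 c)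
noncomputable def Atab_s_84_86 (c : Nat) : Nat := @Bool.rec (fun _ => Nat) (Atab_84) (Atab_85) (Nat.ble 85 c)
noncomputable def Atab_s_87_89 (c : Nat) : Nat := @Bool.rec (fun _ => Nat) (Atab_87) (Atab_88) (Nat.ble 88 c)
noncomputable def Atab_s_86_89 (c : Nat) : Nat := @Bool.rec (fun _ => Nat) (Atab_86) (Atab_s_87_89 c) (Nat.ble 87 c)
noncomputable def Atab_s_84_89 (c : Nat) : Nat := @Bool.rec (fun _ => Nat) (Atab_s_84_86 c) (Atab_s_86_89 c) (Nat.ble 86 c)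
noncomputable def Atab_s_79_89 (c : Nat) : Nat := @Bool.rec (fun _ => Nat) (Atab_s_79_84 c) (Atab_s_84_89 c) (Nat.ble 84 c)
noncomputable def Atab_s_89_91 (c : Nat) : Nat := @Bool.rec (fun _ => Nat) (Atab_89) (Atab_90) (Nat.ble 90 c)
noncomputable def Atab_s_92_94 (c : Nat) : Nat := @Bool.rec (fun _ => Nat) (Atab_92) (Atab_93) (Nat.ble 93 c)
noncomputable def Atab_s_91_94 (c : Nat) : Nat := @Bool.rec (fun _ => Nat) (Atab_91) (Atab_s_92_94 c) (Nat.ble 92 c)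
noncomputable def Atab_s_89_94 (c : Nat) : Nat := @Bool.rec (fun _ => Nat) (Atab_s_89_91 c) (Atab_s_91_94 c) (Nat.ble 91 c)
noncomputable def Atab_s_94_96 (c : Nat) : Nat := @Bool.rec (fun _ => Nat) (Atab_94) (Atab_95) (Nat.ble 95 c)
noncomputable def Atab_s_97_99 (c : Nat) : Nat := @Bool.rec (fun _ => Nat) (Atab_97) (Atab_98) (Nat.ble 98 c)
noncomputable def Atab_s_96_99 (c : Nat) : Nat := @Bool.rec (fun _ => Nat) (Atab_96) (Atab_s_97_99 c) (Nat.ble 97 c)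
noncomputable def Atab_s_94_99 (c : Nat) : Nat := @Bool.rec (fun _ => Nat) (Atab_s_94_96 c) (Atab_s_96_99 c) (Nat.ble 96 c)
noncomputable def Atab_s_89_99 (c : Nat) : Nat := @Bool.rec (fun _ => Nat) (Atab_s_89_94 c) (Atab_s_94_99 c) (Nat.ble 94 c)
noncomputable def Atab_s_79_99 (c : Nat) : Nat := @Bool.rec (fun _ => Nat) (Atab_s_79_89 c) (Atab_s_89_99 c) (Nat.ble 89 c)
noncomputable def Atab_s_99_101 (c : Nat) : Nat := @Bool.rec (fun _ => Nat) (Atab_99) (Atab_100) (Nat.ble 100 c)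
noncomputable def Atab_s_102_104 (c : Nat) : Nat := @Bool.rec (fun _ => Nat) (Atab_102) (Atab_103) (Nat.ble 103 c)
noncomputable def Atab_s_101_104 (c : Nat) : Nat := @Bool.rec (fun _ => Nat) (Atab_101) (Atab_s_102_104 c) (Nat.ble 102 c)
noncomputable def Atab_s_99_104 (c : Nat) : Nat := @Bool.rec (fun _ => Nat) (Atab_s_99_101 c) (Atab_s_101_104 c) (Nat.ble 101 c)
noncomputable def Atab_s_104_106 (c : Nat) : Nat := @Bool.rec (fun _ => Nat) (Atab_104) (Atab_105) (Nat.ble 105 c)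
noncomputable def Atab_s_107_109 (c : Nat) : Nat := @Bool.rec (fun _ => Nat) (Atab_107) (Atab_108) (Nat.ble 108 c)
noncomputable def Atab_s_106_109 (c : Nat) : Nat := @Bool.rec (fun _ => Nat) (Atab_106) (Atab_s_107_109 c) (Nat.ble 107 c)
noncomputable def Atab_s_104_109 (c : Nat) : Nat := @Bool.rec (fun _ => Nat) (Atab_s_104_106 c) (Atab_s_106_109 c) (Nat.ble 106 c)
noncomputable def Atab_s_99_109 (c : Nat) : Nat := @Bool.rec (fun _ => Nat) (Atab_s_99_104 c) (Atab_s_104_109 c) (Nat.ble 104 c)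
noncomputable def Atab_s_109_111 (c : Nat) : Nat := @Bool.rec (fun _ => Nat) (Atab_109) (Atab_110) (Nat.ble 110 c)
noncomputable def Atab_s_112_114 (c : Nat) : Nat := @Bool.rec (fun _ => Nat) (Atab_112) (Atab_113) (Nat.ble 113 c)
noncomputable def Atab_s_111_114 (c : Nat) : Nat := @Bool.rec (fun _ => Nat) (Atab_111) (Atab_s_112_114 c) (Nat.ble 112 c)
noncomputable def Atab_s_109_114 (c : Nat) : Nat := @Bool.rec (fun _ => Nat) (Atab_s_109_111 c) (Atab_s_111_114 c) (Nat.ble 111 c)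
noncomputable def Atab_s_114_116 (c : Nat) : Nat := @Bool.rec (fun _ => Nat) (Atab_114) (Atab_115) (Nat.ble 115 c)
noncomputable def Atab_s_117_119 (c : Nat) : Nat := @Bool.rec (fun _ => Nat) (Atab_117) (Atab_118) (Nat.ble 118 c)
noncomputable def Atab_s_116_119 (c : Nat) : Nat := @Bool.rec (fun _ => Nat) (Atab_116) (Atab_s_117_119 c) (Nat.ble 117 c)
noncomputable def Atab_s_114_119 (c : Nat) : Nat := @Bool.rec (fun _ => Nat) (Atab_s_114_116 c) (Atab_s_116_119 c) (Nat.ble 116 c)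
noncomputable def Atab_s_109_119 (c : Nat) : Nat := @Bool.rec (fun _ => Nat) (Atab_s_109_114 c) (Atab_s_114_119 c) (Nat.ble 114 c)
noncomputable def Atab_s_99_119 (c : Nat) : Nat := @Bool.rec (fun _ => Nat) (Atab_s_99_109 c) (Atab_s_109_119 c) (Nat.ble 109 c)
noncomputable def Atab_s_79_119 (c : Nat) : Nat := @Bool.rec (fun _ => Nat) (Atab_s_79_99 c) (Atab_s_99_119 c) (Nat.ble 99 c)
noncomputable def Atab_s_119_121 (c : Nat) : Nat := @Bool.rec (fun _ => Nat) (Atab_119) (Atab_120) (Nat.ble 120 c)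
noncomputable def Atab_s_122_124 (c : Nat) : Nat := @Bool.rec (fun _ => Nat) (Atab_122) (Atab_123) (Nat.ble 123 c)
noncomputable def Atab_s_121_124 (c : Nat) : Nat := @Bool.rec (fun _ => Nat) (Atab_121) (Atab_s_122_124 c) (Nat.ble 122 c)
noncomputable def Atab_s_119_124 (c : Nat) : Nat := @Bool.rec (fun _ => Nat) (Atab_s_119_121 c) (Atab_s_121_124 c) (Nat.ble 121 c)
noncomputable def Atab_s_124_126 (c : Nat) : Nat := @Bool.rec (fun _ => Nat) (Atab_124) (Atab_125) (Nat.ble 125 c)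
noncomputable def Atab_s_127_129 (c : Nat) : Nat := @Bool.rec (fun _ => Nat) (Atab_127) (Atab_128) (Nat.ble 128 c)
noncomputable def Atab_s_126_129 (c : Nat) : Nat := @Bool.rec (fun _ => Nat) (Atab_126) (Atab_s_127_129 c) (Nat.ble 127 c)
noncomputable def Atab_s_124_129 (c : Nat) : Nat := @Bool.rec (fun _ => Nat) (Atab_s_124_126 c) (Atab_s_126_129 c) (Nat.ble 126 c)
noncomputable def Atab_s_119_129 (c : Nat) : Nat := @Bool.rec (fun _ => Nat) (Atab_s_119_124 c) (Atab_s_124_129 c) (Nat.ble 124 c)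
noncomputable def Atab_s_129_131 (c : Nat) : Nat := @Bool.rec (fun _ => Nat) (Atab_129) (Atab_130) (Nat.ble 130 c)
noncomputable def Atab_s_132_134 (c : Nat) : Nat := @Bool.rec (fun _ => Nat) (Atab_132) (Atab_133) (Nat.ble 133 c)
noncomputable def Atab_s_131_134 (c : Nat) : Nat := @Bool.rec (fun _ => Nat) (Atab_131) (Atab_s_132_134 c) (Nat.ble 132 c)
noncomputable def Atab_s_129_134 (c : Nat) : Nat := @Bool.rec (fun _ => Nat) (Atab_s_129_131 c) (Atab_s_131_134 c) (Nat.ble 131 c)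
noncomputable def Atab_s_134_136 (c : Nat) : Nat := @Bool.rec (fun _ => Nat) (Atab_134) (Atab_135) (Nat.ble 135 c)
noncomputable def Atab_s_137_139 (c : Nat) : Nat := @Bool.rec (fun _ => Nat) (Atab_137) (Atab_138) (Nat.ble 138 c)
noncomputable def Atab_s_136_139 (c : Nat) : Nat := @Bool.rec (fun _ => Nat) (Atab_136) (Atab_s_137_139 c) (Nat.ble 137 c)
noncomputable def Atab_s_134_139 (c : Nat) : Nat := @Bool.rec (fun _ => Nat) (Atab_s_134_136 c) (Atab_s_136_139 c) (Nat.ble 136 c)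
noncomputable def Atab_s_129_139 (c : Nat) : Nat := @Bool.rec (fun _ => Nat) (Atab_s_129_134 c) (Atab_s_134_139 c) (Nat.ble 134 c)
noncomputable def Atab_s_119_139 (c : Nat) : Nat := @Bool.rec (fun _ => Nat) (Atab_s_119_129 c) (Atab_s_129_139 c) (Nat.ble 129 c)
noncomputable def Atab_s_139_141 (c : Nat) : Nat := @Bool.rec (fun _ => Nat) (Atab_139) (Atab_140) (Nat.ble 140 c)
noncomputable def Atab_s_142_144 (c : Nat) : Nat := @Bool.rec (fun _ => Nat) (Atab_142) (Atab_143) (Nat.ble 143 c)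
noncomputable def Atab_s_141_144 (c : Nat) : Nat := @Bool.rec (fun _ => Nat) (Atab_141) (Atab_s_142_144 c) (Nat.ble 142 c)
noncomputable def Atab_s_139_144 (c : Nat) : Nat := @Bool.rec (fun _ => Nat) (Atab_s_139_141 c) (Atab_s_141_144 c) (Nat.ble 141 c)
noncomputable def Atab_s_144_146 (c : Nat) : Nat := @Bool.rec (fun _ => Nat) (Atab_144) (Atab_145) (Nat.ble 145 c)
noncomputable def Atab_s_147_149 (c : Nat) : Nat := @Bool.rec (fun _ => Nat) (Atab_147) (Atab_148) (Nat.ble 148 c)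
noncomputable def Atab_s_146_149 (c : Nat) : Nat := @Bool.rec (fun _ => Nat) (Atab_146) (Atab_s_147_149 c) (Nat.ble 147 c)
noncomputable def Atab_s_144_149 (c : Nat) : Nat := @Bool.rec (fun _ => Nat) (Atab_s_144_146 c) (Atab_s_146_149 c) (Nat.ble 146 c)
noncomputable def Atab_s_139_149 (c : Nat) : Nat := @Bool.rec (fun _ => Nat) (Atab_s_139_144 c) (Atab_s_144_149 c) (Nat.ble 144 c)
noncomputable def Atab_s_149_151 (c : Nat) : Nat := @Bool.rec (fun _ => Nat) (Atab_149) (Atab_150) (Nat.ble 150 c)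
noncomputable def Atab_s_152_154 (c : Nat) : Nat := @Bool.rec (fun _ => Nat) (Atab_152) (Atab_153) (Nat.ble 153 c)
noncomputable def Atab_s_151_154 (c : Nat) : Nat := @Bool.rec (fun _ => Nat) (Atab_151) (Atab_s_152_154 c) (Nat.ble 152 c)
noncomputable def Atab_s_149_154 (c : Nat) : Nat := @Bool.rec (fun _ => Nat) (Atab_s_149_151 c) (Atab_s_151_154 c) (Nat.ble 151 c)
noncomputable def Atab_s_154_156 (c : Nat) : Nat := @Bool.rec (fun _ => Nat) (Atab_154) (Atab_155) (Nat.ble 155 c)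
noncomputable def Atab_s_157_159 (c : Nat) : Nat := @Bool.rec (fun _ => Nat) (Atab_157) (Atab_158) (Nat.ble 158 c)
noncomputable def Atab_s_156_159 (c : Nat) : Nat := @Bool.rec (fun _ => Nat) (Atab_156) (Atab_s_157_159 c) (Nat.ble 157 c)
noncomputable def Atab_s_154_159 (c : Nat) : Nat := @Bool.rec (fun _ => Nat) (Atab_s_154_156 c) (Atab_s_156_159 c) (Nat.ble 156 c)
noncomputable def Atab_s_149_159 (c : Nat) : Nat := @Bool.rec (fun _ => Nat) (Atab_s_149_154 c) (Atab_s_154_159 c) (Nat.ble 154 c)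
noncomputable def Atab_s_139_159 (c : Nat) : Nat := @Bool.rec (fun _ => Nat) (Atab_s_139_149 c) (Atab_s_149_159 c) (Nat.ble 149 c)
noncomputable def Atab_s_119_159 (c : Nat) : Nat := @Bool.rec (fun _ => Nat) (Atab_s_119_139 c) (Atab_s_139_159 c) (Nat.ble 139 c)
noncomputable def Atab_s_79_159 (c : Nat) : Nat := @Bool.rec (fun _ => Nat) (Atab_s_79_119 c) (Atab_s_119_159 c) (Nat.ble 119 c)
noncomputable def Atab_s_0_159 (c : Nat) : Nat := @Bool.rec (fun _ => Nat) (Atab_s_0_79 c) (Atab_s_79_159 c) (Nat.ble 79 c)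
noncomputable def Atab (i : Nat) : Nat := rdw 38 274877906943 (Atab_s_0_159 (Nat.shiftRight i 11)) (Nat.land i 2047)
noncomputable def Btab_s_0_2 (c : Nat) : Nat := @Bool.rec (fun _ => Nat) (Btab_0) (Btab_1) (Nat.ble 1 c)
noncomputable def Btab_s_2_4 (c : Nat) : Nat := @Bool.rec (fun _ => Nat) (Btab_2) (Btab_3) (Nat.ble 3 c)
noncomputable def Btab_s_0_4 (c : Nat) : Nat := @Bool.rec (fun _ => Nat) (Btab_s_0_2 c) (Btab_s_2_4 c) (Nat.ble 2 c)
noncomputable def Btab_s_4_6 (c : Nat) : Nat := @Bool.rec (fun _ => Nat) (Btab_4) (Btab_5) (Nat.ble 5 c)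
noncomputable def Btab_s_6_8 (c : Nat) : Nat := @Bool.rec (fun _ => Nat) (Btab_6) (Btab_7) (Nat.ble 7 c)
noncomputable def Btab_s_4_8 (c : Nat) : Nat := @Bool.rec (fun _ => Nat) (Btab_s_4_6 c) (Btab_s_6_8 c) (Nat.ble 6 c)
noncomputable def Btab_s_0_8 (c : Nat) : Nat := @Bool.rec (fun _ => Nat) (Btab_s_0_4 c) (Btab_s_4_8 c) (Nat.ble 4 c)
noncomputable def Btab_s_8_10 (c : Nat) : Nat := @Bool.rec (fun _ => Nat) (Btab_8) (Btab_9) (Nat.ble 9 c)
noncomputable def Btab_s_10_12 (c : Nat) : Nat := @Bool.rec (fun _ => Nat) (Btab_10) (Btab_11) (Nat.ble 11 c)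
noncomputable def Btab_s_8_12 (c : Nat) : Nat := @Bool.rec (fun _ => Nat) (Btab_s_8_10 c) (Btab_s_10_12 c) (Nat.ble 10 c)
noncomputable def Btab_s_12_14 (c : Nat) : Nat := @Bool.rec (fun _ => Nat) (Btab_12) (Btab_13) (Nat.ble 13 c)
noncomputable def Btab_s_15_17 (c : Nat) : Nat := @Bool.rec (fun _ => Nat) (Btab_15) (Btab_16) (Nat.ble 16 c)
noncomputable def Btab_s_14_17 (c : Nat) : Nat := @Bool.rec (fun _ => Nat) (Btab_14) (Btab_s_15_17 c) (Nat.ble 15 c)
noncomputable def Btab_s_12_17 (c : Nat) : Nat := @Bool.rec (fun _ => Nat) (Btab_s_12_14 c) (Btab_s_14_17 c) (Nat.ble 14 c)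
noncomputable def Btab_s_8_17 (c : Nat) : Nat := @Bool.rec (fun _ => Nat) (Btab_s_8_12 c) (Btab_s_12_17 c) (Nat.ble 12 c)
noncomputable def Btab_s_0_17 (c : Nat) : Nat := @Bool.rec (fun _ => Nat) (Btab_s_0_8 c) (Btab_s_8_17 c) (Nat.ble 8 c)
noncomputable def Btab_s_17_19 (c : Nat) : Nat := @Bool.rec (fun _ => Nat) (Btab_17) (Btab_18) (Nat.ble 18 c)
noncomputable def Btab_s_19_21 (c : Nat) : Nat := @Bool.rec (fun _ => Nat) (Btab_19) (Btab_20) (Nat.ble 20 c)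
noncomputable def Btab_s_17_21 (c : Nat) : Nat := @Bool.rec (fun _ => Nat) (Btab_s_17_19 c) (Btab_s_19_21 c) (Nat.ble 19 c)
noncomputable def Btab_s_21_23 (c : Nat) : Nat := @Bool.rec (fun _ => Nat) (Btab_21) (Btab_22) (Nat.ble 22 c)
noncomputable def Btab_s_24_26 (c : Nat) : Nat := @Bool.rec (fun _ => Nat) (Btab_24) (Btab_25) (Nat.ble 25 c)
noncomputable def Btab_s_23_26 (c : Nat) : Nat := @Bool.rec (fun _ => Nat) (Btab_23) (Btab_s_24_26 c) (Nat.ble 24 c)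
noncomputable def Btab_s_21_26 (c : Nat) : Nat := @Bool.rec (fun _ => Nat) (Btab_s_21_23 c) (Btab_s_23_26 c) (Nat.ble 23 c)
noncomputable def Btab_s_17_26 (c : Nat) : Nat := @Bool.rec (fun _ => Nat) (Btab_s_17_21 c) (Btab_s_21_26 c) (Nat.ble 21 c)
noncomputable def Btab_s_26_28 (c : Nat) : Nat := @Bool.rec (fun _ => Nat) (Btab_26) (Btab_27) (Nat.ble 27 c)
noncomputable def Btab_s_28_30 (c : Nat) : Nat := @Bool.rec (fun _ => Nat) (Btab_28) (Btab_29) (Nat.ble 29 c)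
noncomputable def Btab_s_26_30 (c : Nat) : Nat := @Bool.rec (fun _ => Nat) (Btab_s_26_28 c) (Btab_s_28_30 c) (Nat.ble 28 c)
noncomputable def Btab_s_30_32 (c : Nat) : Nat := @Bool.rec (fun _ => Nat) (Btab_30) (Btab_31) (Nat.ble 31 c)
noncomputable def Btab_s_33_35 (c : Nat) : Nat := @Bool.rec (fun _ => Nat) (Btab_33) (Btab_34) (Nat.ble 34 c)
noncomputable def Btab_s_32_35 (c : Nat) : Nat := @Bool.rec (fun _ => Nat) (Btab_32) (Btab_s_33_35 c) (Nat.ble 33 c)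
noncomputable def Btab_s_30_35 (c : Nat) : Nat := @Bool.rec (fun _ => Nat) (Btab_s_30_32 c) (Btab_s_32_35 c) (Nat.ble 32 c)
noncomputable def Btab_s_26_35 (c : Nat) : Nat := @Bool.rec (fun _ => Nat) (Btab_s_26_30 c) (Btab_s_30_35 c) (Nat.ble 30 c)
noncomputable def Btab_s_17_35 (c : Nat) : Nat := @Bool.rec (fun _ => Nat) (Btab_s_17_26 c) (Btab_s_26_35 c) (Nat.ble 26 c)
noncomputable def Btab_s_0_35 (c : Nat) : Nat := @Bool.rec (fun _ => Nat) (Btab_s_0_17 c) (Btab_s_17_35 c) (Nat.ble 17 c)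
noncomputable def Btab_s_35_37 (c : Nat) : Nat := @Bool.rec (fun _ => Nat) (Btab_35) (Btab_36) (Nat.ble 36 c)
noncomputable def Btab_s_37_39 (c : Nat) : Nat := @Bool.rec (fun _ => Nat) (Btab_37) (Btab_38) (Nat.ble 38 c)
noncomputable def Btab_s_35_39 (c : Nat) : Nat := @Bool.rec (fun _ => Nat) (Btab_s_35_37 c) (Btab_s_37_39 c) (Nat.ble 37 c)
noncomputable def Btab_s_39_41 (c : Nat) : Nat := @Bool.rec (fun _ => Nat) (Btab_39) (Btab_40) (Nat.ble 40 c)
noncomputable def Btab_s_41_43 (c : Nat) : Nat := @Bool.rec (fun _ => Nat) (Btab_41) (Btab_42) (Nat.ble 42 c)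
noncomputable def Btab_s_39_43 (c : Nat) : Nat := @Bool.rec (fun _ => Nat) (Btab_s_39_41 c) (Btab_s_41_43 c) (Nat.ble 41 c)
noncomputable def Btab_s_35_43 (c : Nat) : Nat := @Bool.rec (fun _ => Nat) (Btab_s_35_39 c) (Btab_s_39_43 c) (Nat.ble 39 c)
noncomputable def Btab_s_43_45 (c : Nat) : Nat := @Bool.rec (fun _ => Nat) (Btab_43) (Btab_44) (Nat.ble 44 c)
noncomputable def Btab_s_45_47 (c : Nat) : Nat := @Bool.rec (fun _ => Nat) (Btab_45) (Btab_46) (Nat.ble 46 c)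
noncomputable def Btab_s_43_47 (c : Nat) : Nat := @Bool.rec (fun _ => Nat) (Btab_s_43_45 c) (Btab_s_45_47 c) (Nat.ble 45 c)
noncomputable def Btab_s_47_49 (c : Nat) : Nat := @Bool.rec (fun _ => Nat) (Btab_47) (Btab_48) (Nat.ble 48 c)
noncomputable def Btab_s_50_52 (c : Nat) : Nat := @Bool.rec (fun _ => Nat) (Btab_50) (Btab_51) (Nat.ble 51 c)
noncomputable def Btab_s_49_52 (c : Nat) : Nat := @Bool.rec (fun _ => Nat) (Btab_49) (Btab_s_50_52 c) (Nat.ble 50 c)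
noncomputable def Btab_s_47_52 (c : Nat) : Nat := @Bool.rec (fun _ => Nat) (Btab_s_47_49 c) (Btab_s_49_52 c) (Nat.ble 49 c)
noncomputable def Btab_s_43_52 (c : Nat) : Nat := @Bool.rec (fun _ => Nat) (Btab_s_43_47 c) (Btab_s_47_52 c) (Nat.ble 47 c)
noncomputable def Btab_s_35_52 (c : Nat) : Nat := @Bool.rec (fun _ => Nat) (Btab_s_35_43 c) (Btab_s_43_52 c) (Nat.ble 43 c)
noncomputable def Btab_s_52_54 (c : Nat) : Nat := @Bool.rec (fun _ => Nat) (Btab_52) (Btab_53) (Nat.ble 53 c)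
noncomputable def Btab_s_54_56 (c : Nat) : Nat := @Bool.rec (fun _ => Nat) (Btab_54) (Btab_55) (Nat.ble 55 c)
noncomputable def Btab_s_52_56 (c : Nat) : Nat := @Bool.rec (fun _ => Nat) (Btab_s_52_54 c) (Btab_s_54_56 c) (Nat.ble 54 c)
noncomputable def Btab_s_56_58 (c : Nat) : Nat := @Bool.rec (fun _ => Nat) (Btab_56) (Btab_57) (Nat.ble 57 c)
noncomputable def Btab_s_59_61 (c : Nat) : Nat := @Bool.rec (fun _ => Nat) (Btab_59) (Btab_60) (Nat.ble 60 c)
noncomputable def Btab_s_58_61 (c : Nat) : Nat := @Bool.rec (fun _ => Nat) (Btab_58) (Btab_s_59_61 c) (Nat.ble 59 c)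
noncomputable def Btab_s_56_61 (c : Nat) : Nat := @Bool.rec (fun _ => Nat) (Btab_s_56_58 c) (Btab_s_58_61 c) (Nat.ble 58 c)
noncomputable def Btab_s_52_61 (c : Nat) : Nat := @Bool.rec (fun _ => Nat) (Btab_s_52_56 c) (Btab_s_56_61 c) (Nat.ble 56 c)
noncomputable def Btab_s_61_63 (c : Nat) : Nat := @Bool.rec (fun _ => Nat) (Btab_61) (Btab_62) (Nat.ble 62 c)
noncomputable def Btab_s_63_65 (c : Nat) : Nat := @Bool.rec (fun _ => Nat) (Btab_63) (Btab_64) (Nat.ble 64 c)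
noncomputable def Btab_s_61_65 (c : Nat) : Nat := @Bool.rec (fun _ => Nat) (Btab_s_61_63 c) (Btab_s_63_65 c) (Nat.ble 63 c)
noncomputable def Btab_s_65_67 (c : Nat) : Nat := @Bool.rec (fun _ => Nat) (Btab_65) (Btab_66) (Nat.ble 66 c)
noncomputable def Btab_s_68_70 (c : Nat) : Nat := @Bool.rec (fun _ => Nat) (Btab_68) (Btab_69) (Nat.ble 69 c)
noncomputable def Btab_s_67_70 (c : Nat) : Nat := @Bool.rec (fun _ => Nat) (Btab_67) (Btab_s_68_70 c) (Nat.ble 68 c)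
noncomputable def Btab_s_65_70 (c : Nat) : Nat := @Bool.rec (fun _ => Nat) (Btab_s_65_67 c) (Btab_s_67_70 c) (Nat.ble 67 c)
noncomputable def Btab_s_61_70 (c : Nat) : Nat := @Bool.rec (fun _ => Nat) (Btab_s_61_65 c) (Btab_s_65_70 c) (Nat.ble 65 c)
noncomputable def Btab_s_52_70 (c : Nat) : Nat := @Bool.rec (fun _ => Nat) (Btab_s_52_61 c) (Btab_s_61_70 c) (Nat.ble 61 c)
noncomputable def Btab_s_35_70 (c : Nat) : Nat := @Bool.rec (fun _ => Nat) (Btab_s_35_52 c) (Btab_s_52_70 c) (Nat.ble 52 c)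
noncomputable def Btab_s_0_70 (c : Nat) : Nat := @Bool.rec (fun _ => Nat) (Btab_s_0_35 c) (Btab_s_35_70 c) (Nat.ble 35 c)
noncomputable def Btab_s_70_72 (c : Nat) : Nat := @Bool.rec (fun _ => Nat) (Btab_70) (Btab_71) (Nat.ble 71 c)
noncomputable def Btab_s_72_74 (c : Nat) : Nat := @Bool.rec (fun _ => Nat) (Btab_72) (Btab_73) (Nat.ble 73 c)
noncomputable def Btab_s_70_74 (c : Nat) : Nat := @Bool.rec (fun _ => Nat) (Btab_s_70_72 c) (Btab_s_72_74 c) (Nat.ble 72 c)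
noncomputable def Btab_s_74_76 (c : Nat) : Nat := @Bool.rec (fun _ => Nat) (Btab_74) (Btab_75) (Nat.ble 75 c)
noncomputable def Btab_s_76_78 (c : Nat) : Nat := @Bool.rec (fun _ => Nat) (Btab_76) (Btab_77) (Nat.ble 77 c)
noncomputable def Btab_s_74_78 (c : Nat) : Nat := @Bool.rec (fun _ => Nat) (Btab_s_74_76 c) (Btab_s_76_78 c) (Nat.ble 76 c)
noncomputable def Btab_s_70_78 (c : Nat) : Nat := @Bool.rec (fun _ => Nat) (Btab_s_70_74 c) (Btab_s_74_78 c) (Nat.ble 74 c)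
noncomputable def Btab_s_78_80 (c : Nat) : Nat := @Bool.rec (fun _ => Nat) (Btab_78) (Btab_79) (Nat.ble 79 c)
noncomputable def Btab_s_80_82 (c : Nat) : Nat := @Bool.rec (fun _ => Nat) (Btab_80) (Btab_81) (Nat.ble 81 c)
noncomputable def Btab_s_78_82 (c : Nat) : Nat := @Bool.rec (fun _ => Nat) (Btab_s_78_80 c) (Btab_s_80_82 c) (Nat.ble 80 c)
noncomputable def Btab_s_82_84 (c : Nat) : Nat := @Bool.rec (fun _ => Nat) (Btab_82) (Btab_83) (Nat.ble 83 c)
noncomputable def Btab_s_85_87 (c : Nat) : Nat := @Bool.rec (fun _ => Nat) (Btab_85) (Btab_86) (Nat.ble 86 c)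
noncomputable def Btab_s_84_87 (c : Nat) : Nat := @Bool.rec (fun _ => Nat) (Btab_84) (Btab_s_85_87 c) (Nat.ble 85 c)
noncomputable def Btab_s_82_87 (c : Nat) : Nat := @Bool.rec (fun _ => Nat) (Btab_s_82_84 c) (Btab_s_84_87 c) (Nat.ble 84 c)
noncomputable def Btab_s_78_87 (c : Nat) : Nat := @Bool.rec (fun _ => Nat) (Btab_s_78_82 c) (Btab_s_82_87 c) (Nat.ble 82 c)
noncomputable def Btab_s_70_87 (c : Nat) : Nat := @Bool.rec (fun _ => Nat) (Btab_s_70_78 c) (Btab_s_78_87 c) (Nat.ble 78 c)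
noncomputable def Btab_s_87_89 (c : Nat) : Nat := @Bool.rec (fun _ => Nat) (Btab_87) (Btab_88) (Nat.ble 88 c)
noncomputable def Btab_s_89_91 (c : Nat) : Nat := @Bool.rec (fun _ => Nat) (Btab_89) (Btab_90) (Nat.ble 90 c)
noncomputable def Btab_s_87_91 (c : Nat) : Nat := @Bool.rec (fun _ => Nat) (Btab_s_87_89 c) (Btab_s_89_91 c) (Nat.ble 89 c)
noncomputable def Btab_s_91_93 (c : Nat) : Nat := @Bool.rec (fun _ => Nat) (Btab_91) (Btab_92) (Nat.ble 92 c)
noncomputable def Btab_s_94_96 (c : Nat) : Nat := @Bool.rec (fun _ => Nat) (Btab_94) (Btab_95) (Nat.ble 95 c)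
noncomputable def Btab_s_93_96 (c : Nat) : Nat := @Bool.rec (fun _ => Nat) (Btab_93) (Btab_s_94_96 c) (Nat.ble 94 c)
noncomputable def Btab_s_91_96 (c : Nat) : Nat := @Bool.rec (fun _ => Nat) (Btab_s_91_93 c) (Btab_s_93_96 c) (Nat.ble 93 c)
noncomputable def Btab_s_87_96 (c : Nat) : Nat := @Bool.rec (fun _ => Nat) (Btab_s_87_91 c) (Btab_s_91_96 c) (Nat.ble 91 c)
noncomputable def Btab_s_96_98 (c : Nat) : Nat := @Bool.rec (fun _ => Nat) (Btab_96) (Btab_97) (Nat.ble 97 c)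
noncomputable def Btab_s_98_100 (c : Nat) : Nat := @Bool.rec (fun _ => Nat) (Btab_98) (Btab_99) (Nat.ble 99 c)
noncomputable def Btab_s_96_100 (c : Nat) : Nat := @Bool.rec (fun _ => Nat) (Btab_s_96_98 c) (Btab_s_98_100 c) (Nat.ble 98 c)
noncomputable def Btab_s_100_102 (c : Nat) : Nat := @Bool.rec (fun _ => Nat) (Btab_100) (Btab_101) (Nat.ble 101 c)
noncomputable def Btab_s_103_105 (c : Nat) : Nat := @Bool.rec (fun _ => Nat) (Btab_103) (Btab_104) (Nat.ble 104 c)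
noncomputable def Btab_s_102_105 (c : Nat) : Nat := @Bool.rec (fun _ => Nat) (Btab_102) (Btab_s_103_105 c) (Nat.ble 103 c)
noncomputable def Btab_s_100_105 (c : Nat) : Nat := @Bool.rec (fun _ => Nat) (Btab_s_100_102 c) (Btab_s_102_105 c) (Nat.ble 102 c)
noncomputable def Btab_s_96_105 (c : Nat) : Nat := @Bool.rec (fun _ => Nat) (Btab_s_96_100 c) (Btab_s_100_105 c) (Nat.ble 100 c)
noncomputable def Btab_s_87_105 (c : Nat) : Nat := @Bool.rec (fun _ => Nat) (Btab_s_87_96 c) (Btab_s_96_105 c) (Nat.ble 96 c)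
noncomputable def Btab_s_70_105 (c : Nat) : Nat := @Bool.rec (fun _ => Nat) (Btab_s_70_87 c) (Btab_s_87_105 c) (Nat.ble 87 c)
noncomputable def Btab_s_105_107 (c : Nat) : Nat := @Bool.rec (fun _ => Nat) (Btab_105) (Btab_106) (Nat.ble 106 c)
noncomputable def Btab_s_107_109 (c : Nat) : Nat := @Bool.rec (fun _ => Nat) (Btab_107) (Btab_108) (Nat.ble 108 c)
noncomputable def Btab_s_105_109 (c : Nat) : Nat := @Bool.rec (fun _ => Nat) (Btab_s_105_107 c) (Btab_s_107_109 c) (Nat.ble 107 c)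
noncomputable def Btab_s_109_111 (c : Nat) : Nat := @Bool.rec (fun _ => Nat) (Btab_109) (Btab_110) (Nat.ble 110 c)
noncomputable def Btab_s_111_113 (c : Nat) : Nat := @Bool.rec (fun _ => Nat) (Btab_111) (Btab_112) (Nat.ble 112 c)
noncomputable def Btab_s_109_113 (c : Nat) : Nat := @Bool.rec (fun _ => Nat) (Btab_s_109_111 c) (Btab_s_111_113 c) (Nat.ble 111 c)
noncomputable def Btab_s_105_113 (c : Nat) : Nat := @Bool.rec (fun _ => Nat) (Btab_s_105_109 c) (Btab_s_109_113 c) (Nat.ble 109 c)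
noncomputable def Btab_s_113_115 (c : Nat) : Nat := @Bool.rec (fun _ => Nat) (Btab_113) (Btab_114) (Nat.ble 114 c)
noncomputable def Btab_s_115_117 (c : Nat) : Nat := @Bool.rec (fun _ => Nat) (Btab_115) (Btab_116) (Nat.ble 116 c)
noncomputable def Btab_s_113_117 (c : Nat) : Nat := @Bool.rec (fun _ => Nat) (Btab_s_113_115 c) (Btab_s_115_117 c) (Nat.ble 115 c)
noncomputable def Btab_s_117_119 (c : Nat) : Nat := @Bool.rec (fun _ => Nat) (Btab_117) (Btab_118) (Nat.ble 118 c)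
noncomputable def Btab_s_120_122 (c : Nat) : Nat := @Bool.rec (fun _ => Nat) (Btab_120) (Btab_121) (Nat.ble 121 c)
noncomputable def Btab_s_119_122 (c : Nat) : Nat := @Bool.rec (fun _ => Nat) (Btab_119) (Btab_s_120_122 c) (Nat.ble 120 c)
noncomputable def Btab_s_117_122 (c : Nat) : Nat := @Bool.rec (fun _ => Nat) (Btab_s_117_119 c) (Btab_s_119_122 c) (Nat.ble 119 c)
noncomputable def Btab_s_113_122 (c : Nat) : Nat := @Bool.rec (fun _ => Nat) (Btab_s_113_117 c) (Btab_s_117_122 c) (Nat.ble 117 c)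
noncomputable def Btab_s_105_122 (c : Nat) : Nat := @Bool.rec (fun _ => Nat) (Btab_s_105_113 c) (Btab_s_113_122 c) (Nat.ble 113 c)
noncomputable def Btab_s_122_124 (c : Nat) : Nat := @Bool.rec (fun _ => Nat) (Btab_122) (Btab_123) (Nat.ble 123 c)
noncomputable def Btab_s_124_126 (c : Nat) : Nat := @Bool.rec (fun _ => Nat) (Btab_124) (Btab_125) (Nat.ble 125 c)
noncomputable def Btab_s_122_126 (c : Nat) : Nat := @Bool.rec (fun _ => Nat) (Btab_s_122_124 c) (Btab_s_124_126 c) (Nat.ble 124 c)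
noncomputable def Btab_s_126_128 (c : Nat) : Nat := @Bool.rec (fun _ => Nat) (Btab_126) (Btab_127) (Nat.ble 127 c)
noncomputable def Btab_s_129_131 (c : Nat) : Nat := @Bool.rec (fun _ => Nat) (Btab_129) (Btab_130) (Nat.ble 130 c)
noncomputable def Btab_s_128_131 (c : Nat) : Nat := @Bool.rec (fun _ => Nat) (Btab_128) (Btab_s_129_131 c) (Nat.ble 129 c)
noncomputable def Btab_s_126_131 (c : Nat) : Nat := @Bool.rec (fun _ => Nat) (Btab_s_126_128 c) (Btab_s_128_131 c) (Nat.ble 128 c)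
noncomputable def Btab_s_122_131 (c : Nat) : Nat := @Bool.rec (fun _ => Nat) (Btab_s_122_126 c) (Btab_s_126_131 c) (Nat.ble 126 c)
noncomputable def Btab_s_131_133 (c : Nat) : Nat := @Bool.rec (fun _ => Nat) (Btab_131) (Btab_132) (Nat.ble 132 c)
noncomputable def Btab_s_133_135 (c : Nat) : Nat := @Bool.rec (fun _ => Nat) (Btab_133) (Btab_134) (Nat.ble 134 c)
noncomputable def Btab_s_131_135 (c : Nat) : Nat := @Bool.rec (fun _ => Nat) (Btab_s_131_133 c) (Btab_s_133_135 c) (Nat.ble 133 c)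
noncomputable def Btab_s_135_137 (c : Nat) : Nat := @Bool.rec (fun _ => Nat) (Btab_135) (Btab_136) (Nat.ble 136 c)
noncomputable def Btab_s_138_140 (c : Nat) : Nat := @Bool.rec (fun _ => Nat) (Btab_138) (Btab_139) (Nat.ble 139 c)
noncomputable def Btab_s_137_140 (c : Nat) : Nat := @Bool.rec (fun _ => Nat) (Btab_137) (Btab_s_138_140 c) (Nat.ble 138 c)
noncomputable def Btab_s_135_140 (c : Nat) : Nat := @Bool.rec (fun _ => Nat) (Btab_s_135_137 c) (Btab_s_137_140 c) (Nat.ble 137 c)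
noncomputable def Btab_s_131_140 (c : Nat) : Nat := @Bool.rec (fun _ => Nat) (Btab_s_131_135 c) (Btab_s_135_140 c) (Nat.ble 135 c)
noncomputable def Btab_s_122_140 (c : Nat) : Nat := @Bool.rec (fun _ => Nat) (Btab_s_122_131 c) (Btab_s_131_140 c) (Nat.ble 131 c)
noncomputable def Btab_s_105_140 (c : Nat) : Nat := @Bool.rec (fun _ => Nat) (Btab_s_105_122 c) (Btab_s_122_140 c) (Nat.ble 122 c)
noncomputable def Btab_s_70_140 (c : Nat) : Nat := @Bool.rec (fun _ => Nat) (Btab_s_70_105 c) (Btab_s_105_140 c) (Nat.ble 105 c)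
noncomputable def Btab_s_0_140 (c : Nat) : Nat := @Bool.rec (fun _ => Nat) (Btab_s_0_70 c) (Btab_s_70_140 c) (Nat.ble 70 c)
noncomputable def Btab_s_140_142 (c : Nat) : Nat := @Bool.rec (fun _ => Nat) (Btab_140) (Btab_141) (Nat.ble 141 c)
noncomputable def Btab_s_142_144 (c : Nat) : Nat := @Bool.rec (fun _ => Nat) (Btab_142) (Btab_143) (Nat.ble 143 c)
noncomputable def Btab_s_140_144 (c : Nat) : Nat := @Bool.rec (fun _ => Nat) (Btab_s_140_142 c) (Btab_s_142_144 c) (Nat.ble 142 c)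
noncomputable def Btab_s_144_146 (c : Nat) : Nat := @Bool.rec (fun _ => Nat) (Btab_144) (Btab_145) (Nat.ble 145 c)
noncomputable def Btab_s_146_148 (c : Nat) : Nat := @Bool.rec (fun _ => Nat) (Btab_146) (Btab_147) (Nat.ble 147 c)
noncomputable def Btab_s_144_148 (c : Nat) : Nat := @Bool.rec (fun _ => Nat) (Btab_s_144_146 c) (Btab_s_146_148 c) (Nat.ble 146 c)
noncomputable def Btab_s_140_148 (c : Nat) : Nat := @Bool.rec (fun _ => Nat) (Btab_s_140_144 c) (Btab_s_144_148 c) (Nat.ble 144 c)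
noncomputable def Btab_s_148_150 (c : Nat) : Nat := @Bool.rec (fun _ => Nat) (Btab_148) (Btab_149) (Nat.ble 149 c)
noncomputable def Btab_s_150_152 (c : Nat) : Nat := @Bool.rec (fun _ => Nat) (Btab_150) (Btab_151) (Nat.ble 151 c)
noncomputable def Btab_s_148_152 (c : Nat) : Nat := @Bool.rec (fun _ => Nat) (Btab_s_148_150 c) (Btab_s_150_152 c) (Nat.ble 150 c)
noncomputable def Btab_s_152_154 (c : Nat) : Nat := @Bool.rec (fun _ => Nat) (Btab_152) (Btab_153) (Nat.ble 153 c)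
noncomputable def Btab_s_155_157 (c : Nat) : Nat := @Bool.rec (fun _ => Nat) (Btab_155) (Btab_156) (Nat.ble 156 c)
noncomputable def Btab_s_154_157 (c : Nat) : Nat := @Bool.rec (fun _ => Nat) (Btab_154) (Btab_s_155_157 c) (Nat.ble 155 c)
noncomputable def Btab_s_152_157 (c : Nat) : Nat := @Bool.rec (fun _ => Nat) (Btab_s_152_154 c) (Btab_s_154_157 c) (Nat.ble 154 c)
noncomputable def Btab_s_148_157 (c : Nat) : Nat := @Bool.rec (fun _ => Nat) (Btab_s_148_152 c) (Btab_s_152_157 c) (Nat.ble 152 c)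
noncomputable def Btab_s_140_157 (c : Nat) : Nat := @Bool.rec (fun _ => Nat) (Btab_s_140_148 c) (Btab_s_148_157 c) (Nat.ble 148 c)
noncomputable def Btab_s_157_159 (c : Nat) : Nat := @Bool.rec (fun _ => Nat) (Btab_157) (Btab_158) (Nat.ble 158 c)
noncomputable def Btab_s_159_161 (c : Nat) : Nat := @Bool.rec (fun _ => Nat) (Btab_159) (Btab_160) (Nat.ble 160 c)
noncomputable def Btab_s_157_161 (c : Nat) : Nat := @Bool.rec (fun _ => Nat) (Btab_s_157_159 c) (Btab_s_159_161 c) (Nat.ble 159 c)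
noncomputable def Btab_s_161_163 (c : Nat) : Nat := @Bool.rec (fun _ => Nat) (Btab_161) (Btab_162) (Nat.ble 162 c)
noncomputable def Btab_s_164_166 (c : Nat) : Nat := @Bool.rec (fun _ => Nat) (Btab_164) (Btab_165) (Nat.ble 165 c)
noncomputable def Btab_s_163_166 (c : Nat) : Nat := @Bool.rec (fun _ => Nat) (Btab_163) (Btab_s_164_166 c) (Nat.ble 164 c)
noncomputable def Btab_s_161_166 (c : Nat) : Nat := @Bool.rec (fun _ => Nat) (Btab_s_161_163 c) (Btab_s_163_166 c) (Nat.ble 163 c)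
noncomputable def Btab_s_157_166 (c : Nat) : Nat := @Bool.rec (fun _ => Nat) (Btab_s_157_161 c) (Btab_s_161_166 c) (Nat.ble 161 c)
noncomputable def Btab_s_166_168 (c : Nat) : Nat := @Bool.rec (fun _ => Nat) (Btab_166) (Btab_167) (Nat.ble 167 c)
noncomputable def Btab_s_168_170 (c : Nat) : Nat := @Bool.rec (fun _ => Nat) (Btab_168) (Btab_169) (Nat.ble 169 c)
noncomputable def Btab_s_166_170 (c : Nat) : Nat := @Bool.rec (fun _ => Nat) (Btab_s_166_168 c) (Btab_s_168_170 c) (Nat.ble 168 c)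
noncomputable def Btab_s_170_172 (c : Nat) : Nat := @Bool.rec (fun _ => Nat) (Btab_170) (Btab_171) (Nat.ble 171 c)
noncomputable def Btab_s_173_175 (c : Nat) : Nat := @Bool.rec (fun _ => Nat) (Btab_173) (Btab_174) (Nat.ble 174 c)
noncomputable def Btab_s_172_175 (c : Nat) : Nat := @Bool.rec (fun _ => Nat) (Btab_172) (Btab_s_173_175 c) (Nat.ble 173 c)
noncomputable def Btab_s_170_175 (c : Nat) : Nat := @Bool.rec (fun _ => Nat) (Btab_s_170_172 c) (Btab_s_172_175 c) (Nat.ble 172 c)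
noncomputable def Btab_s_166_175 (c : Nat) : Nat := @Bool.rec (fun _ => Nat) (Btab_s_166_170 c) (Btab_s_170_175 c) (Nat.ble 170 c)
noncomputable def Btab_s_157_175 (c : Nat) : Nat := @Bool.rec (fun _ => Nat) (Btab_s_157_166 c) (Btab_s_166_175 c) (Nat.ble 166 c)
noncomputable def Btab_s_140_175 (c : Nat) : Nat := @Bool.rec (fun _ => Nat) (Btab_s_140_157 c) (Btab_s_157_175 c) (Nat.ble 157 c)
noncomputable def Btab_s_175_177 (c : Nat) : Nat := @Bool.rec (fun _ => Nat) (Btab_175) (Btab_176) (Nat.ble 176 c)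
noncomputable def Btab_s_177_179 (c : Nat) : Nat := @Bool.rec (fun _ => Nat) (Btab_177) (Btab_178) (Nat.ble 178 c)
noncomputable def Btab_s_175_179 (c : Nat) : Nat := @Bool.rec (fun _ => Nat) (Btab_s_175_177 c) (Btab_s_177_179 c) (Nat.ble 177 c)
noncomputable def Btab_s_179_181 (c : Nat) : Nat := @Bool.rec (fun _ => Nat) (Btab_179) (Btab_180) (Nat.ble 180 c)
noncomputable def Btab_s_181_183 (c : Nat) : Nat := @Bool.rec (fun _ => Nat) (Btab_181) (Btab_182) (Nat.ble 182 c)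
noncomputable def Btab_s_179_183 (c : Nat) : Nat := @Bool.rec (fun _ => Nat) (Btab_s_179_181 c) (Btab_s_181_183 c) (Nat.ble 181 c)
noncomputable def Btab_s_175_183 (c : Nat) : Nat := @Bool.rec (fun _ => Nat) (Btab_s_175_179 c) (Btab_s_179_183 c) (Nat.ble 179 c)
noncomputable def Btab_s_183_185 (c : Nat) : Nat := @Bool.rec (fun _ => Nat) (Btab_183) (Btab_184) (Nat.ble 184 c)
noncomputable def Btab_s_185_187 (c : Nat) : Nat := @Bool.rec (fun _ => Nat) (Btab_185) (Btab_186) (Nat.ble 186 c)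
noncomputable def Btab_s_183_187 (c : Nat) : Nat := @Bool.rec (fun _ => Nat) (Btab_s_183_185 c) (Btab_s_185_187 c) (Nat.ble 185 c)
noncomputable def Btab_s_187_189 (c : Nat) : Nat := @Bool.rec (fun _ => Nat) (Btab_187) (Btab_188) (Nat.ble 188 c)
noncomputable def Btab_s_190_192 (c : Nat) : Nat := @Bool.rec (fun _ => Nat) (Btab_190) (Btab_191) (Nat.ble 191 c)
noncomputable def Btab_s_189_192 (c : Nat) : Nat := @Bool.rec (fun _ => Nat) (Btab_189) (Btab_s_190_192 c) (Nat.ble 190 c)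
noncomputable def Btab_s_187_192 (c : Nat) : Nat := @Bool.rec (fun _ => Nat) (Btab_s_187_189 c) (Btab_s_189_192 c) (Nat.ble 189 c)
noncomputable def Btab_s_183_192 (c : Nat) : Nat := @Bool.rec (fun _ => Nat) (Btab_s_183_187 c) (Btab_s_187_192 c) (Nat.ble 187 c)
noncomputable def Btab_s_175_192 (c : Nat) : Nat := @Bool.rec (fun _ => Nat) (Btab_s_175_183 c) (Btab_s_183_192 c) (Nat.ble 183 c)
noncomputable def Btab_s_192_194 (c : Nat) : Nat := @Bool.rec (fun _ => Nat) (Btab_192) (Btab_193) (Nat.ble 193 c)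
noncomputable def Btab_s_194_196 (c : Nat) : Nat := @Bool.rec (fun _ => Nat) (Btab_194) (Btab_195) (Nat.ble 195 c)
noncomputable def Btab_s_192_196 (c : Nat) : Nat := @Bool.rec (fun _ => Nat) (Btab_s_192_194 c) (Btab_s_194_196 c) (Nat.ble 194 c)
noncomputable def Btab_s_196_198 (c : Nat) : Nat := @Bool.rec (fun _ => Nat) (Btab_196) (Btab_197) (Nat.ble 197 c)
noncomputable def Btab_s_199_201 (c : Nat) : Nat := @Bool.rec (fun _ => Nat) (Btab_199) (Btab_200) (Nat.ble 200 c)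
noncomputable def Btab_s_198_201 (c : Nat) : Nat := @Bool.rec (fun _ => Nat) (Btab_198) (Btab_s_199_201 c) (Nat.ble 199 c)
noncomputable def Btab_s_196_201 (c : Nat) : Nat := @Bool.rec (fun _ => Nat) (Btab_s_196_198 c) (Btab_s_198_201 c) (Nat.ble 198 c)
noncomputable def Btab_s_192_201 (c : Nat) : Nat := @Bool.rec (fun _ => Nat) (Btab_s_192_196 c) (Btab_s_196_201 c) (Nat.ble 196 c)
noncomputable def Btab_s_201_203 (c : Nat) : Nat := @Bool.rec (fun _ => Nat) (Btab_201) (Btab_202) (Nat.ble 202 c)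
noncomputable def Btab_s_203_205 (c : Nat) : Nat := @Bool.rec (fun _ => Nat) (Btab_203) (Btab_204) (Nat.ble 204 c)
noncomputable def Btab_s_201_205 (c : Nat) : Nat := @Bool.rec (fun _ => Nat) (Btab_s_201_203 c) (Btab_s_203_205 c) (Nat.ble 203 c)
noncomputable def Btab_s_205_207 (c : Nat) : Nat := @Bool.rec (fun _ => Nat) (Btab_205) (Btab_206) (Nat.ble 206 c)
noncomputable def Btab_s_208_210 (c : Nat) : Nat := @Bool.rec (fun _ => Nat) (Btab_208) (Btab_209) (Nat.ble 209 c)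
noncomputable def Btab_s_207_210 (c : Nat) : Nat := @Bool.rec (fun _ => Nat) (Btab_207) (Btab_s_208_210 c) (Nat.ble 208 c)
noncomputable def Btab_s_205_210 (c : Nat) : Nat := @Bool.rec (fun _ => Nat) (Btab_s_205_207 c) (Btab_s_207_210 c) (Nat.ble 207 c)
noncomputable def Btab_s_201_210 (c : Nat) : Nat := @Bool.rec (fun _ => Nat) (Btab_s_201_205 c) (Btab_s_205_210 c) (Nat.ble 205 c)
noncomputable def Btab_s_192_210 (c : Nat) : Nat := @Bool.rec (fun _ => Nat) (Btab_s_192_201 c) (Btab_s_201_210 c) (Nat.ble 201 c)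
noncomputable def Btab_s_175_210 (c : Nat) : Nat := @Bool.rec (fun _ => Nat) (Btab_s_175_192 c) (Btab_s_192_210 c) (Nat.ble 192 c)
noncomputable def Btab_s_140_210 (c : Nat) : Nat := @Bool.rec (fun _ => Nat) (Btab_s_140_175 c) (Btab_s_175_210 c) (Nat.ble 175 c)
noncomputable def Btab_s_210_212 (c : Nat) : Nat := @Bool.rec (fun _ => Nat) (Btab_210) (Btab_211) (Nat.ble 211 c)
noncomputable def Btab_s_212_214 (c : Nat) : Nat := @Bool.rec (fun _ => Nat) (Btab_212) (Btab_213) (Nat.ble 213 c)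
noncomputable def Btab_s_210_214 (c : Nat) : Nat := @Bool.rec (fun _ => Nat) (Btab_s_210_212 c) (Btab_s_212_214 c) (Nat.ble 212 c)
noncomputable def Btab_s_214_216 (c : Nat) : Nat := @Bool.rec (fun _ => Nat) (Btab_214) (Btab_215) (Nat.ble 215 c)
noncomputable def Btab_s_216_218 (c : Nat) : Nat := @Bool.rec (fun _ => Nat) (Btab_216) (Btab_217) (Nat.ble 217 c)
noncomputable def Btab_s_214_218 (c : Nat) : Nat := @Bool.rec (fun _ => Nat) (Btab_s_214_216 c) (Btab_s_216_218 c) (Nat.ble 216 c)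
noncomputable def Btab_s_210_218 (c : Nat) : Nat := @Bool.rec (fun _ => Nat) (Btab_s_210_214 c) (Btab_s_214_218 c) (Nat.ble 214 c)
noncomputable def Btab_s_218_220 (c : Nat) : Nat := @Bool.rec (fun _ => Nat) (Btab_218) (Btab_219) (Nat.ble 219 c)
noncomputable def Btab_s_220_222 (c : Nat) : Nat := @Bool.rec (fun _ => Nat) (Btab_220) (Btab_221) (Nat.ble 221 c)
noncomputable def Btab_s_218_222 (c : Nat) : Nat := @Bool.rec (fun _ => Nat) (Btab_s_218_220 c) (Btab_s_220_222 c) (Nat.ble 220 c)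
noncomputable def Btab_s_222_224 (c : Nat) : Nat := @Bool.rec (fun _ => Nat) (Btab_222) (Btab_223) (Nat.ble 223 c)
noncomputable def Btab_s_225_227 (c : Nat) : Nat := @Bool.rec (fun _ => Nat) (Btab_225) (Btab_226) (Nat.ble 226 c)
noncomputable def Btab_s_224_227 (c : Nat) : Nat := @Bool.rec (fun _ => Nat) (Btab_224) (Btab_s_225_227 c) (Nat.ble 225 c)
noncomputable def Btab_s_222_227 (c : Nat) : Nat := @Bool.rec (fun _ => Nat) (Btab_s_222_224 c) (Btab_s_224_227 c) (Nat.ble 224 c)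
noncomputable def Btab_s_218_227 (c : Nat) : Nat := @Bool.rec (fun _ => Nat) (Btab_s_218_222 c) (Btab_s_222_227 c) (Nat.ble 222 c)
noncomputable def Btab_s_210_227 (c : Nat) : Nat := @Bool.rec (fun _ => Nat) (Btab_s_210_218 c) (Btab_s_218_227 c) (Nat.ble 218 c)
noncomputable def Btab_s_227_229 (c : Nat) : Nat := @Bool.rec (fun _ => Nat) (Btab_227) (Btab_228) (Nat.ble 228 c)
noncomputable def Btab_s_229_231 (c : Nat) : Nat := @Bool.rec (fun _ => Nat) (Btab_229) (Btab_230) (Nat.ble 230 c)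
noncomputable def Btab_s_227_231 (c : Nat) : Nat := @Bool.rec (fun _ => Nat) (Btab_s_227_229 c) (Btab_s_229_231 c) (Nat.ble 229 c)
noncomputable def Btab_s_231_233 (c : Nat) : Nat := @Bool.rec (fun _ => Nat) (Btab_231) (Btab_232) (Nat.ble 232 c)
noncomputable def Btab_s_234_236 (c : Nat) : Nat := @Bool.rec (fun _ => Nat) (Btab_234) (Btab_235) (Nat.ble 235 c)
noncomputable def Btab_s_233_236 (c : Nat) : Nat := @Bool.rec (fun _ => Nat) (Btab_233) (Btab_s_234_236 c) (Nat.ble 234 c)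
noncomputable def Btab_s_231_236 (c : Nat) : Nat := @Bool.rec (fun _ => Nat) (Btab_s_231_233 c) (Btab_s_233_236 c) (Nat.ble 233 c)
noncomputable def Btab_s_227_236 (c : Nat) : Nat := @Bool.rec (fun _ => Nat) (Btab_s_227_231 c) (Btab_s_231_236 c) (Nat.ble 231 c)
noncomputable def Btab_s_236_238 (c : Nat) : Nat := @Bool.rec (fun _ => Nat) (Btab_236) (Btab_237) (Nat.ble 237 c)
noncomputable def Btab_s_238_240 (c : Nat) : Nat := @Bool.rec (fun _ => Nat) (Btab_238) (Btab_239) (Nat.ble 239 c)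
noncomputable def Btab_s_236_240 (c : Nat) : Nat := @Bool.rec (fun _ => Nat) (Btab_s_236_238 c) (Btab_s_238_240 c) (Nat.ble 238 c)
noncomputable def Btab_s_240_242 (c : Nat) : Nat := @Bool.rec (fun _ => Nat) (Btab_240) (Btab_241) (Nat.ble 241 c)
noncomputable def Btab_s_243_245 (c : Nat) : Nat := @Bool.rec (fun _ => Nat) (Btab_243) (Btab_244) (Nat.ble 244 c)
noncomputable def Btab_s_242_245 (c : Nat) : Nat := @Bool.rec (fun _ => Nat) (Btab_242) (Btab_s_243_245 c) (Nat.ble 243 c)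
noncomputable def Btab_s_240_245 (c : Nat) : Nat := @Bool.rec (fun _ => Nat) (Btab_s_240_242 c) (Btab_s_242_245 c) (Nat.ble 242 c)
noncomputable def Btab_s_236_245 (c : Nat) : Nat := @Bool.rec (fun _ => Nat) (Btab_s_236_240 c) (Btab_s_240_245 c) (Nat.ble 240 c)
noncomputable def Btab_s_227_245 (c : Nat) : Nat := @Bool.rec (fun _ => Nat) (Btab_s_227_236 c) (Btab_s_236_245 c) (Nat.ble 236 c)
noncomputable def Btab_s_210_245 (c : Nat) : Nat := @Bool.rec (fun _ => Nat) (Btab_s_210_227 c) (Btab_s_227_245 c) (Nat.ble 227 c)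
noncomputable def Btab_s_245_247 (c : Nat) : Nat := @Bool.rec (fun _ => Nat) (Btab_245) (Btab_246) (Nat.ble 246 c)
noncomputable def Btab_s_247_249 (c : Nat) : Nat := @Bool.rec (fun _ => Nat) (Btab_247) (Btab_248) (Nat.ble 248 c)
noncomputable def Btab_s_245_249 (c : Nat) : Nat := @Bool.rec (fun _ => Nat) (Btab_s_245_247 c) (Btab_s_247_249 c) (Nat.ble 247 c)
noncomputable def Btab_s_249_251 (c : Nat) : Nat := @Bool.rec (fun _ => Nat) (Btab_249) (Btab_250) (Nat.ble 250 c)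
noncomputable def Btab_s_252_254 (c : Nat) : Nat := @Bool.rec (fun _ => Nat) (Btab_252) (Btab_253) (Nat.ble 253 c)
noncomputable def Btab_s_251_254 (c : Nat) : Nat := @Bool.rec (fun _ => Nat) (Btab_251) (Btab_s_252_254 c) (Nat.ble 252 c)
noncomputable def Btab_s_249_254 (c : Nat) : Nat := @Bool.rec (fun _ => Nat) (Btab_s_249_251 c) (Btab_s_251_254 c) (Nat.ble 251 c)
noncomputable def Btab_s_245_254 (c : Nat) : Nat := @Bool.rec (fun _ => Nat) (Btab_s_245_249 c) (Btab_s_249_254 c) (Nat.ble 249 c)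
noncomputable def Btab_s_254_256 (c : Nat) : Nat := @Bool.rec (fun _ => Nat) (Btab_254) (Btab_255) (Nat.ble 255 c)
noncomputable def Btab_s_256_258 (c : Nat) : Nat := @Bool.rec (fun _ => Nat) (Btab_256) (Btab_257) (Nat.ble 257 c)
noncomputable def Btab_s_254_258 (c : Nat) : Nat := @Bool.rec (fun _ => Nat) (Btab_s_254_256 c) (Btab_s_256_258 c) (Nat.ble 256 c)
noncomputable def Btab_s_258_260 (c : Nat) : Nat := @Bool.rec (fun _ => Nat) (Btab_258) (Btab_259) (Nat.ble 259 c)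
noncomputable def Btab_s_261_263 (c : Nat) : Nat := @Bool.rec (fun _ => Nat) (Btab_261) (Btab_262) (Nat.ble 262 c)
noncomputable def Btab_s_260_263 (c : Nat) : Nat := @Bool.rec (fun _ => Nat) (Btab_260) (Btab_s_261_263 c) (Nat.ble 261 c)
noncomputable def Btab_s_258_263 (c : Nat) : Nat := @Bool.rec (fun _ => Nat) (Btab_s_258_260 c) (Btab_s_260_263 c) (Nat.ble 260 c)
noncomputable def Btab_s_254_263 (c : Nat) : Nat := @Bool.rec (fun _ => Nat) (Btab_s_254_258 c) (Btab_s_258_263 c) (Nat.ble 258 c)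
noncomputable def Btab_s_245_263 (c : Nat) : Nat := @Bool.rec (fun _ => Nat) (Btab_s_245_254 c) (Btab_s_254_263 c) (Nat.ble 254 c)
noncomputable def Btab_s_263_265 (c : Nat) : Nat := @Bool.rec (fun _ => Nat) (Btab_263) (Btab_264) (Nat.ble 264 c)
noncomputable def Btab_s_265_267 (c : Nat) : Nat := @Bool.rec (fun _ => Nat) (Btab_265) (Btab_266) (Nat.ble 266 c)
noncomputable def Btab_s_263_267 (c : Nat) : Nat := @Bool.rec (fun _ => Nat) (Btab_s_263_265 c) (Btab_s_265_267 c) (Nat.ble 265 c)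
noncomputable def Btab_s_267_269 (c : Nat) : Nat := @Bool.rec (fun _ => Nat) (Btab_267) (Btab_268) (Nat.ble 268 c)
noncomputable def Btab_s_270_272 (c : Nat) : Nat := @Bool.rec (fun _ => Nat) (Btab_270) (Btab_271) (Nat.ble 271 c)
noncomputable def Btab_s_269_272 (c : Nat) : Nat := @Bool.rec (fun _ => Nat) (Btab_269) (Btab_s_270_272 c) (Nat.ble 270 c)
noncomputable def Btab_s_267_272 (c : Nat) : Nat := @Bool.rec (fun _ => Nat) (Btab_s_267_269 c) (Btab_s_269_272 c) (Nat.ble 269 c)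
noncomputable def Btab_s_263_272 (c : Nat) : Nat := @Bool.rec (fun _ => Nat) (Btab_s_263_267 c) (Btab_s_267_272 c) (Nat.ble 267 c)
noncomputable def Btab_s_272_274 (c : Nat) : Nat := @Bool.rec (fun _ => Nat) (Btab_272) (Btab_273) (Nat.ble 273 c)
noncomputable def Btab_s_274_276 (c : Nat) : Nat := @Bool.rec (fun _ => Nat) (Btab_274) (Btab_275) (Nat.ble 275 c)
noncomputable def Btab_s_272_276 (c : Nat) : Nat := @Bool.rec (fun _ => Nat) (Btab_s_272_274 c) (Btab_s_274_276 c) (Nat.ble 274 c)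
noncomputable def Btab_s_276_278 (c : Nat) : Nat := @Bool.rec (fun _ => Nat) (Btab_276) (Btab_277) (Nat.ble 277 c)
noncomputable def Btab_s_279_281 (c : Nat) : Nat := @Bool.rec (fun _ => Nat) (Btab_279) (Btab_280) (Nat.ble 280 c)
noncomputable def Btab_s_278_281 (c : Nat) : Nat := @Bool.rec (fun _ => Nat) (Btab_278) (Btab_s_279_281 c) (Nat.ble 279 c)
noncomputable def Btab_s_276_281 (c : Nat) : Nat := @Bool.rec (fun _ => Nat) (Btab_s_276_278 c) (Btab_s_278_281 c) (Nat.ble 278 c)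
noncomputable def Btab_s_272_281 (c : Nat) : Nat := @Bool.rec (fun _ => Nat) (Btab_s_272_276 c) (Btab_s_276_281 c) (Nat.ble 276 c)
noncomputable def Btab_s_263_281 (c : Nat) : Nat := @Bool.rec (fun _ => Nat) (Btab_s_263_272 c) (Btab_s_272_281 c) (Nat.ble 272 c)
noncomputable def Btab_s_245_281 (c : Nat) : Nat := @Bool.rec (fun _ => Nat) (Btab_s_245_263 c) (Btab_s_263_281 c) (Nat.ble 263 c)
noncomputable def Btab_s_210_281 (c : Nat) : Nat := @Bool.rec (fun _ => Nat) (Btab_s_210_245 c) (Btab_s_245_281 c) (Nat.ble 245 c)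
noncomputable def Btab_s_140_281 (c : Nat) : Nat := @Bool.rec (fun _ => Nat) (Btab_s_140_210 c) (Btab_s_210_281 c) (Nat.ble 210 c)
noncomputable def Btab_s_0_281 (c : Nat) : Nat := @Bool.rec (fun _ => Nat) (Btab_s_0_140 c) (Btab_s_140_281 c) (Nat.ble 140 c)
noncomputable def Btab (i : Nat) : Nat := rdw 49 562949953421311 (Btab_s_0_281 (Nat.shiftRight i 10)) (Nat.land i 1023)
noncomputable def Ptab_s_1_3 (c : Nat) : Nat := @Bool.rec (fun _ => Nat) (Ptab_1) (Ptab_2) (Nat.ble 2 c)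
noncomputable def Ptab_s_0_3 (c : Nat) : Nat := @Bool.rec (fun _ => Nat) (Ptab_0) (Ptab_s_1_3 c) (Nat.ble 1 c)
noncomputable def Ptab_s_3_5 (c : Nat) : Nat := @Bool.rec (fun _ => Nat) (Ptab_3) (Ptab_4) (Nat.ble 4 c)
noncomputable def Ptab_s_5_7 (c : Nat) : Nat := @Bool.rec (fun _ => Nat) (Ptab_5) (Ptab_6) (Nat.ble 6 c)
noncomputable def Ptab_s_3_7 (c : Nat) : Nat := @Bool.rec (fun _ => Nat) (Ptab_s_3_5 c) (Ptab_s_5_7 c) (Nat.ble 5 c)
noncomputable def Ptab_s_0_7 (c : Nat) : Nat := @Bool.rec (fun _ => Nat) (Ptab_s_0_3 c) (Ptab_s_3_7 c) (Nat.ble 3 c)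
noncomputable def Ptab_s_8_10 (c : Nat) : Nat := @Bool.rec (fun _ => Nat) (Ptab_8) (Ptab_9) (Nat.ble 9 c)
noncomputable def Ptab_s_7_10 (c : Nat) : Nat := @Bool.rec (fun _ => Nat) (Ptab_7) (Ptab_s_8_10 c) (Nat.ble 8 c)
noncomputable def Ptab_s_10_12 (c : Nat) : Nat := @Bool.rec (fun _ => Nat) (Ptab_10) (Ptab_11) (Nat.ble 11 c)
noncomputable def Ptab_s_12_14 (c : Nat) : Nat := @Bool.rec (fun _ => Nat) (Ptab_12) (Ptab_13) (Nat.ble 13 c)
noncomputable def Ptab_s_10_14 (c : Nat) : Nat := @Bool.rec (fun _ => Nat) (Ptab_s_10_12 c) (Ptab_s_12_14 c) (Nat.ble 12 c)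
noncomputable def Ptab_s_7_14 (c : Nat) : Nat := @Bool.rec (fun _ => Nat) (Ptab_s_7_10 c) (Ptab_s_10_14 c) (Nat.ble 10 c)
noncomputable def Ptab_s_0_14 (c : Nat) : Nat := @Bool.rec (fun _ => Nat) (Ptab_s_0_7 c) (Ptab_s_7_14 c) (Nat.ble 7 c)
noncomputable def Ptab_s_15_17 (c : Nat) : Nat := @Bool.rec (fun _ => Nat) (Ptab_15) (Ptab_16) (Nat.ble 16 c)
noncomputable def Ptab_s_14_17 (c : Nat) : Nat := @Bool.rec (fun _ => Nat) (Ptab_14) (Ptab_s_15_17 c) (Nat.ble 15 c)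
noncomputable def Ptab_s_17_19 (c : Nat) : Nat := @Bool.rec (fun _ => Nat) (Ptab_17) (Ptab_18) (Nat.ble 18 c)
noncomputable def Ptab_s_19_21 (c : Nat) : Nat := @Bool.rec (fun _ => Nat) (Ptab_19) (Ptab_20) (Nat.ble 20 c)
noncomputable def Ptab_s_17_21 (c : Nat) : Nat := @Bool.rec (fun _ => Nat) (Ptab_s_17_19 c) (Ptab_s_19_21 c) (Nat.ble 19 c)
noncomputable def Ptab_s_14_21 (c : Nat) : Nat := @Bool.rec (fun _ => Nat) (Ptab_s_14_17 c) (Ptab_s_17_21 c) (Nat.ble 17 c)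
noncomputable def Ptab_s_22_24 (c : Nat) : Nat := @Bool.rec (fun _ => Nat) (Ptab_22) (Ptab_23) (Nat.ble 23 c)
noncomputable def Ptab_s_21_24 (c : Nat) : Nat := @Bool.rec (fun _ => Nat) (Ptab_21) (Ptab_s_22_24 c) (Nat.ble 22 c)
noncomputable def Ptab_s_24_26 (c : Nat) : Nat := @Bool.rec (fun _ => Nat) (Ptab_24) (Ptab_25) (Nat.ble 25 c)
noncomputable def Ptab_s_26_28 (c : Nat) : Nat := @Bool.rec (fun _ => Nat) (Ptab_26) (Ptab_27) (Nat.ble 27 c)
noncomputable def Ptab_s_24_28 (c : Nat) : Nat := @Bool.rec (fun _ => Nat) (Ptab_s_24_26 c) (Ptab_s_26_28 c) (Nat.ble 26 c)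
noncomputable def Ptab_s_21_28 (c : Nat) : Nat := @Bool.rec (fun _ => Nat) (Ptab_s_21_24 c) (Ptab_s_24_28 c) (Nat.ble 24 c)
noncomputable def Ptab_s_14_28 (c : Nat) : Nat := @Bool.rec (fun _ => Nat) (Ptab_s_14_21 c) (Ptab_s_21_28 c) (Nat.ble 21 c)
noncomputable def Ptab_s_0_28 (c : Nat) : Nat := @Bool.rec (fun _ => Nat) (Ptab_s_0_14 c) (Ptab_s_14_28 c) (Nat.ble 14 c)
noncomputable def Ptab_s_29_31 (c : Nat) : Nat := @Bool.rec (fun _ => Nat) (Ptab_29) (Ptab_30) (Nat.ble 30 c)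
noncomputable def Ptab_s_28_31 (c : Nat) : Nat := @Bool.rec (fun _ => Nat) (Ptab_28) (Ptab_s_29_31 c) (Nat.ble 29 c)
noncomputable def Ptab_s_31_33 (c : Nat) : Nat := @Bool.rec (fun _ => Nat) (Ptab_31) (Ptab_32) (Nat.ble 32 c)
noncomputable def Ptab_s_33_35 (c : Nat) : Nat := @Bool.rec (fun _ => Nat) (Ptab_33) (Ptab_34) (Nat.ble 34 c)
noncomputable def Ptab_s_31_35 (c : Nat) : Nat := @Bool.rec (fun _ => Nat) (Ptab_s_31_33 c) (Ptab_s_33_35 c) (Nat.ble 33 c)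
noncomputable def Ptab_s_28_35 (c : Nat) : Nat := @Bool.rec (fun _ => Nat) (Ptab_s_28_31 c) (Ptab_s_31_35 c) (Nat.ble 31 c)
noncomputable def Ptab_s_36_38 (c : Nat) : Nat := @Bool.rec (fun _ => Nat) (Ptab_36) (Ptab_37) (Nat.ble 37 c)
noncomputable def Ptab_s_35_38 (c : Nat) : Nat := @Bool.rec (fun _ => Nat) (Ptab_35) (Ptab_s_36_38 c) (Nat.ble 36 c)
noncomputable def Ptab_s_38_40 (c : Nat) : Nat := @Bool.rec (fun _ => Nat) (Ptab_38) (Ptab_39) (Nat.ble 39 c)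
noncomputable def Ptab_s_40_42 (c : Nat) : Nat := @Bool.rec (fun _ => Nat) (Ptab_40) (Ptab_41) (Nat.ble 41 c)
noncomputable def Ptab_s_38_42 (c : Nat) : Nat := @Bool.rec (fun _ => Nat) (Ptab_s_38_40 c) (Ptab_s_40_42 c) (Nat.ble 40 c)
noncomputable def Ptab_s_35_42 (c : Nat) : Nat := @Bool.rec (fun _ => Nat) (Ptab_s_35_38 c) (Ptab_s_38_42 c) (Nat.ble 38 c)
noncomputable def Ptab_s_28_42 (c : Nat) : Nat := @Bool.rec (fun _ => Nat) (Ptab_s_28_35 c) (Ptab_s_35_42 c) (Nat.ble 35 c)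
noncomputable def Ptab_s_43_45 (c : Nat) : Nat := @Bool.rec (fun _ => Nat) (Ptab_43) (Ptab_44) (Nat.ble 44 c)
noncomputable def Ptab_s_42_45 (c : Nat) : Nat := @Bool.rec (fun _ => Nat) (Ptab_42) (Ptab_s_43_45 c) (Nat.ble 43 c)
noncomputable def Ptab_s_45_47 (c : Nat) : Nat := @Bool.rec (fun _ => Nat) (Ptab_45) (Ptab_46) (Nat.ble 46 c)
noncomputable def Ptab_s_47_49 (c : Nat) : Nat := @Bool.rec (fun _ => Nat) (Ptab_47) (Ptab_48) (Nat.ble 48 c)
noncomputable def Ptab_s_45_49 (c : Nat) : Nat := @Bool.rec (fun _ => Nat) (Ptab_s_45_47 c) (Ptab_s_47_49 c) (Nat.ble 47 c)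
noncomputable def Ptab_s_42_49 (c : Nat) : Nat := @Bool.rec (fun _ => Nat) (Ptab_s_42_45 c) (Ptab_s_45_49 c) (Nat.ble 45 c)
noncomputable def Ptab_s_50_52 (c : Nat) : Nat := @Bool.rec (fun _ => Nat) (Ptab_50) (Ptab_51) (Nat.ble 51 c)
noncomputable def Ptab_s_49_52 (c : Nat) : Nat := @Bool.rec (fun _ => Nat) (Ptab_49) (Ptab_s_50_52 c) (Nat.ble 50 c)
noncomputable def Ptab_s_52_54 (c : Nat) : Nat := @Bool.rec (fun _ => Nat) (Ptab_52) (Ptab_53) (Nat.ble 53 c)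
noncomputable def Ptab_s_54_56 (c : Nat) : Nat := @Bool.rec (fun _ => Nat) (Ptab_54) (Ptab_55) (Nat.ble 55 c)
noncomputable def Ptab_s_52_56 (c : Nat) : Nat := @Bool.rec (fun _ => Nat) (Ptab_s_52_54 c) (Ptab_s_54_56 c) (Nat.ble 54 c)
noncomputable def Ptab_s_49_56 (c : Nat) : Nat := @Bool.rec (fun _ => Nat) (Ptab_s_49_52 c) (Ptab_s_52_56 c) (Nat.ble 52 c)
noncomputable def Ptab_s_42_56 (c : Nat) : Nat := @Bool.rec (fun _ => Nat) (Ptab_s_42_49 c) (Ptab_s_49_56 c) (Nat.ble 49 c)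
noncomputable def Ptab_s_28_56 (c : Nat) : Nat := @Bool.rec (fun _ => Nat) (Ptab_s_28_42 c) (Ptab_s_42_56 c) (Nat.ble 42 c)
noncomputable def Ptab_s_0_56 (c : Nat) : Nat := @Bool.rec (fun _ => Nat) (Ptab_s_0_28 c) (Ptab_s_28_56 c) (Nat.ble 28 c)
noncomputable def Ptab_s_57_59 (c : Nat) : Nat := @Bool.rec (fun _ => Nat) (Ptab_57) (Ptab_58) (Nat.ble 58 c)
noncomputable def Ptab_s_56_59 (c : Nat) : Nat := @Bool.rec (fun _ => Nat) (Ptab_56) (Ptab_s_57_59 c) (Nat.ble 57 c)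
noncomputable def Ptab_s_59_61 (c : Nat) : Nat := @Bool.rec (fun _ => Nat) (Ptab_59) (Ptab_60) (Nat.ble 60 c)
noncomputable def Ptab_s_61_63 (c : Nat) : Nat := @Bool.rec (fun _ => Nat) (Ptab_61) (Ptab_62) (Nat.ble 62 c)
noncomputable def Ptab_s_59_63 (c : Nat) : Nat := @Bool.rec (fun _ => Nat) (Ptab_s_59_61 c) (Ptab_s_61_63 c) (Nat.ble 61 c)
noncomputable def Ptab_s_56_63 (c : Nat) : Nat := @Bool.rec (fun _ => Nat) (Ptab_s_56_59 c) (Ptab_s_59_63 c) (Nat.ble 59 c)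
noncomputable def Ptab_s_64_66 (c : Nat) : Nat := @Bool.rec (fun _ => Nat) (Ptab_64) (Ptab_65) (Nat.ble 65 c)
noncomputable def Ptab_s_63_66 (c : Nat) : Nat := @Bool.rec (fun _ => Nat) (Ptab_63) (Ptab_s_64_66 c) (Nat.ble 64 c)
noncomputable def Ptab_s_66_68 (c : Nat) : Nat := @Bool.rec (fun _ => Nat) (Ptab_66) (Ptab_67) (Nat.ble 67 c)
noncomputable def Ptab_s_68_70 (c : Nat) : Nat := @Bool.rec (fun _ => Nat) (Ptab_68) (Ptab_69) (Nat.ble 69 c)
noncomputable def Ptab_s_66_70 (c : Nat) : Nat := @Bool.rec (fun _ => Nat) (Ptab_s_66_68 c) (Ptab_s_68_70 c) (Nat.ble 68 c)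
noncomputable def Ptab_s_63_70 (c : Nat) : Nat := @Bool.rec (fun _ => Nat) (Ptab_s_63_66 c) (Ptab_s_66_70 c) (Nat.ble 66 c)
noncomputable def Ptab_s_56_70 (c : Nat) : Nat := @Bool.rec (fun _ => Nat) (Ptab_s_56_63 c) (Ptab_s_63_70 c) (Nat.ble 63 c)
noncomputable def Ptab_s_71_73 (c : Nat) : Nat := @Bool.rec (fun _ => Nat) (Ptab_71) (Ptab_72) (Nat.ble 72 c)
noncomputable def Ptab_s_70_73 (c : Nat) : Nat := @Bool.rec (fun _ => Nat) (Ptab_70) (Ptab_s_71_73 c) (Nat.ble 71 c)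
noncomputable def Ptab_s_73_75 (c : Nat) : Nat := @Bool.rec (fun _ => Nat) (Ptab_73) (Ptab_74) (Nat.ble 74 c)
noncomputable def Ptab_s_75_77 (c : Nat) : Nat := @Bool.rec (fun _ => Nat) (Ptab_75) (Ptab_76) (Nat.ble 76 c)
noncomputable def Ptab_s_73_77 (c : Nat) : Nat := @Bool.rec (fun _ => Nat) (Ptab_s_73_75 c) (Ptab_s_75_77 c) (Nat.ble 75 c)
noncomputable def Ptab_s_70_77 (c : Nat) : Nat := @Bool.rec (fun _ => Nat) (Ptab_s_70_73 c) (Ptab_s_73_77 c) (Nat.ble 73 c)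
noncomputable def Ptab_s_78_80 (c : Nat) : Nat := @Bool.rec (fun _ => Nat) (Ptab_78) (Ptab_79) (Nat.ble 79 c)
noncomputable def Ptab_s_77_80 (c : Nat) : Nat := @Bool.rec (fun _ => Nat) (Ptab_77) (Ptab_s_78_80 c) (Nat.ble 78 c)
noncomputable def Ptab_s_80_82 (c : Nat) : Nat := @Bool.rec (fun _ => Nat) (Ptab_80) (Ptab_81) (Nat.ble 81 c)
noncomputable def Ptab_s_82_84 (c : Nat) : Nat := @Bool.rec (fun _ => Nat) (Ptab_82) (Ptab_83) (Nat.ble 83 c)
noncomputable def Ptab_s_80_84 (c : Nat) : Nat := @Bool.rec (fun _ => Nat) (Ptab_s_80_82 c) (Ptab_s_82_84 c) (Nat.ble 82 c)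
noncomputable def Ptab_s_77_84 (c : Nat) : Nat := @Bool.rec (fun _ => Nat) (Ptab_s_77_80 c) (Ptab_s_80_84 c) (Nat.ble 80 c)
noncomputable def Ptab_s_70_84 (c : Nat) : Nat := @Bool.rec (fun _ => Nat) (Ptab_s_70_77 c) (Ptab_s_77_84 c) (Nat.ble 77 c)
noncomputable def Ptab_s_56_84 (c : Nat) : Nat := @Bool.rec (fun _ => Nat) (Ptab_s_56_70 c) (Ptab_s_70_84 c) (Nat.ble 70 c)
noncomputable def Ptab_s_85_87 (c : Nat) : Nat := @Bool.rec (fun _ => Nat) (Ptab_85) (Ptab_86) (Nat.ble 86 c)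
noncomputable def Ptab_s_84_87 (c : Nat) : Nat := @Bool.rec (fun _ => Nat) (Ptab_84) (Ptab_s_85_87 c) (Nat.ble 85 c)
noncomputable def Ptab_s_87_89 (c : Nat) : Nat := @Bool.rec (fun _ => Nat) (Ptab_87) (Ptab_88) (Nat.ble 88 c)
noncomputable def Ptab_s_89_91 (c : Nat) : Nat := @Bool.rec (fun _ => Nat) (Ptab_89) (Ptab_90) (Nat.ble 90 c)
noncomputable def Ptab_s_87_91 (c : Nat) : Nat := @Bool.rec (fun _ => Nat) (Ptab_s_87_89 c) (Ptab_s_89_91 c) (Nat.ble 89 c)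
noncomputable def Ptab_s_84_91 (c : Nat) : Nat := @Bool.rec (fun _ => Nat) (Ptab_s_84_87 c) (Ptab_s_87_91 c) (Nat.ble 87 c)
noncomputable def Ptab_s_92_94 (c : Nat) : Nat := @Bool.rec (fun _ => Nat) (Ptab_92) (Ptab_93) (Nat.ble 93 c)
noncomputable def Ptab_s_91_94 (c : Nat) : Nat := @Bool.rec (fun _ => Nat) (Ptab_91) (Ptab_s_92_94 c) (Nat.ble 92 c)
noncomputable def Ptab_s_94_96 (c : Nat) : Nat := @Bool.rec (fun _ => Nat) (Ptab_94) (Ptab_95) (Nat.ble 95 c)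
noncomputable def Ptab_s_96_98 (c : Nat) : Nat := @Bool.rec (fun _ => Nat) (Ptab_96) (Ptab_97) (Nat.ble 97 c)
noncomputable def Ptab_s_94_98 (c : Nat) : Nat := @Bool.rec (fun _ => Nat) (Ptab_s_94_96 c) (Ptab_s_96_98 c) (Nat.ble 96 c)
noncomputable def Ptab_s_91_98 (c : Nat) : Nat := @Bool.rec (fun _ => Nat) (Ptab_s_91_94 c) (Ptab_s_94_98 c) (Nat.ble 94 c)
noncomputable def Ptab_s_84_98 (c : Nat) : Nat := @Bool.rec (fun _ => Nat) (Ptab_s_84_91 c) (Ptab_s_91_98 c) (Nat.ble 91 c)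
noncomputable def Ptab_s_99_101 (c : Nat) : Nat := @Bool.rec (fun _ => Nat) (Ptab_99) (Ptab_100) (Nat.ble 100 c)
noncomputable def Ptab_s_98_101 (c : Nat) : Nat := @Bool.rec (fun _ => Nat) (Ptab_98) (Ptab_s_99_101 c) (Nat.ble 99 c)
noncomputable def Ptab_s_101_103 (c : Nat) : Nat := @Bool.rec (fun _ => Nat) (Ptab_101) (Ptab_102) (Nat.ble 102 c)
noncomputable def Ptab_s_103_105 (c : Nat) : Nat := @Bool.rec (fun _ => Nat) (Ptab_103) (Ptab_104) (Nat.ble 104 c)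
noncomputable def Ptab_s_101_105 (c : Nat) : Nat := @Bool.rec (fun _ => Nat) (Ptab_s_101_103 c) (Ptab_s_103_105 c) (Nat.ble 103 c)
noncomputable def Ptab_s_98_105 (c : Nat) : Nat := @Bool.rec (fun _ => Nat) (Ptab_s_98_101 c) (Ptab_s_101_105 c) (Nat.ble 101 c)
noncomputable def Ptab_s_106_108 (c : Nat) : Nat := @Bool.rec (fun _ => Nat) (Ptab_106) (Ptab_107) (Nat.ble 107 c)
noncomputable def Ptab_s_105_108 (c : Nat) : Nat := @Bool.rec (fun _ => Nat) (Ptab_105) (Ptab_s_106_108 c) (Nat.ble 106 c)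
noncomputable def Ptab_s_108_110 (c : Nat) : Nat := @Bool.rec (fun _ => Nat) (Ptab_108) (Ptab_109) (Nat.ble 109 c)
noncomputable def Ptab_s_110_112 (c : Nat) : Nat := @Bool.rec (fun _ => Nat) (Ptab_110) (Ptab_111) (Nat.ble 111 c)
noncomputable def Ptab_s_108_112 (c : Nat) : Nat := @Bool.rec (fun _ => Nat) (Ptab_s_108_110 c) (Ptab_s_110_112 c) (Nat.ble 110 c)
noncomputable def Ptab_s_105_112 (c : Nat) : Nat := @Bool.rec (fun _ => Nat) (Ptab_s_105_108 c) (Ptab_s_108_112 c) (Nat.ble 108 c)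
noncomputable def Ptab_s_98_112 (c : Nat) : Nat := @Bool.rec (fun _ => Nat) (Ptab_s_98_105 c) (Ptab_s_105_112 c) (Nat.ble 105 c)
noncomputable def Ptab_s_84_112 (c : Nat) : Nat := @Bool.rec (fun _ => Nat) (Ptab_s_84_98 c) (Ptab_s_98_112 c) (Nat.ble 98 c)
noncomputable def Ptab_s_56_112 (c : Nat) : Nat := @Bool.rec (fun _ => Nat) (Ptab_s_56_84 c) (Ptab_s_84_112 c) (Nat.ble 84 c)
noncomputable def Ptab_s_0_112 (c : Nat) : Nat := @Bool.rec (fun _ => Nat) (Ptab_s_0_56 c) (Ptab_s_56_112 c) (Nat.ble 56 c)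
noncomputable def Ptab_s_113_115 (c : Nat) : Nat := @Bool.rec (fun _ => Nat) (Ptab_113) (Ptab_114) (Nat.ble 114 c)
noncomputable def Ptab_s_112_115 (c : Nat) : Nat := @Bool.rec (fun _ => Nat) (Ptab_112) (Ptab_s_113_115 c) (Nat.ble 113 c)
noncomputable def Ptab_s_115_117 (c : Nat) : Nat := @Bool.rec (fun _ => Nat) (Ptab_115) (Ptab_116) (Nat.ble 116 c)
noncomputable def Ptab_s_117_119 (c : Nat) : Nat := @Bool.rec (fun _ => Nat) (Ptab_117) (Ptab_118) (Nat.ble 118 c)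
noncomputable def Ptab_s_115_119 (c : Nat) : Nat := @Bool.rec (fun _ => Nat) (Ptab_s_115_117 c) (Ptab_s_117_119 c) (Nat.ble 117 c)
noncomputable def Ptab_s_112_119 (c : Nat) : Nat := @Bool.rec (fun _ => Nat) (Ptab_s_112_115 c) (Ptab_s_115_119 c) (Nat.ble 115 c)
noncomputable def Ptab_s_120_122 (c : Nat) : Nat := @Bool.rec (fun _ => Nat) (Ptab_120) (Ptab_121) (Nat.ble 121 c)
noncomputable def Ptab_s_119_122 (c : Nat) : Nat := @Bool.rec (fun _ => Nat) (Ptab_119) (Ptab_s_120_122 c) (Nat.ble 120 c)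
noncomputable def Ptab_s_122_124 (c : Nat) : Nat := @Bool.rec (fun _ => Nat) (Ptab_122) (Ptab_123) (Nat.ble 123 c)
noncomputable def Ptab_s_124_126 (c : Nat) : Nat := @Bool.rec (fun _ => Nat) (Ptab_124) (Ptab_125) (Nat.ble 125 c)
noncomputable def Ptab_s_122_126 (c : Nat) : Nat := @Bool.rec (fun _ => Nat) (Ptab_s_122_124 c) (Ptab_s_124_126 c) (Nat.ble 124 c)
noncomputable def Ptab_s_119_126 (c : Nat) : Nat := @Bool.rec (fun _ => Nat) (Ptab_s_119_122 c) (Ptab_s_122_126 c) (Nat.ble 122 c)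
noncomputable def Ptab_s_112_126 (c : Nat) : Nat := @Bool.rec (fun _ => Nat) (Ptab_s_112_119 c) (Ptab_s_119_126 c) (Nat.ble 119 c)
noncomputable def Ptab_s_127_129 (c : Nat) : Nat := @Bool.rec (fun _ => Nat) (Ptab_127) (Ptab_128) (Nat.ble 128 c)
noncomputable def Ptab_s_126_129 (c : Nat) : Nat := @Bool.rec (fun _ => Nat) (Ptab_126) (Ptab_s_127_129 c) (Nat.ble 127 c)
noncomputable def Ptab_s_129_131 (c : Nat) : Nat := @Bool.rec (fun _ => Nat) (Ptab_129) (Ptab_130) (Nat.ble 130 c)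
noncomputable def Ptab_s_131_133 (c : Nat) : Nat := @Bool.rec (fun _ => Nat) (Ptab_131) (Ptab_132) (Nat.ble 132 c)
noncomputable def Ptab_s_129_133 (c : Nat) : Nat := @Bool.rec (fun _ => Nat) (Ptab_s_129_131 c) (Ptab_s_131_133 c) (Nat.ble 131 c)
noncomputable def Ptab_s_126_133 (c : Nat) : Nat := @Bool.rec (fun _ => Nat) (Ptab_s_126_129 c) (Ptab_s_129_133 c) (Nat.ble 129 c)
noncomputable def Ptab_s_134_136 (c : Nat) : Nat := @Bool.rec (fun _ => Nat) (Ptab_134) (Ptab_135) (Nat.ble 135 c)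
noncomputable def Ptab_s_133_136 (c : Nat) : Nat := @Bool.rec (fun _ => Nat) (Ptab_133) (Ptab_s_134_136 c) (Nat.ble 134 c)
noncomputable def Ptab_s_136_138 (c : Nat) : Nat := @Bool.rec (fun _ => Nat) (Ptab_136) (Ptab_137) (Nat.ble 137 c)
noncomputable def Ptab_s_138_140 (c : Nat) : Nat := @Bool.rec (fun _ => Nat) (Ptab_138) (Ptab_139) (Nat.ble 139 c)
noncomputable def Ptab_s_136_140 (c : Nat) : Nat := @Bool.rec (fun _ => Nat) (Ptab_s_136_138 c) (Ptab_s_138_140 c) (Nat.ble 138 c)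
noncomputable def Ptab_s_133_140 (c : Nat) : Nat := @Bool.rec (fun _ => Nat) (Ptab_s_133_136 c) (Ptab_s_136_140 c) (Nat.ble 136 c)
noncomputable def Ptab_s_126_140 (c : Nat) : Nat := @Bool.rec (fun _ => Nat) (Ptab_s_126_133 c) (Ptab_s_133_140 c) (Nat.ble 133 c)
noncomputable def Ptab_s_112_140 (c : Nat) : Nat := @Bool.rec (fun _ => Nat) (Ptab_s_112_126 c) (Ptab_s_126_140 c) (Nat.ble 126 c)
noncomputable def Ptab_s_141_143 (c : Nat) : Nat := @Bool.rec (fun _ => Nat) (Ptab_141) (Ptab_142) (Nat.ble 142 c)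
noncomputable def Ptab_s_140_143 (c : Nat) : Nat := @Bool.rec (fun _ => Nat) (Ptab_140) (Ptab_s_141_143 c) (Nat.ble 141 c)
noncomputable def Ptab_s_143_145 (c : Nat) : Nat := @Bool.rec (fun _ => Nat) (Ptab_143) (Ptab_144) (Nat.ble 144 c)
noncomputable def Ptab_s_145_147 (c : Nat) : Nat := @Bool.rec (fun _ => Nat) (Ptab_145) (Ptab_146) (Nat.ble 146 c)
noncomputable def Ptab_s_143_147 (c : Nat) : Nat := @Bool.rec (fun _ => Nat) (Ptab_s_143_145 c) (Ptab_s_145_147 c) (Nat.ble 145 c)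
noncomputable def Ptab_s_140_147 (c : Nat) : Nat := @Bool.rec (fun _ => Nat) (Ptab_s_140_143 c) (Ptab_s_143_147 c) (Nat.ble 143 c)
noncomputable def Ptab_s_148_150 (c : Nat) : Nat := @Bool.rec (fun _ => Nat) (Ptab_148) (Ptab_149) (Nat.ble 149 c)
noncomputable def Ptab_s_147_150 (c : Nat) : Nat := @Bool.rec (fun _ => Nat) (Ptab_147) (Ptab_s_148_150 c) (Nat.ble 148 c)
noncomputable def Ptab_s_150_152 (c : Nat) : Nat := @Bool.rec (fun _ => Nat) (Ptab_150) (Ptab_151) (Nat.ble 151 c)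
noncomputable def Ptab_s_152_154 (c : Nat) : Nat := @Bool.rec (fun _ => Nat) (Ptab_152) (Ptab_153) (Nat.ble 153 c)
noncomputable def Ptab_s_150_154 (c : Nat) : Nat := @Bool.rec (fun _ => Nat) (Ptab_s_150_152 c) (Ptab_s_152_154 c) (Nat.ble 152 c)
noncomputable def Ptab_s_147_154 (c : Nat) : Nat := @Bool.rec (fun _ => Nat) (Ptab_s_147_150 c) (Ptab_s_150_154 c) (Nat.ble 150 c)
noncomputable def Ptab_s_140_154 (c : Nat) : Nat := @Bool.rec (fun _ => Nat) (Ptab_s_140_147 c) (Ptab_s_147_154 c) (Nat.ble 147 c)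
noncomputable def Ptab_s_155_157 (c : Nat) : Nat := @Bool.rec (fun _ => Nat) (Ptab_155) (Ptab_156) (Nat.ble 156 c)
noncomputable def Ptab_s_154_157 (c : Nat) : Nat := @Bool.rec (fun _ => Nat) (Ptab_154) (Ptab_s_155_157 c) (Nat.ble 155 c)
noncomputable def Ptab_s_157_159 (c : Nat) : Nat := @Bool.rec (fun _ => Nat) (Ptab_157) (Ptab_158) (Nat.ble 158 c)
noncomputable def Ptab_s_159_161 (c : Nat) : Nat := @Bool.rec (fun _ => Nat) (Ptab_159) (Ptab_160) (Nat.ble 160 c)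
noncomputable def Ptab_s_157_161 (c : Nat) : Nat := @Bool.rec (fun _ => Nat) (Ptab_s_157_159 c) (Ptab_s_159_161 c) (Nat.ble 159 c)
noncomputable def Ptab_s_154_161 (c : Nat) : Nat := @Bool.rec (fun _ => Nat) (Ptab_s_154_157 c) (Ptab_s_157_161 c) (Nat.ble 157 c)
noncomputable def Ptab_s_162_164 (c : Nat) : Nat := @Bool.rec (fun _ => Nat) (Ptab_162) (Ptab_163) (Nat.ble 163 c)
noncomputable def Ptab_s_161_164 (c : Nat) : Nat := @Bool.rec (fun _ => Nat) (Ptab_161) (Ptab_s_162_164 c) (Nat.ble 162 c)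
noncomputable def Ptab_s_164_166 (c : Nat) : Nat := @Bool.rec (fun _ => Nat) (Ptab_164) (Ptab_165) (Nat.ble 165 c)
noncomputable def Ptab_s_166_168 (c : Nat) : Nat := @Bool.rec (fun _ => Nat) (Ptab_166) (Ptab_167) (Nat.ble 167 c)
noncomputable def Ptab_s_164_168 (c : Nat) : Nat := @Bool.rec (fun _ => Nat) (Ptab_s_164_166 c) (Ptab_s_166_168 c) (Nat.ble 166 c)
noncomputable def Ptab_s_161_168 (c : Nat) : Nat := @Bool.rec (fun _ => Nat) (Ptab_s_161_164 c) (Ptab_s_164_168 c) (Nat.ble 164 c)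
noncomputable def Ptab_s_154_168 (c : Nat) : Nat := @Bool.rec (fun _ => Nat) (Ptab_s_154_161 c) (Ptab_s_161_168 c) (Nat.ble 161 c)
noncomputable def Ptab_s_140_168 (c : Nat) : Nat := @Bool.rec (fun _ => Nat) (Ptab_s_140_154 c) (Ptab_s_154_168 c) (Nat.ble 154 c)
noncomputable def Ptab_s_112_168 (c : Nat) : Nat := @Bool.rec (fun _ => Nat) (Ptab_s_112_140 c) (Ptab_s_140_168 c) (Nat.ble 140 c)
noncomputable def Ptab_s_169_171 (c : Nat) : Nat := @Bool.rec (fun _ => Nat) (Ptab_169) (Ptab_170) (Nat.ble 170 c)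
noncomputable def Ptab_s_168_171 (c : Nat) : Nat := @Bool.rec (fun _ => Nat) (Ptab_168) (Ptab_s_169_171 c) (Nat.ble 169 c)
noncomputable def Ptab_s_171_173 (c : Nat) : Nat := @Bool.rec (fun _ => Nat) (Ptab_171) (Ptab_172) (Nat.ble 172 c)
noncomputable def Ptab_s_173_175 (c : Nat) : Nat := @Bool.rec (fun _ => Nat) (Ptab_173) (Ptab_174) (Nat.ble 174 c)
noncomputable def Ptab_s_171_175 (c : Nat) : Nat := @Bool.rec (fun _ => Nat) (Ptab_s_171_173 c) (Ptab_s_173_175 c) (Nat.ble 173 c)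
noncomputable def Ptab_s_168_175 (c : Nat) : Nat := @Bool.rec (fun _ => Nat) (Ptab_s_168_171 c) (Ptab_s_171_175 c) (Nat.ble 171 c)
noncomputable def Ptab_s_176_178 (c : Nat) : Nat := @Bool.rec (fun _ => Nat) (Ptab_176) (Ptab_177) (Nat.ble 177 c)
noncomputable def Ptab_s_175_178 (c : Nat) : Nat := @Bool.rec (fun _ => Nat) (Ptab_175) (Ptab_s_176_178 c) (Nat.ble 176 c)
noncomputable def Ptab_s_178_180 (c : Nat) : Nat := @Bool.rec (fun _ => Nat) (Ptab_178) (Ptab_179) (Nat.ble 179 c)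
noncomputable def Ptab_s_180_182 (c : Nat) : Nat := @Bool.rec (fun _ => Nat) (Ptab_180) (Ptab_181) (Nat.ble 181 c)
noncomputable def Ptab_s_178_182 (c : Nat) : Nat := @Bool.rec (fun _ => Nat) (Ptab_s_178_180 c) (Ptab_s_180_182 c) (Nat.ble 180 c)
noncomputable def Ptab_s_175_182 (c : Nat) : Nat := @Bool.rec (fun _ => Nat) (Ptab_s_175_178 c) (Ptab_s_178_182 c) (Nat.ble 178 c)
noncomputable def Ptab_s_168_182 (c : Nat) : Nat := @Bool.rec (fun _ => Nat) (Ptab_s_168_175 c) (Ptab_s_175_182 c) (Nat.ble 175 c)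
noncomputable def Ptab_s_183_185 (c : Nat) : Nat := @Bool.rec (fun _ => Nat) (Ptab_183) (Ptab_184) (Nat.ble 184 c)
noncomputable def Ptab_s_182_185 (c : Nat) : Nat := @Bool.rec (fun _ => Nat) (Ptab_182) (Ptab_s_183_185 c) (Nat.ble 183 c)
noncomputable def Ptab_s_185_187 (c : Nat) : Nat := @Bool.rec (fun _ => Nat) (Ptab_185) (Ptab_186) (Nat.ble 186 c)
noncomputable def Ptab_s_187_189 (c : Nat) : Nat := @Bool.rec (fun _ => Nat) (Ptab_187) (Ptab_188) (Nat.ble 188 c)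
noncomputable def Ptab_s_185_189 (c : Nat) : Nat := @Bool.rec (fun _ => Nat) (Ptab_s_185_187 c) (Ptab_s_187_189 c) (Nat.ble 187 c)
noncomputable def Ptab_s_182_189 (c : Nat) : Nat := @Bool.rec (fun _ => Nat) (Ptab_s_182_185 c) (Ptab_s_185_189 c) (Nat.ble 185 c)
noncomputable def Ptab_s_190_192 (c : Nat) : Nat := @Bool.rec (fun _ => Nat) (Ptab_190) (Ptab_191) (Nat.ble 191 c)
noncomputable def Ptab_s_189_192 (c : Nat) : Nat := @Bool.rec (fun _ => Nat) (Ptab_189) (Ptab_s_190_192 c) (Nat.ble 190 c)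
noncomputable def Ptab_s_192_194 (c : Nat) : Nat := @Bool.rec (fun _ => Nat) (Ptab_192) (Ptab_193) (Nat.ble 193 c)
noncomputable def Ptab_s_194_196 (c : Nat) : Nat := @Bool.rec (fun _ => Nat) (Ptab_194) (Ptab_195) (Nat.ble 195 c)
noncomputable def Ptab_s_192_196 (c : Nat) : Nat := @Bool.rec (fun _ => Nat) (Ptab_s_192_194 c) (Ptab_s_194_196 c) (Nat.ble 194 c)
noncomputable def Ptab_s_189_196 (c : Nat) : Nat := @Bool.rec (fun _ => Nat) (Ptab_s_189_192 c) (Ptab_s_192_196 c) (Nat.ble 192 c)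
noncomputable def Ptab_s_182_196 (c : Nat) : Nat := @Bool.rec (fun _ => Nat) (Ptab_s_182_189 c) (Ptab_s_189_196 c) (Nat.ble 189 c)
noncomputable def Ptab_s_168_196 (c : Nat) : Nat := @Bool.rec (fun _ => Nat) (Ptab_s_168_182 c) (Ptab_s_182_196 c) (Nat.ble 182 c)
noncomputable def Ptab_s_197_199 (c : Nat) : Nat := @Bool.rec (fun _ => Nat) (Ptab_197) (Ptab_198) (Nat.ble 198 c)
noncomputable def Ptab_s_196_199 (c : Nat) : Nat := @Bool.rec (fun _ => Nat) (Ptab_196) (Ptab_s_197_199 c) (Nat.ble 197 c)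
noncomputable def Ptab_s_199_201 (c : Nat) : Nat := @Bool.rec (fun _ => Nat) (Ptab_199) (Ptab_200) (Nat.ble 200 c)
noncomputable def Ptab_s_201_203 (c : Nat) : Nat := @Bool.rec (fun _ => Nat) (Ptab_201) (Ptab_202) (Nat.ble 202 c)
noncomputable def Ptab_s_199_203 (c : Nat) : Nat := @Bool.rec (fun _ => Nat) (Ptab_s_199_201 c) (Ptab_s_201_203 c) (Nat.ble 201 c)
noncomputable def Ptab_s_196_203 (c : Nat) : Nat := @Bool.rec (fun _ => Nat) (Ptab_s_196_199 c) (Ptab_s_199_203 c) (Nat.ble 199 c)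
noncomputable def Ptab_s_204_206 (c : Nat) : Nat := @Bool.rec (fun _ => Nat) (Ptab_204) (Ptab_205) (Nat.ble 205 c)
noncomputable def Ptab_s_203_206 (c : Nat) : Nat := @Bool.rec (fun _ => Nat) (Ptab_203) (Ptab_s_204_206 c) (Nat.ble 204 c)
noncomputable def Ptab_s_206_208 (c : Nat) : Nat := @Bool.rec (fun _ => Nat) (Ptab_206) (Ptab_207) (Nat.ble 207 c)
noncomputable def Ptab_s_208_210 (c : Nat) : Nat := @Bool.rec (fun _ => Nat) (Ptab_208) (Ptab_209) (Nat.ble 209 c)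
noncomputable def Ptab_s_206_210 (c : Nat) : Nat := @Bool.rec (fun _ => Nat) (Ptab_s_206_208 c) (Ptab_s_208_210 c) (Nat.ble 208 c)
noncomputable def Ptab_s_203_210 (c : Nat) : Nat := @Bool.rec (fun _ => Nat) (Ptab_s_203_206 c) (Ptab_s_206_210 c) (Nat.ble 206 c)
noncomputable def Ptab_s_196_210 (c : Nat) : Nat := @Bool.rec (fun _ => Nat) (Ptab_s_196_203 c) (Ptab_s_203_210 c) (Nat.ble 203 c)
noncomputable def Ptab_s_211_213 (c : Nat) : Nat := @Bool.rec (fun _ => Nat) (Ptab_211) (Ptab_212) (Nat.ble 212 c)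
noncomputable def Ptab_s_210_213 (c : Nat) : Nat := @Bool.rec (fun _ => Nat) (Ptab_210) (Ptab_s_211_213 c) (Nat.ble 211 c)
noncomputable def Ptab_s_213_215 (c : Nat) : Nat := @Bool.rec (fun _ => Nat) (Ptab_213) (Ptab_214) (Nat.ble 214 c)
noncomputable def Ptab_s_215_217 (c : Nat) : Nat := @Bool.rec (fun _ => Nat) (Ptab_215) (Ptab_216) (Nat.ble 216 c)
noncomputable def Ptab_s_213_217 (c : Nat) : Nat := @Bool.rec (fun _ => Nat) (Ptab_s_213_215 c) (Ptab_s_215_217 c) (Nat.ble 215 c)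
noncomputable def Ptab_s_210_217 (c : Nat) : Nat := @Bool.rec (fun _ => Nat) (Ptab_s_210_213 c) (Ptab_s_213_217 c) (Nat.ble 213 c)
noncomputable def Ptab_s_218_220 (c : Nat) : Nat := @Bool.rec (fun _ => Nat) (Ptab_218) (Ptab_219) (Nat.ble 219 c)
noncomputable def Ptab_s_217_220 (c : Nat) : Nat := @Bool.rec (fun _ => Nat) (Ptab_217) (Ptab_s_218_220 c) (Nat.ble 218 c)
noncomputable def Ptab_s_220_222 (c : Nat) : Nat := @Bool.rec (fun _ => Nat) (Ptab_220) (Ptab_221) (Nat.ble 221 c)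
noncomputable def Ptab_s_222_224 (c : Nat) : Nat := @Bool.rec (fun _ => Nat) (Ptab_222) (Ptab_223) (Nat.ble 223 c)
noncomputable def Ptab_s_220_224 (c : Nat) : Nat := @Bool.rec (fun _ => Nat) (Ptab_s_220_222 c) (Ptab_s_222_224 c) (Nat.ble 222 c)
noncomputable def Ptab_s_217_224 (c : Nat) : Nat := @Bool.rec (fun _ => Nat) (Ptab_s_217_220 c) (Ptab_s_220_224 c) (Nat.ble 220 c)
noncomputable def Ptab_s_210_224 (c : Nat) : Nat := @Bool.rec (fun _ => Nat) (Ptab_s_210_217 c) (Ptab_s_217_224 c) (Nat.ble 217 c)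
noncomputable def Ptab_s_196_224 (c : Nat) : Nat := @Bool.rec (fun _ => Nat) (Ptab_s_196_210 c) (Ptab_s_210_224 c) (Nat.ble 210 c)
noncomputable def Ptab_s_168_224 (c : Nat) : Nat := @Bool.rec (fun _ => Nat) (Ptab_s_168_196 c) (Ptab_s_196_224 c) (Nat.ble 196 c)
noncomputable def Ptab_s_112_224 (c : Nat) : Nat := @Bool.rec (fun _ => Nat) (Ptab_s_112_168 c) (Ptab_s_168_224 c) (Nat.ble 168 c)
noncomputable def Ptab_s_0_224 (c : Nat) : Nat := @Bool.rec (fun _ => Nat) (Ptab_s_0_112 c) (Ptab_s_112_224 c) (Nat.ble 112 c)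
noncomputable def Ptab_s_225_227 (c : Nat) : Nat := @Bool.rec (fun _ => Nat) (Ptab_225) (Ptab_226) (Nat.ble 226 c)
noncomputable def Ptab_s_224_227 (c : Nat) : Nat := @Bool.rec (fun _ => Nat) (Ptab_224) (Ptab_s_225_227 c) (Nat.ble 225 c)
noncomputable def Ptab_s_227_229 (c : Nat) : Nat := @Bool.rec (fun _ => Nat) (Ptab_227) (Ptab_228) (Nat.ble 228 c)
noncomputable def Ptab_s_229_231 (c : Nat) : Nat := @Bool.rec (fun _ => Nat) (Ptab_229) (Ptab_230) (Nat.ble 230 c)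
noncomputable def Ptab_s_227_231 (c : Nat) : Nat := @Bool.rec (fun _ => Nat) (Ptab_s_227_229 c) (Ptab_s_229_231 c) (Nat.ble 229 c)
noncomputable def Ptab_s_224_231 (c : Nat) : Nat := @Bool.rec (fun _ => Nat) (Ptab_s_224_227 c) (Ptab_s_227_231 c) (Nat.ble 227 c)
noncomputable def Ptab_s_232_234 (c : Nat) : Nat := @Bool.rec (fun _ => Nat) (Ptab_232) (Ptab_233) (Nat.ble 233 c)
noncomputable def Ptab_s_231_234 (c : Nat) : Nat := @Bool.rec (fun _ => Nat) (Ptab_231) (Ptab_s_232_234 c) (Nat.ble 232 c)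
noncomputable def Ptab_s_234_236 (c : Nat) : Nat := @Bool.rec (fun _ => Nat) (Ptab_234) (Ptab_235) (Nat.ble 235 c)
noncomputable def Ptab_s_236_238 (c : Nat) : Nat := @Bool.rec (fun _ => Nat) (Ptab_236) (Ptab_237) (Nat.ble 237 c)
noncomputable def Ptab_s_234_238 (c : Nat) : Nat := @Bool.rec (fun _ => Nat) (Ptab_s_234_236 c) (Ptab_s_236_238 c) (Nat.ble 236 c)
noncomputable def Ptab_s_231_238 (c : Nat) : Nat := @Bool.rec (fun _ => Nat) (Ptab_s_231_234 c) (Ptab_s_234_238 c) (Nat.ble 234 c)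
noncomputable def Ptab_s_224_238 (c : Nat) : Nat := @Bool.rec (fun _ => Nat) (Ptab_s_224_231 c) (Ptab_s_231_238 c) (Nat.ble 231 c)
noncomputable def Ptab_s_239_241 (c : Nat) : Nat := @Bool.rec (fun _ => Nat) (Ptab_239) (Ptab_240) (Nat.ble 240 c)
noncomputable def Ptab_s_238_241 (c : Nat) : Nat := @Bool.rec (fun _ => Nat) (Ptab_238) (Ptab_s_239_241 c) (Nat.ble 239 c)
noncomputable def Ptab_s_241_243 (c : Nat) : Nat := @Bool.rec (fun _ => Nat) (Ptab_241) (Ptab_242) (Nat.ble 242 c)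
noncomputable def Ptab_s_243_245 (c : Nat) : Nat := @Bool.rec (fun _ => Nat) (Ptab_243) (Ptab_244) (Nat.ble 244 c)
noncomputable def Ptab_s_241_245 (c : Nat) : Nat := @Bool.rec (fun _ => Nat) (Ptab_s_241_243 c) (Ptab_s_243_245 c) (Nat.ble 243 c)
noncomputable def Ptab_s_238_245 (c : Nat) : Nat := @Bool.rec (fun _ => Nat) (Ptab_s_238_241 c) (Ptab_s_241_245 c) (Nat.ble 241 c)
noncomputable def Ptab_s_246_248 (c : Nat) : Nat := @Bool.rec (fun _ => Nat) (Ptab_246) (Ptab_247) (Nat.ble 247 c)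
noncomputable def Ptab_s_245_248 (c : Nat) : Nat := @Bool.rec (fun _ => Nat) (Ptab_245) (Ptab_s_246_248 c) (Nat.ble 246 c)
noncomputable def Ptab_s_248_250 (c : Nat) : Nat := @Bool.rec (fun _ => Nat) (Ptab_248) (Ptab_249) (Nat.ble 249 c)
noncomputable def Ptab_s_250_252 (c : Nat) : Nat := @Bool.rec (fun _ => Nat) (Ptab_250) (Ptab_251) (Nat.ble 251 c)
noncomputable def Ptab_s_248_252 (c : Nat) : Nat := @Bool.rec (fun _ => Nat) (Ptab_s_248_250 c) (Ptab_s_250_252 c) (Nat.ble 250 c)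
noncomputable def Ptab_s_245_252 (c : Nat) : Nat := @Bool.rec (fun _ => Nat) (Ptab_s_245_248 c) (Ptab_s_248_252 c) (Nat.ble 248 c)
noncomputable def Ptab_s_238_252 (c : Nat) : Nat := @Bool.rec (fun _ => Nat) (Ptab_s_238_245 c) (Ptab_s_245_252 c) (Nat.ble 245 c)
noncomputable def Ptab_s_224_252 (c : Nat) : Nat := @Bool.rec (fun _ => Nat) (Ptab_s_224_238 c) (Ptab_s_238_252 c) (Nat.ble 238 c)
noncomputable def Ptab_s_253_255 (c : Nat) : Nat := @Bool.rec (fun _ => Nat) (Ptab_253) (Ptab_254) (Nat.ble 254 c)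
noncomputable def Ptab_s_252_255 (c : Nat) : Nat := @Bool.rec (fun _ => Nat) (Ptab_252) (Ptab_s_253_255 c) (Nat.ble 253 c)
noncomputable def Ptab_s_255_257 (c : Nat) : Nat := @Bool.rec (fun _ => Nat) (Ptab_255) (Ptab_256) (Nat.ble 256 c)
noncomputable def Ptab_s_257_259 (c : Nat) : Nat := @Bool.rec (fun _ => Nat) (Ptab_257) (Ptab_258) (Nat.ble 258 c)
noncomputable def Ptab_s_255_259 (c : Nat) : Nat := @Bool.rec (fun _ => Nat) (Ptab_s_255_257 c) (Ptab_s_257_259 c) (Nat.ble 257 c)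
noncomputable def Ptab_s_252_259 (c : Nat) : Nat := @Bool.rec (fun _ => Nat) (Ptab_s_252_255 c) (Ptab_s_255_259 c) (Nat.ble 255 c)
noncomputable def Ptab_s_260_262 (c : Nat) : Nat := @Bool.rec (fun _ => Nat) (Ptab_260) (Ptab_261) (Nat.ble 261 c)
noncomputable def Ptab_s_259_262 (c : Nat) : Nat := @Bool.rec (fun _ => Nat) (Ptab_259) (Ptab_s_260_262 c) (Nat.ble 260 c)
noncomputable def Ptab_s_262_264 (c : Nat) : Nat := @Bool.rec (fun _ => Nat) (Ptab_262) (Ptab_263) (Nat.ble 263 c)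
noncomputable def Ptab_s_264_266 (c : Nat) : Nat := @Bool.rec (fun _ => Nat) (Ptab_264) (Ptab_265) (Nat.ble 265 c)
noncomputable def Ptab_s_262_266 (c : Nat) : Nat := @Bool.rec (fun _ => Nat) (Ptab_s_262_264 c) (Ptab_s_264_266 c) (Nat.ble 264 c)
noncomputable def Ptab_s_259_266 (c : Nat) : Nat := @Bool.rec (fun _ => Nat) (Ptab_s_259_262 c) (Ptab_s_262_266 c) (Nat.ble 262 c)
noncomputable def Ptab_s_252_266 (c : Nat) : Nat := @Bool.rec (fun _ => Nat) (Ptab_s_252_259 c) (Ptab_s_259_266 c) (Nat.ble 259 c)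
noncomputable def Ptab_s_267_269 (c : Nat) : Nat := @Bool.rec (fun _ => Nat) (Ptab_267) (Ptab_268) (Nat.ble 268 c)
noncomputable def Ptab_s_266_269 (c : Nat) : Nat := @Bool.rec (fun _ => Nat) (Ptab_266) (Ptab_s_267_269 c) (Nat.ble 267 c)
noncomputable def Ptab_s_269_271 (c : Nat) : Nat := @Bool.rec (fun _ => Nat) (Ptab_269) (Ptab_270) (Nat.ble 270 c)
noncomputable def Ptab_s_271_273 (c : Nat) : Nat := @Bool.rec (fun _ => Nat) (Ptab_271) (Ptab_272) (Nat.ble 272 c)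
noncomputable def Ptab_s_269_273 (c : Nat) : Nat := @Bool.rec (fun _ => Nat) (Ptab_s_269_271 c) (Ptab_s_271_273 c) (Nat.ble 271 c)
noncomputable def Ptab_s_266_273 (c : Nat) : Nat := @Bool.rec (fun _ => Nat) (Ptab_s_266_269 c) (Ptab_s_269_273 c) (Nat.ble 269 c)
noncomputable def Ptab_s_274_276 (c : Nat) : Nat := @Bool.rec (fun _ => Nat) (Ptab_274) (Ptab_275) (Nat.ble 275 c)
noncomputable def Ptab_s_273_276 (c : Nat) : Nat := @Bool.rec (fun _ => Nat) (Ptab_273) (Ptab_s_274_276 c) (Nat.ble 274 c)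
noncomputable def Ptab_s_276_278 (c : Nat) : Nat := @Bool.rec (fun _ => Nat) (Ptab_276) (Ptab_277) (Nat.ble 277 c)
noncomputable def Ptab_s_278_280 (c : Nat) : Nat := @Bool.rec (fun _ => Nat) (Ptab_278) (Ptab_279) (Nat.ble 279 c)
noncomputable def Ptab_s_276_280 (c : Nat) : Nat := @Bool.rec (fun _ => Nat) (Ptab_s_276_278 c) (Ptab_s_278_280 c) (Nat.ble 278 c)
noncomputable def Ptab_s_273_280 (c : Nat) : Nat := @Bool.rec (fun _ => Nat) (Ptab_s_273_276 c) (Ptab_s_276_280 c) (Nat.ble 276 c)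
noncomputable def Ptab_s_266_280 (c : Nat) : Nat := @Bool.rec (fun _ => Nat) (Ptab_s_266_273 c) (Ptab_s_273_280 c) (Nat.ble 273 c)
noncomputable def Ptab_s_252_280 (c : Nat) : Nat := @Bool.rec (fun _ => Nat) (Ptab_s_252_266 c) (Ptab_s_266_280 c) (Nat.ble 266 c)
noncomputable def Ptab_s_224_280 (c : Nat) : Nat := @Bool.rec (fun _ => Nat) (Ptab_s_224_252 c) (Ptab_s_252_280 c) (Nat.ble 252 c)
noncomputable def Ptab_s_281_283 (c : Nat) : Nat := @Bool.rec (fun _ => Nat) (Ptab_281) (Ptab_282) (Nat.ble 282 c)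
noncomputable def Ptab_s_280_283 (c : Nat) : Nat := @Bool.rec (fun _ => Nat) (Ptab_280) (Ptab_s_281_283 c) (Nat.ble 281 c)
noncomputable def Ptab_s_283_285 (c : Nat) : Nat := @Bool.rec (fun _ => Nat) (Ptab_283) (Ptab_284) (Nat.ble 284 c)
noncomputable def Ptab_s_285_287 (c : Nat) : Nat := @Bool.rec (fun _ => Nat) (Ptab_285) (Ptab_286) (Nat.ble 286 c)
noncomputable def Ptab_s_283_287 (c : Nat) : Nat := @Bool.rec (fun _ => Nat) (Ptab_s_283_285 c) (Ptab_s_285_287 c) (Nat.ble 285 c)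
noncomputable def Ptab_s_280_287 (c : Nat) : Nat := @Bool.rec (fun _ => Nat) (Ptab_s_280_283 c) (Ptab_s_283_287 c) (Nat.ble 283 c)
noncomputable def Ptab_s_288_290 (c : Nat) : Nat := @Bool.rec (fun _ => Nat) (Ptab_288) (Ptab_289) (Nat.ble 289 c)
noncomputable def Ptab_s_287_290 (c : Nat) : Nat := @Bool.rec (fun _ => Nat) (Ptab_287) (Ptab_s_288_290 c) (Nat.ble 288 c)
noncomputable def Ptab_s_290_292 (c : Nat) : Nat := @Bool.rec (fun _ => Nat) (Ptab_290) (Ptab_291) (Nat.ble 291 c)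
noncomputable def Ptab_s_292_294 (c : Nat) : Nat := @Bool.rec (fun _ => Nat) (Ptab_292) (Ptab_293) (Nat.ble 293 c)
noncomputable def Ptab_s_290_294 (c : Nat) : Nat := @Bool.rec (fun _ => Nat) (Ptab_s_290_292 c) (Ptab_s_292_294 c) (Nat.ble 292 c)
noncomputable def Ptab_s_287_294 (c : Nat) : Nat := @Bool.rec (fun _ => Nat) (Ptab_s_287_290 c) (Ptab_s_290_294 c) (Nat.ble 290 c)
noncomputable def Ptab_s_280_294 (c : Nat) : Nat := @Bool.rec (fun _ => Nat) (Ptab_s_280_287 c) (Ptab_s_287_294 c) (Nat.ble 287 c)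
noncomputable def Ptab_s_295_297 (c : Nat) : Nat := @Bool.rec (fun _ => Nat) (Ptab_295) (Ptab_296) (Nat.ble 296 c)
noncomputable def Ptab_s_294_297 (c : Nat) : Nat := @Bool.rec (fun _ => Nat) (Ptab_294) (Ptab_s_295_297 c) (Nat.ble 295 c)
noncomputable def Ptab_s_297_299 (c : Nat) : Nat := @Bool.rec (fun _ => Nat) (Ptab_297) (Ptab_298) (Nat.ble 298 c)
noncomputable def Ptab_s_299_301 (c : Nat) : Nat := @Bool.rec (fun _ => Nat) (Ptab_299) (Ptab_300) (Nat.ble 300 c)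
noncomputable def Ptab_s_297_301 (c : Nat) : Nat := @Bool.rec (fun _ => Nat) (Ptab_s_297_299 c) (Ptab_s_299_301 c) (Nat.ble 299 c)
noncomputable def Ptab_s_294_301 (c : Nat) : Nat := @Bool.rec (fun _ => Nat) (Ptab_s_294_297 c) (Ptab_s_297_301 c) (Nat.ble 297 c)
noncomputable def Ptab_s_302_304 (c : Nat) : Nat := @Bool.rec (fun _ => Nat) (Ptab_302) (Ptab_303) (Nat.ble 303 c)
noncomputable def Ptab_s_301_304 (c : Nat) : Nat := @Bool.rec (fun _ => Nat) (Ptab_301) (Ptab_s_302_304 c) (Nat.ble 302 c)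
noncomputable def Ptab_s_304_306 (c : Nat) : Nat := @Bool.rec (fun _ => Nat) (Ptab_304) (Ptab_305) (Nat.ble 305 c)
noncomputable def Ptab_s_306_308 (c : Nat) : Nat := @Bool.rec (fun _ => Nat) (Ptab_306) (Ptab_307) (Nat.ble 307 c)
noncomputable def Ptab_s_304_308 (c : Nat) : Nat := @Bool.rec (fun _ => Nat) (Ptab_s_304_306 c) (Ptab_s_306_308 c) (Nat.ble 306 c)
noncomputable def Ptab_s_301_308 (c : Nat) : Nat := @Bool.rec (fun _ => Nat) (Ptab_s_301_304 c) (Ptab_s_304_308 c) (Nat.ble 304 c)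
noncomputable def Ptab_s_294_308 (c : Nat) : Nat := @Bool.rec (fun _ => Nat) (Ptab_s_294_301 c) (Ptab_s_301_308 c) (Nat.ble 301 c)
noncomputable def Ptab_s_280_308 (c : Nat) : Nat := @Bool.rec (fun _ => Nat) (Ptab_s_280_294 c) (Ptab_s_294_308 c) (Nat.ble 294 c)
noncomputable def Ptab_s_309_311 (c : Nat) : Nat := @Bool.rec (fun _ => Nat) (Ptab_309) (Ptab_310) (Nat.ble 310 c)
noncomputable def Ptab_s_308_311 (c : Nat) : Nat := @Bool.rec (fun _ => Nat) (Ptab_308) (Ptab_s_309_311 c) (Nat.ble 309 c)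
noncomputable def Ptab_s_311_313 (c : Nat) : Nat := @Bool.rec (fun _ => Nat) (Ptab_311) (Ptab_312) (Nat.ble 312 c)
noncomputable def Ptab_s_313_315 (c : Nat) : Nat := @Bool.rec (fun _ => Nat) (Ptab_313) (Ptab_314) (Nat.ble 314 c)
noncomputable def Ptab_s_311_315 (c : Nat) : Nat := @Bool.rec (fun _ => Nat) (Ptab_s_311_313 c) (Ptab_s_313_315 c) (Nat.ble 313 c)
noncomputable def Ptab_s_308_315 (c : Nat) : Nat := @Bool.rec (fun _ => Nat) (Ptab_s_308_311 c) (Ptab_s_311_315 c) (Nat.ble 311 c)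
noncomputable def Ptab_s_316_318 (c : Nat) : Nat := @Bool.rec (fun _ => Nat) (Ptab_316) (Ptab_317) (Nat.ble 317 c)
noncomputable def Ptab_s_315_318 (c : Nat) : Nat := @Bool.rec (fun _ => Nat) (Ptab_315) (Ptab_s_316_318 c) (Nat.ble 316 c)
noncomputable def Ptab_s_318_320 (c : Nat) : Nat := @Bool.rec (fun _ => Nat) (Ptab_318) (Ptab_319) (Nat.ble 319 c)
noncomputable def Ptab_s_320_322 (c : Nat) : Nat := @Bool.rec (fun _ => Nat) (Ptab_320) (Ptab_321) (Nat.ble 321 c)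
noncomputable def Ptab_s_318_322 (c : Nat) : Nat := @Bool.rec (fun _ => Nat) (Ptab_s_318_320 c) (Ptab_s_320_322 c) (Nat.ble 320 c)
noncomputable def Ptab_s_315_322 (c : Nat) : Nat := @Bool.rec (fun _ => Nat) (Ptab_s_315_318 c) (Ptab_s_318_322 c) (Nat.ble 318 c)
noncomputable def Ptab_s_308_322 (c : Nat) : Nat := @Bool.rec (fun _ => Nat) (Ptab_s_308_315 c) (Ptab_s_315_322 c) (Nat.ble 315 c)
noncomputable def Ptab_s_323_325 (c : Nat) : Nat := @Bool.rec (fun _ => Nat) (Ptab_323) (Ptab_324) (Nat.ble 324 c)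
noncomputable def Ptab_s_322_325 (c : Nat) : Nat := @Bool.rec (fun _ => Nat) (Ptab_322) (Ptab_s_323_325 c) (Nat.ble 323 c)
noncomputable def Ptab_s_325_327 (c : Nat) : Nat := @Bool.rec (fun _ => Nat) (Ptab_325) (Ptab_326) (Nat.ble 326 c)
noncomputable def Ptab_s_327_329 (c : Nat) : Nat := @Bool.rec (fun _ => Nat) (Ptab_327) (Ptab_328) (Nat.ble 328 c)
noncomputable def Ptab_s_325_329 (c : Nat) : Nat := @Bool.rec (fun _ => Nat) (Ptab_s_325_327 c) (Ptab_s_327_329 c) (Nat.ble 327 c)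
noncomputable def Ptab_s_322_329 (c : Nat) : Nat := @Bool.rec (fun _ => Nat) (Ptab_s_322_325 c) (Ptab_s_325_329 c) (Nat.ble 325 c)
noncomputable def Ptab_s_330_332 (c : Nat) : Nat := @Bool.rec (fun _ => Nat) (Ptab_330) (Ptab_331) (Nat.ble 331 c)
noncomputable def Ptab_s_329_332 (c : Nat) : Nat := @Bool.rec (fun _ => Nat) (Ptab_329) (Ptab_s_330_332 c) (Nat.ble 330 c)
noncomputable def Ptab_s_332_334 (c : Nat) : Nat := @Bool.rec (fun _ => Nat) (Ptab_332) (Ptab_333) (Nat.ble 333 c)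
noncomputable def Ptab_s_334_336 (c : Nat) : Nat := @Bool.rec (fun _ => Nat) (Ptab_334) (Ptab_335) (Nat.ble 335 c)
noncomputable def Ptab_s_332_336 (c : Nat) : Nat := @Bool.rec (fun _ => Nat) (Ptab_s_332_334 c) (Ptab_s_334_336 c) (Nat.ble 334 c)
noncomputable def Ptab_s_329_336 (c : Nat) : Nat := @Bool.rec (fun _ => Nat) (Ptab_s_329_332 c) (Ptab_s_332_336 c) (Nat.ble 332 c)
noncomputable def Ptab_s_322_336 (c : Nat) : Nat := @Bool.rec (fun _ => Nat) (Ptab_s_322_329 c) (Ptab_s_329_336 c) (Nat.ble 329 c)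
noncomputable def Ptab_s_308_336 (c : Nat) : Nat := @Bool.rec (fun _ => Nat) (Ptab_s_308_322 c) (Ptab_s_322_336 c) (Nat.ble 322 c)
noncomputable def Ptab_s_280_336 (c : Nat) : Nat := @Bool.rec (fun _ => Nat) (Ptab_s_280_308 c) (Ptab_s_308_336 c) (Nat.ble 308 c)
noncomputable def Ptab_s_224_336 (c : Nat) : Nat := @Bool.rec (fun _ => Nat) (Ptab_s_224_280 c) (Ptab_s_280_336 c) (Nat.ble 280 c)
noncomputable def Ptab_s_337_339 (c : Nat) : Nat := @Bool.rec (fun _ => Nat) (Ptab_337) (Ptab_338) (Nat.ble 338 c)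
noncomputable def Ptab_s_336_339 (c : Nat) : Nat := @Bool.rec (fun _ => Nat) (Ptab_336) (Ptab_s_337_339 c) (Nat.ble 337 c)
noncomputable def Ptab_s_339_341 (c : Nat) : Nat := @Bool.rec (fun _ => Nat) (Ptab_339) (Ptab_340) (Nat.ble 340 c)
noncomputable def Ptab_s_341_343 (c : Nat) : Nat := @Bool.rec (fun _ => Nat) (Ptab_341) (Ptab_342) (Nat.ble 342 c)
noncomputable def Ptab_s_339_343 (c : Nat) : Nat := @Bool.rec (fun _ => Nat) (Ptab_s_339_341 c) (Ptab_s_341_343 c) (Nat.ble 341 c)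
noncomputable def Ptab_s_336_343 (c : Nat) : Nat := @Bool.rec (fun _ => Nat) (Ptab_s_336_339 c) (Ptab_s_339_343 c) (Nat.ble 339 c)
noncomputable def Ptab_s_344_346 (c : Nat) : Nat := @Bool.rec (fun _ => Nat) (Ptab_344) (Ptab_345) (Nat.ble 345 c)
noncomputable def Ptab_s_343_346 (c : Nat) : Nat := @Bool.rec (fun _ => Nat) (Ptab_343) (Ptab_s_344_346 c) (Nat.ble 344 c)
noncomputable def Ptab_s_346_348 (c : Nat) : Nat := @Bool.rec (fun _ => Nat) (Ptab_346) (Ptab_347) (Nat.ble 347 c)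
noncomputable def Ptab_s_348_350 (c : Nat) : Nat := @Bool.rec (fun _ => Nat) (Ptab_348) (Ptab_349) (Nat.ble 349 c)
noncomputable def Ptab_s_346_350 (c : Nat) : Nat := @Bool.rec (fun _ => Nat) (Ptab_s_346_348 c) (Ptab_s_348_350 c) (Nat.ble 348 c)
noncomputable def Ptab_s_343_350 (c : Nat) : Nat := @Bool.rec (fun _ => Nat) (Ptab_s_343_346 c) (Ptab_s_346_350 c) (Nat.ble 346 c)
noncomputable def Ptab_s_336_350 (c : Nat) : Nat := @Bool.rec (fun _ => Nat) (Ptab_s_336_343 c) (Ptab_s_343_350 c) (Nat.ble 343 c)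
noncomputable def Ptab_s_351_353 (c : Nat) : Nat := @Bool.rec (fun _ => Nat) (Ptab_351) (Ptab_352) (Nat.ble 352 c)
noncomputable def Ptab_s_350_353 (c : Nat) : Nat := @Bool.rec (fun _ => Nat) (Ptab_350) (Ptab_s_351_353 c) (Nat.ble 351 c)
noncomputable def Ptab_s_353_355 (c : Nat) : Nat := @Bool.rec (fun _ => Nat) (Ptab_353) (Ptab_354) (Nat.ble 354 c)
noncomputable def Ptab_s_355_357 (c : Nat) : Nat := @Bool.rec (fun _ => Nat) (Ptab_355) (Ptab_356) (Nat.ble 356 c)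
noncomputable def Ptab_s_353_357 (c : Nat) : Nat := @Bool.rec (fun _ => Nat) (Ptab_s_353_355 c) (Ptab_s_355_357 c) (Nat.ble 355 c)
noncomputable def Ptab_s_350_357 (c : Nat) : Nat := @Bool.rec (fun _ => Nat) (Ptab_s_350_353 c) (Ptab_s_353_357 c) (Nat.ble 353 c)
noncomputable def Ptab_s_358_360 (c : Nat) : Nat := @Bool.rec (fun _ => Nat) (Ptab_358) (Ptab_359) (Nat.ble 359 c)
noncomputable def Ptab_s_357_360 (c : Nat) : Nat := @Bool.rec (fun _ => Nat) (Ptab_357) (Ptab_s_358_360 c) (Nat.ble 358 c)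
noncomputable def Ptab_s_360_362 (c : Nat) : Nat := @Bool.rec (fun _ => Nat) (Ptab_360) (Ptab_361) (Nat.ble 361 c)
noncomputable def Ptab_s_362_364 (c : Nat) : Nat := @Bool.rec (fun _ => Nat) (Ptab_362) (Ptab_363) (Nat.ble 363 c)
noncomputable def Ptab_s_360_364 (c : Nat) : Nat := @Bool.rec (fun _ => Nat) (Ptab_s_360_362 c) (Ptab_s_362_364 c) (Nat.ble 362 c)
noncomputable def Ptab_s_357_364 (c : Nat) : Nat := @Bool.rec (fun _ => Nat) (Ptab_s_357_360 c) (Ptab_s_360_364 c) (Nat.ble 360 c)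
noncomputable def Ptab_s_350_364 (c : Nat) : Nat := @Bool.rec (fun _ => Nat) (Ptab_s_350_357 c) (Ptab_s_357_364 c) (Nat.ble 357 c)
noncomputable def Ptab_s_336_364 (c : Nat) : Nat := @Bool.rec (fun _ => Nat) (Ptab_s_336_350 c) (Ptab_s_350_364 c) (Nat.ble 350 c)
noncomputable def Ptab_s_365_367 (c : Nat) : Nat := @Bool.rec (fun _ => Nat) (Ptab_365) (Ptab_366) (Nat.ble 366 c)
noncomputable def Ptab_s_364_367 (c : Nat) : Nat := @Bool.rec (fun _ => Nat) (Ptab_364) (Ptab_s_365_367 c) (Nat.ble 365 c)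
noncomputable def Ptab_s_367_369 (c : Nat) : Nat := @Bool.rec (fun _ => Nat) (Ptab_367) (Ptab_368) (Nat.ble 368 c)
noncomputable def Ptab_s_369_371 (c : Nat) : Nat := @Bool.rec (fun _ => Nat) (Ptab_369) (Ptab_370) (Nat.ble 370 c)
noncomputable def Ptab_s_367_371 (c : Nat) : Nat := @Bool.rec (fun _ => Nat) (Ptab_s_367_369 c) (Ptab_s_369_371 c) (Nat.ble 369 c)
noncomputable def Ptab_s_364_371 (c : Nat) : Nat := @Bool.rec (fun _ => Nat) (Ptab_s_364_367 c) (Ptab_s_367_371 c) (Nat.ble 367 c)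
noncomputable def Ptab_s_372_374 (c : Nat) : Nat := @Bool.rec (fun _ => Nat) (Ptab_372) (Ptab_373) (Nat.ble 373 c)
noncomputable def Ptab_s_371_374 (c : Nat) : Nat := @Bool.rec (fun _ => Nat) (Ptab_371) (Ptab_s_372_374 c) (Nat.ble 372 c)
noncomputable def Ptab_s_374_376 (c : Nat) : Nat := @Bool.rec (fun _ => Nat) (Ptab_374) (Ptab_375) (Nat.ble 375 c)
noncomputable def Ptab_s_376_378 (c : Nat) : Nat := @Bool.rec (fun _ => Nat) (Ptab_376) (Ptab_377) (Nat.ble 377 c)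
noncomputable def Ptab_s_374_378 (c : Nat) : Nat := @Bool.rec (fun _ => Nat) (Ptab_s_374_376 c) (Ptab_s_376_378 c) (Nat.ble 376 c)
noncomputable def Ptab_s_371_378 (c : Nat) : Nat := @Bool.rec (fun _ => Nat) (Ptab_s_371_374 c) (Ptab_s_374_378 c) (Nat.ble 374 c)
noncomputable def Ptab_s_364_378 (c : Nat) : Nat := @Bool.rec (fun _ => Nat) (Ptab_s_364_371 c) (Ptab_s_371_378 c) (Nat.ble 371 c)
noncomputable def Ptab_s_379_381 (c : Nat) : Nat := @Bool.rec (fun _ => Nat) (Ptab_379) (Ptab_380) (Nat.ble 380 c)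
noncomputable def Ptab_s_378_381 (c : Nat) : Nat := @Bool.rec (fun _ => Nat) (Ptab_378) (Ptab_s_379_381 c) (Nat.ble 379 c)
noncomputable def Ptab_s_381_383 (c : Nat) : Nat := @Bool.rec (fun _ => Nat) (Ptab_381) (Ptab_382) (Nat.ble 382 c)
noncomputable def Ptab_s_383_385 (c : Nat) : Nat := @Bool.rec (fun _ => Nat) (Ptab_383) (Ptab_384) (Nat.ble 384 c)
noncomputable def Ptab_s_381_385 (c : Nat) : Nat := @Bool.rec (fun _ => Nat) (Ptab_s_381_383 c) (Ptab_s_383_385 c) (Nat.ble 383 c)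
noncomputable def Ptab_s_378_385 (c : Nat) : Nat := @Bool.rec (fun _ => Nat) (Ptab_s_378_381 c) (Ptab_s_381_385 c) (Nat.ble 381 c)
noncomputable def Ptab_s_386_388 (c : Nat) : Nat := @Bool.rec (fun _ => Nat) (Ptab_386) (Ptab_387) (Nat.ble 387 c)
noncomputable def Ptab_s_385_388 (c : Nat) : Nat := @Bool.rec (fun _ => Nat) (Ptab_385) (Ptab_s_386_388 c) (Nat.ble 386 c)
noncomputable def Ptab_s_388_390 (c : Nat) : Nat := @Bool.rec (fun _ => Nat) (Ptab_388) (Ptab_389) (Nat.ble 389 c)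
noncomputable def Ptab_s_390_392 (c : Nat) : Nat := @Bool.rec (fun _ => Nat) (Ptab_390) (Ptab_391) (Nat.ble 391 c)
noncomputable def Ptab_s_388_392 (c : Nat) : Nat := @Bool.rec (fun _ => Nat) (Ptab_s_388_390 c) (Ptab_s_390_392 c) (Nat.ble 390 c)
noncomputable def Ptab_s_385_392 (c : Nat) : Nat := @Bool.rec (fun _ => Nat) (Ptab_s_385_388 c) (Ptab_s_388_392 c) (Nat.ble 388 c)
noncomputable def Ptab_s_378_392 (c : Nat) : Nat := @Bool.rec (fun _ => Nat) (Ptab_s_378_385 c) (Ptab_s_385_392 c) (Nat.ble 385 c)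
noncomputable def Ptab_s_364_392 (c : Nat) : Nat := @Bool.rec (fun _ => Nat) (Ptab_s_364_378 c) (Ptab_s_378_392 c) (Nat.ble 378 c)
noncomputable def Ptab_s_336_392 (c : Nat) : Nat := @Bool.rec (fun _ => Nat) (Ptab_s_336_364 c) (Ptab_s_364_392 c) (Nat.ble 364 c)
noncomputable def Ptab_s_393_395 (c : Nat) : Nat := @Bool.rec (fun _ => Nat) (Ptab_393) (Ptab_394) (Nat.ble 394 c)
noncomputable def Ptab_s_392_395 (c : Nat) : Nat := @Bool.rec (fun _ => Nat) (Ptab_392) (Ptab_s_393_395 c) (Nat.ble 393 c)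
noncomputable def Ptab_s_395_397 (c : Nat) : Nat := @Bool.rec (fun _ => Nat) (Ptab_395) (Ptab_396) (Nat.ble 396 c)
noncomputable def Ptab_s_397_399 (c : Nat) : Nat := @Bool.rec (fun _ => Nat) (Ptab_397) (Ptab_398) (Nat.ble 398 c)
noncomputable def Ptab_s_395_399 (c : Nat) : Nat := @Bool.rec (fun _ => Nat) (Ptab_s_395_397 c) (Ptab_s_397_399 c) (Nat.ble 397 c)
noncomputable def Ptab_s_392_399 (c : Nat) : Nat := @Bool.rec (fun _ => Nat) (Ptab_s_392_395 c) (Ptab_s_395_399 c) (Nat.ble 395 c)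
noncomputable def Ptab_s_400_402 (c : Nat) : Nat := @Bool.rec (fun _ => Nat) (Ptab_400) (Ptab_401) (Nat.ble 401 c)
noncomputable def Ptab_s_399_402 (c : Nat) : Nat := @Bool.rec (fun _ => Nat) (Ptab_399) (Ptab_s_400_402 c) (Nat.ble 400 c)
noncomputable def Ptab_s_402_404 (c : Nat) : Nat := @Bool.rec (fun _ => Nat) (Ptab_402) (Ptab_403) (Nat.ble 403 c)
noncomputable def Ptab_s_404_406 (c : Nat) : Nat := @Bool.rec (fun _ => Nat) (Ptab_404) (Ptab_405) (Nat.ble 405 c)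
noncomputable def Ptab_s_402_406 (c : Nat) : Nat := @Bool.rec (fun _ => Nat) (Ptab_s_402_404 c) (Ptab_s_404_406 c) (Nat.ble 404 c)
noncomputable def Ptab_s_399_406 (c : Nat) : Nat := @Bool.rec (fun _ => Nat) (Ptab_s_399_402 c) (Ptab_s_402_406 c) (Nat.ble 402 c)
noncomputable def Ptab_s_392_406 (c : Nat) : Nat := @Bool.rec (fun _ => Nat) (Ptab_s_392_399 c) (Ptab_s_399_406 c) (Nat.ble 399 c)
noncomputable def Ptab_s_407_409 (c : Nat) : Nat := @Bool.rec (fun _ => Nat) (Ptab_407) (Ptab_408) (Nat.ble 408 c)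
noncomputable def Ptab_s_406_409 (c : Nat) : Nat := @Bool.rec (fun _ => Nat) (Ptab_406) (Ptab_s_407_409 c) (Nat.ble 407 c)
noncomputable def Ptab_s_409_411 (c : Nat) : Nat := @Bool.rec (fun _ => Nat) (Ptab_409) (Ptab_410) (Nat.ble 410 c)
noncomputable def Ptab_s_411_413 (c : Nat) : Nat := @Bool.rec (fun _ => Nat) (Ptab_411) (Ptab_412) (Nat.ble 412 c)
noncomputable def Ptab_s_409_413 (c : Nat) : Nat := @Bool.rec (fun _ => Nat) (Ptab_s_409_411 c) (Ptab_s_411_413 c) (Nat.ble 411 c)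
noncomputable def Ptab_s_406_413 (c : Nat) : Nat := @Bool.rec (fun _ => Nat) (Ptab_s_406_409 c) (Ptab_s_409_413 c) (Nat.ble 409 c)
noncomputable def Ptab_s_414_416 (c : Nat) : Nat := @Bool.rec (fun _ => Nat) (Ptab_414) (Ptab_415) (Nat.ble 415 c)
noncomputable def Ptab_s_413_416 (c : Nat) : Nat := @Bool.rec (fun _ => Nat) (Ptab_413) (Ptab_s_414_416 c) (Nat.ble 414 c)
noncomputable def Ptab_s_416_418 (c : Nat) : Nat := @Bool.rec (fun _ => Nat) (Ptab_416) (Ptab_417) (Nat.ble 417 c)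
noncomputable def Ptab_s_418_420 (c : Nat) : Nat := @Bool.rec (fun _ => Nat) (Ptab_418) (Ptab_419) (Nat.ble 419 c)
noncomputable def Ptab_s_416_420 (c : Nat) : Nat := @Bool.rec (fun _ => Nat) (Ptab_s_416_418 c) (Ptab_s_418_420 c) (Nat.ble 418 c)
noncomputable def Ptab_s_413_420 (c : Nat) : Nat := @Bool.rec (fun _ => Nat) (Ptab_s_413_416 c) (Ptab_s_416_420 c) (Nat.ble 416 c)
noncomputable def Ptab_s_406_420 (c : Nat) : Nat := @Bool.rec (fun _ => Nat) (Ptab_s_406_413 c) (Ptab_s_413_420 c) (Nat.ble 413 c)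
noncomputable def Ptab_s_392_420 (c : Nat) : Nat := @Bool.rec (fun _ => Nat) (Ptab_s_392_406 c) (Ptab_s_406_420 c) (Nat.ble 406 c)
noncomputable def Ptab_s_421_423 (c : Nat) : Nat := @Bool.rec (fun _ => Nat) (Ptab_421) (Ptab_422) (Nat.ble 422 c)
noncomputable def Ptab_s_420_423 (c : Nat) : Nat := @Bool.rec (fun _ => Nat) (Ptab_420) (Ptab_s_421_423 c) (Nat.ble 421 c)
noncomputable def Ptab_s_423_425 (c : Nat) : Nat := @Bool.rec (fun _ => Nat) (Ptab_423) (Ptab_424) (Nat.ble 424 c)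
noncomputable def Ptab_s_425_427 (c : Nat) : Nat := @Bool.rec (fun _ => Nat) (Ptab_425) (Ptab_426) (Nat.ble 426 c)
noncomputable def Ptab_s_423_427 (c : Nat) : Nat := @Bool.rec (fun _ => Nat) (Ptab_s_423_425 c) (Ptab_s_425_427 c) (Nat.ble 425 c)
noncomputable def Ptab_s_420_427 (c : Nat) : Nat := @Bool.rec (fun _ => Nat) (Ptab_s_420_423 c) (Ptab_s_423_427 c) (Nat.ble 423 c)
noncomputable def Ptab_s_428_430 (c : Nat) : Nat := @Bool.rec (fun _ => Nat) (Ptab_428) (Ptab_429) (Nat.ble 429 c)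
noncomputable def Ptab_s_427_430 (c : Nat) : Nat := @Bool.rec (fun _ => Nat) (Ptab_427) (Ptab_s_428_430 c) (Nat.ble 428 c)
noncomputable def Ptab_s_430_432 (c : Nat) : Nat := @Bool.rec (fun _ => Nat) (Ptab_430) (Ptab_431) (Nat.ble 431 c)
noncomputable def Ptab_s_432_434 (c : Nat) : Nat := @Bool.rec (fun _ => Nat) (Ptab_432) (Ptab_433) (Nat.ble 433 c)
noncomputable def Ptab_s_430_434 (c : Nat) : Nat := @Bool.rec (fun _ => Nat) (Ptab_s_430_432 c) (Ptab_s_432_434 c) (Nat.ble 432 c)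
noncomputable def Ptab_s_427_434 (c : Nat) : Nat := @Bool.rec (fun _ => Nat) (Ptab_s_427_430 c) (Ptab_s_430_434 c) (Nat.ble 430 c)
noncomputable def Ptab_s_420_434 (c : Nat) : Nat := @Bool.rec (fun _ => Nat) (Ptab_s_420_427 c) (Ptab_s_427_434 c) (Nat.ble 427 c)
noncomputable def Ptab_s_435_437 (c : Nat) : Nat := @Bool.rec (fun _ => Nat) (Ptab_435) (Ptab_436) (Nat.ble 436 c)
noncomputable def Ptab_s_434_437 (c : Nat) : Nat := @Bool.rec (fun _ => Nat) (Ptab_434) (Ptab_s_435_437 c) (Nat.ble 435 c)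
noncomputable def Ptab_s_437_439 (c : Nat) : Nat := @Bool.rec (fun _ => Nat) (Ptab_437) (Ptab_438) (Nat.ble 438 c)
noncomputable def Ptab_s_439_441 (c : Nat) : Nat := @Bool.rec (fun _ => Nat) (Ptab_439) (Ptab_440) (Nat.ble 440 c)
noncomputable def Ptab_s_437_441 (c : Nat) : Nat := @Bool.rec (fun _ => Nat) (Ptab_s_437_439 c) (Ptab_s_439_441 c) (Nat.ble 439 c)
noncomputable def Ptab_s_434_441 (c : Nat) : Nat := @Bool.rec (fun _ => Nat) (Ptab_s_434_437 c) (Ptab_s_437_441 c) (Nat.ble 437 c)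
noncomputable def Ptab_s_442_444 (c : Nat) : Nat := @Bool.rec (fun _ => Nat) (Ptab_442) (Ptab_443) (Nat.ble 443 c)
noncomputable def Ptab_s_441_444 (c : Nat) : Nat := @Bool.rec (fun _ => Nat) (Ptab_441) (Ptab_s_442_444 c) (Nat.ble 442 c)
noncomputable def Ptab_s_444_446 (c : Nat) : Nat := @Bool.rec (fun _ => Nat) (Ptab_444) (Ptab_445) (Nat.ble 445 c)
noncomputable def Ptab_s_446_448 (c : Nat) : Nat := @Bool.rec (fun _ => Nat) (Ptab_446) (Ptab_447) (Nat.ble 447 c)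
noncomputable def Ptab_s_444_448 (c : Nat) : Nat := @Bool.rec (fun _ => Nat) (Ptab_s_444_446 c) (Ptab_s_446_448 c) (Nat.ble 446 c)
noncomputable def Ptab_s_441_448 (c : Nat) : Nat := @Bool.rec (fun _ => Nat) (Ptab_s_441_444 c) (Ptab_s_444_448 c) (Nat.ble 444 c)
noncomputable def Ptab_s_434_448 (c : Nat) : Nat := @Bool.rec (fun _ => Nat) (Ptab_s_434_441 c) (Ptab_s_441_448 c) (Nat.ble 441 c)
noncomputable def Ptab_s_420_448 (c : Nat) : Nat := @Bool.rec (fun _ => Nat) (Ptab_s_420_434 c) (Ptab_s_434_448 c) (Nat.ble 434 c)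
noncomputable def Ptab_s_392_448 (c : Nat) : Nat := @Bool.rec (fun _ => Nat) (Ptab_s_392_420 c) (Ptab_s_420_448 c) (Nat.ble 420 c)
noncomputable def Ptab_s_336_448 (c : Nat) : Nat := @Bool.rec (fun _ => Nat) (Ptab_s_336_392 c) (Ptab_s_392_448 c) (Nat.ble 392 c)
noncomputable def Ptab_s_224_448 (c : Nat) : Nat := @Bool.rec (fun _ => Nat) (Ptab_s_224_336 c) (Ptab_s_336_448 c) (Nat.ble 336 c)
noncomputable def Ptab_s_0_448 (c : Nat) : Nat := @Bool.rec (fun _ => Nat) (Ptab_s_0_224 c) (Ptab_s_224_448 c) (Nat.ble 224 c)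
noncomputable def Ptab_s_449_451 (c : Nat) : Nat := @Bool.rec (fun _ => Nat) (Ptab_449) (Ptab_450) (Nat.ble 450 c)
noncomputable def Ptab_s_448_451 (c : Nat) : Nat := @Bool.rec (fun _ => Nat) (Ptab_448) (Ptab_s_449_451 c) (Nat.ble 449 c)
noncomputable def Ptab_s_451_453 (c : Nat) : Nat := @Bool.rec (fun _ => Nat) (Ptab_451) (Ptab_452) (Nat.ble 452 c)
noncomputable def Ptab_s_453_455 (c : Nat) : Nat := @Bool.rec (fun _ => Nat) (Ptab_453) (Ptab_454) (Nat.ble 454 c)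
noncomputable def Ptab_s_451_455 (c : Nat) : Nat := @Bool.rec (fun _ => Nat) (Ptab_s_451_453 c) (Ptab_s_453_455 c) (Nat.ble 453 c)
noncomputable def Ptab_s_448_455 (c : Nat) : Nat := @Bool.rec (fun _ => Nat) (Ptab_s_448_451 c) (Ptab_s_451_455 c) (Nat.ble 451 c)
noncomputable def Ptab_s_456_458 (c : Nat) : Nat := @Bool.rec (fun _ => Nat) (Ptab_456) (Ptab_457) (Nat.ble 457 c)
noncomputable def Ptab_s_455_458 (c : Nat) : Nat := @Bool.rec (fun _ => Nat) (Ptab_455) (Ptab_s_456_458 c) (Nat.ble 456 c)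
noncomputable def Ptab_s_458_460 (c : Nat) : Nat := @Bool.rec (fun _ => Nat) (Ptab_458) (Ptab_459) (Nat.ble 459 c)
noncomputable def Ptab_s_460_462 (c : Nat) : Nat := @Bool.rec (fun _ => Nat) (Ptab_460) (Ptab_461) (Nat.ble 461 c)
noncomputable def Ptab_s_458_462 (c : Nat) : Nat := @Bool.rec (fun _ => Nat) (Ptab_s_458_460 c) (Ptab_s_460_462 c) (Nat.ble 460 c)
noncomputable def Ptab_s_455_462 (c : Nat) : Nat := @Bool.rec (fun _ => Nat) (Ptab_s_455_458 c) (Ptab_s_458_462 c) (Nat.ble 458 c)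
noncomputable def Ptab_s_448_462 (c : Nat) : Nat := @Bool.rec (fun _ => Nat) (Ptab_s_448_455 c) (Ptab_s_455_462 c) (Nat.ble 455 c)
noncomputable def Ptab_s_463_465 (c : Nat) : Nat := @Bool.rec (fun _ => Nat) (Ptab_463) (Ptab_464) (Nat.ble 464 c)
noncomputable def Ptab_s_462_465 (c : Nat) : Nat := @Bool.rec (fun _ => Nat) (Ptab_462) (Ptab_s_463_465 c) (Nat.ble 463 c)
noncomputable def Ptab_s_465_467 (c : Nat) : Nat := @Bool.rec (fun _ => Nat) (Ptab_465) (Ptab_466) (Nat.ble 466 c)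
noncomputable def Ptab_s_467_469 (c : Nat) : Nat := @Bool.rec (fun _ => Nat) (Ptab_467) (Ptab_468) (Nat.ble 468 c)
noncomputable def Ptab_s_465_469 (c : Nat) : Nat := @Bool.rec (fun _ => Nat) (Ptab_s_465_467 c) (Ptab_s_467_469 c) (Nat.ble 467 c)
noncomputable def Ptab_s_462_469 (c : Nat) : Nat := @Bool.rec (fun _ => Nat) (Ptab_s_462_465 c) (Ptab_s_465_469 c) (Nat.ble 465 c)
noncomputable def Ptab_s_470_472 (c : Nat) : Nat := @Bool.rec (fun _ => Nat) (Ptab_470) (Ptab_471) (Nat.ble 471 c)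
noncomputable def Ptab_s_469_472 (c : Nat) : Nat := @Bool.rec (fun _ => Nat) (Ptab_469) (Ptab_s_470_472 c) (Nat.ble 470 c)
noncomputable def Ptab_s_472_474 (c : Nat) : Nat := @Bool.rec (fun _ => Nat) (Ptab_472) (Ptab_473) (Nat.ble 473 c)
noncomputable def Ptab_s_474_476 (c : Nat) : Nat := @Bool.rec (fun _ => Nat) (Ptab_474) (Ptab_475) (Nat.ble 475 c)
noncomputable def Ptab_s_472_476 (c : Nat) : Nat := @Bool.rec (fun _ => Nat) (Ptab_s_472_474 c) (Ptab_s_474_476 c) (Nat.ble 474 c)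
noncomputable def Ptab_s_469_476 (c : Nat) : Nat := @Bool.rec (fun _ => Nat) (Ptab_s_469_472 c) (Ptab_s_472_476 c) (Nat.ble 472 c)
noncomputable def Ptab_s_462_476 (c : Nat) : Nat := @Bool.rec (fun _ => Nat) (Ptab_s_462_469 c) (Ptab_s_469_476 c) (Nat.ble 469 c)
noncomputable def Ptab_s_448_476 (c : Nat) : Nat := @Bool.rec (fun _ => Nat) (Ptab_s_448_462 c) (Ptab_s_462_476 c) (Nat.ble 462 c)
noncomputable def Ptab_s_477_479 (c : Nat) : Nat := @Bool.rec (fun _ => Nat) (Ptab_477) (Ptab_478) (Nat.ble 478 c)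
noncomputable def Ptab_s_476_479 (c : Nat) : Nat := @Bool.rec (fun _ => Nat) (Ptab_476) (Ptab_s_477_479 c) (Nat.ble 477 c)
noncomputable def Ptab_s_479_481 (c : Nat) : Nat := @Bool.rec (fun _ => Nat) (Ptab_479) (Ptab_480) (Nat.ble 480 c)
noncomputable def Ptab_s_481_483 (c : Nat) : Nat := @Bool.rec (fun _ => Nat) (Ptab_481) (Ptab_482) (Nat.ble 482 c)
noncomputable def Ptab_s_479_483 (c : Nat) : Nat := @Bool.rec (fun _ => Nat) (Ptab_s_479_481 c) (Ptab_s_481_483 c) (Nat.ble 481 c)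
noncomputable def Ptab_s_476_483 (c : Nat) : Nat := @Bool.rec (fun _ => Nat) (Ptab_s_476_479 c) (Ptab_s_479_483 c) (Nat.ble 479 c)
noncomputable def Ptab_s_484_486 (c : Nat) : Nat := @Bool.rec (fun _ => Nat) (Ptab_484) (Ptab_485) (Nat.ble 485 c)
noncomputable def Ptab_s_483_486 (c : Nat) : Nat := @Bool.rec (fun _ => Nat) (Ptab_483) (Ptab_s_484_486 c) (Nat.ble 484 c)
noncomputable def Ptab_s_486_488 (c : Nat) : Nat := @Bool.rec (fun _ => Nat) (Ptab_486) (Ptab_487) (Nat.ble 487 c)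
noncomputable def Ptab_s_488_490 (c : Nat) : Nat := @Bool.rec (fun _ => Nat) (Ptab_488) (Ptab_489) (Nat.ble 489 c)
noncomputable def Ptab_s_486_490 (c : Nat) : Nat := @Bool.rec (fun _ => Nat) (Ptab_s_486_488 c) (Ptab_s_488_490 c) (Nat.ble 488 c)
noncomputable def Ptab_s_483_490 (c : Nat) : Nat := @Bool.rec (fun _ => Nat) (Ptab_s_483_486 c) (Ptab_s_486_490 c) (Nat.ble 486 c)
noncomputable def Ptab_s_476_490 (c : Nat) : Nat := @Bool.rec (fun _ => Nat) (Ptab_s_476_483 c) (Ptab_s_483_490 c) (Nat.ble 483 c)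
noncomputable def Ptab_s_491_493 (c : Nat) : Nat := @Bool.rec (fun _ => Nat) (Ptab_491) (Ptab_492) (Nat.ble 492 c)
noncomputable def Ptab_s_490_493 (c : Nat) : Nat := @Bool.rec (fun _ => Nat) (Ptab_490) (Ptab_s_491_493 c) (Nat.ble 491 c)
noncomputable def Ptab_s_493_495 (c : Nat) : Nat := @Bool.rec (fun _ => Nat) (Ptab_493) (Ptab_494) (Nat.ble 494 c)
noncomputable def Ptab_s_495_497 (c : Nat) : Nat := @Bool.rec (fun _ => Nat) (Ptab_495) (Ptab_496) (Nat.ble 496 c)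
noncomputable def Ptab_s_493_497 (c : Nat) : Nat := @Bool.rec (fun _ => Nat) (Ptab_s_493_495 c) (Ptab_s_495_497 c) (Nat.ble 495 c)
noncomputable def Ptab_s_490_497 (c : Nat) : Nat := @Bool.rec (fun _ => Nat) (Ptab_s_490_493 c) (Ptab_s_493_497 c) (Nat.ble 493 c)
noncomputable def Ptab_s_498_500 (c : Nat) : Nat := @Bool.rec (fun _ => Nat) (Ptab_498) (Ptab_499) (Nat.ble 499 c)
noncomputable def Ptab_s_497_500 (c : Nat) : Nat := @Bool.rec (fun _ => Nat) (Ptab_497) (Ptab_s_498_500 c) (Nat.ble 498 c)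
noncomputable def Ptab_s_500_502 (c : Nat) : Nat := @Bool.rec (fun _ => Nat) (Ptab_500) (Ptab_501) (Nat.ble 501 c)
noncomputable def Ptab_s_502_504 (c : Nat) : Nat := @Bool.rec (fun _ => Nat) (Ptab_502) (Ptab_503) (Nat.ble 503 c)
noncomputable def Ptab_s_500_504 (c : Nat) : Nat := @Bool.rec (fun _ => Nat) (Ptab_s_500_502 c) (Ptab_s_502_504 c) (Nat.ble 502 c)
noncomputable def Ptab_s_497_504 (c : Nat) : Nat := @Bool.rec (fun _ => Nat) (Ptab_s_497_500 c) (Ptab_s_500_504 c) (Nat.ble 500 c)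
noncomputable def Ptab_s_490_504 (c : Nat) : Nat := @Bool.rec (fun _ => Nat) (Ptab_s_490_497 c) (Ptab_s_497_504 c) (Nat.ble 497 c)
noncomputable def Ptab_s_476_504 (c : Nat) : Nat := @Bool.rec (fun _ => Nat) (Ptab_s_476_490 c) (Ptab_s_490_504 c) (Nat.ble 490 c)
noncomputable def Ptab_s_448_504 (c : Nat) : Nat := @Bool.rec (fun _ => Nat) (Ptab_s_448_476 c) (Ptab_s_476_504 c) (Nat.ble 476 c)
noncomputable def Ptab_s_505_507 (c : Nat) : Nat := @Bool.rec (fun _ => Nat) (Ptab_505) (Ptab_506) (Nat.ble 506 c)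
noncomputable def Ptab_s_504_507 (c : Nat) : Nat := @Bool.rec (fun _ => Nat) (Ptab_504) (Ptab_s_505_507 c) (Nat.ble 505 c)
noncomputable def Ptab_s_507_509 (c : Nat) : Nat := @Bool.rec (fun _ => Nat) (Ptab_507) (Ptab_508) (Nat.ble 508 c)
noncomputable def Ptab_s_509_511 (c : Nat) : Nat := @Bool.rec (fun _ => Nat) (Ptab_509) (Ptab_510) (Nat.ble 510 c)
noncomputable def Ptab_s_507_511 (c : Nat) : Nat := @Bool.rec (fun _ => Nat) (Ptab_s_507_509 c) (Ptab_s_509_511 c) (Nat.ble 509 c)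
noncomputable def Ptab_s_504_511 (c : Nat) : Nat := @Bool.rec (fun _ => Nat) (Ptab_s_504_507 c) (Ptab_s_507_511 c) (Nat.ble 507 c)
noncomputable def Ptab_s_512_514 (c : Nat) : Nat := @Bool.rec (fun _ => Nat) (Ptab_512) (Ptab_513) (Nat.ble 513 c)
noncomputable def Ptab_s_511_514 (c : Nat) : Nat := @Bool.rec (fun _ => Nat) (Ptab_511) (Ptab_s_512_514 c) (Nat.ble 512 c)
noncomputable def Ptab_s_514_516 (c : Nat) : Nat := @Bool.rec (fun _ => Nat) (Ptab_514) (Ptab_515) (Nat.ble 515 c)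
noncomputable def Ptab_s_516_518 (c : Nat) : Nat := @Bool.rec (fun _ => Nat) (Ptab_516) (Ptab_517) (Nat.ble 517 c)
noncomputable def Ptab_s_514_518 (c : Nat) : Nat := @Bool.rec (fun _ => Nat) (Ptab_s_514_516 c) (Ptab_s_516_518 c) (Nat.ble 516 c)
noncomputable def Ptab_s_511_518 (c : Nat) : Nat := @Bool.rec (fun _ => Nat) (Ptab_s_511_514 c) (Ptab_s_514_518 c) (Nat.ble 514 c)
noncomputable def Ptab_s_504_518 (c : Nat) : Nat := @Bool.rec (fun _ => Nat) (Ptab_s_504_511 c) (Ptab_s_511_518 c) (Nat.ble 511 c)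
noncomputable def Ptab_s_519_521 (c : Nat) : Nat := @Bool.rec (fun _ => Nat) (Ptab_519) (Ptab_520) (Nat.ble 520 c)
noncomputable def Ptab_s_518_521 (c : Nat) : Nat := @Bool.rec (fun _ => Nat) (Ptab_518) (Ptab_s_519_521 c) (Nat.ble 519 c)
noncomputable def Ptab_s_521_523 (c : Nat) : Nat := @Bool.rec (fun _ => Nat) (Ptab_521) (Ptab_522) (Nat.ble 522 c)
noncomputable def Ptab_s_523_525 (c : Nat) : Nat := @Bool.rec (fun _ => Nat) (Ptab_523) (Ptab_524) (Nat.ble 524 c)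
noncomputable def Ptab_s_521_525 (c : Nat) : Nat := @Bool.rec (fun _ => Nat) (Ptab_s_521_523 c) (Ptab_s_523_525 c) (Nat.ble 523 c)
noncomputable def Ptab_s_518_525 (c : Nat) : Nat := @Bool.rec (fun _ => Nat) (Ptab_s_518_521 c) (Ptab_s_521_525 c) (Nat.ble 521 c)
noncomputable def Ptab_s_526_528 (c : Nat) : Nat := @Bool.rec (fun _ => Nat) (Ptab_526) (Ptab_527) (Nat.ble 527 c)
noncomputable def Ptab_s_525_528 (c : Nat) : Nat := @Bool.rec (fun _ => Nat) (Ptab_525) (Ptab_s_526_528 c) (Nat.ble 526 c)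
noncomputable def Ptab_s_528_530 (c : Nat) : Nat := @Bool.rec (fun _ => Nat) (Ptab_528) (Ptab_529) (Nat.ble 529 c)
noncomputable def Ptab_s_530_532 (c : Nat) : Nat := @Bool.rec (fun _ => Nat) (Ptab_530) (Ptab_531) (Nat.ble 531 c)
noncomputable def Ptab_s_528_532 (c : Nat) : Nat := @Bool.rec (fun _ => Nat) (Ptab_s_528_530 c) (Ptab_s_530_532 c) (Nat.ble 530 c)
noncomputable def Ptab_s_525_532 (c : Nat) : Nat := @Bool.rec (fun _ => Nat) (Ptab_s_525_528 c) (Ptab_s_528_532 c) (Nat.ble 528 c)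
noncomputable def Ptab_s_518_532 (c : Nat) : Nat := @Bool.rec (fun _ => Nat) (Ptab_s_518_525 c) (Ptab_s_525_532 c) (Nat.ble 525 c)
noncomputable def Ptab_s_504_532 (c : Nat) : Nat := @Bool.rec (fun _ => Nat) (Ptab_s_504_518 c) (Ptab_s_518_532 c) (Nat.ble 518 c)
noncomputable def Ptab_s_533_535 (c : Nat) : Nat := @Bool.rec (fun _ => Nat) (Ptab_533) (Ptab_534) (Nat.ble 534 c)
noncomputable def Ptab_s_532_535 (c : Nat) : Nat := @Bool.rec (fun _ => Nat) (Ptab_532) (Ptab_s_533_535 c) (Nat.ble 533 c)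
noncomputable def Ptab_s_535_537 (c : Nat) : Nat := @Bool.rec (fun _ => Nat) (Ptab_535) (Ptab_536) (Nat.ble 536 c)
noncomputable def Ptab_s_537_539 (c : Nat) : Nat := @Bool.rec (fun _ => Nat) (Ptab_537) (Ptab_538) (Nat.ble 538 c)
noncomputable def Ptab_s_535_539 (c : Nat) : Nat := @Bool.rec (fun _ => Nat) (Ptab_s_535_537 c) (Ptab_s_537_539 c) (Nat.ble 537 c)
noncomputable def Ptab_s_532_539 (c : Nat) : Nat := @Bool.rec (fun _ => Nat) (Ptab_s_532_535 c) (Ptab_s_535_539 c) (Nat.ble 535 c)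
noncomputable def Ptab_s_540_542 (c : Nat) : Nat := @Bool.rec (fun _ => Nat) (Ptab_540) (Ptab_541) (Nat.ble 541 c)
noncomputable def Ptab_s_539_542 (c : Nat) : Nat := @Bool.rec (fun _ => Nat) (Ptab_539) (Ptab_s_540_542 c) (Nat.ble 540 c)
noncomputable def Ptab_s_542_544 (c : Nat) : Nat := @Bool.rec (fun _ => Nat) (Ptab_542) (Ptab_543) (Nat.ble 543 c)
noncomputable def Ptab_s_544_546 (c : Nat) : Nat := @Bool.rec (fun _ => Nat) (Ptab_544) (Ptab_545) (Nat.ble 545 c)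
noncomputable def Ptab_s_542_546 (c : Nat) : Nat := @Bool.rec (fun _ => Nat) (Ptab_s_542_544 c) (Ptab_s_544_546 c) (Nat.ble 544 c)
noncomputable def Ptab_s_539_546 (c : Nat) : Nat := @Bool.rec (fun _ => Nat) (Ptab_s_539_542 c) (Ptab_s_542_546 c) (Nat.ble 542 c)
noncomputable def Ptab_s_532_546 (c : Nat) : Nat := @Bool.rec (fun _ => Nat) (Ptab_s_532_539 c) (Ptab_s_539_546 c) (Nat.ble 539 c)
noncomputable def Ptab_s_547_549 (c : Nat) : Nat := @Bool.rec (fun _ => Nat) (Ptab_547) (Ptab_548) (Nat.ble 548 c)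
noncomputable def Ptab_s_546_549 (c : Nat) : Nat := @Bool.rec (fun _ => Nat) (Ptab_546) (Ptab_s_547_549 c) (Nat.ble 547 c)
noncomputable def Ptab_s_549_551 (c : Nat) : Nat := @Bool.rec (fun _ => Nat) (Ptab_549) (Ptab_550) (Nat.ble 550 c)
noncomputable def Ptab_s_551_553 (c : Nat) : Nat := @Bool.rec (fun _ => Nat) (Ptab_551) (Ptab_552) (Nat.ble 552 c)
noncomputable def Ptab_s_549_553 (c : Nat) : Nat := @Bool.rec (fun _ => Nat) (Ptab_s_549_551 c) (Ptab_s_551_553 c) (Nat.ble 551 c)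
noncomputable def Ptab_s_546_553 (c : Nat) : Nat := @Bool.rec (fun _ => Nat) (Ptab_s_546_549 c) (Ptab_s_549_553 c) (Nat.ble 549 c)
noncomputable def Ptab_s_554_556 (c : Nat) : Nat := @Bool.rec (fun _ => Nat) (Ptab_554) (Ptab_555) (Nat.ble 555 c)
noncomputable def Ptab_s_553_556 (c : Nat) : Nat := @Bool.rec (fun _ => Nat) (Ptab_553) (Ptab_s_554_556 c) (Nat.ble 554 c)
noncomputable def Ptab_s_556_558 (c : Nat) : Nat := @Bool.rec (fun _ => Nat) (Ptab_556) (Ptab_557) (Nat.ble 557 c)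
noncomputable def Ptab_s_558_560 (c : Nat) : Nat := @Bool.rec (fun _ => Nat) (Ptab_558) (Ptab_559) (Nat.ble 559 c)
noncomputable def Ptab_s_556_560 (c : Nat) : Nat := @Bool.rec (fun _ => Nat) (Ptab_s_556_558 c) (Ptab_s_558_560 c) (Nat.ble 558 c)
noncomputable def Ptab_s_553_560 (c : Nat) : Nat := @Bool.rec (fun _ => Nat) (Ptab_s_553_556 c) (Ptab_s_556_560 c) (Nat.ble 556 c)
noncomputable def Ptab_s_546_560 (c : Nat) : Nat := @Bool.rec (fun _ => Nat) (Ptab_s_546_553 c) (Ptab_s_553_560 c) (Nat.ble 553 c)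
noncomputable def Ptab_s_532_560 (c : Nat) : Nat := @Bool.rec (fun _ => Nat) (Ptab_s_532_546 c) (Ptab_s_546_560 c) (Nat.ble 546 c)
noncomputable def Ptab_s_504_560 (c : Nat) : Nat := @Bool.rec (fun _ => Nat) (Ptab_s_504_532 c) (Ptab_s_532_560 c) (Nat.ble 532 c)
noncomputable def Ptab_s_448_560 (c : Nat) : Nat := @Bool.rec (fun _ => Nat) (Ptab_s_448_504 c) (Ptab_s_504_560 c) (Nat.ble 504 c)
noncomputable def Ptab_s_561_563 (c : Nat) : Nat := @Bool.rec (fun _ => Nat) (Ptab_561) (Ptab_562) (Nat.ble 562 c)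
noncomputable def Ptab_s_560_563 (c : Nat) : Nat := @Bool.rec (fun _ => Nat) (Ptab_560) (Ptab_s_561_563 c) (Nat.ble 561 c)
noncomputable def Ptab_s_563_565 (c : Nat) : Nat := @Bool.rec (fun _ => Nat) (Ptab_563) (Ptab_564) (Nat.ble 564 c)
noncomputable def Ptab_s_565_567 (c : Nat) : Nat := @Bool.rec (fun _ => Nat) (Ptab_565) (Ptab_566) (Nat.ble 566 c)
noncomputable def Ptab_s_563_567 (c : Nat) : Nat := @Bool.rec (fun _ => Nat) (Ptab_s_563_565 c) (Ptab_s_565_567 c) (Nat.ble 565 c)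
noncomputable def Ptab_s_560_567 (c : Nat) : Nat := @Bool.rec (fun _ => Nat) (Ptab_s_560_563 c) (Ptab_s_563_567 c) (Nat.ble 563 c)
noncomputable def Ptab_s_568_570 (c : Nat) : Nat := @Bool.rec (fun _ => Nat) (Ptab_568) (Ptab_569) (Nat.ble 569 c)
noncomputable def Ptab_s_567_570 (c : Nat) : Nat := @Bool.rec (fun _ => Nat) (Ptab_567) (Ptab_s_568_570 c) (Nat.ble 568 c)
noncomputable def Ptab_s_570_572 (c : Nat) : Nat := @Bool.rec (fun _ => Nat) (Ptab_570) (Ptab_571) (Nat.ble 571 c)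
noncomputable def Ptab_s_572_574 (c : Nat) : Nat := @Bool.rec (fun _ => Nat) (Ptab_572) (Ptab_573) (Nat.ble 573 c)
noncomputable def Ptab_s_570_574 (c : Nat) : Nat := @Bool.rec (fun _ => Nat) (Ptab_s_570_572 c) (Ptab_s_572_574 c) (Nat.ble 572 c)
noncomputable def Ptab_s_567_574 (c : Nat) : Nat := @Bool.rec (fun _ => Nat) (Ptab_s_567_570 c) (Ptab_s_570_574 c) (Nat.ble 570 c)
noncomputable def Ptab_s_560_574 (c : Nat) : Nat := @Bool.rec (fun _ => Nat) (Ptab_s_560_567 c) (Ptab_s_567_574 c) (Nat.ble 567 c)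
noncomputable def Ptab_s_575_577 (c : Nat) : Nat := @Bool.rec (fun _ => Nat) (Ptab_575) (Ptab_576) (Nat.ble 576 c)
noncomputable def Ptab_s_574_577 (c : Nat) : Nat := @Bool.rec (fun _ => Nat) (Ptab_574) (Ptab_s_575_577 c) (Nat.ble 575 c)
noncomputable def Ptab_s_577_579 (c : Nat) : Nat := @Bool.rec (fun _ => Nat) (Ptab_577) (Ptab_578) (Nat.ble 578 c)
noncomputable def Ptab_s_579_581 (c : Nat) : Nat := @Bool.rec (fun _ => Nat) (Ptab_579) (Ptab_580) (Nat.ble 580 c)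
noncomputable def Ptab_s_577_581 (c : Nat) : Nat := @Bool.rec (fun _ => Nat) (Ptab_s_577_579 c) (Ptab_s_579_581 c) (Nat.ble 579 c)
noncomputable def Ptab_s_574_581 (c : Nat) : Nat := @Bool.rec (fun _ => Nat) (Ptab_s_574_577 c) (Ptab_s_577_581 c) (Nat.ble 577 c)
noncomputable def Ptab_s_582_584 (c : Nat) : Nat := @Bool.rec (fun _ => Nat) (Ptab_582) (Ptab_583) (Nat.ble 583 c)
noncomputable def Ptab_s_581_584 (c : Nat) : Nat := @Bool.rec (fun _ => Nat) (Ptab_581) (Ptab_s_582_584 c) (Nat.ble 582 c)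
noncomputable def Ptab_s_584_586 (c : Nat) : Nat := @Bool.rec (fun _ => Nat) (Ptab_584) (Ptab_585) (Nat.ble 585 c)
noncomputable def Ptab_s_586_588 (c : Nat) : Nat := @Bool.rec (fun _ => Nat) (Ptab_586) (Ptab_587) (Nat.ble 587 c)
noncomputable def Ptab_s_584_588 (c : Nat) : Nat := @Bool.rec (fun _ => Nat) (Ptab_s_584_586 c) (Ptab_s_586_588 c) (Nat.ble 586 c)
noncomputable def Ptab_s_581_588 (c : Nat) : Nat := @Bool.rec (fun _ => Nat) (Ptab_s_581_584 c) (Ptab_s_584_588 c) (Nat.ble 584 c)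
noncomputable def Ptab_s_574_588 (c : Nat) : Nat := @Bool.rec (fun _ => Nat) (Ptab_s_574_581 c) (Ptab_s_581_588 c) (Nat.ble 581 c)
noncomputable def Ptab_s_560_588 (c : Nat) : Nat := @Bool.rec (fun _ => Nat) (Ptab_s_560_574 c) (Ptab_s_574_588 c) (Nat.ble 574 c)
noncomputable def Ptab_s_589_591 (c : Nat) : Nat := @Bool.rec (fun _ => Nat) (Ptab_589) (Ptab_590) (Nat.ble 590 c)
noncomputable def Ptab_s_588_591 (c : Nat) : Nat := @Bool.rec (fun _ => Nat) (Ptab_588) (Ptab_s_589_591 c) (Nat.ble 589 c)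
noncomputable def Ptab_s_591_593 (c : Nat) : Nat := @Bool.rec (fun _ => Nat) (Ptab_591) (Ptab_592) (Nat.ble 592 c)
noncomputable def Ptab_s_593_595 (c : Nat) : Nat := @Bool.rec (fun _ => Nat) (Ptab_593) (Ptab_594) (Nat.ble 594 c)
noncomputable def Ptab_s_591_595 (c : Nat) : Nat := @Bool.rec (fun _ => Nat) (Ptab_s_591_593 c) (Ptab_s_593_595 c) (Nat.ble 593 c)
noncomputable def Ptab_s_588_595 (c : Nat) : Nat := @Bool.rec (fun _ => Nat) (Ptab_s_588_591 c) (Ptab_s_591_595 c) (Nat.ble 591 c)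
noncomputable def Ptab_s_596_598 (c : Nat) : Nat := @Bool.rec (fun _ => Nat) (Ptab_596) (Ptab_597) (Nat.ble 597 c)
noncomputable def Ptab_s_595_598 (c : Nat) : Nat := @Bool.rec (fun _ => Nat) (Ptab_595) (Ptab_s_596_598 c) (Nat.ble 596 c)
noncomputable def Ptab_s_598_600 (c : Nat) : Nat := @Bool.rec (fun _ => Nat) (Ptab_598) (Ptab_599) (Nat.ble 599 c)
noncomputable def Ptab_s_600_602 (c : Nat) : Nat := @Bool.rec (fun _ => Nat) (Ptab_600) (Ptab_601) (Nat.ble 601 c)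
noncomputable def Ptab_s_598_602 (c : Nat) : Nat := @Bool.rec (fun _ => Nat) (Ptab_s_598_600 c) (Ptab_s_600_602 c) (Nat.ble 600 c)
noncomputable def Ptab_s_595_602 (c : Nat) : Nat := @Bool.rec (fun _ => Nat) (Ptab_s_595_598 c) (Ptab_s_598_602 c) (Nat.ble 598 c)
noncomputable def Ptab_s_588_602 (c : Nat) : Nat := @Bool.rec (fun _ => Nat) (Ptab_s_588_595 c) (Ptab_s_595_602 c) (Nat.ble 595 c)
noncomputable def Ptab_s_603_605 (c : Nat) : Nat := @Bool.rec (fun _ => Nat) (Ptab_603) (Ptab_604) (Nat.ble 604 c)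
noncomputable def Ptab_s_602_605 (c : Nat) : Nat := @Bool.rec (fun _ => Nat) (Ptab_602) (Ptab_s_603_605 c) (Nat.ble 603 c)
noncomputable def Ptab_s_605_607 (c : Nat) : Nat := @Bool.rec (fun _ => Nat) (Ptab_605) (Ptab_606) (Nat.ble 606 c)
noncomputable def Ptab_s_607_609 (c : Nat) : Nat := @Bool.rec (fun _ => Nat) (Ptab_607) (Ptab_608) (Nat.ble 608 c)
noncomputable def Ptab_s_605_609 (c : Nat) : Nat := @Bool.rec (fun _ => Nat) (Ptab_s_605_607 c) (Ptab_s_607_609 c) (Nat.ble 607 c)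
noncomputable def Ptab_s_602_609 (c : Nat) : Nat := @Bool.rec (fun _ => Nat) (Ptab_s_602_605 c) (Ptab_s_605_609 c) (Nat.ble 605 c)
noncomputable def Ptab_s_610_612 (c : Nat) : Nat := @Bool.rec (fun _ => Nat) (Ptab_610) (Ptab_611) (Nat.ble 611 c)
noncomputable def Ptab_s_609_612 (c : Nat) : Nat := @Bool.rec (fun _ => Nat) (Ptab_609) (Ptab_s_610_612 c) (Nat.ble 610 c)
noncomputable def Ptab_s_612_614 (c : Nat) : Nat := @Bool.rec (fun _ => Nat) (Ptab_612) (Ptab_613) (Nat.ble 613 c)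
noncomputable def Ptab_s_614_616 (c : Nat) : Nat := @Bool.rec (fun _ => Nat) (Ptab_614) (Ptab_615) (Nat.ble 615 c)
noncomputable def Ptab_s_612_616 (c : Nat) : Nat := @Bool.rec (fun _ => Nat) (Ptab_s_612_614 c) (Ptab_s_614_616 c) (Nat.ble 614 c)
noncomputable def Ptab_s_609_616 (c : Nat) : Nat := @Bool.rec (fun _ => Nat) (Ptab_s_609_612 c) (Ptab_s_612_616 c) (Nat.ble 612 c)
noncomputable def Ptab_s_602_616 (c : Nat) : Nat := @Bool.rec (fun _ => Nat) (Ptab_s_602_609 c) (Ptab_s_609_616 c) (Nat.ble 609 c)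
noncomputable def Ptab_s_588_616 (c : Nat) : Nat := @Bool.rec (fun _ => Nat) (Ptab_s_588_602 c) (Ptab_s_602_616 c) (Nat.ble 602 c)
noncomputable def Ptab_s_560_616 (c : Nat) : Nat := @Bool.rec (fun _ => Nat) (Ptab_s_560_588 c) (Ptab_s_588_616 c) (Nat.ble 588 c)
noncomputable def Ptab_s_617_619 (c : Nat) : Nat := @Bool.rec (fun _ => Nat) (Ptab_617) (Ptab_618) (Nat.ble 618 c)
noncomputable def Ptab_s_616_619 (c : Nat) : Nat := @Bool.rec (fun _ => Nat) (Ptab_616) (Ptab_s_617_619 c) (Nat.ble 617 c)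
noncomputable def Ptab_s_619_621 (c : Nat) : Nat := @Bool.rec (fun _ => Nat) (Ptab_619) (Ptab_620) (Nat.ble 620 c)
noncomputable def Ptab_s_621_623 (c : Nat) : Nat := @Bool.rec (fun _ => Nat) (Ptab_621) (Ptab_622) (Nat.ble 622 c)
noncomputable def Ptab_s_619_623 (c : Nat) : Nat := @Bool.rec (fun _ => Nat) (Ptab_s_619_621 c) (Ptab_s_621_623 c) (Nat.ble 621 c)
noncomputable def Ptab_s_616_623 (c : Nat) : Nat := @Bool.rec (fun _ => Nat) (Ptab_s_616_619 c) (Ptab_s_619_623 c) (Nat.ble 619 c)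
noncomputable def Ptab_s_624_626 (c : Nat) : Nat := @Bool.rec (fun _ => Nat) (Ptab_624) (Ptab_625) (Nat.ble 625 c)
noncomputable def Ptab_s_623_626 (c : Nat) : Nat := @Bool.rec (fun _ => Nat) (Ptab_623) (Ptab_s_624_626 c) (Nat.ble 624 c)
noncomputable def Ptab_s_626_628 (c : Nat) : Nat := @Bool.rec (fun _ => Nat) (Ptab_626) (Ptab_627) (Nat.ble 627 c)
noncomputable def Ptab_s_628_630 (c : Nat) : Nat := @Bool.rec (fun _ => Nat) (Ptab_628) (Ptab_629) (Nat.ble 629 c)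
noncomputable def Ptab_s_626_630 (c : Nat) : Nat := @Bool.rec (fun _ => Nat) (Ptab_s_626_628 c) (Ptab_s_628_630 c) (Nat.ble 628 c)
noncomputable def Ptab_s_623_630 (c : Nat) : Nat := @Bool.rec (fun _ => Nat) (Ptab_s_623_626 c) (Ptab_s_626_630 c) (Nat.ble 626 c)
noncomputable def Ptab_s_616_630 (c : Nat) : Nat := @Bool.rec (fun _ => Nat) (Ptab_s_616_623 c) (Ptab_s_623_630 c) (Nat.ble 623 c)
noncomputable def Ptab_s_631_633 (c : Nat) : Nat := @Bool.rec (fun _ => Nat) (Ptab_631) (Ptab_632) (Nat.ble 632 c)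
noncomputable def Ptab_s_630_633 (c : Nat) : Nat := @Bool.rec (fun _ => Nat) (Ptab_630) (Ptab_s_631_633 c) (Nat.ble 631 c)
noncomputable def Ptab_s_633_635 (c : Nat) : Nat := @Bool.rec (fun _ => Nat) (Ptab_633) (Ptab_634) (Nat.ble 634 c)
noncomputable def Ptab_s_635_637 (c : Nat) : Nat := @Bool.rec (fun _ => Nat) (Ptab_635) (Ptab_636) (Nat.ble 636 c)
noncomputable def Ptab_s_633_637 (c : Nat) : Nat := @Bool.rec (fun _ => Nat) (Ptab_s_633_635 c) (Ptab_s_635_637 c) (Nat.ble 635 c)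
noncomputable def Ptab_s_630_637 (c : Nat) : Nat := @Bool.rec (fun _ => Nat) (Ptab_s_630_633 c) (Ptab_s_633_637 c) (Nat.ble 633 c)
noncomputable def Ptab_s_638_640 (c : Nat) : Nat := @Bool.rec (fun _ => Nat) (Ptab_638) (Ptab_639) (Nat.ble 639 c)
noncomputable def Ptab_s_637_640 (c : Nat) : Nat := @Bool.rec (fun _ => Nat) (Ptab_637) (Ptab_s_638_640 c) (Nat.ble 638 c)
noncomputable def Ptab_s_640_642 (c : Nat) : Nat := @Bool.rec (fun _ => Nat) (Ptab_640) (Ptab_641) (Nat.ble 641 c)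
noncomputable def Ptab_s_642_644 (c : Nat) : Nat := @Bool.rec (fun _ => Nat) (Ptab_642) (Ptab_643) (Nat.ble 643 c)
noncomputable def Ptab_s_640_644 (c : Nat) : Nat := @Bool.rec (fun _ => Nat) (Ptab_s_640_642 c) (Ptab_s_642_644 c) (Nat.ble 642 c)
noncomputable def Ptab_s_637_644 (c : Nat) : Nat := @Bool.rec (fun _ => Nat) (Ptab_s_637_640 c) (Ptab_s_640_644 c) (Nat.ble 640 c)
noncomputable def Ptab_s_630_644 (c : Nat) : Nat := @Bool.rec (fun _ => Nat) (Ptab_s_630_637 c) (Ptab_s_637_644 c) (Nat.ble 637 c)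
noncomputable def Ptab_s_616_644 (c : Nat) : Nat := @Bool.rec (fun _ => Nat) (Ptab_s_616_630 c) (Ptab_s_630_644 c) (Nat.ble 630 c)
noncomputable def Ptab_s_645_647 (c : Nat) : Nat := @Bool.rec (fun _ => Nat) (Ptab_645) (Ptab_646) (Nat.ble 646 c)
noncomputable def Ptab_s_644_647 (c : Nat) : Nat := @Bool.rec (fun _ => Nat) (Ptab_644) (Ptab_s_645_647 c) (Nat.ble 645 c)
noncomputable def Ptab_s_647_649 (c : Nat) : Nat := @Bool.rec (fun _ => Nat) (Ptab_647) (Ptab_648) (Nat.ble 648 c)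
noncomputable def Ptab_s_649_651 (c : Nat) : Nat := @Bool.rec (fun _ => Nat) (Ptab_649) (Ptab_650) (Nat.ble 650 c)
noncomputable def Ptab_s_647_651 (c : Nat) : Nat := @Bool.rec (fun _ => Nat) (Ptab_s_647_649 c) (Ptab_s_649_651 c) (Nat.ble 649 c)
noncomputable def Ptab_s_644_651 (c : Nat) : Nat := @Bool.rec (fun _ => Nat) (Ptab_s_644_647 c) (Ptab_s_647_651 c) (Nat.ble 647 c)
noncomputable def Ptab_s_652_654 (c : Nat) : Nat := @Bool.rec (fun _ => Nat) (Ptab_652) (Ptab_653) (Nat.ble 653 c)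
noncomputable def Ptab_s_651_654 (c : Nat) : Nat := @Bool.rec (fun _ => Nat) (Ptab_651) (Ptab_s_652_654 c) (Nat.ble 652 c)
noncomputable def Ptab_s_654_656 (c : Nat) : Nat := @Bool.rec (fun _ => Nat) (Ptab_654) (Ptab_655) (Nat.ble 655 c)
noncomputable def Ptab_s_656_658 (c : Nat) : Nat := @Bool.rec (fun _ => Nat) (Ptab_656) (Ptab_657) (Nat.ble 657 c)
noncomputable def Ptab_s_654_658 (c : Nat) : Nat := @Bool.rec (fun _ => Nat) (Ptab_s_654_656 c) (Ptab_s_656_658 c) (Nat.ble 656 c)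
noncomputable def Ptab_s_651_658 (c : Nat) : Nat := @Bool.rec (fun _ => Nat) (Ptab_s_651_654 c) (Ptab_s_654_658 c) (Nat.ble 654 c)
noncomputable def Ptab_s_644_658 (c : Nat) : Nat := @Bool.rec (fun _ => Nat) (Ptab_s_644_651 c) (Ptab_s_651_658 c) (Nat.ble 651 c)
noncomputable def Ptab_s_659_661 (c : Nat) : Nat := @Bool.rec (fun _ => Nat) (Ptab_659) (Ptab_660) (Nat.ble 660 c)
noncomputable def Ptab_s_658_661 (c : Nat) : Nat := @Bool.rec (fun _ => Nat) (Ptab_658) (Ptab_s_659_661 c) (Nat.ble 659 c)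
noncomputable def Ptab_s_661_663 (c : Nat) : Nat := @Bool.rec (fun _ => Nat) (Ptab_661) (Ptab_662) (Nat.ble 662 c)
noncomputable def Ptab_s_663_665 (c : Nat) : Nat := @Bool.rec (fun _ => Nat) (Ptab_663) (Ptab_664) (Nat.ble 664 c)
noncomputable def Ptab_s_661_665 (c : Nat) : Nat := @Bool.rec (fun _ => Nat) (Ptab_s_661_663 c) (Ptab_s_663_665 c) (Nat.ble 663 c)
noncomputable def Ptab_s_658_665 (c : Nat) : Nat := @Bool.rec (fun _ => Nat) (Ptab_s_658_661 c) (Ptab_s_661_665 c) (Nat.ble 661 c)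
noncomputable def Ptab_s_666_668 (c : Nat) : Nat := @Bool.rec (fun _ => Nat) (Ptab_666) (Ptab_667) (Nat.ble 667 c)
noncomputable def Ptab_s_665_668 (c : Nat) : Nat := @Bool.rec (fun _ => Nat) (Ptab_665) (Ptab_s_666_668 c) (Nat.ble 666 c)
noncomputable def Ptab_s_668_670 (c : Nat) : Nat := @Bool.rec (fun _ => Nat) (Ptab_668) (Ptab_669) (Nat.ble 669 c)
noncomputable def Ptab_s_670_672 (c : Nat) : Nat := @Bool.rec (fun _ => Nat) (Ptab_670) (Ptab_671) (Nat.ble 671 c)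
noncomputable def Ptab_s_668_672 (c : Nat) : Nat := @Bool.rec (fun _ => Nat) (Ptab_s_668_670 c) (Ptab_s_670_672 c) (Nat.ble 670 c)
noncomputable def Ptab_s_665_672 (c : Nat) : Nat := @Bool.rec (fun _ => Nat) (Ptab_s_665_668 c) (Ptab_s_668_672 c) (Nat.ble 668 c)
noncomputable def Ptab_s_658_672 (c : Nat) : Nat := @Bool.rec (fun _ => Nat) (Ptab_s_658_665 c) (Ptab_s_665_672 c) (Nat.ble 665 c)
noncomputable def Ptab_s_644_672 (c : Nat) : Nat := @Bool.rec (fun _ => Nat) (Ptab_s_644_658 c) (Ptab_s_658_672 c) (Nat.ble 658 c)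
noncomputable def Ptab_s_616_672 (c : Nat) : Nat := @Bool.rec (fun _ => Nat) (Ptab_s_616_644 c) (Ptab_s_644_672 c) (Nat.ble 644 c)
noncomputable def Ptab_s_560_672 (c : Nat) : Nat := @Bool.rec (fun _ => Nat) (Ptab_s_560_616 c) (Ptab_s_616_672 c) (Nat.ble 616 c)
noncomputable def Ptab_s_448_672 (c : Nat) : Nat := @Bool.rec (fun _ => Nat) (Ptab_s_448_560 c) (Ptab_s_560_672 c) (Nat.ble 560 c)
noncomputable def Ptab_s_673_675 (c : Nat) : Nat := @Bool.rec (fun _ => Nat) (Ptab_673) (Ptab_674) (Nat.ble 674 c)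
noncomputable def Ptab_s_672_675 (c : Nat) : Nat := @Bool.rec (fun _ => Nat) (Ptab_672) (Ptab_s_673_675 c) (Nat.ble 673 c)
noncomputable def Ptab_s_675_677 (c : Nat) : Nat := @Bool.rec (fun _ => Nat) (Ptab_675) (Ptab_676) (Nat.ble 676 c)
noncomputable def Ptab_s_677_679 (c : Nat) : Nat := @Bool.rec (fun _ => Nat) (Ptab_677) (Ptab_678) (Nat.ble 678 c)
noncomputable def Ptab_s_675_679 (c : Nat) : Nat := @Bool.rec (fun _ => Nat) (Ptab_s_675_677 c) (Ptab_s_677_679 c) (Nat.ble 677 c)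
noncomputable def Ptab_s_672_679 (c : Nat) : Nat := @Bool.rec (fun _ => Nat) (Ptab_s_672_675 c) (Ptab_s_675_679 c) (Nat.ble 675 c)
noncomputable def Ptab_s_680_682 (c : Nat) : Nat := @Bool.rec (fun _ => Nat) (Ptab_680) (Ptab_681) (Nat.ble 681 c)
noncomputable def Ptab_s_679_682 (c : Nat) : Nat := @Bool.rec (fun _ => Nat) (Ptab_679) (Ptab_s_680_682 c) (Nat.ble 680 c)
noncomputable def Ptab_s_682_684 (c : Nat) : Nat := @Bool.rec (fun _ => Nat) (Ptab_682) (Ptab_683) (Nat.ble 683 c)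
noncomputable def Ptab_s_684_686 (c : Nat) : Nat := @Bool.rec (fun _ => Nat) (Ptab_684) (Ptab_685) (Nat.ble 685 c)
noncomputable def Ptab_s_682_686 (c : Nat) : Nat := @Bool.rec (fun _ => Nat) (Ptab_s_682_684 c) (Ptab_s_684_686 c) (Nat.ble 684 c)
noncomputable def Ptab_s_679_686 (c : Nat) : Nat := @Bool.rec (fun _ => Nat) (Ptab_s_679_682 c) (Ptab_s_682_686 c) (Nat.ble 682 c)
noncomputable def Ptab_s_672_686 (c : Nat) : Nat := @Bool.rec (fun _ => Nat) (Ptab_s_672_679 c) (Ptab_s_679_686 c) (Nat.ble 679 c)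
noncomputable def Ptab_s_687_689 (c : Nat) : Nat := @Bool.rec (fun _ => Nat) (Ptab_687) (Ptab_688) (Nat.ble 688 c)
noncomputable def Ptab_s_686_689 (c : Nat) : Nat := @Bool.rec (fun _ => Nat) (Ptab_686) (Ptab_s_687_689 c) (Nat.ble 687 c)
noncomputable def Ptab_s_689_691 (c : Nat) : Nat := @Bool.rec (fun _ => Nat) (Ptab_689) (Ptab_690) (Nat.ble 690 c)
noncomputable def Ptab_s_691_693 (c : Nat) : Nat := @Bool.rec (fun _ => Nat) (Ptab_691) (Ptab_692) (Nat.ble 692 c)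
noncomputable def Ptab_s_689_693 (c : Nat) : Nat := @Bool.rec (fun _ => Nat) (Ptab_s_689_691 c) (Ptab_s_691_693 c) (Nat.ble 691 c)
noncomputable def Ptab_s_686_693 (c : Nat) : Nat := @Bool.rec (fun _ => Nat) (Ptab_s_686_689 c) (Ptab_s_689_693 c) (Nat.ble 689 c)
noncomputable def Ptab_s_694_696 (c : Nat) : Nat := @Bool.rec (fun _ => Nat) (Ptab_694) (Ptab_695) (Nat.ble 695 c)
noncomputable def Ptab_s_693_696 (c : Nat) : Nat := @Bool.rec (fun _ => Nat) (Ptab_693) (Ptab_s_694_696 c) (Nat.ble 694 c)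
noncomputable def Ptab_s_696_698 (c : Nat) : Nat := @Bool.rec (fun _ => Nat) (Ptab_696) (Ptab_697) (Nat.ble 697 c)
noncomputable def Ptab_s_698_700 (c : Nat) : Nat := @Bool.rec (fun _ => Nat) (Ptab_698) (Ptab_699) (Nat.ble 699 c)
noncomputable def Ptab_s_696_700 (c : Nat) : Nat := @Bool.rec (fun _ => Nat) (Ptab_s_696_698 c) (Ptab_s_698_700 c) (Nat.ble 698 c)
noncomputable def Ptab_s_693_700 (c : Nat) : Nat := @Bool.rec (fun _ => Nat) (Ptab_s_693_696 c) (Ptab_s_696_700 c) (Nat.ble 696 c)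
noncomputable def Ptab_s_686_700 (c : Nat) : Nat := @Bool.rec (fun _ => Nat) (Ptab_s_686_693 c) (Ptab_s_693_700 c) (Nat.ble 693 c)
noncomputable def Ptab_s_672_700 (c : Nat) : Nat := @Bool.rec (fun _ => Nat) (Ptab_s_672_686 c) (Ptab_s_686_700 c) (Nat.ble 686 c)
noncomputable def Ptab_s_701_703 (c : Nat) : Nat := @Bool.rec (fun _ => Nat) (Ptab_701) (Ptab_702) (Nat.ble 702 c)
noncomputable def Ptab_s_700_703 (c : Nat) : Nat := @Bool.rec (fun _ => Nat) (Ptab_700) (Ptab_s_701_703 c) (Nat.ble 701 c)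
noncomputable def Ptab_s_703_705 (c : Nat) : Nat := @Bool.rec (fun _ => Nat) (Ptab_703) (Ptab_704) (Nat.ble 704 c)
noncomputable def Ptab_s_705_707 (c : Nat) : Nat := @Bool.rec (fun _ => Nat) (Ptab_705) (Ptab_706) (Nat.ble 706 c)
noncomputable def Ptab_s_703_707 (c : Nat) : Nat := @Bool.rec (fun _ => Nat) (Ptab_s_703_705 c) (Ptab_s_705_707 c) (Nat.ble 705 c)
noncomputable def Ptab_s_700_707 (c : Nat) : Nat := @Bool.rec (fun _ => Nat) (Ptab_s_700_703 c) (Ptab_s_703_707 c) (Nat.ble 703 c)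
noncomputable def Ptab_s_708_710 (c : Nat) : Nat := @Bool.rec (fun _ => Nat) (Ptab_708) (Ptab_709) (Nat.ble 709 c)
noncomputable def Ptab_s_707_710 (c : Nat) : Nat := @Bool.rec (fun _ => Nat) (Ptab_707) (Ptab_s_708_710 c) (Nat.ble 708 c)
noncomputable def Ptab_s_710_712 (c : Nat) : Nat := @Bool.rec (fun _ => Nat) (Ptab_710) (Ptab_711) (Nat.ble 711 c)
noncomputable def Ptab_s_712_714 (c : Nat) : Nat := @Bool.rec (fun _ => Nat) (Ptab_712) (Ptab_713) (Nat.ble 713 c)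
noncomputable def Ptab_s_710_714 (c : Nat) : Nat := @Bool.rec (fun _ => Nat) (Ptab_s_710_712 c) (Ptab_s_712_714 c) (Nat.ble 712 c)
noncomputable def Ptab_s_707_714 (c : Nat) : Nat := @Bool.rec (fun _ => Nat) (Ptab_s_707_710 c) (Ptab_s_710_714 c) (Nat.ble 710 c)
noncomputable def Ptab_s_700_714 (c : Nat) : Nat := @Bool.rec (fun _ => Nat) (Ptab_s_700_707 c) (Ptab_s_707_714 c) (Nat.ble 707 c)
noncomputable def Ptab_s_715_717 (c : Nat) : Nat := @Bool.rec (fun _ => Nat) (Ptab_715) (Ptab_716) (Nat.ble 716 c)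
noncomputable def Ptab_s_714_717 (c : Nat) : Nat := @Bool.rec (fun _ => Nat) (Ptab_714) (Ptab_s_715_717 c) (Nat.ble 715 c)
noncomputable def Ptab_s_717_719 (c : Nat) : Nat := @Bool.rec (fun _ => Nat) (Ptab_717) (Ptab_718) (Nat.ble 718 c)
noncomputable def Ptab_s_719_721 (c : Nat) : Nat := @Bool.rec (fun _ => Nat) (Ptab_719) (Ptab_720) (Nat.ble 720 c)
noncomputable def Ptab_s_717_721 (c : Nat) : Nat := @Bool.rec (fun _ => Nat) (Ptab_s_717_719 c) (Ptab_s_719_721 c) (Nat.ble 719 c)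
noncomputable def Ptab_s_714_721 (c : Nat) : Nat := @Bool.rec (fun _ => Nat) (Ptab_s_714_717 c) (Ptab_s_717_721 c) (Nat.ble 717 c)
noncomputable def Ptab_s_722_724 (c : Nat) : Nat := @Bool.rec (fun _ => Nat) (Ptab_722) (Ptab_723) (Nat.ble 723 c)
noncomputable def Ptab_s_721_724 (c : Nat) : Nat := @Bool.rec (fun _ => Nat) (Ptab_721) (Ptab_s_722_724 c) (Nat.ble 722 c)
noncomputable def Ptab_s_724_726 (c : Nat) : Nat := @Bool.rec (fun _ => Nat) (Ptab_724) (Ptab_725) (Nat.ble 725 c)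
noncomputable def Ptab_s_726_728 (c : Nat) : Nat := @Bool.rec (fun _ => Nat) (Ptab_726) (Ptab_727) (Nat.ble 727 c)
noncomputable def Ptab_s_724_728 (c : Nat) : Nat := @Bool.rec (fun _ => Nat) (Ptab_s_724_726 c) (Ptab_s_726_728 c) (Nat.ble 726 c)
noncomputable def Ptab_s_721_728 (c : Nat) : Nat := @Bool.rec (fun _ => Nat) (Ptab_s_721_724 c) (Ptab_s_724_728 c) (Nat.ble 724 c)
noncomputable def Ptab_s_714_728 (c : Nat) : Nat := @Bool.rec (fun _ => Nat) (Ptab_s_714_721 c) (Ptab_s_721_728 c) (Nat.ble 721 c)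
noncomputable def Ptab_s_700_728 (c : Nat) : Nat := @Bool.rec (fun _ => Nat) (Ptab_s_700_714 c) (Ptab_s_714_728 c) (Nat.ble 714 c)
noncomputable def Ptab_s_672_728 (c : Nat) : Nat := @Bool.rec (fun _ => Nat) (Ptab_s_672_700 c) (Ptab_s_700_728 c) (Nat.ble 700 c)
noncomputable def Ptab_s_729_731 (c : Nat) : Nat := @Bool.rec (fun _ => Nat) (Ptab_729) (Ptab_730) (Nat.ble 730 c)
noncomputable def Ptab_s_728_731 (c : Nat) : Nat := @Bool.rec (fun _ => Nat) (Ptab_728) (Ptab_s_729_731 c) (Nat.ble 729 c)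
noncomputable def Ptab_s_731_733 (c : Nat) : Nat := @Bool.rec (fun _ => Nat) (Ptab_731) (Ptab_732) (Nat.ble 732 c)
noncomputable def Ptab_s_733_735 (c : Nat) : Nat := @Bool.rec (fun _ => Nat) (Ptab_733) (Ptab_734) (Nat.ble 734 c)
noncomputable def Ptab_s_731_735 (c : Nat) : Nat := @Bool.rec (fun _ => Nat) (Ptab_s_731_733 c) (Ptab_s_733_735 c) (Nat.ble 733 c)
noncomputable def Ptab_s_728_735 (c : Nat) : Nat := @Bool.rec (fun _ => Nat) (Ptab_s_728_731 c) (Ptab_s_731_735 c) (Nat.ble 731 c)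
noncomputable def Ptab_s_736_738 (c : Nat) : Nat := @Bool.rec (fun _ => Nat) (Ptab_736) (Ptab_737) (Nat.ble 737 c)
noncomputable def Ptab_s_735_738 (c : Nat) : Nat := @Bool.rec (fun _ => Nat) (Ptab_735) (Ptab_s_736_738 c) (Nat.ble 736 c)
noncomputable def Ptab_s_738_740 (c : Nat) : Nat := @Bool.rec (fun _ => Nat) (Ptab_738) (Ptab_739) (Nat.ble 739 c)
noncomputable def Ptab_s_740_742 (c : Nat) : Nat := @Bool.rec (fun _ => Nat) (Ptab_740) (Ptab_741) (Nat.ble 741 c)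
noncomputable def Ptab_s_738_742 (c : Nat) : Nat := @Bool.rec (fun _ => Nat) (Ptab_s_738_740 c) (Ptab_s_740_742 c) (Nat.ble 740 c)
noncomputable def Ptab_s_735_742 (c : Nat) : Nat := @Bool.rec (fun _ => Nat) (Ptab_s_735_738 c) (Ptab_s_738_742 c) (Nat.ble 738 c)
noncomputable def Ptab_s_728_742 (c : Nat) : Nat := @Bool.rec (fun _ => Nat) (Ptab_s_728_735 c) (Ptab_s_735_742 c) (Nat.ble 735 c)
noncomputable def Ptab_s_743_745 (c : Nat) : Nat := @Bool.rec (fun _ => Nat) (Ptab_743) (Ptab_744) (Nat.ble 744 c)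
noncomputable def Ptab_s_742_745 (c : Nat) : Nat := @Bool.rec (fun _ => Nat) (Ptab_742) (Ptab_s_743_745 c) (Nat.ble 743 c)
noncomputable def Ptab_s_745_747 (c : Nat) : Nat := @Bool.rec (fun _ => Nat) (Ptab_745) (Ptab_746) (Nat.ble 746 c)
noncomputable def Ptab_s_747_749 (c : Nat) : Nat := @Bool.rec (fun _ => Nat) (Ptab_747) (Ptab_748) (Nat.ble 748 c)
noncomputable def Ptab_s_745_749 (c : Nat) : Nat := @Bool.rec (fun _ => Nat) (Ptab_s_745_747 c) (Ptab_s_747_749 c) (Nat.ble 747 c)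
noncomputable def Ptab_s_742_749 (c : Nat) : Nat := @Bool.rec (fun _ => Nat) (Ptab_s_742_745 c) (Ptab_s_745_749 c) (Nat.ble 745 c)
noncomputable def Ptab_s_750_752 (c : Nat) : Nat := @Bool.rec (fun _ => Nat) (Ptab_750) (Ptab_751) (Nat.ble 751 c)
noncomputable def Ptab_s_749_752 (c : Nat) : Nat := @Bool.rec (fun _ => Nat) (Ptab_749) (Ptab_s_750_752 c) (Nat.ble 750 c)
noncomputable def Ptab_s_752_754 (c : Nat) : Nat := @Bool.rec (fun _ => Nat) (Ptab_752) (Ptab_753) (Nat.ble 753 c)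
noncomputable def Ptab_s_754_756 (c : Nat) : Nat := @Bool.rec (fun _ => Nat) (Ptab_754) (Ptab_755) (Nat.ble 755 c)
noncomputable def Ptab_s_752_756 (c : Nat) : Nat := @Bool.rec (fun _ => Nat) (Ptab_s_752_754 c) (Ptab_s_754_756 c) (Nat.ble 754 c)
noncomputable def Ptab_s_749_756 (c : Nat) : Nat := @Bool.rec (fun _ => Nat) (Ptab_s_749_752 c) (Ptab_s_752_756 c) (Nat.ble 752 c)
noncomputable def Ptab_s_742_756 (c : Nat) : Nat := @Bool.rec (fun _ => Nat) (Ptab_s_742_749 c) (Ptab_s_749_756 c) (Nat.ble 749 c)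
noncomputable def Ptab_s_728_756 (c : Nat) : Nat := @Bool.rec (fun _ => Nat) (Ptab_s_728_742 c) (Ptab_s_742_756 c) (Nat.ble 742 c)
noncomputable def Ptab_s_757_759 (c : Nat) : Nat := @Bool.rec (fun _ => Nat) (Ptab_757) (Ptab_758) (Nat.ble 758 c)
noncomputable def Ptab_s_756_759 (c : Nat) : Nat := @Bool.rec (fun _ => Nat) (Ptab_756) (Ptab_s_757_759 c) (Nat.ble 757 c)
noncomputable def Ptab_s_759_761 (c : Nat) : Nat := @Bool.rec (fun _ => Nat) (Ptab_759) (Ptab_760) (Nat.ble 760 c)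
noncomputable def Ptab_s_761_763 (c : Nat) : Nat := @Bool.rec (fun _ => Nat) (Ptab_761) (Ptab_762) (Nat.ble 762 c)
noncomputable def Ptab_s_759_763 (c : Nat) : Nat := @Bool.rec (fun _ => Nat) (Ptab_s_759_761 c) (Ptab_s_761_763 c) (Nat.ble 761 c)
noncomputable def Ptab_s_756_763 (c : Nat) : Nat := @Bool.rec (fun _ => Nat) (Ptab_s_756_759 c) (Ptab_s_759_763 c) (Nat.ble 759 c)
noncomputable def Ptab_s_764_766 (c : Nat) : Nat := @Bool.rec (fun _ => Nat) (Ptab_764) (Ptab_765) (Nat.ble 765 c)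
noncomputable def Ptab_s_763_766 (c : Nat) : Nat := @Bool.rec (fun _ => Nat) (Ptab_763) (Ptab_s_764_766 c) (Nat.ble 764 c)
noncomputable def Ptab_s_766_768 (c : Nat) : Nat := @Bool.rec (fun _ => Nat) (Ptab_766) (Ptab_767) (Nat.ble 767 c)
noncomputable def Ptab_s_768_770 (c : Nat) : Nat := @Bool.rec (fun _ => Nat) (Ptab_768) (Ptab_769) (Nat.ble 769 c)
noncomputable def Ptab_s_766_770 (c : Nat) : Nat := @Bool.rec (fun _ => Nat) (Ptab_s_766_768 c) (Ptab_s_768_770 c) (Nat.ble 768 c)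
noncomputable def Ptab_s_763_770 (c : Nat) : Nat := @Bool.rec (fun _ => Nat) (Ptab_s_763_766 c) (Ptab_s_766_770 c) (Nat.ble 766 c)
noncomputable def Ptab_s_756_770 (c : Nat) : Nat := @Bool.rec (fun _ => Nat) (Ptab_s_756_763 c) (Ptab_s_763_770 c) (Nat.ble 763 c)
noncomputable def Ptab_s_771_773 (c : Nat) : Nat := @Bool.rec (fun _ => Nat) (Ptab_771) (Ptab_772) (Nat.ble 772 c)
noncomputable def Ptab_s_770_773 (c : Nat) : Nat := @Bool.rec (fun _ => Nat) (Ptab_770) (Ptab_s_771_773 c) (Nat.ble 771 c)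
noncomputable def Ptab_s_773_775 (c : Nat) : Nat := @Bool.rec (fun _ => Nat) (Ptab_773) (Ptab_774) (Nat.ble 774 c)
noncomputable def Ptab_s_775_777 (c : Nat) : Nat := @Bool.rec (fun _ => Nat) (Ptab_775) (Ptab_776) (Nat.ble 776 c)
noncomputable def Ptab_s_773_777 (c : Nat) : Nat := @Bool.rec (fun _ => Nat) (Ptab_s_773_775 c) (Ptab_s_775_777 c) (Nat.ble 775 c)
noncomputable def Ptab_s_770_777 (c : Nat) : Nat := @Bool.rec (fun _ => Nat) (Ptab_s_770_773 c) (Ptab_s_773_777 c) (Nat.ble 773 c)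
noncomputable def Ptab_s_778_780 (c : Nat) : Nat := @Bool.rec (fun _ => Nat) (Ptab_778) (Ptab_779) (Nat.ble 779 c)
noncomputable def Ptab_s_777_780 (c : Nat) : Nat := @Bool.rec (fun _ => Nat) (Ptab_777) (Ptab_s_778_780 c) (Nat.ble 778 c)
noncomputable def Ptab_s_780_782 (c : Nat) : Nat := @Bool.rec (fun _ => Nat) (Ptab_780) (Ptab_781) (Nat.ble 781 c)
noncomputable def Ptab_s_782_784 (c : Nat) : Nat := @Bool.rec (fun _ => Nat) (Ptab_782) (Ptab_783) (Nat.ble 783 c)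
noncomputable def Ptab_s_780_784 (c : Nat) : Nat := @Bool.rec (fun _ => Nat) (Ptab_s_780_782 c) (Ptab_s_782_784 c) (Nat.ble 782 c)
noncomputable def Ptab_s_777_784 (c : Nat) : Nat := @Bool.rec (fun _ => Nat) (Ptab_s_777_780 c) (Ptab_s_780_784 c) (Nat.ble 780 c)
noncomputable def Ptab_s_770_784 (c : Nat) : Nat := @Bool.rec (fun _ => Nat) (Ptab_s_770_777 c) (Ptab_s_777_784 c) (Nat.ble 777 c)
noncomputable def Ptab_s_756_784 (c : Nat) : Nat := @Bool.rec (fun _ => Nat) (Ptab_s_756_770 c) (Ptab_s_770_784 c) (Nat.ble 770 c)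
noncomputable def Ptab_s_728_784 (c : Nat) : Nat := @Bool.rec (fun _ => Nat) (Ptab_s_728_756 c) (Ptab_s_756_784 c) (Nat.ble 756 c)
noncomputable def Ptab_s_672_784 (c : Nat) : Nat := @Bool.rec (fun _ => Nat) (Ptab_s_672_728 c) (Ptab_s_728_784 c) (Nat.ble 728 c)
noncomputable def Ptab_s_785_787 (c : Nat) : Nat := @Bool.rec (fun _ => Nat) (Ptab_785) (Ptab_786) (Nat.ble 786 c)
noncomputable def Ptab_s_784_787 (c : Nat) : Nat := @Bool.rec (fun _ => Nat) (Ptab_784) (Ptab_s_785_787 c) (Nat.ble 785 c)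
noncomputable def Ptab_s_787_789 (c : Nat) : Nat := @Bool.rec (fun _ => Nat) (Ptab_787) (Ptab_788) (Nat.ble 788 c)
noncomputable def Ptab_s_789_791 (c : Nat) : Nat := @Bool.rec (fun _ => Nat) (Ptab_789) (Ptab_790) (Nat.ble 790 c)
noncomputable def Ptab_s_787_791 (c : Nat) : Nat := @Bool.rec (fun _ => Nat) (Ptab_s_787_789 c) (Ptab_s_789_791 c) (Nat.ble 789 c)
noncomputable def Ptab_s_784_791 (c : Nat) : Nat := @Bool.rec (fun _ => Nat) (Ptab_s_784_787 c) (Ptab_s_787_791 c) (Nat.ble 787 c)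
noncomputable def Ptab_s_792_794 (c : Nat) : Nat := @Bool.rec (fun _ => Nat) (Ptab_792) (Ptab_793) (Nat.ble 793 c)
noncomputable def Ptab_s_791_794 (c : Nat) : Nat := @Bool.rec (fun _ => Nat) (Ptab_791) (Ptab_s_792_794 c) (Nat.ble 792 c)
noncomputable def Ptab_s_794_796 (c : Nat) : Nat := @Bool.rec (fun _ => Nat) (Ptab_794) (Ptab_795) (Nat.ble 795 c)
noncomputable def Ptab_s_796_798 (c : Nat) : Nat := @Bool.rec (fun _ => Nat) (Ptab_796) (Ptab_797) (Nat.ble 797 c)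
noncomputable def Ptab_s_794_798 (c : Nat) : Nat := @Bool.rec (fun _ => Nat) (Ptab_s_794_796 c) (Ptab_s_796_798 c) (Nat.ble 796 c)
noncomputable def Ptab_s_791_798 (c : Nat) : Nat := @Bool.rec (fun _ => Nat) (Ptab_s_791_794 c) (Ptab_s_794_798 c) (Nat.ble 794 c)
noncomputable def Ptab_s_784_798 (c : Nat) : Nat := @Bool.rec (fun _ => Nat) (Ptab_s_784_791 c) (Ptab_s_791_798 c) (Nat.ble 791 c)
noncomputable def Ptab_s_799_801 (c : Nat) : Nat := @Bool.rec (fun _ => Nat) (Ptab_799) (Ptab_800) (Nat.ble 800 c)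
noncomputable def Ptab_s_798_801 (c : Nat) : Nat := @Bool.rec (fun _ => Nat) (Ptab_798) (Ptab_s_799_801 c) (Nat.ble 799 c)
noncomputable def Ptab_s_801_803 (c : Nat) : Nat := @Bool.rec (fun _ => Nat) (Ptab_801) (Ptab_802) (Nat.ble 802 c)
noncomputable def Ptab_s_803_805 (c : Nat) : Nat := @Bool.rec (fun _ => Nat) (Ptab_803) (Ptab_804) (Nat.ble 804 c)
noncomputable def Ptab_s_801_805 (c : Nat) : Nat := @Bool.rec (fun _ => Nat) (Ptab_s_801_803 c) (Ptab_s_803_805 c) (Nat.ble 803 c)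
noncomputable def Ptab_s_798_805 (c : Nat) : Nat := @Bool.rec (fun _ => Nat) (Ptab_s_798_801 c) (Ptab_s_801_805 c) (Nat.ble 801 c)
noncomputable def Ptab_s_806_808 (c : Nat) : Nat := @Bool.rec (fun _ => Nat) (Ptab_806) (Ptab_807) (Nat.ble 807 c)
noncomputable def Ptab_s_805_808 (c : Nat) : Nat := @Bool.rec (fun _ => Nat) (Ptab_805) (Ptab_s_806_808 c) (Nat.ble 806 c)
noncomputable def Ptab_s_808_810 (c : Nat) : Nat := @Bool.rec (fun _ => Nat) (Ptab_808) (Ptab_809) (Nat.ble 809 c)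
noncomputable def Ptab_s_810_812 (c : Nat) : Nat := @Bool.rec (fun _ => Nat) (Ptab_810) (Ptab_811) (Nat.ble 811 c)
noncomputable def Ptab_s_808_812 (c : Nat) : Nat := @Bool.rec (fun _ => Nat) (Ptab_s_808_810 c) (Ptab_s_810_812 c) (Nat.ble 810 c)
noncomputable def Ptab_s_805_812 (c : Nat) : Nat := @Bool.rec (fun _ => Nat) (Ptab_s_805_808 c) (Ptab_s_808_812 c) (Nat.ble 808 c)
noncomputable def Ptab_s_798_812 (c : Nat) : Nat := @Bool.rec (fun _ => Nat) (Ptab_s_798_805 c) (Ptab_s_805_812 c) (Nat.ble 805 c)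
noncomputable def Ptab_s_784_812 (c : Nat) : Nat := @Bool.rec (fun _ => Nat) (Ptab_s_784_798 c) (Ptab_s_798_812 c) (Nat.ble 798 c)
noncomputable def Ptab_s_813_815 (c : Nat) : Nat := @Bool.rec (fun _ => Nat) (Ptab_813) (Ptab_814) (Nat.ble 814 c)
noncomputable def Ptab_s_812_815 (c : Nat) : Nat := @Bool.rec (fun _ => Nat) (Ptab_812) (Ptab_s_813_815 c) (Nat.ble 813 c)
noncomputable def Ptab_s_815_817 (c : Nat) : Nat := @Bool.rec (fun _ => Nat) (Ptab_815) (Ptab_816) (Nat.ble 816 c)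
noncomputable def Ptab_s_817_819 (c : Nat) : Nat := @Bool.rec (fun _ => Nat) (Ptab_817) (Ptab_818) (Nat.ble 818 c)
noncomputable def Ptab_s_815_819 (c : Nat) : Nat := @Bool.rec (fun _ => Nat) (Ptab_s_815_817 c) (Ptab_s_817_819 c) (Nat.ble 817 c)
noncomputable def Ptab_s_812_819 (c : Nat) : Nat := @Bool.rec (fun _ => Nat) (Ptab_s_812_815 c) (Ptab_s_815_819 c) (Nat.ble 815 c)
noncomputable def Ptab_s_820_822 (c : Nat) : Nat := @Bool.rec (fun _ => Nat) (Ptab_820) (Ptab_821) (Nat.ble 821 c)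
noncomputable def Ptab_s_819_822 (c : Nat) : Nat := @Bool.rec (fun _ => Nat) (Ptab_819) (Ptab_s_820_822 c) (Nat.ble 820 c)
noncomputable def Ptab_s_822_824 (c : Nat) : Nat := @Bool.rec (fun _ => Nat) (Ptab_822) (Ptab_823) (Nat.ble 823 c)
noncomputable def Ptab_s_824_826 (c : Nat) : Nat := @Bool.rec (fun _ => Nat) (Ptab_824) (Ptab_825) (Nat.ble 825 c)
noncomputable def Ptab_s_822_826 (c : Nat) : Nat := @Bool.rec (fun _ => Nat) (Ptab_s_822_824 c) (Ptab_s_824_826 c) (Nat.ble 824 c)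
noncomputable def Ptab_s_819_826 (c : Nat) : Nat := @Bool.rec (fun _ => Nat) (Ptab_s_819_822 c) (Ptab_s_822_826 c) (Nat.ble 822 c)
noncomputable def Ptab_s_812_826 (c : Nat) : Nat := @Bool.rec (fun _ => Nat) (Ptab_s_812_819 c) (Ptab_s_819_826 c) (Nat.ble 819 c)
noncomputable def Ptab_s_827_829 (c : Nat) : Nat := @Bool.rec (fun _ => Nat) (Ptab_827) (Ptab_828) (Nat.ble 828 c)
noncomputable def Ptab_s_826_829 (c : Nat) : Nat := @Bool.rec (fun _ => Nat) (Ptab_826) (Ptab_s_827_829 c) (Nat.ble 827 c)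
noncomputable def Ptab_s_829_831 (c : Nat) : Nat := @Bool.rec (fun _ => Nat) (Ptab_829) (Ptab_830) (Nat.ble 830 c)
noncomputable def Ptab_s_831_833 (c : Nat) : Nat := @Bool.rec (fun _ => Nat) (Ptab_831) (Ptab_832) (Nat.ble 832 c)
noncomputable def Ptab_s_829_833 (c : Nat) : Nat := @Bool.rec (fun _ => Nat) (Ptab_s_829_831 c) (Ptab_s_831_833 c) (Nat.ble 831 c)
noncomputable def Ptab_s_826_833 (c : Nat) : Nat := @Bool.rec (fun _ => Nat) (Ptab_s_826_829 c) (Ptab_s_829_833 c) (Nat.ble 829 c)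
noncomputable def Ptab_s_834_836 (c : Nat) : Nat := @Bool.rec (fun _ => Nat) (Ptab_834) (Ptab_835) (Nat.ble 835 c)
noncomputable def Ptab_s_833_836 (c : Nat) : Nat := @Bool.rec (fun _ => Nat) (Ptab_833) (Ptab_s_834_836 c) (Nat.ble 834 c)
noncomputable def Ptab_s_836_838 (c : Nat) : Nat := @Bool.rec (fun _ => Nat) (Ptab_836) (Ptab_837) (Nat.ble 837 c)
noncomputable def Ptab_s_838_840 (c : Nat) : Nat := @Bool.rec (fun _ => Nat) (Ptab_838) (Ptab_839) (Nat.ble 839 c)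
noncomputable def Ptab_s_836_840 (c : Nat) : Nat := @Bool.rec (fun _ => Nat) (Ptab_s_836_838 c) (Ptab_s_838_840 c) (Nat.ble 838 c)
noncomputable def Ptab_s_833_840 (c : Nat) : Nat := @Bool.rec (fun _ => Nat) (Ptab_s_833_836 c) (Ptab_s_836_840 c) (Nat.ble 836 c)
noncomputable def Ptab_s_826_840 (c : Nat) : Nat := @Bool.rec (fun _ => Nat) (Ptab_s_826_833 c) (Ptab_s_833_840 c) (Nat.ble 833 c)
noncomputable def Ptab_s_812_840 (c : Nat) : Nat := @Bool.rec (fun _ => Nat) (Ptab_s_812_826 c) (Ptab_s_826_840 c) (Nat.ble 826 c)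
noncomputable def Ptab_s_784_840 (c : Nat) : Nat := @Bool.rec (fun _ => Nat) (Ptab_s_784_812 c) (Ptab_s_812_840 c) (Nat.ble 812 c)
noncomputable def Ptab_s_841_843 (c : Nat) : Nat := @Bool.rec (fun _ => Nat) (Ptab_841) (Ptab_842) (Nat.ble 842 c)
noncomputable def Ptab_s_840_843 (c : Nat) : Nat := @Bool.rec (fun _ => Nat) (Ptab_840) (Ptab_s_841_843 c) (Nat.ble 841 c)
noncomputable def Ptab_s_843_845 (c : Nat) : Nat := @Bool.rec (fun _ => Nat) (Ptab_843) (Ptab_844) (Nat.ble 844 c)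
noncomputable def Ptab_s_845_847 (c : Nat) : Nat := @Bool.rec (fun _ => Nat) (Ptab_845) (Ptab_846) (Nat.ble 846 c)
noncomputable def Ptab_s_843_847 (c : Nat) : Nat := @Bool.rec (fun _ => Nat) (Ptab_s_843_845 c) (Ptab_s_845_847 c) (Nat.ble 845 c)
noncomputable def Ptab_s_840_847 (c : Nat) : Nat := @Bool.rec (fun _ => Nat) (Ptab_s_840_843 c) (Ptab_s_843_847 c) (Nat.ble 843 c)
noncomputable def Ptab_s_848_850 (c : Nat) : Nat := @Bool.rec (fun _ => Nat) (Ptab_848) (Ptab_849) (Nat.ble 849 c)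
noncomputable def Ptab_s_847_850 (c : Nat) : Nat := @Bool.rec (fun _ => Nat) (Ptab_847) (Ptab_s_848_850 c) (Nat.ble 848 c)
noncomputable def Ptab_s_850_852 (c : Nat) : Nat := @Bool.rec (fun _ => Nat) (Ptab_850) (Ptab_851) (Nat.ble 851 c)
noncomputable def Ptab_s_852_854 (c : Nat) : Nat := @Bool.rec (fun _ => Nat) (Ptab_852) (Ptab_853) (Nat.ble 853 c)
noncomputable def Ptab_s_850_854 (c : Nat) : Nat := @Bool.rec (fun _ => Nat) (Ptab_s_850_852 c) (Ptab_s_852_854 c) (Nat.ble 852 c)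
noncomputable def Ptab_s_847_854 (c : Nat) : Nat := @Bool.rec (fun _ => Nat) (Ptab_s_847_850 c) (Ptab_s_850_854 c) (Nat.ble 850 c)
noncomputable def Ptab_s_840_854 (c : Nat) : Nat := @Bool.rec (fun _ => Nat) (Ptab_s_840_847 c) (Ptab_s_847_854 c) (Nat.ble 847 c)
noncomputable def Ptab_s_855_857 (c : Nat) : Nat := @Bool.rec (fun _ => Nat) (Ptab_855) (Ptab_856) (Nat.ble 856 c)
noncomputable def Ptab_s_854_857 (c : Nat) : Nat := @Bool.rec (fun _ => Nat) (Ptab_854) (Ptab_s_855_857 c) (Nat.ble 855 c)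
noncomputable def Ptab_s_857_859 (c : Nat) : Nat := @Bool.rec (fun _ => Nat) (Ptab_857) (Ptab_858) (Nat.ble 858 c)
noncomputable def Ptab_s_859_861 (c : Nat) : Nat := @Bool.rec (fun _ => Nat) (Ptab_859) (Ptab_860) (Nat.ble 860 c)
noncomputable def Ptab_s_857_861 (c : Nat) : Nat := @Bool.rec (fun _ => Nat) (Ptab_s_857_859 c) (Ptab_s_859_861 c) (Nat.ble 859 c)
noncomputable def Ptab_s_854_861 (c : Nat) : Nat := @Bool.rec (fun _ => Nat) (Ptab_s_854_857 c) (Ptab_s_857_861 c) (Nat.ble 857 c)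
noncomputable def Ptab_s_862_864 (c : Nat) : Nat := @Bool.rec (fun _ => Nat) (Ptab_862) (Ptab_863) (Nat.ble 863 c)
noncomputable def Ptab_s_861_864 (c : Nat) : Nat := @Bool.rec (fun _ => Nat) (Ptab_861) (Ptab_s_862_864 c) (Nat.ble 862 c)
noncomputable def Ptab_s_864_866 (c : Nat) : Nat := @Bool.rec (fun _ => Nat) (Ptab_864) (Ptab_865) (Nat.ble 865 c)
noncomputable def Ptab_s_866_868 (c : Nat) : Nat := @Bool.rec (fun _ => Nat) (Ptab_866) (Ptab_867) (Nat.ble 867 c)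
noncomputable def Ptab_s_864_868 (c : Nat) : Nat := @Bool.rec (fun _ => Nat) (Ptab_s_864_866 c) (Ptab_s_866_868 c) (Nat.ble 866 c)
noncomputable def Ptab_s_861_868 (c : Nat) : Nat := @Bool.rec (fun _ => Nat) (Ptab_s_861_864 c) (Ptab_s_864_868 c) (Nat.ble 864 c)
noncomputable def Ptab_s_854_868 (c : Nat) : Nat := @Bool.rec (fun _ => Nat) (Ptab_s_854_861 c) (Ptab_s_861_868 c) (Nat.ble 861 c)
noncomputable def Ptab_s_840_868 (c : Nat) : Nat := @Bool.rec (fun _ => Nat) (Ptab_s_840_854 c) (Ptab_s_854_868 c) (Nat.ble 854 c)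
noncomputable def Ptab_s_869_871 (c : Nat) : Nat := @Bool.rec (fun _ => Nat) (Ptab_869) (Ptab_870) (Nat.ble 870 c)
noncomputable def Ptab_s_868_871 (c : Nat) : Nat := @Bool.rec (fun _ => Nat) (Ptab_868) (Ptab_s_869_871 c) (Nat.ble 869 c)
noncomputable def Ptab_s_871_873 (c : Nat) : Nat := @Bool.rec (fun _ => Nat) (Ptab_871) (Ptab_872) (Nat.ble 872 c)
noncomputable def Ptab_s_873_875 (c : Nat) : Nat := @Bool.rec (fun _ => Nat) (Ptab_873) (Ptab_874) (Nat.ble 874 c)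
noncomputable def Ptab_s_871_875 (c : Nat) : Nat := @Bool.rec (fun _ => Nat) (Ptab_s_871_873 c) (Ptab_s_873_875 c) (Nat.ble 873 c)
noncomputable def Ptab_s_868_875 (c : Nat) : Nat := @Bool.rec (fun _ => Nat) (Ptab_s_868_871 c) (Ptab_s_871_875 c) (Nat.ble 871 c)
noncomputable def Ptab_s_876_878 (c : Nat) : Nat := @Bool.rec (fun _ => Nat) (Ptab_876) (Ptab_877) (Nat.ble 877 c)
noncomputable def Ptab_s_875_878 (c : Nat) : Nat := @Bool.rec (fun _ => Nat) (Ptab_875) (Ptab_s_876_878 c) (Nat.ble 876 c)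
noncomputable def Ptab_s_878_880 (c : Nat) : Nat := @Bool.rec (fun _ => Nat) (Ptab_878) (Ptab_879) (Nat.ble 879 c)
noncomputable def Ptab_s_880_882 (c : Nat) : Nat := @Bool.rec (fun _ => Nat) (Ptab_880) (Ptab_881) (Nat.ble 881 c)
noncomputable def Ptab_s_878_882 (c : Nat) : Nat := @Bool.rec (fun _ => Nat) (Ptab_s_878_880 c) (Ptab_s_880_882 c) (Nat.ble 880 c)
noncomputable def Ptab_s_875_882 (c : Nat) : Nat := @Bool.rec (fun _ => Nat) (Ptab_s_875_878 c) (Ptab_s_878_882 c) (Nat.ble 878 c)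
noncomputable def Ptab_s_868_882 (c : Nat) : Nat := @Bool.rec (fun _ => Nat) (Ptab_s_868_875 c) (Ptab_s_875_882 c) (Nat.ble 875 c)
noncomputable def Ptab_s_883_885 (c : Nat) : Nat := @Bool.rec (fun _ => Nat) (Ptab_883) (Ptab_884) (Nat.ble 884 c)
noncomputable def Ptab_s_882_885 (c : Nat) : Nat := @Bool.rec (fun _ => Nat) (Ptab_882) (Ptab_s_883_885 c) (Nat.ble 883 c)
noncomputable def Ptab_s_885_887 (c : Nat) : Nat := @Bool.rec (fun _ => Nat) (Ptab_885) (Ptab_886) (Nat.ble 886 c)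
noncomputable def Ptab_s_887_889 (c : Nat) : Nat := @Bool.rec (fun _ => Nat) (Ptab_887) (Ptab_888) (Nat.ble 888 c)
noncomputable def Ptab_s_885_889 (c : Nat) : Nat := @Bool.rec (fun _ => Nat) (Ptab_s_885_887 c) (Ptab_s_887_889 c) (Nat.ble 887 c)
noncomputable def Ptab_s_882_889 (c : Nat) : Nat := @Bool.rec (fun _ => Nat) (Ptab_s_882_885 c) (Ptab_s_885_889 c) (Nat.ble 885 c)
noncomputable def Ptab_s_889_891 (c : Nat) : Nat := @Bool.rec (fun _ => Nat) (Ptab_889) (Ptab_890) (Nat.ble 890 c)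
noncomputable def Ptab_s_891_893 (c : Nat) : Nat := @Bool.rec (fun _ => Nat) (Ptab_891) (Ptab_892) (Nat.ble 892 c)
noncomputable def Ptab_s_889_893 (c : Nat) : Nat := @Bool.rec (fun _ => Nat) (Ptab_s_889_891 c) (Ptab_s_891_893 c) (Nat.ble 891 c)
noncomputable def Ptab_s_893_895 (c : Nat) : Nat := @Bool.rec (fun _ => Nat) (Ptab_893) (Ptab_894) (Nat.ble 894 c)
noncomputable def Ptab_s_895_897 (c : Nat) : Nat := @Bool.rec (fun _ => Nat) (Ptab_895) (Ptab_896) (Nat.ble 896 c)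
noncomputable def Ptab_s_893_897 (c : Nat) : Nat := @Bool.rec (fun _ => Nat) (Ptab_s_893_895 c) (Ptab_s_895_897 c) (Nat.ble 895 c)
noncomputable def Ptab_s_889_897 (c : Nat) : Nat := @Bool.rec (fun _ => Nat) (Ptab_s_889_893 c) (Ptab_s_893_897 c) (Nat.ble 893 c)
noncomputable def Ptab_s_882_897 (c : Nat) : Nat := @Bool.rec (fun _ => Nat) (Ptab_s_882_889 c) (Ptab_s_889_897 c) (Nat.ble 889 c)
noncomputable def Ptab_s_868_897 (c : Nat) : Nat := @Bool.rec (fun _ => Nat) (Ptab_s_868_882 c) (Ptab_s_882_897 c) (Nat.ble 882 c)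
noncomputable def Ptab_s_840_897 (c : Nat) : Nat := @Bool.rec (fun _ => Nat) (Ptab_s_840_868 c) (Ptab_s_868_897 c) (Nat.ble 868 c)
noncomputable def Ptab_s_784_897 (c : Nat) : Nat := @Bool.rec (fun _ => Nat) (Ptab_s_784_840 c) (Ptab_s_840_897 c) (Nat.ble 840 c)
noncomputable def Ptab_s_672_897 (c : Nat) : Nat := @Bool.rec (fun _ => Nat) (Ptab_s_672_784 c) (Ptab_s_784_897 c) (Nat.ble 784 c)
noncomputable def Ptab_s_448_897 (c : Nat) : Nat := @Bool.rec (fun _ => Nat) (Ptab_s_448_672 c) (Ptab_s_672_897 c) (Nat.ble 672 c)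
noncomputable def Ptab_s_0_897 (c : Nat) : Nat := @Bool.rec (fun _ => Nat) (Ptab_s_0_448 c) (Ptab_s_448_897 c) (Nat.ble 448 c)
noncomputable def Ptab (i : Nat) : Nat := rdw 20 1048575 (Ptab_s_0_897 (Nat.shiftRight i 12)) (Nat.land i 4095)
noncomputable def RRtab (i : Nat) : Nat := rdw 6 63 RRtab_0 i
noncomputable def rBtab (i : Nat) : Nat := rdw 13 8191 rBtab_0 i
noncomputable def rLtab (i : Nat) : Nat := rdw 8 255 rLtab_0 i
noncomputable def nameTab_s_0_2 (c : Nat) : Nat := @Bool.rec (fun _ => Nat) (nameTab_0) (nameTab_1) (Nat.ble 1 c)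
noncomputable def nameTab_s_2_4 (c : Nat) : Nat := @Bool.rec (fun _ => Nat) (nameTab_2) (nameTab_3) (Nat.ble 3 c)
noncomputable def nameTab_s_0_4 (c : Nat) : Nat := @Bool.rec (fun _ => Nat) (nameTab_s_0_2 c) (nameTab_s_2_4 c) (Nat.ble 2 c)
noncomputable def nameTab (i : Nat) : Nat := rdw 16 65535 (nameTab_s_0_4 (Nat.shiftRight i 12)) (Nat.land i 4095)
noncomputable def col0_s_0_2 (c : Nat) : Nat := @Bool.rec (fun _ => Nat) (col0_0) (col0_1) (Nat.ble 1 c)
noncomputable def col0_s_2_4 (c : Nat) : Nat := @Bool.rec (fun _ => Nat) (col0_2) (col0_3) (Nat.ble 3 c)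
noncomputable def col0_s_0_4 (c : Nat) : Nat := @Bool.rec (fun _ => Nat) (col0_s_0_2 c) (col0_s_2_4 c) (Nat.ble 2 c)
noncomputable def col0 (i : Nat) : Nat := rdw 14 16383 (col0_s_0_4 (Nat.shiftRight i 12)) (Nat.land i 4095)
noncomputable def col1_s_0_2 (c : Nat) : Nat := @Bool.rec (fun _ => Nat) (col1_0) (col1_1) (Nat.ble 1 c)
noncomputable def col1_s_2_4 (c : Nat) : Nat := @Bool.rec (fun _ => Nat) (col1_2) (col1_3) (Nat.ble 3 c)
noncomputable def col1_s_0_4 (c : Nat) : Nat := @Bool.rec (fun _ => Nat) (col1_s_0_2 c) (col1_s_2_4 c) (Nat.ble 2 c)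
noncomputable def col1 (i : Nat) : Nat := rdw 14 16383 (col1_s_0_4 (Nat.shiftRight i 12)) (Nat.land i 4095)
noncomputable def col2_s_0_2 (c : Nat) : Nat := @Bool.rec (fun _ => Nat) (col2_0) (col2_1) (Nat.ble 1 c)
noncomputable def col2_s_2_4 (c : Nat) : Nat := @Bool.rec (fun _ => Nat) (col2_2) (col2_3) (Nat.ble 3 c)
noncomputable def col2_s_0_4 (c : Nat) : Nat := @Bool.rec (fun _ => Nat) (col2_s_0_2 c) (col2_s_2_4 c) (Nat.ble 2 c)
noncomputable def col2 (i : Nat) : Nat := rdw 14 16383 (col2_s_0_4 (Nat.shiftRight i 12)) (Nat.land i 4095)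
noncomputable def col3_s_0_2 (c : Nat) : Nat := @Bool.rec (fun _ => Nat) (col3_0) (col3_1) (Nat.ble 1 c)
noncomputable def col3_s_2_4 (c : Nat) : Nat := @Bool.rec (fun _ => Nat) (col3_2) (col3_3) (Nat.ble 3 c)
noncomputable def col3_s_0_4 (c : Nat) : Nat := @Bool.rec (fun _ => Nat) (col3_s_0_2 c) (col3_s_2_4 c) (Nat.ble 2 c)
noncomputable def col3 (i : Nat) : Nat := rdw 14 16383 (col3_s_0_4 (Nat.shiftRight i 12)) (Nat.land i 4095)
noncomputable def col4_s_0_2 (c : Nat) : Nat := @Bool.rec (fun _ => Nat) (col4_0) (col4_1) (Nat.ble 1 c)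
noncomputable def col4_s_2_4 (c : Nat) : Nat := @Bool.rec (fun _ => Nat) (col4_2) (col4_3) (Nat.ble 3 c)
noncomputable def col4_s_0_4 (c : Nat) : Nat := @Bool.rec (fun _ => Nat) (col4_s_0_2 c) (col4_s_2_4 c) (Nat.ble 2 c)
noncomputable def col4 (i : Nat) : Nat := rdw 14 16383 (col4_s_0_4 (Nat.shiftRight i 12)) (Nat.land i 4095)
noncomputable def col5_s_0_2 (c : Nat) : Nat := @Bool.rec (fun _ => Nat) (col5_0) (col5_1) (Nat.ble 1 c)
noncomputable def col5_s_2_4 (c : Nat) : Nat := @Bool.rec (fun _ => Nat) (col5_2) (col5_3) (Nat.ble 3 c)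
noncomputable def col5_s_0_4 (c : Nat) : Nat := @Bool.rec (fun _ => Nat) (col5_s_0_2 c) (col5_s_2_4 c) (Nat.ble 2 c)
noncomputable def col5 (i : Nat) : Nat := rdw 14 16383 (col5_s_0_4 (Nat.shiftRight i 12)) (Nat.land i 4095)
noncomputable def col6_s_0_2 (c : Nat) : Nat := @Bool.rec (fun _ => Nat) (col6_0) (col6_1) (Nat.ble 1 c)
noncomputable def col6_s_2_4 (c : Nat) : Nat := @Bool.rec (fun _ => Nat) (col6_2) (col6_3) (Nat.ble 3 c)
noncomputable def col6_s_0_4 (c : Nat) : Nat := @Bool.rec (fun _ => Nat) (col6_s_0_2 c) (col6_s_2_4 c) (Nat.ble 2 c)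
noncomputable def col6 (i : Nat) : Nat := rdw 14 16383 (col6_s_0_4 (Nat.shiftRight i 12)) (Nat.land i 4095)
noncomputable def col7_s_0_2 (c : Nat) : Nat := @Bool.rec (fun _ => Nat) (col7_0) (col7_1) (Nat.ble 1 c)
noncomputable def col7_s_2_4 (c : Nat) : Nat := @Bool.rec (fun _ => Nat) (col7_2) (col7_3) (Nat.ble 3 c)
noncomputable def col7_s_0_4 (c : Nat) : Nat := @Bool.rec (fun _ => Nat) (col7_s_0_2 c) (col7_s_2_4 c) (Nat.ble 2 c)
noncomputable def col7 (i : Nat) : Nat := rdw 14 16383 (col7_s_0_4 (Nat.shiftRight i 12)) (Nat.land i 4095)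
noncomputable def col8_s_0_2 (c : Nat) : Nat := @Bool.rec (fun _ => Nat) (col8_0) (col8_1) (Nat.ble 1 c)
noncomputable def col8_s_2_4 (c : Nat) : Nat := @Bool.rec (fun _ => Nat) (col8_2) (col8_3) (Nat.ble 3 c)
noncomputable def col8_s_0_4 (c : Nat) : Nat := @Bool.rec (fun _ => Nat) (col8_s_0_2 c) (col8_s_2_4 c) (Nat.ble 2 c)
noncomputable def col8 (i : Nat) : Nat := rdw 14 16383 (col8_s_0_4 (Nat.shiftRight i 12)) (Nat.land i 4095)
noncomputable def col9_s_0_2 (c : Nat) : Nat := @Bool.rec (fun _ => Nat) (col9_0) (col9_1) (Nat.ble 1 c)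
noncomputable def col9_s_2_4 (c : Nat) : Nat := @Bool.rec (fun _ => Nat) (col9_2) (col9_3) (Nat.ble 3 c)
noncomputable def col9_s_0_4 (c : Nat) : Nat := @Bool.rec (fun _ => Nat) (col9_s_0_2 c) (col9_s_2_4 c) (Nat.ble 2 c)
noncomputable def col9 (i : Nat) : Nat := rdw 14 16383 (col9_s_0_4 (Nat.shiftRight i 12)) (Nat.land i 4095)
noncomputable def col10_s_0_2 (c : Nat) : Nat := @Bool.rec (fun _ => Nat) (col10_0) (col10_1) (Nat.ble 1 c)
noncomputable def col10_s_2_4 (c : Nat) : Nat := @Bool.rec (fun _ => Nat) (col10_2) (col10_3) (Nat.ble 3 c)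
noncomputable def col10_s_0_4 (c : Nat) : Nat := @Bool.rec (fun _ => Nat) (col10_s_0_2 c) (col10_s_2_4 c) (Nat.ble 2 c)
noncomputable def col10 (i : Nat) : Nat := rdw 14 16383 (col10_s_0_4 (Nat.shiftRight i 12)) (Nat.land i 4095)
noncomputable def col11_s_0_2 (c : Nat) : Nat := @Bool.rec (fun _ => Nat) (col11_0) (col11_1) (Nat.ble 1 c)
noncomputable def col11_s_2_4 (c : Nat) : Nat := @Bool.rec (fun _ => Nat) (col11_2) (col11_3) (Nat.ble 3 c)
noncomputable def col11_s_0_4 (c : Nat) : Nat := @Bool.rec (fun _ => Nat) (col11_s_0_2 c) (col11_s_2_4 c) (Nat.ble 2 c)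
noncomputable def col11 (i : Nat) : Nat := rdw 14 16383 (col11_s_0_4 (Nat.shiftRight i 12)) (Nat.land i 4095)
noncomputable def col12_s_0_2 (c : Nat) : Nat := @Bool.rec (fun _ => Nat) (col12_0) (col12_1) (Nat.ble 1 c)
noncomputable def col12_s_2_4 (c : Nat) : Nat := @Bool.rec (fun _ => Nat) (col12_2) (col12_3) (Nat.ble 3 c)
noncomputable def col12_s_0_4 (c : Nat) : Nat := @Bool.rec (fun _ => Nat) (col12_s_0_2 c) (col12_s_2_4 c) (Nat.ble 2 c)
noncomputable def col12 (i : Nat) : Nat := rdw 14 16383 (col12_s_0_4 (Nat.shiftRight i 12)) (Nat.land i 4095)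
noncomputable def col13_s_0_2 (c : Nat) : Nat := @Bool.rec (fun _ => Nat) (col13_0) (col13_1) (Nat.ble 1 c)
noncomputable def col13_s_2_4 (c : Nat) : Nat := @Bool.rec (fun _ => Nat) (col13_2) (col13_3) (Nat.ble 3 c)
noncomputable def col13_s_0_4 (c : Nat) : Nat := @Bool.rec (fun _ => Nat) (col13_s_0_2 c) (col13_s_2_4 c) (Nat.ble 2 c)
noncomputable def col13 (i : Nat) : Nat := rdw 14 16383 (col13_s_0_4 (Nat.shiftRight i 12)) (Nat.land i 4095)
noncomputable def col14_s_0_2 (c : Nat) : Nat := @Bool.rec (fun _ => Nat) (col14_0) (col14_1) (Nat.ble 1 c)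
noncomputable def col14_s_2_4 (c : Nat) : Nat := @Bool.rec (fun _ => Nat) (col14_2) (col14_3) (Nat.ble 3 c)
noncomputable def col14_s_0_4 (c : Nat) : Nat := @Bool.rec (fun _ => Nat) (col14_s_0_2 c) (col14_s_2_4 c) (Nat.ble 2 c)
noncomputable def col14 (i : Nat) : Nat := rdw 14 16383 (col14_s_0_4 (Nat.shiftRight i 12)) (Nat.land i 4095)
noncomputable def col15_s_0_2 (c : Nat) : Nat := @Bool.rec (fun _ => Nat) (col15_0) (col15_1) (Nat.ble 1 c)
noncomputable def col15_s_2_4 (c : Nat) : Nat := @Bool.rec (fun _ => Nat) (col15_2) (col15_3) (Nat.ble 3 c)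
noncomputable def col15_s_0_4 (c : Nat) : Nat := @Bool.rec (fun _ => Nat) (col15_s_0_2 c) (col15_s_2_4 c) (Nat.ble 2 c)
noncomputable def col15 (i : Nat) : Nat := rdw 14 16383 (col15_s_0_4 (Nat.shiftRight i 12)) (Nat.land i 4095)
noncomputable def col16_s_0_2 (c : Nat) : Nat := @Bool.rec (fun _ => Nat) (col16_0) (col16_1) (Nat.ble 1 c)
noncomputable def col16_s_2_4 (c : Nat) : Nat := @Bool.rec (fun _ => Nat) (col16_2) (col16_3) (Nat.ble 3 c)
noncomputable def col16_s_0_4 (c : Nat) : Nat := @Bool.rec (fun _ => Nat) (col16_s_0_2 c) (col16_s_2_4 c) (Nat.ble 2 c)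
noncomputable def col16 (i : Nat) : Nat := rdw 14 16383 (col16_s_0_4 (Nat.shiftRight i 12)) (Nat.land i 4095)
noncomputable def col17_s_0_2 (c : Nat) : Nat := @Bool.rec (fun _ => Nat) (col17_0) (col17_1) (Nat.ble 1 c)
noncomputable def col17_s_2_4 (c : Nat) : Nat := @Bool.rec (fun _ => Nat) (col17_2) (col17_3) (Nat.ble 3 c)
noncomputable def col17_s_0_4 (c : Nat) : Nat := @Bool.rec (fun _ => Nat) (col17_s_0_2 c) (col17_s_2_4 c) (Nat.ble 2 c)
noncomputable def col17 (i : Nat) : Nat := rdw 14 16383 (col17_s_0_4 (Nat.shiftRight i 12)) (Nat.land i 4095)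
noncomputable def col18_s_0_2 (c : Nat) : Nat := @Bool.rec (fun _ => Nat) (col18_0) (col18_1) (Nat.ble 1 c)
noncomputable def col18_s_2_4 (c : Nat) : Nat := @Bool.rec (fun _ => Nat) (col18_2) (col18_3) (Nat.ble 3 c)
noncomputable def col18_s_0_4 (c : Nat) : Nat := @Bool.rec (fun _ => Nat) (col18_s_0_2 c) (col18_s_2_4 c) (Nat.ble 2 c)
noncomputable def col18 (i : Nat) : Nat := rdw 14 16383 (col18_s_0_4 (Nat.shiftRight i 12)) (Nat.land i 4095)
noncomputable def col19_s_0_2 (c : Nat) : Nat := @Bool.rec (fun _ => Nat) (col19_0) (col19_1) (Nat.ble 1 c)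
noncomputable def col19_s_2_4 (c : Nat) : Nat := @Bool.rec (fun _ => Nat) (col19_2) (col19_3) (Nat.ble 3 c)
noncomputable def col19_s_0_4 (c : Nat) : Nat := @Bool.rec (fun _ => Nat) (col19_s_0_2 c) (col19_s_2_4 c) (Nat.ble 2 c)
noncomputable def col19 (i : Nat) : Nat := rdw 14 16383 (col19_s_0_4 (Nat.shiftRight i 12)) (Nat.land i 4095)
noncomputable def col20_s_0_2 (c : Nat) : Nat := @Bool.rec (fun _ => Nat) (col20_0) (col20_1) (Nat.ble 1 c)
noncomputable def col20_s_2_4 (c : Nat) : Nat := @Bool.rec (fun _ => Nat) (col20_2) (col20_3) (Nat.ble 3 c)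
noncomputable def col20_s_0_4 (c : Nat) : Nat := @Bool.rec (fun _ => Nat) (col20_s_0_2 c) (col20_s_2_4 c) (Nat.ble 2 c)
noncomputable def col20 (i : Nat) : Nat := rdw 14 16383 (col20_s_0_4 (Nat.shiftRight i 12)) (Nat.land i 4095)
noncomputable def col21_s_0_2 (c : Nat) : Nat := @Bool.rec (fun _ => Nat) (col21_0) (col21_1) (Nat.ble 1 c)
noncomputable def col21_s_2_4 (c : Nat) : Nat := @Bool.rec (fun _ => Nat) (col21_2) (col21_3) (Nat.ble 3 c)
noncomputable def col21_s_0_4 (c : Nat) : Nat := @Bool.rec (fun _ => Nat) (col21_s_0_2 c) (col21_s_2_4 c) (Nat.ble 2 c)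
noncomputable def col21 (i : Nat) : Nat := rdw 14 16383 (col21_s_0_4 (Nat.shiftRight i 12)) (Nat.land i 4095)
noncomputable def col22_s_0_2 (c : Nat) : Nat := @Bool.rec (fun _ => Nat) (col22_0) (col22_1) (Nat.ble 1 c)
noncomputable def col22_s_2_4 (c : Nat) : Nat := @Bool.rec (fun _ => Nat) (col22_2) (col22_3) (Nat.ble 3 c)
noncomputable def col22_s_0_4 (c : Nat) : Nat := @Bool.rec (fun _ => Nat) (col22_s_0_2 c) (col22_s_2_4 c) (Nat.ble 2 c)
noncomputable def col22 (i : Nat) : Nat := rdw 14 16383 (col22_s_0_4 (Nat.shiftRight i 12)) (Nat.land i 4095)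
noncomputable def col23_s_0_2 (c : Nat) : Nat := @Bool.rec (fun _ => Nat) (col23_0) (col23_1) (Nat.ble 1 c)
noncomputable def col23_s_2_4 (c : Nat) : Nat := @Bool.rec (fun _ => Nat) (col23_2) (col23_3) (Nat.ble 3 c)
noncomputable def col23_s_0_4 (c : Nat) : Nat := @Bool.rec (fun _ => Nat) (col23_s_0_2 c) (col23_s_2_4 c) (Nat.ble 2 c)
noncomputable def col23 (i : Nat) : Nat := rdw 14 16383 (col23_s_0_4 (Nat.shiftRight i 12)) (Nat.land i 4095)
noncomputable def col24_s_0_2 (c : Nat) : Nat := @Bool.rec (fun _ => Nat) (col24_0) (col24_1) (Nat.ble 1 c)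
noncomputable def col24_s_2_4 (c : Nat) : Nat := @Bool.rec (fun _ => Nat) (col24_2) (col24_3) (Nat.ble 3 c)
noncomputable def col24_s_0_4 (c : Nat) : Nat := @Bool.rec (fun _ => Nat) (col24_s_0_2 c) (col24_s_2_4 c) (Nat.ble 2 c)
noncomputable def col24 (i : Nat) : Nat := rdw 14 16383 (col24_s_0_4 (Nat.shiftRight i 12)) (Nat.land i 4095)
noncomputable def col25_s_0_2 (c : Nat) : Nat := @Bool.rec (fun _ => Nat) (col25_0) (col25_1) (Nat.ble 1 c)
noncomputable def col25_s_2_4 (c : Nat) : Nat := @Bool.rec (fun _ => Nat) (col25_2) (col25_3) (Nat.ble 3 c)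
noncomputable def col25_s_0_4 (c : Nat) : Nat := @Bool.rec (fun _ => Nat) (col25_s_0_2 c) (col25_s_2_4 c) (Nat.ble 2 c)
noncomputable def col25 (i : Nat) : Nat := rdw 14 16383 (col25_s_0_4 (Nat.shiftRight i 12)) (Nat.land i 4095)
noncomputable def finTab_s_0_2 (c : Nat) : Nat := @Bool.rec (fun _ => Nat) (finTab_0) (finTab_1) (Nat.ble 1 c)
noncomputable def finTab_s_3_5 (c : Nat) : Nat := @Bool.rec (fun _ => Nat) (finTab_3) (finTab_4) (Nat.ble 4 c)
noncomputable def finTab_s_2_5 (c : Nat) : Nat := @Bool.rec (fun _ => Nat) (finTab_2) (finTab_s_3_5 c) (Nat.ble 3 c)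
noncomputable def finTab_s_0_5 (c : Nat) : Nat := @Bool.rec (fun _ => Nat) (finTab_s_0_2 c) (finTab_s_2_5 c) (Nat.ble 2 c)
noncomputable def finTab_s_6_8 (c : Nat) : Nat := @Bool.rec (fun _ => Nat) (finTab_6) (finTab_7) (Nat.ble 7 c)
noncomputable def finTab_s_5_8 (c : Nat) : Nat := @Bool.rec (fun _ => Nat) (finTab_5) (finTab_s_6_8 c) (Nat.ble 6 c)
noncomputable def finTab_s_9_11 (c : Nat) : Nat := @Bool.rec (fun _ => Nat) (finTab_9) (finTab_10) (Nat.ble 10 c)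
noncomputable def finTab_s_8_11 (c : Nat) : Nat := @Bool.rec (fun _ => Nat) (finTab_8) (finTab_s_9_11 c) (Nat.ble 9 c)
noncomputable def finTab_s_5_11 (c : Nat) : Nat := @Bool.rec (fun _ => Nat) (finTab_s_5_8 c) (finTab_s_8_11 c) (Nat.ble 8 c)
noncomputable def finTab_s_0_11 (c : Nat) : Nat := @Bool.rec (fun _ => Nat) (finTab_s_0_5 c) (finTab_s_5_11 c) (Nat.ble 5 c)
noncomputable def finTab_s_11_13 (c : Nat) : Nat := @Bool.rec (fun _ => Nat) (finTab_11) (finTab_12) (Nat.ble 12 c)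
noncomputable def finTab_s_14_16 (c : Nat) : Nat := @Bool.rec (fun _ => Nat) (finTab_14) (finTab_15) (Nat.ble 15 c)
noncomputable def finTab_s_13_16 (c : Nat) : Nat := @Bool.rec (fun _ => Nat) (finTab_13) (finTab_s_14_16 c) (Nat.ble 14 c)
noncomputable def finTab_s_11_16 (c : Nat) : Nat := @Bool.rec (fun _ => Nat) (finTab_s_11_13 c) (finTab_s_13_16 c) (Nat.ble 13 c)
noncomputable def finTab_s_17_19 (c : Nat) : Nat := @Bool.rec (fun _ => Nat) (finTab_17) (finTab_18) (Nat.ble 18 c)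
noncomputable def finTab_s_16_19 (c : Nat) : Nat := @Bool.rec (fun _ => Nat) (finTab_16) (finTab_s_17_19 c) (Nat.ble 17 c)
noncomputable def finTab_s_20_22 (c : Nat) : Nat := @Bool.rec (fun _ => Nat) (finTab_20) (finTab_21) (Nat.ble 21 c)
noncomputable def finTab_s_19_22 (c : Nat) : Nat := @Bool.rec (fun _ => Nat) (finTab_19) (finTab_s_20_22 c) (Nat.ble 20 c)
noncomputable def finTab_s_16_22 (c : Nat) : Nat := @Bool.rec (fun _ => Nat) (finTab_s_16_19 c) (finTab_s_19_22 c) (Nat.ble 19 c)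
noncomputable def finTab_s_11_22 (c : Nat) : Nat := @Bool.rec (fun _ => Nat) (finTab_s_11_16 c) (finTab_s_16_22 c) (Nat.ble 16 c)
noncomputable def finTab_s_0_22 (c : Nat) : Nat := @Bool.rec (fun _ => Nat) (finTab_s_0_11 c) (finTab_s_11_22 c) (Nat.ble 11 c)
noncomputable def finTab_s_22_24 (c : Nat) : Nat := @Bool.rec (fun _ => Nat) (finTab_22) (finTab_23) (Nat.ble 23 c)
noncomputable def finTab_s_25_27 (c : Nat) : Nat := @Bool.rec (fun _ => Nat) (finTab_25) (finTab_26) (Nat.ble 26 c)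
noncomputable def finTab_s_24_27 (c : Nat) : Nat := @Bool.rec (fun _ => Nat) (finTab_24) (finTab_s_25_27 c) (Nat.ble 25 c)
noncomputable def finTab_s_22_27 (c : Nat) : Nat := @Bool.rec (fun _ => Nat) (finTab_s_22_24 c) (finTab_s_24_27 c) (Nat.ble 24 c)
noncomputable def finTab_s_28_30 (c : Nat) : Nat := @Bool.rec (fun _ => Nat) (finTab_28) (finTab_29) (Nat.ble 29 c)
noncomputable def finTab_s_27_30 (c : Nat) : Nat := @Bool.rec (fun _ => Nat) (finTab_27) (finTab_s_28_30 c) (Nat.ble 28 c)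
noncomputable def finTab_s_31_33 (c : Nat) : Nat := @Bool.rec (fun _ => Nat) (finTab_31) (finTab_32) (Nat.ble 32 c)
noncomputable def finTab_s_30_33 (c : Nat) : Nat := @Bool.rec (fun _ => Nat) (finTab_30) (finTab_s_31_33 c) (Nat.ble 31 c)
noncomputable def finTab_s_27_33 (c : Nat) : Nat := @Bool.rec (fun _ => Nat) (finTab_s_27_30 c) (finTab_s_30_33 c) (Nat.ble 30 c)
noncomputable def finTab_s_22_33 (c : Nat) : Nat := @Bool.rec (fun _ => Nat) (finTab_s_22_27 c) (finTab_s_27_33 c) (Nat.ble 27 c)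
noncomputable def finTab_s_34_36 (c : Nat) : Nat := @Bool.rec (fun _ => Nat) (finTab_34) (finTab_35) (Nat.ble 35 c)
noncomputable def finTab_s_33_36 (c : Nat) : Nat := @Bool.rec (fun _ => Nat) (finTab_33) (finTab_s_34_36 c) (Nat.ble 34 c)
noncomputable def finTab_s_37_39 (c : Nat) : Nat := @Bool.rec (fun _ => Nat) (finTab_37) (finTab_38) (Nat.ble 38 c)
noncomputable def finTab_s_36_39 (c : Nat) : Nat := @Bool.rec (fun _ => Nat) (finTab_36) (finTab_s_37_39 c) (Nat.ble 37 c)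
noncomputable def finTab_s_33_39 (c : Nat) : Nat := @Bool.rec (fun _ => Nat) (finTab_s_33_36 c) (finTab_s_36_39 c) (Nat.ble 36 c)
noncomputable def finTab_s_40_42 (c : Nat) : Nat := @Bool.rec (fun _ => Nat) (finTab_40) (finTab_41) (Nat.ble 41 c)
noncomputable def finTab_s_39_42 (c : Nat) : Nat := @Bool.rec (fun _ => Nat) (finTab_39) (finTab_s_40_42 c) (Nat.ble 40 c)
noncomputable def finTab_s_43_45 (c : Nat) : Nat := @Bool.rec (fun _ => Nat) (finTab_43) (finTab_44) (Nat.ble 44 c)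
noncomputable def finTab_s_42_45 (c : Nat) : Nat := @Bool.rec (fun _ => Nat) (finTab_42) (finTab_s_43_45 c) (Nat.ble 43 c)
noncomputable def finTab_s_39_45 (c : Nat) : Nat := @Bool.rec (fun _ => Nat) (finTab_s_39_42 c) (finTab_s_42_45 c) (Nat.ble 42 c)
noncomputable def finTab_s_33_45 (c : Nat) : Nat := @Bool.rec (fun _ => Nat) (finTab_s_33_39 c) (finTab_s_39_45 c) (Nat.ble 39 c)
noncomputable def finTab_s_22_45 (c : Nat) : Nat := @Bool.rec (fun _ => Nat) (finTab_s_22_33 c) (finTab_s_33_45 c) (Nat.ble 33 c)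
noncomputable def finTab_s_0_45 (c : Nat) : Nat := @Bool.rec (fun _ => Nat) (finTab_s_0_22 c) (finTab_s_22_45 c) (Nat.ble 22 c)
noncomputable def finTab_s_45_47 (c : Nat) : Nat := @Bool.rec (fun _ => Nat) (finTab_45) (finTab_46) (Nat.ble 46 c)
noncomputable def finTab_s_48_50 (c : Nat) : Nat := @Bool.rec (fun _ => Nat) (finTab_48) (finTab_49) (Nat.ble 49 c)
noncomputable def finTab_s_47_50 (c : Nat) : Nat := @Bool.rec (fun _ => Nat) (finTab_47) (finTab_s_48_50 c) (Nat.ble 48 c)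
noncomputable def finTab_s_45_50 (c : Nat) : Nat := @Bool.rec (fun _ => Nat) (finTab_s_45_47 c) (finTab_s_47_50 c) (Nat.ble 47 c)
noncomputable def finTab_s_51_53 (c : Nat) : Nat := @Bool.rec (fun _ => Nat) (finTab_51) (finTab_52) (Nat.ble 52 c)
noncomputable def finTab_s_50_53 (c : Nat) : Nat := @Bool.rec (fun _ => Nat) (finTab_50) (finTab_s_51_53 c) (Nat.ble 51 c)
noncomputable def finTab_s_54_56 (c : Nat) : Nat := @Bool.rec (fun _ => Nat) (finTab_54) (finTab_55) (Nat.ble 55 c)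
noncomputable def finTab_s_53_56 (c : Nat) : Nat := @Bool.rec (fun _ => Nat) (finTab_53) (finTab_s_54_56 c) (Nat.ble 54 c)
noncomputable def finTab_s_50_56 (c : Nat) : Nat := @Bool.rec (fun _ => Nat) (finTab_s_50_53 c) (finTab_s_53_56 c) (Nat.ble 53 c)
noncomputable def finTab_s_45_56 (c : Nat) : Nat := @Bool.rec (fun _ => Nat) (finTab_s_45_50 c) (finTab_s_50_56 c) (Nat.ble 50 c)
noncomputable def finTab_s_56_58 (c : Nat) : Nat := @Bool.rec (fun _ => Nat) (finTab_56) (finTab_57) (Nat.ble 57 c)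
noncomputable def finTab_s_59_61 (c : Nat) : Nat := @Bool.rec (fun _ => Nat) (finTab_59) (finTab_60) (Nat.ble 60 c)
noncomputable def finTab_s_58_61 (c : Nat) : Nat := @Bool.rec (fun _ => Nat) (finTab_58) (finTab_s_59_61 c) (Nat.ble 59 c)
noncomputable def finTab_s_56_61 (c : Nat) : Nat := @Bool.rec (fun _ => Nat) (finTab_s_56_58 c) (finTab_s_58_61 c) (Nat.ble 58 c)
noncomputable def finTab_s_62_64 (c : Nat) : Nat := @Bool.rec (fun _ => Nat) (finTab_62) (finTab_63) (Nat.ble 63 c)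
noncomputable def finTab_s_61_64 (c : Nat) : Nat := @Bool.rec (fun _ => Nat) (finTab_61) (finTab_s_62_64 c) (Nat.ble 62 c)
noncomputable def finTab_s_65_67 (c : Nat) : Nat := @Bool.rec (fun _ => Nat) (finTab_65) (finTab_66) (Nat.ble 66 c)
noncomputable def finTab_s_64_67 (c : Nat) : Nat := @Bool.rec (fun _ => Nat) (finTab_64) (finTab_s_65_67 c) (Nat.ble 65 c)
noncomputable def finTab_s_61_67 (c : Nat) : Nat := @Bool.rec (fun _ => Nat) (finTab_s_61_64 c) (finTab_s_64_67 c) (Nat.ble 64 c)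
noncomputable def finTab_s_56_67 (c : Nat) : Nat := @Bool.rec (fun _ => Nat) (finTab_s_56_61 c) (finTab_s_61_67 c) (Nat.ble 61 c)
noncomputable def finTab_s_45_67 (c : Nat) : Nat := @Bool.rec (fun _ => Nat) (finTab_s_45_56 c) (finTab_s_56_67 c) (Nat.ble 56 c)
noncomputable def finTab_s_67_69 (c : Nat) : Nat := @Bool.rec (fun _ => Nat) (finTab_67) (finTab_68) (Nat.ble 68 c)
noncomputable def finTab_s_70_72 (c : Nat) : Nat := @Bool.rec (fun _ => Nat) (finTab_70) (finTab_71) (Nat.ble 71 c)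
noncomputable def finTab_s_69_72 (c : Nat) : Nat := @Bool.rec (fun _ => Nat) (finTab_69) (finTab_s_70_72 c) (Nat.ble 70 c)
noncomputable def finTab_s_67_72 (c : Nat) : Nat := @Bool.rec (fun _ => Nat) (finTab_s_67_69 c) (finTab_s_69_72 c) (Nat.ble 69 c)
noncomputable def finTab_s_73_75 (c : Nat) : Nat := @Bool.rec (fun _ => Nat) (finTab_73) (finTab_74) (Nat.ble 74 c)
noncomputable def finTab_s_72_75 (c : Nat) : Nat := @Bool.rec (fun _ => Nat) (finTab_72) (finTab_s_73_75 c) (Nat.ble 73 c)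
noncomputable def finTab_s_76_78 (c : Nat) : Nat := @Bool.rec (fun _ => Nat) (finTab_76) (finTab_77) (Nat.ble 77 c)
noncomputable def finTab_s_75_78 (c : Nat) : Nat := @Bool.rec (fun _ => Nat) (finTab_75) (finTab_s_76_78 c) (Nat.ble 76 c)
noncomputable def finTab_s_72_78 (c : Nat) : Nat := @Bool.rec (fun _ => Nat) (finTab_s_72_75 c) (finTab_s_75_78 c) (Nat.ble 75 c)
noncomputable def finTab_s_67_78 (c : Nat) : Nat := @Bool.rec (fun _ => Nat) (finTab_s_67_72 c) (finTab_s_72_78 c) (Nat.ble 72 c)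
noncomputable def finTab_s_79_81 (c : Nat) : Nat := @Bool.rec (fun _ => Nat) (finTab_79) (finTab_80) (Nat.ble 80 c)
noncomputable def finTab_s_78_81 (c : Nat) : Nat := @Bool.rec (fun _ => Nat) (finTab_78) (finTab_s_79_81 c) (Nat.ble 79 c)
noncomputable def finTab_s_82_84 (c : Nat) : Nat := @Bool.rec (fun _ => Nat) (finTab_82) (finTab_83) (Nat.ble 83 c)
noncomputable def finTab_s_81_84 (c : Nat) : Nat := @Bool.rec (fun _ => Nat) (finTab_81) (finTab_s_82_84 c) (Nat.ble 82 c)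
noncomputable def finTab_s_78_84 (c : Nat) : Nat := @Bool.rec (fun _ => Nat) (finTab_s_78_81 c) (finTab_s_81_84 c) (Nat.ble 81 c)
noncomputable def finTab_s_85_87 (c : Nat) : Nat := @Bool.rec (fun _ => Nat) (finTab_85) (finTab_86) (Nat.ble 86 c)
noncomputable def finTab_s_84_87 (c : Nat) : Nat := @Bool.rec (fun _ => Nat) (finTab_84) (finTab_s_85_87 c) (Nat.ble 85 c)
noncomputable def finTab_s_88_90 (c : Nat) : Nat := @Bool.rec (fun _ => Nat) (finTab_88) (finTab_89) (Nat.ble 89 c)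
noncomputable def finTab_s_87_90 (c : Nat) : Nat := @Bool.rec (fun _ => Nat) (finTab_87) (finTab_s_88_90 c) (Nat.ble 88 c)
noncomputable def finTab_s_84_90 (c : Nat) : Nat := @Bool.rec (fun _ => Nat) (finTab_s_84_87 c) (finTab_s_87_90 c) (Nat.ble 87 c)
noncomputable def finTab_s_78_90 (c : Nat) : Nat := @Bool.rec (fun _ => Nat) (finTab_s_78_84 c) (finTab_s_84_90 c) (Nat.ble 84 c)
noncomputable def finTab_s_67_90 (c : Nat) : Nat := @Bool.rec (fun _ => Nat) (finTab_s_67_78 c) (finTab_s_78_90 c) (Nat.ble 78 c)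
noncomputable def finTab_s_45_90 (c : Nat) : Nat := @Bool.rec (fun _ => Nat) (finTab_s_45_67 c) (finTab_s_67_90 c) (Nat.ble 67 c)
noncomputable def finTab_s_0_90 (c : Nat) : Nat := @Bool.rec (fun _ => Nat) (finTab_s_0_45 c) (finTab_s_45_90 c) (Nat.ble 45 c)
noncomputable def finTab (i : Nat) : Nat := rdw 20 1048575 (finTab_s_0_90 (Nat.shiftRight i 12)) (Nat.land i 4095)
noncomputable def clsTab_s_0_2 (c : Nat) : Nat := @Bool.rec (fun _ => Nat) (clsTab_0) (clsTab_1) (Nat.ble 1 c)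
noncomputable def clsTab_s_3_5 (c : Nat) : Nat := @Bool.rec (fun _ => Nat) (clsTab_3) (clsTab_4) (Nat.ble 4 c)
noncomputable def clsTab_s_2_5 (c : Nat) : Nat := @Bool.rec (fun _ => Nat) (clsTab_2) (clsTab_s_3_5 c) (Nat.ble 3 c)
noncomputable def clsTab_s_0_5 (c : Nat) : Nat := @Bool.rec (fun _ => Nat) (clsTab_s_0_2 c) (clsTab_s_2_5 c) (Nat.ble 2 c)
noncomputable def clsTab_s_5_7 (c : Nat) : Nat := @Bool.rec (fun _ => Nat) (clsTab_5) (clsTab_6) (Nat.ble 6 c)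
noncomputable def clsTab_s_8_10 (c : Nat) : Nat := @Bool.rec (fun _ => Nat) (clsTab_8) (clsTab_9) (Nat.ble 9 c)
noncomputable def clsTab_s_7_10 (c : Nat) : Nat := @Bool.rec (fun _ => Nat) (clsTab_7) (clsTab_s_8_10 c) (Nat.ble 8 c)
noncomputable def clsTab_s_5_10 (c : Nat) : Nat := @Bool.rec (fun _ => Nat) (clsTab_s_5_7 c) (clsTab_s_7_10 c) (Nat.ble 7 c)
noncomputable def clsTab_s_0_10 (c : Nat) : Nat := @Bool.rec (fun _ => Nat) (clsTab_s_0_5 c) (clsTab_s_5_10 c) (Nat.ble 5 c)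
noncomputable def clsTab (i : Nat) : Nat := rdw 14 16383 (clsTab_s_0_10 (Nat.shiftRight i 12)) (Nat.land i 4095)
noncomputable def oparTab_s_0_2 (c : Nat) : Nat := @Bool.rec (fun _ => Nat) (oparTab_0) (oparTab_1) (Nat.ble 1 c)
noncomputable def oparTab_s_2_4 (c : Nat) : Nat := @Bool.rec (fun _ => Nat) (oparTab_2) (oparTab_3) (Nat.ble 3 c)
noncomputable def oparTab_s_0_4 (c : Nat) : Nat := @Bool.rec (fun _ => Nat) (oparTab_s_0_2 c) (oparTab_s_2_4 c) (Nat.ble 2 c)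
noncomputable def oparTab (i : Nat) : Nat := rdw 14 16383 (oparTab_s_0_4 (Nat.shiftRight i 12)) (Nat.land i 4095)
noncomputable def olabTab (i : Nat) : Nat := rdw 4 15 olabTab_0 i
noncomputable def srcF (t : Nat) : Nat := Nat.land (Atab t) 65535
noncomputable def tgtF (t : Nat) : Nat := Nat.land (Nat.shiftRight (Atab t) 16) 65535
noncomputable def ltF (t : Nat) : Nat := Nat.shiftRight (Atab t) 32
noncomputable def rhoF (t : Nat) : Nat := Nat.land (Btab (Nat.sub t 37486)) 511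
noncomputable def rotF (t : Nat) : Nat := Nat.land (Nat.shiftRight (Btab (Nat.sub t 37486)) 9) 255
noncomputable def lenF (t : Nat) : Nat := Nat.land (Nat.shiftRight (Btab (Nat.sub t 37486)) 17) 1023
noncomputable def offF (t : Nat) : Nat := Nat.shiftRight (Btab (Nat.sub t 37486)) 27
noncomputable def pfF (j : Nat) : Nat := Nat.shiftRight (Ptab j) 1
noncomputable def pdF (j : Nat) : Nat := Nat.land (Ptab j) 1
noncomputable def tblF (i x : Nat) : Nat := @Bool.rec (fun _ => Nat) (@Bool.rec (fun _ => Nat) (@Bool.rec (fun _ => Nat) (@Bool.rec (fun _ => Nat) (col0 i) (@Bool.rec (fun _ => Nat) (col1 i) (col2 i) (Nat.ble 2 x)) (Nat.ble 1 x)) (@Bool.rec (fun _ => Nat) (col3 i) (@Bool.rec (fun _ => Nat) (col4 i) (col5 i) (Nat.ble 5 x)) (Nat.ble 4 x)) (Nat.ble 3 x)) (@Bool.rec (fun _ => Nat) (@Bool.rec (fun _ => Nat) (col6 i) (@Bool.rec (fun _ => Nat) (col7 i) (col8 i) (Nat.ble 8 x)) (Nat.ble 7 x)) (@Bool.rec (fun _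 => Nat) (@Bool.rec (fun _ => Nat) (col9 i) (col10 i) (Nat.ble 10 x)) (@Bool.rec (fun _ => Nat) (col11 i) (col12 i) (Nat.ble 12 x)) (Nat.ble 11 x)) (Nat.ble 9 x)) (Nat.ble 6 x)) (@Bool.rec (fun _ => Nat) (@Bool.rec (fun _ => Nat) (@Bool.rec (fun _ => Nat) (col13 i) (@Bool.rec (fun _ => Nat) (col14 i) (col15 i) (Nat.ble 15 x)) (Nat.ble 14 x)) (@Bool.rec (fun _ => Nat) (col16 i) (@Bool.rec (fun _ => Nat) (col17 i) (col18 i) (Nat.ble 18 x)) (Nat.ble 17 x)) (Nat.ble 16 x)) (@Bool.rec (fun _ => Nat) (@Bool.rec (fun _ => Nat) (col19 i) (@Bool.rec (fun _ => Nat) (col20 i) (col21 i) (Nat.ble 21 x)) (Nat.ble 20 x)) (@Bool.rec (fun _ => Nat) (@Bool.rec (fun _ => Nat) (col22 i) (col23 i) (Nat.ble 23 x)) (@Bool.rec (fun _ => Nat) (col24 i) (col25 i) (Nat.ble 25 x)) (Nat.ble 24 x)) (Nat.ble 22 x)) (Nat.ble 19 x)) (Nat.ble 13 x)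
noncomputable def finE (i x : Nat) : Nat := finTab (Nat.add (Nat.mul i 26) x)
noncomputable def finFF (i x : Nat) : Nat := Nat.shiftRight (finE i x) 1
noncomputable def finDF (i x : Nat) : Nat := Nat.land (finE i x) 1

noncomputable def D : Log :=
  { k := 26, inv := invE 26 PC3Fi22y.invR, nR := 262, rBase := rBtab, rLen := rLtab, RR := RRtab,
    M := 37462, nB := 24, F := 325009, src := srcF, lt := ltF, tgt := tgtF, rho := rhoF, rot := rotF,
    off := offF, len := lenF, pf := pfF, pd := pdF }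

noncomputable def T : Tab :=
  { N := 14080, nameOf := nameTab, tbl := tblF, finF := finFF, finD := finDF, cls := clsTab }

def subs : List (List Nat) := [
  [2],
  [4],
  [6],
  [8],
  [10],
  [12],
  [14],
  [16],
  [24],
  [18],
  [20],
  [22] ]

def rw0 : List Nat := [0, 0]
def rw1 : List Nat := [0, 2, 0, 2, 0, 2]
def rw2 : List Nat := [0, 4, 0, 4]
def rw3 : List Nat := [0, 6, 0, 6]
def rw4 : List Nat := [0, 8, 0, 8]
def rw5 : List Nat := [0, 14, 0, 14]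
def rw6 : List Nat := [0, 10, 0, 10]
def rw7 : List Nat := [0, 12, 0, 12]
def rw8 : List Nat := [0, 16, 0, 16]
def rw9 : List Nat := [2, 2]
def rw10 : List Nat := [2, 4, 2, 4, 2, 4]
def rw11 : List Nat := [2, 6, 2, 6]
def rw12 : List Nat := [2, 8, 2, 8]
def rw13 : List Nat := [2, 14, 2, 14]
def rw14 : List Nat := [2, 10, 2, 10]
def rw15 : List Nat := [2, 12, 2, 12]
def rw16 : List Nat := [2, 16, 2, 16]
def rw17 : List Nat := [4, 4]
def rw18 : List Nat := [4, 6, 4, 6, 4, 6]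
def rw19 : List Nat := [4, 8, 4, 8]
def rw20 : List Nat := [4, 14, 4, 14]
def rw21 : List Nat := [4, 10, 4, 10]
def rw22 : List Nat := [4, 12, 4, 12]
def rw23 : List Nat := [4, 16, 4, 16]
def rw24 : List Nat := [6, 6]
def rw25 : List Nat := [6, 8, 6, 8, 6, 8]
def rw26 : List Nat := [6, 14, 6, 14, 6, 14]
def rw27 : List Nat := [6, 10, 6, 10]
def rw28 : List Nat := [6, 12, 6, 12]
def rw29 : List Nat := [6, 16, 6, 16]
def rw30 : List Nat := [8, 8]
def rw31 : List Nat := [8, 14, 8, 14]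
def rw32 : List Nat := [8, 10, 8, 10, 8, 10]
def rw33 : List Nat := [8, 12, 8, 12]
def rw34 : List Nat := [8, 16, 8, 16]
def rw35 : List Nat := [14, 14]
def rw36 : List Nat := [14, 10, 14, 10]
def rw37 : List Nat := [14, 12, 14, 12]
def rw38 : List Nat := [14, 16, 14, 16, 14, 16]
def rw39 : List Nat := [10, 10]
def rw40 : List Nat := [10, 12, 10, 12, 10, 12]
def rw41 : List Nat := [10, 16, 10, 16]
def rw42 : List Nat := [12, 12]
def rw43 : List Nat := [12, 16, 12, 16]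
def rw44 : List Nat := [16, 16]
def rw45 : List Nat := [6, 4, 2, 6, 8, 10, 6, 14, 16, 6, 4, 2, 6, 8, 10, 6, 14, 16, 6, 4, 2, 6, 8, 10, 6, 14, 16, 6, 4, 2, 6, 8, 10, 6, 14, 16, 6, 4, 2, 6, 8, 10, 6, 14, 16, 6, 4, 2, 6, 8, 10, 6, 14, 16, 6, 4, 2, 6, 8, 10, 6, 14, 16, 6, 4, 2, 6, 8, 10, 6, 14, 16, 6, 4, 2, 6, 8, 10, 6, 14, 16, 6, 4, 2, 6, 8, 10, 6, 14, 16, 25]
def rw46 : List Nat := [0, 2, 4, 6, 8, 10, 14, 0, 2, 4, 6, 8, 10, 14, 0, 2, 4, 6, 8, 10, 14, 0, 2, 4, 6, 8, 10, 14, 0, 2, 4, 6, 8, 10, 14, 0, 2, 4, 6, 8, 10, 14, 0, 2, 4, 6, 8, 10, 14, 0, 2, 4, 6, 8, 10, 14, 0, 2, 4, 6, 8, 10, 14]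
def rw47 : List Nat := [2, 4, 6, 8, 10, 12, 14, 2, 4, 6, 8, 10, 12, 14, 2, 4, 6, 8, 10, 12, 14, 2, 4, 6, 8, 10, 12, 14, 2, 4, 6, 8, 10, 12, 14, 2, 4, 6, 8, 10, 12, 14, 2, 4, 6, 8, 10, 12, 14, 2, 4, 6, 8, 10, 12, 14, 2, 4, 6, 8, 10, 12, 14]
def rw48 : List Nat := [19, 8, 6, 14, 16, 14, 8, 10, 6, 8, 4, 6, 14, 12, 10, 8, 6, 4, 2, 4, 6, 8, 10, 12, 14, 6, 4, 8, 6, 10, 8, 14, 16, 14, 6, 8, 6, 8, 4, 6, 14, 16, 10, 8, 6, 14, 12, 10, 8, 6, 2, 4, 2, 4, 2, 6, 8, 10, 12, 14, 6, 8, 10, 16, 14, 6, 4, 8, 6, 2, 4, 6, 14, 16, 8, 6, 14, 12, 10, 8, 6, 2, 4, 2, 4, 2, 6, 8, 10, 12, 14, 6, 8, 16, 14, 6, 4, 2, 16, 14, 6, 2, 4, 2, 4, 2, 6, 14, 16, 10, 8, 4, 6, 14, 16, 8, 4, 6, 14, 10, 8, 6, 4, 2, 4, 6, 8, 10, 14, 6, 4, 8, 16, 14, 6, 4, 8, 10, 12, 10, 8, 4, 6, 2, 4, 2, 4, 2, 6, 4, 8, 10, 12, 24, 24]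
def rw49 : List Nat := [21, 10, 6, 8, 4, 6, 14, 16, 6, 8, 4, 6, 14, 12, 10, 8, 6, 4, 2, 4, 6, 8, 10, 12, 14, 6, 4, 8, 6, 16, 14, 6, 4, 8, 6, 10, 8, 6, 14, 16, 8, 4, 6, 14, 12, 10, 8, 6, 4, 2, 4, 6, 8, 10, 12, 14, 6, 4, 8, 16, 14, 6, 8, 14, 6, 8, 4, 6, 14, 10, 8, 6, 4, 2, 4, 6, 8, 10, 14, 6, 4, 8, 6, 14, 16, 4, 6, 14, 10, 8, 6, 4, 2, 4, 6, 8, 10, 14, 6, 4, 16, 14, 12, 10, 8, 6, 2, 4, 2, 4, 2, 6, 8, 10, 12, 14]
def rw50 : List Nat := [23, 14, 12, 10, 6, 8, 4, 6, 14, 16, 10, 8, 4, 6, 14, 12, 10, 8, 6, 4, 2, 4, 6, 8, 10, 12, 14, 6, 4, 8, 10, 16, 14, 6, 4, 8, 6, 10, 12, 14, 16, 14, 8, 10, 6, 8, 4, 6, 14, 12, 10, 8, 6, 4, 2, 4, 6, 8, 10, 12, 14, 6, 4, 8, 6, 10, 8, 14, 16, 14, 6, 4, 2, 4, 6, 14, 8, 6, 4, 2, 4, 6, 8, 14, 16, 8, 4, 6, 14, 12, 10, 8, 6, 4, 2, 4, 6, 8, 10, 12, 14, 6, 4, 8, 16, 14, 2, 4, 2, 4, 2, 24]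
def rw51 : List Nat := [18, 18, 18, 18, 18, 18, 18]
def rw52 : List Nat := [18, 18, 20, 19, 20, 18, 21, 18, 20, 19, 20]
def rw53 : List Nat := [18, 18, 18, 20, 18, 18, 18, 20, 18, 18, 18, 20]
def rw54 : List Nat := [18, 18, 20, 20, 18, 18, 21, 21, 18, 18, 21, 21]
def rw55 : List Nat := [22, 22, 22]
def rw56 : List Nat := [18, 18, 22, 19, 19, 21, 22, 20]
def rw57 : List Nat := [18, 20, 22, 18, 20, 22, 18, 20, 22]
def rw58 : List Nat := [18, 20, 20, 19, 22, 18, 21, 21, 19, 22]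
def rw59 : List Nat := [18, 22, 19, 22, 19, 20, 22, 21, 18, 23]
def rw60 : List Nat := [18, 18, 21, 18, 22, 19, 20, 19, 19, 20, 18, 23, 19, 21, 25]
def rw61 : List Nat := [18, 2, 19, 2, 18, 2, 19, 2]
def rw62 : List Nat := [20, 2, 21, 2, 20, 2, 21, 2]
def rw63 : List Nat := [18, 18, 20, 18, 2, 19, 21, 19, 19, 2]
def rw64 : List Nat := [18, 21, 23, 20, 2, 21, 22, 20, 19, 2]
def rw65 : List Nat := [18, 21, 22, 22, 20, 2, 21, 22, 20, 19, 2]
def rw66 : List Nat := [18, 18, 18, 22, 19, 19, 2, 21, 22, 20, 19, 2]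
def rw67 : List Nat := [18, 18, 20, 18, 2, 19, 20, 20, 20, 19, 19, 2]
def rw68 : List Nat := [18, 20, 2, 20, 19, 23, 18, 20, 2, 20, 19, 23]
def rw69 : List Nat := [18, 20, 2, 21, 19, 22, 18, 21, 2, 20, 19, 23]
def rw70 : List Nat := [18, 20, 2, 21, 19, 22, 18, 21, 2, 20, 19, 22, 22]
def rw71 : List Nat := [18, 18, 22, 19, 20, 19, 2, 18, 21, 19, 21, 22, 20, 2]
def rw72 : List Nat := [18, 20, 20, 18, 23, 18, 2, 19, 22, 19, 20, 20, 19, 2]
def rw73 : List Nat := [18, 20, 19, 23, 18, 2, 19, 22, 18, 21, 19, 21, 2, 20]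
def rw74 : List Nat := [18, 18, 21, 18, 2, 19, 20, 19, 19, 22, 21, 2, 20, 23]
def rw75 : List Nat := [18, 18, 20, 20, 2, 20, 20, 19, 19, 22, 20, 2, 21, 23]
def rw76 : List Nat := [18, 22, 20, 2, 21, 23, 19, 20, 23, 19, 2, 18, 22, 21]
def rw77 : List Nat := [18, 21, 21, 18, 23, 2, 22, 19, 20, 20, 19, 23, 2, 22]
def rw78 : List Nat := [18, 18, 21, 18, 22, 19, 2, 20, 19, 19, 20, 18, 23, 2, 19, 21, 25]
def rw79 : List Nat := [18, 18, 21, 18, 20, 18, 21, 2, 22, 2, 22, 2, 21, 18, 20, 22, 19, 22, 25, 25]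
def rw80 : List Nat := [24, 24, 24]
def rw81 : List Nat := [25, 19, 24, 18]
def rw82 : List Nat := [25, 21, 24, 20]
def rw83 : List Nat := [25, 23, 24, 22]
def rw84 : List Nat := [25, 3, 24, 2]
def rw85 : List Nat := [25, 1, 24, 0]
def rw86 : List Nat := [25, 5, 24, 4]
def rw87 : List Nat := [25, 7, 24, 6]
def rw88 : List Nat := [25, 9, 24, 8]
def rw89 : List Nat := [25, 11, 24, 10]
def rw90 : List Nat := [25, 13, 24, 12]
def rw91 : List Nat := [25, 15, 24, 14]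
def rw92 : List Nat := [25, 17, 24, 16]
def realLit : List (List Nat) := [rw0, rw1, rw2, rw3, rw4, rw5, rw6, rw7, rw8, rw9, rw10, rw11, rw12, rw13, rw14, rw15, rw16, rw17, rw18, rw19, rw20, rw21, rw22, rw23, rw24, rw25, rw26, rw27, rw28, rw29, rw30, rw31, rw32, rw33, rw34, rw35, rw36, rw37, rw38, rw39, rw40, rw41, rw42, rw43, rw44, rw45, rw46, rw47, rw48, rw49, rw50, rw51, rw52, rw53, rw54, rw55, rw56, rw57, rw58, rw59, rw60, rw61, rw62, rw63, rw64, rw65, rw66, rw67, rw68, rw69, rw70, rw71, rw72, rw73, rw74, rw75, rw76, rw77, rw78, rw79, rw80, rw81, rw82, rw83, rw84, rw85, rw86, rw87, rw88, rw89, rw90, rw91, rw92]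
noncomputable def actR0 (i : Nat) : Nat := col1 (col1 (i))
theorem actR0_eq (i : Nat) : actR0 i = Tab.act T D rw0 i := rfl
noncomputable def actR1 (i : Nat) : Nat := col1 (col3 (col1 (col3 (col1 (col3 (i))))))
theorem actR1_eq (i : Nat) : actR1 i = Tab.act T D rw1 i := rfl
noncomputable def actR2 (i : Nat) : Nat := col1 (col5 (col1 (col5 (i))))
theorem actR2_eq (i : Nat) : actR2 i = Tab.act T D rw2 i := rfl
noncomputable def actR3 (i : Nat) : Nat := col1 (col7 (col1 (col7 (i))))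
theorem actR3_eq (i : Nat) : actR3 i = Tab.act T D rw3 i := rfl
noncomputable def actR4 (i : Nat) : Nat := col1 (col9 (col1 (col9 (i))))
theorem actR4_eq (i : Nat) : actR4 i = Tab.act T D rw4 i := rfl
noncomputable def actR5 (i : Nat) : Nat := col1 (col15 (col1 (col15 (i))))
theorem actR5_eq (i : Nat) : actR5 i = Tab.act T D rw5 i := rfl
noncomputable def actR6 (i : Nat) : Nat := col1 (col11 (col1 (col11 (i))))
theorem actR6_eq (i : Nat) : actR6 i = Tab.act T D rw6 i := rfl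
noncomputable def actR7 (i : Nat) : Nat := col1 (col13 (col1 (col13 (i))))
theorem actR7_eq (i : Nat) : actR7 i = Tab.act T D rw7 i := rfl
noncomputable def actR8 (i : Nat) : Nat := col1 (col17 (col1 (col17 (i))))
theorem actR8_eq (i : Nat) : actR8 i = Tab.act T D rw8 i := rfl
noncomputable def actR9 (i : Nat) : Nat := col3 (col3 (i))
theorem actR9_eq (i : Nat) : actR9 i = Tab.act T D rw9 i := rfl
noncomputable def actR10 (i : Nat) : Nat := col3 (col5 (col3 (col5 (col3 (col5 (i))))))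
theorem actR10_eq (i : Nat) : actR10 i = Tab.act T D rw10 i := rfl
noncomputable def actR11 (i : Nat) : Nat := col3 (col7 (col3 (col7 (i))))
theorem actR11_eq (i : Nat) : actR11 i = Tab.act T D rw11 i := rfl
noncomputable def actR12 (i : Nat) : Nat := col3 (col9 (col3 (col9 (i))))
theorem actR12_eq (i : Nat) : actR12 i = Tab.act T D rw12 i := rfl
noncomputable def actR13 (i : Nat) : Nat := col3 (col15 (col3 (col15 (i))))
theorem actR13_eq (i : Nat) : actR13 i = Tab.act T D rw13 i := rfl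
noncomputable def actR14 (i : Nat) : Nat := col3 (col11 (col3 (col11 (i))))
theorem actR14_eq (i : Nat) : actR14 i = Tab.act T D rw14 i := rfl
noncomputable def actR15 (i : Nat) : Nat := col3 (col13 (col3 (col13 (i))))
theorem actR15_eq (i : Nat) : actR15 i = Tab.act T D rw15 i := rfl
noncomputable def actR16 (i : Nat) : Nat := col3 (col17 (col3 (col17 (i))))
theorem actR16_eq (i : Nat) : actR16 i = Tab.act T D rw16 i := rfl
noncomputable def actR17 (i : Nat) : Nat := col5 (col5 (i))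
theorem actR17_eq (i : Nat) : actR17 i = Tab.act T D rw17 i := rfl
noncomputable def actR18 (i : Nat) : Nat := col5 (col7 (col5 (col7 (col5 (col7 (i))))))
theorem actR18_eq (i : Nat) : actR18 i = Tab.act T D rw18 i := rfl
noncomputable def actR19 (i : Nat) : Nat := col5 (col9 (col5 (col9 (i))))
theorem actR19_eq (i : Nat) : actR19 i = Tab.act T D rw19 i := rfl
noncomputable def actR20 (i : Nat) : Nat := col5 (col15 (col5 (col15 (i))))
theorem actR20_eq (i : Nat) : actR20 i = Tab.act T D rw20 i := rfl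
noncomputable def actR21 (i : Nat) : Nat := col5 (col11 (col5 (col11 (i))))
theorem actR21_eq (i : Nat) : actR21 i = Tab.act T D rw21 i := rfl
noncomputable def actR22 (i : Nat) : Nat := col5 (col13 (col5 (col13 (i))))
theorem actR22_eq (i : Nat) : actR22 i = Tab.act T D rw22 i := rfl
noncomputable def actR23 (i : Nat) : Nat := col5 (col17 (col5 (col17 (i))))
theorem actR23_eq (i : Nat) : actR23 i = Tab.act T D rw23 i := rfl
noncomputable def actR24 (i : Nat) : Nat := col7 (col7 (i))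
theorem actR24_eq (i : Nat) : actR24 i = Tab.act T D rw24 i := rfl
noncomputable def actR25 (i : Nat) : Nat := col7 (col9 (col7 (col9 (col7 (col9 (i))))))
theorem actR25_eq (i : Nat) : actR25 i = Tab.act T D rw25 i := rfl
noncomputable def actR26 (i : Nat) : Nat := col7 (col15 (col7 (col15 (col7 (col15 (i))))))
theorem actR26_eq (i : Nat) : actR26 i = Tab.act T D rw26 i := rfl
noncomputable def actR27 (i : Nat) : Nat := col7 (col11 (col7 (col11 (i))))
theorem actR27_eq (i : Nat) : actR27 i = Tab.act T D rw27 i := rfl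
noncomputable def actR28 (i : Nat) : Nat := col7 (col13 (col7 (col13 (i))))
theorem actR28_eq (i : Nat) : actR28 i = Tab.act T D rw28 i := rfl
noncomputable def actR29 (i : Nat) : Nat := col7 (col17 (col7 (col17 (i))))
theorem actR29_eq (i : Nat) : actR29 i = Tab.act T D rw29 i := rfl
noncomputable def actR30 (i : Nat) : Nat := col9 (col9 (i))
theorem actR30_eq (i : Nat) : actR30 i = Tab.act T D rw30 i := rfl
noncomputable def actR31 (i : Nat) : Nat := col9 (col15 (col9 (col15 (i))))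
theorem actR31_eq (i : Nat) : actR31 i = Tab.act T D rw31 i := rfl
noncomputable def actR32 (i : Nat) : Nat := col9 (col11 (col9 (col11 (col9 (col11 (i))))))
theorem actR32_eq (i : Nat) : actR32 i = Tab.act T D rw32 i := rfl
noncomputable def actR33 (i : Nat) : Nat := col9 (col13 (col9 (col13 (i))))
theorem actR33_eq (i : Nat) : actR33 i = Tab.act T D rw33 i := rfl
noncomputable def actR34 (i : Nat) : Nat := col9 (col17 (col9 (col17 (i))))
theorem actR34_eq (i : Nat) : actR34 i = Tab.act T D rw34 i := rfl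
noncomputable def actR35 (i : Nat) : Nat := col15 (col15 (i))
theorem actR35_eq (i : Nat) : actR35 i = Tab.act T D rw35 i := rfl
noncomputable def actR36 (i : Nat) : Nat := col15 (col11 (col15 (col11 (i))))
theorem actR36_eq (i : Nat) : actR36 i = Tab.act T D rw36 i := rfl
noncomputable def actR37 (i : Nat) : Nat := col15 (col13 (col15 (col13 (i))))
theorem actR37_eq (i : Nat) : actR37 i = Tab.act T D rw37 i := rfl
noncomputable def actR38 (i : Nat) : Nat := col15 (col17 (col15 (col17 (col15 (col17 (i))))))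
theorem actR38_eq (i : Nat) : actR38 i = Tab.act T D rw38 i := rfl
noncomputable def actR39 (i : Nat) : Nat := col11 (col11 (i))
theorem actR39_eq (i : Nat) : actR39 i = Tab.act T D rw39 i := rfl
noncomputable def actR40 (i : Nat) : Nat := col11 (col13 (col11 (col13 (col11 (col13 (i))))))
theorem actR40_eq (i : Nat) : actR40 i = Tab.act T D rw40 i := rfl
noncomputable def actR41 (i : Nat) : Nat := col11 (col17 (col11 (col17 (i))))
theorem actR41_eq (i : Nat) : actR41 i = Tab.act T D rw41 i := rfl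
noncomputable def actR42 (i : Nat) : Nat := col13 (col13 (i))
theorem actR42_eq (i : Nat) : actR42 i = Tab.act T D rw42 i := rfl
noncomputable def actR43 (i : Nat) : Nat := col13 (col17 (col13 (col17 (i))))
theorem actR43_eq (i : Nat) : actR43 i = Tab.act T D rw43 i := rfl
noncomputable def actR44 (i : Nat) : Nat := col17 (col17 (i))
theorem actR44_eq (i : Nat) : actR44 i = Tab.act T D rw44 i := rfl
noncomputable def actR45 (i : Nat) : Nat := col7 (col5 (col3 (col7 (col9 (col11 (col7 (col15 (col17 (col7 (col5 (col3 (col7 (col9 (col11 (col7 (col15 (col17 (col7 (col5 (col3 (col7 (col9 (col11 (col7 (col15 (col17 (col7 (col5 (col3 (col7 (col9 (col11 (col7 (col15 (col17 (col7 (col5 (col3 (col7 (col9 (col11 (col7 (col15 (col17 (col7 (col5 (col3 (col7 (col9 (col11 (col7 (col15 (col17 (col7 (col5 (col3 (col7 (col9 (col11 (col7 (col15 (col17 (col7 (col5 (col3 (col7 (col9 (col11 (col7 (col15 (col17 (col7 (col5 (col3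 (col7 (col9 (col11 (col7 (col15 (col17 (col7 (col5 (col3 (col7 (col9 (col11 (col7 (col15 (col17 (col24 (i)))))))))))))))))))))))))))))))))))))))))))))))))))))))))))))))))))))))))))))))))))))))))))
theorem actR45_eq (i : Nat) : actR45 i = Tab.act T D rw45 i := rfl
noncomputable def actR46 (i : Nat) : Nat := col1 (col3 (col5 (col7 (col9 (col11 (col15 (col1 (col3 (col5 (col7 (col9 (col11 (col15 (col1 (col3 (col5 (col7 (col9 (col11 (col15 (col1 (col3 (col5 (col7 (col9 (col11 (col15 (col1 (col3 (col5 (col7 (col9 (col11 (col15 (col1 (col3 (col5 (col7 (col9 (col11 (col15 (col1 (col3 (col5 (col7 (col9 (col11 (col15 (col1 (col3 (col5 (col7 (col9 (col11 (col15 (col1 (col3 (col5 (col7 (col9 (col11 (col15 (i)))))))))))))))))))))))))))))))))))))))))))))))))))))))))))))))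
theorem actR46_eq (i : Nat) : actR46 i = Tab.act T D rw46 i := rfl
noncomputable def actR47 (i : Nat) : Nat := col3 (col5 (col7 (col9 (col11 (col13 (col15 (col3 (col5 (col7 (col9 (col11 (col13 (col15 (col3 (col5 (col7 (col9 (col11 (col13 (col15 (col3 (col5 (col7 (col9 (col11 (col13 (col15 (col3 (col5 (col7 (col9 (col11 (col13 (col15 (col3 (col5 (col7 (col9 (col11 (col13 (col15 (col3 (col5 (col7 (col9 (col11 (col13 (col15 (col3 (col5 (col7 (col9 (col11 (col13 (col15 (col3 (col5 (col7 (col9 (col11 (col13 (col15 (i)))))))))))))))))))))))))))))))))))))))))))))))))))))))))))))))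
theorem actR47_eq (i : Nat) : actR47 i = Tab.act T D rw47 i := rfl
noncomputable def actR48 (i : Nat) : Nat := col18 (col9 (col7 (col15 (col17 (col15 (col9 (col11 (col7 (col9 (col5 (col7 (col15 (col13 (col11 (col9 (col7 (col5 (col3 (col5 (col7 (col9 (col11 (col13 (col15 (col7 (col5 (col9 (col7 (col11 (col9 (col15 (col17 (col15 (col7 (col9 (col7 (col9 (col5 (col7 (col15 (col17 (col11 (col9 (col7 (col15 (col13 (col11 (col9 (col7 (col3 (col5 (col3 (col5 (col3 (col7 (col9 (col11 (col13 (col15 (col7 (col9 (col11 (col17 (col15 (col7 (col5 (col9 (col7 (col3 (col5 (col7 (col15 (col17 (col9 (col7 (col15 (col13 (col11 (col9 (col7 (col3 (col5 (col3 (col5 (col3 (col7 (col9 (col11 (col13 (col15 (col7 (col9 (col17 (col15 (col7 (col5 (col3 (col17 (col15 (col7 (col3 (col5 (col3 (col5 (col3 (col7 (col15 (col17 (col11 (col9 (col5 (col7 (col15 (col17 (col9 (col5 (col7 (col15 (col11 (col9 (col7 (col5 (col3 (col5 (col7 (col9 (col11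 (col15 (col7 (col5 (col9 (col17 (col15 (col7 (col5 (col9 (col11 (col13 (col11 (col9 (col5 (col7 (col3 (col5 (col3 (col5 (col3 (col7 (col5 (col9 (col11 (col13 (col25 (col25 (i)))))))))))))))))))))))))))))))))))))))))))))))))))))))))))))))))))))))))))))))))))))))))))))))))))))))))))))))))))))))))))))))))))))))))))))))))))))))))))
theorem actR48_eq (i : Nat) : actR48 i = Tab.act T D rw48 i := rfl
noncomputable def actR49 (i : Nat) : Nat := col20 (col11 (col7 (col9 (col5 (col7 (col15 (col17 (col7 (col9 (col5 (col7 (col15 (col13 (col11 (col9 (col7 (col5 (col3 (col5 (col7 (col9 (col11 (col13 (col15 (col7 (col5 (col9 (col7 (col17 (col15 (col7 (col5 (col9 (col7 (col11 (col9 (col7 (col15 (col17 (col9 (col5 (col7 (col15 (col13 (col11 (col9 (col7 (col5 (col3 (col5 (col7 (col9 (col11 (col13 (col15 (col7 (col5 (col9 (col17 (col15 (col7 (col9 (col15 (col7 (col9 (col5 (col7 (col15 (col11 (col9 (col7 (col5 (col3 (col5 (col7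 (col9 (col11 (col15 (col7 (col5 (col9 (col7 (col15 (col17 (col5 (col7 (col15 (col11 (col9 (col7 (col5 (col3 (col5 (col7 (col9 (col11 (col15 (col7 (col5 (col17 (col15 (col13 (col11 (col9 (col7 (col3 (col5 (col3 (col5 (col3 (col7 (col9 (col11 (col13 (col15 (i))))))))))))))))))))))))))))))))))))))))))))))))))))))))))))))))))))))))))))))))))))))))))))))))))))))))))))))))))))
theorem actR49_eq (i : Nat) : actR49 i = Tab.act T D rw49 i := rfl
noncomputable def actR50 (i : Nat) : Nat := col22 (col15 (col13 (col11 (col7 (col9 (col5 (col7 (col15 (col17 (col11 (col9 (col5 (col7 (col15 (col13 (col11 (col9 (col7 (col5 (col3 (col5 (col7 (col9 (col11 (col13 (col15 (col7 (col5 (col9 (col11 (col17 (col15 (col7 (col5 (col9 (col7 (col11 (col13 (col15 (col17 (col15 (col9 (col11 (col7 (col9 (col5 (col7 (col15 (col13 (col11 (col9 (col7 (col5 (col3 (col5 (col7 (col9 (col11 (col13 (col15 (col7 (col5 (col9 (col7 (col11 (col9 (col15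 (col17 (col15 (col7 (col5 (col3 (col5 (col7 (col15 (col9 (col7 (col5 (col3 (col5 (col7 (col9 (col15 (col17 (col9 (col5 (col7 (col15 (col13 (col11 (col9 (col7 (col5 (col3 (col5 (col7 (col9 (col11 (col13 (col15 (col7 (col5 (col9 (col17 (col15 (col3 (col5 (col3 (col5 (col3 (col25 (i))))))))))))))))))))))))))))))))))))))))))))))))))))))))))))))))))))))))))))))))))))))))))))))))))))))))))))))))
theorem actR50_eq (i : Nat) : actR50 i = Tab.act T D rw50 i := rfl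
noncomputable def actR51 (i : Nat) : Nat := col19 (col19 (col19 (col19 (col19 (col19 (col19 (i)))))))
theorem actR51_eq (i : Nat) : actR51 i = Tab.act T D rw51 i := rfl
noncomputable def actR52 (i : Nat) : Nat := col19 (col19 (col21 (col18 (col21 (col19 (col20 (col19 (col21 (col18 (col21 (i)))))))))))
theorem actR52_eq (i : Nat) : actR52 i = Tab.act T D rw52 i := rfl
noncomputable def actR53 (i : Nat) : Nat := col19 (col19 (col19 (col21 (col19 (col19 (col19 (col21 (col19 (col19 (col19 (col21 (i))))))))))))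
theorem actR53_eq (i : Nat) : actR53 i = Tab.act T D rw53 i := rfl
noncomputable def actR54 (i : Nat) : Nat := col19 (col19 (col21 (col21 (col19 (col19 (col20 (col20 (col19 (col19 (col20 (col20 (i))))))))))))
theorem actR54_eq (i : Nat) : actR54 i = Tab.act T D rw54 i := rfl
noncomputable def actR55 (i : Nat) : Nat := col23 (col23 (col23 (i)))
theorem actR55_eq (i : Nat) : actR55 i = Tab.act T D rw55 i := rfl
noncomputable def actR56 (i : Nat) : Nat := col19 (col19 (col23 (col18 (col18 (col20 (col23 (col21 (i))))))))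
theorem actR56_eq (i : Nat) : actR56 i = Tab.act T D rw56 i := rfl
noncomputable def actR57 (i : Nat) : Nat := col19 (col21 (col23 (col19 (col21 (col23 (col19 (col21 (col23 (i)))))))))
theorem actR57_eq (i : Nat) : actR57 i = Tab.act T D rw57 i := rfl
noncomputable def actR58 (i : Nat) : Nat := col19 (col21 (col21 (col18 (col23 (col19 (col20 (col20 (col18 (col23 (i))))))))))
theorem actR58_eq (i : Nat) : actR58 i = Tab.act T D rw58 i := rfl
noncomputable def actR59 (i : Nat) : Nat := col19 (col23 (col18 (col23 (col18 (col21 (col23 (col20 (col19 (col22 (i))))))))))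
theorem actR59_eq (i : Nat) : actR59 i = Tab.act T D rw59 i := rfl
noncomputable def actR60 (i : Nat) : Nat := col19 (col19 (col20 (col19 (col23 (col18 (col21 (col18 (col18 (col21 (col19 (col22 (col18 (col20 (col24 (i)))))))))))))))
theorem actR60_eq (i : Nat) : actR60 i = Tab.act T D rw60 i := rfl
noncomputable def actR61 (i : Nat) : Nat := col19 (col3 (col18 (col3 (col19 (col3 (col18 (col3 (i))))))))
theorem actR61_eq (i : Nat) : actR61 i = Tab.act T D rw61 i := rfl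
noncomputable def actR62 (i : Nat) : Nat := col21 (col3 (col20 (col3 (col21 (col3 (col20 (col3 (i))))))))
theorem actR62_eq (i : Nat) : actR62 i = Tab.act T D rw62 i := rfl
noncomputable def actR63 (i : Nat) : Nat := col19 (col19 (col21 (col19 (col3 (col18 (col20 (col18 (col18 (col3 (i))))))))))
theorem actR63_eq (i : Nat) : actR63 i = Tab.act T D rw63 i := rfl
noncomputable def actR64 (i : Nat) : Nat := col19 (col20 (col22 (col21 (col3 (col20 (col23 (col21 (col18 (col3 (i))))))))))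
theorem actR64_eq (i : Nat) : actR64 i = Tab.act T D rw64 i := rfl
noncomputable def actR65 (i : Nat) : Nat := col19 (col20 (col23 (col23 (col21 (col3 (col20 (col23 (col21 (col18 (col3 (i)))))))))))
theorem actR65_eq (i : Nat) : actR65 i = Tab.act T D rw65 i := rfl
noncomputable def actR66 (i : Nat) : Nat := col19 (col19 (col19 (col23 (col18 (col18 (col3 (col20 (col23 (col21 (col18 (col3 (i))))))))))))
theorem actR66_eq (i : Nat) : actR66 i = Tab.act T D rw66 i := rfl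
noncomputable def actR67 (i : Nat) : Nat := col19 (col19 (col21 (col19 (col3 (col18 (col21 (col21 (col21 (col18 (col18 (col3 (i))))))))))))
theorem actR67_eq (i : Nat) : actR67 i = Tab.act T D rw67 i := rfl
noncomputable def actR68 (i : Nat) : Nat := col19 (col21 (col3 (col21 (col18 (col22 (col19 (col21 (col3 (col21 (col18 (col22 (i))))))))))))
theorem actR68_eq (i : Nat) : actR68 i = Tab.act T D rw68 i := rfl
noncomputable def actR69 (i : Nat) : Nat := col19 (col21 (col3 (col20 (col18 (col23 (col19 (col20 (col3 (col21 (col18 (col22 (i))))))))))))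
theorem actR69_eq (i : Nat) : actR69 i = Tab.act T D rw69 i := rfl
noncomputable def actR70 (i : Nat) : Nat := col19 (col21 (col3 (col20 (col18 (col23 (col19 (col20 (col3 (col21 (col18 (col23 (col23 (i)))))))))))))
theorem actR70_eq (i : Nat) : actR70 i = Tab.act T D rw70 i := rfl
noncomputable def actR71 (i : Nat) : Nat := col19 (col19 (col23 (col18 (col21 (col18 (col3 (col19 (col20 (col18 (col20 (col23 (col21 (col3 (i))))))))))))))
theorem actR71_eq (i : Nat) : actR71 i = Tab.act T D rw71 i := rfl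
noncomputable def actR72 (i : Nat) : Nat := col19 (col21 (col21 (col19 (col22 (col19 (col3 (col18 (col23 (col18 (col21 (col21 (col18 (col3 (i))))))))))))))
theorem actR72_eq (i : Nat) : actR72 i = Tab.act T D rw72 i := rfl
noncomputable def actR73 (i : Nat) : Nat := col19 (col21 (col18 (col22 (col19 (col3 (col18 (col23 (col19 (col20 (col18 (col20 (col3 (col21 (i))))))))))))))
theorem actR73_eq (i : Nat) : actR73 i = Tab.act T D rw73 i := rfl
noncomputable def actR74 (i : Nat) : Nat := col19 (col19 (col20 (col19 (col3 (col18 (col21 (col18 (col18 (col23 (col20 (col3 (col21 (col22 (i))))))))))))))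
theorem actR74_eq (i : Nat) : actR74 i = Tab.act T D rw74 i := rfl
noncomputable def actR75 (i : Nat) : Nat := col19 (col19 (col21 (col21 (col3 (col21 (col21 (col18 (col18 (col23 (col21 (col3 (col20 (col22 (i))))))))))))))
theorem actR75_eq (i : Nat) : actR75 i = Tab.act T D rw75 i := rfl
noncomputable def actR76 (i : Nat) : Nat := col19 (col23 (col21 (col3 (col20 (col22 (col18 (col21 (col22 (col18 (col3 (col19 (col23 (col20 (i))))))))))))))
theorem actR76_eq (i : Nat) : actR76 i = Tab.act T D rw76 i := rfl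
noncomputable def actR77 (i : Nat) : Nat := col19 (col20 (col20 (col19 (col22 (col3 (col23 (col18 (col21 (col21 (col18 (col22 (col3 (col23 (i))))))))))))))
theorem actR77_eq (i : Nat) : actR77 i = Tab.act T D rw77 i := rfl
noncomputable def actR78 (i : Nat) : Nat := col19 (col19 (col20 (col19 (col23 (col18 (col3 (col21 (col18 (col18 (col21 (col19 (col22 (col3 (col18 (col20 (col24 (i)))))))))))))))))
theorem actR78_eq (i : Nat) : actR78 i = Tab.act T D rw78 i := rfl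
noncomputable def actR79 (i : Nat) : Nat := col19 (col19 (col20 (col19 (col21 (col19 (col20 (col3 (col23 (col3 (col23 (col3 (col20 (col19 (col21 (col23 (col18 (col23 (col24 (col24 (i))))))))))))))))))))
theorem actR79_eq (i : Nat) : actR79 i = Tab.act T D rw79 i := rfl
noncomputable def actR80 (i : Nat) : Nat := col25 (col25 (col25 (i)))
theorem actR80_eq (i : Nat) : actR80 i = Tab.act T D rw80 i := rfl
noncomputable def actR81 (i : Nat) : Nat := col24 (col18 (col25 (col19 (i))))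
theorem actR81_eq (i : Nat) : actR81 i = Tab.act T D rw81 i := rfl
noncomputable def actR82 (i : Nat) : Nat := col24 (col20 (col25 (col21 (i))))
theorem actR82_eq (i : Nat) : actR82 i = Tab.act T D rw82 i := rfl
noncomputable def actR83 (i : Nat) : Nat := col24 (col22 (col25 (col23 (i))))
theorem actR83_eq (i : Nat) : actR83 i = Tab.act T D rw83 i := rfl
noncomputable def actR84 (i : Nat) : Nat := col24 (col2 (col25 (col3 (i))))
theorem actR84_eq (i : Nat) : actR84 i = Tab.act T D rw84 i := rfl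
noncomputable def actR85 (i : Nat) : Nat := col24 (col0 (col25 (col1 (i))))
theorem actR85_eq (i : Nat) : actR85 i = Tab.act T D rw85 i := rfl
noncomputable def actR86 (i : Nat) : Nat := col24 (col4 (col25 (col5 (i))))
theorem actR86_eq (i : Nat) : actR86 i = Tab.act T D rw86 i := rfl
noncomputable def actR87 (i : Nat) : Nat := col24 (col6 (col25 (col7 (i))))
theorem actR87_eq (i : Nat) : actR87 i = Tab.act T D rw87 i := rfl
noncomputable def actR88 (i : Nat) : Nat := col24 (col8 (col25 (col9 (i))))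
theorem actR88_eq (i : Nat) : actR88 i = Tab.act T D rw88 i := rfl
noncomputable def actR89 (i : Nat) : Nat := col24 (col10 (col25 (col11 (i))))
theorem actR89_eq (i : Nat) : actR89 i = Tab.act T D rw89 i := rfl
noncomputable def actR90 (i : Nat) : Nat := col24 (col12 (col25 (col13 (i))))
theorem actR90_eq (i : Nat) : actR90 i = Tab.act T D rw90 i := rfl
noncomputable def actR91 (i : Nat) : Nat := col24 (col14 (col25 (col15 (i))))
theorem actR91_eq (i : Nat) : actR91 i = Tab.act T D rw91 i := rfl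
noncomputable def actR92 (i : Nat) : Nat := col24 (col16 (col25 (col17 (i))))
theorem actR92_eq (i : Nat) : actR92 i = Tab.act T D rw92 i := rfl

end Cfsg.Agent.Lib.Helper4.TCD.C3Fi22yB
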