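import Cfsg.Agent.Lib.Helper4.TCD_C3Fi22yB_Acc

namespace Cfsg.Agent.Lib.Helper4.TCD.C3Fi22yB

open Cfsg.Agent.Lib.Helper4.TC

set_option maxRecDepth 100000
set_option Elab.async false

theorem c_zero : D.zeroOK = true := by decide +kernel
theorem c_base : allBelow D.baseOK 24 = true := by decide +kernel
theorem c_let : allBelow D.letOK 26 = true := by decide +kernel
theorem c_cls0 : T.cls 0 = 0 := by decide +kernel
theorem c_name0 : T.nameOf 0 = 0 := by decide +kernel
theorem c_tab : D.relTabOK 0 (baseRels 26 PC3Fi22y.invR PC3Fi22y.P.real subs ++ (baseRels 26 PC3Fi22y.invR PC3Fi22y.P.real subs).map (invWord D.inv)) = true := by decide +kernel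
theorem c_real : PC3Fi22y.P.real = realLit := by decide +kernel
theorem c_subfix : subs.all (fun u => Nat.beq (Tab.act T D u 0) 0) = true := by decide +kernel
theorem c_subs : subs.all (fun u => u.all (fun x => Nat.ble (Nat.succ x) 26)) = true := by decide +kernel
theorem c_names_0 : allRange D.nameOK 1 37461 = true := by decide +kernel
theorem c_cls_0 : allRange (T.clsOK D) 1 15000 = true := by decide +kernel
theorem c_cls_1 : allRange (T.clsOK D) 15001 15000 = true := by decide +kernel
theorem c_cls_2 : allRange (T.clsOK D) 30001 7461 = true := by decide +kernel
theorem c_rep_0 : allRange (T.repOK D) 0 14080 = true := by decide +kernel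
theorem c_rel_0 : allRange D.relOK 37486 3614 = true := by decide +kernel
theorem c_rel_1 : allRange D.relOK 41100 3521 = true := by decide +kernel
theorem c_rel_2 : allRange D.relOK 44621 3605 = true := by decide +kernel
theorem c_rel_3 : allRange D.relOK 48226 3567 = true := by decide +kernel
theorem c_rel_4 : allRange D.relOK 51793 3547 = true := by decide +kernel
theorem c_rel_5 : allRange D.relOK 55340 3543 = true := by decide +kernel
theorem c_rel_6 : allRange D.relOK 58883 3486 = true := by decide +kernel
theorem c_rel_7 : allRange D.relOK 62369 3624 = true := by decide +kernel
theorem c_rel_8 : allRange D.relOK 65993 3563 = true := by decide +kernel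
theorem c_rel_9 : allRange D.relOK 69556 3249 = true := by decide +kernel
theorem c_rel_10 : allRange D.relOK 72805 2990 = true := by decide +kernel
theorem c_rel_11 : allRange D.relOK 75795 2864 = true := by decide +kernel
theorem c_rel_12 : allRange D.relOK 78659 2788 = true := by decide +kernel
theorem c_rel_13 : allRange D.relOK 81447 2407 = true := by decide +kernel
theorem c_rel_14 : allRange D.relOK 83854 2536 = true := by decide +kernel
theorem c_rel_15 : allRange D.relOK 86390 1951 = true := by decide +kernel
theorem c_rel_16 : allRange D.relOK 88341 1025 = true := by decide +kernel
theorem c_rel_17 : allRange D.relOK 89366 896 = true := by decide +kernel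
theorem c_rel_18 : allRange D.relOK 90262 657 = true := by decide +kernel
theorem c_rel_19 : allRange D.relOK 90919 536 = true := by decide +kernel
theorem c_rel_20 : allRange D.relOK 91455 745 = true := by decide +kernel
theorem c_rel_21 : allRange D.relOK 92200 632 = true := by decide +kernel
theorem c_rel_22 : allRange D.relOK 92832 421 = true := by decide +kernel
theorem c_rel_23 : allRange D.relOK 93253 855 = true := by decide +kernel
theorem c_rel_24 : allRange D.relOK 94108 527 = true := by decide +kernel
theorem c_rel_25 : allRange D.relOK 94635 490 = true := by decide +kernel
theorem c_rel_26 : allRange D.relOK 95125 401 = true := by decide +kernel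
theorem c_rel_27 : allRange D.relOK 95526 504 = true := by decide +kernel
theorem c_rel_28 : allRange D.relOK 96030 222 = true := by decide +kernel
theorem c_rel_29 : allRange D.relOK 96252 833 = true := by decide +kernel
theorem c_rel_30 : allRange D.relOK 97085 285 = true := by decide +kernel
theorem c_rel_31 : allRange D.relOK 97370 349 = true := by decide +kernel
theorem c_rel_32 : allRange D.relOK 97719 174 = true := by decide +kernel
theorem c_rel_33 : allRange D.relOK 97893 284 = true := by decide +kernel
theorem c_rel_34 : allRange D.relOK 98177 122 = true := by decide +kernel
theorem c_rel_35 : allRange D.relOK 98299 272 = true := by decide +kernel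
theorem c_rel_36 : allRange D.relOK 98571 360 = true := by decide +kernel
theorem c_rel_37 : allRange D.relOK 98931 369 = true := by decide +kernel
theorem c_rel_38 : allRange D.relOK 99300 381 = true := by decide +kernel
theorem c_rel_39 : allRange D.relOK 99681 451 = true := by decide +kernel
theorem c_rel_40 : allRange D.relOK 100132 77 = true := by decide +kernel
theorem c_rel_41 : allRange D.relOK 100209 318 = true := by decide +kernel
theorem c_rel_42 : allRange D.relOK 100527 80 = true := by decide +kernel
theorem c_rel_43 : allRange D.relOK 100607 351 = true := by decide +kernel
theorem c_rel_44 : allRange D.relOK 100958 106 = true := by decide +kernel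
theorem c_rel_45 : allRange D.relOK 101064 162 = true := by decide +kernel
theorem c_rel_46 : allRange D.relOK 101226 255 = true := by decide +kernel
theorem c_rel_47 : allRange D.relOK 101481 283 = true := by decide +kernel
theorem c_rel_48 : allRange D.relOK 101764 137 = true := by decide +kernel
theorem c_rel_49 : allRange D.relOK 101901 133 = true := by decide +kernel
theorem c_rel_50 : allRange D.relOK 102034 95 = true := by decide +kernel
theorem c_rel_51 : allRange D.relOK 102129 113 = true := by decide +kernel
theorem c_rel_52 : allRange D.relOK 102242 182 = true := by decide +kernel
theorem c_rel_53 : allRange D.relOK 102424 268 = true := by decide +kernel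
theorem c_rel_54 : allRange D.relOK 102692 126 = true := by decide +kernel
theorem c_rel_55 : allRange D.relOK 102818 138 = true := by decide +kernel
theorem c_rel_56 : allRange D.relOK 102956 201 = true := by decide +kernel
theorem c_rel_57 : allRange D.relOK 103157 105 = true := by decide +kernel
theorem c_rel_58 : allRange D.relOK 103262 99 = true := by decide +kernel
theorem c_rel_59 : allRange D.relOK 103361 79 = true := by decide +kernel
theorem c_rel_60 : allRange D.relOK 103440 290 = true := by decide +kernel
theorem c_rel_61 : allRange D.relOK 103730 293 = true := by decide +kernel
theorem c_rel_62 : allRange D.relOK 104023 140 = true := by decide +kernel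
theorem c_rel_63 : allRange D.relOK 104163 111 = true := by decide +kernel
theorem c_rel_64 : allRange D.relOK 104274 91 = true := by decide +kernel
theorem c_rel_65 : allRange D.relOK 104365 160 = true := by decide +kernel
theorem c_rel_66 : allRange D.relOK 104525 446 = true := by decide +kernel
theorem c_rel_67 : allRange D.relOK 104971 255 = true := by decide +kernel
theorem c_rel_68 : allRange D.relOK 105226 132 = true := by decide +kernel
theorem c_rel_69 : allRange D.relOK 105358 245 = true := by decide +kernel
theorem c_rel_70 : allRange D.relOK 105603 555 = true := by decide +kernel
theorem c_rel_71 : allRange D.relOK 106158 183 = true := by decide +kernel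
theorem c_rel_72 : allRange D.relOK 106341 112 = true := by decide +kernel
theorem c_rel_73 : allRange D.relOK 106453 418 = true := by decide +kernel
theorem c_rel_74 : allRange D.relOK 106871 286 = true := by decide +kernel
theorem c_rel_75 : allRange D.relOK 107157 714 = true := by decide +kernel
theorem c_rel_76 : allRange D.relOK 107871 705 = true := by decide +kernel
theorem c_rel_77 : allRange D.relOK 108576 1227 = true := by decide +kernel
theorem c_rel_78 : allRange D.relOK 109803 921 = true := by decide +kernel
theorem c_rel_79 : allRange D.relOK 110724 1483 = true := by decide +kernel
theorem c_rel_80 : allRange D.relOK 112207 1211 = true := by decide +kernel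
theorem c_rel_81 : allRange D.relOK 113418 829 = true := by decide +kernel
theorem c_rel_82 : allRange D.relOK 114247 793 = true := by decide +kernel
theorem c_rel_83 : allRange D.relOK 115040 616 = true := by decide +kernel
theorem c_rel_84 : allRange D.relOK 115656 131 = true := by decide +kernel
theorem c_rel_85 : allRange D.relOK 115787 135 = true := by decide +kernel
theorem c_rel_86 : allRange D.relOK 115922 81 = true := by decide +kernel
theorem c_rel_87 : allRange D.relOK 116003 59 = true := by decide +kernel
theorem c_rel_88 : allRange D.relOK 116062 78 = true := by decide +kernel
theorem c_rel_89 : allRange D.relOK 116140 102 = true := by decide +kernel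
theorem c_rel_90 : allRange D.relOK 116242 91 = true := by decide +kernel
theorem c_rel_91 : allRange D.relOK 116333 910 = true := by decide +kernel

end Cfsg.Agent.Lib.Helper4.TCD.C3Fi22yB
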