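import Cfsg.Agent.Lib.Helper4.TC14
import Cfsg.Agent.Lib.Helper4.TCP_C3Fi22y
import Cfsg.Agent.Lib.Helper4.TCD_C3Fi22yR_D0
import Cfsg.Agent.Lib.Helper4.TCD_C3Fi22yR_D1
import Cfsg.Agent.Lib.Helper4.TCD_C3Fi22yR_D2
import Cfsg.Agent.Lib.Helper4.TCD_C3Fi22yR_D3
import Cfsg.Agent.Lib.Helper4.TCD_C3Fi22yR_D4
import Cfsg.Agent.Lib.Helper4.TCD_C3Fi22yR_D5
import Cfsg.Agent.Lib.Helper4.TCD_C3Fi22yR_D6
import Cfsg.Agent.Lib.Helper4.TCD_C3Fi22yR_D7
import Cfsg.Agent.Lib.Helper4.TCD_C3Fi22yR_D8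
import Cfsg.Agent.Lib.Helper4.TCD_C3Fi22yR_D9

namespace Cfsg.Agent.Lib.Helper4.TCD.C3Fi22yR

open Cfsg.Agent.Lib.Helper4.TC

set_option maxRecDepth 100000

noncomputable def col0_s_0_2 (c : Nat) : Nat := @Bool.rec (fun _ => Nat) (col0_0) (col0_1) (Nat.ble 1 c)
noncomputable def col0_s_3_5 (c : Nat) : Nat := @Bool.rec (fun _ => Nat) (col0_3) (col0_4) (Nat.ble 4 c)
noncomputable def col0_s_2_5 (c : Nat) : Nat := @Bool.rec (fun _ => Nat) (col0_2) (col0_s_3_5 c) (Nat.ble 3 c)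
noncomputable def col0_s_0_5 (c : Nat) : Nat := @Bool.rec (fun _ => Nat) (col0_s_0_2 c) (col0_s_2_5 c) (Nat.ble 2 c)
noncomputable def col0_s_6_8 (c : Nat) : Nat := @Bool.rec (fun _ => Nat) (col0_6) (col0_7) (Nat.ble 7 c)
noncomputable def col0_s_5_8 (c : Nat) : Nat := @Bool.rec (fun _ => Nat) (col0_5) (col0_s_6_8 c) (Nat.ble 6 c)
noncomputable def col0_s_9_11 (c : Nat) : Nat := @Bool.rec (fun _ => Nat) (col0_9) (col0_10) (Nat.ble 10 c)
noncomputable def col0_s_8_11 (c : Nat) : Nat := @Bool.rec (fun _ => Nat) (col0_8) (col0_s_9_11 c) (Nat.ble 9 c)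
noncomputable def col0_s_5_11 (c : Nat) : Nat := @Bool.rec (fun _ => Nat) (col0_s_5_8 c) (col0_s_8_11 c) (Nat.ble 8 c)
noncomputable def col0_s_0_11 (c : Nat) : Nat := @Bool.rec (fun _ => Nat) (col0_s_0_5 c) (col0_s_5_11 c) (Nat.ble 5 c)
noncomputable def col0_s_12_14 (c : Nat) : Nat := @Bool.rec (fun _ => Nat) (col0_12) (col0_13) (Nat.ble 13 c)
noncomputable def col0_s_11_14 (c : Nat) : Nat := @Bool.rec (fun _ => Nat) (col0_11) (col0_s_12_14 c) (Nat.ble 12 c)
noncomputable def col0_s_15_17 (c : Nat) : Nat := @Bool.rec (fun _ => Nat) (col0_15) (col0_16) (Nat.ble 16 c)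
noncomputable def col0_s_14_17 (c : Nat) : Nat := @Bool.rec (fun _ => Nat) (col0_14) (col0_s_15_17 c) (Nat.ble 15 c)
noncomputable def col0_s_11_17 (c : Nat) : Nat := @Bool.rec (fun _ => Nat) (col0_s_11_14 c) (col0_s_14_17 c) (Nat.ble 14 c)
noncomputable def col0_s_18_20 (c : Nat) : Nat := @Bool.rec (fun _ => Nat) (col0_18) (col0_19) (Nat.ble 19 c)
noncomputable def col0_s_17_20 (c : Nat) : Nat := @Bool.rec (fun _ => Nat) (col0_17) (col0_s_18_20 c) (Nat.ble 18 c)
noncomputable def col0_s_21_23 (c : Nat) : Nat := @Bool.rec (fun _ => Nat) (col0_21) (col0_22) (Nat.ble 22 c)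
noncomputable def col0_s_20_23 (c : Nat) : Nat := @Bool.rec (fun _ => Nat) (col0_20) (col0_s_21_23 c) (Nat.ble 21 c)
noncomputable def col0_s_17_23 (c : Nat) : Nat := @Bool.rec (fun _ => Nat) (col0_s_17_20 c) (col0_s_20_23 c) (Nat.ble 20 c)
noncomputable def col0_s_11_23 (c : Nat) : Nat := @Bool.rec (fun _ => Nat) (col0_s_11_17 c) (col0_s_17_23 c) (Nat.ble 17 c)
noncomputable def col0_s_0_23 (c : Nat) : Nat := @Bool.rec (fun _ => Nat) (col0_s_0_11 c) (col0_s_11_23 c) (Nat.ble 11 c)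
noncomputable def col0_s_23_25 (c : Nat) : Nat := @Bool.rec (fun _ => Nat) (col0_23) (col0_24) (Nat.ble 24 c)
noncomputable def col0_s_26_28 (c : Nat) : Nat := @Bool.rec (fun _ => Nat) (col0_26) (col0_27) (Nat.ble 27 c)
noncomputable def col0_s_25_28 (c : Nat) : Nat := @Bool.rec (fun _ => Nat) (col0_25) (col0_s_26_28 c) (Nat.ble 26 c)
noncomputable def col0_s_23_28 (c : Nat) : Nat := @Bool.rec (fun _ => Nat) (col0_s_23_25 c) (col0_s_25_28 c) (Nat.ble 25 c)
noncomputable def col0_s_29_31 (c : Nat) : Nat := @Bool.rec (fun _ => Nat) (col0_29) (col0_30) (Nat.ble 30 c)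
noncomputable def col0_s_28_31 (c : Nat) : Nat := @Bool.rec (fun _ => Nat) (col0_28) (col0_s_29_31 c) (Nat.ble 29 c)
noncomputable def col0_s_32_34 (c : Nat) : Nat := @Bool.rec (fun _ => Nat) (col0_32) (col0_33) (Nat.ble 33 c)
noncomputable def col0_s_31_34 (c : Nat) : Nat := @Bool.rec (fun _ => Nat) (col0_31) (col0_s_32_34 c) (Nat.ble 32 c)
noncomputable def col0_s_28_34 (c : Nat) : Nat := @Bool.rec (fun _ => Nat) (col0_s_28_31 c) (col0_s_31_34 c) (Nat.ble 31 c)
noncomputable def col0_s_23_34 (c : Nat) : Nat := @Bool.rec (fun _ => Nat) (col0_s_23_28 c) (col0_s_28_34 c) (Nat.ble 28 c)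
noncomputable def col0_s_35_37 (c : Nat) : Nat := @Bool.rec (fun _ => Nat) (col0_35) (col0_36) (Nat.ble 36 c)
noncomputable def col0_s_34_37 (c : Nat) : Nat := @Bool.rec (fun _ => Nat) (col0_34) (col0_s_35_37 c) (Nat.ble 35 c)
noncomputable def col0_s_38_40 (c : Nat) : Nat := @Bool.rec (fun _ => Nat) (col0_38) (col0_39) (Nat.ble 39 c)
noncomputable def col0_s_37_40 (c : Nat) : Nat := @Bool.rec (fun _ => Nat) (col0_37) (col0_s_38_40 c) (Nat.ble 38 c)
noncomputable def col0_s_34_40 (c : Nat) : Nat := @Bool.rec (fun _ => Nat) (col0_s_34_37 c) (col0_s_37_40 c) (Nat.ble 37 c)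
noncomputable def col0_s_41_43 (c : Nat) : Nat := @Bool.rec (fun _ => Nat) (col0_41) (col0_42) (Nat.ble 42 c)
noncomputable def col0_s_40_43 (c : Nat) : Nat := @Bool.rec (fun _ => Nat) (col0_40) (col0_s_41_43 c) (Nat.ble 41 c)
noncomputable def col0_s_44_46 (c : Nat) : Nat := @Bool.rec (fun _ => Nat) (col0_44) (col0_45) (Nat.ble 45 c)
noncomputable def col0_s_43_46 (c : Nat) : Nat := @Bool.rec (fun _ => Nat) (col0_43) (col0_s_44_46 c) (Nat.ble 44 c)
noncomputable def col0_s_40_46 (c : Nat) : Nat := @Bool.rec (fun _ => Nat) (col0_s_40_43 c) (col0_s_43_46 c) (Nat.ble 43 c)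
noncomputable def col0_s_34_46 (c : Nat) : Nat := @Bool.rec (fun _ => Nat) (col0_s_34_40 c) (col0_s_40_46 c) (Nat.ble 40 c)
noncomputable def col0_s_23_46 (c : Nat) : Nat := @Bool.rec (fun _ => Nat) (col0_s_23_34 c) (col0_s_34_46 c) (Nat.ble 34 c)
noncomputable def col0_s_0_46 (c : Nat) : Nat := @Bool.rec (fun _ => Nat) (col0_s_0_23 c) (col0_s_23_46 c) (Nat.ble 23 c)
noncomputable def col0 (i : Nat) : Nat := rdw 18 262143 (col0_s_0_46 (Nat.shiftRight i 12)) (Nat.land i 4095)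
noncomputable def col1 (i : Nat) : Nat := col0 i
noncomputable def col2_s_0_2 (c : Nat) : Nat := @Bool.rec (fun _ => Nat) (col2_0) (col2_1) (Nat.ble 1 c)
noncomputable def col2_s_3_5 (c : Nat) : Nat := @Bool.rec (fun _ => Nat) (col2_3) (col2_4) (Nat.ble 4 c)
noncomputable def col2_s_2_5 (c : Nat) : Nat := @Bool.rec (fun _ => Nat) (col2_2) (col2_s_3_5 c) (Nat.ble 3 c)
noncomputable def col2_s_0_5 (c : Nat) : Nat := @Bool.rec (fun _ => Nat) (col2_s_0_2 c) (col2_s_2_5 c) (Nat.ble 2 c)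
noncomputable def col2_s_6_8 (c : Nat) : Nat := @Bool.rec (fun _ => Nat) (col2_6) (col2_7) (Nat.ble 7 c)
noncomputable def col2_s_5_8 (c : Nat) : Nat := @Bool.rec (fun _ => Nat) (col2_5) (col2_s_6_8 c) (Nat.ble 6 c)
noncomputable def col2_s_9_11 (c : Nat) : Nat := @Bool.rec (fun _ => Nat) (col2_9) (col2_10) (Nat.ble 10 c)
noncomputable def col2_s_8_11 (c : Nat) : Nat := @Bool.rec (fun _ => Nat) (col2_8) (col2_s_9_11 c) (Nat.ble 9 c)
noncomputable def col2_s_5_11 (c : Nat) : Nat := @Bool.rec (fun _ => Nat) (col2_s_5_8 c) (col2_s_8_11 c) (Nat.ble 8 c)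
noncomputable def col2_s_0_11 (c : Nat) : Nat := @Bool.rec (fun _ => Nat) (col2_s_0_5 c) (col2_s_5_11 c) (Nat.ble 5 c)
noncomputable def col2_s_12_14 (c : Nat) : Nat := @Bool.rec (fun _ => Nat) (col2_12) (col2_13) (Nat.ble 13 c)
noncomputable def col2_s_11_14 (c : Nat) : Nat := @Bool.rec (fun _ => Nat) (col2_11) (col2_s_12_14 c) (Nat.ble 12 c)
noncomputable def col2_s_15_17 (c : Nat) : Nat := @Bool.rec (fun _ => Nat) (col2_15) (col2_16) (Nat.ble 16 c)
noncomputable def col2_s_14_17 (c : Nat) : Nat := @Bool.rec (fun _ => Nat) (col2_14) (col2_s_15_17 c) (Nat.ble 15 c)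
noncomputable def col2_s_11_17 (c : Nat) : Nat := @Bool.rec (fun _ => Nat) (col2_s_11_14 c) (col2_s_14_17 c) (Nat.ble 14 c)
noncomputable def col2_s_18_20 (c : Nat) : Nat := @Bool.rec (fun _ => Nat) (col2_18) (col2_19) (Nat.ble 19 c)
noncomputable def col2_s_17_20 (c : Nat) : Nat := @Bool.rec (fun _ => Nat) (col2_17) (col2_s_18_20 c) (Nat.ble 18 c)
noncomputable def col2_s_21_23 (c : Nat) : Nat := @Bool.rec (fun _ => Nat) (col2_21) (col2_22) (Nat.ble 22 c)
noncomputable def col2_s_20_23 (c : Nat) : Nat := @Bool.rec (fun _ => Nat) (col2_20) (col2_s_21_23 c) (Nat.ble 21 c)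
noncomputable def col2_s_17_23 (c : Nat) : Nat := @Bool.rec (fun _ => Nat) (col2_s_17_20 c) (col2_s_20_23 c) (Nat.ble 20 c)
noncomputable def col2_s_11_23 (c : Nat) : Nat := @Bool.rec (fun _ => Nat) (col2_s_11_17 c) (col2_s_17_23 c) (Nat.ble 17 c)
noncomputable def col2_s_0_23 (c : Nat) : Nat := @Bool.rec (fun _ => Nat) (col2_s_0_11 c) (col2_s_11_23 c) (Nat.ble 11 c)
noncomputable def col2_s_23_25 (c : Nat) : Nat := @Bool.rec (fun _ => Nat) (col2_23) (col2_24) (Nat.ble 24 c)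
noncomputable def col2_s_26_28 (c : Nat) : Nat := @Bool.rec (fun _ => Nat) (col2_26) (col2_27) (Nat.ble 27 c)
noncomputable def col2_s_25_28 (c : Nat) : Nat := @Bool.rec (fun _ => Nat) (col2_25) (col2_s_26_28 c) (Nat.ble 26 c)
noncomputable def col2_s_23_28 (c : Nat) : Nat := @Bool.rec (fun _ => Nat) (col2_s_23_25 c) (col2_s_25_28 c) (Nat.ble 25 c)
noncomputable def col2_s_29_31 (c : Nat) : Nat := @Bool.rec (fun _ => Nat) (col2_29) (col2_30) (Nat.ble 30 c)
noncomputable def col2_s_28_31 (c : Nat) : Nat := @Bool.rec (fun _ => Nat) (col2_28) (col2_s_29_31 c) (Nat.ble 29 c)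
noncomputable def col2_s_32_34 (c : Nat) : Nat := @Bool.rec (fun _ => Nat) (col2_32) (col2_33) (Nat.ble 33 c)
noncomputable def col2_s_31_34 (c : Nat) : Nat := @Bool.rec (fun _ => Nat) (col2_31) (col2_s_32_34 c) (Nat.ble 32 c)
noncomputable def col2_s_28_34 (c : Nat) : Nat := @Bool.rec (fun _ => Nat) (col2_s_28_31 c) (col2_s_31_34 c) (Nat.ble 31 c)
noncomputable def col2_s_23_34 (c : Nat) : Nat := @Bool.rec (fun _ => Nat) (col2_s_23_28 c) (col2_s_28_34 c) (Nat.ble 28 c)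
noncomputable def col2_s_35_37 (c : Nat) : Nat := @Bool.rec (fun _ => Nat) (col2_35) (col2_36) (Nat.ble 36 c)
noncomputable def col2_s_34_37 (c : Nat) : Nat := @Bool.rec (fun _ => Nat) (col2_34) (col2_s_35_37 c) (Nat.ble 35 c)
noncomputable def col2_s_38_40 (c : Nat) : Nat := @Bool.rec (fun _ => Nat) (col2_38) (col2_39) (Nat.ble 39 c)
noncomputable def col2_s_37_40 (c : Nat) : Nat := @Bool.rec (fun _ => Nat) (col2_37) (col2_s_38_40 c) (Nat.ble 38 c)
noncomputable def col2_s_34_40 (c : Nat) : Nat := @Bool.rec (fun _ => Nat) (col2_s_34_37 c) (col2_s_37_40 c) (Nat.ble 37 c)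
noncomputable def col2_s_41_43 (c : Nat) : Nat := @Bool.rec (fun _ => Nat) (col2_41) (col2_42) (Nat.ble 42 c)
noncomputable def col2_s_40_43 (c : Nat) : Nat := @Bool.rec (fun _ => Nat) (col2_40) (col2_s_41_43 c) (Nat.ble 41 c)
noncomputable def col2_s_44_46 (c : Nat) : Nat := @Bool.rec (fun _ => Nat) (col2_44) (col2_45) (Nat.ble 45 c)
noncomputable def col2_s_43_46 (c : Nat) : Nat := @Bool.rec (fun _ => Nat) (col2_43) (col2_s_44_46 c) (Nat.ble 44 c)
noncomputable def col2_s_40_46 (c : Nat) : Nat := @Bool.rec (fun _ => Nat) (col2_s_40_43 c) (col2_s_43_46 c) (Nat.ble 43 c)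
noncomputable def col2_s_34_46 (c : Nat) : Nat := @Bool.rec (fun _ => Nat) (col2_s_34_40 c) (col2_s_40_46 c) (Nat.ble 40 c)
noncomputable def col2_s_23_46 (c : Nat) : Nat := @Bool.rec (fun _ => Nat) (col2_s_23_34 c) (col2_s_34_46 c) (Nat.ble 34 c)
noncomputable def col2_s_0_46 (c : Nat) : Nat := @Bool.rec (fun _ => Nat) (col2_s_0_23 c) (col2_s_23_46 c) (Nat.ble 23 c)
noncomputable def col2 (i : Nat) : Nat := rdw 18 262143 (col2_s_0_46 (Nat.shiftRight i 12)) (Nat.land i 4095)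
noncomputable def col3 (i : Nat) : Nat := col2 i
noncomputable def col4_s_0_2 (c : Nat) : Nat := @Bool.rec (fun _ => Nat) (col4_0) (col4_1) (Nat.ble 1 c)
noncomputable def col4_s_3_5 (c : Nat) : Nat := @Bool.rec (fun _ => Nat) (col4_3) (col4_4) (Nat.ble 4 c)
noncomputable def col4_s_2_5 (c : Nat) : Nat := @Bool.rec (fun _ => Nat) (col4_2) (col4_s_3_5 c) (Nat.ble 3 c)
noncomputable def col4_s_0_5 (c : Nat) : Nat := @Bool.rec (fun _ => Nat) (col4_s_0_2 c) (col4_s_2_5 c) (Nat.ble 2 c)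
noncomputable def col4_s_6_8 (c : Nat) : Nat := @Bool.rec (fun _ => Nat) (col4_6) (col4_7) (Nat.ble 7 c)
noncomputable def col4_s_5_8 (c : Nat) : Nat := @Bool.rec (fun _ => Nat) (col4_5) (col4_s_6_8 c) (Nat.ble 6 c)
noncomputable def col4_s_9_11 (c : Nat) : Nat := @Bool.rec (fun _ => Nat) (col4_9) (col4_10) (Nat.ble 10 c)
noncomputable def col4_s_8_11 (c : Nat) : Nat := @Bool.rec (fun _ => Nat) (col4_8) (col4_s_9_11 c) (Nat.ble 9 c)
noncomputable def col4_s_5_11 (c : Nat) : Nat := @Bool.rec (fun _ => Nat) (col4_s_5_8 c) (col4_s_8_11 c) (Nat.ble 8 c)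
noncomputable def col4_s_0_11 (c : Nat) : Nat := @Bool.rec (fun _ => Nat) (col4_s_0_5 c) (col4_s_5_11 c) (Nat.ble 5 c)
noncomputable def col4_s_12_14 (c : Nat) : Nat := @Bool.rec (fun _ => Nat) (col4_12) (col4_13) (Nat.ble 13 c)
noncomputable def col4_s_11_14 (c : Nat) : Nat := @Bool.rec (fun _ => Nat) (col4_11) (col4_s_12_14 c) (Nat.ble 12 c)
noncomputable def col4_s_15_17 (c : Nat) : Nat := @Bool.rec (fun _ => Nat) (col4_15) (col4_16) (Nat.ble 16 c)
noncomputable def col4_s_14_17 (c : Nat) : Nat := @Bool.rec (fun _ => Nat) (col4_14) (col4_s_15_17 c) (Nat.ble 15 c)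
noncomputable def col4_s_11_17 (c : Nat) : Nat := @Bool.rec (fun _ => Nat) (col4_s_11_14 c) (col4_s_14_17 c) (Nat.ble 14 c)
noncomputable def col4_s_18_20 (c : Nat) : Nat := @Bool.rec (fun _ => Nat) (col4_18) (col4_19) (Nat.ble 19 c)
noncomputable def col4_s_17_20 (c : Nat) : Nat := @Bool.rec (fun _ => Nat) (col4_17) (col4_s_18_20 c) (Nat.ble 18 c)
noncomputable def col4_s_21_23 (c : Nat) : Nat := @Bool.rec (fun _ => Nat) (col4_21) (col4_22) (Nat.ble 22 c)
noncomputable def col4_s_20_23 (c : Nat) : Nat := @Bool.rec (fun _ => Nat) (col4_20) (col4_s_21_23 c) (Nat.ble 21 c)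
noncomputable def col4_s_17_23 (c : Nat) : Nat := @Bool.rec (fun _ => Nat) (col4_s_17_20 c) (col4_s_20_23 c) (Nat.ble 20 c)
noncomputable def col4_s_11_23 (c : Nat) : Nat := @Bool.rec (fun _ => Nat) (col4_s_11_17 c) (col4_s_17_23 c) (Nat.ble 17 c)
noncomputable def col4_s_0_23 (c : Nat) : Nat := @Bool.rec (fun _ => Nat) (col4_s_0_11 c) (col4_s_11_23 c) (Nat.ble 11 c)
noncomputable def col4_s_23_25 (c : Nat) : Nat := @Bool.rec (fun _ => Nat) (col4_23) (col4_24) (Nat.ble 24 c)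
noncomputable def col4_s_26_28 (c : Nat) : Nat := @Bool.rec (fun _ => Nat) (col4_26) (col4_27) (Nat.ble 27 c)
noncomputable def col4_s_25_28 (c : Nat) : Nat := @Bool.rec (fun _ => Nat) (col4_25) (col4_s_26_28 c) (Nat.ble 26 c)
noncomputable def col4_s_23_28 (c : Nat) : Nat := @Bool.rec (fun _ => Nat) (col4_s_23_25 c) (col4_s_25_28 c) (Nat.ble 25 c)
noncomputable def col4_s_29_31 (c : Nat) : Nat := @Bool.rec (fun _ => Nat) (col4_29) (col4_30) (Nat.ble 30 c)
noncomputable def col4_s_28_31 (c : Nat) : Nat := @Bool.rec (fun _ => Nat) (col4_28) (col4_s_29_31 c) (Nat.ble 29 c)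
noncomputable def col4_s_32_34 (c : Nat) : Nat := @Bool.rec (fun _ => Nat) (col4_32) (col4_33) (Nat.ble 33 c)
noncomputable def col4_s_31_34 (c : Nat) : Nat := @Bool.rec (fun _ => Nat) (col4_31) (col4_s_32_34 c) (Nat.ble 32 c)
noncomputable def col4_s_28_34 (c : Nat) : Nat := @Bool.rec (fun _ => Nat) (col4_s_28_31 c) (col4_s_31_34 c) (Nat.ble 31 c)
noncomputable def col4_s_23_34 (c : Nat) : Nat := @Bool.rec (fun _ => Nat) (col4_s_23_28 c) (col4_s_28_34 c) (Nat.ble 28 c)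
noncomputable def col4_s_35_37 (c : Nat) : Nat := @Bool.rec (fun _ => Nat) (col4_35) (col4_36) (Nat.ble 36 c)
noncomputable def col4_s_34_37 (c : Nat) : Nat := @Bool.rec (fun _ => Nat) (col4_34) (col4_s_35_37 c) (Nat.ble 35 c)
noncomputable def col4_s_38_40 (c : Nat) : Nat := @Bool.rec (fun _ => Nat) (col4_38) (col4_39) (Nat.ble 39 c)
noncomputable def col4_s_37_40 (c : Nat) : Nat := @Bool.rec (fun _ => Nat) (col4_37) (col4_s_38_40 c) (Nat.ble 38 c)
noncomputable def col4_s_34_40 (c : Nat) : Nat := @Bool.rec (fun _ => Nat) (col4_s_34_37 c) (col4_s_37_40 c) (Nat.ble 37 c)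
noncomputable def col4_s_41_43 (c : Nat) : Nat := @Bool.rec (fun _ => Nat) (col4_41) (col4_42) (Nat.ble 42 c)
noncomputable def col4_s_40_43 (c : Nat) : Nat := @Bool.rec (fun _ => Nat) (col4_40) (col4_s_41_43 c) (Nat.ble 41 c)
noncomputable def col4_s_44_46 (c : Nat) : Nat := @Bool.rec (fun _ => Nat) (col4_44) (col4_45) (Nat.ble 45 c)
noncomputable def col4_s_43_46 (c : Nat) : Nat := @Bool.rec (fun _ => Nat) (col4_43) (col4_s_44_46 c) (Nat.ble 44 c)
noncomputable def col4_s_40_46 (c : Nat) : Nat := @Bool.rec (fun _ => Nat) (col4_s_40_43 c) (col4_s_43_46 c) (Nat.ble 43 c)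
noncomputable def col4_s_34_46 (c : Nat) : Nat := @Bool.rec (fun _ => Nat) (col4_s_34_40 c) (col4_s_40_46 c) (Nat.ble 40 c)
noncomputable def col4_s_23_46 (c : Nat) : Nat := @Bool.rec (fun _ => Nat) (col4_s_23_34 c) (col4_s_34_46 c) (Nat.ble 34 c)
noncomputable def col4_s_0_46 (c : Nat) : Nat := @Bool.rec (fun _ => Nat) (col4_s_0_23 c) (col4_s_23_46 c) (Nat.ble 23 c)
noncomputable def col4 (i : Nat) : Nat := rdw 18 262143 (col4_s_0_46 (Nat.shiftRight i 12)) (Nat.land i 4095)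
noncomputable def col5 (i : Nat) : Nat := col4 i
noncomputable def col6_s_0_2 (c : Nat) : Nat := @Bool.rec (fun _ => Nat) (col6_0) (col6_1) (Nat.ble 1 c)
noncomputable def col6_s_3_5 (c : Nat) : Nat := @Bool.rec (fun _ => Nat) (col6_3) (col6_4) (Nat.ble 4 c)
noncomputable def col6_s_2_5 (c : Nat) : Nat := @Bool.rec (fun _ => Nat) (col6_2) (col6_s_3_5 c) (Nat.ble 3 c)
noncomputable def col6_s_0_5 (c : Nat) : Nat := @Bool.rec (fun _ => Nat) (col6_s_0_2 c) (col6_s_2_5 c) (Nat.ble 2 c)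
noncomputable def col6_s_6_8 (c : Nat) : Nat := @Bool.rec (fun _ => Nat) (col6_6) (col6_7) (Nat.ble 7 c)
noncomputable def col6_s_5_8 (c : Nat) : Nat := @Bool.rec (fun _ => Nat) (col6_5) (col6_s_6_8 c) (Nat.ble 6 c)
noncomputable def col6_s_9_11 (c : Nat) : Nat := @Bool.rec (fun _ => Nat) (col6_9) (col6_10) (Nat.ble 10 c)
noncomputable def col6_s_8_11 (c : Nat) : Nat := @Bool.rec (fun _ => Nat) (col6_8) (col6_s_9_11 c) (Nat.ble 9 c)
noncomputable def col6_s_5_11 (c : Nat) : Nat := @Bool.rec (fun _ => Nat) (col6_s_5_8 c) (col6_s_8_11 c) (Nat.ble 8 c)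
noncomputable def col6_s_0_11 (c : Nat) : Nat := @Bool.rec (fun _ => Nat) (col6_s_0_5 c) (col6_s_5_11 c) (Nat.ble 5 c)
noncomputable def col6_s_12_14 (c : Nat) : Nat := @Bool.rec (fun _ => Nat) (col6_12) (col6_13) (Nat.ble 13 c)
noncomputable def col6_s_11_14 (c : Nat) : Nat := @Bool.rec (fun _ => Nat) (col6_11) (col6_s_12_14 c) (Nat.ble 12 c)
noncomputable def col6_s_15_17 (c : Nat) : Nat := @Bool.rec (fun _ => Nat) (col6_15) (col6_16) (Nat.ble 16 c)
noncomputable def col6_s_14_17 (c : Nat) : Nat := @Bool.rec (fun _ => Nat) (col6_14) (col6_s_15_17 c) (Nat.ble 15 c)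
noncomputable def col6_s_11_17 (c : Nat) : Nat := @Bool.rec (fun _ => Nat) (col6_s_11_14 c) (col6_s_14_17 c) (Nat.ble 14 c)
noncomputable def col6_s_18_20 (c : Nat) : Nat := @Bool.rec (fun _ => Nat) (col6_18) (col6_19) (Nat.ble 19 c)
noncomputable def col6_s_17_20 (c : Nat) : Nat := @Bool.rec (fun _ => Nat) (col6_17) (col6_s_18_20 c) (Nat.ble 18 c)
noncomputable def col6_s_21_23 (c : Nat) : Nat := @Bool.rec (fun _ => Nat) (col6_21) (col6_22) (Nat.ble 22 c)
noncomputable def col6_s_20_23 (c : Nat) : Nat := @Bool.rec (fun _ => Nat) (col6_20) (col6_s_21_23 c) (Nat.ble 21 c)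
noncomputable def col6_s_17_23 (c : Nat) : Nat := @Bool.rec (fun _ => Nat) (col6_s_17_20 c) (col6_s_20_23 c) (Nat.ble 20 c)
noncomputable def col6_s_11_23 (c : Nat) : Nat := @Bool.rec (fun _ => Nat) (col6_s_11_17 c) (col6_s_17_23 c) (Nat.ble 17 c)
noncomputable def col6_s_0_23 (c : Nat) : Nat := @Bool.rec (fun _ => Nat) (col6_s_0_11 c) (col6_s_11_23 c) (Nat.ble 11 c)
noncomputable def col6_s_23_25 (c : Nat) : Nat := @Bool.rec (fun _ => Nat) (col6_23) (col6_24) (Nat.ble 24 c)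
noncomputable def col6_s_26_28 (c : Nat) : Nat := @Bool.rec (fun _ => Nat) (col6_26) (col6_27) (Nat.ble 27 c)
noncomputable def col6_s_25_28 (c : Nat) : Nat := @Bool.rec (fun _ => Nat) (col6_25) (col6_s_26_28 c) (Nat.ble 26 c)
noncomputable def col6_s_23_28 (c : Nat) : Nat := @Bool.rec (fun _ => Nat) (col6_s_23_25 c) (col6_s_25_28 c) (Nat.ble 25 c)
noncomputable def col6_s_29_31 (c : Nat) : Nat := @Bool.rec (fun _ => Nat) (col6_29) (col6_30) (Nat.ble 30 c)
noncomputable def col6_s_28_31 (c : Nat) : Nat := @Bool.rec (fun _ => Nat) (col6_28) (col6_s_29_31 c) (Nat.ble 29 c)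
noncomputable def col6_s_32_34 (c : Nat) : Nat := @Bool.rec (fun _ => Nat) (col6_32) (col6_33) (Nat.ble 33 c)
noncomputable def col6_s_31_34 (c : Nat) : Nat := @Bool.rec (fun _ => Nat) (col6_31) (col6_s_32_34 c) (Nat.ble 32 c)
noncomputable def col6_s_28_34 (c : Nat) : Nat := @Bool.rec (fun _ => Nat) (col6_s_28_31 c) (col6_s_31_34 c) (Nat.ble 31 c)
noncomputable def col6_s_23_34 (c : Nat) : Nat := @Bool.rec (fun _ => Nat) (col6_s_23_28 c) (col6_s_28_34 c) (Nat.ble 28 c)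
noncomputable def col6_s_35_37 (c : Nat) : Nat := @Bool.rec (fun _ => Nat) (col6_35) (col6_36) (Nat.ble 36 c)
noncomputable def col6_s_34_37 (c : Nat) : Nat := @Bool.rec (fun _ => Nat) (col6_34) (col6_s_35_37 c) (Nat.ble 35 c)
noncomputable def col6_s_38_40 (c : Nat) : Nat := @Bool.rec (fun _ => Nat) (col6_38) (col6_39) (Nat.ble 39 c)
noncomputable def col6_s_37_40 (c : Nat) : Nat := @Bool.rec (fun _ => Nat) (col6_37) (col6_s_38_40 c) (Nat.ble 38 c)
noncomputable def col6_s_34_40 (c : Nat) : Nat := @Bool.rec (fun _ => Nat) (col6_s_34_37 c) (col6_s_37_40 c) (Nat.ble 37 c)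
noncomputable def col6_s_41_43 (c : Nat) : Nat := @Bool.rec (fun _ => Nat) (col6_41) (col6_42) (Nat.ble 42 c)
noncomputable def col6_s_40_43 (c : Nat) : Nat := @Bool.rec (fun _ => Nat) (col6_40) (col6_s_41_43 c) (Nat.ble 41 c)
noncomputable def col6_s_44_46 (c : Nat) : Nat := @Bool.rec (fun _ => Nat) (col6_44) (col6_45) (Nat.ble 45 c)
noncomputable def col6_s_43_46 (c : Nat) : Nat := @Bool.rec (fun _ => Nat) (col6_43) (col6_s_44_46 c) (Nat.ble 44 c)
noncomputable def col6_s_40_46 (c : Nat) : Nat := @Bool.rec (fun _ => Nat) (col6_s_40_43 c) (col6_s_43_46 c) (Nat.ble 43 c)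
noncomputable def col6_s_34_46 (c : Nat) : Nat := @Bool.rec (fun _ => Nat) (col6_s_34_40 c) (col6_s_40_46 c) (Nat.ble 40 c)
noncomputable def col6_s_23_46 (c : Nat) : Nat := @Bool.rec (fun _ => Nat) (col6_s_23_34 c) (col6_s_34_46 c) (Nat.ble 34 c)
noncomputable def col6_s_0_46 (c : Nat) : Nat := @Bool.rec (fun _ => Nat) (col6_s_0_23 c) (col6_s_23_46 c) (Nat.ble 23 c)
noncomputable def col6 (i : Nat) : Nat := rdw 18 262143 (col6_s_0_46 (Nat.shiftRight i 12)) (Nat.land i 4095)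
noncomputable def col7 (i : Nat) : Nat := col6 i
noncomputable def col8_s_0_2 (c : Nat) : Nat := @Bool.rec (fun _ => Nat) (col8_0) (col8_1) (Nat.ble 1 c)
noncomputable def col8_s_3_5 (c : Nat) : Nat := @Bool.rec (fun _ => Nat) (col8_3) (col8_4) (Nat.ble 4 c)
noncomputable def col8_s_2_5 (c : Nat) : Nat := @Bool.rec (fun _ => Nat) (col8_2) (col8_s_3_5 c) (Nat.ble 3 c)
noncomputable def col8_s_0_5 (c : Nat) : Nat := @Bool.rec (fun _ => Nat) (col8_s_0_2 c) (col8_s_2_5 c) (Nat.ble 2 c)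
noncomputable def col8_s_6_8 (c : Nat) : Nat := @Bool.rec (fun _ => Nat) (col8_6) (col8_7) (Nat.ble 7 c)
noncomputable def col8_s_5_8 (c : Nat) : Nat := @Bool.rec (fun _ => Nat) (col8_5) (col8_s_6_8 c) (Nat.ble 6 c)
noncomputable def col8_s_9_11 (c : Nat) : Nat := @Bool.rec (fun _ => Nat) (col8_9) (col8_10) (Nat.ble 10 c)
noncomputable def col8_s_8_11 (c : Nat) : Nat := @Bool.rec (fun _ => Nat) (col8_8) (col8_s_9_11 c) (Nat.ble 9 c)
noncomputable def col8_s_5_11 (c : Nat) : Nat := @Bool.rec (fun _ => Nat) (col8_s_5_8 c) (col8_s_8_11 c) (Nat.ble 8 c)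
noncomputable def col8_s_0_11 (c : Nat) : Nat := @Bool.rec (fun _ => Nat) (col8_s_0_5 c) (col8_s_5_11 c) (Nat.ble 5 c)
noncomputable def col8_s_12_14 (c : Nat) : Nat := @Bool.rec (fun _ => Nat) (col8_12) (col8_13) (Nat.ble 13 c)
noncomputable def col8_s_11_14 (c : Nat) : Nat := @Bool.rec (fun _ => Nat) (col8_11) (col8_s_12_14 c) (Nat.ble 12 c)
noncomputable def col8_s_15_17 (c : Nat) : Nat := @Bool.rec (fun _ => Nat) (col8_15) (col8_16) (Nat.ble 16 c)
noncomputable def col8_s_14_17 (c : Nat) : Nat := @Bool.rec (fun _ => Nat) (col8_14) (col8_s_15_17 c) (Nat.ble 15 c)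
noncomputable def col8_s_11_17 (c : Nat) : Nat := @Bool.rec (fun _ => Nat) (col8_s_11_14 c) (col8_s_14_17 c) (Nat.ble 14 c)
noncomputable def col8_s_18_20 (c : Nat) : Nat := @Bool.rec (fun _ => Nat) (col8_18) (col8_19) (Nat.ble 19 c)
noncomputable def col8_s_17_20 (c : Nat) : Nat := @Bool.rec (fun _ => Nat) (col8_17) (col8_s_18_20 c) (Nat.ble 18 c)
noncomputable def col8_s_21_23 (c : Nat) : Nat := @Bool.rec (fun _ => Nat) (col8_21) (col8_22) (Nat.ble 22 c)
noncomputable def col8_s_20_23 (c : Nat) : Nat := @Bool.rec (fun _ => Nat) (col8_20) (col8_s_21_23 c) (Nat.ble 21 c)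
noncomputable def col8_s_17_23 (c : Nat) : Nat := @Bool.rec (fun _ => Nat) (col8_s_17_20 c) (col8_s_20_23 c) (Nat.ble 20 c)
noncomputable def col8_s_11_23 (c : Nat) : Nat := @Bool.rec (fun _ => Nat) (col8_s_11_17 c) (col8_s_17_23 c) (Nat.ble 17 c)
noncomputable def col8_s_0_23 (c : Nat) : Nat := @Bool.rec (fun _ => Nat) (col8_s_0_11 c) (col8_s_11_23 c) (Nat.ble 11 c)
noncomputable def col8_s_23_25 (c : Nat) : Nat := @Bool.rec (fun _ => Nat) (col8_23) (col8_24) (Nat.ble 24 c)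
noncomputable def col8_s_26_28 (c : Nat) : Nat := @Bool.rec (fun _ => Nat) (col8_26) (col8_27) (Nat.ble 27 c)
noncomputable def col8_s_25_28 (c : Nat) : Nat := @Bool.rec (fun _ => Nat) (col8_25) (col8_s_26_28 c) (Nat.ble 26 c)
noncomputable def col8_s_23_28 (c : Nat) : Nat := @Bool.rec (fun _ => Nat) (col8_s_23_25 c) (col8_s_25_28 c) (Nat.ble 25 c)
noncomputable def col8_s_29_31 (c : Nat) : Nat := @Bool.rec (fun _ => Nat) (col8_29) (col8_30) (Nat.ble 30 c)
noncomputable def col8_s_28_31 (c : Nat) : Nat := @Bool.rec (fun _ => Nat) (col8_28) (col8_s_29_31 c) (Nat.ble 29 c)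
noncomputable def col8_s_32_34 (c : Nat) : Nat := @Bool.rec (fun _ => Nat) (col8_32) (col8_33) (Nat.ble 33 c)
noncomputable def col8_s_31_34 (c : Nat) : Nat := @Bool.rec (fun _ => Nat) (col8_31) (col8_s_32_34 c) (Nat.ble 32 c)
noncomputable def col8_s_28_34 (c : Nat) : Nat := @Bool.rec (fun _ => Nat) (col8_s_28_31 c) (col8_s_31_34 c) (Nat.ble 31 c)
noncomputable def col8_s_23_34 (c : Nat) : Nat := @Bool.rec (fun _ => Nat) (col8_s_23_28 c) (col8_s_28_34 c) (Nat.ble 28 c)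
noncomputable def col8_s_35_37 (c : Nat) : Nat := @Bool.rec (fun _ => Nat) (col8_35) (col8_36) (Nat.ble 36 c)
noncomputable def col8_s_34_37 (c : Nat) : Nat := @Bool.rec (fun _ => Nat) (col8_34) (col8_s_35_37 c) (Nat.ble 35 c)
noncomputable def col8_s_38_40 (c : Nat) : Nat := @Bool.rec (fun _ => Nat) (col8_38) (col8_39) (Nat.ble 39 c)
noncomputable def col8_s_37_40 (c : Nat) : Nat := @Bool.rec (fun _ => Nat) (col8_37) (col8_s_38_40 c) (Nat.ble 38 c)
noncomputable def col8_s_34_40 (c : Nat) : Nat := @Bool.rec (fun _ => Nat) (col8_s_34_37 c) (col8_s_37_40 c) (Nat.ble 37 c)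
noncomputable def col8_s_41_43 (c : Nat) : Nat := @Bool.rec (fun _ => Nat) (col8_41) (col8_42) (Nat.ble 42 c)
noncomputable def col8_s_40_43 (c : Nat) : Nat := @Bool.rec (fun _ => Nat) (col8_40) (col8_s_41_43 c) (Nat.ble 41 c)
noncomputable def col8_s_44_46 (c : Nat) : Nat := @Bool.rec (fun _ => Nat) (col8_44) (col8_45) (Nat.ble 45 c)
noncomputable def col8_s_43_46 (c : Nat) : Nat := @Bool.rec (fun _ => Nat) (col8_43) (col8_s_44_46 c) (Nat.ble 44 c)
noncomputable def col8_s_40_46 (c : Nat) : Nat := @Bool.rec (fun _ => Nat) (col8_s_40_43 c) (col8_s_43_46 c) (Nat.ble 43 c)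
noncomputable def col8_s_34_46 (c : Nat) : Nat := @Bool.rec (fun _ => Nat) (col8_s_34_40 c) (col8_s_40_46 c) (Nat.ble 40 c)
noncomputable def col8_s_23_46 (c : Nat) : Nat := @Bool.rec (fun _ => Nat) (col8_s_23_34 c) (col8_s_34_46 c) (Nat.ble 34 c)
noncomputable def col8_s_0_46 (c : Nat) : Nat := @Bool.rec (fun _ => Nat) (col8_s_0_23 c) (col8_s_23_46 c) (Nat.ble 23 c)
noncomputable def col8 (i : Nat) : Nat := rdw 18 262143 (col8_s_0_46 (Nat.shiftRight i 12)) (Nat.land i 4095)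
noncomputable def col9 (i : Nat) : Nat := col8 i
noncomputable def col10_s_0_2 (c : Nat) : Nat := @Bool.rec (fun _ => Nat) (col10_0) (col10_1) (Nat.ble 1 c)
noncomputable def col10_s_3_5 (c : Nat) : Nat := @Bool.rec (fun _ => Nat) (col10_3) (col10_4) (Nat.ble 4 c)
noncomputable def col10_s_2_5 (c : Nat) : Nat := @Bool.rec (fun _ => Nat) (col10_2) (col10_s_3_5 c) (Nat.ble 3 c)
noncomputable def col10_s_0_5 (c : Nat) : Nat := @Bool.rec (fun _ => Nat) (col10_s_0_2 c) (col10_s_2_5 c) (Nat.ble 2 c)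
noncomputable def col10_s_6_8 (c : Nat) : Nat := @Bool.rec (fun _ => Nat) (col10_6) (col10_7) (Nat.ble 7 c)
noncomputable def col10_s_5_8 (c : Nat) : Nat := @Bool.rec (fun _ => Nat) (col10_5) (col10_s_6_8 c) (Nat.ble 6 c)
noncomputable def col10_s_9_11 (c : Nat) : Nat := @Bool.rec (fun _ => Nat) (col10_9) (col10_10) (Nat.ble 10 c)
noncomputable def col10_s_8_11 (c : Nat) : Nat := @Bool.rec (fun _ => Nat) (col10_8) (col10_s_9_11 c) (Nat.ble 9 c)
noncomputable def col10_s_5_11 (c : Nat) : Nat := @Bool.rec (fun _ => Nat) (col10_s_5_8 c) (col10_s_8_11 c) (Nat.ble 8 c)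
noncomputable def col10_s_0_11 (c : Nat) : Nat := @Bool.rec (fun _ => Nat) (col10_s_0_5 c) (col10_s_5_11 c) (Nat.ble 5 c)
noncomputable def col10_s_12_14 (c : Nat) : Nat := @Bool.rec (fun _ => Nat) (col10_12) (col10_13) (Nat.ble 13 c)
noncomputable def col10_s_11_14 (c : Nat) : Nat := @Bool.rec (fun _ => Nat) (col10_11) (col10_s_12_14 c) (Nat.ble 12 c)
noncomputable def col10_s_15_17 (c : Nat) : Nat := @Bool.rec (fun _ => Nat) (col10_15) (col10_16) (Nat.ble 16 c)
noncomputable def col10_s_14_17 (c : Nat) : Nat := @Bool.rec (fun _ => Nat) (col10_14) (col10_s_15_17 c) (Nat.ble 15 c)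
noncomputable def col10_s_11_17 (c : Nat) : Nat := @Bool.rec (fun _ => Nat) (col10_s_11_14 c) (col10_s_14_17 c) (Nat.ble 14 c)
noncomputable def col10_s_18_20 (c : Nat) : Nat := @Bool.rec (fun _ => Nat) (col10_18) (col10_19) (Nat.ble 19 c)
noncomputable def col10_s_17_20 (c : Nat) : Nat := @Bool.rec (fun _ => Nat) (col10_17) (col10_s_18_20 c) (Nat.ble 18 c)
noncomputable def col10_s_21_23 (c : Nat) : Nat := @Bool.rec (fun _ => Nat) (col10_21) (col10_22) (Nat.ble 22 c)
noncomputable def col10_s_20_23 (c : Nat) : Nat := @Bool.rec (fun _ => Nat) (col10_20) (col10_s_21_23 c) (Nat.ble 21 c)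
noncomputable def col10_s_17_23 (c : Nat) : Nat := @Bool.rec (fun _ => Nat) (col10_s_17_20 c) (col10_s_20_23 c) (Nat.ble 20 c)
noncomputable def col10_s_11_23 (c : Nat) : Nat := @Bool.rec (fun _ => Nat) (col10_s_11_17 c) (col10_s_17_23 c) (Nat.ble 17 c)
noncomputable def col10_s_0_23 (c : Nat) : Nat := @Bool.rec (fun _ => Nat) (col10_s_0_11 c) (col10_s_11_23 c) (Nat.ble 11 c)
noncomputable def col10_s_23_25 (c : Nat) : Nat := @Bool.rec (fun _ => Nat) (col10_23) (col10_24) (Nat.ble 24 c)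
noncomputable def col10_s_26_28 (c : Nat) : Nat := @Bool.rec (fun _ => Nat) (col10_26) (col10_27) (Nat.ble 27 c)
noncomputable def col10_s_25_28 (c : Nat) : Nat := @Bool.rec (fun _ => Nat) (col10_25) (col10_s_26_28 c) (Nat.ble 26 c)
noncomputable def col10_s_23_28 (c : Nat) : Nat := @Bool.rec (fun _ => Nat) (col10_s_23_25 c) (col10_s_25_28 c) (Nat.ble 25 c)
noncomputable def col10_s_29_31 (c : Nat) : Nat := @Bool.rec (fun _ => Nat) (col10_29) (col10_30) (Nat.ble 30 c)
noncomputable def col10_s_28_31 (c : Nat) : Nat := @Bool.rec (fun _ => Nat) (col10_28) (col10_s_29_31 c) (Nat.ble 29 c)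
noncomputable def col10_s_32_34 (c : Nat) : Nat := @Bool.rec (fun _ => Nat) (col10_32) (col10_33) (Nat.ble 33 c)
noncomputable def col10_s_31_34 (c : Nat) : Nat := @Bool.rec (fun _ => Nat) (col10_31) (col10_s_32_34 c) (Nat.ble 32 c)
noncomputable def col10_s_28_34 (c : Nat) : Nat := @Bool.rec (fun _ => Nat) (col10_s_28_31 c) (col10_s_31_34 c) (Nat.ble 31 c)
noncomputable def col10_s_23_34 (c : Nat) : Nat := @Bool.rec (fun _ => Nat) (col10_s_23_28 c) (col10_s_28_34 c) (Nat.ble 28 c)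
noncomputable def col10_s_35_37 (c : Nat) : Nat := @Bool.rec (fun _ => Nat) (col10_35) (col10_36) (Nat.ble 36 c)
noncomputable def col10_s_34_37 (c : Nat) : Nat := @Bool.rec (fun _ => Nat) (col10_34) (col10_s_35_37 c) (Nat.ble 35 c)
noncomputable def col10_s_38_40 (c : Nat) : Nat := @Bool.rec (fun _ => Nat) (col10_38) (col10_39) (Nat.ble 39 c)
noncomputable def col10_s_37_40 (c : Nat) : Nat := @Bool.rec (fun _ => Nat) (col10_37) (col10_s_38_40 c) (Nat.ble 38 c)
noncomputable def col10_s_34_40 (c : Nat) : Nat := @Bool.rec (fun _ => Nat) (col10_s_34_37 c) (col10_s_37_40 c) (Nat.ble 37 c)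
noncomputable def col10_s_41_43 (c : Nat) : Nat := @Bool.rec (fun _ => Nat) (col10_41) (col10_42) (Nat.ble 42 c)
noncomputable def col10_s_40_43 (c : Nat) : Nat := @Bool.rec (fun _ => Nat) (col10_40) (col10_s_41_43 c) (Nat.ble 41 c)
noncomputable def col10_s_44_46 (c : Nat) : Nat := @Bool.rec (fun _ => Nat) (col10_44) (col10_45) (Nat.ble 45 c)
noncomputable def col10_s_43_46 (c : Nat) : Nat := @Bool.rec (fun _ => Nat) (col10_43) (col10_s_44_46 c) (Nat.ble 44 c)
noncomputable def col10_s_40_46 (c : Nat) : Nat := @Bool.rec (fun _ => Nat) (col10_s_40_43 c) (col10_s_43_46 c) (Nat.ble 43 c)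
noncomputable def col10_s_34_46 (c : Nat) : Nat := @Bool.rec (fun _ => Nat) (col10_s_34_40 c) (col10_s_40_46 c) (Nat.ble 40 c)
noncomputable def col10_s_23_46 (c : Nat) : Nat := @Bool.rec (fun _ => Nat) (col10_s_23_34 c) (col10_s_34_46 c) (Nat.ble 34 c)
noncomputable def col10_s_0_46 (c : Nat) : Nat := @Bool.rec (fun _ => Nat) (col10_s_0_23 c) (col10_s_23_46 c) (Nat.ble 23 c)
noncomputable def col10 (i : Nat) : Nat := rdw 18 262143 (col10_s_0_46 (Nat.shiftRight i 12)) (Nat.land i 4095)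
noncomputable def col11 (i : Nat) : Nat := col10 i
noncomputable def col12_s_0_2 (c : Nat) : Nat := @Bool.rec (fun _ => Nat) (col12_0) (col12_1) (Nat.ble 1 c)
noncomputable def col12_s_3_5 (c : Nat) : Nat := @Bool.rec (fun _ => Nat) (col12_3) (col12_4) (Nat.ble 4 c)
noncomputable def col12_s_2_5 (c : Nat) : Nat := @Bool.rec (fun _ => Nat) (col12_2) (col12_s_3_5 c) (Nat.ble 3 c)
noncomputable def col12_s_0_5 (c : Nat) : Nat := @Bool.rec (fun _ => Nat) (col12_s_0_2 c) (col12_s_2_5 c) (Nat.ble 2 c)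
noncomputable def col12_s_6_8 (c : Nat) : Nat := @Bool.rec (fun _ => Nat) (col12_6) (col12_7) (Nat.ble 7 c)
noncomputable def col12_s_5_8 (c : Nat) : Nat := @Bool.rec (fun _ => Nat) (col12_5) (col12_s_6_8 c) (Nat.ble 6 c)
noncomputable def col12_s_9_11 (c : Nat) : Nat := @Bool.rec (fun _ => Nat) (col12_9) (col12_10) (Nat.ble 10 c)
noncomputable def col12_s_8_11 (c : Nat) : Nat := @Bool.rec (fun _ => Nat) (col12_8) (col12_s_9_11 c) (Nat.ble 9 c)
noncomputable def col12_s_5_11 (c : Nat) : Nat := @Bool.rec (fun _ => Nat) (col12_s_5_8 c) (col12_s_8_11 c) (Nat.ble 8 c)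
noncomputable def col12_s_0_11 (c : Nat) : Nat := @Bool.rec (fun _ => Nat) (col12_s_0_5 c) (col12_s_5_11 c) (Nat.ble 5 c)
noncomputable def col12_s_12_14 (c : Nat) : Nat := @Bool.rec (fun _ => Nat) (col12_12) (col12_13) (Nat.ble 13 c)
noncomputable def col12_s_11_14 (c : Nat) : Nat := @Bool.rec (fun _ => Nat) (col12_11) (col12_s_12_14 c) (Nat.ble 12 c)
noncomputable def col12_s_15_17 (c : Nat) : Nat := @Bool.rec (fun _ => Nat) (col12_15) (col12_16) (Nat.ble 16 c)
noncomputable def col12_s_14_17 (c : Nat) : Nat := @Bool.rec (fun _ => Nat) (col12_14) (col12_s_15_17 c) (Nat.ble 15 c)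
noncomputable def col12_s_11_17 (c : Nat) : Nat := @Bool.rec (fun _ => Nat) (col12_s_11_14 c) (col12_s_14_17 c) (Nat.ble 14 c)
noncomputable def col12_s_18_20 (c : Nat) : Nat := @Bool.rec (fun _ => Nat) (col12_18) (col12_19) (Nat.ble 19 c)
noncomputable def col12_s_17_20 (c : Nat) : Nat := @Bool.rec (fun _ => Nat) (col12_17) (col12_s_18_20 c) (Nat.ble 18 c)
noncomputable def col12_s_21_23 (c : Nat) : Nat := @Bool.rec (fun _ => Nat) (col12_21) (col12_22) (Nat.ble 22 c)
noncomputable def col12_s_20_23 (c : Nat) : Nat := @Bool.rec (fun _ => Nat) (col12_20) (col12_s_21_23 c) (Nat.ble 21 c)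
noncomputable def col12_s_17_23 (c : Nat) : Nat := @Bool.rec (fun _ => Nat) (col12_s_17_20 c) (col12_s_20_23 c) (Nat.ble 20 c)
noncomputable def col12_s_11_23 (c : Nat) : Nat := @Bool.rec (fun _ => Nat) (col12_s_11_17 c) (col12_s_17_23 c) (Nat.ble 17 c)
noncomputable def col12_s_0_23 (c : Nat) : Nat := @Bool.rec (fun _ => Nat) (col12_s_0_11 c) (col12_s_11_23 c) (Nat.ble 11 c)
noncomputable def col12_s_23_25 (c : Nat) : Nat := @Bool.rec (fun _ => Nat) (col12_23) (col12_24) (Nat.ble 24 c)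
noncomputable def col12_s_26_28 (c : Nat) : Nat := @Bool.rec (fun _ => Nat) (col12_26) (col12_27) (Nat.ble 27 c)
noncomputable def col12_s_25_28 (c : Nat) : Nat := @Bool.rec (fun _ => Nat) (col12_25) (col12_s_26_28 c) (Nat.ble 26 c)
noncomputable def col12_s_23_28 (c : Nat) : Nat := @Bool.rec (fun _ => Nat) (col12_s_23_25 c) (col12_s_25_28 c) (Nat.ble 25 c)
noncomputable def col12_s_29_31 (c : Nat) : Nat := @Bool.rec (fun _ => Nat) (col12_29) (col12_30) (Nat.ble 30 c)
noncomputable def col12_s_28_31 (c : Nat) : Nat := @Bool.rec (fun _ => Nat) (col12_28) (col12_s_29_31 c) (Nat.ble 29 c)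
noncomputable def col12_s_32_34 (c : Nat) : Nat := @Bool.rec (fun _ => Nat) (col12_32) (col12_33) (Nat.ble 33 c)
noncomputable def col12_s_31_34 (c : Nat) : Nat := @Bool.rec (fun _ => Nat) (col12_31) (col12_s_32_34 c) (Nat.ble 32 c)
noncomputable def col12_s_28_34 (c : Nat) : Nat := @Bool.rec (fun _ => Nat) (col12_s_28_31 c) (col12_s_31_34 c) (Nat.ble 31 c)
noncomputable def col12_s_23_34 (c : Nat) : Nat := @Bool.rec (fun _ => Nat) (col12_s_23_28 c) (col12_s_28_34 c) (Nat.ble 28 c)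
noncomputable def col12_s_35_37 (c : Nat) : Nat := @Bool.rec (fun _ => Nat) (col12_35) (col12_36) (Nat.ble 36 c)
noncomputable def col12_s_34_37 (c : Nat) : Nat := @Bool.rec (fun _ => Nat) (col12_34) (col12_s_35_37 c) (Nat.ble 35 c)
noncomputable def col12_s_38_40 (c : Nat) : Nat := @Bool.rec (fun _ => Nat) (col12_38) (col12_39) (Nat.ble 39 c)
noncomputable def col12_s_37_40 (c : Nat) : Nat := @Bool.rec (fun _ => Nat) (col12_37) (col12_s_38_40 c) (Nat.ble 38 c)
noncomputable def col12_s_34_40 (c : Nat) : Nat := @Bool.rec (fun _ => Nat) (col12_s_34_37 c) (col12_s_37_40 c) (Nat.ble 37 c)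
noncomputable def col12_s_41_43 (c : Nat) : Nat := @Bool.rec (fun _ => Nat) (col12_41) (col12_42) (Nat.ble 42 c)
noncomputable def col12_s_40_43 (c : Nat) : Nat := @Bool.rec (fun _ => Nat) (col12_40) (col12_s_41_43 c) (Nat.ble 41 c)
noncomputable def col12_s_44_46 (c : Nat) : Nat := @Bool.rec (fun _ => Nat) (col12_44) (col12_45) (Nat.ble 45 c)
noncomputable def col12_s_43_46 (c : Nat) : Nat := @Bool.rec (fun _ => Nat) (col12_43) (col12_s_44_46 c) (Nat.ble 44 c)
noncomputable def col12_s_40_46 (c : Nat) : Nat := @Bool.rec (fun _ => Nat) (col12_s_40_43 c) (col12_s_43_46 c) (Nat.ble 43 c)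
noncomputable def col12_s_34_46 (c : Nat) : Nat := @Bool.rec (fun _ => Nat) (col12_s_34_40 c) (col12_s_40_46 c) (Nat.ble 40 c)
noncomputable def col12_s_23_46 (c : Nat) : Nat := @Bool.rec (fun _ => Nat) (col12_s_23_34 c) (col12_s_34_46 c) (Nat.ble 34 c)
noncomputable def col12_s_0_46 (c : Nat) : Nat := @Bool.rec (fun _ => Nat) (col12_s_0_23 c) (col12_s_23_46 c) (Nat.ble 23 c)
noncomputable def col12 (i : Nat) : Nat := rdw 18 262143 (col12_s_0_46 (Nat.shiftRight i 12)) (Nat.land i 4095)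
noncomputable def col13 (i : Nat) : Nat := col12 i
noncomputable def col14_s_0_2 (c : Nat) : Nat := @Bool.rec (fun _ => Nat) (col14_0) (col14_1) (Nat.ble 1 c)
noncomputable def col14_s_3_5 (c : Nat) : Nat := @Bool.rec (fun _ => Nat) (col14_3) (col14_4) (Nat.ble 4 c)
noncomputable def col14_s_2_5 (c : Nat) : Nat := @Bool.rec (fun _ => Nat) (col14_2) (col14_s_3_5 c) (Nat.ble 3 c)
noncomputable def col14_s_0_5 (c : Nat) : Nat := @Bool.rec (fun _ => Nat) (col14_s_0_2 c) (col14_s_2_5 c) (Nat.ble 2 c)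
noncomputable def col14_s_6_8 (c : Nat) : Nat := @Bool.rec (fun _ => Nat) (col14_6) (col14_7) (Nat.ble 7 c)
noncomputable def col14_s_5_8 (c : Nat) : Nat := @Bool.rec (fun _ => Nat) (col14_5) (col14_s_6_8 c) (Nat.ble 6 c)
noncomputable def col14_s_9_11 (c : Nat) : Nat := @Bool.rec (fun _ => Nat) (col14_9) (col14_10) (Nat.ble 10 c)
noncomputable def col14_s_8_11 (c : Nat) : Nat := @Bool.rec (fun _ => Nat) (col14_8) (col14_s_9_11 c) (Nat.ble 9 c)
noncomputable def col14_s_5_11 (c : Nat) : Nat := @Bool.rec (fun _ => Nat) (col14_s_5_8 c) (col14_s_8_11 c) (Nat.ble 8 c)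
noncomputable def col14_s_0_11 (c : Nat) : Nat := @Bool.rec (fun _ => Nat) (col14_s_0_5 c) (col14_s_5_11 c) (Nat.ble 5 c)
noncomputable def col14_s_12_14 (c : Nat) : Nat := @Bool.rec (fun _ => Nat) (col14_12) (col14_13) (Nat.ble 13 c)
noncomputable def col14_s_11_14 (c : Nat) : Nat := @Bool.rec (fun _ => Nat) (col14_11) (col14_s_12_14 c) (Nat.ble 12 c)
noncomputable def col14_s_15_17 (c : Nat) : Nat := @Bool.rec (fun _ => Nat) (col14_15) (col14_16) (Nat.ble 16 c)
noncomputable def col14_s_14_17 (c : Nat) : Nat := @Bool.rec (fun _ => Nat) (col14_14) (col14_s_15_17 c) (Nat.ble 15 c)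
noncomputable def col14_s_11_17 (c : Nat) : Nat := @Bool.rec (fun _ => Nat) (col14_s_11_14 c) (col14_s_14_17 c) (Nat.ble 14 c)
noncomputable def col14_s_18_20 (c : Nat) : Nat := @Bool.rec (fun _ => Nat) (col14_18) (col14_19) (Nat.ble 19 c)
noncomputable def col14_s_17_20 (c : Nat) : Nat := @Bool.rec (fun _ => Nat) (col14_17) (col14_s_18_20 c) (Nat.ble 18 c)
noncomputable def col14_s_21_23 (c : Nat) : Nat := @Bool.rec (fun _ => Nat) (col14_21) (col14_22) (Nat.ble 22 c)
noncomputable def col14_s_20_23 (c : Nat) : Nat := @Bool.rec (fun _ => Nat) (col14_20) (col14_s_21_23 c) (Nat.ble 21 c)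
noncomputable def col14_s_17_23 (c : Nat) : Nat := @Bool.rec (fun _ => Nat) (col14_s_17_20 c) (col14_s_20_23 c) (Nat.ble 20 c)
noncomputable def col14_s_11_23 (c : Nat) : Nat := @Bool.rec (fun _ => Nat) (col14_s_11_17 c) (col14_s_17_23 c) (Nat.ble 17 c)
noncomputable def col14_s_0_23 (c : Nat) : Nat := @Bool.rec (fun _ => Nat) (col14_s_0_11 c) (col14_s_11_23 c) (Nat.ble 11 c)
noncomputable def col14_s_23_25 (c : Nat) : Nat := @Bool.rec (fun _ => Nat) (col14_23) (col14_24) (Nat.ble 24 c)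
noncomputable def col14_s_26_28 (c : Nat) : Nat := @Bool.rec (fun _ => Nat) (col14_26) (col14_27) (Nat.ble 27 c)
noncomputable def col14_s_25_28 (c : Nat) : Nat := @Bool.rec (fun _ => Nat) (col14_25) (col14_s_26_28 c) (Nat.ble 26 c)
noncomputable def col14_s_23_28 (c : Nat) : Nat := @Bool.rec (fun _ => Nat) (col14_s_23_25 c) (col14_s_25_28 c) (Nat.ble 25 c)
noncomputable def col14_s_29_31 (c : Nat) : Nat := @Bool.rec (fun _ => Nat) (col14_29) (col14_30) (Nat.ble 30 c)
noncomputable def col14_s_28_31 (c : Nat) : Nat := @Bool.rec (fun _ => Nat) (col14_28) (col14_s_29_31 c) (Nat.ble 29 c)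
noncomputable def col14_s_32_34 (c : Nat) : Nat := @Bool.rec (fun _ => Nat) (col14_32) (col14_33) (Nat.ble 33 c)
noncomputable def col14_s_31_34 (c : Nat) : Nat := @Bool.rec (fun _ => Nat) (col14_31) (col14_s_32_34 c) (Nat.ble 32 c)
noncomputable def col14_s_28_34 (c : Nat) : Nat := @Bool.rec (fun _ => Nat) (col14_s_28_31 c) (col14_s_31_34 c) (Nat.ble 31 c)
noncomputable def col14_s_23_34 (c : Nat) : Nat := @Bool.rec (fun _ => Nat) (col14_s_23_28 c) (col14_s_28_34 c) (Nat.ble 28 c)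
noncomputable def col14_s_35_37 (c : Nat) : Nat := @Bool.rec (fun _ => Nat) (col14_35) (col14_36) (Nat.ble 36 c)
noncomputable def col14_s_34_37 (c : Nat) : Nat := @Bool.rec (fun _ => Nat) (col14_34) (col14_s_35_37 c) (Nat.ble 35 c)
noncomputable def col14_s_38_40 (c : Nat) : Nat := @Bool.rec (fun _ => Nat) (col14_38) (col14_39) (Nat.ble 39 c)
noncomputable def col14_s_37_40 (c : Nat) : Nat := @Bool.rec (fun _ => Nat) (col14_37) (col14_s_38_40 c) (Nat.ble 38 c)
noncomputable def col14_s_34_40 (c : Nat) : Nat := @Bool.rec (fun _ => Nat) (col14_s_34_37 c) (col14_s_37_40 c) (Nat.ble 37 c)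
noncomputable def col14_s_41_43 (c : Nat) : Nat := @Bool.rec (fun _ => Nat) (col14_41) (col14_42) (Nat.ble 42 c)
noncomputable def col14_s_40_43 (c : Nat) : Nat := @Bool.rec (fun _ => Nat) (col14_40) (col14_s_41_43 c) (Nat.ble 41 c)
noncomputable def col14_s_44_46 (c : Nat) : Nat := @Bool.rec (fun _ => Nat) (col14_44) (col14_45) (Nat.ble 45 c)
noncomputable def col14_s_43_46 (c : Nat) : Nat := @Bool.rec (fun _ => Nat) (col14_43) (col14_s_44_46 c) (Nat.ble 44 c)
noncomputable def col14_s_40_46 (c : Nat) : Nat := @Bool.rec (fun _ => Nat) (col14_s_40_43 c) (col14_s_43_46 c) (Nat.ble 43 c)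
noncomputable def col14_s_34_46 (c : Nat) : Nat := @Bool.rec (fun _ => Nat) (col14_s_34_40 c) (col14_s_40_46 c) (Nat.ble 40 c)
noncomputable def col14_s_23_46 (c : Nat) : Nat := @Bool.rec (fun _ => Nat) (col14_s_23_34 c) (col14_s_34_46 c) (Nat.ble 34 c)
noncomputable def col14_s_0_46 (c : Nat) : Nat := @Bool.rec (fun _ => Nat) (col14_s_0_23 c) (col14_s_23_46 c) (Nat.ble 23 c)
noncomputable def col14 (i : Nat) : Nat := rdw 18 262143 (col14_s_0_46 (Nat.shiftRight i 12)) (Nat.land i 4095)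
noncomputable def col15 (i : Nat) : Nat := col14 i
noncomputable def col16_s_0_2 (c : Nat) : Nat := @Bool.rec (fun _ => Nat) (col16_0) (col16_1) (Nat.ble 1 c)
noncomputable def col16_s_3_5 (c : Nat) : Nat := @Bool.rec (fun _ => Nat) (col16_3) (col16_4) (Nat.ble 4 c)
noncomputable def col16_s_2_5 (c : Nat) : Nat := @Bool.rec (fun _ => Nat) (col16_2) (col16_s_3_5 c) (Nat.ble 3 c)
noncomputable def col16_s_0_5 (c : Nat) : Nat := @Bool.rec (fun _ => Nat) (col16_s_0_2 c) (col16_s_2_5 c) (Nat.ble 2 c)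
noncomputable def col16_s_6_8 (c : Nat) : Nat := @Bool.rec (fun _ => Nat) (col16_6) (col16_7) (Nat.ble 7 c)
noncomputable def col16_s_5_8 (c : Nat) : Nat := @Bool.rec (fun _ => Nat) (col16_5) (col16_s_6_8 c) (Nat.ble 6 c)
noncomputable def col16_s_9_11 (c : Nat) : Nat := @Bool.rec (fun _ => Nat) (col16_9) (col16_10) (Nat.ble 10 c)
noncomputable def col16_s_8_11 (c : Nat) : Nat := @Bool.rec (fun _ => Nat) (col16_8) (col16_s_9_11 c) (Nat.ble 9 c)
noncomputable def col16_s_5_11 (c : Nat) : Nat := @Bool.rec (fun _ => Nat) (col16_s_5_8 c) (col16_s_8_11 c) (Nat.ble 8 c)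
noncomputable def col16_s_0_11 (c : Nat) : Nat := @Bool.rec (fun _ => Nat) (col16_s_0_5 c) (col16_s_5_11 c) (Nat.ble 5 c)
noncomputable def col16_s_12_14 (c : Nat) : Nat := @Bool.rec (fun _ => Nat) (col16_12) (col16_13) (Nat.ble 13 c)
noncomputable def col16_s_11_14 (c : Nat) : Nat := @Bool.rec (fun _ => Nat) (col16_11) (col16_s_12_14 c) (Nat.ble 12 c)
noncomputable def col16_s_15_17 (c : Nat) : Nat := @Bool.rec (fun _ => Nat) (col16_15) (col16_16) (Nat.ble 16 c)
noncomputable def col16_s_14_17 (c : Nat) : Nat := @Bool.rec (fun _ => Nat) (col16_14) (col16_s_15_17 c) (Nat.ble 15 c)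
noncomputable def col16_s_11_17 (c : Nat) : Nat := @Bool.rec (fun _ => Nat) (col16_s_11_14 c) (col16_s_14_17 c) (Nat.ble 14 c)
noncomputable def col16_s_18_20 (c : Nat) : Nat := @Bool.rec (fun _ => Nat) (col16_18) (col16_19) (Nat.ble 19 c)
noncomputable def col16_s_17_20 (c : Nat) : Nat := @Bool.rec (fun _ => Nat) (col16_17) (col16_s_18_20 c) (Nat.ble 18 c)
noncomputable def col16_s_21_23 (c : Nat) : Nat := @Bool.rec (fun _ => Nat) (col16_21) (col16_22) (Nat.ble 22 c)
noncomputable def col16_s_20_23 (c : Nat) : Nat := @Bool.rec (fun _ => Nat) (col16_20) (col16_s_21_23 c) (Nat.ble 21 c)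
noncomputable def col16_s_17_23 (c : Nat) : Nat := @Bool.rec (fun _ => Nat) (col16_s_17_20 c) (col16_s_20_23 c) (Nat.ble 20 c)
noncomputable def col16_s_11_23 (c : Nat) : Nat := @Bool.rec (fun _ => Nat) (col16_s_11_17 c) (col16_s_17_23 c) (Nat.ble 17 c)
noncomputable def col16_s_0_23 (c : Nat) : Nat := @Bool.rec (fun _ => Nat) (col16_s_0_11 c) (col16_s_11_23 c) (Nat.ble 11 c)
noncomputable def col16_s_23_25 (c : Nat) : Nat := @Bool.rec (fun _ => Nat) (col16_23) (col16_24) (Nat.ble 24 c)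
noncomputable def col16_s_26_28 (c : Nat) : Nat := @Bool.rec (fun _ => Nat) (col16_26) (col16_27) (Nat.ble 27 c)
noncomputable def col16_s_25_28 (c : Nat) : Nat := @Bool.rec (fun _ => Nat) (col16_25) (col16_s_26_28 c) (Nat.ble 26 c)
noncomputable def col16_s_23_28 (c : Nat) : Nat := @Bool.rec (fun _ => Nat) (col16_s_23_25 c) (col16_s_25_28 c) (Nat.ble 25 c)
noncomputable def col16_s_29_31 (c : Nat) : Nat := @Bool.rec (fun _ => Nat) (col16_29) (col16_30) (Nat.ble 30 c)
noncomputable def col16_s_28_31 (c : Nat) : Nat := @Bool.rec (fun _ => Nat) (col16_28) (col16_s_29_31 c) (Nat.ble 29 c)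
noncomputable def col16_s_32_34 (c : Nat) : Nat := @Bool.rec (fun _ => Nat) (col16_32) (col16_33) (Nat.ble 33 c)
noncomputable def col16_s_31_34 (c : Nat) : Nat := @Bool.rec (fun _ => Nat) (col16_31) (col16_s_32_34 c) (Nat.ble 32 c)
noncomputable def col16_s_28_34 (c : Nat) : Nat := @Bool.rec (fun _ => Nat) (col16_s_28_31 c) (col16_s_31_34 c) (Nat.ble 31 c)
noncomputable def col16_s_23_34 (c : Nat) : Nat := @Bool.rec (fun _ => Nat) (col16_s_23_28 c) (col16_s_28_34 c) (Nat.ble 28 c)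
noncomputable def col16_s_35_37 (c : Nat) : Nat := @Bool.rec (fun _ => Nat) (col16_35) (col16_36) (Nat.ble 36 c)
noncomputable def col16_s_34_37 (c : Nat) : Nat := @Bool.rec (fun _ => Nat) (col16_34) (col16_s_35_37 c) (Nat.ble 35 c)
noncomputable def col16_s_38_40 (c : Nat) : Nat := @Bool.rec (fun _ => Nat) (col16_38) (col16_39) (Nat.ble 39 c)
noncomputable def col16_s_37_40 (c : Nat) : Nat := @Bool.rec (fun _ => Nat) (col16_37) (col16_s_38_40 c) (Nat.ble 38 c)
noncomputable def col16_s_34_40 (c : Nat) : Nat := @Bool.rec (fun _ => Nat) (col16_s_34_37 c) (col16_s_37_40 c) (Nat.ble 37 c)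
noncomputable def col16_s_41_43 (c : Nat) : Nat := @Bool.rec (fun _ => Nat) (col16_41) (col16_42) (Nat.ble 42 c)
noncomputable def col16_s_40_43 (c : Nat) : Nat := @Bool.rec (fun _ => Nat) (col16_40) (col16_s_41_43 c) (Nat.ble 41 c)
noncomputable def col16_s_44_46 (c : Nat) : Nat := @Bool.rec (fun _ => Nat) (col16_44) (col16_45) (Nat.ble 45 c)
noncomputable def col16_s_43_46 (c : Nat) : Nat := @Bool.rec (fun _ => Nat) (col16_43) (col16_s_44_46 c) (Nat.ble 44 c)
noncomputable def col16_s_40_46 (c : Nat) : Nat := @Bool.rec (fun _ => Nat) (col16_s_40_43 c) (col16_s_43_46 c) (Nat.ble 43 c)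
noncomputable def col16_s_34_46 (c : Nat) : Nat := @Bool.rec (fun _ => Nat) (col16_s_34_40 c) (col16_s_40_46 c) (Nat.ble 40 c)
noncomputable def col16_s_23_46 (c : Nat) : Nat := @Bool.rec (fun _ => Nat) (col16_s_23_34 c) (col16_s_34_46 c) (Nat.ble 34 c)
noncomputable def col16_s_0_46 (c : Nat) : Nat := @Bool.rec (fun _ => Nat) (col16_s_0_23 c) (col16_s_23_46 c) (Nat.ble 23 c)
noncomputable def col16 (i : Nat) : Nat := rdw 18 262143 (col16_s_0_46 (Nat.shiftRight i 12)) (Nat.land i 4095)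
noncomputable def col17 (i : Nat) : Nat := col16 i
noncomputable def col18_s_0_2 (c : Nat) : Nat := @Bool.rec (fun _ => Nat) (col18_0) (col18_1) (Nat.ble 1 c)
noncomputable def col18_s_3_5 (c : Nat) : Nat := @Bool.rec (fun _ => Nat) (col18_3) (col18_4) (Nat.ble 4 c)
noncomputable def col18_s_2_5 (c : Nat) : Nat := @Bool.rec (fun _ => Nat) (col18_2) (col18_s_3_5 c) (Nat.ble 3 c)
noncomputable def col18_s_0_5 (c : Nat) : Nat := @Bool.rec (fun _ => Nat) (col18_s_0_2 c) (col18_s_2_5 c) (Nat.ble 2 c)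
noncomputable def col18_s_6_8 (c : Nat) : Nat := @Bool.rec (fun _ => Nat) (col18_6) (col18_7) (Nat.ble 7 c)
noncomputable def col18_s_5_8 (c : Nat) : Nat := @Bool.rec (fun _ => Nat) (col18_5) (col18_s_6_8 c) (Nat.ble 6 c)
noncomputable def col18_s_9_11 (c : Nat) : Nat := @Bool.rec (fun _ => Nat) (col18_9) (col18_10) (Nat.ble 10 c)
noncomputable def col18_s_8_11 (c : Nat) : Nat := @Bool.rec (fun _ => Nat) (col18_8) (col18_s_9_11 c) (Nat.ble 9 c)
noncomputable def col18_s_5_11 (c : Nat) : Nat := @Bool.rec (fun _ => Nat) (col18_s_5_8 c) (col18_s_8_11 c) (Nat.ble 8 c)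
noncomputable def col18_s_0_11 (c : Nat) : Nat := @Bool.rec (fun _ => Nat) (col18_s_0_5 c) (col18_s_5_11 c) (Nat.ble 5 c)
noncomputable def col18_s_12_14 (c : Nat) : Nat := @Bool.rec (fun _ => Nat) (col18_12) (col18_13) (Nat.ble 13 c)
noncomputable def col18_s_11_14 (c : Nat) : Nat := @Bool.rec (fun _ => Nat) (col18_11) (col18_s_12_14 c) (Nat.ble 12 c)
noncomputable def col18_s_15_17 (c : Nat) : Nat := @Bool.rec (fun _ => Nat) (col18_15) (col18_16) (Nat.ble 16 c)
noncomputable def col18_s_14_17 (c : Nat) : Nat := @Bool.rec (fun _ => Nat) (col18_14) (col18_s_15_17 c) (Nat.ble 15 c)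
noncomputable def col18_s_11_17 (c : Nat) : Nat := @Bool.rec (fun _ => Nat) (col18_s_11_14 c) (col18_s_14_17 c) (Nat.ble 14 c)
noncomputable def col18_s_18_20 (c : Nat) : Nat := @Bool.rec (fun _ => Nat) (col18_18) (col18_19) (Nat.ble 19 c)
noncomputable def col18_s_17_20 (c : Nat) : Nat := @Bool.rec (fun _ => Nat) (col18_17) (col18_s_18_20 c) (Nat.ble 18 c)
noncomputable def col18_s_21_23 (c : Nat) : Nat := @Bool.rec (fun _ => Nat) (col18_21) (col18_22) (Nat.ble 22 c)
noncomputable def col18_s_20_23 (c : Nat) : Nat := @Bool.rec (fun _ => Nat) (col18_20) (col18_s_21_23 c) (Nat.ble 21 c)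
noncomputable def col18_s_17_23 (c : Nat) : Nat := @Bool.rec (fun _ => Nat) (col18_s_17_20 c) (col18_s_20_23 c) (Nat.ble 20 c)
noncomputable def col18_s_11_23 (c : Nat) : Nat := @Bool.rec (fun _ => Nat) (col18_s_11_17 c) (col18_s_17_23 c) (Nat.ble 17 c)
noncomputable def col18_s_0_23 (c : Nat) : Nat := @Bool.rec (fun _ => Nat) (col18_s_0_11 c) (col18_s_11_23 c) (Nat.ble 11 c)
noncomputable def col18_s_23_25 (c : Nat) : Nat := @Bool.rec (fun _ => Nat) (col18_23) (col18_24) (Nat.ble 24 c)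
noncomputable def col18_s_26_28 (c : Nat) : Nat := @Bool.rec (fun _ => Nat) (col18_26) (col18_27) (Nat.ble 27 c)
noncomputable def col18_s_25_28 (c : Nat) : Nat := @Bool.rec (fun _ => Nat) (col18_25) (col18_s_26_28 c) (Nat.ble 26 c)
noncomputable def col18_s_23_28 (c : Nat) : Nat := @Bool.rec (fun _ => Nat) (col18_s_23_25 c) (col18_s_25_28 c) (Nat.ble 25 c)
noncomputable def col18_s_29_31 (c : Nat) : Nat := @Bool.rec (fun _ => Nat) (col18_29) (col18_30) (Nat.ble 30 c)
noncomputable def col18_s_28_31 (c : Nat) : Nat := @Bool.rec (fun _ => Nat) (col18_28) (col18_s_29_31 c) (Nat.ble 29 c)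
noncomputable def col18_s_32_34 (c : Nat) : Nat := @Bool.rec (fun _ => Nat) (col18_32) (col18_33) (Nat.ble 33 c)
noncomputable def col18_s_31_34 (c : Nat) : Nat := @Bool.rec (fun _ => Nat) (col18_31) (col18_s_32_34 c) (Nat.ble 32 c)
noncomputable def col18_s_28_34 (c : Nat) : Nat := @Bool.rec (fun _ => Nat) (col18_s_28_31 c) (col18_s_31_34 c) (Nat.ble 31 c)
noncomputable def col18_s_23_34 (c : Nat) : Nat := @Bool.rec (fun _ => Nat) (col18_s_23_28 c) (col18_s_28_34 c) (Nat.ble 28 c)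
noncomputable def col18_s_35_37 (c : Nat) : Nat := @Bool.rec (fun _ => Nat) (col18_35) (col18_36) (Nat.ble 36 c)
noncomputable def col18_s_34_37 (c : Nat) : Nat := @Bool.rec (fun _ => Nat) (col18_34) (col18_s_35_37 c) (Nat.ble 35 c)
noncomputable def col18_s_38_40 (c : Nat) : Nat := @Bool.rec (fun _ => Nat) (col18_38) (col18_39) (Nat.ble 39 c)
noncomputable def col18_s_37_40 (c : Nat) : Nat := @Bool.rec (fun _ => Nat) (col18_37) (col18_s_38_40 c) (Nat.ble 38 c)
noncomputable def col18_s_34_40 (c : Nat) : Nat := @Bool.rec (fun _ => Nat) (col18_s_34_37 c) (col18_s_37_40 c) (Nat.ble 37 c)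
noncomputable def col18_s_41_43 (c : Nat) : Nat := @Bool.rec (fun _ => Nat) (col18_41) (col18_42) (Nat.ble 42 c)
noncomputable def col18_s_40_43 (c : Nat) : Nat := @Bool.rec (fun _ => Nat) (col18_40) (col18_s_41_43 c) (Nat.ble 41 c)
noncomputable def col18_s_44_46 (c : Nat) : Nat := @Bool.rec (fun _ => Nat) (col18_44) (col18_45) (Nat.ble 45 c)
noncomputable def col18_s_43_46 (c : Nat) : Nat := @Bool.rec (fun _ => Nat) (col18_43) (col18_s_44_46 c) (Nat.ble 44 c)
noncomputable def col18_s_40_46 (c : Nat) : Nat := @Bool.rec (fun _ => Nat) (col18_s_40_43 c) (col18_s_43_46 c) (Nat.ble 43 c)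
noncomputable def col18_s_34_46 (c : Nat) : Nat := @Bool.rec (fun _ => Nat) (col18_s_34_40 c) (col18_s_40_46 c) (Nat.ble 40 c)
noncomputable def col18_s_23_46 (c : Nat) : Nat := @Bool.rec (fun _ => Nat) (col18_s_23_34 c) (col18_s_34_46 c) (Nat.ble 34 c)
noncomputable def col18_s_0_46 (c : Nat) : Nat := @Bool.rec (fun _ => Nat) (col18_s_0_23 c) (col18_s_23_46 c) (Nat.ble 23 c)
noncomputable def col18 (i : Nat) : Nat := rdw 18 262143 (col18_s_0_46 (Nat.shiftRight i 12)) (Nat.land i 4095)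
noncomputable def col19_s_0_2 (c : Nat) : Nat := @Bool.rec (fun _ => Nat) (col19_0) (col19_1) (Nat.ble 1 c)
noncomputable def col19_s_3_5 (c : Nat) : Nat := @Bool.rec (fun _ => Nat) (col19_3) (col19_4) (Nat.ble 4 c)
noncomputable def col19_s_2_5 (c : Nat) : Nat := @Bool.rec (fun _ => Nat) (col19_2) (col19_s_3_5 c) (Nat.ble 3 c)
noncomputable def col19_s_0_5 (c : Nat) : Nat := @Bool.rec (fun _ => Nat) (col19_s_0_2 c) (col19_s_2_5 c) (Nat.ble 2 c)
noncomputable def col19_s_6_8 (c : Nat) : Nat := @Bool.rec (fun _ => Nat) (col19_6) (col19_7) (Nat.ble 7 c)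
noncomputable def col19_s_5_8 (c : Nat) : Nat := @Bool.rec (fun _ => Nat) (col19_5) (col19_s_6_8 c) (Nat.ble 6 c)
noncomputable def col19_s_9_11 (c : Nat) : Nat := @Bool.rec (fun _ => Nat) (col19_9) (col19_10) (Nat.ble 10 c)
noncomputable def col19_s_8_11 (c : Nat) : Nat := @Bool.rec (fun _ => Nat) (col19_8) (col19_s_9_11 c) (Nat.ble 9 c)
noncomputable def col19_s_5_11 (c : Nat) : Nat := @Bool.rec (fun _ => Nat) (col19_s_5_8 c) (col19_s_8_11 c) (Nat.ble 8 c)
noncomputable def col19_s_0_11 (c : Nat) : Nat := @Bool.rec (fun _ => Nat) (col19_s_0_5 c) (col19_s_5_11 c) (Nat.ble 5 c)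
noncomputable def col19_s_12_14 (c : Nat) : Nat := @Bool.rec (fun _ => Nat) (col19_12) (col19_13) (Nat.ble 13 c)
noncomputable def col19_s_11_14 (c : Nat) : Nat := @Bool.rec (fun _ => Nat) (col19_11) (col19_s_12_14 c) (Nat.ble 12 c)
noncomputable def col19_s_15_17 (c : Nat) : Nat := @Bool.rec (fun _ => Nat) (col19_15) (col19_16) (Nat.ble 16 c)
noncomputable def col19_s_14_17 (c : Nat) : Nat := @Bool.rec (fun _ => Nat) (col19_14) (col19_s_15_17 c) (Nat.ble 15 c)
noncomputable def col19_s_11_17 (c : Nat) : Nat := @Bool.rec (fun _ => Nat) (col19_s_11_14 c) (col19_s_14_17 c) (Nat.ble 14 c)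
noncomputable def col19_s_18_20 (c : Nat) : Nat := @Bool.rec (fun _ => Nat) (col19_18) (col19_19) (Nat.ble 19 c)
noncomputable def col19_s_17_20 (c : Nat) : Nat := @Bool.rec (fun _ => Nat) (col19_17) (col19_s_18_20 c) (Nat.ble 18 c)
noncomputable def col19_s_21_23 (c : Nat) : Nat := @Bool.rec (fun _ => Nat) (col19_21) (col19_22) (Nat.ble 22 c)
noncomputable def col19_s_20_23 (c : Nat) : Nat := @Bool.rec (fun _ => Nat) (col19_20) (col19_s_21_23 c) (Nat.ble 21 c)
noncomputable def col19_s_17_23 (c : Nat) : Nat := @Bool.rec (fun _ => Nat) (col19_s_17_20 c) (col19_s_20_23 c) (Nat.ble 20 c)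
noncomputable def col19_s_11_23 (c : Nat) : Nat := @Bool.rec (fun _ => Nat) (col19_s_11_17 c) (col19_s_17_23 c) (Nat.ble 17 c)
noncomputable def col19_s_0_23 (c : Nat) : Nat := @Bool.rec (fun _ => Nat) (col19_s_0_11 c) (col19_s_11_23 c) (Nat.ble 11 c)
noncomputable def col19_s_23_25 (c : Nat) : Nat := @Bool.rec (fun _ => Nat) (col19_23) (col19_24) (Nat.ble 24 c)
noncomputable def col19_s_26_28 (c : Nat) : Nat := @Bool.rec (fun _ => Nat) (col19_26) (col19_27) (Nat.ble 27 c)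
noncomputable def col19_s_25_28 (c : Nat) : Nat := @Bool.rec (fun _ => Nat) (col19_25) (col19_s_26_28 c) (Nat.ble 26 c)
noncomputable def col19_s_23_28 (c : Nat) : Nat := @Bool.rec (fun _ => Nat) (col19_s_23_25 c) (col19_s_25_28 c) (Nat.ble 25 c)
noncomputable def col19_s_29_31 (c : Nat) : Nat := @Bool.rec (fun _ => Nat) (col19_29) (col19_30) (Nat.ble 30 c)
noncomputable def col19_s_28_31 (c : Nat) : Nat := @Bool.rec (fun _ => Nat) (col19_28) (col19_s_29_31 c) (Nat.ble 29 c)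
noncomputable def col19_s_32_34 (c : Nat) : Nat := @Bool.rec (fun _ => Nat) (col19_32) (col19_33) (Nat.ble 33 c)
noncomputable def col19_s_31_34 (c : Nat) : Nat := @Bool.rec (fun _ => Nat) (col19_31) (col19_s_32_34 c) (Nat.ble 32 c)
noncomputable def col19_s_28_34 (c : Nat) : Nat := @Bool.rec (fun _ => Nat) (col19_s_28_31 c) (col19_s_31_34 c) (Nat.ble 31 c)
noncomputable def col19_s_23_34 (c : Nat) : Nat := @Bool.rec (fun _ => Nat) (col19_s_23_28 c) (col19_s_28_34 c) (Nat.ble 28 c)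
noncomputable def col19_s_35_37 (c : Nat) : Nat := @Bool.rec (fun _ => Nat) (col19_35) (col19_36) (Nat.ble 36 c)
noncomputable def col19_s_34_37 (c : Nat) : Nat := @Bool.rec (fun _ => Nat) (col19_34) (col19_s_35_37 c) (Nat.ble 35 c)
noncomputable def col19_s_38_40 (c : Nat) : Nat := @Bool.rec (fun _ => Nat) (col19_38) (col19_39) (Nat.ble 39 c)
noncomputable def col19_s_37_40 (c : Nat) : Nat := @Bool.rec (fun _ => Nat) (col19_37) (col19_s_38_40 c) (Nat.ble 38 c)
noncomputable def col19_s_34_40 (c : Nat) : Nat := @Bool.rec (fun _ => Nat) (col19_s_34_37 c) (col19_s_37_40 c) (Nat.ble 37 c)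
noncomputable def col19_s_41_43 (c : Nat) : Nat := @Bool.rec (fun _ => Nat) (col19_41) (col19_42) (Nat.ble 42 c)
noncomputable def col19_s_40_43 (c : Nat) : Nat := @Bool.rec (fun _ => Nat) (col19_40) (col19_s_41_43 c) (Nat.ble 41 c)
noncomputable def col19_s_44_46 (c : Nat) : Nat := @Bool.rec (fun _ => Nat) (col19_44) (col19_45) (Nat.ble 45 c)
noncomputable def col19_s_43_46 (c : Nat) : Nat := @Bool.rec (fun _ => Nat) (col19_43) (col19_s_44_46 c) (Nat.ble 44 c)
noncomputable def col19_s_40_46 (c : Nat) : Nat := @Bool.rec (fun _ => Nat) (col19_s_40_43 c) (col19_s_43_46 c) (Nat.ble 43 c)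
noncomputable def col19_s_34_46 (c : Nat) : Nat := @Bool.rec (fun _ => Nat) (col19_s_34_40 c) (col19_s_40_46 c) (Nat.ble 40 c)
noncomputable def col19_s_23_46 (c : Nat) : Nat := @Bool.rec (fun _ => Nat) (col19_s_23_34 c) (col19_s_34_46 c) (Nat.ble 34 c)
noncomputable def col19_s_0_46 (c : Nat) : Nat := @Bool.rec (fun _ => Nat) (col19_s_0_23 c) (col19_s_23_46 c) (Nat.ble 23 c)
noncomputable def col19 (i : Nat) : Nat := rdw 18 262143 (col19_s_0_46 (Nat.shiftRight i 12)) (Nat.land i 4095)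
noncomputable def col20_s_0_2 (c : Nat) : Nat := @Bool.rec (fun _ => Nat) (col20_0) (col20_1) (Nat.ble 1 c)
noncomputable def col20_s_3_5 (c : Nat) : Nat := @Bool.rec (fun _ => Nat) (col20_3) (col20_4) (Nat.ble 4 c)
noncomputable def col20_s_2_5 (c : Nat) : Nat := @Bool.rec (fun _ => Nat) (col20_2) (col20_s_3_5 c) (Nat.ble 3 c)
noncomputable def col20_s_0_5 (c : Nat) : Nat := @Bool.rec (fun _ => Nat) (col20_s_0_2 c) (col20_s_2_5 c) (Nat.ble 2 c)
noncomputable def col20_s_6_8 (c : Nat) : Nat := @Bool.rec (fun _ => Nat) (col20_6) (col20_7) (Nat.ble 7 c)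
noncomputable def col20_s_5_8 (c : Nat) : Nat := @Bool.rec (fun _ => Nat) (col20_5) (col20_s_6_8 c) (Nat.ble 6 c)
noncomputable def col20_s_9_11 (c : Nat) : Nat := @Bool.rec (fun _ => Nat) (col20_9) (col20_10) (Nat.ble 10 c)
noncomputable def col20_s_8_11 (c : Nat) : Nat := @Bool.rec (fun _ => Nat) (col20_8) (col20_s_9_11 c) (Nat.ble 9 c)
noncomputable def col20_s_5_11 (c : Nat) : Nat := @Bool.rec (fun _ => Nat) (col20_s_5_8 c) (col20_s_8_11 c) (Nat.ble 8 c)
noncomputable def col20_s_0_11 (c : Nat) : Nat := @Bool.rec (fun _ => Nat) (col20_s_0_5 c) (col20_s_5_11 c) (Nat.ble 5 c)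
noncomputable def col20_s_12_14 (c : Nat) : Nat := @Bool.rec (fun _ => Nat) (col20_12) (col20_13) (Nat.ble 13 c)
noncomputable def col20_s_11_14 (c : Nat) : Nat := @Bool.rec (fun _ => Nat) (col20_11) (col20_s_12_14 c) (Nat.ble 12 c)
noncomputable def col20_s_15_17 (c : Nat) : Nat := @Bool.rec (fun _ => Nat) (col20_15) (col20_16) (Nat.ble 16 c)
noncomputable def col20_s_14_17 (c : Nat) : Nat := @Bool.rec (fun _ => Nat) (col20_14) (col20_s_15_17 c) (Nat.ble 15 c)
noncomputable def col20_s_11_17 (c : Nat) : Nat := @Bool.rec (fun _ => Nat) (col20_s_11_14 c) (col20_s_14_17 c) (Nat.ble 14 c)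
noncomputable def col20_s_18_20 (c : Nat) : Nat := @Bool.rec (fun _ => Nat) (col20_18) (col20_19) (Nat.ble 19 c)
noncomputable def col20_s_17_20 (c : Nat) : Nat := @Bool.rec (fun _ => Nat) (col20_17) (col20_s_18_20 c) (Nat.ble 18 c)
noncomputable def col20_s_21_23 (c : Nat) : Nat := @Bool.rec (fun _ => Nat) (col20_21) (col20_22) (Nat.ble 22 c)
noncomputable def col20_s_20_23 (c : Nat) : Nat := @Bool.rec (fun _ => Nat) (col20_20) (col20_s_21_23 c) (Nat.ble 21 c)
noncomputable def col20_s_17_23 (c : Nat) : Nat := @Bool.rec (fun _ => Nat) (col20_s_17_20 c) (col20_s_20_23 c) (Nat.ble 20 c)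
noncomputable def col20_s_11_23 (c : Nat) : Nat := @Bool.rec (fun _ => Nat) (col20_s_11_17 c) (col20_s_17_23 c) (Nat.ble 17 c)
noncomputable def col20_s_0_23 (c : Nat) : Nat := @Bool.rec (fun _ => Nat) (col20_s_0_11 c) (col20_s_11_23 c) (Nat.ble 11 c)
noncomputable def col20_s_23_25 (c : Nat) : Nat := @Bool.rec (fun _ => Nat) (col20_23) (col20_24) (Nat.ble 24 c)
noncomputable def col20_s_26_28 (c : Nat) : Nat := @Bool.rec (fun _ => Nat) (col20_26) (col20_27) (Nat.ble 27 c)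
noncomputable def col20_s_25_28 (c : Nat) : Nat := @Bool.rec (fun _ => Nat) (col20_25) (col20_s_26_28 c) (Nat.ble 26 c)
noncomputable def col20_s_23_28 (c : Nat) : Nat := @Bool.rec (fun _ => Nat) (col20_s_23_25 c) (col20_s_25_28 c) (Nat.ble 25 c)
noncomputable def col20_s_29_31 (c : Nat) : Nat := @Bool.rec (fun _ => Nat) (col20_29) (col20_30) (Nat.ble 30 c)
noncomputable def col20_s_28_31 (c : Nat) : Nat := @Bool.rec (fun _ => Nat) (col20_28) (col20_s_29_31 c) (Nat.ble 29 c)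
noncomputable def col20_s_32_34 (c : Nat) : Nat := @Bool.rec (fun _ => Nat) (col20_32) (col20_33) (Nat.ble 33 c)
noncomputable def col20_s_31_34 (c : Nat) : Nat := @Bool.rec (fun _ => Nat) (col20_31) (col20_s_32_34 c) (Nat.ble 32 c)
noncomputable def col20_s_28_34 (c : Nat) : Nat := @Bool.rec (fun _ => Nat) (col20_s_28_31 c) (col20_s_31_34 c) (Nat.ble 31 c)
noncomputable def col20_s_23_34 (c : Nat) : Nat := @Bool.rec (fun _ => Nat) (col20_s_23_28 c) (col20_s_28_34 c) (Nat.ble 28 c)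
noncomputable def col20_s_35_37 (c : Nat) : Nat := @Bool.rec (fun _ => Nat) (col20_35) (col20_36) (Nat.ble 36 c)
noncomputable def col20_s_34_37 (c : Nat) : Nat := @Bool.rec (fun _ => Nat) (col20_34) (col20_s_35_37 c) (Nat.ble 35 c)
noncomputable def col20_s_38_40 (c : Nat) : Nat := @Bool.rec (fun _ => Nat) (col20_38) (col20_39) (Nat.ble 39 c)
noncomputable def col20_s_37_40 (c : Nat) : Nat := @Bool.rec (fun _ => Nat) (col20_37) (col20_s_38_40 c) (Nat.ble 38 c)
noncomputable def col20_s_34_40 (c : Nat) : Nat := @Bool.rec (fun _ => Nat) (col20_s_34_37 c) (col20_s_37_40 c) (Nat.ble 37 c)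
noncomputable def col20_s_41_43 (c : Nat) : Nat := @Bool.rec (fun _ => Nat) (col20_41) (col20_42) (Nat.ble 42 c)
noncomputable def col20_s_40_43 (c : Nat) : Nat := @Bool.rec (fun _ => Nat) (col20_40) (col20_s_41_43 c) (Nat.ble 41 c)
noncomputable def col20_s_44_46 (c : Nat) : Nat := @Bool.rec (fun _ => Nat) (col20_44) (col20_45) (Nat.ble 45 c)
noncomputable def col20_s_43_46 (c : Nat) : Nat := @Bool.rec (fun _ => Nat) (col20_43) (col20_s_44_46 c) (Nat.ble 44 c)
noncomputable def col20_s_40_46 (c : Nat) : Nat := @Bool.rec (fun _ => Nat) (col20_s_40_43 c) (col20_s_43_46 c) (Nat.ble 43 c)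
noncomputable def col20_s_34_46 (c : Nat) : Nat := @Bool.rec (fun _ => Nat) (col20_s_34_40 c) (col20_s_40_46 c) (Nat.ble 40 c)
noncomputable def col20_s_23_46 (c : Nat) : Nat := @Bool.rec (fun _ => Nat) (col20_s_23_34 c) (col20_s_34_46 c) (Nat.ble 34 c)
noncomputable def col20_s_0_46 (c : Nat) : Nat := @Bool.rec (fun _ => Nat) (col20_s_0_23 c) (col20_s_23_46 c) (Nat.ble 23 c)
noncomputable def col20 (i : Nat) : Nat := rdw 18 262143 (col20_s_0_46 (Nat.shiftRight i 12)) (Nat.land i 4095)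
noncomputable def col21_s_0_2 (c : Nat) : Nat := @Bool.rec (fun _ => Nat) (col21_0) (col21_1) (Nat.ble 1 c)
noncomputable def col21_s_3_5 (c : Nat) : Nat := @Bool.rec (fun _ => Nat) (col21_3) (col21_4) (Nat.ble 4 c)
noncomputable def col21_s_2_5 (c : Nat) : Nat := @Bool.rec (fun _ => Nat) (col21_2) (col21_s_3_5 c) (Nat.ble 3 c)
noncomputable def col21_s_0_5 (c : Nat) : Nat := @Bool.rec (fun _ => Nat) (col21_s_0_2 c) (col21_s_2_5 c) (Nat.ble 2 c)
noncomputable def col21_s_6_8 (c : Nat) : Nat := @Bool.rec (fun _ => Nat) (col21_6) (col21_7) (Nat.ble 7 c)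
noncomputable def col21_s_5_8 (c : Nat) : Nat := @Bool.rec (fun _ => Nat) (col21_5) (col21_s_6_8 c) (Nat.ble 6 c)
noncomputable def col21_s_9_11 (c : Nat) : Nat := @Bool.rec (fun _ => Nat) (col21_9) (col21_10) (Nat.ble 10 c)
noncomputable def col21_s_8_11 (c : Nat) : Nat := @Bool.rec (fun _ => Nat) (col21_8) (col21_s_9_11 c) (Nat.ble 9 c)
noncomputable def col21_s_5_11 (c : Nat) : Nat := @Bool.rec (fun _ => Nat) (col21_s_5_8 c) (col21_s_8_11 c) (Nat.ble 8 c)
noncomputable def col21_s_0_11 (c : Nat) : Nat := @Bool.rec (fun _ => Nat) (col21_s_0_5 c) (col21_s_5_11 c) (Nat.ble 5 c)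
noncomputable def col21_s_12_14 (c : Nat) : Nat := @Bool.rec (fun _ => Nat) (col21_12) (col21_13) (Nat.ble 13 c)
noncomputable def col21_s_11_14 (c : Nat) : Nat := @Bool.rec (fun _ => Nat) (col21_11) (col21_s_12_14 c) (Nat.ble 12 c)
noncomputable def col21_s_15_17 (c : Nat) : Nat := @Bool.rec (fun _ => Nat) (col21_15) (col21_16) (Nat.ble 16 c)
noncomputable def col21_s_14_17 (c : Nat) : Nat := @Bool.rec (fun _ => Nat) (col21_14) (col21_s_15_17 c) (Nat.ble 15 c)
noncomputable def col21_s_11_17 (c : Nat) : Nat := @Bool.rec (fun _ => Nat) (col21_s_11_14 c) (col21_s_14_17 c) (Nat.ble 14 c)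
noncomputable def col21_s_18_20 (c : Nat) : Nat := @Bool.rec (fun _ => Nat) (col21_18) (col21_19) (Nat.ble 19 c)
noncomputable def col21_s_17_20 (c : Nat) : Nat := @Bool.rec (fun _ => Nat) (col21_17) (col21_s_18_20 c) (Nat.ble 18 c)
noncomputable def col21_s_21_23 (c : Nat) : Nat := @Bool.rec (fun _ => Nat) (col21_21) (col21_22) (Nat.ble 22 c)
noncomputable def col21_s_20_23 (c : Nat) : Nat := @Bool.rec (fun _ => Nat) (col21_20) (col21_s_21_23 c) (Nat.ble 21 c)
noncomputable def col21_s_17_23 (c : Nat) : Nat := @Bool.rec (fun _ => Nat) (col21_s_17_20 c) (col21_s_20_23 c) (Nat.ble 20 c)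
noncomputable def col21_s_11_23 (c : Nat) : Nat := @Bool.rec (fun _ => Nat) (col21_s_11_17 c) (col21_s_17_23 c) (Nat.ble 17 c)
noncomputable def col21_s_0_23 (c : Nat) : Nat := @Bool.rec (fun _ => Nat) (col21_s_0_11 c) (col21_s_11_23 c) (Nat.ble 11 c)
noncomputable def col21_s_23_25 (c : Nat) : Nat := @Bool.rec (fun _ => Nat) (col21_23) (col21_24) (Nat.ble 24 c)
noncomputable def col21_s_26_28 (c : Nat) : Nat := @Bool.rec (fun _ => Nat) (col21_26) (col21_27) (Nat.ble 27 c)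
noncomputable def col21_s_25_28 (c : Nat) : Nat := @Bool.rec (fun _ => Nat) (col21_25) (col21_s_26_28 c) (Nat.ble 26 c)
noncomputable def col21_s_23_28 (c : Nat) : Nat := @Bool.rec (fun _ => Nat) (col21_s_23_25 c) (col21_s_25_28 c) (Nat.ble 25 c)
noncomputable def col21_s_29_31 (c : Nat) : Nat := @Bool.rec (fun _ => Nat) (col21_29) (col21_30) (Nat.ble 30 c)
noncomputable def col21_s_28_31 (c : Nat) : Nat := @Bool.rec (fun _ => Nat) (col21_28) (col21_s_29_31 c) (Nat.ble 29 c)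
noncomputable def col21_s_32_34 (c : Nat) : Nat := @Bool.rec (fun _ => Nat) (col21_32) (col21_33) (Nat.ble 33 c)
noncomputable def col21_s_31_34 (c : Nat) : Nat := @Bool.rec (fun _ => Nat) (col21_31) (col21_s_32_34 c) (Nat.ble 32 c)
noncomputable def col21_s_28_34 (c : Nat) : Nat := @Bool.rec (fun _ => Nat) (col21_s_28_31 c) (col21_s_31_34 c) (Nat.ble 31 c)
noncomputable def col21_s_23_34 (c : Nat) : Nat := @Bool.rec (fun _ => Nat) (col21_s_23_28 c) (col21_s_28_34 c) (Nat.ble 28 c)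
noncomputable def col21_s_35_37 (c : Nat) : Nat := @Bool.rec (fun _ => Nat) (col21_35) (col21_36) (Nat.ble 36 c)
noncomputable def col21_s_34_37 (c : Nat) : Nat := @Bool.rec (fun _ => Nat) (col21_34) (col21_s_35_37 c) (Nat.ble 35 c)
noncomputable def col21_s_38_40 (c : Nat) : Nat := @Bool.rec (fun _ => Nat) (col21_38) (col21_39) (Nat.ble 39 c)
noncomputable def col21_s_37_40 (c : Nat) : Nat := @Bool.rec (fun _ => Nat) (col21_37) (col21_s_38_40 c) (Nat.ble 38 c)
noncomputable def col21_s_34_40 (c : Nat) : Nat := @Bool.rec (fun _ => Nat) (col21_s_34_37 c) (col21_s_37_40 c) (Nat.ble 37 c)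
noncomputable def col21_s_41_43 (c : Nat) : Nat := @Bool.rec (fun _ => Nat) (col21_41) (col21_42) (Nat.ble 42 c)
noncomputable def col21_s_40_43 (c : Nat) : Nat := @Bool.rec (fun _ => Nat) (col21_40) (col21_s_41_43 c) (Nat.ble 41 c)
noncomputable def col21_s_44_46 (c : Nat) : Nat := @Bool.rec (fun _ => Nat) (col21_44) (col21_45) (Nat.ble 45 c)
noncomputable def col21_s_43_46 (c : Nat) : Nat := @Bool.rec (fun _ => Nat) (col21_43) (col21_s_44_46 c) (Nat.ble 44 c)
noncomputable def col21_s_40_46 (c : Nat) : Nat := @Bool.rec (fun _ => Nat) (col21_s_40_43 c) (col21_s_43_46 c) (Nat.ble 43 c)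
noncomputable def col21_s_34_46 (c : Nat) : Nat := @Bool.rec (fun _ => Nat) (col21_s_34_40 c) (col21_s_40_46 c) (Nat.ble 40 c)
noncomputable def col21_s_23_46 (c : Nat) : Nat := @Bool.rec (fun _ => Nat) (col21_s_23_34 c) (col21_s_34_46 c) (Nat.ble 34 c)
noncomputable def col21_s_0_46 (c : Nat) : Nat := @Bool.rec (fun _ => Nat) (col21_s_0_23 c) (col21_s_23_46 c) (Nat.ble 23 c)
noncomputable def col21 (i : Nat) : Nat := rdw 18 262143 (col21_s_0_46 (Nat.shiftRight i 12)) (Nat.land i 4095)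
noncomputable def col22_s_0_2 (c : Nat) : Nat := @Bool.rec (fun _ => Nat) (col22_0) (col22_1) (Nat.ble 1 c)
noncomputable def col22_s_3_5 (c : Nat) : Nat := @Bool.rec (fun _ => Nat) (col22_3) (col22_4) (Nat.ble 4 c)
noncomputable def col22_s_2_5 (c : Nat) : Nat := @Bool.rec (fun _ => Nat) (col22_2) (col22_s_3_5 c) (Nat.ble 3 c)
noncomputable def col22_s_0_5 (c : Nat) : Nat := @Bool.rec (fun _ => Nat) (col22_s_0_2 c) (col22_s_2_5 c) (Nat.ble 2 c)
noncomputable def col22_s_6_8 (c : Nat) : Nat := @Bool.rec (fun _ => Nat) (col22_6) (col22_7) (Nat.ble 7 c)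
noncomputable def col22_s_5_8 (c : Nat) : Nat := @Bool.rec (fun _ => Nat) (col22_5) (col22_s_6_8 c) (Nat.ble 6 c)
noncomputable def col22_s_9_11 (c : Nat) : Nat := @Bool.rec (fun _ => Nat) (col22_9) (col22_10) (Nat.ble 10 c)
noncomputable def col22_s_8_11 (c : Nat) : Nat := @Bool.rec (fun _ => Nat) (col22_8) (col22_s_9_11 c) (Nat.ble 9 c)
noncomputable def col22_s_5_11 (c : Nat) : Nat := @Bool.rec (fun _ => Nat) (col22_s_5_8 c) (col22_s_8_11 c) (Nat.ble 8 c)
noncomputable def col22_s_0_11 (c : Nat) : Nat := @Bool.rec (fun _ => Nat) (col22_s_0_5 c) (col22_s_5_11 c) (Nat.ble 5 c)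
noncomputable def col22_s_12_14 (c : Nat) : Nat := @Bool.rec (fun _ => Nat) (col22_12) (col22_13) (Nat.ble 13 c)
noncomputable def col22_s_11_14 (c : Nat) : Nat := @Bool.rec (fun _ => Nat) (col22_11) (col22_s_12_14 c) (Nat.ble 12 c)
noncomputable def col22_s_15_17 (c : Nat) : Nat := @Bool.rec (fun _ => Nat) (col22_15) (col22_16) (Nat.ble 16 c)
noncomputable def col22_s_14_17 (c : Nat) : Nat := @Bool.rec (fun _ => Nat) (col22_14) (col22_s_15_17 c) (Nat.ble 15 c)
noncomputable def col22_s_11_17 (c : Nat) : Nat := @Bool.rec (fun _ => Nat) (col22_s_11_14 c) (col22_s_14_17 c) (Nat.ble 14 c)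
noncomputable def col22_s_18_20 (c : Nat) : Nat := @Bool.rec (fun _ => Nat) (col22_18) (col22_19) (Nat.ble 19 c)
noncomputable def col22_s_17_20 (c : Nat) : Nat := @Bool.rec (fun _ => Nat) (col22_17) (col22_s_18_20 c) (Nat.ble 18 c)
noncomputable def col22_s_21_23 (c : Nat) : Nat := @Bool.rec (fun _ => Nat) (col22_21) (col22_22) (Nat.ble 22 c)
noncomputable def col22_s_20_23 (c : Nat) : Nat := @Bool.rec (fun _ => Nat) (col22_20) (col22_s_21_23 c) (Nat.ble 21 c)
noncomputable def col22_s_17_23 (c : Nat) : Nat := @Bool.rec (fun _ => Nat) (col22_s_17_20 c) (col22_s_20_23 c) (Nat.ble 20 c)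
noncomputable def col22_s_11_23 (c : Nat) : Nat := @Bool.rec (fun _ => Nat) (col22_s_11_17 c) (col22_s_17_23 c) (Nat.ble 17 c)
noncomputable def col22_s_0_23 (c : Nat) : Nat := @Bool.rec (fun _ => Nat) (col22_s_0_11 c) (col22_s_11_23 c) (Nat.ble 11 c)
noncomputable def col22_s_23_25 (c : Nat) : Nat := @Bool.rec (fun _ => Nat) (col22_23) (col22_24) (Nat.ble 24 c)
noncomputable def col22_s_26_28 (c : Nat) : Nat := @Bool.rec (fun _ => Nat) (col22_26) (col22_27) (Nat.ble 27 c)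
noncomputable def col22_s_25_28 (c : Nat) : Nat := @Bool.rec (fun _ => Nat) (col22_25) (col22_s_26_28 c) (Nat.ble 26 c)
noncomputable def col22_s_23_28 (c : Nat) : Nat := @Bool.rec (fun _ => Nat) (col22_s_23_25 c) (col22_s_25_28 c) (Nat.ble 25 c)
noncomputable def col22_s_29_31 (c : Nat) : Nat := @Bool.rec (fun _ => Nat) (col22_29) (col22_30) (Nat.ble 30 c)
noncomputable def col22_s_28_31 (c : Nat) : Nat := @Bool.rec (fun _ => Nat) (col22_28) (col22_s_29_31 c) (Nat.ble 29 c)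
noncomputable def col22_s_32_34 (c : Nat) : Nat := @Bool.rec (fun _ => Nat) (col22_32) (col22_33) (Nat.ble 33 c)
noncomputable def col22_s_31_34 (c : Nat) : Nat := @Bool.rec (fun _ => Nat) (col22_31) (col22_s_32_34 c) (Nat.ble 32 c)
noncomputable def col22_s_28_34 (c : Nat) : Nat := @Bool.rec (fun _ => Nat) (col22_s_28_31 c) (col22_s_31_34 c) (Nat.ble 31 c)
noncomputable def col22_s_23_34 (c : Nat) : Nat := @Bool.rec (fun _ => Nat) (col22_s_23_28 c) (col22_s_28_34 c) (Nat.ble 28 c)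
noncomputable def col22_s_35_37 (c : Nat) : Nat := @Bool.rec (fun _ => Nat) (col22_35) (col22_36) (Nat.ble 36 c)
noncomputable def col22_s_34_37 (c : Nat) : Nat := @Bool.rec (fun _ => Nat) (col22_34) (col22_s_35_37 c) (Nat.ble 35 c)
noncomputable def col22_s_38_40 (c : Nat) : Nat := @Bool.rec (fun _ => Nat) (col22_38) (col22_39) (Nat.ble 39 c)
noncomputable def col22_s_37_40 (c : Nat) : Nat := @Bool.rec (fun _ => Nat) (col22_37) (col22_s_38_40 c) (Nat.ble 38 c)
noncomputable def col22_s_34_40 (c : Nat) : Nat := @Bool.rec (fun _ => Nat) (col22_s_34_37 c) (col22_s_37_40 c) (Nat.ble 37 c)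
noncomputable def col22_s_41_43 (c : Nat) : Nat := @Bool.rec (fun _ => Nat) (col22_41) (col22_42) (Nat.ble 42 c)
noncomputable def col22_s_40_43 (c : Nat) : Nat := @Bool.rec (fun _ => Nat) (col22_40) (col22_s_41_43 c) (Nat.ble 41 c)
noncomputable def col22_s_44_46 (c : Nat) : Nat := @Bool.rec (fun _ => Nat) (col22_44) (col22_45) (Nat.ble 45 c)
noncomputable def col22_s_43_46 (c : Nat) : Nat := @Bool.rec (fun _ => Nat) (col22_43) (col22_s_44_46 c) (Nat.ble 44 c)
noncomputable def col22_s_40_46 (c : Nat) : Nat := @Bool.rec (fun _ => Nat) (col22_s_40_43 c) (col22_s_43_46 c) (Nat.ble 43 c)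
noncomputable def col22_s_34_46 (c : Nat) : Nat := @Bool.rec (fun _ => Nat) (col22_s_34_40 c) (col22_s_40_46 c) (Nat.ble 40 c)
noncomputable def col22_s_23_46 (c : Nat) : Nat := @Bool.rec (fun _ => Nat) (col22_s_23_34 c) (col22_s_34_46 c) (Nat.ble 34 c)
noncomputable def col22_s_0_46 (c : Nat) : Nat := @Bool.rec (fun _ => Nat) (col22_s_0_23 c) (col22_s_23_46 c) (Nat.ble 23 c)
noncomputable def col22 (i : Nat) : Nat := rdw 18 262143 (col22_s_0_46 (Nat.shiftRight i 12)) (Nat.land i 4095)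
noncomputable def col23_s_0_2 (c : Nat) : Nat := @Bool.rec (fun _ => Nat) (col23_0) (col23_1) (Nat.ble 1 c)
noncomputable def col23_s_3_5 (c : Nat) : Nat := @Bool.rec (fun _ => Nat) (col23_3) (col23_4) (Nat.ble 4 c)
noncomputable def col23_s_2_5 (c : Nat) : Nat := @Bool.rec (fun _ => Nat) (col23_2) (col23_s_3_5 c) (Nat.ble 3 c)
noncomputable def col23_s_0_5 (c : Nat) : Nat := @Bool.rec (fun _ => Nat) (col23_s_0_2 c) (col23_s_2_5 c) (Nat.ble 2 c)
noncomputable def col23_s_6_8 (c : Nat) : Nat := @Bool.rec (fun _ => Nat) (col23_6) (col23_7) (Nat.ble 7 c)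
noncomputable def col23_s_5_8 (c : Nat) : Nat := @Bool.rec (fun _ => Nat) (col23_5) (col23_s_6_8 c) (Nat.ble 6 c)
noncomputable def col23_s_9_11 (c : Nat) : Nat := @Bool.rec (fun _ => Nat) (col23_9) (col23_10) (Nat.ble 10 c)
noncomputable def col23_s_8_11 (c : Nat) : Nat := @Bool.rec (fun _ => Nat) (col23_8) (col23_s_9_11 c) (Nat.ble 9 c)
noncomputable def col23_s_5_11 (c : Nat) : Nat := @Bool.rec (fun _ => Nat) (col23_s_5_8 c) (col23_s_8_11 c) (Nat.ble 8 c)
noncomputable def col23_s_0_11 (c : Nat) : Nat := @Bool.rec (fun _ => Nat) (col23_s_0_5 c) (col23_s_5_11 c) (Nat.ble 5 c)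
noncomputable def col23_s_12_14 (c : Nat) : Nat := @Bool.rec (fun _ => Nat) (col23_12) (col23_13) (Nat.ble 13 c)
noncomputable def col23_s_11_14 (c : Nat) : Nat := @Bool.rec (fun _ => Nat) (col23_11) (col23_s_12_14 c) (Nat.ble 12 c)
noncomputable def col23_s_15_17 (c : Nat) : Nat := @Bool.rec (fun _ => Nat) (col23_15) (col23_16) (Nat.ble 16 c)
noncomputable def col23_s_14_17 (c : Nat) : Nat := @Bool.rec (fun _ => Nat) (col23_14) (col23_s_15_17 c) (Nat.ble 15 c)
noncomputable def col23_s_11_17 (c : Nat) : Nat := @Bool.rec (fun _ => Nat) (col23_s_11_14 c) (col23_s_14_17 c) (Nat.ble 14 c)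
noncomputable def col23_s_18_20 (c : Nat) : Nat := @Bool.rec (fun _ => Nat) (col23_18) (col23_19) (Nat.ble 19 c)
noncomputable def col23_s_17_20 (c : Nat) : Nat := @Bool.rec (fun _ => Nat) (col23_17) (col23_s_18_20 c) (Nat.ble 18 c)
noncomputable def col23_s_21_23 (c : Nat) : Nat := @Bool.rec (fun _ => Nat) (col23_21) (col23_22) (Nat.ble 22 c)
noncomputable def col23_s_20_23 (c : Nat) : Nat := @Bool.rec (fun _ => Nat) (col23_20) (col23_s_21_23 c) (Nat.ble 21 c)
noncomputable def col23_s_17_23 (c : Nat) : Nat := @Bool.rec (fun _ => Nat) (col23_s_17_20 c) (col23_s_20_23 c) (Nat.ble 20 c)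
noncomputable def col23_s_11_23 (c : Nat) : Nat := @Bool.rec (fun _ => Nat) (col23_s_11_17 c) (col23_s_17_23 c) (Nat.ble 17 c)
noncomputable def col23_s_0_23 (c : Nat) : Nat := @Bool.rec (fun _ => Nat) (col23_s_0_11 c) (col23_s_11_23 c) (Nat.ble 11 c)
noncomputable def col23_s_23_25 (c : Nat) : Nat := @Bool.rec (fun _ => Nat) (col23_23) (col23_24) (Nat.ble 24 c)
noncomputable def col23_s_26_28 (c : Nat) : Nat := @Bool.rec (fun _ => Nat) (col23_26) (col23_27) (Nat.ble 27 c)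
noncomputable def col23_s_25_28 (c : Nat) : Nat := @Bool.rec (fun _ => Nat) (col23_25) (col23_s_26_28 c) (Nat.ble 26 c)
noncomputable def col23_s_23_28 (c : Nat) : Nat := @Bool.rec (fun _ => Nat) (col23_s_23_25 c) (col23_s_25_28 c) (Nat.ble 25 c)
noncomputable def col23_s_29_31 (c : Nat) : Nat := @Bool.rec (fun _ => Nat) (col23_29) (col23_30) (Nat.ble 30 c)
noncomputable def col23_s_28_31 (c : Nat) : Nat := @Bool.rec (fun _ => Nat) (col23_28) (col23_s_29_31 c) (Nat.ble 29 c)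
noncomputable def col23_s_32_34 (c : Nat) : Nat := @Bool.rec (fun _ => Nat) (col23_32) (col23_33) (Nat.ble 33 c)
noncomputable def col23_s_31_34 (c : Nat) : Nat := @Bool.rec (fun _ => Nat) (col23_31) (col23_s_32_34 c) (Nat.ble 32 c)
noncomputable def col23_s_28_34 (c : Nat) : Nat := @Bool.rec (fun _ => Nat) (col23_s_28_31 c) (col23_s_31_34 c) (Nat.ble 31 c)
noncomputable def col23_s_23_34 (c : Nat) : Nat := @Bool.rec (fun _ => Nat) (col23_s_23_28 c) (col23_s_28_34 c) (Nat.ble 28 c)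
noncomputable def col23_s_35_37 (c : Nat) : Nat := @Bool.rec (fun _ => Nat) (col23_35) (col23_36) (Nat.ble 36 c)
noncomputable def col23_s_34_37 (c : Nat) : Nat := @Bool.rec (fun _ => Nat) (col23_34) (col23_s_35_37 c) (Nat.ble 35 c)
noncomputable def col23_s_38_40 (c : Nat) : Nat := @Bool.rec (fun _ => Nat) (col23_38) (col23_39) (Nat.ble 39 c)
noncomputable def col23_s_37_40 (c : Nat) : Nat := @Bool.rec (fun _ => Nat) (col23_37) (col23_s_38_40 c) (Nat.ble 38 c)
noncomputable def col23_s_34_40 (c : Nat) : Nat := @Bool.rec (fun _ => Nat) (col23_s_34_37 c) (col23_s_37_40 c) (Nat.ble 37 c)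
noncomputable def col23_s_41_43 (c : Nat) : Nat := @Bool.rec (fun _ => Nat) (col23_41) (col23_42) (Nat.ble 42 c)
noncomputable def col23_s_40_43 (c : Nat) : Nat := @Bool.rec (fun _ => Nat) (col23_40) (col23_s_41_43 c) (Nat.ble 41 c)
noncomputable def col23_s_44_46 (c : Nat) : Nat := @Bool.rec (fun _ => Nat) (col23_44) (col23_45) (Nat.ble 45 c)
noncomputable def col23_s_43_46 (c : Nat) : Nat := @Bool.rec (fun _ => Nat) (col23_43) (col23_s_44_46 c) (Nat.ble 44 c)
noncomputable def col23_s_40_46 (c : Nat) : Nat := @Bool.rec (fun _ => Nat) (col23_s_40_43 c) (col23_s_43_46 c) (Nat.ble 43 c)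
noncomputable def col23_s_34_46 (c : Nat) : Nat := @Bool.rec (fun _ => Nat) (col23_s_34_40 c) (col23_s_40_46 c) (Nat.ble 40 c)
noncomputable def col23_s_23_46 (c : Nat) : Nat := @Bool.rec (fun _ => Nat) (col23_s_23_34 c) (col23_s_34_46 c) (Nat.ble 34 c)
noncomputable def col23_s_0_46 (c : Nat) : Nat := @Bool.rec (fun _ => Nat) (col23_s_0_23 c) (col23_s_23_46 c) (Nat.ble 23 c)
noncomputable def col23 (i : Nat) : Nat := rdw 18 262143 (col23_s_0_46 (Nat.shiftRight i 12)) (Nat.land i 4095)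
noncomputable def col24_s_0_2 (c : Nat) : Nat := @Bool.rec (fun _ => Nat) (col24_0) (col24_1) (Nat.ble 1 c)
noncomputable def col24_s_3_5 (c : Nat) : Nat := @Bool.rec (fun _ => Nat) (col24_3) (col24_4) (Nat.ble 4 c)
noncomputable def col24_s_2_5 (c : Nat) : Nat := @Bool.rec (fun _ => Nat) (col24_2) (col24_s_3_5 c) (Nat.ble 3 c)
noncomputable def col24_s_0_5 (c : Nat) : Nat := @Bool.rec (fun _ => Nat) (col24_s_0_2 c) (col24_s_2_5 c) (Nat.ble 2 c)
noncomputable def col24_s_6_8 (c : Nat) : Nat := @Bool.rec (fun _ => Nat) (col24_6) (col24_7) (Nat.ble 7 c)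
noncomputable def col24_s_5_8 (c : Nat) : Nat := @Bool.rec (fun _ => Nat) (col24_5) (col24_s_6_8 c) (Nat.ble 6 c)
noncomputable def col24_s_9_11 (c : Nat) : Nat := @Bool.rec (fun _ => Nat) (col24_9) (col24_10) (Nat.ble 10 c)
noncomputable def col24_s_8_11 (c : Nat) : Nat := @Bool.rec (fun _ => Nat) (col24_8) (col24_s_9_11 c) (Nat.ble 9 c)
noncomputable def col24_s_5_11 (c : Nat) : Nat := @Bool.rec (fun _ => Nat) (col24_s_5_8 c) (col24_s_8_11 c) (Nat.ble 8 c)
noncomputable def col24_s_0_11 (c : Nat) : Nat := @Bool.rec (fun _ => Nat) (col24_s_0_5 c) (col24_s_5_11 c) (Nat.ble 5 c)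
noncomputable def col24_s_12_14 (c : Nat) : Nat := @Bool.rec (fun _ => Nat) (col24_12) (col24_13) (Nat.ble 13 c)
noncomputable def col24_s_11_14 (c : Nat) : Nat := @Bool.rec (fun _ => Nat) (col24_11) (col24_s_12_14 c) (Nat.ble 12 c)
noncomputable def col24_s_15_17 (c : Nat) : Nat := @Bool.rec (fun _ => Nat) (col24_15) (col24_16) (Nat.ble 16 c)
noncomputable def col24_s_14_17 (c : Nat) : Nat := @Bool.rec (fun _ => Nat) (col24_14) (col24_s_15_17 c) (Nat.ble 15 c)
noncomputable def col24_s_11_17 (c : Nat) : Nat := @Bool.rec (fun _ => Nat) (col24_s_11_14 c) (col24_s_14_17 c) (Nat.ble 14 c)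
noncomputable def col24_s_18_20 (c : Nat) : Nat := @Bool.rec (fun _ => Nat) (col24_18) (col24_19) (Nat.ble 19 c)
noncomputable def col24_s_17_20 (c : Nat) : Nat := @Bool.rec (fun _ => Nat) (col24_17) (col24_s_18_20 c) (Nat.ble 18 c)
noncomputable def col24_s_21_23 (c : Nat) : Nat := @Bool.rec (fun _ => Nat) (col24_21) (col24_22) (Nat.ble 22 c)
noncomputable def col24_s_20_23 (c : Nat) : Nat := @Bool.rec (fun _ => Nat) (col24_20) (col24_s_21_23 c) (Nat.ble 21 c)
noncomputable def col24_s_17_23 (c : Nat) : Nat := @Bool.rec (fun _ => Nat) (col24_s_17_20 c) (col24_s_20_23 c) (Nat.ble 20 c)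
noncomputable def col24_s_11_23 (c : Nat) : Nat := @Bool.rec (fun _ => Nat) (col24_s_11_17 c) (col24_s_17_23 c) (Nat.ble 17 c)
noncomputable def col24_s_0_23 (c : Nat) : Nat := @Bool.rec (fun _ => Nat) (col24_s_0_11 c) (col24_s_11_23 c) (Nat.ble 11 c)
noncomputable def col24_s_23_25 (c : Nat) : Nat := @Bool.rec (fun _ => Nat) (col24_23) (col24_24) (Nat.ble 24 c)
noncomputable def col24_s_26_28 (c : Nat) : Nat := @Bool.rec (fun _ => Nat) (col24_26) (col24_27) (Nat.ble 27 c)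
noncomputable def col24_s_25_28 (c : Nat) : Nat := @Bool.rec (fun _ => Nat) (col24_25) (col24_s_26_28 c) (Nat.ble 26 c)
noncomputable def col24_s_23_28 (c : Nat) : Nat := @Bool.rec (fun _ => Nat) (col24_s_23_25 c) (col24_s_25_28 c) (Nat.ble 25 c)
noncomputable def col24_s_29_31 (c : Nat) : Nat := @Bool.rec (fun _ => Nat) (col24_29) (col24_30) (Nat.ble 30 c)
noncomputable def col24_s_28_31 (c : Nat) : Nat := @Bool.rec (fun _ => Nat) (col24_28) (col24_s_29_31 c) (Nat.ble 29 c)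
noncomputable def col24_s_32_34 (c : Nat) : Nat := @Bool.rec (fun _ => Nat) (col24_32) (col24_33) (Nat.ble 33 c)
noncomputable def col24_s_31_34 (c : Nat) : Nat := @Bool.rec (fun _ => Nat) (col24_31) (col24_s_32_34 c) (Nat.ble 32 c)
noncomputable def col24_s_28_34 (c : Nat) : Nat := @Bool.rec (fun _ => Nat) (col24_s_28_31 c) (col24_s_31_34 c) (Nat.ble 31 c)
noncomputable def col24_s_23_34 (c : Nat) : Nat := @Bool.rec (fun _ => Nat) (col24_s_23_28 c) (col24_s_28_34 c) (Nat.ble 28 c)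
noncomputable def col24_s_35_37 (c : Nat) : Nat := @Bool.rec (fun _ => Nat) (col24_35) (col24_36) (Nat.ble 36 c)
noncomputable def col24_s_34_37 (c : Nat) : Nat := @Bool.rec (fun _ => Nat) (col24_34) (col24_s_35_37 c) (Nat.ble 35 c)
noncomputable def col24_s_38_40 (c : Nat) : Nat := @Bool.rec (fun _ => Nat) (col24_38) (col24_39) (Nat.ble 39 c)
noncomputable def col24_s_37_40 (c : Nat) : Nat := @Bool.rec (fun _ => Nat) (col24_37) (col24_s_38_40 c) (Nat.ble 38 c)
noncomputable def col24_s_34_40 (c : Nat) : Nat := @Bool.rec (fun _ => Nat) (col24_s_34_37 c) (col24_s_37_40 c) (Nat.ble 37 c)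
noncomputable def col24_s_41_43 (c : Nat) : Nat := @Bool.rec (fun _ => Nat) (col24_41) (col24_42) (Nat.ble 42 c)
noncomputable def col24_s_40_43 (c : Nat) : Nat := @Bool.rec (fun _ => Nat) (col24_40) (col24_s_41_43 c) (Nat.ble 41 c)
noncomputable def col24_s_44_46 (c : Nat) : Nat := @Bool.rec (fun _ => Nat) (col24_44) (col24_45) (Nat.ble 45 c)
noncomputable def col24_s_43_46 (c : Nat) : Nat := @Bool.rec (fun _ => Nat) (col24_43) (col24_s_44_46 c) (Nat.ble 44 c)
noncomputable def col24_s_40_46 (c : Nat) : Nat := @Bool.rec (fun _ => Nat) (col24_s_40_43 c) (col24_s_43_46 c) (Nat.ble 43 c)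
noncomputable def col24_s_34_46 (c : Nat) : Nat := @Bool.rec (fun _ => Nat) (col24_s_34_40 c) (col24_s_40_46 c) (Nat.ble 40 c)
noncomputable def col24_s_23_46 (c : Nat) : Nat := @Bool.rec (fun _ => Nat) (col24_s_23_34 c) (col24_s_34_46 c) (Nat.ble 34 c)
noncomputable def col24_s_0_46 (c : Nat) : Nat := @Bool.rec (fun _ => Nat) (col24_s_0_23 c) (col24_s_23_46 c) (Nat.ble 23 c)
noncomputable def col24 (i : Nat) : Nat := rdw 18 262143 (col24_s_0_46 (Nat.shiftRight i 12)) (Nat.land i 4095)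
noncomputable def col25_s_0_2 (c : Nat) : Nat := @Bool.rec (fun _ => Nat) (col25_0) (col25_1) (Nat.ble 1 c)
noncomputable def col25_s_3_5 (c : Nat) : Nat := @Bool.rec (fun _ => Nat) (col25_3) (col25_4) (Nat.ble 4 c)
noncomputable def col25_s_2_5 (c : Nat) : Nat := @Bool.rec (fun _ => Nat) (col25_2) (col25_s_3_5 c) (Nat.ble 3 c)
noncomputable def col25_s_0_5 (c : Nat) : Nat := @Bool.rec (fun _ => Nat) (col25_s_0_2 c) (col25_s_2_5 c) (Nat.ble 2 c)
noncomputable def col25_s_6_8 (c : Nat) : Nat := @Bool.rec (fun _ => Nat) (col25_6) (col25_7) (Nat.ble 7 c)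
noncomputable def col25_s_5_8 (c : Nat) : Nat := @Bool.rec (fun _ => Nat) (col25_5) (col25_s_6_8 c) (Nat.ble 6 c)
noncomputable def col25_s_9_11 (c : Nat) : Nat := @Bool.rec (fun _ => Nat) (col25_9) (col25_10) (Nat.ble 10 c)
noncomputable def col25_s_8_11 (c : Nat) : Nat := @Bool.rec (fun _ => Nat) (col25_8) (col25_s_9_11 c) (Nat.ble 9 c)
noncomputable def col25_s_5_11 (c : Nat) : Nat := @Bool.rec (fun _ => Nat) (col25_s_5_8 c) (col25_s_8_11 c) (Nat.ble 8 c)
noncomputable def col25_s_0_11 (c : Nat) : Nat := @Bool.rec (fun _ => Nat) (col25_s_0_5 c) (col25_s_5_11 c) (Nat.ble 5 c)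
noncomputable def col25_s_12_14 (c : Nat) : Nat := @Bool.rec (fun _ => Nat) (col25_12) (col25_13) (Nat.ble 13 c)
noncomputable def col25_s_11_14 (c : Nat) : Nat := @Bool.rec (fun _ => Nat) (col25_11) (col25_s_12_14 c) (Nat.ble 12 c)
noncomputable def col25_s_15_17 (c : Nat) : Nat := @Bool.rec (fun _ => Nat) (col25_15) (col25_16) (Nat.ble 16 c)
noncomputable def col25_s_14_17 (c : Nat) : Nat := @Bool.rec (fun _ => Nat) (col25_14) (col25_s_15_17 c) (Nat.ble 15 c)
noncomputable def col25_s_11_17 (c : Nat) : Nat := @Bool.rec (fun _ => Nat) (col25_s_11_14 c) (col25_s_14_17 c) (Nat.ble 14 c)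
noncomputable def col25_s_18_20 (c : Nat) : Nat := @Bool.rec (fun _ => Nat) (col25_18) (col25_19) (Nat.ble 19 c)
noncomputable def col25_s_17_20 (c : Nat) : Nat := @Bool.rec (fun _ => Nat) (col25_17) (col25_s_18_20 c) (Nat.ble 18 c)
noncomputable def col25_s_21_23 (c : Nat) : Nat := @Bool.rec (fun _ => Nat) (col25_21) (col25_22) (Nat.ble 22 c)
noncomputable def col25_s_20_23 (c : Nat) : Nat := @Bool.rec (fun _ => Nat) (col25_20) (col25_s_21_23 c) (Nat.ble 21 c)
noncomputable def col25_s_17_23 (c : Nat) : Nat := @Bool.rec (fun _ => Nat) (col25_s_17_20 c) (col25_s_20_23 c) (Nat.ble 20 c)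
noncomputable def col25_s_11_23 (c : Nat) : Nat := @Bool.rec (fun _ => Nat) (col25_s_11_17 c) (col25_s_17_23 c) (Nat.ble 17 c)
noncomputable def col25_s_0_23 (c : Nat) : Nat := @Bool.rec (fun _ => Nat) (col25_s_0_11 c) (col25_s_11_23 c) (Nat.ble 11 c)
noncomputable def col25_s_23_25 (c : Nat) : Nat := @Bool.rec (fun _ => Nat) (col25_23) (col25_24) (Nat.ble 24 c)
noncomputable def col25_s_26_28 (c : Nat) : Nat := @Bool.rec (fun _ => Nat) (col25_26) (col25_27) (Nat.ble 27 c)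
noncomputable def col25_s_25_28 (c : Nat) : Nat := @Bool.rec (fun _ => Nat) (col25_25) (col25_s_26_28 c) (Nat.ble 26 c)
noncomputable def col25_s_23_28 (c : Nat) : Nat := @Bool.rec (fun _ => Nat) (col25_s_23_25 c) (col25_s_25_28 c) (Nat.ble 25 c)
noncomputable def col25_s_29_31 (c : Nat) : Nat := @Bool.rec (fun _ => Nat) (col25_29) (col25_30) (Nat.ble 30 c)
noncomputable def col25_s_28_31 (c : Nat) : Nat := @Bool.rec (fun _ => Nat) (col25_28) (col25_s_29_31 c) (Nat.ble 29 c)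
noncomputable def col25_s_32_34 (c : Nat) : Nat := @Bool.rec (fun _ => Nat) (col25_32) (col25_33) (Nat.ble 33 c)
noncomputable def col25_s_31_34 (c : Nat) : Nat := @Bool.rec (fun _ => Nat) (col25_31) (col25_s_32_34 c) (Nat.ble 32 c)
noncomputable def col25_s_28_34 (c : Nat) : Nat := @Bool.rec (fun _ => Nat) (col25_s_28_31 c) (col25_s_31_34 c) (Nat.ble 31 c)
noncomputable def col25_s_23_34 (c : Nat) : Nat := @Bool.rec (fun _ => Nat) (col25_s_23_28 c) (col25_s_28_34 c) (Nat.ble 28 c)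
noncomputable def col25_s_35_37 (c : Nat) : Nat := @Bool.rec (fun _ => Nat) (col25_35) (col25_36) (Nat.ble 36 c)
noncomputable def col25_s_34_37 (c : Nat) : Nat := @Bool.rec (fun _ => Nat) (col25_34) (col25_s_35_37 c) (Nat.ble 35 c)
noncomputable def col25_s_38_40 (c : Nat) : Nat := @Bool.rec (fun _ => Nat) (col25_38) (col25_39) (Nat.ble 39 c)
noncomputable def col25_s_37_40 (c : Nat) : Nat := @Bool.rec (fun _ => Nat) (col25_37) (col25_s_38_40 c) (Nat.ble 38 c)
noncomputable def col25_s_34_40 (c : Nat) : Nat := @Bool.rec (fun _ => Nat) (col25_s_34_37 c) (col25_s_37_40 c) (Nat.ble 37 c)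
noncomputable def col25_s_41_43 (c : Nat) : Nat := @Bool.rec (fun _ => Nat) (col25_41) (col25_42) (Nat.ble 42 c)
noncomputable def col25_s_40_43 (c : Nat) : Nat := @Bool.rec (fun _ => Nat) (col25_40) (col25_s_41_43 c) (Nat.ble 41 c)
noncomputable def col25_s_44_46 (c : Nat) : Nat := @Bool.rec (fun _ => Nat) (col25_44) (col25_45) (Nat.ble 45 c)
noncomputable def col25_s_43_46 (c : Nat) : Nat := @Bool.rec (fun _ => Nat) (col25_43) (col25_s_44_46 c) (Nat.ble 44 c)
noncomputable def col25_s_40_46 (c : Nat) : Nat := @Bool.rec (fun _ => Nat) (col25_s_40_43 c) (col25_s_43_46 c) (Nat.ble 43 c)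
noncomputable def col25_s_34_46 (c : Nat) : Nat := @Bool.rec (fun _ => Nat) (col25_s_34_40 c) (col25_s_40_46 c) (Nat.ble 40 c)
noncomputable def col25_s_23_46 (c : Nat) : Nat := @Bool.rec (fun _ => Nat) (col25_s_23_34 c) (col25_s_34_46 c) (Nat.ble 34 c)
noncomputable def col25_s_0_46 (c : Nat) : Nat := @Bool.rec (fun _ => Nat) (col25_s_0_23 c) (col25_s_23_46 c) (Nat.ble 23 c)
noncomputable def col25 (i : Nat) : Nat := rdw 18 262143 (col25_s_0_46 (Nat.shiftRight i 12)) (Nat.land i 4095)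
noncomputable def tblF (i x : Nat) : Nat := @Bool.rec (fun _ => Nat) (@Bool.rec (fun _ => Nat) (@Bool.rec (fun _ => Nat) (@Bool.rec (fun _ => Nat) (col0 i) (@Bool.rec (fun _ => Nat) (col1 i) (col2 i) (Nat.ble 2 x)) (Nat.ble 1 x)) (@Bool.rec (fun _ => Nat) (col3 i) (@Bool.rec (fun _ => Nat) (col4 i) (col5 i) (Nat.ble 5 x)) (Nat.ble 4 x)) (Nat.ble 3 x)) (@Bool.rec (fun _ => Nat) (@Bool.rec (fun _ => Nat) (col6 i) (@Bool.rec (fun _ => Nat) (col7 i) (col8 i) (Nat.ble 8 x)) (Nat.ble 7 x)) (@Bool.rec (fun _ => Nat) (@Bool.rec (fun _ => Nat) (col9 i) (col10 i) (Nat.ble 10 x)) (@Bool.rec (fun _ => Nat) (col11 i) (col12 i) (Nat.ble 12 x)) (Nat.ble 11 x)) (Nat.ble 9 x)) (Nat.ble 6 x)) (@Bool.rec (fun _ => Nat) (@Bool.rec (fun _ => Nat) (@Bool.rec (fun _ => Nat) (col13 i) (@Bool.rec (fun _ => Nat) (col14 i) (col15 i) (Nat.ble 15 x)) (Nat.ble 14 x)) (@Bool.rec (fun _ => Nat) (col16 i) (@Bool.rec (fun _ => Nat) (col17 i) (col18 i) (Nat.ble 18 x)) (Nat.ble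 17 x)) (Nat.ble 16 x)) (@Bool.rec (fun _ => Nat) (@Bool.rec (fun _ => Nat) (col19 i) (@Bool.rec (fun _ => Nat) (col20 i) (col21 i) (Nat.ble 21 x)) (Nat.ble 20 x)) (@Bool.rec (fun _ => Nat) (@Bool.rec (fun _ => Nat) (col22 i) (col23 i) (Nat.ble 23 x)) (@Bool.rec (fun _ => Nat) (col24 i) (col25 i) (Nat.ble 25 x)) (Nat.ble 24 x)) (Nat.ble 22 x)) (Nat.ble 19 x)) (Nat.ble 13 x)

noncomputable def D : Log :=
  { k := 26, inv := PC3Fi22y.invR, nR := 0, rBase := fun _ => 0, rLen := fun _ => 0, RR := fun _ => 0,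
    M := 0, nB := 0, F := 0, src := fun _ => 0, lt := fun _ => 0, tgt := fun _ => 0, rho := fun _ => 0, rot := fun _ => 0,
    off := fun _ => 0, len := fun _ => 0, pf := fun _ => 0, pd := fun _ => 0 }

noncomputable def T : Tab :=
  { N := 185328, nameOf := fun _ => 0, tbl := tblF, finF := fun _ _ => 0, finD := fun _ _ => 0, cls := fun _ => 0 }

def rw0 : List Nat := [0, 0]
def rw1 : List Nat := [0, 2, 0, 2, 0, 2]
def rw2 : List Nat := [0, 4, 0, 4]
def rw3 : List Nat := [0, 6, 0, 6]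
def rw4 : List Nat := [0, 8, 0, 8]
def rw5 : List Nat := [0, 14, 0, 14]
def rw6 : List Nat := [0, 10, 0, 10]
def rw7 : List Nat := [0, 12, 0, 12]
def rw8 : List Nat := [0, 16, 0, 16]
def rw9 : List Nat := [2, 2]
def rw10 : List Nat := [2, 4, 2, 4, 2, 4]
def rw11 : List Nat := [2, 6, 2, 6]
def rw12 : List Nat := [2, 8, 2, 8]
def rw13 : List Nat := [2, 14, 2, 14]
def rw14 : List Nat := [2, 10, 2, 10]
def rw15 : List Nat := [2, 12, 2, 12]
def rw16 : List Nat := [2, 16, 2, 16]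
def rw17 : List Nat := [4, 4]
def rw18 : List Nat := [4, 6, 4, 6, 4, 6]
def rw19 : List Nat := [4, 8, 4, 8]
def rw20 : List Nat := [4, 14, 4, 14]
def rw21 : List Nat := [4, 10, 4, 10]
def rw22 : List Nat := [4, 12, 4, 12]
def rw23 : List Nat := [4, 16, 4, 16]
def rw24 : List Nat := [6, 6]
def rw25 : List Nat := [6, 8, 6, 8, 6, 8]
def rw26 : List Nat := [6, 14, 6, 14, 6, 14]
def rw27 : List Nat := [6, 10, 6, 10]
def rw28 : List Nat := [6, 12, 6, 12]
def rw29 : List Nat := [6, 16, 6, 16]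
def rw30 : List Nat := [8, 8]
def rw31 : List Nat := [8, 14, 8, 14]
def rw32 : List Nat := [8, 10, 8, 10, 8, 10]
def rw33 : List Nat := [8, 12, 8, 12]
def rw34 : List Nat := [8, 16, 8, 16]
def rw35 : List Nat := [14, 14]
def rw36 : List Nat := [14, 10, 14, 10]
def rw37 : List Nat := [14, 12, 14, 12]
def rw38 : List Nat := [14, 16, 14, 16, 14, 16]
def rw39 : List Nat := [10, 10]
def rw40 : List Nat := [10, 12, 10, 12, 10, 12]
def rw41 : List Nat := [10, 16, 10, 16]
def rw42 : List Nat := [12, 12]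
def rw43 : List Nat := [12, 16, 12, 16]
def rw44 : List Nat := [16, 16]
def rw45 : List Nat := [6, 4, 2, 6, 8, 10, 6, 14, 16, 6, 4, 2, 6, 8, 10, 6, 14, 16, 6, 4, 2, 6, 8, 10, 6, 14, 16, 6, 4, 2, 6, 8, 10, 6, 14, 16, 6, 4, 2, 6, 8, 10, 6, 14, 16, 6, 4, 2, 6, 8, 10, 6, 14, 16, 6, 4, 2, 6, 8, 10, 6, 14, 16, 6, 4, 2, 6, 8, 10, 6, 14, 16, 6, 4, 2, 6, 8, 10, 6, 14, 16, 6, 4, 2, 6, 8, 10, 6, 14, 16, 25]
def rw46 : List Nat := [0, 2, 4, 6, 8, 10, 14, 0, 2, 4, 6, 8, 10, 14, 0, 2, 4, 6, 8, 10, 14, 0, 2, 4, 6, 8, 10, 14, 0, 2, 4, 6, 8, 10, 14, 0, 2, 4, 6, 8, 10, 14, 0, 2, 4, 6, 8, 10, 14, 0, 2, 4, 6, 8, 10, 14, 0, 2, 4, 6, 8, 10, 14]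
def rw47 : List Nat := [2, 4, 6, 8, 10, 12, 14, 2, 4, 6, 8, 10, 12, 14, 2, 4, 6, 8, 10, 12, 14, 2, 4, 6, 8, 10, 12, 14, 2, 4, 6, 8, 10, 12, 14, 2, 4, 6, 8, 10, 12, 14, 2, 4, 6, 8, 10, 12, 14, 2, 4, 6, 8, 10, 12, 14, 2, 4, 6, 8, 10, 12, 14]
def rw48 : List Nat := [19, 8, 6, 14, 16, 14, 8, 10, 6, 8, 4, 6, 14, 12, 10, 8, 6, 4, 2, 4, 6, 8, 10, 12, 14, 6, 4, 8, 6, 10, 8, 14, 16, 14, 6, 8, 6, 8, 4, 6, 14, 16, 10, 8, 6, 14, 12, 10, 8, 6, 2, 4, 2, 4, 2, 6, 8, 10, 12, 14, 6, 8, 10, 16, 14, 6, 4, 8, 6, 2, 4, 6, 14, 16, 8, 6, 14, 12, 10, 8, 6, 2, 4, 2, 4, 2, 6, 8, 10, 12, 14, 6, 8, 16, 14, 6, 4, 2, 16, 14, 6, 2, 4, 2, 4, 2, 6, 14, 16, 10, 8, 4, 6, 14, 16, 8, 4, 6, 14, 10, 8, 6, 4, 2, 4, 6, 8, 10, 14, 6, 4, 8, 16, 14, 6, 4, 8, 10, 12, 10, 8, 4, 6, 2, 4, 2, 4, 2, 6, 4, 8, 10, 12, 24, 24]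
def rw49 : List Nat := [21, 10, 6, 8, 4, 6, 14, 16, 6, 8, 4, 6, 14, 12, 10, 8, 6, 4, 2, 4, 6, 8, 10, 12, 14, 6, 4, 8, 6, 16, 14, 6, 4, 8, 6, 10, 8, 6, 14, 16, 8, 4, 6, 14, 12, 10, 8, 6, 4, 2, 4, 6, 8, 10, 12, 14, 6, 4, 8, 16, 14, 6, 8, 14, 6, 8, 4, 6, 14, 10, 8, 6, 4, 2, 4, 6, 8, 10, 14, 6, 4, 8, 6, 14, 16, 4, 6, 14, 10, 8, 6, 4, 2, 4, 6, 8, 10, 14, 6, 4, 16, 14, 12, 10, 8, 6, 2, 4, 2, 4, 2, 6, 8, 10, 12, 14]
def rw50 : List Nat := [23, 14, 12, 10, 6, 8, 4, 6, 14, 16, 10, 8, 4, 6, 14, 12, 10, 8, 6, 4, 2, 4, 6, 8, 10, 12, 14, 6, 4, 8, 10, 16, 14, 6, 4, 8, 6, 10, 12, 14, 16, 14, 8, 10, 6, 8, 4, 6, 14, 12, 10, 8, 6, 4, 2, 4, 6, 8, 10, 12, 14, 6, 4, 8, 6, 10, 8, 14, 16, 14, 6, 4, 2, 4, 6, 14, 8, 6, 4, 2, 4, 6, 8, 14, 16, 8, 4, 6, 14, 12, 10, 8, 6, 4, 2, 4, 6, 8, 10, 12, 14, 6, 4, 8, 16, 14, 2, 4, 2, 4, 2, 24]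
def rw51 : List Nat := [18, 18, 18, 18, 18, 18, 18]
def rw52 : List Nat := [18, 18, 20, 19, 20, 18, 21, 18, 20, 19, 20]
def rw53 : List Nat := [18, 18, 18, 20, 18, 18, 18, 20, 18, 18, 18, 20]
def rw54 : List Nat := [18, 18, 20, 20, 18, 18, 21, 21, 18, 18, 21, 21]
def rw55 : List Nat := [22, 22, 22]
def rw56 : List Nat := [18, 18, 22, 19, 19, 21, 22, 20]
def rw57 : List Nat := [18, 20, 22, 18, 20, 22, 18, 20, 22]
def rw58 : List Nat := [18, 20, 20, 19, 22, 18, 21, 21, 19, 22]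
def rw59 : List Nat := [18, 22, 19, 22, 19, 20, 22, 21, 18, 23]
def rw60 : List Nat := [18, 18, 21, 18, 22, 19, 20, 19, 19, 20, 18, 23, 19, 21, 25]
def rw61 : List Nat := [18, 2, 19, 2, 18, 2, 19, 2]
def rw62 : List Nat := [20, 2, 21, 2, 20, 2, 21, 2]
def rw63 : List Nat := [18, 18, 20, 18, 2, 19, 21, 19, 19, 2]
def rw64 : List Nat := [18, 21, 23, 20, 2, 21, 22, 20, 19, 2]
def rw65 : List Nat := [18, 21, 22, 22, 20, 2, 21, 22, 20, 19, 2]
def rw66 : List Nat := [18, 18, 18, 22, 19, 19, 2, 21, 22, 20, 19, 2]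
def rw67 : List Nat := [18, 18, 20, 18, 2, 19, 20, 20, 20, 19, 19, 2]
def rw68 : List Nat := [18, 20, 2, 20, 19, 23, 18, 20, 2, 20, 19, 23]
def rw69 : List Nat := [18, 20, 2, 21, 19, 22, 18, 21, 2, 20, 19, 23]
def rw70 : List Nat := [18, 20, 2, 21, 19, 22, 18, 21, 2, 20, 19, 22, 22]
def rw71 : List Nat := [18, 18, 22, 19, 20, 19, 2, 18, 21, 19, 21, 22, 20, 2]
def rw72 : List Nat := [18, 20, 20, 18, 23, 18, 2, 19, 22, 19, 20, 20, 19, 2]
def rw73 : List Nat := [18, 20, 19, 23, 18, 2, 19, 22, 18, 21, 19, 21, 2, 20]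
def rw74 : List Nat := [18, 18, 21, 18, 2, 19, 20, 19, 19, 22, 21, 2, 20, 23]
def rw75 : List Nat := [18, 18, 20, 20, 2, 20, 20, 19, 19, 22, 20, 2, 21, 23]
def rw76 : List Nat := [18, 22, 20, 2, 21, 23, 19, 20, 23, 19, 2, 18, 22, 21]
def rw77 : List Nat := [18, 21, 21, 18, 23, 2, 22, 19, 20, 20, 19, 23, 2, 22]
def rw78 : List Nat := [18, 18, 21, 18, 22, 19, 2, 20, 19, 19, 20, 18, 23, 2, 19, 21, 25]
def rw79 : List Nat := [18, 18, 21, 18, 20, 18, 21, 2, 22, 2, 22, 2, 21, 18, 20, 22, 19, 22, 25, 25]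
def rw80 : List Nat := [24, 24, 24]
def rw81 : List Nat := [25, 19, 24, 18]
def rw82 : List Nat := [25, 21, 24, 20]
def rw83 : List Nat := [25, 23, 24, 22]
def rw84 : List Nat := [25, 3, 24, 2]
def rw85 : List Nat := [25, 1, 24, 0]
def rw86 : List Nat := [25, 5, 24, 4]
def rw87 : List Nat := [25, 7, 24, 6]
def rw88 : List Nat := [25, 9, 24, 8]
def rw89 : List Nat := [25, 11, 24, 10]
def rw90 : List Nat := [25, 13, 24, 12]
def rw91 : List Nat := [25, 15, 24, 14]
def rw92 : List Nat := [25, 17, 24, 16]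
def realLit : List (List Nat) := [rw0, rw1, rw2, rw3, rw4, rw5, rw6, rw7, rw8, rw9, rw10, rw11, rw12, rw13, rw14, rw15, rw16, rw17, rw18, rw19, rw20, rw21, rw22, rw23, rw24, rw25, rw26, rw27, rw28, rw29, rw30, rw31, rw32, rw33, rw34, rw35, rw36, rw37, rw38, rw39, rw40, rw41, rw42, rw43, rw44, rw45, rw46, rw47, rw48, rw49, rw50, rw51, rw52, rw53, rw54, rw55, rw56, rw57, rw58, rw59, rw60, rw61, rw62, rw63, rw64, rw65, rw66, rw67, rw68, rw69, rw70, rw71, rw72, rw73, rw74, rw75, rw76, rw77, rw78, rw79, rw80, rw81, rw82, rw83, rw84, rw85, rw86, rw87, rw88, rw89, rw90, rw91, rw92]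
noncomputable def actR0 (i : Nat) : Nat := col1 (col1 (i))
theorem actR0_eq (i : Nat) : actR0 i = Tab.act T D rw0 i := rfl
noncomputable def actR1 (i : Nat) : Nat := col1 (col3 (col1 (col3 (col1 (col3 (i))))))
theorem actR1_eq (i : Nat) : actR1 i = Tab.act T D rw1 i := rfl
noncomputable def actR2 (i : Nat) : Nat := col1 (col5 (col1 (col5 (i))))
theorem actR2_eq (i : Nat) : actR2 i = Tab.act T D rw2 i := rfl
noncomputable def actR3 (i : Nat) : Nat := col1 (col7 (col1 (col7 (i))))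
theorem actR3_eq (i : Nat) : actR3 i = Tab.act T D rw3 i := rfl
noncomputable def actR4 (i : Nat) : Nat := col1 (col9 (col1 (col9 (i))))
theorem actR4_eq (i : Nat) : actR4 i = Tab.act T D rw4 i := rfl
noncomputable def actR5 (i : Nat) : Nat := col1 (col15 (col1 (col15 (i))))
theorem actR5_eq (i : Nat) : actR5 i = Tab.act T D rw5 i := rfl
noncomputable def actR6 (i : Nat) : Nat := col1 (col11 (col1 (col11 (i))))
theorem actR6_eq (i : Nat) : actR6 i = Tab.act T D rw6 i := rfl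
noncomputable def actR7 (i : Nat) : Nat := col1 (col13 (col1 (col13 (i))))
theorem actR7_eq (i : Nat) : actR7 i = Tab.act T D rw7 i := rfl
noncomputable def actR8 (i : Nat) : Nat := col1 (col17 (col1 (col17 (i))))
theorem actR8_eq (i : Nat) : actR8 i = Tab.act T D rw8 i := rfl
noncomputable def actR9 (i : Nat) : Nat := col3 (col3 (i))
theorem actR9_eq (i : Nat) : actR9 i = Tab.act T D rw9 i := rfl
noncomputable def actR10 (i : Nat) : Nat := col3 (col5 (col3 (col5 (col3 (col5 (i))))))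
theorem actR10_eq (i : Nat) : actR10 i = Tab.act T D rw10 i := rfl
noncomputable def actR11 (i : Nat) : Nat := col3 (col7 (col3 (col7 (i))))
theorem actR11_eq (i : Nat) : actR11 i = Tab.act T D rw11 i := rfl
noncomputable def actR12 (i : Nat) : Nat := col3 (col9 (col3 (col9 (i))))
theorem actR12_eq (i : Nat) : actR12 i = Tab.act T D rw12 i := rfl
noncomputable def actR13 (i : Nat) : Nat := col3 (col15 (col3 (col15 (i))))
theorem actR13_eq (i : Nat) : actR13 i = Tab.act T D rw13 i := rfl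
noncomputable def actR14 (i : Nat) : Nat := col3 (col11 (col3 (col11 (i))))
theorem actR14_eq (i : Nat) : actR14 i = Tab.act T D rw14 i := rfl
noncomputable def actR15 (i : Nat) : Nat := col3 (col13 (col3 (col13 (i))))
theorem actR15_eq (i : Nat) : actR15 i = Tab.act T D rw15 i := rfl
noncomputable def actR16 (i : Nat) : Nat := col3 (col17 (col3 (col17 (i))))
theorem actR16_eq (i : Nat) : actR16 i = Tab.act T D rw16 i := rfl
noncomputable def actR17 (i : Nat) : Nat := col5 (col5 (i))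
theorem actR17_eq (i : Nat) : actR17 i = Tab.act T D rw17 i := rfl
noncomputable def actR18 (i : Nat) : Nat := col5 (col7 (col5 (col7 (col5 (col7 (i))))))
theorem actR18_eq (i : Nat) : actR18 i = Tab.act T D rw18 i := rfl
noncomputable def actR19 (i : Nat) : Nat := col5 (col9 (col5 (col9 (i))))
theorem actR19_eq (i : Nat) : actR19 i = Tab.act T D rw19 i := rfl
noncomputable def actR20 (i : Nat) : Nat := col5 (col15 (col5 (col15 (i))))
theorem actR20_eq (i : Nat) : actR20 i = Tab.act T D rw20 i := rfl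
noncomputable def actR21 (i : Nat) : Nat := col5 (col11 (col5 (col11 (i))))
theorem actR21_eq (i : Nat) : actR21 i = Tab.act T D rw21 i := rfl
noncomputable def actR22 (i : Nat) : Nat := col5 (col13 (col5 (col13 (i))))
theorem actR22_eq (i : Nat) : actR22 i = Tab.act T D rw22 i := rfl
noncomputable def actR23 (i : Nat) : Nat := col5 (col17 (col5 (col17 (i))))
theorem actR23_eq (i : Nat) : actR23 i = Tab.act T D rw23 i := rfl
noncomputable def actR24 (i : Nat) : Nat := col7 (col7 (i))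
theorem actR24_eq (i : Nat) : actR24 i = Tab.act T D rw24 i := rfl
noncomputable def actR25 (i : Nat) : Nat := col7 (col9 (col7 (col9 (col7 (col9 (i))))))
theorem actR25_eq (i : Nat) : actR25 i = Tab.act T D rw25 i := rfl
noncomputable def actR26 (i : Nat) : Nat := col7 (col15 (col7 (col15 (col7 (col15 (i))))))
theorem actR26_eq (i : Nat) : actR26 i = Tab.act T D rw26 i := rfl
noncomputable def actR27 (i : Nat) : Nat := col7 (col11 (col7 (col11 (i))))
theorem actR27_eq (i : Nat) : actR27 i = Tab.act T D rw27 i := rfl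
noncomputable def actR28 (i : Nat) : Nat := col7 (col13 (col7 (col13 (i))))
theorem actR28_eq (i : Nat) : actR28 i = Tab.act T D rw28 i := rfl
noncomputable def actR29 (i : Nat) : Nat := col7 (col17 (col7 (col17 (i))))
theorem actR29_eq (i : Nat) : actR29 i = Tab.act T D rw29 i := rfl
noncomputable def actR30 (i : Nat) : Nat := col9 (col9 (i))
theorem actR30_eq (i : Nat) : actR30 i = Tab.act T D rw30 i := rfl
noncomputable def actR31 (i : Nat) : Nat := col9 (col15 (col9 (col15 (i))))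
theorem actR31_eq (i : Nat) : actR31 i = Tab.act T D rw31 i := rfl
noncomputable def actR32 (i : Nat) : Nat := col9 (col11 (col9 (col11 (col9 (col11 (i))))))
theorem actR32_eq (i : Nat) : actR32 i = Tab.act T D rw32 i := rfl
noncomputable def actR33 (i : Nat) : Nat := col9 (col13 (col9 (col13 (i))))
theorem actR33_eq (i : Nat) : actR33 i = Tab.act T D rw33 i := rfl
noncomputable def actR34 (i : Nat) : Nat := col9 (col17 (col9 (col17 (i))))
theorem actR34_eq (i : Nat) : actR34 i = Tab.act T D rw34 i := rfl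
noncomputable def actR35 (i : Nat) : Nat := col15 (col15 (i))
theorem actR35_eq (i : Nat) : actR35 i = Tab.act T D rw35 i := rfl
noncomputable def actR36 (i : Nat) : Nat := col15 (col11 (col15 (col11 (i))))
theorem actR36_eq (i : Nat) : actR36 i = Tab.act T D rw36 i := rfl
noncomputable def actR37 (i : Nat) : Nat := col15 (col13 (col15 (col13 (i))))
theorem actR37_eq (i : Nat) : actR37 i = Tab.act T D rw37 i := rfl
noncomputable def actR38 (i : Nat) : Nat := col15 (col17 (col15 (col17 (col15 (col17 (i))))))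
theorem actR38_eq (i : Nat) : actR38 i = Tab.act T D rw38 i := rfl
noncomputable def actR39 (i : Nat) : Nat := col11 (col11 (i))
theorem actR39_eq (i : Nat) : actR39 i = Tab.act T D rw39 i := rfl
noncomputable def actR40 (i : Nat) : Nat := col11 (col13 (col11 (col13 (col11 (col13 (i))))))
theorem actR40_eq (i : Nat) : actR40 i = Tab.act T D rw40 i := rfl
noncomputable def actR41 (i : Nat) : Nat := col11 (col17 (col11 (col17 (i))))
theorem actR41_eq (i : Nat) : actR41 i = Tab.act T D rw41 i := rfl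
noncomputable def actR42 (i : Nat) : Nat := col13 (col13 (i))
theorem actR42_eq (i : Nat) : actR42 i = Tab.act T D rw42 i := rfl
noncomputable def actR43 (i : Nat) : Nat := col13 (col17 (col13 (col17 (i))))
theorem actR43_eq (i : Nat) : actR43 i = Tab.act T D rw43 i := rfl
noncomputable def actR44 (i : Nat) : Nat := col17 (col17 (i))
theorem actR44_eq (i : Nat) : actR44 i = Tab.act T D rw44 i := rfl
noncomputable def actR45 (i : Nat) : Nat := col7 (col5 (col3 (col7 (col9 (col11 (col7 (col15 (col17 (col7 (col5 (col3 (col7 (col9 (col11 (col7 (col15 (col17 (col7 (col5 (col3 (col7 (col9 (col11 (col7 (col15 (col17 (col7 (col5 (col3 (col7 (col9 (col11 (col7 (col15 (col17 (col7 (col5 (col3 (col7 (col9 (col11 (col7 (col15 (col17 (col7 (col5 (col3 (col7 (col9 (col11 (col7 (col15 (col17 (col7 (col5 (col3 (col7 (col9 (col11 (col7 (col15 (col17 (col7 (col5 (col3 (col7 (col9 (col11 (col7 (col15 (col17 (col7 (col5 (col3 (col7 (col9 (col11 (col7 (col15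 (col17 (col7 (col5 (col3 (col7 (col9 (col11 (col7 (col15 (col17 (col24 (i)))))))))))))))))))))))))))))))))))))))))))))))))))))))))))))))))))))))))))))))))))))))))))
theorem actR45_eq (i : Nat) : actR45 i = Tab.act T D rw45 i := rfl
noncomputable def actR46 (i : Nat) : Nat := col1 (col3 (col5 (col7 (col9 (col11 (col15 (col1 (col3 (col5 (col7 (col9 (col11 (col15 (col1 (col3 (col5 (col7 (col9 (col11 (col15 (col1 (col3 (col5 (col7 (col9 (col11 (col15 (col1 (col3 (col5 (col7 (col9 (col11 (col15 (col1 (col3 (col5 (col7 (col9 (col11 (col15 (col1 (col3 (col5 (col7 (col9 (col11 (col15 (col1 (col3 (col5 (col7 (col9 (col11 (col15 (col1 (col3 (col5 (col7 (col9 (col11 (col15 (i)))))))))))))))))))))))))))))))))))))))))))))))))))))))))))))))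
theorem actR46_eq (i : Nat) : actR46 i = Tab.act T D rw46 i := rfl
noncomputable def actR47 (i : Nat) : Nat := col3 (col5 (col7 (col9 (col11 (col13 (col15 (col3 (col5 (col7 (col9 (col11 (col13 (col15 (col3 (col5 (col7 (col9 (col11 (col13 (col15 (col3 (col5 (col7 (col9 (col11 (col13 (col15 (col3 (col5 (col7 (col9 (col11 (col13 (col15 (col3 (col5 (col7 (col9 (col11 (col13 (col15 (col3 (col5 (col7 (col9 (col11 (col13 (col15 (col3 (col5 (col7 (col9 (col11 (col13 (col15 (col3 (col5 (col7 (col9 (col11 (col13 (col15 (i)))))))))))))))))))))))))))))))))))))))))))))))))))))))))))))))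
theorem actR47_eq (i : Nat) : actR47 i = Tab.act T D rw47 i := rfl
noncomputable def actR48 (i : Nat) : Nat := col18 (col9 (col7 (col15 (col17 (col15 (col9 (col11 (col7 (col9 (col5 (col7 (col15 (col13 (col11 (col9 (col7 (col5 (col3 (col5 (col7 (col9 (col11 (col13 (col15 (col7 (col5 (col9 (col7 (col11 (col9 (col15 (col17 (col15 (col7 (col9 (col7 (col9 (col5 (col7 (col15 (col17 (col11 (col9 (col7 (col15 (col13 (col11 (col9 (col7 (col3 (col5 (col3 (col5 (col3 (col7 (col9 (col11 (col13 (col15 (col7 (col9 (col11 (col17 (col15 (col7 (col5 (col9 (col7 (col3 (col5 (col7 (col15 (col17 (col9 (col7 (col15 (col13 (col11 (col9 (col7 (col3 (col5 (col3 (col5 (col3 (col7 (col9 (col11 (col13 (col15 (col7 (col9 (col17 (col15 (col7 (col5 (col3 (col17 (col15 (col7 (col3 (col5 (col3 (col5 (col3 (col7 (col15 (col17 (col11 (col9 (col5 (col7 (col15 (col17 (col9 (col5 (col7 (col15 (col11 (col9 (col7 (col5 (col3 (col5 (col7 (col9 (col11 (col15 (col7 (col5 (col9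 (col17 (col15 (col7 (col5 (col9 (col11 (col13 (col11 (col9 (col5 (col7 (col3 (col5 (col3 (col5 (col3 (col7 (col5 (col9 (col11 (col13 (col25 (col25 (i)))))))))))))))))))))))))))))))))))))))))))))))))))))))))))))))))))))))))))))))))))))))))))))))))))))))))))))))))))))))))))))))))))))))))))))))))))))))))))
theorem actR48_eq (i : Nat) : actR48 i = Tab.act T D rw48 i := rfl
noncomputable def actR49 (i : Nat) : Nat := col20 (col11 (col7 (col9 (col5 (col7 (col15 (col17 (col7 (col9 (col5 (col7 (col15 (col13 (col11 (col9 (col7 (col5 (col3 (col5 (col7 (col9 (col11 (col13 (col15 (col7 (col5 (col9 (col7 (col17 (col15 (col7 (col5 (col9 (col7 (col11 (col9 (col7 (col15 (col17 (col9 (col5 (col7 (col15 (col13 (col11 (col9 (col7 (col5 (col3 (col5 (col7 (col9 (col11 (col13 (col15 (col7 (col5 (col9 (col17 (col15 (col7 (col9 (col15 (col7 (col9 (col5 (col7 (col15 (col11 (col9 (col7 (col5 (col3 (col5 (col7 (col9 (col11 (col15 (col7 (col5 (col9 (col7 (col15 (col17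 (col5 (col7 (col15 (col11 (col9 (col7 (col5 (col3 (col5 (col7 (col9 (col11 (col15 (col7 (col5 (col17 (col15 (col13 (col11 (col9 (col7 (col3 (col5 (col3 (col5 (col3 (col7 (col9 (col11 (col13 (col15 (i))))))))))))))))))))))))))))))))))))))))))))))))))))))))))))))))))))))))))))))))))))))))))))))))))))))))))))))))))))
theorem actR49_eq (i : Nat) : actR49 i = Tab.act T D rw49 i := rfl
noncomputable def actR50 (i : Nat) : Nat := col22 (col15 (col13 (col11 (col7 (col9 (col5 (col7 (col15 (col17 (col11 (col9 (col5 (col7 (col15 (col13 (col11 (col9 (col7 (col5 (col3 (col5 (col7 (col9 (col11 (col13 (col15 (col7 (col5 (col9 (col11 (col17 (col15 (col7 (col5 (col9 (col7 (col11 (col13 (col15 (col17 (col15 (col9 (col11 (col7 (col9 (col5 (col7 (col15 (col13 (col11 (col9 (col7 (col5 (col3 (col5 (col7 (col9 (col11 (col13 (col15 (col7 (col5 (col9 (col7 (col11 (col9 (col15 (col17 (col15 (col7 (col5 (col3 (col5 (col7 (col15 (col9 (col7 (col5 (col3 (col5 (col7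 (col9 (col15 (col17 (col9 (col5 (col7 (col15 (col13 (col11 (col9 (col7 (col5 (col3 (col5 (col7 (col9 (col11 (col13 (col15 (col7 (col5 (col9 (col17 (col15 (col3 (col5 (col3 (col5 (col3 (col25 (i))))))))))))))))))))))))))))))))))))))))))))))))))))))))))))))))))))))))))))))))))))))))))))))))))))))))))))))))
theorem actR50_eq (i : Nat) : actR50 i = Tab.act T D rw50 i := rfl
noncomputable def actR51 (i : Nat) : Nat := col19 (col19 (col19 (col19 (col19 (col19 (col19 (i)))))))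
theorem actR51_eq (i : Nat) : actR51 i = Tab.act T D rw51 i := rfl
noncomputable def actR52 (i : Nat) : Nat := col19 (col19 (col21 (col18 (col21 (col19 (col20 (col19 (col21 (col18 (col21 (i)))))))))))
theorem actR52_eq (i : Nat) : actR52 i = Tab.act T D rw52 i := rfl
noncomputable def actR53 (i : Nat) : Nat := col19 (col19 (col19 (col21 (col19 (col19 (col19 (col21 (col19 (col19 (col19 (col21 (i))))))))))))
theorem actR53_eq (i : Nat) : actR53 i = Tab.act T D rw53 i := rfl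
noncomputable def actR54 (i : Nat) : Nat := col19 (col19 (col21 (col21 (col19 (col19 (col20 (col20 (col19 (col19 (col20 (col20 (i))))))))))))
theorem actR54_eq (i : Nat) : actR54 i = Tab.act T D rw54 i := rfl
noncomputable def actR55 (i : Nat) : Nat := col23 (col23 (col23 (i)))
theorem actR55_eq (i : Nat) : actR55 i = Tab.act T D rw55 i := rfl
noncomputable def actR56 (i : Nat) : Nat := col19 (col19 (col23 (col18 (col18 (col20 (col23 (col21 (i))))))))
theorem actR56_eq (i : Nat) : actR56 i = Tab.act T D rw56 i := rfl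
noncomputable def actR57 (i : Nat) : Nat := col19 (col21 (col23 (col19 (col21 (col23 (col19 (col21 (col23 (i)))))))))
theorem actR57_eq (i : Nat) : actR57 i = Tab.act T D rw57 i := rfl
noncomputable def actR58 (i : Nat) : Nat := col19 (col21 (col21 (col18 (col23 (col19 (col20 (col20 (col18 (col23 (i))))))))))
theorem actR58_eq (i : Nat) : actR58 i = Tab.act T D rw58 i := rfl
noncomputable def actR59 (i : Nat) : Nat := col19 (col23 (col18 (col23 (col18 (col21 (col23 (col20 (col19 (col22 (i))))))))))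
theorem actR59_eq (i : Nat) : actR59 i = Tab.act T D rw59 i := rfl
noncomputable def actR60 (i : Nat) : Nat := col19 (col19 (col20 (col19 (col23 (col18 (col21 (col18 (col18 (col21 (col19 (col22 (col18 (col20 (col24 (i)))))))))))))))
theorem actR60_eq (i : Nat) : actR60 i = Tab.act T D rw60 i := rfl
noncomputable def actR61 (i : Nat) : Nat := col19 (col3 (col18 (col3 (col19 (col3 (col18 (col3 (i))))))))
theorem actR61_eq (i : Nat) : actR61 i = Tab.act T D rw61 i := rfl
noncomputable def actR62 (i : Nat) : Nat := col21 (col3 (col20 (col3 (col21 (col3 (col20 (col3 (i))))))))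
theorem actR62_eq (i : Nat) : actR62 i = Tab.act T D rw62 i := rfl
noncomputable def actR63 (i : Nat) : Nat := col19 (col19 (col21 (col19 (col3 (col18 (col20 (col18 (col18 (col3 (i))))))))))
theorem actR63_eq (i : Nat) : actR63 i = Tab.act T D rw63 i := rfl
noncomputable def actR64 (i : Nat) : Nat := col19 (col20 (col22 (col21 (col3 (col20 (col23 (col21 (col18 (col3 (i))))))))))
theorem actR64_eq (i : Nat) : actR64 i = Tab.act T D rw64 i := rfl
noncomputable def actR65 (i : Nat) : Nat := col19 (col20 (col23 (col23 (col21 (col3 (col20 (col23 (col21 (col18 (col3 (i)))))))))))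
theorem actR65_eq (i : Nat) : actR65 i = Tab.act T D rw65 i := rfl
noncomputable def actR66 (i : Nat) : Nat := col19 (col19 (col19 (col23 (col18 (col18 (col3 (col20 (col23 (col21 (col18 (col3 (i))))))))))))
theorem actR66_eq (i : Nat) : actR66 i = Tab.act T D rw66 i := rfl
noncomputable def actR67 (i : Nat) : Nat := col19 (col19 (col21 (col19 (col3 (col18 (col21 (col21 (col21 (col18 (col18 (col3 (i))))))))))))
theorem actR67_eq (i : Nat) : actR67 i = Tab.act T D rw67 i := rfl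
noncomputable def actR68 (i : Nat) : Nat := col19 (col21 (col3 (col21 (col18 (col22 (col19 (col21 (col3 (col21 (col18 (col22 (i))))))))))))
theorem actR68_eq (i : Nat) : actR68 i = Tab.act T D rw68 i := rfl
noncomputable def actR69 (i : Nat) : Nat := col19 (col21 (col3 (col20 (col18 (col23 (col19 (col20 (col3 (col21 (col18 (col22 (i))))))))))))
theorem actR69_eq (i : Nat) : actR69 i = Tab.act T D rw69 i := rfl
noncomputable def actR70 (i : Nat) : Nat := col19 (col21 (col3 (col20 (col18 (col23 (col19 (col20 (col3 (col21 (col18 (col23 (col23 (i)))))))))))))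
theorem actR70_eq (i : Nat) : actR70 i = Tab.act T D rw70 i := rfl
noncomputable def actR71 (i : Nat) : Nat := col19 (col19 (col23 (col18 (col21 (col18 (col3 (col19 (col20 (col18 (col20 (col23 (col21 (col3 (i))))))))))))))
theorem actR71_eq (i : Nat) : actR71 i = Tab.act T D rw71 i := rfl
noncomputable def actR72 (i : Nat) : Nat := col19 (col21 (col21 (col19 (col22 (col19 (col3 (col18 (col23 (col18 (col21 (col21 (col18 (col3 (i))))))))))))))
theorem actR72_eq (i : Nat) : actR72 i = Tab.act T D rw72 i := rfl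
noncomputable def actR73 (i : Nat) : Nat := col19 (col21 (col18 (col22 (col19 (col3 (col18 (col23 (col19 (col20 (col18 (col20 (col3 (col21 (i))))))))))))))
theorem actR73_eq (i : Nat) : actR73 i = Tab.act T D rw73 i := rfl
noncomputable def actR74 (i : Nat) : Nat := col19 (col19 (col20 (col19 (col3 (col18 (col21 (col18 (col18 (col23 (col20 (col3 (col21 (col22 (i))))))))))))))
theorem actR74_eq (i : Nat) : actR74 i = Tab.act T D rw74 i := rfl
noncomputable def actR75 (i : Nat) : Nat := col19 (col19 (col21 (col21 (col3 (col21 (col21 (col18 (col18 (col23 (col21 (col3 (col20 (col22 (i))))))))))))))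
theorem actR75_eq (i : Nat) : actR75 i = Tab.act T D rw75 i := rfl
noncomputable def actR76 (i : Nat) : Nat := col19 (col23 (col21 (col3 (col20 (col22 (col18 (col21 (col22 (col18 (col3 (col19 (col23 (col20 (i))))))))))))))
theorem actR76_eq (i : Nat) : actR76 i = Tab.act T D rw76 i := rfl
noncomputable def actR77 (i : Nat) : Nat := col19 (col20 (col20 (col19 (col22 (col3 (col23 (col18 (col21 (col21 (col18 (col22 (col3 (col23 (i))))))))))))))
theorem actR77_eq (i : Nat) : actR77 i = Tab.act T D rw77 i := rfl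
noncomputable def actR78 (i : Nat) : Nat := col19 (col19 (col20 (col19 (col23 (col18 (col3 (col21 (col18 (col18 (col21 (col19 (col22 (col3 (col18 (col20 (col24 (i)))))))))))))))))
theorem actR78_eq (i : Nat) : actR78 i = Tab.act T D rw78 i := rfl
noncomputable def actR79 (i : Nat) : Nat := col19 (col19 (col20 (col19 (col21 (col19 (col20 (col3 (col23 (col3 (col23 (col3 (col20 (col19 (col21 (col23 (col18 (col23 (col24 (col24 (i))))))))))))))))))))
theorem actR79_eq (i : Nat) : actR79 i = Tab.act T D rw79 i := rfl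
noncomputable def actR80 (i : Nat) : Nat := col25 (col25 (col25 (i)))
theorem actR80_eq (i : Nat) : actR80 i = Tab.act T D rw80 i := rfl
noncomputable def actR81 (i : Nat) : Nat := col24 (col18 (col25 (col19 (i))))
theorem actR81_eq (i : Nat) : actR81 i = Tab.act T D rw81 i := rfl
noncomputable def actR82 (i : Nat) : Nat := col24 (col20 (col25 (col21 (i))))
theorem actR82_eq (i : Nat) : actR82 i = Tab.act T D rw82 i := rfl
noncomputable def actR83 (i : Nat) : Nat := col24 (col22 (col25 (col23 (i))))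
theorem actR83_eq (i : Nat) : actR83 i = Tab.act T D rw83 i := rfl
noncomputable def actR84 (i : Nat) : Nat := col24 (col2 (col25 (col3 (i))))
theorem actR84_eq (i : Nat) : actR84 i = Tab.act T D rw84 i := rfl
noncomputable def actR85 (i : Nat) : Nat := col24 (col0 (col25 (col1 (i))))
theorem actR85_eq (i : Nat) : actR85 i = Tab.act T D rw85 i := rfl
noncomputable def actR86 (i : Nat) : Nat := col24 (col4 (col25 (col5 (i))))
theorem actR86_eq (i : Nat) : actR86 i = Tab.act T D rw86 i := rfl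
noncomputable def actR87 (i : Nat) : Nat := col24 (col6 (col25 (col7 (i))))
theorem actR87_eq (i : Nat) : actR87 i = Tab.act T D rw87 i := rfl
noncomputable def actR88 (i : Nat) : Nat := col24 (col8 (col25 (col9 (i))))
theorem actR88_eq (i : Nat) : actR88 i = Tab.act T D rw88 i := rfl
noncomputable def actR89 (i : Nat) : Nat := col24 (col10 (col25 (col11 (i))))
theorem actR89_eq (i : Nat) : actR89 i = Tab.act T D rw89 i := rfl
noncomputable def actR90 (i : Nat) : Nat := col24 (col12 (col25 (col13 (i))))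
theorem actR90_eq (i : Nat) : actR90 i = Tab.act T D rw90 i := rfl
noncomputable def actR91 (i : Nat) : Nat := col24 (col14 (col25 (col15 (i))))
theorem actR91_eq (i : Nat) : actR91 i = Tab.act T D rw91 i := rfl
noncomputable def actR92 (i : Nat) : Nat := col24 (col16 (col25 (col17 (i))))
theorem actR92_eq (i : Nat) : actR92 i = Tab.act T D rw92 i := rfl

end Cfsg.Agent.Lib.Helper4.TCD.C3Fi22yR
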