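import Cfsg.Agent.Lib.Helper4.TCD_C3Fi22yR_Acc

namespace Cfsg.Agent.Lib.Helper4.TCD.C3Fi22yR

open Cfsg.Agent.Lib.Helper4.TC

set_option maxRecDepth 100000
set_option Elab.async false

theorem c_let : allBelow D.letOK 26 = true := by decide +kernel
theorem c_real : PC3Fi22y.P.real = realLit := by decide +kernel
theorem c_perm_0 : allGrid (T.permOK1 D) 0 1153 26 = true := by decide +kernel
theorem c_perm_1 : allGrid (T.permOK1 D) 1153 1153 26 = true := by decide +kernel
theorem c_perm_2 : allGrid (T.permOK1 D) 2306 1153 26 = true := by decide +kernel
theorem c_perm_3 : allGrid (T.permOK1 D) 3459 1153 26 = true := by decide +kernel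
theorem c_perm_4 : allGrid (T.permOK1 D) 4612 1153 26 = true := by decide +kernel
theorem c_perm_5 : allGrid (T.permOK1 D) 5765 1153 26 = true := by decide +kernel
theorem c_perm_6 : allGrid (T.permOK1 D) 6918 1153 26 = true := by decide +kernel
theorem c_perm_7 : allGrid (T.permOK1 D) 8071 1153 26 = true := by decide +kernel
theorem c_perm_8 : allGrid (T.permOK1 D) 9224 1153 26 = true := by decide +kernel
theorem c_perm_9 : allGrid (T.permOK1 D) 10377 1153 26 = true := by decide +kernel
theorem c_perm_10 : allGrid (T.permOK1 D) 11530 1153 26 = true := by decide +kernel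
theorem c_perm_11 : allGrid (T.permOK1 D) 12683 1153 26 = true := by decide +kernel
theorem c_perm_12 : allGrid (T.permOK1 D) 13836 1153 26 = true := by decide +kernel
theorem c_perm_13 : allGrid (T.permOK1 D) 14989 1153 26 = true := by decide +kernel
theorem c_perm_14 : allGrid (T.permOK1 D) 16142 1153 26 = true := by decide +kernel
theorem c_perm_15 : allGrid (T.permOK1 D) 17295 1153 26 = true := by decide +kernel
theorem c_perm_16 : allGrid (T.permOK1 D) 18448 1153 26 = true := by decide +kernel
theorem c_perm_17 : allGrid (T.permOK1 D) 19601 1153 26 = true := by decide +kernel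
theorem c_perm_18 : allGrid (T.permOK1 D) 20754 1153 26 = true := by decide +kernel
theorem c_perm_19 : allGrid (T.permOK1 D) 21907 1153 26 = true := by decide +kernel
theorem c_perm_20 : allGrid (T.permOK1 D) 23060 1153 26 = true := by decide +kernel
theorem c_perm_21 : allGrid (T.permOK1 D) 24213 1153 26 = true := by decide +kernel
theorem c_perm_22 : allGrid (T.permOK1 D) 25366 1153 26 = true := by decide +kernel
theorem c_perm_23 : allGrid (T.permOK1 D) 26519 1153 26 = true := by decide +kernel
theorem c_perm_24 : allGrid (T.permOK1 D) 27672 1153 26 = true := by decide +kernel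
theorem c_perm_25 : allGrid (T.permOK1 D) 28825 1153 26 = true := by decide +kernel
theorem c_perm_26 : allGrid (T.permOK1 D) 29978 1153 26 = true := by decide +kernel
theorem c_perm_27 : allGrid (T.permOK1 D) 31131 1153 26 = true := by decide +kernel
theorem c_perm_28 : allGrid (T.permOK1 D) 32284 1153 26 = true := by decide +kernel
theorem c_perm_29 : allGrid (T.permOK1 D) 33437 1153 26 = true := by decide +kernel
theorem c_perm_30 : allGrid (T.permOK1 D) 34590 1153 26 = true := by decide +kernel
theorem c_perm_31 : allGrid (T.permOK1 D) 35743 1153 26 = true := by decide +kernel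
theorem c_perm_32 : allGrid (T.permOK1 D) 36896 1153 26 = true := by decide +kernel
theorem c_perm_33 : allGrid (T.permOK1 D) 38049 1153 26 = true := by decide +kernel
theorem c_perm_34 : allGrid (T.permOK1 D) 39202 1153 26 = true := by decide +kernel
theorem c_perm_35 : allGrid (T.permOK1 D) 40355 1153 26 = true := by decide +kernel
theorem c_perm_36 : allGrid (T.permOK1 D) 41508 1153 26 = true := by decide +kernel
theorem c_perm_37 : allGrid (T.permOK1 D) 42661 1153 26 = true := by decide +kernel
theorem c_perm_38 : allGrid (T.permOK1 D) 43814 1153 26 = true := by decide +kernel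
theorem c_perm_39 : allGrid (T.permOK1 D) 44967 1153 26 = true := by decide +kernel
theorem c_perm_40 : allGrid (T.permOK1 D) 46120 1153 26 = true := by decide +kernel
theorem c_perm_41 : allGrid (T.permOK1 D) 47273 1153 26 = true := by decide +kernel
theorem c_perm_42 : allGrid (T.permOK1 D) 48426 1153 26 = true := by decide +kernel
theorem c_perm_43 : allGrid (T.permOK1 D) 49579 1153 26 = true := by decide +kernel
theorem c_perm_44 : allGrid (T.permOK1 D) 50732 1153 26 = true := by decide +kernel
theorem c_perm_45 : allGrid (T.permOK1 D) 51885 1153 26 = true := by decide +kernel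
theorem c_perm_46 : allGrid (T.permOK1 D) 53038 1153 26 = true := by decide +kernel
theorem c_perm_47 : allGrid (T.permOK1 D) 54191 1153 26 = true := by decide +kernel
theorem c_perm_48 : allGrid (T.permOK1 D) 55344 1153 26 = true := by decide +kernel
theorem c_perm_49 : allGrid (T.permOK1 D) 56497 1153 26 = true := by decide +kernel
theorem c_perm_50 : allGrid (T.permOK1 D) 57650 1153 26 = true := by decide +kernel
theorem c_perm_51 : allGrid (T.permOK1 D) 58803 1153 26 = true := by decide +kernel
theorem c_perm_52 : allGrid (T.permOK1 D) 59956 1153 26 = true := by decide +kernel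
theorem c_perm_53 : allGrid (T.permOK1 D) 61109 1153 26 = true := by decide +kernel
theorem c_perm_54 : allGrid (T.permOK1 D) 62262 1153 26 = true := by decide +kernel
theorem c_perm_55 : allGrid (T.permOK1 D) 63415 1153 26 = true := by decide +kernel
theorem c_perm_56 : allGrid (T.permOK1 D) 64568 1153 26 = true := by decide +kernel
theorem c_perm_57 : allGrid (T.permOK1 D) 65721 1153 26 = true := by decide +kernel
theorem c_perm_58 : allGrid (T.permOK1 D) 66874 1153 26 = true := by decide +kernel
theorem c_perm_59 : allGrid (T.permOK1 D) 68027 1153 26 = true := by decide +kernel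
theorem c_perm_60 : allGrid (T.permOK1 D) 69180 1153 26 = true := by decide +kernel
theorem c_perm_61 : allGrid (T.permOK1 D) 70333 1153 26 = true := by decide +kernel
theorem c_perm_62 : allGrid (T.permOK1 D) 71486 1153 26 = true := by decide +kernel
theorem c_perm_63 : allGrid (T.permOK1 D) 72639 1153 26 = true := by decide +kernel
theorem c_perm_64 : allGrid (T.permOK1 D) 73792 1153 26 = true := by decide +kernel
theorem c_perm_65 : allGrid (T.permOK1 D) 74945 1153 26 = true := by decide +kernel
theorem c_perm_66 : allGrid (T.permOK1 D) 76098 1153 26 = true := by decide +kernel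
theorem c_perm_67 : allGrid (T.permOK1 D) 77251 1153 26 = true := by decide +kernel
theorem c_perm_68 : allGrid (T.permOK1 D) 78404 1153 26 = true := by decide +kernel
theorem c_perm_69 : allGrid (T.permOK1 D) 79557 1153 26 = true := by decide +kernel
theorem c_perm_70 : allGrid (T.permOK1 D) 80710 1153 26 = true := by decide +kernel
theorem c_perm_71 : allGrid (T.permOK1 D) 81863 1153 26 = true := by decide +kernel
theorem c_perm_72 : allGrid (T.permOK1 D) 83016 1153 26 = true := by decide +kernel
theorem c_perm_73 : allGrid (T.permOK1 D) 84169 1153 26 = true := by decide +kernel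
theorem c_perm_74 : allGrid (T.permOK1 D) 85322 1153 26 = true := by decide +kernel
theorem c_perm_75 : allGrid (T.permOK1 D) 86475 1153 26 = true := by decide +kernel
theorem c_perm_76 : allGrid (T.permOK1 D) 87628 1153 26 = true := by decide +kernel
theorem c_perm_77 : allGrid (T.permOK1 D) 88781 1153 26 = true := by decide +kernel
theorem c_perm_78 : allGrid (T.permOK1 D) 89934 1153 26 = true := by decide +kernel
theorem c_perm_79 : allGrid (T.permOK1 D) 91087 1153 26 = true := by decide +kernel
theorem c_perm_80 : allGrid (T.permOK1 D) 92240 1153 26 = true := by decide +kernel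
theorem c_perm_81 : allGrid (T.permOK1 D) 93393 1153 26 = true := by decide +kernel
theorem c_perm_82 : allGrid (T.permOK1 D) 94546 1153 26 = true := by decide +kernel
theorem c_perm_83 : allGrid (T.permOK1 D) 95699 1153 26 = true := by decide +kernel
theorem c_perm_84 : allGrid (T.permOK1 D) 96852 1153 26 = true := by decide +kernel
theorem c_perm_85 : allGrid (T.permOK1 D) 98005 1153 26 = true := by decide +kernel
theorem c_perm_86 : allGrid (T.permOK1 D) 99158 1153 26 = true := by decide +kernel
theorem c_perm_87 : allGrid (T.permOK1 D) 100311 1153 26 = true := by decide +kernel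
theorem c_perm_88 : allGrid (T.permOK1 D) 101464 1153 26 = true := by decide +kernel
theorem c_perm_89 : allGrid (T.permOK1 D) 102617 1153 26 = true := by decide +kernel
theorem c_perm_90 : allGrid (T.permOK1 D) 103770 1153 26 = true := by decide +kernel
theorem c_perm_91 : allGrid (T.permOK1 D) 104923 1153 26 = true := by decide +kernel
theorem c_perm_92 : allGrid (T.permOK1 D) 106076 1153 26 = true := by decide +kernel
theorem c_perm_93 : allGrid (T.permOK1 D) 107229 1153 26 = true := by decide +kernel
theorem c_perm_94 : allGrid (T.permOK1 D) 108382 1153 26 = true := by decide +kernel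
theorem c_perm_95 : allGrid (T.permOK1 D) 109535 1153 26 = true := by decide +kernel
theorem c_perm_96 : allGrid (T.permOK1 D) 110688 1153 26 = true := by decide +kernel
theorem c_perm_97 : allGrid (T.permOK1 D) 111841 1153 26 = true := by decide +kernel
theorem c_perm_98 : allGrid (T.permOK1 D) 112994 1153 26 = true := by decide +kernel
theorem c_perm_99 : allGrid (T.permOK1 D) 114147 1153 26 = true := by decide +kernel

end Cfsg.Agent.Lib.Helper4.TCD.C3Fi22yR
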