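import Cfsg.Agent.Lib.Helper4.TCD_C3Fi22yR_Acc

namespace Cfsg.Agent.Lib.Helper4.TCD.C3Fi22yR

open Cfsg.Agent.Lib.Helper4.TC

set_option maxRecDepth 100000
set_option Elab.async false

theorem c_act47_109 : allRange (fun i => Nat.beq (actR47 i) i) 103768 952 = true := by decide +kernel
theorem c_act47_110 : allRange (fun i => Nat.beq (actR47 i) i) 104720 952 = true := by decide +kernel
theorem c_act47_111 : allRange (fun i => Nat.beq (actR47 i) i) 105672 952 = true := by decide +kernel
theorem c_act47_112 : allRange (fun i => Nat.beq (actR47 i) i) 106624 952 = true := by decide +kernel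
theorem c_act47_113 : allRange (fun i => Nat.beq (actR47 i) i) 107576 952 = true := by decide +kernel
theorem c_act47_114 : allRange (fun i => Nat.beq (actR47 i) i) 108528 952 = true := by decide +kernel
theorem c_act47_115 : allRange (fun i => Nat.beq (actR47 i) i) 109480 952 = true := by decide +kernel
theorem c_act47_116 : allRange (fun i => Nat.beq (actR47 i) i) 110432 952 = true := by decide +kernel
theorem c_act47_117 : allRange (fun i => Nat.beq (actR47 i) i) 111384 952 = true := by decide +kernel
theorem c_act47_118 : allRange (fun i => Nat.beq (actR47 i) i) 112336 952 = true := by decide +kernel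
theorem c_act47_119 : allRange (fun i => Nat.beq (actR47 i) i) 113288 952 = true := by decide +kernel
theorem c_act47_120 : allRange (fun i => Nat.beq (actR47 i) i) 114240 952 = true := by decide +kernel
theorem c_act47_121 : allRange (fun i => Nat.beq (actR47 i) i) 115192 952 = true := by decide +kernel
theorem c_act47_122 : allRange (fun i => Nat.beq (actR47 i) i) 116144 952 = true := by decide +kernel
theorem c_act47_123 : allRange (fun i => Nat.beq (actR47 i) i) 117096 952 = true := by decide +kernel
theorem c_act47_124 : allRange (fun i => Nat.beq (actR47 i) i) 118048 952 = true := by decide +kernel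
theorem c_act47_125 : allRange (fun i => Nat.beq (actR47 i) i) 119000 952 = true := by decide +kernel
theorem c_act47_126 : allRange (fun i => Nat.beq (actR47 i) i) 119952 952 = true := by decide +kernel
theorem c_act47_127 : allRange (fun i => Nat.beq (actR47 i) i) 120904 952 = true := by decide +kernel
theorem c_act47_128 : allRange (fun i => Nat.beq (actR47 i) i) 121856 952 = true := by decide +kernel
theorem c_act47_129 : allRange (fun i => Nat.beq (actR47 i) i) 122808 952 = true := by decide +kernel
theorem c_act47_130 : allRange (fun i => Nat.beq (actR47 i) i) 123760 952 = true := by decide +kernel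
theorem c_act47_131 : allRange (fun i => Nat.beq (actR47 i) i) 124712 952 = true := by decide +kernel
theorem c_act47_132 : allRange (fun i => Nat.beq (actR47 i) i) 125664 952 = true := by decide +kernel
theorem c_act47_133 : allRange (fun i => Nat.beq (actR47 i) i) 126616 952 = true := by decide +kernel
theorem c_act47_134 : allRange (fun i => Nat.beq (actR47 i) i) 127568 952 = true := by decide +kernel
theorem c_act47_135 : allRange (fun i => Nat.beq (actR47 i) i) 128520 952 = true := by decide +kernel
theorem c_act47_136 : allRange (fun i => Nat.beq (actR47 i) i) 129472 952 = true := by decide +kernel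
theorem c_act47_137 : allRange (fun i => Nat.beq (actR47 i) i) 130424 952 = true := by decide +kernel
theorem c_act47_138 : allRange (fun i => Nat.beq (actR47 i) i) 131376 952 = true := by decide +kernel
theorem c_act47_139 : allRange (fun i => Nat.beq (actR47 i) i) 132328 952 = true := by decide +kernel
theorem c_act47_140 : allRange (fun i => Nat.beq (actR47 i) i) 133280 952 = true := by decide +kernel
theorem c_act47_141 : allRange (fun i => Nat.beq (actR47 i) i) 134232 952 = true := by decide +kernel
theorem c_act47_142 : allRange (fun i => Nat.beq (actR47 i) i) 135184 952 = true := by decide +kernel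
theorem c_act47_143 : allRange (fun i => Nat.beq (actR47 i) i) 136136 952 = true := by decide +kernel
theorem c_act47_144 : allRange (fun i => Nat.beq (actR47 i) i) 137088 952 = true := by decide +kernel
theorem c_act47_145 : allRange (fun i => Nat.beq (actR47 i) i) 138040 952 = true := by decide +kernel
theorem c_act47_146 : allRange (fun i => Nat.beq (actR47 i) i) 138992 952 = true := by decide +kernel
theorem c_act47_147 : allRange (fun i => Nat.beq (actR47 i) i) 139944 952 = true := by decide +kernel
theorem c_act47_148 : allRange (fun i => Nat.beq (actR47 i) i) 140896 952 = true := by decide +kernel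
theorem c_act47_149 : allRange (fun i => Nat.beq (actR47 i) i) 141848 952 = true := by decide +kernel
theorem c_act47_150 : allRange (fun i => Nat.beq (actR47 i) i) 142800 952 = true := by decide +kernel
theorem c_act47_151 : allRange (fun i => Nat.beq (actR47 i) i) 143752 952 = true := by decide +kernel
theorem c_act47_152 : allRange (fun i => Nat.beq (actR47 i) i) 144704 952 = true := by decide +kernel
theorem c_act47_153 : allRange (fun i => Nat.beq (actR47 i) i) 145656 952 = true := by decide +kernel
theorem c_act47_154 : allRange (fun i => Nat.beq (actR47 i) i) 146608 952 = true := by decide +kernel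
theorem c_act47_155 : allRange (fun i => Nat.beq (actR47 i) i) 147560 952 = true := by decide +kernel
theorem c_act47_156 : allRange (fun i => Nat.beq (actR47 i) i) 148512 952 = true := by decide +kernel
theorem c_act47_157 : allRange (fun i => Nat.beq (actR47 i) i) 149464 952 = true := by decide +kernel
theorem c_act47_158 : allRange (fun i => Nat.beq (actR47 i) i) 150416 952 = true := by decide +kernel
theorem c_act47_159 : allRange (fun i => Nat.beq (actR47 i) i) 151368 952 = true := by decide +kernel
theorem c_act47_160 : allRange (fun i => Nat.beq (actR47 i) i) 152320 952 = true := by decide +kernel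
theorem c_act47_161 : allRange (fun i => Nat.beq (actR47 i) i) 153272 952 = true := by decide +kernel
theorem c_act47_162 : allRange (fun i => Nat.beq (actR47 i) i) 154224 952 = true := by decide +kernel
theorem c_act47_163 : allRange (fun i => Nat.beq (actR47 i) i) 155176 952 = true := by decide +kernel
theorem c_act47_164 : allRange (fun i => Nat.beq (actR47 i) i) 156128 952 = true := by decide +kernel
theorem c_act47_165 : allRange (fun i => Nat.beq (actR47 i) i) 157080 952 = true := by decide +kernel
theorem c_act47_166 : allRange (fun i => Nat.beq (actR47 i) i) 158032 952 = true := by decide +kernel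
theorem c_act47_167 : allRange (fun i => Nat.beq (actR47 i) i) 158984 952 = true := by decide +kernel
theorem c_act47_168 : allRange (fun i => Nat.beq (actR47 i) i) 159936 952 = true := by decide +kernel
theorem c_act47_169 : allRange (fun i => Nat.beq (actR47 i) i) 160888 952 = true := by decide +kernel
theorem c_act47_170 : allRange (fun i => Nat.beq (actR47 i) i) 161840 952 = true := by decide +kernel
theorem c_act47_171 : allRange (fun i => Nat.beq (actR47 i) i) 162792 952 = true := by decide +kernel
theorem c_act47_172 : allRange (fun i => Nat.beq (actR47 i) i) 163744 952 = true := by decide +kernel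
theorem c_act47_173 : allRange (fun i => Nat.beq (actR47 i) i) 164696 952 = true := by decide +kernel
theorem c_act47_174 : allRange (fun i => Nat.beq (actR47 i) i) 165648 952 = true := by decide +kernel
theorem c_act47_175 : allRange (fun i => Nat.beq (actR47 i) i) 166600 952 = true := by decide +kernel
theorem c_act47_176 : allRange (fun i => Nat.beq (actR47 i) i) 167552 952 = true := by decide +kernel
theorem c_act47_177 : allRange (fun i => Nat.beq (actR47 i) i) 168504 952 = true := by decide +kernel
theorem c_act47_178 : allRange (fun i => Nat.beq (actR47 i) i) 169456 952 = true := by decide +kernel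
theorem c_act47_179 : allRange (fun i => Nat.beq (actR47 i) i) 170408 952 = true := by decide +kernel
theorem c_act47_180 : allRange (fun i => Nat.beq (actR47 i) i) 171360 952 = true := by decide +kernel
theorem c_act47_181 : allRange (fun i => Nat.beq (actR47 i) i) 172312 952 = true := by decide +kernel
theorem c_act47_182 : allRange (fun i => Nat.beq (actR47 i) i) 173264 952 = true := by decide +kernel
theorem c_act47_183 : allRange (fun i => Nat.beq (actR47 i) i) 174216 952 = true := by decide +kernel
theorem c_act47_184 : allRange (fun i => Nat.beq (actR47 i) i) 175168 952 = true := by decide +kernel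
theorem c_act47_185 : allRange (fun i => Nat.beq (actR47 i) i) 176120 952 = true := by decide +kernel
theorem c_act47_186 : allRange (fun i => Nat.beq (actR47 i) i) 177072 952 = true := by decide +kernel
theorem c_act47_187 : allRange (fun i => Nat.beq (actR47 i) i) 178024 952 = true := by decide +kernel
theorem c_act47_188 : allRange (fun i => Nat.beq (actR47 i) i) 178976 952 = true := by decide +kernel
theorem c_act47_189 : allRange (fun i => Nat.beq (actR47 i) i) 179928 952 = true := by decide +kernel
theorem c_act47_190 : allRange (fun i => Nat.beq (actR47 i) i) 180880 952 = true := by decide +kernel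
theorem c_act47_191 : allRange (fun i => Nat.beq (actR47 i) i) 181832 952 = true := by decide +kernel
theorem c_act47_192 : allRange (fun i => Nat.beq (actR47 i) i) 182784 952 = true := by decide +kernel
theorem c_act47_193 : allRange (fun i => Nat.beq (actR47 i) i) 183736 952 = true := by decide +kernel
theorem c_act47_194 : allRange (fun i => Nat.beq (actR47 i) i) 184688 640 = true := by decide +kernel
theorem c_act48_0 : allRange (fun i => Nat.beq (actR48 i) i) 0 387 = true := by decide +kernel
theorem c_act48_1 : allRange (fun i => Nat.beq (actR48 i) i) 387 387 = true := by decide +kernel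
theorem c_act48_2 : allRange (fun i => Nat.beq (actR48 i) i) 774 387 = true := by decide +kernel
theorem c_act48_3 : allRange (fun i => Nat.beq (actR48 i) i) 1161 387 = true := by decide +kernel
theorem c_act48_4 : allRange (fun i => Nat.beq (actR48 i) i) 1548 387 = true := by decide +kernel
theorem c_act48_5 : allRange (fun i => Nat.beq (actR48 i) i) 1935 387 = true := by decide +kernel
theorem c_act48_6 : allRange (fun i => Nat.beq (actR48 i) i) 2322 387 = true := by decide +kernel
theorem c_act48_7 : allRange (fun i => Nat.beq (actR48 i) i) 2709 387 = true := by decide +kernel
theorem c_act48_8 : allRange (fun i => Nat.beq (actR48 i) i) 3096 387 = true := by decide +kernel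
theorem c_act48_9 : allRange (fun i => Nat.beq (actR48 i) i) 3483 387 = true := by decide +kernel
theorem c_act48_10 : allRange (fun i => Nat.beq (actR48 i) i) 3870 387 = true := by decide +kernel
theorem c_act48_11 : allRange (fun i => Nat.beq (actR48 i) i) 4257 387 = true := by decide +kernel
theorem c_act48_12 : allRange (fun i => Nat.beq (actR48 i) i) 4644 387 = true := by decide +kernel
theorem c_act48_13 : allRange (fun i => Nat.beq (actR48 i) i) 5031 387 = true := by decide +kernel

end Cfsg.Agent.Lib.Helper4.TCD.C3Fi22yR
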