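import Cfsg.Agent.Lib.Helper4.TCD_C3Fi22yR_Acc

namespace Cfsg.Agent.Lib.Helper4.TCD.C3Fi22yR

open Cfsg.Agent.Lib.Helper4.TC

set_option maxRecDepth 100000
set_option Elab.async false

theorem c_act52_8 : allRange (fun i => Nat.beq (actR52 i) i) 43632 5454 = true := by decide +kernel
theorem c_act52_9 : allRange (fun i => Nat.beq (actR52 i) i) 49086 5454 = true := by decide +kernel
theorem c_act52_10 : allRange (fun i => Nat.beq (actR52 i) i) 54540 5454 = true := by decide +kernel
theorem c_act52_11 : allRange (fun i => Nat.beq (actR52 i) i) 59994 5454 = true := by decide +kernel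
theorem c_act52_12 : allRange (fun i => Nat.beq (actR52 i) i) 65448 5454 = true := by decide +kernel
theorem c_act52_13 : allRange (fun i => Nat.beq (actR52 i) i) 70902 5454 = true := by decide +kernel
theorem c_act52_14 : allRange (fun i => Nat.beq (actR52 i) i) 76356 5454 = true := by decide +kernel
theorem c_act52_15 : allRange (fun i => Nat.beq (actR52 i) i) 81810 5454 = true := by decide +kernel
theorem c_act52_16 : allRange (fun i => Nat.beq (actR52 i) i) 87264 5454 = true := by decide +kernel
theorem c_act52_17 : allRange (fun i => Nat.beq (actR52 i) i) 92718 5454 = true := by decide +kernel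
theorem c_act52_18 : allRange (fun i => Nat.beq (actR52 i) i) 98172 5454 = true := by decide +kernel
theorem c_act52_19 : allRange (fun i => Nat.beq (actR52 i) i) 103626 5454 = true := by decide +kernel
theorem c_act52_20 : allRange (fun i => Nat.beq (actR52 i) i) 109080 5454 = true := by decide +kernel
theorem c_act52_21 : allRange (fun i => Nat.beq (actR52 i) i) 114534 5454 = true := by decide +kernel
theorem c_act52_22 : allRange (fun i => Nat.beq (actR52 i) i) 119988 5454 = true := by decide +kernel
theorem c_act52_23 : allRange (fun i => Nat.beq (actR52 i) i) 125442 5454 = true := by decide +kernel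
theorem c_act52_24 : allRange (fun i => Nat.beq (actR52 i) i) 130896 5454 = true := by decide +kernel
theorem c_act52_25 : allRange (fun i => Nat.beq (actR52 i) i) 136350 5454 = true := by decide +kernel
theorem c_act52_26 : allRange (fun i => Nat.beq (actR52 i) i) 141804 5454 = true := by decide +kernel
theorem c_act52_27 : allRange (fun i => Nat.beq (actR52 i) i) 147258 5454 = true := by decide +kernel
theorem c_act52_28 : allRange (fun i => Nat.beq (actR52 i) i) 152712 5454 = true := by decide +kernel
theorem c_act52_29 : allRange (fun i => Nat.beq (actR52 i) i) 158166 5454 = true := by decide +kernel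
theorem c_act52_30 : allRange (fun i => Nat.beq (actR52 i) i) 163620 5454 = true := by decide +kernel
theorem c_act52_31 : allRange (fun i => Nat.beq (actR52 i) i) 169074 5454 = true := by decide +kernel
theorem c_act52_32 : allRange (fun i => Nat.beq (actR52 i) i) 174528 5454 = true := by decide +kernel
theorem c_act52_33 : allRange (fun i => Nat.beq (actR52 i) i) 179982 5346 = true := by decide +kernel
theorem c_act53_0 : allRange (fun i => Nat.beq (actR53 i) i) 0 5000 = true := by decide +kernel
theorem c_act53_1 : allRange (fun i => Nat.beq (actR53 i) i) 5000 5000 = true := by decide +kernel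
theorem c_act53_2 : allRange (fun i => Nat.beq (actR53 i) i) 10000 5000 = true := by decide +kernel
theorem c_act53_3 : allRange (fun i => Nat.beq (actR53 i) i) 15000 5000 = true := by decide +kernel
theorem c_act53_4 : allRange (fun i => Nat.beq (actR53 i) i) 20000 5000 = true := by decide +kernel
theorem c_act53_5 : allRange (fun i => Nat.beq (actR53 i) i) 25000 5000 = true := by decide +kernel
theorem c_act53_6 : allRange (fun i => Nat.beq (actR53 i) i) 30000 5000 = true := by decide +kernel
theorem c_act53_7 : allRange (fun i => Nat.beq (actR53 i) i) 35000 5000 = true := by decide +kernel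
theorem c_act53_8 : allRange (fun i => Nat.beq (actR53 i) i) 40000 5000 = true := by decide +kernel
theorem c_act53_9 : allRange (fun i => Nat.beq (actR53 i) i) 45000 5000 = true := by decide +kernel
theorem c_act53_10 : allRange (fun i => Nat.beq (actR53 i) i) 50000 5000 = true := by decide +kernel
theorem c_act53_11 : allRange (fun i => Nat.beq (actR53 i) i) 55000 5000 = true := by decide +kernel
theorem c_act53_12 : allRange (fun i => Nat.beq (actR53 i) i) 60000 5000 = true := by decide +kernel
theorem c_act53_13 : allRange (fun i => Nat.beq (actR53 i) i) 65000 5000 = true := by decide +kernel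
theorem c_act53_14 : allRange (fun i => Nat.beq (actR53 i) i) 70000 5000 = true := by decide +kernel
theorem c_act53_15 : allRange (fun i => Nat.beq (actR53 i) i) 75000 5000 = true := by decide +kernel
theorem c_act53_16 : allRange (fun i => Nat.beq (actR53 i) i) 80000 5000 = true := by decide +kernel
theorem c_act53_17 : allRange (fun i => Nat.beq (actR53 i) i) 85000 5000 = true := by decide +kernel
theorem c_act53_18 : allRange (fun i => Nat.beq (actR53 i) i) 90000 5000 = true := by decide +kernel
theorem c_act53_19 : allRange (fun i => Nat.beq (actR53 i) i) 95000 5000 = true := by decide +kernel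
theorem c_act53_20 : allRange (fun i => Nat.beq (actR53 i) i) 100000 5000 = true := by decide +kernel
theorem c_act53_21 : allRange (fun i => Nat.beq (actR53 i) i) 105000 5000 = true := by decide +kernel
theorem c_act53_22 : allRange (fun i => Nat.beq (actR53 i) i) 110000 5000 = true := by decide +kernel
theorem c_act53_23 : allRange (fun i => Nat.beq (actR53 i) i) 115000 5000 = true := by decide +kernel
theorem c_act53_24 : allRange (fun i => Nat.beq (actR53 i) i) 120000 5000 = true := by decide +kernel
theorem c_act53_25 : allRange (fun i => Nat.beq (actR53 i) i) 125000 5000 = true := by decide +kernel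
theorem c_act53_26 : allRange (fun i => Nat.beq (actR53 i) i) 130000 5000 = true := by decide +kernel
theorem c_act53_27 : allRange (fun i => Nat.beq (actR53 i) i) 135000 5000 = true := by decide +kernel
theorem c_act53_28 : allRange (fun i => Nat.beq (actR53 i) i) 140000 5000 = true := by decide +kernel
theorem c_act53_29 : allRange (fun i => Nat.beq (actR53 i) i) 145000 5000 = true := by decide +kernel
theorem c_act53_30 : allRange (fun i => Nat.beq (actR53 i) i) 150000 5000 = true := by decide +kernel
theorem c_act53_31 : allRange (fun i => Nat.beq (actR53 i) i) 155000 5000 = true := by decide +kernel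
theorem c_act53_32 : allRange (fun i => Nat.beq (actR53 i) i) 160000 5000 = true := by decide +kernel
theorem c_act53_33 : allRange (fun i => Nat.beq (actR53 i) i) 165000 5000 = true := by decide +kernel
theorem c_act53_34 : allRange (fun i => Nat.beq (actR53 i) i) 170000 5000 = true := by decide +kernel
theorem c_act53_35 : allRange (fun i => Nat.beq (actR53 i) i) 175000 5000 = true := by decide +kernel
theorem c_act53_36 : allRange (fun i => Nat.beq (actR53 i) i) 180000 5000 = true := by decide +kernel
theorem c_act53_37 : allRange (fun i => Nat.beq (actR53 i) i) 185000 328 = true := by decide +kernel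
theorem c_act54_0 : allRange (fun i => Nat.beq (actR54 i) i) 0 5000 = true := by decide +kernel
theorem c_act54_1 : allRange (fun i => Nat.beq (actR54 i) i) 5000 5000 = true := by decide +kernel
theorem c_act54_2 : allRange (fun i => Nat.beq (actR54 i) i) 10000 5000 = true := by decide +kernel
theorem c_act54_3 : allRange (fun i => Nat.beq (actR54 i) i) 15000 5000 = true := by decide +kernel
theorem c_act54_4 : allRange (fun i => Nat.beq (actR54 i) i) 20000 5000 = true := by decide +kernel
theorem c_act54_5 : allRange (fun i => Nat.beq (actR54 i) i) 25000 5000 = true := by decide +kernel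
theorem c_act54_6 : allRange (fun i => Nat.beq (actR54 i) i) 30000 5000 = true := by decide +kernel
theorem c_act54_7 : allRange (fun i => Nat.beq (actR54 i) i) 35000 5000 = true := by decide +kernel
theorem c_act54_8 : allRange (fun i => Nat.beq (actR54 i) i) 40000 5000 = true := by decide +kernel
theorem c_act54_9 : allRange (fun i => Nat.beq (actR54 i) i) 45000 5000 = true := by decide +kernel
theorem c_act54_10 : allRange (fun i => Nat.beq (actR54 i) i) 50000 5000 = true := by decide +kernel
theorem c_act54_11 : allRange (fun i => Nat.beq (actR54 i) i) 55000 5000 = true := by decide +kernel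
theorem c_act54_12 : allRange (fun i => Nat.beq (actR54 i) i) 60000 5000 = true := by decide +kernel
theorem c_act54_13 : allRange (fun i => Nat.beq (actR54 i) i) 65000 5000 = true := by decide +kernel
theorem c_act54_14 : allRange (fun i => Nat.beq (actR54 i) i) 70000 5000 = true := by decide +kernel
theorem c_act54_15 : allRange (fun i => Nat.beq (actR54 i) i) 75000 5000 = true := by decide +kernel
theorem c_act54_16 : allRange (fun i => Nat.beq (actR54 i) i) 80000 5000 = true := by decide +kernel
theorem c_act54_17 : allRange (fun i => Nat.beq (actR54 i) i) 85000 5000 = true := by decide +kernel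
theorem c_act54_18 : allRange (fun i => Nat.beq (actR54 i) i) 90000 5000 = true := by decide +kernel
theorem c_act54_19 : allRange (fun i => Nat.beq (actR54 i) i) 95000 5000 = true := by decide +kernel
theorem c_act54_20 : allRange (fun i => Nat.beq (actR54 i) i) 100000 5000 = true := by decide +kernel
theorem c_act54_21 : allRange (fun i => Nat.beq (actR54 i) i) 105000 5000 = true := by decide +kernel
theorem c_act54_22 : allRange (fun i => Nat.beq (actR54 i) i) 110000 5000 = true := by decide +kernel
theorem c_act54_23 : allRange (fun i => Nat.beq (actR54 i) i) 115000 5000 = true := by decide +kernel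
theorem c_act54_24 : allRange (fun i => Nat.beq (actR54 i) i) 120000 5000 = true := by decide +kernel
theorem c_act54_25 : allRange (fun i => Nat.beq (actR54 i) i) 125000 5000 = true := by decide +kernel
theorem c_act54_26 : allRange (fun i => Nat.beq (actR54 i) i) 130000 5000 = true := by decide +kernel
theorem c_act54_27 : allRange (fun i => Nat.beq (actR54 i) i) 135000 5000 = true := by decide +kernel
theorem c_act54_28 : allRange (fun i => Nat.beq (actR54 i) i) 140000 5000 = true := by decide +kernel
theorem c_act54_29 : allRange (fun i => Nat.beq (actR54 i) i) 145000 5000 = true := by decide +kernel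
theorem c_act54_30 : allRange (fun i => Nat.beq (actR54 i) i) 150000 5000 = true := by decide +kernel
theorem c_act54_31 : allRange (fun i => Nat.beq (actR54 i) i) 155000 5000 = true := by decide +kernel
theorem c_act54_32 : allRange (fun i => Nat.beq (actR54 i) i) 160000 5000 = true := by decide +kernel
theorem c_act54_33 : allRange (fun i => Nat.beq (actR54 i) i) 165000 5000 = true := by decide +kernel
theorem c_act54_34 : allRange (fun i => Nat.beq (actR54 i) i) 170000 5000 = true := by decide +kernel
theorem c_act54_35 : allRange (fun i => Nat.beq (actR54 i) i) 175000 5000 = true := by decide +kernel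

end Cfsg.Agent.Lib.Helper4.TCD.C3Fi22yR
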