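import Cfsg.Agent.Lib.Helper4.TC14
import Cfsg.Agent.Lib.Helper4.TCP_C3G23
import Cfsg.Agent.Lib.Helper4.TCD_C3G23R_D0

namespace Cfsg.Agent.Lib.Helper4.TCD.C3G23R

open Cfsg.Agent.Lib.Helper4.TC

set_option maxRecDepth 100000

noncomputable def col0 (i : Nat) : Nat := rdw 12 4095 col0_0 i
noncomputable def col1 (i : Nat) : Nat := rdw 12 4095 col1_0 i
noncomputable def col2 (i : Nat) : Nat := rdw 12 4095 col2_0 i
noncomputable def col3 (i : Nat) : Nat := rdw 12 4095 col3_0 i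
noncomputable def col4 (i : Nat) : Nat := rdw 12 4095 col4_0 i
noncomputable def col5 (i : Nat) : Nat := rdw 12 4095 col5_0 i
noncomputable def col6 (i : Nat) : Nat := rdw 12 4095 col6_0 i
noncomputable def col7 (i : Nat) : Nat := rdw 12 4095 col7_0 i
noncomputable def tblF (i x : Nat) : Nat := @Bool.rec (fun _ => Nat) (@Bool.rec (fun _ => Nat) (@Bool.rec (fun _ => Nat) (col0 i) (col1 i) (Nat.ble 1 x)) (@Bool.rec (fun _ => Nat) (col2 i) (col3 i) (Nat.ble 3 x)) (Nat.ble 2 x)) (@Bool.rec (fun _ => Nat) (@Bool.rec (fun _ => Nat) (col4 i) (col5 i) (Nat.ble 5 x)) (@Bool.rec (fun _ => Nat) (col6 i) (col7 i) (Nat.ble 7 x)) (Nat.ble 6 x)) (Nat.ble 4 x)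

noncomputable def D : Log :=
  { k := 8, inv := PC3G23.invR, nR := 0, rBase := fun _ => 0, rLen := fun _ => 0, RR := fun _ => 0,
    M := 0, nB := 0, F := 0, src := fun _ => 0, lt := fun _ => 0, tgt := fun _ => 0, rho := fun _ => 0, rot := fun _ => 0,
    off := fun _ => 0, len := fun _ => 0, pf := fun _ => 0, pd := fun _ => 0 }

noncomputable def T : Tab :=
  { N := 2106, nameOf := fun _ => 0, tbl := tblF, finF := fun _ _ => 0, finD := fun _ _ => 0, cls := fun _ => 0 }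

def rw0 : List Nat := [0, 0, 0, 0, 0, 0, 0]
def rw1 : List Nat := [0, 0, 2, 1, 2, 0, 3, 0, 2, 1, 2]
def rw2 : List Nat := [0, 0, 0, 2, 0, 0, 0, 2, 0, 0, 0, 2]
def rw3 : List Nat := [0, 0, 2, 2, 0, 0, 3, 3, 0, 0, 3, 3]
def rw4 : List Nat := [4, 4, 4]
def rw5 : List Nat := [0, 0, 4, 1, 1, 3, 4, 2]
def rw6 : List Nat := [0, 2, 4, 0, 2, 4, 0, 2, 4]
def rw7 : List Nat := [0, 2, 2, 1, 4, 0, 3, 3, 1, 4]
def rw8 : List Nat := [0, 4, 1, 4, 1, 2, 4, 3, 0, 5]
def rw9 : List Nat := [0, 0, 3, 0, 4, 1, 2, 1, 1, 2, 0, 5, 1, 3, 7]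
def rw10 : List Nat := [6, 6, 6]
def rw11 : List Nat := [7, 1, 6, 0]
def rw12 : List Nat := [7, 3, 6, 2]
def rw13 : List Nat := [7, 5, 6, 4]
def realLit : List (List Nat) := [rw0, rw1, rw2, rw3, rw4, rw5, rw6, rw7, rw8, rw9, rw10, rw11, rw12, rw13]
noncomputable def actR0 (i : Nat) : Nat := col1 (col1 (col1 (col1 (col1 (col1 (col1 (i)))))))
theorem actR0_eq (i : Nat) : actR0 i = Tab.act T D rw0 i := rfl
noncomputable def actR1 (i : Nat) : Nat := col1 (col1 (col3 (col0 (col3 (col1 (col2 (col1 (col3 (col0 (col3 (i)))))))))))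
theorem actR1_eq (i : Nat) : actR1 i = Tab.act T D rw1 i := rfl
noncomputable def actR2 (i : Nat) : Nat := col1 (col1 (col1 (col3 (col1 (col1 (col1 (col3 (col1 (col1 (col1 (col3 (i))))))))))))
theorem actR2_eq (i : Nat) : actR2 i = Tab.act T D rw2 i := rfl
noncomputable def actR3 (i : Nat) : Nat := col1 (col1 (col3 (col3 (col1 (col1 (col2 (col2 (col1 (col1 (col2 (col2 (i))))))))))))
theorem actR3_eq (i : Nat) : actR3 i = Tab.act T D rw3 i := rfl
noncomputable def actR4 (i : Nat) : Nat := col5 (col5 (col5 (i)))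
theorem actR4_eq (i : Nat) : actR4 i = Tab.act T D rw4 i := rfl
noncomputable def actR5 (i : Nat) : Nat := col1 (col1 (col5 (col0 (col0 (col2 (col5 (col3 (i))))))))
theorem actR5_eq (i : Nat) : actR5 i = Tab.act T D rw5 i := rfl
noncomputable def actR6 (i : Nat) : Nat := col1 (col3 (col5 (col1 (col3 (col5 (col1 (col3 (col5 (i)))))))))
theorem actR6_eq (i : Nat) : actR6 i = Tab.act T D rw6 i := rfl
noncomputable def actR7 (i : Nat) : Nat := col1 (col3 (col3 (col0 (col5 (col1 (col2 (col2 (col0 (col5 (i))))))))))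
theorem actR7_eq (i : Nat) : actR7 i = Tab.act T D rw7 i := rfl
noncomputable def actR8 (i : Nat) : Nat := col1 (col5 (col0 (col5 (col0 (col3 (col5 (col2 (col1 (col4 (i))))))))))
theorem actR8_eq (i : Nat) : actR8 i = Tab.act T D rw8 i := rfl
noncomputable def actR9 (i : Nat) : Nat := col1 (col1 (col2 (col1 (col5 (col0 (col3 (col0 (col0 (col3 (col1 (col4 (col0 (col2 (col6 (i)))))))))))))))
theorem actR9_eq (i : Nat) : actR9 i = Tab.act T D rw9 i := rfl
noncomputable def actR10 (i : Nat) : Nat := col7 (col7 (col7 (i)))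
theorem actR10_eq (i : Nat) : actR10 i = Tab.act T D rw10 i := rfl
noncomputable def actR11 (i : Nat) : Nat := col6 (col0 (col7 (col1 (i))))
theorem actR11_eq (i : Nat) : actR11 i = Tab.act T D rw11 i := rfl
noncomputable def actR12 (i : Nat) : Nat := col6 (col2 (col7 (col3 (i))))
theorem actR12_eq (i : Nat) : actR12 i = Tab.act T D rw12 i := rfl
noncomputable def actR13 (i : Nat) : Nat := col6 (col4 (col7 (col5 (i))))
theorem actR13_eq (i : Nat) : actR13 i = Tab.act T D rw13 i := rfl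

end Cfsg.Agent.Lib.Helper4.TCD.C3G23R
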