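import Cfsg.Agent.Lib.Helper4.TC7
import Cfsg.Agent.Lib.Helper4.TCP_C3J3
import Cfsg.Agent.Lib.Helper4.TCD_C3J3A_D0
import Cfsg.Agent.Lib.Helper4.TCD_C3J3A_D1
import Cfsg.Agent.Lib.Helper4.TCD_C3J3A_D2
import Cfsg.Agent.Lib.Helper4.TCD_C3J3A_D3
import Cfsg.Agent.Lib.Helper4.TCD_C3J3A_D4
import Cfsg.Agent.Lib.Helper4.TCD_C3J3A_D5
import Cfsg.Agent.Lib.Helper4.TCD_C3J3A_D6
import Cfsg.Agent.Lib.Helper4.TCD_C3J3A_D7
import Cfsg.Agent.Lib.Helper4.TCD_C3J3A_D8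
import Cfsg.Agent.Lib.Helper4.TCD_C3J3A_D9
import Cfsg.Agent.Lib.Helper4.TCD_C3J3A_D10
import Cfsg.Agent.Lib.Helper4.TCD_C3J3A_D11
import Cfsg.Agent.Lib.Helper4.TCD_C3J3A_D12
import Cfsg.Agent.Lib.Helper4.TCD_C3J3A_D13
import Cfsg.Agent.Lib.Helper4.TCD_C3J3A_D14
import Cfsg.Agent.Lib.Helper4.TCD_C3J3A_D15

namespace Cfsg.Agent.Lib.Helper4.TCD.C3J3A

open Cfsg.Agent.Lib.Helper4.TC

set_option maxRecDepth 100000

noncomputable def Atab_s_0_2 (c : Nat) : Nat := @Bool.rec (fun _ => Nat) (Atab_0) (Atab_1) (Nat.ble 1 c)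
noncomputable def Atab_s_2_4 (c : Nat) : Nat := @Bool.rec (fun _ => Nat) (Atab_2) (Atab_3) (Nat.ble 3 c)
noncomputable def Atab_s_0_4 (c : Nat) : Nat := @Bool.rec (fun _ => Nat) (Atab_s_0_2 c) (Atab_s_2_4 c) (Nat.ble 2 c)
noncomputable def Atab_s_4_6 (c : Nat) : Nat := @Bool.rec (fun _ => Nat) (Atab_4) (Atab_5) (Nat.ble 5 c)
noncomputable def Atab_s_6_8 (c : Nat) : Nat := @Bool.rec (fun _ => Nat) (Atab_6) (Atab_7) (Nat.ble 7 c)
noncomputable def Atab_s_4_8 (c : Nat) : Nat := @Bool.rec (fun _ => Nat) (Atab_s_4_6 c) (Atab_s_6_8 c) (Nat.ble 6 c)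
noncomputable def Atab_s_0_8 (c : Nat) : Nat := @Bool.rec (fun _ => Nat) (Atab_s_0_4 c) (Atab_s_4_8 c) (Nat.ble 4 c)
noncomputable def Atab_s_8_10 (c : Nat) : Nat := @Bool.rec (fun _ => Nat) (Atab_8) (Atab_9) (Nat.ble 9 c)
noncomputable def Atab_s_10_12 (c : Nat) : Nat := @Bool.rec (fun _ => Nat) (Atab_10) (Atab_11) (Nat.ble 11 c)
noncomputable def Atab_s_8_12 (c : Nat) : Nat := @Bool.rec (fun _ => Nat) (Atab_s_8_10 c) (Atab_s_10_12 c) (Nat.ble 10 c)
noncomputable def Atab_s_12_14 (c : Nat) : Nat := @Bool.rec (fun _ => Nat) (Atab_12) (Atab_13) (Nat.ble 13 c)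
noncomputable def Atab_s_15_17 (c : Nat) : Nat := @Bool.rec (fun _ => Nat) (Atab_15) (Atab_16) (Nat.ble 16 c)
noncomputable def Atab_s_14_17 (c : Nat) : Nat := @Bool.rec (fun _ => Nat) (Atab_14) (Atab_s_15_17 c) (Nat.ble 15 c)
noncomputable def Atab_s_12_17 (c : Nat) : Nat := @Bool.rec (fun _ => Nat) (Atab_s_12_14 c) (Atab_s_14_17 c) (Nat.ble 14 c)
noncomputable def Atab_s_8_17 (c : Nat) : Nat := @Bool.rec (fun _ => Nat) (Atab_s_8_12 c) (Atab_s_12_17 c) (Nat.ble 12 c)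
noncomputable def Atab_s_0_17 (c : Nat) : Nat := @Bool.rec (fun _ => Nat) (Atab_s_0_8 c) (Atab_s_8_17 c) (Nat.ble 8 c)
noncomputable def Atab_s_17_19 (c : Nat) : Nat := @Bool.rec (fun _ => Nat) (Atab_17) (Atab_18) (Nat.ble 18 c)
noncomputable def Atab_s_19_21 (c : Nat) : Nat := @Bool.rec (fun _ => Nat) (Atab_19) (Atab_20) (Nat.ble 20 c)
noncomputable def Atab_s_17_21 (c : Nat) : Nat := @Bool.rec (fun _ => Nat) (Atab_s_17_19 c) (Atab_s_19_21 c) (Nat.ble 19 c)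
noncomputable def Atab_s_21_23 (c : Nat) : Nat := @Bool.rec (fun _ => Nat) (Atab_21) (Atab_22) (Nat.ble 22 c)
noncomputable def Atab_s_23_25 (c : Nat) : Nat := @Bool.rec (fun _ => Nat) (Atab_23) (Atab_24) (Nat.ble 24 c)
noncomputable def Atab_s_21_25 (c : Nat) : Nat := @Bool.rec (fun _ => Nat) (Atab_s_21_23 c) (Atab_s_23_25 c) (Nat.ble 23 c)
noncomputable def Atab_s_17_25 (c : Nat) : Nat := @Bool.rec (fun _ => Nat) (Atab_s_17_21 c) (Atab_s_21_25 c) (Nat.ble 21 c)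
noncomputable def Atab_s_25_27 (c : Nat) : Nat := @Bool.rec (fun _ => Nat) (Atab_25) (Atab_26) (Nat.ble 26 c)
noncomputable def Atab_s_27_29 (c : Nat) : Nat := @Bool.rec (fun _ => Nat) (Atab_27) (Atab_28) (Nat.ble 28 c)
noncomputable def Atab_s_25_29 (c : Nat) : Nat := @Bool.rec (fun _ => Nat) (Atab_s_25_27 c) (Atab_s_27_29 c) (Nat.ble 27 c)
noncomputable def Atab_s_29_31 (c : Nat) : Nat := @Bool.rec (fun _ => Nat) (Atab_29) (Atab_30) (Nat.ble 30 c)
noncomputable def Atab_s_32_34 (c : Nat) : Nat := @Bool.rec (fun _ => Nat) (Atab_32) (Atab_33) (Nat.ble 33 c)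
noncomputable def Atab_s_31_34 (c : Nat) : Nat := @Bool.rec (fun _ => Nat) (Atab_31) (Atab_s_32_34 c) (Nat.ble 32 c)
noncomputable def Atab_s_29_34 (c : Nat) : Nat := @Bool.rec (fun _ => Nat) (Atab_s_29_31 c) (Atab_s_31_34 c) (Nat.ble 31 c)
noncomputable def Atab_s_25_34 (c : Nat) : Nat := @Bool.rec (fun _ => Nat) (Atab_s_25_29 c) (Atab_s_29_34 c) (Nat.ble 29 c)
noncomputable def Atab_s_17_34 (c : Nat) : Nat := @Bool.rec (fun _ => Nat) (Atab_s_17_25 c) (Atab_s_25_34 c) (Nat.ble 25 c)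
noncomputable def Atab_s_0_34 (c : Nat) : Nat := @Bool.rec (fun _ => Nat) (Atab_s_0_17 c) (Atab_s_17_34 c) (Nat.ble 17 c)
noncomputable def Atab_s_34_36 (c : Nat) : Nat := @Bool.rec (fun _ => Nat) (Atab_34) (Atab_35) (Nat.ble 35 c)
noncomputable def Atab_s_36_38 (c : Nat) : Nat := @Bool.rec (fun _ => Nat) (Atab_36) (Atab_37) (Nat.ble 37 c)
noncomputable def Atab_s_34_38 (c : Nat) : Nat := @Bool.rec (fun _ => Nat) (Atab_s_34_36 c) (Atab_s_36_38 c) (Nat.ble 36 c)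
noncomputable def Atab_s_38_40 (c : Nat) : Nat := @Bool.rec (fun _ => Nat) (Atab_38) (Atab_39) (Nat.ble 39 c)
noncomputable def Atab_s_40_42 (c : Nat) : Nat := @Bool.rec (fun _ => Nat) (Atab_40) (Atab_41) (Nat.ble 41 c)
noncomputable def Atab_s_38_42 (c : Nat) : Nat := @Bool.rec (fun _ => Nat) (Atab_s_38_40 c) (Atab_s_40_42 c) (Nat.ble 40 c)
noncomputable def Atab_s_34_42 (c : Nat) : Nat := @Bool.rec (fun _ => Nat) (Atab_s_34_38 c) (Atab_s_38_42 c) (Nat.ble 38 c)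
noncomputable def Atab_s_42_44 (c : Nat) : Nat := @Bool.rec (fun _ => Nat) (Atab_42) (Atab_43) (Nat.ble 43 c)
noncomputable def Atab_s_44_46 (c : Nat) : Nat := @Bool.rec (fun _ => Nat) (Atab_44) (Atab_45) (Nat.ble 45 c)
noncomputable def Atab_s_42_46 (c : Nat) : Nat := @Bool.rec (fun _ => Nat) (Atab_s_42_44 c) (Atab_s_44_46 c) (Nat.ble 44 c)
noncomputable def Atab_s_46_48 (c : Nat) : Nat := @Bool.rec (fun _ => Nat) (Atab_46) (Atab_47) (Nat.ble 47 c)
noncomputable def Atab_s_49_51 (c : Nat) : Nat := @Bool.rec (fun _ => Nat) (Atab_49) (Atab_50) (Nat.ble 50 c)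
noncomputable def Atab_s_48_51 (c : Nat) : Nat := @Bool.rec (fun _ => Nat) (Atab_48) (Atab_s_49_51 c) (Nat.ble 49 c)
noncomputable def Atab_s_46_51 (c : Nat) : Nat := @Bool.rec (fun _ => Nat) (Atab_s_46_48 c) (Atab_s_48_51 c) (Nat.ble 48 c)
noncomputable def Atab_s_42_51 (c : Nat) : Nat := @Bool.rec (fun _ => Nat) (Atab_s_42_46 c) (Atab_s_46_51 c) (Nat.ble 46 c)
noncomputable def Atab_s_34_51 (c : Nat) : Nat := @Bool.rec (fun _ => Nat) (Atab_s_34_42 c) (Atab_s_42_51 c) (Nat.ble 42 c)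
noncomputable def Atab_s_51_53 (c : Nat) : Nat := @Bool.rec (fun _ => Nat) (Atab_51) (Atab_52) (Nat.ble 52 c)
noncomputable def Atab_s_53_55 (c : Nat) : Nat := @Bool.rec (fun _ => Nat) (Atab_53) (Atab_54) (Nat.ble 54 c)
noncomputable def Atab_s_51_55 (c : Nat) : Nat := @Bool.rec (fun _ => Nat) (Atab_s_51_53 c) (Atab_s_53_55 c) (Nat.ble 53 c)
noncomputable def Atab_s_55_57 (c : Nat) : Nat := @Bool.rec (fun _ => Nat) (Atab_55) (Atab_56) (Nat.ble 56 c)
noncomputable def Atab_s_57_59 (c : Nat) : Nat := @Bool.rec (fun _ => Nat) (Atab_57) (Atab_58) (Nat.ble 58 c)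
noncomputable def Atab_s_55_59 (c : Nat) : Nat := @Bool.rec (fun _ => Nat) (Atab_s_55_57 c) (Atab_s_57_59 c) (Nat.ble 57 c)
noncomputable def Atab_s_51_59 (c : Nat) : Nat := @Bool.rec (fun _ => Nat) (Atab_s_51_55 c) (Atab_s_55_59 c) (Nat.ble 55 c)
noncomputable def Atab_s_59_61 (c : Nat) : Nat := @Bool.rec (fun _ => Nat) (Atab_59) (Atab_60) (Nat.ble 60 c)
noncomputable def Atab_s_61_63 (c : Nat) : Nat := @Bool.rec (fun _ => Nat) (Atab_61) (Atab_62) (Nat.ble 62 c)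
noncomputable def Atab_s_59_63 (c : Nat) : Nat := @Bool.rec (fun _ => Nat) (Atab_s_59_61 c) (Atab_s_61_63 c) (Nat.ble 61 c)
noncomputable def Atab_s_63_65 (c : Nat) : Nat := @Bool.rec (fun _ => Nat) (Atab_63) (Atab_64) (Nat.ble 64 c)
noncomputable def Atab_s_66_68 (c : Nat) : Nat := @Bool.rec (fun _ => Nat) (Atab_66) (Atab_67) (Nat.ble 67 c)
noncomputable def Atab_s_65_68 (c : Nat) : Nat := @Bool.rec (fun _ => Nat) (Atab_65) (Atab_s_66_68 c) (Nat.ble 66 c)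
noncomputable def Atab_s_63_68 (c : Nat) : Nat := @Bool.rec (fun _ => Nat) (Atab_s_63_65 c) (Atab_s_65_68 c) (Nat.ble 65 c)
noncomputable def Atab_s_59_68 (c : Nat) : Nat := @Bool.rec (fun _ => Nat) (Atab_s_59_63 c) (Atab_s_63_68 c) (Nat.ble 63 c)
noncomputable def Atab_s_51_68 (c : Nat) : Nat := @Bool.rec (fun _ => Nat) (Atab_s_51_59 c) (Atab_s_59_68 c) (Nat.ble 59 c)
noncomputable def Atab_s_34_68 (c : Nat) : Nat := @Bool.rec (fun _ => Nat) (Atab_s_34_51 c) (Atab_s_51_68 c) (Nat.ble 51 c)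
noncomputable def Atab_s_0_68 (c : Nat) : Nat := @Bool.rec (fun _ => Nat) (Atab_s_0_34 c) (Atab_s_34_68 c) (Nat.ble 34 c)
noncomputable def Atab_s_68_70 (c : Nat) : Nat := @Bool.rec (fun _ => Nat) (Atab_68) (Atab_69) (Nat.ble 69 c)
noncomputable def Atab_s_70_72 (c : Nat) : Nat := @Bool.rec (fun _ => Nat) (Atab_70) (Atab_71) (Nat.ble 71 c)
noncomputable def Atab_s_68_72 (c : Nat) : Nat := @Bool.rec (fun _ => Nat) (Atab_s_68_70 c) (Atab_s_70_72 c) (Nat.ble 70 c)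
noncomputable def Atab_s_72_74 (c : Nat) : Nat := @Bool.rec (fun _ => Nat) (Atab_72) (Atab_73) (Nat.ble 73 c)
noncomputable def Atab_s_74_76 (c : Nat) : Nat := @Bool.rec (fun _ => Nat) (Atab_74) (Atab_75) (Nat.ble 75 c)
noncomputable def Atab_s_72_76 (c : Nat) : Nat := @Bool.rec (fun _ => Nat) (Atab_s_72_74 c) (Atab_s_74_76 c) (Nat.ble 74 c)
noncomputable def Atab_s_68_76 (c : Nat) : Nat := @Bool.rec (fun _ => Nat) (Atab_s_68_72 c) (Atab_s_72_76 c) (Nat.ble 72 c)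
noncomputable def Atab_s_76_78 (c : Nat) : Nat := @Bool.rec (fun _ => Nat) (Atab_76) (Atab_77) (Nat.ble 77 c)
noncomputable def Atab_s_78_80 (c : Nat) : Nat := @Bool.rec (fun _ => Nat) (Atab_78) (Atab_79) (Nat.ble 79 c)
noncomputable def Atab_s_76_80 (c : Nat) : Nat := @Bool.rec (fun _ => Nat) (Atab_s_76_78 c) (Atab_s_78_80 c) (Nat.ble 78 c)
noncomputable def Atab_s_80_82 (c : Nat) : Nat := @Bool.rec (fun _ => Nat) (Atab_80) (Atab_81) (Nat.ble 81 c)
noncomputable def Atab_s_83_85 (c : Nat) : Nat := @Bool.rec (fun _ => Nat) (Atab_83) (Atab_84) (Nat.ble 84 c)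
noncomputable def Atab_s_82_85 (c : Nat) : Nat := @Bool.rec (fun _ => Nat) (Atab_82) (Atab_s_83_85 c) (Nat.ble 83 c)
noncomputable def Atab_s_80_85 (c : Nat) : Nat := @Bool.rec (fun _ => Nat) (Atab_s_80_82 c) (Atab_s_82_85 c) (Nat.ble 82 c)
noncomputable def Atab_s_76_85 (c : Nat) : Nat := @Bool.rec (fun _ => Nat) (Atab_s_76_80 c) (Atab_s_80_85 c) (Nat.ble 80 c)
noncomputable def Atab_s_68_85 (c : Nat) : Nat := @Bool.rec (fun _ => Nat) (Atab_s_68_76 c) (Atab_s_76_85 c) (Nat.ble 76 c)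
noncomputable def Atab_s_85_87 (c : Nat) : Nat := @Bool.rec (fun _ => Nat) (Atab_85) (Atab_86) (Nat.ble 86 c)
noncomputable def Atab_s_87_89 (c : Nat) : Nat := @Bool.rec (fun _ => Nat) (Atab_87) (Atab_88) (Nat.ble 88 c)
noncomputable def Atab_s_85_89 (c : Nat) : Nat := @Bool.rec (fun _ => Nat) (Atab_s_85_87 c) (Atab_s_87_89 c) (Nat.ble 87 c)
noncomputable def Atab_s_89_91 (c : Nat) : Nat := @Bool.rec (fun _ => Nat) (Atab_89) (Atab_90) (Nat.ble 90 c)
noncomputable def Atab_s_91_93 (c : Nat) : Nat := @Bool.rec (fun _ => Nat) (Atab_91) (Atab_92) (Nat.ble 92 c)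
noncomputable def Atab_s_89_93 (c : Nat) : Nat := @Bool.rec (fun _ => Nat) (Atab_s_89_91 c) (Atab_s_91_93 c) (Nat.ble 91 c)
noncomputable def Atab_s_85_93 (c : Nat) : Nat := @Bool.rec (fun _ => Nat) (Atab_s_85_89 c) (Atab_s_89_93 c) (Nat.ble 89 c)
noncomputable def Atab_s_93_95 (c : Nat) : Nat := @Bool.rec (fun _ => Nat) (Atab_93) (Atab_94) (Nat.ble 94 c)
noncomputable def Atab_s_95_97 (c : Nat) : Nat := @Bool.rec (fun _ => Nat) (Atab_95) (Atab_96) (Nat.ble 96 c)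
noncomputable def Atab_s_93_97 (c : Nat) : Nat := @Bool.rec (fun _ => Nat) (Atab_s_93_95 c) (Atab_s_95_97 c) (Nat.ble 95 c)
noncomputable def Atab_s_97_99 (c : Nat) : Nat := @Bool.rec (fun _ => Nat) (Atab_97) (Atab_98) (Nat.ble 98 c)
noncomputable def Atab_s_100_102 (c : Nat) : Nat := @Bool.rec (fun _ => Nat) (Atab_100) (Atab_101) (Nat.ble 101 c)
noncomputable def Atab_s_99_102 (c : Nat) : Nat := @Bool.rec (fun _ => Nat) (Atab_99) (Atab_s_100_102 c) (Nat.ble 100 c)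
noncomputable def Atab_s_97_102 (c : Nat) : Nat := @Bool.rec (fun _ => Nat) (Atab_s_97_99 c) (Atab_s_99_102 c) (Nat.ble 99 c)
noncomputable def Atab_s_93_102 (c : Nat) : Nat := @Bool.rec (fun _ => Nat) (Atab_s_93_97 c) (Atab_s_97_102 c) (Nat.ble 97 c)
noncomputable def Atab_s_85_102 (c : Nat) : Nat := @Bool.rec (fun _ => Nat) (Atab_s_85_93 c) (Atab_s_93_102 c) (Nat.ble 93 c)
noncomputable def Atab_s_68_102 (c : Nat) : Nat := @Bool.rec (fun _ => Nat) (Atab_s_68_85 c) (Atab_s_85_102 c) (Nat.ble 85 c)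
noncomputable def Atab_s_102_104 (c : Nat) : Nat := @Bool.rec (fun _ => Nat) (Atab_102) (Atab_103) (Nat.ble 103 c)
noncomputable def Atab_s_104_106 (c : Nat) : Nat := @Bool.rec (fun _ => Nat) (Atab_104) (Atab_105) (Nat.ble 105 c)
noncomputable def Atab_s_102_106 (c : Nat) : Nat := @Bool.rec (fun _ => Nat) (Atab_s_102_104 c) (Atab_s_104_106 c) (Nat.ble 104 c)
noncomputable def Atab_s_106_108 (c : Nat) : Nat := @Bool.rec (fun _ => Nat) (Atab_106) (Atab_107) (Nat.ble 107 c)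
noncomputable def Atab_s_108_110 (c : Nat) : Nat := @Bool.rec (fun _ => Nat) (Atab_108) (Atab_109) (Nat.ble 109 c)
noncomputable def Atab_s_106_110 (c : Nat) : Nat := @Bool.rec (fun _ => Nat) (Atab_s_106_108 c) (Atab_s_108_110 c) (Nat.ble 108 c)
noncomputable def Atab_s_102_110 (c : Nat) : Nat := @Bool.rec (fun _ => Nat) (Atab_s_102_106 c) (Atab_s_106_110 c) (Nat.ble 106 c)
noncomputable def Atab_s_110_112 (c : Nat) : Nat := @Bool.rec (fun _ => Nat) (Atab_110) (Atab_111) (Nat.ble 111 c)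
noncomputable def Atab_s_112_114 (c : Nat) : Nat := @Bool.rec (fun _ => Nat) (Atab_112) (Atab_113) (Nat.ble 113 c)
noncomputable def Atab_s_110_114 (c : Nat) : Nat := @Bool.rec (fun _ => Nat) (Atab_s_110_112 c) (Atab_s_112_114 c) (Nat.ble 112 c)
noncomputable def Atab_s_114_116 (c : Nat) : Nat := @Bool.rec (fun _ => Nat) (Atab_114) (Atab_115) (Nat.ble 115 c)
noncomputable def Atab_s_117_119 (c : Nat) : Nat := @Bool.rec (fun _ => Nat) (Atab_117) (Atab_118) (Nat.ble 118 c)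
noncomputable def Atab_s_116_119 (c : Nat) : Nat := @Bool.rec (fun _ => Nat) (Atab_116) (Atab_s_117_119 c) (Nat.ble 117 c)
noncomputable def Atab_s_114_119 (c : Nat) : Nat := @Bool.rec (fun _ => Nat) (Atab_s_114_116 c) (Atab_s_116_119 c) (Nat.ble 116 c)
noncomputable def Atab_s_110_119 (c : Nat) : Nat := @Bool.rec (fun _ => Nat) (Atab_s_110_114 c) (Atab_s_114_119 c) (Nat.ble 114 c)
noncomputable def Atab_s_102_119 (c : Nat) : Nat := @Bool.rec (fun _ => Nat) (Atab_s_102_110 c) (Atab_s_110_119 c) (Nat.ble 110 c)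
noncomputable def Atab_s_119_121 (c : Nat) : Nat := @Bool.rec (fun _ => Nat) (Atab_119) (Atab_120) (Nat.ble 120 c)
noncomputable def Atab_s_121_123 (c : Nat) : Nat := @Bool.rec (fun _ => Nat) (Atab_121) (Atab_122) (Nat.ble 122 c)
noncomputable def Atab_s_119_123 (c : Nat) : Nat := @Bool.rec (fun _ => Nat) (Atab_s_119_121 c) (Atab_s_121_123 c) (Nat.ble 121 c)
noncomputable def Atab_s_123_125 (c : Nat) : Nat := @Bool.rec (fun _ => Nat) (Atab_123) (Atab_124) (Nat.ble 124 c)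
noncomputable def Atab_s_126_128 (c : Nat) : Nat := @Bool.rec (fun _ => Nat) (Atab_126) (Atab_127) (Nat.ble 127 c)
noncomputable def Atab_s_125_128 (c : Nat) : Nat := @Bool.rec (fun _ => Nat) (Atab_125) (Atab_s_126_128 c) (Nat.ble 126 c)
noncomputable def Atab_s_123_128 (c : Nat) : Nat := @Bool.rec (fun _ => Nat) (Atab_s_123_125 c) (Atab_s_125_128 c) (Nat.ble 125 c)
noncomputable def Atab_s_119_128 (c : Nat) : Nat := @Bool.rec (fun _ => Nat) (Atab_s_119_123 c) (Atab_s_123_128 c) (Nat.ble 123 c)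
noncomputable def Atab_s_128_130 (c : Nat) : Nat := @Bool.rec (fun _ => Nat) (Atab_128) (Atab_129) (Nat.ble 129 c)
noncomputable def Atab_s_130_132 (c : Nat) : Nat := @Bool.rec (fun _ => Nat) (Atab_130) (Atab_131) (Nat.ble 131 c)
noncomputable def Atab_s_128_132 (c : Nat) : Nat := @Bool.rec (fun _ => Nat) (Atab_s_128_130 c) (Atab_s_130_132 c) (Nat.ble 130 c)
noncomputable def Atab_s_132_134 (c : Nat) : Nat := @Bool.rec (fun _ => Nat) (Atab_132) (Atab_133) (Nat.ble 133 c)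
noncomputable def Atab_s_135_137 (c : Nat) : Nat := @Bool.rec (fun _ => Nat) (Atab_135) (Atab_136) (Nat.ble 136 c)
noncomputable def Atab_s_134_137 (c : Nat) : Nat := @Bool.rec (fun _ => Nat) (Atab_134) (Atab_s_135_137 c) (Nat.ble 135 c)
noncomputable def Atab_s_132_137 (c : Nat) : Nat := @Bool.rec (fun _ => Nat) (Atab_s_132_134 c) (Atab_s_134_137 c) (Nat.ble 134 c)
noncomputable def Atab_s_128_137 (c : Nat) : Nat := @Bool.rec (fun _ => Nat) (Atab_s_128_132 c) (Atab_s_132_137 c) (Nat.ble 132 c)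
noncomputable def Atab_s_119_137 (c : Nat) : Nat := @Bool.rec (fun _ => Nat) (Atab_s_119_128 c) (Atab_s_128_137 c) (Nat.ble 128 c)
noncomputable def Atab_s_102_137 (c : Nat) : Nat := @Bool.rec (fun _ => Nat) (Atab_s_102_119 c) (Atab_s_119_137 c) (Nat.ble 119 c)
noncomputable def Atab_s_68_137 (c : Nat) : Nat := @Bool.rec (fun _ => Nat) (Atab_s_68_102 c) (Atab_s_102_137 c) (Nat.ble 102 c)
noncomputable def Atab_s_0_137 (c : Nat) : Nat := @Bool.rec (fun _ => Nat) (Atab_s_0_68 c) (Atab_s_68_137 c) (Nat.ble 68 c)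
noncomputable def Atab_s_137_139 (c : Nat) : Nat := @Bool.rec (fun _ => Nat) (Atab_137) (Atab_138) (Nat.ble 138 c)
noncomputable def Atab_s_139_141 (c : Nat) : Nat := @Bool.rec (fun _ => Nat) (Atab_139) (Atab_140) (Nat.ble 140 c)
noncomputable def Atab_s_137_141 (c : Nat) : Nat := @Bool.rec (fun _ => Nat) (Atab_s_137_139 c) (Atab_s_139_141 c) (Nat.ble 139 c)
noncomputable def Atab_s_141_143 (c : Nat) : Nat := @Bool.rec (fun _ => Nat) (Atab_141) (Atab_142) (Nat.ble 142 c)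
noncomputable def Atab_s_143_145 (c : Nat) : Nat := @Bool.rec (fun _ => Nat) (Atab_143) (Atab_144) (Nat.ble 144 c)
noncomputable def Atab_s_141_145 (c : Nat) : Nat := @Bool.rec (fun _ => Nat) (Atab_s_141_143 c) (Atab_s_143_145 c) (Nat.ble 143 c)
noncomputable def Atab_s_137_145 (c : Nat) : Nat := @Bool.rec (fun _ => Nat) (Atab_s_137_141 c) (Atab_s_141_145 c) (Nat.ble 141 c)
noncomputable def Atab_s_145_147 (c : Nat) : Nat := @Bool.rec (fun _ => Nat) (Atab_145) (Atab_146) (Nat.ble 146 c)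
noncomputable def Atab_s_147_149 (c : Nat) : Nat := @Bool.rec (fun _ => Nat) (Atab_147) (Atab_148) (Nat.ble 148 c)
noncomputable def Atab_s_145_149 (c : Nat) : Nat := @Bool.rec (fun _ => Nat) (Atab_s_145_147 c) (Atab_s_147_149 c) (Nat.ble 147 c)
noncomputable def Atab_s_149_151 (c : Nat) : Nat := @Bool.rec (fun _ => Nat) (Atab_149) (Atab_150) (Nat.ble 150 c)
noncomputable def Atab_s_152_154 (c : Nat) : Nat := @Bool.rec (fun _ => Nat) (Atab_152) (Atab_153) (Nat.ble 153 c)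
noncomputable def Atab_s_151_154 (c : Nat) : Nat := @Bool.rec (fun _ => Nat) (Atab_151) (Atab_s_152_154 c) (Nat.ble 152 c)
noncomputable def Atab_s_149_154 (c : Nat) : Nat := @Bool.rec (fun _ => Nat) (Atab_s_149_151 c) (Atab_s_151_154 c) (Nat.ble 151 c)
noncomputable def Atab_s_145_154 (c : Nat) : Nat := @Bool.rec (fun _ => Nat) (Atab_s_145_149 c) (Atab_s_149_154 c) (Nat.ble 149 c)
noncomputable def Atab_s_137_154 (c : Nat) : Nat := @Bool.rec (fun _ => Nat) (Atab_s_137_145 c) (Atab_s_145_154 c) (Nat.ble 145 c)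
noncomputable def Atab_s_154_156 (c : Nat) : Nat := @Bool.rec (fun _ => Nat) (Atab_154) (Atab_155) (Nat.ble 155 c)
noncomputable def Atab_s_156_158 (c : Nat) : Nat := @Bool.rec (fun _ => Nat) (Atab_156) (Atab_157) (Nat.ble 157 c)
noncomputable def Atab_s_154_158 (c : Nat) : Nat := @Bool.rec (fun _ => Nat) (Atab_s_154_156 c) (Atab_s_156_158 c) (Nat.ble 156 c)
noncomputable def Atab_s_158_160 (c : Nat) : Nat := @Bool.rec (fun _ => Nat) (Atab_158) (Atab_159) (Nat.ble 159 c)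
noncomputable def Atab_s_160_162 (c : Nat) : Nat := @Bool.rec (fun _ => Nat) (Atab_160) (Atab_161) (Nat.ble 161 c)
noncomputable def Atab_s_158_162 (c : Nat) : Nat := @Bool.rec (fun _ => Nat) (Atab_s_158_160 c) (Atab_s_160_162 c) (Nat.ble 160 c)
noncomputable def Atab_s_154_162 (c : Nat) : Nat := @Bool.rec (fun _ => Nat) (Atab_s_154_158 c) (Atab_s_158_162 c) (Nat.ble 158 c)
noncomputable def Atab_s_162_164 (c : Nat) : Nat := @Bool.rec (fun _ => Nat) (Atab_162) (Atab_163) (Nat.ble 163 c)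
noncomputable def Atab_s_164_166 (c : Nat) : Nat := @Bool.rec (fun _ => Nat) (Atab_164) (Atab_165) (Nat.ble 165 c)
noncomputable def Atab_s_162_166 (c : Nat) : Nat := @Bool.rec (fun _ => Nat) (Atab_s_162_164 c) (Atab_s_164_166 c) (Nat.ble 164 c)
noncomputable def Atab_s_166_168 (c : Nat) : Nat := @Bool.rec (fun _ => Nat) (Atab_166) (Atab_167) (Nat.ble 167 c)
noncomputable def Atab_s_169_171 (c : Nat) : Nat := @Bool.rec (fun _ => Nat) (Atab_169) (Atab_170) (Nat.ble 170 c)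
noncomputable def Atab_s_168_171 (c : Nat) : Nat := @Bool.rec (fun _ => Nat) (Atab_168) (Atab_s_169_171 c) (Nat.ble 169 c)
noncomputable def Atab_s_166_171 (c : Nat) : Nat := @Bool.rec (fun _ => Nat) (Atab_s_166_168 c) (Atab_s_168_171 c) (Nat.ble 168 c)
noncomputable def Atab_s_162_171 (c : Nat) : Nat := @Bool.rec (fun _ => Nat) (Atab_s_162_166 c) (Atab_s_166_171 c) (Nat.ble 166 c)
noncomputable def Atab_s_154_171 (c : Nat) : Nat := @Bool.rec (fun _ => Nat) (Atab_s_154_162 c) (Atab_s_162_171 c) (Nat.ble 162 c)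
noncomputable def Atab_s_137_171 (c : Nat) : Nat := @Bool.rec (fun _ => Nat) (Atab_s_137_154 c) (Atab_s_154_171 c) (Nat.ble 154 c)
noncomputable def Atab_s_171_173 (c : Nat) : Nat := @Bool.rec (fun _ => Nat) (Atab_171) (Atab_172) (Nat.ble 172 c)
noncomputable def Atab_s_173_175 (c : Nat) : Nat := @Bool.rec (fun _ => Nat) (Atab_173) (Atab_174) (Nat.ble 174 c)
noncomputable def Atab_s_171_175 (c : Nat) : Nat := @Bool.rec (fun _ => Nat) (Atab_s_171_173 c) (Atab_s_173_175 c) (Nat.ble 173 c)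
noncomputable def Atab_s_175_177 (c : Nat) : Nat := @Bool.rec (fun _ => Nat) (Atab_175) (Atab_176) (Nat.ble 176 c)
noncomputable def Atab_s_177_179 (c : Nat) : Nat := @Bool.rec (fun _ => Nat) (Atab_177) (Atab_178) (Nat.ble 178 c)
noncomputable def Atab_s_175_179 (c : Nat) : Nat := @Bool.rec (fun _ => Nat) (Atab_s_175_177 c) (Atab_s_177_179 c) (Nat.ble 177 c)
noncomputable def Atab_s_171_179 (c : Nat) : Nat := @Bool.rec (fun _ => Nat) (Atab_s_171_175 c) (Atab_s_175_179 c) (Nat.ble 175 c)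
noncomputable def Atab_s_179_181 (c : Nat) : Nat := @Bool.rec (fun _ => Nat) (Atab_179) (Atab_180) (Nat.ble 180 c)
noncomputable def Atab_s_181_183 (c : Nat) : Nat := @Bool.rec (fun _ => Nat) (Atab_181) (Atab_182) (Nat.ble 182 c)
noncomputable def Atab_s_179_183 (c : Nat) : Nat := @Bool.rec (fun _ => Nat) (Atab_s_179_181 c) (Atab_s_181_183 c) (Nat.ble 181 c)
noncomputable def Atab_s_183_185 (c : Nat) : Nat := @Bool.rec (fun _ => Nat) (Atab_183) (Atab_184) (Nat.ble 184 c)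
noncomputable def Atab_s_186_188 (c : Nat) : Nat := @Bool.rec (fun _ => Nat) (Atab_186) (Atab_187) (Nat.ble 187 c)
noncomputable def Atab_s_185_188 (c : Nat) : Nat := @Bool.rec (fun _ => Nat) (Atab_185) (Atab_s_186_188 c) (Nat.ble 186 c)
noncomputable def Atab_s_183_188 (c : Nat) : Nat := @Bool.rec (fun _ => Nat) (Atab_s_183_185 c) (Atab_s_185_188 c) (Nat.ble 185 c)
noncomputable def Atab_s_179_188 (c : Nat) : Nat := @Bool.rec (fun _ => Nat) (Atab_s_179_183 c) (Atab_s_183_188 c) (Nat.ble 183 c)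
noncomputable def Atab_s_171_188 (c : Nat) : Nat := @Bool.rec (fun _ => Nat) (Atab_s_171_179 c) (Atab_s_179_188 c) (Nat.ble 179 c)
noncomputable def Atab_s_188_190 (c : Nat) : Nat := @Bool.rec (fun _ => Nat) (Atab_188) (Atab_189) (Nat.ble 189 c)
noncomputable def Atab_s_190_192 (c : Nat) : Nat := @Bool.rec (fun _ => Nat) (Atab_190) (Atab_191) (Nat.ble 191 c)
noncomputable def Atab_s_188_192 (c : Nat) : Nat := @Bool.rec (fun _ => Nat) (Atab_s_188_190 c) (Atab_s_190_192 c) (Nat.ble 190 c)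
noncomputable def Atab_s_192_194 (c : Nat) : Nat := @Bool.rec (fun _ => Nat) (Atab_192) (Atab_193) (Nat.ble 193 c)
noncomputable def Atab_s_194_196 (c : Nat) : Nat := @Bool.rec (fun _ => Nat) (Atab_194) (Atab_195) (Nat.ble 195 c)
noncomputable def Atab_s_192_196 (c : Nat) : Nat := @Bool.rec (fun _ => Nat) (Atab_s_192_194 c) (Atab_s_194_196 c) (Nat.ble 194 c)
noncomputable def Atab_s_188_196 (c : Nat) : Nat := @Bool.rec (fun _ => Nat) (Atab_s_188_192 c) (Atab_s_192_196 c) (Nat.ble 192 c)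
noncomputable def Atab_s_196_198 (c : Nat) : Nat := @Bool.rec (fun _ => Nat) (Atab_196) (Atab_197) (Nat.ble 197 c)
noncomputable def Atab_s_198_200 (c : Nat) : Nat := @Bool.rec (fun _ => Nat) (Atab_198) (Atab_199) (Nat.ble 199 c)
noncomputable def Atab_s_196_200 (c : Nat) : Nat := @Bool.rec (fun _ => Nat) (Atab_s_196_198 c) (Atab_s_198_200 c) (Nat.ble 198 c)
noncomputable def Atab_s_200_202 (c : Nat) : Nat := @Bool.rec (fun _ => Nat) (Atab_200) (Atab_201) (Nat.ble 201 c)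
noncomputable def Atab_s_203_205 (c : Nat) : Nat := @Bool.rec (fun _ => Nat) (Atab_203) (Atab_204) (Nat.ble 204 c)
noncomputable def Atab_s_202_205 (c : Nat) : Nat := @Bool.rec (fun _ => Nat) (Atab_202) (Atab_s_203_205 c) (Nat.ble 203 c)
noncomputable def Atab_s_200_205 (c : Nat) : Nat := @Bool.rec (fun _ => Nat) (Atab_s_200_202 c) (Atab_s_202_205 c) (Nat.ble 202 c)
noncomputable def Atab_s_196_205 (c : Nat) : Nat := @Bool.rec (fun _ => Nat) (Atab_s_196_200 c) (Atab_s_200_205 c) (Nat.ble 200 c)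
noncomputable def Atab_s_188_205 (c : Nat) : Nat := @Bool.rec (fun _ => Nat) (Atab_s_188_196 c) (Atab_s_196_205 c) (Nat.ble 196 c)
noncomputable def Atab_s_171_205 (c : Nat) : Nat := @Bool.rec (fun _ => Nat) (Atab_s_171_188 c) (Atab_s_188_205 c) (Nat.ble 188 c)
noncomputable def Atab_s_137_205 (c : Nat) : Nat := @Bool.rec (fun _ => Nat) (Atab_s_137_171 c) (Atab_s_171_205 c) (Nat.ble 171 c)
noncomputable def Atab_s_205_207 (c : Nat) : Nat := @Bool.rec (fun _ => Nat) (Atab_205) (Atab_206) (Nat.ble 206 c)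
noncomputable def Atab_s_207_209 (c : Nat) : Nat := @Bool.rec (fun _ => Nat) (Atab_207) (Atab_208) (Nat.ble 208 c)
noncomputable def Atab_s_205_209 (c : Nat) : Nat := @Bool.rec (fun _ => Nat) (Atab_s_205_207 c) (Atab_s_207_209 c) (Nat.ble 207 c)
noncomputable def Atab_s_209_211 (c : Nat) : Nat := @Bool.rec (fun _ => Nat) (Atab_209) (Atab_210) (Nat.ble 210 c)
noncomputable def Atab_s_211_213 (c : Nat) : Nat := @Bool.rec (fun _ => Nat) (Atab_211) (Atab_212) (Nat.ble 212 c)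
noncomputable def Atab_s_209_213 (c : Nat) : Nat := @Bool.rec (fun _ => Nat) (Atab_s_209_211 c) (Atab_s_211_213 c) (Nat.ble 211 c)
noncomputable def Atab_s_205_213 (c : Nat) : Nat := @Bool.rec (fun _ => Nat) (Atab_s_205_209 c) (Atab_s_209_213 c) (Nat.ble 209 c)
noncomputable def Atab_s_213_215 (c : Nat) : Nat := @Bool.rec (fun _ => Nat) (Atab_213) (Atab_214) (Nat.ble 214 c)
noncomputable def Atab_s_215_217 (c : Nat) : Nat := @Bool.rec (fun _ => Nat) (Atab_215) (Atab_216) (Nat.ble 216 c)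
noncomputable def Atab_s_213_217 (c : Nat) : Nat := @Bool.rec (fun _ => Nat) (Atab_s_213_215 c) (Atab_s_215_217 c) (Nat.ble 215 c)
noncomputable def Atab_s_217_219 (c : Nat) : Nat := @Bool.rec (fun _ => Nat) (Atab_217) (Atab_218) (Nat.ble 218 c)
noncomputable def Atab_s_220_222 (c : Nat) : Nat := @Bool.rec (fun _ => Nat) (Atab_220) (Atab_221) (Nat.ble 221 c)
noncomputable def Atab_s_219_222 (c : Nat) : Nat := @Bool.rec (fun _ => Nat) (Atab_219) (Atab_s_220_222 c) (Nat.ble 220 c)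
noncomputable def Atab_s_217_222 (c : Nat) : Nat := @Bool.rec (fun _ => Nat) (Atab_s_217_219 c) (Atab_s_219_222 c) (Nat.ble 219 c)
noncomputable def Atab_s_213_222 (c : Nat) : Nat := @Bool.rec (fun _ => Nat) (Atab_s_213_217 c) (Atab_s_217_222 c) (Nat.ble 217 c)
noncomputable def Atab_s_205_222 (c : Nat) : Nat := @Bool.rec (fun _ => Nat) (Atab_s_205_213 c) (Atab_s_213_222 c) (Nat.ble 213 c)
noncomputable def Atab_s_222_224 (c : Nat) : Nat := @Bool.rec (fun _ => Nat) (Atab_222) (Atab_223) (Nat.ble 223 c)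
noncomputable def Atab_s_224_226 (c : Nat) : Nat := @Bool.rec (fun _ => Nat) (Atab_224) (Atab_225) (Nat.ble 225 c)
noncomputable def Atab_s_222_226 (c : Nat) : Nat := @Bool.rec (fun _ => Nat) (Atab_s_222_224 c) (Atab_s_224_226 c) (Nat.ble 224 c)
noncomputable def Atab_s_226_228 (c : Nat) : Nat := @Bool.rec (fun _ => Nat) (Atab_226) (Atab_227) (Nat.ble 227 c)
noncomputable def Atab_s_228_230 (c : Nat) : Nat := @Bool.rec (fun _ => Nat) (Atab_228) (Atab_229) (Nat.ble 229 c)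
noncomputable def Atab_s_226_230 (c : Nat) : Nat := @Bool.rec (fun _ => Nat) (Atab_s_226_228 c) (Atab_s_228_230 c) (Nat.ble 228 c)
noncomputable def Atab_s_222_230 (c : Nat) : Nat := @Bool.rec (fun _ => Nat) (Atab_s_222_226 c) (Atab_s_226_230 c) (Nat.ble 226 c)
noncomputable def Atab_s_230_232 (c : Nat) : Nat := @Bool.rec (fun _ => Nat) (Atab_230) (Atab_231) (Nat.ble 231 c)
noncomputable def Atab_s_232_234 (c : Nat) : Nat := @Bool.rec (fun _ => Nat) (Atab_232) (Atab_233) (Nat.ble 233 c)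
noncomputable def Atab_s_230_234 (c : Nat) : Nat := @Bool.rec (fun _ => Nat) (Atab_s_230_232 c) (Atab_s_232_234 c) (Nat.ble 232 c)
noncomputable def Atab_s_234_236 (c : Nat) : Nat := @Bool.rec (fun _ => Nat) (Atab_234) (Atab_235) (Nat.ble 235 c)
noncomputable def Atab_s_237_239 (c : Nat) : Nat := @Bool.rec (fun _ => Nat) (Atab_237) (Atab_238) (Nat.ble 238 c)
noncomputable def Atab_s_236_239 (c : Nat) : Nat := @Bool.rec (fun _ => Nat) (Atab_236) (Atab_s_237_239 c) (Nat.ble 237 c)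
noncomputable def Atab_s_234_239 (c : Nat) : Nat := @Bool.rec (fun _ => Nat) (Atab_s_234_236 c) (Atab_s_236_239 c) (Nat.ble 236 c)
noncomputable def Atab_s_230_239 (c : Nat) : Nat := @Bool.rec (fun _ => Nat) (Atab_s_230_234 c) (Atab_s_234_239 c) (Nat.ble 234 c)
noncomputable def Atab_s_222_239 (c : Nat) : Nat := @Bool.rec (fun _ => Nat) (Atab_s_222_230 c) (Atab_s_230_239 c) (Nat.ble 230 c)
noncomputable def Atab_s_205_239 (c : Nat) : Nat := @Bool.rec (fun _ => Nat) (Atab_s_205_222 c) (Atab_s_222_239 c) (Nat.ble 222 c)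
noncomputable def Atab_s_239_241 (c : Nat) : Nat := @Bool.rec (fun _ => Nat) (Atab_239) (Atab_240) (Nat.ble 240 c)
noncomputable def Atab_s_241_243 (c : Nat) : Nat := @Bool.rec (fun _ => Nat) (Atab_241) (Atab_242) (Nat.ble 242 c)
noncomputable def Atab_s_239_243 (c : Nat) : Nat := @Bool.rec (fun _ => Nat) (Atab_s_239_241 c) (Atab_s_241_243 c) (Nat.ble 241 c)
noncomputable def Atab_s_243_245 (c : Nat) : Nat := @Bool.rec (fun _ => Nat) (Atab_243) (Atab_244) (Nat.ble 244 c)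
noncomputable def Atab_s_245_247 (c : Nat) : Nat := @Bool.rec (fun _ => Nat) (Atab_245) (Atab_246) (Nat.ble 246 c)
noncomputable def Atab_s_243_247 (c : Nat) : Nat := @Bool.rec (fun _ => Nat) (Atab_s_243_245 c) (Atab_s_245_247 c) (Nat.ble 245 c)
noncomputable def Atab_s_239_247 (c : Nat) : Nat := @Bool.rec (fun _ => Nat) (Atab_s_239_243 c) (Atab_s_243_247 c) (Nat.ble 243 c)
noncomputable def Atab_s_247_249 (c : Nat) : Nat := @Bool.rec (fun _ => Nat) (Atab_247) (Atab_248) (Nat.ble 248 c)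
noncomputable def Atab_s_249_251 (c : Nat) : Nat := @Bool.rec (fun _ => Nat) (Atab_249) (Atab_250) (Nat.ble 250 c)
noncomputable def Atab_s_247_251 (c : Nat) : Nat := @Bool.rec (fun _ => Nat) (Atab_s_247_249 c) (Atab_s_249_251 c) (Nat.ble 249 c)
noncomputable def Atab_s_251_253 (c : Nat) : Nat := @Bool.rec (fun _ => Nat) (Atab_251) (Atab_252) (Nat.ble 252 c)
noncomputable def Atab_s_254_256 (c : Nat) : Nat := @Bool.rec (fun _ => Nat) (Atab_254) (Atab_255) (Nat.ble 255 c)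
noncomputable def Atab_s_253_256 (c : Nat) : Nat := @Bool.rec (fun _ => Nat) (Atab_253) (Atab_s_254_256 c) (Nat.ble 254 c)
noncomputable def Atab_s_251_256 (c : Nat) : Nat := @Bool.rec (fun _ => Nat) (Atab_s_251_253 c) (Atab_s_253_256 c) (Nat.ble 253 c)
noncomputable def Atab_s_247_256 (c : Nat) : Nat := @Bool.rec (fun _ => Nat) (Atab_s_247_251 c) (Atab_s_251_256 c) (Nat.ble 251 c)
noncomputable def Atab_s_239_256 (c : Nat) : Nat := @Bool.rec (fun _ => Nat) (Atab_s_239_247 c) (Atab_s_247_256 c) (Nat.ble 247 c)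
noncomputable def Atab_s_256_258 (c : Nat) : Nat := @Bool.rec (fun _ => Nat) (Atab_256) (Atab_257) (Nat.ble 257 c)
noncomputable def Atab_s_258_260 (c : Nat) : Nat := @Bool.rec (fun _ => Nat) (Atab_258) (Atab_259) (Nat.ble 259 c)
noncomputable def Atab_s_256_260 (c : Nat) : Nat := @Bool.rec (fun _ => Nat) (Atab_s_256_258 c) (Atab_s_258_260 c) (Nat.ble 258 c)
noncomputable def Atab_s_260_262 (c : Nat) : Nat := @Bool.rec (fun _ => Nat) (Atab_260) (Atab_261) (Nat.ble 261 c)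
noncomputable def Atab_s_263_265 (c : Nat) : Nat := @Bool.rec (fun _ => Nat) (Atab_263) (Atab_264) (Nat.ble 264 c)
noncomputable def Atab_s_262_265 (c : Nat) : Nat := @Bool.rec (fun _ => Nat) (Atab_262) (Atab_s_263_265 c) (Nat.ble 263 c)
noncomputable def Atab_s_260_265 (c : Nat) : Nat := @Bool.rec (fun _ => Nat) (Atab_s_260_262 c) (Atab_s_262_265 c) (Nat.ble 262 c)
noncomputable def Atab_s_256_265 (c : Nat) : Nat := @Bool.rec (fun _ => Nat) (Atab_s_256_260 c) (Atab_s_260_265 c) (Nat.ble 260 c)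
noncomputable def Atab_s_265_267 (c : Nat) : Nat := @Bool.rec (fun _ => Nat) (Atab_265) (Atab_266) (Nat.ble 266 c)
noncomputable def Atab_s_267_269 (c : Nat) : Nat := @Bool.rec (fun _ => Nat) (Atab_267) (Atab_268) (Nat.ble 268 c)
noncomputable def Atab_s_265_269 (c : Nat) : Nat := @Bool.rec (fun _ => Nat) (Atab_s_265_267 c) (Atab_s_267_269 c) (Nat.ble 267 c)
noncomputable def Atab_s_269_271 (c : Nat) : Nat := @Bool.rec (fun _ => Nat) (Atab_269) (Atab_270) (Nat.ble 270 c)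
noncomputable def Atab_s_272_274 (c : Nat) : Nat := @Bool.rec (fun _ => Nat) (Atab_272) (Atab_273) (Nat.ble 273 c)
noncomputable def Atab_s_271_274 (c : Nat) : Nat := @Bool.rec (fun _ => Nat) (Atab_271) (Atab_s_272_274 c) (Nat.ble 272 c)
noncomputable def Atab_s_269_274 (c : Nat) : Nat := @Bool.rec (fun _ => Nat) (Atab_s_269_271 c) (Atab_s_271_274 c) (Nat.ble 271 c)
noncomputable def Atab_s_265_274 (c : Nat) : Nat := @Bool.rec (fun _ => Nat) (Atab_s_265_269 c) (Atab_s_269_274 c) (Nat.ble 269 c)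
noncomputable def Atab_s_256_274 (c : Nat) : Nat := @Bool.rec (fun _ => Nat) (Atab_s_256_265 c) (Atab_s_265_274 c) (Nat.ble 265 c)
noncomputable def Atab_s_239_274 (c : Nat) : Nat := @Bool.rec (fun _ => Nat) (Atab_s_239_256 c) (Atab_s_256_274 c) (Nat.ble 256 c)
noncomputable def Atab_s_205_274 (c : Nat) : Nat := @Bool.rec (fun _ => Nat) (Atab_s_205_239 c) (Atab_s_239_274 c) (Nat.ble 239 c)
noncomputable def Atab_s_137_274 (c : Nat) : Nat := @Bool.rec (fun _ => Nat) (Atab_s_137_205 c) (Atab_s_205_274 c) (Nat.ble 205 c)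
noncomputable def Atab_s_0_274 (c : Nat) : Nat := @Bool.rec (fun _ => Nat) (Atab_s_0_137 c) (Atab_s_137_274 c) (Nat.ble 137 c)
noncomputable def Atab (i : Nat) : Nat := rdw 40 1099511627775 (Atab_s_0_274 (Nat.shiftRight i 11)) (Nat.land i 2047)
noncomputable def Btab_s_0_2 (c : Nat) : Nat := @Bool.rec (fun _ => Nat) (Btab_0) (Btab_1) (Nat.ble 1 c)
noncomputable def Btab_s_3_5 (c : Nat) : Nat := @Bool.rec (fun _ => Nat) (Btab_3) (Btab_4) (Nat.ble 4 c)
noncomputable def Btab_s_2_5 (c : Nat) : Nat := @Bool.rec (fun _ => Nat) (Btab_2) (Btab_s_3_5 c) (Nat.ble 3 c)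
noncomputable def Btab_s_0_5 (c : Nat) : Nat := @Bool.rec (fun _ => Nat) (Btab_s_0_2 c) (Btab_s_2_5 c) (Nat.ble 2 c)
noncomputable def Btab_s_5_7 (c : Nat) : Nat := @Bool.rec (fun _ => Nat) (Btab_5) (Btab_6) (Nat.ble 6 c)
noncomputable def Btab_s_8_10 (c : Nat) : Nat := @Bool.rec (fun _ => Nat) (Btab_8) (Btab_9) (Nat.ble 9 c)
noncomputable def Btab_s_7_10 (c : Nat) : Nat := @Bool.rec (fun _ => Nat) (Btab_7) (Btab_s_8_10 c) (Nat.ble 8 c)
noncomputable def Btab_s_5_10 (c : Nat) : Nat := @Bool.rec (fun _ => Nat) (Btab_s_5_7 c) (Btab_s_7_10 c) (Nat.ble 7 c)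
noncomputable def Btab_s_0_10 (c : Nat) : Nat := @Bool.rec (fun _ => Nat) (Btab_s_0_5 c) (Btab_s_5_10 c) (Nat.ble 5 c)
noncomputable def Btab_s_10_12 (c : Nat) : Nat := @Bool.rec (fun _ => Nat) (Btab_10) (Btab_11) (Nat.ble 11 c)
noncomputable def Btab_s_13_15 (c : Nat) : Nat := @Bool.rec (fun _ => Nat) (Btab_13) (Btab_14) (Nat.ble 14 c)
noncomputable def Btab_s_12_15 (c : Nat) : Nat := @Bool.rec (fun _ => Nat) (Btab_12) (Btab_s_13_15 c) (Nat.ble 13 c)
noncomputable def Btab_s_10_15 (c : Nat) : Nat := @Bool.rec (fun _ => Nat) (Btab_s_10_12 c) (Btab_s_12_15 c) (Nat.ble 12 c)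
noncomputable def Btab_s_16_18 (c : Nat) : Nat := @Bool.rec (fun _ => Nat) (Btab_16) (Btab_17) (Nat.ble 17 c)
noncomputable def Btab_s_15_18 (c : Nat) : Nat := @Bool.rec (fun _ => Nat) (Btab_15) (Btab_s_16_18 c) (Nat.ble 16 c)
noncomputable def Btab_s_19_21 (c : Nat) : Nat := @Bool.rec (fun _ => Nat) (Btab_19) (Btab_20) (Nat.ble 20 c)
noncomputable def Btab_s_18_21 (c : Nat) : Nat := @Bool.rec (fun _ => Nat) (Btab_18) (Btab_s_19_21 c) (Nat.ble 19 c)
noncomputable def Btab_s_15_21 (c : Nat) : Nat := @Bool.rec (fun _ => Nat) (Btab_s_15_18 c) (Btab_s_18_21 c) (Nat.ble 18 c)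
noncomputable def Btab_s_10_21 (c : Nat) : Nat := @Bool.rec (fun _ => Nat) (Btab_s_10_15 c) (Btab_s_15_21 c) (Nat.ble 15 c)
noncomputable def Btab_s_0_21 (c : Nat) : Nat := @Bool.rec (fun _ => Nat) (Btab_s_0_10 c) (Btab_s_10_21 c) (Nat.ble 10 c)
noncomputable def Btab_s_21_23 (c : Nat) : Nat := @Bool.rec (fun _ => Nat) (Btab_21) (Btab_22) (Nat.ble 22 c)
noncomputable def Btab_s_24_26 (c : Nat) : Nat := @Bool.rec (fun _ => Nat) (Btab_24) (Btab_25) (Nat.ble 25 c)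
noncomputable def Btab_s_23_26 (c : Nat) : Nat := @Bool.rec (fun _ => Nat) (Btab_23) (Btab_s_24_26 c) (Nat.ble 24 c)
noncomputable def Btab_s_21_26 (c : Nat) : Nat := @Bool.rec (fun _ => Nat) (Btab_s_21_23 c) (Btab_s_23_26 c) (Nat.ble 23 c)
noncomputable def Btab_s_27_29 (c : Nat) : Nat := @Bool.rec (fun _ => Nat) (Btab_27) (Btab_28) (Nat.ble 28 c)
noncomputable def Btab_s_26_29 (c : Nat) : Nat := @Bool.rec (fun _ => Nat) (Btab_26) (Btab_s_27_29 c) (Nat.ble 27 c)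
noncomputable def Btab_s_30_32 (c : Nat) : Nat := @Bool.rec (fun _ => Nat) (Btab_30) (Btab_31) (Nat.ble 31 c)
noncomputable def Btab_s_29_32 (c : Nat) : Nat := @Bool.rec (fun _ => Nat) (Btab_29) (Btab_s_30_32 c) (Nat.ble 30 c)
noncomputable def Btab_s_26_32 (c : Nat) : Nat := @Bool.rec (fun _ => Nat) (Btab_s_26_29 c) (Btab_s_29_32 c) (Nat.ble 29 c)
noncomputable def Btab_s_21_32 (c : Nat) : Nat := @Bool.rec (fun _ => Nat) (Btab_s_21_26 c) (Btab_s_26_32 c) (Nat.ble 26 c)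
noncomputable def Btab_s_32_34 (c : Nat) : Nat := @Bool.rec (fun _ => Nat) (Btab_32) (Btab_33) (Nat.ble 33 c)
noncomputable def Btab_s_35_37 (c : Nat) : Nat := @Bool.rec (fun _ => Nat) (Btab_35) (Btab_36) (Nat.ble 36 c)
noncomputable def Btab_s_34_37 (c : Nat) : Nat := @Bool.rec (fun _ => Nat) (Btab_34) (Btab_s_35_37 c) (Nat.ble 35 c)
noncomputable def Btab_s_32_37 (c : Nat) : Nat := @Bool.rec (fun _ => Nat) (Btab_s_32_34 c) (Btab_s_34_37 c) (Nat.ble 34 c)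
noncomputable def Btab_s_38_40 (c : Nat) : Nat := @Bool.rec (fun _ => Nat) (Btab_38) (Btab_39) (Nat.ble 39 c)
noncomputable def Btab_s_37_40 (c : Nat) : Nat := @Bool.rec (fun _ => Nat) (Btab_37) (Btab_s_38_40 c) (Nat.ble 38 c)
noncomputable def Btab_s_41_43 (c : Nat) : Nat := @Bool.rec (fun _ => Nat) (Btab_41) (Btab_42) (Nat.ble 42 c)
noncomputable def Btab_s_40_43 (c : Nat) : Nat := @Bool.rec (fun _ => Nat) (Btab_40) (Btab_s_41_43 c) (Nat.ble 41 c)
noncomputable def Btab_s_37_43 (c : Nat) : Nat := @Bool.rec (fun _ => Nat) (Btab_s_37_40 c) (Btab_s_40_43 c) (Nat.ble 40 c)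
noncomputable def Btab_s_32_43 (c : Nat) : Nat := @Bool.rec (fun _ => Nat) (Btab_s_32_37 c) (Btab_s_37_43 c) (Nat.ble 37 c)
noncomputable def Btab_s_21_43 (c : Nat) : Nat := @Bool.rec (fun _ => Nat) (Btab_s_21_32 c) (Btab_s_32_43 c) (Nat.ble 32 c)
noncomputable def Btab_s_0_43 (c : Nat) : Nat := @Bool.rec (fun _ => Nat) (Btab_s_0_21 c) (Btab_s_21_43 c) (Nat.ble 21 c)
noncomputable def Btab_s_43_45 (c : Nat) : Nat := @Bool.rec (fun _ => Nat) (Btab_43) (Btab_44) (Nat.ble 44 c)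
noncomputable def Btab_s_46_48 (c : Nat) : Nat := @Bool.rec (fun _ => Nat) (Btab_46) (Btab_47) (Nat.ble 47 c)
noncomputable def Btab_s_45_48 (c : Nat) : Nat := @Bool.rec (fun _ => Nat) (Btab_45) (Btab_s_46_48 c) (Nat.ble 46 c)
noncomputable def Btab_s_43_48 (c : Nat) : Nat := @Bool.rec (fun _ => Nat) (Btab_s_43_45 c) (Btab_s_45_48 c) (Nat.ble 45 c)
noncomputable def Btab_s_48_50 (c : Nat) : Nat := @Bool.rec (fun _ => Nat) (Btab_48) (Btab_49) (Nat.ble 49 c)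
noncomputable def Btab_s_51_53 (c : Nat) : Nat := @Bool.rec (fun _ => Nat) (Btab_51) (Btab_52) (Nat.ble 52 c)
noncomputable def Btab_s_50_53 (c : Nat) : Nat := @Bool.rec (fun _ => Nat) (Btab_50) (Btab_s_51_53 c) (Nat.ble 51 c)
noncomputable def Btab_s_48_53 (c : Nat) : Nat := @Bool.rec (fun _ => Nat) (Btab_s_48_50 c) (Btab_s_50_53 c) (Nat.ble 50 c)
noncomputable def Btab_s_43_53 (c : Nat) : Nat := @Bool.rec (fun _ => Nat) (Btab_s_43_48 c) (Btab_s_48_53 c) (Nat.ble 48 c)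
noncomputable def Btab_s_53_55 (c : Nat) : Nat := @Bool.rec (fun _ => Nat) (Btab_53) (Btab_54) (Nat.ble 54 c)
noncomputable def Btab_s_56_58 (c : Nat) : Nat := @Bool.rec (fun _ => Nat) (Btab_56) (Btab_57) (Nat.ble 57 c)
noncomputable def Btab_s_55_58 (c : Nat) : Nat := @Bool.rec (fun _ => Nat) (Btab_55) (Btab_s_56_58 c) (Nat.ble 56 c)
noncomputable def Btab_s_53_58 (c : Nat) : Nat := @Bool.rec (fun _ => Nat) (Btab_s_53_55 c) (Btab_s_55_58 c) (Nat.ble 55 c)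
noncomputable def Btab_s_59_61 (c : Nat) : Nat := @Bool.rec (fun _ => Nat) (Btab_59) (Btab_60) (Nat.ble 60 c)
noncomputable def Btab_s_58_61 (c : Nat) : Nat := @Bool.rec (fun _ => Nat) (Btab_58) (Btab_s_59_61 c) (Nat.ble 59 c)
noncomputable def Btab_s_62_64 (c : Nat) : Nat := @Bool.rec (fun _ => Nat) (Btab_62) (Btab_63) (Nat.ble 63 c)
noncomputable def Btab_s_61_64 (c : Nat) : Nat := @Bool.rec (fun _ => Nat) (Btab_61) (Btab_s_62_64 c) (Nat.ble 62 c)
noncomputable def Btab_s_58_64 (c : Nat) : Nat := @Bool.rec (fun _ => Nat) (Btab_s_58_61 c) (Btab_s_61_64 c) (Nat.ble 61 c)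
noncomputable def Btab_s_53_64 (c : Nat) : Nat := @Bool.rec (fun _ => Nat) (Btab_s_53_58 c) (Btab_s_58_64 c) (Nat.ble 58 c)
noncomputable def Btab_s_43_64 (c : Nat) : Nat := @Bool.rec (fun _ => Nat) (Btab_s_43_53 c) (Btab_s_53_64 c) (Nat.ble 53 c)
noncomputable def Btab_s_64_66 (c : Nat) : Nat := @Bool.rec (fun _ => Nat) (Btab_64) (Btab_65) (Nat.ble 65 c)
noncomputable def Btab_s_67_69 (c : Nat) : Nat := @Bool.rec (fun _ => Nat) (Btab_67) (Btab_68) (Nat.ble 68 c)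
noncomputable def Btab_s_66_69 (c : Nat) : Nat := @Bool.rec (fun _ => Nat) (Btab_66) (Btab_s_67_69 c) (Nat.ble 67 c)
noncomputable def Btab_s_64_69 (c : Nat) : Nat := @Bool.rec (fun _ => Nat) (Btab_s_64_66 c) (Btab_s_66_69 c) (Nat.ble 66 c)
noncomputable def Btab_s_70_72 (c : Nat) : Nat := @Bool.rec (fun _ => Nat) (Btab_70) (Btab_71) (Nat.ble 71 c)
noncomputable def Btab_s_69_72 (c : Nat) : Nat := @Bool.rec (fun _ => Nat) (Btab_69) (Btab_s_70_72 c) (Nat.ble 70 c)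
noncomputable def Btab_s_73_75 (c : Nat) : Nat := @Bool.rec (fun _ => Nat) (Btab_73) (Btab_74) (Nat.ble 74 c)
noncomputable def Btab_s_72_75 (c : Nat) : Nat := @Bool.rec (fun _ => Nat) (Btab_72) (Btab_s_73_75 c) (Nat.ble 73 c)
noncomputable def Btab_s_69_75 (c : Nat) : Nat := @Bool.rec (fun _ => Nat) (Btab_s_69_72 c) (Btab_s_72_75 c) (Nat.ble 72 c)
noncomputable def Btab_s_64_75 (c : Nat) : Nat := @Bool.rec (fun _ => Nat) (Btab_s_64_69 c) (Btab_s_69_75 c) (Nat.ble 69 c)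
noncomputable def Btab_s_75_77 (c : Nat) : Nat := @Bool.rec (fun _ => Nat) (Btab_75) (Btab_76) (Nat.ble 76 c)
noncomputable def Btab_s_78_80 (c : Nat) : Nat := @Bool.rec (fun _ => Nat) (Btab_78) (Btab_79) (Nat.ble 79 c)
noncomputable def Btab_s_77_80 (c : Nat) : Nat := @Bool.rec (fun _ => Nat) (Btab_77) (Btab_s_78_80 c) (Nat.ble 78 c)
noncomputable def Btab_s_75_80 (c : Nat) : Nat := @Bool.rec (fun _ => Nat) (Btab_s_75_77 c) (Btab_s_77_80 c) (Nat.ble 77 c)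
noncomputable def Btab_s_81_83 (c : Nat) : Nat := @Bool.rec (fun _ => Nat) (Btab_81) (Btab_82) (Nat.ble 82 c)
noncomputable def Btab_s_80_83 (c : Nat) : Nat := @Bool.rec (fun _ => Nat) (Btab_80) (Btab_s_81_83 c) (Nat.ble 81 c)
noncomputable def Btab_s_84_86 (c : Nat) : Nat := @Bool.rec (fun _ => Nat) (Btab_84) (Btab_85) (Nat.ble 85 c)
noncomputable def Btab_s_83_86 (c : Nat) : Nat := @Bool.rec (fun _ => Nat) (Btab_83) (Btab_s_84_86 c) (Nat.ble 84 c)
noncomputable def Btab_s_80_86 (c : Nat) : Nat := @Bool.rec (fun _ => Nat) (Btab_s_80_83 c) (Btab_s_83_86 c) (Nat.ble 83 c)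
noncomputable def Btab_s_75_86 (c : Nat) : Nat := @Bool.rec (fun _ => Nat) (Btab_s_75_80 c) (Btab_s_80_86 c) (Nat.ble 80 c)
noncomputable def Btab_s_64_86 (c : Nat) : Nat := @Bool.rec (fun _ => Nat) (Btab_s_64_75 c) (Btab_s_75_86 c) (Nat.ble 75 c)
noncomputable def Btab_s_43_86 (c : Nat) : Nat := @Bool.rec (fun _ => Nat) (Btab_s_43_64 c) (Btab_s_64_86 c) (Nat.ble 64 c)
noncomputable def Btab_s_0_86 (c : Nat) : Nat := @Bool.rec (fun _ => Nat) (Btab_s_0_43 c) (Btab_s_43_86 c) (Nat.ble 43 c)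
noncomputable def Btab_s_86_88 (c : Nat) : Nat := @Bool.rec (fun _ => Nat) (Btab_86) (Btab_87) (Nat.ble 87 c)
noncomputable def Btab_s_89_91 (c : Nat) : Nat := @Bool.rec (fun _ => Nat) (Btab_89) (Btab_90) (Nat.ble 90 c)
noncomputable def Btab_s_88_91 (c : Nat) : Nat := @Bool.rec (fun _ => Nat) (Btab_88) (Btab_s_89_91 c) (Nat.ble 89 c)
noncomputable def Btab_s_86_91 (c : Nat) : Nat := @Bool.rec (fun _ => Nat) (Btab_s_86_88 c) (Btab_s_88_91 c) (Nat.ble 88 c)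
noncomputable def Btab_s_91_93 (c : Nat) : Nat := @Bool.rec (fun _ => Nat) (Btab_91) (Btab_92) (Nat.ble 92 c)
noncomputable def Btab_s_94_96 (c : Nat) : Nat := @Bool.rec (fun _ => Nat) (Btab_94) (Btab_95) (Nat.ble 95 c)
noncomputable def Btab_s_93_96 (c : Nat) : Nat := @Bool.rec (fun _ => Nat) (Btab_93) (Btab_s_94_96 c) (Nat.ble 94 c)
noncomputable def Btab_s_91_96 (c : Nat) : Nat := @Bool.rec (fun _ => Nat) (Btab_s_91_93 c) (Btab_s_93_96 c) (Nat.ble 93 c)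
noncomputable def Btab_s_86_96 (c : Nat) : Nat := @Bool.rec (fun _ => Nat) (Btab_s_86_91 c) (Btab_s_91_96 c) (Nat.ble 91 c)
noncomputable def Btab_s_96_98 (c : Nat) : Nat := @Bool.rec (fun _ => Nat) (Btab_96) (Btab_97) (Nat.ble 97 c)
noncomputable def Btab_s_99_101 (c : Nat) : Nat := @Bool.rec (fun _ => Nat) (Btab_99) (Btab_100) (Nat.ble 100 c)
noncomputable def Btab_s_98_101 (c : Nat) : Nat := @Bool.rec (fun _ => Nat) (Btab_98) (Btab_s_99_101 c) (Nat.ble 99 c)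
noncomputable def Btab_s_96_101 (c : Nat) : Nat := @Bool.rec (fun _ => Nat) (Btab_s_96_98 c) (Btab_s_98_101 c) (Nat.ble 98 c)
noncomputable def Btab_s_102_104 (c : Nat) : Nat := @Bool.rec (fun _ => Nat) (Btab_102) (Btab_103) (Nat.ble 103 c)
noncomputable def Btab_s_101_104 (c : Nat) : Nat := @Bool.rec (fun _ => Nat) (Btab_101) (Btab_s_102_104 c) (Nat.ble 102 c)
noncomputable def Btab_s_105_107 (c : Nat) : Nat := @Bool.rec (fun _ => Nat) (Btab_105) (Btab_106) (Nat.ble 106 c)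
noncomputable def Btab_s_104_107 (c : Nat) : Nat := @Bool.rec (fun _ => Nat) (Btab_104) (Btab_s_105_107 c) (Nat.ble 105 c)
noncomputable def Btab_s_101_107 (c : Nat) : Nat := @Bool.rec (fun _ => Nat) (Btab_s_101_104 c) (Btab_s_104_107 c) (Nat.ble 104 c)
noncomputable def Btab_s_96_107 (c : Nat) : Nat := @Bool.rec (fun _ => Nat) (Btab_s_96_101 c) (Btab_s_101_107 c) (Nat.ble 101 c)
noncomputable def Btab_s_86_107 (c : Nat) : Nat := @Bool.rec (fun _ => Nat) (Btab_s_86_96 c) (Btab_s_96_107 c) (Nat.ble 96 c)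
noncomputable def Btab_s_107_109 (c : Nat) : Nat := @Bool.rec (fun _ => Nat) (Btab_107) (Btab_108) (Nat.ble 108 c)
noncomputable def Btab_s_110_112 (c : Nat) : Nat := @Bool.rec (fun _ => Nat) (Btab_110) (Btab_111) (Nat.ble 111 c)
noncomputable def Btab_s_109_112 (c : Nat) : Nat := @Bool.rec (fun _ => Nat) (Btab_109) (Btab_s_110_112 c) (Nat.ble 110 c)
noncomputable def Btab_s_107_112 (c : Nat) : Nat := @Bool.rec (fun _ => Nat) (Btab_s_107_109 c) (Btab_s_109_112 c) (Nat.ble 109 c)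
noncomputable def Btab_s_113_115 (c : Nat) : Nat := @Bool.rec (fun _ => Nat) (Btab_113) (Btab_114) (Nat.ble 114 c)
noncomputable def Btab_s_112_115 (c : Nat) : Nat := @Bool.rec (fun _ => Nat) (Btab_112) (Btab_s_113_115 c) (Nat.ble 113 c)
noncomputable def Btab_s_116_118 (c : Nat) : Nat := @Bool.rec (fun _ => Nat) (Btab_116) (Btab_117) (Nat.ble 117 c)
noncomputable def Btab_s_115_118 (c : Nat) : Nat := @Bool.rec (fun _ => Nat) (Btab_115) (Btab_s_116_118 c) (Nat.ble 116 c)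
noncomputable def Btab_s_112_118 (c : Nat) : Nat := @Bool.rec (fun _ => Nat) (Btab_s_112_115 c) (Btab_s_115_118 c) (Nat.ble 115 c)
noncomputable def Btab_s_107_118 (c : Nat) : Nat := @Bool.rec (fun _ => Nat) (Btab_s_107_112 c) (Btab_s_112_118 c) (Nat.ble 112 c)
noncomputable def Btab_s_118_120 (c : Nat) : Nat := @Bool.rec (fun _ => Nat) (Btab_118) (Btab_119) (Nat.ble 119 c)
noncomputable def Btab_s_121_123 (c : Nat) : Nat := @Bool.rec (fun _ => Nat) (Btab_121) (Btab_122) (Nat.ble 122 c)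
noncomputable def Btab_s_120_123 (c : Nat) : Nat := @Bool.rec (fun _ => Nat) (Btab_120) (Btab_s_121_123 c) (Nat.ble 121 c)
noncomputable def Btab_s_118_123 (c : Nat) : Nat := @Bool.rec (fun _ => Nat) (Btab_s_118_120 c) (Btab_s_120_123 c) (Nat.ble 120 c)
noncomputable def Btab_s_124_126 (c : Nat) : Nat := @Bool.rec (fun _ => Nat) (Btab_124) (Btab_125) (Nat.ble 125 c)
noncomputable def Btab_s_123_126 (c : Nat) : Nat := @Bool.rec (fun _ => Nat) (Btab_123) (Btab_s_124_126 c) (Nat.ble 124 c)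
noncomputable def Btab_s_127_129 (c : Nat) : Nat := @Bool.rec (fun _ => Nat) (Btab_127) (Btab_128) (Nat.ble 128 c)
noncomputable def Btab_s_126_129 (c : Nat) : Nat := @Bool.rec (fun _ => Nat) (Btab_126) (Btab_s_127_129 c) (Nat.ble 127 c)
noncomputable def Btab_s_123_129 (c : Nat) : Nat := @Bool.rec (fun _ => Nat) (Btab_s_123_126 c) (Btab_s_126_129 c) (Nat.ble 126 c)
noncomputable def Btab_s_118_129 (c : Nat) : Nat := @Bool.rec (fun _ => Nat) (Btab_s_118_123 c) (Btab_s_123_129 c) (Nat.ble 123 c)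
noncomputable def Btab_s_107_129 (c : Nat) : Nat := @Bool.rec (fun _ => Nat) (Btab_s_107_118 c) (Btab_s_118_129 c) (Nat.ble 118 c)
noncomputable def Btab_s_86_129 (c : Nat) : Nat := @Bool.rec (fun _ => Nat) (Btab_s_86_107 c) (Btab_s_107_129 c) (Nat.ble 107 c)
noncomputable def Btab_s_129_131 (c : Nat) : Nat := @Bool.rec (fun _ => Nat) (Btab_129) (Btab_130) (Nat.ble 130 c)
noncomputable def Btab_s_132_134 (c : Nat) : Nat := @Bool.rec (fun _ => Nat) (Btab_132) (Btab_133) (Nat.ble 133 c)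
noncomputable def Btab_s_131_134 (c : Nat) : Nat := @Bool.rec (fun _ => Nat) (Btab_131) (Btab_s_132_134 c) (Nat.ble 132 c)
noncomputable def Btab_s_129_134 (c : Nat) : Nat := @Bool.rec (fun _ => Nat) (Btab_s_129_131 c) (Btab_s_131_134 c) (Nat.ble 131 c)
noncomputable def Btab_s_134_136 (c : Nat) : Nat := @Bool.rec (fun _ => Nat) (Btab_134) (Btab_135) (Nat.ble 135 c)
noncomputable def Btab_s_137_139 (c : Nat) : Nat := @Bool.rec (fun _ => Nat) (Btab_137) (Btab_138) (Nat.ble 138 c)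
noncomputable def Btab_s_136_139 (c : Nat) : Nat := @Bool.rec (fun _ => Nat) (Btab_136) (Btab_s_137_139 c) (Nat.ble 137 c)
noncomputable def Btab_s_134_139 (c : Nat) : Nat := @Bool.rec (fun _ => Nat) (Btab_s_134_136 c) (Btab_s_136_139 c) (Nat.ble 136 c)
noncomputable def Btab_s_129_139 (c : Nat) : Nat := @Bool.rec (fun _ => Nat) (Btab_s_129_134 c) (Btab_s_134_139 c) (Nat.ble 134 c)
noncomputable def Btab_s_139_141 (c : Nat) : Nat := @Bool.rec (fun _ => Nat) (Btab_139) (Btab_140) (Nat.ble 140 c)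
noncomputable def Btab_s_142_144 (c : Nat) : Nat := @Bool.rec (fun _ => Nat) (Btab_142) (Btab_143) (Nat.ble 143 c)
noncomputable def Btab_s_141_144 (c : Nat) : Nat := @Bool.rec (fun _ => Nat) (Btab_141) (Btab_s_142_144 c) (Nat.ble 142 c)
noncomputable def Btab_s_139_144 (c : Nat) : Nat := @Bool.rec (fun _ => Nat) (Btab_s_139_141 c) (Btab_s_141_144 c) (Nat.ble 141 c)
noncomputable def Btab_s_145_147 (c : Nat) : Nat := @Bool.rec (fun _ => Nat) (Btab_145) (Btab_146) (Nat.ble 146 c)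
noncomputable def Btab_s_144_147 (c : Nat) : Nat := @Bool.rec (fun _ => Nat) (Btab_144) (Btab_s_145_147 c) (Nat.ble 145 c)
noncomputable def Btab_s_148_150 (c : Nat) : Nat := @Bool.rec (fun _ => Nat) (Btab_148) (Btab_149) (Nat.ble 149 c)
noncomputable def Btab_s_147_150 (c : Nat) : Nat := @Bool.rec (fun _ => Nat) (Btab_147) (Btab_s_148_150 c) (Nat.ble 148 c)
noncomputable def Btab_s_144_150 (c : Nat) : Nat := @Bool.rec (fun _ => Nat) (Btab_s_144_147 c) (Btab_s_147_150 c) (Nat.ble 147 c)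
noncomputable def Btab_s_139_150 (c : Nat) : Nat := @Bool.rec (fun _ => Nat) (Btab_s_139_144 c) (Btab_s_144_150 c) (Nat.ble 144 c)
noncomputable def Btab_s_129_150 (c : Nat) : Nat := @Bool.rec (fun _ => Nat) (Btab_s_129_139 c) (Btab_s_139_150 c) (Nat.ble 139 c)
noncomputable def Btab_s_150_152 (c : Nat) : Nat := @Bool.rec (fun _ => Nat) (Btab_150) (Btab_151) (Nat.ble 151 c)
noncomputable def Btab_s_153_155 (c : Nat) : Nat := @Bool.rec (fun _ => Nat) (Btab_153) (Btab_154) (Nat.ble 154 c)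
noncomputable def Btab_s_152_155 (c : Nat) : Nat := @Bool.rec (fun _ => Nat) (Btab_152) (Btab_s_153_155 c) (Nat.ble 153 c)
noncomputable def Btab_s_150_155 (c : Nat) : Nat := @Bool.rec (fun _ => Nat) (Btab_s_150_152 c) (Btab_s_152_155 c) (Nat.ble 152 c)
noncomputable def Btab_s_156_158 (c : Nat) : Nat := @Bool.rec (fun _ => Nat) (Btab_156) (Btab_157) (Nat.ble 157 c)
noncomputable def Btab_s_155_158 (c : Nat) : Nat := @Bool.rec (fun _ => Nat) (Btab_155) (Btab_s_156_158 c) (Nat.ble 156 c)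
noncomputable def Btab_s_159_161 (c : Nat) : Nat := @Bool.rec (fun _ => Nat) (Btab_159) (Btab_160) (Nat.ble 160 c)
noncomputable def Btab_s_158_161 (c : Nat) : Nat := @Bool.rec (fun _ => Nat) (Btab_158) (Btab_s_159_161 c) (Nat.ble 159 c)
noncomputable def Btab_s_155_161 (c : Nat) : Nat := @Bool.rec (fun _ => Nat) (Btab_s_155_158 c) (Btab_s_158_161 c) (Nat.ble 158 c)
noncomputable def Btab_s_150_161 (c : Nat) : Nat := @Bool.rec (fun _ => Nat) (Btab_s_150_155 c) (Btab_s_155_161 c) (Nat.ble 155 c)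
noncomputable def Btab_s_161_163 (c : Nat) : Nat := @Bool.rec (fun _ => Nat) (Btab_161) (Btab_162) (Nat.ble 162 c)
noncomputable def Btab_s_164_166 (c : Nat) : Nat := @Bool.rec (fun _ => Nat) (Btab_164) (Btab_165) (Nat.ble 165 c)
noncomputable def Btab_s_163_166 (c : Nat) : Nat := @Bool.rec (fun _ => Nat) (Btab_163) (Btab_s_164_166 c) (Nat.ble 164 c)
noncomputable def Btab_s_161_166 (c : Nat) : Nat := @Bool.rec (fun _ => Nat) (Btab_s_161_163 c) (Btab_s_163_166 c) (Nat.ble 163 c)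
noncomputable def Btab_s_167_169 (c : Nat) : Nat := @Bool.rec (fun _ => Nat) (Btab_167) (Btab_168) (Nat.ble 168 c)
noncomputable def Btab_s_166_169 (c : Nat) : Nat := @Bool.rec (fun _ => Nat) (Btab_166) (Btab_s_167_169 c) (Nat.ble 167 c)
noncomputable def Btab_s_170_172 (c : Nat) : Nat := @Bool.rec (fun _ => Nat) (Btab_170) (Btab_171) (Nat.ble 171 c)
noncomputable def Btab_s_169_172 (c : Nat) : Nat := @Bool.rec (fun _ => Nat) (Btab_169) (Btab_s_170_172 c) (Nat.ble 170 c)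
noncomputable def Btab_s_166_172 (c : Nat) : Nat := @Bool.rec (fun _ => Nat) (Btab_s_166_169 c) (Btab_s_169_172 c) (Nat.ble 169 c)
noncomputable def Btab_s_161_172 (c : Nat) : Nat := @Bool.rec (fun _ => Nat) (Btab_s_161_166 c) (Btab_s_166_172 c) (Nat.ble 166 c)
noncomputable def Btab_s_150_172 (c : Nat) : Nat := @Bool.rec (fun _ => Nat) (Btab_s_150_161 c) (Btab_s_161_172 c) (Nat.ble 161 c)
noncomputable def Btab_s_129_172 (c : Nat) : Nat := @Bool.rec (fun _ => Nat) (Btab_s_129_150 c) (Btab_s_150_172 c) (Nat.ble 150 c)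
noncomputable def Btab_s_86_172 (c : Nat) : Nat := @Bool.rec (fun _ => Nat) (Btab_s_86_129 c) (Btab_s_129_172 c) (Nat.ble 129 c)
noncomputable def Btab_s_0_172 (c : Nat) : Nat := @Bool.rec (fun _ => Nat) (Btab_s_0_86 c) (Btab_s_86_172 c) (Nat.ble 86 c)
noncomputable def Btab (i : Nat) : Nat := rdw 38 274877906943 (Btab_s_0_172 (Nat.shiftRight i 11)) (Nat.land i 2047)
noncomputable def Ptab_s_1_3 (c : Nat) : Nat := @Bool.rec (fun _ => Nat) (Ptab_1) (Ptab_2) (Nat.ble 2 c)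
noncomputable def Ptab_s_0_3 (c : Nat) : Nat := @Bool.rec (fun _ => Nat) (Ptab_0) (Ptab_s_1_3 c) (Nat.ble 1 c)
noncomputable def Ptab_s_3_5 (c : Nat) : Nat := @Bool.rec (fun _ => Nat) (Ptab_3) (Ptab_4) (Nat.ble 4 c)
noncomputable def Ptab_s_5_7 (c : Nat) : Nat := @Bool.rec (fun _ => Nat) (Ptab_5) (Ptab_6) (Nat.ble 6 c)
noncomputable def Ptab_s_3_7 (c : Nat) : Nat := @Bool.rec (fun _ => Nat) (Ptab_s_3_5 c) (Ptab_s_5_7 c) (Nat.ble 5 c)
noncomputable def Ptab_s_0_7 (c : Nat) : Nat := @Bool.rec (fun _ => Nat) (Ptab_s_0_3 c) (Ptab_s_3_7 c) (Nat.ble 3 c)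
noncomputable def Ptab_s_7_9 (c : Nat) : Nat := @Bool.rec (fun _ => Nat) (Ptab_7) (Ptab_8) (Nat.ble 8 c)
noncomputable def Ptab_s_9_11 (c : Nat) : Nat := @Bool.rec (fun _ => Nat) (Ptab_9) (Ptab_10) (Nat.ble 10 c)
noncomputable def Ptab_s_7_11 (c : Nat) : Nat := @Bool.rec (fun _ => Nat) (Ptab_s_7_9 c) (Ptab_s_9_11 c) (Nat.ble 9 c)
noncomputable def Ptab_s_11_13 (c : Nat) : Nat := @Bool.rec (fun _ => Nat) (Ptab_11) (Ptab_12) (Nat.ble 12 c)
noncomputable def Ptab_s_13_15 (c : Nat) : Nat := @Bool.rec (fun _ => Nat) (Ptab_13) (Ptab_14) (Nat.ble 14 c)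
noncomputable def Ptab_s_11_15 (c : Nat) : Nat := @Bool.rec (fun _ => Nat) (Ptab_s_11_13 c) (Ptab_s_13_15 c) (Nat.ble 13 c)
noncomputable def Ptab_s_7_15 (c : Nat) : Nat := @Bool.rec (fun _ => Nat) (Ptab_s_7_11 c) (Ptab_s_11_15 c) (Nat.ble 11 c)
noncomputable def Ptab_s_0_15 (c : Nat) : Nat := @Bool.rec (fun _ => Nat) (Ptab_s_0_7 c) (Ptab_s_7_15 c) (Nat.ble 7 c)
noncomputable def Ptab_s_16_18 (c : Nat) : Nat := @Bool.rec (fun _ => Nat) (Ptab_16) (Ptab_17) (Nat.ble 17 c)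
noncomputable def Ptab_s_15_18 (c : Nat) : Nat := @Bool.rec (fun _ => Nat) (Ptab_15) (Ptab_s_16_18 c) (Nat.ble 16 c)
noncomputable def Ptab_s_18_20 (c : Nat) : Nat := @Bool.rec (fun _ => Nat) (Ptab_18) (Ptab_19) (Nat.ble 19 c)
noncomputable def Ptab_s_20_22 (c : Nat) : Nat := @Bool.rec (fun _ => Nat) (Ptab_20) (Ptab_21) (Nat.ble 21 c)
noncomputable def Ptab_s_18_22 (c : Nat) : Nat := @Bool.rec (fun _ => Nat) (Ptab_s_18_20 c) (Ptab_s_20_22 c) (Nat.ble 20 c)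
noncomputable def Ptab_s_15_22 (c : Nat) : Nat := @Bool.rec (fun _ => Nat) (Ptab_s_15_18 c) (Ptab_s_18_22 c) (Nat.ble 18 c)
noncomputable def Ptab_s_22_24 (c : Nat) : Nat := @Bool.rec (fun _ => Nat) (Ptab_22) (Ptab_23) (Nat.ble 23 c)
noncomputable def Ptab_s_24_26 (c : Nat) : Nat := @Bool.rec (fun _ => Nat) (Ptab_24) (Ptab_25) (Nat.ble 25 c)
noncomputable def Ptab_s_22_26 (c : Nat) : Nat := @Bool.rec (fun _ => Nat) (Ptab_s_22_24 c) (Ptab_s_24_26 c) (Nat.ble 24 c)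
noncomputable def Ptab_s_26_28 (c : Nat) : Nat := @Bool.rec (fun _ => Nat) (Ptab_26) (Ptab_27) (Nat.ble 27 c)
noncomputable def Ptab_s_28_30 (c : Nat) : Nat := @Bool.rec (fun _ => Nat) (Ptab_28) (Ptab_29) (Nat.ble 29 c)
noncomputable def Ptab_s_26_30 (c : Nat) : Nat := @Bool.rec (fun _ => Nat) (Ptab_s_26_28 c) (Ptab_s_28_30 c) (Nat.ble 28 c)
noncomputable def Ptab_s_22_30 (c : Nat) : Nat := @Bool.rec (fun _ => Nat) (Ptab_s_22_26 c) (Ptab_s_26_30 c) (Nat.ble 26 c)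
noncomputable def Ptab_s_15_30 (c : Nat) : Nat := @Bool.rec (fun _ => Nat) (Ptab_s_15_22 c) (Ptab_s_22_30 c) (Nat.ble 22 c)
noncomputable def Ptab_s_0_30 (c : Nat) : Nat := @Bool.rec (fun _ => Nat) (Ptab_s_0_15 c) (Ptab_s_15_30 c) (Nat.ble 15 c)
noncomputable def Ptab_s_31_33 (c : Nat) : Nat := @Bool.rec (fun _ => Nat) (Ptab_31) (Ptab_32) (Nat.ble 32 c)
noncomputable def Ptab_s_30_33 (c : Nat) : Nat := @Bool.rec (fun _ => Nat) (Ptab_30) (Ptab_s_31_33 c) (Nat.ble 31 c)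
noncomputable def Ptab_s_33_35 (c : Nat) : Nat := @Bool.rec (fun _ => Nat) (Ptab_33) (Ptab_34) (Nat.ble 34 c)
noncomputable def Ptab_s_35_37 (c : Nat) : Nat := @Bool.rec (fun _ => Nat) (Ptab_35) (Ptab_36) (Nat.ble 36 c)
noncomputable def Ptab_s_33_37 (c : Nat) : Nat := @Bool.rec (fun _ => Nat) (Ptab_s_33_35 c) (Ptab_s_35_37 c) (Nat.ble 35 c)
noncomputable def Ptab_s_30_37 (c : Nat) : Nat := @Bool.rec (fun _ => Nat) (Ptab_s_30_33 c) (Ptab_s_33_37 c) (Nat.ble 33 c)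
noncomputable def Ptab_s_37_39 (c : Nat) : Nat := @Bool.rec (fun _ => Nat) (Ptab_37) (Ptab_38) (Nat.ble 38 c)
noncomputable def Ptab_s_39_41 (c : Nat) : Nat := @Bool.rec (fun _ => Nat) (Ptab_39) (Ptab_40) (Nat.ble 40 c)
noncomputable def Ptab_s_37_41 (c : Nat) : Nat := @Bool.rec (fun _ => Nat) (Ptab_s_37_39 c) (Ptab_s_39_41 c) (Nat.ble 39 c)
noncomputable def Ptab_s_41_43 (c : Nat) : Nat := @Bool.rec (fun _ => Nat) (Ptab_41) (Ptab_42) (Nat.ble 42 c)
noncomputable def Ptab_s_43_45 (c : Nat) : Nat := @Bool.rec (fun _ => Nat) (Ptab_43) (Ptab_44) (Nat.ble 44 c)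
noncomputable def Ptab_s_41_45 (c : Nat) : Nat := @Bool.rec (fun _ => Nat) (Ptab_s_41_43 c) (Ptab_s_43_45 c) (Nat.ble 43 c)
noncomputable def Ptab_s_37_45 (c : Nat) : Nat := @Bool.rec (fun _ => Nat) (Ptab_s_37_41 c) (Ptab_s_41_45 c) (Nat.ble 41 c)
noncomputable def Ptab_s_30_45 (c : Nat) : Nat := @Bool.rec (fun _ => Nat) (Ptab_s_30_37 c) (Ptab_s_37_45 c) (Nat.ble 37 c)
noncomputable def Ptab_s_45_47 (c : Nat) : Nat := @Bool.rec (fun _ => Nat) (Ptab_45) (Ptab_46) (Nat.ble 46 c)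
noncomputable def Ptab_s_47_49 (c : Nat) : Nat := @Bool.rec (fun _ => Nat) (Ptab_47) (Ptab_48) (Nat.ble 48 c)
noncomputable def Ptab_s_45_49 (c : Nat) : Nat := @Bool.rec (fun _ => Nat) (Ptab_s_45_47 c) (Ptab_s_47_49 c) (Nat.ble 47 c)
noncomputable def Ptab_s_49_51 (c : Nat) : Nat := @Bool.rec (fun _ => Nat) (Ptab_49) (Ptab_50) (Nat.ble 50 c)
noncomputable def Ptab_s_51_53 (c : Nat) : Nat := @Bool.rec (fun _ => Nat) (Ptab_51) (Ptab_52) (Nat.ble 52 c)
noncomputable def Ptab_s_49_53 (c : Nat) : Nat := @Bool.rec (fun _ => Nat) (Ptab_s_49_51 c) (Ptab_s_51_53 c) (Nat.ble 51 c)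
noncomputable def Ptab_s_45_53 (c : Nat) : Nat := @Bool.rec (fun _ => Nat) (Ptab_s_45_49 c) (Ptab_s_49_53 c) (Nat.ble 49 c)
noncomputable def Ptab_s_53_55 (c : Nat) : Nat := @Bool.rec (fun _ => Nat) (Ptab_53) (Ptab_54) (Nat.ble 54 c)
noncomputable def Ptab_s_55_57 (c : Nat) : Nat := @Bool.rec (fun _ => Nat) (Ptab_55) (Ptab_56) (Nat.ble 56 c)
noncomputable def Ptab_s_53_57 (c : Nat) : Nat := @Bool.rec (fun _ => Nat) (Ptab_s_53_55 c) (Ptab_s_55_57 c) (Nat.ble 55 c)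
noncomputable def Ptab_s_57_59 (c : Nat) : Nat := @Bool.rec (fun _ => Nat) (Ptab_57) (Ptab_58) (Nat.ble 58 c)
noncomputable def Ptab_s_59_61 (c : Nat) : Nat := @Bool.rec (fun _ => Nat) (Ptab_59) (Ptab_60) (Nat.ble 60 c)
noncomputable def Ptab_s_57_61 (c : Nat) : Nat := @Bool.rec (fun _ => Nat) (Ptab_s_57_59 c) (Ptab_s_59_61 c) (Nat.ble 59 c)
noncomputable def Ptab_s_53_61 (c : Nat) : Nat := @Bool.rec (fun _ => Nat) (Ptab_s_53_57 c) (Ptab_s_57_61 c) (Nat.ble 57 c)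
noncomputable def Ptab_s_45_61 (c : Nat) : Nat := @Bool.rec (fun _ => Nat) (Ptab_s_45_53 c) (Ptab_s_53_61 c) (Nat.ble 53 c)
noncomputable def Ptab_s_30_61 (c : Nat) : Nat := @Bool.rec (fun _ => Nat) (Ptab_s_30_45 c) (Ptab_s_45_61 c) (Nat.ble 45 c)
noncomputable def Ptab_s_0_61 (c : Nat) : Nat := @Bool.rec (fun _ => Nat) (Ptab_s_0_30 c) (Ptab_s_30_61 c) (Nat.ble 30 c)
noncomputable def Ptab_s_62_64 (c : Nat) : Nat := @Bool.rec (fun _ => Nat) (Ptab_62) (Ptab_63) (Nat.ble 63 c)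
noncomputable def Ptab_s_61_64 (c : Nat) : Nat := @Bool.rec (fun _ => Nat) (Ptab_61) (Ptab_s_62_64 c) (Nat.ble 62 c)
noncomputable def Ptab_s_64_66 (c : Nat) : Nat := @Bool.rec (fun _ => Nat) (Ptab_64) (Ptab_65) (Nat.ble 65 c)
noncomputable def Ptab_s_66_68 (c : Nat) : Nat := @Bool.rec (fun _ => Nat) (Ptab_66) (Ptab_67) (Nat.ble 67 c)
noncomputable def Ptab_s_64_68 (c : Nat) : Nat := @Bool.rec (fun _ => Nat) (Ptab_s_64_66 c) (Ptab_s_66_68 c) (Nat.ble 66 c)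
noncomputable def Ptab_s_61_68 (c : Nat) : Nat := @Bool.rec (fun _ => Nat) (Ptab_s_61_64 c) (Ptab_s_64_68 c) (Nat.ble 64 c)
noncomputable def Ptab_s_68_70 (c : Nat) : Nat := @Bool.rec (fun _ => Nat) (Ptab_68) (Ptab_69) (Nat.ble 69 c)
noncomputable def Ptab_s_70_72 (c : Nat) : Nat := @Bool.rec (fun _ => Nat) (Ptab_70) (Ptab_71) (Nat.ble 71 c)
noncomputable def Ptab_s_68_72 (c : Nat) : Nat := @Bool.rec (fun _ => Nat) (Ptab_s_68_70 c) (Ptab_s_70_72 c) (Nat.ble 70 c)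
noncomputable def Ptab_s_72_74 (c : Nat) : Nat := @Bool.rec (fun _ => Nat) (Ptab_72) (Ptab_73) (Nat.ble 73 c)
noncomputable def Ptab_s_74_76 (c : Nat) : Nat := @Bool.rec (fun _ => Nat) (Ptab_74) (Ptab_75) (Nat.ble 75 c)
noncomputable def Ptab_s_72_76 (c : Nat) : Nat := @Bool.rec (fun _ => Nat) (Ptab_s_72_74 c) (Ptab_s_74_76 c) (Nat.ble 74 c)
noncomputable def Ptab_s_68_76 (c : Nat) : Nat := @Bool.rec (fun _ => Nat) (Ptab_s_68_72 c) (Ptab_s_72_76 c) (Nat.ble 72 c)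
noncomputable def Ptab_s_61_76 (c : Nat) : Nat := @Bool.rec (fun _ => Nat) (Ptab_s_61_68 c) (Ptab_s_68_76 c) (Nat.ble 68 c)
noncomputable def Ptab_s_76_78 (c : Nat) : Nat := @Bool.rec (fun _ => Nat) (Ptab_76) (Ptab_77) (Nat.ble 77 c)
noncomputable def Ptab_s_78_80 (c : Nat) : Nat := @Bool.rec (fun _ => Nat) (Ptab_78) (Ptab_79) (Nat.ble 79 c)
noncomputable def Ptab_s_76_80 (c : Nat) : Nat := @Bool.rec (fun _ => Nat) (Ptab_s_76_78 c) (Ptab_s_78_80 c) (Nat.ble 78 c)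
noncomputable def Ptab_s_80_82 (c : Nat) : Nat := @Bool.rec (fun _ => Nat) (Ptab_80) (Ptab_81) (Nat.ble 81 c)
noncomputable def Ptab_s_82_84 (c : Nat) : Nat := @Bool.rec (fun _ => Nat) (Ptab_82) (Ptab_83) (Nat.ble 83 c)
noncomputable def Ptab_s_80_84 (c : Nat) : Nat := @Bool.rec (fun _ => Nat) (Ptab_s_80_82 c) (Ptab_s_82_84 c) (Nat.ble 82 c)
noncomputable def Ptab_s_76_84 (c : Nat) : Nat := @Bool.rec (fun _ => Nat) (Ptab_s_76_80 c) (Ptab_s_80_84 c) (Nat.ble 80 c)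
noncomputable def Ptab_s_84_86 (c : Nat) : Nat := @Bool.rec (fun _ => Nat) (Ptab_84) (Ptab_85) (Nat.ble 85 c)
noncomputable def Ptab_s_86_88 (c : Nat) : Nat := @Bool.rec (fun _ => Nat) (Ptab_86) (Ptab_87) (Nat.ble 87 c)
noncomputable def Ptab_s_84_88 (c : Nat) : Nat := @Bool.rec (fun _ => Nat) (Ptab_s_84_86 c) (Ptab_s_86_88 c) (Nat.ble 86 c)
noncomputable def Ptab_s_88_90 (c : Nat) : Nat := @Bool.rec (fun _ => Nat) (Ptab_88) (Ptab_89) (Nat.ble 89 c)
noncomputable def Ptab_s_90_92 (c : Nat) : Nat := @Bool.rec (fun _ => Nat) (Ptab_90) (Ptab_91) (Nat.ble 91 c)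
noncomputable def Ptab_s_88_92 (c : Nat) : Nat := @Bool.rec (fun _ => Nat) (Ptab_s_88_90 c) (Ptab_s_90_92 c) (Nat.ble 90 c)
noncomputable def Ptab_s_84_92 (c : Nat) : Nat := @Bool.rec (fun _ => Nat) (Ptab_s_84_88 c) (Ptab_s_88_92 c) (Nat.ble 88 c)
noncomputable def Ptab_s_76_92 (c : Nat) : Nat := @Bool.rec (fun _ => Nat) (Ptab_s_76_84 c) (Ptab_s_84_92 c) (Nat.ble 84 c)
noncomputable def Ptab_s_61_92 (c : Nat) : Nat := @Bool.rec (fun _ => Nat) (Ptab_s_61_76 c) (Ptab_s_76_92 c) (Nat.ble 76 c)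
noncomputable def Ptab_s_93_95 (c : Nat) : Nat := @Bool.rec (fun _ => Nat) (Ptab_93) (Ptab_94) (Nat.ble 94 c)
noncomputable def Ptab_s_92_95 (c : Nat) : Nat := @Bool.rec (fun _ => Nat) (Ptab_92) (Ptab_s_93_95 c) (Nat.ble 93 c)
noncomputable def Ptab_s_95_97 (c : Nat) : Nat := @Bool.rec (fun _ => Nat) (Ptab_95) (Ptab_96) (Nat.ble 96 c)
noncomputable def Ptab_s_97_99 (c : Nat) : Nat := @Bool.rec (fun _ => Nat) (Ptab_97) (Ptab_98) (Nat.ble 98 c)
noncomputable def Ptab_s_95_99 (c : Nat) : Nat := @Bool.rec (fun _ => Nat) (Ptab_s_95_97 c) (Ptab_s_97_99 c) (Nat.ble 97 c)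
noncomputable def Ptab_s_92_99 (c : Nat) : Nat := @Bool.rec (fun _ => Nat) (Ptab_s_92_95 c) (Ptab_s_95_99 c) (Nat.ble 95 c)
noncomputable def Ptab_s_99_101 (c : Nat) : Nat := @Bool.rec (fun _ => Nat) (Ptab_99) (Ptab_100) (Nat.ble 100 c)
noncomputable def Ptab_s_101_103 (c : Nat) : Nat := @Bool.rec (fun _ => Nat) (Ptab_101) (Ptab_102) (Nat.ble 102 c)
noncomputable def Ptab_s_99_103 (c : Nat) : Nat := @Bool.rec (fun _ => Nat) (Ptab_s_99_101 c) (Ptab_s_101_103 c) (Nat.ble 101 c)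
noncomputable def Ptab_s_103_105 (c : Nat) : Nat := @Bool.rec (fun _ => Nat) (Ptab_103) (Ptab_104) (Nat.ble 104 c)
noncomputable def Ptab_s_105_107 (c : Nat) : Nat := @Bool.rec (fun _ => Nat) (Ptab_105) (Ptab_106) (Nat.ble 106 c)
noncomputable def Ptab_s_103_107 (c : Nat) : Nat := @Bool.rec (fun _ => Nat) (Ptab_s_103_105 c) (Ptab_s_105_107 c) (Nat.ble 105 c)
noncomputable def Ptab_s_99_107 (c : Nat) : Nat := @Bool.rec (fun _ => Nat) (Ptab_s_99_103 c) (Ptab_s_103_107 c) (Nat.ble 103 c)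
noncomputable def Ptab_s_92_107 (c : Nat) : Nat := @Bool.rec (fun _ => Nat) (Ptab_s_92_99 c) (Ptab_s_99_107 c) (Nat.ble 99 c)
noncomputable def Ptab_s_107_109 (c : Nat) : Nat := @Bool.rec (fun _ => Nat) (Ptab_107) (Ptab_108) (Nat.ble 108 c)
noncomputable def Ptab_s_109_111 (c : Nat) : Nat := @Bool.rec (fun _ => Nat) (Ptab_109) (Ptab_110) (Nat.ble 110 c)
noncomputable def Ptab_s_107_111 (c : Nat) : Nat := @Bool.rec (fun _ => Nat) (Ptab_s_107_109 c) (Ptab_s_109_111 c) (Nat.ble 109 c)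
noncomputable def Ptab_s_111_113 (c : Nat) : Nat := @Bool.rec (fun _ => Nat) (Ptab_111) (Ptab_112) (Nat.ble 112 c)
noncomputable def Ptab_s_113_115 (c : Nat) : Nat := @Bool.rec (fun _ => Nat) (Ptab_113) (Ptab_114) (Nat.ble 114 c)
noncomputable def Ptab_s_111_115 (c : Nat) : Nat := @Bool.rec (fun _ => Nat) (Ptab_s_111_113 c) (Ptab_s_113_115 c) (Nat.ble 113 c)
noncomputable def Ptab_s_107_115 (c : Nat) : Nat := @Bool.rec (fun _ => Nat) (Ptab_s_107_111 c) (Ptab_s_111_115 c) (Nat.ble 111 c)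
noncomputable def Ptab_s_115_117 (c : Nat) : Nat := @Bool.rec (fun _ => Nat) (Ptab_115) (Ptab_116) (Nat.ble 116 c)
noncomputable def Ptab_s_117_119 (c : Nat) : Nat := @Bool.rec (fun _ => Nat) (Ptab_117) (Ptab_118) (Nat.ble 118 c)
noncomputable def Ptab_s_115_119 (c : Nat) : Nat := @Bool.rec (fun _ => Nat) (Ptab_s_115_117 c) (Ptab_s_117_119 c) (Nat.ble 117 c)
noncomputable def Ptab_s_119_121 (c : Nat) : Nat := @Bool.rec (fun _ => Nat) (Ptab_119) (Ptab_120) (Nat.ble 120 c)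
noncomputable def Ptab_s_121_123 (c : Nat) : Nat := @Bool.rec (fun _ => Nat) (Ptab_121) (Ptab_122) (Nat.ble 122 c)
noncomputable def Ptab_s_119_123 (c : Nat) : Nat := @Bool.rec (fun _ => Nat) (Ptab_s_119_121 c) (Ptab_s_121_123 c) (Nat.ble 121 c)
noncomputable def Ptab_s_115_123 (c : Nat) : Nat := @Bool.rec (fun _ => Nat) (Ptab_s_115_119 c) (Ptab_s_119_123 c) (Nat.ble 119 c)
noncomputable def Ptab_s_107_123 (c : Nat) : Nat := @Bool.rec (fun _ => Nat) (Ptab_s_107_115 c) (Ptab_s_115_123 c) (Nat.ble 115 c)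
noncomputable def Ptab_s_92_123 (c : Nat) : Nat := @Bool.rec (fun _ => Nat) (Ptab_s_92_107 c) (Ptab_s_107_123 c) (Nat.ble 107 c)
noncomputable def Ptab_s_61_123 (c : Nat) : Nat := @Bool.rec (fun _ => Nat) (Ptab_s_61_92 c) (Ptab_s_92_123 c) (Nat.ble 92 c)
noncomputable def Ptab_s_0_123 (c : Nat) : Nat := @Bool.rec (fun _ => Nat) (Ptab_s_0_61 c) (Ptab_s_61_123 c) (Nat.ble 61 c)
noncomputable def Ptab_s_124_126 (c : Nat) : Nat := @Bool.rec (fun _ => Nat) (Ptab_124) (Ptab_125) (Nat.ble 125 c)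
noncomputable def Ptab_s_123_126 (c : Nat) : Nat := @Bool.rec (fun _ => Nat) (Ptab_123) (Ptab_s_124_126 c) (Nat.ble 124 c)
noncomputable def Ptab_s_126_128 (c : Nat) : Nat := @Bool.rec (fun _ => Nat) (Ptab_126) (Ptab_127) (Nat.ble 127 c)
noncomputable def Ptab_s_128_130 (c : Nat) : Nat := @Bool.rec (fun _ => Nat) (Ptab_128) (Ptab_129) (Nat.ble 129 c)
noncomputable def Ptab_s_126_130 (c : Nat) : Nat := @Bool.rec (fun _ => Nat) (Ptab_s_126_128 c) (Ptab_s_128_130 c) (Nat.ble 128 c)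
noncomputable def Ptab_s_123_130 (c : Nat) : Nat := @Bool.rec (fun _ => Nat) (Ptab_s_123_126 c) (Ptab_s_126_130 c) (Nat.ble 126 c)
noncomputable def Ptab_s_130_132 (c : Nat) : Nat := @Bool.rec (fun _ => Nat) (Ptab_130) (Ptab_131) (Nat.ble 131 c)
noncomputable def Ptab_s_132_134 (c : Nat) : Nat := @Bool.rec (fun _ => Nat) (Ptab_132) (Ptab_133) (Nat.ble 133 c)
noncomputable def Ptab_s_130_134 (c : Nat) : Nat := @Bool.rec (fun _ => Nat) (Ptab_s_130_132 c) (Ptab_s_132_134 c) (Nat.ble 132 c)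
noncomputable def Ptab_s_134_136 (c : Nat) : Nat := @Bool.rec (fun _ => Nat) (Ptab_134) (Ptab_135) (Nat.ble 135 c)
noncomputable def Ptab_s_136_138 (c : Nat) : Nat := @Bool.rec (fun _ => Nat) (Ptab_136) (Ptab_137) (Nat.ble 137 c)
noncomputable def Ptab_s_134_138 (c : Nat) : Nat := @Bool.rec (fun _ => Nat) (Ptab_s_134_136 c) (Ptab_s_136_138 c) (Nat.ble 136 c)
noncomputable def Ptab_s_130_138 (c : Nat) : Nat := @Bool.rec (fun _ => Nat) (Ptab_s_130_134 c) (Ptab_s_134_138 c) (Nat.ble 134 c)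
noncomputable def Ptab_s_123_138 (c : Nat) : Nat := @Bool.rec (fun _ => Nat) (Ptab_s_123_130 c) (Ptab_s_130_138 c) (Nat.ble 130 c)
noncomputable def Ptab_s_139_141 (c : Nat) : Nat := @Bool.rec (fun _ => Nat) (Ptab_139) (Ptab_140) (Nat.ble 140 c)
noncomputable def Ptab_s_138_141 (c : Nat) : Nat := @Bool.rec (fun _ => Nat) (Ptab_138) (Ptab_s_139_141 c) (Nat.ble 139 c)
noncomputable def Ptab_s_141_143 (c : Nat) : Nat := @Bool.rec (fun _ => Nat) (Ptab_141) (Ptab_142) (Nat.ble 142 c)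
noncomputable def Ptab_s_143_145 (c : Nat) : Nat := @Bool.rec (fun _ => Nat) (Ptab_143) (Ptab_144) (Nat.ble 144 c)
noncomputable def Ptab_s_141_145 (c : Nat) : Nat := @Bool.rec (fun _ => Nat) (Ptab_s_141_143 c) (Ptab_s_143_145 c) (Nat.ble 143 c)
noncomputable def Ptab_s_138_145 (c : Nat) : Nat := @Bool.rec (fun _ => Nat) (Ptab_s_138_141 c) (Ptab_s_141_145 c) (Nat.ble 141 c)
noncomputable def Ptab_s_145_147 (c : Nat) : Nat := @Bool.rec (fun _ => Nat) (Ptab_145) (Ptab_146) (Nat.ble 146 c)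
noncomputable def Ptab_s_147_149 (c : Nat) : Nat := @Bool.rec (fun _ => Nat) (Ptab_147) (Ptab_148) (Nat.ble 148 c)
noncomputable def Ptab_s_145_149 (c : Nat) : Nat := @Bool.rec (fun _ => Nat) (Ptab_s_145_147 c) (Ptab_s_147_149 c) (Nat.ble 147 c)
noncomputable def Ptab_s_149_151 (c : Nat) : Nat := @Bool.rec (fun _ => Nat) (Ptab_149) (Ptab_150) (Nat.ble 150 c)
noncomputable def Ptab_s_151_153 (c : Nat) : Nat := @Bool.rec (fun _ => Nat) (Ptab_151) (Ptab_152) (Nat.ble 152 c)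
noncomputable def Ptab_s_149_153 (c : Nat) : Nat := @Bool.rec (fun _ => Nat) (Ptab_s_149_151 c) (Ptab_s_151_153 c) (Nat.ble 151 c)
noncomputable def Ptab_s_145_153 (c : Nat) : Nat := @Bool.rec (fun _ => Nat) (Ptab_s_145_149 c) (Ptab_s_149_153 c) (Nat.ble 149 c)
noncomputable def Ptab_s_138_153 (c : Nat) : Nat := @Bool.rec (fun _ => Nat) (Ptab_s_138_145 c) (Ptab_s_145_153 c) (Nat.ble 145 c)
noncomputable def Ptab_s_123_153 (c : Nat) : Nat := @Bool.rec (fun _ => Nat) (Ptab_s_123_138 c) (Ptab_s_138_153 c) (Nat.ble 138 c)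
noncomputable def Ptab_s_154_156 (c : Nat) : Nat := @Bool.rec (fun _ => Nat) (Ptab_154) (Ptab_155) (Nat.ble 155 c)
noncomputable def Ptab_s_153_156 (c : Nat) : Nat := @Bool.rec (fun _ => Nat) (Ptab_153) (Ptab_s_154_156 c) (Nat.ble 154 c)
noncomputable def Ptab_s_156_158 (c : Nat) : Nat := @Bool.rec (fun _ => Nat) (Ptab_156) (Ptab_157) (Nat.ble 157 c)
noncomputable def Ptab_s_158_160 (c : Nat) : Nat := @Bool.rec (fun _ => Nat) (Ptab_158) (Ptab_159) (Nat.ble 159 c)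
noncomputable def Ptab_s_156_160 (c : Nat) : Nat := @Bool.rec (fun _ => Nat) (Ptab_s_156_158 c) (Ptab_s_158_160 c) (Nat.ble 158 c)
noncomputable def Ptab_s_153_160 (c : Nat) : Nat := @Bool.rec (fun _ => Nat) (Ptab_s_153_156 c) (Ptab_s_156_160 c) (Nat.ble 156 c)
noncomputable def Ptab_s_160_162 (c : Nat) : Nat := @Bool.rec (fun _ => Nat) (Ptab_160) (Ptab_161) (Nat.ble 161 c)
noncomputable def Ptab_s_162_164 (c : Nat) : Nat := @Bool.rec (fun _ => Nat) (Ptab_162) (Ptab_163) (Nat.ble 163 c)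
noncomputable def Ptab_s_160_164 (c : Nat) : Nat := @Bool.rec (fun _ => Nat) (Ptab_s_160_162 c) (Ptab_s_162_164 c) (Nat.ble 162 c)
noncomputable def Ptab_s_164_166 (c : Nat) : Nat := @Bool.rec (fun _ => Nat) (Ptab_164) (Ptab_165) (Nat.ble 165 c)
noncomputable def Ptab_s_166_168 (c : Nat) : Nat := @Bool.rec (fun _ => Nat) (Ptab_166) (Ptab_167) (Nat.ble 167 c)
noncomputable def Ptab_s_164_168 (c : Nat) : Nat := @Bool.rec (fun _ => Nat) (Ptab_s_164_166 c) (Ptab_s_166_168 c) (Nat.ble 166 c)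
noncomputable def Ptab_s_160_168 (c : Nat) : Nat := @Bool.rec (fun _ => Nat) (Ptab_s_160_164 c) (Ptab_s_164_168 c) (Nat.ble 164 c)
noncomputable def Ptab_s_153_168 (c : Nat) : Nat := @Bool.rec (fun _ => Nat) (Ptab_s_153_160 c) (Ptab_s_160_168 c) (Nat.ble 160 c)
noncomputable def Ptab_s_168_170 (c : Nat) : Nat := @Bool.rec (fun _ => Nat) (Ptab_168) (Ptab_169) (Nat.ble 169 c)
noncomputable def Ptab_s_170_172 (c : Nat) : Nat := @Bool.rec (fun _ => Nat) (Ptab_170) (Ptab_171) (Nat.ble 171 c)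
noncomputable def Ptab_s_168_172 (c : Nat) : Nat := @Bool.rec (fun _ => Nat) (Ptab_s_168_170 c) (Ptab_s_170_172 c) (Nat.ble 170 c)
noncomputable def Ptab_s_172_174 (c : Nat) : Nat := @Bool.rec (fun _ => Nat) (Ptab_172) (Ptab_173) (Nat.ble 173 c)
noncomputable def Ptab_s_174_176 (c : Nat) : Nat := @Bool.rec (fun _ => Nat) (Ptab_174) (Ptab_175) (Nat.ble 175 c)
noncomputable def Ptab_s_172_176 (c : Nat) : Nat := @Bool.rec (fun _ => Nat) (Ptab_s_172_174 c) (Ptab_s_174_176 c) (Nat.ble 174 c)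
noncomputable def Ptab_s_168_176 (c : Nat) : Nat := @Bool.rec (fun _ => Nat) (Ptab_s_168_172 c) (Ptab_s_172_176 c) (Nat.ble 172 c)
noncomputable def Ptab_s_176_178 (c : Nat) : Nat := @Bool.rec (fun _ => Nat) (Ptab_176) (Ptab_177) (Nat.ble 177 c)
noncomputable def Ptab_s_178_180 (c : Nat) : Nat := @Bool.rec (fun _ => Nat) (Ptab_178) (Ptab_179) (Nat.ble 179 c)
noncomputable def Ptab_s_176_180 (c : Nat) : Nat := @Bool.rec (fun _ => Nat) (Ptab_s_176_178 c) (Ptab_s_178_180 c) (Nat.ble 178 c)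
noncomputable def Ptab_s_180_182 (c : Nat) : Nat := @Bool.rec (fun _ => Nat) (Ptab_180) (Ptab_181) (Nat.ble 181 c)
noncomputable def Ptab_s_182_184 (c : Nat) : Nat := @Bool.rec (fun _ => Nat) (Ptab_182) (Ptab_183) (Nat.ble 183 c)
noncomputable def Ptab_s_180_184 (c : Nat) : Nat := @Bool.rec (fun _ => Nat) (Ptab_s_180_182 c) (Ptab_s_182_184 c) (Nat.ble 182 c)
noncomputable def Ptab_s_176_184 (c : Nat) : Nat := @Bool.rec (fun _ => Nat) (Ptab_s_176_180 c) (Ptab_s_180_184 c) (Nat.ble 180 c)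
noncomputable def Ptab_s_168_184 (c : Nat) : Nat := @Bool.rec (fun _ => Nat) (Ptab_s_168_176 c) (Ptab_s_176_184 c) (Nat.ble 176 c)
noncomputable def Ptab_s_153_184 (c : Nat) : Nat := @Bool.rec (fun _ => Nat) (Ptab_s_153_168 c) (Ptab_s_168_184 c) (Nat.ble 168 c)
noncomputable def Ptab_s_123_184 (c : Nat) : Nat := @Bool.rec (fun _ => Nat) (Ptab_s_123_153 c) (Ptab_s_153_184 c) (Nat.ble 153 c)
noncomputable def Ptab_s_185_187 (c : Nat) : Nat := @Bool.rec (fun _ => Nat) (Ptab_185) (Ptab_186) (Nat.ble 186 c)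
noncomputable def Ptab_s_184_187 (c : Nat) : Nat := @Bool.rec (fun _ => Nat) (Ptab_184) (Ptab_s_185_187 c) (Nat.ble 185 c)
noncomputable def Ptab_s_187_189 (c : Nat) : Nat := @Bool.rec (fun _ => Nat) (Ptab_187) (Ptab_188) (Nat.ble 188 c)
noncomputable def Ptab_s_189_191 (c : Nat) : Nat := @Bool.rec (fun _ => Nat) (Ptab_189) (Ptab_190) (Nat.ble 190 c)
noncomputable def Ptab_s_187_191 (c : Nat) : Nat := @Bool.rec (fun _ => Nat) (Ptab_s_187_189 c) (Ptab_s_189_191 c) (Nat.ble 189 c)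
noncomputable def Ptab_s_184_191 (c : Nat) : Nat := @Bool.rec (fun _ => Nat) (Ptab_s_184_187 c) (Ptab_s_187_191 c) (Nat.ble 187 c)
noncomputable def Ptab_s_191_193 (c : Nat) : Nat := @Bool.rec (fun _ => Nat) (Ptab_191) (Ptab_192) (Nat.ble 192 c)
noncomputable def Ptab_s_193_195 (c : Nat) : Nat := @Bool.rec (fun _ => Nat) (Ptab_193) (Ptab_194) (Nat.ble 194 c)
noncomputable def Ptab_s_191_195 (c : Nat) : Nat := @Bool.rec (fun _ => Nat) (Ptab_s_191_193 c) (Ptab_s_193_195 c) (Nat.ble 193 c)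
noncomputable def Ptab_s_195_197 (c : Nat) : Nat := @Bool.rec (fun _ => Nat) (Ptab_195) (Ptab_196) (Nat.ble 196 c)
noncomputable def Ptab_s_197_199 (c : Nat) : Nat := @Bool.rec (fun _ => Nat) (Ptab_197) (Ptab_198) (Nat.ble 198 c)
noncomputable def Ptab_s_195_199 (c : Nat) : Nat := @Bool.rec (fun _ => Nat) (Ptab_s_195_197 c) (Ptab_s_197_199 c) (Nat.ble 197 c)
noncomputable def Ptab_s_191_199 (c : Nat) : Nat := @Bool.rec (fun _ => Nat) (Ptab_s_191_195 c) (Ptab_s_195_199 c) (Nat.ble 195 c)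
noncomputable def Ptab_s_184_199 (c : Nat) : Nat := @Bool.rec (fun _ => Nat) (Ptab_s_184_191 c) (Ptab_s_191_199 c) (Nat.ble 191 c)
noncomputable def Ptab_s_199_201 (c : Nat) : Nat := @Bool.rec (fun _ => Nat) (Ptab_199) (Ptab_200) (Nat.ble 200 c)
noncomputable def Ptab_s_201_203 (c : Nat) : Nat := @Bool.rec (fun _ => Nat) (Ptab_201) (Ptab_202) (Nat.ble 202 c)
noncomputable def Ptab_s_199_203 (c : Nat) : Nat := @Bool.rec (fun _ => Nat) (Ptab_s_199_201 c) (Ptab_s_201_203 c) (Nat.ble 201 c)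
noncomputable def Ptab_s_203_205 (c : Nat) : Nat := @Bool.rec (fun _ => Nat) (Ptab_203) (Ptab_204) (Nat.ble 204 c)
noncomputable def Ptab_s_205_207 (c : Nat) : Nat := @Bool.rec (fun _ => Nat) (Ptab_205) (Ptab_206) (Nat.ble 206 c)
noncomputable def Ptab_s_203_207 (c : Nat) : Nat := @Bool.rec (fun _ => Nat) (Ptab_s_203_205 c) (Ptab_s_205_207 c) (Nat.ble 205 c)
noncomputable def Ptab_s_199_207 (c : Nat) : Nat := @Bool.rec (fun _ => Nat) (Ptab_s_199_203 c) (Ptab_s_203_207 c) (Nat.ble 203 c)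
noncomputable def Ptab_s_207_209 (c : Nat) : Nat := @Bool.rec (fun _ => Nat) (Ptab_207) (Ptab_208) (Nat.ble 208 c)
noncomputable def Ptab_s_209_211 (c : Nat) : Nat := @Bool.rec (fun _ => Nat) (Ptab_209) (Ptab_210) (Nat.ble 210 c)
noncomputable def Ptab_s_207_211 (c : Nat) : Nat := @Bool.rec (fun _ => Nat) (Ptab_s_207_209 c) (Ptab_s_209_211 c) (Nat.ble 209 c)
noncomputable def Ptab_s_211_213 (c : Nat) : Nat := @Bool.rec (fun _ => Nat) (Ptab_211) (Ptab_212) (Nat.ble 212 c)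
noncomputable def Ptab_s_213_215 (c : Nat) : Nat := @Bool.rec (fun _ => Nat) (Ptab_213) (Ptab_214) (Nat.ble 214 c)
noncomputable def Ptab_s_211_215 (c : Nat) : Nat := @Bool.rec (fun _ => Nat) (Ptab_s_211_213 c) (Ptab_s_213_215 c) (Nat.ble 213 c)
noncomputable def Ptab_s_207_215 (c : Nat) : Nat := @Bool.rec (fun _ => Nat) (Ptab_s_207_211 c) (Ptab_s_211_215 c) (Nat.ble 211 c)
noncomputable def Ptab_s_199_215 (c : Nat) : Nat := @Bool.rec (fun _ => Nat) (Ptab_s_199_207 c) (Ptab_s_207_215 c) (Nat.ble 207 c)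
noncomputable def Ptab_s_184_215 (c : Nat) : Nat := @Bool.rec (fun _ => Nat) (Ptab_s_184_199 c) (Ptab_s_199_215 c) (Nat.ble 199 c)
noncomputable def Ptab_s_216_218 (c : Nat) : Nat := @Bool.rec (fun _ => Nat) (Ptab_216) (Ptab_217) (Nat.ble 217 c)
noncomputable def Ptab_s_215_218 (c : Nat) : Nat := @Bool.rec (fun _ => Nat) (Ptab_215) (Ptab_s_216_218 c) (Nat.ble 216 c)
noncomputable def Ptab_s_218_220 (c : Nat) : Nat := @Bool.rec (fun _ => Nat) (Ptab_218) (Ptab_219) (Nat.ble 219 c)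
noncomputable def Ptab_s_220_222 (c : Nat) : Nat := @Bool.rec (fun _ => Nat) (Ptab_220) (Ptab_221) (Nat.ble 221 c)
noncomputable def Ptab_s_218_222 (c : Nat) : Nat := @Bool.rec (fun _ => Nat) (Ptab_s_218_220 c) (Ptab_s_220_222 c) (Nat.ble 220 c)
noncomputable def Ptab_s_215_222 (c : Nat) : Nat := @Bool.rec (fun _ => Nat) (Ptab_s_215_218 c) (Ptab_s_218_222 c) (Nat.ble 218 c)
noncomputable def Ptab_s_222_224 (c : Nat) : Nat := @Bool.rec (fun _ => Nat) (Ptab_222) (Ptab_223) (Nat.ble 223 c)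
noncomputable def Ptab_s_224_226 (c : Nat) : Nat := @Bool.rec (fun _ => Nat) (Ptab_224) (Ptab_225) (Nat.ble 225 c)
noncomputable def Ptab_s_222_226 (c : Nat) : Nat := @Bool.rec (fun _ => Nat) (Ptab_s_222_224 c) (Ptab_s_224_226 c) (Nat.ble 224 c)
noncomputable def Ptab_s_226_228 (c : Nat) : Nat := @Bool.rec (fun _ => Nat) (Ptab_226) (Ptab_227) (Nat.ble 227 c)
noncomputable def Ptab_s_228_230 (c : Nat) : Nat := @Bool.rec (fun _ => Nat) (Ptab_228) (Ptab_229) (Nat.ble 229 c)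
noncomputable def Ptab_s_226_230 (c : Nat) : Nat := @Bool.rec (fun _ => Nat) (Ptab_s_226_228 c) (Ptab_s_228_230 c) (Nat.ble 228 c)
noncomputable def Ptab_s_222_230 (c : Nat) : Nat := @Bool.rec (fun _ => Nat) (Ptab_s_222_226 c) (Ptab_s_226_230 c) (Nat.ble 226 c)
noncomputable def Ptab_s_215_230 (c : Nat) : Nat := @Bool.rec (fun _ => Nat) (Ptab_s_215_222 c) (Ptab_s_222_230 c) (Nat.ble 222 c)
noncomputable def Ptab_s_230_232 (c : Nat) : Nat := @Bool.rec (fun _ => Nat) (Ptab_230) (Ptab_231) (Nat.ble 231 c)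
noncomputable def Ptab_s_232_234 (c : Nat) : Nat := @Bool.rec (fun _ => Nat) (Ptab_232) (Ptab_233) (Nat.ble 233 c)
noncomputable def Ptab_s_230_234 (c : Nat) : Nat := @Bool.rec (fun _ => Nat) (Ptab_s_230_232 c) (Ptab_s_232_234 c) (Nat.ble 232 c)
noncomputable def Ptab_s_234_236 (c : Nat) : Nat := @Bool.rec (fun _ => Nat) (Ptab_234) (Ptab_235) (Nat.ble 235 c)
noncomputable def Ptab_s_236_238 (c : Nat) : Nat := @Bool.rec (fun _ => Nat) (Ptab_236) (Ptab_237) (Nat.ble 237 c)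
noncomputable def Ptab_s_234_238 (c : Nat) : Nat := @Bool.rec (fun _ => Nat) (Ptab_s_234_236 c) (Ptab_s_236_238 c) (Nat.ble 236 c)
noncomputable def Ptab_s_230_238 (c : Nat) : Nat := @Bool.rec (fun _ => Nat) (Ptab_s_230_234 c) (Ptab_s_234_238 c) (Nat.ble 234 c)
noncomputable def Ptab_s_238_240 (c : Nat) : Nat := @Bool.rec (fun _ => Nat) (Ptab_238) (Ptab_239) (Nat.ble 239 c)
noncomputable def Ptab_s_240_242 (c : Nat) : Nat := @Bool.rec (fun _ => Nat) (Ptab_240) (Ptab_241) (Nat.ble 241 c)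
noncomputable def Ptab_s_238_242 (c : Nat) : Nat := @Bool.rec (fun _ => Nat) (Ptab_s_238_240 c) (Ptab_s_240_242 c) (Nat.ble 240 c)
noncomputable def Ptab_s_242_244 (c : Nat) : Nat := @Bool.rec (fun _ => Nat) (Ptab_242) (Ptab_243) (Nat.ble 243 c)
noncomputable def Ptab_s_244_246 (c : Nat) : Nat := @Bool.rec (fun _ => Nat) (Ptab_244) (Ptab_245) (Nat.ble 245 c)
noncomputable def Ptab_s_242_246 (c : Nat) : Nat := @Bool.rec (fun _ => Nat) (Ptab_s_242_244 c) (Ptab_s_244_246 c) (Nat.ble 244 c)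
noncomputable def Ptab_s_238_246 (c : Nat) : Nat := @Bool.rec (fun _ => Nat) (Ptab_s_238_242 c) (Ptab_s_242_246 c) (Nat.ble 242 c)
noncomputable def Ptab_s_230_246 (c : Nat) : Nat := @Bool.rec (fun _ => Nat) (Ptab_s_230_238 c) (Ptab_s_238_246 c) (Nat.ble 238 c)
noncomputable def Ptab_s_215_246 (c : Nat) : Nat := @Bool.rec (fun _ => Nat) (Ptab_s_215_230 c) (Ptab_s_230_246 c) (Nat.ble 230 c)
noncomputable def Ptab_s_184_246 (c : Nat) : Nat := @Bool.rec (fun _ => Nat) (Ptab_s_184_215 c) (Ptab_s_215_246 c) (Nat.ble 215 c)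
noncomputable def Ptab_s_123_246 (c : Nat) : Nat := @Bool.rec (fun _ => Nat) (Ptab_s_123_184 c) (Ptab_s_184_246 c) (Nat.ble 184 c)
noncomputable def Ptab_s_0_246 (c : Nat) : Nat := @Bool.rec (fun _ => Nat) (Ptab_s_0_123 c) (Ptab_s_123_246 c) (Nat.ble 123 c)
noncomputable def Ptab_s_247_249 (c : Nat) : Nat := @Bool.rec (fun _ => Nat) (Ptab_247) (Ptab_248) (Nat.ble 248 c)
noncomputable def Ptab_s_246_249 (c : Nat) : Nat := @Bool.rec (fun _ => Nat) (Ptab_246) (Ptab_s_247_249 c) (Nat.ble 247 c)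
noncomputable def Ptab_s_249_251 (c : Nat) : Nat := @Bool.rec (fun _ => Nat) (Ptab_249) (Ptab_250) (Nat.ble 250 c)
noncomputable def Ptab_s_251_253 (c : Nat) : Nat := @Bool.rec (fun _ => Nat) (Ptab_251) (Ptab_252) (Nat.ble 252 c)
noncomputable def Ptab_s_249_253 (c : Nat) : Nat := @Bool.rec (fun _ => Nat) (Ptab_s_249_251 c) (Ptab_s_251_253 c) (Nat.ble 251 c)
noncomputable def Ptab_s_246_253 (c : Nat) : Nat := @Bool.rec (fun _ => Nat) (Ptab_s_246_249 c) (Ptab_s_249_253 c) (Nat.ble 249 c)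
noncomputable def Ptab_s_253_255 (c : Nat) : Nat := @Bool.rec (fun _ => Nat) (Ptab_253) (Ptab_254) (Nat.ble 254 c)
noncomputable def Ptab_s_255_257 (c : Nat) : Nat := @Bool.rec (fun _ => Nat) (Ptab_255) (Ptab_256) (Nat.ble 256 c)
noncomputable def Ptab_s_253_257 (c : Nat) : Nat := @Bool.rec (fun _ => Nat) (Ptab_s_253_255 c) (Ptab_s_255_257 c) (Nat.ble 255 c)
noncomputable def Ptab_s_257_259 (c : Nat) : Nat := @Bool.rec (fun _ => Nat) (Ptab_257) (Ptab_258) (Nat.ble 258 c)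
noncomputable def Ptab_s_259_261 (c : Nat) : Nat := @Bool.rec (fun _ => Nat) (Ptab_259) (Ptab_260) (Nat.ble 260 c)
noncomputable def Ptab_s_257_261 (c : Nat) : Nat := @Bool.rec (fun _ => Nat) (Ptab_s_257_259 c) (Ptab_s_259_261 c) (Nat.ble 259 c)
noncomputable def Ptab_s_253_261 (c : Nat) : Nat := @Bool.rec (fun _ => Nat) (Ptab_s_253_257 c) (Ptab_s_257_261 c) (Nat.ble 257 c)
noncomputable def Ptab_s_246_261 (c : Nat) : Nat := @Bool.rec (fun _ => Nat) (Ptab_s_246_253 c) (Ptab_s_253_261 c) (Nat.ble 253 c)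
noncomputable def Ptab_s_262_264 (c : Nat) : Nat := @Bool.rec (fun _ => Nat) (Ptab_262) (Ptab_263) (Nat.ble 263 c)
noncomputable def Ptab_s_261_264 (c : Nat) : Nat := @Bool.rec (fun _ => Nat) (Ptab_261) (Ptab_s_262_264 c) (Nat.ble 262 c)
noncomputable def Ptab_s_264_266 (c : Nat) : Nat := @Bool.rec (fun _ => Nat) (Ptab_264) (Ptab_265) (Nat.ble 265 c)
noncomputable def Ptab_s_266_268 (c : Nat) : Nat := @Bool.rec (fun _ => Nat) (Ptab_266) (Ptab_267) (Nat.ble 267 c)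
noncomputable def Ptab_s_264_268 (c : Nat) : Nat := @Bool.rec (fun _ => Nat) (Ptab_s_264_266 c) (Ptab_s_266_268 c) (Nat.ble 266 c)
noncomputable def Ptab_s_261_268 (c : Nat) : Nat := @Bool.rec (fun _ => Nat) (Ptab_s_261_264 c) (Ptab_s_264_268 c) (Nat.ble 264 c)
noncomputable def Ptab_s_268_270 (c : Nat) : Nat := @Bool.rec (fun _ => Nat) (Ptab_268) (Ptab_269) (Nat.ble 269 c)
noncomputable def Ptab_s_270_272 (c : Nat) : Nat := @Bool.rec (fun _ => Nat) (Ptab_270) (Ptab_271) (Nat.ble 271 c)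
noncomputable def Ptab_s_268_272 (c : Nat) : Nat := @Bool.rec (fun _ => Nat) (Ptab_s_268_270 c) (Ptab_s_270_272 c) (Nat.ble 270 c)
noncomputable def Ptab_s_272_274 (c : Nat) : Nat := @Bool.rec (fun _ => Nat) (Ptab_272) (Ptab_273) (Nat.ble 273 c)
noncomputable def Ptab_s_274_276 (c : Nat) : Nat := @Bool.rec (fun _ => Nat) (Ptab_274) (Ptab_275) (Nat.ble 275 c)
noncomputable def Ptab_s_272_276 (c : Nat) : Nat := @Bool.rec (fun _ => Nat) (Ptab_s_272_274 c) (Ptab_s_274_276 c) (Nat.ble 274 c)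
noncomputable def Ptab_s_268_276 (c : Nat) : Nat := @Bool.rec (fun _ => Nat) (Ptab_s_268_272 c) (Ptab_s_272_276 c) (Nat.ble 272 c)
noncomputable def Ptab_s_261_276 (c : Nat) : Nat := @Bool.rec (fun _ => Nat) (Ptab_s_261_268 c) (Ptab_s_268_276 c) (Nat.ble 268 c)
noncomputable def Ptab_s_246_276 (c : Nat) : Nat := @Bool.rec (fun _ => Nat) (Ptab_s_246_261 c) (Ptab_s_261_276 c) (Nat.ble 261 c)
noncomputable def Ptab_s_277_279 (c : Nat) : Nat := @Bool.rec (fun _ => Nat) (Ptab_277) (Ptab_278) (Nat.ble 278 c)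
noncomputable def Ptab_s_276_279 (c : Nat) : Nat := @Bool.rec (fun _ => Nat) (Ptab_276) (Ptab_s_277_279 c) (Nat.ble 277 c)
noncomputable def Ptab_s_279_281 (c : Nat) : Nat := @Bool.rec (fun _ => Nat) (Ptab_279) (Ptab_280) (Nat.ble 280 c)
noncomputable def Ptab_s_281_283 (c : Nat) : Nat := @Bool.rec (fun _ => Nat) (Ptab_281) (Ptab_282) (Nat.ble 282 c)
noncomputable def Ptab_s_279_283 (c : Nat) : Nat := @Bool.rec (fun _ => Nat) (Ptab_s_279_281 c) (Ptab_s_281_283 c) (Nat.ble 281 c)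
noncomputable def Ptab_s_276_283 (c : Nat) : Nat := @Bool.rec (fun _ => Nat) (Ptab_s_276_279 c) (Ptab_s_279_283 c) (Nat.ble 279 c)
noncomputable def Ptab_s_283_285 (c : Nat) : Nat := @Bool.rec (fun _ => Nat) (Ptab_283) (Ptab_284) (Nat.ble 284 c)
noncomputable def Ptab_s_285_287 (c : Nat) : Nat := @Bool.rec (fun _ => Nat) (Ptab_285) (Ptab_286) (Nat.ble 286 c)
noncomputable def Ptab_s_283_287 (c : Nat) : Nat := @Bool.rec (fun _ => Nat) (Ptab_s_283_285 c) (Ptab_s_285_287 c) (Nat.ble 285 c)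
noncomputable def Ptab_s_287_289 (c : Nat) : Nat := @Bool.rec (fun _ => Nat) (Ptab_287) (Ptab_288) (Nat.ble 288 c)
noncomputable def Ptab_s_289_291 (c : Nat) : Nat := @Bool.rec (fun _ => Nat) (Ptab_289) (Ptab_290) (Nat.ble 290 c)
noncomputable def Ptab_s_287_291 (c : Nat) : Nat := @Bool.rec (fun _ => Nat) (Ptab_s_287_289 c) (Ptab_s_289_291 c) (Nat.ble 289 c)
noncomputable def Ptab_s_283_291 (c : Nat) : Nat := @Bool.rec (fun _ => Nat) (Ptab_s_283_287 c) (Ptab_s_287_291 c) (Nat.ble 287 c)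
noncomputable def Ptab_s_276_291 (c : Nat) : Nat := @Bool.rec (fun _ => Nat) (Ptab_s_276_283 c) (Ptab_s_283_291 c) (Nat.ble 283 c)
noncomputable def Ptab_s_291_293 (c : Nat) : Nat := @Bool.rec (fun _ => Nat) (Ptab_291) (Ptab_292) (Nat.ble 292 c)
noncomputable def Ptab_s_293_295 (c : Nat) : Nat := @Bool.rec (fun _ => Nat) (Ptab_293) (Ptab_294) (Nat.ble 294 c)
noncomputable def Ptab_s_291_295 (c : Nat) : Nat := @Bool.rec (fun _ => Nat) (Ptab_s_291_293 c) (Ptab_s_293_295 c) (Nat.ble 293 c)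
noncomputable def Ptab_s_295_297 (c : Nat) : Nat := @Bool.rec (fun _ => Nat) (Ptab_295) (Ptab_296) (Nat.ble 296 c)
noncomputable def Ptab_s_297_299 (c : Nat) : Nat := @Bool.rec (fun _ => Nat) (Ptab_297) (Ptab_298) (Nat.ble 298 c)
noncomputable def Ptab_s_295_299 (c : Nat) : Nat := @Bool.rec (fun _ => Nat) (Ptab_s_295_297 c) (Ptab_s_297_299 c) (Nat.ble 297 c)
noncomputable def Ptab_s_291_299 (c : Nat) : Nat := @Bool.rec (fun _ => Nat) (Ptab_s_291_295 c) (Ptab_s_295_299 c) (Nat.ble 295 c)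
noncomputable def Ptab_s_299_301 (c : Nat) : Nat := @Bool.rec (fun _ => Nat) (Ptab_299) (Ptab_300) (Nat.ble 300 c)
noncomputable def Ptab_s_301_303 (c : Nat) : Nat := @Bool.rec (fun _ => Nat) (Ptab_301) (Ptab_302) (Nat.ble 302 c)
noncomputable def Ptab_s_299_303 (c : Nat) : Nat := @Bool.rec (fun _ => Nat) (Ptab_s_299_301 c) (Ptab_s_301_303 c) (Nat.ble 301 c)
noncomputable def Ptab_s_303_305 (c : Nat) : Nat := @Bool.rec (fun _ => Nat) (Ptab_303) (Ptab_304) (Nat.ble 304 c)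
noncomputable def Ptab_s_305_307 (c : Nat) : Nat := @Bool.rec (fun _ => Nat) (Ptab_305) (Ptab_306) (Nat.ble 306 c)
noncomputable def Ptab_s_303_307 (c : Nat) : Nat := @Bool.rec (fun _ => Nat) (Ptab_s_303_305 c) (Ptab_s_305_307 c) (Nat.ble 305 c)
noncomputable def Ptab_s_299_307 (c : Nat) : Nat := @Bool.rec (fun _ => Nat) (Ptab_s_299_303 c) (Ptab_s_303_307 c) (Nat.ble 303 c)
noncomputable def Ptab_s_291_307 (c : Nat) : Nat := @Bool.rec (fun _ => Nat) (Ptab_s_291_299 c) (Ptab_s_299_307 c) (Nat.ble 299 c)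
noncomputable def Ptab_s_276_307 (c : Nat) : Nat := @Bool.rec (fun _ => Nat) (Ptab_s_276_291 c) (Ptab_s_291_307 c) (Nat.ble 291 c)
noncomputable def Ptab_s_246_307 (c : Nat) : Nat := @Bool.rec (fun _ => Nat) (Ptab_s_246_276 c) (Ptab_s_276_307 c) (Nat.ble 276 c)
noncomputable def Ptab_s_308_310 (c : Nat) : Nat := @Bool.rec (fun _ => Nat) (Ptab_308) (Ptab_309) (Nat.ble 309 c)
noncomputable def Ptab_s_307_310 (c : Nat) : Nat := @Bool.rec (fun _ => Nat) (Ptab_307) (Ptab_s_308_310 c) (Nat.ble 308 c)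
noncomputable def Ptab_s_310_312 (c : Nat) : Nat := @Bool.rec (fun _ => Nat) (Ptab_310) (Ptab_311) (Nat.ble 311 c)
noncomputable def Ptab_s_312_314 (c : Nat) : Nat := @Bool.rec (fun _ => Nat) (Ptab_312) (Ptab_313) (Nat.ble 313 c)
noncomputable def Ptab_s_310_314 (c : Nat) : Nat := @Bool.rec (fun _ => Nat) (Ptab_s_310_312 c) (Ptab_s_312_314 c) (Nat.ble 312 c)
noncomputable def Ptab_s_307_314 (c : Nat) : Nat := @Bool.rec (fun _ => Nat) (Ptab_s_307_310 c) (Ptab_s_310_314 c) (Nat.ble 310 c)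
noncomputable def Ptab_s_314_316 (c : Nat) : Nat := @Bool.rec (fun _ => Nat) (Ptab_314) (Ptab_315) (Nat.ble 315 c)
noncomputable def Ptab_s_316_318 (c : Nat) : Nat := @Bool.rec (fun _ => Nat) (Ptab_316) (Ptab_317) (Nat.ble 317 c)
noncomputable def Ptab_s_314_318 (c : Nat) : Nat := @Bool.rec (fun _ => Nat) (Ptab_s_314_316 c) (Ptab_s_316_318 c) (Nat.ble 316 c)
noncomputable def Ptab_s_318_320 (c : Nat) : Nat := @Bool.rec (fun _ => Nat) (Ptab_318) (Ptab_319) (Nat.ble 319 c)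
noncomputable def Ptab_s_320_322 (c : Nat) : Nat := @Bool.rec (fun _ => Nat) (Ptab_320) (Ptab_321) (Nat.ble 321 c)
noncomputable def Ptab_s_318_322 (c : Nat) : Nat := @Bool.rec (fun _ => Nat) (Ptab_s_318_320 c) (Ptab_s_320_322 c) (Nat.ble 320 c)
noncomputable def Ptab_s_314_322 (c : Nat) : Nat := @Bool.rec (fun _ => Nat) (Ptab_s_314_318 c) (Ptab_s_318_322 c) (Nat.ble 318 c)
noncomputable def Ptab_s_307_322 (c : Nat) : Nat := @Bool.rec (fun _ => Nat) (Ptab_s_307_314 c) (Ptab_s_314_322 c) (Nat.ble 314 c)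
noncomputable def Ptab_s_322_324 (c : Nat) : Nat := @Bool.rec (fun _ => Nat) (Ptab_322) (Ptab_323) (Nat.ble 323 c)
noncomputable def Ptab_s_324_326 (c : Nat) : Nat := @Bool.rec (fun _ => Nat) (Ptab_324) (Ptab_325) (Nat.ble 325 c)
noncomputable def Ptab_s_322_326 (c : Nat) : Nat := @Bool.rec (fun _ => Nat) (Ptab_s_322_324 c) (Ptab_s_324_326 c) (Nat.ble 324 c)
noncomputable def Ptab_s_326_328 (c : Nat) : Nat := @Bool.rec (fun _ => Nat) (Ptab_326) (Ptab_327) (Nat.ble 327 c)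
noncomputable def Ptab_s_328_330 (c : Nat) : Nat := @Bool.rec (fun _ => Nat) (Ptab_328) (Ptab_329) (Nat.ble 329 c)
noncomputable def Ptab_s_326_330 (c : Nat) : Nat := @Bool.rec (fun _ => Nat) (Ptab_s_326_328 c) (Ptab_s_328_330 c) (Nat.ble 328 c)
noncomputable def Ptab_s_322_330 (c : Nat) : Nat := @Bool.rec (fun _ => Nat) (Ptab_s_322_326 c) (Ptab_s_326_330 c) (Nat.ble 326 c)
noncomputable def Ptab_s_330_332 (c : Nat) : Nat := @Bool.rec (fun _ => Nat) (Ptab_330) (Ptab_331) (Nat.ble 331 c)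
noncomputable def Ptab_s_332_334 (c : Nat) : Nat := @Bool.rec (fun _ => Nat) (Ptab_332) (Ptab_333) (Nat.ble 333 c)
noncomputable def Ptab_s_330_334 (c : Nat) : Nat := @Bool.rec (fun _ => Nat) (Ptab_s_330_332 c) (Ptab_s_332_334 c) (Nat.ble 332 c)
noncomputable def Ptab_s_334_336 (c : Nat) : Nat := @Bool.rec (fun _ => Nat) (Ptab_334) (Ptab_335) (Nat.ble 335 c)
noncomputable def Ptab_s_336_338 (c : Nat) : Nat := @Bool.rec (fun _ => Nat) (Ptab_336) (Ptab_337) (Nat.ble 337 c)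
noncomputable def Ptab_s_334_338 (c : Nat) : Nat := @Bool.rec (fun _ => Nat) (Ptab_s_334_336 c) (Ptab_s_336_338 c) (Nat.ble 336 c)
noncomputable def Ptab_s_330_338 (c : Nat) : Nat := @Bool.rec (fun _ => Nat) (Ptab_s_330_334 c) (Ptab_s_334_338 c) (Nat.ble 334 c)
noncomputable def Ptab_s_322_338 (c : Nat) : Nat := @Bool.rec (fun _ => Nat) (Ptab_s_322_330 c) (Ptab_s_330_338 c) (Nat.ble 330 c)
noncomputable def Ptab_s_307_338 (c : Nat) : Nat := @Bool.rec (fun _ => Nat) (Ptab_s_307_322 c) (Ptab_s_322_338 c) (Nat.ble 322 c)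
noncomputable def Ptab_s_339_341 (c : Nat) : Nat := @Bool.rec (fun _ => Nat) (Ptab_339) (Ptab_340) (Nat.ble 340 c)
noncomputable def Ptab_s_338_341 (c : Nat) : Nat := @Bool.rec (fun _ => Nat) (Ptab_338) (Ptab_s_339_341 c) (Nat.ble 339 c)
noncomputable def Ptab_s_341_343 (c : Nat) : Nat := @Bool.rec (fun _ => Nat) (Ptab_341) (Ptab_342) (Nat.ble 342 c)
noncomputable def Ptab_s_343_345 (c : Nat) : Nat := @Bool.rec (fun _ => Nat) (Ptab_343) (Ptab_344) (Nat.ble 344 c)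
noncomputable def Ptab_s_341_345 (c : Nat) : Nat := @Bool.rec (fun _ => Nat) (Ptab_s_341_343 c) (Ptab_s_343_345 c) (Nat.ble 343 c)
noncomputable def Ptab_s_338_345 (c : Nat) : Nat := @Bool.rec (fun _ => Nat) (Ptab_s_338_341 c) (Ptab_s_341_345 c) (Nat.ble 341 c)
noncomputable def Ptab_s_345_347 (c : Nat) : Nat := @Bool.rec (fun _ => Nat) (Ptab_345) (Ptab_346) (Nat.ble 346 c)
noncomputable def Ptab_s_347_349 (c : Nat) : Nat := @Bool.rec (fun _ => Nat) (Ptab_347) (Ptab_348) (Nat.ble 348 c)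
noncomputable def Ptab_s_345_349 (c : Nat) : Nat := @Bool.rec (fun _ => Nat) (Ptab_s_345_347 c) (Ptab_s_347_349 c) (Nat.ble 347 c)
noncomputable def Ptab_s_349_351 (c : Nat) : Nat := @Bool.rec (fun _ => Nat) (Ptab_349) (Ptab_350) (Nat.ble 350 c)
noncomputable def Ptab_s_351_353 (c : Nat) : Nat := @Bool.rec (fun _ => Nat) (Ptab_351) (Ptab_352) (Nat.ble 352 c)
noncomputable def Ptab_s_349_353 (c : Nat) : Nat := @Bool.rec (fun _ => Nat) (Ptab_s_349_351 c) (Ptab_s_351_353 c) (Nat.ble 351 c)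
noncomputable def Ptab_s_345_353 (c : Nat) : Nat := @Bool.rec (fun _ => Nat) (Ptab_s_345_349 c) (Ptab_s_349_353 c) (Nat.ble 349 c)
noncomputable def Ptab_s_338_353 (c : Nat) : Nat := @Bool.rec (fun _ => Nat) (Ptab_s_338_345 c) (Ptab_s_345_353 c) (Nat.ble 345 c)
noncomputable def Ptab_s_353_355 (c : Nat) : Nat := @Bool.rec (fun _ => Nat) (Ptab_353) (Ptab_354) (Nat.ble 354 c)
noncomputable def Ptab_s_355_357 (c : Nat) : Nat := @Bool.rec (fun _ => Nat) (Ptab_355) (Ptab_356) (Nat.ble 356 c)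
noncomputable def Ptab_s_353_357 (c : Nat) : Nat := @Bool.rec (fun _ => Nat) (Ptab_s_353_355 c) (Ptab_s_355_357 c) (Nat.ble 355 c)
noncomputable def Ptab_s_357_359 (c : Nat) : Nat := @Bool.rec (fun _ => Nat) (Ptab_357) (Ptab_358) (Nat.ble 358 c)
noncomputable def Ptab_s_359_361 (c : Nat) : Nat := @Bool.rec (fun _ => Nat) (Ptab_359) (Ptab_360) (Nat.ble 360 c)
noncomputable def Ptab_s_357_361 (c : Nat) : Nat := @Bool.rec (fun _ => Nat) (Ptab_s_357_359 c) (Ptab_s_359_361 c) (Nat.ble 359 c)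
noncomputable def Ptab_s_353_361 (c : Nat) : Nat := @Bool.rec (fun _ => Nat) (Ptab_s_353_357 c) (Ptab_s_357_361 c) (Nat.ble 357 c)
noncomputable def Ptab_s_361_363 (c : Nat) : Nat := @Bool.rec (fun _ => Nat) (Ptab_361) (Ptab_362) (Nat.ble 362 c)
noncomputable def Ptab_s_363_365 (c : Nat) : Nat := @Bool.rec (fun _ => Nat) (Ptab_363) (Ptab_364) (Nat.ble 364 c)
noncomputable def Ptab_s_361_365 (c : Nat) : Nat := @Bool.rec (fun _ => Nat) (Ptab_s_361_363 c) (Ptab_s_363_365 c) (Nat.ble 363 c)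
noncomputable def Ptab_s_365_367 (c : Nat) : Nat := @Bool.rec (fun _ => Nat) (Ptab_365) (Ptab_366) (Nat.ble 366 c)
noncomputable def Ptab_s_367_369 (c : Nat) : Nat := @Bool.rec (fun _ => Nat) (Ptab_367) (Ptab_368) (Nat.ble 368 c)
noncomputable def Ptab_s_365_369 (c : Nat) : Nat := @Bool.rec (fun _ => Nat) (Ptab_s_365_367 c) (Ptab_s_367_369 c) (Nat.ble 367 c)
noncomputable def Ptab_s_361_369 (c : Nat) : Nat := @Bool.rec (fun _ => Nat) (Ptab_s_361_365 c) (Ptab_s_365_369 c) (Nat.ble 365 c)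
noncomputable def Ptab_s_353_369 (c : Nat) : Nat := @Bool.rec (fun _ => Nat) (Ptab_s_353_361 c) (Ptab_s_361_369 c) (Nat.ble 361 c)
noncomputable def Ptab_s_338_369 (c : Nat) : Nat := @Bool.rec (fun _ => Nat) (Ptab_s_338_353 c) (Ptab_s_353_369 c) (Nat.ble 353 c)
noncomputable def Ptab_s_307_369 (c : Nat) : Nat := @Bool.rec (fun _ => Nat) (Ptab_s_307_338 c) (Ptab_s_338_369 c) (Nat.ble 338 c)
noncomputable def Ptab_s_246_369 (c : Nat) : Nat := @Bool.rec (fun _ => Nat) (Ptab_s_246_307 c) (Ptab_s_307_369 c) (Nat.ble 307 c)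
noncomputable def Ptab_s_370_372 (c : Nat) : Nat := @Bool.rec (fun _ => Nat) (Ptab_370) (Ptab_371) (Nat.ble 371 c)
noncomputable def Ptab_s_369_372 (c : Nat) : Nat := @Bool.rec (fun _ => Nat) (Ptab_369) (Ptab_s_370_372 c) (Nat.ble 370 c)
noncomputable def Ptab_s_372_374 (c : Nat) : Nat := @Bool.rec (fun _ => Nat) (Ptab_372) (Ptab_373) (Nat.ble 373 c)
noncomputable def Ptab_s_374_376 (c : Nat) : Nat := @Bool.rec (fun _ => Nat) (Ptab_374) (Ptab_375) (Nat.ble 375 c)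
noncomputable def Ptab_s_372_376 (c : Nat) : Nat := @Bool.rec (fun _ => Nat) (Ptab_s_372_374 c) (Ptab_s_374_376 c) (Nat.ble 374 c)
noncomputable def Ptab_s_369_376 (c : Nat) : Nat := @Bool.rec (fun _ => Nat) (Ptab_s_369_372 c) (Ptab_s_372_376 c) (Nat.ble 372 c)
noncomputable def Ptab_s_376_378 (c : Nat) : Nat := @Bool.rec (fun _ => Nat) (Ptab_376) (Ptab_377) (Nat.ble 377 c)
noncomputable def Ptab_s_378_380 (c : Nat) : Nat := @Bool.rec (fun _ => Nat) (Ptab_378) (Ptab_379) (Nat.ble 379 c)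
noncomputable def Ptab_s_376_380 (c : Nat) : Nat := @Bool.rec (fun _ => Nat) (Ptab_s_376_378 c) (Ptab_s_378_380 c) (Nat.ble 378 c)
noncomputable def Ptab_s_380_382 (c : Nat) : Nat := @Bool.rec (fun _ => Nat) (Ptab_380) (Ptab_381) (Nat.ble 381 c)
noncomputable def Ptab_s_382_384 (c : Nat) : Nat := @Bool.rec (fun _ => Nat) (Ptab_382) (Ptab_383) (Nat.ble 383 c)
noncomputable def Ptab_s_380_384 (c : Nat) : Nat := @Bool.rec (fun _ => Nat) (Ptab_s_380_382 c) (Ptab_s_382_384 c) (Nat.ble 382 c)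
noncomputable def Ptab_s_376_384 (c : Nat) : Nat := @Bool.rec (fun _ => Nat) (Ptab_s_376_380 c) (Ptab_s_380_384 c) (Nat.ble 380 c)
noncomputable def Ptab_s_369_384 (c : Nat) : Nat := @Bool.rec (fun _ => Nat) (Ptab_s_369_376 c) (Ptab_s_376_384 c) (Nat.ble 376 c)
noncomputable def Ptab_s_385_387 (c : Nat) : Nat := @Bool.rec (fun _ => Nat) (Ptab_385) (Ptab_386) (Nat.ble 386 c)
noncomputable def Ptab_s_384_387 (c : Nat) : Nat := @Bool.rec (fun _ => Nat) (Ptab_384) (Ptab_s_385_387 c) (Nat.ble 385 c)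
noncomputable def Ptab_s_387_389 (c : Nat) : Nat := @Bool.rec (fun _ => Nat) (Ptab_387) (Ptab_388) (Nat.ble 388 c)
noncomputable def Ptab_s_389_391 (c : Nat) : Nat := @Bool.rec (fun _ => Nat) (Ptab_389) (Ptab_390) (Nat.ble 390 c)
noncomputable def Ptab_s_387_391 (c : Nat) : Nat := @Bool.rec (fun _ => Nat) (Ptab_s_387_389 c) (Ptab_s_389_391 c) (Nat.ble 389 c)
noncomputable def Ptab_s_384_391 (c : Nat) : Nat := @Bool.rec (fun _ => Nat) (Ptab_s_384_387 c) (Ptab_s_387_391 c) (Nat.ble 387 c)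
noncomputable def Ptab_s_391_393 (c : Nat) : Nat := @Bool.rec (fun _ => Nat) (Ptab_391) (Ptab_392) (Nat.ble 392 c)
noncomputable def Ptab_s_393_395 (c : Nat) : Nat := @Bool.rec (fun _ => Nat) (Ptab_393) (Ptab_394) (Nat.ble 394 c)
noncomputable def Ptab_s_391_395 (c : Nat) : Nat := @Bool.rec (fun _ => Nat) (Ptab_s_391_393 c) (Ptab_s_393_395 c) (Nat.ble 393 c)
noncomputable def Ptab_s_395_397 (c : Nat) : Nat := @Bool.rec (fun _ => Nat) (Ptab_395) (Ptab_396) (Nat.ble 396 c)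
noncomputable def Ptab_s_397_399 (c : Nat) : Nat := @Bool.rec (fun _ => Nat) (Ptab_397) (Ptab_398) (Nat.ble 398 c)
noncomputable def Ptab_s_395_399 (c : Nat) : Nat := @Bool.rec (fun _ => Nat) (Ptab_s_395_397 c) (Ptab_s_397_399 c) (Nat.ble 397 c)
noncomputable def Ptab_s_391_399 (c : Nat) : Nat := @Bool.rec (fun _ => Nat) (Ptab_s_391_395 c) (Ptab_s_395_399 c) (Nat.ble 395 c)
noncomputable def Ptab_s_384_399 (c : Nat) : Nat := @Bool.rec (fun _ => Nat) (Ptab_s_384_391 c) (Ptab_s_391_399 c) (Nat.ble 391 c)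
noncomputable def Ptab_s_369_399 (c : Nat) : Nat := @Bool.rec (fun _ => Nat) (Ptab_s_369_384 c) (Ptab_s_384_399 c) (Nat.ble 384 c)
noncomputable def Ptab_s_400_402 (c : Nat) : Nat := @Bool.rec (fun _ => Nat) (Ptab_400) (Ptab_401) (Nat.ble 401 c)
noncomputable def Ptab_s_399_402 (c : Nat) : Nat := @Bool.rec (fun _ => Nat) (Ptab_399) (Ptab_s_400_402 c) (Nat.ble 400 c)
noncomputable def Ptab_s_402_404 (c : Nat) : Nat := @Bool.rec (fun _ => Nat) (Ptab_402) (Ptab_403) (Nat.ble 403 c)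
noncomputable def Ptab_s_404_406 (c : Nat) : Nat := @Bool.rec (fun _ => Nat) (Ptab_404) (Ptab_405) (Nat.ble 405 c)
noncomputable def Ptab_s_402_406 (c : Nat) : Nat := @Bool.rec (fun _ => Nat) (Ptab_s_402_404 c) (Ptab_s_404_406 c) (Nat.ble 404 c)
noncomputable def Ptab_s_399_406 (c : Nat) : Nat := @Bool.rec (fun _ => Nat) (Ptab_s_399_402 c) (Ptab_s_402_406 c) (Nat.ble 402 c)
noncomputable def Ptab_s_406_408 (c : Nat) : Nat := @Bool.rec (fun _ => Nat) (Ptab_406) (Ptab_407) (Nat.ble 407 c)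
noncomputable def Ptab_s_408_410 (c : Nat) : Nat := @Bool.rec (fun _ => Nat) (Ptab_408) (Ptab_409) (Nat.ble 409 c)
noncomputable def Ptab_s_406_410 (c : Nat) : Nat := @Bool.rec (fun _ => Nat) (Ptab_s_406_408 c) (Ptab_s_408_410 c) (Nat.ble 408 c)
noncomputable def Ptab_s_410_412 (c : Nat) : Nat := @Bool.rec (fun _ => Nat) (Ptab_410) (Ptab_411) (Nat.ble 411 c)
noncomputable def Ptab_s_412_414 (c : Nat) : Nat := @Bool.rec (fun _ => Nat) (Ptab_412) (Ptab_413) (Nat.ble 413 c)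
noncomputable def Ptab_s_410_414 (c : Nat) : Nat := @Bool.rec (fun _ => Nat) (Ptab_s_410_412 c) (Ptab_s_412_414 c) (Nat.ble 412 c)
noncomputable def Ptab_s_406_414 (c : Nat) : Nat := @Bool.rec (fun _ => Nat) (Ptab_s_406_410 c) (Ptab_s_410_414 c) (Nat.ble 410 c)
noncomputable def Ptab_s_399_414 (c : Nat) : Nat := @Bool.rec (fun _ => Nat) (Ptab_s_399_406 c) (Ptab_s_406_414 c) (Nat.ble 406 c)
noncomputable def Ptab_s_414_416 (c : Nat) : Nat := @Bool.rec (fun _ => Nat) (Ptab_414) (Ptab_415) (Nat.ble 415 c)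
noncomputable def Ptab_s_416_418 (c : Nat) : Nat := @Bool.rec (fun _ => Nat) (Ptab_416) (Ptab_417) (Nat.ble 417 c)
noncomputable def Ptab_s_414_418 (c : Nat) : Nat := @Bool.rec (fun _ => Nat) (Ptab_s_414_416 c) (Ptab_s_416_418 c) (Nat.ble 416 c)
noncomputable def Ptab_s_418_420 (c : Nat) : Nat := @Bool.rec (fun _ => Nat) (Ptab_418) (Ptab_419) (Nat.ble 419 c)
noncomputable def Ptab_s_420_422 (c : Nat) : Nat := @Bool.rec (fun _ => Nat) (Ptab_420) (Ptab_421) (Nat.ble 421 c)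
noncomputable def Ptab_s_418_422 (c : Nat) : Nat := @Bool.rec (fun _ => Nat) (Ptab_s_418_420 c) (Ptab_s_420_422 c) (Nat.ble 420 c)
noncomputable def Ptab_s_414_422 (c : Nat) : Nat := @Bool.rec (fun _ => Nat) (Ptab_s_414_418 c) (Ptab_s_418_422 c) (Nat.ble 418 c)
noncomputable def Ptab_s_422_424 (c : Nat) : Nat := @Bool.rec (fun _ => Nat) (Ptab_422) (Ptab_423) (Nat.ble 423 c)
noncomputable def Ptab_s_424_426 (c : Nat) : Nat := @Bool.rec (fun _ => Nat) (Ptab_424) (Ptab_425) (Nat.ble 425 c)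
noncomputable def Ptab_s_422_426 (c : Nat) : Nat := @Bool.rec (fun _ => Nat) (Ptab_s_422_424 c) (Ptab_s_424_426 c) (Nat.ble 424 c)
noncomputable def Ptab_s_426_428 (c : Nat) : Nat := @Bool.rec (fun _ => Nat) (Ptab_426) (Ptab_427) (Nat.ble 427 c)
noncomputable def Ptab_s_428_430 (c : Nat) : Nat := @Bool.rec (fun _ => Nat) (Ptab_428) (Ptab_429) (Nat.ble 429 c)
noncomputable def Ptab_s_426_430 (c : Nat) : Nat := @Bool.rec (fun _ => Nat) (Ptab_s_426_428 c) (Ptab_s_428_430 c) (Nat.ble 428 c)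
noncomputable def Ptab_s_422_430 (c : Nat) : Nat := @Bool.rec (fun _ => Nat) (Ptab_s_422_426 c) (Ptab_s_426_430 c) (Nat.ble 426 c)
noncomputable def Ptab_s_414_430 (c : Nat) : Nat := @Bool.rec (fun _ => Nat) (Ptab_s_414_422 c) (Ptab_s_422_430 c) (Nat.ble 422 c)
noncomputable def Ptab_s_399_430 (c : Nat) : Nat := @Bool.rec (fun _ => Nat) (Ptab_s_399_414 c) (Ptab_s_414_430 c) (Nat.ble 414 c)
noncomputable def Ptab_s_369_430 (c : Nat) : Nat := @Bool.rec (fun _ => Nat) (Ptab_s_369_399 c) (Ptab_s_399_430 c) (Nat.ble 399 c)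
noncomputable def Ptab_s_431_433 (c : Nat) : Nat := @Bool.rec (fun _ => Nat) (Ptab_431) (Ptab_432) (Nat.ble 432 c)
noncomputable def Ptab_s_430_433 (c : Nat) : Nat := @Bool.rec (fun _ => Nat) (Ptab_430) (Ptab_s_431_433 c) (Nat.ble 431 c)
noncomputable def Ptab_s_433_435 (c : Nat) : Nat := @Bool.rec (fun _ => Nat) (Ptab_433) (Ptab_434) (Nat.ble 434 c)
noncomputable def Ptab_s_435_437 (c : Nat) : Nat := @Bool.rec (fun _ => Nat) (Ptab_435) (Ptab_436) (Nat.ble 436 c)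
noncomputable def Ptab_s_433_437 (c : Nat) : Nat := @Bool.rec (fun _ => Nat) (Ptab_s_433_435 c) (Ptab_s_435_437 c) (Nat.ble 435 c)
noncomputable def Ptab_s_430_437 (c : Nat) : Nat := @Bool.rec (fun _ => Nat) (Ptab_s_430_433 c) (Ptab_s_433_437 c) (Nat.ble 433 c)
noncomputable def Ptab_s_437_439 (c : Nat) : Nat := @Bool.rec (fun _ => Nat) (Ptab_437) (Ptab_438) (Nat.ble 438 c)
noncomputable def Ptab_s_439_441 (c : Nat) : Nat := @Bool.rec (fun _ => Nat) (Ptab_439) (Ptab_440) (Nat.ble 440 c)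
noncomputable def Ptab_s_437_441 (c : Nat) : Nat := @Bool.rec (fun _ => Nat) (Ptab_s_437_439 c) (Ptab_s_439_441 c) (Nat.ble 439 c)
noncomputable def Ptab_s_441_443 (c : Nat) : Nat := @Bool.rec (fun _ => Nat) (Ptab_441) (Ptab_442) (Nat.ble 442 c)
noncomputable def Ptab_s_443_445 (c : Nat) : Nat := @Bool.rec (fun _ => Nat) (Ptab_443) (Ptab_444) (Nat.ble 444 c)
noncomputable def Ptab_s_441_445 (c : Nat) : Nat := @Bool.rec (fun _ => Nat) (Ptab_s_441_443 c) (Ptab_s_443_445 c) (Nat.ble 443 c)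
noncomputable def Ptab_s_437_445 (c : Nat) : Nat := @Bool.rec (fun _ => Nat) (Ptab_s_437_441 c) (Ptab_s_441_445 c) (Nat.ble 441 c)
noncomputable def Ptab_s_430_445 (c : Nat) : Nat := @Bool.rec (fun _ => Nat) (Ptab_s_430_437 c) (Ptab_s_437_445 c) (Nat.ble 437 c)
noncomputable def Ptab_s_445_447 (c : Nat) : Nat := @Bool.rec (fun _ => Nat) (Ptab_445) (Ptab_446) (Nat.ble 446 c)
noncomputable def Ptab_s_447_449 (c : Nat) : Nat := @Bool.rec (fun _ => Nat) (Ptab_447) (Ptab_448) (Nat.ble 448 c)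
noncomputable def Ptab_s_445_449 (c : Nat) : Nat := @Bool.rec (fun _ => Nat) (Ptab_s_445_447 c) (Ptab_s_447_449 c) (Nat.ble 447 c)
noncomputable def Ptab_s_449_451 (c : Nat) : Nat := @Bool.rec (fun _ => Nat) (Ptab_449) (Ptab_450) (Nat.ble 450 c)
noncomputable def Ptab_s_451_453 (c : Nat) : Nat := @Bool.rec (fun _ => Nat) (Ptab_451) (Ptab_452) (Nat.ble 452 c)
noncomputable def Ptab_s_449_453 (c : Nat) : Nat := @Bool.rec (fun _ => Nat) (Ptab_s_449_451 c) (Ptab_s_451_453 c) (Nat.ble 451 c)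
noncomputable def Ptab_s_445_453 (c : Nat) : Nat := @Bool.rec (fun _ => Nat) (Ptab_s_445_449 c) (Ptab_s_449_453 c) (Nat.ble 449 c)
noncomputable def Ptab_s_453_455 (c : Nat) : Nat := @Bool.rec (fun _ => Nat) (Ptab_453) (Ptab_454) (Nat.ble 454 c)
noncomputable def Ptab_s_455_457 (c : Nat) : Nat := @Bool.rec (fun _ => Nat) (Ptab_455) (Ptab_456) (Nat.ble 456 c)
noncomputable def Ptab_s_453_457 (c : Nat) : Nat := @Bool.rec (fun _ => Nat) (Ptab_s_453_455 c) (Ptab_s_455_457 c) (Nat.ble 455 c)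
noncomputable def Ptab_s_457_459 (c : Nat) : Nat := @Bool.rec (fun _ => Nat) (Ptab_457) (Ptab_458) (Nat.ble 458 c)
noncomputable def Ptab_s_459_461 (c : Nat) : Nat := @Bool.rec (fun _ => Nat) (Ptab_459) (Ptab_460) (Nat.ble 460 c)
noncomputable def Ptab_s_457_461 (c : Nat) : Nat := @Bool.rec (fun _ => Nat) (Ptab_s_457_459 c) (Ptab_s_459_461 c) (Nat.ble 459 c)
noncomputable def Ptab_s_453_461 (c : Nat) : Nat := @Bool.rec (fun _ => Nat) (Ptab_s_453_457 c) (Ptab_s_457_461 c) (Nat.ble 457 c)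
noncomputable def Ptab_s_445_461 (c : Nat) : Nat := @Bool.rec (fun _ => Nat) (Ptab_s_445_453 c) (Ptab_s_453_461 c) (Nat.ble 453 c)
noncomputable def Ptab_s_430_461 (c : Nat) : Nat := @Bool.rec (fun _ => Nat) (Ptab_s_430_445 c) (Ptab_s_445_461 c) (Nat.ble 445 c)
noncomputable def Ptab_s_462_464 (c : Nat) : Nat := @Bool.rec (fun _ => Nat) (Ptab_462) (Ptab_463) (Nat.ble 463 c)
noncomputable def Ptab_s_461_464 (c : Nat) : Nat := @Bool.rec (fun _ => Nat) (Ptab_461) (Ptab_s_462_464 c) (Nat.ble 462 c)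
noncomputable def Ptab_s_464_466 (c : Nat) : Nat := @Bool.rec (fun _ => Nat) (Ptab_464) (Ptab_465) (Nat.ble 465 c)
noncomputable def Ptab_s_466_468 (c : Nat) : Nat := @Bool.rec (fun _ => Nat) (Ptab_466) (Ptab_467) (Nat.ble 467 c)
noncomputable def Ptab_s_464_468 (c : Nat) : Nat := @Bool.rec (fun _ => Nat) (Ptab_s_464_466 c) (Ptab_s_466_468 c) (Nat.ble 466 c)
noncomputable def Ptab_s_461_468 (c : Nat) : Nat := @Bool.rec (fun _ => Nat) (Ptab_s_461_464 c) (Ptab_s_464_468 c) (Nat.ble 464 c)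
noncomputable def Ptab_s_468_470 (c : Nat) : Nat := @Bool.rec (fun _ => Nat) (Ptab_468) (Ptab_469) (Nat.ble 469 c)
noncomputable def Ptab_s_470_472 (c : Nat) : Nat := @Bool.rec (fun _ => Nat) (Ptab_470) (Ptab_471) (Nat.ble 471 c)
noncomputable def Ptab_s_468_472 (c : Nat) : Nat := @Bool.rec (fun _ => Nat) (Ptab_s_468_470 c) (Ptab_s_470_472 c) (Nat.ble 470 c)
noncomputable def Ptab_s_472_474 (c : Nat) : Nat := @Bool.rec (fun _ => Nat) (Ptab_472) (Ptab_473) (Nat.ble 473 c)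
noncomputable def Ptab_s_474_476 (c : Nat) : Nat := @Bool.rec (fun _ => Nat) (Ptab_474) (Ptab_475) (Nat.ble 475 c)
noncomputable def Ptab_s_472_476 (c : Nat) : Nat := @Bool.rec (fun _ => Nat) (Ptab_s_472_474 c) (Ptab_s_474_476 c) (Nat.ble 474 c)
noncomputable def Ptab_s_468_476 (c : Nat) : Nat := @Bool.rec (fun _ => Nat) (Ptab_s_468_472 c) (Ptab_s_472_476 c) (Nat.ble 472 c)
noncomputable def Ptab_s_461_476 (c : Nat) : Nat := @Bool.rec (fun _ => Nat) (Ptab_s_461_468 c) (Ptab_s_468_476 c) (Nat.ble 468 c)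
noncomputable def Ptab_s_476_478 (c : Nat) : Nat := @Bool.rec (fun _ => Nat) (Ptab_476) (Ptab_477) (Nat.ble 477 c)
noncomputable def Ptab_s_478_480 (c : Nat) : Nat := @Bool.rec (fun _ => Nat) (Ptab_478) (Ptab_479) (Nat.ble 479 c)
noncomputable def Ptab_s_476_480 (c : Nat) : Nat := @Bool.rec (fun _ => Nat) (Ptab_s_476_478 c) (Ptab_s_478_480 c) (Nat.ble 478 c)
noncomputable def Ptab_s_480_482 (c : Nat) : Nat := @Bool.rec (fun _ => Nat) (Ptab_480) (Ptab_481) (Nat.ble 481 c)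
noncomputable def Ptab_s_482_484 (c : Nat) : Nat := @Bool.rec (fun _ => Nat) (Ptab_482) (Ptab_483) (Nat.ble 483 c)
noncomputable def Ptab_s_480_484 (c : Nat) : Nat := @Bool.rec (fun _ => Nat) (Ptab_s_480_482 c) (Ptab_s_482_484 c) (Nat.ble 482 c)
noncomputable def Ptab_s_476_484 (c : Nat) : Nat := @Bool.rec (fun _ => Nat) (Ptab_s_476_480 c) (Ptab_s_480_484 c) (Nat.ble 480 c)
noncomputable def Ptab_s_484_486 (c : Nat) : Nat := @Bool.rec (fun _ => Nat) (Ptab_484) (Ptab_485) (Nat.ble 485 c)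
noncomputable def Ptab_s_486_488 (c : Nat) : Nat := @Bool.rec (fun _ => Nat) (Ptab_486) (Ptab_487) (Nat.ble 487 c)
noncomputable def Ptab_s_484_488 (c : Nat) : Nat := @Bool.rec (fun _ => Nat) (Ptab_s_484_486 c) (Ptab_s_486_488 c) (Nat.ble 486 c)
noncomputable def Ptab_s_488_490 (c : Nat) : Nat := @Bool.rec (fun _ => Nat) (Ptab_488) (Ptab_489) (Nat.ble 489 c)
noncomputable def Ptab_s_490_492 (c : Nat) : Nat := @Bool.rec (fun _ => Nat) (Ptab_490) (Ptab_491) (Nat.ble 491 c)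
noncomputable def Ptab_s_488_492 (c : Nat) : Nat := @Bool.rec (fun _ => Nat) (Ptab_s_488_490 c) (Ptab_s_490_492 c) (Nat.ble 490 c)
noncomputable def Ptab_s_484_492 (c : Nat) : Nat := @Bool.rec (fun _ => Nat) (Ptab_s_484_488 c) (Ptab_s_488_492 c) (Nat.ble 488 c)
noncomputable def Ptab_s_476_492 (c : Nat) : Nat := @Bool.rec (fun _ => Nat) (Ptab_s_476_484 c) (Ptab_s_484_492 c) (Nat.ble 484 c)
noncomputable def Ptab_s_461_492 (c : Nat) : Nat := @Bool.rec (fun _ => Nat) (Ptab_s_461_476 c) (Ptab_s_476_492 c) (Nat.ble 476 c)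
noncomputable def Ptab_s_430_492 (c : Nat) : Nat := @Bool.rec (fun _ => Nat) (Ptab_s_430_461 c) (Ptab_s_461_492 c) (Nat.ble 461 c)
noncomputable def Ptab_s_369_492 (c : Nat) : Nat := @Bool.rec (fun _ => Nat) (Ptab_s_369_430 c) (Ptab_s_430_492 c) (Nat.ble 430 c)
noncomputable def Ptab_s_246_492 (c : Nat) : Nat := @Bool.rec (fun _ => Nat) (Ptab_s_246_369 c) (Ptab_s_369_492 c) (Nat.ble 369 c)
noncomputable def Ptab_s_0_492 (c : Nat) : Nat := @Bool.rec (fun _ => Nat) (Ptab_s_0_246 c) (Ptab_s_246_492 c) (Nat.ble 246 c)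
noncomputable def Ptab (i : Nat) : Nat := rdw 21 2097151 (Ptab_s_0_492 (Nat.shiftRight i 12)) (Nat.land i 4095)
noncomputable def RRtab (i : Nat) : Nat := rdw 4 15 RRtab_0 i
noncomputable def rBtab (i : Nat) : Nat := rdw 10 1023 rBtab_0 i
noncomputable def rLtab (i : Nat) : Nat := rdw 5 31 rLtab_0 i
noncomputable def nameTab_s_0_2 (c : Nat) : Nat := @Bool.rec (fun _ => Nat) (nameTab_0) (nameTab_1) (Nat.ble 1 c)
noncomputable def nameTab_s_3_5 (c : Nat) : Nat := @Bool.rec (fun _ => Nat) (nameTab_3) (nameTab_4) (Nat.ble 4 c)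
noncomputable def nameTab_s_2_5 (c : Nat) : Nat := @Bool.rec (fun _ => Nat) (nameTab_2) (nameTab_s_3_5 c) (Nat.ble 3 c)
noncomputable def nameTab_s_0_5 (c : Nat) : Nat := @Bool.rec (fun _ => Nat) (nameTab_s_0_2 c) (nameTab_s_2_5 c) (Nat.ble 2 c)
noncomputable def nameTab_s_5_7 (c : Nat) : Nat := @Bool.rec (fun _ => Nat) (nameTab_5) (nameTab_6) (Nat.ble 6 c)
noncomputable def nameTab_s_8_10 (c : Nat) : Nat := @Bool.rec (fun _ => Nat) (nameTab_8) (nameTab_9) (Nat.ble 9 c)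
noncomputable def nameTab_s_7_10 (c : Nat) : Nat := @Bool.rec (fun _ => Nat) (nameTab_7) (nameTab_s_8_10 c) (Nat.ble 8 c)
noncomputable def nameTab_s_5_10 (c : Nat) : Nat := @Bool.rec (fun _ => Nat) (nameTab_s_5_7 c) (nameTab_s_7_10 c) (Nat.ble 7 c)
noncomputable def nameTab_s_0_10 (c : Nat) : Nat := @Bool.rec (fun _ => Nat) (nameTab_s_0_5 c) (nameTab_s_5_10 c) (Nat.ble 5 c)
noncomputable def nameTab (i : Nat) : Nat := rdw 18 262143 (nameTab_s_0_10 (Nat.shiftRight i 12)) (Nat.land i 4095)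
noncomputable def col0_s_0_2 (c : Nat) : Nat := @Bool.rec (fun _ => Nat) (col0_0) (col0_1) (Nat.ble 1 c)
noncomputable def col0_s_3_5 (c : Nat) : Nat := @Bool.rec (fun _ => Nat) (col0_3) (col0_4) (Nat.ble 4 c)
noncomputable def col0_s_2_5 (c : Nat) : Nat := @Bool.rec (fun _ => Nat) (col0_2) (col0_s_3_5 c) (Nat.ble 3 c)
noncomputable def col0_s_0_5 (c : Nat) : Nat := @Bool.rec (fun _ => Nat) (col0_s_0_2 c) (col0_s_2_5 c) (Nat.ble 2 c)
noncomputable def col0_s_5_7 (c : Nat) : Nat := @Bool.rec (fun _ => Nat) (col0_5) (col0_6) (Nat.ble 6 c)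
noncomputable def col0_s_8_10 (c : Nat) : Nat := @Bool.rec (fun _ => Nat) (col0_8) (col0_9) (Nat.ble 9 c)
noncomputable def col0_s_7_10 (c : Nat) : Nat := @Bool.rec (fun _ => Nat) (col0_7) (col0_s_8_10 c) (Nat.ble 8 c)
noncomputable def col0_s_5_10 (c : Nat) : Nat := @Bool.rec (fun _ => Nat) (col0_s_5_7 c) (col0_s_7_10 c) (Nat.ble 7 c)
noncomputable def col0_s_0_10 (c : Nat) : Nat := @Bool.rec (fun _ => Nat) (col0_s_0_5 c) (col0_s_5_10 c) (Nat.ble 5 c)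
noncomputable def col0 (i : Nat) : Nat := rdw 16 65535 (col0_s_0_10 (Nat.shiftRight i 12)) (Nat.land i 4095)
noncomputable def col1_s_0_2 (c : Nat) : Nat := @Bool.rec (fun _ => Nat) (col1_0) (col1_1) (Nat.ble 1 c)
noncomputable def col1_s_3_5 (c : Nat) : Nat := @Bool.rec (fun _ => Nat) (col1_3) (col1_4) (Nat.ble 4 c)
noncomputable def col1_s_2_5 (c : Nat) : Nat := @Bool.rec (fun _ => Nat) (col1_2) (col1_s_3_5 c) (Nat.ble 3 c)
noncomputable def col1_s_0_5 (c : Nat) : Nat := @Bool.rec (fun _ => Nat) (col1_s_0_2 c) (col1_s_2_5 c) (Nat.ble 2 c)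
noncomputable def col1_s_5_7 (c : Nat) : Nat := @Bool.rec (fun _ => Nat) (col1_5) (col1_6) (Nat.ble 6 c)
noncomputable def col1_s_8_10 (c : Nat) : Nat := @Bool.rec (fun _ => Nat) (col1_8) (col1_9) (Nat.ble 9 c)
noncomputable def col1_s_7_10 (c : Nat) : Nat := @Bool.rec (fun _ => Nat) (col1_7) (col1_s_8_10 c) (Nat.ble 8 c)
noncomputable def col1_s_5_10 (c : Nat) : Nat := @Bool.rec (fun _ => Nat) (col1_s_5_7 c) (col1_s_7_10 c) (Nat.ble 7 c)
noncomputable def col1_s_0_10 (c : Nat) : Nat := @Bool.rec (fun _ => Nat) (col1_s_0_5 c) (col1_s_5_10 c) (Nat.ble 5 c)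
noncomputable def col1 (i : Nat) : Nat := rdw 16 65535 (col1_s_0_10 (Nat.shiftRight i 12)) (Nat.land i 4095)
noncomputable def col2_s_0_2 (c : Nat) : Nat := @Bool.rec (fun _ => Nat) (col2_0) (col2_1) (Nat.ble 1 c)
noncomputable def col2_s_3_5 (c : Nat) : Nat := @Bool.rec (fun _ => Nat) (col2_3) (col2_4) (Nat.ble 4 c)
noncomputable def col2_s_2_5 (c : Nat) : Nat := @Bool.rec (fun _ => Nat) (col2_2) (col2_s_3_5 c) (Nat.ble 3 c)
noncomputable def col2_s_0_5 (c : Nat) : Nat := @Bool.rec (fun _ => Nat) (col2_s_0_2 c) (col2_s_2_5 c) (Nat.ble 2 c)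
noncomputable def col2_s_5_7 (c : Nat) : Nat := @Bool.rec (fun _ => Nat) (col2_5) (col2_6) (Nat.ble 6 c)
noncomputable def col2_s_8_10 (c : Nat) : Nat := @Bool.rec (fun _ => Nat) (col2_8) (col2_9) (Nat.ble 9 c)
noncomputable def col2_s_7_10 (c : Nat) : Nat := @Bool.rec (fun _ => Nat) (col2_7) (col2_s_8_10 c) (Nat.ble 8 c)
noncomputable def col2_s_5_10 (c : Nat) : Nat := @Bool.rec (fun _ => Nat) (col2_s_5_7 c) (col2_s_7_10 c) (Nat.ble 7 c)
noncomputable def col2_s_0_10 (c : Nat) : Nat := @Bool.rec (fun _ => Nat) (col2_s_0_5 c) (col2_s_5_10 c) (Nat.ble 5 c)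
noncomputable def col2 (i : Nat) : Nat := rdw 16 65535 (col2_s_0_10 (Nat.shiftRight i 12)) (Nat.land i 4095)
noncomputable def col3_s_0_2 (c : Nat) : Nat := @Bool.rec (fun _ => Nat) (col3_0) (col3_1) (Nat.ble 1 c)
noncomputable def col3_s_3_5 (c : Nat) : Nat := @Bool.rec (fun _ => Nat) (col3_3) (col3_4) (Nat.ble 4 c)
noncomputable def col3_s_2_5 (c : Nat) : Nat := @Bool.rec (fun _ => Nat) (col3_2) (col3_s_3_5 c) (Nat.ble 3 c)
noncomputable def col3_s_0_5 (c : Nat) : Nat := @Bool.rec (fun _ => Nat) (col3_s_0_2 c) (col3_s_2_5 c) (Nat.ble 2 c)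
noncomputable def col3_s_5_7 (c : Nat) : Nat := @Bool.rec (fun _ => Nat) (col3_5) (col3_6) (Nat.ble 6 c)
noncomputable def col3_s_8_10 (c : Nat) : Nat := @Bool.rec (fun _ => Nat) (col3_8) (col3_9) (Nat.ble 9 c)
noncomputable def col3_s_7_10 (c : Nat) : Nat := @Bool.rec (fun _ => Nat) (col3_7) (col3_s_8_10 c) (Nat.ble 8 c)
noncomputable def col3_s_5_10 (c : Nat) : Nat := @Bool.rec (fun _ => Nat) (col3_s_5_7 c) (col3_s_7_10 c) (Nat.ble 7 c)
noncomputable def col3_s_0_10 (c : Nat) : Nat := @Bool.rec (fun _ => Nat) (col3_s_0_5 c) (col3_s_5_10 c) (Nat.ble 5 c)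
noncomputable def col3 (i : Nat) : Nat := rdw 16 65535 (col3_s_0_10 (Nat.shiftRight i 12)) (Nat.land i 4095)
noncomputable def col4_s_0_2 (c : Nat) : Nat := @Bool.rec (fun _ => Nat) (col4_0) (col4_1) (Nat.ble 1 c)
noncomputable def col4_s_3_5 (c : Nat) : Nat := @Bool.rec (fun _ => Nat) (col4_3) (col4_4) (Nat.ble 4 c)
noncomputable def col4_s_2_5 (c : Nat) : Nat := @Bool.rec (fun _ => Nat) (col4_2) (col4_s_3_5 c) (Nat.ble 3 c)
noncomputable def col4_s_0_5 (c : Nat) : Nat := @Bool.rec (fun _ => Nat) (col4_s_0_2 c) (col4_s_2_5 c) (Nat.ble 2 c)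
noncomputable def col4_s_5_7 (c : Nat) : Nat := @Bool.rec (fun _ => Nat) (col4_5) (col4_6) (Nat.ble 6 c)
noncomputable def col4_s_8_10 (c : Nat) : Nat := @Bool.rec (fun _ => Nat) (col4_8) (col4_9) (Nat.ble 9 c)
noncomputable def col4_s_7_10 (c : Nat) : Nat := @Bool.rec (fun _ => Nat) (col4_7) (col4_s_8_10 c) (Nat.ble 8 c)
noncomputable def col4_s_5_10 (c : Nat) : Nat := @Bool.rec (fun _ => Nat) (col4_s_5_7 c) (col4_s_7_10 c) (Nat.ble 7 c)
noncomputable def col4_s_0_10 (c : Nat) : Nat := @Bool.rec (fun _ => Nat) (col4_s_0_5 c) (col4_s_5_10 c) (Nat.ble 5 c)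
noncomputable def col4 (i : Nat) : Nat := rdw 16 65535 (col4_s_0_10 (Nat.shiftRight i 12)) (Nat.land i 4095)
noncomputable def col5_s_0_2 (c : Nat) : Nat := @Bool.rec (fun _ => Nat) (col5_0) (col5_1) (Nat.ble 1 c)
noncomputable def col5_s_3_5 (c : Nat) : Nat := @Bool.rec (fun _ => Nat) (col5_3) (col5_4) (Nat.ble 4 c)
noncomputable def col5_s_2_5 (c : Nat) : Nat := @Bool.rec (fun _ => Nat) (col5_2) (col5_s_3_5 c) (Nat.ble 3 c)
noncomputable def col5_s_0_5 (c : Nat) : Nat := @Bool.rec (fun _ => Nat) (col5_s_0_2 c) (col5_s_2_5 c) (Nat.ble 2 c)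
noncomputable def col5_s_5_7 (c : Nat) : Nat := @Bool.rec (fun _ => Nat) (col5_5) (col5_6) (Nat.ble 6 c)
noncomputable def col5_s_8_10 (c : Nat) : Nat := @Bool.rec (fun _ => Nat) (col5_8) (col5_9) (Nat.ble 9 c)
noncomputable def col5_s_7_10 (c : Nat) : Nat := @Bool.rec (fun _ => Nat) (col5_7) (col5_s_8_10 c) (Nat.ble 8 c)
noncomputable def col5_s_5_10 (c : Nat) : Nat := @Bool.rec (fun _ => Nat) (col5_s_5_7 c) (col5_s_7_10 c) (Nat.ble 7 c)
noncomputable def col5_s_0_10 (c : Nat) : Nat := @Bool.rec (fun _ => Nat) (col5_s_0_5 c) (col5_s_5_10 c) (Nat.ble 5 c)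
noncomputable def col5 (i : Nat) : Nat := rdw 16 65535 (col5_s_0_10 (Nat.shiftRight i 12)) (Nat.land i 4095)
noncomputable def finTab_s_1_3 (c : Nat) : Nat := @Bool.rec (fun _ => Nat) (finTab_1) (finTab_2) (Nat.ble 2 c)
noncomputable def finTab_s_0_3 (c : Nat) : Nat := @Bool.rec (fun _ => Nat) (finTab_0) (finTab_s_1_3 c) (Nat.ble 1 c)
noncomputable def finTab_s_4_6 (c : Nat) : Nat := @Bool.rec (fun _ => Nat) (finTab_4) (finTab_5) (Nat.ble 5 c)
noncomputable def finTab_s_3_6 (c : Nat) : Nat := @Bool.rec (fun _ => Nat) (finTab_3) (finTab_s_4_6 c) (Nat.ble 4 c)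
noncomputable def finTab_s_0_6 (c : Nat) : Nat := @Bool.rec (fun _ => Nat) (finTab_s_0_3 c) (finTab_s_3_6 c) (Nat.ble 3 c)
noncomputable def finTab_s_7_9 (c : Nat) : Nat := @Bool.rec (fun _ => Nat) (finTab_7) (finTab_8) (Nat.ble 8 c)
noncomputable def finTab_s_6_9 (c : Nat) : Nat := @Bool.rec (fun _ => Nat) (finTab_6) (finTab_s_7_9 c) (Nat.ble 7 c)
noncomputable def finTab_s_9_11 (c : Nat) : Nat := @Bool.rec (fun _ => Nat) (finTab_9) (finTab_10) (Nat.ble 10 c)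
noncomputable def finTab_s_11_13 (c : Nat) : Nat := @Bool.rec (fun _ => Nat) (finTab_11) (finTab_12) (Nat.ble 12 c)
noncomputable def finTab_s_9_13 (c : Nat) : Nat := @Bool.rec (fun _ => Nat) (finTab_s_9_11 c) (finTab_s_11_13 c) (Nat.ble 11 c)
noncomputable def finTab_s_6_13 (c : Nat) : Nat := @Bool.rec (fun _ => Nat) (finTab_s_6_9 c) (finTab_s_9_13 c) (Nat.ble 9 c)
noncomputable def finTab_s_0_13 (c : Nat) : Nat := @Bool.rec (fun _ => Nat) (finTab_s_0_6 c) (finTab_s_6_13 c) (Nat.ble 6 c)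
noncomputable def finTab_s_14_16 (c : Nat) : Nat := @Bool.rec (fun _ => Nat) (finTab_14) (finTab_15) (Nat.ble 15 c)
noncomputable def finTab_s_13_16 (c : Nat) : Nat := @Bool.rec (fun _ => Nat) (finTab_13) (finTab_s_14_16 c) (Nat.ble 14 c)
noncomputable def finTab_s_16_18 (c : Nat) : Nat := @Bool.rec (fun _ => Nat) (finTab_16) (finTab_17) (Nat.ble 17 c)
noncomputable def finTab_s_18_20 (c : Nat) : Nat := @Bool.rec (fun _ => Nat) (finTab_18) (finTab_19) (Nat.ble 19 c)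
noncomputable def finTab_s_16_20 (c : Nat) : Nat := @Bool.rec (fun _ => Nat) (finTab_s_16_18 c) (finTab_s_18_20 c) (Nat.ble 18 c)
noncomputable def finTab_s_13_20 (c : Nat) : Nat := @Bool.rec (fun _ => Nat) (finTab_s_13_16 c) (finTab_s_16_20 c) (Nat.ble 16 c)
noncomputable def finTab_s_21_23 (c : Nat) : Nat := @Bool.rec (fun _ => Nat) (finTab_21) (finTab_22) (Nat.ble 22 c)
noncomputable def finTab_s_20_23 (c : Nat) : Nat := @Bool.rec (fun _ => Nat) (finTab_20) (finTab_s_21_23 c) (Nat.ble 21 c)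
noncomputable def finTab_s_23_25 (c : Nat) : Nat := @Bool.rec (fun _ => Nat) (finTab_23) (finTab_24) (Nat.ble 24 c)
noncomputable def finTab_s_25_27 (c : Nat) : Nat := @Bool.rec (fun _ => Nat) (finTab_25) (finTab_26) (Nat.ble 26 c)
noncomputable def finTab_s_23_27 (c : Nat) : Nat := @Bool.rec (fun _ => Nat) (finTab_s_23_25 c) (finTab_s_25_27 c) (Nat.ble 25 c)
noncomputable def finTab_s_20_27 (c : Nat) : Nat := @Bool.rec (fun _ => Nat) (finTab_s_20_23 c) (finTab_s_23_27 c) (Nat.ble 23 c)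
noncomputable def finTab_s_13_27 (c : Nat) : Nat := @Bool.rec (fun _ => Nat) (finTab_s_13_20 c) (finTab_s_20_27 c) (Nat.ble 20 c)
noncomputable def finTab_s_0_27 (c : Nat) : Nat := @Bool.rec (fun _ => Nat) (finTab_s_0_13 c) (finTab_s_13_27 c) (Nat.ble 13 c)
noncomputable def finTab_s_28_30 (c : Nat) : Nat := @Bool.rec (fun _ => Nat) (finTab_28) (finTab_29) (Nat.ble 29 c)
noncomputable def finTab_s_27_30 (c : Nat) : Nat := @Bool.rec (fun _ => Nat) (finTab_27) (finTab_s_28_30 c) (Nat.ble 28 c)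
noncomputable def finTab_s_30_32 (c : Nat) : Nat := @Bool.rec (fun _ => Nat) (finTab_30) (finTab_31) (Nat.ble 31 c)
noncomputable def finTab_s_32_34 (c : Nat) : Nat := @Bool.rec (fun _ => Nat) (finTab_32) (finTab_33) (Nat.ble 33 c)
noncomputable def finTab_s_30_34 (c : Nat) : Nat := @Bool.rec (fun _ => Nat) (finTab_s_30_32 c) (finTab_s_32_34 c) (Nat.ble 32 c)
noncomputable def finTab_s_27_34 (c : Nat) : Nat := @Bool.rec (fun _ => Nat) (finTab_s_27_30 c) (finTab_s_30_34 c) (Nat.ble 30 c)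
noncomputable def finTab_s_35_37 (c : Nat) : Nat := @Bool.rec (fun _ => Nat) (finTab_35) (finTab_36) (Nat.ble 36 c)
noncomputable def finTab_s_34_37 (c : Nat) : Nat := @Bool.rec (fun _ => Nat) (finTab_34) (finTab_s_35_37 c) (Nat.ble 35 c)
noncomputable def finTab_s_37_39 (c : Nat) : Nat := @Bool.rec (fun _ => Nat) (finTab_37) (finTab_38) (Nat.ble 38 c)
noncomputable def finTab_s_39_41 (c : Nat) : Nat := @Bool.rec (fun _ => Nat) (finTab_39) (finTab_40) (Nat.ble 40 c)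
noncomputable def finTab_s_37_41 (c : Nat) : Nat := @Bool.rec (fun _ => Nat) (finTab_s_37_39 c) (finTab_s_39_41 c) (Nat.ble 39 c)
noncomputable def finTab_s_34_41 (c : Nat) : Nat := @Bool.rec (fun _ => Nat) (finTab_s_34_37 c) (finTab_s_37_41 c) (Nat.ble 37 c)
noncomputable def finTab_s_27_41 (c : Nat) : Nat := @Bool.rec (fun _ => Nat) (finTab_s_27_34 c) (finTab_s_34_41 c) (Nat.ble 34 c)
noncomputable def finTab_s_42_44 (c : Nat) : Nat := @Bool.rec (fun _ => Nat) (finTab_42) (finTab_43) (Nat.ble 43 c)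
noncomputable def finTab_s_41_44 (c : Nat) : Nat := @Bool.rec (fun _ => Nat) (finTab_41) (finTab_s_42_44 c) (Nat.ble 42 c)
noncomputable def finTab_s_44_46 (c : Nat) : Nat := @Bool.rec (fun _ => Nat) (finTab_44) (finTab_45) (Nat.ble 45 c)
noncomputable def finTab_s_46_48 (c : Nat) : Nat := @Bool.rec (fun _ => Nat) (finTab_46) (finTab_47) (Nat.ble 47 c)
noncomputable def finTab_s_44_48 (c : Nat) : Nat := @Bool.rec (fun _ => Nat) (finTab_s_44_46 c) (finTab_s_46_48 c) (Nat.ble 46 c)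
noncomputable def finTab_s_41_48 (c : Nat) : Nat := @Bool.rec (fun _ => Nat) (finTab_s_41_44 c) (finTab_s_44_48 c) (Nat.ble 44 c)
noncomputable def finTab_s_49_51 (c : Nat) : Nat := @Bool.rec (fun _ => Nat) (finTab_49) (finTab_50) (Nat.ble 50 c)
noncomputable def finTab_s_48_51 (c : Nat) : Nat := @Bool.rec (fun _ => Nat) (finTab_48) (finTab_s_49_51 c) (Nat.ble 49 c)
noncomputable def finTab_s_51_53 (c : Nat) : Nat := @Bool.rec (fun _ => Nat) (finTab_51) (finTab_52) (Nat.ble 52 c)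
noncomputable def finTab_s_53_55 (c : Nat) : Nat := @Bool.rec (fun _ => Nat) (finTab_53) (finTab_54) (Nat.ble 54 c)
noncomputable def finTab_s_51_55 (c : Nat) : Nat := @Bool.rec (fun _ => Nat) (finTab_s_51_53 c) (finTab_s_53_55 c) (Nat.ble 53 c)
noncomputable def finTab_s_48_55 (c : Nat) : Nat := @Bool.rec (fun _ => Nat) (finTab_s_48_51 c) (finTab_s_51_55 c) (Nat.ble 51 c)
noncomputable def finTab_s_41_55 (c : Nat) : Nat := @Bool.rec (fun _ => Nat) (finTab_s_41_48 c) (finTab_s_48_55 c) (Nat.ble 48 c)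
noncomputable def finTab_s_27_55 (c : Nat) : Nat := @Bool.rec (fun _ => Nat) (finTab_s_27_41 c) (finTab_s_41_55 c) (Nat.ble 41 c)
noncomputable def finTab_s_0_55 (c : Nat) : Nat := @Bool.rec (fun _ => Nat) (finTab_s_0_27 c) (finTab_s_27_55 c) (Nat.ble 27 c)
noncomputable def finTab (i : Nat) : Nat := rdw 21 2097151 (finTab_s_0_55 (Nat.shiftRight i 12)) (Nat.land i 4095)
noncomputable def clsTab_s_1_3 (c : Nat) : Nat := @Bool.rec (fun _ => Nat) (clsTab_1) (clsTab_2) (Nat.ble 2 c)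
noncomputable def clsTab_s_0_3 (c : Nat) : Nat := @Bool.rec (fun _ => Nat) (clsTab_0) (clsTab_s_1_3 c) (Nat.ble 1 c)
noncomputable def clsTab_s_4_6 (c : Nat) : Nat := @Bool.rec (fun _ => Nat) (clsTab_4) (clsTab_5) (Nat.ble 5 c)
noncomputable def clsTab_s_3_6 (c : Nat) : Nat := @Bool.rec (fun _ => Nat) (clsTab_3) (clsTab_s_4_6 c) (Nat.ble 4 c)
noncomputable def clsTab_s_0_6 (c : Nat) : Nat := @Bool.rec (fun _ => Nat) (clsTab_s_0_3 c) (clsTab_s_3_6 c) (Nat.ble 3 c)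
noncomputable def clsTab_s_7_9 (c : Nat) : Nat := @Bool.rec (fun _ => Nat) (clsTab_7) (clsTab_8) (Nat.ble 8 c)
noncomputable def clsTab_s_6_9 (c : Nat) : Nat := @Bool.rec (fun _ => Nat) (clsTab_6) (clsTab_s_7_9 c) (Nat.ble 7 c)
noncomputable def clsTab_s_9_11 (c : Nat) : Nat := @Bool.rec (fun _ => Nat) (clsTab_9) (clsTab_10) (Nat.ble 10 c)
noncomputable def clsTab_s_11_13 (c : Nat) : Nat := @Bool.rec (fun _ => Nat) (clsTab_11) (clsTab_12) (Nat.ble 12 c)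
noncomputable def clsTab_s_9_13 (c : Nat) : Nat := @Bool.rec (fun _ => Nat) (clsTab_s_9_11 c) (clsTab_s_11_13 c) (Nat.ble 11 c)
noncomputable def clsTab_s_6_13 (c : Nat) : Nat := @Bool.rec (fun _ => Nat) (clsTab_s_6_9 c) (clsTab_s_9_13 c) (Nat.ble 9 c)
noncomputable def clsTab_s_0_13 (c : Nat) : Nat := @Bool.rec (fun _ => Nat) (clsTab_s_0_6 c) (clsTab_s_6_13 c) (Nat.ble 6 c)
noncomputable def clsTab_s_14_16 (c : Nat) : Nat := @Bool.rec (fun _ => Nat) (clsTab_14) (clsTab_15) (Nat.ble 15 c)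
noncomputable def clsTab_s_13_16 (c : Nat) : Nat := @Bool.rec (fun _ => Nat) (clsTab_13) (clsTab_s_14_16 c) (Nat.ble 14 c)
noncomputable def clsTab_s_17_19 (c : Nat) : Nat := @Bool.rec (fun _ => Nat) (clsTab_17) (clsTab_18) (Nat.ble 18 c)
noncomputable def clsTab_s_16_19 (c : Nat) : Nat := @Bool.rec (fun _ => Nat) (clsTab_16) (clsTab_s_17_19 c) (Nat.ble 17 c)
noncomputable def clsTab_s_13_19 (c : Nat) : Nat := @Bool.rec (fun _ => Nat) (clsTab_s_13_16 c) (clsTab_s_16_19 c) (Nat.ble 16 c)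
noncomputable def clsTab_s_20_22 (c : Nat) : Nat := @Bool.rec (fun _ => Nat) (clsTab_20) (clsTab_21) (Nat.ble 21 c)
noncomputable def clsTab_s_19_22 (c : Nat) : Nat := @Bool.rec (fun _ => Nat) (clsTab_19) (clsTab_s_20_22 c) (Nat.ble 20 c)
noncomputable def clsTab_s_22_24 (c : Nat) : Nat := @Bool.rec (fun _ => Nat) (clsTab_22) (clsTab_23) (Nat.ble 23 c)
noncomputable def clsTab_s_24_26 (c : Nat) : Nat := @Bool.rec (fun _ => Nat) (clsTab_24) (clsTab_25) (Nat.ble 25 c)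
noncomputable def clsTab_s_22_26 (c : Nat) : Nat := @Bool.rec (fun _ => Nat) (clsTab_s_22_24 c) (clsTab_s_24_26 c) (Nat.ble 24 c)
noncomputable def clsTab_s_19_26 (c : Nat) : Nat := @Bool.rec (fun _ => Nat) (clsTab_s_19_22 c) (clsTab_s_22_26 c) (Nat.ble 22 c)
noncomputable def clsTab_s_13_26 (c : Nat) : Nat := @Bool.rec (fun _ => Nat) (clsTab_s_13_19 c) (clsTab_s_19_26 c) (Nat.ble 19 c)
noncomputable def clsTab_s_0_26 (c : Nat) : Nat := @Bool.rec (fun _ => Nat) (clsTab_s_0_13 c) (clsTab_s_13_26 c) (Nat.ble 13 c)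
noncomputable def clsTab_s_27_29 (c : Nat) : Nat := @Bool.rec (fun _ => Nat) (clsTab_27) (clsTab_28) (Nat.ble 28 c)
noncomputable def clsTab_s_26_29 (c : Nat) : Nat := @Bool.rec (fun _ => Nat) (clsTab_26) (clsTab_s_27_29 c) (Nat.ble 27 c)
noncomputable def clsTab_s_30_32 (c : Nat) : Nat := @Bool.rec (fun _ => Nat) (clsTab_30) (clsTab_31) (Nat.ble 31 c)
noncomputable def clsTab_s_29_32 (c : Nat) : Nat := @Bool.rec (fun _ => Nat) (clsTab_29) (clsTab_s_30_32 c) (Nat.ble 30 c)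
noncomputable def clsTab_s_26_32 (c : Nat) : Nat := @Bool.rec (fun _ => Nat) (clsTab_s_26_29 c) (clsTab_s_29_32 c) (Nat.ble 29 c)
noncomputable def clsTab_s_33_35 (c : Nat) : Nat := @Bool.rec (fun _ => Nat) (clsTab_33) (clsTab_34) (Nat.ble 34 c)
noncomputable def clsTab_s_32_35 (c : Nat) : Nat := @Bool.rec (fun _ => Nat) (clsTab_32) (clsTab_s_33_35 c) (Nat.ble 33 c)
noncomputable def clsTab_s_35_37 (c : Nat) : Nat := @Bool.rec (fun _ => Nat) (clsTab_35) (clsTab_36) (Nat.ble 36 c)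
noncomputable def clsTab_s_37_39 (c : Nat) : Nat := @Bool.rec (fun _ => Nat) (clsTab_37) (clsTab_38) (Nat.ble 38 c)
noncomputable def clsTab_s_35_39 (c : Nat) : Nat := @Bool.rec (fun _ => Nat) (clsTab_s_35_37 c) (clsTab_s_37_39 c) (Nat.ble 37 c)
noncomputable def clsTab_s_32_39 (c : Nat) : Nat := @Bool.rec (fun _ => Nat) (clsTab_s_32_35 c) (clsTab_s_35_39 c) (Nat.ble 35 c)
noncomputable def clsTab_s_26_39 (c : Nat) : Nat := @Bool.rec (fun _ => Nat) (clsTab_s_26_32 c) (clsTab_s_32_39 c) (Nat.ble 32 c)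
noncomputable def clsTab_s_40_42 (c : Nat) : Nat := @Bool.rec (fun _ => Nat) (clsTab_40) (clsTab_41) (Nat.ble 41 c)
noncomputable def clsTab_s_39_42 (c : Nat) : Nat := @Bool.rec (fun _ => Nat) (clsTab_39) (clsTab_s_40_42 c) (Nat.ble 40 c)
noncomputable def clsTab_s_43_45 (c : Nat) : Nat := @Bool.rec (fun _ => Nat) (clsTab_43) (clsTab_44) (Nat.ble 44 c)
noncomputable def clsTab_s_42_45 (c : Nat) : Nat := @Bool.rec (fun _ => Nat) (clsTab_42) (clsTab_s_43_45 c) (Nat.ble 43 c)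
noncomputable def clsTab_s_39_45 (c : Nat) : Nat := @Bool.rec (fun _ => Nat) (clsTab_s_39_42 c) (clsTab_s_42_45 c) (Nat.ble 42 c)
noncomputable def clsTab_s_46_48 (c : Nat) : Nat := @Bool.rec (fun _ => Nat) (clsTab_46) (clsTab_47) (Nat.ble 47 c)
noncomputable def clsTab_s_45_48 (c : Nat) : Nat := @Bool.rec (fun _ => Nat) (clsTab_45) (clsTab_s_46_48 c) (Nat.ble 46 c)
noncomputable def clsTab_s_48_50 (c : Nat) : Nat := @Bool.rec (fun _ => Nat) (clsTab_48) (clsTab_49) (Nat.ble 49 c)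
noncomputable def clsTab_s_50_52 (c : Nat) : Nat := @Bool.rec (fun _ => Nat) (clsTab_50) (clsTab_51) (Nat.ble 51 c)
noncomputable def clsTab_s_48_52 (c : Nat) : Nat := @Bool.rec (fun _ => Nat) (clsTab_s_48_50 c) (clsTab_s_50_52 c) (Nat.ble 50 c)
noncomputable def clsTab_s_45_52 (c : Nat) : Nat := @Bool.rec (fun _ => Nat) (clsTab_s_45_48 c) (clsTab_s_48_52 c) (Nat.ble 48 c)
noncomputable def clsTab_s_39_52 (c : Nat) : Nat := @Bool.rec (fun _ => Nat) (clsTab_s_39_45 c) (clsTab_s_45_52 c) (Nat.ble 45 c)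
noncomputable def clsTab_s_26_52 (c : Nat) : Nat := @Bool.rec (fun _ => Nat) (clsTab_s_26_39 c) (clsTab_s_39_52 c) (Nat.ble 39 c)
noncomputable def clsTab_s_0_52 (c : Nat) : Nat := @Bool.rec (fun _ => Nat) (clsTab_s_0_26 c) (clsTab_s_26_52 c) (Nat.ble 26 c)
noncomputable def clsTab (i : Nat) : Nat := rdw 16 65535 (clsTab_s_0_52 (Nat.shiftRight i 12)) (Nat.land i 4095)
noncomputable def oparTab_s_0_2 (c : Nat) : Nat := @Bool.rec (fun _ => Nat) (oparTab_0) (oparTab_1) (Nat.ble 1 c)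
noncomputable def oparTab_s_3_5 (c : Nat) : Nat := @Bool.rec (fun _ => Nat) (oparTab_3) (oparTab_4) (Nat.ble 4 c)
noncomputable def oparTab_s_2_5 (c : Nat) : Nat := @Bool.rec (fun _ => Nat) (oparTab_2) (oparTab_s_3_5 c) (Nat.ble 3 c)
noncomputable def oparTab_s_0_5 (c : Nat) : Nat := @Bool.rec (fun _ => Nat) (oparTab_s_0_2 c) (oparTab_s_2_5 c) (Nat.ble 2 c)
noncomputable def oparTab_s_5_7 (c : Nat) : Nat := @Bool.rec (fun _ => Nat) (oparTab_5) (oparTab_6) (Nat.ble 6 c)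
noncomputable def oparTab_s_8_10 (c : Nat) : Nat := @Bool.rec (fun _ => Nat) (oparTab_8) (oparTab_9) (Nat.ble 9 c)
noncomputable def oparTab_s_7_10 (c : Nat) : Nat := @Bool.rec (fun _ => Nat) (oparTab_7) (oparTab_s_8_10 c) (Nat.ble 8 c)
noncomputable def oparTab_s_5_10 (c : Nat) : Nat := @Bool.rec (fun _ => Nat) (oparTab_s_5_7 c) (oparTab_s_7_10 c) (Nat.ble 7 c)
noncomputable def oparTab_s_0_10 (c : Nat) : Nat := @Bool.rec (fun _ => Nat) (oparTab_s_0_5 c) (oparTab_s_5_10 c) (Nat.ble 5 c)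
noncomputable def oparTab (i : Nat) : Nat := rdw 16 65535 (oparTab_s_0_10 (Nat.shiftRight i 12)) (Nat.land i 4095)
noncomputable def olabTab_s_0_2 (c : Nat) : Nat := @Bool.rec (fun _ => Nat) (olabTab_0) (olabTab_1) (Nat.ble 1 c)
noncomputable def olabTab (i : Nat) : Nat := rdw 2 3 (olabTab_s_0_2 (Nat.shiftRight i 15)) (Nat.land i 32767)
noncomputable def srcF (t : Nat) : Nat := Nat.land (Atab t) 262143
noncomputable def tgtF (t : Nat) : Nat := Nat.land (Nat.shiftRight (Atab t) 18) 262143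
noncomputable def ltF (t : Nat) : Nat := Nat.shiftRight (Atab t) 36
noncomputable def rhoF (t : Nat) : Nat := Nat.land (Btab (Nat.sub t 209669)) 63
noncomputable def rotF (t : Nat) : Nat := Nat.land (Nat.shiftRight (Btab (Nat.sub t 209669)) 6) 31
noncomputable def lenF (t : Nat) : Nat := Nat.land (Nat.shiftRight (Btab (Nat.sub t 209669)) 11) 63
noncomputable def offF (t : Nat) : Nat := Nat.shiftRight (Btab (Nat.sub t 209669)) 17
noncomputable def pfF (j : Nat) : Nat := Nat.shiftRight (Ptab j) 1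
noncomputable def pdF (j : Nat) : Nat := Nat.land (Ptab j) 1
noncomputable def tblF (i x : Nat) : Nat := @Bool.rec (fun _ => Nat) (@Bool.rec (fun _ => Nat) (col0 i) (@Bool.rec (fun _ => Nat) (col1 i) (col2 i) (Nat.ble 2 x)) (Nat.ble 1 x)) (@Bool.rec (fun _ => Nat) (col3 i) (@Bool.rec (fun _ => Nat) (col4 i) (col5 i) (Nat.ble 5 x)) (Nat.ble 4 x)) (Nat.ble 3 x)
noncomputable def finE (i x : Nat) : Nat := finTab (Nat.add (Nat.mul i 6) x)
noncomputable def finFF (i x : Nat) : Nat := Nat.shiftRight (finE i x) 1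
noncomputable def finDF (i x : Nat) : Nat := Nat.land (finE i x) 1

noncomputable def D : Log :=
  { k := 6, inv := invE 6 PC3J3.invR, nR := 38, rBase := rBtab, rLen := rLtab, RR := RRtab,
    M := 209665, nB := 4, F := 561098, src := srcF, lt := ltF, tgt := tgtF, rho := rhoF, rot := rotF,
    off := offF, len := lenF, pf := pfF, pd := pdF }

noncomputable def T : Tab :=
  { N := 36936, nameOf := nameTab, tbl := tblF, finF := finFF, finD := finDF, cls := clsTab }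

def subs : List (List Nat) := [
  [0],
  [2] ]

def rw0 : List Nat := [0, 0, 0, 0, 0, 0, 0, 0, 0, 0, 0, 0, 0, 0, 0, 0, 0]
def rw1 : List Nat := [2, 2]
def rw2 : List Nat := [0, 0, 0, 2, 1, 2, 0, 2, 0, 0, 0, 2, 1, 2, 0, 2]
def rw3 : List Nat := [0, 0, 0, 0, 0, 2, 0, 0, 0, 0, 0, 2, 0, 0, 0, 0, 0, 2]
def rw4 : List Nat := [4, 4, 4, 4, 4, 4, 4, 4]
def rw5 : List Nat := [2, 4, 2, 4, 4, 2, 4, 2, 5, 2, 5, 5, 2, 5]
def rw6 : List Nat := [0, 2, 4, 4, 2, 4, 0, 4, 2, 4, 4, 2, 4, 1, 4]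
def rw7 : List Nat := [0, 0, 4, 4, 2, 4, 4, 2, 4, 0, 4, 2, 4, 4, 2]
def rw8 : List Nat := [0, 0, 2, 0, 5, 5, 2, 4, 0, 2, 0, 2, 1, 2, 4, 2]
def rw9 : List Nat := [0, 0, 2, 0, 5, 5, 2, 4, 2, 0, 2, 1, 2, 1, 4, 2]
def rw10 : List Nat := [0, 2, 0, 2, 5, 2, 0, 5, 2, 0, 5, 2, 0, 5, 2, 5]
def realLit : List (List Nat) := [rw0, rw1, rw2, rw3, rw4, rw5, rw6, rw7, rw8, rw9, rw10]
noncomputable def actR0 (i : Nat) : Nat := col1 (col1 (col1 (col1 (col1 (col1 (col1 (col1 (col1 (col1 (col1 (col1 (col1 (col1 (col1 (col1 (col1 (i)))))))))))))))))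
theorem actR0_eq (i : Nat) : actR0 i = Tab.act T D rw0 i := rfl
noncomputable def actR1 (i : Nat) : Nat := col3 (col3 (i))
theorem actR1_eq (i : Nat) : actR1 i = Tab.act T D rw1 i := rfl
noncomputable def actR2 (i : Nat) : Nat := col1 (col1 (col1 (col3 (col0 (col3 (col1 (col3 (col1 (col1 (col1 (col3 (col0 (col3 (col1 (col3 (i))))))))))))))))
theorem actR2_eq (i : Nat) : actR2 i = Tab.act T D rw2 i := rfl
noncomputable def actR3 (i : Nat) : Nat := col1 (col1 (col1 (col1 (col1 (col3 (col1 (col1 (col1 (col1 (col1 (col3 (col1 (col1 (col1 (col1 (col1 (col3 (i))))))))))))))))))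
theorem actR3_eq (i : Nat) : actR3 i = Tab.act T D rw3 i := rfl
noncomputable def actR4 (i : Nat) : Nat := col5 (col5 (col5 (col5 (col5 (col5 (col5 (col5 (i))))))))
theorem actR4_eq (i : Nat) : actR4 i = Tab.act T D rw4 i := rfl
noncomputable def actR5 (i : Nat) : Nat := col3 (col5 (col3 (col5 (col5 (col3 (col5 (col3 (col4 (col3 (col4 (col4 (col3 (col4 (i))))))))))))))
theorem actR5_eq (i : Nat) : actR5 i = Tab.act T D rw5 i := rfl
noncomputable def actR6 (i : Nat) : Nat := col1 (col3 (col5 (col5 (col3 (col5 (col1 (col5 (col3 (col5 (col5 (col3 (col5 (col0 (col5 (i)))))))))))))))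
theorem actR6_eq (i : Nat) : actR6 i = Tab.act T D rw6 i := rfl
noncomputable def actR7 (i : Nat) : Nat := col1 (col1 (col5 (col5 (col3 (col5 (col5 (col3 (col5 (col1 (col5 (col3 (col5 (col5 (col3 (i)))))))))))))))
theorem actR7_eq (i : Nat) : actR7 i = Tab.act T D rw7 i := rfl
noncomputable def actR8 (i : Nat) : Nat := col1 (col1 (col3 (col1 (col4 (col4 (col3 (col5 (col1 (col3 (col1 (col3 (col0 (col3 (col5 (col3 (i))))))))))))))))
theorem actR8_eq (i : Nat) : actR8 i = Tab.act T D rw8 i := rfl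
noncomputable def actR9 (i : Nat) : Nat := col1 (col1 (col3 (col1 (col4 (col4 (col3 (col5 (col3 (col1 (col3 (col0 (col3 (col0 (col5 (col3 (i))))))))))))))))
theorem actR9_eq (i : Nat) : actR9 i = Tab.act T D rw9 i := rfl
noncomputable def actR10 (i : Nat) : Nat := col1 (col3 (col1 (col3 (col4 (col3 (col1 (col4 (col3 (col1 (col4 (col3 (col1 (col4 (col3 (col4 (i))))))))))))))))
theorem actR10_eq (i : Nat) : actR10 i = Tab.act T D rw10 i := rfl

end Cfsg.Agent.Lib.Helper4.TCD.C3J3A
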