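import Cfsg.Agent.Lib.Helper4.TCD_C3J3A_Acc

namespace Cfsg.Agent.Lib.Helper4.TCD.C3J3A

open Cfsg.Agent.Lib.Helper4.TC

set_option maxRecDepth 100000
set_option Elab.async false

theorem c_zero : D.zeroOK = true := by decide +kernel
theorem c_base : allBelow D.baseOK 4 = true := by decide +kernel
theorem c_let : allBelow D.letOK 6 = true := by decide +kernel
theorem c_cls0 : T.cls 0 = 0 := by decide +kernel
theorem c_name0 : T.nameOf 0 = 0 := by decide +kernel
theorem c_tab : D.relTabOK 0 (baseRels 6 PC3J3.invR PC3J3.P.real subs ++ (baseRels 6 PC3J3.invR PC3J3.P.real subs).map (invWord D.inv)) = true := by decide +kernel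
theorem c_real : PC3J3.P.real = realLit := by decide +kernel
theorem c_subfix : subs.all (fun u => Nat.beq (Tab.act T D u 0) 0) = true := by decide +kernel
theorem c_subs : subs.all (fun u => u.all (fun x => Nat.ble (Nat.succ x) 6)) = true := by decide +kernel
theorem c_names_0 : allRange D.nameOK 1 60000 = true := by decide +kernel
theorem c_names_1 : allRange D.nameOK 60001 60000 = true := by decide +kernel
theorem c_names_2 : allRange D.nameOK 120001 60000 = true := by decide +kernel
theorem c_names_3 : allRange D.nameOK 180001 29664 = true := by decide +kernel
theorem c_cls_0 : allRange (T.clsOK D) 1 15000 = true := by decide +kernel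
theorem c_cls_1 : allRange (T.clsOK D) 15001 15000 = true := by decide +kernel
theorem c_cls_2 : allRange (T.clsOK D) 30001 15000 = true := by decide +kernel
theorem c_cls_3 : allRange (T.clsOK D) 45001 15000 = true := by decide +kernel
theorem c_cls_4 : allRange (T.clsOK D) 60001 15000 = true := by decide +kernel
theorem c_cls_5 : allRange (T.clsOK D) 75001 15000 = true := by decide +kernel
theorem c_cls_6 : allRange (T.clsOK D) 90001 15000 = true := by decide +kernel
theorem c_cls_7 : allRange (T.clsOK D) 105001 15000 = true := by decide +kernel
theorem c_cls_8 : allRange (T.clsOK D) 120001 15000 = true := by decide +kernel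
theorem c_cls_9 : allRange (T.clsOK D) 135001 15000 = true := by decide +kernel
theorem c_cls_10 : allRange (T.clsOK D) 150001 15000 = true := by decide +kernel
theorem c_cls_11 : allRange (T.clsOK D) 165001 15000 = true := by decide +kernel
theorem c_cls_12 : allRange (T.clsOK D) 180001 15000 = true := by decide +kernel
theorem c_cls_13 : allRange (T.clsOK D) 195001 14664 = true := by decide +kernel
theorem c_rep_0 : allRange (T.repOK D) 0 30000 = true := by decide +kernel
theorem c_rep_1 : allRange (T.repOK D) 30000 6936 = true := by decide +kernel
theorem c_rel_0 : allRange D.relOK 209669 4308 = true := by decide +kernel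
theorem c_rel_1 : allRange D.relOK 213977 4257 = true := by decide +kernel
theorem c_rel_2 : allRange D.relOK 218234 2560 = true := by decide +kernel
theorem c_rel_3 : allRange D.relOK 220794 3692 = true := by decide +kernel
theorem c_rel_4 : allRange D.relOK 224486 3571 = true := by decide +kernel
theorem c_rel_5 : allRange D.relOK 228057 2883 = true := by decide +kernel
theorem c_rel_6 : allRange D.relOK 230940 2375 = true := by decide +kernel
theorem c_rel_7 : allRange D.relOK 233315 2277 = true := by decide +kernel
theorem c_rel_8 : allRange D.relOK 235592 1728 = true := by decide +kernel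
theorem c_rel_9 : allRange D.relOK 237320 1282 = true := by decide +kernel
theorem c_rel_10 : allRange D.relOK 238602 2642 = true := by decide +kernel
theorem c_rel_11 : allRange D.relOK 241244 2967 = true := by decide +kernel
theorem c_rel_12 : allRange D.relOK 244211 3069 = true := by decide +kernel
theorem c_rel_13 : allRange D.relOK 247280 2854 = true := by decide +kernel
theorem c_rel_14 : allRange D.relOK 250134 2968 = true := by decide +kernel
theorem c_rel_15 : allRange D.relOK 253102 2879 = true := by decide +kernel
theorem c_rel_16 : allRange D.relOK 255981 2692 = true := by decide +kernel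
theorem c_rel_17 : allRange D.relOK 258673 2362 = true := by decide +kernel
theorem c_rel_18 : allRange D.relOK 261035 2517 = true := by decide +kernel
theorem c_rel_19 : allRange D.relOK 263552 2707 = true := by decide +kernel
theorem c_rel_20 : allRange D.relOK 266259 2520 = true := by decide +kernel
theorem c_rel_21 : allRange D.relOK 268779 2032 = true := by decide +kernel
theorem c_rel_22 : allRange D.relOK 270811 2889 = true := by decide +kernel
theorem c_rel_23 : allRange D.relOK 273700 2556 = true := by decide +kernel
theorem c_rel_24 : allRange D.relOK 276256 2472 = true := by decide +kernel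
theorem c_rel_25 : allRange D.relOK 278728 2250 = true := by decide +kernel
theorem c_rel_26 : allRange D.relOK 280978 2566 = true := by decide +kernel
theorem c_rel_27 : allRange D.relOK 283544 2099 = true := by decide +kernel
theorem c_rel_28 : allRange D.relOK 285643 3231 = true := by decide +kernel
theorem c_rel_29 : allRange D.relOK 288874 3229 = true := by decide +kernel
theorem c_rel_30 : allRange D.relOK 292103 3065 = true := by decide +kernel
theorem c_rel_31 : allRange D.relOK 295168 3437 = true := by decide +kernel
theorem c_rel_32 : allRange D.relOK 298605 1995 = true := by decide +kernel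
theorem c_rel_33 : allRange D.relOK 300600 2409 = true := by decide +kernel
theorem c_rel_34 : allRange D.relOK 303009 2930 = true := by decide +kernel
theorem c_rel_35 : allRange D.relOK 305939 3288 = true := by decide +kernel
theorem c_rel_36 : allRange D.relOK 309227 3378 = true := by decide +kernel
theorem c_rel_37 : allRange D.relOK 312605 3387 = true := by decide +kernel
theorem c_rel_38 : allRange D.relOK 315992 3316 = true := by decide +kernel
theorem c_rel_39 : allRange D.relOK 319308 3291 = true := by decide +kernel
theorem c_rel_40 : allRange D.relOK 322599 2604 = true := by decide +kernel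
theorem c_rel_41 : allRange D.relOK 325203 2024 = true := by decide +kernel
theorem c_rel_42 : allRange D.relOK 327227 2025 = true := by decide +kernel
theorem c_rel_43 : allRange D.relOK 329252 1946 = true := by decide +kernel
theorem c_rel_44 : allRange D.relOK 331198 2262 = true := by decide +kernel
theorem c_rel_45 : allRange D.relOK 333460 2375 = true := by decide +kernel
theorem c_rel_46 : allRange D.relOK 335835 1873 = true := by decide +kernel
theorem c_rel_47 : allRange D.relOK 337708 1774 = true := by decide +kernel
theorem c_rel_48 : allRange D.relOK 339482 2254 = true := by decide +kernel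
theorem c_rel_49 : allRange D.relOK 341736 1741 = true := by decide +kernel
theorem c_rel_50 : allRange D.relOK 343477 1895 = true := by decide +kernel
theorem c_rel_51 : allRange D.relOK 345372 1684 = true := by decide +kernel
theorem c_rel_52 : allRange D.relOK 347056 1816 = true := by decide +kernel
theorem c_rel_53 : allRange D.relOK 348872 1700 = true := by decide +kernel
theorem c_rel_54 : allRange D.relOK 350572 2019 = true := by decide +kernel
theorem c_rel_55 : allRange D.relOK 352591 1598 = true := by decide +kernel
theorem c_rel_56 : allRange D.relOK 354189 1881 = true := by decide +kernel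
theorem c_rel_57 : allRange D.relOK 356070 1545 = true := by decide +kernel
theorem c_rel_58 : allRange D.relOK 357615 1781 = true := by decide +kernel
theorem c_rel_59 : allRange D.relOK 359396 1490 = true := by decide +kernel
theorem c_rel_60 : allRange D.relOK 360886 1807 = true := by decide +kernel
theorem c_rel_61 : allRange D.relOK 362693 1677 = true := by decide +kernel

end Cfsg.Agent.Lib.Helper4.TCD.C3J3A
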