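import Cfsg.Agent.Lib.Helper4.TC11
import Cfsg.Agent.Lib.Helper4.TCD_C3J3A_Acc
import Cfsg.Agent.Lib.Helper4.TCD_C3J3L_D0

namespace Cfsg.Agent.Lib.Helper4.TCD.C3J3L

open Cfsg.Agent.Lib.Helper4.TC Cfsg.Agent.Lib.Helper4.TCD.C3J3A

set_option maxRecDepth 100000

noncomputable def st6_s_0_2 (c : Nat) : Nat := @Bool.rec (fun _ => Nat) (st6_0) (st6_1) (Nat.ble 1 c)
noncomputable def st6_s_3_5 (c : Nat) : Nat := @Bool.rec (fun _ => Nat) (st6_3) (st6_4) (Nat.ble 4 c)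
noncomputable def st6_s_2_5 (c : Nat) : Nat := @Bool.rec (fun _ => Nat) (st6_2) (st6_s_3_5 c) (Nat.ble 3 c)
noncomputable def st6_s_0_5 (c : Nat) : Nat := @Bool.rec (fun _ => Nat) (st6_s_0_2 c) (st6_s_2_5 c) (Nat.ble 2 c)
noncomputable def st6_s_5_7 (c : Nat) : Nat := @Bool.rec (fun _ => Nat) (st6_5) (st6_6) (Nat.ble 6 c)
noncomputable def st6_s_8_10 (c : Nat) : Nat := @Bool.rec (fun _ => Nat) (st6_8) (st6_9) (Nat.ble 9 c)
noncomputable def st6_s_7_10 (c : Nat) : Nat := @Bool.rec (fun _ => Nat) (st6_7) (st6_s_8_10 c) (Nat.ble 8 c)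
noncomputable def st6_s_5_10 (c : Nat) : Nat := @Bool.rec (fun _ => Nat) (st6_s_5_7 c) (st6_s_7_10 c) (Nat.ble 7 c)
noncomputable def st6_s_0_10 (c : Nat) : Nat := @Bool.rec (fun _ => Nat) (st6_s_0_5 c) (st6_s_5_10 c) (Nat.ble 5 c)
noncomputable def st6 (i : Nat) : Nat := rdw 16 65535 (st6_s_0_10 (Nat.shiftRight i 12)) (Nat.land i 4095)
noncomputable def st7_s_0_2 (c : Nat) : Nat := @Bool.rec (fun _ => Nat) (st7_0) (st7_1) (Nat.ble 1 c)
noncomputable def st7_s_3_5 (c : Nat) : Nat := @Bool.rec (fun _ => Nat) (st7_3) (st7_4) (Nat.ble 4 c)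
noncomputable def st7_s_2_5 (c : Nat) : Nat := @Bool.rec (fun _ => Nat) (st7_2) (st7_s_3_5 c) (Nat.ble 3 c)
noncomputable def st7_s_0_5 (c : Nat) : Nat := @Bool.rec (fun _ => Nat) (st7_s_0_2 c) (st7_s_2_5 c) (Nat.ble 2 c)
noncomputable def st7_s_5_7 (c : Nat) : Nat := @Bool.rec (fun _ => Nat) (st7_5) (st7_6) (Nat.ble 6 c)
noncomputable def st7_s_8_10 (c : Nat) : Nat := @Bool.rec (fun _ => Nat) (st7_8) (st7_9) (Nat.ble 9 c)
noncomputable def st7_s_7_10 (c : Nat) : Nat := @Bool.rec (fun _ => Nat) (st7_7) (st7_s_8_10 c) (Nat.ble 8 c)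
noncomputable def st7_s_5_10 (c : Nat) : Nat := @Bool.rec (fun _ => Nat) (st7_s_5_7 c) (st7_s_7_10 c) (Nat.ble 7 c)
noncomputable def st7_s_0_10 (c : Nat) : Nat := @Bool.rec (fun _ => Nat) (st7_s_0_5 c) (st7_s_5_10 c) (Nat.ble 5 c)
noncomputable def st7 (i : Nat) : Nat := rdw 16 65535 (st7_s_0_10 (Nat.shiftRight i 12)) (Nat.land i 4095)
noncomputable def st8_s_0_2 (c : Nat) : Nat := @Bool.rec (fun _ => Nat) (st8_0) (st8_1) (Nat.ble 1 c)
noncomputable def st8_s_3_5 (c : Nat) : Nat := @Bool.rec (fun _ => Nat) (st8_3) (st8_4) (Nat.ble 4 c)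
noncomputable def st8_s_2_5 (c : Nat) : Nat := @Bool.rec (fun _ => Nat) (st8_2) (st8_s_3_5 c) (Nat.ble 3 c)
noncomputable def st8_s_0_5 (c : Nat) : Nat := @Bool.rec (fun _ => Nat) (st8_s_0_2 c) (st8_s_2_5 c) (Nat.ble 2 c)
noncomputable def st8_s_5_7 (c : Nat) : Nat := @Bool.rec (fun _ => Nat) (st8_5) (st8_6) (Nat.ble 6 c)
noncomputable def st8_s_8_10 (c : Nat) : Nat := @Bool.rec (fun _ => Nat) (st8_8) (st8_9) (Nat.ble 9 c)
noncomputable def st8_s_7_10 (c : Nat) : Nat := @Bool.rec (fun _ => Nat) (st8_7) (st8_s_8_10 c) (Nat.ble 8 c)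
noncomputable def st8_s_5_10 (c : Nat) : Nat := @Bool.rec (fun _ => Nat) (st8_s_5_7 c) (st8_s_7_10 c) (Nat.ble 7 c)
noncomputable def st8_s_0_10 (c : Nat) : Nat := @Bool.rec (fun _ => Nat) (st8_s_0_5 c) (st8_s_5_10 c) (Nat.ble 5 c)
noncomputable def st8 (i : Nat) : Nat := rdw 16 65535 (st8_s_0_10 (Nat.shiftRight i 12)) (Nat.land i 4095)
noncomputable def st9_s_0_2 (c : Nat) : Nat := @Bool.rec (fun _ => Nat) (st9_0) (st9_1) (Nat.ble 1 c)
noncomputable def st9_s_3_5 (c : Nat) : Nat := @Bool.rec (fun _ => Nat) (st9_3) (st9_4) (Nat.ble 4 c)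
noncomputable def st9_s_2_5 (c : Nat) : Nat := @Bool.rec (fun _ => Nat) (st9_2) (st9_s_3_5 c) (Nat.ble 3 c)
noncomputable def st9_s_0_5 (c : Nat) : Nat := @Bool.rec (fun _ => Nat) (st9_s_0_2 c) (st9_s_2_5 c) (Nat.ble 2 c)
noncomputable def st9_s_5_7 (c : Nat) : Nat := @Bool.rec (fun _ => Nat) (st9_5) (st9_6) (Nat.ble 6 c)
noncomputable def st9_s_8_10 (c : Nat) : Nat := @Bool.rec (fun _ => Nat) (st9_8) (st9_9) (Nat.ble 9 c)
noncomputable def st9_s_7_10 (c : Nat) : Nat := @Bool.rec (fun _ => Nat) (st9_7) (st9_s_8_10 c) (Nat.ble 8 c)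
noncomputable def st9_s_5_10 (c : Nat) : Nat := @Bool.rec (fun _ => Nat) (st9_s_5_7 c) (st9_s_7_10 c) (Nat.ble 7 c)
noncomputable def st9_s_0_10 (c : Nat) : Nat := @Bool.rec (fun _ => Nat) (st9_s_0_5 c) (st9_s_5_10 c) (Nat.ble 5 c)
noncomputable def st9 (i : Nat) : Nat := rdw 16 65535 (st9_s_0_10 (Nat.shiftRight i 12)) (Nat.land i 4095)
noncomputable def st10_s_0_2 (c : Nat) : Nat := @Bool.rec (fun _ => Nat) (st10_0) (st10_1) (Nat.ble 1 c)
noncomputable def st10_s_3_5 (c : Nat) : Nat := @Bool.rec (fun _ => Nat) (st10_3) (st10_4) (Nat.ble 4 c)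
noncomputable def st10_s_2_5 (c : Nat) : Nat := @Bool.rec (fun _ => Nat) (st10_2) (st10_s_3_5 c) (Nat.ble 3 c)
noncomputable def st10_s_0_5 (c : Nat) : Nat := @Bool.rec (fun _ => Nat) (st10_s_0_2 c) (st10_s_2_5 c) (Nat.ble 2 c)
noncomputable def st10_s_5_7 (c : Nat) : Nat := @Bool.rec (fun _ => Nat) (st10_5) (st10_6) (Nat.ble 6 c)
noncomputable def st10_s_8_10 (c : Nat) : Nat := @Bool.rec (fun _ => Nat) (st10_8) (st10_9) (Nat.ble 9 c)
noncomputable def st10_s_7_10 (c : Nat) : Nat := @Bool.rec (fun _ => Nat) (st10_7) (st10_s_8_10 c) (Nat.ble 8 c)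
noncomputable def st10_s_5_10 (c : Nat) : Nat := @Bool.rec (fun _ => Nat) (st10_s_5_7 c) (st10_s_7_10 c) (Nat.ble 7 c)
noncomputable def st10_s_0_10 (c : Nat) : Nat := @Bool.rec (fun _ => Nat) (st10_s_0_5 c) (st10_s_5_10 c) (Nat.ble 5 c)
noncomputable def st10 (i : Nat) : Nat := rdw 16 65535 (st10_s_0_10 (Nat.shiftRight i 12)) (Nat.land i 4095)
noncomputable def levTab (i : Nat) : Nat := rdw 3 7 levTab_0 i
noncomputable def betaTab (i : Nat) : Nat := rdw 16 65535 betaTab_0 i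
noncomputable def nodeTab_s_0_2 (c : Nat) : Nat := @Bool.rec (fun _ => Nat) (nodeTab_0) (nodeTab_1) (Nat.ble 1 c)
noncomputable def nodeTab_s_2_4 (c : Nat) : Nat := @Bool.rec (fun _ => Nat) (nodeTab_2) (nodeTab_3) (Nat.ble 3 c)
noncomputable def nodeTab_s_0_4 (c : Nat) : Nat := @Bool.rec (fun _ => Nat) (nodeTab_s_0_2 c) (nodeTab_s_2_4 c) (Nat.ble 2 c)
noncomputable def nodeTab_s_4_6 (c : Nat) : Nat := @Bool.rec (fun _ => Nat) (nodeTab_4) (nodeTab_5) (Nat.ble 5 c)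
noncomputable def nodeTab_s_7_9 (c : Nat) : Nat := @Bool.rec (fun _ => Nat) (nodeTab_7) (nodeTab_8) (Nat.ble 8 c)
noncomputable def nodeTab_s_6_9 (c : Nat) : Nat := @Bool.rec (fun _ => Nat) (nodeTab_6) (nodeTab_s_7_9 c) (Nat.ble 7 c)
noncomputable def nodeTab_s_4_9 (c : Nat) : Nat := @Bool.rec (fun _ => Nat) (nodeTab_s_4_6 c) (nodeTab_s_6_9 c) (Nat.ble 6 c)
noncomputable def nodeTab_s_0_9 (c : Nat) : Nat := @Bool.rec (fun _ => Nat) (nodeTab_s_0_4 c) (nodeTab_s_4_9 c) (Nat.ble 4 c)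
noncomputable def nodeTab_s_9_11 (c : Nat) : Nat := @Bool.rec (fun _ => Nat) (nodeTab_9) (nodeTab_10) (Nat.ble 10 c)
noncomputable def nodeTab_s_12_14 (c : Nat) : Nat := @Bool.rec (fun _ => Nat) (nodeTab_12) (nodeTab_13) (Nat.ble 13 c)
noncomputable def nodeTab_s_11_14 (c : Nat) : Nat := @Bool.rec (fun _ => Nat) (nodeTab_11) (nodeTab_s_12_14 c) (Nat.ble 12 c)
noncomputable def nodeTab_s_9_14 (c : Nat) : Nat := @Bool.rec (fun _ => Nat) (nodeTab_s_9_11 c) (nodeTab_s_11_14 c) (Nat.ble 11 c)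
noncomputable def nodeTab_s_14_16 (c : Nat) : Nat := @Bool.rec (fun _ => Nat) (nodeTab_14) (nodeTab_15) (Nat.ble 15 c)
noncomputable def nodeTab_s_17_19 (c : Nat) : Nat := @Bool.rec (fun _ => Nat) (nodeTab_17) (nodeTab_18) (Nat.ble 18 c)
noncomputable def nodeTab_s_16_19 (c : Nat) : Nat := @Bool.rec (fun _ => Nat) (nodeTab_16) (nodeTab_s_17_19 c) (Nat.ble 17 c)
noncomputable def nodeTab_s_14_19 (c : Nat) : Nat := @Bool.rec (fun _ => Nat) (nodeTab_s_14_16 c) (nodeTab_s_16_19 c) (Nat.ble 16 c)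
noncomputable def nodeTab_s_9_19 (c : Nat) : Nat := @Bool.rec (fun _ => Nat) (nodeTab_s_9_14 c) (nodeTab_s_14_19 c) (Nat.ble 14 c)
noncomputable def nodeTab_s_0_19 (c : Nat) : Nat := @Bool.rec (fun _ => Nat) (nodeTab_s_0_9 c) (nodeTab_s_9_19 c) (Nat.ble 9 c)
noncomputable def nodeTab (i : Nat) : Nat := rdw 40 1099511627775 (nodeTab_s_0_19 (Nat.shiftRight i 11)) (Nat.land i 2047)
noncomputable def offTab (i : Nat) : Nat := rdw 16 65535 offTab_0 i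
noncomputable def nTab (i : Nat) : Nat := rdw 16 65535 nTab_0 i
noncomputable def rootTab (i : Nat) : Nat := rdw 16 65535 rootTab_0 i
noncomputable def tabF (i p : Nat) : Nat := @Bool.rec (fun _ => Nat) (@Bool.rec (fun _ => Nat) (@Bool.rec (fun _ => Nat) (col1 p) (col0 p) (Nat.ble 1 i)) (@Bool.rec (fun _ => Nat) (col3 p) (@Bool.rec (fun _ => Nat) (col2 p) (col5 p) (Nat.ble 4 i)) (Nat.ble 3 i)) (Nat.ble 2 i)) (@Bool.rec (fun _ => Nat) (@Bool.rec (fun _ => Nat) (col4 p) (@Bool.rec (fun _ => Nat) (st6 p) (st7 p) (Nat.ble 7 i)) (Nat.ble 6 i)) (@Bool.rec (fun _ => Nat) (st8 p) (@Bool.rec (fun _ => Nat) (st9 p) (st10 p) (Nat.ble 10 i)) (Nat.ble 9 i)) (Nat.ble 8 i)) (Nat.ble 5 i)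
def wAF : Nat → List Nat
  | 6 => [2, 5, 5, 2, 5, 5, 2, 4, 2, 4]
  | 7 => [6]
  | 8 => [0, 2, 5, 6, 4, 6, 4, 2, 0, 0, 7]
  | 9 => [8]
  | 10 => [4, 6, 4, 8, 7, 4, 0]
  | _ => []
def wBF : Nat → List Nat
  | 6 => [0, 0, 2, 4, 4, 2, 1, 5, 2, 4]
  | 7 => []
  | 8 => [7, 4, 7, 5, 7, 4, 2, 4]
  | 9 => []
  | 10 => [5, 2, 6, 2, 5, 7, 4]
  | _ => []
noncomputable def ptF (j idx : Nat) : Nat := Nat.land (nodeTab (Nat.add (offTab j) idx)) 65535
noncomputable def parF (j idx : Nat) : Nat := Nat.land (Nat.shiftRight (nodeTab (Nat.add (offTab j) idx)) 16) 65535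
noncomputable def giF (j idx : Nat) : Nat := Nat.land (Nat.shiftRight (nodeTab (Nat.add (offTab j) idx)) 32) 15
noncomputable def depF (j idx : Nat) : Nat := Nat.shiftRight (nodeTab (Nat.add (offTab j) idx)) 36

noncomputable def S : Sgs :=
  { N := 36936, k := 6, m := 11, tab := tabF, wA := wAF, wB := wBF, lev := levTab, r := 4, beta := betaTab,
    n := nTab, root := rootTab, pt := ptF, par := parF, gi := giF, dep := depF }

noncomputable def chk6 (p : Nat) : Bool := band (Nat.ble (Nat.succ (st6 p)) 36936) (Nat.beq (col3 (col4 (col4 (col3 (col4 (col4 (col3 (col5 (col3 (col5 (st6 p))))))))))) (col1 (col1 (col3 (col5 (col5 (col3 (col0 (col4 (col3 (col5 p)))))))))))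
theorem chk6_eq (p : Nat) : chk6 p = Sgs.permOK S 6 p := rfl
noncomputable def chk7 (p : Nat) : Bool := band (Nat.ble (Nat.succ (st7 p)) 36936) (Nat.beq (st6 (st7 p)) p)
theorem chk7_eq (p : Nat) : chk7 p = Sgs.permOK S 7 p := rfl
noncomputable def chk8 (p : Nat) : Bool := band (Nat.ble (Nat.succ (st8 p)) 36936) (Nat.beq (col1 (col3 (col4 (st6 (col5 (st6 (col5 (col3 (col1 (col1 (st7 (st8 p)))))))))))) (st7 (col5 (st7 (col4 (st7 (col5 (col3 (col5 p)))))))))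
theorem chk8_eq (p : Nat) : chk8 p = Sgs.permOK S 8 p := rfl
noncomputable def chk9 (p : Nat) : Bool := band (Nat.ble (Nat.succ (st9 p)) 36936) (Nat.beq (st8 (st9 p)) p)
theorem chk9_eq (p : Nat) : chk9 p = Sgs.permOK S 9 p := rfl
noncomputable def chk10 (p : Nat) : Bool := band (Nat.ble (Nat.succ (st10 p)) 36936) (Nat.beq (col5 (st6 (col5 (st8 (st7 (col5 (col1 (st10 p)))))))) (col4 (col3 (st6 (col3 (col4 (st7 (col5 p))))))))
theorem chk10_eq (p : Nat) : chk10 p = Sgs.permOK S 10 p := rfl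

end Cfsg.Agent.Lib.Helper4.TCD.C3J3L
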