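import Cfsg.Agent.Lib.Helper4.TCD_C3J3L_Acc

namespace Cfsg.Agent.Lib.Helper4.TCD.C3J3L

open Cfsg.Agent.Lib.Helper4.TC Cfsg.Agent.Lib.Helper4.TCD.C3J3A

set_option maxRecDepth 100000
set_option Elab.async false

theorem c_words : allRange S.wordsOK 6 5 = true := by decide +kernel
theorem c_fix : allGrid S.fixOK 0 11 4 = true := by decide +kernel
theorem c_root : allBelow (fun j => Nat.ble (Nat.succ (S.root j)) (S.n j)) 4 = true := by decide +kernel
theorem c_n0 : S.n 0 = 36936 := by decide +kernel
theorem c_n1 : S.n 1 = 120 := by decide +kernel
theorem c_n2 : S.n 2 = 17 := by decide +kernel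
theorem c_n3 : S.n 3 = 2 := by decide +kernel
theorem c_p6_0 : allRange chk6 0 2608 = true := by decide +kernel
theorem c_p6_1 : allRange chk6 2608 2608 = true := by decide +kernel
theorem c_p6_2 : allRange chk6 5216 2608 = true := by decide +kernel
theorem c_p6_3 : allRange chk6 7824 2608 = true := by decide +kernel
theorem c_p6_4 : allRange chk6 10432 2608 = true := by decide +kernel
theorem c_p6_5 : allRange chk6 13040 2608 = true := by decide +kernel
theorem c_p6_6 : allRange chk6 15648 2608 = true := by decide +kernel
theorem c_p6_7 : allRange chk6 18256 2608 = true := by decide +kernel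
theorem c_p6_8 : allRange chk6 20864 2608 = true := by decide +kernel
theorem c_p6_9 : allRange chk6 23472 2608 = true := by decide +kernel
theorem c_p6_10 : allRange chk6 26080 2608 = true := by decide +kernel
theorem c_p6_11 : allRange chk6 28688 2608 = true := by decide +kernel
theorem c_p6_12 : allRange chk6 31296 2608 = true := by decide +kernel
theorem c_p6_13 : allRange chk6 33904 2608 = true := by decide +kernel
theorem c_p6_14 : allRange chk6 36512 424 = true := by decide +kernel
theorem c_p7_0 : allRange chk7 0 15000 = true := by decide +kernel
theorem c_p7_1 : allRange chk7 15000 15000 = true := by decide +kernel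
theorem c_p7_2 : allRange chk7 30000 6936 = true := by decide +kernel
theorem c_p8_0 : allRange chk8 0 2727 = true := by decide +kernel
theorem c_p8_1 : allRange chk8 2727 2727 = true := by decide +kernel
theorem c_p8_2 : allRange chk8 5454 2727 = true := by decide +kernel
theorem c_p8_3 : allRange chk8 8181 2727 = true := by decide +kernel
theorem c_p8_4 : allRange chk8 10908 2727 = true := by decide +kernel
theorem c_p8_5 : allRange chk8 13635 2727 = true := by decide +kernel
theorem c_p8_6 : allRange chk8 16362 2727 = true := by decide +kernel
theorem c_p8_7 : allRange chk8 19089 2727 = true := by decide +kernel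
theorem c_p8_8 : allRange chk8 21816 2727 = true := by decide +kernel
theorem c_p8_9 : allRange chk8 24543 2727 = true := by decide +kernel
theorem c_p8_10 : allRange chk8 27270 2727 = true := by decide +kernel
theorem c_p8_11 : allRange chk8 29997 2727 = true := by decide +kernel
theorem c_p8_12 : allRange chk8 32724 2727 = true := by decide +kernel
theorem c_p8_13 : allRange chk8 35451 1485 = true := by decide +kernel
theorem c_p9_0 : allRange chk9 0 15000 = true := by decide +kernel
theorem c_p9_1 : allRange chk9 15000 15000 = true := by decide +kernel
theorem c_p9_2 : allRange chk9 30000 6936 = true := by decide +kernel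
theorem c_p10_0 : allRange chk10 0 3529 = true := by decide +kernel
theorem c_p10_1 : allRange chk10 3529 3529 = true := by decide +kernel
theorem c_p10_2 : allRange chk10 7058 3529 = true := by decide +kernel
theorem c_p10_3 : allRange chk10 10587 3529 = true := by decide +kernel
theorem c_p10_4 : allRange chk10 14116 3529 = true := by decide +kernel
theorem c_p10_5 : allRange chk10 17645 3529 = true := by decide +kernel
theorem c_p10_6 : allRange chk10 21174 3529 = true := by decide +kernel
theorem c_p10_7 : allRange chk10 24703 3529 = true := by decide +kernel
theorem c_p10_8 : allRange chk10 28232 3529 = true := by decide +kernel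
theorem c_p10_9 : allRange chk10 31761 3529 = true := by decide +kernel
theorem c_p10_10 : allRange chk10 35290 1646 = true := by decide +kernel
theorem c_nd0_0 : allRange (S.nodeOK 0) 0 5000 = true := by decide +kernel
theorem c_nd0_1 : allRange (S.nodeOK 0) 5000 5000 = true := by decide +kernel
theorem c_nd0_2 : allRange (S.nodeOK 0) 10000 5000 = true := by decide +kernel
theorem c_nd0_3 : allRange (S.nodeOK 0) 15000 5000 = true := by decide +kernel
theorem c_nd0_4 : allRange (S.nodeOK 0) 20000 5000 = true := by decide +kernel
theorem c_nd0_5 : allRange (S.nodeOK 0) 25000 5000 = true := by decide +kernel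

end Cfsg.Agent.Lib.Helper4.TCD.C3J3L
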