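import Cfsg.Agent.Lib.Helper4.TC7
import Cfsg.Agent.Lib.Helper4.TCP_C3McL
import Cfsg.Agent.Lib.Helper4.TCD_C3McLB_D0
import Cfsg.Agent.Lib.Helper4.TCD_C3McLB_D1
import Cfsg.Agent.Lib.Helper4.TCD_C3McLB_D2
import Cfsg.Agent.Lib.Helper4.TCD_C3McLB_D3
import Cfsg.Agent.Lib.Helper4.TCD_C3McLB_D4
import Cfsg.Agent.Lib.Helper4.TCD_C3McLB_D5
import Cfsg.Agent.Lib.Helper4.TCD_C3McLB_D6
import Cfsg.Agent.Lib.Helper4.TCD_C3McLB_D7
import Cfsg.Agent.Lib.Helper4.TCD_C3McLB_D8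
import Cfsg.Agent.Lib.Helper4.TCD_C3McLB_D9
import Cfsg.Agent.Lib.Helper4.TCD_C3McLB_D10
import Cfsg.Agent.Lib.Helper4.TCD_C3McLB_D11
import Cfsg.Agent.Lib.Helper4.TCD_C3McLB_D12

namespace Cfsg.Agent.Lib.Helper4.TCD.C3McLB

open Cfsg.Agent.Lib.Helper4.TC

set_option maxRecDepth 100000

noncomputable def Atab_s_0_2 (c : Nat) : Nat := @Bool.rec (fun _ => Nat) (Atab_0) (Atab_1) (Nat.ble 1 c)
noncomputable def Atab_s_2_4 (c : Nat) : Nat := @Bool.rec (fun _ => Nat) (Atab_2) (Atab_3) (Nat.ble 3 c)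
noncomputable def Atab_s_0_4 (c : Nat) : Nat := @Bool.rec (fun _ => Nat) (Atab_s_0_2 c) (Atab_s_2_4 c) (Nat.ble 2 c)
noncomputable def Atab_s_4_6 (c : Nat) : Nat := @Bool.rec (fun _ => Nat) (Atab_4) (Atab_5) (Nat.ble 5 c)
noncomputable def Atab_s_6_8 (c : Nat) : Nat := @Bool.rec (fun _ => Nat) (Atab_6) (Atab_7) (Nat.ble 7 c)
noncomputable def Atab_s_4_8 (c : Nat) : Nat := @Bool.rec (fun _ => Nat) (Atab_s_4_6 c) (Atab_s_6_8 c) (Nat.ble 6 c)
noncomputable def Atab_s_0_8 (c : Nat) : Nat := @Bool.rec (fun _ => Nat) (Atab_s_0_4 c) (Atab_s_4_8 c) (Nat.ble 4 c)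
noncomputable def Atab_s_8_10 (c : Nat) : Nat := @Bool.rec (fun _ => Nat) (Atab_8) (Atab_9) (Nat.ble 9 c)
noncomputable def Atab_s_10_12 (c : Nat) : Nat := @Bool.rec (fun _ => Nat) (Atab_10) (Atab_11) (Nat.ble 11 c)
noncomputable def Atab_s_8_12 (c : Nat) : Nat := @Bool.rec (fun _ => Nat) (Atab_s_8_10 c) (Atab_s_10_12 c) (Nat.ble 10 c)
noncomputable def Atab_s_12_14 (c : Nat) : Nat := @Bool.rec (fun _ => Nat) (Atab_12) (Atab_13) (Nat.ble 13 c)
noncomputable def Atab_s_15_17 (c : Nat) : Nat := @Bool.rec (fun _ => Nat) (Atab_15) (Atab_16) (Nat.ble 16 c)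
noncomputable def Atab_s_14_17 (c : Nat) : Nat := @Bool.rec (fun _ => Nat) (Atab_14) (Atab_s_15_17 c) (Nat.ble 15 c)
noncomputable def Atab_s_12_17 (c : Nat) : Nat := @Bool.rec (fun _ => Nat) (Atab_s_12_14 c) (Atab_s_14_17 c) (Nat.ble 14 c)
noncomputable def Atab_s_8_17 (c : Nat) : Nat := @Bool.rec (fun _ => Nat) (Atab_s_8_12 c) (Atab_s_12_17 c) (Nat.ble 12 c)
noncomputable def Atab_s_0_17 (c : Nat) : Nat := @Bool.rec (fun _ => Nat) (Atab_s_0_8 c) (Atab_s_8_17 c) (Nat.ble 8 c)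
noncomputable def Atab_s_17_19 (c : Nat) : Nat := @Bool.rec (fun _ => Nat) (Atab_17) (Atab_18) (Nat.ble 18 c)
noncomputable def Atab_s_19_21 (c : Nat) : Nat := @Bool.rec (fun _ => Nat) (Atab_19) (Atab_20) (Nat.ble 20 c)
noncomputable def Atab_s_17_21 (c : Nat) : Nat := @Bool.rec (fun _ => Nat) (Atab_s_17_19 c) (Atab_s_19_21 c) (Nat.ble 19 c)
noncomputable def Atab_s_21_23 (c : Nat) : Nat := @Bool.rec (fun _ => Nat) (Atab_21) (Atab_22) (Nat.ble 22 c)
noncomputable def Atab_s_23_25 (c : Nat) : Nat := @Bool.rec (fun _ => Nat) (Atab_23) (Atab_24) (Nat.ble 24 c)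
noncomputable def Atab_s_21_25 (c : Nat) : Nat := @Bool.rec (fun _ => Nat) (Atab_s_21_23 c) (Atab_s_23_25 c) (Nat.ble 23 c)
noncomputable def Atab_s_17_25 (c : Nat) : Nat := @Bool.rec (fun _ => Nat) (Atab_s_17_21 c) (Atab_s_21_25 c) (Nat.ble 21 c)
noncomputable def Atab_s_25_27 (c : Nat) : Nat := @Bool.rec (fun _ => Nat) (Atab_25) (Atab_26) (Nat.ble 26 c)
noncomputable def Atab_s_27_29 (c : Nat) : Nat := @Bool.rec (fun _ => Nat) (Atab_27) (Atab_28) (Nat.ble 28 c)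
noncomputable def Atab_s_25_29 (c : Nat) : Nat := @Bool.rec (fun _ => Nat) (Atab_s_25_27 c) (Atab_s_27_29 c) (Nat.ble 27 c)
noncomputable def Atab_s_29_31 (c : Nat) : Nat := @Bool.rec (fun _ => Nat) (Atab_29) (Atab_30) (Nat.ble 30 c)
noncomputable def Atab_s_32_34 (c : Nat) : Nat := @Bool.rec (fun _ => Nat) (Atab_32) (Atab_33) (Nat.ble 33 c)
noncomputable def Atab_s_31_34 (c : Nat) : Nat := @Bool.rec (fun _ => Nat) (Atab_31) (Atab_s_32_34 c) (Nat.ble 32 c)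
noncomputable def Atab_s_29_34 (c : Nat) : Nat := @Bool.rec (fun _ => Nat) (Atab_s_29_31 c) (Atab_s_31_34 c) (Nat.ble 31 c)
noncomputable def Atab_s_25_34 (c : Nat) : Nat := @Bool.rec (fun _ => Nat) (Atab_s_25_29 c) (Atab_s_29_34 c) (Nat.ble 29 c)
noncomputable def Atab_s_17_34 (c : Nat) : Nat := @Bool.rec (fun _ => Nat) (Atab_s_17_25 c) (Atab_s_25_34 c) (Nat.ble 25 c)
noncomputable def Atab_s_0_34 (c : Nat) : Nat := @Bool.rec (fun _ => Nat) (Atab_s_0_17 c) (Atab_s_17_34 c) (Nat.ble 17 c)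
noncomputable def Atab_s_34_36 (c : Nat) : Nat := @Bool.rec (fun _ => Nat) (Atab_34) (Atab_35) (Nat.ble 35 c)
noncomputable def Atab_s_36_38 (c : Nat) : Nat := @Bool.rec (fun _ => Nat) (Atab_36) (Atab_37) (Nat.ble 37 c)
noncomputable def Atab_s_34_38 (c : Nat) : Nat := @Bool.rec (fun _ => Nat) (Atab_s_34_36 c) (Atab_s_36_38 c) (Nat.ble 36 c)
noncomputable def Atab_s_38_40 (c : Nat) : Nat := @Bool.rec (fun _ => Nat) (Atab_38) (Atab_39) (Nat.ble 39 c)
noncomputable def Atab_s_40_42 (c : Nat) : Nat := @Bool.rec (fun _ => Nat) (Atab_40) (Atab_41) (Nat.ble 41 c)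
noncomputable def Atab_s_38_42 (c : Nat) : Nat := @Bool.rec (fun _ => Nat) (Atab_s_38_40 c) (Atab_s_40_42 c) (Nat.ble 40 c)
noncomputable def Atab_s_34_42 (c : Nat) : Nat := @Bool.rec (fun _ => Nat) (Atab_s_34_38 c) (Atab_s_38_42 c) (Nat.ble 38 c)
noncomputable def Atab_s_42_44 (c : Nat) : Nat := @Bool.rec (fun _ => Nat) (Atab_42) (Atab_43) (Nat.ble 43 c)
noncomputable def Atab_s_44_46 (c : Nat) : Nat := @Bool.rec (fun _ => Nat) (Atab_44) (Atab_45) (Nat.ble 45 c)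
noncomputable def Atab_s_42_46 (c : Nat) : Nat := @Bool.rec (fun _ => Nat) (Atab_s_42_44 c) (Atab_s_44_46 c) (Nat.ble 44 c)
noncomputable def Atab_s_46_48 (c : Nat) : Nat := @Bool.rec (fun _ => Nat) (Atab_46) (Atab_47) (Nat.ble 47 c)
noncomputable def Atab_s_49_51 (c : Nat) : Nat := @Bool.rec (fun _ => Nat) (Atab_49) (Atab_50) (Nat.ble 50 c)
noncomputable def Atab_s_48_51 (c : Nat) : Nat := @Bool.rec (fun _ => Nat) (Atab_48) (Atab_s_49_51 c) (Nat.ble 49 c)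
noncomputable def Atab_s_46_51 (c : Nat) : Nat := @Bool.rec (fun _ => Nat) (Atab_s_46_48 c) (Atab_s_48_51 c) (Nat.ble 48 c)
noncomputable def Atab_s_42_51 (c : Nat) : Nat := @Bool.rec (fun _ => Nat) (Atab_s_42_46 c) (Atab_s_46_51 c) (Nat.ble 46 c)
noncomputable def Atab_s_34_51 (c : Nat) : Nat := @Bool.rec (fun _ => Nat) (Atab_s_34_42 c) (Atab_s_42_51 c) (Nat.ble 42 c)
noncomputable def Atab_s_51_53 (c : Nat) : Nat := @Bool.rec (fun _ => Nat) (Atab_51) (Atab_52) (Nat.ble 52 c)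
noncomputable def Atab_s_53_55 (c : Nat) : Nat := @Bool.rec (fun _ => Nat) (Atab_53) (Atab_54) (Nat.ble 54 c)
noncomputable def Atab_s_51_55 (c : Nat) : Nat := @Bool.rec (fun _ => Nat) (Atab_s_51_53 c) (Atab_s_53_55 c) (Nat.ble 53 c)
noncomputable def Atab_s_55_57 (c : Nat) : Nat := @Bool.rec (fun _ => Nat) (Atab_55) (Atab_56) (Nat.ble 56 c)
noncomputable def Atab_s_57_59 (c : Nat) : Nat := @Bool.rec (fun _ => Nat) (Atab_57) (Atab_58) (Nat.ble 58 c)
noncomputable def Atab_s_55_59 (c : Nat) : Nat := @Bool.rec (fun _ => Nat) (Atab_s_55_57 c) (Atab_s_57_59 c) (Nat.ble 57 c)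
noncomputable def Atab_s_51_59 (c : Nat) : Nat := @Bool.rec (fun _ => Nat) (Atab_s_51_55 c) (Atab_s_55_59 c) (Nat.ble 55 c)
noncomputable def Atab_s_59_61 (c : Nat) : Nat := @Bool.rec (fun _ => Nat) (Atab_59) (Atab_60) (Nat.ble 60 c)
noncomputable def Atab_s_61_63 (c : Nat) : Nat := @Bool.rec (fun _ => Nat) (Atab_61) (Atab_62) (Nat.ble 62 c)
noncomputable def Atab_s_59_63 (c : Nat) : Nat := @Bool.rec (fun _ => Nat) (Atab_s_59_61 c) (Atab_s_61_63 c) (Nat.ble 61 c)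
noncomputable def Atab_s_63_65 (c : Nat) : Nat := @Bool.rec (fun _ => Nat) (Atab_63) (Atab_64) (Nat.ble 64 c)
noncomputable def Atab_s_66_68 (c : Nat) : Nat := @Bool.rec (fun _ => Nat) (Atab_66) (Atab_67) (Nat.ble 67 c)
noncomputable def Atab_s_65_68 (c : Nat) : Nat := @Bool.rec (fun _ => Nat) (Atab_65) (Atab_s_66_68 c) (Nat.ble 66 c)
noncomputable def Atab_s_63_68 (c : Nat) : Nat := @Bool.rec (fun _ => Nat) (Atab_s_63_65 c) (Atab_s_65_68 c) (Nat.ble 65 c)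
noncomputable def Atab_s_59_68 (c : Nat) : Nat := @Bool.rec (fun _ => Nat) (Atab_s_59_63 c) (Atab_s_63_68 c) (Nat.ble 63 c)
noncomputable def Atab_s_51_68 (c : Nat) : Nat := @Bool.rec (fun _ => Nat) (Atab_s_51_59 c) (Atab_s_59_68 c) (Nat.ble 59 c)
noncomputable def Atab_s_34_68 (c : Nat) : Nat := @Bool.rec (fun _ => Nat) (Atab_s_34_51 c) (Atab_s_51_68 c) (Nat.ble 51 c)
noncomputable def Atab_s_0_68 (c : Nat) : Nat := @Bool.rec (fun _ => Nat) (Atab_s_0_34 c) (Atab_s_34_68 c) (Nat.ble 34 c)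
noncomputable def Atab_s_68_70 (c : Nat) : Nat := @Bool.rec (fun _ => Nat) (Atab_68) (Atab_69) (Nat.ble 69 c)
noncomputable def Atab_s_70_72 (c : Nat) : Nat := @Bool.rec (fun _ => Nat) (Atab_70) (Atab_71) (Nat.ble 71 c)
noncomputable def Atab_s_68_72 (c : Nat) : Nat := @Bool.rec (fun _ => Nat) (Atab_s_68_70 c) (Atab_s_70_72 c) (Nat.ble 70 c)
noncomputable def Atab_s_72_74 (c : Nat) : Nat := @Bool.rec (fun _ => Nat) (Atab_72) (Atab_73) (Nat.ble 73 c)
noncomputable def Atab_s_74_76 (c : Nat) : Nat := @Bool.rec (fun _ => Nat) (Atab_74) (Atab_75) (Nat.ble 75 c)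
noncomputable def Atab_s_72_76 (c : Nat) : Nat := @Bool.rec (fun _ => Nat) (Atab_s_72_74 c) (Atab_s_74_76 c) (Nat.ble 74 c)
noncomputable def Atab_s_68_76 (c : Nat) : Nat := @Bool.rec (fun _ => Nat) (Atab_s_68_72 c) (Atab_s_72_76 c) (Nat.ble 72 c)
noncomputable def Atab_s_76_78 (c : Nat) : Nat := @Bool.rec (fun _ => Nat) (Atab_76) (Atab_77) (Nat.ble 77 c)
noncomputable def Atab_s_78_80 (c : Nat) : Nat := @Bool.rec (fun _ => Nat) (Atab_78) (Atab_79) (Nat.ble 79 c)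
noncomputable def Atab_s_76_80 (c : Nat) : Nat := @Bool.rec (fun _ => Nat) (Atab_s_76_78 c) (Atab_s_78_80 c) (Nat.ble 78 c)
noncomputable def Atab_s_80_82 (c : Nat) : Nat := @Bool.rec (fun _ => Nat) (Atab_80) (Atab_81) (Nat.ble 81 c)
noncomputable def Atab_s_83_85 (c : Nat) : Nat := @Bool.rec (fun _ => Nat) (Atab_83) (Atab_84) (Nat.ble 84 c)
noncomputable def Atab_s_82_85 (c : Nat) : Nat := @Bool.rec (fun _ => Nat) (Atab_82) (Atab_s_83_85 c) (Nat.ble 83 c)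
noncomputable def Atab_s_80_85 (c : Nat) : Nat := @Bool.rec (fun _ => Nat) (Atab_s_80_82 c) (Atab_s_82_85 c) (Nat.ble 82 c)
noncomputable def Atab_s_76_85 (c : Nat) : Nat := @Bool.rec (fun _ => Nat) (Atab_s_76_80 c) (Atab_s_80_85 c) (Nat.ble 80 c)
noncomputable def Atab_s_68_85 (c : Nat) : Nat := @Bool.rec (fun _ => Nat) (Atab_s_68_76 c) (Atab_s_76_85 c) (Nat.ble 76 c)
noncomputable def Atab_s_85_87 (c : Nat) : Nat := @Bool.rec (fun _ => Nat) (Atab_85) (Atab_86) (Nat.ble 86 c)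
noncomputable def Atab_s_87_89 (c : Nat) : Nat := @Bool.rec (fun _ => Nat) (Atab_87) (Atab_88) (Nat.ble 88 c)
noncomputable def Atab_s_85_89 (c : Nat) : Nat := @Bool.rec (fun _ => Nat) (Atab_s_85_87 c) (Atab_s_87_89 c) (Nat.ble 87 c)
noncomputable def Atab_s_89_91 (c : Nat) : Nat := @Bool.rec (fun _ => Nat) (Atab_89) (Atab_90) (Nat.ble 90 c)
noncomputable def Atab_s_91_93 (c : Nat) : Nat := @Bool.rec (fun _ => Nat) (Atab_91) (Atab_92) (Nat.ble 92 c)
noncomputable def Atab_s_89_93 (c : Nat) : Nat := @Bool.rec (fun _ => Nat) (Atab_s_89_91 c) (Atab_s_91_93 c) (Nat.ble 91 c)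
noncomputable def Atab_s_85_93 (c : Nat) : Nat := @Bool.rec (fun _ => Nat) (Atab_s_85_89 c) (Atab_s_89_93 c) (Nat.ble 89 c)
noncomputable def Atab_s_93_95 (c : Nat) : Nat := @Bool.rec (fun _ => Nat) (Atab_93) (Atab_94) (Nat.ble 94 c)
noncomputable def Atab_s_95_97 (c : Nat) : Nat := @Bool.rec (fun _ => Nat) (Atab_95) (Atab_96) (Nat.ble 96 c)
noncomputable def Atab_s_93_97 (c : Nat) : Nat := @Bool.rec (fun _ => Nat) (Atab_s_93_95 c) (Atab_s_95_97 c) (Nat.ble 95 c)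
noncomputable def Atab_s_97_99 (c : Nat) : Nat := @Bool.rec (fun _ => Nat) (Atab_97) (Atab_98) (Nat.ble 98 c)
noncomputable def Atab_s_100_102 (c : Nat) : Nat := @Bool.rec (fun _ => Nat) (Atab_100) (Atab_101) (Nat.ble 101 c)
noncomputable def Atab_s_99_102 (c : Nat) : Nat := @Bool.rec (fun _ => Nat) (Atab_99) (Atab_s_100_102 c) (Nat.ble 100 c)
noncomputable def Atab_s_97_102 (c : Nat) : Nat := @Bool.rec (fun _ => Nat) (Atab_s_97_99 c) (Atab_s_99_102 c) (Nat.ble 99 c)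
noncomputable def Atab_s_93_102 (c : Nat) : Nat := @Bool.rec (fun _ => Nat) (Atab_s_93_97 c) (Atab_s_97_102 c) (Nat.ble 97 c)
noncomputable def Atab_s_85_102 (c : Nat) : Nat := @Bool.rec (fun _ => Nat) (Atab_s_85_93 c) (Atab_s_93_102 c) (Nat.ble 93 c)
noncomputable def Atab_s_68_102 (c : Nat) : Nat := @Bool.rec (fun _ => Nat) (Atab_s_68_85 c) (Atab_s_85_102 c) (Nat.ble 85 c)
noncomputable def Atab_s_102_104 (c : Nat) : Nat := @Bool.rec (fun _ => Nat) (Atab_102) (Atab_103) (Nat.ble 103 c)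
noncomputable def Atab_s_104_106 (c : Nat) : Nat := @Bool.rec (fun _ => Nat) (Atab_104) (Atab_105) (Nat.ble 105 c)
noncomputable def Atab_s_102_106 (c : Nat) : Nat := @Bool.rec (fun _ => Nat) (Atab_s_102_104 c) (Atab_s_104_106 c) (Nat.ble 104 c)
noncomputable def Atab_s_106_108 (c : Nat) : Nat := @Bool.rec (fun _ => Nat) (Atab_106) (Atab_107) (Nat.ble 107 c)
noncomputable def Atab_s_108_110 (c : Nat) : Nat := @Bool.rec (fun _ => Nat) (Atab_108) (Atab_109) (Nat.ble 109 c)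
noncomputable def Atab_s_106_110 (c : Nat) : Nat := @Bool.rec (fun _ => Nat) (Atab_s_106_108 c) (Atab_s_108_110 c) (Nat.ble 108 c)
noncomputable def Atab_s_102_110 (c : Nat) : Nat := @Bool.rec (fun _ => Nat) (Atab_s_102_106 c) (Atab_s_106_110 c) (Nat.ble 106 c)
noncomputable def Atab_s_110_112 (c : Nat) : Nat := @Bool.rec (fun _ => Nat) (Atab_110) (Atab_111) (Nat.ble 111 c)
noncomputable def Atab_s_112_114 (c : Nat) : Nat := @Bool.rec (fun _ => Nat) (Atab_112) (Atab_113) (Nat.ble 113 c)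
noncomputable def Atab_s_110_114 (c : Nat) : Nat := @Bool.rec (fun _ => Nat) (Atab_s_110_112 c) (Atab_s_112_114 c) (Nat.ble 112 c)
noncomputable def Atab_s_114_116 (c : Nat) : Nat := @Bool.rec (fun _ => Nat) (Atab_114) (Atab_115) (Nat.ble 115 c)
noncomputable def Atab_s_117_119 (c : Nat) : Nat := @Bool.rec (fun _ => Nat) (Atab_117) (Atab_118) (Nat.ble 118 c)
noncomputable def Atab_s_116_119 (c : Nat) : Nat := @Bool.rec (fun _ => Nat) (Atab_116) (Atab_s_117_119 c) (Nat.ble 117 c)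
noncomputable def Atab_s_114_119 (c : Nat) : Nat := @Bool.rec (fun _ => Nat) (Atab_s_114_116 c) (Atab_s_116_119 c) (Nat.ble 116 c)
noncomputable def Atab_s_110_119 (c : Nat) : Nat := @Bool.rec (fun _ => Nat) (Atab_s_110_114 c) (Atab_s_114_119 c) (Nat.ble 114 c)
noncomputable def Atab_s_102_119 (c : Nat) : Nat := @Bool.rec (fun _ => Nat) (Atab_s_102_110 c) (Atab_s_110_119 c) (Nat.ble 110 c)
noncomputable def Atab_s_119_121 (c : Nat) : Nat := @Bool.rec (fun _ => Nat) (Atab_119) (Atab_120) (Nat.ble 120 c)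
noncomputable def Atab_s_121_123 (c : Nat) : Nat := @Bool.rec (fun _ => Nat) (Atab_121) (Atab_122) (Nat.ble 122 c)
noncomputable def Atab_s_119_123 (c : Nat) : Nat := @Bool.rec (fun _ => Nat) (Atab_s_119_121 c) (Atab_s_121_123 c) (Nat.ble 121 c)
noncomputable def Atab_s_123_125 (c : Nat) : Nat := @Bool.rec (fun _ => Nat) (Atab_123) (Atab_124) (Nat.ble 124 c)
noncomputable def Atab_s_126_128 (c : Nat) : Nat := @Bool.rec (fun _ => Nat) (Atab_126) (Atab_127) (Nat.ble 127 c)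
noncomputable def Atab_s_125_128 (c : Nat) : Nat := @Bool.rec (fun _ => Nat) (Atab_125) (Atab_s_126_128 c) (Nat.ble 126 c)
noncomputable def Atab_s_123_128 (c : Nat) : Nat := @Bool.rec (fun _ => Nat) (Atab_s_123_125 c) (Atab_s_125_128 c) (Nat.ble 125 c)
noncomputable def Atab_s_119_128 (c : Nat) : Nat := @Bool.rec (fun _ => Nat) (Atab_s_119_123 c) (Atab_s_123_128 c) (Nat.ble 123 c)
noncomputable def Atab_s_128_130 (c : Nat) : Nat := @Bool.rec (fun _ => Nat) (Atab_128) (Atab_129) (Nat.ble 129 c)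
noncomputable def Atab_s_130_132 (c : Nat) : Nat := @Bool.rec (fun _ => Nat) (Atab_130) (Atab_131) (Nat.ble 131 c)
noncomputable def Atab_s_128_132 (c : Nat) : Nat := @Bool.rec (fun _ => Nat) (Atab_s_128_130 c) (Atab_s_130_132 c) (Nat.ble 130 c)
noncomputable def Atab_s_132_134 (c : Nat) : Nat := @Bool.rec (fun _ => Nat) (Atab_132) (Atab_133) (Nat.ble 133 c)
noncomputable def Atab_s_135_137 (c : Nat) : Nat := @Bool.rec (fun _ => Nat) (Atab_135) (Atab_136) (Nat.ble 136 c)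
noncomputable def Atab_s_134_137 (c : Nat) : Nat := @Bool.rec (fun _ => Nat) (Atab_134) (Atab_s_135_137 c) (Nat.ble 135 c)
noncomputable def Atab_s_132_137 (c : Nat) : Nat := @Bool.rec (fun _ => Nat) (Atab_s_132_134 c) (Atab_s_134_137 c) (Nat.ble 134 c)
noncomputable def Atab_s_128_137 (c : Nat) : Nat := @Bool.rec (fun _ => Nat) (Atab_s_128_132 c) (Atab_s_132_137 c) (Nat.ble 132 c)
noncomputable def Atab_s_119_137 (c : Nat) : Nat := @Bool.rec (fun _ => Nat) (Atab_s_119_128 c) (Atab_s_128_137 c) (Nat.ble 128 c)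
noncomputable def Atab_s_102_137 (c : Nat) : Nat := @Bool.rec (fun _ => Nat) (Atab_s_102_119 c) (Atab_s_119_137 c) (Nat.ble 119 c)
noncomputable def Atab_s_68_137 (c : Nat) : Nat := @Bool.rec (fun _ => Nat) (Atab_s_68_102 c) (Atab_s_102_137 c) (Nat.ble 102 c)
noncomputable def Atab_s_0_137 (c : Nat) : Nat := @Bool.rec (fun _ => Nat) (Atab_s_0_68 c) (Atab_s_68_137 c) (Nat.ble 68 c)
noncomputable def Atab (i : Nat) : Nat := rdw 38 274877906943 (Atab_s_0_137 (Nat.shiftRight i 11)) (Nat.land i 2047)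
noncomputable def Btab_s_1_3 (c : Nat) : Nat := @Bool.rec (fun _ => Nat) (Btab_1) (Btab_2) (Nat.ble 2 c)
noncomputable def Btab_s_0_3 (c : Nat) : Nat := @Bool.rec (fun _ => Nat) (Btab_0) (Btab_s_1_3 c) (Nat.ble 1 c)
noncomputable def Btab_s_4_6 (c : Nat) : Nat := @Bool.rec (fun _ => Nat) (Btab_4) (Btab_5) (Nat.ble 5 c)
noncomputable def Btab_s_3_6 (c : Nat) : Nat := @Bool.rec (fun _ => Nat) (Btab_3) (Btab_s_4_6 c) (Nat.ble 4 c)
noncomputable def Btab_s_0_6 (c : Nat) : Nat := @Bool.rec (fun _ => Nat) (Btab_s_0_3 c) (Btab_s_3_6 c) (Nat.ble 3 c)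
noncomputable def Btab_s_7_9 (c : Nat) : Nat := @Bool.rec (fun _ => Nat) (Btab_7) (Btab_8) (Nat.ble 8 c)
noncomputable def Btab_s_6_9 (c : Nat) : Nat := @Bool.rec (fun _ => Nat) (Btab_6) (Btab_s_7_9 c) (Nat.ble 7 c)
noncomputable def Btab_s_10_12 (c : Nat) : Nat := @Bool.rec (fun _ => Nat) (Btab_10) (Btab_11) (Nat.ble 11 c)
noncomputable def Btab_s_9_12 (c : Nat) : Nat := @Bool.rec (fun _ => Nat) (Btab_9) (Btab_s_10_12 c) (Nat.ble 10 c)
noncomputable def Btab_s_6_12 (c : Nat) : Nat := @Bool.rec (fun _ => Nat) (Btab_s_6_9 c) (Btab_s_9_12 c) (Nat.ble 9 c)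
noncomputable def Btab_s_0_12 (c : Nat) : Nat := @Bool.rec (fun _ => Nat) (Btab_s_0_6 c) (Btab_s_6_12 c) (Nat.ble 6 c)
noncomputable def Btab_s_13_15 (c : Nat) : Nat := @Bool.rec (fun _ => Nat) (Btab_13) (Btab_14) (Nat.ble 14 c)
noncomputable def Btab_s_12_15 (c : Nat) : Nat := @Bool.rec (fun _ => Nat) (Btab_12) (Btab_s_13_15 c) (Nat.ble 13 c)
noncomputable def Btab_s_16_18 (c : Nat) : Nat := @Bool.rec (fun _ => Nat) (Btab_16) (Btab_17) (Nat.ble 17 c)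
noncomputable def Btab_s_15_18 (c : Nat) : Nat := @Bool.rec (fun _ => Nat) (Btab_15) (Btab_s_16_18 c) (Nat.ble 16 c)
noncomputable def Btab_s_12_18 (c : Nat) : Nat := @Bool.rec (fun _ => Nat) (Btab_s_12_15 c) (Btab_s_15_18 c) (Nat.ble 15 c)
noncomputable def Btab_s_19_21 (c : Nat) : Nat := @Bool.rec (fun _ => Nat) (Btab_19) (Btab_20) (Nat.ble 20 c)
noncomputable def Btab_s_18_21 (c : Nat) : Nat := @Bool.rec (fun _ => Nat) (Btab_18) (Btab_s_19_21 c) (Nat.ble 19 c)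
noncomputable def Btab_s_21_23 (c : Nat) : Nat := @Bool.rec (fun _ => Nat) (Btab_21) (Btab_22) (Nat.ble 22 c)
noncomputable def Btab_s_23_25 (c : Nat) : Nat := @Bool.rec (fun _ => Nat) (Btab_23) (Btab_24) (Nat.ble 24 c)
noncomputable def Btab_s_21_25 (c : Nat) : Nat := @Bool.rec (fun _ => Nat) (Btab_s_21_23 c) (Btab_s_23_25 c) (Nat.ble 23 c)
noncomputable def Btab_s_18_25 (c : Nat) : Nat := @Bool.rec (fun _ => Nat) (Btab_s_18_21 c) (Btab_s_21_25 c) (Nat.ble 21 c)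
noncomputable def Btab_s_12_25 (c : Nat) : Nat := @Bool.rec (fun _ => Nat) (Btab_s_12_18 c) (Btab_s_18_25 c) (Nat.ble 18 c)
noncomputable def Btab_s_0_25 (c : Nat) : Nat := @Bool.rec (fun _ => Nat) (Btab_s_0_12 c) (Btab_s_12_25 c) (Nat.ble 12 c)
noncomputable def Btab_s_26_28 (c : Nat) : Nat := @Bool.rec (fun _ => Nat) (Btab_26) (Btab_27) (Nat.ble 27 c)
noncomputable def Btab_s_25_28 (c : Nat) : Nat := @Bool.rec (fun _ => Nat) (Btab_25) (Btab_s_26_28 c) (Nat.ble 26 c)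
noncomputable def Btab_s_29_31 (c : Nat) : Nat := @Bool.rec (fun _ => Nat) (Btab_29) (Btab_30) (Nat.ble 30 c)
noncomputable def Btab_s_28_31 (c : Nat) : Nat := @Bool.rec (fun _ => Nat) (Btab_28) (Btab_s_29_31 c) (Nat.ble 29 c)
noncomputable def Btab_s_25_31 (c : Nat) : Nat := @Bool.rec (fun _ => Nat) (Btab_s_25_28 c) (Btab_s_28_31 c) (Nat.ble 28 c)
noncomputable def Btab_s_32_34 (c : Nat) : Nat := @Bool.rec (fun _ => Nat) (Btab_32) (Btab_33) (Nat.ble 33 c)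
noncomputable def Btab_s_31_34 (c : Nat) : Nat := @Bool.rec (fun _ => Nat) (Btab_31) (Btab_s_32_34 c) (Nat.ble 32 c)
noncomputable def Btab_s_34_36 (c : Nat) : Nat := @Bool.rec (fun _ => Nat) (Btab_34) (Btab_35) (Nat.ble 35 c)
noncomputable def Btab_s_36_38 (c : Nat) : Nat := @Bool.rec (fun _ => Nat) (Btab_36) (Btab_37) (Nat.ble 37 c)
noncomputable def Btab_s_34_38 (c : Nat) : Nat := @Bool.rec (fun _ => Nat) (Btab_s_34_36 c) (Btab_s_36_38 c) (Nat.ble 36 c)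
noncomputable def Btab_s_31_38 (c : Nat) : Nat := @Bool.rec (fun _ => Nat) (Btab_s_31_34 c) (Btab_s_34_38 c) (Nat.ble 34 c)
noncomputable def Btab_s_25_38 (c : Nat) : Nat := @Bool.rec (fun _ => Nat) (Btab_s_25_31 c) (Btab_s_31_38 c) (Nat.ble 31 c)
noncomputable def Btab_s_39_41 (c : Nat) : Nat := @Bool.rec (fun _ => Nat) (Btab_39) (Btab_40) (Nat.ble 40 c)
noncomputable def Btab_s_38_41 (c : Nat) : Nat := @Bool.rec (fun _ => Nat) (Btab_38) (Btab_s_39_41 c) (Nat.ble 39 c)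
noncomputable def Btab_s_42_44 (c : Nat) : Nat := @Bool.rec (fun _ => Nat) (Btab_42) (Btab_43) (Nat.ble 43 c)
noncomputable def Btab_s_41_44 (c : Nat) : Nat := @Bool.rec (fun _ => Nat) (Btab_41) (Btab_s_42_44 c) (Nat.ble 42 c)
noncomputable def Btab_s_38_44 (c : Nat) : Nat := @Bool.rec (fun _ => Nat) (Btab_s_38_41 c) (Btab_s_41_44 c) (Nat.ble 41 c)
noncomputable def Btab_s_45_47 (c : Nat) : Nat := @Bool.rec (fun _ => Nat) (Btab_45) (Btab_46) (Nat.ble 46 c)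
noncomputable def Btab_s_44_47 (c : Nat) : Nat := @Bool.rec (fun _ => Nat) (Btab_44) (Btab_s_45_47 c) (Nat.ble 45 c)
noncomputable def Btab_s_47_49 (c : Nat) : Nat := @Bool.rec (fun _ => Nat) (Btab_47) (Btab_48) (Nat.ble 48 c)
noncomputable def Btab_s_49_51 (c : Nat) : Nat := @Bool.rec (fun _ => Nat) (Btab_49) (Btab_50) (Nat.ble 50 c)
noncomputable def Btab_s_47_51 (c : Nat) : Nat := @Bool.rec (fun _ => Nat) (Btab_s_47_49 c) (Btab_s_49_51 c) (Nat.ble 49 c)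
noncomputable def Btab_s_44_51 (c : Nat) : Nat := @Bool.rec (fun _ => Nat) (Btab_s_44_47 c) (Btab_s_47_51 c) (Nat.ble 47 c)
noncomputable def Btab_s_38_51 (c : Nat) : Nat := @Bool.rec (fun _ => Nat) (Btab_s_38_44 c) (Btab_s_44_51 c) (Nat.ble 44 c)
noncomputable def Btab_s_25_51 (c : Nat) : Nat := @Bool.rec (fun _ => Nat) (Btab_s_25_38 c) (Btab_s_38_51 c) (Nat.ble 38 c)
noncomputable def Btab_s_0_51 (c : Nat) : Nat := @Bool.rec (fun _ => Nat) (Btab_s_0_25 c) (Btab_s_25_51 c) (Nat.ble 25 c)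
noncomputable def Btab_s_52_54 (c : Nat) : Nat := @Bool.rec (fun _ => Nat) (Btab_52) (Btab_53) (Nat.ble 53 c)
noncomputable def Btab_s_51_54 (c : Nat) : Nat := @Bool.rec (fun _ => Nat) (Btab_51) (Btab_s_52_54 c) (Nat.ble 52 c)
noncomputable def Btab_s_55_57 (c : Nat) : Nat := @Bool.rec (fun _ => Nat) (Btab_55) (Btab_56) (Nat.ble 56 c)
noncomputable def Btab_s_54_57 (c : Nat) : Nat := @Bool.rec (fun _ => Nat) (Btab_54) (Btab_s_55_57 c) (Nat.ble 55 c)
noncomputable def Btab_s_51_57 (c : Nat) : Nat := @Bool.rec (fun _ => Nat) (Btab_s_51_54 c) (Btab_s_54_57 c) (Nat.ble 54 c)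
noncomputable def Btab_s_58_60 (c : Nat) : Nat := @Bool.rec (fun _ => Nat) (Btab_58) (Btab_59) (Nat.ble 59 c)
noncomputable def Btab_s_57_60 (c : Nat) : Nat := @Bool.rec (fun _ => Nat) (Btab_57) (Btab_s_58_60 c) (Nat.ble 58 c)
noncomputable def Btab_s_60_62 (c : Nat) : Nat := @Bool.rec (fun _ => Nat) (Btab_60) (Btab_61) (Nat.ble 61 c)
noncomputable def Btab_s_62_64 (c : Nat) : Nat := @Bool.rec (fun _ => Nat) (Btab_62) (Btab_63) (Nat.ble 63 c)
noncomputable def Btab_s_60_64 (c : Nat) : Nat := @Bool.rec (fun _ => Nat) (Btab_s_60_62 c) (Btab_s_62_64 c) (Nat.ble 62 c)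
noncomputable def Btab_s_57_64 (c : Nat) : Nat := @Bool.rec (fun _ => Nat) (Btab_s_57_60 c) (Btab_s_60_64 c) (Nat.ble 60 c)
noncomputable def Btab_s_51_64 (c : Nat) : Nat := @Bool.rec (fun _ => Nat) (Btab_s_51_57 c) (Btab_s_57_64 c) (Nat.ble 57 c)
noncomputable def Btab_s_65_67 (c : Nat) : Nat := @Bool.rec (fun _ => Nat) (Btab_65) (Btab_66) (Nat.ble 66 c)
noncomputable def Btab_s_64_67 (c : Nat) : Nat := @Bool.rec (fun _ => Nat) (Btab_64) (Btab_s_65_67 c) (Nat.ble 65 c)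
noncomputable def Btab_s_68_70 (c : Nat) : Nat := @Bool.rec (fun _ => Nat) (Btab_68) (Btab_69) (Nat.ble 69 c)
noncomputable def Btab_s_67_70 (c : Nat) : Nat := @Bool.rec (fun _ => Nat) (Btab_67) (Btab_s_68_70 c) (Nat.ble 68 c)
noncomputable def Btab_s_64_70 (c : Nat) : Nat := @Bool.rec (fun _ => Nat) (Btab_s_64_67 c) (Btab_s_67_70 c) (Nat.ble 67 c)
noncomputable def Btab_s_71_73 (c : Nat) : Nat := @Bool.rec (fun _ => Nat) (Btab_71) (Btab_72) (Nat.ble 72 c)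
noncomputable def Btab_s_70_73 (c : Nat) : Nat := @Bool.rec (fun _ => Nat) (Btab_70) (Btab_s_71_73 c) (Nat.ble 71 c)
noncomputable def Btab_s_73_75 (c : Nat) : Nat := @Bool.rec (fun _ => Nat) (Btab_73) (Btab_74) (Nat.ble 74 c)
noncomputable def Btab_s_75_77 (c : Nat) : Nat := @Bool.rec (fun _ => Nat) (Btab_75) (Btab_76) (Nat.ble 76 c)
noncomputable def Btab_s_73_77 (c : Nat) : Nat := @Bool.rec (fun _ => Nat) (Btab_s_73_75 c) (Btab_s_75_77 c) (Nat.ble 75 c)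
noncomputable def Btab_s_70_77 (c : Nat) : Nat := @Bool.rec (fun _ => Nat) (Btab_s_70_73 c) (Btab_s_73_77 c) (Nat.ble 73 c)
noncomputable def Btab_s_64_77 (c : Nat) : Nat := @Bool.rec (fun _ => Nat) (Btab_s_64_70 c) (Btab_s_70_77 c) (Nat.ble 70 c)
noncomputable def Btab_s_51_77 (c : Nat) : Nat := @Bool.rec (fun _ => Nat) (Btab_s_51_64 c) (Btab_s_64_77 c) (Nat.ble 64 c)
noncomputable def Btab_s_78_80 (c : Nat) : Nat := @Bool.rec (fun _ => Nat) (Btab_78) (Btab_79) (Nat.ble 79 c)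
noncomputable def Btab_s_77_80 (c : Nat) : Nat := @Bool.rec (fun _ => Nat) (Btab_77) (Btab_s_78_80 c) (Nat.ble 78 c)
noncomputable def Btab_s_81_83 (c : Nat) : Nat := @Bool.rec (fun _ => Nat) (Btab_81) (Btab_82) (Nat.ble 82 c)
noncomputable def Btab_s_80_83 (c : Nat) : Nat := @Bool.rec (fun _ => Nat) (Btab_80) (Btab_s_81_83 c) (Nat.ble 81 c)
noncomputable def Btab_s_77_83 (c : Nat) : Nat := @Bool.rec (fun _ => Nat) (Btab_s_77_80 c) (Btab_s_80_83 c) (Nat.ble 80 c)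
noncomputable def Btab_s_84_86 (c : Nat) : Nat := @Bool.rec (fun _ => Nat) (Btab_84) (Btab_85) (Nat.ble 85 c)
noncomputable def Btab_s_83_86 (c : Nat) : Nat := @Bool.rec (fun _ => Nat) (Btab_83) (Btab_s_84_86 c) (Nat.ble 84 c)
noncomputable def Btab_s_86_88 (c : Nat) : Nat := @Bool.rec (fun _ => Nat) (Btab_86) (Btab_87) (Nat.ble 87 c)
noncomputable def Btab_s_88_90 (c : Nat) : Nat := @Bool.rec (fun _ => Nat) (Btab_88) (Btab_89) (Nat.ble 89 c)
noncomputable def Btab_s_86_90 (c : Nat) : Nat := @Bool.rec (fun _ => Nat) (Btab_s_86_88 c) (Btab_s_88_90 c) (Nat.ble 88 c)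
noncomputable def Btab_s_83_90 (c : Nat) : Nat := @Bool.rec (fun _ => Nat) (Btab_s_83_86 c) (Btab_s_86_90 c) (Nat.ble 86 c)
noncomputable def Btab_s_77_90 (c : Nat) : Nat := @Bool.rec (fun _ => Nat) (Btab_s_77_83 c) (Btab_s_83_90 c) (Nat.ble 83 c)
noncomputable def Btab_s_91_93 (c : Nat) : Nat := @Bool.rec (fun _ => Nat) (Btab_91) (Btab_92) (Nat.ble 92 c)
noncomputable def Btab_s_90_93 (c : Nat) : Nat := @Bool.rec (fun _ => Nat) (Btab_90) (Btab_s_91_93 c) (Nat.ble 91 c)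
noncomputable def Btab_s_94_96 (c : Nat) : Nat := @Bool.rec (fun _ => Nat) (Btab_94) (Btab_95) (Nat.ble 95 c)
noncomputable def Btab_s_93_96 (c : Nat) : Nat := @Bool.rec (fun _ => Nat) (Btab_93) (Btab_s_94_96 c) (Nat.ble 94 c)
noncomputable def Btab_s_90_96 (c : Nat) : Nat := @Bool.rec (fun _ => Nat) (Btab_s_90_93 c) (Btab_s_93_96 c) (Nat.ble 93 c)
noncomputable def Btab_s_97_99 (c : Nat) : Nat := @Bool.rec (fun _ => Nat) (Btab_97) (Btab_98) (Nat.ble 98 c)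
noncomputable def Btab_s_96_99 (c : Nat) : Nat := @Bool.rec (fun _ => Nat) (Btab_96) (Btab_s_97_99 c) (Nat.ble 97 c)
noncomputable def Btab_s_99_101 (c : Nat) : Nat := @Bool.rec (fun _ => Nat) (Btab_99) (Btab_100) (Nat.ble 100 c)
noncomputable def Btab_s_101_103 (c : Nat) : Nat := @Bool.rec (fun _ => Nat) (Btab_101) (Btab_102) (Nat.ble 102 c)
noncomputable def Btab_s_99_103 (c : Nat) : Nat := @Bool.rec (fun _ => Nat) (Btab_s_99_101 c) (Btab_s_101_103 c) (Nat.ble 101 c)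
noncomputable def Btab_s_96_103 (c : Nat) : Nat := @Bool.rec (fun _ => Nat) (Btab_s_96_99 c) (Btab_s_99_103 c) (Nat.ble 99 c)
noncomputable def Btab_s_90_103 (c : Nat) : Nat := @Bool.rec (fun _ => Nat) (Btab_s_90_96 c) (Btab_s_96_103 c) (Nat.ble 96 c)
noncomputable def Btab_s_77_103 (c : Nat) : Nat := @Bool.rec (fun _ => Nat) (Btab_s_77_90 c) (Btab_s_90_103 c) (Nat.ble 90 c)
noncomputable def Btab_s_51_103 (c : Nat) : Nat := @Bool.rec (fun _ => Nat) (Btab_s_51_77 c) (Btab_s_77_103 c) (Nat.ble 77 c)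
noncomputable def Btab_s_0_103 (c : Nat) : Nat := @Bool.rec (fun _ => Nat) (Btab_s_0_51 c) (Btab_s_51_103 c) (Nat.ble 51 c)
noncomputable def Btab (i : Nat) : Nat := rdw 37 137438953471 (Btab_s_0_103 (Nat.shiftRight i 11)) (Nat.land i 2047)
noncomputable def Ptab_s_0_2 (c : Nat) : Nat := @Bool.rec (fun _ => Nat) (Ptab_0) (Ptab_1) (Nat.ble 1 c)
noncomputable def Ptab_s_3_5 (c : Nat) : Nat := @Bool.rec (fun _ => Nat) (Ptab_3) (Ptab_4) (Nat.ble 4 c)
noncomputable def Ptab_s_2_5 (c : Nat) : Nat := @Bool.rec (fun _ => Nat) (Ptab_2) (Ptab_s_3_5 c) (Nat.ble 3 c)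
noncomputable def Ptab_s_0_5 (c : Nat) : Nat := @Bool.rec (fun _ => Nat) (Ptab_s_0_2 c) (Ptab_s_2_5 c) (Nat.ble 2 c)
noncomputable def Ptab_s_6_8 (c : Nat) : Nat := @Bool.rec (fun _ => Nat) (Ptab_6) (Ptab_7) (Nat.ble 7 c)
noncomputable def Ptab_s_5_8 (c : Nat) : Nat := @Bool.rec (fun _ => Nat) (Ptab_5) (Ptab_s_6_8 c) (Nat.ble 6 c)
noncomputable def Ptab_s_9_11 (c : Nat) : Nat := @Bool.rec (fun _ => Nat) (Ptab_9) (Ptab_10) (Nat.ble 10 c)
noncomputable def Ptab_s_8_11 (c : Nat) : Nat := @Bool.rec (fun _ => Nat) (Ptab_8) (Ptab_s_9_11 c) (Nat.ble 9 c)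
noncomputable def Ptab_s_5_11 (c : Nat) : Nat := @Bool.rec (fun _ => Nat) (Ptab_s_5_8 c) (Ptab_s_8_11 c) (Nat.ble 8 c)
noncomputable def Ptab_s_0_11 (c : Nat) : Nat := @Bool.rec (fun _ => Nat) (Ptab_s_0_5 c) (Ptab_s_5_11 c) (Nat.ble 5 c)
noncomputable def Ptab_s_11_13 (c : Nat) : Nat := @Bool.rec (fun _ => Nat) (Ptab_11) (Ptab_12) (Nat.ble 12 c)
noncomputable def Ptab_s_14_16 (c : Nat) : Nat := @Bool.rec (fun _ => Nat) (Ptab_14) (Ptab_15) (Nat.ble 15 c)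
noncomputable def Ptab_s_13_16 (c : Nat) : Nat := @Bool.rec (fun _ => Nat) (Ptab_13) (Ptab_s_14_16 c) (Nat.ble 14 c)
noncomputable def Ptab_s_11_16 (c : Nat) : Nat := @Bool.rec (fun _ => Nat) (Ptab_s_11_13 c) (Ptab_s_13_16 c) (Nat.ble 13 c)
noncomputable def Ptab_s_17_19 (c : Nat) : Nat := @Bool.rec (fun _ => Nat) (Ptab_17) (Ptab_18) (Nat.ble 18 c)
noncomputable def Ptab_s_16_19 (c : Nat) : Nat := @Bool.rec (fun _ => Nat) (Ptab_16) (Ptab_s_17_19 c) (Nat.ble 17 c)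
noncomputable def Ptab_s_20_22 (c : Nat) : Nat := @Bool.rec (fun _ => Nat) (Ptab_20) (Ptab_21) (Nat.ble 21 c)
noncomputable def Ptab_s_19_22 (c : Nat) : Nat := @Bool.rec (fun _ => Nat) (Ptab_19) (Ptab_s_20_22 c) (Nat.ble 20 c)
noncomputable def Ptab_s_16_22 (c : Nat) : Nat := @Bool.rec (fun _ => Nat) (Ptab_s_16_19 c) (Ptab_s_19_22 c) (Nat.ble 19 c)
noncomputable def Ptab_s_11_22 (c : Nat) : Nat := @Bool.rec (fun _ => Nat) (Ptab_s_11_16 c) (Ptab_s_16_22 c) (Nat.ble 16 c)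
noncomputable def Ptab_s_0_22 (c : Nat) : Nat := @Bool.rec (fun _ => Nat) (Ptab_s_0_11 c) (Ptab_s_11_22 c) (Nat.ble 11 c)
noncomputable def Ptab_s_22_24 (c : Nat) : Nat := @Bool.rec (fun _ => Nat) (Ptab_22) (Ptab_23) (Nat.ble 23 c)
noncomputable def Ptab_s_25_27 (c : Nat) : Nat := @Bool.rec (fun _ => Nat) (Ptab_25) (Ptab_26) (Nat.ble 26 c)
noncomputable def Ptab_s_24_27 (c : Nat) : Nat := @Bool.rec (fun _ => Nat) (Ptab_24) (Ptab_s_25_27 c) (Nat.ble 25 c)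
noncomputable def Ptab_s_22_27 (c : Nat) : Nat := @Bool.rec (fun _ => Nat) (Ptab_s_22_24 c) (Ptab_s_24_27 c) (Nat.ble 24 c)
noncomputable def Ptab_s_28_30 (c : Nat) : Nat := @Bool.rec (fun _ => Nat) (Ptab_28) (Ptab_29) (Nat.ble 29 c)
noncomputable def Ptab_s_27_30 (c : Nat) : Nat := @Bool.rec (fun _ => Nat) (Ptab_27) (Ptab_s_28_30 c) (Nat.ble 28 c)
noncomputable def Ptab_s_31_33 (c : Nat) : Nat := @Bool.rec (fun _ => Nat) (Ptab_31) (Ptab_32) (Nat.ble 32 c)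
noncomputable def Ptab_s_30_33 (c : Nat) : Nat := @Bool.rec (fun _ => Nat) (Ptab_30) (Ptab_s_31_33 c) (Nat.ble 31 c)
noncomputable def Ptab_s_27_33 (c : Nat) : Nat := @Bool.rec (fun _ => Nat) (Ptab_s_27_30 c) (Ptab_s_30_33 c) (Nat.ble 30 c)
noncomputable def Ptab_s_22_33 (c : Nat) : Nat := @Bool.rec (fun _ => Nat) (Ptab_s_22_27 c) (Ptab_s_27_33 c) (Nat.ble 27 c)
noncomputable def Ptab_s_34_36 (c : Nat) : Nat := @Bool.rec (fun _ => Nat) (Ptab_34) (Ptab_35) (Nat.ble 35 c)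
noncomputable def Ptab_s_33_36 (c : Nat) : Nat := @Bool.rec (fun _ => Nat) (Ptab_33) (Ptab_s_34_36 c) (Nat.ble 34 c)
noncomputable def Ptab_s_37_39 (c : Nat) : Nat := @Bool.rec (fun _ => Nat) (Ptab_37) (Ptab_38) (Nat.ble 38 c)
noncomputable def Ptab_s_36_39 (c : Nat) : Nat := @Bool.rec (fun _ => Nat) (Ptab_36) (Ptab_s_37_39 c) (Nat.ble 37 c)
noncomputable def Ptab_s_33_39 (c : Nat) : Nat := @Bool.rec (fun _ => Nat) (Ptab_s_33_36 c) (Ptab_s_36_39 c) (Nat.ble 36 c)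
noncomputable def Ptab_s_40_42 (c : Nat) : Nat := @Bool.rec (fun _ => Nat) (Ptab_40) (Ptab_41) (Nat.ble 41 c)
noncomputable def Ptab_s_39_42 (c : Nat) : Nat := @Bool.rec (fun _ => Nat) (Ptab_39) (Ptab_s_40_42 c) (Nat.ble 40 c)
noncomputable def Ptab_s_43_45 (c : Nat) : Nat := @Bool.rec (fun _ => Nat) (Ptab_43) (Ptab_44) (Nat.ble 44 c)
noncomputable def Ptab_s_42_45 (c : Nat) : Nat := @Bool.rec (fun _ => Nat) (Ptab_42) (Ptab_s_43_45 c) (Nat.ble 43 c)
noncomputable def Ptab_s_39_45 (c : Nat) : Nat := @Bool.rec (fun _ => Nat) (Ptab_s_39_42 c) (Ptab_s_42_45 c) (Nat.ble 42 c)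
noncomputable def Ptab_s_33_45 (c : Nat) : Nat := @Bool.rec (fun _ => Nat) (Ptab_s_33_39 c) (Ptab_s_39_45 c) (Nat.ble 39 c)
noncomputable def Ptab_s_22_45 (c : Nat) : Nat := @Bool.rec (fun _ => Nat) (Ptab_s_22_33 c) (Ptab_s_33_45 c) (Nat.ble 33 c)
noncomputable def Ptab_s_0_45 (c : Nat) : Nat := @Bool.rec (fun _ => Nat) (Ptab_s_0_22 c) (Ptab_s_22_45 c) (Nat.ble 22 c)
noncomputable def Ptab_s_45_47 (c : Nat) : Nat := @Bool.rec (fun _ => Nat) (Ptab_45) (Ptab_46) (Nat.ble 46 c)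
noncomputable def Ptab_s_48_50 (c : Nat) : Nat := @Bool.rec (fun _ => Nat) (Ptab_48) (Ptab_49) (Nat.ble 49 c)
noncomputable def Ptab_s_47_50 (c : Nat) : Nat := @Bool.rec (fun _ => Nat) (Ptab_47) (Ptab_s_48_50 c) (Nat.ble 48 c)
noncomputable def Ptab_s_45_50 (c : Nat) : Nat := @Bool.rec (fun _ => Nat) (Ptab_s_45_47 c) (Ptab_s_47_50 c) (Nat.ble 47 c)
noncomputable def Ptab_s_51_53 (c : Nat) : Nat := @Bool.rec (fun _ => Nat) (Ptab_51) (Ptab_52) (Nat.ble 52 c)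
noncomputable def Ptab_s_50_53 (c : Nat) : Nat := @Bool.rec (fun _ => Nat) (Ptab_50) (Ptab_s_51_53 c) (Nat.ble 51 c)
noncomputable def Ptab_s_54_56 (c : Nat) : Nat := @Bool.rec (fun _ => Nat) (Ptab_54) (Ptab_55) (Nat.ble 55 c)
noncomputable def Ptab_s_53_56 (c : Nat) : Nat := @Bool.rec (fun _ => Nat) (Ptab_53) (Ptab_s_54_56 c) (Nat.ble 54 c)
noncomputable def Ptab_s_50_56 (c : Nat) : Nat := @Bool.rec (fun _ => Nat) (Ptab_s_50_53 c) (Ptab_s_53_56 c) (Nat.ble 53 c)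
noncomputable def Ptab_s_45_56 (c : Nat) : Nat := @Bool.rec (fun _ => Nat) (Ptab_s_45_50 c) (Ptab_s_50_56 c) (Nat.ble 50 c)
noncomputable def Ptab_s_57_59 (c : Nat) : Nat := @Bool.rec (fun _ => Nat) (Ptab_57) (Ptab_58) (Nat.ble 58 c)
noncomputable def Ptab_s_56_59 (c : Nat) : Nat := @Bool.rec (fun _ => Nat) (Ptab_56) (Ptab_s_57_59 c) (Nat.ble 57 c)
noncomputable def Ptab_s_60_62 (c : Nat) : Nat := @Bool.rec (fun _ => Nat) (Ptab_60) (Ptab_61) (Nat.ble 61 c)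
noncomputable def Ptab_s_59_62 (c : Nat) : Nat := @Bool.rec (fun _ => Nat) (Ptab_59) (Ptab_s_60_62 c) (Nat.ble 60 c)
noncomputable def Ptab_s_56_62 (c : Nat) : Nat := @Bool.rec (fun _ => Nat) (Ptab_s_56_59 c) (Ptab_s_59_62 c) (Nat.ble 59 c)
noncomputable def Ptab_s_63_65 (c : Nat) : Nat := @Bool.rec (fun _ => Nat) (Ptab_63) (Ptab_64) (Nat.ble 64 c)
noncomputable def Ptab_s_62_65 (c : Nat) : Nat := @Bool.rec (fun _ => Nat) (Ptab_62) (Ptab_s_63_65 c) (Nat.ble 63 c)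
noncomputable def Ptab_s_66_68 (c : Nat) : Nat := @Bool.rec (fun _ => Nat) (Ptab_66) (Ptab_67) (Nat.ble 67 c)
noncomputable def Ptab_s_65_68 (c : Nat) : Nat := @Bool.rec (fun _ => Nat) (Ptab_65) (Ptab_s_66_68 c) (Nat.ble 66 c)
noncomputable def Ptab_s_62_68 (c : Nat) : Nat := @Bool.rec (fun _ => Nat) (Ptab_s_62_65 c) (Ptab_s_65_68 c) (Nat.ble 65 c)
noncomputable def Ptab_s_56_68 (c : Nat) : Nat := @Bool.rec (fun _ => Nat) (Ptab_s_56_62 c) (Ptab_s_62_68 c) (Nat.ble 62 c)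
noncomputable def Ptab_s_45_68 (c : Nat) : Nat := @Bool.rec (fun _ => Nat) (Ptab_s_45_56 c) (Ptab_s_56_68 c) (Nat.ble 56 c)
noncomputable def Ptab_s_68_70 (c : Nat) : Nat := @Bool.rec (fun _ => Nat) (Ptab_68) (Ptab_69) (Nat.ble 69 c)
noncomputable def Ptab_s_71_73 (c : Nat) : Nat := @Bool.rec (fun _ => Nat) (Ptab_71) (Ptab_72) (Nat.ble 72 c)
noncomputable def Ptab_s_70_73 (c : Nat) : Nat := @Bool.rec (fun _ => Nat) (Ptab_70) (Ptab_s_71_73 c) (Nat.ble 71 c)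
noncomputable def Ptab_s_68_73 (c : Nat) : Nat := @Bool.rec (fun _ => Nat) (Ptab_s_68_70 c) (Ptab_s_70_73 c) (Nat.ble 70 c)
noncomputable def Ptab_s_74_76 (c : Nat) : Nat := @Bool.rec (fun _ => Nat) (Ptab_74) (Ptab_75) (Nat.ble 75 c)
noncomputable def Ptab_s_73_76 (c : Nat) : Nat := @Bool.rec (fun _ => Nat) (Ptab_73) (Ptab_s_74_76 c) (Nat.ble 74 c)
noncomputable def Ptab_s_77_79 (c : Nat) : Nat := @Bool.rec (fun _ => Nat) (Ptab_77) (Ptab_78) (Nat.ble 78 c)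
noncomputable def Ptab_s_76_79 (c : Nat) : Nat := @Bool.rec (fun _ => Nat) (Ptab_76) (Ptab_s_77_79 c) (Nat.ble 77 c)
noncomputable def Ptab_s_73_79 (c : Nat) : Nat := @Bool.rec (fun _ => Nat) (Ptab_s_73_76 c) (Ptab_s_76_79 c) (Nat.ble 76 c)
noncomputable def Ptab_s_68_79 (c : Nat) : Nat := @Bool.rec (fun _ => Nat) (Ptab_s_68_73 c) (Ptab_s_73_79 c) (Nat.ble 73 c)
noncomputable def Ptab_s_80_82 (c : Nat) : Nat := @Bool.rec (fun _ => Nat) (Ptab_80) (Ptab_81) (Nat.ble 81 c)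
noncomputable def Ptab_s_79_82 (c : Nat) : Nat := @Bool.rec (fun _ => Nat) (Ptab_79) (Ptab_s_80_82 c) (Nat.ble 80 c)
noncomputable def Ptab_s_83_85 (c : Nat) : Nat := @Bool.rec (fun _ => Nat) (Ptab_83) (Ptab_84) (Nat.ble 84 c)
noncomputable def Ptab_s_82_85 (c : Nat) : Nat := @Bool.rec (fun _ => Nat) (Ptab_82) (Ptab_s_83_85 c) (Nat.ble 83 c)
noncomputable def Ptab_s_79_85 (c : Nat) : Nat := @Bool.rec (fun _ => Nat) (Ptab_s_79_82 c) (Ptab_s_82_85 c) (Nat.ble 82 c)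
noncomputable def Ptab_s_86_88 (c : Nat) : Nat := @Bool.rec (fun _ => Nat) (Ptab_86) (Ptab_87) (Nat.ble 87 c)
noncomputable def Ptab_s_85_88 (c : Nat) : Nat := @Bool.rec (fun _ => Nat) (Ptab_85) (Ptab_s_86_88 c) (Nat.ble 86 c)
noncomputable def Ptab_s_89_91 (c : Nat) : Nat := @Bool.rec (fun _ => Nat) (Ptab_89) (Ptab_90) (Nat.ble 90 c)
noncomputable def Ptab_s_88_91 (c : Nat) : Nat := @Bool.rec (fun _ => Nat) (Ptab_88) (Ptab_s_89_91 c) (Nat.ble 89 c)
noncomputable def Ptab_s_85_91 (c : Nat) : Nat := @Bool.rec (fun _ => Nat) (Ptab_s_85_88 c) (Ptab_s_88_91 c) (Nat.ble 88 c)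
noncomputable def Ptab_s_79_91 (c : Nat) : Nat := @Bool.rec (fun _ => Nat) (Ptab_s_79_85 c) (Ptab_s_85_91 c) (Nat.ble 85 c)
noncomputable def Ptab_s_68_91 (c : Nat) : Nat := @Bool.rec (fun _ => Nat) (Ptab_s_68_79 c) (Ptab_s_79_91 c) (Nat.ble 79 c)
noncomputable def Ptab_s_45_91 (c : Nat) : Nat := @Bool.rec (fun _ => Nat) (Ptab_s_45_68 c) (Ptab_s_68_91 c) (Nat.ble 68 c)
noncomputable def Ptab_s_0_91 (c : Nat) : Nat := @Bool.rec (fun _ => Nat) (Ptab_s_0_45 c) (Ptab_s_45_91 c) (Nat.ble 45 c)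
noncomputable def Ptab_s_91_93 (c : Nat) : Nat := @Bool.rec (fun _ => Nat) (Ptab_91) (Ptab_92) (Nat.ble 92 c)
noncomputable def Ptab_s_94_96 (c : Nat) : Nat := @Bool.rec (fun _ => Nat) (Ptab_94) (Ptab_95) (Nat.ble 95 c)
noncomputable def Ptab_s_93_96 (c : Nat) : Nat := @Bool.rec (fun _ => Nat) (Ptab_93) (Ptab_s_94_96 c) (Nat.ble 94 c)
noncomputable def Ptab_s_91_96 (c : Nat) : Nat := @Bool.rec (fun _ => Nat) (Ptab_s_91_93 c) (Ptab_s_93_96 c) (Nat.ble 93 c)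
noncomputable def Ptab_s_97_99 (c : Nat) : Nat := @Bool.rec (fun _ => Nat) (Ptab_97) (Ptab_98) (Nat.ble 98 c)
noncomputable def Ptab_s_96_99 (c : Nat) : Nat := @Bool.rec (fun _ => Nat) (Ptab_96) (Ptab_s_97_99 c) (Nat.ble 97 c)
noncomputable def Ptab_s_100_102 (c : Nat) : Nat := @Bool.rec (fun _ => Nat) (Ptab_100) (Ptab_101) (Nat.ble 101 c)
noncomputable def Ptab_s_99_102 (c : Nat) : Nat := @Bool.rec (fun _ => Nat) (Ptab_99) (Ptab_s_100_102 c) (Nat.ble 100 c)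
noncomputable def Ptab_s_96_102 (c : Nat) : Nat := @Bool.rec (fun _ => Nat) (Ptab_s_96_99 c) (Ptab_s_99_102 c) (Nat.ble 99 c)
noncomputable def Ptab_s_91_102 (c : Nat) : Nat := @Bool.rec (fun _ => Nat) (Ptab_s_91_96 c) (Ptab_s_96_102 c) (Nat.ble 96 c)
noncomputable def Ptab_s_102_104 (c : Nat) : Nat := @Bool.rec (fun _ => Nat) (Ptab_102) (Ptab_103) (Nat.ble 103 c)
noncomputable def Ptab_s_105_107 (c : Nat) : Nat := @Bool.rec (fun _ => Nat) (Ptab_105) (Ptab_106) (Nat.ble 106 c)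
noncomputable def Ptab_s_104_107 (c : Nat) : Nat := @Bool.rec (fun _ => Nat) (Ptab_104) (Ptab_s_105_107 c) (Nat.ble 105 c)
noncomputable def Ptab_s_102_107 (c : Nat) : Nat := @Bool.rec (fun _ => Nat) (Ptab_s_102_104 c) (Ptab_s_104_107 c) (Nat.ble 104 c)
noncomputable def Ptab_s_108_110 (c : Nat) : Nat := @Bool.rec (fun _ => Nat) (Ptab_108) (Ptab_109) (Nat.ble 109 c)
noncomputable def Ptab_s_107_110 (c : Nat) : Nat := @Bool.rec (fun _ => Nat) (Ptab_107) (Ptab_s_108_110 c) (Nat.ble 108 c)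
noncomputable def Ptab_s_111_113 (c : Nat) : Nat := @Bool.rec (fun _ => Nat) (Ptab_111) (Ptab_112) (Nat.ble 112 c)
noncomputable def Ptab_s_110_113 (c : Nat) : Nat := @Bool.rec (fun _ => Nat) (Ptab_110) (Ptab_s_111_113 c) (Nat.ble 111 c)
noncomputable def Ptab_s_107_113 (c : Nat) : Nat := @Bool.rec (fun _ => Nat) (Ptab_s_107_110 c) (Ptab_s_110_113 c) (Nat.ble 110 c)
noncomputable def Ptab_s_102_113 (c : Nat) : Nat := @Bool.rec (fun _ => Nat) (Ptab_s_102_107 c) (Ptab_s_107_113 c) (Nat.ble 107 c)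
noncomputable def Ptab_s_91_113 (c : Nat) : Nat := @Bool.rec (fun _ => Nat) (Ptab_s_91_102 c) (Ptab_s_102_113 c) (Nat.ble 102 c)
noncomputable def Ptab_s_113_115 (c : Nat) : Nat := @Bool.rec (fun _ => Nat) (Ptab_113) (Ptab_114) (Nat.ble 114 c)
noncomputable def Ptab_s_116_118 (c : Nat) : Nat := @Bool.rec (fun _ => Nat) (Ptab_116) (Ptab_117) (Nat.ble 117 c)
noncomputable def Ptab_s_115_118 (c : Nat) : Nat := @Bool.rec (fun _ => Nat) (Ptab_115) (Ptab_s_116_118 c) (Nat.ble 116 c)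
noncomputable def Ptab_s_113_118 (c : Nat) : Nat := @Bool.rec (fun _ => Nat) (Ptab_s_113_115 c) (Ptab_s_115_118 c) (Nat.ble 115 c)
noncomputable def Ptab_s_119_121 (c : Nat) : Nat := @Bool.rec (fun _ => Nat) (Ptab_119) (Ptab_120) (Nat.ble 120 c)
noncomputable def Ptab_s_118_121 (c : Nat) : Nat := @Bool.rec (fun _ => Nat) (Ptab_118) (Ptab_s_119_121 c) (Nat.ble 119 c)
noncomputable def Ptab_s_122_124 (c : Nat) : Nat := @Bool.rec (fun _ => Nat) (Ptab_122) (Ptab_123) (Nat.ble 123 c)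
noncomputable def Ptab_s_121_124 (c : Nat) : Nat := @Bool.rec (fun _ => Nat) (Ptab_121) (Ptab_s_122_124 c) (Nat.ble 122 c)
noncomputable def Ptab_s_118_124 (c : Nat) : Nat := @Bool.rec (fun _ => Nat) (Ptab_s_118_121 c) (Ptab_s_121_124 c) (Nat.ble 121 c)
noncomputable def Ptab_s_113_124 (c : Nat) : Nat := @Bool.rec (fun _ => Nat) (Ptab_s_113_118 c) (Ptab_s_118_124 c) (Nat.ble 118 c)
noncomputable def Ptab_s_125_127 (c : Nat) : Nat := @Bool.rec (fun _ => Nat) (Ptab_125) (Ptab_126) (Nat.ble 126 c)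
noncomputable def Ptab_s_124_127 (c : Nat) : Nat := @Bool.rec (fun _ => Nat) (Ptab_124) (Ptab_s_125_127 c) (Nat.ble 125 c)
noncomputable def Ptab_s_128_130 (c : Nat) : Nat := @Bool.rec (fun _ => Nat) (Ptab_128) (Ptab_129) (Nat.ble 129 c)
noncomputable def Ptab_s_127_130 (c : Nat) : Nat := @Bool.rec (fun _ => Nat) (Ptab_127) (Ptab_s_128_130 c) (Nat.ble 128 c)
noncomputable def Ptab_s_124_130 (c : Nat) : Nat := @Bool.rec (fun _ => Nat) (Ptab_s_124_127 c) (Ptab_s_127_130 c) (Nat.ble 127 c)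
noncomputable def Ptab_s_131_133 (c : Nat) : Nat := @Bool.rec (fun _ => Nat) (Ptab_131) (Ptab_132) (Nat.ble 132 c)
noncomputable def Ptab_s_130_133 (c : Nat) : Nat := @Bool.rec (fun _ => Nat) (Ptab_130) (Ptab_s_131_133 c) (Nat.ble 131 c)
noncomputable def Ptab_s_134_136 (c : Nat) : Nat := @Bool.rec (fun _ => Nat) (Ptab_134) (Ptab_135) (Nat.ble 135 c)
noncomputable def Ptab_s_133_136 (c : Nat) : Nat := @Bool.rec (fun _ => Nat) (Ptab_133) (Ptab_s_134_136 c) (Nat.ble 134 c)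
noncomputable def Ptab_s_130_136 (c : Nat) : Nat := @Bool.rec (fun _ => Nat) (Ptab_s_130_133 c) (Ptab_s_133_136 c) (Nat.ble 133 c)
noncomputable def Ptab_s_124_136 (c : Nat) : Nat := @Bool.rec (fun _ => Nat) (Ptab_s_124_130 c) (Ptab_s_130_136 c) (Nat.ble 130 c)
noncomputable def Ptab_s_113_136 (c : Nat) : Nat := @Bool.rec (fun _ => Nat) (Ptab_s_113_124 c) (Ptab_s_124_136 c) (Nat.ble 124 c)
noncomputable def Ptab_s_91_136 (c : Nat) : Nat := @Bool.rec (fun _ => Nat) (Ptab_s_91_113 c) (Ptab_s_113_136 c) (Nat.ble 113 c)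
noncomputable def Ptab_s_136_138 (c : Nat) : Nat := @Bool.rec (fun _ => Nat) (Ptab_136) (Ptab_137) (Nat.ble 137 c)
noncomputable def Ptab_s_139_141 (c : Nat) : Nat := @Bool.rec (fun _ => Nat) (Ptab_139) (Ptab_140) (Nat.ble 140 c)
noncomputable def Ptab_s_138_141 (c : Nat) : Nat := @Bool.rec (fun _ => Nat) (Ptab_138) (Ptab_s_139_141 c) (Nat.ble 139 c)
noncomputable def Ptab_s_136_141 (c : Nat) : Nat := @Bool.rec (fun _ => Nat) (Ptab_s_136_138 c) (Ptab_s_138_141 c) (Nat.ble 138 c)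
noncomputable def Ptab_s_142_144 (c : Nat) : Nat := @Bool.rec (fun _ => Nat) (Ptab_142) (Ptab_143) (Nat.ble 143 c)
noncomputable def Ptab_s_141_144 (c : Nat) : Nat := @Bool.rec (fun _ => Nat) (Ptab_141) (Ptab_s_142_144 c) (Nat.ble 142 c)
noncomputable def Ptab_s_145_147 (c : Nat) : Nat := @Bool.rec (fun _ => Nat) (Ptab_145) (Ptab_146) (Nat.ble 146 c)
noncomputable def Ptab_s_144_147 (c : Nat) : Nat := @Bool.rec (fun _ => Nat) (Ptab_144) (Ptab_s_145_147 c) (Nat.ble 145 c)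
noncomputable def Ptab_s_141_147 (c : Nat) : Nat := @Bool.rec (fun _ => Nat) (Ptab_s_141_144 c) (Ptab_s_144_147 c) (Nat.ble 144 c)
noncomputable def Ptab_s_136_147 (c : Nat) : Nat := @Bool.rec (fun _ => Nat) (Ptab_s_136_141 c) (Ptab_s_141_147 c) (Nat.ble 141 c)
noncomputable def Ptab_s_148_150 (c : Nat) : Nat := @Bool.rec (fun _ => Nat) (Ptab_148) (Ptab_149) (Nat.ble 149 c)
noncomputable def Ptab_s_147_150 (c : Nat) : Nat := @Bool.rec (fun _ => Nat) (Ptab_147) (Ptab_s_148_150 c) (Nat.ble 148 c)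
noncomputable def Ptab_s_151_153 (c : Nat) : Nat := @Bool.rec (fun _ => Nat) (Ptab_151) (Ptab_152) (Nat.ble 152 c)
noncomputable def Ptab_s_150_153 (c : Nat) : Nat := @Bool.rec (fun _ => Nat) (Ptab_150) (Ptab_s_151_153 c) (Nat.ble 151 c)
noncomputable def Ptab_s_147_153 (c : Nat) : Nat := @Bool.rec (fun _ => Nat) (Ptab_s_147_150 c) (Ptab_s_150_153 c) (Nat.ble 150 c)
noncomputable def Ptab_s_154_156 (c : Nat) : Nat := @Bool.rec (fun _ => Nat) (Ptab_154) (Ptab_155) (Nat.ble 155 c)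
noncomputable def Ptab_s_153_156 (c : Nat) : Nat := @Bool.rec (fun _ => Nat) (Ptab_153) (Ptab_s_154_156 c) (Nat.ble 154 c)
noncomputable def Ptab_s_157_159 (c : Nat) : Nat := @Bool.rec (fun _ => Nat) (Ptab_157) (Ptab_158) (Nat.ble 158 c)
noncomputable def Ptab_s_156_159 (c : Nat) : Nat := @Bool.rec (fun _ => Nat) (Ptab_156) (Ptab_s_157_159 c) (Nat.ble 157 c)
noncomputable def Ptab_s_153_159 (c : Nat) : Nat := @Bool.rec (fun _ => Nat) (Ptab_s_153_156 c) (Ptab_s_156_159 c) (Nat.ble 156 c)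
noncomputable def Ptab_s_147_159 (c : Nat) : Nat := @Bool.rec (fun _ => Nat) (Ptab_s_147_153 c) (Ptab_s_153_159 c) (Nat.ble 153 c)
noncomputable def Ptab_s_136_159 (c : Nat) : Nat := @Bool.rec (fun _ => Nat) (Ptab_s_136_147 c) (Ptab_s_147_159 c) (Nat.ble 147 c)
noncomputable def Ptab_s_159_161 (c : Nat) : Nat := @Bool.rec (fun _ => Nat) (Ptab_159) (Ptab_160) (Nat.ble 160 c)
noncomputable def Ptab_s_162_164 (c : Nat) : Nat := @Bool.rec (fun _ => Nat) (Ptab_162) (Ptab_163) (Nat.ble 163 c)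
noncomputable def Ptab_s_161_164 (c : Nat) : Nat := @Bool.rec (fun _ => Nat) (Ptab_161) (Ptab_s_162_164 c) (Nat.ble 162 c)
noncomputable def Ptab_s_159_164 (c : Nat) : Nat := @Bool.rec (fun _ => Nat) (Ptab_s_159_161 c) (Ptab_s_161_164 c) (Nat.ble 161 c)
noncomputable def Ptab_s_165_167 (c : Nat) : Nat := @Bool.rec (fun _ => Nat) (Ptab_165) (Ptab_166) (Nat.ble 166 c)
noncomputable def Ptab_s_164_167 (c : Nat) : Nat := @Bool.rec (fun _ => Nat) (Ptab_164) (Ptab_s_165_167 c) (Nat.ble 165 c)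
noncomputable def Ptab_s_168_170 (c : Nat) : Nat := @Bool.rec (fun _ => Nat) (Ptab_168) (Ptab_169) (Nat.ble 169 c)
noncomputable def Ptab_s_167_170 (c : Nat) : Nat := @Bool.rec (fun _ => Nat) (Ptab_167) (Ptab_s_168_170 c) (Nat.ble 168 c)
noncomputable def Ptab_s_164_170 (c : Nat) : Nat := @Bool.rec (fun _ => Nat) (Ptab_s_164_167 c) (Ptab_s_167_170 c) (Nat.ble 167 c)
noncomputable def Ptab_s_159_170 (c : Nat) : Nat := @Bool.rec (fun _ => Nat) (Ptab_s_159_164 c) (Ptab_s_164_170 c) (Nat.ble 164 c)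
noncomputable def Ptab_s_171_173 (c : Nat) : Nat := @Bool.rec (fun _ => Nat) (Ptab_171) (Ptab_172) (Nat.ble 172 c)
noncomputable def Ptab_s_170_173 (c : Nat) : Nat := @Bool.rec (fun _ => Nat) (Ptab_170) (Ptab_s_171_173 c) (Nat.ble 171 c)
noncomputable def Ptab_s_174_176 (c : Nat) : Nat := @Bool.rec (fun _ => Nat) (Ptab_174) (Ptab_175) (Nat.ble 175 c)
noncomputable def Ptab_s_173_176 (c : Nat) : Nat := @Bool.rec (fun _ => Nat) (Ptab_173) (Ptab_s_174_176 c) (Nat.ble 174 c)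
noncomputable def Ptab_s_170_176 (c : Nat) : Nat := @Bool.rec (fun _ => Nat) (Ptab_s_170_173 c) (Ptab_s_173_176 c) (Nat.ble 173 c)
noncomputable def Ptab_s_177_179 (c : Nat) : Nat := @Bool.rec (fun _ => Nat) (Ptab_177) (Ptab_178) (Nat.ble 178 c)
noncomputable def Ptab_s_176_179 (c : Nat) : Nat := @Bool.rec (fun _ => Nat) (Ptab_176) (Ptab_s_177_179 c) (Nat.ble 177 c)
noncomputable def Ptab_s_180_182 (c : Nat) : Nat := @Bool.rec (fun _ => Nat) (Ptab_180) (Ptab_181) (Nat.ble 181 c)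
noncomputable def Ptab_s_179_182 (c : Nat) : Nat := @Bool.rec (fun _ => Nat) (Ptab_179) (Ptab_s_180_182 c) (Nat.ble 180 c)
noncomputable def Ptab_s_176_182 (c : Nat) : Nat := @Bool.rec (fun _ => Nat) (Ptab_s_176_179 c) (Ptab_s_179_182 c) (Nat.ble 179 c)
noncomputable def Ptab_s_170_182 (c : Nat) : Nat := @Bool.rec (fun _ => Nat) (Ptab_s_170_176 c) (Ptab_s_176_182 c) (Nat.ble 176 c)
noncomputable def Ptab_s_159_182 (c : Nat) : Nat := @Bool.rec (fun _ => Nat) (Ptab_s_159_170 c) (Ptab_s_170_182 c) (Nat.ble 170 c)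
noncomputable def Ptab_s_136_182 (c : Nat) : Nat := @Bool.rec (fun _ => Nat) (Ptab_s_136_159 c) (Ptab_s_159_182 c) (Nat.ble 159 c)
noncomputable def Ptab_s_91_182 (c : Nat) : Nat := @Bool.rec (fun _ => Nat) (Ptab_s_91_136 c) (Ptab_s_136_182 c) (Nat.ble 136 c)
noncomputable def Ptab_s_0_182 (c : Nat) : Nat := @Bool.rec (fun _ => Nat) (Ptab_s_0_91 c) (Ptab_s_91_182 c) (Nat.ble 91 c)
noncomputable def Ptab_s_182_184 (c : Nat) : Nat := @Bool.rec (fun _ => Nat) (Ptab_182) (Ptab_183) (Nat.ble 183 c)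
noncomputable def Ptab_s_185_187 (c : Nat) : Nat := @Bool.rec (fun _ => Nat) (Ptab_185) (Ptab_186) (Nat.ble 186 c)
noncomputable def Ptab_s_184_187 (c : Nat) : Nat := @Bool.rec (fun _ => Nat) (Ptab_184) (Ptab_s_185_187 c) (Nat.ble 185 c)
noncomputable def Ptab_s_182_187 (c : Nat) : Nat := @Bool.rec (fun _ => Nat) (Ptab_s_182_184 c) (Ptab_s_184_187 c) (Nat.ble 184 c)
noncomputable def Ptab_s_188_190 (c : Nat) : Nat := @Bool.rec (fun _ => Nat) (Ptab_188) (Ptab_189) (Nat.ble 189 c)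
noncomputable def Ptab_s_187_190 (c : Nat) : Nat := @Bool.rec (fun _ => Nat) (Ptab_187) (Ptab_s_188_190 c) (Nat.ble 188 c)
noncomputable def Ptab_s_191_193 (c : Nat) : Nat := @Bool.rec (fun _ => Nat) (Ptab_191) (Ptab_192) (Nat.ble 192 c)
noncomputable def Ptab_s_190_193 (c : Nat) : Nat := @Bool.rec (fun _ => Nat) (Ptab_190) (Ptab_s_191_193 c) (Nat.ble 191 c)
noncomputable def Ptab_s_187_193 (c : Nat) : Nat := @Bool.rec (fun _ => Nat) (Ptab_s_187_190 c) (Ptab_s_190_193 c) (Nat.ble 190 c)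
noncomputable def Ptab_s_182_193 (c : Nat) : Nat := @Bool.rec (fun _ => Nat) (Ptab_s_182_187 c) (Ptab_s_187_193 c) (Nat.ble 187 c)
noncomputable def Ptab_s_193_195 (c : Nat) : Nat := @Bool.rec (fun _ => Nat) (Ptab_193) (Ptab_194) (Nat.ble 194 c)
noncomputable def Ptab_s_196_198 (c : Nat) : Nat := @Bool.rec (fun _ => Nat) (Ptab_196) (Ptab_197) (Nat.ble 197 c)
noncomputable def Ptab_s_195_198 (c : Nat) : Nat := @Bool.rec (fun _ => Nat) (Ptab_195) (Ptab_s_196_198 c) (Nat.ble 196 c)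
noncomputable def Ptab_s_193_198 (c : Nat) : Nat := @Bool.rec (fun _ => Nat) (Ptab_s_193_195 c) (Ptab_s_195_198 c) (Nat.ble 195 c)
noncomputable def Ptab_s_199_201 (c : Nat) : Nat := @Bool.rec (fun _ => Nat) (Ptab_199) (Ptab_200) (Nat.ble 200 c)
noncomputable def Ptab_s_198_201 (c : Nat) : Nat := @Bool.rec (fun _ => Nat) (Ptab_198) (Ptab_s_199_201 c) (Nat.ble 199 c)
noncomputable def Ptab_s_202_204 (c : Nat) : Nat := @Bool.rec (fun _ => Nat) (Ptab_202) (Ptab_203) (Nat.ble 203 c)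
noncomputable def Ptab_s_201_204 (c : Nat) : Nat := @Bool.rec (fun _ => Nat) (Ptab_201) (Ptab_s_202_204 c) (Nat.ble 202 c)
noncomputable def Ptab_s_198_204 (c : Nat) : Nat := @Bool.rec (fun _ => Nat) (Ptab_s_198_201 c) (Ptab_s_201_204 c) (Nat.ble 201 c)
noncomputable def Ptab_s_193_204 (c : Nat) : Nat := @Bool.rec (fun _ => Nat) (Ptab_s_193_198 c) (Ptab_s_198_204 c) (Nat.ble 198 c)
noncomputable def Ptab_s_182_204 (c : Nat) : Nat := @Bool.rec (fun _ => Nat) (Ptab_s_182_193 c) (Ptab_s_193_204 c) (Nat.ble 193 c)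
noncomputable def Ptab_s_204_206 (c : Nat) : Nat := @Bool.rec (fun _ => Nat) (Ptab_204) (Ptab_205) (Nat.ble 205 c)
noncomputable def Ptab_s_207_209 (c : Nat) : Nat := @Bool.rec (fun _ => Nat) (Ptab_207) (Ptab_208) (Nat.ble 208 c)
noncomputable def Ptab_s_206_209 (c : Nat) : Nat := @Bool.rec (fun _ => Nat) (Ptab_206) (Ptab_s_207_209 c) (Nat.ble 207 c)
noncomputable def Ptab_s_204_209 (c : Nat) : Nat := @Bool.rec (fun _ => Nat) (Ptab_s_204_206 c) (Ptab_s_206_209 c) (Nat.ble 206 c)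
noncomputable def Ptab_s_210_212 (c : Nat) : Nat := @Bool.rec (fun _ => Nat) (Ptab_210) (Ptab_211) (Nat.ble 211 c)
noncomputable def Ptab_s_209_212 (c : Nat) : Nat := @Bool.rec (fun _ => Nat) (Ptab_209) (Ptab_s_210_212 c) (Nat.ble 210 c)
noncomputable def Ptab_s_213_215 (c : Nat) : Nat := @Bool.rec (fun _ => Nat) (Ptab_213) (Ptab_214) (Nat.ble 214 c)
noncomputable def Ptab_s_212_215 (c : Nat) : Nat := @Bool.rec (fun _ => Nat) (Ptab_212) (Ptab_s_213_215 c) (Nat.ble 213 c)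
noncomputable def Ptab_s_209_215 (c : Nat) : Nat := @Bool.rec (fun _ => Nat) (Ptab_s_209_212 c) (Ptab_s_212_215 c) (Nat.ble 212 c)
noncomputable def Ptab_s_204_215 (c : Nat) : Nat := @Bool.rec (fun _ => Nat) (Ptab_s_204_209 c) (Ptab_s_209_215 c) (Nat.ble 209 c)
noncomputable def Ptab_s_216_218 (c : Nat) : Nat := @Bool.rec (fun _ => Nat) (Ptab_216) (Ptab_217) (Nat.ble 217 c)
noncomputable def Ptab_s_215_218 (c : Nat) : Nat := @Bool.rec (fun _ => Nat) (Ptab_215) (Ptab_s_216_218 c) (Nat.ble 216 c)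
noncomputable def Ptab_s_219_221 (c : Nat) : Nat := @Bool.rec (fun _ => Nat) (Ptab_219) (Ptab_220) (Nat.ble 220 c)
noncomputable def Ptab_s_218_221 (c : Nat) : Nat := @Bool.rec (fun _ => Nat) (Ptab_218) (Ptab_s_219_221 c) (Nat.ble 219 c)
noncomputable def Ptab_s_215_221 (c : Nat) : Nat := @Bool.rec (fun _ => Nat) (Ptab_s_215_218 c) (Ptab_s_218_221 c) (Nat.ble 218 c)
noncomputable def Ptab_s_222_224 (c : Nat) : Nat := @Bool.rec (fun _ => Nat) (Ptab_222) (Ptab_223) (Nat.ble 223 c)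
noncomputable def Ptab_s_221_224 (c : Nat) : Nat := @Bool.rec (fun _ => Nat) (Ptab_221) (Ptab_s_222_224 c) (Nat.ble 222 c)
noncomputable def Ptab_s_225_227 (c : Nat) : Nat := @Bool.rec (fun _ => Nat) (Ptab_225) (Ptab_226) (Nat.ble 226 c)
noncomputable def Ptab_s_224_227 (c : Nat) : Nat := @Bool.rec (fun _ => Nat) (Ptab_224) (Ptab_s_225_227 c) (Nat.ble 225 c)
noncomputable def Ptab_s_221_227 (c : Nat) : Nat := @Bool.rec (fun _ => Nat) (Ptab_s_221_224 c) (Ptab_s_224_227 c) (Nat.ble 224 c)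
noncomputable def Ptab_s_215_227 (c : Nat) : Nat := @Bool.rec (fun _ => Nat) (Ptab_s_215_221 c) (Ptab_s_221_227 c) (Nat.ble 221 c)
noncomputable def Ptab_s_204_227 (c : Nat) : Nat := @Bool.rec (fun _ => Nat) (Ptab_s_204_215 c) (Ptab_s_215_227 c) (Nat.ble 215 c)
noncomputable def Ptab_s_182_227 (c : Nat) : Nat := @Bool.rec (fun _ => Nat) (Ptab_s_182_204 c) (Ptab_s_204_227 c) (Nat.ble 204 c)
noncomputable def Ptab_s_227_229 (c : Nat) : Nat := @Bool.rec (fun _ => Nat) (Ptab_227) (Ptab_228) (Nat.ble 228 c)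
noncomputable def Ptab_s_230_232 (c : Nat) : Nat := @Bool.rec (fun _ => Nat) (Ptab_230) (Ptab_231) (Nat.ble 231 c)
noncomputable def Ptab_s_229_232 (c : Nat) : Nat := @Bool.rec (fun _ => Nat) (Ptab_229) (Ptab_s_230_232 c) (Nat.ble 230 c)
noncomputable def Ptab_s_227_232 (c : Nat) : Nat := @Bool.rec (fun _ => Nat) (Ptab_s_227_229 c) (Ptab_s_229_232 c) (Nat.ble 229 c)
noncomputable def Ptab_s_233_235 (c : Nat) : Nat := @Bool.rec (fun _ => Nat) (Ptab_233) (Ptab_234) (Nat.ble 234 c)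
noncomputable def Ptab_s_232_235 (c : Nat) : Nat := @Bool.rec (fun _ => Nat) (Ptab_232) (Ptab_s_233_235 c) (Nat.ble 233 c)
noncomputable def Ptab_s_236_238 (c : Nat) : Nat := @Bool.rec (fun _ => Nat) (Ptab_236) (Ptab_237) (Nat.ble 237 c)
noncomputable def Ptab_s_235_238 (c : Nat) : Nat := @Bool.rec (fun _ => Nat) (Ptab_235) (Ptab_s_236_238 c) (Nat.ble 236 c)
noncomputable def Ptab_s_232_238 (c : Nat) : Nat := @Bool.rec (fun _ => Nat) (Ptab_s_232_235 c) (Ptab_s_235_238 c) (Nat.ble 235 c)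
noncomputable def Ptab_s_227_238 (c : Nat) : Nat := @Bool.rec (fun _ => Nat) (Ptab_s_227_232 c) (Ptab_s_232_238 c) (Nat.ble 232 c)
noncomputable def Ptab_s_239_241 (c : Nat) : Nat := @Bool.rec (fun _ => Nat) (Ptab_239) (Ptab_240) (Nat.ble 240 c)
noncomputable def Ptab_s_238_241 (c : Nat) : Nat := @Bool.rec (fun _ => Nat) (Ptab_238) (Ptab_s_239_241 c) (Nat.ble 239 c)
noncomputable def Ptab_s_242_244 (c : Nat) : Nat := @Bool.rec (fun _ => Nat) (Ptab_242) (Ptab_243) (Nat.ble 243 c)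
noncomputable def Ptab_s_241_244 (c : Nat) : Nat := @Bool.rec (fun _ => Nat) (Ptab_241) (Ptab_s_242_244 c) (Nat.ble 242 c)
noncomputable def Ptab_s_238_244 (c : Nat) : Nat := @Bool.rec (fun _ => Nat) (Ptab_s_238_241 c) (Ptab_s_241_244 c) (Nat.ble 241 c)
noncomputable def Ptab_s_245_247 (c : Nat) : Nat := @Bool.rec (fun _ => Nat) (Ptab_245) (Ptab_246) (Nat.ble 246 c)
noncomputable def Ptab_s_244_247 (c : Nat) : Nat := @Bool.rec (fun _ => Nat) (Ptab_244) (Ptab_s_245_247 c) (Nat.ble 245 c)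
noncomputable def Ptab_s_248_250 (c : Nat) : Nat := @Bool.rec (fun _ => Nat) (Ptab_248) (Ptab_249) (Nat.ble 249 c)
noncomputable def Ptab_s_247_250 (c : Nat) : Nat := @Bool.rec (fun _ => Nat) (Ptab_247) (Ptab_s_248_250 c) (Nat.ble 248 c)
noncomputable def Ptab_s_244_250 (c : Nat) : Nat := @Bool.rec (fun _ => Nat) (Ptab_s_244_247 c) (Ptab_s_247_250 c) (Nat.ble 247 c)
noncomputable def Ptab_s_238_250 (c : Nat) : Nat := @Bool.rec (fun _ => Nat) (Ptab_s_238_244 c) (Ptab_s_244_250 c) (Nat.ble 244 c)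
noncomputable def Ptab_s_227_250 (c : Nat) : Nat := @Bool.rec (fun _ => Nat) (Ptab_s_227_238 c) (Ptab_s_238_250 c) (Nat.ble 238 c)
noncomputable def Ptab_s_250_252 (c : Nat) : Nat := @Bool.rec (fun _ => Nat) (Ptab_250) (Ptab_251) (Nat.ble 251 c)
noncomputable def Ptab_s_253_255 (c : Nat) : Nat := @Bool.rec (fun _ => Nat) (Ptab_253) (Ptab_254) (Nat.ble 254 c)
noncomputable def Ptab_s_252_255 (c : Nat) : Nat := @Bool.rec (fun _ => Nat) (Ptab_252) (Ptab_s_253_255 c) (Nat.ble 253 c)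
noncomputable def Ptab_s_250_255 (c : Nat) : Nat := @Bool.rec (fun _ => Nat) (Ptab_s_250_252 c) (Ptab_s_252_255 c) (Nat.ble 252 c)
noncomputable def Ptab_s_256_258 (c : Nat) : Nat := @Bool.rec (fun _ => Nat) (Ptab_256) (Ptab_257) (Nat.ble 257 c)
noncomputable def Ptab_s_255_258 (c : Nat) : Nat := @Bool.rec (fun _ => Nat) (Ptab_255) (Ptab_s_256_258 c) (Nat.ble 256 c)
noncomputable def Ptab_s_259_261 (c : Nat) : Nat := @Bool.rec (fun _ => Nat) (Ptab_259) (Ptab_260) (Nat.ble 260 c)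
noncomputable def Ptab_s_258_261 (c : Nat) : Nat := @Bool.rec (fun _ => Nat) (Ptab_258) (Ptab_s_259_261 c) (Nat.ble 259 c)
noncomputable def Ptab_s_255_261 (c : Nat) : Nat := @Bool.rec (fun _ => Nat) (Ptab_s_255_258 c) (Ptab_s_258_261 c) (Nat.ble 258 c)
noncomputable def Ptab_s_250_261 (c : Nat) : Nat := @Bool.rec (fun _ => Nat) (Ptab_s_250_255 c) (Ptab_s_255_261 c) (Nat.ble 255 c)
noncomputable def Ptab_s_262_264 (c : Nat) : Nat := @Bool.rec (fun _ => Nat) (Ptab_262) (Ptab_263) (Nat.ble 263 c)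
noncomputable def Ptab_s_261_264 (c : Nat) : Nat := @Bool.rec (fun _ => Nat) (Ptab_261) (Ptab_s_262_264 c) (Nat.ble 262 c)
noncomputable def Ptab_s_265_267 (c : Nat) : Nat := @Bool.rec (fun _ => Nat) (Ptab_265) (Ptab_266) (Nat.ble 266 c)
noncomputable def Ptab_s_264_267 (c : Nat) : Nat := @Bool.rec (fun _ => Nat) (Ptab_264) (Ptab_s_265_267 c) (Nat.ble 265 c)
noncomputable def Ptab_s_261_267 (c : Nat) : Nat := @Bool.rec (fun _ => Nat) (Ptab_s_261_264 c) (Ptab_s_264_267 c) (Nat.ble 264 c)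
noncomputable def Ptab_s_268_270 (c : Nat) : Nat := @Bool.rec (fun _ => Nat) (Ptab_268) (Ptab_269) (Nat.ble 269 c)
noncomputable def Ptab_s_267_270 (c : Nat) : Nat := @Bool.rec (fun _ => Nat) (Ptab_267) (Ptab_s_268_270 c) (Nat.ble 268 c)
noncomputable def Ptab_s_271_273 (c : Nat) : Nat := @Bool.rec (fun _ => Nat) (Ptab_271) (Ptab_272) (Nat.ble 272 c)
noncomputable def Ptab_s_270_273 (c : Nat) : Nat := @Bool.rec (fun _ => Nat) (Ptab_270) (Ptab_s_271_273 c) (Nat.ble 271 c)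
noncomputable def Ptab_s_267_273 (c : Nat) : Nat := @Bool.rec (fun _ => Nat) (Ptab_s_267_270 c) (Ptab_s_270_273 c) (Nat.ble 270 c)
noncomputable def Ptab_s_261_273 (c : Nat) : Nat := @Bool.rec (fun _ => Nat) (Ptab_s_261_267 c) (Ptab_s_267_273 c) (Nat.ble 267 c)
noncomputable def Ptab_s_250_273 (c : Nat) : Nat := @Bool.rec (fun _ => Nat) (Ptab_s_250_261 c) (Ptab_s_261_273 c) (Nat.ble 261 c)
noncomputable def Ptab_s_227_273 (c : Nat) : Nat := @Bool.rec (fun _ => Nat) (Ptab_s_227_250 c) (Ptab_s_250_273 c) (Nat.ble 250 c)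
noncomputable def Ptab_s_182_273 (c : Nat) : Nat := @Bool.rec (fun _ => Nat) (Ptab_s_182_227 c) (Ptab_s_227_273 c) (Nat.ble 227 c)
noncomputable def Ptab_s_273_275 (c : Nat) : Nat := @Bool.rec (fun _ => Nat) (Ptab_273) (Ptab_274) (Nat.ble 274 c)
noncomputable def Ptab_s_276_278 (c : Nat) : Nat := @Bool.rec (fun _ => Nat) (Ptab_276) (Ptab_277) (Nat.ble 277 c)
noncomputable def Ptab_s_275_278 (c : Nat) : Nat := @Bool.rec (fun _ => Nat) (Ptab_275) (Ptab_s_276_278 c) (Nat.ble 276 c)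
noncomputable def Ptab_s_273_278 (c : Nat) : Nat := @Bool.rec (fun _ => Nat) (Ptab_s_273_275 c) (Ptab_s_275_278 c) (Nat.ble 275 c)
noncomputable def Ptab_s_279_281 (c : Nat) : Nat := @Bool.rec (fun _ => Nat) (Ptab_279) (Ptab_280) (Nat.ble 280 c)
noncomputable def Ptab_s_278_281 (c : Nat) : Nat := @Bool.rec (fun _ => Nat) (Ptab_278) (Ptab_s_279_281 c) (Nat.ble 279 c)
noncomputable def Ptab_s_282_284 (c : Nat) : Nat := @Bool.rec (fun _ => Nat) (Ptab_282) (Ptab_283) (Nat.ble 283 c)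
noncomputable def Ptab_s_281_284 (c : Nat) : Nat := @Bool.rec (fun _ => Nat) (Ptab_281) (Ptab_s_282_284 c) (Nat.ble 282 c)
noncomputable def Ptab_s_278_284 (c : Nat) : Nat := @Bool.rec (fun _ => Nat) (Ptab_s_278_281 c) (Ptab_s_281_284 c) (Nat.ble 281 c)
noncomputable def Ptab_s_273_284 (c : Nat) : Nat := @Bool.rec (fun _ => Nat) (Ptab_s_273_278 c) (Ptab_s_278_284 c) (Nat.ble 278 c)
noncomputable def Ptab_s_285_287 (c : Nat) : Nat := @Bool.rec (fun _ => Nat) (Ptab_285) (Ptab_286) (Nat.ble 286 c)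
noncomputable def Ptab_s_284_287 (c : Nat) : Nat := @Bool.rec (fun _ => Nat) (Ptab_284) (Ptab_s_285_287 c) (Nat.ble 285 c)
noncomputable def Ptab_s_288_290 (c : Nat) : Nat := @Bool.rec (fun _ => Nat) (Ptab_288) (Ptab_289) (Nat.ble 289 c)
noncomputable def Ptab_s_287_290 (c : Nat) : Nat := @Bool.rec (fun _ => Nat) (Ptab_287) (Ptab_s_288_290 c) (Nat.ble 288 c)
noncomputable def Ptab_s_284_290 (c : Nat) : Nat := @Bool.rec (fun _ => Nat) (Ptab_s_284_287 c) (Ptab_s_287_290 c) (Nat.ble 287 c)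
noncomputable def Ptab_s_291_293 (c : Nat) : Nat := @Bool.rec (fun _ => Nat) (Ptab_291) (Ptab_292) (Nat.ble 292 c)
noncomputable def Ptab_s_290_293 (c : Nat) : Nat := @Bool.rec (fun _ => Nat) (Ptab_290) (Ptab_s_291_293 c) (Nat.ble 291 c)
noncomputable def Ptab_s_294_296 (c : Nat) : Nat := @Bool.rec (fun _ => Nat) (Ptab_294) (Ptab_295) (Nat.ble 295 c)
noncomputable def Ptab_s_293_296 (c : Nat) : Nat := @Bool.rec (fun _ => Nat) (Ptab_293) (Ptab_s_294_296 c) (Nat.ble 294 c)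
noncomputable def Ptab_s_290_296 (c : Nat) : Nat := @Bool.rec (fun _ => Nat) (Ptab_s_290_293 c) (Ptab_s_293_296 c) (Nat.ble 293 c)
noncomputable def Ptab_s_284_296 (c : Nat) : Nat := @Bool.rec (fun _ => Nat) (Ptab_s_284_290 c) (Ptab_s_290_296 c) (Nat.ble 290 c)
noncomputable def Ptab_s_273_296 (c : Nat) : Nat := @Bool.rec (fun _ => Nat) (Ptab_s_273_284 c) (Ptab_s_284_296 c) (Nat.ble 284 c)
noncomputable def Ptab_s_296_298 (c : Nat) : Nat := @Bool.rec (fun _ => Nat) (Ptab_296) (Ptab_297) (Nat.ble 297 c)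
noncomputable def Ptab_s_299_301 (c : Nat) : Nat := @Bool.rec (fun _ => Nat) (Ptab_299) (Ptab_300) (Nat.ble 300 c)
noncomputable def Ptab_s_298_301 (c : Nat) : Nat := @Bool.rec (fun _ => Nat) (Ptab_298) (Ptab_s_299_301 c) (Nat.ble 299 c)
noncomputable def Ptab_s_296_301 (c : Nat) : Nat := @Bool.rec (fun _ => Nat) (Ptab_s_296_298 c) (Ptab_s_298_301 c) (Nat.ble 298 c)
noncomputable def Ptab_s_302_304 (c : Nat) : Nat := @Bool.rec (fun _ => Nat) (Ptab_302) (Ptab_303) (Nat.ble 303 c)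
noncomputable def Ptab_s_301_304 (c : Nat) : Nat := @Bool.rec (fun _ => Nat) (Ptab_301) (Ptab_s_302_304 c) (Nat.ble 302 c)
noncomputable def Ptab_s_305_307 (c : Nat) : Nat := @Bool.rec (fun _ => Nat) (Ptab_305) (Ptab_306) (Nat.ble 306 c)
noncomputable def Ptab_s_304_307 (c : Nat) : Nat := @Bool.rec (fun _ => Nat) (Ptab_304) (Ptab_s_305_307 c) (Nat.ble 305 c)
noncomputable def Ptab_s_301_307 (c : Nat) : Nat := @Bool.rec (fun _ => Nat) (Ptab_s_301_304 c) (Ptab_s_304_307 c) (Nat.ble 304 c)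
noncomputable def Ptab_s_296_307 (c : Nat) : Nat := @Bool.rec (fun _ => Nat) (Ptab_s_296_301 c) (Ptab_s_301_307 c) (Nat.ble 301 c)
noncomputable def Ptab_s_308_310 (c : Nat) : Nat := @Bool.rec (fun _ => Nat) (Ptab_308) (Ptab_309) (Nat.ble 309 c)
noncomputable def Ptab_s_307_310 (c : Nat) : Nat := @Bool.rec (fun _ => Nat) (Ptab_307) (Ptab_s_308_310 c) (Nat.ble 308 c)
noncomputable def Ptab_s_311_313 (c : Nat) : Nat := @Bool.rec (fun _ => Nat) (Ptab_311) (Ptab_312) (Nat.ble 312 c)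
noncomputable def Ptab_s_310_313 (c : Nat) : Nat := @Bool.rec (fun _ => Nat) (Ptab_310) (Ptab_s_311_313 c) (Nat.ble 311 c)
noncomputable def Ptab_s_307_313 (c : Nat) : Nat := @Bool.rec (fun _ => Nat) (Ptab_s_307_310 c) (Ptab_s_310_313 c) (Nat.ble 310 c)
noncomputable def Ptab_s_314_316 (c : Nat) : Nat := @Bool.rec (fun _ => Nat) (Ptab_314) (Ptab_315) (Nat.ble 315 c)
noncomputable def Ptab_s_313_316 (c : Nat) : Nat := @Bool.rec (fun _ => Nat) (Ptab_313) (Ptab_s_314_316 c) (Nat.ble 314 c)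
noncomputable def Ptab_s_317_319 (c : Nat) : Nat := @Bool.rec (fun _ => Nat) (Ptab_317) (Ptab_318) (Nat.ble 318 c)
noncomputable def Ptab_s_316_319 (c : Nat) : Nat := @Bool.rec (fun _ => Nat) (Ptab_316) (Ptab_s_317_319 c) (Nat.ble 317 c)
noncomputable def Ptab_s_313_319 (c : Nat) : Nat := @Bool.rec (fun _ => Nat) (Ptab_s_313_316 c) (Ptab_s_316_319 c) (Nat.ble 316 c)
noncomputable def Ptab_s_307_319 (c : Nat) : Nat := @Bool.rec (fun _ => Nat) (Ptab_s_307_313 c) (Ptab_s_313_319 c) (Nat.ble 313 c)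
noncomputable def Ptab_s_296_319 (c : Nat) : Nat := @Bool.rec (fun _ => Nat) (Ptab_s_296_307 c) (Ptab_s_307_319 c) (Nat.ble 307 c)
noncomputable def Ptab_s_273_319 (c : Nat) : Nat := @Bool.rec (fun _ => Nat) (Ptab_s_273_296 c) (Ptab_s_296_319 c) (Nat.ble 296 c)
noncomputable def Ptab_s_319_321 (c : Nat) : Nat := @Bool.rec (fun _ => Nat) (Ptab_319) (Ptab_320) (Nat.ble 320 c)
noncomputable def Ptab_s_322_324 (c : Nat) : Nat := @Bool.rec (fun _ => Nat) (Ptab_322) (Ptab_323) (Nat.ble 323 c)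
noncomputable def Ptab_s_321_324 (c : Nat) : Nat := @Bool.rec (fun _ => Nat) (Ptab_321) (Ptab_s_322_324 c) (Nat.ble 322 c)
noncomputable def Ptab_s_319_324 (c : Nat) : Nat := @Bool.rec (fun _ => Nat) (Ptab_s_319_321 c) (Ptab_s_321_324 c) (Nat.ble 321 c)
noncomputable def Ptab_s_325_327 (c : Nat) : Nat := @Bool.rec (fun _ => Nat) (Ptab_325) (Ptab_326) (Nat.ble 326 c)
noncomputable def Ptab_s_324_327 (c : Nat) : Nat := @Bool.rec (fun _ => Nat) (Ptab_324) (Ptab_s_325_327 c) (Nat.ble 325 c)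
noncomputable def Ptab_s_328_330 (c : Nat) : Nat := @Bool.rec (fun _ => Nat) (Ptab_328) (Ptab_329) (Nat.ble 329 c)
noncomputable def Ptab_s_327_330 (c : Nat) : Nat := @Bool.rec (fun _ => Nat) (Ptab_327) (Ptab_s_328_330 c) (Nat.ble 328 c)
noncomputable def Ptab_s_324_330 (c : Nat) : Nat := @Bool.rec (fun _ => Nat) (Ptab_s_324_327 c) (Ptab_s_327_330 c) (Nat.ble 327 c)
noncomputable def Ptab_s_319_330 (c : Nat) : Nat := @Bool.rec (fun _ => Nat) (Ptab_s_319_324 c) (Ptab_s_324_330 c) (Nat.ble 324 c)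
noncomputable def Ptab_s_331_333 (c : Nat) : Nat := @Bool.rec (fun _ => Nat) (Ptab_331) (Ptab_332) (Nat.ble 332 c)
noncomputable def Ptab_s_330_333 (c : Nat) : Nat := @Bool.rec (fun _ => Nat) (Ptab_330) (Ptab_s_331_333 c) (Nat.ble 331 c)
noncomputable def Ptab_s_334_336 (c : Nat) : Nat := @Bool.rec (fun _ => Nat) (Ptab_334) (Ptab_335) (Nat.ble 335 c)
noncomputable def Ptab_s_333_336 (c : Nat) : Nat := @Bool.rec (fun _ => Nat) (Ptab_333) (Ptab_s_334_336 c) (Nat.ble 334 c)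
noncomputable def Ptab_s_330_336 (c : Nat) : Nat := @Bool.rec (fun _ => Nat) (Ptab_s_330_333 c) (Ptab_s_333_336 c) (Nat.ble 333 c)
noncomputable def Ptab_s_337_339 (c : Nat) : Nat := @Bool.rec (fun _ => Nat) (Ptab_337) (Ptab_338) (Nat.ble 338 c)
noncomputable def Ptab_s_336_339 (c : Nat) : Nat := @Bool.rec (fun _ => Nat) (Ptab_336) (Ptab_s_337_339 c) (Nat.ble 337 c)
noncomputable def Ptab_s_340_342 (c : Nat) : Nat := @Bool.rec (fun _ => Nat) (Ptab_340) (Ptab_341) (Nat.ble 341 c)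
noncomputable def Ptab_s_339_342 (c : Nat) : Nat := @Bool.rec (fun _ => Nat) (Ptab_339) (Ptab_s_340_342 c) (Nat.ble 340 c)
noncomputable def Ptab_s_336_342 (c : Nat) : Nat := @Bool.rec (fun _ => Nat) (Ptab_s_336_339 c) (Ptab_s_339_342 c) (Nat.ble 339 c)
noncomputable def Ptab_s_330_342 (c : Nat) : Nat := @Bool.rec (fun _ => Nat) (Ptab_s_330_336 c) (Ptab_s_336_342 c) (Nat.ble 336 c)
noncomputable def Ptab_s_319_342 (c : Nat) : Nat := @Bool.rec (fun _ => Nat) (Ptab_s_319_330 c) (Ptab_s_330_342 c) (Nat.ble 330 c)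
noncomputable def Ptab_s_342_344 (c : Nat) : Nat := @Bool.rec (fun _ => Nat) (Ptab_342) (Ptab_343) (Nat.ble 343 c)
noncomputable def Ptab_s_345_347 (c : Nat) : Nat := @Bool.rec (fun _ => Nat) (Ptab_345) (Ptab_346) (Nat.ble 346 c)
noncomputable def Ptab_s_344_347 (c : Nat) : Nat := @Bool.rec (fun _ => Nat) (Ptab_344) (Ptab_s_345_347 c) (Nat.ble 345 c)
noncomputable def Ptab_s_342_347 (c : Nat) : Nat := @Bool.rec (fun _ => Nat) (Ptab_s_342_344 c) (Ptab_s_344_347 c) (Nat.ble 344 c)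
noncomputable def Ptab_s_348_350 (c : Nat) : Nat := @Bool.rec (fun _ => Nat) (Ptab_348) (Ptab_349) (Nat.ble 349 c)
noncomputable def Ptab_s_347_350 (c : Nat) : Nat := @Bool.rec (fun _ => Nat) (Ptab_347) (Ptab_s_348_350 c) (Nat.ble 348 c)
noncomputable def Ptab_s_351_353 (c : Nat) : Nat := @Bool.rec (fun _ => Nat) (Ptab_351) (Ptab_352) (Nat.ble 352 c)
noncomputable def Ptab_s_350_353 (c : Nat) : Nat := @Bool.rec (fun _ => Nat) (Ptab_350) (Ptab_s_351_353 c) (Nat.ble 351 c)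
noncomputable def Ptab_s_347_353 (c : Nat) : Nat := @Bool.rec (fun _ => Nat) (Ptab_s_347_350 c) (Ptab_s_350_353 c) (Nat.ble 350 c)
noncomputable def Ptab_s_342_353 (c : Nat) : Nat := @Bool.rec (fun _ => Nat) (Ptab_s_342_347 c) (Ptab_s_347_353 c) (Nat.ble 347 c)
noncomputable def Ptab_s_354_356 (c : Nat) : Nat := @Bool.rec (fun _ => Nat) (Ptab_354) (Ptab_355) (Nat.ble 355 c)
noncomputable def Ptab_s_353_356 (c : Nat) : Nat := @Bool.rec (fun _ => Nat) (Ptab_353) (Ptab_s_354_356 c) (Nat.ble 354 c)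
noncomputable def Ptab_s_357_359 (c : Nat) : Nat := @Bool.rec (fun _ => Nat) (Ptab_357) (Ptab_358) (Nat.ble 358 c)
noncomputable def Ptab_s_356_359 (c : Nat) : Nat := @Bool.rec (fun _ => Nat) (Ptab_356) (Ptab_s_357_359 c) (Nat.ble 357 c)
noncomputable def Ptab_s_353_359 (c : Nat) : Nat := @Bool.rec (fun _ => Nat) (Ptab_s_353_356 c) (Ptab_s_356_359 c) (Nat.ble 356 c)
noncomputable def Ptab_s_360_362 (c : Nat) : Nat := @Bool.rec (fun _ => Nat) (Ptab_360) (Ptab_361) (Nat.ble 361 c)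
noncomputable def Ptab_s_359_362 (c : Nat) : Nat := @Bool.rec (fun _ => Nat) (Ptab_359) (Ptab_s_360_362 c) (Nat.ble 360 c)
noncomputable def Ptab_s_363_365 (c : Nat) : Nat := @Bool.rec (fun _ => Nat) (Ptab_363) (Ptab_364) (Nat.ble 364 c)
noncomputable def Ptab_s_362_365 (c : Nat) : Nat := @Bool.rec (fun _ => Nat) (Ptab_362) (Ptab_s_363_365 c) (Nat.ble 363 c)
noncomputable def Ptab_s_359_365 (c : Nat) : Nat := @Bool.rec (fun _ => Nat) (Ptab_s_359_362 c) (Ptab_s_362_365 c) (Nat.ble 362 c)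
noncomputable def Ptab_s_353_365 (c : Nat) : Nat := @Bool.rec (fun _ => Nat) (Ptab_s_353_359 c) (Ptab_s_359_365 c) (Nat.ble 359 c)
noncomputable def Ptab_s_342_365 (c : Nat) : Nat := @Bool.rec (fun _ => Nat) (Ptab_s_342_353 c) (Ptab_s_353_365 c) (Nat.ble 353 c)
noncomputable def Ptab_s_319_365 (c : Nat) : Nat := @Bool.rec (fun _ => Nat) (Ptab_s_319_342 c) (Ptab_s_342_365 c) (Nat.ble 342 c)
noncomputable def Ptab_s_273_365 (c : Nat) : Nat := @Bool.rec (fun _ => Nat) (Ptab_s_273_319 c) (Ptab_s_319_365 c) (Nat.ble 319 c)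
noncomputable def Ptab_s_182_365 (c : Nat) : Nat := @Bool.rec (fun _ => Nat) (Ptab_s_182_273 c) (Ptab_s_273_365 c) (Nat.ble 273 c)
noncomputable def Ptab_s_0_365 (c : Nat) : Nat := @Bool.rec (fun _ => Nat) (Ptab_s_0_182 c) (Ptab_s_182_365 c) (Nat.ble 182 c)
noncomputable def Ptab (i : Nat) : Nat := rdw 20 1048575 (Ptab_s_0_365 (Nat.shiftRight i 12)) (Nat.land i 4095)
noncomputable def RRtab (i : Nat) : Nat := rdw 4 15 RRtab_0 i
noncomputable def rBtab (i : Nat) : Nat := rdw 10 1023 rBtab_0 i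
noncomputable def rLtab (i : Nat) : Nat := rdw 5 31 rLtab_0 i
noncomputable def nameTab_s_0_2 (c : Nat) : Nat := @Bool.rec (fun _ => Nat) (nameTab_0) (nameTab_1) (Nat.ble 1 c)
noncomputable def nameTab_s_2_4 (c : Nat) : Nat := @Bool.rec (fun _ => Nat) (nameTab_2) (nameTab_3) (Nat.ble 3 c)
noncomputable def nameTab_s_0_4 (c : Nat) : Nat := @Bool.rec (fun _ => Nat) (nameTab_s_0_2 c) (nameTab_s_2_4 c) (Nat.ble 2 c)
noncomputable def nameTab_s_4_6 (c : Nat) : Nat := @Bool.rec (fun _ => Nat) (nameTab_4) (nameTab_5) (Nat.ble 5 c)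
noncomputable def nameTab_s_6_8 (c : Nat) : Nat := @Bool.rec (fun _ => Nat) (nameTab_6) (nameTab_7) (Nat.ble 7 c)
noncomputable def nameTab_s_4_8 (c : Nat) : Nat := @Bool.rec (fun _ => Nat) (nameTab_s_4_6 c) (nameTab_s_6_8 c) (Nat.ble 6 c)
noncomputable def nameTab_s_0_8 (c : Nat) : Nat := @Bool.rec (fun _ => Nat) (nameTab_s_0_4 c) (nameTab_s_4_8 c) (Nat.ble 4 c)
noncomputable def nameTab_s_8_10 (c : Nat) : Nat := @Bool.rec (fun _ => Nat) (nameTab_8) (nameTab_9) (Nat.ble 9 c)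
noncomputable def nameTab_s_10_12 (c : Nat) : Nat := @Bool.rec (fun _ => Nat) (nameTab_10) (nameTab_11) (Nat.ble 11 c)
noncomputable def nameTab_s_8_12 (c : Nat) : Nat := @Bool.rec (fun _ => Nat) (nameTab_s_8_10 c) (nameTab_s_10_12 c) (Nat.ble 10 c)
noncomputable def nameTab_s_12_14 (c : Nat) : Nat := @Bool.rec (fun _ => Nat) (nameTab_12) (nameTab_13) (Nat.ble 13 c)
noncomputable def nameTab_s_15_17 (c : Nat) : Nat := @Bool.rec (fun _ => Nat) (nameTab_15) (nameTab_16) (Nat.ble 16 c)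
noncomputable def nameTab_s_14_17 (c : Nat) : Nat := @Bool.rec (fun _ => Nat) (nameTab_14) (nameTab_s_15_17 c) (Nat.ble 15 c)
noncomputable def nameTab_s_12_17 (c : Nat) : Nat := @Bool.rec (fun _ => Nat) (nameTab_s_12_14 c) (nameTab_s_14_17 c) (Nat.ble 14 c)
noncomputable def nameTab_s_8_17 (c : Nat) : Nat := @Bool.rec (fun _ => Nat) (nameTab_s_8_12 c) (nameTab_s_12_17 c) (Nat.ble 12 c)
noncomputable def nameTab_s_0_17 (c : Nat) : Nat := @Bool.rec (fun _ => Nat) (nameTab_s_0_8 c) (nameTab_s_8_17 c) (Nat.ble 8 c)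
noncomputable def nameTab (i : Nat) : Nat := rdw 17 131071 (nameTab_s_0_17 (Nat.shiftRight i 12)) (Nat.land i 4095)
noncomputable def col0_s_0_2 (c : Nat) : Nat := @Bool.rec (fun _ => Nat) (col0_0) (col0_1) (Nat.ble 1 c)
noncomputable def col0_s_2_4 (c : Nat) : Nat := @Bool.rec (fun _ => Nat) (col0_2) (col0_3) (Nat.ble 3 c)
noncomputable def col0_s_0_4 (c : Nat) : Nat := @Bool.rec (fun _ => Nat) (col0_s_0_2 c) (col0_s_2_4 c) (Nat.ble 2 c)
noncomputable def col0_s_4_6 (c : Nat) : Nat := @Bool.rec (fun _ => Nat) (col0_4) (col0_5) (Nat.ble 5 c)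
noncomputable def col0_s_6_8 (c : Nat) : Nat := @Bool.rec (fun _ => Nat) (col0_6) (col0_7) (Nat.ble 7 c)
noncomputable def col0_s_4_8 (c : Nat) : Nat := @Bool.rec (fun _ => Nat) (col0_s_4_6 c) (col0_s_6_8 c) (Nat.ble 6 c)
noncomputable def col0_s_0_8 (c : Nat) : Nat := @Bool.rec (fun _ => Nat) (col0_s_0_4 c) (col0_s_4_8 c) (Nat.ble 4 c)
noncomputable def col0_s_8_10 (c : Nat) : Nat := @Bool.rec (fun _ => Nat) (col0_8) (col0_9) (Nat.ble 9 c)
noncomputable def col0_s_10_12 (c : Nat) : Nat := @Bool.rec (fun _ => Nat) (col0_10) (col0_11) (Nat.ble 11 c)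
noncomputable def col0_s_8_12 (c : Nat) : Nat := @Bool.rec (fun _ => Nat) (col0_s_8_10 c) (col0_s_10_12 c) (Nat.ble 10 c)
noncomputable def col0_s_12_14 (c : Nat) : Nat := @Bool.rec (fun _ => Nat) (col0_12) (col0_13) (Nat.ble 13 c)
noncomputable def col0_s_15_17 (c : Nat) : Nat := @Bool.rec (fun _ => Nat) (col0_15) (col0_16) (Nat.ble 16 c)
noncomputable def col0_s_14_17 (c : Nat) : Nat := @Bool.rec (fun _ => Nat) (col0_14) (col0_s_15_17 c) (Nat.ble 15 c)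
noncomputable def col0_s_12_17 (c : Nat) : Nat := @Bool.rec (fun _ => Nat) (col0_s_12_14 c) (col0_s_14_17 c) (Nat.ble 14 c)
noncomputable def col0_s_8_17 (c : Nat) : Nat := @Bool.rec (fun _ => Nat) (col0_s_8_12 c) (col0_s_12_17 c) (Nat.ble 12 c)
noncomputable def col0_s_0_17 (c : Nat) : Nat := @Bool.rec (fun _ => Nat) (col0_s_0_8 c) (col0_s_8_17 c) (Nat.ble 8 c)
noncomputable def col0 (i : Nat) : Nat := rdw 17 131071 (col0_s_0_17 (Nat.shiftRight i 12)) (Nat.land i 4095)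
noncomputable def col1_s_0_2 (c : Nat) : Nat := @Bool.rec (fun _ => Nat) (col1_0) (col1_1) (Nat.ble 1 c)
noncomputable def col1_s_2_4 (c : Nat) : Nat := @Bool.rec (fun _ => Nat) (col1_2) (col1_3) (Nat.ble 3 c)
noncomputable def col1_s_0_4 (c : Nat) : Nat := @Bool.rec (fun _ => Nat) (col1_s_0_2 c) (col1_s_2_4 c) (Nat.ble 2 c)
noncomputable def col1_s_4_6 (c : Nat) : Nat := @Bool.rec (fun _ => Nat) (col1_4) (col1_5) (Nat.ble 5 c)
noncomputable def col1_s_6_8 (c : Nat) : Nat := @Bool.rec (fun _ => Nat) (col1_6) (col1_7) (Nat.ble 7 c)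
noncomputable def col1_s_4_8 (c : Nat) : Nat := @Bool.rec (fun _ => Nat) (col1_s_4_6 c) (col1_s_6_8 c) (Nat.ble 6 c)
noncomputable def col1_s_0_8 (c : Nat) : Nat := @Bool.rec (fun _ => Nat) (col1_s_0_4 c) (col1_s_4_8 c) (Nat.ble 4 c)
noncomputable def col1_s_8_10 (c : Nat) : Nat := @Bool.rec (fun _ => Nat) (col1_8) (col1_9) (Nat.ble 9 c)
noncomputable def col1_s_10_12 (c : Nat) : Nat := @Bool.rec (fun _ => Nat) (col1_10) (col1_11) (Nat.ble 11 c)
noncomputable def col1_s_8_12 (c : Nat) : Nat := @Bool.rec (fun _ => Nat) (col1_s_8_10 c) (col1_s_10_12 c) (Nat.ble 10 c)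
noncomputable def col1_s_12_14 (c : Nat) : Nat := @Bool.rec (fun _ => Nat) (col1_12) (col1_13) (Nat.ble 13 c)
noncomputable def col1_s_15_17 (c : Nat) : Nat := @Bool.rec (fun _ => Nat) (col1_15) (col1_16) (Nat.ble 16 c)
noncomputable def col1_s_14_17 (c : Nat) : Nat := @Bool.rec (fun _ => Nat) (col1_14) (col1_s_15_17 c) (Nat.ble 15 c)
noncomputable def col1_s_12_17 (c : Nat) : Nat := @Bool.rec (fun _ => Nat) (col1_s_12_14 c) (col1_s_14_17 c) (Nat.ble 14 c)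
noncomputable def col1_s_8_17 (c : Nat) : Nat := @Bool.rec (fun _ => Nat) (col1_s_8_12 c) (col1_s_12_17 c) (Nat.ble 12 c)
noncomputable def col1_s_0_17 (c : Nat) : Nat := @Bool.rec (fun _ => Nat) (col1_s_0_8 c) (col1_s_8_17 c) (Nat.ble 8 c)
noncomputable def col1 (i : Nat) : Nat := rdw 17 131071 (col1_s_0_17 (Nat.shiftRight i 12)) (Nat.land i 4095)
noncomputable def col2_s_0_2 (c : Nat) : Nat := @Bool.rec (fun _ => Nat) (col2_0) (col2_1) (Nat.ble 1 c)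
noncomputable def col2_s_2_4 (c : Nat) : Nat := @Bool.rec (fun _ => Nat) (col2_2) (col2_3) (Nat.ble 3 c)
noncomputable def col2_s_0_4 (c : Nat) : Nat := @Bool.rec (fun _ => Nat) (col2_s_0_2 c) (col2_s_2_4 c) (Nat.ble 2 c)
noncomputable def col2_s_4_6 (c : Nat) : Nat := @Bool.rec (fun _ => Nat) (col2_4) (col2_5) (Nat.ble 5 c)
noncomputable def col2_s_6_8 (c : Nat) : Nat := @Bool.rec (fun _ => Nat) (col2_6) (col2_7) (Nat.ble 7 c)
noncomputable def col2_s_4_8 (c : Nat) : Nat := @Bool.rec (fun _ => Nat) (col2_s_4_6 c) (col2_s_6_8 c) (Nat.ble 6 c)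
noncomputable def col2_s_0_8 (c : Nat) : Nat := @Bool.rec (fun _ => Nat) (col2_s_0_4 c) (col2_s_4_8 c) (Nat.ble 4 c)
noncomputable def col2_s_8_10 (c : Nat) : Nat := @Bool.rec (fun _ => Nat) (col2_8) (col2_9) (Nat.ble 9 c)
noncomputable def col2_s_10_12 (c : Nat) : Nat := @Bool.rec (fun _ => Nat) (col2_10) (col2_11) (Nat.ble 11 c)
noncomputable def col2_s_8_12 (c : Nat) : Nat := @Bool.rec (fun _ => Nat) (col2_s_8_10 c) (col2_s_10_12 c) (Nat.ble 10 c)
noncomputable def col2_s_12_14 (c : Nat) : Nat := @Bool.rec (fun _ => Nat) (col2_12) (col2_13) (Nat.ble 13 c)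
noncomputable def col2_s_15_17 (c : Nat) : Nat := @Bool.rec (fun _ => Nat) (col2_15) (col2_16) (Nat.ble 16 c)
noncomputable def col2_s_14_17 (c : Nat) : Nat := @Bool.rec (fun _ => Nat) (col2_14) (col2_s_15_17 c) (Nat.ble 15 c)
noncomputable def col2_s_12_17 (c : Nat) : Nat := @Bool.rec (fun _ => Nat) (col2_s_12_14 c) (col2_s_14_17 c) (Nat.ble 14 c)
noncomputable def col2_s_8_17 (c : Nat) : Nat := @Bool.rec (fun _ => Nat) (col2_s_8_12 c) (col2_s_12_17 c) (Nat.ble 12 c)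
noncomputable def col2_s_0_17 (c : Nat) : Nat := @Bool.rec (fun _ => Nat) (col2_s_0_8 c) (col2_s_8_17 c) (Nat.ble 8 c)
noncomputable def col2 (i : Nat) : Nat := rdw 17 131071 (col2_s_0_17 (Nat.shiftRight i 12)) (Nat.land i 4095)
noncomputable def col3_s_0_2 (c : Nat) : Nat := @Bool.rec (fun _ => Nat) (col3_0) (col3_1) (Nat.ble 1 c)
noncomputable def col3_s_2_4 (c : Nat) : Nat := @Bool.rec (fun _ => Nat) (col3_2) (col3_3) (Nat.ble 3 c)
noncomputable def col3_s_0_4 (c : Nat) : Nat := @Bool.rec (fun _ => Nat) (col3_s_0_2 c) (col3_s_2_4 c) (Nat.ble 2 c)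
noncomputable def col3_s_4_6 (c : Nat) : Nat := @Bool.rec (fun _ => Nat) (col3_4) (col3_5) (Nat.ble 5 c)
noncomputable def col3_s_6_8 (c : Nat) : Nat := @Bool.rec (fun _ => Nat) (col3_6) (col3_7) (Nat.ble 7 c)
noncomputable def col3_s_4_8 (c : Nat) : Nat := @Bool.rec (fun _ => Nat) (col3_s_4_6 c) (col3_s_6_8 c) (Nat.ble 6 c)
noncomputable def col3_s_0_8 (c : Nat) : Nat := @Bool.rec (fun _ => Nat) (col3_s_0_4 c) (col3_s_4_8 c) (Nat.ble 4 c)
noncomputable def col3_s_8_10 (c : Nat) : Nat := @Bool.rec (fun _ => Nat) (col3_8) (col3_9) (Nat.ble 9 c)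
noncomputable def col3_s_10_12 (c : Nat) : Nat := @Bool.rec (fun _ => Nat) (col3_10) (col3_11) (Nat.ble 11 c)
noncomputable def col3_s_8_12 (c : Nat) : Nat := @Bool.rec (fun _ => Nat) (col3_s_8_10 c) (col3_s_10_12 c) (Nat.ble 10 c)
noncomputable def col3_s_12_14 (c : Nat) : Nat := @Bool.rec (fun _ => Nat) (col3_12) (col3_13) (Nat.ble 13 c)
noncomputable def col3_s_15_17 (c : Nat) : Nat := @Bool.rec (fun _ => Nat) (col3_15) (col3_16) (Nat.ble 16 c)
noncomputable def col3_s_14_17 (c : Nat) : Nat := @Bool.rec (fun _ => Nat) (col3_14) (col3_s_15_17 c) (Nat.ble 15 c)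
noncomputable def col3_s_12_17 (c : Nat) : Nat := @Bool.rec (fun _ => Nat) (col3_s_12_14 c) (col3_s_14_17 c) (Nat.ble 14 c)
noncomputable def col3_s_8_17 (c : Nat) : Nat := @Bool.rec (fun _ => Nat) (col3_s_8_12 c) (col3_s_12_17 c) (Nat.ble 12 c)
noncomputable def col3_s_0_17 (c : Nat) : Nat := @Bool.rec (fun _ => Nat) (col3_s_0_8 c) (col3_s_8_17 c) (Nat.ble 8 c)
noncomputable def col3 (i : Nat) : Nat := rdw 17 131071 (col3_s_0_17 (Nat.shiftRight i 12)) (Nat.land i 4095)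
noncomputable def col4_s_0_2 (c : Nat) : Nat := @Bool.rec (fun _ => Nat) (col4_0) (col4_1) (Nat.ble 1 c)
noncomputable def col4_s_2_4 (c : Nat) : Nat := @Bool.rec (fun _ => Nat) (col4_2) (col4_3) (Nat.ble 3 c)
noncomputable def col4_s_0_4 (c : Nat) : Nat := @Bool.rec (fun _ => Nat) (col4_s_0_2 c) (col4_s_2_4 c) (Nat.ble 2 c)
noncomputable def col4_s_4_6 (c : Nat) : Nat := @Bool.rec (fun _ => Nat) (col4_4) (col4_5) (Nat.ble 5 c)
noncomputable def col4_s_6_8 (c : Nat) : Nat := @Bool.rec (fun _ => Nat) (col4_6) (col4_7) (Nat.ble 7 c)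
noncomputable def col4_s_4_8 (c : Nat) : Nat := @Bool.rec (fun _ => Nat) (col4_s_4_6 c) (col4_s_6_8 c) (Nat.ble 6 c)
noncomputable def col4_s_0_8 (c : Nat) : Nat := @Bool.rec (fun _ => Nat) (col4_s_0_4 c) (col4_s_4_8 c) (Nat.ble 4 c)
noncomputable def col4_s_8_10 (c : Nat) : Nat := @Bool.rec (fun _ => Nat) (col4_8) (col4_9) (Nat.ble 9 c)
noncomputable def col4_s_10_12 (c : Nat) : Nat := @Bool.rec (fun _ => Nat) (col4_10) (col4_11) (Nat.ble 11 c)
noncomputable def col4_s_8_12 (c : Nat) : Nat := @Bool.rec (fun _ => Nat) (col4_s_8_10 c) (col4_s_10_12 c) (Nat.ble 10 c)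
noncomputable def col4_s_12_14 (c : Nat) : Nat := @Bool.rec (fun _ => Nat) (col4_12) (col4_13) (Nat.ble 13 c)
noncomputable def col4_s_15_17 (c : Nat) : Nat := @Bool.rec (fun _ => Nat) (col4_15) (col4_16) (Nat.ble 16 c)
noncomputable def col4_s_14_17 (c : Nat) : Nat := @Bool.rec (fun _ => Nat) (col4_14) (col4_s_15_17 c) (Nat.ble 15 c)
noncomputable def col4_s_12_17 (c : Nat) : Nat := @Bool.rec (fun _ => Nat) (col4_s_12_14 c) (col4_s_14_17 c) (Nat.ble 14 c)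
noncomputable def col4_s_8_17 (c : Nat) : Nat := @Bool.rec (fun _ => Nat) (col4_s_8_12 c) (col4_s_12_17 c) (Nat.ble 12 c)
noncomputable def col4_s_0_17 (c : Nat) : Nat := @Bool.rec (fun _ => Nat) (col4_s_0_8 c) (col4_s_8_17 c) (Nat.ble 8 c)
noncomputable def col4 (i : Nat) : Nat := rdw 17 131071 (col4_s_0_17 (Nat.shiftRight i 12)) (Nat.land i 4095)
noncomputable def col5_s_0_2 (c : Nat) : Nat := @Bool.rec (fun _ => Nat) (col5_0) (col5_1) (Nat.ble 1 c)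
noncomputable def col5_s_2_4 (c : Nat) : Nat := @Bool.rec (fun _ => Nat) (col5_2) (col5_3) (Nat.ble 3 c)
noncomputable def col5_s_0_4 (c : Nat) : Nat := @Bool.rec (fun _ => Nat) (col5_s_0_2 c) (col5_s_2_4 c) (Nat.ble 2 c)
noncomputable def col5_s_4_6 (c : Nat) : Nat := @Bool.rec (fun _ => Nat) (col5_4) (col5_5) (Nat.ble 5 c)
noncomputable def col5_s_6_8 (c : Nat) : Nat := @Bool.rec (fun _ => Nat) (col5_6) (col5_7) (Nat.ble 7 c)
noncomputable def col5_s_4_8 (c : Nat) : Nat := @Bool.rec (fun _ => Nat) (col5_s_4_6 c) (col5_s_6_8 c) (Nat.ble 6 c)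
noncomputable def col5_s_0_8 (c : Nat) : Nat := @Bool.rec (fun _ => Nat) (col5_s_0_4 c) (col5_s_4_8 c) (Nat.ble 4 c)
noncomputable def col5_s_8_10 (c : Nat) : Nat := @Bool.rec (fun _ => Nat) (col5_8) (col5_9) (Nat.ble 9 c)
noncomputable def col5_s_10_12 (c : Nat) : Nat := @Bool.rec (fun _ => Nat) (col5_10) (col5_11) (Nat.ble 11 c)
noncomputable def col5_s_8_12 (c : Nat) : Nat := @Bool.rec (fun _ => Nat) (col5_s_8_10 c) (col5_s_10_12 c) (Nat.ble 10 c)
noncomputable def col5_s_12_14 (c : Nat) : Nat := @Bool.rec (fun _ => Nat) (col5_12) (col5_13) (Nat.ble 13 c)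
noncomputable def col5_s_15_17 (c : Nat) : Nat := @Bool.rec (fun _ => Nat) (col5_15) (col5_16) (Nat.ble 16 c)
noncomputable def col5_s_14_17 (c : Nat) : Nat := @Bool.rec (fun _ => Nat) (col5_14) (col5_s_15_17 c) (Nat.ble 15 c)
noncomputable def col5_s_12_17 (c : Nat) : Nat := @Bool.rec (fun _ => Nat) (col5_s_12_14 c) (col5_s_14_17 c) (Nat.ble 14 c)
noncomputable def col5_s_8_17 (c : Nat) : Nat := @Bool.rec (fun _ => Nat) (col5_s_8_12 c) (col5_s_12_17 c) (Nat.ble 12 c)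
noncomputable def col5_s_0_17 (c : Nat) : Nat := @Bool.rec (fun _ => Nat) (col5_s_0_8 c) (col5_s_8_17 c) (Nat.ble 8 c)
noncomputable def col5 (i : Nat) : Nat := rdw 17 131071 (col5_s_0_17 (Nat.shiftRight i 12)) (Nat.land i 4095)
noncomputable def col6_s_0_2 (c : Nat) : Nat := @Bool.rec (fun _ => Nat) (col6_0) (col6_1) (Nat.ble 1 c)
noncomputable def col6_s_2_4 (c : Nat) : Nat := @Bool.rec (fun _ => Nat) (col6_2) (col6_3) (Nat.ble 3 c)
noncomputable def col6_s_0_4 (c : Nat) : Nat := @Bool.rec (fun _ => Nat) (col6_s_0_2 c) (col6_s_2_4 c) (Nat.ble 2 c)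
noncomputable def col6_s_4_6 (c : Nat) : Nat := @Bool.rec (fun _ => Nat) (col6_4) (col6_5) (Nat.ble 5 c)
noncomputable def col6_s_6_8 (c : Nat) : Nat := @Bool.rec (fun _ => Nat) (col6_6) (col6_7) (Nat.ble 7 c)
noncomputable def col6_s_4_8 (c : Nat) : Nat := @Bool.rec (fun _ => Nat) (col6_s_4_6 c) (col6_s_6_8 c) (Nat.ble 6 c)
noncomputable def col6_s_0_8 (c : Nat) : Nat := @Bool.rec (fun _ => Nat) (col6_s_0_4 c) (col6_s_4_8 c) (Nat.ble 4 c)
noncomputable def col6_s_8_10 (c : Nat) : Nat := @Bool.rec (fun _ => Nat) (col6_8) (col6_9) (Nat.ble 9 c)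
noncomputable def col6_s_10_12 (c : Nat) : Nat := @Bool.rec (fun _ => Nat) (col6_10) (col6_11) (Nat.ble 11 c)
noncomputable def col6_s_8_12 (c : Nat) : Nat := @Bool.rec (fun _ => Nat) (col6_s_8_10 c) (col6_s_10_12 c) (Nat.ble 10 c)
noncomputable def col6_s_12_14 (c : Nat) : Nat := @Bool.rec (fun _ => Nat) (col6_12) (col6_13) (Nat.ble 13 c)
noncomputable def col6_s_15_17 (c : Nat) : Nat := @Bool.rec (fun _ => Nat) (col6_15) (col6_16) (Nat.ble 16 c)
noncomputable def col6_s_14_17 (c : Nat) : Nat := @Bool.rec (fun _ => Nat) (col6_14) (col6_s_15_17 c) (Nat.ble 15 c)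
noncomputable def col6_s_12_17 (c : Nat) : Nat := @Bool.rec (fun _ => Nat) (col6_s_12_14 c) (col6_s_14_17 c) (Nat.ble 14 c)
noncomputable def col6_s_8_17 (c : Nat) : Nat := @Bool.rec (fun _ => Nat) (col6_s_8_12 c) (col6_s_12_17 c) (Nat.ble 12 c)
noncomputable def col6_s_0_17 (c : Nat) : Nat := @Bool.rec (fun _ => Nat) (col6_s_0_8 c) (col6_s_8_17 c) (Nat.ble 8 c)
noncomputable def col6 (i : Nat) : Nat := rdw 17 131071 (col6_s_0_17 (Nat.shiftRight i 12)) (Nat.land i 4095)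
noncomputable def col7_s_0_2 (c : Nat) : Nat := @Bool.rec (fun _ => Nat) (col7_0) (col7_1) (Nat.ble 1 c)
noncomputable def col7_s_2_4 (c : Nat) : Nat := @Bool.rec (fun _ => Nat) (col7_2) (col7_3) (Nat.ble 3 c)
noncomputable def col7_s_0_4 (c : Nat) : Nat := @Bool.rec (fun _ => Nat) (col7_s_0_2 c) (col7_s_2_4 c) (Nat.ble 2 c)
noncomputable def col7_s_4_6 (c : Nat) : Nat := @Bool.rec (fun _ => Nat) (col7_4) (col7_5) (Nat.ble 5 c)
noncomputable def col7_s_6_8 (c : Nat) : Nat := @Bool.rec (fun _ => Nat) (col7_6) (col7_7) (Nat.ble 7 c)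
noncomputable def col7_s_4_8 (c : Nat) : Nat := @Bool.rec (fun _ => Nat) (col7_s_4_6 c) (col7_s_6_8 c) (Nat.ble 6 c)
noncomputable def col7_s_0_8 (c : Nat) : Nat := @Bool.rec (fun _ => Nat) (col7_s_0_4 c) (col7_s_4_8 c) (Nat.ble 4 c)
noncomputable def col7_s_8_10 (c : Nat) : Nat := @Bool.rec (fun _ => Nat) (col7_8) (col7_9) (Nat.ble 9 c)
noncomputable def col7_s_10_12 (c : Nat) : Nat := @Bool.rec (fun _ => Nat) (col7_10) (col7_11) (Nat.ble 11 c)
noncomputable def col7_s_8_12 (c : Nat) : Nat := @Bool.rec (fun _ => Nat) (col7_s_8_10 c) (col7_s_10_12 c) (Nat.ble 10 c)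
noncomputable def col7_s_12_14 (c : Nat) : Nat := @Bool.rec (fun _ => Nat) (col7_12) (col7_13) (Nat.ble 13 c)
noncomputable def col7_s_15_17 (c : Nat) : Nat := @Bool.rec (fun _ => Nat) (col7_15) (col7_16) (Nat.ble 16 c)
noncomputable def col7_s_14_17 (c : Nat) : Nat := @Bool.rec (fun _ => Nat) (col7_14) (col7_s_15_17 c) (Nat.ble 15 c)
noncomputable def col7_s_12_17 (c : Nat) : Nat := @Bool.rec (fun _ => Nat) (col7_s_12_14 c) (col7_s_14_17 c) (Nat.ble 14 c)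
noncomputable def col7_s_8_17 (c : Nat) : Nat := @Bool.rec (fun _ => Nat) (col7_s_8_12 c) (col7_s_12_17 c) (Nat.ble 12 c)
noncomputable def col7_s_0_17 (c : Nat) : Nat := @Bool.rec (fun _ => Nat) (col7_s_0_8 c) (col7_s_8_17 c) (Nat.ble 8 c)
noncomputable def col7 (i : Nat) : Nat := rdw 17 131071 (col7_s_0_17 (Nat.shiftRight i 12)) (Nat.land i 4095)
noncomputable def finTab_s_0_2 (c : Nat) : Nat := @Bool.rec (fun _ => Nat) (finTab_0) (finTab_1) (Nat.ble 1 c)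
noncomputable def finTab_s_2_4 (c : Nat) : Nat := @Bool.rec (fun _ => Nat) (finTab_2) (finTab_3) (Nat.ble 3 c)
noncomputable def finTab_s_0_4 (c : Nat) : Nat := @Bool.rec (fun _ => Nat) (finTab_s_0_2 c) (finTab_s_2_4 c) (Nat.ble 2 c)
noncomputable def finTab_s_4_6 (c : Nat) : Nat := @Bool.rec (fun _ => Nat) (finTab_4) (finTab_5) (Nat.ble 5 c)
noncomputable def finTab_s_6_8 (c : Nat) : Nat := @Bool.rec (fun _ => Nat) (finTab_6) (finTab_7) (Nat.ble 7 c)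
noncomputable def finTab_s_4_8 (c : Nat) : Nat := @Bool.rec (fun _ => Nat) (finTab_s_4_6 c) (finTab_s_6_8 c) (Nat.ble 6 c)
noncomputable def finTab_s_0_8 (c : Nat) : Nat := @Bool.rec (fun _ => Nat) (finTab_s_0_4 c) (finTab_s_4_8 c) (Nat.ble 4 c)
noncomputable def finTab_s_8_10 (c : Nat) : Nat := @Bool.rec (fun _ => Nat) (finTab_8) (finTab_9) (Nat.ble 9 c)
noncomputable def finTab_s_10_12 (c : Nat) : Nat := @Bool.rec (fun _ => Nat) (finTab_10) (finTab_11) (Nat.ble 11 c)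
noncomputable def finTab_s_8_12 (c : Nat) : Nat := @Bool.rec (fun _ => Nat) (finTab_s_8_10 c) (finTab_s_10_12 c) (Nat.ble 10 c)
noncomputable def finTab_s_12_14 (c : Nat) : Nat := @Bool.rec (fun _ => Nat) (finTab_12) (finTab_13) (Nat.ble 13 c)
noncomputable def finTab_s_14_16 (c : Nat) : Nat := @Bool.rec (fun _ => Nat) (finTab_14) (finTab_15) (Nat.ble 15 c)
noncomputable def finTab_s_12_16 (c : Nat) : Nat := @Bool.rec (fun _ => Nat) (finTab_s_12_14 c) (finTab_s_14_16 c) (Nat.ble 14 c)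
noncomputable def finTab_s_8_16 (c : Nat) : Nat := @Bool.rec (fun _ => Nat) (finTab_s_8_12 c) (finTab_s_12_16 c) (Nat.ble 12 c)
noncomputable def finTab_s_0_16 (c : Nat) : Nat := @Bool.rec (fun _ => Nat) (finTab_s_0_8 c) (finTab_s_8_16 c) (Nat.ble 8 c)
noncomputable def finTab_s_16_18 (c : Nat) : Nat := @Bool.rec (fun _ => Nat) (finTab_16) (finTab_17) (Nat.ble 17 c)
noncomputable def finTab_s_18_20 (c : Nat) : Nat := @Bool.rec (fun _ => Nat) (finTab_18) (finTab_19) (Nat.ble 19 c)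
noncomputable def finTab_s_16_20 (c : Nat) : Nat := @Bool.rec (fun _ => Nat) (finTab_s_16_18 c) (finTab_s_18_20 c) (Nat.ble 18 c)
noncomputable def finTab_s_20_22 (c : Nat) : Nat := @Bool.rec (fun _ => Nat) (finTab_20) (finTab_21) (Nat.ble 21 c)
noncomputable def finTab_s_22_24 (c : Nat) : Nat := @Bool.rec (fun _ => Nat) (finTab_22) (finTab_23) (Nat.ble 23 c)
noncomputable def finTab_s_20_24 (c : Nat) : Nat := @Bool.rec (fun _ => Nat) (finTab_s_20_22 c) (finTab_s_22_24 c) (Nat.ble 22 c)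
noncomputable def finTab_s_16_24 (c : Nat) : Nat := @Bool.rec (fun _ => Nat) (finTab_s_16_20 c) (finTab_s_20_24 c) (Nat.ble 20 c)
noncomputable def finTab_s_24_26 (c : Nat) : Nat := @Bool.rec (fun _ => Nat) (finTab_24) (finTab_25) (Nat.ble 25 c)
noncomputable def finTab_s_26_28 (c : Nat) : Nat := @Bool.rec (fun _ => Nat) (finTab_26) (finTab_27) (Nat.ble 27 c)
noncomputable def finTab_s_24_28 (c : Nat) : Nat := @Bool.rec (fun _ => Nat) (finTab_s_24_26 c) (finTab_s_26_28 c) (Nat.ble 26 c)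
noncomputable def finTab_s_28_30 (c : Nat) : Nat := @Bool.rec (fun _ => Nat) (finTab_28) (finTab_29) (Nat.ble 29 c)
noncomputable def finTab_s_30_32 (c : Nat) : Nat := @Bool.rec (fun _ => Nat) (finTab_30) (finTab_31) (Nat.ble 31 c)
noncomputable def finTab_s_28_32 (c : Nat) : Nat := @Bool.rec (fun _ => Nat) (finTab_s_28_30 c) (finTab_s_30_32 c) (Nat.ble 30 c)
noncomputable def finTab_s_24_32 (c : Nat) : Nat := @Bool.rec (fun _ => Nat) (finTab_s_24_28 c) (finTab_s_28_32 c) (Nat.ble 28 c)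
noncomputable def finTab_s_16_32 (c : Nat) : Nat := @Bool.rec (fun _ => Nat) (finTab_s_16_24 c) (finTab_s_24_32 c) (Nat.ble 24 c)
noncomputable def finTab_s_0_32 (c : Nat) : Nat := @Bool.rec (fun _ => Nat) (finTab_s_0_16 c) (finTab_s_16_32 c) (Nat.ble 16 c)
noncomputable def finTab_s_32_34 (c : Nat) : Nat := @Bool.rec (fun _ => Nat) (finTab_32) (finTab_33) (Nat.ble 33 c)
noncomputable def finTab_s_34_36 (c : Nat) : Nat := @Bool.rec (fun _ => Nat) (finTab_34) (finTab_35) (Nat.ble 35 c)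
noncomputable def finTab_s_32_36 (c : Nat) : Nat := @Bool.rec (fun _ => Nat) (finTab_s_32_34 c) (finTab_s_34_36 c) (Nat.ble 34 c)
noncomputable def finTab_s_36_38 (c : Nat) : Nat := @Bool.rec (fun _ => Nat) (finTab_36) (finTab_37) (Nat.ble 37 c)
noncomputable def finTab_s_38_40 (c : Nat) : Nat := @Bool.rec (fun _ => Nat) (finTab_38) (finTab_39) (Nat.ble 39 c)
noncomputable def finTab_s_36_40 (c : Nat) : Nat := @Bool.rec (fun _ => Nat) (finTab_s_36_38 c) (finTab_s_38_40 c) (Nat.ble 38 c)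
noncomputable def finTab_s_32_40 (c : Nat) : Nat := @Bool.rec (fun _ => Nat) (finTab_s_32_36 c) (finTab_s_36_40 c) (Nat.ble 36 c)
noncomputable def finTab_s_40_42 (c : Nat) : Nat := @Bool.rec (fun _ => Nat) (finTab_40) (finTab_41) (Nat.ble 41 c)
noncomputable def finTab_s_42_44 (c : Nat) : Nat := @Bool.rec (fun _ => Nat) (finTab_42) (finTab_43) (Nat.ble 43 c)
noncomputable def finTab_s_40_44 (c : Nat) : Nat := @Bool.rec (fun _ => Nat) (finTab_s_40_42 c) (finTab_s_42_44 c) (Nat.ble 42 c)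
noncomputable def finTab_s_44_46 (c : Nat) : Nat := @Bool.rec (fun _ => Nat) (finTab_44) (finTab_45) (Nat.ble 45 c)
noncomputable def finTab_s_46_48 (c : Nat) : Nat := @Bool.rec (fun _ => Nat) (finTab_46) (finTab_47) (Nat.ble 47 c)
noncomputable def finTab_s_44_48 (c : Nat) : Nat := @Bool.rec (fun _ => Nat) (finTab_s_44_46 c) (finTab_s_46_48 c) (Nat.ble 46 c)
noncomputable def finTab_s_40_48 (c : Nat) : Nat := @Bool.rec (fun _ => Nat) (finTab_s_40_44 c) (finTab_s_44_48 c) (Nat.ble 44 c)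
noncomputable def finTab_s_32_48 (c : Nat) : Nat := @Bool.rec (fun _ => Nat) (finTab_s_32_40 c) (finTab_s_40_48 c) (Nat.ble 40 c)
noncomputable def finTab_s_48_50 (c : Nat) : Nat := @Bool.rec (fun _ => Nat) (finTab_48) (finTab_49) (Nat.ble 49 c)
noncomputable def finTab_s_50_52 (c : Nat) : Nat := @Bool.rec (fun _ => Nat) (finTab_50) (finTab_51) (Nat.ble 51 c)
noncomputable def finTab_s_48_52 (c : Nat) : Nat := @Bool.rec (fun _ => Nat) (finTab_s_48_50 c) (finTab_s_50_52 c) (Nat.ble 50 c)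
noncomputable def finTab_s_52_54 (c : Nat) : Nat := @Bool.rec (fun _ => Nat) (finTab_52) (finTab_53) (Nat.ble 53 c)
noncomputable def finTab_s_54_56 (c : Nat) : Nat := @Bool.rec (fun _ => Nat) (finTab_54) (finTab_55) (Nat.ble 55 c)
noncomputable def finTab_s_52_56 (c : Nat) : Nat := @Bool.rec (fun _ => Nat) (finTab_s_52_54 c) (finTab_s_54_56 c) (Nat.ble 54 c)
noncomputable def finTab_s_48_56 (c : Nat) : Nat := @Bool.rec (fun _ => Nat) (finTab_s_48_52 c) (finTab_s_52_56 c) (Nat.ble 52 c)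
noncomputable def finTab_s_56_58 (c : Nat) : Nat := @Bool.rec (fun _ => Nat) (finTab_56) (finTab_57) (Nat.ble 57 c)
noncomputable def finTab_s_58_60 (c : Nat) : Nat := @Bool.rec (fun _ => Nat) (finTab_58) (finTab_59) (Nat.ble 59 c)
noncomputable def finTab_s_56_60 (c : Nat) : Nat := @Bool.rec (fun _ => Nat) (finTab_s_56_58 c) (finTab_s_58_60 c) (Nat.ble 58 c)
noncomputable def finTab_s_60_62 (c : Nat) : Nat := @Bool.rec (fun _ => Nat) (finTab_60) (finTab_61) (Nat.ble 61 c)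
noncomputable def finTab_s_63_65 (c : Nat) : Nat := @Bool.rec (fun _ => Nat) (finTab_63) (finTab_64) (Nat.ble 64 c)
noncomputable def finTab_s_62_65 (c : Nat) : Nat := @Bool.rec (fun _ => Nat) (finTab_62) (finTab_s_63_65 c) (Nat.ble 63 c)
noncomputable def finTab_s_60_65 (c : Nat) : Nat := @Bool.rec (fun _ => Nat) (finTab_s_60_62 c) (finTab_s_62_65 c) (Nat.ble 62 c)
noncomputable def finTab_s_56_65 (c : Nat) : Nat := @Bool.rec (fun _ => Nat) (finTab_s_56_60 c) (finTab_s_60_65 c) (Nat.ble 60 c)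
noncomputable def finTab_s_48_65 (c : Nat) : Nat := @Bool.rec (fun _ => Nat) (finTab_s_48_56 c) (finTab_s_56_65 c) (Nat.ble 56 c)
noncomputable def finTab_s_32_65 (c : Nat) : Nat := @Bool.rec (fun _ => Nat) (finTab_s_32_48 c) (finTab_s_48_65 c) (Nat.ble 48 c)
noncomputable def finTab_s_0_65 (c : Nat) : Nat := @Bool.rec (fun _ => Nat) (finTab_s_0_32 c) (finTab_s_32_65 c) (Nat.ble 32 c)
noncomputable def finTab_s_65_67 (c : Nat) : Nat := @Bool.rec (fun _ => Nat) (finTab_65) (finTab_66) (Nat.ble 66 c)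
noncomputable def finTab_s_67_69 (c : Nat) : Nat := @Bool.rec (fun _ => Nat) (finTab_67) (finTab_68) (Nat.ble 68 c)
noncomputable def finTab_s_65_69 (c : Nat) : Nat := @Bool.rec (fun _ => Nat) (finTab_s_65_67 c) (finTab_s_67_69 c) (Nat.ble 67 c)
noncomputable def finTab_s_69_71 (c : Nat) : Nat := @Bool.rec (fun _ => Nat) (finTab_69) (finTab_70) (Nat.ble 70 c)
noncomputable def finTab_s_71_73 (c : Nat) : Nat := @Bool.rec (fun _ => Nat) (finTab_71) (finTab_72) (Nat.ble 72 c)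
noncomputable def finTab_s_69_73 (c : Nat) : Nat := @Bool.rec (fun _ => Nat) (finTab_s_69_71 c) (finTab_s_71_73 c) (Nat.ble 71 c)
noncomputable def finTab_s_65_73 (c : Nat) : Nat := @Bool.rec (fun _ => Nat) (finTab_s_65_69 c) (finTab_s_69_73 c) (Nat.ble 69 c)
noncomputable def finTab_s_73_75 (c : Nat) : Nat := @Bool.rec (fun _ => Nat) (finTab_73) (finTab_74) (Nat.ble 74 c)
noncomputable def finTab_s_75_77 (c : Nat) : Nat := @Bool.rec (fun _ => Nat) (finTab_75) (finTab_76) (Nat.ble 76 c)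
noncomputable def finTab_s_73_77 (c : Nat) : Nat := @Bool.rec (fun _ => Nat) (finTab_s_73_75 c) (finTab_s_75_77 c) (Nat.ble 75 c)
noncomputable def finTab_s_77_79 (c : Nat) : Nat := @Bool.rec (fun _ => Nat) (finTab_77) (finTab_78) (Nat.ble 78 c)
noncomputable def finTab_s_79_81 (c : Nat) : Nat := @Bool.rec (fun _ => Nat) (finTab_79) (finTab_80) (Nat.ble 80 c)
noncomputable def finTab_s_77_81 (c : Nat) : Nat := @Bool.rec (fun _ => Nat) (finTab_s_77_79 c) (finTab_s_79_81 c) (Nat.ble 79 c)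
noncomputable def finTab_s_73_81 (c : Nat) : Nat := @Bool.rec (fun _ => Nat) (finTab_s_73_77 c) (finTab_s_77_81 c) (Nat.ble 77 c)
noncomputable def finTab_s_65_81 (c : Nat) : Nat := @Bool.rec (fun _ => Nat) (finTab_s_65_73 c) (finTab_s_73_81 c) (Nat.ble 73 c)
noncomputable def finTab_s_81_83 (c : Nat) : Nat := @Bool.rec (fun _ => Nat) (finTab_81) (finTab_82) (Nat.ble 82 c)
noncomputable def finTab_s_83_85 (c : Nat) : Nat := @Bool.rec (fun _ => Nat) (finTab_83) (finTab_84) (Nat.ble 84 c)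
noncomputable def finTab_s_81_85 (c : Nat) : Nat := @Bool.rec (fun _ => Nat) (finTab_s_81_83 c) (finTab_s_83_85 c) (Nat.ble 83 c)
noncomputable def finTab_s_85_87 (c : Nat) : Nat := @Bool.rec (fun _ => Nat) (finTab_85) (finTab_86) (Nat.ble 86 c)
noncomputable def finTab_s_87_89 (c : Nat) : Nat := @Bool.rec (fun _ => Nat) (finTab_87) (finTab_88) (Nat.ble 88 c)
noncomputable def finTab_s_85_89 (c : Nat) : Nat := @Bool.rec (fun _ => Nat) (finTab_s_85_87 c) (finTab_s_87_89 c) (Nat.ble 87 c)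
noncomputable def finTab_s_81_89 (c : Nat) : Nat := @Bool.rec (fun _ => Nat) (finTab_s_81_85 c) (finTab_s_85_89 c) (Nat.ble 85 c)
noncomputable def finTab_s_89_91 (c : Nat) : Nat := @Bool.rec (fun _ => Nat) (finTab_89) (finTab_90) (Nat.ble 90 c)
noncomputable def finTab_s_91_93 (c : Nat) : Nat := @Bool.rec (fun _ => Nat) (finTab_91) (finTab_92) (Nat.ble 92 c)
noncomputable def finTab_s_89_93 (c : Nat) : Nat := @Bool.rec (fun _ => Nat) (finTab_s_89_91 c) (finTab_s_91_93 c) (Nat.ble 91 c)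
noncomputable def finTab_s_93_95 (c : Nat) : Nat := @Bool.rec (fun _ => Nat) (finTab_93) (finTab_94) (Nat.ble 94 c)
noncomputable def finTab_s_96_98 (c : Nat) : Nat := @Bool.rec (fun _ => Nat) (finTab_96) (finTab_97) (Nat.ble 97 c)
noncomputable def finTab_s_95_98 (c : Nat) : Nat := @Bool.rec (fun _ => Nat) (finTab_95) (finTab_s_96_98 c) (Nat.ble 96 c)
noncomputable def finTab_s_93_98 (c : Nat) : Nat := @Bool.rec (fun _ => Nat) (finTab_s_93_95 c) (finTab_s_95_98 c) (Nat.ble 95 c)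
noncomputable def finTab_s_89_98 (c : Nat) : Nat := @Bool.rec (fun _ => Nat) (finTab_s_89_93 c) (finTab_s_93_98 c) (Nat.ble 93 c)
noncomputable def finTab_s_81_98 (c : Nat) : Nat := @Bool.rec (fun _ => Nat) (finTab_s_81_89 c) (finTab_s_89_98 c) (Nat.ble 89 c)
noncomputable def finTab_s_65_98 (c : Nat) : Nat := @Bool.rec (fun _ => Nat) (finTab_s_65_81 c) (finTab_s_81_98 c) (Nat.ble 81 c)
noncomputable def finTab_s_98_100 (c : Nat) : Nat := @Bool.rec (fun _ => Nat) (finTab_98) (finTab_99) (Nat.ble 99 c)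
noncomputable def finTab_s_100_102 (c : Nat) : Nat := @Bool.rec (fun _ => Nat) (finTab_100) (finTab_101) (Nat.ble 101 c)
noncomputable def finTab_s_98_102 (c : Nat) : Nat := @Bool.rec (fun _ => Nat) (finTab_s_98_100 c) (finTab_s_100_102 c) (Nat.ble 100 c)
noncomputable def finTab_s_102_104 (c : Nat) : Nat := @Bool.rec (fun _ => Nat) (finTab_102) (finTab_103) (Nat.ble 103 c)
noncomputable def finTab_s_104_106 (c : Nat) : Nat := @Bool.rec (fun _ => Nat) (finTab_104) (finTab_105) (Nat.ble 105 c)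
noncomputable def finTab_s_102_106 (c : Nat) : Nat := @Bool.rec (fun _ => Nat) (finTab_s_102_104 c) (finTab_s_104_106 c) (Nat.ble 104 c)
noncomputable def finTab_s_98_106 (c : Nat) : Nat := @Bool.rec (fun _ => Nat) (finTab_s_98_102 c) (finTab_s_102_106 c) (Nat.ble 102 c)
noncomputable def finTab_s_106_108 (c : Nat) : Nat := @Bool.rec (fun _ => Nat) (finTab_106) (finTab_107) (Nat.ble 107 c)
noncomputable def finTab_s_108_110 (c : Nat) : Nat := @Bool.rec (fun _ => Nat) (finTab_108) (finTab_109) (Nat.ble 109 c)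
noncomputable def finTab_s_106_110 (c : Nat) : Nat := @Bool.rec (fun _ => Nat) (finTab_s_106_108 c) (finTab_s_108_110 c) (Nat.ble 108 c)
noncomputable def finTab_s_110_112 (c : Nat) : Nat := @Bool.rec (fun _ => Nat) (finTab_110) (finTab_111) (Nat.ble 111 c)
noncomputable def finTab_s_112_114 (c : Nat) : Nat := @Bool.rec (fun _ => Nat) (finTab_112) (finTab_113) (Nat.ble 113 c)
noncomputable def finTab_s_110_114 (c : Nat) : Nat := @Bool.rec (fun _ => Nat) (finTab_s_110_112 c) (finTab_s_112_114 c) (Nat.ble 112 c)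
noncomputable def finTab_s_106_114 (c : Nat) : Nat := @Bool.rec (fun _ => Nat) (finTab_s_106_110 c) (finTab_s_110_114 c) (Nat.ble 110 c)
noncomputable def finTab_s_98_114 (c : Nat) : Nat := @Bool.rec (fun _ => Nat) (finTab_s_98_106 c) (finTab_s_106_114 c) (Nat.ble 106 c)
noncomputable def finTab_s_114_116 (c : Nat) : Nat := @Bool.rec (fun _ => Nat) (finTab_114) (finTab_115) (Nat.ble 115 c)
noncomputable def finTab_s_116_118 (c : Nat) : Nat := @Bool.rec (fun _ => Nat) (finTab_116) (finTab_117) (Nat.ble 117 c)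
noncomputable def finTab_s_114_118 (c : Nat) : Nat := @Bool.rec (fun _ => Nat) (finTab_s_114_116 c) (finTab_s_116_118 c) (Nat.ble 116 c)
noncomputable def finTab_s_118_120 (c : Nat) : Nat := @Bool.rec (fun _ => Nat) (finTab_118) (finTab_119) (Nat.ble 119 c)
noncomputable def finTab_s_120_122 (c : Nat) : Nat := @Bool.rec (fun _ => Nat) (finTab_120) (finTab_121) (Nat.ble 121 c)
noncomputable def finTab_s_118_122 (c : Nat) : Nat := @Bool.rec (fun _ => Nat) (finTab_s_118_120 c) (finTab_s_120_122 c) (Nat.ble 120 c)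
noncomputable def finTab_s_114_122 (c : Nat) : Nat := @Bool.rec (fun _ => Nat) (finTab_s_114_118 c) (finTab_s_118_122 c) (Nat.ble 118 c)
noncomputable def finTab_s_122_124 (c : Nat) : Nat := @Bool.rec (fun _ => Nat) (finTab_122) (finTab_123) (Nat.ble 123 c)
noncomputable def finTab_s_124_126 (c : Nat) : Nat := @Bool.rec (fun _ => Nat) (finTab_124) (finTab_125) (Nat.ble 125 c)
noncomputable def finTab_s_122_126 (c : Nat) : Nat := @Bool.rec (fun _ => Nat) (finTab_s_122_124 c) (finTab_s_124_126 c) (Nat.ble 124 c)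
noncomputable def finTab_s_126_128 (c : Nat) : Nat := @Bool.rec (fun _ => Nat) (finTab_126) (finTab_127) (Nat.ble 127 c)
noncomputable def finTab_s_129_131 (c : Nat) : Nat := @Bool.rec (fun _ => Nat) (finTab_129) (finTab_130) (Nat.ble 130 c)
noncomputable def finTab_s_128_131 (c : Nat) : Nat := @Bool.rec (fun _ => Nat) (finTab_128) (finTab_s_129_131 c) (Nat.ble 129 c)
noncomputable def finTab_s_126_131 (c : Nat) : Nat := @Bool.rec (fun _ => Nat) (finTab_s_126_128 c) (finTab_s_128_131 c) (Nat.ble 128 c)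
noncomputable def finTab_s_122_131 (c : Nat) : Nat := @Bool.rec (fun _ => Nat) (finTab_s_122_126 c) (finTab_s_126_131 c) (Nat.ble 126 c)
noncomputable def finTab_s_114_131 (c : Nat) : Nat := @Bool.rec (fun _ => Nat) (finTab_s_114_122 c) (finTab_s_122_131 c) (Nat.ble 122 c)
noncomputable def finTab_s_98_131 (c : Nat) : Nat := @Bool.rec (fun _ => Nat) (finTab_s_98_114 c) (finTab_s_114_131 c) (Nat.ble 114 c)
noncomputable def finTab_s_65_131 (c : Nat) : Nat := @Bool.rec (fun _ => Nat) (finTab_s_65_98 c) (finTab_s_98_131 c) (Nat.ble 98 c)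
noncomputable def finTab_s_0_131 (c : Nat) : Nat := @Bool.rec (fun _ => Nat) (finTab_s_0_65 c) (finTab_s_65_131 c) (Nat.ble 65 c)
noncomputable def finTab (i : Nat) : Nat := rdw 20 1048575 (finTab_s_0_131 (Nat.shiftRight i 12)) (Nat.land i 4095)
noncomputable def clsTab_s_0_2 (c : Nat) : Nat := @Bool.rec (fun _ => Nat) (clsTab_0) (clsTab_1) (Nat.ble 1 c)
noncomputable def clsTab_s_2_4 (c : Nat) : Nat := @Bool.rec (fun _ => Nat) (clsTab_2) (clsTab_3) (Nat.ble 3 c)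
noncomputable def clsTab_s_0_4 (c : Nat) : Nat := @Bool.rec (fun _ => Nat) (clsTab_s_0_2 c) (clsTab_s_2_4 c) (Nat.ble 2 c)
noncomputable def clsTab_s_4_6 (c : Nat) : Nat := @Bool.rec (fun _ => Nat) (clsTab_4) (clsTab_5) (Nat.ble 5 c)
noncomputable def clsTab_s_6_8 (c : Nat) : Nat := @Bool.rec (fun _ => Nat) (clsTab_6) (clsTab_7) (Nat.ble 7 c)
noncomputable def clsTab_s_4_8 (c : Nat) : Nat := @Bool.rec (fun _ => Nat) (clsTab_s_4_6 c) (clsTab_s_6_8 c) (Nat.ble 6 c)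
noncomputable def clsTab_s_0_8 (c : Nat) : Nat := @Bool.rec (fun _ => Nat) (clsTab_s_0_4 c) (clsTab_s_4_8 c) (Nat.ble 4 c)
noncomputable def clsTab_s_8_10 (c : Nat) : Nat := @Bool.rec (fun _ => Nat) (clsTab_8) (clsTab_9) (Nat.ble 9 c)
noncomputable def clsTab_s_10_12 (c : Nat) : Nat := @Bool.rec (fun _ => Nat) (clsTab_10) (clsTab_11) (Nat.ble 11 c)
noncomputable def clsTab_s_8_12 (c : Nat) : Nat := @Bool.rec (fun _ => Nat) (clsTab_s_8_10 c) (clsTab_s_10_12 c) (Nat.ble 10 c)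
noncomputable def clsTab_s_12_14 (c : Nat) : Nat := @Bool.rec (fun _ => Nat) (clsTab_12) (clsTab_13) (Nat.ble 13 c)
noncomputable def clsTab_s_15_17 (c : Nat) : Nat := @Bool.rec (fun _ => Nat) (clsTab_15) (clsTab_16) (Nat.ble 16 c)
noncomputable def clsTab_s_14_17 (c : Nat) : Nat := @Bool.rec (fun _ => Nat) (clsTab_14) (clsTab_s_15_17 c) (Nat.ble 15 c)
noncomputable def clsTab_s_12_17 (c : Nat) : Nat := @Bool.rec (fun _ => Nat) (clsTab_s_12_14 c) (clsTab_s_14_17 c) (Nat.ble 14 c)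
noncomputable def clsTab_s_8_17 (c : Nat) : Nat := @Bool.rec (fun _ => Nat) (clsTab_s_8_12 c) (clsTab_s_12_17 c) (Nat.ble 12 c)
noncomputable def clsTab_s_0_17 (c : Nat) : Nat := @Bool.rec (fun _ => Nat) (clsTab_s_0_8 c) (clsTab_s_8_17 c) (Nat.ble 8 c)
noncomputable def clsTab (i : Nat) : Nat := rdw 17 131071 (clsTab_s_0_17 (Nat.shiftRight i 12)) (Nat.land i 4095)
noncomputable def oparTab_s_0_2 (c : Nat) : Nat := @Bool.rec (fun _ => Nat) (oparTab_0) (oparTab_1) (Nat.ble 1 c)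
noncomputable def oparTab_s_2_4 (c : Nat) : Nat := @Bool.rec (fun _ => Nat) (oparTab_2) (oparTab_3) (Nat.ble 3 c)
noncomputable def oparTab_s_0_4 (c : Nat) : Nat := @Bool.rec (fun _ => Nat) (oparTab_s_0_2 c) (oparTab_s_2_4 c) (Nat.ble 2 c)
noncomputable def oparTab_s_4_6 (c : Nat) : Nat := @Bool.rec (fun _ => Nat) (oparTab_4) (oparTab_5) (Nat.ble 5 c)
noncomputable def oparTab_s_6_8 (c : Nat) : Nat := @Bool.rec (fun _ => Nat) (oparTab_6) (oparTab_7) (Nat.ble 7 c)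
noncomputable def oparTab_s_4_8 (c : Nat) : Nat := @Bool.rec (fun _ => Nat) (oparTab_s_4_6 c) (oparTab_s_6_8 c) (Nat.ble 6 c)
noncomputable def oparTab_s_0_8 (c : Nat) : Nat := @Bool.rec (fun _ => Nat) (oparTab_s_0_4 c) (oparTab_s_4_8 c) (Nat.ble 4 c)
noncomputable def oparTab_s_8_10 (c : Nat) : Nat := @Bool.rec (fun _ => Nat) (oparTab_8) (oparTab_9) (Nat.ble 9 c)
noncomputable def oparTab_s_10_12 (c : Nat) : Nat := @Bool.rec (fun _ => Nat) (oparTab_10) (oparTab_11) (Nat.ble 11 c)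
noncomputable def oparTab_s_8_12 (c : Nat) : Nat := @Bool.rec (fun _ => Nat) (oparTab_s_8_10 c) (oparTab_s_10_12 c) (Nat.ble 10 c)
noncomputable def oparTab_s_12_14 (c : Nat) : Nat := @Bool.rec (fun _ => Nat) (oparTab_12) (oparTab_13) (Nat.ble 13 c)
noncomputable def oparTab_s_15_17 (c : Nat) : Nat := @Bool.rec (fun _ => Nat) (oparTab_15) (oparTab_16) (Nat.ble 16 c)
noncomputable def oparTab_s_14_17 (c : Nat) : Nat := @Bool.rec (fun _ => Nat) (oparTab_14) (oparTab_s_15_17 c) (Nat.ble 15 c)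
noncomputable def oparTab_s_12_17 (c : Nat) : Nat := @Bool.rec (fun _ => Nat) (oparTab_s_12_14 c) (oparTab_s_14_17 c) (Nat.ble 14 c)
noncomputable def oparTab_s_8_17 (c : Nat) : Nat := @Bool.rec (fun _ => Nat) (oparTab_s_8_12 c) (oparTab_s_12_17 c) (Nat.ble 12 c)
noncomputable def oparTab_s_0_17 (c : Nat) : Nat := @Bool.rec (fun _ => Nat) (oparTab_s_0_8 c) (oparTab_s_8_17 c) (Nat.ble 8 c)
noncomputable def oparTab (i : Nat) : Nat := rdw 17 131071 (oparTab_s_0_17 (Nat.shiftRight i 12)) (Nat.land i 4095)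
noncomputable def olabTab_s_1_3 (c : Nat) : Nat := @Bool.rec (fun _ => Nat) (olabTab_1) (olabTab_2) (Nat.ble 2 c)
noncomputable def olabTab_s_0_3 (c : Nat) : Nat := @Bool.rec (fun _ => Nat) (olabTab_0) (olabTab_s_1_3 c) (Nat.ble 1 c)
noncomputable def olabTab (i : Nat) : Nat := rdw 2 3 (olabTab_s_0_3 (Nat.shiftRight i 15)) (Nat.land i 32767)
noncomputable def srcF (t : Nat) : Nat := Nat.land (Atab t) 131071
noncomputable def tgtF (t : Nat) : Nat := Nat.land (Nat.shiftRight (Atab t) 17) 131071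
noncomputable def ltF (t : Nat) : Nat := Nat.shiftRight (Atab t) 34
noncomputable def rhoF (t : Nat) : Nat := Nat.land (Btab (Nat.sub t 68874)) 63
noncomputable def rotF (t : Nat) : Nat := Nat.land (Nat.shiftRight (Btab (Nat.sub t 68874)) 6) 31
noncomputable def lenF (t : Nat) : Nat := Nat.land (Nat.shiftRight (Btab (Nat.sub t 68874)) 11) 31
noncomputable def offF (t : Nat) : Nat := Nat.shiftRight (Btab (Nat.sub t 68874)) 16
noncomputable def pfF (j : Nat) : Nat := Nat.shiftRight (Ptab j) 1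
noncomputable def pdF (j : Nat) : Nat := Nat.land (Ptab j) 1
noncomputable def tblF (i x : Nat) : Nat := @Bool.rec (fun _ => Nat) (@Bool.rec (fun _ => Nat) (@Bool.rec (fun _ => Nat) (col0 i) (col1 i) (Nat.ble 1 x)) (@Bool.rec (fun _ => Nat) (col2 i) (col3 i) (Nat.ble 3 x)) (Nat.ble 2 x)) (@Bool.rec (fun _ => Nat) (@Bool.rec (fun _ => Nat) (col4 i) (col5 i) (Nat.ble 5 x)) (@Bool.rec (fun _ => Nat) (col6 i) (col7 i) (Nat.ble 7 x)) (Nat.ble 6 x)) (Nat.ble 4 x)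
noncomputable def finE (i x : Nat) : Nat := finTab (Nat.add (Nat.mul i 8) x)
noncomputable def finFF (i x : Nat) : Nat := Nat.shiftRight (finE i x) 1
noncomputable def finDF (i x : Nat) : Nat := Nat.land (finE i x) 1

noncomputable def D : Log :=
  { k := 8, inv := invE 8 PC3McL.invR, nR := 58, rBase := rBtab, rLen := rLtab, RR := RRtab,
    M := 68870, nB := 4, F := 279805, src := srcF, lt := ltF, tgt := tgtF, rho := rhoF, rot := rotF,
    off := offF, len := lenF, pf := pfF, pd := pdF }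

noncomputable def T : Tab :=
  { N := 66825, nameOf := nameTab, tbl := tblF, finF := finFF, finD := finDF, cls := clsTab }

def subs : List (List Nat) := [
  [0],
  [2] ]

def rw0 : List Nat := [0, 0, 0, 0, 0, 0, 0]
def rw1 : List Nat := [2, 2, 2, 2, 2, 2, 2]
def rw2 : List Nat := [0, 0, 2, 0, 2, 2, 2, 1, 2, 2, 1, 2]
def rw3 : List Nat := [0, 2, 0, 3, 1, 3, 3, 1, 2, 0, 2, 2]
def rw4 : List Nat := [4, 4, 4]
def rw5 : List Nat := [0, 0, 3, 0, 2, 2, 5, 0, 2, 1, 3, 1, 5, 2, 0, 3]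
def rw6 : List Nat := [0, 0, 0, 3, 4, 1, 1, 3, 0, 3, 0, 5, 3, 3, 0, 2, 7]
def rw7 : List Nat := [0, 0, 2, 1, 3, 0, 2, 0, 5, 2, 2, 0, 2, 0, 5, 3, 6]
def rw8 : List Nat := [0, 0, 0, 3, 1, 1, 3, 1, 1, 3, 1, 5, 2, 1, 1, 2, 5, 6]
def rw9 : List Nat := [0, 0, 2, 0, 3, 5, 0, 2, 0, 0, 4, 1, 4, 0, 0, 3, 3]
def rw10 : List Nat := [0, 0, 3, 1, 2, 1, 4, 2, 0, 2, 1, 1, 2, 1, 5, 3, 7]
def rw11 : List Nat := [0, 0, 4, 1, 2, 5, 3, 1, 4, 0, 5, 1, 3, 3, 0, 3]
def rw12 : List Nat := [0, 0, 0, 2, 1, 1, 3, 5, 1, 3, 3, 1, 1, 1, 2, 1, 4, 7]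
def rw13 : List Nat := [0, 0, 0, 0, 3, 1, 5, 2, 1, 1, 1, 2, 2, 1, 5, 0, 5]
def rw14 : List Nat := [0, 0, 2, 0, 2, 0, 3, 0, 0, 3, 4, 1, 3, 3, 1, 1, 4, 3, 7]
def rw15 : List Nat := [6, 6, 6]
def rw16 : List Nat := [7, 1, 6, 0]
def rw17 : List Nat := [7, 3, 6, 2]
def rw18 : List Nat := [7, 5, 6, 4]
def realLit : List (List Nat) := [rw0, rw1, rw2, rw3, rw4, rw5, rw6, rw7, rw8, rw9, rw10, rw11, rw12, rw13, rw14, rw15, rw16, rw17, rw18]
noncomputable def actR0 (i : Nat) : Nat := col1 (col1 (col1 (col1 (col1 (col1 (col1 (i)))))))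
theorem actR0_eq (i : Nat) : actR0 i = Tab.act T D rw0 i := rfl
noncomputable def actR1 (i : Nat) : Nat := col3 (col3 (col3 (col3 (col3 (col3 (col3 (i)))))))
theorem actR1_eq (i : Nat) : actR1 i = Tab.act T D rw1 i := rfl
noncomputable def actR2 (i : Nat) : Nat := col1 (col1 (col3 (col1 (col3 (col3 (col3 (col0 (col3 (col3 (col0 (col3 (i))))))))))))
theorem actR2_eq (i : Nat) : actR2 i = Tab.act T D rw2 i := rfl
noncomputable def actR3 (i : Nat) : Nat := col1 (col3 (col1 (col2 (col0 (col2 (col2 (col0 (col3 (col1 (col3 (col3 (i))))))))))))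
theorem actR3_eq (i : Nat) : actR3 i = Tab.act T D rw3 i := rfl
noncomputable def actR4 (i : Nat) : Nat := col5 (col5 (col5 (i)))
theorem actR4_eq (i : Nat) : actR4 i = Tab.act T D rw4 i := rfl
noncomputable def actR5 (i : Nat) : Nat := col1 (col1 (col2 (col1 (col3 (col3 (col4 (col1 (col3 (col0 (col2 (col0 (col4 (col3 (col1 (col2 (i))))))))))))))))
theorem actR5_eq (i : Nat) : actR5 i = Tab.act T D rw5 i := rfl
noncomputable def actR6 (i : Nat) : Nat := col1 (col1 (col1 (col2 (col5 (col0 (col0 (col2 (col1 (col2 (col1 (col4 (col2 (col2 (col1 (col3 (col6 (i)))))))))))))))))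
theorem actR6_eq (i : Nat) : actR6 i = Tab.act T D rw6 i := rfl
noncomputable def actR7 (i : Nat) : Nat := col1 (col1 (col3 (col0 (col2 (col1 (col3 (col1 (col4 (col3 (col3 (col1 (col3 (col1 (col4 (col2 (col7 (i)))))))))))))))))
theorem actR7_eq (i : Nat) : actR7 i = Tab.act T D rw7 i := rfl
noncomputable def actR8 (i : Nat) : Nat := col1 (col1 (col1 (col2 (col0 (col0 (col2 (col0 (col0 (col2 (col0 (col4 (col3 (col0 (col0 (col3 (col4 (col7 (i))))))))))))))))))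
theorem actR8_eq (i : Nat) : actR8 i = Tab.act T D rw8 i := rfl
noncomputable def actR9 (i : Nat) : Nat := col1 (col1 (col3 (col1 (col2 (col4 (col1 (col3 (col1 (col1 (col5 (col0 (col5 (col1 (col1 (col2 (col2 (i)))))))))))))))))
theorem actR9_eq (i : Nat) : actR9 i = Tab.act T D rw9 i := rfl
noncomputable def actR10 (i : Nat) : Nat := col1 (col1 (col2 (col0 (col3 (col0 (col5 (col3 (col1 (col3 (col0 (col0 (col3 (col0 (col4 (col2 (col6 (i)))))))))))))))))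
theorem actR10_eq (i : Nat) : actR10 i = Tab.act T D rw10 i := rfl
noncomputable def actR11 (i : Nat) : Nat := col1 (col1 (col5 (col0 (col3 (col4 (col2 (col0 (col5 (col1 (col4 (col0 (col2 (col2 (col1 (col2 (i))))))))))))))))
theorem actR11_eq (i : Nat) : actR11 i = Tab.act T D rw11 i := rfl
noncomputable def actR12 (i : Nat) : Nat := col1 (col1 (col1 (col3 (col0 (col0 (col2 (col4 (col0 (col2 (col2 (col0 (col0 (col0 (col3 (col0 (col5 (col6 (i))))))))))))))))))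
theorem actR12_eq (i : Nat) : actR12 i = Tab.act T D rw12 i := rfl
noncomputable def actR13 (i : Nat) : Nat := col1 (col1 (col1 (col1 (col2 (col0 (col4 (col3 (col0 (col0 (col0 (col3 (col3 (col0 (col4 (col1 (col4 (i)))))))))))))))))
theorem actR13_eq (i : Nat) : actR13 i = Tab.act T D rw13 i := rfl
noncomputable def actR14 (i : Nat) : Nat := col1 (col1 (col3 (col1 (col3 (col1 (col2 (col1 (col1 (col2 (col5 (col0 (col2 (col2 (col0 (col0 (col5 (col2 (col6 (i)))))))))))))))))))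
theorem actR14_eq (i : Nat) : actR14 i = Tab.act T D rw14 i := rfl
noncomputable def actR15 (i : Nat) : Nat := col7 (col7 (col7 (i)))
theorem actR15_eq (i : Nat) : actR15 i = Tab.act T D rw15 i := rfl
noncomputable def actR16 (i : Nat) : Nat := col6 (col0 (col7 (col1 (i))))
theorem actR16_eq (i : Nat) : actR16 i = Tab.act T D rw16 i := rfl
noncomputable def actR17 (i : Nat) : Nat := col6 (col2 (col7 (col3 (i))))
theorem actR17_eq (i : Nat) : actR17 i = Tab.act T D rw17 i := rfl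
noncomputable def actR18 (i : Nat) : Nat := col6 (col4 (col7 (col5 (i))))
theorem actR18_eq (i : Nat) : actR18 i = Tab.act T D rw18 i := rfl

end Cfsg.Agent.Lib.Helper4.TCD.C3McLB
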