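import Cfsg.Agent.Lib.Helper4.TCD_C3McLB_Acc

namespace Cfsg.Agent.Lib.Helper4.TCD.C3McLB

open Cfsg.Agent.Lib.Helper4.TC

set_option maxRecDepth 100000
set_option Elab.async false

theorem c_zero : D.zeroOK = true := by decide +kernel
theorem c_base : allBelow D.baseOK 4 = true := by decide +kernel
theorem c_let : allBelow D.letOK 8 = true := by decide +kernel
theorem c_cls0 : T.cls 0 = 0 := by decide +kernel
theorem c_name0 : T.nameOf 0 = 0 := by decide +kernel
theorem c_tab : D.relTabOK 0 (baseRels 8 PC3McL.invR PC3McL.P.real subs ++ (baseRels 8 PC3McL.invR PC3McL.P.real subs).map (invWord D.inv)) = true := by decide +kernel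
theorem c_real : PC3McL.P.real = realLit := by decide +kernel
theorem c_subfix : subs.all (fun u => Nat.beq (Tab.act T D u 0) 0) = true := by decide +kernel
theorem c_subs : subs.all (fun u => u.all (fun x => Nat.ble (Nat.succ x) 8)) = true := by decide +kernel
theorem c_names_0 : allRange D.nameOK 1 60000 = true := by decide +kernel
theorem c_names_1 : allRange D.nameOK 60001 8869 = true := by decide +kernel
theorem c_cls_0 : allRange (T.clsOK D) 1 15000 = true := by decide +kernel
theorem c_cls_1 : allRange (T.clsOK D) 15001 15000 = true := by decide +kernel
theorem c_cls_2 : allRange (T.clsOK D) 30001 15000 = true := by decide +kernel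
theorem c_cls_3 : allRange (T.clsOK D) 45001 15000 = true := by decide +kernel
theorem c_cls_4 : allRange (T.clsOK D) 60001 8869 = true := by decide +kernel
theorem c_rep_0 : allRange (T.repOK D) 0 30000 = true := by decide +kernel
theorem c_rep_1 : allRange (T.repOK D) 30000 30000 = true := by decide +kernel
theorem c_rep_2 : allRange (T.repOK D) 60000 6825 = true := by decide +kernel
theorem c_rel_0 : allRange D.relOK 68874 2924 = true := by decide +kernel
theorem c_rel_1 : allRange D.relOK 71798 3696 = true := by decide +kernel
theorem c_rel_2 : allRange D.relOK 75494 3484 = true := by decide +kernel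
theorem c_rel_3 : allRange D.relOK 78978 3438 = true := by decide +kernel
theorem c_rel_4 : allRange D.relOK 82416 3201 = true := by decide +kernel
theorem c_rel_5 : allRange D.relOK 85617 2607 = true := by decide +kernel
theorem c_rel_6 : allRange D.relOK 88224 2426 = true := by decide +kernel
theorem c_rel_7 : allRange D.relOK 90650 2431 = true := by decide +kernel
theorem c_rel_8 : allRange D.relOK 93081 2299 = true := by decide +kernel
theorem c_rel_9 : allRange D.relOK 95380 2205 = true := by decide +kernel
theorem c_rel_10 : allRange D.relOK 97585 2125 = true := by decide +kernel
theorem c_rel_11 : allRange D.relOK 99710 2143 = true := by decide +kernel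
theorem c_rel_12 : allRange D.relOK 101853 2015 = true := by decide +kernel
theorem c_rel_13 : allRange D.relOK 103868 1945 = true := by decide +kernel
theorem c_rel_14 : allRange D.relOK 105813 1909 = true := by decide +kernel
theorem c_rel_15 : allRange D.relOK 107722 1797 = true := by decide +kernel
theorem c_rel_16 : allRange D.relOK 109519 1836 = true := by decide +kernel
theorem c_rel_17 : allRange D.relOK 111355 1426 = true := by decide +kernel
theorem c_rel_18 : allRange D.relOK 112781 1825 = true := by decide +kernel
theorem c_rel_19 : allRange D.relOK 114606 1870 = true := by decide +kernel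
theorem c_rel_20 : allRange D.relOK 116476 2020 = true := by decide +kernel
theorem c_rel_21 : allRange D.relOK 118496 2018 = true := by decide +kernel
theorem c_rel_22 : allRange D.relOK 120514 1999 = true := by decide +kernel
theorem c_rel_23 : allRange D.relOK 122513 1790 = true := by decide +kernel
theorem c_rel_24 : allRange D.relOK 124303 1738 = true := by decide +kernel
theorem c_rel_25 : allRange D.relOK 126041 1722 = true := by decide +kernel
theorem c_rel_26 : allRange D.relOK 127763 1693 = true := by decide +kernel
theorem c_rel_27 : allRange D.relOK 129456 1768 = true := by decide +kernel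
theorem c_rel_28 : allRange D.relOK 131224 1675 = true := by decide +kernel
theorem c_rel_29 : allRange D.relOK 132899 1880 = true := by decide +kernel
theorem c_rel_30 : allRange D.relOK 134779 2446 = true := by decide +kernel
theorem c_rel_31 : allRange D.relOK 137225 2393 = true := by decide +kernel
theorem c_rel_32 : allRange D.relOK 139618 2441 = true := by decide +kernel
theorem c_rel_33 : allRange D.relOK 142059 2193 = true := by decide +kernel
theorem c_rel_34 : allRange D.relOK 144252 2252 = true := by decide +kernel
theorem c_rel_35 : allRange D.relOK 146504 2212 = true := by decide +kernel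
theorem c_rel_36 : allRange D.relOK 148716 2095 = true := by decide +kernel
theorem c_rel_37 : allRange D.relOK 150811 2122 = true := by decide +kernel
theorem c_rel_38 : allRange D.relOK 152933 1983 = true := by decide +kernel
theorem c_rel_39 : allRange D.relOK 154916 2020 = true := by decide +kernel
theorem c_rel_40 : allRange D.relOK 156936 2049 = true := by decide +kernel
theorem c_rel_41 : allRange D.relOK 158985 1940 = true := by decide +kernel
theorem c_rel_42 : allRange D.relOK 160925 2030 = true := by decide +kernel
theorem c_rel_43 : allRange D.relOK 162955 1976 = true := by decide +kernel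
theorem c_rel_44 : allRange D.relOK 164931 1941 = true := by decide +kernel
theorem c_rel_45 : allRange D.relOK 166872 1857 = true := by decide +kernel
theorem c_rel_46 : allRange D.relOK 168729 1918 = true := by decide +kernel
theorem c_rel_47 : allRange D.relOK 170647 1897 = true := by decide +kernel
theorem c_rel_48 : allRange D.relOK 172544 1829 = true := by decide +kernel
theorem c_rel_49 : allRange D.relOK 174373 1828 = true := by decide +kernel
theorem c_rel_50 : allRange D.relOK 176201 1780 = true := by decide +kernel
theorem c_rel_51 : allRange D.relOK 177981 1898 = true := by decide +kernel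
theorem c_rel_52 : allRange D.relOK 179879 1839 = true := by decide +kernel
theorem c_rel_53 : allRange D.relOK 181718 1761 = true := by decide +kernel
theorem c_rel_54 : allRange D.relOK 183479 1781 = true := by decide +kernel
theorem c_rel_55 : allRange D.relOK 185260 1868 = true := by decide +kernel
theorem c_rel_56 : allRange D.relOK 187128 1819 = true := by decide +kernel
theorem c_rel_57 : allRange D.relOK 188947 1798 = true := by decide +kernel
theorem c_rel_58 : allRange D.relOK 190745 1774 = true := by decide +kernel
theorem c_rel_59 : allRange D.relOK 192519 1705 = true := by decide +kernel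
theorem c_rel_60 : allRange D.relOK 194224 1717 = true := by decide +kernel
theorem c_rel_61 : allRange D.relOK 195941 1710 = true := by decide +kernel
theorem c_rel_62 : allRange D.relOK 197651 1762 = true := by decide +kernel
theorem c_rel_63 : allRange D.relOK 199413 1714 = true := by decide +kernel
theorem c_rel_64 : allRange D.relOK 201127 1686 = true := by decide +kernel
theorem c_rel_65 : allRange D.relOK 202813 1615 = true := by decide +kernel
theorem c_rel_66 : allRange D.relOK 204428 1696 = true := by decide +kernel
theorem c_rel_67 : allRange D.relOK 206124 1607 = true := by decide +kernel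
theorem c_rel_68 : allRange D.relOK 207731 1669 = true := by decide +kernel
theorem c_rel_69 : allRange D.relOK 209400 1677 = true := by decide +kernel
theorem c_rel_70 : allRange D.relOK 211077 1632 = true := by decide +kernel
theorem c_rel_71 : allRange D.relOK 212709 1608 = true := by decide +kernel
theorem c_rel_72 : allRange D.relOK 214317 1605 = true := by decide +kernel
theorem c_rel_73 : allRange D.relOK 215922 1606 = true := by decide +kernel
theorem c_rel_74 : allRange D.relOK 217528 1577 = true := by decide +kernel
theorem c_rel_75 : allRange D.relOK 219105 1574 = true := by decide +kernel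
theorem c_rel_76 : allRange D.relOK 220679 1537 = true := by decide +kernel
theorem c_rel_77 : allRange D.relOK 222216 1583 = true := by decide +kernel
theorem c_rel_78 : allRange D.relOK 223799 1536 = true := by decide +kernel
theorem c_rel_79 : allRange D.relOK 225335 1566 = true := by decide +kernel
theorem c_rel_80 : allRange D.relOK 226901 1514 = true := by decide +kernel
theorem c_rel_81 : allRange D.relOK 228415 1529 = true := by decide +kernel
theorem c_rel_82 : allRange D.relOK 229944 1568 = true := by decide +kernel

end Cfsg.Agent.Lib.Helper4.TCD.C3McLB
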