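import Cfsg.Agent.Lib.Helper4.TC11
import Cfsg.Agent.Lib.Helper4.TCD_C3McLR_Acc
import Cfsg.Agent.Lib.Helper4.TCD_C3McLL_D0
import Cfsg.Agent.Lib.Helper4.TCD_C3McLL_D1
import Cfsg.Agent.Lib.Helper4.TCD_C3McLL_D2

namespace Cfsg.Agent.Lib.Helper4.TCD.C3McLL

open Cfsg.Agent.Lib.Helper4.TC Cfsg.Agent.Lib.Helper4.TCD.C3McLR

set_option maxRecDepth 100000

noncomputable def st8_s_0_2 (c : Nat) : Nat := @Bool.rec (fun _ => Nat) (st8_0) (st8_1) (Nat.ble 1 c)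
noncomputable def st8_s_2_4 (c : Nat) : Nat := @Bool.rec (fun _ => Nat) (st8_2) (st8_3) (Nat.ble 3 c)
noncomputable def st8_s_0_4 (c : Nat) : Nat := @Bool.rec (fun _ => Nat) (st8_s_0_2 c) (st8_s_2_4 c) (Nat.ble 2 c)
noncomputable def st8_s_4_6 (c : Nat) : Nat := @Bool.rec (fun _ => Nat) (st8_4) (st8_5) (Nat.ble 5 c)
noncomputable def st8_s_6_8 (c : Nat) : Nat := @Bool.rec (fun _ => Nat) (st8_6) (st8_7) (Nat.ble 7 c)
noncomputable def st8_s_4_8 (c : Nat) : Nat := @Bool.rec (fun _ => Nat) (st8_s_4_6 c) (st8_s_6_8 c) (Nat.ble 6 c)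
noncomputable def st8_s_0_8 (c : Nat) : Nat := @Bool.rec (fun _ => Nat) (st8_s_0_4 c) (st8_s_4_8 c) (Nat.ble 4 c)
noncomputable def st8_s_8_10 (c : Nat) : Nat := @Bool.rec (fun _ => Nat) (st8_8) (st8_9) (Nat.ble 9 c)
noncomputable def st8_s_10_12 (c : Nat) : Nat := @Bool.rec (fun _ => Nat) (st8_10) (st8_11) (Nat.ble 11 c)
noncomputable def st8_s_8_12 (c : Nat) : Nat := @Bool.rec (fun _ => Nat) (st8_s_8_10 c) (st8_s_10_12 c) (Nat.ble 10 c)
noncomputable def st8_s_12_14 (c : Nat) : Nat := @Bool.rec (fun _ => Nat) (st8_12) (st8_13) (Nat.ble 13 c)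
noncomputable def st8_s_15_17 (c : Nat) : Nat := @Bool.rec (fun _ => Nat) (st8_15) (st8_16) (Nat.ble 16 c)
noncomputable def st8_s_14_17 (c : Nat) : Nat := @Bool.rec (fun _ => Nat) (st8_14) (st8_s_15_17 c) (Nat.ble 15 c)
noncomputable def st8_s_12_17 (c : Nat) : Nat := @Bool.rec (fun _ => Nat) (st8_s_12_14 c) (st8_s_14_17 c) (Nat.ble 14 c)
noncomputable def st8_s_8_17 (c : Nat) : Nat := @Bool.rec (fun _ => Nat) (st8_s_8_12 c) (st8_s_12_17 c) (Nat.ble 12 c)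
noncomputable def st8_s_0_17 (c : Nat) : Nat := @Bool.rec (fun _ => Nat) (st8_s_0_8 c) (st8_s_8_17 c) (Nat.ble 8 c)
noncomputable def st8 (i : Nat) : Nat := rdw 17 131071 (st8_s_0_17 (Nat.shiftRight i 12)) (Nat.land i 4095)
noncomputable def st9_s_0_2 (c : Nat) : Nat := @Bool.rec (fun _ => Nat) (st9_0) (st9_1) (Nat.ble 1 c)
noncomputable def st9_s_2_4 (c : Nat) : Nat := @Bool.rec (fun _ => Nat) (st9_2) (st9_3) (Nat.ble 3 c)
noncomputable def st9_s_0_4 (c : Nat) : Nat := @Bool.rec (fun _ => Nat) (st9_s_0_2 c) (st9_s_2_4 c) (Nat.ble 2 c)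
noncomputable def st9_s_4_6 (c : Nat) : Nat := @Bool.rec (fun _ => Nat) (st9_4) (st9_5) (Nat.ble 5 c)
noncomputable def st9_s_6_8 (c : Nat) : Nat := @Bool.rec (fun _ => Nat) (st9_6) (st9_7) (Nat.ble 7 c)
noncomputable def st9_s_4_8 (c : Nat) : Nat := @Bool.rec (fun _ => Nat) (st9_s_4_6 c) (st9_s_6_8 c) (Nat.ble 6 c)
noncomputable def st9_s_0_8 (c : Nat) : Nat := @Bool.rec (fun _ => Nat) (st9_s_0_4 c) (st9_s_4_8 c) (Nat.ble 4 c)
noncomputable def st9_s_8_10 (c : Nat) : Nat := @Bool.rec (fun _ => Nat) (st9_8) (st9_9) (Nat.ble 9 c)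
noncomputable def st9_s_10_12 (c : Nat) : Nat := @Bool.rec (fun _ => Nat) (st9_10) (st9_11) (Nat.ble 11 c)
noncomputable def st9_s_8_12 (c : Nat) : Nat := @Bool.rec (fun _ => Nat) (st9_s_8_10 c) (st9_s_10_12 c) (Nat.ble 10 c)
noncomputable def st9_s_12_14 (c : Nat) : Nat := @Bool.rec (fun _ => Nat) (st9_12) (st9_13) (Nat.ble 13 c)
noncomputable def st9_s_15_17 (c : Nat) : Nat := @Bool.rec (fun _ => Nat) (st9_15) (st9_16) (Nat.ble 16 c)
noncomputable def st9_s_14_17 (c : Nat) : Nat := @Bool.rec (fun _ => Nat) (st9_14) (st9_s_15_17 c) (Nat.ble 15 c)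
noncomputable def st9_s_12_17 (c : Nat) : Nat := @Bool.rec (fun _ => Nat) (st9_s_12_14 c) (st9_s_14_17 c) (Nat.ble 14 c)
noncomputable def st9_s_8_17 (c : Nat) : Nat := @Bool.rec (fun _ => Nat) (st9_s_8_12 c) (st9_s_12_17 c) (Nat.ble 12 c)
noncomputable def st9_s_0_17 (c : Nat) : Nat := @Bool.rec (fun _ => Nat) (st9_s_0_8 c) (st9_s_8_17 c) (Nat.ble 8 c)
noncomputable def st9 (i : Nat) : Nat := rdw 17 131071 (st9_s_0_17 (Nat.shiftRight i 12)) (Nat.land i 4095)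
noncomputable def st10_s_0_2 (c : Nat) : Nat := @Bool.rec (fun _ => Nat) (st10_0) (st10_1) (Nat.ble 1 c)
noncomputable def st10_s_2_4 (c : Nat) : Nat := @Bool.rec (fun _ => Nat) (st10_2) (st10_3) (Nat.ble 3 c)
noncomputable def st10_s_0_4 (c : Nat) : Nat := @Bool.rec (fun _ => Nat) (st10_s_0_2 c) (st10_s_2_4 c) (Nat.ble 2 c)
noncomputable def st10_s_4_6 (c : Nat) : Nat := @Bool.rec (fun _ => Nat) (st10_4) (st10_5) (Nat.ble 5 c)
noncomputable def st10_s_6_8 (c : Nat) : Nat := @Bool.rec (fun _ => Nat) (st10_6) (st10_7) (Nat.ble 7 c)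
noncomputable def st10_s_4_8 (c : Nat) : Nat := @Bool.rec (fun _ => Nat) (st10_s_4_6 c) (st10_s_6_8 c) (Nat.ble 6 c)
noncomputable def st10_s_0_8 (c : Nat) : Nat := @Bool.rec (fun _ => Nat) (st10_s_0_4 c) (st10_s_4_8 c) (Nat.ble 4 c)
noncomputable def st10_s_8_10 (c : Nat) : Nat := @Bool.rec (fun _ => Nat) (st10_8) (st10_9) (Nat.ble 9 c)
noncomputable def st10_s_10_12 (c : Nat) : Nat := @Bool.rec (fun _ => Nat) (st10_10) (st10_11) (Nat.ble 11 c)
noncomputable def st10_s_8_12 (c : Nat) : Nat := @Bool.rec (fun _ => Nat) (st10_s_8_10 c) (st10_s_10_12 c) (Nat.ble 10 c)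
noncomputable def st10_s_12_14 (c : Nat) : Nat := @Bool.rec (fun _ => Nat) (st10_12) (st10_13) (Nat.ble 13 c)
noncomputable def st10_s_15_17 (c : Nat) : Nat := @Bool.rec (fun _ => Nat) (st10_15) (st10_16) (Nat.ble 16 c)
noncomputable def st10_s_14_17 (c : Nat) : Nat := @Bool.rec (fun _ => Nat) (st10_14) (st10_s_15_17 c) (Nat.ble 15 c)
noncomputable def st10_s_12_17 (c : Nat) : Nat := @Bool.rec (fun _ => Nat) (st10_s_12_14 c) (st10_s_14_17 c) (Nat.ble 14 c)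
noncomputable def st10_s_8_17 (c : Nat) : Nat := @Bool.rec (fun _ => Nat) (st10_s_8_12 c) (st10_s_12_17 c) (Nat.ble 12 c)
noncomputable def st10_s_0_17 (c : Nat) : Nat := @Bool.rec (fun _ => Nat) (st10_s_0_8 c) (st10_s_8_17 c) (Nat.ble 8 c)
noncomputable def st10 (i : Nat) : Nat := rdw 17 131071 (st10_s_0_17 (Nat.shiftRight i 12)) (Nat.land i 4095)
noncomputable def st11_s_0_2 (c : Nat) : Nat := @Bool.rec (fun _ => Nat) (st11_0) (st11_1) (Nat.ble 1 c)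
noncomputable def st11_s_2_4 (c : Nat) : Nat := @Bool.rec (fun _ => Nat) (st11_2) (st11_3) (Nat.ble 3 c)
noncomputable def st11_s_0_4 (c : Nat) : Nat := @Bool.rec (fun _ => Nat) (st11_s_0_2 c) (st11_s_2_4 c) (Nat.ble 2 c)
noncomputable def st11_s_4_6 (c : Nat) : Nat := @Bool.rec (fun _ => Nat) (st11_4) (st11_5) (Nat.ble 5 c)
noncomputable def st11_s_6_8 (c : Nat) : Nat := @Bool.rec (fun _ => Nat) (st11_6) (st11_7) (Nat.ble 7 c)
noncomputable def st11_s_4_8 (c : Nat) : Nat := @Bool.rec (fun _ => Nat) (st11_s_4_6 c) (st11_s_6_8 c) (Nat.ble 6 c)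
noncomputable def st11_s_0_8 (c : Nat) : Nat := @Bool.rec (fun _ => Nat) (st11_s_0_4 c) (st11_s_4_8 c) (Nat.ble 4 c)
noncomputable def st11_s_8_10 (c : Nat) : Nat := @Bool.rec (fun _ => Nat) (st11_8) (st11_9) (Nat.ble 9 c)
noncomputable def st11_s_10_12 (c : Nat) : Nat := @Bool.rec (fun _ => Nat) (st11_10) (st11_11) (Nat.ble 11 c)
noncomputable def st11_s_8_12 (c : Nat) : Nat := @Bool.rec (fun _ => Nat) (st11_s_8_10 c) (st11_s_10_12 c) (Nat.ble 10 c)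
noncomputable def st11_s_12_14 (c : Nat) : Nat := @Bool.rec (fun _ => Nat) (st11_12) (st11_13) (Nat.ble 13 c)
noncomputable def st11_s_15_17 (c : Nat) : Nat := @Bool.rec (fun _ => Nat) (st11_15) (st11_16) (Nat.ble 16 c)
noncomputable def st11_s_14_17 (c : Nat) : Nat := @Bool.rec (fun _ => Nat) (st11_14) (st11_s_15_17 c) (Nat.ble 15 c)
noncomputable def st11_s_12_17 (c : Nat) : Nat := @Bool.rec (fun _ => Nat) (st11_s_12_14 c) (st11_s_14_17 c) (Nat.ble 14 c)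
noncomputable def st11_s_8_17 (c : Nat) : Nat := @Bool.rec (fun _ => Nat) (st11_s_8_12 c) (st11_s_12_17 c) (Nat.ble 12 c)
noncomputable def st11_s_0_17 (c : Nat) : Nat := @Bool.rec (fun _ => Nat) (st11_s_0_8 c) (st11_s_8_17 c) (Nat.ble 8 c)
noncomputable def st11 (i : Nat) : Nat := rdw 17 131071 (st11_s_0_17 (Nat.shiftRight i 12)) (Nat.land i 4095)
noncomputable def st12_s_0_2 (c : Nat) : Nat := @Bool.rec (fun _ => Nat) (st12_0) (st12_1) (Nat.ble 1 c)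
noncomputable def st12_s_2_4 (c : Nat) : Nat := @Bool.rec (fun _ => Nat) (st12_2) (st12_3) (Nat.ble 3 c)
noncomputable def st12_s_0_4 (c : Nat) : Nat := @Bool.rec (fun _ => Nat) (st12_s_0_2 c) (st12_s_2_4 c) (Nat.ble 2 c)
noncomputable def st12_s_4_6 (c : Nat) : Nat := @Bool.rec (fun _ => Nat) (st12_4) (st12_5) (Nat.ble 5 c)
noncomputable def st12_s_6_8 (c : Nat) : Nat := @Bool.rec (fun _ => Nat) (st12_6) (st12_7) (Nat.ble 7 c)
noncomputable def st12_s_4_8 (c : Nat) : Nat := @Bool.rec (fun _ => Nat) (st12_s_4_6 c) (st12_s_6_8 c) (Nat.ble 6 c)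
noncomputable def st12_s_0_8 (c : Nat) : Nat := @Bool.rec (fun _ => Nat) (st12_s_0_4 c) (st12_s_4_8 c) (Nat.ble 4 c)
noncomputable def st12_s_8_10 (c : Nat) : Nat := @Bool.rec (fun _ => Nat) (st12_8) (st12_9) (Nat.ble 9 c)
noncomputable def st12_s_10_12 (c : Nat) : Nat := @Bool.rec (fun _ => Nat) (st12_10) (st12_11) (Nat.ble 11 c)
noncomputable def st12_s_8_12 (c : Nat) : Nat := @Bool.rec (fun _ => Nat) (st12_s_8_10 c) (st12_s_10_12 c) (Nat.ble 10 c)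
noncomputable def st12_s_12_14 (c : Nat) : Nat := @Bool.rec (fun _ => Nat) (st12_12) (st12_13) (Nat.ble 13 c)
noncomputable def st12_s_15_17 (c : Nat) : Nat := @Bool.rec (fun _ => Nat) (st12_15) (st12_16) (Nat.ble 16 c)
noncomputable def st12_s_14_17 (c : Nat) : Nat := @Bool.rec (fun _ => Nat) (st12_14) (st12_s_15_17 c) (Nat.ble 15 c)
noncomputable def st12_s_12_17 (c : Nat) : Nat := @Bool.rec (fun _ => Nat) (st12_s_12_14 c) (st12_s_14_17 c) (Nat.ble 14 c)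
noncomputable def st12_s_8_17 (c : Nat) : Nat := @Bool.rec (fun _ => Nat) (st12_s_8_12 c) (st12_s_12_17 c) (Nat.ble 12 c)
noncomputable def st12_s_0_17 (c : Nat) : Nat := @Bool.rec (fun _ => Nat) (st12_s_0_8 c) (st12_s_8_17 c) (Nat.ble 8 c)
noncomputable def st12 (i : Nat) : Nat := rdw 17 131071 (st12_s_0_17 (Nat.shiftRight i 12)) (Nat.land i 4095)
noncomputable def st13_s_0_2 (c : Nat) : Nat := @Bool.rec (fun _ => Nat) (st13_0) (st13_1) (Nat.ble 1 c)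
noncomputable def st13_s_2_4 (c : Nat) : Nat := @Bool.rec (fun _ => Nat) (st13_2) (st13_3) (Nat.ble 3 c)
noncomputable def st13_s_0_4 (c : Nat) : Nat := @Bool.rec (fun _ => Nat) (st13_s_0_2 c) (st13_s_2_4 c) (Nat.ble 2 c)
noncomputable def st13_s_4_6 (c : Nat) : Nat := @Bool.rec (fun _ => Nat) (st13_4) (st13_5) (Nat.ble 5 c)
noncomputable def st13_s_6_8 (c : Nat) : Nat := @Bool.rec (fun _ => Nat) (st13_6) (st13_7) (Nat.ble 7 c)
noncomputable def st13_s_4_8 (c : Nat) : Nat := @Bool.rec (fun _ => Nat) (st13_s_4_6 c) (st13_s_6_8 c) (Nat.ble 6 c)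
noncomputable def st13_s_0_8 (c : Nat) : Nat := @Bool.rec (fun _ => Nat) (st13_s_0_4 c) (st13_s_4_8 c) (Nat.ble 4 c)
noncomputable def st13_s_8_10 (c : Nat) : Nat := @Bool.rec (fun _ => Nat) (st13_8) (st13_9) (Nat.ble 9 c)
noncomputable def st13_s_10_12 (c : Nat) : Nat := @Bool.rec (fun _ => Nat) (st13_10) (st13_11) (Nat.ble 11 c)
noncomputable def st13_s_8_12 (c : Nat) : Nat := @Bool.rec (fun _ => Nat) (st13_s_8_10 c) (st13_s_10_12 c) (Nat.ble 10 c)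
noncomputable def st13_s_12_14 (c : Nat) : Nat := @Bool.rec (fun _ => Nat) (st13_12) (st13_13) (Nat.ble 13 c)
noncomputable def st13_s_15_17 (c : Nat) : Nat := @Bool.rec (fun _ => Nat) (st13_15) (st13_16) (Nat.ble 16 c)
noncomputable def st13_s_14_17 (c : Nat) : Nat := @Bool.rec (fun _ => Nat) (st13_14) (st13_s_15_17 c) (Nat.ble 15 c)
noncomputable def st13_s_12_17 (c : Nat) : Nat := @Bool.rec (fun _ => Nat) (st13_s_12_14 c) (st13_s_14_17 c) (Nat.ble 14 c)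
noncomputable def st13_s_8_17 (c : Nat) : Nat := @Bool.rec (fun _ => Nat) (st13_s_8_12 c) (st13_s_12_17 c) (Nat.ble 12 c)
noncomputable def st13_s_0_17 (c : Nat) : Nat := @Bool.rec (fun _ => Nat) (st13_s_0_8 c) (st13_s_8_17 c) (Nat.ble 8 c)
noncomputable def st13 (i : Nat) : Nat := rdw 17 131071 (st13_s_0_17 (Nat.shiftRight i 12)) (Nat.land i 4095)
noncomputable def st14_s_0_2 (c : Nat) : Nat := @Bool.rec (fun _ => Nat) (st14_0) (st14_1) (Nat.ble 1 c)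
noncomputable def st14_s_2_4 (c : Nat) : Nat := @Bool.rec (fun _ => Nat) (st14_2) (st14_3) (Nat.ble 3 c)
noncomputable def st14_s_0_4 (c : Nat) : Nat := @Bool.rec (fun _ => Nat) (st14_s_0_2 c) (st14_s_2_4 c) (Nat.ble 2 c)
noncomputable def st14_s_4_6 (c : Nat) : Nat := @Bool.rec (fun _ => Nat) (st14_4) (st14_5) (Nat.ble 5 c)
noncomputable def st14_s_6_8 (c : Nat) : Nat := @Bool.rec (fun _ => Nat) (st14_6) (st14_7) (Nat.ble 7 c)
noncomputable def st14_s_4_8 (c : Nat) : Nat := @Bool.rec (fun _ => Nat) (st14_s_4_6 c) (st14_s_6_8 c) (Nat.ble 6 c)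
noncomputable def st14_s_0_8 (c : Nat) : Nat := @Bool.rec (fun _ => Nat) (st14_s_0_4 c) (st14_s_4_8 c) (Nat.ble 4 c)
noncomputable def st14_s_8_10 (c : Nat) : Nat := @Bool.rec (fun _ => Nat) (st14_8) (st14_9) (Nat.ble 9 c)
noncomputable def st14_s_10_12 (c : Nat) : Nat := @Bool.rec (fun _ => Nat) (st14_10) (st14_11) (Nat.ble 11 c)
noncomputable def st14_s_8_12 (c : Nat) : Nat := @Bool.rec (fun _ => Nat) (st14_s_8_10 c) (st14_s_10_12 c) (Nat.ble 10 c)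
noncomputable def st14_s_12_14 (c : Nat) : Nat := @Bool.rec (fun _ => Nat) (st14_12) (st14_13) (Nat.ble 13 c)
noncomputable def st14_s_15_17 (c : Nat) : Nat := @Bool.rec (fun _ => Nat) (st14_15) (st14_16) (Nat.ble 16 c)
noncomputable def st14_s_14_17 (c : Nat) : Nat := @Bool.rec (fun _ => Nat) (st14_14) (st14_s_15_17 c) (Nat.ble 15 c)
noncomputable def st14_s_12_17 (c : Nat) : Nat := @Bool.rec (fun _ => Nat) (st14_s_12_14 c) (st14_s_14_17 c) (Nat.ble 14 c)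
noncomputable def st14_s_8_17 (c : Nat) : Nat := @Bool.rec (fun _ => Nat) (st14_s_8_12 c) (st14_s_12_17 c) (Nat.ble 12 c)
noncomputable def st14_s_0_17 (c : Nat) : Nat := @Bool.rec (fun _ => Nat) (st14_s_0_8 c) (st14_s_8_17 c) (Nat.ble 8 c)
noncomputable def st14 (i : Nat) : Nat := rdw 17 131071 (st14_s_0_17 (Nat.shiftRight i 12)) (Nat.land i 4095)
noncomputable def st15_s_0_2 (c : Nat) : Nat := @Bool.rec (fun _ => Nat) (st15_0) (st15_1) (Nat.ble 1 c)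
noncomputable def st15_s_2_4 (c : Nat) : Nat := @Bool.rec (fun _ => Nat) (st15_2) (st15_3) (Nat.ble 3 c)
noncomputable def st15_s_0_4 (c : Nat) : Nat := @Bool.rec (fun _ => Nat) (st15_s_0_2 c) (st15_s_2_4 c) (Nat.ble 2 c)
noncomputable def st15_s_4_6 (c : Nat) : Nat := @Bool.rec (fun _ => Nat) (st15_4) (st15_5) (Nat.ble 5 c)
noncomputable def st15_s_6_8 (c : Nat) : Nat := @Bool.rec (fun _ => Nat) (st15_6) (st15_7) (Nat.ble 7 c)
noncomputable def st15_s_4_8 (c : Nat) : Nat := @Bool.rec (fun _ => Nat) (st15_s_4_6 c) (st15_s_6_8 c) (Nat.ble 6 c)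
noncomputable def st15_s_0_8 (c : Nat) : Nat := @Bool.rec (fun _ => Nat) (st15_s_0_4 c) (st15_s_4_8 c) (Nat.ble 4 c)
noncomputable def st15_s_8_10 (c : Nat) : Nat := @Bool.rec (fun _ => Nat) (st15_8) (st15_9) (Nat.ble 9 c)
noncomputable def st15_s_10_12 (c : Nat) : Nat := @Bool.rec (fun _ => Nat) (st15_10) (st15_11) (Nat.ble 11 c)
noncomputable def st15_s_8_12 (c : Nat) : Nat := @Bool.rec (fun _ => Nat) (st15_s_8_10 c) (st15_s_10_12 c) (Nat.ble 10 c)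
noncomputable def st15_s_12_14 (c : Nat) : Nat := @Bool.rec (fun _ => Nat) (st15_12) (st15_13) (Nat.ble 13 c)
noncomputable def st15_s_15_17 (c : Nat) : Nat := @Bool.rec (fun _ => Nat) (st15_15) (st15_16) (Nat.ble 16 c)
noncomputable def st15_s_14_17 (c : Nat) : Nat := @Bool.rec (fun _ => Nat) (st15_14) (st15_s_15_17 c) (Nat.ble 15 c)
noncomputable def st15_s_12_17 (c : Nat) : Nat := @Bool.rec (fun _ => Nat) (st15_s_12_14 c) (st15_s_14_17 c) (Nat.ble 14 c)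
noncomputable def st15_s_8_17 (c : Nat) : Nat := @Bool.rec (fun _ => Nat) (st15_s_8_12 c) (st15_s_12_17 c) (Nat.ble 12 c)
noncomputable def st15_s_0_17 (c : Nat) : Nat := @Bool.rec (fun _ => Nat) (st15_s_0_8 c) (st15_s_8_17 c) (Nat.ble 8 c)
noncomputable def st15 (i : Nat) : Nat := rdw 17 131071 (st15_s_0_17 (Nat.shiftRight i 12)) (Nat.land i 4095)
noncomputable def st16_s_0_2 (c : Nat) : Nat := @Bool.rec (fun _ => Nat) (st16_0) (st16_1) (Nat.ble 1 c)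
noncomputable def st16_s_2_4 (c : Nat) : Nat := @Bool.rec (fun _ => Nat) (st16_2) (st16_3) (Nat.ble 3 c)
noncomputable def st16_s_0_4 (c : Nat) : Nat := @Bool.rec (fun _ => Nat) (st16_s_0_2 c) (st16_s_2_4 c) (Nat.ble 2 c)
noncomputable def st16_s_4_6 (c : Nat) : Nat := @Bool.rec (fun _ => Nat) (st16_4) (st16_5) (Nat.ble 5 c)
noncomputable def st16_s_6_8 (c : Nat) : Nat := @Bool.rec (fun _ => Nat) (st16_6) (st16_7) (Nat.ble 7 c)
noncomputable def st16_s_4_8 (c : Nat) : Nat := @Bool.rec (fun _ => Nat) (st16_s_4_6 c) (st16_s_6_8 c) (Nat.ble 6 c)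
noncomputable def st16_s_0_8 (c : Nat) : Nat := @Bool.rec (fun _ => Nat) (st16_s_0_4 c) (st16_s_4_8 c) (Nat.ble 4 c)
noncomputable def st16_s_8_10 (c : Nat) : Nat := @Bool.rec (fun _ => Nat) (st16_8) (st16_9) (Nat.ble 9 c)
noncomputable def st16_s_10_12 (c : Nat) : Nat := @Bool.rec (fun _ => Nat) (st16_10) (st16_11) (Nat.ble 11 c)
noncomputable def st16_s_8_12 (c : Nat) : Nat := @Bool.rec (fun _ => Nat) (st16_s_8_10 c) (st16_s_10_12 c) (Nat.ble 10 c)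
noncomputable def st16_s_12_14 (c : Nat) : Nat := @Bool.rec (fun _ => Nat) (st16_12) (st16_13) (Nat.ble 13 c)
noncomputable def st16_s_15_17 (c : Nat) : Nat := @Bool.rec (fun _ => Nat) (st16_15) (st16_16) (Nat.ble 16 c)
noncomputable def st16_s_14_17 (c : Nat) : Nat := @Bool.rec (fun _ => Nat) (st16_14) (st16_s_15_17 c) (Nat.ble 15 c)
noncomputable def st16_s_12_17 (c : Nat) : Nat := @Bool.rec (fun _ => Nat) (st16_s_12_14 c) (st16_s_14_17 c) (Nat.ble 14 c)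
noncomputable def st16_s_8_17 (c : Nat) : Nat := @Bool.rec (fun _ => Nat) (st16_s_8_12 c) (st16_s_12_17 c) (Nat.ble 12 c)
noncomputable def st16_s_0_17 (c : Nat) : Nat := @Bool.rec (fun _ => Nat) (st16_s_0_8 c) (st16_s_8_17 c) (Nat.ble 8 c)
noncomputable def st16 (i : Nat) : Nat := rdw 17 131071 (st16_s_0_17 (Nat.shiftRight i 12)) (Nat.land i 4095)
noncomputable def st17_s_0_2 (c : Nat) : Nat := @Bool.rec (fun _ => Nat) (st17_0) (st17_1) (Nat.ble 1 c)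
noncomputable def st17_s_2_4 (c : Nat) : Nat := @Bool.rec (fun _ => Nat) (st17_2) (st17_3) (Nat.ble 3 c)
noncomputable def st17_s_0_4 (c : Nat) : Nat := @Bool.rec (fun _ => Nat) (st17_s_0_2 c) (st17_s_2_4 c) (Nat.ble 2 c)
noncomputable def st17_s_4_6 (c : Nat) : Nat := @Bool.rec (fun _ => Nat) (st17_4) (st17_5) (Nat.ble 5 c)
noncomputable def st17_s_6_8 (c : Nat) : Nat := @Bool.rec (fun _ => Nat) (st17_6) (st17_7) (Nat.ble 7 c)
noncomputable def st17_s_4_8 (c : Nat) : Nat := @Bool.rec (fun _ => Nat) (st17_s_4_6 c) (st17_s_6_8 c) (Nat.ble 6 c)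
noncomputable def st17_s_0_8 (c : Nat) : Nat := @Bool.rec (fun _ => Nat) (st17_s_0_4 c) (st17_s_4_8 c) (Nat.ble 4 c)
noncomputable def st17_s_8_10 (c : Nat) : Nat := @Bool.rec (fun _ => Nat) (st17_8) (st17_9) (Nat.ble 9 c)
noncomputable def st17_s_10_12 (c : Nat) : Nat := @Bool.rec (fun _ => Nat) (st17_10) (st17_11) (Nat.ble 11 c)
noncomputable def st17_s_8_12 (c : Nat) : Nat := @Bool.rec (fun _ => Nat) (st17_s_8_10 c) (st17_s_10_12 c) (Nat.ble 10 c)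
noncomputable def st17_s_12_14 (c : Nat) : Nat := @Bool.rec (fun _ => Nat) (st17_12) (st17_13) (Nat.ble 13 c)
noncomputable def st17_s_15_17 (c : Nat) : Nat := @Bool.rec (fun _ => Nat) (st17_15) (st17_16) (Nat.ble 16 c)
noncomputable def st17_s_14_17 (c : Nat) : Nat := @Bool.rec (fun _ => Nat) (st17_14) (st17_s_15_17 c) (Nat.ble 15 c)
noncomputable def st17_s_12_17 (c : Nat) : Nat := @Bool.rec (fun _ => Nat) (st17_s_12_14 c) (st17_s_14_17 c) (Nat.ble 14 c)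
noncomputable def st17_s_8_17 (c : Nat) : Nat := @Bool.rec (fun _ => Nat) (st17_s_8_12 c) (st17_s_12_17 c) (Nat.ble 12 c)
noncomputable def st17_s_0_17 (c : Nat) : Nat := @Bool.rec (fun _ => Nat) (st17_s_0_8 c) (st17_s_8_17 c) (Nat.ble 8 c)
noncomputable def st17 (i : Nat) : Nat := rdw 17 131071 (st17_s_0_17 (Nat.shiftRight i 12)) (Nat.land i 4095)
noncomputable def levTab (i : Nat) : Nat := rdw 3 7 levTab_0 i
noncomputable def betaTab (i : Nat) : Nat := rdw 17 131071 betaTab_0 i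
noncomputable def nodeTab_s_0_2 (c : Nat) : Nat := @Bool.rec (fun _ => Nat) (nodeTab_0) (nodeTab_1) (Nat.ble 1 c)
noncomputable def nodeTab_s_2_4 (c : Nat) : Nat := @Bool.rec (fun _ => Nat) (nodeTab_2) (nodeTab_3) (Nat.ble 3 c)
noncomputable def nodeTab_s_0_4 (c : Nat) : Nat := @Bool.rec (fun _ => Nat) (nodeTab_s_0_2 c) (nodeTab_s_2_4 c) (Nat.ble 2 c)
noncomputable def nodeTab_s_4_6 (c : Nat) : Nat := @Bool.rec (fun _ => Nat) (nodeTab_4) (nodeTab_5) (Nat.ble 5 c)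
noncomputable def nodeTab_s_6_8 (c : Nat) : Nat := @Bool.rec (fun _ => Nat) (nodeTab_6) (nodeTab_7) (Nat.ble 7 c)
noncomputable def nodeTab_s_4_8 (c : Nat) : Nat := @Bool.rec (fun _ => Nat) (nodeTab_s_4_6 c) (nodeTab_s_6_8 c) (Nat.ble 6 c)
noncomputable def nodeTab_s_0_8 (c : Nat) : Nat := @Bool.rec (fun _ => Nat) (nodeTab_s_0_4 c) (nodeTab_s_4_8 c) (Nat.ble 4 c)
noncomputable def nodeTab_s_8_10 (c : Nat) : Nat := @Bool.rec (fun _ => Nat) (nodeTab_8) (nodeTab_9) (Nat.ble 9 c)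
noncomputable def nodeTab_s_10_12 (c : Nat) : Nat := @Bool.rec (fun _ => Nat) (nodeTab_10) (nodeTab_11) (Nat.ble 11 c)
noncomputable def nodeTab_s_8_12 (c : Nat) : Nat := @Bool.rec (fun _ => Nat) (nodeTab_s_8_10 c) (nodeTab_s_10_12 c) (Nat.ble 10 c)
noncomputable def nodeTab_s_12_14 (c : Nat) : Nat := @Bool.rec (fun _ => Nat) (nodeTab_12) (nodeTab_13) (Nat.ble 13 c)
noncomputable def nodeTab_s_14_16 (c : Nat) : Nat := @Bool.rec (fun _ => Nat) (nodeTab_14) (nodeTab_15) (Nat.ble 15 c)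
noncomputable def nodeTab_s_12_16 (c : Nat) : Nat := @Bool.rec (fun _ => Nat) (nodeTab_s_12_14 c) (nodeTab_s_14_16 c) (Nat.ble 14 c)
noncomputable def nodeTab_s_8_16 (c : Nat) : Nat := @Bool.rec (fun _ => Nat) (nodeTab_s_8_12 c) (nodeTab_s_12_16 c) (Nat.ble 12 c)
noncomputable def nodeTab_s_0_16 (c : Nat) : Nat := @Bool.rec (fun _ => Nat) (nodeTab_s_0_8 c) (nodeTab_s_8_16 c) (Nat.ble 8 c)
noncomputable def nodeTab_s_16_18 (c : Nat) : Nat := @Bool.rec (fun _ => Nat) (nodeTab_16) (nodeTab_17) (Nat.ble 17 c)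
noncomputable def nodeTab_s_18_20 (c : Nat) : Nat := @Bool.rec (fun _ => Nat) (nodeTab_18) (nodeTab_19) (Nat.ble 19 c)
noncomputable def nodeTab_s_16_20 (c : Nat) : Nat := @Bool.rec (fun _ => Nat) (nodeTab_s_16_18 c) (nodeTab_s_18_20 c) (Nat.ble 18 c)
noncomputable def nodeTab_s_20_22 (c : Nat) : Nat := @Bool.rec (fun _ => Nat) (nodeTab_20) (nodeTab_21) (Nat.ble 21 c)
noncomputable def nodeTab_s_22_24 (c : Nat) : Nat := @Bool.rec (fun _ => Nat) (nodeTab_22) (nodeTab_23) (Nat.ble 23 c)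
noncomputable def nodeTab_s_20_24 (c : Nat) : Nat := @Bool.rec (fun _ => Nat) (nodeTab_s_20_22 c) (nodeTab_s_22_24 c) (Nat.ble 22 c)
noncomputable def nodeTab_s_16_24 (c : Nat) : Nat := @Bool.rec (fun _ => Nat) (nodeTab_s_16_20 c) (nodeTab_s_20_24 c) (Nat.ble 20 c)
noncomputable def nodeTab_s_24_26 (c : Nat) : Nat := @Bool.rec (fun _ => Nat) (nodeTab_24) (nodeTab_25) (Nat.ble 25 c)
noncomputable def nodeTab_s_26_28 (c : Nat) : Nat := @Bool.rec (fun _ => Nat) (nodeTab_26) (nodeTab_27) (Nat.ble 27 c)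
noncomputable def nodeTab_s_24_28 (c : Nat) : Nat := @Bool.rec (fun _ => Nat) (nodeTab_s_24_26 c) (nodeTab_s_26_28 c) (Nat.ble 26 c)
noncomputable def nodeTab_s_28_30 (c : Nat) : Nat := @Bool.rec (fun _ => Nat) (nodeTab_28) (nodeTab_29) (Nat.ble 29 c)
noncomputable def nodeTab_s_31_33 (c : Nat) : Nat := @Bool.rec (fun _ => Nat) (nodeTab_31) (nodeTab_32) (Nat.ble 32 c)
noncomputable def nodeTab_s_30_33 (c : Nat) : Nat := @Bool.rec (fun _ => Nat) (nodeTab_30) (nodeTab_s_31_33 c) (Nat.ble 31 c)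
noncomputable def nodeTab_s_28_33 (c : Nat) : Nat := @Bool.rec (fun _ => Nat) (nodeTab_s_28_30 c) (nodeTab_s_30_33 c) (Nat.ble 30 c)
noncomputable def nodeTab_s_24_33 (c : Nat) : Nat := @Bool.rec (fun _ => Nat) (nodeTab_s_24_28 c) (nodeTab_s_28_33 c) (Nat.ble 28 c)
noncomputable def nodeTab_s_16_33 (c : Nat) : Nat := @Bool.rec (fun _ => Nat) (nodeTab_s_16_24 c) (nodeTab_s_24_33 c) (Nat.ble 24 c)
noncomputable def nodeTab_s_0_33 (c : Nat) : Nat := @Bool.rec (fun _ => Nat) (nodeTab_s_0_16 c) (nodeTab_s_16_33 c) (Nat.ble 16 c)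
noncomputable def nodeTab (i : Nat) : Nat := rdw 43 8796093022207 (nodeTab_s_0_33 (Nat.shiftRight i 11)) (Nat.land i 2047)
noncomputable def offTab (i : Nat) : Nat := rdw 17 131071 offTab_0 i
noncomputable def nTab (i : Nat) : Nat := rdw 17 131071 nTab_0 i
noncomputable def rootTab (i : Nat) : Nat := rdw 17 131071 rootTab_0 i
noncomputable def tabF (i p : Nat) : Nat := @Bool.rec (fun _ => Nat) (@Bool.rec (fun _ => Nat) (@Bool.rec (fun _ => Nat) (@Bool.rec (fun _ => Nat) (col1 p) (col0 p) (Nat.ble 1 i)) (@Bool.rec (fun _ => Nat) (col3 p) (col2 p) (Nat.ble 3 i)) (Nat.ble 2 i)) (@Bool.rec (fun _ => Nat) (@Bool.rec (fun _ => Nat) (col5 p) (col4 p) (Nat.ble 5 i)) (@Bool.rec (fun _ => Nat) (col7 p) (@Bool.rec (fun _ => Nat) (col6 p) (st8 p) (Nat.ble 8 i)) (Nat.ble 7 i)) (Nat.ble 6 i)) (Nat.ble 4 i)) (@Bool.rec (fun _ => Nat) (@Bool.rec (fun _ => Nat) (@Bool.rec (fun _ => Nat) (st9 p) (st10 p) (Nat.ble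 10 i)) (@Bool.rec (fun _ => Nat) (st11 p) (st12 p) (Nat.ble 12 i)) (Nat.ble 11 i)) (@Bool.rec (fun _ => Nat) (@Bool.rec (fun _ => Nat) (st13 p) (st14 p) (Nat.ble 14 i)) (@Bool.rec (fun _ => Nat) (st15 p) (@Bool.rec (fun _ => Nat) (st16 p) (st17 p) (Nat.ble 17 i)) (Nat.ble 16 i)) (Nat.ble 15 i)) (Nat.ble 13 i)) (Nat.ble 9 i)
def wAF : Nat → List Nat
  | 8 => [6, 4, 3, 1, 4, 3, 4]
  | 9 => [8]
  | 10 => [9, 0, 4, 0, 9, 4, 9, 9, 1, 2, 0]
  | 11 => [0, 5, 8, 2, 0, 4, 0, 2, 2, 2]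
  | 12 => [11, 8, 3, 0]
  | 13 => [12]
  | 14 => [11, 1]
  | 15 => [2, 2, 13, 4, 2, 0, 4, 8, 11, 12, 1]
  | 16 => [15]
  | 17 => [12, 8, 10]
  | _ => []
def wBF : Nat → List Nat
  | 8 => [1, 1, 5, 0, 0, 5, 0, 4]
  | 9 => []
  | 10 => [7, 4, 1, 4, 1, 2, 4]
  | 11 => [6, 8, 0, 4, 2, 1, 4]
  | 12 => [0, 9, 9, 9]
  | 13 => []
  | 14 => [12, 12, 11, 1]
  | 15 => [8, 12, 4, 3, 1, 3, 4]
  | 16 => []
  | 17 => [3, 15, 0]
  | _ => []
noncomputable def ptF (j idx : Nat) : Nat := Nat.land (nodeTab (Nat.add (offTab j) idx)) 131071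
noncomputable def parF (j idx : Nat) : Nat := Nat.land (Nat.shiftRight (nodeTab (Nat.add (offTab j) idx)) 17) 131071
noncomputable def giF (j idx : Nat) : Nat := Nat.land (Nat.shiftRight (nodeTab (Nat.add (offTab j) idx)) 34) 31
noncomputable def depF (j idx : Nat) : Nat := Nat.shiftRight (nodeTab (Nat.add (offTab j) idx)) 39

noncomputable def S : Sgs :=
  { N := 66825, k := 8, m := 18, tab := tabF, wA := wAF, wB := wBF, lev := levTab, r := 4, beta := betaTab,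
    n := nTab, root := rootTab, pt := ptF, par := parF, gi := giF, dep := depF }

noncomputable def chk8 (p : Nat) : Bool := band (Nat.ble (Nat.succ (st8 p)) 66825) (Nat.beq (col7 (col5 (col2 (col0 (col5 (col2 (col5 (st8 p)))))))) (col0 (col0 (col4 (col1 (col1 (col4 (col1 (col5 p)))))))))
theorem chk8_eq (p : Nat) : chk8 p = Sgs.permOK S 8 p := rfl
noncomputable def chk9 (p : Nat) : Bool := band (Nat.ble (Nat.succ (st9 p)) 66825) (Nat.beq (st8 (st9 p)) p)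
theorem chk9_eq (p : Nat) : chk9 p = Sgs.permOK S 9 p := rfl
noncomputable def chk10 (p : Nat) : Bool := band (Nat.ble (Nat.succ (st10 p)) 66825) (Nat.beq (st9 (col1 (col5 (col1 (st9 (col5 (st9 (st9 (col0 (col3 (col1 (st10 p)))))))))))) (col6 (col5 (col0 (col5 (col0 (col3 (col5 p))))))))
theorem chk10_eq (p : Nat) : chk10 p = Sgs.permOK S 10 p := rfl
noncomputable def chk11 (p : Nat) : Bool := band (Nat.ble (Nat.succ (st11 p)) 66825) (Nat.beq (col1 (col4 (st8 (col3 (col1 (col5 (col1 (col3 (col3 (col3 (st11 p))))))))))) (col7 (st8 (col1 (col5 (col3 (col0 (col5 p))))))))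
theorem chk11_eq (p : Nat) : chk11 p = Sgs.permOK S 11 p := rfl
noncomputable def chk12 (p : Nat) : Bool := band (Nat.ble (Nat.succ (st12 p)) 66825) (Nat.beq (st11 (st8 (col2 (col1 (st12 p))))) (col1 (st9 (st9 (st9 p)))))
theorem chk12_eq (p : Nat) : chk12 p = Sgs.permOK S 12 p := rfl
noncomputable def chk13 (p : Nat) : Bool := band (Nat.ble (Nat.succ (st13 p)) 66825) (Nat.beq (st12 (st13 p)) p)
theorem chk13_eq (p : Nat) : chk13 p = Sgs.permOK S 13 p := rfl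
noncomputable def chk14 (p : Nat) : Bool := band (Nat.ble (Nat.succ (st14 p)) 66825) (Nat.beq (st11 (col0 (st14 p))) (st12 (st12 (st11 (col0 p)))))
theorem chk14_eq (p : Nat) : chk14 p = Sgs.permOK S 14 p := rfl
noncomputable def chk15 (p : Nat) : Bool := band (Nat.ble (Nat.succ (st15 p)) 66825) (Nat.beq (col3 (col3 (st13 (col5 (col3 (col1 (col5 (st8 (st11 (st12 (col0 (st15 p)))))))))))) (st8 (st12 (col5 (col2 (col0 (col2 (col5 p))))))))
theorem chk15_eq (p : Nat) : chk15 p = Sgs.permOK S 15 p := rfl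
noncomputable def chk16 (p : Nat) : Bool := band (Nat.ble (Nat.succ (st16 p)) 66825) (Nat.beq (st15 (st16 p)) p)
theorem chk16_eq (p : Nat) : chk16 p = Sgs.permOK S 16 p := rfl
noncomputable def chk17 (p : Nat) : Bool := band (Nat.ble (Nat.succ (st17 p)) 66825) (Nat.beq (st12 (st8 (st10 (st17 p)))) (col2 (st15 (col1 p))))
theorem chk17_eq (p : Nat) : chk17 p = Sgs.permOK S 17 p := rfl

end Cfsg.Agent.Lib.Helper4.TCD.C3McLL
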