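import Cfsg.Agent.Lib.Helper4.TCD_C3McLL_Acc

namespace Cfsg.Agent.Lib.Helper4.TCD.C3McLL

open Cfsg.Agent.Lib.Helper4.TC Cfsg.Agent.Lib.Helper4.TCD.C3McLR

set_option maxRecDepth 100000
set_option Elab.async false

theorem c_words : allRange S.wordsOK 8 10 = true := by decide +kernel
theorem c_fix : allGrid S.fixOK 0 18 4 = true := by decide +kernel
theorem c_root : allBelow (fun j => Nat.ble (Nat.succ (S.root j)) (S.n j)) 4 = true := by decide +kernel
theorem c_n0 : S.n 0 = 66825 := by decide +kernel
theorem c_n1 : S.n 1 = 630 := by decide +kernel
theorem c_n2 : S.n 2 = 16 := by decide +kernel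
theorem c_n3 : S.n 3 = 4 := by decide +kernel
theorem c_p8_0 : allRange chk8 0 3333 = true := by decide +kernel
theorem c_p8_1 : allRange chk8 3333 3333 = true := by decide +kernel
theorem c_p8_2 : allRange chk8 6666 3333 = true := by decide +kernel
theorem c_p8_3 : allRange chk8 9999 3333 = true := by decide +kernel
theorem c_p8_4 : allRange chk8 13332 3333 = true := by decide +kernel
theorem c_p8_5 : allRange chk8 16665 3333 = true := by decide +kernel
theorem c_p8_6 : allRange chk8 19998 3333 = true := by decide +kernel
theorem c_p8_7 : allRange chk8 23331 3333 = true := by decide +kernel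
theorem c_p8_8 : allRange chk8 26664 3333 = true := by decide +kernel
theorem c_p8_9 : allRange chk8 29997 3333 = true := by decide +kernel
theorem c_p8_10 : allRange chk8 33330 3333 = true := by decide +kernel
theorem c_p8_11 : allRange chk8 36663 3333 = true := by decide +kernel
theorem c_p8_12 : allRange chk8 39996 3333 = true := by decide +kernel
theorem c_p8_13 : allRange chk8 43329 3333 = true := by decide +kernel
theorem c_p8_14 : allRange chk8 46662 3333 = true := by decide +kernel
theorem c_p8_15 : allRange chk8 49995 3333 = true := by decide +kernel
theorem c_p8_16 : allRange chk8 53328 3333 = true := by decide +kernel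
theorem c_p8_17 : allRange chk8 56661 3333 = true := by decide +kernel
theorem c_p8_18 : allRange chk8 59994 3333 = true := by decide +kernel
theorem c_p8_19 : allRange chk8 63327 3333 = true := by decide +kernel
theorem c_p8_20 : allRange chk8 66660 165 = true := by decide +kernel
theorem c_p9_0 : allRange chk9 0 15000 = true := by decide +kernel
theorem c_p9_1 : allRange chk9 15000 15000 = true := by decide +kernel
theorem c_p9_2 : allRange chk9 30000 15000 = true := by decide +kernel
theorem c_p9_3 : allRange chk9 45000 15000 = true := by decide +kernel
theorem c_p9_4 : allRange chk9 60000 6825 = true := by decide +kernel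
theorem c_p10_0 : allRange chk10 0 2857 = true := by decide +kernel
theorem c_p10_1 : allRange chk10 2857 2857 = true := by decide +kernel
theorem c_p10_2 : allRange chk10 5714 2857 = true := by decide +kernel
theorem c_p10_3 : allRange chk10 8571 2857 = true := by decide +kernel
theorem c_p10_4 : allRange chk10 11428 2857 = true := by decide +kernel
theorem c_p10_5 : allRange chk10 14285 2857 = true := by decide +kernel
theorem c_p10_6 : allRange chk10 17142 2857 = true := by decide +kernel
theorem c_p10_7 : allRange chk10 19999 2857 = true := by decide +kernel
theorem c_p10_8 : allRange chk10 22856 2857 = true := by decide +kernel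
theorem c_p10_9 : allRange chk10 25713 2857 = true := by decide +kernel
theorem c_p10_10 : allRange chk10 28570 2857 = true := by decide +kernel
theorem c_p10_11 : allRange chk10 31427 2857 = true := by decide +kernel
theorem c_p10_12 : allRange chk10 34284 2857 = true := by decide +kernel
theorem c_p10_13 : allRange chk10 37141 2857 = true := by decide +kernel
theorem c_p10_14 : allRange chk10 39998 2857 = true := by decide +kernel
theorem c_p10_15 : allRange chk10 42855 2857 = true := by decide +kernel
theorem c_p10_16 : allRange chk10 45712 2857 = true := by decide +kernel
theorem c_p10_17 : allRange chk10 48569 2857 = true := by decide +kernel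
theorem c_p10_18 : allRange chk10 51426 2857 = true := by decide +kernel
theorem c_p10_19 : allRange chk10 54283 2857 = true := by decide +kernel
theorem c_p10_20 : allRange chk10 57140 2857 = true := by decide +kernel
theorem c_p10_21 : allRange chk10 59997 2857 = true := by decide +kernel
theorem c_p10_22 : allRange chk10 62854 2857 = true := by decide +kernel
theorem c_p10_23 : allRange chk10 65711 1114 = true := by decide +kernel
theorem c_p11_0 : allRange chk11 0 3000 = true := by decide +kernel
theorem c_p11_1 : allRange chk11 3000 3000 = true := by decide +kernel

end Cfsg.Agent.Lib.Helper4.TCD.C3McLL
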