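import Cfsg.Agent.Lib.Helper4.TCD_C3McLR_Acc

namespace Cfsg.Agent.Lib.Helper4.TCD.C3McLR

open Cfsg.Agent.Lib.Helper4.TC

set_option maxRecDepth 100000
set_option Elab.async false

theorem c_let : allBelow D.letOK 8 = true := by decide +kernel
theorem c_real : PC3McL.P.real = realLit := by decide +kernel
theorem c_perm_0 : allGrid (T.permOK1 D) 0 3750 8 = true := by decide +kernel
theorem c_perm_1 : allGrid (T.permOK1 D) 3750 3750 8 = true := by decide +kernel
theorem c_perm_2 : allGrid (T.permOK1 D) 7500 3750 8 = true := by decide +kernel
theorem c_perm_3 : allGrid (T.permOK1 D) 11250 3750 8 = true := by decide +kernel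
theorem c_perm_4 : allGrid (T.permOK1 D) 15000 3750 8 = true := by decide +kernel
theorem c_perm_5 : allGrid (T.permOK1 D) 18750 3750 8 = true := by decide +kernel
theorem c_perm_6 : allGrid (T.permOK1 D) 22500 3750 8 = true := by decide +kernel
theorem c_perm_7 : allGrid (T.permOK1 D) 26250 3750 8 = true := by decide +kernel
theorem c_perm_8 : allGrid (T.permOK1 D) 30000 3750 8 = true := by decide +kernel
theorem c_perm_9 : allGrid (T.permOK1 D) 33750 3750 8 = true := by decide +kernel
theorem c_perm_10 : allGrid (T.permOK1 D) 37500 3750 8 = true := by decide +kernel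
theorem c_perm_11 : allGrid (T.permOK1 D) 41250 3750 8 = true := by decide +kernel
theorem c_perm_12 : allGrid (T.permOK1 D) 45000 3750 8 = true := by decide +kernel
theorem c_perm_13 : allGrid (T.permOK1 D) 48750 3750 8 = true := by decide +kernel
theorem c_perm_14 : allGrid (T.permOK1 D) 52500 3750 8 = true := by decide +kernel
theorem c_perm_15 : allGrid (T.permOK1 D) 56250 3750 8 = true := by decide +kernel
theorem c_perm_16 : allGrid (T.permOK1 D) 60000 3750 8 = true := by decide +kernel
theorem c_perm_17 : allGrid (T.permOK1 D) 63750 3075 8 = true := by decide +kernel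
theorem c_act0_0 : allRange (fun i => Nat.beq (actR0 i) i) 0 8571 = true := by decide +kernel
theorem c_act0_1 : allRange (fun i => Nat.beq (actR0 i) i) 8571 8571 = true := by decide +kernel
theorem c_act0_2 : allRange (fun i => Nat.beq (actR0 i) i) 17142 8571 = true := by decide +kernel
theorem c_act0_3 : allRange (fun i => Nat.beq (actR0 i) i) 25713 8571 = true := by decide +kernel
theorem c_act0_4 : allRange (fun i => Nat.beq (actR0 i) i) 34284 8571 = true := by decide +kernel
theorem c_act0_5 : allRange (fun i => Nat.beq (actR0 i) i) 42855 8571 = true := by decide +kernel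
theorem c_act0_6 : allRange (fun i => Nat.beq (actR0 i) i) 51426 8571 = true := by decide +kernel
theorem c_act0_7 : allRange (fun i => Nat.beq (actR0 i) i) 59997 6828 = true := by decide +kernel
theorem c_act1_0 : allRange (fun i => Nat.beq (actR1 i) i) 0 8571 = true := by decide +kernel
theorem c_act1_1 : allRange (fun i => Nat.beq (actR1 i) i) 8571 8571 = true := by decide +kernel
theorem c_act1_2 : allRange (fun i => Nat.beq (actR1 i) i) 17142 8571 = true := by decide +kernel
theorem c_act1_3 : allRange (fun i => Nat.beq (actR1 i) i) 25713 8571 = true := by decide +kernel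
theorem c_act1_4 : allRange (fun i => Nat.beq (actR1 i) i) 34284 8571 = true := by decide +kernel
theorem c_act1_5 : allRange (fun i => Nat.beq (actR1 i) i) 42855 8571 = true := by decide +kernel
theorem c_act1_6 : allRange (fun i => Nat.beq (actR1 i) i) 51426 8571 = true := by decide +kernel
theorem c_act1_7 : allRange (fun i => Nat.beq (actR1 i) i) 59997 6828 = true := by decide +kernel
theorem c_act2_0 : allRange (fun i => Nat.beq (actR2 i) i) 0 5000 = true := by decide +kernel
theorem c_act2_1 : allRange (fun i => Nat.beq (actR2 i) i) 5000 5000 = true := by decide +kernel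
theorem c_act2_2 : allRange (fun i => Nat.beq (actR2 i) i) 10000 5000 = true := by decide +kernel
theorem c_act2_3 : allRange (fun i => Nat.beq (actR2 i) i) 15000 5000 = true := by decide +kernel
theorem c_act2_4 : allRange (fun i => Nat.beq (actR2 i) i) 20000 5000 = true := by decide +kernel
theorem c_act2_5 : allRange (fun i => Nat.beq (actR2 i) i) 25000 5000 = true := by decide +kernel
theorem c_act2_6 : allRange (fun i => Nat.beq (actR2 i) i) 30000 5000 = true := by decide +kernel
theorem c_act2_7 : allRange (fun i => Nat.beq (actR2 i) i) 35000 5000 = true := by decide +kernel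
theorem c_act2_8 : allRange (fun i => Nat.beq (actR2 i) i) 40000 5000 = true := by decide +kernel
theorem c_act2_9 : allRange (fun i => Nat.beq (actR2 i) i) 45000 5000 = true := by decide +kernel
theorem c_act2_10 : allRange (fun i => Nat.beq (actR2 i) i) 50000 5000 = true := by decide +kernel
theorem c_act2_11 : allRange (fun i => Nat.beq (actR2 i) i) 55000 5000 = true := by decide +kernel
theorem c_act2_12 : allRange (fun i => Nat.beq (actR2 i) i) 60000 5000 = true := by decide +kernel
theorem c_act2_13 : allRange (fun i => Nat.beq (actR2 i) i) 65000 1825 = true := by decide +kernel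
theorem c_act3_0 : allRange (fun i => Nat.beq (actR3 i) i) 0 5000 = true := by decide +kernel
theorem c_act3_1 : allRange (fun i => Nat.beq (actR3 i) i) 5000 5000 = true := by decide +kernel
theorem c_act3_2 : allRange (fun i => Nat.beq (actR3 i) i) 10000 5000 = true := by decide +kernel

end Cfsg.Agent.Lib.Helper4.TCD.C3McLR
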