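import Cfsg.Agent.Lib.Helper4.TCD_C3O73B_Acc

namespace Cfsg.Agent.Lib.Helper4.TCD.C3O73B

open Cfsg.Agent.Lib.Helper4.TC

set_option maxRecDepth 100000
set_option Elab.async false

theorem c_zero : D.zeroOK = true := by decide +kernel
theorem c_base : allBelow D.baseOK 6 = true := by decide +kernel
theorem c_let : allBelow D.letOK 10 = true := by decide +kernel
theorem c_cls0 : T.cls 0 = 0 := by decide +kernel
theorem c_name0 : T.nameOf 0 = 0 := by decide +kernel
theorem c_tab : D.relTabOK 0 (baseRels 10 PC3O73.invR PC3O73.P.real subs ++ (baseRels 10 PC3O73.invR PC3O73.P.real subs).map (invWord D.inv)) = true := by decide +kernel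
theorem c_real : PC3O73.P.real = realLit := by decide +kernel
theorem c_subfix : subs.all (fun u => Nat.beq (Tab.act T D u 0) 0) = true := by decide +kernel
theorem c_subs : subs.all (fun u => u.all (fun x => Nat.ble (Nat.succ x) 10)) = true := by decide +kernel
theorem c_names_0 : allRange D.nameOK 1 1305 = true := by decide +kernel
theorem c_cls_0 : allRange (T.clsOK D) 1 1305 = true := by decide +kernel
theorem c_rep_0 : allRange (T.repOK D) 0 1080 = true := by decide +kernel
theorem c_rel_0 : allRange D.relOK 1312 1888 = true := by decide +kernel
theorem c_rel_1 : allRange D.relOK 3200 1490 = true := by decide +kernel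
theorem c_rel_2 : allRange D.relOK 4690 1667 = true := by decide +kernel
theorem c_fin_0 : allGrid (T.finOK D) 0 1080 10 = true := by decide +kernel
theorem c_perm_0 : allGrid (T.permOK1 D) 0 1080 10 = true := by decide +kernel
theorem c_act0_0 : allRange (fun i => Nat.beq (actR0 i) i) 0 1080 = true := by decide +kernel
theorem c_act1_0 : allRange (fun i => Nat.beq (actR1 i) i) 0 1080 = true := by decide +kernel
theorem c_act2_0 : allRange (fun i => Nat.beq (actR2 i) i) 0 1080 = true := by decide +kernel
theorem c_act3_0 : allRange (fun i => Nat.beq (actR3 i) i) 0 1080 = true := by decide +kernel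
theorem c_act4_0 : allRange (fun i => Nat.beq (actR4 i) i) 0 1080 = true := by decide +kernel
theorem c_act5_0 : allRange (fun i => Nat.beq (actR5 i) i) 0 1080 = true := by decide +kernel
theorem c_act6_0 : allRange (fun i => Nat.beq (actR6 i) i) 0 1080 = true := by decide +kernel
theorem c_act7_0 : allRange (fun i => Nat.beq (actR7 i) i) 0 1080 = true := by decide +kernel
theorem c_act8_0 : allRange (fun i => Nat.beq (actR8 i) i) 0 1080 = true := by decide +kernel
theorem c_act9_0 : allRange (fun i => Nat.beq (actR9 i) i) 0 1080 = true := by decide +kernel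
theorem c_act10_0 : allRange (fun i => Nat.beq (actR10 i) i) 0 1080 = true := by decide +kernel
theorem c_act11_0 : allRange (fun i => Nat.beq (actR11 i) i) 0 1080 = true := by decide +kernel
theorem c_act12_0 : allRange (fun i => Nat.beq (actR12 i) i) 0 1080 = true := by decide +kernel
theorem c_act13_0 : allRange (fun i => Nat.beq (actR13 i) i) 0 1080 = true := by decide +kernel
theorem c_act14_0 : allRange (fun i => Nat.beq (actR14 i) i) 0 1080 = true := by decide +kernel
theorem c_act15_0 : allRange (fun i => Nat.beq (actR15 i) i) 0 1080 = true := by decide +kernel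
theorem c_act16_0 : allRange (fun i => Nat.beq (actR16 i) i) 0 1080 = true := by decide +kernel
theorem c_act17_0 : allRange (fun i => Nat.beq (actR17 i) i) 0 1080 = true := by decide +kernel
theorem c_act18_0 : allRange (fun i => Nat.beq (actR18 i) i) 0 1080 = true := by decide +kernel
theorem c_act19_0 : allRange (fun i => Nat.beq (actR19 i) i) 0 1080 = true := by decide +kernel
theorem c_act20_0 : allRange (fun i => Nat.beq (actR20 i) i) 0 1080 = true := by decide +kernel
theorem c_act21_0 : allRange (fun i => Nat.beq (actR21 i) i) 0 1080 = true := by decide +kernel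
theorem c_act22_0 : allRange (fun i => Nat.beq (actR22 i) i) 0 1080 = true := by decide +kernel
theorem c_act23_0 : allRange (fun i => Nat.beq (actR23 i) i) 0 1080 = true := by decide +kernel
theorem c_act24_0 : allRange (fun i => Nat.beq (actR24 i) i) 0 1080 = true := by decide +kernel
theorem c_act25_0 : allRange (fun i => Nat.beq (actR25 i) i) 0 1080 = true := by decide +kernel
theorem c_act26_0 : allRange (fun i => Nat.beq (actR26 i) i) 0 1080 = true := by decide +kernel
theorem c_act27_0 : allRange (fun i => Nat.beq (actR27 i) i) 0 1080 = true := by decide +kernel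
theorem c_act28_0 : allRange (fun i => Nat.beq (actR28 i) i) 0 1080 = true := by decide +kernel
theorem c_act29_0 : allRange (fun i => Nat.beq (actR29 i) i) 0 1080 = true := by decide +kernel
theorem c_act30_0 : allRange (fun i => Nat.beq (actR30 i) i) 0 1080 = true := by decide +kernel
theorem c_act31_0 : allRange (fun i => Nat.beq (actR31 i) i) 0 1080 = true := by decide +kernel
theorem c_act32_0 : allRange (fun i => Nat.beq (actR32 i) i) 0 1080 = true := by decide +kernel
theorem c_act33_0 : allRange (fun i => Nat.beq (actR33 i) i) 0 1080 = true := by decide +kernel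
theorem c_act34_0 : allRange (fun i => Nat.beq (actR34 i) i) 0 1080 = true := by decide +kernel

end Cfsg.Agent.Lib.Helper4.TCD.C3O73B
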