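import Cfsg.Agent.Lib.Helper4.TCD_C3O73R_Acc

namespace Cfsg.Agent.Lib.Helper4.TCD.C3O73R

open Cfsg.Agent.Lib.Helper4.TC

set_option maxRecDepth 100000
set_option Elab.async false

theorem c_let : allBelow D.letOK 10 = true := by decide +kernel
theorem c_real : PC3O73.P.real = realLit := by decide +kernel
theorem c_perm_0 : allGrid (T.permOK1 D) 0 3000 10 = true := by decide +kernel
theorem c_perm_1 : allGrid (T.permOK1 D) 3000 3000 10 = true := by decide +kernel
theorem c_perm_2 : allGrid (T.permOK1 D) 6000 3000 10 = true := by decide +kernel
theorem c_perm_3 : allGrid (T.permOK1 D) 9000 477 10 = true := by decide +kernel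
theorem c_act0_0 : allRange (fun i => Nat.beq (actR0 i) i) 0 8571 = true := by decide +kernel
theorem c_act0_1 : allRange (fun i => Nat.beq (actR0 i) i) 8571 906 = true := by decide +kernel
theorem c_act1_0 : allRange (fun i => Nat.beq (actR1 i) i) 0 5454 = true := by decide +kernel
theorem c_act1_1 : allRange (fun i => Nat.beq (actR1 i) i) 5454 4023 = true := by decide +kernel
theorem c_act2_0 : allRange (fun i => Nat.beq (actR2 i) i) 0 5000 = true := by decide +kernel
theorem c_act2_1 : allRange (fun i => Nat.beq (actR2 i) i) 5000 4477 = true := by decide +kernel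
theorem c_act3_0 : allRange (fun i => Nat.beq (actR3 i) i) 0 5000 = true := by decide +kernel
theorem c_act3_1 : allRange (fun i => Nat.beq (actR3 i) i) 5000 4477 = true := by decide +kernel
theorem c_act4_0 : allRange (fun i => Nat.beq (actR4 i) i) 0 9477 = true := by decide +kernel
theorem c_act5_0 : allRange (fun i => Nat.beq (actR5 i) i) 0 7500 = true := by decide +kernel
theorem c_act5_1 : allRange (fun i => Nat.beq (actR5 i) i) 7500 1977 = true := by decide +kernel
theorem c_act6_0 : allRange (fun i => Nat.beq (actR6 i) i) 0 6666 = true := by decide +kernel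
theorem c_act6_1 : allRange (fun i => Nat.beq (actR6 i) i) 6666 2811 = true := by decide +kernel
theorem c_act7_0 : allRange (fun i => Nat.beq (actR7 i) i) 0 6000 = true := by decide +kernel
theorem c_act7_1 : allRange (fun i => Nat.beq (actR7 i) i) 6000 3477 = true := by decide +kernel
theorem c_act8_0 : allRange (fun i => Nat.beq (actR8 i) i) 0 6000 = true := by decide +kernel
theorem c_act8_1 : allRange (fun i => Nat.beq (actR8 i) i) 6000 3477 = true := by decide +kernel
theorem c_act9_0 : allRange (fun i => Nat.beq (actR9 i) i) 0 4000 = true := by decide +kernel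
theorem c_act9_1 : allRange (fun i => Nat.beq (actR9 i) i) 4000 4000 = true := by decide +kernel
theorem c_act9_2 : allRange (fun i => Nat.beq (actR9 i) i) 8000 1477 = true := by decide +kernel
theorem c_act10_0 : allRange (fun i => Nat.beq (actR10 i) i) 0 9477 = true := by decide +kernel
theorem c_act11_0 : allRange (fun i => Nat.beq (actR11 i) i) 0 7500 = true := by decide +kernel
theorem c_act11_1 : allRange (fun i => Nat.beq (actR11 i) i) 7500 1977 = true := by decide +kernel
theorem c_act12_0 : allRange (fun i => Nat.beq (actR12 i) i) 0 7500 = true := by decide +kernel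
theorem c_act12_1 : allRange (fun i => Nat.beq (actR12 i) i) 7500 1977 = true := by decide +kernel
theorem c_act13_0 : allRange (fun i => Nat.beq (actR13 i) i) 0 6000 = true := by decide +kernel
theorem c_act13_1 : allRange (fun i => Nat.beq (actR13 i) i) 6000 3477 = true := by decide +kernel
theorem c_act14_0 : allRange (fun i => Nat.beq (actR14 i) i) 0 6000 = true := by decide +kernel
theorem c_act14_1 : allRange (fun i => Nat.beq (actR14 i) i) 6000 3477 = true := by decide +kernel
theorem c_act15_0 : allRange (fun i => Nat.beq (actR15 i) i) 0 5454 = true := by decide +kernel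
theorem c_act15_1 : allRange (fun i => Nat.beq (actR15 i) i) 5454 4023 = true := by decide +kernel
theorem c_act16_0 : allRange (fun i => Nat.beq (actR16 i) i) 0 5000 = true := by decide +kernel
theorem c_act16_1 : allRange (fun i => Nat.beq (actR16 i) i) 5000 4477 = true := by decide +kernel
theorem c_act17_0 : allRange (fun i => Nat.beq (actR17 i) i) 0 5000 = true := by decide +kernel
theorem c_act17_1 : allRange (fun i => Nat.beq (actR17 i) i) 5000 4477 = true := by decide +kernel
theorem c_act18_0 : allRange (fun i => Nat.beq (actR18 i) i) 0 5000 = true := by decide +kernel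
theorem c_act18_1 : allRange (fun i => Nat.beq (actR18 i) i) 5000 4477 = true := by decide +kernel
theorem c_act19_0 : allRange (fun i => Nat.beq (actR19 i) i) 0 5000 = true := by decide +kernel
theorem c_act19_1 : allRange (fun i => Nat.beq (actR19 i) i) 5000 4477 = true := by decide +kernel
theorem c_act20_0 : allRange (fun i => Nat.beq (actR20 i) i) 0 4615 = true := by decide +kernel
theorem c_act20_1 : allRange (fun i => Nat.beq (actR20 i) i) 4615 4615 = true := by decide +kernel
theorem c_act20_2 : allRange (fun i => Nat.beq (actR20 i) i) 9230 247 = true := by decide +kernel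
theorem c_act21_0 : allRange (fun i => Nat.beq (actR21 i) i) 0 4285 = true := by decide +kernel
theorem c_act21_1 : allRange (fun i => Nat.beq (actR21 i) i) 4285 4285 = true := by decide +kernel
theorem c_act21_2 : allRange (fun i => Nat.beq (actR21 i) i) 8570 907 = true := by decide +kernel
theorem c_act22_0 : allRange (fun i => Nat.beq (actR22 i) i) 0 4285 = true := by decide +kernel
theorem c_act22_1 : allRange (fun i => Nat.beq (actR22 i) i) 4285 4285 = true := by decide +kernel
theorem c_act22_2 : allRange (fun i => Nat.beq (actR22 i) i) 8570 907 = true := by decide +kernel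
theorem c_act23_0 : allRange (fun i => Nat.beq (actR23 i) i) 0 4285 = true := by decide +kernel
theorem c_act23_1 : allRange (fun i => Nat.beq (actR23 i) i) 4285 4285 = true := by decide +kernel
theorem c_act23_2 : allRange (fun i => Nat.beq (actR23 i) i) 8570 907 = true := by decide +kernel
theorem c_act24_0 : allRange (fun i => Nat.beq (actR24 i) i) 0 4285 = true := by decide +kernel
theorem c_act24_1 : allRange (fun i => Nat.beq (actR24 i) i) 4285 4285 = true := by decide +kernel
theorem c_act24_2 : allRange (fun i => Nat.beq (actR24 i) i) 8570 907 = true := by decide +kernel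
theorem c_act25_0 : allRange (fun i => Nat.beq (actR25 i) i) 0 4285 = true := by decide +kernel
theorem c_act25_1 : allRange (fun i => Nat.beq (actR25 i) i) 4285 4285 = true := by decide +kernel
theorem c_act25_2 : allRange (fun i => Nat.beq (actR25 i) i) 8570 907 = true := by decide +kernel
theorem c_act26_0 : allRange (fun i => Nat.beq (actR26 i) i) 0 4285 = true := by decide +kernel
theorem c_act26_1 : allRange (fun i => Nat.beq (actR26 i) i) 4285 4285 = true := by decide +kernel
theorem c_act26_2 : allRange (fun i => Nat.beq (actR26 i) i) 8570 907 = true := by decide +kernel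

end Cfsg.Agent.Lib.Helper4.TCD.C3O73R
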