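import Cfsg.Agent.Lib.Helper4.TC7
import Cfsg.Agent.Lib.Helper4.TCP_C3Suz
import Cfsg.Agent.Lib.Helper4.TCD_C3SuzB_D0
import Cfsg.Agent.Lib.Helper4.TCD_C3SuzB_D1
import Cfsg.Agent.Lib.Helper4.TCD_C3SuzB_D2
import Cfsg.Agent.Lib.Helper4.TCD_C3SuzB_D3
import Cfsg.Agent.Lib.Helper4.TCD_C3SuzB_D4

namespace Cfsg.Agent.Lib.Helper4.TCD.C3SuzB

open Cfsg.Agent.Lib.Helper4.TC

set_option maxRecDepth 100000

noncomputable def Atab_s_0_2 (c : Nat) : Nat := @Bool.rec (fun _ => Nat) (Atab_0) (Atab_1) (Nat.ble 1 c)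
noncomputable def Atab_s_3_5 (c : Nat) : Nat := @Bool.rec (fun _ => Nat) (Atab_3) (Atab_4) (Nat.ble 4 c)
noncomputable def Atab_s_2_5 (c : Nat) : Nat := @Bool.rec (fun _ => Nat) (Atab_2) (Atab_s_3_5 c) (Nat.ble 3 c)
noncomputable def Atab_s_0_5 (c : Nat) : Nat := @Bool.rec (fun _ => Nat) (Atab_s_0_2 c) (Atab_s_2_5 c) (Nat.ble 2 c)
noncomputable def Atab_s_5_7 (c : Nat) : Nat := @Bool.rec (fun _ => Nat) (Atab_5) (Atab_6) (Nat.ble 6 c)
noncomputable def Atab_s_8_10 (c : Nat) : Nat := @Bool.rec (fun _ => Nat) (Atab_8) (Atab_9) (Nat.ble 9 c)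
noncomputable def Atab_s_7_10 (c : Nat) : Nat := @Bool.rec (fun _ => Nat) (Atab_7) (Atab_s_8_10 c) (Nat.ble 8 c)
noncomputable def Atab_s_5_10 (c : Nat) : Nat := @Bool.rec (fun _ => Nat) (Atab_s_5_7 c) (Atab_s_7_10 c) (Nat.ble 7 c)
noncomputable def Atab_s_0_10 (c : Nat) : Nat := @Bool.rec (fun _ => Nat) (Atab_s_0_5 c) (Atab_s_5_10 c) (Nat.ble 5 c)
noncomputable def Atab_s_10_12 (c : Nat) : Nat := @Bool.rec (fun _ => Nat) (Atab_10) (Atab_11) (Nat.ble 11 c)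
noncomputable def Atab_s_13_15 (c : Nat) : Nat := @Bool.rec (fun _ => Nat) (Atab_13) (Atab_14) (Nat.ble 14 c)
noncomputable def Atab_s_12_15 (c : Nat) : Nat := @Bool.rec (fun _ => Nat) (Atab_12) (Atab_s_13_15 c) (Nat.ble 13 c)
noncomputable def Atab_s_10_15 (c : Nat) : Nat := @Bool.rec (fun _ => Nat) (Atab_s_10_12 c) (Atab_s_12_15 c) (Nat.ble 12 c)
noncomputable def Atab_s_16_18 (c : Nat) : Nat := @Bool.rec (fun _ => Nat) (Atab_16) (Atab_17) (Nat.ble 17 c)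
noncomputable def Atab_s_15_18 (c : Nat) : Nat := @Bool.rec (fun _ => Nat) (Atab_15) (Atab_s_16_18 c) (Nat.ble 16 c)
noncomputable def Atab_s_19_21 (c : Nat) : Nat := @Bool.rec (fun _ => Nat) (Atab_19) (Atab_20) (Nat.ble 20 c)
noncomputable def Atab_s_18_21 (c : Nat) : Nat := @Bool.rec (fun _ => Nat) (Atab_18) (Atab_s_19_21 c) (Nat.ble 19 c)
noncomputable def Atab_s_15_21 (c : Nat) : Nat := @Bool.rec (fun _ => Nat) (Atab_s_15_18 c) (Atab_s_18_21 c) (Nat.ble 18 c)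
noncomputable def Atab_s_10_21 (c : Nat) : Nat := @Bool.rec (fun _ => Nat) (Atab_s_10_15 c) (Atab_s_15_21 c) (Nat.ble 15 c)
noncomputable def Atab_s_0_21 (c : Nat) : Nat := @Bool.rec (fun _ => Nat) (Atab_s_0_10 c) (Atab_s_10_21 c) (Nat.ble 10 c)
noncomputable def Atab_s_21_23 (c : Nat) : Nat := @Bool.rec (fun _ => Nat) (Atab_21) (Atab_22) (Nat.ble 22 c)
noncomputable def Atab_s_24_26 (c : Nat) : Nat := @Bool.rec (fun _ => Nat) (Atab_24) (Atab_25) (Nat.ble 25 c)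
noncomputable def Atab_s_23_26 (c : Nat) : Nat := @Bool.rec (fun _ => Nat) (Atab_23) (Atab_s_24_26 c) (Nat.ble 24 c)
noncomputable def Atab_s_21_26 (c : Nat) : Nat := @Bool.rec (fun _ => Nat) (Atab_s_21_23 c) (Atab_s_23_26 c) (Nat.ble 23 c)
noncomputable def Atab_s_27_29 (c : Nat) : Nat := @Bool.rec (fun _ => Nat) (Atab_27) (Atab_28) (Nat.ble 28 c)
noncomputable def Atab_s_26_29 (c : Nat) : Nat := @Bool.rec (fun _ => Nat) (Atab_26) (Atab_s_27_29 c) (Nat.ble 27 c)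
noncomputable def Atab_s_30_32 (c : Nat) : Nat := @Bool.rec (fun _ => Nat) (Atab_30) (Atab_31) (Nat.ble 31 c)
noncomputable def Atab_s_29_32 (c : Nat) : Nat := @Bool.rec (fun _ => Nat) (Atab_29) (Atab_s_30_32 c) (Nat.ble 30 c)
noncomputable def Atab_s_26_32 (c : Nat) : Nat := @Bool.rec (fun _ => Nat) (Atab_s_26_29 c) (Atab_s_29_32 c) (Nat.ble 29 c)
noncomputable def Atab_s_21_32 (c : Nat) : Nat := @Bool.rec (fun _ => Nat) (Atab_s_21_26 c) (Atab_s_26_32 c) (Nat.ble 26 c)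
noncomputable def Atab_s_32_34 (c : Nat) : Nat := @Bool.rec (fun _ => Nat) (Atab_32) (Atab_33) (Nat.ble 33 c)
noncomputable def Atab_s_35_37 (c : Nat) : Nat := @Bool.rec (fun _ => Nat) (Atab_35) (Atab_36) (Nat.ble 36 c)
noncomputable def Atab_s_34_37 (c : Nat) : Nat := @Bool.rec (fun _ => Nat) (Atab_34) (Atab_s_35_37 c) (Nat.ble 35 c)
noncomputable def Atab_s_32_37 (c : Nat) : Nat := @Bool.rec (fun _ => Nat) (Atab_s_32_34 c) (Atab_s_34_37 c) (Nat.ble 34 c)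
noncomputable def Atab_s_38_40 (c : Nat) : Nat := @Bool.rec (fun _ => Nat) (Atab_38) (Atab_39) (Nat.ble 39 c)
noncomputable def Atab_s_37_40 (c : Nat) : Nat := @Bool.rec (fun _ => Nat) (Atab_37) (Atab_s_38_40 c) (Nat.ble 38 c)
noncomputable def Atab_s_41_43 (c : Nat) : Nat := @Bool.rec (fun _ => Nat) (Atab_41) (Atab_42) (Nat.ble 42 c)
noncomputable def Atab_s_40_43 (c : Nat) : Nat := @Bool.rec (fun _ => Nat) (Atab_40) (Atab_s_41_43 c) (Nat.ble 41 c)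
noncomputable def Atab_s_37_43 (c : Nat) : Nat := @Bool.rec (fun _ => Nat) (Atab_s_37_40 c) (Atab_s_40_43 c) (Nat.ble 40 c)
noncomputable def Atab_s_32_43 (c : Nat) : Nat := @Bool.rec (fun _ => Nat) (Atab_s_32_37 c) (Atab_s_37_43 c) (Nat.ble 37 c)
noncomputable def Atab_s_21_43 (c : Nat) : Nat := @Bool.rec (fun _ => Nat) (Atab_s_21_32 c) (Atab_s_32_43 c) (Nat.ble 32 c)
noncomputable def Atab_s_0_43 (c : Nat) : Nat := @Bool.rec (fun _ => Nat) (Atab_s_0_21 c) (Atab_s_21_43 c) (Nat.ble 21 c)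
noncomputable def Atab_s_43_45 (c : Nat) : Nat := @Bool.rec (fun _ => Nat) (Atab_43) (Atab_44) (Nat.ble 44 c)
noncomputable def Atab_s_46_48 (c : Nat) : Nat := @Bool.rec (fun _ => Nat) (Atab_46) (Atab_47) (Nat.ble 47 c)
noncomputable def Atab_s_45_48 (c : Nat) : Nat := @Bool.rec (fun _ => Nat) (Atab_45) (Atab_s_46_48 c) (Nat.ble 46 c)
noncomputable def Atab_s_43_48 (c : Nat) : Nat := @Bool.rec (fun _ => Nat) (Atab_s_43_45 c) (Atab_s_45_48 c) (Nat.ble 45 c)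
noncomputable def Atab_s_48_50 (c : Nat) : Nat := @Bool.rec (fun _ => Nat) (Atab_48) (Atab_49) (Nat.ble 49 c)
noncomputable def Atab_s_51_53 (c : Nat) : Nat := @Bool.rec (fun _ => Nat) (Atab_51) (Atab_52) (Nat.ble 52 c)
noncomputable def Atab_s_50_53 (c : Nat) : Nat := @Bool.rec (fun _ => Nat) (Atab_50) (Atab_s_51_53 c) (Nat.ble 51 c)
noncomputable def Atab_s_48_53 (c : Nat) : Nat := @Bool.rec (fun _ => Nat) (Atab_s_48_50 c) (Atab_s_50_53 c) (Nat.ble 50 c)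
noncomputable def Atab_s_43_53 (c : Nat) : Nat := @Bool.rec (fun _ => Nat) (Atab_s_43_48 c) (Atab_s_48_53 c) (Nat.ble 48 c)
noncomputable def Atab_s_53_55 (c : Nat) : Nat := @Bool.rec (fun _ => Nat) (Atab_53) (Atab_54) (Nat.ble 54 c)
noncomputable def Atab_s_56_58 (c : Nat) : Nat := @Bool.rec (fun _ => Nat) (Atab_56) (Atab_57) (Nat.ble 57 c)
noncomputable def Atab_s_55_58 (c : Nat) : Nat := @Bool.rec (fun _ => Nat) (Atab_55) (Atab_s_56_58 c) (Nat.ble 56 c)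
noncomputable def Atab_s_53_58 (c : Nat) : Nat := @Bool.rec (fun _ => Nat) (Atab_s_53_55 c) (Atab_s_55_58 c) (Nat.ble 55 c)
noncomputable def Atab_s_59_61 (c : Nat) : Nat := @Bool.rec (fun _ => Nat) (Atab_59) (Atab_60) (Nat.ble 60 c)
noncomputable def Atab_s_58_61 (c : Nat) : Nat := @Bool.rec (fun _ => Nat) (Atab_58) (Atab_s_59_61 c) (Nat.ble 59 c)
noncomputable def Atab_s_62_64 (c : Nat) : Nat := @Bool.rec (fun _ => Nat) (Atab_62) (Atab_63) (Nat.ble 63 c)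
noncomputable def Atab_s_61_64 (c : Nat) : Nat := @Bool.rec (fun _ => Nat) (Atab_61) (Atab_s_62_64 c) (Nat.ble 62 c)
noncomputable def Atab_s_58_64 (c : Nat) : Nat := @Bool.rec (fun _ => Nat) (Atab_s_58_61 c) (Atab_s_61_64 c) (Nat.ble 61 c)
noncomputable def Atab_s_53_64 (c : Nat) : Nat := @Bool.rec (fun _ => Nat) (Atab_s_53_58 c) (Atab_s_58_64 c) (Nat.ble 58 c)
noncomputable def Atab_s_43_64 (c : Nat) : Nat := @Bool.rec (fun _ => Nat) (Atab_s_43_53 c) (Atab_s_53_64 c) (Nat.ble 53 c)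
noncomputable def Atab_s_64_66 (c : Nat) : Nat := @Bool.rec (fun _ => Nat) (Atab_64) (Atab_65) (Nat.ble 65 c)
noncomputable def Atab_s_67_69 (c : Nat) : Nat := @Bool.rec (fun _ => Nat) (Atab_67) (Atab_68) (Nat.ble 68 c)
noncomputable def Atab_s_66_69 (c : Nat) : Nat := @Bool.rec (fun _ => Nat) (Atab_66) (Atab_s_67_69 c) (Nat.ble 67 c)
noncomputable def Atab_s_64_69 (c : Nat) : Nat := @Bool.rec (fun _ => Nat) (Atab_s_64_66 c) (Atab_s_66_69 c) (Nat.ble 66 c)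
noncomputable def Atab_s_70_72 (c : Nat) : Nat := @Bool.rec (fun _ => Nat) (Atab_70) (Atab_71) (Nat.ble 71 c)
noncomputable def Atab_s_69_72 (c : Nat) : Nat := @Bool.rec (fun _ => Nat) (Atab_69) (Atab_s_70_72 c) (Nat.ble 70 c)
noncomputable def Atab_s_73_75 (c : Nat) : Nat := @Bool.rec (fun _ => Nat) (Atab_73) (Atab_74) (Nat.ble 74 c)
noncomputable def Atab_s_72_75 (c : Nat) : Nat := @Bool.rec (fun _ => Nat) (Atab_72) (Atab_s_73_75 c) (Nat.ble 73 c)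
noncomputable def Atab_s_69_75 (c : Nat) : Nat := @Bool.rec (fun _ => Nat) (Atab_s_69_72 c) (Atab_s_72_75 c) (Nat.ble 72 c)
noncomputable def Atab_s_64_75 (c : Nat) : Nat := @Bool.rec (fun _ => Nat) (Atab_s_64_69 c) (Atab_s_69_75 c) (Nat.ble 69 c)
noncomputable def Atab_s_75_77 (c : Nat) : Nat := @Bool.rec (fun _ => Nat) (Atab_75) (Atab_76) (Nat.ble 76 c)
noncomputable def Atab_s_78_80 (c : Nat) : Nat := @Bool.rec (fun _ => Nat) (Atab_78) (Atab_79) (Nat.ble 79 c)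
noncomputable def Atab_s_77_80 (c : Nat) : Nat := @Bool.rec (fun _ => Nat) (Atab_77) (Atab_s_78_80 c) (Nat.ble 78 c)
noncomputable def Atab_s_75_80 (c : Nat) : Nat := @Bool.rec (fun _ => Nat) (Atab_s_75_77 c) (Atab_s_77_80 c) (Nat.ble 77 c)
noncomputable def Atab_s_81_83 (c : Nat) : Nat := @Bool.rec (fun _ => Nat) (Atab_81) (Atab_82) (Nat.ble 82 c)
noncomputable def Atab_s_80_83 (c : Nat) : Nat := @Bool.rec (fun _ => Nat) (Atab_80) (Atab_s_81_83 c) (Nat.ble 81 c)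
noncomputable def Atab_s_84_86 (c : Nat) : Nat := @Bool.rec (fun _ => Nat) (Atab_84) (Atab_85) (Nat.ble 85 c)
noncomputable def Atab_s_83_86 (c : Nat) : Nat := @Bool.rec (fun _ => Nat) (Atab_83) (Atab_s_84_86 c) (Nat.ble 84 c)
noncomputable def Atab_s_80_86 (c : Nat) : Nat := @Bool.rec (fun _ => Nat) (Atab_s_80_83 c) (Atab_s_83_86 c) (Nat.ble 83 c)
noncomputable def Atab_s_75_86 (c : Nat) : Nat := @Bool.rec (fun _ => Nat) (Atab_s_75_80 c) (Atab_s_80_86 c) (Nat.ble 80 c)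
noncomputable def Atab_s_64_86 (c : Nat) : Nat := @Bool.rec (fun _ => Nat) (Atab_s_64_75 c) (Atab_s_75_86 c) (Nat.ble 75 c)
noncomputable def Atab_s_43_86 (c : Nat) : Nat := @Bool.rec (fun _ => Nat) (Atab_s_43_64 c) (Atab_s_64_86 c) (Nat.ble 64 c)
noncomputable def Atab_s_0_86 (c : Nat) : Nat := @Bool.rec (fun _ => Nat) (Atab_s_0_43 c) (Atab_s_43_86 c) (Nat.ble 43 c)
noncomputable def Atab (i : Nat) : Nat := rdw 37 137438953471 (Atab_s_0_86 (Nat.shiftRight i 11)) (Nat.land i 2047)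
noncomputable def Btab_s_0_2 (c : Nat) : Nat := @Bool.rec (fun _ => Nat) (Btab_0) (Btab_1) (Nat.ble 1 c)
noncomputable def Btab_s_2_4 (c : Nat) : Nat := @Bool.rec (fun _ => Nat) (Btab_2) (Btab_3) (Nat.ble 3 c)
noncomputable def Btab_s_0_4 (c : Nat) : Nat := @Bool.rec (fun _ => Nat) (Btab_s_0_2 c) (Btab_s_2_4 c) (Nat.ble 2 c)
noncomputable def Btab_s_4_6 (c : Nat) : Nat := @Bool.rec (fun _ => Nat) (Btab_4) (Btab_5) (Nat.ble 5 c)
noncomputable def Btab_s_6_8 (c : Nat) : Nat := @Bool.rec (fun _ => Nat) (Btab_6) (Btab_7) (Nat.ble 7 c)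
noncomputable def Btab_s_4_8 (c : Nat) : Nat := @Bool.rec (fun _ => Nat) (Btab_s_4_6 c) (Btab_s_6_8 c) (Nat.ble 6 c)
noncomputable def Btab_s_0_8 (c : Nat) : Nat := @Bool.rec (fun _ => Nat) (Btab_s_0_4 c) (Btab_s_4_8 c) (Nat.ble 4 c)
noncomputable def Btab_s_8_10 (c : Nat) : Nat := @Bool.rec (fun _ => Nat) (Btab_8) (Btab_9) (Nat.ble 9 c)
noncomputable def Btab_s_10_12 (c : Nat) : Nat := @Bool.rec (fun _ => Nat) (Btab_10) (Btab_11) (Nat.ble 11 c)
noncomputable def Btab_s_8_12 (c : Nat) : Nat := @Bool.rec (fun _ => Nat) (Btab_s_8_10 c) (Btab_s_10_12 c) (Nat.ble 10 c)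
noncomputable def Btab_s_12_14 (c : Nat) : Nat := @Bool.rec (fun _ => Nat) (Btab_12) (Btab_13) (Nat.ble 13 c)
noncomputable def Btab_s_14_16 (c : Nat) : Nat := @Bool.rec (fun _ => Nat) (Btab_14) (Btab_15) (Nat.ble 15 c)
noncomputable def Btab_s_12_16 (c : Nat) : Nat := @Bool.rec (fun _ => Nat) (Btab_s_12_14 c) (Btab_s_14_16 c) (Nat.ble 14 c)
noncomputable def Btab_s_8_16 (c : Nat) : Nat := @Bool.rec (fun _ => Nat) (Btab_s_8_12 c) (Btab_s_12_16 c) (Nat.ble 12 c)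
noncomputable def Btab_s_0_16 (c : Nat) : Nat := @Bool.rec (fun _ => Nat) (Btab_s_0_8 c) (Btab_s_8_16 c) (Nat.ble 8 c)
noncomputable def Btab_s_16_18 (c : Nat) : Nat := @Bool.rec (fun _ => Nat) (Btab_16) (Btab_17) (Nat.ble 17 c)
noncomputable def Btab_s_18_20 (c : Nat) : Nat := @Bool.rec (fun _ => Nat) (Btab_18) (Btab_19) (Nat.ble 19 c)
noncomputable def Btab_s_16_20 (c : Nat) : Nat := @Bool.rec (fun _ => Nat) (Btab_s_16_18 c) (Btab_s_18_20 c) (Nat.ble 18 c)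
noncomputable def Btab_s_20_22 (c : Nat) : Nat := @Bool.rec (fun _ => Nat) (Btab_20) (Btab_21) (Nat.ble 21 c)
noncomputable def Btab_s_22_24 (c : Nat) : Nat := @Bool.rec (fun _ => Nat) (Btab_22) (Btab_23) (Nat.ble 23 c)
noncomputable def Btab_s_20_24 (c : Nat) : Nat := @Bool.rec (fun _ => Nat) (Btab_s_20_22 c) (Btab_s_22_24 c) (Nat.ble 22 c)
noncomputable def Btab_s_16_24 (c : Nat) : Nat := @Bool.rec (fun _ => Nat) (Btab_s_16_20 c) (Btab_s_20_24 c) (Nat.ble 20 c)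
noncomputable def Btab_s_24_26 (c : Nat) : Nat := @Bool.rec (fun _ => Nat) (Btab_24) (Btab_25) (Nat.ble 25 c)
noncomputable def Btab_s_26_28 (c : Nat) : Nat := @Bool.rec (fun _ => Nat) (Btab_26) (Btab_27) (Nat.ble 27 c)
noncomputable def Btab_s_24_28 (c : Nat) : Nat := @Bool.rec (fun _ => Nat) (Btab_s_24_26 c) (Btab_s_26_28 c) (Nat.ble 26 c)
noncomputable def Btab_s_28_30 (c : Nat) : Nat := @Bool.rec (fun _ => Nat) (Btab_28) (Btab_29) (Nat.ble 29 c)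
noncomputable def Btab_s_30_32 (c : Nat) : Nat := @Bool.rec (fun _ => Nat) (Btab_30) (Btab_31) (Nat.ble 31 c)
noncomputable def Btab_s_28_32 (c : Nat) : Nat := @Bool.rec (fun _ => Nat) (Btab_s_28_30 c) (Btab_s_30_32 c) (Nat.ble 30 c)
noncomputable def Btab_s_24_32 (c : Nat) : Nat := @Bool.rec (fun _ => Nat) (Btab_s_24_28 c) (Btab_s_28_32 c) (Nat.ble 28 c)
noncomputable def Btab_s_16_32 (c : Nat) : Nat := @Bool.rec (fun _ => Nat) (Btab_s_16_24 c) (Btab_s_24_32 c) (Nat.ble 24 c)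
noncomputable def Btab_s_0_32 (c : Nat) : Nat := @Bool.rec (fun _ => Nat) (Btab_s_0_16 c) (Btab_s_16_32 c) (Nat.ble 16 c)
noncomputable def Btab_s_32_34 (c : Nat) : Nat := @Bool.rec (fun _ => Nat) (Btab_32) (Btab_33) (Nat.ble 33 c)
noncomputable def Btab_s_34_36 (c : Nat) : Nat := @Bool.rec (fun _ => Nat) (Btab_34) (Btab_35) (Nat.ble 35 c)
noncomputable def Btab_s_32_36 (c : Nat) : Nat := @Bool.rec (fun _ => Nat) (Btab_s_32_34 c) (Btab_s_34_36 c) (Nat.ble 34 c)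
noncomputable def Btab_s_36_38 (c : Nat) : Nat := @Bool.rec (fun _ => Nat) (Btab_36) (Btab_37) (Nat.ble 37 c)
noncomputable def Btab_s_38_40 (c : Nat) : Nat := @Bool.rec (fun _ => Nat) (Btab_38) (Btab_39) (Nat.ble 39 c)
noncomputable def Btab_s_36_40 (c : Nat) : Nat := @Bool.rec (fun _ => Nat) (Btab_s_36_38 c) (Btab_s_38_40 c) (Nat.ble 38 c)
noncomputable def Btab_s_32_40 (c : Nat) : Nat := @Bool.rec (fun _ => Nat) (Btab_s_32_36 c) (Btab_s_36_40 c) (Nat.ble 36 c)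
noncomputable def Btab_s_40_42 (c : Nat) : Nat := @Bool.rec (fun _ => Nat) (Btab_40) (Btab_41) (Nat.ble 41 c)
noncomputable def Btab_s_42_44 (c : Nat) : Nat := @Bool.rec (fun _ => Nat) (Btab_42) (Btab_43) (Nat.ble 43 c)
noncomputable def Btab_s_40_44 (c : Nat) : Nat := @Bool.rec (fun _ => Nat) (Btab_s_40_42 c) (Btab_s_42_44 c) (Nat.ble 42 c)
noncomputable def Btab_s_44_46 (c : Nat) : Nat := @Bool.rec (fun _ => Nat) (Btab_44) (Btab_45) (Nat.ble 45 c)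
noncomputable def Btab_s_46_48 (c : Nat) : Nat := @Bool.rec (fun _ => Nat) (Btab_46) (Btab_47) (Nat.ble 47 c)
noncomputable def Btab_s_44_48 (c : Nat) : Nat := @Bool.rec (fun _ => Nat) (Btab_s_44_46 c) (Btab_s_46_48 c) (Nat.ble 46 c)
noncomputable def Btab_s_40_48 (c : Nat) : Nat := @Bool.rec (fun _ => Nat) (Btab_s_40_44 c) (Btab_s_44_48 c) (Nat.ble 44 c)
noncomputable def Btab_s_32_48 (c : Nat) : Nat := @Bool.rec (fun _ => Nat) (Btab_s_32_40 c) (Btab_s_40_48 c) (Nat.ble 40 c)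
noncomputable def Btab_s_48_50 (c : Nat) : Nat := @Bool.rec (fun _ => Nat) (Btab_48) (Btab_49) (Nat.ble 49 c)
noncomputable def Btab_s_50_52 (c : Nat) : Nat := @Bool.rec (fun _ => Nat) (Btab_50) (Btab_51) (Nat.ble 51 c)
noncomputable def Btab_s_48_52 (c : Nat) : Nat := @Bool.rec (fun _ => Nat) (Btab_s_48_50 c) (Btab_s_50_52 c) (Nat.ble 50 c)
noncomputable def Btab_s_52_54 (c : Nat) : Nat := @Bool.rec (fun _ => Nat) (Btab_52) (Btab_53) (Nat.ble 53 c)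
noncomputable def Btab_s_54_56 (c : Nat) : Nat := @Bool.rec (fun _ => Nat) (Btab_54) (Btab_55) (Nat.ble 55 c)
noncomputable def Btab_s_52_56 (c : Nat) : Nat := @Bool.rec (fun _ => Nat) (Btab_s_52_54 c) (Btab_s_54_56 c) (Nat.ble 54 c)
noncomputable def Btab_s_48_56 (c : Nat) : Nat := @Bool.rec (fun _ => Nat) (Btab_s_48_52 c) (Btab_s_52_56 c) (Nat.ble 52 c)
noncomputable def Btab_s_56_58 (c : Nat) : Nat := @Bool.rec (fun _ => Nat) (Btab_56) (Btab_57) (Nat.ble 57 c)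
noncomputable def Btab_s_58_60 (c : Nat) : Nat := @Bool.rec (fun _ => Nat) (Btab_58) (Btab_59) (Nat.ble 59 c)
noncomputable def Btab_s_56_60 (c : Nat) : Nat := @Bool.rec (fun _ => Nat) (Btab_s_56_58 c) (Btab_s_58_60 c) (Nat.ble 58 c)
noncomputable def Btab_s_60_62 (c : Nat) : Nat := @Bool.rec (fun _ => Nat) (Btab_60) (Btab_61) (Nat.ble 61 c)
noncomputable def Btab_s_63_65 (c : Nat) : Nat := @Bool.rec (fun _ => Nat) (Btab_63) (Btab_64) (Nat.ble 64 c)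
noncomputable def Btab_s_62_65 (c : Nat) : Nat := @Bool.rec (fun _ => Nat) (Btab_62) (Btab_s_63_65 c) (Nat.ble 63 c)
noncomputable def Btab_s_60_65 (c : Nat) : Nat := @Bool.rec (fun _ => Nat) (Btab_s_60_62 c) (Btab_s_62_65 c) (Nat.ble 62 c)
noncomputable def Btab_s_56_65 (c : Nat) : Nat := @Bool.rec (fun _ => Nat) (Btab_s_56_60 c) (Btab_s_60_65 c) (Nat.ble 60 c)
noncomputable def Btab_s_48_65 (c : Nat) : Nat := @Bool.rec (fun _ => Nat) (Btab_s_48_56 c) (Btab_s_56_65 c) (Nat.ble 56 c)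
noncomputable def Btab_s_32_65 (c : Nat) : Nat := @Bool.rec (fun _ => Nat) (Btab_s_32_48 c) (Btab_s_48_65 c) (Nat.ble 48 c)
noncomputable def Btab_s_0_65 (c : Nat) : Nat := @Bool.rec (fun _ => Nat) (Btab_s_0_32 c) (Btab_s_32_65 c) (Nat.ble 32 c)
noncomputable def Btab (i : Nat) : Nat := rdw 38 274877906943 (Btab_s_0_65 (Nat.shiftRight i 11)) (Nat.land i 2047)
noncomputable def Ptab_s_1_3 (c : Nat) : Nat := @Bool.rec (fun _ => Nat) (Ptab_1) (Ptab_2) (Nat.ble 2 c)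
noncomputable def Ptab_s_0_3 (c : Nat) : Nat := @Bool.rec (fun _ => Nat) (Ptab_0) (Ptab_s_1_3 c) (Nat.ble 1 c)
noncomputable def Ptab_s_3_5 (c : Nat) : Nat := @Bool.rec (fun _ => Nat) (Ptab_3) (Ptab_4) (Nat.ble 4 c)
noncomputable def Ptab_s_5_7 (c : Nat) : Nat := @Bool.rec (fun _ => Nat) (Ptab_5) (Ptab_6) (Nat.ble 6 c)
noncomputable def Ptab_s_3_7 (c : Nat) : Nat := @Bool.rec (fun _ => Nat) (Ptab_s_3_5 c) (Ptab_s_5_7 c) (Nat.ble 5 c)
noncomputable def Ptab_s_0_7 (c : Nat) : Nat := @Bool.rec (fun _ => Nat) (Ptab_s_0_3 c) (Ptab_s_3_7 c) (Nat.ble 3 c)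
noncomputable def Ptab_s_7_9 (c : Nat) : Nat := @Bool.rec (fun _ => Nat) (Ptab_7) (Ptab_8) (Nat.ble 8 c)
noncomputable def Ptab_s_9_11 (c : Nat) : Nat := @Bool.rec (fun _ => Nat) (Ptab_9) (Ptab_10) (Nat.ble 10 c)
noncomputable def Ptab_s_7_11 (c : Nat) : Nat := @Bool.rec (fun _ => Nat) (Ptab_s_7_9 c) (Ptab_s_9_11 c) (Nat.ble 9 c)
noncomputable def Ptab_s_11_13 (c : Nat) : Nat := @Bool.rec (fun _ => Nat) (Ptab_11) (Ptab_12) (Nat.ble 12 c)
noncomputable def Ptab_s_13_15 (c : Nat) : Nat := @Bool.rec (fun _ => Nat) (Ptab_13) (Ptab_14) (Nat.ble 14 c)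
noncomputable def Ptab_s_11_15 (c : Nat) : Nat := @Bool.rec (fun _ => Nat) (Ptab_s_11_13 c) (Ptab_s_13_15 c) (Nat.ble 13 c)
noncomputable def Ptab_s_7_15 (c : Nat) : Nat := @Bool.rec (fun _ => Nat) (Ptab_s_7_11 c) (Ptab_s_11_15 c) (Nat.ble 11 c)
noncomputable def Ptab_s_0_15 (c : Nat) : Nat := @Bool.rec (fun _ => Nat) (Ptab_s_0_7 c) (Ptab_s_7_15 c) (Nat.ble 7 c)
noncomputable def Ptab_s_15_17 (c : Nat) : Nat := @Bool.rec (fun _ => Nat) (Ptab_15) (Ptab_16) (Nat.ble 16 c)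
noncomputable def Ptab_s_17_19 (c : Nat) : Nat := @Bool.rec (fun _ => Nat) (Ptab_17) (Ptab_18) (Nat.ble 18 c)
noncomputable def Ptab_s_15_19 (c : Nat) : Nat := @Bool.rec (fun _ => Nat) (Ptab_s_15_17 c) (Ptab_s_17_19 c) (Nat.ble 17 c)
noncomputable def Ptab_s_19_21 (c : Nat) : Nat := @Bool.rec (fun _ => Nat) (Ptab_19) (Ptab_20) (Nat.ble 20 c)
noncomputable def Ptab_s_21_23 (c : Nat) : Nat := @Bool.rec (fun _ => Nat) (Ptab_21) (Ptab_22) (Nat.ble 22 c)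
noncomputable def Ptab_s_19_23 (c : Nat) : Nat := @Bool.rec (fun _ => Nat) (Ptab_s_19_21 c) (Ptab_s_21_23 c) (Nat.ble 21 c)
noncomputable def Ptab_s_15_23 (c : Nat) : Nat := @Bool.rec (fun _ => Nat) (Ptab_s_15_19 c) (Ptab_s_19_23 c) (Nat.ble 19 c)
noncomputable def Ptab_s_23_25 (c : Nat) : Nat := @Bool.rec (fun _ => Nat) (Ptab_23) (Ptab_24) (Nat.ble 24 c)
noncomputable def Ptab_s_25_27 (c : Nat) : Nat := @Bool.rec (fun _ => Nat) (Ptab_25) (Ptab_26) (Nat.ble 26 c)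
noncomputable def Ptab_s_23_27 (c : Nat) : Nat := @Bool.rec (fun _ => Nat) (Ptab_s_23_25 c) (Ptab_s_25_27 c) (Nat.ble 25 c)
noncomputable def Ptab_s_27_29 (c : Nat) : Nat := @Bool.rec (fun _ => Nat) (Ptab_27) (Ptab_28) (Nat.ble 28 c)
noncomputable def Ptab_s_29_31 (c : Nat) : Nat := @Bool.rec (fun _ => Nat) (Ptab_29) (Ptab_30) (Nat.ble 30 c)
noncomputable def Ptab_s_27_31 (c : Nat) : Nat := @Bool.rec (fun _ => Nat) (Ptab_s_27_29 c) (Ptab_s_29_31 c) (Nat.ble 29 c)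
noncomputable def Ptab_s_23_31 (c : Nat) : Nat := @Bool.rec (fun _ => Nat) (Ptab_s_23_27 c) (Ptab_s_27_31 c) (Nat.ble 27 c)
noncomputable def Ptab_s_15_31 (c : Nat) : Nat := @Bool.rec (fun _ => Nat) (Ptab_s_15_23 c) (Ptab_s_23_31 c) (Nat.ble 23 c)
noncomputable def Ptab_s_0_31 (c : Nat) : Nat := @Bool.rec (fun _ => Nat) (Ptab_s_0_15 c) (Ptab_s_15_31 c) (Nat.ble 15 c)
noncomputable def Ptab_s_32_34 (c : Nat) : Nat := @Bool.rec (fun _ => Nat) (Ptab_32) (Ptab_33) (Nat.ble 33 c)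
noncomputable def Ptab_s_31_34 (c : Nat) : Nat := @Bool.rec (fun _ => Nat) (Ptab_31) (Ptab_s_32_34 c) (Nat.ble 32 c)
noncomputable def Ptab_s_34_36 (c : Nat) : Nat := @Bool.rec (fun _ => Nat) (Ptab_34) (Ptab_35) (Nat.ble 35 c)
noncomputable def Ptab_s_36_38 (c : Nat) : Nat := @Bool.rec (fun _ => Nat) (Ptab_36) (Ptab_37) (Nat.ble 37 c)
noncomputable def Ptab_s_34_38 (c : Nat) : Nat := @Bool.rec (fun _ => Nat) (Ptab_s_34_36 c) (Ptab_s_36_38 c) (Nat.ble 36 c)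
noncomputable def Ptab_s_31_38 (c : Nat) : Nat := @Bool.rec (fun _ => Nat) (Ptab_s_31_34 c) (Ptab_s_34_38 c) (Nat.ble 34 c)
noncomputable def Ptab_s_38_40 (c : Nat) : Nat := @Bool.rec (fun _ => Nat) (Ptab_38) (Ptab_39) (Nat.ble 39 c)
noncomputable def Ptab_s_40_42 (c : Nat) : Nat := @Bool.rec (fun _ => Nat) (Ptab_40) (Ptab_41) (Nat.ble 41 c)
noncomputable def Ptab_s_38_42 (c : Nat) : Nat := @Bool.rec (fun _ => Nat) (Ptab_s_38_40 c) (Ptab_s_40_42 c) (Nat.ble 40 c)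
noncomputable def Ptab_s_42_44 (c : Nat) : Nat := @Bool.rec (fun _ => Nat) (Ptab_42) (Ptab_43) (Nat.ble 43 c)
noncomputable def Ptab_s_44_46 (c : Nat) : Nat := @Bool.rec (fun _ => Nat) (Ptab_44) (Ptab_45) (Nat.ble 45 c)
noncomputable def Ptab_s_42_46 (c : Nat) : Nat := @Bool.rec (fun _ => Nat) (Ptab_s_42_44 c) (Ptab_s_44_46 c) (Nat.ble 44 c)
noncomputable def Ptab_s_38_46 (c : Nat) : Nat := @Bool.rec (fun _ => Nat) (Ptab_s_38_42 c) (Ptab_s_42_46 c) (Nat.ble 42 c)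
noncomputable def Ptab_s_31_46 (c : Nat) : Nat := @Bool.rec (fun _ => Nat) (Ptab_s_31_38 c) (Ptab_s_38_46 c) (Nat.ble 38 c)
noncomputable def Ptab_s_46_48 (c : Nat) : Nat := @Bool.rec (fun _ => Nat) (Ptab_46) (Ptab_47) (Nat.ble 47 c)
noncomputable def Ptab_s_48_50 (c : Nat) : Nat := @Bool.rec (fun _ => Nat) (Ptab_48) (Ptab_49) (Nat.ble 49 c)
noncomputable def Ptab_s_46_50 (c : Nat) : Nat := @Bool.rec (fun _ => Nat) (Ptab_s_46_48 c) (Ptab_s_48_50 c) (Nat.ble 48 c)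
noncomputable def Ptab_s_50_52 (c : Nat) : Nat := @Bool.rec (fun _ => Nat) (Ptab_50) (Ptab_51) (Nat.ble 51 c)
noncomputable def Ptab_s_52_54 (c : Nat) : Nat := @Bool.rec (fun _ => Nat) (Ptab_52) (Ptab_53) (Nat.ble 53 c)
noncomputable def Ptab_s_50_54 (c : Nat) : Nat := @Bool.rec (fun _ => Nat) (Ptab_s_50_52 c) (Ptab_s_52_54 c) (Nat.ble 52 c)
noncomputable def Ptab_s_46_54 (c : Nat) : Nat := @Bool.rec (fun _ => Nat) (Ptab_s_46_50 c) (Ptab_s_50_54 c) (Nat.ble 50 c)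
noncomputable def Ptab_s_54_56 (c : Nat) : Nat := @Bool.rec (fun _ => Nat) (Ptab_54) (Ptab_55) (Nat.ble 55 c)
noncomputable def Ptab_s_56_58 (c : Nat) : Nat := @Bool.rec (fun _ => Nat) (Ptab_56) (Ptab_57) (Nat.ble 57 c)
noncomputable def Ptab_s_54_58 (c : Nat) : Nat := @Bool.rec (fun _ => Nat) (Ptab_s_54_56 c) (Ptab_s_56_58 c) (Nat.ble 56 c)
noncomputable def Ptab_s_58_60 (c : Nat) : Nat := @Bool.rec (fun _ => Nat) (Ptab_58) (Ptab_59) (Nat.ble 59 c)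
noncomputable def Ptab_s_60_62 (c : Nat) : Nat := @Bool.rec (fun _ => Nat) (Ptab_60) (Ptab_61) (Nat.ble 61 c)
noncomputable def Ptab_s_58_62 (c : Nat) : Nat := @Bool.rec (fun _ => Nat) (Ptab_s_58_60 c) (Ptab_s_60_62 c) (Nat.ble 60 c)
noncomputable def Ptab_s_54_62 (c : Nat) : Nat := @Bool.rec (fun _ => Nat) (Ptab_s_54_58 c) (Ptab_s_58_62 c) (Nat.ble 58 c)
noncomputable def Ptab_s_46_62 (c : Nat) : Nat := @Bool.rec (fun _ => Nat) (Ptab_s_46_54 c) (Ptab_s_54_62 c) (Nat.ble 54 c)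
noncomputable def Ptab_s_31_62 (c : Nat) : Nat := @Bool.rec (fun _ => Nat) (Ptab_s_31_46 c) (Ptab_s_46_62 c) (Nat.ble 46 c)
noncomputable def Ptab_s_0_62 (c : Nat) : Nat := @Bool.rec (fun _ => Nat) (Ptab_s_0_31 c) (Ptab_s_31_62 c) (Nat.ble 31 c)
noncomputable def Ptab_s_63_65 (c : Nat) : Nat := @Bool.rec (fun _ => Nat) (Ptab_63) (Ptab_64) (Nat.ble 64 c)
noncomputable def Ptab_s_62_65 (c : Nat) : Nat := @Bool.rec (fun _ => Nat) (Ptab_62) (Ptab_s_63_65 c) (Nat.ble 63 c)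
noncomputable def Ptab_s_65_67 (c : Nat) : Nat := @Bool.rec (fun _ => Nat) (Ptab_65) (Ptab_66) (Nat.ble 66 c)
noncomputable def Ptab_s_67_69 (c : Nat) : Nat := @Bool.rec (fun _ => Nat) (Ptab_67) (Ptab_68) (Nat.ble 68 c)
noncomputable def Ptab_s_65_69 (c : Nat) : Nat := @Bool.rec (fun _ => Nat) (Ptab_s_65_67 c) (Ptab_s_67_69 c) (Nat.ble 67 c)
noncomputable def Ptab_s_62_69 (c : Nat) : Nat := @Bool.rec (fun _ => Nat) (Ptab_s_62_65 c) (Ptab_s_65_69 c) (Nat.ble 65 c)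
noncomputable def Ptab_s_69_71 (c : Nat) : Nat := @Bool.rec (fun _ => Nat) (Ptab_69) (Ptab_70) (Nat.ble 70 c)
noncomputable def Ptab_s_71_73 (c : Nat) : Nat := @Bool.rec (fun _ => Nat) (Ptab_71) (Ptab_72) (Nat.ble 72 c)
noncomputable def Ptab_s_69_73 (c : Nat) : Nat := @Bool.rec (fun _ => Nat) (Ptab_s_69_71 c) (Ptab_s_71_73 c) (Nat.ble 71 c)
noncomputable def Ptab_s_73_75 (c : Nat) : Nat := @Bool.rec (fun _ => Nat) (Ptab_73) (Ptab_74) (Nat.ble 74 c)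
noncomputable def Ptab_s_75_77 (c : Nat) : Nat := @Bool.rec (fun _ => Nat) (Ptab_75) (Ptab_76) (Nat.ble 76 c)
noncomputable def Ptab_s_73_77 (c : Nat) : Nat := @Bool.rec (fun _ => Nat) (Ptab_s_73_75 c) (Ptab_s_75_77 c) (Nat.ble 75 c)
noncomputable def Ptab_s_69_77 (c : Nat) : Nat := @Bool.rec (fun _ => Nat) (Ptab_s_69_73 c) (Ptab_s_73_77 c) (Nat.ble 73 c)
noncomputable def Ptab_s_62_77 (c : Nat) : Nat := @Bool.rec (fun _ => Nat) (Ptab_s_62_69 c) (Ptab_s_69_77 c) (Nat.ble 69 c)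
noncomputable def Ptab_s_77_79 (c : Nat) : Nat := @Bool.rec (fun _ => Nat) (Ptab_77) (Ptab_78) (Nat.ble 78 c)
noncomputable def Ptab_s_79_81 (c : Nat) : Nat := @Bool.rec (fun _ => Nat) (Ptab_79) (Ptab_80) (Nat.ble 80 c)
noncomputable def Ptab_s_77_81 (c : Nat) : Nat := @Bool.rec (fun _ => Nat) (Ptab_s_77_79 c) (Ptab_s_79_81 c) (Nat.ble 79 c)
noncomputable def Ptab_s_81_83 (c : Nat) : Nat := @Bool.rec (fun _ => Nat) (Ptab_81) (Ptab_82) (Nat.ble 82 c)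
noncomputable def Ptab_s_83_85 (c : Nat) : Nat := @Bool.rec (fun _ => Nat) (Ptab_83) (Ptab_84) (Nat.ble 84 c)
noncomputable def Ptab_s_81_85 (c : Nat) : Nat := @Bool.rec (fun _ => Nat) (Ptab_s_81_83 c) (Ptab_s_83_85 c) (Nat.ble 83 c)
noncomputable def Ptab_s_77_85 (c : Nat) : Nat := @Bool.rec (fun _ => Nat) (Ptab_s_77_81 c) (Ptab_s_81_85 c) (Nat.ble 81 c)
noncomputable def Ptab_s_85_87 (c : Nat) : Nat := @Bool.rec (fun _ => Nat) (Ptab_85) (Ptab_86) (Nat.ble 86 c)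
noncomputable def Ptab_s_87_89 (c : Nat) : Nat := @Bool.rec (fun _ => Nat) (Ptab_87) (Ptab_88) (Nat.ble 88 c)
noncomputable def Ptab_s_85_89 (c : Nat) : Nat := @Bool.rec (fun _ => Nat) (Ptab_s_85_87 c) (Ptab_s_87_89 c) (Nat.ble 87 c)
noncomputable def Ptab_s_89_91 (c : Nat) : Nat := @Bool.rec (fun _ => Nat) (Ptab_89) (Ptab_90) (Nat.ble 90 c)
noncomputable def Ptab_s_91_93 (c : Nat) : Nat := @Bool.rec (fun _ => Nat) (Ptab_91) (Ptab_92) (Nat.ble 92 c)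
noncomputable def Ptab_s_89_93 (c : Nat) : Nat := @Bool.rec (fun _ => Nat) (Ptab_s_89_91 c) (Ptab_s_91_93 c) (Nat.ble 91 c)
noncomputable def Ptab_s_85_93 (c : Nat) : Nat := @Bool.rec (fun _ => Nat) (Ptab_s_85_89 c) (Ptab_s_89_93 c) (Nat.ble 89 c)
noncomputable def Ptab_s_77_93 (c : Nat) : Nat := @Bool.rec (fun _ => Nat) (Ptab_s_77_85 c) (Ptab_s_85_93 c) (Nat.ble 85 c)
noncomputable def Ptab_s_62_93 (c : Nat) : Nat := @Bool.rec (fun _ => Nat) (Ptab_s_62_77 c) (Ptab_s_77_93 c) (Nat.ble 77 c)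
noncomputable def Ptab_s_94_96 (c : Nat) : Nat := @Bool.rec (fun _ => Nat) (Ptab_94) (Ptab_95) (Nat.ble 95 c)
noncomputable def Ptab_s_93_96 (c : Nat) : Nat := @Bool.rec (fun _ => Nat) (Ptab_93) (Ptab_s_94_96 c) (Nat.ble 94 c)
noncomputable def Ptab_s_96_98 (c : Nat) : Nat := @Bool.rec (fun _ => Nat) (Ptab_96) (Ptab_97) (Nat.ble 97 c)
noncomputable def Ptab_s_98_100 (c : Nat) : Nat := @Bool.rec (fun _ => Nat) (Ptab_98) (Ptab_99) (Nat.ble 99 c)
noncomputable def Ptab_s_96_100 (c : Nat) : Nat := @Bool.rec (fun _ => Nat) (Ptab_s_96_98 c) (Ptab_s_98_100 c) (Nat.ble 98 c)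
noncomputable def Ptab_s_93_100 (c : Nat) : Nat := @Bool.rec (fun _ => Nat) (Ptab_s_93_96 c) (Ptab_s_96_100 c) (Nat.ble 96 c)
noncomputable def Ptab_s_100_102 (c : Nat) : Nat := @Bool.rec (fun _ => Nat) (Ptab_100) (Ptab_101) (Nat.ble 101 c)
noncomputable def Ptab_s_102_104 (c : Nat) : Nat := @Bool.rec (fun _ => Nat) (Ptab_102) (Ptab_103) (Nat.ble 103 c)
noncomputable def Ptab_s_100_104 (c : Nat) : Nat := @Bool.rec (fun _ => Nat) (Ptab_s_100_102 c) (Ptab_s_102_104 c) (Nat.ble 102 c)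
noncomputable def Ptab_s_104_106 (c : Nat) : Nat := @Bool.rec (fun _ => Nat) (Ptab_104) (Ptab_105) (Nat.ble 105 c)
noncomputable def Ptab_s_106_108 (c : Nat) : Nat := @Bool.rec (fun _ => Nat) (Ptab_106) (Ptab_107) (Nat.ble 107 c)
noncomputable def Ptab_s_104_108 (c : Nat) : Nat := @Bool.rec (fun _ => Nat) (Ptab_s_104_106 c) (Ptab_s_106_108 c) (Nat.ble 106 c)
noncomputable def Ptab_s_100_108 (c : Nat) : Nat := @Bool.rec (fun _ => Nat) (Ptab_s_100_104 c) (Ptab_s_104_108 c) (Nat.ble 104 c)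
noncomputable def Ptab_s_93_108 (c : Nat) : Nat := @Bool.rec (fun _ => Nat) (Ptab_s_93_100 c) (Ptab_s_100_108 c) (Nat.ble 100 c)
noncomputable def Ptab_s_108_110 (c : Nat) : Nat := @Bool.rec (fun _ => Nat) (Ptab_108) (Ptab_109) (Nat.ble 109 c)
noncomputable def Ptab_s_110_112 (c : Nat) : Nat := @Bool.rec (fun _ => Nat) (Ptab_110) (Ptab_111) (Nat.ble 111 c)
noncomputable def Ptab_s_108_112 (c : Nat) : Nat := @Bool.rec (fun _ => Nat) (Ptab_s_108_110 c) (Ptab_s_110_112 c) (Nat.ble 110 c)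
noncomputable def Ptab_s_112_114 (c : Nat) : Nat := @Bool.rec (fun _ => Nat) (Ptab_112) (Ptab_113) (Nat.ble 113 c)
noncomputable def Ptab_s_114_116 (c : Nat) : Nat := @Bool.rec (fun _ => Nat) (Ptab_114) (Ptab_115) (Nat.ble 115 c)
noncomputable def Ptab_s_112_116 (c : Nat) : Nat := @Bool.rec (fun _ => Nat) (Ptab_s_112_114 c) (Ptab_s_114_116 c) (Nat.ble 114 c)
noncomputable def Ptab_s_108_116 (c : Nat) : Nat := @Bool.rec (fun _ => Nat) (Ptab_s_108_112 c) (Ptab_s_112_116 c) (Nat.ble 112 c)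
noncomputable def Ptab_s_116_118 (c : Nat) : Nat := @Bool.rec (fun _ => Nat) (Ptab_116) (Ptab_117) (Nat.ble 117 c)
noncomputable def Ptab_s_118_120 (c : Nat) : Nat := @Bool.rec (fun _ => Nat) (Ptab_118) (Ptab_119) (Nat.ble 119 c)
noncomputable def Ptab_s_116_120 (c : Nat) : Nat := @Bool.rec (fun _ => Nat) (Ptab_s_116_118 c) (Ptab_s_118_120 c) (Nat.ble 118 c)
noncomputable def Ptab_s_120_122 (c : Nat) : Nat := @Bool.rec (fun _ => Nat) (Ptab_120) (Ptab_121) (Nat.ble 121 c)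
noncomputable def Ptab_s_122_124 (c : Nat) : Nat := @Bool.rec (fun _ => Nat) (Ptab_122) (Ptab_123) (Nat.ble 123 c)
noncomputable def Ptab_s_120_124 (c : Nat) : Nat := @Bool.rec (fun _ => Nat) (Ptab_s_120_122 c) (Ptab_s_122_124 c) (Nat.ble 122 c)
noncomputable def Ptab_s_116_124 (c : Nat) : Nat := @Bool.rec (fun _ => Nat) (Ptab_s_116_120 c) (Ptab_s_120_124 c) (Nat.ble 120 c)
noncomputable def Ptab_s_108_124 (c : Nat) : Nat := @Bool.rec (fun _ => Nat) (Ptab_s_108_116 c) (Ptab_s_116_124 c) (Nat.ble 116 c)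
noncomputable def Ptab_s_93_124 (c : Nat) : Nat := @Bool.rec (fun _ => Nat) (Ptab_s_93_108 c) (Ptab_s_108_124 c) (Nat.ble 108 c)
noncomputable def Ptab_s_62_124 (c : Nat) : Nat := @Bool.rec (fun _ => Nat) (Ptab_s_62_93 c) (Ptab_s_93_124 c) (Nat.ble 93 c)
noncomputable def Ptab_s_0_124 (c : Nat) : Nat := @Bool.rec (fun _ => Nat) (Ptab_s_0_62 c) (Ptab_s_62_124 c) (Nat.ble 62 c)
noncomputable def Ptab (i : Nat) : Nat := rdw 19 524287 (Ptab_s_0_124 (Nat.shiftRight i 12)) (Nat.land i 4095)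
noncomputable def RRtab (i : Nat) : Nat := rdw 5 31 RRtab_0 i
noncomputable def rBtab (i : Nat) : Nat := rdw 11 2047 rBtab_0 i
noncomputable def rLtab (i : Nat) : Nat := rdw 6 63 rLtab_0 i
noncomputable def nameTab_s_0_2 (c : Nat) : Nat := @Bool.rec (fun _ => Nat) (nameTab_0) (nameTab_1) (Nat.ble 1 c)
noncomputable def nameTab (i : Nat) : Nat := rdw 16 65535 (nameTab_s_0_2 (Nat.shiftRight i 12)) (Nat.land i 4095)
noncomputable def col0_s_0_2 (c : Nat) : Nat := @Bool.rec (fun _ => Nat) (col0_0) (col0_1) (Nat.ble 1 c)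
noncomputable def col0 (i : Nat) : Nat := rdw 13 8191 (col0_s_0_2 (Nat.shiftRight i 12)) (Nat.land i 4095)
noncomputable def col1_s_0_2 (c : Nat) : Nat := @Bool.rec (fun _ => Nat) (col1_0) (col1_1) (Nat.ble 1 c)
noncomputable def col1 (i : Nat) : Nat := rdw 13 8191 (col1_s_0_2 (Nat.shiftRight i 12)) (Nat.land i 4095)
noncomputable def col2_s_0_2 (c : Nat) : Nat := @Bool.rec (fun _ => Nat) (col2_0) (col2_1) (Nat.ble 1 c)
noncomputable def col2 (i : Nat) : Nat := rdw 13 8191 (col2_s_0_2 (Nat.shiftRight i 12)) (Nat.land i 4095)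
noncomputable def col3_s_0_2 (c : Nat) : Nat := @Bool.rec (fun _ => Nat) (col3_0) (col3_1) (Nat.ble 1 c)
noncomputable def col3 (i : Nat) : Nat := rdw 13 8191 (col3_s_0_2 (Nat.shiftRight i 12)) (Nat.land i 4095)
noncomputable def col4_s_0_2 (c : Nat) : Nat := @Bool.rec (fun _ => Nat) (col4_0) (col4_1) (Nat.ble 1 c)
noncomputable def col4 (i : Nat) : Nat := rdw 13 8191 (col4_s_0_2 (Nat.shiftRight i 12)) (Nat.land i 4095)
noncomputable def col5_s_0_2 (c : Nat) : Nat := @Bool.rec (fun _ => Nat) (col5_0) (col5_1) (Nat.ble 1 c)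
noncomputable def col5 (i : Nat) : Nat := rdw 13 8191 (col5_s_0_2 (Nat.shiftRight i 12)) (Nat.land i 4095)
noncomputable def col6_s_0_2 (c : Nat) : Nat := @Bool.rec (fun _ => Nat) (col6_0) (col6_1) (Nat.ble 1 c)
noncomputable def col6 (i : Nat) : Nat := rdw 13 8191 (col6_s_0_2 (Nat.shiftRight i 12)) (Nat.land i 4095)
noncomputable def col7_s_0_2 (c : Nat) : Nat := @Bool.rec (fun _ => Nat) (col7_0) (col7_1) (Nat.ble 1 c)
noncomputable def col7 (i : Nat) : Nat := rdw 13 8191 (col7_s_0_2 (Nat.shiftRight i 12)) (Nat.land i 4095)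
noncomputable def col8_s_0_2 (c : Nat) : Nat := @Bool.rec (fun _ => Nat) (col8_0) (col8_1) (Nat.ble 1 c)
noncomputable def col8 (i : Nat) : Nat := rdw 13 8191 (col8_s_0_2 (Nat.shiftRight i 12)) (Nat.land i 4095)
noncomputable def col9_s_0_2 (c : Nat) : Nat := @Bool.rec (fun _ => Nat) (col9_0) (col9_1) (Nat.ble 1 c)
noncomputable def col9 (i : Nat) : Nat := rdw 13 8191 (col9_s_0_2 (Nat.shiftRight i 12)) (Nat.land i 4095)
noncomputable def col10_s_0_2 (c : Nat) : Nat := @Bool.rec (fun _ => Nat) (col10_0) (col10_1) (Nat.ble 1 c)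
noncomputable def col10 (i : Nat) : Nat := rdw 13 8191 (col10_s_0_2 (Nat.shiftRight i 12)) (Nat.land i 4095)
noncomputable def col11_s_0_2 (c : Nat) : Nat := @Bool.rec (fun _ => Nat) (col11_0) (col11_1) (Nat.ble 1 c)
noncomputable def col11 (i : Nat) : Nat := rdw 13 8191 (col11_s_0_2 (Nat.shiftRight i 12)) (Nat.land i 4095)
noncomputable def finTab_s_0_2 (c : Nat) : Nat := @Bool.rec (fun _ => Nat) (finTab_0) (finTab_1) (Nat.ble 1 c)
noncomputable def finTab_s_2_4 (c : Nat) : Nat := @Bool.rec (fun _ => Nat) (finTab_2) (finTab_3) (Nat.ble 3 c)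
noncomputable def finTab_s_0_4 (c : Nat) : Nat := @Bool.rec (fun _ => Nat) (finTab_s_0_2 c) (finTab_s_2_4 c) (Nat.ble 2 c)
noncomputable def finTab_s_4_6 (c : Nat) : Nat := @Bool.rec (fun _ => Nat) (finTab_4) (finTab_5) (Nat.ble 5 c)
noncomputable def finTab_s_6_8 (c : Nat) : Nat := @Bool.rec (fun _ => Nat) (finTab_6) (finTab_7) (Nat.ble 7 c)
noncomputable def finTab_s_4_8 (c : Nat) : Nat := @Bool.rec (fun _ => Nat) (finTab_s_4_6 c) (finTab_s_6_8 c) (Nat.ble 6 c)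
noncomputable def finTab_s_0_8 (c : Nat) : Nat := @Bool.rec (fun _ => Nat) (finTab_s_0_4 c) (finTab_s_4_8 c) (Nat.ble 4 c)
noncomputable def finTab_s_8_10 (c : Nat) : Nat := @Bool.rec (fun _ => Nat) (finTab_8) (finTab_9) (Nat.ble 9 c)
noncomputable def finTab_s_10_12 (c : Nat) : Nat := @Bool.rec (fun _ => Nat) (finTab_10) (finTab_11) (Nat.ble 11 c)
noncomputable def finTab_s_8_12 (c : Nat) : Nat := @Bool.rec (fun _ => Nat) (finTab_s_8_10 c) (finTab_s_10_12 c) (Nat.ble 10 c)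
noncomputable def finTab_s_12_14 (c : Nat) : Nat := @Bool.rec (fun _ => Nat) (finTab_12) (finTab_13) (Nat.ble 13 c)
noncomputable def finTab_s_14_16 (c : Nat) : Nat := @Bool.rec (fun _ => Nat) (finTab_14) (finTab_15) (Nat.ble 15 c)
noncomputable def finTab_s_12_16 (c : Nat) : Nat := @Bool.rec (fun _ => Nat) (finTab_s_12_14 c) (finTab_s_14_16 c) (Nat.ble 14 c)
noncomputable def finTab_s_8_16 (c : Nat) : Nat := @Bool.rec (fun _ => Nat) (finTab_s_8_12 c) (finTab_s_12_16 c) (Nat.ble 12 c)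
noncomputable def finTab_s_0_16 (c : Nat) : Nat := @Bool.rec (fun _ => Nat) (finTab_s_0_8 c) (finTab_s_8_16 c) (Nat.ble 8 c)
noncomputable def finTab (i : Nat) : Nat := rdw 19 524287 (finTab_s_0_16 (Nat.shiftRight i 12)) (Nat.land i 4095)
noncomputable def clsTab_s_0_2 (c : Nat) : Nat := @Bool.rec (fun _ => Nat) (clsTab_0) (clsTab_1) (Nat.ble 1 c)
noncomputable def clsTab_s_3_5 (c : Nat) : Nat := @Bool.rec (fun _ => Nat) (clsTab_3) (clsTab_4) (Nat.ble 4 c)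
noncomputable def clsTab_s_2_5 (c : Nat) : Nat := @Bool.rec (fun _ => Nat) (clsTab_2) (clsTab_s_3_5 c) (Nat.ble 3 c)
noncomputable def clsTab_s_0_5 (c : Nat) : Nat := @Bool.rec (fun _ => Nat) (clsTab_s_0_2 c) (clsTab_s_2_5 c) (Nat.ble 2 c)
noncomputable def clsTab_s_6_8 (c : Nat) : Nat := @Bool.rec (fun _ => Nat) (clsTab_6) (clsTab_7) (Nat.ble 7 c)
noncomputable def clsTab_s_5_8 (c : Nat) : Nat := @Bool.rec (fun _ => Nat) (clsTab_5) (clsTab_s_6_8 c) (Nat.ble 6 c)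
noncomputable def clsTab_s_9_11 (c : Nat) : Nat := @Bool.rec (fun _ => Nat) (clsTab_9) (clsTab_10) (Nat.ble 10 c)
noncomputable def clsTab_s_8_11 (c : Nat) : Nat := @Bool.rec (fun _ => Nat) (clsTab_8) (clsTab_s_9_11 c) (Nat.ble 9 c)
noncomputable def clsTab_s_5_11 (c : Nat) : Nat := @Bool.rec (fun _ => Nat) (clsTab_s_5_8 c) (clsTab_s_8_11 c) (Nat.ble 8 c)
noncomputable def clsTab_s_0_11 (c : Nat) : Nat := @Bool.rec (fun _ => Nat) (clsTab_s_0_5 c) (clsTab_s_5_11 c) (Nat.ble 5 c)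
noncomputable def clsTab (i : Nat) : Nat := rdw 13 8191 (clsTab_s_0_11 (Nat.shiftRight i 12)) (Nat.land i 4095)
noncomputable def oparTab_s_0_2 (c : Nat) : Nat := @Bool.rec (fun _ => Nat) (oparTab_0) (oparTab_1) (Nat.ble 1 c)
noncomputable def oparTab (i : Nat) : Nat := rdw 13 8191 (oparTab_s_0_2 (Nat.shiftRight i 12)) (Nat.land i 4095)
noncomputable def olabTab (i : Nat) : Nat := rdw 3 7 olabTab_0 i
noncomputable def srcF (t : Nat) : Nat := Nat.land (Atab t) 65535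
noncomputable def tgtF (t : Nat) : Nat := Nat.land (Nat.shiftRight (Atab t) 16) 65535
noncomputable def ltF (t : Nat) : Nat := Nat.shiftRight (Atab t) 32
noncomputable def rhoF (t : Nat) : Nat := Nat.land (Btab (Nat.sub t 42623)) 127
noncomputable def rotF (t : Nat) : Nat := Nat.land (Nat.shiftRight (Btab (Nat.sub t 42623)) 7) 63
noncomputable def lenF (t : Nat) : Nat := Nat.land (Nat.shiftRight (Btab (Nat.sub t 42623)) 13) 63
noncomputable def offF (t : Nat) : Nat := Nat.shiftRight (Btab (Nat.sub t 42623)) 19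
noncomputable def pfF (j : Nat) : Nat := Nat.shiftRight (Ptab j) 1
noncomputable def pdF (j : Nat) : Nat := Nat.land (Ptab j) 1
noncomputable def tblF (i x : Nat) : Nat := @Bool.rec (fun _ => Nat) (@Bool.rec (fun _ => Nat) (@Bool.rec (fun _ => Nat) (col0 i) (@Bool.rec (fun _ => Nat) (col1 i) (col2 i) (Nat.ble 2 x)) (Nat.ble 1 x)) (@Bool.rec (fun _ => Nat) (col3 i) (@Bool.rec (fun _ => Nat) (col4 i) (col5 i) (Nat.ble 5 x)) (Nat.ble 4 x)) (Nat.ble 3 x)) (@Bool.rec (fun _ => Nat) (@Bool.rec (fun _ => Nat) (col6 i) (@Bool.rec (fun _ => Nat) (col7 i) (col8 i) (Nat.ble 8 x)) (Nat.ble 7 x)) (@Bool.rec (fun _ => Nat) (col9 i) (@Bool.rec (fun _ => Nat) (col10 i) (col11 i) (Nat.ble 11 x)) (Nat.ble 10 x)) (Nat.ble 9 x)) (Nat.ble 6 x)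
noncomputable def finE (i x : Nat) : Nat := finTab (Nat.add (Nat.mul i 12) x)
noncomputable def finFF (i x : Nat) : Nat := Nat.shiftRight (finE i x) 1
noncomputable def finDF (i x : Nat) : Nat := Nat.land (finE i x) 1

noncomputable def D : Log :=
  { k := 12, inv := invE 12 PC3Suz.invR, nR := 96, rBase := rBtab, rLen := rLtab, RR := RRtab,
    M := 42615, nB := 8, F := 174600, src := srcF, lt := ltF, tgt := tgtF, rho := rhoF, rot := rotF,
    off := offF, len := lenF, pf := pfF, pd := pdF }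

noncomputable def T : Tab :=
  { N := 5346, nameOf := nameTab, tbl := tblF, finF := finFF, finD := finDF, cls := clsTab }

def subs : List (List Nat) := [
  [0],
  [2],
  [4],
  [6] ]

def rw0 : List Nat := [0, 0, 0, 0, 0, 0, 0]
def rw1 : List Nat := [0, 0, 2, 1, 2, 0, 3, 0, 2, 1, 2]
def rw2 : List Nat := [0, 0, 0, 2, 0, 0, 0, 2, 0, 0, 0, 2]
def rw3 : List Nat := [0, 0, 2, 2, 0, 0, 3, 3, 0, 0, 3, 3]
def rw4 : List Nat := [4, 4]
def rw5 : List Nat := [0, 4, 3, 4, 2, 1, 2, 1, 1, 4, 2]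
def rw6 : List Nat := [0, 4, 1, 3, 1, 3, 0, 4, 1, 3, 1, 3]
def rw7 : List Nat := [6, 6]
def rw8 : List Nat := [0, 2, 1, 4, 6, 2, 7, 4]
def rw9 : List Nat := [0, 2, 1, 7, 4, 1, 2, 0, 4, 6]
def rw10 : List Nat := [0, 0, 4, 3, 1, 3, 1, 4, 2, 4, 3, 0, 6, 0, 6, 4, 7]
def rw11 : List Nat := [8, 8]
def rw12 : List Nat := [0, 8, 1, 3, 4, 3, 8, 2, 4, 2]
def rw13 : List Nat := [0, 3, 8, 2, 1, 3, 0, 4, 8, 4, 1, 2]
def rw14 : List Nat := [0, 8, 1, 2, 8, 3, 0, 8, 1, 2, 8, 3]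
def rw15 : List Nat := [0, 0, 4, 3, 3, 1, 8, 0, 2, 2, 4, 1, 1, 8]
def rw16 : List Nat := [0, 0, 4, 2, 2, 1, 8, 0, 2, 2, 4, 1, 1, 8]
def rw17 : List Nat := [0, 0, 3, 8, 1, 4, 8, 4, 0, 8, 1, 3, 1, 3]
def rw18 : List Nat := [0, 2, 1, 4, 0, 8, 1, 6, 2, 6, 0, 8, 1, 4]
def rw19 : List Nat := [0, 3, 0, 3, 8, 2, 1, 2, 1, 2, 0, 8, 1, 3]
def rw20 : List Nat := [0, 0, 2, 0, 0, 2, 8, 3, 1, 1, 3, 1, 1, 8]
def rw21 : List Nat := [0, 4, 2, 8, 3, 4, 1, 2, 4, 0, 8, 1, 4, 3]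
def rw22 : List Nat := [0, 0, 0, 3, 4, 8, 4, 2, 1, 1, 1, 4, 8, 4]
def rw23 : List Nat := [0, 4, 8, 4, 8, 2, 2, 8, 4, 8, 4, 1, 2, 2]
def rw24 : List Nat := [0, 2, 8, 6, 8, 4, 8, 6, 8, 0, 4, 1, 4, 2]
def rw25 : List Nat := [2, 8, 4, 6, 2, 8, 4, 6, 2, 8, 4, 6, 2, 8, 4, 6, 2, 8, 4, 6, 2, 8, 4, 6, 2, 8, 4, 6, 2, 8, 4, 6, 11]
def rw26 : List Nat := [10, 10, 10]
def rw27 : List Nat := [11, 1, 10, 0]
def rw28 : List Nat := [11, 3, 10, 2]
def rw29 : List Nat := [11, 5, 10, 4]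
def rw30 : List Nat := [11, 7, 10, 6]
def rw31 : List Nat := [11, 9, 10, 8]
def realLit : List (List Nat) := [rw0, rw1, rw2, rw3, rw4, rw5, rw6, rw7, rw8, rw9, rw10, rw11, rw12, rw13, rw14, rw15, rw16, rw17, rw18, rw19, rw20, rw21, rw22, rw23, rw24, rw25, rw26, rw27, rw28, rw29, rw30, rw31]
noncomputable def actR0 (i : Nat) : Nat := col1 (col1 (col1 (col1 (col1 (col1 (col1 (i)))))))
theorem actR0_eq (i : Nat) : actR0 i = Tab.act T D rw0 i := rfl
noncomputable def actR1 (i : Nat) : Nat := col1 (col1 (col3 (col0 (col3 (col1 (col2 (col1 (col3 (col0 (col3 (i)))))))))))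
theorem actR1_eq (i : Nat) : actR1 i = Tab.act T D rw1 i := rfl
noncomputable def actR2 (i : Nat) : Nat := col1 (col1 (col1 (col3 (col1 (col1 (col1 (col3 (col1 (col1 (col1 (col3 (i))))))))))))
theorem actR2_eq (i : Nat) : actR2 i = Tab.act T D rw2 i := rfl
noncomputable def actR3 (i : Nat) : Nat := col1 (col1 (col3 (col3 (col1 (col1 (col2 (col2 (col1 (col1 (col2 (col2 (i))))))))))))
theorem actR3_eq (i : Nat) : actR3 i = Tab.act T D rw3 i := rfl
noncomputable def actR4 (i : Nat) : Nat := col5 (col5 (i))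
theorem actR4_eq (i : Nat) : actR4 i = Tab.act T D rw4 i := rfl
noncomputable def actR5 (i : Nat) : Nat := col1 (col5 (col2 (col5 (col3 (col0 (col3 (col0 (col0 (col5 (col3 (i)))))))))))
theorem actR5_eq (i : Nat) : actR5 i = Tab.act T D rw5 i := rfl
noncomputable def actR6 (i : Nat) : Nat := col1 (col5 (col0 (col2 (col0 (col2 (col1 (col5 (col0 (col2 (col0 (col2 (i))))))))))))
theorem actR6_eq (i : Nat) : actR6 i = Tab.act T D rw6 i := rfl
noncomputable def actR7 (i : Nat) : Nat := col7 (col7 (i))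
theorem actR7_eq (i : Nat) : actR7 i = Tab.act T D rw7 i := rfl
noncomputable def actR8 (i : Nat) : Nat := col1 (col3 (col0 (col5 (col7 (col3 (col6 (col5 (i))))))))
theorem actR8_eq (i : Nat) : actR8 i = Tab.act T D rw8 i := rfl
noncomputable def actR9 (i : Nat) : Nat := col1 (col3 (col0 (col6 (col5 (col0 (col3 (col1 (col5 (col7 (i))))))))))
theorem actR9_eq (i : Nat) : actR9 i = Tab.act T D rw9 i := rfl
noncomputable def actR10 (i : Nat) : Nat := col1 (col1 (col5 (col2 (col0 (col2 (col0 (col5 (col3 (col5 (col2 (col1 (col7 (col1 (col7 (col5 (col6 (i)))))))))))))))))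
theorem actR10_eq (i : Nat) : actR10 i = Tab.act T D rw10 i := rfl
noncomputable def actR11 (i : Nat) : Nat := col9 (col9 (i))
theorem actR11_eq (i : Nat) : actR11 i = Tab.act T D rw11 i := rfl
noncomputable def actR12 (i : Nat) : Nat := col1 (col9 (col0 (col2 (col5 (col2 (col9 (col3 (col5 (col3 (i))))))))))
theorem actR12_eq (i : Nat) : actR12 i = Tab.act T D rw12 i := rfl
noncomputable def actR13 (i : Nat) : Nat := col1 (col2 (col9 (col3 (col0 (col2 (col1 (col5 (col9 (col5 (col0 (col3 (i))))))))))))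
theorem actR13_eq (i : Nat) : actR13 i = Tab.act T D rw13 i := rfl
noncomputable def actR14 (i : Nat) : Nat := col1 (col9 (col0 (col3 (col9 (col2 (col1 (col9 (col0 (col3 (col9 (col2 (i))))))))))))
theorem actR14_eq (i : Nat) : actR14 i = Tab.act T D rw14 i := rfl
noncomputable def actR15 (i : Nat) : Nat := col1 (col1 (col5 (col2 (col2 (col0 (col9 (col1 (col3 (col3 (col5 (col0 (col0 (col9 (i))))))))))))))
theorem actR15_eq (i : Nat) : actR15 i = Tab.act T D rw15 i := rfl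
noncomputable def actR16 (i : Nat) : Nat := col1 (col1 (col5 (col3 (col3 (col0 (col9 (col1 (col3 (col3 (col5 (col0 (col0 (col9 (i))))))))))))))
theorem actR16_eq (i : Nat) : actR16 i = Tab.act T D rw16 i := rfl
noncomputable def actR17 (i : Nat) : Nat := col1 (col1 (col2 (col9 (col0 (col5 (col9 (col5 (col1 (col9 (col0 (col2 (col0 (col2 (i))))))))))))))
theorem actR17_eq (i : Nat) : actR17 i = Tab.act T D rw17 i := rfl
noncomputable def actR18 (i : Nat) : Nat := col1 (col3 (col0 (col5 (col1 (col9 (col0 (col7 (col3 (col7 (col1 (col9 (col0 (col5 (i))))))))))))))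
theorem actR18_eq (i : Nat) : actR18 i = Tab.act T D rw18 i := rfl
noncomputable def actR19 (i : Nat) : Nat := col1 (col2 (col1 (col2 (col9 (col3 (col0 (col3 (col0 (col3 (col1 (col9 (col0 (col2 (i))))))))))))))
theorem actR19_eq (i : Nat) : actR19 i = Tab.act T D rw19 i := rfl
noncomputable def actR20 (i : Nat) : Nat := col1 (col1 (col3 (col1 (col1 (col3 (col9 (col2 (col0 (col0 (col2 (col0 (col0 (col9 (i))))))))))))))
theorem actR20_eq (i : Nat) : actR20 i = Tab.act T D rw20 i := rfl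
noncomputable def actR21 (i : Nat) : Nat := col1 (col5 (col3 (col9 (col2 (col5 (col0 (col3 (col5 (col1 (col9 (col0 (col5 (col2 (i))))))))))))))
theorem actR21_eq (i : Nat) : actR21 i = Tab.act T D rw21 i := rfl
noncomputable def actR22 (i : Nat) : Nat := col1 (col1 (col1 (col2 (col5 (col9 (col5 (col3 (col0 (col0 (col0 (col5 (col9 (col5 (i))))))))))))))
theorem actR22_eq (i : Nat) : actR22 i = Tab.act T D rw22 i := rfl
noncomputable def actR23 (i : Nat) : Nat := col1 (col5 (col9 (col5 (col9 (col3 (col3 (col9 (col5 (col9 (col5 (col0 (col3 (col3 (i))))))))))))))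
theorem actR23_eq (i : Nat) : actR23 i = Tab.act T D rw23 i := rfl
noncomputable def actR24 (i : Nat) : Nat := col1 (col3 (col9 (col7 (col9 (col5 (col9 (col7 (col9 (col1 (col5 (col0 (col5 (col3 (i))))))))))))))
theorem actR24_eq (i : Nat) : actR24 i = Tab.act T D rw24 i := rfl
noncomputable def actR25 (i : Nat) : Nat := col3 (col9 (col5 (col7 (col3 (col9 (col5 (col7 (col3 (col9 (col5 (col7 (col3 (col9 (col5 (col7 (col3 (col9 (col5 (col7 (col3 (col9 (col5 (col7 (col3 (col9 (col5 (col7 (col3 (col9 (col5 (col7 (col10 (i)))))))))))))))))))))))))))))))))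
theorem actR25_eq (i : Nat) : actR25 i = Tab.act T D rw25 i := rfl
noncomputable def actR26 (i : Nat) : Nat := col11 (col11 (col11 (i)))
theorem actR26_eq (i : Nat) : actR26 i = Tab.act T D rw26 i := rfl
noncomputable def actR27 (i : Nat) : Nat := col10 (col0 (col11 (col1 (i))))
theorem actR27_eq (i : Nat) : actR27 i = Tab.act T D rw27 i := rfl
noncomputable def actR28 (i : Nat) : Nat := col10 (col2 (col11 (col3 (i))))
theorem actR28_eq (i : Nat) : actR28 i = Tab.act T D rw28 i := rfl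
noncomputable def actR29 (i : Nat) : Nat := col10 (col4 (col11 (col5 (i))))
theorem actR29_eq (i : Nat) : actR29 i = Tab.act T D rw29 i := rfl
noncomputable def actR30 (i : Nat) : Nat := col10 (col6 (col11 (col7 (i))))
theorem actR30_eq (i : Nat) : actR30 i = Tab.act T D rw30 i := rfl
noncomputable def actR31 (i : Nat) : Nat := col10 (col8 (col11 (col9 (i))))
theorem actR31_eq (i : Nat) : actR31 i = Tab.act T D rw31 i := rfl

end Cfsg.Agent.Lib.Helper4.TCD.C3SuzB
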