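import Cfsg.Agent.Lib.Helper4.TCD_C3SuzB_Acc

namespace Cfsg.Agent.Lib.Helper4.TCD.C3SuzB

open Cfsg.Agent.Lib.Helper4.TC

set_option maxRecDepth 100000
set_option Elab.async false

theorem c_zero : D.zeroOK = true := by decide +kernel
theorem c_base : allBelow D.baseOK 8 = true := by decide +kernel
theorem c_let : allBelow D.letOK 12 = true := by decide +kernel
theorem c_cls0 : T.cls 0 = 0 := by decide +kernel
theorem c_name0 : T.nameOf 0 = 0 := by decide +kernel
theorem c_tab : D.relTabOK 0 (baseRels 12 PC3Suz.invR PC3Suz.P.real subs ++ (baseRels 12 PC3Suz.invR PC3Suz.P.real subs).map (invWord D.inv)) = true := by decide +kernel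
theorem c_real : PC3Suz.P.real = realLit := by decide +kernel
theorem c_subfix : subs.all (fun u => Nat.beq (Tab.act T D u 0) 0) = true := by decide +kernel
theorem c_subs : subs.all (fun u => u.all (fun x => Nat.ble (Nat.succ x) 12)) = true := by decide +kernel
theorem c_names_0 : allRange D.nameOK 1 42614 = true := by decide +kernel
theorem c_cls_0 : allRange (T.clsOK D) 1 15000 = true := by decide +kernel
theorem c_cls_1 : allRange (T.clsOK D) 15001 15000 = true := by decide +kernel
theorem c_cls_2 : allRange (T.clsOK D) 30001 12614 = true := by decide +kernel
theorem c_rep_0 : allRange (T.repOK D) 0 5346 = true := by decide +kernel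
theorem c_rel_0 : allRange D.relOK 42623 3994 = true := by decide +kernel
theorem c_rel_1 : allRange D.relOK 46617 3677 = true := by decide +kernel
theorem c_rel_2 : allRange D.relOK 50294 2172 = true := by decide +kernel
theorem c_rel_3 : allRange D.relOK 52466 2528 = true := by decide +kernel
theorem c_rel_4 : allRange D.relOK 54994 1646 = true := by decide +kernel
theorem c_rel_5 : allRange D.relOK 56640 2480 = true := by decide +kernel
theorem c_rel_6 : allRange D.relOK 59120 2233 = true := by decide +kernel
theorem c_rel_7 : allRange D.relOK 61353 2672 = true := by decide +kernel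
theorem c_rel_8 : allRange D.relOK 64025 2716 = true := by decide +kernel
theorem c_rel_9 : allRange D.relOK 66741 2737 = true := by decide +kernel
theorem c_rel_10 : allRange D.relOK 69478 2705 = true := by decide +kernel
theorem c_rel_11 : allRange D.relOK 72183 2651 = true := by decide +kernel
theorem c_rel_12 : allRange D.relOK 74834 2573 = true := by decide +kernel
theorem c_rel_13 : allRange D.relOK 77407 2449 = true := by decide +kernel
theorem c_rel_14 : allRange D.relOK 79856 2324 = true := by decide +kernel
theorem c_rel_15 : allRange D.relOK 82180 2247 = true := by decide +kernel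
theorem c_rel_16 : allRange D.relOK 84427 2176 = true := by decide +kernel
theorem c_rel_17 : allRange D.relOK 86603 2070 = true := by decide +kernel
theorem c_rel_18 : allRange D.relOK 88673 1951 = true := by decide +kernel
theorem c_rel_19 : allRange D.relOK 90624 2338 = true := by decide +kernel
theorem c_rel_20 : allRange D.relOK 92962 2543 = true := by decide +kernel
theorem c_rel_21 : allRange D.relOK 95505 2623 = true := by decide +kernel
theorem c_rel_22 : allRange D.relOK 98128 3948 = true := by decide +kernel
theorem c_rel_23 : allRange D.relOK 102076 4249 = true := by decide +kernel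
theorem c_rel_24 : allRange D.relOK 106325 4265 = true := by decide +kernel
theorem c_rel_25 : allRange D.relOK 110590 3559 = true := by decide +kernel
theorem c_rel_26 : allRange D.relOK 114149 3150 = true := by decide +kernel
theorem c_rel_27 : allRange D.relOK 117299 3114 = true := by decide +kernel
theorem c_rel_28 : allRange D.relOK 120413 2933 = true := by decide +kernel
theorem c_rel_29 : allRange D.relOK 123346 2899 = true := by decide +kernel
theorem c_rel_30 : allRange D.relOK 126245 2975 = true := by decide +kernel
theorem c_rel_31 : allRange D.relOK 129220 3660 = true := by decide +kernel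
theorem c_rel_32 : allRange D.relOK 132880 3557 = true := by decide +kernel
theorem c_rel_33 : allRange D.relOK 136437 3508 = true := by decide +kernel
theorem c_rel_34 : allRange D.relOK 139945 3394 = true := by decide +kernel
theorem c_rel_35 : allRange D.relOK 143339 3184 = true := by decide +kernel
theorem c_rel_36 : allRange D.relOK 146523 3946 = true := by decide +kernel
theorem c_rel_37 : allRange D.relOK 150469 4482 = true := by decide +kernel
theorem c_rel_38 : allRange D.relOK 154951 4452 = true := by decide +kernel
theorem c_rel_39 : allRange D.relOK 159403 4428 = true := by decide +kernel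
theorem c_rel_40 : allRange D.relOK 163831 4483 = true := by decide +kernel
theorem c_rel_41 : allRange D.relOK 168314 4525 = true := by decide +kernel
theorem c_rel_42 : allRange D.relOK 172839 1761 = true := by decide +kernel
theorem c_fin_0 : allGrid (T.finOK D) 0 1000 12 = true := by decide +kernel
theorem c_fin_1 : allGrid (T.finOK D) 1000 1000 12 = true := by decide +kernel
theorem c_fin_2 : allGrid (T.finOK D) 2000 1000 12 = true := by decide +kernel
theorem c_fin_3 : allGrid (T.finOK D) 3000 1000 12 = true := by decide +kernel
theorem c_fin_4 : allGrid (T.finOK D) 4000 1000 12 = true := by decide +kernel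
theorem c_fin_5 : allGrid (T.finOK D) 5000 346 12 = true := by decide +kernel
theorem c_perm_0 : allGrid (T.permOK1 D) 0 2500 12 = true := by decide +kernel
theorem c_perm_1 : allGrid (T.permOK1 D) 2500 2500 12 = true := by decide +kernel
theorem c_perm_2 : allGrid (T.permOK1 D) 5000 346 12 = true := by decide +kernel
theorem c_act0_0 : allRange (fun i => Nat.beq (actR0 i) i) 0 5346 = true := by decide +kernel
theorem c_act1_0 : allRange (fun i => Nat.beq (actR1 i) i) 0 5346 = true := by decide +kernel
theorem c_act2_0 : allRange (fun i => Nat.beq (actR2 i) i) 0 5000 = true := by decide +kernel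
theorem c_act2_1 : allRange (fun i => Nat.beq (actR2 i) i) 5000 346 = true := by decide +kernel
theorem c_act3_0 : allRange (fun i => Nat.beq (actR3 i) i) 0 5000 = true := by decide +kernel
theorem c_act3_1 : allRange (fun i => Nat.beq (actR3 i) i) 5000 346 = true := by decide +kernel
theorem c_act4_0 : allRange (fun i => Nat.beq (actR4 i) i) 0 5346 = true := by decide +kernel
theorem c_act5_0 : allRange (fun i => Nat.beq (actR5 i) i) 0 5346 = true := by decide +kernel
theorem c_act6_0 : allRange (fun i => Nat.beq (actR6 i) i) 0 5000 = true := by decide +kernel
theorem c_act6_1 : allRange (fun i => Nat.beq (actR6 i) i) 5000 346 = true := by decide +kernel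
theorem c_act7_0 : allRange (fun i => Nat.beq (actR7 i) i) 0 5346 = true := by decide +kernel
theorem c_act8_0 : allRange (fun i => Nat.beq (actR8 i) i) 0 5346 = true := by decide +kernel
theorem c_act9_0 : allRange (fun i => Nat.beq (actR9 i) i) 0 5346 = true := by decide +kernel
theorem c_act10_0 : allRange (fun i => Nat.beq (actR10 i) i) 0 3529 = true := by decide +kernel
theorem c_act10_1 : allRange (fun i => Nat.beq (actR10 i) i) 3529 1817 = true := by decide +kernel
theorem c_act11_0 : allRange (fun i => Nat.beq (actR11 i) i) 0 5346 = true := by decide +kernel
theorem c_act12_0 : allRange (fun i => Nat.beq (actR12 i) i) 0 5346 = true := by decide +kernel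
theorem c_act13_0 : allRange (fun i => Nat.beq (actR13 i) i) 0 5000 = true := by decide +kernel
theorem c_act13_1 : allRange (fun i => Nat.beq (actR13 i) i) 5000 346 = true := by decide +kernel
theorem c_act14_0 : allRange (fun i => Nat.beq (actR14 i) i) 0 5000 = true := by decide +kernel
theorem c_act14_1 : allRange (fun i => Nat.beq (actR14 i) i) 5000 346 = true := by decide +kernel
theorem c_act15_0 : allRange (fun i => Nat.beq (actR15 i) i) 0 4285 = true := by decide +kernel
theorem c_act15_1 : allRange (fun i => Nat.beq (actR15 i) i) 4285 1061 = true := by decide +kernel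
theorem c_act16_0 : allRange (fun i => Nat.beq (actR16 i) i) 0 4285 = true := by decide +kernel
theorem c_act16_1 : allRange (fun i => Nat.beq (actR16 i) i) 4285 1061 = true := by decide +kernel
theorem c_act17_0 : allRange (fun i => Nat.beq (actR17 i) i) 0 4285 = true := by decide +kernel
theorem c_act17_1 : allRange (fun i => Nat.beq (actR17 i) i) 4285 1061 = true := by decide +kernel
theorem c_act18_0 : allRange (fun i => Nat.beq (actR18 i) i) 0 4285 = true := by decide +kernel
theorem c_act18_1 : allRange (fun i => Nat.beq (actR18 i) i) 4285 1061 = true := by decide +kernel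

end Cfsg.Agent.Lib.Helper4.TCD.C3SuzB
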