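import Cfsg.Agent.Lib.Helper4.TC7
import Cfsg.Agent.Lib.Helper4.TCP_C3U62
import Cfsg.Agent.Lib.Helper4.TCD_C3U62B_D0
import Cfsg.Agent.Lib.Helper4.TCD_C3U62B_D1

namespace Cfsg.Agent.Lib.Helper4.TCD.C3U62B

open Cfsg.Agent.Lib.Helper4.TC

set_option maxRecDepth 100000

noncomputable def Atab_s_0_2 (c : Nat) : Nat := @Bool.rec (fun _ => Nat) (Atab_0) (Atab_1) (Nat.ble 1 c)
noncomputable def Atab_s_3_5 (c : Nat) : Nat := @Bool.rec (fun _ => Nat) (Atab_3) (Atab_4) (Nat.ble 4 c)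
noncomputable def Atab_s_2_5 (c : Nat) : Nat := @Bool.rec (fun _ => Nat) (Atab_2) (Atab_s_3_5 c) (Nat.ble 3 c)
noncomputable def Atab_s_0_5 (c : Nat) : Nat := @Bool.rec (fun _ => Nat) (Atab_s_0_2 c) (Atab_s_2_5 c) (Nat.ble 2 c)
noncomputable def Atab_s_5_7 (c : Nat) : Nat := @Bool.rec (fun _ => Nat) (Atab_5) (Atab_6) (Nat.ble 6 c)
noncomputable def Atab_s_8_10 (c : Nat) : Nat := @Bool.rec (fun _ => Nat) (Atab_8) (Atab_9) (Nat.ble 9 c)
noncomputable def Atab_s_7_10 (c : Nat) : Nat := @Bool.rec (fun _ => Nat) (Atab_7) (Atab_s_8_10 c) (Nat.ble 8 c)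
noncomputable def Atab_s_5_10 (c : Nat) : Nat := @Bool.rec (fun _ => Nat) (Atab_s_5_7 c) (Atab_s_7_10 c) (Nat.ble 7 c)
noncomputable def Atab_s_0_10 (c : Nat) : Nat := @Bool.rec (fun _ => Nat) (Atab_s_0_5 c) (Atab_s_5_10 c) (Nat.ble 5 c)
noncomputable def Atab_s_10_12 (c : Nat) : Nat := @Bool.rec (fun _ => Nat) (Atab_10) (Atab_11) (Nat.ble 11 c)
noncomputable def Atab_s_13_15 (c : Nat) : Nat := @Bool.rec (fun _ => Nat) (Atab_13) (Atab_14) (Nat.ble 14 c)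
noncomputable def Atab_s_12_15 (c : Nat) : Nat := @Bool.rec (fun _ => Nat) (Atab_12) (Atab_s_13_15 c) (Nat.ble 13 c)
noncomputable def Atab_s_10_15 (c : Nat) : Nat := @Bool.rec (fun _ => Nat) (Atab_s_10_12 c) (Atab_s_12_15 c) (Nat.ble 12 c)
noncomputable def Atab_s_16_18 (c : Nat) : Nat := @Bool.rec (fun _ => Nat) (Atab_16) (Atab_17) (Nat.ble 17 c)
noncomputable def Atab_s_15_18 (c : Nat) : Nat := @Bool.rec (fun _ => Nat) (Atab_15) (Atab_s_16_18 c) (Nat.ble 16 c)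
noncomputable def Atab_s_19_21 (c : Nat) : Nat := @Bool.rec (fun _ => Nat) (Atab_19) (Atab_20) (Nat.ble 20 c)
noncomputable def Atab_s_18_21 (c : Nat) : Nat := @Bool.rec (fun _ => Nat) (Atab_18) (Atab_s_19_21 c) (Nat.ble 19 c)
noncomputable def Atab_s_15_21 (c : Nat) : Nat := @Bool.rec (fun _ => Nat) (Atab_s_15_18 c) (Atab_s_18_21 c) (Nat.ble 18 c)
noncomputable def Atab_s_10_21 (c : Nat) : Nat := @Bool.rec (fun _ => Nat) (Atab_s_10_15 c) (Atab_s_15_21 c) (Nat.ble 15 c)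
noncomputable def Atab_s_0_21 (c : Nat) : Nat := @Bool.rec (fun _ => Nat) (Atab_s_0_10 c) (Atab_s_10_21 c) (Nat.ble 10 c)
noncomputable def Atab_s_21_23 (c : Nat) : Nat := @Bool.rec (fun _ => Nat) (Atab_21) (Atab_22) (Nat.ble 22 c)
noncomputable def Atab_s_24_26 (c : Nat) : Nat := @Bool.rec (fun _ => Nat) (Atab_24) (Atab_25) (Nat.ble 25 c)
noncomputable def Atab_s_23_26 (c : Nat) : Nat := @Bool.rec (fun _ => Nat) (Atab_23) (Atab_s_24_26 c) (Nat.ble 24 c)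
noncomputable def Atab_s_21_26 (c : Nat) : Nat := @Bool.rec (fun _ => Nat) (Atab_s_21_23 c) (Atab_s_23_26 c) (Nat.ble 23 c)
noncomputable def Atab_s_26_28 (c : Nat) : Nat := @Bool.rec (fun _ => Nat) (Atab_26) (Atab_27) (Nat.ble 27 c)
noncomputable def Atab_s_29_31 (c : Nat) : Nat := @Bool.rec (fun _ => Nat) (Atab_29) (Atab_30) (Nat.ble 30 c)
noncomputable def Atab_s_28_31 (c : Nat) : Nat := @Bool.rec (fun _ => Nat) (Atab_28) (Atab_s_29_31 c) (Nat.ble 29 c)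
noncomputable def Atab_s_26_31 (c : Nat) : Nat := @Bool.rec (fun _ => Nat) (Atab_s_26_28 c) (Atab_s_28_31 c) (Nat.ble 28 c)
noncomputable def Atab_s_21_31 (c : Nat) : Nat := @Bool.rec (fun _ => Nat) (Atab_s_21_26 c) (Atab_s_26_31 c) (Nat.ble 26 c)
noncomputable def Atab_s_31_33 (c : Nat) : Nat := @Bool.rec (fun _ => Nat) (Atab_31) (Atab_32) (Nat.ble 32 c)
noncomputable def Atab_s_34_36 (c : Nat) : Nat := @Bool.rec (fun _ => Nat) (Atab_34) (Atab_35) (Nat.ble 35 c)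
noncomputable def Atab_s_33_36 (c : Nat) : Nat := @Bool.rec (fun _ => Nat) (Atab_33) (Atab_s_34_36 c) (Nat.ble 34 c)
noncomputable def Atab_s_31_36 (c : Nat) : Nat := @Bool.rec (fun _ => Nat) (Atab_s_31_33 c) (Atab_s_33_36 c) (Nat.ble 33 c)
noncomputable def Atab_s_37_39 (c : Nat) : Nat := @Bool.rec (fun _ => Nat) (Atab_37) (Atab_38) (Nat.ble 38 c)
noncomputable def Atab_s_36_39 (c : Nat) : Nat := @Bool.rec (fun _ => Nat) (Atab_36) (Atab_s_37_39 c) (Nat.ble 37 c)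
noncomputable def Atab_s_40_42 (c : Nat) : Nat := @Bool.rec (fun _ => Nat) (Atab_40) (Atab_41) (Nat.ble 41 c)
noncomputable def Atab_s_39_42 (c : Nat) : Nat := @Bool.rec (fun _ => Nat) (Atab_39) (Atab_s_40_42 c) (Nat.ble 40 c)
noncomputable def Atab_s_36_42 (c : Nat) : Nat := @Bool.rec (fun _ => Nat) (Atab_s_36_39 c) (Atab_s_39_42 c) (Nat.ble 39 c)
noncomputable def Atab_s_31_42 (c : Nat) : Nat := @Bool.rec (fun _ => Nat) (Atab_s_31_36 c) (Atab_s_36_42 c) (Nat.ble 36 c)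
noncomputable def Atab_s_21_42 (c : Nat) : Nat := @Bool.rec (fun _ => Nat) (Atab_s_21_31 c) (Atab_s_31_42 c) (Nat.ble 31 c)
noncomputable def Atab_s_0_42 (c : Nat) : Nat := @Bool.rec (fun _ => Nat) (Atab_s_0_21 c) (Atab_s_21_42 c) (Nat.ble 21 c)
noncomputable def Atab (i : Nat) : Nat := rdw 35 34359738367 (Atab_s_0_42 (Nat.shiftRight i 11)) (Nat.land i 2047)
noncomputable def Btab_s_1_3 (c : Nat) : Nat := @Bool.rec (fun _ => Nat) (Btab_1) (Btab_2) (Nat.ble 2 c)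
noncomputable def Btab_s_0_3 (c : Nat) : Nat := @Bool.rec (fun _ => Nat) (Btab_0) (Btab_s_1_3 c) (Nat.ble 1 c)
noncomputable def Btab_s_3_5 (c : Nat) : Nat := @Bool.rec (fun _ => Nat) (Btab_3) (Btab_4) (Nat.ble 4 c)
noncomputable def Btab_s_5_7 (c : Nat) : Nat := @Bool.rec (fun _ => Nat) (Btab_5) (Btab_6) (Nat.ble 6 c)
noncomputable def Btab_s_3_7 (c : Nat) : Nat := @Bool.rec (fun _ => Nat) (Btab_s_3_5 c) (Btab_s_5_7 c) (Nat.ble 5 c)
noncomputable def Btab_s_0_7 (c : Nat) : Nat := @Bool.rec (fun _ => Nat) (Btab_s_0_3 c) (Btab_s_3_7 c) (Nat.ble 3 c)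
noncomputable def Btab_s_7_9 (c : Nat) : Nat := @Bool.rec (fun _ => Nat) (Btab_7) (Btab_8) (Nat.ble 8 c)
noncomputable def Btab_s_9_11 (c : Nat) : Nat := @Bool.rec (fun _ => Nat) (Btab_9) (Btab_10) (Nat.ble 10 c)
noncomputable def Btab_s_7_11 (c : Nat) : Nat := @Bool.rec (fun _ => Nat) (Btab_s_7_9 c) (Btab_s_9_11 c) (Nat.ble 9 c)
noncomputable def Btab_s_11_13 (c : Nat) : Nat := @Bool.rec (fun _ => Nat) (Btab_11) (Btab_12) (Nat.ble 12 c)
noncomputable def Btab_s_13_15 (c : Nat) : Nat := @Bool.rec (fun _ => Nat) (Btab_13) (Btab_14) (Nat.ble 14 c)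
noncomputable def Btab_s_11_15 (c : Nat) : Nat := @Bool.rec (fun _ => Nat) (Btab_s_11_13 c) (Btab_s_13_15 c) (Nat.ble 13 c)
noncomputable def Btab_s_7_15 (c : Nat) : Nat := @Bool.rec (fun _ => Nat) (Btab_s_7_11 c) (Btab_s_11_15 c) (Nat.ble 11 c)
noncomputable def Btab_s_0_15 (c : Nat) : Nat := @Bool.rec (fun _ => Nat) (Btab_s_0_7 c) (Btab_s_7_15 c) (Nat.ble 7 c)
noncomputable def Btab_s_16_18 (c : Nat) : Nat := @Bool.rec (fun _ => Nat) (Btab_16) (Btab_17) (Nat.ble 17 c)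
noncomputable def Btab_s_15_18 (c : Nat) : Nat := @Bool.rec (fun _ => Nat) (Btab_15) (Btab_s_16_18 c) (Nat.ble 16 c)
noncomputable def Btab_s_18_20 (c : Nat) : Nat := @Bool.rec (fun _ => Nat) (Btab_18) (Btab_19) (Nat.ble 19 c)
noncomputable def Btab_s_20_22 (c : Nat) : Nat := @Bool.rec (fun _ => Nat) (Btab_20) (Btab_21) (Nat.ble 21 c)
noncomputable def Btab_s_18_22 (c : Nat) : Nat := @Bool.rec (fun _ => Nat) (Btab_s_18_20 c) (Btab_s_20_22 c) (Nat.ble 20 c)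
noncomputable def Btab_s_15_22 (c : Nat) : Nat := @Bool.rec (fun _ => Nat) (Btab_s_15_18 c) (Btab_s_18_22 c) (Nat.ble 18 c)
noncomputable def Btab_s_22_24 (c : Nat) : Nat := @Bool.rec (fun _ => Nat) (Btab_22) (Btab_23) (Nat.ble 23 c)
noncomputable def Btab_s_24_26 (c : Nat) : Nat := @Bool.rec (fun _ => Nat) (Btab_24) (Btab_25) (Nat.ble 25 c)
noncomputable def Btab_s_22_26 (c : Nat) : Nat := @Bool.rec (fun _ => Nat) (Btab_s_22_24 c) (Btab_s_24_26 c) (Nat.ble 24 c)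
noncomputable def Btab_s_26_28 (c : Nat) : Nat := @Bool.rec (fun _ => Nat) (Btab_26) (Btab_27) (Nat.ble 27 c)
noncomputable def Btab_s_28_30 (c : Nat) : Nat := @Bool.rec (fun _ => Nat) (Btab_28) (Btab_29) (Nat.ble 29 c)
noncomputable def Btab_s_26_30 (c : Nat) : Nat := @Bool.rec (fun _ => Nat) (Btab_s_26_28 c) (Btab_s_28_30 c) (Nat.ble 28 c)
noncomputable def Btab_s_22_30 (c : Nat) : Nat := @Bool.rec (fun _ => Nat) (Btab_s_22_26 c) (Btab_s_26_30 c) (Nat.ble 26 c)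
noncomputable def Btab_s_15_30 (c : Nat) : Nat := @Bool.rec (fun _ => Nat) (Btab_s_15_22 c) (Btab_s_22_30 c) (Nat.ble 22 c)
noncomputable def Btab_s_0_30 (c : Nat) : Nat := @Bool.rec (fun _ => Nat) (Btab_s_0_15 c) (Btab_s_15_30 c) (Nat.ble 15 c)
noncomputable def Btab (i : Nat) : Nat := rdw 36 68719476735 (Btab_s_0_30 (Nat.shiftRight i 11)) (Nat.land i 2047)
noncomputable def Ptab_s_1_3 (c : Nat) : Nat := @Bool.rec (fun _ => Nat) (Ptab_1) (Ptab_2) (Nat.ble 2 c)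
noncomputable def Ptab_s_0_3 (c : Nat) : Nat := @Bool.rec (fun _ => Nat) (Ptab_0) (Ptab_s_1_3 c) (Nat.ble 1 c)
noncomputable def Ptab_s_4_6 (c : Nat) : Nat := @Bool.rec (fun _ => Nat) (Ptab_4) (Ptab_5) (Nat.ble 5 c)
noncomputable def Ptab_s_3_6 (c : Nat) : Nat := @Bool.rec (fun _ => Nat) (Ptab_3) (Ptab_s_4_6 c) (Nat.ble 4 c)
noncomputable def Ptab_s_0_6 (c : Nat) : Nat := @Bool.rec (fun _ => Nat) (Ptab_s_0_3 c) (Ptab_s_3_6 c) (Nat.ble 3 c)
noncomputable def Ptab_s_7_9 (c : Nat) : Nat := @Bool.rec (fun _ => Nat) (Ptab_7) (Ptab_8) (Nat.ble 8 c)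
noncomputable def Ptab_s_6_9 (c : Nat) : Nat := @Bool.rec (fun _ => Nat) (Ptab_6) (Ptab_s_7_9 c) (Nat.ble 7 c)
noncomputable def Ptab_s_10_12 (c : Nat) : Nat := @Bool.rec (fun _ => Nat) (Ptab_10) (Ptab_11) (Nat.ble 11 c)
noncomputable def Ptab_s_9_12 (c : Nat) : Nat := @Bool.rec (fun _ => Nat) (Ptab_9) (Ptab_s_10_12 c) (Nat.ble 10 c)
noncomputable def Ptab_s_6_12 (c : Nat) : Nat := @Bool.rec (fun _ => Nat) (Ptab_s_6_9 c) (Ptab_s_9_12 c) (Nat.ble 9 c)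
noncomputable def Ptab_s_0_12 (c : Nat) : Nat := @Bool.rec (fun _ => Nat) (Ptab_s_0_6 c) (Ptab_s_6_12 c) (Nat.ble 6 c)
noncomputable def Ptab_s_13_15 (c : Nat) : Nat := @Bool.rec (fun _ => Nat) (Ptab_13) (Ptab_14) (Nat.ble 14 c)
noncomputable def Ptab_s_12_15 (c : Nat) : Nat := @Bool.rec (fun _ => Nat) (Ptab_12) (Ptab_s_13_15 c) (Nat.ble 13 c)
noncomputable def Ptab_s_16_18 (c : Nat) : Nat := @Bool.rec (fun _ => Nat) (Ptab_16) (Ptab_17) (Nat.ble 17 c)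
noncomputable def Ptab_s_15_18 (c : Nat) : Nat := @Bool.rec (fun _ => Nat) (Ptab_15) (Ptab_s_16_18 c) (Nat.ble 16 c)
noncomputable def Ptab_s_12_18 (c : Nat) : Nat := @Bool.rec (fun _ => Nat) (Ptab_s_12_15 c) (Ptab_s_15_18 c) (Nat.ble 15 c)
noncomputable def Ptab_s_19_21 (c : Nat) : Nat := @Bool.rec (fun _ => Nat) (Ptab_19) (Ptab_20) (Nat.ble 20 c)
noncomputable def Ptab_s_18_21 (c : Nat) : Nat := @Bool.rec (fun _ => Nat) (Ptab_18) (Ptab_s_19_21 c) (Nat.ble 19 c)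
noncomputable def Ptab_s_21_23 (c : Nat) : Nat := @Bool.rec (fun _ => Nat) (Ptab_21) (Ptab_22) (Nat.ble 22 c)
noncomputable def Ptab_s_23_25 (c : Nat) : Nat := @Bool.rec (fun _ => Nat) (Ptab_23) (Ptab_24) (Nat.ble 24 c)
noncomputable def Ptab_s_21_25 (c : Nat) : Nat := @Bool.rec (fun _ => Nat) (Ptab_s_21_23 c) (Ptab_s_23_25 c) (Nat.ble 23 c)
noncomputable def Ptab_s_18_25 (c : Nat) : Nat := @Bool.rec (fun _ => Nat) (Ptab_s_18_21 c) (Ptab_s_21_25 c) (Nat.ble 21 c)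
noncomputable def Ptab_s_12_25 (c : Nat) : Nat := @Bool.rec (fun _ => Nat) (Ptab_s_12_18 c) (Ptab_s_18_25 c) (Nat.ble 18 c)
noncomputable def Ptab_s_0_25 (c : Nat) : Nat := @Bool.rec (fun _ => Nat) (Ptab_s_0_12 c) (Ptab_s_12_25 c) (Nat.ble 12 c)
noncomputable def Ptab_s_26_28 (c : Nat) : Nat := @Bool.rec (fun _ => Nat) (Ptab_26) (Ptab_27) (Nat.ble 27 c)
noncomputable def Ptab_s_25_28 (c : Nat) : Nat := @Bool.rec (fun _ => Nat) (Ptab_25) (Ptab_s_26_28 c) (Nat.ble 26 c)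
noncomputable def Ptab_s_29_31 (c : Nat) : Nat := @Bool.rec (fun _ => Nat) (Ptab_29) (Ptab_30) (Nat.ble 30 c)
noncomputable def Ptab_s_28_31 (c : Nat) : Nat := @Bool.rec (fun _ => Nat) (Ptab_28) (Ptab_s_29_31 c) (Nat.ble 29 c)
noncomputable def Ptab_s_25_31 (c : Nat) : Nat := @Bool.rec (fun _ => Nat) (Ptab_s_25_28 c) (Ptab_s_28_31 c) (Nat.ble 28 c)
noncomputable def Ptab_s_32_34 (c : Nat) : Nat := @Bool.rec (fun _ => Nat) (Ptab_32) (Ptab_33) (Nat.ble 33 c)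
noncomputable def Ptab_s_31_34 (c : Nat) : Nat := @Bool.rec (fun _ => Nat) (Ptab_31) (Ptab_s_32_34 c) (Nat.ble 32 c)
noncomputable def Ptab_s_34_36 (c : Nat) : Nat := @Bool.rec (fun _ => Nat) (Ptab_34) (Ptab_35) (Nat.ble 35 c)
noncomputable def Ptab_s_36_38 (c : Nat) : Nat := @Bool.rec (fun _ => Nat) (Ptab_36) (Ptab_37) (Nat.ble 37 c)
noncomputable def Ptab_s_34_38 (c : Nat) : Nat := @Bool.rec (fun _ => Nat) (Ptab_s_34_36 c) (Ptab_s_36_38 c) (Nat.ble 36 c)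
noncomputable def Ptab_s_31_38 (c : Nat) : Nat := @Bool.rec (fun _ => Nat) (Ptab_s_31_34 c) (Ptab_s_34_38 c) (Nat.ble 34 c)
noncomputable def Ptab_s_25_38 (c : Nat) : Nat := @Bool.rec (fun _ => Nat) (Ptab_s_25_31 c) (Ptab_s_31_38 c) (Nat.ble 31 c)
noncomputable def Ptab_s_39_41 (c : Nat) : Nat := @Bool.rec (fun _ => Nat) (Ptab_39) (Ptab_40) (Nat.ble 40 c)
noncomputable def Ptab_s_38_41 (c : Nat) : Nat := @Bool.rec (fun _ => Nat) (Ptab_38) (Ptab_s_39_41 c) (Nat.ble 39 c)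
noncomputable def Ptab_s_42_44 (c : Nat) : Nat := @Bool.rec (fun _ => Nat) (Ptab_42) (Ptab_43) (Nat.ble 43 c)
noncomputable def Ptab_s_41_44 (c : Nat) : Nat := @Bool.rec (fun _ => Nat) (Ptab_41) (Ptab_s_42_44 c) (Nat.ble 42 c)
noncomputable def Ptab_s_38_44 (c : Nat) : Nat := @Bool.rec (fun _ => Nat) (Ptab_s_38_41 c) (Ptab_s_41_44 c) (Nat.ble 41 c)
noncomputable def Ptab_s_45_47 (c : Nat) : Nat := @Bool.rec (fun _ => Nat) (Ptab_45) (Ptab_46) (Nat.ble 46 c)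
noncomputable def Ptab_s_44_47 (c : Nat) : Nat := @Bool.rec (fun _ => Nat) (Ptab_44) (Ptab_s_45_47 c) (Nat.ble 45 c)
noncomputable def Ptab_s_47_49 (c : Nat) : Nat := @Bool.rec (fun _ => Nat) (Ptab_47) (Ptab_48) (Nat.ble 48 c)
noncomputable def Ptab_s_49_51 (c : Nat) : Nat := @Bool.rec (fun _ => Nat) (Ptab_49) (Ptab_50) (Nat.ble 50 c)
noncomputable def Ptab_s_47_51 (c : Nat) : Nat := @Bool.rec (fun _ => Nat) (Ptab_s_47_49 c) (Ptab_s_49_51 c) (Nat.ble 49 c)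
noncomputable def Ptab_s_44_51 (c : Nat) : Nat := @Bool.rec (fun _ => Nat) (Ptab_s_44_47 c) (Ptab_s_47_51 c) (Nat.ble 47 c)
noncomputable def Ptab_s_38_51 (c : Nat) : Nat := @Bool.rec (fun _ => Nat) (Ptab_s_38_44 c) (Ptab_s_44_51 c) (Nat.ble 44 c)
noncomputable def Ptab_s_25_51 (c : Nat) : Nat := @Bool.rec (fun _ => Nat) (Ptab_s_25_38 c) (Ptab_s_38_51 c) (Nat.ble 38 c)
noncomputable def Ptab_s_0_51 (c : Nat) : Nat := @Bool.rec (fun _ => Nat) (Ptab_s_0_25 c) (Ptab_s_25_51 c) (Nat.ble 25 c)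
noncomputable def Ptab (i : Nat) : Nat := rdw 18 262143 (Ptab_s_0_51 (Nat.shiftRight i 12)) (Nat.land i 4095)
noncomputable def RRtab (i : Nat) : Nat := rdw 5 31 RRtab_0 i
noncomputable def rBtab (i : Nat) : Nat := rdw 10 1023 rBtab_0 i
noncomputable def rLtab (i : Nat) : Nat := rdw 5 31 rLtab_0 i
noncomputable def nameTab (i : Nat) : Nat := rdw 15 32767 nameTab_0 i
noncomputable def col0 (i : Nat) : Nat := rdw 11 2047 col0_0 i
noncomputable def col1 (i : Nat) : Nat := rdw 11 2047 col1_0 i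
noncomputable def col2 (i : Nat) : Nat := rdw 11 2047 col2_0 i
noncomputable def col3 (i : Nat) : Nat := rdw 11 2047 col3_0 i
noncomputable def col4 (i : Nat) : Nat := rdw 11 2047 col4_0 i
noncomputable def col5 (i : Nat) : Nat := rdw 11 2047 col5_0 i
noncomputable def col6 (i : Nat) : Nat := rdw 11 2047 col6_0 i
noncomputable def col7 (i : Nat) : Nat := rdw 11 2047 col7_0 i
noncomputable def col8 (i : Nat) : Nat := rdw 11 2047 col8_0 i
noncomputable def col9 (i : Nat) : Nat := rdw 11 2047 col9_0 i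
noncomputable def col10 (i : Nat) : Nat := rdw 11 2047 col10_0 i
noncomputable def col11 (i : Nat) : Nat := rdw 11 2047 col11_0 i
noncomputable def finTab_s_1_3 (c : Nat) : Nat := @Bool.rec (fun _ => Nat) (finTab_1) (finTab_2) (Nat.ble 2 c)
noncomputable def finTab_s_0_3 (c : Nat) : Nat := @Bool.rec (fun _ => Nat) (finTab_0) (finTab_s_1_3 c) (Nat.ble 1 c)
noncomputable def finTab_s_4_6 (c : Nat) : Nat := @Bool.rec (fun _ => Nat) (finTab_4) (finTab_5) (Nat.ble 5 c)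
noncomputable def finTab_s_3_6 (c : Nat) : Nat := @Bool.rec (fun _ => Nat) (finTab_3) (finTab_s_4_6 c) (Nat.ble 4 c)
noncomputable def finTab_s_0_6 (c : Nat) : Nat := @Bool.rec (fun _ => Nat) (finTab_s_0_3 c) (finTab_s_3_6 c) (Nat.ble 3 c)
noncomputable def finTab (i : Nat) : Nat := rdw 18 262143 (finTab_s_0_6 (Nat.shiftRight i 12)) (Nat.land i 4095)
noncomputable def clsTab_s_1_3 (c : Nat) : Nat := @Bool.rec (fun _ => Nat) (clsTab_1) (clsTab_2) (Nat.ble 2 c)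
noncomputable def clsTab_s_0_3 (c : Nat) : Nat := @Bool.rec (fun _ => Nat) (clsTab_0) (clsTab_s_1_3 c) (Nat.ble 1 c)
noncomputable def clsTab (i : Nat) : Nat := rdw 11 2047 (clsTab_s_0_3 (Nat.shiftRight i 13)) (Nat.land i 8191)
noncomputable def oparTab (i : Nat) : Nat := rdw 11 2047 oparTab_0 i
noncomputable def olabTab (i : Nat) : Nat := rdw 3 7 olabTab_0 i
noncomputable def srcF (t : Nat) : Nat := Nat.land (Atab t) 32767
noncomputable def tgtF (t : Nat) : Nat := Nat.land (Nat.shiftRight (Atab t) 15) 32767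
noncomputable def ltF (t : Nat) : Nat := Nat.shiftRight (Atab t) 30
noncomputable def rhoF (t : Nat) : Nat := Nat.land (Btab (Nat.sub t 23838)) 127
noncomputable def rotF (t : Nat) : Nat := Nat.land (Nat.shiftRight (Btab (Nat.sub t 23838)) 7) 31
noncomputable def lenF (t : Nat) : Nat := Nat.land (Nat.shiftRight (Btab (Nat.sub t 23838)) 12) 63
noncomputable def offF (t : Nat) : Nat := Nat.shiftRight (Btab (Nat.sub t 23838)) 18
noncomputable def pfF (j : Nat) : Nat := Nat.shiftRight (Ptab j) 1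
noncomputable def pdF (j : Nat) : Nat := Nat.land (Ptab j) 1
noncomputable def tblF (i x : Nat) : Nat := @Bool.rec (fun _ => Nat) (@Bool.rec (fun _ => Nat) (@Bool.rec (fun _ => Nat) (col0 i) (@Bool.rec (fun _ => Nat) (col1 i) (col2 i) (Nat.ble 2 x)) (Nat.ble 1 x)) (@Bool.rec (fun _ => Nat) (col3 i) (@Bool.rec (fun _ => Nat) (col4 i) (col5 i) (Nat.ble 5 x)) (Nat.ble 4 x)) (Nat.ble 3 x)) (@Bool.rec (fun _ => Nat) (@Bool.rec (fun _ => Nat) (col6 i) (@Bool.rec (fun _ => Nat) (col7 i) (col8 i) (Nat.ble 8 x)) (Nat.ble 7 x)) (@Bool.rec (fun _ => Nat) (col9 i) (@Bool.rec (fun _ => Nat) (col10 i) (col11 i) (Nat.ble 11 x)) (Nat.ble 10 x)) (Nat.ble 9 x)) (Nat.ble 6 x)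
noncomputable def finE (i x : Nat) : Nat := finTab (Nat.add (Nat.mul i 12) x)
noncomputable def finFF (i x : Nat) : Nat := Nat.shiftRight (finE i x) 1
noncomputable def finDF (i x : Nat) : Nat := Nat.land (finE i x) 1

noncomputable def D : Log :=
  { k := 12, inv := invE 12 PC3U62.invR, nR := 74, rBase := rBtab, rLen := rLtab, RR := RRtab,
    M := 23830, nB := 8, F := 84471, src := srcF, lt := ltF, tgt := tgtF, rho := rhoF, rot := rotF,
    off := offF, len := lenF, pf := pfF, pd := pdF }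

noncomputable def T : Tab :=
  { N := 2016, nameOf := nameTab, tbl := tblF, finF := finFF, finD := finDF, cls := clsTab }

def subs : List (List Nat) := [
  [0],
  [2],
  [4],
  [6] ]

def rw0 : List Nat := [0, 0]
def rw1 : List Nat := [2, 2, 2, 2, 2]
def rw2 : List Nat := [0, 2, 0, 2, 0, 2, 0, 2, 0, 2, 0, 2, 0, 2, 0, 2, 0, 2]
def rw3 : List Nat := [1, 3, 0, 2, 1, 3, 0, 2, 1, 3, 0, 2]
def rw4 : List Nat := [1, 3, 1, 3, 0, 2, 0, 2, 1, 3, 1, 3, 0, 2, 0, 2]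
def rw5 : List Nat := [4, 4, 4]
def rw6 : List Nat := [5, 1, 4, 0]
def rw7 : List Nat := [5, 3, 4, 2]
def rw8 : List Nat := [6, 6]
def rw9 : List Nat := [0, 6, 0, 6, 0, 6]
def rw10 : List Nat := [0, 2, 0, 2, 4, 6, 0, 2, 6]
def rw11 : List Nat := [8, 8, 8]
def rw12 : List Nat := [0, 2, 0, 2, 0, 2, 4, 6, 2, 0, 8, 2, 0, 3, 9, 0, 3]
def rw13 : List Nat := [0, 2, 0, 2, 0, 2, 0, 8, 4, 8, 2, 0, 3, 0, 3, 0, 2, 2, 11]
def rw14 : List Nat := [0, 2, 0, 2, 0, 2, 0, 3, 3, 0, 3, 4, 6, 2, 2, 6, 0, 3, 8, 6, 8, 5, 2, 6, 9, 3, 3]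
def rw15 : List Nat := [10, 10, 10]
def rw16 : List Nat := [11, 1, 10, 0]
def rw17 : List Nat := [11, 3, 10, 2]
def rw18 : List Nat := [11, 5, 10, 4]
def rw19 : List Nat := [11, 7, 10, 6]
def rw20 : List Nat := [11, 9, 10, 8]
def realLit : List (List Nat) := [rw0, rw1, rw2, rw3, rw4, rw5, rw6, rw7, rw8, rw9, rw10, rw11, rw12, rw13, rw14, rw15, rw16, rw17, rw18, rw19, rw20]
noncomputable def actR0 (i : Nat) : Nat := col1 (col1 (i))
theorem actR0_eq (i : Nat) : actR0 i = Tab.act T D rw0 i := rfl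
noncomputable def actR1 (i : Nat) : Nat := col3 (col3 (col3 (col3 (col3 (i)))))
theorem actR1_eq (i : Nat) : actR1 i = Tab.act T D rw1 i := rfl
noncomputable def actR2 (i : Nat) : Nat := col1 (col3 (col1 (col3 (col1 (col3 (col1 (col3 (col1 (col3 (col1 (col3 (col1 (col3 (col1 (col3 (col1 (col3 (i))))))))))))))))))
theorem actR2_eq (i : Nat) : actR2 i = Tab.act T D rw2 i := rfl
noncomputable def actR3 (i : Nat) : Nat := col0 (col2 (col1 (col3 (col0 (col2 (col1 (col3 (col0 (col2 (col1 (col3 (i))))))))))))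
theorem actR3_eq (i : Nat) : actR3 i = Tab.act T D rw3 i := rfl
noncomputable def actR4 (i : Nat) : Nat := col0 (col2 (col0 (col2 (col1 (col3 (col1 (col3 (col0 (col2 (col0 (col2 (col1 (col3 (col1 (col3 (i))))))))))))))))
theorem actR4_eq (i : Nat) : actR4 i = Tab.act T D rw4 i := rfl
noncomputable def actR5 (i : Nat) : Nat := col5 (col5 (col5 (i)))
theorem actR5_eq (i : Nat) : actR5 i = Tab.act T D rw5 i := rfl
noncomputable def actR6 (i : Nat) : Nat := col4 (col0 (col5 (col1 (i))))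
theorem actR6_eq (i : Nat) : actR6 i = Tab.act T D rw6 i := rfl
noncomputable def actR7 (i : Nat) : Nat := col4 (col2 (col5 (col3 (i))))
theorem actR7_eq (i : Nat) : actR7 i = Tab.act T D rw7 i := rfl
noncomputable def actR8 (i : Nat) : Nat := col7 (col7 (i))
theorem actR8_eq (i : Nat) : actR8 i = Tab.act T D rw8 i := rfl
noncomputable def actR9 (i : Nat) : Nat := col1 (col7 (col1 (col7 (col1 (col7 (i))))))
theorem actR9_eq (i : Nat) : actR9 i = Tab.act T D rw9 i := rfl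
noncomputable def actR10 (i : Nat) : Nat := col1 (col3 (col1 (col3 (col5 (col7 (col1 (col3 (col7 (i)))))))))
theorem actR10_eq (i : Nat) : actR10 i = Tab.act T D rw10 i := rfl
noncomputable def actR11 (i : Nat) : Nat := col9 (col9 (col9 (i)))
theorem actR11_eq (i : Nat) : actR11 i = Tab.act T D rw11 i := rfl
noncomputable def actR12 (i : Nat) : Nat := col1 (col3 (col1 (col3 (col1 (col3 (col5 (col7 (col3 (col1 (col9 (col3 (col1 (col2 (col8 (col1 (col2 (i)))))))))))))))))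
theorem actR12_eq (i : Nat) : actR12 i = Tab.act T D rw12 i := rfl
noncomputable def actR13 (i : Nat) : Nat := col1 (col3 (col1 (col3 (col1 (col3 (col1 (col9 (col5 (col9 (col3 (col1 (col2 (col1 (col2 (col1 (col3 (col3 (col10 (i)))))))))))))))))))
theorem actR13_eq (i : Nat) : actR13 i = Tab.act T D rw13 i := rfl
noncomputable def actR14 (i : Nat) : Nat := col1 (col3 (col1 (col3 (col1 (col3 (col1 (col2 (col2 (col1 (col2 (col5 (col7 (col3 (col3 (col7 (col1 (col2 (col9 (col7 (col9 (col4 (col3 (col7 (col8 (col2 (col2 (i)))))))))))))))))))))))))))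
theorem actR14_eq (i : Nat) : actR14 i = Tab.act T D rw14 i := rfl
noncomputable def actR15 (i : Nat) : Nat := col11 (col11 (col11 (i)))
theorem actR15_eq (i : Nat) : actR15 i = Tab.act T D rw15 i := rfl
noncomputable def actR16 (i : Nat) : Nat := col10 (col0 (col11 (col1 (i))))
theorem actR16_eq (i : Nat) : actR16 i = Tab.act T D rw16 i := rfl
noncomputable def actR17 (i : Nat) : Nat := col10 (col2 (col11 (col3 (i))))
theorem actR17_eq (i : Nat) : actR17 i = Tab.act T D rw17 i := rfl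
noncomputable def actR18 (i : Nat) : Nat := col10 (col4 (col11 (col5 (i))))
theorem actR18_eq (i : Nat) : actR18 i = Tab.act T D rw18 i := rfl
noncomputable def actR19 (i : Nat) : Nat := col10 (col6 (col11 (col7 (i))))
theorem actR19_eq (i : Nat) : actR19 i = Tab.act T D rw19 i := rfl
noncomputable def actR20 (i : Nat) : Nat := col10 (col8 (col11 (col9 (i))))
theorem actR20_eq (i : Nat) : actR20 i = Tab.act T D rw20 i := rfl

end Cfsg.Agent.Lib.Helper4.TCD.C3U62B
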