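import Cfsg.Agent.Lib.Helper4.TCD_C3U62B_Acc

namespace Cfsg.Agent.Lib.Helper4.TCD.C3U62B

open Cfsg.Agent.Lib.Helper4.TC

set_option maxRecDepth 100000
set_option Elab.async false

theorem c_zero : D.zeroOK = true := by decide +kernel
theorem c_base : allBelow D.baseOK 8 = true := by decide +kernel
theorem c_let : allBelow D.letOK 12 = true := by decide +kernel
theorem c_cls0 : T.cls 0 = 0 := by decide +kernel
theorem c_name0 : T.nameOf 0 = 0 := by decide +kernel
theorem c_tab : D.relTabOK 0 (baseRels 12 PC3U62.invR PC3U62.P.real subs ++ (baseRels 12 PC3U62.invR PC3U62.P.real subs).map (invWord D.inv)) = true := by decide +kernel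
theorem c_real : PC3U62.P.real = realLit := by decide +kernel
theorem c_subfix : subs.all (fun u => Nat.beq (Tab.act T D u 0) 0) = true := by decide +kernel
theorem c_subs : subs.all (fun u => u.all (fun x => Nat.ble (Nat.succ x) 12)) = true := by decide +kernel
theorem c_names_0 : allRange D.nameOK 1 23829 = true := by decide +kernel
theorem c_cls_0 : allRange (T.clsOK D) 1 15000 = true := by decide +kernel
theorem c_cls_1 : allRange (T.clsOK D) 15001 8829 = true := by decide +kernel
theorem c_rep_0 : allRange (T.repOK D) 0 2016 = true := by decide +kernel
theorem c_rel_0 : allRange D.relOK 23838 4233 = true := by decide +kernel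
theorem c_rel_1 : allRange D.relOK 28071 4206 = true := by decide +kernel
theorem c_rel_2 : allRange D.relOK 32277 3107 = true := by decide +kernel
theorem c_rel_3 : allRange D.relOK 35384 3611 = true := by decide +kernel
theorem c_rel_4 : allRange D.relOK 38995 2931 = true := by decide +kernel
theorem c_rel_5 : allRange D.relOK 41926 3355 = true := by decide +kernel
theorem c_rel_6 : allRange D.relOK 45281 3167 = true := by decide +kernel
theorem c_rel_7 : allRange D.relOK 48448 3054 = true := by decide +kernel
theorem c_rel_8 : allRange D.relOK 51502 3111 = true := by decide +kernel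
theorem c_rel_9 : allRange D.relOK 54613 2440 = true := by decide +kernel
theorem c_rel_10 : allRange D.relOK 57053 3014 = true := by decide +kernel
theorem c_rel_11 : allRange D.relOK 60067 2989 = true := by decide +kernel
theorem c_rel_12 : allRange D.relOK 63056 2632 = true := by decide +kernel
theorem c_rel_13 : allRange D.relOK 65688 2342 = true := by decide +kernel
theorem c_rel_14 : allRange D.relOK 68030 3890 = true := by decide +kernel
theorem c_rel_15 : allRange D.relOK 71920 4667 = true := by decide +kernel
theorem c_rel_16 : allRange D.relOK 76587 4631 = true := by decide +kernel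
theorem c_rel_17 : allRange D.relOK 81218 3253 = true := by decide +kernel
theorem c_fin_0 : allGrid (T.finOK D) 0 1000 12 = true := by decide +kernel
theorem c_fin_1 : allGrid (T.finOK D) 1000 1000 12 = true := by decide +kernel
theorem c_fin_2 : allGrid (T.finOK D) 2000 16 12 = true := by decide +kernel
theorem c_perm_0 : allGrid (T.permOK1 D) 0 2016 12 = true := by decide +kernel
theorem c_act0_0 : allRange (fun i => Nat.beq (actR0 i) i) 0 2016 = true := by decide +kernel
theorem c_act1_0 : allRange (fun i => Nat.beq (actR1 i) i) 0 2016 = true := by decide +kernel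
theorem c_act2_0 : allRange (fun i => Nat.beq (actR2 i) i) 0 2016 = true := by decide +kernel
theorem c_act3_0 : allRange (fun i => Nat.beq (actR3 i) i) 0 2016 = true := by decide +kernel
theorem c_act4_0 : allRange (fun i => Nat.beq (actR4 i) i) 0 2016 = true := by decide +kernel
theorem c_act5_0 : allRange (fun i => Nat.beq (actR5 i) i) 0 2016 = true := by decide +kernel
theorem c_act6_0 : allRange (fun i => Nat.beq (actR6 i) i) 0 2016 = true := by decide +kernel
theorem c_act7_0 : allRange (fun i => Nat.beq (actR7 i) i) 0 2016 = true := by decide +kernel
theorem c_act8_0 : allRange (fun i => Nat.beq (actR8 i) i) 0 2016 = true := by decide +kernel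
theorem c_act9_0 : allRange (fun i => Nat.beq (actR9 i) i) 0 2016 = true := by decide +kernel
theorem c_act10_0 : allRange (fun i => Nat.beq (actR10 i) i) 0 2016 = true := by decide +kernel
theorem c_act11_0 : allRange (fun i => Nat.beq (actR11 i) i) 0 2016 = true := by decide +kernel
theorem c_act12_0 : allRange (fun i => Nat.beq (actR12 i) i) 0 2016 = true := by decide +kernel
theorem c_act13_0 : allRange (fun i => Nat.beq (actR13 i) i) 0 2016 = true := by decide +kernel
theorem c_act14_0 : allRange (fun i => Nat.beq (actR14 i) i) 0 2016 = true := by decide +kernel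
theorem c_act15_0 : allRange (fun i => Nat.beq (actR15 i) i) 0 2016 = true := by decide +kernel
theorem c_act16_0 : allRange (fun i => Nat.beq (actR16 i) i) 0 2016 = true := by decide +kernel
theorem c_act17_0 : allRange (fun i => Nat.beq (actR17 i) i) 0 2016 = true := by decide +kernel
theorem c_act18_0 : allRange (fun i => Nat.beq (actR18 i) i) 0 2016 = true := by decide +kernel
theorem c_act19_0 : allRange (fun i => Nat.beq (actR19 i) i) 0 2016 = true := by decide +kernel
theorem c_act20_0 : allRange (fun i => Nat.beq (actR20 i) i) 0 2016 = true := by decide +kernel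

end Cfsg.Agent.Lib.Helper4.TCD.C3U62B
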