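import Cfsg.Agent.Lib.Helper4.TC14
import Cfsg.Agent.Lib.Helper4.TCP_C3U62
import Cfsg.Agent.Lib.Helper4.TCD_C3U62R_D0

namespace Cfsg.Agent.Lib.Helper4.TCD.C3U62R

open Cfsg.Agent.Lib.Helper4.TC

set_option maxRecDepth 100000

noncomputable def col0 (i : Nat) : Nat := rdw 11 2047 col0_0 i
noncomputable def col1 (i : Nat) : Nat := rdw 11 2047 col1_0 i
noncomputable def col2 (i : Nat) : Nat := rdw 11 2047 col2_0 i
noncomputable def col3 (i : Nat) : Nat := rdw 11 2047 col3_0 i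
noncomputable def col4 (i : Nat) : Nat := rdw 11 2047 col4_0 i
noncomputable def col5 (i : Nat) : Nat := rdw 11 2047 col5_0 i
noncomputable def col6 (i : Nat) : Nat := rdw 11 2047 col6_0 i
noncomputable def col7 (i : Nat) : Nat := rdw 11 2047 col7_0 i
noncomputable def col8 (i : Nat) : Nat := rdw 11 2047 col8_0 i
noncomputable def col9 (i : Nat) : Nat := rdw 11 2047 col9_0 i
noncomputable def col10 (i : Nat) : Nat := rdw 11 2047 col10_0 i
noncomputable def col11 (i : Nat) : Nat := rdw 11 2047 col11_0 i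
noncomputable def tblF (i x : Nat) : Nat := @Bool.rec (fun _ => Nat) (@Bool.rec (fun _ => Nat) (@Bool.rec (fun _ => Nat) (col0 i) (@Bool.rec (fun _ => Nat) (col1 i) (col2 i) (Nat.ble 2 x)) (Nat.ble 1 x)) (@Bool.rec (fun _ => Nat) (col3 i) (@Bool.rec (fun _ => Nat) (col4 i) (col5 i) (Nat.ble 5 x)) (Nat.ble 4 x)) (Nat.ble 3 x)) (@Bool.rec (fun _ => Nat) (@Bool.rec (fun _ => Nat) (col6 i) (@Bool.rec (fun _ => Nat) (col7 i) (col8 i) (Nat.ble 8 x)) (Nat.ble 7 x)) (@Bool.rec (fun _ => Nat) (col9 i) (@Bool.rec (fun _ => Nat) (col10 i) (col11 i) (Nat.ble 11 x)) (Nat.ble 10 x)) (Nat.ble 9 x)) (Nat.ble 6 x)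

noncomputable def D : Log :=
  { k := 12, inv := PC3U62.invR, nR := 0, rBase := fun _ => 0, rLen := fun _ => 0, RR := fun _ => 0,
    M := 0, nB := 0, F := 0, src := fun _ => 0, lt := fun _ => 0, tgt := fun _ => 0, rho := fun _ => 0, rot := fun _ => 0,
    off := fun _ => 0, len := fun _ => 0, pf := fun _ => 0, pd := fun _ => 0 }

noncomputable def T : Tab :=
  { N := 2016, nameOf := fun _ => 0, tbl := tblF, finF := fun _ _ => 0, finD := fun _ _ => 0, cls := fun _ => 0 }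

def rw0 : List Nat := [0, 0]
def rw1 : List Nat := [2, 2, 2, 2, 2]
def rw2 : List Nat := [0, 2, 0, 2, 0, 2, 0, 2, 0, 2, 0, 2, 0, 2, 0, 2, 0, 2]
def rw3 : List Nat := [1, 3, 0, 2, 1, 3, 0, 2, 1, 3, 0, 2]
def rw4 : List Nat := [1, 3, 1, 3, 0, 2, 0, 2, 1, 3, 1, 3, 0, 2, 0, 2]
def rw5 : List Nat := [4, 4, 4]
def rw6 : List Nat := [5, 1, 4, 0]
def rw7 : List Nat := [5, 3, 4, 2]
def rw8 : List Nat := [6, 6]
def rw9 : List Nat := [0, 6, 0, 6, 0, 6]
def rw10 : List Nat := [0, 2, 0, 2, 4, 6, 0, 2, 6]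
def rw11 : List Nat := [8, 8, 8]
def rw12 : List Nat := [0, 2, 0, 2, 0, 2, 4, 6, 2, 0, 8, 2, 0, 3, 9, 0, 3]
def rw13 : List Nat := [0, 2, 0, 2, 0, 2, 0, 8, 4, 8, 2, 0, 3, 0, 3, 0, 2, 2, 11]
def rw14 : List Nat := [0, 2, 0, 2, 0, 2, 0, 3, 3, 0, 3, 4, 6, 2, 2, 6, 0, 3, 8, 6, 8, 5, 2, 6, 9, 3, 3]
def rw15 : List Nat := [10, 10, 10]
def rw16 : List Nat := [11, 1, 10, 0]
def rw17 : List Nat := [11, 3, 10, 2]
def rw18 : List Nat := [11, 5, 10, 4]
def rw19 : List Nat := [11, 7, 10, 6]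
def rw20 : List Nat := [11, 9, 10, 8]
def realLit : List (List Nat) := [rw0, rw1, rw2, rw3, rw4, rw5, rw6, rw7, rw8, rw9, rw10, rw11, rw12, rw13, rw14, rw15, rw16, rw17, rw18, rw19, rw20]
noncomputable def actR0 (i : Nat) : Nat := col1 (col1 (i))
theorem actR0_eq (i : Nat) : actR0 i = Tab.act T D rw0 i := rfl
noncomputable def actR1 (i : Nat) : Nat := col3 (col3 (col3 (col3 (col3 (i)))))
theorem actR1_eq (i : Nat) : actR1 i = Tab.act T D rw1 i := rfl
noncomputable def actR2 (i : Nat) : Nat := col1 (col3 (col1 (col3 (col1 (col3 (col1 (col3 (col1 (col3 (col1 (col3 (col1 (col3 (col1 (col3 (col1 (col3 (i))))))))))))))))))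
theorem actR2_eq (i : Nat) : actR2 i = Tab.act T D rw2 i := rfl
noncomputable def actR3 (i : Nat) : Nat := col0 (col2 (col1 (col3 (col0 (col2 (col1 (col3 (col0 (col2 (col1 (col3 (i))))))))))))
theorem actR3_eq (i : Nat) : actR3 i = Tab.act T D rw3 i := rfl
noncomputable def actR4 (i : Nat) : Nat := col0 (col2 (col0 (col2 (col1 (col3 (col1 (col3 (col0 (col2 (col0 (col2 (col1 (col3 (col1 (col3 (i))))))))))))))))
theorem actR4_eq (i : Nat) : actR4 i = Tab.act T D rw4 i := rfl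
noncomputable def actR5 (i : Nat) : Nat := col5 (col5 (col5 (i)))
theorem actR5_eq (i : Nat) : actR5 i = Tab.act T D rw5 i := rfl
noncomputable def actR6 (i : Nat) : Nat := col4 (col0 (col5 (col1 (i))))
theorem actR6_eq (i : Nat) : actR6 i = Tab.act T D rw6 i := rfl
noncomputable def actR7 (i : Nat) : Nat := col4 (col2 (col5 (col3 (i))))
theorem actR7_eq (i : Nat) : actR7 i = Tab.act T D rw7 i := rfl
noncomputable def actR8 (i : Nat) : Nat := col7 (col7 (i))
theorem actR8_eq (i : Nat) : actR8 i = Tab.act T D rw8 i := rfl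
noncomputable def actR9 (i : Nat) : Nat := col1 (col7 (col1 (col7 (col1 (col7 (i))))))
theorem actR9_eq (i : Nat) : actR9 i = Tab.act T D rw9 i := rfl
noncomputable def actR10 (i : Nat) : Nat := col1 (col3 (col1 (col3 (col5 (col7 (col1 (col3 (col7 (i)))))))))
theorem actR10_eq (i : Nat) : actR10 i = Tab.act T D rw10 i := rfl
noncomputable def actR11 (i : Nat) : Nat := col9 (col9 (col9 (i)))
theorem actR11_eq (i : Nat) : actR11 i = Tab.act T D rw11 i := rfl
noncomputable def actR12 (i : Nat) : Nat := col1 (col3 (col1 (col3 (col1 (col3 (col5 (col7 (col3 (col1 (col9 (col3 (col1 (col2 (col8 (col1 (col2 (i)))))))))))))))))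
theorem actR12_eq (i : Nat) : actR12 i = Tab.act T D rw12 i := rfl
noncomputable def actR13 (i : Nat) : Nat := col1 (col3 (col1 (col3 (col1 (col3 (col1 (col9 (col5 (col9 (col3 (col1 (col2 (col1 (col2 (col1 (col3 (col3 (col10 (i)))))))))))))))))))
theorem actR13_eq (i : Nat) : actR13 i = Tab.act T D rw13 i := rfl
noncomputable def actR14 (i : Nat) : Nat := col1 (col3 (col1 (col3 (col1 (col3 (col1 (col2 (col2 (col1 (col2 (col5 (col7 (col3 (col3 (col7 (col1 (col2 (col9 (col7 (col9 (col4 (col3 (col7 (col8 (col2 (col2 (i)))))))))))))))))))))))))))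
theorem actR14_eq (i : Nat) : actR14 i = Tab.act T D rw14 i := rfl
noncomputable def actR15 (i : Nat) : Nat := col11 (col11 (col11 (i)))
theorem actR15_eq (i : Nat) : actR15 i = Tab.act T D rw15 i := rfl
noncomputable def actR16 (i : Nat) : Nat := col10 (col0 (col11 (col1 (i))))
theorem actR16_eq (i : Nat) : actR16 i = Tab.act T D rw16 i := rfl
noncomputable def actR17 (i : Nat) : Nat := col10 (col2 (col11 (col3 (i))))
theorem actR17_eq (i : Nat) : actR17 i = Tab.act T D rw17 i := rfl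
noncomputable def actR18 (i : Nat) : Nat := col10 (col4 (col11 (col5 (i))))
theorem actR18_eq (i : Nat) : actR18 i = Tab.act T D rw18 i := rfl
noncomputable def actR19 (i : Nat) : Nat := col10 (col6 (col11 (col7 (i))))
theorem actR19_eq (i : Nat) : actR19 i = Tab.act T D rw19 i := rfl
noncomputable def actR20 (i : Nat) : Nat := col10 (col8 (col11 (col9 (i))))
theorem actR20_eq (i : Nat) : actR20 i = Tab.act T D rw20 i := rfl

end Cfsg.Agent.Lib.Helper4.TCD.C3U62R
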