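import Cfsg.Agent.Lib.Helper4.TC7
import Cfsg.Agent.Lib.Helper4.TCP_C48L34
import Cfsg.Agent.Lib.Helper4.TCD_C48L34B_D0

namespace Cfsg.Agent.Lib.Helper4.TCD.C48L34B

open Cfsg.Agent.Lib.Helper4.TC

set_option maxRecDepth 100000

noncomputable def Atab_s_1_3 (c : Nat) : Nat := @Bool.rec (fun _ => Nat) (Atab_1) (Atab_2) (Nat.ble 2 c)
noncomputable def Atab_s_0_3 (c : Nat) : Nat := @Bool.rec (fun _ => Nat) (Atab_0) (Atab_s_1_3 c) (Nat.ble 1 c)
noncomputable def Atab_s_3_5 (c : Nat) : Nat := @Bool.rec (fun _ => Nat) (Atab_3) (Atab_4) (Nat.ble 4 c)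
noncomputable def Atab_s_5_7 (c : Nat) : Nat := @Bool.rec (fun _ => Nat) (Atab_5) (Atab_6) (Nat.ble 6 c)
noncomputable def Atab_s_3_7 (c : Nat) : Nat := @Bool.rec (fun _ => Nat) (Atab_s_3_5 c) (Atab_s_5_7 c) (Nat.ble 5 c)
noncomputable def Atab_s_0_7 (c : Nat) : Nat := @Bool.rec (fun _ => Nat) (Atab_s_0_3 c) (Atab_s_3_7 c) (Nat.ble 3 c)
noncomputable def Atab_s_8_10 (c : Nat) : Nat := @Bool.rec (fun _ => Nat) (Atab_8) (Atab_9) (Nat.ble 9 c)
noncomputable def Atab_s_7_10 (c : Nat) : Nat := @Bool.rec (fun _ => Nat) (Atab_7) (Atab_s_8_10 c) (Nat.ble 8 c)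
noncomputable def Atab_s_10_12 (c : Nat) : Nat := @Bool.rec (fun _ => Nat) (Atab_10) (Atab_11) (Nat.ble 11 c)
noncomputable def Atab_s_12_14 (c : Nat) : Nat := @Bool.rec (fun _ => Nat) (Atab_12) (Atab_13) (Nat.ble 13 c)
noncomputable def Atab_s_10_14 (c : Nat) : Nat := @Bool.rec (fun _ => Nat) (Atab_s_10_12 c) (Atab_s_12_14 c) (Nat.ble 12 c)
noncomputable def Atab_s_7_14 (c : Nat) : Nat := @Bool.rec (fun _ => Nat) (Atab_s_7_10 c) (Atab_s_10_14 c) (Nat.ble 10 c)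
noncomputable def Atab_s_0_14 (c : Nat) : Nat := @Bool.rec (fun _ => Nat) (Atab_s_0_7 c) (Atab_s_7_14 c) (Nat.ble 7 c)
noncomputable def Atab (i : Nat) : Nat := rdw 32 4294967295 (Atab_s_0_14 (Nat.shiftRight i 11)) (Nat.land i 2047)
noncomputable def Btab_s_0_2 (c : Nat) : Nat := @Bool.rec (fun _ => Nat) (Btab_0) (Btab_1) (Nat.ble 1 c)
noncomputable def Btab_s_2_4 (c : Nat) : Nat := @Bool.rec (fun _ => Nat) (Btab_2) (Btab_3) (Nat.ble 3 c)
noncomputable def Btab_s_0_4 (c : Nat) : Nat := @Bool.rec (fun _ => Nat) (Btab_s_0_2 c) (Btab_s_2_4 c) (Nat.ble 2 c)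
noncomputable def Btab_s_4_6 (c : Nat) : Nat := @Bool.rec (fun _ => Nat) (Btab_4) (Btab_5) (Nat.ble 5 c)
noncomputable def Btab_s_7_9 (c : Nat) : Nat := @Bool.rec (fun _ => Nat) (Btab_7) (Btab_8) (Nat.ble 8 c)
noncomputable def Btab_s_6_9 (c : Nat) : Nat := @Bool.rec (fun _ => Nat) (Btab_6) (Btab_s_7_9 c) (Nat.ble 7 c)
noncomputable def Btab_s_4_9 (c : Nat) : Nat := @Bool.rec (fun _ => Nat) (Btab_s_4_6 c) (Btab_s_6_9 c) (Nat.ble 6 c)
noncomputable def Btab_s_0_9 (c : Nat) : Nat := @Bool.rec (fun _ => Nat) (Btab_s_0_4 c) (Btab_s_4_9 c) (Nat.ble 4 c)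
noncomputable def Btab (i : Nat) : Nat := rdw 35 34359738367 (Btab_s_0_9 (Nat.shiftRight i 11)) (Nat.land i 2047)
noncomputable def Ptab_s_0_2 (c : Nat) : Nat := @Bool.rec (fun _ => Nat) (Ptab_0) (Ptab_1) (Nat.ble 1 c)
noncomputable def Ptab_s_3_5 (c : Nat) : Nat := @Bool.rec (fun _ => Nat) (Ptab_3) (Ptab_4) (Nat.ble 4 c)
noncomputable def Ptab_s_2_5 (c : Nat) : Nat := @Bool.rec (fun _ => Nat) (Ptab_2) (Ptab_s_3_5 c) (Nat.ble 3 c)
noncomputable def Ptab_s_0_5 (c : Nat) : Nat := @Bool.rec (fun _ => Nat) (Ptab_s_0_2 c) (Ptab_s_2_5 c) (Nat.ble 2 c)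
noncomputable def Ptab_s_5_7 (c : Nat) : Nat := @Bool.rec (fun _ => Nat) (Ptab_5) (Ptab_6) (Nat.ble 6 c)
noncomputable def Ptab_s_8_10 (c : Nat) : Nat := @Bool.rec (fun _ => Nat) (Ptab_8) (Ptab_9) (Nat.ble 9 c)
noncomputable def Ptab_s_7_10 (c : Nat) : Nat := @Bool.rec (fun _ => Nat) (Ptab_7) (Ptab_s_8_10 c) (Nat.ble 8 c)
noncomputable def Ptab_s_5_10 (c : Nat) : Nat := @Bool.rec (fun _ => Nat) (Ptab_s_5_7 c) (Ptab_s_7_10 c) (Nat.ble 7 c)
noncomputable def Ptab_s_0_10 (c : Nat) : Nat := @Bool.rec (fun _ => Nat) (Ptab_s_0_5 c) (Ptab_s_5_10 c) (Nat.ble 5 c)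
noncomputable def Ptab_s_10_12 (c : Nat) : Nat := @Bool.rec (fun _ => Nat) (Ptab_10) (Ptab_11) (Nat.ble 11 c)
noncomputable def Ptab_s_13_15 (c : Nat) : Nat := @Bool.rec (fun _ => Nat) (Ptab_13) (Ptab_14) (Nat.ble 14 c)
noncomputable def Ptab_s_12_15 (c : Nat) : Nat := @Bool.rec (fun _ => Nat) (Ptab_12) (Ptab_s_13_15 c) (Nat.ble 13 c)
noncomputable def Ptab_s_10_15 (c : Nat) : Nat := @Bool.rec (fun _ => Nat) (Ptab_s_10_12 c) (Ptab_s_12_15 c) (Nat.ble 12 c)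
noncomputable def Ptab_s_15_17 (c : Nat) : Nat := @Bool.rec (fun _ => Nat) (Ptab_15) (Ptab_16) (Nat.ble 16 c)
noncomputable def Ptab_s_18_20 (c : Nat) : Nat := @Bool.rec (fun _ => Nat) (Ptab_18) (Ptab_19) (Nat.ble 19 c)
noncomputable def Ptab_s_17_20 (c : Nat) : Nat := @Bool.rec (fun _ => Nat) (Ptab_17) (Ptab_s_18_20 c) (Nat.ble 18 c)
noncomputable def Ptab_s_15_20 (c : Nat) : Nat := @Bool.rec (fun _ => Nat) (Ptab_s_15_17 c) (Ptab_s_17_20 c) (Nat.ble 17 c)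
noncomputable def Ptab_s_10_20 (c : Nat) : Nat := @Bool.rec (fun _ => Nat) (Ptab_s_10_15 c) (Ptab_s_15_20 c) (Nat.ble 15 c)
noncomputable def Ptab_s_0_20 (c : Nat) : Nat := @Bool.rec (fun _ => Nat) (Ptab_s_0_10 c) (Ptab_s_10_20 c) (Nat.ble 10 c)
noncomputable def Ptab (i : Nat) : Nat := rdw 16 65535 (Ptab_s_0_20 (Nat.shiftRight i 12)) (Nat.land i 4095)
noncomputable def RRtab (i : Nat) : Nat := rdw 4 15 RRtab_0 i
noncomputable def rBtab (i : Nat) : Nat := rdw 10 1023 rBtab_0 i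
noncomputable def rLtab (i : Nat) : Nat := rdw 6 63 rLtab_0 i
noncomputable def nameTab (i : Nat) : Nat := rdw 14 16383 nameTab_0 i
noncomputable def col0 (i : Nat) : Nat := rdw 9 511 col0_0 i
noncomputable def col1 (i : Nat) : Nat := rdw 9 511 col1_0 i
noncomputable def col2 (i : Nat) : Nat := rdw 9 511 col2_0 i
noncomputable def col3 (i : Nat) : Nat := rdw 9 511 col3_0 i
noncomputable def col4 (i : Nat) : Nat := rdw 9 511 col4_0 i
noncomputable def col5 (i : Nat) : Nat := rdw 9 511 col5_0 i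
noncomputable def col6 (i : Nat) : Nat := rdw 9 511 col6_0 i
noncomputable def col7 (i : Nat) : Nat := rdw 9 511 col7_0 i
noncomputable def finTab (i : Nat) : Nat := rdw 16 65535 finTab_0 i
noncomputable def clsTab_s_0_2 (c : Nat) : Nat := @Bool.rec (fun _ => Nat) (clsTab_0) (clsTab_1) (Nat.ble 1 c)
noncomputable def clsTab (i : Nat) : Nat := rdw 9 511 (clsTab_s_0_2 (Nat.shiftRight i 13)) (Nat.land i 8191)
noncomputable def oparTab (i : Nat) : Nat := rdw 9 511 oparTab_0 i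
noncomputable def olabTab (i : Nat) : Nat := rdw 2 3 olabTab_0 i
noncomputable def srcF (t : Nat) : Nat := Nat.land (Atab t) 16383
noncomputable def tgtF (t : Nat) : Nat := Nat.land (Nat.shiftRight (Atab t) 14) 16383
noncomputable def ltF (t : Nat) : Nat := Nat.shiftRight (Atab t) 28
noncomputable def rhoF (t : Nat) : Nat := Nat.land (Btab (Nat.sub t 9273)) 63
noncomputable def rotF (t : Nat) : Nat := Nat.land (Nat.shiftRight (Btab (Nat.sub t 9273)) 6) 63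
noncomputable def lenF (t : Nat) : Nat := Nat.land (Nat.shiftRight (Btab (Nat.sub t 9273)) 12) 63
noncomputable def offF (t : Nat) : Nat := Nat.shiftRight (Btab (Nat.sub t 9273)) 18
noncomputable def pfF (j : Nat) : Nat := Nat.shiftRight (Ptab j) 1
noncomputable def pdF (j : Nat) : Nat := Nat.land (Ptab j) 1
noncomputable def tblF (i x : Nat) : Nat := @Bool.rec (fun _ => Nat) (@Bool.rec (fun _ => Nat) (@Bool.rec (fun _ => Nat) (col0 i) (col1 i) (Nat.ble 1 x)) (@Bool.rec (fun _ => Nat) (col2 i) (col3 i) (Nat.ble 3 x)) (Nat.ble 2 x)) (@Bool.rec (fun _ => Nat) (@Bool.rec (fun _ => Nat) (col4 i) (col5 i) (Nat.ble 5 x)) (@Bool.rec (fun _ => Nat) (col6 i) (col7 i) (Nat.ble 7 x)) (Nat.ble 6 x)) (Nat.ble 4 x)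
noncomputable def finE (i x : Nat) : Nat := finTab (Nat.add (Nat.mul i 8) x)
noncomputable def finFF (i x : Nat) : Nat := Nat.shiftRight (finE i x) 1
noncomputable def finDF (i x : Nat) : Nat := Nat.land (finE i x) 1

noncomputable def D : Log :=
  { k := 8, inv := invE 8 PC48L34.invR, nR := 48, rBase := rBtab, rLen := rLtab, RR := RRtab,
    M := 9267, nB := 6, F := 27483, src := srcF, lt := ltF, tgt := tgtF, rho := rhoF, rot := rotF,
    off := offF, len := lenF, pf := pfF, pd := pdF }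

noncomputable def T : Tab :=
  { N := 448, nameOf := nameTab, tbl := tblF, finF := finFF, finD := finDF, cls := clsTab }

def subs : List (List Nat) := [
  ([0] ++ (List.replicate 5 [4]).flatten ++ [7]),
  ([2, 0, 2, 0, 3, 0, 2] ++ (List.replicate 5 [5]).flatten ++ [6, 6]),
  [4, 4] ]

def rw0 : List Nat := [0, 2, 0, 2, 0, 2, 0, 2, 0, 2, 0, 2, 0, 2]
def rw1 : List Nat := [0, 2, 2, 0, 2, 2, 0, 2, 2, 0, 2, 2, 0, 2, 2]
def rw2 : List Nat := [0, 2, 0, 2, 2, 0, 2, 0, 2, 2, 0, 2, 0, 2, 2, 0, 2, 0, 2, 2, 0, 2, 0, 2, 2, 0, 2, 0, 2, 2, 0, 2, 0, 2, 2, 7]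
def rw3 : List Nat := [0, 2, 0, 2, 0, 2, 2, 0, 3, 0, 2, 0, 2, 0, 2, 2, 0, 3, 0, 2, 0, 2, 0, 2, 2, 0, 3, 0, 2, 0, 2, 0, 2, 2, 0, 3, 0, 2, 0, 2, 0, 2, 2, 0, 3, 5]
def rw4 : List Nat := [0, 0, 7, 7, 4, 4, 4, 4]
def rw5 : List Nat := [2, 2, 2, 2, 7, 7, 5, 5, 5, 5]
def rw6 : List Nat := [4, 4, 4, 4, 4, 4, 4, 4, 4, 4, 4, 4]
def rw7 : List Nat := [6, 6, 6, 6]
def rw8 : List Nat := [5, 1, 4, 0]
def rw9 : List Nat := [5, 3, 4, 2]
def rw10 : List Nat := [7, 1, 6, 0]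
def rw11 : List Nat := [7, 3, 6, 2]
def rw12 : List Nat := [5, 7, 4, 6]
def realLit : List (List Nat) := [rw0, rw1, rw2, rw3, rw4, rw5, rw6, rw7, rw8, rw9, rw10, rw11, rw12]
noncomputable def actR0 (i : Nat) : Nat := col1 (col3 (col1 (col3 (col1 (col3 (col1 (col3 (col1 (col3 (col1 (col3 (col1 (col3 (i))))))))))))))
theorem actR0_eq (i : Nat) : actR0 i = Tab.act T D rw0 i := rfl
noncomputable def actR1 (i : Nat) : Nat := col1 (col3 (col3 (col1 (col3 (col3 (col1 (col3 (col3 (col1 (col3 (col3 (col1 (col3 (col3 (i)))))))))))))))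
theorem actR1_eq (i : Nat) : actR1 i = Tab.act T D rw1 i := rfl
noncomputable def actR2 (i : Nat) : Nat := col1 (col3 (col1 (col3 (col3 (col1 (col3 (col1 (col3 (col3 (col1 (col3 (col1 (col3 (col3 (col1 (col3 (col1 (col3 (col3 (col1 (col3 (col1 (col3 (col3 (col1 (col3 (col1 (col3 (col3 (col1 (col3 (col1 (col3 (col3 (col6 (i))))))))))))))))))))))))))))))))))))
theorem actR2_eq (i : Nat) : actR2 i = Tab.act T D rw2 i := rfl
noncomputable def actR3 (i : Nat) : Nat := col1 (col3 (col1 (col3 (col1 (col3 (col3 (col1 (col2 (col1 (col3 (col1 (col3 (col1 (col3 (col3 (col1 (col2 (col1 (col3 (col1 (col3 (col1 (col3 (col3 (col1 (col2 (col1 (col3 (col1 (col3 (col1 (col3 (col3 (col1 (col2 (col1 (col3 (col1 (col3 (col1 (col3 (col3 (col1 (col2 (col4 (i))))))))))))))))))))))))))))))))))))))))))))))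
theorem actR3_eq (i : Nat) : actR3 i = Tab.act T D rw3 i := rfl
noncomputable def actR4 (i : Nat) : Nat := col1 (col1 (col6 (col6 (col5 (col5 (col5 (col5 (i))))))))
theorem actR4_eq (i : Nat) : actR4 i = Tab.act T D rw4 i := rfl
noncomputable def actR5 (i : Nat) : Nat := col3 (col3 (col3 (col3 (col6 (col6 (col4 (col4 (col4 (col4 (i))))))))))
theorem actR5_eq (i : Nat) : actR5 i = Tab.act T D rw5 i := rfl
noncomputable def actR6 (i : Nat) : Nat := col5 (col5 (col5 (col5 (col5 (col5 (col5 (col5 (col5 (col5 (col5 (col5 (i))))))))))))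
theorem actR6_eq (i : Nat) : actR6 i = Tab.act T D rw6 i := rfl
noncomputable def actR7 (i : Nat) : Nat := col7 (col7 (col7 (col7 (i))))
theorem actR7_eq (i : Nat) : actR7 i = Tab.act T D rw7 i := rfl
noncomputable def actR8 (i : Nat) : Nat := col4 (col0 (col5 (col1 (i))))
theorem actR8_eq (i : Nat) : actR8 i = Tab.act T D rw8 i := rfl
noncomputable def actR9 (i : Nat) : Nat := col4 (col2 (col5 (col3 (i))))
theorem actR9_eq (i : Nat) : actR9 i = Tab.act T D rw9 i := rfl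
noncomputable def actR10 (i : Nat) : Nat := col6 (col0 (col7 (col1 (i))))
theorem actR10_eq (i : Nat) : actR10 i = Tab.act T D rw10 i := rfl
noncomputable def actR11 (i : Nat) : Nat := col6 (col2 (col7 (col3 (i))))
theorem actR11_eq (i : Nat) : actR11 i = Tab.act T D rw11 i := rfl
noncomputable def actR12 (i : Nat) : Nat := col4 (col6 (col5 (col7 (i))))
theorem actR12_eq (i : Nat) : actR12 i = Tab.act T D rw12 i := rfl

end Cfsg.Agent.Lib.Helper4.TCD.C48L34B
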