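import Cfsg.Agent.Lib.Helper4.TC14
import Cfsg.Agent.Lib.Helper4.TCP_C48L34
import Cfsg.Agent.Lib.Helper4.TCD_C48L34R_D0

namespace Cfsg.Agent.Lib.Helper4.TCD.C48L34R

open Cfsg.Agent.Lib.Helper4.TC

set_option maxRecDepth 100000

noncomputable def col0_s_1_3 (c : Nat) : Nat := @Bool.rec (fun _ => Nat) (col0_1) (col0_2) (Nat.ble 2 c)
noncomputable def col0_s_0_3 (c : Nat) : Nat := @Bool.rec (fun _ => Nat) (col0_0) (col0_s_1_3 c) (Nat.ble 1 c)
noncomputable def col0_s_4_6 (c : Nat) : Nat := @Bool.rec (fun _ => Nat) (col0_4) (col0_5) (Nat.ble 5 c)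
noncomputable def col0_s_3_6 (c : Nat) : Nat := @Bool.rec (fun _ => Nat) (col0_3) (col0_s_4_6 c) (Nat.ble 4 c)
noncomputable def col0_s_0_6 (c : Nat) : Nat := @Bool.rec (fun _ => Nat) (col0_s_0_3 c) (col0_s_3_6 c) (Nat.ble 3 c)
noncomputable def col0_s_7_9 (c : Nat) : Nat := @Bool.rec (fun _ => Nat) (col0_7) (col0_8) (Nat.ble 8 c)
noncomputable def col0_s_6_9 (c : Nat) : Nat := @Bool.rec (fun _ => Nat) (col0_6) (col0_s_7_9 c) (Nat.ble 7 c)
noncomputable def col0_s_10_12 (c : Nat) : Nat := @Bool.rec (fun _ => Nat) (col0_10) (col0_11) (Nat.ble 11 c)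
noncomputable def col0_s_9_12 (c : Nat) : Nat := @Bool.rec (fun _ => Nat) (col0_9) (col0_s_10_12 c) (Nat.ble 10 c)
noncomputable def col0_s_6_12 (c : Nat) : Nat := @Bool.rec (fun _ => Nat) (col0_s_6_9 c) (col0_s_9_12 c) (Nat.ble 9 c)
noncomputable def col0_s_0_12 (c : Nat) : Nat := @Bool.rec (fun _ => Nat) (col0_s_0_6 c) (col0_s_6_12 c) (Nat.ble 6 c)
noncomputable def col0 (i : Nat) : Nat := rdw 16 65535 (col0_s_0_12 (Nat.shiftRight i 12)) (Nat.land i 4095)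
noncomputable def col1_s_1_3 (c : Nat) : Nat := @Bool.rec (fun _ => Nat) (col1_1) (col1_2) (Nat.ble 2 c)
noncomputable def col1_s_0_3 (c : Nat) : Nat := @Bool.rec (fun _ => Nat) (col1_0) (col1_s_1_3 c) (Nat.ble 1 c)
noncomputable def col1_s_4_6 (c : Nat) : Nat := @Bool.rec (fun _ => Nat) (col1_4) (col1_5) (Nat.ble 5 c)
noncomputable def col1_s_3_6 (c : Nat) : Nat := @Bool.rec (fun _ => Nat) (col1_3) (col1_s_4_6 c) (Nat.ble 4 c)
noncomputable def col1_s_0_6 (c : Nat) : Nat := @Bool.rec (fun _ => Nat) (col1_s_0_3 c) (col1_s_3_6 c) (Nat.ble 3 c)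
noncomputable def col1_s_7_9 (c : Nat) : Nat := @Bool.rec (fun _ => Nat) (col1_7) (col1_8) (Nat.ble 8 c)
noncomputable def col1_s_6_9 (c : Nat) : Nat := @Bool.rec (fun _ => Nat) (col1_6) (col1_s_7_9 c) (Nat.ble 7 c)
noncomputable def col1_s_10_12 (c : Nat) : Nat := @Bool.rec (fun _ => Nat) (col1_10) (col1_11) (Nat.ble 11 c)
noncomputable def col1_s_9_12 (c : Nat) : Nat := @Bool.rec (fun _ => Nat) (col1_9) (col1_s_10_12 c) (Nat.ble 10 c)
noncomputable def col1_s_6_12 (c : Nat) : Nat := @Bool.rec (fun _ => Nat) (col1_s_6_9 c) (col1_s_9_12 c) (Nat.ble 9 c)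
noncomputable def col1_s_0_12 (c : Nat) : Nat := @Bool.rec (fun _ => Nat) (col1_s_0_6 c) (col1_s_6_12 c) (Nat.ble 6 c)
noncomputable def col1 (i : Nat) : Nat := rdw 16 65535 (col1_s_0_12 (Nat.shiftRight i 12)) (Nat.land i 4095)
noncomputable def col2_s_1_3 (c : Nat) : Nat := @Bool.rec (fun _ => Nat) (col2_1) (col2_2) (Nat.ble 2 c)
noncomputable def col2_s_0_3 (c : Nat) : Nat := @Bool.rec (fun _ => Nat) (col2_0) (col2_s_1_3 c) (Nat.ble 1 c)
noncomputable def col2_s_4_6 (c : Nat) : Nat := @Bool.rec (fun _ => Nat) (col2_4) (col2_5) (Nat.ble 5 c)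
noncomputable def col2_s_3_6 (c : Nat) : Nat := @Bool.rec (fun _ => Nat) (col2_3) (col2_s_4_6 c) (Nat.ble 4 c)
noncomputable def col2_s_0_6 (c : Nat) : Nat := @Bool.rec (fun _ => Nat) (col2_s_0_3 c) (col2_s_3_6 c) (Nat.ble 3 c)
noncomputable def col2_s_7_9 (c : Nat) : Nat := @Bool.rec (fun _ => Nat) (col2_7) (col2_8) (Nat.ble 8 c)
noncomputable def col2_s_6_9 (c : Nat) : Nat := @Bool.rec (fun _ => Nat) (col2_6) (col2_s_7_9 c) (Nat.ble 7 c)
noncomputable def col2_s_10_12 (c : Nat) : Nat := @Bool.rec (fun _ => Nat) (col2_10) (col2_11) (Nat.ble 11 c)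
noncomputable def col2_s_9_12 (c : Nat) : Nat := @Bool.rec (fun _ => Nat) (col2_9) (col2_s_10_12 c) (Nat.ble 10 c)
noncomputable def col2_s_6_12 (c : Nat) : Nat := @Bool.rec (fun _ => Nat) (col2_s_6_9 c) (col2_s_9_12 c) (Nat.ble 9 c)
noncomputable def col2_s_0_12 (c : Nat) : Nat := @Bool.rec (fun _ => Nat) (col2_s_0_6 c) (col2_s_6_12 c) (Nat.ble 6 c)
noncomputable def col2 (i : Nat) : Nat := rdw 16 65535 (col2_s_0_12 (Nat.shiftRight i 12)) (Nat.land i 4095)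
noncomputable def col3_s_1_3 (c : Nat) : Nat := @Bool.rec (fun _ => Nat) (col3_1) (col3_2) (Nat.ble 2 c)
noncomputable def col3_s_0_3 (c : Nat) : Nat := @Bool.rec (fun _ => Nat) (col3_0) (col3_s_1_3 c) (Nat.ble 1 c)
noncomputable def col3_s_4_6 (c : Nat) : Nat := @Bool.rec (fun _ => Nat) (col3_4) (col3_5) (Nat.ble 5 c)
noncomputable def col3_s_3_6 (c : Nat) : Nat := @Bool.rec (fun _ => Nat) (col3_3) (col3_s_4_6 c) (Nat.ble 4 c)
noncomputable def col3_s_0_6 (c : Nat) : Nat := @Bool.rec (fun _ => Nat) (col3_s_0_3 c) (col3_s_3_6 c) (Nat.ble 3 c)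
noncomputable def col3_s_7_9 (c : Nat) : Nat := @Bool.rec (fun _ => Nat) (col3_7) (col3_8) (Nat.ble 8 c)
noncomputable def col3_s_6_9 (c : Nat) : Nat := @Bool.rec (fun _ => Nat) (col3_6) (col3_s_7_9 c) (Nat.ble 7 c)
noncomputable def col3_s_10_12 (c : Nat) : Nat := @Bool.rec (fun _ => Nat) (col3_10) (col3_11) (Nat.ble 11 c)
noncomputable def col3_s_9_12 (c : Nat) : Nat := @Bool.rec (fun _ => Nat) (col3_9) (col3_s_10_12 c) (Nat.ble 10 c)
noncomputable def col3_s_6_12 (c : Nat) : Nat := @Bool.rec (fun _ => Nat) (col3_s_6_9 c) (col3_s_9_12 c) (Nat.ble 9 c)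
noncomputable def col3_s_0_12 (c : Nat) : Nat := @Bool.rec (fun _ => Nat) (col3_s_0_6 c) (col3_s_6_12 c) (Nat.ble 6 c)
noncomputable def col3 (i : Nat) : Nat := rdw 16 65535 (col3_s_0_12 (Nat.shiftRight i 12)) (Nat.land i 4095)
noncomputable def col4_s_1_3 (c : Nat) : Nat := @Bool.rec (fun _ => Nat) (col4_1) (col4_2) (Nat.ble 2 c)
noncomputable def col4_s_0_3 (c : Nat) : Nat := @Bool.rec (fun _ => Nat) (col4_0) (col4_s_1_3 c) (Nat.ble 1 c)
noncomputable def col4_s_4_6 (c : Nat) : Nat := @Bool.rec (fun _ => Nat) (col4_4) (col4_5) (Nat.ble 5 c)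
noncomputable def col4_s_3_6 (c : Nat) : Nat := @Bool.rec (fun _ => Nat) (col4_3) (col4_s_4_6 c) (Nat.ble 4 c)
noncomputable def col4_s_0_6 (c : Nat) : Nat := @Bool.rec (fun _ => Nat) (col4_s_0_3 c) (col4_s_3_6 c) (Nat.ble 3 c)
noncomputable def col4_s_7_9 (c : Nat) : Nat := @Bool.rec (fun _ => Nat) (col4_7) (col4_8) (Nat.ble 8 c)
noncomputable def col4_s_6_9 (c : Nat) : Nat := @Bool.rec (fun _ => Nat) (col4_6) (col4_s_7_9 c) (Nat.ble 7 c)
noncomputable def col4_s_10_12 (c : Nat) : Nat := @Bool.rec (fun _ => Nat) (col4_10) (col4_11) (Nat.ble 11 c)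
noncomputable def col4_s_9_12 (c : Nat) : Nat := @Bool.rec (fun _ => Nat) (col4_9) (col4_s_10_12 c) (Nat.ble 10 c)
noncomputable def col4_s_6_12 (c : Nat) : Nat := @Bool.rec (fun _ => Nat) (col4_s_6_9 c) (col4_s_9_12 c) (Nat.ble 9 c)
noncomputable def col4_s_0_12 (c : Nat) : Nat := @Bool.rec (fun _ => Nat) (col4_s_0_6 c) (col4_s_6_12 c) (Nat.ble 6 c)
noncomputable def col4 (i : Nat) : Nat := rdw 16 65535 (col4_s_0_12 (Nat.shiftRight i 12)) (Nat.land i 4095)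
noncomputable def col5_s_1_3 (c : Nat) : Nat := @Bool.rec (fun _ => Nat) (col5_1) (col5_2) (Nat.ble 2 c)
noncomputable def col5_s_0_3 (c : Nat) : Nat := @Bool.rec (fun _ => Nat) (col5_0) (col5_s_1_3 c) (Nat.ble 1 c)
noncomputable def col5_s_4_6 (c : Nat) : Nat := @Bool.rec (fun _ => Nat) (col5_4) (col5_5) (Nat.ble 5 c)
noncomputable def col5_s_3_6 (c : Nat) : Nat := @Bool.rec (fun _ => Nat) (col5_3) (col5_s_4_6 c) (Nat.ble 4 c)
noncomputable def col5_s_0_6 (c : Nat) : Nat := @Bool.rec (fun _ => Nat) (col5_s_0_3 c) (col5_s_3_6 c) (Nat.ble 3 c)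
noncomputable def col5_s_7_9 (c : Nat) : Nat := @Bool.rec (fun _ => Nat) (col5_7) (col5_8) (Nat.ble 8 c)
noncomputable def col5_s_6_9 (c : Nat) : Nat := @Bool.rec (fun _ => Nat) (col5_6) (col5_s_7_9 c) (Nat.ble 7 c)
noncomputable def col5_s_10_12 (c : Nat) : Nat := @Bool.rec (fun _ => Nat) (col5_10) (col5_11) (Nat.ble 11 c)
noncomputable def col5_s_9_12 (c : Nat) : Nat := @Bool.rec (fun _ => Nat) (col5_9) (col5_s_10_12 c) (Nat.ble 10 c)
noncomputable def col5_s_6_12 (c : Nat) : Nat := @Bool.rec (fun _ => Nat) (col5_s_6_9 c) (col5_s_9_12 c) (Nat.ble 9 c)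
noncomputable def col5_s_0_12 (c : Nat) : Nat := @Bool.rec (fun _ => Nat) (col5_s_0_6 c) (col5_s_6_12 c) (Nat.ble 6 c)
noncomputable def col5 (i : Nat) : Nat := rdw 16 65535 (col5_s_0_12 (Nat.shiftRight i 12)) (Nat.land i 4095)
noncomputable def col6_s_1_3 (c : Nat) : Nat := @Bool.rec (fun _ => Nat) (col6_1) (col6_2) (Nat.ble 2 c)
noncomputable def col6_s_0_3 (c : Nat) : Nat := @Bool.rec (fun _ => Nat) (col6_0) (col6_s_1_3 c) (Nat.ble 1 c)
noncomputable def col6_s_4_6 (c : Nat) : Nat := @Bool.rec (fun _ => Nat) (col6_4) (col6_5) (Nat.ble 5 c)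
noncomputable def col6_s_3_6 (c : Nat) : Nat := @Bool.rec (fun _ => Nat) (col6_3) (col6_s_4_6 c) (Nat.ble 4 c)
noncomputable def col6_s_0_6 (c : Nat) : Nat := @Bool.rec (fun _ => Nat) (col6_s_0_3 c) (col6_s_3_6 c) (Nat.ble 3 c)
noncomputable def col6_s_7_9 (c : Nat) : Nat := @Bool.rec (fun _ => Nat) (col6_7) (col6_8) (Nat.ble 8 c)
noncomputable def col6_s_6_9 (c : Nat) : Nat := @Bool.rec (fun _ => Nat) (col6_6) (col6_s_7_9 c) (Nat.ble 7 c)
noncomputable def col6_s_10_12 (c : Nat) : Nat := @Bool.rec (fun _ => Nat) (col6_10) (col6_11) (Nat.ble 11 c)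
noncomputable def col6_s_9_12 (c : Nat) : Nat := @Bool.rec (fun _ => Nat) (col6_9) (col6_s_10_12 c) (Nat.ble 10 c)
noncomputable def col6_s_6_12 (c : Nat) : Nat := @Bool.rec (fun _ => Nat) (col6_s_6_9 c) (col6_s_9_12 c) (Nat.ble 9 c)
noncomputable def col6_s_0_12 (c : Nat) : Nat := @Bool.rec (fun _ => Nat) (col6_s_0_6 c) (col6_s_6_12 c) (Nat.ble 6 c)
noncomputable def col6 (i : Nat) : Nat := rdw 16 65535 (col6_s_0_12 (Nat.shiftRight i 12)) (Nat.land i 4095)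
noncomputable def col7_s_1_3 (c : Nat) : Nat := @Bool.rec (fun _ => Nat) (col7_1) (col7_2) (Nat.ble 2 c)
noncomputable def col7_s_0_3 (c : Nat) : Nat := @Bool.rec (fun _ => Nat) (col7_0) (col7_s_1_3 c) (Nat.ble 1 c)
noncomputable def col7_s_4_6 (c : Nat) : Nat := @Bool.rec (fun _ => Nat) (col7_4) (col7_5) (Nat.ble 5 c)
noncomputable def col7_s_3_6 (c : Nat) : Nat := @Bool.rec (fun _ => Nat) (col7_3) (col7_s_4_6 c) (Nat.ble 4 c)
noncomputable def col7_s_0_6 (c : Nat) : Nat := @Bool.rec (fun _ => Nat) (col7_s_0_3 c) (col7_s_3_6 c) (Nat.ble 3 c)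
noncomputable def col7_s_7_9 (c : Nat) : Nat := @Bool.rec (fun _ => Nat) (col7_7) (col7_8) (Nat.ble 8 c)
noncomputable def col7_s_6_9 (c : Nat) : Nat := @Bool.rec (fun _ => Nat) (col7_6) (col7_s_7_9 c) (Nat.ble 7 c)
noncomputable def col7_s_10_12 (c : Nat) : Nat := @Bool.rec (fun _ => Nat) (col7_10) (col7_11) (Nat.ble 11 c)
noncomputable def col7_s_9_12 (c : Nat) : Nat := @Bool.rec (fun _ => Nat) (col7_9) (col7_s_10_12 c) (Nat.ble 10 c)
noncomputable def col7_s_6_12 (c : Nat) : Nat := @Bool.rec (fun _ => Nat) (col7_s_6_9 c) (col7_s_9_12 c) (Nat.ble 9 c)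
noncomputable def col7_s_0_12 (c : Nat) : Nat := @Bool.rec (fun _ => Nat) (col7_s_0_6 c) (col7_s_6_12 c) (Nat.ble 6 c)
noncomputable def col7 (i : Nat) : Nat := rdw 16 65535 (col7_s_0_12 (Nat.shiftRight i 12)) (Nat.land i 4095)
noncomputable def tblF (i x : Nat) : Nat := @Bool.rec (fun _ => Nat) (@Bool.rec (fun _ => Nat) (@Bool.rec (fun _ => Nat) (col0 i) (col1 i) (Nat.ble 1 x)) (@Bool.rec (fun _ => Nat) (col2 i) (col3 i) (Nat.ble 3 x)) (Nat.ble 2 x)) (@Bool.rec (fun _ => Nat) (@Bool.rec (fun _ => Nat) (col4 i) (col5 i) (Nat.ble 5 x)) (@Bool.rec (fun _ => Nat) (col6 i) (col7 i) (Nat.ble 7 x)) (Nat.ble 6 x)) (Nat.ble 4 x)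

noncomputable def D : Log :=
  { k := 8, inv := PC48L34.invR, nR := 0, rBase := fun _ => 0, rLen := fun _ => 0, RR := fun _ => 0,
    M := 0, nB := 0, F := 0, src := fun _ => 0, lt := fun _ => 0, tgt := fun _ => 0, rho := fun _ => 0, rot := fun _ => 0,
    off := fun _ => 0, len := fun _ => 0, pf := fun _ => 0, pd := fun _ => 0 }

noncomputable def T : Tab :=
  { N := 46080, nameOf := fun _ => 0, tbl := tblF, finF := fun _ _ => 0, finD := fun _ _ => 0, cls := fun _ => 0 }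

def rw0 : List Nat := [0, 2, 0, 2, 0, 2, 0, 2, 0, 2, 0, 2, 0, 2]
def rw1 : List Nat := [0, 2, 2, 0, 2, 2, 0, 2, 2, 0, 2, 2, 0, 2, 2]
def rw2 : List Nat := [0, 2, 0, 2, 2, 0, 2, 0, 2, 2, 0, 2, 0, 2, 2, 0, 2, 0, 2, 2, 0, 2, 0, 2, 2, 0, 2, 0, 2, 2, 0, 2, 0, 2, 2, 7]
def rw3 : List Nat := [0, 2, 0, 2, 0, 2, 2, 0, 3, 0, 2, 0, 2, 0, 2, 2, 0, 3, 0, 2, 0, 2, 0, 2, 2, 0, 3, 0, 2, 0, 2, 0, 2, 2, 0, 3, 0, 2, 0, 2, 0, 2, 2, 0, 3, 5]
def rw4 : List Nat := [0, 0, 7, 7, 4, 4, 4, 4]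
def rw5 : List Nat := [2, 2, 2, 2, 7, 7, 5, 5, 5, 5]
def rw6 : List Nat := [4, 4, 4, 4, 4, 4, 4, 4, 4, 4, 4, 4]
def rw7 : List Nat := [6, 6, 6, 6]
def rw8 : List Nat := [5, 1, 4, 0]
def rw9 : List Nat := [5, 3, 4, 2]
def rw10 : List Nat := [7, 1, 6, 0]
def rw11 : List Nat := [7, 3, 6, 2]
def rw12 : List Nat := [5, 7, 4, 6]
def realLit : List (List Nat) := [rw0, rw1, rw2, rw3, rw4, rw5, rw6, rw7, rw8, rw9, rw10, rw11, rw12]
noncomputable def actR0 (i : Nat) : Nat := col1 (col3 (col1 (col3 (col1 (col3 (col1 (col3 (col1 (col3 (col1 (col3 (col1 (col3 (i))))))))))))))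
theorem actR0_eq (i : Nat) : actR0 i = Tab.act T D rw0 i := rfl
noncomputable def actR1 (i : Nat) : Nat := col1 (col3 (col3 (col1 (col3 (col3 (col1 (col3 (col3 (col1 (col3 (col3 (col1 (col3 (col3 (i)))))))))))))))
theorem actR1_eq (i : Nat) : actR1 i = Tab.act T D rw1 i := rfl
noncomputable def actR2 (i : Nat) : Nat := col1 (col3 (col1 (col3 (col3 (col1 (col3 (col1 (col3 (col3 (col1 (col3 (col1 (col3 (col3 (col1 (col3 (col1 (col3 (col3 (col1 (col3 (col1 (col3 (col3 (col1 (col3 (col1 (col3 (col3 (col1 (col3 (col1 (col3 (col3 (col6 (i))))))))))))))))))))))))))))))))))))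
theorem actR2_eq (i : Nat) : actR2 i = Tab.act T D rw2 i := rfl
noncomputable def actR3 (i : Nat) : Nat := col1 (col3 (col1 (col3 (col1 (col3 (col3 (col1 (col2 (col1 (col3 (col1 (col3 (col1 (col3 (col3 (col1 (col2 (col1 (col3 (col1 (col3 (col1 (col3 (col3 (col1 (col2 (col1 (col3 (col1 (col3 (col1 (col3 (col3 (col1 (col2 (col1 (col3 (col1 (col3 (col1 (col3 (col3 (col1 (col2 (col4 (i))))))))))))))))))))))))))))))))))))))))))))))
theorem actR3_eq (i : Nat) : actR3 i = Tab.act T D rw3 i := rfl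
noncomputable def actR4 (i : Nat) : Nat := col1 (col1 (col6 (col6 (col5 (col5 (col5 (col5 (i))))))))
theorem actR4_eq (i : Nat) : actR4 i = Tab.act T D rw4 i := rfl
noncomputable def actR5 (i : Nat) : Nat := col3 (col3 (col3 (col3 (col6 (col6 (col4 (col4 (col4 (col4 (i))))))))))
theorem actR5_eq (i : Nat) : actR5 i = Tab.act T D rw5 i := rfl
noncomputable def actR6 (i : Nat) : Nat := col5 (col5 (col5 (col5 (col5 (col5 (col5 (col5 (col5 (col5 (col5 (col5 (i))))))))))))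
theorem actR6_eq (i : Nat) : actR6 i = Tab.act T D rw6 i := rfl
noncomputable def actR7 (i : Nat) : Nat := col7 (col7 (col7 (col7 (i))))
theorem actR7_eq (i : Nat) : actR7 i = Tab.act T D rw7 i := rfl
noncomputable def actR8 (i : Nat) : Nat := col4 (col0 (col5 (col1 (i))))
theorem actR8_eq (i : Nat) : actR8 i = Tab.act T D rw8 i := rfl
noncomputable def actR9 (i : Nat) : Nat := col4 (col2 (col5 (col3 (i))))
theorem actR9_eq (i : Nat) : actR9 i = Tab.act T D rw9 i := rfl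
noncomputable def actR10 (i : Nat) : Nat := col6 (col0 (col7 (col1 (i))))
theorem actR10_eq (i : Nat) : actR10 i = Tab.act T D rw10 i := rfl
noncomputable def actR11 (i : Nat) : Nat := col6 (col2 (col7 (col3 (i))))
theorem actR11_eq (i : Nat) : actR11 i = Tab.act T D rw11 i := rfl
noncomputable def actR12 (i : Nat) : Nat := col4 (col6 (col5 (col7 (i))))
theorem actR12_eq (i : Nat) : actR12 i = Tab.act T D rw12 i := rfl

end Cfsg.Agent.Lib.Helper4.TCD.C48L34R
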