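import Cfsg.Agent.Lib.Helper4.TC11
import Cfsg.Agent.Lib.Helper4.TCD_C48L34R_Acc
import Cfsg.Agent.Lib.Helper4.TCD_C48L34L_D0

namespace Cfsg.Agent.Lib.Helper4.TCD.C48L34L

open Cfsg.Agent.Lib.Helper4.TC Cfsg.Agent.Lib.Helper4.TCD.C48L34R

set_option maxRecDepth 100000

noncomputable def st8_s_1_3 (c : Nat) : Nat := @Bool.rec (fun _ => Nat) (st8_1) (st8_2) (Nat.ble 2 c)
noncomputable def st8_s_0_3 (c : Nat) : Nat := @Bool.rec (fun _ => Nat) (st8_0) (st8_s_1_3 c) (Nat.ble 1 c)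
noncomputable def st8_s_4_6 (c : Nat) : Nat := @Bool.rec (fun _ => Nat) (st8_4) (st8_5) (Nat.ble 5 c)
noncomputable def st8_s_3_6 (c : Nat) : Nat := @Bool.rec (fun _ => Nat) (st8_3) (st8_s_4_6 c) (Nat.ble 4 c)
noncomputable def st8_s_0_6 (c : Nat) : Nat := @Bool.rec (fun _ => Nat) (st8_s_0_3 c) (st8_s_3_6 c) (Nat.ble 3 c)
noncomputable def st8_s_7_9 (c : Nat) : Nat := @Bool.rec (fun _ => Nat) (st8_7) (st8_8) (Nat.ble 8 c)
noncomputable def st8_s_6_9 (c : Nat) : Nat := @Bool.rec (fun _ => Nat) (st8_6) (st8_s_7_9 c) (Nat.ble 7 c)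
noncomputable def st8_s_10_12 (c : Nat) : Nat := @Bool.rec (fun _ => Nat) (st8_10) (st8_11) (Nat.ble 11 c)
noncomputable def st8_s_9_12 (c : Nat) : Nat := @Bool.rec (fun _ => Nat) (st8_9) (st8_s_10_12 c) (Nat.ble 10 c)
noncomputable def st8_s_6_12 (c : Nat) : Nat := @Bool.rec (fun _ => Nat) (st8_s_6_9 c) (st8_s_9_12 c) (Nat.ble 9 c)
noncomputable def st8_s_0_12 (c : Nat) : Nat := @Bool.rec (fun _ => Nat) (st8_s_0_6 c) (st8_s_6_12 c) (Nat.ble 6 c)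
noncomputable def st8 (i : Nat) : Nat := rdw 16 65535 (st8_s_0_12 (Nat.shiftRight i 12)) (Nat.land i 4095)
noncomputable def st9_s_1_3 (c : Nat) : Nat := @Bool.rec (fun _ => Nat) (st9_1) (st9_2) (Nat.ble 2 c)
noncomputable def st9_s_0_3 (c : Nat) : Nat := @Bool.rec (fun _ => Nat) (st9_0) (st9_s_1_3 c) (Nat.ble 1 c)
noncomputable def st9_s_4_6 (c : Nat) : Nat := @Bool.rec (fun _ => Nat) (st9_4) (st9_5) (Nat.ble 5 c)
noncomputable def st9_s_3_6 (c : Nat) : Nat := @Bool.rec (fun _ => Nat) (st9_3) (st9_s_4_6 c) (Nat.ble 4 c)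
noncomputable def st9_s_0_6 (c : Nat) : Nat := @Bool.rec (fun _ => Nat) (st9_s_0_3 c) (st9_s_3_6 c) (Nat.ble 3 c)
noncomputable def st9_s_7_9 (c : Nat) : Nat := @Bool.rec (fun _ => Nat) (st9_7) (st9_8) (Nat.ble 8 c)
noncomputable def st9_s_6_9 (c : Nat) : Nat := @Bool.rec (fun _ => Nat) (st9_6) (st9_s_7_9 c) (Nat.ble 7 c)
noncomputable def st9_s_10_12 (c : Nat) : Nat := @Bool.rec (fun _ => Nat) (st9_10) (st9_11) (Nat.ble 11 c)
noncomputable def st9_s_9_12 (c : Nat) : Nat := @Bool.rec (fun _ => Nat) (st9_9) (st9_s_10_12 c) (Nat.ble 10 c)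
noncomputable def st9_s_6_12 (c : Nat) : Nat := @Bool.rec (fun _ => Nat) (st9_s_6_9 c) (st9_s_9_12 c) (Nat.ble 9 c)
noncomputable def st9_s_0_12 (c : Nat) : Nat := @Bool.rec (fun _ => Nat) (st9_s_0_6 c) (st9_s_6_12 c) (Nat.ble 6 c)
noncomputable def st9 (i : Nat) : Nat := rdw 16 65535 (st9_s_0_12 (Nat.shiftRight i 12)) (Nat.land i 4095)
noncomputable def st10_s_1_3 (c : Nat) : Nat := @Bool.rec (fun _ => Nat) (st10_1) (st10_2) (Nat.ble 2 c)
noncomputable def st10_s_0_3 (c : Nat) : Nat := @Bool.rec (fun _ => Nat) (st10_0) (st10_s_1_3 c) (Nat.ble 1 c)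
noncomputable def st10_s_4_6 (c : Nat) : Nat := @Bool.rec (fun _ => Nat) (st10_4) (st10_5) (Nat.ble 5 c)
noncomputable def st10_s_3_6 (c : Nat) : Nat := @Bool.rec (fun _ => Nat) (st10_3) (st10_s_4_6 c) (Nat.ble 4 c)
noncomputable def st10_s_0_6 (c : Nat) : Nat := @Bool.rec (fun _ => Nat) (st10_s_0_3 c) (st10_s_3_6 c) (Nat.ble 3 c)
noncomputable def st10_s_7_9 (c : Nat) : Nat := @Bool.rec (fun _ => Nat) (st10_7) (st10_8) (Nat.ble 8 c)
noncomputable def st10_s_6_9 (c : Nat) : Nat := @Bool.rec (fun _ => Nat) (st10_6) (st10_s_7_9 c) (Nat.ble 7 c)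
noncomputable def st10_s_10_12 (c : Nat) : Nat := @Bool.rec (fun _ => Nat) (st10_10) (st10_11) (Nat.ble 11 c)
noncomputable def st10_s_9_12 (c : Nat) : Nat := @Bool.rec (fun _ => Nat) (st10_9) (st10_s_10_12 c) (Nat.ble 10 c)
noncomputable def st10_s_6_12 (c : Nat) : Nat := @Bool.rec (fun _ => Nat) (st10_s_6_9 c) (st10_s_9_12 c) (Nat.ble 9 c)
noncomputable def st10_s_0_12 (c : Nat) : Nat := @Bool.rec (fun _ => Nat) (st10_s_0_6 c) (st10_s_6_12 c) (Nat.ble 6 c)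
noncomputable def st10 (i : Nat) : Nat := rdw 16 65535 (st10_s_0_12 (Nat.shiftRight i 12)) (Nat.land i 4095)
noncomputable def st11_s_1_3 (c : Nat) : Nat := @Bool.rec (fun _ => Nat) (st11_1) (st11_2) (Nat.ble 2 c)
noncomputable def st11_s_0_3 (c : Nat) : Nat := @Bool.rec (fun _ => Nat) (st11_0) (st11_s_1_3 c) (Nat.ble 1 c)
noncomputable def st11_s_4_6 (c : Nat) : Nat := @Bool.rec (fun _ => Nat) (st11_4) (st11_5) (Nat.ble 5 c)
noncomputable def st11_s_3_6 (c : Nat) : Nat := @Bool.rec (fun _ => Nat) (st11_3) (st11_s_4_6 c) (Nat.ble 4 c)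
noncomputable def st11_s_0_6 (c : Nat) : Nat := @Bool.rec (fun _ => Nat) (st11_s_0_3 c) (st11_s_3_6 c) (Nat.ble 3 c)
noncomputable def st11_s_7_9 (c : Nat) : Nat := @Bool.rec (fun _ => Nat) (st11_7) (st11_8) (Nat.ble 8 c)
noncomputable def st11_s_6_9 (c : Nat) : Nat := @Bool.rec (fun _ => Nat) (st11_6) (st11_s_7_9 c) (Nat.ble 7 c)
noncomputable def st11_s_10_12 (c : Nat) : Nat := @Bool.rec (fun _ => Nat) (st11_10) (st11_11) (Nat.ble 11 c)
noncomputable def st11_s_9_12 (c : Nat) : Nat := @Bool.rec (fun _ => Nat) (st11_9) (st11_s_10_12 c) (Nat.ble 10 c)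
noncomputable def st11_s_6_12 (c : Nat) : Nat := @Bool.rec (fun _ => Nat) (st11_s_6_9 c) (st11_s_9_12 c) (Nat.ble 9 c)
noncomputable def st11_s_0_12 (c : Nat) : Nat := @Bool.rec (fun _ => Nat) (st11_s_0_6 c) (st11_s_6_12 c) (Nat.ble 6 c)
noncomputable def st11 (i : Nat) : Nat := rdw 16 65535 (st11_s_0_12 (Nat.shiftRight i 12)) (Nat.land i 4095)
noncomputable def levTab (i : Nat) : Nat := rdw 2 3 levTab_0 i
noncomputable def betaTab (i : Nat) : Nat := rdw 16 65535 betaTab_0 i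
noncomputable def nodeTab_s_0_2 (c : Nat) : Nat := @Bool.rec (fun _ => Nat) (nodeTab_0) (nodeTab_1) (Nat.ble 1 c)
noncomputable def nodeTab_s_3_5 (c : Nat) : Nat := @Bool.rec (fun _ => Nat) (nodeTab_3) (nodeTab_4) (Nat.ble 4 c)
noncomputable def nodeTab_s_2_5 (c : Nat) : Nat := @Bool.rec (fun _ => Nat) (nodeTab_2) (nodeTab_s_3_5 c) (Nat.ble 3 c)
noncomputable def nodeTab_s_0_5 (c : Nat) : Nat := @Bool.rec (fun _ => Nat) (nodeTab_s_0_2 c) (nodeTab_s_2_5 c) (Nat.ble 2 c)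
noncomputable def nodeTab_s_6_8 (c : Nat) : Nat := @Bool.rec (fun _ => Nat) (nodeTab_6) (nodeTab_7) (Nat.ble 7 c)
noncomputable def nodeTab_s_5_8 (c : Nat) : Nat := @Bool.rec (fun _ => Nat) (nodeTab_5) (nodeTab_s_6_8 c) (Nat.ble 6 c)
noncomputable def nodeTab_s_9_11 (c : Nat) : Nat := @Bool.rec (fun _ => Nat) (nodeTab_9) (nodeTab_10) (Nat.ble 10 c)
noncomputable def nodeTab_s_8_11 (c : Nat) : Nat := @Bool.rec (fun _ => Nat) (nodeTab_8) (nodeTab_s_9_11 c) (Nat.ble 9 c)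
noncomputable def nodeTab_s_5_11 (c : Nat) : Nat := @Bool.rec (fun _ => Nat) (nodeTab_s_5_8 c) (nodeTab_s_8_11 c) (Nat.ble 8 c)
noncomputable def nodeTab_s_0_11 (c : Nat) : Nat := @Bool.rec (fun _ => Nat) (nodeTab_s_0_5 c) (nodeTab_s_5_11 c) (Nat.ble 5 c)
noncomputable def nodeTab_s_12_14 (c : Nat) : Nat := @Bool.rec (fun _ => Nat) (nodeTab_12) (nodeTab_13) (Nat.ble 13 c)
noncomputable def nodeTab_s_11_14 (c : Nat) : Nat := @Bool.rec (fun _ => Nat) (nodeTab_11) (nodeTab_s_12_14 c) (Nat.ble 12 c)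
noncomputable def nodeTab_s_15_17 (c : Nat) : Nat := @Bool.rec (fun _ => Nat) (nodeTab_15) (nodeTab_16) (Nat.ble 16 c)
noncomputable def nodeTab_s_14_17 (c : Nat) : Nat := @Bool.rec (fun _ => Nat) (nodeTab_14) (nodeTab_s_15_17 c) (Nat.ble 15 c)
noncomputable def nodeTab_s_11_17 (c : Nat) : Nat := @Bool.rec (fun _ => Nat) (nodeTab_s_11_14 c) (nodeTab_s_14_17 c) (Nat.ble 14 c)
noncomputable def nodeTab_s_18_20 (c : Nat) : Nat := @Bool.rec (fun _ => Nat) (nodeTab_18) (nodeTab_19) (Nat.ble 19 c)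
noncomputable def nodeTab_s_17_20 (c : Nat) : Nat := @Bool.rec (fun _ => Nat) (nodeTab_17) (nodeTab_s_18_20 c) (Nat.ble 18 c)
noncomputable def nodeTab_s_21_23 (c : Nat) : Nat := @Bool.rec (fun _ => Nat) (nodeTab_21) (nodeTab_22) (Nat.ble 22 c)
noncomputable def nodeTab_s_20_23 (c : Nat) : Nat := @Bool.rec (fun _ => Nat) (nodeTab_20) (nodeTab_s_21_23 c) (Nat.ble 21 c)
noncomputable def nodeTab_s_17_23 (c : Nat) : Nat := @Bool.rec (fun _ => Nat) (nodeTab_s_17_20 c) (nodeTab_s_20_23 c) (Nat.ble 20 c)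
noncomputable def nodeTab_s_11_23 (c : Nat) : Nat := @Bool.rec (fun _ => Nat) (nodeTab_s_11_17 c) (nodeTab_s_17_23 c) (Nat.ble 17 c)
noncomputable def nodeTab_s_0_23 (c : Nat) : Nat := @Bool.rec (fun _ => Nat) (nodeTab_s_0_11 c) (nodeTab_s_11_23 c) (Nat.ble 11 c)
noncomputable def nodeTab (i : Nat) : Nat := rdw 40 1099511627775 (nodeTab_s_0_23 (Nat.shiftRight i 11)) (Nat.land i 2047)
noncomputable def offTab (i : Nat) : Nat := rdw 16 65535 offTab_0 i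
noncomputable def nTab (i : Nat) : Nat := rdw 16 65535 nTab_0 i
noncomputable def rootTab (i : Nat) : Nat := rdw 16 65535 rootTab_0 i
noncomputable def tabF (i p : Nat) : Nat := @Bool.rec (fun _ => Nat) (@Bool.rec (fun _ => Nat) (@Bool.rec (fun _ => Nat) (col1 p) (@Bool.rec (fun _ => Nat) (col0 p) (col3 p) (Nat.ble 2 i)) (Nat.ble 1 i)) (@Bool.rec (fun _ => Nat) (col2 p) (@Bool.rec (fun _ => Nat) (col5 p) (col4 p) (Nat.ble 5 i)) (Nat.ble 4 i)) (Nat.ble 3 i)) (@Bool.rec (fun _ => Nat) (@Bool.rec (fun _ => Nat) (col7 p) (@Bool.rec (fun _ => Nat) (col6 p) (st8 p) (Nat.ble 8 i)) (Nat.ble 7 i)) (@Bool.rec (fun _ => Nat) (st9 p) (@Bool.rec (fun _ => Nat) (st10 p) (st11 p) (Nat.ble 11 i)) (Nat.ble 10 i)) (Nat.ble 9 i)) (Nat.ble 6 i)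
def wAF : Nat → List Nat
  | 8 => [7, 5, 0, 2, 0, 2, 0, 2, 2, 0, 3, 0, 2, 0, 2, 0]
  | 9 => [8]
  | 10 => [2, 9, 1, 3, 9, 5, 3]
  | 11 => [10]
  | _ => []
def wBF : Nat → List Nat
  | 8 => [2, 4, 0, 2, 0, 3, 0, 3, 0, 3, 3, 0, 3, 0, 2, 0]
  | 9 => []
  | 10 => [3, 0, 9, 3, 8, 6, 0, 3]
  | 11 => []
  | _ => []
noncomputable def ptF (j idx : Nat) : Nat := Nat.land (nodeTab (Nat.add (offTab j) idx)) 65535
noncomputable def parF (j idx : Nat) : Nat := Nat.land (Nat.shiftRight (nodeTab (Nat.add (offTab j) idx)) 16) 65535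
noncomputable def giF (j idx : Nat) : Nat := Nat.land (Nat.shiftRight (nodeTab (Nat.add (offTab j) idx)) 32) 15
noncomputable def depF (j idx : Nat) : Nat := Nat.shiftRight (nodeTab (Nat.add (offTab j) idx)) 36

noncomputable def S : Sgs :=
  { N := 46080, k := 8, m := 12, tab := tabF, wA := wAF, wB := wBF, lev := levTab, r := 2, beta := betaTab,
    n := nTab, root := rootTab, pt := ptF, par := parF, gi := giF, dep := depF }

noncomputable def chk8 (p : Nat) : Bool := band (Nat.ble (Nat.succ (st8 p)) 46080) (Nat.beq (col6 (col4 (col1 (col3 (col1 (col3 (col1 (col3 (col3 (col1 (col2 (col1 (col3 (col1 (col3 (col1 (st8 p))))))))))))))))) (col3 (col5 (col1 (col3 (col1 (col2 (col1 (col2 (col1 (col2 (col2 (col1 (col2 (col1 (col3 (col1 p)))))))))))))))))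
theorem chk8_eq (p : Nat) : chk8 p = Sgs.permOK S 8 p := rfl
noncomputable def chk9 (p : Nat) : Bool := band (Nat.ble (Nat.succ (st9 p)) 46080) (Nat.beq (st8 (st9 p)) p)
theorem chk9_eq (p : Nat) : chk9 p = Sgs.permOK S 9 p := rfl
noncomputable def chk10 (p : Nat) : Bool := band (Nat.ble (Nat.succ (st10 p)) 46080) (Nat.beq (col3 (st9 (col0 (col2 (st9 (col4 (col2 (st10 p)))))))) (col2 (col1 (st9 (col2 (st8 (col7 (col1 (col2 p)))))))))
theorem chk10_eq (p : Nat) : chk10 p = Sgs.permOK S 10 p := rfl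
noncomputable def chk11 (p : Nat) : Bool := band (Nat.ble (Nat.succ (st11 p)) 46080) (Nat.beq (st10 (st11 p)) p)
theorem chk11_eq (p : Nat) : chk11 p = Sgs.permOK S 11 p := rfl

end Cfsg.Agent.Lib.Helper4.TCD.C48L34L
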