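import Cfsg.Agent.Lib.Helper4.TCD_C48L34L_Acc

namespace Cfsg.Agent.Lib.Helper4.TCD.C48L34L

open Cfsg.Agent.Lib.Helper4.TC Cfsg.Agent.Lib.Helper4.TCD.C48L34R

set_option maxRecDepth 100000
set_option Elab.async false

theorem c_words : allRange S.wordsOK 8 4 = true := by decide +kernel
theorem c_fix : allGrid S.fixOK 0 12 2 = true := by decide +kernel
theorem c_root : allBelow (fun j => Nat.ble (Nat.succ (S.root j)) (S.n j)) 2 = true := by decide +kernel
theorem c_n0 : S.n 0 = 46080 := by decide +kernel
theorem c_n1 : S.n 1 = 21 := by decide +kernel
theorem c_p8_0 : allRange chk8 0 1714 = true := by decide +kernel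
theorem c_p8_1 : allRange chk8 1714 1714 = true := by decide +kernel
theorem c_p8_2 : allRange chk8 3428 1714 = true := by decide +kernel
theorem c_p8_3 : allRange chk8 5142 1714 = true := by decide +kernel
theorem c_p8_4 : allRange chk8 6856 1714 = true := by decide +kernel
theorem c_p8_5 : allRange chk8 8570 1714 = true := by decide +kernel
theorem c_p8_6 : allRange chk8 10284 1714 = true := by decide +kernel
theorem c_p8_7 : allRange chk8 11998 1714 = true := by decide +kernel
theorem c_p8_8 : allRange chk8 13712 1714 = true := by decide +kernel
theorem c_p8_9 : allRange chk8 15426 1714 = true := by decide +kernel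
theorem c_p8_10 : allRange chk8 17140 1714 = true := by decide +kernel
theorem c_p8_11 : allRange chk8 18854 1714 = true := by decide +kernel
theorem c_p8_12 : allRange chk8 20568 1714 = true := by decide +kernel
theorem c_p8_13 : allRange chk8 22282 1714 = true := by decide +kernel
theorem c_p8_14 : allRange chk8 23996 1714 = true := by decide +kernel
theorem c_p8_15 : allRange chk8 25710 1714 = true := by decide +kernel
theorem c_p8_16 : allRange chk8 27424 1714 = true := by decide +kernel
theorem c_p8_17 : allRange chk8 29138 1714 = true := by decide +kernel
theorem c_p8_18 : allRange chk8 30852 1714 = true := by decide +kernel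
theorem c_p8_19 : allRange chk8 32566 1714 = true := by decide +kernel
theorem c_p8_20 : allRange chk8 34280 1714 = true := by decide +kernel
theorem c_p8_21 : allRange chk8 35994 1714 = true := by decide +kernel
theorem c_p8_22 : allRange chk8 37708 1714 = true := by decide +kernel
theorem c_p8_23 : allRange chk8 39422 1714 = true := by decide +kernel
theorem c_p8_24 : allRange chk8 41136 1714 = true := by decide +kernel
theorem c_p8_25 : allRange chk8 42850 1714 = true := by decide +kernel
theorem c_p8_26 : allRange chk8 44564 1516 = true := by decide +kernel
theorem c_p9_0 : allRange chk9 0 15000 = true := by decide +kernel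
theorem c_p9_1 : allRange chk9 15000 15000 = true := by decide +kernel
theorem c_p9_2 : allRange chk9 30000 15000 = true := by decide +kernel
theorem c_p9_3 : allRange chk9 45000 1080 = true := by decide +kernel
theorem c_p10_0 : allRange chk10 0 3333 = true := by decide +kernel
theorem c_p10_1 : allRange chk10 3333 3333 = true := by decide +kernel
theorem c_p10_2 : allRange chk10 6666 3333 = true := by decide +kernel
theorem c_p10_3 : allRange chk10 9999 3333 = true := by decide +kernel
theorem c_p10_4 : allRange chk10 13332 3333 = true := by decide +kernel
theorem c_p10_5 : allRange chk10 16665 3333 = true := by decide +kernel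
theorem c_p10_6 : allRange chk10 19998 3333 = true := by decide +kernel
theorem c_p10_7 : allRange chk10 23331 3333 = true := by decide +kernel
theorem c_p10_8 : allRange chk10 26664 3333 = true := by decide +kernel
theorem c_p10_9 : allRange chk10 29997 3333 = true := by decide +kernel
theorem c_p10_10 : allRange chk10 33330 3333 = true := by decide +kernel
theorem c_p10_11 : allRange chk10 36663 3333 = true := by decide +kernel
theorem c_p10_12 : allRange chk10 39996 3333 = true := by decide +kernel
theorem c_p10_13 : allRange chk10 43329 2751 = true := by decide +kernel
theorem c_p11_0 : allRange chk11 0 15000 = true := by decide +kernel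
theorem c_p11_1 : allRange chk11 15000 15000 = true := by decide +kernel
theorem c_p11_2 : allRange chk11 30000 15000 = true := by decide +kernel
theorem c_p11_3 : allRange chk11 45000 1080 = true := by decide +kernel
theorem c_nd0_0 : allRange (S.nodeOK 0) 0 5000 = true := by decide +kernel
theorem c_nd0_1 : allRange (S.nodeOK 0) 5000 5000 = true := by decide +kernel
theorem c_nd0_2 : allRange (S.nodeOK 0) 10000 5000 = true := by decide +kernel

end Cfsg.Agent.Lib.Helper4.TCD.C48L34L
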