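import Cfsg.Agent.Lib.Helper4.TCD_C48L34R_Acc

namespace Cfsg.Agent.Lib.Helper4.TCD.C48L34R

open Cfsg.Agent.Lib.Helper4.TC

set_option maxRecDepth 100000
set_option Elab.async false

theorem c_let : allBelow D.letOK 8 = true := by decide +kernel
theorem c_real : PC48L34.P.real = realLit := by decide +kernel
theorem c_perm_0 : allGrid (T.permOK1 D) 0 3750 8 = true := by decide +kernel
theorem c_perm_1 : allGrid (T.permOK1 D) 3750 3750 8 = true := by decide +kernel
theorem c_perm_2 : allGrid (T.permOK1 D) 7500 3750 8 = true := by decide +kernel
theorem c_perm_3 : allGrid (T.permOK1 D) 11250 3750 8 = true := by decide +kernel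
theorem c_perm_4 : allGrid (T.permOK1 D) 15000 3750 8 = true := by decide +kernel
theorem c_perm_5 : allGrid (T.permOK1 D) 18750 3750 8 = true := by decide +kernel
theorem c_perm_6 : allGrid (T.permOK1 D) 22500 3750 8 = true := by decide +kernel
theorem c_perm_7 : allGrid (T.permOK1 D) 26250 3750 8 = true := by decide +kernel
theorem c_perm_8 : allGrid (T.permOK1 D) 30000 3750 8 = true := by decide +kernel
theorem c_perm_9 : allGrid (T.permOK1 D) 33750 3750 8 = true := by decide +kernel
theorem c_perm_10 : allGrid (T.permOK1 D) 37500 3750 8 = true := by decide +kernel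
theorem c_perm_11 : allGrid (T.permOK1 D) 41250 3750 8 = true := by decide +kernel
theorem c_perm_12 : allGrid (T.permOK1 D) 45000 1080 8 = true := by decide +kernel
theorem c_act0_0 : allRange (fun i => Nat.beq (actR0 i) i) 0 4285 = true := by decide +kernel
theorem c_act0_1 : allRange (fun i => Nat.beq (actR0 i) i) 4285 4285 = true := by decide +kernel
theorem c_act0_2 : allRange (fun i => Nat.beq (actR0 i) i) 8570 4285 = true := by decide +kernel
theorem c_act0_3 : allRange (fun i => Nat.beq (actR0 i) i) 12855 4285 = true := by decide +kernel
theorem c_act0_4 : allRange (fun i => Nat.beq (actR0 i) i) 17140 4285 = true := by decide +kernel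
theorem c_act0_5 : allRange (fun i => Nat.beq (actR0 i) i) 21425 4285 = true := by decide +kernel
theorem c_act0_6 : allRange (fun i => Nat.beq (actR0 i) i) 25710 4285 = true := by decide +kernel
theorem c_act0_7 : allRange (fun i => Nat.beq (actR0 i) i) 29995 4285 = true := by decide +kernel
theorem c_act0_8 : allRange (fun i => Nat.beq (actR0 i) i) 34280 4285 = true := by decide +kernel
theorem c_act0_9 : allRange (fun i => Nat.beq (actR0 i) i) 38565 4285 = true := by decide +kernel
theorem c_act0_10 : allRange (fun i => Nat.beq (actR0 i) i) 42850 3230 = true := by decide +kernel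
theorem c_act1_0 : allRange (fun i => Nat.beq (actR1 i) i) 0 4000 = true := by decide +kernel
theorem c_act1_1 : allRange (fun i => Nat.beq (actR1 i) i) 4000 4000 = true := by decide +kernel
theorem c_act1_2 : allRange (fun i => Nat.beq (actR1 i) i) 8000 4000 = true := by decide +kernel
theorem c_act1_3 : allRange (fun i => Nat.beq (actR1 i) i) 12000 4000 = true := by decide +kernel
theorem c_act1_4 : allRange (fun i => Nat.beq (actR1 i) i) 16000 4000 = true := by decide +kernel
theorem c_act1_5 : allRange (fun i => Nat.beq (actR1 i) i) 20000 4000 = true := by decide +kernel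
theorem c_act1_6 : allRange (fun i => Nat.beq (actR1 i) i) 24000 4000 = true := by decide +kernel
theorem c_act1_7 : allRange (fun i => Nat.beq (actR1 i) i) 28000 4000 = true := by decide +kernel
theorem c_act1_8 : allRange (fun i => Nat.beq (actR1 i) i) 32000 4000 = true := by decide +kernel
theorem c_act1_9 : allRange (fun i => Nat.beq (actR1 i) i) 36000 4000 = true := by decide +kernel
theorem c_act1_10 : allRange (fun i => Nat.beq (actR1 i) i) 40000 4000 = true := by decide +kernel
theorem c_act1_11 : allRange (fun i => Nat.beq (actR1 i) i) 44000 2080 = true := by decide +kernel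
theorem c_act2_0 : allRange (fun i => Nat.beq (actR2 i) i) 0 1666 = true := by decide +kernel
theorem c_act2_1 : allRange (fun i => Nat.beq (actR2 i) i) 1666 1666 = true := by decide +kernel
theorem c_act2_2 : allRange (fun i => Nat.beq (actR2 i) i) 3332 1666 = true := by decide +kernel
theorem c_act2_3 : allRange (fun i => Nat.beq (actR2 i) i) 4998 1666 = true := by decide +kernel
theorem c_act2_4 : allRange (fun i => Nat.beq (actR2 i) i) 6664 1666 = true := by decide +kernel
theorem c_act2_5 : allRange (fun i => Nat.beq (actR2 i) i) 8330 1666 = true := by decide +kernel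
theorem c_act2_6 : allRange (fun i => Nat.beq (actR2 i) i) 9996 1666 = true := by decide +kernel
theorem c_act2_7 : allRange (fun i => Nat.beq (actR2 i) i) 11662 1666 = true := by decide +kernel
theorem c_act2_8 : allRange (fun i => Nat.beq (actR2 i) i) 13328 1666 = true := by decide +kernel
theorem c_act2_9 : allRange (fun i => Nat.beq (actR2 i) i) 14994 1666 = true := by decide +kernel
theorem c_act2_10 : allRange (fun i => Nat.beq (actR2 i) i) 16660 1666 = true := by decide +kernel
theorem c_act2_11 : allRange (fun i => Nat.beq (actR2 i) i) 18326 1666 = true := by decide +kernel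
theorem c_act2_12 : allRange (fun i => Nat.beq (actR2 i) i) 19992 1666 = true := by decide +kernel
theorem c_act2_13 : allRange (fun i => Nat.beq (actR2 i) i) 21658 1666 = true := by decide +kernel
theorem c_act2_14 : allRange (fun i => Nat.beq (actR2 i) i) 23324 1666 = true := by decide +kernel

end Cfsg.Agent.Lib.Helper4.TCD.C48L34R
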