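import Cfsg.Agent.Lib.Helper4.TCD_C48L34R_Acc
import Cfsg.Agent.Lib.Helper4.TC13

namespace Cfsg.Agent.Lib.Helper4.TCD.C48L34S

open Cfsg.Agent.Lib.Helper4.TC Cfsg.Agent.Lib.Helper4.TCD.C48L34R

set_option maxRecDepth 100000
set_option Elab.async false

def chk7 : List Nat := [0, 4, 4, 4, 4, 4, 7, 2, 0, 2, 0, 3, 0, 2, 5, 5, 5, 5, 5, 6, 6, 2, 0, 2, 0, 3, 0, 2, 5, 5, 5, 5, 5, 6, 6, 0, 4, 4, 4, 4, 4, 7, 2, 0, 2, 0, 3, 0, 2, 5, 5, 5, 5, 5, 6, 6, 2, 0, 2, 0, 3, 0, 2, 5, 5, 5, 5, 5, 6, 6, 0, 4, 4, 4, 4, 4, 7, 2, 0, 2, 0, 3, 0, 2, 5, 5, 5, 5, 5, 6, 6, 2, 0, 2, 0, 3, 0, 2, 5, 5, 5, 5, 5, 6, 6, 0, 4, 4, 4, 4, 4, 7, 2, 0, 2, 0, 3, 0, 2, 5, 5, 5, 5, 5, 6, 6, 2, 0, 2, 0, 3, 0, 2, 5, 5, 5, 5, 5, 6, 6, 0, 4, 4, 4, 4, 4, 7, 2, 0, 2, 0, 3, 0, 2, 5, 5, 5, 5, 5, 6, 6, 2, 0, 2, 0, 3, 0, 2, 5, 5, 5, 5, 5, 6, 6]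
noncomputable def act7 (i : Nat) : Nat := col1 (col5 (col5 (col5 (col5 (col5 (col6 (col3 (col1 (col3 (col1 (col2 (col1 (col3 (col4 (col4 (col4 (col4 (col4 (col7 (col7 (col3 (col1 (col3 (col1 (col2 (col1 (col3 (col4 (col4 (col4 (col4 (col4 (col7 (col7 (col1 (col5 (col5 (col5 (col5 (col5 (col6 (col3 (col1 (col3 (col1 (col2 (col1 (col3 (col4 (col4 (col4 (col4 (col4 (col7 (col7 (col3 (col1 (col3 (col1 (col2 (col1 (col3 (col4 (col4 (col4 (col4 (col4 (col7 (col7 (col1 (col5 (col5 (col5 (col5 (col5 (col6 (col3 (col1 (col3 (col1 (col2 (col1 (col3 (col4 (col4 (col4 (col4 (col4 (col7 (col7 (col3 (col1 (col3 (col1 (col2 (col1 (col3 (col4 (col4 (col4 (col4 (col4 (col7 (col7 (col1 (col5 (col5 (col5 (col5 (col5 (col6 (col3 (col1 (col3 (col1 (col2 (col1 (col3 (col4 (col4 (col4 (col4 (col4 (col7 (col7 (col3 (col1 (col3 (col1 (col2 (col1 (col3 (col4 (col4 (col4 (col4 (col4 (col7 (col7 (col1 (col5 (col5 (col5 (col5 (col5 (col6 (col3 (col1 (col3 (col1 (col2 (col1 (col3 (col4 (col4 (col4 (col4 (col4 (col7 (col7 (col3 (col1 (col3 (col1 (col2 (col1 (col3 (col4 (col4 (col4 (col4 (col4 (col7 (col7 (i)))))))))))))))))))))))))))))))))))))))))))))))))))))))))))))))))))))))))))))))))))))))))))))))))))))))))))))))))))))))))))))))))))))))))))))))))))))))))))))))))))))))))))))))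
theorem act7_eq (i : Nat) : act7 i = Tab.act T D chk7 i := rfl
theorem c7_0 : allRange (fun i => Nat.beq (act7 i) i) 0 338 = true := by decide +kernel
theorem c7_1 : allRange (fun i => Nat.beq (act7 i) i) 338 338 = true := by decide +kernel
theorem c7_2 : allRange (fun i => Nat.beq (act7 i) i) 676 338 = true := by decide +kernel
theorem c7_3 : allRange (fun i => Nat.beq (act7 i) i) 1014 338 = true := by decide +kernel
theorem c7_4 : allRange (fun i => Nat.beq (act7 i) i) 1352 338 = true := by decide +kernel
theorem c7_5 : allRange (fun i => Nat.beq (act7 i) i) 1690 338 = true := by decide +kernel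
theorem c7_6 : allRange (fun i => Nat.beq (act7 i) i) 2028 338 = true := by decide +kernel
theorem c7_7 : allRange (fun i => Nat.beq (act7 i) i) 2366 338 = true := by decide +kernel
theorem c7_8 : allRange (fun i => Nat.beq (act7 i) i) 2704 338 = true := by decide +kernel
theorem c7_9 : allRange (fun i => Nat.beq (act7 i) i) 3042 338 = true := by decide +kernel
theorem c7_10 : allRange (fun i => Nat.beq (act7 i) i) 3380 338 = true := by decide +kernel
theorem c7_11 : allRange (fun i => Nat.beq (act7 i) i) 3718 338 = true := by decide +kernel
theorem c7_12 : allRange (fun i => Nat.beq (act7 i) i) 4056 338 = true := by decide +kernel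
theorem c7_13 : allRange (fun i => Nat.beq (act7 i) i) 4394 338 = true := by decide +kernel
theorem c7_14 : allRange (fun i => Nat.beq (act7 i) i) 4732 338 = true := by decide +kernel
theorem c7_15 : allRange (fun i => Nat.beq (act7 i) i) 5070 338 = true := by decide +kernel
theorem c7_16 : allRange (fun i => Nat.beq (act7 i) i) 5408 338 = true := by decide +kernel
theorem c7_17 : allRange (fun i => Nat.beq (act7 i) i) 5746 338 = true := by decide +kernel
theorem c7_18 : allRange (fun i => Nat.beq (act7 i) i) 6084 338 = true := by decide +kernel
theorem c7_19 : allRange (fun i => Nat.beq (act7 i) i) 6422 338 = true := by decide +kernel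
theorem c7_20 : allRange (fun i => Nat.beq (act7 i) i) 6760 338 = true := by decide +kernel
theorem c7_21 : allRange (fun i => Nat.beq (act7 i) i) 7098 338 = true := by decide +kernel
theorem c7_22 : allRange (fun i => Nat.beq (act7 i) i) 7436 338 = true := by decide +kernel
theorem c7_23 : allRange (fun i => Nat.beq (act7 i) i) 7774 338 = true := by decide +kernel
theorem c7_24 : allRange (fun i => Nat.beq (act7 i) i) 8112 338 = true := by decide +kernel
theorem c7_25 : allRange (fun i => Nat.beq (act7 i) i) 8450 338 = true := by decide +kernel
theorem c7_26 : allRange (fun i => Nat.beq (act7 i) i) 8788 338 = true := by decide +kernel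
theorem c7_27 : allRange (fun i => Nat.beq (act7 i) i) 9126 338 = true := by decide +kernel
theorem c7_28 : allRange (fun i => Nat.beq (act7 i) i) 9464 338 = true := by decide +kernel
theorem c7_29 : allRange (fun i => Nat.beq (act7 i) i) 9802 338 = true := by decide +kernel
theorem c7_30 : allRange (fun i => Nat.beq (act7 i) i) 10140 338 = true := by decide +kernel
theorem c7_31 : allRange (fun i => Nat.beq (act7 i) i) 10478 338 = true := by decide +kernel
theorem c7_32 : allRange (fun i => Nat.beq (act7 i) i) 10816 338 = true := by decide +kernel
theorem c7_33 : allRange (fun i => Nat.beq (act7 i) i) 11154 338 = true := by decide +kernel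
theorem c7_34 : allRange (fun i => Nat.beq (act7 i) i) 11492 338 = true := by decide +kernel
theorem c7_35 : allRange (fun i => Nat.beq (act7 i) i) 11830 338 = true := by decide +kernel
theorem c7_36 : allRange (fun i => Nat.beq (act7 i) i) 12168 338 = true := by decide +kernel
theorem c7_37 : allRange (fun i => Nat.beq (act7 i) i) 12506 338 = true := by decide +kernel
theorem c7_38 : allRange (fun i => Nat.beq (act7 i) i) 12844 338 = true := by decide +kernel
theorem c7_39 : allRange (fun i => Nat.beq (act7 i) i) 13182 338 = true := by decide +kernel
theorem c7_40 : allRange (fun i => Nat.beq (act7 i) i) 13520 338 = true := by decide +kernel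
theorem c7_41 : allRange (fun i => Nat.beq (act7 i) i) 13858 338 = true := by decide +kernel
theorem c7_42 : allRange (fun i => Nat.beq (act7 i) i) 14196 338 = true := by decide +kernel
theorem c7_43 : allRange (fun i => Nat.beq (act7 i) i) 14534 338 = true := by decide +kernel
theorem c7_44 : allRange (fun i => Nat.beq (act7 i) i) 14872 338 = true := by decide +kernel
theorem c7_45 : allRange (fun i => Nat.beq (act7 i) i) 15210 338 = true := by decide +kernel
theorem c7_46 : allRange (fun i => Nat.beq (act7 i) i) 15548 338 = true := by decide +kernel
theorem c7_47 : allRange (fun i => Nat.beq (act7 i) i) 15886 338 = true := by decide +kernel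
theorem c7_48 : allRange (fun i => Nat.beq (act7 i) i) 16224 338 = true := by decide +kernel
theorem c7_49 : allRange (fun i => Nat.beq (act7 i) i) 16562 338 = true := by decide +kernel
theorem c7_50 : allRange (fun i => Nat.beq (act7 i) i) 16900 338 = true := by decide +kernel
theorem c7_51 : allRange (fun i => Nat.beq (act7 i) i) 17238 338 = true := by decide +kernel
theorem c7_52 : allRange (fun i => Nat.beq (act7 i) i) 17576 338 = true := by decide +kernel
theorem c7_53 : allRange (fun i => Nat.beq (act7 i) i) 17914 338 = true := by decide +kernel
theorem c7_54 : allRange (fun i => Nat.beq (act7 i) i) 18252 338 = true := by decide +kernel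
theorem c7_55 : allRange (fun i => Nat.beq (act7 i) i) 18590 338 = true := by decide +kernel
theorem c7_56 : allRange (fun i => Nat.beq (act7 i) i) 18928 338 = true := by decide +kernel
theorem c7_57 : allRange (fun i => Nat.beq (act7 i) i) 19266 338 = true := by decide +kernel
theorem c7_58 : allRange (fun i => Nat.beq (act7 i) i) 19604 338 = true := by decide +kernel
theorem c7_59 : allRange (fun i => Nat.beq (act7 i) i) 19942 338 = true := by decide +kernel
theorem c7_60 : allRange (fun i => Nat.beq (act7 i) i) 20280 338 = true := by decide +kernel
theorem c7_61 : allRange (fun i => Nat.beq (act7 i) i) 20618 338 = true := by decide +kernel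
theorem c7_62 : allRange (fun i => Nat.beq (act7 i) i) 20956 338 = true := by decide +kernel
theorem c7_63 : allRange (fun i => Nat.beq (act7 i) i) 21294 338 = true := by decide +kernel
theorem c7_64 : allRange (fun i => Nat.beq (act7 i) i) 21632 338 = true := by decide +kernel
theorem c7_65 : allRange (fun i => Nat.beq (act7 i) i) 21970 338 = true := by decide +kernel
theorem c7_66 : allRange (fun i => Nat.beq (act7 i) i) 22308 338 = true := by decide +kernel
theorem c7_67 : allRange (fun i => Nat.beq (act7 i) i) 22646 338 = true := by decide +kernel
theorem c7_68 : allRange (fun i => Nat.beq (act7 i) i) 22984 338 = true := by decide +kernel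
theorem c7_69 : allRange (fun i => Nat.beq (act7 i) i) 23322 338 = true := by decide +kernel
theorem c7_70 : allRange (fun i => Nat.beq (act7 i) i) 23660 338 = true := by decide +kernel
theorem c7_71 : allRange (fun i => Nat.beq (act7 i) i) 23998 338 = true := by decide +kernel
theorem c7_72 : allRange (fun i => Nat.beq (act7 i) i) 24336 338 = true := by decide +kernel
theorem c7_73 : allRange (fun i => Nat.beq (act7 i) i) 24674 338 = true := by decide +kernel
theorem c7_74 : allRange (fun i => Nat.beq (act7 i) i) 25012 338 = true := by decide +kernel
theorem c7_75 : allRange (fun i => Nat.beq (act7 i) i) 25350 338 = true := by decide +kernel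
theorem c7_76 : allRange (fun i => Nat.beq (act7 i) i) 25688 338 = true := by decide +kernel
theorem c7_77 : allRange (fun i => Nat.beq (act7 i) i) 26026 338 = true := by decide +kernel
theorem c7_78 : allRange (fun i => Nat.beq (act7 i) i) 26364 338 = true := by decide +kernel
theorem c7_79 : allRange (fun i => Nat.beq (act7 i) i) 26702 338 = true := by decide +kernel
theorem c7_80 : allRange (fun i => Nat.beq (act7 i) i) 27040 338 = true := by decide +kernel
theorem c7_81 : allRange (fun i => Nat.beq (act7 i) i) 27378 338 = true := by decide +kernel
theorem c7_82 : allRange (fun i => Nat.beq (act7 i) i) 27716 338 = true := by decide +kernel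
theorem c7_83 : allRange (fun i => Nat.beq (act7 i) i) 28054 338 = true := by decide +kernel
theorem c7_84 : allRange (fun i => Nat.beq (act7 i) i) 28392 338 = true := by decide +kernel
theorem c7_85 : allRange (fun i => Nat.beq (act7 i) i) 28730 338 = true := by decide +kernel
theorem c7_86 : allRange (fun i => Nat.beq (act7 i) i) 29068 338 = true := by decide +kernel
theorem c7_87 : allRange (fun i => Nat.beq (act7 i) i) 29406 338 = true := by decide +kernel
theorem c7_88 : allRange (fun i => Nat.beq (act7 i) i) 29744 338 = true := by decide +kernel
theorem c7_89 : allRange (fun i => Nat.beq (act7 i) i) 30082 338 = true := by decide +kernel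
theorem c7_90 : allRange (fun i => Nat.beq (act7 i) i) 30420 338 = true := by decide +kernel
theorem c7_91 : allRange (fun i => Nat.beq (act7 i) i) 30758 338 = true := by decide +kernel
theorem c7_92 : allRange (fun i => Nat.beq (act7 i) i) 31096 338 = true := by decide +kernel
theorem c7_93 : allRange (fun i => Nat.beq (act7 i) i) 31434 338 = true := by decide +kernel
theorem c7_94 : allRange (fun i => Nat.beq (act7 i) i) 31772 338 = true := by decide +kernel
theorem c7_95 : allRange (fun i => Nat.beq (act7 i) i) 32110 338 = true := by decide +kernel
theorem c7_96 : allRange (fun i => Nat.beq (act7 i) i) 32448 338 = true := by decide +kernel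
theorem c7_97 : allRange (fun i => Nat.beq (act7 i) i) 32786 338 = true := by decide +kernel
theorem c7_98 : allRange (fun i => Nat.beq (act7 i) i) 33124 338 = true := by decide +kernel
theorem c7_99 : allRange (fun i => Nat.beq (act7 i) i) 33462 338 = true := by decide +kernel
theorem c7_100 : allRange (fun i => Nat.beq (act7 i) i) 33800 338 = true := by decide +kernel
theorem c7_101 : allRange (fun i => Nat.beq (act7 i) i) 34138 338 = true := by decide +kernel
theorem c7_102 : allRange (fun i => Nat.beq (act7 i) i) 34476 338 = true := by decide +kernel
theorem c7_103 : allRange (fun i => Nat.beq (act7 i) i) 34814 338 = true := by decide +kernel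
theorem c7_104 : allRange (fun i => Nat.beq (act7 i) i) 35152 338 = true := by decide +kernel
theorem c7_105 : allRange (fun i => Nat.beq (act7 i) i) 35490 338 = true := by decide +kernel
theorem c7_106 : allRange (fun i => Nat.beq (act7 i) i) 35828 338 = true := by decide +kernel
theorem c7_107 : allRange (fun i => Nat.beq (act7 i) i) 36166 338 = true := by decide +kernel
theorem c7_108 : allRange (fun i => Nat.beq (act7 i) i) 36504 338 = true := by decide +kernel
theorem c7_109 : allRange (fun i => Nat.beq (act7 i) i) 36842 338 = true := by decide +kernel
theorem c7_110 : allRange (fun i => Nat.beq (act7 i) i) 37180 338 = true := by decide +kernel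
theorem c7_111 : allRange (fun i => Nat.beq (act7 i) i) 37518 338 = true := by decide +kernel
theorem c7_112 : allRange (fun i => Nat.beq (act7 i) i) 37856 338 = true := by decide +kernel
theorem c7_113 : allRange (fun i => Nat.beq (act7 i) i) 38194 338 = true := by decide +kernel
theorem c7_114 : allRange (fun i => Nat.beq (act7 i) i) 38532 338 = true := by decide +kernel
theorem c7_115 : allRange (fun i => Nat.beq (act7 i) i) 38870 338 = true := by decide +kernel
theorem c7_116 : allRange (fun i => Nat.beq (act7 i) i) 39208 338 = true := by decide +kernel
theorem c7_117 : allRange (fun i => Nat.beq (act7 i) i) 39546 338 = true := by decide +kernel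
theorem c7_118 : allRange (fun i => Nat.beq (act7 i) i) 39884 338 = true := by decide +kernel
theorem c7_119 : allRange (fun i => Nat.beq (act7 i) i) 40222 338 = true := by decide +kernel
theorem c7_120 : allRange (fun i => Nat.beq (act7 i) i) 40560 338 = true := by decide +kernel
theorem c7_121 : allRange (fun i => Nat.beq (act7 i) i) 40898 338 = true := by decide +kernel
theorem c7_122 : allRange (fun i => Nat.beq (act7 i) i) 41236 338 = true := by decide +kernel
theorem c7_123 : allRange (fun i => Nat.beq (act7 i) i) 41574 338 = true := by decide +kernel
theorem c7_124 : allRange (fun i => Nat.beq (act7 i) i) 41912 338 = true := by decide +kernel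
theorem c7_125 : allRange (fun i => Nat.beq (act7 i) i) 42250 338 = true := by decide +kernel
theorem c7_126 : allRange (fun i => Nat.beq (act7 i) i) 42588 338 = true := by decide +kernel
theorem c7_127 : allRange (fun i => Nat.beq (act7 i) i) 42926 338 = true := by decide +kernel
theorem c7_128 : allRange (fun i => Nat.beq (act7 i) i) 43264 338 = true := by decide +kernel
theorem c7_129 : allRange (fun i => Nat.beq (act7 i) i) 43602 338 = true := by decide +kernel
theorem c7_130 : allRange (fun i => Nat.beq (act7 i) i) 43940 338 = true := by decide +kernel
theorem c7_131 : allRange (fun i => Nat.beq (act7 i) i) 44278 338 = true := by decide +kernel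
theorem c7_132 : allRange (fun i => Nat.beq (act7 i) i) 44616 338 = true := by decide +kernel
theorem c7_133 : allRange (fun i => Nat.beq (act7 i) i) 44954 338 = true := by decide +kernel
theorem c7_134 : allRange (fun i => Nat.beq (act7 i) i) 45292 338 = true := by decide +kernel
theorem c7_135 : allRange (fun i => Nat.beq (act7 i) i) 45630 338 = true := by decide +kernel
theorem c7_136 : allRange (fun i => Nat.beq (act7 i) i) 45968 112 = true := by decide +kernel
theorem h7 : ∀ i, i < T.N → Tab.relActOK T D chk7 i = true := by
  intro i hi
  rw [Tab.relActOK, ← act7_eq]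
  exact (range_glue (range_of_allRange c7_0) (range_glue (range_of_allRange c7_1) (range_glue (range_of_allRange c7_2) (range_glue (range_of_allRange c7_3) (range_glue (range_of_allRange c7_4) (range_glue (range_of_allRange c7_5) (range_glue (range_of_allRange c7_6) (range_glue (range_of_allRange c7_7) (range_glue (range_of_allRange c7_8) (range_glue (range_of_allRange c7_9) (range_glue (range_of_allRange c7_10) (range_glue (range_of_allRange c7_11) (range_glue (range_of_allRange c7_12) (range_glue (range_of_allRange c7_13) (range_glue (range_of_allRange c7_14) (range_glue (range_of_allRange c7_15) (range_glue (range_of_allRange c7_16) (range_glue (range_of_allRange c7_17) (range_glue (range_of_allRange c7_18) (range_glue (range_of_allRange c7_19) (range_glue (range_of_allRange c7_20) (range_glue (range_of_allRange c7_21) (range_glue (range_of_allRange c7_22) (range_glue (range_of_allRange c7_23) (range_glue (range_of_allRange c7_24) (range_glue (range_of_allRange c7_25) (range_glue (range_of_allRange c7_26) (range_glue (range_of_allRange c7_27) (range_glue (range_of_allRange c7_28) (range_glue (range_of_allRange c7_29)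 (range_glue (range_of_allRange c7_30) (range_glue (range_of_allRange c7_31) (range_glue (range_of_allRange c7_32) (range_glue (range_of_allRange c7_33) (range_glue (range_of_allRange c7_34) (range_glue (range_of_allRange c7_35) (range_glue (range_of_allRange c7_36) (range_glue (range_of_allRange c7_37) (range_glue (range_of_allRange c7_38) (range_glue (range_of_allRange c7_39) (range_glue (range_of_allRange c7_40) (range_glue (range_of_allRange c7_41) (range_glue (range_of_allRange c7_42) (range_glue (range_of_allRange c7_43) (range_glue (range_of_allRange c7_44) (range_glue (range_of_allRange c7_45) (range_glue (range_of_allRange c7_46) (range_glue (range_of_allRange c7_47) (range_glue (range_of_allRange c7_48) (range_glue (range_of_allRange c7_49) (range_glue (range_of_allRange c7_50) (range_glue (range_of_allRange c7_51) (range_glue (range_of_allRange c7_52) (range_glue (range_of_allRange c7_53) (range_glue (range_of_allRange c7_54) (range_glue (range_of_allRange c7_55) (range_glue (range_of_allRange c7_56) (range_glue (range_of_allRange c7_57) (range_glue (range_of_allRange c7_58) (range_glue (range_of_allRange c7_59)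 (range_glue (range_of_allRange c7_60) (range_glue (range_of_allRange c7_61) (range_glue (range_of_allRange c7_62) (range_glue (range_of_allRange c7_63) (range_glue (range_of_allRange c7_64) (range_glue (range_of_allRange c7_65) (range_glue (range_of_allRange c7_66) (range_glue (range_of_allRange c7_67) (range_glue (range_of_allRange c7_68) (range_glue (range_of_allRange c7_69) (range_glue (range_of_allRange c7_70) (range_glue (range_of_allRange c7_71) (range_glue (range_of_allRange c7_72) (range_glue (range_of_allRange c7_73) (range_glue (range_of_allRange c7_74) (range_glue (range_of_allRange c7_75) (range_glue (range_of_allRange c7_76) (range_glue (range_of_allRange c7_77) (range_glue (range_of_allRange c7_78) (range_glue (range_of_allRange c7_79) (range_glue (range_of_allRange c7_80) (range_glue (range_of_allRange c7_81) (range_glue (range_of_allRange c7_82) (range_glue (range_of_allRange c7_83) (range_glue (range_of_allRange c7_84) (range_glue (range_of_allRange c7_85) (range_glue (range_of_allRange c7_86) (range_glue (range_of_allRange c7_87) (range_glue (range_of_allRange c7_88) (range_glue (range_of_allRange c7_89)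 (range_glue (range_of_allRange c7_90) (range_glue (range_of_allRange c7_91) (range_glue (range_of_allRange c7_92) (range_glue (range_of_allRange c7_93) (range_glue (range_of_allRange c7_94) (range_glue (range_of_allRange c7_95) (range_glue (range_of_allRange c7_96) (range_glue (range_of_allRange c7_97) (range_glue (range_of_allRange c7_98) (range_glue (range_of_allRange c7_99) (range_glue (range_of_allRange c7_100) (range_glue (range_of_allRange c7_101) (range_glue (range_of_allRange c7_102) (range_glue (range_of_allRange c7_103) (range_glue (range_of_allRange c7_104) (range_glue (range_of_allRange c7_105) (range_glue (range_of_allRange c7_106) (range_glue (range_of_allRange c7_107) (range_glue (range_of_allRange c7_108) (range_glue (range_of_allRange c7_109) (range_glue (range_of_allRange c7_110) (range_glue (range_of_allRange c7_111) (range_glue (range_of_allRange c7_112) (range_glue (range_of_allRange c7_113) (range_glue (range_of_allRange c7_114) (range_glue (range_of_allRange c7_115) (range_glue (range_of_allRange c7_116) (range_glue (range_of_allRange c7_117) (range_glue (range_of_allRange c7_118) (range_glue (range_of_allRange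 c7_119) (range_glue (range_of_allRange c7_120) (range_glue (range_of_allRange c7_121) (range_glue (range_of_allRange c7_122) (range_glue (range_of_allRange c7_123) (range_glue (range_of_allRange c7_124) (range_glue (range_of_allRange c7_125) (range_glue (range_of_allRange c7_126) (range_glue (range_of_allRange c7_127) (range_glue (range_of_allRange c7_128) (range_glue (range_of_allRange c7_129) (range_glue (range_of_allRange c7_130) (range_glue (range_of_allRange c7_131) (range_glue (range_of_allRange c7_132) (range_glue (range_of_allRange c7_133) (range_glue (range_of_allRange c7_134) (range_glue (range_of_allRange c7_135) (range_of_allRange c7_136))))))))))))))))))))))))))))))))))))))))))))))))))))))))))))))))))))))))))))))))))))))))))))))))))))))))))))))))))))))))))))))))))))))))) i (Nat.zero_le _) hi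

def chk9 : List Nat := [6, 5, 5, 5, 5, 5, 1, 0, 4, 4, 4, 4, 4, 7]
noncomputable def act9 (i : Nat) : Nat := col7 (col4 (col4 (col4 (col4 (col4 (col0 (col1 (col5 (col5 (col5 (col5 (col5 (col6 (i))))))))))))))
theorem act9_eq (i : Nat) : act9 i = Tab.act T D chk9 i := rfl
theorem c9_0 : allRange (fun i => Nat.beq (act9 i) i) 0 3750 = true := by decide +kernel
theorem c9_1 : allRange (fun i => Nat.beq (act9 i) i) 3750 3750 = true := by decide +kernel
theorem c9_2 : allRange (fun i => Nat.beq (act9 i) i) 7500 3750 = true := by decide +kernel
theorem c9_3 : allRange (fun i => Nat.beq (act9 i) i) 11250 3750 = true := by decide +kernel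
theorem c9_4 : allRange (fun i => Nat.beq (act9 i) i) 15000 3750 = true := by decide +kernel
theorem c9_5 : allRange (fun i => Nat.beq (act9 i) i) 18750 3750 = true := by decide +kernel
theorem c9_6 : allRange (fun i => Nat.beq (act9 i) i) 22500 3750 = true := by decide +kernel
theorem c9_7 : allRange (fun i => Nat.beq (act9 i) i) 26250 3750 = true := by decide +kernel
theorem c9_8 : allRange (fun i => Nat.beq (act9 i) i) 30000 3750 = true := by decide +kernel
theorem c9_9 : allRange (fun i => Nat.beq (act9 i) i) 33750 3750 = true := by decide +kernel
theorem c9_10 : allRange (fun i => Nat.beq (act9 i) i) 37500 3750 = true := by decide +kernel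
theorem c9_11 : allRange (fun i => Nat.beq (act9 i) i) 41250 3750 = true := by decide +kernel
theorem c9_12 : allRange (fun i => Nat.beq (act9 i) i) 45000 1080 = true := by decide +kernel
theorem h9 : ∀ i, i < T.N → Tab.relActOK T D chk9 i = true := by
  intro i hi
  rw [Tab.relActOK, ← act9_eq]
  exact (range_glue (range_of_allRange c9_0) (range_glue (range_of_allRange c9_1) (range_glue (range_of_allRange c9_2) (range_glue (range_of_allRange c9_3) (range_glue (range_of_allRange c9_4) (range_glue (range_of_allRange c9_5) (range_glue (range_of_allRange c9_6) (range_glue (range_of_allRange c9_7) (range_glue (range_of_allRange c9_8) (range_glue (range_of_allRange c9_9) (range_glue (range_of_allRange c9_10) (range_glue (range_of_allRange c9_11) (range_of_allRange c9_12))))))))))))) i (Nat.zero_le _) hi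

end Cfsg.Agent.Lib.Helper4.TCD.C48L34S
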