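import Cfsg.Agent.Lib.Helper4.TC7
import Cfsg.Agent.Lib.Helper4.TCP_C4O82
import Cfsg.Agent.Lib.Helper4.TCD_C4O82B_D0

namespace Cfsg.Agent.Lib.Helper4.TCD.C4O82B

open Cfsg.Agent.Lib.Helper4.TC

set_option maxRecDepth 100000

noncomputable def Atab_s_0_2 (c : Nat) : Nat := @Bool.rec (fun _ => Nat) (Atab_0) (Atab_1) (Nat.ble 1 c)
noncomputable def Atab_s_3_5 (c : Nat) : Nat := @Bool.rec (fun _ => Nat) (Atab_3) (Atab_4) (Nat.ble 4 c)
noncomputable def Atab_s_2_5 (c : Nat) : Nat := @Bool.rec (fun _ => Nat) (Atab_2) (Atab_s_3_5 c) (Nat.ble 3 c)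
noncomputable def Atab_s_0_5 (c : Nat) : Nat := @Bool.rec (fun _ => Nat) (Atab_s_0_2 c) (Atab_s_2_5 c) (Nat.ble 2 c)
noncomputable def Atab (i : Nat) : Nat := rdw 28 268435455 (Atab_s_0_5 (Nat.shiftRight i 11)) (Nat.land i 2047)
noncomputable def Btab_s_1_3 (c : Nat) : Nat := @Bool.rec (fun _ => Nat) (Btab_1) (Btab_2) (Nat.ble 2 c)
noncomputable def Btab_s_0_3 (c : Nat) : Nat := @Bool.rec (fun _ => Nat) (Btab_0) (Btab_s_1_3 c) (Nat.ble 1 c)
noncomputable def Btab (i : Nat) : Nat := rdw 34 17179869183 (Btab_s_0_3 (Nat.shiftRight i 11)) (Nat.land i 2047)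
noncomputable def Ptab_s_0_2 (c : Nat) : Nat := @Bool.rec (fun _ => Nat) (Ptab_0) (Ptab_1) (Nat.ble 1 c)
noncomputable def Ptab_s_3_5 (c : Nat) : Nat := @Bool.rec (fun _ => Nat) (Ptab_3) (Ptab_4) (Nat.ble 4 c)
noncomputable def Ptab_s_2_5 (c : Nat) : Nat := @Bool.rec (fun _ => Nat) (Ptab_2) (Ptab_s_3_5 c) (Nat.ble 3 c)
noncomputable def Ptab_s_0_5 (c : Nat) : Nat := @Bool.rec (fun _ => Nat) (Ptab_s_0_2 c) (Ptab_s_2_5 c) (Nat.ble 2 c)
noncomputable def Ptab (i : Nat) : Nat := rdw 15 32767 (Ptab_s_0_5 (Nat.shiftRight i 12)) (Nat.land i 4095)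
noncomputable def RRtab (i : Nat) : Nat := rdw 4 15 RRtab_0 i
noncomputable def rBtab (i : Nat) : Nat := rdw 10 1023 rBtab_0 i
noncomputable def rLtab (i : Nat) : Nat := rdw 6 63 rLtab_0 i
noncomputable def nameTab (i : Nat) : Nat := rdw 12 4095 nameTab_0 i
noncomputable def col0 (i : Nat) : Nat := rdw 8 255 col0_0 i
noncomputable def col1 (i : Nat) : Nat := rdw 8 255 col1_0 i
noncomputable def col2 (i : Nat) : Nat := rdw 8 255 col2_0 i
noncomputable def col3 (i : Nat) : Nat := rdw 8 255 col3_0 i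
noncomputable def col4 (i : Nat) : Nat := rdw 8 255 col4_0 i
noncomputable def col5 (i : Nat) : Nat := rdw 8 255 col5_0 i
noncomputable def col6 (i : Nat) : Nat := rdw 8 255 col6_0 i
noncomputable def col7 (i : Nat) : Nat := rdw 8 255 col7_0 i
noncomputable def col8 (i : Nat) : Nat := rdw 8 255 col8_0 i
noncomputable def col9 (i : Nat) : Nat := rdw 8 255 col9_0 i
noncomputable def finTab (i : Nat) : Nat := rdw 15 32767 finTab_0 i
noncomputable def clsTab (i : Nat) : Nat := rdw 8 255 clsTab_0 i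
noncomputable def oparTab (i : Nat) : Nat := rdw 8 255 oparTab_0 i
noncomputable def olabTab (i : Nat) : Nat := rdw 2 3 olabTab_0 i
noncomputable def srcF (t : Nat) : Nat := Nat.land (Atab t) 4095
noncomputable def tgtF (t : Nat) : Nat := Nat.land (Nat.shiftRight (Atab t) 12) 4095
noncomputable def ltF (t : Nat) : Nat := Nat.shiftRight (Atab t) 24
noncomputable def rhoF (t : Nat) : Nat := Nat.land (Btab (Nat.sub t 2582)) 127
noncomputable def rotF (t : Nat) : Nat := Nat.land (Nat.shiftRight (Btab (Nat.sub t 2582)) 7) 63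
noncomputable def lenF (t : Nat) : Nat := Nat.land (Nat.shiftRight (Btab (Nat.sub t 2582)) 13) 63
noncomputable def offF (t : Nat) : Nat := Nat.shiftRight (Btab (Nat.sub t 2582)) 19
noncomputable def pfF (j : Nat) : Nat := Nat.shiftRight (Ptab j) 1
noncomputable def pdF (j : Nat) : Nat := Nat.land (Ptab j) 1
noncomputable def tblF (i x : Nat) : Nat := @Bool.rec (fun _ => Nat) (@Bool.rec (fun _ => Nat) (@Bool.rec (fun _ => Nat) (col0 i) (col1 i) (Nat.ble 1 x)) (@Bool.rec (fun _ => Nat) (col2 i) (@Bool.rec (fun _ => Nat) (col3 i) (col4 i) (Nat.ble 4 x)) (Nat.ble 3 x)) (Nat.ble 2 x)) (@Bool.rec (fun _ => Nat) (@Bool.rec (fun _ => Nat) (col5 i) (col6 i) (Nat.ble 6 x)) (@Bool.rec (fun _ => Nat) (col7 i) (@Bool.rec (fun _ => Nat) (col8 i) (col9 i) (Nat.ble 9 x)) (Nat.ble 8 x)) (Nat.ble 7 x)) (Nat.ble 5 x)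
noncomputable def finE (i x : Nat) : Nat := finTab (Nat.add (Nat.mul i 10) x)
noncomputable def finFF (i x : Nat) : Nat := Nat.shiftRight (finE i x) 1
noncomputable def finDF (i x : Nat) : Nat := Nat.land (finE i x) 1

noncomputable def D : Log :=
  { k := 10, inv := invE 10 PC4O82.invR, nR := 66, rBase := rBtab, rLen := rLtab, RR := RRtab,
    M := 2578, nB := 4, F := 8514, src := srcF, lt := ltF, tgt := tgtF, rho := rhoF, rot := rotF,
    off := offF, len := lenF, pf := pfF, pd := pdF }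

noncomputable def T : Tab :=
  { N := 240, nameOf := nameTab, tbl := tblF, finF := finFF, finD := finDF, cls := clsTab }

def subs : List (List Nat) := [
  [0],
  [2] ]

def rw0 : List Nat := [0, 0, 0, 0, 0, 0, 0]
def rw1 : List Nat := [2, 2, 9]
def rw2 : List Nat := [2, 0, 2, 0, 2, 0, 2, 0, 2, 0, 2, 0, 2, 0, 2, 0, 2, 0]
def rw3 : List Nat := [2, 0, 0, 2, 0, 0, 2, 0, 0, 2, 0, 0, 2, 0, 0, 2, 0, 0, 2, 0, 0, 2, 0, 0, 2, 0, 0, 2, 0, 0, 2, 0, 0, 2, 0, 0]
def rw4 : List Nat := [2, 0, 3, 1, 2, 0, 3, 1, 2, 0, 3, 1, 9]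
def rw5 : List Nat := [2, 0, 0, 3, 1, 1, 2, 0, 0, 3, 1, 1, 9]
def rw6 : List Nat := [4, 4, 9]
def rw7 : List Nat := [2, 4, 2, 4, 2, 4, 7]
def rw8 : List Nat := [0, 0, 0, 2, 1, 4, 2, 0, 2, 1, 4, 1, 1, 2]
def rw9 : List Nat := [0, 0, 2, 1, 2, 1, 4, 0, 2, 0, 2, 1, 1, 4, 9]
def rw10 : List Nat := [0, 0, 0, 2, 1, 4, 2, 1, 1, 2, 0, 0, 4, 0, 2, 1, 2, 1, 1, 2]
def rw11 : List Nat := [0, 0, 0, 2, 1, 2, 0, 0, 0, 2, 1, 2, 0, 2, 0, 0, 2, 0, 0, 2, 0, 4, 1, 2, 4, 2, 0, 4, 1, 1, 1, 2]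
def rw12 : List Nat := [6, 6]
def rw13 : List Nat := [8, 8]
def rw14 : List Nat := [7, 1, 6, 0]
def rw15 : List Nat := [7, 3, 6, 2]
def rw16 : List Nat := [7, 5, 6, 4]
def rw17 : List Nat := [9, 1, 8, 0]
def rw18 : List Nat := [9, 3, 8, 2]
def rw19 : List Nat := [9, 5, 8, 4]
def rw20 : List Nat := [7, 9, 6, 8]
def realLit : List (List Nat) := [rw0, rw1, rw2, rw3, rw4, rw5, rw6, rw7, rw8, rw9, rw10, rw11, rw12, rw13, rw14, rw15, rw16, rw17, rw18, rw19, rw20]
noncomputable def actR0 (i : Nat) : Nat := col1 (col1 (col1 (col1 (col1 (col1 (col1 (i)))))))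
theorem actR0_eq (i : Nat) : actR0 i = Tab.act T D rw0 i := rfl
noncomputable def actR1 (i : Nat) : Nat := col3 (col3 (col8 (i)))
theorem actR1_eq (i : Nat) : actR1 i = Tab.act T D rw1 i := rfl
noncomputable def actR2 (i : Nat) : Nat := col3 (col1 (col3 (col1 (col3 (col1 (col3 (col1 (col3 (col1 (col3 (col1 (col3 (col1 (col3 (col1 (col3 (col1 (i))))))))))))))))))
theorem actR2_eq (i : Nat) : actR2 i = Tab.act T D rw2 i := rfl
noncomputable def actR3 (i : Nat) : Nat := col3 (col1 (col1 (col3 (col1 (col1 (col3 (col1 (col1 (col3 (col1 (col1 (col3 (col1 (col1 (col3 (col1 (col1 (col3 (col1 (col1 (col3 (col1 (col1 (col3 (col1 (col1 (col3 (col1 (col1 (col3 (col1 (col1 (col3 (col1 (col1 (i))))))))))))))))))))))))))))))))))))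
theorem actR3_eq (i : Nat) : actR3 i = Tab.act T D rw3 i := rfl
noncomputable def actR4 (i : Nat) : Nat := col3 (col1 (col2 (col0 (col3 (col1 (col2 (col0 (col3 (col1 (col2 (col0 (col8 (i)))))))))))))
theorem actR4_eq (i : Nat) : actR4 i = Tab.act T D rw4 i := rfl
noncomputable def actR5 (i : Nat) : Nat := col3 (col1 (col1 (col2 (col0 (col0 (col3 (col1 (col1 (col2 (col0 (col0 (col8 (i)))))))))))))
theorem actR5_eq (i : Nat) : actR5 i = Tab.act T D rw5 i := rfl
noncomputable def actR6 (i : Nat) : Nat := col5 (col5 (col8 (i)))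
theorem actR6_eq (i : Nat) : actR6 i = Tab.act T D rw6 i := rfl
noncomputable def actR7 (i : Nat) : Nat := col3 (col5 (col3 (col5 (col3 (col5 (col6 (i)))))))
theorem actR7_eq (i : Nat) : actR7 i = Tab.act T D rw7 i := rfl
noncomputable def actR8 (i : Nat) : Nat := col1 (col1 (col1 (col3 (col0 (col5 (col3 (col1 (col3 (col0 (col5 (col0 (col0 (col3 (i))))))))))))))
theorem actR8_eq (i : Nat) : actR8 i = Tab.act T D rw8 i := rfl
noncomputable def actR9 (i : Nat) : Nat := col1 (col1 (col3 (col0 (col3 (col0 (col5 (col1 (col3 (col1 (col3 (col0 (col0 (col5 (col8 (i)))))))))))))))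
theorem actR9_eq (i : Nat) : actR9 i = Tab.act T D rw9 i := rfl
noncomputable def actR10 (i : Nat) : Nat := col1 (col1 (col1 (col3 (col0 (col5 (col3 (col0 (col0 (col3 (col1 (col1 (col5 (col1 (col3 (col0 (col3 (col0 (col0 (col3 (i))))))))))))))))))))
theorem actR10_eq (i : Nat) : actR10 i = Tab.act T D rw10 i := rfl
noncomputable def actR11 (i : Nat) : Nat := col1 (col1 (col1 (col3 (col0 (col3 (col1 (col1 (col1 (col3 (col0 (col3 (col1 (col3 (col1 (col1 (col3 (col1 (col1 (col3 (col1 (col5 (col0 (col3 (col5 (col3 (col1 (col5 (col0 (col0 (col0 (col3 (i))))))))))))))))))))))))))))))))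
theorem actR11_eq (i : Nat) : actR11 i = Tab.act T D rw11 i := rfl
noncomputable def actR12 (i : Nat) : Nat := col7 (col7 (i))
theorem actR12_eq (i : Nat) : actR12 i = Tab.act T D rw12 i := rfl
noncomputable def actR13 (i : Nat) : Nat := col9 (col9 (i))
theorem actR13_eq (i : Nat) : actR13 i = Tab.act T D rw13 i := rfl
noncomputable def actR14 (i : Nat) : Nat := col6 (col0 (col7 (col1 (i))))
theorem actR14_eq (i : Nat) : actR14 i = Tab.act T D rw14 i := rfl
noncomputable def actR15 (i : Nat) : Nat := col6 (col2 (col7 (col3 (i))))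
theorem actR15_eq (i : Nat) : actR15 i = Tab.act T D rw15 i := rfl
noncomputable def actR16 (i : Nat) : Nat := col6 (col4 (col7 (col5 (i))))
theorem actR16_eq (i : Nat) : actR16 i = Tab.act T D rw16 i := rfl
noncomputable def actR17 (i : Nat) : Nat := col8 (col0 (col9 (col1 (i))))
theorem actR17_eq (i : Nat) : actR17 i = Tab.act T D rw17 i := rfl
noncomputable def actR18 (i : Nat) : Nat := col8 (col2 (col9 (col3 (i))))
theorem actR18_eq (i : Nat) : actR18 i = Tab.act T D rw18 i := rfl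
noncomputable def actR19 (i : Nat) : Nat := col8 (col4 (col9 (col5 (i))))
theorem actR19_eq (i : Nat) : actR19 i = Tab.act T D rw19 i := rfl
noncomputable def actR20 (i : Nat) : Nat := col6 (col8 (col7 (col9 (i))))
theorem actR20_eq (i : Nat) : actR20 i = Tab.act T D rw20 i := rfl

end Cfsg.Agent.Lib.Helper4.TCD.C4O82B
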