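import Cfsg.Agent.Lib.Helper4.TC14
import Cfsg.Agent.Lib.Helper4.TCP_C4O82
import Cfsg.Agent.Lib.Helper4.TCD_C4O82R_D0

namespace Cfsg.Agent.Lib.Helper4.TCD.C4O82R

open Cfsg.Agent.Lib.Helper4.TC

set_option maxRecDepth 100000

noncomputable def col0 (i : Nat) : Nat := rdw 9 511 col0_0 i
noncomputable def col1 (i : Nat) : Nat := rdw 9 511 col1_0 i
noncomputable def col2 (i : Nat) : Nat := rdw 9 511 col2_0 i
noncomputable def col3 (i : Nat) : Nat := rdw 9 511 col3_0 i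
noncomputable def col4 (i : Nat) : Nat := rdw 9 511 col4_0 i
noncomputable def col5 (i : Nat) : Nat := rdw 9 511 col5_0 i
noncomputable def col6 (i : Nat) : Nat := rdw 9 511 col6_0 i
noncomputable def col7 (i : Nat) : Nat := rdw 9 511 col7_0 i
noncomputable def col8 (i : Nat) : Nat := rdw 9 511 col8_0 i
noncomputable def col9 (i : Nat) : Nat := rdw 9 511 col9_0 i
noncomputable def tblF (i x : Nat) : Nat := @Bool.rec (fun _ => Nat) (@Bool.rec (fun _ => Nat) (@Bool.rec (fun _ => Nat) (col0 i) (col1 i) (Nat.ble 1 x)) (@Bool.rec (fun _ => Nat) (col2 i) (@Bool.rec (fun _ => Nat) (col3 i) (col4 i) (Nat.ble 4 x)) (Nat.ble 3 x)) (Nat.ble 2 x)) (@Bool.rec (fun _ => Nat) (@Bool.rec (fun _ => Nat) (col5 i) (col6 i) (Nat.ble 6 x)) (@Bool.rec (fun _ => Nat) (col7 i) (@Bool.rec (fun _ => Nat) (col8 i) (col9 i) (Nat.ble 9 x)) (Nat.ble 8 x)) (Nat.ble 7 x)) (Nat.ble 5 x)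

noncomputable def D : Log :=
  { k := 10, inv := PC4O82.invR, nR := 0, rBase := fun _ => 0, rLen := fun _ => 0, RR := fun _ => 0,
    M := 0, nB := 0, F := 0, src := fun _ => 0, lt := fun _ => 0, tgt := fun _ => 0, rho := fun _ => 0, rot := fun _ => 0,
    off := fun _ => 0, len := fun _ => 0, pf := fun _ => 0, pd := fun _ => 0 }

noncomputable def T : Tab :=
  { N := 480, nameOf := fun _ => 0, tbl := tblF, finF := fun _ _ => 0, finD := fun _ _ => 0, cls := fun _ => 0 }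

def rw0 : List Nat := [0, 0, 0, 0, 0, 0, 0]
def rw1 : List Nat := [2, 2, 9]
def rw2 : List Nat := [2, 0, 2, 0, 2, 0, 2, 0, 2, 0, 2, 0, 2, 0, 2, 0, 2, 0]
def rw3 : List Nat := [2, 0, 0, 2, 0, 0, 2, 0, 0, 2, 0, 0, 2, 0, 0, 2, 0, 0, 2, 0, 0, 2, 0, 0, 2, 0, 0, 2, 0, 0, 2, 0, 0, 2, 0, 0]
def rw4 : List Nat := [2, 0, 3, 1, 2, 0, 3, 1, 2, 0, 3, 1, 9]
def rw5 : List Nat := [2, 0, 0, 3, 1, 1, 2, 0, 0, 3, 1, 1, 9]
def rw6 : List Nat := [4, 4, 9]
def rw7 : List Nat := [2, 4, 2, 4, 2, 4, 7]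
def rw8 : List Nat := [0, 0, 0, 2, 1, 4, 2, 0, 2, 1, 4, 1, 1, 2]
def rw9 : List Nat := [0, 0, 2, 1, 2, 1, 4, 0, 2, 0, 2, 1, 1, 4, 9]
def rw10 : List Nat := [0, 0, 0, 2, 1, 4, 2, 1, 1, 2, 0, 0, 4, 0, 2, 1, 2, 1, 1, 2]
def rw11 : List Nat := [0, 0, 0, 2, 1, 2, 0, 0, 0, 2, 1, 2, 0, 2, 0, 0, 2, 0, 0, 2, 0, 4, 1, 2, 4, 2, 0, 4, 1, 1, 1, 2]
def rw12 : List Nat := [6, 6]
def rw13 : List Nat := [8, 8]
def rw14 : List Nat := [7, 1, 6, 0]
def rw15 : List Nat := [7, 3, 6, 2]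
def rw16 : List Nat := [7, 5, 6, 4]
def rw17 : List Nat := [9, 1, 8, 0]
def rw18 : List Nat := [9, 3, 8, 2]
def rw19 : List Nat := [9, 5, 8, 4]
def rw20 : List Nat := [7, 9, 6, 8]
def realLit : List (List Nat) := [rw0, rw1, rw2, rw3, rw4, rw5, rw6, rw7, rw8, rw9, rw10, rw11, rw12, rw13, rw14, rw15, rw16, rw17, rw18, rw19, rw20]
noncomputable def actR0 (i : Nat) : Nat := col1 (col1 (col1 (col1 (col1 (col1 (col1 (i)))))))
theorem actR0_eq (i : Nat) : actR0 i = Tab.act T D rw0 i := rfl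
noncomputable def actR1 (i : Nat) : Nat := col3 (col3 (col8 (i)))
theorem actR1_eq (i : Nat) : actR1 i = Tab.act T D rw1 i := rfl
noncomputable def actR2 (i : Nat) : Nat := col3 (col1 (col3 (col1 (col3 (col1 (col3 (col1 (col3 (col1 (col3 (col1 (col3 (col1 (col3 (col1 (col3 (col1 (i))))))))))))))))))
theorem actR2_eq (i : Nat) : actR2 i = Tab.act T D rw2 i := rfl
noncomputable def actR3 (i : Nat) : Nat := col3 (col1 (col1 (col3 (col1 (col1 (col3 (col1 (col1 (col3 (col1 (col1 (col3 (col1 (col1 (col3 (col1 (col1 (col3 (col1 (col1 (col3 (col1 (col1 (col3 (col1 (col1 (col3 (col1 (col1 (col3 (col1 (col1 (col3 (col1 (col1 (i))))))))))))))))))))))))))))))))))))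
theorem actR3_eq (i : Nat) : actR3 i = Tab.act T D rw3 i := rfl
noncomputable def actR4 (i : Nat) : Nat := col3 (col1 (col2 (col0 (col3 (col1 (col2 (col0 (col3 (col1 (col2 (col0 (col8 (i)))))))))))))
theorem actR4_eq (i : Nat) : actR4 i = Tab.act T D rw4 i := rfl
noncomputable def actR5 (i : Nat) : Nat := col3 (col1 (col1 (col2 (col0 (col0 (col3 (col1 (col1 (col2 (col0 (col0 (col8 (i)))))))))))))
theorem actR5_eq (i : Nat) : actR5 i = Tab.act T D rw5 i := rfl
noncomputable def actR6 (i : Nat) : Nat := col5 (col5 (col8 (i)))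
theorem actR6_eq (i : Nat) : actR6 i = Tab.act T D rw6 i := rfl
noncomputable def actR7 (i : Nat) : Nat := col3 (col5 (col3 (col5 (col3 (col5 (col6 (i)))))))
theorem actR7_eq (i : Nat) : actR7 i = Tab.act T D rw7 i := rfl
noncomputable def actR8 (i : Nat) : Nat := col1 (col1 (col1 (col3 (col0 (col5 (col3 (col1 (col3 (col0 (col5 (col0 (col0 (col3 (i))))))))))))))
theorem actR8_eq (i : Nat) : actR8 i = Tab.act T D rw8 i := rfl
noncomputable def actR9 (i : Nat) : Nat := col1 (col1 (col3 (col0 (col3 (col0 (col5 (col1 (col3 (col1 (col3 (col0 (col0 (col5 (col8 (i)))))))))))))))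
theorem actR9_eq (i : Nat) : actR9 i = Tab.act T D rw9 i := rfl
noncomputable def actR10 (i : Nat) : Nat := col1 (col1 (col1 (col3 (col0 (col5 (col3 (col0 (col0 (col3 (col1 (col1 (col5 (col1 (col3 (col0 (col3 (col0 (col0 (col3 (i))))))))))))))))))))
theorem actR10_eq (i : Nat) : actR10 i = Tab.act T D rw10 i := rfl
noncomputable def actR11 (i : Nat) : Nat := col1 (col1 (col1 (col3 (col0 (col3 (col1 (col1 (col1 (col3 (col0 (col3 (col1 (col3 (col1 (col1 (col3 (col1 (col1 (col3 (col1 (col5 (col0 (col3 (col5 (col3 (col1 (col5 (col0 (col0 (col0 (col3 (i))))))))))))))))))))))))))))))))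
theorem actR11_eq (i : Nat) : actR11 i = Tab.act T D rw11 i := rfl
noncomputable def actR12 (i : Nat) : Nat := col7 (col7 (i))
theorem actR12_eq (i : Nat) : actR12 i = Tab.act T D rw12 i := rfl
noncomputable def actR13 (i : Nat) : Nat := col9 (col9 (i))
theorem actR13_eq (i : Nat) : actR13 i = Tab.act T D rw13 i := rfl
noncomputable def actR14 (i : Nat) : Nat := col6 (col0 (col7 (col1 (i))))
theorem actR14_eq (i : Nat) : actR14 i = Tab.act T D rw14 i := rfl
noncomputable def actR15 (i : Nat) : Nat := col6 (col2 (col7 (col3 (i))))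
theorem actR15_eq (i : Nat) : actR15 i = Tab.act T D rw15 i := rfl
noncomputable def actR16 (i : Nat) : Nat := col6 (col4 (col7 (col5 (i))))
theorem actR16_eq (i : Nat) : actR16 i = Tab.act T D rw16 i := rfl
noncomputable def actR17 (i : Nat) : Nat := col8 (col0 (col9 (col1 (i))))
theorem actR17_eq (i : Nat) : actR17 i = Tab.act T D rw17 i := rfl
noncomputable def actR18 (i : Nat) : Nat := col8 (col2 (col9 (col3 (i))))
theorem actR18_eq (i : Nat) : actR18 i = Tab.act T D rw18 i := rfl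
noncomputable def actR19 (i : Nat) : Nat := col8 (col4 (col9 (col5 (i))))
theorem actR19_eq (i : Nat) : actR19 i = Tab.act T D rw19 i := rfl
noncomputable def actR20 (i : Nat) : Nat := col6 (col8 (col7 (col9 (i))))
theorem actR20_eq (i : Nat) : actR20 i = Tab.act T D rw20 i := rfl

end Cfsg.Agent.Lib.Helper4.TCD.C4O82R
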