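import Cfsg.Agent.Lib.Helper4.TC7
import Cfsg.Agent.Lib.Helper4.TCP_C4Sz8
import Cfsg.Agent.Lib.Helper4.TCD_C4Sz8B_D0
import Cfsg.Agent.Lib.Helper4.TCD_C4Sz8B_D1

namespace Cfsg.Agent.Lib.Helper4.TCD.C4Sz8B

open Cfsg.Agent.Lib.Helper4.TC

set_option maxRecDepth 100000

noncomputable def Atab_s_1_3 (c : Nat) : Nat := @Bool.rec (fun _ => Nat) (Atab_1) (Atab_2) (Nat.ble 2 c)
noncomputable def Atab_s_0_3 (c : Nat) : Nat := @Bool.rec (fun _ => Nat) (Atab_0) (Atab_s_1_3 c) (Nat.ble 1 c)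
noncomputable def Atab_s_3_5 (c : Nat) : Nat := @Bool.rec (fun _ => Nat) (Atab_3) (Atab_4) (Nat.ble 4 c)
noncomputable def Atab_s_5_7 (c : Nat) : Nat := @Bool.rec (fun _ => Nat) (Atab_5) (Atab_6) (Nat.ble 6 c)
noncomputable def Atab_s_3_7 (c : Nat) : Nat := @Bool.rec (fun _ => Nat) (Atab_s_3_5 c) (Atab_s_5_7 c) (Nat.ble 5 c)
noncomputable def Atab_s_0_7 (c : Nat) : Nat := @Bool.rec (fun _ => Nat) (Atab_s_0_3 c) (Atab_s_3_7 c) (Nat.ble 3 c)
noncomputable def Atab_s_7_9 (c : Nat) : Nat := @Bool.rec (fun _ => Nat) (Atab_7) (Atab_8) (Nat.ble 8 c)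
noncomputable def Atab_s_9_11 (c : Nat) : Nat := @Bool.rec (fun _ => Nat) (Atab_9) (Atab_10) (Nat.ble 10 c)
noncomputable def Atab_s_7_11 (c : Nat) : Nat := @Bool.rec (fun _ => Nat) (Atab_s_7_9 c) (Atab_s_9_11 c) (Nat.ble 9 c)
noncomputable def Atab_s_11_13 (c : Nat) : Nat := @Bool.rec (fun _ => Nat) (Atab_11) (Atab_12) (Nat.ble 12 c)
noncomputable def Atab_s_13_15 (c : Nat) : Nat := @Bool.rec (fun _ => Nat) (Atab_13) (Atab_14) (Nat.ble 14 c)
noncomputable def Atab_s_11_15 (c : Nat) : Nat := @Bool.rec (fun _ => Nat) (Atab_s_11_13 c) (Atab_s_13_15 c) (Nat.ble 13 c)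
noncomputable def Atab_s_7_15 (c : Nat) : Nat := @Bool.rec (fun _ => Nat) (Atab_s_7_11 c) (Atab_s_11_15 c) (Nat.ble 11 c)
noncomputable def Atab_s_0_15 (c : Nat) : Nat := @Bool.rec (fun _ => Nat) (Atab_s_0_7 c) (Atab_s_7_15 c) (Nat.ble 7 c)
noncomputable def Atab_s_15_17 (c : Nat) : Nat := @Bool.rec (fun _ => Nat) (Atab_15) (Atab_16) (Nat.ble 16 c)
noncomputable def Atab_s_17_19 (c : Nat) : Nat := @Bool.rec (fun _ => Nat) (Atab_17) (Atab_18) (Nat.ble 18 c)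
noncomputable def Atab_s_15_19 (c : Nat) : Nat := @Bool.rec (fun _ => Nat) (Atab_s_15_17 c) (Atab_s_17_19 c) (Nat.ble 17 c)
noncomputable def Atab_s_19_21 (c : Nat) : Nat := @Bool.rec (fun _ => Nat) (Atab_19) (Atab_20) (Nat.ble 20 c)
noncomputable def Atab_s_21_23 (c : Nat) : Nat := @Bool.rec (fun _ => Nat) (Atab_21) (Atab_22) (Nat.ble 22 c)
noncomputable def Atab_s_19_23 (c : Nat) : Nat := @Bool.rec (fun _ => Nat) (Atab_s_19_21 c) (Atab_s_21_23 c) (Nat.ble 21 c)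
noncomputable def Atab_s_15_23 (c : Nat) : Nat := @Bool.rec (fun _ => Nat) (Atab_s_15_19 c) (Atab_s_19_23 c) (Nat.ble 19 c)
noncomputable def Atab_s_23_25 (c : Nat) : Nat := @Bool.rec (fun _ => Nat) (Atab_23) (Atab_24) (Nat.ble 24 c)
noncomputable def Atab_s_25_27 (c : Nat) : Nat := @Bool.rec (fun _ => Nat) (Atab_25) (Atab_26) (Nat.ble 26 c)
noncomputable def Atab_s_23_27 (c : Nat) : Nat := @Bool.rec (fun _ => Nat) (Atab_s_23_25 c) (Atab_s_25_27 c) (Nat.ble 25 c)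
noncomputable def Atab_s_27_29 (c : Nat) : Nat := @Bool.rec (fun _ => Nat) (Atab_27) (Atab_28) (Nat.ble 28 c)
noncomputable def Atab_s_29_31 (c : Nat) : Nat := @Bool.rec (fun _ => Nat) (Atab_29) (Atab_30) (Nat.ble 30 c)
noncomputable def Atab_s_27_31 (c : Nat) : Nat := @Bool.rec (fun _ => Nat) (Atab_s_27_29 c) (Atab_s_29_31 c) (Nat.ble 29 c)
noncomputable def Atab_s_23_31 (c : Nat) : Nat := @Bool.rec (fun _ => Nat) (Atab_s_23_27 c) (Atab_s_27_31 c) (Nat.ble 27 c)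
noncomputable def Atab_s_15_31 (c : Nat) : Nat := @Bool.rec (fun _ => Nat) (Atab_s_15_23 c) (Atab_s_23_31 c) (Nat.ble 23 c)
noncomputable def Atab_s_0_31 (c : Nat) : Nat := @Bool.rec (fun _ => Nat) (Atab_s_0_15 c) (Atab_s_15_31 c) (Nat.ble 15 c)
noncomputable def Atab (i : Nat) : Nat := rdw 32 4294967295 (Atab_s_0_31 (Nat.shiftRight i 11)) (Nat.land i 2047)
noncomputable def Btab_s_0_2 (c : Nat) : Nat := @Bool.rec (fun _ => Nat) (Btab_0) (Btab_1) (Nat.ble 1 c)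
noncomputable def Btab_s_3_5 (c : Nat) : Nat := @Bool.rec (fun _ => Nat) (Btab_3) (Btab_4) (Nat.ble 4 c)
noncomputable def Btab_s_2_5 (c : Nat) : Nat := @Bool.rec (fun _ => Nat) (Btab_2) (Btab_s_3_5 c) (Nat.ble 3 c)
noncomputable def Btab_s_0_5 (c : Nat) : Nat := @Bool.rec (fun _ => Nat) (Btab_s_0_2 c) (Btab_s_2_5 c) (Nat.ble 2 c)
noncomputable def Btab_s_6_8 (c : Nat) : Nat := @Bool.rec (fun _ => Nat) (Btab_6) (Btab_7) (Nat.ble 7 c)
noncomputable def Btab_s_5_8 (c : Nat) : Nat := @Bool.rec (fun _ => Nat) (Btab_5) (Btab_s_6_8 c) (Nat.ble 6 c)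
noncomputable def Btab_s_9_11 (c : Nat) : Nat := @Bool.rec (fun _ => Nat) (Btab_9) (Btab_10) (Nat.ble 10 c)
noncomputable def Btab_s_8_11 (c : Nat) : Nat := @Bool.rec (fun _ => Nat) (Btab_8) (Btab_s_9_11 c) (Nat.ble 9 c)
noncomputable def Btab_s_5_11 (c : Nat) : Nat := @Bool.rec (fun _ => Nat) (Btab_s_5_8 c) (Btab_s_8_11 c) (Nat.ble 8 c)
noncomputable def Btab_s_0_11 (c : Nat) : Nat := @Bool.rec (fun _ => Nat) (Btab_s_0_5 c) (Btab_s_5_11 c) (Nat.ble 5 c)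
noncomputable def Btab_s_12_14 (c : Nat) : Nat := @Bool.rec (fun _ => Nat) (Btab_12) (Btab_13) (Nat.ble 13 c)
noncomputable def Btab_s_11_14 (c : Nat) : Nat := @Bool.rec (fun _ => Nat) (Btab_11) (Btab_s_12_14 c) (Nat.ble 12 c)
noncomputable def Btab_s_15_17 (c : Nat) : Nat := @Bool.rec (fun _ => Nat) (Btab_15) (Btab_16) (Nat.ble 16 c)
noncomputable def Btab_s_14_17 (c : Nat) : Nat := @Bool.rec (fun _ => Nat) (Btab_14) (Btab_s_15_17 c) (Nat.ble 15 c)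
noncomputable def Btab_s_11_17 (c : Nat) : Nat := @Bool.rec (fun _ => Nat) (Btab_s_11_14 c) (Btab_s_14_17 c) (Nat.ble 14 c)
noncomputable def Btab_s_18_20 (c : Nat) : Nat := @Bool.rec (fun _ => Nat) (Btab_18) (Btab_19) (Nat.ble 19 c)
noncomputable def Btab_s_17_20 (c : Nat) : Nat := @Bool.rec (fun _ => Nat) (Btab_17) (Btab_s_18_20 c) (Nat.ble 18 c)
noncomputable def Btab_s_21_23 (c : Nat) : Nat := @Bool.rec (fun _ => Nat) (Btab_21) (Btab_22) (Nat.ble 22 c)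
noncomputable def Btab_s_20_23 (c : Nat) : Nat := @Bool.rec (fun _ => Nat) (Btab_20) (Btab_s_21_23 c) (Nat.ble 21 c)
noncomputable def Btab_s_17_23 (c : Nat) : Nat := @Bool.rec (fun _ => Nat) (Btab_s_17_20 c) (Btab_s_20_23 c) (Nat.ble 20 c)
noncomputable def Btab_s_11_23 (c : Nat) : Nat := @Bool.rec (fun _ => Nat) (Btab_s_11_17 c) (Btab_s_17_23 c) (Nat.ble 17 c)
noncomputable def Btab_s_0_23 (c : Nat) : Nat := @Bool.rec (fun _ => Nat) (Btab_s_0_11 c) (Btab_s_11_23 c) (Nat.ble 11 c)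
noncomputable def Btab (i : Nat) : Nat := rdw 37 137438953471 (Btab_s_0_23 (Nat.shiftRight i 11)) (Nat.land i 2047)
noncomputable def Ptab_s_1_3 (c : Nat) : Nat := @Bool.rec (fun _ => Nat) (Ptab_1) (Ptab_2) (Nat.ble 2 c)
noncomputable def Ptab_s_0_3 (c : Nat) : Nat := @Bool.rec (fun _ => Nat) (Ptab_0) (Ptab_s_1_3 c) (Nat.ble 1 c)
noncomputable def Ptab_s_3_5 (c : Nat) : Nat := @Bool.rec (fun _ => Nat) (Ptab_3) (Ptab_4) (Nat.ble 4 c)
noncomputable def Ptab_s_5_7 (c : Nat) : Nat := @Bool.rec (fun _ => Nat) (Ptab_5) (Ptab_6) (Nat.ble 6 c)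
noncomputable def Ptab_s_3_7 (c : Nat) : Nat := @Bool.rec (fun _ => Nat) (Ptab_s_3_5 c) (Ptab_s_5_7 c) (Nat.ble 5 c)
noncomputable def Ptab_s_0_7 (c : Nat) : Nat := @Bool.rec (fun _ => Nat) (Ptab_s_0_3 c) (Ptab_s_3_7 c) (Nat.ble 3 c)
noncomputable def Ptab_s_7_9 (c : Nat) : Nat := @Bool.rec (fun _ => Nat) (Ptab_7) (Ptab_8) (Nat.ble 8 c)
noncomputable def Ptab_s_9_11 (c : Nat) : Nat := @Bool.rec (fun _ => Nat) (Ptab_9) (Ptab_10) (Nat.ble 10 c)
noncomputable def Ptab_s_7_11 (c : Nat) : Nat := @Bool.rec (fun _ => Nat) (Ptab_s_7_9 c) (Ptab_s_9_11 c) (Nat.ble 9 c)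
noncomputable def Ptab_s_11_13 (c : Nat) : Nat := @Bool.rec (fun _ => Nat) (Ptab_11) (Ptab_12) (Nat.ble 12 c)
noncomputable def Ptab_s_13_15 (c : Nat) : Nat := @Bool.rec (fun _ => Nat) (Ptab_13) (Ptab_14) (Nat.ble 14 c)
noncomputable def Ptab_s_11_15 (c : Nat) : Nat := @Bool.rec (fun _ => Nat) (Ptab_s_11_13 c) (Ptab_s_13_15 c) (Nat.ble 13 c)
noncomputable def Ptab_s_7_15 (c : Nat) : Nat := @Bool.rec (fun _ => Nat) (Ptab_s_7_11 c) (Ptab_s_11_15 c) (Nat.ble 11 c)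
noncomputable def Ptab_s_0_15 (c : Nat) : Nat := @Bool.rec (fun _ => Nat) (Ptab_s_0_7 c) (Ptab_s_7_15 c) (Nat.ble 7 c)
noncomputable def Ptab_s_15_17 (c : Nat) : Nat := @Bool.rec (fun _ => Nat) (Ptab_15) (Ptab_16) (Nat.ble 16 c)
noncomputable def Ptab_s_17_19 (c : Nat) : Nat := @Bool.rec (fun _ => Nat) (Ptab_17) (Ptab_18) (Nat.ble 18 c)
noncomputable def Ptab_s_15_19 (c : Nat) : Nat := @Bool.rec (fun _ => Nat) (Ptab_s_15_17 c) (Ptab_s_17_19 c) (Nat.ble 17 c)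
noncomputable def Ptab_s_19_21 (c : Nat) : Nat := @Bool.rec (fun _ => Nat) (Ptab_19) (Ptab_20) (Nat.ble 20 c)
noncomputable def Ptab_s_21_23 (c : Nat) : Nat := @Bool.rec (fun _ => Nat) (Ptab_21) (Ptab_22) (Nat.ble 22 c)
noncomputable def Ptab_s_19_23 (c : Nat) : Nat := @Bool.rec (fun _ => Nat) (Ptab_s_19_21 c) (Ptab_s_21_23 c) (Nat.ble 21 c)
noncomputable def Ptab_s_15_23 (c : Nat) : Nat := @Bool.rec (fun _ => Nat) (Ptab_s_15_19 c) (Ptab_s_19_23 c) (Nat.ble 19 c)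
noncomputable def Ptab_s_23_25 (c : Nat) : Nat := @Bool.rec (fun _ => Nat) (Ptab_23) (Ptab_24) (Nat.ble 24 c)
noncomputable def Ptab_s_25_27 (c : Nat) : Nat := @Bool.rec (fun _ => Nat) (Ptab_25) (Ptab_26) (Nat.ble 26 c)
noncomputable def Ptab_s_23_27 (c : Nat) : Nat := @Bool.rec (fun _ => Nat) (Ptab_s_23_25 c) (Ptab_s_25_27 c) (Nat.ble 25 c)
noncomputable def Ptab_s_27_29 (c : Nat) : Nat := @Bool.rec (fun _ => Nat) (Ptab_27) (Ptab_28) (Nat.ble 28 c)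
noncomputable def Ptab_s_29_31 (c : Nat) : Nat := @Bool.rec (fun _ => Nat) (Ptab_29) (Ptab_30) (Nat.ble 30 c)
noncomputable def Ptab_s_27_31 (c : Nat) : Nat := @Bool.rec (fun _ => Nat) (Ptab_s_27_29 c) (Ptab_s_29_31 c) (Nat.ble 29 c)
noncomputable def Ptab_s_23_31 (c : Nat) : Nat := @Bool.rec (fun _ => Nat) (Ptab_s_23_27 c) (Ptab_s_27_31 c) (Nat.ble 27 c)
noncomputable def Ptab_s_15_31 (c : Nat) : Nat := @Bool.rec (fun _ => Nat) (Ptab_s_15_23 c) (Ptab_s_23_31 c) (Nat.ble 23 c)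
noncomputable def Ptab_s_0_31 (c : Nat) : Nat := @Bool.rec (fun _ => Nat) (Ptab_s_0_15 c) (Ptab_s_15_31 c) (Nat.ble 15 c)
noncomputable def Ptab (i : Nat) : Nat := rdw 17 131071 (Ptab_s_0_31 (Nat.shiftRight i 12)) (Nat.land i 4095)
noncomputable def RRtab (i : Nat) : Nat := rdw 4 15 RRtab_0 i
noncomputable def rBtab (i : Nat) : Nat := rdw 10 1023 rBtab_0 i
noncomputable def rLtab (i : Nat) : Nat := rdw 7 127 rLtab_0 i
noncomputable def nameTab_s_1_3 (c : Nat) : Nat := @Bool.rec (fun _ => Nat) (nameTab_1) (nameTab_2) (Nat.ble 2 c)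
noncomputable def nameTab_s_0_3 (c : Nat) : Nat := @Bool.rec (fun _ => Nat) (nameTab_0) (nameTab_s_1_3 c) (Nat.ble 1 c)
noncomputable def nameTab (i : Nat) : Nat := rdw 14 16383 (nameTab_s_0_3 (Nat.shiftRight i 12)) (Nat.land i 4095)
noncomputable def col0_s_1_3 (c : Nat) : Nat := @Bool.rec (fun _ => Nat) (col0_1) (col0_2) (Nat.ble 2 c)
noncomputable def col0_s_0_3 (c : Nat) : Nat := @Bool.rec (fun _ => Nat) (col0_0) (col0_s_1_3 c) (Nat.ble 1 c)
noncomputable def col0 (i : Nat) : Nat := rdw 14 16383 (col0_s_0_3 (Nat.shiftRight i 12)) (Nat.land i 4095)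
noncomputable def col1_s_1_3 (c : Nat) : Nat := @Bool.rec (fun _ => Nat) (col1_1) (col1_2) (Nat.ble 2 c)
noncomputable def col1_s_0_3 (c : Nat) : Nat := @Bool.rec (fun _ => Nat) (col1_0) (col1_s_1_3 c) (Nat.ble 1 c)
noncomputable def col1 (i : Nat) : Nat := rdw 14 16383 (col1_s_0_3 (Nat.shiftRight i 12)) (Nat.land i 4095)
noncomputable def col2_s_1_3 (c : Nat) : Nat := @Bool.rec (fun _ => Nat) (col2_1) (col2_2) (Nat.ble 2 c)
noncomputable def col2_s_0_3 (c : Nat) : Nat := @Bool.rec (fun _ => Nat) (col2_0) (col2_s_1_3 c) (Nat.ble 1 c)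
noncomputable def col2 (i : Nat) : Nat := rdw 14 16383 (col2_s_0_3 (Nat.shiftRight i 12)) (Nat.land i 4095)
noncomputable def col3_s_1_3 (c : Nat) : Nat := @Bool.rec (fun _ => Nat) (col3_1) (col3_2) (Nat.ble 2 c)
noncomputable def col3_s_0_3 (c : Nat) : Nat := @Bool.rec (fun _ => Nat) (col3_0) (col3_s_1_3 c) (Nat.ble 1 c)
noncomputable def col3 (i : Nat) : Nat := rdw 14 16383 (col3_s_0_3 (Nat.shiftRight i 12)) (Nat.land i 4095)
noncomputable def col4_s_1_3 (c : Nat) : Nat := @Bool.rec (fun _ => Nat) (col4_1) (col4_2) (Nat.ble 2 c)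
noncomputable def col4_s_0_3 (c : Nat) : Nat := @Bool.rec (fun _ => Nat) (col4_0) (col4_s_1_3 c) (Nat.ble 1 c)
noncomputable def col4 (i : Nat) : Nat := rdw 14 16383 (col4_s_0_3 (Nat.shiftRight i 12)) (Nat.land i 4095)
noncomputable def col5_s_1_3 (c : Nat) : Nat := @Bool.rec (fun _ => Nat) (col5_1) (col5_2) (Nat.ble 2 c)
noncomputable def col5_s_0_3 (c : Nat) : Nat := @Bool.rec (fun _ => Nat) (col5_0) (col5_s_1_3 c) (Nat.ble 1 c)
noncomputable def col5 (i : Nat) : Nat := rdw 14 16383 (col5_s_0_3 (Nat.shiftRight i 12)) (Nat.land i 4095)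
noncomputable def col6_s_1_3 (c : Nat) : Nat := @Bool.rec (fun _ => Nat) (col6_1) (col6_2) (Nat.ble 2 c)
noncomputable def col6_s_0_3 (c : Nat) : Nat := @Bool.rec (fun _ => Nat) (col6_0) (col6_s_1_3 c) (Nat.ble 1 c)
noncomputable def col6 (i : Nat) : Nat := rdw 14 16383 (col6_s_0_3 (Nat.shiftRight i 12)) (Nat.land i 4095)
noncomputable def col7_s_1_3 (c : Nat) : Nat := @Bool.rec (fun _ => Nat) (col7_1) (col7_2) (Nat.ble 2 c)
noncomputable def col7_s_0_3 (c : Nat) : Nat := @Bool.rec (fun _ => Nat) (col7_0) (col7_s_1_3 c) (Nat.ble 1 c)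
noncomputable def col7 (i : Nat) : Nat := rdw 14 16383 (col7_s_0_3 (Nat.shiftRight i 12)) (Nat.land i 4095)
noncomputable def finTab_s_0_2 (c : Nat) : Nat := @Bool.rec (fun _ => Nat) (finTab_0) (finTab_1) (Nat.ble 1 c)
noncomputable def finTab_s_2_4 (c : Nat) : Nat := @Bool.rec (fun _ => Nat) (finTab_2) (finTab_3) (Nat.ble 3 c)
noncomputable def finTab_s_0_4 (c : Nat) : Nat := @Bool.rec (fun _ => Nat) (finTab_s_0_2 c) (finTab_s_2_4 c) (Nat.ble 2 c)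
noncomputable def finTab_s_4_6 (c : Nat) : Nat := @Bool.rec (fun _ => Nat) (finTab_4) (finTab_5) (Nat.ble 5 c)
noncomputable def finTab_s_7_9 (c : Nat) : Nat := @Bool.rec (fun _ => Nat) (finTab_7) (finTab_8) (Nat.ble 8 c)
noncomputable def finTab_s_6_9 (c : Nat) : Nat := @Bool.rec (fun _ => Nat) (finTab_6) (finTab_s_7_9 c) (Nat.ble 7 c)
noncomputable def finTab_s_4_9 (c : Nat) : Nat := @Bool.rec (fun _ => Nat) (finTab_s_4_6 c) (finTab_s_6_9 c) (Nat.ble 6 c)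
noncomputable def finTab_s_0_9 (c : Nat) : Nat := @Bool.rec (fun _ => Nat) (finTab_s_0_4 c) (finTab_s_4_9 c) (Nat.ble 4 c)
noncomputable def finTab_s_9_11 (c : Nat) : Nat := @Bool.rec (fun _ => Nat) (finTab_9) (finTab_10) (Nat.ble 10 c)
noncomputable def finTab_s_11_13 (c : Nat) : Nat := @Bool.rec (fun _ => Nat) (finTab_11) (finTab_12) (Nat.ble 12 c)
noncomputable def finTab_s_9_13 (c : Nat) : Nat := @Bool.rec (fun _ => Nat) (finTab_s_9_11 c) (finTab_s_11_13 c) (Nat.ble 11 c)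
noncomputable def finTab_s_13_15 (c : Nat) : Nat := @Bool.rec (fun _ => Nat) (finTab_13) (finTab_14) (Nat.ble 14 c)
noncomputable def finTab_s_16_18 (c : Nat) : Nat := @Bool.rec (fun _ => Nat) (finTab_16) (finTab_17) (Nat.ble 17 c)
noncomputable def finTab_s_15_18 (c : Nat) : Nat := @Bool.rec (fun _ => Nat) (finTab_15) (finTab_s_16_18 c) (Nat.ble 16 c)
noncomputable def finTab_s_13_18 (c : Nat) : Nat := @Bool.rec (fun _ => Nat) (finTab_s_13_15 c) (finTab_s_15_18 c) (Nat.ble 15 c)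
noncomputable def finTab_s_9_18 (c : Nat) : Nat := @Bool.rec (fun _ => Nat) (finTab_s_9_13 c) (finTab_s_13_18 c) (Nat.ble 13 c)
noncomputable def finTab_s_0_18 (c : Nat) : Nat := @Bool.rec (fun _ => Nat) (finTab_s_0_9 c) (finTab_s_9_18 c) (Nat.ble 9 c)
noncomputable def finTab (i : Nat) : Nat := rdw 17 131071 (finTab_s_0_18 (Nat.shiftRight i 12)) (Nat.land i 4095)
noncomputable def clsTab_s_0_2 (c : Nat) : Nat := @Bool.rec (fun _ => Nat) (clsTab_0) (clsTab_1) (Nat.ble 1 c)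
noncomputable def clsTab_s_2_4 (c : Nat) : Nat := @Bool.rec (fun _ => Nat) (clsTab_2) (clsTab_3) (Nat.ble 3 c)
noncomputable def clsTab_s_0_4 (c : Nat) : Nat := @Bool.rec (fun _ => Nat) (clsTab_s_0_2 c) (clsTab_s_2_4 c) (Nat.ble 2 c)
noncomputable def clsTab (i : Nat) : Nat := rdw 14 16383 (clsTab_s_0_4 (Nat.shiftRight i 12)) (Nat.land i 4095)
noncomputable def oparTab_s_1_3 (c : Nat) : Nat := @Bool.rec (fun _ => Nat) (oparTab_1) (oparTab_2) (Nat.ble 2 c)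
noncomputable def oparTab_s_0_3 (c : Nat) : Nat := @Bool.rec (fun _ => Nat) (oparTab_0) (oparTab_s_1_3 c) (Nat.ble 1 c)
noncomputable def oparTab (i : Nat) : Nat := rdw 14 16383 (oparTab_s_0_3 (Nat.shiftRight i 12)) (Nat.land i 4095)
noncomputable def olabTab (i : Nat) : Nat := rdw 1 1 olabTab_0 i
noncomputable def srcF (t : Nat) : Nat := Nat.land (Atab t) 16383
noncomputable def tgtF (t : Nat) : Nat := Nat.land (Nat.shiftRight (Atab t) 14) 16383
noncomputable def ltF (t : Nat) : Nat := Nat.shiftRight (Atab t) 28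
noncomputable def rhoF (t : Nat) : Nat := Nat.land (Btab (Nat.sub t 16160)) 63
noncomputable def rotF (t : Nat) : Nat := Nat.land (Nat.shiftRight (Btab (Nat.sub t 16160)) 6) 127
noncomputable def lenF (t : Nat) : Nat := Nat.land (Nat.shiftRight (Btab (Nat.sub t 16160)) 13) 127
noncomputable def offF (t : Nat) : Nat := Nat.shiftRight (Btab (Nat.sub t 16160)) 20
noncomputable def pfF (j : Nat) : Nat := Nat.shiftRight (Ptab j) 1
noncomputable def pdF (j : Nat) : Nat := Nat.land (Ptab j) 1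
noncomputable def tblF (i x : Nat) : Nat := @Bool.rec (fun _ => Nat) (@Bool.rec (fun _ => Nat) (@Bool.rec (fun _ => Nat) (col0 i) (col1 i) (Nat.ble 1 x)) (@Bool.rec (fun _ => Nat) (col2 i) (col3 i) (Nat.ble 3 x)) (Nat.ble 2 x)) (@Bool.rec (fun _ => Nat) (@Bool.rec (fun _ => Nat) (col4 i) (col5 i) (Nat.ble 5 x)) (@Bool.rec (fun _ => Nat) (col6 i) (col7 i) (Nat.ble 7 x)) (Nat.ble 6 x)) (Nat.ble 4 x)
noncomputable def finE (i x : Nat) : Nat := finTab (Nat.add (Nat.mul i 8) x)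
noncomputable def finFF (i x : Nat) : Nat := Nat.shiftRight (finE i x) 1
noncomputable def finDF (i x : Nat) : Nat := Nat.land (finE i x) 1

noncomputable def D : Log :=
  { k := 8, inv := invE 8 PC4Sz8.invR, nR := 44, rBase := rBtab, rLen := rLtab, RR := RRtab,
    M := 16158, nB := 2, F := 61998, src := srcF, lt := ltF, tgt := tgtF, rho := rhoF, rot := rotF,
    off := offF, len := lenF, pf := pfF, pd := pdF }

noncomputable def T : Tab :=
  { N := 8960, nameOf := nameTab, tbl := tblF, finF := finFF, finD := finDF, cls := clsTab }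

def subs : List (List Nat) := [
  (List.replicate 2 [0, 2, 0, 3]).flatten ]

def rw0 : List Nat := [0, 0]
def rw1 : List Nat := [2, 2, 2, 2]
def rw2 : List Nat := [0, 2, 0, 2, 0, 2, 0, 2, 0, 2]
def rw3 : List Nat := [0, 2, 2, 0, 2, 2, 0, 2, 2, 0, 2, 2, 0, 2, 2, 0, 2, 2, 0, 2, 2]
def rw4 : List Nat := [0, 2, 0, 3, 0, 2, 0, 3, 0, 2, 0, 3, 0, 2, 0, 3, 0, 2, 0, 3, 0, 2, 0, 3, 0, 2, 0, 3, 0, 2, 0, 3, 0, 2, 0, 3, 0, 2, 0, 3, 0, 2, 0, 3, 0, 2, 0, 3, 0, 2, 0, 3, 5]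
def rw5 : List Nat := [0, 2, 0, 2, 2, 0, 2, 2, 2, 0, 2, 0, 2, 2, 0, 2, 2, 2, 0, 2, 0, 2, 2, 0, 2, 2, 2, 0, 2, 0, 2, 2, 0, 2, 2, 2, 0, 2, 0, 2, 2, 0, 2, 2, 2, 0, 2, 0, 2, 2, 0, 2, 2, 2, 0, 2, 0, 2, 2, 0, 2, 2, 2, 7]
def rw6 : List Nat := [4, 4]
def rw7 : List Nat := [6, 6]
def rw8 : List Nat := [5, 1, 4, 0]
def rw9 : List Nat := [5, 3, 4, 2]
def rw10 : List Nat := [7, 1, 6, 0]
def rw11 : List Nat := [7, 3, 6, 2]
def rw12 : List Nat := [5, 7, 4, 6]
def realLit : List (List Nat) := [rw0, rw1, rw2, rw3, rw4, rw5, rw6, rw7, rw8, rw9, rw10, rw11, rw12]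
noncomputable def actR0 (i : Nat) : Nat := col1 (col1 (i))
theorem actR0_eq (i : Nat) : actR0 i = Tab.act T D rw0 i := rfl
noncomputable def actR1 (i : Nat) : Nat := col3 (col3 (col3 (col3 (i))))
theorem actR1_eq (i : Nat) : actR1 i = Tab.act T D rw1 i := rfl
noncomputable def actR2 (i : Nat) : Nat := col1 (col3 (col1 (col3 (col1 (col3 (col1 (col3 (col1 (col3 (i))))))))))
theorem actR2_eq (i : Nat) : actR2 i = Tab.act T D rw2 i := rfl
noncomputable def actR3 (i : Nat) : Nat := col1 (col3 (col3 (col1 (col3 (col3 (col1 (col3 (col3 (col1 (col3 (col3 (col1 (col3 (col3 (col1 (col3 (col3 (col1 (col3 (col3 (i)))))))))))))))))))))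
theorem actR3_eq (i : Nat) : actR3 i = Tab.act T D rw3 i := rfl
noncomputable def actR4 (i : Nat) : Nat := col1 (col3 (col1 (col2 (col1 (col3 (col1 (col2 (col1 (col3 (col1 (col2 (col1 (col3 (col1 (col2 (col1 (col3 (col1 (col2 (col1 (col3 (col1 (col2 (col1 (col3 (col1 (col2 (col1 (col3 (col1 (col2 (col1 (col3 (col1 (col2 (col1 (col3 (col1 (col2 (col1 (col3 (col1 (col2 (col1 (col3 (col1 (col2 (col1 (col3 (col1 (col2 (col4 (i)))))))))))))))))))))))))))))))))))))))))))))))))))))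
theorem actR4_eq (i : Nat) : actR4 i = Tab.act T D rw4 i := rfl
noncomputable def actR5 (i : Nat) : Nat := col1 (col3 (col1 (col3 (col3 (col1 (col3 (col3 (col3 (col1 (col3 (col1 (col3 (col3 (col1 (col3 (col3 (col3 (col1 (col3 (col1 (col3 (col3 (col1 (col3 (col3 (col3 (col1 (col3 (col1 (col3 (col3 (col1 (col3 (col3 (col3 (col1 (col3 (col1 (col3 (col3 (col1 (col3 (col3 (col3 (col1 (col3 (col1 (col3 (col3 (col1 (col3 (col3 (col3 (col1 (col3 (col1 (col3 (col3 (col1 (col3 (col3 (col3 (col6 (i))))))))))))))))))))))))))))))))))))))))))))))))))))))))))))))))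
theorem actR5_eq (i : Nat) : actR5 i = Tab.act T D rw5 i := rfl
noncomputable def actR6 (i : Nat) : Nat := col5 (col5 (i))
theorem actR6_eq (i : Nat) : actR6 i = Tab.act T D rw6 i := rfl
noncomputable def actR7 (i : Nat) : Nat := col7 (col7 (i))
theorem actR7_eq (i : Nat) : actR7 i = Tab.act T D rw7 i := rfl
noncomputable def actR8 (i : Nat) : Nat := col4 (col0 (col5 (col1 (i))))
theorem actR8_eq (i : Nat) : actR8 i = Tab.act T D rw8 i := rfl
noncomputable def actR9 (i : Nat) : Nat := col4 (col2 (col5 (col3 (i))))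
theorem actR9_eq (i : Nat) : actR9 i = Tab.act T D rw9 i := rfl
noncomputable def actR10 (i : Nat) : Nat := col6 (col0 (col7 (col1 (i))))
theorem actR10_eq (i : Nat) : actR10 i = Tab.act T D rw10 i := rfl
noncomputable def actR11 (i : Nat) : Nat := col6 (col2 (col7 (col3 (i))))
theorem actR11_eq (i : Nat) : actR11 i = Tab.act T D rw11 i := rfl
noncomputable def actR12 (i : Nat) : Nat := col4 (col6 (col5 (col7 (i))))
theorem actR12_eq (i : Nat) : actR12 i = Tab.act T D rw12 i := rfl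

end Cfsg.Agent.Lib.Helper4.TCD.C4Sz8B
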