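import Cfsg.Agent.Lib.Helper4.TCD_C4Sz8B_Acc

namespace Cfsg.Agent.Lib.Helper4.TCD.C4Sz8B

open Cfsg.Agent.Lib.Helper4.TC

set_option maxRecDepth 100000
set_option Elab.async false

theorem c_zero : D.zeroOK = true := by decide +kernel
theorem c_base : allBelow D.baseOK 2 = true := by decide +kernel
theorem c_let : allBelow D.letOK 8 = true := by decide +kernel
theorem c_cls0 : T.cls 0 = 0 := by decide +kernel
theorem c_name0 : T.nameOf 0 = 0 := by decide +kernel
theorem c_tab : D.relTabOK 0 (baseRels 8 PC4Sz8.invR PC4Sz8.P.real subs ++ (baseRels 8 PC4Sz8.invR PC4Sz8.P.real subs).map (invWord D.inv)) = true := by decide +kernel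
theorem c_real : PC4Sz8.P.real = realLit := by decide +kernel
theorem c_subfix : subs.all (fun u => Nat.beq (Tab.act T D u 0) 0) = true := by decide +kernel
theorem c_subs : subs.all (fun u => u.all (fun x => Nat.ble (Nat.succ x) 8)) = true := by decide +kernel
theorem c_names_0 : allRange D.nameOK 1 16157 = true := by decide +kernel
theorem c_cls_0 : allRange (T.clsOK D) 1 15000 = true := by decide +kernel
theorem c_cls_1 : allRange (T.clsOK D) 15001 1157 = true := by decide +kernel
theorem c_rep_0 : allRange (T.repOK D) 0 8960 = true := by decide +kernel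
theorem c_rel_0 : allRange D.relOK 16160 4270 = true := by decide +kernel
theorem c_rel_1 : allRange D.relOK 20430 4258 = true := by decide +kernel
theorem c_rel_2 : allRange D.relOK 24688 4188 = true := by decide +kernel
theorem c_rel_3 : allRange D.relOK 28876 4207 = true := by decide +kernel
theorem c_rel_4 : allRange D.relOK 33083 4229 = true := by decide +kernel
theorem c_rel_5 : allRange D.relOK 37312 4155 = true := by decide +kernel
theorem c_rel_6 : allRange D.relOK 41467 3981 = true := by decide +kernel
theorem c_rel_7 : allRange D.relOK 45448 3502 = true := by decide +kernel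
theorem c_rel_8 : allRange D.relOK 48950 3618 = true := by decide +kernel
theorem c_rel_9 : allRange D.relOK 52568 2132 = true := by decide +kernel
theorem c_rel_10 : allRange D.relOK 54700 4932 = true := by decide +kernel
theorem c_rel_11 : allRange D.relOK 59632 2366 = true := by decide +kernel
theorem c_fin_0 : allGrid (T.finOK D) 0 1500 8 = true := by decide +kernel
theorem c_fin_1 : allGrid (T.finOK D) 1500 1500 8 = true := by decide +kernel
theorem c_fin_2 : allGrid (T.finOK D) 3000 1500 8 = true := by decide +kernel
theorem c_fin_3 : allGrid (T.finOK D) 4500 1500 8 = true := by decide +kernel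
theorem c_fin_4 : allGrid (T.finOK D) 6000 1500 8 = true := by decide +kernel
theorem c_fin_5 : allGrid (T.finOK D) 7500 1460 8 = true := by decide +kernel
theorem c_perm_0 : allGrid (T.permOK1 D) 0 3750 8 = true := by decide +kernel
theorem c_perm_1 : allGrid (T.permOK1 D) 3750 3750 8 = true := by decide +kernel
theorem c_perm_2 : allGrid (T.permOK1 D) 7500 1460 8 = true := by decide +kernel
theorem c_act0_0 : allRange (fun i => Nat.beq (actR0 i) i) 0 8960 = true := by decide +kernel
theorem c_act1_0 : allRange (fun i => Nat.beq (actR1 i) i) 0 8960 = true := by decide +kernel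
theorem c_act2_0 : allRange (fun i => Nat.beq (actR2 i) i) 0 6000 = true := by decide +kernel
theorem c_act2_1 : allRange (fun i => Nat.beq (actR2 i) i) 6000 2960 = true := by decide +kernel
theorem c_act3_0 : allRange (fun i => Nat.beq (actR3 i) i) 0 2857 = true := by decide +kernel
theorem c_act3_1 : allRange (fun i => Nat.beq (actR3 i) i) 2857 2857 = true := by decide +kernel
theorem c_act3_2 : allRange (fun i => Nat.beq (actR3 i) i) 5714 2857 = true := by decide +kernel
theorem c_act3_3 : allRange (fun i => Nat.beq (actR3 i) i) 8571 389 = true := by decide +kernel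
theorem c_act4_0 : allRange (fun i => Nat.beq (actR4 i) i) 0 1132 = true := by decide +kernel
theorem c_act4_1 : allRange (fun i => Nat.beq (actR4 i) i) 1132 1132 = true := by decide +kernel
theorem c_act4_2 : allRange (fun i => Nat.beq (actR4 i) i) 2264 1132 = true := by decide +kernel
theorem c_act4_3 : allRange (fun i => Nat.beq (actR4 i) i) 3396 1132 = true := by decide +kernel
theorem c_act4_4 : allRange (fun i => Nat.beq (actR4 i) i) 4528 1132 = true := by decide +kernel
theorem c_act4_5 : allRange (fun i => Nat.beq (actR4 i) i) 5660 1132 = true := by decide +kernel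
theorem c_act4_6 : allRange (fun i => Nat.beq (actR4 i) i) 6792 1132 = true := by decide +kernel
theorem c_act4_7 : allRange (fun i => Nat.beq (actR4 i) i) 7924 1036 = true := by decide +kernel
theorem c_act5_0 : allRange (fun i => Nat.beq (actR5 i) i) 0 937 = true := by decide +kernel
theorem c_act5_1 : allRange (fun i => Nat.beq (actR5 i) i) 937 937 = true := by decide +kernel
theorem c_act5_2 : allRange (fun i => Nat.beq (actR5 i) i) 1874 937 = true := by decide +kernel
theorem c_act5_3 : allRange (fun i => Nat.beq (actR5 i) i) 2811 937 = true := by decide +kernel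
theorem c_act5_4 : allRange (fun i => Nat.beq (actR5 i) i) 3748 937 = true := by decide +kernel
theorem c_act5_5 : allRange (fun i => Nat.beq (actR5 i) i) 4685 937 = true := by decide +kernel
theorem c_act5_6 : allRange (fun i => Nat.beq (actR5 i) i) 5622 937 = true := by decide +kernel
theorem c_act5_7 : allRange (fun i => Nat.beq (actR5 i) i) 6559 937 = true := by decide +kernel
theorem c_act5_8 : allRange (fun i => Nat.beq (actR5 i) i) 7496 937 = true := by decide +kernel
theorem c_act5_9 : allRange (fun i => Nat.beq (actR5 i) i) 8433 527 = true := by decide +kernel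
theorem c_act6_0 : allRange (fun i => Nat.beq (actR6 i) i) 0 8960 = true := by decide +kernel
theorem c_act7_0 : allRange (fun i => Nat.beq (actR7 i) i) 0 8960 = true := by decide +kernel
theorem c_act8_0 : allRange (fun i => Nat.beq (actR8 i) i) 0 8960 = true := by decide +kernel
theorem c_act9_0 : allRange (fun i => Nat.beq (actR9 i) i) 0 8960 = true := by decide +kernel
theorem c_act10_0 : allRange (fun i => Nat.beq (actR10 i) i) 0 8960 = true := by decide +kernel
theorem c_act11_0 : allRange (fun i => Nat.beq (actR11 i) i) 0 8960 = true := by decide +kernel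
theorem c_act12_0 : allRange (fun i => Nat.beq (actR12 i) i) 0 8960 = true := by decide +kernel

end Cfsg.Agent.Lib.Helper4.TCD.C4Sz8B
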