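import Cfsg.Agent.Lib.Helper4.TC11
import Cfsg.Agent.Lib.Helper4.TCD_C4Sz8R_Acc
import Cfsg.Agent.Lib.Helper4.TCD_C4Sz8L_D0

namespace Cfsg.Agent.Lib.Helper4.TCD.C4Sz8L

open Cfsg.Agent.Lib.Helper4.TC Cfsg.Agent.Lib.Helper4.TCD.C4Sz8R

set_option maxRecDepth 100000

noncomputable def st8 (i : Nat) : Nat := rdw 12 4095 st8_0 i
noncomputable def st9 (i : Nat) : Nat := rdw 12 4095 st9_0 i
noncomputable def st10 (i : Nat) : Nat := rdw 12 4095 st10_0 i
noncomputable def levTab (i : Nat) : Nat := rdw 2 3 levTab_0 i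
noncomputable def betaTab (i : Nat) : Nat := rdw 12 4095 betaTab_0 i
noncomputable def nodeTab_s_0_2 (c : Nat) : Nat := @Bool.rec (fun _ => Nat) (nodeTab_0) (nodeTab_1) (Nat.ble 1 c)
noncomputable def nodeTab (i : Nat) : Nat := rdw 32 4294967295 (nodeTab_s_0_2 (Nat.shiftRight i 11)) (Nat.land i 2047)
noncomputable def offTab (i : Nat) : Nat := rdw 12 4095 offTab_0 i
noncomputable def nTab (i : Nat) : Nat := rdw 12 4095 nTab_0 i
noncomputable def rootTab (i : Nat) : Nat := rdw 12 4095 rootTab_0 i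
noncomputable def tabF (i p : Nat) : Nat := @Bool.rec (fun _ => Nat) (@Bool.rec (fun _ => Nat) (@Bool.rec (fun _ => Nat) (col1 p) (col0 p) (Nat.ble 1 i)) (@Bool.rec (fun _ => Nat) (col3 p) (@Bool.rec (fun _ => Nat) (col2 p) (col5 p) (Nat.ble 4 i)) (Nat.ble 3 i)) (Nat.ble 2 i)) (@Bool.rec (fun _ => Nat) (@Bool.rec (fun _ => Nat) (col4 p) (@Bool.rec (fun _ => Nat) (col7 p) (col6 p) (Nat.ble 7 i)) (Nat.ble 6 i)) (@Bool.rec (fun _ => Nat) (st8 p) (@Bool.rec (fun _ => Nat) (st9 p) (st10 p) (Nat.ble 10 i)) (Nat.ble 9 i)) (Nat.ble 8 i)) (Nat.ble 5 i)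
def wAF : Nat → List Nat
  | 8 => [6, 4, 0, 3, 0, 2, 0, 2, 2, 0, 2, 2]
  | 9 => [8]
  | 10 => [9, 2, 2, 0, 2, 2, 9, 0, 9, 9]
  | _ => []
def wBF : Nat → List Nat
  | 8 => [3, 6, 4, 0, 3, 0, 2, 0, 2, 2, 0, 3]
  | 9 => []
  | 10 => [7, 8, 2, 9, 2, 2]
  | _ => []
noncomputable def ptF (j idx : Nat) : Nat := Nat.land (nodeTab (Nat.add (offTab j) idx)) 4095
noncomputable def parF (j idx : Nat) : Nat := Nat.land (Nat.shiftRight (nodeTab (Nat.add (offTab j) idx)) 12) 4095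
noncomputable def giF (j idx : Nat) : Nat := Nat.land (Nat.shiftRight (nodeTab (Nat.add (offTab j) idx)) 24) 15
noncomputable def depF (j idx : Nat) : Nat := Nat.shiftRight (nodeTab (Nat.add (offTab j) idx)) 28

noncomputable def S : Sgs :=
  { N := 2080, k := 8, m := 11, tab := tabF, wA := wAF, wB := wBF, lev := levTab, r := 3, beta := betaTab,
    n := nTab, root := rootTab, pt := ptF, par := parF, gi := giF, dep := depF }

noncomputable def chk8 (p : Nat) : Bool := band (Nat.ble (Nat.succ (st8 p)) 2080) (Nat.beq (col7 (col5 (col1 (col2 (col1 (col3 (col1 (col3 (col3 (col1 (col3 (col3 (st8 p))))))))))))) (col2 (col7 (col5 (col1 (col2 (col1 (col3 (col1 (col3 (col3 (col1 (col2 p)))))))))))))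
theorem chk8_eq (p : Nat) : chk8 p = Sgs.permOK S 8 p := rfl
noncomputable def chk9 (p : Nat) : Bool := band (Nat.ble (Nat.succ (st9 p)) 2080) (Nat.beq (st8 (st9 p)) p)
theorem chk9_eq (p : Nat) : chk9 p = Sgs.permOK S 9 p := rfl
noncomputable def chk10 (p : Nat) : Bool := band (Nat.ble (Nat.succ (st10 p)) 2080) (Nat.beq (st9 (col3 (col3 (col1 (col3 (col3 (st9 (col1 (st9 (st9 (st10 p))))))))))) (col6 (st8 (col3 (st9 (col3 (col3 p)))))))
theorem chk10_eq (p : Nat) : chk10 p = Sgs.permOK S 10 p := rfl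

end Cfsg.Agent.Lib.Helper4.TCD.C4Sz8L
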