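import Cfsg.Agent.Lib.Helper4.TC11
import Cfsg.Agent.Lib.Helper4.TCD_C4U43R_Acc
import Cfsg.Agent.Lib.Helper4.TCD_C4U43L_D0

namespace Cfsg.Agent.Lib.Helper4.TCD.C4U43L

open Cfsg.Agent.Lib.Helper4.TC Cfsg.Agent.Lib.Helper4.TCD.C4U43R

set_option maxRecDepth 100000

noncomputable def st8 (i : Nat) : Nat := rdw 12 4095 st8_0 i
noncomputable def st9 (i : Nat) : Nat := rdw 12 4095 st9_0 i
noncomputable def st10 (i : Nat) : Nat := rdw 12 4095 st10_0 i
noncomputable def st11 (i : Nat) : Nat := rdw 12 4095 st11_0 i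
noncomputable def st12 (i : Nat) : Nat := rdw 12 4095 st12_0 i
noncomputable def st13 (i : Nat) : Nat := rdw 12 4095 st13_0 i
noncomputable def levTab (i : Nat) : Nat := rdw 2 3 levTab_0 i
noncomputable def betaTab (i : Nat) : Nat := rdw 12 4095 betaTab_0 i
noncomputable def nodeTab_s_0_2 (c : Nat) : Nat := @Bool.rec (fun _ => Nat) (nodeTab_0) (nodeTab_1) (Nat.ble 1 c)
noncomputable def nodeTab (i : Nat) : Nat := rdw 31 2147483647 (nodeTab_s_0_2 (Nat.shiftRight i 11)) (Nat.land i 2047)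
noncomputable def offTab (i : Nat) : Nat := rdw 12 4095 offTab_0 i
noncomputable def nTab (i : Nat) : Nat := rdw 12 4095 nTab_0 i
noncomputable def rootTab (i : Nat) : Nat := rdw 12 4095 rootTab_0 i
noncomputable def tabF (i p : Nat) : Nat := @Bool.rec (fun _ => Nat) (@Bool.rec (fun _ => Nat) (@Bool.rec (fun _ => Nat) (col1 p) (@Bool.rec (fun _ => Nat) (col0 p) (col3 p) (Nat.ble 2 i)) (Nat.ble 1 i)) (@Bool.rec (fun _ => Nat) (@Bool.rec (fun _ => Nat) (col2 p) (col5 p) (Nat.ble 4 i)) (@Bool.rec (fun _ => Nat) (col4 p) (col7 p) (Nat.ble 6 i)) (Nat.ble 5 i)) (Nat.ble 3 i)) (@Bool.rec (fun _ => Nat) (@Bool.rec (fun _ => Nat) (col6 p) (@Bool.rec (fun _ => Nat) (st8 p) (st9 p) (Nat.ble 9 i)) (Nat.ble 8 i)) (@Bool.rec (fun _ => Nat) (@Bool.rec (fun _ => Nat) (st10 p) (st11 p) (Nat.ble 11 i)) (@Bool.rec (fun _ => Nat) (st12 p) (st13 p) (Nat.ble 13 i)) (Nat.ble 12 i)) (Nat.ble 10 i)) (Nat.ble 7 i)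
def wAF : Nat → List Nat
  | 8 => [7, 5, 1, 2, 4]
  | 9 => [8]
  | 10 => [2, 8, 4, 1, 5, 9, 1]
  | 11 => [10]
  | 12 => [9, 11, 0]
  | 13 => [12]
  | _ => []
def wBF : Nat → List Nat
  | 8 => [4, 2, 4, 0, 0, 4]
  | 9 => []
  | 10 => [0, 5, 9, 0, 0, 4]
  | 11 => []
  | 12 => [10, 9, 3, 1]
  | 13 => []
  | _ => []
noncomputable def ptF (j idx : Nat) : Nat := Nat.land (nodeTab (Nat.add (offTab j) idx)) 4095
noncomputable def parF (j idx : Nat) : Nat := Nat.land (Nat.shiftRight (nodeTab (Nat.add (offTab j) idx)) 12) 4095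
noncomputable def giF (j idx : Nat) : Nat := Nat.land (Nat.shiftRight (nodeTab (Nat.add (offTab j) idx)) 24) 15
noncomputable def depF (j idx : Nat) : Nat := Nat.shiftRight (nodeTab (Nat.add (offTab j) idx)) 28

noncomputable def S : Sgs :=
  { N := 2160, k := 8, m := 14, tab := tabF, wA := wAF, wB := wBF, lev := levTab, r := 3, beta := betaTab,
    n := nTab, root := rootTab, pt := ptF, par := parF, gi := giF, dep := depF }

noncomputable def chk8 (p : Nat) : Bool := band (Nat.ble (Nat.succ (st8 p)) 2160) (Nat.beq (col6 (col4 (col0 (col3 (col5 (st8 p)))))) (col5 (col3 (col5 (col1 (col1 (col5 p)))))))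
theorem chk8_eq (p : Nat) : chk8 p = Sgs.permOK S 8 p := rfl
noncomputable def chk9 (p : Nat) : Bool := band (Nat.ble (Nat.succ (st9 p)) 2160) (Nat.beq (st8 (st9 p)) p)
theorem chk9_eq (p : Nat) : chk9 p = Sgs.permOK S 9 p := rfl
noncomputable def chk10 (p : Nat) : Bool := band (Nat.ble (Nat.succ (st10 p)) 2160) (Nat.beq (col3 (st8 (col5 (col0 (col4 (st9 (col0 (st10 p)))))))) (col1 (col4 (st9 (col1 (col1 (col5 p)))))))
theorem chk10_eq (p : Nat) : chk10 p = Sgs.permOK S 10 p := rfl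
noncomputable def chk11 (p : Nat) : Bool := band (Nat.ble (Nat.succ (st11 p)) 2160) (Nat.beq (st10 (st11 p)) p)
theorem chk11_eq (p : Nat) : chk11 p = Sgs.permOK S 11 p := rfl
noncomputable def chk12 (p : Nat) : Bool := band (Nat.ble (Nat.succ (st12 p)) 2160) (Nat.beq (st9 (st11 (col1 (st12 p)))) (st10 (st9 (col2 (col0 p)))))
theorem chk12_eq (p : Nat) : chk12 p = Sgs.permOK S 12 p := rfl
noncomputable def chk13 (p : Nat) : Bool := band (Nat.ble (Nat.succ (st13 p)) 2160) (Nat.beq (st12 (st13 p)) p)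
theorem chk13_eq (p : Nat) : chk13 p = Sgs.permOK S 13 p := rfl

end Cfsg.Agent.Lib.Helper4.TCD.C4U43L
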