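import Cfsg.Agent.Lib.Helper4.TC7
import Cfsg.Agent.Lib.Helper4.TCP_C4U62
import Cfsg.Agent.Lib.Helper4.TCD_C4U62B_D0
import Cfsg.Agent.Lib.Helper4.TCD_C4U62B_D1
import Cfsg.Agent.Lib.Helper4.TCD_C4U62B_D2

namespace Cfsg.Agent.Lib.Helper4.TCD.C4U62B

open Cfsg.Agent.Lib.Helper4.TC

set_option maxRecDepth 100000

noncomputable def Atab_s_1_3 (c : Nat) : Nat := @Bool.rec (fun _ => Nat) (Atab_1) (Atab_2) (Nat.ble 2 c)
noncomputable def Atab_s_0_3 (c : Nat) : Nat := @Bool.rec (fun _ => Nat) (Atab_0) (Atab_s_1_3 c) (Nat.ble 1 c)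
noncomputable def Atab_s_4_6 (c : Nat) : Nat := @Bool.rec (fun _ => Nat) (Atab_4) (Atab_5) (Nat.ble 5 c)
noncomputable def Atab_s_3_6 (c : Nat) : Nat := @Bool.rec (fun _ => Nat) (Atab_3) (Atab_s_4_6 c) (Nat.ble 4 c)
noncomputable def Atab_s_0_6 (c : Nat) : Nat := @Bool.rec (fun _ => Nat) (Atab_s_0_3 c) (Atab_s_3_6 c) (Nat.ble 3 c)
noncomputable def Atab_s_7_9 (c : Nat) : Nat := @Bool.rec (fun _ => Nat) (Atab_7) (Atab_8) (Nat.ble 8 c)
noncomputable def Atab_s_6_9 (c : Nat) : Nat := @Bool.rec (fun _ => Nat) (Atab_6) (Atab_s_7_9 c) (Nat.ble 7 c)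
noncomputable def Atab_s_9_11 (c : Nat) : Nat := @Bool.rec (fun _ => Nat) (Atab_9) (Atab_10) (Nat.ble 10 c)
noncomputable def Atab_s_11_13 (c : Nat) : Nat := @Bool.rec (fun _ => Nat) (Atab_11) (Atab_12) (Nat.ble 12 c)
noncomputable def Atab_s_9_13 (c : Nat) : Nat := @Bool.rec (fun _ => Nat) (Atab_s_9_11 c) (Atab_s_11_13 c) (Nat.ble 11 c)
noncomputable def Atab_s_6_13 (c : Nat) : Nat := @Bool.rec (fun _ => Nat) (Atab_s_6_9 c) (Atab_s_9_13 c) (Nat.ble 9 c)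
noncomputable def Atab_s_0_13 (c : Nat) : Nat := @Bool.rec (fun _ => Nat) (Atab_s_0_6 c) (Atab_s_6_13 c) (Nat.ble 6 c)
noncomputable def Atab_s_14_16 (c : Nat) : Nat := @Bool.rec (fun _ => Nat) (Atab_14) (Atab_15) (Nat.ble 15 c)
noncomputable def Atab_s_13_16 (c : Nat) : Nat := @Bool.rec (fun _ => Nat) (Atab_13) (Atab_s_14_16 c) (Nat.ble 14 c)
noncomputable def Atab_s_16_18 (c : Nat) : Nat := @Bool.rec (fun _ => Nat) (Atab_16) (Atab_17) (Nat.ble 17 c)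
noncomputable def Atab_s_18_20 (c : Nat) : Nat := @Bool.rec (fun _ => Nat) (Atab_18) (Atab_19) (Nat.ble 19 c)
noncomputable def Atab_s_16_20 (c : Nat) : Nat := @Bool.rec (fun _ => Nat) (Atab_s_16_18 c) (Atab_s_18_20 c) (Nat.ble 18 c)
noncomputable def Atab_s_13_20 (c : Nat) : Nat := @Bool.rec (fun _ => Nat) (Atab_s_13_16 c) (Atab_s_16_20 c) (Nat.ble 16 c)
noncomputable def Atab_s_21_23 (c : Nat) : Nat := @Bool.rec (fun _ => Nat) (Atab_21) (Atab_22) (Nat.ble 22 c)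
noncomputable def Atab_s_20_23 (c : Nat) : Nat := @Bool.rec (fun _ => Nat) (Atab_20) (Atab_s_21_23 c) (Nat.ble 21 c)
noncomputable def Atab_s_23_25 (c : Nat) : Nat := @Bool.rec (fun _ => Nat) (Atab_23) (Atab_24) (Nat.ble 24 c)
noncomputable def Atab_s_25_27 (c : Nat) : Nat := @Bool.rec (fun _ => Nat) (Atab_25) (Atab_26) (Nat.ble 26 c)
noncomputable def Atab_s_23_27 (c : Nat) : Nat := @Bool.rec (fun _ => Nat) (Atab_s_23_25 c) (Atab_s_25_27 c) (Nat.ble 25 c)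
noncomputable def Atab_s_20_27 (c : Nat) : Nat := @Bool.rec (fun _ => Nat) (Atab_s_20_23 c) (Atab_s_23_27 c) (Nat.ble 23 c)
noncomputable def Atab_s_13_27 (c : Nat) : Nat := @Bool.rec (fun _ => Nat) (Atab_s_13_20 c) (Atab_s_20_27 c) (Nat.ble 20 c)
noncomputable def Atab_s_0_27 (c : Nat) : Nat := @Bool.rec (fun _ => Nat) (Atab_s_0_13 c) (Atab_s_13_27 c) (Nat.ble 13 c)
noncomputable def Atab_s_28_30 (c : Nat) : Nat := @Bool.rec (fun _ => Nat) (Atab_28) (Atab_29) (Nat.ble 29 c)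
noncomputable def Atab_s_27_30 (c : Nat) : Nat := @Bool.rec (fun _ => Nat) (Atab_27) (Atab_s_28_30 c) (Nat.ble 28 c)
noncomputable def Atab_s_31_33 (c : Nat) : Nat := @Bool.rec (fun _ => Nat) (Atab_31) (Atab_32) (Nat.ble 32 c)
noncomputable def Atab_s_30_33 (c : Nat) : Nat := @Bool.rec (fun _ => Nat) (Atab_30) (Atab_s_31_33 c) (Nat.ble 31 c)
noncomputable def Atab_s_27_33 (c : Nat) : Nat := @Bool.rec (fun _ => Nat) (Atab_s_27_30 c) (Atab_s_30_33 c) (Nat.ble 30 c)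
noncomputable def Atab_s_34_36 (c : Nat) : Nat := @Bool.rec (fun _ => Nat) (Atab_34) (Atab_35) (Nat.ble 35 c)
noncomputable def Atab_s_33_36 (c : Nat) : Nat := @Bool.rec (fun _ => Nat) (Atab_33) (Atab_s_34_36 c) (Nat.ble 34 c)
noncomputable def Atab_s_36_38 (c : Nat) : Nat := @Bool.rec (fun _ => Nat) (Atab_36) (Atab_37) (Nat.ble 37 c)
noncomputable def Atab_s_38_40 (c : Nat) : Nat := @Bool.rec (fun _ => Nat) (Atab_38) (Atab_39) (Nat.ble 39 c)
noncomputable def Atab_s_36_40 (c : Nat) : Nat := @Bool.rec (fun _ => Nat) (Atab_s_36_38 c) (Atab_s_38_40 c) (Nat.ble 38 c)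
noncomputable def Atab_s_33_40 (c : Nat) : Nat := @Bool.rec (fun _ => Nat) (Atab_s_33_36 c) (Atab_s_36_40 c) (Nat.ble 36 c)
noncomputable def Atab_s_27_40 (c : Nat) : Nat := @Bool.rec (fun _ => Nat) (Atab_s_27_33 c) (Atab_s_33_40 c) (Nat.ble 33 c)
noncomputable def Atab_s_41_43 (c : Nat) : Nat := @Bool.rec (fun _ => Nat) (Atab_41) (Atab_42) (Nat.ble 42 c)
noncomputable def Atab_s_40_43 (c : Nat) : Nat := @Bool.rec (fun _ => Nat) (Atab_40) (Atab_s_41_43 c) (Nat.ble 41 c)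
noncomputable def Atab_s_43_45 (c : Nat) : Nat := @Bool.rec (fun _ => Nat) (Atab_43) (Atab_44) (Nat.ble 44 c)
noncomputable def Atab_s_45_47 (c : Nat) : Nat := @Bool.rec (fun _ => Nat) (Atab_45) (Atab_46) (Nat.ble 46 c)
noncomputable def Atab_s_43_47 (c : Nat) : Nat := @Bool.rec (fun _ => Nat) (Atab_s_43_45 c) (Atab_s_45_47 c) (Nat.ble 45 c)
noncomputable def Atab_s_40_47 (c : Nat) : Nat := @Bool.rec (fun _ => Nat) (Atab_s_40_43 c) (Atab_s_43_47 c) (Nat.ble 43 c)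
noncomputable def Atab_s_48_50 (c : Nat) : Nat := @Bool.rec (fun _ => Nat) (Atab_48) (Atab_49) (Nat.ble 49 c)
noncomputable def Atab_s_47_50 (c : Nat) : Nat := @Bool.rec (fun _ => Nat) (Atab_47) (Atab_s_48_50 c) (Nat.ble 48 c)
noncomputable def Atab_s_50_52 (c : Nat) : Nat := @Bool.rec (fun _ => Nat) (Atab_50) (Atab_51) (Nat.ble 51 c)
noncomputable def Atab_s_52_54 (c : Nat) : Nat := @Bool.rec (fun _ => Nat) (Atab_52) (Atab_53) (Nat.ble 53 c)
noncomputable def Atab_s_50_54 (c : Nat) : Nat := @Bool.rec (fun _ => Nat) (Atab_s_50_52 c) (Atab_s_52_54 c) (Nat.ble 52 c)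
noncomputable def Atab_s_47_54 (c : Nat) : Nat := @Bool.rec (fun _ => Nat) (Atab_s_47_50 c) (Atab_s_50_54 c) (Nat.ble 50 c)
noncomputable def Atab_s_40_54 (c : Nat) : Nat := @Bool.rec (fun _ => Nat) (Atab_s_40_47 c) (Atab_s_47_54 c) (Nat.ble 47 c)
noncomputable def Atab_s_27_54 (c : Nat) : Nat := @Bool.rec (fun _ => Nat) (Atab_s_27_40 c) (Atab_s_40_54 c) (Nat.ble 40 c)
noncomputable def Atab_s_0_54 (c : Nat) : Nat := @Bool.rec (fun _ => Nat) (Atab_s_0_27 c) (Atab_s_27_54 c) (Nat.ble 27 c)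
noncomputable def Atab (i : Nat) : Nat := rdw 35 34359738367 (Atab_s_0_54 (Nat.shiftRight i 11)) (Nat.land i 2047)
noncomputable def Btab_s_0_2 (c : Nat) : Nat := @Bool.rec (fun _ => Nat) (Btab_0) (Btab_1) (Nat.ble 1 c)
noncomputable def Btab_s_3_5 (c : Nat) : Nat := @Bool.rec (fun _ => Nat) (Btab_3) (Btab_4) (Nat.ble 4 c)
noncomputable def Btab_s_2_5 (c : Nat) : Nat := @Bool.rec (fun _ => Nat) (Btab_2) (Btab_s_3_5 c) (Nat.ble 3 c)
noncomputable def Btab_s_0_5 (c : Nat) : Nat := @Bool.rec (fun _ => Nat) (Btab_s_0_2 c) (Btab_s_2_5 c) (Nat.ble 2 c)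
noncomputable def Btab_s_5_7 (c : Nat) : Nat := @Bool.rec (fun _ => Nat) (Btab_5) (Btab_6) (Nat.ble 6 c)
noncomputable def Btab_s_8_10 (c : Nat) : Nat := @Bool.rec (fun _ => Nat) (Btab_8) (Btab_9) (Nat.ble 9 c)
noncomputable def Btab_s_7_10 (c : Nat) : Nat := @Bool.rec (fun _ => Nat) (Btab_7) (Btab_s_8_10 c) (Nat.ble 8 c)
noncomputable def Btab_s_5_10 (c : Nat) : Nat := @Bool.rec (fun _ => Nat) (Btab_s_5_7 c) (Btab_s_7_10 c) (Nat.ble 7 c)
noncomputable def Btab_s_0_10 (c : Nat) : Nat := @Bool.rec (fun _ => Nat) (Btab_s_0_5 c) (Btab_s_5_10 c) (Nat.ble 5 c)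
noncomputable def Btab_s_10_12 (c : Nat) : Nat := @Bool.rec (fun _ => Nat) (Btab_10) (Btab_11) (Nat.ble 11 c)
noncomputable def Btab_s_13_15 (c : Nat) : Nat := @Bool.rec (fun _ => Nat) (Btab_13) (Btab_14) (Nat.ble 14 c)
noncomputable def Btab_s_12_15 (c : Nat) : Nat := @Bool.rec (fun _ => Nat) (Btab_12) (Btab_s_13_15 c) (Nat.ble 13 c)
noncomputable def Btab_s_10_15 (c : Nat) : Nat := @Bool.rec (fun _ => Nat) (Btab_s_10_12 c) (Btab_s_12_15 c) (Nat.ble 12 c)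
noncomputable def Btab_s_15_17 (c : Nat) : Nat := @Bool.rec (fun _ => Nat) (Btab_15) (Btab_16) (Nat.ble 16 c)
noncomputable def Btab_s_18_20 (c : Nat) : Nat := @Bool.rec (fun _ => Nat) (Btab_18) (Btab_19) (Nat.ble 19 c)
noncomputable def Btab_s_17_20 (c : Nat) : Nat := @Bool.rec (fun _ => Nat) (Btab_17) (Btab_s_18_20 c) (Nat.ble 18 c)
noncomputable def Btab_s_15_20 (c : Nat) : Nat := @Bool.rec (fun _ => Nat) (Btab_s_15_17 c) (Btab_s_17_20 c) (Nat.ble 17 c)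
noncomputable def Btab_s_10_20 (c : Nat) : Nat := @Bool.rec (fun _ => Nat) (Btab_s_10_15 c) (Btab_s_15_20 c) (Nat.ble 15 c)
noncomputable def Btab_s_0_20 (c : Nat) : Nat := @Bool.rec (fun _ => Nat) (Btab_s_0_10 c) (Btab_s_10_20 c) (Nat.ble 10 c)
noncomputable def Btab_s_20_22 (c : Nat) : Nat := @Bool.rec (fun _ => Nat) (Btab_20) (Btab_21) (Nat.ble 21 c)
noncomputable def Btab_s_23_25 (c : Nat) : Nat := @Bool.rec (fun _ => Nat) (Btab_23) (Btab_24) (Nat.ble 24 c)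
noncomputable def Btab_s_22_25 (c : Nat) : Nat := @Bool.rec (fun _ => Nat) (Btab_22) (Btab_s_23_25 c) (Nat.ble 23 c)
noncomputable def Btab_s_20_25 (c : Nat) : Nat := @Bool.rec (fun _ => Nat) (Btab_s_20_22 c) (Btab_s_22_25 c) (Nat.ble 22 c)
noncomputable def Btab_s_25_27 (c : Nat) : Nat := @Bool.rec (fun _ => Nat) (Btab_25) (Btab_26) (Nat.ble 26 c)
noncomputable def Btab_s_28_30 (c : Nat) : Nat := @Bool.rec (fun _ => Nat) (Btab_28) (Btab_29) (Nat.ble 29 c)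
noncomputable def Btab_s_27_30 (c : Nat) : Nat := @Bool.rec (fun _ => Nat) (Btab_27) (Btab_s_28_30 c) (Nat.ble 28 c)
noncomputable def Btab_s_25_30 (c : Nat) : Nat := @Bool.rec (fun _ => Nat) (Btab_s_25_27 c) (Btab_s_27_30 c) (Nat.ble 27 c)
noncomputable def Btab_s_20_30 (c : Nat) : Nat := @Bool.rec (fun _ => Nat) (Btab_s_20_25 c) (Btab_s_25_30 c) (Nat.ble 25 c)
noncomputable def Btab_s_30_32 (c : Nat) : Nat := @Bool.rec (fun _ => Nat) (Btab_30) (Btab_31) (Nat.ble 31 c)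
noncomputable def Btab_s_33_35 (c : Nat) : Nat := @Bool.rec (fun _ => Nat) (Btab_33) (Btab_34) (Nat.ble 34 c)
noncomputable def Btab_s_32_35 (c : Nat) : Nat := @Bool.rec (fun _ => Nat) (Btab_32) (Btab_s_33_35 c) (Nat.ble 33 c)
noncomputable def Btab_s_30_35 (c : Nat) : Nat := @Bool.rec (fun _ => Nat) (Btab_s_30_32 c) (Btab_s_32_35 c) (Nat.ble 32 c)
noncomputable def Btab_s_35_37 (c : Nat) : Nat := @Bool.rec (fun _ => Nat) (Btab_35) (Btab_36) (Nat.ble 36 c)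
noncomputable def Btab_s_38_40 (c : Nat) : Nat := @Bool.rec (fun _ => Nat) (Btab_38) (Btab_39) (Nat.ble 39 c)
noncomputable def Btab_s_37_40 (c : Nat) : Nat := @Bool.rec (fun _ => Nat) (Btab_37) (Btab_s_38_40 c) (Nat.ble 38 c)
noncomputable def Btab_s_35_40 (c : Nat) : Nat := @Bool.rec (fun _ => Nat) (Btab_s_35_37 c) (Btab_s_37_40 c) (Nat.ble 37 c)
noncomputable def Btab_s_30_40 (c : Nat) : Nat := @Bool.rec (fun _ => Nat) (Btab_s_30_35 c) (Btab_s_35_40 c) (Nat.ble 35 c)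
noncomputable def Btab_s_20_40 (c : Nat) : Nat := @Bool.rec (fun _ => Nat) (Btab_s_20_30 c) (Btab_s_30_40 c) (Nat.ble 30 c)
noncomputable def Btab_s_0_40 (c : Nat) : Nat := @Bool.rec (fun _ => Nat) (Btab_s_0_20 c) (Btab_s_20_40 c) (Nat.ble 20 c)
noncomputable def Btab (i : Nat) : Nat := rdw 36 68719476735 (Btab_s_0_40 (Nat.shiftRight i 11)) (Nat.land i 2047)
noncomputable def Ptab_s_1_3 (c : Nat) : Nat := @Bool.rec (fun _ => Nat) (Ptab_1) (Ptab_2) (Nat.ble 2 c)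
noncomputable def Ptab_s_0_3 (c : Nat) : Nat := @Bool.rec (fun _ => Nat) (Ptab_0) (Ptab_s_1_3 c) (Nat.ble 1 c)
noncomputable def Ptab_s_3_5 (c : Nat) : Nat := @Bool.rec (fun _ => Nat) (Ptab_3) (Ptab_4) (Nat.ble 4 c)
noncomputable def Ptab_s_5_7 (c : Nat) : Nat := @Bool.rec (fun _ => Nat) (Ptab_5) (Ptab_6) (Nat.ble 6 c)
noncomputable def Ptab_s_3_7 (c : Nat) : Nat := @Bool.rec (fun _ => Nat) (Ptab_s_3_5 c) (Ptab_s_5_7 c) (Nat.ble 5 c)
noncomputable def Ptab_s_0_7 (c : Nat) : Nat := @Bool.rec (fun _ => Nat) (Ptab_s_0_3 c) (Ptab_s_3_7 c) (Nat.ble 3 c)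
noncomputable def Ptab_s_7_9 (c : Nat) : Nat := @Bool.rec (fun _ => Nat) (Ptab_7) (Ptab_8) (Nat.ble 8 c)
noncomputable def Ptab_s_9_11 (c : Nat) : Nat := @Bool.rec (fun _ => Nat) (Ptab_9) (Ptab_10) (Nat.ble 10 c)
noncomputable def Ptab_s_7_11 (c : Nat) : Nat := @Bool.rec (fun _ => Nat) (Ptab_s_7_9 c) (Ptab_s_9_11 c) (Nat.ble 9 c)
noncomputable def Ptab_s_11_13 (c : Nat) : Nat := @Bool.rec (fun _ => Nat) (Ptab_11) (Ptab_12) (Nat.ble 12 c)
noncomputable def Ptab_s_13_15 (c : Nat) : Nat := @Bool.rec (fun _ => Nat) (Ptab_13) (Ptab_14) (Nat.ble 14 c)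
noncomputable def Ptab_s_11_15 (c : Nat) : Nat := @Bool.rec (fun _ => Nat) (Ptab_s_11_13 c) (Ptab_s_13_15 c) (Nat.ble 13 c)
noncomputable def Ptab_s_7_15 (c : Nat) : Nat := @Bool.rec (fun _ => Nat) (Ptab_s_7_11 c) (Ptab_s_11_15 c) (Nat.ble 11 c)
noncomputable def Ptab_s_0_15 (c : Nat) : Nat := @Bool.rec (fun _ => Nat) (Ptab_s_0_7 c) (Ptab_s_7_15 c) (Nat.ble 7 c)
noncomputable def Ptab_s_15_17 (c : Nat) : Nat := @Bool.rec (fun _ => Nat) (Ptab_15) (Ptab_16) (Nat.ble 16 c)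
noncomputable def Ptab_s_17_19 (c : Nat) : Nat := @Bool.rec (fun _ => Nat) (Ptab_17) (Ptab_18) (Nat.ble 18 c)
noncomputable def Ptab_s_15_19 (c : Nat) : Nat := @Bool.rec (fun _ => Nat) (Ptab_s_15_17 c) (Ptab_s_17_19 c) (Nat.ble 17 c)
noncomputable def Ptab_s_19_21 (c : Nat) : Nat := @Bool.rec (fun _ => Nat) (Ptab_19) (Ptab_20) (Nat.ble 20 c)
noncomputable def Ptab_s_21_23 (c : Nat) : Nat := @Bool.rec (fun _ => Nat) (Ptab_21) (Ptab_22) (Nat.ble 22 c)
noncomputable def Ptab_s_19_23 (c : Nat) : Nat := @Bool.rec (fun _ => Nat) (Ptab_s_19_21 c) (Ptab_s_21_23 c) (Nat.ble 21 c)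
noncomputable def Ptab_s_15_23 (c : Nat) : Nat := @Bool.rec (fun _ => Nat) (Ptab_s_15_19 c) (Ptab_s_19_23 c) (Nat.ble 19 c)
noncomputable def Ptab_s_23_25 (c : Nat) : Nat := @Bool.rec (fun _ => Nat) (Ptab_23) (Ptab_24) (Nat.ble 24 c)
noncomputable def Ptab_s_25_27 (c : Nat) : Nat := @Bool.rec (fun _ => Nat) (Ptab_25) (Ptab_26) (Nat.ble 26 c)
noncomputable def Ptab_s_23_27 (c : Nat) : Nat := @Bool.rec (fun _ => Nat) (Ptab_s_23_25 c) (Ptab_s_25_27 c) (Nat.ble 25 c)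
noncomputable def Ptab_s_27_29 (c : Nat) : Nat := @Bool.rec (fun _ => Nat) (Ptab_27) (Ptab_28) (Nat.ble 28 c)
noncomputable def Ptab_s_29_31 (c : Nat) : Nat := @Bool.rec (fun _ => Nat) (Ptab_29) (Ptab_30) (Nat.ble 30 c)
noncomputable def Ptab_s_27_31 (c : Nat) : Nat := @Bool.rec (fun _ => Nat) (Ptab_s_27_29 c) (Ptab_s_29_31 c) (Nat.ble 29 c)
noncomputable def Ptab_s_23_31 (c : Nat) : Nat := @Bool.rec (fun _ => Nat) (Ptab_s_23_27 c) (Ptab_s_27_31 c) (Nat.ble 27 c)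
noncomputable def Ptab_s_15_31 (c : Nat) : Nat := @Bool.rec (fun _ => Nat) (Ptab_s_15_23 c) (Ptab_s_23_31 c) (Nat.ble 23 c)
noncomputable def Ptab_s_0_31 (c : Nat) : Nat := @Bool.rec (fun _ => Nat) (Ptab_s_0_15 c) (Ptab_s_15_31 c) (Nat.ble 15 c)
noncomputable def Ptab_s_32_34 (c : Nat) : Nat := @Bool.rec (fun _ => Nat) (Ptab_32) (Ptab_33) (Nat.ble 33 c)
noncomputable def Ptab_s_31_34 (c : Nat) : Nat := @Bool.rec (fun _ => Nat) (Ptab_31) (Ptab_s_32_34 c) (Nat.ble 32 c)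
noncomputable def Ptab_s_34_36 (c : Nat) : Nat := @Bool.rec (fun _ => Nat) (Ptab_34) (Ptab_35) (Nat.ble 35 c)
noncomputable def Ptab_s_36_38 (c : Nat) : Nat := @Bool.rec (fun _ => Nat) (Ptab_36) (Ptab_37) (Nat.ble 37 c)
noncomputable def Ptab_s_34_38 (c : Nat) : Nat := @Bool.rec (fun _ => Nat) (Ptab_s_34_36 c) (Ptab_s_36_38 c) (Nat.ble 36 c)
noncomputable def Ptab_s_31_38 (c : Nat) : Nat := @Bool.rec (fun _ => Nat) (Ptab_s_31_34 c) (Ptab_s_34_38 c) (Nat.ble 34 c)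
noncomputable def Ptab_s_38_40 (c : Nat) : Nat := @Bool.rec (fun _ => Nat) (Ptab_38) (Ptab_39) (Nat.ble 39 c)
noncomputable def Ptab_s_40_42 (c : Nat) : Nat := @Bool.rec (fun _ => Nat) (Ptab_40) (Ptab_41) (Nat.ble 41 c)
noncomputable def Ptab_s_38_42 (c : Nat) : Nat := @Bool.rec (fun _ => Nat) (Ptab_s_38_40 c) (Ptab_s_40_42 c) (Nat.ble 40 c)
noncomputable def Ptab_s_42_44 (c : Nat) : Nat := @Bool.rec (fun _ => Nat) (Ptab_42) (Ptab_43) (Nat.ble 43 c)
noncomputable def Ptab_s_44_46 (c : Nat) : Nat := @Bool.rec (fun _ => Nat) (Ptab_44) (Ptab_45) (Nat.ble 45 c)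
noncomputable def Ptab_s_42_46 (c : Nat) : Nat := @Bool.rec (fun _ => Nat) (Ptab_s_42_44 c) (Ptab_s_44_46 c) (Nat.ble 44 c)
noncomputable def Ptab_s_38_46 (c : Nat) : Nat := @Bool.rec (fun _ => Nat) (Ptab_s_38_42 c) (Ptab_s_42_46 c) (Nat.ble 42 c)
noncomputable def Ptab_s_31_46 (c : Nat) : Nat := @Bool.rec (fun _ => Nat) (Ptab_s_31_38 c) (Ptab_s_38_46 c) (Nat.ble 38 c)
noncomputable def Ptab_s_46_48 (c : Nat) : Nat := @Bool.rec (fun _ => Nat) (Ptab_46) (Ptab_47) (Nat.ble 47 c)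
noncomputable def Ptab_s_48_50 (c : Nat) : Nat := @Bool.rec (fun _ => Nat) (Ptab_48) (Ptab_49) (Nat.ble 49 c)
noncomputable def Ptab_s_46_50 (c : Nat) : Nat := @Bool.rec (fun _ => Nat) (Ptab_s_46_48 c) (Ptab_s_48_50 c) (Nat.ble 48 c)
noncomputable def Ptab_s_50_52 (c : Nat) : Nat := @Bool.rec (fun _ => Nat) (Ptab_50) (Ptab_51) (Nat.ble 51 c)
noncomputable def Ptab_s_52_54 (c : Nat) : Nat := @Bool.rec (fun _ => Nat) (Ptab_52) (Ptab_53) (Nat.ble 53 c)
noncomputable def Ptab_s_50_54 (c : Nat) : Nat := @Bool.rec (fun _ => Nat) (Ptab_s_50_52 c) (Ptab_s_52_54 c) (Nat.ble 52 c)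
noncomputable def Ptab_s_46_54 (c : Nat) : Nat := @Bool.rec (fun _ => Nat) (Ptab_s_46_50 c) (Ptab_s_50_54 c) (Nat.ble 50 c)
noncomputable def Ptab_s_54_56 (c : Nat) : Nat := @Bool.rec (fun _ => Nat) (Ptab_54) (Ptab_55) (Nat.ble 55 c)
noncomputable def Ptab_s_56_58 (c : Nat) : Nat := @Bool.rec (fun _ => Nat) (Ptab_56) (Ptab_57) (Nat.ble 57 c)
noncomputable def Ptab_s_54_58 (c : Nat) : Nat := @Bool.rec (fun _ => Nat) (Ptab_s_54_56 c) (Ptab_s_56_58 c) (Nat.ble 56 c)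
noncomputable def Ptab_s_58_60 (c : Nat) : Nat := @Bool.rec (fun _ => Nat) (Ptab_58) (Ptab_59) (Nat.ble 59 c)
noncomputable def Ptab_s_60_62 (c : Nat) : Nat := @Bool.rec (fun _ => Nat) (Ptab_60) (Ptab_61) (Nat.ble 61 c)
noncomputable def Ptab_s_58_62 (c : Nat) : Nat := @Bool.rec (fun _ => Nat) (Ptab_s_58_60 c) (Ptab_s_60_62 c) (Nat.ble 60 c)
noncomputable def Ptab_s_54_62 (c : Nat) : Nat := @Bool.rec (fun _ => Nat) (Ptab_s_54_58 c) (Ptab_s_58_62 c) (Nat.ble 58 c)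
noncomputable def Ptab_s_46_62 (c : Nat) : Nat := @Bool.rec (fun _ => Nat) (Ptab_s_46_54 c) (Ptab_s_54_62 c) (Nat.ble 54 c)
noncomputable def Ptab_s_31_62 (c : Nat) : Nat := @Bool.rec (fun _ => Nat) (Ptab_s_31_46 c) (Ptab_s_46_62 c) (Nat.ble 46 c)
noncomputable def Ptab_s_0_62 (c : Nat) : Nat := @Bool.rec (fun _ => Nat) (Ptab_s_0_31 c) (Ptab_s_31_62 c) (Nat.ble 31 c)
noncomputable def Ptab (i : Nat) : Nat := rdw 18 262143 (Ptab_s_0_62 (Nat.shiftRight i 12)) (Nat.land i 4095)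
noncomputable def RRtab (i : Nat) : Nat := rdw 5 31 RRtab_0 i
noncomputable def rBtab (i : Nat) : Nat := rdw 10 1023 rBtab_0 i
noncomputable def rLtab (i : Nat) : Nat := rdw 5 31 rLtab_0 i
noncomputable def nameTab (i : Nat) : Nat := rdw 15 32767 nameTab_0 i
noncomputable def col0 (i : Nat) : Nat := rdw 12 4095 col0_0 i
noncomputable def col1 (i : Nat) : Nat := rdw 12 4095 col1_0 i
noncomputable def col2 (i : Nat) : Nat := rdw 12 4095 col2_0 i
noncomputable def col3 (i : Nat) : Nat := rdw 12 4095 col3_0 i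
noncomputable def col4 (i : Nat) : Nat := rdw 12 4095 col4_0 i
noncomputable def col5 (i : Nat) : Nat := rdw 12 4095 col5_0 i
noncomputable def col6 (i : Nat) : Nat := rdw 12 4095 col6_0 i
noncomputable def col7 (i : Nat) : Nat := rdw 12 4095 col7_0 i
noncomputable def col8 (i : Nat) : Nat := rdw 12 4095 col8_0 i
noncomputable def col9 (i : Nat) : Nat := rdw 12 4095 col9_0 i
noncomputable def col10 (i : Nat) : Nat := rdw 12 4095 col10_0 i
noncomputable def col11 (i : Nat) : Nat := rdw 12 4095 col11_0 i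
noncomputable def col12 (i : Nat) : Nat := rdw 12 4095 col12_0 i
noncomputable def col13 (i : Nat) : Nat := rdw 12 4095 col13_0 i
noncomputable def finTab_s_0_2 (c : Nat) : Nat := @Bool.rec (fun _ => Nat) (finTab_0) (finTab_1) (Nat.ble 1 c)
noncomputable def finTab_s_3_5 (c : Nat) : Nat := @Bool.rec (fun _ => Nat) (finTab_3) (finTab_4) (Nat.ble 4 c)
noncomputable def finTab_s_2_5 (c : Nat) : Nat := @Bool.rec (fun _ => Nat) (finTab_2) (finTab_s_3_5 c) (Nat.ble 3 c)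
noncomputable def finTab_s_0_5 (c : Nat) : Nat := @Bool.rec (fun _ => Nat) (finTab_s_0_2 c) (finTab_s_2_5 c) (Nat.ble 2 c)
noncomputable def finTab_s_5_7 (c : Nat) : Nat := @Bool.rec (fun _ => Nat) (finTab_5) (finTab_6) (Nat.ble 6 c)
noncomputable def finTab_s_8_10 (c : Nat) : Nat := @Bool.rec (fun _ => Nat) (finTab_8) (finTab_9) (Nat.ble 9 c)
noncomputable def finTab_s_7_10 (c : Nat) : Nat := @Bool.rec (fun _ => Nat) (finTab_7) (finTab_s_8_10 c) (Nat.ble 8 c)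
noncomputable def finTab_s_5_10 (c : Nat) : Nat := @Bool.rec (fun _ => Nat) (finTab_s_5_7 c) (finTab_s_7_10 c) (Nat.ble 7 c)
noncomputable def finTab_s_0_10 (c : Nat) : Nat := @Bool.rec (fun _ => Nat) (finTab_s_0_5 c) (finTab_s_5_10 c) (Nat.ble 5 c)
noncomputable def finTab (i : Nat) : Nat := rdw 18 262143 (finTab_s_0_10 (Nat.shiftRight i 12)) (Nat.land i 4095)
noncomputable def clsTab_s_0_2 (c : Nat) : Nat := @Bool.rec (fun _ => Nat) (clsTab_0) (clsTab_1) (Nat.ble 1 c)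
noncomputable def clsTab_s_2_4 (c : Nat) : Nat := @Bool.rec (fun _ => Nat) (clsTab_2) (clsTab_3) (Nat.ble 3 c)
noncomputable def clsTab_s_0_4 (c : Nat) : Nat := @Bool.rec (fun _ => Nat) (clsTab_s_0_2 c) (clsTab_s_2_4 c) (Nat.ble 2 c)
noncomputable def clsTab (i : Nat) : Nat := rdw 12 4095 (clsTab_s_0_4 (Nat.shiftRight i 13)) (Nat.land i 8191)
noncomputable def oparTab (i : Nat) : Nat := rdw 12 4095 oparTab_0 i
noncomputable def olabTab (i : Nat) : Nat := rdw 3 7 olabTab_0 i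
noncomputable def srcF (t : Nat) : Nat := Nat.land (Atab t) 32767
noncomputable def tgtF (t : Nat) : Nat := Nat.land (Nat.shiftRight (Atab t) 15) 32767
noncomputable def ltF (t : Nat) : Nat := Nat.shiftRight (Atab t) 30
noncomputable def rhoF (t : Nat) : Nat := Nat.land (Btab (Nat.sub t 27886)) 127
noncomputable def rotF (t : Nat) : Nat := Nat.land (Nat.shiftRight (Btab (Nat.sub t 27886)) 7) 31
noncomputable def lenF (t : Nat) : Nat := Nat.land (Nat.shiftRight (Btab (Nat.sub t 27886)) 12) 63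
noncomputable def offF (t : Nat) : Nat := Nat.shiftRight (Btab (Nat.sub t 27886)) 18
noncomputable def pfF (j : Nat) : Nat := Nat.shiftRight (Ptab j) 1
noncomputable def pdF (j : Nat) : Nat := Nat.land (Ptab j) 1
noncomputable def tblF (i x : Nat) : Nat := @Bool.rec (fun _ => Nat) (@Bool.rec (fun _ => Nat) (@Bool.rec (fun _ => Nat) (col0 i) (@Bool.rec (fun _ => Nat) (col1 i) (col2 i) (Nat.ble 2 x)) (Nat.ble 1 x)) (@Bool.rec (fun _ => Nat) (@Bool.rec (fun _ => Nat) (col3 i) (col4 i) (Nat.ble 4 x)) (@Bool.rec (fun _ => Nat) (col5 i) (col6 i) (Nat.ble 6 x)) (Nat.ble 5 x)) (Nat.ble 3 x)) (@Bool.rec (fun _ => Nat) (@Bool.rec (fun _ => Nat) (col7 i) (@Bool.rec (fun _ => Nat) (col8 i) (col9 i) (Nat.ble 9 x)) (Nat.ble 8 x)) (@Bool.rec (fun _ => Nat) (@Bool.rec (fun _ => Nat) (col10 i) (col11 i) (Nat.ble 11 x)) (@Bool.rec (fun _ => Nat) (col12 i) (col13 i) (Nat.ble 13 x)) (Nat.ble 12 x)) (Nat.ble 10 x)) (Nat.ble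 7 x)
noncomputable def finE (i x : Nat) : Nat := finTab (Nat.add (Nat.mul i 14) x)
noncomputable def finFF (i x : Nat) : Nat := Nat.shiftRight (finE i x) 1
noncomputable def finDF (i x : Nat) : Nat := Nat.land (finE i x) 1

noncomputable def D : Log :=
  { k := 14, inv := invE 14 PC4U62.invR, nR := 92, rBase := rBtab, rLen := rLtab, RR := RRtab,
    M := 27878, nB := 8, F := 109517, src := srcF, lt := ltF, tgt := tgtF, rho := rhoF, rot := rotF,
    off := offF, len := lenF, pf := pfF, pd := pdF }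

noncomputable def T : Tab :=
  { N := 2688, nameOf := nameTab, tbl := tblF, finF := finFF, finD := finDF, cls := clsTab }

def subs : List (List Nat) := [
  [0],
  [2],
  [4],
  [6] ]

def rw0 : List Nat := [0, 0]
def rw1 : List Nat := [2, 2, 2, 2, 2]
def rw2 : List Nat := [0, 2, 0, 2, 0, 2, 0, 2, 0, 2, 0, 2, 0, 2, 0, 2, 0, 2]
def rw3 : List Nat := [1, 3, 0, 2, 1, 3, 0, 2, 1, 3, 0, 2]
def rw4 : List Nat := [1, 3, 1, 3, 0, 2, 0, 2, 1, 3, 1, 3, 0, 2, 0, 2]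
def rw5 : List Nat := [4, 4, 4]
def rw6 : List Nat := [5, 1, 4, 0]
def rw7 : List Nat := [5, 3, 4, 2]
def rw8 : List Nat := [6, 6]
def rw9 : List Nat := [0, 6, 0, 6, 0, 6]
def rw10 : List Nat := [0, 2, 0, 2, 4, 6, 0, 2, 6]
def rw11 : List Nat := [8, 8, 8]
def rw12 : List Nat := [0, 2, 0, 2, 0, 2, 4, 6, 2, 0, 8, 2, 0, 3, 9, 0, 3]
def rw13 : List Nat := [0, 2, 0, 2, 0, 2, 0, 8, 4, 8, 2, 0, 3, 0, 3, 0, 2, 2, 11]
def rw14 : List Nat := [0, 2, 0, 2, 0, 2, 0, 3, 3, 0, 3, 4, 6, 2, 2, 6, 0, 3, 8, 6, 8, 5, 2, 6, 9, 3, 3, 13]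
def rw15 : List Nat := [10, 10]
def rw16 : List Nat := [12, 12]
def rw17 : List Nat := [11, 1, 10, 0]
def rw18 : List Nat := [11, 3, 10, 2]
def rw19 : List Nat := [11, 5, 10, 4]
def rw20 : List Nat := [11, 7, 10, 6]
def rw21 : List Nat := [11, 9, 10, 8]
def rw22 : List Nat := [13, 1, 12, 0]
def rw23 : List Nat := [13, 3, 12, 2]
def rw24 : List Nat := [13, 5, 12, 4]
def rw25 : List Nat := [13, 7, 12, 6]
def rw26 : List Nat := [13, 9, 12, 8]
def rw27 : List Nat := [11, 13, 10, 12]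
def realLit : List (List Nat) := [rw0, rw1, rw2, rw3, rw4, rw5, rw6, rw7, rw8, rw9, rw10, rw11, rw12, rw13, rw14, rw15, rw16, rw17, rw18, rw19, rw20, rw21, rw22, rw23, rw24, rw25, rw26, rw27]
noncomputable def actR0 (i : Nat) : Nat := col1 (col1 (i))
theorem actR0_eq (i : Nat) : actR0 i = Tab.act T D rw0 i := rfl
noncomputable def actR1 (i : Nat) : Nat := col3 (col3 (col3 (col3 (col3 (i)))))
theorem actR1_eq (i : Nat) : actR1 i = Tab.act T D rw1 i := rfl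
noncomputable def actR2 (i : Nat) : Nat := col1 (col3 (col1 (col3 (col1 (col3 (col1 (col3 (col1 (col3 (col1 (col3 (col1 (col3 (col1 (col3 (col1 (col3 (i))))))))))))))))))
theorem actR2_eq (i : Nat) : actR2 i = Tab.act T D rw2 i := rfl
noncomputable def actR3 (i : Nat) : Nat := col0 (col2 (col1 (col3 (col0 (col2 (col1 (col3 (col0 (col2 (col1 (col3 (i))))))))))))
theorem actR3_eq (i : Nat) : actR3 i = Tab.act T D rw3 i := rfl
noncomputable def actR4 (i : Nat) : Nat := col0 (col2 (col0 (col2 (col1 (col3 (col1 (col3 (col0 (col2 (col0 (col2 (col1 (col3 (col1 (col3 (i))))))))))))))))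
theorem actR4_eq (i : Nat) : actR4 i = Tab.act T D rw4 i := rfl
noncomputable def actR5 (i : Nat) : Nat := col5 (col5 (col5 (i)))
theorem actR5_eq (i : Nat) : actR5 i = Tab.act T D rw5 i := rfl
noncomputable def actR6 (i : Nat) : Nat := col4 (col0 (col5 (col1 (i))))
theorem actR6_eq (i : Nat) : actR6 i = Tab.act T D rw6 i := rfl
noncomputable def actR7 (i : Nat) : Nat := col4 (col2 (col5 (col3 (i))))
theorem actR7_eq (i : Nat) : actR7 i = Tab.act T D rw7 i := rfl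
noncomputable def actR8 (i : Nat) : Nat := col7 (col7 (i))
theorem actR8_eq (i : Nat) : actR8 i = Tab.act T D rw8 i := rfl
noncomputable def actR9 (i : Nat) : Nat := col1 (col7 (col1 (col7 (col1 (col7 (i))))))
theorem actR9_eq (i : Nat) : actR9 i = Tab.act T D rw9 i := rfl
noncomputable def actR10 (i : Nat) : Nat := col1 (col3 (col1 (col3 (col5 (col7 (col1 (col3 (col7 (i)))))))))
theorem actR10_eq (i : Nat) : actR10 i = Tab.act T D rw10 i := rfl
noncomputable def actR11 (i : Nat) : Nat := col9 (col9 (col9 (i)))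
theorem actR11_eq (i : Nat) : actR11 i = Tab.act T D rw11 i := rfl
noncomputable def actR12 (i : Nat) : Nat := col1 (col3 (col1 (col3 (col1 (col3 (col5 (col7 (col3 (col1 (col9 (col3 (col1 (col2 (col8 (col1 (col2 (i)))))))))))))))))
theorem actR12_eq (i : Nat) : actR12 i = Tab.act T D rw12 i := rfl
noncomputable def actR13 (i : Nat) : Nat := col1 (col3 (col1 (col3 (col1 (col3 (col1 (col9 (col5 (col9 (col3 (col1 (col2 (col1 (col2 (col1 (col3 (col3 (col10 (i)))))))))))))))))))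
theorem actR13_eq (i : Nat) : actR13 i = Tab.act T D rw13 i := rfl
noncomputable def actR14 (i : Nat) : Nat := col1 (col3 (col1 (col3 (col1 (col3 (col1 (col2 (col2 (col1 (col2 (col5 (col7 (col3 (col3 (col7 (col1 (col2 (col9 (col7 (col9 (col4 (col3 (col7 (col8 (col2 (col2 (col12 (i))))))))))))))))))))))))))))
theorem actR14_eq (i : Nat) : actR14 i = Tab.act T D rw14 i := rfl
noncomputable def actR15 (i : Nat) : Nat := col11 (col11 (i))
theorem actR15_eq (i : Nat) : actR15 i = Tab.act T D rw15 i := rfl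
noncomputable def actR16 (i : Nat) : Nat := col13 (col13 (i))
theorem actR16_eq (i : Nat) : actR16 i = Tab.act T D rw16 i := rfl
noncomputable def actR17 (i : Nat) : Nat := col10 (col0 (col11 (col1 (i))))
theorem actR17_eq (i : Nat) : actR17 i = Tab.act T D rw17 i := rfl
noncomputable def actR18 (i : Nat) : Nat := col10 (col2 (col11 (col3 (i))))
theorem actR18_eq (i : Nat) : actR18 i = Tab.act T D rw18 i := rfl
noncomputable def actR19 (i : Nat) : Nat := col10 (col4 (col11 (col5 (i))))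
theorem actR19_eq (i : Nat) : actR19 i = Tab.act T D rw19 i := rfl
noncomputable def actR20 (i : Nat) : Nat := col10 (col6 (col11 (col7 (i))))
theorem actR20_eq (i : Nat) : actR20 i = Tab.act T D rw20 i := rfl
noncomputable def actR21 (i : Nat) : Nat := col10 (col8 (col11 (col9 (i))))
theorem actR21_eq (i : Nat) : actR21 i = Tab.act T D rw21 i := rfl
noncomputable def actR22 (i : Nat) : Nat := col12 (col0 (col13 (col1 (i))))
theorem actR22_eq (i : Nat) : actR22 i = Tab.act T D rw22 i := rfl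
noncomputable def actR23 (i : Nat) : Nat := col12 (col2 (col13 (col3 (i))))
theorem actR23_eq (i : Nat) : actR23 i = Tab.act T D rw23 i := rfl
noncomputable def actR24 (i : Nat) : Nat := col12 (col4 (col13 (col5 (i))))
theorem actR24_eq (i : Nat) : actR24 i = Tab.act T D rw24 i := rfl
noncomputable def actR25 (i : Nat) : Nat := col12 (col6 (col13 (col7 (i))))
theorem actR25_eq (i : Nat) : actR25 i = Tab.act T D rw25 i := rfl
noncomputable def actR26 (i : Nat) : Nat := col12 (col8 (col13 (col9 (i))))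
theorem actR26_eq (i : Nat) : actR26 i = Tab.act T D rw26 i := rfl
noncomputable def actR27 (i : Nat) : Nat := col10 (col12 (col11 (col13 (i))))
theorem actR27_eq (i : Nat) : actR27 i = Tab.act T D rw27 i := rfl

end Cfsg.Agent.Lib.Helper4.TCD.C4U62B
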