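import Cfsg.Agent.Lib.Helper4.TCD_C4U62B_Acc

namespace Cfsg.Agent.Lib.Helper4.TCD.C4U62B

open Cfsg.Agent.Lib.Helper4.TC

set_option maxRecDepth 100000
set_option Elab.async false

theorem c_zero : D.zeroOK = true := by decide +kernel
theorem c_base : allBelow D.baseOK 8 = true := by decide +kernel
theorem c_let : allBelow D.letOK 14 = true := by decide +kernel
theorem c_cls0 : T.cls 0 = 0 := by decide +kernel
theorem c_name0 : T.nameOf 0 = 0 := by decide +kernel
theorem c_tab : D.relTabOK 0 (baseRels 14 PC4U62.invR PC4U62.P.real subs ++ (baseRels 14 PC4U62.invR PC4U62.P.real subs).map (invWord D.inv)) = true := by decide +kernel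
theorem c_real : PC4U62.P.real = realLit := by decide +kernel
theorem c_subfix : subs.all (fun u => Nat.beq (Tab.act T D u 0) 0) = true := by decide +kernel
theorem c_subs : subs.all (fun u => u.all (fun x => Nat.ble (Nat.succ x) 14)) = true := by decide +kernel
theorem c_names_0 : allRange D.nameOK 1 27877 = true := by decide +kernel
theorem c_cls_0 : allRange (T.clsOK D) 1 15000 = true := by decide +kernel
theorem c_cls_1 : allRange (T.clsOK D) 15001 12877 = true := by decide +kernel
theorem c_rep_0 : allRange (T.repOK D) 0 2688 = true := by decide +kernel
theorem c_rel_0 : allRange D.relOK 27886 4337 = true := by decide +kernel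
theorem c_rel_1 : allRange D.relOK 32223 4384 = true := by decide +kernel
theorem c_rel_2 : allRange D.relOK 36607 4318 = true := by decide +kernel
theorem c_rel_3 : allRange D.relOK 40925 3030 = true := by decide +kernel
theorem c_rel_4 : allRange D.relOK 43955 3884 = true := by decide +kernel
theorem c_rel_5 : allRange D.relOK 47839 3208 = true := by decide +kernel
theorem c_rel_6 : allRange D.relOK 51047 3669 = true := by decide +kernel
theorem c_rel_7 : allRange D.relOK 54716 3154 = true := by decide +kernel
theorem c_rel_8 : allRange D.relOK 57870 3503 = true := by decide +kernel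
theorem c_rel_9 : allRange D.relOK 61373 3649 = true := by decide +kernel
theorem c_rel_10 : allRange D.relOK 65022 3278 = true := by decide +kernel
theorem c_rel_11 : allRange D.relOK 68300 3179 = true := by decide +kernel
theorem c_rel_12 : allRange D.relOK 71479 3057 = true := by decide +kernel
theorem c_rel_13 : allRange D.relOK 74536 3095 = true := by decide +kernel
theorem c_rel_14 : allRange D.relOK 77631 2823 = true := by decide +kernel
theorem c_rel_15 : allRange D.relOK 80454 2593 = true := by decide +kernel
theorem c_rel_16 : allRange D.relOK 83047 2213 = true := by decide +kernel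
theorem c_rel_17 : allRange D.relOK 85260 4453 = true := by decide +kernel
theorem c_rel_18 : allRange D.relOK 89713 4735 = true := by decide +kernel
theorem c_rel_19 : allRange D.relOK 94448 4690 = true := by decide +kernel
theorem c_rel_20 : allRange D.relOK 99138 4649 = true := by decide +kernel
theorem c_rel_21 : allRange D.relOK 103787 4633 = true := by decide +kernel
theorem c_rel_22 : allRange D.relOK 108420 1097 = true := by decide +kernel
theorem c_fin_0 : allGrid (T.finOK D) 0 857 14 = true := by decide +kernel
theorem c_fin_1 : allGrid (T.finOK D) 857 857 14 = true := by decide +kernel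
theorem c_fin_2 : allGrid (T.finOK D) 1714 857 14 = true := by decide +kernel
theorem c_fin_3 : allGrid (T.finOK D) 2571 117 14 = true := by decide +kernel
theorem c_perm_0 : allGrid (T.permOK1 D) 0 2142 14 = true := by decide +kernel
theorem c_perm_1 : allGrid (T.permOK1 D) 2142 546 14 = true := by decide +kernel
theorem c_act0_0 : allRange (fun i => Nat.beq (actR0 i) i) 0 2688 = true := by decide +kernel
theorem c_act1_0 : allRange (fun i => Nat.beq (actR1 i) i) 0 2688 = true := by decide +kernel
theorem c_act2_0 : allRange (fun i => Nat.beq (actR2 i) i) 0 2688 = true := by decide +kernel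
theorem c_act3_0 : allRange (fun i => Nat.beq (actR3 i) i) 0 2688 = true := by decide +kernel
theorem c_act4_0 : allRange (fun i => Nat.beq (actR4 i) i) 0 2688 = true := by decide +kernel
theorem c_act5_0 : allRange (fun i => Nat.beq (actR5 i) i) 0 2688 = true := by decide +kernel
theorem c_act6_0 : allRange (fun i => Nat.beq (actR6 i) i) 0 2688 = true := by decide +kernel
theorem c_act7_0 : allRange (fun i => Nat.beq (actR7 i) i) 0 2688 = true := by decide +kernel
theorem c_act8_0 : allRange (fun i => Nat.beq (actR8 i) i) 0 2688 = true := by decide +kernel
theorem c_act9_0 : allRange (fun i => Nat.beq (actR9 i) i) 0 2688 = true := by decide +kernel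
theorem c_act10_0 : allRange (fun i => Nat.beq (actR10 i) i) 0 2688 = true := by decide +kernel
theorem c_act11_0 : allRange (fun i => Nat.beq (actR11 i) i) 0 2688 = true := by decide +kernel
theorem c_act12_0 : allRange (fun i => Nat.beq (actR12 i) i) 0 2688 = true := by decide +kernel
theorem c_act13_0 : allRange (fun i => Nat.beq (actR13 i) i) 0 2688 = true := by decide +kernel
theorem c_act14_0 : allRange (fun i => Nat.beq (actR14 i) i) 0 2142 = true := by decide +kernel
theorem c_act14_1 : allRange (fun i => Nat.beq (actR14 i) i) 2142 546 = true := by decide +kernel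
theorem c_act15_0 : allRange (fun i => Nat.beq (actR15 i) i) 0 2688 = true := by decide +kernel
theorem c_act16_0 : allRange (fun i => Nat.beq (actR16 i) i) 0 2688 = true := by decide +kernel
theorem c_act17_0 : allRange (fun i => Nat.beq (actR17 i) i) 0 2688 = true := by decide +kernel
theorem c_act18_0 : allRange (fun i => Nat.beq (actR18 i) i) 0 2688 = true := by decide +kernel
theorem c_act19_0 : allRange (fun i => Nat.beq (actR19 i) i) 0 2688 = true := by decide +kernel
theorem c_act20_0 : allRange (fun i => Nat.beq (actR20 i) i) 0 2688 = true := by decide +kernel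
theorem c_act21_0 : allRange (fun i => Nat.beq (actR21 i) i) 0 2688 = true := by decide +kernel
theorem c_act22_0 : allRange (fun i => Nat.beq (actR22 i) i) 0 2688 = true := by decide +kernel
theorem c_act23_0 : allRange (fun i => Nat.beq (actR23 i) i) 0 2688 = true := by decide +kernel
theorem c_act24_0 : allRange (fun i => Nat.beq (actR24 i) i) 0 2688 = true := by decide +kernel
theorem c_act25_0 : allRange (fun i => Nat.beq (actR25 i) i) 0 2688 = true := by decide +kernel
theorem c_act26_0 : allRange (fun i => Nat.beq (actR26 i) i) 0 2688 = true := by decide +kernel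
theorem c_act27_0 : allRange (fun i => Nat.beq (actR27 i) i) 0 2688 = true := by decide +kernel

end Cfsg.Agent.Lib.Helper4.TCD.C4U62B
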