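import Cfsg.Agent.Lib.Helper4.TC14
import Cfsg.Agent.Lib.Helper4.TCP_C4U62
import Cfsg.Agent.Lib.Helper4.TCD_C4U62R_D0

namespace Cfsg.Agent.Lib.Helper4.TCD.C4U62R

open Cfsg.Agent.Lib.Helper4.TC

set_option maxRecDepth 100000

noncomputable def col0 (i : Nat) : Nat := rdw 12 4095 col0_0 i
noncomputable def col1 (i : Nat) : Nat := rdw 12 4095 col1_0 i
noncomputable def col2 (i : Nat) : Nat := rdw 12 4095 col2_0 i
noncomputable def col3 (i : Nat) : Nat := rdw 12 4095 col3_0 i
noncomputable def col4 (i : Nat) : Nat := rdw 12 4095 col4_0 i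
noncomputable def col5 (i : Nat) : Nat := rdw 12 4095 col5_0 i
noncomputable def col6 (i : Nat) : Nat := rdw 12 4095 col6_0 i
noncomputable def col7 (i : Nat) : Nat := rdw 12 4095 col7_0 i
noncomputable def col8 (i : Nat) : Nat := rdw 12 4095 col8_0 i
noncomputable def col9 (i : Nat) : Nat := rdw 12 4095 col9_0 i
noncomputable def col10 (i : Nat) : Nat := rdw 12 4095 col10_0 i
noncomputable def col11 (i : Nat) : Nat := rdw 12 4095 col11_0 i
noncomputable def col12 (i : Nat) : Nat := rdw 12 4095 col12_0 i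
noncomputable def col13 (i : Nat) : Nat := rdw 12 4095 col13_0 i
noncomputable def tblF (i x : Nat) : Nat := @Bool.rec (fun _ => Nat) (@Bool.rec (fun _ => Nat) (@Bool.rec (fun _ => Nat) (col0 i) (@Bool.rec (fun _ => Nat) (col1 i) (col2 i) (Nat.ble 2 x)) (Nat.ble 1 x)) (@Bool.rec (fun _ => Nat) (@Bool.rec (fun _ => Nat) (col3 i) (col4 i) (Nat.ble 4 x)) (@Bool.rec (fun _ => Nat) (col5 i) (col6 i) (Nat.ble 6 x)) (Nat.ble 5 x)) (Nat.ble 3 x)) (@Bool.rec (fun _ => Nat) (@Bool.rec (fun _ => Nat) (col7 i) (@Bool.rec (fun _ => Nat) (col8 i) (col9 i) (Nat.ble 9 x)) (Nat.ble 8 x)) (@Bool.rec (fun _ => Nat) (@Bool.rec (fun _ => Nat) (col10 i) (col11 i) (Nat.ble 11 x)) (@Bool.rec (fun _ => Nat) (col12 i) (col13 i) (Nat.ble 13 x)) (Nat.ble 12 x)) (Nat.ble 10 x)) (Nat.ble 7 x)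

noncomputable def D : Log :=
  { k := 14, inv := PC4U62.invR, nR := 0, rBase := fun _ => 0, rLen := fun _ => 0, RR := fun _ => 0,
    M := 0, nB := 0, F := 0, src := fun _ => 0, lt := fun _ => 0, tgt := fun _ => 0, rho := fun _ => 0, rot := fun _ => 0,
    off := fun _ => 0, len := fun _ => 0, pf := fun _ => 0, pd := fun _ => 0 }

noncomputable def T : Tab :=
  { N := 2688, nameOf := fun _ => 0, tbl := tblF, finF := fun _ _ => 0, finD := fun _ _ => 0, cls := fun _ => 0 }

def rw0 : List Nat := [0, 0]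
def rw1 : List Nat := [2, 2, 2, 2, 2]
def rw2 : List Nat := [0, 2, 0, 2, 0, 2, 0, 2, 0, 2, 0, 2, 0, 2, 0, 2, 0, 2]
def rw3 : List Nat := [1, 3, 0, 2, 1, 3, 0, 2, 1, 3, 0, 2]
def rw4 : List Nat := [1, 3, 1, 3, 0, 2, 0, 2, 1, 3, 1, 3, 0, 2, 0, 2]
def rw5 : List Nat := [4, 4, 4]
def rw6 : List Nat := [5, 1, 4, 0]
def rw7 : List Nat := [5, 3, 4, 2]
def rw8 : List Nat := [6, 6]
def rw9 : List Nat := [0, 6, 0, 6, 0, 6]
def rw10 : List Nat := [0, 2, 0, 2, 4, 6, 0, 2, 6]
def rw11 : List Nat := [8, 8, 8]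
def rw12 : List Nat := [0, 2, 0, 2, 0, 2, 4, 6, 2, 0, 8, 2, 0, 3, 9, 0, 3]
def rw13 : List Nat := [0, 2, 0, 2, 0, 2, 0, 8, 4, 8, 2, 0, 3, 0, 3, 0, 2, 2, 11]
def rw14 : List Nat := [0, 2, 0, 2, 0, 2, 0, 3, 3, 0, 3, 4, 6, 2, 2, 6, 0, 3, 8, 6, 8, 5, 2, 6, 9, 3, 3, 13]
def rw15 : List Nat := [10, 10]
def rw16 : List Nat := [12, 12]
def rw17 : List Nat := [11, 1, 10, 0]
def rw18 : List Nat := [11, 3, 10, 2]
def rw19 : List Nat := [11, 5, 10, 4]
def rw20 : List Nat := [11, 7, 10, 6]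
def rw21 : List Nat := [11, 9, 10, 8]
def rw22 : List Nat := [13, 1, 12, 0]
def rw23 : List Nat := [13, 3, 12, 2]
def rw24 : List Nat := [13, 5, 12, 4]
def rw25 : List Nat := [13, 7, 12, 6]
def rw26 : List Nat := [13, 9, 12, 8]
def rw27 : List Nat := [11, 13, 10, 12]
def realLit : List (List Nat) := [rw0, rw1, rw2, rw3, rw4, rw5, rw6, rw7, rw8, rw9, rw10, rw11, rw12, rw13, rw14, rw15, rw16, rw17, rw18, rw19, rw20, rw21, rw22, rw23, rw24, rw25, rw26, rw27]
noncomputable def actR0 (i : Nat) : Nat := col1 (col1 (i))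
theorem actR0_eq (i : Nat) : actR0 i = Tab.act T D rw0 i := rfl
noncomputable def actR1 (i : Nat) : Nat := col3 (col3 (col3 (col3 (col3 (i)))))
theorem actR1_eq (i : Nat) : actR1 i = Tab.act T D rw1 i := rfl
noncomputable def actR2 (i : Nat) : Nat := col1 (col3 (col1 (col3 (col1 (col3 (col1 (col3 (col1 (col3 (col1 (col3 (col1 (col3 (col1 (col3 (col1 (col3 (i))))))))))))))))))
theorem actR2_eq (i : Nat) : actR2 i = Tab.act T D rw2 i := rfl
noncomputable def actR3 (i : Nat) : Nat := col0 (col2 (col1 (col3 (col0 (col2 (col1 (col3 (col0 (col2 (col1 (col3 (i))))))))))))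
theorem actR3_eq (i : Nat) : actR3 i = Tab.act T D rw3 i := rfl
noncomputable def actR4 (i : Nat) : Nat := col0 (col2 (col0 (col2 (col1 (col3 (col1 (col3 (col0 (col2 (col0 (col2 (col1 (col3 (col1 (col3 (i))))))))))))))))
theorem actR4_eq (i : Nat) : actR4 i = Tab.act T D rw4 i := rfl
noncomputable def actR5 (i : Nat) : Nat := col5 (col5 (col5 (i)))
theorem actR5_eq (i : Nat) : actR5 i = Tab.act T D rw5 i := rfl
noncomputable def actR6 (i : Nat) : Nat := col4 (col0 (col5 (col1 (i))))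
theorem actR6_eq (i : Nat) : actR6 i = Tab.act T D rw6 i := rfl
noncomputable def actR7 (i : Nat) : Nat := col4 (col2 (col5 (col3 (i))))
theorem actR7_eq (i : Nat) : actR7 i = Tab.act T D rw7 i := rfl
noncomputable def actR8 (i : Nat) : Nat := col7 (col7 (i))
theorem actR8_eq (i : Nat) : actR8 i = Tab.act T D rw8 i := rfl
noncomputable def actR9 (i : Nat) : Nat := col1 (col7 (col1 (col7 (col1 (col7 (i))))))
theorem actR9_eq (i : Nat) : actR9 i = Tab.act T D rw9 i := rfl
noncomputable def actR10 (i : Nat) : Nat := col1 (col3 (col1 (col3 (col5 (col7 (col1 (col3 (col7 (i)))))))))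
theorem actR10_eq (i : Nat) : actR10 i = Tab.act T D rw10 i := rfl
noncomputable def actR11 (i : Nat) : Nat := col9 (col9 (col9 (i)))
theorem actR11_eq (i : Nat) : actR11 i = Tab.act T D rw11 i := rfl
noncomputable def actR12 (i : Nat) : Nat := col1 (col3 (col1 (col3 (col1 (col3 (col5 (col7 (col3 (col1 (col9 (col3 (col1 (col2 (col8 (col1 (col2 (i)))))))))))))))))
theorem actR12_eq (i : Nat) : actR12 i = Tab.act T D rw12 i := rfl
noncomputable def actR13 (i : Nat) : Nat := col1 (col3 (col1 (col3 (col1 (col3 (col1 (col9 (col5 (col9 (col3 (col1 (col2 (col1 (col2 (col1 (col3 (col3 (col10 (i)))))))))))))))))))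
theorem actR13_eq (i : Nat) : actR13 i = Tab.act T D rw13 i := rfl
noncomputable def actR14 (i : Nat) : Nat := col1 (col3 (col1 (col3 (col1 (col3 (col1 (col2 (col2 (col1 (col2 (col5 (col7 (col3 (col3 (col7 (col1 (col2 (col9 (col7 (col9 (col4 (col3 (col7 (col8 (col2 (col2 (col12 (i))))))))))))))))))))))))))))
theorem actR14_eq (i : Nat) : actR14 i = Tab.act T D rw14 i := rfl
noncomputable def actR15 (i : Nat) : Nat := col11 (col11 (i))
theorem actR15_eq (i : Nat) : actR15 i = Tab.act T D rw15 i := rfl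
noncomputable def actR16 (i : Nat) : Nat := col13 (col13 (i))
theorem actR16_eq (i : Nat) : actR16 i = Tab.act T D rw16 i := rfl
noncomputable def actR17 (i : Nat) : Nat := col10 (col0 (col11 (col1 (i))))
theorem actR17_eq (i : Nat) : actR17 i = Tab.act T D rw17 i := rfl
noncomputable def actR18 (i : Nat) : Nat := col10 (col2 (col11 (col3 (i))))
theorem actR18_eq (i : Nat) : actR18 i = Tab.act T D rw18 i := rfl
noncomputable def actR19 (i : Nat) : Nat := col10 (col4 (col11 (col5 (i))))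
theorem actR19_eq (i : Nat) : actR19 i = Tab.act T D rw19 i := rfl
noncomputable def actR20 (i : Nat) : Nat := col10 (col6 (col11 (col7 (i))))
theorem actR20_eq (i : Nat) : actR20 i = Tab.act T D rw20 i := rfl
noncomputable def actR21 (i : Nat) : Nat := col10 (col8 (col11 (col9 (i))))
theorem actR21_eq (i : Nat) : actR21 i = Tab.act T D rw21 i := rfl
noncomputable def actR22 (i : Nat) : Nat := col12 (col0 (col13 (col1 (i))))
theorem actR22_eq (i : Nat) : actR22 i = Tab.act T D rw22 i := rfl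
noncomputable def actR23 (i : Nat) : Nat := col12 (col2 (col13 (col3 (i))))
theorem actR23_eq (i : Nat) : actR23 i = Tab.act T D rw23 i := rfl
noncomputable def actR24 (i : Nat) : Nat := col12 (col4 (col13 (col5 (i))))
theorem actR24_eq (i : Nat) : actR24 i = Tab.act T D rw24 i := rfl
noncomputable def actR25 (i : Nat) : Nat := col12 (col6 (col13 (col7 (i))))
theorem actR25_eq (i : Nat) : actR25 i = Tab.act T D rw25 i := rfl
noncomputable def actR26 (i : Nat) : Nat := col12 (col8 (col13 (col9 (i))))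
theorem actR26_eq (i : Nat) : actR26 i = Tab.act T D rw26 i := rfl
noncomputable def actR27 (i : Nat) : Nat := col10 (col12 (col11 (col13 (i))))
theorem actR27_eq (i : Nat) : actR27 i = Tab.act T D rw27 i := rfl

end Cfsg.Agent.Lib.Helper4.TCD.C4U62R
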