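import Cfsg.Agent.Lib.Helper4.TC7
import Cfsg.Agent.Lib.Helper4.TCP_C6A6
import Cfsg.Agent.Lib.Helper4.TCD_C6A6A_D0

namespace Cfsg.Agent.Lib.Helper4.TCD.C6A6A

open Cfsg.Agent.Lib.Helper4.TC

set_option maxRecDepth 100000

noncomputable def Atab (i : Nat) : Nat := rdw 24 16777215 Atab_0 i
noncomputable def Btab (i : Nat) : Nat := rdw 27 134217727 Btab_0 i
noncomputable def Ptab (i : Nat) : Nat := rdw 12 4095 Ptab_0 i
noncomputable def RRtab (i : Nat) : Nat := rdw 4 15 RRtab_0 i
noncomputable def rBtab (i : Nat) : Nat := rdw 9 511 rBtab_0 i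
noncomputable def rLtab (i : Nat) : Nat := rdw 4 15 rLtab_0 i
noncomputable def nameTab (i : Nat) : Nat := rdw 10 1023 nameTab_0 i
noncomputable def col0 (i : Nat) : Nat := rdw 9 511 col0_0 i
noncomputable def col1 (i : Nat) : Nat := rdw 9 511 col1_0 i
noncomputable def col2 (i : Nat) : Nat := rdw 9 511 col2_0 i
noncomputable def col3 (i : Nat) : Nat := rdw 9 511 col3_0 i
noncomputable def col4 (i : Nat) : Nat := rdw 9 511 col4_0 i
noncomputable def col5 (i : Nat) : Nat := rdw 9 511 col5_0 i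
noncomputable def finTab (i : Nat) : Nat := rdw 12 4095 finTab_0 i
noncomputable def clsTab (i : Nat) : Nat := rdw 9 511 clsTab_0 i
noncomputable def oparTab (i : Nat) : Nat := rdw 9 511 oparTab_0 i
noncomputable def olabTab (i : Nat) : Nat := rdw 1 1 olabTab_0 i
noncomputable def srcF (t : Nat) : Nat := Nat.land (Atab t) 1023
noncomputable def tgtF (t : Nat) : Nat := Nat.land (Nat.shiftRight (Atab t) 10) 1023
noncomputable def ltF (t : Nat) : Nat := Nat.shiftRight (Atab t) 20
noncomputable def rhoF (t : Nat) : Nat := Nat.land (Btab (Nat.sub t 537)) 31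
noncomputable def rotF (t : Nat) : Nat := Nat.land (Nat.shiftRight (Btab (Nat.sub t 537)) 5) 15
noncomputable def lenF (t : Nat) : Nat := Nat.land (Nat.shiftRight (Btab (Nat.sub t 537)) 9) 31
noncomputable def offF (t : Nat) : Nat := Nat.shiftRight (Btab (Nat.sub t 537)) 14
noncomputable def pfF (j : Nat) : Nat := Nat.shiftRight (Ptab j) 1
noncomputable def pdF (j : Nat) : Nat := Nat.land (Ptab j) 1
noncomputable def tblF (i x : Nat) : Nat := @Bool.rec (fun _ => Nat) (@Bool.rec (fun _ => Nat) (col0 i) (@Bool.rec (fun _ => Nat) (col1 i) (col2 i) (Nat.ble 2 x)) (Nat.ble 1 x)) (@Bool.rec (fun _ => Nat) (col3 i) (@Bool.rec (fun _ => Nat) (col4 i) (col5 i) (Nat.ble 5 x)) (Nat.ble 4 x)) (Nat.ble 3 x)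
noncomputable def finE (i x : Nat) : Nat := finTab (Nat.add (Nat.mul i 6) x)
noncomputable def finFF (i x : Nat) : Nat := Nat.shiftRight (finE i x) 1
noncomputable def finDF (i x : Nat) : Nat := Nat.land (finE i x) 1

noncomputable def D : Log :=
  { k := 6, inv := invE 6 PC6A6.invR, nR := 30, rBase := rBtab, rLen := rLtab, RR := RRtab,
    M := 535, nB := 2, F := 1632, src := srcF, lt := ltF, tgt := tgtF, rho := rhoF, rot := rotF,
    off := offF, len := lenF, pf := pfF, pd := pdF }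

noncomputable def T : Tab :=
  { N := 432, nameOf := nameTab, tbl := tblF, finF := finFF, finD := finDF, cls := clsTab }

def subs : List (List Nat) := [
  [0, 2, 2] ]

def rw0 : List Nat := [4, 4, 4, 4, 4, 4]
def rw1 : List Nat := [4, 0, 5, 1]
def rw2 : List Nat := [4, 2, 5, 3]
def rw3 : List Nat := [0, 0, 0, 0]
def rw4 : List Nat := [0, 0, 5, 5, 5]
def rw5 : List Nat := [2, 2, 2, 2, 5, 5, 5]
def rw6 : List Nat := [0, 2, 0, 2, 0, 2, 0, 2, 0, 2, 5, 5, 5, 5]
def rw7 : List Nat := [0, 2, 2, 0, 2, 2, 0, 2, 2, 0, 2, 2, 0, 2, 2]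
def realLit : List (List Nat) := [rw0, rw1, rw2, rw3, rw4, rw5, rw6, rw7]
noncomputable def actR0 (i : Nat) : Nat := col5 (col5 (col5 (col5 (col5 (col5 (i))))))
theorem actR0_eq (i : Nat) : actR0 i = Tab.act T D rw0 i := rfl
noncomputable def actR1 (i : Nat) : Nat := col5 (col1 (col4 (col0 (i))))
theorem actR1_eq (i : Nat) : actR1 i = Tab.act T D rw1 i := rfl
noncomputable def actR2 (i : Nat) : Nat := col5 (col3 (col4 (col2 (i))))
theorem actR2_eq (i : Nat) : actR2 i = Tab.act T D rw2 i := rfl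
noncomputable def actR3 (i : Nat) : Nat := col1 (col1 (col1 (col1 (i))))
theorem actR3_eq (i : Nat) : actR3 i = Tab.act T D rw3 i := rfl
noncomputable def actR4 (i : Nat) : Nat := col1 (col1 (col4 (col4 (col4 (i)))))
theorem actR4_eq (i : Nat) : actR4 i = Tab.act T D rw4 i := rfl
noncomputable def actR5 (i : Nat) : Nat := col3 (col3 (col3 (col3 (col4 (col4 (col4 (i)))))))
theorem actR5_eq (i : Nat) : actR5 i = Tab.act T D rw5 i := rfl
noncomputable def actR6 (i : Nat) : Nat := col1 (col3 (col1 (col3 (col1 (col3 (col1 (col3 (col1 (col3 (col4 (col4 (col4 (col4 (i))))))))))))))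
theorem actR6_eq (i : Nat) : actR6 i = Tab.act T D rw6 i := rfl
noncomputable def actR7 (i : Nat) : Nat := col1 (col3 (col3 (col1 (col3 (col3 (col1 (col3 (col3 (col1 (col3 (col3 (col1 (col3 (col3 (i)))))))))))))))
theorem actR7_eq (i : Nat) : actR7 i = Tab.act T D rw7 i := rfl

end Cfsg.Agent.Lib.Helper4.TCD.C6A6A
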