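namespace Cfsg.Agent.Lib.Helper4.TCD.C6A6U2

noncomputable def Atab_0 : Nat := nat_lit 0xb358120
noncomputable def Btab_0 : Nat := nat_lit 0xc8
noncomputable def Ptab_0 : Nat := nat_lit 0x625
noncomputable def RRtab_0 : Nat := nat_lit 0x1144555511440000
noncomputable def rBtab_0 : Nat := nat_lit 0x71840c200
noncomputable def rLtab_0 : Nat := nat_lit 0x12894
noncomputable def nameTab_0 : Nat := nat_lit 0xe4
noncomputable def col0_0 : Nat := nat_lit 0x8d
noncomputable def col1_0 : Nat := nat_lit 0x72
noncomputable def finTab_0 : Nat := nat_lit 0x78953642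
noncomputable def clsTab_0 : Nat := nat_lit 0xe4

end Cfsg.Agent.Lib.Helper4.TCD.C6A6U2
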