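import Cfsg.Agent.Lib.Helper4.TC7
import Cfsg.Agent.Lib.Helper4.TC8
import Cfsg.Agent.Lib.Helper4.TCP_C6A7
import Cfsg.Agent.Lib.Helper4.TCD_C6A7U1_D0

namespace Cfsg.Agent.Lib.Helper4.TCD.C6A7U1

open Cfsg.Agent.Lib.Helper4.TC

set_option maxRecDepth 100000

noncomputable def Atab_s_0_2 (c : Nat) : Nat := @Bool.rec (fun _ => Nat) (Atab_0) (Atab_1) (Nat.ble 1 c)
noncomputable def Atab_s_2_4 (c : Nat) : Nat := @Bool.rec (fun _ => Nat) (Atab_2) (Atab_3) (Nat.ble 3 c)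
noncomputable def Atab_s_0_4 (c : Nat) : Nat := @Bool.rec (fun _ => Nat) (Atab_s_0_2 c) (Atab_s_2_4 c) (Nat.ble 2 c)
noncomputable def Atab_s_4_6 (c : Nat) : Nat := @Bool.rec (fun _ => Nat) (Atab_4) (Atab_5) (Nat.ble 5 c)
noncomputable def Atab_s_6_8 (c : Nat) : Nat := @Bool.rec (fun _ => Nat) (Atab_6) (Atab_7) (Nat.ble 7 c)
noncomputable def Atab_s_4_8 (c : Nat) : Nat := @Bool.rec (fun _ => Nat) (Atab_s_4_6 c) (Atab_s_6_8 c) (Nat.ble 6 c)
noncomputable def Atab_s_0_8 (c : Nat) : Nat := @Bool.rec (fun _ => Nat) (Atab_s_0_4 c) (Atab_s_4_8 c) (Nat.ble 4 c)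
noncomputable def Atab (i : Nat) : Nat := rdw 30 1073741823 (Atab_s_0_8 (Nat.shiftRight i 11)) (Nat.land i 2047)
noncomputable def Btab_s_1_3 (c : Nat) : Nat := @Bool.rec (fun _ => Nat) (Btab_1) (Btab_2) (Nat.ble 2 c)
noncomputable def Btab_s_0_3 (c : Nat) : Nat := @Bool.rec (fun _ => Nat) (Btab_0) (Btab_s_1_3 c) (Nat.ble 1 c)
noncomputable def Btab_s_4_6 (c : Nat) : Nat := @Bool.rec (fun _ => Nat) (Btab_4) (Btab_5) (Nat.ble 5 c)
noncomputable def Btab_s_3_6 (c : Nat) : Nat := @Bool.rec (fun _ => Nat) (Btab_3) (Btab_s_4_6 c) (Nat.ble 4 c)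
noncomputable def Btab_s_0_6 (c : Nat) : Nat := @Bool.rec (fun _ => Nat) (Btab_s_0_3 c) (Btab_s_3_6 c) (Nat.ble 3 c)
noncomputable def Btab (i : Nat) : Nat := rdw 30 1073741823 (Btab_s_0_6 (Nat.shiftRight i 11)) (Nat.land i 2047)
noncomputable def Ptab_s_1_3 (c : Nat) : Nat := @Bool.rec (fun _ => Nat) (Ptab_1) (Ptab_2) (Nat.ble 2 c)
noncomputable def Ptab_s_0_3 (c : Nat) : Nat := @Bool.rec (fun _ => Nat) (Ptab_0) (Ptab_s_1_3 c) (Nat.ble 1 c)
noncomputable def Ptab_s_4_6 (c : Nat) : Nat := @Bool.rec (fun _ => Nat) (Ptab_4) (Ptab_5) (Nat.ble 5 c)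
noncomputable def Ptab_s_3_6 (c : Nat) : Nat := @Bool.rec (fun _ => Nat) (Ptab_3) (Ptab_s_4_6 c) (Nat.ble 4 c)
noncomputable def Ptab_s_0_6 (c : Nat) : Nat := @Bool.rec (fun _ => Nat) (Ptab_s_0_3 c) (Ptab_s_3_6 c) (Nat.ble 3 c)
noncomputable def Ptab_s_7_9 (c : Nat) : Nat := @Bool.rec (fun _ => Nat) (Ptab_7) (Ptab_8) (Nat.ble 8 c)
noncomputable def Ptab_s_6_9 (c : Nat) : Nat := @Bool.rec (fun _ => Nat) (Ptab_6) (Ptab_s_7_9 c) (Nat.ble 7 c)
noncomputable def Ptab_s_10_12 (c : Nat) : Nat := @Bool.rec (fun _ => Nat) (Ptab_10) (Ptab_11) (Nat.ble 11 c)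
noncomputable def Ptab_s_9_12 (c : Nat) : Nat := @Bool.rec (fun _ => Nat) (Ptab_9) (Ptab_s_10_12 c) (Nat.ble 10 c)
noncomputable def Ptab_s_6_12 (c : Nat) : Nat := @Bool.rec (fun _ => Nat) (Ptab_s_6_9 c) (Ptab_s_9_12 c) (Nat.ble 9 c)
noncomputable def Ptab_s_0_12 (c : Nat) : Nat := @Bool.rec (fun _ => Nat) (Ptab_s_0_6 c) (Ptab_s_6_12 c) (Nat.ble 6 c)
noncomputable def Ptab (i : Nat) : Nat := rdw 15 32767 (Ptab_s_0_12 (Nat.shiftRight i 12)) (Nat.land i 4095)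
noncomputable def RRtab (i : Nat) : Nat := rdw 4 15 RRtab_0 i
noncomputable def rBtab (i : Nat) : Nat := rdw 9 511 rBtab_0 i
noncomputable def rLtab (i : Nat) : Nat := rdw 4 15 rLtab_0 i
noncomputable def nameTab_s_0_2 (c : Nat) : Nat := @Bool.rec (fun _ => Nat) (nameTab_0) (nameTab_1) (Nat.ble 1 c)
noncomputable def nameTab (i : Nat) : Nat := rdw 13 8191 (nameTab_s_0_2 (Nat.shiftRight i 12)) (Nat.land i 4095)
noncomputable def col0_s_0_2 (c : Nat) : Nat := @Bool.rec (fun _ => Nat) (col0_0) (col0_1) (Nat.ble 1 c)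
noncomputable def col0 (i : Nat) : Nat := rdw 13 8191 (col0_s_0_2 (Nat.shiftRight i 12)) (Nat.land i 4095)
noncomputable def col1_s_0_2 (c : Nat) : Nat := @Bool.rec (fun _ => Nat) (col1_0) (col1_1) (Nat.ble 1 c)
noncomputable def col1 (i : Nat) : Nat := rdw 13 8191 (col1_s_0_2 (Nat.shiftRight i 12)) (Nat.land i 4095)
noncomputable def col2_s_0_2 (c : Nat) : Nat := @Bool.rec (fun _ => Nat) (col2_0) (col2_1) (Nat.ble 1 c)
noncomputable def col2 (i : Nat) : Nat := rdw 13 8191 (col2_s_0_2 (Nat.shiftRight i 12)) (Nat.land i 4095)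
noncomputable def col3_s_0_2 (c : Nat) : Nat := @Bool.rec (fun _ => Nat) (col3_0) (col3_1) (Nat.ble 1 c)
noncomputable def col3 (i : Nat) : Nat := rdw 13 8191 (col3_s_0_2 (Nat.shiftRight i 12)) (Nat.land i 4095)
noncomputable def col4_s_0_2 (c : Nat) : Nat := @Bool.rec (fun _ => Nat) (col4_0) (col4_1) (Nat.ble 1 c)
noncomputable def col4 (i : Nat) : Nat := rdw 13 8191 (col4_s_0_2 (Nat.shiftRight i 12)) (Nat.land i 4095)
noncomputable def col5_s_0_2 (c : Nat) : Nat := @Bool.rec (fun _ => Nat) (col5_0) (col5_1) (Nat.ble 1 c)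
noncomputable def col5 (i : Nat) : Nat := rdw 13 8191 (col5_s_0_2 (Nat.shiftRight i 12)) (Nat.land i 4095)
noncomputable def finTab_s_0_2 (c : Nat) : Nat := @Bool.rec (fun _ => Nat) (finTab_0) (finTab_1) (Nat.ble 1 c)
noncomputable def finTab_s_2_4 (c : Nat) : Nat := @Bool.rec (fun _ => Nat) (finTab_2) (finTab_3) (Nat.ble 3 c)
noncomputable def finTab_s_0_4 (c : Nat) : Nat := @Bool.rec (fun _ => Nat) (finTab_s_0_2 c) (finTab_s_2_4 c) (Nat.ble 2 c)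
noncomputable def finTab_s_4_6 (c : Nat) : Nat := @Bool.rec (fun _ => Nat) (finTab_4) (finTab_5) (Nat.ble 5 c)
noncomputable def finTab_s_6_8 (c : Nat) : Nat := @Bool.rec (fun _ => Nat) (finTab_6) (finTab_7) (Nat.ble 7 c)
noncomputable def finTab_s_4_8 (c : Nat) : Nat := @Bool.rec (fun _ => Nat) (finTab_s_4_6 c) (finTab_s_6_8 c) (Nat.ble 6 c)
noncomputable def finTab_s_0_8 (c : Nat) : Nat := @Bool.rec (fun _ => Nat) (finTab_s_0_4 c) (finTab_s_4_8 c) (Nat.ble 4 c)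
noncomputable def finTab (i : Nat) : Nat := rdw 15 32767 (finTab_s_0_8 (Nat.shiftRight i 12)) (Nat.land i 4095)
noncomputable def clsTab_s_0_2 (c : Nat) : Nat := @Bool.rec (fun _ => Nat) (clsTab_0) (clsTab_1) (Nat.ble 1 c)
noncomputable def clsTab (i : Nat) : Nat := rdw 13 8191 (clsTab_s_0_2 (Nat.shiftRight i 12)) (Nat.land i 4095)
noncomputable def srcF (t : Nat) : Nat := Nat.land (Atab t) 8191
noncomputable def tgtF (t : Nat) : Nat := Nat.land (Nat.shiftRight (Atab t) 13) 8191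
noncomputable def ltF (t : Nat) : Nat := Nat.shiftRight (Atab t) 26
noncomputable def rhoF (t : Nat) : Nat := Nat.land (Btab (Nat.sub t 5309)) 31
noncomputable def rotF (t : Nat) : Nat := Nat.land (Nat.shiftRight (Btab (Nat.sub t 5309)) 5) 15
noncomputable def lenF (t : Nat) : Nat := Nat.land (Nat.shiftRight (Btab (Nat.sub t 5309)) 9) 31
noncomputable def offF (t : Nat) : Nat := Nat.shiftRight (Btab (Nat.sub t 5309)) 14
noncomputable def pfF (j : Nat) : Nat := Nat.shiftRight (Ptab j) 1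
noncomputable def pdF (j : Nat) : Nat := Nat.land (Ptab j) 1
noncomputable def tblF (i x : Nat) : Nat := @Bool.rec (fun _ => Nat) (@Bool.rec (fun _ => Nat) (col0 i) (@Bool.rec (fun _ => Nat) (col1 i) (col2 i) (Nat.ble 2 x)) (Nat.ble 1 x)) (@Bool.rec (fun _ => Nat) (col3 i) (@Bool.rec (fun _ => Nat) (col4 i) (col5 i) (Nat.ble 5 x)) (Nat.ble 4 x)) (Nat.ble 3 x)
noncomputable def finE (i x : Nat) : Nat := finTab (Nat.add (Nat.mul i 6) x)
noncomputable def finFF (i x : Nat) : Nat := Nat.shiftRight (finE i x) 1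
noncomputable def finDF (i x : Nat) : Nat := Nat.land (finE i x) 1

def invLoc : ℕ → ℕ
  | 0 => 1
  | 1 => 0
  | 2 => 3
  | 3 => 2
  | 4 => 5
  | 5 => 4
  | l => l
def emb : List Nat := [0, 1, 2, 3, 4, 5]
noncomputable def D : Log :=
  { k := 6, inv := invE 6 invLoc, nR := 30, rBase := rBtab, rLen := rLtab, RR := RRtab,
    M := 5307, nB := 2, F := 16297, src := srcF, lt := ltF, tgt := tgtF, rho := rhoF, rot := rotF,
    off := offF, len := lenF, pf := pfF, pd := pdF }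

noncomputable def T : Tab :=
  { N := 5040, nameOf := nameTab, tbl := tblF, finF := finFF, finD := finDF, cls := clsTab }

def subs : List (List Nat) := [
[0] ]

def realLoc : List (List Nat) := [
  [4, 4, 4, 4, 4, 4],
  [4, 0, 5, 1],
  [4, 2, 5, 3],
  [0, 0, 0],
  [2, 2, 2, 2, 2],
  [0, 2, 0, 2, 0, 2, 0, 2, 0, 2, 0, 2, 0, 2],
  [0, 3, 0, 2, 0, 3, 0, 2, 5],
  [0, 3, 3, 0, 2, 2, 0, 3, 3, 0, 2, 2, 5, 5, 5] ]

end Cfsg.Agent.Lib.Helper4.TCD.C6A7U1
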