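import Cfsg.Agent.Lib.Helper4.TCD_C9U43B_Acc

namespace Cfsg.Agent.Lib.Helper4.TCD.C9U43B

open Cfsg.Agent.Lib.Helper4.TC

set_option maxRecDepth 100000
set_option Elab.async false

theorem c_zero : D.zeroOK = true := by decide +kernel
theorem c_base : allBelow D.baseOK 4 = true := by decide +kernel
theorem c_let : allBelow D.letOK 10 = true := by decide +kernel
theorem c_cls0 : T.cls 0 = 0 := by decide +kernel
theorem c_name0 : T.nameOf 0 = 0 := by decide +kernel
theorem c_tab : D.relTabOK 0 (baseRels 10 PC9U43.invR PC9U43.P.real subs ++ (baseRels 10 PC9U43.invR PC9U43.P.real subs).map (invWord D.inv)) = true := by decide +kernel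
theorem c_real : PC9U43.P.real = realLit := by decide +kernel
theorem c_subfix : subs.all (fun u => Nat.beq (Tab.act T D u 0) 0) = true := by decide +kernel
theorem c_subs : subs.all (fun u => u.all (fun x => Nat.ble (Nat.succ x) 10)) = true := by decide +kernel
theorem c_names_0 : allRange D.nameOK 1 5200 = true := by decide +kernel
theorem c_cls_0 : allRange (T.clsOK D) 1 5200 = true := by decide +kernel
theorem c_rep_0 : allRange (T.repOK D) 0 4860 = true := by decide +kernel
theorem c_rel_0 : allRange D.relOK 5205 3704 = true := by decide +kernel
theorem c_rel_1 : allRange D.relOK 8909 3057 = true := by decide +kernel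
theorem c_rel_2 : allRange D.relOK 11966 2638 = true := by decide +kernel
theorem c_rel_3 : allRange D.relOK 14604 2658 = true := by decide +kernel
theorem c_rel_4 : allRange D.relOK 17262 2368 = true := by decide +kernel
theorem c_rel_5 : allRange D.relOK 19630 2292 = true := by decide +kernel
theorem c_rel_6 : allRange D.relOK 21922 2153 = true := by decide +kernel
theorem c_rel_7 : allRange D.relOK 24075 2360 = true := by decide +kernel
theorem c_fin_0 : allGrid (T.finOK D) 0 1200 10 = true := by decide +kernel
theorem c_fin_1 : allGrid (T.finOK D) 1200 1200 10 = true := by decide +kernel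
theorem c_fin_2 : allGrid (T.finOK D) 2400 1200 10 = true := by decide +kernel
theorem c_fin_3 : allGrid (T.finOK D) 3600 1200 10 = true := by decide +kernel
theorem c_fin_4 : allGrid (T.finOK D) 4800 60 10 = true := by decide +kernel
theorem c_perm_0 : allGrid (T.permOK1 D) 0 3000 10 = true := by decide +kernel
theorem c_perm_1 : allGrid (T.permOK1 D) 3000 1860 10 = true := by decide +kernel
theorem c_act0_0 : allRange (fun i => Nat.beq (actR0 i) i) 0 4860 = true := by decide +kernel
theorem c_act1_0 : allRange (fun i => Nat.beq (actR1 i) i) 0 4860 = true := by decide +kernel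
theorem c_act2_0 : allRange (fun i => Nat.beq (actR2 i) i) 0 4860 = true := by decide +kernel
theorem c_act3_0 : allRange (fun i => Nat.beq (actR3 i) i) 0 4860 = true := by decide +kernel
theorem c_act4_0 : allRange (fun i => Nat.beq (actR4 i) i) 0 4860 = true := by decide +kernel
theorem c_act5_0 : allRange (fun i => Nat.beq (actR5 i) i) 0 4860 = true := by decide +kernel
theorem c_act6_0 : allRange (fun i => Nat.beq (actR6 i) i) 0 4860 = true := by decide +kernel
theorem c_act7_0 : allRange (fun i => Nat.beq (actR7 i) i) 0 4860 = true := by decide +kernel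
theorem c_act8_0 : allRange (fun i => Nat.beq (actR8 i) i) 0 4285 = true := by decide +kernel
theorem c_act8_1 : allRange (fun i => Nat.beq (actR8 i) i) 4285 575 = true := by decide +kernel
theorem c_act9_0 : allRange (fun i => Nat.beq (actR9 i) i) 0 4000 = true := by decide +kernel
theorem c_act9_1 : allRange (fun i => Nat.beq (actR9 i) i) 4000 860 = true := by decide +kernel
theorem c_act10_0 : allRange (fun i => Nat.beq (actR10 i) i) 0 4615 = true := by decide +kernel
theorem c_act10_1 : allRange (fun i => Nat.beq (actR10 i) i) 4615 245 = true := by decide +kernel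
theorem c_act11_0 : allRange (fun i => Nat.beq (actR11 i) i) 0 3750 = true := by decide +kernel
theorem c_act11_1 : allRange (fun i => Nat.beq (actR11 i) i) 3750 1110 = true := by decide +kernel
theorem c_act12_0 : allRange (fun i => Nat.beq (actR12 i) i) 0 3750 = true := by decide +kernel
theorem c_act12_1 : allRange (fun i => Nat.beq (actR12 i) i) 3750 1110 = true := by decide +kernel
theorem c_act13_0 : allRange (fun i => Nat.beq (actR13 i) i) 0 4860 = true := by decide +kernel
theorem c_act14_0 : allRange (fun i => Nat.beq (actR14 i) i) 0 4860 = true := by decide +kernel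
theorem c_act15_0 : allRange (fun i => Nat.beq (actR15 i) i) 0 4860 = true := by decide +kernel
theorem c_act16_0 : allRange (fun i => Nat.beq (actR16 i) i) 0 4860 = true := by decide +kernel
theorem c_act17_0 : allRange (fun i => Nat.beq (actR17 i) i) 0 4860 = true := by decide +kernel
theorem c_act18_0 : allRange (fun i => Nat.beq (actR18 i) i) 0 4860 = true := by decide +kernel
theorem c_act19_0 : allRange (fun i => Nat.beq (actR19 i) i) 0 4860 = true := by decide +kernel
theorem c_act20_0 : allRange (fun i => Nat.beq (actR20 i) i) 0 4860 = true := by decide +kernel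
theorem c_act21_0 : allRange (fun i => Nat.beq (actR21 i) i) 0 4860 = true := by decide +kernel

end Cfsg.Agent.Lib.Helper4.TCD.C9U43B
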