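import Cfsg.Agent.Lib.Helper4.TC11
import Cfsg.Agent.Lib.Helper4.TCD_C9U43R_Acc
import Cfsg.Agent.Lib.Helper4.TCD_C9U43L_D0

namespace Cfsg.Agent.Lib.Helper4.TCD.C9U43L

open Cfsg.Agent.Lib.Helper4.TC Cfsg.Agent.Lib.Helper4.TCD.C9U43R

set_option maxRecDepth 100000

noncomputable def st10_s_0_2 (c : Nat) : Nat := @Bool.rec (fun _ => Nat) (st10_0) (st10_1) (Nat.ble 1 c)
noncomputable def st10 (i : Nat) : Nat := rdw 13 8191 (st10_s_0_2 (Nat.shiftRight i 12)) (Nat.land i 4095)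
noncomputable def st11_s_0_2 (c : Nat) : Nat := @Bool.rec (fun _ => Nat) (st11_0) (st11_1) (Nat.ble 1 c)
noncomputable def st11 (i : Nat) : Nat := rdw 13 8191 (st11_s_0_2 (Nat.shiftRight i 12)) (Nat.land i 4095)
noncomputable def st12_s_0_2 (c : Nat) : Nat := @Bool.rec (fun _ => Nat) (st12_0) (st12_1) (Nat.ble 1 c)
noncomputable def st12 (i : Nat) : Nat := rdw 13 8191 (st12_s_0_2 (Nat.shiftRight i 12)) (Nat.land i 4095)
noncomputable def st13_s_0_2 (c : Nat) : Nat := @Bool.rec (fun _ => Nat) (st13_0) (st13_1) (Nat.ble 1 c)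
noncomputable def st13 (i : Nat) : Nat := rdw 13 8191 (st13_s_0_2 (Nat.shiftRight i 12)) (Nat.land i 4095)
noncomputable def st14_s_0_2 (c : Nat) : Nat := @Bool.rec (fun _ => Nat) (st14_0) (st14_1) (Nat.ble 1 c)
noncomputable def st14 (i : Nat) : Nat := rdw 13 8191 (st14_s_0_2 (Nat.shiftRight i 12)) (Nat.land i 4095)
noncomputable def st15_s_0_2 (c : Nat) : Nat := @Bool.rec (fun _ => Nat) (st15_0) (st15_1) (Nat.ble 1 c)
noncomputable def st15 (i : Nat) : Nat := rdw 13 8191 (st15_s_0_2 (Nat.shiftRight i 12)) (Nat.land i 4095)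
noncomputable def st16_s_0_2 (c : Nat) : Nat := @Bool.rec (fun _ => Nat) (st16_0) (st16_1) (Nat.ble 1 c)
noncomputable def st16 (i : Nat) : Nat := rdw 13 8191 (st16_s_0_2 (Nat.shiftRight i 12)) (Nat.land i 4095)
noncomputable def levTab (i : Nat) : Nat := rdw 3 7 levTab_0 i
noncomputable def betaTab (i : Nat) : Nat := rdw 13 8191 betaTab_0 i
noncomputable def nodeTab_s_1_3 (c : Nat) : Nat := @Bool.rec (fun _ => Nat) (nodeTab_1) (nodeTab_2) (Nat.ble 2 c)
noncomputable def nodeTab_s_0_3 (c : Nat) : Nat := @Bool.rec (fun _ => Nat) (nodeTab_0) (nodeTab_s_1_3 c) (Nat.ble 1 c)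
noncomputable def nodeTab (i : Nat) : Nat := rdw 34 17179869183 (nodeTab_s_0_3 (Nat.shiftRight i 11)) (Nat.land i 2047)
noncomputable def offTab (i : Nat) : Nat := rdw 13 8191 offTab_0 i
noncomputable def nTab (i : Nat) : Nat := rdw 13 8191 nTab_0 i
noncomputable def rootTab (i : Nat) : Nat := rdw 13 8191 rootTab_0 i
noncomputable def tabF (i p : Nat) : Nat := @Bool.rec (fun _ => Nat) (@Bool.rec (fun _ => Nat) (@Bool.rec (fun _ => Nat) (@Bool.rec (fun _ => Nat) (col1 p) (col0 p) (Nat.ble 1 i)) (@Bool.rec (fun _ => Nat) (col3 p) (col2 p) (Nat.ble 3 i)) (Nat.ble 2 i)) (@Bool.rec (fun _ => Nat) (@Bool.rec (fun _ => Nat) (col5 p) (col4 p) (Nat.ble 5 i)) (@Bool.rec (fun _ => Nat) (col7 p) (col6 p) (Nat.ble 7 i)) (Nat.ble 6 i)) (Nat.ble 4 i)) (@Bool.rec (fun _ => Nat) (@Bool.rec (fun _ => Nat) (@Bool.rec (fun _ => Nat) (col9 p) (col8 p) (Nat.ble 9 i)) (@Bool.rec (fun _ => Nat) (st10 p) (st11 p) (Nat.ble 11 i)) (Nat.ble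 10 i)) (@Bool.rec (fun _ => Nat) (@Bool.rec (fun _ => Nat) (st12 p) (st13 p) (Nat.ble 13 i)) (@Bool.rec (fun _ => Nat) (st14 p) (@Bool.rec (fun _ => Nat) (st15 p) (st16 p) (Nat.ble 16 i)) (Nat.ble 15 i)) (Nat.ble 14 i)) (Nat.ble 12 i)) (Nat.ble 8 i)
def wAF : Nat → List Nat
  | 10 => [4, 4, 3, 0, 5]
  | 11 => [10]
  | 12 => [5, 1, 5, 10, 4, 3, 1]
  | 13 => [12]
  | 14 => [11, 9, 6, 2, 4, 12, 1, 10, 12, 12]
  | 15 => [14]
  | 16 => [2, 1, 10, 12, 12]
  | _ => []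
def wBF : Nat → List Nat
  | 10 => [1, 3, 0, 5, 0, 4]
  | 11 => []
  | 12 => [0, 4, 0, 4, 3, 4]
  | 13 => []
  | 14 => [0, 6, 2, 2, 5]
  | 15 => []
  | 16 => [0, 0, 3, 0]
  | _ => []
noncomputable def ptF (j idx : Nat) : Nat := Nat.land (nodeTab (Nat.add (offTab j) idx)) 8191
noncomputable def parF (j idx : Nat) : Nat := Nat.land (Nat.shiftRight (nodeTab (Nat.add (offTab j) idx)) 13) 8191
noncomputable def giF (j idx : Nat) : Nat := Nat.land (Nat.shiftRight (nodeTab (Nat.add (offTab j) idx)) 26) 31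
noncomputable def depF (j idx : Nat) : Nat := Nat.shiftRight (nodeTab (Nat.add (offTab j) idx)) 31

noncomputable def S : Sgs :=
  { N := 4860, k := 10, m := 17, tab := tabF, wA := wAF, wB := wBF, lev := levTab, r := 5, beta := betaTab,
    n := nTab, root := rootTab, pt := ptF, par := parF, gi := giF, dep := depF }

noncomputable def chk10 (p : Nat) : Bool := band (Nat.ble (Nat.succ (st10 p)) 4860) (Nat.beq (col5 (col5 (col2 (col1 (col4 (st10 p)))))) (col0 (col2 (col1 (col4 (col1 (col5 p)))))))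
theorem chk10_eq (p : Nat) : chk10 p = Sgs.permOK S 10 p := rfl
noncomputable def chk11 (p : Nat) : Bool := band (Nat.ble (Nat.succ (st11 p)) 4860) (Nat.beq (st10 (st11 p)) p)
theorem chk11_eq (p : Nat) : chk11 p = Sgs.permOK S 11 p := rfl
noncomputable def chk12 (p : Nat) : Bool := band (Nat.ble (Nat.succ (st12 p)) 4860) (Nat.beq (col4 (col0 (col4 (st10 (col5 (col2 (col0 (st12 p)))))))) (col1 (col5 (col1 (col5 (col2 (col5 p)))))))
theorem chk12_eq (p : Nat) : chk12 p = Sgs.permOK S 12 p := rfl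
noncomputable def chk13 (p : Nat) : Bool := band (Nat.ble (Nat.succ (st13 p)) 4860) (Nat.beq (st12 (st13 p)) p)
theorem chk13_eq (p : Nat) : chk13 p = Sgs.permOK S 13 p := rfl
noncomputable def chk14 (p : Nat) : Bool := band (Nat.ble (Nat.succ (st14 p)) 4860) (Nat.beq (st11 (col8 (col7 (col3 (col5 (st12 (col0 (st10 (st12 (st12 (st14 p))))))))))) (col1 (col7 (col3 (col3 (col4 p))))))
theorem chk14_eq (p : Nat) : chk14 p = Sgs.permOK S 14 p := rfl
noncomputable def chk15 (p : Nat) : Bool := band (Nat.ble (Nat.succ (st15 p)) 4860) (Nat.beq (st14 (st15 p)) p)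
theorem chk15_eq (p : Nat) : chk15 p = Sgs.permOK S 15 p := rfl
noncomputable def chk16 (p : Nat) : Bool := band (Nat.ble (Nat.succ (st16 p)) 4860) (Nat.beq (col3 (col0 (st10 (st12 (st12 (st16 p)))))) (col1 (col1 (col2 (col1 p)))))
theorem chk16_eq (p : Nat) : chk16 p = Sgs.permOK S 16 p := rfl

end Cfsg.Agent.Lib.Helper4.TCD.C9U43L
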