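import Cfsg.Agent.Lib.Helper4.TC7
import Cfsg.Agent.Lib.Helper4.TCP_Co3p
import Cfsg.Agent.Lib.Helper4.TCD_Co3pA_D0
import Cfsg.Agent.Lib.Helper4.TCD_Co3pA_D1
import Cfsg.Agent.Lib.Helper4.TCD_Co3pA_D2
import Cfsg.Agent.Lib.Helper4.TCD_Co3pA_D3
import Cfsg.Agent.Lib.Helper4.TCD_Co3pA_D4
import Cfsg.Agent.Lib.Helper4.TCD_Co3pA_D5
import Cfsg.Agent.Lib.Helper4.TCD_Co3pA_D6
import Cfsg.Agent.Lib.Helper4.TCD_Co3pA_D7
import Cfsg.Agent.Lib.Helper4.TCD_Co3pA_D8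
import Cfsg.Agent.Lib.Helper4.TCD_Co3pA_D9
import Cfsg.Agent.Lib.Helper4.TCD_Co3pA_D10
import Cfsg.Agent.Lib.Helper4.TCD_Co3pA_D11

namespace Cfsg.Agent.Lib.Helper4.TCD.Co3pA

open Cfsg.Agent.Lib.Helper4.TC

set_option maxRecDepth 100000

noncomputable def Atab_s_1_3 (c : Nat) : Nat := @Bool.rec (fun _ => Nat) (Atab_1) (Atab_2) (Nat.ble 2 c)
noncomputable def Atab_s_0_3 (c : Nat) : Nat := @Bool.rec (fun _ => Nat) (Atab_0) (Atab_s_1_3 c) (Nat.ble 1 c)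
noncomputable def Atab_s_4_6 (c : Nat) : Nat := @Bool.rec (fun _ => Nat) (Atab_4) (Atab_5) (Nat.ble 5 c)
noncomputable def Atab_s_3_6 (c : Nat) : Nat := @Bool.rec (fun _ => Nat) (Atab_3) (Atab_s_4_6 c) (Nat.ble 4 c)
noncomputable def Atab_s_0_6 (c : Nat) : Nat := @Bool.rec (fun _ => Nat) (Atab_s_0_3 c) (Atab_s_3_6 c) (Nat.ble 3 c)
noncomputable def Atab_s_7_9 (c : Nat) : Nat := @Bool.rec (fun _ => Nat) (Atab_7) (Atab_8) (Nat.ble 8 c)
noncomputable def Atab_s_6_9 (c : Nat) : Nat := @Bool.rec (fun _ => Nat) (Atab_6) (Atab_s_7_9 c) (Nat.ble 7 c)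
noncomputable def Atab_s_9_11 (c : Nat) : Nat := @Bool.rec (fun _ => Nat) (Atab_9) (Atab_10) (Nat.ble 10 c)
noncomputable def Atab_s_11_13 (c : Nat) : Nat := @Bool.rec (fun _ => Nat) (Atab_11) (Atab_12) (Nat.ble 12 c)
noncomputable def Atab_s_9_13 (c : Nat) : Nat := @Bool.rec (fun _ => Nat) (Atab_s_9_11 c) (Atab_s_11_13 c) (Nat.ble 11 c)
noncomputable def Atab_s_6_13 (c : Nat) : Nat := @Bool.rec (fun _ => Nat) (Atab_s_6_9 c) (Atab_s_9_13 c) (Nat.ble 9 c)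
noncomputable def Atab_s_0_13 (c : Nat) : Nat := @Bool.rec (fun _ => Nat) (Atab_s_0_6 c) (Atab_s_6_13 c) (Nat.ble 6 c)
noncomputable def Atab_s_14_16 (c : Nat) : Nat := @Bool.rec (fun _ => Nat) (Atab_14) (Atab_15) (Nat.ble 15 c)
noncomputable def Atab_s_13_16 (c : Nat) : Nat := @Bool.rec (fun _ => Nat) (Atab_13) (Atab_s_14_16 c) (Nat.ble 14 c)
noncomputable def Atab_s_16_18 (c : Nat) : Nat := @Bool.rec (fun _ => Nat) (Atab_16) (Atab_17) (Nat.ble 17 c)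
noncomputable def Atab_s_18_20 (c : Nat) : Nat := @Bool.rec (fun _ => Nat) (Atab_18) (Atab_19) (Nat.ble 19 c)
noncomputable def Atab_s_16_20 (c : Nat) : Nat := @Bool.rec (fun _ => Nat) (Atab_s_16_18 c) (Atab_s_18_20 c) (Nat.ble 18 c)
noncomputable def Atab_s_13_20 (c : Nat) : Nat := @Bool.rec (fun _ => Nat) (Atab_s_13_16 c) (Atab_s_16_20 c) (Nat.ble 16 c)
noncomputable def Atab_s_21_23 (c : Nat) : Nat := @Bool.rec (fun _ => Nat) (Atab_21) (Atab_22) (Nat.ble 22 c)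
noncomputable def Atab_s_20_23 (c : Nat) : Nat := @Bool.rec (fun _ => Nat) (Atab_20) (Atab_s_21_23 c) (Nat.ble 21 c)
noncomputable def Atab_s_23_25 (c : Nat) : Nat := @Bool.rec (fun _ => Nat) (Atab_23) (Atab_24) (Nat.ble 24 c)
noncomputable def Atab_s_25_27 (c : Nat) : Nat := @Bool.rec (fun _ => Nat) (Atab_25) (Atab_26) (Nat.ble 26 c)
noncomputable def Atab_s_23_27 (c : Nat) : Nat := @Bool.rec (fun _ => Nat) (Atab_s_23_25 c) (Atab_s_25_27 c) (Nat.ble 25 c)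
noncomputable def Atab_s_20_27 (c : Nat) : Nat := @Bool.rec (fun _ => Nat) (Atab_s_20_23 c) (Atab_s_23_27 c) (Nat.ble 23 c)
noncomputable def Atab_s_13_27 (c : Nat) : Nat := @Bool.rec (fun _ => Nat) (Atab_s_13_20 c) (Atab_s_20_27 c) (Nat.ble 20 c)
noncomputable def Atab_s_0_27 (c : Nat) : Nat := @Bool.rec (fun _ => Nat) (Atab_s_0_13 c) (Atab_s_13_27 c) (Nat.ble 13 c)
noncomputable def Atab_s_28_30 (c : Nat) : Nat := @Bool.rec (fun _ => Nat) (Atab_28) (Atab_29) (Nat.ble 29 c)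
noncomputable def Atab_s_27_30 (c : Nat) : Nat := @Bool.rec (fun _ => Nat) (Atab_27) (Atab_s_28_30 c) (Nat.ble 28 c)
noncomputable def Atab_s_30_32 (c : Nat) : Nat := @Bool.rec (fun _ => Nat) (Atab_30) (Atab_31) (Nat.ble 31 c)
noncomputable def Atab_s_32_34 (c : Nat) : Nat := @Bool.rec (fun _ => Nat) (Atab_32) (Atab_33) (Nat.ble 33 c)
noncomputable def Atab_s_30_34 (c : Nat) : Nat := @Bool.rec (fun _ => Nat) (Atab_s_30_32 c) (Atab_s_32_34 c) (Nat.ble 32 c)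
noncomputable def Atab_s_27_34 (c : Nat) : Nat := @Bool.rec (fun _ => Nat) (Atab_s_27_30 c) (Atab_s_30_34 c) (Nat.ble 30 c)
noncomputable def Atab_s_35_37 (c : Nat) : Nat := @Bool.rec (fun _ => Nat) (Atab_35) (Atab_36) (Nat.ble 36 c)
noncomputable def Atab_s_34_37 (c : Nat) : Nat := @Bool.rec (fun _ => Nat) (Atab_34) (Atab_s_35_37 c) (Nat.ble 35 c)
noncomputable def Atab_s_37_39 (c : Nat) : Nat := @Bool.rec (fun _ => Nat) (Atab_37) (Atab_38) (Nat.ble 38 c)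
noncomputable def Atab_s_39_41 (c : Nat) : Nat := @Bool.rec (fun _ => Nat) (Atab_39) (Atab_40) (Nat.ble 40 c)
noncomputable def Atab_s_37_41 (c : Nat) : Nat := @Bool.rec (fun _ => Nat) (Atab_s_37_39 c) (Atab_s_39_41 c) (Nat.ble 39 c)
noncomputable def Atab_s_34_41 (c : Nat) : Nat := @Bool.rec (fun _ => Nat) (Atab_s_34_37 c) (Atab_s_37_41 c) (Nat.ble 37 c)
noncomputable def Atab_s_27_41 (c : Nat) : Nat := @Bool.rec (fun _ => Nat) (Atab_s_27_34 c) (Atab_s_34_41 c) (Nat.ble 34 c)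
noncomputable def Atab_s_42_44 (c : Nat) : Nat := @Bool.rec (fun _ => Nat) (Atab_42) (Atab_43) (Nat.ble 43 c)
noncomputable def Atab_s_41_44 (c : Nat) : Nat := @Bool.rec (fun _ => Nat) (Atab_41) (Atab_s_42_44 c) (Nat.ble 42 c)
noncomputable def Atab_s_44_46 (c : Nat) : Nat := @Bool.rec (fun _ => Nat) (Atab_44) (Atab_45) (Nat.ble 45 c)
noncomputable def Atab_s_46_48 (c : Nat) : Nat := @Bool.rec (fun _ => Nat) (Atab_46) (Atab_47) (Nat.ble 47 c)
noncomputable def Atab_s_44_48 (c : Nat) : Nat := @Bool.rec (fun _ => Nat) (Atab_s_44_46 c) (Atab_s_46_48 c) (Nat.ble 46 c)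
noncomputable def Atab_s_41_48 (c : Nat) : Nat := @Bool.rec (fun _ => Nat) (Atab_s_41_44 c) (Atab_s_44_48 c) (Nat.ble 44 c)
noncomputable def Atab_s_49_51 (c : Nat) : Nat := @Bool.rec (fun _ => Nat) (Atab_49) (Atab_50) (Nat.ble 50 c)
noncomputable def Atab_s_48_51 (c : Nat) : Nat := @Bool.rec (fun _ => Nat) (Atab_48) (Atab_s_49_51 c) (Nat.ble 49 c)
noncomputable def Atab_s_51_53 (c : Nat) : Nat := @Bool.rec (fun _ => Nat) (Atab_51) (Atab_52) (Nat.ble 52 c)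
noncomputable def Atab_s_53_55 (c : Nat) : Nat := @Bool.rec (fun _ => Nat) (Atab_53) (Atab_54) (Nat.ble 54 c)
noncomputable def Atab_s_51_55 (c : Nat) : Nat := @Bool.rec (fun _ => Nat) (Atab_s_51_53 c) (Atab_s_53_55 c) (Nat.ble 53 c)
noncomputable def Atab_s_48_55 (c : Nat) : Nat := @Bool.rec (fun _ => Nat) (Atab_s_48_51 c) (Atab_s_51_55 c) (Nat.ble 51 c)
noncomputable def Atab_s_41_55 (c : Nat) : Nat := @Bool.rec (fun _ => Nat) (Atab_s_41_48 c) (Atab_s_48_55 c) (Nat.ble 48 c)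
noncomputable def Atab_s_27_55 (c : Nat) : Nat := @Bool.rec (fun _ => Nat) (Atab_s_27_41 c) (Atab_s_41_55 c) (Nat.ble 41 c)
noncomputable def Atab_s_0_55 (c : Nat) : Nat := @Bool.rec (fun _ => Nat) (Atab_s_0_27 c) (Atab_s_27_55 c) (Nat.ble 27 c)
noncomputable def Atab_s_56_58 (c : Nat) : Nat := @Bool.rec (fun _ => Nat) (Atab_56) (Atab_57) (Nat.ble 57 c)
noncomputable def Atab_s_55_58 (c : Nat) : Nat := @Bool.rec (fun _ => Nat) (Atab_55) (Atab_s_56_58 c) (Nat.ble 56 c)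
noncomputable def Atab_s_58_60 (c : Nat) : Nat := @Bool.rec (fun _ => Nat) (Atab_58) (Atab_59) (Nat.ble 59 c)
noncomputable def Atab_s_60_62 (c : Nat) : Nat := @Bool.rec (fun _ => Nat) (Atab_60) (Atab_61) (Nat.ble 61 c)
noncomputable def Atab_s_58_62 (c : Nat) : Nat := @Bool.rec (fun _ => Nat) (Atab_s_58_60 c) (Atab_s_60_62 c) (Nat.ble 60 c)
noncomputable def Atab_s_55_62 (c : Nat) : Nat := @Bool.rec (fun _ => Nat) (Atab_s_55_58 c) (Atab_s_58_62 c) (Nat.ble 58 c)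
noncomputable def Atab_s_63_65 (c : Nat) : Nat := @Bool.rec (fun _ => Nat) (Atab_63) (Atab_64) (Nat.ble 64 c)
noncomputable def Atab_s_62_65 (c : Nat) : Nat := @Bool.rec (fun _ => Nat) (Atab_62) (Atab_s_63_65 c) (Nat.ble 63 c)
noncomputable def Atab_s_65_67 (c : Nat) : Nat := @Bool.rec (fun _ => Nat) (Atab_65) (Atab_66) (Nat.ble 66 c)
noncomputable def Atab_s_67_69 (c : Nat) : Nat := @Bool.rec (fun _ => Nat) (Atab_67) (Atab_68) (Nat.ble 68 c)
noncomputable def Atab_s_65_69 (c : Nat) : Nat := @Bool.rec (fun _ => Nat) (Atab_s_65_67 c) (Atab_s_67_69 c) (Nat.ble 67 c)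
noncomputable def Atab_s_62_69 (c : Nat) : Nat := @Bool.rec (fun _ => Nat) (Atab_s_62_65 c) (Atab_s_65_69 c) (Nat.ble 65 c)
noncomputable def Atab_s_55_69 (c : Nat) : Nat := @Bool.rec (fun _ => Nat) (Atab_s_55_62 c) (Atab_s_62_69 c) (Nat.ble 62 c)
noncomputable def Atab_s_70_72 (c : Nat) : Nat := @Bool.rec (fun _ => Nat) (Atab_70) (Atab_71) (Nat.ble 71 c)
noncomputable def Atab_s_69_72 (c : Nat) : Nat := @Bool.rec (fun _ => Nat) (Atab_69) (Atab_s_70_72 c) (Nat.ble 70 c)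
noncomputable def Atab_s_72_74 (c : Nat) : Nat := @Bool.rec (fun _ => Nat) (Atab_72) (Atab_73) (Nat.ble 73 c)
noncomputable def Atab_s_74_76 (c : Nat) : Nat := @Bool.rec (fun _ => Nat) (Atab_74) (Atab_75) (Nat.ble 75 c)
noncomputable def Atab_s_72_76 (c : Nat) : Nat := @Bool.rec (fun _ => Nat) (Atab_s_72_74 c) (Atab_s_74_76 c) (Nat.ble 74 c)
noncomputable def Atab_s_69_76 (c : Nat) : Nat := @Bool.rec (fun _ => Nat) (Atab_s_69_72 c) (Atab_s_72_76 c) (Nat.ble 72 c)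
noncomputable def Atab_s_77_79 (c : Nat) : Nat := @Bool.rec (fun _ => Nat) (Atab_77) (Atab_78) (Nat.ble 78 c)
noncomputable def Atab_s_76_79 (c : Nat) : Nat := @Bool.rec (fun _ => Nat) (Atab_76) (Atab_s_77_79 c) (Nat.ble 77 c)
noncomputable def Atab_s_79_81 (c : Nat) : Nat := @Bool.rec (fun _ => Nat) (Atab_79) (Atab_80) (Nat.ble 80 c)
noncomputable def Atab_s_81_83 (c : Nat) : Nat := @Bool.rec (fun _ => Nat) (Atab_81) (Atab_82) (Nat.ble 82 c)
noncomputable def Atab_s_79_83 (c : Nat) : Nat := @Bool.rec (fun _ => Nat) (Atab_s_79_81 c) (Atab_s_81_83 c) (Nat.ble 81 c)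
noncomputable def Atab_s_76_83 (c : Nat) : Nat := @Bool.rec (fun _ => Nat) (Atab_s_76_79 c) (Atab_s_79_83 c) (Nat.ble 79 c)
noncomputable def Atab_s_69_83 (c : Nat) : Nat := @Bool.rec (fun _ => Nat) (Atab_s_69_76 c) (Atab_s_76_83 c) (Nat.ble 76 c)
noncomputable def Atab_s_55_83 (c : Nat) : Nat := @Bool.rec (fun _ => Nat) (Atab_s_55_69 c) (Atab_s_69_83 c) (Nat.ble 69 c)
noncomputable def Atab_s_84_86 (c : Nat) : Nat := @Bool.rec (fun _ => Nat) (Atab_84) (Atab_85) (Nat.ble 85 c)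
noncomputable def Atab_s_83_86 (c : Nat) : Nat := @Bool.rec (fun _ => Nat) (Atab_83) (Atab_s_84_86 c) (Nat.ble 84 c)
noncomputable def Atab_s_86_88 (c : Nat) : Nat := @Bool.rec (fun _ => Nat) (Atab_86) (Atab_87) (Nat.ble 87 c)
noncomputable def Atab_s_88_90 (c : Nat) : Nat := @Bool.rec (fun _ => Nat) (Atab_88) (Atab_89) (Nat.ble 89 c)
noncomputable def Atab_s_86_90 (c : Nat) : Nat := @Bool.rec (fun _ => Nat) (Atab_s_86_88 c) (Atab_s_88_90 c) (Nat.ble 88 c)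
noncomputable def Atab_s_83_90 (c : Nat) : Nat := @Bool.rec (fun _ => Nat) (Atab_s_83_86 c) (Atab_s_86_90 c) (Nat.ble 86 c)
noncomputable def Atab_s_91_93 (c : Nat) : Nat := @Bool.rec (fun _ => Nat) (Atab_91) (Atab_92) (Nat.ble 92 c)
noncomputable def Atab_s_90_93 (c : Nat) : Nat := @Bool.rec (fun _ => Nat) (Atab_90) (Atab_s_91_93 c) (Nat.ble 91 c)
noncomputable def Atab_s_93_95 (c : Nat) : Nat := @Bool.rec (fun _ => Nat) (Atab_93) (Atab_94) (Nat.ble 94 c)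
noncomputable def Atab_s_95_97 (c : Nat) : Nat := @Bool.rec (fun _ => Nat) (Atab_95) (Atab_96) (Nat.ble 96 c)
noncomputable def Atab_s_93_97 (c : Nat) : Nat := @Bool.rec (fun _ => Nat) (Atab_s_93_95 c) (Atab_s_95_97 c) (Nat.ble 95 c)
noncomputable def Atab_s_90_97 (c : Nat) : Nat := @Bool.rec (fun _ => Nat) (Atab_s_90_93 c) (Atab_s_93_97 c) (Nat.ble 93 c)
noncomputable def Atab_s_83_97 (c : Nat) : Nat := @Bool.rec (fun _ => Nat) (Atab_s_83_90 c) (Atab_s_90_97 c) (Nat.ble 90 c)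
noncomputable def Atab_s_98_100 (c : Nat) : Nat := @Bool.rec (fun _ => Nat) (Atab_98) (Atab_99) (Nat.ble 99 c)
noncomputable def Atab_s_97_100 (c : Nat) : Nat := @Bool.rec (fun _ => Nat) (Atab_97) (Atab_s_98_100 c) (Nat.ble 98 c)
noncomputable def Atab_s_100_102 (c : Nat) : Nat := @Bool.rec (fun _ => Nat) (Atab_100) (Atab_101) (Nat.ble 101 c)
noncomputable def Atab_s_102_104 (c : Nat) : Nat := @Bool.rec (fun _ => Nat) (Atab_102) (Atab_103) (Nat.ble 103 c)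
noncomputable def Atab_s_100_104 (c : Nat) : Nat := @Bool.rec (fun _ => Nat) (Atab_s_100_102 c) (Atab_s_102_104 c) (Nat.ble 102 c)
noncomputable def Atab_s_97_104 (c : Nat) : Nat := @Bool.rec (fun _ => Nat) (Atab_s_97_100 c) (Atab_s_100_104 c) (Nat.ble 100 c)
noncomputable def Atab_s_105_107 (c : Nat) : Nat := @Bool.rec (fun _ => Nat) (Atab_105) (Atab_106) (Nat.ble 106 c)
noncomputable def Atab_s_104_107 (c : Nat) : Nat := @Bool.rec (fun _ => Nat) (Atab_104) (Atab_s_105_107 c) (Nat.ble 105 c)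
noncomputable def Atab_s_107_109 (c : Nat) : Nat := @Bool.rec (fun _ => Nat) (Atab_107) (Atab_108) (Nat.ble 108 c)
noncomputable def Atab_s_109_111 (c : Nat) : Nat := @Bool.rec (fun _ => Nat) (Atab_109) (Atab_110) (Nat.ble 110 c)
noncomputable def Atab_s_107_111 (c : Nat) : Nat := @Bool.rec (fun _ => Nat) (Atab_s_107_109 c) (Atab_s_109_111 c) (Nat.ble 109 c)
noncomputable def Atab_s_104_111 (c : Nat) : Nat := @Bool.rec (fun _ => Nat) (Atab_s_104_107 c) (Atab_s_107_111 c) (Nat.ble 107 c)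
noncomputable def Atab_s_97_111 (c : Nat) : Nat := @Bool.rec (fun _ => Nat) (Atab_s_97_104 c) (Atab_s_104_111 c) (Nat.ble 104 c)
noncomputable def Atab_s_83_111 (c : Nat) : Nat := @Bool.rec (fun _ => Nat) (Atab_s_83_97 c) (Atab_s_97_111 c) (Nat.ble 97 c)
noncomputable def Atab_s_55_111 (c : Nat) : Nat := @Bool.rec (fun _ => Nat) (Atab_s_55_83 c) (Atab_s_83_111 c) (Nat.ble 83 c)
noncomputable def Atab_s_0_111 (c : Nat) : Nat := @Bool.rec (fun _ => Nat) (Atab_s_0_55 c) (Atab_s_55_111 c) (Nat.ble 55 c)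
noncomputable def Atab (i : Nat) : Nat := rdw 36 68719476735 (Atab_s_0_111 (Nat.shiftRight i 11)) (Nat.land i 2047)
noncomputable def Btab_s_0_2 (c : Nat) : Nat := @Bool.rec (fun _ => Nat) (Btab_0) (Btab_1) (Nat.ble 1 c)
noncomputable def Btab_s_3_5 (c : Nat) : Nat := @Bool.rec (fun _ => Nat) (Btab_3) (Btab_4) (Nat.ble 4 c)
noncomputable def Btab_s_2_5 (c : Nat) : Nat := @Bool.rec (fun _ => Nat) (Btab_2) (Btab_s_3_5 c) (Nat.ble 3 c)
noncomputable def Btab_s_0_5 (c : Nat) : Nat := @Bool.rec (fun _ => Nat) (Btab_s_0_2 c) (Btab_s_2_5 c) (Nat.ble 2 c)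
noncomputable def Btab_s_5_7 (c : Nat) : Nat := @Bool.rec (fun _ => Nat) (Btab_5) (Btab_6) (Nat.ble 6 c)
noncomputable def Btab_s_8_10 (c : Nat) : Nat := @Bool.rec (fun _ => Nat) (Btab_8) (Btab_9) (Nat.ble 9 c)
noncomputable def Btab_s_7_10 (c : Nat) : Nat := @Bool.rec (fun _ => Nat) (Btab_7) (Btab_s_8_10 c) (Nat.ble 8 c)
noncomputable def Btab_s_5_10 (c : Nat) : Nat := @Bool.rec (fun _ => Nat) (Btab_s_5_7 c) (Btab_s_7_10 c) (Nat.ble 7 c)
noncomputable def Btab_s_0_10 (c : Nat) : Nat := @Bool.rec (fun _ => Nat) (Btab_s_0_5 c) (Btab_s_5_10 c) (Nat.ble 5 c)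
noncomputable def Btab_s_10_12 (c : Nat) : Nat := @Bool.rec (fun _ => Nat) (Btab_10) (Btab_11) (Nat.ble 11 c)
noncomputable def Btab_s_13_15 (c : Nat) : Nat := @Bool.rec (fun _ => Nat) (Btab_13) (Btab_14) (Nat.ble 14 c)
noncomputable def Btab_s_12_15 (c : Nat) : Nat := @Bool.rec (fun _ => Nat) (Btab_12) (Btab_s_13_15 c) (Nat.ble 13 c)
noncomputable def Btab_s_10_15 (c : Nat) : Nat := @Bool.rec (fun _ => Nat) (Btab_s_10_12 c) (Btab_s_12_15 c) (Nat.ble 12 c)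
noncomputable def Btab_s_15_17 (c : Nat) : Nat := @Bool.rec (fun _ => Nat) (Btab_15) (Btab_16) (Nat.ble 16 c)
noncomputable def Btab_s_18_20 (c : Nat) : Nat := @Bool.rec (fun _ => Nat) (Btab_18) (Btab_19) (Nat.ble 19 c)
noncomputable def Btab_s_17_20 (c : Nat) : Nat := @Bool.rec (fun _ => Nat) (Btab_17) (Btab_s_18_20 c) (Nat.ble 18 c)
noncomputable def Btab_s_15_20 (c : Nat) : Nat := @Bool.rec (fun _ => Nat) (Btab_s_15_17 c) (Btab_s_17_20 c) (Nat.ble 17 c)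
noncomputable def Btab_s_10_20 (c : Nat) : Nat := @Bool.rec (fun _ => Nat) (Btab_s_10_15 c) (Btab_s_15_20 c) (Nat.ble 15 c)
noncomputable def Btab_s_0_20 (c : Nat) : Nat := @Bool.rec (fun _ => Nat) (Btab_s_0_10 c) (Btab_s_10_20 c) (Nat.ble 10 c)
noncomputable def Btab_s_20_22 (c : Nat) : Nat := @Bool.rec (fun _ => Nat) (Btab_20) (Btab_21) (Nat.ble 21 c)
noncomputable def Btab_s_23_25 (c : Nat) : Nat := @Bool.rec (fun _ => Nat) (Btab_23) (Btab_24) (Nat.ble 24 c)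
noncomputable def Btab_s_22_25 (c : Nat) : Nat := @Bool.rec (fun _ => Nat) (Btab_22) (Btab_s_23_25 c) (Nat.ble 23 c)
noncomputable def Btab_s_20_25 (c : Nat) : Nat := @Bool.rec (fun _ => Nat) (Btab_s_20_22 c) (Btab_s_22_25 c) (Nat.ble 22 c)
noncomputable def Btab_s_25_27 (c : Nat) : Nat := @Bool.rec (fun _ => Nat) (Btab_25) (Btab_26) (Nat.ble 26 c)
noncomputable def Btab_s_28_30 (c : Nat) : Nat := @Bool.rec (fun _ => Nat) (Btab_28) (Btab_29) (Nat.ble 29 c)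
noncomputable def Btab_s_27_30 (c : Nat) : Nat := @Bool.rec (fun _ => Nat) (Btab_27) (Btab_s_28_30 c) (Nat.ble 28 c)
noncomputable def Btab_s_25_30 (c : Nat) : Nat := @Bool.rec (fun _ => Nat) (Btab_s_25_27 c) (Btab_s_27_30 c) (Nat.ble 27 c)
noncomputable def Btab_s_20_30 (c : Nat) : Nat := @Bool.rec (fun _ => Nat) (Btab_s_20_25 c) (Btab_s_25_30 c) (Nat.ble 25 c)
noncomputable def Btab_s_30_32 (c : Nat) : Nat := @Bool.rec (fun _ => Nat) (Btab_30) (Btab_31) (Nat.ble 31 c)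
noncomputable def Btab_s_33_35 (c : Nat) : Nat := @Bool.rec (fun _ => Nat) (Btab_33) (Btab_34) (Nat.ble 34 c)
noncomputable def Btab_s_32_35 (c : Nat) : Nat := @Bool.rec (fun _ => Nat) (Btab_32) (Btab_s_33_35 c) (Nat.ble 33 c)
noncomputable def Btab_s_30_35 (c : Nat) : Nat := @Bool.rec (fun _ => Nat) (Btab_s_30_32 c) (Btab_s_32_35 c) (Nat.ble 32 c)
noncomputable def Btab_s_36_38 (c : Nat) : Nat := @Bool.rec (fun _ => Nat) (Btab_36) (Btab_37) (Nat.ble 37 c)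
noncomputable def Btab_s_35_38 (c : Nat) : Nat := @Bool.rec (fun _ => Nat) (Btab_35) (Btab_s_36_38 c) (Nat.ble 36 c)
noncomputable def Btab_s_39_41 (c : Nat) : Nat := @Bool.rec (fun _ => Nat) (Btab_39) (Btab_40) (Nat.ble 40 c)
noncomputable def Btab_s_38_41 (c : Nat) : Nat := @Bool.rec (fun _ => Nat) (Btab_38) (Btab_s_39_41 c) (Nat.ble 39 c)
noncomputable def Btab_s_35_41 (c : Nat) : Nat := @Bool.rec (fun _ => Nat) (Btab_s_35_38 c) (Btab_s_38_41 c) (Nat.ble 38 c)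
noncomputable def Btab_s_30_41 (c : Nat) : Nat := @Bool.rec (fun _ => Nat) (Btab_s_30_35 c) (Btab_s_35_41 c) (Nat.ble 35 c)
noncomputable def Btab_s_20_41 (c : Nat) : Nat := @Bool.rec (fun _ => Nat) (Btab_s_20_30 c) (Btab_s_30_41 c) (Nat.ble 30 c)
noncomputable def Btab_s_0_41 (c : Nat) : Nat := @Bool.rec (fun _ => Nat) (Btab_s_0_20 c) (Btab_s_20_41 c) (Nat.ble 20 c)
noncomputable def Btab_s_41_43 (c : Nat) : Nat := @Bool.rec (fun _ => Nat) (Btab_41) (Btab_42) (Nat.ble 42 c)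
noncomputable def Btab_s_44_46 (c : Nat) : Nat := @Bool.rec (fun _ => Nat) (Btab_44) (Btab_45) (Nat.ble 45 c)
noncomputable def Btab_s_43_46 (c : Nat) : Nat := @Bool.rec (fun _ => Nat) (Btab_43) (Btab_s_44_46 c) (Nat.ble 44 c)
noncomputable def Btab_s_41_46 (c : Nat) : Nat := @Bool.rec (fun _ => Nat) (Btab_s_41_43 c) (Btab_s_43_46 c) (Nat.ble 43 c)
noncomputable def Btab_s_46_48 (c : Nat) : Nat := @Bool.rec (fun _ => Nat) (Btab_46) (Btab_47) (Nat.ble 47 c)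
noncomputable def Btab_s_49_51 (c : Nat) : Nat := @Bool.rec (fun _ => Nat) (Btab_49) (Btab_50) (Nat.ble 50 c)
noncomputable def Btab_s_48_51 (c : Nat) : Nat := @Bool.rec (fun _ => Nat) (Btab_48) (Btab_s_49_51 c) (Nat.ble 49 c)
noncomputable def Btab_s_46_51 (c : Nat) : Nat := @Bool.rec (fun _ => Nat) (Btab_s_46_48 c) (Btab_s_48_51 c) (Nat.ble 48 c)
noncomputable def Btab_s_41_51 (c : Nat) : Nat := @Bool.rec (fun _ => Nat) (Btab_s_41_46 c) (Btab_s_46_51 c) (Nat.ble 46 c)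
noncomputable def Btab_s_51_53 (c : Nat) : Nat := @Bool.rec (fun _ => Nat) (Btab_51) (Btab_52) (Nat.ble 52 c)
noncomputable def Btab_s_54_56 (c : Nat) : Nat := @Bool.rec (fun _ => Nat) (Btab_54) (Btab_55) (Nat.ble 55 c)
noncomputable def Btab_s_53_56 (c : Nat) : Nat := @Bool.rec (fun _ => Nat) (Btab_53) (Btab_s_54_56 c) (Nat.ble 54 c)
noncomputable def Btab_s_51_56 (c : Nat) : Nat := @Bool.rec (fun _ => Nat) (Btab_s_51_53 c) (Btab_s_53_56 c) (Nat.ble 53 c)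
noncomputable def Btab_s_57_59 (c : Nat) : Nat := @Bool.rec (fun _ => Nat) (Btab_57) (Btab_58) (Nat.ble 58 c)
noncomputable def Btab_s_56_59 (c : Nat) : Nat := @Bool.rec (fun _ => Nat) (Btab_56) (Btab_s_57_59 c) (Nat.ble 57 c)
noncomputable def Btab_s_60_62 (c : Nat) : Nat := @Bool.rec (fun _ => Nat) (Btab_60) (Btab_61) (Nat.ble 61 c)
noncomputable def Btab_s_59_62 (c : Nat) : Nat := @Bool.rec (fun _ => Nat) (Btab_59) (Btab_s_60_62 c) (Nat.ble 60 c)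
noncomputable def Btab_s_56_62 (c : Nat) : Nat := @Bool.rec (fun _ => Nat) (Btab_s_56_59 c) (Btab_s_59_62 c) (Nat.ble 59 c)
noncomputable def Btab_s_51_62 (c : Nat) : Nat := @Bool.rec (fun _ => Nat) (Btab_s_51_56 c) (Btab_s_56_62 c) (Nat.ble 56 c)
noncomputable def Btab_s_41_62 (c : Nat) : Nat := @Bool.rec (fun _ => Nat) (Btab_s_41_51 c) (Btab_s_51_62 c) (Nat.ble 51 c)
noncomputable def Btab_s_62_64 (c : Nat) : Nat := @Bool.rec (fun _ => Nat) (Btab_62) (Btab_63) (Nat.ble 63 c)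
noncomputable def Btab_s_65_67 (c : Nat) : Nat := @Bool.rec (fun _ => Nat) (Btab_65) (Btab_66) (Nat.ble 66 c)
noncomputable def Btab_s_64_67 (c : Nat) : Nat := @Bool.rec (fun _ => Nat) (Btab_64) (Btab_s_65_67 c) (Nat.ble 65 c)
noncomputable def Btab_s_62_67 (c : Nat) : Nat := @Bool.rec (fun _ => Nat) (Btab_s_62_64 c) (Btab_s_64_67 c) (Nat.ble 64 c)
noncomputable def Btab_s_67_69 (c : Nat) : Nat := @Bool.rec (fun _ => Nat) (Btab_67) (Btab_68) (Nat.ble 68 c)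
noncomputable def Btab_s_70_72 (c : Nat) : Nat := @Bool.rec (fun _ => Nat) (Btab_70) (Btab_71) (Nat.ble 71 c)
noncomputable def Btab_s_69_72 (c : Nat) : Nat := @Bool.rec (fun _ => Nat) (Btab_69) (Btab_s_70_72 c) (Nat.ble 70 c)
noncomputable def Btab_s_67_72 (c : Nat) : Nat := @Bool.rec (fun _ => Nat) (Btab_s_67_69 c) (Btab_s_69_72 c) (Nat.ble 69 c)
noncomputable def Btab_s_62_72 (c : Nat) : Nat := @Bool.rec (fun _ => Nat) (Btab_s_62_67 c) (Btab_s_67_72 c) (Nat.ble 67 c)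
noncomputable def Btab_s_72_74 (c : Nat) : Nat := @Bool.rec (fun _ => Nat) (Btab_72) (Btab_73) (Nat.ble 73 c)
noncomputable def Btab_s_75_77 (c : Nat) : Nat := @Bool.rec (fun _ => Nat) (Btab_75) (Btab_76) (Nat.ble 76 c)
noncomputable def Btab_s_74_77 (c : Nat) : Nat := @Bool.rec (fun _ => Nat) (Btab_74) (Btab_s_75_77 c) (Nat.ble 75 c)
noncomputable def Btab_s_72_77 (c : Nat) : Nat := @Bool.rec (fun _ => Nat) (Btab_s_72_74 c) (Btab_s_74_77 c) (Nat.ble 74 c)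
noncomputable def Btab_s_78_80 (c : Nat) : Nat := @Bool.rec (fun _ => Nat) (Btab_78) (Btab_79) (Nat.ble 79 c)
noncomputable def Btab_s_77_80 (c : Nat) : Nat := @Bool.rec (fun _ => Nat) (Btab_77) (Btab_s_78_80 c) (Nat.ble 78 c)
noncomputable def Btab_s_81_83 (c : Nat) : Nat := @Bool.rec (fun _ => Nat) (Btab_81) (Btab_82) (Nat.ble 82 c)
noncomputable def Btab_s_80_83 (c : Nat) : Nat := @Bool.rec (fun _ => Nat) (Btab_80) (Btab_s_81_83 c) (Nat.ble 81 c)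
noncomputable def Btab_s_77_83 (c : Nat) : Nat := @Bool.rec (fun _ => Nat) (Btab_s_77_80 c) (Btab_s_80_83 c) (Nat.ble 80 c)
noncomputable def Btab_s_72_83 (c : Nat) : Nat := @Bool.rec (fun _ => Nat) (Btab_s_72_77 c) (Btab_s_77_83 c) (Nat.ble 77 c)
noncomputable def Btab_s_62_83 (c : Nat) : Nat := @Bool.rec (fun _ => Nat) (Btab_s_62_72 c) (Btab_s_72_83 c) (Nat.ble 72 c)
noncomputable def Btab_s_41_83 (c : Nat) : Nat := @Bool.rec (fun _ => Nat) (Btab_s_41_62 c) (Btab_s_62_83 c) (Nat.ble 62 c)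
noncomputable def Btab_s_0_83 (c : Nat) : Nat := @Bool.rec (fun _ => Nat) (Btab_s_0_41 c) (Btab_s_41_83 c) (Nat.ble 41 c)
noncomputable def Btab (i : Nat) : Nat := rdw 38 274877906943 (Btab_s_0_83 (Nat.shiftRight i 11)) (Nat.land i 2047)
noncomputable def Ptab_s_1_3 (c : Nat) : Nat := @Bool.rec (fun _ => Nat) (Ptab_1) (Ptab_2) (Nat.ble 2 c)
noncomputable def Ptab_s_0_3 (c : Nat) : Nat := @Bool.rec (fun _ => Nat) (Ptab_0) (Ptab_s_1_3 c) (Nat.ble 1 c)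
noncomputable def Ptab_s_3_5 (c : Nat) : Nat := @Bool.rec (fun _ => Nat) (Ptab_3) (Ptab_4) (Nat.ble 4 c)
noncomputable def Ptab_s_5_7 (c : Nat) : Nat := @Bool.rec (fun _ => Nat) (Ptab_5) (Ptab_6) (Nat.ble 6 c)
noncomputable def Ptab_s_3_7 (c : Nat) : Nat := @Bool.rec (fun _ => Nat) (Ptab_s_3_5 c) (Ptab_s_5_7 c) (Nat.ble 5 c)
noncomputable def Ptab_s_0_7 (c : Nat) : Nat := @Bool.rec (fun _ => Nat) (Ptab_s_0_3 c) (Ptab_s_3_7 c) (Nat.ble 3 c)
noncomputable def Ptab_s_8_10 (c : Nat) : Nat := @Bool.rec (fun _ => Nat) (Ptab_8) (Ptab_9) (Nat.ble 9 c)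
noncomputable def Ptab_s_7_10 (c : Nat) : Nat := @Bool.rec (fun _ => Nat) (Ptab_7) (Ptab_s_8_10 c) (Nat.ble 8 c)
noncomputable def Ptab_s_10_12 (c : Nat) : Nat := @Bool.rec (fun _ => Nat) (Ptab_10) (Ptab_11) (Nat.ble 11 c)
noncomputable def Ptab_s_12_14 (c : Nat) : Nat := @Bool.rec (fun _ => Nat) (Ptab_12) (Ptab_13) (Nat.ble 13 c)
noncomputable def Ptab_s_10_14 (c : Nat) : Nat := @Bool.rec (fun _ => Nat) (Ptab_s_10_12 c) (Ptab_s_12_14 c) (Nat.ble 12 c)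
noncomputable def Ptab_s_7_14 (c : Nat) : Nat := @Bool.rec (fun _ => Nat) (Ptab_s_7_10 c) (Ptab_s_10_14 c) (Nat.ble 10 c)
noncomputable def Ptab_s_0_14 (c : Nat) : Nat := @Bool.rec (fun _ => Nat) (Ptab_s_0_7 c) (Ptab_s_7_14 c) (Nat.ble 7 c)
noncomputable def Ptab_s_15_17 (c : Nat) : Nat := @Bool.rec (fun _ => Nat) (Ptab_15) (Ptab_16) (Nat.ble 16 c)
noncomputable def Ptab_s_14_17 (c : Nat) : Nat := @Bool.rec (fun _ => Nat) (Ptab_14) (Ptab_s_15_17 c) (Nat.ble 15 c)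
noncomputable def Ptab_s_17_19 (c : Nat) : Nat := @Bool.rec (fun _ => Nat) (Ptab_17) (Ptab_18) (Nat.ble 18 c)
noncomputable def Ptab_s_19_21 (c : Nat) : Nat := @Bool.rec (fun _ => Nat) (Ptab_19) (Ptab_20) (Nat.ble 20 c)
noncomputable def Ptab_s_17_21 (c : Nat) : Nat := @Bool.rec (fun _ => Nat) (Ptab_s_17_19 c) (Ptab_s_19_21 c) (Nat.ble 19 c)
noncomputable def Ptab_s_14_21 (c : Nat) : Nat := @Bool.rec (fun _ => Nat) (Ptab_s_14_17 c) (Ptab_s_17_21 c) (Nat.ble 17 c)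
noncomputable def Ptab_s_22_24 (c : Nat) : Nat := @Bool.rec (fun _ => Nat) (Ptab_22) (Ptab_23) (Nat.ble 23 c)
noncomputable def Ptab_s_21_24 (c : Nat) : Nat := @Bool.rec (fun _ => Nat) (Ptab_21) (Ptab_s_22_24 c) (Nat.ble 22 c)
noncomputable def Ptab_s_24_26 (c : Nat) : Nat := @Bool.rec (fun _ => Nat) (Ptab_24) (Ptab_25) (Nat.ble 25 c)
noncomputable def Ptab_s_26_28 (c : Nat) : Nat := @Bool.rec (fun _ => Nat) (Ptab_26) (Ptab_27) (Nat.ble 27 c)
noncomputable def Ptab_s_24_28 (c : Nat) : Nat := @Bool.rec (fun _ => Nat) (Ptab_s_24_26 c) (Ptab_s_26_28 c) (Nat.ble 26 c)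
noncomputable def Ptab_s_21_28 (c : Nat) : Nat := @Bool.rec (fun _ => Nat) (Ptab_s_21_24 c) (Ptab_s_24_28 c) (Nat.ble 24 c)
noncomputable def Ptab_s_14_28 (c : Nat) : Nat := @Bool.rec (fun _ => Nat) (Ptab_s_14_21 c) (Ptab_s_21_28 c) (Nat.ble 21 c)
noncomputable def Ptab_s_0_28 (c : Nat) : Nat := @Bool.rec (fun _ => Nat) (Ptab_s_0_14 c) (Ptab_s_14_28 c) (Nat.ble 14 c)
noncomputable def Ptab_s_29_31 (c : Nat) : Nat := @Bool.rec (fun _ => Nat) (Ptab_29) (Ptab_30) (Nat.ble 30 c)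
noncomputable def Ptab_s_28_31 (c : Nat) : Nat := @Bool.rec (fun _ => Nat) (Ptab_28) (Ptab_s_29_31 c) (Nat.ble 29 c)
noncomputable def Ptab_s_31_33 (c : Nat) : Nat := @Bool.rec (fun _ => Nat) (Ptab_31) (Ptab_32) (Nat.ble 32 c)
noncomputable def Ptab_s_33_35 (c : Nat) : Nat := @Bool.rec (fun _ => Nat) (Ptab_33) (Ptab_34) (Nat.ble 34 c)
noncomputable def Ptab_s_31_35 (c : Nat) : Nat := @Bool.rec (fun _ => Nat) (Ptab_s_31_33 c) (Ptab_s_33_35 c) (Nat.ble 33 c)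
noncomputable def Ptab_s_28_35 (c : Nat) : Nat := @Bool.rec (fun _ => Nat) (Ptab_s_28_31 c) (Ptab_s_31_35 c) (Nat.ble 31 c)
noncomputable def Ptab_s_36_38 (c : Nat) : Nat := @Bool.rec (fun _ => Nat) (Ptab_36) (Ptab_37) (Nat.ble 37 c)
noncomputable def Ptab_s_35_38 (c : Nat) : Nat := @Bool.rec (fun _ => Nat) (Ptab_35) (Ptab_s_36_38 c) (Nat.ble 36 c)
noncomputable def Ptab_s_38_40 (c : Nat) : Nat := @Bool.rec (fun _ => Nat) (Ptab_38) (Ptab_39) (Nat.ble 39 c)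
noncomputable def Ptab_s_40_42 (c : Nat) : Nat := @Bool.rec (fun _ => Nat) (Ptab_40) (Ptab_41) (Nat.ble 41 c)
noncomputable def Ptab_s_38_42 (c : Nat) : Nat := @Bool.rec (fun _ => Nat) (Ptab_s_38_40 c) (Ptab_s_40_42 c) (Nat.ble 40 c)
noncomputable def Ptab_s_35_42 (c : Nat) : Nat := @Bool.rec (fun _ => Nat) (Ptab_s_35_38 c) (Ptab_s_38_42 c) (Nat.ble 38 c)
noncomputable def Ptab_s_28_42 (c : Nat) : Nat := @Bool.rec (fun _ => Nat) (Ptab_s_28_35 c) (Ptab_s_35_42 c) (Nat.ble 35 c)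
noncomputable def Ptab_s_43_45 (c : Nat) : Nat := @Bool.rec (fun _ => Nat) (Ptab_43) (Ptab_44) (Nat.ble 44 c)
noncomputable def Ptab_s_42_45 (c : Nat) : Nat := @Bool.rec (fun _ => Nat) (Ptab_42) (Ptab_s_43_45 c) (Nat.ble 43 c)
noncomputable def Ptab_s_45_47 (c : Nat) : Nat := @Bool.rec (fun _ => Nat) (Ptab_45) (Ptab_46) (Nat.ble 46 c)
noncomputable def Ptab_s_47_49 (c : Nat) : Nat := @Bool.rec (fun _ => Nat) (Ptab_47) (Ptab_48) (Nat.ble 48 c)
noncomputable def Ptab_s_45_49 (c : Nat) : Nat := @Bool.rec (fun _ => Nat) (Ptab_s_45_47 c) (Ptab_s_47_49 c) (Nat.ble 47 c)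
noncomputable def Ptab_s_42_49 (c : Nat) : Nat := @Bool.rec (fun _ => Nat) (Ptab_s_42_45 c) (Ptab_s_45_49 c) (Nat.ble 45 c)
noncomputable def Ptab_s_50_52 (c : Nat) : Nat := @Bool.rec (fun _ => Nat) (Ptab_50) (Ptab_51) (Nat.ble 51 c)
noncomputable def Ptab_s_49_52 (c : Nat) : Nat := @Bool.rec (fun _ => Nat) (Ptab_49) (Ptab_s_50_52 c) (Nat.ble 50 c)
noncomputable def Ptab_s_52_54 (c : Nat) : Nat := @Bool.rec (fun _ => Nat) (Ptab_52) (Ptab_53) (Nat.ble 53 c)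
noncomputable def Ptab_s_54_56 (c : Nat) : Nat := @Bool.rec (fun _ => Nat) (Ptab_54) (Ptab_55) (Nat.ble 55 c)
noncomputable def Ptab_s_52_56 (c : Nat) : Nat := @Bool.rec (fun _ => Nat) (Ptab_s_52_54 c) (Ptab_s_54_56 c) (Nat.ble 54 c)
noncomputable def Ptab_s_49_56 (c : Nat) : Nat := @Bool.rec (fun _ => Nat) (Ptab_s_49_52 c) (Ptab_s_52_56 c) (Nat.ble 52 c)
noncomputable def Ptab_s_42_56 (c : Nat) : Nat := @Bool.rec (fun _ => Nat) (Ptab_s_42_49 c) (Ptab_s_49_56 c) (Nat.ble 49 c)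
noncomputable def Ptab_s_28_56 (c : Nat) : Nat := @Bool.rec (fun _ => Nat) (Ptab_s_28_42 c) (Ptab_s_42_56 c) (Nat.ble 42 c)
noncomputable def Ptab_s_0_56 (c : Nat) : Nat := @Bool.rec (fun _ => Nat) (Ptab_s_0_28 c) (Ptab_s_28_56 c) (Nat.ble 28 c)
noncomputable def Ptab_s_57_59 (c : Nat) : Nat := @Bool.rec (fun _ => Nat) (Ptab_57) (Ptab_58) (Nat.ble 58 c)
noncomputable def Ptab_s_56_59 (c : Nat) : Nat := @Bool.rec (fun _ => Nat) (Ptab_56) (Ptab_s_57_59 c) (Nat.ble 57 c)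
noncomputable def Ptab_s_59_61 (c : Nat) : Nat := @Bool.rec (fun _ => Nat) (Ptab_59) (Ptab_60) (Nat.ble 60 c)
noncomputable def Ptab_s_61_63 (c : Nat) : Nat := @Bool.rec (fun _ => Nat) (Ptab_61) (Ptab_62) (Nat.ble 62 c)
noncomputable def Ptab_s_59_63 (c : Nat) : Nat := @Bool.rec (fun _ => Nat) (Ptab_s_59_61 c) (Ptab_s_61_63 c) (Nat.ble 61 c)
noncomputable def Ptab_s_56_63 (c : Nat) : Nat := @Bool.rec (fun _ => Nat) (Ptab_s_56_59 c) (Ptab_s_59_63 c) (Nat.ble 59 c)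
noncomputable def Ptab_s_64_66 (c : Nat) : Nat := @Bool.rec (fun _ => Nat) (Ptab_64) (Ptab_65) (Nat.ble 65 c)
noncomputable def Ptab_s_63_66 (c : Nat) : Nat := @Bool.rec (fun _ => Nat) (Ptab_63) (Ptab_s_64_66 c) (Nat.ble 64 c)
noncomputable def Ptab_s_66_68 (c : Nat) : Nat := @Bool.rec (fun _ => Nat) (Ptab_66) (Ptab_67) (Nat.ble 67 c)
noncomputable def Ptab_s_68_70 (c : Nat) : Nat := @Bool.rec (fun _ => Nat) (Ptab_68) (Ptab_69) (Nat.ble 69 c)
noncomputable def Ptab_s_66_70 (c : Nat) : Nat := @Bool.rec (fun _ => Nat) (Ptab_s_66_68 c) (Ptab_s_68_70 c) (Nat.ble 68 c)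
noncomputable def Ptab_s_63_70 (c : Nat) : Nat := @Bool.rec (fun _ => Nat) (Ptab_s_63_66 c) (Ptab_s_66_70 c) (Nat.ble 66 c)
noncomputable def Ptab_s_56_70 (c : Nat) : Nat := @Bool.rec (fun _ => Nat) (Ptab_s_56_63 c) (Ptab_s_63_70 c) (Nat.ble 63 c)
noncomputable def Ptab_s_71_73 (c : Nat) : Nat := @Bool.rec (fun _ => Nat) (Ptab_71) (Ptab_72) (Nat.ble 72 c)
noncomputable def Ptab_s_70_73 (c : Nat) : Nat := @Bool.rec (fun _ => Nat) (Ptab_70) (Ptab_s_71_73 c) (Nat.ble 71 c)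
noncomputable def Ptab_s_73_75 (c : Nat) : Nat := @Bool.rec (fun _ => Nat) (Ptab_73) (Ptab_74) (Nat.ble 74 c)
noncomputable def Ptab_s_75_77 (c : Nat) : Nat := @Bool.rec (fun _ => Nat) (Ptab_75) (Ptab_76) (Nat.ble 76 c)
noncomputable def Ptab_s_73_77 (c : Nat) : Nat := @Bool.rec (fun _ => Nat) (Ptab_s_73_75 c) (Ptab_s_75_77 c) (Nat.ble 75 c)
noncomputable def Ptab_s_70_77 (c : Nat) : Nat := @Bool.rec (fun _ => Nat) (Ptab_s_70_73 c) (Ptab_s_73_77 c) (Nat.ble 73 c)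
noncomputable def Ptab_s_78_80 (c : Nat) : Nat := @Bool.rec (fun _ => Nat) (Ptab_78) (Ptab_79) (Nat.ble 79 c)
noncomputable def Ptab_s_77_80 (c : Nat) : Nat := @Bool.rec (fun _ => Nat) (Ptab_77) (Ptab_s_78_80 c) (Nat.ble 78 c)
noncomputable def Ptab_s_80_82 (c : Nat) : Nat := @Bool.rec (fun _ => Nat) (Ptab_80) (Ptab_81) (Nat.ble 81 c)
noncomputable def Ptab_s_82_84 (c : Nat) : Nat := @Bool.rec (fun _ => Nat) (Ptab_82) (Ptab_83) (Nat.ble 83 c)
noncomputable def Ptab_s_80_84 (c : Nat) : Nat := @Bool.rec (fun _ => Nat) (Ptab_s_80_82 c) (Ptab_s_82_84 c) (Nat.ble 82 c)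
noncomputable def Ptab_s_77_84 (c : Nat) : Nat := @Bool.rec (fun _ => Nat) (Ptab_s_77_80 c) (Ptab_s_80_84 c) (Nat.ble 80 c)
noncomputable def Ptab_s_70_84 (c : Nat) : Nat := @Bool.rec (fun _ => Nat) (Ptab_s_70_77 c) (Ptab_s_77_84 c) (Nat.ble 77 c)
noncomputable def Ptab_s_56_84 (c : Nat) : Nat := @Bool.rec (fun _ => Nat) (Ptab_s_56_70 c) (Ptab_s_70_84 c) (Nat.ble 70 c)
noncomputable def Ptab_s_85_87 (c : Nat) : Nat := @Bool.rec (fun _ => Nat) (Ptab_85) (Ptab_86) (Nat.ble 86 c)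
noncomputable def Ptab_s_84_87 (c : Nat) : Nat := @Bool.rec (fun _ => Nat) (Ptab_84) (Ptab_s_85_87 c) (Nat.ble 85 c)
noncomputable def Ptab_s_87_89 (c : Nat) : Nat := @Bool.rec (fun _ => Nat) (Ptab_87) (Ptab_88) (Nat.ble 88 c)
noncomputable def Ptab_s_89_91 (c : Nat) : Nat := @Bool.rec (fun _ => Nat) (Ptab_89) (Ptab_90) (Nat.ble 90 c)
noncomputable def Ptab_s_87_91 (c : Nat) : Nat := @Bool.rec (fun _ => Nat) (Ptab_s_87_89 c) (Ptab_s_89_91 c) (Nat.ble 89 c)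
noncomputable def Ptab_s_84_91 (c : Nat) : Nat := @Bool.rec (fun _ => Nat) (Ptab_s_84_87 c) (Ptab_s_87_91 c) (Nat.ble 87 c)
noncomputable def Ptab_s_92_94 (c : Nat) : Nat := @Bool.rec (fun _ => Nat) (Ptab_92) (Ptab_93) (Nat.ble 93 c)
noncomputable def Ptab_s_91_94 (c : Nat) : Nat := @Bool.rec (fun _ => Nat) (Ptab_91) (Ptab_s_92_94 c) (Nat.ble 92 c)
noncomputable def Ptab_s_94_96 (c : Nat) : Nat := @Bool.rec (fun _ => Nat) (Ptab_94) (Ptab_95) (Nat.ble 95 c)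
noncomputable def Ptab_s_96_98 (c : Nat) : Nat := @Bool.rec (fun _ => Nat) (Ptab_96) (Ptab_97) (Nat.ble 97 c)
noncomputable def Ptab_s_94_98 (c : Nat) : Nat := @Bool.rec (fun _ => Nat) (Ptab_s_94_96 c) (Ptab_s_96_98 c) (Nat.ble 96 c)
noncomputable def Ptab_s_91_98 (c : Nat) : Nat := @Bool.rec (fun _ => Nat) (Ptab_s_91_94 c) (Ptab_s_94_98 c) (Nat.ble 94 c)
noncomputable def Ptab_s_84_98 (c : Nat) : Nat := @Bool.rec (fun _ => Nat) (Ptab_s_84_91 c) (Ptab_s_91_98 c) (Nat.ble 91 c)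
noncomputable def Ptab_s_99_101 (c : Nat) : Nat := @Bool.rec (fun _ => Nat) (Ptab_99) (Ptab_100) (Nat.ble 100 c)
noncomputable def Ptab_s_98_101 (c : Nat) : Nat := @Bool.rec (fun _ => Nat) (Ptab_98) (Ptab_s_99_101 c) (Nat.ble 99 c)
noncomputable def Ptab_s_101_103 (c : Nat) : Nat := @Bool.rec (fun _ => Nat) (Ptab_101) (Ptab_102) (Nat.ble 102 c)
noncomputable def Ptab_s_103_105 (c : Nat) : Nat := @Bool.rec (fun _ => Nat) (Ptab_103) (Ptab_104) (Nat.ble 104 c)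
noncomputable def Ptab_s_101_105 (c : Nat) : Nat := @Bool.rec (fun _ => Nat) (Ptab_s_101_103 c) (Ptab_s_103_105 c) (Nat.ble 103 c)
noncomputable def Ptab_s_98_105 (c : Nat) : Nat := @Bool.rec (fun _ => Nat) (Ptab_s_98_101 c) (Ptab_s_101_105 c) (Nat.ble 101 c)
noncomputable def Ptab_s_105_107 (c : Nat) : Nat := @Bool.rec (fun _ => Nat) (Ptab_105) (Ptab_106) (Nat.ble 106 c)
noncomputable def Ptab_s_107_109 (c : Nat) : Nat := @Bool.rec (fun _ => Nat) (Ptab_107) (Ptab_108) (Nat.ble 108 c)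
noncomputable def Ptab_s_105_109 (c : Nat) : Nat := @Bool.rec (fun _ => Nat) (Ptab_s_105_107 c) (Ptab_s_107_109 c) (Nat.ble 107 c)
noncomputable def Ptab_s_109_111 (c : Nat) : Nat := @Bool.rec (fun _ => Nat) (Ptab_109) (Ptab_110) (Nat.ble 110 c)
noncomputable def Ptab_s_111_113 (c : Nat) : Nat := @Bool.rec (fun _ => Nat) (Ptab_111) (Ptab_112) (Nat.ble 112 c)
noncomputable def Ptab_s_109_113 (c : Nat) : Nat := @Bool.rec (fun _ => Nat) (Ptab_s_109_111 c) (Ptab_s_111_113 c) (Nat.ble 111 c)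
noncomputable def Ptab_s_105_113 (c : Nat) : Nat := @Bool.rec (fun _ => Nat) (Ptab_s_105_109 c) (Ptab_s_109_113 c) (Nat.ble 109 c)
noncomputable def Ptab_s_98_113 (c : Nat) : Nat := @Bool.rec (fun _ => Nat) (Ptab_s_98_105 c) (Ptab_s_105_113 c) (Nat.ble 105 c)
noncomputable def Ptab_s_84_113 (c : Nat) : Nat := @Bool.rec (fun _ => Nat) (Ptab_s_84_98 c) (Ptab_s_98_113 c) (Nat.ble 98 c)
noncomputable def Ptab_s_56_113 (c : Nat) : Nat := @Bool.rec (fun _ => Nat) (Ptab_s_56_84 c) (Ptab_s_84_113 c) (Nat.ble 84 c)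
noncomputable def Ptab_s_0_113 (c : Nat) : Nat := @Bool.rec (fun _ => Nat) (Ptab_s_0_56 c) (Ptab_s_56_113 c) (Nat.ble 56 c)
noncomputable def Ptab_s_114_116 (c : Nat) : Nat := @Bool.rec (fun _ => Nat) (Ptab_114) (Ptab_115) (Nat.ble 115 c)
noncomputable def Ptab_s_113_116 (c : Nat) : Nat := @Bool.rec (fun _ => Nat) (Ptab_113) (Ptab_s_114_116 c) (Nat.ble 114 c)
noncomputable def Ptab_s_116_118 (c : Nat) : Nat := @Bool.rec (fun _ => Nat) (Ptab_116) (Ptab_117) (Nat.ble 117 c)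
noncomputable def Ptab_s_118_120 (c : Nat) : Nat := @Bool.rec (fun _ => Nat) (Ptab_118) (Ptab_119) (Nat.ble 119 c)
noncomputable def Ptab_s_116_120 (c : Nat) : Nat := @Bool.rec (fun _ => Nat) (Ptab_s_116_118 c) (Ptab_s_118_120 c) (Nat.ble 118 c)
noncomputable def Ptab_s_113_120 (c : Nat) : Nat := @Bool.rec (fun _ => Nat) (Ptab_s_113_116 c) (Ptab_s_116_120 c) (Nat.ble 116 c)
noncomputable def Ptab_s_121_123 (c : Nat) : Nat := @Bool.rec (fun _ => Nat) (Ptab_121) (Ptab_122) (Nat.ble 122 c)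
noncomputable def Ptab_s_120_123 (c : Nat) : Nat := @Bool.rec (fun _ => Nat) (Ptab_120) (Ptab_s_121_123 c) (Nat.ble 121 c)
noncomputable def Ptab_s_123_125 (c : Nat) : Nat := @Bool.rec (fun _ => Nat) (Ptab_123) (Ptab_124) (Nat.ble 124 c)
noncomputable def Ptab_s_125_127 (c : Nat) : Nat := @Bool.rec (fun _ => Nat) (Ptab_125) (Ptab_126) (Nat.ble 126 c)
noncomputable def Ptab_s_123_127 (c : Nat) : Nat := @Bool.rec (fun _ => Nat) (Ptab_s_123_125 c) (Ptab_s_125_127 c) (Nat.ble 125 c)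
noncomputable def Ptab_s_120_127 (c : Nat) : Nat := @Bool.rec (fun _ => Nat) (Ptab_s_120_123 c) (Ptab_s_123_127 c) (Nat.ble 123 c)
noncomputable def Ptab_s_113_127 (c : Nat) : Nat := @Bool.rec (fun _ => Nat) (Ptab_s_113_120 c) (Ptab_s_120_127 c) (Nat.ble 120 c)
noncomputable def Ptab_s_128_130 (c : Nat) : Nat := @Bool.rec (fun _ => Nat) (Ptab_128) (Ptab_129) (Nat.ble 129 c)
noncomputable def Ptab_s_127_130 (c : Nat) : Nat := @Bool.rec (fun _ => Nat) (Ptab_127) (Ptab_s_128_130 c) (Nat.ble 128 c)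
noncomputable def Ptab_s_130_132 (c : Nat) : Nat := @Bool.rec (fun _ => Nat) (Ptab_130) (Ptab_131) (Nat.ble 131 c)
noncomputable def Ptab_s_132_134 (c : Nat) : Nat := @Bool.rec (fun _ => Nat) (Ptab_132) (Ptab_133) (Nat.ble 133 c)
noncomputable def Ptab_s_130_134 (c : Nat) : Nat := @Bool.rec (fun _ => Nat) (Ptab_s_130_132 c) (Ptab_s_132_134 c) (Nat.ble 132 c)
noncomputable def Ptab_s_127_134 (c : Nat) : Nat := @Bool.rec (fun _ => Nat) (Ptab_s_127_130 c) (Ptab_s_130_134 c) (Nat.ble 130 c)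
noncomputable def Ptab_s_135_137 (c : Nat) : Nat := @Bool.rec (fun _ => Nat) (Ptab_135) (Ptab_136) (Nat.ble 136 c)
noncomputable def Ptab_s_134_137 (c : Nat) : Nat := @Bool.rec (fun _ => Nat) (Ptab_134) (Ptab_s_135_137 c) (Nat.ble 135 c)
noncomputable def Ptab_s_137_139 (c : Nat) : Nat := @Bool.rec (fun _ => Nat) (Ptab_137) (Ptab_138) (Nat.ble 138 c)
noncomputable def Ptab_s_139_141 (c : Nat) : Nat := @Bool.rec (fun _ => Nat) (Ptab_139) (Ptab_140) (Nat.ble 140 c)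
noncomputable def Ptab_s_137_141 (c : Nat) : Nat := @Bool.rec (fun _ => Nat) (Ptab_s_137_139 c) (Ptab_s_139_141 c) (Nat.ble 139 c)
noncomputable def Ptab_s_134_141 (c : Nat) : Nat := @Bool.rec (fun _ => Nat) (Ptab_s_134_137 c) (Ptab_s_137_141 c) (Nat.ble 137 c)
noncomputable def Ptab_s_127_141 (c : Nat) : Nat := @Bool.rec (fun _ => Nat) (Ptab_s_127_134 c) (Ptab_s_134_141 c) (Nat.ble 134 c)
noncomputable def Ptab_s_113_141 (c : Nat) : Nat := @Bool.rec (fun _ => Nat) (Ptab_s_113_127 c) (Ptab_s_127_141 c) (Nat.ble 127 c)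
noncomputable def Ptab_s_142_144 (c : Nat) : Nat := @Bool.rec (fun _ => Nat) (Ptab_142) (Ptab_143) (Nat.ble 143 c)
noncomputable def Ptab_s_141_144 (c : Nat) : Nat := @Bool.rec (fun _ => Nat) (Ptab_141) (Ptab_s_142_144 c) (Nat.ble 142 c)
noncomputable def Ptab_s_144_146 (c : Nat) : Nat := @Bool.rec (fun _ => Nat) (Ptab_144) (Ptab_145) (Nat.ble 145 c)
noncomputable def Ptab_s_146_148 (c : Nat) : Nat := @Bool.rec (fun _ => Nat) (Ptab_146) (Ptab_147) (Nat.ble 147 c)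
noncomputable def Ptab_s_144_148 (c : Nat) : Nat := @Bool.rec (fun _ => Nat) (Ptab_s_144_146 c) (Ptab_s_146_148 c) (Nat.ble 146 c)
noncomputable def Ptab_s_141_148 (c : Nat) : Nat := @Bool.rec (fun _ => Nat) (Ptab_s_141_144 c) (Ptab_s_144_148 c) (Nat.ble 144 c)
noncomputable def Ptab_s_149_151 (c : Nat) : Nat := @Bool.rec (fun _ => Nat) (Ptab_149) (Ptab_150) (Nat.ble 150 c)
noncomputable def Ptab_s_148_151 (c : Nat) : Nat := @Bool.rec (fun _ => Nat) (Ptab_148) (Ptab_s_149_151 c) (Nat.ble 149 c)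
noncomputable def Ptab_s_151_153 (c : Nat) : Nat := @Bool.rec (fun _ => Nat) (Ptab_151) (Ptab_152) (Nat.ble 152 c)
noncomputable def Ptab_s_153_155 (c : Nat) : Nat := @Bool.rec (fun _ => Nat) (Ptab_153) (Ptab_154) (Nat.ble 154 c)
noncomputable def Ptab_s_151_155 (c : Nat) : Nat := @Bool.rec (fun _ => Nat) (Ptab_s_151_153 c) (Ptab_s_153_155 c) (Nat.ble 153 c)
noncomputable def Ptab_s_148_155 (c : Nat) : Nat := @Bool.rec (fun _ => Nat) (Ptab_s_148_151 c) (Ptab_s_151_155 c) (Nat.ble 151 c)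
noncomputable def Ptab_s_141_155 (c : Nat) : Nat := @Bool.rec (fun _ => Nat) (Ptab_s_141_148 c) (Ptab_s_148_155 c) (Nat.ble 148 c)
noncomputable def Ptab_s_156_158 (c : Nat) : Nat := @Bool.rec (fun _ => Nat) (Ptab_156) (Ptab_157) (Nat.ble 157 c)
noncomputable def Ptab_s_155_158 (c : Nat) : Nat := @Bool.rec (fun _ => Nat) (Ptab_155) (Ptab_s_156_158 c) (Nat.ble 156 c)
noncomputable def Ptab_s_158_160 (c : Nat) : Nat := @Bool.rec (fun _ => Nat) (Ptab_158) (Ptab_159) (Nat.ble 159 c)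
noncomputable def Ptab_s_160_162 (c : Nat) : Nat := @Bool.rec (fun _ => Nat) (Ptab_160) (Ptab_161) (Nat.ble 161 c)
noncomputable def Ptab_s_158_162 (c : Nat) : Nat := @Bool.rec (fun _ => Nat) (Ptab_s_158_160 c) (Ptab_s_160_162 c) (Nat.ble 160 c)
noncomputable def Ptab_s_155_162 (c : Nat) : Nat := @Bool.rec (fun _ => Nat) (Ptab_s_155_158 c) (Ptab_s_158_162 c) (Nat.ble 158 c)
noncomputable def Ptab_s_162_164 (c : Nat) : Nat := @Bool.rec (fun _ => Nat) (Ptab_162) (Ptab_163) (Nat.ble 163 c)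
noncomputable def Ptab_s_164_166 (c : Nat) : Nat := @Bool.rec (fun _ => Nat) (Ptab_164) (Ptab_165) (Nat.ble 165 c)
noncomputable def Ptab_s_162_166 (c : Nat) : Nat := @Bool.rec (fun _ => Nat) (Ptab_s_162_164 c) (Ptab_s_164_166 c) (Nat.ble 164 c)
noncomputable def Ptab_s_166_168 (c : Nat) : Nat := @Bool.rec (fun _ => Nat) (Ptab_166) (Ptab_167) (Nat.ble 167 c)
noncomputable def Ptab_s_168_170 (c : Nat) : Nat := @Bool.rec (fun _ => Nat) (Ptab_168) (Ptab_169) (Nat.ble 169 c)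
noncomputable def Ptab_s_166_170 (c : Nat) : Nat := @Bool.rec (fun _ => Nat) (Ptab_s_166_168 c) (Ptab_s_168_170 c) (Nat.ble 168 c)
noncomputable def Ptab_s_162_170 (c : Nat) : Nat := @Bool.rec (fun _ => Nat) (Ptab_s_162_166 c) (Ptab_s_166_170 c) (Nat.ble 166 c)
noncomputable def Ptab_s_155_170 (c : Nat) : Nat := @Bool.rec (fun _ => Nat) (Ptab_s_155_162 c) (Ptab_s_162_170 c) (Nat.ble 162 c)
noncomputable def Ptab_s_141_170 (c : Nat) : Nat := @Bool.rec (fun _ => Nat) (Ptab_s_141_155 c) (Ptab_s_155_170 c) (Nat.ble 155 c)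
noncomputable def Ptab_s_113_170 (c : Nat) : Nat := @Bool.rec (fun _ => Nat) (Ptab_s_113_141 c) (Ptab_s_141_170 c) (Nat.ble 141 c)
noncomputable def Ptab_s_171_173 (c : Nat) : Nat := @Bool.rec (fun _ => Nat) (Ptab_171) (Ptab_172) (Nat.ble 172 c)
noncomputable def Ptab_s_170_173 (c : Nat) : Nat := @Bool.rec (fun _ => Nat) (Ptab_170) (Ptab_s_171_173 c) (Nat.ble 171 c)
noncomputable def Ptab_s_173_175 (c : Nat) : Nat := @Bool.rec (fun _ => Nat) (Ptab_173) (Ptab_174) (Nat.ble 174 c)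
noncomputable def Ptab_s_175_177 (c : Nat) : Nat := @Bool.rec (fun _ => Nat) (Ptab_175) (Ptab_176) (Nat.ble 176 c)
noncomputable def Ptab_s_173_177 (c : Nat) : Nat := @Bool.rec (fun _ => Nat) (Ptab_s_173_175 c) (Ptab_s_175_177 c) (Nat.ble 175 c)
noncomputable def Ptab_s_170_177 (c : Nat) : Nat := @Bool.rec (fun _ => Nat) (Ptab_s_170_173 c) (Ptab_s_173_177 c) (Nat.ble 173 c)
noncomputable def Ptab_s_178_180 (c : Nat) : Nat := @Bool.rec (fun _ => Nat) (Ptab_178) (Ptab_179) (Nat.ble 179 c)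
noncomputable def Ptab_s_177_180 (c : Nat) : Nat := @Bool.rec (fun _ => Nat) (Ptab_177) (Ptab_s_178_180 c) (Nat.ble 178 c)
noncomputable def Ptab_s_180_182 (c : Nat) : Nat := @Bool.rec (fun _ => Nat) (Ptab_180) (Ptab_181) (Nat.ble 181 c)
noncomputable def Ptab_s_182_184 (c : Nat) : Nat := @Bool.rec (fun _ => Nat) (Ptab_182) (Ptab_183) (Nat.ble 183 c)
noncomputable def Ptab_s_180_184 (c : Nat) : Nat := @Bool.rec (fun _ => Nat) (Ptab_s_180_182 c) (Ptab_s_182_184 c) (Nat.ble 182 c)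
noncomputable def Ptab_s_177_184 (c : Nat) : Nat := @Bool.rec (fun _ => Nat) (Ptab_s_177_180 c) (Ptab_s_180_184 c) (Nat.ble 180 c)
noncomputable def Ptab_s_170_184 (c : Nat) : Nat := @Bool.rec (fun _ => Nat) (Ptab_s_170_177 c) (Ptab_s_177_184 c) (Nat.ble 177 c)
noncomputable def Ptab_s_185_187 (c : Nat) : Nat := @Bool.rec (fun _ => Nat) (Ptab_185) (Ptab_186) (Nat.ble 186 c)
noncomputable def Ptab_s_184_187 (c : Nat) : Nat := @Bool.rec (fun _ => Nat) (Ptab_184) (Ptab_s_185_187 c) (Nat.ble 185 c)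
noncomputable def Ptab_s_187_189 (c : Nat) : Nat := @Bool.rec (fun _ => Nat) (Ptab_187) (Ptab_188) (Nat.ble 188 c)
noncomputable def Ptab_s_189_191 (c : Nat) : Nat := @Bool.rec (fun _ => Nat) (Ptab_189) (Ptab_190) (Nat.ble 190 c)
noncomputable def Ptab_s_187_191 (c : Nat) : Nat := @Bool.rec (fun _ => Nat) (Ptab_s_187_189 c) (Ptab_s_189_191 c) (Nat.ble 189 c)
noncomputable def Ptab_s_184_191 (c : Nat) : Nat := @Bool.rec (fun _ => Nat) (Ptab_s_184_187 c) (Ptab_s_187_191 c) (Nat.ble 187 c)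
noncomputable def Ptab_s_192_194 (c : Nat) : Nat := @Bool.rec (fun _ => Nat) (Ptab_192) (Ptab_193) (Nat.ble 193 c)
noncomputable def Ptab_s_191_194 (c : Nat) : Nat := @Bool.rec (fun _ => Nat) (Ptab_191) (Ptab_s_192_194 c) (Nat.ble 192 c)
noncomputable def Ptab_s_194_196 (c : Nat) : Nat := @Bool.rec (fun _ => Nat) (Ptab_194) (Ptab_195) (Nat.ble 195 c)
noncomputable def Ptab_s_196_198 (c : Nat) : Nat := @Bool.rec (fun _ => Nat) (Ptab_196) (Ptab_197) (Nat.ble 197 c)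
noncomputable def Ptab_s_194_198 (c : Nat) : Nat := @Bool.rec (fun _ => Nat) (Ptab_s_194_196 c) (Ptab_s_196_198 c) (Nat.ble 196 c)
noncomputable def Ptab_s_191_198 (c : Nat) : Nat := @Bool.rec (fun _ => Nat) (Ptab_s_191_194 c) (Ptab_s_194_198 c) (Nat.ble 194 c)
noncomputable def Ptab_s_184_198 (c : Nat) : Nat := @Bool.rec (fun _ => Nat) (Ptab_s_184_191 c) (Ptab_s_191_198 c) (Nat.ble 191 c)
noncomputable def Ptab_s_170_198 (c : Nat) : Nat := @Bool.rec (fun _ => Nat) (Ptab_s_170_184 c) (Ptab_s_184_198 c) (Nat.ble 184 c)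
noncomputable def Ptab_s_199_201 (c : Nat) : Nat := @Bool.rec (fun _ => Nat) (Ptab_199) (Ptab_200) (Nat.ble 200 c)
noncomputable def Ptab_s_198_201 (c : Nat) : Nat := @Bool.rec (fun _ => Nat) (Ptab_198) (Ptab_s_199_201 c) (Nat.ble 199 c)
noncomputable def Ptab_s_201_203 (c : Nat) : Nat := @Bool.rec (fun _ => Nat) (Ptab_201) (Ptab_202) (Nat.ble 202 c)
noncomputable def Ptab_s_203_205 (c : Nat) : Nat := @Bool.rec (fun _ => Nat) (Ptab_203) (Ptab_204) (Nat.ble 204 c)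
noncomputable def Ptab_s_201_205 (c : Nat) : Nat := @Bool.rec (fun _ => Nat) (Ptab_s_201_203 c) (Ptab_s_203_205 c) (Nat.ble 203 c)
noncomputable def Ptab_s_198_205 (c : Nat) : Nat := @Bool.rec (fun _ => Nat) (Ptab_s_198_201 c) (Ptab_s_201_205 c) (Nat.ble 201 c)
noncomputable def Ptab_s_206_208 (c : Nat) : Nat := @Bool.rec (fun _ => Nat) (Ptab_206) (Ptab_207) (Nat.ble 207 c)
noncomputable def Ptab_s_205_208 (c : Nat) : Nat := @Bool.rec (fun _ => Nat) (Ptab_205) (Ptab_s_206_208 c) (Nat.ble 206 c)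
noncomputable def Ptab_s_208_210 (c : Nat) : Nat := @Bool.rec (fun _ => Nat) (Ptab_208) (Ptab_209) (Nat.ble 209 c)
noncomputable def Ptab_s_210_212 (c : Nat) : Nat := @Bool.rec (fun _ => Nat) (Ptab_210) (Ptab_211) (Nat.ble 211 c)
noncomputable def Ptab_s_208_212 (c : Nat) : Nat := @Bool.rec (fun _ => Nat) (Ptab_s_208_210 c) (Ptab_s_210_212 c) (Nat.ble 210 c)
noncomputable def Ptab_s_205_212 (c : Nat) : Nat := @Bool.rec (fun _ => Nat) (Ptab_s_205_208 c) (Ptab_s_208_212 c) (Nat.ble 208 c)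
noncomputable def Ptab_s_198_212 (c : Nat) : Nat := @Bool.rec (fun _ => Nat) (Ptab_s_198_205 c) (Ptab_s_205_212 c) (Nat.ble 205 c)
noncomputable def Ptab_s_213_215 (c : Nat) : Nat := @Bool.rec (fun _ => Nat) (Ptab_213) (Ptab_214) (Nat.ble 214 c)
noncomputable def Ptab_s_212_215 (c : Nat) : Nat := @Bool.rec (fun _ => Nat) (Ptab_212) (Ptab_s_213_215 c) (Nat.ble 213 c)
noncomputable def Ptab_s_215_217 (c : Nat) : Nat := @Bool.rec (fun _ => Nat) (Ptab_215) (Ptab_216) (Nat.ble 216 c)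
noncomputable def Ptab_s_217_219 (c : Nat) : Nat := @Bool.rec (fun _ => Nat) (Ptab_217) (Ptab_218) (Nat.ble 218 c)
noncomputable def Ptab_s_215_219 (c : Nat) : Nat := @Bool.rec (fun _ => Nat) (Ptab_s_215_217 c) (Ptab_s_217_219 c) (Nat.ble 217 c)
noncomputable def Ptab_s_212_219 (c : Nat) : Nat := @Bool.rec (fun _ => Nat) (Ptab_s_212_215 c) (Ptab_s_215_219 c) (Nat.ble 215 c)
noncomputable def Ptab_s_219_221 (c : Nat) : Nat := @Bool.rec (fun _ => Nat) (Ptab_219) (Ptab_220) (Nat.ble 220 c)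
noncomputable def Ptab_s_221_223 (c : Nat) : Nat := @Bool.rec (fun _ => Nat) (Ptab_221) (Ptab_222) (Nat.ble 222 c)
noncomputable def Ptab_s_219_223 (c : Nat) : Nat := @Bool.rec (fun _ => Nat) (Ptab_s_219_221 c) (Ptab_s_221_223 c) (Nat.ble 221 c)
noncomputable def Ptab_s_223_225 (c : Nat) : Nat := @Bool.rec (fun _ => Nat) (Ptab_223) (Ptab_224) (Nat.ble 224 c)
noncomputable def Ptab_s_225_227 (c : Nat) : Nat := @Bool.rec (fun _ => Nat) (Ptab_225) (Ptab_226) (Nat.ble 226 c)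
noncomputable def Ptab_s_223_227 (c : Nat) : Nat := @Bool.rec (fun _ => Nat) (Ptab_s_223_225 c) (Ptab_s_225_227 c) (Nat.ble 225 c)
noncomputable def Ptab_s_219_227 (c : Nat) : Nat := @Bool.rec (fun _ => Nat) (Ptab_s_219_223 c) (Ptab_s_223_227 c) (Nat.ble 223 c)
noncomputable def Ptab_s_212_227 (c : Nat) : Nat := @Bool.rec (fun _ => Nat) (Ptab_s_212_219 c) (Ptab_s_219_227 c) (Nat.ble 219 c)
noncomputable def Ptab_s_198_227 (c : Nat) : Nat := @Bool.rec (fun _ => Nat) (Ptab_s_198_212 c) (Ptab_s_212_227 c) (Nat.ble 212 c)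
noncomputable def Ptab_s_170_227 (c : Nat) : Nat := @Bool.rec (fun _ => Nat) (Ptab_s_170_198 c) (Ptab_s_198_227 c) (Nat.ble 198 c)
noncomputable def Ptab_s_113_227 (c : Nat) : Nat := @Bool.rec (fun _ => Nat) (Ptab_s_113_170 c) (Ptab_s_170_227 c) (Nat.ble 170 c)
noncomputable def Ptab_s_0_227 (c : Nat) : Nat := @Bool.rec (fun _ => Nat) (Ptab_s_0_113 c) (Ptab_s_113_227 c) (Nat.ble 113 c)
noncomputable def Ptab_s_228_230 (c : Nat) : Nat := @Bool.rec (fun _ => Nat) (Ptab_228) (Ptab_229) (Nat.ble 229 c)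
noncomputable def Ptab_s_227_230 (c : Nat) : Nat := @Bool.rec (fun _ => Nat) (Ptab_227) (Ptab_s_228_230 c) (Nat.ble 228 c)
noncomputable def Ptab_s_230_232 (c : Nat) : Nat := @Bool.rec (fun _ => Nat) (Ptab_230) (Ptab_231) (Nat.ble 231 c)
noncomputable def Ptab_s_232_234 (c : Nat) : Nat := @Bool.rec (fun _ => Nat) (Ptab_232) (Ptab_233) (Nat.ble 233 c)
noncomputable def Ptab_s_230_234 (c : Nat) : Nat := @Bool.rec (fun _ => Nat) (Ptab_s_230_232 c) (Ptab_s_232_234 c) (Nat.ble 232 c)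
noncomputable def Ptab_s_227_234 (c : Nat) : Nat := @Bool.rec (fun _ => Nat) (Ptab_s_227_230 c) (Ptab_s_230_234 c) (Nat.ble 230 c)
noncomputable def Ptab_s_235_237 (c : Nat) : Nat := @Bool.rec (fun _ => Nat) (Ptab_235) (Ptab_236) (Nat.ble 236 c)
noncomputable def Ptab_s_234_237 (c : Nat) : Nat := @Bool.rec (fun _ => Nat) (Ptab_234) (Ptab_s_235_237 c) (Nat.ble 235 c)
noncomputable def Ptab_s_237_239 (c : Nat) : Nat := @Bool.rec (fun _ => Nat) (Ptab_237) (Ptab_238) (Nat.ble 238 c)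
noncomputable def Ptab_s_239_241 (c : Nat) : Nat := @Bool.rec (fun _ => Nat) (Ptab_239) (Ptab_240) (Nat.ble 240 c)
noncomputable def Ptab_s_237_241 (c : Nat) : Nat := @Bool.rec (fun _ => Nat) (Ptab_s_237_239 c) (Ptab_s_239_241 c) (Nat.ble 239 c)
noncomputable def Ptab_s_234_241 (c : Nat) : Nat := @Bool.rec (fun _ => Nat) (Ptab_s_234_237 c) (Ptab_s_237_241 c) (Nat.ble 237 c)
noncomputable def Ptab_s_227_241 (c : Nat) : Nat := @Bool.rec (fun _ => Nat) (Ptab_s_227_234 c) (Ptab_s_234_241 c) (Nat.ble 234 c)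
noncomputable def Ptab_s_242_244 (c : Nat) : Nat := @Bool.rec (fun _ => Nat) (Ptab_242) (Ptab_243) (Nat.ble 243 c)
noncomputable def Ptab_s_241_244 (c : Nat) : Nat := @Bool.rec (fun _ => Nat) (Ptab_241) (Ptab_s_242_244 c) (Nat.ble 242 c)
noncomputable def Ptab_s_244_246 (c : Nat) : Nat := @Bool.rec (fun _ => Nat) (Ptab_244) (Ptab_245) (Nat.ble 245 c)
noncomputable def Ptab_s_246_248 (c : Nat) : Nat := @Bool.rec (fun _ => Nat) (Ptab_246) (Ptab_247) (Nat.ble 247 c)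
noncomputable def Ptab_s_244_248 (c : Nat) : Nat := @Bool.rec (fun _ => Nat) (Ptab_s_244_246 c) (Ptab_s_246_248 c) (Nat.ble 246 c)
noncomputable def Ptab_s_241_248 (c : Nat) : Nat := @Bool.rec (fun _ => Nat) (Ptab_s_241_244 c) (Ptab_s_244_248 c) (Nat.ble 244 c)
noncomputable def Ptab_s_249_251 (c : Nat) : Nat := @Bool.rec (fun _ => Nat) (Ptab_249) (Ptab_250) (Nat.ble 250 c)
noncomputable def Ptab_s_248_251 (c : Nat) : Nat := @Bool.rec (fun _ => Nat) (Ptab_248) (Ptab_s_249_251 c) (Nat.ble 249 c)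
noncomputable def Ptab_s_251_253 (c : Nat) : Nat := @Bool.rec (fun _ => Nat) (Ptab_251) (Ptab_252) (Nat.ble 252 c)
noncomputable def Ptab_s_253_255 (c : Nat) : Nat := @Bool.rec (fun _ => Nat) (Ptab_253) (Ptab_254) (Nat.ble 254 c)
noncomputable def Ptab_s_251_255 (c : Nat) : Nat := @Bool.rec (fun _ => Nat) (Ptab_s_251_253 c) (Ptab_s_253_255 c) (Nat.ble 253 c)
noncomputable def Ptab_s_248_255 (c : Nat) : Nat := @Bool.rec (fun _ => Nat) (Ptab_s_248_251 c) (Ptab_s_251_255 c) (Nat.ble 251 c)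
noncomputable def Ptab_s_241_255 (c : Nat) : Nat := @Bool.rec (fun _ => Nat) (Ptab_s_241_248 c) (Ptab_s_248_255 c) (Nat.ble 248 c)
noncomputable def Ptab_s_227_255 (c : Nat) : Nat := @Bool.rec (fun _ => Nat) (Ptab_s_227_241 c) (Ptab_s_241_255 c) (Nat.ble 241 c)
noncomputable def Ptab_s_256_258 (c : Nat) : Nat := @Bool.rec (fun _ => Nat) (Ptab_256) (Ptab_257) (Nat.ble 257 c)
noncomputable def Ptab_s_255_258 (c : Nat) : Nat := @Bool.rec (fun _ => Nat) (Ptab_255) (Ptab_s_256_258 c) (Nat.ble 256 c)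
noncomputable def Ptab_s_258_260 (c : Nat) : Nat := @Bool.rec (fun _ => Nat) (Ptab_258) (Ptab_259) (Nat.ble 259 c)
noncomputable def Ptab_s_260_262 (c : Nat) : Nat := @Bool.rec (fun _ => Nat) (Ptab_260) (Ptab_261) (Nat.ble 261 c)
noncomputable def Ptab_s_258_262 (c : Nat) : Nat := @Bool.rec (fun _ => Nat) (Ptab_s_258_260 c) (Ptab_s_260_262 c) (Nat.ble 260 c)
noncomputable def Ptab_s_255_262 (c : Nat) : Nat := @Bool.rec (fun _ => Nat) (Ptab_s_255_258 c) (Ptab_s_258_262 c) (Nat.ble 258 c)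
noncomputable def Ptab_s_263_265 (c : Nat) : Nat := @Bool.rec (fun _ => Nat) (Ptab_263) (Ptab_264) (Nat.ble 264 c)
noncomputable def Ptab_s_262_265 (c : Nat) : Nat := @Bool.rec (fun _ => Nat) (Ptab_262) (Ptab_s_263_265 c) (Nat.ble 263 c)
noncomputable def Ptab_s_265_267 (c : Nat) : Nat := @Bool.rec (fun _ => Nat) (Ptab_265) (Ptab_266) (Nat.ble 266 c)
noncomputable def Ptab_s_267_269 (c : Nat) : Nat := @Bool.rec (fun _ => Nat) (Ptab_267) (Ptab_268) (Nat.ble 268 c)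
noncomputable def Ptab_s_265_269 (c : Nat) : Nat := @Bool.rec (fun _ => Nat) (Ptab_s_265_267 c) (Ptab_s_267_269 c) (Nat.ble 267 c)
noncomputable def Ptab_s_262_269 (c : Nat) : Nat := @Bool.rec (fun _ => Nat) (Ptab_s_262_265 c) (Ptab_s_265_269 c) (Nat.ble 265 c)
noncomputable def Ptab_s_255_269 (c : Nat) : Nat := @Bool.rec (fun _ => Nat) (Ptab_s_255_262 c) (Ptab_s_262_269 c) (Nat.ble 262 c)
noncomputable def Ptab_s_270_272 (c : Nat) : Nat := @Bool.rec (fun _ => Nat) (Ptab_270) (Ptab_271) (Nat.ble 271 c)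
noncomputable def Ptab_s_269_272 (c : Nat) : Nat := @Bool.rec (fun _ => Nat) (Ptab_269) (Ptab_s_270_272 c) (Nat.ble 270 c)
noncomputable def Ptab_s_272_274 (c : Nat) : Nat := @Bool.rec (fun _ => Nat) (Ptab_272) (Ptab_273) (Nat.ble 273 c)
noncomputable def Ptab_s_274_276 (c : Nat) : Nat := @Bool.rec (fun _ => Nat) (Ptab_274) (Ptab_275) (Nat.ble 275 c)
noncomputable def Ptab_s_272_276 (c : Nat) : Nat := @Bool.rec (fun _ => Nat) (Ptab_s_272_274 c) (Ptab_s_274_276 c) (Nat.ble 274 c)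
noncomputable def Ptab_s_269_276 (c : Nat) : Nat := @Bool.rec (fun _ => Nat) (Ptab_s_269_272 c) (Ptab_s_272_276 c) (Nat.ble 272 c)
noncomputable def Ptab_s_277_279 (c : Nat) : Nat := @Bool.rec (fun _ => Nat) (Ptab_277) (Ptab_278) (Nat.ble 278 c)
noncomputable def Ptab_s_276_279 (c : Nat) : Nat := @Bool.rec (fun _ => Nat) (Ptab_276) (Ptab_s_277_279 c) (Nat.ble 277 c)
noncomputable def Ptab_s_279_281 (c : Nat) : Nat := @Bool.rec (fun _ => Nat) (Ptab_279) (Ptab_280) (Nat.ble 280 c)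
noncomputable def Ptab_s_281_283 (c : Nat) : Nat := @Bool.rec (fun _ => Nat) (Ptab_281) (Ptab_282) (Nat.ble 282 c)
noncomputable def Ptab_s_279_283 (c : Nat) : Nat := @Bool.rec (fun _ => Nat) (Ptab_s_279_281 c) (Ptab_s_281_283 c) (Nat.ble 281 c)
noncomputable def Ptab_s_276_283 (c : Nat) : Nat := @Bool.rec (fun _ => Nat) (Ptab_s_276_279 c) (Ptab_s_279_283 c) (Nat.ble 279 c)
noncomputable def Ptab_s_269_283 (c : Nat) : Nat := @Bool.rec (fun _ => Nat) (Ptab_s_269_276 c) (Ptab_s_276_283 c) (Nat.ble 276 c)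
noncomputable def Ptab_s_255_283 (c : Nat) : Nat := @Bool.rec (fun _ => Nat) (Ptab_s_255_269 c) (Ptab_s_269_283 c) (Nat.ble 269 c)
noncomputable def Ptab_s_227_283 (c : Nat) : Nat := @Bool.rec (fun _ => Nat) (Ptab_s_227_255 c) (Ptab_s_255_283 c) (Nat.ble 255 c)
noncomputable def Ptab_s_284_286 (c : Nat) : Nat := @Bool.rec (fun _ => Nat) (Ptab_284) (Ptab_285) (Nat.ble 285 c)
noncomputable def Ptab_s_283_286 (c : Nat) : Nat := @Bool.rec (fun _ => Nat) (Ptab_283) (Ptab_s_284_286 c) (Nat.ble 284 c)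
noncomputable def Ptab_s_286_288 (c : Nat) : Nat := @Bool.rec (fun _ => Nat) (Ptab_286) (Ptab_287) (Nat.ble 287 c)
noncomputable def Ptab_s_288_290 (c : Nat) : Nat := @Bool.rec (fun _ => Nat) (Ptab_288) (Ptab_289) (Nat.ble 289 c)
noncomputable def Ptab_s_286_290 (c : Nat) : Nat := @Bool.rec (fun _ => Nat) (Ptab_s_286_288 c) (Ptab_s_288_290 c) (Nat.ble 288 c)
noncomputable def Ptab_s_283_290 (c : Nat) : Nat := @Bool.rec (fun _ => Nat) (Ptab_s_283_286 c) (Ptab_s_286_290 c) (Nat.ble 286 c)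
noncomputable def Ptab_s_291_293 (c : Nat) : Nat := @Bool.rec (fun _ => Nat) (Ptab_291) (Ptab_292) (Nat.ble 292 c)
noncomputable def Ptab_s_290_293 (c : Nat) : Nat := @Bool.rec (fun _ => Nat) (Ptab_290) (Ptab_s_291_293 c) (Nat.ble 291 c)
noncomputable def Ptab_s_293_295 (c : Nat) : Nat := @Bool.rec (fun _ => Nat) (Ptab_293) (Ptab_294) (Nat.ble 294 c)
noncomputable def Ptab_s_295_297 (c : Nat) : Nat := @Bool.rec (fun _ => Nat) (Ptab_295) (Ptab_296) (Nat.ble 296 c)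
noncomputable def Ptab_s_293_297 (c : Nat) : Nat := @Bool.rec (fun _ => Nat) (Ptab_s_293_295 c) (Ptab_s_295_297 c) (Nat.ble 295 c)
noncomputable def Ptab_s_290_297 (c : Nat) : Nat := @Bool.rec (fun _ => Nat) (Ptab_s_290_293 c) (Ptab_s_293_297 c) (Nat.ble 293 c)
noncomputable def Ptab_s_283_297 (c : Nat) : Nat := @Bool.rec (fun _ => Nat) (Ptab_s_283_290 c) (Ptab_s_290_297 c) (Nat.ble 290 c)
noncomputable def Ptab_s_298_300 (c : Nat) : Nat := @Bool.rec (fun _ => Nat) (Ptab_298) (Ptab_299) (Nat.ble 299 c)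
noncomputable def Ptab_s_297_300 (c : Nat) : Nat := @Bool.rec (fun _ => Nat) (Ptab_297) (Ptab_s_298_300 c) (Nat.ble 298 c)
noncomputable def Ptab_s_300_302 (c : Nat) : Nat := @Bool.rec (fun _ => Nat) (Ptab_300) (Ptab_301) (Nat.ble 301 c)
noncomputable def Ptab_s_302_304 (c : Nat) : Nat := @Bool.rec (fun _ => Nat) (Ptab_302) (Ptab_303) (Nat.ble 303 c)
noncomputable def Ptab_s_300_304 (c : Nat) : Nat := @Bool.rec (fun _ => Nat) (Ptab_s_300_302 c) (Ptab_s_302_304 c) (Nat.ble 302 c)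
noncomputable def Ptab_s_297_304 (c : Nat) : Nat := @Bool.rec (fun _ => Nat) (Ptab_s_297_300 c) (Ptab_s_300_304 c) (Nat.ble 300 c)
noncomputable def Ptab_s_305_307 (c : Nat) : Nat := @Bool.rec (fun _ => Nat) (Ptab_305) (Ptab_306) (Nat.ble 306 c)
noncomputable def Ptab_s_304_307 (c : Nat) : Nat := @Bool.rec (fun _ => Nat) (Ptab_304) (Ptab_s_305_307 c) (Nat.ble 305 c)
noncomputable def Ptab_s_307_309 (c : Nat) : Nat := @Bool.rec (fun _ => Nat) (Ptab_307) (Ptab_308) (Nat.ble 308 c)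
noncomputable def Ptab_s_309_311 (c : Nat) : Nat := @Bool.rec (fun _ => Nat) (Ptab_309) (Ptab_310) (Nat.ble 310 c)
noncomputable def Ptab_s_307_311 (c : Nat) : Nat := @Bool.rec (fun _ => Nat) (Ptab_s_307_309 c) (Ptab_s_309_311 c) (Nat.ble 309 c)
noncomputable def Ptab_s_304_311 (c : Nat) : Nat := @Bool.rec (fun _ => Nat) (Ptab_s_304_307 c) (Ptab_s_307_311 c) (Nat.ble 307 c)
noncomputable def Ptab_s_297_311 (c : Nat) : Nat := @Bool.rec (fun _ => Nat) (Ptab_s_297_304 c) (Ptab_s_304_311 c) (Nat.ble 304 c)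
noncomputable def Ptab_s_283_311 (c : Nat) : Nat := @Bool.rec (fun _ => Nat) (Ptab_s_283_297 c) (Ptab_s_297_311 c) (Nat.ble 297 c)
noncomputable def Ptab_s_312_314 (c : Nat) : Nat := @Bool.rec (fun _ => Nat) (Ptab_312) (Ptab_313) (Nat.ble 313 c)
noncomputable def Ptab_s_311_314 (c : Nat) : Nat := @Bool.rec (fun _ => Nat) (Ptab_311) (Ptab_s_312_314 c) (Nat.ble 312 c)
noncomputable def Ptab_s_314_316 (c : Nat) : Nat := @Bool.rec (fun _ => Nat) (Ptab_314) (Ptab_315) (Nat.ble 315 c)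
noncomputable def Ptab_s_316_318 (c : Nat) : Nat := @Bool.rec (fun _ => Nat) (Ptab_316) (Ptab_317) (Nat.ble 317 c)
noncomputable def Ptab_s_314_318 (c : Nat) : Nat := @Bool.rec (fun _ => Nat) (Ptab_s_314_316 c) (Ptab_s_316_318 c) (Nat.ble 316 c)
noncomputable def Ptab_s_311_318 (c : Nat) : Nat := @Bool.rec (fun _ => Nat) (Ptab_s_311_314 c) (Ptab_s_314_318 c) (Nat.ble 314 c)
noncomputable def Ptab_s_319_321 (c : Nat) : Nat := @Bool.rec (fun _ => Nat) (Ptab_319) (Ptab_320) (Nat.ble 320 c)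
noncomputable def Ptab_s_318_321 (c : Nat) : Nat := @Bool.rec (fun _ => Nat) (Ptab_318) (Ptab_s_319_321 c) (Nat.ble 319 c)
noncomputable def Ptab_s_321_323 (c : Nat) : Nat := @Bool.rec (fun _ => Nat) (Ptab_321) (Ptab_322) (Nat.ble 322 c)
noncomputable def Ptab_s_323_325 (c : Nat) : Nat := @Bool.rec (fun _ => Nat) (Ptab_323) (Ptab_324) (Nat.ble 324 c)
noncomputable def Ptab_s_321_325 (c : Nat) : Nat := @Bool.rec (fun _ => Nat) (Ptab_s_321_323 c) (Ptab_s_323_325 c) (Nat.ble 323 c)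
noncomputable def Ptab_s_318_325 (c : Nat) : Nat := @Bool.rec (fun _ => Nat) (Ptab_s_318_321 c) (Ptab_s_321_325 c) (Nat.ble 321 c)
noncomputable def Ptab_s_311_325 (c : Nat) : Nat := @Bool.rec (fun _ => Nat) (Ptab_s_311_318 c) (Ptab_s_318_325 c) (Nat.ble 318 c)
noncomputable def Ptab_s_326_328 (c : Nat) : Nat := @Bool.rec (fun _ => Nat) (Ptab_326) (Ptab_327) (Nat.ble 327 c)
noncomputable def Ptab_s_325_328 (c : Nat) : Nat := @Bool.rec (fun _ => Nat) (Ptab_325) (Ptab_s_326_328 c) (Nat.ble 326 c)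
noncomputable def Ptab_s_328_330 (c : Nat) : Nat := @Bool.rec (fun _ => Nat) (Ptab_328) (Ptab_329) (Nat.ble 329 c)
noncomputable def Ptab_s_330_332 (c : Nat) : Nat := @Bool.rec (fun _ => Nat) (Ptab_330) (Ptab_331) (Nat.ble 331 c)
noncomputable def Ptab_s_328_332 (c : Nat) : Nat := @Bool.rec (fun _ => Nat) (Ptab_s_328_330 c) (Ptab_s_330_332 c) (Nat.ble 330 c)
noncomputable def Ptab_s_325_332 (c : Nat) : Nat := @Bool.rec (fun _ => Nat) (Ptab_s_325_328 c) (Ptab_s_328_332 c) (Nat.ble 328 c)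
noncomputable def Ptab_s_332_334 (c : Nat) : Nat := @Bool.rec (fun _ => Nat) (Ptab_332) (Ptab_333) (Nat.ble 333 c)
noncomputable def Ptab_s_334_336 (c : Nat) : Nat := @Bool.rec (fun _ => Nat) (Ptab_334) (Ptab_335) (Nat.ble 335 c)
noncomputable def Ptab_s_332_336 (c : Nat) : Nat := @Bool.rec (fun _ => Nat) (Ptab_s_332_334 c) (Ptab_s_334_336 c) (Nat.ble 334 c)
noncomputable def Ptab_s_336_338 (c : Nat) : Nat := @Bool.rec (fun _ => Nat) (Ptab_336) (Ptab_337) (Nat.ble 337 c)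
noncomputable def Ptab_s_338_340 (c : Nat) : Nat := @Bool.rec (fun _ => Nat) (Ptab_338) (Ptab_339) (Nat.ble 339 c)
noncomputable def Ptab_s_336_340 (c : Nat) : Nat := @Bool.rec (fun _ => Nat) (Ptab_s_336_338 c) (Ptab_s_338_340 c) (Nat.ble 338 c)
noncomputable def Ptab_s_332_340 (c : Nat) : Nat := @Bool.rec (fun _ => Nat) (Ptab_s_332_336 c) (Ptab_s_336_340 c) (Nat.ble 336 c)
noncomputable def Ptab_s_325_340 (c : Nat) : Nat := @Bool.rec (fun _ => Nat) (Ptab_s_325_332 c) (Ptab_s_332_340 c) (Nat.ble 332 c)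
noncomputable def Ptab_s_311_340 (c : Nat) : Nat := @Bool.rec (fun _ => Nat) (Ptab_s_311_325 c) (Ptab_s_325_340 c) (Nat.ble 325 c)
noncomputable def Ptab_s_283_340 (c : Nat) : Nat := @Bool.rec (fun _ => Nat) (Ptab_s_283_311 c) (Ptab_s_311_340 c) (Nat.ble 311 c)
noncomputable def Ptab_s_227_340 (c : Nat) : Nat := @Bool.rec (fun _ => Nat) (Ptab_s_227_283 c) (Ptab_s_283_340 c) (Nat.ble 283 c)
noncomputable def Ptab_s_341_343 (c : Nat) : Nat := @Bool.rec (fun _ => Nat) (Ptab_341) (Ptab_342) (Nat.ble 342 c)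
noncomputable def Ptab_s_340_343 (c : Nat) : Nat := @Bool.rec (fun _ => Nat) (Ptab_340) (Ptab_s_341_343 c) (Nat.ble 341 c)
noncomputable def Ptab_s_343_345 (c : Nat) : Nat := @Bool.rec (fun _ => Nat) (Ptab_343) (Ptab_344) (Nat.ble 344 c)
noncomputable def Ptab_s_345_347 (c : Nat) : Nat := @Bool.rec (fun _ => Nat) (Ptab_345) (Ptab_346) (Nat.ble 346 c)
noncomputable def Ptab_s_343_347 (c : Nat) : Nat := @Bool.rec (fun _ => Nat) (Ptab_s_343_345 c) (Ptab_s_345_347 c) (Nat.ble 345 c)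
noncomputable def Ptab_s_340_347 (c : Nat) : Nat := @Bool.rec (fun _ => Nat) (Ptab_s_340_343 c) (Ptab_s_343_347 c) (Nat.ble 343 c)
noncomputable def Ptab_s_348_350 (c : Nat) : Nat := @Bool.rec (fun _ => Nat) (Ptab_348) (Ptab_349) (Nat.ble 349 c)
noncomputable def Ptab_s_347_350 (c : Nat) : Nat := @Bool.rec (fun _ => Nat) (Ptab_347) (Ptab_s_348_350 c) (Nat.ble 348 c)
noncomputable def Ptab_s_350_352 (c : Nat) : Nat := @Bool.rec (fun _ => Nat) (Ptab_350) (Ptab_351) (Nat.ble 351 c)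
noncomputable def Ptab_s_352_354 (c : Nat) : Nat := @Bool.rec (fun _ => Nat) (Ptab_352) (Ptab_353) (Nat.ble 353 c)
noncomputable def Ptab_s_350_354 (c : Nat) : Nat := @Bool.rec (fun _ => Nat) (Ptab_s_350_352 c) (Ptab_s_352_354 c) (Nat.ble 352 c)
noncomputable def Ptab_s_347_354 (c : Nat) : Nat := @Bool.rec (fun _ => Nat) (Ptab_s_347_350 c) (Ptab_s_350_354 c) (Nat.ble 350 c)
noncomputable def Ptab_s_340_354 (c : Nat) : Nat := @Bool.rec (fun _ => Nat) (Ptab_s_340_347 c) (Ptab_s_347_354 c) (Nat.ble 347 c)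
noncomputable def Ptab_s_355_357 (c : Nat) : Nat := @Bool.rec (fun _ => Nat) (Ptab_355) (Ptab_356) (Nat.ble 356 c)
noncomputable def Ptab_s_354_357 (c : Nat) : Nat := @Bool.rec (fun _ => Nat) (Ptab_354) (Ptab_s_355_357 c) (Nat.ble 355 c)
noncomputable def Ptab_s_357_359 (c : Nat) : Nat := @Bool.rec (fun _ => Nat) (Ptab_357) (Ptab_358) (Nat.ble 358 c)
noncomputable def Ptab_s_359_361 (c : Nat) : Nat := @Bool.rec (fun _ => Nat) (Ptab_359) (Ptab_360) (Nat.ble 360 c)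
noncomputable def Ptab_s_357_361 (c : Nat) : Nat := @Bool.rec (fun _ => Nat) (Ptab_s_357_359 c) (Ptab_s_359_361 c) (Nat.ble 359 c)
noncomputable def Ptab_s_354_361 (c : Nat) : Nat := @Bool.rec (fun _ => Nat) (Ptab_s_354_357 c) (Ptab_s_357_361 c) (Nat.ble 357 c)
noncomputable def Ptab_s_362_364 (c : Nat) : Nat := @Bool.rec (fun _ => Nat) (Ptab_362) (Ptab_363) (Nat.ble 363 c)
noncomputable def Ptab_s_361_364 (c : Nat) : Nat := @Bool.rec (fun _ => Nat) (Ptab_361) (Ptab_s_362_364 c) (Nat.ble 362 c)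
noncomputable def Ptab_s_364_366 (c : Nat) : Nat := @Bool.rec (fun _ => Nat) (Ptab_364) (Ptab_365) (Nat.ble 365 c)
noncomputable def Ptab_s_366_368 (c : Nat) : Nat := @Bool.rec (fun _ => Nat) (Ptab_366) (Ptab_367) (Nat.ble 367 c)
noncomputable def Ptab_s_364_368 (c : Nat) : Nat := @Bool.rec (fun _ => Nat) (Ptab_s_364_366 c) (Ptab_s_366_368 c) (Nat.ble 366 c)
noncomputable def Ptab_s_361_368 (c : Nat) : Nat := @Bool.rec (fun _ => Nat) (Ptab_s_361_364 c) (Ptab_s_364_368 c) (Nat.ble 364 c)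
noncomputable def Ptab_s_354_368 (c : Nat) : Nat := @Bool.rec (fun _ => Nat) (Ptab_s_354_361 c) (Ptab_s_361_368 c) (Nat.ble 361 c)
noncomputable def Ptab_s_340_368 (c : Nat) : Nat := @Bool.rec (fun _ => Nat) (Ptab_s_340_354 c) (Ptab_s_354_368 c) (Nat.ble 354 c)
noncomputable def Ptab_s_369_371 (c : Nat) : Nat := @Bool.rec (fun _ => Nat) (Ptab_369) (Ptab_370) (Nat.ble 370 c)
noncomputable def Ptab_s_368_371 (c : Nat) : Nat := @Bool.rec (fun _ => Nat) (Ptab_368) (Ptab_s_369_371 c) (Nat.ble 369 c)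
noncomputable def Ptab_s_371_373 (c : Nat) : Nat := @Bool.rec (fun _ => Nat) (Ptab_371) (Ptab_372) (Nat.ble 372 c)
noncomputable def Ptab_s_373_375 (c : Nat) : Nat := @Bool.rec (fun _ => Nat) (Ptab_373) (Ptab_374) (Nat.ble 374 c)
noncomputable def Ptab_s_371_375 (c : Nat) : Nat := @Bool.rec (fun _ => Nat) (Ptab_s_371_373 c) (Ptab_s_373_375 c) (Nat.ble 373 c)
noncomputable def Ptab_s_368_375 (c : Nat) : Nat := @Bool.rec (fun _ => Nat) (Ptab_s_368_371 c) (Ptab_s_371_375 c) (Nat.ble 371 c)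
noncomputable def Ptab_s_376_378 (c : Nat) : Nat := @Bool.rec (fun _ => Nat) (Ptab_376) (Ptab_377) (Nat.ble 377 c)
noncomputable def Ptab_s_375_378 (c : Nat) : Nat := @Bool.rec (fun _ => Nat) (Ptab_375) (Ptab_s_376_378 c) (Nat.ble 376 c)
noncomputable def Ptab_s_378_380 (c : Nat) : Nat := @Bool.rec (fun _ => Nat) (Ptab_378) (Ptab_379) (Nat.ble 379 c)
noncomputable def Ptab_s_380_382 (c : Nat) : Nat := @Bool.rec (fun _ => Nat) (Ptab_380) (Ptab_381) (Nat.ble 381 c)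
noncomputable def Ptab_s_378_382 (c : Nat) : Nat := @Bool.rec (fun _ => Nat) (Ptab_s_378_380 c) (Ptab_s_380_382 c) (Nat.ble 380 c)
noncomputable def Ptab_s_375_382 (c : Nat) : Nat := @Bool.rec (fun _ => Nat) (Ptab_s_375_378 c) (Ptab_s_378_382 c) (Nat.ble 378 c)
noncomputable def Ptab_s_368_382 (c : Nat) : Nat := @Bool.rec (fun _ => Nat) (Ptab_s_368_375 c) (Ptab_s_375_382 c) (Nat.ble 375 c)
noncomputable def Ptab_s_383_385 (c : Nat) : Nat := @Bool.rec (fun _ => Nat) (Ptab_383) (Ptab_384) (Nat.ble 384 c)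
noncomputable def Ptab_s_382_385 (c : Nat) : Nat := @Bool.rec (fun _ => Nat) (Ptab_382) (Ptab_s_383_385 c) (Nat.ble 383 c)
noncomputable def Ptab_s_385_387 (c : Nat) : Nat := @Bool.rec (fun _ => Nat) (Ptab_385) (Ptab_386) (Nat.ble 386 c)
noncomputable def Ptab_s_387_389 (c : Nat) : Nat := @Bool.rec (fun _ => Nat) (Ptab_387) (Ptab_388) (Nat.ble 388 c)
noncomputable def Ptab_s_385_389 (c : Nat) : Nat := @Bool.rec (fun _ => Nat) (Ptab_s_385_387 c) (Ptab_s_387_389 c) (Nat.ble 387 c)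
noncomputable def Ptab_s_382_389 (c : Nat) : Nat := @Bool.rec (fun _ => Nat) (Ptab_s_382_385 c) (Ptab_s_385_389 c) (Nat.ble 385 c)
noncomputable def Ptab_s_389_391 (c : Nat) : Nat := @Bool.rec (fun _ => Nat) (Ptab_389) (Ptab_390) (Nat.ble 390 c)
noncomputable def Ptab_s_391_393 (c : Nat) : Nat := @Bool.rec (fun _ => Nat) (Ptab_391) (Ptab_392) (Nat.ble 392 c)
noncomputable def Ptab_s_389_393 (c : Nat) : Nat := @Bool.rec (fun _ => Nat) (Ptab_s_389_391 c) (Ptab_s_391_393 c) (Nat.ble 391 c)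
noncomputable def Ptab_s_393_395 (c : Nat) : Nat := @Bool.rec (fun _ => Nat) (Ptab_393) (Ptab_394) (Nat.ble 394 c)
noncomputable def Ptab_s_395_397 (c : Nat) : Nat := @Bool.rec (fun _ => Nat) (Ptab_395) (Ptab_396) (Nat.ble 396 c)
noncomputable def Ptab_s_393_397 (c : Nat) : Nat := @Bool.rec (fun _ => Nat) (Ptab_s_393_395 c) (Ptab_s_395_397 c) (Nat.ble 395 c)
noncomputable def Ptab_s_389_397 (c : Nat) : Nat := @Bool.rec (fun _ => Nat) (Ptab_s_389_393 c) (Ptab_s_393_397 c) (Nat.ble 393 c)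
noncomputable def Ptab_s_382_397 (c : Nat) : Nat := @Bool.rec (fun _ => Nat) (Ptab_s_382_389 c) (Ptab_s_389_397 c) (Nat.ble 389 c)
noncomputable def Ptab_s_368_397 (c : Nat) : Nat := @Bool.rec (fun _ => Nat) (Ptab_s_368_382 c) (Ptab_s_382_397 c) (Nat.ble 382 c)
noncomputable def Ptab_s_340_397 (c : Nat) : Nat := @Bool.rec (fun _ => Nat) (Ptab_s_340_368 c) (Ptab_s_368_397 c) (Nat.ble 368 c)
noncomputable def Ptab_s_398_400 (c : Nat) : Nat := @Bool.rec (fun _ => Nat) (Ptab_398) (Ptab_399) (Nat.ble 399 c)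
noncomputable def Ptab_s_397_400 (c : Nat) : Nat := @Bool.rec (fun _ => Nat) (Ptab_397) (Ptab_s_398_400 c) (Nat.ble 398 c)
noncomputable def Ptab_s_400_402 (c : Nat) : Nat := @Bool.rec (fun _ => Nat) (Ptab_400) (Ptab_401) (Nat.ble 401 c)
noncomputable def Ptab_s_402_404 (c : Nat) : Nat := @Bool.rec (fun _ => Nat) (Ptab_402) (Ptab_403) (Nat.ble 403 c)
noncomputable def Ptab_s_400_404 (c : Nat) : Nat := @Bool.rec (fun _ => Nat) (Ptab_s_400_402 c) (Ptab_s_402_404 c) (Nat.ble 402 c)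
noncomputable def Ptab_s_397_404 (c : Nat) : Nat := @Bool.rec (fun _ => Nat) (Ptab_s_397_400 c) (Ptab_s_400_404 c) (Nat.ble 400 c)
noncomputable def Ptab_s_405_407 (c : Nat) : Nat := @Bool.rec (fun _ => Nat) (Ptab_405) (Ptab_406) (Nat.ble 406 c)
noncomputable def Ptab_s_404_407 (c : Nat) : Nat := @Bool.rec (fun _ => Nat) (Ptab_404) (Ptab_s_405_407 c) (Nat.ble 405 c)
noncomputable def Ptab_s_407_409 (c : Nat) : Nat := @Bool.rec (fun _ => Nat) (Ptab_407) (Ptab_408) (Nat.ble 408 c)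
noncomputable def Ptab_s_409_411 (c : Nat) : Nat := @Bool.rec (fun _ => Nat) (Ptab_409) (Ptab_410) (Nat.ble 410 c)
noncomputable def Ptab_s_407_411 (c : Nat) : Nat := @Bool.rec (fun _ => Nat) (Ptab_s_407_409 c) (Ptab_s_409_411 c) (Nat.ble 409 c)
noncomputable def Ptab_s_404_411 (c : Nat) : Nat := @Bool.rec (fun _ => Nat) (Ptab_s_404_407 c) (Ptab_s_407_411 c) (Nat.ble 407 c)
noncomputable def Ptab_s_397_411 (c : Nat) : Nat := @Bool.rec (fun _ => Nat) (Ptab_s_397_404 c) (Ptab_s_404_411 c) (Nat.ble 404 c)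
noncomputable def Ptab_s_412_414 (c : Nat) : Nat := @Bool.rec (fun _ => Nat) (Ptab_412) (Ptab_413) (Nat.ble 413 c)
noncomputable def Ptab_s_411_414 (c : Nat) : Nat := @Bool.rec (fun _ => Nat) (Ptab_411) (Ptab_s_412_414 c) (Nat.ble 412 c)
noncomputable def Ptab_s_414_416 (c : Nat) : Nat := @Bool.rec (fun _ => Nat) (Ptab_414) (Ptab_415) (Nat.ble 415 c)
noncomputable def Ptab_s_416_418 (c : Nat) : Nat := @Bool.rec (fun _ => Nat) (Ptab_416) (Ptab_417) (Nat.ble 417 c)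
noncomputable def Ptab_s_414_418 (c : Nat) : Nat := @Bool.rec (fun _ => Nat) (Ptab_s_414_416 c) (Ptab_s_416_418 c) (Nat.ble 416 c)
noncomputable def Ptab_s_411_418 (c : Nat) : Nat := @Bool.rec (fun _ => Nat) (Ptab_s_411_414 c) (Ptab_s_414_418 c) (Nat.ble 414 c)
noncomputable def Ptab_s_419_421 (c : Nat) : Nat := @Bool.rec (fun _ => Nat) (Ptab_419) (Ptab_420) (Nat.ble 420 c)
noncomputable def Ptab_s_418_421 (c : Nat) : Nat := @Bool.rec (fun _ => Nat) (Ptab_418) (Ptab_s_419_421 c) (Nat.ble 419 c)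
noncomputable def Ptab_s_421_423 (c : Nat) : Nat := @Bool.rec (fun _ => Nat) (Ptab_421) (Ptab_422) (Nat.ble 422 c)
noncomputable def Ptab_s_423_425 (c : Nat) : Nat := @Bool.rec (fun _ => Nat) (Ptab_423) (Ptab_424) (Nat.ble 424 c)
noncomputable def Ptab_s_421_425 (c : Nat) : Nat := @Bool.rec (fun _ => Nat) (Ptab_s_421_423 c) (Ptab_s_423_425 c) (Nat.ble 423 c)
noncomputable def Ptab_s_418_425 (c : Nat) : Nat := @Bool.rec (fun _ => Nat) (Ptab_s_418_421 c) (Ptab_s_421_425 c) (Nat.ble 421 c)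
noncomputable def Ptab_s_411_425 (c : Nat) : Nat := @Bool.rec (fun _ => Nat) (Ptab_s_411_418 c) (Ptab_s_418_425 c) (Nat.ble 418 c)
noncomputable def Ptab_s_397_425 (c : Nat) : Nat := @Bool.rec (fun _ => Nat) (Ptab_s_397_411 c) (Ptab_s_411_425 c) (Nat.ble 411 c)
noncomputable def Ptab_s_426_428 (c : Nat) : Nat := @Bool.rec (fun _ => Nat) (Ptab_426) (Ptab_427) (Nat.ble 427 c)
noncomputable def Ptab_s_425_428 (c : Nat) : Nat := @Bool.rec (fun _ => Nat) (Ptab_425) (Ptab_s_426_428 c) (Nat.ble 426 c)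
noncomputable def Ptab_s_428_430 (c : Nat) : Nat := @Bool.rec (fun _ => Nat) (Ptab_428) (Ptab_429) (Nat.ble 429 c)
noncomputable def Ptab_s_430_432 (c : Nat) : Nat := @Bool.rec (fun _ => Nat) (Ptab_430) (Ptab_431) (Nat.ble 431 c)
noncomputable def Ptab_s_428_432 (c : Nat) : Nat := @Bool.rec (fun _ => Nat) (Ptab_s_428_430 c) (Ptab_s_430_432 c) (Nat.ble 430 c)
noncomputable def Ptab_s_425_432 (c : Nat) : Nat := @Bool.rec (fun _ => Nat) (Ptab_s_425_428 c) (Ptab_s_428_432 c) (Nat.ble 428 c)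
noncomputable def Ptab_s_433_435 (c : Nat) : Nat := @Bool.rec (fun _ => Nat) (Ptab_433) (Ptab_434) (Nat.ble 434 c)
noncomputable def Ptab_s_432_435 (c : Nat) : Nat := @Bool.rec (fun _ => Nat) (Ptab_432) (Ptab_s_433_435 c) (Nat.ble 433 c)
noncomputable def Ptab_s_435_437 (c : Nat) : Nat := @Bool.rec (fun _ => Nat) (Ptab_435) (Ptab_436) (Nat.ble 436 c)
noncomputable def Ptab_s_437_439 (c : Nat) : Nat := @Bool.rec (fun _ => Nat) (Ptab_437) (Ptab_438) (Nat.ble 438 c)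
noncomputable def Ptab_s_435_439 (c : Nat) : Nat := @Bool.rec (fun _ => Nat) (Ptab_s_435_437 c) (Ptab_s_437_439 c) (Nat.ble 437 c)
noncomputable def Ptab_s_432_439 (c : Nat) : Nat := @Bool.rec (fun _ => Nat) (Ptab_s_432_435 c) (Ptab_s_435_439 c) (Nat.ble 435 c)
noncomputable def Ptab_s_425_439 (c : Nat) : Nat := @Bool.rec (fun _ => Nat) (Ptab_s_425_432 c) (Ptab_s_432_439 c) (Nat.ble 432 c)
noncomputable def Ptab_s_440_442 (c : Nat) : Nat := @Bool.rec (fun _ => Nat) (Ptab_440) (Ptab_441) (Nat.ble 441 c)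
noncomputable def Ptab_s_439_442 (c : Nat) : Nat := @Bool.rec (fun _ => Nat) (Ptab_439) (Ptab_s_440_442 c) (Nat.ble 440 c)
noncomputable def Ptab_s_442_444 (c : Nat) : Nat := @Bool.rec (fun _ => Nat) (Ptab_442) (Ptab_443) (Nat.ble 443 c)
noncomputable def Ptab_s_444_446 (c : Nat) : Nat := @Bool.rec (fun _ => Nat) (Ptab_444) (Ptab_445) (Nat.ble 445 c)
noncomputable def Ptab_s_442_446 (c : Nat) : Nat := @Bool.rec (fun _ => Nat) (Ptab_s_442_444 c) (Ptab_s_444_446 c) (Nat.ble 444 c)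
noncomputable def Ptab_s_439_446 (c : Nat) : Nat := @Bool.rec (fun _ => Nat) (Ptab_s_439_442 c) (Ptab_s_442_446 c) (Nat.ble 442 c)
noncomputable def Ptab_s_446_448 (c : Nat) : Nat := @Bool.rec (fun _ => Nat) (Ptab_446) (Ptab_447) (Nat.ble 447 c)
noncomputable def Ptab_s_448_450 (c : Nat) : Nat := @Bool.rec (fun _ => Nat) (Ptab_448) (Ptab_449) (Nat.ble 449 c)
noncomputable def Ptab_s_446_450 (c : Nat) : Nat := @Bool.rec (fun _ => Nat) (Ptab_s_446_448 c) (Ptab_s_448_450 c) (Nat.ble 448 c)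
noncomputable def Ptab_s_450_452 (c : Nat) : Nat := @Bool.rec (fun _ => Nat) (Ptab_450) (Ptab_451) (Nat.ble 451 c)
noncomputable def Ptab_s_452_454 (c : Nat) : Nat := @Bool.rec (fun _ => Nat) (Ptab_452) (Ptab_453) (Nat.ble 453 c)
noncomputable def Ptab_s_450_454 (c : Nat) : Nat := @Bool.rec (fun _ => Nat) (Ptab_s_450_452 c) (Ptab_s_452_454 c) (Nat.ble 452 c)
noncomputable def Ptab_s_446_454 (c : Nat) : Nat := @Bool.rec (fun _ => Nat) (Ptab_s_446_450 c) (Ptab_s_450_454 c) (Nat.ble 450 c)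
noncomputable def Ptab_s_439_454 (c : Nat) : Nat := @Bool.rec (fun _ => Nat) (Ptab_s_439_446 c) (Ptab_s_446_454 c) (Nat.ble 446 c)
noncomputable def Ptab_s_425_454 (c : Nat) : Nat := @Bool.rec (fun _ => Nat) (Ptab_s_425_439 c) (Ptab_s_439_454 c) (Nat.ble 439 c)
noncomputable def Ptab_s_397_454 (c : Nat) : Nat := @Bool.rec (fun _ => Nat) (Ptab_s_397_425 c) (Ptab_s_425_454 c) (Nat.ble 425 c)
noncomputable def Ptab_s_340_454 (c : Nat) : Nat := @Bool.rec (fun _ => Nat) (Ptab_s_340_397 c) (Ptab_s_397_454 c) (Nat.ble 397 c)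
noncomputable def Ptab_s_227_454 (c : Nat) : Nat := @Bool.rec (fun _ => Nat) (Ptab_s_227_340 c) (Ptab_s_340_454 c) (Nat.ble 340 c)
noncomputable def Ptab_s_0_454 (c : Nat) : Nat := @Bool.rec (fun _ => Nat) (Ptab_s_0_227 c) (Ptab_s_227_454 c) (Nat.ble 227 c)
noncomputable def Ptab (i : Nat) : Nat := rdw 19 524287 (Ptab_s_0_454 (Nat.shiftRight i 12)) (Nat.land i 4095)
noncomputable def RRtab (i : Nat) : Nat := rdw 4 15 RRtab_0 i
noncomputable def rBtab (i : Nat) : Nat := rdw 11 2047 rBtab_0 i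
noncomputable def rLtab (i : Nat) : Nat := rdw 5 31 rLtab_0 i
noncomputable def nameTab_s_1_3 (c : Nat) : Nat := @Bool.rec (fun _ => Nat) (nameTab_1) (nameTab_2) (Nat.ble 2 c)
noncomputable def nameTab_s_0_3 (c : Nat) : Nat := @Bool.rec (fun _ => Nat) (nameTab_0) (nameTab_s_1_3 c) (Nat.ble 1 c)
noncomputable def nameTab_s_4_6 (c : Nat) : Nat := @Bool.rec (fun _ => Nat) (nameTab_4) (nameTab_5) (Nat.ble 5 c)
noncomputable def nameTab_s_3_6 (c : Nat) : Nat := @Bool.rec (fun _ => Nat) (nameTab_3) (nameTab_s_4_6 c) (Nat.ble 4 c)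
noncomputable def nameTab_s_0_6 (c : Nat) : Nat := @Bool.rec (fun _ => Nat) (nameTab_s_0_3 c) (nameTab_s_3_6 c) (Nat.ble 3 c)
noncomputable def nameTab_s_7_9 (c : Nat) : Nat := @Bool.rec (fun _ => Nat) (nameTab_7) (nameTab_8) (Nat.ble 8 c)
noncomputable def nameTab_s_6_9 (c : Nat) : Nat := @Bool.rec (fun _ => Nat) (nameTab_6) (nameTab_s_7_9 c) (Nat.ble 7 c)
noncomputable def nameTab_s_10_12 (c : Nat) : Nat := @Bool.rec (fun _ => Nat) (nameTab_10) (nameTab_11) (Nat.ble 11 c)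
noncomputable def nameTab_s_9_12 (c : Nat) : Nat := @Bool.rec (fun _ => Nat) (nameTab_9) (nameTab_s_10_12 c) (Nat.ble 10 c)
noncomputable def nameTab_s_6_12 (c : Nat) : Nat := @Bool.rec (fun _ => Nat) (nameTab_s_6_9 c) (nameTab_s_9_12 c) (Nat.ble 9 c)
noncomputable def nameTab_s_0_12 (c : Nat) : Nat := @Bool.rec (fun _ => Nat) (nameTab_s_0_6 c) (nameTab_s_6_12 c) (Nat.ble 6 c)
noncomputable def nameTab (i : Nat) : Nat := rdw 16 65535 (nameTab_s_0_12 (Nat.shiftRight i 12)) (Nat.land i 4095)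
noncomputable def col0_s_1_3 (c : Nat) : Nat := @Bool.rec (fun _ => Nat) (col0_1) (col0_2) (Nat.ble 2 c)
noncomputable def col0_s_0_3 (c : Nat) : Nat := @Bool.rec (fun _ => Nat) (col0_0) (col0_s_1_3 c) (Nat.ble 1 c)
noncomputable def col0_s_4_6 (c : Nat) : Nat := @Bool.rec (fun _ => Nat) (col0_4) (col0_5) (Nat.ble 5 c)
noncomputable def col0_s_3_6 (c : Nat) : Nat := @Bool.rec (fun _ => Nat) (col0_3) (col0_s_4_6 c) (Nat.ble 4 c)
noncomputable def col0_s_0_6 (c : Nat) : Nat := @Bool.rec (fun _ => Nat) (col0_s_0_3 c) (col0_s_3_6 c) (Nat.ble 3 c)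
noncomputable def col0_s_7_9 (c : Nat) : Nat := @Bool.rec (fun _ => Nat) (col0_7) (col0_8) (Nat.ble 8 c)
noncomputable def col0_s_6_9 (c : Nat) : Nat := @Bool.rec (fun _ => Nat) (col0_6) (col0_s_7_9 c) (Nat.ble 7 c)
noncomputable def col0_s_10_12 (c : Nat) : Nat := @Bool.rec (fun _ => Nat) (col0_10) (col0_11) (Nat.ble 11 c)
noncomputable def col0_s_9_12 (c : Nat) : Nat := @Bool.rec (fun _ => Nat) (col0_9) (col0_s_10_12 c) (Nat.ble 10 c)
noncomputable def col0_s_6_12 (c : Nat) : Nat := @Bool.rec (fun _ => Nat) (col0_s_6_9 c) (col0_s_9_12 c) (Nat.ble 9 c)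
noncomputable def col0_s_0_12 (c : Nat) : Nat := @Bool.rec (fun _ => Nat) (col0_s_0_6 c) (col0_s_6_12 c) (Nat.ble 6 c)
noncomputable def col0 (i : Nat) : Nat := rdw 16 65535 (col0_s_0_12 (Nat.shiftRight i 12)) (Nat.land i 4095)
noncomputable def col1_s_1_3 (c : Nat) : Nat := @Bool.rec (fun _ => Nat) (col1_1) (col1_2) (Nat.ble 2 c)
noncomputable def col1_s_0_3 (c : Nat) : Nat := @Bool.rec (fun _ => Nat) (col1_0) (col1_s_1_3 c) (Nat.ble 1 c)
noncomputable def col1_s_4_6 (c : Nat) : Nat := @Bool.rec (fun _ => Nat) (col1_4) (col1_5) (Nat.ble 5 c)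
noncomputable def col1_s_3_6 (c : Nat) : Nat := @Bool.rec (fun _ => Nat) (col1_3) (col1_s_4_6 c) (Nat.ble 4 c)
noncomputable def col1_s_0_6 (c : Nat) : Nat := @Bool.rec (fun _ => Nat) (col1_s_0_3 c) (col1_s_3_6 c) (Nat.ble 3 c)
noncomputable def col1_s_7_9 (c : Nat) : Nat := @Bool.rec (fun _ => Nat) (col1_7) (col1_8) (Nat.ble 8 c)
noncomputable def col1_s_6_9 (c : Nat) : Nat := @Bool.rec (fun _ => Nat) (col1_6) (col1_s_7_9 c) (Nat.ble 7 c)
noncomputable def col1_s_10_12 (c : Nat) : Nat := @Bool.rec (fun _ => Nat) (col1_10) (col1_11) (Nat.ble 11 c)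
noncomputable def col1_s_9_12 (c : Nat) : Nat := @Bool.rec (fun _ => Nat) (col1_9) (col1_s_10_12 c) (Nat.ble 10 c)
noncomputable def col1_s_6_12 (c : Nat) : Nat := @Bool.rec (fun _ => Nat) (col1_s_6_9 c) (col1_s_9_12 c) (Nat.ble 9 c)
noncomputable def col1_s_0_12 (c : Nat) : Nat := @Bool.rec (fun _ => Nat) (col1_s_0_6 c) (col1_s_6_12 c) (Nat.ble 6 c)
noncomputable def col1 (i : Nat) : Nat := rdw 16 65535 (col1_s_0_12 (Nat.shiftRight i 12)) (Nat.land i 4095)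
noncomputable def col2_s_1_3 (c : Nat) : Nat := @Bool.rec (fun _ => Nat) (col2_1) (col2_2) (Nat.ble 2 c)
noncomputable def col2_s_0_3 (c : Nat) : Nat := @Bool.rec (fun _ => Nat) (col2_0) (col2_s_1_3 c) (Nat.ble 1 c)
noncomputable def col2_s_4_6 (c : Nat) : Nat := @Bool.rec (fun _ => Nat) (col2_4) (col2_5) (Nat.ble 5 c)
noncomputable def col2_s_3_6 (c : Nat) : Nat := @Bool.rec (fun _ => Nat) (col2_3) (col2_s_4_6 c) (Nat.ble 4 c)
noncomputable def col2_s_0_6 (c : Nat) : Nat := @Bool.rec (fun _ => Nat) (col2_s_0_3 c) (col2_s_3_6 c) (Nat.ble 3 c)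
noncomputable def col2_s_7_9 (c : Nat) : Nat := @Bool.rec (fun _ => Nat) (col2_7) (col2_8) (Nat.ble 8 c)
noncomputable def col2_s_6_9 (c : Nat) : Nat := @Bool.rec (fun _ => Nat) (col2_6) (col2_s_7_9 c) (Nat.ble 7 c)
noncomputable def col2_s_10_12 (c : Nat) : Nat := @Bool.rec (fun _ => Nat) (col2_10) (col2_11) (Nat.ble 11 c)
noncomputable def col2_s_9_12 (c : Nat) : Nat := @Bool.rec (fun _ => Nat) (col2_9) (col2_s_10_12 c) (Nat.ble 10 c)
noncomputable def col2_s_6_12 (c : Nat) : Nat := @Bool.rec (fun _ => Nat) (col2_s_6_9 c) (col2_s_9_12 c) (Nat.ble 9 c)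
noncomputable def col2_s_0_12 (c : Nat) : Nat := @Bool.rec (fun _ => Nat) (col2_s_0_6 c) (col2_s_6_12 c) (Nat.ble 6 c)
noncomputable def col2 (i : Nat) : Nat := rdw 16 65535 (col2_s_0_12 (Nat.shiftRight i 12)) (Nat.land i 4095)
noncomputable def col3_s_1_3 (c : Nat) : Nat := @Bool.rec (fun _ => Nat) (col3_1) (col3_2) (Nat.ble 2 c)
noncomputable def col3_s_0_3 (c : Nat) : Nat := @Bool.rec (fun _ => Nat) (col3_0) (col3_s_1_3 c) (Nat.ble 1 c)
noncomputable def col3_s_4_6 (c : Nat) : Nat := @Bool.rec (fun _ => Nat) (col3_4) (col3_5) (Nat.ble 5 c)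
noncomputable def col3_s_3_6 (c : Nat) : Nat := @Bool.rec (fun _ => Nat) (col3_3) (col3_s_4_6 c) (Nat.ble 4 c)
noncomputable def col3_s_0_6 (c : Nat) : Nat := @Bool.rec (fun _ => Nat) (col3_s_0_3 c) (col3_s_3_6 c) (Nat.ble 3 c)
noncomputable def col3_s_7_9 (c : Nat) : Nat := @Bool.rec (fun _ => Nat) (col3_7) (col3_8) (Nat.ble 8 c)
noncomputable def col3_s_6_9 (c : Nat) : Nat := @Bool.rec (fun _ => Nat) (col3_6) (col3_s_7_9 c) (Nat.ble 7 c)
noncomputable def col3_s_10_12 (c : Nat) : Nat := @Bool.rec (fun _ => Nat) (col3_10) (col3_11) (Nat.ble 11 c)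
noncomputable def col3_s_9_12 (c : Nat) : Nat := @Bool.rec (fun _ => Nat) (col3_9) (col3_s_10_12 c) (Nat.ble 10 c)
noncomputable def col3_s_6_12 (c : Nat) : Nat := @Bool.rec (fun _ => Nat) (col3_s_6_9 c) (col3_s_9_12 c) (Nat.ble 9 c)
noncomputable def col3_s_0_12 (c : Nat) : Nat := @Bool.rec (fun _ => Nat) (col3_s_0_6 c) (col3_s_6_12 c) (Nat.ble 6 c)
noncomputable def col3 (i : Nat) : Nat := rdw 16 65535 (col3_s_0_12 (Nat.shiftRight i 12)) (Nat.land i 4095)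
noncomputable def col4_s_1_3 (c : Nat) : Nat := @Bool.rec (fun _ => Nat) (col4_1) (col4_2) (Nat.ble 2 c)
noncomputable def col4_s_0_3 (c : Nat) : Nat := @Bool.rec (fun _ => Nat) (col4_0) (col4_s_1_3 c) (Nat.ble 1 c)
noncomputable def col4_s_4_6 (c : Nat) : Nat := @Bool.rec (fun _ => Nat) (col4_4) (col4_5) (Nat.ble 5 c)
noncomputable def col4_s_3_6 (c : Nat) : Nat := @Bool.rec (fun _ => Nat) (col4_3) (col4_s_4_6 c) (Nat.ble 4 c)
noncomputable def col4_s_0_6 (c : Nat) : Nat := @Bool.rec (fun _ => Nat) (col4_s_0_3 c) (col4_s_3_6 c) (Nat.ble 3 c)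
noncomputable def col4_s_7_9 (c : Nat) : Nat := @Bool.rec (fun _ => Nat) (col4_7) (col4_8) (Nat.ble 8 c)
noncomputable def col4_s_6_9 (c : Nat) : Nat := @Bool.rec (fun _ => Nat) (col4_6) (col4_s_7_9 c) (Nat.ble 7 c)
noncomputable def col4_s_10_12 (c : Nat) : Nat := @Bool.rec (fun _ => Nat) (col4_10) (col4_11) (Nat.ble 11 c)
noncomputable def col4_s_9_12 (c : Nat) : Nat := @Bool.rec (fun _ => Nat) (col4_9) (col4_s_10_12 c) (Nat.ble 10 c)
noncomputable def col4_s_6_12 (c : Nat) : Nat := @Bool.rec (fun _ => Nat) (col4_s_6_9 c) (col4_s_9_12 c) (Nat.ble 9 c)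
noncomputable def col4_s_0_12 (c : Nat) : Nat := @Bool.rec (fun _ => Nat) (col4_s_0_6 c) (col4_s_6_12 c) (Nat.ble 6 c)
noncomputable def col4 (i : Nat) : Nat := rdw 16 65535 (col4_s_0_12 (Nat.shiftRight i 12)) (Nat.land i 4095)
noncomputable def col5_s_1_3 (c : Nat) : Nat := @Bool.rec (fun _ => Nat) (col5_1) (col5_2) (Nat.ble 2 c)
noncomputable def col5_s_0_3 (c : Nat) : Nat := @Bool.rec (fun _ => Nat) (col5_0) (col5_s_1_3 c) (Nat.ble 1 c)
noncomputable def col5_s_4_6 (c : Nat) : Nat := @Bool.rec (fun _ => Nat) (col5_4) (col5_5) (Nat.ble 5 c)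
noncomputable def col5_s_3_6 (c : Nat) : Nat := @Bool.rec (fun _ => Nat) (col5_3) (col5_s_4_6 c) (Nat.ble 4 c)
noncomputable def col5_s_0_6 (c : Nat) : Nat := @Bool.rec (fun _ => Nat) (col5_s_0_3 c) (col5_s_3_6 c) (Nat.ble 3 c)
noncomputable def col5_s_7_9 (c : Nat) : Nat := @Bool.rec (fun _ => Nat) (col5_7) (col5_8) (Nat.ble 8 c)
noncomputable def col5_s_6_9 (c : Nat) : Nat := @Bool.rec (fun _ => Nat) (col5_6) (col5_s_7_9 c) (Nat.ble 7 c)
noncomputable def col5_s_10_12 (c : Nat) : Nat := @Bool.rec (fun _ => Nat) (col5_10) (col5_11) (Nat.ble 11 c)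
noncomputable def col5_s_9_12 (c : Nat) : Nat := @Bool.rec (fun _ => Nat) (col5_9) (col5_s_10_12 c) (Nat.ble 10 c)
noncomputable def col5_s_6_12 (c : Nat) : Nat := @Bool.rec (fun _ => Nat) (col5_s_6_9 c) (col5_s_9_12 c) (Nat.ble 9 c)
noncomputable def col5_s_0_12 (c : Nat) : Nat := @Bool.rec (fun _ => Nat) (col5_s_0_6 c) (col5_s_6_12 c) (Nat.ble 6 c)
noncomputable def col5 (i : Nat) : Nat := rdw 16 65535 (col5_s_0_12 (Nat.shiftRight i 12)) (Nat.land i 4095)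
noncomputable def col6_s_1_3 (c : Nat) : Nat := @Bool.rec (fun _ => Nat) (col6_1) (col6_2) (Nat.ble 2 c)
noncomputable def col6_s_0_3 (c : Nat) : Nat := @Bool.rec (fun _ => Nat) (col6_0) (col6_s_1_3 c) (Nat.ble 1 c)
noncomputable def col6_s_4_6 (c : Nat) : Nat := @Bool.rec (fun _ => Nat) (col6_4) (col6_5) (Nat.ble 5 c)
noncomputable def col6_s_3_6 (c : Nat) : Nat := @Bool.rec (fun _ => Nat) (col6_3) (col6_s_4_6 c) (Nat.ble 4 c)
noncomputable def col6_s_0_6 (c : Nat) : Nat := @Bool.rec (fun _ => Nat) (col6_s_0_3 c) (col6_s_3_6 c) (Nat.ble 3 c)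
noncomputable def col6_s_7_9 (c : Nat) : Nat := @Bool.rec (fun _ => Nat) (col6_7) (col6_8) (Nat.ble 8 c)
noncomputable def col6_s_6_9 (c : Nat) : Nat := @Bool.rec (fun _ => Nat) (col6_6) (col6_s_7_9 c) (Nat.ble 7 c)
noncomputable def col6_s_10_12 (c : Nat) : Nat := @Bool.rec (fun _ => Nat) (col6_10) (col6_11) (Nat.ble 11 c)
noncomputable def col6_s_9_12 (c : Nat) : Nat := @Bool.rec (fun _ => Nat) (col6_9) (col6_s_10_12 c) (Nat.ble 10 c)
noncomputable def col6_s_6_12 (c : Nat) : Nat := @Bool.rec (fun _ => Nat) (col6_s_6_9 c) (col6_s_9_12 c) (Nat.ble 9 c)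
noncomputable def col6_s_0_12 (c : Nat) : Nat := @Bool.rec (fun _ => Nat) (col6_s_0_6 c) (col6_s_6_12 c) (Nat.ble 6 c)
noncomputable def col6 (i : Nat) : Nat := rdw 16 65535 (col6_s_0_12 (Nat.shiftRight i 12)) (Nat.land i 4095)
noncomputable def col7_s_1_3 (c : Nat) : Nat := @Bool.rec (fun _ => Nat) (col7_1) (col7_2) (Nat.ble 2 c)
noncomputable def col7_s_0_3 (c : Nat) : Nat := @Bool.rec (fun _ => Nat) (col7_0) (col7_s_1_3 c) (Nat.ble 1 c)
noncomputable def col7_s_4_6 (c : Nat) : Nat := @Bool.rec (fun _ => Nat) (col7_4) (col7_5) (Nat.ble 5 c)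
noncomputable def col7_s_3_6 (c : Nat) : Nat := @Bool.rec (fun _ => Nat) (col7_3) (col7_s_4_6 c) (Nat.ble 4 c)
noncomputable def col7_s_0_6 (c : Nat) : Nat := @Bool.rec (fun _ => Nat) (col7_s_0_3 c) (col7_s_3_6 c) (Nat.ble 3 c)
noncomputable def col7_s_7_9 (c : Nat) : Nat := @Bool.rec (fun _ => Nat) (col7_7) (col7_8) (Nat.ble 8 c)
noncomputable def col7_s_6_9 (c : Nat) : Nat := @Bool.rec (fun _ => Nat) (col7_6) (col7_s_7_9 c) (Nat.ble 7 c)
noncomputable def col7_s_10_12 (c : Nat) : Nat := @Bool.rec (fun _ => Nat) (col7_10) (col7_11) (Nat.ble 11 c)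
noncomputable def col7_s_9_12 (c : Nat) : Nat := @Bool.rec (fun _ => Nat) (col7_9) (col7_s_10_12 c) (Nat.ble 10 c)
noncomputable def col7_s_6_12 (c : Nat) : Nat := @Bool.rec (fun _ => Nat) (col7_s_6_9 c) (col7_s_9_12 c) (Nat.ble 9 c)
noncomputable def col7_s_0_12 (c : Nat) : Nat := @Bool.rec (fun _ => Nat) (col7_s_0_6 c) (col7_s_6_12 c) (Nat.ble 6 c)
noncomputable def col7 (i : Nat) : Nat := rdw 16 65535 (col7_s_0_12 (Nat.shiftRight i 12)) (Nat.land i 4095)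
noncomputable def finTab_s_0_2 (c : Nat) : Nat := @Bool.rec (fun _ => Nat) (finTab_0) (finTab_1) (Nat.ble 1 c)
noncomputable def finTab_s_3_5 (c : Nat) : Nat := @Bool.rec (fun _ => Nat) (finTab_3) (finTab_4) (Nat.ble 4 c)
noncomputable def finTab_s_2_5 (c : Nat) : Nat := @Bool.rec (fun _ => Nat) (finTab_2) (finTab_s_3_5 c) (Nat.ble 3 c)
noncomputable def finTab_s_0_5 (c : Nat) : Nat := @Bool.rec (fun _ => Nat) (finTab_s_0_2 c) (finTab_s_2_5 c) (Nat.ble 2 c)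
noncomputable def finTab_s_6_8 (c : Nat) : Nat := @Bool.rec (fun _ => Nat) (finTab_6) (finTab_7) (Nat.ble 7 c)
noncomputable def finTab_s_5_8 (c : Nat) : Nat := @Bool.rec (fun _ => Nat) (finTab_5) (finTab_s_6_8 c) (Nat.ble 6 c)
noncomputable def finTab_s_9_11 (c : Nat) : Nat := @Bool.rec (fun _ => Nat) (finTab_9) (finTab_10) (Nat.ble 10 c)
noncomputable def finTab_s_8_11 (c : Nat) : Nat := @Bool.rec (fun _ => Nat) (finTab_8) (finTab_s_9_11 c) (Nat.ble 9 c)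
noncomputable def finTab_s_5_11 (c : Nat) : Nat := @Bool.rec (fun _ => Nat) (finTab_s_5_8 c) (finTab_s_8_11 c) (Nat.ble 8 c)
noncomputable def finTab_s_0_11 (c : Nat) : Nat := @Bool.rec (fun _ => Nat) (finTab_s_0_5 c) (finTab_s_5_11 c) (Nat.ble 5 c)
noncomputable def finTab_s_12_14 (c : Nat) : Nat := @Bool.rec (fun _ => Nat) (finTab_12) (finTab_13) (Nat.ble 13 c)
noncomputable def finTab_s_11_14 (c : Nat) : Nat := @Bool.rec (fun _ => Nat) (finTab_11) (finTab_s_12_14 c) (Nat.ble 12 c)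
noncomputable def finTab_s_15_17 (c : Nat) : Nat := @Bool.rec (fun _ => Nat) (finTab_15) (finTab_16) (Nat.ble 16 c)
noncomputable def finTab_s_14_17 (c : Nat) : Nat := @Bool.rec (fun _ => Nat) (finTab_14) (finTab_s_15_17 c) (Nat.ble 15 c)
noncomputable def finTab_s_11_17 (c : Nat) : Nat := @Bool.rec (fun _ => Nat) (finTab_s_11_14 c) (finTab_s_14_17 c) (Nat.ble 14 c)
noncomputable def finTab_s_18_20 (c : Nat) : Nat := @Bool.rec (fun _ => Nat) (finTab_18) (finTab_19) (Nat.ble 19 c)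
noncomputable def finTab_s_17_20 (c : Nat) : Nat := @Bool.rec (fun _ => Nat) (finTab_17) (finTab_s_18_20 c) (Nat.ble 18 c)
noncomputable def finTab_s_21_23 (c : Nat) : Nat := @Bool.rec (fun _ => Nat) (finTab_21) (finTab_22) (Nat.ble 22 c)
noncomputable def finTab_s_20_23 (c : Nat) : Nat := @Bool.rec (fun _ => Nat) (finTab_20) (finTab_s_21_23 c) (Nat.ble 21 c)
noncomputable def finTab_s_17_23 (c : Nat) : Nat := @Bool.rec (fun _ => Nat) (finTab_s_17_20 c) (finTab_s_20_23 c) (Nat.ble 20 c)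
noncomputable def finTab_s_11_23 (c : Nat) : Nat := @Bool.rec (fun _ => Nat) (finTab_s_11_17 c) (finTab_s_17_23 c) (Nat.ble 17 c)
noncomputable def finTab_s_0_23 (c : Nat) : Nat := @Bool.rec (fun _ => Nat) (finTab_s_0_11 c) (finTab_s_11_23 c) (Nat.ble 11 c)
noncomputable def finTab_s_24_26 (c : Nat) : Nat := @Bool.rec (fun _ => Nat) (finTab_24) (finTab_25) (Nat.ble 25 c)
noncomputable def finTab_s_23_26 (c : Nat) : Nat := @Bool.rec (fun _ => Nat) (finTab_23) (finTab_s_24_26 c) (Nat.ble 24 c)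
noncomputable def finTab_s_27_29 (c : Nat) : Nat := @Bool.rec (fun _ => Nat) (finTab_27) (finTab_28) (Nat.ble 28 c)
noncomputable def finTab_s_26_29 (c : Nat) : Nat := @Bool.rec (fun _ => Nat) (finTab_26) (finTab_s_27_29 c) (Nat.ble 27 c)
noncomputable def finTab_s_23_29 (c : Nat) : Nat := @Bool.rec (fun _ => Nat) (finTab_s_23_26 c) (finTab_s_26_29 c) (Nat.ble 26 c)
noncomputable def finTab_s_30_32 (c : Nat) : Nat := @Bool.rec (fun _ => Nat) (finTab_30) (finTab_31) (Nat.ble 31 c)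
noncomputable def finTab_s_29_32 (c : Nat) : Nat := @Bool.rec (fun _ => Nat) (finTab_29) (finTab_s_30_32 c) (Nat.ble 30 c)
noncomputable def finTab_s_33_35 (c : Nat) : Nat := @Bool.rec (fun _ => Nat) (finTab_33) (finTab_34) (Nat.ble 34 c)
noncomputable def finTab_s_32_35 (c : Nat) : Nat := @Bool.rec (fun _ => Nat) (finTab_32) (finTab_s_33_35 c) (Nat.ble 33 c)
noncomputable def finTab_s_29_35 (c : Nat) : Nat := @Bool.rec (fun _ => Nat) (finTab_s_29_32 c) (finTab_s_32_35 c) (Nat.ble 32 c)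
noncomputable def finTab_s_23_35 (c : Nat) : Nat := @Bool.rec (fun _ => Nat) (finTab_s_23_29 c) (finTab_s_29_35 c) (Nat.ble 29 c)
noncomputable def finTab_s_36_38 (c : Nat) : Nat := @Bool.rec (fun _ => Nat) (finTab_36) (finTab_37) (Nat.ble 37 c)
noncomputable def finTab_s_35_38 (c : Nat) : Nat := @Bool.rec (fun _ => Nat) (finTab_35) (finTab_s_36_38 c) (Nat.ble 36 c)
noncomputable def finTab_s_39_41 (c : Nat) : Nat := @Bool.rec (fun _ => Nat) (finTab_39) (finTab_40) (Nat.ble 40 c)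
noncomputable def finTab_s_38_41 (c : Nat) : Nat := @Bool.rec (fun _ => Nat) (finTab_38) (finTab_s_39_41 c) (Nat.ble 39 c)
noncomputable def finTab_s_35_41 (c : Nat) : Nat := @Bool.rec (fun _ => Nat) (finTab_s_35_38 c) (finTab_s_38_41 c) (Nat.ble 38 c)
noncomputable def finTab_s_42_44 (c : Nat) : Nat := @Bool.rec (fun _ => Nat) (finTab_42) (finTab_43) (Nat.ble 43 c)
noncomputable def finTab_s_41_44 (c : Nat) : Nat := @Bool.rec (fun _ => Nat) (finTab_41) (finTab_s_42_44 c) (Nat.ble 42 c)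
noncomputable def finTab_s_45_47 (c : Nat) : Nat := @Bool.rec (fun _ => Nat) (finTab_45) (finTab_46) (Nat.ble 46 c)
noncomputable def finTab_s_44_47 (c : Nat) : Nat := @Bool.rec (fun _ => Nat) (finTab_44) (finTab_s_45_47 c) (Nat.ble 45 c)
noncomputable def finTab_s_41_47 (c : Nat) : Nat := @Bool.rec (fun _ => Nat) (finTab_s_41_44 c) (finTab_s_44_47 c) (Nat.ble 44 c)
noncomputable def finTab_s_35_47 (c : Nat) : Nat := @Bool.rec (fun _ => Nat) (finTab_s_35_41 c) (finTab_s_41_47 c) (Nat.ble 41 c)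
noncomputable def finTab_s_23_47 (c : Nat) : Nat := @Bool.rec (fun _ => Nat) (finTab_s_23_35 c) (finTab_s_35_47 c) (Nat.ble 35 c)
noncomputable def finTab_s_0_47 (c : Nat) : Nat := @Bool.rec (fun _ => Nat) (finTab_s_0_23 c) (finTab_s_23_47 c) (Nat.ble 23 c)
noncomputable def finTab_s_48_50 (c : Nat) : Nat := @Bool.rec (fun _ => Nat) (finTab_48) (finTab_49) (Nat.ble 49 c)
noncomputable def finTab_s_47_50 (c : Nat) : Nat := @Bool.rec (fun _ => Nat) (finTab_47) (finTab_s_48_50 c) (Nat.ble 48 c)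
noncomputable def finTab_s_51_53 (c : Nat) : Nat := @Bool.rec (fun _ => Nat) (finTab_51) (finTab_52) (Nat.ble 52 c)
noncomputable def finTab_s_50_53 (c : Nat) : Nat := @Bool.rec (fun _ => Nat) (finTab_50) (finTab_s_51_53 c) (Nat.ble 51 c)
noncomputable def finTab_s_47_53 (c : Nat) : Nat := @Bool.rec (fun _ => Nat) (finTab_s_47_50 c) (finTab_s_50_53 c) (Nat.ble 50 c)
noncomputable def finTab_s_54_56 (c : Nat) : Nat := @Bool.rec (fun _ => Nat) (finTab_54) (finTab_55) (Nat.ble 55 c)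
noncomputable def finTab_s_53_56 (c : Nat) : Nat := @Bool.rec (fun _ => Nat) (finTab_53) (finTab_s_54_56 c) (Nat.ble 54 c)
noncomputable def finTab_s_57_59 (c : Nat) : Nat := @Bool.rec (fun _ => Nat) (finTab_57) (finTab_58) (Nat.ble 58 c)
noncomputable def finTab_s_56_59 (c : Nat) : Nat := @Bool.rec (fun _ => Nat) (finTab_56) (finTab_s_57_59 c) (Nat.ble 57 c)
noncomputable def finTab_s_53_59 (c : Nat) : Nat := @Bool.rec (fun _ => Nat) (finTab_s_53_56 c) (finTab_s_56_59 c) (Nat.ble 56 c)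
noncomputable def finTab_s_47_59 (c : Nat) : Nat := @Bool.rec (fun _ => Nat) (finTab_s_47_53 c) (finTab_s_53_59 c) (Nat.ble 53 c)
noncomputable def finTab_s_60_62 (c : Nat) : Nat := @Bool.rec (fun _ => Nat) (finTab_60) (finTab_61) (Nat.ble 61 c)
noncomputable def finTab_s_59_62 (c : Nat) : Nat := @Bool.rec (fun _ => Nat) (finTab_59) (finTab_s_60_62 c) (Nat.ble 60 c)
noncomputable def finTab_s_63_65 (c : Nat) : Nat := @Bool.rec (fun _ => Nat) (finTab_63) (finTab_64) (Nat.ble 64 c)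
noncomputable def finTab_s_62_65 (c : Nat) : Nat := @Bool.rec (fun _ => Nat) (finTab_62) (finTab_s_63_65 c) (Nat.ble 63 c)
noncomputable def finTab_s_59_65 (c : Nat) : Nat := @Bool.rec (fun _ => Nat) (finTab_s_59_62 c) (finTab_s_62_65 c) (Nat.ble 62 c)
noncomputable def finTab_s_66_68 (c : Nat) : Nat := @Bool.rec (fun _ => Nat) (finTab_66) (finTab_67) (Nat.ble 67 c)
noncomputable def finTab_s_65_68 (c : Nat) : Nat := @Bool.rec (fun _ => Nat) (finTab_65) (finTab_s_66_68 c) (Nat.ble 66 c)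
noncomputable def finTab_s_69_71 (c : Nat) : Nat := @Bool.rec (fun _ => Nat) (finTab_69) (finTab_70) (Nat.ble 70 c)
noncomputable def finTab_s_68_71 (c : Nat) : Nat := @Bool.rec (fun _ => Nat) (finTab_68) (finTab_s_69_71 c) (Nat.ble 69 c)
noncomputable def finTab_s_65_71 (c : Nat) : Nat := @Bool.rec (fun _ => Nat) (finTab_s_65_68 c) (finTab_s_68_71 c) (Nat.ble 68 c)
noncomputable def finTab_s_59_71 (c : Nat) : Nat := @Bool.rec (fun _ => Nat) (finTab_s_59_65 c) (finTab_s_65_71 c) (Nat.ble 65 c)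
noncomputable def finTab_s_47_71 (c : Nat) : Nat := @Bool.rec (fun _ => Nat) (finTab_s_47_59 c) (finTab_s_59_71 c) (Nat.ble 59 c)
noncomputable def finTab_s_72_74 (c : Nat) : Nat := @Bool.rec (fun _ => Nat) (finTab_72) (finTab_73) (Nat.ble 73 c)
noncomputable def finTab_s_71_74 (c : Nat) : Nat := @Bool.rec (fun _ => Nat) (finTab_71) (finTab_s_72_74 c) (Nat.ble 72 c)
noncomputable def finTab_s_75_77 (c : Nat) : Nat := @Bool.rec (fun _ => Nat) (finTab_75) (finTab_76) (Nat.ble 76 c)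
noncomputable def finTab_s_74_77 (c : Nat) : Nat := @Bool.rec (fun _ => Nat) (finTab_74) (finTab_s_75_77 c) (Nat.ble 75 c)
noncomputable def finTab_s_71_77 (c : Nat) : Nat := @Bool.rec (fun _ => Nat) (finTab_s_71_74 c) (finTab_s_74_77 c) (Nat.ble 74 c)
noncomputable def finTab_s_78_80 (c : Nat) : Nat := @Bool.rec (fun _ => Nat) (finTab_78) (finTab_79) (Nat.ble 79 c)
noncomputable def finTab_s_77_80 (c : Nat) : Nat := @Bool.rec (fun _ => Nat) (finTab_77) (finTab_s_78_80 c) (Nat.ble 78 c)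
noncomputable def finTab_s_81_83 (c : Nat) : Nat := @Bool.rec (fun _ => Nat) (finTab_81) (finTab_82) (Nat.ble 82 c)
noncomputable def finTab_s_80_83 (c : Nat) : Nat := @Bool.rec (fun _ => Nat) (finTab_80) (finTab_s_81_83 c) (Nat.ble 81 c)
noncomputable def finTab_s_77_83 (c : Nat) : Nat := @Bool.rec (fun _ => Nat) (finTab_s_77_80 c) (finTab_s_80_83 c) (Nat.ble 80 c)
noncomputable def finTab_s_71_83 (c : Nat) : Nat := @Bool.rec (fun _ => Nat) (finTab_s_71_77 c) (finTab_s_77_83 c) (Nat.ble 77 c)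
noncomputable def finTab_s_84_86 (c : Nat) : Nat := @Bool.rec (fun _ => Nat) (finTab_84) (finTab_85) (Nat.ble 85 c)
noncomputable def finTab_s_83_86 (c : Nat) : Nat := @Bool.rec (fun _ => Nat) (finTab_83) (finTab_s_84_86 c) (Nat.ble 84 c)
noncomputable def finTab_s_87_89 (c : Nat) : Nat := @Bool.rec (fun _ => Nat) (finTab_87) (finTab_88) (Nat.ble 88 c)
noncomputable def finTab_s_86_89 (c : Nat) : Nat := @Bool.rec (fun _ => Nat) (finTab_86) (finTab_s_87_89 c) (Nat.ble 87 c)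
noncomputable def finTab_s_83_89 (c : Nat) : Nat := @Bool.rec (fun _ => Nat) (finTab_s_83_86 c) (finTab_s_86_89 c) (Nat.ble 86 c)
noncomputable def finTab_s_90_92 (c : Nat) : Nat := @Bool.rec (fun _ => Nat) (finTab_90) (finTab_91) (Nat.ble 91 c)
noncomputable def finTab_s_89_92 (c : Nat) : Nat := @Bool.rec (fun _ => Nat) (finTab_89) (finTab_s_90_92 c) (Nat.ble 90 c)
noncomputable def finTab_s_93_95 (c : Nat) : Nat := @Bool.rec (fun _ => Nat) (finTab_93) (finTab_94) (Nat.ble 94 c)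
noncomputable def finTab_s_92_95 (c : Nat) : Nat := @Bool.rec (fun _ => Nat) (finTab_92) (finTab_s_93_95 c) (Nat.ble 93 c)
noncomputable def finTab_s_89_95 (c : Nat) : Nat := @Bool.rec (fun _ => Nat) (finTab_s_89_92 c) (finTab_s_92_95 c) (Nat.ble 92 c)
noncomputable def finTab_s_83_95 (c : Nat) : Nat := @Bool.rec (fun _ => Nat) (finTab_s_83_89 c) (finTab_s_89_95 c) (Nat.ble 89 c)
noncomputable def finTab_s_71_95 (c : Nat) : Nat := @Bool.rec (fun _ => Nat) (finTab_s_71_83 c) (finTab_s_83_95 c) (Nat.ble 83 c)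
noncomputable def finTab_s_47_95 (c : Nat) : Nat := @Bool.rec (fun _ => Nat) (finTab_s_47_71 c) (finTab_s_71_95 c) (Nat.ble 71 c)
noncomputable def finTab_s_0_95 (c : Nat) : Nat := @Bool.rec (fun _ => Nat) (finTab_s_0_47 c) (finTab_s_47_95 c) (Nat.ble 47 c)
noncomputable def finTab (i : Nat) : Nat := rdw 19 524287 (finTab_s_0_95 (Nat.shiftRight i 12)) (Nat.land i 4095)
noncomputable def clsTab_s_1_3 (c : Nat) : Nat := @Bool.rec (fun _ => Nat) (clsTab_1) (clsTab_2) (Nat.ble 2 c)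
noncomputable def clsTab_s_0_3 (c : Nat) : Nat := @Bool.rec (fun _ => Nat) (clsTab_0) (clsTab_s_1_3 c) (Nat.ble 1 c)
noncomputable def clsTab_s_3_5 (c : Nat) : Nat := @Bool.rec (fun _ => Nat) (clsTab_3) (clsTab_4) (Nat.ble 4 c)
noncomputable def clsTab_s_5_7 (c : Nat) : Nat := @Bool.rec (fun _ => Nat) (clsTab_5) (clsTab_6) (Nat.ble 6 c)
noncomputable def clsTab_s_3_7 (c : Nat) : Nat := @Bool.rec (fun _ => Nat) (clsTab_s_3_5 c) (clsTab_s_5_7 c) (Nat.ble 5 c)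
noncomputable def clsTab_s_0_7 (c : Nat) : Nat := @Bool.rec (fun _ => Nat) (clsTab_s_0_3 c) (clsTab_s_3_7 c) (Nat.ble 3 c)
noncomputable def clsTab_s_7_9 (c : Nat) : Nat := @Bool.rec (fun _ => Nat) (clsTab_7) (clsTab_8) (Nat.ble 8 c)
noncomputable def clsTab_s_9_11 (c : Nat) : Nat := @Bool.rec (fun _ => Nat) (clsTab_9) (clsTab_10) (Nat.ble 10 c)
noncomputable def clsTab_s_7_11 (c : Nat) : Nat := @Bool.rec (fun _ => Nat) (clsTab_s_7_9 c) (clsTab_s_9_11 c) (Nat.ble 9 c)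
noncomputable def clsTab_s_11_13 (c : Nat) : Nat := @Bool.rec (fun _ => Nat) (clsTab_11) (clsTab_12) (Nat.ble 12 c)
noncomputable def clsTab_s_13_15 (c : Nat) : Nat := @Bool.rec (fun _ => Nat) (clsTab_13) (clsTab_14) (Nat.ble 14 c)
noncomputable def clsTab_s_11_15 (c : Nat) : Nat := @Bool.rec (fun _ => Nat) (clsTab_s_11_13 c) (clsTab_s_13_15 c) (Nat.ble 13 c)
noncomputable def clsTab_s_7_15 (c : Nat) : Nat := @Bool.rec (fun _ => Nat) (clsTab_s_7_11 c) (clsTab_s_11_15 c) (Nat.ble 11 c)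
noncomputable def clsTab_s_0_15 (c : Nat) : Nat := @Bool.rec (fun _ => Nat) (clsTab_s_0_7 c) (clsTab_s_7_15 c) (Nat.ble 7 c)
noncomputable def clsTab (i : Nat) : Nat := rdw 16 65535 (clsTab_s_0_15 (Nat.shiftRight i 12)) (Nat.land i 4095)
noncomputable def oparTab_s_1_3 (c : Nat) : Nat := @Bool.rec (fun _ => Nat) (oparTab_1) (oparTab_2) (Nat.ble 2 c)
noncomputable def oparTab_s_0_3 (c : Nat) : Nat := @Bool.rec (fun _ => Nat) (oparTab_0) (oparTab_s_1_3 c) (Nat.ble 1 c)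
noncomputable def oparTab_s_4_6 (c : Nat) : Nat := @Bool.rec (fun _ => Nat) (oparTab_4) (oparTab_5) (Nat.ble 5 c)
noncomputable def oparTab_s_3_6 (c : Nat) : Nat := @Bool.rec (fun _ => Nat) (oparTab_3) (oparTab_s_4_6 c) (Nat.ble 4 c)
noncomputable def oparTab_s_0_6 (c : Nat) : Nat := @Bool.rec (fun _ => Nat) (oparTab_s_0_3 c) (oparTab_s_3_6 c) (Nat.ble 3 c)
noncomputable def oparTab_s_7_9 (c : Nat) : Nat := @Bool.rec (fun _ => Nat) (oparTab_7) (oparTab_8) (Nat.ble 8 c)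
noncomputable def oparTab_s_6_9 (c : Nat) : Nat := @Bool.rec (fun _ => Nat) (oparTab_6) (oparTab_s_7_9 c) (Nat.ble 7 c)
noncomputable def oparTab_s_10_12 (c : Nat) : Nat := @Bool.rec (fun _ => Nat) (oparTab_10) (oparTab_11) (Nat.ble 11 c)
noncomputable def oparTab_s_9_12 (c : Nat) : Nat := @Bool.rec (fun _ => Nat) (oparTab_9) (oparTab_s_10_12 c) (Nat.ble 10 c)
noncomputable def oparTab_s_6_12 (c : Nat) : Nat := @Bool.rec (fun _ => Nat) (oparTab_s_6_9 c) (oparTab_s_9_12 c) (Nat.ble 9 c)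
noncomputable def oparTab_s_0_12 (c : Nat) : Nat := @Bool.rec (fun _ => Nat) (oparTab_s_0_6 c) (oparTab_s_6_12 c) (Nat.ble 6 c)
noncomputable def oparTab (i : Nat) : Nat := rdw 16 65535 (oparTab_s_0_12 (Nat.shiftRight i 12)) (Nat.land i 4095)
noncomputable def olabTab_s_0_2 (c : Nat) : Nat := @Bool.rec (fun _ => Nat) (olabTab_0) (olabTab_1) (Nat.ble 1 c)
noncomputable def olabTab (i : Nat) : Nat := rdw 2 3 (olabTab_s_0_2 (Nat.shiftRight i 15)) (Nat.land i 32767)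
noncomputable def srcF (t : Nat) : Nat := Nat.land (Atab t) 65535
noncomputable def tgtF (t : Nat) : Nat := Nat.land (Nat.shiftRight (Atab t) 16) 65535
noncomputable def ltF (t : Nat) : Nat := Nat.shiftRight (Atab t) 32
noncomputable def rhoF (t : Nat) : Nat := Nat.land (Btab (Nat.sub t 57543)) 63
noncomputable def rotF (t : Nat) : Nat := Nat.land (Nat.shiftRight (Btab (Nat.sub t 57543)) 6) 31
noncomputable def lenF (t : Nat) : Nat := Nat.land (Nat.shiftRight (Btab (Nat.sub t 57543)) 11) 63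
noncomputable def offF (t : Nat) : Nat := Nat.shiftRight (Btab (Nat.sub t 57543)) 17
noncomputable def pfF (j : Nat) : Nat := Nat.shiftRight (Ptab j) 1
noncomputable def pdF (j : Nat) : Nat := Nat.land (Ptab j) 1
noncomputable def tblF (i x : Nat) : Nat := @Bool.rec (fun _ => Nat) (@Bool.rec (fun _ => Nat) (@Bool.rec (fun _ => Nat) (col0 i) (col1 i) (Nat.ble 1 x)) (@Bool.rec (fun _ => Nat) (col2 i) (col3 i) (Nat.ble 3 x)) (Nat.ble 2 x)) (@Bool.rec (fun _ => Nat) (@Bool.rec (fun _ => Nat) (col4 i) (col5 i) (Nat.ble 5 x)) (@Bool.rec (fun _ => Nat) (col6 i) (col7 i) (Nat.ble 7 x)) (Nat.ble 6 x)) (Nat.ble 4 x)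
noncomputable def finE (i x : Nat) : Nat := finTab (Nat.add (Nat.mul i 8) x)
noncomputable def finFF (i x : Nat) : Nat := Nat.shiftRight (finE i x) 1
noncomputable def finDF (i x : Nat) : Nat := Nat.land (finE i x) 1

noncomputable def D : Log :=
  { k := 8, inv := invE 8 PCo3p.invR, nR := 56, rBase := rBtab, rLen := rLtab, RR := RRtab,
    M := 57537, nB := 6, F := 226098, src := srcF, lt := ltF, tgt := tgtF, rho := rhoF, rot := rotF,
    off := offF, len := lenF, pf := pfF, pd := pdF }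

noncomputable def T : Tab :=
  { N := 48600, nameOf := nameTab, tbl := tblF, finF := finFF, finD := finDF, cls := clsTab }

def subs : List (List Nat) := [
  [0],
  [2],
  [4] ]

def rw0 : List Nat := [0, 0]
def rw1 : List Nat := [2, 2, 2, 2]
def rw2 : List Nat := [0, 2, 0, 2, 0, 2, 0, 2, 0, 2, 0, 2, 0, 2, 0, 2, 0, 2, 0, 2, 0, 2]
def rw3 : List Nat := [0, 2, 2, 0, 2, 2, 0, 2, 2, 0, 2, 2, 0, 2, 2, 0, 2, 2]
def rw4 : List Nat := [0, 2, 0, 2, 0, 3, 0, 2, 0, 2, 2, 0, 3, 0, 2, 0, 3, 0, 3]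
def rw5 : List Nat := [4, 4, 4, 4, 4, 4, 4, 4, 4, 4, 4, 4, 4, 4, 4, 4, 4, 4, 4, 4, 4, 4, 4]
def rw6 : List Nat := [0, 2, 4, 3, 1, 5, 5]
def rw7 : List Nat := [0, 4, 0, 4, 3, 4, 0, 4, 4, 3, 5, 5]
def rw8 : List Nat := [0, 4, 0, 5, 0, 4, 0, 5, 1, 4, 1, 5]
def rw9 : List Nat := [0, 2, 0, 4, 4, 2, 0, 4, 4, 2, 5, 3, 5, 2, 2]
def rw10 : List Nat := [0, 2, 5, 0, 4, 2, 5, 5, 1, 5, 1, 4, 2, 2, 5]
def rw11 : List Nat := [0, 3, 5, 1, 4, 3, 4, 3, 3, 5, 0, 4, 3, 4, 3]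
def rw12 : List Nat := [6, 6]
def rw13 : List Nat := [0, 2, 0, 2, 2, 0, 2, 0, 2, 2, 0, 2, 5, 0, 6, 5, 6, 5, 0, 6, 3]
def rw14 : List Nat := [0, 2, 0, 2, 5, 3, 5, 0, 6, 5, 0, 4, 6, 2, 2, 0, 2, 2, 0, 3, 0, 2, 2]
def rw15 : List Nat := [0, 2, 0, 3, 3, 0, 2, 0, 3, 3, 0, 6, 5, 2, 5, 0, 3, 3, 6, 0, 4, 4, 2, 5]
def rw16 : List Nat := [0, 2, 0, 2, 0, 3, 3, 0, 3, 3, 6, 4, 0, 3, 5, 0, 6, 3, 4, 3, 5, 0, 4, 3, 3, 0, 3]
def realLit : List (List Nat) := [rw0, rw1, rw2, rw3, rw4, rw5, rw6, rw7, rw8, rw9, rw10, rw11, rw12, rw13, rw14, rw15, rw16]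
noncomputable def actR0 (i : Nat) : Nat := col1 (col1 (i))
theorem actR0_eq (i : Nat) : actR0 i = Tab.act T D rw0 i := rfl
noncomputable def actR1 (i : Nat) : Nat := col3 (col3 (col3 (col3 (i))))
theorem actR1_eq (i : Nat) : actR1 i = Tab.act T D rw1 i := rfl
noncomputable def actR2 (i : Nat) : Nat := col1 (col3 (col1 (col3 (col1 (col3 (col1 (col3 (col1 (col3 (col1 (col3 (col1 (col3 (col1 (col3 (col1 (col3 (col1 (col3 (col1 (col3 (i))))))))))))))))))))))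
theorem actR2_eq (i : Nat) : actR2 i = Tab.act T D rw2 i := rfl
noncomputable def actR3 (i : Nat) : Nat := col1 (col3 (col3 (col1 (col3 (col3 (col1 (col3 (col3 (col1 (col3 (col3 (col1 (col3 (col3 (col1 (col3 (col3 (i))))))))))))))))))
theorem actR3_eq (i : Nat) : actR3 i = Tab.act T D rw3 i := rfl
noncomputable def actR4 (i : Nat) : Nat := col1 (col3 (col1 (col3 (col1 (col2 (col1 (col3 (col1 (col3 (col3 (col1 (col2 (col1 (col3 (col1 (col2 (col1 (col2 (i)))))))))))))))))))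
theorem actR4_eq (i : Nat) : actR4 i = Tab.act T D rw4 i := rfl
noncomputable def actR5 (i : Nat) : Nat := col5 (col5 (col5 (col5 (col5 (col5 (col5 (col5 (col5 (col5 (col5 (col5 (col5 (col5 (col5 (col5 (col5 (col5 (col5 (col5 (col5 (col5 (col5 (i)))))))))))))))))))))))
theorem actR5_eq (i : Nat) : actR5 i = Tab.act T D rw5 i := rfl
noncomputable def actR6 (i : Nat) : Nat := col1 (col3 (col5 (col2 (col0 (col4 (col4 (i)))))))
theorem actR6_eq (i : Nat) : actR6 i = Tab.act T D rw6 i := rfl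
noncomputable def actR7 (i : Nat) : Nat := col1 (col5 (col1 (col5 (col2 (col5 (col1 (col5 (col5 (col2 (col4 (col4 (i))))))))))))
theorem actR7_eq (i : Nat) : actR7 i = Tab.act T D rw7 i := rfl
noncomputable def actR8 (i : Nat) : Nat := col1 (col5 (col1 (col4 (col1 (col5 (col1 (col4 (col0 (col5 (col0 (col4 (i))))))))))))
theorem actR8_eq (i : Nat) : actR8 i = Tab.act T D rw8 i := rfl
noncomputable def actR9 (i : Nat) : Nat := col1 (col3 (col1 (col5 (col5 (col3 (col1 (col5 (col5 (col3 (col4 (col2 (col4 (col3 (col3 (i)))))))))))))))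
theorem actR9_eq (i : Nat) : actR9 i = Tab.act T D rw9 i := rfl
noncomputable def actR10 (i : Nat) : Nat := col1 (col3 (col4 (col1 (col5 (col3 (col4 (col4 (col0 (col4 (col0 (col5 (col3 (col3 (col4 (i)))))))))))))))
theorem actR10_eq (i : Nat) : actR10 i = Tab.act T D rw10 i := rfl
noncomputable def actR11 (i : Nat) : Nat := col1 (col2 (col4 (col0 (col5 (col2 (col5 (col2 (col2 (col4 (col1 (col5 (col2 (col5 (col2 (i)))))))))))))))
theorem actR11_eq (i : Nat) : actR11 i = Tab.act T D rw11 i := rfl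
noncomputable def actR12 (i : Nat) : Nat := col7 (col7 (i))
theorem actR12_eq (i : Nat) : actR12 i = Tab.act T D rw12 i := rfl
noncomputable def actR13 (i : Nat) : Nat := col1 (col3 (col1 (col3 (col3 (col1 (col3 (col1 (col3 (col3 (col1 (col3 (col4 (col1 (col7 (col4 (col7 (col4 (col1 (col7 (col2 (i)))))))))))))))))))))
theorem actR13_eq (i : Nat) : actR13 i = Tab.act T D rw13 i := rfl
noncomputable def actR14 (i : Nat) : Nat := col1 (col3 (col1 (col3 (col4 (col2 (col4 (col1 (col7 (col4 (col1 (col5 (col7 (col3 (col3 (col1 (col3 (col3 (col1 (col2 (col1 (col3 (col3 (i)))))))))))))))))))))))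
theorem actR14_eq (i : Nat) : actR14 i = Tab.act T D rw14 i := rfl
noncomputable def actR15 (i : Nat) : Nat := col1 (col3 (col1 (col2 (col2 (col1 (col3 (col1 (col2 (col2 (col1 (col7 (col4 (col3 (col4 (col1 (col2 (col2 (col7 (col1 (col5 (col5 (col3 (col4 (i))))))))))))))))))))))))
theorem actR15_eq (i : Nat) : actR15 i = Tab.act T D rw15 i := rfl
noncomputable def actR16 (i : Nat) : Nat := col1 (col3 (col1 (col3 (col1 (col2 (col2 (col1 (col2 (col2 (col7 (col5 (col1 (col2 (col4 (col1 (col7 (col2 (col5 (col2 (col4 (col1 (col5 (col2 (col2 (col1 (col2 (i)))))))))))))))))))))))))))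
theorem actR16_eq (i : Nat) : actR16 i = Tab.act T D rw16 i := rfl

end Cfsg.Agent.Lib.Helper4.TCD.Co3pA
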