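import Cfsg.Agent.Lib.Helper4.TCD_Co3pA_Acc

namespace Cfsg.Agent.Lib.Helper4.TCD.Co3pA

open Cfsg.Agent.Lib.Helper4.TC

set_option maxRecDepth 100000
set_option Elab.async false

theorem c_zero : D.zeroOK = true := by decide +kernel
theorem c_base : allBelow D.baseOK 6 = true := by decide +kernel
theorem c_let : allBelow D.letOK 8 = true := by decide +kernel
theorem c_cls0 : T.cls 0 = 0 := by decide +kernel
theorem c_name0 : T.nameOf 0 = 0 := by decide +kernel
theorem c_tab : D.relTabOK 0 (baseRels 8 PCo3p.invR PCo3p.P.real subs ++ (baseRels 8 PCo3p.invR PCo3p.P.real subs).map (invWord D.inv)) = true := by decide +kernel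
theorem c_real : PCo3p.P.real = realLit := by decide +kernel
theorem c_subfix : subs.all (fun u => Nat.beq (Tab.act T D u 0) 0) = true := by decide +kernel
theorem c_subs : subs.all (fun u => u.all (fun x => Nat.ble (Nat.succ x) 8)) = true := by decide +kernel
theorem c_names_0 : allRange D.nameOK 1 57536 = true := by decide +kernel
theorem c_cls_0 : allRange (T.clsOK D) 1 15000 = true := by decide +kernel
theorem c_cls_1 : allRange (T.clsOK D) 15001 15000 = true := by decide +kernel
theorem c_cls_2 : allRange (T.clsOK D) 30001 15000 = true := by decide +kernel
theorem c_cls_3 : allRange (T.clsOK D) 45001 12536 = true := by decide +kernel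
theorem c_rep_0 : allRange (T.repOK D) 0 30000 = true := by decide +kernel
theorem c_rep_1 : allRange (T.repOK D) 30000 18600 = true := by decide +kernel
theorem c_rel_0 : allRange D.relOK 57543 4102 = true := by decide +kernel
theorem c_rel_1 : allRange D.relOK 61645 3733 = true := by decide +kernel
theorem c_rel_2 : allRange D.relOK 65378 2326 = true := by decide +kernel
theorem c_rel_3 : allRange D.relOK 67704 1298 = true := by decide +kernel
theorem c_rel_4 : allRange D.relOK 69002 1537 = true := by decide +kernel
theorem c_rel_5 : allRange D.relOK 70539 1216 = true := by decide +kernel
theorem c_rel_6 : allRange D.relOK 71755 878 = true := by decide +kernel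
theorem c_rel_7 : allRange D.relOK 72633 891 = true := by decide +kernel
theorem c_rel_8 : allRange D.relOK 73524 836 = true := by decide +kernel
theorem c_rel_9 : allRange D.relOK 74360 872 = true := by decide +kernel
theorem c_rel_10 : allRange D.relOK 75232 931 = true := by decide +kernel
theorem c_rel_11 : allRange D.relOK 76163 976 = true := by decide +kernel
theorem c_rel_12 : allRange D.relOK 77139 1011 = true := by decide +kernel
theorem c_rel_13 : allRange D.relOK 78150 1001 = true := by decide +kernel
theorem c_rel_14 : allRange D.relOK 79151 1079 = true := by decide +kernel
theorem c_rel_15 : allRange D.relOK 80230 1077 = true := by decide +kernel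
theorem c_rel_16 : allRange D.relOK 81307 1113 = true := by decide +kernel
theorem c_rel_17 : allRange D.relOK 82420 1086 = true := by decide +kernel
theorem c_rel_18 : allRange D.relOK 83506 1077 = true := by decide +kernel
theorem c_rel_19 : allRange D.relOK 84583 1112 = true := by decide +kernel
theorem c_rel_20 : allRange D.relOK 85695 1141 = true := by decide +kernel
theorem c_rel_21 : allRange D.relOK 86836 1103 = true := by decide +kernel
theorem c_rel_22 : allRange D.relOK 87939 1152 = true := by decide +kernel
theorem c_rel_23 : allRange D.relOK 89091 1172 = true := by decide +kernel
theorem c_rel_24 : allRange D.relOK 90263 1165 = true := by decide +kernel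
theorem c_rel_25 : allRange D.relOK 91428 1195 = true := by decide +kernel
theorem c_rel_26 : allRange D.relOK 92623 1159 = true := by decide +kernel
theorem c_rel_27 : allRange D.relOK 93782 1173 = true := by decide +kernel
theorem c_rel_28 : allRange D.relOK 94955 1143 = true := by decide +kernel
theorem c_rel_29 : allRange D.relOK 96098 1150 = true := by decide +kernel
theorem c_rel_30 : allRange D.relOK 97248 1112 = true := by decide +kernel
theorem c_rel_31 : allRange D.relOK 98360 1137 = true := by decide +kernel
theorem c_rel_32 : allRange D.relOK 99497 1142 = true := by decide +kernel
theorem c_rel_33 : allRange D.relOK 100639 1144 = true := by decide +kernel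
theorem c_rel_34 : allRange D.relOK 101783 1141 = true := by decide +kernel
theorem c_rel_35 : allRange D.relOK 102924 1155 = true := by decide +kernel
theorem c_rel_36 : allRange D.relOK 104079 1134 = true := by decide +kernel
theorem c_rel_37 : allRange D.relOK 105213 1120 = true := by decide +kernel
theorem c_rel_38 : allRange D.relOK 106333 1144 = true := by decide +kernel
theorem c_rel_39 : allRange D.relOK 107477 1075 = true := by decide +kernel
theorem c_rel_40 : allRange D.relOK 108552 1016 = true := by decide +kernel
theorem c_rel_41 : allRange D.relOK 109568 1057 = true := by decide +kernel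
theorem c_rel_42 : allRange D.relOK 110625 1098 = true := by decide +kernel
theorem c_rel_43 : allRange D.relOK 111723 1100 = true := by decide +kernel
theorem c_rel_44 : allRange D.relOK 112823 1121 = true := by decide +kernel
theorem c_rel_45 : allRange D.relOK 113944 1146 = true := by decide +kernel
theorem c_rel_46 : allRange D.relOK 115090 1158 = true := by decide +kernel
theorem c_rel_47 : allRange D.relOK 116248 1170 = true := by decide +kernel
theorem c_rel_48 : allRange D.relOK 117418 1146 = true := by decide +kernel
theorem c_rel_49 : allRange D.relOK 118564 1186 = true := by decide +kernel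
theorem c_rel_50 : allRange D.relOK 119750 1191 = true := by decide +kernel
theorem c_rel_51 : allRange D.relOK 120941 1239 = true := by decide +kernel
theorem c_rel_52 : allRange D.relOK 122180 1229 = true := by decide +kernel
theorem c_rel_53 : allRange D.relOK 123409 1234 = true := by decide +kernel
theorem c_rel_54 : allRange D.relOK 124643 1156 = true := by decide +kernel
theorem c_rel_55 : allRange D.relOK 125799 1170 = true := by decide +kernel
theorem c_rel_56 : allRange D.relOK 126969 1160 = true := by decide +kernel
theorem c_rel_57 : allRange D.relOK 128129 1133 = true := by decide +kernel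
theorem c_rel_58 : allRange D.relOK 129262 1090 = true := by decide +kernel
theorem c_rel_59 : allRange D.relOK 130352 1120 = true := by decide +kernel
theorem c_rel_60 : allRange D.relOK 131472 1134 = true := by decide +kernel
theorem c_rel_61 : allRange D.relOK 132606 1116 = true := by decide +kernel
theorem c_rel_62 : allRange D.relOK 133722 1101 = true := by decide +kernel
theorem c_rel_63 : allRange D.relOK 134823 1092 = true := by decide +kernel
theorem c_rel_64 : allRange D.relOK 135915 1117 = true := by decide +kernel
theorem c_rel_65 : allRange D.relOK 137032 1131 = true := by decide +kernel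
theorem c_rel_66 : allRange D.relOK 138163 1074 = true := by decide +kernel
theorem c_rel_67 : allRange D.relOK 139237 1136 = true := by decide +kernel
theorem c_rel_68 : allRange D.relOK 140373 1143 = true := by decide +kernel
theorem c_rel_69 : allRange D.relOK 141516 1155 = true := by decide +kernel
theorem c_rel_70 : allRange D.relOK 142671 1142 = true := by decide +kernel
theorem c_rel_71 : allRange D.relOK 143813 1127 = true := by decide +kernel
theorem c_rel_72 : allRange D.relOK 144940 1105 = true := by decide +kernel
theorem c_rel_73 : allRange D.relOK 146045 1143 = true := by decide +kernel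
theorem c_rel_74 : allRange D.relOK 147188 1129 = true := by decide +kernel
theorem c_rel_75 : allRange D.relOK 148317 1133 = true := by decide +kernel
theorem c_rel_76 : allRange D.relOK 149450 1139 = true := by decide +kernel
theorem c_rel_77 : allRange D.relOK 150589 1104 = true := by decide +kernel
theorem c_rel_78 : allRange D.relOK 151693 1146 = true := by decide +kernel
theorem c_rel_79 : allRange D.relOK 152839 1125 = true := by decide +kernel
theorem c_rel_80 : allRange D.relOK 153964 1114 = true := by decide +kernel
theorem c_rel_81 : allRange D.relOK 155078 1152 = true := by decide +kernel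
theorem c_rel_82 : allRange D.relOK 156230 1154 = true := by decide +kernel
theorem c_rel_83 : allRange D.relOK 157384 1155 = true := by decide +kernel
theorem c_rel_84 : allRange D.relOK 158539 1151 = true := by decide +kernel
theorem c_rel_85 : allRange D.relOK 159690 1123 = true := by decide +kernel
theorem c_rel_86 : allRange D.relOK 160813 1150 = true := by decide +kernel

end Cfsg.Agent.Lib.Helper4.TCD.Co3pA
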