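import Cfsg.Agent.Lib.Helper4.TC11
import Cfsg.Agent.Lib.Helper4.TCD_Co3pA_Acc
import Cfsg.Agent.Lib.Helper4.TCD_Co3pL_D0
import Cfsg.Agent.Lib.Helper4.TCD_Co3pL_D1

namespace Cfsg.Agent.Lib.Helper4.TCD.Co3pL

open Cfsg.Agent.Lib.Helper4.TC Cfsg.Agent.Lib.Helper4.TCD.Co3pA

set_option maxRecDepth 100000

noncomputable def st8_s_1_3 (c : Nat) : Nat := @Bool.rec (fun _ => Nat) (st8_1) (st8_2) (Nat.ble 2 c)
noncomputable def st8_s_0_3 (c : Nat) : Nat := @Bool.rec (fun _ => Nat) (st8_0) (st8_s_1_3 c) (Nat.ble 1 c)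
noncomputable def st8_s_4_6 (c : Nat) : Nat := @Bool.rec (fun _ => Nat) (st8_4) (st8_5) (Nat.ble 5 c)
noncomputable def st8_s_3_6 (c : Nat) : Nat := @Bool.rec (fun _ => Nat) (st8_3) (st8_s_4_6 c) (Nat.ble 4 c)
noncomputable def st8_s_0_6 (c : Nat) : Nat := @Bool.rec (fun _ => Nat) (st8_s_0_3 c) (st8_s_3_6 c) (Nat.ble 3 c)
noncomputable def st8_s_7_9 (c : Nat) : Nat := @Bool.rec (fun _ => Nat) (st8_7) (st8_8) (Nat.ble 8 c)
noncomputable def st8_s_6_9 (c : Nat) : Nat := @Bool.rec (fun _ => Nat) (st8_6) (st8_s_7_9 c) (Nat.ble 7 c)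
noncomputable def st8_s_10_12 (c : Nat) : Nat := @Bool.rec (fun _ => Nat) (st8_10) (st8_11) (Nat.ble 11 c)
noncomputable def st8_s_9_12 (c : Nat) : Nat := @Bool.rec (fun _ => Nat) (st8_9) (st8_s_10_12 c) (Nat.ble 10 c)
noncomputable def st8_s_6_12 (c : Nat) : Nat := @Bool.rec (fun _ => Nat) (st8_s_6_9 c) (st8_s_9_12 c) (Nat.ble 9 c)
noncomputable def st8_s_0_12 (c : Nat) : Nat := @Bool.rec (fun _ => Nat) (st8_s_0_6 c) (st8_s_6_12 c) (Nat.ble 6 c)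
noncomputable def st8 (i : Nat) : Nat := rdw 16 65535 (st8_s_0_12 (Nat.shiftRight i 12)) (Nat.land i 4095)
noncomputable def st9_s_1_3 (c : Nat) : Nat := @Bool.rec (fun _ => Nat) (st9_1) (st9_2) (Nat.ble 2 c)
noncomputable def st9_s_0_3 (c : Nat) : Nat := @Bool.rec (fun _ => Nat) (st9_0) (st9_s_1_3 c) (Nat.ble 1 c)
noncomputable def st9_s_4_6 (c : Nat) : Nat := @Bool.rec (fun _ => Nat) (st9_4) (st9_5) (Nat.ble 5 c)
noncomputable def st9_s_3_6 (c : Nat) : Nat := @Bool.rec (fun _ => Nat) (st9_3) (st9_s_4_6 c) (Nat.ble 4 c)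
noncomputable def st9_s_0_6 (c : Nat) : Nat := @Bool.rec (fun _ => Nat) (st9_s_0_3 c) (st9_s_3_6 c) (Nat.ble 3 c)
noncomputable def st9_s_7_9 (c : Nat) : Nat := @Bool.rec (fun _ => Nat) (st9_7) (st9_8) (Nat.ble 8 c)
noncomputable def st9_s_6_9 (c : Nat) : Nat := @Bool.rec (fun _ => Nat) (st9_6) (st9_s_7_9 c) (Nat.ble 7 c)
noncomputable def st9_s_10_12 (c : Nat) : Nat := @Bool.rec (fun _ => Nat) (st9_10) (st9_11) (Nat.ble 11 c)
noncomputable def st9_s_9_12 (c : Nat) : Nat := @Bool.rec (fun _ => Nat) (st9_9) (st9_s_10_12 c) (Nat.ble 10 c)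
noncomputable def st9_s_6_12 (c : Nat) : Nat := @Bool.rec (fun _ => Nat) (st9_s_6_9 c) (st9_s_9_12 c) (Nat.ble 9 c)
noncomputable def st9_s_0_12 (c : Nat) : Nat := @Bool.rec (fun _ => Nat) (st9_s_0_6 c) (st9_s_6_12 c) (Nat.ble 6 c)
noncomputable def st9 (i : Nat) : Nat := rdw 16 65535 (st9_s_0_12 (Nat.shiftRight i 12)) (Nat.land i 4095)
noncomputable def st10_s_1_3 (c : Nat) : Nat := @Bool.rec (fun _ => Nat) (st10_1) (st10_2) (Nat.ble 2 c)
noncomputable def st10_s_0_3 (c : Nat) : Nat := @Bool.rec (fun _ => Nat) (st10_0) (st10_s_1_3 c) (Nat.ble 1 c)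
noncomputable def st10_s_4_6 (c : Nat) : Nat := @Bool.rec (fun _ => Nat) (st10_4) (st10_5) (Nat.ble 5 c)
noncomputable def st10_s_3_6 (c : Nat) : Nat := @Bool.rec (fun _ => Nat) (st10_3) (st10_s_4_6 c) (Nat.ble 4 c)
noncomputable def st10_s_0_6 (c : Nat) : Nat := @Bool.rec (fun _ => Nat) (st10_s_0_3 c) (st10_s_3_6 c) (Nat.ble 3 c)
noncomputable def st10_s_7_9 (c : Nat) : Nat := @Bool.rec (fun _ => Nat) (st10_7) (st10_8) (Nat.ble 8 c)
noncomputable def st10_s_6_9 (c : Nat) : Nat := @Bool.rec (fun _ => Nat) (st10_6) (st10_s_7_9 c) (Nat.ble 7 c)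
noncomputable def st10_s_10_12 (c : Nat) : Nat := @Bool.rec (fun _ => Nat) (st10_10) (st10_11) (Nat.ble 11 c)
noncomputable def st10_s_9_12 (c : Nat) : Nat := @Bool.rec (fun _ => Nat) (st10_9) (st10_s_10_12 c) (Nat.ble 10 c)
noncomputable def st10_s_6_12 (c : Nat) : Nat := @Bool.rec (fun _ => Nat) (st10_s_6_9 c) (st10_s_9_12 c) (Nat.ble 9 c)
noncomputable def st10_s_0_12 (c : Nat) : Nat := @Bool.rec (fun _ => Nat) (st10_s_0_6 c) (st10_s_6_12 c) (Nat.ble 6 c)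
noncomputable def st10 (i : Nat) : Nat := rdw 16 65535 (st10_s_0_12 (Nat.shiftRight i 12)) (Nat.land i 4095)
noncomputable def st11_s_1_3 (c : Nat) : Nat := @Bool.rec (fun _ => Nat) (st11_1) (st11_2) (Nat.ble 2 c)
noncomputable def st11_s_0_3 (c : Nat) : Nat := @Bool.rec (fun _ => Nat) (st11_0) (st11_s_1_3 c) (Nat.ble 1 c)
noncomputable def st11_s_4_6 (c : Nat) : Nat := @Bool.rec (fun _ => Nat) (st11_4) (st11_5) (Nat.ble 5 c)
noncomputable def st11_s_3_6 (c : Nat) : Nat := @Bool.rec (fun _ => Nat) (st11_3) (st11_s_4_6 c) (Nat.ble 4 c)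
noncomputable def st11_s_0_6 (c : Nat) : Nat := @Bool.rec (fun _ => Nat) (st11_s_0_3 c) (st11_s_3_6 c) (Nat.ble 3 c)
noncomputable def st11_s_7_9 (c : Nat) : Nat := @Bool.rec (fun _ => Nat) (st11_7) (st11_8) (Nat.ble 8 c)
noncomputable def st11_s_6_9 (c : Nat) : Nat := @Bool.rec (fun _ => Nat) (st11_6) (st11_s_7_9 c) (Nat.ble 7 c)
noncomputable def st11_s_10_12 (c : Nat) : Nat := @Bool.rec (fun _ => Nat) (st11_10) (st11_11) (Nat.ble 11 c)
noncomputable def st11_s_9_12 (c : Nat) : Nat := @Bool.rec (fun _ => Nat) (st11_9) (st11_s_10_12 c) (Nat.ble 10 c)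
noncomputable def st11_s_6_12 (c : Nat) : Nat := @Bool.rec (fun _ => Nat) (st11_s_6_9 c) (st11_s_9_12 c) (Nat.ble 9 c)
noncomputable def st11_s_0_12 (c : Nat) : Nat := @Bool.rec (fun _ => Nat) (st11_s_0_6 c) (st11_s_6_12 c) (Nat.ble 6 c)
noncomputable def st11 (i : Nat) : Nat := rdw 16 65535 (st11_s_0_12 (Nat.shiftRight i 12)) (Nat.land i 4095)
noncomputable def st12_s_1_3 (c : Nat) : Nat := @Bool.rec (fun _ => Nat) (st12_1) (st12_2) (Nat.ble 2 c)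
noncomputable def st12_s_0_3 (c : Nat) : Nat := @Bool.rec (fun _ => Nat) (st12_0) (st12_s_1_3 c) (Nat.ble 1 c)
noncomputable def st12_s_4_6 (c : Nat) : Nat := @Bool.rec (fun _ => Nat) (st12_4) (st12_5) (Nat.ble 5 c)
noncomputable def st12_s_3_6 (c : Nat) : Nat := @Bool.rec (fun _ => Nat) (st12_3) (st12_s_4_6 c) (Nat.ble 4 c)
noncomputable def st12_s_0_6 (c : Nat) : Nat := @Bool.rec (fun _ => Nat) (st12_s_0_3 c) (st12_s_3_6 c) (Nat.ble 3 c)
noncomputable def st12_s_7_9 (c : Nat) : Nat := @Bool.rec (fun _ => Nat) (st12_7) (st12_8) (Nat.ble 8 c)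
noncomputable def st12_s_6_9 (c : Nat) : Nat := @Bool.rec (fun _ => Nat) (st12_6) (st12_s_7_9 c) (Nat.ble 7 c)
noncomputable def st12_s_10_12 (c : Nat) : Nat := @Bool.rec (fun _ => Nat) (st12_10) (st12_11) (Nat.ble 11 c)
noncomputable def st12_s_9_12 (c : Nat) : Nat := @Bool.rec (fun _ => Nat) (st12_9) (st12_s_10_12 c) (Nat.ble 10 c)
noncomputable def st12_s_6_12 (c : Nat) : Nat := @Bool.rec (fun _ => Nat) (st12_s_6_9 c) (st12_s_9_12 c) (Nat.ble 9 c)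
noncomputable def st12_s_0_12 (c : Nat) : Nat := @Bool.rec (fun _ => Nat) (st12_s_0_6 c) (st12_s_6_12 c) (Nat.ble 6 c)
noncomputable def st12 (i : Nat) : Nat := rdw 16 65535 (st12_s_0_12 (Nat.shiftRight i 12)) (Nat.land i 4095)
noncomputable def st13_s_1_3 (c : Nat) : Nat := @Bool.rec (fun _ => Nat) (st13_1) (st13_2) (Nat.ble 2 c)
noncomputable def st13_s_0_3 (c : Nat) : Nat := @Bool.rec (fun _ => Nat) (st13_0) (st13_s_1_3 c) (Nat.ble 1 c)
noncomputable def st13_s_4_6 (c : Nat) : Nat := @Bool.rec (fun _ => Nat) (st13_4) (st13_5) (Nat.ble 5 c)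
noncomputable def st13_s_3_6 (c : Nat) : Nat := @Bool.rec (fun _ => Nat) (st13_3) (st13_s_4_6 c) (Nat.ble 4 c)
noncomputable def st13_s_0_6 (c : Nat) : Nat := @Bool.rec (fun _ => Nat) (st13_s_0_3 c) (st13_s_3_6 c) (Nat.ble 3 c)
noncomputable def st13_s_7_9 (c : Nat) : Nat := @Bool.rec (fun _ => Nat) (st13_7) (st13_8) (Nat.ble 8 c)
noncomputable def st13_s_6_9 (c : Nat) : Nat := @Bool.rec (fun _ => Nat) (st13_6) (st13_s_7_9 c) (Nat.ble 7 c)
noncomputable def st13_s_10_12 (c : Nat) : Nat := @Bool.rec (fun _ => Nat) (st13_10) (st13_11) (Nat.ble 11 c)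
noncomputable def st13_s_9_12 (c : Nat) : Nat := @Bool.rec (fun _ => Nat) (st13_9) (st13_s_10_12 c) (Nat.ble 10 c)
noncomputable def st13_s_6_12 (c : Nat) : Nat := @Bool.rec (fun _ => Nat) (st13_s_6_9 c) (st13_s_9_12 c) (Nat.ble 9 c)
noncomputable def st13_s_0_12 (c : Nat) : Nat := @Bool.rec (fun _ => Nat) (st13_s_0_6 c) (st13_s_6_12 c) (Nat.ble 6 c)
noncomputable def st13 (i : Nat) : Nat := rdw 16 65535 (st13_s_0_12 (Nat.shiftRight i 12)) (Nat.land i 4095)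
noncomputable def st14_s_1_3 (c : Nat) : Nat := @Bool.rec (fun _ => Nat) (st14_1) (st14_2) (Nat.ble 2 c)
noncomputable def st14_s_0_3 (c : Nat) : Nat := @Bool.rec (fun _ => Nat) (st14_0) (st14_s_1_3 c) (Nat.ble 1 c)
noncomputable def st14_s_4_6 (c : Nat) : Nat := @Bool.rec (fun _ => Nat) (st14_4) (st14_5) (Nat.ble 5 c)
noncomputable def st14_s_3_6 (c : Nat) : Nat := @Bool.rec (fun _ => Nat) (st14_3) (st14_s_4_6 c) (Nat.ble 4 c)
noncomputable def st14_s_0_6 (c : Nat) : Nat := @Bool.rec (fun _ => Nat) (st14_s_0_3 c) (st14_s_3_6 c) (Nat.ble 3 c)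
noncomputable def st14_s_7_9 (c : Nat) : Nat := @Bool.rec (fun _ => Nat) (st14_7) (st14_8) (Nat.ble 8 c)
noncomputable def st14_s_6_9 (c : Nat) : Nat := @Bool.rec (fun _ => Nat) (st14_6) (st14_s_7_9 c) (Nat.ble 7 c)
noncomputable def st14_s_10_12 (c : Nat) : Nat := @Bool.rec (fun _ => Nat) (st14_10) (st14_11) (Nat.ble 11 c)
noncomputable def st14_s_9_12 (c : Nat) : Nat := @Bool.rec (fun _ => Nat) (st14_9) (st14_s_10_12 c) (Nat.ble 10 c)
noncomputable def st14_s_6_12 (c : Nat) : Nat := @Bool.rec (fun _ => Nat) (st14_s_6_9 c) (st14_s_9_12 c) (Nat.ble 9 c)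
noncomputable def st14_s_0_12 (c : Nat) : Nat := @Bool.rec (fun _ => Nat) (st14_s_0_6 c) (st14_s_6_12 c) (Nat.ble 6 c)
noncomputable def st14 (i : Nat) : Nat := rdw 16 65535 (st14_s_0_12 (Nat.shiftRight i 12)) (Nat.land i 4095)
noncomputable def levTab (i : Nat) : Nat := rdw 3 7 levTab_0 i
noncomputable def betaTab (i : Nat) : Nat := rdw 16 65535 betaTab_0 i
noncomputable def nodeTab_s_1_3 (c : Nat) : Nat := @Bool.rec (fun _ => Nat) (nodeTab_1) (nodeTab_2) (Nat.ble 2 c)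
noncomputable def nodeTab_s_0_3 (c : Nat) : Nat := @Bool.rec (fun _ => Nat) (nodeTab_0) (nodeTab_s_1_3 c) (Nat.ble 1 c)
noncomputable def nodeTab_s_4_6 (c : Nat) : Nat := @Bool.rec (fun _ => Nat) (nodeTab_4) (nodeTab_5) (Nat.ble 5 c)
noncomputable def nodeTab_s_3_6 (c : Nat) : Nat := @Bool.rec (fun _ => Nat) (nodeTab_3) (nodeTab_s_4_6 c) (Nat.ble 4 c)
noncomputable def nodeTab_s_0_6 (c : Nat) : Nat := @Bool.rec (fun _ => Nat) (nodeTab_s_0_3 c) (nodeTab_s_3_6 c) (Nat.ble 3 c)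
noncomputable def nodeTab_s_7_9 (c : Nat) : Nat := @Bool.rec (fun _ => Nat) (nodeTab_7) (nodeTab_8) (Nat.ble 8 c)
noncomputable def nodeTab_s_6_9 (c : Nat) : Nat := @Bool.rec (fun _ => Nat) (nodeTab_6) (nodeTab_s_7_9 c) (Nat.ble 7 c)
noncomputable def nodeTab_s_10_12 (c : Nat) : Nat := @Bool.rec (fun _ => Nat) (nodeTab_10) (nodeTab_11) (Nat.ble 11 c)
noncomputable def nodeTab_s_9_12 (c : Nat) : Nat := @Bool.rec (fun _ => Nat) (nodeTab_9) (nodeTab_s_10_12 c) (Nat.ble 10 c)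
noncomputable def nodeTab_s_6_12 (c : Nat) : Nat := @Bool.rec (fun _ => Nat) (nodeTab_s_6_9 c) (nodeTab_s_9_12 c) (Nat.ble 9 c)
noncomputable def nodeTab_s_0_12 (c : Nat) : Nat := @Bool.rec (fun _ => Nat) (nodeTab_s_0_6 c) (nodeTab_s_6_12 c) (Nat.ble 6 c)
noncomputable def nodeTab_s_13_15 (c : Nat) : Nat := @Bool.rec (fun _ => Nat) (nodeTab_13) (nodeTab_14) (Nat.ble 14 c)
noncomputable def nodeTab_s_12_15 (c : Nat) : Nat := @Bool.rec (fun _ => Nat) (nodeTab_12) (nodeTab_s_13_15 c) (Nat.ble 13 c)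
noncomputable def nodeTab_s_16_18 (c : Nat) : Nat := @Bool.rec (fun _ => Nat) (nodeTab_16) (nodeTab_17) (Nat.ble 17 c)
noncomputable def nodeTab_s_15_18 (c : Nat) : Nat := @Bool.rec (fun _ => Nat) (nodeTab_15) (nodeTab_s_16_18 c) (Nat.ble 16 c)
noncomputable def nodeTab_s_12_18 (c : Nat) : Nat := @Bool.rec (fun _ => Nat) (nodeTab_s_12_15 c) (nodeTab_s_15_18 c) (Nat.ble 15 c)
noncomputable def nodeTab_s_19_21 (c : Nat) : Nat := @Bool.rec (fun _ => Nat) (nodeTab_19) (nodeTab_20) (Nat.ble 20 c)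
noncomputable def nodeTab_s_18_21 (c : Nat) : Nat := @Bool.rec (fun _ => Nat) (nodeTab_18) (nodeTab_s_19_21 c) (Nat.ble 19 c)
noncomputable def nodeTab_s_21_23 (c : Nat) : Nat := @Bool.rec (fun _ => Nat) (nodeTab_21) (nodeTab_22) (Nat.ble 22 c)
noncomputable def nodeTab_s_23_25 (c : Nat) : Nat := @Bool.rec (fun _ => Nat) (nodeTab_23) (nodeTab_24) (Nat.ble 24 c)
noncomputable def nodeTab_s_21_25 (c : Nat) : Nat := @Bool.rec (fun _ => Nat) (nodeTab_s_21_23 c) (nodeTab_s_23_25 c) (Nat.ble 23 c)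
noncomputable def nodeTab_s_18_25 (c : Nat) : Nat := @Bool.rec (fun _ => Nat) (nodeTab_s_18_21 c) (nodeTab_s_21_25 c) (Nat.ble 21 c)
noncomputable def nodeTab_s_12_25 (c : Nat) : Nat := @Bool.rec (fun _ => Nat) (nodeTab_s_12_18 c) (nodeTab_s_18_25 c) (Nat.ble 18 c)
noncomputable def nodeTab_s_0_25 (c : Nat) : Nat := @Bool.rec (fun _ => Nat) (nodeTab_s_0_12 c) (nodeTab_s_12_25 c) (Nat.ble 12 c)
noncomputable def nodeTab (i : Nat) : Nat := rdw 40 1099511627775 (nodeTab_s_0_25 (Nat.shiftRight i 11)) (Nat.land i 2047)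
noncomputable def offTab (i : Nat) : Nat := rdw 16 65535 offTab_0 i
noncomputable def nTab (i : Nat) : Nat := rdw 16 65535 nTab_0 i
noncomputable def rootTab (i : Nat) : Nat := rdw 16 65535 rootTab_0 i
noncomputable def tabF (i p : Nat) : Nat := @Bool.rec (fun _ => Nat) (@Bool.rec (fun _ => Nat) (@Bool.rec (fun _ => Nat) (col1 p) (@Bool.rec (fun _ => Nat) (col0 p) (col3 p) (Nat.ble 2 i)) (Nat.ble 1 i)) (@Bool.rec (fun _ => Nat) (@Bool.rec (fun _ => Nat) (col2 p) (col5 p) (Nat.ble 4 i)) (@Bool.rec (fun _ => Nat) (col4 p) (col7 p) (Nat.ble 6 i)) (Nat.ble 5 i)) (Nat.ble 3 i)) (@Bool.rec (fun _ => Nat) (@Bool.rec (fun _ => Nat) (@Bool.rec (fun _ => Nat) (col6 p) (st8 p) (Nat.ble 8 i)) (@Bool.rec (fun _ => Nat) (st9 p) (st10 p) (Nat.ble 10 i)) (Nat.ble 9 i)) (@Bool.rec (fun _ => Nat) (@Bool.rec (fun _ => Nat) (st11 p) (st12 p) (Nat.ble 12 i)) (@Bool.rec (fun _ => Nat) (st13 p) (st14 p) (Nat.ble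 14 i)) (Nat.ble 13 i)) (Nat.ble 11 i)) (Nat.ble 7 i)
def wAF : Nat → List Nat
  | 8 => [4, 4, 2, 6, 3, 0, 3, 6]
  | 9 => [8]
  | 10 => [8, 6, 2, 0, 3, 4, 6, 2, 4, 2, 4]
  | 11 => [10]
  | 12 => [5, 3, 6, 5, 9, 5, 6, 5, 0, 5, 8, 11, 11, 0, 11, 11, 0, 11, 11]
  | 13 => [8, 11, 6, 10, 4, 2, 6, 11, 9, 9, 4, 12, 11, 0, 12, 0, 10]
  | 14 => [8, 5, 3, 11, 0, 12, 0, 11, 11]
  | _ => []
def wBF : Nat → List Nat
  | 8 => [0, 2, 0, 6, 3, 5, 3, 0, 6]
  | 9 => []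
  | 10 => [0, 8, 5, 5, 6, 0, 2, 0, 6]
  | 11 => []
  | 12 => [11, 2, 6, 4, 0, 9, 6]
  | 13 => [11, 6, 12, 9, 6, 10, 6]
  | 14 => [3, 3, 8, 2]
  | _ => []
noncomputable def ptF (j idx : Nat) : Nat := Nat.land (nodeTab (Nat.add (offTab j) idx)) 65535
noncomputable def parF (j idx : Nat) : Nat := Nat.land (Nat.shiftRight (nodeTab (Nat.add (offTab j) idx)) 16) 65535
noncomputable def giF (j idx : Nat) : Nat := Nat.land (Nat.shiftRight (nodeTab (Nat.add (offTab j) idx)) 32) 15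
noncomputable def depF (j idx : Nat) : Nat := Nat.shiftRight (nodeTab (Nat.add (offTab j) idx)) 36

noncomputable def S : Sgs :=
  { N := 48600, k := 8, m := 15, tab := tabF, wA := wAF, wB := wBF, lev := levTab, r := 5, beta := betaTab,
    n := nTab, root := rootTab, pt := ptF, par := parF, gi := giF, dep := depF }

noncomputable def chk8 (p : Nat) : Bool := band (Nat.ble (Nat.succ (st8 p)) 48600) (Nat.beq (col5 (col5 (col3 (col7 (col2 (col1 (col2 (col7 (st8 p))))))))) (col1 (col3 (col1 (col7 (col2 (col4 (col2 (col1 (col7 p))))))))))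
theorem chk8_eq (p : Nat) : chk8 p = Sgs.permOK S 8 p := rfl
noncomputable def chk9 (p : Nat) : Bool := band (Nat.ble (Nat.succ (st9 p)) 48600) (Nat.beq (st8 (st9 p)) p)
theorem chk9_eq (p : Nat) : chk9 p = Sgs.permOK S 9 p := rfl
noncomputable def chk10 (p : Nat) : Bool := band (Nat.ble (Nat.succ (st10 p)) 48600) (Nat.beq (st8 (col7 (col3 (col1 (col2 (col5 (col7 (col3 (col5 (col3 (col5 (st10 p)))))))))))) (col1 (st8 (col4 (col4 (col7 (col1 (col3 (col1 (col7 p))))))))))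
theorem chk10_eq (p : Nat) : chk10 p = Sgs.permOK S 10 p := rfl
noncomputable def chk11 (p : Nat) : Bool := band (Nat.ble (Nat.succ (st11 p)) 48600) (Nat.beq (st10 (st11 p)) p)
theorem chk11_eq (p : Nat) : chk11 p = Sgs.permOK S 11 p := rfl
noncomputable def chk12 (p : Nat) : Bool := band (Nat.ble (Nat.succ (st12 p)) 48600) (Nat.beq (col4 (col2 (col7 (col4 (st9 (col4 (col7 (col4 (col1 (col4 (st8 (st11 (st11 (col1 (st11 (st11 (col1 (st11 (st11 (st12 p)))))))))))))))))))) (st11 (col3 (col7 (col5 (col1 (st9 (col7 p))))))))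
theorem chk12_eq (p : Nat) : chk12 p = Sgs.permOK S 12 p := rfl
noncomputable def chk13 (p : Nat) : Bool := band (Nat.ble (Nat.succ (st13 p)) 48600) (Nat.beq (st8 (st11 (col7 (st10 (col5 (col3 (col7 (st11 (st9 (st9 (col5 (st12 (st11 (col1 (st12 (col1 (st10 (st13 p)))))))))))))))))) (st11 (col7 (st12 (st9 (col7 (st10 (col7 p))))))))
theorem chk13_eq (p : Nat) : chk13 p = Sgs.permOK S 13 p := rfl
noncomputable def chk14 (p : Nat) : Bool := band (Nat.ble (Nat.succ (st14 p)) 48600) (Nat.beq (st8 (col4 (col2 (st11 (col1 (st12 (col1 (st11 (st11 (st14 p)))))))))) (col2 (col2 (st8 (col3 p)))))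
theorem chk14_eq (p : Nat) : chk14 p = Sgs.permOK S 14 p := rfl

end Cfsg.Agent.Lib.Helper4.TCD.Co3pL
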