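import Cfsg.Agent.Lib.Helper4.TCD_Co3pL_Acc

namespace Cfsg.Agent.Lib.Helper4.TCD.Co3pL

open Cfsg.Agent.Lib.Helper4.TC Cfsg.Agent.Lib.Helper4.TCD.Co3pA

set_option maxRecDepth 100000
set_option Elab.async false

theorem c_words : allRange S.wordsOK 8 7 = true := by decide +kernel
theorem c_fix : allGrid S.fixOK 0 15 5 = true := by decide +kernel
theorem c_root : allBelow (fun j => Nat.ble (Nat.succ (S.root j)) (S.n j)) 5 = true := by decide +kernel
theorem c_n0 : S.n 0 = 48600 := by decide +kernel
theorem c_n1 : S.n 1 = 1771 := by decide +kernel
theorem c_n2 : S.n 2 = 320 := by decide +kernel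
theorem c_n3 : S.n 3 = 9 := by decide +kernel
theorem c_n4 : S.n 4 = 2 := by decide +kernel
theorem c_p8_0 : allRange chk8 0 3000 = true := by decide +kernel
theorem c_p8_1 : allRange chk8 3000 3000 = true := by decide +kernel
theorem c_p8_2 : allRange chk8 6000 3000 = true := by decide +kernel
theorem c_p8_3 : allRange chk8 9000 3000 = true := by decide +kernel
theorem c_p8_4 : allRange chk8 12000 3000 = true := by decide +kernel
theorem c_p8_5 : allRange chk8 15000 3000 = true := by decide +kernel
theorem c_p8_6 : allRange chk8 18000 3000 = true := by decide +kernel
theorem c_p8_7 : allRange chk8 21000 3000 = true := by decide +kernel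
theorem c_p8_8 : allRange chk8 24000 3000 = true := by decide +kernel
theorem c_p8_9 : allRange chk8 27000 3000 = true := by decide +kernel
theorem c_p8_10 : allRange chk8 30000 3000 = true := by decide +kernel
theorem c_p8_11 : allRange chk8 33000 3000 = true := by decide +kernel
theorem c_p8_12 : allRange chk8 36000 3000 = true := by decide +kernel
theorem c_p8_13 : allRange chk8 39000 3000 = true := by decide +kernel
theorem c_p8_14 : allRange chk8 42000 3000 = true := by decide +kernel
theorem c_p8_15 : allRange chk8 45000 3000 = true := by decide +kernel
theorem c_p8_16 : allRange chk8 48000 600 = true := by decide +kernel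
theorem c_p9_0 : allRange chk9 0 15000 = true := by decide +kernel
theorem c_p9_1 : allRange chk9 15000 15000 = true := by decide +kernel
theorem c_p9_2 : allRange chk9 30000 15000 = true := by decide +kernel
theorem c_p9_3 : allRange chk9 45000 3600 = true := by decide +kernel
theorem c_p10_0 : allRange chk10 0 2608 = true := by decide +kernel
theorem c_p10_1 : allRange chk10 2608 2608 = true := by decide +kernel
theorem c_p10_2 : allRange chk10 5216 2608 = true := by decide +kernel
theorem c_p10_3 : allRange chk10 7824 2608 = true := by decide +kernel
theorem c_p10_4 : allRange chk10 10432 2608 = true := by decide +kernel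
theorem c_p10_5 : allRange chk10 13040 2608 = true := by decide +kernel
theorem c_p10_6 : allRange chk10 15648 2608 = true := by decide +kernel
theorem c_p10_7 : allRange chk10 18256 2608 = true := by decide +kernel
theorem c_p10_8 : allRange chk10 20864 2608 = true := by decide +kernel
theorem c_p10_9 : allRange chk10 23472 2608 = true := by decide +kernel
theorem c_p10_10 : allRange chk10 26080 2608 = true := by decide +kernel
theorem c_p10_11 : allRange chk10 28688 2608 = true := by decide +kernel
theorem c_p10_12 : allRange chk10 31296 2608 = true := by decide +kernel
theorem c_p10_13 : allRange chk10 33904 2608 = true := by decide +kernel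
theorem c_p10_14 : allRange chk10 36512 2608 = true := by decide +kernel
theorem c_p10_15 : allRange chk10 39120 2608 = true := by decide +kernel
theorem c_p10_16 : allRange chk10 41728 2608 = true := by decide +kernel
theorem c_p10_17 : allRange chk10 44336 2608 = true := by decide +kernel
theorem c_p10_18 : allRange chk10 46944 1656 = true := by decide +kernel
theorem c_p11_0 : allRange chk11 0 15000 = true := by decide +kernel
theorem c_p11_1 : allRange chk11 15000 15000 = true := by decide +kernel
theorem c_p11_2 : allRange chk11 30000 15000 = true := by decide +kernel
theorem c_p11_3 : allRange chk11 45000 3600 = true := by decide +kernel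
theorem c_p12_0 : allRange chk12 0 2068 = true := by decide +kernel
theorem c_p12_1 : allRange chk12 2068 2068 = true := by decide +kernel
theorem c_p12_2 : allRange chk12 4136 2068 = true := by decide +kernel
theorem c_p12_3 : allRange chk12 6204 2068 = true := by decide +kernel
theorem c_p12_4 : allRange chk12 8272 2068 = true := by decide +kernel
theorem c_p12_5 : allRange chk12 10340 2068 = true := by decide +kernel
theorem c_p12_6 : allRange chk12 12408 2068 = true := by decide +kernel
theorem c_p12_7 : allRange chk12 14476 2068 = true := by decide +kernel

end Cfsg.Agent.Lib.Helper4.TCD.Co3pL
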