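namespace Cfsg.Agent.Lib.Helper4.TCD.F55A

noncomputable def Atab_0 : Nat := nat_lit 0x4b815c1a5a8ad70593ac416c894d4921c2ceda5022a4901c8843631128a36312e67845cdc27068825484a14d04f876094dba298f296a0030014001339919c4a6050f2a710b481846b1a50c246d0247113099428810309100041000
noncomputable def Btab_0 : Nat := nat_lit 0x24880b1e6048c3034510162080d0c40483301c09019f8c0af84047a201bc1019d8806e840572201b81015b880cd840462a112ae8293d8528b4ea3c9011c9898bacc456624283121298986ae8026e2a0f41484390805d0400207
noncomputable def Ptab_0 : Nat := nat_lit 0x8515e348b299c9948a243889a2357b20e48652db184f151cb7430ec932de01023046bb44e8604061c9c8386ce196f19e348b11336306d7c28a5a0101ed5ec24cd8c1b5e48bb57a81d0c080c5a120f8a140c24cb74ed5ea0743123b4231c1e62dc71836bc90604146a5689930e08b428d4a885093a7850726b8d19342012d061c9ab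
noncomputable def RRtab_0 : Nat := nat_lit 0x79e4d369a0412084580004580006db6db6c9249249249249249aaa4d369a041208249283249283492492480000000000000000
noncomputable def rBtab_0 : Nat := nat_lit 0x84807c7874645a44403c383430201600
noncomputable def rLtab_0 : Nat := nat_lit 0x2222285b2222285b
noncomputable def nameTab_0 : Nat := nat_lit 0x1e0b1888969420
noncomputable def col0_0 : Nat := nat_lit 0x82940a35671
noncomputable def col1_0 : Nat := nat_lit 0x58a12374906
noncomputable def col2_0 : Nat := nat_lit 0x9876a432150
noncomputable def col3_0 : Nat := nat_lit 0x6a987154320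
noncomputable def finTab_0 : Nat := nat_lit 0x1f1ee5a8dbb621cc5f2622d403929c3a6051350d52c1789afd5a171bb02d05614201865ab0202
noncomputable def clsTab_0 : Nat := nat_lit 0x8939643a8647a2257610
noncomputable def oparTab_0 : Nat := nat_lit 0x98760432100
noncomputable def olabTab_0 : Nat := nat_lit 0x0

end Cfsg.Agent.Lib.Helper4.TCD.F55A
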