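namespace Cfsg.Agent.Lib.Helper4.TCD.F55L

noncomputable def st4_0 : Nat := nat_lit 0x76a98215430
noncomputable def st5_0 : Nat := nat_lit 0x876a9321540
noncomputable def levTab_0 : Nat := nat_lit 0x550
noncomputable def betaTab_0 : Nat := nat_lit 0x10
noncomputable def nodeTab_0 : Nat := nat_lit 0x582b411806a02000cdaaad3468933a01a62b514a09c189202000
noncomputable def offTab_0 : Nat := nat_lit 0x160
noncomputable def nTab_0 : Nat := nat_lit 0x5b
noncomputable def rootTab_0 : Nat := nat_lit 0x0

end Cfsg.Agent.Lib.Helper4.TCD.F55L
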