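import Cfsg.Agent.Lib.Helper4.TC11
import Cfsg.Agent.Lib.Helper4.TCD_F55A_Acc
import Cfsg.Agent.Lib.Helper4.TCD_F55L_D0

namespace Cfsg.Agent.Lib.Helper4.TCD.F55L

open Cfsg.Agent.Lib.Helper4.TC Cfsg.Agent.Lib.Helper4.TCD.F55A

set_option maxRecDepth 100000

noncomputable def st4 (i : Nat) : Nat := rdw 4 15 st4_0 i
noncomputable def st5 (i : Nat) : Nat := rdw 4 15 st5_0 i
noncomputable def levTab (i : Nat) : Nat := rdw 2 3 levTab_0 i
noncomputable def betaTab (i : Nat) : Nat := rdw 4 15 betaTab_0 i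
noncomputable def nodeTab (i : Nat) : Nat := rdw 13 8191 nodeTab_0 i
noncomputable def offTab (i : Nat) : Nat := rdw 5 31 offTab_0 i
noncomputable def nTab (i : Nat) : Nat := rdw 4 15 nTab_0 i
noncomputable def rootTab (i : Nat) : Nat := rdw 4 15 rootTab_0 i
noncomputable def tabF (i p : Nat) : Nat := @Bool.rec (fun _ => Nat) (@Bool.rec (fun _ => Nat) (col1 p) (@Bool.rec (fun _ => Nat) (col0 p) (col3 p) (Nat.ble 2 i)) (Nat.ble 1 i)) (@Bool.rec (fun _ => Nat) (col2 p) (@Bool.rec (fun _ => Nat) (st4 p) (st5 p) (Nat.ble 5 i)) (Nat.ble 4 i)) (Nat.ble 3 i)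
def wAF : Nat → List Nat
  | 4 => [1, 2, 0]
  | 5 => [4]
  | _ => []
def wBF : Nat → List Nat
  | 4 => [3, 3, 1]
  | 5 => []
  | _ => []
noncomputable def ptF (j idx : Nat) : Nat := Nat.land (nodeTab (Nat.add (offTab j) idx)) 15
noncomputable def parF (j idx : Nat) : Nat := Nat.land (Nat.shiftRight (nodeTab (Nat.add (offTab j) idx)) 4) 15
noncomputable def giF (j idx : Nat) : Nat := Nat.land (Nat.shiftRight (nodeTab (Nat.add (offTab j) idx)) 8) 7
noncomputable def depF (j idx : Nat) : Nat := Nat.shiftRight (nodeTab (Nat.add (offTab j) idx)) 11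

noncomputable def S : Sgs :=
  { N := 11, k := 4, m := 6, tab := tabF, wA := wAF, wB := wBF, lev := levTab, r := 2, beta := betaTab,
    n := nTab, root := rootTab, pt := ptF, par := parF, gi := giF, dep := depF }

noncomputable def chk4 (p : Nat) : Bool := band (Nat.ble (Nat.succ (st4 p)) 11) (Nat.beq (col0 (col3 (col1 (st4 p)))) (col2 (col2 (col0 p))))
theorem chk4_eq (p : Nat) : chk4 p = Sgs.permOK S 4 p := rfl
noncomputable def chk5 (p : Nat) : Bool := band (Nat.ble (Nat.succ (st5 p)) 11) (Nat.beq (st4 (st5 p)) p)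
theorem chk5_eq (p : Nat) : chk5 p = Sgs.permOK S 5 p := rfl

end Cfsg.Agent.Lib.Helper4.TCD.F55L
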