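namespace Cfsg.Agent.Lib.Helper4.TCD.F55U1

noncomputable def Atab_0 : Nat := nat_lit 0x920985c305aee1b0480180a03c952610cb411100
noncomputable def Btab_0 : Nat := nat_lit 0x4e404948071188da87526e223d05243888171100207
noncomputable def Ptab_0 : Nat := nat_lit 0x1e1877c670820b69a69a68a6175d75d764c1032cc55555554d1134d34d3151
noncomputable def RRtab_0 : Nat := nat_lit 0x38e4d369a0412084580004580006db6db6c9249249249249249a284d369a041208249283249283492492480000000000000000
noncomputable def rBtab_0 : Nat := nat_lit 0x84807c7874645a44403c383430201600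
noncomputable def rLtab_0 : Nat := nat_lit 0x2222285b2222285b
noncomputable def nameTab_0 : Nat := nat_lit 0x6a88
noncomputable def col0_0 : Nat := nat_lit 0x4688
noncomputable def col1_0 : Nat := nat_lit 0x4688
noncomputable def col2_0 : Nat := nat_lit 0x2819
noncomputable def col3_0 : Nat := nat_lit 0x3302
noncomputable def finTab_0 : Nat := nat_lit 0x60d5d62d96da3055540ca8a01024d2
noncomputable def clsTab_0 : Nat := nat_lit 0x119288

end Cfsg.Agent.Lib.Helper4.TCD.F55U1
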