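namespace Cfsg.Agent.Lib.Helper4.TCD.F55U2

noncomputable def Atab_0 : Nat := nat_lit 0x669a825d861d56414d420c52004200
noncomputable def Btab_0 : Nat := nat_lit 0x50b
noncomputable def Ptab_0 : Nat := nat_lit 0x290620833adf3
noncomputable def RRtab_0 : Nat := nat_lit 0x114455555555555114400000000000
noncomputable def rBtab_0 : Nat := nat_lit 0xe3479a580
noncomputable def rLtab_0 : Nat := nat_lit 0x22b22b
noncomputable def nameTab_0 : Nat := nat_lit 0xa9876543210
noncomputable def col0_0 : Nat := nat_lit 0x8a694725031
noncomputable def col1_0 : Nat := nat_lit 0x97a58361402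
noncomputable def finTab_0 : Nat := nat_lit 0x2d59de917ca0d5b9893a90519882
noncomputable def clsTab_0 : Nat := nat_lit 0xa9876543210

end Cfsg.Agent.Lib.Helper4.TCD.F55U2
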