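import Cfsg.Agent.Lib.Helper4.TC7
import Cfsg.Agent.Lib.Helper4.TCP_Fi22
import Cfsg.Agent.Lib.Helper4.TCD_Fi22b_D0
import Cfsg.Agent.Lib.Helper4.TCD_Fi22b_D1
import Cfsg.Agent.Lib.Helper4.TCD_Fi22b_D2

namespace Cfsg.Agent.Lib.Helper4.TCD.Fi22b

open Cfsg.Agent.Lib.Helper4.TC

set_option maxRecDepth 100000

noncomputable def Atab_s_0_2 (c : Nat) : Nat := @Bool.rec (fun _ => Nat) (Atab_0) (Atab_1) (Nat.ble 1 c)
noncomputable def Atab_s_2_4 (c : Nat) : Nat := @Bool.rec (fun _ => Nat) (Atab_2) (Atab_3) (Nat.ble 3 c)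
noncomputable def Atab_s_0_4 (c : Nat) : Nat := @Bool.rec (fun _ => Nat) (Atab_s_0_2 c) (Atab_s_2_4 c) (Nat.ble 2 c)
noncomputable def Atab_s_4_6 (c : Nat) : Nat := @Bool.rec (fun _ => Nat) (Atab_4) (Atab_5) (Nat.ble 5 c)
noncomputable def Atab_s_7_9 (c : Nat) : Nat := @Bool.rec (fun _ => Nat) (Atab_7) (Atab_8) (Nat.ble 8 c)
noncomputable def Atab_s_6_9 (c : Nat) : Nat := @Bool.rec (fun _ => Nat) (Atab_6) (Atab_s_7_9 c) (Nat.ble 7 c)
noncomputable def Atab_s_4_9 (c : Nat) : Nat := @Bool.rec (fun _ => Nat) (Atab_s_4_6 c) (Atab_s_6_9 c) (Nat.ble 6 c)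
noncomputable def Atab_s_0_9 (c : Nat) : Nat := @Bool.rec (fun _ => Nat) (Atab_s_0_4 c) (Atab_s_4_9 c) (Nat.ble 4 c)
noncomputable def Atab_s_9_11 (c : Nat) : Nat := @Bool.rec (fun _ => Nat) (Atab_9) (Atab_10) (Nat.ble 10 c)
noncomputable def Atab_s_12_14 (c : Nat) : Nat := @Bool.rec (fun _ => Nat) (Atab_12) (Atab_13) (Nat.ble 13 c)
noncomputable def Atab_s_11_14 (c : Nat) : Nat := @Bool.rec (fun _ => Nat) (Atab_11) (Atab_s_12_14 c) (Nat.ble 12 c)
noncomputable def Atab_s_9_14 (c : Nat) : Nat := @Bool.rec (fun _ => Nat) (Atab_s_9_11 c) (Atab_s_11_14 c) (Nat.ble 11 c)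
noncomputable def Atab_s_14_16 (c : Nat) : Nat := @Bool.rec (fun _ => Nat) (Atab_14) (Atab_15) (Nat.ble 15 c)
noncomputable def Atab_s_17_19 (c : Nat) : Nat := @Bool.rec (fun _ => Nat) (Atab_17) (Atab_18) (Nat.ble 18 c)
noncomputable def Atab_s_16_19 (c : Nat) : Nat := @Bool.rec (fun _ => Nat) (Atab_16) (Atab_s_17_19 c) (Nat.ble 17 c)
noncomputable def Atab_s_14_19 (c : Nat) : Nat := @Bool.rec (fun _ => Nat) (Atab_s_14_16 c) (Atab_s_16_19 c) (Nat.ble 16 c)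
noncomputable def Atab_s_9_19 (c : Nat) : Nat := @Bool.rec (fun _ => Nat) (Atab_s_9_14 c) (Atab_s_14_19 c) (Nat.ble 14 c)
noncomputable def Atab_s_0_19 (c : Nat) : Nat := @Bool.rec (fun _ => Nat) (Atab_s_0_9 c) (Atab_s_9_19 c) (Nat.ble 9 c)
noncomputable def Atab_s_19_21 (c : Nat) : Nat := @Bool.rec (fun _ => Nat) (Atab_19) (Atab_20) (Nat.ble 20 c)
noncomputable def Atab_s_21_23 (c : Nat) : Nat := @Bool.rec (fun _ => Nat) (Atab_21) (Atab_22) (Nat.ble 22 c)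
noncomputable def Atab_s_19_23 (c : Nat) : Nat := @Bool.rec (fun _ => Nat) (Atab_s_19_21 c) (Atab_s_21_23 c) (Nat.ble 21 c)
noncomputable def Atab_s_23_25 (c : Nat) : Nat := @Bool.rec (fun _ => Nat) (Atab_23) (Atab_24) (Nat.ble 24 c)
noncomputable def Atab_s_26_28 (c : Nat) : Nat := @Bool.rec (fun _ => Nat) (Atab_26) (Atab_27) (Nat.ble 27 c)
noncomputable def Atab_s_25_28 (c : Nat) : Nat := @Bool.rec (fun _ => Nat) (Atab_25) (Atab_s_26_28 c) (Nat.ble 26 c)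
noncomputable def Atab_s_23_28 (c : Nat) : Nat := @Bool.rec (fun _ => Nat) (Atab_s_23_25 c) (Atab_s_25_28 c) (Nat.ble 25 c)
noncomputable def Atab_s_19_28 (c : Nat) : Nat := @Bool.rec (fun _ => Nat) (Atab_s_19_23 c) (Atab_s_23_28 c) (Nat.ble 23 c)
noncomputable def Atab_s_28_30 (c : Nat) : Nat := @Bool.rec (fun _ => Nat) (Atab_28) (Atab_29) (Nat.ble 29 c)
noncomputable def Atab_s_31_33 (c : Nat) : Nat := @Bool.rec (fun _ => Nat) (Atab_31) (Atab_32) (Nat.ble 32 c)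
noncomputable def Atab_s_30_33 (c : Nat) : Nat := @Bool.rec (fun _ => Nat) (Atab_30) (Atab_s_31_33 c) (Nat.ble 31 c)
noncomputable def Atab_s_28_33 (c : Nat) : Nat := @Bool.rec (fun _ => Nat) (Atab_s_28_30 c) (Atab_s_30_33 c) (Nat.ble 30 c)
noncomputable def Atab_s_33_35 (c : Nat) : Nat := @Bool.rec (fun _ => Nat) (Atab_33) (Atab_34) (Nat.ble 34 c)
noncomputable def Atab_s_36_38 (c : Nat) : Nat := @Bool.rec (fun _ => Nat) (Atab_36) (Atab_37) (Nat.ble 37 c)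
noncomputable def Atab_s_35_38 (c : Nat) : Nat := @Bool.rec (fun _ => Nat) (Atab_35) (Atab_s_36_38 c) (Nat.ble 36 c)
noncomputable def Atab_s_33_38 (c : Nat) : Nat := @Bool.rec (fun _ => Nat) (Atab_s_33_35 c) (Atab_s_35_38 c) (Nat.ble 35 c)
noncomputable def Atab_s_28_38 (c : Nat) : Nat := @Bool.rec (fun _ => Nat) (Atab_s_28_33 c) (Atab_s_33_38 c) (Nat.ble 33 c)
noncomputable def Atab_s_19_38 (c : Nat) : Nat := @Bool.rec (fun _ => Nat) (Atab_s_19_28 c) (Atab_s_28_38 c) (Nat.ble 28 c)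
noncomputable def Atab_s_0_38 (c : Nat) : Nat := @Bool.rec (fun _ => Nat) (Atab_s_0_19 c) (Atab_s_19_38 c) (Nat.ble 19 c)
noncomputable def Atab (i : Nat) : Nat := rdw 33 8589934591 (Atab_s_0_38 (Nat.shiftRight i 11)) (Nat.land i 2047)
noncomputable def Btab_s_1_3 (c : Nat) : Nat := @Bool.rec (fun _ => Nat) (Btab_1) (Btab_2) (Nat.ble 2 c)
noncomputable def Btab_s_0_3 (c : Nat) : Nat := @Bool.rec (fun _ => Nat) (Btab_0) (Btab_s_1_3 c) (Nat.ble 1 c)
noncomputable def Btab_s_3_5 (c : Nat) : Nat := @Bool.rec (fun _ => Nat) (Btab_3) (Btab_4) (Nat.ble 4 c)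
noncomputable def Btab_s_5_7 (c : Nat) : Nat := @Bool.rec (fun _ => Nat) (Btab_5) (Btab_6) (Nat.ble 6 c)
noncomputable def Btab_s_3_7 (c : Nat) : Nat := @Bool.rec (fun _ => Nat) (Btab_s_3_5 c) (Btab_s_5_7 c) (Nat.ble 5 c)
noncomputable def Btab_s_0_7 (c : Nat) : Nat := @Bool.rec (fun _ => Nat) (Btab_s_0_3 c) (Btab_s_3_7 c) (Nat.ble 3 c)
noncomputable def Btab_s_7_9 (c : Nat) : Nat := @Bool.rec (fun _ => Nat) (Btab_7) (Btab_8) (Nat.ble 8 c)
noncomputable def Btab_s_9_11 (c : Nat) : Nat := @Bool.rec (fun _ => Nat) (Btab_9) (Btab_10) (Nat.ble 10 c)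
noncomputable def Btab_s_7_11 (c : Nat) : Nat := @Bool.rec (fun _ => Nat) (Btab_s_7_9 c) (Btab_s_9_11 c) (Nat.ble 9 c)
noncomputable def Btab_s_11_13 (c : Nat) : Nat := @Bool.rec (fun _ => Nat) (Btab_11) (Btab_12) (Nat.ble 12 c)
noncomputable def Btab_s_13_15 (c : Nat) : Nat := @Bool.rec (fun _ => Nat) (Btab_13) (Btab_14) (Nat.ble 14 c)
noncomputable def Btab_s_11_15 (c : Nat) : Nat := @Bool.rec (fun _ => Nat) (Btab_s_11_13 c) (Btab_s_13_15 c) (Nat.ble 13 c)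
noncomputable def Btab_s_7_15 (c : Nat) : Nat := @Bool.rec (fun _ => Nat) (Btab_s_7_11 c) (Btab_s_11_15 c) (Nat.ble 11 c)
noncomputable def Btab_s_0_15 (c : Nat) : Nat := @Bool.rec (fun _ => Nat) (Btab_s_0_7 c) (Btab_s_7_15 c) (Nat.ble 7 c)
noncomputable def Btab_s_16_18 (c : Nat) : Nat := @Bool.rec (fun _ => Nat) (Btab_16) (Btab_17) (Nat.ble 17 c)
noncomputable def Btab_s_15_18 (c : Nat) : Nat := @Bool.rec (fun _ => Nat) (Btab_15) (Btab_s_16_18 c) (Nat.ble 16 c)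
noncomputable def Btab_s_18_20 (c : Nat) : Nat := @Bool.rec (fun _ => Nat) (Btab_18) (Btab_19) (Nat.ble 19 c)
noncomputable def Btab_s_20_22 (c : Nat) : Nat := @Bool.rec (fun _ => Nat) (Btab_20) (Btab_21) (Nat.ble 21 c)
noncomputable def Btab_s_18_22 (c : Nat) : Nat := @Bool.rec (fun _ => Nat) (Btab_s_18_20 c) (Btab_s_20_22 c) (Nat.ble 20 c)
noncomputable def Btab_s_15_22 (c : Nat) : Nat := @Bool.rec (fun _ => Nat) (Btab_s_15_18 c) (Btab_s_18_22 c) (Nat.ble 18 c)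
noncomputable def Btab_s_22_24 (c : Nat) : Nat := @Bool.rec (fun _ => Nat) (Btab_22) (Btab_23) (Nat.ble 23 c)
noncomputable def Btab_s_24_26 (c : Nat) : Nat := @Bool.rec (fun _ => Nat) (Btab_24) (Btab_25) (Nat.ble 25 c)
noncomputable def Btab_s_22_26 (c : Nat) : Nat := @Bool.rec (fun _ => Nat) (Btab_s_22_24 c) (Btab_s_24_26 c) (Nat.ble 24 c)
noncomputable def Btab_s_26_28 (c : Nat) : Nat := @Bool.rec (fun _ => Nat) (Btab_26) (Btab_27) (Nat.ble 27 c)
noncomputable def Btab_s_28_30 (c : Nat) : Nat := @Bool.rec (fun _ => Nat) (Btab_28) (Btab_29) (Nat.ble 29 c)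
noncomputable def Btab_s_26_30 (c : Nat) : Nat := @Bool.rec (fun _ => Nat) (Btab_s_26_28 c) (Btab_s_28_30 c) (Nat.ble 28 c)
noncomputable def Btab_s_22_30 (c : Nat) : Nat := @Bool.rec (fun _ => Nat) (Btab_s_22_26 c) (Btab_s_26_30 c) (Nat.ble 26 c)
noncomputable def Btab_s_15_30 (c : Nat) : Nat := @Bool.rec (fun _ => Nat) (Btab_s_15_22 c) (Btab_s_22_30 c) (Nat.ble 22 c)
noncomputable def Btab_s_0_30 (c : Nat) : Nat := @Bool.rec (fun _ => Nat) (Btab_s_0_15 c) (Btab_s_15_30 c) (Nat.ble 15 c)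
noncomputable def Btab (i : Nat) : Nat := rdw 40 1099511627775 (Btab_s_0_30 (Nat.shiftRight i 11)) (Nat.land i 2047)
noncomputable def Ptab_s_1_3 (c : Nat) : Nat := @Bool.rec (fun _ => Nat) (Ptab_1) (Ptab_2) (Nat.ble 2 c)
noncomputable def Ptab_s_0_3 (c : Nat) : Nat := @Bool.rec (fun _ => Nat) (Ptab_0) (Ptab_s_1_3 c) (Nat.ble 1 c)
noncomputable def Ptab_s_4_6 (c : Nat) : Nat := @Bool.rec (fun _ => Nat) (Ptab_4) (Ptab_5) (Nat.ble 5 c)
noncomputable def Ptab_s_3_6 (c : Nat) : Nat := @Bool.rec (fun _ => Nat) (Ptab_3) (Ptab_s_4_6 c) (Nat.ble 4 c)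
noncomputable def Ptab_s_0_6 (c : Nat) : Nat := @Bool.rec (fun _ => Nat) (Ptab_s_0_3 c) (Ptab_s_3_6 c) (Nat.ble 3 c)
noncomputable def Ptab_s_7_9 (c : Nat) : Nat := @Bool.rec (fun _ => Nat) (Ptab_7) (Ptab_8) (Nat.ble 8 c)
noncomputable def Ptab_s_6_9 (c : Nat) : Nat := @Bool.rec (fun _ => Nat) (Ptab_6) (Ptab_s_7_9 c) (Nat.ble 7 c)
noncomputable def Ptab_s_10_12 (c : Nat) : Nat := @Bool.rec (fun _ => Nat) (Ptab_10) (Ptab_11) (Nat.ble 11 c)
noncomputable def Ptab_s_9_12 (c : Nat) : Nat := @Bool.rec (fun _ => Nat) (Ptab_9) (Ptab_s_10_12 c) (Nat.ble 10 c)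
noncomputable def Ptab_s_6_12 (c : Nat) : Nat := @Bool.rec (fun _ => Nat) (Ptab_s_6_9 c) (Ptab_s_9_12 c) (Nat.ble 9 c)
noncomputable def Ptab_s_0_12 (c : Nat) : Nat := @Bool.rec (fun _ => Nat) (Ptab_s_0_6 c) (Ptab_s_6_12 c) (Nat.ble 6 c)
noncomputable def Ptab_s_13_15 (c : Nat) : Nat := @Bool.rec (fun _ => Nat) (Ptab_13) (Ptab_14) (Nat.ble 14 c)
noncomputable def Ptab_s_12_15 (c : Nat) : Nat := @Bool.rec (fun _ => Nat) (Ptab_12) (Ptab_s_13_15 c) (Nat.ble 13 c)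
noncomputable def Ptab_s_16_18 (c : Nat) : Nat := @Bool.rec (fun _ => Nat) (Ptab_16) (Ptab_17) (Nat.ble 17 c)
noncomputable def Ptab_s_15_18 (c : Nat) : Nat := @Bool.rec (fun _ => Nat) (Ptab_15) (Ptab_s_16_18 c) (Nat.ble 16 c)
noncomputable def Ptab_s_12_18 (c : Nat) : Nat := @Bool.rec (fun _ => Nat) (Ptab_s_12_15 c) (Ptab_s_15_18 c) (Nat.ble 15 c)
noncomputable def Ptab_s_19_21 (c : Nat) : Nat := @Bool.rec (fun _ => Nat) (Ptab_19) (Ptab_20) (Nat.ble 20 c)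
noncomputable def Ptab_s_18_21 (c : Nat) : Nat := @Bool.rec (fun _ => Nat) (Ptab_18) (Ptab_s_19_21 c) (Nat.ble 19 c)
noncomputable def Ptab_s_21_23 (c : Nat) : Nat := @Bool.rec (fun _ => Nat) (Ptab_21) (Ptab_22) (Nat.ble 22 c)
noncomputable def Ptab_s_23_25 (c : Nat) : Nat := @Bool.rec (fun _ => Nat) (Ptab_23) (Ptab_24) (Nat.ble 24 c)
noncomputable def Ptab_s_21_25 (c : Nat) : Nat := @Bool.rec (fun _ => Nat) (Ptab_s_21_23 c) (Ptab_s_23_25 c) (Nat.ble 23 c)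
noncomputable def Ptab_s_18_25 (c : Nat) : Nat := @Bool.rec (fun _ => Nat) (Ptab_s_18_21 c) (Ptab_s_21_25 c) (Nat.ble 21 c)
noncomputable def Ptab_s_12_25 (c : Nat) : Nat := @Bool.rec (fun _ => Nat) (Ptab_s_12_18 c) (Ptab_s_18_25 c) (Nat.ble 18 c)
noncomputable def Ptab_s_0_25 (c : Nat) : Nat := @Bool.rec (fun _ => Nat) (Ptab_s_0_12 c) (Ptab_s_12_25 c) (Nat.ble 12 c)
noncomputable def Ptab_s_26_28 (c : Nat) : Nat := @Bool.rec (fun _ => Nat) (Ptab_26) (Ptab_27) (Nat.ble 27 c)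
noncomputable def Ptab_s_25_28 (c : Nat) : Nat := @Bool.rec (fun _ => Nat) (Ptab_25) (Ptab_s_26_28 c) (Nat.ble 26 c)
noncomputable def Ptab_s_29_31 (c : Nat) : Nat := @Bool.rec (fun _ => Nat) (Ptab_29) (Ptab_30) (Nat.ble 30 c)
noncomputable def Ptab_s_28_31 (c : Nat) : Nat := @Bool.rec (fun _ => Nat) (Ptab_28) (Ptab_s_29_31 c) (Nat.ble 29 c)
noncomputable def Ptab_s_25_31 (c : Nat) : Nat := @Bool.rec (fun _ => Nat) (Ptab_s_25_28 c) (Ptab_s_28_31 c) (Nat.ble 28 c)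
noncomputable def Ptab_s_32_34 (c : Nat) : Nat := @Bool.rec (fun _ => Nat) (Ptab_32) (Ptab_33) (Nat.ble 33 c)
noncomputable def Ptab_s_31_34 (c : Nat) : Nat := @Bool.rec (fun _ => Nat) (Ptab_31) (Ptab_s_32_34 c) (Nat.ble 32 c)
noncomputable def Ptab_s_35_37 (c : Nat) : Nat := @Bool.rec (fun _ => Nat) (Ptab_35) (Ptab_36) (Nat.ble 36 c)
noncomputable def Ptab_s_34_37 (c : Nat) : Nat := @Bool.rec (fun _ => Nat) (Ptab_34) (Ptab_s_35_37 c) (Nat.ble 35 c)
noncomputable def Ptab_s_31_37 (c : Nat) : Nat := @Bool.rec (fun _ => Nat) (Ptab_s_31_34 c) (Ptab_s_34_37 c) (Nat.ble 34 c)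
noncomputable def Ptab_s_25_37 (c : Nat) : Nat := @Bool.rec (fun _ => Nat) (Ptab_s_25_31 c) (Ptab_s_31_37 c) (Nat.ble 31 c)
noncomputable def Ptab_s_38_40 (c : Nat) : Nat := @Bool.rec (fun _ => Nat) (Ptab_38) (Ptab_39) (Nat.ble 39 c)
noncomputable def Ptab_s_37_40 (c : Nat) : Nat := @Bool.rec (fun _ => Nat) (Ptab_37) (Ptab_s_38_40 c) (Nat.ble 38 c)
noncomputable def Ptab_s_41_43 (c : Nat) : Nat := @Bool.rec (fun _ => Nat) (Ptab_41) (Ptab_42) (Nat.ble 42 c)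
noncomputable def Ptab_s_40_43 (c : Nat) : Nat := @Bool.rec (fun _ => Nat) (Ptab_40) (Ptab_s_41_43 c) (Nat.ble 41 c)
noncomputable def Ptab_s_37_43 (c : Nat) : Nat := @Bool.rec (fun _ => Nat) (Ptab_s_37_40 c) (Ptab_s_40_43 c) (Nat.ble 40 c)
noncomputable def Ptab_s_44_46 (c : Nat) : Nat := @Bool.rec (fun _ => Nat) (Ptab_44) (Ptab_45) (Nat.ble 45 c)
noncomputable def Ptab_s_43_46 (c : Nat) : Nat := @Bool.rec (fun _ => Nat) (Ptab_43) (Ptab_s_44_46 c) (Nat.ble 44 c)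
noncomputable def Ptab_s_46_48 (c : Nat) : Nat := @Bool.rec (fun _ => Nat) (Ptab_46) (Ptab_47) (Nat.ble 47 c)
noncomputable def Ptab_s_48_50 (c : Nat) : Nat := @Bool.rec (fun _ => Nat) (Ptab_48) (Ptab_49) (Nat.ble 49 c)
noncomputable def Ptab_s_46_50 (c : Nat) : Nat := @Bool.rec (fun _ => Nat) (Ptab_s_46_48 c) (Ptab_s_48_50 c) (Nat.ble 48 c)
noncomputable def Ptab_s_43_50 (c : Nat) : Nat := @Bool.rec (fun _ => Nat) (Ptab_s_43_46 c) (Ptab_s_46_50 c) (Nat.ble 46 c)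
noncomputable def Ptab_s_37_50 (c : Nat) : Nat := @Bool.rec (fun _ => Nat) (Ptab_s_37_43 c) (Ptab_s_43_50 c) (Nat.ble 43 c)
noncomputable def Ptab_s_25_50 (c : Nat) : Nat := @Bool.rec (fun _ => Nat) (Ptab_s_25_37 c) (Ptab_s_37_50 c) (Nat.ble 37 c)
noncomputable def Ptab_s_0_50 (c : Nat) : Nat := @Bool.rec (fun _ => Nat) (Ptab_s_0_25 c) (Ptab_s_25_50 c) (Nat.ble 25 c)
noncomputable def Ptab (i : Nat) : Nat := rdw 18 262143 (Ptab_s_0_50 (Nat.shiftRight i 12)) (Nat.land i 4095)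
noncomputable def RRtab (i : Nat) : Nat := rdw 5 31 RRtab_0 i
noncomputable def rBtab (i : Nat) : Nat := rdw 11 2047 rBtab_0 i
noncomputable def rLtab (i : Nat) : Nat := rdw 7 127 rLtab_0 i
noncomputable def nameTab_s_0_2 (c : Nat) : Nat := @Bool.rec (fun _ => Nat) (nameTab_0) (nameTab_1) (Nat.ble 1 c)
noncomputable def nameTab_s_2_4 (c : Nat) : Nat := @Bool.rec (fun _ => Nat) (nameTab_2) (nameTab_3) (Nat.ble 3 c)
noncomputable def nameTab_s_0_4 (c : Nat) : Nat := @Bool.rec (fun _ => Nat) (nameTab_s_0_2 c) (nameTab_s_2_4 c) (Nat.ble 2 c)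
noncomputable def nameTab (i : Nat) : Nat := rdw 14 16383 (nameTab_s_0_4 (Nat.shiftRight i 12)) (Nat.land i 4095)
noncomputable def col0_s_0_2 (c : Nat) : Nat := @Bool.rec (fun _ => Nat) (col0_0) (col0_1) (Nat.ble 1 c)
noncomputable def col0_s_2_4 (c : Nat) : Nat := @Bool.rec (fun _ => Nat) (col0_2) (col0_3) (Nat.ble 3 c)
noncomputable def col0_s_0_4 (c : Nat) : Nat := @Bool.rec (fun _ => Nat) (col0_s_0_2 c) (col0_s_2_4 c) (Nat.ble 2 c)
noncomputable def col0 (i : Nat) : Nat := rdw 14 16383 (col0_s_0_4 (Nat.shiftRight i 12)) (Nat.land i 4095)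
noncomputable def col1_s_0_2 (c : Nat) : Nat := @Bool.rec (fun _ => Nat) (col1_0) (col1_1) (Nat.ble 1 c)
noncomputable def col1_s_2_4 (c : Nat) : Nat := @Bool.rec (fun _ => Nat) (col1_2) (col1_3) (Nat.ble 3 c)
noncomputable def col1_s_0_4 (c : Nat) : Nat := @Bool.rec (fun _ => Nat) (col1_s_0_2 c) (col1_s_2_4 c) (Nat.ble 2 c)
noncomputable def col1 (i : Nat) : Nat := rdw 14 16383 (col1_s_0_4 (Nat.shiftRight i 12)) (Nat.land i 4095)
noncomputable def col2_s_0_2 (c : Nat) : Nat := @Bool.rec (fun _ => Nat) (col2_0) (col2_1) (Nat.ble 1 c)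
noncomputable def col2_s_2_4 (c : Nat) : Nat := @Bool.rec (fun _ => Nat) (col2_2) (col2_3) (Nat.ble 3 c)
noncomputable def col2_s_0_4 (c : Nat) : Nat := @Bool.rec (fun _ => Nat) (col2_s_0_2 c) (col2_s_2_4 c) (Nat.ble 2 c)
noncomputable def col2 (i : Nat) : Nat := rdw 14 16383 (col2_s_0_4 (Nat.shiftRight i 12)) (Nat.land i 4095)
noncomputable def col3_s_0_2 (c : Nat) : Nat := @Bool.rec (fun _ => Nat) (col3_0) (col3_1) (Nat.ble 1 c)
noncomputable def col3_s_2_4 (c : Nat) : Nat := @Bool.rec (fun _ => Nat) (col3_2) (col3_3) (Nat.ble 3 c)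
noncomputable def col3_s_0_4 (c : Nat) : Nat := @Bool.rec (fun _ => Nat) (col3_s_0_2 c) (col3_s_2_4 c) (Nat.ble 2 c)
noncomputable def col3 (i : Nat) : Nat := rdw 14 16383 (col3_s_0_4 (Nat.shiftRight i 12)) (Nat.land i 4095)
noncomputable def col4_s_0_2 (c : Nat) : Nat := @Bool.rec (fun _ => Nat) (col4_0) (col4_1) (Nat.ble 1 c)
noncomputable def col4_s_2_4 (c : Nat) : Nat := @Bool.rec (fun _ => Nat) (col4_2) (col4_3) (Nat.ble 3 c)
noncomputable def col4_s_0_4 (c : Nat) : Nat := @Bool.rec (fun _ => Nat) (col4_s_0_2 c) (col4_s_2_4 c) (Nat.ble 2 c)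
noncomputable def col4 (i : Nat) : Nat := rdw 14 16383 (col4_s_0_4 (Nat.shiftRight i 12)) (Nat.land i 4095)
noncomputable def col5_s_0_2 (c : Nat) : Nat := @Bool.rec (fun _ => Nat) (col5_0) (col5_1) (Nat.ble 1 c)
noncomputable def col5_s_2_4 (c : Nat) : Nat := @Bool.rec (fun _ => Nat) (col5_2) (col5_3) (Nat.ble 3 c)
noncomputable def col5_s_0_4 (c : Nat) : Nat := @Bool.rec (fun _ => Nat) (col5_s_0_2 c) (col5_s_2_4 c) (Nat.ble 2 c)
noncomputable def col5 (i : Nat) : Nat := rdw 14 16383 (col5_s_0_4 (Nat.shiftRight i 12)) (Nat.land i 4095)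
noncomputable def col6_s_0_2 (c : Nat) : Nat := @Bool.rec (fun _ => Nat) (col6_0) (col6_1) (Nat.ble 1 c)
noncomputable def col6_s_2_4 (c : Nat) : Nat := @Bool.rec (fun _ => Nat) (col6_2) (col6_3) (Nat.ble 3 c)
noncomputable def col6_s_0_4 (c : Nat) : Nat := @Bool.rec (fun _ => Nat) (col6_s_0_2 c) (col6_s_2_4 c) (Nat.ble 2 c)
noncomputable def col6 (i : Nat) : Nat := rdw 14 16383 (col6_s_0_4 (Nat.shiftRight i 12)) (Nat.land i 4095)
noncomputable def col7_s_0_2 (c : Nat) : Nat := @Bool.rec (fun _ => Nat) (col7_0) (col7_1) (Nat.ble 1 c)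
noncomputable def col7_s_2_4 (c : Nat) : Nat := @Bool.rec (fun _ => Nat) (col7_2) (col7_3) (Nat.ble 3 c)
noncomputable def col7_s_0_4 (c : Nat) : Nat := @Bool.rec (fun _ => Nat) (col7_s_0_2 c) (col7_s_2_4 c) (Nat.ble 2 c)
noncomputable def col7 (i : Nat) : Nat := rdw 14 16383 (col7_s_0_4 (Nat.shiftRight i 12)) (Nat.land i 4095)
noncomputable def col8_s_0_2 (c : Nat) : Nat := @Bool.rec (fun _ => Nat) (col8_0) (col8_1) (Nat.ble 1 c)
noncomputable def col8_s_2_4 (c : Nat) : Nat := @Bool.rec (fun _ => Nat) (col8_2) (col8_3) (Nat.ble 3 c)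
noncomputable def col8_s_0_4 (c : Nat) : Nat := @Bool.rec (fun _ => Nat) (col8_s_0_2 c) (col8_s_2_4 c) (Nat.ble 2 c)
noncomputable def col8 (i : Nat) : Nat := rdw 14 16383 (col8_s_0_4 (Nat.shiftRight i 12)) (Nat.land i 4095)
noncomputable def finTab_s_1_3 (c : Nat) : Nat := @Bool.rec (fun _ => Nat) (finTab_1) (finTab_2) (Nat.ble 2 c)
noncomputable def finTab_s_0_3 (c : Nat) : Nat := @Bool.rec (fun _ => Nat) (finTab_0) (finTab_s_1_3 c) (Nat.ble 1 c)
noncomputable def finTab_s_3_5 (c : Nat) : Nat := @Bool.rec (fun _ => Nat) (finTab_3) (finTab_4) (Nat.ble 4 c)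
noncomputable def finTab_s_5_7 (c : Nat) : Nat := @Bool.rec (fun _ => Nat) (finTab_5) (finTab_6) (Nat.ble 6 c)
noncomputable def finTab_s_3_7 (c : Nat) : Nat := @Bool.rec (fun _ => Nat) (finTab_s_3_5 c) (finTab_s_5_7 c) (Nat.ble 5 c)
noncomputable def finTab_s_0_7 (c : Nat) : Nat := @Bool.rec (fun _ => Nat) (finTab_s_0_3 c) (finTab_s_3_7 c) (Nat.ble 3 c)
noncomputable def finTab_s_7_9 (c : Nat) : Nat := @Bool.rec (fun _ => Nat) (finTab_7) (finTab_8) (Nat.ble 8 c)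
noncomputable def finTab_s_9_11 (c : Nat) : Nat := @Bool.rec (fun _ => Nat) (finTab_9) (finTab_10) (Nat.ble 10 c)
noncomputable def finTab_s_7_11 (c : Nat) : Nat := @Bool.rec (fun _ => Nat) (finTab_s_7_9 c) (finTab_s_9_11 c) (Nat.ble 9 c)
noncomputable def finTab_s_11_13 (c : Nat) : Nat := @Bool.rec (fun _ => Nat) (finTab_11) (finTab_12) (Nat.ble 12 c)
noncomputable def finTab_s_13_15 (c : Nat) : Nat := @Bool.rec (fun _ => Nat) (finTab_13) (finTab_14) (Nat.ble 14 c)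
noncomputable def finTab_s_11_15 (c : Nat) : Nat := @Bool.rec (fun _ => Nat) (finTab_s_11_13 c) (finTab_s_13_15 c) (Nat.ble 13 c)
noncomputable def finTab_s_7_15 (c : Nat) : Nat := @Bool.rec (fun _ => Nat) (finTab_s_7_11 c) (finTab_s_11_15 c) (Nat.ble 11 c)
noncomputable def finTab_s_0_15 (c : Nat) : Nat := @Bool.rec (fun _ => Nat) (finTab_s_0_7 c) (finTab_s_7_15 c) (Nat.ble 7 c)
noncomputable def finTab_s_15_17 (c : Nat) : Nat := @Bool.rec (fun _ => Nat) (finTab_15) (finTab_16) (Nat.ble 16 c)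
noncomputable def finTab_s_17_19 (c : Nat) : Nat := @Bool.rec (fun _ => Nat) (finTab_17) (finTab_18) (Nat.ble 18 c)
noncomputable def finTab_s_15_19 (c : Nat) : Nat := @Bool.rec (fun _ => Nat) (finTab_s_15_17 c) (finTab_s_17_19 c) (Nat.ble 17 c)
noncomputable def finTab_s_19_21 (c : Nat) : Nat := @Bool.rec (fun _ => Nat) (finTab_19) (finTab_20) (Nat.ble 20 c)
noncomputable def finTab_s_21_23 (c : Nat) : Nat := @Bool.rec (fun _ => Nat) (finTab_21) (finTab_22) (Nat.ble 22 c)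
noncomputable def finTab_s_19_23 (c : Nat) : Nat := @Bool.rec (fun _ => Nat) (finTab_s_19_21 c) (finTab_s_21_23 c) (Nat.ble 21 c)
noncomputable def finTab_s_15_23 (c : Nat) : Nat := @Bool.rec (fun _ => Nat) (finTab_s_15_19 c) (finTab_s_19_23 c) (Nat.ble 19 c)
noncomputable def finTab_s_23_25 (c : Nat) : Nat := @Bool.rec (fun _ => Nat) (finTab_23) (finTab_24) (Nat.ble 24 c)
noncomputable def finTab_s_25_27 (c : Nat) : Nat := @Bool.rec (fun _ => Nat) (finTab_25) (finTab_26) (Nat.ble 26 c)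
noncomputable def finTab_s_23_27 (c : Nat) : Nat := @Bool.rec (fun _ => Nat) (finTab_s_23_25 c) (finTab_s_25_27 c) (Nat.ble 25 c)
noncomputable def finTab_s_27_29 (c : Nat) : Nat := @Bool.rec (fun _ => Nat) (finTab_27) (finTab_28) (Nat.ble 28 c)
noncomputable def finTab_s_29_31 (c : Nat) : Nat := @Bool.rec (fun _ => Nat) (finTab_29) (finTab_30) (Nat.ble 30 c)
noncomputable def finTab_s_27_31 (c : Nat) : Nat := @Bool.rec (fun _ => Nat) (finTab_s_27_29 c) (finTab_s_29_31 c) (Nat.ble 29 c)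
noncomputable def finTab_s_23_31 (c : Nat) : Nat := @Bool.rec (fun _ => Nat) (finTab_s_23_27 c) (finTab_s_27_31 c) (Nat.ble 27 c)
noncomputable def finTab_s_15_31 (c : Nat) : Nat := @Bool.rec (fun _ => Nat) (finTab_s_15_23 c) (finTab_s_23_31 c) (Nat.ble 23 c)
noncomputable def finTab_s_0_31 (c : Nat) : Nat := @Bool.rec (fun _ => Nat) (finTab_s_0_15 c) (finTab_s_15_31 c) (Nat.ble 15 c)
noncomputable def finTab (i : Nat) : Nat := rdw 18 262143 (finTab_s_0_31 (Nat.shiftRight i 12)) (Nat.land i 4095)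
noncomputable def clsTab_s_0_2 (c : Nat) : Nat := @Bool.rec (fun _ => Nat) (clsTab_0) (clsTab_1) (Nat.ble 1 c)
noncomputable def clsTab_s_2_4 (c : Nat) : Nat := @Bool.rec (fun _ => Nat) (clsTab_2) (clsTab_3) (Nat.ble 3 c)
noncomputable def clsTab_s_0_4 (c : Nat) : Nat := @Bool.rec (fun _ => Nat) (clsTab_s_0_2 c) (clsTab_s_2_4 c) (Nat.ble 2 c)
noncomputable def clsTab (i : Nat) : Nat := rdw 14 16383 (clsTab_s_0_4 (Nat.shiftRight i 12)) (Nat.land i 4095)
noncomputable def oparTab_s_0_2 (c : Nat) : Nat := @Bool.rec (fun _ => Nat) (oparTab_0) (oparTab_1) (Nat.ble 1 c)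
noncomputable def oparTab_s_2_4 (c : Nat) : Nat := @Bool.rec (fun _ => Nat) (oparTab_2) (oparTab_3) (Nat.ble 3 c)
noncomputable def oparTab_s_0_4 (c : Nat) : Nat := @Bool.rec (fun _ => Nat) (oparTab_s_0_2 c) (oparTab_s_2_4 c) (Nat.ble 2 c)
noncomputable def oparTab (i : Nat) : Nat := rdw 14 16383 (oparTab_s_0_4 (Nat.shiftRight i 12)) (Nat.land i 4095)
noncomputable def olabTab (i : Nat) : Nat := rdw 4 15 olabTab_0 i
noncomputable def srcF (t : Nat) : Nat := Nat.land (Atab t) 16383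
noncomputable def tgtF (t : Nat) : Nat := Nat.land (Nat.shiftRight (Atab t) 14) 16383
noncomputable def ltF (t : Nat) : Nat := Nat.shiftRight (Atab t) 28
noncomputable def rhoF (t : Nat) : Nat := Nat.land (Btab (Nat.sub t 15654)) 255
noncomputable def rotF (t : Nat) : Nat := Nat.land (Nat.shiftRight (Btab (Nat.sub t 15654)) 8) 127
noncomputable def lenF (t : Nat) : Nat := Nat.land (Nat.shiftRight (Btab (Nat.sub t 15654)) 15) 127
noncomputable def offF (t : Nat) : Nat := Nat.shiftRight (Btab (Nat.sub t 15654)) 22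
noncomputable def pfF (j : Nat) : Nat := Nat.shiftRight (Ptab j) 1
noncomputable def pdF (j : Nat) : Nat := Nat.land (Ptab j) 1
noncomputable def tblF (i x : Nat) : Nat := @Bool.rec (fun _ => Nat) (@Bool.rec (fun _ => Nat) (@Bool.rec (fun _ => Nat) (col0 i) (col1 i) (Nat.ble 1 x)) (@Bool.rec (fun _ => Nat) (col2 i) (col3 i) (Nat.ble 3 x)) (Nat.ble 2 x)) (@Bool.rec (fun _ => Nat) (@Bool.rec (fun _ => Nat) (col4 i) (col5 i) (Nat.ble 5 x)) (@Bool.rec (fun _ => Nat) (col6 i) (@Bool.rec (fun _ => Nat) (col7 i) (col8 i) (Nat.ble 8 x)) (Nat.ble 7 x)) (Nat.ble 6 x)) (Nat.ble 4 x)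
noncomputable def finE (i x : Nat) : Nat := finTab (Nat.add (Nat.mul i 9) x)
noncomputable def finFF (i x : Nat) : Nat := Nat.shiftRight (finE i x) 1
noncomputable def finDF (i x : Nat) : Nat := Nat.land (finE i x) 1

noncomputable def D : Log :=
  { k := 9, inv := invE 9 PFi22.invR, nR := 130, rBase := rBtab, rLen := rLtab, RR := RRtab,
    M := 15638, nB := 16, F := 75851, src := srcF, lt := ltF, tgt := tgtF, rho := rhoF, rot := rotF,
    off := offF, len := lenF, pf := pfF, pd := pdF }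

noncomputable def T : Tab :=
  { N := 14080, nameOf := nameTab, tbl := tblF, finF := finFF, finD := finDF, cls := clsTab }

def subs : List (List Nat) := [
  [1],
  [2],
  [3],
  [4],
  [5],
  [6],
  [7],
  [8] ]

def rw0 : List Nat := [0, 0]
def rw1 : List Nat := [0, 1, 0, 1, 0, 1]
def rw2 : List Nat := [0, 2, 0, 2]
def rw3 : List Nat := [0, 3, 0, 3]
def rw4 : List Nat := [0, 4, 0, 4]
def rw5 : List Nat := [0, 7, 0, 7]
def rw6 : List Nat := [0, 5, 0, 5]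
def rw7 : List Nat := [0, 6, 0, 6]
def rw8 : List Nat := [0, 8, 0, 8]
def rw9 : List Nat := [1, 1]
def rw10 : List Nat := [1, 2, 1, 2, 1, 2]
def rw11 : List Nat := [1, 3, 1, 3]
def rw12 : List Nat := [1, 4, 1, 4]
def rw13 : List Nat := [1, 7, 1, 7]
def rw14 : List Nat := [1, 5, 1, 5]
def rw15 : List Nat := [1, 6, 1, 6]
def rw16 : List Nat := [1, 8, 1, 8]
def rw17 : List Nat := [2, 2]
def rw18 : List Nat := [2, 3, 2, 3, 2, 3]
def rw19 : List Nat := [2, 4, 2, 4]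
def rw20 : List Nat := [2, 7, 2, 7]
def rw21 : List Nat := [2, 5, 2, 5]
def rw22 : List Nat := [2, 6, 2, 6]
def rw23 : List Nat := [2, 8, 2, 8]
def rw24 : List Nat := [3, 3]
def rw25 : List Nat := [3, 4, 3, 4, 3, 4]
def rw26 : List Nat := [3, 7, 3, 7, 3, 7]
def rw27 : List Nat := [3, 5, 3, 5]
def rw28 : List Nat := [3, 6, 3, 6]
def rw29 : List Nat := [3, 8, 3, 8]
def rw30 : List Nat := [4, 4]
def rw31 : List Nat := [4, 7, 4, 7]
def rw32 : List Nat := [4, 5, 4, 5, 4, 5]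
def rw33 : List Nat := [4, 6, 4, 6]
def rw34 : List Nat := [4, 8, 4, 8]
def rw35 : List Nat := [7, 7]
def rw36 : List Nat := [7, 5, 7, 5]
def rw37 : List Nat := [7, 6, 7, 6]
def rw38 : List Nat := [7, 8, 7, 8, 7, 8]
def rw39 : List Nat := [5, 5]
def rw40 : List Nat := [5, 6, 5, 6, 5, 6]
def rw41 : List Nat := [5, 8, 5, 8]
def rw42 : List Nat := [6, 6]
def rw43 : List Nat := [6, 8, 6, 8]
def rw44 : List Nat := [8, 8]
def rw45 : List Nat := [3, 2, 1, 3, 4, 5, 3, 7, 8, 3, 2, 1, 3, 4, 5, 3, 7, 8, 3, 2, 1, 3, 4, 5, 3, 7, 8, 3, 2, 1, 3, 4, 5, 3, 7, 8, 3, 2, 1, 3, 4, 5, 3, 7, 8, 3, 2, 1, 3, 4, 5, 3, 7, 8, 3, 2, 1, 3, 4, 5, 3, 7, 8, 3, 2, 1, 3, 4, 5, 3, 7, 8, 3, 2, 1, 3, 4, 5, 3, 7, 8, 3, 2, 1, 3, 4, 5, 3, 7, 8]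
def rw46 : List Nat := [0, 1, 2, 3, 4, 5, 7, 0, 1, 2, 3, 4, 5, 7, 0, 1, 2, 3, 4, 5, 7, 0, 1, 2, 3, 4, 5, 7, 0, 1, 2, 3, 4, 5, 7, 0, 1, 2, 3, 4, 5, 7, 0, 1, 2, 3, 4, 5, 7, 0, 1, 2, 3, 4, 5, 7, 0, 1, 2, 3, 4, 5, 7]
def rw47 : List Nat := [1, 2, 3, 4, 5, 6, 7, 1, 2, 3, 4, 5, 6, 7, 1, 2, 3, 4, 5, 6, 7, 1, 2, 3, 4, 5, 6, 7, 1, 2, 3, 4, 5, 6, 7, 1, 2, 3, 4, 5, 6, 7, 1, 2, 3, 4, 5, 6, 7, 1, 2, 3, 4, 5, 6, 7, 1, 2, 3, 4, 5, 6, 7]
def realLit : List (List Nat) := [rw0, rw1, rw2, rw3, rw4, rw5, rw6, rw7, rw8, rw9, rw10, rw11, rw12, rw13, rw14, rw15, rw16, rw17, rw18, rw19, rw20, rw21, rw22, rw23, rw24, rw25, rw26, rw27, rw28, rw29, rw30, rw31, rw32, rw33, rw34, rw35, rw36, rw37, rw38, rw39, rw40, rw41, rw42, rw43, rw44, rw45, rw46, rw47]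
noncomputable def actR0 (i : Nat) : Nat := col0 (col0 (i))
theorem actR0_eq (i : Nat) : actR0 i = Tab.act T D rw0 i := rfl
noncomputable def actR1 (i : Nat) : Nat := col0 (col1 (col0 (col1 (col0 (col1 (i))))))
theorem actR1_eq (i : Nat) : actR1 i = Tab.act T D rw1 i := rfl
noncomputable def actR2 (i : Nat) : Nat := col0 (col2 (col0 (col2 (i))))
theorem actR2_eq (i : Nat) : actR2 i = Tab.act T D rw2 i := rfl
noncomputable def actR3 (i : Nat) : Nat := col0 (col3 (col0 (col3 (i))))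
theorem actR3_eq (i : Nat) : actR3 i = Tab.act T D rw3 i := rfl
noncomputable def actR4 (i : Nat) : Nat := col0 (col4 (col0 (col4 (i))))
theorem actR4_eq (i : Nat) : actR4 i = Tab.act T D rw4 i := rfl
noncomputable def actR5 (i : Nat) : Nat := col0 (col7 (col0 (col7 (i))))
theorem actR5_eq (i : Nat) : actR5 i = Tab.act T D rw5 i := rfl
noncomputable def actR6 (i : Nat) : Nat := col0 (col5 (col0 (col5 (i))))
theorem actR6_eq (i : Nat) : actR6 i = Tab.act T D rw6 i := rfl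
noncomputable def actR7 (i : Nat) : Nat := col0 (col6 (col0 (col6 (i))))
theorem actR7_eq (i : Nat) : actR7 i = Tab.act T D rw7 i := rfl
noncomputable def actR8 (i : Nat) : Nat := col0 (col8 (col0 (col8 (i))))
theorem actR8_eq (i : Nat) : actR8 i = Tab.act T D rw8 i := rfl
noncomputable def actR9 (i : Nat) : Nat := col1 (col1 (i))
theorem actR9_eq (i : Nat) : actR9 i = Tab.act T D rw9 i := rfl
noncomputable def actR10 (i : Nat) : Nat := col1 (col2 (col1 (col2 (col1 (col2 (i))))))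
theorem actR10_eq (i : Nat) : actR10 i = Tab.act T D rw10 i := rfl
noncomputable def actR11 (i : Nat) : Nat := col1 (col3 (col1 (col3 (i))))
theorem actR11_eq (i : Nat) : actR11 i = Tab.act T D rw11 i := rfl
noncomputable def actR12 (i : Nat) : Nat := col1 (col4 (col1 (col4 (i))))
theorem actR12_eq (i : Nat) : actR12 i = Tab.act T D rw12 i := rfl
noncomputable def actR13 (i : Nat) : Nat := col1 (col7 (col1 (col7 (i))))
theorem actR13_eq (i : Nat) : actR13 i = Tab.act T D rw13 i := rfl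
noncomputable def actR14 (i : Nat) : Nat := col1 (col5 (col1 (col5 (i))))
theorem actR14_eq (i : Nat) : actR14 i = Tab.act T D rw14 i := rfl
noncomputable def actR15 (i : Nat) : Nat := col1 (col6 (col1 (col6 (i))))
theorem actR15_eq (i : Nat) : actR15 i = Tab.act T D rw15 i := rfl
noncomputable def actR16 (i : Nat) : Nat := col1 (col8 (col1 (col8 (i))))
theorem actR16_eq (i : Nat) : actR16 i = Tab.act T D rw16 i := rfl
noncomputable def actR17 (i : Nat) : Nat := col2 (col2 (i))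
theorem actR17_eq (i : Nat) : actR17 i = Tab.act T D rw17 i := rfl
noncomputable def actR18 (i : Nat) : Nat := col2 (col3 (col2 (col3 (col2 (col3 (i))))))
theorem actR18_eq (i : Nat) : actR18 i = Tab.act T D rw18 i := rfl
noncomputable def actR19 (i : Nat) : Nat := col2 (col4 (col2 (col4 (i))))
theorem actR19_eq (i : Nat) : actR19 i = Tab.act T D rw19 i := rfl
noncomputable def actR20 (i : Nat) : Nat := col2 (col7 (col2 (col7 (i))))
theorem actR20_eq (i : Nat) : actR20 i = Tab.act T D rw20 i := rfl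
noncomputable def actR21 (i : Nat) : Nat := col2 (col5 (col2 (col5 (i))))
theorem actR21_eq (i : Nat) : actR21 i = Tab.act T D rw21 i := rfl
noncomputable def actR22 (i : Nat) : Nat := col2 (col6 (col2 (col6 (i))))
theorem actR22_eq (i : Nat) : actR22 i = Tab.act T D rw22 i := rfl
noncomputable def actR23 (i : Nat) : Nat := col2 (col8 (col2 (col8 (i))))
theorem actR23_eq (i : Nat) : actR23 i = Tab.act T D rw23 i := rfl
noncomputable def actR24 (i : Nat) : Nat := col3 (col3 (i))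
theorem actR24_eq (i : Nat) : actR24 i = Tab.act T D rw24 i := rfl
noncomputable def actR25 (i : Nat) : Nat := col3 (col4 (col3 (col4 (col3 (col4 (i))))))
theorem actR25_eq (i : Nat) : actR25 i = Tab.act T D rw25 i := rfl
noncomputable def actR26 (i : Nat) : Nat := col3 (col7 (col3 (col7 (col3 (col7 (i))))))
theorem actR26_eq (i : Nat) : actR26 i = Tab.act T D rw26 i := rfl
noncomputable def actR27 (i : Nat) : Nat := col3 (col5 (col3 (col5 (i))))
theorem actR27_eq (i : Nat) : actR27 i = Tab.act T D rw27 i := rfl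
noncomputable def actR28 (i : Nat) : Nat := col3 (col6 (col3 (col6 (i))))
theorem actR28_eq (i : Nat) : actR28 i = Tab.act T D rw28 i := rfl
noncomputable def actR29 (i : Nat) : Nat := col3 (col8 (col3 (col8 (i))))
theorem actR29_eq (i : Nat) : actR29 i = Tab.act T D rw29 i := rfl
noncomputable def actR30 (i : Nat) : Nat := col4 (col4 (i))
theorem actR30_eq (i : Nat) : actR30 i = Tab.act T D rw30 i := rfl
noncomputable def actR31 (i : Nat) : Nat := col4 (col7 (col4 (col7 (i))))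
theorem actR31_eq (i : Nat) : actR31 i = Tab.act T D rw31 i := rfl
noncomputable def actR32 (i : Nat) : Nat := col4 (col5 (col4 (col5 (col4 (col5 (i))))))
theorem actR32_eq (i : Nat) : actR32 i = Tab.act T D rw32 i := rfl
noncomputable def actR33 (i : Nat) : Nat := col4 (col6 (col4 (col6 (i))))
theorem actR33_eq (i : Nat) : actR33 i = Tab.act T D rw33 i := rfl
noncomputable def actR34 (i : Nat) : Nat := col4 (col8 (col4 (col8 (i))))
theorem actR34_eq (i : Nat) : actR34 i = Tab.act T D rw34 i := rfl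
noncomputable def actR35 (i : Nat) : Nat := col7 (col7 (i))
theorem actR35_eq (i : Nat) : actR35 i = Tab.act T D rw35 i := rfl
noncomputable def actR36 (i : Nat) : Nat := col7 (col5 (col7 (col5 (i))))
theorem actR36_eq (i : Nat) : actR36 i = Tab.act T D rw36 i := rfl
noncomputable def actR37 (i : Nat) : Nat := col7 (col6 (col7 (col6 (i))))
theorem actR37_eq (i : Nat) : actR37 i = Tab.act T D rw37 i := rfl
noncomputable def actR38 (i : Nat) : Nat := col7 (col8 (col7 (col8 (col7 (col8 (i))))))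
theorem actR38_eq (i : Nat) : actR38 i = Tab.act T D rw38 i := rfl
noncomputable def actR39 (i : Nat) : Nat := col5 (col5 (i))
theorem actR39_eq (i : Nat) : actR39 i = Tab.act T D rw39 i := rfl
noncomputable def actR40 (i : Nat) : Nat := col5 (col6 (col5 (col6 (col5 (col6 (i))))))
theorem actR40_eq (i : Nat) : actR40 i = Tab.act T D rw40 i := rfl
noncomputable def actR41 (i : Nat) : Nat := col5 (col8 (col5 (col8 (i))))
theorem actR41_eq (i : Nat) : actR41 i = Tab.act T D rw41 i := rfl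
noncomputable def actR42 (i : Nat) : Nat := col6 (col6 (i))
theorem actR42_eq (i : Nat) : actR42 i = Tab.act T D rw42 i := rfl
noncomputable def actR43 (i : Nat) : Nat := col6 (col8 (col6 (col8 (i))))
theorem actR43_eq (i : Nat) : actR43 i = Tab.act T D rw43 i := rfl
noncomputable def actR44 (i : Nat) : Nat := col8 (col8 (i))
theorem actR44_eq (i : Nat) : actR44 i = Tab.act T D rw44 i := rfl
noncomputable def actR45 (i : Nat) : Nat := col3 (col2 (col1 (col3 (col4 (col5 (col3 (col7 (col8 (col3 (col2 (col1 (col3 (col4 (col5 (col3 (col7 (col8 (col3 (col2 (col1 (col3 (col4 (col5 (col3 (col7 (col8 (col3 (col2 (col1 (col3 (col4 (col5 (col3 (col7 (col8 (col3 (col2 (col1 (col3 (col4 (col5 (col3 (col7 (col8 (col3 (col2 (col1 (col3 (col4 (col5 (col3 (col7 (col8 (col3 (col2 (col1 (col3 (col4 (col5 (col3 (col7 (col8 (col3 (col2 (col1 (col3 (col4 (col5 (col3 (col7 (col8 (col3 (col2 (col1 (col3 (col4 (col5 (col3 (col7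 (col8 (col3 (col2 (col1 (col3 (col4 (col5 (col3 (col7 (col8 (i))))))))))))))))))))))))))))))))))))))))))))))))))))))))))))))))))))))))))))))))))))))))))
theorem actR45_eq (i : Nat) : actR45 i = Tab.act T D rw45 i := rfl
noncomputable def actR46 (i : Nat) : Nat := col0 (col1 (col2 (col3 (col4 (col5 (col7 (col0 (col1 (col2 (col3 (col4 (col5 (col7 (col0 (col1 (col2 (col3 (col4 (col5 (col7 (col0 (col1 (col2 (col3 (col4 (col5 (col7 (col0 (col1 (col2 (col3 (col4 (col5 (col7 (col0 (col1 (col2 (col3 (col4 (col5 (col7 (col0 (col1 (col2 (col3 (col4 (col5 (col7 (col0 (col1 (col2 (col3 (col4 (col5 (col7 (col0 (col1 (col2 (col3 (col4 (col5 (col7 (i)))))))))))))))))))))))))))))))))))))))))))))))))))))))))))))))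
theorem actR46_eq (i : Nat) : actR46 i = Tab.act T D rw46 i := rfl
noncomputable def actR47 (i : Nat) : Nat := col1 (col2 (col3 (col4 (col5 (col6 (col7 (col1 (col2 (col3 (col4 (col5 (col6 (col7 (col1 (col2 (col3 (col4 (col5 (col6 (col7 (col1 (col2 (col3 (col4 (col5 (col6 (col7 (col1 (col2 (col3 (col4 (col5 (col6 (col7 (col1 (col2 (col3 (col4 (col5 (col6 (col7 (col1 (col2 (col3 (col4 (col5 (col6 (col7 (col1 (col2 (col3 (col4 (col5 (col6 (col7 (col1 (col2 (col3 (col4 (col5 (col6 (col7 (i)))))))))))))))))))))))))))))))))))))))))))))))))))))))))))))))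
theorem actR47_eq (i : Nat) : actR47 i = Tab.act T D rw47 i := rfl

end Cfsg.Agent.Lib.Helper4.TCD.Fi22b
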