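import Cfsg.Agent.Lib.Helper4.TC11
import Cfsg.Agent.Lib.Helper4.TCD_Fi22b_Acc
import Cfsg.Agent.Lib.Helper4.TCD_Fi22L_D0

namespace Cfsg.Agent.Lib.Helper4.TCD.Fi22L

open Cfsg.Agent.Lib.Helper4.TC Cfsg.Agent.Lib.Helper4.TCD.Fi22b

set_option maxRecDepth 100000

noncomputable def st9_s_0_2 (c : Nat) : Nat := @Bool.rec (fun _ => Nat) (st9_0) (st9_1) (Nat.ble 1 c)
noncomputable def st9_s_2_4 (c : Nat) : Nat := @Bool.rec (fun _ => Nat) (st9_2) (st9_3) (Nat.ble 3 c)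
noncomputable def st9_s_0_4 (c : Nat) : Nat := @Bool.rec (fun _ => Nat) (st9_s_0_2 c) (st9_s_2_4 c) (Nat.ble 2 c)
noncomputable def st9 (i : Nat) : Nat := rdw 14 16383 (st9_s_0_4 (Nat.shiftRight i 12)) (Nat.land i 4095)
noncomputable def st10_s_0_2 (c : Nat) : Nat := @Bool.rec (fun _ => Nat) (st10_0) (st10_1) (Nat.ble 1 c)
noncomputable def st10_s_2_4 (c : Nat) : Nat := @Bool.rec (fun _ => Nat) (st10_2) (st10_3) (Nat.ble 3 c)
noncomputable def st10_s_0_4 (c : Nat) : Nat := @Bool.rec (fun _ => Nat) (st10_s_0_2 c) (st10_s_2_4 c) (Nat.ble 2 c)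
noncomputable def st10 (i : Nat) : Nat := rdw 14 16383 (st10_s_0_4 (Nat.shiftRight i 12)) (Nat.land i 4095)
noncomputable def st11_s_0_2 (c : Nat) : Nat := @Bool.rec (fun _ => Nat) (st11_0) (st11_1) (Nat.ble 1 c)
noncomputable def st11_s_2_4 (c : Nat) : Nat := @Bool.rec (fun _ => Nat) (st11_2) (st11_3) (Nat.ble 3 c)
noncomputable def st11_s_0_4 (c : Nat) : Nat := @Bool.rec (fun _ => Nat) (st11_s_0_2 c) (st11_s_2_4 c) (Nat.ble 2 c)
noncomputable def st11 (i : Nat) : Nat := rdw 14 16383 (st11_s_0_4 (Nat.shiftRight i 12)) (Nat.land i 4095)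
noncomputable def st12_s_0_2 (c : Nat) : Nat := @Bool.rec (fun _ => Nat) (st12_0) (st12_1) (Nat.ble 1 c)
noncomputable def st12_s_2_4 (c : Nat) : Nat := @Bool.rec (fun _ => Nat) (st12_2) (st12_3) (Nat.ble 3 c)
noncomputable def st12_s_0_4 (c : Nat) : Nat := @Bool.rec (fun _ => Nat) (st12_s_0_2 c) (st12_s_2_4 c) (Nat.ble 2 c)
noncomputable def st12 (i : Nat) : Nat := rdw 14 16383 (st12_s_0_4 (Nat.shiftRight i 12)) (Nat.land i 4095)
noncomputable def st13_s_0_2 (c : Nat) : Nat := @Bool.rec (fun _ => Nat) (st13_0) (st13_1) (Nat.ble 1 c)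
noncomputable def st13_s_2_4 (c : Nat) : Nat := @Bool.rec (fun _ => Nat) (st13_2) (st13_3) (Nat.ble 3 c)
noncomputable def st13_s_0_4 (c : Nat) : Nat := @Bool.rec (fun _ => Nat) (st13_s_0_2 c) (st13_s_2_4 c) (Nat.ble 2 c)
noncomputable def st13 (i : Nat) : Nat := rdw 14 16383 (st13_s_0_4 (Nat.shiftRight i 12)) (Nat.land i 4095)
noncomputable def st14_s_0_2 (c : Nat) : Nat := @Bool.rec (fun _ => Nat) (st14_0) (st14_1) (Nat.ble 1 c)
noncomputable def st14_s_2_4 (c : Nat) : Nat := @Bool.rec (fun _ => Nat) (st14_2) (st14_3) (Nat.ble 3 c)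
noncomputable def st14_s_0_4 (c : Nat) : Nat := @Bool.rec (fun _ => Nat) (st14_s_0_2 c) (st14_s_2_4 c) (Nat.ble 2 c)
noncomputable def st14 (i : Nat) : Nat := rdw 14 16383 (st14_s_0_4 (Nat.shiftRight i 12)) (Nat.land i 4095)
noncomputable def st15_s_0_2 (c : Nat) : Nat := @Bool.rec (fun _ => Nat) (st15_0) (st15_1) (Nat.ble 1 c)
noncomputable def st15_s_2_4 (c : Nat) : Nat := @Bool.rec (fun _ => Nat) (st15_2) (st15_3) (Nat.ble 3 c)
noncomputable def st15_s_0_4 (c : Nat) : Nat := @Bool.rec (fun _ => Nat) (st15_s_0_2 c) (st15_s_2_4 c) (Nat.ble 2 c)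
noncomputable def st15 (i : Nat) : Nat := rdw 14 16383 (st15_s_0_4 (Nat.shiftRight i 12)) (Nat.land i 4095)
noncomputable def st16_s_0_2 (c : Nat) : Nat := @Bool.rec (fun _ => Nat) (st16_0) (st16_1) (Nat.ble 1 c)
noncomputable def st16_s_2_4 (c : Nat) : Nat := @Bool.rec (fun _ => Nat) (st16_2) (st16_3) (Nat.ble 3 c)
noncomputable def st16_s_0_4 (c : Nat) : Nat := @Bool.rec (fun _ => Nat) (st16_s_0_2 c) (st16_s_2_4 c) (Nat.ble 2 c)
noncomputable def st16 (i : Nat) : Nat := rdw 14 16383 (st16_s_0_4 (Nat.shiftRight i 12)) (Nat.land i 4095)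
noncomputable def st17_s_0_2 (c : Nat) : Nat := @Bool.rec (fun _ => Nat) (st17_0) (st17_1) (Nat.ble 1 c)
noncomputable def st17_s_2_4 (c : Nat) : Nat := @Bool.rec (fun _ => Nat) (st17_2) (st17_3) (Nat.ble 3 c)
noncomputable def st17_s_0_4 (c : Nat) : Nat := @Bool.rec (fun _ => Nat) (st17_s_0_2 c) (st17_s_2_4 c) (Nat.ble 2 c)
noncomputable def st17 (i : Nat) : Nat := rdw 14 16383 (st17_s_0_4 (Nat.shiftRight i 12)) (Nat.land i 4095)
noncomputable def st18_s_0_2 (c : Nat) : Nat := @Bool.rec (fun _ => Nat) (st18_0) (st18_1) (Nat.ble 1 c)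
noncomputable def st18_s_2_4 (c : Nat) : Nat := @Bool.rec (fun _ => Nat) (st18_2) (st18_3) (Nat.ble 3 c)
noncomputable def st18_s_0_4 (c : Nat) : Nat := @Bool.rec (fun _ => Nat) (st18_s_0_2 c) (st18_s_2_4 c) (Nat.ble 2 c)
noncomputable def st18 (i : Nat) : Nat := rdw 14 16383 (st18_s_0_4 (Nat.shiftRight i 12)) (Nat.land i 4095)
noncomputable def st19_s_0_2 (c : Nat) : Nat := @Bool.rec (fun _ => Nat) (st19_0) (st19_1) (Nat.ble 1 c)
noncomputable def st19_s_2_4 (c : Nat) : Nat := @Bool.rec (fun _ => Nat) (st19_2) (st19_3) (Nat.ble 3 c)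
noncomputable def st19_s_0_4 (c : Nat) : Nat := @Bool.rec (fun _ => Nat) (st19_s_0_2 c) (st19_s_2_4 c) (Nat.ble 2 c)
noncomputable def st19 (i : Nat) : Nat := rdw 14 16383 (st19_s_0_4 (Nat.shiftRight i 12)) (Nat.land i 4095)
noncomputable def st20_s_0_2 (c : Nat) : Nat := @Bool.rec (fun _ => Nat) (st20_0) (st20_1) (Nat.ble 1 c)
noncomputable def st20_s_2_4 (c : Nat) : Nat := @Bool.rec (fun _ => Nat) (st20_2) (st20_3) (Nat.ble 3 c)
noncomputable def st20_s_0_4 (c : Nat) : Nat := @Bool.rec (fun _ => Nat) (st20_s_0_2 c) (st20_s_2_4 c) (Nat.ble 2 c)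
noncomputable def st20 (i : Nat) : Nat := rdw 14 16383 (st20_s_0_4 (Nat.shiftRight i 12)) (Nat.land i 4095)
noncomputable def st21_s_0_2 (c : Nat) : Nat := @Bool.rec (fun _ => Nat) (st21_0) (st21_1) (Nat.ble 1 c)
noncomputable def st21_s_2_4 (c : Nat) : Nat := @Bool.rec (fun _ => Nat) (st21_2) (st21_3) (Nat.ble 3 c)
noncomputable def st21_s_0_4 (c : Nat) : Nat := @Bool.rec (fun _ => Nat) (st21_s_0_2 c) (st21_s_2_4 c) (Nat.ble 2 c)
noncomputable def st21 (i : Nat) : Nat := rdw 14 16383 (st21_s_0_4 (Nat.shiftRight i 12)) (Nat.land i 4095)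
noncomputable def levTab (i : Nat) : Nat := rdw 4 15 levTab_0 i
noncomputable def betaTab (i : Nat) : Nat := rdw 14 16383 betaTab_0 i
noncomputable def nodeTab_s_0_2 (c : Nat) : Nat := @Bool.rec (fun _ => Nat) (nodeTab_0) (nodeTab_1) (Nat.ble 1 c)
noncomputable def nodeTab_s_2_4 (c : Nat) : Nat := @Bool.rec (fun _ => Nat) (nodeTab_2) (nodeTab_3) (Nat.ble 3 c)
noncomputable def nodeTab_s_0_4 (c : Nat) : Nat := @Bool.rec (fun _ => Nat) (nodeTab_s_0_2 c) (nodeTab_s_2_4 c) (Nat.ble 2 c)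
noncomputable def nodeTab_s_4_6 (c : Nat) : Nat := @Bool.rec (fun _ => Nat) (nodeTab_4) (nodeTab_5) (Nat.ble 5 c)
noncomputable def nodeTab_s_7_9 (c : Nat) : Nat := @Bool.rec (fun _ => Nat) (nodeTab_7) (nodeTab_8) (Nat.ble 8 c)
noncomputable def nodeTab_s_6_9 (c : Nat) : Nat := @Bool.rec (fun _ => Nat) (nodeTab_6) (nodeTab_s_7_9 c) (Nat.ble 7 c)
noncomputable def nodeTab_s_4_9 (c : Nat) : Nat := @Bool.rec (fun _ => Nat) (nodeTab_s_4_6 c) (nodeTab_s_6_9 c) (Nat.ble 6 c)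
noncomputable def nodeTab_s_0_9 (c : Nat) : Nat := @Bool.rec (fun _ => Nat) (nodeTab_s_0_4 c) (nodeTab_s_4_9 c) (Nat.ble 4 c)
noncomputable def nodeTab (i : Nat) : Nat := rdw 37 137438953471 (nodeTab_s_0_9 (Nat.shiftRight i 11)) (Nat.land i 2047)
noncomputable def offTab (i : Nat) : Nat := rdw 15 32767 offTab_0 i
noncomputable def nTab (i : Nat) : Nat := rdw 14 16383 nTab_0 i
noncomputable def rootTab (i : Nat) : Nat := rdw 14 16383 rootTab_0 i
noncomputable def tabF (i p : Nat) : Nat := @Bool.rec (fun _ => Nat) (@Bool.rec (fun _ => Nat) (@Bool.rec (fun _ => Nat) (@Bool.rec (fun _ => Nat) (col0 p) (col1 p) (Nat.ble 1 i)) (@Bool.rec (fun _ => Nat) (col2 p) (@Bool.rec (fun _ => Nat) (col3 p) (col4 p) (Nat.ble 4 i)) (Nat.ble 3 i)) (Nat.ble 2 i)) (@Bool.rec (fun _ => Nat) (@Bool.rec (fun _ => Nat) (col5 p) (@Bool.rec (fun _ => Nat) (col6 p) (col7 p) (Nat.ble 7 i)) (Nat.ble 6 i)) (@Bool.rec (fun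 _ => Nat) (col8 p) (@Bool.rec (fun _ => Nat) (st9 p) (st10 p) (Nat.ble 10 i)) (Nat.ble 9 i)) (Nat.ble 8 i)) (Nat.ble 5 i)) (@Bool.rec (fun _ => Nat) (@Bool.rec (fun _ => Nat) (@Bool.rec (fun _ => Nat) (st11 p) (st12 p) (Nat.ble 12 i)) (@Bool.rec (fun _ => Nat) (st13 p) (@Bool.rec (fun _ => Nat) (st14 p) (st15 p) (Nat.ble 15 i)) (Nat.ble 14 i)) (Nat.ble 13 i)) (@Bool.rec (fun _ => Nat) (@Bool.rec (fun _ => Nat) (st16 p) (@Bool.rec (fun _ => Nat) (st17 p) (st18 p) (Nat.ble 18 i)) (Nat.ble 17 i)) (@Bool.rec (fun _ => Nat) (st19 p) (@Bool.rec (fun _ => Nat) (st20 p) (st21 p) (Nat.ble 21 i)) (Nat.ble 20 i)) (Nat.ble 19 i)) (Nat.ble 16 i)) (Nat.ble 11 i)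
def wAF : Nat → List Nat
  | 9 => [2, 3, 7, 8, 1, 2, 3, 7, 6, 5, 4, 3, 2, 1, 0]
  | 10 => [4, 1, 2, 3, 7, 8, 2, 3, 7, 4, 5, 3, 4, 2, 3, 7, 6, 5, 4, 3, 2, 1, 0]
  | 11 => [4, 5, 3, 4, 2, 3, 7, 8, 2, 3, 4, 1, 2, 3, 7, 6, 5, 4, 3, 2, 1, 0, 2, 3, 7, 8, 4, 5, 3, 4, 2, 3, 7, 3, 4, 5, 2, 3, 4]
  | 12 => [11]
  | 13 => [11, 11, 11, 7]
  | 14 => [12, 2, 12, 4, 11, 6, 11, 0, 5, 6, 11, 4, 13, 12]
  | 15 => [11, 11, 11, 7]
  | 16 => [15]
  | 17 => [7, 16, 6, 5, 4, 16, 11, 11, 14, 15, 6, 15]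
  | 18 => [17]
  | 19 => [2]
  | 20 => [4, 15, 11, 0, 8, 4, 5, 3, 4, 11, 11, 14, 7, 15, 14, 16, 1, 2]
  | 21 => [14, 3]
  | _ => []
def wBF : Nat → List Nat
  | 9 => [8, 2, 3, 7, 8, 1, 2, 3, 7, 6, 5, 4, 3, 2, 1, 0]
  | 10 => [6, 4, 1, 2, 3, 7, 8, 2, 3, 7, 4, 5, 3, 4, 2, 3, 7, 6, 5, 4, 3, 2, 1, 0]
  | 11 => [0, 4, 5, 3, 4, 2, 3, 7, 8, 7, 3, 4, 1, 2, 3, 7, 6, 5, 4, 3, 2, 1, 0]
  | 12 => []
  | 13 => [7, 11, 11, 11, 7]
  | 14 => [10, 8, 12, 6, 4, 12, 12, 1, 0]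
  | 15 => [3, 13, 12, 7]
  | 16 => []
  | 17 => [14, 7, 6, 11, 8]
  | 18 => []
  | 19 => [6, 2]
  | 20 => [5, 12, 4, 18, 1, 0]
  | 21 => [3, 2]
  | _ => []
noncomputable def ptF (j idx : Nat) : Nat := Nat.land (nodeTab (Nat.add (offTab j) idx)) 16383
noncomputable def parF (j idx : Nat) : Nat := Nat.land (Nat.shiftRight (nodeTab (Nat.add (offTab j) idx)) 14) 16383
noncomputable def giF (j idx : Nat) : Nat := Nat.land (Nat.shiftRight (nodeTab (Nat.add (offTab j) idx)) 28) 31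
noncomputable def depF (j idx : Nat) : Nat := Nat.shiftRight (nodeTab (Nat.add (offTab j) idx)) 33

noncomputable def S : Sgs :=
  { N := 14080, k := 9, m := 22, tab := tabF, wA := wAF, wB := wBF, lev := levTab, r := 8, beta := betaTab,
    n := nTab, root := rootTab, pt := ptF, par := parF, gi := giF, dep := depF }

noncomputable def chk9 (p : Nat) : Bool := band (Nat.ble (Nat.succ (st9 p)) 14080) (Nat.beq (col2 (col3 (col7 (col8 (col1 (col2 (col3 (col7 (col6 (col5 (col4 (col3 (col2 (col1 (col0 (st9 p)))))))))))))))) (col8 (col2 (col3 (col7 (col8 (col1 (col2 (col3 (col7 (col6 (col5 (col4 (col3 (col2 (col1 (col0 p)))))))))))))))))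
theorem chk9_eq (p : Nat) : chk9 p = Sgs.permOK S 9 p := rfl
noncomputable def chk10 (p : Nat) : Bool := band (Nat.ble (Nat.succ (st10 p)) 14080) (Nat.beq (col4 (col1 (col2 (col3 (col7 (col8 (col2 (col3 (col7 (col4 (col5 (col3 (col4 (col2 (col3 (col7 (col6 (col5 (col4 (col3 (col2 (col1 (col0 (st10 p)))))))))))))))))))))))) (col6 (col4 (col1 (col2 (col3 (col7 (col8 (col2 (col3 (col7 (col4 (col5 (col3 (col4 (col2 (col3 (col7 (col6 (col5 (col4 (col3 (col2 (col1 (col0 p)))))))))))))))))))))))))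
theorem chk10_eq (p : Nat) : chk10 p = Sgs.permOK S 10 p := rfl
noncomputable def chk11 (p : Nat) : Bool := band (Nat.ble (Nat.succ (st11 p)) 14080) (Nat.beq (col4 (col5 (col3 (col4 (col2 (col3 (col7 (col8 (col2 (col3 (col4 (col1 (col2 (col3 (col7 (col6 (col5 (col4 (col3 (col2 (col1 (col0 (col2 (col3 (col7 (col8 (col4 (col5 (col3 (col4 (col2 (col3 (col7 (col3 (col4 (col5 (col2 (col3 (col4 (st11 p)))))))))))))))))))))))))))))))))))))))) (col0 (col4 (col5 (col3 (col4 (col2 (col3 (col7 (col8 (col7 (col3 (col4 (col1 (col2 (col3 (col7 (col6 (col5 (col4 (col3 (col2 (col1 (col0 p))))))))))))))))))))))))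
theorem chk11_eq (p : Nat) : chk11 p = Sgs.permOK S 11 p := rfl
noncomputable def chk12 (p : Nat) : Bool := band (Nat.ble (Nat.succ (st12 p)) 14080) (Nat.beq (st11 (st12 p)) p)
theorem chk12_eq (p : Nat) : chk12 p = Sgs.permOK S 12 p := rfl
noncomputable def chk13 (p : Nat) : Bool := band (Nat.ble (Nat.succ (st13 p)) 14080) (Nat.beq (st11 (st11 (st11 (col7 (st13 p))))) (col7 (st11 (st11 (st11 (col7 p))))))
theorem chk13_eq (p : Nat) : chk13 p = Sgs.permOK S 13 p := rfl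
noncomputable def chk14 (p : Nat) : Bool := band (Nat.ble (Nat.succ (st14 p)) 14080) (Nat.beq (st12 (col2 (st12 (col4 (st11 (col6 (st11 (col0 (col5 (col6 (st11 (col4 (st13 (st12 (st14 p))))))))))))))) (st10 (col8 (st12 (col6 (col4 (st12 (st12 (col1 (col0 p))))))))))
theorem chk14_eq (p : Nat) : chk14 p = Sgs.permOK S 14 p := rfl
noncomputable def chk15 (p : Nat) : Bool := band (Nat.ble (Nat.succ (st15 p)) 14080) (Nat.beq (st11 (st11 (st11 (col7 (st15 p))))) (col3 (st13 (st12 (col7 p)))))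
theorem chk15_eq (p : Nat) : chk15 p = Sgs.permOK S 15 p := rfl
noncomputable def chk16 (p : Nat) : Bool := band (Nat.ble (Nat.succ (st16 p)) 14080) (Nat.beq (st15 (st16 p)) p)
theorem chk16_eq (p : Nat) : chk16 p = Sgs.permOK S 16 p := rfl
noncomputable def chk17 (p : Nat) : Bool := band (Nat.ble (Nat.succ (st17 p)) 14080) (Nat.beq (col7 (st16 (col6 (col5 (col4 (st16 (st11 (st11 (st14 (st15 (col6 (st15 (st17 p))))))))))))) (st14 (col7 (col6 (st11 (col8 p))))))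
theorem chk17_eq (p : Nat) : chk17 p = Sgs.permOK S 17 p := rfl
noncomputable def chk18 (p : Nat) : Bool := band (Nat.ble (Nat.succ (st18 p)) 14080) (Nat.beq (st17 (st18 p)) p)
theorem chk18_eq (p : Nat) : chk18 p = Sgs.permOK S 18 p := rfl
noncomputable def chk19 (p : Nat) : Bool := band (Nat.ble (Nat.succ (st19 p)) 14080) (Nat.beq (col2 (st19 p)) (col6 (col2 p)))
theorem chk19_eq (p : Nat) : chk19 p = Sgs.permOK S 19 p := rfl
noncomputable def chk20 (p : Nat) : Bool := band (Nat.ble (Nat.succ (st20 p)) 14080) (Nat.beq (col4 (st15 (st11 (col0 (col8 (col4 (col5 (col3 (col4 (st11 (st11 (st14 (col7 (st15 (st14 (st16 (col1 (col2 (st20 p))))))))))))))))))) (col5 (st12 (col4 (st18 (col1 (col0 p)))))))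
theorem chk20_eq (p : Nat) : chk20 p = Sgs.permOK S 20 p := rfl
noncomputable def chk21 (p : Nat) : Bool := band (Nat.ble (Nat.succ (st21 p)) 14080) (Nat.beq (st14 (col3 (st21 p))) (col3 (col2 p)))
theorem chk21_eq (p : Nat) : chk21 p = Sgs.permOK S 21 p := rfl

end Cfsg.Agent.Lib.Helper4.TCD.Fi22L
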