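import Cfsg.Agent.Lib.Helper4.TCD_Fi22L_Acc

namespace Cfsg.Agent.Lib.Helper4.TCD.Fi22L

open Cfsg.Agent.Lib.Helper4.TC Cfsg.Agent.Lib.Helper4.TCD.Fi22b

set_option maxRecDepth 100000
set_option Elab.async false

theorem c_words : allRange S.wordsOK 9 13 = true := by decide +kernel
theorem c_fix : allGrid S.fixOK 0 22 8 = true := by decide +kernel
theorem c_root : allBelow (fun j => Nat.ble (Nat.succ (S.root j)) (S.n j)) 8 = true := by decide +kernel
theorem c_n0 : S.n 0 = 14080 := by decide +kernel
theorem c_n1 : S.n 1 = 3159 := by decide +kernel
theorem c_n2 : S.n 2 = 288 := by decide +kernel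
theorem c_n3 : S.n 3 = 35 := by decide +kernel
theorem c_n4 : S.n 4 = 12 := by decide +kernel
theorem c_n5 : S.n 5 = 3 := by decide +kernel
theorem c_n6 : S.n 6 = 2 := by decide +kernel
theorem c_n7 : S.n 7 = 2 := by decide +kernel
theorem c_p9_0 : allRange chk9 0 1764 = true := by decide +kernel
theorem c_p9_1 : allRange chk9 1764 1764 = true := by decide +kernel
theorem c_p9_2 : allRange chk9 3528 1764 = true := by decide +kernel
theorem c_p9_3 : allRange chk9 5292 1764 = true := by decide +kernel
theorem c_p9_4 : allRange chk9 7056 1764 = true := by decide +kernel
theorem c_p9_5 : allRange chk9 8820 1764 = true := by decide +kernel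
theorem c_p9_6 : allRange chk9 10584 1764 = true := by decide +kernel
theorem c_p9_7 : allRange chk9 12348 1732 = true := by decide +kernel
theorem c_p10_0 : allRange chk10 0 1200 = true := by decide +kernel
theorem c_p10_1 : allRange chk10 1200 1200 = true := by decide +kernel
theorem c_p10_2 : allRange chk10 2400 1200 = true := by decide +kernel
theorem c_p10_3 : allRange chk10 3600 1200 = true := by decide +kernel
theorem c_p10_4 : allRange chk10 4800 1200 = true := by decide +kernel
theorem c_p10_5 : allRange chk10 6000 1200 = true := by decide +kernel
theorem c_p10_6 : allRange chk10 7200 1200 = true := by decide +kernel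
theorem c_p10_7 : allRange chk10 8400 1200 = true := by decide +kernel
theorem c_p10_8 : allRange chk10 9600 1200 = true := by decide +kernel
theorem c_p10_9 : allRange chk10 10800 1200 = true := by decide +kernel
theorem c_p10_10 : allRange chk10 12000 1200 = true := by decide +kernel
theorem c_p10_11 : allRange chk10 13200 880 = true := by decide +kernel
theorem c_p11_0 : allRange chk11 0 923 = true := by decide +kernel
theorem c_p11_1 : allRange chk11 923 923 = true := by decide +kernel
theorem c_p11_2 : allRange chk11 1846 923 = true := by decide +kernel
theorem c_p11_3 : allRange chk11 2769 923 = true := by decide +kernel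
theorem c_p11_4 : allRange chk11 3692 923 = true := by decide +kernel
theorem c_p11_5 : allRange chk11 4615 923 = true := by decide +kernel
theorem c_p11_6 : allRange chk11 5538 923 = true := by decide +kernel
theorem c_p11_7 : allRange chk11 6461 923 = true := by decide +kernel
theorem c_p11_8 : allRange chk11 7384 923 = true := by decide +kernel
theorem c_p11_9 : allRange chk11 8307 923 = true := by decide +kernel
theorem c_p11_10 : allRange chk11 9230 923 = true := by decide +kernel
theorem c_p11_11 : allRange chk11 10153 923 = true := by decide +kernel
theorem c_p11_12 : allRange chk11 11076 923 = true := by decide +kernel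
theorem c_p11_13 : allRange chk11 11999 923 = true := by decide +kernel
theorem c_p11_14 : allRange chk11 12922 923 = true := by decide +kernel
theorem c_p11_15 : allRange chk11 13845 235 = true := by decide +kernel
theorem c_p12_0 : allRange chk12 0 14080 = true := by decide +kernel
theorem c_p13_0 : allRange chk13 0 5000 = true := by decide +kernel
theorem c_p13_1 : allRange chk13 5000 5000 = true := by decide +kernel
theorem c_p13_2 : allRange chk13 10000 4080 = true := by decide +kernel
theorem c_p14_0 : allRange chk14 0 2307 = true := by decide +kernel
theorem c_p14_1 : allRange chk14 2307 2307 = true := by decide +kernel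
theorem c_p14_2 : allRange chk14 4614 2307 = true := by decide +kernel
theorem c_p14_3 : allRange chk14 6921 2307 = true := by decide +kernel
theorem c_p14_4 : allRange chk14 9228 2307 = true := by decide +kernel
theorem c_p14_5 : allRange chk14 11535 2307 = true := by decide +kernel
theorem c_p14_6 : allRange chk14 13842 238 = true := by decide +kernel
theorem c_p15_0 : allRange chk15 0 5454 = true := by decide +kernel
theorem c_p15_1 : allRange chk15 5454 5454 = true := by decide +kernel
theorem c_p15_2 : allRange chk15 10908 3172 = true := by decide +kernel
theorem c_p16_0 : allRange chk16 0 14080 = true := by decide +kernel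
theorem c_p17_0 : allRange chk17 0 3000 = true := by decide +kernel

end Cfsg.Agent.Lib.Helper4.TCD.Fi22L
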