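import Cfsg.Agent.Lib.Helper4.TC7
import Cfsg.Agent.Lib.Helper4.TC8
import Cfsg.Agent.Lib.Helper4.TCP_Fi22
import Cfsg.Agent.Lib.Helper4.TCD_Fi22U1_D0

namespace Cfsg.Agent.Lib.Helper4.TCD.Fi22U1

open Cfsg.Agent.Lib.Helper4.TC

set_option maxRecDepth 100000

noncomputable def Atab_s_0_2 (c : Nat) : Nat := @Bool.rec (fun _ => Nat) (Atab_0) (Atab_1) (Nat.ble 1 c)
noncomputable def Atab (i : Nat) : Nat := rdw 25 33554431 (Atab_s_0_2 (Nat.shiftRight i 11)) (Nat.land i 2047)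
noncomputable def Btab_s_0_2 (c : Nat) : Nat := @Bool.rec (fun _ => Nat) (Btab_0) (Btab_1) (Nat.ble 1 c)
noncomputable def Btab (i : Nat) : Nat := rdw 33 8589934591 (Btab_s_0_2 (Nat.shiftRight i 11)) (Nat.land i 2047)
noncomputable def Ptab_s_0_2 (c : Nat) : Nat := @Bool.rec (fun _ => Nat) (Ptab_0) (Ptab_1) (Nat.ble 1 c)
noncomputable def Ptab (i : Nat) : Nat := rdw 13 8191 (Ptab_s_0_2 (Nat.shiftRight i 12)) (Nat.land i 4095)
noncomputable def RRtab (i : Nat) : Nat := rdw 5 31 RRtab_0 i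
noncomputable def rBtab (i : Nat) : Nat := rdw 11 2047 rBtab_0 i
noncomputable def rLtab (i : Nat) : Nat := rdw 7 127 rLtab_0 i
noncomputable def nameTab (i : Nat) : Nat := rdw 10 1023 nameTab_0 i
noncomputable def col0 (i : Nat) : Nat := rdw 9 511 col0_0 i
noncomputable def col1 (i : Nat) : Nat := rdw 9 511 col1_0 i
noncomputable def col2 (i : Nat) : Nat := rdw 9 511 col2_0 i
noncomputable def col3 (i : Nat) : Nat := rdw 9 511 col3_0 i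
noncomputable def col4 (i : Nat) : Nat := rdw 9 511 col4_0 i
noncomputable def col5 (i : Nat) : Nat := rdw 9 511 col5_0 i
noncomputable def col6 (i : Nat) : Nat := rdw 9 511 col6_0 i
noncomputable def col7 (i : Nat) : Nat := rdw 9 511 col7_0 i
noncomputable def finTab (i : Nat) : Nat := rdw 13 8191 finTab_0 i
noncomputable def clsTab (i : Nat) : Nat := rdw 9 511 clsTab_0 i
noncomputable def srcF (t : Nat) : Nat := Nat.land (Atab t) 1023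
noncomputable def tgtF (t : Nat) : Nat := Nat.land (Nat.shiftRight (Atab t) 10) 1023
noncomputable def ltF (t : Nat) : Nat := Nat.shiftRight (Atab t) 20
noncomputable def rhoF (t : Nat) : Nat := Nat.land (Btab (Nat.sub t 609)) 127
noncomputable def rotF (t : Nat) : Nat := Nat.land (Nat.shiftRight (Btab (Nat.sub t 609)) 7) 127
noncomputable def lenF (t : Nat) : Nat := Nat.land (Nat.shiftRight (Btab (Nat.sub t 609)) 14) 63
noncomputable def offF (t : Nat) : Nat := Nat.shiftRight (Btab (Nat.sub t 609)) 20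
noncomputable def pfF (j : Nat) : Nat := Nat.shiftRight (Ptab j) 1
noncomputable def pdF (j : Nat) : Nat := Nat.land (Ptab j) 1
noncomputable def tblF (i x : Nat) : Nat := @Bool.rec (fun _ => Nat) (@Bool.rec (fun _ => Nat) (@Bool.rec (fun _ => Nat) (col0 i) (col1 i) (Nat.ble 1 x)) (@Bool.rec (fun _ => Nat) (col2 i) (col3 i) (Nat.ble 3 x)) (Nat.ble 2 x)) (@Bool.rec (fun _ => Nat) (@Bool.rec (fun _ => Nat) (col4 i) (col5 i) (Nat.ble 5 x)) (@Bool.rec (fun _ => Nat) (col6 i) (col7 i) (Nat.ble 7 x)) (Nat.ble 6 x)) (Nat.ble 4 x)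
noncomputable def finE (i x : Nat) : Nat := finTab (Nat.add (Nat.mul i 8) x)
noncomputable def finFF (i x : Nat) : Nat := Nat.shiftRight (finE i x) 1
noncomputable def finDF (i x : Nat) : Nat := Nat.land (finE i x) 1

def invLoc : ℕ → ℕ
  | l => l
def emb : List Nat := [1, 2, 3, 4, 5, 6, 7, 8]
noncomputable def D : Log :=
  { k := 8, inv := invE 8 invLoc, nR := 106, rBase := rBtab, rLen := rLtab, RR := RRtab,
    M := 595, nB := 14, F := 2783, src := srcF, lt := ltF, tgt := tgtF, rho := rhoF, rot := rotF,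
    off := offF, len := lenF, pf := pfF, pd := pdF }

noncomputable def T : Tab :=
  { N := 364, nameOf := nameTab, tbl := tblF, finF := finFF, finD := finDF, cls := clsTab }

def subs : List (List Nat) := [
[0], [1], [2], [3], [4], [6], [7] ]

def realLoc : List (List Nat) := [
  [0, 0],
  [0, 1, 0, 1, 0, 1],
  [0, 2, 0, 2],
  [0, 3, 0, 3],
  [0, 6, 0, 6],
  [0, 4, 0, 4],
  [0, 5, 0, 5],
  [0, 7, 0, 7],
  [1, 1],
  [1, 2, 1, 2, 1, 2],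
  [1, 3, 1, 3],
  [1, 6, 1, 6],
  [1, 4, 1, 4],
  [1, 5, 1, 5],
  [1, 7, 1, 7],
  [2, 2],
  [2, 3, 2, 3, 2, 3],
  [2, 6, 2, 6, 2, 6],
  [2, 4, 2, 4],
  [2, 5, 2, 5],
  [2, 7, 2, 7],
  [3, 3],
  [3, 6, 3, 6],
  [3, 4, 3, 4, 3, 4],
  [3, 5, 3, 5],
  [3, 7, 3, 7],
  [6, 6],
  [6, 4, 6, 4],
  [6, 5, 6, 5],
  [6, 7, 6, 7, 6, 7],
  [4, 4],
  [4, 5, 4, 5, 4, 5],
  [4, 7, 4, 7],
  [5, 5],
  [5, 7, 5, 7],
  [7, 7],
  [2, 1, 0, 2, 3, 4, 2, 6, 7, 2, 1, 0, 2, 3, 4, 2, 6, 7, 2, 1, 0, 2, 3, 4, 2, 6, 7, 2, 1, 0, 2, 3, 4, 2, 6, 7, 2, 1, 0, 2, 3, 4, 2, 6, 7, 2, 1, 0, 2, 3, 4, 2, 6, 7, 2, 1, 0, 2, 3, 4, 2, 6, 7, 2, 1, 0, 2, 3, 4, 2, 6, 7, 2, 1, 0, 2, 3, 4, 2, 6, 7, 2, 1, 0, 2, 3, 4, 2, 6, 7],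
  [0, 1, 2, 3, 4, 5, 6, 0, 1, 2, 3, 4, 5, 6, 0, 1, 2, 3, 4, 5, 6, 0, 1, 2, 3, 4, 5, 6, 0, 1, 2, 3, 4, 5, 6, 0, 1, 2, 3, 4, 5, 6, 0, 1, 2, 3, 4, 5, 6, 0, 1, 2, 3, 4, 5, 6, 0, 1, 2, 3, 4, 5, 6] ]

end Cfsg.Agent.Lib.Helper4.TCD.Fi22U1
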