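import Cfsg.Agent.Lib.Helper4.TC7
import Cfsg.Agent.Lib.Helper4.TC12
import Cfsg.Agent.Lib.Helper4.TCP_Fi22
import Cfsg.Agent.Lib.Helper4.TCD_Fi22X_D0

namespace Cfsg.Agent.Lib.Helper4.TCD.Fi22X

open Cfsg.Agent.Lib.Helper4.TC

set_option maxRecDepth 100000

noncomputable def Atab_s_0_2 (c : Nat) : Nat := @Bool.rec (fun _ => Nat) (Atab_0) (Atab_1) (Nat.ble 1 c)
noncomputable def Atab_s_2_4 (c : Nat) : Nat := @Bool.rec (fun _ => Nat) (Atab_2) (Atab_3) (Nat.ble 3 c)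
noncomputable def Atab_s_0_4 (c : Nat) : Nat := @Bool.rec (fun _ => Nat) (Atab_s_0_2 c) (Atab_s_2_4 c) (Nat.ble 2 c)
noncomputable def Atab_s_4_6 (c : Nat) : Nat := @Bool.rec (fun _ => Nat) (Atab_4) (Atab_5) (Nat.ble 5 c)
noncomputable def Atab_s_7_9 (c : Nat) : Nat := @Bool.rec (fun _ => Nat) (Atab_7) (Atab_8) (Nat.ble 8 c)
noncomputable def Atab_s_6_9 (c : Nat) : Nat := @Bool.rec (fun _ => Nat) (Atab_6) (Atab_s_7_9 c) (Nat.ble 7 c)
noncomputable def Atab_s_4_9 (c : Nat) : Nat := @Bool.rec (fun _ => Nat) (Atab_s_4_6 c) (Atab_s_6_9 c) (Nat.ble 6 c)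
noncomputable def Atab_s_0_9 (c : Nat) : Nat := @Bool.rec (fun _ => Nat) (Atab_s_0_4 c) (Atab_s_4_9 c) (Nat.ble 4 c)
noncomputable def Atab_s_9_11 (c : Nat) : Nat := @Bool.rec (fun _ => Nat) (Atab_9) (Atab_10) (Nat.ble 10 c)
noncomputable def Atab_s_11_13 (c : Nat) : Nat := @Bool.rec (fun _ => Nat) (Atab_11) (Atab_12) (Nat.ble 12 c)
noncomputable def Atab_s_9_13 (c : Nat) : Nat := @Bool.rec (fun _ => Nat) (Atab_s_9_11 c) (Atab_s_11_13 c) (Nat.ble 11 c)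
noncomputable def Atab_s_13_15 (c : Nat) : Nat := @Bool.rec (fun _ => Nat) (Atab_13) (Atab_14) (Nat.ble 14 c)
noncomputable def Atab_s_16_18 (c : Nat) : Nat := @Bool.rec (fun _ => Nat) (Atab_16) (Atab_17) (Nat.ble 17 c)
noncomputable def Atab_s_15_18 (c : Nat) : Nat := @Bool.rec (fun _ => Nat) (Atab_15) (Atab_s_16_18 c) (Nat.ble 16 c)
noncomputable def Atab_s_13_18 (c : Nat) : Nat := @Bool.rec (fun _ => Nat) (Atab_s_13_15 c) (Atab_s_15_18 c) (Nat.ble 15 c)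
noncomputable def Atab_s_9_18 (c : Nat) : Nat := @Bool.rec (fun _ => Nat) (Atab_s_9_13 c) (Atab_s_13_18 c) (Nat.ble 13 c)
noncomputable def Atab_s_0_18 (c : Nat) : Nat := @Bool.rec (fun _ => Nat) (Atab_s_0_9 c) (Atab_s_9_18 c) (Nat.ble 9 c)
noncomputable def Atab (i : Nat) : Nat := rdw 32 4294967295 (Atab_s_0_18 (Nat.shiftRight i 11)) (Nat.land i 2047)
noncomputable def Btab_s_0_2 (c : Nat) : Nat := @Bool.rec (fun _ => Nat) (Btab_0) (Btab_1) (Nat.ble 1 c)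
noncomputable def Btab_s_3_5 (c : Nat) : Nat := @Bool.rec (fun _ => Nat) (Btab_3) (Btab_4) (Nat.ble 4 c)
noncomputable def Btab_s_2_5 (c : Nat) : Nat := @Bool.rec (fun _ => Nat) (Btab_2) (Btab_s_3_5 c) (Nat.ble 3 c)
noncomputable def Btab_s_0_5 (c : Nat) : Nat := @Bool.rec (fun _ => Nat) (Btab_s_0_2 c) (Btab_s_2_5 c) (Nat.ble 2 c)
noncomputable def Btab_s_6_8 (c : Nat) : Nat := @Bool.rec (fun _ => Nat) (Btab_6) (Btab_7) (Nat.ble 7 c)
noncomputable def Btab_s_5_8 (c : Nat) : Nat := @Bool.rec (fun _ => Nat) (Btab_5) (Btab_s_6_8 c) (Nat.ble 6 c)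
noncomputable def Btab_s_9_11 (c : Nat) : Nat := @Bool.rec (fun _ => Nat) (Btab_9) (Btab_10) (Nat.ble 10 c)
noncomputable def Btab_s_8_11 (c : Nat) : Nat := @Bool.rec (fun _ => Nat) (Btab_8) (Btab_s_9_11 c) (Nat.ble 9 c)
noncomputable def Btab_s_5_11 (c : Nat) : Nat := @Bool.rec (fun _ => Nat) (Btab_s_5_8 c) (Btab_s_8_11 c) (Nat.ble 8 c)
noncomputable def Btab_s_0_11 (c : Nat) : Nat := @Bool.rec (fun _ => Nat) (Btab_s_0_5 c) (Btab_s_5_11 c) (Nat.ble 5 c)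
noncomputable def Btab (i : Nat) : Nat := rdw 39 549755813887 (Btab_s_0_11 (Nat.shiftRight i 11)) (Nat.land i 2047)
noncomputable def Ptab_s_0_2 (c : Nat) : Nat := @Bool.rec (fun _ => Nat) (Ptab_0) (Ptab_1) (Nat.ble 1 c)
noncomputable def Ptab_s_2_4 (c : Nat) : Nat := @Bool.rec (fun _ => Nat) (Ptab_2) (Ptab_3) (Nat.ble 3 c)
noncomputable def Ptab_s_0_4 (c : Nat) : Nat := @Bool.rec (fun _ => Nat) (Ptab_s_0_2 c) (Ptab_s_2_4 c) (Nat.ble 2 c)
noncomputable def Ptab_s_4_6 (c : Nat) : Nat := @Bool.rec (fun _ => Nat) (Ptab_4) (Ptab_5) (Nat.ble 5 c)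
noncomputable def Ptab_s_7_9 (c : Nat) : Nat := @Bool.rec (fun _ => Nat) (Ptab_7) (Ptab_8) (Nat.ble 8 c)
noncomputable def Ptab_s_6_9 (c : Nat) : Nat := @Bool.rec (fun _ => Nat) (Ptab_6) (Ptab_s_7_9 c) (Nat.ble 7 c)
noncomputable def Ptab_s_4_9 (c : Nat) : Nat := @Bool.rec (fun _ => Nat) (Ptab_s_4_6 c) (Ptab_s_6_9 c) (Nat.ble 6 c)
noncomputable def Ptab_s_0_9 (c : Nat) : Nat := @Bool.rec (fun _ => Nat) (Ptab_s_0_4 c) (Ptab_s_4_9 c) (Nat.ble 4 c)
noncomputable def Ptab_s_9_11 (c : Nat) : Nat := @Bool.rec (fun _ => Nat) (Ptab_9) (Ptab_10) (Nat.ble 10 c)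
noncomputable def Ptab_s_12_14 (c : Nat) : Nat := @Bool.rec (fun _ => Nat) (Ptab_12) (Ptab_13) (Nat.ble 13 c)
noncomputable def Ptab_s_11_14 (c : Nat) : Nat := @Bool.rec (fun _ => Nat) (Ptab_11) (Ptab_s_12_14 c) (Nat.ble 12 c)
noncomputable def Ptab_s_9_14 (c : Nat) : Nat := @Bool.rec (fun _ => Nat) (Ptab_s_9_11 c) (Ptab_s_11_14 c) (Nat.ble 11 c)
noncomputable def Ptab_s_14_16 (c : Nat) : Nat := @Bool.rec (fun _ => Nat) (Ptab_14) (Ptab_15) (Nat.ble 15 c)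
noncomputable def Ptab_s_17_19 (c : Nat) : Nat := @Bool.rec (fun _ => Nat) (Ptab_17) (Ptab_18) (Nat.ble 18 c)
noncomputable def Ptab_s_16_19 (c : Nat) : Nat := @Bool.rec (fun _ => Nat) (Ptab_16) (Ptab_s_17_19 c) (Nat.ble 17 c)
noncomputable def Ptab_s_14_19 (c : Nat) : Nat := @Bool.rec (fun _ => Nat) (Ptab_s_14_16 c) (Ptab_s_16_19 c) (Nat.ble 16 c)
noncomputable def Ptab_s_9_19 (c : Nat) : Nat := @Bool.rec (fun _ => Nat) (Ptab_s_9_14 c) (Ptab_s_14_19 c) (Nat.ble 14 c)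
noncomputable def Ptab_s_0_19 (c : Nat) : Nat := @Bool.rec (fun _ => Nat) (Ptab_s_0_9 c) (Ptab_s_9_19 c) (Nat.ble 9 c)
noncomputable def Ptab (i : Nat) : Nat := rdw 17 131071 (Ptab_s_0_19 (Nat.shiftRight i 12)) (Nat.land i 4095)
noncomputable def RRtab (i : Nat) : Nat := rdw 4 15 RRtab_0 i
noncomputable def rBtab (i : Nat) : Nat := rdw 11 2047 rBtab_0 i
noncomputable def rLtab (i : Nat) : Nat := rdw 7 127 rLtab_0 i
noncomputable def nameTab (i : Nat) : Nat := rdw 14 16383 nameTab_0 i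
noncomputable def col0 (i : Nat) : Nat := rdw 1 1 col0_0 i
noncomputable def col1 (i : Nat) : Nat := rdw 1 1 col1_0 i
noncomputable def col2 (i : Nat) : Nat := rdw 1 1 col2_0 i
noncomputable def col3 (i : Nat) : Nat := rdw 1 1 col3_0 i
noncomputable def col4 (i : Nat) : Nat := rdw 1 1 col4_0 i
noncomputable def col5 (i : Nat) : Nat := rdw 1 1 col5_0 i
noncomputable def col6 (i : Nat) : Nat := rdw 1 1 col6_0 i
noncomputable def col7 (i : Nat) : Nat := rdw 1 1 col7_0 i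
noncomputable def col8 (i : Nat) : Nat := rdw 1 1 col8_0 i
noncomputable def finTab (i : Nat) : Nat := rdw 17 131071 finTab_0 i
noncomputable def clsTab (i : Nat) : Nat := rdw 1 1 clsTab_0 i
noncomputable def srcF (t : Nat) : Nat := Nat.land (Atab t) 16383
noncomputable def tgtF (t : Nat) : Nat := Nat.land (Nat.shiftRight (Atab t) 14) 16383
noncomputable def ltF (t : Nat) : Nat := Nat.shiftRight (Atab t) 28
noncomputable def rhoF (t : Nat) : Nat := Nat.land (Btab (Nat.sub t 13328)) 127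
noncomputable def rotF (t : Nat) : Nat := Nat.land (Nat.shiftRight (Btab (Nat.sub t 13328)) 7) 127
noncomputable def lenF (t : Nat) : Nat := Nat.land (Nat.shiftRight (Btab (Nat.sub t 13328)) 14) 255
noncomputable def offF (t : Nat) : Nat := Nat.shiftRight (Btab (Nat.sub t 13328)) 22
noncomputable def pfF (j : Nat) : Nat := Nat.shiftRight (Ptab j) 1
noncomputable def pdF (j : Nat) : Nat := Nat.land (Ptab j) 1
noncomputable def tblF (i x : Nat) : Nat := @Bool.rec (fun _ => Nat) (@Bool.rec (fun _ => Nat) (@Bool.rec (fun _ => Nat) (col0 i) (col1 i) (Nat.ble 1 x)) (@Bool.rec (fun _ => Nat) (col2 i) (col3 i) (Nat.ble 3 x)) (Nat.ble 2 x)) (@Bool.rec (fun _ => Nat) (@Bool.rec (fun _ => Nat) (col4 i) (col5 i) (Nat.ble 5 x)) (@Bool.rec (fun _ => Nat) (col6 i) (@Bool.rec (fun _ => Nat) (col7 i) (col8 i) (Nat.ble 8 x)) (Nat.ble 7 x)) (Nat.ble 6 x)) (Nat.ble 4 x)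
noncomputable def finE (i x : Nat) : Nat := finTab (Nat.add (Nat.mul i 9) x)
noncomputable def finFF (i x : Nat) : Nat := Nat.shiftRight (finE i x) 1
noncomputable def finDF (i x : Nat) : Nat := Nat.land (finE i x) 1

noncomputable def D : Log :=
  { k := 9, inv := invE 9 PFi22.invR, nR := 116, rBase := rBtab, rLen := rLtab, RR := RRtab,
    M := 13328, nB := 0, F := 35404, src := srcF, lt := ltF, tgt := tgtF, rho := rhoF, rot := rotF,
    off := offF, len := lenF, pf := pfF, pd := pdF }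

noncomputable def T : Tab :=
  { N := 1, nameOf := nameTab, tbl := tblF, finF := finFF, finD := finDF, cls := clsTab }

def subs : List (List Nat) := [
 ]

def xw : List Nat := [3, 2, 7, 5, 3, 1, 4, 0, 6, 2, 8, 3, 2, 7, 5, 3, 1, 4, 0, 6, 2, 8]

end Cfsg.Agent.Lib.Helper4.TCD.Fi22X
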