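import Cfsg.Agent.Lib.Helper4.TC7
import Cfsg.Agent.Lib.Helper4.TCP_Fi22
import Cfsg.Agent.Lib.Helper4.TCD_Fi22a_D0

namespace Cfsg.Agent.Lib.Helper4.TCD.Fi22a

open Cfsg.Agent.Lib.Helper4.TC

set_option maxRecDepth 100000

noncomputable def Atab_s_0_2 (c : Nat) : Nat := @Bool.rec (fun _ => Nat) (Atab_0) (Atab_1) (Nat.ble 1 c)
noncomputable def Atab_s_3_5 (c : Nat) : Nat := @Bool.rec (fun _ => Nat) (Atab_3) (Atab_4) (Nat.ble 4 c)
noncomputable def Atab_s_2_5 (c : Nat) : Nat := @Bool.rec (fun _ => Nat) (Atab_2) (Atab_s_3_5 c) (Nat.ble 3 c)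
noncomputable def Atab_s_0_5 (c : Nat) : Nat := @Bool.rec (fun _ => Nat) (Atab_s_0_2 c) (Atab_s_2_5 c) (Nat.ble 2 c)
noncomputable def Atab (i : Nat) : Nat := rdw 29 536870911 (Atab_s_0_5 (Nat.shiftRight i 12)) (Nat.land i 4095)
noncomputable def Btab_s_0_2 (c : Nat) : Nat := @Bool.rec (fun _ => Nat) (Btab_0) (Btab_1) (Nat.ble 1 c)
noncomputable def Btab_s_2_4 (c : Nat) : Nat := @Bool.rec (fun _ => Nat) (Btab_2) (Btab_3) (Nat.ble 3 c)
noncomputable def Btab_s_0_4 (c : Nat) : Nat := @Bool.rec (fun _ => Nat) (Btab_s_0_2 c) (Btab_s_2_4 c) (Nat.ble 2 c)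
noncomputable def Btab (i : Nat) : Nat := rdw 38 274877906943 (Btab_s_0_4 (Nat.shiftRight i 12)) (Nat.land i 4095)
noncomputable def Ptab_s_1_3 (c : Nat) : Nat := @Bool.rec (fun _ => Nat) (Ptab_1) (Ptab_2) (Nat.ble 2 c)
noncomputable def Ptab_s_0_3 (c : Nat) : Nat := @Bool.rec (fun _ => Nat) (Ptab_0) (Ptab_s_1_3 c) (Nat.ble 1 c)
noncomputable def Ptab_s_3_5 (c : Nat) : Nat := @Bool.rec (fun _ => Nat) (Ptab_3) (Ptab_4) (Nat.ble 4 c)
noncomputable def Ptab_s_5_7 (c : Nat) : Nat := @Bool.rec (fun _ => Nat) (Ptab_5) (Ptab_6) (Nat.ble 6 c)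
noncomputable def Ptab_s_3_7 (c : Nat) : Nat := @Bool.rec (fun _ => Nat) (Ptab_s_3_5 c) (Ptab_s_5_7 c) (Nat.ble 5 c)
noncomputable def Ptab_s_0_7 (c : Nat) : Nat := @Bool.rec (fun _ => Nat) (Ptab_s_0_3 c) (Ptab_s_3_7 c) (Nat.ble 3 c)
noncomputable def Ptab (i : Nat) : Nat := rdw 16 65535 (Ptab_s_0_7 (Nat.shiftRight i 13)) (Nat.land i 8191)
noncomputable def RRtab (i : Nat) : Nat := rdw 5 31 RRtab_0 i
noncomputable def rBtab (i : Nat) : Nat := rdw 11 2047 rBtab_0 i
noncomputable def rLtab (i : Nat) : Nat := rdw 7 127 rLtab_0 i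
noncomputable def nameTab (i : Nat) : Nat := rdw 12 4095 nameTab_0 i
noncomputable def col0 (i : Nat) : Nat := rdw 12 4095 col0_0 i
noncomputable def col1 (i : Nat) : Nat := rdw 12 4095 col1_0 i
noncomputable def col2 (i : Nat) : Nat := rdw 12 4095 col2_0 i
noncomputable def col3 (i : Nat) : Nat := rdw 12 4095 col3_0 i
noncomputable def col4 (i : Nat) : Nat := rdw 12 4095 col4_0 i
noncomputable def col5 (i : Nat) : Nat := rdw 12 4095 col5_0 i
noncomputable def col6 (i : Nat) : Nat := rdw 12 4095 col6_0 i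
noncomputable def col7 (i : Nat) : Nat := rdw 12 4095 col7_0 i
noncomputable def col8 (i : Nat) : Nat := rdw 12 4095 col8_0 i
noncomputable def finTab_s_0_2 (c : Nat) : Nat := @Bool.rec (fun _ => Nat) (finTab_0) (finTab_1) (Nat.ble 1 c)
noncomputable def finTab_s_2_4 (c : Nat) : Nat := @Bool.rec (fun _ => Nat) (finTab_2) (finTab_3) (Nat.ble 3 c)
noncomputable def finTab_s_0_4 (c : Nat) : Nat := @Bool.rec (fun _ => Nat) (finTab_s_0_2 c) (finTab_s_2_4 c) (Nat.ble 2 c)
noncomputable def finTab (i : Nat) : Nat := rdw 16 65535 (finTab_s_0_4 (Nat.shiftRight i 13)) (Nat.land i 8191)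
noncomputable def clsTab (i : Nat) : Nat := rdw 12 4095 clsTab_0 i
noncomputable def oparTab (i : Nat) : Nat := rdw 12 4095 oparTab_0 i
noncomputable def olabTab (i : Nat) : Nat := rdw 4 15 olabTab_0 i
noncomputable def srcF (t : Nat) : Nat := Nat.land (Atab t) 4095
noncomputable def tgtF (t : Nat) : Nat := Nat.land (Nat.shiftRight (Atab t) 12) 4095
noncomputable def ltF (t : Nat) : Nat := Nat.shiftRight (Atab t) 24
noncomputable def rhoF (t : Nat) : Nat := Nat.land (Btab (Nat.sub t 3541)) 255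
noncomputable def rotF (t : Nat) : Nat := Nat.land (Nat.shiftRight (Btab (Nat.sub t 3541)) 8) 127
noncomputable def lenF (t : Nat) : Nat := Nat.land (Nat.shiftRight (Btab (Nat.sub t 3541)) 15) 127
noncomputable def offF (t : Nat) : Nat := Nat.shiftRight (Btab (Nat.sub t 3541)) 22
noncomputable def pfF (j : Nat) : Nat := Nat.shiftRight (Ptab j) 1
noncomputable def pdF (j : Nat) : Nat := Nat.land (Ptab j) 1
noncomputable def tblF (i x : Nat) : Nat := @Bool.rec (fun _ => Nat) (@Bool.rec (fun _ => Nat) (@Bool.rec (fun _ => Nat) (col0 i) (col1 i) (Nat.ble 1 x)) (@Bool.rec (fun _ => Nat) (col2 i) (col3 i) (Nat.ble 3 x)) (Nat.ble 2 x)) (@Bool.rec (fun _ => Nat) (@Bool.rec (fun _ => Nat) (col4 i) (col5 i) (Nat.ble 5 x)) (@Bool.rec (fun _ => Nat) (col6 i) (@Bool.rec (fun _ => Nat) (col7 i) (col8 i) (Nat.ble 8 x)) (Nat.ble 7 x)) (Nat.ble 6 x)) (Nat.ble 4 x)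
noncomputable def finE (i x : Nat) : Nat := finTab (Nat.add (Nat.mul i 9) x)
noncomputable def finFF (i x : Nat) : Nat := Nat.shiftRight (finE i x) 1
noncomputable def finDF (i x : Nat) : Nat := Nat.land (finE i x) 1

noncomputable def D : Log :=
  { k := 9, inv := invE 9 PFi22.invR, nR := 132, rBase := rBtab, rLen := rLtab, RR := RRtab,
    M := 3523, nB := 18, F := 18988, src := srcF, lt := ltF, tgt := tgtF, rho := rhoF, rot := rotF,
    off := offF, len := lenF, pf := pfF, pd := pdF }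

noncomputable def T : Tab :=
  { N := 3510, nameOf := nameTab, tbl := tblF, finF := finFF, finD := finDF, cls := clsTab }

def subs : List (List Nat) := [
  [0],
  [2],
  [3],
  [4],
  [5],
  [6],
  [7],
  [8],
  (List.replicate 5 [0, 1, 2, 3, 4, 7]).flatten ]

def rw0 : List Nat := [0, 0]
def rw1 : List Nat := [0, 1, 0, 1, 0, 1]
def rw2 : List Nat := [0, 2, 0, 2]
def rw3 : List Nat := [0, 3, 0, 3]
def rw4 : List Nat := [0, 4, 0, 4]
def rw5 : List Nat := [0, 7, 0, 7]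
def rw6 : List Nat := [0, 5, 0, 5]
def rw7 : List Nat := [0, 6, 0, 6]
def rw8 : List Nat := [0, 8, 0, 8]
def rw9 : List Nat := [1, 1]
def rw10 : List Nat := [1, 2, 1, 2, 1, 2]
def rw11 : List Nat := [1, 3, 1, 3]
def rw12 : List Nat := [1, 4, 1, 4]
def rw13 : List Nat := [1, 7, 1, 7]
def rw14 : List Nat := [1, 5, 1, 5]
def rw15 : List Nat := [1, 6, 1, 6]
def rw16 : List Nat := [1, 8, 1, 8]
def rw17 : List Nat := [2, 2]
def rw18 : List Nat := [2, 3, 2, 3, 2, 3]
def rw19 : List Nat := [2, 4, 2, 4]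
def rw20 : List Nat := [2, 7, 2, 7]
def rw21 : List Nat := [2, 5, 2, 5]
def rw22 : List Nat := [2, 6, 2, 6]
def rw23 : List Nat := [2, 8, 2, 8]
def rw24 : List Nat := [3, 3]
def rw25 : List Nat := [3, 4, 3, 4, 3, 4]
def rw26 : List Nat := [3, 7, 3, 7, 3, 7]
def rw27 : List Nat := [3, 5, 3, 5]
def rw28 : List Nat := [3, 6, 3, 6]
def rw29 : List Nat := [3, 8, 3, 8]
def rw30 : List Nat := [4, 4]
def rw31 : List Nat := [4, 7, 4, 7]
def rw32 : List Nat := [4, 5, 4, 5, 4, 5]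
def rw33 : List Nat := [4, 6, 4, 6]
def rw34 : List Nat := [4, 8, 4, 8]
def rw35 : List Nat := [7, 7]
def rw36 : List Nat := [7, 5, 7, 5]
def rw37 : List Nat := [7, 6, 7, 6]
def rw38 : List Nat := [7, 8, 7, 8, 7, 8]
def rw39 : List Nat := [5, 5]
def rw40 : List Nat := [5, 6, 5, 6, 5, 6]
def rw41 : List Nat := [5, 8, 5, 8]
def rw42 : List Nat := [6, 6]
def rw43 : List Nat := [6, 8, 6, 8]
def rw44 : List Nat := [8, 8]
def rw45 : List Nat := [3, 2, 1, 3, 4, 5, 3, 7, 8, 3, 2, 1, 3, 4, 5, 3, 7, 8, 3, 2, 1, 3, 4, 5, 3, 7, 8, 3, 2, 1, 3, 4, 5, 3, 7, 8, 3, 2, 1, 3, 4, 5, 3, 7, 8, 3, 2, 1, 3, 4, 5, 3, 7, 8, 3, 2, 1, 3, 4, 5, 3, 7, 8, 3, 2, 1, 3, 4, 5, 3, 7, 8, 3, 2, 1, 3, 4, 5, 3, 7, 8, 3, 2, 1, 3, 4, 5, 3, 7, 8]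
def rw46 : List Nat := [0, 1, 2, 3, 4, 5, 7, 0, 1, 2, 3, 4, 5, 7, 0, 1, 2, 3, 4, 5, 7, 0, 1, 2, 3, 4, 5, 7, 0, 1, 2, 3, 4, 5, 7, 0, 1, 2, 3, 4, 5, 7, 0, 1, 2, 3, 4, 5, 7, 0, 1, 2, 3, 4, 5, 7, 0, 1, 2, 3, 4, 5, 7]
def rw47 : List Nat := [1, 2, 3, 4, 5, 6, 7, 1, 2, 3, 4, 5, 6, 7, 1, 2, 3, 4, 5, 6, 7, 1, 2, 3, 4, 5, 6, 7, 1, 2, 3, 4, 5, 6, 7, 1, 2, 3, 4, 5, 6, 7, 1, 2, 3, 4, 5, 6, 7, 1, 2, 3, 4, 5, 6, 7, 1, 2, 3, 4, 5, 6, 7]
def realLit : List (List Nat) := [rw0, rw1, rw2, rw3, rw4, rw5, rw6, rw7, rw8, rw9, rw10, rw11, rw12, rw13, rw14, rw15, rw16, rw17, rw18, rw19, rw20, rw21, rw22, rw23, rw24, rw25, rw26, rw27, rw28, rw29, rw30, rw31, rw32, rw33, rw34, rw35, rw36, rw37, rw38, rw39, rw40, rw41, rw42, rw43, rw44, rw45, rw46, rw47]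
noncomputable def actR0 (i : Nat) : Nat := col0 (col0 (i))
theorem actR0_eq (i : Nat) : actR0 i = Tab.act T D rw0 i := rfl
noncomputable def actR1 (i : Nat) : Nat := col0 (col1 (col0 (col1 (col0 (col1 (i))))))
theorem actR1_eq (i : Nat) : actR1 i = Tab.act T D rw1 i := rfl
noncomputable def actR2 (i : Nat) : Nat := col0 (col2 (col0 (col2 (i))))
theorem actR2_eq (i : Nat) : actR2 i = Tab.act T D rw2 i := rfl
noncomputable def actR3 (i : Nat) : Nat := col0 (col3 (col0 (col3 (i))))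
theorem actR3_eq (i : Nat) : actR3 i = Tab.act T D rw3 i := rfl
noncomputable def actR4 (i : Nat) : Nat := col0 (col4 (col0 (col4 (i))))
theorem actR4_eq (i : Nat) : actR4 i = Tab.act T D rw4 i := rfl
noncomputable def actR5 (i : Nat) : Nat := col0 (col7 (col0 (col7 (i))))
theorem actR5_eq (i : Nat) : actR5 i = Tab.act T D rw5 i := rfl
noncomputable def actR6 (i : Nat) : Nat := col0 (col5 (col0 (col5 (i))))
theorem actR6_eq (i : Nat) : actR6 i = Tab.act T D rw6 i := rfl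
noncomputable def actR7 (i : Nat) : Nat := col0 (col6 (col0 (col6 (i))))
theorem actR7_eq (i : Nat) : actR7 i = Tab.act T D rw7 i := rfl
noncomputable def actR8 (i : Nat) : Nat := col0 (col8 (col0 (col8 (i))))
theorem actR8_eq (i : Nat) : actR8 i = Tab.act T D rw8 i := rfl
noncomputable def actR9 (i : Nat) : Nat := col1 (col1 (i))
theorem actR9_eq (i : Nat) : actR9 i = Tab.act T D rw9 i := rfl
noncomputable def actR10 (i : Nat) : Nat := col1 (col2 (col1 (col2 (col1 (col2 (i))))))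
theorem actR10_eq (i : Nat) : actR10 i = Tab.act T D rw10 i := rfl
noncomputable def actR11 (i : Nat) : Nat := col1 (col3 (col1 (col3 (i))))
theorem actR11_eq (i : Nat) : actR11 i = Tab.act T D rw11 i := rfl
noncomputable def actR12 (i : Nat) : Nat := col1 (col4 (col1 (col4 (i))))
theorem actR12_eq (i : Nat) : actR12 i = Tab.act T D rw12 i := rfl
noncomputable def actR13 (i : Nat) : Nat := col1 (col7 (col1 (col7 (i))))
theorem actR13_eq (i : Nat) : actR13 i = Tab.act T D rw13 i := rfl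
noncomputable def actR14 (i : Nat) : Nat := col1 (col5 (col1 (col5 (i))))
theorem actR14_eq (i : Nat) : actR14 i = Tab.act T D rw14 i := rfl
noncomputable def actR15 (i : Nat) : Nat := col1 (col6 (col1 (col6 (i))))
theorem actR15_eq (i : Nat) : actR15 i = Tab.act T D rw15 i := rfl
noncomputable def actR16 (i : Nat) : Nat := col1 (col8 (col1 (col8 (i))))
theorem actR16_eq (i : Nat) : actR16 i = Tab.act T D rw16 i := rfl
noncomputable def actR17 (i : Nat) : Nat := col2 (col2 (i))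
theorem actR17_eq (i : Nat) : actR17 i = Tab.act T D rw17 i := rfl
noncomputable def actR18 (i : Nat) : Nat := col2 (col3 (col2 (col3 (col2 (col3 (i))))))
theorem actR18_eq (i : Nat) : actR18 i = Tab.act T D rw18 i := rfl
noncomputable def actR19 (i : Nat) : Nat := col2 (col4 (col2 (col4 (i))))
theorem actR19_eq (i : Nat) : actR19 i = Tab.act T D rw19 i := rfl
noncomputable def actR20 (i : Nat) : Nat := col2 (col7 (col2 (col7 (i))))
theorem actR20_eq (i : Nat) : actR20 i = Tab.act T D rw20 i := rfl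
noncomputable def actR21 (i : Nat) : Nat := col2 (col5 (col2 (col5 (i))))
theorem actR21_eq (i : Nat) : actR21 i = Tab.act T D rw21 i := rfl
noncomputable def actR22 (i : Nat) : Nat := col2 (col6 (col2 (col6 (i))))
theorem actR22_eq (i : Nat) : actR22 i = Tab.act T D rw22 i := rfl
noncomputable def actR23 (i : Nat) : Nat := col2 (col8 (col2 (col8 (i))))
theorem actR23_eq (i : Nat) : actR23 i = Tab.act T D rw23 i := rfl
noncomputable def actR24 (i : Nat) : Nat := col3 (col3 (i))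
theorem actR24_eq (i : Nat) : actR24 i = Tab.act T D rw24 i := rfl
noncomputable def actR25 (i : Nat) : Nat := col3 (col4 (col3 (col4 (col3 (col4 (i))))))
theorem actR25_eq (i : Nat) : actR25 i = Tab.act T D rw25 i := rfl
noncomputable def actR26 (i : Nat) : Nat := col3 (col7 (col3 (col7 (col3 (col7 (i))))))
theorem actR26_eq (i : Nat) : actR26 i = Tab.act T D rw26 i := rfl
noncomputable def actR27 (i : Nat) : Nat := col3 (col5 (col3 (col5 (i))))
theorem actR27_eq (i : Nat) : actR27 i = Tab.act T D rw27 i := rfl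
noncomputable def actR28 (i : Nat) : Nat := col3 (col6 (col3 (col6 (i))))
theorem actR28_eq (i : Nat) : actR28 i = Tab.act T D rw28 i := rfl
noncomputable def actR29 (i : Nat) : Nat := col3 (col8 (col3 (col8 (i))))
theorem actR29_eq (i : Nat) : actR29 i = Tab.act T D rw29 i := rfl
noncomputable def actR30 (i : Nat) : Nat := col4 (col4 (i))
theorem actR30_eq (i : Nat) : actR30 i = Tab.act T D rw30 i := rfl
noncomputable def actR31 (i : Nat) : Nat := col4 (col7 (col4 (col7 (i))))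
theorem actR31_eq (i : Nat) : actR31 i = Tab.act T D rw31 i := rfl
noncomputable def actR32 (i : Nat) : Nat := col4 (col5 (col4 (col5 (col4 (col5 (i))))))
theorem actR32_eq (i : Nat) : actR32 i = Tab.act T D rw32 i := rfl
noncomputable def actR33 (i : Nat) : Nat := col4 (col6 (col4 (col6 (i))))
theorem actR33_eq (i : Nat) : actR33 i = Tab.act T D rw33 i := rfl
noncomputable def actR34 (i : Nat) : Nat := col4 (col8 (col4 (col8 (i))))
theorem actR34_eq (i : Nat) : actR34 i = Tab.act T D rw34 i := rfl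
noncomputable def actR35 (i : Nat) : Nat := col7 (col7 (i))
theorem actR35_eq (i : Nat) : actR35 i = Tab.act T D rw35 i := rfl
noncomputable def actR36 (i : Nat) : Nat := col7 (col5 (col7 (col5 (i))))
theorem actR36_eq (i : Nat) : actR36 i = Tab.act T D rw36 i := rfl
noncomputable def actR37 (i : Nat) : Nat := col7 (col6 (col7 (col6 (i))))
theorem actR37_eq (i : Nat) : actR37 i = Tab.act T D rw37 i := rfl
noncomputable def actR38 (i : Nat) : Nat := col7 (col8 (col7 (col8 (col7 (col8 (i))))))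
theorem actR38_eq (i : Nat) : actR38 i = Tab.act T D rw38 i := rfl
noncomputable def actR39 (i : Nat) : Nat := col5 (col5 (i))
theorem actR39_eq (i : Nat) : actR39 i = Tab.act T D rw39 i := rfl
noncomputable def actR40 (i : Nat) : Nat := col5 (col6 (col5 (col6 (col5 (col6 (i))))))
theorem actR40_eq (i : Nat) : actR40 i = Tab.act T D rw40 i := rfl
noncomputable def actR41 (i : Nat) : Nat := col5 (col8 (col5 (col8 (i))))
theorem actR41_eq (i : Nat) : actR41 i = Tab.act T D rw41 i := rfl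
noncomputable def actR42 (i : Nat) : Nat := col6 (col6 (i))
theorem actR42_eq (i : Nat) : actR42 i = Tab.act T D rw42 i := rfl
noncomputable def actR43 (i : Nat) : Nat := col6 (col8 (col6 (col8 (i))))
theorem actR43_eq (i : Nat) : actR43 i = Tab.act T D rw43 i := rfl
noncomputable def actR44 (i : Nat) : Nat := col8 (col8 (i))
theorem actR44_eq (i : Nat) : actR44 i = Tab.act T D rw44 i := rfl
noncomputable def actR45 (i : Nat) : Nat := col3 (col2 (col1 (col3 (col4 (col5 (col3 (col7 (col8 (col3 (col2 (col1 (col3 (col4 (col5 (col3 (col7 (col8 (col3 (col2 (col1 (col3 (col4 (col5 (col3 (col7 (col8 (col3 (col2 (col1 (col3 (col4 (col5 (col3 (col7 (col8 (col3 (col2 (col1 (col3 (col4 (col5 (col3 (col7 (col8 (col3 (col2 (col1 (col3 (col4 (col5 (col3 (col7 (col8 (col3 (col2 (col1 (col3 (col4 (col5 (col3 (col7 (col8 (col3 (col2 (col1 (col3 (col4 (col5 (col3 (col7 (col8 (col3 (col2 (col1 (col3 (col4 (col5 (col3 (col7 (col8 (col3 (col2 (col1 (col3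 (col4 (col5 (col3 (col7 (col8 (i))))))))))))))))))))))))))))))))))))))))))))))))))))))))))))))))))))))))))))))))))))))))))
theorem actR45_eq (i : Nat) : actR45 i = Tab.act T D rw45 i := rfl
noncomputable def actR46 (i : Nat) : Nat := col0 (col1 (col2 (col3 (col4 (col5 (col7 (col0 (col1 (col2 (col3 (col4 (col5 (col7 (col0 (col1 (col2 (col3 (col4 (col5 (col7 (col0 (col1 (col2 (col3 (col4 (col5 (col7 (col0 (col1 (col2 (col3 (col4 (col5 (col7 (col0 (col1 (col2 (col3 (col4 (col5 (col7 (col0 (col1 (col2 (col3 (col4 (col5 (col7 (col0 (col1 (col2 (col3 (col4 (col5 (col7 (col0 (col1 (col2 (col3 (col4 (col5 (col7 (i)))))))))))))))))))))))))))))))))))))))))))))))))))))))))))))))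
theorem actR46_eq (i : Nat) : actR46 i = Tab.act T D rw46 i := rfl
noncomputable def actR47 (i : Nat) : Nat := col1 (col2 (col3 (col4 (col5 (col6 (col7 (col1 (col2 (col3 (col4 (col5 (col6 (col7 (col1 (col2 (col3 (col4 (col5 (col6 (col7 (col1 (col2 (col3 (col4 (col5 (col6 (col7 (col1 (col2 (col3 (col4 (col5 (col6 (col7 (col1 (col2 (col3 (col4 (col5 (col6 (col7 (col1 (col2 (col3 (col4 (col5 (col6 (col7 (col1 (col2 (col3 (col4 (col5 (col6 (col7 (col1 (col2 (col3 (col4 (col5 (col6 (col7 (i)))))))))))))))))))))))))))))))))))))))))))))))))))))))))))))))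
theorem actR47_eq (i : Nat) : actR47 i = Tab.act T D rw47 i := rfl

end Cfsg.Agent.Lib.Helper4.TCD.Fi22a
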