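import Cfsg.Agent.Lib.Helper4.TCD_Fi22a_Acc

namespace Cfsg.Agent.Lib.Helper4.TCD.Fi22a

open Cfsg.Agent.Lib.Helper4.TC

set_option maxRecDepth 100000

theorem c_zero : D.zeroOK = true := by decide +kernel
theorem c_names : allRange D.nameOK 1 3522 = true := by decide +kernel
theorem c_base : allBelow D.baseOK 18 = true := by decide +kernel
theorem c_let : allBelow D.letOK 9 = true := by decide +kernel
theorem c_cls : allRange (T.clsOK D) 1 3522 = true := by decide +kernel
theorem c_rep : allBelow (T.repOK D) 3510 = true := by decide +kernel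
theorem c_cls0 : T.cls 0 = 0 := by decide +kernel
theorem c_name0 : T.nameOf 0 = 0 := by decide +kernel
theorem c_tab : D.relTabOK 0 (baseRels 9 PFi22.invR PFi22.P.real subs ++ (baseRels 9 PFi22.invR PFi22.P.real subs).map (invWord D.inv)) = true := by decide +kernel
theorem c_real : PFi22.P.real = realLit := by decide +kernel
theorem c_subfix : subs.all (fun u => Nat.beq (Tab.act T D u 0) 0) = true := by decide +kernel
theorem c_subs : subs.all (fun u => u.all (fun x => Nat.ble (Nat.succ x) 9)) = true := by decide +kernel

end Cfsg.Agent.Lib.Helper4.TCD.Fi22a
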