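import Cfsg.Agent.Lib.Helper4.TCD_Fi22a_Acc

namespace Cfsg.Agent.Lib.Helper4.TCD.Fi22a

open Cfsg.Agent.Lib.Helper4.TC

set_option maxRecDepth 100000

theorem c_fin_0 : allGrid (T.finOK D) 0 3510 9 = true := by decide +kernel
theorem c_perm_0 : allGrid (T.permOK1 D) 0 3510 9 = true := by decide +kernel

end Cfsg.Agent.Lib.Helper4.TCD.Fi22a
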