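import Cfsg.Agent.Lib.Helper4.TCD_Fi22a_Acc

namespace Cfsg.Agent.Lib.Helper4.TCD.Fi22a

open Cfsg.Agent.Lib.Helper4.TC

set_option maxRecDepth 100000

theorem c_oinv_0 : allRange (Tab.orbInvOK T D subs 1 694) 1 693 = true := by decide +kernel
theorem c_otree_0 : allRange (Tab.orbTreeOK T D subs oparTab olabTab 1) 2 692 = true := by decide +kernel
theorem c_oinv_1 : allRange (Tab.orbInvOK T D subs 694 3510) 694 2816 = true := by decide +kernel
theorem c_otree_1 : allRange (Tab.orbTreeOK T D subs oparTab olabTab 694) 695 2815 = true := by decide +kernel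

end Cfsg.Agent.Lib.Helper4.TCD.Fi22a
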