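import Cfsg.Agent.Lib.Helper4.TCD_Fi22b_Acc

namespace Cfsg.Agent.Lib.Helper4.TCD.Fi22bO

open Cfsg.Agent.Lib.Helper4.TC Cfsg.Agent.Lib.Helper4.TCD.Fi22b

set_option maxRecDepth 100000
set_option Elab.async false

theorem c_oinv0_0 : allRange (Tab.orbInvOK T D subs 1 3160) 1 3159 = true := by decide +kernel
theorem c_otree0_0 : allRange (Tab.orbTreeOK T D subs oparTab olabTab 1) 2 3158 = true := by decide +kernel
theorem c_oinv1_0 : allRange (Tab.orbInvOK T D subs 3160 14080) 3160 3750 = true := by decide +kernel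
theorem c_oinv1_1 : allRange (Tab.orbInvOK T D subs 3160 14080) 6910 3750 = true := by decide +kernel
theorem c_oinv1_2 : allRange (Tab.orbInvOK T D subs 3160 14080) 10660 3420 = true := by decide +kernel
theorem c_otree1_0 : allRange (Tab.orbTreeOK T D subs oparTab olabTab 3160) 3161 10919 = true := by decide +kernel

end Cfsg.Agent.Lib.Helper4.TCD.Fi22bO
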