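import Cfsg.Agent.Lib.Helper4.TCD_Fi22b_Acc

namespace Cfsg.Agent.Lib.Helper4.TCD.Fi22b

open Cfsg.Agent.Lib.Helper4.TC

set_option maxRecDepth 100000
set_option Elab.async false

theorem c_zero : D.zeroOK = true := by decide +kernel
theorem c_base : allBelow D.baseOK 16 = true := by decide +kernel
theorem c_let : allBelow D.letOK 9 = true := by decide +kernel
theorem c_cls0 : T.cls 0 = 0 := by decide +kernel
theorem c_name0 : T.nameOf 0 = 0 := by decide +kernel
theorem c_tab : D.relTabOK 0 (baseRels 9 PFi22.invR PFi22.P.real subs ++ (baseRels 9 PFi22.invR PFi22.P.real subs).map (invWord D.inv)) = true := by decide +kernel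
theorem c_real : PFi22.P.real = realLit := by decide +kernel
theorem c_subfix : subs.all (fun u => Nat.beq (Tab.act T D u 0) 0) = true := by decide +kernel
theorem c_subs : subs.all (fun u => u.all (fun x => Nat.ble (Nat.succ x) 9)) = true := by decide +kernel
theorem c_names_0 : allRange D.nameOK 1 15637 = true := by decide +kernel
theorem c_cls_0 : allRange (T.clsOK D) 1 15000 = true := by decide +kernel
theorem c_cls_1 : allRange (T.clsOK D) 15001 637 = true := by decide +kernel
theorem c_rep_0 : allRange (T.repOK D) 0 14080 = true := by decide +kernel
theorem c_rel_0 : allRange D.relOK 15654 3472 = true := by decide +kernel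
theorem c_rel_1 : allRange D.relOK 19126 3442 = true := by decide +kernel
theorem c_rel_2 : allRange D.relOK 22568 3465 = true := by decide +kernel
theorem c_rel_3 : allRange D.relOK 26033 3485 = true := by decide +kernel
theorem c_rel_4 : allRange D.relOK 29518 3487 = true := by decide +kernel
theorem c_rel_5 : allRange D.relOK 33005 3394 = true := by decide +kernel
theorem c_rel_6 : allRange D.relOK 36399 3379 = true := by decide +kernel
theorem c_rel_7 : allRange D.relOK 39778 3352 = true := by decide +kernel
theorem c_rel_8 : allRange D.relOK 43130 3374 = true := by decide +kernel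
theorem c_rel_9 : allRange D.relOK 46504 3380 = true := by decide +kernel
theorem c_rel_10 : allRange D.relOK 49884 3251 = true := by decide +kernel
theorem c_rel_11 : allRange D.relOK 53135 3273 = true := by decide +kernel
theorem c_rel_12 : allRange D.relOK 56408 3406 = true := by decide +kernel
theorem c_rel_13 : allRange D.relOK 59814 3407 = true := by decide +kernel
theorem c_rel_14 : allRange D.relOK 63221 3475 = true := by decide +kernel
theorem c_rel_15 : allRange D.relOK 66696 3464 = true := by decide +kernel
theorem c_rel_16 : allRange D.relOK 70160 3470 = true := by decide +kernel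
theorem c_rel_17 : allRange D.relOK 73630 2221 = true := by decide +kernel
theorem c_fin_0 : allGrid (T.finOK D) 0 1333 9 = true := by decide +kernel
theorem c_fin_1 : allGrid (T.finOK D) 1333 1333 9 = true := by decide +kernel
theorem c_fin_2 : allGrid (T.finOK D) 2666 1333 9 = true := by decide +kernel
theorem c_fin_3 : allGrid (T.finOK D) 3999 1333 9 = true := by decide +kernel
theorem c_fin_4 : allGrid (T.finOK D) 5332 1333 9 = true := by decide +kernel
theorem c_fin_5 : allGrid (T.finOK D) 6665 1333 9 = true := by decide +kernel
theorem c_fin_6 : allGrid (T.finOK D) 7998 1333 9 = true := by decide +kernel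
theorem c_fin_7 : allGrid (T.finOK D) 9331 1333 9 = true := by decide +kernel
theorem c_fin_8 : allGrid (T.finOK D) 10664 1333 9 = true := by decide +kernel
theorem c_fin_9 : allGrid (T.finOK D) 11997 1333 9 = true := by decide +kernel
theorem c_fin_10 : allGrid (T.finOK D) 13330 750 9 = true := by decide +kernel
theorem c_perm_0 : allGrid (T.permOK1 D) 0 3333 9 = true := by decide +kernel
theorem c_perm_1 : allGrid (T.permOK1 D) 3333 3333 9 = true := by decide +kernel
theorem c_perm_2 : allGrid (T.permOK1 D) 6666 3333 9 = true := by decide +kernel
theorem c_perm_3 : allGrid (T.permOK1 D) 9999 3333 9 = true := by decide +kernel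
theorem c_perm_4 : allGrid (T.permOK1 D) 13332 748 9 = true := by decide +kernel
theorem c_act0_0 : allRange (fun i => Nat.beq (actR0 i) i) 0 14080 = true := by decide +kernel
theorem c_act1_0 : allRange (fun i => Nat.beq (actR1 i) i) 0 10000 = true := by decide +kernel
theorem c_act1_1 : allRange (fun i => Nat.beq (actR1 i) i) 10000 4080 = true := by decide +kernel
theorem c_act2_0 : allRange (fun i => Nat.beq (actR2 i) i) 0 14080 = true := by decide +kernel
theorem c_act3_0 : allRange (fun i => Nat.beq (actR3 i) i) 0 14080 = true := by decide +kernel
theorem c_act4_0 : allRange (fun i => Nat.beq (actR4 i) i) 0 14080 = true := by decide +kernel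
theorem c_act5_0 : allRange (fun i => Nat.beq (actR5 i) i) 0 14080 = true := by decide +kernel
theorem c_act6_0 : allRange (fun i => Nat.beq (actR6 i) i) 0 14080 = true := by decide +kernel
theorem c_act7_0 : allRange (fun i => Nat.beq (actR7 i) i) 0 14080 = true := by decide +kernel
theorem c_act8_0 : allRange (fun i => Nat.beq (actR8 i) i) 0 14080 = true := by decide +kernel
theorem c_act9_0 : allRange (fun i => Nat.beq (actR9 i) i) 0 14080 = true := by decide +kernel
theorem c_act10_0 : allRange (fun i => Nat.beq (actR10 i) i) 0 10000 = true := by decide +kernel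
theorem c_act10_1 : allRange (fun i => Nat.beq (actR10 i) i) 10000 4080 = true := by decide +kernel
theorem c_act11_0 : allRange (fun i => Nat.beq (actR11 i) i) 0 14080 = true := by decide +kernel
theorem c_act12_0 : allRange (fun i => Nat.beq (actR12 i) i) 0 14080 = true := by decide +kernel
theorem c_act13_0 : allRange (fun i => Nat.beq (actR13 i) i) 0 14080 = true := by decide +kernel
theorem c_act14_0 : allRange (fun i => Nat.beq (actR14 i) i) 0 14080 = true := by decide +kernel
theorem c_act15_0 : allRange (fun i => Nat.beq (actR15 i) i) 0 14080 = true := by decide +kernel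
theorem c_act16_0 : allRange (fun i => Nat.beq (actR16 i) i) 0 14080 = true := by decide +kernel
theorem c_act17_0 : allRange (fun i => Nat.beq (actR17 i) i) 0 14080 = true := by decide +kernel
theorem c_act18_0 : allRange (fun i => Nat.beq (actR18 i) i) 0 10000 = true := by decide +kernel
theorem c_act18_1 : allRange (fun i => Nat.beq (actR18 i) i) 10000 4080 = true := by decide +kernel
theorem c_act19_0 : allRange (fun i => Nat.beq (actR19 i) i) 0 14080 = true := by decide +kernel
theorem c_act20_0 : allRange (fun i => Nat.beq (actR20 i) i) 0 14080 = true := by decide +kernel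
theorem c_act21_0 : allRange (fun i => Nat.beq (actR21 i) i) 0 14080 = true := by decide +kernel
theorem c_act22_0 : allRange (fun i => Nat.beq (actR22 i) i) 0 14080 = true := by decide +kernel
theorem c_act23_0 : allRange (fun i => Nat.beq (actR23 i) i) 0 14080 = true := by decide +kernel
theorem c_act24_0 : allRange (fun i => Nat.beq (actR24 i) i) 0 14080 = true := by decide +kernel
theorem c_act25_0 : allRange (fun i => Nat.beq (actR25 i) i) 0 10000 = true := by decide +kernel
theorem c_act25_1 : allRange (fun i => Nat.beq (actR25 i) i) 10000 4080 = true := by decide +kernel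

end Cfsg.Agent.Lib.Helper4.TCD.Fi22b
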