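import Cfsg.Agent.Lib.Helper4.TC14
import Cfsg.Agent.Lib.Helper4.TCP_Fi22x
import Cfsg.Agent.Lib.Helper4.TCD_Fi22xR_D0

namespace Cfsg.Agent.Lib.Helper4.TCD.Fi22xR

open Cfsg.Agent.Lib.Helper4.TC

set_option maxRecDepth 100000

noncomputable def col0 (i : Nat) : Nat := rdw 12 4095 col0_0 i
noncomputable def col1 (i : Nat) : Nat := col0 i
noncomputable def col2 (i : Nat) : Nat := rdw 12 4095 col2_0 i
noncomputable def col3 (i : Nat) : Nat := col2 i
noncomputable def col4 (i : Nat) : Nat := rdw 12 4095 col4_0 i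
noncomputable def col5 (i : Nat) : Nat := col4 i
noncomputable def col6 (i : Nat) : Nat := rdw 12 4095 col6_0 i
noncomputable def col7 (i : Nat) : Nat := col6 i
noncomputable def col8 (i : Nat) : Nat := rdw 12 4095 col8_0 i
noncomputable def col9 (i : Nat) : Nat := col8 i
noncomputable def col10 (i : Nat) : Nat := rdw 12 4095 col10_0 i
noncomputable def col11 (i : Nat) : Nat := col10 i
noncomputable def col12 (i : Nat) : Nat := rdw 12 4095 col12_0 i
noncomputable def col13 (i : Nat) : Nat := col12 i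
noncomputable def col14 (i : Nat) : Nat := rdw 12 4095 col14_0 i
noncomputable def col15 (i : Nat) : Nat := col14 i
noncomputable def col16 (i : Nat) : Nat := rdw 12 4095 col16_0 i
noncomputable def col17 (i : Nat) : Nat := col16 i
noncomputable def col18 (i : Nat) : Nat := rdw 12 4095 col18_0 i
noncomputable def col19 (i : Nat) : Nat := col18 i
noncomputable def col20 (i : Nat) : Nat := rdw 12 4095 col20_0 i
noncomputable def col21 (i : Nat) : Nat := rdw 12 4095 col21_0 i
noncomputable def col22 (i : Nat) : Nat := rdw 12 4095 col22_0 i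
noncomputable def col23 (i : Nat) : Nat := rdw 12 4095 col23_0 i
noncomputable def col24 (i : Nat) : Nat := rdw 12 4095 col24_0 i
noncomputable def col25 (i : Nat) : Nat := col24 i
noncomputable def col26 (i : Nat) : Nat := rdw 12 4095 col26_0 i
noncomputable def col27 (i : Nat) : Nat := rdw 12 4095 col27_0 i
noncomputable def col28 (i : Nat) : Nat := rdw 12 4095 col28_0 i
noncomputable def col29 (i : Nat) : Nat := col28 i
noncomputable def tblF (i x : Nat) : Nat := @Bool.rec (fun _ => Nat) (@Bool.rec (fun _ => Nat) (@Bool.rec (fun _ => Nat) (@Bool.rec (fun _ => Nat) (col0 i) (@Bool.rec (fun _ => Nat) (col1 i) (col2 i) (Nat.ble 2 x)) (Nat.ble 1 x)) (@Bool.rec (fun _ => Nat) (@Bool.rec (fun _ => Nat) (col3 i) (col4 i) (Nat.ble 4 x)) (@Bool.rec (fun _ => Nat) (col5 i) (col6 i) (Nat.ble 6 x)) (Nat.ble 5 x)) (Nat.ble 3 x)) (@Bool.rec (fun _ => Nat) (@Bool.rec (fun _ => Nat) (@Bool.rec (fun _ => Nat) (col7 i) (col8 i) (Nat.ble 8 x)) (@Bool.rec (fun _ =>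 Nat) (col9 i) (col10 i) (Nat.ble 10 x)) (Nat.ble 9 x)) (@Bool.rec (fun _ => Nat) (@Bool.rec (fun _ => Nat) (col11 i) (col12 i) (Nat.ble 12 x)) (@Bool.rec (fun _ => Nat) (col13 i) (col14 i) (Nat.ble 14 x)) (Nat.ble 13 x)) (Nat.ble 11 x)) (Nat.ble 7 x)) (@Bool.rec (fun _ => Nat) (@Bool.rec (fun _ => Nat) (@Bool.rec (fun _ => Nat) (col15 i) (@Bool.rec (fun _ => Nat) (col16 i) (col17 i) (Nat.ble 17 x)) (Nat.ble 16 x)) (@Bool.rec (fun _ => Nat) (@Bool.rec (fun _ => Nat) (col18 i) (col19 i) (Nat.ble 19 x)) (@Bool.rec (fun _ => Nat) (col20 i) (col21 i) (Nat.ble 21 x)) (Nat.ble 20 x)) (Nat.ble 18 x)) (@Bool.rec (fun _ => Nat) (@Bool.rec (fun _ => Nat) (@Bool.rec (fun _ => Nat) (col22 i) (col23 i) (Nat.ble 23 x)) (@Bool.rec (fun _ => Nat) (col24 i) (col25 i) (Nat.ble 25 x)) (Nat.ble 24 x)) (@Bool.rec (fun _ => Nat) (@Bool.rec (fun _ => Nat) (col26 i) (col27 i) (Nat.ble 27 x)) (@Bool.rec (fun _ => Nat) (col28 i) (col29 i) (Nat.ble 29 x)) (Nat.ble 28 x)) (Nat.ble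 26 x)) (Nat.ble 22 x)) (Nat.ble 15 x)

noncomputable def D : Log :=
  { k := 30, inv := PFi22x.invR, nR := 0, rBase := fun _ => 0, rLen := fun _ => 0, RR := fun _ => 0,
    M := 0, nB := 0, F := 0, src := fun _ => 0, lt := fun _ => 0, tgt := fun _ => 0, rho := fun _ => 0, rot := fun _ => 0,
    off := fun _ => 0, len := fun _ => 0, pf := fun _ => 0, pd := fun _ => 0 }

noncomputable def T : Tab :=
  { N := 3510, nameOf := fun _ => 0, tbl := tblF, finF := fun _ _ => 0, finD := fun _ _ => 0, cls := fun _ => 0 }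

def rw0 : List Nat := [0, 0]
def rw1 : List Nat := [0, 2, 0, 2, 0, 2]
def rw2 : List Nat := [0, 4, 0, 4]
def rw3 : List Nat := [0, 6, 0, 6]
def rw4 : List Nat := [0, 8, 0, 8]
def rw5 : List Nat := [0, 14, 0, 14]
def rw6 : List Nat := [0, 10, 0, 10]
def rw7 : List Nat := [0, 12, 0, 12]
def rw8 : List Nat := [0, 16, 0, 16]
def rw9 : List Nat := [2, 2]
def rw10 : List Nat := [2, 4, 2, 4, 2, 4]
def rw11 : List Nat := [2, 6, 2, 6]
def rw12 : List Nat := [2, 8, 2, 8]
def rw13 : List Nat := [2, 14, 2, 14]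
def rw14 : List Nat := [2, 10, 2, 10]
def rw15 : List Nat := [2, 12, 2, 12]
def rw16 : List Nat := [2, 16, 2, 16]
def rw17 : List Nat := [4, 4]
def rw18 : List Nat := [4, 6, 4, 6, 4, 6]
def rw19 : List Nat := [4, 8, 4, 8]
def rw20 : List Nat := [4, 14, 4, 14]
def rw21 : List Nat := [4, 10, 4, 10]
def rw22 : List Nat := [4, 12, 4, 12]
def rw23 : List Nat := [4, 16, 4, 16]
def rw24 : List Nat := [6, 6]
def rw25 : List Nat := [6, 8, 6, 8, 6, 8]
def rw26 : List Nat := [6, 14, 6, 14, 6, 14]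
def rw27 : List Nat := [6, 10, 6, 10]
def rw28 : List Nat := [6, 12, 6, 12]
def rw29 : List Nat := [6, 16, 6, 16]
def rw30 : List Nat := [8, 8]
def rw31 : List Nat := [8, 14, 8, 14]
def rw32 : List Nat := [8, 10, 8, 10, 8, 10]
def rw33 : List Nat := [8, 12, 8, 12]
def rw34 : List Nat := [8, 16, 8, 16]
def rw35 : List Nat := [14, 14]
def rw36 : List Nat := [14, 10, 14, 10]
def rw37 : List Nat := [14, 12, 14, 12]
def rw38 : List Nat := [14, 16, 14, 16, 14, 16]
def rw39 : List Nat := [10, 10]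
def rw40 : List Nat := [10, 12, 10, 12, 10, 12]
def rw41 : List Nat := [10, 16, 10, 16]
def rw42 : List Nat := [12, 12]
def rw43 : List Nat := [12, 16, 12, 16]
def rw44 : List Nat := [16, 16]
def rw45 : List Nat := [6, 4, 2, 6, 8, 10, 6, 14, 16, 6, 4, 2, 6, 8, 10, 6, 14, 16, 6, 4, 2, 6, 8, 10, 6, 14, 16, 6, 4, 2, 6, 8, 10, 6, 14, 16, 6, 4, 2, 6, 8, 10, 6, 14, 16, 6, 4, 2, 6, 8, 10, 6, 14, 16, 6, 4, 2, 6, 8, 10, 6, 14, 16, 6, 4, 2, 6, 8, 10, 6, 14, 16, 6, 4, 2, 6, 8, 10, 6, 14, 16, 6, 4, 2, 6, 8, 10, 6, 14, 16]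
def rw46 : List Nat := [0, 2, 4, 6, 8, 10, 14, 0, 2, 4, 6, 8, 10, 14, 0, 2, 4, 6, 8, 10, 14, 0, 2, 4, 6, 8, 10, 14, 0, 2, 4, 6, 8, 10, 14, 0, 2, 4, 6, 8, 10, 14, 0, 2, 4, 6, 8, 10, 14, 0, 2, 4, 6, 8, 10, 14, 0, 2, 4, 6, 8, 10, 14]
def rw47 : List Nat := [2, 4, 6, 8, 10, 12, 14, 2, 4, 6, 8, 10, 12, 14, 2, 4, 6, 8, 10, 12, 14, 2, 4, 6, 8, 10, 12, 14, 2, 4, 6, 8, 10, 12, 14, 2, 4, 6, 8, 10, 12, 14, 2, 4, 6, 8, 10, 12, 14, 2, 4, 6, 8, 10, 12, 14, 2, 4, 6, 8, 10, 12, 14]
def rw48 : List Nat := [19, 12, 10, 6, 8, 4, 6, 2, 4, 0, 2, 0, 2, 0, 4, 2, 6, 4, 8, 6, 10, 12, 0]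
def rw49 : List Nat := [21, 14, 8, 10, 6, 8, 4, 6, 14, 16, 6, 14, 8, 10, 6, 8, 2, 4, 6, 14, 12, 10, 8, 6, 4, 2, 0, 2, 4, 6, 8, 10, 12, 14, 6, 4, 2, 8, 6, 10, 8, 14, 6, 16, 14, 6, 4, 8, 6, 10, 8, 14, 16, 6, 14, 8, 10, 6, 8, 2, 4, 6, 14, 12, 10, 8, 6, 4, 2, 0, 2, 4, 6, 8, 10, 12, 14, 6, 4, 2, 8, 6, 10, 8, 14, 6, 16, 14, 6, 8, 4, 6, 14, 16, 2, 4, 6, 14, 8, 6, 4, 2, 0, 2, 4, 6, 8, 14, 6, 4, 2, 16, 14, 6, 4, 8, 6, 14, 10, 8, 6, 14, 12, 10, 8, 6, 2, 4, 0, 2, 0, 2, 0, 4, 2, 6, 8, 10, 12, 14, 6, 8, 10]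
def rw50 : List Nat := [23, 10, 8, 4, 6, 14, 16, 14, 8, 10, 4, 6, 8, 2, 4, 6, 14, 12, 10, 8, 6, 4, 2, 0, 2, 4, 6, 8, 10, 12, 14, 6, 4, 2, 8, 6, 4, 10, 8, 14, 16, 14, 6, 4, 8, 10, 2, 4, 0, 2, 0, 2, 0, 4, 2]
def rw51 : List Nat := [25, 16, 8, 6, 14, 10, 12, 8, 10, 6, 8, 4, 6, 14, 16, 8, 10, 4, 6, 8, 2, 4, 6, 14, 12, 10, 8, 6, 4, 2, 0, 2, 4, 6, 8, 10, 12, 14, 6, 4, 2, 8, 6, 4, 10, 8, 16, 14, 6, 4, 8, 6, 10, 8, 12, 10, 14, 6, 8, 16, 0]
def rw52 : List Nat := [27, 6, 14, 16, 4, 6, 14, 8, 10, 6, 8, 4, 6, 14, 16, 6, 14, 8, 10, 6, 8, 2, 4, 6, 14, 12, 10, 8, 6, 4, 2, 0, 2, 4, 6, 8, 10, 12, 14, 6, 4, 2, 8, 6, 10, 8, 14, 6, 16, 14, 6, 4, 8, 6, 10, 8, 14, 6, 4, 16, 14, 6, 6, 8, 4, 6, 14, 16, 8, 2, 4, 6, 14, 10, 8, 6, 4, 2, 0, 2, 4, 6, 8, 10, 14, 6, 4, 2, 8, 16, 14, 6, 4, 8, 6, 4, 6, 14, 16, 6, 8, 2, 4, 6, 14, 10, 8, 6, 4, 2, 0, 2, 4, 6, 8, 10, 14, 6, 4, 2, 8, 6, 16, 14, 6, 4, 14, 6, 8, 2, 4, 6, 14, 12, 10, 8, 6, 4, 2, 0, 2, 4, 6, 8, 10, 12, 14, 6, 4, 2, 8, 6,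 14]
def rw53 : List Nat := [29, 0]
def rw54 : List Nat := [18, 18]
def rw55 : List Nat := [20, 20, 20, 20, 20]
def rw56 : List Nat := [18, 20, 18, 20, 18, 20, 18, 20, 18, 20, 18, 20, 18, 20, 18, 20, 18, 20]
def rw57 : List Nat := [19, 21, 18, 20, 19, 21, 18, 20, 19, 21, 18, 20]
def rw58 : List Nat := [19, 21, 19, 21, 18, 20, 18, 20, 19, 21, 19, 21, 18, 20, 18, 20]
def rw59 : List Nat := [22, 22, 22]
def rw60 : List Nat := [23, 19, 22, 18]
def rw61 : List Nat := [23, 21, 22, 20]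
def rw62 : List Nat := [24, 24]
def rw63 : List Nat := [18, 24, 18, 24, 18, 24]
def rw64 : List Nat := [18, 20, 18, 20, 22, 24, 18, 20, 24]
def rw65 : List Nat := [26, 26, 26]
def rw66 : List Nat := [18, 20, 18, 20, 18, 20, 22, 24, 20, 18, 26, 20, 18, 21, 27, 18, 21]
def rw67 : List Nat := [18, 20, 18, 20, 18, 20, 18, 26, 22, 26, 20, 18, 21, 18, 21, 18, 20, 20, 1]
def rw68 : List Nat := [18, 20, 18, 20, 18, 20, 18, 21, 21, 18, 21, 22, 24, 20, 20, 24, 18, 21, 26, 24, 26, 23, 20, 24, 27, 21, 21, 29]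
def rw69 : List Nat := [28, 28]
def rw70 : List Nat := [1, 19, 0, 18]
def rw71 : List Nat := [1, 21, 0, 20]
def rw72 : List Nat := [1, 23, 0, 22]
def rw73 : List Nat := [1, 25, 0, 24]
def rw74 : List Nat := [1, 27, 0, 26]
def rw75 : List Nat := [29, 19, 28, 18]
def rw76 : List Nat := [29, 21, 28, 20]
def rw77 : List Nat := [29, 23, 28, 22]
def rw78 : List Nat := [29, 25, 28, 24]
def rw79 : List Nat := [29, 27, 28, 26]
def rw80 : List Nat := [1, 29, 0, 28]
def realLit : List (List Nat) := [rw0, rw1, rw2, rw3, rw4, rw5, rw6, rw7, rw8, rw9, rw10, rw11, rw12, rw13, rw14, rw15, rw16, rw17, rw18, rw19, rw20, rw21, rw22, rw23, rw24, rw25, rw26, rw27, rw28, rw29, rw30, rw31, rw32, rw33, rw34, rw35, rw36, rw37, rw38, rw39, rw40, rw41, rw42, rw43, rw44, rw45, rw46, rw47, rw48, rw49, rw50, rw51, rw52, rw53, rw54, rw55, rw56, rw57, rw58, rw59, rw60, rw61, rw62, rw63, rw64, rw65, rw66, rw67, rw68, rw69, rw70, rw71, rw72, rw73, rw74, rw75, rw76, rw77, rw78, rw79,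 rw80]
noncomputable def actR0 (i : Nat) : Nat := col1 (col1 (i))
theorem actR0_eq (i : Nat) : actR0 i = Tab.act T D rw0 i := rfl
noncomputable def actR1 (i : Nat) : Nat := col1 (col3 (col1 (col3 (col1 (col3 (i))))))
theorem actR1_eq (i : Nat) : actR1 i = Tab.act T D rw1 i := rfl
noncomputable def actR2 (i : Nat) : Nat := col1 (col5 (col1 (col5 (i))))
theorem actR2_eq (i : Nat) : actR2 i = Tab.act T D rw2 i := rfl
noncomputable def actR3 (i : Nat) : Nat := col1 (col7 (col1 (col7 (i))))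
theorem actR3_eq (i : Nat) : actR3 i = Tab.act T D rw3 i := rfl
noncomputable def actR4 (i : Nat) : Nat := col1 (col9 (col1 (col9 (i))))
theorem actR4_eq (i : Nat) : actR4 i = Tab.act T D rw4 i := rfl
noncomputable def actR5 (i : Nat) : Nat := col1 (col15 (col1 (col15 (i))))
theorem actR5_eq (i : Nat) : actR5 i = Tab.act T D rw5 i := rfl
noncomputable def actR6 (i : Nat) : Nat := col1 (col11 (col1 (col11 (i))))
theorem actR6_eq (i : Nat) : actR6 i = Tab.act T D rw6 i := rfl
noncomputable def actR7 (i : Nat) : Nat := col1 (col13 (col1 (col13 (i))))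
theorem actR7_eq (i : Nat) : actR7 i = Tab.act T D rw7 i := rfl
noncomputable def actR8 (i : Nat) : Nat := col1 (col17 (col1 (col17 (i))))
theorem actR8_eq (i : Nat) : actR8 i = Tab.act T D rw8 i := rfl
noncomputable def actR9 (i : Nat) : Nat := col3 (col3 (i))
theorem actR9_eq (i : Nat) : actR9 i = Tab.act T D rw9 i := rfl
noncomputable def actR10 (i : Nat) : Nat := col3 (col5 (col3 (col5 (col3 (col5 (i))))))
theorem actR10_eq (i : Nat) : actR10 i = Tab.act T D rw10 i := rfl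
noncomputable def actR11 (i : Nat) : Nat := col3 (col7 (col3 (col7 (i))))
theorem actR11_eq (i : Nat) : actR11 i = Tab.act T D rw11 i := rfl
noncomputable def actR12 (i : Nat) : Nat := col3 (col9 (col3 (col9 (i))))
theorem actR12_eq (i : Nat) : actR12 i = Tab.act T D rw12 i := rfl
noncomputable def actR13 (i : Nat) : Nat := col3 (col15 (col3 (col15 (i))))
theorem actR13_eq (i : Nat) : actR13 i = Tab.act T D rw13 i := rfl
noncomputable def actR14 (i : Nat) : Nat := col3 (col11 (col3 (col11 (i))))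
theorem actR14_eq (i : Nat) : actR14 i = Tab.act T D rw14 i := rfl
noncomputable def actR15 (i : Nat) : Nat := col3 (col13 (col3 (col13 (i))))
theorem actR15_eq (i : Nat) : actR15 i = Tab.act T D rw15 i := rfl
noncomputable def actR16 (i : Nat) : Nat := col3 (col17 (col3 (col17 (i))))
theorem actR16_eq (i : Nat) : actR16 i = Tab.act T D rw16 i := rfl
noncomputable def actR17 (i : Nat) : Nat := col5 (col5 (i))
theorem actR17_eq (i : Nat) : actR17 i = Tab.act T D rw17 i := rfl
noncomputable def actR18 (i : Nat) : Nat := col5 (col7 (col5 (col7 (col5 (col7 (i))))))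
theorem actR18_eq (i : Nat) : actR18 i = Tab.act T D rw18 i := rfl
noncomputable def actR19 (i : Nat) : Nat := col5 (col9 (col5 (col9 (i))))
theorem actR19_eq (i : Nat) : actR19 i = Tab.act T D rw19 i := rfl
noncomputable def actR20 (i : Nat) : Nat := col5 (col15 (col5 (col15 (i))))
theorem actR20_eq (i : Nat) : actR20 i = Tab.act T D rw20 i := rfl
noncomputable def actR21 (i : Nat) : Nat := col5 (col11 (col5 (col11 (i))))
theorem actR21_eq (i : Nat) : actR21 i = Tab.act T D rw21 i := rfl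
noncomputable def actR22 (i : Nat) : Nat := col5 (col13 (col5 (col13 (i))))
theorem actR22_eq (i : Nat) : actR22 i = Tab.act T D rw22 i := rfl
noncomputable def actR23 (i : Nat) : Nat := col5 (col17 (col5 (col17 (i))))
theorem actR23_eq (i : Nat) : actR23 i = Tab.act T D rw23 i := rfl
noncomputable def actR24 (i : Nat) : Nat := col7 (col7 (i))
theorem actR24_eq (i : Nat) : actR24 i = Tab.act T D rw24 i := rfl
noncomputable def actR25 (i : Nat) : Nat := col7 (col9 (col7 (col9 (col7 (col9 (i))))))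
theorem actR25_eq (i : Nat) : actR25 i = Tab.act T D rw25 i := rfl
noncomputable def actR26 (i : Nat) : Nat := col7 (col15 (col7 (col15 (col7 (col15 (i))))))
theorem actR26_eq (i : Nat) : actR26 i = Tab.act T D rw26 i := rfl
noncomputable def actR27 (i : Nat) : Nat := col7 (col11 (col7 (col11 (i))))
theorem actR27_eq (i : Nat) : actR27 i = Tab.act T D rw27 i := rfl
noncomputable def actR28 (i : Nat) : Nat := col7 (col13 (col7 (col13 (i))))
theorem actR28_eq (i : Nat) : actR28 i = Tab.act T D rw28 i := rfl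
noncomputable def actR29 (i : Nat) : Nat := col7 (col17 (col7 (col17 (i))))
theorem actR29_eq (i : Nat) : actR29 i = Tab.act T D rw29 i := rfl
noncomputable def actR30 (i : Nat) : Nat := col9 (col9 (i))
theorem actR30_eq (i : Nat) : actR30 i = Tab.act T D rw30 i := rfl
noncomputable def actR31 (i : Nat) : Nat := col9 (col15 (col9 (col15 (i))))
theorem actR31_eq (i : Nat) : actR31 i = Tab.act T D rw31 i := rfl
noncomputable def actR32 (i : Nat) : Nat := col9 (col11 (col9 (col11 (col9 (col11 (i))))))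
theorem actR32_eq (i : Nat) : actR32 i = Tab.act T D rw32 i := rfl
noncomputable def actR33 (i : Nat) : Nat := col9 (col13 (col9 (col13 (i))))
theorem actR33_eq (i : Nat) : actR33 i = Tab.act T D rw33 i := rfl
noncomputable def actR34 (i : Nat) : Nat := col9 (col17 (col9 (col17 (i))))
theorem actR34_eq (i : Nat) : actR34 i = Tab.act T D rw34 i := rfl
noncomputable def actR35 (i : Nat) : Nat := col15 (col15 (i))
theorem actR35_eq (i : Nat) : actR35 i = Tab.act T D rw35 i := rfl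
noncomputable def actR36 (i : Nat) : Nat := col15 (col11 (col15 (col11 (i))))
theorem actR36_eq (i : Nat) : actR36 i = Tab.act T D rw36 i := rfl
noncomputable def actR37 (i : Nat) : Nat := col15 (col13 (col15 (col13 (i))))
theorem actR37_eq (i : Nat) : actR37 i = Tab.act T D rw37 i := rfl
noncomputable def actR38 (i : Nat) : Nat := col15 (col17 (col15 (col17 (col15 (col17 (i))))))
theorem actR38_eq (i : Nat) : actR38 i = Tab.act T D rw38 i := rfl
noncomputable def actR39 (i : Nat) : Nat := col11 (col11 (i))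
theorem actR39_eq (i : Nat) : actR39 i = Tab.act T D rw39 i := rfl
noncomputable def actR40 (i : Nat) : Nat := col11 (col13 (col11 (col13 (col11 (col13 (i))))))
theorem actR40_eq (i : Nat) : actR40 i = Tab.act T D rw40 i := rfl
noncomputable def actR41 (i : Nat) : Nat := col11 (col17 (col11 (col17 (i))))
theorem actR41_eq (i : Nat) : actR41 i = Tab.act T D rw41 i := rfl
noncomputable def actR42 (i : Nat) : Nat := col13 (col13 (i))
theorem actR42_eq (i : Nat) : actR42 i = Tab.act T D rw42 i := rfl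
noncomputable def actR43 (i : Nat) : Nat := col13 (col17 (col13 (col17 (i))))
theorem actR43_eq (i : Nat) : actR43 i = Tab.act T D rw43 i := rfl
noncomputable def actR44 (i : Nat) : Nat := col17 (col17 (i))
theorem actR44_eq (i : Nat) : actR44 i = Tab.act T D rw44 i := rfl
noncomputable def actR45 (i : Nat) : Nat := col7 (col5 (col3 (col7 (col9 (col11 (col7 (col15 (col17 (col7 (col5 (col3 (col7 (col9 (col11 (col7 (col15 (col17 (col7 (col5 (col3 (col7 (col9 (col11 (col7 (col15 (col17 (col7 (col5 (col3 (col7 (col9 (col11 (col7 (col15 (col17 (col7 (col5 (col3 (col7 (col9 (col11 (col7 (col15 (col17 (col7 (col5 (col3 (col7 (col9 (col11 (col7 (col15 (col17 (col7 (col5 (col3 (col7 (col9 (col11 (col7 (col15 (col17 (col7 (col5 (col3 (col7 (col9 (col11 (col7 (col15 (col17 (col7 (col5 (col3 (col7 (col9 (col11 (col7 (col15 (col17 (col7 (col5 (col3 (col7 (col9 (col11 (col7 (col15 (col17 (i))))))))))))))))))))))))))))))))))))))))))))))))))))))))))))))))))))))))))))))))))))))))))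
theorem actR45_eq (i : Nat) : actR45 i = Tab.act T D rw45 i := rfl
noncomputable def actR46 (i : Nat) : Nat := col1 (col3 (col5 (col7 (col9 (col11 (col15 (col1 (col3 (col5 (col7 (col9 (col11 (col15 (col1 (col3 (col5 (col7 (col9 (col11 (col15 (col1 (col3 (col5 (col7 (col9 (col11 (col15 (col1 (col3 (col5 (col7 (col9 (col11 (col15 (col1 (col3 (col5 (col7 (col9 (col11 (col15 (col1 (col3 (col5 (col7 (col9 (col11 (col15 (col1 (col3 (col5 (col7 (col9 (col11 (col15 (col1 (col3 (col5 (col7 (col9 (col11 (col15 (i)))))))))))))))))))))))))))))))))))))))))))))))))))))))))))))))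
theorem actR46_eq (i : Nat) : actR46 i = Tab.act T D rw46 i := rfl
noncomputable def actR47 (i : Nat) : Nat := col3 (col5 (col7 (col9 (col11 (col13 (col15 (col3 (col5 (col7 (col9 (col11 (col13 (col15 (col3 (col5 (col7 (col9 (col11 (col13 (col15 (col3 (col5 (col7 (col9 (col11 (col13 (col15 (col3 (col5 (col7 (col9 (col11 (col13 (col15 (col3 (col5 (col7 (col9 (col11 (col13 (col15 (col3 (col5 (col7 (col9 (col11 (col13 (col15 (col3 (col5 (col7 (col9 (col11 (col13 (col15 (col3 (col5 (col7 (col9 (col11 (col13 (col15 (i)))))))))))))))))))))))))))))))))))))))))))))))))))))))))))))))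
theorem actR47_eq (i : Nat) : actR47 i = Tab.act T D rw47 i := rfl
noncomputable def actR48 (i : Nat) : Nat := col18 (col13 (col11 (col7 (col9 (col5 (col7 (col3 (col5 (col1 (col3 (col1 (col3 (col1 (col5 (col3 (col7 (col5 (col9 (col7 (col11 (col13 (col1 (i)))))))))))))))))))))))
theorem actR48_eq (i : Nat) : actR48 i = Tab.act T D rw48 i := rfl
noncomputable def actR49 (i : Nat) : Nat := col20 (col15 (col9 (col11 (col7 (col9 (col5 (col7 (col15 (col17 (col7 (col15 (col9 (col11 (col7 (col9 (col3 (col5 (col7 (col15 (col13 (col11 (col9 (col7 (col5 (col3 (col1 (col3 (col5 (col7 (col9 (col11 (col13 (col15 (col7 (col5 (col3 (col9 (col7 (col11 (col9 (col15 (col7 (col17 (col15 (col7 (col5 (col9 (col7 (col11 (col9 (col15 (col17 (col7 (col15 (col9 (col11 (col7 (col9 (col3 (col5 (col7 (col15 (col13 (col11 (col9 (col7 (col5 (col3 (col1 (col3 (col5 (col7 (col9 (col11 (col13 (col15 (col7 (col5 (col3 (col9 (col7 (col11 (col9 (col15 (col7 (col17 (col15 (col7 (col9 (col5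 (col7 (col15 (col17 (col3 (col5 (col7 (col15 (col9 (col7 (col5 (col3 (col1 (col3 (col5 (col7 (col9 (col15 (col7 (col5 (col3 (col17 (col15 (col7 (col5 (col9 (col7 (col15 (col11 (col9 (col7 (col15 (col13 (col11 (col9 (col7 (col3 (col5 (col1 (col3 (col1 (col3 (col1 (col5 (col3 (col7 (col9 (col11 (col13 (col15 (col7 (col9 (col11 (i)))))))))))))))))))))))))))))))))))))))))))))))))))))))))))))))))))))))))))))))))))))))))))))))))))))))))))))))))))))))))))))))))))))))))))))))
theorem actR49_eq (i : Nat) : actR49 i = Tab.act T D rw49 i := rfl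
noncomputable def actR50 (i : Nat) : Nat := col22 (col11 (col9 (col5 (col7 (col15 (col17 (col15 (col9 (col11 (col5 (col7 (col9 (col3 (col5 (col7 (col15 (col13 (col11 (col9 (col7 (col5 (col3 (col1 (col3 (col5 (col7 (col9 (col11 (col13 (col15 (col7 (col5 (col3 (col9 (col7 (col5 (col11 (col9 (col15 (col17 (col15 (col7 (col5 (col9 (col11 (col3 (col5 (col1 (col3 (col1 (col3 (col1 (col5 (col3 (i)))))))))))))))))))))))))))))))))))))))))))))))))))))))
theorem actR50_eq (i : Nat) : actR50 i = Tab.act T D rw50 i := rfl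
noncomputable def actR51 (i : Nat) : Nat := col24 (col17 (col9 (col7 (col15 (col11 (col13 (col9 (col11 (col7 (col9 (col5 (col7 (col15 (col17 (col9 (col11 (col5 (col7 (col9 (col3 (col5 (col7 (col15 (col13 (col11 (col9 (col7 (col5 (col3 (col1 (col3 (col5 (col7 (col9 (col11 (col13 (col15 (col7 (col5 (col3 (col9 (col7 (col5 (col11 (col9 (col17 (col15 (col7 (col5 (col9 (col7 (col11 (col9 (col13 (col11 (col15 (col7 (col9 (col17 (col1 (i)))))))))))))))))))))))))))))))))))))))))))))))))))))))))))))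
theorem actR51_eq (i : Nat) : actR51 i = Tab.act T D rw51 i := rfl
noncomputable def actR52 (i : Nat) : Nat := col26 (col7 (col15 (col17 (col5 (col7 (col15 (col9 (col11 (col7 (col9 (col5 (col7 (col15 (col17 (col7 (col15 (col9 (col11 (col7 (col9 (col3 (col5 (col7 (col15 (col13 (col11 (col9 (col7 (col5 (col3 (col1 (col3 (col5 (col7 (col9 (col11 (col13 (col15 (col7 (col5 (col3 (col9 (col7 (col11 (col9 (col15 (col7 (col17 (col15 (col7 (col5 (col9 (col7 (col11 (col9 (col15 (col7 (col5 (col17 (col15 (col7 (col7 (col9 (col5 (col7 (col15 (col17 (col9 (col3 (col5 (col7 (col15 (col11 (col9 (col7 (col5 (col3 (col1 (col3 (col5 (col7 (col9 (col11 (col15 (col7 (col5 (col3 (col9 (col17 (col15 (col7 (col5 (col9 (col7 (col5 (col7 (col15 (col17 (col7 (col9 (col3 (col5 (col7 (col15 (col11 (col9 (col7 (col5 (col3 (col1 (col3 (col5 (col7 (col9 (col11 (col15 (col7 (col5 (col3 (col9 (col7 (col17 (col15 (col7 (col5 (col15 (col7 (col9 (col3 (col5 (col7 (col15 (col13 (col11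 (col9 (col7 (col5 (col3 (col1 (col3 (col5 (col7 (col9 (col11 (col13 (col15 (col7 (col5 (col3 (col9 (col7 (col15 (i)))))))))))))))))))))))))))))))))))))))))))))))))))))))))))))))))))))))))))))))))))))))))))))))))))))))))))))))))))))))))))))))))))))))))))))))))))))))))
theorem actR52_eq (i : Nat) : actR52 i = Tab.act T D rw52 i := rfl
noncomputable def actR53 (i : Nat) : Nat := col28 (col1 (i))
theorem actR53_eq (i : Nat) : actR53 i = Tab.act T D rw53 i := rfl
noncomputable def actR54 (i : Nat) : Nat := col19 (col19 (i))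
theorem actR54_eq (i : Nat) : actR54 i = Tab.act T D rw54 i := rfl
noncomputable def actR55 (i : Nat) : Nat := col21 (col21 (col21 (col21 (col21 (i)))))
theorem actR55_eq (i : Nat) : actR55 i = Tab.act T D rw55 i := rfl
noncomputable def actR56 (i : Nat) : Nat := col19 (col21 (col19 (col21 (col19 (col21 (col19 (col21 (col19 (col21 (col19 (col21 (col19 (col21 (col19 (col21 (col19 (col21 (i))))))))))))))))))
theorem actR56_eq (i : Nat) : actR56 i = Tab.act T D rw56 i := rfl
noncomputable def actR57 (i : Nat) : Nat := col18 (col20 (col19 (col21 (col18 (col20 (col19 (col21 (col18 (col20 (col19 (col21 (i))))))))))))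
theorem actR57_eq (i : Nat) : actR57 i = Tab.act T D rw57 i := rfl
noncomputable def actR58 (i : Nat) : Nat := col18 (col20 (col18 (col20 (col19 (col21 (col19 (col21 (col18 (col20 (col18 (col20 (col19 (col21 (col19 (col21 (i))))))))))))))))
theorem actR58_eq (i : Nat) : actR58 i = Tab.act T D rw58 i := rfl
noncomputable def actR59 (i : Nat) : Nat := col23 (col23 (col23 (i)))
theorem actR59_eq (i : Nat) : actR59 i = Tab.act T D rw59 i := rfl
noncomputable def actR60 (i : Nat) : Nat := col22 (col18 (col23 (col19 (i))))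
theorem actR60_eq (i : Nat) : actR60 i = Tab.act T D rw60 i := rfl
noncomputable def actR61 (i : Nat) : Nat := col22 (col20 (col23 (col21 (i))))
theorem actR61_eq (i : Nat) : actR61 i = Tab.act T D rw61 i := rfl
noncomputable def actR62 (i : Nat) : Nat := col25 (col25 (i))
theorem actR62_eq (i : Nat) : actR62 i = Tab.act T D rw62 i := rfl
noncomputable def actR63 (i : Nat) : Nat := col19 (col25 (col19 (col25 (col19 (col25 (i))))))
theorem actR63_eq (i : Nat) : actR63 i = Tab.act T D rw63 i := rfl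
noncomputable def actR64 (i : Nat) : Nat := col19 (col21 (col19 (col21 (col23 (col25 (col19 (col21 (col25 (i)))))))))
theorem actR64_eq (i : Nat) : actR64 i = Tab.act T D rw64 i := rfl
noncomputable def actR65 (i : Nat) : Nat := col27 (col27 (col27 (i)))
theorem actR65_eq (i : Nat) : actR65 i = Tab.act T D rw65 i := rfl
noncomputable def actR66 (i : Nat) : Nat := col19 (col21 (col19 (col21 (col19 (col21 (col23 (col25 (col21 (col19 (col27 (col21 (col19 (col20 (col26 (col19 (col20 (i)))))))))))))))))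
theorem actR66_eq (i : Nat) : actR66 i = Tab.act T D rw66 i := rfl
noncomputable def actR67 (i : Nat) : Nat := col19 (col21 (col19 (col21 (col19 (col21 (col19 (col27 (col23 (col27 (col21 (col19 (col20 (col19 (col20 (col19 (col21 (col21 (col0 (i)))))))))))))))))))
theorem actR67_eq (i : Nat) : actR67 i = Tab.act T D rw67 i := rfl
noncomputable def actR68 (i : Nat) : Nat := col19 (col21 (col19 (col21 (col19 (col21 (col19 (col20 (col20 (col19 (col20 (col23 (col25 (col21 (col21 (col25 (col19 (col20 (col27 (col25 (col27 (col22 (col21 (col25 (col26 (col20 (col20 (col28 (i))))))))))))))))))))))))))))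
theorem actR68_eq (i : Nat) : actR68 i = Tab.act T D rw68 i := rfl
noncomputable def actR69 (i : Nat) : Nat := col29 (col29 (i))
theorem actR69_eq (i : Nat) : actR69 i = Tab.act T D rw69 i := rfl
noncomputable def actR70 (i : Nat) : Nat := col0 (col18 (col1 (col19 (i))))
theorem actR70_eq (i : Nat) : actR70 i = Tab.act T D rw70 i := rfl
noncomputable def actR71 (i : Nat) : Nat := col0 (col20 (col1 (col21 (i))))
theorem actR71_eq (i : Nat) : actR71 i = Tab.act T D rw71 i := rfl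
noncomputable def actR72 (i : Nat) : Nat := col0 (col22 (col1 (col23 (i))))
theorem actR72_eq (i : Nat) : actR72 i = Tab.act T D rw72 i := rfl
noncomputable def actR73 (i : Nat) : Nat := col0 (col24 (col1 (col25 (i))))
theorem actR73_eq (i : Nat) : actR73 i = Tab.act T D rw73 i := rfl
noncomputable def actR74 (i : Nat) : Nat := col0 (col26 (col1 (col27 (i))))
theorem actR74_eq (i : Nat) : actR74 i = Tab.act T D rw74 i := rfl
noncomputable def actR75 (i : Nat) : Nat := col28 (col18 (col29 (col19 (i))))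
theorem actR75_eq (i : Nat) : actR75 i = Tab.act T D rw75 i := rfl
noncomputable def actR76 (i : Nat) : Nat := col28 (col20 (col29 (col21 (i))))
theorem actR76_eq (i : Nat) : actR76 i = Tab.act T D rw76 i := rfl
noncomputable def actR77 (i : Nat) : Nat := col28 (col22 (col29 (col23 (i))))
theorem actR77_eq (i : Nat) : actR77 i = Tab.act T D rw77 i := rfl
noncomputable def actR78 (i : Nat) : Nat := col28 (col24 (col29 (col25 (i))))
theorem actR78_eq (i : Nat) : actR78 i = Tab.act T D rw78 i := rfl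
noncomputable def actR79 (i : Nat) : Nat := col28 (col26 (col29 (col27 (i))))
theorem actR79_eq (i : Nat) : actR79 i = Tab.act T D rw79 i := rfl
noncomputable def actR80 (i : Nat) : Nat := col0 (col28 (col1 (col29 (i))))
theorem actR80_eq (i : Nat) : actR80 i = Tab.act T D rw80 i := rfl

end Cfsg.Agent.Lib.Helper4.TCD.Fi22xR
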