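import Mathlib
import Cfsg.Agent.Lib.Helper4.Fi22yDef
import Cfsg.Agent.Lib.Helper4.TC7
import Cfsg.Agent.Lib.Helper4.PresW

/-! The letter encoding of the presentation of Fi22y (generated). -/

namespace Cfsg.Agent.Lib.Helper4.TC.PFi22y

set_option linter.unusedSimpArgs false
set_option linter.unusedTactic false
set_option linter.unreachableTactic false

open Cfsg.Spor Cfsg.Agent.Lib.Helper4 Cfsg.Agent.Lib.Helper4.Fi22y Cfsg.Agent.Lib.Helper4.TC Cfsg.Agent.Lib.Helper4.TC.Log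

def enc : Gen → ℕ
  | .a => 0
  | .b => 2
  | .c => 4
  | .d => 6
  | .e => 8
  | .f => 10
  | .g => 12
  | .h => 14
  | .i => 16
  | .p => 18
  | .q => 20
  | .r => 22

def dec : ℕ → FreeGroup Gen := Fi22y.ofCode

def invR : ℕ → ℕ
  | 0 => 1
  | 1 => 0
  | 2 => 3
  | 3 => 2
  | 4 => 5
  | 5 => 4
  | 6 => 7
  | 7 => 6
  | 8 => 9
  | 9 => 8
  | 10 => 11
  | 11 => 10
  | 12 => 13
  | 13 => 12
  | 14 => 15
  | 15 => 14
  | 16 => 17
  | 17 => 16
  | 18 => 19
  | 19 => 18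
  | 20 => 21
  | 21 => 20
  | 22 => 23
  | 23 => 22
  | l => l

def tri : List (ℕ × ℕ × ℕ) := []

def extraW : List (List ℕ) := Fi22y.extraW

def P : CoxEnc Gen :=
  { edges := Fi22y.edges, extra := Fi22y.extra, k := 24, enc := enc, dec := dec, invR := invR, tri := tri,
    extraW := extraW }

set_option maxRecDepth 100000 in
theorem valid : P.Valid where
  hnode := by
    intro y0 hy0
    cases y0 <;> exact absurd hy0 (by decide)
  hsound := by decide +kernel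
  hcomplete := by decide +kernel
  hlen := (List.length_map _).symm
  hextraW := by decide +kernel
  hinvk := rfl
  hsurj := by
    intro y0
    cases y0
    · exact ⟨0, by decide, rfl⟩
    · exact ⟨2, by decide, rfl⟩
    · exact ⟨4, by decide, rfl⟩
    · exact ⟨6, by decide, rfl⟩
    · exact ⟨8, by decide, rfl⟩
    · exact ⟨10, by decide, rfl⟩
    · exact ⟨12, by decide, rfl⟩
    · exact ⟨14, by decide, rfl⟩
    · exact ⟨16, by decide, rfl⟩
    · exact ⟨18, by decide, rfl⟩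
    · exact ⟨20, by decide, rfl⟩
    · exact ⟨22, by decide, rfl⟩
  hdec := by
    intro l hl
    have hl : l < 24 := hl
    interval_cases l
    · exact Or.inl ⟨Gen.a, rfl, rfl⟩
    · exact Or.inr ⟨Gen.a, rfl, rfl, by decide, rfl⟩
    · exact Or.inl ⟨Gen.b, rfl, rfl⟩
    · exact Or.inr ⟨Gen.b, rfl, rfl, by decide, rfl⟩
    · exact Or.inl ⟨Gen.c, rfl, rfl⟩
    · exact Or.inr ⟨Gen.c, rfl, rfl, by decide, rfl⟩
    · exact Or.inl ⟨Gen.d, rfl, rfl⟩
    · exact Or.inr ⟨Gen.d, rfl, rfl, by decide, rfl⟩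
    · exact Or.inl ⟨Gen.e, rfl, rfl⟩
    · exact Or.inr ⟨Gen.e, rfl, rfl, by decide, rfl⟩
    · exact Or.inl ⟨Gen.f, rfl, rfl⟩
    · exact Or.inr ⟨Gen.f, rfl, rfl, by decide, rfl⟩
    · exact Or.inl ⟨Gen.g, rfl, rfl⟩
    · exact Or.inr ⟨Gen.g, rfl, rfl, by decide, rfl⟩
    · exact Or.inl ⟨Gen.h, rfl, rfl⟩
    · exact Or.inr ⟨Gen.h, rfl, rfl, by decide, rfl⟩
    · exact Or.inl ⟨Gen.i, rfl, rfl⟩
    · exact Or.inr ⟨Gen.i, rfl, rfl, by decide, rfl⟩
    · exact Or.inl ⟨Gen.p, rfl, rfl⟩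
    · exact Or.inr ⟨Gen.p, rfl, rfl, by decide, rfl⟩
    · exact Or.inl ⟨Gen.q, rfl, rfl⟩
    · exact Or.inr ⟨Gen.q, rfl, rfl, by decide, rfl⟩
    · exact Or.inl ⟨Gen.r, rfl, rfl⟩
    · exact Or.inr ⟨Gen.r, rfl, rfl, by decide, rfl⟩
  hinvR := by
    intro l hl
    have hl : l < 24 := hl
    interval_cases l
    · exact ⟨by decide, Or.inl rfl⟩
    · exact ⟨by decide, Or.inl (inv_inv _).symm⟩
    · exact ⟨by decide, Or.inl rfl⟩
    · exact ⟨by decide, Or.inl (inv_inv _).symm⟩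
    · exact ⟨by decide, Or.inl rfl⟩
    · exact ⟨by decide, Or.inl (inv_inv _).symm⟩
    · exact ⟨by decide, Or.inl rfl⟩
    · exact ⟨by decide, Or.inl (inv_inv _).symm⟩
    · exact ⟨by decide, Or.inl rfl⟩
    · exact ⟨by decide, Or.inl (inv_inv _).symm⟩
    · exact ⟨by decide, Or.inl rfl⟩
    · exact ⟨by decide, Or.inl (inv_inv _).symm⟩
    · exact ⟨by decide, Or.inl rfl⟩
    · exact ⟨by decide, Or.inl (inv_inv _).symm⟩
    · exact ⟨by decide, Or.inl rfl⟩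
    · exact ⟨by decide, Or.inl (inv_inv _).symm⟩
    · exact ⟨by decide, Or.inl rfl⟩
    · exact ⟨by decide, Or.inl (inv_inv _).symm⟩
    · exact ⟨by decide, Or.inl rfl⟩
    · exact ⟨by decide, Or.inl (inv_inv _).symm⟩
    · exact ⟨by decide, Or.inl rfl⟩
    · exact ⟨by decide, Or.inl (inv_inv _).symm⟩
    · exact ⟨by decide, Or.inl rfl⟩
    · exact ⟨by decide, Or.inl (inv_inv _).symm⟩
  hextra := by
    intro Γ _ f hn i h h'
    exact PresW.lift_getElem_map f Fi22y.ofCode Fi22y.extraW i h h'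

end Cfsg.Agent.Lib.Helper4.TC.PFi22y
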