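import Cfsg.Agent.Lib.Helper4.TCD_Fi22yR_Acc

namespace Cfsg.Agent.Lib.Helper4.TCD.Fi22yR

open Cfsg.Agent.Lib.Helper4.TC

set_option maxRecDepth 100000
set_option Elab.async false

theorem c_let : allBelow D.letOK 24 = true := by decide +kernel
theorem c_real : PFi22y.P.real = realLit := by decide +kernel
theorem c_perm_0 : allGrid (T.permOK1 D) 0 1250 24 = true := by decide +kernel
theorem c_perm_1 : allGrid (T.permOK1 D) 1250 1250 24 = true := by decide +kernel
theorem c_perm_2 : allGrid (T.permOK1 D) 2500 1010 24 = true := by decide +kernel
theorem c_act0_0 : allRange (fun i => Nat.beq (actR0 i) i) 0 3510 = true := by decide +kernel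
theorem c_act1_0 : allRange (fun i => Nat.beq (actR1 i) i) 0 3510 = true := by decide +kernel
theorem c_act2_0 : allRange (fun i => Nat.beq (actR2 i) i) 0 3510 = true := by decide +kernel
theorem c_act3_0 : allRange (fun i => Nat.beq (actR3 i) i) 0 3510 = true := by decide +kernel
theorem c_act4_0 : allRange (fun i => Nat.beq (actR4 i) i) 0 3510 = true := by decide +kernel
theorem c_act5_0 : allRange (fun i => Nat.beq (actR5 i) i) 0 3510 = true := by decide +kernel
theorem c_act6_0 : allRange (fun i => Nat.beq (actR6 i) i) 0 3510 = true := by decide +kernel
theorem c_act7_0 : allRange (fun i => Nat.beq (actR7 i) i) 0 3510 = true := by decide +kernel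
theorem c_act8_0 : allRange (fun i => Nat.beq (actR8 i) i) 0 3510 = true := by decide +kernel
theorem c_act9_0 : allRange (fun i => Nat.beq (actR9 i) i) 0 3510 = true := by decide +kernel
theorem c_act10_0 : allRange (fun i => Nat.beq (actR10 i) i) 0 3510 = true := by decide +kernel
theorem c_act11_0 : allRange (fun i => Nat.beq (actR11 i) i) 0 3510 = true := by decide +kernel
theorem c_act12_0 : allRange (fun i => Nat.beq (actR12 i) i) 0 3510 = true := by decide +kernel
theorem c_act13_0 : allRange (fun i => Nat.beq (actR13 i) i) 0 3510 = true := by decide +kernel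
theorem c_act14_0 : allRange (fun i => Nat.beq (actR14 i) i) 0 3510 = true := by decide +kernel
theorem c_act15_0 : allRange (fun i => Nat.beq (actR15 i) i) 0 3510 = true := by decide +kernel
theorem c_act16_0 : allRange (fun i => Nat.beq (actR16 i) i) 0 3510 = true := by decide +kernel
theorem c_act17_0 : allRange (fun i => Nat.beq (actR17 i) i) 0 3510 = true := by decide +kernel
theorem c_act18_0 : allRange (fun i => Nat.beq (actR18 i) i) 0 3510 = true := by decide +kernel
theorem c_act19_0 : allRange (fun i => Nat.beq (actR19 i) i) 0 3510 = true := by decide +kernel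
theorem c_act20_0 : allRange (fun i => Nat.beq (actR20 i) i) 0 3510 = true := by decide +kernel
theorem c_act21_0 : allRange (fun i => Nat.beq (actR21 i) i) 0 3510 = true := by decide +kernel
theorem c_act22_0 : allRange (fun i => Nat.beq (actR22 i) i) 0 3510 = true := by decide +kernel
theorem c_act23_0 : allRange (fun i => Nat.beq (actR23 i) i) 0 3510 = true := by decide +kernel
theorem c_act24_0 : allRange (fun i => Nat.beq (actR24 i) i) 0 3510 = true := by decide +kernel
theorem c_act25_0 : allRange (fun i => Nat.beq (actR25 i) i) 0 3510 = true := by decide +kernel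
theorem c_act26_0 : allRange (fun i => Nat.beq (actR26 i) i) 0 3510 = true := by decide +kernel
theorem c_act27_0 : allRange (fun i => Nat.beq (actR27 i) i) 0 3510 = true := by decide +kernel
theorem c_act28_0 : allRange (fun i => Nat.beq (actR28 i) i) 0 3510 = true := by decide +kernel
theorem c_act29_0 : allRange (fun i => Nat.beq (actR29 i) i) 0 3510 = true := by decide +kernel
theorem c_act30_0 : allRange (fun i => Nat.beq (actR30 i) i) 0 3510 = true := by decide +kernel
theorem c_act31_0 : allRange (fun i => Nat.beq (actR31 i) i) 0 3510 = true := by decide +kernel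
theorem c_act32_0 : allRange (fun i => Nat.beq (actR32 i) i) 0 3510 = true := by decide +kernel
theorem c_act33_0 : allRange (fun i => Nat.beq (actR33 i) i) 0 3510 = true := by decide +kernel
theorem c_act34_0 : allRange (fun i => Nat.beq (actR34 i) i) 0 3510 = true := by decide +kernel
theorem c_act35_0 : allRange (fun i => Nat.beq (actR35 i) i) 0 3510 = true := by decide +kernel
theorem c_act36_0 : allRange (fun i => Nat.beq (actR36 i) i) 0 3510 = true := by decide +kernel
theorem c_act37_0 : allRange (fun i => Nat.beq (actR37 i) i) 0 3510 = true := by decide +kernel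
theorem c_act38_0 : allRange (fun i => Nat.beq (actR38 i) i) 0 3510 = true := by decide +kernel
theorem c_act39_0 : allRange (fun i => Nat.beq (actR39 i) i) 0 3510 = true := by decide +kernel
theorem c_act40_0 : allRange (fun i => Nat.beq (actR40 i) i) 0 3510 = true := by decide +kernel
theorem c_act41_0 : allRange (fun i => Nat.beq (actR41 i) i) 0 3510 = true := by decide +kernel
theorem c_act42_0 : allRange (fun i => Nat.beq (actR42 i) i) 0 3510 = true := by decide +kernel
theorem c_act43_0 : allRange (fun i => Nat.beq (actR43 i) i) 0 3510 = true := by decide +kernel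
theorem c_act44_0 : allRange (fun i => Nat.beq (actR44 i) i) 0 3510 = true := by decide +kernel
theorem c_act45_0 : allRange (fun i => Nat.beq (actR45 i) i) 0 666 = true := by decide +kernel
theorem c_act45_1 : allRange (fun i => Nat.beq (actR45 i) i) 666 666 = true := by decide +kernel
theorem c_act45_2 : allRange (fun i => Nat.beq (actR45 i) i) 1332 666 = true := by decide +kernel
theorem c_act45_3 : allRange (fun i => Nat.beq (actR45 i) i) 1998 666 = true := by decide +kernel
theorem c_act45_4 : allRange (fun i => Nat.beq (actR45 i) i) 2664 666 = true := by decide +kernel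
theorem c_act45_5 : allRange (fun i => Nat.beq (actR45 i) i) 3330 180 = true := by decide +kernel
theorem c_act46_0 : allRange (fun i => Nat.beq (actR46 i) i) 0 952 = true := by decide +kernel
theorem c_act46_1 : allRange (fun i => Nat.beq (actR46 i) i) 952 952 = true := by decide +kernel
theorem c_act46_2 : allRange (fun i => Nat.beq (actR46 i) i) 1904 952 = true := by decide +kernel
theorem c_act46_3 : allRange (fun i => Nat.beq (actR46 i) i) 2856 654 = true := by decide +kernel
theorem c_act47_0 : allRange (fun i => Nat.beq (actR47 i) i) 0 952 = true := by decide +kernel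
theorem c_act47_1 : allRange (fun i => Nat.beq (actR47 i) i) 952 952 = true := by decide +kernel
theorem c_act47_2 : allRange (fun i => Nat.beq (actR47 i) i) 1904 952 = true := by decide +kernel
theorem c_act47_3 : allRange (fun i => Nat.beq (actR47 i) i) 2856 654 = true := by decide +kernel
theorem c_act48_0 : allRange (fun i => Nat.beq (actR48 i) i) 0 392 = true := by decide +kernel
theorem c_act48_1 : allRange (fun i => Nat.beq (actR48 i) i) 392 392 = true := by decide +kernel
theorem c_act48_2 : allRange (fun i => Nat.beq (actR48 i) i) 784 392 = true := by decide +kernel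
theorem c_act48_3 : allRange (fun i => Nat.beq (actR48 i) i) 1176 392 = true := by decide +kernel
theorem c_act48_4 : allRange (fun i => Nat.beq (actR48 i) i) 1568 392 = true := by decide +kernel
theorem c_act48_5 : allRange (fun i => Nat.beq (actR48 i) i) 1960 392 = true := by decide +kernel
theorem c_act48_6 : allRange (fun i => Nat.beq (actR48 i) i) 2352 392 = true := by decide +kernel
theorem c_act48_7 : allRange (fun i => Nat.beq (actR48 i) i) 2744 392 = true := by decide +kernel
theorem c_act48_8 : allRange (fun i => Nat.beq (actR48 i) i) 3136 374 = true := by decide +kernel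
theorem c_act49_0 : allRange (fun i => Nat.beq (actR49 i) i) 0 517 = true := by decide +kernel
theorem c_act49_1 : allRange (fun i => Nat.beq (actR49 i) i) 517 517 = true := by decide +kernel
theorem c_act49_2 : allRange (fun i => Nat.beq (actR49 i) i) 1034 517 = true := by decide +kernel
theorem c_act49_3 : allRange (fun i => Nat.beq (actR49 i) i) 1551 517 = true := by decide +kernel
theorem c_act49_4 : allRange (fun i => Nat.beq (actR49 i) i) 2068 517 = true := by decide +kernel
theorem c_act49_5 : allRange (fun i => Nat.beq (actR49 i) i) 2585 517 = true := by decide +kernel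
theorem c_act49_6 : allRange (fun i => Nat.beq (actR49 i) i) 3102 408 = true := by decide +kernel
theorem c_act50_0 : allRange (fun i => Nat.beq (actR50 i) i) 0 540 = true := by decide +kernel
theorem c_act50_1 : allRange (fun i => Nat.beq (actR50 i) i) 540 540 = true := by decide +kernel
theorem c_act50_2 : allRange (fun i => Nat.beq (actR50 i) i) 1080 540 = true := by decide +kernel
theorem c_act50_3 : allRange (fun i => Nat.beq (actR50 i) i) 1620 540 = true := by decide +kernel
theorem c_act50_4 : allRange (fun i => Nat.beq (actR50 i) i) 2160 540 = true := by decide +kernel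
theorem c_act50_5 : allRange (fun i => Nat.beq (actR50 i) i) 2700 540 = true := by decide +kernel
theorem c_act50_6 : allRange (fun i => Nat.beq (actR50 i) i) 3240 270 = true := by decide +kernel
theorem c_act51_0 : allRange (fun i => Nat.beq (actR51 i) i) 0 3510 = true := by decide +kernel
theorem c_act52_0 : allRange (fun i => Nat.beq (actR52 i) i) 0 3510 = true := by decide +kernel
theorem c_act53_0 : allRange (fun i => Nat.beq (actR53 i) i) 0 3510 = true := by decide +kernel

end Cfsg.Agent.Lib.Helper4.TCD.Fi22yR
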