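import Cfsg.Agent.Lib.Helper4.TC7
import Cfsg.Agent.Lib.Helper4.TCP_Fi23
import Cfsg.Agent.Lib.Helper4.TCD_Fi23a_D0
import Cfsg.Agent.Lib.Helper4.TCD_Fi23a_D1
import Cfsg.Agent.Lib.Helper4.TCD_Fi23a_D2
import Cfsg.Agent.Lib.Helper4.TCD_Fi23a_D3
import Cfsg.Agent.Lib.Helper4.TCD_Fi23a_D4
import Cfsg.Agent.Lib.Helper4.TCD_Fi23a_D5
import Cfsg.Agent.Lib.Helper4.TCD_Fi23a_D6

namespace Cfsg.Agent.Lib.Helper4.TCD.Fi23a

open Cfsg.Agent.Lib.Helper4.TC

set_option maxRecDepth 100000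

noncomputable def Atab_s_1_3 (c : Nat) : Nat := @Bool.rec (fun _ => Nat) (Atab_1) (Atab_2) (Nat.ble 2 c)
noncomputable def Atab_s_0_3 (c : Nat) : Nat := @Bool.rec (fun _ => Nat) (Atab_0) (Atab_s_1_3 c) (Nat.ble 1 c)
noncomputable def Atab_s_4_6 (c : Nat) : Nat := @Bool.rec (fun _ => Nat) (Atab_4) (Atab_5) (Nat.ble 5 c)
noncomputable def Atab_s_3_6 (c : Nat) : Nat := @Bool.rec (fun _ => Nat) (Atab_3) (Atab_s_4_6 c) (Nat.ble 4 c)
noncomputable def Atab_s_0_6 (c : Nat) : Nat := @Bool.rec (fun _ => Nat) (Atab_s_0_3 c) (Atab_s_3_6 c) (Nat.ble 3 c)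
noncomputable def Atab_s_7_9 (c : Nat) : Nat := @Bool.rec (fun _ => Nat) (Atab_7) (Atab_8) (Nat.ble 8 c)
noncomputable def Atab_s_6_9 (c : Nat) : Nat := @Bool.rec (fun _ => Nat) (Atab_6) (Atab_s_7_9 c) (Nat.ble 7 c)
noncomputable def Atab_s_9_11 (c : Nat) : Nat := @Bool.rec (fun _ => Nat) (Atab_9) (Atab_10) (Nat.ble 10 c)
noncomputable def Atab_s_11_13 (c : Nat) : Nat := @Bool.rec (fun _ => Nat) (Atab_11) (Atab_12) (Nat.ble 12 c)
noncomputable def Atab_s_9_13 (c : Nat) : Nat := @Bool.rec (fun _ => Nat) (Atab_s_9_11 c) (Atab_s_11_13 c) (Nat.ble 11 c)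
noncomputable def Atab_s_6_13 (c : Nat) : Nat := @Bool.rec (fun _ => Nat) (Atab_s_6_9 c) (Atab_s_9_13 c) (Nat.ble 9 c)
noncomputable def Atab_s_0_13 (c : Nat) : Nat := @Bool.rec (fun _ => Nat) (Atab_s_0_6 c) (Atab_s_6_13 c) (Nat.ble 6 c)
noncomputable def Atab_s_14_16 (c : Nat) : Nat := @Bool.rec (fun _ => Nat) (Atab_14) (Atab_15) (Nat.ble 15 c)
noncomputable def Atab_s_13_16 (c : Nat) : Nat := @Bool.rec (fun _ => Nat) (Atab_13) (Atab_s_14_16 c) (Nat.ble 14 c)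
noncomputable def Atab_s_17_19 (c : Nat) : Nat := @Bool.rec (fun _ => Nat) (Atab_17) (Atab_18) (Nat.ble 18 c)
noncomputable def Atab_s_16_19 (c : Nat) : Nat := @Bool.rec (fun _ => Nat) (Atab_16) (Atab_s_17_19 c) (Nat.ble 17 c)
noncomputable def Atab_s_13_19 (c : Nat) : Nat := @Bool.rec (fun _ => Nat) (Atab_s_13_16 c) (Atab_s_16_19 c) (Nat.ble 16 c)
noncomputable def Atab_s_20_22 (c : Nat) : Nat := @Bool.rec (fun _ => Nat) (Atab_20) (Atab_21) (Nat.ble 21 c)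
noncomputable def Atab_s_19_22 (c : Nat) : Nat := @Bool.rec (fun _ => Nat) (Atab_19) (Atab_s_20_22 c) (Nat.ble 20 c)
noncomputable def Atab_s_22_24 (c : Nat) : Nat := @Bool.rec (fun _ => Nat) (Atab_22) (Atab_23) (Nat.ble 23 c)
noncomputable def Atab_s_24_26 (c : Nat) : Nat := @Bool.rec (fun _ => Nat) (Atab_24) (Atab_25) (Nat.ble 25 c)
noncomputable def Atab_s_22_26 (c : Nat) : Nat := @Bool.rec (fun _ => Nat) (Atab_s_22_24 c) (Atab_s_24_26 c) (Nat.ble 24 c)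
noncomputable def Atab_s_19_26 (c : Nat) : Nat := @Bool.rec (fun _ => Nat) (Atab_s_19_22 c) (Atab_s_22_26 c) (Nat.ble 22 c)
noncomputable def Atab_s_13_26 (c : Nat) : Nat := @Bool.rec (fun _ => Nat) (Atab_s_13_19 c) (Atab_s_19_26 c) (Nat.ble 19 c)
noncomputable def Atab_s_0_26 (c : Nat) : Nat := @Bool.rec (fun _ => Nat) (Atab_s_0_13 c) (Atab_s_13_26 c) (Nat.ble 13 c)
noncomputable def Atab_s_27_29 (c : Nat) : Nat := @Bool.rec (fun _ => Nat) (Atab_27) (Atab_28) (Nat.ble 28 c)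
noncomputable def Atab_s_26_29 (c : Nat) : Nat := @Bool.rec (fun _ => Nat) (Atab_26) (Atab_s_27_29 c) (Nat.ble 27 c)
noncomputable def Atab_s_30_32 (c : Nat) : Nat := @Bool.rec (fun _ => Nat) (Atab_30) (Atab_31) (Nat.ble 31 c)
noncomputable def Atab_s_29_32 (c : Nat) : Nat := @Bool.rec (fun _ => Nat) (Atab_29) (Atab_s_30_32 c) (Nat.ble 30 c)
noncomputable def Atab_s_26_32 (c : Nat) : Nat := @Bool.rec (fun _ => Nat) (Atab_s_26_29 c) (Atab_s_29_32 c) (Nat.ble 29 c)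
noncomputable def Atab_s_33_35 (c : Nat) : Nat := @Bool.rec (fun _ => Nat) (Atab_33) (Atab_34) (Nat.ble 34 c)
noncomputable def Atab_s_32_35 (c : Nat) : Nat := @Bool.rec (fun _ => Nat) (Atab_32) (Atab_s_33_35 c) (Nat.ble 33 c)
noncomputable def Atab_s_35_37 (c : Nat) : Nat := @Bool.rec (fun _ => Nat) (Atab_35) (Atab_36) (Nat.ble 36 c)
noncomputable def Atab_s_37_39 (c : Nat) : Nat := @Bool.rec (fun _ => Nat) (Atab_37) (Atab_38) (Nat.ble 38 c)
noncomputable def Atab_s_35_39 (c : Nat) : Nat := @Bool.rec (fun _ => Nat) (Atab_s_35_37 c) (Atab_s_37_39 c) (Nat.ble 37 c)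
noncomputable def Atab_s_32_39 (c : Nat) : Nat := @Bool.rec (fun _ => Nat) (Atab_s_32_35 c) (Atab_s_35_39 c) (Nat.ble 35 c)
noncomputable def Atab_s_26_39 (c : Nat) : Nat := @Bool.rec (fun _ => Nat) (Atab_s_26_32 c) (Atab_s_32_39 c) (Nat.ble 32 c)
noncomputable def Atab_s_40_42 (c : Nat) : Nat := @Bool.rec (fun _ => Nat) (Atab_40) (Atab_41) (Nat.ble 41 c)
noncomputable def Atab_s_39_42 (c : Nat) : Nat := @Bool.rec (fun _ => Nat) (Atab_39) (Atab_s_40_42 c) (Nat.ble 40 c)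
noncomputable def Atab_s_43_45 (c : Nat) : Nat := @Bool.rec (fun _ => Nat) (Atab_43) (Atab_44) (Nat.ble 44 c)
noncomputable def Atab_s_42_45 (c : Nat) : Nat := @Bool.rec (fun _ => Nat) (Atab_42) (Atab_s_43_45 c) (Nat.ble 43 c)
noncomputable def Atab_s_39_45 (c : Nat) : Nat := @Bool.rec (fun _ => Nat) (Atab_s_39_42 c) (Atab_s_42_45 c) (Nat.ble 42 c)
noncomputable def Atab_s_46_48 (c : Nat) : Nat := @Bool.rec (fun _ => Nat) (Atab_46) (Atab_47) (Nat.ble 47 c)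
noncomputable def Atab_s_45_48 (c : Nat) : Nat := @Bool.rec (fun _ => Nat) (Atab_45) (Atab_s_46_48 c) (Nat.ble 46 c)
noncomputable def Atab_s_48_50 (c : Nat) : Nat := @Bool.rec (fun _ => Nat) (Atab_48) (Atab_49) (Nat.ble 49 c)
noncomputable def Atab_s_50_52 (c : Nat) : Nat := @Bool.rec (fun _ => Nat) (Atab_50) (Atab_51) (Nat.ble 51 c)
noncomputable def Atab_s_48_52 (c : Nat) : Nat := @Bool.rec (fun _ => Nat) (Atab_s_48_50 c) (Atab_s_50_52 c) (Nat.ble 50 c)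
noncomputable def Atab_s_45_52 (c : Nat) : Nat := @Bool.rec (fun _ => Nat) (Atab_s_45_48 c) (Atab_s_48_52 c) (Nat.ble 48 c)
noncomputable def Atab_s_39_52 (c : Nat) : Nat := @Bool.rec (fun _ => Nat) (Atab_s_39_45 c) (Atab_s_45_52 c) (Nat.ble 45 c)
noncomputable def Atab_s_26_52 (c : Nat) : Nat := @Bool.rec (fun _ => Nat) (Atab_s_26_39 c) (Atab_s_39_52 c) (Nat.ble 39 c)
noncomputable def Atab_s_0_52 (c : Nat) : Nat := @Bool.rec (fun _ => Nat) (Atab_s_0_26 c) (Atab_s_26_52 c) (Nat.ble 26 c)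
noncomputable def Atab_s_53_55 (c : Nat) : Nat := @Bool.rec (fun _ => Nat) (Atab_53) (Atab_54) (Nat.ble 54 c)
noncomputable def Atab_s_52_55 (c : Nat) : Nat := @Bool.rec (fun _ => Nat) (Atab_52) (Atab_s_53_55 c) (Nat.ble 53 c)
noncomputable def Atab_s_56_58 (c : Nat) : Nat := @Bool.rec (fun _ => Nat) (Atab_56) (Atab_57) (Nat.ble 57 c)
noncomputable def Atab_s_55_58 (c : Nat) : Nat := @Bool.rec (fun _ => Nat) (Atab_55) (Atab_s_56_58 c) (Nat.ble 56 c)
noncomputable def Atab_s_52_58 (c : Nat) : Nat := @Bool.rec (fun _ => Nat) (Atab_s_52_55 c) (Atab_s_55_58 c) (Nat.ble 55 c)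
noncomputable def Atab_s_59_61 (c : Nat) : Nat := @Bool.rec (fun _ => Nat) (Atab_59) (Atab_60) (Nat.ble 60 c)
noncomputable def Atab_s_58_61 (c : Nat) : Nat := @Bool.rec (fun _ => Nat) (Atab_58) (Atab_s_59_61 c) (Nat.ble 59 c)
noncomputable def Atab_s_61_63 (c : Nat) : Nat := @Bool.rec (fun _ => Nat) (Atab_61) (Atab_62) (Nat.ble 62 c)
noncomputable def Atab_s_63_65 (c : Nat) : Nat := @Bool.rec (fun _ => Nat) (Atab_63) (Atab_64) (Nat.ble 64 c)
noncomputable def Atab_s_61_65 (c : Nat) : Nat := @Bool.rec (fun _ => Nat) (Atab_s_61_63 c) (Atab_s_63_65 c) (Nat.ble 63 c)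
noncomputable def Atab_s_58_65 (c : Nat) : Nat := @Bool.rec (fun _ => Nat) (Atab_s_58_61 c) (Atab_s_61_65 c) (Nat.ble 61 c)
noncomputable def Atab_s_52_65 (c : Nat) : Nat := @Bool.rec (fun _ => Nat) (Atab_s_52_58 c) (Atab_s_58_65 c) (Nat.ble 58 c)
noncomputable def Atab_s_66_68 (c : Nat) : Nat := @Bool.rec (fun _ => Nat) (Atab_66) (Atab_67) (Nat.ble 67 c)
noncomputable def Atab_s_65_68 (c : Nat) : Nat := @Bool.rec (fun _ => Nat) (Atab_65) (Atab_s_66_68 c) (Nat.ble 66 c)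
noncomputable def Atab_s_69_71 (c : Nat) : Nat := @Bool.rec (fun _ => Nat) (Atab_69) (Atab_70) (Nat.ble 70 c)
noncomputable def Atab_s_68_71 (c : Nat) : Nat := @Bool.rec (fun _ => Nat) (Atab_68) (Atab_s_69_71 c) (Nat.ble 69 c)
noncomputable def Atab_s_65_71 (c : Nat) : Nat := @Bool.rec (fun _ => Nat) (Atab_s_65_68 c) (Atab_s_68_71 c) (Nat.ble 68 c)
noncomputable def Atab_s_72_74 (c : Nat) : Nat := @Bool.rec (fun _ => Nat) (Atab_72) (Atab_73) (Nat.ble 73 c)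
noncomputable def Atab_s_71_74 (c : Nat) : Nat := @Bool.rec (fun _ => Nat) (Atab_71) (Atab_s_72_74 c) (Nat.ble 72 c)
noncomputable def Atab_s_74_76 (c : Nat) : Nat := @Bool.rec (fun _ => Nat) (Atab_74) (Atab_75) (Nat.ble 75 c)
noncomputable def Atab_s_76_78 (c : Nat) : Nat := @Bool.rec (fun _ => Nat) (Atab_76) (Atab_77) (Nat.ble 77 c)
noncomputable def Atab_s_74_78 (c : Nat) : Nat := @Bool.rec (fun _ => Nat) (Atab_s_74_76 c) (Atab_s_76_78 c) (Nat.ble 76 c)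
noncomputable def Atab_s_71_78 (c : Nat) : Nat := @Bool.rec (fun _ => Nat) (Atab_s_71_74 c) (Atab_s_74_78 c) (Nat.ble 74 c)
noncomputable def Atab_s_65_78 (c : Nat) : Nat := @Bool.rec (fun _ => Nat) (Atab_s_65_71 c) (Atab_s_71_78 c) (Nat.ble 71 c)
noncomputable def Atab_s_52_78 (c : Nat) : Nat := @Bool.rec (fun _ => Nat) (Atab_s_52_65 c) (Atab_s_65_78 c) (Nat.ble 65 c)
noncomputable def Atab_s_79_81 (c : Nat) : Nat := @Bool.rec (fun _ => Nat) (Atab_79) (Atab_80) (Nat.ble 80 c)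
noncomputable def Atab_s_78_81 (c : Nat) : Nat := @Bool.rec (fun _ => Nat) (Atab_78) (Atab_s_79_81 c) (Nat.ble 79 c)
noncomputable def Atab_s_82_84 (c : Nat) : Nat := @Bool.rec (fun _ => Nat) (Atab_82) (Atab_83) (Nat.ble 83 c)
noncomputable def Atab_s_81_84 (c : Nat) : Nat := @Bool.rec (fun _ => Nat) (Atab_81) (Atab_s_82_84 c) (Nat.ble 82 c)
noncomputable def Atab_s_78_84 (c : Nat) : Nat := @Bool.rec (fun _ => Nat) (Atab_s_78_81 c) (Atab_s_81_84 c) (Nat.ble 81 c)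
noncomputable def Atab_s_85_87 (c : Nat) : Nat := @Bool.rec (fun _ => Nat) (Atab_85) (Atab_86) (Nat.ble 86 c)
noncomputable def Atab_s_84_87 (c : Nat) : Nat := @Bool.rec (fun _ => Nat) (Atab_84) (Atab_s_85_87 c) (Nat.ble 85 c)
noncomputable def Atab_s_87_89 (c : Nat) : Nat := @Bool.rec (fun _ => Nat) (Atab_87) (Atab_88) (Nat.ble 88 c)
noncomputable def Atab_s_89_91 (c : Nat) : Nat := @Bool.rec (fun _ => Nat) (Atab_89) (Atab_90) (Nat.ble 90 c)
noncomputable def Atab_s_87_91 (c : Nat) : Nat := @Bool.rec (fun _ => Nat) (Atab_s_87_89 c) (Atab_s_89_91 c) (Nat.ble 89 c)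
noncomputable def Atab_s_84_91 (c : Nat) : Nat := @Bool.rec (fun _ => Nat) (Atab_s_84_87 c) (Atab_s_87_91 c) (Nat.ble 87 c)
noncomputable def Atab_s_78_91 (c : Nat) : Nat := @Bool.rec (fun _ => Nat) (Atab_s_78_84 c) (Atab_s_84_91 c) (Nat.ble 84 c)
noncomputable def Atab_s_92_94 (c : Nat) : Nat := @Bool.rec (fun _ => Nat) (Atab_92) (Atab_93) (Nat.ble 93 c)
noncomputable def Atab_s_91_94 (c : Nat) : Nat := @Bool.rec (fun _ => Nat) (Atab_91) (Atab_s_92_94 c) (Nat.ble 92 c)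
noncomputable def Atab_s_94_96 (c : Nat) : Nat := @Bool.rec (fun _ => Nat) (Atab_94) (Atab_95) (Nat.ble 95 c)
noncomputable def Atab_s_96_98 (c : Nat) : Nat := @Bool.rec (fun _ => Nat) (Atab_96) (Atab_97) (Nat.ble 97 c)
noncomputable def Atab_s_94_98 (c : Nat) : Nat := @Bool.rec (fun _ => Nat) (Atab_s_94_96 c) (Atab_s_96_98 c) (Nat.ble 96 c)
noncomputable def Atab_s_91_98 (c : Nat) : Nat := @Bool.rec (fun _ => Nat) (Atab_s_91_94 c) (Atab_s_94_98 c) (Nat.ble 94 c)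
noncomputable def Atab_s_99_101 (c : Nat) : Nat := @Bool.rec (fun _ => Nat) (Atab_99) (Atab_100) (Nat.ble 100 c)
noncomputable def Atab_s_98_101 (c : Nat) : Nat := @Bool.rec (fun _ => Nat) (Atab_98) (Atab_s_99_101 c) (Nat.ble 99 c)
noncomputable def Atab_s_101_103 (c : Nat) : Nat := @Bool.rec (fun _ => Nat) (Atab_101) (Atab_102) (Nat.ble 102 c)
noncomputable def Atab_s_103_105 (c : Nat) : Nat := @Bool.rec (fun _ => Nat) (Atab_103) (Atab_104) (Nat.ble 104 c)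
noncomputable def Atab_s_101_105 (c : Nat) : Nat := @Bool.rec (fun _ => Nat) (Atab_s_101_103 c) (Atab_s_103_105 c) (Nat.ble 103 c)
noncomputable def Atab_s_98_105 (c : Nat) : Nat := @Bool.rec (fun _ => Nat) (Atab_s_98_101 c) (Atab_s_101_105 c) (Nat.ble 101 c)
noncomputable def Atab_s_91_105 (c : Nat) : Nat := @Bool.rec (fun _ => Nat) (Atab_s_91_98 c) (Atab_s_98_105 c) (Nat.ble 98 c)
noncomputable def Atab_s_78_105 (c : Nat) : Nat := @Bool.rec (fun _ => Nat) (Atab_s_78_91 c) (Atab_s_91_105 c) (Nat.ble 91 c)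
noncomputable def Atab_s_52_105 (c : Nat) : Nat := @Bool.rec (fun _ => Nat) (Atab_s_52_78 c) (Atab_s_78_105 c) (Nat.ble 78 c)
noncomputable def Atab_s_0_105 (c : Nat) : Nat := @Bool.rec (fun _ => Nat) (Atab_s_0_52 c) (Atab_s_52_105 c) (Nat.ble 52 c)
noncomputable def Atab (i : Nat) : Nat := rdw 37 137438953471 (Atab_s_0_105 (Nat.shiftRight i 11)) (Nat.land i 2047)
noncomputable def Btab_s_0_2 (c : Nat) : Nat := @Bool.rec (fun _ => Nat) (Btab_0) (Btab_1) (Nat.ble 1 c)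
noncomputable def Btab_s_3_5 (c : Nat) : Nat := @Bool.rec (fun _ => Nat) (Btab_3) (Btab_4) (Nat.ble 4 c)
noncomputable def Btab_s_2_5 (c : Nat) : Nat := @Bool.rec (fun _ => Nat) (Btab_2) (Btab_s_3_5 c) (Nat.ble 3 c)
noncomputable def Btab_s_0_5 (c : Nat) : Nat := @Bool.rec (fun _ => Nat) (Btab_s_0_2 c) (Btab_s_2_5 c) (Nat.ble 2 c)
noncomputable def Btab_s_5_7 (c : Nat) : Nat := @Bool.rec (fun _ => Nat) (Btab_5) (Btab_6) (Nat.ble 6 c)
noncomputable def Btab_s_8_10 (c : Nat) : Nat := @Bool.rec (fun _ => Nat) (Btab_8) (Btab_9) (Nat.ble 9 c)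
noncomputable def Btab_s_7_10 (c : Nat) : Nat := @Bool.rec (fun _ => Nat) (Btab_7) (Btab_s_8_10 c) (Nat.ble 8 c)
noncomputable def Btab_s_5_10 (c : Nat) : Nat := @Bool.rec (fun _ => Nat) (Btab_s_5_7 c) (Btab_s_7_10 c) (Nat.ble 7 c)
noncomputable def Btab_s_0_10 (c : Nat) : Nat := @Bool.rec (fun _ => Nat) (Btab_s_0_5 c) (Btab_s_5_10 c) (Nat.ble 5 c)
noncomputable def Btab_s_10_12 (c : Nat) : Nat := @Bool.rec (fun _ => Nat) (Btab_10) (Btab_11) (Nat.ble 11 c)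
noncomputable def Btab_s_13_15 (c : Nat) : Nat := @Bool.rec (fun _ => Nat) (Btab_13) (Btab_14) (Nat.ble 14 c)
noncomputable def Btab_s_12_15 (c : Nat) : Nat := @Bool.rec (fun _ => Nat) (Btab_12) (Btab_s_13_15 c) (Nat.ble 13 c)
noncomputable def Btab_s_10_15 (c : Nat) : Nat := @Bool.rec (fun _ => Nat) (Btab_s_10_12 c) (Btab_s_12_15 c) (Nat.ble 12 c)
noncomputable def Btab_s_16_18 (c : Nat) : Nat := @Bool.rec (fun _ => Nat) (Btab_16) (Btab_17) (Nat.ble 17 c)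
noncomputable def Btab_s_15_18 (c : Nat) : Nat := @Bool.rec (fun _ => Nat) (Btab_15) (Btab_s_16_18 c) (Nat.ble 16 c)
noncomputable def Btab_s_19_21 (c : Nat) : Nat := @Bool.rec (fun _ => Nat) (Btab_19) (Btab_20) (Nat.ble 20 c)
noncomputable def Btab_s_18_21 (c : Nat) : Nat := @Bool.rec (fun _ => Nat) (Btab_18) (Btab_s_19_21 c) (Nat.ble 19 c)
noncomputable def Btab_s_15_21 (c : Nat) : Nat := @Bool.rec (fun _ => Nat) (Btab_s_15_18 c) (Btab_s_18_21 c) (Nat.ble 18 c)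
noncomputable def Btab_s_10_21 (c : Nat) : Nat := @Bool.rec (fun _ => Nat) (Btab_s_10_15 c) (Btab_s_15_21 c) (Nat.ble 15 c)
noncomputable def Btab_s_0_21 (c : Nat) : Nat := @Bool.rec (fun _ => Nat) (Btab_s_0_10 c) (Btab_s_10_21 c) (Nat.ble 10 c)
noncomputable def Btab_s_21_23 (c : Nat) : Nat := @Bool.rec (fun _ => Nat) (Btab_21) (Btab_22) (Nat.ble 22 c)
noncomputable def Btab_s_24_26 (c : Nat) : Nat := @Bool.rec (fun _ => Nat) (Btab_24) (Btab_25) (Nat.ble 25 c)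
noncomputable def Btab_s_23_26 (c : Nat) : Nat := @Bool.rec (fun _ => Nat) (Btab_23) (Btab_s_24_26 c) (Nat.ble 24 c)
noncomputable def Btab_s_21_26 (c : Nat) : Nat := @Bool.rec (fun _ => Nat) (Btab_s_21_23 c) (Btab_s_23_26 c) (Nat.ble 23 c)
noncomputable def Btab_s_26_28 (c : Nat) : Nat := @Bool.rec (fun _ => Nat) (Btab_26) (Btab_27) (Nat.ble 27 c)
noncomputable def Btab_s_29_31 (c : Nat) : Nat := @Bool.rec (fun _ => Nat) (Btab_29) (Btab_30) (Nat.ble 30 c)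
noncomputable def Btab_s_28_31 (c : Nat) : Nat := @Bool.rec (fun _ => Nat) (Btab_28) (Btab_s_29_31 c) (Nat.ble 29 c)
noncomputable def Btab_s_26_31 (c : Nat) : Nat := @Bool.rec (fun _ => Nat) (Btab_s_26_28 c) (Btab_s_28_31 c) (Nat.ble 28 c)
noncomputable def Btab_s_21_31 (c : Nat) : Nat := @Bool.rec (fun _ => Nat) (Btab_s_21_26 c) (Btab_s_26_31 c) (Nat.ble 26 c)
noncomputable def Btab_s_31_33 (c : Nat) : Nat := @Bool.rec (fun _ => Nat) (Btab_31) (Btab_32) (Nat.ble 32 c)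
noncomputable def Btab_s_34_36 (c : Nat) : Nat := @Bool.rec (fun _ => Nat) (Btab_34) (Btab_35) (Nat.ble 35 c)
noncomputable def Btab_s_33_36 (c : Nat) : Nat := @Bool.rec (fun _ => Nat) (Btab_33) (Btab_s_34_36 c) (Nat.ble 34 c)
noncomputable def Btab_s_31_36 (c : Nat) : Nat := @Bool.rec (fun _ => Nat) (Btab_s_31_33 c) (Btab_s_33_36 c) (Nat.ble 33 c)
noncomputable def Btab_s_37_39 (c : Nat) : Nat := @Bool.rec (fun _ => Nat) (Btab_37) (Btab_38) (Nat.ble 38 c)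
noncomputable def Btab_s_36_39 (c : Nat) : Nat := @Bool.rec (fun _ => Nat) (Btab_36) (Btab_s_37_39 c) (Nat.ble 37 c)
noncomputable def Btab_s_40_42 (c : Nat) : Nat := @Bool.rec (fun _ => Nat) (Btab_40) (Btab_41) (Nat.ble 41 c)
noncomputable def Btab_s_39_42 (c : Nat) : Nat := @Bool.rec (fun _ => Nat) (Btab_39) (Btab_s_40_42 c) (Nat.ble 40 c)
noncomputable def Btab_s_36_42 (c : Nat) : Nat := @Bool.rec (fun _ => Nat) (Btab_s_36_39 c) (Btab_s_39_42 c) (Nat.ble 39 c)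
noncomputable def Btab_s_31_42 (c : Nat) : Nat := @Bool.rec (fun _ => Nat) (Btab_s_31_36 c) (Btab_s_36_42 c) (Nat.ble 36 c)
noncomputable def Btab_s_21_42 (c : Nat) : Nat := @Bool.rec (fun _ => Nat) (Btab_s_21_31 c) (Btab_s_31_42 c) (Nat.ble 31 c)
noncomputable def Btab_s_0_42 (c : Nat) : Nat := @Bool.rec (fun _ => Nat) (Btab_s_0_21 c) (Btab_s_21_42 c) (Nat.ble 21 c)
noncomputable def Btab_s_42_44 (c : Nat) : Nat := @Bool.rec (fun _ => Nat) (Btab_42) (Btab_43) (Nat.ble 43 c)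
noncomputable def Btab_s_45_47 (c : Nat) : Nat := @Bool.rec (fun _ => Nat) (Btab_45) (Btab_46) (Nat.ble 46 c)
noncomputable def Btab_s_44_47 (c : Nat) : Nat := @Bool.rec (fun _ => Nat) (Btab_44) (Btab_s_45_47 c) (Nat.ble 45 c)
noncomputable def Btab_s_42_47 (c : Nat) : Nat := @Bool.rec (fun _ => Nat) (Btab_s_42_44 c) (Btab_s_44_47 c) (Nat.ble 44 c)
noncomputable def Btab_s_47_49 (c : Nat) : Nat := @Bool.rec (fun _ => Nat) (Btab_47) (Btab_48) (Nat.ble 48 c)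
noncomputable def Btab_s_50_52 (c : Nat) : Nat := @Bool.rec (fun _ => Nat) (Btab_50) (Btab_51) (Nat.ble 51 c)
noncomputable def Btab_s_49_52 (c : Nat) : Nat := @Bool.rec (fun _ => Nat) (Btab_49) (Btab_s_50_52 c) (Nat.ble 50 c)
noncomputable def Btab_s_47_52 (c : Nat) : Nat := @Bool.rec (fun _ => Nat) (Btab_s_47_49 c) (Btab_s_49_52 c) (Nat.ble 49 c)
noncomputable def Btab_s_42_52 (c : Nat) : Nat := @Bool.rec (fun _ => Nat) (Btab_s_42_47 c) (Btab_s_47_52 c) (Nat.ble 47 c)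
noncomputable def Btab_s_52_54 (c : Nat) : Nat := @Bool.rec (fun _ => Nat) (Btab_52) (Btab_53) (Nat.ble 53 c)
noncomputable def Btab_s_55_57 (c : Nat) : Nat := @Bool.rec (fun _ => Nat) (Btab_55) (Btab_56) (Nat.ble 56 c)
noncomputable def Btab_s_54_57 (c : Nat) : Nat := @Bool.rec (fun _ => Nat) (Btab_54) (Btab_s_55_57 c) (Nat.ble 55 c)
noncomputable def Btab_s_52_57 (c : Nat) : Nat := @Bool.rec (fun _ => Nat) (Btab_s_52_54 c) (Btab_s_54_57 c) (Nat.ble 54 c)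
noncomputable def Btab_s_58_60 (c : Nat) : Nat := @Bool.rec (fun _ => Nat) (Btab_58) (Btab_59) (Nat.ble 59 c)
noncomputable def Btab_s_57_60 (c : Nat) : Nat := @Bool.rec (fun _ => Nat) (Btab_57) (Btab_s_58_60 c) (Nat.ble 58 c)
noncomputable def Btab_s_61_63 (c : Nat) : Nat := @Bool.rec (fun _ => Nat) (Btab_61) (Btab_62) (Nat.ble 62 c)
noncomputable def Btab_s_60_63 (c : Nat) : Nat := @Bool.rec (fun _ => Nat) (Btab_60) (Btab_s_61_63 c) (Nat.ble 61 c)
noncomputable def Btab_s_57_63 (c : Nat) : Nat := @Bool.rec (fun _ => Nat) (Btab_s_57_60 c) (Btab_s_60_63 c) (Nat.ble 60 c)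
noncomputable def Btab_s_52_63 (c : Nat) : Nat := @Bool.rec (fun _ => Nat) (Btab_s_52_57 c) (Btab_s_57_63 c) (Nat.ble 57 c)
noncomputable def Btab_s_42_63 (c : Nat) : Nat := @Bool.rec (fun _ => Nat) (Btab_s_42_52 c) (Btab_s_52_63 c) (Nat.ble 52 c)
noncomputable def Btab_s_63_65 (c : Nat) : Nat := @Bool.rec (fun _ => Nat) (Btab_63) (Btab_64) (Nat.ble 64 c)
noncomputable def Btab_s_66_68 (c : Nat) : Nat := @Bool.rec (fun _ => Nat) (Btab_66) (Btab_67) (Nat.ble 67 c)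
noncomputable def Btab_s_65_68 (c : Nat) : Nat := @Bool.rec (fun _ => Nat) (Btab_65) (Btab_s_66_68 c) (Nat.ble 66 c)
noncomputable def Btab_s_63_68 (c : Nat) : Nat := @Bool.rec (fun _ => Nat) (Btab_s_63_65 c) (Btab_s_65_68 c) (Nat.ble 65 c)
noncomputable def Btab_s_69_71 (c : Nat) : Nat := @Bool.rec (fun _ => Nat) (Btab_69) (Btab_70) (Nat.ble 70 c)
noncomputable def Btab_s_68_71 (c : Nat) : Nat := @Bool.rec (fun _ => Nat) (Btab_68) (Btab_s_69_71 c) (Nat.ble 69 c)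
noncomputable def Btab_s_72_74 (c : Nat) : Nat := @Bool.rec (fun _ => Nat) (Btab_72) (Btab_73) (Nat.ble 73 c)
noncomputable def Btab_s_71_74 (c : Nat) : Nat := @Bool.rec (fun _ => Nat) (Btab_71) (Btab_s_72_74 c) (Nat.ble 72 c)
noncomputable def Btab_s_68_74 (c : Nat) : Nat := @Bool.rec (fun _ => Nat) (Btab_s_68_71 c) (Btab_s_71_74 c) (Nat.ble 71 c)
noncomputable def Btab_s_63_74 (c : Nat) : Nat := @Bool.rec (fun _ => Nat) (Btab_s_63_68 c) (Btab_s_68_74 c) (Nat.ble 68 c)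
noncomputable def Btab_s_74_76 (c : Nat) : Nat := @Bool.rec (fun _ => Nat) (Btab_74) (Btab_75) (Nat.ble 75 c)
noncomputable def Btab_s_77_79 (c : Nat) : Nat := @Bool.rec (fun _ => Nat) (Btab_77) (Btab_78) (Nat.ble 78 c)
noncomputable def Btab_s_76_79 (c : Nat) : Nat := @Bool.rec (fun _ => Nat) (Btab_76) (Btab_s_77_79 c) (Nat.ble 77 c)
noncomputable def Btab_s_74_79 (c : Nat) : Nat := @Bool.rec (fun _ => Nat) (Btab_s_74_76 c) (Btab_s_76_79 c) (Nat.ble 76 c)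
noncomputable def Btab_s_80_82 (c : Nat) : Nat := @Bool.rec (fun _ => Nat) (Btab_80) (Btab_81) (Nat.ble 81 c)
noncomputable def Btab_s_79_82 (c : Nat) : Nat := @Bool.rec (fun _ => Nat) (Btab_79) (Btab_s_80_82 c) (Nat.ble 80 c)
noncomputable def Btab_s_83_85 (c : Nat) : Nat := @Bool.rec (fun _ => Nat) (Btab_83) (Btab_84) (Nat.ble 84 c)
noncomputable def Btab_s_82_85 (c : Nat) : Nat := @Bool.rec (fun _ => Nat) (Btab_82) (Btab_s_83_85 c) (Nat.ble 83 c)
noncomputable def Btab_s_79_85 (c : Nat) : Nat := @Bool.rec (fun _ => Nat) (Btab_s_79_82 c) (Btab_s_82_85 c) (Nat.ble 82 c)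
noncomputable def Btab_s_74_85 (c : Nat) : Nat := @Bool.rec (fun _ => Nat) (Btab_s_74_79 c) (Btab_s_79_85 c) (Nat.ble 79 c)
noncomputable def Btab_s_63_85 (c : Nat) : Nat := @Bool.rec (fun _ => Nat) (Btab_s_63_74 c) (Btab_s_74_85 c) (Nat.ble 74 c)
noncomputable def Btab_s_42_85 (c : Nat) : Nat := @Bool.rec (fun _ => Nat) (Btab_s_42_63 c) (Btab_s_63_85 c) (Nat.ble 63 c)
noncomputable def Btab_s_0_85 (c : Nat) : Nat := @Bool.rec (fun _ => Nat) (Btab_s_0_42 c) (Btab_s_42_85 c) (Nat.ble 42 c)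
noncomputable def Btab (i : Nat) : Nat := rdw 42 4398046511103 (Btab_s_0_85 (Nat.shiftRight i 11)) (Nat.land i 2047)
noncomputable def Ptab_s_0_2 (c : Nat) : Nat := @Bool.rec (fun _ => Nat) (Ptab_0) (Ptab_1) (Nat.ble 1 c)
noncomputable def Ptab_s_2_4 (c : Nat) : Nat := @Bool.rec (fun _ => Nat) (Ptab_2) (Ptab_3) (Nat.ble 3 c)
noncomputable def Ptab_s_0_4 (c : Nat) : Nat := @Bool.rec (fun _ => Nat) (Ptab_s_0_2 c) (Ptab_s_2_4 c) (Nat.ble 2 c)
noncomputable def Ptab_s_4_6 (c : Nat) : Nat := @Bool.rec (fun _ => Nat) (Ptab_4) (Ptab_5) (Nat.ble 5 c)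
noncomputable def Ptab_s_6_8 (c : Nat) : Nat := @Bool.rec (fun _ => Nat) (Ptab_6) (Ptab_7) (Nat.ble 7 c)
noncomputable def Ptab_s_4_8 (c : Nat) : Nat := @Bool.rec (fun _ => Nat) (Ptab_s_4_6 c) (Ptab_s_6_8 c) (Nat.ble 6 c)
noncomputable def Ptab_s_0_8 (c : Nat) : Nat := @Bool.rec (fun _ => Nat) (Ptab_s_0_4 c) (Ptab_s_4_8 c) (Nat.ble 4 c)
noncomputable def Ptab_s_8_10 (c : Nat) : Nat := @Bool.rec (fun _ => Nat) (Ptab_8) (Ptab_9) (Nat.ble 9 c)
noncomputable def Ptab_s_10_12 (c : Nat) : Nat := @Bool.rec (fun _ => Nat) (Ptab_10) (Ptab_11) (Nat.ble 11 c)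
noncomputable def Ptab_s_8_12 (c : Nat) : Nat := @Bool.rec (fun _ => Nat) (Ptab_s_8_10 c) (Ptab_s_10_12 c) (Nat.ble 10 c)
noncomputable def Ptab_s_12_14 (c : Nat) : Nat := @Bool.rec (fun _ => Nat) (Ptab_12) (Ptab_13) (Nat.ble 13 c)
noncomputable def Ptab_s_15_17 (c : Nat) : Nat := @Bool.rec (fun _ => Nat) (Ptab_15) (Ptab_16) (Nat.ble 16 c)
noncomputable def Ptab_s_14_17 (c : Nat) : Nat := @Bool.rec (fun _ => Nat) (Ptab_14) (Ptab_s_15_17 c) (Nat.ble 15 c)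
noncomputable def Ptab_s_12_17 (c : Nat) : Nat := @Bool.rec (fun _ => Nat) (Ptab_s_12_14 c) (Ptab_s_14_17 c) (Nat.ble 14 c)
noncomputable def Ptab_s_8_17 (c : Nat) : Nat := @Bool.rec (fun _ => Nat) (Ptab_s_8_12 c) (Ptab_s_12_17 c) (Nat.ble 12 c)
noncomputable def Ptab_s_0_17 (c : Nat) : Nat := @Bool.rec (fun _ => Nat) (Ptab_s_0_8 c) (Ptab_s_8_17 c) (Nat.ble 8 c)
noncomputable def Ptab_s_17_19 (c : Nat) : Nat := @Bool.rec (fun _ => Nat) (Ptab_17) (Ptab_18) (Nat.ble 18 c)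
noncomputable def Ptab_s_19_21 (c : Nat) : Nat := @Bool.rec (fun _ => Nat) (Ptab_19) (Ptab_20) (Nat.ble 20 c)
noncomputable def Ptab_s_17_21 (c : Nat) : Nat := @Bool.rec (fun _ => Nat) (Ptab_s_17_19 c) (Ptab_s_19_21 c) (Nat.ble 19 c)
noncomputable def Ptab_s_21_23 (c : Nat) : Nat := @Bool.rec (fun _ => Nat) (Ptab_21) (Ptab_22) (Nat.ble 22 c)
noncomputable def Ptab_s_23_25 (c : Nat) : Nat := @Bool.rec (fun _ => Nat) (Ptab_23) (Ptab_24) (Nat.ble 24 c)
noncomputable def Ptab_s_21_25 (c : Nat) : Nat := @Bool.rec (fun _ => Nat) (Ptab_s_21_23 c) (Ptab_s_23_25 c) (Nat.ble 23 c)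
noncomputable def Ptab_s_17_25 (c : Nat) : Nat := @Bool.rec (fun _ => Nat) (Ptab_s_17_21 c) (Ptab_s_21_25 c) (Nat.ble 21 c)
noncomputable def Ptab_s_25_27 (c : Nat) : Nat := @Bool.rec (fun _ => Nat) (Ptab_25) (Ptab_26) (Nat.ble 26 c)
noncomputable def Ptab_s_27_29 (c : Nat) : Nat := @Bool.rec (fun _ => Nat) (Ptab_27) (Ptab_28) (Nat.ble 28 c)
noncomputable def Ptab_s_25_29 (c : Nat) : Nat := @Bool.rec (fun _ => Nat) (Ptab_s_25_27 c) (Ptab_s_27_29 c) (Nat.ble 27 c)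
noncomputable def Ptab_s_29_31 (c : Nat) : Nat := @Bool.rec (fun _ => Nat) (Ptab_29) (Ptab_30) (Nat.ble 30 c)
noncomputable def Ptab_s_32_34 (c : Nat) : Nat := @Bool.rec (fun _ => Nat) (Ptab_32) (Ptab_33) (Nat.ble 33 c)
noncomputable def Ptab_s_31_34 (c : Nat) : Nat := @Bool.rec (fun _ => Nat) (Ptab_31) (Ptab_s_32_34 c) (Nat.ble 32 c)
noncomputable def Ptab_s_29_34 (c : Nat) : Nat := @Bool.rec (fun _ => Nat) (Ptab_s_29_31 c) (Ptab_s_31_34 c) (Nat.ble 31 c)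
noncomputable def Ptab_s_25_34 (c : Nat) : Nat := @Bool.rec (fun _ => Nat) (Ptab_s_25_29 c) (Ptab_s_29_34 c) (Nat.ble 29 c)
noncomputable def Ptab_s_17_34 (c : Nat) : Nat := @Bool.rec (fun _ => Nat) (Ptab_s_17_25 c) (Ptab_s_25_34 c) (Nat.ble 25 c)
noncomputable def Ptab_s_0_34 (c : Nat) : Nat := @Bool.rec (fun _ => Nat) (Ptab_s_0_17 c) (Ptab_s_17_34 c) (Nat.ble 17 c)
noncomputable def Ptab_s_34_36 (c : Nat) : Nat := @Bool.rec (fun _ => Nat) (Ptab_34) (Ptab_35) (Nat.ble 35 c)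
noncomputable def Ptab_s_36_38 (c : Nat) : Nat := @Bool.rec (fun _ => Nat) (Ptab_36) (Ptab_37) (Nat.ble 37 c)
noncomputable def Ptab_s_34_38 (c : Nat) : Nat := @Bool.rec (fun _ => Nat) (Ptab_s_34_36 c) (Ptab_s_36_38 c) (Nat.ble 36 c)
noncomputable def Ptab_s_38_40 (c : Nat) : Nat := @Bool.rec (fun _ => Nat) (Ptab_38) (Ptab_39) (Nat.ble 39 c)
noncomputable def Ptab_s_40_42 (c : Nat) : Nat := @Bool.rec (fun _ => Nat) (Ptab_40) (Ptab_41) (Nat.ble 41 c)
noncomputable def Ptab_s_38_42 (c : Nat) : Nat := @Bool.rec (fun _ => Nat) (Ptab_s_38_40 c) (Ptab_s_40_42 c) (Nat.ble 40 c)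
noncomputable def Ptab_s_34_42 (c : Nat) : Nat := @Bool.rec (fun _ => Nat) (Ptab_s_34_38 c) (Ptab_s_38_42 c) (Nat.ble 38 c)
noncomputable def Ptab_s_42_44 (c : Nat) : Nat := @Bool.rec (fun _ => Nat) (Ptab_42) (Ptab_43) (Nat.ble 43 c)
noncomputable def Ptab_s_44_46 (c : Nat) : Nat := @Bool.rec (fun _ => Nat) (Ptab_44) (Ptab_45) (Nat.ble 45 c)
noncomputable def Ptab_s_42_46 (c : Nat) : Nat := @Bool.rec (fun _ => Nat) (Ptab_s_42_44 c) (Ptab_s_44_46 c) (Nat.ble 44 c)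
noncomputable def Ptab_s_46_48 (c : Nat) : Nat := @Bool.rec (fun _ => Nat) (Ptab_46) (Ptab_47) (Nat.ble 47 c)
noncomputable def Ptab_s_49_51 (c : Nat) : Nat := @Bool.rec (fun _ => Nat) (Ptab_49) (Ptab_50) (Nat.ble 50 c)
noncomputable def Ptab_s_48_51 (c : Nat) : Nat := @Bool.rec (fun _ => Nat) (Ptab_48) (Ptab_s_49_51 c) (Nat.ble 49 c)
noncomputable def Ptab_s_46_51 (c : Nat) : Nat := @Bool.rec (fun _ => Nat) (Ptab_s_46_48 c) (Ptab_s_48_51 c) (Nat.ble 48 c)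
noncomputable def Ptab_s_42_51 (c : Nat) : Nat := @Bool.rec (fun _ => Nat) (Ptab_s_42_46 c) (Ptab_s_46_51 c) (Nat.ble 46 c)
noncomputable def Ptab_s_34_51 (c : Nat) : Nat := @Bool.rec (fun _ => Nat) (Ptab_s_34_42 c) (Ptab_s_42_51 c) (Nat.ble 42 c)
noncomputable def Ptab_s_51_53 (c : Nat) : Nat := @Bool.rec (fun _ => Nat) (Ptab_51) (Ptab_52) (Nat.ble 52 c)
noncomputable def Ptab_s_53_55 (c : Nat) : Nat := @Bool.rec (fun _ => Nat) (Ptab_53) (Ptab_54) (Nat.ble 54 c)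
noncomputable def Ptab_s_51_55 (c : Nat) : Nat := @Bool.rec (fun _ => Nat) (Ptab_s_51_53 c) (Ptab_s_53_55 c) (Nat.ble 53 c)
noncomputable def Ptab_s_55_57 (c : Nat) : Nat := @Bool.rec (fun _ => Nat) (Ptab_55) (Ptab_56) (Nat.ble 56 c)
noncomputable def Ptab_s_58_60 (c : Nat) : Nat := @Bool.rec (fun _ => Nat) (Ptab_58) (Ptab_59) (Nat.ble 59 c)
noncomputable def Ptab_s_57_60 (c : Nat) : Nat := @Bool.rec (fun _ => Nat) (Ptab_57) (Ptab_s_58_60 c) (Nat.ble 58 c)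
noncomputable def Ptab_s_55_60 (c : Nat) : Nat := @Bool.rec (fun _ => Nat) (Ptab_s_55_57 c) (Ptab_s_57_60 c) (Nat.ble 57 c)
noncomputable def Ptab_s_51_60 (c : Nat) : Nat := @Bool.rec (fun _ => Nat) (Ptab_s_51_55 c) (Ptab_s_55_60 c) (Nat.ble 55 c)
noncomputable def Ptab_s_60_62 (c : Nat) : Nat := @Bool.rec (fun _ => Nat) (Ptab_60) (Ptab_61) (Nat.ble 61 c)
noncomputable def Ptab_s_62_64 (c : Nat) : Nat := @Bool.rec (fun _ => Nat) (Ptab_62) (Ptab_63) (Nat.ble 63 c)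
noncomputable def Ptab_s_60_64 (c : Nat) : Nat := @Bool.rec (fun _ => Nat) (Ptab_s_60_62 c) (Ptab_s_62_64 c) (Nat.ble 62 c)
noncomputable def Ptab_s_64_66 (c : Nat) : Nat := @Bool.rec (fun _ => Nat) (Ptab_64) (Ptab_65) (Nat.ble 65 c)
noncomputable def Ptab_s_67_69 (c : Nat) : Nat := @Bool.rec (fun _ => Nat) (Ptab_67) (Ptab_68) (Nat.ble 68 c)
noncomputable def Ptab_s_66_69 (c : Nat) : Nat := @Bool.rec (fun _ => Nat) (Ptab_66) (Ptab_s_67_69 c) (Nat.ble 67 c)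
noncomputable def Ptab_s_64_69 (c : Nat) : Nat := @Bool.rec (fun _ => Nat) (Ptab_s_64_66 c) (Ptab_s_66_69 c) (Nat.ble 66 c)
noncomputable def Ptab_s_60_69 (c : Nat) : Nat := @Bool.rec (fun _ => Nat) (Ptab_s_60_64 c) (Ptab_s_64_69 c) (Nat.ble 64 c)
noncomputable def Ptab_s_51_69 (c : Nat) : Nat := @Bool.rec (fun _ => Nat) (Ptab_s_51_60 c) (Ptab_s_60_69 c) (Nat.ble 60 c)
noncomputable def Ptab_s_34_69 (c : Nat) : Nat := @Bool.rec (fun _ => Nat) (Ptab_s_34_51 c) (Ptab_s_51_69 c) (Nat.ble 51 c)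
noncomputable def Ptab_s_0_69 (c : Nat) : Nat := @Bool.rec (fun _ => Nat) (Ptab_s_0_34 c) (Ptab_s_34_69 c) (Nat.ble 34 c)
noncomputable def Ptab_s_69_71 (c : Nat) : Nat := @Bool.rec (fun _ => Nat) (Ptab_69) (Ptab_70) (Nat.ble 70 c)
noncomputable def Ptab_s_71_73 (c : Nat) : Nat := @Bool.rec (fun _ => Nat) (Ptab_71) (Ptab_72) (Nat.ble 72 c)
noncomputable def Ptab_s_69_73 (c : Nat) : Nat := @Bool.rec (fun _ => Nat) (Ptab_s_69_71 c) (Ptab_s_71_73 c) (Nat.ble 71 c)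
noncomputable def Ptab_s_73_75 (c : Nat) : Nat := @Bool.rec (fun _ => Nat) (Ptab_73) (Ptab_74) (Nat.ble 74 c)
noncomputable def Ptab_s_75_77 (c : Nat) : Nat := @Bool.rec (fun _ => Nat) (Ptab_75) (Ptab_76) (Nat.ble 76 c)
noncomputable def Ptab_s_73_77 (c : Nat) : Nat := @Bool.rec (fun _ => Nat) (Ptab_s_73_75 c) (Ptab_s_75_77 c) (Nat.ble 75 c)
noncomputable def Ptab_s_69_77 (c : Nat) : Nat := @Bool.rec (fun _ => Nat) (Ptab_s_69_73 c) (Ptab_s_73_77 c) (Nat.ble 73 c)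
noncomputable def Ptab_s_77_79 (c : Nat) : Nat := @Bool.rec (fun _ => Nat) (Ptab_77) (Ptab_78) (Nat.ble 78 c)
noncomputable def Ptab_s_79_81 (c : Nat) : Nat := @Bool.rec (fun _ => Nat) (Ptab_79) (Ptab_80) (Nat.ble 80 c)
noncomputable def Ptab_s_77_81 (c : Nat) : Nat := @Bool.rec (fun _ => Nat) (Ptab_s_77_79 c) (Ptab_s_79_81 c) (Nat.ble 79 c)
noncomputable def Ptab_s_81_83 (c : Nat) : Nat := @Bool.rec (fun _ => Nat) (Ptab_81) (Ptab_82) (Nat.ble 82 c)
noncomputable def Ptab_s_84_86 (c : Nat) : Nat := @Bool.rec (fun _ => Nat) (Ptab_84) (Ptab_85) (Nat.ble 85 c)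
noncomputable def Ptab_s_83_86 (c : Nat) : Nat := @Bool.rec (fun _ => Nat) (Ptab_83) (Ptab_s_84_86 c) (Nat.ble 84 c)
noncomputable def Ptab_s_81_86 (c : Nat) : Nat := @Bool.rec (fun _ => Nat) (Ptab_s_81_83 c) (Ptab_s_83_86 c) (Nat.ble 83 c)
noncomputable def Ptab_s_77_86 (c : Nat) : Nat := @Bool.rec (fun _ => Nat) (Ptab_s_77_81 c) (Ptab_s_81_86 c) (Nat.ble 81 c)
noncomputable def Ptab_s_69_86 (c : Nat) : Nat := @Bool.rec (fun _ => Nat) (Ptab_s_69_77 c) (Ptab_s_77_86 c) (Nat.ble 77 c)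
noncomputable def Ptab_s_86_88 (c : Nat) : Nat := @Bool.rec (fun _ => Nat) (Ptab_86) (Ptab_87) (Nat.ble 87 c)
noncomputable def Ptab_s_88_90 (c : Nat) : Nat := @Bool.rec (fun _ => Nat) (Ptab_88) (Ptab_89) (Nat.ble 89 c)
noncomputable def Ptab_s_86_90 (c : Nat) : Nat := @Bool.rec (fun _ => Nat) (Ptab_s_86_88 c) (Ptab_s_88_90 c) (Nat.ble 88 c)
noncomputable def Ptab_s_90_92 (c : Nat) : Nat := @Bool.rec (fun _ => Nat) (Ptab_90) (Ptab_91) (Nat.ble 91 c)
noncomputable def Ptab_s_92_94 (c : Nat) : Nat := @Bool.rec (fun _ => Nat) (Ptab_92) (Ptab_93) (Nat.ble 93 c)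
noncomputable def Ptab_s_90_94 (c : Nat) : Nat := @Bool.rec (fun _ => Nat) (Ptab_s_90_92 c) (Ptab_s_92_94 c) (Nat.ble 92 c)
noncomputable def Ptab_s_86_94 (c : Nat) : Nat := @Bool.rec (fun _ => Nat) (Ptab_s_86_90 c) (Ptab_s_90_94 c) (Nat.ble 90 c)
noncomputable def Ptab_s_94_96 (c : Nat) : Nat := @Bool.rec (fun _ => Nat) (Ptab_94) (Ptab_95) (Nat.ble 95 c)
noncomputable def Ptab_s_96_98 (c : Nat) : Nat := @Bool.rec (fun _ => Nat) (Ptab_96) (Ptab_97) (Nat.ble 97 c)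
noncomputable def Ptab_s_94_98 (c : Nat) : Nat := @Bool.rec (fun _ => Nat) (Ptab_s_94_96 c) (Ptab_s_96_98 c) (Nat.ble 96 c)
noncomputable def Ptab_s_98_100 (c : Nat) : Nat := @Bool.rec (fun _ => Nat) (Ptab_98) (Ptab_99) (Nat.ble 99 c)
noncomputable def Ptab_s_101_103 (c : Nat) : Nat := @Bool.rec (fun _ => Nat) (Ptab_101) (Ptab_102) (Nat.ble 102 c)
noncomputable def Ptab_s_100_103 (c : Nat) : Nat := @Bool.rec (fun _ => Nat) (Ptab_100) (Ptab_s_101_103 c) (Nat.ble 101 c)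
noncomputable def Ptab_s_98_103 (c : Nat) : Nat := @Bool.rec (fun _ => Nat) (Ptab_s_98_100 c) (Ptab_s_100_103 c) (Nat.ble 100 c)
noncomputable def Ptab_s_94_103 (c : Nat) : Nat := @Bool.rec (fun _ => Nat) (Ptab_s_94_98 c) (Ptab_s_98_103 c) (Nat.ble 98 c)
noncomputable def Ptab_s_86_103 (c : Nat) : Nat := @Bool.rec (fun _ => Nat) (Ptab_s_86_94 c) (Ptab_s_94_103 c) (Nat.ble 94 c)
noncomputable def Ptab_s_69_103 (c : Nat) : Nat := @Bool.rec (fun _ => Nat) (Ptab_s_69_86 c) (Ptab_s_86_103 c) (Nat.ble 86 c)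
noncomputable def Ptab_s_103_105 (c : Nat) : Nat := @Bool.rec (fun _ => Nat) (Ptab_103) (Ptab_104) (Nat.ble 104 c)
noncomputable def Ptab_s_105_107 (c : Nat) : Nat := @Bool.rec (fun _ => Nat) (Ptab_105) (Ptab_106) (Nat.ble 106 c)
noncomputable def Ptab_s_103_107 (c : Nat) : Nat := @Bool.rec (fun _ => Nat) (Ptab_s_103_105 c) (Ptab_s_105_107 c) (Nat.ble 105 c)
noncomputable def Ptab_s_107_109 (c : Nat) : Nat := @Bool.rec (fun _ => Nat) (Ptab_107) (Ptab_108) (Nat.ble 108 c)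
noncomputable def Ptab_s_109_111 (c : Nat) : Nat := @Bool.rec (fun _ => Nat) (Ptab_109) (Ptab_110) (Nat.ble 110 c)
noncomputable def Ptab_s_107_111 (c : Nat) : Nat := @Bool.rec (fun _ => Nat) (Ptab_s_107_109 c) (Ptab_s_109_111 c) (Nat.ble 109 c)
noncomputable def Ptab_s_103_111 (c : Nat) : Nat := @Bool.rec (fun _ => Nat) (Ptab_s_103_107 c) (Ptab_s_107_111 c) (Nat.ble 107 c)
noncomputable def Ptab_s_111_113 (c : Nat) : Nat := @Bool.rec (fun _ => Nat) (Ptab_111) (Ptab_112) (Nat.ble 112 c)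
noncomputable def Ptab_s_113_115 (c : Nat) : Nat := @Bool.rec (fun _ => Nat) (Ptab_113) (Ptab_114) (Nat.ble 114 c)
noncomputable def Ptab_s_111_115 (c : Nat) : Nat := @Bool.rec (fun _ => Nat) (Ptab_s_111_113 c) (Ptab_s_113_115 c) (Nat.ble 113 c)
noncomputable def Ptab_s_115_117 (c : Nat) : Nat := @Bool.rec (fun _ => Nat) (Ptab_115) (Ptab_116) (Nat.ble 116 c)
noncomputable def Ptab_s_118_120 (c : Nat) : Nat := @Bool.rec (fun _ => Nat) (Ptab_118) (Ptab_119) (Nat.ble 119 c)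
noncomputable def Ptab_s_117_120 (c : Nat) : Nat := @Bool.rec (fun _ => Nat) (Ptab_117) (Ptab_s_118_120 c) (Nat.ble 118 c)
noncomputable def Ptab_s_115_120 (c : Nat) : Nat := @Bool.rec (fun _ => Nat) (Ptab_s_115_117 c) (Ptab_s_117_120 c) (Nat.ble 117 c)
noncomputable def Ptab_s_111_120 (c : Nat) : Nat := @Bool.rec (fun _ => Nat) (Ptab_s_111_115 c) (Ptab_s_115_120 c) (Nat.ble 115 c)
noncomputable def Ptab_s_103_120 (c : Nat) : Nat := @Bool.rec (fun _ => Nat) (Ptab_s_103_111 c) (Ptab_s_111_120 c) (Nat.ble 111 c)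
noncomputable def Ptab_s_120_122 (c : Nat) : Nat := @Bool.rec (fun _ => Nat) (Ptab_120) (Ptab_121) (Nat.ble 121 c)
noncomputable def Ptab_s_122_124 (c : Nat) : Nat := @Bool.rec (fun _ => Nat) (Ptab_122) (Ptab_123) (Nat.ble 123 c)
noncomputable def Ptab_s_120_124 (c : Nat) : Nat := @Bool.rec (fun _ => Nat) (Ptab_s_120_122 c) (Ptab_s_122_124 c) (Nat.ble 122 c)
noncomputable def Ptab_s_124_126 (c : Nat) : Nat := @Bool.rec (fun _ => Nat) (Ptab_124) (Ptab_125) (Nat.ble 125 c)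
noncomputable def Ptab_s_127_129 (c : Nat) : Nat := @Bool.rec (fun _ => Nat) (Ptab_127) (Ptab_128) (Nat.ble 128 c)
noncomputable def Ptab_s_126_129 (c : Nat) : Nat := @Bool.rec (fun _ => Nat) (Ptab_126) (Ptab_s_127_129 c) (Nat.ble 127 c)
noncomputable def Ptab_s_124_129 (c : Nat) : Nat := @Bool.rec (fun _ => Nat) (Ptab_s_124_126 c) (Ptab_s_126_129 c) (Nat.ble 126 c)
noncomputable def Ptab_s_120_129 (c : Nat) : Nat := @Bool.rec (fun _ => Nat) (Ptab_s_120_124 c) (Ptab_s_124_129 c) (Nat.ble 124 c)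
noncomputable def Ptab_s_129_131 (c : Nat) : Nat := @Bool.rec (fun _ => Nat) (Ptab_129) (Ptab_130) (Nat.ble 130 c)
noncomputable def Ptab_s_131_133 (c : Nat) : Nat := @Bool.rec (fun _ => Nat) (Ptab_131) (Ptab_132) (Nat.ble 132 c)
noncomputable def Ptab_s_129_133 (c : Nat) : Nat := @Bool.rec (fun _ => Nat) (Ptab_s_129_131 c) (Ptab_s_131_133 c) (Nat.ble 131 c)
noncomputable def Ptab_s_133_135 (c : Nat) : Nat := @Bool.rec (fun _ => Nat) (Ptab_133) (Ptab_134) (Nat.ble 134 c)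
noncomputable def Ptab_s_136_138 (c : Nat) : Nat := @Bool.rec (fun _ => Nat) (Ptab_136) (Ptab_137) (Nat.ble 137 c)
noncomputable def Ptab_s_135_138 (c : Nat) : Nat := @Bool.rec (fun _ => Nat) (Ptab_135) (Ptab_s_136_138 c) (Nat.ble 136 c)
noncomputable def Ptab_s_133_138 (c : Nat) : Nat := @Bool.rec (fun _ => Nat) (Ptab_s_133_135 c) (Ptab_s_135_138 c) (Nat.ble 135 c)
noncomputable def Ptab_s_129_138 (c : Nat) : Nat := @Bool.rec (fun _ => Nat) (Ptab_s_129_133 c) (Ptab_s_133_138 c) (Nat.ble 133 c)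
noncomputable def Ptab_s_120_138 (c : Nat) : Nat := @Bool.rec (fun _ => Nat) (Ptab_s_120_129 c) (Ptab_s_129_138 c) (Nat.ble 129 c)
noncomputable def Ptab_s_103_138 (c : Nat) : Nat := @Bool.rec (fun _ => Nat) (Ptab_s_103_120 c) (Ptab_s_120_138 c) (Nat.ble 120 c)
noncomputable def Ptab_s_69_138 (c : Nat) : Nat := @Bool.rec (fun _ => Nat) (Ptab_s_69_103 c) (Ptab_s_103_138 c) (Nat.ble 103 c)
noncomputable def Ptab_s_0_138 (c : Nat) : Nat := @Bool.rec (fun _ => Nat) (Ptab_s_0_69 c) (Ptab_s_69_138 c) (Nat.ble 69 c)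
noncomputable def Ptab (i : Nat) : Nat := rdw 19 524287 (Ptab_s_0_138 (Nat.shiftRight i 12)) (Nat.land i 4095)
noncomputable def RRtab (i : Nat) : Nat := rdw 5 31 RRtab_0 i
noncomputable def rBtab (i : Nat) : Nat := rdw 11 2047 rBtab_0 i
noncomputable def rLtab (i : Nat) : Nat := rdw 7 127 rLtab_0 i
noncomputable def nameTab_s_0_2 (c : Nat) : Nat := @Bool.rec (fun _ => Nat) (nameTab_0) (nameTab_1) (Nat.ble 1 c)
noncomputable def nameTab_s_2_4 (c : Nat) : Nat := @Bool.rec (fun _ => Nat) (nameTab_2) (nameTab_3) (Nat.ble 3 c)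
noncomputable def nameTab_s_0_4 (c : Nat) : Nat := @Bool.rec (fun _ => Nat) (nameTab_s_0_2 c) (nameTab_s_2_4 c) (Nat.ble 2 c)
noncomputable def nameTab_s_4_6 (c : Nat) : Nat := @Bool.rec (fun _ => Nat) (nameTab_4) (nameTab_5) (Nat.ble 5 c)
noncomputable def nameTab_s_6_8 (c : Nat) : Nat := @Bool.rec (fun _ => Nat) (nameTab_6) (nameTab_7) (Nat.ble 7 c)
noncomputable def nameTab_s_4_8 (c : Nat) : Nat := @Bool.rec (fun _ => Nat) (nameTab_s_4_6 c) (nameTab_s_6_8 c) (Nat.ble 6 c)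
noncomputable def nameTab_s_0_8 (c : Nat) : Nat := @Bool.rec (fun _ => Nat) (nameTab_s_0_4 c) (nameTab_s_4_8 c) (Nat.ble 4 c)
noncomputable def nameTab (i : Nat) : Nat := rdw 16 65535 (nameTab_s_0_8 (Nat.shiftRight i 12)) (Nat.land i 4095)
noncomputable def col0_s_0_2 (c : Nat) : Nat := @Bool.rec (fun _ => Nat) (col0_0) (col0_1) (Nat.ble 1 c)
noncomputable def col0_s_2_4 (c : Nat) : Nat := @Bool.rec (fun _ => Nat) (col0_2) (col0_3) (Nat.ble 3 c)
noncomputable def col0_s_0_4 (c : Nat) : Nat := @Bool.rec (fun _ => Nat) (col0_s_0_2 c) (col0_s_2_4 c) (Nat.ble 2 c)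
noncomputable def col0_s_4_6 (c : Nat) : Nat := @Bool.rec (fun _ => Nat) (col0_4) (col0_5) (Nat.ble 5 c)
noncomputable def col0_s_6_8 (c : Nat) : Nat := @Bool.rec (fun _ => Nat) (col0_6) (col0_7) (Nat.ble 7 c)
noncomputable def col0_s_4_8 (c : Nat) : Nat := @Bool.rec (fun _ => Nat) (col0_s_4_6 c) (col0_s_6_8 c) (Nat.ble 6 c)
noncomputable def col0_s_0_8 (c : Nat) : Nat := @Bool.rec (fun _ => Nat) (col0_s_0_4 c) (col0_s_4_8 c) (Nat.ble 4 c)
noncomputable def col0 (i : Nat) : Nat := rdw 15 32767 (col0_s_0_8 (Nat.shiftRight i 12)) (Nat.land i 4095)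
noncomputable def col1_s_0_2 (c : Nat) : Nat := @Bool.rec (fun _ => Nat) (col1_0) (col1_1) (Nat.ble 1 c)
noncomputable def col1_s_2_4 (c : Nat) : Nat := @Bool.rec (fun _ => Nat) (col1_2) (col1_3) (Nat.ble 3 c)
noncomputable def col1_s_0_4 (c : Nat) : Nat := @Bool.rec (fun _ => Nat) (col1_s_0_2 c) (col1_s_2_4 c) (Nat.ble 2 c)
noncomputable def col1_s_4_6 (c : Nat) : Nat := @Bool.rec (fun _ => Nat) (col1_4) (col1_5) (Nat.ble 5 c)
noncomputable def col1_s_6_8 (c : Nat) : Nat := @Bool.rec (fun _ => Nat) (col1_6) (col1_7) (Nat.ble 7 c)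
noncomputable def col1_s_4_8 (c : Nat) : Nat := @Bool.rec (fun _ => Nat) (col1_s_4_6 c) (col1_s_6_8 c) (Nat.ble 6 c)
noncomputable def col1_s_0_8 (c : Nat) : Nat := @Bool.rec (fun _ => Nat) (col1_s_0_4 c) (col1_s_4_8 c) (Nat.ble 4 c)
noncomputable def col1 (i : Nat) : Nat := rdw 15 32767 (col1_s_0_8 (Nat.shiftRight i 12)) (Nat.land i 4095)
noncomputable def col2_s_0_2 (c : Nat) : Nat := @Bool.rec (fun _ => Nat) (col2_0) (col2_1) (Nat.ble 1 c)
noncomputable def col2_s_2_4 (c : Nat) : Nat := @Bool.rec (fun _ => Nat) (col2_2) (col2_3) (Nat.ble 3 c)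
noncomputable def col2_s_0_4 (c : Nat) : Nat := @Bool.rec (fun _ => Nat) (col2_s_0_2 c) (col2_s_2_4 c) (Nat.ble 2 c)
noncomputable def col2_s_4_6 (c : Nat) : Nat := @Bool.rec (fun _ => Nat) (col2_4) (col2_5) (Nat.ble 5 c)
noncomputable def col2_s_6_8 (c : Nat) : Nat := @Bool.rec (fun _ => Nat) (col2_6) (col2_7) (Nat.ble 7 c)
noncomputable def col2_s_4_8 (c : Nat) : Nat := @Bool.rec (fun _ => Nat) (col2_s_4_6 c) (col2_s_6_8 c) (Nat.ble 6 c)
noncomputable def col2_s_0_8 (c : Nat) : Nat := @Bool.rec (fun _ => Nat) (col2_s_0_4 c) (col2_s_4_8 c) (Nat.ble 4 c)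
noncomputable def col2 (i : Nat) : Nat := rdw 15 32767 (col2_s_0_8 (Nat.shiftRight i 12)) (Nat.land i 4095)
noncomputable def col3_s_0_2 (c : Nat) : Nat := @Bool.rec (fun _ => Nat) (col3_0) (col3_1) (Nat.ble 1 c)
noncomputable def col3_s_2_4 (c : Nat) : Nat := @Bool.rec (fun _ => Nat) (col3_2) (col3_3) (Nat.ble 3 c)
noncomputable def col3_s_0_4 (c : Nat) : Nat := @Bool.rec (fun _ => Nat) (col3_s_0_2 c) (col3_s_2_4 c) (Nat.ble 2 c)
noncomputable def col3_s_4_6 (c : Nat) : Nat := @Bool.rec (fun _ => Nat) (col3_4) (col3_5) (Nat.ble 5 c)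
noncomputable def col3_s_6_8 (c : Nat) : Nat := @Bool.rec (fun _ => Nat) (col3_6) (col3_7) (Nat.ble 7 c)
noncomputable def col3_s_4_8 (c : Nat) : Nat := @Bool.rec (fun _ => Nat) (col3_s_4_6 c) (col3_s_6_8 c) (Nat.ble 6 c)
noncomputable def col3_s_0_8 (c : Nat) : Nat := @Bool.rec (fun _ => Nat) (col3_s_0_4 c) (col3_s_4_8 c) (Nat.ble 4 c)
noncomputable def col3 (i : Nat) : Nat := rdw 15 32767 (col3_s_0_8 (Nat.shiftRight i 12)) (Nat.land i 4095)
noncomputable def col4_s_0_2 (c : Nat) : Nat := @Bool.rec (fun _ => Nat) (col4_0) (col4_1) (Nat.ble 1 c)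
noncomputable def col4_s_2_4 (c : Nat) : Nat := @Bool.rec (fun _ => Nat) (col4_2) (col4_3) (Nat.ble 3 c)
noncomputable def col4_s_0_4 (c : Nat) : Nat := @Bool.rec (fun _ => Nat) (col4_s_0_2 c) (col4_s_2_4 c) (Nat.ble 2 c)
noncomputable def col4_s_4_6 (c : Nat) : Nat := @Bool.rec (fun _ => Nat) (col4_4) (col4_5) (Nat.ble 5 c)
noncomputable def col4_s_6_8 (c : Nat) : Nat := @Bool.rec (fun _ => Nat) (col4_6) (col4_7) (Nat.ble 7 c)
noncomputable def col4_s_4_8 (c : Nat) : Nat := @Bool.rec (fun _ => Nat) (col4_s_4_6 c) (col4_s_6_8 c) (Nat.ble 6 c)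
noncomputable def col4_s_0_8 (c : Nat) : Nat := @Bool.rec (fun _ => Nat) (col4_s_0_4 c) (col4_s_4_8 c) (Nat.ble 4 c)
noncomputable def col4 (i : Nat) : Nat := rdw 15 32767 (col4_s_0_8 (Nat.shiftRight i 12)) (Nat.land i 4095)
noncomputable def col5_s_0_2 (c : Nat) : Nat := @Bool.rec (fun _ => Nat) (col5_0) (col5_1) (Nat.ble 1 c)
noncomputable def col5_s_2_4 (c : Nat) : Nat := @Bool.rec (fun _ => Nat) (col5_2) (col5_3) (Nat.ble 3 c)
noncomputable def col5_s_0_4 (c : Nat) : Nat := @Bool.rec (fun _ => Nat) (col5_s_0_2 c) (col5_s_2_4 c) (Nat.ble 2 c)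
noncomputable def col5_s_4_6 (c : Nat) : Nat := @Bool.rec (fun _ => Nat) (col5_4) (col5_5) (Nat.ble 5 c)
noncomputable def col5_s_6_8 (c : Nat) : Nat := @Bool.rec (fun _ => Nat) (col5_6) (col5_7) (Nat.ble 7 c)
noncomputable def col5_s_4_8 (c : Nat) : Nat := @Bool.rec (fun _ => Nat) (col5_s_4_6 c) (col5_s_6_8 c) (Nat.ble 6 c)
noncomputable def col5_s_0_8 (c : Nat) : Nat := @Bool.rec (fun _ => Nat) (col5_s_0_4 c) (col5_s_4_8 c) (Nat.ble 4 c)
noncomputable def col5 (i : Nat) : Nat := rdw 15 32767 (col5_s_0_8 (Nat.shiftRight i 12)) (Nat.land i 4095)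
noncomputable def col6_s_0_2 (c : Nat) : Nat := @Bool.rec (fun _ => Nat) (col6_0) (col6_1) (Nat.ble 1 c)
noncomputable def col6_s_2_4 (c : Nat) : Nat := @Bool.rec (fun _ => Nat) (col6_2) (col6_3) (Nat.ble 3 c)
noncomputable def col6_s_0_4 (c : Nat) : Nat := @Bool.rec (fun _ => Nat) (col6_s_0_2 c) (col6_s_2_4 c) (Nat.ble 2 c)
noncomputable def col6_s_4_6 (c : Nat) : Nat := @Bool.rec (fun _ => Nat) (col6_4) (col6_5) (Nat.ble 5 c)
noncomputable def col6_s_6_8 (c : Nat) : Nat := @Bool.rec (fun _ => Nat) (col6_6) (col6_7) (Nat.ble 7 c)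
noncomputable def col6_s_4_8 (c : Nat) : Nat := @Bool.rec (fun _ => Nat) (col6_s_4_6 c) (col6_s_6_8 c) (Nat.ble 6 c)
noncomputable def col6_s_0_8 (c : Nat) : Nat := @Bool.rec (fun _ => Nat) (col6_s_0_4 c) (col6_s_4_8 c) (Nat.ble 4 c)
noncomputable def col6 (i : Nat) : Nat := rdw 15 32767 (col6_s_0_8 (Nat.shiftRight i 12)) (Nat.land i 4095)
noncomputable def col7_s_0_2 (c : Nat) : Nat := @Bool.rec (fun _ => Nat) (col7_0) (col7_1) (Nat.ble 1 c)
noncomputable def col7_s_2_4 (c : Nat) : Nat := @Bool.rec (fun _ => Nat) (col7_2) (col7_3) (Nat.ble 3 c)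
noncomputable def col7_s_0_4 (c : Nat) : Nat := @Bool.rec (fun _ => Nat) (col7_s_0_2 c) (col7_s_2_4 c) (Nat.ble 2 c)
noncomputable def col7_s_4_6 (c : Nat) : Nat := @Bool.rec (fun _ => Nat) (col7_4) (col7_5) (Nat.ble 5 c)
noncomputable def col7_s_6_8 (c : Nat) : Nat := @Bool.rec (fun _ => Nat) (col7_6) (col7_7) (Nat.ble 7 c)
noncomputable def col7_s_4_8 (c : Nat) : Nat := @Bool.rec (fun _ => Nat) (col7_s_4_6 c) (col7_s_6_8 c) (Nat.ble 6 c)
noncomputable def col7_s_0_8 (c : Nat) : Nat := @Bool.rec (fun _ => Nat) (col7_s_0_4 c) (col7_s_4_8 c) (Nat.ble 4 c)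
noncomputable def col7 (i : Nat) : Nat := rdw 15 32767 (col7_s_0_8 (Nat.shiftRight i 12)) (Nat.land i 4095)
noncomputable def col8_s_0_2 (c : Nat) : Nat := @Bool.rec (fun _ => Nat) (col8_0) (col8_1) (Nat.ble 1 c)
noncomputable def col8_s_2_4 (c : Nat) : Nat := @Bool.rec (fun _ => Nat) (col8_2) (col8_3) (Nat.ble 3 c)
noncomputable def col8_s_0_4 (c : Nat) : Nat := @Bool.rec (fun _ => Nat) (col8_s_0_2 c) (col8_s_2_4 c) (Nat.ble 2 c)
noncomputable def col8_s_4_6 (c : Nat) : Nat := @Bool.rec (fun _ => Nat) (col8_4) (col8_5) (Nat.ble 5 c)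
noncomputable def col8_s_6_8 (c : Nat) : Nat := @Bool.rec (fun _ => Nat) (col8_6) (col8_7) (Nat.ble 7 c)
noncomputable def col8_s_4_8 (c : Nat) : Nat := @Bool.rec (fun _ => Nat) (col8_s_4_6 c) (col8_s_6_8 c) (Nat.ble 6 c)
noncomputable def col8_s_0_8 (c : Nat) : Nat := @Bool.rec (fun _ => Nat) (col8_s_0_4 c) (col8_s_4_8 c) (Nat.ble 4 c)
noncomputable def col8 (i : Nat) : Nat := rdw 15 32767 (col8_s_0_8 (Nat.shiftRight i 12)) (Nat.land i 4095)
noncomputable def col9_s_0_2 (c : Nat) : Nat := @Bool.rec (fun _ => Nat) (col9_0) (col9_1) (Nat.ble 1 c)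
noncomputable def col9_s_2_4 (c : Nat) : Nat := @Bool.rec (fun _ => Nat) (col9_2) (col9_3) (Nat.ble 3 c)
noncomputable def col9_s_0_4 (c : Nat) : Nat := @Bool.rec (fun _ => Nat) (col9_s_0_2 c) (col9_s_2_4 c) (Nat.ble 2 c)
noncomputable def col9_s_4_6 (c : Nat) : Nat := @Bool.rec (fun _ => Nat) (col9_4) (col9_5) (Nat.ble 5 c)
noncomputable def col9_s_6_8 (c : Nat) : Nat := @Bool.rec (fun _ => Nat) (col9_6) (col9_7) (Nat.ble 7 c)
noncomputable def col9_s_4_8 (c : Nat) : Nat := @Bool.rec (fun _ => Nat) (col9_s_4_6 c) (col9_s_6_8 c) (Nat.ble 6 c)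
noncomputable def col9_s_0_8 (c : Nat) : Nat := @Bool.rec (fun _ => Nat) (col9_s_0_4 c) (col9_s_4_8 c) (Nat.ble 4 c)
noncomputable def col9 (i : Nat) : Nat := rdw 15 32767 (col9_s_0_8 (Nat.shiftRight i 12)) (Nat.land i 4095)
noncomputable def finTab_s_0_2 (c : Nat) : Nat := @Bool.rec (fun _ => Nat) (finTab_0) (finTab_1) (Nat.ble 1 c)
noncomputable def finTab_s_2_4 (c : Nat) : Nat := @Bool.rec (fun _ => Nat) (finTab_2) (finTab_3) (Nat.ble 3 c)
noncomputable def finTab_s_0_4 (c : Nat) : Nat := @Bool.rec (fun _ => Nat) (finTab_s_0_2 c) (finTab_s_2_4 c) (Nat.ble 2 c)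
noncomputable def finTab_s_4_6 (c : Nat) : Nat := @Bool.rec (fun _ => Nat) (finTab_4) (finTab_5) (Nat.ble 5 c)
noncomputable def finTab_s_7_9 (c : Nat) : Nat := @Bool.rec (fun _ => Nat) (finTab_7) (finTab_8) (Nat.ble 8 c)
noncomputable def finTab_s_6_9 (c : Nat) : Nat := @Bool.rec (fun _ => Nat) (finTab_6) (finTab_s_7_9 c) (Nat.ble 7 c)
noncomputable def finTab_s_4_9 (c : Nat) : Nat := @Bool.rec (fun _ => Nat) (finTab_s_4_6 c) (finTab_s_6_9 c) (Nat.ble 6 c)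
noncomputable def finTab_s_0_9 (c : Nat) : Nat := @Bool.rec (fun _ => Nat) (finTab_s_0_4 c) (finTab_s_4_9 c) (Nat.ble 4 c)
noncomputable def finTab_s_9_11 (c : Nat) : Nat := @Bool.rec (fun _ => Nat) (finTab_9) (finTab_10) (Nat.ble 10 c)
noncomputable def finTab_s_12_14 (c : Nat) : Nat := @Bool.rec (fun _ => Nat) (finTab_12) (finTab_13) (Nat.ble 13 c)
noncomputable def finTab_s_11_14 (c : Nat) : Nat := @Bool.rec (fun _ => Nat) (finTab_11) (finTab_s_12_14 c) (Nat.ble 12 c)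
noncomputable def finTab_s_9_14 (c : Nat) : Nat := @Bool.rec (fun _ => Nat) (finTab_s_9_11 c) (finTab_s_11_14 c) (Nat.ble 11 c)
noncomputable def finTab_s_14_16 (c : Nat) : Nat := @Bool.rec (fun _ => Nat) (finTab_14) (finTab_15) (Nat.ble 15 c)
noncomputable def finTab_s_17_19 (c : Nat) : Nat := @Bool.rec (fun _ => Nat) (finTab_17) (finTab_18) (Nat.ble 18 c)
noncomputable def finTab_s_16_19 (c : Nat) : Nat := @Bool.rec (fun _ => Nat) (finTab_16) (finTab_s_17_19 c) (Nat.ble 17 c)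
noncomputable def finTab_s_14_19 (c : Nat) : Nat := @Bool.rec (fun _ => Nat) (finTab_s_14_16 c) (finTab_s_16_19 c) (Nat.ble 16 c)
noncomputable def finTab_s_9_19 (c : Nat) : Nat := @Bool.rec (fun _ => Nat) (finTab_s_9_14 c) (finTab_s_14_19 c) (Nat.ble 14 c)
noncomputable def finTab_s_0_19 (c : Nat) : Nat := @Bool.rec (fun _ => Nat) (finTab_s_0_9 c) (finTab_s_9_19 c) (Nat.ble 9 c)
noncomputable def finTab_s_19_21 (c : Nat) : Nat := @Bool.rec (fun _ => Nat) (finTab_19) (finTab_20) (Nat.ble 20 c)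
noncomputable def finTab_s_22_24 (c : Nat) : Nat := @Bool.rec (fun _ => Nat) (finTab_22) (finTab_23) (Nat.ble 23 c)
noncomputable def finTab_s_21_24 (c : Nat) : Nat := @Bool.rec (fun _ => Nat) (finTab_21) (finTab_s_22_24 c) (Nat.ble 22 c)
noncomputable def finTab_s_19_24 (c : Nat) : Nat := @Bool.rec (fun _ => Nat) (finTab_s_19_21 c) (finTab_s_21_24 c) (Nat.ble 21 c)
noncomputable def finTab_s_24_26 (c : Nat) : Nat := @Bool.rec (fun _ => Nat) (finTab_24) (finTab_25) (Nat.ble 25 c)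
noncomputable def finTab_s_27_29 (c : Nat) : Nat := @Bool.rec (fun _ => Nat) (finTab_27) (finTab_28) (Nat.ble 28 c)
noncomputable def finTab_s_26_29 (c : Nat) : Nat := @Bool.rec (fun _ => Nat) (finTab_26) (finTab_s_27_29 c) (Nat.ble 27 c)
noncomputable def finTab_s_24_29 (c : Nat) : Nat := @Bool.rec (fun _ => Nat) (finTab_s_24_26 c) (finTab_s_26_29 c) (Nat.ble 26 c)
noncomputable def finTab_s_19_29 (c : Nat) : Nat := @Bool.rec (fun _ => Nat) (finTab_s_19_24 c) (finTab_s_24_29 c) (Nat.ble 24 c)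
noncomputable def finTab_s_29_31 (c : Nat) : Nat := @Bool.rec (fun _ => Nat) (finTab_29) (finTab_30) (Nat.ble 30 c)
noncomputable def finTab_s_32_34 (c : Nat) : Nat := @Bool.rec (fun _ => Nat) (finTab_32) (finTab_33) (Nat.ble 33 c)
noncomputable def finTab_s_31_34 (c : Nat) : Nat := @Bool.rec (fun _ => Nat) (finTab_31) (finTab_s_32_34 c) (Nat.ble 32 c)
noncomputable def finTab_s_29_34 (c : Nat) : Nat := @Bool.rec (fun _ => Nat) (finTab_s_29_31 c) (finTab_s_31_34 c) (Nat.ble 31 c)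
noncomputable def finTab_s_34_36 (c : Nat) : Nat := @Bool.rec (fun _ => Nat) (finTab_34) (finTab_35) (Nat.ble 35 c)
noncomputable def finTab_s_37_39 (c : Nat) : Nat := @Bool.rec (fun _ => Nat) (finTab_37) (finTab_38) (Nat.ble 38 c)
noncomputable def finTab_s_36_39 (c : Nat) : Nat := @Bool.rec (fun _ => Nat) (finTab_36) (finTab_s_37_39 c) (Nat.ble 37 c)
noncomputable def finTab_s_34_39 (c : Nat) : Nat := @Bool.rec (fun _ => Nat) (finTab_s_34_36 c) (finTab_s_36_39 c) (Nat.ble 36 c)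
noncomputable def finTab_s_29_39 (c : Nat) : Nat := @Bool.rec (fun _ => Nat) (finTab_s_29_34 c) (finTab_s_34_39 c) (Nat.ble 34 c)
noncomputable def finTab_s_19_39 (c : Nat) : Nat := @Bool.rec (fun _ => Nat) (finTab_s_19_29 c) (finTab_s_29_39 c) (Nat.ble 29 c)
noncomputable def finTab_s_0_39 (c : Nat) : Nat := @Bool.rec (fun _ => Nat) (finTab_s_0_19 c) (finTab_s_19_39 c) (Nat.ble 19 c)
noncomputable def finTab_s_39_41 (c : Nat) : Nat := @Bool.rec (fun _ => Nat) (finTab_39) (finTab_40) (Nat.ble 40 c)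
noncomputable def finTab_s_41_43 (c : Nat) : Nat := @Bool.rec (fun _ => Nat) (finTab_41) (finTab_42) (Nat.ble 42 c)
noncomputable def finTab_s_39_43 (c : Nat) : Nat := @Bool.rec (fun _ => Nat) (finTab_s_39_41 c) (finTab_s_41_43 c) (Nat.ble 41 c)
noncomputable def finTab_s_43_45 (c : Nat) : Nat := @Bool.rec (fun _ => Nat) (finTab_43) (finTab_44) (Nat.ble 44 c)
noncomputable def finTab_s_46_48 (c : Nat) : Nat := @Bool.rec (fun _ => Nat) (finTab_46) (finTab_47) (Nat.ble 47 c)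
noncomputable def finTab_s_45_48 (c : Nat) : Nat := @Bool.rec (fun _ => Nat) (finTab_45) (finTab_s_46_48 c) (Nat.ble 46 c)
noncomputable def finTab_s_43_48 (c : Nat) : Nat := @Bool.rec (fun _ => Nat) (finTab_s_43_45 c) (finTab_s_45_48 c) (Nat.ble 45 c)
noncomputable def finTab_s_39_48 (c : Nat) : Nat := @Bool.rec (fun _ => Nat) (finTab_s_39_43 c) (finTab_s_43_48 c) (Nat.ble 43 c)
noncomputable def finTab_s_48_50 (c : Nat) : Nat := @Bool.rec (fun _ => Nat) (finTab_48) (finTab_49) (Nat.ble 49 c)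
noncomputable def finTab_s_51_53 (c : Nat) : Nat := @Bool.rec (fun _ => Nat) (finTab_51) (finTab_52) (Nat.ble 52 c)
noncomputable def finTab_s_50_53 (c : Nat) : Nat := @Bool.rec (fun _ => Nat) (finTab_50) (finTab_s_51_53 c) (Nat.ble 51 c)
noncomputable def finTab_s_48_53 (c : Nat) : Nat := @Bool.rec (fun _ => Nat) (finTab_s_48_50 c) (finTab_s_50_53 c) (Nat.ble 50 c)
noncomputable def finTab_s_53_55 (c : Nat) : Nat := @Bool.rec (fun _ => Nat) (finTab_53) (finTab_54) (Nat.ble 54 c)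
noncomputable def finTab_s_56_58 (c : Nat) : Nat := @Bool.rec (fun _ => Nat) (finTab_56) (finTab_57) (Nat.ble 57 c)
noncomputable def finTab_s_55_58 (c : Nat) : Nat := @Bool.rec (fun _ => Nat) (finTab_55) (finTab_s_56_58 c) (Nat.ble 56 c)
noncomputable def finTab_s_53_58 (c : Nat) : Nat := @Bool.rec (fun _ => Nat) (finTab_s_53_55 c) (finTab_s_55_58 c) (Nat.ble 55 c)
noncomputable def finTab_s_48_58 (c : Nat) : Nat := @Bool.rec (fun _ => Nat) (finTab_s_48_53 c) (finTab_s_53_58 c) (Nat.ble 53 c)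
noncomputable def finTab_s_39_58 (c : Nat) : Nat := @Bool.rec (fun _ => Nat) (finTab_s_39_48 c) (finTab_s_48_58 c) (Nat.ble 48 c)
noncomputable def finTab_s_58_60 (c : Nat) : Nat := @Bool.rec (fun _ => Nat) (finTab_58) (finTab_59) (Nat.ble 59 c)
noncomputable def finTab_s_61_63 (c : Nat) : Nat := @Bool.rec (fun _ => Nat) (finTab_61) (finTab_62) (Nat.ble 62 c)
noncomputable def finTab_s_60_63 (c : Nat) : Nat := @Bool.rec (fun _ => Nat) (finTab_60) (finTab_s_61_63 c) (Nat.ble 61 c)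
noncomputable def finTab_s_58_63 (c : Nat) : Nat := @Bool.rec (fun _ => Nat) (finTab_s_58_60 c) (finTab_s_60_63 c) (Nat.ble 60 c)
noncomputable def finTab_s_63_65 (c : Nat) : Nat := @Bool.rec (fun _ => Nat) (finTab_63) (finTab_64) (Nat.ble 64 c)
noncomputable def finTab_s_66_68 (c : Nat) : Nat := @Bool.rec (fun _ => Nat) (finTab_66) (finTab_67) (Nat.ble 67 c)
noncomputable def finTab_s_65_68 (c : Nat) : Nat := @Bool.rec (fun _ => Nat) (finTab_65) (finTab_s_66_68 c) (Nat.ble 66 c)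
noncomputable def finTab_s_63_68 (c : Nat) : Nat := @Bool.rec (fun _ => Nat) (finTab_s_63_65 c) (finTab_s_65_68 c) (Nat.ble 65 c)
noncomputable def finTab_s_58_68 (c : Nat) : Nat := @Bool.rec (fun _ => Nat) (finTab_s_58_63 c) (finTab_s_63_68 c) (Nat.ble 63 c)
noncomputable def finTab_s_68_70 (c : Nat) : Nat := @Bool.rec (fun _ => Nat) (finTab_68) (finTab_69) (Nat.ble 69 c)
noncomputable def finTab_s_71_73 (c : Nat) : Nat := @Bool.rec (fun _ => Nat) (finTab_71) (finTab_72) (Nat.ble 72 c)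
noncomputable def finTab_s_70_73 (c : Nat) : Nat := @Bool.rec (fun _ => Nat) (finTab_70) (finTab_s_71_73 c) (Nat.ble 71 c)
noncomputable def finTab_s_68_73 (c : Nat) : Nat := @Bool.rec (fun _ => Nat) (finTab_s_68_70 c) (finTab_s_70_73 c) (Nat.ble 70 c)
noncomputable def finTab_s_73_75 (c : Nat) : Nat := @Bool.rec (fun _ => Nat) (finTab_73) (finTab_74) (Nat.ble 74 c)
noncomputable def finTab_s_76_78 (c : Nat) : Nat := @Bool.rec (fun _ => Nat) (finTab_76) (finTab_77) (Nat.ble 77 c)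
noncomputable def finTab_s_75_78 (c : Nat) : Nat := @Bool.rec (fun _ => Nat) (finTab_75) (finTab_s_76_78 c) (Nat.ble 76 c)
noncomputable def finTab_s_73_78 (c : Nat) : Nat := @Bool.rec (fun _ => Nat) (finTab_s_73_75 c) (finTab_s_75_78 c) (Nat.ble 75 c)
noncomputable def finTab_s_68_78 (c : Nat) : Nat := @Bool.rec (fun _ => Nat) (finTab_s_68_73 c) (finTab_s_73_78 c) (Nat.ble 73 c)
noncomputable def finTab_s_58_78 (c : Nat) : Nat := @Bool.rec (fun _ => Nat) (finTab_s_58_68 c) (finTab_s_68_78 c) (Nat.ble 68 c)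
noncomputable def finTab_s_39_78 (c : Nat) : Nat := @Bool.rec (fun _ => Nat) (finTab_s_39_58 c) (finTab_s_58_78 c) (Nat.ble 58 c)
noncomputable def finTab_s_0_78 (c : Nat) : Nat := @Bool.rec (fun _ => Nat) (finTab_s_0_39 c) (finTab_s_39_78 c) (Nat.ble 39 c)
noncomputable def finTab (i : Nat) : Nat := rdw 19 524287 (finTab_s_0_78 (Nat.shiftRight i 12)) (Nat.land i 4095)
noncomputable def clsTab_s_0_2 (c : Nat) : Nat := @Bool.rec (fun _ => Nat) (clsTab_0) (clsTab_1) (Nat.ble 1 c)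
noncomputable def clsTab_s_3_5 (c : Nat) : Nat := @Bool.rec (fun _ => Nat) (clsTab_3) (clsTab_4) (Nat.ble 4 c)
noncomputable def clsTab_s_2_5 (c : Nat) : Nat := @Bool.rec (fun _ => Nat) (clsTab_2) (clsTab_s_3_5 c) (Nat.ble 3 c)
noncomputable def clsTab_s_0_5 (c : Nat) : Nat := @Bool.rec (fun _ => Nat) (clsTab_s_0_2 c) (clsTab_s_2_5 c) (Nat.ble 2 c)
noncomputable def clsTab_s_6_8 (c : Nat) : Nat := @Bool.rec (fun _ => Nat) (clsTab_6) (clsTab_7) (Nat.ble 7 c)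
noncomputable def clsTab_s_5_8 (c : Nat) : Nat := @Bool.rec (fun _ => Nat) (clsTab_5) (clsTab_s_6_8 c) (Nat.ble 6 c)
noncomputable def clsTab_s_9_11 (c : Nat) : Nat := @Bool.rec (fun _ => Nat) (clsTab_9) (clsTab_10) (Nat.ble 10 c)
noncomputable def clsTab_s_8_11 (c : Nat) : Nat := @Bool.rec (fun _ => Nat) (clsTab_8) (clsTab_s_9_11 c) (Nat.ble 9 c)
noncomputable def clsTab_s_5_11 (c : Nat) : Nat := @Bool.rec (fun _ => Nat) (clsTab_s_5_8 c) (clsTab_s_8_11 c) (Nat.ble 8 c)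
noncomputable def clsTab_s_0_11 (c : Nat) : Nat := @Bool.rec (fun _ => Nat) (clsTab_s_0_5 c) (clsTab_s_5_11 c) (Nat.ble 5 c)
noncomputable def clsTab (i : Nat) : Nat := rdw 15 32767 (clsTab_s_0_11 (Nat.shiftRight i 12)) (Nat.land i 4095)
noncomputable def oparTab_s_0_2 (c : Nat) : Nat := @Bool.rec (fun _ => Nat) (oparTab_0) (oparTab_1) (Nat.ble 1 c)
noncomputable def oparTab_s_2_4 (c : Nat) : Nat := @Bool.rec (fun _ => Nat) (oparTab_2) (oparTab_3) (Nat.ble 3 c)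
noncomputable def oparTab_s_0_4 (c : Nat) : Nat := @Bool.rec (fun _ => Nat) (oparTab_s_0_2 c) (oparTab_s_2_4 c) (Nat.ble 2 c)
noncomputable def oparTab_s_4_6 (c : Nat) : Nat := @Bool.rec (fun _ => Nat) (oparTab_4) (oparTab_5) (Nat.ble 5 c)
noncomputable def oparTab_s_6_8 (c : Nat) : Nat := @Bool.rec (fun _ => Nat) (oparTab_6) (oparTab_7) (Nat.ble 7 c)
noncomputable def oparTab_s_4_8 (c : Nat) : Nat := @Bool.rec (fun _ => Nat) (oparTab_s_4_6 c) (oparTab_s_6_8 c) (Nat.ble 6 c)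
noncomputable def oparTab_s_0_8 (c : Nat) : Nat := @Bool.rec (fun _ => Nat) (oparTab_s_0_4 c) (oparTab_s_4_8 c) (Nat.ble 4 c)
noncomputable def oparTab (i : Nat) : Nat := rdw 15 32767 (oparTab_s_0_8 (Nat.shiftRight i 12)) (Nat.land i 4095)
noncomputable def olabTab_s_0_2 (c : Nat) : Nat := @Bool.rec (fun _ => Nat) (olabTab_0) (olabTab_1) (Nat.ble 1 c)
noncomputable def olabTab (i : Nat) : Nat := rdw 4 15 (olabTab_s_0_2 (Nat.shiftRight i 14)) (Nat.land i 16383)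
noncomputable def srcF (t : Nat) : Nat := Nat.land (Atab t) 65535
noncomputable def tgtF (t : Nat) : Nat := Nat.land (Nat.shiftRight (Atab t) 16) 65535
noncomputable def ltF (t : Nat) : Nat := Nat.shiftRight (Atab t) 32
noncomputable def rhoF (t : Nat) : Nat := Nat.land (Btab (Nat.sub t 41963)) 255
noncomputable def rotF (t : Nat) : Nat := Nat.land (Nat.shiftRight (Btab (Nat.sub t 41963)) 8) 127
noncomputable def lenF (t : Nat) : Nat := Nat.land (Nat.shiftRight (Btab (Nat.sub t 41963)) 15) 127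
noncomputable def offF (t : Nat) : Nat := Nat.shiftRight (Btab (Nat.sub t 41963)) 22
noncomputable def pfF (j : Nat) : Nat := Nat.shiftRight (Ptab j) 1
noncomputable def pdF (j : Nat) : Nat := Nat.land (Ptab j) 1
noncomputable def tblF (i x : Nat) : Nat := @Bool.rec (fun _ => Nat) (@Bool.rec (fun _ => Nat) (@Bool.rec (fun _ => Nat) (col0 i) (col1 i) (Nat.ble 1 x)) (@Bool.rec (fun _ => Nat) (col2 i) (@Bool.rec (fun _ => Nat) (col3 i) (col4 i) (Nat.ble 4 x)) (Nat.ble 3 x)) (Nat.ble 2 x)) (@Bool.rec (fun _ => Nat) (@Bool.rec (fun _ => Nat) (col5 i) (col6 i) (Nat.ble 6 x)) (@Bool.rec (fun _ => Nat) (col7 i) (@Bool.rec (fun _ => Nat) (col8 i) (col9 i) (Nat.ble 9 x)) (Nat.ble 8 x)) (Nat.ble 7 x)) (Nat.ble 5 x)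
noncomputable def finE (i x : Nat) : Nat := finTab (Nat.add (Nat.mul i 10) x)
noncomputable def finFF (i x : Nat) : Nat := Nat.shiftRight (finE i x) 1
noncomputable def finDF (i x : Nat) : Nat := Nat.land (finE i x) 1

noncomputable def D : Log :=
  { k := 10, inv := invE 10 PFi23.invR, nR := 152, rBase := rBtab, rLen := rLtab, RR := RRtab,
    M := 41945, nB := 18, F := 214705, src := srcF, lt := ltF, tgt := tgtF, rho := rhoF, rot := rotF,
    off := offF, len := lenF, pf := pfF, pd := pdF }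

noncomputable def T : Tab :=
  { N := 31671, nameOf := nameTab, tbl := tblF, finF := finFF, finD := finDF, cls := clsTab }

def subs : List (List Nat) := [
  [0],
  [1],
  [2],
  [3],
  [4],
  [5],
  [6],
  [8],
  [9] ]

def rw0 : List Nat := [0, 0]
def rw1 : List Nat := [0, 1, 0, 1, 0, 1]
def rw2 : List Nat := [0, 2, 0, 2]
def rw3 : List Nat := [0, 3, 0, 3]
def rw4 : List Nat := [0, 4, 0, 4]
def rw5 : List Nat := [0, 8, 0, 8]
def rw6 : List Nat := [0, 5, 0, 5]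
def rw7 : List Nat := [0, 6, 0, 6]
def rw8 : List Nat := [0, 7, 0, 7]
def rw9 : List Nat := [0, 9, 0, 9]
def rw10 : List Nat := [1, 1]
def rw11 : List Nat := [1, 2, 1, 2, 1, 2]
def rw12 : List Nat := [1, 3, 1, 3]
def rw13 : List Nat := [1, 4, 1, 4]
def rw14 : List Nat := [1, 8, 1, 8]
def rw15 : List Nat := [1, 5, 1, 5]
def rw16 : List Nat := [1, 6, 1, 6]
def rw17 : List Nat := [1, 7, 1, 7]
def rw18 : List Nat := [1, 9, 1, 9]
def rw19 : List Nat := [2, 2]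
def rw20 : List Nat := [2, 3, 2, 3, 2, 3]
def rw21 : List Nat := [2, 4, 2, 4]
def rw22 : List Nat := [2, 8, 2, 8]
def rw23 : List Nat := [2, 5, 2, 5]
def rw24 : List Nat := [2, 6, 2, 6]
def rw25 : List Nat := [2, 7, 2, 7]
def rw26 : List Nat := [2, 9, 2, 9]
def rw27 : List Nat := [3, 3]
def rw28 : List Nat := [3, 4, 3, 4, 3, 4]
def rw29 : List Nat := [3, 8, 3, 8, 3, 8]
def rw30 : List Nat := [3, 5, 3, 5]
def rw31 : List Nat := [3, 6, 3, 6]
def rw32 : List Nat := [3, 7, 3, 7]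
def rw33 : List Nat := [3, 9, 3, 9]
def rw34 : List Nat := [4, 4]
def rw35 : List Nat := [4, 8, 4, 8]
def rw36 : List Nat := [4, 5, 4, 5, 4, 5]
def rw37 : List Nat := [4, 6, 4, 6]
def rw38 : List Nat := [4, 7, 4, 7]
def rw39 : List Nat := [4, 9, 4, 9]
def rw40 : List Nat := [8, 8]
def rw41 : List Nat := [8, 5, 8, 5]
def rw42 : List Nat := [8, 6, 8, 6]
def rw43 : List Nat := [8, 7, 8, 7]
def rw44 : List Nat := [8, 9, 8, 9, 8, 9]
def rw45 : List Nat := [5, 5]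
def rw46 : List Nat := [5, 6, 5, 6, 5, 6]
def rw47 : List Nat := [5, 7, 5, 7]
def rw48 : List Nat := [5, 9, 5, 9]
def rw49 : List Nat := [6, 6]
def rw50 : List Nat := [6, 7, 6, 7, 6, 7]
def rw51 : List Nat := [6, 9, 6, 9]
def rw52 : List Nat := [7, 7]
def rw53 : List Nat := [7, 9, 7, 9]
def rw54 : List Nat := [9, 9]
def rw55 : List Nat := [3, 2, 1, 3, 4, 5, 3, 8, 9, 3, 2, 1, 3, 4, 5, 3, 8, 9, 3, 2, 1, 3, 4, 5, 3, 8, 9, 3, 2, 1, 3, 4, 5, 3, 8, 9, 3, 2, 1, 3, 4, 5, 3, 8, 9, 3, 2, 1, 3, 4, 5, 3, 8, 9, 3, 2, 1, 3, 4, 5, 3, 8, 9, 3, 2, 1, 3, 4, 5, 3, 8, 9, 3, 2, 1, 3, 4, 5, 3, 8, 9, 3, 2, 1, 3, 4, 5, 3, 8, 9]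
def rw56 : List Nat := [0, 1, 2, 3, 4, 5, 8, 0, 1, 2, 3, 4, 5, 8, 0, 1, 2, 3, 4, 5, 8, 0, 1, 2, 3, 4, 5, 8, 0, 1, 2, 3, 4, 5, 8, 0, 1, 2, 3, 4, 5, 8, 0, 1, 2, 3, 4, 5, 8, 0, 1, 2, 3, 4, 5, 8, 0, 1, 2, 3, 4, 5, 8]
def realLit : List (List Nat) := [rw0, rw1, rw2, rw3, rw4, rw5, rw6, rw7, rw8, rw9, rw10, rw11, rw12, rw13, rw14, rw15, rw16, rw17, rw18, rw19, rw20, rw21, rw22, rw23, rw24, rw25, rw26, rw27, rw28, rw29, rw30, rw31, rw32, rw33, rw34, rw35, rw36, rw37, rw38, rw39, rw40, rw41, rw42, rw43, rw44, rw45, rw46, rw47, rw48, rw49, rw50, rw51, rw52, rw53, rw54, rw55, rw56]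
noncomputable def actR0 (i : Nat) : Nat := col0 (col0 (i))
theorem actR0_eq (i : Nat) : actR0 i = Tab.act T D rw0 i := rfl
noncomputable def actR1 (i : Nat) : Nat := col0 (col1 (col0 (col1 (col0 (col1 (i))))))
theorem actR1_eq (i : Nat) : actR1 i = Tab.act T D rw1 i := rfl
noncomputable def actR2 (i : Nat) : Nat := col0 (col2 (col0 (col2 (i))))
theorem actR2_eq (i : Nat) : actR2 i = Tab.act T D rw2 i := rfl
noncomputable def actR3 (i : Nat) : Nat := col0 (col3 (col0 (col3 (i))))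
theorem actR3_eq (i : Nat) : actR3 i = Tab.act T D rw3 i := rfl
noncomputable def actR4 (i : Nat) : Nat := col0 (col4 (col0 (col4 (i))))
theorem actR4_eq (i : Nat) : actR4 i = Tab.act T D rw4 i := rfl
noncomputable def actR5 (i : Nat) : Nat := col0 (col8 (col0 (col8 (i))))
theorem actR5_eq (i : Nat) : actR5 i = Tab.act T D rw5 i := rfl
noncomputable def actR6 (i : Nat) : Nat := col0 (col5 (col0 (col5 (i))))
theorem actR6_eq (i : Nat) : actR6 i = Tab.act T D rw6 i := rfl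
noncomputable def actR7 (i : Nat) : Nat := col0 (col6 (col0 (col6 (i))))
theorem actR7_eq (i : Nat) : actR7 i = Tab.act T D rw7 i := rfl
noncomputable def actR8 (i : Nat) : Nat := col0 (col7 (col0 (col7 (i))))
theorem actR8_eq (i : Nat) : actR8 i = Tab.act T D rw8 i := rfl
noncomputable def actR9 (i : Nat) : Nat := col0 (col9 (col0 (col9 (i))))
theorem actR9_eq (i : Nat) : actR9 i = Tab.act T D rw9 i := rfl
noncomputable def actR10 (i : Nat) : Nat := col1 (col1 (i))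
theorem actR10_eq (i : Nat) : actR10 i = Tab.act T D rw10 i := rfl
noncomputable def actR11 (i : Nat) : Nat := col1 (col2 (col1 (col2 (col1 (col2 (i))))))
theorem actR11_eq (i : Nat) : actR11 i = Tab.act T D rw11 i := rfl
noncomputable def actR12 (i : Nat) : Nat := col1 (col3 (col1 (col3 (i))))
theorem actR12_eq (i : Nat) : actR12 i = Tab.act T D rw12 i := rfl
noncomputable def actR13 (i : Nat) : Nat := col1 (col4 (col1 (col4 (i))))
theorem actR13_eq (i : Nat) : actR13 i = Tab.act T D rw13 i := rfl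
noncomputable def actR14 (i : Nat) : Nat := col1 (col8 (col1 (col8 (i))))
theorem actR14_eq (i : Nat) : actR14 i = Tab.act T D rw14 i := rfl
noncomputable def actR15 (i : Nat) : Nat := col1 (col5 (col1 (col5 (i))))
theorem actR15_eq (i : Nat) : actR15 i = Tab.act T D rw15 i := rfl
noncomputable def actR16 (i : Nat) : Nat := col1 (col6 (col1 (col6 (i))))
theorem actR16_eq (i : Nat) : actR16 i = Tab.act T D rw16 i := rfl
noncomputable def actR17 (i : Nat) : Nat := col1 (col7 (col1 (col7 (i))))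
theorem actR17_eq (i : Nat) : actR17 i = Tab.act T D rw17 i := rfl
noncomputable def actR18 (i : Nat) : Nat := col1 (col9 (col1 (col9 (i))))
theorem actR18_eq (i : Nat) : actR18 i = Tab.act T D rw18 i := rfl
noncomputable def actR19 (i : Nat) : Nat := col2 (col2 (i))
theorem actR19_eq (i : Nat) : actR19 i = Tab.act T D rw19 i := rfl
noncomputable def actR20 (i : Nat) : Nat := col2 (col3 (col2 (col3 (col2 (col3 (i))))))
theorem actR20_eq (i : Nat) : actR20 i = Tab.act T D rw20 i := rfl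
noncomputable def actR21 (i : Nat) : Nat := col2 (col4 (col2 (col4 (i))))
theorem actR21_eq (i : Nat) : actR21 i = Tab.act T D rw21 i := rfl
noncomputable def actR22 (i : Nat) : Nat := col2 (col8 (col2 (col8 (i))))
theorem actR22_eq (i : Nat) : actR22 i = Tab.act T D rw22 i := rfl
noncomputable def actR23 (i : Nat) : Nat := col2 (col5 (col2 (col5 (i))))
theorem actR23_eq (i : Nat) : actR23 i = Tab.act T D rw23 i := rfl
noncomputable def actR24 (i : Nat) : Nat := col2 (col6 (col2 (col6 (i))))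
theorem actR24_eq (i : Nat) : actR24 i = Tab.act T D rw24 i := rfl
noncomputable def actR25 (i : Nat) : Nat := col2 (col7 (col2 (col7 (i))))
theorem actR25_eq (i : Nat) : actR25 i = Tab.act T D rw25 i := rfl
noncomputable def actR26 (i : Nat) : Nat := col2 (col9 (col2 (col9 (i))))
theorem actR26_eq (i : Nat) : actR26 i = Tab.act T D rw26 i := rfl
noncomputable def actR27 (i : Nat) : Nat := col3 (col3 (i))
theorem actR27_eq (i : Nat) : actR27 i = Tab.act T D rw27 i := rfl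
noncomputable def actR28 (i : Nat) : Nat := col3 (col4 (col3 (col4 (col3 (col4 (i))))))
theorem actR28_eq (i : Nat) : actR28 i = Tab.act T D rw28 i := rfl
noncomputable def actR29 (i : Nat) : Nat := col3 (col8 (col3 (col8 (col3 (col8 (i))))))
theorem actR29_eq (i : Nat) : actR29 i = Tab.act T D rw29 i := rfl
noncomputable def actR30 (i : Nat) : Nat := col3 (col5 (col3 (col5 (i))))
theorem actR30_eq (i : Nat) : actR30 i = Tab.act T D rw30 i := rfl
noncomputable def actR31 (i : Nat) : Nat := col3 (col6 (col3 (col6 (i))))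
theorem actR31_eq (i : Nat) : actR31 i = Tab.act T D rw31 i := rfl
noncomputable def actR32 (i : Nat) : Nat := col3 (col7 (col3 (col7 (i))))
theorem actR32_eq (i : Nat) : actR32 i = Tab.act T D rw32 i := rfl
noncomputable def actR33 (i : Nat) : Nat := col3 (col9 (col3 (col9 (i))))
theorem actR33_eq (i : Nat) : actR33 i = Tab.act T D rw33 i := rfl
noncomputable def actR34 (i : Nat) : Nat := col4 (col4 (i))
theorem actR34_eq (i : Nat) : actR34 i = Tab.act T D rw34 i := rfl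
noncomputable def actR35 (i : Nat) : Nat := col4 (col8 (col4 (col8 (i))))
theorem actR35_eq (i : Nat) : actR35 i = Tab.act T D rw35 i := rfl
noncomputable def actR36 (i : Nat) : Nat := col4 (col5 (col4 (col5 (col4 (col5 (i))))))
theorem actR36_eq (i : Nat) : actR36 i = Tab.act T D rw36 i := rfl
noncomputable def actR37 (i : Nat) : Nat := col4 (col6 (col4 (col6 (i))))
theorem actR37_eq (i : Nat) : actR37 i = Tab.act T D rw37 i := rfl
noncomputable def actR38 (i : Nat) : Nat := col4 (col7 (col4 (col7 (i))))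
theorem actR38_eq (i : Nat) : actR38 i = Tab.act T D rw38 i := rfl
noncomputable def actR39 (i : Nat) : Nat := col4 (col9 (col4 (col9 (i))))
theorem actR39_eq (i : Nat) : actR39 i = Tab.act T D rw39 i := rfl
noncomputable def actR40 (i : Nat) : Nat := col8 (col8 (i))
theorem actR40_eq (i : Nat) : actR40 i = Tab.act T D rw40 i := rfl
noncomputable def actR41 (i : Nat) : Nat := col8 (col5 (col8 (col5 (i))))
theorem actR41_eq (i : Nat) : actR41 i = Tab.act T D rw41 i := rfl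
noncomputable def actR42 (i : Nat) : Nat := col8 (col6 (col8 (col6 (i))))
theorem actR42_eq (i : Nat) : actR42 i = Tab.act T D rw42 i := rfl
noncomputable def actR43 (i : Nat) : Nat := col8 (col7 (col8 (col7 (i))))
theorem actR43_eq (i : Nat) : actR43 i = Tab.act T D rw43 i := rfl
noncomputable def actR44 (i : Nat) : Nat := col8 (col9 (col8 (col9 (col8 (col9 (i))))))
theorem actR44_eq (i : Nat) : actR44 i = Tab.act T D rw44 i := rfl
noncomputable def actR45 (i : Nat) : Nat := col5 (col5 (i))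
theorem actR45_eq (i : Nat) : actR45 i = Tab.act T D rw45 i := rfl
noncomputable def actR46 (i : Nat) : Nat := col5 (col6 (col5 (col6 (col5 (col6 (i))))))
theorem actR46_eq (i : Nat) : actR46 i = Tab.act T D rw46 i := rfl
noncomputable def actR47 (i : Nat) : Nat := col5 (col7 (col5 (col7 (i))))
theorem actR47_eq (i : Nat) : actR47 i = Tab.act T D rw47 i := rfl
noncomputable def actR48 (i : Nat) : Nat := col5 (col9 (col5 (col9 (i))))
theorem actR48_eq (i : Nat) : actR48 i = Tab.act T D rw48 i := rfl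
noncomputable def actR49 (i : Nat) : Nat := col6 (col6 (i))
theorem actR49_eq (i : Nat) : actR49 i = Tab.act T D rw49 i := rfl
noncomputable def actR50 (i : Nat) : Nat := col6 (col7 (col6 (col7 (col6 (col7 (i))))))
theorem actR50_eq (i : Nat) : actR50 i = Tab.act T D rw50 i := rfl
noncomputable def actR51 (i : Nat) : Nat := col6 (col9 (col6 (col9 (i))))
theorem actR51_eq (i : Nat) : actR51 i = Tab.act T D rw51 i := rfl
noncomputable def actR52 (i : Nat) : Nat := col7 (col7 (i))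
theorem actR52_eq (i : Nat) : actR52 i = Tab.act T D rw52 i := rfl
noncomputable def actR53 (i : Nat) : Nat := col7 (col9 (col7 (col9 (i))))
theorem actR53_eq (i : Nat) : actR53 i = Tab.act T D rw53 i := rfl
noncomputable def actR54 (i : Nat) : Nat := col9 (col9 (i))
theorem actR54_eq (i : Nat) : actR54 i = Tab.act T D rw54 i := rfl
noncomputable def actR55 (i : Nat) : Nat := col3 (col2 (col1 (col3 (col4 (col5 (col3 (col8 (col9 (col3 (col2 (col1 (col3 (col4 (col5 (col3 (col8 (col9 (col3 (col2 (col1 (col3 (col4 (col5 (col3 (col8 (col9 (col3 (col2 (col1 (col3 (col4 (col5 (col3 (col8 (col9 (col3 (col2 (col1 (col3 (col4 (col5 (col3 (col8 (col9 (col3 (col2 (col1 (col3 (col4 (col5 (col3 (col8 (col9 (col3 (col2 (col1 (col3 (col4 (col5 (col3 (col8 (col9 (col3 (col2 (col1 (col3 (col4 (col5 (col3 (col8 (col9 (col3 (col2 (col1 (col3 (col4 (col5 (col3 (col8 (col9 (col3 (col2 (col1 (col3 (col4 (col5 (col3 (col8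 (col9 (i))))))))))))))))))))))))))))))))))))))))))))))))))))))))))))))))))))))))))))))))))))))))))
theorem actR55_eq (i : Nat) : actR55 i = Tab.act T D rw55 i := rfl
noncomputable def actR56 (i : Nat) : Nat := col0 (col1 (col2 (col3 (col4 (col5 (col8 (col0 (col1 (col2 (col3 (col4 (col5 (col8 (col0 (col1 (col2 (col3 (col4 (col5 (col8 (col0 (col1 (col2 (col3 (col4 (col5 (col8 (col0 (col1 (col2 (col3 (col4 (col5 (col8 (col0 (col1 (col2 (col3 (col4 (col5 (col8 (col0 (col1 (col2 (col3 (col4 (col5 (col8 (col0 (col1 (col2 (col3 (col4 (col5 (col8 (col0 (col1 (col2 (col3 (col4 (col5 (col8 (i)))))))))))))))))))))))))))))))))))))))))))))))))))))))))))))))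
theorem actR56_eq (i : Nat) : actR56 i = Tab.act T D rw56 i := rfl

end Cfsg.Agent.Lib.Helper4.TCD.Fi23a
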