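import Cfsg.Agent.Lib.Helper4.TC11
import Cfsg.Agent.Lib.Helper4.TCD_Fi23a_Acc
import Cfsg.Agent.Lib.Helper4.TCD_Fi23L_D0
import Cfsg.Agent.Lib.Helper4.TCD_Fi23L_D1

namespace Cfsg.Agent.Lib.Helper4.TCD.Fi23L

open Cfsg.Agent.Lib.Helper4.TC Cfsg.Agent.Lib.Helper4.TCD.Fi23a

set_option maxRecDepth 100000

noncomputable def st10_s_0_2 (c : Nat) : Nat := @Bool.rec (fun _ => Nat) (st10_0) (st10_1) (Nat.ble 1 c)
noncomputable def st10_s_2_4 (c : Nat) : Nat := @Bool.rec (fun _ => Nat) (st10_2) (st10_3) (Nat.ble 3 c)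
noncomputable def st10_s_0_4 (c : Nat) : Nat := @Bool.rec (fun _ => Nat) (st10_s_0_2 c) (st10_s_2_4 c) (Nat.ble 2 c)
noncomputable def st10_s_4_6 (c : Nat) : Nat := @Bool.rec (fun _ => Nat) (st10_4) (st10_5) (Nat.ble 5 c)
noncomputable def st10_s_6_8 (c : Nat) : Nat := @Bool.rec (fun _ => Nat) (st10_6) (st10_7) (Nat.ble 7 c)
noncomputable def st10_s_4_8 (c : Nat) : Nat := @Bool.rec (fun _ => Nat) (st10_s_4_6 c) (st10_s_6_8 c) (Nat.ble 6 c)
noncomputable def st10_s_0_8 (c : Nat) : Nat := @Bool.rec (fun _ => Nat) (st10_s_0_4 c) (st10_s_4_8 c) (Nat.ble 4 c)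
noncomputable def st10 (i : Nat) : Nat := rdw 15 32767 (st10_s_0_8 (Nat.shiftRight i 12)) (Nat.land i 4095)
noncomputable def st11_s_0_2 (c : Nat) : Nat := @Bool.rec (fun _ => Nat) (st11_0) (st11_1) (Nat.ble 1 c)
noncomputable def st11_s_2_4 (c : Nat) : Nat := @Bool.rec (fun _ => Nat) (st11_2) (st11_3) (Nat.ble 3 c)
noncomputable def st11_s_0_4 (c : Nat) : Nat := @Bool.rec (fun _ => Nat) (st11_s_0_2 c) (st11_s_2_4 c) (Nat.ble 2 c)
noncomputable def st11_s_4_6 (c : Nat) : Nat := @Bool.rec (fun _ => Nat) (st11_4) (st11_5) (Nat.ble 5 c)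
noncomputable def st11_s_6_8 (c : Nat) : Nat := @Bool.rec (fun _ => Nat) (st11_6) (st11_7) (Nat.ble 7 c)
noncomputable def st11_s_4_8 (c : Nat) : Nat := @Bool.rec (fun _ => Nat) (st11_s_4_6 c) (st11_s_6_8 c) (Nat.ble 6 c)
noncomputable def st11_s_0_8 (c : Nat) : Nat := @Bool.rec (fun _ => Nat) (st11_s_0_4 c) (st11_s_4_8 c) (Nat.ble 4 c)
noncomputable def st11 (i : Nat) : Nat := rdw 15 32767 (st11_s_0_8 (Nat.shiftRight i 12)) (Nat.land i 4095)
noncomputable def st12_s_0_2 (c : Nat) : Nat := @Bool.rec (fun _ => Nat) (st12_0) (st12_1) (Nat.ble 1 c)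
noncomputable def st12_s_2_4 (c : Nat) : Nat := @Bool.rec (fun _ => Nat) (st12_2) (st12_3) (Nat.ble 3 c)
noncomputable def st12_s_0_4 (c : Nat) : Nat := @Bool.rec (fun _ => Nat) (st12_s_0_2 c) (st12_s_2_4 c) (Nat.ble 2 c)
noncomputable def st12_s_4_6 (c : Nat) : Nat := @Bool.rec (fun _ => Nat) (st12_4) (st12_5) (Nat.ble 5 c)
noncomputable def st12_s_6_8 (c : Nat) : Nat := @Bool.rec (fun _ => Nat) (st12_6) (st12_7) (Nat.ble 7 c)
noncomputable def st12_s_4_8 (c : Nat) : Nat := @Bool.rec (fun _ => Nat) (st12_s_4_6 c) (st12_s_6_8 c) (Nat.ble 6 c)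
noncomputable def st12_s_0_8 (c : Nat) : Nat := @Bool.rec (fun _ => Nat) (st12_s_0_4 c) (st12_s_4_8 c) (Nat.ble 4 c)
noncomputable def st12 (i : Nat) : Nat := rdw 15 32767 (st12_s_0_8 (Nat.shiftRight i 12)) (Nat.land i 4095)
noncomputable def st13_s_0_2 (c : Nat) : Nat := @Bool.rec (fun _ => Nat) (st13_0) (st13_1) (Nat.ble 1 c)
noncomputable def st13_s_2_4 (c : Nat) : Nat := @Bool.rec (fun _ => Nat) (st13_2) (st13_3) (Nat.ble 3 c)
noncomputable def st13_s_0_4 (c : Nat) : Nat := @Bool.rec (fun _ => Nat) (st13_s_0_2 c) (st13_s_2_4 c) (Nat.ble 2 c)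
noncomputable def st13_s_4_6 (c : Nat) : Nat := @Bool.rec (fun _ => Nat) (st13_4) (st13_5) (Nat.ble 5 c)
noncomputable def st13_s_6_8 (c : Nat) : Nat := @Bool.rec (fun _ => Nat) (st13_6) (st13_7) (Nat.ble 7 c)
noncomputable def st13_s_4_8 (c : Nat) : Nat := @Bool.rec (fun _ => Nat) (st13_s_4_6 c) (st13_s_6_8 c) (Nat.ble 6 c)
noncomputable def st13_s_0_8 (c : Nat) : Nat := @Bool.rec (fun _ => Nat) (st13_s_0_4 c) (st13_s_4_8 c) (Nat.ble 4 c)
noncomputable def st13 (i : Nat) : Nat := rdw 15 32767 (st13_s_0_8 (Nat.shiftRight i 12)) (Nat.land i 4095)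
noncomputable def st14_s_0_2 (c : Nat) : Nat := @Bool.rec (fun _ => Nat) (st14_0) (st14_1) (Nat.ble 1 c)
noncomputable def st14_s_2_4 (c : Nat) : Nat := @Bool.rec (fun _ => Nat) (st14_2) (st14_3) (Nat.ble 3 c)
noncomputable def st14_s_0_4 (c : Nat) : Nat := @Bool.rec (fun _ => Nat) (st14_s_0_2 c) (st14_s_2_4 c) (Nat.ble 2 c)
noncomputable def st14_s_4_6 (c : Nat) : Nat := @Bool.rec (fun _ => Nat) (st14_4) (st14_5) (Nat.ble 5 c)
noncomputable def st14_s_6_8 (c : Nat) : Nat := @Bool.rec (fun _ => Nat) (st14_6) (st14_7) (Nat.ble 7 c)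
noncomputable def st14_s_4_8 (c : Nat) : Nat := @Bool.rec (fun _ => Nat) (st14_s_4_6 c) (st14_s_6_8 c) (Nat.ble 6 c)
noncomputable def st14_s_0_8 (c : Nat) : Nat := @Bool.rec (fun _ => Nat) (st14_s_0_4 c) (st14_s_4_8 c) (Nat.ble 4 c)
noncomputable def st14 (i : Nat) : Nat := rdw 15 32767 (st14_s_0_8 (Nat.shiftRight i 12)) (Nat.land i 4095)
noncomputable def st15_s_0_2 (c : Nat) : Nat := @Bool.rec (fun _ => Nat) (st15_0) (st15_1) (Nat.ble 1 c)
noncomputable def st15_s_2_4 (c : Nat) : Nat := @Bool.rec (fun _ => Nat) (st15_2) (st15_3) (Nat.ble 3 c)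
noncomputable def st15_s_0_4 (c : Nat) : Nat := @Bool.rec (fun _ => Nat) (st15_s_0_2 c) (st15_s_2_4 c) (Nat.ble 2 c)
noncomputable def st15_s_4_6 (c : Nat) : Nat := @Bool.rec (fun _ => Nat) (st15_4) (st15_5) (Nat.ble 5 c)
noncomputable def st15_s_6_8 (c : Nat) : Nat := @Bool.rec (fun _ => Nat) (st15_6) (st15_7) (Nat.ble 7 c)
noncomputable def st15_s_4_8 (c : Nat) : Nat := @Bool.rec (fun _ => Nat) (st15_s_4_6 c) (st15_s_6_8 c) (Nat.ble 6 c)
noncomputable def st15_s_0_8 (c : Nat) : Nat := @Bool.rec (fun _ => Nat) (st15_s_0_4 c) (st15_s_4_8 c) (Nat.ble 4 c)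
noncomputable def st15 (i : Nat) : Nat := rdw 15 32767 (st15_s_0_8 (Nat.shiftRight i 12)) (Nat.land i 4095)
noncomputable def st16_s_0_2 (c : Nat) : Nat := @Bool.rec (fun _ => Nat) (st16_0) (st16_1) (Nat.ble 1 c)
noncomputable def st16_s_2_4 (c : Nat) : Nat := @Bool.rec (fun _ => Nat) (st16_2) (st16_3) (Nat.ble 3 c)
noncomputable def st16_s_0_4 (c : Nat) : Nat := @Bool.rec (fun _ => Nat) (st16_s_0_2 c) (st16_s_2_4 c) (Nat.ble 2 c)
noncomputable def st16_s_4_6 (c : Nat) : Nat := @Bool.rec (fun _ => Nat) (st16_4) (st16_5) (Nat.ble 5 c)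
noncomputable def st16_s_6_8 (c : Nat) : Nat := @Bool.rec (fun _ => Nat) (st16_6) (st16_7) (Nat.ble 7 c)
noncomputable def st16_s_4_8 (c : Nat) : Nat := @Bool.rec (fun _ => Nat) (st16_s_4_6 c) (st16_s_6_8 c) (Nat.ble 6 c)
noncomputable def st16_s_0_8 (c : Nat) : Nat := @Bool.rec (fun _ => Nat) (st16_s_0_4 c) (st16_s_4_8 c) (Nat.ble 4 c)
noncomputable def st16 (i : Nat) : Nat := rdw 15 32767 (st16_s_0_8 (Nat.shiftRight i 12)) (Nat.land i 4095)
noncomputable def st17_s_0_2 (c : Nat) : Nat := @Bool.rec (fun _ => Nat) (st17_0) (st17_1) (Nat.ble 1 c)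
noncomputable def st17_s_2_4 (c : Nat) : Nat := @Bool.rec (fun _ => Nat) (st17_2) (st17_3) (Nat.ble 3 c)
noncomputable def st17_s_0_4 (c : Nat) : Nat := @Bool.rec (fun _ => Nat) (st17_s_0_2 c) (st17_s_2_4 c) (Nat.ble 2 c)
noncomputable def st17_s_4_6 (c : Nat) : Nat := @Bool.rec (fun _ => Nat) (st17_4) (st17_5) (Nat.ble 5 c)
noncomputable def st17_s_6_8 (c : Nat) : Nat := @Bool.rec (fun _ => Nat) (st17_6) (st17_7) (Nat.ble 7 c)
noncomputable def st17_s_4_8 (c : Nat) : Nat := @Bool.rec (fun _ => Nat) (st17_s_4_6 c) (st17_s_6_8 c) (Nat.ble 6 c)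
noncomputable def st17_s_0_8 (c : Nat) : Nat := @Bool.rec (fun _ => Nat) (st17_s_0_4 c) (st17_s_4_8 c) (Nat.ble 4 c)
noncomputable def st17 (i : Nat) : Nat := rdw 15 32767 (st17_s_0_8 (Nat.shiftRight i 12)) (Nat.land i 4095)
noncomputable def st18_s_0_2 (c : Nat) : Nat := @Bool.rec (fun _ => Nat) (st18_0) (st18_1) (Nat.ble 1 c)
noncomputable def st18_s_2_4 (c : Nat) : Nat := @Bool.rec (fun _ => Nat) (st18_2) (st18_3) (Nat.ble 3 c)
noncomputable def st18_s_0_4 (c : Nat) : Nat := @Bool.rec (fun _ => Nat) (st18_s_0_2 c) (st18_s_2_4 c) (Nat.ble 2 c)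
noncomputable def st18_s_4_6 (c : Nat) : Nat := @Bool.rec (fun _ => Nat) (st18_4) (st18_5) (Nat.ble 5 c)
noncomputable def st18_s_6_8 (c : Nat) : Nat := @Bool.rec (fun _ => Nat) (st18_6) (st18_7) (Nat.ble 7 c)
noncomputable def st18_s_4_8 (c : Nat) : Nat := @Bool.rec (fun _ => Nat) (st18_s_4_6 c) (st18_s_6_8 c) (Nat.ble 6 c)
noncomputable def st18_s_0_8 (c : Nat) : Nat := @Bool.rec (fun _ => Nat) (st18_s_0_4 c) (st18_s_4_8 c) (Nat.ble 4 c)
noncomputable def st18 (i : Nat) : Nat := rdw 15 32767 (st18_s_0_8 (Nat.shiftRight i 12)) (Nat.land i 4095)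
noncomputable def st19_s_0_2 (c : Nat) : Nat := @Bool.rec (fun _ => Nat) (st19_0) (st19_1) (Nat.ble 1 c)
noncomputable def st19_s_2_4 (c : Nat) : Nat := @Bool.rec (fun _ => Nat) (st19_2) (st19_3) (Nat.ble 3 c)
noncomputable def st19_s_0_4 (c : Nat) : Nat := @Bool.rec (fun _ => Nat) (st19_s_0_2 c) (st19_s_2_4 c) (Nat.ble 2 c)
noncomputable def st19_s_4_6 (c : Nat) : Nat := @Bool.rec (fun _ => Nat) (st19_4) (st19_5) (Nat.ble 5 c)
noncomputable def st19_s_6_8 (c : Nat) : Nat := @Bool.rec (fun _ => Nat) (st19_6) (st19_7) (Nat.ble 7 c)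
noncomputable def st19_s_4_8 (c : Nat) : Nat := @Bool.rec (fun _ => Nat) (st19_s_4_6 c) (st19_s_6_8 c) (Nat.ble 6 c)
noncomputable def st19_s_0_8 (c : Nat) : Nat := @Bool.rec (fun _ => Nat) (st19_s_0_4 c) (st19_s_4_8 c) (Nat.ble 4 c)
noncomputable def st19 (i : Nat) : Nat := rdw 15 32767 (st19_s_0_8 (Nat.shiftRight i 12)) (Nat.land i 4095)
noncomputable def st20_s_0_2 (c : Nat) : Nat := @Bool.rec (fun _ => Nat) (st20_0) (st20_1) (Nat.ble 1 c)
noncomputable def st20_s_2_4 (c : Nat) : Nat := @Bool.rec (fun _ => Nat) (st20_2) (st20_3) (Nat.ble 3 c)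
noncomputable def st20_s_0_4 (c : Nat) : Nat := @Bool.rec (fun _ => Nat) (st20_s_0_2 c) (st20_s_2_4 c) (Nat.ble 2 c)
noncomputable def st20_s_4_6 (c : Nat) : Nat := @Bool.rec (fun _ => Nat) (st20_4) (st20_5) (Nat.ble 5 c)
noncomputable def st20_s_6_8 (c : Nat) : Nat := @Bool.rec (fun _ => Nat) (st20_6) (st20_7) (Nat.ble 7 c)
noncomputable def st20_s_4_8 (c : Nat) : Nat := @Bool.rec (fun _ => Nat) (st20_s_4_6 c) (st20_s_6_8 c) (Nat.ble 6 c)
noncomputable def st20_s_0_8 (c : Nat) : Nat := @Bool.rec (fun _ => Nat) (st20_s_0_4 c) (st20_s_4_8 c) (Nat.ble 4 c)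
noncomputable def st20 (i : Nat) : Nat := rdw 15 32767 (st20_s_0_8 (Nat.shiftRight i 12)) (Nat.land i 4095)
noncomputable def st21_s_0_2 (c : Nat) : Nat := @Bool.rec (fun _ => Nat) (st21_0) (st21_1) (Nat.ble 1 c)
noncomputable def st21_s_2_4 (c : Nat) : Nat := @Bool.rec (fun _ => Nat) (st21_2) (st21_3) (Nat.ble 3 c)
noncomputable def st21_s_0_4 (c : Nat) : Nat := @Bool.rec (fun _ => Nat) (st21_s_0_2 c) (st21_s_2_4 c) (Nat.ble 2 c)
noncomputable def st21_s_4_6 (c : Nat) : Nat := @Bool.rec (fun _ => Nat) (st21_4) (st21_5) (Nat.ble 5 c)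
noncomputable def st21_s_6_8 (c : Nat) : Nat := @Bool.rec (fun _ => Nat) (st21_6) (st21_7) (Nat.ble 7 c)
noncomputable def st21_s_4_8 (c : Nat) : Nat := @Bool.rec (fun _ => Nat) (st21_s_4_6 c) (st21_s_6_8 c) (Nat.ble 6 c)
noncomputable def st21_s_0_8 (c : Nat) : Nat := @Bool.rec (fun _ => Nat) (st21_s_0_4 c) (st21_s_4_8 c) (Nat.ble 4 c)
noncomputable def st21 (i : Nat) : Nat := rdw 15 32767 (st21_s_0_8 (Nat.shiftRight i 12)) (Nat.land i 4095)
noncomputable def levTab (i : Nat) : Nat := rdw 4 15 levTab_0 i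
noncomputable def betaTab (i : Nat) : Nat := rdw 15 32767 betaTab_0 i
noncomputable def nodeTab_s_1_3 (c : Nat) : Nat := @Bool.rec (fun _ => Nat) (nodeTab_1) (nodeTab_2) (Nat.ble 2 c)
noncomputable def nodeTab_s_0_3 (c : Nat) : Nat := @Bool.rec (fun _ => Nat) (nodeTab_0) (nodeTab_s_1_3 c) (Nat.ble 1 c)
noncomputable def nodeTab_s_3_5 (c : Nat) : Nat := @Bool.rec (fun _ => Nat) (nodeTab_3) (nodeTab_4) (Nat.ble 4 c)
noncomputable def nodeTab_s_5_7 (c : Nat) : Nat := @Bool.rec (fun _ => Nat) (nodeTab_5) (nodeTab_6) (Nat.ble 6 c)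
noncomputable def nodeTab_s_3_7 (c : Nat) : Nat := @Bool.rec (fun _ => Nat) (nodeTab_s_3_5 c) (nodeTab_s_5_7 c) (Nat.ble 5 c)
noncomputable def nodeTab_s_0_7 (c : Nat) : Nat := @Bool.rec (fun _ => Nat) (nodeTab_s_0_3 c) (nodeTab_s_3_7 c) (Nat.ble 3 c)
noncomputable def nodeTab_s_7_9 (c : Nat) : Nat := @Bool.rec (fun _ => Nat) (nodeTab_7) (nodeTab_8) (Nat.ble 8 c)
noncomputable def nodeTab_s_9_11 (c : Nat) : Nat := @Bool.rec (fun _ => Nat) (nodeTab_9) (nodeTab_10) (Nat.ble 10 c)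
noncomputable def nodeTab_s_7_11 (c : Nat) : Nat := @Bool.rec (fun _ => Nat) (nodeTab_s_7_9 c) (nodeTab_s_9_11 c) (Nat.ble 9 c)
noncomputable def nodeTab_s_11_13 (c : Nat) : Nat := @Bool.rec (fun _ => Nat) (nodeTab_11) (nodeTab_12) (Nat.ble 12 c)
noncomputable def nodeTab_s_13_15 (c : Nat) : Nat := @Bool.rec (fun _ => Nat) (nodeTab_13) (nodeTab_14) (Nat.ble 14 c)
noncomputable def nodeTab_s_11_15 (c : Nat) : Nat := @Bool.rec (fun _ => Nat) (nodeTab_s_11_13 c) (nodeTab_s_13_15 c) (Nat.ble 13 c)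
noncomputable def nodeTab_s_7_15 (c : Nat) : Nat := @Bool.rec (fun _ => Nat) (nodeTab_s_7_11 c) (nodeTab_s_11_15 c) (Nat.ble 11 c)
noncomputable def nodeTab_s_0_15 (c : Nat) : Nat := @Bool.rec (fun _ => Nat) (nodeTab_s_0_7 c) (nodeTab_s_7_15 c) (Nat.ble 7 c)
noncomputable def nodeTab_s_16_18 (c : Nat) : Nat := @Bool.rec (fun _ => Nat) (nodeTab_16) (nodeTab_17) (Nat.ble 17 c)
noncomputable def nodeTab_s_15_18 (c : Nat) : Nat := @Bool.rec (fun _ => Nat) (nodeTab_15) (nodeTab_s_16_18 c) (Nat.ble 16 c)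
noncomputable def nodeTab_s_18_20 (c : Nat) : Nat := @Bool.rec (fun _ => Nat) (nodeTab_18) (nodeTab_19) (Nat.ble 19 c)
noncomputable def nodeTab_s_20_22 (c : Nat) : Nat := @Bool.rec (fun _ => Nat) (nodeTab_20) (nodeTab_21) (Nat.ble 21 c)
noncomputable def nodeTab_s_18_22 (c : Nat) : Nat := @Bool.rec (fun _ => Nat) (nodeTab_s_18_20 c) (nodeTab_s_20_22 c) (Nat.ble 20 c)
noncomputable def nodeTab_s_15_22 (c : Nat) : Nat := @Bool.rec (fun _ => Nat) (nodeTab_s_15_18 c) (nodeTab_s_18_22 c) (Nat.ble 18 c)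
noncomputable def nodeTab_s_22_24 (c : Nat) : Nat := @Bool.rec (fun _ => Nat) (nodeTab_22) (nodeTab_23) (Nat.ble 23 c)
noncomputable def nodeTab_s_24_26 (c : Nat) : Nat := @Bool.rec (fun _ => Nat) (nodeTab_24) (nodeTab_25) (Nat.ble 25 c)
noncomputable def nodeTab_s_22_26 (c : Nat) : Nat := @Bool.rec (fun _ => Nat) (nodeTab_s_22_24 c) (nodeTab_s_24_26 c) (Nat.ble 24 c)
noncomputable def nodeTab_s_26_28 (c : Nat) : Nat := @Bool.rec (fun _ => Nat) (nodeTab_26) (nodeTab_27) (Nat.ble 27 c)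
noncomputable def nodeTab_s_28_30 (c : Nat) : Nat := @Bool.rec (fun _ => Nat) (nodeTab_28) (nodeTab_29) (Nat.ble 29 c)
noncomputable def nodeTab_s_26_30 (c : Nat) : Nat := @Bool.rec (fun _ => Nat) (nodeTab_s_26_28 c) (nodeTab_s_28_30 c) (Nat.ble 28 c)
noncomputable def nodeTab_s_22_30 (c : Nat) : Nat := @Bool.rec (fun _ => Nat) (nodeTab_s_22_26 c) (nodeTab_s_26_30 c) (Nat.ble 26 c)
noncomputable def nodeTab_s_15_30 (c : Nat) : Nat := @Bool.rec (fun _ => Nat) (nodeTab_s_15_22 c) (nodeTab_s_22_30 c) (Nat.ble 22 c)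
noncomputable def nodeTab_s_0_30 (c : Nat) : Nat := @Bool.rec (fun _ => Nat) (nodeTab_s_0_15 c) (nodeTab_s_15_30 c) (Nat.ble 15 c)
noncomputable def nodeTab (i : Nat) : Nat := rdw 39 549755813887 (nodeTab_s_0_30 (Nat.shiftRight i 11)) (Nat.land i 2047)
noncomputable def offTab (i : Nat) : Nat := rdw 16 65535 offTab_0 i
noncomputable def nTab (i : Nat) : Nat := rdw 15 32767 nTab_0 i
noncomputable def rootTab (i : Nat) : Nat := rdw 15 32767 rootTab_0 i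
noncomputable def tabF (i p : Nat) : Nat := @Bool.rec (fun _ => Nat) (@Bool.rec (fun _ => Nat) (@Bool.rec (fun _ => Nat) (@Bool.rec (fun _ => Nat) (col0 p) (col1 p) (Nat.ble 1 i)) (@Bool.rec (fun _ => Nat) (col2 p) (@Bool.rec (fun _ => Nat) (col3 p) (col4 p) (Nat.ble 4 i)) (Nat.ble 3 i)) (Nat.ble 2 i)) (@Bool.rec (fun _ => Nat) (@Bool.rec (fun _ => Nat) (col5 p) (@Bool.rec (fun _ => Nat) (col6 p) (col7 p) (Nat.ble 7 i)) (Nat.ble 6 i)) (@Bool.rec (fun _ => Nat) (col8 p) (@Bool.rec (fun _ => Nat) (col9 p) (st10 p) (Nat.ble 10 i)) (Nat.ble 9 i)) (Nat.ble 8 i)) (Nat.ble 5 i)) (@Bool.rec (fun _ => Nat) (@Bool.rec (fun _ => Nat) (@Bool.rec (fun _ => Nat) (st11 p) (st12 p) (Nat.ble 12 i)) (@Bool.rec (fun _ => Nat) (st13 p) (@Bool.rec (fun _ => Nat) (st14 p) (st15 p) (Nat.ble 15 i)) (Nat.ble 14 i)) (Nat.ble 13 i)) (@Bool.rec (fun _ => Nat) (@Bool.rec (fun _ => Nat) (st16 p) (@Bool.rec (fun _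 => Nat) (st17 p) (st18 p) (Nat.ble 18 i)) (Nat.ble 17 i)) (@Bool.rec (fun _ => Nat) (st19 p) (@Bool.rec (fun _ => Nat) (st20 p) (st21 p) (Nat.ble 21 i)) (Nat.ble 20 i)) (Nat.ble 19 i)) (Nat.ble 16 i)) (Nat.ble 11 i)
def wAF : Nat → List Nat
  | 10 => [5, 4, 3, 8, 9, 7, 6, 3, 4, 5, 2, 3, 4, 1, 2, 3, 8, 0, 1, 2, 3, 4, 5, 6, 7]
  | 11 => [4, 2, 3, 8, 9, 8, 0, 1, 2, 3]
  | 12 => [4, 5, 6]
  | 13 => []
  | 14 => [2, 1]
  | 15 => [2, 0, 1]
  | 16 => [8]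
  | 17 => [4, 3, 8, 9]
  | 18 => [4, 5, 3, 4, 1, 2, 3, 8, 9, 8, 4, 5, 3, 4, 2, 3, 8, 0, 1, 2, 3, 4, 5, 6, 7, 9, 8, 3, 4, 2, 3, 8, 9, 3, 8, 4, 3]
  | 19 => [1, 18, 5, 3, 0, 18, 9]
  | 20 => [9, 5, 19, 3, 18, 19, 0, 19, 7, 3, 2, 19, 8, 0, 19, 3, 8, 2, 19, 18, 8, 6, 0, 19, 6, 4, 5, 2, 0, 18]
  | 21 => [20]
  | _ => []
def wBF : Nat → List Nat
  | 10 => [1, 5, 4, 3, 8, 9, 7, 6, 3, 4, 5, 2, 3, 4, 1, 2, 3, 8, 0, 1, 2, 3, 4, 5, 6, 7]
  | 11 => [6, 4, 2, 3, 8, 9, 8, 0, 1, 2, 3]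
  | 12 => [8, 4, 5, 6]
  | 13 => [1]
  | 14 => [13, 2, 1]
  | 15 => [5, 2, 0, 1]
  | 16 => [4, 8]
  | 17 => [0, 4, 3, 8, 9]
  | 18 => [0, 8, 4, 5, 3, 4, 1, 2, 3, 8, 9, 5, 3, 4, 2, 3, 8, 0, 1, 2, 3, 4, 5, 6, 7]
  | 19 => [11, 3, 18, 4, 5, 0, 18, 8, 9]
  | 20 => [18, 9, 7, 4, 19, 8, 0, 19, 6, 7]
  | 21 => []
  | _ => []
noncomputable def ptF (j idx : Nat) : Nat := Nat.land (nodeTab (Nat.add (offTab j) idx)) 32767
noncomputable def parF (j idx : Nat) : Nat := Nat.land (Nat.shiftRight (nodeTab (Nat.add (offTab j) idx)) 15) 32767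
noncomputable def giF (j idx : Nat) : Nat := Nat.land (Nat.shiftRight (nodeTab (Nat.add (offTab j) idx)) 30) 31
noncomputable def depF (j idx : Nat) : Nat := Nat.shiftRight (nodeTab (Nat.add (offTab j) idx)) 35

noncomputable def S : Sgs :=
  { N := 31671, k := 10, m := 22, tab := tabF, wA := wAF, wB := wBF, lev := levTab, r := 9, beta := betaTab,
    n := nTab, root := rootTab, pt := ptF, par := parF, gi := giF, dep := depF }

noncomputable def chk10 (p : Nat) : Bool := band (Nat.ble (Nat.succ (st10 p)) 31671) (Nat.beq (col5 (col4 (col3 (col8 (col9 (col7 (col6 (col3 (col4 (col5 (col2 (col3 (col4 (col1 (col2 (col3 (col8 (col0 (col1 (col2 (col3 (col4 (col5 (col6 (col7 (st10 p)))))))))))))))))))))))))) (col1 (col5 (col4 (col3 (col8 (col9 (col7 (col6 (col3 (col4 (col5 (col2 (col3 (col4 (col1 (col2 (col3 (col8 (col0 (col1 (col2 (col3 (col4 (col5 (col6 (col7 p)))))))))))))))))))))))))))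
theorem chk10_eq (p : Nat) : chk10 p = Sgs.permOK S 10 p := rfl
noncomputable def chk11 (p : Nat) : Bool := band (Nat.ble (Nat.succ (st11 p)) 31671) (Nat.beq (col4 (col2 (col3 (col8 (col9 (col8 (col0 (col1 (col2 (col3 (st11 p))))))))))) (col6 (col4 (col2 (col3 (col8 (col9 (col8 (col0 (col1 (col2 (col3 p))))))))))))
theorem chk11_eq (p : Nat) : chk11 p = Sgs.permOK S 11 p := rfl
noncomputable def chk12 (p : Nat) : Bool := band (Nat.ble (Nat.succ (st12 p)) 31671) (Nat.beq (col4 (col5 (col6 (st12 p)))) (col8 (col4 (col5 (col6 p)))))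
theorem chk12_eq (p : Nat) : chk12 p = Sgs.permOK S 12 p := rfl
noncomputable def chk13 (p : Nat) : Bool := band (Nat.ble (Nat.succ (st13 p)) 31671) (Nat.beq (st13 p) (col1 p))
theorem chk13_eq (p : Nat) : chk13 p = Sgs.permOK S 13 p := rfl
noncomputable def chk14 (p : Nat) : Bool := band (Nat.ble (Nat.succ (st14 p)) 31671) (Nat.beq (col2 (col1 (st14 p))) (st13 (col2 (col1 p))))
theorem chk14_eq (p : Nat) : chk14 p = Sgs.permOK S 14 p := rfl
noncomputable def chk15 (p : Nat) : Bool := band (Nat.ble (Nat.succ (st15 p)) 31671) (Nat.beq (col2 (col0 (col1 (st15 p)))) (col5 (col2 (col0 (col1 p)))))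
theorem chk15_eq (p : Nat) : chk15 p = Sgs.permOK S 15 p := rfl
noncomputable def chk16 (p : Nat) : Bool := band (Nat.ble (Nat.succ (st16 p)) 31671) (Nat.beq (col8 (st16 p)) (col4 (col8 p)))
theorem chk16_eq (p : Nat) : chk16 p = Sgs.permOK S 16 p := rfl
noncomputable def chk17 (p : Nat) : Bool := band (Nat.ble (Nat.succ (st17 p)) 31671) (Nat.beq (col4 (col3 (col8 (col9 (st17 p))))) (col0 (col4 (col3 (col8 (col9 p))))))
theorem chk17_eq (p : Nat) : chk17 p = Sgs.permOK S 17 p := rfl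
noncomputable def chk18 (p : Nat) : Bool := band (Nat.ble (Nat.succ (st18 p)) 31671) (Nat.beq (col4 (col5 (col3 (col4 (col1 (col2 (col3 (col8 (col9 (col8 (col4 (col5 (col3 (col4 (col2 (col3 (col8 (col0 (col1 (col2 (col3 (col4 (col5 (col6 (col7 (col9 (col8 (col3 (col4 (col2 (col3 (col8 (col9 (col3 (col8 (col4 (col3 (st18 p)))))))))))))))))))))))))))))))))))))) (col0 (col8 (col4 (col5 (col3 (col4 (col1 (col2 (col3 (col8 (col9 (col5 (col3 (col4 (col2 (col3 (col8 (col0 (col1 (col2 (col3 (col4 (col5 (col6 (col7 p))))))))))))))))))))))))))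
theorem chk18_eq (p : Nat) : chk18 p = Sgs.permOK S 18 p := rfl
noncomputable def chk19 (p : Nat) : Bool := band (Nat.ble (Nat.succ (st19 p)) 31671) (Nat.beq (col1 (st18 (col5 (col3 (col0 (st18 (col9 (st19 p)))))))) (st11 (col3 (st18 (col4 (col5 (col0 (st18 (col8 (col9 p))))))))))
theorem chk19_eq (p : Nat) : chk19 p = Sgs.permOK S 19 p := rfl
noncomputable def chk20 (p : Nat) : Bool := band (Nat.ble (Nat.succ (st20 p)) 31671) (Nat.beq (col9 (col5 (st19 (col3 (st18 (st19 (col0 (st19 (col7 (col3 (col2 (st19 (col8 (col0 (st19 (col3 (col8 (col2 (st19 (st18 (col8 (col6 (col0 (st19 (col6 (col4 (col5 (col2 (col0 (st18 (st20 p))))))))))))))))))))))))))))))) (st18 (col9 (col7 (col4 (st19 (col8 (col0 (st19 (col6 (col7 p)))))))))))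
theorem chk20_eq (p : Nat) : chk20 p = Sgs.permOK S 20 p := rfl
noncomputable def chk21 (p : Nat) : Bool := band (Nat.ble (Nat.succ (st21 p)) 31671) (Nat.beq (st20 (st21 p)) p)
theorem chk21_eq (p : Nat) : chk21 p = Sgs.permOK S 21 p := rfl

end Cfsg.Agent.Lib.Helper4.TCD.Fi23L
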