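import Cfsg.Agent.Lib.Helper4.TCD_Fi23L_Acc

namespace Cfsg.Agent.Lib.Helper4.TCD.Fi23L

open Cfsg.Agent.Lib.Helper4.TC Cfsg.Agent.Lib.Helper4.TCD.Fi23a

set_option maxRecDepth 100000
set_option Elab.async false

theorem c_words : allRange S.wordsOK 10 12 = true := by decide +kernel
theorem c_fix : allGrid S.fixOK 0 22 9 = true := by decide +kernel
theorem c_root : allBelow (fun j => Nat.ble (Nat.succ (S.root j)) (S.n j)) 9 = true := by decide +kernel
theorem c_n0 : S.n 0 = 31671 := by decide +kernel
theorem c_n1 : S.n 1 = 3510 := by decide +kernel
theorem c_n2 : S.n 2 = 25344 := by decide +kernel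
theorem c_n3 : S.n 3 = 288 := by decide +kernel
theorem c_n4 : S.n 4 = 210 := by decide +kernel
theorem c_n5 : S.n 5 = 2 := by decide +kernel
theorem c_n6 : S.n 6 = 3 := by decide +kernel
theorem c_n7 : S.n 7 = 2 := by decide +kernel
theorem c_n8 : S.n 8 = 2 := by decide +kernel
theorem c_p10_0 : allRange chk10 0 1111 = true := by decide +kernel
theorem c_p10_1 : allRange chk10 1111 1111 = true := by decide +kernel
theorem c_p10_2 : allRange chk10 2222 1111 = true := by decide +kernel
theorem c_p10_3 : allRange chk10 3333 1111 = true := by decide +kernel
theorem c_p10_4 : allRange chk10 4444 1111 = true := by decide +kernel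
theorem c_p10_5 : allRange chk10 5555 1111 = true := by decide +kernel
theorem c_p10_6 : allRange chk10 6666 1111 = true := by decide +kernel
theorem c_p10_7 : allRange chk10 7777 1111 = true := by decide +kernel
theorem c_p10_8 : allRange chk10 8888 1111 = true := by decide +kernel
theorem c_p10_9 : allRange chk10 9999 1111 = true := by decide +kernel
theorem c_p10_10 : allRange chk10 11110 1111 = true := by decide +kernel
theorem c_p10_11 : allRange chk10 12221 1111 = true := by decide +kernel
theorem c_p10_12 : allRange chk10 13332 1111 = true := by decide +kernel
theorem c_p10_13 : allRange chk10 14443 1111 = true := by decide +kernel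
theorem c_p10_14 : allRange chk10 15554 1111 = true := by decide +kernel
theorem c_p10_15 : allRange chk10 16665 1111 = true := by decide +kernel
theorem c_p10_16 : allRange chk10 17776 1111 = true := by decide +kernel
theorem c_p10_17 : allRange chk10 18887 1111 = true := by decide +kernel
theorem c_p10_18 : allRange chk10 19998 1111 = true := by decide +kernel
theorem c_p10_19 : allRange chk10 21109 1111 = true := by decide +kernel
theorem c_p10_20 : allRange chk10 22220 1111 = true := by decide +kernel
theorem c_p10_21 : allRange chk10 23331 1111 = true := by decide +kernel
theorem c_p10_22 : allRange chk10 24442 1111 = true := by decide +kernel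
theorem c_p10_23 : allRange chk10 25553 1111 = true := by decide +kernel
theorem c_p10_24 : allRange chk10 26664 1111 = true := by decide +kernel
theorem c_p10_25 : allRange chk10 27775 1111 = true := by decide +kernel
theorem c_p10_26 : allRange chk10 28886 1111 = true := by decide +kernel
theorem c_p10_27 : allRange chk10 29997 1111 = true := by decide +kernel
theorem c_p10_28 : allRange chk10 31108 563 = true := by decide +kernel
theorem c_p11_0 : allRange chk11 0 2500 = true := by decide +kernel
theorem c_p11_1 : allRange chk11 2500 2500 = true := by decide +kernel
theorem c_p11_2 : allRange chk11 5000 2500 = true := by decide +kernel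
theorem c_p11_3 : allRange chk11 7500 2500 = true := by decide +kernel
theorem c_p11_4 : allRange chk11 10000 2500 = true := by decide +kernel
theorem c_p11_5 : allRange chk11 12500 2500 = true := by decide +kernel
theorem c_p11_6 : allRange chk11 15000 2500 = true := by decide +kernel
theorem c_p11_7 : allRange chk11 17500 2500 = true := by decide +kernel
theorem c_p11_8 : allRange chk11 20000 2500 = true := by decide +kernel
theorem c_p11_9 : allRange chk11 22500 2500 = true := by decide +kernel
theorem c_p11_10 : allRange chk11 25000 2500 = true := by decide +kernel
theorem c_p11_11 : allRange chk11 27500 2500 = true := by decide +kernel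
theorem c_p11_12 : allRange chk11 30000 1671 = true := by decide +kernel
theorem c_p12_0 : allRange chk12 0 6000 = true := by decide +kernel
theorem c_p12_1 : allRange chk12 6000 6000 = true := by decide +kernel
theorem c_p12_2 : allRange chk12 12000 6000 = true := by decide +kernel
theorem c_p12_3 : allRange chk12 18000 6000 = true := by decide +kernel
theorem c_p12_4 : allRange chk12 24000 6000 = true := by decide +kernel
theorem c_p12_5 : allRange chk12 30000 1671 = true := by decide +kernel
theorem c_p13_0 : allRange chk13 0 15000 = true := by decide +kernel
theorem c_p13_1 : allRange chk13 15000 15000 = true := by decide +kernel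
theorem c_p13_2 : allRange chk13 30000 1671 = true := by decide +kernel
theorem c_p14_0 : allRange chk14 0 7500 = true := by decide +kernel

end Cfsg.Agent.Lib.Helper4.TCD.Fi23L
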