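import Cfsg.Agent.Lib.Helper4.TC7
import Cfsg.Agent.Lib.Helper4.TC8
import Cfsg.Agent.Lib.Helper4.TCP_Fi23
import Cfsg.Agent.Lib.Helper4.TCD_Fi23U1_D0
import Cfsg.Agent.Lib.Helper4.TCD_Fi23U1_D1
import Cfsg.Agent.Lib.Helper4.TCD_Fi23U1_D2

namespace Cfsg.Agent.Lib.Helper4.TCD.Fi23U1

open Cfsg.Agent.Lib.Helper4.TC

set_option maxRecDepth 100000

noncomputable def Atab_s_0_2 (c : Nat) : Nat := @Bool.rec (fun _ => Nat) (Atab_0) (Atab_1) (Nat.ble 1 c)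
noncomputable def Atab_s_2_4 (c : Nat) : Nat := @Bool.rec (fun _ => Nat) (Atab_2) (Atab_3) (Nat.ble 3 c)
noncomputable def Atab_s_0_4 (c : Nat) : Nat := @Bool.rec (fun _ => Nat) (Atab_s_0_2 c) (Atab_s_2_4 c) (Nat.ble 2 c)
noncomputable def Atab_s_4_6 (c : Nat) : Nat := @Bool.rec (fun _ => Nat) (Atab_4) (Atab_5) (Nat.ble 5 c)
noncomputable def Atab_s_7_9 (c : Nat) : Nat := @Bool.rec (fun _ => Nat) (Atab_7) (Atab_8) (Nat.ble 8 c)
noncomputable def Atab_s_6_9 (c : Nat) : Nat := @Bool.rec (fun _ => Nat) (Atab_6) (Atab_s_7_9 c) (Nat.ble 7 c)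
noncomputable def Atab_s_4_9 (c : Nat) : Nat := @Bool.rec (fun _ => Nat) (Atab_s_4_6 c) (Atab_s_6_9 c) (Nat.ble 6 c)
noncomputable def Atab_s_0_9 (c : Nat) : Nat := @Bool.rec (fun _ => Nat) (Atab_s_0_4 c) (Atab_s_4_9 c) (Nat.ble 4 c)
noncomputable def Atab_s_9_11 (c : Nat) : Nat := @Bool.rec (fun _ => Nat) (Atab_9) (Atab_10) (Nat.ble 10 c)
noncomputable def Atab_s_12_14 (c : Nat) : Nat := @Bool.rec (fun _ => Nat) (Atab_12) (Atab_13) (Nat.ble 13 c)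
noncomputable def Atab_s_11_14 (c : Nat) : Nat := @Bool.rec (fun _ => Nat) (Atab_11) (Atab_s_12_14 c) (Nat.ble 12 c)
noncomputable def Atab_s_9_14 (c : Nat) : Nat := @Bool.rec (fun _ => Nat) (Atab_s_9_11 c) (Atab_s_11_14 c) (Nat.ble 11 c)
noncomputable def Atab_s_14_16 (c : Nat) : Nat := @Bool.rec (fun _ => Nat) (Atab_14) (Atab_15) (Nat.ble 15 c)
noncomputable def Atab_s_17_19 (c : Nat) : Nat := @Bool.rec (fun _ => Nat) (Atab_17) (Atab_18) (Nat.ble 18 c)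
noncomputable def Atab_s_16_19 (c : Nat) : Nat := @Bool.rec (fun _ => Nat) (Atab_16) (Atab_s_17_19 c) (Nat.ble 17 c)
noncomputable def Atab_s_14_19 (c : Nat) : Nat := @Bool.rec (fun _ => Nat) (Atab_s_14_16 c) (Atab_s_16_19 c) (Nat.ble 16 c)
noncomputable def Atab_s_9_19 (c : Nat) : Nat := @Bool.rec (fun _ => Nat) (Atab_s_9_14 c) (Atab_s_14_19 c) (Nat.ble 14 c)
noncomputable def Atab_s_0_19 (c : Nat) : Nat := @Bool.rec (fun _ => Nat) (Atab_s_0_9 c) (Atab_s_9_19 c) (Nat.ble 9 c)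
noncomputable def Atab_s_19_21 (c : Nat) : Nat := @Bool.rec (fun _ => Nat) (Atab_19) (Atab_20) (Nat.ble 20 c)
noncomputable def Atab_s_21_23 (c : Nat) : Nat := @Bool.rec (fun _ => Nat) (Atab_21) (Atab_22) (Nat.ble 22 c)
noncomputable def Atab_s_19_23 (c : Nat) : Nat := @Bool.rec (fun _ => Nat) (Atab_s_19_21 c) (Atab_s_21_23 c) (Nat.ble 21 c)
noncomputable def Atab_s_23_25 (c : Nat) : Nat := @Bool.rec (fun _ => Nat) (Atab_23) (Atab_24) (Nat.ble 24 c)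
noncomputable def Atab_s_26_28 (c : Nat) : Nat := @Bool.rec (fun _ => Nat) (Atab_26) (Atab_27) (Nat.ble 27 c)
noncomputable def Atab_s_25_28 (c : Nat) : Nat := @Bool.rec (fun _ => Nat) (Atab_25) (Atab_s_26_28 c) (Nat.ble 26 c)
noncomputable def Atab_s_23_28 (c : Nat) : Nat := @Bool.rec (fun _ => Nat) (Atab_s_23_25 c) (Atab_s_25_28 c) (Nat.ble 25 c)
noncomputable def Atab_s_19_28 (c : Nat) : Nat := @Bool.rec (fun _ => Nat) (Atab_s_19_23 c) (Atab_s_23_28 c) (Nat.ble 23 c)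
noncomputable def Atab_s_28_30 (c : Nat) : Nat := @Bool.rec (fun _ => Nat) (Atab_28) (Atab_29) (Nat.ble 29 c)
noncomputable def Atab_s_31_33 (c : Nat) : Nat := @Bool.rec (fun _ => Nat) (Atab_31) (Atab_32) (Nat.ble 32 c)
noncomputable def Atab_s_30_33 (c : Nat) : Nat := @Bool.rec (fun _ => Nat) (Atab_30) (Atab_s_31_33 c) (Nat.ble 31 c)
noncomputable def Atab_s_28_33 (c : Nat) : Nat := @Bool.rec (fun _ => Nat) (Atab_s_28_30 c) (Atab_s_30_33 c) (Nat.ble 30 c)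
noncomputable def Atab_s_33_35 (c : Nat) : Nat := @Bool.rec (fun _ => Nat) (Atab_33) (Atab_34) (Nat.ble 34 c)
noncomputable def Atab_s_36_38 (c : Nat) : Nat := @Bool.rec (fun _ => Nat) (Atab_36) (Atab_37) (Nat.ble 37 c)
noncomputable def Atab_s_35_38 (c : Nat) : Nat := @Bool.rec (fun _ => Nat) (Atab_35) (Atab_s_36_38 c) (Nat.ble 36 c)
noncomputable def Atab_s_33_38 (c : Nat) : Nat := @Bool.rec (fun _ => Nat) (Atab_s_33_35 c) (Atab_s_35_38 c) (Nat.ble 35 c)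
noncomputable def Atab_s_28_38 (c : Nat) : Nat := @Bool.rec (fun _ => Nat) (Atab_s_28_33 c) (Atab_s_33_38 c) (Nat.ble 33 c)
noncomputable def Atab_s_19_38 (c : Nat) : Nat := @Bool.rec (fun _ => Nat) (Atab_s_19_28 c) (Atab_s_28_38 c) (Nat.ble 28 c)
noncomputable def Atab_s_0_38 (c : Nat) : Nat := @Bool.rec (fun _ => Nat) (Atab_s_0_19 c) (Atab_s_19_38 c) (Nat.ble 19 c)
noncomputable def Atab (i : Nat) : Nat := rdw 33 8589934591 (Atab_s_0_38 (Nat.shiftRight i 11)) (Nat.land i 2047)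
noncomputable def Btab_s_1_3 (c : Nat) : Nat := @Bool.rec (fun _ => Nat) (Btab_1) (Btab_2) (Nat.ble 2 c)
noncomputable def Btab_s_0_3 (c : Nat) : Nat := @Bool.rec (fun _ => Nat) (Btab_0) (Btab_s_1_3 c) (Nat.ble 1 c)
noncomputable def Btab_s_3_5 (c : Nat) : Nat := @Bool.rec (fun _ => Nat) (Btab_3) (Btab_4) (Nat.ble 4 c)
noncomputable def Btab_s_5_7 (c : Nat) : Nat := @Bool.rec (fun _ => Nat) (Btab_5) (Btab_6) (Nat.ble 6 c)
noncomputable def Btab_s_3_7 (c : Nat) : Nat := @Bool.rec (fun _ => Nat) (Btab_s_3_5 c) (Btab_s_5_7 c) (Nat.ble 5 c)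
noncomputable def Btab_s_0_7 (c : Nat) : Nat := @Bool.rec (fun _ => Nat) (Btab_s_0_3 c) (Btab_s_3_7 c) (Nat.ble 3 c)
noncomputable def Btab_s_7_9 (c : Nat) : Nat := @Bool.rec (fun _ => Nat) (Btab_7) (Btab_8) (Nat.ble 8 c)
noncomputable def Btab_s_9_11 (c : Nat) : Nat := @Bool.rec (fun _ => Nat) (Btab_9) (Btab_10) (Nat.ble 10 c)
noncomputable def Btab_s_7_11 (c : Nat) : Nat := @Bool.rec (fun _ => Nat) (Btab_s_7_9 c) (Btab_s_9_11 c) (Nat.ble 9 c)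
noncomputable def Btab_s_11_13 (c : Nat) : Nat := @Bool.rec (fun _ => Nat) (Btab_11) (Btab_12) (Nat.ble 12 c)
noncomputable def Btab_s_13_15 (c : Nat) : Nat := @Bool.rec (fun _ => Nat) (Btab_13) (Btab_14) (Nat.ble 14 c)
noncomputable def Btab_s_11_15 (c : Nat) : Nat := @Bool.rec (fun _ => Nat) (Btab_s_11_13 c) (Btab_s_13_15 c) (Nat.ble 13 c)
noncomputable def Btab_s_7_15 (c : Nat) : Nat := @Bool.rec (fun _ => Nat) (Btab_s_7_11 c) (Btab_s_11_15 c) (Nat.ble 11 c)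
noncomputable def Btab_s_0_15 (c : Nat) : Nat := @Bool.rec (fun _ => Nat) (Btab_s_0_7 c) (Btab_s_7_15 c) (Nat.ble 7 c)
noncomputable def Btab_s_16_18 (c : Nat) : Nat := @Bool.rec (fun _ => Nat) (Btab_16) (Btab_17) (Nat.ble 17 c)
noncomputable def Btab_s_15_18 (c : Nat) : Nat := @Bool.rec (fun _ => Nat) (Btab_15) (Btab_s_16_18 c) (Nat.ble 16 c)
noncomputable def Btab_s_18_20 (c : Nat) : Nat := @Bool.rec (fun _ => Nat) (Btab_18) (Btab_19) (Nat.ble 19 c)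
noncomputable def Btab_s_20_22 (c : Nat) : Nat := @Bool.rec (fun _ => Nat) (Btab_20) (Btab_21) (Nat.ble 21 c)
noncomputable def Btab_s_18_22 (c : Nat) : Nat := @Bool.rec (fun _ => Nat) (Btab_s_18_20 c) (Btab_s_20_22 c) (Nat.ble 20 c)
noncomputable def Btab_s_15_22 (c : Nat) : Nat := @Bool.rec (fun _ => Nat) (Btab_s_15_18 c) (Btab_s_18_22 c) (Nat.ble 18 c)
noncomputable def Btab_s_22_24 (c : Nat) : Nat := @Bool.rec (fun _ => Nat) (Btab_22) (Btab_23) (Nat.ble 23 c)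
noncomputable def Btab_s_24_26 (c : Nat) : Nat := @Bool.rec (fun _ => Nat) (Btab_24) (Btab_25) (Nat.ble 25 c)
noncomputable def Btab_s_22_26 (c : Nat) : Nat := @Bool.rec (fun _ => Nat) (Btab_s_22_24 c) (Btab_s_24_26 c) (Nat.ble 24 c)
noncomputable def Btab_s_26_28 (c : Nat) : Nat := @Bool.rec (fun _ => Nat) (Btab_26) (Btab_27) (Nat.ble 27 c)
noncomputable def Btab_s_28_30 (c : Nat) : Nat := @Bool.rec (fun _ => Nat) (Btab_28) (Btab_29) (Nat.ble 29 c)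
noncomputable def Btab_s_26_30 (c : Nat) : Nat := @Bool.rec (fun _ => Nat) (Btab_s_26_28 c) (Btab_s_28_30 c) (Nat.ble 28 c)
noncomputable def Btab_s_22_30 (c : Nat) : Nat := @Bool.rec (fun _ => Nat) (Btab_s_22_26 c) (Btab_s_26_30 c) (Nat.ble 26 c)
noncomputable def Btab_s_15_30 (c : Nat) : Nat := @Bool.rec (fun _ => Nat) (Btab_s_15_22 c) (Btab_s_22_30 c) (Nat.ble 22 c)
noncomputable def Btab_s_0_30 (c : Nat) : Nat := @Bool.rec (fun _ => Nat) (Btab_s_0_15 c) (Btab_s_15_30 c) (Nat.ble 15 c)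
noncomputable def Btab (i : Nat) : Nat := rdw 40 1099511627775 (Btab_s_0_30 (Nat.shiftRight i 11)) (Nat.land i 2047)
noncomputable def Ptab_s_1_3 (c : Nat) : Nat := @Bool.rec (fun _ => Nat) (Ptab_1) (Ptab_2) (Nat.ble 2 c)
noncomputable def Ptab_s_0_3 (c : Nat) : Nat := @Bool.rec (fun _ => Nat) (Ptab_0) (Ptab_s_1_3 c) (Nat.ble 1 c)
noncomputable def Ptab_s_4_6 (c : Nat) : Nat := @Bool.rec (fun _ => Nat) (Ptab_4) (Ptab_5) (Nat.ble 5 c)
noncomputable def Ptab_s_3_6 (c : Nat) : Nat := @Bool.rec (fun _ => Nat) (Ptab_3) (Ptab_s_4_6 c) (Nat.ble 4 c)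
noncomputable def Ptab_s_0_6 (c : Nat) : Nat := @Bool.rec (fun _ => Nat) (Ptab_s_0_3 c) (Ptab_s_3_6 c) (Nat.ble 3 c)
noncomputable def Ptab_s_7_9 (c : Nat) : Nat := @Bool.rec (fun _ => Nat) (Ptab_7) (Ptab_8) (Nat.ble 8 c)
noncomputable def Ptab_s_6_9 (c : Nat) : Nat := @Bool.rec (fun _ => Nat) (Ptab_6) (Ptab_s_7_9 c) (Nat.ble 7 c)
noncomputable def Ptab_s_10_12 (c : Nat) : Nat := @Bool.rec (fun _ => Nat) (Ptab_10) (Ptab_11) (Nat.ble 11 c)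
noncomputable def Ptab_s_9_12 (c : Nat) : Nat := @Bool.rec (fun _ => Nat) (Ptab_9) (Ptab_s_10_12 c) (Nat.ble 10 c)
noncomputable def Ptab_s_6_12 (c : Nat) : Nat := @Bool.rec (fun _ => Nat) (Ptab_s_6_9 c) (Ptab_s_9_12 c) (Nat.ble 9 c)
noncomputable def Ptab_s_0_12 (c : Nat) : Nat := @Bool.rec (fun _ => Nat) (Ptab_s_0_6 c) (Ptab_s_6_12 c) (Nat.ble 6 c)
noncomputable def Ptab_s_13_15 (c : Nat) : Nat := @Bool.rec (fun _ => Nat) (Ptab_13) (Ptab_14) (Nat.ble 14 c)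
noncomputable def Ptab_s_12_15 (c : Nat) : Nat := @Bool.rec (fun _ => Nat) (Ptab_12) (Ptab_s_13_15 c) (Nat.ble 13 c)
noncomputable def Ptab_s_16_18 (c : Nat) : Nat := @Bool.rec (fun _ => Nat) (Ptab_16) (Ptab_17) (Nat.ble 17 c)
noncomputable def Ptab_s_15_18 (c : Nat) : Nat := @Bool.rec (fun _ => Nat) (Ptab_15) (Ptab_s_16_18 c) (Nat.ble 16 c)
noncomputable def Ptab_s_12_18 (c : Nat) : Nat := @Bool.rec (fun _ => Nat) (Ptab_s_12_15 c) (Ptab_s_15_18 c) (Nat.ble 15 c)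
noncomputable def Ptab_s_19_21 (c : Nat) : Nat := @Bool.rec (fun _ => Nat) (Ptab_19) (Ptab_20) (Nat.ble 20 c)
noncomputable def Ptab_s_18_21 (c : Nat) : Nat := @Bool.rec (fun _ => Nat) (Ptab_18) (Ptab_s_19_21 c) (Nat.ble 19 c)
noncomputable def Ptab_s_21_23 (c : Nat) : Nat := @Bool.rec (fun _ => Nat) (Ptab_21) (Ptab_22) (Nat.ble 22 c)
noncomputable def Ptab_s_23_25 (c : Nat) : Nat := @Bool.rec (fun _ => Nat) (Ptab_23) (Ptab_24) (Nat.ble 24 c)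
noncomputable def Ptab_s_21_25 (c : Nat) : Nat := @Bool.rec (fun _ => Nat) (Ptab_s_21_23 c) (Ptab_s_23_25 c) (Nat.ble 23 c)
noncomputable def Ptab_s_18_25 (c : Nat) : Nat := @Bool.rec (fun _ => Nat) (Ptab_s_18_21 c) (Ptab_s_21_25 c) (Nat.ble 21 c)
noncomputable def Ptab_s_12_25 (c : Nat) : Nat := @Bool.rec (fun _ => Nat) (Ptab_s_12_18 c) (Ptab_s_18_25 c) (Nat.ble 18 c)
noncomputable def Ptab_s_0_25 (c : Nat) : Nat := @Bool.rec (fun _ => Nat) (Ptab_s_0_12 c) (Ptab_s_12_25 c) (Nat.ble 12 c)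
noncomputable def Ptab_s_26_28 (c : Nat) : Nat := @Bool.rec (fun _ => Nat) (Ptab_26) (Ptab_27) (Nat.ble 27 c)
noncomputable def Ptab_s_25_28 (c : Nat) : Nat := @Bool.rec (fun _ => Nat) (Ptab_25) (Ptab_s_26_28 c) (Nat.ble 26 c)
noncomputable def Ptab_s_29_31 (c : Nat) : Nat := @Bool.rec (fun _ => Nat) (Ptab_29) (Ptab_30) (Nat.ble 30 c)
noncomputable def Ptab_s_28_31 (c : Nat) : Nat := @Bool.rec (fun _ => Nat) (Ptab_28) (Ptab_s_29_31 c) (Nat.ble 29 c)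
noncomputable def Ptab_s_25_31 (c : Nat) : Nat := @Bool.rec (fun _ => Nat) (Ptab_s_25_28 c) (Ptab_s_28_31 c) (Nat.ble 28 c)
noncomputable def Ptab_s_32_34 (c : Nat) : Nat := @Bool.rec (fun _ => Nat) (Ptab_32) (Ptab_33) (Nat.ble 33 c)
noncomputable def Ptab_s_31_34 (c : Nat) : Nat := @Bool.rec (fun _ => Nat) (Ptab_31) (Ptab_s_32_34 c) (Nat.ble 32 c)
noncomputable def Ptab_s_35_37 (c : Nat) : Nat := @Bool.rec (fun _ => Nat) (Ptab_35) (Ptab_36) (Nat.ble 36 c)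
noncomputable def Ptab_s_34_37 (c : Nat) : Nat := @Bool.rec (fun _ => Nat) (Ptab_34) (Ptab_s_35_37 c) (Nat.ble 35 c)
noncomputable def Ptab_s_31_37 (c : Nat) : Nat := @Bool.rec (fun _ => Nat) (Ptab_s_31_34 c) (Ptab_s_34_37 c) (Nat.ble 34 c)
noncomputable def Ptab_s_25_37 (c : Nat) : Nat := @Bool.rec (fun _ => Nat) (Ptab_s_25_31 c) (Ptab_s_31_37 c) (Nat.ble 31 c)
noncomputable def Ptab_s_38_40 (c : Nat) : Nat := @Bool.rec (fun _ => Nat) (Ptab_38) (Ptab_39) (Nat.ble 39 c)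
noncomputable def Ptab_s_37_40 (c : Nat) : Nat := @Bool.rec (fun _ => Nat) (Ptab_37) (Ptab_s_38_40 c) (Nat.ble 38 c)
noncomputable def Ptab_s_41_43 (c : Nat) : Nat := @Bool.rec (fun _ => Nat) (Ptab_41) (Ptab_42) (Nat.ble 42 c)
noncomputable def Ptab_s_40_43 (c : Nat) : Nat := @Bool.rec (fun _ => Nat) (Ptab_40) (Ptab_s_41_43 c) (Nat.ble 41 c)
noncomputable def Ptab_s_37_43 (c : Nat) : Nat := @Bool.rec (fun _ => Nat) (Ptab_s_37_40 c) (Ptab_s_40_43 c) (Nat.ble 40 c)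
noncomputable def Ptab_s_44_46 (c : Nat) : Nat := @Bool.rec (fun _ => Nat) (Ptab_44) (Ptab_45) (Nat.ble 45 c)
noncomputable def Ptab_s_43_46 (c : Nat) : Nat := @Bool.rec (fun _ => Nat) (Ptab_43) (Ptab_s_44_46 c) (Nat.ble 44 c)
noncomputable def Ptab_s_46_48 (c : Nat) : Nat := @Bool.rec (fun _ => Nat) (Ptab_46) (Ptab_47) (Nat.ble 47 c)
noncomputable def Ptab_s_48_50 (c : Nat) : Nat := @Bool.rec (fun _ => Nat) (Ptab_48) (Ptab_49) (Nat.ble 49 c)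
noncomputable def Ptab_s_46_50 (c : Nat) : Nat := @Bool.rec (fun _ => Nat) (Ptab_s_46_48 c) (Ptab_s_48_50 c) (Nat.ble 48 c)
noncomputable def Ptab_s_43_50 (c : Nat) : Nat := @Bool.rec (fun _ => Nat) (Ptab_s_43_46 c) (Ptab_s_46_50 c) (Nat.ble 46 c)
noncomputable def Ptab_s_37_50 (c : Nat) : Nat := @Bool.rec (fun _ => Nat) (Ptab_s_37_43 c) (Ptab_s_43_50 c) (Nat.ble 43 c)
noncomputable def Ptab_s_25_50 (c : Nat) : Nat := @Bool.rec (fun _ => Nat) (Ptab_s_25_37 c) (Ptab_s_37_50 c) (Nat.ble 37 c)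
noncomputable def Ptab_s_0_50 (c : Nat) : Nat := @Bool.rec (fun _ => Nat) (Ptab_s_0_25 c) (Ptab_s_25_50 c) (Nat.ble 25 c)
noncomputable def Ptab (i : Nat) : Nat := rdw 18 262143 (Ptab_s_0_50 (Nat.shiftRight i 12)) (Nat.land i 4095)
noncomputable def RRtab (i : Nat) : Nat := rdw 5 31 RRtab_0 i
noncomputable def rBtab (i : Nat) : Nat := rdw 11 2047 rBtab_0 i
noncomputable def rLtab (i : Nat) : Nat := rdw 7 127 rLtab_0 i
noncomputable def nameTab_s_0_2 (c : Nat) : Nat := @Bool.rec (fun _ => Nat) (nameTab_0) (nameTab_1) (Nat.ble 1 c)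
noncomputable def nameTab_s_2_4 (c : Nat) : Nat := @Bool.rec (fun _ => Nat) (nameTab_2) (nameTab_3) (Nat.ble 3 c)
noncomputable def nameTab_s_0_4 (c : Nat) : Nat := @Bool.rec (fun _ => Nat) (nameTab_s_0_2 c) (nameTab_s_2_4 c) (Nat.ble 2 c)
noncomputable def nameTab (i : Nat) : Nat := rdw 14 16383 (nameTab_s_0_4 (Nat.shiftRight i 12)) (Nat.land i 4095)
noncomputable def col0_s_0_2 (c : Nat) : Nat := @Bool.rec (fun _ => Nat) (col0_0) (col0_1) (Nat.ble 1 c)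
noncomputable def col0_s_2_4 (c : Nat) : Nat := @Bool.rec (fun _ => Nat) (col0_2) (col0_3) (Nat.ble 3 c)
noncomputable def col0_s_0_4 (c : Nat) : Nat := @Bool.rec (fun _ => Nat) (col0_s_0_2 c) (col0_s_2_4 c) (Nat.ble 2 c)
noncomputable def col0 (i : Nat) : Nat := rdw 14 16383 (col0_s_0_4 (Nat.shiftRight i 12)) (Nat.land i 4095)
noncomputable def col1_s_0_2 (c : Nat) : Nat := @Bool.rec (fun _ => Nat) (col1_0) (col1_1) (Nat.ble 1 c)
noncomputable def col1_s_2_4 (c : Nat) : Nat := @Bool.rec (fun _ => Nat) (col1_2) (col1_3) (Nat.ble 3 c)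
noncomputable def col1_s_0_4 (c : Nat) : Nat := @Bool.rec (fun _ => Nat) (col1_s_0_2 c) (col1_s_2_4 c) (Nat.ble 2 c)
noncomputable def col1 (i : Nat) : Nat := rdw 14 16383 (col1_s_0_4 (Nat.shiftRight i 12)) (Nat.land i 4095)
noncomputable def col2_s_0_2 (c : Nat) : Nat := @Bool.rec (fun _ => Nat) (col2_0) (col2_1) (Nat.ble 1 c)
noncomputable def col2_s_2_4 (c : Nat) : Nat := @Bool.rec (fun _ => Nat) (col2_2) (col2_3) (Nat.ble 3 c)
noncomputable def col2_s_0_4 (c : Nat) : Nat := @Bool.rec (fun _ => Nat) (col2_s_0_2 c) (col2_s_2_4 c) (Nat.ble 2 c)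
noncomputable def col2 (i : Nat) : Nat := rdw 14 16383 (col2_s_0_4 (Nat.shiftRight i 12)) (Nat.land i 4095)
noncomputable def col3_s_0_2 (c : Nat) : Nat := @Bool.rec (fun _ => Nat) (col3_0) (col3_1) (Nat.ble 1 c)
noncomputable def col3_s_2_4 (c : Nat) : Nat := @Bool.rec (fun _ => Nat) (col3_2) (col3_3) (Nat.ble 3 c)
noncomputable def col3_s_0_4 (c : Nat) : Nat := @Bool.rec (fun _ => Nat) (col3_s_0_2 c) (col3_s_2_4 c) (Nat.ble 2 c)
noncomputable def col3 (i : Nat) : Nat := rdw 14 16383 (col3_s_0_4 (Nat.shiftRight i 12)) (Nat.land i 4095)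
noncomputable def col4_s_0_2 (c : Nat) : Nat := @Bool.rec (fun _ => Nat) (col4_0) (col4_1) (Nat.ble 1 c)
noncomputable def col4_s_2_4 (c : Nat) : Nat := @Bool.rec (fun _ => Nat) (col4_2) (col4_3) (Nat.ble 3 c)
noncomputable def col4_s_0_4 (c : Nat) : Nat := @Bool.rec (fun _ => Nat) (col4_s_0_2 c) (col4_s_2_4 c) (Nat.ble 2 c)
noncomputable def col4 (i : Nat) : Nat := rdw 14 16383 (col4_s_0_4 (Nat.shiftRight i 12)) (Nat.land i 4095)
noncomputable def col5_s_0_2 (c : Nat) : Nat := @Bool.rec (fun _ => Nat) (col5_0) (col5_1) (Nat.ble 1 c)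
noncomputable def col5_s_2_4 (c : Nat) : Nat := @Bool.rec (fun _ => Nat) (col5_2) (col5_3) (Nat.ble 3 c)
noncomputable def col5_s_0_4 (c : Nat) : Nat := @Bool.rec (fun _ => Nat) (col5_s_0_2 c) (col5_s_2_4 c) (Nat.ble 2 c)
noncomputable def col5 (i : Nat) : Nat := rdw 14 16383 (col5_s_0_4 (Nat.shiftRight i 12)) (Nat.land i 4095)
noncomputable def col6_s_0_2 (c : Nat) : Nat := @Bool.rec (fun _ => Nat) (col6_0) (col6_1) (Nat.ble 1 c)
noncomputable def col6_s_2_4 (c : Nat) : Nat := @Bool.rec (fun _ => Nat) (col6_2) (col6_3) (Nat.ble 3 c)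
noncomputable def col6_s_0_4 (c : Nat) : Nat := @Bool.rec (fun _ => Nat) (col6_s_0_2 c) (col6_s_2_4 c) (Nat.ble 2 c)
noncomputable def col6 (i : Nat) : Nat := rdw 14 16383 (col6_s_0_4 (Nat.shiftRight i 12)) (Nat.land i 4095)
noncomputable def col7_s_0_2 (c : Nat) : Nat := @Bool.rec (fun _ => Nat) (col7_0) (col7_1) (Nat.ble 1 c)
noncomputable def col7_s_2_4 (c : Nat) : Nat := @Bool.rec (fun _ => Nat) (col7_2) (col7_3) (Nat.ble 3 c)
noncomputable def col7_s_0_4 (c : Nat) : Nat := @Bool.rec (fun _ => Nat) (col7_s_0_2 c) (col7_s_2_4 c) (Nat.ble 2 c)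
noncomputable def col7 (i : Nat) : Nat := rdw 14 16383 (col7_s_0_4 (Nat.shiftRight i 12)) (Nat.land i 4095)
noncomputable def col8_s_0_2 (c : Nat) : Nat := @Bool.rec (fun _ => Nat) (col8_0) (col8_1) (Nat.ble 1 c)
noncomputable def col8_s_2_4 (c : Nat) : Nat := @Bool.rec (fun _ => Nat) (col8_2) (col8_3) (Nat.ble 3 c)
noncomputable def col8_s_0_4 (c : Nat) : Nat := @Bool.rec (fun _ => Nat) (col8_s_0_2 c) (col8_s_2_4 c) (Nat.ble 2 c)
noncomputable def col8 (i : Nat) : Nat := rdw 14 16383 (col8_s_0_4 (Nat.shiftRight i 12)) (Nat.land i 4095)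
noncomputable def finTab_s_1_3 (c : Nat) : Nat := @Bool.rec (fun _ => Nat) (finTab_1) (finTab_2) (Nat.ble 2 c)
noncomputable def finTab_s_0_3 (c : Nat) : Nat := @Bool.rec (fun _ => Nat) (finTab_0) (finTab_s_1_3 c) (Nat.ble 1 c)
noncomputable def finTab_s_3_5 (c : Nat) : Nat := @Bool.rec (fun _ => Nat) (finTab_3) (finTab_4) (Nat.ble 4 c)
noncomputable def finTab_s_5_7 (c : Nat) : Nat := @Bool.rec (fun _ => Nat) (finTab_5) (finTab_6) (Nat.ble 6 c)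
noncomputable def finTab_s_3_7 (c : Nat) : Nat := @Bool.rec (fun _ => Nat) (finTab_s_3_5 c) (finTab_s_5_7 c) (Nat.ble 5 c)
noncomputable def finTab_s_0_7 (c : Nat) : Nat := @Bool.rec (fun _ => Nat) (finTab_s_0_3 c) (finTab_s_3_7 c) (Nat.ble 3 c)
noncomputable def finTab_s_7_9 (c : Nat) : Nat := @Bool.rec (fun _ => Nat) (finTab_7) (finTab_8) (Nat.ble 8 c)
noncomputable def finTab_s_9_11 (c : Nat) : Nat := @Bool.rec (fun _ => Nat) (finTab_9) (finTab_10) (Nat.ble 10 c)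
noncomputable def finTab_s_7_11 (c : Nat) : Nat := @Bool.rec (fun _ => Nat) (finTab_s_7_9 c) (finTab_s_9_11 c) (Nat.ble 9 c)
noncomputable def finTab_s_11_13 (c : Nat) : Nat := @Bool.rec (fun _ => Nat) (finTab_11) (finTab_12) (Nat.ble 12 c)
noncomputable def finTab_s_13_15 (c : Nat) : Nat := @Bool.rec (fun _ => Nat) (finTab_13) (finTab_14) (Nat.ble 14 c)
noncomputable def finTab_s_11_15 (c : Nat) : Nat := @Bool.rec (fun _ => Nat) (finTab_s_11_13 c) (finTab_s_13_15 c) (Nat.ble 13 c)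
noncomputable def finTab_s_7_15 (c : Nat) : Nat := @Bool.rec (fun _ => Nat) (finTab_s_7_11 c) (finTab_s_11_15 c) (Nat.ble 11 c)
noncomputable def finTab_s_0_15 (c : Nat) : Nat := @Bool.rec (fun _ => Nat) (finTab_s_0_7 c) (finTab_s_7_15 c) (Nat.ble 7 c)
noncomputable def finTab_s_15_17 (c : Nat) : Nat := @Bool.rec (fun _ => Nat) (finTab_15) (finTab_16) (Nat.ble 16 c)
noncomputable def finTab_s_17_19 (c : Nat) : Nat := @Bool.rec (fun _ => Nat) (finTab_17) (finTab_18) (Nat.ble 18 c)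
noncomputable def finTab_s_15_19 (c : Nat) : Nat := @Bool.rec (fun _ => Nat) (finTab_s_15_17 c) (finTab_s_17_19 c) (Nat.ble 17 c)
noncomputable def finTab_s_19_21 (c : Nat) : Nat := @Bool.rec (fun _ => Nat) (finTab_19) (finTab_20) (Nat.ble 20 c)
noncomputable def finTab_s_21_23 (c : Nat) : Nat := @Bool.rec (fun _ => Nat) (finTab_21) (finTab_22) (Nat.ble 22 c)
noncomputable def finTab_s_19_23 (c : Nat) : Nat := @Bool.rec (fun _ => Nat) (finTab_s_19_21 c) (finTab_s_21_23 c) (Nat.ble 21 c)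
noncomputable def finTab_s_15_23 (c : Nat) : Nat := @Bool.rec (fun _ => Nat) (finTab_s_15_19 c) (finTab_s_19_23 c) (Nat.ble 19 c)
noncomputable def finTab_s_23_25 (c : Nat) : Nat := @Bool.rec (fun _ => Nat) (finTab_23) (finTab_24) (Nat.ble 24 c)
noncomputable def finTab_s_25_27 (c : Nat) : Nat := @Bool.rec (fun _ => Nat) (finTab_25) (finTab_26) (Nat.ble 26 c)
noncomputable def finTab_s_23_27 (c : Nat) : Nat := @Bool.rec (fun _ => Nat) (finTab_s_23_25 c) (finTab_s_25_27 c) (Nat.ble 25 c)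
noncomputable def finTab_s_27_29 (c : Nat) : Nat := @Bool.rec (fun _ => Nat) (finTab_27) (finTab_28) (Nat.ble 28 c)
noncomputable def finTab_s_29_31 (c : Nat) : Nat := @Bool.rec (fun _ => Nat) (finTab_29) (finTab_30) (Nat.ble 30 c)
noncomputable def finTab_s_27_31 (c : Nat) : Nat := @Bool.rec (fun _ => Nat) (finTab_s_27_29 c) (finTab_s_29_31 c) (Nat.ble 29 c)
noncomputable def finTab_s_23_31 (c : Nat) : Nat := @Bool.rec (fun _ => Nat) (finTab_s_23_27 c) (finTab_s_27_31 c) (Nat.ble 27 c)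
noncomputable def finTab_s_15_31 (c : Nat) : Nat := @Bool.rec (fun _ => Nat) (finTab_s_15_23 c) (finTab_s_23_31 c) (Nat.ble 23 c)
noncomputable def finTab_s_0_31 (c : Nat) : Nat := @Bool.rec (fun _ => Nat) (finTab_s_0_15 c) (finTab_s_15_31 c) (Nat.ble 15 c)
noncomputable def finTab (i : Nat) : Nat := rdw 18 262143 (finTab_s_0_31 (Nat.shiftRight i 12)) (Nat.land i 4095)
noncomputable def clsTab_s_0_2 (c : Nat) : Nat := @Bool.rec (fun _ => Nat) (clsTab_0) (clsTab_1) (Nat.ble 1 c)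
noncomputable def clsTab_s_2_4 (c : Nat) : Nat := @Bool.rec (fun _ => Nat) (clsTab_2) (clsTab_3) (Nat.ble 3 c)
noncomputable def clsTab_s_0_4 (c : Nat) : Nat := @Bool.rec (fun _ => Nat) (clsTab_s_0_2 c) (clsTab_s_2_4 c) (Nat.ble 2 c)
noncomputable def clsTab (i : Nat) : Nat := rdw 14 16383 (clsTab_s_0_4 (Nat.shiftRight i 12)) (Nat.land i 4095)
noncomputable def srcF (t : Nat) : Nat := Nat.land (Atab t) 16383
noncomputable def tgtF (t : Nat) : Nat := Nat.land (Nat.shiftRight (Atab t) 14) 16383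
noncomputable def ltF (t : Nat) : Nat := Nat.shiftRight (Atab t) 28
noncomputable def rhoF (t : Nat) : Nat := Nat.land (Btab (Nat.sub t 15934)) 255
noncomputable def rotF (t : Nat) : Nat := Nat.land (Nat.shiftRight (Btab (Nat.sub t 15934)) 8) 127
noncomputable def lenF (t : Nat) : Nat := Nat.land (Nat.shiftRight (Btab (Nat.sub t 15934)) 15) 127
noncomputable def offF (t : Nat) : Nat := Nat.shiftRight (Btab (Nat.sub t 15934)) 22
noncomputable def pfF (j : Nat) : Nat := Nat.shiftRight (Ptab j) 1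
noncomputable def pdF (j : Nat) : Nat := Nat.land (Ptab j) 1
noncomputable def tblF (i x : Nat) : Nat := @Bool.rec (fun _ => Nat) (@Bool.rec (fun _ => Nat) (@Bool.rec (fun _ => Nat) (col0 i) (col1 i) (Nat.ble 1 x)) (@Bool.rec (fun _ => Nat) (col2 i) (col3 i) (Nat.ble 3 x)) (Nat.ble 2 x)) (@Bool.rec (fun _ => Nat) (@Bool.rec (fun _ => Nat) (col4 i) (col5 i) (Nat.ble 5 x)) (@Bool.rec (fun _ => Nat) (col6 i) (@Bool.rec (fun _ => Nat) (col7 i) (col8 i) (Nat.ble 8 x)) (Nat.ble 7 x)) (Nat.ble 6 x)) (Nat.ble 4 x)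
noncomputable def finE (i x : Nat) : Nat := finTab (Nat.add (Nat.mul i 9) x)
noncomputable def finFF (i x : Nat) : Nat := Nat.shiftRight (finE i x) 1
noncomputable def finDF (i x : Nat) : Nat := Nat.land (finE i x) 1

def invLoc : ℕ → ℕ
  | l => l
def emb : List Nat := [0, 1, 2, 3, 4, 5, 6, 8, 9]
noncomputable def D : Log :=
  { k := 9, inv := invE 9 invLoc, nR := 128, rBase := rBtab, rLen := rLtab, RR := RRtab,
    M := 15918, nB := 16, F := 76881, src := srcF, lt := ltF, tgt := tgtF, rho := rhoF, rot := rotF,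
    off := offF, len := lenF, pf := pfF, pd := pdF }

noncomputable def T : Tab :=
  { N := 14080, nameOf := nameTab, tbl := tblF, finF := finFF, finD := finDF, cls := clsTab }

def subs : List (List Nat) := [
[1], [2], [3], [4], [5], [6], [7], [8] ]

def realLoc : List (List Nat) := [
  [0, 0],
  [0, 1, 0, 1, 0, 1],
  [0, 2, 0, 2],
  [0, 3, 0, 3],
  [0, 4, 0, 4],
  [0, 7, 0, 7],
  [0, 5, 0, 5],
  [0, 6, 0, 6],
  [0, 8, 0, 8],
  [1, 1],
  [1, 2, 1, 2, 1, 2],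
  [1, 3, 1, 3],
  [1, 4, 1, 4],
  [1, 7, 1, 7],
  [1, 5, 1, 5],
  [1, 6, 1, 6],
  [1, 8, 1, 8],
  [2, 2],
  [2, 3, 2, 3, 2, 3],
  [2, 4, 2, 4],
  [2, 7, 2, 7],
  [2, 5, 2, 5],
  [2, 6, 2, 6],
  [2, 8, 2, 8],
  [3, 3],
  [3, 4, 3, 4, 3, 4],
  [3, 7, 3, 7, 3, 7],
  [3, 5, 3, 5],
  [3, 6, 3, 6],
  [3, 8, 3, 8],
  [4, 4],
  [4, 7, 4, 7],
  [4, 5, 4, 5, 4, 5],
  [4, 6, 4, 6],
  [4, 8, 4, 8],
  [7, 7],
  [7, 5, 7, 5],
  [7, 6, 7, 6],
  [7, 8, 7, 8, 7, 8],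
  [5, 5],
  [5, 6, 5, 6, 5, 6],
  [5, 8, 5, 8],
  [6, 6],
  [6, 8, 6, 8],
  [8, 8],
  [3, 2, 1, 3, 4, 5, 3, 7, 8, 3, 2, 1, 3, 4, 5, 3, 7, 8, 3, 2, 1, 3, 4, 5, 3, 7, 8, 3, 2, 1, 3, 4, 5, 3, 7, 8, 3, 2, 1, 3, 4, 5, 3, 7, 8, 3, 2, 1, 3, 4, 5, 3, 7, 8, 3, 2, 1, 3, 4, 5, 3, 7, 8, 3, 2, 1, 3, 4, 5, 3, 7, 8, 3, 2, 1, 3, 4, 5, 3, 7, 8, 3, 2, 1, 3, 4, 5, 3, 7, 8],
  [0, 1, 2, 3, 4, 5, 7, 0, 1, 2, 3, 4, 5, 7, 0, 1, 2, 3, 4, 5, 7, 0, 1, 2, 3, 4, 5, 7, 0, 1, 2, 3, 4, 5, 7, 0, 1, 2, 3, 4, 5, 7, 0, 1, 2, 3, 4, 5, 7, 0, 1, 2, 3, 4, 5, 7, 0, 1, 2, 3, 4, 5, 7] ]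

end Cfsg.Agent.Lib.Helper4.TCD.Fi23U1
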