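import Cfsg.Agent.Lib.Helper4.TCD_Fi23U1_Acc

namespace Cfsg.Agent.Lib.Helper4.TCD.Fi23U1

open Cfsg.Agent.Lib.Helper4.TC

set_option maxRecDepth 100000
set_option Elab.async false

theorem c_zero : D.zeroOK = true := by decide +kernel
theorem c_base : allBelow D.baseOK 16 = true := by decide +kernel
theorem c_let : allBelow D.letOK 9 = true := by decide +kernel
theorem c_cls0 : T.cls 0 = 0 := by decide +kernel
theorem c_name0 : T.nameOf 0 = 0 := by decide +kernel
theorem c_tab : D.relTabOK 0 (baseRels 9 invLoc realLoc subs ++ (baseRels 9 invLoc realLoc subs).map (invWord D.inv)) = true := by decide +kernel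
theorem c_subs : subs.all (fun u => u.all (fun x => Nat.ble (Nat.succ x) 9)) = true := by decide +kernel
theorem c_names_0 : allRange D.nameOK 1 15917 = true := by decide +kernel
theorem c_cls_0 : allRange (T.clsOK D) 1 15000 = true := by decide +kernel
theorem c_cls_1 : allRange (T.clsOK D) 15001 917 = true := by decide +kernel
theorem c_rep_0 : allRange (T.repOK D) 0 14080 = true := by decide +kernel
theorem c_rel_0 : allRange D.relOK 15934 3472 = true := by decide +kernel
theorem c_rel_1 : allRange D.relOK 19406 3442 = true := by decide +kernel
theorem c_rel_2 : allRange D.relOK 22848 3464 = true := by decide +kernel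
theorem c_rel_3 : allRange D.relOK 26312 3488 = true := by decide +kernel
theorem c_rel_4 : allRange D.relOK 29800 3482 = true := by decide +kernel
theorem c_rel_5 : allRange D.relOK 33282 3472 = true := by decide +kernel
theorem c_rel_6 : allRange D.relOK 36754 3428 = true := by decide +kernel
theorem c_rel_7 : allRange D.relOK 40182 3328 = true := by decide +kernel
theorem c_rel_8 : allRange D.relOK 43510 3395 = true := by decide +kernel
theorem c_rel_9 : allRange D.relOK 46905 3406 = true := by decide +kernel
theorem c_rel_10 : allRange D.relOK 50311 3320 = true := by decide +kernel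
theorem c_rel_11 : allRange D.relOK 53631 3345 = true := by decide +kernel
theorem c_rel_12 : allRange D.relOK 56976 3448 = true := by decide +kernel
theorem c_rel_13 : allRange D.relOK 60424 3388 = true := by decide +kernel
theorem c_rel_14 : allRange D.relOK 63812 3473 = true := by decide +kernel
theorem c_rel_15 : allRange D.relOK 67285 3464 = true := by decide +kernel
theorem c_rel_16 : allRange D.relOK 70749 3450 = true := by decide +kernel
theorem c_rel_17 : allRange D.relOK 74199 2682 = true := by decide +kernel
theorem c_fin_0 : allGrid (T.finOK D) 0 1333 9 = true := by decide +kernel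
theorem c_fin_1 : allGrid (T.finOK D) 1333 1333 9 = true := by decide +kernel
theorem c_fin_2 : allGrid (T.finOK D) 2666 1333 9 = true := by decide +kernel
theorem c_fin_3 : allGrid (T.finOK D) 3999 1333 9 = true := by decide +kernel
theorem c_fin_4 : allGrid (T.finOK D) 5332 1333 9 = true := by decide +kernel
theorem c_fin_5 : allGrid (T.finOK D) 6665 1333 9 = true := by decide +kernel
theorem c_fin_6 : allGrid (T.finOK D) 7998 1333 9 = true := by decide +kernel
theorem c_fin_7 : allGrid (T.finOK D) 9331 1333 9 = true := by decide +kernel
theorem c_fin_8 : allGrid (T.finOK D) 10664 1333 9 = true := by decide +kernel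
theorem c_fin_9 : allGrid (T.finOK D) 11997 1333 9 = true := by decide +kernel
theorem c_fin_10 : allGrid (T.finOK D) 13330 750 9 = true := by decide +kernel
theorem c_perm_0 : allGrid (T.permOK1 D) 0 3333 9 = true := by decide +kernel
theorem c_perm_1 : allGrid (T.permOK1 D) 3333 3333 9 = true := by decide +kernel
theorem c_perm_2 : allGrid (T.permOK1 D) 6666 3333 9 = true := by decide +kernel
theorem c_perm_3 : allGrid (T.permOK1 D) 9999 3333 9 = true := by decide +kernel
theorem c_perm_4 : allGrid (T.permOK1 D) 13332 748 9 = true := by decide +kernel

end Cfsg.Agent.Lib.Helper4.TCD.Fi23U1
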