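namespace Cfsg.Agent.Lib.Helper4.TCD.Fi23U4

noncomputable def Atab_0 : Nat := nat_lit 0xf5a26b42d683ad035a1e722ce439c83392e303c6058c03182dee3bdc97b82d72dac3b5896b06d62d6a3a5495a86b52d284a5054a06942ce6394c939965224a42948b188e11146208c4b0809d0042036bc4f785ef03de57386e705ce039c25b42d681ad231826302c6018c1ad614ac0b5914a0a9405286949129125203a468411080210339c87388e709ce331846300a6194a2294252948419082210242146318c6218ca210c4220840108a10902108420084a0010001000100000040007800e001a0030005800a001200200038005d6499c071715ea2b4c15982920ce21940917920d2bd8472cad50d8a2ad02520a93050629ca4310851808308c421046101800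
noncomputable def Btab_0 : Nat := nat_lit 0xa9b44e9d511a5b43a90d0aa2b41684c909fb432755089bb40e68c8a98b2265948793d40648c8e8fd23638c8c8cb40a2cc8e88d2361cc8c84d41e0cc8581b21200c837dd205f0c857ab20de4c8276d205d4c8a73b225c54886fb229b54886ad21da149166b24194d0c63b40d854915fb43178d035cb44d6cd0e59b42960d0555d24550c9051d42140d034eb43934d0a4bb41528d1047d43518d0944b4110cd1341b42900d053eb230f15073ab408e4d1336d444d4d0e33b414c8c892fd220b55012bb44ca551127b43898d0a24b2408cd0c21b40c80c901eb430715081ab21464c8417b2085548113b22848c890fd21c38c8e0bd23428c8c08b4081cc9305b44010d0902b4100841f0190780441d0090700041b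
noncomputable def Ptab_0 : Nat := nat_lit 0x69071a8d064ff198d469051a8d206351a4046a327e8cc64fb198c860f3188cc64f9198c1ee31183d46230173845e31183c5d2f0188b9ce2f17395b6e4178b9c62f170a85a2c6b8b458d566b505a2c698b458266389c5a2a6b8ac54d5148a9a62b150998a27158a1a2291433c5228668a450245f89452266589c4cc91289844b91189c48c31289040ab1089448c158b004a220f29c3e23112f442225d88c44b71188034990d88440ad0e88152210f060361e5287c3ca30f879421f0e05912170e8713e1d0e275229c0e871361d0d0502e1a4b86c34950d86132190c05116150c8612e190c25432164585c2c10098590e170a2242a14081ec22150a21c2a123e84c240c3883426123d84c247907840fa1108030d60d08840f2733c0441c770783814690583c1c7507838e60f061bc1a0c36834180805828ce0b05194160a0317c0e0b041a41208338241065048200c5d038240c6303818c20703010ae0503810b605020089e0302810b205021540a022980c0451018089a030112c0649229047a39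
noncomputable def RRtab_0 : Nat := nat_lit 0x2c0b02388e1304c0a82a02008294a52108418c63108420842100000294a5194651946518c6321485214852148520c8320c8321084114451144510c4310c4310c43110441104410842094250942508c2308c2309024090240902408822088220882208421014050140500c0300c030100401004008020080200401004010040100000795e5691a45896248521380e0294a52108418c63108420842100000294a528ca328ca318c63290a4290a4290a4190641906421084288a2288a2188621886218862208822088210842284a1284a1184611846120481204812048110441104411044108421280a0280a018060180602008020080100401004008020080200802000000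
noncomputable def rBtab_0 : Nat := nat_lit 0xce6632990c66230980be5e2e970b4592b150a6512713096492391082401f0f074381a8d06632188c05e2e168b0562a148a04c25110803e1d0d0602e15098401a0c050200c0400800
noncomputable def rLtab_0 : Nat := nat_lit 0x4924924928b4534526ca49324924924928b4534526ca4932
noncomputable def nameTab_0 : Nat := nat_lit 0x6b38bdab38bd94941cd5a928398a418820
noncomputable def col0_0 : Nat := nat_lit 0x6b38b5e959ca2f839ac5a8e8494c320820
noncomputable def col1_0 : Nat := nat_lit 0x6b37c5ab3a4a3073dac4a9663a0a410c20
noncomputable def col2_0 : Nat := nat_lit 0x6b38ad2f69ca307b5cb6212a398a418440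
noncomputable def col3_0 : Nat := nat_lit 0x6b38bda0f73155a4db25c528398a418801
noncomputable def col4_0 : Nat := nat_lit 0x6b19bdab494e307b16e6a9283906628820
noncomputable def col5_0 : Nat := nat_lit 0x6758bdab49c6507b9aa430cb2a4e418820
noncomputable def finTab_0 : Nat := nat_lit 0x6b0e8843215081a0ce0d0481401fc327e3e862f87b3c9e82f183c1dcea760b5d0f173389c82e700adacd26a0b04e2a6508d90c6133103e225e2e970b60f29832a451281bcdc72b69b02968339aacc128a1842164b0048be5a07564c1582b836205eab154a80b8713cad4e26834980c0552c9409a41248e4ea302c8845050228607a0908803f234240d3e1e820780702cec74391e4e00c371b0d40934028cc6403820c45e300140c5c2d16006042b150a45001138984a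
noncomputable def clsTab_0 : Nat := nat_lit 0x6b38bdab0a3e6e935915a928398a418820

end Cfsg.Agent.Lib.Helper4.TCD.Fi23U4
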