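import Cfsg.Agent.Lib.Helper4.TCD_Fi23a_Acc

namespace Cfsg.Agent.Lib.Helper4.TCD.Fi23a

open Cfsg.Agent.Lib.Helper4.TC

set_option maxRecDepth 100000
set_option Elab.async false

theorem c_zero : D.zeroOK = true := by decide +kernel
theorem c_base : allBelow D.baseOK 18 = true := by decide +kernel
theorem c_let : allBelow D.letOK 10 = true := by decide +kernel
theorem c_cls0 : T.cls 0 = 0 := by decide +kernel
theorem c_name0 : T.nameOf 0 = 0 := by decide +kernel
theorem c_tab : D.relTabOK 0 (baseRels 10 PFi23.invR PFi23.P.real subs ++ (baseRels 10 PFi23.invR PFi23.P.real subs).map (invWord D.inv)) = true := by decide +kernel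
theorem c_real : PFi23.P.real = realLit := by decide +kernel
theorem c_subfix : subs.all (fun u => Nat.beq (Tab.act T D u 0) 0) = true := by decide +kernel
theorem c_subs : subs.all (fun u => u.all (fun x => Nat.ble (Nat.succ x) 10)) = true := by decide +kernel
theorem c_names_0 : allRange D.nameOK 1 41944 = true := by decide +kernel
theorem c_cls_0 : allRange (T.clsOK D) 1 15000 = true := by decide +kernel
theorem c_cls_1 : allRange (T.clsOK D) 15001 15000 = true := by decide +kernel
theorem c_cls_2 : allRange (T.clsOK D) 30001 11944 = true := by decide +kernel
theorem c_rep_0 : allRange (T.repOK D) 0 30000 = true := by decide +kernel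
theorem c_rep_1 : allRange (T.repOK D) 30000 1671 = true := by decide +kernel
theorem c_rel_0 : allRange D.relOK 41963 3516 = true := by decide +kernel
theorem c_rel_1 : allRange D.relOK 45479 3498 = true := by decide +kernel
theorem c_rel_2 : allRange D.relOK 48977 3502 = true := by decide +kernel
theorem c_rel_3 : allRange D.relOK 52479 3494 = true := by decide +kernel
theorem c_rel_4 : allRange D.relOK 55973 3486 = true := by decide +kernel
theorem c_rel_5 : allRange D.relOK 59459 3497 = true := by decide +kernel
theorem c_rel_6 : allRange D.relOK 62956 3502 = true := by decide +kernel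
theorem c_rel_7 : allRange D.relOK 66458 3505 = true := by decide +kernel
theorem c_rel_8 : allRange D.relOK 69963 3517 = true := by decide +kernel
theorem c_rel_9 : allRange D.relOK 73480 3507 = true := by decide +kernel
theorem c_rel_10 : allRange D.relOK 76987 3521 = true := by decide +kernel
theorem c_rel_11 : allRange D.relOK 80508 3486 = true := by decide +kernel
theorem c_rel_12 : allRange D.relOK 83994 3528 = true := by decide +kernel
theorem c_rel_13 : allRange D.relOK 87522 3512 = true := by decide +kernel
theorem c_rel_14 : allRange D.relOK 91034 3502 = true := by decide +kernel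
theorem c_rel_15 : allRange D.relOK 94536 3537 = true := by decide +kernel
theorem c_rel_16 : allRange D.relOK 98073 3505 = true := by decide +kernel
theorem c_rel_17 : allRange D.relOK 101578 3522 = true := by decide +kernel
theorem c_rel_18 : allRange D.relOK 105100 3527 = true := by decide +kernel
theorem c_rel_19 : allRange D.relOK 108627 3523 = true := by decide +kernel
theorem c_rel_20 : allRange D.relOK 112150 3437 = true := by decide +kernel
theorem c_rel_21 : allRange D.relOK 115587 3606 = true := by decide +kernel
theorem c_rel_22 : allRange D.relOK 119193 3266 = true := by decide +kernel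
theorem c_rel_23 : allRange D.relOK 122459 3304 = true := by decide +kernel
theorem c_rel_24 : allRange D.relOK 125763 3330 = true := by decide +kernel
theorem c_rel_25 : allRange D.relOK 129093 3479 = true := by decide +kernel
theorem c_rel_26 : allRange D.relOK 132572 3372 = true := by decide +kernel
theorem c_rel_27 : allRange D.relOK 135944 3476 = true := by decide +kernel
theorem c_rel_28 : allRange D.relOK 139420 3463 = true := by decide +kernel
theorem c_rel_29 : allRange D.relOK 142883 3392 = true := by decide +kernel
theorem c_rel_30 : allRange D.relOK 146275 3512 = true := by decide +kernel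
theorem c_rel_31 : allRange D.relOK 149787 3349 = true := by decide +kernel
theorem c_rel_32 : allRange D.relOK 153136 3500 = true := by decide +kernel
theorem c_rel_33 : allRange D.relOK 156636 3393 = true := by decide +kernel
theorem c_rel_34 : allRange D.relOK 160029 3487 = true := by decide +kernel
theorem c_rel_35 : allRange D.relOK 163516 3247 = true := by decide +kernel
theorem c_rel_36 : allRange D.relOK 166763 3490 = true := by decide +kernel
theorem c_rel_37 : allRange D.relOK 170253 3452 = true := by decide +kernel
theorem c_rel_38 : allRange D.relOK 173705 3434 = true := by decide +kernel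
theorem c_rel_39 : allRange D.relOK 177139 3447 = true := by decide +kernel
theorem c_rel_40 : allRange D.relOK 180586 3493 = true := by decide +kernel
theorem c_rel_41 : allRange D.relOK 184079 3452 = true := by decide +kernel
theorem c_rel_42 : allRange D.relOK 187531 3428 = true := by decide +kernel
theorem c_rel_43 : allRange D.relOK 190959 3382 = true := by decide +kernel
theorem c_rel_44 : allRange D.relOK 194341 3390 = true := by decide +kernel
theorem c_rel_45 : allRange D.relOK 197731 3274 = true := by decide +kernel
theorem c_rel_46 : allRange D.relOK 201005 4159 = true := by decide +kernel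
theorem c_rel_47 : allRange D.relOK 205164 4846 = true := by decide +kernel
theorem c_rel_48 : allRange D.relOK 210010 4695 = true := by decide +kernel
theorem c_fin_0 : allGrid (T.finOK D) 0 1200 10 = true := by decide +kernel
theorem c_fin_1 : allGrid (T.finOK D) 1200 1200 10 = true := by decide +kernel
theorem c_fin_2 : allGrid (T.finOK D) 2400 1200 10 = true := by decide +kernel
theorem c_fin_3 : allGrid (T.finOK D) 3600 1200 10 = true := by decide +kernel
theorem c_fin_4 : allGrid (T.finOK D) 4800 1200 10 = true := by decide +kernel
theorem c_fin_5 : allGrid (T.finOK D) 6000 1200 10 = true := by decide +kernel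
theorem c_fin_6 : allGrid (T.finOK D) 7200 1200 10 = true := by decide +kernel
theorem c_fin_7 : allGrid (T.finOK D) 8400 1200 10 = true := by decide +kernel
theorem c_fin_8 : allGrid (T.finOK D) 9600 1200 10 = true := by decide +kernel
theorem c_fin_9 : allGrid (T.finOK D) 10800 1200 10 = true := by decide +kernel
theorem c_fin_10 : allGrid (T.finOK D) 12000 1200 10 = true := by decide +kernel
theorem c_fin_11 : allGrid (T.finOK D) 13200 1200 10 = true := by decide +kernel
theorem c_fin_12 : allGrid (T.finOK D) 14400 1200 10 = true := by decide +kernel
theorem c_fin_13 : allGrid (T.finOK D) 15600 1200 10 = true := by decide +kernel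
theorem c_fin_14 : allGrid (T.finOK D) 16800 1200 10 = true := by decide +kernel
theorem c_fin_15 : allGrid (T.finOK D) 18000 1200 10 = true := by decide +kernel
theorem c_fin_16 : allGrid (T.finOK D) 19200 1200 10 = true := by decide +kernel
theorem c_fin_17 : allGrid (T.finOK D) 20400 1200 10 = true := by decide +kernel
theorem c_fin_18 : allGrid (T.finOK D) 21600 1200 10 = true := by decide +kernel
theorem c_fin_19 : allGrid (T.finOK D) 22800 1200 10 = true := by decide +kernel

end Cfsg.Agent.Lib.Helper4.TCD.Fi23a
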