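import Cfsg.Agent.Lib.Helper4.TC7
import Cfsg.Agent.Lib.Helper4.TCP_Fi24
import Cfsg.Agent.Lib.Helper4.TCD_Fi24a_D0
import Cfsg.Agent.Lib.Helper4.TCD_Fi24a_D1
import Cfsg.Agent.Lib.Helper4.TCD_Fi24a_D2
import Cfsg.Agent.Lib.Helper4.TCD_Fi24a_D3
import Cfsg.Agent.Lib.Helper4.TCD_Fi24a_D4
import Cfsg.Agent.Lib.Helper4.TCD_Fi24a_D5
import Cfsg.Agent.Lib.Helper4.TCD_Fi24a_D6
import Cfsg.Agent.Lib.Helper4.TCD_Fi24a_D7
import Cfsg.Agent.Lib.Helper4.TCD_Fi24a_D8
import Cfsg.Agent.Lib.Helper4.TCD_Fi24a_D9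
import Cfsg.Agent.Lib.Helper4.TCD_Fi24a_D10
import Cfsg.Agent.Lib.Helper4.TCD_Fi24a_D11
import Cfsg.Agent.Lib.Helper4.TCD_Fi24a_D12
import Cfsg.Agent.Lib.Helper4.TCD_Fi24a_D13
import Cfsg.Agent.Lib.Helper4.TCD_Fi24a_D14
import Cfsg.Agent.Lib.Helper4.TCD_Fi24a_D15
import Cfsg.Agent.Lib.Helper4.TCD_Fi24a_D16
import Cfsg.Agent.Lib.Helper4.TCD_Fi24a_D17
import Cfsg.Agent.Lib.Helper4.TCD_Fi24a_D18
import Cfsg.Agent.Lib.Helper4.TCD_Fi24a_D19
import Cfsg.Agent.Lib.Helper4.TCD_Fi24a_D20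
import Cfsg.Agent.Lib.Helper4.TCD_Fi24a_D21
import Cfsg.Agent.Lib.Helper4.TCD_Fi24a_D22
import Cfsg.Agent.Lib.Helper4.TCD_Fi24a_D23
import Cfsg.Agent.Lib.Helper4.TCD_Fi24a_D24
import Cfsg.Agent.Lib.Helper4.TCD_Fi24a_D25
import Cfsg.Agent.Lib.Helper4.TCD_Fi24a_D26
import Cfsg.Agent.Lib.Helper4.TCD_Fi24a_D27
import Cfsg.Agent.Lib.Helper4.TCD_Fi24a_D28
import Cfsg.Agent.Lib.Helper4.TCD_Fi24a_D29
import Cfsg.Agent.Lib.Helper4.TCD_Fi24a_D30
import Cfsg.Agent.Lib.Helper4.TCD_Fi24a_D31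
import Cfsg.Agent.Lib.Helper4.TCD_Fi24a_D32
import Cfsg.Agent.Lib.Helper4.TCD_Fi24a_D33
import Cfsg.Agent.Lib.Helper4.TCD_Fi24a_D34
import Cfsg.Agent.Lib.Helper4.TCD_Fi24a_D35
import Cfsg.Agent.Lib.Helper4.TCD_Fi24a_D36
import Cfsg.Agent.Lib.Helper4.TCD_Fi24a_D37
import Cfsg.Agent.Lib.Helper4.TCD_Fi24a_D38
import Cfsg.Agent.Lib.Helper4.TCD_Fi24a_D39
import Cfsg.Agent.Lib.Helper4.TCD_Fi24a_D40
import Cfsg.Agent.Lib.Helper4.TCD_Fi24a_D41
import Cfsg.Agent.Lib.Helper4.TCD_Fi24a_D42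
import Cfsg.Agent.Lib.Helper4.TCD_Fi24a_D43
import Cfsg.Agent.Lib.Helper4.TCD_Fi24a_D44
import Cfsg.Agent.Lib.Helper4.TCD_Fi24a_D45
import Cfsg.Agent.Lib.Helper4.TCD_Fi24a_D46
import Cfsg.Agent.Lib.Helper4.TCD_Fi24a_D47
import Cfsg.Agent.Lib.Helper4.TCD_Fi24a_D48
import Cfsg.Agent.Lib.Helper4.TCD_Fi24a_D49
import Cfsg.Agent.Lib.Helper4.TCD_Fi24a_D50
import Cfsg.Agent.Lib.Helper4.TCD_Fi24a_D51
import Cfsg.Agent.Lib.Helper4.TCD_Fi24a_D52
import Cfsg.Agent.Lib.Helper4.TCD_Fi24a_D53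
import Cfsg.Agent.Lib.Helper4.TCD_Fi24a_D54
import Cfsg.Agent.Lib.Helper4.TCD_Fi24a_D55
import Cfsg.Agent.Lib.Helper4.TCD_Fi24a_D56
import Cfsg.Agent.Lib.Helper4.TCD_Fi24a_D57
import Cfsg.Agent.Lib.Helper4.TCD_Fi24a_D58
import Cfsg.Agent.Lib.Helper4.TCD_Fi24a_D59
import Cfsg.Agent.Lib.Helper4.TCD_Fi24a_D60
import Cfsg.Agent.Lib.Helper4.TCD_Fi24a_D61
import Cfsg.Agent.Lib.Helper4.TCD_Fi24a_D62
import Cfsg.Agent.Lib.Helper4.TCD_Fi24a_D63
import Cfsg.Agent.Lib.Helper4.TCD_Fi24a_D64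
import Cfsg.Agent.Lib.Helper4.TCD_Fi24a_D65
import Cfsg.Agent.Lib.Helper4.TCD_Fi24a_D66
import Cfsg.Agent.Lib.Helper4.TCD_Fi24a_D67
import Cfsg.Agent.Lib.Helper4.TCD_Fi24a_D68
import Cfsg.Agent.Lib.Helper4.TCD_Fi24a_D69
import Cfsg.Agent.Lib.Helper4.TCD_Fi24a_D70
import Cfsg.Agent.Lib.Helper4.TCD_Fi24a_D71
import Cfsg.Agent.Lib.Helper4.TCD_Fi24a_D72
import Cfsg.Agent.Lib.Helper4.TCD_Fi24a_D73
import Cfsg.Agent.Lib.Helper4.TCD_Fi24a_D74
import Cfsg.Agent.Lib.Helper4.TCD_Fi24a_D75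
import Cfsg.Agent.Lib.Helper4.TCD_Fi24a_D76
import Cfsg.Agent.Lib.Helper4.TCD_Fi24a_D77
import Cfsg.Agent.Lib.Helper4.TCD_Fi24a_D78
import Cfsg.Agent.Lib.Helper4.TCD_Fi24a_D79
import Cfsg.Agent.Lib.Helper4.TCD_Fi24a_D80
import Cfsg.Agent.Lib.Helper4.TCD_Fi24a_D81
import Cfsg.Agent.Lib.Helper4.TCD_Fi24a_D82
import Cfsg.Agent.Lib.Helper4.TCD_Fi24a_D83
import Cfsg.Agent.Lib.Helper4.TCD_Fi24a_D84

namespace Cfsg.Agent.Lib.Helper4.TCD.Fi24a

open Cfsg.Agent.Lib.Helper4.TC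

set_option maxRecDepth 100000

noncomputable def Atab_s_0_2 (c : Nat) : Nat := @Bool.rec (fun _ => Nat) (Atab_0) (Atab_1) (Nat.ble 1 c)
noncomputable def Atab_s_2_4 (c : Nat) : Nat := @Bool.rec (fun _ => Nat) (Atab_2) (Atab_3) (Nat.ble 3 c)
noncomputable def Atab_s_0_4 (c : Nat) : Nat := @Bool.rec (fun _ => Nat) (Atab_s_0_2 c) (Atab_s_2_4 c) (Nat.ble 2 c)
noncomputable def Atab_s_4_6 (c : Nat) : Nat := @Bool.rec (fun _ => Nat) (Atab_4) (Atab_5) (Nat.ble 5 c)
noncomputable def Atab_s_6_8 (c : Nat) : Nat := @Bool.rec (fun _ => Nat) (Atab_6) (Atab_7) (Nat.ble 7 c)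
noncomputable def Atab_s_4_8 (c : Nat) : Nat := @Bool.rec (fun _ => Nat) (Atab_s_4_6 c) (Atab_s_6_8 c) (Nat.ble 6 c)
noncomputable def Atab_s_0_8 (c : Nat) : Nat := @Bool.rec (fun _ => Nat) (Atab_s_0_4 c) (Atab_s_4_8 c) (Nat.ble 4 c)
noncomputable def Atab_s_8_10 (c : Nat) : Nat := @Bool.rec (fun _ => Nat) (Atab_8) (Atab_9) (Nat.ble 9 c)
noncomputable def Atab_s_10_12 (c : Nat) : Nat := @Bool.rec (fun _ => Nat) (Atab_10) (Atab_11) (Nat.ble 11 c)
noncomputable def Atab_s_8_12 (c : Nat) : Nat := @Bool.rec (fun _ => Nat) (Atab_s_8_10 c) (Atab_s_10_12 c) (Nat.ble 10 c)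
noncomputable def Atab_s_12_14 (c : Nat) : Nat := @Bool.rec (fun _ => Nat) (Atab_12) (Atab_13) (Nat.ble 13 c)
noncomputable def Atab_s_14_16 (c : Nat) : Nat := @Bool.rec (fun _ => Nat) (Atab_14) (Atab_15) (Nat.ble 15 c)
noncomputable def Atab_s_12_16 (c : Nat) : Nat := @Bool.rec (fun _ => Nat) (Atab_s_12_14 c) (Atab_s_14_16 c) (Nat.ble 14 c)
noncomputable def Atab_s_8_16 (c : Nat) : Nat := @Bool.rec (fun _ => Nat) (Atab_s_8_12 c) (Atab_s_12_16 c) (Nat.ble 12 c)
noncomputable def Atab_s_0_16 (c : Nat) : Nat := @Bool.rec (fun _ => Nat) (Atab_s_0_8 c) (Atab_s_8_16 c) (Nat.ble 8 c)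
noncomputable def Atab_s_16_18 (c : Nat) : Nat := @Bool.rec (fun _ => Nat) (Atab_16) (Atab_17) (Nat.ble 17 c)
noncomputable def Atab_s_18_20 (c : Nat) : Nat := @Bool.rec (fun _ => Nat) (Atab_18) (Atab_19) (Nat.ble 19 c)
noncomputable def Atab_s_16_20 (c : Nat) : Nat := @Bool.rec (fun _ => Nat) (Atab_s_16_18 c) (Atab_s_18_20 c) (Nat.ble 18 c)
noncomputable def Atab_s_20_22 (c : Nat) : Nat := @Bool.rec (fun _ => Nat) (Atab_20) (Atab_21) (Nat.ble 21 c)
noncomputable def Atab_s_22_24 (c : Nat) : Nat := @Bool.rec (fun _ => Nat) (Atab_22) (Atab_23) (Nat.ble 23 c)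
noncomputable def Atab_s_20_24 (c : Nat) : Nat := @Bool.rec (fun _ => Nat) (Atab_s_20_22 c) (Atab_s_22_24 c) (Nat.ble 22 c)
noncomputable def Atab_s_16_24 (c : Nat) : Nat := @Bool.rec (fun _ => Nat) (Atab_s_16_20 c) (Atab_s_20_24 c) (Nat.ble 20 c)
noncomputable def Atab_s_24_26 (c : Nat) : Nat := @Bool.rec (fun _ => Nat) (Atab_24) (Atab_25) (Nat.ble 25 c)
noncomputable def Atab_s_26_28 (c : Nat) : Nat := @Bool.rec (fun _ => Nat) (Atab_26) (Atab_27) (Nat.ble 27 c)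
noncomputable def Atab_s_24_28 (c : Nat) : Nat := @Bool.rec (fun _ => Nat) (Atab_s_24_26 c) (Atab_s_26_28 c) (Nat.ble 26 c)
noncomputable def Atab_s_28_30 (c : Nat) : Nat := @Bool.rec (fun _ => Nat) (Atab_28) (Atab_29) (Nat.ble 29 c)
noncomputable def Atab_s_31_33 (c : Nat) : Nat := @Bool.rec (fun _ => Nat) (Atab_31) (Atab_32) (Nat.ble 32 c)
noncomputable def Atab_s_30_33 (c : Nat) : Nat := @Bool.rec (fun _ => Nat) (Atab_30) (Atab_s_31_33 c) (Nat.ble 31 c)
noncomputable def Atab_s_28_33 (c : Nat) : Nat := @Bool.rec (fun _ => Nat) (Atab_s_28_30 c) (Atab_s_30_33 c) (Nat.ble 30 c)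
noncomputable def Atab_s_24_33 (c : Nat) : Nat := @Bool.rec (fun _ => Nat) (Atab_s_24_28 c) (Atab_s_28_33 c) (Nat.ble 28 c)
noncomputable def Atab_s_16_33 (c : Nat) : Nat := @Bool.rec (fun _ => Nat) (Atab_s_16_24 c) (Atab_s_24_33 c) (Nat.ble 24 c)
noncomputable def Atab_s_0_33 (c : Nat) : Nat := @Bool.rec (fun _ => Nat) (Atab_s_0_16 c) (Atab_s_16_33 c) (Nat.ble 16 c)
noncomputable def Atab_s_33_35 (c : Nat) : Nat := @Bool.rec (fun _ => Nat) (Atab_33) (Atab_34) (Nat.ble 34 c)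
noncomputable def Atab_s_35_37 (c : Nat) : Nat := @Bool.rec (fun _ => Nat) (Atab_35) (Atab_36) (Nat.ble 36 c)
noncomputable def Atab_s_33_37 (c : Nat) : Nat := @Bool.rec (fun _ => Nat) (Atab_s_33_35 c) (Atab_s_35_37 c) (Nat.ble 35 c)
noncomputable def Atab_s_37_39 (c : Nat) : Nat := @Bool.rec (fun _ => Nat) (Atab_37) (Atab_38) (Nat.ble 38 c)
noncomputable def Atab_s_39_41 (c : Nat) : Nat := @Bool.rec (fun _ => Nat) (Atab_39) (Atab_40) (Nat.ble 40 c)
noncomputable def Atab_s_37_41 (c : Nat) : Nat := @Bool.rec (fun _ => Nat) (Atab_s_37_39 c) (Atab_s_39_41 c) (Nat.ble 39 c)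
noncomputable def Atab_s_33_41 (c : Nat) : Nat := @Bool.rec (fun _ => Nat) (Atab_s_33_37 c) (Atab_s_37_41 c) (Nat.ble 37 c)
noncomputable def Atab_s_41_43 (c : Nat) : Nat := @Bool.rec (fun _ => Nat) (Atab_41) (Atab_42) (Nat.ble 42 c)
noncomputable def Atab_s_43_45 (c : Nat) : Nat := @Bool.rec (fun _ => Nat) (Atab_43) (Atab_44) (Nat.ble 44 c)
noncomputable def Atab_s_41_45 (c : Nat) : Nat := @Bool.rec (fun _ => Nat) (Atab_s_41_43 c) (Atab_s_43_45 c) (Nat.ble 43 c)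
noncomputable def Atab_s_45_47 (c : Nat) : Nat := @Bool.rec (fun _ => Nat) (Atab_45) (Atab_46) (Nat.ble 46 c)
noncomputable def Atab_s_48_50 (c : Nat) : Nat := @Bool.rec (fun _ => Nat) (Atab_48) (Atab_49) (Nat.ble 49 c)
noncomputable def Atab_s_47_50 (c : Nat) : Nat := @Bool.rec (fun _ => Nat) (Atab_47) (Atab_s_48_50 c) (Nat.ble 48 c)
noncomputable def Atab_s_45_50 (c : Nat) : Nat := @Bool.rec (fun _ => Nat) (Atab_s_45_47 c) (Atab_s_47_50 c) (Nat.ble 47 c)
noncomputable def Atab_s_41_50 (c : Nat) : Nat := @Bool.rec (fun _ => Nat) (Atab_s_41_45 c) (Atab_s_45_50 c) (Nat.ble 45 c)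
noncomputable def Atab_s_33_50 (c : Nat) : Nat := @Bool.rec (fun _ => Nat) (Atab_s_33_41 c) (Atab_s_41_50 c) (Nat.ble 41 c)
noncomputable def Atab_s_50_52 (c : Nat) : Nat := @Bool.rec (fun _ => Nat) (Atab_50) (Atab_51) (Nat.ble 51 c)
noncomputable def Atab_s_52_54 (c : Nat) : Nat := @Bool.rec (fun _ => Nat) (Atab_52) (Atab_53) (Nat.ble 53 c)
noncomputable def Atab_s_50_54 (c : Nat) : Nat := @Bool.rec (fun _ => Nat) (Atab_s_50_52 c) (Atab_s_52_54 c) (Nat.ble 52 c)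
noncomputable def Atab_s_54_56 (c : Nat) : Nat := @Bool.rec (fun _ => Nat) (Atab_54) (Atab_55) (Nat.ble 55 c)
noncomputable def Atab_s_56_58 (c : Nat) : Nat := @Bool.rec (fun _ => Nat) (Atab_56) (Atab_57) (Nat.ble 57 c)
noncomputable def Atab_s_54_58 (c : Nat) : Nat := @Bool.rec (fun _ => Nat) (Atab_s_54_56 c) (Atab_s_56_58 c) (Nat.ble 56 c)
noncomputable def Atab_s_50_58 (c : Nat) : Nat := @Bool.rec (fun _ => Nat) (Atab_s_50_54 c) (Atab_s_54_58 c) (Nat.ble 54 c)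
noncomputable def Atab_s_58_60 (c : Nat) : Nat := @Bool.rec (fun _ => Nat) (Atab_58) (Atab_59) (Nat.ble 59 c)
noncomputable def Atab_s_60_62 (c : Nat) : Nat := @Bool.rec (fun _ => Nat) (Atab_60) (Atab_61) (Nat.ble 61 c)
noncomputable def Atab_s_58_62 (c : Nat) : Nat := @Bool.rec (fun _ => Nat) (Atab_s_58_60 c) (Atab_s_60_62 c) (Nat.ble 60 c)
noncomputable def Atab_s_62_64 (c : Nat) : Nat := @Bool.rec (fun _ => Nat) (Atab_62) (Atab_63) (Nat.ble 63 c)
noncomputable def Atab_s_65_67 (c : Nat) : Nat := @Bool.rec (fun _ => Nat) (Atab_65) (Atab_66) (Nat.ble 66 c)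
noncomputable def Atab_s_64_67 (c : Nat) : Nat := @Bool.rec (fun _ => Nat) (Atab_64) (Atab_s_65_67 c) (Nat.ble 65 c)
noncomputable def Atab_s_62_67 (c : Nat) : Nat := @Bool.rec (fun _ => Nat) (Atab_s_62_64 c) (Atab_s_64_67 c) (Nat.ble 64 c)
noncomputable def Atab_s_58_67 (c : Nat) : Nat := @Bool.rec (fun _ => Nat) (Atab_s_58_62 c) (Atab_s_62_67 c) (Nat.ble 62 c)
noncomputable def Atab_s_50_67 (c : Nat) : Nat := @Bool.rec (fun _ => Nat) (Atab_s_50_58 c) (Atab_s_58_67 c) (Nat.ble 58 c)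
noncomputable def Atab_s_33_67 (c : Nat) : Nat := @Bool.rec (fun _ => Nat) (Atab_s_33_50 c) (Atab_s_50_67 c) (Nat.ble 50 c)
noncomputable def Atab_s_0_67 (c : Nat) : Nat := @Bool.rec (fun _ => Nat) (Atab_s_0_33 c) (Atab_s_33_67 c) (Nat.ble 33 c)
noncomputable def Atab_s_67_69 (c : Nat) : Nat := @Bool.rec (fun _ => Nat) (Atab_67) (Atab_68) (Nat.ble 68 c)
noncomputable def Atab_s_69_71 (c : Nat) : Nat := @Bool.rec (fun _ => Nat) (Atab_69) (Atab_70) (Nat.ble 70 c)
noncomputable def Atab_s_67_71 (c : Nat) : Nat := @Bool.rec (fun _ => Nat) (Atab_s_67_69 c) (Atab_s_69_71 c) (Nat.ble 69 c)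
noncomputable def Atab_s_71_73 (c : Nat) : Nat := @Bool.rec (fun _ => Nat) (Atab_71) (Atab_72) (Nat.ble 72 c)
noncomputable def Atab_s_73_75 (c : Nat) : Nat := @Bool.rec (fun _ => Nat) (Atab_73) (Atab_74) (Nat.ble 74 c)
noncomputable def Atab_s_71_75 (c : Nat) : Nat := @Bool.rec (fun _ => Nat) (Atab_s_71_73 c) (Atab_s_73_75 c) (Nat.ble 73 c)
noncomputable def Atab_s_67_75 (c : Nat) : Nat := @Bool.rec (fun _ => Nat) (Atab_s_67_71 c) (Atab_s_71_75 c) (Nat.ble 71 c)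
noncomputable def Atab_s_75_77 (c : Nat) : Nat := @Bool.rec (fun _ => Nat) (Atab_75) (Atab_76) (Nat.ble 76 c)
noncomputable def Atab_s_77_79 (c : Nat) : Nat := @Bool.rec (fun _ => Nat) (Atab_77) (Atab_78) (Nat.ble 78 c)
noncomputable def Atab_s_75_79 (c : Nat) : Nat := @Bool.rec (fun _ => Nat) (Atab_s_75_77 c) (Atab_s_77_79 c) (Nat.ble 77 c)
noncomputable def Atab_s_79_81 (c : Nat) : Nat := @Bool.rec (fun _ => Nat) (Atab_79) (Atab_80) (Nat.ble 80 c)
noncomputable def Atab_s_81_83 (c : Nat) : Nat := @Bool.rec (fun _ => Nat) (Atab_81) (Atab_82) (Nat.ble 82 c)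
noncomputable def Atab_s_79_83 (c : Nat) : Nat := @Bool.rec (fun _ => Nat) (Atab_s_79_81 c) (Atab_s_81_83 c) (Nat.ble 81 c)
noncomputable def Atab_s_75_83 (c : Nat) : Nat := @Bool.rec (fun _ => Nat) (Atab_s_75_79 c) (Atab_s_79_83 c) (Nat.ble 79 c)
noncomputable def Atab_s_67_83 (c : Nat) : Nat := @Bool.rec (fun _ => Nat) (Atab_s_67_75 c) (Atab_s_75_83 c) (Nat.ble 75 c)
noncomputable def Atab_s_83_85 (c : Nat) : Nat := @Bool.rec (fun _ => Nat) (Atab_83) (Atab_84) (Nat.ble 84 c)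
noncomputable def Atab_s_85_87 (c : Nat) : Nat := @Bool.rec (fun _ => Nat) (Atab_85) (Atab_86) (Nat.ble 86 c)
noncomputable def Atab_s_83_87 (c : Nat) : Nat := @Bool.rec (fun _ => Nat) (Atab_s_83_85 c) (Atab_s_85_87 c) (Nat.ble 85 c)
noncomputable def Atab_s_87_89 (c : Nat) : Nat := @Bool.rec (fun _ => Nat) (Atab_87) (Atab_88) (Nat.ble 88 c)
noncomputable def Atab_s_89_91 (c : Nat) : Nat := @Bool.rec (fun _ => Nat) (Atab_89) (Atab_90) (Nat.ble 90 c)
noncomputable def Atab_s_87_91 (c : Nat) : Nat := @Bool.rec (fun _ => Nat) (Atab_s_87_89 c) (Atab_s_89_91 c) (Nat.ble 89 c)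
noncomputable def Atab_s_83_91 (c : Nat) : Nat := @Bool.rec (fun _ => Nat) (Atab_s_83_87 c) (Atab_s_87_91 c) (Nat.ble 87 c)
noncomputable def Atab_s_91_93 (c : Nat) : Nat := @Bool.rec (fun _ => Nat) (Atab_91) (Atab_92) (Nat.ble 92 c)
noncomputable def Atab_s_93_95 (c : Nat) : Nat := @Bool.rec (fun _ => Nat) (Atab_93) (Atab_94) (Nat.ble 94 c)
noncomputable def Atab_s_91_95 (c : Nat) : Nat := @Bool.rec (fun _ => Nat) (Atab_s_91_93 c) (Atab_s_93_95 c) (Nat.ble 93 c)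
noncomputable def Atab_s_95_97 (c : Nat) : Nat := @Bool.rec (fun _ => Nat) (Atab_95) (Atab_96) (Nat.ble 96 c)
noncomputable def Atab_s_98_100 (c : Nat) : Nat := @Bool.rec (fun _ => Nat) (Atab_98) (Atab_99) (Nat.ble 99 c)
noncomputable def Atab_s_97_100 (c : Nat) : Nat := @Bool.rec (fun _ => Nat) (Atab_97) (Atab_s_98_100 c) (Nat.ble 98 c)
noncomputable def Atab_s_95_100 (c : Nat) : Nat := @Bool.rec (fun _ => Nat) (Atab_s_95_97 c) (Atab_s_97_100 c) (Nat.ble 97 c)
noncomputable def Atab_s_91_100 (c : Nat) : Nat := @Bool.rec (fun _ => Nat) (Atab_s_91_95 c) (Atab_s_95_100 c) (Nat.ble 95 c)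
noncomputable def Atab_s_83_100 (c : Nat) : Nat := @Bool.rec (fun _ => Nat) (Atab_s_83_91 c) (Atab_s_91_100 c) (Nat.ble 91 c)
noncomputable def Atab_s_67_100 (c : Nat) : Nat := @Bool.rec (fun _ => Nat) (Atab_s_67_83 c) (Atab_s_83_100 c) (Nat.ble 83 c)
noncomputable def Atab_s_100_102 (c : Nat) : Nat := @Bool.rec (fun _ => Nat) (Atab_100) (Atab_101) (Nat.ble 101 c)
noncomputable def Atab_s_102_104 (c : Nat) : Nat := @Bool.rec (fun _ => Nat) (Atab_102) (Atab_103) (Nat.ble 103 c)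
noncomputable def Atab_s_100_104 (c : Nat) : Nat := @Bool.rec (fun _ => Nat) (Atab_s_100_102 c) (Atab_s_102_104 c) (Nat.ble 102 c)
noncomputable def Atab_s_104_106 (c : Nat) : Nat := @Bool.rec (fun _ => Nat) (Atab_104) (Atab_105) (Nat.ble 105 c)
noncomputable def Atab_s_106_108 (c : Nat) : Nat := @Bool.rec (fun _ => Nat) (Atab_106) (Atab_107) (Nat.ble 107 c)
noncomputable def Atab_s_104_108 (c : Nat) : Nat := @Bool.rec (fun _ => Nat) (Atab_s_104_106 c) (Atab_s_106_108 c) (Nat.ble 106 c)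
noncomputable def Atab_s_100_108 (c : Nat) : Nat := @Bool.rec (fun _ => Nat) (Atab_s_100_104 c) (Atab_s_104_108 c) (Nat.ble 104 c)
noncomputable def Atab_s_108_110 (c : Nat) : Nat := @Bool.rec (fun _ => Nat) (Atab_108) (Atab_109) (Nat.ble 109 c)
noncomputable def Atab_s_110_112 (c : Nat) : Nat := @Bool.rec (fun _ => Nat) (Atab_110) (Atab_111) (Nat.ble 111 c)
noncomputable def Atab_s_108_112 (c : Nat) : Nat := @Bool.rec (fun _ => Nat) (Atab_s_108_110 c) (Atab_s_110_112 c) (Nat.ble 110 c)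
noncomputable def Atab_s_112_114 (c : Nat) : Nat := @Bool.rec (fun _ => Nat) (Atab_112) (Atab_113) (Nat.ble 113 c)
noncomputable def Atab_s_115_117 (c : Nat) : Nat := @Bool.rec (fun _ => Nat) (Atab_115) (Atab_116) (Nat.ble 116 c)
noncomputable def Atab_s_114_117 (c : Nat) : Nat := @Bool.rec (fun _ => Nat) (Atab_114) (Atab_s_115_117 c) (Nat.ble 115 c)
noncomputable def Atab_s_112_117 (c : Nat) : Nat := @Bool.rec (fun _ => Nat) (Atab_s_112_114 c) (Atab_s_114_117 c) (Nat.ble 114 c)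
noncomputable def Atab_s_108_117 (c : Nat) : Nat := @Bool.rec (fun _ => Nat) (Atab_s_108_112 c) (Atab_s_112_117 c) (Nat.ble 112 c)
noncomputable def Atab_s_100_117 (c : Nat) : Nat := @Bool.rec (fun _ => Nat) (Atab_s_100_108 c) (Atab_s_108_117 c) (Nat.ble 108 c)
noncomputable def Atab_s_117_119 (c : Nat) : Nat := @Bool.rec (fun _ => Nat) (Atab_117) (Atab_118) (Nat.ble 118 c)
noncomputable def Atab_s_119_121 (c : Nat) : Nat := @Bool.rec (fun _ => Nat) (Atab_119) (Atab_120) (Nat.ble 120 c)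
noncomputable def Atab_s_117_121 (c : Nat) : Nat := @Bool.rec (fun _ => Nat) (Atab_s_117_119 c) (Atab_s_119_121 c) (Nat.ble 119 c)
noncomputable def Atab_s_121_123 (c : Nat) : Nat := @Bool.rec (fun _ => Nat) (Atab_121) (Atab_122) (Nat.ble 122 c)
noncomputable def Atab_s_123_125 (c : Nat) : Nat := @Bool.rec (fun _ => Nat) (Atab_123) (Atab_124) (Nat.ble 124 c)
noncomputable def Atab_s_121_125 (c : Nat) : Nat := @Bool.rec (fun _ => Nat) (Atab_s_121_123 c) (Atab_s_123_125 c) (Nat.ble 123 c)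
noncomputable def Atab_s_117_125 (c : Nat) : Nat := @Bool.rec (fun _ => Nat) (Atab_s_117_121 c) (Atab_s_121_125 c) (Nat.ble 121 c)
noncomputable def Atab_s_125_127 (c : Nat) : Nat := @Bool.rec (fun _ => Nat) (Atab_125) (Atab_126) (Nat.ble 126 c)
noncomputable def Atab_s_127_129 (c : Nat) : Nat := @Bool.rec (fun _ => Nat) (Atab_127) (Atab_128) (Nat.ble 128 c)
noncomputable def Atab_s_125_129 (c : Nat) : Nat := @Bool.rec (fun _ => Nat) (Atab_s_125_127 c) (Atab_s_127_129 c) (Nat.ble 127 c)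
noncomputable def Atab_s_129_131 (c : Nat) : Nat := @Bool.rec (fun _ => Nat) (Atab_129) (Atab_130) (Nat.ble 130 c)
noncomputable def Atab_s_132_134 (c : Nat) : Nat := @Bool.rec (fun _ => Nat) (Atab_132) (Atab_133) (Nat.ble 133 c)
noncomputable def Atab_s_131_134 (c : Nat) : Nat := @Bool.rec (fun _ => Nat) (Atab_131) (Atab_s_132_134 c) (Nat.ble 132 c)
noncomputable def Atab_s_129_134 (c : Nat) : Nat := @Bool.rec (fun _ => Nat) (Atab_s_129_131 c) (Atab_s_131_134 c) (Nat.ble 131 c)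
noncomputable def Atab_s_125_134 (c : Nat) : Nat := @Bool.rec (fun _ => Nat) (Atab_s_125_129 c) (Atab_s_129_134 c) (Nat.ble 129 c)
noncomputable def Atab_s_117_134 (c : Nat) : Nat := @Bool.rec (fun _ => Nat) (Atab_s_117_125 c) (Atab_s_125_134 c) (Nat.ble 125 c)
noncomputable def Atab_s_100_134 (c : Nat) : Nat := @Bool.rec (fun _ => Nat) (Atab_s_100_117 c) (Atab_s_117_134 c) (Nat.ble 117 c)
noncomputable def Atab_s_67_134 (c : Nat) : Nat := @Bool.rec (fun _ => Nat) (Atab_s_67_100 c) (Atab_s_100_134 c) (Nat.ble 100 c)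
noncomputable def Atab_s_0_134 (c : Nat) : Nat := @Bool.rec (fun _ => Nat) (Atab_s_0_67 c) (Atab_s_67_134 c) (Nat.ble 67 c)
noncomputable def Atab_s_134_136 (c : Nat) : Nat := @Bool.rec (fun _ => Nat) (Atab_134) (Atab_135) (Nat.ble 135 c)
noncomputable def Atab_s_136_138 (c : Nat) : Nat := @Bool.rec (fun _ => Nat) (Atab_136) (Atab_137) (Nat.ble 137 c)
noncomputable def Atab_s_134_138 (c : Nat) : Nat := @Bool.rec (fun _ => Nat) (Atab_s_134_136 c) (Atab_s_136_138 c) (Nat.ble 136 c)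
noncomputable def Atab_s_138_140 (c : Nat) : Nat := @Bool.rec (fun _ => Nat) (Atab_138) (Atab_139) (Nat.ble 139 c)
noncomputable def Atab_s_140_142 (c : Nat) : Nat := @Bool.rec (fun _ => Nat) (Atab_140) (Atab_141) (Nat.ble 141 c)
noncomputable def Atab_s_138_142 (c : Nat) : Nat := @Bool.rec (fun _ => Nat) (Atab_s_138_140 c) (Atab_s_140_142 c) (Nat.ble 140 c)
noncomputable def Atab_s_134_142 (c : Nat) : Nat := @Bool.rec (fun _ => Nat) (Atab_s_134_138 c) (Atab_s_138_142 c) (Nat.ble 138 c)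
noncomputable def Atab_s_142_144 (c : Nat) : Nat := @Bool.rec (fun _ => Nat) (Atab_142) (Atab_143) (Nat.ble 143 c)
noncomputable def Atab_s_144_146 (c : Nat) : Nat := @Bool.rec (fun _ => Nat) (Atab_144) (Atab_145) (Nat.ble 145 c)
noncomputable def Atab_s_142_146 (c : Nat) : Nat := @Bool.rec (fun _ => Nat) (Atab_s_142_144 c) (Atab_s_144_146 c) (Nat.ble 144 c)
noncomputable def Atab_s_146_148 (c : Nat) : Nat := @Bool.rec (fun _ => Nat) (Atab_146) (Atab_147) (Nat.ble 147 c)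
noncomputable def Atab_s_148_150 (c : Nat) : Nat := @Bool.rec (fun _ => Nat) (Atab_148) (Atab_149) (Nat.ble 149 c)
noncomputable def Atab_s_146_150 (c : Nat) : Nat := @Bool.rec (fun _ => Nat) (Atab_s_146_148 c) (Atab_s_148_150 c) (Nat.ble 148 c)
noncomputable def Atab_s_142_150 (c : Nat) : Nat := @Bool.rec (fun _ => Nat) (Atab_s_142_146 c) (Atab_s_146_150 c) (Nat.ble 146 c)
noncomputable def Atab_s_134_150 (c : Nat) : Nat := @Bool.rec (fun _ => Nat) (Atab_s_134_142 c) (Atab_s_142_150 c) (Nat.ble 142 c)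
noncomputable def Atab_s_150_152 (c : Nat) : Nat := @Bool.rec (fun _ => Nat) (Atab_150) (Atab_151) (Nat.ble 151 c)
noncomputable def Atab_s_152_154 (c : Nat) : Nat := @Bool.rec (fun _ => Nat) (Atab_152) (Atab_153) (Nat.ble 153 c)
noncomputable def Atab_s_150_154 (c : Nat) : Nat := @Bool.rec (fun _ => Nat) (Atab_s_150_152 c) (Atab_s_152_154 c) (Nat.ble 152 c)
noncomputable def Atab_s_154_156 (c : Nat) : Nat := @Bool.rec (fun _ => Nat) (Atab_154) (Atab_155) (Nat.ble 155 c)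
noncomputable def Atab_s_156_158 (c : Nat) : Nat := @Bool.rec (fun _ => Nat) (Atab_156) (Atab_157) (Nat.ble 157 c)
noncomputable def Atab_s_154_158 (c : Nat) : Nat := @Bool.rec (fun _ => Nat) (Atab_s_154_156 c) (Atab_s_156_158 c) (Nat.ble 156 c)
noncomputable def Atab_s_150_158 (c : Nat) : Nat := @Bool.rec (fun _ => Nat) (Atab_s_150_154 c) (Atab_s_154_158 c) (Nat.ble 154 c)
noncomputable def Atab_s_158_160 (c : Nat) : Nat := @Bool.rec (fun _ => Nat) (Atab_158) (Atab_159) (Nat.ble 159 c)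
noncomputable def Atab_s_160_162 (c : Nat) : Nat := @Bool.rec (fun _ => Nat) (Atab_160) (Atab_161) (Nat.ble 161 c)
noncomputable def Atab_s_158_162 (c : Nat) : Nat := @Bool.rec (fun _ => Nat) (Atab_s_158_160 c) (Atab_s_160_162 c) (Nat.ble 160 c)
noncomputable def Atab_s_162_164 (c : Nat) : Nat := @Bool.rec (fun _ => Nat) (Atab_162) (Atab_163) (Nat.ble 163 c)
noncomputable def Atab_s_165_167 (c : Nat) : Nat := @Bool.rec (fun _ => Nat) (Atab_165) (Atab_166) (Nat.ble 166 c)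
noncomputable def Atab_s_164_167 (c : Nat) : Nat := @Bool.rec (fun _ => Nat) (Atab_164) (Atab_s_165_167 c) (Nat.ble 165 c)
noncomputable def Atab_s_162_167 (c : Nat) : Nat := @Bool.rec (fun _ => Nat) (Atab_s_162_164 c) (Atab_s_164_167 c) (Nat.ble 164 c)
noncomputable def Atab_s_158_167 (c : Nat) : Nat := @Bool.rec (fun _ => Nat) (Atab_s_158_162 c) (Atab_s_162_167 c) (Nat.ble 162 c)
noncomputable def Atab_s_150_167 (c : Nat) : Nat := @Bool.rec (fun _ => Nat) (Atab_s_150_158 c) (Atab_s_158_167 c) (Nat.ble 158 c)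
noncomputable def Atab_s_134_167 (c : Nat) : Nat := @Bool.rec (fun _ => Nat) (Atab_s_134_150 c) (Atab_s_150_167 c) (Nat.ble 150 c)
noncomputable def Atab_s_167_169 (c : Nat) : Nat := @Bool.rec (fun _ => Nat) (Atab_167) (Atab_168) (Nat.ble 168 c)
noncomputable def Atab_s_169_171 (c : Nat) : Nat := @Bool.rec (fun _ => Nat) (Atab_169) (Atab_170) (Nat.ble 170 c)
noncomputable def Atab_s_167_171 (c : Nat) : Nat := @Bool.rec (fun _ => Nat) (Atab_s_167_169 c) (Atab_s_169_171 c) (Nat.ble 169 c)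
noncomputable def Atab_s_171_173 (c : Nat) : Nat := @Bool.rec (fun _ => Nat) (Atab_171) (Atab_172) (Nat.ble 172 c)
noncomputable def Atab_s_173_175 (c : Nat) : Nat := @Bool.rec (fun _ => Nat) (Atab_173) (Atab_174) (Nat.ble 174 c)
noncomputable def Atab_s_171_175 (c : Nat) : Nat := @Bool.rec (fun _ => Nat) (Atab_s_171_173 c) (Atab_s_173_175 c) (Nat.ble 173 c)
noncomputable def Atab_s_167_175 (c : Nat) : Nat := @Bool.rec (fun _ => Nat) (Atab_s_167_171 c) (Atab_s_171_175 c) (Nat.ble 171 c)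
noncomputable def Atab_s_175_177 (c : Nat) : Nat := @Bool.rec (fun _ => Nat) (Atab_175) (Atab_176) (Nat.ble 176 c)
noncomputable def Atab_s_177_179 (c : Nat) : Nat := @Bool.rec (fun _ => Nat) (Atab_177) (Atab_178) (Nat.ble 178 c)
noncomputable def Atab_s_175_179 (c : Nat) : Nat := @Bool.rec (fun _ => Nat) (Atab_s_175_177 c) (Atab_s_177_179 c) (Nat.ble 177 c)
noncomputable def Atab_s_179_181 (c : Nat) : Nat := @Bool.rec (fun _ => Nat) (Atab_179) (Atab_180) (Nat.ble 180 c)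
noncomputable def Atab_s_182_184 (c : Nat) : Nat := @Bool.rec (fun _ => Nat) (Atab_182) (Atab_183) (Nat.ble 183 c)
noncomputable def Atab_s_181_184 (c : Nat) : Nat := @Bool.rec (fun _ => Nat) (Atab_181) (Atab_s_182_184 c) (Nat.ble 182 c)
noncomputable def Atab_s_179_184 (c : Nat) : Nat := @Bool.rec (fun _ => Nat) (Atab_s_179_181 c) (Atab_s_181_184 c) (Nat.ble 181 c)
noncomputable def Atab_s_175_184 (c : Nat) : Nat := @Bool.rec (fun _ => Nat) (Atab_s_175_179 c) (Atab_s_179_184 c) (Nat.ble 179 c)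
noncomputable def Atab_s_167_184 (c : Nat) : Nat := @Bool.rec (fun _ => Nat) (Atab_s_167_175 c) (Atab_s_175_184 c) (Nat.ble 175 c)
noncomputable def Atab_s_184_186 (c : Nat) : Nat := @Bool.rec (fun _ => Nat) (Atab_184) (Atab_185) (Nat.ble 185 c)
noncomputable def Atab_s_186_188 (c : Nat) : Nat := @Bool.rec (fun _ => Nat) (Atab_186) (Atab_187) (Nat.ble 187 c)
noncomputable def Atab_s_184_188 (c : Nat) : Nat := @Bool.rec (fun _ => Nat) (Atab_s_184_186 c) (Atab_s_186_188 c) (Nat.ble 186 c)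
noncomputable def Atab_s_188_190 (c : Nat) : Nat := @Bool.rec (fun _ => Nat) (Atab_188) (Atab_189) (Nat.ble 189 c)
noncomputable def Atab_s_190_192 (c : Nat) : Nat := @Bool.rec (fun _ => Nat) (Atab_190) (Atab_191) (Nat.ble 191 c)
noncomputable def Atab_s_188_192 (c : Nat) : Nat := @Bool.rec (fun _ => Nat) (Atab_s_188_190 c) (Atab_s_190_192 c) (Nat.ble 190 c)
noncomputable def Atab_s_184_192 (c : Nat) : Nat := @Bool.rec (fun _ => Nat) (Atab_s_184_188 c) (Atab_s_188_192 c) (Nat.ble 188 c)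
noncomputable def Atab_s_192_194 (c : Nat) : Nat := @Bool.rec (fun _ => Nat) (Atab_192) (Atab_193) (Nat.ble 193 c)
noncomputable def Atab_s_194_196 (c : Nat) : Nat := @Bool.rec (fun _ => Nat) (Atab_194) (Atab_195) (Nat.ble 195 c)
noncomputable def Atab_s_192_196 (c : Nat) : Nat := @Bool.rec (fun _ => Nat) (Atab_s_192_194 c) (Atab_s_194_196 c) (Nat.ble 194 c)
noncomputable def Atab_s_196_198 (c : Nat) : Nat := @Bool.rec (fun _ => Nat) (Atab_196) (Atab_197) (Nat.ble 197 c)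
noncomputable def Atab_s_199_201 (c : Nat) : Nat := @Bool.rec (fun _ => Nat) (Atab_199) (Atab_200) (Nat.ble 200 c)
noncomputable def Atab_s_198_201 (c : Nat) : Nat := @Bool.rec (fun _ => Nat) (Atab_198) (Atab_s_199_201 c) (Nat.ble 199 c)
noncomputable def Atab_s_196_201 (c : Nat) : Nat := @Bool.rec (fun _ => Nat) (Atab_s_196_198 c) (Atab_s_198_201 c) (Nat.ble 198 c)
noncomputable def Atab_s_192_201 (c : Nat) : Nat := @Bool.rec (fun _ => Nat) (Atab_s_192_196 c) (Atab_s_196_201 c) (Nat.ble 196 c)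
noncomputable def Atab_s_184_201 (c : Nat) : Nat := @Bool.rec (fun _ => Nat) (Atab_s_184_192 c) (Atab_s_192_201 c) (Nat.ble 192 c)
noncomputable def Atab_s_167_201 (c : Nat) : Nat := @Bool.rec (fun _ => Nat) (Atab_s_167_184 c) (Atab_s_184_201 c) (Nat.ble 184 c)
noncomputable def Atab_s_134_201 (c : Nat) : Nat := @Bool.rec (fun _ => Nat) (Atab_s_134_167 c) (Atab_s_167_201 c) (Nat.ble 167 c)
noncomputable def Atab_s_201_203 (c : Nat) : Nat := @Bool.rec (fun _ => Nat) (Atab_201) (Atab_202) (Nat.ble 202 c)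
noncomputable def Atab_s_203_205 (c : Nat) : Nat := @Bool.rec (fun _ => Nat) (Atab_203) (Atab_204) (Nat.ble 204 c)
noncomputable def Atab_s_201_205 (c : Nat) : Nat := @Bool.rec (fun _ => Nat) (Atab_s_201_203 c) (Atab_s_203_205 c) (Nat.ble 203 c)
noncomputable def Atab_s_205_207 (c : Nat) : Nat := @Bool.rec (fun _ => Nat) (Atab_205) (Atab_206) (Nat.ble 206 c)
noncomputable def Atab_s_207_209 (c : Nat) : Nat := @Bool.rec (fun _ => Nat) (Atab_207) (Atab_208) (Nat.ble 208 c)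
noncomputable def Atab_s_205_209 (c : Nat) : Nat := @Bool.rec (fun _ => Nat) (Atab_s_205_207 c) (Atab_s_207_209 c) (Nat.ble 207 c)
noncomputable def Atab_s_201_209 (c : Nat) : Nat := @Bool.rec (fun _ => Nat) (Atab_s_201_205 c) (Atab_s_205_209 c) (Nat.ble 205 c)
noncomputable def Atab_s_209_211 (c : Nat) : Nat := @Bool.rec (fun _ => Nat) (Atab_209) (Atab_210) (Nat.ble 210 c)
noncomputable def Atab_s_211_213 (c : Nat) : Nat := @Bool.rec (fun _ => Nat) (Atab_211) (Atab_212) (Nat.ble 212 c)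
noncomputable def Atab_s_209_213 (c : Nat) : Nat := @Bool.rec (fun _ => Nat) (Atab_s_209_211 c) (Atab_s_211_213 c) (Nat.ble 211 c)
noncomputable def Atab_s_213_215 (c : Nat) : Nat := @Bool.rec (fun _ => Nat) (Atab_213) (Atab_214) (Nat.ble 214 c)
noncomputable def Atab_s_216_218 (c : Nat) : Nat := @Bool.rec (fun _ => Nat) (Atab_216) (Atab_217) (Nat.ble 217 c)
noncomputable def Atab_s_215_218 (c : Nat) : Nat := @Bool.rec (fun _ => Nat) (Atab_215) (Atab_s_216_218 c) (Nat.ble 216 c)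
noncomputable def Atab_s_213_218 (c : Nat) : Nat := @Bool.rec (fun _ => Nat) (Atab_s_213_215 c) (Atab_s_215_218 c) (Nat.ble 215 c)
noncomputable def Atab_s_209_218 (c : Nat) : Nat := @Bool.rec (fun _ => Nat) (Atab_s_209_213 c) (Atab_s_213_218 c) (Nat.ble 213 c)
noncomputable def Atab_s_201_218 (c : Nat) : Nat := @Bool.rec (fun _ => Nat) (Atab_s_201_209 c) (Atab_s_209_218 c) (Nat.ble 209 c)
noncomputable def Atab_s_218_220 (c : Nat) : Nat := @Bool.rec (fun _ => Nat) (Atab_218) (Atab_219) (Nat.ble 219 c)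
noncomputable def Atab_s_220_222 (c : Nat) : Nat := @Bool.rec (fun _ => Nat) (Atab_220) (Atab_221) (Nat.ble 221 c)
noncomputable def Atab_s_218_222 (c : Nat) : Nat := @Bool.rec (fun _ => Nat) (Atab_s_218_220 c) (Atab_s_220_222 c) (Nat.ble 220 c)
noncomputable def Atab_s_222_224 (c : Nat) : Nat := @Bool.rec (fun _ => Nat) (Atab_222) (Atab_223) (Nat.ble 223 c)
noncomputable def Atab_s_224_226 (c : Nat) : Nat := @Bool.rec (fun _ => Nat) (Atab_224) (Atab_225) (Nat.ble 225 c)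
noncomputable def Atab_s_222_226 (c : Nat) : Nat := @Bool.rec (fun _ => Nat) (Atab_s_222_224 c) (Atab_s_224_226 c) (Nat.ble 224 c)
noncomputable def Atab_s_218_226 (c : Nat) : Nat := @Bool.rec (fun _ => Nat) (Atab_s_218_222 c) (Atab_s_222_226 c) (Nat.ble 222 c)
noncomputable def Atab_s_226_228 (c : Nat) : Nat := @Bool.rec (fun _ => Nat) (Atab_226) (Atab_227) (Nat.ble 227 c)
noncomputable def Atab_s_228_230 (c : Nat) : Nat := @Bool.rec (fun _ => Nat) (Atab_228) (Atab_229) (Nat.ble 229 c)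
noncomputable def Atab_s_226_230 (c : Nat) : Nat := @Bool.rec (fun _ => Nat) (Atab_s_226_228 c) (Atab_s_228_230 c) (Nat.ble 228 c)
noncomputable def Atab_s_230_232 (c : Nat) : Nat := @Bool.rec (fun _ => Nat) (Atab_230) (Atab_231) (Nat.ble 231 c)
noncomputable def Atab_s_233_235 (c : Nat) : Nat := @Bool.rec (fun _ => Nat) (Atab_233) (Atab_234) (Nat.ble 234 c)
noncomputable def Atab_s_232_235 (c : Nat) : Nat := @Bool.rec (fun _ => Nat) (Atab_232) (Atab_s_233_235 c) (Nat.ble 233 c)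
noncomputable def Atab_s_230_235 (c : Nat) : Nat := @Bool.rec (fun _ => Nat) (Atab_s_230_232 c) (Atab_s_232_235 c) (Nat.ble 232 c)
noncomputable def Atab_s_226_235 (c : Nat) : Nat := @Bool.rec (fun _ => Nat) (Atab_s_226_230 c) (Atab_s_230_235 c) (Nat.ble 230 c)
noncomputable def Atab_s_218_235 (c : Nat) : Nat := @Bool.rec (fun _ => Nat) (Atab_s_218_226 c) (Atab_s_226_235 c) (Nat.ble 226 c)
noncomputable def Atab_s_201_235 (c : Nat) : Nat := @Bool.rec (fun _ => Nat) (Atab_s_201_218 c) (Atab_s_218_235 c) (Nat.ble 218 c)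
noncomputable def Atab_s_235_237 (c : Nat) : Nat := @Bool.rec (fun _ => Nat) (Atab_235) (Atab_236) (Nat.ble 236 c)
noncomputable def Atab_s_237_239 (c : Nat) : Nat := @Bool.rec (fun _ => Nat) (Atab_237) (Atab_238) (Nat.ble 238 c)
noncomputable def Atab_s_235_239 (c : Nat) : Nat := @Bool.rec (fun _ => Nat) (Atab_s_235_237 c) (Atab_s_237_239 c) (Nat.ble 237 c)
noncomputable def Atab_s_239_241 (c : Nat) : Nat := @Bool.rec (fun _ => Nat) (Atab_239) (Atab_240) (Nat.ble 240 c)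
noncomputable def Atab_s_241_243 (c : Nat) : Nat := @Bool.rec (fun _ => Nat) (Atab_241) (Atab_242) (Nat.ble 242 c)
noncomputable def Atab_s_239_243 (c : Nat) : Nat := @Bool.rec (fun _ => Nat) (Atab_s_239_241 c) (Atab_s_241_243 c) (Nat.ble 241 c)
noncomputable def Atab_s_235_243 (c : Nat) : Nat := @Bool.rec (fun _ => Nat) (Atab_s_235_239 c) (Atab_s_239_243 c) (Nat.ble 239 c)
noncomputable def Atab_s_243_245 (c : Nat) : Nat := @Bool.rec (fun _ => Nat) (Atab_243) (Atab_244) (Nat.ble 244 c)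
noncomputable def Atab_s_245_247 (c : Nat) : Nat := @Bool.rec (fun _ => Nat) (Atab_245) (Atab_246) (Nat.ble 246 c)
noncomputable def Atab_s_243_247 (c : Nat) : Nat := @Bool.rec (fun _ => Nat) (Atab_s_243_245 c) (Atab_s_245_247 c) (Nat.ble 245 c)
noncomputable def Atab_s_247_249 (c : Nat) : Nat := @Bool.rec (fun _ => Nat) (Atab_247) (Atab_248) (Nat.ble 248 c)
noncomputable def Atab_s_250_252 (c : Nat) : Nat := @Bool.rec (fun _ => Nat) (Atab_250) (Atab_251) (Nat.ble 251 c)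
noncomputable def Atab_s_249_252 (c : Nat) : Nat := @Bool.rec (fun _ => Nat) (Atab_249) (Atab_s_250_252 c) (Nat.ble 250 c)
noncomputable def Atab_s_247_252 (c : Nat) : Nat := @Bool.rec (fun _ => Nat) (Atab_s_247_249 c) (Atab_s_249_252 c) (Nat.ble 249 c)
noncomputable def Atab_s_243_252 (c : Nat) : Nat := @Bool.rec (fun _ => Nat) (Atab_s_243_247 c) (Atab_s_247_252 c) (Nat.ble 247 c)
noncomputable def Atab_s_235_252 (c : Nat) : Nat := @Bool.rec (fun _ => Nat) (Atab_s_235_243 c) (Atab_s_243_252 c) (Nat.ble 243 c)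
noncomputable def Atab_s_252_254 (c : Nat) : Nat := @Bool.rec (fun _ => Nat) (Atab_252) (Atab_253) (Nat.ble 253 c)
noncomputable def Atab_s_254_256 (c : Nat) : Nat := @Bool.rec (fun _ => Nat) (Atab_254) (Atab_255) (Nat.ble 255 c)
noncomputable def Atab_s_252_256 (c : Nat) : Nat := @Bool.rec (fun _ => Nat) (Atab_s_252_254 c) (Atab_s_254_256 c) (Nat.ble 254 c)
noncomputable def Atab_s_256_258 (c : Nat) : Nat := @Bool.rec (fun _ => Nat) (Atab_256) (Atab_257) (Nat.ble 257 c)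
noncomputable def Atab_s_258_260 (c : Nat) : Nat := @Bool.rec (fun _ => Nat) (Atab_258) (Atab_259) (Nat.ble 259 c)
noncomputable def Atab_s_256_260 (c : Nat) : Nat := @Bool.rec (fun _ => Nat) (Atab_s_256_258 c) (Atab_s_258_260 c) (Nat.ble 258 c)
noncomputable def Atab_s_252_260 (c : Nat) : Nat := @Bool.rec (fun _ => Nat) (Atab_s_252_256 c) (Atab_s_256_260 c) (Nat.ble 256 c)
noncomputable def Atab_s_260_262 (c : Nat) : Nat := @Bool.rec (fun _ => Nat) (Atab_260) (Atab_261) (Nat.ble 261 c)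
noncomputable def Atab_s_262_264 (c : Nat) : Nat := @Bool.rec (fun _ => Nat) (Atab_262) (Atab_263) (Nat.ble 263 c)
noncomputable def Atab_s_260_264 (c : Nat) : Nat := @Bool.rec (fun _ => Nat) (Atab_s_260_262 c) (Atab_s_262_264 c) (Nat.ble 262 c)
noncomputable def Atab_s_264_266 (c : Nat) : Nat := @Bool.rec (fun _ => Nat) (Atab_264) (Atab_265) (Nat.ble 265 c)
noncomputable def Atab_s_267_269 (c : Nat) : Nat := @Bool.rec (fun _ => Nat) (Atab_267) (Atab_268) (Nat.ble 268 c)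
noncomputable def Atab_s_266_269 (c : Nat) : Nat := @Bool.rec (fun _ => Nat) (Atab_266) (Atab_s_267_269 c) (Nat.ble 267 c)
noncomputable def Atab_s_264_269 (c : Nat) : Nat := @Bool.rec (fun _ => Nat) (Atab_s_264_266 c) (Atab_s_266_269 c) (Nat.ble 266 c)
noncomputable def Atab_s_260_269 (c : Nat) : Nat := @Bool.rec (fun _ => Nat) (Atab_s_260_264 c) (Atab_s_264_269 c) (Nat.ble 264 c)
noncomputable def Atab_s_252_269 (c : Nat) : Nat := @Bool.rec (fun _ => Nat) (Atab_s_252_260 c) (Atab_s_260_269 c) (Nat.ble 260 c)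
noncomputable def Atab_s_235_269 (c : Nat) : Nat := @Bool.rec (fun _ => Nat) (Atab_s_235_252 c) (Atab_s_252_269 c) (Nat.ble 252 c)
noncomputable def Atab_s_201_269 (c : Nat) : Nat := @Bool.rec (fun _ => Nat) (Atab_s_201_235 c) (Atab_s_235_269 c) (Nat.ble 235 c)
noncomputable def Atab_s_134_269 (c : Nat) : Nat := @Bool.rec (fun _ => Nat) (Atab_s_134_201 c) (Atab_s_201_269 c) (Nat.ble 201 c)
noncomputable def Atab_s_0_269 (c : Nat) : Nat := @Bool.rec (fun _ => Nat) (Atab_s_0_134 c) (Atab_s_134_269 c) (Nat.ble 134 c)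
noncomputable def Atab_s_269_271 (c : Nat) : Nat := @Bool.rec (fun _ => Nat) (Atab_269) (Atab_270) (Nat.ble 270 c)
noncomputable def Atab_s_271_273 (c : Nat) : Nat := @Bool.rec (fun _ => Nat) (Atab_271) (Atab_272) (Nat.ble 272 c)
noncomputable def Atab_s_269_273 (c : Nat) : Nat := @Bool.rec (fun _ => Nat) (Atab_s_269_271 c) (Atab_s_271_273 c) (Nat.ble 271 c)
noncomputable def Atab_s_273_275 (c : Nat) : Nat := @Bool.rec (fun _ => Nat) (Atab_273) (Atab_274) (Nat.ble 274 c)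
noncomputable def Atab_s_275_277 (c : Nat) : Nat := @Bool.rec (fun _ => Nat) (Atab_275) (Atab_276) (Nat.ble 276 c)
noncomputable def Atab_s_273_277 (c : Nat) : Nat := @Bool.rec (fun _ => Nat) (Atab_s_273_275 c) (Atab_s_275_277 c) (Nat.ble 275 c)
noncomputable def Atab_s_269_277 (c : Nat) : Nat := @Bool.rec (fun _ => Nat) (Atab_s_269_273 c) (Atab_s_273_277 c) (Nat.ble 273 c)
noncomputable def Atab_s_277_279 (c : Nat) : Nat := @Bool.rec (fun _ => Nat) (Atab_277) (Atab_278) (Nat.ble 278 c)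
noncomputable def Atab_s_279_281 (c : Nat) : Nat := @Bool.rec (fun _ => Nat) (Atab_279) (Atab_280) (Nat.ble 280 c)
noncomputable def Atab_s_277_281 (c : Nat) : Nat := @Bool.rec (fun _ => Nat) (Atab_s_277_279 c) (Atab_s_279_281 c) (Nat.ble 279 c)
noncomputable def Atab_s_281_283 (c : Nat) : Nat := @Bool.rec (fun _ => Nat) (Atab_281) (Atab_282) (Nat.ble 282 c)
noncomputable def Atab_s_283_285 (c : Nat) : Nat := @Bool.rec (fun _ => Nat) (Atab_283) (Atab_284) (Nat.ble 284 c)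
noncomputable def Atab_s_281_285 (c : Nat) : Nat := @Bool.rec (fun _ => Nat) (Atab_s_281_283 c) (Atab_s_283_285 c) (Nat.ble 283 c)
noncomputable def Atab_s_277_285 (c : Nat) : Nat := @Bool.rec (fun _ => Nat) (Atab_s_277_281 c) (Atab_s_281_285 c) (Nat.ble 281 c)
noncomputable def Atab_s_269_285 (c : Nat) : Nat := @Bool.rec (fun _ => Nat) (Atab_s_269_277 c) (Atab_s_277_285 c) (Nat.ble 277 c)
noncomputable def Atab_s_285_287 (c : Nat) : Nat := @Bool.rec (fun _ => Nat) (Atab_285) (Atab_286) (Nat.ble 286 c)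
noncomputable def Atab_s_287_289 (c : Nat) : Nat := @Bool.rec (fun _ => Nat) (Atab_287) (Atab_288) (Nat.ble 288 c)
noncomputable def Atab_s_285_289 (c : Nat) : Nat := @Bool.rec (fun _ => Nat) (Atab_s_285_287 c) (Atab_s_287_289 c) (Nat.ble 287 c)
noncomputable def Atab_s_289_291 (c : Nat) : Nat := @Bool.rec (fun _ => Nat) (Atab_289) (Atab_290) (Nat.ble 290 c)
noncomputable def Atab_s_291_293 (c : Nat) : Nat := @Bool.rec (fun _ => Nat) (Atab_291) (Atab_292) (Nat.ble 292 c)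
noncomputable def Atab_s_289_293 (c : Nat) : Nat := @Bool.rec (fun _ => Nat) (Atab_s_289_291 c) (Atab_s_291_293 c) (Nat.ble 291 c)
noncomputable def Atab_s_285_293 (c : Nat) : Nat := @Bool.rec (fun _ => Nat) (Atab_s_285_289 c) (Atab_s_289_293 c) (Nat.ble 289 c)
noncomputable def Atab_s_293_295 (c : Nat) : Nat := @Bool.rec (fun _ => Nat) (Atab_293) (Atab_294) (Nat.ble 294 c)
noncomputable def Atab_s_295_297 (c : Nat) : Nat := @Bool.rec (fun _ => Nat) (Atab_295) (Atab_296) (Nat.ble 296 c)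
noncomputable def Atab_s_293_297 (c : Nat) : Nat := @Bool.rec (fun _ => Nat) (Atab_s_293_295 c) (Atab_s_295_297 c) (Nat.ble 295 c)
noncomputable def Atab_s_297_299 (c : Nat) : Nat := @Bool.rec (fun _ => Nat) (Atab_297) (Atab_298) (Nat.ble 298 c)
noncomputable def Atab_s_300_302 (c : Nat) : Nat := @Bool.rec (fun _ => Nat) (Atab_300) (Atab_301) (Nat.ble 301 c)
noncomputable def Atab_s_299_302 (c : Nat) : Nat := @Bool.rec (fun _ => Nat) (Atab_299) (Atab_s_300_302 c) (Nat.ble 300 c)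
noncomputable def Atab_s_297_302 (c : Nat) : Nat := @Bool.rec (fun _ => Nat) (Atab_s_297_299 c) (Atab_s_299_302 c) (Nat.ble 299 c)
noncomputable def Atab_s_293_302 (c : Nat) : Nat := @Bool.rec (fun _ => Nat) (Atab_s_293_297 c) (Atab_s_297_302 c) (Nat.ble 297 c)
noncomputable def Atab_s_285_302 (c : Nat) : Nat := @Bool.rec (fun _ => Nat) (Atab_s_285_293 c) (Atab_s_293_302 c) (Nat.ble 293 c)
noncomputable def Atab_s_269_302 (c : Nat) : Nat := @Bool.rec (fun _ => Nat) (Atab_s_269_285 c) (Atab_s_285_302 c) (Nat.ble 285 c)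
noncomputable def Atab_s_302_304 (c : Nat) : Nat := @Bool.rec (fun _ => Nat) (Atab_302) (Atab_303) (Nat.ble 303 c)
noncomputable def Atab_s_304_306 (c : Nat) : Nat := @Bool.rec (fun _ => Nat) (Atab_304) (Atab_305) (Nat.ble 305 c)
noncomputable def Atab_s_302_306 (c : Nat) : Nat := @Bool.rec (fun _ => Nat) (Atab_s_302_304 c) (Atab_s_304_306 c) (Nat.ble 304 c)
noncomputable def Atab_s_306_308 (c : Nat) : Nat := @Bool.rec (fun _ => Nat) (Atab_306) (Atab_307) (Nat.ble 307 c)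
noncomputable def Atab_s_308_310 (c : Nat) : Nat := @Bool.rec (fun _ => Nat) (Atab_308) (Atab_309) (Nat.ble 309 c)
noncomputable def Atab_s_306_310 (c : Nat) : Nat := @Bool.rec (fun _ => Nat) (Atab_s_306_308 c) (Atab_s_308_310 c) (Nat.ble 308 c)
noncomputable def Atab_s_302_310 (c : Nat) : Nat := @Bool.rec (fun _ => Nat) (Atab_s_302_306 c) (Atab_s_306_310 c) (Nat.ble 306 c)
noncomputable def Atab_s_310_312 (c : Nat) : Nat := @Bool.rec (fun _ => Nat) (Atab_310) (Atab_311) (Nat.ble 311 c)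
noncomputable def Atab_s_312_314 (c : Nat) : Nat := @Bool.rec (fun _ => Nat) (Atab_312) (Atab_313) (Nat.ble 313 c)
noncomputable def Atab_s_310_314 (c : Nat) : Nat := @Bool.rec (fun _ => Nat) (Atab_s_310_312 c) (Atab_s_312_314 c) (Nat.ble 312 c)
noncomputable def Atab_s_314_316 (c : Nat) : Nat := @Bool.rec (fun _ => Nat) (Atab_314) (Atab_315) (Nat.ble 315 c)
noncomputable def Atab_s_317_319 (c : Nat) : Nat := @Bool.rec (fun _ => Nat) (Atab_317) (Atab_318) (Nat.ble 318 c)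
noncomputable def Atab_s_316_319 (c : Nat) : Nat := @Bool.rec (fun _ => Nat) (Atab_316) (Atab_s_317_319 c) (Nat.ble 317 c)
noncomputable def Atab_s_314_319 (c : Nat) : Nat := @Bool.rec (fun _ => Nat) (Atab_s_314_316 c) (Atab_s_316_319 c) (Nat.ble 316 c)
noncomputable def Atab_s_310_319 (c : Nat) : Nat := @Bool.rec (fun _ => Nat) (Atab_s_310_314 c) (Atab_s_314_319 c) (Nat.ble 314 c)
noncomputable def Atab_s_302_319 (c : Nat) : Nat := @Bool.rec (fun _ => Nat) (Atab_s_302_310 c) (Atab_s_310_319 c) (Nat.ble 310 c)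
noncomputable def Atab_s_319_321 (c : Nat) : Nat := @Bool.rec (fun _ => Nat) (Atab_319) (Atab_320) (Nat.ble 320 c)
noncomputable def Atab_s_321_323 (c : Nat) : Nat := @Bool.rec (fun _ => Nat) (Atab_321) (Atab_322) (Nat.ble 322 c)
noncomputable def Atab_s_319_323 (c : Nat) : Nat := @Bool.rec (fun _ => Nat) (Atab_s_319_321 c) (Atab_s_321_323 c) (Nat.ble 321 c)
noncomputable def Atab_s_323_325 (c : Nat) : Nat := @Bool.rec (fun _ => Nat) (Atab_323) (Atab_324) (Nat.ble 324 c)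
noncomputable def Atab_s_325_327 (c : Nat) : Nat := @Bool.rec (fun _ => Nat) (Atab_325) (Atab_326) (Nat.ble 326 c)
noncomputable def Atab_s_323_327 (c : Nat) : Nat := @Bool.rec (fun _ => Nat) (Atab_s_323_325 c) (Atab_s_325_327 c) (Nat.ble 325 c)
noncomputable def Atab_s_319_327 (c : Nat) : Nat := @Bool.rec (fun _ => Nat) (Atab_s_319_323 c) (Atab_s_323_327 c) (Nat.ble 323 c)
noncomputable def Atab_s_327_329 (c : Nat) : Nat := @Bool.rec (fun _ => Nat) (Atab_327) (Atab_328) (Nat.ble 328 c)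
noncomputable def Atab_s_329_331 (c : Nat) : Nat := @Bool.rec (fun _ => Nat) (Atab_329) (Atab_330) (Nat.ble 330 c)
noncomputable def Atab_s_327_331 (c : Nat) : Nat := @Bool.rec (fun _ => Nat) (Atab_s_327_329 c) (Atab_s_329_331 c) (Nat.ble 329 c)
noncomputable def Atab_s_331_333 (c : Nat) : Nat := @Bool.rec (fun _ => Nat) (Atab_331) (Atab_332) (Nat.ble 332 c)
noncomputable def Atab_s_334_336 (c : Nat) : Nat := @Bool.rec (fun _ => Nat) (Atab_334) (Atab_335) (Nat.ble 335 c)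
noncomputable def Atab_s_333_336 (c : Nat) : Nat := @Bool.rec (fun _ => Nat) (Atab_333) (Atab_s_334_336 c) (Nat.ble 334 c)
noncomputable def Atab_s_331_336 (c : Nat) : Nat := @Bool.rec (fun _ => Nat) (Atab_s_331_333 c) (Atab_s_333_336 c) (Nat.ble 333 c)
noncomputable def Atab_s_327_336 (c : Nat) : Nat := @Bool.rec (fun _ => Nat) (Atab_s_327_331 c) (Atab_s_331_336 c) (Nat.ble 331 c)
noncomputable def Atab_s_319_336 (c : Nat) : Nat := @Bool.rec (fun _ => Nat) (Atab_s_319_327 c) (Atab_s_327_336 c) (Nat.ble 327 c)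
noncomputable def Atab_s_302_336 (c : Nat) : Nat := @Bool.rec (fun _ => Nat) (Atab_s_302_319 c) (Atab_s_319_336 c) (Nat.ble 319 c)
noncomputable def Atab_s_269_336 (c : Nat) : Nat := @Bool.rec (fun _ => Nat) (Atab_s_269_302 c) (Atab_s_302_336 c) (Nat.ble 302 c)
noncomputable def Atab_s_336_338 (c : Nat) : Nat := @Bool.rec (fun _ => Nat) (Atab_336) (Atab_337) (Nat.ble 337 c)
noncomputable def Atab_s_338_340 (c : Nat) : Nat := @Bool.rec (fun _ => Nat) (Atab_338) (Atab_339) (Nat.ble 339 c)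
noncomputable def Atab_s_336_340 (c : Nat) : Nat := @Bool.rec (fun _ => Nat) (Atab_s_336_338 c) (Atab_s_338_340 c) (Nat.ble 338 c)
noncomputable def Atab_s_340_342 (c : Nat) : Nat := @Bool.rec (fun _ => Nat) (Atab_340) (Atab_341) (Nat.ble 341 c)
noncomputable def Atab_s_342_344 (c : Nat) : Nat := @Bool.rec (fun _ => Nat) (Atab_342) (Atab_343) (Nat.ble 343 c)
noncomputable def Atab_s_340_344 (c : Nat) : Nat := @Bool.rec (fun _ => Nat) (Atab_s_340_342 c) (Atab_s_342_344 c) (Nat.ble 342 c)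
noncomputable def Atab_s_336_344 (c : Nat) : Nat := @Bool.rec (fun _ => Nat) (Atab_s_336_340 c) (Atab_s_340_344 c) (Nat.ble 340 c)
noncomputable def Atab_s_344_346 (c : Nat) : Nat := @Bool.rec (fun _ => Nat) (Atab_344) (Atab_345) (Nat.ble 345 c)
noncomputable def Atab_s_346_348 (c : Nat) : Nat := @Bool.rec (fun _ => Nat) (Atab_346) (Atab_347) (Nat.ble 347 c)
noncomputable def Atab_s_344_348 (c : Nat) : Nat := @Bool.rec (fun _ => Nat) (Atab_s_344_346 c) (Atab_s_346_348 c) (Nat.ble 346 c)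
noncomputable def Atab_s_348_350 (c : Nat) : Nat := @Bool.rec (fun _ => Nat) (Atab_348) (Atab_349) (Nat.ble 349 c)
noncomputable def Atab_s_350_352 (c : Nat) : Nat := @Bool.rec (fun _ => Nat) (Atab_350) (Atab_351) (Nat.ble 351 c)
noncomputable def Atab_s_348_352 (c : Nat) : Nat := @Bool.rec (fun _ => Nat) (Atab_s_348_350 c) (Atab_s_350_352 c) (Nat.ble 350 c)
noncomputable def Atab_s_344_352 (c : Nat) : Nat := @Bool.rec (fun _ => Nat) (Atab_s_344_348 c) (Atab_s_348_352 c) (Nat.ble 348 c)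
noncomputable def Atab_s_336_352 (c : Nat) : Nat := @Bool.rec (fun _ => Nat) (Atab_s_336_344 c) (Atab_s_344_352 c) (Nat.ble 344 c)
noncomputable def Atab_s_352_354 (c : Nat) : Nat := @Bool.rec (fun _ => Nat) (Atab_352) (Atab_353) (Nat.ble 353 c)
noncomputable def Atab_s_354_356 (c : Nat) : Nat := @Bool.rec (fun _ => Nat) (Atab_354) (Atab_355) (Nat.ble 355 c)
noncomputable def Atab_s_352_356 (c : Nat) : Nat := @Bool.rec (fun _ => Nat) (Atab_s_352_354 c) (Atab_s_354_356 c) (Nat.ble 354 c)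
noncomputable def Atab_s_356_358 (c : Nat) : Nat := @Bool.rec (fun _ => Nat) (Atab_356) (Atab_357) (Nat.ble 357 c)
noncomputable def Atab_s_358_360 (c : Nat) : Nat := @Bool.rec (fun _ => Nat) (Atab_358) (Atab_359) (Nat.ble 359 c)
noncomputable def Atab_s_356_360 (c : Nat) : Nat := @Bool.rec (fun _ => Nat) (Atab_s_356_358 c) (Atab_s_358_360 c) (Nat.ble 358 c)
noncomputable def Atab_s_352_360 (c : Nat) : Nat := @Bool.rec (fun _ => Nat) (Atab_s_352_356 c) (Atab_s_356_360 c) (Nat.ble 356 c)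
noncomputable def Atab_s_360_362 (c : Nat) : Nat := @Bool.rec (fun _ => Nat) (Atab_360) (Atab_361) (Nat.ble 361 c)
noncomputable def Atab_s_362_364 (c : Nat) : Nat := @Bool.rec (fun _ => Nat) (Atab_362) (Atab_363) (Nat.ble 363 c)
noncomputable def Atab_s_360_364 (c : Nat) : Nat := @Bool.rec (fun _ => Nat) (Atab_s_360_362 c) (Atab_s_362_364 c) (Nat.ble 362 c)
noncomputable def Atab_s_364_366 (c : Nat) : Nat := @Bool.rec (fun _ => Nat) (Atab_364) (Atab_365) (Nat.ble 365 c)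
noncomputable def Atab_s_367_369 (c : Nat) : Nat := @Bool.rec (fun _ => Nat) (Atab_367) (Atab_368) (Nat.ble 368 c)
noncomputable def Atab_s_366_369 (c : Nat) : Nat := @Bool.rec (fun _ => Nat) (Atab_366) (Atab_s_367_369 c) (Nat.ble 367 c)
noncomputable def Atab_s_364_369 (c : Nat) : Nat := @Bool.rec (fun _ => Nat) (Atab_s_364_366 c) (Atab_s_366_369 c) (Nat.ble 366 c)
noncomputable def Atab_s_360_369 (c : Nat) : Nat := @Bool.rec (fun _ => Nat) (Atab_s_360_364 c) (Atab_s_364_369 c) (Nat.ble 364 c)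
noncomputable def Atab_s_352_369 (c : Nat) : Nat := @Bool.rec (fun _ => Nat) (Atab_s_352_360 c) (Atab_s_360_369 c) (Nat.ble 360 c)
noncomputable def Atab_s_336_369 (c : Nat) : Nat := @Bool.rec (fun _ => Nat) (Atab_s_336_352 c) (Atab_s_352_369 c) (Nat.ble 352 c)
noncomputable def Atab_s_369_371 (c : Nat) : Nat := @Bool.rec (fun _ => Nat) (Atab_369) (Atab_370) (Nat.ble 370 c)
noncomputable def Atab_s_371_373 (c : Nat) : Nat := @Bool.rec (fun _ => Nat) (Atab_371) (Atab_372) (Nat.ble 372 c)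
noncomputable def Atab_s_369_373 (c : Nat) : Nat := @Bool.rec (fun _ => Nat) (Atab_s_369_371 c) (Atab_s_371_373 c) (Nat.ble 371 c)
noncomputable def Atab_s_373_375 (c : Nat) : Nat := @Bool.rec (fun _ => Nat) (Atab_373) (Atab_374) (Nat.ble 374 c)
noncomputable def Atab_s_375_377 (c : Nat) : Nat := @Bool.rec (fun _ => Nat) (Atab_375) (Atab_376) (Nat.ble 376 c)
noncomputable def Atab_s_373_377 (c : Nat) : Nat := @Bool.rec (fun _ => Nat) (Atab_s_373_375 c) (Atab_s_375_377 c) (Nat.ble 375 c)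
noncomputable def Atab_s_369_377 (c : Nat) : Nat := @Bool.rec (fun _ => Nat) (Atab_s_369_373 c) (Atab_s_373_377 c) (Nat.ble 373 c)
noncomputable def Atab_s_377_379 (c : Nat) : Nat := @Bool.rec (fun _ => Nat) (Atab_377) (Atab_378) (Nat.ble 378 c)
noncomputable def Atab_s_379_381 (c : Nat) : Nat := @Bool.rec (fun _ => Nat) (Atab_379) (Atab_380) (Nat.ble 380 c)
noncomputable def Atab_s_377_381 (c : Nat) : Nat := @Bool.rec (fun _ => Nat) (Atab_s_377_379 c) (Atab_s_379_381 c) (Nat.ble 379 c)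
noncomputable def Atab_s_381_383 (c : Nat) : Nat := @Bool.rec (fun _ => Nat) (Atab_381) (Atab_382) (Nat.ble 382 c)
noncomputable def Atab_s_384_386 (c : Nat) : Nat := @Bool.rec (fun _ => Nat) (Atab_384) (Atab_385) (Nat.ble 385 c)
noncomputable def Atab_s_383_386 (c : Nat) : Nat := @Bool.rec (fun _ => Nat) (Atab_383) (Atab_s_384_386 c) (Nat.ble 384 c)
noncomputable def Atab_s_381_386 (c : Nat) : Nat := @Bool.rec (fun _ => Nat) (Atab_s_381_383 c) (Atab_s_383_386 c) (Nat.ble 383 c)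
noncomputable def Atab_s_377_386 (c : Nat) : Nat := @Bool.rec (fun _ => Nat) (Atab_s_377_381 c) (Atab_s_381_386 c) (Nat.ble 381 c)
noncomputable def Atab_s_369_386 (c : Nat) : Nat := @Bool.rec (fun _ => Nat) (Atab_s_369_377 c) (Atab_s_377_386 c) (Nat.ble 377 c)
noncomputable def Atab_s_386_388 (c : Nat) : Nat := @Bool.rec (fun _ => Nat) (Atab_386) (Atab_387) (Nat.ble 387 c)
noncomputable def Atab_s_388_390 (c : Nat) : Nat := @Bool.rec (fun _ => Nat) (Atab_388) (Atab_389) (Nat.ble 389 c)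
noncomputable def Atab_s_386_390 (c : Nat) : Nat := @Bool.rec (fun _ => Nat) (Atab_s_386_388 c) (Atab_s_388_390 c) (Nat.ble 388 c)
noncomputable def Atab_s_390_392 (c : Nat) : Nat := @Bool.rec (fun _ => Nat) (Atab_390) (Atab_391) (Nat.ble 391 c)
noncomputable def Atab_s_392_394 (c : Nat) : Nat := @Bool.rec (fun _ => Nat) (Atab_392) (Atab_393) (Nat.ble 393 c)
noncomputable def Atab_s_390_394 (c : Nat) : Nat := @Bool.rec (fun _ => Nat) (Atab_s_390_392 c) (Atab_s_392_394 c) (Nat.ble 392 c)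
noncomputable def Atab_s_386_394 (c : Nat) : Nat := @Bool.rec (fun _ => Nat) (Atab_s_386_390 c) (Atab_s_390_394 c) (Nat.ble 390 c)
noncomputable def Atab_s_394_396 (c : Nat) : Nat := @Bool.rec (fun _ => Nat) (Atab_394) (Atab_395) (Nat.ble 395 c)
noncomputable def Atab_s_396_398 (c : Nat) : Nat := @Bool.rec (fun _ => Nat) (Atab_396) (Atab_397) (Nat.ble 397 c)
noncomputable def Atab_s_394_398 (c : Nat) : Nat := @Bool.rec (fun _ => Nat) (Atab_s_394_396 c) (Atab_s_396_398 c) (Nat.ble 396 c)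
noncomputable def Atab_s_398_400 (c : Nat) : Nat := @Bool.rec (fun _ => Nat) (Atab_398) (Atab_399) (Nat.ble 399 c)
noncomputable def Atab_s_401_403 (c : Nat) : Nat := @Bool.rec (fun _ => Nat) (Atab_401) (Atab_402) (Nat.ble 402 c)
noncomputable def Atab_s_400_403 (c : Nat) : Nat := @Bool.rec (fun _ => Nat) (Atab_400) (Atab_s_401_403 c) (Nat.ble 401 c)
noncomputable def Atab_s_398_403 (c : Nat) : Nat := @Bool.rec (fun _ => Nat) (Atab_s_398_400 c) (Atab_s_400_403 c) (Nat.ble 400 c)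
noncomputable def Atab_s_394_403 (c : Nat) : Nat := @Bool.rec (fun _ => Nat) (Atab_s_394_398 c) (Atab_s_398_403 c) (Nat.ble 398 c)
noncomputable def Atab_s_386_403 (c : Nat) : Nat := @Bool.rec (fun _ => Nat) (Atab_s_386_394 c) (Atab_s_394_403 c) (Nat.ble 394 c)
noncomputable def Atab_s_369_403 (c : Nat) : Nat := @Bool.rec (fun _ => Nat) (Atab_s_369_386 c) (Atab_s_386_403 c) (Nat.ble 386 c)
noncomputable def Atab_s_336_403 (c : Nat) : Nat := @Bool.rec (fun _ => Nat) (Atab_s_336_369 c) (Atab_s_369_403 c) (Nat.ble 369 c)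
noncomputable def Atab_s_269_403 (c : Nat) : Nat := @Bool.rec (fun _ => Nat) (Atab_s_269_336 c) (Atab_s_336_403 c) (Nat.ble 336 c)
noncomputable def Atab_s_403_405 (c : Nat) : Nat := @Bool.rec (fun _ => Nat) (Atab_403) (Atab_404) (Nat.ble 404 c)
noncomputable def Atab_s_405_407 (c : Nat) : Nat := @Bool.rec (fun _ => Nat) (Atab_405) (Atab_406) (Nat.ble 406 c)
noncomputable def Atab_s_403_407 (c : Nat) : Nat := @Bool.rec (fun _ => Nat) (Atab_s_403_405 c) (Atab_s_405_407 c) (Nat.ble 405 c)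
noncomputable def Atab_s_407_409 (c : Nat) : Nat := @Bool.rec (fun _ => Nat) (Atab_407) (Atab_408) (Nat.ble 408 c)
noncomputable def Atab_s_409_411 (c : Nat) : Nat := @Bool.rec (fun _ => Nat) (Atab_409) (Atab_410) (Nat.ble 410 c)
noncomputable def Atab_s_407_411 (c : Nat) : Nat := @Bool.rec (fun _ => Nat) (Atab_s_407_409 c) (Atab_s_409_411 c) (Nat.ble 409 c)
noncomputable def Atab_s_403_411 (c : Nat) : Nat := @Bool.rec (fun _ => Nat) (Atab_s_403_407 c) (Atab_s_407_411 c) (Nat.ble 407 c)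
noncomputable def Atab_s_411_413 (c : Nat) : Nat := @Bool.rec (fun _ => Nat) (Atab_411) (Atab_412) (Nat.ble 412 c)
noncomputable def Atab_s_413_415 (c : Nat) : Nat := @Bool.rec (fun _ => Nat) (Atab_413) (Atab_414) (Nat.ble 414 c)
noncomputable def Atab_s_411_415 (c : Nat) : Nat := @Bool.rec (fun _ => Nat) (Atab_s_411_413 c) (Atab_s_413_415 c) (Nat.ble 413 c)
noncomputable def Atab_s_415_417 (c : Nat) : Nat := @Bool.rec (fun _ => Nat) (Atab_415) (Atab_416) (Nat.ble 416 c)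
noncomputable def Atab_s_417_419 (c : Nat) : Nat := @Bool.rec (fun _ => Nat) (Atab_417) (Atab_418) (Nat.ble 418 c)
noncomputable def Atab_s_415_419 (c : Nat) : Nat := @Bool.rec (fun _ => Nat) (Atab_s_415_417 c) (Atab_s_417_419 c) (Nat.ble 417 c)
noncomputable def Atab_s_411_419 (c : Nat) : Nat := @Bool.rec (fun _ => Nat) (Atab_s_411_415 c) (Atab_s_415_419 c) (Nat.ble 415 c)
noncomputable def Atab_s_403_419 (c : Nat) : Nat := @Bool.rec (fun _ => Nat) (Atab_s_403_411 c) (Atab_s_411_419 c) (Nat.ble 411 c)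
noncomputable def Atab_s_419_421 (c : Nat) : Nat := @Bool.rec (fun _ => Nat) (Atab_419) (Atab_420) (Nat.ble 420 c)
noncomputable def Atab_s_421_423 (c : Nat) : Nat := @Bool.rec (fun _ => Nat) (Atab_421) (Atab_422) (Nat.ble 422 c)
noncomputable def Atab_s_419_423 (c : Nat) : Nat := @Bool.rec (fun _ => Nat) (Atab_s_419_421 c) (Atab_s_421_423 c) (Nat.ble 421 c)
noncomputable def Atab_s_423_425 (c : Nat) : Nat := @Bool.rec (fun _ => Nat) (Atab_423) (Atab_424) (Nat.ble 424 c)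
noncomputable def Atab_s_425_427 (c : Nat) : Nat := @Bool.rec (fun _ => Nat) (Atab_425) (Atab_426) (Nat.ble 426 c)
noncomputable def Atab_s_423_427 (c : Nat) : Nat := @Bool.rec (fun _ => Nat) (Atab_s_423_425 c) (Atab_s_425_427 c) (Nat.ble 425 c)
noncomputable def Atab_s_419_427 (c : Nat) : Nat := @Bool.rec (fun _ => Nat) (Atab_s_419_423 c) (Atab_s_423_427 c) (Nat.ble 423 c)
noncomputable def Atab_s_427_429 (c : Nat) : Nat := @Bool.rec (fun _ => Nat) (Atab_427) (Atab_428) (Nat.ble 428 c)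
noncomputable def Atab_s_429_431 (c : Nat) : Nat := @Bool.rec (fun _ => Nat) (Atab_429) (Atab_430) (Nat.ble 430 c)
noncomputable def Atab_s_427_431 (c : Nat) : Nat := @Bool.rec (fun _ => Nat) (Atab_s_427_429 c) (Atab_s_429_431 c) (Nat.ble 429 c)
noncomputable def Atab_s_431_433 (c : Nat) : Nat := @Bool.rec (fun _ => Nat) (Atab_431) (Atab_432) (Nat.ble 432 c)
noncomputable def Atab_s_434_436 (c : Nat) : Nat := @Bool.rec (fun _ => Nat) (Atab_434) (Atab_435) (Nat.ble 435 c)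
noncomputable def Atab_s_433_436 (c : Nat) : Nat := @Bool.rec (fun _ => Nat) (Atab_433) (Atab_s_434_436 c) (Nat.ble 434 c)
noncomputable def Atab_s_431_436 (c : Nat) : Nat := @Bool.rec (fun _ => Nat) (Atab_s_431_433 c) (Atab_s_433_436 c) (Nat.ble 433 c)
noncomputable def Atab_s_427_436 (c : Nat) : Nat := @Bool.rec (fun _ => Nat) (Atab_s_427_431 c) (Atab_s_431_436 c) (Nat.ble 431 c)
noncomputable def Atab_s_419_436 (c : Nat) : Nat := @Bool.rec (fun _ => Nat) (Atab_s_419_427 c) (Atab_s_427_436 c) (Nat.ble 427 c)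
noncomputable def Atab_s_403_436 (c : Nat) : Nat := @Bool.rec (fun _ => Nat) (Atab_s_403_419 c) (Atab_s_419_436 c) (Nat.ble 419 c)
noncomputable def Atab_s_436_438 (c : Nat) : Nat := @Bool.rec (fun _ => Nat) (Atab_436) (Atab_437) (Nat.ble 437 c)
noncomputable def Atab_s_438_440 (c : Nat) : Nat := @Bool.rec (fun _ => Nat) (Atab_438) (Atab_439) (Nat.ble 439 c)
noncomputable def Atab_s_436_440 (c : Nat) : Nat := @Bool.rec (fun _ => Nat) (Atab_s_436_438 c) (Atab_s_438_440 c) (Nat.ble 438 c)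
noncomputable def Atab_s_440_442 (c : Nat) : Nat := @Bool.rec (fun _ => Nat) (Atab_440) (Atab_441) (Nat.ble 441 c)
noncomputable def Atab_s_442_444 (c : Nat) : Nat := @Bool.rec (fun _ => Nat) (Atab_442) (Atab_443) (Nat.ble 443 c)
noncomputable def Atab_s_440_444 (c : Nat) : Nat := @Bool.rec (fun _ => Nat) (Atab_s_440_442 c) (Atab_s_442_444 c) (Nat.ble 442 c)
noncomputable def Atab_s_436_444 (c : Nat) : Nat := @Bool.rec (fun _ => Nat) (Atab_s_436_440 c) (Atab_s_440_444 c) (Nat.ble 440 c)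
noncomputable def Atab_s_444_446 (c : Nat) : Nat := @Bool.rec (fun _ => Nat) (Atab_444) (Atab_445) (Nat.ble 445 c)
noncomputable def Atab_s_446_448 (c : Nat) : Nat := @Bool.rec (fun _ => Nat) (Atab_446) (Atab_447) (Nat.ble 447 c)
noncomputable def Atab_s_444_448 (c : Nat) : Nat := @Bool.rec (fun _ => Nat) (Atab_s_444_446 c) (Atab_s_446_448 c) (Nat.ble 446 c)
noncomputable def Atab_s_448_450 (c : Nat) : Nat := @Bool.rec (fun _ => Nat) (Atab_448) (Atab_449) (Nat.ble 449 c)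
noncomputable def Atab_s_451_453 (c : Nat) : Nat := @Bool.rec (fun _ => Nat) (Atab_451) (Atab_452) (Nat.ble 452 c)
noncomputable def Atab_s_450_453 (c : Nat) : Nat := @Bool.rec (fun _ => Nat) (Atab_450) (Atab_s_451_453 c) (Nat.ble 451 c)
noncomputable def Atab_s_448_453 (c : Nat) : Nat := @Bool.rec (fun _ => Nat) (Atab_s_448_450 c) (Atab_s_450_453 c) (Nat.ble 450 c)
noncomputable def Atab_s_444_453 (c : Nat) : Nat := @Bool.rec (fun _ => Nat) (Atab_s_444_448 c) (Atab_s_448_453 c) (Nat.ble 448 c)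
noncomputable def Atab_s_436_453 (c : Nat) : Nat := @Bool.rec (fun _ => Nat) (Atab_s_436_444 c) (Atab_s_444_453 c) (Nat.ble 444 c)
noncomputable def Atab_s_453_455 (c : Nat) : Nat := @Bool.rec (fun _ => Nat) (Atab_453) (Atab_454) (Nat.ble 454 c)
noncomputable def Atab_s_455_457 (c : Nat) : Nat := @Bool.rec (fun _ => Nat) (Atab_455) (Atab_456) (Nat.ble 456 c)
noncomputable def Atab_s_453_457 (c : Nat) : Nat := @Bool.rec (fun _ => Nat) (Atab_s_453_455 c) (Atab_s_455_457 c) (Nat.ble 455 c)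
noncomputable def Atab_s_457_459 (c : Nat) : Nat := @Bool.rec (fun _ => Nat) (Atab_457) (Atab_458) (Nat.ble 458 c)
noncomputable def Atab_s_459_461 (c : Nat) : Nat := @Bool.rec (fun _ => Nat) (Atab_459) (Atab_460) (Nat.ble 460 c)
noncomputable def Atab_s_457_461 (c : Nat) : Nat := @Bool.rec (fun _ => Nat) (Atab_s_457_459 c) (Atab_s_459_461 c) (Nat.ble 459 c)
noncomputable def Atab_s_453_461 (c : Nat) : Nat := @Bool.rec (fun _ => Nat) (Atab_s_453_457 c) (Atab_s_457_461 c) (Nat.ble 457 c)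
noncomputable def Atab_s_461_463 (c : Nat) : Nat := @Bool.rec (fun _ => Nat) (Atab_461) (Atab_462) (Nat.ble 462 c)
noncomputable def Atab_s_463_465 (c : Nat) : Nat := @Bool.rec (fun _ => Nat) (Atab_463) (Atab_464) (Nat.ble 464 c)
noncomputable def Atab_s_461_465 (c : Nat) : Nat := @Bool.rec (fun _ => Nat) (Atab_s_461_463 c) (Atab_s_463_465 c) (Nat.ble 463 c)
noncomputable def Atab_s_465_467 (c : Nat) : Nat := @Bool.rec (fun _ => Nat) (Atab_465) (Atab_466) (Nat.ble 466 c)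
noncomputable def Atab_s_468_470 (c : Nat) : Nat := @Bool.rec (fun _ => Nat) (Atab_468) (Atab_469) (Nat.ble 469 c)
noncomputable def Atab_s_467_470 (c : Nat) : Nat := @Bool.rec (fun _ => Nat) (Atab_467) (Atab_s_468_470 c) (Nat.ble 468 c)
noncomputable def Atab_s_465_470 (c : Nat) : Nat := @Bool.rec (fun _ => Nat) (Atab_s_465_467 c) (Atab_s_467_470 c) (Nat.ble 467 c)
noncomputable def Atab_s_461_470 (c : Nat) : Nat := @Bool.rec (fun _ => Nat) (Atab_s_461_465 c) (Atab_s_465_470 c) (Nat.ble 465 c)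
noncomputable def Atab_s_453_470 (c : Nat) : Nat := @Bool.rec (fun _ => Nat) (Atab_s_453_461 c) (Atab_s_461_470 c) (Nat.ble 461 c)
noncomputable def Atab_s_436_470 (c : Nat) : Nat := @Bool.rec (fun _ => Nat) (Atab_s_436_453 c) (Atab_s_453_470 c) (Nat.ble 453 c)
noncomputable def Atab_s_403_470 (c : Nat) : Nat := @Bool.rec (fun _ => Nat) (Atab_s_403_436 c) (Atab_s_436_470 c) (Nat.ble 436 c)
noncomputable def Atab_s_470_472 (c : Nat) : Nat := @Bool.rec (fun _ => Nat) (Atab_470) (Atab_471) (Nat.ble 471 c)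
noncomputable def Atab_s_472_474 (c : Nat) : Nat := @Bool.rec (fun _ => Nat) (Atab_472) (Atab_473) (Nat.ble 473 c)
noncomputable def Atab_s_470_474 (c : Nat) : Nat := @Bool.rec (fun _ => Nat) (Atab_s_470_472 c) (Atab_s_472_474 c) (Nat.ble 472 c)
noncomputable def Atab_s_474_476 (c : Nat) : Nat := @Bool.rec (fun _ => Nat) (Atab_474) (Atab_475) (Nat.ble 475 c)
noncomputable def Atab_s_476_478 (c : Nat) : Nat := @Bool.rec (fun _ => Nat) (Atab_476) (Atab_477) (Nat.ble 477 c)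
noncomputable def Atab_s_474_478 (c : Nat) : Nat := @Bool.rec (fun _ => Nat) (Atab_s_474_476 c) (Atab_s_476_478 c) (Nat.ble 476 c)
noncomputable def Atab_s_470_478 (c : Nat) : Nat := @Bool.rec (fun _ => Nat) (Atab_s_470_474 c) (Atab_s_474_478 c) (Nat.ble 474 c)
noncomputable def Atab_s_478_480 (c : Nat) : Nat := @Bool.rec (fun _ => Nat) (Atab_478) (Atab_479) (Nat.ble 479 c)
noncomputable def Atab_s_480_482 (c : Nat) : Nat := @Bool.rec (fun _ => Nat) (Atab_480) (Atab_481) (Nat.ble 481 c)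
noncomputable def Atab_s_478_482 (c : Nat) : Nat := @Bool.rec (fun _ => Nat) (Atab_s_478_480 c) (Atab_s_480_482 c) (Nat.ble 480 c)
noncomputable def Atab_s_482_484 (c : Nat) : Nat := @Bool.rec (fun _ => Nat) (Atab_482) (Atab_483) (Nat.ble 483 c)
noncomputable def Atab_s_485_487 (c : Nat) : Nat := @Bool.rec (fun _ => Nat) (Atab_485) (Atab_486) (Nat.ble 486 c)
noncomputable def Atab_s_484_487 (c : Nat) : Nat := @Bool.rec (fun _ => Nat) (Atab_484) (Atab_s_485_487 c) (Nat.ble 485 c)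
noncomputable def Atab_s_482_487 (c : Nat) : Nat := @Bool.rec (fun _ => Nat) (Atab_s_482_484 c) (Atab_s_484_487 c) (Nat.ble 484 c)
noncomputable def Atab_s_478_487 (c : Nat) : Nat := @Bool.rec (fun _ => Nat) (Atab_s_478_482 c) (Atab_s_482_487 c) (Nat.ble 482 c)
noncomputable def Atab_s_470_487 (c : Nat) : Nat := @Bool.rec (fun _ => Nat) (Atab_s_470_478 c) (Atab_s_478_487 c) (Nat.ble 478 c)
noncomputable def Atab_s_487_489 (c : Nat) : Nat := @Bool.rec (fun _ => Nat) (Atab_487) (Atab_488) (Nat.ble 488 c)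
noncomputable def Atab_s_489_491 (c : Nat) : Nat := @Bool.rec (fun _ => Nat) (Atab_489) (Atab_490) (Nat.ble 490 c)
noncomputable def Atab_s_487_491 (c : Nat) : Nat := @Bool.rec (fun _ => Nat) (Atab_s_487_489 c) (Atab_s_489_491 c) (Nat.ble 489 c)
noncomputable def Atab_s_491_493 (c : Nat) : Nat := @Bool.rec (fun _ => Nat) (Atab_491) (Atab_492) (Nat.ble 492 c)
noncomputable def Atab_s_493_495 (c : Nat) : Nat := @Bool.rec (fun _ => Nat) (Atab_493) (Atab_494) (Nat.ble 494 c)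
noncomputable def Atab_s_491_495 (c : Nat) : Nat := @Bool.rec (fun _ => Nat) (Atab_s_491_493 c) (Atab_s_493_495 c) (Nat.ble 493 c)
noncomputable def Atab_s_487_495 (c : Nat) : Nat := @Bool.rec (fun _ => Nat) (Atab_s_487_491 c) (Atab_s_491_495 c) (Nat.ble 491 c)
noncomputable def Atab_s_495_497 (c : Nat) : Nat := @Bool.rec (fun _ => Nat) (Atab_495) (Atab_496) (Nat.ble 496 c)
noncomputable def Atab_s_497_499 (c : Nat) : Nat := @Bool.rec (fun _ => Nat) (Atab_497) (Atab_498) (Nat.ble 498 c)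
noncomputable def Atab_s_495_499 (c : Nat) : Nat := @Bool.rec (fun _ => Nat) (Atab_s_495_497 c) (Atab_s_497_499 c) (Nat.ble 497 c)
noncomputable def Atab_s_499_501 (c : Nat) : Nat := @Bool.rec (fun _ => Nat) (Atab_499) (Atab_500) (Nat.ble 500 c)
noncomputable def Atab_s_502_504 (c : Nat) : Nat := @Bool.rec (fun _ => Nat) (Atab_502) (Atab_503) (Nat.ble 503 c)
noncomputable def Atab_s_501_504 (c : Nat) : Nat := @Bool.rec (fun _ => Nat) (Atab_501) (Atab_s_502_504 c) (Nat.ble 502 c)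
noncomputable def Atab_s_499_504 (c : Nat) : Nat := @Bool.rec (fun _ => Nat) (Atab_s_499_501 c) (Atab_s_501_504 c) (Nat.ble 501 c)
noncomputable def Atab_s_495_504 (c : Nat) : Nat := @Bool.rec (fun _ => Nat) (Atab_s_495_499 c) (Atab_s_499_504 c) (Nat.ble 499 c)
noncomputable def Atab_s_487_504 (c : Nat) : Nat := @Bool.rec (fun _ => Nat) (Atab_s_487_495 c) (Atab_s_495_504 c) (Nat.ble 495 c)
noncomputable def Atab_s_470_504 (c : Nat) : Nat := @Bool.rec (fun _ => Nat) (Atab_s_470_487 c) (Atab_s_487_504 c) (Nat.ble 487 c)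
noncomputable def Atab_s_504_506 (c : Nat) : Nat := @Bool.rec (fun _ => Nat) (Atab_504) (Atab_505) (Nat.ble 505 c)
noncomputable def Atab_s_506_508 (c : Nat) : Nat := @Bool.rec (fun _ => Nat) (Atab_506) (Atab_507) (Nat.ble 507 c)
noncomputable def Atab_s_504_508 (c : Nat) : Nat := @Bool.rec (fun _ => Nat) (Atab_s_504_506 c) (Atab_s_506_508 c) (Nat.ble 506 c)
noncomputable def Atab_s_508_510 (c : Nat) : Nat := @Bool.rec (fun _ => Nat) (Atab_508) (Atab_509) (Nat.ble 509 c)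
noncomputable def Atab_s_510_512 (c : Nat) : Nat := @Bool.rec (fun _ => Nat) (Atab_510) (Atab_511) (Nat.ble 511 c)
noncomputable def Atab_s_508_512 (c : Nat) : Nat := @Bool.rec (fun _ => Nat) (Atab_s_508_510 c) (Atab_s_510_512 c) (Nat.ble 510 c)
noncomputable def Atab_s_504_512 (c : Nat) : Nat := @Bool.rec (fun _ => Nat) (Atab_s_504_508 c) (Atab_s_508_512 c) (Nat.ble 508 c)
noncomputable def Atab_s_512_514 (c : Nat) : Nat := @Bool.rec (fun _ => Nat) (Atab_512) (Atab_513) (Nat.ble 513 c)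
noncomputable def Atab_s_514_516 (c : Nat) : Nat := @Bool.rec (fun _ => Nat) (Atab_514) (Atab_515) (Nat.ble 515 c)
noncomputable def Atab_s_512_516 (c : Nat) : Nat := @Bool.rec (fun _ => Nat) (Atab_s_512_514 c) (Atab_s_514_516 c) (Nat.ble 514 c)
noncomputable def Atab_s_516_518 (c : Nat) : Nat := @Bool.rec (fun _ => Nat) (Atab_516) (Atab_517) (Nat.ble 517 c)
noncomputable def Atab_s_519_521 (c : Nat) : Nat := @Bool.rec (fun _ => Nat) (Atab_519) (Atab_520) (Nat.ble 520 c)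
noncomputable def Atab_s_518_521 (c : Nat) : Nat := @Bool.rec (fun _ => Nat) (Atab_518) (Atab_s_519_521 c) (Nat.ble 519 c)
noncomputable def Atab_s_516_521 (c : Nat) : Nat := @Bool.rec (fun _ => Nat) (Atab_s_516_518 c) (Atab_s_518_521 c) (Nat.ble 518 c)
noncomputable def Atab_s_512_521 (c : Nat) : Nat := @Bool.rec (fun _ => Nat) (Atab_s_512_516 c) (Atab_s_516_521 c) (Nat.ble 516 c)
noncomputable def Atab_s_504_521 (c : Nat) : Nat := @Bool.rec (fun _ => Nat) (Atab_s_504_512 c) (Atab_s_512_521 c) (Nat.ble 512 c)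
noncomputable def Atab_s_521_523 (c : Nat) : Nat := @Bool.rec (fun _ => Nat) (Atab_521) (Atab_522) (Nat.ble 522 c)
noncomputable def Atab_s_523_525 (c : Nat) : Nat := @Bool.rec (fun _ => Nat) (Atab_523) (Atab_524) (Nat.ble 524 c)
noncomputable def Atab_s_521_525 (c : Nat) : Nat := @Bool.rec (fun _ => Nat) (Atab_s_521_523 c) (Atab_s_523_525 c) (Nat.ble 523 c)
noncomputable def Atab_s_525_527 (c : Nat) : Nat := @Bool.rec (fun _ => Nat) (Atab_525) (Atab_526) (Nat.ble 526 c)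
noncomputable def Atab_s_527_529 (c : Nat) : Nat := @Bool.rec (fun _ => Nat) (Atab_527) (Atab_528) (Nat.ble 528 c)
noncomputable def Atab_s_525_529 (c : Nat) : Nat := @Bool.rec (fun _ => Nat) (Atab_s_525_527 c) (Atab_s_527_529 c) (Nat.ble 527 c)
noncomputable def Atab_s_521_529 (c : Nat) : Nat := @Bool.rec (fun _ => Nat) (Atab_s_521_525 c) (Atab_s_525_529 c) (Nat.ble 525 c)
noncomputable def Atab_s_529_531 (c : Nat) : Nat := @Bool.rec (fun _ => Nat) (Atab_529) (Atab_530) (Nat.ble 530 c)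
noncomputable def Atab_s_531_533 (c : Nat) : Nat := @Bool.rec (fun _ => Nat) (Atab_531) (Atab_532) (Nat.ble 532 c)
noncomputable def Atab_s_529_533 (c : Nat) : Nat := @Bool.rec (fun _ => Nat) (Atab_s_529_531 c) (Atab_s_531_533 c) (Nat.ble 531 c)
noncomputable def Atab_s_533_535 (c : Nat) : Nat := @Bool.rec (fun _ => Nat) (Atab_533) (Atab_534) (Nat.ble 534 c)
noncomputable def Atab_s_536_538 (c : Nat) : Nat := @Bool.rec (fun _ => Nat) (Atab_536) (Atab_537) (Nat.ble 537 c)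
noncomputable def Atab_s_535_538 (c : Nat) : Nat := @Bool.rec (fun _ => Nat) (Atab_535) (Atab_s_536_538 c) (Nat.ble 536 c)
noncomputable def Atab_s_533_538 (c : Nat) : Nat := @Bool.rec (fun _ => Nat) (Atab_s_533_535 c) (Atab_s_535_538 c) (Nat.ble 535 c)
noncomputable def Atab_s_529_538 (c : Nat) : Nat := @Bool.rec (fun _ => Nat) (Atab_s_529_533 c) (Atab_s_533_538 c) (Nat.ble 533 c)
noncomputable def Atab_s_521_538 (c : Nat) : Nat := @Bool.rec (fun _ => Nat) (Atab_s_521_529 c) (Atab_s_529_538 c) (Nat.ble 529 c)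
noncomputable def Atab_s_504_538 (c : Nat) : Nat := @Bool.rec (fun _ => Nat) (Atab_s_504_521 c) (Atab_s_521_538 c) (Nat.ble 521 c)
noncomputable def Atab_s_470_538 (c : Nat) : Nat := @Bool.rec (fun _ => Nat) (Atab_s_470_504 c) (Atab_s_504_538 c) (Nat.ble 504 c)
noncomputable def Atab_s_403_538 (c : Nat) : Nat := @Bool.rec (fun _ => Nat) (Atab_s_403_470 c) (Atab_s_470_538 c) (Nat.ble 470 c)
noncomputable def Atab_s_269_538 (c : Nat) : Nat := @Bool.rec (fun _ => Nat) (Atab_s_269_403 c) (Atab_s_403_538 c) (Nat.ble 403 c)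
noncomputable def Atab_s_0_538 (c : Nat) : Nat := @Bool.rec (fun _ => Nat) (Atab_s_0_269 c) (Atab_s_269_538 c) (Nat.ble 269 c)
noncomputable def Atab_s_538_540 (c : Nat) : Nat := @Bool.rec (fun _ => Nat) (Atab_538) (Atab_539) (Nat.ble 539 c)
noncomputable def Atab_s_540_542 (c : Nat) : Nat := @Bool.rec (fun _ => Nat) (Atab_540) (Atab_541) (Nat.ble 541 c)
noncomputable def Atab_s_538_542 (c : Nat) : Nat := @Bool.rec (fun _ => Nat) (Atab_s_538_540 c) (Atab_s_540_542 c) (Nat.ble 540 c)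
noncomputable def Atab_s_542_544 (c : Nat) : Nat := @Bool.rec (fun _ => Nat) (Atab_542) (Atab_543) (Nat.ble 543 c)
noncomputable def Atab_s_544_546 (c : Nat) : Nat := @Bool.rec (fun _ => Nat) (Atab_544) (Atab_545) (Nat.ble 545 c)
noncomputable def Atab_s_542_546 (c : Nat) : Nat := @Bool.rec (fun _ => Nat) (Atab_s_542_544 c) (Atab_s_544_546 c) (Nat.ble 544 c)
noncomputable def Atab_s_538_546 (c : Nat) : Nat := @Bool.rec (fun _ => Nat) (Atab_s_538_542 c) (Atab_s_542_546 c) (Nat.ble 542 c)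
noncomputable def Atab_s_546_548 (c : Nat) : Nat := @Bool.rec (fun _ => Nat) (Atab_546) (Atab_547) (Nat.ble 547 c)
noncomputable def Atab_s_548_550 (c : Nat) : Nat := @Bool.rec (fun _ => Nat) (Atab_548) (Atab_549) (Nat.ble 549 c)
noncomputable def Atab_s_546_550 (c : Nat) : Nat := @Bool.rec (fun _ => Nat) (Atab_s_546_548 c) (Atab_s_548_550 c) (Nat.ble 548 c)
noncomputable def Atab_s_550_552 (c : Nat) : Nat := @Bool.rec (fun _ => Nat) (Atab_550) (Atab_551) (Nat.ble 551 c)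
noncomputable def Atab_s_552_554 (c : Nat) : Nat := @Bool.rec (fun _ => Nat) (Atab_552) (Atab_553) (Nat.ble 553 c)
noncomputable def Atab_s_550_554 (c : Nat) : Nat := @Bool.rec (fun _ => Nat) (Atab_s_550_552 c) (Atab_s_552_554 c) (Nat.ble 552 c)
noncomputable def Atab_s_546_554 (c : Nat) : Nat := @Bool.rec (fun _ => Nat) (Atab_s_546_550 c) (Atab_s_550_554 c) (Nat.ble 550 c)
noncomputable def Atab_s_538_554 (c : Nat) : Nat := @Bool.rec (fun _ => Nat) (Atab_s_538_546 c) (Atab_s_546_554 c) (Nat.ble 546 c)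
noncomputable def Atab_s_554_556 (c : Nat) : Nat := @Bool.rec (fun _ => Nat) (Atab_554) (Atab_555) (Nat.ble 555 c)
noncomputable def Atab_s_556_558 (c : Nat) : Nat := @Bool.rec (fun _ => Nat) (Atab_556) (Atab_557) (Nat.ble 557 c)
noncomputable def Atab_s_554_558 (c : Nat) : Nat := @Bool.rec (fun _ => Nat) (Atab_s_554_556 c) (Atab_s_556_558 c) (Nat.ble 556 c)
noncomputable def Atab_s_558_560 (c : Nat) : Nat := @Bool.rec (fun _ => Nat) (Atab_558) (Atab_559) (Nat.ble 559 c)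
noncomputable def Atab_s_560_562 (c : Nat) : Nat := @Bool.rec (fun _ => Nat) (Atab_560) (Atab_561) (Nat.ble 561 c)
noncomputable def Atab_s_558_562 (c : Nat) : Nat := @Bool.rec (fun _ => Nat) (Atab_s_558_560 c) (Atab_s_560_562 c) (Nat.ble 560 c)
noncomputable def Atab_s_554_562 (c : Nat) : Nat := @Bool.rec (fun _ => Nat) (Atab_s_554_558 c) (Atab_s_558_562 c) (Nat.ble 558 c)
noncomputable def Atab_s_562_564 (c : Nat) : Nat := @Bool.rec (fun _ => Nat) (Atab_562) (Atab_563) (Nat.ble 563 c)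
noncomputable def Atab_s_564_566 (c : Nat) : Nat := @Bool.rec (fun _ => Nat) (Atab_564) (Atab_565) (Nat.ble 565 c)
noncomputable def Atab_s_562_566 (c : Nat) : Nat := @Bool.rec (fun _ => Nat) (Atab_s_562_564 c) (Atab_s_564_566 c) (Nat.ble 564 c)
noncomputable def Atab_s_566_568 (c : Nat) : Nat := @Bool.rec (fun _ => Nat) (Atab_566) (Atab_567) (Nat.ble 567 c)
noncomputable def Atab_s_569_571 (c : Nat) : Nat := @Bool.rec (fun _ => Nat) (Atab_569) (Atab_570) (Nat.ble 570 c)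
noncomputable def Atab_s_568_571 (c : Nat) : Nat := @Bool.rec (fun _ => Nat) (Atab_568) (Atab_s_569_571 c) (Nat.ble 569 c)
noncomputable def Atab_s_566_571 (c : Nat) : Nat := @Bool.rec (fun _ => Nat) (Atab_s_566_568 c) (Atab_s_568_571 c) (Nat.ble 568 c)
noncomputable def Atab_s_562_571 (c : Nat) : Nat := @Bool.rec (fun _ => Nat) (Atab_s_562_566 c) (Atab_s_566_571 c) (Nat.ble 566 c)
noncomputable def Atab_s_554_571 (c : Nat) : Nat := @Bool.rec (fun _ => Nat) (Atab_s_554_562 c) (Atab_s_562_571 c) (Nat.ble 562 c)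
noncomputable def Atab_s_538_571 (c : Nat) : Nat := @Bool.rec (fun _ => Nat) (Atab_s_538_554 c) (Atab_s_554_571 c) (Nat.ble 554 c)
noncomputable def Atab_s_571_573 (c : Nat) : Nat := @Bool.rec (fun _ => Nat) (Atab_571) (Atab_572) (Nat.ble 572 c)
noncomputable def Atab_s_573_575 (c : Nat) : Nat := @Bool.rec (fun _ => Nat) (Atab_573) (Atab_574) (Nat.ble 574 c)
noncomputable def Atab_s_571_575 (c : Nat) : Nat := @Bool.rec (fun _ => Nat) (Atab_s_571_573 c) (Atab_s_573_575 c) (Nat.ble 573 c)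
noncomputable def Atab_s_575_577 (c : Nat) : Nat := @Bool.rec (fun _ => Nat) (Atab_575) (Atab_576) (Nat.ble 576 c)
noncomputable def Atab_s_577_579 (c : Nat) : Nat := @Bool.rec (fun _ => Nat) (Atab_577) (Atab_578) (Nat.ble 578 c)
noncomputable def Atab_s_575_579 (c : Nat) : Nat := @Bool.rec (fun _ => Nat) (Atab_s_575_577 c) (Atab_s_577_579 c) (Nat.ble 577 c)
noncomputable def Atab_s_571_579 (c : Nat) : Nat := @Bool.rec (fun _ => Nat) (Atab_s_571_575 c) (Atab_s_575_579 c) (Nat.ble 575 c)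
noncomputable def Atab_s_579_581 (c : Nat) : Nat := @Bool.rec (fun _ => Nat) (Atab_579) (Atab_580) (Nat.ble 580 c)
noncomputable def Atab_s_581_583 (c : Nat) : Nat := @Bool.rec (fun _ => Nat) (Atab_581) (Atab_582) (Nat.ble 582 c)
noncomputable def Atab_s_579_583 (c : Nat) : Nat := @Bool.rec (fun _ => Nat) (Atab_s_579_581 c) (Atab_s_581_583 c) (Nat.ble 581 c)
noncomputable def Atab_s_583_585 (c : Nat) : Nat := @Bool.rec (fun _ => Nat) (Atab_583) (Atab_584) (Nat.ble 584 c)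
noncomputable def Atab_s_586_588 (c : Nat) : Nat := @Bool.rec (fun _ => Nat) (Atab_586) (Atab_587) (Nat.ble 587 c)
noncomputable def Atab_s_585_588 (c : Nat) : Nat := @Bool.rec (fun _ => Nat) (Atab_585) (Atab_s_586_588 c) (Nat.ble 586 c)
noncomputable def Atab_s_583_588 (c : Nat) : Nat := @Bool.rec (fun _ => Nat) (Atab_s_583_585 c) (Atab_s_585_588 c) (Nat.ble 585 c)
noncomputable def Atab_s_579_588 (c : Nat) : Nat := @Bool.rec (fun _ => Nat) (Atab_s_579_583 c) (Atab_s_583_588 c) (Nat.ble 583 c)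
noncomputable def Atab_s_571_588 (c : Nat) : Nat := @Bool.rec (fun _ => Nat) (Atab_s_571_579 c) (Atab_s_579_588 c) (Nat.ble 579 c)
noncomputable def Atab_s_588_590 (c : Nat) : Nat := @Bool.rec (fun _ => Nat) (Atab_588) (Atab_589) (Nat.ble 589 c)
noncomputable def Atab_s_590_592 (c : Nat) : Nat := @Bool.rec (fun _ => Nat) (Atab_590) (Atab_591) (Nat.ble 591 c)
noncomputable def Atab_s_588_592 (c : Nat) : Nat := @Bool.rec (fun _ => Nat) (Atab_s_588_590 c) (Atab_s_590_592 c) (Nat.ble 590 c)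
noncomputable def Atab_s_592_594 (c : Nat) : Nat := @Bool.rec (fun _ => Nat) (Atab_592) (Atab_593) (Nat.ble 593 c)
noncomputable def Atab_s_594_596 (c : Nat) : Nat := @Bool.rec (fun _ => Nat) (Atab_594) (Atab_595) (Nat.ble 595 c)
noncomputable def Atab_s_592_596 (c : Nat) : Nat := @Bool.rec (fun _ => Nat) (Atab_s_592_594 c) (Atab_s_594_596 c) (Nat.ble 594 c)
noncomputable def Atab_s_588_596 (c : Nat) : Nat := @Bool.rec (fun _ => Nat) (Atab_s_588_592 c) (Atab_s_592_596 c) (Nat.ble 592 c)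
noncomputable def Atab_s_596_598 (c : Nat) : Nat := @Bool.rec (fun _ => Nat) (Atab_596) (Atab_597) (Nat.ble 597 c)
noncomputable def Atab_s_598_600 (c : Nat) : Nat := @Bool.rec (fun _ => Nat) (Atab_598) (Atab_599) (Nat.ble 599 c)
noncomputable def Atab_s_596_600 (c : Nat) : Nat := @Bool.rec (fun _ => Nat) (Atab_s_596_598 c) (Atab_s_598_600 c) (Nat.ble 598 c)
noncomputable def Atab_s_600_602 (c : Nat) : Nat := @Bool.rec (fun _ => Nat) (Atab_600) (Atab_601) (Nat.ble 601 c)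
noncomputable def Atab_s_603_605 (c : Nat) : Nat := @Bool.rec (fun _ => Nat) (Atab_603) (Atab_604) (Nat.ble 604 c)
noncomputable def Atab_s_602_605 (c : Nat) : Nat := @Bool.rec (fun _ => Nat) (Atab_602) (Atab_s_603_605 c) (Nat.ble 603 c)
noncomputable def Atab_s_600_605 (c : Nat) : Nat := @Bool.rec (fun _ => Nat) (Atab_s_600_602 c) (Atab_s_602_605 c) (Nat.ble 602 c)
noncomputable def Atab_s_596_605 (c : Nat) : Nat := @Bool.rec (fun _ => Nat) (Atab_s_596_600 c) (Atab_s_600_605 c) (Nat.ble 600 c)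
noncomputable def Atab_s_588_605 (c : Nat) : Nat := @Bool.rec (fun _ => Nat) (Atab_s_588_596 c) (Atab_s_596_605 c) (Nat.ble 596 c)
noncomputable def Atab_s_571_605 (c : Nat) : Nat := @Bool.rec (fun _ => Nat) (Atab_s_571_588 c) (Atab_s_588_605 c) (Nat.ble 588 c)
noncomputable def Atab_s_538_605 (c : Nat) : Nat := @Bool.rec (fun _ => Nat) (Atab_s_538_571 c) (Atab_s_571_605 c) (Nat.ble 571 c)
noncomputable def Atab_s_605_607 (c : Nat) : Nat := @Bool.rec (fun _ => Nat) (Atab_605) (Atab_606) (Nat.ble 606 c)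
noncomputable def Atab_s_607_609 (c : Nat) : Nat := @Bool.rec (fun _ => Nat) (Atab_607) (Atab_608) (Nat.ble 608 c)
noncomputable def Atab_s_605_609 (c : Nat) : Nat := @Bool.rec (fun _ => Nat) (Atab_s_605_607 c) (Atab_s_607_609 c) (Nat.ble 607 c)
noncomputable def Atab_s_609_611 (c : Nat) : Nat := @Bool.rec (fun _ => Nat) (Atab_609) (Atab_610) (Nat.ble 610 c)
noncomputable def Atab_s_611_613 (c : Nat) : Nat := @Bool.rec (fun _ => Nat) (Atab_611) (Atab_612) (Nat.ble 612 c)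
noncomputable def Atab_s_609_613 (c : Nat) : Nat := @Bool.rec (fun _ => Nat) (Atab_s_609_611 c) (Atab_s_611_613 c) (Nat.ble 611 c)
noncomputable def Atab_s_605_613 (c : Nat) : Nat := @Bool.rec (fun _ => Nat) (Atab_s_605_609 c) (Atab_s_609_613 c) (Nat.ble 609 c)
noncomputable def Atab_s_613_615 (c : Nat) : Nat := @Bool.rec (fun _ => Nat) (Atab_613) (Atab_614) (Nat.ble 614 c)
noncomputable def Atab_s_615_617 (c : Nat) : Nat := @Bool.rec (fun _ => Nat) (Atab_615) (Atab_616) (Nat.ble 616 c)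
noncomputable def Atab_s_613_617 (c : Nat) : Nat := @Bool.rec (fun _ => Nat) (Atab_s_613_615 c) (Atab_s_615_617 c) (Nat.ble 615 c)
noncomputable def Atab_s_617_619 (c : Nat) : Nat := @Bool.rec (fun _ => Nat) (Atab_617) (Atab_618) (Nat.ble 618 c)
noncomputable def Atab_s_619_621 (c : Nat) : Nat := @Bool.rec (fun _ => Nat) (Atab_619) (Atab_620) (Nat.ble 620 c)
noncomputable def Atab_s_617_621 (c : Nat) : Nat := @Bool.rec (fun _ => Nat) (Atab_s_617_619 c) (Atab_s_619_621 c) (Nat.ble 619 c)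
noncomputable def Atab_s_613_621 (c : Nat) : Nat := @Bool.rec (fun _ => Nat) (Atab_s_613_617 c) (Atab_s_617_621 c) (Nat.ble 617 c)
noncomputable def Atab_s_605_621 (c : Nat) : Nat := @Bool.rec (fun _ => Nat) (Atab_s_605_613 c) (Atab_s_613_621 c) (Nat.ble 613 c)
noncomputable def Atab_s_621_623 (c : Nat) : Nat := @Bool.rec (fun _ => Nat) (Atab_621) (Atab_622) (Nat.ble 622 c)
noncomputable def Atab_s_623_625 (c : Nat) : Nat := @Bool.rec (fun _ => Nat) (Atab_623) (Atab_624) (Nat.ble 624 c)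
noncomputable def Atab_s_621_625 (c : Nat) : Nat := @Bool.rec (fun _ => Nat) (Atab_s_621_623 c) (Atab_s_623_625 c) (Nat.ble 623 c)
noncomputable def Atab_s_625_627 (c : Nat) : Nat := @Bool.rec (fun _ => Nat) (Atab_625) (Atab_626) (Nat.ble 626 c)
noncomputable def Atab_s_627_629 (c : Nat) : Nat := @Bool.rec (fun _ => Nat) (Atab_627) (Atab_628) (Nat.ble 628 c)
noncomputable def Atab_s_625_629 (c : Nat) : Nat := @Bool.rec (fun _ => Nat) (Atab_s_625_627 c) (Atab_s_627_629 c) (Nat.ble 627 c)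
noncomputable def Atab_s_621_629 (c : Nat) : Nat := @Bool.rec (fun _ => Nat) (Atab_s_621_625 c) (Atab_s_625_629 c) (Nat.ble 625 c)
noncomputable def Atab_s_629_631 (c : Nat) : Nat := @Bool.rec (fun _ => Nat) (Atab_629) (Atab_630) (Nat.ble 630 c)
noncomputable def Atab_s_631_633 (c : Nat) : Nat := @Bool.rec (fun _ => Nat) (Atab_631) (Atab_632) (Nat.ble 632 c)
noncomputable def Atab_s_629_633 (c : Nat) : Nat := @Bool.rec (fun _ => Nat) (Atab_s_629_631 c) (Atab_s_631_633 c) (Nat.ble 631 c)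
noncomputable def Atab_s_633_635 (c : Nat) : Nat := @Bool.rec (fun _ => Nat) (Atab_633) (Atab_634) (Nat.ble 634 c)
noncomputable def Atab_s_636_638 (c : Nat) : Nat := @Bool.rec (fun _ => Nat) (Atab_636) (Atab_637) (Nat.ble 637 c)
noncomputable def Atab_s_635_638 (c : Nat) : Nat := @Bool.rec (fun _ => Nat) (Atab_635) (Atab_s_636_638 c) (Nat.ble 636 c)
noncomputable def Atab_s_633_638 (c : Nat) : Nat := @Bool.rec (fun _ => Nat) (Atab_s_633_635 c) (Atab_s_635_638 c) (Nat.ble 635 c)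
noncomputable def Atab_s_629_638 (c : Nat) : Nat := @Bool.rec (fun _ => Nat) (Atab_s_629_633 c) (Atab_s_633_638 c) (Nat.ble 633 c)
noncomputable def Atab_s_621_638 (c : Nat) : Nat := @Bool.rec (fun _ => Nat) (Atab_s_621_629 c) (Atab_s_629_638 c) (Nat.ble 629 c)
noncomputable def Atab_s_605_638 (c : Nat) : Nat := @Bool.rec (fun _ => Nat) (Atab_s_605_621 c) (Atab_s_621_638 c) (Nat.ble 621 c)
noncomputable def Atab_s_638_640 (c : Nat) : Nat := @Bool.rec (fun _ => Nat) (Atab_638) (Atab_639) (Nat.ble 639 c)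
noncomputable def Atab_s_640_642 (c : Nat) : Nat := @Bool.rec (fun _ => Nat) (Atab_640) (Atab_641) (Nat.ble 641 c)
noncomputable def Atab_s_638_642 (c : Nat) : Nat := @Bool.rec (fun _ => Nat) (Atab_s_638_640 c) (Atab_s_640_642 c) (Nat.ble 640 c)
noncomputable def Atab_s_642_644 (c : Nat) : Nat := @Bool.rec (fun _ => Nat) (Atab_642) (Atab_643) (Nat.ble 643 c)
noncomputable def Atab_s_644_646 (c : Nat) : Nat := @Bool.rec (fun _ => Nat) (Atab_644) (Atab_645) (Nat.ble 645 c)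
noncomputable def Atab_s_642_646 (c : Nat) : Nat := @Bool.rec (fun _ => Nat) (Atab_s_642_644 c) (Atab_s_644_646 c) (Nat.ble 644 c)
noncomputable def Atab_s_638_646 (c : Nat) : Nat := @Bool.rec (fun _ => Nat) (Atab_s_638_642 c) (Atab_s_642_646 c) (Nat.ble 642 c)
noncomputable def Atab_s_646_648 (c : Nat) : Nat := @Bool.rec (fun _ => Nat) (Atab_646) (Atab_647) (Nat.ble 647 c)
noncomputable def Atab_s_648_650 (c : Nat) : Nat := @Bool.rec (fun _ => Nat) (Atab_648) (Atab_649) (Nat.ble 649 c)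
noncomputable def Atab_s_646_650 (c : Nat) : Nat := @Bool.rec (fun _ => Nat) (Atab_s_646_648 c) (Atab_s_648_650 c) (Nat.ble 648 c)
noncomputable def Atab_s_650_652 (c : Nat) : Nat := @Bool.rec (fun _ => Nat) (Atab_650) (Atab_651) (Nat.ble 651 c)
noncomputable def Atab_s_653_655 (c : Nat) : Nat := @Bool.rec (fun _ => Nat) (Atab_653) (Atab_654) (Nat.ble 654 c)
noncomputable def Atab_s_652_655 (c : Nat) : Nat := @Bool.rec (fun _ => Nat) (Atab_652) (Atab_s_653_655 c) (Nat.ble 653 c)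
noncomputable def Atab_s_650_655 (c : Nat) : Nat := @Bool.rec (fun _ => Nat) (Atab_s_650_652 c) (Atab_s_652_655 c) (Nat.ble 652 c)
noncomputable def Atab_s_646_655 (c : Nat) : Nat := @Bool.rec (fun _ => Nat) (Atab_s_646_650 c) (Atab_s_650_655 c) (Nat.ble 650 c)
noncomputable def Atab_s_638_655 (c : Nat) : Nat := @Bool.rec (fun _ => Nat) (Atab_s_638_646 c) (Atab_s_646_655 c) (Nat.ble 646 c)
noncomputable def Atab_s_655_657 (c : Nat) : Nat := @Bool.rec (fun _ => Nat) (Atab_655) (Atab_656) (Nat.ble 656 c)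
noncomputable def Atab_s_657_659 (c : Nat) : Nat := @Bool.rec (fun _ => Nat) (Atab_657) (Atab_658) (Nat.ble 658 c)
noncomputable def Atab_s_655_659 (c : Nat) : Nat := @Bool.rec (fun _ => Nat) (Atab_s_655_657 c) (Atab_s_657_659 c) (Nat.ble 657 c)
noncomputable def Atab_s_659_661 (c : Nat) : Nat := @Bool.rec (fun _ => Nat) (Atab_659) (Atab_660) (Nat.ble 660 c)
noncomputable def Atab_s_661_663 (c : Nat) : Nat := @Bool.rec (fun _ => Nat) (Atab_661) (Atab_662) (Nat.ble 662 c)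
noncomputable def Atab_s_659_663 (c : Nat) : Nat := @Bool.rec (fun _ => Nat) (Atab_s_659_661 c) (Atab_s_661_663 c) (Nat.ble 661 c)
noncomputable def Atab_s_655_663 (c : Nat) : Nat := @Bool.rec (fun _ => Nat) (Atab_s_655_659 c) (Atab_s_659_663 c) (Nat.ble 659 c)
noncomputable def Atab_s_663_665 (c : Nat) : Nat := @Bool.rec (fun _ => Nat) (Atab_663) (Atab_664) (Nat.ble 664 c)
noncomputable def Atab_s_665_667 (c : Nat) : Nat := @Bool.rec (fun _ => Nat) (Atab_665) (Atab_666) (Nat.ble 666 c)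
noncomputable def Atab_s_663_667 (c : Nat) : Nat := @Bool.rec (fun _ => Nat) (Atab_s_663_665 c) (Atab_s_665_667 c) (Nat.ble 665 c)
noncomputable def Atab_s_667_669 (c : Nat) : Nat := @Bool.rec (fun _ => Nat) (Atab_667) (Atab_668) (Nat.ble 668 c)
noncomputable def Atab_s_670_672 (c : Nat) : Nat := @Bool.rec (fun _ => Nat) (Atab_670) (Atab_671) (Nat.ble 671 c)
noncomputable def Atab_s_669_672 (c : Nat) : Nat := @Bool.rec (fun _ => Nat) (Atab_669) (Atab_s_670_672 c) (Nat.ble 670 c)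
noncomputable def Atab_s_667_672 (c : Nat) : Nat := @Bool.rec (fun _ => Nat) (Atab_s_667_669 c) (Atab_s_669_672 c) (Nat.ble 669 c)
noncomputable def Atab_s_663_672 (c : Nat) : Nat := @Bool.rec (fun _ => Nat) (Atab_s_663_667 c) (Atab_s_667_672 c) (Nat.ble 667 c)
noncomputable def Atab_s_655_672 (c : Nat) : Nat := @Bool.rec (fun _ => Nat) (Atab_s_655_663 c) (Atab_s_663_672 c) (Nat.ble 663 c)
noncomputable def Atab_s_638_672 (c : Nat) : Nat := @Bool.rec (fun _ => Nat) (Atab_s_638_655 c) (Atab_s_655_672 c) (Nat.ble 655 c)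
noncomputable def Atab_s_605_672 (c : Nat) : Nat := @Bool.rec (fun _ => Nat) (Atab_s_605_638 c) (Atab_s_638_672 c) (Nat.ble 638 c)
noncomputable def Atab_s_538_672 (c : Nat) : Nat := @Bool.rec (fun _ => Nat) (Atab_s_538_605 c) (Atab_s_605_672 c) (Nat.ble 605 c)
noncomputable def Atab_s_672_674 (c : Nat) : Nat := @Bool.rec (fun _ => Nat) (Atab_672) (Atab_673) (Nat.ble 673 c)
noncomputable def Atab_s_674_676 (c : Nat) : Nat := @Bool.rec (fun _ => Nat) (Atab_674) (Atab_675) (Nat.ble 675 c)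
noncomputable def Atab_s_672_676 (c : Nat) : Nat := @Bool.rec (fun _ => Nat) (Atab_s_672_674 c) (Atab_s_674_676 c) (Nat.ble 674 c)
noncomputable def Atab_s_676_678 (c : Nat) : Nat := @Bool.rec (fun _ => Nat) (Atab_676) (Atab_677) (Nat.ble 677 c)
noncomputable def Atab_s_678_680 (c : Nat) : Nat := @Bool.rec (fun _ => Nat) (Atab_678) (Atab_679) (Nat.ble 679 c)
noncomputable def Atab_s_676_680 (c : Nat) : Nat := @Bool.rec (fun _ => Nat) (Atab_s_676_678 c) (Atab_s_678_680 c) (Nat.ble 678 c)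
noncomputable def Atab_s_672_680 (c : Nat) : Nat := @Bool.rec (fun _ => Nat) (Atab_s_672_676 c) (Atab_s_676_680 c) (Nat.ble 676 c)
noncomputable def Atab_s_680_682 (c : Nat) : Nat := @Bool.rec (fun _ => Nat) (Atab_680) (Atab_681) (Nat.ble 681 c)
noncomputable def Atab_s_682_684 (c : Nat) : Nat := @Bool.rec (fun _ => Nat) (Atab_682) (Atab_683) (Nat.ble 683 c)
noncomputable def Atab_s_680_684 (c : Nat) : Nat := @Bool.rec (fun _ => Nat) (Atab_s_680_682 c) (Atab_s_682_684 c) (Nat.ble 682 c)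
noncomputable def Atab_s_684_686 (c : Nat) : Nat := @Bool.rec (fun _ => Nat) (Atab_684) (Atab_685) (Nat.ble 685 c)
noncomputable def Atab_s_686_688 (c : Nat) : Nat := @Bool.rec (fun _ => Nat) (Atab_686) (Atab_687) (Nat.ble 687 c)
noncomputable def Atab_s_684_688 (c : Nat) : Nat := @Bool.rec (fun _ => Nat) (Atab_s_684_686 c) (Atab_s_686_688 c) (Nat.ble 686 c)
noncomputable def Atab_s_680_688 (c : Nat) : Nat := @Bool.rec (fun _ => Nat) (Atab_s_680_684 c) (Atab_s_684_688 c) (Nat.ble 684 c)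
noncomputable def Atab_s_672_688 (c : Nat) : Nat := @Bool.rec (fun _ => Nat) (Atab_s_672_680 c) (Atab_s_680_688 c) (Nat.ble 680 c)
noncomputable def Atab_s_688_690 (c : Nat) : Nat := @Bool.rec (fun _ => Nat) (Atab_688) (Atab_689) (Nat.ble 689 c)
noncomputable def Atab_s_690_692 (c : Nat) : Nat := @Bool.rec (fun _ => Nat) (Atab_690) (Atab_691) (Nat.ble 691 c)
noncomputable def Atab_s_688_692 (c : Nat) : Nat := @Bool.rec (fun _ => Nat) (Atab_s_688_690 c) (Atab_s_690_692 c) (Nat.ble 690 c)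
noncomputable def Atab_s_692_694 (c : Nat) : Nat := @Bool.rec (fun _ => Nat) (Atab_692) (Atab_693) (Nat.ble 693 c)
noncomputable def Atab_s_694_696 (c : Nat) : Nat := @Bool.rec (fun _ => Nat) (Atab_694) (Atab_695) (Nat.ble 695 c)
noncomputable def Atab_s_692_696 (c : Nat) : Nat := @Bool.rec (fun _ => Nat) (Atab_s_692_694 c) (Atab_s_694_696 c) (Nat.ble 694 c)
noncomputable def Atab_s_688_696 (c : Nat) : Nat := @Bool.rec (fun _ => Nat) (Atab_s_688_692 c) (Atab_s_692_696 c) (Nat.ble 692 c)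
noncomputable def Atab_s_696_698 (c : Nat) : Nat := @Bool.rec (fun _ => Nat) (Atab_696) (Atab_697) (Nat.ble 697 c)
noncomputable def Atab_s_698_700 (c : Nat) : Nat := @Bool.rec (fun _ => Nat) (Atab_698) (Atab_699) (Nat.ble 699 c)
noncomputable def Atab_s_696_700 (c : Nat) : Nat := @Bool.rec (fun _ => Nat) (Atab_s_696_698 c) (Atab_s_698_700 c) (Nat.ble 698 c)
noncomputable def Atab_s_700_702 (c : Nat) : Nat := @Bool.rec (fun _ => Nat) (Atab_700) (Atab_701) (Nat.ble 701 c)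
noncomputable def Atab_s_703_705 (c : Nat) : Nat := @Bool.rec (fun _ => Nat) (Atab_703) (Atab_704) (Nat.ble 704 c)
noncomputable def Atab_s_702_705 (c : Nat) : Nat := @Bool.rec (fun _ => Nat) (Atab_702) (Atab_s_703_705 c) (Nat.ble 703 c)
noncomputable def Atab_s_700_705 (c : Nat) : Nat := @Bool.rec (fun _ => Nat) (Atab_s_700_702 c) (Atab_s_702_705 c) (Nat.ble 702 c)
noncomputable def Atab_s_696_705 (c : Nat) : Nat := @Bool.rec (fun _ => Nat) (Atab_s_696_700 c) (Atab_s_700_705 c) (Nat.ble 700 c)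
noncomputable def Atab_s_688_705 (c : Nat) : Nat := @Bool.rec (fun _ => Nat) (Atab_s_688_696 c) (Atab_s_696_705 c) (Nat.ble 696 c)
noncomputable def Atab_s_672_705 (c : Nat) : Nat := @Bool.rec (fun _ => Nat) (Atab_s_672_688 c) (Atab_s_688_705 c) (Nat.ble 688 c)
noncomputable def Atab_s_705_707 (c : Nat) : Nat := @Bool.rec (fun _ => Nat) (Atab_705) (Atab_706) (Nat.ble 706 c)
noncomputable def Atab_s_707_709 (c : Nat) : Nat := @Bool.rec (fun _ => Nat) (Atab_707) (Atab_708) (Nat.ble 708 c)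
noncomputable def Atab_s_705_709 (c : Nat) : Nat := @Bool.rec (fun _ => Nat) (Atab_s_705_707 c) (Atab_s_707_709 c) (Nat.ble 707 c)
noncomputable def Atab_s_709_711 (c : Nat) : Nat := @Bool.rec (fun _ => Nat) (Atab_709) (Atab_710) (Nat.ble 710 c)
noncomputable def Atab_s_711_713 (c : Nat) : Nat := @Bool.rec (fun _ => Nat) (Atab_711) (Atab_712) (Nat.ble 712 c)
noncomputable def Atab_s_709_713 (c : Nat) : Nat := @Bool.rec (fun _ => Nat) (Atab_s_709_711 c) (Atab_s_711_713 c) (Nat.ble 711 c)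
noncomputable def Atab_s_705_713 (c : Nat) : Nat := @Bool.rec (fun _ => Nat) (Atab_s_705_709 c) (Atab_s_709_713 c) (Nat.ble 709 c)
noncomputable def Atab_s_713_715 (c : Nat) : Nat := @Bool.rec (fun _ => Nat) (Atab_713) (Atab_714) (Nat.ble 714 c)
noncomputable def Atab_s_715_717 (c : Nat) : Nat := @Bool.rec (fun _ => Nat) (Atab_715) (Atab_716) (Nat.ble 716 c)
noncomputable def Atab_s_713_717 (c : Nat) : Nat := @Bool.rec (fun _ => Nat) (Atab_s_713_715 c) (Atab_s_715_717 c) (Nat.ble 715 c)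
noncomputable def Atab_s_717_719 (c : Nat) : Nat := @Bool.rec (fun _ => Nat) (Atab_717) (Atab_718) (Nat.ble 718 c)
noncomputable def Atab_s_720_722 (c : Nat) : Nat := @Bool.rec (fun _ => Nat) (Atab_720) (Atab_721) (Nat.ble 721 c)
noncomputable def Atab_s_719_722 (c : Nat) : Nat := @Bool.rec (fun _ => Nat) (Atab_719) (Atab_s_720_722 c) (Nat.ble 720 c)
noncomputable def Atab_s_717_722 (c : Nat) : Nat := @Bool.rec (fun _ => Nat) (Atab_s_717_719 c) (Atab_s_719_722 c) (Nat.ble 719 c)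
noncomputable def Atab_s_713_722 (c : Nat) : Nat := @Bool.rec (fun _ => Nat) (Atab_s_713_717 c) (Atab_s_717_722 c) (Nat.ble 717 c)
noncomputable def Atab_s_705_722 (c : Nat) : Nat := @Bool.rec (fun _ => Nat) (Atab_s_705_713 c) (Atab_s_713_722 c) (Nat.ble 713 c)
noncomputable def Atab_s_722_724 (c : Nat) : Nat := @Bool.rec (fun _ => Nat) (Atab_722) (Atab_723) (Nat.ble 723 c)
noncomputable def Atab_s_724_726 (c : Nat) : Nat := @Bool.rec (fun _ => Nat) (Atab_724) (Atab_725) (Nat.ble 725 c)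
noncomputable def Atab_s_722_726 (c : Nat) : Nat := @Bool.rec (fun _ => Nat) (Atab_s_722_724 c) (Atab_s_724_726 c) (Nat.ble 724 c)
noncomputable def Atab_s_726_728 (c : Nat) : Nat := @Bool.rec (fun _ => Nat) (Atab_726) (Atab_727) (Nat.ble 727 c)
noncomputable def Atab_s_728_730 (c : Nat) : Nat := @Bool.rec (fun _ => Nat) (Atab_728) (Atab_729) (Nat.ble 729 c)
noncomputable def Atab_s_726_730 (c : Nat) : Nat := @Bool.rec (fun _ => Nat) (Atab_s_726_728 c) (Atab_s_728_730 c) (Nat.ble 728 c)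
noncomputable def Atab_s_722_730 (c : Nat) : Nat := @Bool.rec (fun _ => Nat) (Atab_s_722_726 c) (Atab_s_726_730 c) (Nat.ble 726 c)
noncomputable def Atab_s_730_732 (c : Nat) : Nat := @Bool.rec (fun _ => Nat) (Atab_730) (Atab_731) (Nat.ble 731 c)
noncomputable def Atab_s_732_734 (c : Nat) : Nat := @Bool.rec (fun _ => Nat) (Atab_732) (Atab_733) (Nat.ble 733 c)
noncomputable def Atab_s_730_734 (c : Nat) : Nat := @Bool.rec (fun _ => Nat) (Atab_s_730_732 c) (Atab_s_732_734 c) (Nat.ble 732 c)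
noncomputable def Atab_s_734_736 (c : Nat) : Nat := @Bool.rec (fun _ => Nat) (Atab_734) (Atab_735) (Nat.ble 735 c)
noncomputable def Atab_s_737_739 (c : Nat) : Nat := @Bool.rec (fun _ => Nat) (Atab_737) (Atab_738) (Nat.ble 738 c)
noncomputable def Atab_s_736_739 (c : Nat) : Nat := @Bool.rec (fun _ => Nat) (Atab_736) (Atab_s_737_739 c) (Nat.ble 737 c)
noncomputable def Atab_s_734_739 (c : Nat) : Nat := @Bool.rec (fun _ => Nat) (Atab_s_734_736 c) (Atab_s_736_739 c) (Nat.ble 736 c)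
noncomputable def Atab_s_730_739 (c : Nat) : Nat := @Bool.rec (fun _ => Nat) (Atab_s_730_734 c) (Atab_s_734_739 c) (Nat.ble 734 c)
noncomputable def Atab_s_722_739 (c : Nat) : Nat := @Bool.rec (fun _ => Nat) (Atab_s_722_730 c) (Atab_s_730_739 c) (Nat.ble 730 c)
noncomputable def Atab_s_705_739 (c : Nat) : Nat := @Bool.rec (fun _ => Nat) (Atab_s_705_722 c) (Atab_s_722_739 c) (Nat.ble 722 c)
noncomputable def Atab_s_672_739 (c : Nat) : Nat := @Bool.rec (fun _ => Nat) (Atab_s_672_705 c) (Atab_s_705_739 c) (Nat.ble 705 c)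
noncomputable def Atab_s_739_741 (c : Nat) : Nat := @Bool.rec (fun _ => Nat) (Atab_739) (Atab_740) (Nat.ble 740 c)
noncomputable def Atab_s_741_743 (c : Nat) : Nat := @Bool.rec (fun _ => Nat) (Atab_741) (Atab_742) (Nat.ble 742 c)
noncomputable def Atab_s_739_743 (c : Nat) : Nat := @Bool.rec (fun _ => Nat) (Atab_s_739_741 c) (Atab_s_741_743 c) (Nat.ble 741 c)
noncomputable def Atab_s_743_745 (c : Nat) : Nat := @Bool.rec (fun _ => Nat) (Atab_743) (Atab_744) (Nat.ble 744 c)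
noncomputable def Atab_s_745_747 (c : Nat) : Nat := @Bool.rec (fun _ => Nat) (Atab_745) (Atab_746) (Nat.ble 746 c)
noncomputable def Atab_s_743_747 (c : Nat) : Nat := @Bool.rec (fun _ => Nat) (Atab_s_743_745 c) (Atab_s_745_747 c) (Nat.ble 745 c)
noncomputable def Atab_s_739_747 (c : Nat) : Nat := @Bool.rec (fun _ => Nat) (Atab_s_739_743 c) (Atab_s_743_747 c) (Nat.ble 743 c)
noncomputable def Atab_s_747_749 (c : Nat) : Nat := @Bool.rec (fun _ => Nat) (Atab_747) (Atab_748) (Nat.ble 748 c)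
noncomputable def Atab_s_749_751 (c : Nat) : Nat := @Bool.rec (fun _ => Nat) (Atab_749) (Atab_750) (Nat.ble 750 c)
noncomputable def Atab_s_747_751 (c : Nat) : Nat := @Bool.rec (fun _ => Nat) (Atab_s_747_749 c) (Atab_s_749_751 c) (Nat.ble 749 c)
noncomputable def Atab_s_751_753 (c : Nat) : Nat := @Bool.rec (fun _ => Nat) (Atab_751) (Atab_752) (Nat.ble 752 c)
noncomputable def Atab_s_754_756 (c : Nat) : Nat := @Bool.rec (fun _ => Nat) (Atab_754) (Atab_755) (Nat.ble 755 c)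
noncomputable def Atab_s_753_756 (c : Nat) : Nat := @Bool.rec (fun _ => Nat) (Atab_753) (Atab_s_754_756 c) (Nat.ble 754 c)
noncomputable def Atab_s_751_756 (c : Nat) : Nat := @Bool.rec (fun _ => Nat) (Atab_s_751_753 c) (Atab_s_753_756 c) (Nat.ble 753 c)
noncomputable def Atab_s_747_756 (c : Nat) : Nat := @Bool.rec (fun _ => Nat) (Atab_s_747_751 c) (Atab_s_751_756 c) (Nat.ble 751 c)
noncomputable def Atab_s_739_756 (c : Nat) : Nat := @Bool.rec (fun _ => Nat) (Atab_s_739_747 c) (Atab_s_747_756 c) (Nat.ble 747 c)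
noncomputable def Atab_s_756_758 (c : Nat) : Nat := @Bool.rec (fun _ => Nat) (Atab_756) (Atab_757) (Nat.ble 757 c)
noncomputable def Atab_s_758_760 (c : Nat) : Nat := @Bool.rec (fun _ => Nat) (Atab_758) (Atab_759) (Nat.ble 759 c)
noncomputable def Atab_s_756_760 (c : Nat) : Nat := @Bool.rec (fun _ => Nat) (Atab_s_756_758 c) (Atab_s_758_760 c) (Nat.ble 758 c)
noncomputable def Atab_s_760_762 (c : Nat) : Nat := @Bool.rec (fun _ => Nat) (Atab_760) (Atab_761) (Nat.ble 761 c)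
noncomputable def Atab_s_762_764 (c : Nat) : Nat := @Bool.rec (fun _ => Nat) (Atab_762) (Atab_763) (Nat.ble 763 c)
noncomputable def Atab_s_760_764 (c : Nat) : Nat := @Bool.rec (fun _ => Nat) (Atab_s_760_762 c) (Atab_s_762_764 c) (Nat.ble 762 c)
noncomputable def Atab_s_756_764 (c : Nat) : Nat := @Bool.rec (fun _ => Nat) (Atab_s_756_760 c) (Atab_s_760_764 c) (Nat.ble 760 c)
noncomputable def Atab_s_764_766 (c : Nat) : Nat := @Bool.rec (fun _ => Nat) (Atab_764) (Atab_765) (Nat.ble 765 c)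
noncomputable def Atab_s_766_768 (c : Nat) : Nat := @Bool.rec (fun _ => Nat) (Atab_766) (Atab_767) (Nat.ble 767 c)
noncomputable def Atab_s_764_768 (c : Nat) : Nat := @Bool.rec (fun _ => Nat) (Atab_s_764_766 c) (Atab_s_766_768 c) (Nat.ble 766 c)
noncomputable def Atab_s_768_770 (c : Nat) : Nat := @Bool.rec (fun _ => Nat) (Atab_768) (Atab_769) (Nat.ble 769 c)
noncomputable def Atab_s_771_773 (c : Nat) : Nat := @Bool.rec (fun _ => Nat) (Atab_771) (Atab_772) (Nat.ble 772 c)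
noncomputable def Atab_s_770_773 (c : Nat) : Nat := @Bool.rec (fun _ => Nat) (Atab_770) (Atab_s_771_773 c) (Nat.ble 771 c)
noncomputable def Atab_s_768_773 (c : Nat) : Nat := @Bool.rec (fun _ => Nat) (Atab_s_768_770 c) (Atab_s_770_773 c) (Nat.ble 770 c)
noncomputable def Atab_s_764_773 (c : Nat) : Nat := @Bool.rec (fun _ => Nat) (Atab_s_764_768 c) (Atab_s_768_773 c) (Nat.ble 768 c)
noncomputable def Atab_s_756_773 (c : Nat) : Nat := @Bool.rec (fun _ => Nat) (Atab_s_756_764 c) (Atab_s_764_773 c) (Nat.ble 764 c)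
noncomputable def Atab_s_739_773 (c : Nat) : Nat := @Bool.rec (fun _ => Nat) (Atab_s_739_756 c) (Atab_s_756_773 c) (Nat.ble 756 c)
noncomputable def Atab_s_773_775 (c : Nat) : Nat := @Bool.rec (fun _ => Nat) (Atab_773) (Atab_774) (Nat.ble 774 c)
noncomputable def Atab_s_775_777 (c : Nat) : Nat := @Bool.rec (fun _ => Nat) (Atab_775) (Atab_776) (Nat.ble 776 c)
noncomputable def Atab_s_773_777 (c : Nat) : Nat := @Bool.rec (fun _ => Nat) (Atab_s_773_775 c) (Atab_s_775_777 c) (Nat.ble 775 c)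
noncomputable def Atab_s_777_779 (c : Nat) : Nat := @Bool.rec (fun _ => Nat) (Atab_777) (Atab_778) (Nat.ble 778 c)
noncomputable def Atab_s_779_781 (c : Nat) : Nat := @Bool.rec (fun _ => Nat) (Atab_779) (Atab_780) (Nat.ble 780 c)
noncomputable def Atab_s_777_781 (c : Nat) : Nat := @Bool.rec (fun _ => Nat) (Atab_s_777_779 c) (Atab_s_779_781 c) (Nat.ble 779 c)
noncomputable def Atab_s_773_781 (c : Nat) : Nat := @Bool.rec (fun _ => Nat) (Atab_s_773_777 c) (Atab_s_777_781 c) (Nat.ble 777 c)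
noncomputable def Atab_s_781_783 (c : Nat) : Nat := @Bool.rec (fun _ => Nat) (Atab_781) (Atab_782) (Nat.ble 782 c)
noncomputable def Atab_s_783_785 (c : Nat) : Nat := @Bool.rec (fun _ => Nat) (Atab_783) (Atab_784) (Nat.ble 784 c)
noncomputable def Atab_s_781_785 (c : Nat) : Nat := @Bool.rec (fun _ => Nat) (Atab_s_781_783 c) (Atab_s_783_785 c) (Nat.ble 783 c)
noncomputable def Atab_s_785_787 (c : Nat) : Nat := @Bool.rec (fun _ => Nat) (Atab_785) (Atab_786) (Nat.ble 786 c)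
noncomputable def Atab_s_788_790 (c : Nat) : Nat := @Bool.rec (fun _ => Nat) (Atab_788) (Atab_789) (Nat.ble 789 c)
noncomputable def Atab_s_787_790 (c : Nat) : Nat := @Bool.rec (fun _ => Nat) (Atab_787) (Atab_s_788_790 c) (Nat.ble 788 c)
noncomputable def Atab_s_785_790 (c : Nat) : Nat := @Bool.rec (fun _ => Nat) (Atab_s_785_787 c) (Atab_s_787_790 c) (Nat.ble 787 c)
noncomputable def Atab_s_781_790 (c : Nat) : Nat := @Bool.rec (fun _ => Nat) (Atab_s_781_785 c) (Atab_s_785_790 c) (Nat.ble 785 c)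
noncomputable def Atab_s_773_790 (c : Nat) : Nat := @Bool.rec (fun _ => Nat) (Atab_s_773_781 c) (Atab_s_781_790 c) (Nat.ble 781 c)
noncomputable def Atab_s_790_792 (c : Nat) : Nat := @Bool.rec (fun _ => Nat) (Atab_790) (Atab_791) (Nat.ble 791 c)
noncomputable def Atab_s_792_794 (c : Nat) : Nat := @Bool.rec (fun _ => Nat) (Atab_792) (Atab_793) (Nat.ble 793 c)
noncomputable def Atab_s_790_794 (c : Nat) : Nat := @Bool.rec (fun _ => Nat) (Atab_s_790_792 c) (Atab_s_792_794 c) (Nat.ble 792 c)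
noncomputable def Atab_s_794_796 (c : Nat) : Nat := @Bool.rec (fun _ => Nat) (Atab_794) (Atab_795) (Nat.ble 795 c)
noncomputable def Atab_s_796_798 (c : Nat) : Nat := @Bool.rec (fun _ => Nat) (Atab_796) (Atab_797) (Nat.ble 797 c)
noncomputable def Atab_s_794_798 (c : Nat) : Nat := @Bool.rec (fun _ => Nat) (Atab_s_794_796 c) (Atab_s_796_798 c) (Nat.ble 796 c)
noncomputable def Atab_s_790_798 (c : Nat) : Nat := @Bool.rec (fun _ => Nat) (Atab_s_790_794 c) (Atab_s_794_798 c) (Nat.ble 794 c)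
noncomputable def Atab_s_798_800 (c : Nat) : Nat := @Bool.rec (fun _ => Nat) (Atab_798) (Atab_799) (Nat.ble 799 c)
noncomputable def Atab_s_800_802 (c : Nat) : Nat := @Bool.rec (fun _ => Nat) (Atab_800) (Atab_801) (Nat.ble 801 c)
noncomputable def Atab_s_798_802 (c : Nat) : Nat := @Bool.rec (fun _ => Nat) (Atab_s_798_800 c) (Atab_s_800_802 c) (Nat.ble 800 c)
noncomputable def Atab_s_802_804 (c : Nat) : Nat := @Bool.rec (fun _ => Nat) (Atab_802) (Atab_803) (Nat.ble 803 c)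
noncomputable def Atab_s_805_807 (c : Nat) : Nat := @Bool.rec (fun _ => Nat) (Atab_805) (Atab_806) (Nat.ble 806 c)
noncomputable def Atab_s_804_807 (c : Nat) : Nat := @Bool.rec (fun _ => Nat) (Atab_804) (Atab_s_805_807 c) (Nat.ble 805 c)
noncomputable def Atab_s_802_807 (c : Nat) : Nat := @Bool.rec (fun _ => Nat) (Atab_s_802_804 c) (Atab_s_804_807 c) (Nat.ble 804 c)
noncomputable def Atab_s_798_807 (c : Nat) : Nat := @Bool.rec (fun _ => Nat) (Atab_s_798_802 c) (Atab_s_802_807 c) (Nat.ble 802 c)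
noncomputable def Atab_s_790_807 (c : Nat) : Nat := @Bool.rec (fun _ => Nat) (Atab_s_790_798 c) (Atab_s_798_807 c) (Nat.ble 798 c)
noncomputable def Atab_s_773_807 (c : Nat) : Nat := @Bool.rec (fun _ => Nat) (Atab_s_773_790 c) (Atab_s_790_807 c) (Nat.ble 790 c)
noncomputable def Atab_s_739_807 (c : Nat) : Nat := @Bool.rec (fun _ => Nat) (Atab_s_739_773 c) (Atab_s_773_807 c) (Nat.ble 773 c)
noncomputable def Atab_s_672_807 (c : Nat) : Nat := @Bool.rec (fun _ => Nat) (Atab_s_672_739 c) (Atab_s_739_807 c) (Nat.ble 739 c)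
noncomputable def Atab_s_538_807 (c : Nat) : Nat := @Bool.rec (fun _ => Nat) (Atab_s_538_672 c) (Atab_s_672_807 c) (Nat.ble 672 c)
noncomputable def Atab_s_807_809 (c : Nat) : Nat := @Bool.rec (fun _ => Nat) (Atab_807) (Atab_808) (Nat.ble 808 c)
noncomputable def Atab_s_809_811 (c : Nat) : Nat := @Bool.rec (fun _ => Nat) (Atab_809) (Atab_810) (Nat.ble 810 c)
noncomputable def Atab_s_807_811 (c : Nat) : Nat := @Bool.rec (fun _ => Nat) (Atab_s_807_809 c) (Atab_s_809_811 c) (Nat.ble 809 c)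
noncomputable def Atab_s_811_813 (c : Nat) : Nat := @Bool.rec (fun _ => Nat) (Atab_811) (Atab_812) (Nat.ble 812 c)
noncomputable def Atab_s_813_815 (c : Nat) : Nat := @Bool.rec (fun _ => Nat) (Atab_813) (Atab_814) (Nat.ble 814 c)
noncomputable def Atab_s_811_815 (c : Nat) : Nat := @Bool.rec (fun _ => Nat) (Atab_s_811_813 c) (Atab_s_813_815 c) (Nat.ble 813 c)
noncomputable def Atab_s_807_815 (c : Nat) : Nat := @Bool.rec (fun _ => Nat) (Atab_s_807_811 c) (Atab_s_811_815 c) (Nat.ble 811 c)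
noncomputable def Atab_s_815_817 (c : Nat) : Nat := @Bool.rec (fun _ => Nat) (Atab_815) (Atab_816) (Nat.ble 816 c)
noncomputable def Atab_s_817_819 (c : Nat) : Nat := @Bool.rec (fun _ => Nat) (Atab_817) (Atab_818) (Nat.ble 818 c)
noncomputable def Atab_s_815_819 (c : Nat) : Nat := @Bool.rec (fun _ => Nat) (Atab_s_815_817 c) (Atab_s_817_819 c) (Nat.ble 817 c)
noncomputable def Atab_s_819_821 (c : Nat) : Nat := @Bool.rec (fun _ => Nat) (Atab_819) (Atab_820) (Nat.ble 820 c)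
noncomputable def Atab_s_821_823 (c : Nat) : Nat := @Bool.rec (fun _ => Nat) (Atab_821) (Atab_822) (Nat.ble 822 c)
noncomputable def Atab_s_819_823 (c : Nat) : Nat := @Bool.rec (fun _ => Nat) (Atab_s_819_821 c) (Atab_s_821_823 c) (Nat.ble 821 c)
noncomputable def Atab_s_815_823 (c : Nat) : Nat := @Bool.rec (fun _ => Nat) (Atab_s_815_819 c) (Atab_s_819_823 c) (Nat.ble 819 c)
noncomputable def Atab_s_807_823 (c : Nat) : Nat := @Bool.rec (fun _ => Nat) (Atab_s_807_815 c) (Atab_s_815_823 c) (Nat.ble 815 c)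
noncomputable def Atab_s_823_825 (c : Nat) : Nat := @Bool.rec (fun _ => Nat) (Atab_823) (Atab_824) (Nat.ble 824 c)
noncomputable def Atab_s_825_827 (c : Nat) : Nat := @Bool.rec (fun _ => Nat) (Atab_825) (Atab_826) (Nat.ble 826 c)
noncomputable def Atab_s_823_827 (c : Nat) : Nat := @Bool.rec (fun _ => Nat) (Atab_s_823_825 c) (Atab_s_825_827 c) (Nat.ble 825 c)
noncomputable def Atab_s_827_829 (c : Nat) : Nat := @Bool.rec (fun _ => Nat) (Atab_827) (Atab_828) (Nat.ble 828 c)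
noncomputable def Atab_s_829_831 (c : Nat) : Nat := @Bool.rec (fun _ => Nat) (Atab_829) (Atab_830) (Nat.ble 830 c)
noncomputable def Atab_s_827_831 (c : Nat) : Nat := @Bool.rec (fun _ => Nat) (Atab_s_827_829 c) (Atab_s_829_831 c) (Nat.ble 829 c)
noncomputable def Atab_s_823_831 (c : Nat) : Nat := @Bool.rec (fun _ => Nat) (Atab_s_823_827 c) (Atab_s_827_831 c) (Nat.ble 827 c)
noncomputable def Atab_s_831_833 (c : Nat) : Nat := @Bool.rec (fun _ => Nat) (Atab_831) (Atab_832) (Nat.ble 832 c)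
noncomputable def Atab_s_833_835 (c : Nat) : Nat := @Bool.rec (fun _ => Nat) (Atab_833) (Atab_834) (Nat.ble 834 c)
noncomputable def Atab_s_831_835 (c : Nat) : Nat := @Bool.rec (fun _ => Nat) (Atab_s_831_833 c) (Atab_s_833_835 c) (Nat.ble 833 c)
noncomputable def Atab_s_835_837 (c : Nat) : Nat := @Bool.rec (fun _ => Nat) (Atab_835) (Atab_836) (Nat.ble 836 c)
noncomputable def Atab_s_838_840 (c : Nat) : Nat := @Bool.rec (fun _ => Nat) (Atab_838) (Atab_839) (Nat.ble 839 c)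
noncomputable def Atab_s_837_840 (c : Nat) : Nat := @Bool.rec (fun _ => Nat) (Atab_837) (Atab_s_838_840 c) (Nat.ble 838 c)
noncomputable def Atab_s_835_840 (c : Nat) : Nat := @Bool.rec (fun _ => Nat) (Atab_s_835_837 c) (Atab_s_837_840 c) (Nat.ble 837 c)
noncomputable def Atab_s_831_840 (c : Nat) : Nat := @Bool.rec (fun _ => Nat) (Atab_s_831_835 c) (Atab_s_835_840 c) (Nat.ble 835 c)
noncomputable def Atab_s_823_840 (c : Nat) : Nat := @Bool.rec (fun _ => Nat) (Atab_s_823_831 c) (Atab_s_831_840 c) (Nat.ble 831 c)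
noncomputable def Atab_s_807_840 (c : Nat) : Nat := @Bool.rec (fun _ => Nat) (Atab_s_807_823 c) (Atab_s_823_840 c) (Nat.ble 823 c)
noncomputable def Atab_s_840_842 (c : Nat) : Nat := @Bool.rec (fun _ => Nat) (Atab_840) (Atab_841) (Nat.ble 841 c)
noncomputable def Atab_s_842_844 (c : Nat) : Nat := @Bool.rec (fun _ => Nat) (Atab_842) (Atab_843) (Nat.ble 843 c)
noncomputable def Atab_s_840_844 (c : Nat) : Nat := @Bool.rec (fun _ => Nat) (Atab_s_840_842 c) (Atab_s_842_844 c) (Nat.ble 842 c)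
noncomputable def Atab_s_844_846 (c : Nat) : Nat := @Bool.rec (fun _ => Nat) (Atab_844) (Atab_845) (Nat.ble 845 c)
noncomputable def Atab_s_846_848 (c : Nat) : Nat := @Bool.rec (fun _ => Nat) (Atab_846) (Atab_847) (Nat.ble 847 c)
noncomputable def Atab_s_844_848 (c : Nat) : Nat := @Bool.rec (fun _ => Nat) (Atab_s_844_846 c) (Atab_s_846_848 c) (Nat.ble 846 c)
noncomputable def Atab_s_840_848 (c : Nat) : Nat := @Bool.rec (fun _ => Nat) (Atab_s_840_844 c) (Atab_s_844_848 c) (Nat.ble 844 c)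
noncomputable def Atab_s_848_850 (c : Nat) : Nat := @Bool.rec (fun _ => Nat) (Atab_848) (Atab_849) (Nat.ble 849 c)
noncomputable def Atab_s_850_852 (c : Nat) : Nat := @Bool.rec (fun _ => Nat) (Atab_850) (Atab_851) (Nat.ble 851 c)
noncomputable def Atab_s_848_852 (c : Nat) : Nat := @Bool.rec (fun _ => Nat) (Atab_s_848_850 c) (Atab_s_850_852 c) (Nat.ble 850 c)
noncomputable def Atab_s_852_854 (c : Nat) : Nat := @Bool.rec (fun _ => Nat) (Atab_852) (Atab_853) (Nat.ble 853 c)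
noncomputable def Atab_s_855_857 (c : Nat) : Nat := @Bool.rec (fun _ => Nat) (Atab_855) (Atab_856) (Nat.ble 856 c)
noncomputable def Atab_s_854_857 (c : Nat) : Nat := @Bool.rec (fun _ => Nat) (Atab_854) (Atab_s_855_857 c) (Nat.ble 855 c)
noncomputable def Atab_s_852_857 (c : Nat) : Nat := @Bool.rec (fun _ => Nat) (Atab_s_852_854 c) (Atab_s_854_857 c) (Nat.ble 854 c)
noncomputable def Atab_s_848_857 (c : Nat) : Nat := @Bool.rec (fun _ => Nat) (Atab_s_848_852 c) (Atab_s_852_857 c) (Nat.ble 852 c)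
noncomputable def Atab_s_840_857 (c : Nat) : Nat := @Bool.rec (fun _ => Nat) (Atab_s_840_848 c) (Atab_s_848_857 c) (Nat.ble 848 c)
noncomputable def Atab_s_857_859 (c : Nat) : Nat := @Bool.rec (fun _ => Nat) (Atab_857) (Atab_858) (Nat.ble 858 c)
noncomputable def Atab_s_859_861 (c : Nat) : Nat := @Bool.rec (fun _ => Nat) (Atab_859) (Atab_860) (Nat.ble 860 c)
noncomputable def Atab_s_857_861 (c : Nat) : Nat := @Bool.rec (fun _ => Nat) (Atab_s_857_859 c) (Atab_s_859_861 c) (Nat.ble 859 c)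
noncomputable def Atab_s_861_863 (c : Nat) : Nat := @Bool.rec (fun _ => Nat) (Atab_861) (Atab_862) (Nat.ble 862 c)
noncomputable def Atab_s_863_865 (c : Nat) : Nat := @Bool.rec (fun _ => Nat) (Atab_863) (Atab_864) (Nat.ble 864 c)
noncomputable def Atab_s_861_865 (c : Nat) : Nat := @Bool.rec (fun _ => Nat) (Atab_s_861_863 c) (Atab_s_863_865 c) (Nat.ble 863 c)
noncomputable def Atab_s_857_865 (c : Nat) : Nat := @Bool.rec (fun _ => Nat) (Atab_s_857_861 c) (Atab_s_861_865 c) (Nat.ble 861 c)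
noncomputable def Atab_s_865_867 (c : Nat) : Nat := @Bool.rec (fun _ => Nat) (Atab_865) (Atab_866) (Nat.ble 866 c)
noncomputable def Atab_s_867_869 (c : Nat) : Nat := @Bool.rec (fun _ => Nat) (Atab_867) (Atab_868) (Nat.ble 868 c)
noncomputable def Atab_s_865_869 (c : Nat) : Nat := @Bool.rec (fun _ => Nat) (Atab_s_865_867 c) (Atab_s_867_869 c) (Nat.ble 867 c)
noncomputable def Atab_s_869_871 (c : Nat) : Nat := @Bool.rec (fun _ => Nat) (Atab_869) (Atab_870) (Nat.ble 870 c)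
noncomputable def Atab_s_872_874 (c : Nat) : Nat := @Bool.rec (fun _ => Nat) (Atab_872) (Atab_873) (Nat.ble 873 c)
noncomputable def Atab_s_871_874 (c : Nat) : Nat := @Bool.rec (fun _ => Nat) (Atab_871) (Atab_s_872_874 c) (Nat.ble 872 c)
noncomputable def Atab_s_869_874 (c : Nat) : Nat := @Bool.rec (fun _ => Nat) (Atab_s_869_871 c) (Atab_s_871_874 c) (Nat.ble 871 c)
noncomputable def Atab_s_865_874 (c : Nat) : Nat := @Bool.rec (fun _ => Nat) (Atab_s_865_869 c) (Atab_s_869_874 c) (Nat.ble 869 c)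
noncomputable def Atab_s_857_874 (c : Nat) : Nat := @Bool.rec (fun _ => Nat) (Atab_s_857_865 c) (Atab_s_865_874 c) (Nat.ble 865 c)
noncomputable def Atab_s_840_874 (c : Nat) : Nat := @Bool.rec (fun _ => Nat) (Atab_s_840_857 c) (Atab_s_857_874 c) (Nat.ble 857 c)
noncomputable def Atab_s_807_874 (c : Nat) : Nat := @Bool.rec (fun _ => Nat) (Atab_s_807_840 c) (Atab_s_840_874 c) (Nat.ble 840 c)
noncomputable def Atab_s_874_876 (c : Nat) : Nat := @Bool.rec (fun _ => Nat) (Atab_874) (Atab_875) (Nat.ble 875 c)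
noncomputable def Atab_s_876_878 (c : Nat) : Nat := @Bool.rec (fun _ => Nat) (Atab_876) (Atab_877) (Nat.ble 877 c)
noncomputable def Atab_s_874_878 (c : Nat) : Nat := @Bool.rec (fun _ => Nat) (Atab_s_874_876 c) (Atab_s_876_878 c) (Nat.ble 876 c)
noncomputable def Atab_s_878_880 (c : Nat) : Nat := @Bool.rec (fun _ => Nat) (Atab_878) (Atab_879) (Nat.ble 879 c)
noncomputable def Atab_s_880_882 (c : Nat) : Nat := @Bool.rec (fun _ => Nat) (Atab_880) (Atab_881) (Nat.ble 881 c)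
noncomputable def Atab_s_878_882 (c : Nat) : Nat := @Bool.rec (fun _ => Nat) (Atab_s_878_880 c) (Atab_s_880_882 c) (Nat.ble 880 c)
noncomputable def Atab_s_874_882 (c : Nat) : Nat := @Bool.rec (fun _ => Nat) (Atab_s_874_878 c) (Atab_s_878_882 c) (Nat.ble 878 c)
noncomputable def Atab_s_882_884 (c : Nat) : Nat := @Bool.rec (fun _ => Nat) (Atab_882) (Atab_883) (Nat.ble 883 c)
noncomputable def Atab_s_884_886 (c : Nat) : Nat := @Bool.rec (fun _ => Nat) (Atab_884) (Atab_885) (Nat.ble 885 c)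
noncomputable def Atab_s_882_886 (c : Nat) : Nat := @Bool.rec (fun _ => Nat) (Atab_s_882_884 c) (Atab_s_884_886 c) (Nat.ble 884 c)
noncomputable def Atab_s_886_888 (c : Nat) : Nat := @Bool.rec (fun _ => Nat) (Atab_886) (Atab_887) (Nat.ble 887 c)
noncomputable def Atab_s_889_891 (c : Nat) : Nat := @Bool.rec (fun _ => Nat) (Atab_889) (Atab_890) (Nat.ble 890 c)
noncomputable def Atab_s_888_891 (c : Nat) : Nat := @Bool.rec (fun _ => Nat) (Atab_888) (Atab_s_889_891 c) (Nat.ble 889 c)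
noncomputable def Atab_s_886_891 (c : Nat) : Nat := @Bool.rec (fun _ => Nat) (Atab_s_886_888 c) (Atab_s_888_891 c) (Nat.ble 888 c)
noncomputable def Atab_s_882_891 (c : Nat) : Nat := @Bool.rec (fun _ => Nat) (Atab_s_882_886 c) (Atab_s_886_891 c) (Nat.ble 886 c)
noncomputable def Atab_s_874_891 (c : Nat) : Nat := @Bool.rec (fun _ => Nat) (Atab_s_874_882 c) (Atab_s_882_891 c) (Nat.ble 882 c)
noncomputable def Atab_s_891_893 (c : Nat) : Nat := @Bool.rec (fun _ => Nat) (Atab_891) (Atab_892) (Nat.ble 892 c)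
noncomputable def Atab_s_893_895 (c : Nat) : Nat := @Bool.rec (fun _ => Nat) (Atab_893) (Atab_894) (Nat.ble 894 c)
noncomputable def Atab_s_891_895 (c : Nat) : Nat := @Bool.rec (fun _ => Nat) (Atab_s_891_893 c) (Atab_s_893_895 c) (Nat.ble 893 c)
noncomputable def Atab_s_895_897 (c : Nat) : Nat := @Bool.rec (fun _ => Nat) (Atab_895) (Atab_896) (Nat.ble 896 c)
noncomputable def Atab_s_897_899 (c : Nat) : Nat := @Bool.rec (fun _ => Nat) (Atab_897) (Atab_898) (Nat.ble 898 c)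
noncomputable def Atab_s_895_899 (c : Nat) : Nat := @Bool.rec (fun _ => Nat) (Atab_s_895_897 c) (Atab_s_897_899 c) (Nat.ble 897 c)
noncomputable def Atab_s_891_899 (c : Nat) : Nat := @Bool.rec (fun _ => Nat) (Atab_s_891_895 c) (Atab_s_895_899 c) (Nat.ble 895 c)
noncomputable def Atab_s_899_901 (c : Nat) : Nat := @Bool.rec (fun _ => Nat) (Atab_899) (Atab_900) (Nat.ble 900 c)
noncomputable def Atab_s_901_903 (c : Nat) : Nat := @Bool.rec (fun _ => Nat) (Atab_901) (Atab_902) (Nat.ble 902 c)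
noncomputable def Atab_s_899_903 (c : Nat) : Nat := @Bool.rec (fun _ => Nat) (Atab_s_899_901 c) (Atab_s_901_903 c) (Nat.ble 901 c)
noncomputable def Atab_s_903_905 (c : Nat) : Nat := @Bool.rec (fun _ => Nat) (Atab_903) (Atab_904) (Nat.ble 904 c)
noncomputable def Atab_s_906_908 (c : Nat) : Nat := @Bool.rec (fun _ => Nat) (Atab_906) (Atab_907) (Nat.ble 907 c)
noncomputable def Atab_s_905_908 (c : Nat) : Nat := @Bool.rec (fun _ => Nat) (Atab_905) (Atab_s_906_908 c) (Nat.ble 906 c)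
noncomputable def Atab_s_903_908 (c : Nat) : Nat := @Bool.rec (fun _ => Nat) (Atab_s_903_905 c) (Atab_s_905_908 c) (Nat.ble 905 c)
noncomputable def Atab_s_899_908 (c : Nat) : Nat := @Bool.rec (fun _ => Nat) (Atab_s_899_903 c) (Atab_s_903_908 c) (Nat.ble 903 c)
noncomputable def Atab_s_891_908 (c : Nat) : Nat := @Bool.rec (fun _ => Nat) (Atab_s_891_899 c) (Atab_s_899_908 c) (Nat.ble 899 c)
noncomputable def Atab_s_874_908 (c : Nat) : Nat := @Bool.rec (fun _ => Nat) (Atab_s_874_891 c) (Atab_s_891_908 c) (Nat.ble 891 c)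
noncomputable def Atab_s_908_910 (c : Nat) : Nat := @Bool.rec (fun _ => Nat) (Atab_908) (Atab_909) (Nat.ble 909 c)
noncomputable def Atab_s_910_912 (c : Nat) : Nat := @Bool.rec (fun _ => Nat) (Atab_910) (Atab_911) (Nat.ble 911 c)
noncomputable def Atab_s_908_912 (c : Nat) : Nat := @Bool.rec (fun _ => Nat) (Atab_s_908_910 c) (Atab_s_910_912 c) (Nat.ble 910 c)
noncomputable def Atab_s_912_914 (c : Nat) : Nat := @Bool.rec (fun _ => Nat) (Atab_912) (Atab_913) (Nat.ble 913 c)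
noncomputable def Atab_s_914_916 (c : Nat) : Nat := @Bool.rec (fun _ => Nat) (Atab_914) (Atab_915) (Nat.ble 915 c)
noncomputable def Atab_s_912_916 (c : Nat) : Nat := @Bool.rec (fun _ => Nat) (Atab_s_912_914 c) (Atab_s_914_916 c) (Nat.ble 914 c)
noncomputable def Atab_s_908_916 (c : Nat) : Nat := @Bool.rec (fun _ => Nat) (Atab_s_908_912 c) (Atab_s_912_916 c) (Nat.ble 912 c)
noncomputable def Atab_s_916_918 (c : Nat) : Nat := @Bool.rec (fun _ => Nat) (Atab_916) (Atab_917) (Nat.ble 917 c)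
noncomputable def Atab_s_918_920 (c : Nat) : Nat := @Bool.rec (fun _ => Nat) (Atab_918) (Atab_919) (Nat.ble 919 c)
noncomputable def Atab_s_916_920 (c : Nat) : Nat := @Bool.rec (fun _ => Nat) (Atab_s_916_918 c) (Atab_s_918_920 c) (Nat.ble 918 c)
noncomputable def Atab_s_920_922 (c : Nat) : Nat := @Bool.rec (fun _ => Nat) (Atab_920) (Atab_921) (Nat.ble 921 c)
noncomputable def Atab_s_923_925 (c : Nat) : Nat := @Bool.rec (fun _ => Nat) (Atab_923) (Atab_924) (Nat.ble 924 c)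
noncomputable def Atab_s_922_925 (c : Nat) : Nat := @Bool.rec (fun _ => Nat) (Atab_922) (Atab_s_923_925 c) (Nat.ble 923 c)
noncomputable def Atab_s_920_925 (c : Nat) : Nat := @Bool.rec (fun _ => Nat) (Atab_s_920_922 c) (Atab_s_922_925 c) (Nat.ble 922 c)
noncomputable def Atab_s_916_925 (c : Nat) : Nat := @Bool.rec (fun _ => Nat) (Atab_s_916_920 c) (Atab_s_920_925 c) (Nat.ble 920 c)
noncomputable def Atab_s_908_925 (c : Nat) : Nat := @Bool.rec (fun _ => Nat) (Atab_s_908_916 c) (Atab_s_916_925 c) (Nat.ble 916 c)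
noncomputable def Atab_s_925_927 (c : Nat) : Nat := @Bool.rec (fun _ => Nat) (Atab_925) (Atab_926) (Nat.ble 926 c)
noncomputable def Atab_s_927_929 (c : Nat) : Nat := @Bool.rec (fun _ => Nat) (Atab_927) (Atab_928) (Nat.ble 928 c)
noncomputable def Atab_s_925_929 (c : Nat) : Nat := @Bool.rec (fun _ => Nat) (Atab_s_925_927 c) (Atab_s_927_929 c) (Nat.ble 927 c)
noncomputable def Atab_s_929_931 (c : Nat) : Nat := @Bool.rec (fun _ => Nat) (Atab_929) (Atab_930) (Nat.ble 930 c)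
noncomputable def Atab_s_931_933 (c : Nat) : Nat := @Bool.rec (fun _ => Nat) (Atab_931) (Atab_932) (Nat.ble 932 c)
noncomputable def Atab_s_929_933 (c : Nat) : Nat := @Bool.rec (fun _ => Nat) (Atab_s_929_931 c) (Atab_s_931_933 c) (Nat.ble 931 c)
noncomputable def Atab_s_925_933 (c : Nat) : Nat := @Bool.rec (fun _ => Nat) (Atab_s_925_929 c) (Atab_s_929_933 c) (Nat.ble 929 c)
noncomputable def Atab_s_933_935 (c : Nat) : Nat := @Bool.rec (fun _ => Nat) (Atab_933) (Atab_934) (Nat.ble 934 c)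
noncomputable def Atab_s_935_937 (c : Nat) : Nat := @Bool.rec (fun _ => Nat) (Atab_935) (Atab_936) (Nat.ble 936 c)
noncomputable def Atab_s_933_937 (c : Nat) : Nat := @Bool.rec (fun _ => Nat) (Atab_s_933_935 c) (Atab_s_935_937 c) (Nat.ble 935 c)
noncomputable def Atab_s_937_939 (c : Nat) : Nat := @Bool.rec (fun _ => Nat) (Atab_937) (Atab_938) (Nat.ble 938 c)
noncomputable def Atab_s_940_942 (c : Nat) : Nat := @Bool.rec (fun _ => Nat) (Atab_940) (Atab_941) (Nat.ble 941 c)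
noncomputable def Atab_s_939_942 (c : Nat) : Nat := @Bool.rec (fun _ => Nat) (Atab_939) (Atab_s_940_942 c) (Nat.ble 940 c)
noncomputable def Atab_s_937_942 (c : Nat) : Nat := @Bool.rec (fun _ => Nat) (Atab_s_937_939 c) (Atab_s_939_942 c) (Nat.ble 939 c)
noncomputable def Atab_s_933_942 (c : Nat) : Nat := @Bool.rec (fun _ => Nat) (Atab_s_933_937 c) (Atab_s_937_942 c) (Nat.ble 937 c)
noncomputable def Atab_s_925_942 (c : Nat) : Nat := @Bool.rec (fun _ => Nat) (Atab_s_925_933 c) (Atab_s_933_942 c) (Nat.ble 933 c)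
noncomputable def Atab_s_908_942 (c : Nat) : Nat := @Bool.rec (fun _ => Nat) (Atab_s_908_925 c) (Atab_s_925_942 c) (Nat.ble 925 c)
noncomputable def Atab_s_874_942 (c : Nat) : Nat := @Bool.rec (fun _ => Nat) (Atab_s_874_908 c) (Atab_s_908_942 c) (Nat.ble 908 c)
noncomputable def Atab_s_807_942 (c : Nat) : Nat := @Bool.rec (fun _ => Nat) (Atab_s_807_874 c) (Atab_s_874_942 c) (Nat.ble 874 c)
noncomputable def Atab_s_942_944 (c : Nat) : Nat := @Bool.rec (fun _ => Nat) (Atab_942) (Atab_943) (Nat.ble 943 c)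
noncomputable def Atab_s_944_946 (c : Nat) : Nat := @Bool.rec (fun _ => Nat) (Atab_944) (Atab_945) (Nat.ble 945 c)
noncomputable def Atab_s_942_946 (c : Nat) : Nat := @Bool.rec (fun _ => Nat) (Atab_s_942_944 c) (Atab_s_944_946 c) (Nat.ble 944 c)
noncomputable def Atab_s_946_948 (c : Nat) : Nat := @Bool.rec (fun _ => Nat) (Atab_946) (Atab_947) (Nat.ble 947 c)
noncomputable def Atab_s_948_950 (c : Nat) : Nat := @Bool.rec (fun _ => Nat) (Atab_948) (Atab_949) (Nat.ble 949 c)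
noncomputable def Atab_s_946_950 (c : Nat) : Nat := @Bool.rec (fun _ => Nat) (Atab_s_946_948 c) (Atab_s_948_950 c) (Nat.ble 948 c)
noncomputable def Atab_s_942_950 (c : Nat) : Nat := @Bool.rec (fun _ => Nat) (Atab_s_942_946 c) (Atab_s_946_950 c) (Nat.ble 946 c)
noncomputable def Atab_s_950_952 (c : Nat) : Nat := @Bool.rec (fun _ => Nat) (Atab_950) (Atab_951) (Nat.ble 951 c)
noncomputable def Atab_s_952_954 (c : Nat) : Nat := @Bool.rec (fun _ => Nat) (Atab_952) (Atab_953) (Nat.ble 953 c)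
noncomputable def Atab_s_950_954 (c : Nat) : Nat := @Bool.rec (fun _ => Nat) (Atab_s_950_952 c) (Atab_s_952_954 c) (Nat.ble 952 c)
noncomputable def Atab_s_954_956 (c : Nat) : Nat := @Bool.rec (fun _ => Nat) (Atab_954) (Atab_955) (Nat.ble 955 c)
noncomputable def Atab_s_956_958 (c : Nat) : Nat := @Bool.rec (fun _ => Nat) (Atab_956) (Atab_957) (Nat.ble 957 c)
noncomputable def Atab_s_954_958 (c : Nat) : Nat := @Bool.rec (fun _ => Nat) (Atab_s_954_956 c) (Atab_s_956_958 c) (Nat.ble 956 c)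
noncomputable def Atab_s_950_958 (c : Nat) : Nat := @Bool.rec (fun _ => Nat) (Atab_s_950_954 c) (Atab_s_954_958 c) (Nat.ble 954 c)
noncomputable def Atab_s_942_958 (c : Nat) : Nat := @Bool.rec (fun _ => Nat) (Atab_s_942_950 c) (Atab_s_950_958 c) (Nat.ble 950 c)
noncomputable def Atab_s_958_960 (c : Nat) : Nat := @Bool.rec (fun _ => Nat) (Atab_958) (Atab_959) (Nat.ble 959 c)
noncomputable def Atab_s_960_962 (c : Nat) : Nat := @Bool.rec (fun _ => Nat) (Atab_960) (Atab_961) (Nat.ble 961 c)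
noncomputable def Atab_s_958_962 (c : Nat) : Nat := @Bool.rec (fun _ => Nat) (Atab_s_958_960 c) (Atab_s_960_962 c) (Nat.ble 960 c)
noncomputable def Atab_s_962_964 (c : Nat) : Nat := @Bool.rec (fun _ => Nat) (Atab_962) (Atab_963) (Nat.ble 963 c)
noncomputable def Atab_s_964_966 (c : Nat) : Nat := @Bool.rec (fun _ => Nat) (Atab_964) (Atab_965) (Nat.ble 965 c)
noncomputable def Atab_s_962_966 (c : Nat) : Nat := @Bool.rec (fun _ => Nat) (Atab_s_962_964 c) (Atab_s_964_966 c) (Nat.ble 964 c)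
noncomputable def Atab_s_958_966 (c : Nat) : Nat := @Bool.rec (fun _ => Nat) (Atab_s_958_962 c) (Atab_s_962_966 c) (Nat.ble 962 c)
noncomputable def Atab_s_966_968 (c : Nat) : Nat := @Bool.rec (fun _ => Nat) (Atab_966) (Atab_967) (Nat.ble 967 c)
noncomputable def Atab_s_968_970 (c : Nat) : Nat := @Bool.rec (fun _ => Nat) (Atab_968) (Atab_969) (Nat.ble 969 c)
noncomputable def Atab_s_966_970 (c : Nat) : Nat := @Bool.rec (fun _ => Nat) (Atab_s_966_968 c) (Atab_s_968_970 c) (Nat.ble 968 c)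
noncomputable def Atab_s_970_972 (c : Nat) : Nat := @Bool.rec (fun _ => Nat) (Atab_970) (Atab_971) (Nat.ble 971 c)
noncomputable def Atab_s_973_975 (c : Nat) : Nat := @Bool.rec (fun _ => Nat) (Atab_973) (Atab_974) (Nat.ble 974 c)
noncomputable def Atab_s_972_975 (c : Nat) : Nat := @Bool.rec (fun _ => Nat) (Atab_972) (Atab_s_973_975 c) (Nat.ble 973 c)
noncomputable def Atab_s_970_975 (c : Nat) : Nat := @Bool.rec (fun _ => Nat) (Atab_s_970_972 c) (Atab_s_972_975 c) (Nat.ble 972 c)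
noncomputable def Atab_s_966_975 (c : Nat) : Nat := @Bool.rec (fun _ => Nat) (Atab_s_966_970 c) (Atab_s_970_975 c) (Nat.ble 970 c)
noncomputable def Atab_s_958_975 (c : Nat) : Nat := @Bool.rec (fun _ => Nat) (Atab_s_958_966 c) (Atab_s_966_975 c) (Nat.ble 966 c)
noncomputable def Atab_s_942_975 (c : Nat) : Nat := @Bool.rec (fun _ => Nat) (Atab_s_942_958 c) (Atab_s_958_975 c) (Nat.ble 958 c)
noncomputable def Atab_s_975_977 (c : Nat) : Nat := @Bool.rec (fun _ => Nat) (Atab_975) (Atab_976) (Nat.ble 976 c)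
noncomputable def Atab_s_977_979 (c : Nat) : Nat := @Bool.rec (fun _ => Nat) (Atab_977) (Atab_978) (Nat.ble 978 c)
noncomputable def Atab_s_975_979 (c : Nat) : Nat := @Bool.rec (fun _ => Nat) (Atab_s_975_977 c) (Atab_s_977_979 c) (Nat.ble 977 c)
noncomputable def Atab_s_979_981 (c : Nat) : Nat := @Bool.rec (fun _ => Nat) (Atab_979) (Atab_980) (Nat.ble 980 c)
noncomputable def Atab_s_981_983 (c : Nat) : Nat := @Bool.rec (fun _ => Nat) (Atab_981) (Atab_982) (Nat.ble 982 c)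
noncomputable def Atab_s_979_983 (c : Nat) : Nat := @Bool.rec (fun _ => Nat) (Atab_s_979_981 c) (Atab_s_981_983 c) (Nat.ble 981 c)
noncomputable def Atab_s_975_983 (c : Nat) : Nat := @Bool.rec (fun _ => Nat) (Atab_s_975_979 c) (Atab_s_979_983 c) (Nat.ble 979 c)
noncomputable def Atab_s_983_985 (c : Nat) : Nat := @Bool.rec (fun _ => Nat) (Atab_983) (Atab_984) (Nat.ble 984 c)
noncomputable def Atab_s_985_987 (c : Nat) : Nat := @Bool.rec (fun _ => Nat) (Atab_985) (Atab_986) (Nat.ble 986 c)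
noncomputable def Atab_s_983_987 (c : Nat) : Nat := @Bool.rec (fun _ => Nat) (Atab_s_983_985 c) (Atab_s_985_987 c) (Nat.ble 985 c)
noncomputable def Atab_s_987_989 (c : Nat) : Nat := @Bool.rec (fun _ => Nat) (Atab_987) (Atab_988) (Nat.ble 988 c)
noncomputable def Atab_s_990_992 (c : Nat) : Nat := @Bool.rec (fun _ => Nat) (Atab_990) (Atab_991) (Nat.ble 991 c)
noncomputable def Atab_s_989_992 (c : Nat) : Nat := @Bool.rec (fun _ => Nat) (Atab_989) (Atab_s_990_992 c) (Nat.ble 990 c)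
noncomputable def Atab_s_987_992 (c : Nat) : Nat := @Bool.rec (fun _ => Nat) (Atab_s_987_989 c) (Atab_s_989_992 c) (Nat.ble 989 c)
noncomputable def Atab_s_983_992 (c : Nat) : Nat := @Bool.rec (fun _ => Nat) (Atab_s_983_987 c) (Atab_s_987_992 c) (Nat.ble 987 c)
noncomputable def Atab_s_975_992 (c : Nat) : Nat := @Bool.rec (fun _ => Nat) (Atab_s_975_983 c) (Atab_s_983_992 c) (Nat.ble 983 c)
noncomputable def Atab_s_992_994 (c : Nat) : Nat := @Bool.rec (fun _ => Nat) (Atab_992) (Atab_993) (Nat.ble 993 c)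
noncomputable def Atab_s_994_996 (c : Nat) : Nat := @Bool.rec (fun _ => Nat) (Atab_994) (Atab_995) (Nat.ble 995 c)
noncomputable def Atab_s_992_996 (c : Nat) : Nat := @Bool.rec (fun _ => Nat) (Atab_s_992_994 c) (Atab_s_994_996 c) (Nat.ble 994 c)
noncomputable def Atab_s_996_998 (c : Nat) : Nat := @Bool.rec (fun _ => Nat) (Atab_996) (Atab_997) (Nat.ble 997 c)
noncomputable def Atab_s_998_1000 (c : Nat) : Nat := @Bool.rec (fun _ => Nat) (Atab_998) (Atab_999) (Nat.ble 999 c)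
noncomputable def Atab_s_996_1000 (c : Nat) : Nat := @Bool.rec (fun _ => Nat) (Atab_s_996_998 c) (Atab_s_998_1000 c) (Nat.ble 998 c)
noncomputable def Atab_s_992_1000 (c : Nat) : Nat := @Bool.rec (fun _ => Nat) (Atab_s_992_996 c) (Atab_s_996_1000 c) (Nat.ble 996 c)
noncomputable def Atab_s_1000_1002 (c : Nat) : Nat := @Bool.rec (fun _ => Nat) (Atab_1000) (Atab_1001) (Nat.ble 1001 c)
noncomputable def Atab_s_1002_1004 (c : Nat) : Nat := @Bool.rec (fun _ => Nat) (Atab_1002) (Atab_1003) (Nat.ble 1003 c)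
noncomputable def Atab_s_1000_1004 (c : Nat) : Nat := @Bool.rec (fun _ => Nat) (Atab_s_1000_1002 c) (Atab_s_1002_1004 c) (Nat.ble 1002 c)
noncomputable def Atab_s_1004_1006 (c : Nat) : Nat := @Bool.rec (fun _ => Nat) (Atab_1004) (Atab_1005) (Nat.ble 1005 c)
noncomputable def Atab_s_1007_1009 (c : Nat) : Nat := @Bool.rec (fun _ => Nat) (Atab_1007) (Atab_1008) (Nat.ble 1008 c)
noncomputable def Atab_s_1006_1009 (c : Nat) : Nat := @Bool.rec (fun _ => Nat) (Atab_1006) (Atab_s_1007_1009 c) (Nat.ble 1007 c)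
noncomputable def Atab_s_1004_1009 (c : Nat) : Nat := @Bool.rec (fun _ => Nat) (Atab_s_1004_1006 c) (Atab_s_1006_1009 c) (Nat.ble 1006 c)
noncomputable def Atab_s_1000_1009 (c : Nat) : Nat := @Bool.rec (fun _ => Nat) (Atab_s_1000_1004 c) (Atab_s_1004_1009 c) (Nat.ble 1004 c)
noncomputable def Atab_s_992_1009 (c : Nat) : Nat := @Bool.rec (fun _ => Nat) (Atab_s_992_1000 c) (Atab_s_1000_1009 c) (Nat.ble 1000 c)
noncomputable def Atab_s_975_1009 (c : Nat) : Nat := @Bool.rec (fun _ => Nat) (Atab_s_975_992 c) (Atab_s_992_1009 c) (Nat.ble 992 c)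
noncomputable def Atab_s_942_1009 (c : Nat) : Nat := @Bool.rec (fun _ => Nat) (Atab_s_942_975 c) (Atab_s_975_1009 c) (Nat.ble 975 c)
noncomputable def Atab_s_1009_1011 (c : Nat) : Nat := @Bool.rec (fun _ => Nat) (Atab_1009) (Atab_1010) (Nat.ble 1010 c)
noncomputable def Atab_s_1011_1013 (c : Nat) : Nat := @Bool.rec (fun _ => Nat) (Atab_1011) (Atab_1012) (Nat.ble 1012 c)
noncomputable def Atab_s_1009_1013 (c : Nat) : Nat := @Bool.rec (fun _ => Nat) (Atab_s_1009_1011 c) (Atab_s_1011_1013 c) (Nat.ble 1011 c)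
noncomputable def Atab_s_1013_1015 (c : Nat) : Nat := @Bool.rec (fun _ => Nat) (Atab_1013) (Atab_1014) (Nat.ble 1014 c)
noncomputable def Atab_s_1015_1017 (c : Nat) : Nat := @Bool.rec (fun _ => Nat) (Atab_1015) (Atab_1016) (Nat.ble 1016 c)
noncomputable def Atab_s_1013_1017 (c : Nat) : Nat := @Bool.rec (fun _ => Nat) (Atab_s_1013_1015 c) (Atab_s_1015_1017 c) (Nat.ble 1015 c)
noncomputable def Atab_s_1009_1017 (c : Nat) : Nat := @Bool.rec (fun _ => Nat) (Atab_s_1009_1013 c) (Atab_s_1013_1017 c) (Nat.ble 1013 c)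
noncomputable def Atab_s_1017_1019 (c : Nat) : Nat := @Bool.rec (fun _ => Nat) (Atab_1017) (Atab_1018) (Nat.ble 1018 c)
noncomputable def Atab_s_1019_1021 (c : Nat) : Nat := @Bool.rec (fun _ => Nat) (Atab_1019) (Atab_1020) (Nat.ble 1020 c)
noncomputable def Atab_s_1017_1021 (c : Nat) : Nat := @Bool.rec (fun _ => Nat) (Atab_s_1017_1019 c) (Atab_s_1019_1021 c) (Nat.ble 1019 c)
noncomputable def Atab_s_1021_1023 (c : Nat) : Nat := @Bool.rec (fun _ => Nat) (Atab_1021) (Atab_1022) (Nat.ble 1022 c)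
noncomputable def Atab_s_1024_1026 (c : Nat) : Nat := @Bool.rec (fun _ => Nat) (Atab_1024) (Atab_1025) (Nat.ble 1025 c)
noncomputable def Atab_s_1023_1026 (c : Nat) : Nat := @Bool.rec (fun _ => Nat) (Atab_1023) (Atab_s_1024_1026 c) (Nat.ble 1024 c)
noncomputable def Atab_s_1021_1026 (c : Nat) : Nat := @Bool.rec (fun _ => Nat) (Atab_s_1021_1023 c) (Atab_s_1023_1026 c) (Nat.ble 1023 c)
noncomputable def Atab_s_1017_1026 (c : Nat) : Nat := @Bool.rec (fun _ => Nat) (Atab_s_1017_1021 c) (Atab_s_1021_1026 c) (Nat.ble 1021 c)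
noncomputable def Atab_s_1009_1026 (c : Nat) : Nat := @Bool.rec (fun _ => Nat) (Atab_s_1009_1017 c) (Atab_s_1017_1026 c) (Nat.ble 1017 c)
noncomputable def Atab_s_1026_1028 (c : Nat) : Nat := @Bool.rec (fun _ => Nat) (Atab_1026) (Atab_1027) (Nat.ble 1027 c)
noncomputable def Atab_s_1028_1030 (c : Nat) : Nat := @Bool.rec (fun _ => Nat) (Atab_1028) (Atab_1029) (Nat.ble 1029 c)
noncomputable def Atab_s_1026_1030 (c : Nat) : Nat := @Bool.rec (fun _ => Nat) (Atab_s_1026_1028 c) (Atab_s_1028_1030 c) (Nat.ble 1028 c)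
noncomputable def Atab_s_1030_1032 (c : Nat) : Nat := @Bool.rec (fun _ => Nat) (Atab_1030) (Atab_1031) (Nat.ble 1031 c)
noncomputable def Atab_s_1032_1034 (c : Nat) : Nat := @Bool.rec (fun _ => Nat) (Atab_1032) (Atab_1033) (Nat.ble 1033 c)
noncomputable def Atab_s_1030_1034 (c : Nat) : Nat := @Bool.rec (fun _ => Nat) (Atab_s_1030_1032 c) (Atab_s_1032_1034 c) (Nat.ble 1032 c)
noncomputable def Atab_s_1026_1034 (c : Nat) : Nat := @Bool.rec (fun _ => Nat) (Atab_s_1026_1030 c) (Atab_s_1030_1034 c) (Nat.ble 1030 c)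
noncomputable def Atab_s_1034_1036 (c : Nat) : Nat := @Bool.rec (fun _ => Nat) (Atab_1034) (Atab_1035) (Nat.ble 1035 c)
noncomputable def Atab_s_1036_1038 (c : Nat) : Nat := @Bool.rec (fun _ => Nat) (Atab_1036) (Atab_1037) (Nat.ble 1037 c)
noncomputable def Atab_s_1034_1038 (c : Nat) : Nat := @Bool.rec (fun _ => Nat) (Atab_s_1034_1036 c) (Atab_s_1036_1038 c) (Nat.ble 1036 c)
noncomputable def Atab_s_1038_1040 (c : Nat) : Nat := @Bool.rec (fun _ => Nat) (Atab_1038) (Atab_1039) (Nat.ble 1039 c)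
noncomputable def Atab_s_1041_1043 (c : Nat) : Nat := @Bool.rec (fun _ => Nat) (Atab_1041) (Atab_1042) (Nat.ble 1042 c)
noncomputable def Atab_s_1040_1043 (c : Nat) : Nat := @Bool.rec (fun _ => Nat) (Atab_1040) (Atab_s_1041_1043 c) (Nat.ble 1041 c)
noncomputable def Atab_s_1038_1043 (c : Nat) : Nat := @Bool.rec (fun _ => Nat) (Atab_s_1038_1040 c) (Atab_s_1040_1043 c) (Nat.ble 1040 c)
noncomputable def Atab_s_1034_1043 (c : Nat) : Nat := @Bool.rec (fun _ => Nat) (Atab_s_1034_1038 c) (Atab_s_1038_1043 c) (Nat.ble 1038 c)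
noncomputable def Atab_s_1026_1043 (c : Nat) : Nat := @Bool.rec (fun _ => Nat) (Atab_s_1026_1034 c) (Atab_s_1034_1043 c) (Nat.ble 1034 c)
noncomputable def Atab_s_1009_1043 (c : Nat) : Nat := @Bool.rec (fun _ => Nat) (Atab_s_1009_1026 c) (Atab_s_1026_1043 c) (Nat.ble 1026 c)
noncomputable def Atab_s_1043_1045 (c : Nat) : Nat := @Bool.rec (fun _ => Nat) (Atab_1043) (Atab_1044) (Nat.ble 1044 c)
noncomputable def Atab_s_1045_1047 (c : Nat) : Nat := @Bool.rec (fun _ => Nat) (Atab_1045) (Atab_1046) (Nat.ble 1046 c)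
noncomputable def Atab_s_1043_1047 (c : Nat) : Nat := @Bool.rec (fun _ => Nat) (Atab_s_1043_1045 c) (Atab_s_1045_1047 c) (Nat.ble 1045 c)
noncomputable def Atab_s_1047_1049 (c : Nat) : Nat := @Bool.rec (fun _ => Nat) (Atab_1047) (Atab_1048) (Nat.ble 1048 c)
noncomputable def Atab_s_1049_1051 (c : Nat) : Nat := @Bool.rec (fun _ => Nat) (Atab_1049) (Atab_1050) (Nat.ble 1050 c)
noncomputable def Atab_s_1047_1051 (c : Nat) : Nat := @Bool.rec (fun _ => Nat) (Atab_s_1047_1049 c) (Atab_s_1049_1051 c) (Nat.ble 1049 c)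
noncomputable def Atab_s_1043_1051 (c : Nat) : Nat := @Bool.rec (fun _ => Nat) (Atab_s_1043_1047 c) (Atab_s_1047_1051 c) (Nat.ble 1047 c)
noncomputable def Atab_s_1051_1053 (c : Nat) : Nat := @Bool.rec (fun _ => Nat) (Atab_1051) (Atab_1052) (Nat.ble 1052 c)
noncomputable def Atab_s_1053_1055 (c : Nat) : Nat := @Bool.rec (fun _ => Nat) (Atab_1053) (Atab_1054) (Nat.ble 1054 c)
noncomputable def Atab_s_1051_1055 (c : Nat) : Nat := @Bool.rec (fun _ => Nat) (Atab_s_1051_1053 c) (Atab_s_1053_1055 c) (Nat.ble 1053 c)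
noncomputable def Atab_s_1055_1057 (c : Nat) : Nat := @Bool.rec (fun _ => Nat) (Atab_1055) (Atab_1056) (Nat.ble 1056 c)
noncomputable def Atab_s_1058_1060 (c : Nat) : Nat := @Bool.rec (fun _ => Nat) (Atab_1058) (Atab_1059) (Nat.ble 1059 c)
noncomputable def Atab_s_1057_1060 (c : Nat) : Nat := @Bool.rec (fun _ => Nat) (Atab_1057) (Atab_s_1058_1060 c) (Nat.ble 1058 c)
noncomputable def Atab_s_1055_1060 (c : Nat) : Nat := @Bool.rec (fun _ => Nat) (Atab_s_1055_1057 c) (Atab_s_1057_1060 c) (Nat.ble 1057 c)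
noncomputable def Atab_s_1051_1060 (c : Nat) : Nat := @Bool.rec (fun _ => Nat) (Atab_s_1051_1055 c) (Atab_s_1055_1060 c) (Nat.ble 1055 c)
noncomputable def Atab_s_1043_1060 (c : Nat) : Nat := @Bool.rec (fun _ => Nat) (Atab_s_1043_1051 c) (Atab_s_1051_1060 c) (Nat.ble 1051 c)
noncomputable def Atab_s_1060_1062 (c : Nat) : Nat := @Bool.rec (fun _ => Nat) (Atab_1060) (Atab_1061) (Nat.ble 1061 c)
noncomputable def Atab_s_1062_1064 (c : Nat) : Nat := @Bool.rec (fun _ => Nat) (Atab_1062) (Atab_1063) (Nat.ble 1063 c)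
noncomputable def Atab_s_1060_1064 (c : Nat) : Nat := @Bool.rec (fun _ => Nat) (Atab_s_1060_1062 c) (Atab_s_1062_1064 c) (Nat.ble 1062 c)
noncomputable def Atab_s_1064_1066 (c : Nat) : Nat := @Bool.rec (fun _ => Nat) (Atab_1064) (Atab_1065) (Nat.ble 1065 c)
noncomputable def Atab_s_1066_1068 (c : Nat) : Nat := @Bool.rec (fun _ => Nat) (Atab_1066) (Atab_1067) (Nat.ble 1067 c)
noncomputable def Atab_s_1064_1068 (c : Nat) : Nat := @Bool.rec (fun _ => Nat) (Atab_s_1064_1066 c) (Atab_s_1066_1068 c) (Nat.ble 1066 c)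
noncomputable def Atab_s_1060_1068 (c : Nat) : Nat := @Bool.rec (fun _ => Nat) (Atab_s_1060_1064 c) (Atab_s_1064_1068 c) (Nat.ble 1064 c)
noncomputable def Atab_s_1068_1070 (c : Nat) : Nat := @Bool.rec (fun _ => Nat) (Atab_1068) (Atab_1069) (Nat.ble 1069 c)
noncomputable def Atab_s_1070_1072 (c : Nat) : Nat := @Bool.rec (fun _ => Nat) (Atab_1070) (Atab_1071) (Nat.ble 1071 c)
noncomputable def Atab_s_1068_1072 (c : Nat) : Nat := @Bool.rec (fun _ => Nat) (Atab_s_1068_1070 c) (Atab_s_1070_1072 c) (Nat.ble 1070 c)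
noncomputable def Atab_s_1072_1074 (c : Nat) : Nat := @Bool.rec (fun _ => Nat) (Atab_1072) (Atab_1073) (Nat.ble 1073 c)
noncomputable def Atab_s_1075_1077 (c : Nat) : Nat := @Bool.rec (fun _ => Nat) (Atab_1075) (Atab_1076) (Nat.ble 1076 c)
noncomputable def Atab_s_1074_1077 (c : Nat) : Nat := @Bool.rec (fun _ => Nat) (Atab_1074) (Atab_s_1075_1077 c) (Nat.ble 1075 c)
noncomputable def Atab_s_1072_1077 (c : Nat) : Nat := @Bool.rec (fun _ => Nat) (Atab_s_1072_1074 c) (Atab_s_1074_1077 c) (Nat.ble 1074 c)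
noncomputable def Atab_s_1068_1077 (c : Nat) : Nat := @Bool.rec (fun _ => Nat) (Atab_s_1068_1072 c) (Atab_s_1072_1077 c) (Nat.ble 1072 c)
noncomputable def Atab_s_1060_1077 (c : Nat) : Nat := @Bool.rec (fun _ => Nat) (Atab_s_1060_1068 c) (Atab_s_1068_1077 c) (Nat.ble 1068 c)
noncomputable def Atab_s_1043_1077 (c : Nat) : Nat := @Bool.rec (fun _ => Nat) (Atab_s_1043_1060 c) (Atab_s_1060_1077 c) (Nat.ble 1060 c)
noncomputable def Atab_s_1009_1077 (c : Nat) : Nat := @Bool.rec (fun _ => Nat) (Atab_s_1009_1043 c) (Atab_s_1043_1077 c) (Nat.ble 1043 c)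
noncomputable def Atab_s_942_1077 (c : Nat) : Nat := @Bool.rec (fun _ => Nat) (Atab_s_942_1009 c) (Atab_s_1009_1077 c) (Nat.ble 1009 c)
noncomputable def Atab_s_807_1077 (c : Nat) : Nat := @Bool.rec (fun _ => Nat) (Atab_s_807_942 c) (Atab_s_942_1077 c) (Nat.ble 942 c)
noncomputable def Atab_s_538_1077 (c : Nat) : Nat := @Bool.rec (fun _ => Nat) (Atab_s_538_807 c) (Atab_s_807_1077 c) (Nat.ble 807 c)
noncomputable def Atab_s_0_1077 (c : Nat) : Nat := @Bool.rec (fun _ => Nat) (Atab_s_0_538 c) (Atab_s_538_1077 c) (Nat.ble 538 c)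
noncomputable def Atab (i : Nat) : Nat := rdw 44 17592186044415 (Atab_s_0_1077 (Nat.shiftRight i 11)) (Nat.land i 2047)
noncomputable def Btab_s_1_3 (c : Nat) : Nat := @Bool.rec (fun _ => Nat) (Btab_1) (Btab_2) (Nat.ble 2 c)
noncomputable def Btab_s_0_3 (c : Nat) : Nat := @Bool.rec (fun _ => Nat) (Btab_0) (Btab_s_1_3 c) (Nat.ble 1 c)
noncomputable def Btab_s_3_5 (c : Nat) : Nat := @Bool.rec (fun _ => Nat) (Btab_3) (Btab_4) (Nat.ble 4 c)
noncomputable def Btab_s_5_7 (c : Nat) : Nat := @Bool.rec (fun _ => Nat) (Btab_5) (Btab_6) (Nat.ble 6 c)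
noncomputable def Btab_s_3_7 (c : Nat) : Nat := @Bool.rec (fun _ => Nat) (Btab_s_3_5 c) (Btab_s_5_7 c) (Nat.ble 5 c)
noncomputable def Btab_s_0_7 (c : Nat) : Nat := @Bool.rec (fun _ => Nat) (Btab_s_0_3 c) (Btab_s_3_7 c) (Nat.ble 3 c)
noncomputable def Btab_s_8_10 (c : Nat) : Nat := @Bool.rec (fun _ => Nat) (Btab_8) (Btab_9) (Nat.ble 9 c)
noncomputable def Btab_s_7_10 (c : Nat) : Nat := @Bool.rec (fun _ => Nat) (Btab_7) (Btab_s_8_10 c) (Nat.ble 8 c)
noncomputable def Btab_s_10_12 (c : Nat) : Nat := @Bool.rec (fun _ => Nat) (Btab_10) (Btab_11) (Nat.ble 11 c)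
noncomputable def Btab_s_12_14 (c : Nat) : Nat := @Bool.rec (fun _ => Nat) (Btab_12) (Btab_13) (Nat.ble 13 c)
noncomputable def Btab_s_10_14 (c : Nat) : Nat := @Bool.rec (fun _ => Nat) (Btab_s_10_12 c) (Btab_s_12_14 c) (Nat.ble 12 c)
noncomputable def Btab_s_7_14 (c : Nat) : Nat := @Bool.rec (fun _ => Nat) (Btab_s_7_10 c) (Btab_s_10_14 c) (Nat.ble 10 c)
noncomputable def Btab_s_0_14 (c : Nat) : Nat := @Bool.rec (fun _ => Nat) (Btab_s_0_7 c) (Btab_s_7_14 c) (Nat.ble 7 c)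
noncomputable def Btab_s_15_17 (c : Nat) : Nat := @Bool.rec (fun _ => Nat) (Btab_15) (Btab_16) (Nat.ble 16 c)
noncomputable def Btab_s_14_17 (c : Nat) : Nat := @Bool.rec (fun _ => Nat) (Btab_14) (Btab_s_15_17 c) (Nat.ble 15 c)
noncomputable def Btab_s_17_19 (c : Nat) : Nat := @Bool.rec (fun _ => Nat) (Btab_17) (Btab_18) (Nat.ble 18 c)
noncomputable def Btab_s_19_21 (c : Nat) : Nat := @Bool.rec (fun _ => Nat) (Btab_19) (Btab_20) (Nat.ble 20 c)
noncomputable def Btab_s_17_21 (c : Nat) : Nat := @Bool.rec (fun _ => Nat) (Btab_s_17_19 c) (Btab_s_19_21 c) (Nat.ble 19 c)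
noncomputable def Btab_s_14_21 (c : Nat) : Nat := @Bool.rec (fun _ => Nat) (Btab_s_14_17 c) (Btab_s_17_21 c) (Nat.ble 17 c)
noncomputable def Btab_s_22_24 (c : Nat) : Nat := @Bool.rec (fun _ => Nat) (Btab_22) (Btab_23) (Nat.ble 23 c)
noncomputable def Btab_s_21_24 (c : Nat) : Nat := @Bool.rec (fun _ => Nat) (Btab_21) (Btab_s_22_24 c) (Nat.ble 22 c)
noncomputable def Btab_s_24_26 (c : Nat) : Nat := @Bool.rec (fun _ => Nat) (Btab_24) (Btab_25) (Nat.ble 25 c)
noncomputable def Btab_s_26_28 (c : Nat) : Nat := @Bool.rec (fun _ => Nat) (Btab_26) (Btab_27) (Nat.ble 27 c)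
noncomputable def Btab_s_24_28 (c : Nat) : Nat := @Bool.rec (fun _ => Nat) (Btab_s_24_26 c) (Btab_s_26_28 c) (Nat.ble 26 c)
noncomputable def Btab_s_21_28 (c : Nat) : Nat := @Bool.rec (fun _ => Nat) (Btab_s_21_24 c) (Btab_s_24_28 c) (Nat.ble 24 c)
noncomputable def Btab_s_14_28 (c : Nat) : Nat := @Bool.rec (fun _ => Nat) (Btab_s_14_21 c) (Btab_s_21_28 c) (Nat.ble 21 c)
noncomputable def Btab_s_0_28 (c : Nat) : Nat := @Bool.rec (fun _ => Nat) (Btab_s_0_14 c) (Btab_s_14_28 c) (Nat.ble 14 c)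
noncomputable def Btab_s_29_31 (c : Nat) : Nat := @Bool.rec (fun _ => Nat) (Btab_29) (Btab_30) (Nat.ble 30 c)
noncomputable def Btab_s_28_31 (c : Nat) : Nat := @Bool.rec (fun _ => Nat) (Btab_28) (Btab_s_29_31 c) (Nat.ble 29 c)
noncomputable def Btab_s_31_33 (c : Nat) : Nat := @Bool.rec (fun _ => Nat) (Btab_31) (Btab_32) (Nat.ble 32 c)
noncomputable def Btab_s_33_35 (c : Nat) : Nat := @Bool.rec (fun _ => Nat) (Btab_33) (Btab_34) (Nat.ble 34 c)
noncomputable def Btab_s_31_35 (c : Nat) : Nat := @Bool.rec (fun _ => Nat) (Btab_s_31_33 c) (Btab_s_33_35 c) (Nat.ble 33 c)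
noncomputable def Btab_s_28_35 (c : Nat) : Nat := @Bool.rec (fun _ => Nat) (Btab_s_28_31 c) (Btab_s_31_35 c) (Nat.ble 31 c)
noncomputable def Btab_s_36_38 (c : Nat) : Nat := @Bool.rec (fun _ => Nat) (Btab_36) (Btab_37) (Nat.ble 37 c)
noncomputable def Btab_s_35_38 (c : Nat) : Nat := @Bool.rec (fun _ => Nat) (Btab_35) (Btab_s_36_38 c) (Nat.ble 36 c)
noncomputable def Btab_s_38_40 (c : Nat) : Nat := @Bool.rec (fun _ => Nat) (Btab_38) (Btab_39) (Nat.ble 39 c)
noncomputable def Btab_s_40_42 (c : Nat) : Nat := @Bool.rec (fun _ => Nat) (Btab_40) (Btab_41) (Nat.ble 41 c)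
noncomputable def Btab_s_38_42 (c : Nat) : Nat := @Bool.rec (fun _ => Nat) (Btab_s_38_40 c) (Btab_s_40_42 c) (Nat.ble 40 c)
noncomputable def Btab_s_35_42 (c : Nat) : Nat := @Bool.rec (fun _ => Nat) (Btab_s_35_38 c) (Btab_s_38_42 c) (Nat.ble 38 c)
noncomputable def Btab_s_28_42 (c : Nat) : Nat := @Bool.rec (fun _ => Nat) (Btab_s_28_35 c) (Btab_s_35_42 c) (Nat.ble 35 c)
noncomputable def Btab_s_43_45 (c : Nat) : Nat := @Bool.rec (fun _ => Nat) (Btab_43) (Btab_44) (Nat.ble 44 c)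
noncomputable def Btab_s_42_45 (c : Nat) : Nat := @Bool.rec (fun _ => Nat) (Btab_42) (Btab_s_43_45 c) (Nat.ble 43 c)
noncomputable def Btab_s_45_47 (c : Nat) : Nat := @Bool.rec (fun _ => Nat) (Btab_45) (Btab_46) (Nat.ble 46 c)
noncomputable def Btab_s_47_49 (c : Nat) : Nat := @Bool.rec (fun _ => Nat) (Btab_47) (Btab_48) (Nat.ble 48 c)
noncomputable def Btab_s_45_49 (c : Nat) : Nat := @Bool.rec (fun _ => Nat) (Btab_s_45_47 c) (Btab_s_47_49 c) (Nat.ble 47 c)
noncomputable def Btab_s_42_49 (c : Nat) : Nat := @Bool.rec (fun _ => Nat) (Btab_s_42_45 c) (Btab_s_45_49 c) (Nat.ble 45 c)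
noncomputable def Btab_s_50_52 (c : Nat) : Nat := @Bool.rec (fun _ => Nat) (Btab_50) (Btab_51) (Nat.ble 51 c)
noncomputable def Btab_s_49_52 (c : Nat) : Nat := @Bool.rec (fun _ => Nat) (Btab_49) (Btab_s_50_52 c) (Nat.ble 50 c)
noncomputable def Btab_s_52_54 (c : Nat) : Nat := @Bool.rec (fun _ => Nat) (Btab_52) (Btab_53) (Nat.ble 53 c)
noncomputable def Btab_s_54_56 (c : Nat) : Nat := @Bool.rec (fun _ => Nat) (Btab_54) (Btab_55) (Nat.ble 55 c)
noncomputable def Btab_s_52_56 (c : Nat) : Nat := @Bool.rec (fun _ => Nat) (Btab_s_52_54 c) (Btab_s_54_56 c) (Nat.ble 54 c)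
noncomputable def Btab_s_49_56 (c : Nat) : Nat := @Bool.rec (fun _ => Nat) (Btab_s_49_52 c) (Btab_s_52_56 c) (Nat.ble 52 c)
noncomputable def Btab_s_42_56 (c : Nat) : Nat := @Bool.rec (fun _ => Nat) (Btab_s_42_49 c) (Btab_s_49_56 c) (Nat.ble 49 c)
noncomputable def Btab_s_28_56 (c : Nat) : Nat := @Bool.rec (fun _ => Nat) (Btab_s_28_42 c) (Btab_s_42_56 c) (Nat.ble 42 c)
noncomputable def Btab_s_0_56 (c : Nat) : Nat := @Bool.rec (fun _ => Nat) (Btab_s_0_28 c) (Btab_s_28_56 c) (Nat.ble 28 c)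
noncomputable def Btab_s_57_59 (c : Nat) : Nat := @Bool.rec (fun _ => Nat) (Btab_57) (Btab_58) (Nat.ble 58 c)
noncomputable def Btab_s_56_59 (c : Nat) : Nat := @Bool.rec (fun _ => Nat) (Btab_56) (Btab_s_57_59 c) (Nat.ble 57 c)
noncomputable def Btab_s_59_61 (c : Nat) : Nat := @Bool.rec (fun _ => Nat) (Btab_59) (Btab_60) (Nat.ble 60 c)
noncomputable def Btab_s_61_63 (c : Nat) : Nat := @Bool.rec (fun _ => Nat) (Btab_61) (Btab_62) (Nat.ble 62 c)
noncomputable def Btab_s_59_63 (c : Nat) : Nat := @Bool.rec (fun _ => Nat) (Btab_s_59_61 c) (Btab_s_61_63 c) (Nat.ble 61 c)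
noncomputable def Btab_s_56_63 (c : Nat) : Nat := @Bool.rec (fun _ => Nat) (Btab_s_56_59 c) (Btab_s_59_63 c) (Nat.ble 59 c)
noncomputable def Btab_s_64_66 (c : Nat) : Nat := @Bool.rec (fun _ => Nat) (Btab_64) (Btab_65) (Nat.ble 65 c)
noncomputable def Btab_s_63_66 (c : Nat) : Nat := @Bool.rec (fun _ => Nat) (Btab_63) (Btab_s_64_66 c) (Nat.ble 64 c)
noncomputable def Btab_s_66_68 (c : Nat) : Nat := @Bool.rec (fun _ => Nat) (Btab_66) (Btab_67) (Nat.ble 67 c)
noncomputable def Btab_s_68_70 (c : Nat) : Nat := @Bool.rec (fun _ => Nat) (Btab_68) (Btab_69) (Nat.ble 69 c)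
noncomputable def Btab_s_66_70 (c : Nat) : Nat := @Bool.rec (fun _ => Nat) (Btab_s_66_68 c) (Btab_s_68_70 c) (Nat.ble 68 c)
noncomputable def Btab_s_63_70 (c : Nat) : Nat := @Bool.rec (fun _ => Nat) (Btab_s_63_66 c) (Btab_s_66_70 c) (Nat.ble 66 c)
noncomputable def Btab_s_56_70 (c : Nat) : Nat := @Bool.rec (fun _ => Nat) (Btab_s_56_63 c) (Btab_s_63_70 c) (Nat.ble 63 c)
noncomputable def Btab_s_71_73 (c : Nat) : Nat := @Bool.rec (fun _ => Nat) (Btab_71) (Btab_72) (Nat.ble 72 c)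
noncomputable def Btab_s_70_73 (c : Nat) : Nat := @Bool.rec (fun _ => Nat) (Btab_70) (Btab_s_71_73 c) (Nat.ble 71 c)
noncomputable def Btab_s_73_75 (c : Nat) : Nat := @Bool.rec (fun _ => Nat) (Btab_73) (Btab_74) (Nat.ble 74 c)
noncomputable def Btab_s_75_77 (c : Nat) : Nat := @Bool.rec (fun _ => Nat) (Btab_75) (Btab_76) (Nat.ble 76 c)
noncomputable def Btab_s_73_77 (c : Nat) : Nat := @Bool.rec (fun _ => Nat) (Btab_s_73_75 c) (Btab_s_75_77 c) (Nat.ble 75 c)
noncomputable def Btab_s_70_77 (c : Nat) : Nat := @Bool.rec (fun _ => Nat) (Btab_s_70_73 c) (Btab_s_73_77 c) (Nat.ble 73 c)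
noncomputable def Btab_s_78_80 (c : Nat) : Nat := @Bool.rec (fun _ => Nat) (Btab_78) (Btab_79) (Nat.ble 79 c)
noncomputable def Btab_s_77_80 (c : Nat) : Nat := @Bool.rec (fun _ => Nat) (Btab_77) (Btab_s_78_80 c) (Nat.ble 78 c)
noncomputable def Btab_s_80_82 (c : Nat) : Nat := @Bool.rec (fun _ => Nat) (Btab_80) (Btab_81) (Nat.ble 81 c)
noncomputable def Btab_s_82_84 (c : Nat) : Nat := @Bool.rec (fun _ => Nat) (Btab_82) (Btab_83) (Nat.ble 83 c)
noncomputable def Btab_s_80_84 (c : Nat) : Nat := @Bool.rec (fun _ => Nat) (Btab_s_80_82 c) (Btab_s_82_84 c) (Nat.ble 82 c)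
noncomputable def Btab_s_77_84 (c : Nat) : Nat := @Bool.rec (fun _ => Nat) (Btab_s_77_80 c) (Btab_s_80_84 c) (Nat.ble 80 c)
noncomputable def Btab_s_70_84 (c : Nat) : Nat := @Bool.rec (fun _ => Nat) (Btab_s_70_77 c) (Btab_s_77_84 c) (Nat.ble 77 c)
noncomputable def Btab_s_56_84 (c : Nat) : Nat := @Bool.rec (fun _ => Nat) (Btab_s_56_70 c) (Btab_s_70_84 c) (Nat.ble 70 c)
noncomputable def Btab_s_85_87 (c : Nat) : Nat := @Bool.rec (fun _ => Nat) (Btab_85) (Btab_86) (Nat.ble 86 c)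
noncomputable def Btab_s_84_87 (c : Nat) : Nat := @Bool.rec (fun _ => Nat) (Btab_84) (Btab_s_85_87 c) (Nat.ble 85 c)
noncomputable def Btab_s_87_89 (c : Nat) : Nat := @Bool.rec (fun _ => Nat) (Btab_87) (Btab_88) (Nat.ble 88 c)
noncomputable def Btab_s_89_91 (c : Nat) : Nat := @Bool.rec (fun _ => Nat) (Btab_89) (Btab_90) (Nat.ble 90 c)
noncomputable def Btab_s_87_91 (c : Nat) : Nat := @Bool.rec (fun _ => Nat) (Btab_s_87_89 c) (Btab_s_89_91 c) (Nat.ble 89 c)
noncomputable def Btab_s_84_91 (c : Nat) : Nat := @Bool.rec (fun _ => Nat) (Btab_s_84_87 c) (Btab_s_87_91 c) (Nat.ble 87 c)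
noncomputable def Btab_s_92_94 (c : Nat) : Nat := @Bool.rec (fun _ => Nat) (Btab_92) (Btab_93) (Nat.ble 93 c)
noncomputable def Btab_s_91_94 (c : Nat) : Nat := @Bool.rec (fun _ => Nat) (Btab_91) (Btab_s_92_94 c) (Nat.ble 92 c)
noncomputable def Btab_s_94_96 (c : Nat) : Nat := @Bool.rec (fun _ => Nat) (Btab_94) (Btab_95) (Nat.ble 95 c)
noncomputable def Btab_s_96_98 (c : Nat) : Nat := @Bool.rec (fun _ => Nat) (Btab_96) (Btab_97) (Nat.ble 97 c)
noncomputable def Btab_s_94_98 (c : Nat) : Nat := @Bool.rec (fun _ => Nat) (Btab_s_94_96 c) (Btab_s_96_98 c) (Nat.ble 96 c)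
noncomputable def Btab_s_91_98 (c : Nat) : Nat := @Bool.rec (fun _ => Nat) (Btab_s_91_94 c) (Btab_s_94_98 c) (Nat.ble 94 c)
noncomputable def Btab_s_84_98 (c : Nat) : Nat := @Bool.rec (fun _ => Nat) (Btab_s_84_91 c) (Btab_s_91_98 c) (Nat.ble 91 c)
noncomputable def Btab_s_99_101 (c : Nat) : Nat := @Bool.rec (fun _ => Nat) (Btab_99) (Btab_100) (Nat.ble 100 c)
noncomputable def Btab_s_98_101 (c : Nat) : Nat := @Bool.rec (fun _ => Nat) (Btab_98) (Btab_s_99_101 c) (Nat.ble 99 c)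
noncomputable def Btab_s_101_103 (c : Nat) : Nat := @Bool.rec (fun _ => Nat) (Btab_101) (Btab_102) (Nat.ble 102 c)
noncomputable def Btab_s_103_105 (c : Nat) : Nat := @Bool.rec (fun _ => Nat) (Btab_103) (Btab_104) (Nat.ble 104 c)
noncomputable def Btab_s_101_105 (c : Nat) : Nat := @Bool.rec (fun _ => Nat) (Btab_s_101_103 c) (Btab_s_103_105 c) (Nat.ble 103 c)
noncomputable def Btab_s_98_105 (c : Nat) : Nat := @Bool.rec (fun _ => Nat) (Btab_s_98_101 c) (Btab_s_101_105 c) (Nat.ble 101 c)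
noncomputable def Btab_s_105_107 (c : Nat) : Nat := @Bool.rec (fun _ => Nat) (Btab_105) (Btab_106) (Nat.ble 106 c)
noncomputable def Btab_s_107_109 (c : Nat) : Nat := @Bool.rec (fun _ => Nat) (Btab_107) (Btab_108) (Nat.ble 108 c)
noncomputable def Btab_s_105_109 (c : Nat) : Nat := @Bool.rec (fun _ => Nat) (Btab_s_105_107 c) (Btab_s_107_109 c) (Nat.ble 107 c)
noncomputable def Btab_s_109_111 (c : Nat) : Nat := @Bool.rec (fun _ => Nat) (Btab_109) (Btab_110) (Nat.ble 110 c)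
noncomputable def Btab_s_111_113 (c : Nat) : Nat := @Bool.rec (fun _ => Nat) (Btab_111) (Btab_112) (Nat.ble 112 c)
noncomputable def Btab_s_109_113 (c : Nat) : Nat := @Bool.rec (fun _ => Nat) (Btab_s_109_111 c) (Btab_s_111_113 c) (Nat.ble 111 c)
noncomputable def Btab_s_105_113 (c : Nat) : Nat := @Bool.rec (fun _ => Nat) (Btab_s_105_109 c) (Btab_s_109_113 c) (Nat.ble 109 c)
noncomputable def Btab_s_98_113 (c : Nat) : Nat := @Bool.rec (fun _ => Nat) (Btab_s_98_105 c) (Btab_s_105_113 c) (Nat.ble 105 c)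
noncomputable def Btab_s_84_113 (c : Nat) : Nat := @Bool.rec (fun _ => Nat) (Btab_s_84_98 c) (Btab_s_98_113 c) (Nat.ble 98 c)
noncomputable def Btab_s_56_113 (c : Nat) : Nat := @Bool.rec (fun _ => Nat) (Btab_s_56_84 c) (Btab_s_84_113 c) (Nat.ble 84 c)
noncomputable def Btab_s_0_113 (c : Nat) : Nat := @Bool.rec (fun _ => Nat) (Btab_s_0_56 c) (Btab_s_56_113 c) (Nat.ble 56 c)
noncomputable def Btab_s_114_116 (c : Nat) : Nat := @Bool.rec (fun _ => Nat) (Btab_114) (Btab_115) (Nat.ble 115 c)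
noncomputable def Btab_s_113_116 (c : Nat) : Nat := @Bool.rec (fun _ => Nat) (Btab_113) (Btab_s_114_116 c) (Nat.ble 114 c)
noncomputable def Btab_s_116_118 (c : Nat) : Nat := @Bool.rec (fun _ => Nat) (Btab_116) (Btab_117) (Nat.ble 117 c)
noncomputable def Btab_s_118_120 (c : Nat) : Nat := @Bool.rec (fun _ => Nat) (Btab_118) (Btab_119) (Nat.ble 119 c)
noncomputable def Btab_s_116_120 (c : Nat) : Nat := @Bool.rec (fun _ => Nat) (Btab_s_116_118 c) (Btab_s_118_120 c) (Nat.ble 118 c)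
noncomputable def Btab_s_113_120 (c : Nat) : Nat := @Bool.rec (fun _ => Nat) (Btab_s_113_116 c) (Btab_s_116_120 c) (Nat.ble 116 c)
noncomputable def Btab_s_121_123 (c : Nat) : Nat := @Bool.rec (fun _ => Nat) (Btab_121) (Btab_122) (Nat.ble 122 c)
noncomputable def Btab_s_120_123 (c : Nat) : Nat := @Bool.rec (fun _ => Nat) (Btab_120) (Btab_s_121_123 c) (Nat.ble 121 c)
noncomputable def Btab_s_123_125 (c : Nat) : Nat := @Bool.rec (fun _ => Nat) (Btab_123) (Btab_124) (Nat.ble 124 c)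
noncomputable def Btab_s_125_127 (c : Nat) : Nat := @Bool.rec (fun _ => Nat) (Btab_125) (Btab_126) (Nat.ble 126 c)
noncomputable def Btab_s_123_127 (c : Nat) : Nat := @Bool.rec (fun _ => Nat) (Btab_s_123_125 c) (Btab_s_125_127 c) (Nat.ble 125 c)
noncomputable def Btab_s_120_127 (c : Nat) : Nat := @Bool.rec (fun _ => Nat) (Btab_s_120_123 c) (Btab_s_123_127 c) (Nat.ble 123 c)
noncomputable def Btab_s_113_127 (c : Nat) : Nat := @Bool.rec (fun _ => Nat) (Btab_s_113_120 c) (Btab_s_120_127 c) (Nat.ble 120 c)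
noncomputable def Btab_s_128_130 (c : Nat) : Nat := @Bool.rec (fun _ => Nat) (Btab_128) (Btab_129) (Nat.ble 129 c)
noncomputable def Btab_s_127_130 (c : Nat) : Nat := @Bool.rec (fun _ => Nat) (Btab_127) (Btab_s_128_130 c) (Nat.ble 128 c)
noncomputable def Btab_s_130_132 (c : Nat) : Nat := @Bool.rec (fun _ => Nat) (Btab_130) (Btab_131) (Nat.ble 131 c)
noncomputable def Btab_s_132_134 (c : Nat) : Nat := @Bool.rec (fun _ => Nat) (Btab_132) (Btab_133) (Nat.ble 133 c)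
noncomputable def Btab_s_130_134 (c : Nat) : Nat := @Bool.rec (fun _ => Nat) (Btab_s_130_132 c) (Btab_s_132_134 c) (Nat.ble 132 c)
noncomputable def Btab_s_127_134 (c : Nat) : Nat := @Bool.rec (fun _ => Nat) (Btab_s_127_130 c) (Btab_s_130_134 c) (Nat.ble 130 c)
noncomputable def Btab_s_135_137 (c : Nat) : Nat := @Bool.rec (fun _ => Nat) (Btab_135) (Btab_136) (Nat.ble 136 c)
noncomputable def Btab_s_134_137 (c : Nat) : Nat := @Bool.rec (fun _ => Nat) (Btab_134) (Btab_s_135_137 c) (Nat.ble 135 c)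
noncomputable def Btab_s_137_139 (c : Nat) : Nat := @Bool.rec (fun _ => Nat) (Btab_137) (Btab_138) (Nat.ble 138 c)
noncomputable def Btab_s_139_141 (c : Nat) : Nat := @Bool.rec (fun _ => Nat) (Btab_139) (Btab_140) (Nat.ble 140 c)
noncomputable def Btab_s_137_141 (c : Nat) : Nat := @Bool.rec (fun _ => Nat) (Btab_s_137_139 c) (Btab_s_139_141 c) (Nat.ble 139 c)
noncomputable def Btab_s_134_141 (c : Nat) : Nat := @Bool.rec (fun _ => Nat) (Btab_s_134_137 c) (Btab_s_137_141 c) (Nat.ble 137 c)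
noncomputable def Btab_s_127_141 (c : Nat) : Nat := @Bool.rec (fun _ => Nat) (Btab_s_127_134 c) (Btab_s_134_141 c) (Nat.ble 134 c)
noncomputable def Btab_s_113_141 (c : Nat) : Nat := @Bool.rec (fun _ => Nat) (Btab_s_113_127 c) (Btab_s_127_141 c) (Nat.ble 127 c)
noncomputable def Btab_s_142_144 (c : Nat) : Nat := @Bool.rec (fun _ => Nat) (Btab_142) (Btab_143) (Nat.ble 143 c)
noncomputable def Btab_s_141_144 (c : Nat) : Nat := @Bool.rec (fun _ => Nat) (Btab_141) (Btab_s_142_144 c) (Nat.ble 142 c)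
noncomputable def Btab_s_144_146 (c : Nat) : Nat := @Bool.rec (fun _ => Nat) (Btab_144) (Btab_145) (Nat.ble 145 c)
noncomputable def Btab_s_146_148 (c : Nat) : Nat := @Bool.rec (fun _ => Nat) (Btab_146) (Btab_147) (Nat.ble 147 c)
noncomputable def Btab_s_144_148 (c : Nat) : Nat := @Bool.rec (fun _ => Nat) (Btab_s_144_146 c) (Btab_s_146_148 c) (Nat.ble 146 c)
noncomputable def Btab_s_141_148 (c : Nat) : Nat := @Bool.rec (fun _ => Nat) (Btab_s_141_144 c) (Btab_s_144_148 c) (Nat.ble 144 c)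
noncomputable def Btab_s_149_151 (c : Nat) : Nat := @Bool.rec (fun _ => Nat) (Btab_149) (Btab_150) (Nat.ble 150 c)
noncomputable def Btab_s_148_151 (c : Nat) : Nat := @Bool.rec (fun _ => Nat) (Btab_148) (Btab_s_149_151 c) (Nat.ble 149 c)
noncomputable def Btab_s_151_153 (c : Nat) : Nat := @Bool.rec (fun _ => Nat) (Btab_151) (Btab_152) (Nat.ble 152 c)
noncomputable def Btab_s_153_155 (c : Nat) : Nat := @Bool.rec (fun _ => Nat) (Btab_153) (Btab_154) (Nat.ble 154 c)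
noncomputable def Btab_s_151_155 (c : Nat) : Nat := @Bool.rec (fun _ => Nat) (Btab_s_151_153 c) (Btab_s_153_155 c) (Nat.ble 153 c)
noncomputable def Btab_s_148_155 (c : Nat) : Nat := @Bool.rec (fun _ => Nat) (Btab_s_148_151 c) (Btab_s_151_155 c) (Nat.ble 151 c)
noncomputable def Btab_s_141_155 (c : Nat) : Nat := @Bool.rec (fun _ => Nat) (Btab_s_141_148 c) (Btab_s_148_155 c) (Nat.ble 148 c)
noncomputable def Btab_s_156_158 (c : Nat) : Nat := @Bool.rec (fun _ => Nat) (Btab_156) (Btab_157) (Nat.ble 157 c)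
noncomputable def Btab_s_155_158 (c : Nat) : Nat := @Bool.rec (fun _ => Nat) (Btab_155) (Btab_s_156_158 c) (Nat.ble 156 c)
noncomputable def Btab_s_158_160 (c : Nat) : Nat := @Bool.rec (fun _ => Nat) (Btab_158) (Btab_159) (Nat.ble 159 c)
noncomputable def Btab_s_160_162 (c : Nat) : Nat := @Bool.rec (fun _ => Nat) (Btab_160) (Btab_161) (Nat.ble 161 c)
noncomputable def Btab_s_158_162 (c : Nat) : Nat := @Bool.rec (fun _ => Nat) (Btab_s_158_160 c) (Btab_s_160_162 c) (Nat.ble 160 c)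
noncomputable def Btab_s_155_162 (c : Nat) : Nat := @Bool.rec (fun _ => Nat) (Btab_s_155_158 c) (Btab_s_158_162 c) (Nat.ble 158 c)
noncomputable def Btab_s_163_165 (c : Nat) : Nat := @Bool.rec (fun _ => Nat) (Btab_163) (Btab_164) (Nat.ble 164 c)
noncomputable def Btab_s_162_165 (c : Nat) : Nat := @Bool.rec (fun _ => Nat) (Btab_162) (Btab_s_163_165 c) (Nat.ble 163 c)
noncomputable def Btab_s_165_167 (c : Nat) : Nat := @Bool.rec (fun _ => Nat) (Btab_165) (Btab_166) (Nat.ble 166 c)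
noncomputable def Btab_s_167_169 (c : Nat) : Nat := @Bool.rec (fun _ => Nat) (Btab_167) (Btab_168) (Nat.ble 168 c)
noncomputable def Btab_s_165_169 (c : Nat) : Nat := @Bool.rec (fun _ => Nat) (Btab_s_165_167 c) (Btab_s_167_169 c) (Nat.ble 167 c)
noncomputable def Btab_s_162_169 (c : Nat) : Nat := @Bool.rec (fun _ => Nat) (Btab_s_162_165 c) (Btab_s_165_169 c) (Nat.ble 165 c)
noncomputable def Btab_s_155_169 (c : Nat) : Nat := @Bool.rec (fun _ => Nat) (Btab_s_155_162 c) (Btab_s_162_169 c) (Nat.ble 162 c)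
noncomputable def Btab_s_141_169 (c : Nat) : Nat := @Bool.rec (fun _ => Nat) (Btab_s_141_155 c) (Btab_s_155_169 c) (Nat.ble 155 c)
noncomputable def Btab_s_113_169 (c : Nat) : Nat := @Bool.rec (fun _ => Nat) (Btab_s_113_141 c) (Btab_s_141_169 c) (Nat.ble 141 c)
noncomputable def Btab_s_170_172 (c : Nat) : Nat := @Bool.rec (fun _ => Nat) (Btab_170) (Btab_171) (Nat.ble 171 c)
noncomputable def Btab_s_169_172 (c : Nat) : Nat := @Bool.rec (fun _ => Nat) (Btab_169) (Btab_s_170_172 c) (Nat.ble 170 c)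
noncomputable def Btab_s_172_174 (c : Nat) : Nat := @Bool.rec (fun _ => Nat) (Btab_172) (Btab_173) (Nat.ble 173 c)
noncomputable def Btab_s_174_176 (c : Nat) : Nat := @Bool.rec (fun _ => Nat) (Btab_174) (Btab_175) (Nat.ble 175 c)
noncomputable def Btab_s_172_176 (c : Nat) : Nat := @Bool.rec (fun _ => Nat) (Btab_s_172_174 c) (Btab_s_174_176 c) (Nat.ble 174 c)
noncomputable def Btab_s_169_176 (c : Nat) : Nat := @Bool.rec (fun _ => Nat) (Btab_s_169_172 c) (Btab_s_172_176 c) (Nat.ble 172 c)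
noncomputable def Btab_s_177_179 (c : Nat) : Nat := @Bool.rec (fun _ => Nat) (Btab_177) (Btab_178) (Nat.ble 178 c)
noncomputable def Btab_s_176_179 (c : Nat) : Nat := @Bool.rec (fun _ => Nat) (Btab_176) (Btab_s_177_179 c) (Nat.ble 177 c)
noncomputable def Btab_s_179_181 (c : Nat) : Nat := @Bool.rec (fun _ => Nat) (Btab_179) (Btab_180) (Nat.ble 180 c)
noncomputable def Btab_s_181_183 (c : Nat) : Nat := @Bool.rec (fun _ => Nat) (Btab_181) (Btab_182) (Nat.ble 182 c)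
noncomputable def Btab_s_179_183 (c : Nat) : Nat := @Bool.rec (fun _ => Nat) (Btab_s_179_181 c) (Btab_s_181_183 c) (Nat.ble 181 c)
noncomputable def Btab_s_176_183 (c : Nat) : Nat := @Bool.rec (fun _ => Nat) (Btab_s_176_179 c) (Btab_s_179_183 c) (Nat.ble 179 c)
noncomputable def Btab_s_169_183 (c : Nat) : Nat := @Bool.rec (fun _ => Nat) (Btab_s_169_176 c) (Btab_s_176_183 c) (Nat.ble 176 c)
noncomputable def Btab_s_184_186 (c : Nat) : Nat := @Bool.rec (fun _ => Nat) (Btab_184) (Btab_185) (Nat.ble 185 c)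
noncomputable def Btab_s_183_186 (c : Nat) : Nat := @Bool.rec (fun _ => Nat) (Btab_183) (Btab_s_184_186 c) (Nat.ble 184 c)
noncomputable def Btab_s_186_188 (c : Nat) : Nat := @Bool.rec (fun _ => Nat) (Btab_186) (Btab_187) (Nat.ble 187 c)
noncomputable def Btab_s_188_190 (c : Nat) : Nat := @Bool.rec (fun _ => Nat) (Btab_188) (Btab_189) (Nat.ble 189 c)
noncomputable def Btab_s_186_190 (c : Nat) : Nat := @Bool.rec (fun _ => Nat) (Btab_s_186_188 c) (Btab_s_188_190 c) (Nat.ble 188 c)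
noncomputable def Btab_s_183_190 (c : Nat) : Nat := @Bool.rec (fun _ => Nat) (Btab_s_183_186 c) (Btab_s_186_190 c) (Nat.ble 186 c)
noncomputable def Btab_s_191_193 (c : Nat) : Nat := @Bool.rec (fun _ => Nat) (Btab_191) (Btab_192) (Nat.ble 192 c)
noncomputable def Btab_s_190_193 (c : Nat) : Nat := @Bool.rec (fun _ => Nat) (Btab_190) (Btab_s_191_193 c) (Nat.ble 191 c)
noncomputable def Btab_s_193_195 (c : Nat) : Nat := @Bool.rec (fun _ => Nat) (Btab_193) (Btab_194) (Nat.ble 194 c)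
noncomputable def Btab_s_195_197 (c : Nat) : Nat := @Bool.rec (fun _ => Nat) (Btab_195) (Btab_196) (Nat.ble 196 c)
noncomputable def Btab_s_193_197 (c : Nat) : Nat := @Bool.rec (fun _ => Nat) (Btab_s_193_195 c) (Btab_s_195_197 c) (Nat.ble 195 c)
noncomputable def Btab_s_190_197 (c : Nat) : Nat := @Bool.rec (fun _ => Nat) (Btab_s_190_193 c) (Btab_s_193_197 c) (Nat.ble 193 c)
noncomputable def Btab_s_183_197 (c : Nat) : Nat := @Bool.rec (fun _ => Nat) (Btab_s_183_190 c) (Btab_s_190_197 c) (Nat.ble 190 c)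
noncomputable def Btab_s_169_197 (c : Nat) : Nat := @Bool.rec (fun _ => Nat) (Btab_s_169_183 c) (Btab_s_183_197 c) (Nat.ble 183 c)
noncomputable def Btab_s_198_200 (c : Nat) : Nat := @Bool.rec (fun _ => Nat) (Btab_198) (Btab_199) (Nat.ble 199 c)
noncomputable def Btab_s_197_200 (c : Nat) : Nat := @Bool.rec (fun _ => Nat) (Btab_197) (Btab_s_198_200 c) (Nat.ble 198 c)
noncomputable def Btab_s_200_202 (c : Nat) : Nat := @Bool.rec (fun _ => Nat) (Btab_200) (Btab_201) (Nat.ble 201 c)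
noncomputable def Btab_s_202_204 (c : Nat) : Nat := @Bool.rec (fun _ => Nat) (Btab_202) (Btab_203) (Nat.ble 203 c)
noncomputable def Btab_s_200_204 (c : Nat) : Nat := @Bool.rec (fun _ => Nat) (Btab_s_200_202 c) (Btab_s_202_204 c) (Nat.ble 202 c)
noncomputable def Btab_s_197_204 (c : Nat) : Nat := @Bool.rec (fun _ => Nat) (Btab_s_197_200 c) (Btab_s_200_204 c) (Nat.ble 200 c)
noncomputable def Btab_s_205_207 (c : Nat) : Nat := @Bool.rec (fun _ => Nat) (Btab_205) (Btab_206) (Nat.ble 206 c)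
noncomputable def Btab_s_204_207 (c : Nat) : Nat := @Bool.rec (fun _ => Nat) (Btab_204) (Btab_s_205_207 c) (Nat.ble 205 c)
noncomputable def Btab_s_207_209 (c : Nat) : Nat := @Bool.rec (fun _ => Nat) (Btab_207) (Btab_208) (Nat.ble 208 c)
noncomputable def Btab_s_209_211 (c : Nat) : Nat := @Bool.rec (fun _ => Nat) (Btab_209) (Btab_210) (Nat.ble 210 c)
noncomputable def Btab_s_207_211 (c : Nat) : Nat := @Bool.rec (fun _ => Nat) (Btab_s_207_209 c) (Btab_s_209_211 c) (Nat.ble 209 c)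
noncomputable def Btab_s_204_211 (c : Nat) : Nat := @Bool.rec (fun _ => Nat) (Btab_s_204_207 c) (Btab_s_207_211 c) (Nat.ble 207 c)
noncomputable def Btab_s_197_211 (c : Nat) : Nat := @Bool.rec (fun _ => Nat) (Btab_s_197_204 c) (Btab_s_204_211 c) (Nat.ble 204 c)
noncomputable def Btab_s_212_214 (c : Nat) : Nat := @Bool.rec (fun _ => Nat) (Btab_212) (Btab_213) (Nat.ble 213 c)
noncomputable def Btab_s_211_214 (c : Nat) : Nat := @Bool.rec (fun _ => Nat) (Btab_211) (Btab_s_212_214 c) (Nat.ble 212 c)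
noncomputable def Btab_s_214_216 (c : Nat) : Nat := @Bool.rec (fun _ => Nat) (Btab_214) (Btab_215) (Nat.ble 215 c)
noncomputable def Btab_s_216_218 (c : Nat) : Nat := @Bool.rec (fun _ => Nat) (Btab_216) (Btab_217) (Nat.ble 217 c)
noncomputable def Btab_s_214_218 (c : Nat) : Nat := @Bool.rec (fun _ => Nat) (Btab_s_214_216 c) (Btab_s_216_218 c) (Nat.ble 216 c)
noncomputable def Btab_s_211_218 (c : Nat) : Nat := @Bool.rec (fun _ => Nat) (Btab_s_211_214 c) (Btab_s_214_218 c) (Nat.ble 214 c)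
noncomputable def Btab_s_218_220 (c : Nat) : Nat := @Bool.rec (fun _ => Nat) (Btab_218) (Btab_219) (Nat.ble 219 c)
noncomputable def Btab_s_220_222 (c : Nat) : Nat := @Bool.rec (fun _ => Nat) (Btab_220) (Btab_221) (Nat.ble 221 c)
noncomputable def Btab_s_218_222 (c : Nat) : Nat := @Bool.rec (fun _ => Nat) (Btab_s_218_220 c) (Btab_s_220_222 c) (Nat.ble 220 c)
noncomputable def Btab_s_222_224 (c : Nat) : Nat := @Bool.rec (fun _ => Nat) (Btab_222) (Btab_223) (Nat.ble 223 c)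
noncomputable def Btab_s_224_226 (c : Nat) : Nat := @Bool.rec (fun _ => Nat) (Btab_224) (Btab_225) (Nat.ble 225 c)
noncomputable def Btab_s_222_226 (c : Nat) : Nat := @Bool.rec (fun _ => Nat) (Btab_s_222_224 c) (Btab_s_224_226 c) (Nat.ble 224 c)
noncomputable def Btab_s_218_226 (c : Nat) : Nat := @Bool.rec (fun _ => Nat) (Btab_s_218_222 c) (Btab_s_222_226 c) (Nat.ble 222 c)
noncomputable def Btab_s_211_226 (c : Nat) : Nat := @Bool.rec (fun _ => Nat) (Btab_s_211_218 c) (Btab_s_218_226 c) (Nat.ble 218 c)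
noncomputable def Btab_s_197_226 (c : Nat) : Nat := @Bool.rec (fun _ => Nat) (Btab_s_197_211 c) (Btab_s_211_226 c) (Nat.ble 211 c)
noncomputable def Btab_s_169_226 (c : Nat) : Nat := @Bool.rec (fun _ => Nat) (Btab_s_169_197 c) (Btab_s_197_226 c) (Nat.ble 197 c)
noncomputable def Btab_s_113_226 (c : Nat) : Nat := @Bool.rec (fun _ => Nat) (Btab_s_113_169 c) (Btab_s_169_226 c) (Nat.ble 169 c)
noncomputable def Btab_s_0_226 (c : Nat) : Nat := @Bool.rec (fun _ => Nat) (Btab_s_0_113 c) (Btab_s_113_226 c) (Nat.ble 113 c)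
noncomputable def Btab_s_227_229 (c : Nat) : Nat := @Bool.rec (fun _ => Nat) (Btab_227) (Btab_228) (Nat.ble 228 c)
noncomputable def Btab_s_226_229 (c : Nat) : Nat := @Bool.rec (fun _ => Nat) (Btab_226) (Btab_s_227_229 c) (Nat.ble 227 c)
noncomputable def Btab_s_229_231 (c : Nat) : Nat := @Bool.rec (fun _ => Nat) (Btab_229) (Btab_230) (Nat.ble 230 c)
noncomputable def Btab_s_231_233 (c : Nat) : Nat := @Bool.rec (fun _ => Nat) (Btab_231) (Btab_232) (Nat.ble 232 c)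
noncomputable def Btab_s_229_233 (c : Nat) : Nat := @Bool.rec (fun _ => Nat) (Btab_s_229_231 c) (Btab_s_231_233 c) (Nat.ble 231 c)
noncomputable def Btab_s_226_233 (c : Nat) : Nat := @Bool.rec (fun _ => Nat) (Btab_s_226_229 c) (Btab_s_229_233 c) (Nat.ble 229 c)
noncomputable def Btab_s_234_236 (c : Nat) : Nat := @Bool.rec (fun _ => Nat) (Btab_234) (Btab_235) (Nat.ble 235 c)
noncomputable def Btab_s_233_236 (c : Nat) : Nat := @Bool.rec (fun _ => Nat) (Btab_233) (Btab_s_234_236 c) (Nat.ble 234 c)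
noncomputable def Btab_s_236_238 (c : Nat) : Nat := @Bool.rec (fun _ => Nat) (Btab_236) (Btab_237) (Nat.ble 237 c)
noncomputable def Btab_s_238_240 (c : Nat) : Nat := @Bool.rec (fun _ => Nat) (Btab_238) (Btab_239) (Nat.ble 239 c)
noncomputable def Btab_s_236_240 (c : Nat) : Nat := @Bool.rec (fun _ => Nat) (Btab_s_236_238 c) (Btab_s_238_240 c) (Nat.ble 238 c)
noncomputable def Btab_s_233_240 (c : Nat) : Nat := @Bool.rec (fun _ => Nat) (Btab_s_233_236 c) (Btab_s_236_240 c) (Nat.ble 236 c)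
noncomputable def Btab_s_226_240 (c : Nat) : Nat := @Bool.rec (fun _ => Nat) (Btab_s_226_233 c) (Btab_s_233_240 c) (Nat.ble 233 c)
noncomputable def Btab_s_241_243 (c : Nat) : Nat := @Bool.rec (fun _ => Nat) (Btab_241) (Btab_242) (Nat.ble 242 c)
noncomputable def Btab_s_240_243 (c : Nat) : Nat := @Bool.rec (fun _ => Nat) (Btab_240) (Btab_s_241_243 c) (Nat.ble 241 c)
noncomputable def Btab_s_243_245 (c : Nat) : Nat := @Bool.rec (fun _ => Nat) (Btab_243) (Btab_244) (Nat.ble 244 c)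
noncomputable def Btab_s_245_247 (c : Nat) : Nat := @Bool.rec (fun _ => Nat) (Btab_245) (Btab_246) (Nat.ble 246 c)
noncomputable def Btab_s_243_247 (c : Nat) : Nat := @Bool.rec (fun _ => Nat) (Btab_s_243_245 c) (Btab_s_245_247 c) (Nat.ble 245 c)
noncomputable def Btab_s_240_247 (c : Nat) : Nat := @Bool.rec (fun _ => Nat) (Btab_s_240_243 c) (Btab_s_243_247 c) (Nat.ble 243 c)
noncomputable def Btab_s_248_250 (c : Nat) : Nat := @Bool.rec (fun _ => Nat) (Btab_248) (Btab_249) (Nat.ble 249 c)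
noncomputable def Btab_s_247_250 (c : Nat) : Nat := @Bool.rec (fun _ => Nat) (Btab_247) (Btab_s_248_250 c) (Nat.ble 248 c)
noncomputable def Btab_s_250_252 (c : Nat) : Nat := @Bool.rec (fun _ => Nat) (Btab_250) (Btab_251) (Nat.ble 251 c)
noncomputable def Btab_s_252_254 (c : Nat) : Nat := @Bool.rec (fun _ => Nat) (Btab_252) (Btab_253) (Nat.ble 253 c)
noncomputable def Btab_s_250_254 (c : Nat) : Nat := @Bool.rec (fun _ => Nat) (Btab_s_250_252 c) (Btab_s_252_254 c) (Nat.ble 252 c)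
noncomputable def Btab_s_247_254 (c : Nat) : Nat := @Bool.rec (fun _ => Nat) (Btab_s_247_250 c) (Btab_s_250_254 c) (Nat.ble 250 c)
noncomputable def Btab_s_240_254 (c : Nat) : Nat := @Bool.rec (fun _ => Nat) (Btab_s_240_247 c) (Btab_s_247_254 c) (Nat.ble 247 c)
noncomputable def Btab_s_226_254 (c : Nat) : Nat := @Bool.rec (fun _ => Nat) (Btab_s_226_240 c) (Btab_s_240_254 c) (Nat.ble 240 c)
noncomputable def Btab_s_255_257 (c : Nat) : Nat := @Bool.rec (fun _ => Nat) (Btab_255) (Btab_256) (Nat.ble 256 c)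
noncomputable def Btab_s_254_257 (c : Nat) : Nat := @Bool.rec (fun _ => Nat) (Btab_254) (Btab_s_255_257 c) (Nat.ble 255 c)
noncomputable def Btab_s_257_259 (c : Nat) : Nat := @Bool.rec (fun _ => Nat) (Btab_257) (Btab_258) (Nat.ble 258 c)
noncomputable def Btab_s_259_261 (c : Nat) : Nat := @Bool.rec (fun _ => Nat) (Btab_259) (Btab_260) (Nat.ble 260 c)
noncomputable def Btab_s_257_261 (c : Nat) : Nat := @Bool.rec (fun _ => Nat) (Btab_s_257_259 c) (Btab_s_259_261 c) (Nat.ble 259 c)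
noncomputable def Btab_s_254_261 (c : Nat) : Nat := @Bool.rec (fun _ => Nat) (Btab_s_254_257 c) (Btab_s_257_261 c) (Nat.ble 257 c)
noncomputable def Btab_s_262_264 (c : Nat) : Nat := @Bool.rec (fun _ => Nat) (Btab_262) (Btab_263) (Nat.ble 263 c)
noncomputable def Btab_s_261_264 (c : Nat) : Nat := @Bool.rec (fun _ => Nat) (Btab_261) (Btab_s_262_264 c) (Nat.ble 262 c)
noncomputable def Btab_s_264_266 (c : Nat) : Nat := @Bool.rec (fun _ => Nat) (Btab_264) (Btab_265) (Nat.ble 265 c)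
noncomputable def Btab_s_266_268 (c : Nat) : Nat := @Bool.rec (fun _ => Nat) (Btab_266) (Btab_267) (Nat.ble 267 c)
noncomputable def Btab_s_264_268 (c : Nat) : Nat := @Bool.rec (fun _ => Nat) (Btab_s_264_266 c) (Btab_s_266_268 c) (Nat.ble 266 c)
noncomputable def Btab_s_261_268 (c : Nat) : Nat := @Bool.rec (fun _ => Nat) (Btab_s_261_264 c) (Btab_s_264_268 c) (Nat.ble 264 c)
noncomputable def Btab_s_254_268 (c : Nat) : Nat := @Bool.rec (fun _ => Nat) (Btab_s_254_261 c) (Btab_s_261_268 c) (Nat.ble 261 c)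
noncomputable def Btab_s_269_271 (c : Nat) : Nat := @Bool.rec (fun _ => Nat) (Btab_269) (Btab_270) (Nat.ble 270 c)
noncomputable def Btab_s_268_271 (c : Nat) : Nat := @Bool.rec (fun _ => Nat) (Btab_268) (Btab_s_269_271 c) (Nat.ble 269 c)
noncomputable def Btab_s_271_273 (c : Nat) : Nat := @Bool.rec (fun _ => Nat) (Btab_271) (Btab_272) (Nat.ble 272 c)
noncomputable def Btab_s_273_275 (c : Nat) : Nat := @Bool.rec (fun _ => Nat) (Btab_273) (Btab_274) (Nat.ble 274 c)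
noncomputable def Btab_s_271_275 (c : Nat) : Nat := @Bool.rec (fun _ => Nat) (Btab_s_271_273 c) (Btab_s_273_275 c) (Nat.ble 273 c)
noncomputable def Btab_s_268_275 (c : Nat) : Nat := @Bool.rec (fun _ => Nat) (Btab_s_268_271 c) (Btab_s_271_275 c) (Nat.ble 271 c)
noncomputable def Btab_s_276_278 (c : Nat) : Nat := @Bool.rec (fun _ => Nat) (Btab_276) (Btab_277) (Nat.ble 277 c)
noncomputable def Btab_s_275_278 (c : Nat) : Nat := @Bool.rec (fun _ => Nat) (Btab_275) (Btab_s_276_278 c) (Nat.ble 276 c)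
noncomputable def Btab_s_278_280 (c : Nat) : Nat := @Bool.rec (fun _ => Nat) (Btab_278) (Btab_279) (Nat.ble 279 c)
noncomputable def Btab_s_280_282 (c : Nat) : Nat := @Bool.rec (fun _ => Nat) (Btab_280) (Btab_281) (Nat.ble 281 c)
noncomputable def Btab_s_278_282 (c : Nat) : Nat := @Bool.rec (fun _ => Nat) (Btab_s_278_280 c) (Btab_s_280_282 c) (Nat.ble 280 c)
noncomputable def Btab_s_275_282 (c : Nat) : Nat := @Bool.rec (fun _ => Nat) (Btab_s_275_278 c) (Btab_s_278_282 c) (Nat.ble 278 c)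
noncomputable def Btab_s_268_282 (c : Nat) : Nat := @Bool.rec (fun _ => Nat) (Btab_s_268_275 c) (Btab_s_275_282 c) (Nat.ble 275 c)
noncomputable def Btab_s_254_282 (c : Nat) : Nat := @Bool.rec (fun _ => Nat) (Btab_s_254_268 c) (Btab_s_268_282 c) (Nat.ble 268 c)
noncomputable def Btab_s_226_282 (c : Nat) : Nat := @Bool.rec (fun _ => Nat) (Btab_s_226_254 c) (Btab_s_254_282 c) (Nat.ble 254 c)
noncomputable def Btab_s_283_285 (c : Nat) : Nat := @Bool.rec (fun _ => Nat) (Btab_283) (Btab_284) (Nat.ble 284 c)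
noncomputable def Btab_s_282_285 (c : Nat) : Nat := @Bool.rec (fun _ => Nat) (Btab_282) (Btab_s_283_285 c) (Nat.ble 283 c)
noncomputable def Btab_s_285_287 (c : Nat) : Nat := @Bool.rec (fun _ => Nat) (Btab_285) (Btab_286) (Nat.ble 286 c)
noncomputable def Btab_s_287_289 (c : Nat) : Nat := @Bool.rec (fun _ => Nat) (Btab_287) (Btab_288) (Nat.ble 288 c)
noncomputable def Btab_s_285_289 (c : Nat) : Nat := @Bool.rec (fun _ => Nat) (Btab_s_285_287 c) (Btab_s_287_289 c) (Nat.ble 287 c)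
noncomputable def Btab_s_282_289 (c : Nat) : Nat := @Bool.rec (fun _ => Nat) (Btab_s_282_285 c) (Btab_s_285_289 c) (Nat.ble 285 c)
noncomputable def Btab_s_290_292 (c : Nat) : Nat := @Bool.rec (fun _ => Nat) (Btab_290) (Btab_291) (Nat.ble 291 c)
noncomputable def Btab_s_289_292 (c : Nat) : Nat := @Bool.rec (fun _ => Nat) (Btab_289) (Btab_s_290_292 c) (Nat.ble 290 c)
noncomputable def Btab_s_292_294 (c : Nat) : Nat := @Bool.rec (fun _ => Nat) (Btab_292) (Btab_293) (Nat.ble 293 c)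
noncomputable def Btab_s_294_296 (c : Nat) : Nat := @Bool.rec (fun _ => Nat) (Btab_294) (Btab_295) (Nat.ble 295 c)
noncomputable def Btab_s_292_296 (c : Nat) : Nat := @Bool.rec (fun _ => Nat) (Btab_s_292_294 c) (Btab_s_294_296 c) (Nat.ble 294 c)
noncomputable def Btab_s_289_296 (c : Nat) : Nat := @Bool.rec (fun _ => Nat) (Btab_s_289_292 c) (Btab_s_292_296 c) (Nat.ble 292 c)
noncomputable def Btab_s_282_296 (c : Nat) : Nat := @Bool.rec (fun _ => Nat) (Btab_s_282_289 c) (Btab_s_289_296 c) (Nat.ble 289 c)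
noncomputable def Btab_s_297_299 (c : Nat) : Nat := @Bool.rec (fun _ => Nat) (Btab_297) (Btab_298) (Nat.ble 298 c)
noncomputable def Btab_s_296_299 (c : Nat) : Nat := @Bool.rec (fun _ => Nat) (Btab_296) (Btab_s_297_299 c) (Nat.ble 297 c)
noncomputable def Btab_s_299_301 (c : Nat) : Nat := @Bool.rec (fun _ => Nat) (Btab_299) (Btab_300) (Nat.ble 300 c)
noncomputable def Btab_s_301_303 (c : Nat) : Nat := @Bool.rec (fun _ => Nat) (Btab_301) (Btab_302) (Nat.ble 302 c)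
noncomputable def Btab_s_299_303 (c : Nat) : Nat := @Bool.rec (fun _ => Nat) (Btab_s_299_301 c) (Btab_s_301_303 c) (Nat.ble 301 c)
noncomputable def Btab_s_296_303 (c : Nat) : Nat := @Bool.rec (fun _ => Nat) (Btab_s_296_299 c) (Btab_s_299_303 c) (Nat.ble 299 c)
noncomputable def Btab_s_304_306 (c : Nat) : Nat := @Bool.rec (fun _ => Nat) (Btab_304) (Btab_305) (Nat.ble 305 c)
noncomputable def Btab_s_303_306 (c : Nat) : Nat := @Bool.rec (fun _ => Nat) (Btab_303) (Btab_s_304_306 c) (Nat.ble 304 c)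
noncomputable def Btab_s_306_308 (c : Nat) : Nat := @Bool.rec (fun _ => Nat) (Btab_306) (Btab_307) (Nat.ble 307 c)
noncomputable def Btab_s_308_310 (c : Nat) : Nat := @Bool.rec (fun _ => Nat) (Btab_308) (Btab_309) (Nat.ble 309 c)
noncomputable def Btab_s_306_310 (c : Nat) : Nat := @Bool.rec (fun _ => Nat) (Btab_s_306_308 c) (Btab_s_308_310 c) (Nat.ble 308 c)
noncomputable def Btab_s_303_310 (c : Nat) : Nat := @Bool.rec (fun _ => Nat) (Btab_s_303_306 c) (Btab_s_306_310 c) (Nat.ble 306 c)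
noncomputable def Btab_s_296_310 (c : Nat) : Nat := @Bool.rec (fun _ => Nat) (Btab_s_296_303 c) (Btab_s_303_310 c) (Nat.ble 303 c)
noncomputable def Btab_s_282_310 (c : Nat) : Nat := @Bool.rec (fun _ => Nat) (Btab_s_282_296 c) (Btab_s_296_310 c) (Nat.ble 296 c)
noncomputable def Btab_s_311_313 (c : Nat) : Nat := @Bool.rec (fun _ => Nat) (Btab_311) (Btab_312) (Nat.ble 312 c)
noncomputable def Btab_s_310_313 (c : Nat) : Nat := @Bool.rec (fun _ => Nat) (Btab_310) (Btab_s_311_313 c) (Nat.ble 311 c)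
noncomputable def Btab_s_313_315 (c : Nat) : Nat := @Bool.rec (fun _ => Nat) (Btab_313) (Btab_314) (Nat.ble 314 c)
noncomputable def Btab_s_315_317 (c : Nat) : Nat := @Bool.rec (fun _ => Nat) (Btab_315) (Btab_316) (Nat.ble 316 c)
noncomputable def Btab_s_313_317 (c : Nat) : Nat := @Bool.rec (fun _ => Nat) (Btab_s_313_315 c) (Btab_s_315_317 c) (Nat.ble 315 c)
noncomputable def Btab_s_310_317 (c : Nat) : Nat := @Bool.rec (fun _ => Nat) (Btab_s_310_313 c) (Btab_s_313_317 c) (Nat.ble 313 c)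
noncomputable def Btab_s_318_320 (c : Nat) : Nat := @Bool.rec (fun _ => Nat) (Btab_318) (Btab_319) (Nat.ble 319 c)
noncomputable def Btab_s_317_320 (c : Nat) : Nat := @Bool.rec (fun _ => Nat) (Btab_317) (Btab_s_318_320 c) (Nat.ble 318 c)
noncomputable def Btab_s_320_322 (c : Nat) : Nat := @Bool.rec (fun _ => Nat) (Btab_320) (Btab_321) (Nat.ble 321 c)
noncomputable def Btab_s_322_324 (c : Nat) : Nat := @Bool.rec (fun _ => Nat) (Btab_322) (Btab_323) (Nat.ble 323 c)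
noncomputable def Btab_s_320_324 (c : Nat) : Nat := @Bool.rec (fun _ => Nat) (Btab_s_320_322 c) (Btab_s_322_324 c) (Nat.ble 322 c)
noncomputable def Btab_s_317_324 (c : Nat) : Nat := @Bool.rec (fun _ => Nat) (Btab_s_317_320 c) (Btab_s_320_324 c) (Nat.ble 320 c)
noncomputable def Btab_s_310_324 (c : Nat) : Nat := @Bool.rec (fun _ => Nat) (Btab_s_310_317 c) (Btab_s_317_324 c) (Nat.ble 317 c)
noncomputable def Btab_s_325_327 (c : Nat) : Nat := @Bool.rec (fun _ => Nat) (Btab_325) (Btab_326) (Nat.ble 326 c)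
noncomputable def Btab_s_324_327 (c : Nat) : Nat := @Bool.rec (fun _ => Nat) (Btab_324) (Btab_s_325_327 c) (Nat.ble 325 c)
noncomputable def Btab_s_327_329 (c : Nat) : Nat := @Bool.rec (fun _ => Nat) (Btab_327) (Btab_328) (Nat.ble 328 c)
noncomputable def Btab_s_329_331 (c : Nat) : Nat := @Bool.rec (fun _ => Nat) (Btab_329) (Btab_330) (Nat.ble 330 c)
noncomputable def Btab_s_327_331 (c : Nat) : Nat := @Bool.rec (fun _ => Nat) (Btab_s_327_329 c) (Btab_s_329_331 c) (Nat.ble 329 c)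
noncomputable def Btab_s_324_331 (c : Nat) : Nat := @Bool.rec (fun _ => Nat) (Btab_s_324_327 c) (Btab_s_327_331 c) (Nat.ble 327 c)
noncomputable def Btab_s_331_333 (c : Nat) : Nat := @Bool.rec (fun _ => Nat) (Btab_331) (Btab_332) (Nat.ble 332 c)
noncomputable def Btab_s_333_335 (c : Nat) : Nat := @Bool.rec (fun _ => Nat) (Btab_333) (Btab_334) (Nat.ble 334 c)
noncomputable def Btab_s_331_335 (c : Nat) : Nat := @Bool.rec (fun _ => Nat) (Btab_s_331_333 c) (Btab_s_333_335 c) (Nat.ble 333 c)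
noncomputable def Btab_s_335_337 (c : Nat) : Nat := @Bool.rec (fun _ => Nat) (Btab_335) (Btab_336) (Nat.ble 336 c)
noncomputable def Btab_s_337_339 (c : Nat) : Nat := @Bool.rec (fun _ => Nat) (Btab_337) (Btab_338) (Nat.ble 338 c)
noncomputable def Btab_s_335_339 (c : Nat) : Nat := @Bool.rec (fun _ => Nat) (Btab_s_335_337 c) (Btab_s_337_339 c) (Nat.ble 337 c)
noncomputable def Btab_s_331_339 (c : Nat) : Nat := @Bool.rec (fun _ => Nat) (Btab_s_331_335 c) (Btab_s_335_339 c) (Nat.ble 335 c)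
noncomputable def Btab_s_324_339 (c : Nat) : Nat := @Bool.rec (fun _ => Nat) (Btab_s_324_331 c) (Btab_s_331_339 c) (Nat.ble 331 c)
noncomputable def Btab_s_310_339 (c : Nat) : Nat := @Bool.rec (fun _ => Nat) (Btab_s_310_324 c) (Btab_s_324_339 c) (Nat.ble 324 c)
noncomputable def Btab_s_282_339 (c : Nat) : Nat := @Bool.rec (fun _ => Nat) (Btab_s_282_310 c) (Btab_s_310_339 c) (Nat.ble 310 c)
noncomputable def Btab_s_226_339 (c : Nat) : Nat := @Bool.rec (fun _ => Nat) (Btab_s_226_282 c) (Btab_s_282_339 c) (Nat.ble 282 c)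
noncomputable def Btab_s_340_342 (c : Nat) : Nat := @Bool.rec (fun _ => Nat) (Btab_340) (Btab_341) (Nat.ble 341 c)
noncomputable def Btab_s_339_342 (c : Nat) : Nat := @Bool.rec (fun _ => Nat) (Btab_339) (Btab_s_340_342 c) (Nat.ble 340 c)
noncomputable def Btab_s_342_344 (c : Nat) : Nat := @Bool.rec (fun _ => Nat) (Btab_342) (Btab_343) (Nat.ble 343 c)
noncomputable def Btab_s_344_346 (c : Nat) : Nat := @Bool.rec (fun _ => Nat) (Btab_344) (Btab_345) (Nat.ble 345 c)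
noncomputable def Btab_s_342_346 (c : Nat) : Nat := @Bool.rec (fun _ => Nat) (Btab_s_342_344 c) (Btab_s_344_346 c) (Nat.ble 344 c)
noncomputable def Btab_s_339_346 (c : Nat) : Nat := @Bool.rec (fun _ => Nat) (Btab_s_339_342 c) (Btab_s_342_346 c) (Nat.ble 342 c)
noncomputable def Btab_s_347_349 (c : Nat) : Nat := @Bool.rec (fun _ => Nat) (Btab_347) (Btab_348) (Nat.ble 348 c)
noncomputable def Btab_s_346_349 (c : Nat) : Nat := @Bool.rec (fun _ => Nat) (Btab_346) (Btab_s_347_349 c) (Nat.ble 347 c)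
noncomputable def Btab_s_349_351 (c : Nat) : Nat := @Bool.rec (fun _ => Nat) (Btab_349) (Btab_350) (Nat.ble 350 c)
noncomputable def Btab_s_351_353 (c : Nat) : Nat := @Bool.rec (fun _ => Nat) (Btab_351) (Btab_352) (Nat.ble 352 c)
noncomputable def Btab_s_349_353 (c : Nat) : Nat := @Bool.rec (fun _ => Nat) (Btab_s_349_351 c) (Btab_s_351_353 c) (Nat.ble 351 c)
noncomputable def Btab_s_346_353 (c : Nat) : Nat := @Bool.rec (fun _ => Nat) (Btab_s_346_349 c) (Btab_s_349_353 c) (Nat.ble 349 c)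
noncomputable def Btab_s_339_353 (c : Nat) : Nat := @Bool.rec (fun _ => Nat) (Btab_s_339_346 c) (Btab_s_346_353 c) (Nat.ble 346 c)
noncomputable def Btab_s_354_356 (c : Nat) : Nat := @Bool.rec (fun _ => Nat) (Btab_354) (Btab_355) (Nat.ble 355 c)
noncomputable def Btab_s_353_356 (c : Nat) : Nat := @Bool.rec (fun _ => Nat) (Btab_353) (Btab_s_354_356 c) (Nat.ble 354 c)
noncomputable def Btab_s_356_358 (c : Nat) : Nat := @Bool.rec (fun _ => Nat) (Btab_356) (Btab_357) (Nat.ble 357 c)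
noncomputable def Btab_s_358_360 (c : Nat) : Nat := @Bool.rec (fun _ => Nat) (Btab_358) (Btab_359) (Nat.ble 359 c)
noncomputable def Btab_s_356_360 (c : Nat) : Nat := @Bool.rec (fun _ => Nat) (Btab_s_356_358 c) (Btab_s_358_360 c) (Nat.ble 358 c)
noncomputable def Btab_s_353_360 (c : Nat) : Nat := @Bool.rec (fun _ => Nat) (Btab_s_353_356 c) (Btab_s_356_360 c) (Nat.ble 356 c)
noncomputable def Btab_s_361_363 (c : Nat) : Nat := @Bool.rec (fun _ => Nat) (Btab_361) (Btab_362) (Nat.ble 362 c)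
noncomputable def Btab_s_360_363 (c : Nat) : Nat := @Bool.rec (fun _ => Nat) (Btab_360) (Btab_s_361_363 c) (Nat.ble 361 c)
noncomputable def Btab_s_363_365 (c : Nat) : Nat := @Bool.rec (fun _ => Nat) (Btab_363) (Btab_364) (Nat.ble 364 c)
noncomputable def Btab_s_365_367 (c : Nat) : Nat := @Bool.rec (fun _ => Nat) (Btab_365) (Btab_366) (Nat.ble 366 c)
noncomputable def Btab_s_363_367 (c : Nat) : Nat := @Bool.rec (fun _ => Nat) (Btab_s_363_365 c) (Btab_s_365_367 c) (Nat.ble 365 c)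
noncomputable def Btab_s_360_367 (c : Nat) : Nat := @Bool.rec (fun _ => Nat) (Btab_s_360_363 c) (Btab_s_363_367 c) (Nat.ble 363 c)
noncomputable def Btab_s_353_367 (c : Nat) : Nat := @Bool.rec (fun _ => Nat) (Btab_s_353_360 c) (Btab_s_360_367 c) (Nat.ble 360 c)
noncomputable def Btab_s_339_367 (c : Nat) : Nat := @Bool.rec (fun _ => Nat) (Btab_s_339_353 c) (Btab_s_353_367 c) (Nat.ble 353 c)
noncomputable def Btab_s_368_370 (c : Nat) : Nat := @Bool.rec (fun _ => Nat) (Btab_368) (Btab_369) (Nat.ble 369 c)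
noncomputable def Btab_s_367_370 (c : Nat) : Nat := @Bool.rec (fun _ => Nat) (Btab_367) (Btab_s_368_370 c) (Nat.ble 368 c)
noncomputable def Btab_s_370_372 (c : Nat) : Nat := @Bool.rec (fun _ => Nat) (Btab_370) (Btab_371) (Nat.ble 371 c)
noncomputable def Btab_s_372_374 (c : Nat) : Nat := @Bool.rec (fun _ => Nat) (Btab_372) (Btab_373) (Nat.ble 373 c)
noncomputable def Btab_s_370_374 (c : Nat) : Nat := @Bool.rec (fun _ => Nat) (Btab_s_370_372 c) (Btab_s_372_374 c) (Nat.ble 372 c)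
noncomputable def Btab_s_367_374 (c : Nat) : Nat := @Bool.rec (fun _ => Nat) (Btab_s_367_370 c) (Btab_s_370_374 c) (Nat.ble 370 c)
noncomputable def Btab_s_375_377 (c : Nat) : Nat := @Bool.rec (fun _ => Nat) (Btab_375) (Btab_376) (Nat.ble 376 c)
noncomputable def Btab_s_374_377 (c : Nat) : Nat := @Bool.rec (fun _ => Nat) (Btab_374) (Btab_s_375_377 c) (Nat.ble 375 c)
noncomputable def Btab_s_377_379 (c : Nat) : Nat := @Bool.rec (fun _ => Nat) (Btab_377) (Btab_378) (Nat.ble 378 c)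
noncomputable def Btab_s_379_381 (c : Nat) : Nat := @Bool.rec (fun _ => Nat) (Btab_379) (Btab_380) (Nat.ble 380 c)
noncomputable def Btab_s_377_381 (c : Nat) : Nat := @Bool.rec (fun _ => Nat) (Btab_s_377_379 c) (Btab_s_379_381 c) (Nat.ble 379 c)
noncomputable def Btab_s_374_381 (c : Nat) : Nat := @Bool.rec (fun _ => Nat) (Btab_s_374_377 c) (Btab_s_377_381 c) (Nat.ble 377 c)
noncomputable def Btab_s_367_381 (c : Nat) : Nat := @Bool.rec (fun _ => Nat) (Btab_s_367_374 c) (Btab_s_374_381 c) (Nat.ble 374 c)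
noncomputable def Btab_s_382_384 (c : Nat) : Nat := @Bool.rec (fun _ => Nat) (Btab_382) (Btab_383) (Nat.ble 383 c)
noncomputable def Btab_s_381_384 (c : Nat) : Nat := @Bool.rec (fun _ => Nat) (Btab_381) (Btab_s_382_384 c) (Nat.ble 382 c)
noncomputable def Btab_s_384_386 (c : Nat) : Nat := @Bool.rec (fun _ => Nat) (Btab_384) (Btab_385) (Nat.ble 385 c)
noncomputable def Btab_s_386_388 (c : Nat) : Nat := @Bool.rec (fun _ => Nat) (Btab_386) (Btab_387) (Nat.ble 387 c)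
noncomputable def Btab_s_384_388 (c : Nat) : Nat := @Bool.rec (fun _ => Nat) (Btab_s_384_386 c) (Btab_s_386_388 c) (Nat.ble 386 c)
noncomputable def Btab_s_381_388 (c : Nat) : Nat := @Bool.rec (fun _ => Nat) (Btab_s_381_384 c) (Btab_s_384_388 c) (Nat.ble 384 c)
noncomputable def Btab_s_388_390 (c : Nat) : Nat := @Bool.rec (fun _ => Nat) (Btab_388) (Btab_389) (Nat.ble 389 c)
noncomputable def Btab_s_390_392 (c : Nat) : Nat := @Bool.rec (fun _ => Nat) (Btab_390) (Btab_391) (Nat.ble 391 c)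
noncomputable def Btab_s_388_392 (c : Nat) : Nat := @Bool.rec (fun _ => Nat) (Btab_s_388_390 c) (Btab_s_390_392 c) (Nat.ble 390 c)
noncomputable def Btab_s_392_394 (c : Nat) : Nat := @Bool.rec (fun _ => Nat) (Btab_392) (Btab_393) (Nat.ble 393 c)
noncomputable def Btab_s_394_396 (c : Nat) : Nat := @Bool.rec (fun _ => Nat) (Btab_394) (Btab_395) (Nat.ble 395 c)
noncomputable def Btab_s_392_396 (c : Nat) : Nat := @Bool.rec (fun _ => Nat) (Btab_s_392_394 c) (Btab_s_394_396 c) (Nat.ble 394 c)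
noncomputable def Btab_s_388_396 (c : Nat) : Nat := @Bool.rec (fun _ => Nat) (Btab_s_388_392 c) (Btab_s_392_396 c) (Nat.ble 392 c)
noncomputable def Btab_s_381_396 (c : Nat) : Nat := @Bool.rec (fun _ => Nat) (Btab_s_381_388 c) (Btab_s_388_396 c) (Nat.ble 388 c)
noncomputable def Btab_s_367_396 (c : Nat) : Nat := @Bool.rec (fun _ => Nat) (Btab_s_367_381 c) (Btab_s_381_396 c) (Nat.ble 381 c)
noncomputable def Btab_s_339_396 (c : Nat) : Nat := @Bool.rec (fun _ => Nat) (Btab_s_339_367 c) (Btab_s_367_396 c) (Nat.ble 367 c)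
noncomputable def Btab_s_397_399 (c : Nat) : Nat := @Bool.rec (fun _ => Nat) (Btab_397) (Btab_398) (Nat.ble 398 c)
noncomputable def Btab_s_396_399 (c : Nat) : Nat := @Bool.rec (fun _ => Nat) (Btab_396) (Btab_s_397_399 c) (Nat.ble 397 c)
noncomputable def Btab_s_399_401 (c : Nat) : Nat := @Bool.rec (fun _ => Nat) (Btab_399) (Btab_400) (Nat.ble 400 c)
noncomputable def Btab_s_401_403 (c : Nat) : Nat := @Bool.rec (fun _ => Nat) (Btab_401) (Btab_402) (Nat.ble 402 c)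
noncomputable def Btab_s_399_403 (c : Nat) : Nat := @Bool.rec (fun _ => Nat) (Btab_s_399_401 c) (Btab_s_401_403 c) (Nat.ble 401 c)
noncomputable def Btab_s_396_403 (c : Nat) : Nat := @Bool.rec (fun _ => Nat) (Btab_s_396_399 c) (Btab_s_399_403 c) (Nat.ble 399 c)
noncomputable def Btab_s_404_406 (c : Nat) : Nat := @Bool.rec (fun _ => Nat) (Btab_404) (Btab_405) (Nat.ble 405 c)
noncomputable def Btab_s_403_406 (c : Nat) : Nat := @Bool.rec (fun _ => Nat) (Btab_403) (Btab_s_404_406 c) (Nat.ble 404 c)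
noncomputable def Btab_s_406_408 (c : Nat) : Nat := @Bool.rec (fun _ => Nat) (Btab_406) (Btab_407) (Nat.ble 407 c)
noncomputable def Btab_s_408_410 (c : Nat) : Nat := @Bool.rec (fun _ => Nat) (Btab_408) (Btab_409) (Nat.ble 409 c)
noncomputable def Btab_s_406_410 (c : Nat) : Nat := @Bool.rec (fun _ => Nat) (Btab_s_406_408 c) (Btab_s_408_410 c) (Nat.ble 408 c)
noncomputable def Btab_s_403_410 (c : Nat) : Nat := @Bool.rec (fun _ => Nat) (Btab_s_403_406 c) (Btab_s_406_410 c) (Nat.ble 406 c)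
noncomputable def Btab_s_396_410 (c : Nat) : Nat := @Bool.rec (fun _ => Nat) (Btab_s_396_403 c) (Btab_s_403_410 c) (Nat.ble 403 c)
noncomputable def Btab_s_411_413 (c : Nat) : Nat := @Bool.rec (fun _ => Nat) (Btab_411) (Btab_412) (Nat.ble 412 c)
noncomputable def Btab_s_410_413 (c : Nat) : Nat := @Bool.rec (fun _ => Nat) (Btab_410) (Btab_s_411_413 c) (Nat.ble 411 c)
noncomputable def Btab_s_413_415 (c : Nat) : Nat := @Bool.rec (fun _ => Nat) (Btab_413) (Btab_414) (Nat.ble 414 c)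
noncomputable def Btab_s_415_417 (c : Nat) : Nat := @Bool.rec (fun _ => Nat) (Btab_415) (Btab_416) (Nat.ble 416 c)
noncomputable def Btab_s_413_417 (c : Nat) : Nat := @Bool.rec (fun _ => Nat) (Btab_s_413_415 c) (Btab_s_415_417 c) (Nat.ble 415 c)
noncomputable def Btab_s_410_417 (c : Nat) : Nat := @Bool.rec (fun _ => Nat) (Btab_s_410_413 c) (Btab_s_413_417 c) (Nat.ble 413 c)
noncomputable def Btab_s_418_420 (c : Nat) : Nat := @Bool.rec (fun _ => Nat) (Btab_418) (Btab_419) (Nat.ble 419 c)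
noncomputable def Btab_s_417_420 (c : Nat) : Nat := @Bool.rec (fun _ => Nat) (Btab_417) (Btab_s_418_420 c) (Nat.ble 418 c)
noncomputable def Btab_s_420_422 (c : Nat) : Nat := @Bool.rec (fun _ => Nat) (Btab_420) (Btab_421) (Nat.ble 421 c)
noncomputable def Btab_s_422_424 (c : Nat) : Nat := @Bool.rec (fun _ => Nat) (Btab_422) (Btab_423) (Nat.ble 423 c)
noncomputable def Btab_s_420_424 (c : Nat) : Nat := @Bool.rec (fun _ => Nat) (Btab_s_420_422 c) (Btab_s_422_424 c) (Nat.ble 422 c)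
noncomputable def Btab_s_417_424 (c : Nat) : Nat := @Bool.rec (fun _ => Nat) (Btab_s_417_420 c) (Btab_s_420_424 c) (Nat.ble 420 c)
noncomputable def Btab_s_410_424 (c : Nat) : Nat := @Bool.rec (fun _ => Nat) (Btab_s_410_417 c) (Btab_s_417_424 c) (Nat.ble 417 c)
noncomputable def Btab_s_396_424 (c : Nat) : Nat := @Bool.rec (fun _ => Nat) (Btab_s_396_410 c) (Btab_s_410_424 c) (Nat.ble 410 c)
noncomputable def Btab_s_425_427 (c : Nat) : Nat := @Bool.rec (fun _ => Nat) (Btab_425) (Btab_426) (Nat.ble 426 c)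
noncomputable def Btab_s_424_427 (c : Nat) : Nat := @Bool.rec (fun _ => Nat) (Btab_424) (Btab_s_425_427 c) (Nat.ble 425 c)
noncomputable def Btab_s_427_429 (c : Nat) : Nat := @Bool.rec (fun _ => Nat) (Btab_427) (Btab_428) (Nat.ble 428 c)
noncomputable def Btab_s_429_431 (c : Nat) : Nat := @Bool.rec (fun _ => Nat) (Btab_429) (Btab_430) (Nat.ble 430 c)
noncomputable def Btab_s_427_431 (c : Nat) : Nat := @Bool.rec (fun _ => Nat) (Btab_s_427_429 c) (Btab_s_429_431 c) (Nat.ble 429 c)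
noncomputable def Btab_s_424_431 (c : Nat) : Nat := @Bool.rec (fun _ => Nat) (Btab_s_424_427 c) (Btab_s_427_431 c) (Nat.ble 427 c)
noncomputable def Btab_s_432_434 (c : Nat) : Nat := @Bool.rec (fun _ => Nat) (Btab_432) (Btab_433) (Nat.ble 433 c)
noncomputable def Btab_s_431_434 (c : Nat) : Nat := @Bool.rec (fun _ => Nat) (Btab_431) (Btab_s_432_434 c) (Nat.ble 432 c)
noncomputable def Btab_s_434_436 (c : Nat) : Nat := @Bool.rec (fun _ => Nat) (Btab_434) (Btab_435) (Nat.ble 435 c)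
noncomputable def Btab_s_436_438 (c : Nat) : Nat := @Bool.rec (fun _ => Nat) (Btab_436) (Btab_437) (Nat.ble 437 c)
noncomputable def Btab_s_434_438 (c : Nat) : Nat := @Bool.rec (fun _ => Nat) (Btab_s_434_436 c) (Btab_s_436_438 c) (Nat.ble 436 c)
noncomputable def Btab_s_431_438 (c : Nat) : Nat := @Bool.rec (fun _ => Nat) (Btab_s_431_434 c) (Btab_s_434_438 c) (Nat.ble 434 c)
noncomputable def Btab_s_424_438 (c : Nat) : Nat := @Bool.rec (fun _ => Nat) (Btab_s_424_431 c) (Btab_s_431_438 c) (Nat.ble 431 c)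
noncomputable def Btab_s_439_441 (c : Nat) : Nat := @Bool.rec (fun _ => Nat) (Btab_439) (Btab_440) (Nat.ble 440 c)
noncomputable def Btab_s_438_441 (c : Nat) : Nat := @Bool.rec (fun _ => Nat) (Btab_438) (Btab_s_439_441 c) (Nat.ble 439 c)
noncomputable def Btab_s_441_443 (c : Nat) : Nat := @Bool.rec (fun _ => Nat) (Btab_441) (Btab_442) (Nat.ble 442 c)
noncomputable def Btab_s_443_445 (c : Nat) : Nat := @Bool.rec (fun _ => Nat) (Btab_443) (Btab_444) (Nat.ble 444 c)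
noncomputable def Btab_s_441_445 (c : Nat) : Nat := @Bool.rec (fun _ => Nat) (Btab_s_441_443 c) (Btab_s_443_445 c) (Nat.ble 443 c)
noncomputable def Btab_s_438_445 (c : Nat) : Nat := @Bool.rec (fun _ => Nat) (Btab_s_438_441 c) (Btab_s_441_445 c) (Nat.ble 441 c)
noncomputable def Btab_s_445_447 (c : Nat) : Nat := @Bool.rec (fun _ => Nat) (Btab_445) (Btab_446) (Nat.ble 446 c)
noncomputable def Btab_s_447_449 (c : Nat) : Nat := @Bool.rec (fun _ => Nat) (Btab_447) (Btab_448) (Nat.ble 448 c)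
noncomputable def Btab_s_445_449 (c : Nat) : Nat := @Bool.rec (fun _ => Nat) (Btab_s_445_447 c) (Btab_s_447_449 c) (Nat.ble 447 c)
noncomputable def Btab_s_449_451 (c : Nat) : Nat := @Bool.rec (fun _ => Nat) (Btab_449) (Btab_450) (Nat.ble 450 c)
noncomputable def Btab_s_451_453 (c : Nat) : Nat := @Bool.rec (fun _ => Nat) (Btab_451) (Btab_452) (Nat.ble 452 c)
noncomputable def Btab_s_449_453 (c : Nat) : Nat := @Bool.rec (fun _ => Nat) (Btab_s_449_451 c) (Btab_s_451_453 c) (Nat.ble 451 c)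
noncomputable def Btab_s_445_453 (c : Nat) : Nat := @Bool.rec (fun _ => Nat) (Btab_s_445_449 c) (Btab_s_449_453 c) (Nat.ble 449 c)
noncomputable def Btab_s_438_453 (c : Nat) : Nat := @Bool.rec (fun _ => Nat) (Btab_s_438_445 c) (Btab_s_445_453 c) (Nat.ble 445 c)
noncomputable def Btab_s_424_453 (c : Nat) : Nat := @Bool.rec (fun _ => Nat) (Btab_s_424_438 c) (Btab_s_438_453 c) (Nat.ble 438 c)
noncomputable def Btab_s_396_453 (c : Nat) : Nat := @Bool.rec (fun _ => Nat) (Btab_s_396_424 c) (Btab_s_424_453 c) (Nat.ble 424 c)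
noncomputable def Btab_s_339_453 (c : Nat) : Nat := @Bool.rec (fun _ => Nat) (Btab_s_339_396 c) (Btab_s_396_453 c) (Nat.ble 396 c)
noncomputable def Btab_s_226_453 (c : Nat) : Nat := @Bool.rec (fun _ => Nat) (Btab_s_226_339 c) (Btab_s_339_453 c) (Nat.ble 339 c)
noncomputable def Btab_s_0_453 (c : Nat) : Nat := @Bool.rec (fun _ => Nat) (Btab_s_0_226 c) (Btab_s_226_453 c) (Nat.ble 226 c)
noncomputable def Btab_s_454_456 (c : Nat) : Nat := @Bool.rec (fun _ => Nat) (Btab_454) (Btab_455) (Nat.ble 455 c)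
noncomputable def Btab_s_453_456 (c : Nat) : Nat := @Bool.rec (fun _ => Nat) (Btab_453) (Btab_s_454_456 c) (Nat.ble 454 c)
noncomputable def Btab_s_456_458 (c : Nat) : Nat := @Bool.rec (fun _ => Nat) (Btab_456) (Btab_457) (Nat.ble 457 c)
noncomputable def Btab_s_458_460 (c : Nat) : Nat := @Bool.rec (fun _ => Nat) (Btab_458) (Btab_459) (Nat.ble 459 c)
noncomputable def Btab_s_456_460 (c : Nat) : Nat := @Bool.rec (fun _ => Nat) (Btab_s_456_458 c) (Btab_s_458_460 c) (Nat.ble 458 c)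
noncomputable def Btab_s_453_460 (c : Nat) : Nat := @Bool.rec (fun _ => Nat) (Btab_s_453_456 c) (Btab_s_456_460 c) (Nat.ble 456 c)
noncomputable def Btab_s_461_463 (c : Nat) : Nat := @Bool.rec (fun _ => Nat) (Btab_461) (Btab_462) (Nat.ble 462 c)
noncomputable def Btab_s_460_463 (c : Nat) : Nat := @Bool.rec (fun _ => Nat) (Btab_460) (Btab_s_461_463 c) (Nat.ble 461 c)
noncomputable def Btab_s_463_465 (c : Nat) : Nat := @Bool.rec (fun _ => Nat) (Btab_463) (Btab_464) (Nat.ble 464 c)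
noncomputable def Btab_s_465_467 (c : Nat) : Nat := @Bool.rec (fun _ => Nat) (Btab_465) (Btab_466) (Nat.ble 466 c)
noncomputable def Btab_s_463_467 (c : Nat) : Nat := @Bool.rec (fun _ => Nat) (Btab_s_463_465 c) (Btab_s_465_467 c) (Nat.ble 465 c)
noncomputable def Btab_s_460_467 (c : Nat) : Nat := @Bool.rec (fun _ => Nat) (Btab_s_460_463 c) (Btab_s_463_467 c) (Nat.ble 463 c)
noncomputable def Btab_s_453_467 (c : Nat) : Nat := @Bool.rec (fun _ => Nat) (Btab_s_453_460 c) (Btab_s_460_467 c) (Nat.ble 460 c)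
noncomputable def Btab_s_468_470 (c : Nat) : Nat := @Bool.rec (fun _ => Nat) (Btab_468) (Btab_469) (Nat.ble 469 c)
noncomputable def Btab_s_467_470 (c : Nat) : Nat := @Bool.rec (fun _ => Nat) (Btab_467) (Btab_s_468_470 c) (Nat.ble 468 c)
noncomputable def Btab_s_470_472 (c : Nat) : Nat := @Bool.rec (fun _ => Nat) (Btab_470) (Btab_471) (Nat.ble 471 c)
noncomputable def Btab_s_472_474 (c : Nat) : Nat := @Bool.rec (fun _ => Nat) (Btab_472) (Btab_473) (Nat.ble 473 c)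
noncomputable def Btab_s_470_474 (c : Nat) : Nat := @Bool.rec (fun _ => Nat) (Btab_s_470_472 c) (Btab_s_472_474 c) (Nat.ble 472 c)
noncomputable def Btab_s_467_474 (c : Nat) : Nat := @Bool.rec (fun _ => Nat) (Btab_s_467_470 c) (Btab_s_470_474 c) (Nat.ble 470 c)
noncomputable def Btab_s_475_477 (c : Nat) : Nat := @Bool.rec (fun _ => Nat) (Btab_475) (Btab_476) (Nat.ble 476 c)
noncomputable def Btab_s_474_477 (c : Nat) : Nat := @Bool.rec (fun _ => Nat) (Btab_474) (Btab_s_475_477 c) (Nat.ble 475 c)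
noncomputable def Btab_s_477_479 (c : Nat) : Nat := @Bool.rec (fun _ => Nat) (Btab_477) (Btab_478) (Nat.ble 478 c)
noncomputable def Btab_s_479_481 (c : Nat) : Nat := @Bool.rec (fun _ => Nat) (Btab_479) (Btab_480) (Nat.ble 480 c)
noncomputable def Btab_s_477_481 (c : Nat) : Nat := @Bool.rec (fun _ => Nat) (Btab_s_477_479 c) (Btab_s_479_481 c) (Nat.ble 479 c)
noncomputable def Btab_s_474_481 (c : Nat) : Nat := @Bool.rec (fun _ => Nat) (Btab_s_474_477 c) (Btab_s_477_481 c) (Nat.ble 477 c)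
noncomputable def Btab_s_467_481 (c : Nat) : Nat := @Bool.rec (fun _ => Nat) (Btab_s_467_474 c) (Btab_s_474_481 c) (Nat.ble 474 c)
noncomputable def Btab_s_453_481 (c : Nat) : Nat := @Bool.rec (fun _ => Nat) (Btab_s_453_467 c) (Btab_s_467_481 c) (Nat.ble 467 c)
noncomputable def Btab_s_482_484 (c : Nat) : Nat := @Bool.rec (fun _ => Nat) (Btab_482) (Btab_483) (Nat.ble 483 c)
noncomputable def Btab_s_481_484 (c : Nat) : Nat := @Bool.rec (fun _ => Nat) (Btab_481) (Btab_s_482_484 c) (Nat.ble 482 c)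
noncomputable def Btab_s_484_486 (c : Nat) : Nat := @Bool.rec (fun _ => Nat) (Btab_484) (Btab_485) (Nat.ble 485 c)
noncomputable def Btab_s_486_488 (c : Nat) : Nat := @Bool.rec (fun _ => Nat) (Btab_486) (Btab_487) (Nat.ble 487 c)
noncomputable def Btab_s_484_488 (c : Nat) : Nat := @Bool.rec (fun _ => Nat) (Btab_s_484_486 c) (Btab_s_486_488 c) (Nat.ble 486 c)
noncomputable def Btab_s_481_488 (c : Nat) : Nat := @Bool.rec (fun _ => Nat) (Btab_s_481_484 c) (Btab_s_484_488 c) (Nat.ble 484 c)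
noncomputable def Btab_s_489_491 (c : Nat) : Nat := @Bool.rec (fun _ => Nat) (Btab_489) (Btab_490) (Nat.ble 490 c)
noncomputable def Btab_s_488_491 (c : Nat) : Nat := @Bool.rec (fun _ => Nat) (Btab_488) (Btab_s_489_491 c) (Nat.ble 489 c)
noncomputable def Btab_s_491_493 (c : Nat) : Nat := @Bool.rec (fun _ => Nat) (Btab_491) (Btab_492) (Nat.ble 492 c)
noncomputable def Btab_s_493_495 (c : Nat) : Nat := @Bool.rec (fun _ => Nat) (Btab_493) (Btab_494) (Nat.ble 494 c)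
noncomputable def Btab_s_491_495 (c : Nat) : Nat := @Bool.rec (fun _ => Nat) (Btab_s_491_493 c) (Btab_s_493_495 c) (Nat.ble 493 c)
noncomputable def Btab_s_488_495 (c : Nat) : Nat := @Bool.rec (fun _ => Nat) (Btab_s_488_491 c) (Btab_s_491_495 c) (Nat.ble 491 c)
noncomputable def Btab_s_481_495 (c : Nat) : Nat := @Bool.rec (fun _ => Nat) (Btab_s_481_488 c) (Btab_s_488_495 c) (Nat.ble 488 c)
noncomputable def Btab_s_496_498 (c : Nat) : Nat := @Bool.rec (fun _ => Nat) (Btab_496) (Btab_497) (Nat.ble 497 c)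
noncomputable def Btab_s_495_498 (c : Nat) : Nat := @Bool.rec (fun _ => Nat) (Btab_495) (Btab_s_496_498 c) (Nat.ble 496 c)
noncomputable def Btab_s_498_500 (c : Nat) : Nat := @Bool.rec (fun _ => Nat) (Btab_498) (Btab_499) (Nat.ble 499 c)
noncomputable def Btab_s_500_502 (c : Nat) : Nat := @Bool.rec (fun _ => Nat) (Btab_500) (Btab_501) (Nat.ble 501 c)
noncomputable def Btab_s_498_502 (c : Nat) : Nat := @Bool.rec (fun _ => Nat) (Btab_s_498_500 c) (Btab_s_500_502 c) (Nat.ble 500 c)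
noncomputable def Btab_s_495_502 (c : Nat) : Nat := @Bool.rec (fun _ => Nat) (Btab_s_495_498 c) (Btab_s_498_502 c) (Nat.ble 498 c)
noncomputable def Btab_s_503_505 (c : Nat) : Nat := @Bool.rec (fun _ => Nat) (Btab_503) (Btab_504) (Nat.ble 504 c)
noncomputable def Btab_s_502_505 (c : Nat) : Nat := @Bool.rec (fun _ => Nat) (Btab_502) (Btab_s_503_505 c) (Nat.ble 503 c)
noncomputable def Btab_s_505_507 (c : Nat) : Nat := @Bool.rec (fun _ => Nat) (Btab_505) (Btab_506) (Nat.ble 506 c)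
noncomputable def Btab_s_507_509 (c : Nat) : Nat := @Bool.rec (fun _ => Nat) (Btab_507) (Btab_508) (Nat.ble 508 c)
noncomputable def Btab_s_505_509 (c : Nat) : Nat := @Bool.rec (fun _ => Nat) (Btab_s_505_507 c) (Btab_s_507_509 c) (Nat.ble 507 c)
noncomputable def Btab_s_502_509 (c : Nat) : Nat := @Bool.rec (fun _ => Nat) (Btab_s_502_505 c) (Btab_s_505_509 c) (Nat.ble 505 c)
noncomputable def Btab_s_495_509 (c : Nat) : Nat := @Bool.rec (fun _ => Nat) (Btab_s_495_502 c) (Btab_s_502_509 c) (Nat.ble 502 c)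
noncomputable def Btab_s_481_509 (c : Nat) : Nat := @Bool.rec (fun _ => Nat) (Btab_s_481_495 c) (Btab_s_495_509 c) (Nat.ble 495 c)
noncomputable def Btab_s_453_509 (c : Nat) : Nat := @Bool.rec (fun _ => Nat) (Btab_s_453_481 c) (Btab_s_481_509 c) (Nat.ble 481 c)
noncomputable def Btab_s_510_512 (c : Nat) : Nat := @Bool.rec (fun _ => Nat) (Btab_510) (Btab_511) (Nat.ble 511 c)
noncomputable def Btab_s_509_512 (c : Nat) : Nat := @Bool.rec (fun _ => Nat) (Btab_509) (Btab_s_510_512 c) (Nat.ble 510 c)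
noncomputable def Btab_s_512_514 (c : Nat) : Nat := @Bool.rec (fun _ => Nat) (Btab_512) (Btab_513) (Nat.ble 513 c)
noncomputable def Btab_s_514_516 (c : Nat) : Nat := @Bool.rec (fun _ => Nat) (Btab_514) (Btab_515) (Nat.ble 515 c)
noncomputable def Btab_s_512_516 (c : Nat) : Nat := @Bool.rec (fun _ => Nat) (Btab_s_512_514 c) (Btab_s_514_516 c) (Nat.ble 514 c)
noncomputable def Btab_s_509_516 (c : Nat) : Nat := @Bool.rec (fun _ => Nat) (Btab_s_509_512 c) (Btab_s_512_516 c) (Nat.ble 512 c)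
noncomputable def Btab_s_517_519 (c : Nat) : Nat := @Bool.rec (fun _ => Nat) (Btab_517) (Btab_518) (Nat.ble 518 c)
noncomputable def Btab_s_516_519 (c : Nat) : Nat := @Bool.rec (fun _ => Nat) (Btab_516) (Btab_s_517_519 c) (Nat.ble 517 c)
noncomputable def Btab_s_519_521 (c : Nat) : Nat := @Bool.rec (fun _ => Nat) (Btab_519) (Btab_520) (Nat.ble 520 c)
noncomputable def Btab_s_521_523 (c : Nat) : Nat := @Bool.rec (fun _ => Nat) (Btab_521) (Btab_522) (Nat.ble 522 c)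
noncomputable def Btab_s_519_523 (c : Nat) : Nat := @Bool.rec (fun _ => Nat) (Btab_s_519_521 c) (Btab_s_521_523 c) (Nat.ble 521 c)
noncomputable def Btab_s_516_523 (c : Nat) : Nat := @Bool.rec (fun _ => Nat) (Btab_s_516_519 c) (Btab_s_519_523 c) (Nat.ble 519 c)
noncomputable def Btab_s_509_523 (c : Nat) : Nat := @Bool.rec (fun _ => Nat) (Btab_s_509_516 c) (Btab_s_516_523 c) (Nat.ble 516 c)
noncomputable def Btab_s_524_526 (c : Nat) : Nat := @Bool.rec (fun _ => Nat) (Btab_524) (Btab_525) (Nat.ble 525 c)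
noncomputable def Btab_s_523_526 (c : Nat) : Nat := @Bool.rec (fun _ => Nat) (Btab_523) (Btab_s_524_526 c) (Nat.ble 524 c)
noncomputable def Btab_s_526_528 (c : Nat) : Nat := @Bool.rec (fun _ => Nat) (Btab_526) (Btab_527) (Nat.ble 527 c)
noncomputable def Btab_s_528_530 (c : Nat) : Nat := @Bool.rec (fun _ => Nat) (Btab_528) (Btab_529) (Nat.ble 529 c)
noncomputable def Btab_s_526_530 (c : Nat) : Nat := @Bool.rec (fun _ => Nat) (Btab_s_526_528 c) (Btab_s_528_530 c) (Nat.ble 528 c)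
noncomputable def Btab_s_523_530 (c : Nat) : Nat := @Bool.rec (fun _ => Nat) (Btab_s_523_526 c) (Btab_s_526_530 c) (Nat.ble 526 c)
noncomputable def Btab_s_531_533 (c : Nat) : Nat := @Bool.rec (fun _ => Nat) (Btab_531) (Btab_532) (Nat.ble 532 c)
noncomputable def Btab_s_530_533 (c : Nat) : Nat := @Bool.rec (fun _ => Nat) (Btab_530) (Btab_s_531_533 c) (Nat.ble 531 c)
noncomputable def Btab_s_533_535 (c : Nat) : Nat := @Bool.rec (fun _ => Nat) (Btab_533) (Btab_534) (Nat.ble 534 c)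
noncomputable def Btab_s_535_537 (c : Nat) : Nat := @Bool.rec (fun _ => Nat) (Btab_535) (Btab_536) (Nat.ble 536 c)
noncomputable def Btab_s_533_537 (c : Nat) : Nat := @Bool.rec (fun _ => Nat) (Btab_s_533_535 c) (Btab_s_535_537 c) (Nat.ble 535 c)
noncomputable def Btab_s_530_537 (c : Nat) : Nat := @Bool.rec (fun _ => Nat) (Btab_s_530_533 c) (Btab_s_533_537 c) (Nat.ble 533 c)
noncomputable def Btab_s_523_537 (c : Nat) : Nat := @Bool.rec (fun _ => Nat) (Btab_s_523_530 c) (Btab_s_530_537 c) (Nat.ble 530 c)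
noncomputable def Btab_s_509_537 (c : Nat) : Nat := @Bool.rec (fun _ => Nat) (Btab_s_509_523 c) (Btab_s_523_537 c) (Nat.ble 523 c)
noncomputable def Btab_s_538_540 (c : Nat) : Nat := @Bool.rec (fun _ => Nat) (Btab_538) (Btab_539) (Nat.ble 539 c)
noncomputable def Btab_s_537_540 (c : Nat) : Nat := @Bool.rec (fun _ => Nat) (Btab_537) (Btab_s_538_540 c) (Nat.ble 538 c)
noncomputable def Btab_s_540_542 (c : Nat) : Nat := @Bool.rec (fun _ => Nat) (Btab_540) (Btab_541) (Nat.ble 541 c)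
noncomputable def Btab_s_542_544 (c : Nat) : Nat := @Bool.rec (fun _ => Nat) (Btab_542) (Btab_543) (Nat.ble 543 c)
noncomputable def Btab_s_540_544 (c : Nat) : Nat := @Bool.rec (fun _ => Nat) (Btab_s_540_542 c) (Btab_s_542_544 c) (Nat.ble 542 c)
noncomputable def Btab_s_537_544 (c : Nat) : Nat := @Bool.rec (fun _ => Nat) (Btab_s_537_540 c) (Btab_s_540_544 c) (Nat.ble 540 c)
noncomputable def Btab_s_545_547 (c : Nat) : Nat := @Bool.rec (fun _ => Nat) (Btab_545) (Btab_546) (Nat.ble 546 c)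
noncomputable def Btab_s_544_547 (c : Nat) : Nat := @Bool.rec (fun _ => Nat) (Btab_544) (Btab_s_545_547 c) (Nat.ble 545 c)
noncomputable def Btab_s_547_549 (c : Nat) : Nat := @Bool.rec (fun _ => Nat) (Btab_547) (Btab_548) (Nat.ble 548 c)
noncomputable def Btab_s_549_551 (c : Nat) : Nat := @Bool.rec (fun _ => Nat) (Btab_549) (Btab_550) (Nat.ble 550 c)
noncomputable def Btab_s_547_551 (c : Nat) : Nat := @Bool.rec (fun _ => Nat) (Btab_s_547_549 c) (Btab_s_549_551 c) (Nat.ble 549 c)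
noncomputable def Btab_s_544_551 (c : Nat) : Nat := @Bool.rec (fun _ => Nat) (Btab_s_544_547 c) (Btab_s_547_551 c) (Nat.ble 547 c)
noncomputable def Btab_s_537_551 (c : Nat) : Nat := @Bool.rec (fun _ => Nat) (Btab_s_537_544 c) (Btab_s_544_551 c) (Nat.ble 544 c)
noncomputable def Btab_s_552_554 (c : Nat) : Nat := @Bool.rec (fun _ => Nat) (Btab_552) (Btab_553) (Nat.ble 553 c)
noncomputable def Btab_s_551_554 (c : Nat) : Nat := @Bool.rec (fun _ => Nat) (Btab_551) (Btab_s_552_554 c) (Nat.ble 552 c)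
noncomputable def Btab_s_554_556 (c : Nat) : Nat := @Bool.rec (fun _ => Nat) (Btab_554) (Btab_555) (Nat.ble 555 c)
noncomputable def Btab_s_556_558 (c : Nat) : Nat := @Bool.rec (fun _ => Nat) (Btab_556) (Btab_557) (Nat.ble 557 c)
noncomputable def Btab_s_554_558 (c : Nat) : Nat := @Bool.rec (fun _ => Nat) (Btab_s_554_556 c) (Btab_s_556_558 c) (Nat.ble 556 c)
noncomputable def Btab_s_551_558 (c : Nat) : Nat := @Bool.rec (fun _ => Nat) (Btab_s_551_554 c) (Btab_s_554_558 c) (Nat.ble 554 c)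
noncomputable def Btab_s_558_560 (c : Nat) : Nat := @Bool.rec (fun _ => Nat) (Btab_558) (Btab_559) (Nat.ble 559 c)
noncomputable def Btab_s_560_562 (c : Nat) : Nat := @Bool.rec (fun _ => Nat) (Btab_560) (Btab_561) (Nat.ble 561 c)
noncomputable def Btab_s_558_562 (c : Nat) : Nat := @Bool.rec (fun _ => Nat) (Btab_s_558_560 c) (Btab_s_560_562 c) (Nat.ble 560 c)
noncomputable def Btab_s_562_564 (c : Nat) : Nat := @Bool.rec (fun _ => Nat) (Btab_562) (Btab_563) (Nat.ble 563 c)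
noncomputable def Btab_s_564_566 (c : Nat) : Nat := @Bool.rec (fun _ => Nat) (Btab_564) (Btab_565) (Nat.ble 565 c)
noncomputable def Btab_s_562_566 (c : Nat) : Nat := @Bool.rec (fun _ => Nat) (Btab_s_562_564 c) (Btab_s_564_566 c) (Nat.ble 564 c)
noncomputable def Btab_s_558_566 (c : Nat) : Nat := @Bool.rec (fun _ => Nat) (Btab_s_558_562 c) (Btab_s_562_566 c) (Nat.ble 562 c)
noncomputable def Btab_s_551_566 (c : Nat) : Nat := @Bool.rec (fun _ => Nat) (Btab_s_551_558 c) (Btab_s_558_566 c) (Nat.ble 558 c)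
noncomputable def Btab_s_537_566 (c : Nat) : Nat := @Bool.rec (fun _ => Nat) (Btab_s_537_551 c) (Btab_s_551_566 c) (Nat.ble 551 c)
noncomputable def Btab_s_509_566 (c : Nat) : Nat := @Bool.rec (fun _ => Nat) (Btab_s_509_537 c) (Btab_s_537_566 c) (Nat.ble 537 c)
noncomputable def Btab_s_453_566 (c : Nat) : Nat := @Bool.rec (fun _ => Nat) (Btab_s_453_509 c) (Btab_s_509_566 c) (Nat.ble 509 c)
noncomputable def Btab_s_567_569 (c : Nat) : Nat := @Bool.rec (fun _ => Nat) (Btab_567) (Btab_568) (Nat.ble 568 c)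
noncomputable def Btab_s_566_569 (c : Nat) : Nat := @Bool.rec (fun _ => Nat) (Btab_566) (Btab_s_567_569 c) (Nat.ble 567 c)
noncomputable def Btab_s_569_571 (c : Nat) : Nat := @Bool.rec (fun _ => Nat) (Btab_569) (Btab_570) (Nat.ble 570 c)
noncomputable def Btab_s_571_573 (c : Nat) : Nat := @Bool.rec (fun _ => Nat) (Btab_571) (Btab_572) (Nat.ble 572 c)
noncomputable def Btab_s_569_573 (c : Nat) : Nat := @Bool.rec (fun _ => Nat) (Btab_s_569_571 c) (Btab_s_571_573 c) (Nat.ble 571 c)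
noncomputable def Btab_s_566_573 (c : Nat) : Nat := @Bool.rec (fun _ => Nat) (Btab_s_566_569 c) (Btab_s_569_573 c) (Nat.ble 569 c)
noncomputable def Btab_s_574_576 (c : Nat) : Nat := @Bool.rec (fun _ => Nat) (Btab_574) (Btab_575) (Nat.ble 575 c)
noncomputable def Btab_s_573_576 (c : Nat) : Nat := @Bool.rec (fun _ => Nat) (Btab_573) (Btab_s_574_576 c) (Nat.ble 574 c)
noncomputable def Btab_s_576_578 (c : Nat) : Nat := @Bool.rec (fun _ => Nat) (Btab_576) (Btab_577) (Nat.ble 577 c)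
noncomputable def Btab_s_578_580 (c : Nat) : Nat := @Bool.rec (fun _ => Nat) (Btab_578) (Btab_579) (Nat.ble 579 c)
noncomputable def Btab_s_576_580 (c : Nat) : Nat := @Bool.rec (fun _ => Nat) (Btab_s_576_578 c) (Btab_s_578_580 c) (Nat.ble 578 c)
noncomputable def Btab_s_573_580 (c : Nat) : Nat := @Bool.rec (fun _ => Nat) (Btab_s_573_576 c) (Btab_s_576_580 c) (Nat.ble 576 c)
noncomputable def Btab_s_566_580 (c : Nat) : Nat := @Bool.rec (fun _ => Nat) (Btab_s_566_573 c) (Btab_s_573_580 c) (Nat.ble 573 c)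
noncomputable def Btab_s_581_583 (c : Nat) : Nat := @Bool.rec (fun _ => Nat) (Btab_581) (Btab_582) (Nat.ble 582 c)
noncomputable def Btab_s_580_583 (c : Nat) : Nat := @Bool.rec (fun _ => Nat) (Btab_580) (Btab_s_581_583 c) (Nat.ble 581 c)
noncomputable def Btab_s_583_585 (c : Nat) : Nat := @Bool.rec (fun _ => Nat) (Btab_583) (Btab_584) (Nat.ble 584 c)
noncomputable def Btab_s_585_587 (c : Nat) : Nat := @Bool.rec (fun _ => Nat) (Btab_585) (Btab_586) (Nat.ble 586 c)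
noncomputable def Btab_s_583_587 (c : Nat) : Nat := @Bool.rec (fun _ => Nat) (Btab_s_583_585 c) (Btab_s_585_587 c) (Nat.ble 585 c)
noncomputable def Btab_s_580_587 (c : Nat) : Nat := @Bool.rec (fun _ => Nat) (Btab_s_580_583 c) (Btab_s_583_587 c) (Nat.ble 583 c)
noncomputable def Btab_s_588_590 (c : Nat) : Nat := @Bool.rec (fun _ => Nat) (Btab_588) (Btab_589) (Nat.ble 589 c)
noncomputable def Btab_s_587_590 (c : Nat) : Nat := @Bool.rec (fun _ => Nat) (Btab_587) (Btab_s_588_590 c) (Nat.ble 588 c)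
noncomputable def Btab_s_590_592 (c : Nat) : Nat := @Bool.rec (fun _ => Nat) (Btab_590) (Btab_591) (Nat.ble 591 c)
noncomputable def Btab_s_592_594 (c : Nat) : Nat := @Bool.rec (fun _ => Nat) (Btab_592) (Btab_593) (Nat.ble 593 c)
noncomputable def Btab_s_590_594 (c : Nat) : Nat := @Bool.rec (fun _ => Nat) (Btab_s_590_592 c) (Btab_s_592_594 c) (Nat.ble 592 c)
noncomputable def Btab_s_587_594 (c : Nat) : Nat := @Bool.rec (fun _ => Nat) (Btab_s_587_590 c) (Btab_s_590_594 c) (Nat.ble 590 c)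
noncomputable def Btab_s_580_594 (c : Nat) : Nat := @Bool.rec (fun _ => Nat) (Btab_s_580_587 c) (Btab_s_587_594 c) (Nat.ble 587 c)
noncomputable def Btab_s_566_594 (c : Nat) : Nat := @Bool.rec (fun _ => Nat) (Btab_s_566_580 c) (Btab_s_580_594 c) (Nat.ble 580 c)
noncomputable def Btab_s_595_597 (c : Nat) : Nat := @Bool.rec (fun _ => Nat) (Btab_595) (Btab_596) (Nat.ble 596 c)
noncomputable def Btab_s_594_597 (c : Nat) : Nat := @Bool.rec (fun _ => Nat) (Btab_594) (Btab_s_595_597 c) (Nat.ble 595 c)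
noncomputable def Btab_s_597_599 (c : Nat) : Nat := @Bool.rec (fun _ => Nat) (Btab_597) (Btab_598) (Nat.ble 598 c)
noncomputable def Btab_s_599_601 (c : Nat) : Nat := @Bool.rec (fun _ => Nat) (Btab_599) (Btab_600) (Nat.ble 600 c)
noncomputable def Btab_s_597_601 (c : Nat) : Nat := @Bool.rec (fun _ => Nat) (Btab_s_597_599 c) (Btab_s_599_601 c) (Nat.ble 599 c)
noncomputable def Btab_s_594_601 (c : Nat) : Nat := @Bool.rec (fun _ => Nat) (Btab_s_594_597 c) (Btab_s_597_601 c) (Nat.ble 597 c)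
noncomputable def Btab_s_602_604 (c : Nat) : Nat := @Bool.rec (fun _ => Nat) (Btab_602) (Btab_603) (Nat.ble 603 c)
noncomputable def Btab_s_601_604 (c : Nat) : Nat := @Bool.rec (fun _ => Nat) (Btab_601) (Btab_s_602_604 c) (Nat.ble 602 c)
noncomputable def Btab_s_604_606 (c : Nat) : Nat := @Bool.rec (fun _ => Nat) (Btab_604) (Btab_605) (Nat.ble 605 c)
noncomputable def Btab_s_606_608 (c : Nat) : Nat := @Bool.rec (fun _ => Nat) (Btab_606) (Btab_607) (Nat.ble 607 c)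
noncomputable def Btab_s_604_608 (c : Nat) : Nat := @Bool.rec (fun _ => Nat) (Btab_s_604_606 c) (Btab_s_606_608 c) (Nat.ble 606 c)
noncomputable def Btab_s_601_608 (c : Nat) : Nat := @Bool.rec (fun _ => Nat) (Btab_s_601_604 c) (Btab_s_604_608 c) (Nat.ble 604 c)
noncomputable def Btab_s_594_608 (c : Nat) : Nat := @Bool.rec (fun _ => Nat) (Btab_s_594_601 c) (Btab_s_601_608 c) (Nat.ble 601 c)
noncomputable def Btab_s_609_611 (c : Nat) : Nat := @Bool.rec (fun _ => Nat) (Btab_609) (Btab_610) (Nat.ble 610 c)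
noncomputable def Btab_s_608_611 (c : Nat) : Nat := @Bool.rec (fun _ => Nat) (Btab_608) (Btab_s_609_611 c) (Nat.ble 609 c)
noncomputable def Btab_s_611_613 (c : Nat) : Nat := @Bool.rec (fun _ => Nat) (Btab_611) (Btab_612) (Nat.ble 612 c)
noncomputable def Btab_s_613_615 (c : Nat) : Nat := @Bool.rec (fun _ => Nat) (Btab_613) (Btab_614) (Nat.ble 614 c)
noncomputable def Btab_s_611_615 (c : Nat) : Nat := @Bool.rec (fun _ => Nat) (Btab_s_611_613 c) (Btab_s_613_615 c) (Nat.ble 613 c)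
noncomputable def Btab_s_608_615 (c : Nat) : Nat := @Bool.rec (fun _ => Nat) (Btab_s_608_611 c) (Btab_s_611_615 c) (Nat.ble 611 c)
noncomputable def Btab_s_615_617 (c : Nat) : Nat := @Bool.rec (fun _ => Nat) (Btab_615) (Btab_616) (Nat.ble 616 c)
noncomputable def Btab_s_617_619 (c : Nat) : Nat := @Bool.rec (fun _ => Nat) (Btab_617) (Btab_618) (Nat.ble 618 c)
noncomputable def Btab_s_615_619 (c : Nat) : Nat := @Bool.rec (fun _ => Nat) (Btab_s_615_617 c) (Btab_s_617_619 c) (Nat.ble 617 c)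
noncomputable def Btab_s_619_621 (c : Nat) : Nat := @Bool.rec (fun _ => Nat) (Btab_619) (Btab_620) (Nat.ble 620 c)
noncomputable def Btab_s_621_623 (c : Nat) : Nat := @Bool.rec (fun _ => Nat) (Btab_621) (Btab_622) (Nat.ble 622 c)
noncomputable def Btab_s_619_623 (c : Nat) : Nat := @Bool.rec (fun _ => Nat) (Btab_s_619_621 c) (Btab_s_621_623 c) (Nat.ble 621 c)
noncomputable def Btab_s_615_623 (c : Nat) : Nat := @Bool.rec (fun _ => Nat) (Btab_s_615_619 c) (Btab_s_619_623 c) (Nat.ble 619 c)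
noncomputable def Btab_s_608_623 (c : Nat) : Nat := @Bool.rec (fun _ => Nat) (Btab_s_608_615 c) (Btab_s_615_623 c) (Nat.ble 615 c)
noncomputable def Btab_s_594_623 (c : Nat) : Nat := @Bool.rec (fun _ => Nat) (Btab_s_594_608 c) (Btab_s_608_623 c) (Nat.ble 608 c)
noncomputable def Btab_s_566_623 (c : Nat) : Nat := @Bool.rec (fun _ => Nat) (Btab_s_566_594 c) (Btab_s_594_623 c) (Nat.ble 594 c)
noncomputable def Btab_s_624_626 (c : Nat) : Nat := @Bool.rec (fun _ => Nat) (Btab_624) (Btab_625) (Nat.ble 625 c)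
noncomputable def Btab_s_623_626 (c : Nat) : Nat := @Bool.rec (fun _ => Nat) (Btab_623) (Btab_s_624_626 c) (Nat.ble 624 c)
noncomputable def Btab_s_626_628 (c : Nat) : Nat := @Bool.rec (fun _ => Nat) (Btab_626) (Btab_627) (Nat.ble 627 c)
noncomputable def Btab_s_628_630 (c : Nat) : Nat := @Bool.rec (fun _ => Nat) (Btab_628) (Btab_629) (Nat.ble 629 c)
noncomputable def Btab_s_626_630 (c : Nat) : Nat := @Bool.rec (fun _ => Nat) (Btab_s_626_628 c) (Btab_s_628_630 c) (Nat.ble 628 c)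
noncomputable def Btab_s_623_630 (c : Nat) : Nat := @Bool.rec (fun _ => Nat) (Btab_s_623_626 c) (Btab_s_626_630 c) (Nat.ble 626 c)
noncomputable def Btab_s_631_633 (c : Nat) : Nat := @Bool.rec (fun _ => Nat) (Btab_631) (Btab_632) (Nat.ble 632 c)
noncomputable def Btab_s_630_633 (c : Nat) : Nat := @Bool.rec (fun _ => Nat) (Btab_630) (Btab_s_631_633 c) (Nat.ble 631 c)
noncomputable def Btab_s_633_635 (c : Nat) : Nat := @Bool.rec (fun _ => Nat) (Btab_633) (Btab_634) (Nat.ble 634 c)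
noncomputable def Btab_s_635_637 (c : Nat) : Nat := @Bool.rec (fun _ => Nat) (Btab_635) (Btab_636) (Nat.ble 636 c)
noncomputable def Btab_s_633_637 (c : Nat) : Nat := @Bool.rec (fun _ => Nat) (Btab_s_633_635 c) (Btab_s_635_637 c) (Nat.ble 635 c)
noncomputable def Btab_s_630_637 (c : Nat) : Nat := @Bool.rec (fun _ => Nat) (Btab_s_630_633 c) (Btab_s_633_637 c) (Nat.ble 633 c)
noncomputable def Btab_s_623_637 (c : Nat) : Nat := @Bool.rec (fun _ => Nat) (Btab_s_623_630 c) (Btab_s_630_637 c) (Nat.ble 630 c)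
noncomputable def Btab_s_638_640 (c : Nat) : Nat := @Bool.rec (fun _ => Nat) (Btab_638) (Btab_639) (Nat.ble 639 c)
noncomputable def Btab_s_637_640 (c : Nat) : Nat := @Bool.rec (fun _ => Nat) (Btab_637) (Btab_s_638_640 c) (Nat.ble 638 c)
noncomputable def Btab_s_640_642 (c : Nat) : Nat := @Bool.rec (fun _ => Nat) (Btab_640) (Btab_641) (Nat.ble 641 c)
noncomputable def Btab_s_642_644 (c : Nat) : Nat := @Bool.rec (fun _ => Nat) (Btab_642) (Btab_643) (Nat.ble 643 c)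
noncomputable def Btab_s_640_644 (c : Nat) : Nat := @Bool.rec (fun _ => Nat) (Btab_s_640_642 c) (Btab_s_642_644 c) (Nat.ble 642 c)
noncomputable def Btab_s_637_644 (c : Nat) : Nat := @Bool.rec (fun _ => Nat) (Btab_s_637_640 c) (Btab_s_640_644 c) (Nat.ble 640 c)
noncomputable def Btab_s_645_647 (c : Nat) : Nat := @Bool.rec (fun _ => Nat) (Btab_645) (Btab_646) (Nat.ble 646 c)
noncomputable def Btab_s_644_647 (c : Nat) : Nat := @Bool.rec (fun _ => Nat) (Btab_644) (Btab_s_645_647 c) (Nat.ble 645 c)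
noncomputable def Btab_s_647_649 (c : Nat) : Nat := @Bool.rec (fun _ => Nat) (Btab_647) (Btab_648) (Nat.ble 648 c)
noncomputable def Btab_s_649_651 (c : Nat) : Nat := @Bool.rec (fun _ => Nat) (Btab_649) (Btab_650) (Nat.ble 650 c)
noncomputable def Btab_s_647_651 (c : Nat) : Nat := @Bool.rec (fun _ => Nat) (Btab_s_647_649 c) (Btab_s_649_651 c) (Nat.ble 649 c)
noncomputable def Btab_s_644_651 (c : Nat) : Nat := @Bool.rec (fun _ => Nat) (Btab_s_644_647 c) (Btab_s_647_651 c) (Nat.ble 647 c)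
noncomputable def Btab_s_637_651 (c : Nat) : Nat := @Bool.rec (fun _ => Nat) (Btab_s_637_644 c) (Btab_s_644_651 c) (Nat.ble 644 c)
noncomputable def Btab_s_623_651 (c : Nat) : Nat := @Bool.rec (fun _ => Nat) (Btab_s_623_637 c) (Btab_s_637_651 c) (Nat.ble 637 c)
noncomputable def Btab_s_652_654 (c : Nat) : Nat := @Bool.rec (fun _ => Nat) (Btab_652) (Btab_653) (Nat.ble 653 c)
noncomputable def Btab_s_651_654 (c : Nat) : Nat := @Bool.rec (fun _ => Nat) (Btab_651) (Btab_s_652_654 c) (Nat.ble 652 c)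
noncomputable def Btab_s_654_656 (c : Nat) : Nat := @Bool.rec (fun _ => Nat) (Btab_654) (Btab_655) (Nat.ble 655 c)
noncomputable def Btab_s_656_658 (c : Nat) : Nat := @Bool.rec (fun _ => Nat) (Btab_656) (Btab_657) (Nat.ble 657 c)
noncomputable def Btab_s_654_658 (c : Nat) : Nat := @Bool.rec (fun _ => Nat) (Btab_s_654_656 c) (Btab_s_656_658 c) (Nat.ble 656 c)
noncomputable def Btab_s_651_658 (c : Nat) : Nat := @Bool.rec (fun _ => Nat) (Btab_s_651_654 c) (Btab_s_654_658 c) (Nat.ble 654 c)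
noncomputable def Btab_s_659_661 (c : Nat) : Nat := @Bool.rec (fun _ => Nat) (Btab_659) (Btab_660) (Nat.ble 660 c)
noncomputable def Btab_s_658_661 (c : Nat) : Nat := @Bool.rec (fun _ => Nat) (Btab_658) (Btab_s_659_661 c) (Nat.ble 659 c)
noncomputable def Btab_s_661_663 (c : Nat) : Nat := @Bool.rec (fun _ => Nat) (Btab_661) (Btab_662) (Nat.ble 662 c)
noncomputable def Btab_s_663_665 (c : Nat) : Nat := @Bool.rec (fun _ => Nat) (Btab_663) (Btab_664) (Nat.ble 664 c)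
noncomputable def Btab_s_661_665 (c : Nat) : Nat := @Bool.rec (fun _ => Nat) (Btab_s_661_663 c) (Btab_s_663_665 c) (Nat.ble 663 c)
noncomputable def Btab_s_658_665 (c : Nat) : Nat := @Bool.rec (fun _ => Nat) (Btab_s_658_661 c) (Btab_s_661_665 c) (Nat.ble 661 c)
noncomputable def Btab_s_651_665 (c : Nat) : Nat := @Bool.rec (fun _ => Nat) (Btab_s_651_658 c) (Btab_s_658_665 c) (Nat.ble 658 c)
noncomputable def Btab_s_666_668 (c : Nat) : Nat := @Bool.rec (fun _ => Nat) (Btab_666) (Btab_667) (Nat.ble 667 c)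
noncomputable def Btab_s_665_668 (c : Nat) : Nat := @Bool.rec (fun _ => Nat) (Btab_665) (Btab_s_666_668 c) (Nat.ble 666 c)
noncomputable def Btab_s_668_670 (c : Nat) : Nat := @Bool.rec (fun _ => Nat) (Btab_668) (Btab_669) (Nat.ble 669 c)
noncomputable def Btab_s_670_672 (c : Nat) : Nat := @Bool.rec (fun _ => Nat) (Btab_670) (Btab_671) (Nat.ble 671 c)
noncomputable def Btab_s_668_672 (c : Nat) : Nat := @Bool.rec (fun _ => Nat) (Btab_s_668_670 c) (Btab_s_670_672 c) (Nat.ble 670 c)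
noncomputable def Btab_s_665_672 (c : Nat) : Nat := @Bool.rec (fun _ => Nat) (Btab_s_665_668 c) (Btab_s_668_672 c) (Nat.ble 668 c)
noncomputable def Btab_s_672_674 (c : Nat) : Nat := @Bool.rec (fun _ => Nat) (Btab_672) (Btab_673) (Nat.ble 673 c)
noncomputable def Btab_s_674_676 (c : Nat) : Nat := @Bool.rec (fun _ => Nat) (Btab_674) (Btab_675) (Nat.ble 675 c)
noncomputable def Btab_s_672_676 (c : Nat) : Nat := @Bool.rec (fun _ => Nat) (Btab_s_672_674 c) (Btab_s_674_676 c) (Nat.ble 674 c)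
noncomputable def Btab_s_676_678 (c : Nat) : Nat := @Bool.rec (fun _ => Nat) (Btab_676) (Btab_677) (Nat.ble 677 c)
noncomputable def Btab_s_678_680 (c : Nat) : Nat := @Bool.rec (fun _ => Nat) (Btab_678) (Btab_679) (Nat.ble 679 c)
noncomputable def Btab_s_676_680 (c : Nat) : Nat := @Bool.rec (fun _ => Nat) (Btab_s_676_678 c) (Btab_s_678_680 c) (Nat.ble 678 c)
noncomputable def Btab_s_672_680 (c : Nat) : Nat := @Bool.rec (fun _ => Nat) (Btab_s_672_676 c) (Btab_s_676_680 c) (Nat.ble 676 c)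
noncomputable def Btab_s_665_680 (c : Nat) : Nat := @Bool.rec (fun _ => Nat) (Btab_s_665_672 c) (Btab_s_672_680 c) (Nat.ble 672 c)
noncomputable def Btab_s_651_680 (c : Nat) : Nat := @Bool.rec (fun _ => Nat) (Btab_s_651_665 c) (Btab_s_665_680 c) (Nat.ble 665 c)
noncomputable def Btab_s_623_680 (c : Nat) : Nat := @Bool.rec (fun _ => Nat) (Btab_s_623_651 c) (Btab_s_651_680 c) (Nat.ble 651 c)
noncomputable def Btab_s_566_680 (c : Nat) : Nat := @Bool.rec (fun _ => Nat) (Btab_s_566_623 c) (Btab_s_623_680 c) (Nat.ble 623 c)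
noncomputable def Btab_s_453_680 (c : Nat) : Nat := @Bool.rec (fun _ => Nat) (Btab_s_453_566 c) (Btab_s_566_680 c) (Nat.ble 566 c)
noncomputable def Btab_s_681_683 (c : Nat) : Nat := @Bool.rec (fun _ => Nat) (Btab_681) (Btab_682) (Nat.ble 682 c)
noncomputable def Btab_s_680_683 (c : Nat) : Nat := @Bool.rec (fun _ => Nat) (Btab_680) (Btab_s_681_683 c) (Nat.ble 681 c)
noncomputable def Btab_s_683_685 (c : Nat) : Nat := @Bool.rec (fun _ => Nat) (Btab_683) (Btab_684) (Nat.ble 684 c)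
noncomputable def Btab_s_685_687 (c : Nat) : Nat := @Bool.rec (fun _ => Nat) (Btab_685) (Btab_686) (Nat.ble 686 c)
noncomputable def Btab_s_683_687 (c : Nat) : Nat := @Bool.rec (fun _ => Nat) (Btab_s_683_685 c) (Btab_s_685_687 c) (Nat.ble 685 c)
noncomputable def Btab_s_680_687 (c : Nat) : Nat := @Bool.rec (fun _ => Nat) (Btab_s_680_683 c) (Btab_s_683_687 c) (Nat.ble 683 c)
noncomputable def Btab_s_688_690 (c : Nat) : Nat := @Bool.rec (fun _ => Nat) (Btab_688) (Btab_689) (Nat.ble 689 c)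
noncomputable def Btab_s_687_690 (c : Nat) : Nat := @Bool.rec (fun _ => Nat) (Btab_687) (Btab_s_688_690 c) (Nat.ble 688 c)
noncomputable def Btab_s_690_692 (c : Nat) : Nat := @Bool.rec (fun _ => Nat) (Btab_690) (Btab_691) (Nat.ble 691 c)
noncomputable def Btab_s_692_694 (c : Nat) : Nat := @Bool.rec (fun _ => Nat) (Btab_692) (Btab_693) (Nat.ble 693 c)
noncomputable def Btab_s_690_694 (c : Nat) : Nat := @Bool.rec (fun _ => Nat) (Btab_s_690_692 c) (Btab_s_692_694 c) (Nat.ble 692 c)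
noncomputable def Btab_s_687_694 (c : Nat) : Nat := @Bool.rec (fun _ => Nat) (Btab_s_687_690 c) (Btab_s_690_694 c) (Nat.ble 690 c)
noncomputable def Btab_s_680_694 (c : Nat) : Nat := @Bool.rec (fun _ => Nat) (Btab_s_680_687 c) (Btab_s_687_694 c) (Nat.ble 687 c)
noncomputable def Btab_s_695_697 (c : Nat) : Nat := @Bool.rec (fun _ => Nat) (Btab_695) (Btab_696) (Nat.ble 696 c)
noncomputable def Btab_s_694_697 (c : Nat) : Nat := @Bool.rec (fun _ => Nat) (Btab_694) (Btab_s_695_697 c) (Nat.ble 695 c)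
noncomputable def Btab_s_697_699 (c : Nat) : Nat := @Bool.rec (fun _ => Nat) (Btab_697) (Btab_698) (Nat.ble 698 c)
noncomputable def Btab_s_699_701 (c : Nat) : Nat := @Bool.rec (fun _ => Nat) (Btab_699) (Btab_700) (Nat.ble 700 c)
noncomputable def Btab_s_697_701 (c : Nat) : Nat := @Bool.rec (fun _ => Nat) (Btab_s_697_699 c) (Btab_s_699_701 c) (Nat.ble 699 c)
noncomputable def Btab_s_694_701 (c : Nat) : Nat := @Bool.rec (fun _ => Nat) (Btab_s_694_697 c) (Btab_s_697_701 c) (Nat.ble 697 c)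
noncomputable def Btab_s_702_704 (c : Nat) : Nat := @Bool.rec (fun _ => Nat) (Btab_702) (Btab_703) (Nat.ble 703 c)
noncomputable def Btab_s_701_704 (c : Nat) : Nat := @Bool.rec (fun _ => Nat) (Btab_701) (Btab_s_702_704 c) (Nat.ble 702 c)
noncomputable def Btab_s_704_706 (c : Nat) : Nat := @Bool.rec (fun _ => Nat) (Btab_704) (Btab_705) (Nat.ble 705 c)
noncomputable def Btab_s_706_708 (c : Nat) : Nat := @Bool.rec (fun _ => Nat) (Btab_706) (Btab_707) (Nat.ble 707 c)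
noncomputable def Btab_s_704_708 (c : Nat) : Nat := @Bool.rec (fun _ => Nat) (Btab_s_704_706 c) (Btab_s_706_708 c) (Nat.ble 706 c)
noncomputable def Btab_s_701_708 (c : Nat) : Nat := @Bool.rec (fun _ => Nat) (Btab_s_701_704 c) (Btab_s_704_708 c) (Nat.ble 704 c)
noncomputable def Btab_s_694_708 (c : Nat) : Nat := @Bool.rec (fun _ => Nat) (Btab_s_694_701 c) (Btab_s_701_708 c) (Nat.ble 701 c)
noncomputable def Btab_s_680_708 (c : Nat) : Nat := @Bool.rec (fun _ => Nat) (Btab_s_680_694 c) (Btab_s_694_708 c) (Nat.ble 694 c)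
noncomputable def Btab_s_709_711 (c : Nat) : Nat := @Bool.rec (fun _ => Nat) (Btab_709) (Btab_710) (Nat.ble 710 c)
noncomputable def Btab_s_708_711 (c : Nat) : Nat := @Bool.rec (fun _ => Nat) (Btab_708) (Btab_s_709_711 c) (Nat.ble 709 c)
noncomputable def Btab_s_711_713 (c : Nat) : Nat := @Bool.rec (fun _ => Nat) (Btab_711) (Btab_712) (Nat.ble 712 c)
noncomputable def Btab_s_713_715 (c : Nat) : Nat := @Bool.rec (fun _ => Nat) (Btab_713) (Btab_714) (Nat.ble 714 c)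
noncomputable def Btab_s_711_715 (c : Nat) : Nat := @Bool.rec (fun _ => Nat) (Btab_s_711_713 c) (Btab_s_713_715 c) (Nat.ble 713 c)
noncomputable def Btab_s_708_715 (c : Nat) : Nat := @Bool.rec (fun _ => Nat) (Btab_s_708_711 c) (Btab_s_711_715 c) (Nat.ble 711 c)
noncomputable def Btab_s_716_718 (c : Nat) : Nat := @Bool.rec (fun _ => Nat) (Btab_716) (Btab_717) (Nat.ble 717 c)
noncomputable def Btab_s_715_718 (c : Nat) : Nat := @Bool.rec (fun _ => Nat) (Btab_715) (Btab_s_716_718 c) (Nat.ble 716 c)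
noncomputable def Btab_s_718_720 (c : Nat) : Nat := @Bool.rec (fun _ => Nat) (Btab_718) (Btab_719) (Nat.ble 719 c)
noncomputable def Btab_s_720_722 (c : Nat) : Nat := @Bool.rec (fun _ => Nat) (Btab_720) (Btab_721) (Nat.ble 721 c)
noncomputable def Btab_s_718_722 (c : Nat) : Nat := @Bool.rec (fun _ => Nat) (Btab_s_718_720 c) (Btab_s_720_722 c) (Nat.ble 720 c)
noncomputable def Btab_s_715_722 (c : Nat) : Nat := @Bool.rec (fun _ => Nat) (Btab_s_715_718 c) (Btab_s_718_722 c) (Nat.ble 718 c)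
noncomputable def Btab_s_708_722 (c : Nat) : Nat := @Bool.rec (fun _ => Nat) (Btab_s_708_715 c) (Btab_s_715_722 c) (Nat.ble 715 c)
noncomputable def Btab_s_723_725 (c : Nat) : Nat := @Bool.rec (fun _ => Nat) (Btab_723) (Btab_724) (Nat.ble 724 c)
noncomputable def Btab_s_722_725 (c : Nat) : Nat := @Bool.rec (fun _ => Nat) (Btab_722) (Btab_s_723_725 c) (Nat.ble 723 c)
noncomputable def Btab_s_725_727 (c : Nat) : Nat := @Bool.rec (fun _ => Nat) (Btab_725) (Btab_726) (Nat.ble 726 c)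
noncomputable def Btab_s_727_729 (c : Nat) : Nat := @Bool.rec (fun _ => Nat) (Btab_727) (Btab_728) (Nat.ble 728 c)
noncomputable def Btab_s_725_729 (c : Nat) : Nat := @Bool.rec (fun _ => Nat) (Btab_s_725_727 c) (Btab_s_727_729 c) (Nat.ble 727 c)
noncomputable def Btab_s_722_729 (c : Nat) : Nat := @Bool.rec (fun _ => Nat) (Btab_s_722_725 c) (Btab_s_725_729 c) (Nat.ble 725 c)
noncomputable def Btab_s_730_732 (c : Nat) : Nat := @Bool.rec (fun _ => Nat) (Btab_730) (Btab_731) (Nat.ble 731 c)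
noncomputable def Btab_s_729_732 (c : Nat) : Nat := @Bool.rec (fun _ => Nat) (Btab_729) (Btab_s_730_732 c) (Nat.ble 730 c)
noncomputable def Btab_s_732_734 (c : Nat) : Nat := @Bool.rec (fun _ => Nat) (Btab_732) (Btab_733) (Nat.ble 733 c)
noncomputable def Btab_s_734_736 (c : Nat) : Nat := @Bool.rec (fun _ => Nat) (Btab_734) (Btab_735) (Nat.ble 735 c)
noncomputable def Btab_s_732_736 (c : Nat) : Nat := @Bool.rec (fun _ => Nat) (Btab_s_732_734 c) (Btab_s_734_736 c) (Nat.ble 734 c)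
noncomputable def Btab_s_729_736 (c : Nat) : Nat := @Bool.rec (fun _ => Nat) (Btab_s_729_732 c) (Btab_s_732_736 c) (Nat.ble 732 c)
noncomputable def Btab_s_722_736 (c : Nat) : Nat := @Bool.rec (fun _ => Nat) (Btab_s_722_729 c) (Btab_s_729_736 c) (Nat.ble 729 c)
noncomputable def Btab_s_708_736 (c : Nat) : Nat := @Bool.rec (fun _ => Nat) (Btab_s_708_722 c) (Btab_s_722_736 c) (Nat.ble 722 c)
noncomputable def Btab_s_680_736 (c : Nat) : Nat := @Bool.rec (fun _ => Nat) (Btab_s_680_708 c) (Btab_s_708_736 c) (Nat.ble 708 c)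
noncomputable def Btab_s_737_739 (c : Nat) : Nat := @Bool.rec (fun _ => Nat) (Btab_737) (Btab_738) (Nat.ble 738 c)
noncomputable def Btab_s_736_739 (c : Nat) : Nat := @Bool.rec (fun _ => Nat) (Btab_736) (Btab_s_737_739 c) (Nat.ble 737 c)
noncomputable def Btab_s_739_741 (c : Nat) : Nat := @Bool.rec (fun _ => Nat) (Btab_739) (Btab_740) (Nat.ble 740 c)
noncomputable def Btab_s_741_743 (c : Nat) : Nat := @Bool.rec (fun _ => Nat) (Btab_741) (Btab_742) (Nat.ble 742 c)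
noncomputable def Btab_s_739_743 (c : Nat) : Nat := @Bool.rec (fun _ => Nat) (Btab_s_739_741 c) (Btab_s_741_743 c) (Nat.ble 741 c)
noncomputable def Btab_s_736_743 (c : Nat) : Nat := @Bool.rec (fun _ => Nat) (Btab_s_736_739 c) (Btab_s_739_743 c) (Nat.ble 739 c)
noncomputable def Btab_s_744_746 (c : Nat) : Nat := @Bool.rec (fun _ => Nat) (Btab_744) (Btab_745) (Nat.ble 745 c)
noncomputable def Btab_s_743_746 (c : Nat) : Nat := @Bool.rec (fun _ => Nat) (Btab_743) (Btab_s_744_746 c) (Nat.ble 744 c)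
noncomputable def Btab_s_746_748 (c : Nat) : Nat := @Bool.rec (fun _ => Nat) (Btab_746) (Btab_747) (Nat.ble 747 c)
noncomputable def Btab_s_748_750 (c : Nat) : Nat := @Bool.rec (fun _ => Nat) (Btab_748) (Btab_749) (Nat.ble 749 c)
noncomputable def Btab_s_746_750 (c : Nat) : Nat := @Bool.rec (fun _ => Nat) (Btab_s_746_748 c) (Btab_s_748_750 c) (Nat.ble 748 c)
noncomputable def Btab_s_743_750 (c : Nat) : Nat := @Bool.rec (fun _ => Nat) (Btab_s_743_746 c) (Btab_s_746_750 c) (Nat.ble 746 c)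
noncomputable def Btab_s_736_750 (c : Nat) : Nat := @Bool.rec (fun _ => Nat) (Btab_s_736_743 c) (Btab_s_743_750 c) (Nat.ble 743 c)
noncomputable def Btab_s_751_753 (c : Nat) : Nat := @Bool.rec (fun _ => Nat) (Btab_751) (Btab_752) (Nat.ble 752 c)
noncomputable def Btab_s_750_753 (c : Nat) : Nat := @Bool.rec (fun _ => Nat) (Btab_750) (Btab_s_751_753 c) (Nat.ble 751 c)
noncomputable def Btab_s_753_755 (c : Nat) : Nat := @Bool.rec (fun _ => Nat) (Btab_753) (Btab_754) (Nat.ble 754 c)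
noncomputable def Btab_s_755_757 (c : Nat) : Nat := @Bool.rec (fun _ => Nat) (Btab_755) (Btab_756) (Nat.ble 756 c)
noncomputable def Btab_s_753_757 (c : Nat) : Nat := @Bool.rec (fun _ => Nat) (Btab_s_753_755 c) (Btab_s_755_757 c) (Nat.ble 755 c)
noncomputable def Btab_s_750_757 (c : Nat) : Nat := @Bool.rec (fun _ => Nat) (Btab_s_750_753 c) (Btab_s_753_757 c) (Nat.ble 753 c)
noncomputable def Btab_s_758_760 (c : Nat) : Nat := @Bool.rec (fun _ => Nat) (Btab_758) (Btab_759) (Nat.ble 759 c)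
noncomputable def Btab_s_757_760 (c : Nat) : Nat := @Bool.rec (fun _ => Nat) (Btab_757) (Btab_s_758_760 c) (Nat.ble 758 c)
noncomputable def Btab_s_760_762 (c : Nat) : Nat := @Bool.rec (fun _ => Nat) (Btab_760) (Btab_761) (Nat.ble 761 c)
noncomputable def Btab_s_762_764 (c : Nat) : Nat := @Bool.rec (fun _ => Nat) (Btab_762) (Btab_763) (Nat.ble 763 c)
noncomputable def Btab_s_760_764 (c : Nat) : Nat := @Bool.rec (fun _ => Nat) (Btab_s_760_762 c) (Btab_s_762_764 c) (Nat.ble 762 c)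
noncomputable def Btab_s_757_764 (c : Nat) : Nat := @Bool.rec (fun _ => Nat) (Btab_s_757_760 c) (Btab_s_760_764 c) (Nat.ble 760 c)
noncomputable def Btab_s_750_764 (c : Nat) : Nat := @Bool.rec (fun _ => Nat) (Btab_s_750_757 c) (Btab_s_757_764 c) (Nat.ble 757 c)
noncomputable def Btab_s_736_764 (c : Nat) : Nat := @Bool.rec (fun _ => Nat) (Btab_s_736_750 c) (Btab_s_750_764 c) (Nat.ble 750 c)
noncomputable def Btab_s_765_767 (c : Nat) : Nat := @Bool.rec (fun _ => Nat) (Btab_765) (Btab_766) (Nat.ble 766 c)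
noncomputable def Btab_s_764_767 (c : Nat) : Nat := @Bool.rec (fun _ => Nat) (Btab_764) (Btab_s_765_767 c) (Nat.ble 765 c)
noncomputable def Btab_s_767_769 (c : Nat) : Nat := @Bool.rec (fun _ => Nat) (Btab_767) (Btab_768) (Nat.ble 768 c)
noncomputable def Btab_s_769_771 (c : Nat) : Nat := @Bool.rec (fun _ => Nat) (Btab_769) (Btab_770) (Nat.ble 770 c)
noncomputable def Btab_s_767_771 (c : Nat) : Nat := @Bool.rec (fun _ => Nat) (Btab_s_767_769 c) (Btab_s_769_771 c) (Nat.ble 769 c)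
noncomputable def Btab_s_764_771 (c : Nat) : Nat := @Bool.rec (fun _ => Nat) (Btab_s_764_767 c) (Btab_s_767_771 c) (Nat.ble 767 c)
noncomputable def Btab_s_772_774 (c : Nat) : Nat := @Bool.rec (fun _ => Nat) (Btab_772) (Btab_773) (Nat.ble 773 c)
noncomputable def Btab_s_771_774 (c : Nat) : Nat := @Bool.rec (fun _ => Nat) (Btab_771) (Btab_s_772_774 c) (Nat.ble 772 c)
noncomputable def Btab_s_774_776 (c : Nat) : Nat := @Bool.rec (fun _ => Nat) (Btab_774) (Btab_775) (Nat.ble 775 c)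
noncomputable def Btab_s_776_778 (c : Nat) : Nat := @Bool.rec (fun _ => Nat) (Btab_776) (Btab_777) (Nat.ble 777 c)
noncomputable def Btab_s_774_778 (c : Nat) : Nat := @Bool.rec (fun _ => Nat) (Btab_s_774_776 c) (Btab_s_776_778 c) (Nat.ble 776 c)
noncomputable def Btab_s_771_778 (c : Nat) : Nat := @Bool.rec (fun _ => Nat) (Btab_s_771_774 c) (Btab_s_774_778 c) (Nat.ble 774 c)
noncomputable def Btab_s_764_778 (c : Nat) : Nat := @Bool.rec (fun _ => Nat) (Btab_s_764_771 c) (Btab_s_771_778 c) (Nat.ble 771 c)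
noncomputable def Btab_s_779_781 (c : Nat) : Nat := @Bool.rec (fun _ => Nat) (Btab_779) (Btab_780) (Nat.ble 780 c)
noncomputable def Btab_s_778_781 (c : Nat) : Nat := @Bool.rec (fun _ => Nat) (Btab_778) (Btab_s_779_781 c) (Nat.ble 779 c)
noncomputable def Btab_s_781_783 (c : Nat) : Nat := @Bool.rec (fun _ => Nat) (Btab_781) (Btab_782) (Nat.ble 782 c)
noncomputable def Btab_s_783_785 (c : Nat) : Nat := @Bool.rec (fun _ => Nat) (Btab_783) (Btab_784) (Nat.ble 784 c)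
noncomputable def Btab_s_781_785 (c : Nat) : Nat := @Bool.rec (fun _ => Nat) (Btab_s_781_783 c) (Btab_s_783_785 c) (Nat.ble 783 c)
noncomputable def Btab_s_778_785 (c : Nat) : Nat := @Bool.rec (fun _ => Nat) (Btab_s_778_781 c) (Btab_s_781_785 c) (Nat.ble 781 c)
noncomputable def Btab_s_785_787 (c : Nat) : Nat := @Bool.rec (fun _ => Nat) (Btab_785) (Btab_786) (Nat.ble 786 c)
noncomputable def Btab_s_787_789 (c : Nat) : Nat := @Bool.rec (fun _ => Nat) (Btab_787) (Btab_788) (Nat.ble 788 c)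
noncomputable def Btab_s_785_789 (c : Nat) : Nat := @Bool.rec (fun _ => Nat) (Btab_s_785_787 c) (Btab_s_787_789 c) (Nat.ble 787 c)
noncomputable def Btab_s_789_791 (c : Nat) : Nat := @Bool.rec (fun _ => Nat) (Btab_789) (Btab_790) (Nat.ble 790 c)
noncomputable def Btab_s_791_793 (c : Nat) : Nat := @Bool.rec (fun _ => Nat) (Btab_791) (Btab_792) (Nat.ble 792 c)
noncomputable def Btab_s_789_793 (c : Nat) : Nat := @Bool.rec (fun _ => Nat) (Btab_s_789_791 c) (Btab_s_791_793 c) (Nat.ble 791 c)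
noncomputable def Btab_s_785_793 (c : Nat) : Nat := @Bool.rec (fun _ => Nat) (Btab_s_785_789 c) (Btab_s_789_793 c) (Nat.ble 789 c)
noncomputable def Btab_s_778_793 (c : Nat) : Nat := @Bool.rec (fun _ => Nat) (Btab_s_778_785 c) (Btab_s_785_793 c) (Nat.ble 785 c)
noncomputable def Btab_s_764_793 (c : Nat) : Nat := @Bool.rec (fun _ => Nat) (Btab_s_764_778 c) (Btab_s_778_793 c) (Nat.ble 778 c)
noncomputable def Btab_s_736_793 (c : Nat) : Nat := @Bool.rec (fun _ => Nat) (Btab_s_736_764 c) (Btab_s_764_793 c) (Nat.ble 764 c)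
noncomputable def Btab_s_680_793 (c : Nat) : Nat := @Bool.rec (fun _ => Nat) (Btab_s_680_736 c) (Btab_s_736_793 c) (Nat.ble 736 c)
noncomputable def Btab_s_794_796 (c : Nat) : Nat := @Bool.rec (fun _ => Nat) (Btab_794) (Btab_795) (Nat.ble 795 c)
noncomputable def Btab_s_793_796 (c : Nat) : Nat := @Bool.rec (fun _ => Nat) (Btab_793) (Btab_s_794_796 c) (Nat.ble 794 c)
noncomputable def Btab_s_796_798 (c : Nat) : Nat := @Bool.rec (fun _ => Nat) (Btab_796) (Btab_797) (Nat.ble 797 c)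
noncomputable def Btab_s_798_800 (c : Nat) : Nat := @Bool.rec (fun _ => Nat) (Btab_798) (Btab_799) (Nat.ble 799 c)
noncomputable def Btab_s_796_800 (c : Nat) : Nat := @Bool.rec (fun _ => Nat) (Btab_s_796_798 c) (Btab_s_798_800 c) (Nat.ble 798 c)
noncomputable def Btab_s_793_800 (c : Nat) : Nat := @Bool.rec (fun _ => Nat) (Btab_s_793_796 c) (Btab_s_796_800 c) (Nat.ble 796 c)
noncomputable def Btab_s_801_803 (c : Nat) : Nat := @Bool.rec (fun _ => Nat) (Btab_801) (Btab_802) (Nat.ble 802 c)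
noncomputable def Btab_s_800_803 (c : Nat) : Nat := @Bool.rec (fun _ => Nat) (Btab_800) (Btab_s_801_803 c) (Nat.ble 801 c)
noncomputable def Btab_s_803_805 (c : Nat) : Nat := @Bool.rec (fun _ => Nat) (Btab_803) (Btab_804) (Nat.ble 804 c)
noncomputable def Btab_s_805_807 (c : Nat) : Nat := @Bool.rec (fun _ => Nat) (Btab_805) (Btab_806) (Nat.ble 806 c)
noncomputable def Btab_s_803_807 (c : Nat) : Nat := @Bool.rec (fun _ => Nat) (Btab_s_803_805 c) (Btab_s_805_807 c) (Nat.ble 805 c)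
noncomputable def Btab_s_800_807 (c : Nat) : Nat := @Bool.rec (fun _ => Nat) (Btab_s_800_803 c) (Btab_s_803_807 c) (Nat.ble 803 c)
noncomputable def Btab_s_793_807 (c : Nat) : Nat := @Bool.rec (fun _ => Nat) (Btab_s_793_800 c) (Btab_s_800_807 c) (Nat.ble 800 c)
noncomputable def Btab_s_808_810 (c : Nat) : Nat := @Bool.rec (fun _ => Nat) (Btab_808) (Btab_809) (Nat.ble 809 c)
noncomputable def Btab_s_807_810 (c : Nat) : Nat := @Bool.rec (fun _ => Nat) (Btab_807) (Btab_s_808_810 c) (Nat.ble 808 c)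
noncomputable def Btab_s_810_812 (c : Nat) : Nat := @Bool.rec (fun _ => Nat) (Btab_810) (Btab_811) (Nat.ble 811 c)
noncomputable def Btab_s_812_814 (c : Nat) : Nat := @Bool.rec (fun _ => Nat) (Btab_812) (Btab_813) (Nat.ble 813 c)
noncomputable def Btab_s_810_814 (c : Nat) : Nat := @Bool.rec (fun _ => Nat) (Btab_s_810_812 c) (Btab_s_812_814 c) (Nat.ble 812 c)
noncomputable def Btab_s_807_814 (c : Nat) : Nat := @Bool.rec (fun _ => Nat) (Btab_s_807_810 c) (Btab_s_810_814 c) (Nat.ble 810 c)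
noncomputable def Btab_s_815_817 (c : Nat) : Nat := @Bool.rec (fun _ => Nat) (Btab_815) (Btab_816) (Nat.ble 816 c)
noncomputable def Btab_s_814_817 (c : Nat) : Nat := @Bool.rec (fun _ => Nat) (Btab_814) (Btab_s_815_817 c) (Nat.ble 815 c)
noncomputable def Btab_s_817_819 (c : Nat) : Nat := @Bool.rec (fun _ => Nat) (Btab_817) (Btab_818) (Nat.ble 818 c)
noncomputable def Btab_s_819_821 (c : Nat) : Nat := @Bool.rec (fun _ => Nat) (Btab_819) (Btab_820) (Nat.ble 820 c)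
noncomputable def Btab_s_817_821 (c : Nat) : Nat := @Bool.rec (fun _ => Nat) (Btab_s_817_819 c) (Btab_s_819_821 c) (Nat.ble 819 c)
noncomputable def Btab_s_814_821 (c : Nat) : Nat := @Bool.rec (fun _ => Nat) (Btab_s_814_817 c) (Btab_s_817_821 c) (Nat.ble 817 c)
noncomputable def Btab_s_807_821 (c : Nat) : Nat := @Bool.rec (fun _ => Nat) (Btab_s_807_814 c) (Btab_s_814_821 c) (Nat.ble 814 c)
noncomputable def Btab_s_793_821 (c : Nat) : Nat := @Bool.rec (fun _ => Nat) (Btab_s_793_807 c) (Btab_s_807_821 c) (Nat.ble 807 c)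
noncomputable def Btab_s_822_824 (c : Nat) : Nat := @Bool.rec (fun _ => Nat) (Btab_822) (Btab_823) (Nat.ble 823 c)
noncomputable def Btab_s_821_824 (c : Nat) : Nat := @Bool.rec (fun _ => Nat) (Btab_821) (Btab_s_822_824 c) (Nat.ble 822 c)
noncomputable def Btab_s_824_826 (c : Nat) : Nat := @Bool.rec (fun _ => Nat) (Btab_824) (Btab_825) (Nat.ble 825 c)
noncomputable def Btab_s_826_828 (c : Nat) : Nat := @Bool.rec (fun _ => Nat) (Btab_826) (Btab_827) (Nat.ble 827 c)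
noncomputable def Btab_s_824_828 (c : Nat) : Nat := @Bool.rec (fun _ => Nat) (Btab_s_824_826 c) (Btab_s_826_828 c) (Nat.ble 826 c)
noncomputable def Btab_s_821_828 (c : Nat) : Nat := @Bool.rec (fun _ => Nat) (Btab_s_821_824 c) (Btab_s_824_828 c) (Nat.ble 824 c)
noncomputable def Btab_s_829_831 (c : Nat) : Nat := @Bool.rec (fun _ => Nat) (Btab_829) (Btab_830) (Nat.ble 830 c)
noncomputable def Btab_s_828_831 (c : Nat) : Nat := @Bool.rec (fun _ => Nat) (Btab_828) (Btab_s_829_831 c) (Nat.ble 829 c)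
noncomputable def Btab_s_831_833 (c : Nat) : Nat := @Bool.rec (fun _ => Nat) (Btab_831) (Btab_832) (Nat.ble 832 c)
noncomputable def Btab_s_833_835 (c : Nat) : Nat := @Bool.rec (fun _ => Nat) (Btab_833) (Btab_834) (Nat.ble 834 c)
noncomputable def Btab_s_831_835 (c : Nat) : Nat := @Bool.rec (fun _ => Nat) (Btab_s_831_833 c) (Btab_s_833_835 c) (Nat.ble 833 c)
noncomputable def Btab_s_828_835 (c : Nat) : Nat := @Bool.rec (fun _ => Nat) (Btab_s_828_831 c) (Btab_s_831_835 c) (Nat.ble 831 c)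
noncomputable def Btab_s_821_835 (c : Nat) : Nat := @Bool.rec (fun _ => Nat) (Btab_s_821_828 c) (Btab_s_828_835 c) (Nat.ble 828 c)
noncomputable def Btab_s_836_838 (c : Nat) : Nat := @Bool.rec (fun _ => Nat) (Btab_836) (Btab_837) (Nat.ble 837 c)
noncomputable def Btab_s_835_838 (c : Nat) : Nat := @Bool.rec (fun _ => Nat) (Btab_835) (Btab_s_836_838 c) (Nat.ble 836 c)
noncomputable def Btab_s_838_840 (c : Nat) : Nat := @Bool.rec (fun _ => Nat) (Btab_838) (Btab_839) (Nat.ble 839 c)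
noncomputable def Btab_s_840_842 (c : Nat) : Nat := @Bool.rec (fun _ => Nat) (Btab_840) (Btab_841) (Nat.ble 841 c)
noncomputable def Btab_s_838_842 (c : Nat) : Nat := @Bool.rec (fun _ => Nat) (Btab_s_838_840 c) (Btab_s_840_842 c) (Nat.ble 840 c)
noncomputable def Btab_s_835_842 (c : Nat) : Nat := @Bool.rec (fun _ => Nat) (Btab_s_835_838 c) (Btab_s_838_842 c) (Nat.ble 838 c)
noncomputable def Btab_s_842_844 (c : Nat) : Nat := @Bool.rec (fun _ => Nat) (Btab_842) (Btab_843) (Nat.ble 843 c)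
noncomputable def Btab_s_844_846 (c : Nat) : Nat := @Bool.rec (fun _ => Nat) (Btab_844) (Btab_845) (Nat.ble 845 c)
noncomputable def Btab_s_842_846 (c : Nat) : Nat := @Bool.rec (fun _ => Nat) (Btab_s_842_844 c) (Btab_s_844_846 c) (Nat.ble 844 c)
noncomputable def Btab_s_846_848 (c : Nat) : Nat := @Bool.rec (fun _ => Nat) (Btab_846) (Btab_847) (Nat.ble 847 c)
noncomputable def Btab_s_848_850 (c : Nat) : Nat := @Bool.rec (fun _ => Nat) (Btab_848) (Btab_849) (Nat.ble 849 c)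
noncomputable def Btab_s_846_850 (c : Nat) : Nat := @Bool.rec (fun _ => Nat) (Btab_s_846_848 c) (Btab_s_848_850 c) (Nat.ble 848 c)
noncomputable def Btab_s_842_850 (c : Nat) : Nat := @Bool.rec (fun _ => Nat) (Btab_s_842_846 c) (Btab_s_846_850 c) (Nat.ble 846 c)
noncomputable def Btab_s_835_850 (c : Nat) : Nat := @Bool.rec (fun _ => Nat) (Btab_s_835_842 c) (Btab_s_842_850 c) (Nat.ble 842 c)
noncomputable def Btab_s_821_850 (c : Nat) : Nat := @Bool.rec (fun _ => Nat) (Btab_s_821_835 c) (Btab_s_835_850 c) (Nat.ble 835 c)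
noncomputable def Btab_s_793_850 (c : Nat) : Nat := @Bool.rec (fun _ => Nat) (Btab_s_793_821 c) (Btab_s_821_850 c) (Nat.ble 821 c)
noncomputable def Btab_s_851_853 (c : Nat) : Nat := @Bool.rec (fun _ => Nat) (Btab_851) (Btab_852) (Nat.ble 852 c)
noncomputable def Btab_s_850_853 (c : Nat) : Nat := @Bool.rec (fun _ => Nat) (Btab_850) (Btab_s_851_853 c) (Nat.ble 851 c)
noncomputable def Btab_s_853_855 (c : Nat) : Nat := @Bool.rec (fun _ => Nat) (Btab_853) (Btab_854) (Nat.ble 854 c)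
noncomputable def Btab_s_855_857 (c : Nat) : Nat := @Bool.rec (fun _ => Nat) (Btab_855) (Btab_856) (Nat.ble 856 c)
noncomputable def Btab_s_853_857 (c : Nat) : Nat := @Bool.rec (fun _ => Nat) (Btab_s_853_855 c) (Btab_s_855_857 c) (Nat.ble 855 c)
noncomputable def Btab_s_850_857 (c : Nat) : Nat := @Bool.rec (fun _ => Nat) (Btab_s_850_853 c) (Btab_s_853_857 c) (Nat.ble 853 c)
noncomputable def Btab_s_858_860 (c : Nat) : Nat := @Bool.rec (fun _ => Nat) (Btab_858) (Btab_859) (Nat.ble 859 c)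
noncomputable def Btab_s_857_860 (c : Nat) : Nat := @Bool.rec (fun _ => Nat) (Btab_857) (Btab_s_858_860 c) (Nat.ble 858 c)
noncomputable def Btab_s_860_862 (c : Nat) : Nat := @Bool.rec (fun _ => Nat) (Btab_860) (Btab_861) (Nat.ble 861 c)
noncomputable def Btab_s_862_864 (c : Nat) : Nat := @Bool.rec (fun _ => Nat) (Btab_862) (Btab_863) (Nat.ble 863 c)
noncomputable def Btab_s_860_864 (c : Nat) : Nat := @Bool.rec (fun _ => Nat) (Btab_s_860_862 c) (Btab_s_862_864 c) (Nat.ble 862 c)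
noncomputable def Btab_s_857_864 (c : Nat) : Nat := @Bool.rec (fun _ => Nat) (Btab_s_857_860 c) (Btab_s_860_864 c) (Nat.ble 860 c)
noncomputable def Btab_s_850_864 (c : Nat) : Nat := @Bool.rec (fun _ => Nat) (Btab_s_850_857 c) (Btab_s_857_864 c) (Nat.ble 857 c)
noncomputable def Btab_s_865_867 (c : Nat) : Nat := @Bool.rec (fun _ => Nat) (Btab_865) (Btab_866) (Nat.ble 866 c)
noncomputable def Btab_s_864_867 (c : Nat) : Nat := @Bool.rec (fun _ => Nat) (Btab_864) (Btab_s_865_867 c) (Nat.ble 865 c)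
noncomputable def Btab_s_867_869 (c : Nat) : Nat := @Bool.rec (fun _ => Nat) (Btab_867) (Btab_868) (Nat.ble 868 c)
noncomputable def Btab_s_869_871 (c : Nat) : Nat := @Bool.rec (fun _ => Nat) (Btab_869) (Btab_870) (Nat.ble 870 c)
noncomputable def Btab_s_867_871 (c : Nat) : Nat := @Bool.rec (fun _ => Nat) (Btab_s_867_869 c) (Btab_s_869_871 c) (Nat.ble 869 c)
noncomputable def Btab_s_864_871 (c : Nat) : Nat := @Bool.rec (fun _ => Nat) (Btab_s_864_867 c) (Btab_s_867_871 c) (Nat.ble 867 c)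
noncomputable def Btab_s_872_874 (c : Nat) : Nat := @Bool.rec (fun _ => Nat) (Btab_872) (Btab_873) (Nat.ble 873 c)
noncomputable def Btab_s_871_874 (c : Nat) : Nat := @Bool.rec (fun _ => Nat) (Btab_871) (Btab_s_872_874 c) (Nat.ble 872 c)
noncomputable def Btab_s_874_876 (c : Nat) : Nat := @Bool.rec (fun _ => Nat) (Btab_874) (Btab_875) (Nat.ble 875 c)
noncomputable def Btab_s_876_878 (c : Nat) : Nat := @Bool.rec (fun _ => Nat) (Btab_876) (Btab_877) (Nat.ble 877 c)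
noncomputable def Btab_s_874_878 (c : Nat) : Nat := @Bool.rec (fun _ => Nat) (Btab_s_874_876 c) (Btab_s_876_878 c) (Nat.ble 876 c)
noncomputable def Btab_s_871_878 (c : Nat) : Nat := @Bool.rec (fun _ => Nat) (Btab_s_871_874 c) (Btab_s_874_878 c) (Nat.ble 874 c)
noncomputable def Btab_s_864_878 (c : Nat) : Nat := @Bool.rec (fun _ => Nat) (Btab_s_864_871 c) (Btab_s_871_878 c) (Nat.ble 871 c)
noncomputable def Btab_s_850_878 (c : Nat) : Nat := @Bool.rec (fun _ => Nat) (Btab_s_850_864 c) (Btab_s_864_878 c) (Nat.ble 864 c)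
noncomputable def Btab_s_879_881 (c : Nat) : Nat := @Bool.rec (fun _ => Nat) (Btab_879) (Btab_880) (Nat.ble 880 c)
noncomputable def Btab_s_878_881 (c : Nat) : Nat := @Bool.rec (fun _ => Nat) (Btab_878) (Btab_s_879_881 c) (Nat.ble 879 c)
noncomputable def Btab_s_881_883 (c : Nat) : Nat := @Bool.rec (fun _ => Nat) (Btab_881) (Btab_882) (Nat.ble 882 c)
noncomputable def Btab_s_883_885 (c : Nat) : Nat := @Bool.rec (fun _ => Nat) (Btab_883) (Btab_884) (Nat.ble 884 c)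
noncomputable def Btab_s_881_885 (c : Nat) : Nat := @Bool.rec (fun _ => Nat) (Btab_s_881_883 c) (Btab_s_883_885 c) (Nat.ble 883 c)
noncomputable def Btab_s_878_885 (c : Nat) : Nat := @Bool.rec (fun _ => Nat) (Btab_s_878_881 c) (Btab_s_881_885 c) (Nat.ble 881 c)
noncomputable def Btab_s_886_888 (c : Nat) : Nat := @Bool.rec (fun _ => Nat) (Btab_886) (Btab_887) (Nat.ble 887 c)
noncomputable def Btab_s_885_888 (c : Nat) : Nat := @Bool.rec (fun _ => Nat) (Btab_885) (Btab_s_886_888 c) (Nat.ble 886 c)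
noncomputable def Btab_s_888_890 (c : Nat) : Nat := @Bool.rec (fun _ => Nat) (Btab_888) (Btab_889) (Nat.ble 889 c)
noncomputable def Btab_s_890_892 (c : Nat) : Nat := @Bool.rec (fun _ => Nat) (Btab_890) (Btab_891) (Nat.ble 891 c)
noncomputable def Btab_s_888_892 (c : Nat) : Nat := @Bool.rec (fun _ => Nat) (Btab_s_888_890 c) (Btab_s_890_892 c) (Nat.ble 890 c)
noncomputable def Btab_s_885_892 (c : Nat) : Nat := @Bool.rec (fun _ => Nat) (Btab_s_885_888 c) (Btab_s_888_892 c) (Nat.ble 888 c)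
noncomputable def Btab_s_878_892 (c : Nat) : Nat := @Bool.rec (fun _ => Nat) (Btab_s_878_885 c) (Btab_s_885_892 c) (Nat.ble 885 c)
noncomputable def Btab_s_893_895 (c : Nat) : Nat := @Bool.rec (fun _ => Nat) (Btab_893) (Btab_894) (Nat.ble 894 c)
noncomputable def Btab_s_892_895 (c : Nat) : Nat := @Bool.rec (fun _ => Nat) (Btab_892) (Btab_s_893_895 c) (Nat.ble 893 c)
noncomputable def Btab_s_895_897 (c : Nat) : Nat := @Bool.rec (fun _ => Nat) (Btab_895) (Btab_896) (Nat.ble 896 c)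
noncomputable def Btab_s_897_899 (c : Nat) : Nat := @Bool.rec (fun _ => Nat) (Btab_897) (Btab_898) (Nat.ble 898 c)
noncomputable def Btab_s_895_899 (c : Nat) : Nat := @Bool.rec (fun _ => Nat) (Btab_s_895_897 c) (Btab_s_897_899 c) (Nat.ble 897 c)
noncomputable def Btab_s_892_899 (c : Nat) : Nat := @Bool.rec (fun _ => Nat) (Btab_s_892_895 c) (Btab_s_895_899 c) (Nat.ble 895 c)
noncomputable def Btab_s_899_901 (c : Nat) : Nat := @Bool.rec (fun _ => Nat) (Btab_899) (Btab_900) (Nat.ble 900 c)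
noncomputable def Btab_s_901_903 (c : Nat) : Nat := @Bool.rec (fun _ => Nat) (Btab_901) (Btab_902) (Nat.ble 902 c)
noncomputable def Btab_s_899_903 (c : Nat) : Nat := @Bool.rec (fun _ => Nat) (Btab_s_899_901 c) (Btab_s_901_903 c) (Nat.ble 901 c)
noncomputable def Btab_s_903_905 (c : Nat) : Nat := @Bool.rec (fun _ => Nat) (Btab_903) (Btab_904) (Nat.ble 904 c)
noncomputable def Btab_s_905_907 (c : Nat) : Nat := @Bool.rec (fun _ => Nat) (Btab_905) (Btab_906) (Nat.ble 906 c)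
noncomputable def Btab_s_903_907 (c : Nat) : Nat := @Bool.rec (fun _ => Nat) (Btab_s_903_905 c) (Btab_s_905_907 c) (Nat.ble 905 c)
noncomputable def Btab_s_899_907 (c : Nat) : Nat := @Bool.rec (fun _ => Nat) (Btab_s_899_903 c) (Btab_s_903_907 c) (Nat.ble 903 c)
noncomputable def Btab_s_892_907 (c : Nat) : Nat := @Bool.rec (fun _ => Nat) (Btab_s_892_899 c) (Btab_s_899_907 c) (Nat.ble 899 c)
noncomputable def Btab_s_878_907 (c : Nat) : Nat := @Bool.rec (fun _ => Nat) (Btab_s_878_892 c) (Btab_s_892_907 c) (Nat.ble 892 c)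
noncomputable def Btab_s_850_907 (c : Nat) : Nat := @Bool.rec (fun _ => Nat) (Btab_s_850_878 c) (Btab_s_878_907 c) (Nat.ble 878 c)
noncomputable def Btab_s_793_907 (c : Nat) : Nat := @Bool.rec (fun _ => Nat) (Btab_s_793_850 c) (Btab_s_850_907 c) (Nat.ble 850 c)
noncomputable def Btab_s_680_907 (c : Nat) : Nat := @Bool.rec (fun _ => Nat) (Btab_s_680_793 c) (Btab_s_793_907 c) (Nat.ble 793 c)
noncomputable def Btab_s_453_907 (c : Nat) : Nat := @Bool.rec (fun _ => Nat) (Btab_s_453_680 c) (Btab_s_680_907 c) (Nat.ble 680 c)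
noncomputable def Btab_s_0_907 (c : Nat) : Nat := @Bool.rec (fun _ => Nat) (Btab_s_0_453 c) (Btab_s_453_907 c) (Nat.ble 453 c)
noncomputable def Btab (i : Nat) : Nat := rdw 48 281474976710655 (Btab_s_0_907 (Nat.shiftRight i 11)) (Nat.land i 2047)
noncomputable def Ptab_s_0_2 (c : Nat) : Nat := @Bool.rec (fun _ => Nat) (Ptab_0) (Ptab_1) (Nat.ble 1 c)
noncomputable def Ptab_s_3_5 (c : Nat) : Nat := @Bool.rec (fun _ => Nat) (Ptab_3) (Ptab_4) (Nat.ble 4 c)
noncomputable def Ptab_s_2_5 (c : Nat) : Nat := @Bool.rec (fun _ => Nat) (Ptab_2) (Ptab_s_3_5 c) (Nat.ble 3 c)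
noncomputable def Ptab_s_0_5 (c : Nat) : Nat := @Bool.rec (fun _ => Nat) (Ptab_s_0_2 c) (Ptab_s_2_5 c) (Nat.ble 2 c)
noncomputable def Ptab_s_6_8 (c : Nat) : Nat := @Bool.rec (fun _ => Nat) (Ptab_6) (Ptab_7) (Nat.ble 7 c)
noncomputable def Ptab_s_5_8 (c : Nat) : Nat := @Bool.rec (fun _ => Nat) (Ptab_5) (Ptab_s_6_8 c) (Nat.ble 6 c)
noncomputable def Ptab_s_9_11 (c : Nat) : Nat := @Bool.rec (fun _ => Nat) (Ptab_9) (Ptab_10) (Nat.ble 10 c)
noncomputable def Ptab_s_8_11 (c : Nat) : Nat := @Bool.rec (fun _ => Nat) (Ptab_8) (Ptab_s_9_11 c) (Nat.ble 9 c)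
noncomputable def Ptab_s_5_11 (c : Nat) : Nat := @Bool.rec (fun _ => Nat) (Ptab_s_5_8 c) (Ptab_s_8_11 c) (Nat.ble 8 c)
noncomputable def Ptab_s_0_11 (c : Nat) : Nat := @Bool.rec (fun _ => Nat) (Ptab_s_0_5 c) (Ptab_s_5_11 c) (Nat.ble 5 c)
noncomputable def Ptab_s_12_14 (c : Nat) : Nat := @Bool.rec (fun _ => Nat) (Ptab_12) (Ptab_13) (Nat.ble 13 c)
noncomputable def Ptab_s_11_14 (c : Nat) : Nat := @Bool.rec (fun _ => Nat) (Ptab_11) (Ptab_s_12_14 c) (Nat.ble 12 c)
noncomputable def Ptab_s_15_17 (c : Nat) : Nat := @Bool.rec (fun _ => Nat) (Ptab_15) (Ptab_16) (Nat.ble 16 c)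
noncomputable def Ptab_s_14_17 (c : Nat) : Nat := @Bool.rec (fun _ => Nat) (Ptab_14) (Ptab_s_15_17 c) (Nat.ble 15 c)
noncomputable def Ptab_s_11_17 (c : Nat) : Nat := @Bool.rec (fun _ => Nat) (Ptab_s_11_14 c) (Ptab_s_14_17 c) (Nat.ble 14 c)
noncomputable def Ptab_s_18_20 (c : Nat) : Nat := @Bool.rec (fun _ => Nat) (Ptab_18) (Ptab_19) (Nat.ble 19 c)
noncomputable def Ptab_s_17_20 (c : Nat) : Nat := @Bool.rec (fun _ => Nat) (Ptab_17) (Ptab_s_18_20 c) (Nat.ble 18 c)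
noncomputable def Ptab_s_21_23 (c : Nat) : Nat := @Bool.rec (fun _ => Nat) (Ptab_21) (Ptab_22) (Nat.ble 22 c)
noncomputable def Ptab_s_20_23 (c : Nat) : Nat := @Bool.rec (fun _ => Nat) (Ptab_20) (Ptab_s_21_23 c) (Nat.ble 21 c)
noncomputable def Ptab_s_17_23 (c : Nat) : Nat := @Bool.rec (fun _ => Nat) (Ptab_s_17_20 c) (Ptab_s_20_23 c) (Nat.ble 20 c)
noncomputable def Ptab_s_11_23 (c : Nat) : Nat := @Bool.rec (fun _ => Nat) (Ptab_s_11_17 c) (Ptab_s_17_23 c) (Nat.ble 17 c)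
noncomputable def Ptab_s_0_23 (c : Nat) : Nat := @Bool.rec (fun _ => Nat) (Ptab_s_0_11 c) (Ptab_s_11_23 c) (Nat.ble 11 c)
noncomputable def Ptab_s_23_25 (c : Nat) : Nat := @Bool.rec (fun _ => Nat) (Ptab_23) (Ptab_24) (Nat.ble 24 c)
noncomputable def Ptab_s_26_28 (c : Nat) : Nat := @Bool.rec (fun _ => Nat) (Ptab_26) (Ptab_27) (Nat.ble 27 c)
noncomputable def Ptab_s_25_28 (c : Nat) : Nat := @Bool.rec (fun _ => Nat) (Ptab_25) (Ptab_s_26_28 c) (Nat.ble 26 c)
noncomputable def Ptab_s_23_28 (c : Nat) : Nat := @Bool.rec (fun _ => Nat) (Ptab_s_23_25 c) (Ptab_s_25_28 c) (Nat.ble 25 c)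
noncomputable def Ptab_s_29_31 (c : Nat) : Nat := @Bool.rec (fun _ => Nat) (Ptab_29) (Ptab_30) (Nat.ble 30 c)
noncomputable def Ptab_s_28_31 (c : Nat) : Nat := @Bool.rec (fun _ => Nat) (Ptab_28) (Ptab_s_29_31 c) (Nat.ble 29 c)
noncomputable def Ptab_s_32_34 (c : Nat) : Nat := @Bool.rec (fun _ => Nat) (Ptab_32) (Ptab_33) (Nat.ble 33 c)
noncomputable def Ptab_s_31_34 (c : Nat) : Nat := @Bool.rec (fun _ => Nat) (Ptab_31) (Ptab_s_32_34 c) (Nat.ble 32 c)
noncomputable def Ptab_s_28_34 (c : Nat) : Nat := @Bool.rec (fun _ => Nat) (Ptab_s_28_31 c) (Ptab_s_31_34 c) (Nat.ble 31 c)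
noncomputable def Ptab_s_23_34 (c : Nat) : Nat := @Bool.rec (fun _ => Nat) (Ptab_s_23_28 c) (Ptab_s_28_34 c) (Nat.ble 28 c)
noncomputable def Ptab_s_35_37 (c : Nat) : Nat := @Bool.rec (fun _ => Nat) (Ptab_35) (Ptab_36) (Nat.ble 36 c)
noncomputable def Ptab_s_34_37 (c : Nat) : Nat := @Bool.rec (fun _ => Nat) (Ptab_34) (Ptab_s_35_37 c) (Nat.ble 35 c)
noncomputable def Ptab_s_38_40 (c : Nat) : Nat := @Bool.rec (fun _ => Nat) (Ptab_38) (Ptab_39) (Nat.ble 39 c)
noncomputable def Ptab_s_37_40 (c : Nat) : Nat := @Bool.rec (fun _ => Nat) (Ptab_37) (Ptab_s_38_40 c) (Nat.ble 38 c)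
noncomputable def Ptab_s_34_40 (c : Nat) : Nat := @Bool.rec (fun _ => Nat) (Ptab_s_34_37 c) (Ptab_s_37_40 c) (Nat.ble 37 c)
noncomputable def Ptab_s_41_43 (c : Nat) : Nat := @Bool.rec (fun _ => Nat) (Ptab_41) (Ptab_42) (Nat.ble 42 c)
noncomputable def Ptab_s_40_43 (c : Nat) : Nat := @Bool.rec (fun _ => Nat) (Ptab_40) (Ptab_s_41_43 c) (Nat.ble 41 c)
noncomputable def Ptab_s_44_46 (c : Nat) : Nat := @Bool.rec (fun _ => Nat) (Ptab_44) (Ptab_45) (Nat.ble 45 c)
noncomputable def Ptab_s_43_46 (c : Nat) : Nat := @Bool.rec (fun _ => Nat) (Ptab_43) (Ptab_s_44_46 c) (Nat.ble 44 c)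
noncomputable def Ptab_s_40_46 (c : Nat) : Nat := @Bool.rec (fun _ => Nat) (Ptab_s_40_43 c) (Ptab_s_43_46 c) (Nat.ble 43 c)
noncomputable def Ptab_s_34_46 (c : Nat) : Nat := @Bool.rec (fun _ => Nat) (Ptab_s_34_40 c) (Ptab_s_40_46 c) (Nat.ble 40 c)
noncomputable def Ptab_s_23_46 (c : Nat) : Nat := @Bool.rec (fun _ => Nat) (Ptab_s_23_34 c) (Ptab_s_34_46 c) (Nat.ble 34 c)
noncomputable def Ptab_s_0_46 (c : Nat) : Nat := @Bool.rec (fun _ => Nat) (Ptab_s_0_23 c) (Ptab_s_23_46 c) (Nat.ble 23 c)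
noncomputable def Ptab_s_46_48 (c : Nat) : Nat := @Bool.rec (fun _ => Nat) (Ptab_46) (Ptab_47) (Nat.ble 47 c)
noncomputable def Ptab_s_49_51 (c : Nat) : Nat := @Bool.rec (fun _ => Nat) (Ptab_49) (Ptab_50) (Nat.ble 50 c)
noncomputable def Ptab_s_48_51 (c : Nat) : Nat := @Bool.rec (fun _ => Nat) (Ptab_48) (Ptab_s_49_51 c) (Nat.ble 49 c)
noncomputable def Ptab_s_46_51 (c : Nat) : Nat := @Bool.rec (fun _ => Nat) (Ptab_s_46_48 c) (Ptab_s_48_51 c) (Nat.ble 48 c)
noncomputable def Ptab_s_52_54 (c : Nat) : Nat := @Bool.rec (fun _ => Nat) (Ptab_52) (Ptab_53) (Nat.ble 53 c)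
noncomputable def Ptab_s_51_54 (c : Nat) : Nat := @Bool.rec (fun _ => Nat) (Ptab_51) (Ptab_s_52_54 c) (Nat.ble 52 c)
noncomputable def Ptab_s_55_57 (c : Nat) : Nat := @Bool.rec (fun _ => Nat) (Ptab_55) (Ptab_56) (Nat.ble 56 c)
noncomputable def Ptab_s_54_57 (c : Nat) : Nat := @Bool.rec (fun _ => Nat) (Ptab_54) (Ptab_s_55_57 c) (Nat.ble 55 c)
noncomputable def Ptab_s_51_57 (c : Nat) : Nat := @Bool.rec (fun _ => Nat) (Ptab_s_51_54 c) (Ptab_s_54_57 c) (Nat.ble 54 c)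
noncomputable def Ptab_s_46_57 (c : Nat) : Nat := @Bool.rec (fun _ => Nat) (Ptab_s_46_51 c) (Ptab_s_51_57 c) (Nat.ble 51 c)
noncomputable def Ptab_s_58_60 (c : Nat) : Nat := @Bool.rec (fun _ => Nat) (Ptab_58) (Ptab_59) (Nat.ble 59 c)
noncomputable def Ptab_s_57_60 (c : Nat) : Nat := @Bool.rec (fun _ => Nat) (Ptab_57) (Ptab_s_58_60 c) (Nat.ble 58 c)
noncomputable def Ptab_s_61_63 (c : Nat) : Nat := @Bool.rec (fun _ => Nat) (Ptab_61) (Ptab_62) (Nat.ble 62 c)
noncomputable def Ptab_s_60_63 (c : Nat) : Nat := @Bool.rec (fun _ => Nat) (Ptab_60) (Ptab_s_61_63 c) (Nat.ble 61 c)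
noncomputable def Ptab_s_57_63 (c : Nat) : Nat := @Bool.rec (fun _ => Nat) (Ptab_s_57_60 c) (Ptab_s_60_63 c) (Nat.ble 60 c)
noncomputable def Ptab_s_64_66 (c : Nat) : Nat := @Bool.rec (fun _ => Nat) (Ptab_64) (Ptab_65) (Nat.ble 65 c)
noncomputable def Ptab_s_63_66 (c : Nat) : Nat := @Bool.rec (fun _ => Nat) (Ptab_63) (Ptab_s_64_66 c) (Nat.ble 64 c)
noncomputable def Ptab_s_67_69 (c : Nat) : Nat := @Bool.rec (fun _ => Nat) (Ptab_67) (Ptab_68) (Nat.ble 68 c)
noncomputable def Ptab_s_66_69 (c : Nat) : Nat := @Bool.rec (fun _ => Nat) (Ptab_66) (Ptab_s_67_69 c) (Nat.ble 67 c)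
noncomputable def Ptab_s_63_69 (c : Nat) : Nat := @Bool.rec (fun _ => Nat) (Ptab_s_63_66 c) (Ptab_s_66_69 c) (Nat.ble 66 c)
noncomputable def Ptab_s_57_69 (c : Nat) : Nat := @Bool.rec (fun _ => Nat) (Ptab_s_57_63 c) (Ptab_s_63_69 c) (Nat.ble 63 c)
noncomputable def Ptab_s_46_69 (c : Nat) : Nat := @Bool.rec (fun _ => Nat) (Ptab_s_46_57 c) (Ptab_s_57_69 c) (Nat.ble 57 c)
noncomputable def Ptab_s_69_71 (c : Nat) : Nat := @Bool.rec (fun _ => Nat) (Ptab_69) (Ptab_70) (Nat.ble 70 c)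
noncomputable def Ptab_s_72_74 (c : Nat) : Nat := @Bool.rec (fun _ => Nat) (Ptab_72) (Ptab_73) (Nat.ble 73 c)
noncomputable def Ptab_s_71_74 (c : Nat) : Nat := @Bool.rec (fun _ => Nat) (Ptab_71) (Ptab_s_72_74 c) (Nat.ble 72 c)
noncomputable def Ptab_s_69_74 (c : Nat) : Nat := @Bool.rec (fun _ => Nat) (Ptab_s_69_71 c) (Ptab_s_71_74 c) (Nat.ble 71 c)
noncomputable def Ptab_s_75_77 (c : Nat) : Nat := @Bool.rec (fun _ => Nat) (Ptab_75) (Ptab_76) (Nat.ble 76 c)
noncomputable def Ptab_s_74_77 (c : Nat) : Nat := @Bool.rec (fun _ => Nat) (Ptab_74) (Ptab_s_75_77 c) (Nat.ble 75 c)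
noncomputable def Ptab_s_78_80 (c : Nat) : Nat := @Bool.rec (fun _ => Nat) (Ptab_78) (Ptab_79) (Nat.ble 79 c)
noncomputable def Ptab_s_77_80 (c : Nat) : Nat := @Bool.rec (fun _ => Nat) (Ptab_77) (Ptab_s_78_80 c) (Nat.ble 78 c)
noncomputable def Ptab_s_74_80 (c : Nat) : Nat := @Bool.rec (fun _ => Nat) (Ptab_s_74_77 c) (Ptab_s_77_80 c) (Nat.ble 77 c)
noncomputable def Ptab_s_69_80 (c : Nat) : Nat := @Bool.rec (fun _ => Nat) (Ptab_s_69_74 c) (Ptab_s_74_80 c) (Nat.ble 74 c)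
noncomputable def Ptab_s_81_83 (c : Nat) : Nat := @Bool.rec (fun _ => Nat) (Ptab_81) (Ptab_82) (Nat.ble 82 c)
noncomputable def Ptab_s_80_83 (c : Nat) : Nat := @Bool.rec (fun _ => Nat) (Ptab_80) (Ptab_s_81_83 c) (Nat.ble 81 c)
noncomputable def Ptab_s_84_86 (c : Nat) : Nat := @Bool.rec (fun _ => Nat) (Ptab_84) (Ptab_85) (Nat.ble 85 c)
noncomputable def Ptab_s_83_86 (c : Nat) : Nat := @Bool.rec (fun _ => Nat) (Ptab_83) (Ptab_s_84_86 c) (Nat.ble 84 c)
noncomputable def Ptab_s_80_86 (c : Nat) : Nat := @Bool.rec (fun _ => Nat) (Ptab_s_80_83 c) (Ptab_s_83_86 c) (Nat.ble 83 c)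
noncomputable def Ptab_s_87_89 (c : Nat) : Nat := @Bool.rec (fun _ => Nat) (Ptab_87) (Ptab_88) (Nat.ble 88 c)
noncomputable def Ptab_s_86_89 (c : Nat) : Nat := @Bool.rec (fun _ => Nat) (Ptab_86) (Ptab_s_87_89 c) (Nat.ble 87 c)
noncomputable def Ptab_s_90_92 (c : Nat) : Nat := @Bool.rec (fun _ => Nat) (Ptab_90) (Ptab_91) (Nat.ble 91 c)
noncomputable def Ptab_s_89_92 (c : Nat) : Nat := @Bool.rec (fun _ => Nat) (Ptab_89) (Ptab_s_90_92 c) (Nat.ble 90 c)
noncomputable def Ptab_s_86_92 (c : Nat) : Nat := @Bool.rec (fun _ => Nat) (Ptab_s_86_89 c) (Ptab_s_89_92 c) (Nat.ble 89 c)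
noncomputable def Ptab_s_80_92 (c : Nat) : Nat := @Bool.rec (fun _ => Nat) (Ptab_s_80_86 c) (Ptab_s_86_92 c) (Nat.ble 86 c)
noncomputable def Ptab_s_69_92 (c : Nat) : Nat := @Bool.rec (fun _ => Nat) (Ptab_s_69_80 c) (Ptab_s_80_92 c) (Nat.ble 80 c)
noncomputable def Ptab_s_46_92 (c : Nat) : Nat := @Bool.rec (fun _ => Nat) (Ptab_s_46_69 c) (Ptab_s_69_92 c) (Nat.ble 69 c)
noncomputable def Ptab_s_0_92 (c : Nat) : Nat := @Bool.rec (fun _ => Nat) (Ptab_s_0_46 c) (Ptab_s_46_92 c) (Nat.ble 46 c)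
noncomputable def Ptab_s_92_94 (c : Nat) : Nat := @Bool.rec (fun _ => Nat) (Ptab_92) (Ptab_93) (Nat.ble 93 c)
noncomputable def Ptab_s_95_97 (c : Nat) : Nat := @Bool.rec (fun _ => Nat) (Ptab_95) (Ptab_96) (Nat.ble 96 c)
noncomputable def Ptab_s_94_97 (c : Nat) : Nat := @Bool.rec (fun _ => Nat) (Ptab_94) (Ptab_s_95_97 c) (Nat.ble 95 c)
noncomputable def Ptab_s_92_97 (c : Nat) : Nat := @Bool.rec (fun _ => Nat) (Ptab_s_92_94 c) (Ptab_s_94_97 c) (Nat.ble 94 c)
noncomputable def Ptab_s_98_100 (c : Nat) : Nat := @Bool.rec (fun _ => Nat) (Ptab_98) (Ptab_99) (Nat.ble 99 c)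
noncomputable def Ptab_s_97_100 (c : Nat) : Nat := @Bool.rec (fun _ => Nat) (Ptab_97) (Ptab_s_98_100 c) (Nat.ble 98 c)
noncomputable def Ptab_s_101_103 (c : Nat) : Nat := @Bool.rec (fun _ => Nat) (Ptab_101) (Ptab_102) (Nat.ble 102 c)
noncomputable def Ptab_s_100_103 (c : Nat) : Nat := @Bool.rec (fun _ => Nat) (Ptab_100) (Ptab_s_101_103 c) (Nat.ble 101 c)
noncomputable def Ptab_s_97_103 (c : Nat) : Nat := @Bool.rec (fun _ => Nat) (Ptab_s_97_100 c) (Ptab_s_100_103 c) (Nat.ble 100 c)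
noncomputable def Ptab_s_92_103 (c : Nat) : Nat := @Bool.rec (fun _ => Nat) (Ptab_s_92_97 c) (Ptab_s_97_103 c) (Nat.ble 97 c)
noncomputable def Ptab_s_104_106 (c : Nat) : Nat := @Bool.rec (fun _ => Nat) (Ptab_104) (Ptab_105) (Nat.ble 105 c)
noncomputable def Ptab_s_103_106 (c : Nat) : Nat := @Bool.rec (fun _ => Nat) (Ptab_103) (Ptab_s_104_106 c) (Nat.ble 104 c)
noncomputable def Ptab_s_107_109 (c : Nat) : Nat := @Bool.rec (fun _ => Nat) (Ptab_107) (Ptab_108) (Nat.ble 108 c)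
noncomputable def Ptab_s_106_109 (c : Nat) : Nat := @Bool.rec (fun _ => Nat) (Ptab_106) (Ptab_s_107_109 c) (Nat.ble 107 c)
noncomputable def Ptab_s_103_109 (c : Nat) : Nat := @Bool.rec (fun _ => Nat) (Ptab_s_103_106 c) (Ptab_s_106_109 c) (Nat.ble 106 c)
noncomputable def Ptab_s_110_112 (c : Nat) : Nat := @Bool.rec (fun _ => Nat) (Ptab_110) (Ptab_111) (Nat.ble 111 c)
noncomputable def Ptab_s_109_112 (c : Nat) : Nat := @Bool.rec (fun _ => Nat) (Ptab_109) (Ptab_s_110_112 c) (Nat.ble 110 c)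
noncomputable def Ptab_s_113_115 (c : Nat) : Nat := @Bool.rec (fun _ => Nat) (Ptab_113) (Ptab_114) (Nat.ble 114 c)
noncomputable def Ptab_s_112_115 (c : Nat) : Nat := @Bool.rec (fun _ => Nat) (Ptab_112) (Ptab_s_113_115 c) (Nat.ble 113 c)
noncomputable def Ptab_s_109_115 (c : Nat) : Nat := @Bool.rec (fun _ => Nat) (Ptab_s_109_112 c) (Ptab_s_112_115 c) (Nat.ble 112 c)
noncomputable def Ptab_s_103_115 (c : Nat) : Nat := @Bool.rec (fun _ => Nat) (Ptab_s_103_109 c) (Ptab_s_109_115 c) (Nat.ble 109 c)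
noncomputable def Ptab_s_92_115 (c : Nat) : Nat := @Bool.rec (fun _ => Nat) (Ptab_s_92_103 c) (Ptab_s_103_115 c) (Nat.ble 103 c)
noncomputable def Ptab_s_115_117 (c : Nat) : Nat := @Bool.rec (fun _ => Nat) (Ptab_115) (Ptab_116) (Nat.ble 116 c)
noncomputable def Ptab_s_118_120 (c : Nat) : Nat := @Bool.rec (fun _ => Nat) (Ptab_118) (Ptab_119) (Nat.ble 119 c)
noncomputable def Ptab_s_117_120 (c : Nat) : Nat := @Bool.rec (fun _ => Nat) (Ptab_117) (Ptab_s_118_120 c) (Nat.ble 118 c)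
noncomputable def Ptab_s_115_120 (c : Nat) : Nat := @Bool.rec (fun _ => Nat) (Ptab_s_115_117 c) (Ptab_s_117_120 c) (Nat.ble 117 c)
noncomputable def Ptab_s_121_123 (c : Nat) : Nat := @Bool.rec (fun _ => Nat) (Ptab_121) (Ptab_122) (Nat.ble 122 c)
noncomputable def Ptab_s_120_123 (c : Nat) : Nat := @Bool.rec (fun _ => Nat) (Ptab_120) (Ptab_s_121_123 c) (Nat.ble 121 c)
noncomputable def Ptab_s_124_126 (c : Nat) : Nat := @Bool.rec (fun _ => Nat) (Ptab_124) (Ptab_125) (Nat.ble 125 c)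
noncomputable def Ptab_s_123_126 (c : Nat) : Nat := @Bool.rec (fun _ => Nat) (Ptab_123) (Ptab_s_124_126 c) (Nat.ble 124 c)
noncomputable def Ptab_s_120_126 (c : Nat) : Nat := @Bool.rec (fun _ => Nat) (Ptab_s_120_123 c) (Ptab_s_123_126 c) (Nat.ble 123 c)
noncomputable def Ptab_s_115_126 (c : Nat) : Nat := @Bool.rec (fun _ => Nat) (Ptab_s_115_120 c) (Ptab_s_120_126 c) (Nat.ble 120 c)
noncomputable def Ptab_s_127_129 (c : Nat) : Nat := @Bool.rec (fun _ => Nat) (Ptab_127) (Ptab_128) (Nat.ble 128 c)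
noncomputable def Ptab_s_126_129 (c : Nat) : Nat := @Bool.rec (fun _ => Nat) (Ptab_126) (Ptab_s_127_129 c) (Nat.ble 127 c)
noncomputable def Ptab_s_130_132 (c : Nat) : Nat := @Bool.rec (fun _ => Nat) (Ptab_130) (Ptab_131) (Nat.ble 131 c)
noncomputable def Ptab_s_129_132 (c : Nat) : Nat := @Bool.rec (fun _ => Nat) (Ptab_129) (Ptab_s_130_132 c) (Nat.ble 130 c)
noncomputable def Ptab_s_126_132 (c : Nat) : Nat := @Bool.rec (fun _ => Nat) (Ptab_s_126_129 c) (Ptab_s_129_132 c) (Nat.ble 129 c)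
noncomputable def Ptab_s_133_135 (c : Nat) : Nat := @Bool.rec (fun _ => Nat) (Ptab_133) (Ptab_134) (Nat.ble 134 c)
noncomputable def Ptab_s_132_135 (c : Nat) : Nat := @Bool.rec (fun _ => Nat) (Ptab_132) (Ptab_s_133_135 c) (Nat.ble 133 c)
noncomputable def Ptab_s_136_138 (c : Nat) : Nat := @Bool.rec (fun _ => Nat) (Ptab_136) (Ptab_137) (Nat.ble 137 c)
noncomputable def Ptab_s_135_138 (c : Nat) : Nat := @Bool.rec (fun _ => Nat) (Ptab_135) (Ptab_s_136_138 c) (Nat.ble 136 c)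
noncomputable def Ptab_s_132_138 (c : Nat) : Nat := @Bool.rec (fun _ => Nat) (Ptab_s_132_135 c) (Ptab_s_135_138 c) (Nat.ble 135 c)
noncomputable def Ptab_s_126_138 (c : Nat) : Nat := @Bool.rec (fun _ => Nat) (Ptab_s_126_132 c) (Ptab_s_132_138 c) (Nat.ble 132 c)
noncomputable def Ptab_s_115_138 (c : Nat) : Nat := @Bool.rec (fun _ => Nat) (Ptab_s_115_126 c) (Ptab_s_126_138 c) (Nat.ble 126 c)
noncomputable def Ptab_s_92_138 (c : Nat) : Nat := @Bool.rec (fun _ => Nat) (Ptab_s_92_115 c) (Ptab_s_115_138 c) (Nat.ble 115 c)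
noncomputable def Ptab_s_138_140 (c : Nat) : Nat := @Bool.rec (fun _ => Nat) (Ptab_138) (Ptab_139) (Nat.ble 139 c)
noncomputable def Ptab_s_141_143 (c : Nat) : Nat := @Bool.rec (fun _ => Nat) (Ptab_141) (Ptab_142) (Nat.ble 142 c)
noncomputable def Ptab_s_140_143 (c : Nat) : Nat := @Bool.rec (fun _ => Nat) (Ptab_140) (Ptab_s_141_143 c) (Nat.ble 141 c)
noncomputable def Ptab_s_138_143 (c : Nat) : Nat := @Bool.rec (fun _ => Nat) (Ptab_s_138_140 c) (Ptab_s_140_143 c) (Nat.ble 140 c)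
noncomputable def Ptab_s_144_146 (c : Nat) : Nat := @Bool.rec (fun _ => Nat) (Ptab_144) (Ptab_145) (Nat.ble 145 c)
noncomputable def Ptab_s_143_146 (c : Nat) : Nat := @Bool.rec (fun _ => Nat) (Ptab_143) (Ptab_s_144_146 c) (Nat.ble 144 c)
noncomputable def Ptab_s_147_149 (c : Nat) : Nat := @Bool.rec (fun _ => Nat) (Ptab_147) (Ptab_148) (Nat.ble 148 c)
noncomputable def Ptab_s_146_149 (c : Nat) : Nat := @Bool.rec (fun _ => Nat) (Ptab_146) (Ptab_s_147_149 c) (Nat.ble 147 c)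
noncomputable def Ptab_s_143_149 (c : Nat) : Nat := @Bool.rec (fun _ => Nat) (Ptab_s_143_146 c) (Ptab_s_146_149 c) (Nat.ble 146 c)
noncomputable def Ptab_s_138_149 (c : Nat) : Nat := @Bool.rec (fun _ => Nat) (Ptab_s_138_143 c) (Ptab_s_143_149 c) (Nat.ble 143 c)
noncomputable def Ptab_s_150_152 (c : Nat) : Nat := @Bool.rec (fun _ => Nat) (Ptab_150) (Ptab_151) (Nat.ble 151 c)
noncomputable def Ptab_s_149_152 (c : Nat) : Nat := @Bool.rec (fun _ => Nat) (Ptab_149) (Ptab_s_150_152 c) (Nat.ble 150 c)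
noncomputable def Ptab_s_153_155 (c : Nat) : Nat := @Bool.rec (fun _ => Nat) (Ptab_153) (Ptab_154) (Nat.ble 154 c)
noncomputable def Ptab_s_152_155 (c : Nat) : Nat := @Bool.rec (fun _ => Nat) (Ptab_152) (Ptab_s_153_155 c) (Nat.ble 153 c)
noncomputable def Ptab_s_149_155 (c : Nat) : Nat := @Bool.rec (fun _ => Nat) (Ptab_s_149_152 c) (Ptab_s_152_155 c) (Nat.ble 152 c)
noncomputable def Ptab_s_156_158 (c : Nat) : Nat := @Bool.rec (fun _ => Nat) (Ptab_156) (Ptab_157) (Nat.ble 157 c)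
noncomputable def Ptab_s_155_158 (c : Nat) : Nat := @Bool.rec (fun _ => Nat) (Ptab_155) (Ptab_s_156_158 c) (Nat.ble 156 c)
noncomputable def Ptab_s_159_161 (c : Nat) : Nat := @Bool.rec (fun _ => Nat) (Ptab_159) (Ptab_160) (Nat.ble 160 c)
noncomputable def Ptab_s_158_161 (c : Nat) : Nat := @Bool.rec (fun _ => Nat) (Ptab_158) (Ptab_s_159_161 c) (Nat.ble 159 c)
noncomputable def Ptab_s_155_161 (c : Nat) : Nat := @Bool.rec (fun _ => Nat) (Ptab_s_155_158 c) (Ptab_s_158_161 c) (Nat.ble 158 c)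
noncomputable def Ptab_s_149_161 (c : Nat) : Nat := @Bool.rec (fun _ => Nat) (Ptab_s_149_155 c) (Ptab_s_155_161 c) (Nat.ble 155 c)
noncomputable def Ptab_s_138_161 (c : Nat) : Nat := @Bool.rec (fun _ => Nat) (Ptab_s_138_149 c) (Ptab_s_149_161 c) (Nat.ble 149 c)
noncomputable def Ptab_s_161_163 (c : Nat) : Nat := @Bool.rec (fun _ => Nat) (Ptab_161) (Ptab_162) (Nat.ble 162 c)
noncomputable def Ptab_s_164_166 (c : Nat) : Nat := @Bool.rec (fun _ => Nat) (Ptab_164) (Ptab_165) (Nat.ble 165 c)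
noncomputable def Ptab_s_163_166 (c : Nat) : Nat := @Bool.rec (fun _ => Nat) (Ptab_163) (Ptab_s_164_166 c) (Nat.ble 164 c)
noncomputable def Ptab_s_161_166 (c : Nat) : Nat := @Bool.rec (fun _ => Nat) (Ptab_s_161_163 c) (Ptab_s_163_166 c) (Nat.ble 163 c)
noncomputable def Ptab_s_167_169 (c : Nat) : Nat := @Bool.rec (fun _ => Nat) (Ptab_167) (Ptab_168) (Nat.ble 168 c)
noncomputable def Ptab_s_166_169 (c : Nat) : Nat := @Bool.rec (fun _ => Nat) (Ptab_166) (Ptab_s_167_169 c) (Nat.ble 167 c)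
noncomputable def Ptab_s_170_172 (c : Nat) : Nat := @Bool.rec (fun _ => Nat) (Ptab_170) (Ptab_171) (Nat.ble 171 c)
noncomputable def Ptab_s_169_172 (c : Nat) : Nat := @Bool.rec (fun _ => Nat) (Ptab_169) (Ptab_s_170_172 c) (Nat.ble 170 c)
noncomputable def Ptab_s_166_172 (c : Nat) : Nat := @Bool.rec (fun _ => Nat) (Ptab_s_166_169 c) (Ptab_s_169_172 c) (Nat.ble 169 c)
noncomputable def Ptab_s_161_172 (c : Nat) : Nat := @Bool.rec (fun _ => Nat) (Ptab_s_161_166 c) (Ptab_s_166_172 c) (Nat.ble 166 c)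
noncomputable def Ptab_s_173_175 (c : Nat) : Nat := @Bool.rec (fun _ => Nat) (Ptab_173) (Ptab_174) (Nat.ble 174 c)
noncomputable def Ptab_s_172_175 (c : Nat) : Nat := @Bool.rec (fun _ => Nat) (Ptab_172) (Ptab_s_173_175 c) (Nat.ble 173 c)
noncomputable def Ptab_s_176_178 (c : Nat) : Nat := @Bool.rec (fun _ => Nat) (Ptab_176) (Ptab_177) (Nat.ble 177 c)
noncomputable def Ptab_s_175_178 (c : Nat) : Nat := @Bool.rec (fun _ => Nat) (Ptab_175) (Ptab_s_176_178 c) (Nat.ble 176 c)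
noncomputable def Ptab_s_172_178 (c : Nat) : Nat := @Bool.rec (fun _ => Nat) (Ptab_s_172_175 c) (Ptab_s_175_178 c) (Nat.ble 175 c)
noncomputable def Ptab_s_179_181 (c : Nat) : Nat := @Bool.rec (fun _ => Nat) (Ptab_179) (Ptab_180) (Nat.ble 180 c)
noncomputable def Ptab_s_178_181 (c : Nat) : Nat := @Bool.rec (fun _ => Nat) (Ptab_178) (Ptab_s_179_181 c) (Nat.ble 179 c)
noncomputable def Ptab_s_182_184 (c : Nat) : Nat := @Bool.rec (fun _ => Nat) (Ptab_182) (Ptab_183) (Nat.ble 183 c)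
noncomputable def Ptab_s_181_184 (c : Nat) : Nat := @Bool.rec (fun _ => Nat) (Ptab_181) (Ptab_s_182_184 c) (Nat.ble 182 c)
noncomputable def Ptab_s_178_184 (c : Nat) : Nat := @Bool.rec (fun _ => Nat) (Ptab_s_178_181 c) (Ptab_s_181_184 c) (Nat.ble 181 c)
noncomputable def Ptab_s_172_184 (c : Nat) : Nat := @Bool.rec (fun _ => Nat) (Ptab_s_172_178 c) (Ptab_s_178_184 c) (Nat.ble 178 c)
noncomputable def Ptab_s_161_184 (c : Nat) : Nat := @Bool.rec (fun _ => Nat) (Ptab_s_161_172 c) (Ptab_s_172_184 c) (Nat.ble 172 c)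
noncomputable def Ptab_s_138_184 (c : Nat) : Nat := @Bool.rec (fun _ => Nat) (Ptab_s_138_161 c) (Ptab_s_161_184 c) (Nat.ble 161 c)
noncomputable def Ptab_s_92_184 (c : Nat) : Nat := @Bool.rec (fun _ => Nat) (Ptab_s_92_138 c) (Ptab_s_138_184 c) (Nat.ble 138 c)
noncomputable def Ptab_s_0_184 (c : Nat) : Nat := @Bool.rec (fun _ => Nat) (Ptab_s_0_92 c) (Ptab_s_92_184 c) (Nat.ble 92 c)
noncomputable def Ptab_s_184_186 (c : Nat) : Nat := @Bool.rec (fun _ => Nat) (Ptab_184) (Ptab_185) (Nat.ble 185 c)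
noncomputable def Ptab_s_187_189 (c : Nat) : Nat := @Bool.rec (fun _ => Nat) (Ptab_187) (Ptab_188) (Nat.ble 188 c)
noncomputable def Ptab_s_186_189 (c : Nat) : Nat := @Bool.rec (fun _ => Nat) (Ptab_186) (Ptab_s_187_189 c) (Nat.ble 187 c)
noncomputable def Ptab_s_184_189 (c : Nat) : Nat := @Bool.rec (fun _ => Nat) (Ptab_s_184_186 c) (Ptab_s_186_189 c) (Nat.ble 186 c)
noncomputable def Ptab_s_190_192 (c : Nat) : Nat := @Bool.rec (fun _ => Nat) (Ptab_190) (Ptab_191) (Nat.ble 191 c)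
noncomputable def Ptab_s_189_192 (c : Nat) : Nat := @Bool.rec (fun _ => Nat) (Ptab_189) (Ptab_s_190_192 c) (Nat.ble 190 c)
noncomputable def Ptab_s_193_195 (c : Nat) : Nat := @Bool.rec (fun _ => Nat) (Ptab_193) (Ptab_194) (Nat.ble 194 c)
noncomputable def Ptab_s_192_195 (c : Nat) : Nat := @Bool.rec (fun _ => Nat) (Ptab_192) (Ptab_s_193_195 c) (Nat.ble 193 c)
noncomputable def Ptab_s_189_195 (c : Nat) : Nat := @Bool.rec (fun _ => Nat) (Ptab_s_189_192 c) (Ptab_s_192_195 c) (Nat.ble 192 c)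
noncomputable def Ptab_s_184_195 (c : Nat) : Nat := @Bool.rec (fun _ => Nat) (Ptab_s_184_189 c) (Ptab_s_189_195 c) (Nat.ble 189 c)
noncomputable def Ptab_s_196_198 (c : Nat) : Nat := @Bool.rec (fun _ => Nat) (Ptab_196) (Ptab_197) (Nat.ble 197 c)
noncomputable def Ptab_s_195_198 (c : Nat) : Nat := @Bool.rec (fun _ => Nat) (Ptab_195) (Ptab_s_196_198 c) (Nat.ble 196 c)
noncomputable def Ptab_s_199_201 (c : Nat) : Nat := @Bool.rec (fun _ => Nat) (Ptab_199) (Ptab_200) (Nat.ble 200 c)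
noncomputable def Ptab_s_198_201 (c : Nat) : Nat := @Bool.rec (fun _ => Nat) (Ptab_198) (Ptab_s_199_201 c) (Nat.ble 199 c)
noncomputable def Ptab_s_195_201 (c : Nat) : Nat := @Bool.rec (fun _ => Nat) (Ptab_s_195_198 c) (Ptab_s_198_201 c) (Nat.ble 198 c)
noncomputable def Ptab_s_202_204 (c : Nat) : Nat := @Bool.rec (fun _ => Nat) (Ptab_202) (Ptab_203) (Nat.ble 203 c)
noncomputable def Ptab_s_201_204 (c : Nat) : Nat := @Bool.rec (fun _ => Nat) (Ptab_201) (Ptab_s_202_204 c) (Nat.ble 202 c)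
noncomputable def Ptab_s_205_207 (c : Nat) : Nat := @Bool.rec (fun _ => Nat) (Ptab_205) (Ptab_206) (Nat.ble 206 c)
noncomputable def Ptab_s_204_207 (c : Nat) : Nat := @Bool.rec (fun _ => Nat) (Ptab_204) (Ptab_s_205_207 c) (Nat.ble 205 c)
noncomputable def Ptab_s_201_207 (c : Nat) : Nat := @Bool.rec (fun _ => Nat) (Ptab_s_201_204 c) (Ptab_s_204_207 c) (Nat.ble 204 c)
noncomputable def Ptab_s_195_207 (c : Nat) : Nat := @Bool.rec (fun _ => Nat) (Ptab_s_195_201 c) (Ptab_s_201_207 c) (Nat.ble 201 c)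
noncomputable def Ptab_s_184_207 (c : Nat) : Nat := @Bool.rec (fun _ => Nat) (Ptab_s_184_195 c) (Ptab_s_195_207 c) (Nat.ble 195 c)
noncomputable def Ptab_s_207_209 (c : Nat) : Nat := @Bool.rec (fun _ => Nat) (Ptab_207) (Ptab_208) (Nat.ble 208 c)
noncomputable def Ptab_s_210_212 (c : Nat) : Nat := @Bool.rec (fun _ => Nat) (Ptab_210) (Ptab_211) (Nat.ble 211 c)
noncomputable def Ptab_s_209_212 (c : Nat) : Nat := @Bool.rec (fun _ => Nat) (Ptab_209) (Ptab_s_210_212 c) (Nat.ble 210 c)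
noncomputable def Ptab_s_207_212 (c : Nat) : Nat := @Bool.rec (fun _ => Nat) (Ptab_s_207_209 c) (Ptab_s_209_212 c) (Nat.ble 209 c)
noncomputable def Ptab_s_213_215 (c : Nat) : Nat := @Bool.rec (fun _ => Nat) (Ptab_213) (Ptab_214) (Nat.ble 214 c)
noncomputable def Ptab_s_212_215 (c : Nat) : Nat := @Bool.rec (fun _ => Nat) (Ptab_212) (Ptab_s_213_215 c) (Nat.ble 213 c)
noncomputable def Ptab_s_216_218 (c : Nat) : Nat := @Bool.rec (fun _ => Nat) (Ptab_216) (Ptab_217) (Nat.ble 217 c)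
noncomputable def Ptab_s_215_218 (c : Nat) : Nat := @Bool.rec (fun _ => Nat) (Ptab_215) (Ptab_s_216_218 c) (Nat.ble 216 c)
noncomputable def Ptab_s_212_218 (c : Nat) : Nat := @Bool.rec (fun _ => Nat) (Ptab_s_212_215 c) (Ptab_s_215_218 c) (Nat.ble 215 c)
noncomputable def Ptab_s_207_218 (c : Nat) : Nat := @Bool.rec (fun _ => Nat) (Ptab_s_207_212 c) (Ptab_s_212_218 c) (Nat.ble 212 c)
noncomputable def Ptab_s_219_221 (c : Nat) : Nat := @Bool.rec (fun _ => Nat) (Ptab_219) (Ptab_220) (Nat.ble 220 c)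
noncomputable def Ptab_s_218_221 (c : Nat) : Nat := @Bool.rec (fun _ => Nat) (Ptab_218) (Ptab_s_219_221 c) (Nat.ble 219 c)
noncomputable def Ptab_s_222_224 (c : Nat) : Nat := @Bool.rec (fun _ => Nat) (Ptab_222) (Ptab_223) (Nat.ble 223 c)
noncomputable def Ptab_s_221_224 (c : Nat) : Nat := @Bool.rec (fun _ => Nat) (Ptab_221) (Ptab_s_222_224 c) (Nat.ble 222 c)
noncomputable def Ptab_s_218_224 (c : Nat) : Nat := @Bool.rec (fun _ => Nat) (Ptab_s_218_221 c) (Ptab_s_221_224 c) (Nat.ble 221 c)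
noncomputable def Ptab_s_225_227 (c : Nat) : Nat := @Bool.rec (fun _ => Nat) (Ptab_225) (Ptab_226) (Nat.ble 226 c)
noncomputable def Ptab_s_224_227 (c : Nat) : Nat := @Bool.rec (fun _ => Nat) (Ptab_224) (Ptab_s_225_227 c) (Nat.ble 225 c)
noncomputable def Ptab_s_228_230 (c : Nat) : Nat := @Bool.rec (fun _ => Nat) (Ptab_228) (Ptab_229) (Nat.ble 229 c)
noncomputable def Ptab_s_227_230 (c : Nat) : Nat := @Bool.rec (fun _ => Nat) (Ptab_227) (Ptab_s_228_230 c) (Nat.ble 228 c)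
noncomputable def Ptab_s_224_230 (c : Nat) : Nat := @Bool.rec (fun _ => Nat) (Ptab_s_224_227 c) (Ptab_s_227_230 c) (Nat.ble 227 c)
noncomputable def Ptab_s_218_230 (c : Nat) : Nat := @Bool.rec (fun _ => Nat) (Ptab_s_218_224 c) (Ptab_s_224_230 c) (Nat.ble 224 c)
noncomputable def Ptab_s_207_230 (c : Nat) : Nat := @Bool.rec (fun _ => Nat) (Ptab_s_207_218 c) (Ptab_s_218_230 c) (Nat.ble 218 c)
noncomputable def Ptab_s_184_230 (c : Nat) : Nat := @Bool.rec (fun _ => Nat) (Ptab_s_184_207 c) (Ptab_s_207_230 c) (Nat.ble 207 c)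
noncomputable def Ptab_s_230_232 (c : Nat) : Nat := @Bool.rec (fun _ => Nat) (Ptab_230) (Ptab_231) (Nat.ble 231 c)
noncomputable def Ptab_s_233_235 (c : Nat) : Nat := @Bool.rec (fun _ => Nat) (Ptab_233) (Ptab_234) (Nat.ble 234 c)
noncomputable def Ptab_s_232_235 (c : Nat) : Nat := @Bool.rec (fun _ => Nat) (Ptab_232) (Ptab_s_233_235 c) (Nat.ble 233 c)
noncomputable def Ptab_s_230_235 (c : Nat) : Nat := @Bool.rec (fun _ => Nat) (Ptab_s_230_232 c) (Ptab_s_232_235 c) (Nat.ble 232 c)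
noncomputable def Ptab_s_236_238 (c : Nat) : Nat := @Bool.rec (fun _ => Nat) (Ptab_236) (Ptab_237) (Nat.ble 237 c)
noncomputable def Ptab_s_235_238 (c : Nat) : Nat := @Bool.rec (fun _ => Nat) (Ptab_235) (Ptab_s_236_238 c) (Nat.ble 236 c)
noncomputable def Ptab_s_239_241 (c : Nat) : Nat := @Bool.rec (fun _ => Nat) (Ptab_239) (Ptab_240) (Nat.ble 240 c)
noncomputable def Ptab_s_238_241 (c : Nat) : Nat := @Bool.rec (fun _ => Nat) (Ptab_238) (Ptab_s_239_241 c) (Nat.ble 239 c)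
noncomputable def Ptab_s_235_241 (c : Nat) : Nat := @Bool.rec (fun _ => Nat) (Ptab_s_235_238 c) (Ptab_s_238_241 c) (Nat.ble 238 c)
noncomputable def Ptab_s_230_241 (c : Nat) : Nat := @Bool.rec (fun _ => Nat) (Ptab_s_230_235 c) (Ptab_s_235_241 c) (Nat.ble 235 c)
noncomputable def Ptab_s_242_244 (c : Nat) : Nat := @Bool.rec (fun _ => Nat) (Ptab_242) (Ptab_243) (Nat.ble 243 c)
noncomputable def Ptab_s_241_244 (c : Nat) : Nat := @Bool.rec (fun _ => Nat) (Ptab_241) (Ptab_s_242_244 c) (Nat.ble 242 c)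
noncomputable def Ptab_s_245_247 (c : Nat) : Nat := @Bool.rec (fun _ => Nat) (Ptab_245) (Ptab_246) (Nat.ble 246 c)
noncomputable def Ptab_s_244_247 (c : Nat) : Nat := @Bool.rec (fun _ => Nat) (Ptab_244) (Ptab_s_245_247 c) (Nat.ble 245 c)
noncomputable def Ptab_s_241_247 (c : Nat) : Nat := @Bool.rec (fun _ => Nat) (Ptab_s_241_244 c) (Ptab_s_244_247 c) (Nat.ble 244 c)
noncomputable def Ptab_s_248_250 (c : Nat) : Nat := @Bool.rec (fun _ => Nat) (Ptab_248) (Ptab_249) (Nat.ble 249 c)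
noncomputable def Ptab_s_247_250 (c : Nat) : Nat := @Bool.rec (fun _ => Nat) (Ptab_247) (Ptab_s_248_250 c) (Nat.ble 248 c)
noncomputable def Ptab_s_251_253 (c : Nat) : Nat := @Bool.rec (fun _ => Nat) (Ptab_251) (Ptab_252) (Nat.ble 252 c)
noncomputable def Ptab_s_250_253 (c : Nat) : Nat := @Bool.rec (fun _ => Nat) (Ptab_250) (Ptab_s_251_253 c) (Nat.ble 251 c)
noncomputable def Ptab_s_247_253 (c : Nat) : Nat := @Bool.rec (fun _ => Nat) (Ptab_s_247_250 c) (Ptab_s_250_253 c) (Nat.ble 250 c)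
noncomputable def Ptab_s_241_253 (c : Nat) : Nat := @Bool.rec (fun _ => Nat) (Ptab_s_241_247 c) (Ptab_s_247_253 c) (Nat.ble 247 c)
noncomputable def Ptab_s_230_253 (c : Nat) : Nat := @Bool.rec (fun _ => Nat) (Ptab_s_230_241 c) (Ptab_s_241_253 c) (Nat.ble 241 c)
noncomputable def Ptab_s_253_255 (c : Nat) : Nat := @Bool.rec (fun _ => Nat) (Ptab_253) (Ptab_254) (Nat.ble 254 c)
noncomputable def Ptab_s_256_258 (c : Nat) : Nat := @Bool.rec (fun _ => Nat) (Ptab_256) (Ptab_257) (Nat.ble 257 c)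
noncomputable def Ptab_s_255_258 (c : Nat) : Nat := @Bool.rec (fun _ => Nat) (Ptab_255) (Ptab_s_256_258 c) (Nat.ble 256 c)
noncomputable def Ptab_s_253_258 (c : Nat) : Nat := @Bool.rec (fun _ => Nat) (Ptab_s_253_255 c) (Ptab_s_255_258 c) (Nat.ble 255 c)
noncomputable def Ptab_s_259_261 (c : Nat) : Nat := @Bool.rec (fun _ => Nat) (Ptab_259) (Ptab_260) (Nat.ble 260 c)
noncomputable def Ptab_s_258_261 (c : Nat) : Nat := @Bool.rec (fun _ => Nat) (Ptab_258) (Ptab_s_259_261 c) (Nat.ble 259 c)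
noncomputable def Ptab_s_262_264 (c : Nat) : Nat := @Bool.rec (fun _ => Nat) (Ptab_262) (Ptab_263) (Nat.ble 263 c)
noncomputable def Ptab_s_261_264 (c : Nat) : Nat := @Bool.rec (fun _ => Nat) (Ptab_261) (Ptab_s_262_264 c) (Nat.ble 262 c)
noncomputable def Ptab_s_258_264 (c : Nat) : Nat := @Bool.rec (fun _ => Nat) (Ptab_s_258_261 c) (Ptab_s_261_264 c) (Nat.ble 261 c)
noncomputable def Ptab_s_253_264 (c : Nat) : Nat := @Bool.rec (fun _ => Nat) (Ptab_s_253_258 c) (Ptab_s_258_264 c) (Nat.ble 258 c)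
noncomputable def Ptab_s_265_267 (c : Nat) : Nat := @Bool.rec (fun _ => Nat) (Ptab_265) (Ptab_266) (Nat.ble 266 c)
noncomputable def Ptab_s_264_267 (c : Nat) : Nat := @Bool.rec (fun _ => Nat) (Ptab_264) (Ptab_s_265_267 c) (Nat.ble 265 c)
noncomputable def Ptab_s_268_270 (c : Nat) : Nat := @Bool.rec (fun _ => Nat) (Ptab_268) (Ptab_269) (Nat.ble 269 c)
noncomputable def Ptab_s_267_270 (c : Nat) : Nat := @Bool.rec (fun _ => Nat) (Ptab_267) (Ptab_s_268_270 c) (Nat.ble 268 c)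
noncomputable def Ptab_s_264_270 (c : Nat) : Nat := @Bool.rec (fun _ => Nat) (Ptab_s_264_267 c) (Ptab_s_267_270 c) (Nat.ble 267 c)
noncomputable def Ptab_s_271_273 (c : Nat) : Nat := @Bool.rec (fun _ => Nat) (Ptab_271) (Ptab_272) (Nat.ble 272 c)
noncomputable def Ptab_s_270_273 (c : Nat) : Nat := @Bool.rec (fun _ => Nat) (Ptab_270) (Ptab_s_271_273 c) (Nat.ble 271 c)
noncomputable def Ptab_s_274_276 (c : Nat) : Nat := @Bool.rec (fun _ => Nat) (Ptab_274) (Ptab_275) (Nat.ble 275 c)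
noncomputable def Ptab_s_273_276 (c : Nat) : Nat := @Bool.rec (fun _ => Nat) (Ptab_273) (Ptab_s_274_276 c) (Nat.ble 274 c)
noncomputable def Ptab_s_270_276 (c : Nat) : Nat := @Bool.rec (fun _ => Nat) (Ptab_s_270_273 c) (Ptab_s_273_276 c) (Nat.ble 273 c)
noncomputable def Ptab_s_264_276 (c : Nat) : Nat := @Bool.rec (fun _ => Nat) (Ptab_s_264_270 c) (Ptab_s_270_276 c) (Nat.ble 270 c)
noncomputable def Ptab_s_253_276 (c : Nat) : Nat := @Bool.rec (fun _ => Nat) (Ptab_s_253_264 c) (Ptab_s_264_276 c) (Nat.ble 264 c)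
noncomputable def Ptab_s_230_276 (c : Nat) : Nat := @Bool.rec (fun _ => Nat) (Ptab_s_230_253 c) (Ptab_s_253_276 c) (Nat.ble 253 c)
noncomputable def Ptab_s_184_276 (c : Nat) : Nat := @Bool.rec (fun _ => Nat) (Ptab_s_184_230 c) (Ptab_s_230_276 c) (Nat.ble 230 c)
noncomputable def Ptab_s_276_278 (c : Nat) : Nat := @Bool.rec (fun _ => Nat) (Ptab_276) (Ptab_277) (Nat.ble 277 c)
noncomputable def Ptab_s_279_281 (c : Nat) : Nat := @Bool.rec (fun _ => Nat) (Ptab_279) (Ptab_280) (Nat.ble 280 c)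
noncomputable def Ptab_s_278_281 (c : Nat) : Nat := @Bool.rec (fun _ => Nat) (Ptab_278) (Ptab_s_279_281 c) (Nat.ble 279 c)
noncomputable def Ptab_s_276_281 (c : Nat) : Nat := @Bool.rec (fun _ => Nat) (Ptab_s_276_278 c) (Ptab_s_278_281 c) (Nat.ble 278 c)
noncomputable def Ptab_s_282_284 (c : Nat) : Nat := @Bool.rec (fun _ => Nat) (Ptab_282) (Ptab_283) (Nat.ble 283 c)
noncomputable def Ptab_s_281_284 (c : Nat) : Nat := @Bool.rec (fun _ => Nat) (Ptab_281) (Ptab_s_282_284 c) (Nat.ble 282 c)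
noncomputable def Ptab_s_285_287 (c : Nat) : Nat := @Bool.rec (fun _ => Nat) (Ptab_285) (Ptab_286) (Nat.ble 286 c)
noncomputable def Ptab_s_284_287 (c : Nat) : Nat := @Bool.rec (fun _ => Nat) (Ptab_284) (Ptab_s_285_287 c) (Nat.ble 285 c)
noncomputable def Ptab_s_281_287 (c : Nat) : Nat := @Bool.rec (fun _ => Nat) (Ptab_s_281_284 c) (Ptab_s_284_287 c) (Nat.ble 284 c)
noncomputable def Ptab_s_276_287 (c : Nat) : Nat := @Bool.rec (fun _ => Nat) (Ptab_s_276_281 c) (Ptab_s_281_287 c) (Nat.ble 281 c)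
noncomputable def Ptab_s_288_290 (c : Nat) : Nat := @Bool.rec (fun _ => Nat) (Ptab_288) (Ptab_289) (Nat.ble 289 c)
noncomputable def Ptab_s_287_290 (c : Nat) : Nat := @Bool.rec (fun _ => Nat) (Ptab_287) (Ptab_s_288_290 c) (Nat.ble 288 c)
noncomputable def Ptab_s_291_293 (c : Nat) : Nat := @Bool.rec (fun _ => Nat) (Ptab_291) (Ptab_292) (Nat.ble 292 c)
noncomputable def Ptab_s_290_293 (c : Nat) : Nat := @Bool.rec (fun _ => Nat) (Ptab_290) (Ptab_s_291_293 c) (Nat.ble 291 c)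
noncomputable def Ptab_s_287_293 (c : Nat) : Nat := @Bool.rec (fun _ => Nat) (Ptab_s_287_290 c) (Ptab_s_290_293 c) (Nat.ble 290 c)
noncomputable def Ptab_s_294_296 (c : Nat) : Nat := @Bool.rec (fun _ => Nat) (Ptab_294) (Ptab_295) (Nat.ble 295 c)
noncomputable def Ptab_s_293_296 (c : Nat) : Nat := @Bool.rec (fun _ => Nat) (Ptab_293) (Ptab_s_294_296 c) (Nat.ble 294 c)
noncomputable def Ptab_s_297_299 (c : Nat) : Nat := @Bool.rec (fun _ => Nat) (Ptab_297) (Ptab_298) (Nat.ble 298 c)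
noncomputable def Ptab_s_296_299 (c : Nat) : Nat := @Bool.rec (fun _ => Nat) (Ptab_296) (Ptab_s_297_299 c) (Nat.ble 297 c)
noncomputable def Ptab_s_293_299 (c : Nat) : Nat := @Bool.rec (fun _ => Nat) (Ptab_s_293_296 c) (Ptab_s_296_299 c) (Nat.ble 296 c)
noncomputable def Ptab_s_287_299 (c : Nat) : Nat := @Bool.rec (fun _ => Nat) (Ptab_s_287_293 c) (Ptab_s_293_299 c) (Nat.ble 293 c)
noncomputable def Ptab_s_276_299 (c : Nat) : Nat := @Bool.rec (fun _ => Nat) (Ptab_s_276_287 c) (Ptab_s_287_299 c) (Nat.ble 287 c)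
noncomputable def Ptab_s_299_301 (c : Nat) : Nat := @Bool.rec (fun _ => Nat) (Ptab_299) (Ptab_300) (Nat.ble 300 c)
noncomputable def Ptab_s_302_304 (c : Nat) : Nat := @Bool.rec (fun _ => Nat) (Ptab_302) (Ptab_303) (Nat.ble 303 c)
noncomputable def Ptab_s_301_304 (c : Nat) : Nat := @Bool.rec (fun _ => Nat) (Ptab_301) (Ptab_s_302_304 c) (Nat.ble 302 c)
noncomputable def Ptab_s_299_304 (c : Nat) : Nat := @Bool.rec (fun _ => Nat) (Ptab_s_299_301 c) (Ptab_s_301_304 c) (Nat.ble 301 c)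
noncomputable def Ptab_s_305_307 (c : Nat) : Nat := @Bool.rec (fun _ => Nat) (Ptab_305) (Ptab_306) (Nat.ble 306 c)
noncomputable def Ptab_s_304_307 (c : Nat) : Nat := @Bool.rec (fun _ => Nat) (Ptab_304) (Ptab_s_305_307 c) (Nat.ble 305 c)
noncomputable def Ptab_s_308_310 (c : Nat) : Nat := @Bool.rec (fun _ => Nat) (Ptab_308) (Ptab_309) (Nat.ble 309 c)
noncomputable def Ptab_s_307_310 (c : Nat) : Nat := @Bool.rec (fun _ => Nat) (Ptab_307) (Ptab_s_308_310 c) (Nat.ble 308 c)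
noncomputable def Ptab_s_304_310 (c : Nat) : Nat := @Bool.rec (fun _ => Nat) (Ptab_s_304_307 c) (Ptab_s_307_310 c) (Nat.ble 307 c)
noncomputable def Ptab_s_299_310 (c : Nat) : Nat := @Bool.rec (fun _ => Nat) (Ptab_s_299_304 c) (Ptab_s_304_310 c) (Nat.ble 304 c)
noncomputable def Ptab_s_311_313 (c : Nat) : Nat := @Bool.rec (fun _ => Nat) (Ptab_311) (Ptab_312) (Nat.ble 312 c)
noncomputable def Ptab_s_310_313 (c : Nat) : Nat := @Bool.rec (fun _ => Nat) (Ptab_310) (Ptab_s_311_313 c) (Nat.ble 311 c)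
noncomputable def Ptab_s_314_316 (c : Nat) : Nat := @Bool.rec (fun _ => Nat) (Ptab_314) (Ptab_315) (Nat.ble 315 c)
noncomputable def Ptab_s_313_316 (c : Nat) : Nat := @Bool.rec (fun _ => Nat) (Ptab_313) (Ptab_s_314_316 c) (Nat.ble 314 c)
noncomputable def Ptab_s_310_316 (c : Nat) : Nat := @Bool.rec (fun _ => Nat) (Ptab_s_310_313 c) (Ptab_s_313_316 c) (Nat.ble 313 c)
noncomputable def Ptab_s_317_319 (c : Nat) : Nat := @Bool.rec (fun _ => Nat) (Ptab_317) (Ptab_318) (Nat.ble 318 c)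
noncomputable def Ptab_s_316_319 (c : Nat) : Nat := @Bool.rec (fun _ => Nat) (Ptab_316) (Ptab_s_317_319 c) (Nat.ble 317 c)
noncomputable def Ptab_s_320_322 (c : Nat) : Nat := @Bool.rec (fun _ => Nat) (Ptab_320) (Ptab_321) (Nat.ble 321 c)
noncomputable def Ptab_s_319_322 (c : Nat) : Nat := @Bool.rec (fun _ => Nat) (Ptab_319) (Ptab_s_320_322 c) (Nat.ble 320 c)
noncomputable def Ptab_s_316_322 (c : Nat) : Nat := @Bool.rec (fun _ => Nat) (Ptab_s_316_319 c) (Ptab_s_319_322 c) (Nat.ble 319 c)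
noncomputable def Ptab_s_310_322 (c : Nat) : Nat := @Bool.rec (fun _ => Nat) (Ptab_s_310_316 c) (Ptab_s_316_322 c) (Nat.ble 316 c)
noncomputable def Ptab_s_299_322 (c : Nat) : Nat := @Bool.rec (fun _ => Nat) (Ptab_s_299_310 c) (Ptab_s_310_322 c) (Nat.ble 310 c)
noncomputable def Ptab_s_276_322 (c : Nat) : Nat := @Bool.rec (fun _ => Nat) (Ptab_s_276_299 c) (Ptab_s_299_322 c) (Nat.ble 299 c)
noncomputable def Ptab_s_322_324 (c : Nat) : Nat := @Bool.rec (fun _ => Nat) (Ptab_322) (Ptab_323) (Nat.ble 323 c)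
noncomputable def Ptab_s_325_327 (c : Nat) : Nat := @Bool.rec (fun _ => Nat) (Ptab_325) (Ptab_326) (Nat.ble 326 c)
noncomputable def Ptab_s_324_327 (c : Nat) : Nat := @Bool.rec (fun _ => Nat) (Ptab_324) (Ptab_s_325_327 c) (Nat.ble 325 c)
noncomputable def Ptab_s_322_327 (c : Nat) : Nat := @Bool.rec (fun _ => Nat) (Ptab_s_322_324 c) (Ptab_s_324_327 c) (Nat.ble 324 c)
noncomputable def Ptab_s_328_330 (c : Nat) : Nat := @Bool.rec (fun _ => Nat) (Ptab_328) (Ptab_329) (Nat.ble 329 c)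
noncomputable def Ptab_s_327_330 (c : Nat) : Nat := @Bool.rec (fun _ => Nat) (Ptab_327) (Ptab_s_328_330 c) (Nat.ble 328 c)
noncomputable def Ptab_s_331_333 (c : Nat) : Nat := @Bool.rec (fun _ => Nat) (Ptab_331) (Ptab_332) (Nat.ble 332 c)
noncomputable def Ptab_s_330_333 (c : Nat) : Nat := @Bool.rec (fun _ => Nat) (Ptab_330) (Ptab_s_331_333 c) (Nat.ble 331 c)
noncomputable def Ptab_s_327_333 (c : Nat) : Nat := @Bool.rec (fun _ => Nat) (Ptab_s_327_330 c) (Ptab_s_330_333 c) (Nat.ble 330 c)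
noncomputable def Ptab_s_322_333 (c : Nat) : Nat := @Bool.rec (fun _ => Nat) (Ptab_s_322_327 c) (Ptab_s_327_333 c) (Nat.ble 327 c)
noncomputable def Ptab_s_334_336 (c : Nat) : Nat := @Bool.rec (fun _ => Nat) (Ptab_334) (Ptab_335) (Nat.ble 335 c)
noncomputable def Ptab_s_333_336 (c : Nat) : Nat := @Bool.rec (fun _ => Nat) (Ptab_333) (Ptab_s_334_336 c) (Nat.ble 334 c)
noncomputable def Ptab_s_337_339 (c : Nat) : Nat := @Bool.rec (fun _ => Nat) (Ptab_337) (Ptab_338) (Nat.ble 338 c)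
noncomputable def Ptab_s_336_339 (c : Nat) : Nat := @Bool.rec (fun _ => Nat) (Ptab_336) (Ptab_s_337_339 c) (Nat.ble 337 c)
noncomputable def Ptab_s_333_339 (c : Nat) : Nat := @Bool.rec (fun _ => Nat) (Ptab_s_333_336 c) (Ptab_s_336_339 c) (Nat.ble 336 c)
noncomputable def Ptab_s_340_342 (c : Nat) : Nat := @Bool.rec (fun _ => Nat) (Ptab_340) (Ptab_341) (Nat.ble 341 c)
noncomputable def Ptab_s_339_342 (c : Nat) : Nat := @Bool.rec (fun _ => Nat) (Ptab_339) (Ptab_s_340_342 c) (Nat.ble 340 c)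
noncomputable def Ptab_s_343_345 (c : Nat) : Nat := @Bool.rec (fun _ => Nat) (Ptab_343) (Ptab_344) (Nat.ble 344 c)
noncomputable def Ptab_s_342_345 (c : Nat) : Nat := @Bool.rec (fun _ => Nat) (Ptab_342) (Ptab_s_343_345 c) (Nat.ble 343 c)
noncomputable def Ptab_s_339_345 (c : Nat) : Nat := @Bool.rec (fun _ => Nat) (Ptab_s_339_342 c) (Ptab_s_342_345 c) (Nat.ble 342 c)
noncomputable def Ptab_s_333_345 (c : Nat) : Nat := @Bool.rec (fun _ => Nat) (Ptab_s_333_339 c) (Ptab_s_339_345 c) (Nat.ble 339 c)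
noncomputable def Ptab_s_322_345 (c : Nat) : Nat := @Bool.rec (fun _ => Nat) (Ptab_s_322_333 c) (Ptab_s_333_345 c) (Nat.ble 333 c)
noncomputable def Ptab_s_345_347 (c : Nat) : Nat := @Bool.rec (fun _ => Nat) (Ptab_345) (Ptab_346) (Nat.ble 346 c)
noncomputable def Ptab_s_348_350 (c : Nat) : Nat := @Bool.rec (fun _ => Nat) (Ptab_348) (Ptab_349) (Nat.ble 349 c)
noncomputable def Ptab_s_347_350 (c : Nat) : Nat := @Bool.rec (fun _ => Nat) (Ptab_347) (Ptab_s_348_350 c) (Nat.ble 348 c)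
noncomputable def Ptab_s_345_350 (c : Nat) : Nat := @Bool.rec (fun _ => Nat) (Ptab_s_345_347 c) (Ptab_s_347_350 c) (Nat.ble 347 c)
noncomputable def Ptab_s_351_353 (c : Nat) : Nat := @Bool.rec (fun _ => Nat) (Ptab_351) (Ptab_352) (Nat.ble 352 c)
noncomputable def Ptab_s_350_353 (c : Nat) : Nat := @Bool.rec (fun _ => Nat) (Ptab_350) (Ptab_s_351_353 c) (Nat.ble 351 c)
noncomputable def Ptab_s_354_356 (c : Nat) : Nat := @Bool.rec (fun _ => Nat) (Ptab_354) (Ptab_355) (Nat.ble 355 c)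
noncomputable def Ptab_s_353_356 (c : Nat) : Nat := @Bool.rec (fun _ => Nat) (Ptab_353) (Ptab_s_354_356 c) (Nat.ble 354 c)
noncomputable def Ptab_s_350_356 (c : Nat) : Nat := @Bool.rec (fun _ => Nat) (Ptab_s_350_353 c) (Ptab_s_353_356 c) (Nat.ble 353 c)
noncomputable def Ptab_s_345_356 (c : Nat) : Nat := @Bool.rec (fun _ => Nat) (Ptab_s_345_350 c) (Ptab_s_350_356 c) (Nat.ble 350 c)
noncomputable def Ptab_s_357_359 (c : Nat) : Nat := @Bool.rec (fun _ => Nat) (Ptab_357) (Ptab_358) (Nat.ble 358 c)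
noncomputable def Ptab_s_356_359 (c : Nat) : Nat := @Bool.rec (fun _ => Nat) (Ptab_356) (Ptab_s_357_359 c) (Nat.ble 357 c)
noncomputable def Ptab_s_360_362 (c : Nat) : Nat := @Bool.rec (fun _ => Nat) (Ptab_360) (Ptab_361) (Nat.ble 361 c)
noncomputable def Ptab_s_359_362 (c : Nat) : Nat := @Bool.rec (fun _ => Nat) (Ptab_359) (Ptab_s_360_362 c) (Nat.ble 360 c)
noncomputable def Ptab_s_356_362 (c : Nat) : Nat := @Bool.rec (fun _ => Nat) (Ptab_s_356_359 c) (Ptab_s_359_362 c) (Nat.ble 359 c)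
noncomputable def Ptab_s_363_365 (c : Nat) : Nat := @Bool.rec (fun _ => Nat) (Ptab_363) (Ptab_364) (Nat.ble 364 c)
noncomputable def Ptab_s_362_365 (c : Nat) : Nat := @Bool.rec (fun _ => Nat) (Ptab_362) (Ptab_s_363_365 c) (Nat.ble 363 c)
noncomputable def Ptab_s_366_368 (c : Nat) : Nat := @Bool.rec (fun _ => Nat) (Ptab_366) (Ptab_367) (Nat.ble 367 c)
noncomputable def Ptab_s_365_368 (c : Nat) : Nat := @Bool.rec (fun _ => Nat) (Ptab_365) (Ptab_s_366_368 c) (Nat.ble 366 c)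
noncomputable def Ptab_s_362_368 (c : Nat) : Nat := @Bool.rec (fun _ => Nat) (Ptab_s_362_365 c) (Ptab_s_365_368 c) (Nat.ble 365 c)
noncomputable def Ptab_s_356_368 (c : Nat) : Nat := @Bool.rec (fun _ => Nat) (Ptab_s_356_362 c) (Ptab_s_362_368 c) (Nat.ble 362 c)
noncomputable def Ptab_s_345_368 (c : Nat) : Nat := @Bool.rec (fun _ => Nat) (Ptab_s_345_356 c) (Ptab_s_356_368 c) (Nat.ble 356 c)
noncomputable def Ptab_s_322_368 (c : Nat) : Nat := @Bool.rec (fun _ => Nat) (Ptab_s_322_345 c) (Ptab_s_345_368 c) (Nat.ble 345 c)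
noncomputable def Ptab_s_276_368 (c : Nat) : Nat := @Bool.rec (fun _ => Nat) (Ptab_s_276_322 c) (Ptab_s_322_368 c) (Nat.ble 322 c)
noncomputable def Ptab_s_184_368 (c : Nat) : Nat := @Bool.rec (fun _ => Nat) (Ptab_s_184_276 c) (Ptab_s_276_368 c) (Nat.ble 276 c)
noncomputable def Ptab_s_0_368 (c : Nat) : Nat := @Bool.rec (fun _ => Nat) (Ptab_s_0_184 c) (Ptab_s_184_368 c) (Nat.ble 184 c)
noncomputable def Ptab_s_368_370 (c : Nat) : Nat := @Bool.rec (fun _ => Nat) (Ptab_368) (Ptab_369) (Nat.ble 369 c)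
noncomputable def Ptab_s_371_373 (c : Nat) : Nat := @Bool.rec (fun _ => Nat) (Ptab_371) (Ptab_372) (Nat.ble 372 c)
noncomputable def Ptab_s_370_373 (c : Nat) : Nat := @Bool.rec (fun _ => Nat) (Ptab_370) (Ptab_s_371_373 c) (Nat.ble 371 c)
noncomputable def Ptab_s_368_373 (c : Nat) : Nat := @Bool.rec (fun _ => Nat) (Ptab_s_368_370 c) (Ptab_s_370_373 c) (Nat.ble 370 c)
noncomputable def Ptab_s_374_376 (c : Nat) : Nat := @Bool.rec (fun _ => Nat) (Ptab_374) (Ptab_375) (Nat.ble 375 c)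
noncomputable def Ptab_s_373_376 (c : Nat) : Nat := @Bool.rec (fun _ => Nat) (Ptab_373) (Ptab_s_374_376 c) (Nat.ble 374 c)
noncomputable def Ptab_s_377_379 (c : Nat) : Nat := @Bool.rec (fun _ => Nat) (Ptab_377) (Ptab_378) (Nat.ble 378 c)
noncomputable def Ptab_s_376_379 (c : Nat) : Nat := @Bool.rec (fun _ => Nat) (Ptab_376) (Ptab_s_377_379 c) (Nat.ble 377 c)
noncomputable def Ptab_s_373_379 (c : Nat) : Nat := @Bool.rec (fun _ => Nat) (Ptab_s_373_376 c) (Ptab_s_376_379 c) (Nat.ble 376 c)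
noncomputable def Ptab_s_368_379 (c : Nat) : Nat := @Bool.rec (fun _ => Nat) (Ptab_s_368_373 c) (Ptab_s_373_379 c) (Nat.ble 373 c)
noncomputable def Ptab_s_380_382 (c : Nat) : Nat := @Bool.rec (fun _ => Nat) (Ptab_380) (Ptab_381) (Nat.ble 381 c)
noncomputable def Ptab_s_379_382 (c : Nat) : Nat := @Bool.rec (fun _ => Nat) (Ptab_379) (Ptab_s_380_382 c) (Nat.ble 380 c)
noncomputable def Ptab_s_383_385 (c : Nat) : Nat := @Bool.rec (fun _ => Nat) (Ptab_383) (Ptab_384) (Nat.ble 384 c)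
noncomputable def Ptab_s_382_385 (c : Nat) : Nat := @Bool.rec (fun _ => Nat) (Ptab_382) (Ptab_s_383_385 c) (Nat.ble 383 c)
noncomputable def Ptab_s_379_385 (c : Nat) : Nat := @Bool.rec (fun _ => Nat) (Ptab_s_379_382 c) (Ptab_s_382_385 c) (Nat.ble 382 c)
noncomputable def Ptab_s_386_388 (c : Nat) : Nat := @Bool.rec (fun _ => Nat) (Ptab_386) (Ptab_387) (Nat.ble 387 c)
noncomputable def Ptab_s_385_388 (c : Nat) : Nat := @Bool.rec (fun _ => Nat) (Ptab_385) (Ptab_s_386_388 c) (Nat.ble 386 c)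
noncomputable def Ptab_s_389_391 (c : Nat) : Nat := @Bool.rec (fun _ => Nat) (Ptab_389) (Ptab_390) (Nat.ble 390 c)
noncomputable def Ptab_s_388_391 (c : Nat) : Nat := @Bool.rec (fun _ => Nat) (Ptab_388) (Ptab_s_389_391 c) (Nat.ble 389 c)
noncomputable def Ptab_s_385_391 (c : Nat) : Nat := @Bool.rec (fun _ => Nat) (Ptab_s_385_388 c) (Ptab_s_388_391 c) (Nat.ble 388 c)
noncomputable def Ptab_s_379_391 (c : Nat) : Nat := @Bool.rec (fun _ => Nat) (Ptab_s_379_385 c) (Ptab_s_385_391 c) (Nat.ble 385 c)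
noncomputable def Ptab_s_368_391 (c : Nat) : Nat := @Bool.rec (fun _ => Nat) (Ptab_s_368_379 c) (Ptab_s_379_391 c) (Nat.ble 379 c)
noncomputable def Ptab_s_391_393 (c : Nat) : Nat := @Bool.rec (fun _ => Nat) (Ptab_391) (Ptab_392) (Nat.ble 392 c)
noncomputable def Ptab_s_394_396 (c : Nat) : Nat := @Bool.rec (fun _ => Nat) (Ptab_394) (Ptab_395) (Nat.ble 395 c)
noncomputable def Ptab_s_393_396 (c : Nat) : Nat := @Bool.rec (fun _ => Nat) (Ptab_393) (Ptab_s_394_396 c) (Nat.ble 394 c)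
noncomputable def Ptab_s_391_396 (c : Nat) : Nat := @Bool.rec (fun _ => Nat) (Ptab_s_391_393 c) (Ptab_s_393_396 c) (Nat.ble 393 c)
noncomputable def Ptab_s_397_399 (c : Nat) : Nat := @Bool.rec (fun _ => Nat) (Ptab_397) (Ptab_398) (Nat.ble 398 c)
noncomputable def Ptab_s_396_399 (c : Nat) : Nat := @Bool.rec (fun _ => Nat) (Ptab_396) (Ptab_s_397_399 c) (Nat.ble 397 c)
noncomputable def Ptab_s_400_402 (c : Nat) : Nat := @Bool.rec (fun _ => Nat) (Ptab_400) (Ptab_401) (Nat.ble 401 c)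
noncomputable def Ptab_s_399_402 (c : Nat) : Nat := @Bool.rec (fun _ => Nat) (Ptab_399) (Ptab_s_400_402 c) (Nat.ble 400 c)
noncomputable def Ptab_s_396_402 (c : Nat) : Nat := @Bool.rec (fun _ => Nat) (Ptab_s_396_399 c) (Ptab_s_399_402 c) (Nat.ble 399 c)
noncomputable def Ptab_s_391_402 (c : Nat) : Nat := @Bool.rec (fun _ => Nat) (Ptab_s_391_396 c) (Ptab_s_396_402 c) (Nat.ble 396 c)
noncomputable def Ptab_s_403_405 (c : Nat) : Nat := @Bool.rec (fun _ => Nat) (Ptab_403) (Ptab_404) (Nat.ble 404 c)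
noncomputable def Ptab_s_402_405 (c : Nat) : Nat := @Bool.rec (fun _ => Nat) (Ptab_402) (Ptab_s_403_405 c) (Nat.ble 403 c)
noncomputable def Ptab_s_406_408 (c : Nat) : Nat := @Bool.rec (fun _ => Nat) (Ptab_406) (Ptab_407) (Nat.ble 407 c)
noncomputable def Ptab_s_405_408 (c : Nat) : Nat := @Bool.rec (fun _ => Nat) (Ptab_405) (Ptab_s_406_408 c) (Nat.ble 406 c)
noncomputable def Ptab_s_402_408 (c : Nat) : Nat := @Bool.rec (fun _ => Nat) (Ptab_s_402_405 c) (Ptab_s_405_408 c) (Nat.ble 405 c)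
noncomputable def Ptab_s_409_411 (c : Nat) : Nat := @Bool.rec (fun _ => Nat) (Ptab_409) (Ptab_410) (Nat.ble 410 c)
noncomputable def Ptab_s_408_411 (c : Nat) : Nat := @Bool.rec (fun _ => Nat) (Ptab_408) (Ptab_s_409_411 c) (Nat.ble 409 c)
noncomputable def Ptab_s_412_414 (c : Nat) : Nat := @Bool.rec (fun _ => Nat) (Ptab_412) (Ptab_413) (Nat.ble 413 c)
noncomputable def Ptab_s_411_414 (c : Nat) : Nat := @Bool.rec (fun _ => Nat) (Ptab_411) (Ptab_s_412_414 c) (Nat.ble 412 c)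
noncomputable def Ptab_s_408_414 (c : Nat) : Nat := @Bool.rec (fun _ => Nat) (Ptab_s_408_411 c) (Ptab_s_411_414 c) (Nat.ble 411 c)
noncomputable def Ptab_s_402_414 (c : Nat) : Nat := @Bool.rec (fun _ => Nat) (Ptab_s_402_408 c) (Ptab_s_408_414 c) (Nat.ble 408 c)
noncomputable def Ptab_s_391_414 (c : Nat) : Nat := @Bool.rec (fun _ => Nat) (Ptab_s_391_402 c) (Ptab_s_402_414 c) (Nat.ble 402 c)
noncomputable def Ptab_s_368_414 (c : Nat) : Nat := @Bool.rec (fun _ => Nat) (Ptab_s_368_391 c) (Ptab_s_391_414 c) (Nat.ble 391 c)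
noncomputable def Ptab_s_414_416 (c : Nat) : Nat := @Bool.rec (fun _ => Nat) (Ptab_414) (Ptab_415) (Nat.ble 415 c)
noncomputable def Ptab_s_417_419 (c : Nat) : Nat := @Bool.rec (fun _ => Nat) (Ptab_417) (Ptab_418) (Nat.ble 418 c)
noncomputable def Ptab_s_416_419 (c : Nat) : Nat := @Bool.rec (fun _ => Nat) (Ptab_416) (Ptab_s_417_419 c) (Nat.ble 417 c)
noncomputable def Ptab_s_414_419 (c : Nat) : Nat := @Bool.rec (fun _ => Nat) (Ptab_s_414_416 c) (Ptab_s_416_419 c) (Nat.ble 416 c)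
noncomputable def Ptab_s_420_422 (c : Nat) : Nat := @Bool.rec (fun _ => Nat) (Ptab_420) (Ptab_421) (Nat.ble 421 c)
noncomputable def Ptab_s_419_422 (c : Nat) : Nat := @Bool.rec (fun _ => Nat) (Ptab_419) (Ptab_s_420_422 c) (Nat.ble 420 c)
noncomputable def Ptab_s_423_425 (c : Nat) : Nat := @Bool.rec (fun _ => Nat) (Ptab_423) (Ptab_424) (Nat.ble 424 c)
noncomputable def Ptab_s_422_425 (c : Nat) : Nat := @Bool.rec (fun _ => Nat) (Ptab_422) (Ptab_s_423_425 c) (Nat.ble 423 c)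
noncomputable def Ptab_s_419_425 (c : Nat) : Nat := @Bool.rec (fun _ => Nat) (Ptab_s_419_422 c) (Ptab_s_422_425 c) (Nat.ble 422 c)
noncomputable def Ptab_s_414_425 (c : Nat) : Nat := @Bool.rec (fun _ => Nat) (Ptab_s_414_419 c) (Ptab_s_419_425 c) (Nat.ble 419 c)
noncomputable def Ptab_s_426_428 (c : Nat) : Nat := @Bool.rec (fun _ => Nat) (Ptab_426) (Ptab_427) (Nat.ble 427 c)
noncomputable def Ptab_s_425_428 (c : Nat) : Nat := @Bool.rec (fun _ => Nat) (Ptab_425) (Ptab_s_426_428 c) (Nat.ble 426 c)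
noncomputable def Ptab_s_429_431 (c : Nat) : Nat := @Bool.rec (fun _ => Nat) (Ptab_429) (Ptab_430) (Nat.ble 430 c)
noncomputable def Ptab_s_428_431 (c : Nat) : Nat := @Bool.rec (fun _ => Nat) (Ptab_428) (Ptab_s_429_431 c) (Nat.ble 429 c)
noncomputable def Ptab_s_425_431 (c : Nat) : Nat := @Bool.rec (fun _ => Nat) (Ptab_s_425_428 c) (Ptab_s_428_431 c) (Nat.ble 428 c)
noncomputable def Ptab_s_432_434 (c : Nat) : Nat := @Bool.rec (fun _ => Nat) (Ptab_432) (Ptab_433) (Nat.ble 433 c)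
noncomputable def Ptab_s_431_434 (c : Nat) : Nat := @Bool.rec (fun _ => Nat) (Ptab_431) (Ptab_s_432_434 c) (Nat.ble 432 c)
noncomputable def Ptab_s_435_437 (c : Nat) : Nat := @Bool.rec (fun _ => Nat) (Ptab_435) (Ptab_436) (Nat.ble 436 c)
noncomputable def Ptab_s_434_437 (c : Nat) : Nat := @Bool.rec (fun _ => Nat) (Ptab_434) (Ptab_s_435_437 c) (Nat.ble 435 c)
noncomputable def Ptab_s_431_437 (c : Nat) : Nat := @Bool.rec (fun _ => Nat) (Ptab_s_431_434 c) (Ptab_s_434_437 c) (Nat.ble 434 c)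
noncomputable def Ptab_s_425_437 (c : Nat) : Nat := @Bool.rec (fun _ => Nat) (Ptab_s_425_431 c) (Ptab_s_431_437 c) (Nat.ble 431 c)
noncomputable def Ptab_s_414_437 (c : Nat) : Nat := @Bool.rec (fun _ => Nat) (Ptab_s_414_425 c) (Ptab_s_425_437 c) (Nat.ble 425 c)
noncomputable def Ptab_s_437_439 (c : Nat) : Nat := @Bool.rec (fun _ => Nat) (Ptab_437) (Ptab_438) (Nat.ble 438 c)
noncomputable def Ptab_s_440_442 (c : Nat) : Nat := @Bool.rec (fun _ => Nat) (Ptab_440) (Ptab_441) (Nat.ble 441 c)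
noncomputable def Ptab_s_439_442 (c : Nat) : Nat := @Bool.rec (fun _ => Nat) (Ptab_439) (Ptab_s_440_442 c) (Nat.ble 440 c)
noncomputable def Ptab_s_437_442 (c : Nat) : Nat := @Bool.rec (fun _ => Nat) (Ptab_s_437_439 c) (Ptab_s_439_442 c) (Nat.ble 439 c)
noncomputable def Ptab_s_443_445 (c : Nat) : Nat := @Bool.rec (fun _ => Nat) (Ptab_443) (Ptab_444) (Nat.ble 444 c)
noncomputable def Ptab_s_442_445 (c : Nat) : Nat := @Bool.rec (fun _ => Nat) (Ptab_442) (Ptab_s_443_445 c) (Nat.ble 443 c)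
noncomputable def Ptab_s_446_448 (c : Nat) : Nat := @Bool.rec (fun _ => Nat) (Ptab_446) (Ptab_447) (Nat.ble 447 c)
noncomputable def Ptab_s_445_448 (c : Nat) : Nat := @Bool.rec (fun _ => Nat) (Ptab_445) (Ptab_s_446_448 c) (Nat.ble 446 c)
noncomputable def Ptab_s_442_448 (c : Nat) : Nat := @Bool.rec (fun _ => Nat) (Ptab_s_442_445 c) (Ptab_s_445_448 c) (Nat.ble 445 c)
noncomputable def Ptab_s_437_448 (c : Nat) : Nat := @Bool.rec (fun _ => Nat) (Ptab_s_437_442 c) (Ptab_s_442_448 c) (Nat.ble 442 c)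
noncomputable def Ptab_s_449_451 (c : Nat) : Nat := @Bool.rec (fun _ => Nat) (Ptab_449) (Ptab_450) (Nat.ble 450 c)
noncomputable def Ptab_s_448_451 (c : Nat) : Nat := @Bool.rec (fun _ => Nat) (Ptab_448) (Ptab_s_449_451 c) (Nat.ble 449 c)
noncomputable def Ptab_s_452_454 (c : Nat) : Nat := @Bool.rec (fun _ => Nat) (Ptab_452) (Ptab_453) (Nat.ble 453 c)
noncomputable def Ptab_s_451_454 (c : Nat) : Nat := @Bool.rec (fun _ => Nat) (Ptab_451) (Ptab_s_452_454 c) (Nat.ble 452 c)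
noncomputable def Ptab_s_448_454 (c : Nat) : Nat := @Bool.rec (fun _ => Nat) (Ptab_s_448_451 c) (Ptab_s_451_454 c) (Nat.ble 451 c)
noncomputable def Ptab_s_455_457 (c : Nat) : Nat := @Bool.rec (fun _ => Nat) (Ptab_455) (Ptab_456) (Nat.ble 456 c)
noncomputable def Ptab_s_454_457 (c : Nat) : Nat := @Bool.rec (fun _ => Nat) (Ptab_454) (Ptab_s_455_457 c) (Nat.ble 455 c)
noncomputable def Ptab_s_458_460 (c : Nat) : Nat := @Bool.rec (fun _ => Nat) (Ptab_458) (Ptab_459) (Nat.ble 459 c)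
noncomputable def Ptab_s_457_460 (c : Nat) : Nat := @Bool.rec (fun _ => Nat) (Ptab_457) (Ptab_s_458_460 c) (Nat.ble 458 c)
noncomputable def Ptab_s_454_460 (c : Nat) : Nat := @Bool.rec (fun _ => Nat) (Ptab_s_454_457 c) (Ptab_s_457_460 c) (Nat.ble 457 c)
noncomputable def Ptab_s_448_460 (c : Nat) : Nat := @Bool.rec (fun _ => Nat) (Ptab_s_448_454 c) (Ptab_s_454_460 c) (Nat.ble 454 c)
noncomputable def Ptab_s_437_460 (c : Nat) : Nat := @Bool.rec (fun _ => Nat) (Ptab_s_437_448 c) (Ptab_s_448_460 c) (Nat.ble 448 c)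
noncomputable def Ptab_s_414_460 (c : Nat) : Nat := @Bool.rec (fun _ => Nat) (Ptab_s_414_437 c) (Ptab_s_437_460 c) (Nat.ble 437 c)
noncomputable def Ptab_s_368_460 (c : Nat) : Nat := @Bool.rec (fun _ => Nat) (Ptab_s_368_414 c) (Ptab_s_414_460 c) (Nat.ble 414 c)
noncomputable def Ptab_s_460_462 (c : Nat) : Nat := @Bool.rec (fun _ => Nat) (Ptab_460) (Ptab_461) (Nat.ble 461 c)
noncomputable def Ptab_s_463_465 (c : Nat) : Nat := @Bool.rec (fun _ => Nat) (Ptab_463) (Ptab_464) (Nat.ble 464 c)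
noncomputable def Ptab_s_462_465 (c : Nat) : Nat := @Bool.rec (fun _ => Nat) (Ptab_462) (Ptab_s_463_465 c) (Nat.ble 463 c)
noncomputable def Ptab_s_460_465 (c : Nat) : Nat := @Bool.rec (fun _ => Nat) (Ptab_s_460_462 c) (Ptab_s_462_465 c) (Nat.ble 462 c)
noncomputable def Ptab_s_466_468 (c : Nat) : Nat := @Bool.rec (fun _ => Nat) (Ptab_466) (Ptab_467) (Nat.ble 467 c)
noncomputable def Ptab_s_465_468 (c : Nat) : Nat := @Bool.rec (fun _ => Nat) (Ptab_465) (Ptab_s_466_468 c) (Nat.ble 466 c)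
noncomputable def Ptab_s_469_471 (c : Nat) : Nat := @Bool.rec (fun _ => Nat) (Ptab_469) (Ptab_470) (Nat.ble 470 c)
noncomputable def Ptab_s_468_471 (c : Nat) : Nat := @Bool.rec (fun _ => Nat) (Ptab_468) (Ptab_s_469_471 c) (Nat.ble 469 c)
noncomputable def Ptab_s_465_471 (c : Nat) : Nat := @Bool.rec (fun _ => Nat) (Ptab_s_465_468 c) (Ptab_s_468_471 c) (Nat.ble 468 c)
noncomputable def Ptab_s_460_471 (c : Nat) : Nat := @Bool.rec (fun _ => Nat) (Ptab_s_460_465 c) (Ptab_s_465_471 c) (Nat.ble 465 c)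
noncomputable def Ptab_s_472_474 (c : Nat) : Nat := @Bool.rec (fun _ => Nat) (Ptab_472) (Ptab_473) (Nat.ble 473 c)
noncomputable def Ptab_s_471_474 (c : Nat) : Nat := @Bool.rec (fun _ => Nat) (Ptab_471) (Ptab_s_472_474 c) (Nat.ble 472 c)
noncomputable def Ptab_s_475_477 (c : Nat) : Nat := @Bool.rec (fun _ => Nat) (Ptab_475) (Ptab_476) (Nat.ble 476 c)
noncomputable def Ptab_s_474_477 (c : Nat) : Nat := @Bool.rec (fun _ => Nat) (Ptab_474) (Ptab_s_475_477 c) (Nat.ble 475 c)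
noncomputable def Ptab_s_471_477 (c : Nat) : Nat := @Bool.rec (fun _ => Nat) (Ptab_s_471_474 c) (Ptab_s_474_477 c) (Nat.ble 474 c)
noncomputable def Ptab_s_478_480 (c : Nat) : Nat := @Bool.rec (fun _ => Nat) (Ptab_478) (Ptab_479) (Nat.ble 479 c)
noncomputable def Ptab_s_477_480 (c : Nat) : Nat := @Bool.rec (fun _ => Nat) (Ptab_477) (Ptab_s_478_480 c) (Nat.ble 478 c)
noncomputable def Ptab_s_481_483 (c : Nat) : Nat := @Bool.rec (fun _ => Nat) (Ptab_481) (Ptab_482) (Nat.ble 482 c)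
noncomputable def Ptab_s_480_483 (c : Nat) : Nat := @Bool.rec (fun _ => Nat) (Ptab_480) (Ptab_s_481_483 c) (Nat.ble 481 c)
noncomputable def Ptab_s_477_483 (c : Nat) : Nat := @Bool.rec (fun _ => Nat) (Ptab_s_477_480 c) (Ptab_s_480_483 c) (Nat.ble 480 c)
noncomputable def Ptab_s_471_483 (c : Nat) : Nat := @Bool.rec (fun _ => Nat) (Ptab_s_471_477 c) (Ptab_s_477_483 c) (Nat.ble 477 c)
noncomputable def Ptab_s_460_483 (c : Nat) : Nat := @Bool.rec (fun _ => Nat) (Ptab_s_460_471 c) (Ptab_s_471_483 c) (Nat.ble 471 c)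
noncomputable def Ptab_s_483_485 (c : Nat) : Nat := @Bool.rec (fun _ => Nat) (Ptab_483) (Ptab_484) (Nat.ble 484 c)
noncomputable def Ptab_s_486_488 (c : Nat) : Nat := @Bool.rec (fun _ => Nat) (Ptab_486) (Ptab_487) (Nat.ble 487 c)
noncomputable def Ptab_s_485_488 (c : Nat) : Nat := @Bool.rec (fun _ => Nat) (Ptab_485) (Ptab_s_486_488 c) (Nat.ble 486 c)
noncomputable def Ptab_s_483_488 (c : Nat) : Nat := @Bool.rec (fun _ => Nat) (Ptab_s_483_485 c) (Ptab_s_485_488 c) (Nat.ble 485 c)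
noncomputable def Ptab_s_489_491 (c : Nat) : Nat := @Bool.rec (fun _ => Nat) (Ptab_489) (Ptab_490) (Nat.ble 490 c)
noncomputable def Ptab_s_488_491 (c : Nat) : Nat := @Bool.rec (fun _ => Nat) (Ptab_488) (Ptab_s_489_491 c) (Nat.ble 489 c)
noncomputable def Ptab_s_492_494 (c : Nat) : Nat := @Bool.rec (fun _ => Nat) (Ptab_492) (Ptab_493) (Nat.ble 493 c)
noncomputable def Ptab_s_491_494 (c : Nat) : Nat := @Bool.rec (fun _ => Nat) (Ptab_491) (Ptab_s_492_494 c) (Nat.ble 492 c)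
noncomputable def Ptab_s_488_494 (c : Nat) : Nat := @Bool.rec (fun _ => Nat) (Ptab_s_488_491 c) (Ptab_s_491_494 c) (Nat.ble 491 c)
noncomputable def Ptab_s_483_494 (c : Nat) : Nat := @Bool.rec (fun _ => Nat) (Ptab_s_483_488 c) (Ptab_s_488_494 c) (Nat.ble 488 c)
noncomputable def Ptab_s_495_497 (c : Nat) : Nat := @Bool.rec (fun _ => Nat) (Ptab_495) (Ptab_496) (Nat.ble 496 c)
noncomputable def Ptab_s_494_497 (c : Nat) : Nat := @Bool.rec (fun _ => Nat) (Ptab_494) (Ptab_s_495_497 c) (Nat.ble 495 c)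
noncomputable def Ptab_s_498_500 (c : Nat) : Nat := @Bool.rec (fun _ => Nat) (Ptab_498) (Ptab_499) (Nat.ble 499 c)
noncomputable def Ptab_s_497_500 (c : Nat) : Nat := @Bool.rec (fun _ => Nat) (Ptab_497) (Ptab_s_498_500 c) (Nat.ble 498 c)
noncomputable def Ptab_s_494_500 (c : Nat) : Nat := @Bool.rec (fun _ => Nat) (Ptab_s_494_497 c) (Ptab_s_497_500 c) (Nat.ble 497 c)
noncomputable def Ptab_s_501_503 (c : Nat) : Nat := @Bool.rec (fun _ => Nat) (Ptab_501) (Ptab_502) (Nat.ble 502 c)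
noncomputable def Ptab_s_500_503 (c : Nat) : Nat := @Bool.rec (fun _ => Nat) (Ptab_500) (Ptab_s_501_503 c) (Nat.ble 501 c)
noncomputable def Ptab_s_504_506 (c : Nat) : Nat := @Bool.rec (fun _ => Nat) (Ptab_504) (Ptab_505) (Nat.ble 505 c)
noncomputable def Ptab_s_503_506 (c : Nat) : Nat := @Bool.rec (fun _ => Nat) (Ptab_503) (Ptab_s_504_506 c) (Nat.ble 504 c)
noncomputable def Ptab_s_500_506 (c : Nat) : Nat := @Bool.rec (fun _ => Nat) (Ptab_s_500_503 c) (Ptab_s_503_506 c) (Nat.ble 503 c)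
noncomputable def Ptab_s_494_506 (c : Nat) : Nat := @Bool.rec (fun _ => Nat) (Ptab_s_494_500 c) (Ptab_s_500_506 c) (Nat.ble 500 c)
noncomputable def Ptab_s_483_506 (c : Nat) : Nat := @Bool.rec (fun _ => Nat) (Ptab_s_483_494 c) (Ptab_s_494_506 c) (Nat.ble 494 c)
noncomputable def Ptab_s_460_506 (c : Nat) : Nat := @Bool.rec (fun _ => Nat) (Ptab_s_460_483 c) (Ptab_s_483_506 c) (Nat.ble 483 c)
noncomputable def Ptab_s_506_508 (c : Nat) : Nat := @Bool.rec (fun _ => Nat) (Ptab_506) (Ptab_507) (Nat.ble 507 c)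
noncomputable def Ptab_s_509_511 (c : Nat) : Nat := @Bool.rec (fun _ => Nat) (Ptab_509) (Ptab_510) (Nat.ble 510 c)
noncomputable def Ptab_s_508_511 (c : Nat) : Nat := @Bool.rec (fun _ => Nat) (Ptab_508) (Ptab_s_509_511 c) (Nat.ble 509 c)
noncomputable def Ptab_s_506_511 (c : Nat) : Nat := @Bool.rec (fun _ => Nat) (Ptab_s_506_508 c) (Ptab_s_508_511 c) (Nat.ble 508 c)
noncomputable def Ptab_s_512_514 (c : Nat) : Nat := @Bool.rec (fun _ => Nat) (Ptab_512) (Ptab_513) (Nat.ble 513 c)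
noncomputable def Ptab_s_511_514 (c : Nat) : Nat := @Bool.rec (fun _ => Nat) (Ptab_511) (Ptab_s_512_514 c) (Nat.ble 512 c)
noncomputable def Ptab_s_515_517 (c : Nat) : Nat := @Bool.rec (fun _ => Nat) (Ptab_515) (Ptab_516) (Nat.ble 516 c)
noncomputable def Ptab_s_514_517 (c : Nat) : Nat := @Bool.rec (fun _ => Nat) (Ptab_514) (Ptab_s_515_517 c) (Nat.ble 515 c)
noncomputable def Ptab_s_511_517 (c : Nat) : Nat := @Bool.rec (fun _ => Nat) (Ptab_s_511_514 c) (Ptab_s_514_517 c) (Nat.ble 514 c)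
noncomputable def Ptab_s_506_517 (c : Nat) : Nat := @Bool.rec (fun _ => Nat) (Ptab_s_506_511 c) (Ptab_s_511_517 c) (Nat.ble 511 c)
noncomputable def Ptab_s_518_520 (c : Nat) : Nat := @Bool.rec (fun _ => Nat) (Ptab_518) (Ptab_519) (Nat.ble 519 c)
noncomputable def Ptab_s_517_520 (c : Nat) : Nat := @Bool.rec (fun _ => Nat) (Ptab_517) (Ptab_s_518_520 c) (Nat.ble 518 c)
noncomputable def Ptab_s_521_523 (c : Nat) : Nat := @Bool.rec (fun _ => Nat) (Ptab_521) (Ptab_522) (Nat.ble 522 c)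
noncomputable def Ptab_s_520_523 (c : Nat) : Nat := @Bool.rec (fun _ => Nat) (Ptab_520) (Ptab_s_521_523 c) (Nat.ble 521 c)
noncomputable def Ptab_s_517_523 (c : Nat) : Nat := @Bool.rec (fun _ => Nat) (Ptab_s_517_520 c) (Ptab_s_520_523 c) (Nat.ble 520 c)
noncomputable def Ptab_s_524_526 (c : Nat) : Nat := @Bool.rec (fun _ => Nat) (Ptab_524) (Ptab_525) (Nat.ble 525 c)
noncomputable def Ptab_s_523_526 (c : Nat) : Nat := @Bool.rec (fun _ => Nat) (Ptab_523) (Ptab_s_524_526 c) (Nat.ble 524 c)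
noncomputable def Ptab_s_527_529 (c : Nat) : Nat := @Bool.rec (fun _ => Nat) (Ptab_527) (Ptab_528) (Nat.ble 528 c)
noncomputable def Ptab_s_526_529 (c : Nat) : Nat := @Bool.rec (fun _ => Nat) (Ptab_526) (Ptab_s_527_529 c) (Nat.ble 527 c)
noncomputable def Ptab_s_523_529 (c : Nat) : Nat := @Bool.rec (fun _ => Nat) (Ptab_s_523_526 c) (Ptab_s_526_529 c) (Nat.ble 526 c)
noncomputable def Ptab_s_517_529 (c : Nat) : Nat := @Bool.rec (fun _ => Nat) (Ptab_s_517_523 c) (Ptab_s_523_529 c) (Nat.ble 523 c)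
noncomputable def Ptab_s_506_529 (c : Nat) : Nat := @Bool.rec (fun _ => Nat) (Ptab_s_506_517 c) (Ptab_s_517_529 c) (Nat.ble 517 c)
noncomputable def Ptab_s_529_531 (c : Nat) : Nat := @Bool.rec (fun _ => Nat) (Ptab_529) (Ptab_530) (Nat.ble 530 c)
noncomputable def Ptab_s_532_534 (c : Nat) : Nat := @Bool.rec (fun _ => Nat) (Ptab_532) (Ptab_533) (Nat.ble 533 c)
noncomputable def Ptab_s_531_534 (c : Nat) : Nat := @Bool.rec (fun _ => Nat) (Ptab_531) (Ptab_s_532_534 c) (Nat.ble 532 c)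
noncomputable def Ptab_s_529_534 (c : Nat) : Nat := @Bool.rec (fun _ => Nat) (Ptab_s_529_531 c) (Ptab_s_531_534 c) (Nat.ble 531 c)
noncomputable def Ptab_s_535_537 (c : Nat) : Nat := @Bool.rec (fun _ => Nat) (Ptab_535) (Ptab_536) (Nat.ble 536 c)
noncomputable def Ptab_s_534_537 (c : Nat) : Nat := @Bool.rec (fun _ => Nat) (Ptab_534) (Ptab_s_535_537 c) (Nat.ble 535 c)
noncomputable def Ptab_s_538_540 (c : Nat) : Nat := @Bool.rec (fun _ => Nat) (Ptab_538) (Ptab_539) (Nat.ble 539 c)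
noncomputable def Ptab_s_537_540 (c : Nat) : Nat := @Bool.rec (fun _ => Nat) (Ptab_537) (Ptab_s_538_540 c) (Nat.ble 538 c)
noncomputable def Ptab_s_534_540 (c : Nat) : Nat := @Bool.rec (fun _ => Nat) (Ptab_s_534_537 c) (Ptab_s_537_540 c) (Nat.ble 537 c)
noncomputable def Ptab_s_529_540 (c : Nat) : Nat := @Bool.rec (fun _ => Nat) (Ptab_s_529_534 c) (Ptab_s_534_540 c) (Nat.ble 534 c)
noncomputable def Ptab_s_541_543 (c : Nat) : Nat := @Bool.rec (fun _ => Nat) (Ptab_541) (Ptab_542) (Nat.ble 542 c)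
noncomputable def Ptab_s_540_543 (c : Nat) : Nat := @Bool.rec (fun _ => Nat) (Ptab_540) (Ptab_s_541_543 c) (Nat.ble 541 c)
noncomputable def Ptab_s_544_546 (c : Nat) : Nat := @Bool.rec (fun _ => Nat) (Ptab_544) (Ptab_545) (Nat.ble 545 c)
noncomputable def Ptab_s_543_546 (c : Nat) : Nat := @Bool.rec (fun _ => Nat) (Ptab_543) (Ptab_s_544_546 c) (Nat.ble 544 c)
noncomputable def Ptab_s_540_546 (c : Nat) : Nat := @Bool.rec (fun _ => Nat) (Ptab_s_540_543 c) (Ptab_s_543_546 c) (Nat.ble 543 c)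
noncomputable def Ptab_s_547_549 (c : Nat) : Nat := @Bool.rec (fun _ => Nat) (Ptab_547) (Ptab_548) (Nat.ble 548 c)
noncomputable def Ptab_s_546_549 (c : Nat) : Nat := @Bool.rec (fun _ => Nat) (Ptab_546) (Ptab_s_547_549 c) (Nat.ble 547 c)
noncomputable def Ptab_s_550_552 (c : Nat) : Nat := @Bool.rec (fun _ => Nat) (Ptab_550) (Ptab_551) (Nat.ble 551 c)
noncomputable def Ptab_s_549_552 (c : Nat) : Nat := @Bool.rec (fun _ => Nat) (Ptab_549) (Ptab_s_550_552 c) (Nat.ble 550 c)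
noncomputable def Ptab_s_546_552 (c : Nat) : Nat := @Bool.rec (fun _ => Nat) (Ptab_s_546_549 c) (Ptab_s_549_552 c) (Nat.ble 549 c)
noncomputable def Ptab_s_540_552 (c : Nat) : Nat := @Bool.rec (fun _ => Nat) (Ptab_s_540_546 c) (Ptab_s_546_552 c) (Nat.ble 546 c)
noncomputable def Ptab_s_529_552 (c : Nat) : Nat := @Bool.rec (fun _ => Nat) (Ptab_s_529_540 c) (Ptab_s_540_552 c) (Nat.ble 540 c)
noncomputable def Ptab_s_506_552 (c : Nat) : Nat := @Bool.rec (fun _ => Nat) (Ptab_s_506_529 c) (Ptab_s_529_552 c) (Nat.ble 529 c)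
noncomputable def Ptab_s_460_552 (c : Nat) : Nat := @Bool.rec (fun _ => Nat) (Ptab_s_460_506 c) (Ptab_s_506_552 c) (Nat.ble 506 c)
noncomputable def Ptab_s_368_552 (c : Nat) : Nat := @Bool.rec (fun _ => Nat) (Ptab_s_368_460 c) (Ptab_s_460_552 c) (Nat.ble 460 c)
noncomputable def Ptab_s_552_554 (c : Nat) : Nat := @Bool.rec (fun _ => Nat) (Ptab_552) (Ptab_553) (Nat.ble 553 c)
noncomputable def Ptab_s_555_557 (c : Nat) : Nat := @Bool.rec (fun _ => Nat) (Ptab_555) (Ptab_556) (Nat.ble 556 c)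
noncomputable def Ptab_s_554_557 (c : Nat) : Nat := @Bool.rec (fun _ => Nat) (Ptab_554) (Ptab_s_555_557 c) (Nat.ble 555 c)
noncomputable def Ptab_s_552_557 (c : Nat) : Nat := @Bool.rec (fun _ => Nat) (Ptab_s_552_554 c) (Ptab_s_554_557 c) (Nat.ble 554 c)
noncomputable def Ptab_s_558_560 (c : Nat) : Nat := @Bool.rec (fun _ => Nat) (Ptab_558) (Ptab_559) (Nat.ble 559 c)
noncomputable def Ptab_s_557_560 (c : Nat) : Nat := @Bool.rec (fun _ => Nat) (Ptab_557) (Ptab_s_558_560 c) (Nat.ble 558 c)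
noncomputable def Ptab_s_561_563 (c : Nat) : Nat := @Bool.rec (fun _ => Nat) (Ptab_561) (Ptab_562) (Nat.ble 562 c)
noncomputable def Ptab_s_560_563 (c : Nat) : Nat := @Bool.rec (fun _ => Nat) (Ptab_560) (Ptab_s_561_563 c) (Nat.ble 561 c)
noncomputable def Ptab_s_557_563 (c : Nat) : Nat := @Bool.rec (fun _ => Nat) (Ptab_s_557_560 c) (Ptab_s_560_563 c) (Nat.ble 560 c)
noncomputable def Ptab_s_552_563 (c : Nat) : Nat := @Bool.rec (fun _ => Nat) (Ptab_s_552_557 c) (Ptab_s_557_563 c) (Nat.ble 557 c)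
noncomputable def Ptab_s_564_566 (c : Nat) : Nat := @Bool.rec (fun _ => Nat) (Ptab_564) (Ptab_565) (Nat.ble 565 c)
noncomputable def Ptab_s_563_566 (c : Nat) : Nat := @Bool.rec (fun _ => Nat) (Ptab_563) (Ptab_s_564_566 c) (Nat.ble 564 c)
noncomputable def Ptab_s_567_569 (c : Nat) : Nat := @Bool.rec (fun _ => Nat) (Ptab_567) (Ptab_568) (Nat.ble 568 c)
noncomputable def Ptab_s_566_569 (c : Nat) : Nat := @Bool.rec (fun _ => Nat) (Ptab_566) (Ptab_s_567_569 c) (Nat.ble 567 c)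
noncomputable def Ptab_s_563_569 (c : Nat) : Nat := @Bool.rec (fun _ => Nat) (Ptab_s_563_566 c) (Ptab_s_566_569 c) (Nat.ble 566 c)
noncomputable def Ptab_s_570_572 (c : Nat) : Nat := @Bool.rec (fun _ => Nat) (Ptab_570) (Ptab_571) (Nat.ble 571 c)
noncomputable def Ptab_s_569_572 (c : Nat) : Nat := @Bool.rec (fun _ => Nat) (Ptab_569) (Ptab_s_570_572 c) (Nat.ble 570 c)
noncomputable def Ptab_s_573_575 (c : Nat) : Nat := @Bool.rec (fun _ => Nat) (Ptab_573) (Ptab_574) (Nat.ble 574 c)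
noncomputable def Ptab_s_572_575 (c : Nat) : Nat := @Bool.rec (fun _ => Nat) (Ptab_572) (Ptab_s_573_575 c) (Nat.ble 573 c)
noncomputable def Ptab_s_569_575 (c : Nat) : Nat := @Bool.rec (fun _ => Nat) (Ptab_s_569_572 c) (Ptab_s_572_575 c) (Nat.ble 572 c)
noncomputable def Ptab_s_563_575 (c : Nat) : Nat := @Bool.rec (fun _ => Nat) (Ptab_s_563_569 c) (Ptab_s_569_575 c) (Nat.ble 569 c)
noncomputable def Ptab_s_552_575 (c : Nat) : Nat := @Bool.rec (fun _ => Nat) (Ptab_s_552_563 c) (Ptab_s_563_575 c) (Nat.ble 563 c)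
noncomputable def Ptab_s_575_577 (c : Nat) : Nat := @Bool.rec (fun _ => Nat) (Ptab_575) (Ptab_576) (Nat.ble 576 c)
noncomputable def Ptab_s_578_580 (c : Nat) : Nat := @Bool.rec (fun _ => Nat) (Ptab_578) (Ptab_579) (Nat.ble 579 c)
noncomputable def Ptab_s_577_580 (c : Nat) : Nat := @Bool.rec (fun _ => Nat) (Ptab_577) (Ptab_s_578_580 c) (Nat.ble 578 c)
noncomputable def Ptab_s_575_580 (c : Nat) : Nat := @Bool.rec (fun _ => Nat) (Ptab_s_575_577 c) (Ptab_s_577_580 c) (Nat.ble 577 c)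
noncomputable def Ptab_s_581_583 (c : Nat) : Nat := @Bool.rec (fun _ => Nat) (Ptab_581) (Ptab_582) (Nat.ble 582 c)
noncomputable def Ptab_s_580_583 (c : Nat) : Nat := @Bool.rec (fun _ => Nat) (Ptab_580) (Ptab_s_581_583 c) (Nat.ble 581 c)
noncomputable def Ptab_s_584_586 (c : Nat) : Nat := @Bool.rec (fun _ => Nat) (Ptab_584) (Ptab_585) (Nat.ble 585 c)
noncomputable def Ptab_s_583_586 (c : Nat) : Nat := @Bool.rec (fun _ => Nat) (Ptab_583) (Ptab_s_584_586 c) (Nat.ble 584 c)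
noncomputable def Ptab_s_580_586 (c : Nat) : Nat := @Bool.rec (fun _ => Nat) (Ptab_s_580_583 c) (Ptab_s_583_586 c) (Nat.ble 583 c)
noncomputable def Ptab_s_575_586 (c : Nat) : Nat := @Bool.rec (fun _ => Nat) (Ptab_s_575_580 c) (Ptab_s_580_586 c) (Nat.ble 580 c)
noncomputable def Ptab_s_587_589 (c : Nat) : Nat := @Bool.rec (fun _ => Nat) (Ptab_587) (Ptab_588) (Nat.ble 588 c)
noncomputable def Ptab_s_586_589 (c : Nat) : Nat := @Bool.rec (fun _ => Nat) (Ptab_586) (Ptab_s_587_589 c) (Nat.ble 587 c)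
noncomputable def Ptab_s_590_592 (c : Nat) : Nat := @Bool.rec (fun _ => Nat) (Ptab_590) (Ptab_591) (Nat.ble 591 c)
noncomputable def Ptab_s_589_592 (c : Nat) : Nat := @Bool.rec (fun _ => Nat) (Ptab_589) (Ptab_s_590_592 c) (Nat.ble 590 c)
noncomputable def Ptab_s_586_592 (c : Nat) : Nat := @Bool.rec (fun _ => Nat) (Ptab_s_586_589 c) (Ptab_s_589_592 c) (Nat.ble 589 c)
noncomputable def Ptab_s_593_595 (c : Nat) : Nat := @Bool.rec (fun _ => Nat) (Ptab_593) (Ptab_594) (Nat.ble 594 c)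
noncomputable def Ptab_s_592_595 (c : Nat) : Nat := @Bool.rec (fun _ => Nat) (Ptab_592) (Ptab_s_593_595 c) (Nat.ble 593 c)
noncomputable def Ptab_s_596_598 (c : Nat) : Nat := @Bool.rec (fun _ => Nat) (Ptab_596) (Ptab_597) (Nat.ble 597 c)
noncomputable def Ptab_s_595_598 (c : Nat) : Nat := @Bool.rec (fun _ => Nat) (Ptab_595) (Ptab_s_596_598 c) (Nat.ble 596 c)
noncomputable def Ptab_s_592_598 (c : Nat) : Nat := @Bool.rec (fun _ => Nat) (Ptab_s_592_595 c) (Ptab_s_595_598 c) (Nat.ble 595 c)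
noncomputable def Ptab_s_586_598 (c : Nat) : Nat := @Bool.rec (fun _ => Nat) (Ptab_s_586_592 c) (Ptab_s_592_598 c) (Nat.ble 592 c)
noncomputable def Ptab_s_575_598 (c : Nat) : Nat := @Bool.rec (fun _ => Nat) (Ptab_s_575_586 c) (Ptab_s_586_598 c) (Nat.ble 586 c)
noncomputable def Ptab_s_552_598 (c : Nat) : Nat := @Bool.rec (fun _ => Nat) (Ptab_s_552_575 c) (Ptab_s_575_598 c) (Nat.ble 575 c)
noncomputable def Ptab_s_598_600 (c : Nat) : Nat := @Bool.rec (fun _ => Nat) (Ptab_598) (Ptab_599) (Nat.ble 599 c)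
noncomputable def Ptab_s_601_603 (c : Nat) : Nat := @Bool.rec (fun _ => Nat) (Ptab_601) (Ptab_602) (Nat.ble 602 c)
noncomputable def Ptab_s_600_603 (c : Nat) : Nat := @Bool.rec (fun _ => Nat) (Ptab_600) (Ptab_s_601_603 c) (Nat.ble 601 c)
noncomputable def Ptab_s_598_603 (c : Nat) : Nat := @Bool.rec (fun _ => Nat) (Ptab_s_598_600 c) (Ptab_s_600_603 c) (Nat.ble 600 c)
noncomputable def Ptab_s_604_606 (c : Nat) : Nat := @Bool.rec (fun _ => Nat) (Ptab_604) (Ptab_605) (Nat.ble 605 c)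
noncomputable def Ptab_s_603_606 (c : Nat) : Nat := @Bool.rec (fun _ => Nat) (Ptab_603) (Ptab_s_604_606 c) (Nat.ble 604 c)
noncomputable def Ptab_s_607_609 (c : Nat) : Nat := @Bool.rec (fun _ => Nat) (Ptab_607) (Ptab_608) (Nat.ble 608 c)
noncomputable def Ptab_s_606_609 (c : Nat) : Nat := @Bool.rec (fun _ => Nat) (Ptab_606) (Ptab_s_607_609 c) (Nat.ble 607 c)
noncomputable def Ptab_s_603_609 (c : Nat) : Nat := @Bool.rec (fun _ => Nat) (Ptab_s_603_606 c) (Ptab_s_606_609 c) (Nat.ble 606 c)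
noncomputable def Ptab_s_598_609 (c : Nat) : Nat := @Bool.rec (fun _ => Nat) (Ptab_s_598_603 c) (Ptab_s_603_609 c) (Nat.ble 603 c)
noncomputable def Ptab_s_610_612 (c : Nat) : Nat := @Bool.rec (fun _ => Nat) (Ptab_610) (Ptab_611) (Nat.ble 611 c)
noncomputable def Ptab_s_609_612 (c : Nat) : Nat := @Bool.rec (fun _ => Nat) (Ptab_609) (Ptab_s_610_612 c) (Nat.ble 610 c)
noncomputable def Ptab_s_613_615 (c : Nat) : Nat := @Bool.rec (fun _ => Nat) (Ptab_613) (Ptab_614) (Nat.ble 614 c)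
noncomputable def Ptab_s_612_615 (c : Nat) : Nat := @Bool.rec (fun _ => Nat) (Ptab_612) (Ptab_s_613_615 c) (Nat.ble 613 c)
noncomputable def Ptab_s_609_615 (c : Nat) : Nat := @Bool.rec (fun _ => Nat) (Ptab_s_609_612 c) (Ptab_s_612_615 c) (Nat.ble 612 c)
noncomputable def Ptab_s_616_618 (c : Nat) : Nat := @Bool.rec (fun _ => Nat) (Ptab_616) (Ptab_617) (Nat.ble 617 c)
noncomputable def Ptab_s_615_618 (c : Nat) : Nat := @Bool.rec (fun _ => Nat) (Ptab_615) (Ptab_s_616_618 c) (Nat.ble 616 c)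
noncomputable def Ptab_s_619_621 (c : Nat) : Nat := @Bool.rec (fun _ => Nat) (Ptab_619) (Ptab_620) (Nat.ble 620 c)
noncomputable def Ptab_s_618_621 (c : Nat) : Nat := @Bool.rec (fun _ => Nat) (Ptab_618) (Ptab_s_619_621 c) (Nat.ble 619 c)
noncomputable def Ptab_s_615_621 (c : Nat) : Nat := @Bool.rec (fun _ => Nat) (Ptab_s_615_618 c) (Ptab_s_618_621 c) (Nat.ble 618 c)
noncomputable def Ptab_s_609_621 (c : Nat) : Nat := @Bool.rec (fun _ => Nat) (Ptab_s_609_615 c) (Ptab_s_615_621 c) (Nat.ble 615 c)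
noncomputable def Ptab_s_598_621 (c : Nat) : Nat := @Bool.rec (fun _ => Nat) (Ptab_s_598_609 c) (Ptab_s_609_621 c) (Nat.ble 609 c)
noncomputable def Ptab_s_621_623 (c : Nat) : Nat := @Bool.rec (fun _ => Nat) (Ptab_621) (Ptab_622) (Nat.ble 622 c)
noncomputable def Ptab_s_624_626 (c : Nat) : Nat := @Bool.rec (fun _ => Nat) (Ptab_624) (Ptab_625) (Nat.ble 625 c)
noncomputable def Ptab_s_623_626 (c : Nat) : Nat := @Bool.rec (fun _ => Nat) (Ptab_623) (Ptab_s_624_626 c) (Nat.ble 624 c)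
noncomputable def Ptab_s_621_626 (c : Nat) : Nat := @Bool.rec (fun _ => Nat) (Ptab_s_621_623 c) (Ptab_s_623_626 c) (Nat.ble 623 c)
noncomputable def Ptab_s_627_629 (c : Nat) : Nat := @Bool.rec (fun _ => Nat) (Ptab_627) (Ptab_628) (Nat.ble 628 c)
noncomputable def Ptab_s_626_629 (c : Nat) : Nat := @Bool.rec (fun _ => Nat) (Ptab_626) (Ptab_s_627_629 c) (Nat.ble 627 c)
noncomputable def Ptab_s_630_632 (c : Nat) : Nat := @Bool.rec (fun _ => Nat) (Ptab_630) (Ptab_631) (Nat.ble 631 c)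
noncomputable def Ptab_s_629_632 (c : Nat) : Nat := @Bool.rec (fun _ => Nat) (Ptab_629) (Ptab_s_630_632 c) (Nat.ble 630 c)
noncomputable def Ptab_s_626_632 (c : Nat) : Nat := @Bool.rec (fun _ => Nat) (Ptab_s_626_629 c) (Ptab_s_629_632 c) (Nat.ble 629 c)
noncomputable def Ptab_s_621_632 (c : Nat) : Nat := @Bool.rec (fun _ => Nat) (Ptab_s_621_626 c) (Ptab_s_626_632 c) (Nat.ble 626 c)
noncomputable def Ptab_s_633_635 (c : Nat) : Nat := @Bool.rec (fun _ => Nat) (Ptab_633) (Ptab_634) (Nat.ble 634 c)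
noncomputable def Ptab_s_632_635 (c : Nat) : Nat := @Bool.rec (fun _ => Nat) (Ptab_632) (Ptab_s_633_635 c) (Nat.ble 633 c)
noncomputable def Ptab_s_636_638 (c : Nat) : Nat := @Bool.rec (fun _ => Nat) (Ptab_636) (Ptab_637) (Nat.ble 637 c)
noncomputable def Ptab_s_635_638 (c : Nat) : Nat := @Bool.rec (fun _ => Nat) (Ptab_635) (Ptab_s_636_638 c) (Nat.ble 636 c)
noncomputable def Ptab_s_632_638 (c : Nat) : Nat := @Bool.rec (fun _ => Nat) (Ptab_s_632_635 c) (Ptab_s_635_638 c) (Nat.ble 635 c)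
noncomputable def Ptab_s_639_641 (c : Nat) : Nat := @Bool.rec (fun _ => Nat) (Ptab_639) (Ptab_640) (Nat.ble 640 c)
noncomputable def Ptab_s_638_641 (c : Nat) : Nat := @Bool.rec (fun _ => Nat) (Ptab_638) (Ptab_s_639_641 c) (Nat.ble 639 c)
noncomputable def Ptab_s_642_644 (c : Nat) : Nat := @Bool.rec (fun _ => Nat) (Ptab_642) (Ptab_643) (Nat.ble 643 c)
noncomputable def Ptab_s_641_644 (c : Nat) : Nat := @Bool.rec (fun _ => Nat) (Ptab_641) (Ptab_s_642_644 c) (Nat.ble 642 c)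
noncomputable def Ptab_s_638_644 (c : Nat) : Nat := @Bool.rec (fun _ => Nat) (Ptab_s_638_641 c) (Ptab_s_641_644 c) (Nat.ble 641 c)
noncomputable def Ptab_s_632_644 (c : Nat) : Nat := @Bool.rec (fun _ => Nat) (Ptab_s_632_638 c) (Ptab_s_638_644 c) (Nat.ble 638 c)
noncomputable def Ptab_s_621_644 (c : Nat) : Nat := @Bool.rec (fun _ => Nat) (Ptab_s_621_632 c) (Ptab_s_632_644 c) (Nat.ble 632 c)
noncomputable def Ptab_s_598_644 (c : Nat) : Nat := @Bool.rec (fun _ => Nat) (Ptab_s_598_621 c) (Ptab_s_621_644 c) (Nat.ble 621 c)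
noncomputable def Ptab_s_552_644 (c : Nat) : Nat := @Bool.rec (fun _ => Nat) (Ptab_s_552_598 c) (Ptab_s_598_644 c) (Nat.ble 598 c)
noncomputable def Ptab_s_644_646 (c : Nat) : Nat := @Bool.rec (fun _ => Nat) (Ptab_644) (Ptab_645) (Nat.ble 645 c)
noncomputable def Ptab_s_647_649 (c : Nat) : Nat := @Bool.rec (fun _ => Nat) (Ptab_647) (Ptab_648) (Nat.ble 648 c)
noncomputable def Ptab_s_646_649 (c : Nat) : Nat := @Bool.rec (fun _ => Nat) (Ptab_646) (Ptab_s_647_649 c) (Nat.ble 647 c)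
noncomputable def Ptab_s_644_649 (c : Nat) : Nat := @Bool.rec (fun _ => Nat) (Ptab_s_644_646 c) (Ptab_s_646_649 c) (Nat.ble 646 c)
noncomputable def Ptab_s_650_652 (c : Nat) : Nat := @Bool.rec (fun _ => Nat) (Ptab_650) (Ptab_651) (Nat.ble 651 c)
noncomputable def Ptab_s_649_652 (c : Nat) : Nat := @Bool.rec (fun _ => Nat) (Ptab_649) (Ptab_s_650_652 c) (Nat.ble 650 c)
noncomputable def Ptab_s_653_655 (c : Nat) : Nat := @Bool.rec (fun _ => Nat) (Ptab_653) (Ptab_654) (Nat.ble 654 c)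
noncomputable def Ptab_s_652_655 (c : Nat) : Nat := @Bool.rec (fun _ => Nat) (Ptab_652) (Ptab_s_653_655 c) (Nat.ble 653 c)
noncomputable def Ptab_s_649_655 (c : Nat) : Nat := @Bool.rec (fun _ => Nat) (Ptab_s_649_652 c) (Ptab_s_652_655 c) (Nat.ble 652 c)
noncomputable def Ptab_s_644_655 (c : Nat) : Nat := @Bool.rec (fun _ => Nat) (Ptab_s_644_649 c) (Ptab_s_649_655 c) (Nat.ble 649 c)
noncomputable def Ptab_s_656_658 (c : Nat) : Nat := @Bool.rec (fun _ => Nat) (Ptab_656) (Ptab_657) (Nat.ble 657 c)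
noncomputable def Ptab_s_655_658 (c : Nat) : Nat := @Bool.rec (fun _ => Nat) (Ptab_655) (Ptab_s_656_658 c) (Nat.ble 656 c)
noncomputable def Ptab_s_659_661 (c : Nat) : Nat := @Bool.rec (fun _ => Nat) (Ptab_659) (Ptab_660) (Nat.ble 660 c)
noncomputable def Ptab_s_658_661 (c : Nat) : Nat := @Bool.rec (fun _ => Nat) (Ptab_658) (Ptab_s_659_661 c) (Nat.ble 659 c)
noncomputable def Ptab_s_655_661 (c : Nat) : Nat := @Bool.rec (fun _ => Nat) (Ptab_s_655_658 c) (Ptab_s_658_661 c) (Nat.ble 658 c)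
noncomputable def Ptab_s_662_664 (c : Nat) : Nat := @Bool.rec (fun _ => Nat) (Ptab_662) (Ptab_663) (Nat.ble 663 c)
noncomputable def Ptab_s_661_664 (c : Nat) : Nat := @Bool.rec (fun _ => Nat) (Ptab_661) (Ptab_s_662_664 c) (Nat.ble 662 c)
noncomputable def Ptab_s_665_667 (c : Nat) : Nat := @Bool.rec (fun _ => Nat) (Ptab_665) (Ptab_666) (Nat.ble 666 c)
noncomputable def Ptab_s_664_667 (c : Nat) : Nat := @Bool.rec (fun _ => Nat) (Ptab_664) (Ptab_s_665_667 c) (Nat.ble 665 c)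
noncomputable def Ptab_s_661_667 (c : Nat) : Nat := @Bool.rec (fun _ => Nat) (Ptab_s_661_664 c) (Ptab_s_664_667 c) (Nat.ble 664 c)
noncomputable def Ptab_s_655_667 (c : Nat) : Nat := @Bool.rec (fun _ => Nat) (Ptab_s_655_661 c) (Ptab_s_661_667 c) (Nat.ble 661 c)
noncomputable def Ptab_s_644_667 (c : Nat) : Nat := @Bool.rec (fun _ => Nat) (Ptab_s_644_655 c) (Ptab_s_655_667 c) (Nat.ble 655 c)
noncomputable def Ptab_s_667_669 (c : Nat) : Nat := @Bool.rec (fun _ => Nat) (Ptab_667) (Ptab_668) (Nat.ble 668 c)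
noncomputable def Ptab_s_670_672 (c : Nat) : Nat := @Bool.rec (fun _ => Nat) (Ptab_670) (Ptab_671) (Nat.ble 671 c)
noncomputable def Ptab_s_669_672 (c : Nat) : Nat := @Bool.rec (fun _ => Nat) (Ptab_669) (Ptab_s_670_672 c) (Nat.ble 670 c)
noncomputable def Ptab_s_667_672 (c : Nat) : Nat := @Bool.rec (fun _ => Nat) (Ptab_s_667_669 c) (Ptab_s_669_672 c) (Nat.ble 669 c)
noncomputable def Ptab_s_673_675 (c : Nat) : Nat := @Bool.rec (fun _ => Nat) (Ptab_673) (Ptab_674) (Nat.ble 674 c)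
noncomputable def Ptab_s_672_675 (c : Nat) : Nat := @Bool.rec (fun _ => Nat) (Ptab_672) (Ptab_s_673_675 c) (Nat.ble 673 c)
noncomputable def Ptab_s_676_678 (c : Nat) : Nat := @Bool.rec (fun _ => Nat) (Ptab_676) (Ptab_677) (Nat.ble 677 c)
noncomputable def Ptab_s_675_678 (c : Nat) : Nat := @Bool.rec (fun _ => Nat) (Ptab_675) (Ptab_s_676_678 c) (Nat.ble 676 c)
noncomputable def Ptab_s_672_678 (c : Nat) : Nat := @Bool.rec (fun _ => Nat) (Ptab_s_672_675 c) (Ptab_s_675_678 c) (Nat.ble 675 c)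
noncomputable def Ptab_s_667_678 (c : Nat) : Nat := @Bool.rec (fun _ => Nat) (Ptab_s_667_672 c) (Ptab_s_672_678 c) (Nat.ble 672 c)
noncomputable def Ptab_s_679_681 (c : Nat) : Nat := @Bool.rec (fun _ => Nat) (Ptab_679) (Ptab_680) (Nat.ble 680 c)
noncomputable def Ptab_s_678_681 (c : Nat) : Nat := @Bool.rec (fun _ => Nat) (Ptab_678) (Ptab_s_679_681 c) (Nat.ble 679 c)
noncomputable def Ptab_s_682_684 (c : Nat) : Nat := @Bool.rec (fun _ => Nat) (Ptab_682) (Ptab_683) (Nat.ble 683 c)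
noncomputable def Ptab_s_681_684 (c : Nat) : Nat := @Bool.rec (fun _ => Nat) (Ptab_681) (Ptab_s_682_684 c) (Nat.ble 682 c)
noncomputable def Ptab_s_678_684 (c : Nat) : Nat := @Bool.rec (fun _ => Nat) (Ptab_s_678_681 c) (Ptab_s_681_684 c) (Nat.ble 681 c)
noncomputable def Ptab_s_685_687 (c : Nat) : Nat := @Bool.rec (fun _ => Nat) (Ptab_685) (Ptab_686) (Nat.ble 686 c)
noncomputable def Ptab_s_684_687 (c : Nat) : Nat := @Bool.rec (fun _ => Nat) (Ptab_684) (Ptab_s_685_687 c) (Nat.ble 685 c)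
noncomputable def Ptab_s_688_690 (c : Nat) : Nat := @Bool.rec (fun _ => Nat) (Ptab_688) (Ptab_689) (Nat.ble 689 c)
noncomputable def Ptab_s_687_690 (c : Nat) : Nat := @Bool.rec (fun _ => Nat) (Ptab_687) (Ptab_s_688_690 c) (Nat.ble 688 c)
noncomputable def Ptab_s_684_690 (c : Nat) : Nat := @Bool.rec (fun _ => Nat) (Ptab_s_684_687 c) (Ptab_s_687_690 c) (Nat.ble 687 c)
noncomputable def Ptab_s_678_690 (c : Nat) : Nat := @Bool.rec (fun _ => Nat) (Ptab_s_678_684 c) (Ptab_s_684_690 c) (Nat.ble 684 c)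
noncomputable def Ptab_s_667_690 (c : Nat) : Nat := @Bool.rec (fun _ => Nat) (Ptab_s_667_678 c) (Ptab_s_678_690 c) (Nat.ble 678 c)
noncomputable def Ptab_s_644_690 (c : Nat) : Nat := @Bool.rec (fun _ => Nat) (Ptab_s_644_667 c) (Ptab_s_667_690 c) (Nat.ble 667 c)
noncomputable def Ptab_s_690_692 (c : Nat) : Nat := @Bool.rec (fun _ => Nat) (Ptab_690) (Ptab_691) (Nat.ble 691 c)
noncomputable def Ptab_s_693_695 (c : Nat) : Nat := @Bool.rec (fun _ => Nat) (Ptab_693) (Ptab_694) (Nat.ble 694 c)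
noncomputable def Ptab_s_692_695 (c : Nat) : Nat := @Bool.rec (fun _ => Nat) (Ptab_692) (Ptab_s_693_695 c) (Nat.ble 693 c)
noncomputable def Ptab_s_690_695 (c : Nat) : Nat := @Bool.rec (fun _ => Nat) (Ptab_s_690_692 c) (Ptab_s_692_695 c) (Nat.ble 692 c)
noncomputable def Ptab_s_696_698 (c : Nat) : Nat := @Bool.rec (fun _ => Nat) (Ptab_696) (Ptab_697) (Nat.ble 697 c)
noncomputable def Ptab_s_695_698 (c : Nat) : Nat := @Bool.rec (fun _ => Nat) (Ptab_695) (Ptab_s_696_698 c) (Nat.ble 696 c)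
noncomputable def Ptab_s_699_701 (c : Nat) : Nat := @Bool.rec (fun _ => Nat) (Ptab_699) (Ptab_700) (Nat.ble 700 c)
noncomputable def Ptab_s_698_701 (c : Nat) : Nat := @Bool.rec (fun _ => Nat) (Ptab_698) (Ptab_s_699_701 c) (Nat.ble 699 c)
noncomputable def Ptab_s_695_701 (c : Nat) : Nat := @Bool.rec (fun _ => Nat) (Ptab_s_695_698 c) (Ptab_s_698_701 c) (Nat.ble 698 c)
noncomputable def Ptab_s_690_701 (c : Nat) : Nat := @Bool.rec (fun _ => Nat) (Ptab_s_690_695 c) (Ptab_s_695_701 c) (Nat.ble 695 c)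
noncomputable def Ptab_s_702_704 (c : Nat) : Nat := @Bool.rec (fun _ => Nat) (Ptab_702) (Ptab_703) (Nat.ble 703 c)
noncomputable def Ptab_s_701_704 (c : Nat) : Nat := @Bool.rec (fun _ => Nat) (Ptab_701) (Ptab_s_702_704 c) (Nat.ble 702 c)
noncomputable def Ptab_s_705_707 (c : Nat) : Nat := @Bool.rec (fun _ => Nat) (Ptab_705) (Ptab_706) (Nat.ble 706 c)
noncomputable def Ptab_s_704_707 (c : Nat) : Nat := @Bool.rec (fun _ => Nat) (Ptab_704) (Ptab_s_705_707 c) (Nat.ble 705 c)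
noncomputable def Ptab_s_701_707 (c : Nat) : Nat := @Bool.rec (fun _ => Nat) (Ptab_s_701_704 c) (Ptab_s_704_707 c) (Nat.ble 704 c)
noncomputable def Ptab_s_708_710 (c : Nat) : Nat := @Bool.rec (fun _ => Nat) (Ptab_708) (Ptab_709) (Nat.ble 709 c)
noncomputable def Ptab_s_707_710 (c : Nat) : Nat := @Bool.rec (fun _ => Nat) (Ptab_707) (Ptab_s_708_710 c) (Nat.ble 708 c)
noncomputable def Ptab_s_711_713 (c : Nat) : Nat := @Bool.rec (fun _ => Nat) (Ptab_711) (Ptab_712) (Nat.ble 712 c)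
noncomputable def Ptab_s_710_713 (c : Nat) : Nat := @Bool.rec (fun _ => Nat) (Ptab_710) (Ptab_s_711_713 c) (Nat.ble 711 c)
noncomputable def Ptab_s_707_713 (c : Nat) : Nat := @Bool.rec (fun _ => Nat) (Ptab_s_707_710 c) (Ptab_s_710_713 c) (Nat.ble 710 c)
noncomputable def Ptab_s_701_713 (c : Nat) : Nat := @Bool.rec (fun _ => Nat) (Ptab_s_701_707 c) (Ptab_s_707_713 c) (Nat.ble 707 c)
noncomputable def Ptab_s_690_713 (c : Nat) : Nat := @Bool.rec (fun _ => Nat) (Ptab_s_690_701 c) (Ptab_s_701_713 c) (Nat.ble 701 c)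
noncomputable def Ptab_s_713_715 (c : Nat) : Nat := @Bool.rec (fun _ => Nat) (Ptab_713) (Ptab_714) (Nat.ble 714 c)
noncomputable def Ptab_s_716_718 (c : Nat) : Nat := @Bool.rec (fun _ => Nat) (Ptab_716) (Ptab_717) (Nat.ble 717 c)
noncomputable def Ptab_s_715_718 (c : Nat) : Nat := @Bool.rec (fun _ => Nat) (Ptab_715) (Ptab_s_716_718 c) (Nat.ble 716 c)
noncomputable def Ptab_s_713_718 (c : Nat) : Nat := @Bool.rec (fun _ => Nat) (Ptab_s_713_715 c) (Ptab_s_715_718 c) (Nat.ble 715 c)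
noncomputable def Ptab_s_719_721 (c : Nat) : Nat := @Bool.rec (fun _ => Nat) (Ptab_719) (Ptab_720) (Nat.ble 720 c)
noncomputable def Ptab_s_718_721 (c : Nat) : Nat := @Bool.rec (fun _ => Nat) (Ptab_718) (Ptab_s_719_721 c) (Nat.ble 719 c)
noncomputable def Ptab_s_722_724 (c : Nat) : Nat := @Bool.rec (fun _ => Nat) (Ptab_722) (Ptab_723) (Nat.ble 723 c)
noncomputable def Ptab_s_721_724 (c : Nat) : Nat := @Bool.rec (fun _ => Nat) (Ptab_721) (Ptab_s_722_724 c) (Nat.ble 722 c)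
noncomputable def Ptab_s_718_724 (c : Nat) : Nat := @Bool.rec (fun _ => Nat) (Ptab_s_718_721 c) (Ptab_s_721_724 c) (Nat.ble 721 c)
noncomputable def Ptab_s_713_724 (c : Nat) : Nat := @Bool.rec (fun _ => Nat) (Ptab_s_713_718 c) (Ptab_s_718_724 c) (Nat.ble 718 c)
noncomputable def Ptab_s_725_727 (c : Nat) : Nat := @Bool.rec (fun _ => Nat) (Ptab_725) (Ptab_726) (Nat.ble 726 c)
noncomputable def Ptab_s_724_727 (c : Nat) : Nat := @Bool.rec (fun _ => Nat) (Ptab_724) (Ptab_s_725_727 c) (Nat.ble 725 c)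
noncomputable def Ptab_s_728_730 (c : Nat) : Nat := @Bool.rec (fun _ => Nat) (Ptab_728) (Ptab_729) (Nat.ble 729 c)
noncomputable def Ptab_s_727_730 (c : Nat) : Nat := @Bool.rec (fun _ => Nat) (Ptab_727) (Ptab_s_728_730 c) (Nat.ble 728 c)
noncomputable def Ptab_s_724_730 (c : Nat) : Nat := @Bool.rec (fun _ => Nat) (Ptab_s_724_727 c) (Ptab_s_727_730 c) (Nat.ble 727 c)
noncomputable def Ptab_s_731_733 (c : Nat) : Nat := @Bool.rec (fun _ => Nat) (Ptab_731) (Ptab_732) (Nat.ble 732 c)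
noncomputable def Ptab_s_730_733 (c : Nat) : Nat := @Bool.rec (fun _ => Nat) (Ptab_730) (Ptab_s_731_733 c) (Nat.ble 731 c)
noncomputable def Ptab_s_734_736 (c : Nat) : Nat := @Bool.rec (fun _ => Nat) (Ptab_734) (Ptab_735) (Nat.ble 735 c)
noncomputable def Ptab_s_733_736 (c : Nat) : Nat := @Bool.rec (fun _ => Nat) (Ptab_733) (Ptab_s_734_736 c) (Nat.ble 734 c)
noncomputable def Ptab_s_730_736 (c : Nat) : Nat := @Bool.rec (fun _ => Nat) (Ptab_s_730_733 c) (Ptab_s_733_736 c) (Nat.ble 733 c)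
noncomputable def Ptab_s_724_736 (c : Nat) : Nat := @Bool.rec (fun _ => Nat) (Ptab_s_724_730 c) (Ptab_s_730_736 c) (Nat.ble 730 c)
noncomputable def Ptab_s_713_736 (c : Nat) : Nat := @Bool.rec (fun _ => Nat) (Ptab_s_713_724 c) (Ptab_s_724_736 c) (Nat.ble 724 c)
noncomputable def Ptab_s_690_736 (c : Nat) : Nat := @Bool.rec (fun _ => Nat) (Ptab_s_690_713 c) (Ptab_s_713_736 c) (Nat.ble 713 c)
noncomputable def Ptab_s_644_736 (c : Nat) : Nat := @Bool.rec (fun _ => Nat) (Ptab_s_644_690 c) (Ptab_s_690_736 c) (Nat.ble 690 c)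
noncomputable def Ptab_s_552_736 (c : Nat) : Nat := @Bool.rec (fun _ => Nat) (Ptab_s_552_644 c) (Ptab_s_644_736 c) (Nat.ble 644 c)
noncomputable def Ptab_s_368_736 (c : Nat) : Nat := @Bool.rec (fun _ => Nat) (Ptab_s_368_552 c) (Ptab_s_552_736 c) (Nat.ble 552 c)
noncomputable def Ptab_s_0_736 (c : Nat) : Nat := @Bool.rec (fun _ => Nat) (Ptab_s_0_368 c) (Ptab_s_368_736 c) (Nat.ble 368 c)
noncomputable def Ptab_s_736_738 (c : Nat) : Nat := @Bool.rec (fun _ => Nat) (Ptab_736) (Ptab_737) (Nat.ble 737 c)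
noncomputable def Ptab_s_739_741 (c : Nat) : Nat := @Bool.rec (fun _ => Nat) (Ptab_739) (Ptab_740) (Nat.ble 740 c)
noncomputable def Ptab_s_738_741 (c : Nat) : Nat := @Bool.rec (fun _ => Nat) (Ptab_738) (Ptab_s_739_741 c) (Nat.ble 739 c)
noncomputable def Ptab_s_736_741 (c : Nat) : Nat := @Bool.rec (fun _ => Nat) (Ptab_s_736_738 c) (Ptab_s_738_741 c) (Nat.ble 738 c)
noncomputable def Ptab_s_742_744 (c : Nat) : Nat := @Bool.rec (fun _ => Nat) (Ptab_742) (Ptab_743) (Nat.ble 743 c)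
noncomputable def Ptab_s_741_744 (c : Nat) : Nat := @Bool.rec (fun _ => Nat) (Ptab_741) (Ptab_s_742_744 c) (Nat.ble 742 c)
noncomputable def Ptab_s_745_747 (c : Nat) : Nat := @Bool.rec (fun _ => Nat) (Ptab_745) (Ptab_746) (Nat.ble 746 c)
noncomputable def Ptab_s_744_747 (c : Nat) : Nat := @Bool.rec (fun _ => Nat) (Ptab_744) (Ptab_s_745_747 c) (Nat.ble 745 c)
noncomputable def Ptab_s_741_747 (c : Nat) : Nat := @Bool.rec (fun _ => Nat) (Ptab_s_741_744 c) (Ptab_s_744_747 c) (Nat.ble 744 c)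
noncomputable def Ptab_s_736_747 (c : Nat) : Nat := @Bool.rec (fun _ => Nat) (Ptab_s_736_741 c) (Ptab_s_741_747 c) (Nat.ble 741 c)
noncomputable def Ptab_s_748_750 (c : Nat) : Nat := @Bool.rec (fun _ => Nat) (Ptab_748) (Ptab_749) (Nat.ble 749 c)
noncomputable def Ptab_s_747_750 (c : Nat) : Nat := @Bool.rec (fun _ => Nat) (Ptab_747) (Ptab_s_748_750 c) (Nat.ble 748 c)
noncomputable def Ptab_s_751_753 (c : Nat) : Nat := @Bool.rec (fun _ => Nat) (Ptab_751) (Ptab_752) (Nat.ble 752 c)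
noncomputable def Ptab_s_750_753 (c : Nat) : Nat := @Bool.rec (fun _ => Nat) (Ptab_750) (Ptab_s_751_753 c) (Nat.ble 751 c)
noncomputable def Ptab_s_747_753 (c : Nat) : Nat := @Bool.rec (fun _ => Nat) (Ptab_s_747_750 c) (Ptab_s_750_753 c) (Nat.ble 750 c)
noncomputable def Ptab_s_754_756 (c : Nat) : Nat := @Bool.rec (fun _ => Nat) (Ptab_754) (Ptab_755) (Nat.ble 755 c)
noncomputable def Ptab_s_753_756 (c : Nat) : Nat := @Bool.rec (fun _ => Nat) (Ptab_753) (Ptab_s_754_756 c) (Nat.ble 754 c)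
noncomputable def Ptab_s_757_759 (c : Nat) : Nat := @Bool.rec (fun _ => Nat) (Ptab_757) (Ptab_758) (Nat.ble 758 c)
noncomputable def Ptab_s_756_759 (c : Nat) : Nat := @Bool.rec (fun _ => Nat) (Ptab_756) (Ptab_s_757_759 c) (Nat.ble 757 c)
noncomputable def Ptab_s_753_759 (c : Nat) : Nat := @Bool.rec (fun _ => Nat) (Ptab_s_753_756 c) (Ptab_s_756_759 c) (Nat.ble 756 c)
noncomputable def Ptab_s_747_759 (c : Nat) : Nat := @Bool.rec (fun _ => Nat) (Ptab_s_747_753 c) (Ptab_s_753_759 c) (Nat.ble 753 c)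
noncomputable def Ptab_s_736_759 (c : Nat) : Nat := @Bool.rec (fun _ => Nat) (Ptab_s_736_747 c) (Ptab_s_747_759 c) (Nat.ble 747 c)
noncomputable def Ptab_s_759_761 (c : Nat) : Nat := @Bool.rec (fun _ => Nat) (Ptab_759) (Ptab_760) (Nat.ble 760 c)
noncomputable def Ptab_s_762_764 (c : Nat) : Nat := @Bool.rec (fun _ => Nat) (Ptab_762) (Ptab_763) (Nat.ble 763 c)
noncomputable def Ptab_s_761_764 (c : Nat) : Nat := @Bool.rec (fun _ => Nat) (Ptab_761) (Ptab_s_762_764 c) (Nat.ble 762 c)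
noncomputable def Ptab_s_759_764 (c : Nat) : Nat := @Bool.rec (fun _ => Nat) (Ptab_s_759_761 c) (Ptab_s_761_764 c) (Nat.ble 761 c)
noncomputable def Ptab_s_765_767 (c : Nat) : Nat := @Bool.rec (fun _ => Nat) (Ptab_765) (Ptab_766) (Nat.ble 766 c)
noncomputable def Ptab_s_764_767 (c : Nat) : Nat := @Bool.rec (fun _ => Nat) (Ptab_764) (Ptab_s_765_767 c) (Nat.ble 765 c)
noncomputable def Ptab_s_768_770 (c : Nat) : Nat := @Bool.rec (fun _ => Nat) (Ptab_768) (Ptab_769) (Nat.ble 769 c)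
noncomputable def Ptab_s_767_770 (c : Nat) : Nat := @Bool.rec (fun _ => Nat) (Ptab_767) (Ptab_s_768_770 c) (Nat.ble 768 c)
noncomputable def Ptab_s_764_770 (c : Nat) : Nat := @Bool.rec (fun _ => Nat) (Ptab_s_764_767 c) (Ptab_s_767_770 c) (Nat.ble 767 c)
noncomputable def Ptab_s_759_770 (c : Nat) : Nat := @Bool.rec (fun _ => Nat) (Ptab_s_759_764 c) (Ptab_s_764_770 c) (Nat.ble 764 c)
noncomputable def Ptab_s_771_773 (c : Nat) : Nat := @Bool.rec (fun _ => Nat) (Ptab_771) (Ptab_772) (Nat.ble 772 c)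
noncomputable def Ptab_s_770_773 (c : Nat) : Nat := @Bool.rec (fun _ => Nat) (Ptab_770) (Ptab_s_771_773 c) (Nat.ble 771 c)
noncomputable def Ptab_s_774_776 (c : Nat) : Nat := @Bool.rec (fun _ => Nat) (Ptab_774) (Ptab_775) (Nat.ble 775 c)
noncomputable def Ptab_s_773_776 (c : Nat) : Nat := @Bool.rec (fun _ => Nat) (Ptab_773) (Ptab_s_774_776 c) (Nat.ble 774 c)
noncomputable def Ptab_s_770_776 (c : Nat) : Nat := @Bool.rec (fun _ => Nat) (Ptab_s_770_773 c) (Ptab_s_773_776 c) (Nat.ble 773 c)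
noncomputable def Ptab_s_777_779 (c : Nat) : Nat := @Bool.rec (fun _ => Nat) (Ptab_777) (Ptab_778) (Nat.ble 778 c)
noncomputable def Ptab_s_776_779 (c : Nat) : Nat := @Bool.rec (fun _ => Nat) (Ptab_776) (Ptab_s_777_779 c) (Nat.ble 777 c)
noncomputable def Ptab_s_780_782 (c : Nat) : Nat := @Bool.rec (fun _ => Nat) (Ptab_780) (Ptab_781) (Nat.ble 781 c)
noncomputable def Ptab_s_779_782 (c : Nat) : Nat := @Bool.rec (fun _ => Nat) (Ptab_779) (Ptab_s_780_782 c) (Nat.ble 780 c)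
noncomputable def Ptab_s_776_782 (c : Nat) : Nat := @Bool.rec (fun _ => Nat) (Ptab_s_776_779 c) (Ptab_s_779_782 c) (Nat.ble 779 c)
noncomputable def Ptab_s_770_782 (c : Nat) : Nat := @Bool.rec (fun _ => Nat) (Ptab_s_770_776 c) (Ptab_s_776_782 c) (Nat.ble 776 c)
noncomputable def Ptab_s_759_782 (c : Nat) : Nat := @Bool.rec (fun _ => Nat) (Ptab_s_759_770 c) (Ptab_s_770_782 c) (Nat.ble 770 c)
noncomputable def Ptab_s_736_782 (c : Nat) : Nat := @Bool.rec (fun _ => Nat) (Ptab_s_736_759 c) (Ptab_s_759_782 c) (Nat.ble 759 c)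
noncomputable def Ptab_s_782_784 (c : Nat) : Nat := @Bool.rec (fun _ => Nat) (Ptab_782) (Ptab_783) (Nat.ble 783 c)
noncomputable def Ptab_s_785_787 (c : Nat) : Nat := @Bool.rec (fun _ => Nat) (Ptab_785) (Ptab_786) (Nat.ble 786 c)
noncomputable def Ptab_s_784_787 (c : Nat) : Nat := @Bool.rec (fun _ => Nat) (Ptab_784) (Ptab_s_785_787 c) (Nat.ble 785 c)
noncomputable def Ptab_s_782_787 (c : Nat) : Nat := @Bool.rec (fun _ => Nat) (Ptab_s_782_784 c) (Ptab_s_784_787 c) (Nat.ble 784 c)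
noncomputable def Ptab_s_788_790 (c : Nat) : Nat := @Bool.rec (fun _ => Nat) (Ptab_788) (Ptab_789) (Nat.ble 789 c)
noncomputable def Ptab_s_787_790 (c : Nat) : Nat := @Bool.rec (fun _ => Nat) (Ptab_787) (Ptab_s_788_790 c) (Nat.ble 788 c)
noncomputable def Ptab_s_791_793 (c : Nat) : Nat := @Bool.rec (fun _ => Nat) (Ptab_791) (Ptab_792) (Nat.ble 792 c)
noncomputable def Ptab_s_790_793 (c : Nat) : Nat := @Bool.rec (fun _ => Nat) (Ptab_790) (Ptab_s_791_793 c) (Nat.ble 791 c)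
noncomputable def Ptab_s_787_793 (c : Nat) : Nat := @Bool.rec (fun _ => Nat) (Ptab_s_787_790 c) (Ptab_s_790_793 c) (Nat.ble 790 c)
noncomputable def Ptab_s_782_793 (c : Nat) : Nat := @Bool.rec (fun _ => Nat) (Ptab_s_782_787 c) (Ptab_s_787_793 c) (Nat.ble 787 c)
noncomputable def Ptab_s_794_796 (c : Nat) : Nat := @Bool.rec (fun _ => Nat) (Ptab_794) (Ptab_795) (Nat.ble 795 c)
noncomputable def Ptab_s_793_796 (c : Nat) : Nat := @Bool.rec (fun _ => Nat) (Ptab_793) (Ptab_s_794_796 c) (Nat.ble 794 c)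
noncomputable def Ptab_s_797_799 (c : Nat) : Nat := @Bool.rec (fun _ => Nat) (Ptab_797) (Ptab_798) (Nat.ble 798 c)
noncomputable def Ptab_s_796_799 (c : Nat) : Nat := @Bool.rec (fun _ => Nat) (Ptab_796) (Ptab_s_797_799 c) (Nat.ble 797 c)
noncomputable def Ptab_s_793_799 (c : Nat) : Nat := @Bool.rec (fun _ => Nat) (Ptab_s_793_796 c) (Ptab_s_796_799 c) (Nat.ble 796 c)
noncomputable def Ptab_s_800_802 (c : Nat) : Nat := @Bool.rec (fun _ => Nat) (Ptab_800) (Ptab_801) (Nat.ble 801 c)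
noncomputable def Ptab_s_799_802 (c : Nat) : Nat := @Bool.rec (fun _ => Nat) (Ptab_799) (Ptab_s_800_802 c) (Nat.ble 800 c)
noncomputable def Ptab_s_803_805 (c : Nat) : Nat := @Bool.rec (fun _ => Nat) (Ptab_803) (Ptab_804) (Nat.ble 804 c)
noncomputable def Ptab_s_802_805 (c : Nat) : Nat := @Bool.rec (fun _ => Nat) (Ptab_802) (Ptab_s_803_805 c) (Nat.ble 803 c)
noncomputable def Ptab_s_799_805 (c : Nat) : Nat := @Bool.rec (fun _ => Nat) (Ptab_s_799_802 c) (Ptab_s_802_805 c) (Nat.ble 802 c)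
noncomputable def Ptab_s_793_805 (c : Nat) : Nat := @Bool.rec (fun _ => Nat) (Ptab_s_793_799 c) (Ptab_s_799_805 c) (Nat.ble 799 c)
noncomputable def Ptab_s_782_805 (c : Nat) : Nat := @Bool.rec (fun _ => Nat) (Ptab_s_782_793 c) (Ptab_s_793_805 c) (Nat.ble 793 c)
noncomputable def Ptab_s_805_807 (c : Nat) : Nat := @Bool.rec (fun _ => Nat) (Ptab_805) (Ptab_806) (Nat.ble 806 c)
noncomputable def Ptab_s_808_810 (c : Nat) : Nat := @Bool.rec (fun _ => Nat) (Ptab_808) (Ptab_809) (Nat.ble 809 c)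
noncomputable def Ptab_s_807_810 (c : Nat) : Nat := @Bool.rec (fun _ => Nat) (Ptab_807) (Ptab_s_808_810 c) (Nat.ble 808 c)
noncomputable def Ptab_s_805_810 (c : Nat) : Nat := @Bool.rec (fun _ => Nat) (Ptab_s_805_807 c) (Ptab_s_807_810 c) (Nat.ble 807 c)
noncomputable def Ptab_s_811_813 (c : Nat) : Nat := @Bool.rec (fun _ => Nat) (Ptab_811) (Ptab_812) (Nat.ble 812 c)
noncomputable def Ptab_s_810_813 (c : Nat) : Nat := @Bool.rec (fun _ => Nat) (Ptab_810) (Ptab_s_811_813 c) (Nat.ble 811 c)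
noncomputable def Ptab_s_814_816 (c : Nat) : Nat := @Bool.rec (fun _ => Nat) (Ptab_814) (Ptab_815) (Nat.ble 815 c)
noncomputable def Ptab_s_813_816 (c : Nat) : Nat := @Bool.rec (fun _ => Nat) (Ptab_813) (Ptab_s_814_816 c) (Nat.ble 814 c)
noncomputable def Ptab_s_810_816 (c : Nat) : Nat := @Bool.rec (fun _ => Nat) (Ptab_s_810_813 c) (Ptab_s_813_816 c) (Nat.ble 813 c)
noncomputable def Ptab_s_805_816 (c : Nat) : Nat := @Bool.rec (fun _ => Nat) (Ptab_s_805_810 c) (Ptab_s_810_816 c) (Nat.ble 810 c)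
noncomputable def Ptab_s_817_819 (c : Nat) : Nat := @Bool.rec (fun _ => Nat) (Ptab_817) (Ptab_818) (Nat.ble 818 c)
noncomputable def Ptab_s_816_819 (c : Nat) : Nat := @Bool.rec (fun _ => Nat) (Ptab_816) (Ptab_s_817_819 c) (Nat.ble 817 c)
noncomputable def Ptab_s_820_822 (c : Nat) : Nat := @Bool.rec (fun _ => Nat) (Ptab_820) (Ptab_821) (Nat.ble 821 c)
noncomputable def Ptab_s_819_822 (c : Nat) : Nat := @Bool.rec (fun _ => Nat) (Ptab_819) (Ptab_s_820_822 c) (Nat.ble 820 c)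
noncomputable def Ptab_s_816_822 (c : Nat) : Nat := @Bool.rec (fun _ => Nat) (Ptab_s_816_819 c) (Ptab_s_819_822 c) (Nat.ble 819 c)
noncomputable def Ptab_s_823_825 (c : Nat) : Nat := @Bool.rec (fun _ => Nat) (Ptab_823) (Ptab_824) (Nat.ble 824 c)
noncomputable def Ptab_s_822_825 (c : Nat) : Nat := @Bool.rec (fun _ => Nat) (Ptab_822) (Ptab_s_823_825 c) (Nat.ble 823 c)
noncomputable def Ptab_s_826_828 (c : Nat) : Nat := @Bool.rec (fun _ => Nat) (Ptab_826) (Ptab_827) (Nat.ble 827 c)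
noncomputable def Ptab_s_825_828 (c : Nat) : Nat := @Bool.rec (fun _ => Nat) (Ptab_825) (Ptab_s_826_828 c) (Nat.ble 826 c)
noncomputable def Ptab_s_822_828 (c : Nat) : Nat := @Bool.rec (fun _ => Nat) (Ptab_s_822_825 c) (Ptab_s_825_828 c) (Nat.ble 825 c)
noncomputable def Ptab_s_816_828 (c : Nat) : Nat := @Bool.rec (fun _ => Nat) (Ptab_s_816_822 c) (Ptab_s_822_828 c) (Nat.ble 822 c)
noncomputable def Ptab_s_805_828 (c : Nat) : Nat := @Bool.rec (fun _ => Nat) (Ptab_s_805_816 c) (Ptab_s_816_828 c) (Nat.ble 816 c)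
noncomputable def Ptab_s_782_828 (c : Nat) : Nat := @Bool.rec (fun _ => Nat) (Ptab_s_782_805 c) (Ptab_s_805_828 c) (Nat.ble 805 c)
noncomputable def Ptab_s_736_828 (c : Nat) : Nat := @Bool.rec (fun _ => Nat) (Ptab_s_736_782 c) (Ptab_s_782_828 c) (Nat.ble 782 c)
noncomputable def Ptab_s_828_830 (c : Nat) : Nat := @Bool.rec (fun _ => Nat) (Ptab_828) (Ptab_829) (Nat.ble 829 c)
noncomputable def Ptab_s_831_833 (c : Nat) : Nat := @Bool.rec (fun _ => Nat) (Ptab_831) (Ptab_832) (Nat.ble 832 c)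
noncomputable def Ptab_s_830_833 (c : Nat) : Nat := @Bool.rec (fun _ => Nat) (Ptab_830) (Ptab_s_831_833 c) (Nat.ble 831 c)
noncomputable def Ptab_s_828_833 (c : Nat) : Nat := @Bool.rec (fun _ => Nat) (Ptab_s_828_830 c) (Ptab_s_830_833 c) (Nat.ble 830 c)
noncomputable def Ptab_s_834_836 (c : Nat) : Nat := @Bool.rec (fun _ => Nat) (Ptab_834) (Ptab_835) (Nat.ble 835 c)
noncomputable def Ptab_s_833_836 (c : Nat) : Nat := @Bool.rec (fun _ => Nat) (Ptab_833) (Ptab_s_834_836 c) (Nat.ble 834 c)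
noncomputable def Ptab_s_837_839 (c : Nat) : Nat := @Bool.rec (fun _ => Nat) (Ptab_837) (Ptab_838) (Nat.ble 838 c)
noncomputable def Ptab_s_836_839 (c : Nat) : Nat := @Bool.rec (fun _ => Nat) (Ptab_836) (Ptab_s_837_839 c) (Nat.ble 837 c)
noncomputable def Ptab_s_833_839 (c : Nat) : Nat := @Bool.rec (fun _ => Nat) (Ptab_s_833_836 c) (Ptab_s_836_839 c) (Nat.ble 836 c)
noncomputable def Ptab_s_828_839 (c : Nat) : Nat := @Bool.rec (fun _ => Nat) (Ptab_s_828_833 c) (Ptab_s_833_839 c) (Nat.ble 833 c)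
noncomputable def Ptab_s_840_842 (c : Nat) : Nat := @Bool.rec (fun _ => Nat) (Ptab_840) (Ptab_841) (Nat.ble 841 c)
noncomputable def Ptab_s_839_842 (c : Nat) : Nat := @Bool.rec (fun _ => Nat) (Ptab_839) (Ptab_s_840_842 c) (Nat.ble 840 c)
noncomputable def Ptab_s_843_845 (c : Nat) : Nat := @Bool.rec (fun _ => Nat) (Ptab_843) (Ptab_844) (Nat.ble 844 c)
noncomputable def Ptab_s_842_845 (c : Nat) : Nat := @Bool.rec (fun _ => Nat) (Ptab_842) (Ptab_s_843_845 c) (Nat.ble 843 c)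
noncomputable def Ptab_s_839_845 (c : Nat) : Nat := @Bool.rec (fun _ => Nat) (Ptab_s_839_842 c) (Ptab_s_842_845 c) (Nat.ble 842 c)
noncomputable def Ptab_s_846_848 (c : Nat) : Nat := @Bool.rec (fun _ => Nat) (Ptab_846) (Ptab_847) (Nat.ble 847 c)
noncomputable def Ptab_s_845_848 (c : Nat) : Nat := @Bool.rec (fun _ => Nat) (Ptab_845) (Ptab_s_846_848 c) (Nat.ble 846 c)
noncomputable def Ptab_s_849_851 (c : Nat) : Nat := @Bool.rec (fun _ => Nat) (Ptab_849) (Ptab_850) (Nat.ble 850 c)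
noncomputable def Ptab_s_848_851 (c : Nat) : Nat := @Bool.rec (fun _ => Nat) (Ptab_848) (Ptab_s_849_851 c) (Nat.ble 849 c)
noncomputable def Ptab_s_845_851 (c : Nat) : Nat := @Bool.rec (fun _ => Nat) (Ptab_s_845_848 c) (Ptab_s_848_851 c) (Nat.ble 848 c)
noncomputable def Ptab_s_839_851 (c : Nat) : Nat := @Bool.rec (fun _ => Nat) (Ptab_s_839_845 c) (Ptab_s_845_851 c) (Nat.ble 845 c)
noncomputable def Ptab_s_828_851 (c : Nat) : Nat := @Bool.rec (fun _ => Nat) (Ptab_s_828_839 c) (Ptab_s_839_851 c) (Nat.ble 839 c)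
noncomputable def Ptab_s_851_853 (c : Nat) : Nat := @Bool.rec (fun _ => Nat) (Ptab_851) (Ptab_852) (Nat.ble 852 c)
noncomputable def Ptab_s_854_856 (c : Nat) : Nat := @Bool.rec (fun _ => Nat) (Ptab_854) (Ptab_855) (Nat.ble 855 c)
noncomputable def Ptab_s_853_856 (c : Nat) : Nat := @Bool.rec (fun _ => Nat) (Ptab_853) (Ptab_s_854_856 c) (Nat.ble 854 c)
noncomputable def Ptab_s_851_856 (c : Nat) : Nat := @Bool.rec (fun _ => Nat) (Ptab_s_851_853 c) (Ptab_s_853_856 c) (Nat.ble 853 c)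
noncomputable def Ptab_s_857_859 (c : Nat) : Nat := @Bool.rec (fun _ => Nat) (Ptab_857) (Ptab_858) (Nat.ble 858 c)
noncomputable def Ptab_s_856_859 (c : Nat) : Nat := @Bool.rec (fun _ => Nat) (Ptab_856) (Ptab_s_857_859 c) (Nat.ble 857 c)
noncomputable def Ptab_s_860_862 (c : Nat) : Nat := @Bool.rec (fun _ => Nat) (Ptab_860) (Ptab_861) (Nat.ble 861 c)
noncomputable def Ptab_s_859_862 (c : Nat) : Nat := @Bool.rec (fun _ => Nat) (Ptab_859) (Ptab_s_860_862 c) (Nat.ble 860 c)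
noncomputable def Ptab_s_856_862 (c : Nat) : Nat := @Bool.rec (fun _ => Nat) (Ptab_s_856_859 c) (Ptab_s_859_862 c) (Nat.ble 859 c)
noncomputable def Ptab_s_851_862 (c : Nat) : Nat := @Bool.rec (fun _ => Nat) (Ptab_s_851_856 c) (Ptab_s_856_862 c) (Nat.ble 856 c)
noncomputable def Ptab_s_863_865 (c : Nat) : Nat := @Bool.rec (fun _ => Nat) (Ptab_863) (Ptab_864) (Nat.ble 864 c)
noncomputable def Ptab_s_862_865 (c : Nat) : Nat := @Bool.rec (fun _ => Nat) (Ptab_862) (Ptab_s_863_865 c) (Nat.ble 863 c)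
noncomputable def Ptab_s_866_868 (c : Nat) : Nat := @Bool.rec (fun _ => Nat) (Ptab_866) (Ptab_867) (Nat.ble 867 c)
noncomputable def Ptab_s_865_868 (c : Nat) : Nat := @Bool.rec (fun _ => Nat) (Ptab_865) (Ptab_s_866_868 c) (Nat.ble 866 c)
noncomputable def Ptab_s_862_868 (c : Nat) : Nat := @Bool.rec (fun _ => Nat) (Ptab_s_862_865 c) (Ptab_s_865_868 c) (Nat.ble 865 c)
noncomputable def Ptab_s_869_871 (c : Nat) : Nat := @Bool.rec (fun _ => Nat) (Ptab_869) (Ptab_870) (Nat.ble 870 c)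
noncomputable def Ptab_s_868_871 (c : Nat) : Nat := @Bool.rec (fun _ => Nat) (Ptab_868) (Ptab_s_869_871 c) (Nat.ble 869 c)
noncomputable def Ptab_s_872_874 (c : Nat) : Nat := @Bool.rec (fun _ => Nat) (Ptab_872) (Ptab_873) (Nat.ble 873 c)
noncomputable def Ptab_s_871_874 (c : Nat) : Nat := @Bool.rec (fun _ => Nat) (Ptab_871) (Ptab_s_872_874 c) (Nat.ble 872 c)
noncomputable def Ptab_s_868_874 (c : Nat) : Nat := @Bool.rec (fun _ => Nat) (Ptab_s_868_871 c) (Ptab_s_871_874 c) (Nat.ble 871 c)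
noncomputable def Ptab_s_862_874 (c : Nat) : Nat := @Bool.rec (fun _ => Nat) (Ptab_s_862_868 c) (Ptab_s_868_874 c) (Nat.ble 868 c)
noncomputable def Ptab_s_851_874 (c : Nat) : Nat := @Bool.rec (fun _ => Nat) (Ptab_s_851_862 c) (Ptab_s_862_874 c) (Nat.ble 862 c)
noncomputable def Ptab_s_828_874 (c : Nat) : Nat := @Bool.rec (fun _ => Nat) (Ptab_s_828_851 c) (Ptab_s_851_874 c) (Nat.ble 851 c)
noncomputable def Ptab_s_874_876 (c : Nat) : Nat := @Bool.rec (fun _ => Nat) (Ptab_874) (Ptab_875) (Nat.ble 875 c)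
noncomputable def Ptab_s_877_879 (c : Nat) : Nat := @Bool.rec (fun _ => Nat) (Ptab_877) (Ptab_878) (Nat.ble 878 c)
noncomputable def Ptab_s_876_879 (c : Nat) : Nat := @Bool.rec (fun _ => Nat) (Ptab_876) (Ptab_s_877_879 c) (Nat.ble 877 c)
noncomputable def Ptab_s_874_879 (c : Nat) : Nat := @Bool.rec (fun _ => Nat) (Ptab_s_874_876 c) (Ptab_s_876_879 c) (Nat.ble 876 c)
noncomputable def Ptab_s_880_882 (c : Nat) : Nat := @Bool.rec (fun _ => Nat) (Ptab_880) (Ptab_881) (Nat.ble 881 c)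
noncomputable def Ptab_s_879_882 (c : Nat) : Nat := @Bool.rec (fun _ => Nat) (Ptab_879) (Ptab_s_880_882 c) (Nat.ble 880 c)
noncomputable def Ptab_s_883_885 (c : Nat) : Nat := @Bool.rec (fun _ => Nat) (Ptab_883) (Ptab_884) (Nat.ble 884 c)
noncomputable def Ptab_s_882_885 (c : Nat) : Nat := @Bool.rec (fun _ => Nat) (Ptab_882) (Ptab_s_883_885 c) (Nat.ble 883 c)
noncomputable def Ptab_s_879_885 (c : Nat) : Nat := @Bool.rec (fun _ => Nat) (Ptab_s_879_882 c) (Ptab_s_882_885 c) (Nat.ble 882 c)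
noncomputable def Ptab_s_874_885 (c : Nat) : Nat := @Bool.rec (fun _ => Nat) (Ptab_s_874_879 c) (Ptab_s_879_885 c) (Nat.ble 879 c)
noncomputable def Ptab_s_886_888 (c : Nat) : Nat := @Bool.rec (fun _ => Nat) (Ptab_886) (Ptab_887) (Nat.ble 887 c)
noncomputable def Ptab_s_885_888 (c : Nat) : Nat := @Bool.rec (fun _ => Nat) (Ptab_885) (Ptab_s_886_888 c) (Nat.ble 886 c)
noncomputable def Ptab_s_889_891 (c : Nat) : Nat := @Bool.rec (fun _ => Nat) (Ptab_889) (Ptab_890) (Nat.ble 890 c)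
noncomputable def Ptab_s_888_891 (c : Nat) : Nat := @Bool.rec (fun _ => Nat) (Ptab_888) (Ptab_s_889_891 c) (Nat.ble 889 c)
noncomputable def Ptab_s_885_891 (c : Nat) : Nat := @Bool.rec (fun _ => Nat) (Ptab_s_885_888 c) (Ptab_s_888_891 c) (Nat.ble 888 c)
noncomputable def Ptab_s_892_894 (c : Nat) : Nat := @Bool.rec (fun _ => Nat) (Ptab_892) (Ptab_893) (Nat.ble 893 c)
noncomputable def Ptab_s_891_894 (c : Nat) : Nat := @Bool.rec (fun _ => Nat) (Ptab_891) (Ptab_s_892_894 c) (Nat.ble 892 c)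
noncomputable def Ptab_s_895_897 (c : Nat) : Nat := @Bool.rec (fun _ => Nat) (Ptab_895) (Ptab_896) (Nat.ble 896 c)
noncomputable def Ptab_s_894_897 (c : Nat) : Nat := @Bool.rec (fun _ => Nat) (Ptab_894) (Ptab_s_895_897 c) (Nat.ble 895 c)
noncomputable def Ptab_s_891_897 (c : Nat) : Nat := @Bool.rec (fun _ => Nat) (Ptab_s_891_894 c) (Ptab_s_894_897 c) (Nat.ble 894 c)
noncomputable def Ptab_s_885_897 (c : Nat) : Nat := @Bool.rec (fun _ => Nat) (Ptab_s_885_891 c) (Ptab_s_891_897 c) (Nat.ble 891 c)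
noncomputable def Ptab_s_874_897 (c : Nat) : Nat := @Bool.rec (fun _ => Nat) (Ptab_s_874_885 c) (Ptab_s_885_897 c) (Nat.ble 885 c)
noncomputable def Ptab_s_897_899 (c : Nat) : Nat := @Bool.rec (fun _ => Nat) (Ptab_897) (Ptab_898) (Nat.ble 898 c)
noncomputable def Ptab_s_900_902 (c : Nat) : Nat := @Bool.rec (fun _ => Nat) (Ptab_900) (Ptab_901) (Nat.ble 901 c)
noncomputable def Ptab_s_899_902 (c : Nat) : Nat := @Bool.rec (fun _ => Nat) (Ptab_899) (Ptab_s_900_902 c) (Nat.ble 900 c)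
noncomputable def Ptab_s_897_902 (c : Nat) : Nat := @Bool.rec (fun _ => Nat) (Ptab_s_897_899 c) (Ptab_s_899_902 c) (Nat.ble 899 c)
noncomputable def Ptab_s_903_905 (c : Nat) : Nat := @Bool.rec (fun _ => Nat) (Ptab_903) (Ptab_904) (Nat.ble 904 c)
noncomputable def Ptab_s_902_905 (c : Nat) : Nat := @Bool.rec (fun _ => Nat) (Ptab_902) (Ptab_s_903_905 c) (Nat.ble 903 c)
noncomputable def Ptab_s_906_908 (c : Nat) : Nat := @Bool.rec (fun _ => Nat) (Ptab_906) (Ptab_907) (Nat.ble 907 c)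
noncomputable def Ptab_s_905_908 (c : Nat) : Nat := @Bool.rec (fun _ => Nat) (Ptab_905) (Ptab_s_906_908 c) (Nat.ble 906 c)
noncomputable def Ptab_s_902_908 (c : Nat) : Nat := @Bool.rec (fun _ => Nat) (Ptab_s_902_905 c) (Ptab_s_905_908 c) (Nat.ble 905 c)
noncomputable def Ptab_s_897_908 (c : Nat) : Nat := @Bool.rec (fun _ => Nat) (Ptab_s_897_902 c) (Ptab_s_902_908 c) (Nat.ble 902 c)
noncomputable def Ptab_s_909_911 (c : Nat) : Nat := @Bool.rec (fun _ => Nat) (Ptab_909) (Ptab_910) (Nat.ble 910 c)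
noncomputable def Ptab_s_908_911 (c : Nat) : Nat := @Bool.rec (fun _ => Nat) (Ptab_908) (Ptab_s_909_911 c) (Nat.ble 909 c)
noncomputable def Ptab_s_912_914 (c : Nat) : Nat := @Bool.rec (fun _ => Nat) (Ptab_912) (Ptab_913) (Nat.ble 913 c)
noncomputable def Ptab_s_911_914 (c : Nat) : Nat := @Bool.rec (fun _ => Nat) (Ptab_911) (Ptab_s_912_914 c) (Nat.ble 912 c)
noncomputable def Ptab_s_908_914 (c : Nat) : Nat := @Bool.rec (fun _ => Nat) (Ptab_s_908_911 c) (Ptab_s_911_914 c) (Nat.ble 911 c)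
noncomputable def Ptab_s_915_917 (c : Nat) : Nat := @Bool.rec (fun _ => Nat) (Ptab_915) (Ptab_916) (Nat.ble 916 c)
noncomputable def Ptab_s_914_917 (c : Nat) : Nat := @Bool.rec (fun _ => Nat) (Ptab_914) (Ptab_s_915_917 c) (Nat.ble 915 c)
noncomputable def Ptab_s_918_920 (c : Nat) : Nat := @Bool.rec (fun _ => Nat) (Ptab_918) (Ptab_919) (Nat.ble 919 c)
noncomputable def Ptab_s_917_920 (c : Nat) : Nat := @Bool.rec (fun _ => Nat) (Ptab_917) (Ptab_s_918_920 c) (Nat.ble 918 c)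
noncomputable def Ptab_s_914_920 (c : Nat) : Nat := @Bool.rec (fun _ => Nat) (Ptab_s_914_917 c) (Ptab_s_917_920 c) (Nat.ble 917 c)
noncomputable def Ptab_s_908_920 (c : Nat) : Nat := @Bool.rec (fun _ => Nat) (Ptab_s_908_914 c) (Ptab_s_914_920 c) (Nat.ble 914 c)
noncomputable def Ptab_s_897_920 (c : Nat) : Nat := @Bool.rec (fun _ => Nat) (Ptab_s_897_908 c) (Ptab_s_908_920 c) (Nat.ble 908 c)
noncomputable def Ptab_s_874_920 (c : Nat) : Nat := @Bool.rec (fun _ => Nat) (Ptab_s_874_897 c) (Ptab_s_897_920 c) (Nat.ble 897 c)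
noncomputable def Ptab_s_828_920 (c : Nat) : Nat := @Bool.rec (fun _ => Nat) (Ptab_s_828_874 c) (Ptab_s_874_920 c) (Nat.ble 874 c)
noncomputable def Ptab_s_736_920 (c : Nat) : Nat := @Bool.rec (fun _ => Nat) (Ptab_s_736_828 c) (Ptab_s_828_920 c) (Nat.ble 828 c)
noncomputable def Ptab_s_920_922 (c : Nat) : Nat := @Bool.rec (fun _ => Nat) (Ptab_920) (Ptab_921) (Nat.ble 921 c)
noncomputable def Ptab_s_923_925 (c : Nat) : Nat := @Bool.rec (fun _ => Nat) (Ptab_923) (Ptab_924) (Nat.ble 924 c)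
noncomputable def Ptab_s_922_925 (c : Nat) : Nat := @Bool.rec (fun _ => Nat) (Ptab_922) (Ptab_s_923_925 c) (Nat.ble 923 c)
noncomputable def Ptab_s_920_925 (c : Nat) : Nat := @Bool.rec (fun _ => Nat) (Ptab_s_920_922 c) (Ptab_s_922_925 c) (Nat.ble 922 c)
noncomputable def Ptab_s_926_928 (c : Nat) : Nat := @Bool.rec (fun _ => Nat) (Ptab_926) (Ptab_927) (Nat.ble 927 c)
noncomputable def Ptab_s_925_928 (c : Nat) : Nat := @Bool.rec (fun _ => Nat) (Ptab_925) (Ptab_s_926_928 c) (Nat.ble 926 c)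
noncomputable def Ptab_s_929_931 (c : Nat) : Nat := @Bool.rec (fun _ => Nat) (Ptab_929) (Ptab_930) (Nat.ble 930 c)
noncomputable def Ptab_s_928_931 (c : Nat) : Nat := @Bool.rec (fun _ => Nat) (Ptab_928) (Ptab_s_929_931 c) (Nat.ble 929 c)
noncomputable def Ptab_s_925_931 (c : Nat) : Nat := @Bool.rec (fun _ => Nat) (Ptab_s_925_928 c) (Ptab_s_928_931 c) (Nat.ble 928 c)
noncomputable def Ptab_s_920_931 (c : Nat) : Nat := @Bool.rec (fun _ => Nat) (Ptab_s_920_925 c) (Ptab_s_925_931 c) (Nat.ble 925 c)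
noncomputable def Ptab_s_932_934 (c : Nat) : Nat := @Bool.rec (fun _ => Nat) (Ptab_932) (Ptab_933) (Nat.ble 933 c)
noncomputable def Ptab_s_931_934 (c : Nat) : Nat := @Bool.rec (fun _ => Nat) (Ptab_931) (Ptab_s_932_934 c) (Nat.ble 932 c)
noncomputable def Ptab_s_935_937 (c : Nat) : Nat := @Bool.rec (fun _ => Nat) (Ptab_935) (Ptab_936) (Nat.ble 936 c)
noncomputable def Ptab_s_934_937 (c : Nat) : Nat := @Bool.rec (fun _ => Nat) (Ptab_934) (Ptab_s_935_937 c) (Nat.ble 935 c)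
noncomputable def Ptab_s_931_937 (c : Nat) : Nat := @Bool.rec (fun _ => Nat) (Ptab_s_931_934 c) (Ptab_s_934_937 c) (Nat.ble 934 c)
noncomputable def Ptab_s_938_940 (c : Nat) : Nat := @Bool.rec (fun _ => Nat) (Ptab_938) (Ptab_939) (Nat.ble 939 c)
noncomputable def Ptab_s_937_940 (c : Nat) : Nat := @Bool.rec (fun _ => Nat) (Ptab_937) (Ptab_s_938_940 c) (Nat.ble 938 c)
noncomputable def Ptab_s_941_943 (c : Nat) : Nat := @Bool.rec (fun _ => Nat) (Ptab_941) (Ptab_942) (Nat.ble 942 c)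
noncomputable def Ptab_s_940_943 (c : Nat) : Nat := @Bool.rec (fun _ => Nat) (Ptab_940) (Ptab_s_941_943 c) (Nat.ble 941 c)
noncomputable def Ptab_s_937_943 (c : Nat) : Nat := @Bool.rec (fun _ => Nat) (Ptab_s_937_940 c) (Ptab_s_940_943 c) (Nat.ble 940 c)
noncomputable def Ptab_s_931_943 (c : Nat) : Nat := @Bool.rec (fun _ => Nat) (Ptab_s_931_937 c) (Ptab_s_937_943 c) (Nat.ble 937 c)
noncomputable def Ptab_s_920_943 (c : Nat) : Nat := @Bool.rec (fun _ => Nat) (Ptab_s_920_931 c) (Ptab_s_931_943 c) (Nat.ble 931 c)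
noncomputable def Ptab_s_943_945 (c : Nat) : Nat := @Bool.rec (fun _ => Nat) (Ptab_943) (Ptab_944) (Nat.ble 944 c)
noncomputable def Ptab_s_946_948 (c : Nat) : Nat := @Bool.rec (fun _ => Nat) (Ptab_946) (Ptab_947) (Nat.ble 947 c)
noncomputable def Ptab_s_945_948 (c : Nat) : Nat := @Bool.rec (fun _ => Nat) (Ptab_945) (Ptab_s_946_948 c) (Nat.ble 946 c)
noncomputable def Ptab_s_943_948 (c : Nat) : Nat := @Bool.rec (fun _ => Nat) (Ptab_s_943_945 c) (Ptab_s_945_948 c) (Nat.ble 945 c)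
noncomputable def Ptab_s_949_951 (c : Nat) : Nat := @Bool.rec (fun _ => Nat) (Ptab_949) (Ptab_950) (Nat.ble 950 c)
noncomputable def Ptab_s_948_951 (c : Nat) : Nat := @Bool.rec (fun _ => Nat) (Ptab_948) (Ptab_s_949_951 c) (Nat.ble 949 c)
noncomputable def Ptab_s_952_954 (c : Nat) : Nat := @Bool.rec (fun _ => Nat) (Ptab_952) (Ptab_953) (Nat.ble 953 c)
noncomputable def Ptab_s_951_954 (c : Nat) : Nat := @Bool.rec (fun _ => Nat) (Ptab_951) (Ptab_s_952_954 c) (Nat.ble 952 c)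
noncomputable def Ptab_s_948_954 (c : Nat) : Nat := @Bool.rec (fun _ => Nat) (Ptab_s_948_951 c) (Ptab_s_951_954 c) (Nat.ble 951 c)
noncomputable def Ptab_s_943_954 (c : Nat) : Nat := @Bool.rec (fun _ => Nat) (Ptab_s_943_948 c) (Ptab_s_948_954 c) (Nat.ble 948 c)
noncomputable def Ptab_s_955_957 (c : Nat) : Nat := @Bool.rec (fun _ => Nat) (Ptab_955) (Ptab_956) (Nat.ble 956 c)
noncomputable def Ptab_s_954_957 (c : Nat) : Nat := @Bool.rec (fun _ => Nat) (Ptab_954) (Ptab_s_955_957 c) (Nat.ble 955 c)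
noncomputable def Ptab_s_958_960 (c : Nat) : Nat := @Bool.rec (fun _ => Nat) (Ptab_958) (Ptab_959) (Nat.ble 959 c)
noncomputable def Ptab_s_957_960 (c : Nat) : Nat := @Bool.rec (fun _ => Nat) (Ptab_957) (Ptab_s_958_960 c) (Nat.ble 958 c)
noncomputable def Ptab_s_954_960 (c : Nat) : Nat := @Bool.rec (fun _ => Nat) (Ptab_s_954_957 c) (Ptab_s_957_960 c) (Nat.ble 957 c)
noncomputable def Ptab_s_961_963 (c : Nat) : Nat := @Bool.rec (fun _ => Nat) (Ptab_961) (Ptab_962) (Nat.ble 962 c)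
noncomputable def Ptab_s_960_963 (c : Nat) : Nat := @Bool.rec (fun _ => Nat) (Ptab_960) (Ptab_s_961_963 c) (Nat.ble 961 c)
noncomputable def Ptab_s_964_966 (c : Nat) : Nat := @Bool.rec (fun _ => Nat) (Ptab_964) (Ptab_965) (Nat.ble 965 c)
noncomputable def Ptab_s_963_966 (c : Nat) : Nat := @Bool.rec (fun _ => Nat) (Ptab_963) (Ptab_s_964_966 c) (Nat.ble 964 c)
noncomputable def Ptab_s_960_966 (c : Nat) : Nat := @Bool.rec (fun _ => Nat) (Ptab_s_960_963 c) (Ptab_s_963_966 c) (Nat.ble 963 c)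
noncomputable def Ptab_s_954_966 (c : Nat) : Nat := @Bool.rec (fun _ => Nat) (Ptab_s_954_960 c) (Ptab_s_960_966 c) (Nat.ble 960 c)
noncomputable def Ptab_s_943_966 (c : Nat) : Nat := @Bool.rec (fun _ => Nat) (Ptab_s_943_954 c) (Ptab_s_954_966 c) (Nat.ble 954 c)
noncomputable def Ptab_s_920_966 (c : Nat) : Nat := @Bool.rec (fun _ => Nat) (Ptab_s_920_943 c) (Ptab_s_943_966 c) (Nat.ble 943 c)
noncomputable def Ptab_s_966_968 (c : Nat) : Nat := @Bool.rec (fun _ => Nat) (Ptab_966) (Ptab_967) (Nat.ble 967 c)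
noncomputable def Ptab_s_969_971 (c : Nat) : Nat := @Bool.rec (fun _ => Nat) (Ptab_969) (Ptab_970) (Nat.ble 970 c)
noncomputable def Ptab_s_968_971 (c : Nat) : Nat := @Bool.rec (fun _ => Nat) (Ptab_968) (Ptab_s_969_971 c) (Nat.ble 969 c)
noncomputable def Ptab_s_966_971 (c : Nat) : Nat := @Bool.rec (fun _ => Nat) (Ptab_s_966_968 c) (Ptab_s_968_971 c) (Nat.ble 968 c)
noncomputable def Ptab_s_972_974 (c : Nat) : Nat := @Bool.rec (fun _ => Nat) (Ptab_972) (Ptab_973) (Nat.ble 973 c)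
noncomputable def Ptab_s_971_974 (c : Nat) : Nat := @Bool.rec (fun _ => Nat) (Ptab_971) (Ptab_s_972_974 c) (Nat.ble 972 c)
noncomputable def Ptab_s_975_977 (c : Nat) : Nat := @Bool.rec (fun _ => Nat) (Ptab_975) (Ptab_976) (Nat.ble 976 c)
noncomputable def Ptab_s_974_977 (c : Nat) : Nat := @Bool.rec (fun _ => Nat) (Ptab_974) (Ptab_s_975_977 c) (Nat.ble 975 c)
noncomputable def Ptab_s_971_977 (c : Nat) : Nat := @Bool.rec (fun _ => Nat) (Ptab_s_971_974 c) (Ptab_s_974_977 c) (Nat.ble 974 c)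
noncomputable def Ptab_s_966_977 (c : Nat) : Nat := @Bool.rec (fun _ => Nat) (Ptab_s_966_971 c) (Ptab_s_971_977 c) (Nat.ble 971 c)
noncomputable def Ptab_s_978_980 (c : Nat) : Nat := @Bool.rec (fun _ => Nat) (Ptab_978) (Ptab_979) (Nat.ble 979 c)
noncomputable def Ptab_s_977_980 (c : Nat) : Nat := @Bool.rec (fun _ => Nat) (Ptab_977) (Ptab_s_978_980 c) (Nat.ble 978 c)
noncomputable def Ptab_s_981_983 (c : Nat) : Nat := @Bool.rec (fun _ => Nat) (Ptab_981) (Ptab_982) (Nat.ble 982 c)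
noncomputable def Ptab_s_980_983 (c : Nat) : Nat := @Bool.rec (fun _ => Nat) (Ptab_980) (Ptab_s_981_983 c) (Nat.ble 981 c)
noncomputable def Ptab_s_977_983 (c : Nat) : Nat := @Bool.rec (fun _ => Nat) (Ptab_s_977_980 c) (Ptab_s_980_983 c) (Nat.ble 980 c)
noncomputable def Ptab_s_984_986 (c : Nat) : Nat := @Bool.rec (fun _ => Nat) (Ptab_984) (Ptab_985) (Nat.ble 985 c)
noncomputable def Ptab_s_983_986 (c : Nat) : Nat := @Bool.rec (fun _ => Nat) (Ptab_983) (Ptab_s_984_986 c) (Nat.ble 984 c)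
noncomputable def Ptab_s_987_989 (c : Nat) : Nat := @Bool.rec (fun _ => Nat) (Ptab_987) (Ptab_988) (Nat.ble 988 c)
noncomputable def Ptab_s_986_989 (c : Nat) : Nat := @Bool.rec (fun _ => Nat) (Ptab_986) (Ptab_s_987_989 c) (Nat.ble 987 c)
noncomputable def Ptab_s_983_989 (c : Nat) : Nat := @Bool.rec (fun _ => Nat) (Ptab_s_983_986 c) (Ptab_s_986_989 c) (Nat.ble 986 c)
noncomputable def Ptab_s_977_989 (c : Nat) : Nat := @Bool.rec (fun _ => Nat) (Ptab_s_977_983 c) (Ptab_s_983_989 c) (Nat.ble 983 c)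
noncomputable def Ptab_s_966_989 (c : Nat) : Nat := @Bool.rec (fun _ => Nat) (Ptab_s_966_977 c) (Ptab_s_977_989 c) (Nat.ble 977 c)
noncomputable def Ptab_s_989_991 (c : Nat) : Nat := @Bool.rec (fun _ => Nat) (Ptab_989) (Ptab_990) (Nat.ble 990 c)
noncomputable def Ptab_s_992_994 (c : Nat) : Nat := @Bool.rec (fun _ => Nat) (Ptab_992) (Ptab_993) (Nat.ble 993 c)
noncomputable def Ptab_s_991_994 (c : Nat) : Nat := @Bool.rec (fun _ => Nat) (Ptab_991) (Ptab_s_992_994 c) (Nat.ble 992 c)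
noncomputable def Ptab_s_989_994 (c : Nat) : Nat := @Bool.rec (fun _ => Nat) (Ptab_s_989_991 c) (Ptab_s_991_994 c) (Nat.ble 991 c)
noncomputable def Ptab_s_995_997 (c : Nat) : Nat := @Bool.rec (fun _ => Nat) (Ptab_995) (Ptab_996) (Nat.ble 996 c)
noncomputable def Ptab_s_994_997 (c : Nat) : Nat := @Bool.rec (fun _ => Nat) (Ptab_994) (Ptab_s_995_997 c) (Nat.ble 995 c)
noncomputable def Ptab_s_998_1000 (c : Nat) : Nat := @Bool.rec (fun _ => Nat) (Ptab_998) (Ptab_999) (Nat.ble 999 c)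
noncomputable def Ptab_s_997_1000 (c : Nat) : Nat := @Bool.rec (fun _ => Nat) (Ptab_997) (Ptab_s_998_1000 c) (Nat.ble 998 c)
noncomputable def Ptab_s_994_1000 (c : Nat) : Nat := @Bool.rec (fun _ => Nat) (Ptab_s_994_997 c) (Ptab_s_997_1000 c) (Nat.ble 997 c)
noncomputable def Ptab_s_989_1000 (c : Nat) : Nat := @Bool.rec (fun _ => Nat) (Ptab_s_989_994 c) (Ptab_s_994_1000 c) (Nat.ble 994 c)
noncomputable def Ptab_s_1001_1003 (c : Nat) : Nat := @Bool.rec (fun _ => Nat) (Ptab_1001) (Ptab_1002) (Nat.ble 1002 c)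
noncomputable def Ptab_s_1000_1003 (c : Nat) : Nat := @Bool.rec (fun _ => Nat) (Ptab_1000) (Ptab_s_1001_1003 c) (Nat.ble 1001 c)
noncomputable def Ptab_s_1004_1006 (c : Nat) : Nat := @Bool.rec (fun _ => Nat) (Ptab_1004) (Ptab_1005) (Nat.ble 1005 c)
noncomputable def Ptab_s_1003_1006 (c : Nat) : Nat := @Bool.rec (fun _ => Nat) (Ptab_1003) (Ptab_s_1004_1006 c) (Nat.ble 1004 c)
noncomputable def Ptab_s_1000_1006 (c : Nat) : Nat := @Bool.rec (fun _ => Nat) (Ptab_s_1000_1003 c) (Ptab_s_1003_1006 c) (Nat.ble 1003 c)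
noncomputable def Ptab_s_1007_1009 (c : Nat) : Nat := @Bool.rec (fun _ => Nat) (Ptab_1007) (Ptab_1008) (Nat.ble 1008 c)
noncomputable def Ptab_s_1006_1009 (c : Nat) : Nat := @Bool.rec (fun _ => Nat) (Ptab_1006) (Ptab_s_1007_1009 c) (Nat.ble 1007 c)
noncomputable def Ptab_s_1010_1012 (c : Nat) : Nat := @Bool.rec (fun _ => Nat) (Ptab_1010) (Ptab_1011) (Nat.ble 1011 c)
noncomputable def Ptab_s_1009_1012 (c : Nat) : Nat := @Bool.rec (fun _ => Nat) (Ptab_1009) (Ptab_s_1010_1012 c) (Nat.ble 1010 c)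
noncomputable def Ptab_s_1006_1012 (c : Nat) : Nat := @Bool.rec (fun _ => Nat) (Ptab_s_1006_1009 c) (Ptab_s_1009_1012 c) (Nat.ble 1009 c)
noncomputable def Ptab_s_1000_1012 (c : Nat) : Nat := @Bool.rec (fun _ => Nat) (Ptab_s_1000_1006 c) (Ptab_s_1006_1012 c) (Nat.ble 1006 c)
noncomputable def Ptab_s_989_1012 (c : Nat) : Nat := @Bool.rec (fun _ => Nat) (Ptab_s_989_1000 c) (Ptab_s_1000_1012 c) (Nat.ble 1000 c)
noncomputable def Ptab_s_966_1012 (c : Nat) : Nat := @Bool.rec (fun _ => Nat) (Ptab_s_966_989 c) (Ptab_s_989_1012 c) (Nat.ble 989 c)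
noncomputable def Ptab_s_920_1012 (c : Nat) : Nat := @Bool.rec (fun _ => Nat) (Ptab_s_920_966 c) (Ptab_s_966_1012 c) (Nat.ble 966 c)
noncomputable def Ptab_s_1012_1014 (c : Nat) : Nat := @Bool.rec (fun _ => Nat) (Ptab_1012) (Ptab_1013) (Nat.ble 1013 c)
noncomputable def Ptab_s_1015_1017 (c : Nat) : Nat := @Bool.rec (fun _ => Nat) (Ptab_1015) (Ptab_1016) (Nat.ble 1016 c)
noncomputable def Ptab_s_1014_1017 (c : Nat) : Nat := @Bool.rec (fun _ => Nat) (Ptab_1014) (Ptab_s_1015_1017 c) (Nat.ble 1015 c)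
noncomputable def Ptab_s_1012_1017 (c : Nat) : Nat := @Bool.rec (fun _ => Nat) (Ptab_s_1012_1014 c) (Ptab_s_1014_1017 c) (Nat.ble 1014 c)
noncomputable def Ptab_s_1018_1020 (c : Nat) : Nat := @Bool.rec (fun _ => Nat) (Ptab_1018) (Ptab_1019) (Nat.ble 1019 c)
noncomputable def Ptab_s_1017_1020 (c : Nat) : Nat := @Bool.rec (fun _ => Nat) (Ptab_1017) (Ptab_s_1018_1020 c) (Nat.ble 1018 c)
noncomputable def Ptab_s_1021_1023 (c : Nat) : Nat := @Bool.rec (fun _ => Nat) (Ptab_1021) (Ptab_1022) (Nat.ble 1022 c)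
noncomputable def Ptab_s_1020_1023 (c : Nat) : Nat := @Bool.rec (fun _ => Nat) (Ptab_1020) (Ptab_s_1021_1023 c) (Nat.ble 1021 c)
noncomputable def Ptab_s_1017_1023 (c : Nat) : Nat := @Bool.rec (fun _ => Nat) (Ptab_s_1017_1020 c) (Ptab_s_1020_1023 c) (Nat.ble 1020 c)
noncomputable def Ptab_s_1012_1023 (c : Nat) : Nat := @Bool.rec (fun _ => Nat) (Ptab_s_1012_1017 c) (Ptab_s_1017_1023 c) (Nat.ble 1017 c)
noncomputable def Ptab_s_1024_1026 (c : Nat) : Nat := @Bool.rec (fun _ => Nat) (Ptab_1024) (Ptab_1025) (Nat.ble 1025 c)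
noncomputable def Ptab_s_1023_1026 (c : Nat) : Nat := @Bool.rec (fun _ => Nat) (Ptab_1023) (Ptab_s_1024_1026 c) (Nat.ble 1024 c)
noncomputable def Ptab_s_1027_1029 (c : Nat) : Nat := @Bool.rec (fun _ => Nat) (Ptab_1027) (Ptab_1028) (Nat.ble 1028 c)
noncomputable def Ptab_s_1026_1029 (c : Nat) : Nat := @Bool.rec (fun _ => Nat) (Ptab_1026) (Ptab_s_1027_1029 c) (Nat.ble 1027 c)
noncomputable def Ptab_s_1023_1029 (c : Nat) : Nat := @Bool.rec (fun _ => Nat) (Ptab_s_1023_1026 c) (Ptab_s_1026_1029 c) (Nat.ble 1026 c)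
noncomputable def Ptab_s_1030_1032 (c : Nat) : Nat := @Bool.rec (fun _ => Nat) (Ptab_1030) (Ptab_1031) (Nat.ble 1031 c)
noncomputable def Ptab_s_1029_1032 (c : Nat) : Nat := @Bool.rec (fun _ => Nat) (Ptab_1029) (Ptab_s_1030_1032 c) (Nat.ble 1030 c)
noncomputable def Ptab_s_1033_1035 (c : Nat) : Nat := @Bool.rec (fun _ => Nat) (Ptab_1033) (Ptab_1034) (Nat.ble 1034 c)
noncomputable def Ptab_s_1032_1035 (c : Nat) : Nat := @Bool.rec (fun _ => Nat) (Ptab_1032) (Ptab_s_1033_1035 c) (Nat.ble 1033 c)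
noncomputable def Ptab_s_1029_1035 (c : Nat) : Nat := @Bool.rec (fun _ => Nat) (Ptab_s_1029_1032 c) (Ptab_s_1032_1035 c) (Nat.ble 1032 c)
noncomputable def Ptab_s_1023_1035 (c : Nat) : Nat := @Bool.rec (fun _ => Nat) (Ptab_s_1023_1029 c) (Ptab_s_1029_1035 c) (Nat.ble 1029 c)
noncomputable def Ptab_s_1012_1035 (c : Nat) : Nat := @Bool.rec (fun _ => Nat) (Ptab_s_1012_1023 c) (Ptab_s_1023_1035 c) (Nat.ble 1023 c)
noncomputable def Ptab_s_1035_1037 (c : Nat) : Nat := @Bool.rec (fun _ => Nat) (Ptab_1035) (Ptab_1036) (Nat.ble 1036 c)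
noncomputable def Ptab_s_1038_1040 (c : Nat) : Nat := @Bool.rec (fun _ => Nat) (Ptab_1038) (Ptab_1039) (Nat.ble 1039 c)
noncomputable def Ptab_s_1037_1040 (c : Nat) : Nat := @Bool.rec (fun _ => Nat) (Ptab_1037) (Ptab_s_1038_1040 c) (Nat.ble 1038 c)
noncomputable def Ptab_s_1035_1040 (c : Nat) : Nat := @Bool.rec (fun _ => Nat) (Ptab_s_1035_1037 c) (Ptab_s_1037_1040 c) (Nat.ble 1037 c)
noncomputable def Ptab_s_1041_1043 (c : Nat) : Nat := @Bool.rec (fun _ => Nat) (Ptab_1041) (Ptab_1042) (Nat.ble 1042 c)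
noncomputable def Ptab_s_1040_1043 (c : Nat) : Nat := @Bool.rec (fun _ => Nat) (Ptab_1040) (Ptab_s_1041_1043 c) (Nat.ble 1041 c)
noncomputable def Ptab_s_1044_1046 (c : Nat) : Nat := @Bool.rec (fun _ => Nat) (Ptab_1044) (Ptab_1045) (Nat.ble 1045 c)
noncomputable def Ptab_s_1043_1046 (c : Nat) : Nat := @Bool.rec (fun _ => Nat) (Ptab_1043) (Ptab_s_1044_1046 c) (Nat.ble 1044 c)
noncomputable def Ptab_s_1040_1046 (c : Nat) : Nat := @Bool.rec (fun _ => Nat) (Ptab_s_1040_1043 c) (Ptab_s_1043_1046 c) (Nat.ble 1043 c)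
noncomputable def Ptab_s_1035_1046 (c : Nat) : Nat := @Bool.rec (fun _ => Nat) (Ptab_s_1035_1040 c) (Ptab_s_1040_1046 c) (Nat.ble 1040 c)
noncomputable def Ptab_s_1047_1049 (c : Nat) : Nat := @Bool.rec (fun _ => Nat) (Ptab_1047) (Ptab_1048) (Nat.ble 1048 c)
noncomputable def Ptab_s_1046_1049 (c : Nat) : Nat := @Bool.rec (fun _ => Nat) (Ptab_1046) (Ptab_s_1047_1049 c) (Nat.ble 1047 c)
noncomputable def Ptab_s_1050_1052 (c : Nat) : Nat := @Bool.rec (fun _ => Nat) (Ptab_1050) (Ptab_1051) (Nat.ble 1051 c)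
noncomputable def Ptab_s_1049_1052 (c : Nat) : Nat := @Bool.rec (fun _ => Nat) (Ptab_1049) (Ptab_s_1050_1052 c) (Nat.ble 1050 c)
noncomputable def Ptab_s_1046_1052 (c : Nat) : Nat := @Bool.rec (fun _ => Nat) (Ptab_s_1046_1049 c) (Ptab_s_1049_1052 c) (Nat.ble 1049 c)
noncomputable def Ptab_s_1053_1055 (c : Nat) : Nat := @Bool.rec (fun _ => Nat) (Ptab_1053) (Ptab_1054) (Nat.ble 1054 c)
noncomputable def Ptab_s_1052_1055 (c : Nat) : Nat := @Bool.rec (fun _ => Nat) (Ptab_1052) (Ptab_s_1053_1055 c) (Nat.ble 1053 c)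
noncomputable def Ptab_s_1056_1058 (c : Nat) : Nat := @Bool.rec (fun _ => Nat) (Ptab_1056) (Ptab_1057) (Nat.ble 1057 c)
noncomputable def Ptab_s_1055_1058 (c : Nat) : Nat := @Bool.rec (fun _ => Nat) (Ptab_1055) (Ptab_s_1056_1058 c) (Nat.ble 1056 c)
noncomputable def Ptab_s_1052_1058 (c : Nat) : Nat := @Bool.rec (fun _ => Nat) (Ptab_s_1052_1055 c) (Ptab_s_1055_1058 c) (Nat.ble 1055 c)
noncomputable def Ptab_s_1046_1058 (c : Nat) : Nat := @Bool.rec (fun _ => Nat) (Ptab_s_1046_1052 c) (Ptab_s_1052_1058 c) (Nat.ble 1052 c)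
noncomputable def Ptab_s_1035_1058 (c : Nat) : Nat := @Bool.rec (fun _ => Nat) (Ptab_s_1035_1046 c) (Ptab_s_1046_1058 c) (Nat.ble 1046 c)
noncomputable def Ptab_s_1012_1058 (c : Nat) : Nat := @Bool.rec (fun _ => Nat) (Ptab_s_1012_1035 c) (Ptab_s_1035_1058 c) (Nat.ble 1035 c)
noncomputable def Ptab_s_1058_1060 (c : Nat) : Nat := @Bool.rec (fun _ => Nat) (Ptab_1058) (Ptab_1059) (Nat.ble 1059 c)
noncomputable def Ptab_s_1061_1063 (c : Nat) : Nat := @Bool.rec (fun _ => Nat) (Ptab_1061) (Ptab_1062) (Nat.ble 1062 c)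
noncomputable def Ptab_s_1060_1063 (c : Nat) : Nat := @Bool.rec (fun _ => Nat) (Ptab_1060) (Ptab_s_1061_1063 c) (Nat.ble 1061 c)
noncomputable def Ptab_s_1058_1063 (c : Nat) : Nat := @Bool.rec (fun _ => Nat) (Ptab_s_1058_1060 c) (Ptab_s_1060_1063 c) (Nat.ble 1060 c)
noncomputable def Ptab_s_1064_1066 (c : Nat) : Nat := @Bool.rec (fun _ => Nat) (Ptab_1064) (Ptab_1065) (Nat.ble 1065 c)
noncomputable def Ptab_s_1063_1066 (c : Nat) : Nat := @Bool.rec (fun _ => Nat) (Ptab_1063) (Ptab_s_1064_1066 c) (Nat.ble 1064 c)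
noncomputable def Ptab_s_1067_1069 (c : Nat) : Nat := @Bool.rec (fun _ => Nat) (Ptab_1067) (Ptab_1068) (Nat.ble 1068 c)
noncomputable def Ptab_s_1066_1069 (c : Nat) : Nat := @Bool.rec (fun _ => Nat) (Ptab_1066) (Ptab_s_1067_1069 c) (Nat.ble 1067 c)
noncomputable def Ptab_s_1063_1069 (c : Nat) : Nat := @Bool.rec (fun _ => Nat) (Ptab_s_1063_1066 c) (Ptab_s_1066_1069 c) (Nat.ble 1066 c)
noncomputable def Ptab_s_1058_1069 (c : Nat) : Nat := @Bool.rec (fun _ => Nat) (Ptab_s_1058_1063 c) (Ptab_s_1063_1069 c) (Nat.ble 1063 c)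
noncomputable def Ptab_s_1070_1072 (c : Nat) : Nat := @Bool.rec (fun _ => Nat) (Ptab_1070) (Ptab_1071) (Nat.ble 1071 c)
noncomputable def Ptab_s_1069_1072 (c : Nat) : Nat := @Bool.rec (fun _ => Nat) (Ptab_1069) (Ptab_s_1070_1072 c) (Nat.ble 1070 c)
noncomputable def Ptab_s_1073_1075 (c : Nat) : Nat := @Bool.rec (fun _ => Nat) (Ptab_1073) (Ptab_1074) (Nat.ble 1074 c)
noncomputable def Ptab_s_1072_1075 (c : Nat) : Nat := @Bool.rec (fun _ => Nat) (Ptab_1072) (Ptab_s_1073_1075 c) (Nat.ble 1073 c)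
noncomputable def Ptab_s_1069_1075 (c : Nat) : Nat := @Bool.rec (fun _ => Nat) (Ptab_s_1069_1072 c) (Ptab_s_1072_1075 c) (Nat.ble 1072 c)
noncomputable def Ptab_s_1076_1078 (c : Nat) : Nat := @Bool.rec (fun _ => Nat) (Ptab_1076) (Ptab_1077) (Nat.ble 1077 c)
noncomputable def Ptab_s_1075_1078 (c : Nat) : Nat := @Bool.rec (fun _ => Nat) (Ptab_1075) (Ptab_s_1076_1078 c) (Nat.ble 1076 c)
noncomputable def Ptab_s_1079_1081 (c : Nat) : Nat := @Bool.rec (fun _ => Nat) (Ptab_1079) (Ptab_1080) (Nat.ble 1080 c)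
noncomputable def Ptab_s_1078_1081 (c : Nat) : Nat := @Bool.rec (fun _ => Nat) (Ptab_1078) (Ptab_s_1079_1081 c) (Nat.ble 1079 c)
noncomputable def Ptab_s_1075_1081 (c : Nat) : Nat := @Bool.rec (fun _ => Nat) (Ptab_s_1075_1078 c) (Ptab_s_1078_1081 c) (Nat.ble 1078 c)
noncomputable def Ptab_s_1069_1081 (c : Nat) : Nat := @Bool.rec (fun _ => Nat) (Ptab_s_1069_1075 c) (Ptab_s_1075_1081 c) (Nat.ble 1075 c)
noncomputable def Ptab_s_1058_1081 (c : Nat) : Nat := @Bool.rec (fun _ => Nat) (Ptab_s_1058_1069 c) (Ptab_s_1069_1081 c) (Nat.ble 1069 c)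
noncomputable def Ptab_s_1081_1083 (c : Nat) : Nat := @Bool.rec (fun _ => Nat) (Ptab_1081) (Ptab_1082) (Nat.ble 1082 c)
noncomputable def Ptab_s_1084_1086 (c : Nat) : Nat := @Bool.rec (fun _ => Nat) (Ptab_1084) (Ptab_1085) (Nat.ble 1085 c)
noncomputable def Ptab_s_1083_1086 (c : Nat) : Nat := @Bool.rec (fun _ => Nat) (Ptab_1083) (Ptab_s_1084_1086 c) (Nat.ble 1084 c)
noncomputable def Ptab_s_1081_1086 (c : Nat) : Nat := @Bool.rec (fun _ => Nat) (Ptab_s_1081_1083 c) (Ptab_s_1083_1086 c) (Nat.ble 1083 c)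
noncomputable def Ptab_s_1087_1089 (c : Nat) : Nat := @Bool.rec (fun _ => Nat) (Ptab_1087) (Ptab_1088) (Nat.ble 1088 c)
noncomputable def Ptab_s_1086_1089 (c : Nat) : Nat := @Bool.rec (fun _ => Nat) (Ptab_1086) (Ptab_s_1087_1089 c) (Nat.ble 1087 c)
noncomputable def Ptab_s_1090_1092 (c : Nat) : Nat := @Bool.rec (fun _ => Nat) (Ptab_1090) (Ptab_1091) (Nat.ble 1091 c)
noncomputable def Ptab_s_1089_1092 (c : Nat) : Nat := @Bool.rec (fun _ => Nat) (Ptab_1089) (Ptab_s_1090_1092 c) (Nat.ble 1090 c)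
noncomputable def Ptab_s_1086_1092 (c : Nat) : Nat := @Bool.rec (fun _ => Nat) (Ptab_s_1086_1089 c) (Ptab_s_1089_1092 c) (Nat.ble 1089 c)
noncomputable def Ptab_s_1081_1092 (c : Nat) : Nat := @Bool.rec (fun _ => Nat) (Ptab_s_1081_1086 c) (Ptab_s_1086_1092 c) (Nat.ble 1086 c)
noncomputable def Ptab_s_1093_1095 (c : Nat) : Nat := @Bool.rec (fun _ => Nat) (Ptab_1093) (Ptab_1094) (Nat.ble 1094 c)
noncomputable def Ptab_s_1092_1095 (c : Nat) : Nat := @Bool.rec (fun _ => Nat) (Ptab_1092) (Ptab_s_1093_1095 c) (Nat.ble 1093 c)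
noncomputable def Ptab_s_1096_1098 (c : Nat) : Nat := @Bool.rec (fun _ => Nat) (Ptab_1096) (Ptab_1097) (Nat.ble 1097 c)
noncomputable def Ptab_s_1095_1098 (c : Nat) : Nat := @Bool.rec (fun _ => Nat) (Ptab_1095) (Ptab_s_1096_1098 c) (Nat.ble 1096 c)
noncomputable def Ptab_s_1092_1098 (c : Nat) : Nat := @Bool.rec (fun _ => Nat) (Ptab_s_1092_1095 c) (Ptab_s_1095_1098 c) (Nat.ble 1095 c)
noncomputable def Ptab_s_1099_1101 (c : Nat) : Nat := @Bool.rec (fun _ => Nat) (Ptab_1099) (Ptab_1100) (Nat.ble 1100 c)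
noncomputable def Ptab_s_1098_1101 (c : Nat) : Nat := @Bool.rec (fun _ => Nat) (Ptab_1098) (Ptab_s_1099_1101 c) (Nat.ble 1099 c)
noncomputable def Ptab_s_1102_1104 (c : Nat) : Nat := @Bool.rec (fun _ => Nat) (Ptab_1102) (Ptab_1103) (Nat.ble 1103 c)
noncomputable def Ptab_s_1101_1104 (c : Nat) : Nat := @Bool.rec (fun _ => Nat) (Ptab_1101) (Ptab_s_1102_1104 c) (Nat.ble 1102 c)
noncomputable def Ptab_s_1098_1104 (c : Nat) : Nat := @Bool.rec (fun _ => Nat) (Ptab_s_1098_1101 c) (Ptab_s_1101_1104 c) (Nat.ble 1101 c)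
noncomputable def Ptab_s_1092_1104 (c : Nat) : Nat := @Bool.rec (fun _ => Nat) (Ptab_s_1092_1098 c) (Ptab_s_1098_1104 c) (Nat.ble 1098 c)
noncomputable def Ptab_s_1081_1104 (c : Nat) : Nat := @Bool.rec (fun _ => Nat) (Ptab_s_1081_1092 c) (Ptab_s_1092_1104 c) (Nat.ble 1092 c)
noncomputable def Ptab_s_1058_1104 (c : Nat) : Nat := @Bool.rec (fun _ => Nat) (Ptab_s_1058_1081 c) (Ptab_s_1081_1104 c) (Nat.ble 1081 c)
noncomputable def Ptab_s_1012_1104 (c : Nat) : Nat := @Bool.rec (fun _ => Nat) (Ptab_s_1012_1058 c) (Ptab_s_1058_1104 c) (Nat.ble 1058 c)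
noncomputable def Ptab_s_920_1104 (c : Nat) : Nat := @Bool.rec (fun _ => Nat) (Ptab_s_920_1012 c) (Ptab_s_1012_1104 c) (Nat.ble 1012 c)
noncomputable def Ptab_s_736_1104 (c : Nat) : Nat := @Bool.rec (fun _ => Nat) (Ptab_s_736_920 c) (Ptab_s_920_1104 c) (Nat.ble 920 c)
noncomputable def Ptab_s_1104_1106 (c : Nat) : Nat := @Bool.rec (fun _ => Nat) (Ptab_1104) (Ptab_1105) (Nat.ble 1105 c)
noncomputable def Ptab_s_1107_1109 (c : Nat) : Nat := @Bool.rec (fun _ => Nat) (Ptab_1107) (Ptab_1108) (Nat.ble 1108 c)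
noncomputable def Ptab_s_1106_1109 (c : Nat) : Nat := @Bool.rec (fun _ => Nat) (Ptab_1106) (Ptab_s_1107_1109 c) (Nat.ble 1107 c)
noncomputable def Ptab_s_1104_1109 (c : Nat) : Nat := @Bool.rec (fun _ => Nat) (Ptab_s_1104_1106 c) (Ptab_s_1106_1109 c) (Nat.ble 1106 c)
noncomputable def Ptab_s_1110_1112 (c : Nat) : Nat := @Bool.rec (fun _ => Nat) (Ptab_1110) (Ptab_1111) (Nat.ble 1111 c)
noncomputable def Ptab_s_1109_1112 (c : Nat) : Nat := @Bool.rec (fun _ => Nat) (Ptab_1109) (Ptab_s_1110_1112 c) (Nat.ble 1110 c)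
noncomputable def Ptab_s_1113_1115 (c : Nat) : Nat := @Bool.rec (fun _ => Nat) (Ptab_1113) (Ptab_1114) (Nat.ble 1114 c)
noncomputable def Ptab_s_1112_1115 (c : Nat) : Nat := @Bool.rec (fun _ => Nat) (Ptab_1112) (Ptab_s_1113_1115 c) (Nat.ble 1113 c)
noncomputable def Ptab_s_1109_1115 (c : Nat) : Nat := @Bool.rec (fun _ => Nat) (Ptab_s_1109_1112 c) (Ptab_s_1112_1115 c) (Nat.ble 1112 c)
noncomputable def Ptab_s_1104_1115 (c : Nat) : Nat := @Bool.rec (fun _ => Nat) (Ptab_s_1104_1109 c) (Ptab_s_1109_1115 c) (Nat.ble 1109 c)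
noncomputable def Ptab_s_1116_1118 (c : Nat) : Nat := @Bool.rec (fun _ => Nat) (Ptab_1116) (Ptab_1117) (Nat.ble 1117 c)
noncomputable def Ptab_s_1115_1118 (c : Nat) : Nat := @Bool.rec (fun _ => Nat) (Ptab_1115) (Ptab_s_1116_1118 c) (Nat.ble 1116 c)
noncomputable def Ptab_s_1119_1121 (c : Nat) : Nat := @Bool.rec (fun _ => Nat) (Ptab_1119) (Ptab_1120) (Nat.ble 1120 c)
noncomputable def Ptab_s_1118_1121 (c : Nat) : Nat := @Bool.rec (fun _ => Nat) (Ptab_1118) (Ptab_s_1119_1121 c) (Nat.ble 1119 c)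
noncomputable def Ptab_s_1115_1121 (c : Nat) : Nat := @Bool.rec (fun _ => Nat) (Ptab_s_1115_1118 c) (Ptab_s_1118_1121 c) (Nat.ble 1118 c)
noncomputable def Ptab_s_1122_1124 (c : Nat) : Nat := @Bool.rec (fun _ => Nat) (Ptab_1122) (Ptab_1123) (Nat.ble 1123 c)
noncomputable def Ptab_s_1121_1124 (c : Nat) : Nat := @Bool.rec (fun _ => Nat) (Ptab_1121) (Ptab_s_1122_1124 c) (Nat.ble 1122 c)
noncomputable def Ptab_s_1125_1127 (c : Nat) : Nat := @Bool.rec (fun _ => Nat) (Ptab_1125) (Ptab_1126) (Nat.ble 1126 c)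
noncomputable def Ptab_s_1124_1127 (c : Nat) : Nat := @Bool.rec (fun _ => Nat) (Ptab_1124) (Ptab_s_1125_1127 c) (Nat.ble 1125 c)
noncomputable def Ptab_s_1121_1127 (c : Nat) : Nat := @Bool.rec (fun _ => Nat) (Ptab_s_1121_1124 c) (Ptab_s_1124_1127 c) (Nat.ble 1124 c)
noncomputable def Ptab_s_1115_1127 (c : Nat) : Nat := @Bool.rec (fun _ => Nat) (Ptab_s_1115_1121 c) (Ptab_s_1121_1127 c) (Nat.ble 1121 c)
noncomputable def Ptab_s_1104_1127 (c : Nat) : Nat := @Bool.rec (fun _ => Nat) (Ptab_s_1104_1115 c) (Ptab_s_1115_1127 c) (Nat.ble 1115 c)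
noncomputable def Ptab_s_1127_1129 (c : Nat) : Nat := @Bool.rec (fun _ => Nat) (Ptab_1127) (Ptab_1128) (Nat.ble 1128 c)
noncomputable def Ptab_s_1130_1132 (c : Nat) : Nat := @Bool.rec (fun _ => Nat) (Ptab_1130) (Ptab_1131) (Nat.ble 1131 c)
noncomputable def Ptab_s_1129_1132 (c : Nat) : Nat := @Bool.rec (fun _ => Nat) (Ptab_1129) (Ptab_s_1130_1132 c) (Nat.ble 1130 c)
noncomputable def Ptab_s_1127_1132 (c : Nat) : Nat := @Bool.rec (fun _ => Nat) (Ptab_s_1127_1129 c) (Ptab_s_1129_1132 c) (Nat.ble 1129 c)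
noncomputable def Ptab_s_1133_1135 (c : Nat) : Nat := @Bool.rec (fun _ => Nat) (Ptab_1133) (Ptab_1134) (Nat.ble 1134 c)
noncomputable def Ptab_s_1132_1135 (c : Nat) : Nat := @Bool.rec (fun _ => Nat) (Ptab_1132) (Ptab_s_1133_1135 c) (Nat.ble 1133 c)
noncomputable def Ptab_s_1136_1138 (c : Nat) : Nat := @Bool.rec (fun _ => Nat) (Ptab_1136) (Ptab_1137) (Nat.ble 1137 c)
noncomputable def Ptab_s_1135_1138 (c : Nat) : Nat := @Bool.rec (fun _ => Nat) (Ptab_1135) (Ptab_s_1136_1138 c) (Nat.ble 1136 c)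
noncomputable def Ptab_s_1132_1138 (c : Nat) : Nat := @Bool.rec (fun _ => Nat) (Ptab_s_1132_1135 c) (Ptab_s_1135_1138 c) (Nat.ble 1135 c)
noncomputable def Ptab_s_1127_1138 (c : Nat) : Nat := @Bool.rec (fun _ => Nat) (Ptab_s_1127_1132 c) (Ptab_s_1132_1138 c) (Nat.ble 1132 c)
noncomputable def Ptab_s_1139_1141 (c : Nat) : Nat := @Bool.rec (fun _ => Nat) (Ptab_1139) (Ptab_1140) (Nat.ble 1140 c)
noncomputable def Ptab_s_1138_1141 (c : Nat) : Nat := @Bool.rec (fun _ => Nat) (Ptab_1138) (Ptab_s_1139_1141 c) (Nat.ble 1139 c)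
noncomputable def Ptab_s_1142_1144 (c : Nat) : Nat := @Bool.rec (fun _ => Nat) (Ptab_1142) (Ptab_1143) (Nat.ble 1143 c)
noncomputable def Ptab_s_1141_1144 (c : Nat) : Nat := @Bool.rec (fun _ => Nat) (Ptab_1141) (Ptab_s_1142_1144 c) (Nat.ble 1142 c)
noncomputable def Ptab_s_1138_1144 (c : Nat) : Nat := @Bool.rec (fun _ => Nat) (Ptab_s_1138_1141 c) (Ptab_s_1141_1144 c) (Nat.ble 1141 c)
noncomputable def Ptab_s_1145_1147 (c : Nat) : Nat := @Bool.rec (fun _ => Nat) (Ptab_1145) (Ptab_1146) (Nat.ble 1146 c)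
noncomputable def Ptab_s_1144_1147 (c : Nat) : Nat := @Bool.rec (fun _ => Nat) (Ptab_1144) (Ptab_s_1145_1147 c) (Nat.ble 1145 c)
noncomputable def Ptab_s_1148_1150 (c : Nat) : Nat := @Bool.rec (fun _ => Nat) (Ptab_1148) (Ptab_1149) (Nat.ble 1149 c)
noncomputable def Ptab_s_1147_1150 (c : Nat) : Nat := @Bool.rec (fun _ => Nat) (Ptab_1147) (Ptab_s_1148_1150 c) (Nat.ble 1148 c)
noncomputable def Ptab_s_1144_1150 (c : Nat) : Nat := @Bool.rec (fun _ => Nat) (Ptab_s_1144_1147 c) (Ptab_s_1147_1150 c) (Nat.ble 1147 c)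
noncomputable def Ptab_s_1138_1150 (c : Nat) : Nat := @Bool.rec (fun _ => Nat) (Ptab_s_1138_1144 c) (Ptab_s_1144_1150 c) (Nat.ble 1144 c)
noncomputable def Ptab_s_1127_1150 (c : Nat) : Nat := @Bool.rec (fun _ => Nat) (Ptab_s_1127_1138 c) (Ptab_s_1138_1150 c) (Nat.ble 1138 c)
noncomputable def Ptab_s_1104_1150 (c : Nat) : Nat := @Bool.rec (fun _ => Nat) (Ptab_s_1104_1127 c) (Ptab_s_1127_1150 c) (Nat.ble 1127 c)
noncomputable def Ptab_s_1150_1152 (c : Nat) : Nat := @Bool.rec (fun _ => Nat) (Ptab_1150) (Ptab_1151) (Nat.ble 1151 c)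
noncomputable def Ptab_s_1153_1155 (c : Nat) : Nat := @Bool.rec (fun _ => Nat) (Ptab_1153) (Ptab_1154) (Nat.ble 1154 c)
noncomputable def Ptab_s_1152_1155 (c : Nat) : Nat := @Bool.rec (fun _ => Nat) (Ptab_1152) (Ptab_s_1153_1155 c) (Nat.ble 1153 c)
noncomputable def Ptab_s_1150_1155 (c : Nat) : Nat := @Bool.rec (fun _ => Nat) (Ptab_s_1150_1152 c) (Ptab_s_1152_1155 c) (Nat.ble 1152 c)
noncomputable def Ptab_s_1156_1158 (c : Nat) : Nat := @Bool.rec (fun _ => Nat) (Ptab_1156) (Ptab_1157) (Nat.ble 1157 c)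
noncomputable def Ptab_s_1155_1158 (c : Nat) : Nat := @Bool.rec (fun _ => Nat) (Ptab_1155) (Ptab_s_1156_1158 c) (Nat.ble 1156 c)
noncomputable def Ptab_s_1159_1161 (c : Nat) : Nat := @Bool.rec (fun _ => Nat) (Ptab_1159) (Ptab_1160) (Nat.ble 1160 c)
noncomputable def Ptab_s_1158_1161 (c : Nat) : Nat := @Bool.rec (fun _ => Nat) (Ptab_1158) (Ptab_s_1159_1161 c) (Nat.ble 1159 c)
noncomputable def Ptab_s_1155_1161 (c : Nat) : Nat := @Bool.rec (fun _ => Nat) (Ptab_s_1155_1158 c) (Ptab_s_1158_1161 c) (Nat.ble 1158 c)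
noncomputable def Ptab_s_1150_1161 (c : Nat) : Nat := @Bool.rec (fun _ => Nat) (Ptab_s_1150_1155 c) (Ptab_s_1155_1161 c) (Nat.ble 1155 c)
noncomputable def Ptab_s_1162_1164 (c : Nat) : Nat := @Bool.rec (fun _ => Nat) (Ptab_1162) (Ptab_1163) (Nat.ble 1163 c)
noncomputable def Ptab_s_1161_1164 (c : Nat) : Nat := @Bool.rec (fun _ => Nat) (Ptab_1161) (Ptab_s_1162_1164 c) (Nat.ble 1162 c)
noncomputable def Ptab_s_1165_1167 (c : Nat) : Nat := @Bool.rec (fun _ => Nat) (Ptab_1165) (Ptab_1166) (Nat.ble 1166 c)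
noncomputable def Ptab_s_1164_1167 (c : Nat) : Nat := @Bool.rec (fun _ => Nat) (Ptab_1164) (Ptab_s_1165_1167 c) (Nat.ble 1165 c)
noncomputable def Ptab_s_1161_1167 (c : Nat) : Nat := @Bool.rec (fun _ => Nat) (Ptab_s_1161_1164 c) (Ptab_s_1164_1167 c) (Nat.ble 1164 c)
noncomputable def Ptab_s_1168_1170 (c : Nat) : Nat := @Bool.rec (fun _ => Nat) (Ptab_1168) (Ptab_1169) (Nat.ble 1169 c)
noncomputable def Ptab_s_1167_1170 (c : Nat) : Nat := @Bool.rec (fun _ => Nat) (Ptab_1167) (Ptab_s_1168_1170 c) (Nat.ble 1168 c)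
noncomputable def Ptab_s_1171_1173 (c : Nat) : Nat := @Bool.rec (fun _ => Nat) (Ptab_1171) (Ptab_1172) (Nat.ble 1172 c)
noncomputable def Ptab_s_1170_1173 (c : Nat) : Nat := @Bool.rec (fun _ => Nat) (Ptab_1170) (Ptab_s_1171_1173 c) (Nat.ble 1171 c)
noncomputable def Ptab_s_1167_1173 (c : Nat) : Nat := @Bool.rec (fun _ => Nat) (Ptab_s_1167_1170 c) (Ptab_s_1170_1173 c) (Nat.ble 1170 c)
noncomputable def Ptab_s_1161_1173 (c : Nat) : Nat := @Bool.rec (fun _ => Nat) (Ptab_s_1161_1167 c) (Ptab_s_1167_1173 c) (Nat.ble 1167 c)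
noncomputable def Ptab_s_1150_1173 (c : Nat) : Nat := @Bool.rec (fun _ => Nat) (Ptab_s_1150_1161 c) (Ptab_s_1161_1173 c) (Nat.ble 1161 c)
noncomputable def Ptab_s_1173_1175 (c : Nat) : Nat := @Bool.rec (fun _ => Nat) (Ptab_1173) (Ptab_1174) (Nat.ble 1174 c)
noncomputable def Ptab_s_1176_1178 (c : Nat) : Nat := @Bool.rec (fun _ => Nat) (Ptab_1176) (Ptab_1177) (Nat.ble 1177 c)
noncomputable def Ptab_s_1175_1178 (c : Nat) : Nat := @Bool.rec (fun _ => Nat) (Ptab_1175) (Ptab_s_1176_1178 c) (Nat.ble 1176 c)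
noncomputable def Ptab_s_1173_1178 (c : Nat) : Nat := @Bool.rec (fun _ => Nat) (Ptab_s_1173_1175 c) (Ptab_s_1175_1178 c) (Nat.ble 1175 c)
noncomputable def Ptab_s_1179_1181 (c : Nat) : Nat := @Bool.rec (fun _ => Nat) (Ptab_1179) (Ptab_1180) (Nat.ble 1180 c)
noncomputable def Ptab_s_1178_1181 (c : Nat) : Nat := @Bool.rec (fun _ => Nat) (Ptab_1178) (Ptab_s_1179_1181 c) (Nat.ble 1179 c)
noncomputable def Ptab_s_1182_1184 (c : Nat) : Nat := @Bool.rec (fun _ => Nat) (Ptab_1182) (Ptab_1183) (Nat.ble 1183 c)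
noncomputable def Ptab_s_1181_1184 (c : Nat) : Nat := @Bool.rec (fun _ => Nat) (Ptab_1181) (Ptab_s_1182_1184 c) (Nat.ble 1182 c)
noncomputable def Ptab_s_1178_1184 (c : Nat) : Nat := @Bool.rec (fun _ => Nat) (Ptab_s_1178_1181 c) (Ptab_s_1181_1184 c) (Nat.ble 1181 c)
noncomputable def Ptab_s_1173_1184 (c : Nat) : Nat := @Bool.rec (fun _ => Nat) (Ptab_s_1173_1178 c) (Ptab_s_1178_1184 c) (Nat.ble 1178 c)
noncomputable def Ptab_s_1185_1187 (c : Nat) : Nat := @Bool.rec (fun _ => Nat) (Ptab_1185) (Ptab_1186) (Nat.ble 1186 c)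
noncomputable def Ptab_s_1184_1187 (c : Nat) : Nat := @Bool.rec (fun _ => Nat) (Ptab_1184) (Ptab_s_1185_1187 c) (Nat.ble 1185 c)
noncomputable def Ptab_s_1188_1190 (c : Nat) : Nat := @Bool.rec (fun _ => Nat) (Ptab_1188) (Ptab_1189) (Nat.ble 1189 c)
noncomputable def Ptab_s_1187_1190 (c : Nat) : Nat := @Bool.rec (fun _ => Nat) (Ptab_1187) (Ptab_s_1188_1190 c) (Nat.ble 1188 c)
noncomputable def Ptab_s_1184_1190 (c : Nat) : Nat := @Bool.rec (fun _ => Nat) (Ptab_s_1184_1187 c) (Ptab_s_1187_1190 c) (Nat.ble 1187 c)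
noncomputable def Ptab_s_1191_1193 (c : Nat) : Nat := @Bool.rec (fun _ => Nat) (Ptab_1191) (Ptab_1192) (Nat.ble 1192 c)
noncomputable def Ptab_s_1190_1193 (c : Nat) : Nat := @Bool.rec (fun _ => Nat) (Ptab_1190) (Ptab_s_1191_1193 c) (Nat.ble 1191 c)
noncomputable def Ptab_s_1194_1196 (c : Nat) : Nat := @Bool.rec (fun _ => Nat) (Ptab_1194) (Ptab_1195) (Nat.ble 1195 c)
noncomputable def Ptab_s_1193_1196 (c : Nat) : Nat := @Bool.rec (fun _ => Nat) (Ptab_1193) (Ptab_s_1194_1196 c) (Nat.ble 1194 c)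
noncomputable def Ptab_s_1190_1196 (c : Nat) : Nat := @Bool.rec (fun _ => Nat) (Ptab_s_1190_1193 c) (Ptab_s_1193_1196 c) (Nat.ble 1193 c)
noncomputable def Ptab_s_1184_1196 (c : Nat) : Nat := @Bool.rec (fun _ => Nat) (Ptab_s_1184_1190 c) (Ptab_s_1190_1196 c) (Nat.ble 1190 c)
noncomputable def Ptab_s_1173_1196 (c : Nat) : Nat := @Bool.rec (fun _ => Nat) (Ptab_s_1173_1184 c) (Ptab_s_1184_1196 c) (Nat.ble 1184 c)
noncomputable def Ptab_s_1150_1196 (c : Nat) : Nat := @Bool.rec (fun _ => Nat) (Ptab_s_1150_1173 c) (Ptab_s_1173_1196 c) (Nat.ble 1173 c)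
noncomputable def Ptab_s_1104_1196 (c : Nat) : Nat := @Bool.rec (fun _ => Nat) (Ptab_s_1104_1150 c) (Ptab_s_1150_1196 c) (Nat.ble 1150 c)
noncomputable def Ptab_s_1196_1198 (c : Nat) : Nat := @Bool.rec (fun _ => Nat) (Ptab_1196) (Ptab_1197) (Nat.ble 1197 c)
noncomputable def Ptab_s_1199_1201 (c : Nat) : Nat := @Bool.rec (fun _ => Nat) (Ptab_1199) (Ptab_1200) (Nat.ble 1200 c)
noncomputable def Ptab_s_1198_1201 (c : Nat) : Nat := @Bool.rec (fun _ => Nat) (Ptab_1198) (Ptab_s_1199_1201 c) (Nat.ble 1199 c)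
noncomputable def Ptab_s_1196_1201 (c : Nat) : Nat := @Bool.rec (fun _ => Nat) (Ptab_s_1196_1198 c) (Ptab_s_1198_1201 c) (Nat.ble 1198 c)
noncomputable def Ptab_s_1202_1204 (c : Nat) : Nat := @Bool.rec (fun _ => Nat) (Ptab_1202) (Ptab_1203) (Nat.ble 1203 c)
noncomputable def Ptab_s_1201_1204 (c : Nat) : Nat := @Bool.rec (fun _ => Nat) (Ptab_1201) (Ptab_s_1202_1204 c) (Nat.ble 1202 c)
noncomputable def Ptab_s_1205_1207 (c : Nat) : Nat := @Bool.rec (fun _ => Nat) (Ptab_1205) (Ptab_1206) (Nat.ble 1206 c)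
noncomputable def Ptab_s_1204_1207 (c : Nat) : Nat := @Bool.rec (fun _ => Nat) (Ptab_1204) (Ptab_s_1205_1207 c) (Nat.ble 1205 c)
noncomputable def Ptab_s_1201_1207 (c : Nat) : Nat := @Bool.rec (fun _ => Nat) (Ptab_s_1201_1204 c) (Ptab_s_1204_1207 c) (Nat.ble 1204 c)
noncomputable def Ptab_s_1196_1207 (c : Nat) : Nat := @Bool.rec (fun _ => Nat) (Ptab_s_1196_1201 c) (Ptab_s_1201_1207 c) (Nat.ble 1201 c)
noncomputable def Ptab_s_1208_1210 (c : Nat) : Nat := @Bool.rec (fun _ => Nat) (Ptab_1208) (Ptab_1209) (Nat.ble 1209 c)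
noncomputable def Ptab_s_1207_1210 (c : Nat) : Nat := @Bool.rec (fun _ => Nat) (Ptab_1207) (Ptab_s_1208_1210 c) (Nat.ble 1208 c)
noncomputable def Ptab_s_1211_1213 (c : Nat) : Nat := @Bool.rec (fun _ => Nat) (Ptab_1211) (Ptab_1212) (Nat.ble 1212 c)
noncomputable def Ptab_s_1210_1213 (c : Nat) : Nat := @Bool.rec (fun _ => Nat) (Ptab_1210) (Ptab_s_1211_1213 c) (Nat.ble 1211 c)
noncomputable def Ptab_s_1207_1213 (c : Nat) : Nat := @Bool.rec (fun _ => Nat) (Ptab_s_1207_1210 c) (Ptab_s_1210_1213 c) (Nat.ble 1210 c)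
noncomputable def Ptab_s_1214_1216 (c : Nat) : Nat := @Bool.rec (fun _ => Nat) (Ptab_1214) (Ptab_1215) (Nat.ble 1215 c)
noncomputable def Ptab_s_1213_1216 (c : Nat) : Nat := @Bool.rec (fun _ => Nat) (Ptab_1213) (Ptab_s_1214_1216 c) (Nat.ble 1214 c)
noncomputable def Ptab_s_1217_1219 (c : Nat) : Nat := @Bool.rec (fun _ => Nat) (Ptab_1217) (Ptab_1218) (Nat.ble 1218 c)
noncomputable def Ptab_s_1216_1219 (c : Nat) : Nat := @Bool.rec (fun _ => Nat) (Ptab_1216) (Ptab_s_1217_1219 c) (Nat.ble 1217 c)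
noncomputable def Ptab_s_1213_1219 (c : Nat) : Nat := @Bool.rec (fun _ => Nat) (Ptab_s_1213_1216 c) (Ptab_s_1216_1219 c) (Nat.ble 1216 c)
noncomputable def Ptab_s_1207_1219 (c : Nat) : Nat := @Bool.rec (fun _ => Nat) (Ptab_s_1207_1213 c) (Ptab_s_1213_1219 c) (Nat.ble 1213 c)
noncomputable def Ptab_s_1196_1219 (c : Nat) : Nat := @Bool.rec (fun _ => Nat) (Ptab_s_1196_1207 c) (Ptab_s_1207_1219 c) (Nat.ble 1207 c)
noncomputable def Ptab_s_1219_1221 (c : Nat) : Nat := @Bool.rec (fun _ => Nat) (Ptab_1219) (Ptab_1220) (Nat.ble 1220 c)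
noncomputable def Ptab_s_1222_1224 (c : Nat) : Nat := @Bool.rec (fun _ => Nat) (Ptab_1222) (Ptab_1223) (Nat.ble 1223 c)
noncomputable def Ptab_s_1221_1224 (c : Nat) : Nat := @Bool.rec (fun _ => Nat) (Ptab_1221) (Ptab_s_1222_1224 c) (Nat.ble 1222 c)
noncomputable def Ptab_s_1219_1224 (c : Nat) : Nat := @Bool.rec (fun _ => Nat) (Ptab_s_1219_1221 c) (Ptab_s_1221_1224 c) (Nat.ble 1221 c)
noncomputable def Ptab_s_1225_1227 (c : Nat) : Nat := @Bool.rec (fun _ => Nat) (Ptab_1225) (Ptab_1226) (Nat.ble 1226 c)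
noncomputable def Ptab_s_1224_1227 (c : Nat) : Nat := @Bool.rec (fun _ => Nat) (Ptab_1224) (Ptab_s_1225_1227 c) (Nat.ble 1225 c)
noncomputable def Ptab_s_1228_1230 (c : Nat) : Nat := @Bool.rec (fun _ => Nat) (Ptab_1228) (Ptab_1229) (Nat.ble 1229 c)
noncomputable def Ptab_s_1227_1230 (c : Nat) : Nat := @Bool.rec (fun _ => Nat) (Ptab_1227) (Ptab_s_1228_1230 c) (Nat.ble 1228 c)
noncomputable def Ptab_s_1224_1230 (c : Nat) : Nat := @Bool.rec (fun _ => Nat) (Ptab_s_1224_1227 c) (Ptab_s_1227_1230 c) (Nat.ble 1227 c)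
noncomputable def Ptab_s_1219_1230 (c : Nat) : Nat := @Bool.rec (fun _ => Nat) (Ptab_s_1219_1224 c) (Ptab_s_1224_1230 c) (Nat.ble 1224 c)
noncomputable def Ptab_s_1231_1233 (c : Nat) : Nat := @Bool.rec (fun _ => Nat) (Ptab_1231) (Ptab_1232) (Nat.ble 1232 c)
noncomputable def Ptab_s_1230_1233 (c : Nat) : Nat := @Bool.rec (fun _ => Nat) (Ptab_1230) (Ptab_s_1231_1233 c) (Nat.ble 1231 c)
noncomputable def Ptab_s_1234_1236 (c : Nat) : Nat := @Bool.rec (fun _ => Nat) (Ptab_1234) (Ptab_1235) (Nat.ble 1235 c)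
noncomputable def Ptab_s_1233_1236 (c : Nat) : Nat := @Bool.rec (fun _ => Nat) (Ptab_1233) (Ptab_s_1234_1236 c) (Nat.ble 1234 c)
noncomputable def Ptab_s_1230_1236 (c : Nat) : Nat := @Bool.rec (fun _ => Nat) (Ptab_s_1230_1233 c) (Ptab_s_1233_1236 c) (Nat.ble 1233 c)
noncomputable def Ptab_s_1237_1239 (c : Nat) : Nat := @Bool.rec (fun _ => Nat) (Ptab_1237) (Ptab_1238) (Nat.ble 1238 c)
noncomputable def Ptab_s_1236_1239 (c : Nat) : Nat := @Bool.rec (fun _ => Nat) (Ptab_1236) (Ptab_s_1237_1239 c) (Nat.ble 1237 c)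
noncomputable def Ptab_s_1240_1242 (c : Nat) : Nat := @Bool.rec (fun _ => Nat) (Ptab_1240) (Ptab_1241) (Nat.ble 1241 c)
noncomputable def Ptab_s_1239_1242 (c : Nat) : Nat := @Bool.rec (fun _ => Nat) (Ptab_1239) (Ptab_s_1240_1242 c) (Nat.ble 1240 c)
noncomputable def Ptab_s_1236_1242 (c : Nat) : Nat := @Bool.rec (fun _ => Nat) (Ptab_s_1236_1239 c) (Ptab_s_1239_1242 c) (Nat.ble 1239 c)
noncomputable def Ptab_s_1230_1242 (c : Nat) : Nat := @Bool.rec (fun _ => Nat) (Ptab_s_1230_1236 c) (Ptab_s_1236_1242 c) (Nat.ble 1236 c)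
noncomputable def Ptab_s_1219_1242 (c : Nat) : Nat := @Bool.rec (fun _ => Nat) (Ptab_s_1219_1230 c) (Ptab_s_1230_1242 c) (Nat.ble 1230 c)
noncomputable def Ptab_s_1196_1242 (c : Nat) : Nat := @Bool.rec (fun _ => Nat) (Ptab_s_1196_1219 c) (Ptab_s_1219_1242 c) (Nat.ble 1219 c)
noncomputable def Ptab_s_1242_1244 (c : Nat) : Nat := @Bool.rec (fun _ => Nat) (Ptab_1242) (Ptab_1243) (Nat.ble 1243 c)
noncomputable def Ptab_s_1245_1247 (c : Nat) : Nat := @Bool.rec (fun _ => Nat) (Ptab_1245) (Ptab_1246) (Nat.ble 1246 c)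
noncomputable def Ptab_s_1244_1247 (c : Nat) : Nat := @Bool.rec (fun _ => Nat) (Ptab_1244) (Ptab_s_1245_1247 c) (Nat.ble 1245 c)
noncomputable def Ptab_s_1242_1247 (c : Nat) : Nat := @Bool.rec (fun _ => Nat) (Ptab_s_1242_1244 c) (Ptab_s_1244_1247 c) (Nat.ble 1244 c)
noncomputable def Ptab_s_1248_1250 (c : Nat) : Nat := @Bool.rec (fun _ => Nat) (Ptab_1248) (Ptab_1249) (Nat.ble 1249 c)
noncomputable def Ptab_s_1247_1250 (c : Nat) : Nat := @Bool.rec (fun _ => Nat) (Ptab_1247) (Ptab_s_1248_1250 c) (Nat.ble 1248 c)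
noncomputable def Ptab_s_1251_1253 (c : Nat) : Nat := @Bool.rec (fun _ => Nat) (Ptab_1251) (Ptab_1252) (Nat.ble 1252 c)
noncomputable def Ptab_s_1250_1253 (c : Nat) : Nat := @Bool.rec (fun _ => Nat) (Ptab_1250) (Ptab_s_1251_1253 c) (Nat.ble 1251 c)
noncomputable def Ptab_s_1247_1253 (c : Nat) : Nat := @Bool.rec (fun _ => Nat) (Ptab_s_1247_1250 c) (Ptab_s_1250_1253 c) (Nat.ble 1250 c)
noncomputable def Ptab_s_1242_1253 (c : Nat) : Nat := @Bool.rec (fun _ => Nat) (Ptab_s_1242_1247 c) (Ptab_s_1247_1253 c) (Nat.ble 1247 c)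
noncomputable def Ptab_s_1254_1256 (c : Nat) : Nat := @Bool.rec (fun _ => Nat) (Ptab_1254) (Ptab_1255) (Nat.ble 1255 c)
noncomputable def Ptab_s_1253_1256 (c : Nat) : Nat := @Bool.rec (fun _ => Nat) (Ptab_1253) (Ptab_s_1254_1256 c) (Nat.ble 1254 c)
noncomputable def Ptab_s_1257_1259 (c : Nat) : Nat := @Bool.rec (fun _ => Nat) (Ptab_1257) (Ptab_1258) (Nat.ble 1258 c)
noncomputable def Ptab_s_1256_1259 (c : Nat) : Nat := @Bool.rec (fun _ => Nat) (Ptab_1256) (Ptab_s_1257_1259 c) (Nat.ble 1257 c)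
noncomputable def Ptab_s_1253_1259 (c : Nat) : Nat := @Bool.rec (fun _ => Nat) (Ptab_s_1253_1256 c) (Ptab_s_1256_1259 c) (Nat.ble 1256 c)
noncomputable def Ptab_s_1260_1262 (c : Nat) : Nat := @Bool.rec (fun _ => Nat) (Ptab_1260) (Ptab_1261) (Nat.ble 1261 c)
noncomputable def Ptab_s_1259_1262 (c : Nat) : Nat := @Bool.rec (fun _ => Nat) (Ptab_1259) (Ptab_s_1260_1262 c) (Nat.ble 1260 c)
noncomputable def Ptab_s_1263_1265 (c : Nat) : Nat := @Bool.rec (fun _ => Nat) (Ptab_1263) (Ptab_1264) (Nat.ble 1264 c)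
noncomputable def Ptab_s_1262_1265 (c : Nat) : Nat := @Bool.rec (fun _ => Nat) (Ptab_1262) (Ptab_s_1263_1265 c) (Nat.ble 1263 c)
noncomputable def Ptab_s_1259_1265 (c : Nat) : Nat := @Bool.rec (fun _ => Nat) (Ptab_s_1259_1262 c) (Ptab_s_1262_1265 c) (Nat.ble 1262 c)
noncomputable def Ptab_s_1253_1265 (c : Nat) : Nat := @Bool.rec (fun _ => Nat) (Ptab_s_1253_1259 c) (Ptab_s_1259_1265 c) (Nat.ble 1259 c)
noncomputable def Ptab_s_1242_1265 (c : Nat) : Nat := @Bool.rec (fun _ => Nat) (Ptab_s_1242_1253 c) (Ptab_s_1253_1265 c) (Nat.ble 1253 c)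
noncomputable def Ptab_s_1265_1267 (c : Nat) : Nat := @Bool.rec (fun _ => Nat) (Ptab_1265) (Ptab_1266) (Nat.ble 1266 c)
noncomputable def Ptab_s_1268_1270 (c : Nat) : Nat := @Bool.rec (fun _ => Nat) (Ptab_1268) (Ptab_1269) (Nat.ble 1269 c)
noncomputable def Ptab_s_1267_1270 (c : Nat) : Nat := @Bool.rec (fun _ => Nat) (Ptab_1267) (Ptab_s_1268_1270 c) (Nat.ble 1268 c)
noncomputable def Ptab_s_1265_1270 (c : Nat) : Nat := @Bool.rec (fun _ => Nat) (Ptab_s_1265_1267 c) (Ptab_s_1267_1270 c) (Nat.ble 1267 c)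
noncomputable def Ptab_s_1271_1273 (c : Nat) : Nat := @Bool.rec (fun _ => Nat) (Ptab_1271) (Ptab_1272) (Nat.ble 1272 c)
noncomputable def Ptab_s_1270_1273 (c : Nat) : Nat := @Bool.rec (fun _ => Nat) (Ptab_1270) (Ptab_s_1271_1273 c) (Nat.ble 1271 c)
noncomputable def Ptab_s_1274_1276 (c : Nat) : Nat := @Bool.rec (fun _ => Nat) (Ptab_1274) (Ptab_1275) (Nat.ble 1275 c)
noncomputable def Ptab_s_1273_1276 (c : Nat) : Nat := @Bool.rec (fun _ => Nat) (Ptab_1273) (Ptab_s_1274_1276 c) (Nat.ble 1274 c)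
noncomputable def Ptab_s_1270_1276 (c : Nat) : Nat := @Bool.rec (fun _ => Nat) (Ptab_s_1270_1273 c) (Ptab_s_1273_1276 c) (Nat.ble 1273 c)
noncomputable def Ptab_s_1265_1276 (c : Nat) : Nat := @Bool.rec (fun _ => Nat) (Ptab_s_1265_1270 c) (Ptab_s_1270_1276 c) (Nat.ble 1270 c)
noncomputable def Ptab_s_1277_1279 (c : Nat) : Nat := @Bool.rec (fun _ => Nat) (Ptab_1277) (Ptab_1278) (Nat.ble 1278 c)
noncomputable def Ptab_s_1276_1279 (c : Nat) : Nat := @Bool.rec (fun _ => Nat) (Ptab_1276) (Ptab_s_1277_1279 c) (Nat.ble 1277 c)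
noncomputable def Ptab_s_1280_1282 (c : Nat) : Nat := @Bool.rec (fun _ => Nat) (Ptab_1280) (Ptab_1281) (Nat.ble 1281 c)
noncomputable def Ptab_s_1279_1282 (c : Nat) : Nat := @Bool.rec (fun _ => Nat) (Ptab_1279) (Ptab_s_1280_1282 c) (Nat.ble 1280 c)
noncomputable def Ptab_s_1276_1282 (c : Nat) : Nat := @Bool.rec (fun _ => Nat) (Ptab_s_1276_1279 c) (Ptab_s_1279_1282 c) (Nat.ble 1279 c)
noncomputable def Ptab_s_1283_1285 (c : Nat) : Nat := @Bool.rec (fun _ => Nat) (Ptab_1283) (Ptab_1284) (Nat.ble 1284 c)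
noncomputable def Ptab_s_1282_1285 (c : Nat) : Nat := @Bool.rec (fun _ => Nat) (Ptab_1282) (Ptab_s_1283_1285 c) (Nat.ble 1283 c)
noncomputable def Ptab_s_1286_1288 (c : Nat) : Nat := @Bool.rec (fun _ => Nat) (Ptab_1286) (Ptab_1287) (Nat.ble 1287 c)
noncomputable def Ptab_s_1285_1288 (c : Nat) : Nat := @Bool.rec (fun _ => Nat) (Ptab_1285) (Ptab_s_1286_1288 c) (Nat.ble 1286 c)
noncomputable def Ptab_s_1282_1288 (c : Nat) : Nat := @Bool.rec (fun _ => Nat) (Ptab_s_1282_1285 c) (Ptab_s_1285_1288 c) (Nat.ble 1285 c)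
noncomputable def Ptab_s_1276_1288 (c : Nat) : Nat := @Bool.rec (fun _ => Nat) (Ptab_s_1276_1282 c) (Ptab_s_1282_1288 c) (Nat.ble 1282 c)
noncomputable def Ptab_s_1265_1288 (c : Nat) : Nat := @Bool.rec (fun _ => Nat) (Ptab_s_1265_1276 c) (Ptab_s_1276_1288 c) (Nat.ble 1276 c)
noncomputable def Ptab_s_1242_1288 (c : Nat) : Nat := @Bool.rec (fun _ => Nat) (Ptab_s_1242_1265 c) (Ptab_s_1265_1288 c) (Nat.ble 1265 c)
noncomputable def Ptab_s_1196_1288 (c : Nat) : Nat := @Bool.rec (fun _ => Nat) (Ptab_s_1196_1242 c) (Ptab_s_1242_1288 c) (Nat.ble 1242 c)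
noncomputable def Ptab_s_1104_1288 (c : Nat) : Nat := @Bool.rec (fun _ => Nat) (Ptab_s_1104_1196 c) (Ptab_s_1196_1288 c) (Nat.ble 1196 c)
noncomputable def Ptab_s_1288_1290 (c : Nat) : Nat := @Bool.rec (fun _ => Nat) (Ptab_1288) (Ptab_1289) (Nat.ble 1289 c)
noncomputable def Ptab_s_1291_1293 (c : Nat) : Nat := @Bool.rec (fun _ => Nat) (Ptab_1291) (Ptab_1292) (Nat.ble 1292 c)
noncomputable def Ptab_s_1290_1293 (c : Nat) : Nat := @Bool.rec (fun _ => Nat) (Ptab_1290) (Ptab_s_1291_1293 c) (Nat.ble 1291 c)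
noncomputable def Ptab_s_1288_1293 (c : Nat) : Nat := @Bool.rec (fun _ => Nat) (Ptab_s_1288_1290 c) (Ptab_s_1290_1293 c) (Nat.ble 1290 c)
noncomputable def Ptab_s_1294_1296 (c : Nat) : Nat := @Bool.rec (fun _ => Nat) (Ptab_1294) (Ptab_1295) (Nat.ble 1295 c)
noncomputable def Ptab_s_1293_1296 (c : Nat) : Nat := @Bool.rec (fun _ => Nat) (Ptab_1293) (Ptab_s_1294_1296 c) (Nat.ble 1294 c)
noncomputable def Ptab_s_1297_1299 (c : Nat) : Nat := @Bool.rec (fun _ => Nat) (Ptab_1297) (Ptab_1298) (Nat.ble 1298 c)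
noncomputable def Ptab_s_1296_1299 (c : Nat) : Nat := @Bool.rec (fun _ => Nat) (Ptab_1296) (Ptab_s_1297_1299 c) (Nat.ble 1297 c)
noncomputable def Ptab_s_1293_1299 (c : Nat) : Nat := @Bool.rec (fun _ => Nat) (Ptab_s_1293_1296 c) (Ptab_s_1296_1299 c) (Nat.ble 1296 c)
noncomputable def Ptab_s_1288_1299 (c : Nat) : Nat := @Bool.rec (fun _ => Nat) (Ptab_s_1288_1293 c) (Ptab_s_1293_1299 c) (Nat.ble 1293 c)
noncomputable def Ptab_s_1300_1302 (c : Nat) : Nat := @Bool.rec (fun _ => Nat) (Ptab_1300) (Ptab_1301) (Nat.ble 1301 c)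
noncomputable def Ptab_s_1299_1302 (c : Nat) : Nat := @Bool.rec (fun _ => Nat) (Ptab_1299) (Ptab_s_1300_1302 c) (Nat.ble 1300 c)
noncomputable def Ptab_s_1303_1305 (c : Nat) : Nat := @Bool.rec (fun _ => Nat) (Ptab_1303) (Ptab_1304) (Nat.ble 1304 c)
noncomputable def Ptab_s_1302_1305 (c : Nat) : Nat := @Bool.rec (fun _ => Nat) (Ptab_1302) (Ptab_s_1303_1305 c) (Nat.ble 1303 c)
noncomputable def Ptab_s_1299_1305 (c : Nat) : Nat := @Bool.rec (fun _ => Nat) (Ptab_s_1299_1302 c) (Ptab_s_1302_1305 c) (Nat.ble 1302 c)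
noncomputable def Ptab_s_1306_1308 (c : Nat) : Nat := @Bool.rec (fun _ => Nat) (Ptab_1306) (Ptab_1307) (Nat.ble 1307 c)
noncomputable def Ptab_s_1305_1308 (c : Nat) : Nat := @Bool.rec (fun _ => Nat) (Ptab_1305) (Ptab_s_1306_1308 c) (Nat.ble 1306 c)
noncomputable def Ptab_s_1309_1311 (c : Nat) : Nat := @Bool.rec (fun _ => Nat) (Ptab_1309) (Ptab_1310) (Nat.ble 1310 c)
noncomputable def Ptab_s_1308_1311 (c : Nat) : Nat := @Bool.rec (fun _ => Nat) (Ptab_1308) (Ptab_s_1309_1311 c) (Nat.ble 1309 c)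
noncomputable def Ptab_s_1305_1311 (c : Nat) : Nat := @Bool.rec (fun _ => Nat) (Ptab_s_1305_1308 c) (Ptab_s_1308_1311 c) (Nat.ble 1308 c)
noncomputable def Ptab_s_1299_1311 (c : Nat) : Nat := @Bool.rec (fun _ => Nat) (Ptab_s_1299_1305 c) (Ptab_s_1305_1311 c) (Nat.ble 1305 c)
noncomputable def Ptab_s_1288_1311 (c : Nat) : Nat := @Bool.rec (fun _ => Nat) (Ptab_s_1288_1299 c) (Ptab_s_1299_1311 c) (Nat.ble 1299 c)
noncomputable def Ptab_s_1311_1313 (c : Nat) : Nat := @Bool.rec (fun _ => Nat) (Ptab_1311) (Ptab_1312) (Nat.ble 1312 c)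
noncomputable def Ptab_s_1314_1316 (c : Nat) : Nat := @Bool.rec (fun _ => Nat) (Ptab_1314) (Ptab_1315) (Nat.ble 1315 c)
noncomputable def Ptab_s_1313_1316 (c : Nat) : Nat := @Bool.rec (fun _ => Nat) (Ptab_1313) (Ptab_s_1314_1316 c) (Nat.ble 1314 c)
noncomputable def Ptab_s_1311_1316 (c : Nat) : Nat := @Bool.rec (fun _ => Nat) (Ptab_s_1311_1313 c) (Ptab_s_1313_1316 c) (Nat.ble 1313 c)
noncomputable def Ptab_s_1317_1319 (c : Nat) : Nat := @Bool.rec (fun _ => Nat) (Ptab_1317) (Ptab_1318) (Nat.ble 1318 c)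
noncomputable def Ptab_s_1316_1319 (c : Nat) : Nat := @Bool.rec (fun _ => Nat) (Ptab_1316) (Ptab_s_1317_1319 c) (Nat.ble 1317 c)
noncomputable def Ptab_s_1320_1322 (c : Nat) : Nat := @Bool.rec (fun _ => Nat) (Ptab_1320) (Ptab_1321) (Nat.ble 1321 c)
noncomputable def Ptab_s_1319_1322 (c : Nat) : Nat := @Bool.rec (fun _ => Nat) (Ptab_1319) (Ptab_s_1320_1322 c) (Nat.ble 1320 c)
noncomputable def Ptab_s_1316_1322 (c : Nat) : Nat := @Bool.rec (fun _ => Nat) (Ptab_s_1316_1319 c) (Ptab_s_1319_1322 c) (Nat.ble 1319 c)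
noncomputable def Ptab_s_1311_1322 (c : Nat) : Nat := @Bool.rec (fun _ => Nat) (Ptab_s_1311_1316 c) (Ptab_s_1316_1322 c) (Nat.ble 1316 c)
noncomputable def Ptab_s_1323_1325 (c : Nat) : Nat := @Bool.rec (fun _ => Nat) (Ptab_1323) (Ptab_1324) (Nat.ble 1324 c)
noncomputable def Ptab_s_1322_1325 (c : Nat) : Nat := @Bool.rec (fun _ => Nat) (Ptab_1322) (Ptab_s_1323_1325 c) (Nat.ble 1323 c)
noncomputable def Ptab_s_1326_1328 (c : Nat) : Nat := @Bool.rec (fun _ => Nat) (Ptab_1326) (Ptab_1327) (Nat.ble 1327 c)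
noncomputable def Ptab_s_1325_1328 (c : Nat) : Nat := @Bool.rec (fun _ => Nat) (Ptab_1325) (Ptab_s_1326_1328 c) (Nat.ble 1326 c)
noncomputable def Ptab_s_1322_1328 (c : Nat) : Nat := @Bool.rec (fun _ => Nat) (Ptab_s_1322_1325 c) (Ptab_s_1325_1328 c) (Nat.ble 1325 c)
noncomputable def Ptab_s_1329_1331 (c : Nat) : Nat := @Bool.rec (fun _ => Nat) (Ptab_1329) (Ptab_1330) (Nat.ble 1330 c)
noncomputable def Ptab_s_1328_1331 (c : Nat) : Nat := @Bool.rec (fun _ => Nat) (Ptab_1328) (Ptab_s_1329_1331 c) (Nat.ble 1329 c)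
noncomputable def Ptab_s_1332_1334 (c : Nat) : Nat := @Bool.rec (fun _ => Nat) (Ptab_1332) (Ptab_1333) (Nat.ble 1333 c)
noncomputable def Ptab_s_1331_1334 (c : Nat) : Nat := @Bool.rec (fun _ => Nat) (Ptab_1331) (Ptab_s_1332_1334 c) (Nat.ble 1332 c)
noncomputable def Ptab_s_1328_1334 (c : Nat) : Nat := @Bool.rec (fun _ => Nat) (Ptab_s_1328_1331 c) (Ptab_s_1331_1334 c) (Nat.ble 1331 c)
noncomputable def Ptab_s_1322_1334 (c : Nat) : Nat := @Bool.rec (fun _ => Nat) (Ptab_s_1322_1328 c) (Ptab_s_1328_1334 c) (Nat.ble 1328 c)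
noncomputable def Ptab_s_1311_1334 (c : Nat) : Nat := @Bool.rec (fun _ => Nat) (Ptab_s_1311_1322 c) (Ptab_s_1322_1334 c) (Nat.ble 1322 c)
noncomputable def Ptab_s_1288_1334 (c : Nat) : Nat := @Bool.rec (fun _ => Nat) (Ptab_s_1288_1311 c) (Ptab_s_1311_1334 c) (Nat.ble 1311 c)
noncomputable def Ptab_s_1334_1336 (c : Nat) : Nat := @Bool.rec (fun _ => Nat) (Ptab_1334) (Ptab_1335) (Nat.ble 1335 c)
noncomputable def Ptab_s_1337_1339 (c : Nat) : Nat := @Bool.rec (fun _ => Nat) (Ptab_1337) (Ptab_1338) (Nat.ble 1338 c)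
noncomputable def Ptab_s_1336_1339 (c : Nat) : Nat := @Bool.rec (fun _ => Nat) (Ptab_1336) (Ptab_s_1337_1339 c) (Nat.ble 1337 c)
noncomputable def Ptab_s_1334_1339 (c : Nat) : Nat := @Bool.rec (fun _ => Nat) (Ptab_s_1334_1336 c) (Ptab_s_1336_1339 c) (Nat.ble 1336 c)
noncomputable def Ptab_s_1340_1342 (c : Nat) : Nat := @Bool.rec (fun _ => Nat) (Ptab_1340) (Ptab_1341) (Nat.ble 1341 c)
noncomputable def Ptab_s_1339_1342 (c : Nat) : Nat := @Bool.rec (fun _ => Nat) (Ptab_1339) (Ptab_s_1340_1342 c) (Nat.ble 1340 c)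
noncomputable def Ptab_s_1343_1345 (c : Nat) : Nat := @Bool.rec (fun _ => Nat) (Ptab_1343) (Ptab_1344) (Nat.ble 1344 c)
noncomputable def Ptab_s_1342_1345 (c : Nat) : Nat := @Bool.rec (fun _ => Nat) (Ptab_1342) (Ptab_s_1343_1345 c) (Nat.ble 1343 c)
noncomputable def Ptab_s_1339_1345 (c : Nat) : Nat := @Bool.rec (fun _ => Nat) (Ptab_s_1339_1342 c) (Ptab_s_1342_1345 c) (Nat.ble 1342 c)
noncomputable def Ptab_s_1334_1345 (c : Nat) : Nat := @Bool.rec (fun _ => Nat) (Ptab_s_1334_1339 c) (Ptab_s_1339_1345 c) (Nat.ble 1339 c)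
noncomputable def Ptab_s_1346_1348 (c : Nat) : Nat := @Bool.rec (fun _ => Nat) (Ptab_1346) (Ptab_1347) (Nat.ble 1347 c)
noncomputable def Ptab_s_1345_1348 (c : Nat) : Nat := @Bool.rec (fun _ => Nat) (Ptab_1345) (Ptab_s_1346_1348 c) (Nat.ble 1346 c)
noncomputable def Ptab_s_1349_1351 (c : Nat) : Nat := @Bool.rec (fun _ => Nat) (Ptab_1349) (Ptab_1350) (Nat.ble 1350 c)
noncomputable def Ptab_s_1348_1351 (c : Nat) : Nat := @Bool.rec (fun _ => Nat) (Ptab_1348) (Ptab_s_1349_1351 c) (Nat.ble 1349 c)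
noncomputable def Ptab_s_1345_1351 (c : Nat) : Nat := @Bool.rec (fun _ => Nat) (Ptab_s_1345_1348 c) (Ptab_s_1348_1351 c) (Nat.ble 1348 c)
noncomputable def Ptab_s_1352_1354 (c : Nat) : Nat := @Bool.rec (fun _ => Nat) (Ptab_1352) (Ptab_1353) (Nat.ble 1353 c)
noncomputable def Ptab_s_1351_1354 (c : Nat) : Nat := @Bool.rec (fun _ => Nat) (Ptab_1351) (Ptab_s_1352_1354 c) (Nat.ble 1352 c)
noncomputable def Ptab_s_1355_1357 (c : Nat) : Nat := @Bool.rec (fun _ => Nat) (Ptab_1355) (Ptab_1356) (Nat.ble 1356 c)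
noncomputable def Ptab_s_1354_1357 (c : Nat) : Nat := @Bool.rec (fun _ => Nat) (Ptab_1354) (Ptab_s_1355_1357 c) (Nat.ble 1355 c)
noncomputable def Ptab_s_1351_1357 (c : Nat) : Nat := @Bool.rec (fun _ => Nat) (Ptab_s_1351_1354 c) (Ptab_s_1354_1357 c) (Nat.ble 1354 c)
noncomputable def Ptab_s_1345_1357 (c : Nat) : Nat := @Bool.rec (fun _ => Nat) (Ptab_s_1345_1351 c) (Ptab_s_1351_1357 c) (Nat.ble 1351 c)
noncomputable def Ptab_s_1334_1357 (c : Nat) : Nat := @Bool.rec (fun _ => Nat) (Ptab_s_1334_1345 c) (Ptab_s_1345_1357 c) (Nat.ble 1345 c)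
noncomputable def Ptab_s_1357_1359 (c : Nat) : Nat := @Bool.rec (fun _ => Nat) (Ptab_1357) (Ptab_1358) (Nat.ble 1358 c)
noncomputable def Ptab_s_1360_1362 (c : Nat) : Nat := @Bool.rec (fun _ => Nat) (Ptab_1360) (Ptab_1361) (Nat.ble 1361 c)
noncomputable def Ptab_s_1359_1362 (c : Nat) : Nat := @Bool.rec (fun _ => Nat) (Ptab_1359) (Ptab_s_1360_1362 c) (Nat.ble 1360 c)
noncomputable def Ptab_s_1357_1362 (c : Nat) : Nat := @Bool.rec (fun _ => Nat) (Ptab_s_1357_1359 c) (Ptab_s_1359_1362 c) (Nat.ble 1359 c)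
noncomputable def Ptab_s_1363_1365 (c : Nat) : Nat := @Bool.rec (fun _ => Nat) (Ptab_1363) (Ptab_1364) (Nat.ble 1364 c)
noncomputable def Ptab_s_1362_1365 (c : Nat) : Nat := @Bool.rec (fun _ => Nat) (Ptab_1362) (Ptab_s_1363_1365 c) (Nat.ble 1363 c)
noncomputable def Ptab_s_1366_1368 (c : Nat) : Nat := @Bool.rec (fun _ => Nat) (Ptab_1366) (Ptab_1367) (Nat.ble 1367 c)
noncomputable def Ptab_s_1365_1368 (c : Nat) : Nat := @Bool.rec (fun _ => Nat) (Ptab_1365) (Ptab_s_1366_1368 c) (Nat.ble 1366 c)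
noncomputable def Ptab_s_1362_1368 (c : Nat) : Nat := @Bool.rec (fun _ => Nat) (Ptab_s_1362_1365 c) (Ptab_s_1365_1368 c) (Nat.ble 1365 c)
noncomputable def Ptab_s_1357_1368 (c : Nat) : Nat := @Bool.rec (fun _ => Nat) (Ptab_s_1357_1362 c) (Ptab_s_1362_1368 c) (Nat.ble 1362 c)
noncomputable def Ptab_s_1369_1371 (c : Nat) : Nat := @Bool.rec (fun _ => Nat) (Ptab_1369) (Ptab_1370) (Nat.ble 1370 c)
noncomputable def Ptab_s_1368_1371 (c : Nat) : Nat := @Bool.rec (fun _ => Nat) (Ptab_1368) (Ptab_s_1369_1371 c) (Nat.ble 1369 c)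
noncomputable def Ptab_s_1372_1374 (c : Nat) : Nat := @Bool.rec (fun _ => Nat) (Ptab_1372) (Ptab_1373) (Nat.ble 1373 c)
noncomputable def Ptab_s_1371_1374 (c : Nat) : Nat := @Bool.rec (fun _ => Nat) (Ptab_1371) (Ptab_s_1372_1374 c) (Nat.ble 1372 c)
noncomputable def Ptab_s_1368_1374 (c : Nat) : Nat := @Bool.rec (fun _ => Nat) (Ptab_s_1368_1371 c) (Ptab_s_1371_1374 c) (Nat.ble 1371 c)
noncomputable def Ptab_s_1375_1377 (c : Nat) : Nat := @Bool.rec (fun _ => Nat) (Ptab_1375) (Ptab_1376) (Nat.ble 1376 c)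
noncomputable def Ptab_s_1374_1377 (c : Nat) : Nat := @Bool.rec (fun _ => Nat) (Ptab_1374) (Ptab_s_1375_1377 c) (Nat.ble 1375 c)
noncomputable def Ptab_s_1378_1380 (c : Nat) : Nat := @Bool.rec (fun _ => Nat) (Ptab_1378) (Ptab_1379) (Nat.ble 1379 c)
noncomputable def Ptab_s_1377_1380 (c : Nat) : Nat := @Bool.rec (fun _ => Nat) (Ptab_1377) (Ptab_s_1378_1380 c) (Nat.ble 1378 c)
noncomputable def Ptab_s_1374_1380 (c : Nat) : Nat := @Bool.rec (fun _ => Nat) (Ptab_s_1374_1377 c) (Ptab_s_1377_1380 c) (Nat.ble 1377 c)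
noncomputable def Ptab_s_1368_1380 (c : Nat) : Nat := @Bool.rec (fun _ => Nat) (Ptab_s_1368_1374 c) (Ptab_s_1374_1380 c) (Nat.ble 1374 c)
noncomputable def Ptab_s_1357_1380 (c : Nat) : Nat := @Bool.rec (fun _ => Nat) (Ptab_s_1357_1368 c) (Ptab_s_1368_1380 c) (Nat.ble 1368 c)
noncomputable def Ptab_s_1334_1380 (c : Nat) : Nat := @Bool.rec (fun _ => Nat) (Ptab_s_1334_1357 c) (Ptab_s_1357_1380 c) (Nat.ble 1357 c)
noncomputable def Ptab_s_1288_1380 (c : Nat) : Nat := @Bool.rec (fun _ => Nat) (Ptab_s_1288_1334 c) (Ptab_s_1334_1380 c) (Nat.ble 1334 c)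
noncomputable def Ptab_s_1380_1382 (c : Nat) : Nat := @Bool.rec (fun _ => Nat) (Ptab_1380) (Ptab_1381) (Nat.ble 1381 c)
noncomputable def Ptab_s_1383_1385 (c : Nat) : Nat := @Bool.rec (fun _ => Nat) (Ptab_1383) (Ptab_1384) (Nat.ble 1384 c)
noncomputable def Ptab_s_1382_1385 (c : Nat) : Nat := @Bool.rec (fun _ => Nat) (Ptab_1382) (Ptab_s_1383_1385 c) (Nat.ble 1383 c)
noncomputable def Ptab_s_1380_1385 (c : Nat) : Nat := @Bool.rec (fun _ => Nat) (Ptab_s_1380_1382 c) (Ptab_s_1382_1385 c) (Nat.ble 1382 c)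
noncomputable def Ptab_s_1386_1388 (c : Nat) : Nat := @Bool.rec (fun _ => Nat) (Ptab_1386) (Ptab_1387) (Nat.ble 1387 c)
noncomputable def Ptab_s_1385_1388 (c : Nat) : Nat := @Bool.rec (fun _ => Nat) (Ptab_1385) (Ptab_s_1386_1388 c) (Nat.ble 1386 c)
noncomputable def Ptab_s_1389_1391 (c : Nat) : Nat := @Bool.rec (fun _ => Nat) (Ptab_1389) (Ptab_1390) (Nat.ble 1390 c)
noncomputable def Ptab_s_1388_1391 (c : Nat) : Nat := @Bool.rec (fun _ => Nat) (Ptab_1388) (Ptab_s_1389_1391 c) (Nat.ble 1389 c)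
noncomputable def Ptab_s_1385_1391 (c : Nat) : Nat := @Bool.rec (fun _ => Nat) (Ptab_s_1385_1388 c) (Ptab_s_1388_1391 c) (Nat.ble 1388 c)
noncomputable def Ptab_s_1380_1391 (c : Nat) : Nat := @Bool.rec (fun _ => Nat) (Ptab_s_1380_1385 c) (Ptab_s_1385_1391 c) (Nat.ble 1385 c)
noncomputable def Ptab_s_1392_1394 (c : Nat) : Nat := @Bool.rec (fun _ => Nat) (Ptab_1392) (Ptab_1393) (Nat.ble 1393 c)
noncomputable def Ptab_s_1391_1394 (c : Nat) : Nat := @Bool.rec (fun _ => Nat) (Ptab_1391) (Ptab_s_1392_1394 c) (Nat.ble 1392 c)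
noncomputable def Ptab_s_1395_1397 (c : Nat) : Nat := @Bool.rec (fun _ => Nat) (Ptab_1395) (Ptab_1396) (Nat.ble 1396 c)
noncomputable def Ptab_s_1394_1397 (c : Nat) : Nat := @Bool.rec (fun _ => Nat) (Ptab_1394) (Ptab_s_1395_1397 c) (Nat.ble 1395 c)
noncomputable def Ptab_s_1391_1397 (c : Nat) : Nat := @Bool.rec (fun _ => Nat) (Ptab_s_1391_1394 c) (Ptab_s_1394_1397 c) (Nat.ble 1394 c)
noncomputable def Ptab_s_1398_1400 (c : Nat) : Nat := @Bool.rec (fun _ => Nat) (Ptab_1398) (Ptab_1399) (Nat.ble 1399 c)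
noncomputable def Ptab_s_1397_1400 (c : Nat) : Nat := @Bool.rec (fun _ => Nat) (Ptab_1397) (Ptab_s_1398_1400 c) (Nat.ble 1398 c)
noncomputable def Ptab_s_1401_1403 (c : Nat) : Nat := @Bool.rec (fun _ => Nat) (Ptab_1401) (Ptab_1402) (Nat.ble 1402 c)
noncomputable def Ptab_s_1400_1403 (c : Nat) : Nat := @Bool.rec (fun _ => Nat) (Ptab_1400) (Ptab_s_1401_1403 c) (Nat.ble 1401 c)
noncomputable def Ptab_s_1397_1403 (c : Nat) : Nat := @Bool.rec (fun _ => Nat) (Ptab_s_1397_1400 c) (Ptab_s_1400_1403 c) (Nat.ble 1400 c)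
noncomputable def Ptab_s_1391_1403 (c : Nat) : Nat := @Bool.rec (fun _ => Nat) (Ptab_s_1391_1397 c) (Ptab_s_1397_1403 c) (Nat.ble 1397 c)
noncomputable def Ptab_s_1380_1403 (c : Nat) : Nat := @Bool.rec (fun _ => Nat) (Ptab_s_1380_1391 c) (Ptab_s_1391_1403 c) (Nat.ble 1391 c)
noncomputable def Ptab_s_1403_1405 (c : Nat) : Nat := @Bool.rec (fun _ => Nat) (Ptab_1403) (Ptab_1404) (Nat.ble 1404 c)
noncomputable def Ptab_s_1406_1408 (c : Nat) : Nat := @Bool.rec (fun _ => Nat) (Ptab_1406) (Ptab_1407) (Nat.ble 1407 c)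
noncomputable def Ptab_s_1405_1408 (c : Nat) : Nat := @Bool.rec (fun _ => Nat) (Ptab_1405) (Ptab_s_1406_1408 c) (Nat.ble 1406 c)
noncomputable def Ptab_s_1403_1408 (c : Nat) : Nat := @Bool.rec (fun _ => Nat) (Ptab_s_1403_1405 c) (Ptab_s_1405_1408 c) (Nat.ble 1405 c)
noncomputable def Ptab_s_1409_1411 (c : Nat) : Nat := @Bool.rec (fun _ => Nat) (Ptab_1409) (Ptab_1410) (Nat.ble 1410 c)
noncomputable def Ptab_s_1408_1411 (c : Nat) : Nat := @Bool.rec (fun _ => Nat) (Ptab_1408) (Ptab_s_1409_1411 c) (Nat.ble 1409 c)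
noncomputable def Ptab_s_1412_1414 (c : Nat) : Nat := @Bool.rec (fun _ => Nat) (Ptab_1412) (Ptab_1413) (Nat.ble 1413 c)
noncomputable def Ptab_s_1411_1414 (c : Nat) : Nat := @Bool.rec (fun _ => Nat) (Ptab_1411) (Ptab_s_1412_1414 c) (Nat.ble 1412 c)
noncomputable def Ptab_s_1408_1414 (c : Nat) : Nat := @Bool.rec (fun _ => Nat) (Ptab_s_1408_1411 c) (Ptab_s_1411_1414 c) (Nat.ble 1411 c)
noncomputable def Ptab_s_1403_1414 (c : Nat) : Nat := @Bool.rec (fun _ => Nat) (Ptab_s_1403_1408 c) (Ptab_s_1408_1414 c) (Nat.ble 1408 c)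
noncomputable def Ptab_s_1415_1417 (c : Nat) : Nat := @Bool.rec (fun _ => Nat) (Ptab_1415) (Ptab_1416) (Nat.ble 1416 c)
noncomputable def Ptab_s_1414_1417 (c : Nat) : Nat := @Bool.rec (fun _ => Nat) (Ptab_1414) (Ptab_s_1415_1417 c) (Nat.ble 1415 c)
noncomputable def Ptab_s_1418_1420 (c : Nat) : Nat := @Bool.rec (fun _ => Nat) (Ptab_1418) (Ptab_1419) (Nat.ble 1419 c)
noncomputable def Ptab_s_1417_1420 (c : Nat) : Nat := @Bool.rec (fun _ => Nat) (Ptab_1417) (Ptab_s_1418_1420 c) (Nat.ble 1418 c)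
noncomputable def Ptab_s_1414_1420 (c : Nat) : Nat := @Bool.rec (fun _ => Nat) (Ptab_s_1414_1417 c) (Ptab_s_1417_1420 c) (Nat.ble 1417 c)
noncomputable def Ptab_s_1421_1423 (c : Nat) : Nat := @Bool.rec (fun _ => Nat) (Ptab_1421) (Ptab_1422) (Nat.ble 1422 c)
noncomputable def Ptab_s_1420_1423 (c : Nat) : Nat := @Bool.rec (fun _ => Nat) (Ptab_1420) (Ptab_s_1421_1423 c) (Nat.ble 1421 c)
noncomputable def Ptab_s_1424_1426 (c : Nat) : Nat := @Bool.rec (fun _ => Nat) (Ptab_1424) (Ptab_1425) (Nat.ble 1425 c)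
noncomputable def Ptab_s_1423_1426 (c : Nat) : Nat := @Bool.rec (fun _ => Nat) (Ptab_1423) (Ptab_s_1424_1426 c) (Nat.ble 1424 c)
noncomputable def Ptab_s_1420_1426 (c : Nat) : Nat := @Bool.rec (fun _ => Nat) (Ptab_s_1420_1423 c) (Ptab_s_1423_1426 c) (Nat.ble 1423 c)
noncomputable def Ptab_s_1414_1426 (c : Nat) : Nat := @Bool.rec (fun _ => Nat) (Ptab_s_1414_1420 c) (Ptab_s_1420_1426 c) (Nat.ble 1420 c)
noncomputable def Ptab_s_1403_1426 (c : Nat) : Nat := @Bool.rec (fun _ => Nat) (Ptab_s_1403_1414 c) (Ptab_s_1414_1426 c) (Nat.ble 1414 c)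
noncomputable def Ptab_s_1380_1426 (c : Nat) : Nat := @Bool.rec (fun _ => Nat) (Ptab_s_1380_1403 c) (Ptab_s_1403_1426 c) (Nat.ble 1403 c)
noncomputable def Ptab_s_1426_1428 (c : Nat) : Nat := @Bool.rec (fun _ => Nat) (Ptab_1426) (Ptab_1427) (Nat.ble 1427 c)
noncomputable def Ptab_s_1429_1431 (c : Nat) : Nat := @Bool.rec (fun _ => Nat) (Ptab_1429) (Ptab_1430) (Nat.ble 1430 c)
noncomputable def Ptab_s_1428_1431 (c : Nat) : Nat := @Bool.rec (fun _ => Nat) (Ptab_1428) (Ptab_s_1429_1431 c) (Nat.ble 1429 c)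
noncomputable def Ptab_s_1426_1431 (c : Nat) : Nat := @Bool.rec (fun _ => Nat) (Ptab_s_1426_1428 c) (Ptab_s_1428_1431 c) (Nat.ble 1428 c)
noncomputable def Ptab_s_1432_1434 (c : Nat) : Nat := @Bool.rec (fun _ => Nat) (Ptab_1432) (Ptab_1433) (Nat.ble 1433 c)
noncomputable def Ptab_s_1431_1434 (c : Nat) : Nat := @Bool.rec (fun _ => Nat) (Ptab_1431) (Ptab_s_1432_1434 c) (Nat.ble 1432 c)
noncomputable def Ptab_s_1435_1437 (c : Nat) : Nat := @Bool.rec (fun _ => Nat) (Ptab_1435) (Ptab_1436) (Nat.ble 1436 c)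
noncomputable def Ptab_s_1434_1437 (c : Nat) : Nat := @Bool.rec (fun _ => Nat) (Ptab_1434) (Ptab_s_1435_1437 c) (Nat.ble 1435 c)
noncomputable def Ptab_s_1431_1437 (c : Nat) : Nat := @Bool.rec (fun _ => Nat) (Ptab_s_1431_1434 c) (Ptab_s_1434_1437 c) (Nat.ble 1434 c)
noncomputable def Ptab_s_1426_1437 (c : Nat) : Nat := @Bool.rec (fun _ => Nat) (Ptab_s_1426_1431 c) (Ptab_s_1431_1437 c) (Nat.ble 1431 c)
noncomputable def Ptab_s_1438_1440 (c : Nat) : Nat := @Bool.rec (fun _ => Nat) (Ptab_1438) (Ptab_1439) (Nat.ble 1439 c)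
noncomputable def Ptab_s_1437_1440 (c : Nat) : Nat := @Bool.rec (fun _ => Nat) (Ptab_1437) (Ptab_s_1438_1440 c) (Nat.ble 1438 c)
noncomputable def Ptab_s_1441_1443 (c : Nat) : Nat := @Bool.rec (fun _ => Nat) (Ptab_1441) (Ptab_1442) (Nat.ble 1442 c)
noncomputable def Ptab_s_1440_1443 (c : Nat) : Nat := @Bool.rec (fun _ => Nat) (Ptab_1440) (Ptab_s_1441_1443 c) (Nat.ble 1441 c)
noncomputable def Ptab_s_1437_1443 (c : Nat) : Nat := @Bool.rec (fun _ => Nat) (Ptab_s_1437_1440 c) (Ptab_s_1440_1443 c) (Nat.ble 1440 c)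
noncomputable def Ptab_s_1444_1446 (c : Nat) : Nat := @Bool.rec (fun _ => Nat) (Ptab_1444) (Ptab_1445) (Nat.ble 1445 c)
noncomputable def Ptab_s_1443_1446 (c : Nat) : Nat := @Bool.rec (fun _ => Nat) (Ptab_1443) (Ptab_s_1444_1446 c) (Nat.ble 1444 c)
noncomputable def Ptab_s_1447_1449 (c : Nat) : Nat := @Bool.rec (fun _ => Nat) (Ptab_1447) (Ptab_1448) (Nat.ble 1448 c)
noncomputable def Ptab_s_1446_1449 (c : Nat) : Nat := @Bool.rec (fun _ => Nat) (Ptab_1446) (Ptab_s_1447_1449 c) (Nat.ble 1447 c)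
noncomputable def Ptab_s_1443_1449 (c : Nat) : Nat := @Bool.rec (fun _ => Nat) (Ptab_s_1443_1446 c) (Ptab_s_1446_1449 c) (Nat.ble 1446 c)
noncomputable def Ptab_s_1437_1449 (c : Nat) : Nat := @Bool.rec (fun _ => Nat) (Ptab_s_1437_1443 c) (Ptab_s_1443_1449 c) (Nat.ble 1443 c)
noncomputable def Ptab_s_1426_1449 (c : Nat) : Nat := @Bool.rec (fun _ => Nat) (Ptab_s_1426_1437 c) (Ptab_s_1437_1449 c) (Nat.ble 1437 c)
noncomputable def Ptab_s_1450_1452 (c : Nat) : Nat := @Bool.rec (fun _ => Nat) (Ptab_1450) (Ptab_1451) (Nat.ble 1451 c)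
noncomputable def Ptab_s_1449_1452 (c : Nat) : Nat := @Bool.rec (fun _ => Nat) (Ptab_1449) (Ptab_s_1450_1452 c) (Nat.ble 1450 c)
noncomputable def Ptab_s_1453_1455 (c : Nat) : Nat := @Bool.rec (fun _ => Nat) (Ptab_1453) (Ptab_1454) (Nat.ble 1454 c)
noncomputable def Ptab_s_1452_1455 (c : Nat) : Nat := @Bool.rec (fun _ => Nat) (Ptab_1452) (Ptab_s_1453_1455 c) (Nat.ble 1453 c)
noncomputable def Ptab_s_1449_1455 (c : Nat) : Nat := @Bool.rec (fun _ => Nat) (Ptab_s_1449_1452 c) (Ptab_s_1452_1455 c) (Nat.ble 1452 c)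
noncomputable def Ptab_s_1456_1458 (c : Nat) : Nat := @Bool.rec (fun _ => Nat) (Ptab_1456) (Ptab_1457) (Nat.ble 1457 c)
noncomputable def Ptab_s_1455_1458 (c : Nat) : Nat := @Bool.rec (fun _ => Nat) (Ptab_1455) (Ptab_s_1456_1458 c) (Nat.ble 1456 c)
noncomputable def Ptab_s_1459_1461 (c : Nat) : Nat := @Bool.rec (fun _ => Nat) (Ptab_1459) (Ptab_1460) (Nat.ble 1460 c)
noncomputable def Ptab_s_1458_1461 (c : Nat) : Nat := @Bool.rec (fun _ => Nat) (Ptab_1458) (Ptab_s_1459_1461 c) (Nat.ble 1459 c)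
noncomputable def Ptab_s_1455_1461 (c : Nat) : Nat := @Bool.rec (fun _ => Nat) (Ptab_s_1455_1458 c) (Ptab_s_1458_1461 c) (Nat.ble 1458 c)
noncomputable def Ptab_s_1449_1461 (c : Nat) : Nat := @Bool.rec (fun _ => Nat) (Ptab_s_1449_1455 c) (Ptab_s_1455_1461 c) (Nat.ble 1455 c)
noncomputable def Ptab_s_1462_1464 (c : Nat) : Nat := @Bool.rec (fun _ => Nat) (Ptab_1462) (Ptab_1463) (Nat.ble 1463 c)
noncomputable def Ptab_s_1461_1464 (c : Nat) : Nat := @Bool.rec (fun _ => Nat) (Ptab_1461) (Ptab_s_1462_1464 c) (Nat.ble 1462 c)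
noncomputable def Ptab_s_1465_1467 (c : Nat) : Nat := @Bool.rec (fun _ => Nat) (Ptab_1465) (Ptab_1466) (Nat.ble 1466 c)
noncomputable def Ptab_s_1464_1467 (c : Nat) : Nat := @Bool.rec (fun _ => Nat) (Ptab_1464) (Ptab_s_1465_1467 c) (Nat.ble 1465 c)
noncomputable def Ptab_s_1461_1467 (c : Nat) : Nat := @Bool.rec (fun _ => Nat) (Ptab_s_1461_1464 c) (Ptab_s_1464_1467 c) (Nat.ble 1464 c)
noncomputable def Ptab_s_1468_1470 (c : Nat) : Nat := @Bool.rec (fun _ => Nat) (Ptab_1468) (Ptab_1469) (Nat.ble 1469 c)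
noncomputable def Ptab_s_1467_1470 (c : Nat) : Nat := @Bool.rec (fun _ => Nat) (Ptab_1467) (Ptab_s_1468_1470 c) (Nat.ble 1468 c)
noncomputable def Ptab_s_1471_1473 (c : Nat) : Nat := @Bool.rec (fun _ => Nat) (Ptab_1471) (Ptab_1472) (Nat.ble 1472 c)
noncomputable def Ptab_s_1470_1473 (c : Nat) : Nat := @Bool.rec (fun _ => Nat) (Ptab_1470) (Ptab_s_1471_1473 c) (Nat.ble 1471 c)
noncomputable def Ptab_s_1467_1473 (c : Nat) : Nat := @Bool.rec (fun _ => Nat) (Ptab_s_1467_1470 c) (Ptab_s_1470_1473 c) (Nat.ble 1470 c)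
noncomputable def Ptab_s_1461_1473 (c : Nat) : Nat := @Bool.rec (fun _ => Nat) (Ptab_s_1461_1467 c) (Ptab_s_1467_1473 c) (Nat.ble 1467 c)
noncomputable def Ptab_s_1449_1473 (c : Nat) : Nat := @Bool.rec (fun _ => Nat) (Ptab_s_1449_1461 c) (Ptab_s_1461_1473 c) (Nat.ble 1461 c)
noncomputable def Ptab_s_1426_1473 (c : Nat) : Nat := @Bool.rec (fun _ => Nat) (Ptab_s_1426_1449 c) (Ptab_s_1449_1473 c) (Nat.ble 1449 c)
noncomputable def Ptab_s_1380_1473 (c : Nat) : Nat := @Bool.rec (fun _ => Nat) (Ptab_s_1380_1426 c) (Ptab_s_1426_1473 c) (Nat.ble 1426 c)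
noncomputable def Ptab_s_1288_1473 (c : Nat) : Nat := @Bool.rec (fun _ => Nat) (Ptab_s_1288_1380 c) (Ptab_s_1380_1473 c) (Nat.ble 1380 c)
noncomputable def Ptab_s_1104_1473 (c : Nat) : Nat := @Bool.rec (fun _ => Nat) (Ptab_s_1104_1288 c) (Ptab_s_1288_1473 c) (Nat.ble 1288 c)
noncomputable def Ptab_s_736_1473 (c : Nat) : Nat := @Bool.rec (fun _ => Nat) (Ptab_s_736_1104 c) (Ptab_s_1104_1473 c) (Nat.ble 1104 c)
noncomputable def Ptab_s_0_1473 (c : Nat) : Nat := @Bool.rec (fun _ => Nat) (Ptab_s_0_736 c) (Ptab_s_736_1473 c) (Nat.ble 736 c)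
noncomputable def Ptab (i : Nat) : Nat := rdw 23 8388607 (Ptab_s_0_1473 (Nat.shiftRight i 12)) (Nat.land i 4095)
noncomputable def RRtab (i : Nat) : Nat := rdw 6 63 RRtab_0 i
noncomputable def rBtab (i : Nat) : Nat := rdw 12 4095 rBtab_0 i
noncomputable def rLtab (i : Nat) : Nat := rdw 8 255 rLtab_0 i
noncomputable def nameTab_s_0_2 (c : Nat) : Nat := @Bool.rec (fun _ => Nat) (nameTab_0) (nameTab_1) (Nat.ble 1 c)
noncomputable def nameTab_s_2_4 (c : Nat) : Nat := @Bool.rec (fun _ => Nat) (nameTab_2) (nameTab_3) (Nat.ble 3 c)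
noncomputable def nameTab_s_0_4 (c : Nat) : Nat := @Bool.rec (fun _ => Nat) (nameTab_s_0_2 c) (nameTab_s_2_4 c) (Nat.ble 2 c)
noncomputable def nameTab_s_4_6 (c : Nat) : Nat := @Bool.rec (fun _ => Nat) (nameTab_4) (nameTab_5) (Nat.ble 5 c)
noncomputable def nameTab_s_7_9 (c : Nat) : Nat := @Bool.rec (fun _ => Nat) (nameTab_7) (nameTab_8) (Nat.ble 8 c)
noncomputable def nameTab_s_6_9 (c : Nat) : Nat := @Bool.rec (fun _ => Nat) (nameTab_6) (nameTab_s_7_9 c) (Nat.ble 7 c)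
noncomputable def nameTab_s_4_9 (c : Nat) : Nat := @Bool.rec (fun _ => Nat) (nameTab_s_4_6 c) (nameTab_s_6_9 c) (Nat.ble 6 c)
noncomputable def nameTab_s_0_9 (c : Nat) : Nat := @Bool.rec (fun _ => Nat) (nameTab_s_0_4 c) (nameTab_s_4_9 c) (Nat.ble 4 c)
noncomputable def nameTab_s_9_11 (c : Nat) : Nat := @Bool.rec (fun _ => Nat) (nameTab_9) (nameTab_10) (Nat.ble 10 c)
noncomputable def nameTab_s_11_13 (c : Nat) : Nat := @Bool.rec (fun _ => Nat) (nameTab_11) (nameTab_12) (Nat.ble 12 c)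
noncomputable def nameTab_s_9_13 (c : Nat) : Nat := @Bool.rec (fun _ => Nat) (nameTab_s_9_11 c) (nameTab_s_11_13 c) (Nat.ble 11 c)
noncomputable def nameTab_s_13_15 (c : Nat) : Nat := @Bool.rec (fun _ => Nat) (nameTab_13) (nameTab_14) (Nat.ble 14 c)
noncomputable def nameTab_s_16_18 (c : Nat) : Nat := @Bool.rec (fun _ => Nat) (nameTab_16) (nameTab_17) (Nat.ble 17 c)
noncomputable def nameTab_s_15_18 (c : Nat) : Nat := @Bool.rec (fun _ => Nat) (nameTab_15) (nameTab_s_16_18 c) (Nat.ble 16 c)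
noncomputable def nameTab_s_13_18 (c : Nat) : Nat := @Bool.rec (fun _ => Nat) (nameTab_s_13_15 c) (nameTab_s_15_18 c) (Nat.ble 15 c)
noncomputable def nameTab_s_9_18 (c : Nat) : Nat := @Bool.rec (fun _ => Nat) (nameTab_s_9_13 c) (nameTab_s_13_18 c) (Nat.ble 13 c)
noncomputable def nameTab_s_0_18 (c : Nat) : Nat := @Bool.rec (fun _ => Nat) (nameTab_s_0_9 c) (nameTab_s_9_18 c) (Nat.ble 9 c)
noncomputable def nameTab_s_18_20 (c : Nat) : Nat := @Bool.rec (fun _ => Nat) (nameTab_18) (nameTab_19) (Nat.ble 19 c)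
noncomputable def nameTab_s_20_22 (c : Nat) : Nat := @Bool.rec (fun _ => Nat) (nameTab_20) (nameTab_21) (Nat.ble 21 c)
noncomputable def nameTab_s_18_22 (c : Nat) : Nat := @Bool.rec (fun _ => Nat) (nameTab_s_18_20 c) (nameTab_s_20_22 c) (Nat.ble 20 c)
noncomputable def nameTab_s_22_24 (c : Nat) : Nat := @Bool.rec (fun _ => Nat) (nameTab_22) (nameTab_23) (Nat.ble 23 c)
noncomputable def nameTab_s_25_27 (c : Nat) : Nat := @Bool.rec (fun _ => Nat) (nameTab_25) (nameTab_26) (Nat.ble 26 c)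
noncomputable def nameTab_s_24_27 (c : Nat) : Nat := @Bool.rec (fun _ => Nat) (nameTab_24) (nameTab_s_25_27 c) (Nat.ble 25 c)
noncomputable def nameTab_s_22_27 (c : Nat) : Nat := @Bool.rec (fun _ => Nat) (nameTab_s_22_24 c) (nameTab_s_24_27 c) (Nat.ble 24 c)
noncomputable def nameTab_s_18_27 (c : Nat) : Nat := @Bool.rec (fun _ => Nat) (nameTab_s_18_22 c) (nameTab_s_22_27 c) (Nat.ble 22 c)
noncomputable def nameTab_s_27_29 (c : Nat) : Nat := @Bool.rec (fun _ => Nat) (nameTab_27) (nameTab_28) (Nat.ble 28 c)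
noncomputable def nameTab_s_30_32 (c : Nat) : Nat := @Bool.rec (fun _ => Nat) (nameTab_30) (nameTab_31) (Nat.ble 31 c)
noncomputable def nameTab_s_29_32 (c : Nat) : Nat := @Bool.rec (fun _ => Nat) (nameTab_29) (nameTab_s_30_32 c) (Nat.ble 30 c)
noncomputable def nameTab_s_27_32 (c : Nat) : Nat := @Bool.rec (fun _ => Nat) (nameTab_s_27_29 c) (nameTab_s_29_32 c) (Nat.ble 29 c)
noncomputable def nameTab_s_32_34 (c : Nat) : Nat := @Bool.rec (fun _ => Nat) (nameTab_32) (nameTab_33) (Nat.ble 33 c)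
noncomputable def nameTab_s_35_37 (c : Nat) : Nat := @Bool.rec (fun _ => Nat) (nameTab_35) (nameTab_36) (Nat.ble 36 c)
noncomputable def nameTab_s_34_37 (c : Nat) : Nat := @Bool.rec (fun _ => Nat) (nameTab_34) (nameTab_s_35_37 c) (Nat.ble 35 c)
noncomputable def nameTab_s_32_37 (c : Nat) : Nat := @Bool.rec (fun _ => Nat) (nameTab_s_32_34 c) (nameTab_s_34_37 c) (Nat.ble 34 c)
noncomputable def nameTab_s_27_37 (c : Nat) : Nat := @Bool.rec (fun _ => Nat) (nameTab_s_27_32 c) (nameTab_s_32_37 c) (Nat.ble 32 c)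
noncomputable def nameTab_s_18_37 (c : Nat) : Nat := @Bool.rec (fun _ => Nat) (nameTab_s_18_27 c) (nameTab_s_27_37 c) (Nat.ble 27 c)
noncomputable def nameTab_s_0_37 (c : Nat) : Nat := @Bool.rec (fun _ => Nat) (nameTab_s_0_18 c) (nameTab_s_18_37 c) (Nat.ble 18 c)
noncomputable def nameTab_s_37_39 (c : Nat) : Nat := @Bool.rec (fun _ => Nat) (nameTab_37) (nameTab_38) (Nat.ble 38 c)
noncomputable def nameTab_s_39_41 (c : Nat) : Nat := @Bool.rec (fun _ => Nat) (nameTab_39) (nameTab_40) (Nat.ble 40 c)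
noncomputable def nameTab_s_37_41 (c : Nat) : Nat := @Bool.rec (fun _ => Nat) (nameTab_s_37_39 c) (nameTab_s_39_41 c) (Nat.ble 39 c)
noncomputable def nameTab_s_41_43 (c : Nat) : Nat := @Bool.rec (fun _ => Nat) (nameTab_41) (nameTab_42) (Nat.ble 42 c)
noncomputable def nameTab_s_44_46 (c : Nat) : Nat := @Bool.rec (fun _ => Nat) (nameTab_44) (nameTab_45) (Nat.ble 45 c)
noncomputable def nameTab_s_43_46 (c : Nat) : Nat := @Bool.rec (fun _ => Nat) (nameTab_43) (nameTab_s_44_46 c) (Nat.ble 44 c)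
noncomputable def nameTab_s_41_46 (c : Nat) : Nat := @Bool.rec (fun _ => Nat) (nameTab_s_41_43 c) (nameTab_s_43_46 c) (Nat.ble 43 c)
noncomputable def nameTab_s_37_46 (c : Nat) : Nat := @Bool.rec (fun _ => Nat) (nameTab_s_37_41 c) (nameTab_s_41_46 c) (Nat.ble 41 c)
noncomputable def nameTab_s_46_48 (c : Nat) : Nat := @Bool.rec (fun _ => Nat) (nameTab_46) (nameTab_47) (Nat.ble 47 c)
noncomputable def nameTab_s_49_51 (c : Nat) : Nat := @Bool.rec (fun _ => Nat) (nameTab_49) (nameTab_50) (Nat.ble 50 c)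
noncomputable def nameTab_s_48_51 (c : Nat) : Nat := @Bool.rec (fun _ => Nat) (nameTab_48) (nameTab_s_49_51 c) (Nat.ble 49 c)
noncomputable def nameTab_s_46_51 (c : Nat) : Nat := @Bool.rec (fun _ => Nat) (nameTab_s_46_48 c) (nameTab_s_48_51 c) (Nat.ble 48 c)
noncomputable def nameTab_s_51_53 (c : Nat) : Nat := @Bool.rec (fun _ => Nat) (nameTab_51) (nameTab_52) (Nat.ble 52 c)
noncomputable def nameTab_s_54_56 (c : Nat) : Nat := @Bool.rec (fun _ => Nat) (nameTab_54) (nameTab_55) (Nat.ble 55 c)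
noncomputable def nameTab_s_53_56 (c : Nat) : Nat := @Bool.rec (fun _ => Nat) (nameTab_53) (nameTab_s_54_56 c) (Nat.ble 54 c)
noncomputable def nameTab_s_51_56 (c : Nat) : Nat := @Bool.rec (fun _ => Nat) (nameTab_s_51_53 c) (nameTab_s_53_56 c) (Nat.ble 53 c)
noncomputable def nameTab_s_46_56 (c : Nat) : Nat := @Bool.rec (fun _ => Nat) (nameTab_s_46_51 c) (nameTab_s_51_56 c) (Nat.ble 51 c)
noncomputable def nameTab_s_37_56 (c : Nat) : Nat := @Bool.rec (fun _ => Nat) (nameTab_s_37_46 c) (nameTab_s_46_56 c) (Nat.ble 46 c)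
noncomputable def nameTab_s_56_58 (c : Nat) : Nat := @Bool.rec (fun _ => Nat) (nameTab_56) (nameTab_57) (Nat.ble 57 c)
noncomputable def nameTab_s_58_60 (c : Nat) : Nat := @Bool.rec (fun _ => Nat) (nameTab_58) (nameTab_59) (Nat.ble 59 c)
noncomputable def nameTab_s_56_60 (c : Nat) : Nat := @Bool.rec (fun _ => Nat) (nameTab_s_56_58 c) (nameTab_s_58_60 c) (Nat.ble 58 c)
noncomputable def nameTab_s_60_62 (c : Nat) : Nat := @Bool.rec (fun _ => Nat) (nameTab_60) (nameTab_61) (Nat.ble 61 c)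
noncomputable def nameTab_s_63_65 (c : Nat) : Nat := @Bool.rec (fun _ => Nat) (nameTab_63) (nameTab_64) (Nat.ble 64 c)
noncomputable def nameTab_s_62_65 (c : Nat) : Nat := @Bool.rec (fun _ => Nat) (nameTab_62) (nameTab_s_63_65 c) (Nat.ble 63 c)
noncomputable def nameTab_s_60_65 (c : Nat) : Nat := @Bool.rec (fun _ => Nat) (nameTab_s_60_62 c) (nameTab_s_62_65 c) (Nat.ble 62 c)
noncomputable def nameTab_s_56_65 (c : Nat) : Nat := @Bool.rec (fun _ => Nat) (nameTab_s_56_60 c) (nameTab_s_60_65 c) (Nat.ble 60 c)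
noncomputable def nameTab_s_65_67 (c : Nat) : Nat := @Bool.rec (fun _ => Nat) (nameTab_65) (nameTab_66) (Nat.ble 66 c)
noncomputable def nameTab_s_68_70 (c : Nat) : Nat := @Bool.rec (fun _ => Nat) (nameTab_68) (nameTab_69) (Nat.ble 69 c)
noncomputable def nameTab_s_67_70 (c : Nat) : Nat := @Bool.rec (fun _ => Nat) (nameTab_67) (nameTab_s_68_70 c) (Nat.ble 68 c)
noncomputable def nameTab_s_65_70 (c : Nat) : Nat := @Bool.rec (fun _ => Nat) (nameTab_s_65_67 c) (nameTab_s_67_70 c) (Nat.ble 67 c)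
noncomputable def nameTab_s_70_72 (c : Nat) : Nat := @Bool.rec (fun _ => Nat) (nameTab_70) (nameTab_71) (Nat.ble 71 c)
noncomputable def nameTab_s_73_75 (c : Nat) : Nat := @Bool.rec (fun _ => Nat) (nameTab_73) (nameTab_74) (Nat.ble 74 c)
noncomputable def nameTab_s_72_75 (c : Nat) : Nat := @Bool.rec (fun _ => Nat) (nameTab_72) (nameTab_s_73_75 c) (Nat.ble 73 c)
noncomputable def nameTab_s_70_75 (c : Nat) : Nat := @Bool.rec (fun _ => Nat) (nameTab_s_70_72 c) (nameTab_s_72_75 c) (Nat.ble 72 c)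
noncomputable def nameTab_s_65_75 (c : Nat) : Nat := @Bool.rec (fun _ => Nat) (nameTab_s_65_70 c) (nameTab_s_70_75 c) (Nat.ble 70 c)
noncomputable def nameTab_s_56_75 (c : Nat) : Nat := @Bool.rec (fun _ => Nat) (nameTab_s_56_65 c) (nameTab_s_65_75 c) (Nat.ble 65 c)
noncomputable def nameTab_s_37_75 (c : Nat) : Nat := @Bool.rec (fun _ => Nat) (nameTab_s_37_56 c) (nameTab_s_56_75 c) (Nat.ble 56 c)
noncomputable def nameTab_s_0_75 (c : Nat) : Nat := @Bool.rec (fun _ => Nat) (nameTab_s_0_37 c) (nameTab_s_37_75 c) (Nat.ble 37 c)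
noncomputable def nameTab (i : Nat) : Nat := rdw 19 524287 (nameTab_s_0_75 (Nat.shiftRight i 12)) (Nat.land i 4095)
noncomputable def col0_s_0_2 (c : Nat) : Nat := @Bool.rec (fun _ => Nat) (col0_0) (col0_1) (Nat.ble 1 c)
noncomputable def col0_s_2_4 (c : Nat) : Nat := @Bool.rec (fun _ => Nat) (col0_2) (col0_3) (Nat.ble 3 c)
noncomputable def col0_s_0_4 (c : Nat) : Nat := @Bool.rec (fun _ => Nat) (col0_s_0_2 c) (col0_s_2_4 c) (Nat.ble 2 c)
noncomputable def col0_s_4_6 (c : Nat) : Nat := @Bool.rec (fun _ => Nat) (col0_4) (col0_5) (Nat.ble 5 c)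
noncomputable def col0_s_7_9 (c : Nat) : Nat := @Bool.rec (fun _ => Nat) (col0_7) (col0_8) (Nat.ble 8 c)
noncomputable def col0_s_6_9 (c : Nat) : Nat := @Bool.rec (fun _ => Nat) (col0_6) (col0_s_7_9 c) (Nat.ble 7 c)
noncomputable def col0_s_4_9 (c : Nat) : Nat := @Bool.rec (fun _ => Nat) (col0_s_4_6 c) (col0_s_6_9 c) (Nat.ble 6 c)
noncomputable def col0_s_0_9 (c : Nat) : Nat := @Bool.rec (fun _ => Nat) (col0_s_0_4 c) (col0_s_4_9 c) (Nat.ble 4 c)
noncomputable def col0_s_9_11 (c : Nat) : Nat := @Bool.rec (fun _ => Nat) (col0_9) (col0_10) (Nat.ble 10 c)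
noncomputable def col0_s_11_13 (c : Nat) : Nat := @Bool.rec (fun _ => Nat) (col0_11) (col0_12) (Nat.ble 12 c)
noncomputable def col0_s_9_13 (c : Nat) : Nat := @Bool.rec (fun _ => Nat) (col0_s_9_11 c) (col0_s_11_13 c) (Nat.ble 11 c)
noncomputable def col0_s_13_15 (c : Nat) : Nat := @Bool.rec (fun _ => Nat) (col0_13) (col0_14) (Nat.ble 14 c)
noncomputable def col0_s_16_18 (c : Nat) : Nat := @Bool.rec (fun _ => Nat) (col0_16) (col0_17) (Nat.ble 17 c)
noncomputable def col0_s_15_18 (c : Nat) : Nat := @Bool.rec (fun _ => Nat) (col0_15) (col0_s_16_18 c) (Nat.ble 16 c)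
noncomputable def col0_s_13_18 (c : Nat) : Nat := @Bool.rec (fun _ => Nat) (col0_s_13_15 c) (col0_s_15_18 c) (Nat.ble 15 c)
noncomputable def col0_s_9_18 (c : Nat) : Nat := @Bool.rec (fun _ => Nat) (col0_s_9_13 c) (col0_s_13_18 c) (Nat.ble 13 c)
noncomputable def col0_s_0_18 (c : Nat) : Nat := @Bool.rec (fun _ => Nat) (col0_s_0_9 c) (col0_s_9_18 c) (Nat.ble 9 c)
noncomputable def col0_s_18_20 (c : Nat) : Nat := @Bool.rec (fun _ => Nat) (col0_18) (col0_19) (Nat.ble 19 c)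
noncomputable def col0_s_20_22 (c : Nat) : Nat := @Bool.rec (fun _ => Nat) (col0_20) (col0_21) (Nat.ble 21 c)
noncomputable def col0_s_18_22 (c : Nat) : Nat := @Bool.rec (fun _ => Nat) (col0_s_18_20 c) (col0_s_20_22 c) (Nat.ble 20 c)
noncomputable def col0_s_22_24 (c : Nat) : Nat := @Bool.rec (fun _ => Nat) (col0_22) (col0_23) (Nat.ble 23 c)
noncomputable def col0_s_25_27 (c : Nat) : Nat := @Bool.rec (fun _ => Nat) (col0_25) (col0_26) (Nat.ble 26 c)
noncomputable def col0_s_24_27 (c : Nat) : Nat := @Bool.rec (fun _ => Nat) (col0_24) (col0_s_25_27 c) (Nat.ble 25 c)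
noncomputable def col0_s_22_27 (c : Nat) : Nat := @Bool.rec (fun _ => Nat) (col0_s_22_24 c) (col0_s_24_27 c) (Nat.ble 24 c)
noncomputable def col0_s_18_27 (c : Nat) : Nat := @Bool.rec (fun _ => Nat) (col0_s_18_22 c) (col0_s_22_27 c) (Nat.ble 22 c)
noncomputable def col0_s_27_29 (c : Nat) : Nat := @Bool.rec (fun _ => Nat) (col0_27) (col0_28) (Nat.ble 28 c)
noncomputable def col0_s_30_32 (c : Nat) : Nat := @Bool.rec (fun _ => Nat) (col0_30) (col0_31) (Nat.ble 31 c)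
noncomputable def col0_s_29_32 (c : Nat) : Nat := @Bool.rec (fun _ => Nat) (col0_29) (col0_s_30_32 c) (Nat.ble 30 c)
noncomputable def col0_s_27_32 (c : Nat) : Nat := @Bool.rec (fun _ => Nat) (col0_s_27_29 c) (col0_s_29_32 c) (Nat.ble 29 c)
noncomputable def col0_s_32_34 (c : Nat) : Nat := @Bool.rec (fun _ => Nat) (col0_32) (col0_33) (Nat.ble 33 c)
noncomputable def col0_s_35_37 (c : Nat) : Nat := @Bool.rec (fun _ => Nat) (col0_35) (col0_36) (Nat.ble 36 c)
noncomputable def col0_s_34_37 (c : Nat) : Nat := @Bool.rec (fun _ => Nat) (col0_34) (col0_s_35_37 c) (Nat.ble 35 c)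
noncomputable def col0_s_32_37 (c : Nat) : Nat := @Bool.rec (fun _ => Nat) (col0_s_32_34 c) (col0_s_34_37 c) (Nat.ble 34 c)
noncomputable def col0_s_27_37 (c : Nat) : Nat := @Bool.rec (fun _ => Nat) (col0_s_27_32 c) (col0_s_32_37 c) (Nat.ble 32 c)
noncomputable def col0_s_18_37 (c : Nat) : Nat := @Bool.rec (fun _ => Nat) (col0_s_18_27 c) (col0_s_27_37 c) (Nat.ble 27 c)
noncomputable def col0_s_0_37 (c : Nat) : Nat := @Bool.rec (fun _ => Nat) (col0_s_0_18 c) (col0_s_18_37 c) (Nat.ble 18 c)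
noncomputable def col0_s_37_39 (c : Nat) : Nat := @Bool.rec (fun _ => Nat) (col0_37) (col0_38) (Nat.ble 38 c)
noncomputable def col0_s_39_41 (c : Nat) : Nat := @Bool.rec (fun _ => Nat) (col0_39) (col0_40) (Nat.ble 40 c)
noncomputable def col0_s_37_41 (c : Nat) : Nat := @Bool.rec (fun _ => Nat) (col0_s_37_39 c) (col0_s_39_41 c) (Nat.ble 39 c)
noncomputable def col0_s_41_43 (c : Nat) : Nat := @Bool.rec (fun _ => Nat) (col0_41) (col0_42) (Nat.ble 42 c)
noncomputable def col0_s_44_46 (c : Nat) : Nat := @Bool.rec (fun _ => Nat) (col0_44) (col0_45) (Nat.ble 45 c)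
noncomputable def col0_s_43_46 (c : Nat) : Nat := @Bool.rec (fun _ => Nat) (col0_43) (col0_s_44_46 c) (Nat.ble 44 c)
noncomputable def col0_s_41_46 (c : Nat) : Nat := @Bool.rec (fun _ => Nat) (col0_s_41_43 c) (col0_s_43_46 c) (Nat.ble 43 c)
noncomputable def col0_s_37_46 (c : Nat) : Nat := @Bool.rec (fun _ => Nat) (col0_s_37_41 c) (col0_s_41_46 c) (Nat.ble 41 c)
noncomputable def col0_s_46_48 (c : Nat) : Nat := @Bool.rec (fun _ => Nat) (col0_46) (col0_47) (Nat.ble 47 c)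
noncomputable def col0_s_49_51 (c : Nat) : Nat := @Bool.rec (fun _ => Nat) (col0_49) (col0_50) (Nat.ble 50 c)
noncomputable def col0_s_48_51 (c : Nat) : Nat := @Bool.rec (fun _ => Nat) (col0_48) (col0_s_49_51 c) (Nat.ble 49 c)
noncomputable def col0_s_46_51 (c : Nat) : Nat := @Bool.rec (fun _ => Nat) (col0_s_46_48 c) (col0_s_48_51 c) (Nat.ble 48 c)
noncomputable def col0_s_51_53 (c : Nat) : Nat := @Bool.rec (fun _ => Nat) (col0_51) (col0_52) (Nat.ble 52 c)
noncomputable def col0_s_54_56 (c : Nat) : Nat := @Bool.rec (fun _ => Nat) (col0_54) (col0_55) (Nat.ble 55 c)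
noncomputable def col0_s_53_56 (c : Nat) : Nat := @Bool.rec (fun _ => Nat) (col0_53) (col0_s_54_56 c) (Nat.ble 54 c)
noncomputable def col0_s_51_56 (c : Nat) : Nat := @Bool.rec (fun _ => Nat) (col0_s_51_53 c) (col0_s_53_56 c) (Nat.ble 53 c)
noncomputable def col0_s_46_56 (c : Nat) : Nat := @Bool.rec (fun _ => Nat) (col0_s_46_51 c) (col0_s_51_56 c) (Nat.ble 51 c)
noncomputable def col0_s_37_56 (c : Nat) : Nat := @Bool.rec (fun _ => Nat) (col0_s_37_46 c) (col0_s_46_56 c) (Nat.ble 46 c)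
noncomputable def col0_s_56_58 (c : Nat) : Nat := @Bool.rec (fun _ => Nat) (col0_56) (col0_57) (Nat.ble 57 c)
noncomputable def col0_s_58_60 (c : Nat) : Nat := @Bool.rec (fun _ => Nat) (col0_58) (col0_59) (Nat.ble 59 c)
noncomputable def col0_s_56_60 (c : Nat) : Nat := @Bool.rec (fun _ => Nat) (col0_s_56_58 c) (col0_s_58_60 c) (Nat.ble 58 c)
noncomputable def col0_s_60_62 (c : Nat) : Nat := @Bool.rec (fun _ => Nat) (col0_60) (col0_61) (Nat.ble 61 c)
noncomputable def col0_s_63_65 (c : Nat) : Nat := @Bool.rec (fun _ => Nat) (col0_63) (col0_64) (Nat.ble 64 c)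
noncomputable def col0_s_62_65 (c : Nat) : Nat := @Bool.rec (fun _ => Nat) (col0_62) (col0_s_63_65 c) (Nat.ble 63 c)
noncomputable def col0_s_60_65 (c : Nat) : Nat := @Bool.rec (fun _ => Nat) (col0_s_60_62 c) (col0_s_62_65 c) (Nat.ble 62 c)
noncomputable def col0_s_56_65 (c : Nat) : Nat := @Bool.rec (fun _ => Nat) (col0_s_56_60 c) (col0_s_60_65 c) (Nat.ble 60 c)
noncomputable def col0_s_65_67 (c : Nat) : Nat := @Bool.rec (fun _ => Nat) (col0_65) (col0_66) (Nat.ble 66 c)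
noncomputable def col0_s_68_70 (c : Nat) : Nat := @Bool.rec (fun _ => Nat) (col0_68) (col0_69) (Nat.ble 69 c)
noncomputable def col0_s_67_70 (c : Nat) : Nat := @Bool.rec (fun _ => Nat) (col0_67) (col0_s_68_70 c) (Nat.ble 68 c)
noncomputable def col0_s_65_70 (c : Nat) : Nat := @Bool.rec (fun _ => Nat) (col0_s_65_67 c) (col0_s_67_70 c) (Nat.ble 67 c)
noncomputable def col0_s_70_72 (c : Nat) : Nat := @Bool.rec (fun _ => Nat) (col0_70) (col0_71) (Nat.ble 71 c)
noncomputable def col0_s_73_75 (c : Nat) : Nat := @Bool.rec (fun _ => Nat) (col0_73) (col0_74) (Nat.ble 74 c)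
noncomputable def col0_s_72_75 (c : Nat) : Nat := @Bool.rec (fun _ => Nat) (col0_72) (col0_s_73_75 c) (Nat.ble 73 c)
noncomputable def col0_s_70_75 (c : Nat) : Nat := @Bool.rec (fun _ => Nat) (col0_s_70_72 c) (col0_s_72_75 c) (Nat.ble 72 c)
noncomputable def col0_s_65_75 (c : Nat) : Nat := @Bool.rec (fun _ => Nat) (col0_s_65_70 c) (col0_s_70_75 c) (Nat.ble 70 c)
noncomputable def col0_s_56_75 (c : Nat) : Nat := @Bool.rec (fun _ => Nat) (col0_s_56_65 c) (col0_s_65_75 c) (Nat.ble 65 c)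
noncomputable def col0_s_37_75 (c : Nat) : Nat := @Bool.rec (fun _ => Nat) (col0_s_37_56 c) (col0_s_56_75 c) (Nat.ble 56 c)
noncomputable def col0_s_0_75 (c : Nat) : Nat := @Bool.rec (fun _ => Nat) (col0_s_0_37 c) (col0_s_37_75 c) (Nat.ble 37 c)
noncomputable def col0 (i : Nat) : Nat := rdw 19 524287 (col0_s_0_75 (Nat.shiftRight i 12)) (Nat.land i 4095)
noncomputable def col1_s_0_2 (c : Nat) : Nat := @Bool.rec (fun _ => Nat) (col1_0) (col1_1) (Nat.ble 1 c)
noncomputable def col1_s_2_4 (c : Nat) : Nat := @Bool.rec (fun _ => Nat) (col1_2) (col1_3) (Nat.ble 3 c)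
noncomputable def col1_s_0_4 (c : Nat) : Nat := @Bool.rec (fun _ => Nat) (col1_s_0_2 c) (col1_s_2_4 c) (Nat.ble 2 c)
noncomputable def col1_s_4_6 (c : Nat) : Nat := @Bool.rec (fun _ => Nat) (col1_4) (col1_5) (Nat.ble 5 c)
noncomputable def col1_s_7_9 (c : Nat) : Nat := @Bool.rec (fun _ => Nat) (col1_7) (col1_8) (Nat.ble 8 c)
noncomputable def col1_s_6_9 (c : Nat) : Nat := @Bool.rec (fun _ => Nat) (col1_6) (col1_s_7_9 c) (Nat.ble 7 c)
noncomputable def col1_s_4_9 (c : Nat) : Nat := @Bool.rec (fun _ => Nat) (col1_s_4_6 c) (col1_s_6_9 c) (Nat.ble 6 c)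
noncomputable def col1_s_0_9 (c : Nat) : Nat := @Bool.rec (fun _ => Nat) (col1_s_0_4 c) (col1_s_4_9 c) (Nat.ble 4 c)
noncomputable def col1_s_9_11 (c : Nat) : Nat := @Bool.rec (fun _ => Nat) (col1_9) (col1_10) (Nat.ble 10 c)
noncomputable def col1_s_11_13 (c : Nat) : Nat := @Bool.rec (fun _ => Nat) (col1_11) (col1_12) (Nat.ble 12 c)
noncomputable def col1_s_9_13 (c : Nat) : Nat := @Bool.rec (fun _ => Nat) (col1_s_9_11 c) (col1_s_11_13 c) (Nat.ble 11 c)
noncomputable def col1_s_13_15 (c : Nat) : Nat := @Bool.rec (fun _ => Nat) (col1_13) (col1_14) (Nat.ble 14 c)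
noncomputable def col1_s_16_18 (c : Nat) : Nat := @Bool.rec (fun _ => Nat) (col1_16) (col1_17) (Nat.ble 17 c)
noncomputable def col1_s_15_18 (c : Nat) : Nat := @Bool.rec (fun _ => Nat) (col1_15) (col1_s_16_18 c) (Nat.ble 16 c)
noncomputable def col1_s_13_18 (c : Nat) : Nat := @Bool.rec (fun _ => Nat) (col1_s_13_15 c) (col1_s_15_18 c) (Nat.ble 15 c)
noncomputable def col1_s_9_18 (c : Nat) : Nat := @Bool.rec (fun _ => Nat) (col1_s_9_13 c) (col1_s_13_18 c) (Nat.ble 13 c)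
noncomputable def col1_s_0_18 (c : Nat) : Nat := @Bool.rec (fun _ => Nat) (col1_s_0_9 c) (col1_s_9_18 c) (Nat.ble 9 c)
noncomputable def col1_s_18_20 (c : Nat) : Nat := @Bool.rec (fun _ => Nat) (col1_18) (col1_19) (Nat.ble 19 c)
noncomputable def col1_s_20_22 (c : Nat) : Nat := @Bool.rec (fun _ => Nat) (col1_20) (col1_21) (Nat.ble 21 c)
noncomputable def col1_s_18_22 (c : Nat) : Nat := @Bool.rec (fun _ => Nat) (col1_s_18_20 c) (col1_s_20_22 c) (Nat.ble 20 c)
noncomputable def col1_s_22_24 (c : Nat) : Nat := @Bool.rec (fun _ => Nat) (col1_22) (col1_23) (Nat.ble 23 c)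
noncomputable def col1_s_25_27 (c : Nat) : Nat := @Bool.rec (fun _ => Nat) (col1_25) (col1_26) (Nat.ble 26 c)
noncomputable def col1_s_24_27 (c : Nat) : Nat := @Bool.rec (fun _ => Nat) (col1_24) (col1_s_25_27 c) (Nat.ble 25 c)
noncomputable def col1_s_22_27 (c : Nat) : Nat := @Bool.rec (fun _ => Nat) (col1_s_22_24 c) (col1_s_24_27 c) (Nat.ble 24 c)
noncomputable def col1_s_18_27 (c : Nat) : Nat := @Bool.rec (fun _ => Nat) (col1_s_18_22 c) (col1_s_22_27 c) (Nat.ble 22 c)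
noncomputable def col1_s_27_29 (c : Nat) : Nat := @Bool.rec (fun _ => Nat) (col1_27) (col1_28) (Nat.ble 28 c)
noncomputable def col1_s_30_32 (c : Nat) : Nat := @Bool.rec (fun _ => Nat) (col1_30) (col1_31) (Nat.ble 31 c)
noncomputable def col1_s_29_32 (c : Nat) : Nat := @Bool.rec (fun _ => Nat) (col1_29) (col1_s_30_32 c) (Nat.ble 30 c)
noncomputable def col1_s_27_32 (c : Nat) : Nat := @Bool.rec (fun _ => Nat) (col1_s_27_29 c) (col1_s_29_32 c) (Nat.ble 29 c)
noncomputable def col1_s_32_34 (c : Nat) : Nat := @Bool.rec (fun _ => Nat) (col1_32) (col1_33) (Nat.ble 33 c)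
noncomputable def col1_s_35_37 (c : Nat) : Nat := @Bool.rec (fun _ => Nat) (col1_35) (col1_36) (Nat.ble 36 c)
noncomputable def col1_s_34_37 (c : Nat) : Nat := @Bool.rec (fun _ => Nat) (col1_34) (col1_s_35_37 c) (Nat.ble 35 c)
noncomputable def col1_s_32_37 (c : Nat) : Nat := @Bool.rec (fun _ => Nat) (col1_s_32_34 c) (col1_s_34_37 c) (Nat.ble 34 c)
noncomputable def col1_s_27_37 (c : Nat) : Nat := @Bool.rec (fun _ => Nat) (col1_s_27_32 c) (col1_s_32_37 c) (Nat.ble 32 c)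
noncomputable def col1_s_18_37 (c : Nat) : Nat := @Bool.rec (fun _ => Nat) (col1_s_18_27 c) (col1_s_27_37 c) (Nat.ble 27 c)
noncomputable def col1_s_0_37 (c : Nat) : Nat := @Bool.rec (fun _ => Nat) (col1_s_0_18 c) (col1_s_18_37 c) (Nat.ble 18 c)
noncomputable def col1_s_37_39 (c : Nat) : Nat := @Bool.rec (fun _ => Nat) (col1_37) (col1_38) (Nat.ble 38 c)
noncomputable def col1_s_39_41 (c : Nat) : Nat := @Bool.rec (fun _ => Nat) (col1_39) (col1_40) (Nat.ble 40 c)
noncomputable def col1_s_37_41 (c : Nat) : Nat := @Bool.rec (fun _ => Nat) (col1_s_37_39 c) (col1_s_39_41 c) (Nat.ble 39 c)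
noncomputable def col1_s_41_43 (c : Nat) : Nat := @Bool.rec (fun _ => Nat) (col1_41) (col1_42) (Nat.ble 42 c)
noncomputable def col1_s_44_46 (c : Nat) : Nat := @Bool.rec (fun _ => Nat) (col1_44) (col1_45) (Nat.ble 45 c)
noncomputable def col1_s_43_46 (c : Nat) : Nat := @Bool.rec (fun _ => Nat) (col1_43) (col1_s_44_46 c) (Nat.ble 44 c)
noncomputable def col1_s_41_46 (c : Nat) : Nat := @Bool.rec (fun _ => Nat) (col1_s_41_43 c) (col1_s_43_46 c) (Nat.ble 43 c)
noncomputable def col1_s_37_46 (c : Nat) : Nat := @Bool.rec (fun _ => Nat) (col1_s_37_41 c) (col1_s_41_46 c) (Nat.ble 41 c)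
noncomputable def col1_s_46_48 (c : Nat) : Nat := @Bool.rec (fun _ => Nat) (col1_46) (col1_47) (Nat.ble 47 c)
noncomputable def col1_s_49_51 (c : Nat) : Nat := @Bool.rec (fun _ => Nat) (col1_49) (col1_50) (Nat.ble 50 c)
noncomputable def col1_s_48_51 (c : Nat) : Nat := @Bool.rec (fun _ => Nat) (col1_48) (col1_s_49_51 c) (Nat.ble 49 c)
noncomputable def col1_s_46_51 (c : Nat) : Nat := @Bool.rec (fun _ => Nat) (col1_s_46_48 c) (col1_s_48_51 c) (Nat.ble 48 c)
noncomputable def col1_s_51_53 (c : Nat) : Nat := @Bool.rec (fun _ => Nat) (col1_51) (col1_52) (Nat.ble 52 c)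
noncomputable def col1_s_54_56 (c : Nat) : Nat := @Bool.rec (fun _ => Nat) (col1_54) (col1_55) (Nat.ble 55 c)
noncomputable def col1_s_53_56 (c : Nat) : Nat := @Bool.rec (fun _ => Nat) (col1_53) (col1_s_54_56 c) (Nat.ble 54 c)
noncomputable def col1_s_51_56 (c : Nat) : Nat := @Bool.rec (fun _ => Nat) (col1_s_51_53 c) (col1_s_53_56 c) (Nat.ble 53 c)
noncomputable def col1_s_46_56 (c : Nat) : Nat := @Bool.rec (fun _ => Nat) (col1_s_46_51 c) (col1_s_51_56 c) (Nat.ble 51 c)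
noncomputable def col1_s_37_56 (c : Nat) : Nat := @Bool.rec (fun _ => Nat) (col1_s_37_46 c) (col1_s_46_56 c) (Nat.ble 46 c)
noncomputable def col1_s_56_58 (c : Nat) : Nat := @Bool.rec (fun _ => Nat) (col1_56) (col1_57) (Nat.ble 57 c)
noncomputable def col1_s_58_60 (c : Nat) : Nat := @Bool.rec (fun _ => Nat) (col1_58) (col1_59) (Nat.ble 59 c)
noncomputable def col1_s_56_60 (c : Nat) : Nat := @Bool.rec (fun _ => Nat) (col1_s_56_58 c) (col1_s_58_60 c) (Nat.ble 58 c)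
noncomputable def col1_s_60_62 (c : Nat) : Nat := @Bool.rec (fun _ => Nat) (col1_60) (col1_61) (Nat.ble 61 c)
noncomputable def col1_s_63_65 (c : Nat) : Nat := @Bool.rec (fun _ => Nat) (col1_63) (col1_64) (Nat.ble 64 c)
noncomputable def col1_s_62_65 (c : Nat) : Nat := @Bool.rec (fun _ => Nat) (col1_62) (col1_s_63_65 c) (Nat.ble 63 c)
noncomputable def col1_s_60_65 (c : Nat) : Nat := @Bool.rec (fun _ => Nat) (col1_s_60_62 c) (col1_s_62_65 c) (Nat.ble 62 c)
noncomputable def col1_s_56_65 (c : Nat) : Nat := @Bool.rec (fun _ => Nat) (col1_s_56_60 c) (col1_s_60_65 c) (Nat.ble 60 c)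
noncomputable def col1_s_65_67 (c : Nat) : Nat := @Bool.rec (fun _ => Nat) (col1_65) (col1_66) (Nat.ble 66 c)
noncomputable def col1_s_68_70 (c : Nat) : Nat := @Bool.rec (fun _ => Nat) (col1_68) (col1_69) (Nat.ble 69 c)
noncomputable def col1_s_67_70 (c : Nat) : Nat := @Bool.rec (fun _ => Nat) (col1_67) (col1_s_68_70 c) (Nat.ble 68 c)
noncomputable def col1_s_65_70 (c : Nat) : Nat := @Bool.rec (fun _ => Nat) (col1_s_65_67 c) (col1_s_67_70 c) (Nat.ble 67 c)
noncomputable def col1_s_70_72 (c : Nat) : Nat := @Bool.rec (fun _ => Nat) (col1_70) (col1_71) (Nat.ble 71 c)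
noncomputable def col1_s_73_75 (c : Nat) : Nat := @Bool.rec (fun _ => Nat) (col1_73) (col1_74) (Nat.ble 74 c)
noncomputable def col1_s_72_75 (c : Nat) : Nat := @Bool.rec (fun _ => Nat) (col1_72) (col1_s_73_75 c) (Nat.ble 73 c)
noncomputable def col1_s_70_75 (c : Nat) : Nat := @Bool.rec (fun _ => Nat) (col1_s_70_72 c) (col1_s_72_75 c) (Nat.ble 72 c)
noncomputable def col1_s_65_75 (c : Nat) : Nat := @Bool.rec (fun _ => Nat) (col1_s_65_70 c) (col1_s_70_75 c) (Nat.ble 70 c)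
noncomputable def col1_s_56_75 (c : Nat) : Nat := @Bool.rec (fun _ => Nat) (col1_s_56_65 c) (col1_s_65_75 c) (Nat.ble 65 c)
noncomputable def col1_s_37_75 (c : Nat) : Nat := @Bool.rec (fun _ => Nat) (col1_s_37_56 c) (col1_s_56_75 c) (Nat.ble 56 c)
noncomputable def col1_s_0_75 (c : Nat) : Nat := @Bool.rec (fun _ => Nat) (col1_s_0_37 c) (col1_s_37_75 c) (Nat.ble 37 c)
noncomputable def col1 (i : Nat) : Nat := rdw 19 524287 (col1_s_0_75 (Nat.shiftRight i 12)) (Nat.land i 4095)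
noncomputable def col2_s_0_2 (c : Nat) : Nat := @Bool.rec (fun _ => Nat) (col2_0) (col2_1) (Nat.ble 1 c)
noncomputable def col2_s_2_4 (c : Nat) : Nat := @Bool.rec (fun _ => Nat) (col2_2) (col2_3) (Nat.ble 3 c)
noncomputable def col2_s_0_4 (c : Nat) : Nat := @Bool.rec (fun _ => Nat) (col2_s_0_2 c) (col2_s_2_4 c) (Nat.ble 2 c)
noncomputable def col2_s_4_6 (c : Nat) : Nat := @Bool.rec (fun _ => Nat) (col2_4) (col2_5) (Nat.ble 5 c)
noncomputable def col2_s_7_9 (c : Nat) : Nat := @Bool.rec (fun _ => Nat) (col2_7) (col2_8) (Nat.ble 8 c)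
noncomputable def col2_s_6_9 (c : Nat) : Nat := @Bool.rec (fun _ => Nat) (col2_6) (col2_s_7_9 c) (Nat.ble 7 c)
noncomputable def col2_s_4_9 (c : Nat) : Nat := @Bool.rec (fun _ => Nat) (col2_s_4_6 c) (col2_s_6_9 c) (Nat.ble 6 c)
noncomputable def col2_s_0_9 (c : Nat) : Nat := @Bool.rec (fun _ => Nat) (col2_s_0_4 c) (col2_s_4_9 c) (Nat.ble 4 c)
noncomputable def col2_s_9_11 (c : Nat) : Nat := @Bool.rec (fun _ => Nat) (col2_9) (col2_10) (Nat.ble 10 c)
noncomputable def col2_s_11_13 (c : Nat) : Nat := @Bool.rec (fun _ => Nat) (col2_11) (col2_12) (Nat.ble 12 c)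
noncomputable def col2_s_9_13 (c : Nat) : Nat := @Bool.rec (fun _ => Nat) (col2_s_9_11 c) (col2_s_11_13 c) (Nat.ble 11 c)
noncomputable def col2_s_13_15 (c : Nat) : Nat := @Bool.rec (fun _ => Nat) (col2_13) (col2_14) (Nat.ble 14 c)
noncomputable def col2_s_16_18 (c : Nat) : Nat := @Bool.rec (fun _ => Nat) (col2_16) (col2_17) (Nat.ble 17 c)
noncomputable def col2_s_15_18 (c : Nat) : Nat := @Bool.rec (fun _ => Nat) (col2_15) (col2_s_16_18 c) (Nat.ble 16 c)
noncomputable def col2_s_13_18 (c : Nat) : Nat := @Bool.rec (fun _ => Nat) (col2_s_13_15 c) (col2_s_15_18 c) (Nat.ble 15 c)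
noncomputable def col2_s_9_18 (c : Nat) : Nat := @Bool.rec (fun _ => Nat) (col2_s_9_13 c) (col2_s_13_18 c) (Nat.ble 13 c)
noncomputable def col2_s_0_18 (c : Nat) : Nat := @Bool.rec (fun _ => Nat) (col2_s_0_9 c) (col2_s_9_18 c) (Nat.ble 9 c)
noncomputable def col2_s_18_20 (c : Nat) : Nat := @Bool.rec (fun _ => Nat) (col2_18) (col2_19) (Nat.ble 19 c)
noncomputable def col2_s_20_22 (c : Nat) : Nat := @Bool.rec (fun _ => Nat) (col2_20) (col2_21) (Nat.ble 21 c)
noncomputable def col2_s_18_22 (c : Nat) : Nat := @Bool.rec (fun _ => Nat) (col2_s_18_20 c) (col2_s_20_22 c) (Nat.ble 20 c)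
noncomputable def col2_s_22_24 (c : Nat) : Nat := @Bool.rec (fun _ => Nat) (col2_22) (col2_23) (Nat.ble 23 c)
noncomputable def col2_s_25_27 (c : Nat) : Nat := @Bool.rec (fun _ => Nat) (col2_25) (col2_26) (Nat.ble 26 c)
noncomputable def col2_s_24_27 (c : Nat) : Nat := @Bool.rec (fun _ => Nat) (col2_24) (col2_s_25_27 c) (Nat.ble 25 c)
noncomputable def col2_s_22_27 (c : Nat) : Nat := @Bool.rec (fun _ => Nat) (col2_s_22_24 c) (col2_s_24_27 c) (Nat.ble 24 c)
noncomputable def col2_s_18_27 (c : Nat) : Nat := @Bool.rec (fun _ => Nat) (col2_s_18_22 c) (col2_s_22_27 c) (Nat.ble 22 c)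
noncomputable def col2_s_27_29 (c : Nat) : Nat := @Bool.rec (fun _ => Nat) (col2_27) (col2_28) (Nat.ble 28 c)
noncomputable def col2_s_30_32 (c : Nat) : Nat := @Bool.rec (fun _ => Nat) (col2_30) (col2_31) (Nat.ble 31 c)
noncomputable def col2_s_29_32 (c : Nat) : Nat := @Bool.rec (fun _ => Nat) (col2_29) (col2_s_30_32 c) (Nat.ble 30 c)
noncomputable def col2_s_27_32 (c : Nat) : Nat := @Bool.rec (fun _ => Nat) (col2_s_27_29 c) (col2_s_29_32 c) (Nat.ble 29 c)
noncomputable def col2_s_32_34 (c : Nat) : Nat := @Bool.rec (fun _ => Nat) (col2_32) (col2_33) (Nat.ble 33 c)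
noncomputable def col2_s_35_37 (c : Nat) : Nat := @Bool.rec (fun _ => Nat) (col2_35) (col2_36) (Nat.ble 36 c)
noncomputable def col2_s_34_37 (c : Nat) : Nat := @Bool.rec (fun _ => Nat) (col2_34) (col2_s_35_37 c) (Nat.ble 35 c)
noncomputable def col2_s_32_37 (c : Nat) : Nat := @Bool.rec (fun _ => Nat) (col2_s_32_34 c) (col2_s_34_37 c) (Nat.ble 34 c)
noncomputable def col2_s_27_37 (c : Nat) : Nat := @Bool.rec (fun _ => Nat) (col2_s_27_32 c) (col2_s_32_37 c) (Nat.ble 32 c)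
noncomputable def col2_s_18_37 (c : Nat) : Nat := @Bool.rec (fun _ => Nat) (col2_s_18_27 c) (col2_s_27_37 c) (Nat.ble 27 c)
noncomputable def col2_s_0_37 (c : Nat) : Nat := @Bool.rec (fun _ => Nat) (col2_s_0_18 c) (col2_s_18_37 c) (Nat.ble 18 c)
noncomputable def col2_s_37_39 (c : Nat) : Nat := @Bool.rec (fun _ => Nat) (col2_37) (col2_38) (Nat.ble 38 c)
noncomputable def col2_s_39_41 (c : Nat) : Nat := @Bool.rec (fun _ => Nat) (col2_39) (col2_40) (Nat.ble 40 c)
noncomputable def col2_s_37_41 (c : Nat) : Nat := @Bool.rec (fun _ => Nat) (col2_s_37_39 c) (col2_s_39_41 c) (Nat.ble 39 c)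
noncomputable def col2_s_41_43 (c : Nat) : Nat := @Bool.rec (fun _ => Nat) (col2_41) (col2_42) (Nat.ble 42 c)
noncomputable def col2_s_44_46 (c : Nat) : Nat := @Bool.rec (fun _ => Nat) (col2_44) (col2_45) (Nat.ble 45 c)
noncomputable def col2_s_43_46 (c : Nat) : Nat := @Bool.rec (fun _ => Nat) (col2_43) (col2_s_44_46 c) (Nat.ble 44 c)
noncomputable def col2_s_41_46 (c : Nat) : Nat := @Bool.rec (fun _ => Nat) (col2_s_41_43 c) (col2_s_43_46 c) (Nat.ble 43 c)
noncomputable def col2_s_37_46 (c : Nat) : Nat := @Bool.rec (fun _ => Nat) (col2_s_37_41 c) (col2_s_41_46 c) (Nat.ble 41 c)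
noncomputable def col2_s_46_48 (c : Nat) : Nat := @Bool.rec (fun _ => Nat) (col2_46) (col2_47) (Nat.ble 47 c)
noncomputable def col2_s_49_51 (c : Nat) : Nat := @Bool.rec (fun _ => Nat) (col2_49) (col2_50) (Nat.ble 50 c)
noncomputable def col2_s_48_51 (c : Nat) : Nat := @Bool.rec (fun _ => Nat) (col2_48) (col2_s_49_51 c) (Nat.ble 49 c)
noncomputable def col2_s_46_51 (c : Nat) : Nat := @Bool.rec (fun _ => Nat) (col2_s_46_48 c) (col2_s_48_51 c) (Nat.ble 48 c)
noncomputable def col2_s_51_53 (c : Nat) : Nat := @Bool.rec (fun _ => Nat) (col2_51) (col2_52) (Nat.ble 52 c)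
noncomputable def col2_s_54_56 (c : Nat) : Nat := @Bool.rec (fun _ => Nat) (col2_54) (col2_55) (Nat.ble 55 c)
noncomputable def col2_s_53_56 (c : Nat) : Nat := @Bool.rec (fun _ => Nat) (col2_53) (col2_s_54_56 c) (Nat.ble 54 c)
noncomputable def col2_s_51_56 (c : Nat) : Nat := @Bool.rec (fun _ => Nat) (col2_s_51_53 c) (col2_s_53_56 c) (Nat.ble 53 c)
noncomputable def col2_s_46_56 (c : Nat) : Nat := @Bool.rec (fun _ => Nat) (col2_s_46_51 c) (col2_s_51_56 c) (Nat.ble 51 c)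
noncomputable def col2_s_37_56 (c : Nat) : Nat := @Bool.rec (fun _ => Nat) (col2_s_37_46 c) (col2_s_46_56 c) (Nat.ble 46 c)
noncomputable def col2_s_56_58 (c : Nat) : Nat := @Bool.rec (fun _ => Nat) (col2_56) (col2_57) (Nat.ble 57 c)
noncomputable def col2_s_58_60 (c : Nat) : Nat := @Bool.rec (fun _ => Nat) (col2_58) (col2_59) (Nat.ble 59 c)
noncomputable def col2_s_56_60 (c : Nat) : Nat := @Bool.rec (fun _ => Nat) (col2_s_56_58 c) (col2_s_58_60 c) (Nat.ble 58 c)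
noncomputable def col2_s_60_62 (c : Nat) : Nat := @Bool.rec (fun _ => Nat) (col2_60) (col2_61) (Nat.ble 61 c)
noncomputable def col2_s_63_65 (c : Nat) : Nat := @Bool.rec (fun _ => Nat) (col2_63) (col2_64) (Nat.ble 64 c)
noncomputable def col2_s_62_65 (c : Nat) : Nat := @Bool.rec (fun _ => Nat) (col2_62) (col2_s_63_65 c) (Nat.ble 63 c)
noncomputable def col2_s_60_65 (c : Nat) : Nat := @Bool.rec (fun _ => Nat) (col2_s_60_62 c) (col2_s_62_65 c) (Nat.ble 62 c)
noncomputable def col2_s_56_65 (c : Nat) : Nat := @Bool.rec (fun _ => Nat) (col2_s_56_60 c) (col2_s_60_65 c) (Nat.ble 60 c)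
noncomputable def col2_s_65_67 (c : Nat) : Nat := @Bool.rec (fun _ => Nat) (col2_65) (col2_66) (Nat.ble 66 c)
noncomputable def col2_s_68_70 (c : Nat) : Nat := @Bool.rec (fun _ => Nat) (col2_68) (col2_69) (Nat.ble 69 c)
noncomputable def col2_s_67_70 (c : Nat) : Nat := @Bool.rec (fun _ => Nat) (col2_67) (col2_s_68_70 c) (Nat.ble 68 c)
noncomputable def col2_s_65_70 (c : Nat) : Nat := @Bool.rec (fun _ => Nat) (col2_s_65_67 c) (col2_s_67_70 c) (Nat.ble 67 c)
noncomputable def col2_s_70_72 (c : Nat) : Nat := @Bool.rec (fun _ => Nat) (col2_70) (col2_71) (Nat.ble 71 c)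
noncomputable def col2_s_73_75 (c : Nat) : Nat := @Bool.rec (fun _ => Nat) (col2_73) (col2_74) (Nat.ble 74 c)
noncomputable def col2_s_72_75 (c : Nat) : Nat := @Bool.rec (fun _ => Nat) (col2_72) (col2_s_73_75 c) (Nat.ble 73 c)
noncomputable def col2_s_70_75 (c : Nat) : Nat := @Bool.rec (fun _ => Nat) (col2_s_70_72 c) (col2_s_72_75 c) (Nat.ble 72 c)
noncomputable def col2_s_65_75 (c : Nat) : Nat := @Bool.rec (fun _ => Nat) (col2_s_65_70 c) (col2_s_70_75 c) (Nat.ble 70 c)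
noncomputable def col2_s_56_75 (c : Nat) : Nat := @Bool.rec (fun _ => Nat) (col2_s_56_65 c) (col2_s_65_75 c) (Nat.ble 65 c)
noncomputable def col2_s_37_75 (c : Nat) : Nat := @Bool.rec (fun _ => Nat) (col2_s_37_56 c) (col2_s_56_75 c) (Nat.ble 56 c)
noncomputable def col2_s_0_75 (c : Nat) : Nat := @Bool.rec (fun _ => Nat) (col2_s_0_37 c) (col2_s_37_75 c) (Nat.ble 37 c)
noncomputable def col2 (i : Nat) : Nat := rdw 19 524287 (col2_s_0_75 (Nat.shiftRight i 12)) (Nat.land i 4095)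
noncomputable def col3_s_0_2 (c : Nat) : Nat := @Bool.rec (fun _ => Nat) (col3_0) (col3_1) (Nat.ble 1 c)
noncomputable def col3_s_2_4 (c : Nat) : Nat := @Bool.rec (fun _ => Nat) (col3_2) (col3_3) (Nat.ble 3 c)
noncomputable def col3_s_0_4 (c : Nat) : Nat := @Bool.rec (fun _ => Nat) (col3_s_0_2 c) (col3_s_2_4 c) (Nat.ble 2 c)
noncomputable def col3_s_4_6 (c : Nat) : Nat := @Bool.rec (fun _ => Nat) (col3_4) (col3_5) (Nat.ble 5 c)
noncomputable def col3_s_7_9 (c : Nat) : Nat := @Bool.rec (fun _ => Nat) (col3_7) (col3_8) (Nat.ble 8 c)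
noncomputable def col3_s_6_9 (c : Nat) : Nat := @Bool.rec (fun _ => Nat) (col3_6) (col3_s_7_9 c) (Nat.ble 7 c)
noncomputable def col3_s_4_9 (c : Nat) : Nat := @Bool.rec (fun _ => Nat) (col3_s_4_6 c) (col3_s_6_9 c) (Nat.ble 6 c)
noncomputable def col3_s_0_9 (c : Nat) : Nat := @Bool.rec (fun _ => Nat) (col3_s_0_4 c) (col3_s_4_9 c) (Nat.ble 4 c)
noncomputable def col3_s_9_11 (c : Nat) : Nat := @Bool.rec (fun _ => Nat) (col3_9) (col3_10) (Nat.ble 10 c)
noncomputable def col3_s_11_13 (c : Nat) : Nat := @Bool.rec (fun _ => Nat) (col3_11) (col3_12) (Nat.ble 12 c)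
noncomputable def col3_s_9_13 (c : Nat) : Nat := @Bool.rec (fun _ => Nat) (col3_s_9_11 c) (col3_s_11_13 c) (Nat.ble 11 c)
noncomputable def col3_s_13_15 (c : Nat) : Nat := @Bool.rec (fun _ => Nat) (col3_13) (col3_14) (Nat.ble 14 c)
noncomputable def col3_s_16_18 (c : Nat) : Nat := @Bool.rec (fun _ => Nat) (col3_16) (col3_17) (Nat.ble 17 c)
noncomputable def col3_s_15_18 (c : Nat) : Nat := @Bool.rec (fun _ => Nat) (col3_15) (col3_s_16_18 c) (Nat.ble 16 c)
noncomputable def col3_s_13_18 (c : Nat) : Nat := @Bool.rec (fun _ => Nat) (col3_s_13_15 c) (col3_s_15_18 c) (Nat.ble 15 c)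
noncomputable def col3_s_9_18 (c : Nat) : Nat := @Bool.rec (fun _ => Nat) (col3_s_9_13 c) (col3_s_13_18 c) (Nat.ble 13 c)
noncomputable def col3_s_0_18 (c : Nat) : Nat := @Bool.rec (fun _ => Nat) (col3_s_0_9 c) (col3_s_9_18 c) (Nat.ble 9 c)
noncomputable def col3_s_18_20 (c : Nat) : Nat := @Bool.rec (fun _ => Nat) (col3_18) (col3_19) (Nat.ble 19 c)
noncomputable def col3_s_20_22 (c : Nat) : Nat := @Bool.rec (fun _ => Nat) (col3_20) (col3_21) (Nat.ble 21 c)
noncomputable def col3_s_18_22 (c : Nat) : Nat := @Bool.rec (fun _ => Nat) (col3_s_18_20 c) (col3_s_20_22 c) (Nat.ble 20 c)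
noncomputable def col3_s_22_24 (c : Nat) : Nat := @Bool.rec (fun _ => Nat) (col3_22) (col3_23) (Nat.ble 23 c)
noncomputable def col3_s_25_27 (c : Nat) : Nat := @Bool.rec (fun _ => Nat) (col3_25) (col3_26) (Nat.ble 26 c)
noncomputable def col3_s_24_27 (c : Nat) : Nat := @Bool.rec (fun _ => Nat) (col3_24) (col3_s_25_27 c) (Nat.ble 25 c)
noncomputable def col3_s_22_27 (c : Nat) : Nat := @Bool.rec (fun _ => Nat) (col3_s_22_24 c) (col3_s_24_27 c) (Nat.ble 24 c)
noncomputable def col3_s_18_27 (c : Nat) : Nat := @Bool.rec (fun _ => Nat) (col3_s_18_22 c) (col3_s_22_27 c) (Nat.ble 22 c)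
noncomputable def col3_s_27_29 (c : Nat) : Nat := @Bool.rec (fun _ => Nat) (col3_27) (col3_28) (Nat.ble 28 c)
noncomputable def col3_s_30_32 (c : Nat) : Nat := @Bool.rec (fun _ => Nat) (col3_30) (col3_31) (Nat.ble 31 c)
noncomputable def col3_s_29_32 (c : Nat) : Nat := @Bool.rec (fun _ => Nat) (col3_29) (col3_s_30_32 c) (Nat.ble 30 c)
noncomputable def col3_s_27_32 (c : Nat) : Nat := @Bool.rec (fun _ => Nat) (col3_s_27_29 c) (col3_s_29_32 c) (Nat.ble 29 c)
noncomputable def col3_s_32_34 (c : Nat) : Nat := @Bool.rec (fun _ => Nat) (col3_32) (col3_33) (Nat.ble 33 c)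
noncomputable def col3_s_35_37 (c : Nat) : Nat := @Bool.rec (fun _ => Nat) (col3_35) (col3_36) (Nat.ble 36 c)
noncomputable def col3_s_34_37 (c : Nat) : Nat := @Bool.rec (fun _ => Nat) (col3_34) (col3_s_35_37 c) (Nat.ble 35 c)
noncomputable def col3_s_32_37 (c : Nat) : Nat := @Bool.rec (fun _ => Nat) (col3_s_32_34 c) (col3_s_34_37 c) (Nat.ble 34 c)
noncomputable def col3_s_27_37 (c : Nat) : Nat := @Bool.rec (fun _ => Nat) (col3_s_27_32 c) (col3_s_32_37 c) (Nat.ble 32 c)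
noncomputable def col3_s_18_37 (c : Nat) : Nat := @Bool.rec (fun _ => Nat) (col3_s_18_27 c) (col3_s_27_37 c) (Nat.ble 27 c)
noncomputable def col3_s_0_37 (c : Nat) : Nat := @Bool.rec (fun _ => Nat) (col3_s_0_18 c) (col3_s_18_37 c) (Nat.ble 18 c)
noncomputable def col3_s_37_39 (c : Nat) : Nat := @Bool.rec (fun _ => Nat) (col3_37) (col3_38) (Nat.ble 38 c)
noncomputable def col3_s_39_41 (c : Nat) : Nat := @Bool.rec (fun _ => Nat) (col3_39) (col3_40) (Nat.ble 40 c)
noncomputable def col3_s_37_41 (c : Nat) : Nat := @Bool.rec (fun _ => Nat) (col3_s_37_39 c) (col3_s_39_41 c) (Nat.ble 39 c)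
noncomputable def col3_s_41_43 (c : Nat) : Nat := @Bool.rec (fun _ => Nat) (col3_41) (col3_42) (Nat.ble 42 c)
noncomputable def col3_s_44_46 (c : Nat) : Nat := @Bool.rec (fun _ => Nat) (col3_44) (col3_45) (Nat.ble 45 c)
noncomputable def col3_s_43_46 (c : Nat) : Nat := @Bool.rec (fun _ => Nat) (col3_43) (col3_s_44_46 c) (Nat.ble 44 c)
noncomputable def col3_s_41_46 (c : Nat) : Nat := @Bool.rec (fun _ => Nat) (col3_s_41_43 c) (col3_s_43_46 c) (Nat.ble 43 c)
noncomputable def col3_s_37_46 (c : Nat) : Nat := @Bool.rec (fun _ => Nat) (col3_s_37_41 c) (col3_s_41_46 c) (Nat.ble 41 c)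
noncomputable def col3_s_46_48 (c : Nat) : Nat := @Bool.rec (fun _ => Nat) (col3_46) (col3_47) (Nat.ble 47 c)
noncomputable def col3_s_49_51 (c : Nat) : Nat := @Bool.rec (fun _ => Nat) (col3_49) (col3_50) (Nat.ble 50 c)
noncomputable def col3_s_48_51 (c : Nat) : Nat := @Bool.rec (fun _ => Nat) (col3_48) (col3_s_49_51 c) (Nat.ble 49 c)
noncomputable def col3_s_46_51 (c : Nat) : Nat := @Bool.rec (fun _ => Nat) (col3_s_46_48 c) (col3_s_48_51 c) (Nat.ble 48 c)
noncomputable def col3_s_51_53 (c : Nat) : Nat := @Bool.rec (fun _ => Nat) (col3_51) (col3_52) (Nat.ble 52 c)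
noncomputable def col3_s_54_56 (c : Nat) : Nat := @Bool.rec (fun _ => Nat) (col3_54) (col3_55) (Nat.ble 55 c)
noncomputable def col3_s_53_56 (c : Nat) : Nat := @Bool.rec (fun _ => Nat) (col3_53) (col3_s_54_56 c) (Nat.ble 54 c)
noncomputable def col3_s_51_56 (c : Nat) : Nat := @Bool.rec (fun _ => Nat) (col3_s_51_53 c) (col3_s_53_56 c) (Nat.ble 53 c)
noncomputable def col3_s_46_56 (c : Nat) : Nat := @Bool.rec (fun _ => Nat) (col3_s_46_51 c) (col3_s_51_56 c) (Nat.ble 51 c)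
noncomputable def col3_s_37_56 (c : Nat) : Nat := @Bool.rec (fun _ => Nat) (col3_s_37_46 c) (col3_s_46_56 c) (Nat.ble 46 c)
noncomputable def col3_s_56_58 (c : Nat) : Nat := @Bool.rec (fun _ => Nat) (col3_56) (col3_57) (Nat.ble 57 c)
noncomputable def col3_s_58_60 (c : Nat) : Nat := @Bool.rec (fun _ => Nat) (col3_58) (col3_59) (Nat.ble 59 c)
noncomputable def col3_s_56_60 (c : Nat) : Nat := @Bool.rec (fun _ => Nat) (col3_s_56_58 c) (col3_s_58_60 c) (Nat.ble 58 c)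
noncomputable def col3_s_60_62 (c : Nat) : Nat := @Bool.rec (fun _ => Nat) (col3_60) (col3_61) (Nat.ble 61 c)
noncomputable def col3_s_63_65 (c : Nat) : Nat := @Bool.rec (fun _ => Nat) (col3_63) (col3_64) (Nat.ble 64 c)
noncomputable def col3_s_62_65 (c : Nat) : Nat := @Bool.rec (fun _ => Nat) (col3_62) (col3_s_63_65 c) (Nat.ble 63 c)
noncomputable def col3_s_60_65 (c : Nat) : Nat := @Bool.rec (fun _ => Nat) (col3_s_60_62 c) (col3_s_62_65 c) (Nat.ble 62 c)
noncomputable def col3_s_56_65 (c : Nat) : Nat := @Bool.rec (fun _ => Nat) (col3_s_56_60 c) (col3_s_60_65 c) (Nat.ble 60 c)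
noncomputable def col3_s_65_67 (c : Nat) : Nat := @Bool.rec (fun _ => Nat) (col3_65) (col3_66) (Nat.ble 66 c)
noncomputable def col3_s_68_70 (c : Nat) : Nat := @Bool.rec (fun _ => Nat) (col3_68) (col3_69) (Nat.ble 69 c)
noncomputable def col3_s_67_70 (c : Nat) : Nat := @Bool.rec (fun _ => Nat) (col3_67) (col3_s_68_70 c) (Nat.ble 68 c)
noncomputable def col3_s_65_70 (c : Nat) : Nat := @Bool.rec (fun _ => Nat) (col3_s_65_67 c) (col3_s_67_70 c) (Nat.ble 67 c)
noncomputable def col3_s_70_72 (c : Nat) : Nat := @Bool.rec (fun _ => Nat) (col3_70) (col3_71) (Nat.ble 71 c)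
noncomputable def col3_s_73_75 (c : Nat) : Nat := @Bool.rec (fun _ => Nat) (col3_73) (col3_74) (Nat.ble 74 c)
noncomputable def col3_s_72_75 (c : Nat) : Nat := @Bool.rec (fun _ => Nat) (col3_72) (col3_s_73_75 c) (Nat.ble 73 c)
noncomputable def col3_s_70_75 (c : Nat) : Nat := @Bool.rec (fun _ => Nat) (col3_s_70_72 c) (col3_s_72_75 c) (Nat.ble 72 c)
noncomputable def col3_s_65_75 (c : Nat) : Nat := @Bool.rec (fun _ => Nat) (col3_s_65_70 c) (col3_s_70_75 c) (Nat.ble 70 c)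
noncomputable def col3_s_56_75 (c : Nat) : Nat := @Bool.rec (fun _ => Nat) (col3_s_56_65 c) (col3_s_65_75 c) (Nat.ble 65 c)
noncomputable def col3_s_37_75 (c : Nat) : Nat := @Bool.rec (fun _ => Nat) (col3_s_37_56 c) (col3_s_56_75 c) (Nat.ble 56 c)
noncomputable def col3_s_0_75 (c : Nat) : Nat := @Bool.rec (fun _ => Nat) (col3_s_0_37 c) (col3_s_37_75 c) (Nat.ble 37 c)
noncomputable def col3 (i : Nat) : Nat := rdw 19 524287 (col3_s_0_75 (Nat.shiftRight i 12)) (Nat.land i 4095)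
noncomputable def col4_s_0_2 (c : Nat) : Nat := @Bool.rec (fun _ => Nat) (col4_0) (col4_1) (Nat.ble 1 c)
noncomputable def col4_s_2_4 (c : Nat) : Nat := @Bool.rec (fun _ => Nat) (col4_2) (col4_3) (Nat.ble 3 c)
noncomputable def col4_s_0_4 (c : Nat) : Nat := @Bool.rec (fun _ => Nat) (col4_s_0_2 c) (col4_s_2_4 c) (Nat.ble 2 c)
noncomputable def col4_s_4_6 (c : Nat) : Nat := @Bool.rec (fun _ => Nat) (col4_4) (col4_5) (Nat.ble 5 c)
noncomputable def col4_s_7_9 (c : Nat) : Nat := @Bool.rec (fun _ => Nat) (col4_7) (col4_8) (Nat.ble 8 c)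
noncomputable def col4_s_6_9 (c : Nat) : Nat := @Bool.rec (fun _ => Nat) (col4_6) (col4_s_7_9 c) (Nat.ble 7 c)
noncomputable def col4_s_4_9 (c : Nat) : Nat := @Bool.rec (fun _ => Nat) (col4_s_4_6 c) (col4_s_6_9 c) (Nat.ble 6 c)
noncomputable def col4_s_0_9 (c : Nat) : Nat := @Bool.rec (fun _ => Nat) (col4_s_0_4 c) (col4_s_4_9 c) (Nat.ble 4 c)
noncomputable def col4_s_9_11 (c : Nat) : Nat := @Bool.rec (fun _ => Nat) (col4_9) (col4_10) (Nat.ble 10 c)
noncomputable def col4_s_11_13 (c : Nat) : Nat := @Bool.rec (fun _ => Nat) (col4_11) (col4_12) (Nat.ble 12 c)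
noncomputable def col4_s_9_13 (c : Nat) : Nat := @Bool.rec (fun _ => Nat) (col4_s_9_11 c) (col4_s_11_13 c) (Nat.ble 11 c)
noncomputable def col4_s_13_15 (c : Nat) : Nat := @Bool.rec (fun _ => Nat) (col4_13) (col4_14) (Nat.ble 14 c)
noncomputable def col4_s_16_18 (c : Nat) : Nat := @Bool.rec (fun _ => Nat) (col4_16) (col4_17) (Nat.ble 17 c)
noncomputable def col4_s_15_18 (c : Nat) : Nat := @Bool.rec (fun _ => Nat) (col4_15) (col4_s_16_18 c) (Nat.ble 16 c)
noncomputable def col4_s_13_18 (c : Nat) : Nat := @Bool.rec (fun _ => Nat) (col4_s_13_15 c) (col4_s_15_18 c) (Nat.ble 15 c)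
noncomputable def col4_s_9_18 (c : Nat) : Nat := @Bool.rec (fun _ => Nat) (col4_s_9_13 c) (col4_s_13_18 c) (Nat.ble 13 c)
noncomputable def col4_s_0_18 (c : Nat) : Nat := @Bool.rec (fun _ => Nat) (col4_s_0_9 c) (col4_s_9_18 c) (Nat.ble 9 c)
noncomputable def col4_s_18_20 (c : Nat) : Nat := @Bool.rec (fun _ => Nat) (col4_18) (col4_19) (Nat.ble 19 c)
noncomputable def col4_s_20_22 (c : Nat) : Nat := @Bool.rec (fun _ => Nat) (col4_20) (col4_21) (Nat.ble 21 c)
noncomputable def col4_s_18_22 (c : Nat) : Nat := @Bool.rec (fun _ => Nat) (col4_s_18_20 c) (col4_s_20_22 c) (Nat.ble 20 c)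
noncomputable def col4_s_22_24 (c : Nat) : Nat := @Bool.rec (fun _ => Nat) (col4_22) (col4_23) (Nat.ble 23 c)
noncomputable def col4_s_25_27 (c : Nat) : Nat := @Bool.rec (fun _ => Nat) (col4_25) (col4_26) (Nat.ble 26 c)
noncomputable def col4_s_24_27 (c : Nat) : Nat := @Bool.rec (fun _ => Nat) (col4_24) (col4_s_25_27 c) (Nat.ble 25 c)
noncomputable def col4_s_22_27 (c : Nat) : Nat := @Bool.rec (fun _ => Nat) (col4_s_22_24 c) (col4_s_24_27 c) (Nat.ble 24 c)
noncomputable def col4_s_18_27 (c : Nat) : Nat := @Bool.rec (fun _ => Nat) (col4_s_18_22 c) (col4_s_22_27 c) (Nat.ble 22 c)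
noncomputable def col4_s_27_29 (c : Nat) : Nat := @Bool.rec (fun _ => Nat) (col4_27) (col4_28) (Nat.ble 28 c)
noncomputable def col4_s_30_32 (c : Nat) : Nat := @Bool.rec (fun _ => Nat) (col4_30) (col4_31) (Nat.ble 31 c)
noncomputable def col4_s_29_32 (c : Nat) : Nat := @Bool.rec (fun _ => Nat) (col4_29) (col4_s_30_32 c) (Nat.ble 30 c)
noncomputable def col4_s_27_32 (c : Nat) : Nat := @Bool.rec (fun _ => Nat) (col4_s_27_29 c) (col4_s_29_32 c) (Nat.ble 29 c)
noncomputable def col4_s_32_34 (c : Nat) : Nat := @Bool.rec (fun _ => Nat) (col4_32) (col4_33) (Nat.ble 33 c)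
noncomputable def col4_s_35_37 (c : Nat) : Nat := @Bool.rec (fun _ => Nat) (col4_35) (col4_36) (Nat.ble 36 c)
noncomputable def col4_s_34_37 (c : Nat) : Nat := @Bool.rec (fun _ => Nat) (col4_34) (col4_s_35_37 c) (Nat.ble 35 c)
noncomputable def col4_s_32_37 (c : Nat) : Nat := @Bool.rec (fun _ => Nat) (col4_s_32_34 c) (col4_s_34_37 c) (Nat.ble 34 c)
noncomputable def col4_s_27_37 (c : Nat) : Nat := @Bool.rec (fun _ => Nat) (col4_s_27_32 c) (col4_s_32_37 c) (Nat.ble 32 c)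
noncomputable def col4_s_18_37 (c : Nat) : Nat := @Bool.rec (fun _ => Nat) (col4_s_18_27 c) (col4_s_27_37 c) (Nat.ble 27 c)
noncomputable def col4_s_0_37 (c : Nat) : Nat := @Bool.rec (fun _ => Nat) (col4_s_0_18 c) (col4_s_18_37 c) (Nat.ble 18 c)
noncomputable def col4_s_37_39 (c : Nat) : Nat := @Bool.rec (fun _ => Nat) (col4_37) (col4_38) (Nat.ble 38 c)
noncomputable def col4_s_39_41 (c : Nat) : Nat := @Bool.rec (fun _ => Nat) (col4_39) (col4_40) (Nat.ble 40 c)
noncomputable def col4_s_37_41 (c : Nat) : Nat := @Bool.rec (fun _ => Nat) (col4_s_37_39 c) (col4_s_39_41 c) (Nat.ble 39 c)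
noncomputable def col4_s_41_43 (c : Nat) : Nat := @Bool.rec (fun _ => Nat) (col4_41) (col4_42) (Nat.ble 42 c)
noncomputable def col4_s_44_46 (c : Nat) : Nat := @Bool.rec (fun _ => Nat) (col4_44) (col4_45) (Nat.ble 45 c)
noncomputable def col4_s_43_46 (c : Nat) : Nat := @Bool.rec (fun _ => Nat) (col4_43) (col4_s_44_46 c) (Nat.ble 44 c)
noncomputable def col4_s_41_46 (c : Nat) : Nat := @Bool.rec (fun _ => Nat) (col4_s_41_43 c) (col4_s_43_46 c) (Nat.ble 43 c)
noncomputable def col4_s_37_46 (c : Nat) : Nat := @Bool.rec (fun _ => Nat) (col4_s_37_41 c) (col4_s_41_46 c) (Nat.ble 41 c)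
noncomputable def col4_s_46_48 (c : Nat) : Nat := @Bool.rec (fun _ => Nat) (col4_46) (col4_47) (Nat.ble 47 c)
noncomputable def col4_s_49_51 (c : Nat) : Nat := @Bool.rec (fun _ => Nat) (col4_49) (col4_50) (Nat.ble 50 c)
noncomputable def col4_s_48_51 (c : Nat) : Nat := @Bool.rec (fun _ => Nat) (col4_48) (col4_s_49_51 c) (Nat.ble 49 c)
noncomputable def col4_s_46_51 (c : Nat) : Nat := @Bool.rec (fun _ => Nat) (col4_s_46_48 c) (col4_s_48_51 c) (Nat.ble 48 c)
noncomputable def col4_s_51_53 (c : Nat) : Nat := @Bool.rec (fun _ => Nat) (col4_51) (col4_52) (Nat.ble 52 c)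
noncomputable def col4_s_54_56 (c : Nat) : Nat := @Bool.rec (fun _ => Nat) (col4_54) (col4_55) (Nat.ble 55 c)
noncomputable def col4_s_53_56 (c : Nat) : Nat := @Bool.rec (fun _ => Nat) (col4_53) (col4_s_54_56 c) (Nat.ble 54 c)
noncomputable def col4_s_51_56 (c : Nat) : Nat := @Bool.rec (fun _ => Nat) (col4_s_51_53 c) (col4_s_53_56 c) (Nat.ble 53 c)
noncomputable def col4_s_46_56 (c : Nat) : Nat := @Bool.rec (fun _ => Nat) (col4_s_46_51 c) (col4_s_51_56 c) (Nat.ble 51 c)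
noncomputable def col4_s_37_56 (c : Nat) : Nat := @Bool.rec (fun _ => Nat) (col4_s_37_46 c) (col4_s_46_56 c) (Nat.ble 46 c)
noncomputable def col4_s_56_58 (c : Nat) : Nat := @Bool.rec (fun _ => Nat) (col4_56) (col4_57) (Nat.ble 57 c)
noncomputable def col4_s_58_60 (c : Nat) : Nat := @Bool.rec (fun _ => Nat) (col4_58) (col4_59) (Nat.ble 59 c)
noncomputable def col4_s_56_60 (c : Nat) : Nat := @Bool.rec (fun _ => Nat) (col4_s_56_58 c) (col4_s_58_60 c) (Nat.ble 58 c)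
noncomputable def col4_s_60_62 (c : Nat) : Nat := @Bool.rec (fun _ => Nat) (col4_60) (col4_61) (Nat.ble 61 c)
noncomputable def col4_s_63_65 (c : Nat) : Nat := @Bool.rec (fun _ => Nat) (col4_63) (col4_64) (Nat.ble 64 c)
noncomputable def col4_s_62_65 (c : Nat) : Nat := @Bool.rec (fun _ => Nat) (col4_62) (col4_s_63_65 c) (Nat.ble 63 c)
noncomputable def col4_s_60_65 (c : Nat) : Nat := @Bool.rec (fun _ => Nat) (col4_s_60_62 c) (col4_s_62_65 c) (Nat.ble 62 c)
noncomputable def col4_s_56_65 (c : Nat) : Nat := @Bool.rec (fun _ => Nat) (col4_s_56_60 c) (col4_s_60_65 c) (Nat.ble 60 c)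
noncomputable def col4_s_65_67 (c : Nat) : Nat := @Bool.rec (fun _ => Nat) (col4_65) (col4_66) (Nat.ble 66 c)
noncomputable def col4_s_68_70 (c : Nat) : Nat := @Bool.rec (fun _ => Nat) (col4_68) (col4_69) (Nat.ble 69 c)
noncomputable def col4_s_67_70 (c : Nat) : Nat := @Bool.rec (fun _ => Nat) (col4_67) (col4_s_68_70 c) (Nat.ble 68 c)
noncomputable def col4_s_65_70 (c : Nat) : Nat := @Bool.rec (fun _ => Nat) (col4_s_65_67 c) (col4_s_67_70 c) (Nat.ble 67 c)
noncomputable def col4_s_70_72 (c : Nat) : Nat := @Bool.rec (fun _ => Nat) (col4_70) (col4_71) (Nat.ble 71 c)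
noncomputable def col4_s_73_75 (c : Nat) : Nat := @Bool.rec (fun _ => Nat) (col4_73) (col4_74) (Nat.ble 74 c)
noncomputable def col4_s_72_75 (c : Nat) : Nat := @Bool.rec (fun _ => Nat) (col4_72) (col4_s_73_75 c) (Nat.ble 73 c)
noncomputable def col4_s_70_75 (c : Nat) : Nat := @Bool.rec (fun _ => Nat) (col4_s_70_72 c) (col4_s_72_75 c) (Nat.ble 72 c)
noncomputable def col4_s_65_75 (c : Nat) : Nat := @Bool.rec (fun _ => Nat) (col4_s_65_70 c) (col4_s_70_75 c) (Nat.ble 70 c)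
noncomputable def col4_s_56_75 (c : Nat) : Nat := @Bool.rec (fun _ => Nat) (col4_s_56_65 c) (col4_s_65_75 c) (Nat.ble 65 c)
noncomputable def col4_s_37_75 (c : Nat) : Nat := @Bool.rec (fun _ => Nat) (col4_s_37_56 c) (col4_s_56_75 c) (Nat.ble 56 c)
noncomputable def col4_s_0_75 (c : Nat) : Nat := @Bool.rec (fun _ => Nat) (col4_s_0_37 c) (col4_s_37_75 c) (Nat.ble 37 c)
noncomputable def col4 (i : Nat) : Nat := rdw 19 524287 (col4_s_0_75 (Nat.shiftRight i 12)) (Nat.land i 4095)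
noncomputable def col5_s_0_2 (c : Nat) : Nat := @Bool.rec (fun _ => Nat) (col5_0) (col5_1) (Nat.ble 1 c)
noncomputable def col5_s_2_4 (c : Nat) : Nat := @Bool.rec (fun _ => Nat) (col5_2) (col5_3) (Nat.ble 3 c)
noncomputable def col5_s_0_4 (c : Nat) : Nat := @Bool.rec (fun _ => Nat) (col5_s_0_2 c) (col5_s_2_4 c) (Nat.ble 2 c)
noncomputable def col5_s_4_6 (c : Nat) : Nat := @Bool.rec (fun _ => Nat) (col5_4) (col5_5) (Nat.ble 5 c)
noncomputable def col5_s_7_9 (c : Nat) : Nat := @Bool.rec (fun _ => Nat) (col5_7) (col5_8) (Nat.ble 8 c)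
noncomputable def col5_s_6_9 (c : Nat) : Nat := @Bool.rec (fun _ => Nat) (col5_6) (col5_s_7_9 c) (Nat.ble 7 c)
noncomputable def col5_s_4_9 (c : Nat) : Nat := @Bool.rec (fun _ => Nat) (col5_s_4_6 c) (col5_s_6_9 c) (Nat.ble 6 c)
noncomputable def col5_s_0_9 (c : Nat) : Nat := @Bool.rec (fun _ => Nat) (col5_s_0_4 c) (col5_s_4_9 c) (Nat.ble 4 c)
noncomputable def col5_s_9_11 (c : Nat) : Nat := @Bool.rec (fun _ => Nat) (col5_9) (col5_10) (Nat.ble 10 c)
noncomputable def col5_s_11_13 (c : Nat) : Nat := @Bool.rec (fun _ => Nat) (col5_11) (col5_12) (Nat.ble 12 c)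
noncomputable def col5_s_9_13 (c : Nat) : Nat := @Bool.rec (fun _ => Nat) (col5_s_9_11 c) (col5_s_11_13 c) (Nat.ble 11 c)
noncomputable def col5_s_13_15 (c : Nat) : Nat := @Bool.rec (fun _ => Nat) (col5_13) (col5_14) (Nat.ble 14 c)
noncomputable def col5_s_16_18 (c : Nat) : Nat := @Bool.rec (fun _ => Nat) (col5_16) (col5_17) (Nat.ble 17 c)
noncomputable def col5_s_15_18 (c : Nat) : Nat := @Bool.rec (fun _ => Nat) (col5_15) (col5_s_16_18 c) (Nat.ble 16 c)
noncomputable def col5_s_13_18 (c : Nat) : Nat := @Bool.rec (fun _ => Nat) (col5_s_13_15 c) (col5_s_15_18 c) (Nat.ble 15 c)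
noncomputable def col5_s_9_18 (c : Nat) : Nat := @Bool.rec (fun _ => Nat) (col5_s_9_13 c) (col5_s_13_18 c) (Nat.ble 13 c)
noncomputable def col5_s_0_18 (c : Nat) : Nat := @Bool.rec (fun _ => Nat) (col5_s_0_9 c) (col5_s_9_18 c) (Nat.ble 9 c)
noncomputable def col5_s_18_20 (c : Nat) : Nat := @Bool.rec (fun _ => Nat) (col5_18) (col5_19) (Nat.ble 19 c)
noncomputable def col5_s_20_22 (c : Nat) : Nat := @Bool.rec (fun _ => Nat) (col5_20) (col5_21) (Nat.ble 21 c)
noncomputable def col5_s_18_22 (c : Nat) : Nat := @Bool.rec (fun _ => Nat) (col5_s_18_20 c) (col5_s_20_22 c) (Nat.ble 20 c)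
noncomputable def col5_s_22_24 (c : Nat) : Nat := @Bool.rec (fun _ => Nat) (col5_22) (col5_23) (Nat.ble 23 c)
noncomputable def col5_s_25_27 (c : Nat) : Nat := @Bool.rec (fun _ => Nat) (col5_25) (col5_26) (Nat.ble 26 c)
noncomputable def col5_s_24_27 (c : Nat) : Nat := @Bool.rec (fun _ => Nat) (col5_24) (col5_s_25_27 c) (Nat.ble 25 c)
noncomputable def col5_s_22_27 (c : Nat) : Nat := @Bool.rec (fun _ => Nat) (col5_s_22_24 c) (col5_s_24_27 c) (Nat.ble 24 c)
noncomputable def col5_s_18_27 (c : Nat) : Nat := @Bool.rec (fun _ => Nat) (col5_s_18_22 c) (col5_s_22_27 c) (Nat.ble 22 c)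
noncomputable def col5_s_27_29 (c : Nat) : Nat := @Bool.rec (fun _ => Nat) (col5_27) (col5_28) (Nat.ble 28 c)
noncomputable def col5_s_30_32 (c : Nat) : Nat := @Bool.rec (fun _ => Nat) (col5_30) (col5_31) (Nat.ble 31 c)
noncomputable def col5_s_29_32 (c : Nat) : Nat := @Bool.rec (fun _ => Nat) (col5_29) (col5_s_30_32 c) (Nat.ble 30 c)
noncomputable def col5_s_27_32 (c : Nat) : Nat := @Bool.rec (fun _ => Nat) (col5_s_27_29 c) (col5_s_29_32 c) (Nat.ble 29 c)
noncomputable def col5_s_32_34 (c : Nat) : Nat := @Bool.rec (fun _ => Nat) (col5_32) (col5_33) (Nat.ble 33 c)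
noncomputable def col5_s_35_37 (c : Nat) : Nat := @Bool.rec (fun _ => Nat) (col5_35) (col5_36) (Nat.ble 36 c)
noncomputable def col5_s_34_37 (c : Nat) : Nat := @Bool.rec (fun _ => Nat) (col5_34) (col5_s_35_37 c) (Nat.ble 35 c)
noncomputable def col5_s_32_37 (c : Nat) : Nat := @Bool.rec (fun _ => Nat) (col5_s_32_34 c) (col5_s_34_37 c) (Nat.ble 34 c)
noncomputable def col5_s_27_37 (c : Nat) : Nat := @Bool.rec (fun _ => Nat) (col5_s_27_32 c) (col5_s_32_37 c) (Nat.ble 32 c)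
noncomputable def col5_s_18_37 (c : Nat) : Nat := @Bool.rec (fun _ => Nat) (col5_s_18_27 c) (col5_s_27_37 c) (Nat.ble 27 c)
noncomputable def col5_s_0_37 (c : Nat) : Nat := @Bool.rec (fun _ => Nat) (col5_s_0_18 c) (col5_s_18_37 c) (Nat.ble 18 c)
noncomputable def col5_s_37_39 (c : Nat) : Nat := @Bool.rec (fun _ => Nat) (col5_37) (col5_38) (Nat.ble 38 c)
noncomputable def col5_s_39_41 (c : Nat) : Nat := @Bool.rec (fun _ => Nat) (col5_39) (col5_40) (Nat.ble 40 c)
noncomputable def col5_s_37_41 (c : Nat) : Nat := @Bool.rec (fun _ => Nat) (col5_s_37_39 c) (col5_s_39_41 c) (Nat.ble 39 c)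
noncomputable def col5_s_41_43 (c : Nat) : Nat := @Bool.rec (fun _ => Nat) (col5_41) (col5_42) (Nat.ble 42 c)
noncomputable def col5_s_44_46 (c : Nat) : Nat := @Bool.rec (fun _ => Nat) (col5_44) (col5_45) (Nat.ble 45 c)
noncomputable def col5_s_43_46 (c : Nat) : Nat := @Bool.rec (fun _ => Nat) (col5_43) (col5_s_44_46 c) (Nat.ble 44 c)
noncomputable def col5_s_41_46 (c : Nat) : Nat := @Bool.rec (fun _ => Nat) (col5_s_41_43 c) (col5_s_43_46 c) (Nat.ble 43 c)
noncomputable def col5_s_37_46 (c : Nat) : Nat := @Bool.rec (fun _ => Nat) (col5_s_37_41 c) (col5_s_41_46 c) (Nat.ble 41 c)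
noncomputable def col5_s_46_48 (c : Nat) : Nat := @Bool.rec (fun _ => Nat) (col5_46) (col5_47) (Nat.ble 47 c)
noncomputable def col5_s_49_51 (c : Nat) : Nat := @Bool.rec (fun _ => Nat) (col5_49) (col5_50) (Nat.ble 50 c)
noncomputable def col5_s_48_51 (c : Nat) : Nat := @Bool.rec (fun _ => Nat) (col5_48) (col5_s_49_51 c) (Nat.ble 49 c)
noncomputable def col5_s_46_51 (c : Nat) : Nat := @Bool.rec (fun _ => Nat) (col5_s_46_48 c) (col5_s_48_51 c) (Nat.ble 48 c)
noncomputable def col5_s_51_53 (c : Nat) : Nat := @Bool.rec (fun _ => Nat) (col5_51) (col5_52) (Nat.ble 52 c)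
noncomputable def col5_s_54_56 (c : Nat) : Nat := @Bool.rec (fun _ => Nat) (col5_54) (col5_55) (Nat.ble 55 c)
noncomputable def col5_s_53_56 (c : Nat) : Nat := @Bool.rec (fun _ => Nat) (col5_53) (col5_s_54_56 c) (Nat.ble 54 c)
noncomputable def col5_s_51_56 (c : Nat) : Nat := @Bool.rec (fun _ => Nat) (col5_s_51_53 c) (col5_s_53_56 c) (Nat.ble 53 c)
noncomputable def col5_s_46_56 (c : Nat) : Nat := @Bool.rec (fun _ => Nat) (col5_s_46_51 c) (col5_s_51_56 c) (Nat.ble 51 c)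
noncomputable def col5_s_37_56 (c : Nat) : Nat := @Bool.rec (fun _ => Nat) (col5_s_37_46 c) (col5_s_46_56 c) (Nat.ble 46 c)
noncomputable def col5_s_56_58 (c : Nat) : Nat := @Bool.rec (fun _ => Nat) (col5_56) (col5_57) (Nat.ble 57 c)
noncomputable def col5_s_58_60 (c : Nat) : Nat := @Bool.rec (fun _ => Nat) (col5_58) (col5_59) (Nat.ble 59 c)
noncomputable def col5_s_56_60 (c : Nat) : Nat := @Bool.rec (fun _ => Nat) (col5_s_56_58 c) (col5_s_58_60 c) (Nat.ble 58 c)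
noncomputable def col5_s_60_62 (c : Nat) : Nat := @Bool.rec (fun _ => Nat) (col5_60) (col5_61) (Nat.ble 61 c)
noncomputable def col5_s_63_65 (c : Nat) : Nat := @Bool.rec (fun _ => Nat) (col5_63) (col5_64) (Nat.ble 64 c)
noncomputable def col5_s_62_65 (c : Nat) : Nat := @Bool.rec (fun _ => Nat) (col5_62) (col5_s_63_65 c) (Nat.ble 63 c)
noncomputable def col5_s_60_65 (c : Nat) : Nat := @Bool.rec (fun _ => Nat) (col5_s_60_62 c) (col5_s_62_65 c) (Nat.ble 62 c)
noncomputable def col5_s_56_65 (c : Nat) : Nat := @Bool.rec (fun _ => Nat) (col5_s_56_60 c) (col5_s_60_65 c) (Nat.ble 60 c)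
noncomputable def col5_s_65_67 (c : Nat) : Nat := @Bool.rec (fun _ => Nat) (col5_65) (col5_66) (Nat.ble 66 c)
noncomputable def col5_s_68_70 (c : Nat) : Nat := @Bool.rec (fun _ => Nat) (col5_68) (col5_69) (Nat.ble 69 c)
noncomputable def col5_s_67_70 (c : Nat) : Nat := @Bool.rec (fun _ => Nat) (col5_67) (col5_s_68_70 c) (Nat.ble 68 c)
noncomputable def col5_s_65_70 (c : Nat) : Nat := @Bool.rec (fun _ => Nat) (col5_s_65_67 c) (col5_s_67_70 c) (Nat.ble 67 c)
noncomputable def col5_s_70_72 (c : Nat) : Nat := @Bool.rec (fun _ => Nat) (col5_70) (col5_71) (Nat.ble 71 c)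
noncomputable def col5_s_73_75 (c : Nat) : Nat := @Bool.rec (fun _ => Nat) (col5_73) (col5_74) (Nat.ble 74 c)
noncomputable def col5_s_72_75 (c : Nat) : Nat := @Bool.rec (fun _ => Nat) (col5_72) (col5_s_73_75 c) (Nat.ble 73 c)
noncomputable def col5_s_70_75 (c : Nat) : Nat := @Bool.rec (fun _ => Nat) (col5_s_70_72 c) (col5_s_72_75 c) (Nat.ble 72 c)
noncomputable def col5_s_65_75 (c : Nat) : Nat := @Bool.rec (fun _ => Nat) (col5_s_65_70 c) (col5_s_70_75 c) (Nat.ble 70 c)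
noncomputable def col5_s_56_75 (c : Nat) : Nat := @Bool.rec (fun _ => Nat) (col5_s_56_65 c) (col5_s_65_75 c) (Nat.ble 65 c)
noncomputable def col5_s_37_75 (c : Nat) : Nat := @Bool.rec (fun _ => Nat) (col5_s_37_56 c) (col5_s_56_75 c) (Nat.ble 56 c)
noncomputable def col5_s_0_75 (c : Nat) : Nat := @Bool.rec (fun _ => Nat) (col5_s_0_37 c) (col5_s_37_75 c) (Nat.ble 37 c)
noncomputable def col5 (i : Nat) : Nat := rdw 19 524287 (col5_s_0_75 (Nat.shiftRight i 12)) (Nat.land i 4095)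
noncomputable def col6_s_0_2 (c : Nat) : Nat := @Bool.rec (fun _ => Nat) (col6_0) (col6_1) (Nat.ble 1 c)
noncomputable def col6_s_2_4 (c : Nat) : Nat := @Bool.rec (fun _ => Nat) (col6_2) (col6_3) (Nat.ble 3 c)
noncomputable def col6_s_0_4 (c : Nat) : Nat := @Bool.rec (fun _ => Nat) (col6_s_0_2 c) (col6_s_2_4 c) (Nat.ble 2 c)
noncomputable def col6_s_4_6 (c : Nat) : Nat := @Bool.rec (fun _ => Nat) (col6_4) (col6_5) (Nat.ble 5 c)
noncomputable def col6_s_7_9 (c : Nat) : Nat := @Bool.rec (fun _ => Nat) (col6_7) (col6_8) (Nat.ble 8 c)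
noncomputable def col6_s_6_9 (c : Nat) : Nat := @Bool.rec (fun _ => Nat) (col6_6) (col6_s_7_9 c) (Nat.ble 7 c)
noncomputable def col6_s_4_9 (c : Nat) : Nat := @Bool.rec (fun _ => Nat) (col6_s_4_6 c) (col6_s_6_9 c) (Nat.ble 6 c)
noncomputable def col6_s_0_9 (c : Nat) : Nat := @Bool.rec (fun _ => Nat) (col6_s_0_4 c) (col6_s_4_9 c) (Nat.ble 4 c)
noncomputable def col6_s_9_11 (c : Nat) : Nat := @Bool.rec (fun _ => Nat) (col6_9) (col6_10) (Nat.ble 10 c)
noncomputable def col6_s_11_13 (c : Nat) : Nat := @Bool.rec (fun _ => Nat) (col6_11) (col6_12) (Nat.ble 12 c)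
noncomputable def col6_s_9_13 (c : Nat) : Nat := @Bool.rec (fun _ => Nat) (col6_s_9_11 c) (col6_s_11_13 c) (Nat.ble 11 c)
noncomputable def col6_s_13_15 (c : Nat) : Nat := @Bool.rec (fun _ => Nat) (col6_13) (col6_14) (Nat.ble 14 c)
noncomputable def col6_s_16_18 (c : Nat) : Nat := @Bool.rec (fun _ => Nat) (col6_16) (col6_17) (Nat.ble 17 c)
noncomputable def col6_s_15_18 (c : Nat) : Nat := @Bool.rec (fun _ => Nat) (col6_15) (col6_s_16_18 c) (Nat.ble 16 c)
noncomputable def col6_s_13_18 (c : Nat) : Nat := @Bool.rec (fun _ => Nat) (col6_s_13_15 c) (col6_s_15_18 c) (Nat.ble 15 c)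
noncomputable def col6_s_9_18 (c : Nat) : Nat := @Bool.rec (fun _ => Nat) (col6_s_9_13 c) (col6_s_13_18 c) (Nat.ble 13 c)
noncomputable def col6_s_0_18 (c : Nat) : Nat := @Bool.rec (fun _ => Nat) (col6_s_0_9 c) (col6_s_9_18 c) (Nat.ble 9 c)
noncomputable def col6_s_18_20 (c : Nat) : Nat := @Bool.rec (fun _ => Nat) (col6_18) (col6_19) (Nat.ble 19 c)
noncomputable def col6_s_20_22 (c : Nat) : Nat := @Bool.rec (fun _ => Nat) (col6_20) (col6_21) (Nat.ble 21 c)
noncomputable def col6_s_18_22 (c : Nat) : Nat := @Bool.rec (fun _ => Nat) (col6_s_18_20 c) (col6_s_20_22 c) (Nat.ble 20 c)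
noncomputable def col6_s_22_24 (c : Nat) : Nat := @Bool.rec (fun _ => Nat) (col6_22) (col6_23) (Nat.ble 23 c)
noncomputable def col6_s_25_27 (c : Nat) : Nat := @Bool.rec (fun _ => Nat) (col6_25) (col6_26) (Nat.ble 26 c)
noncomputable def col6_s_24_27 (c : Nat) : Nat := @Bool.rec (fun _ => Nat) (col6_24) (col6_s_25_27 c) (Nat.ble 25 c)
noncomputable def col6_s_22_27 (c : Nat) : Nat := @Bool.rec (fun _ => Nat) (col6_s_22_24 c) (col6_s_24_27 c) (Nat.ble 24 c)
noncomputable def col6_s_18_27 (c : Nat) : Nat := @Bool.rec (fun _ => Nat) (col6_s_18_22 c) (col6_s_22_27 c) (Nat.ble 22 c)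
noncomputable def col6_s_27_29 (c : Nat) : Nat := @Bool.rec (fun _ => Nat) (col6_27) (col6_28) (Nat.ble 28 c)
noncomputable def col6_s_30_32 (c : Nat) : Nat := @Bool.rec (fun _ => Nat) (col6_30) (col6_31) (Nat.ble 31 c)
noncomputable def col6_s_29_32 (c : Nat) : Nat := @Bool.rec (fun _ => Nat) (col6_29) (col6_s_30_32 c) (Nat.ble 30 c)
noncomputable def col6_s_27_32 (c : Nat) : Nat := @Bool.rec (fun _ => Nat) (col6_s_27_29 c) (col6_s_29_32 c) (Nat.ble 29 c)
noncomputable def col6_s_32_34 (c : Nat) : Nat := @Bool.rec (fun _ => Nat) (col6_32) (col6_33) (Nat.ble 33 c)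
noncomputable def col6_s_35_37 (c : Nat) : Nat := @Bool.rec (fun _ => Nat) (col6_35) (col6_36) (Nat.ble 36 c)
noncomputable def col6_s_34_37 (c : Nat) : Nat := @Bool.rec (fun _ => Nat) (col6_34) (col6_s_35_37 c) (Nat.ble 35 c)
noncomputable def col6_s_32_37 (c : Nat) : Nat := @Bool.rec (fun _ => Nat) (col6_s_32_34 c) (col6_s_34_37 c) (Nat.ble 34 c)
noncomputable def col6_s_27_37 (c : Nat) : Nat := @Bool.rec (fun _ => Nat) (col6_s_27_32 c) (col6_s_32_37 c) (Nat.ble 32 c)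
noncomputable def col6_s_18_37 (c : Nat) : Nat := @Bool.rec (fun _ => Nat) (col6_s_18_27 c) (col6_s_27_37 c) (Nat.ble 27 c)
noncomputable def col6_s_0_37 (c : Nat) : Nat := @Bool.rec (fun _ => Nat) (col6_s_0_18 c) (col6_s_18_37 c) (Nat.ble 18 c)
noncomputable def col6_s_37_39 (c : Nat) : Nat := @Bool.rec (fun _ => Nat) (col6_37) (col6_38) (Nat.ble 38 c)
noncomputable def col6_s_39_41 (c : Nat) : Nat := @Bool.rec (fun _ => Nat) (col6_39) (col6_40) (Nat.ble 40 c)
noncomputable def col6_s_37_41 (c : Nat) : Nat := @Bool.rec (fun _ => Nat) (col6_s_37_39 c) (col6_s_39_41 c) (Nat.ble 39 c)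
noncomputable def col6_s_41_43 (c : Nat) : Nat := @Bool.rec (fun _ => Nat) (col6_41) (col6_42) (Nat.ble 42 c)
noncomputable def col6_s_44_46 (c : Nat) : Nat := @Bool.rec (fun _ => Nat) (col6_44) (col6_45) (Nat.ble 45 c)
noncomputable def col6_s_43_46 (c : Nat) : Nat := @Bool.rec (fun _ => Nat) (col6_43) (col6_s_44_46 c) (Nat.ble 44 c)
noncomputable def col6_s_41_46 (c : Nat) : Nat := @Bool.rec (fun _ => Nat) (col6_s_41_43 c) (col6_s_43_46 c) (Nat.ble 43 c)
noncomputable def col6_s_37_46 (c : Nat) : Nat := @Bool.rec (fun _ => Nat) (col6_s_37_41 c) (col6_s_41_46 c) (Nat.ble 41 c)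
noncomputable def col6_s_46_48 (c : Nat) : Nat := @Bool.rec (fun _ => Nat) (col6_46) (col6_47) (Nat.ble 47 c)
noncomputable def col6_s_49_51 (c : Nat) : Nat := @Bool.rec (fun _ => Nat) (col6_49) (col6_50) (Nat.ble 50 c)
noncomputable def col6_s_48_51 (c : Nat) : Nat := @Bool.rec (fun _ => Nat) (col6_48) (col6_s_49_51 c) (Nat.ble 49 c)
noncomputable def col6_s_46_51 (c : Nat) : Nat := @Bool.rec (fun _ => Nat) (col6_s_46_48 c) (col6_s_48_51 c) (Nat.ble 48 c)
noncomputable def col6_s_51_53 (c : Nat) : Nat := @Bool.rec (fun _ => Nat) (col6_51) (col6_52) (Nat.ble 52 c)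
noncomputable def col6_s_54_56 (c : Nat) : Nat := @Bool.rec (fun _ => Nat) (col6_54) (col6_55) (Nat.ble 55 c)
noncomputable def col6_s_53_56 (c : Nat) : Nat := @Bool.rec (fun _ => Nat) (col6_53) (col6_s_54_56 c) (Nat.ble 54 c)
noncomputable def col6_s_51_56 (c : Nat) : Nat := @Bool.rec (fun _ => Nat) (col6_s_51_53 c) (col6_s_53_56 c) (Nat.ble 53 c)
noncomputable def col6_s_46_56 (c : Nat) : Nat := @Bool.rec (fun _ => Nat) (col6_s_46_51 c) (col6_s_51_56 c) (Nat.ble 51 c)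
noncomputable def col6_s_37_56 (c : Nat) : Nat := @Bool.rec (fun _ => Nat) (col6_s_37_46 c) (col6_s_46_56 c) (Nat.ble 46 c)
noncomputable def col6_s_56_58 (c : Nat) : Nat := @Bool.rec (fun _ => Nat) (col6_56) (col6_57) (Nat.ble 57 c)
noncomputable def col6_s_58_60 (c : Nat) : Nat := @Bool.rec (fun _ => Nat) (col6_58) (col6_59) (Nat.ble 59 c)
noncomputable def col6_s_56_60 (c : Nat) : Nat := @Bool.rec (fun _ => Nat) (col6_s_56_58 c) (col6_s_58_60 c) (Nat.ble 58 c)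
noncomputable def col6_s_60_62 (c : Nat) : Nat := @Bool.rec (fun _ => Nat) (col6_60) (col6_61) (Nat.ble 61 c)
noncomputable def col6_s_63_65 (c : Nat) : Nat := @Bool.rec (fun _ => Nat) (col6_63) (col6_64) (Nat.ble 64 c)
noncomputable def col6_s_62_65 (c : Nat) : Nat := @Bool.rec (fun _ => Nat) (col6_62) (col6_s_63_65 c) (Nat.ble 63 c)
noncomputable def col6_s_60_65 (c : Nat) : Nat := @Bool.rec (fun _ => Nat) (col6_s_60_62 c) (col6_s_62_65 c) (Nat.ble 62 c)
noncomputable def col6_s_56_65 (c : Nat) : Nat := @Bool.rec (fun _ => Nat) (col6_s_56_60 c) (col6_s_60_65 c) (Nat.ble 60 c)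
noncomputable def col6_s_65_67 (c : Nat) : Nat := @Bool.rec (fun _ => Nat) (col6_65) (col6_66) (Nat.ble 66 c)
noncomputable def col6_s_68_70 (c : Nat) : Nat := @Bool.rec (fun _ => Nat) (col6_68) (col6_69) (Nat.ble 69 c)
noncomputable def col6_s_67_70 (c : Nat) : Nat := @Bool.rec (fun _ => Nat) (col6_67) (col6_s_68_70 c) (Nat.ble 68 c)
noncomputable def col6_s_65_70 (c : Nat) : Nat := @Bool.rec (fun _ => Nat) (col6_s_65_67 c) (col6_s_67_70 c) (Nat.ble 67 c)
noncomputable def col6_s_70_72 (c : Nat) : Nat := @Bool.rec (fun _ => Nat) (col6_70) (col6_71) (Nat.ble 71 c)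
noncomputable def col6_s_73_75 (c : Nat) : Nat := @Bool.rec (fun _ => Nat) (col6_73) (col6_74) (Nat.ble 74 c)
noncomputable def col6_s_72_75 (c : Nat) : Nat := @Bool.rec (fun _ => Nat) (col6_72) (col6_s_73_75 c) (Nat.ble 73 c)
noncomputable def col6_s_70_75 (c : Nat) : Nat := @Bool.rec (fun _ => Nat) (col6_s_70_72 c) (col6_s_72_75 c) (Nat.ble 72 c)
noncomputable def col6_s_65_75 (c : Nat) : Nat := @Bool.rec (fun _ => Nat) (col6_s_65_70 c) (col6_s_70_75 c) (Nat.ble 70 c)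
noncomputable def col6_s_56_75 (c : Nat) : Nat := @Bool.rec (fun _ => Nat) (col6_s_56_65 c) (col6_s_65_75 c) (Nat.ble 65 c)
noncomputable def col6_s_37_75 (c : Nat) : Nat := @Bool.rec (fun _ => Nat) (col6_s_37_56 c) (col6_s_56_75 c) (Nat.ble 56 c)
noncomputable def col6_s_0_75 (c : Nat) : Nat := @Bool.rec (fun _ => Nat) (col6_s_0_37 c) (col6_s_37_75 c) (Nat.ble 37 c)
noncomputable def col6 (i : Nat) : Nat := rdw 19 524287 (col6_s_0_75 (Nat.shiftRight i 12)) (Nat.land i 4095)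
noncomputable def col7_s_0_2 (c : Nat) : Nat := @Bool.rec (fun _ => Nat) (col7_0) (col7_1) (Nat.ble 1 c)
noncomputable def col7_s_2_4 (c : Nat) : Nat := @Bool.rec (fun _ => Nat) (col7_2) (col7_3) (Nat.ble 3 c)
noncomputable def col7_s_0_4 (c : Nat) : Nat := @Bool.rec (fun _ => Nat) (col7_s_0_2 c) (col7_s_2_4 c) (Nat.ble 2 c)
noncomputable def col7_s_4_6 (c : Nat) : Nat := @Bool.rec (fun _ => Nat) (col7_4) (col7_5) (Nat.ble 5 c)
noncomputable def col7_s_7_9 (c : Nat) : Nat := @Bool.rec (fun _ => Nat) (col7_7) (col7_8) (Nat.ble 8 c)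
noncomputable def col7_s_6_9 (c : Nat) : Nat := @Bool.rec (fun _ => Nat) (col7_6) (col7_s_7_9 c) (Nat.ble 7 c)
noncomputable def col7_s_4_9 (c : Nat) : Nat := @Bool.rec (fun _ => Nat) (col7_s_4_6 c) (col7_s_6_9 c) (Nat.ble 6 c)
noncomputable def col7_s_0_9 (c : Nat) : Nat := @Bool.rec (fun _ => Nat) (col7_s_0_4 c) (col7_s_4_9 c) (Nat.ble 4 c)
noncomputable def col7_s_9_11 (c : Nat) : Nat := @Bool.rec (fun _ => Nat) (col7_9) (col7_10) (Nat.ble 10 c)
noncomputable def col7_s_11_13 (c : Nat) : Nat := @Bool.rec (fun _ => Nat) (col7_11) (col7_12) (Nat.ble 12 c)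
noncomputable def col7_s_9_13 (c : Nat) : Nat := @Bool.rec (fun _ => Nat) (col7_s_9_11 c) (col7_s_11_13 c) (Nat.ble 11 c)
noncomputable def col7_s_13_15 (c : Nat) : Nat := @Bool.rec (fun _ => Nat) (col7_13) (col7_14) (Nat.ble 14 c)
noncomputable def col7_s_16_18 (c : Nat) : Nat := @Bool.rec (fun _ => Nat) (col7_16) (col7_17) (Nat.ble 17 c)
noncomputable def col7_s_15_18 (c : Nat) : Nat := @Bool.rec (fun _ => Nat) (col7_15) (col7_s_16_18 c) (Nat.ble 16 c)
noncomputable def col7_s_13_18 (c : Nat) : Nat := @Bool.rec (fun _ => Nat) (col7_s_13_15 c) (col7_s_15_18 c) (Nat.ble 15 c)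
noncomputable def col7_s_9_18 (c : Nat) : Nat := @Bool.rec (fun _ => Nat) (col7_s_9_13 c) (col7_s_13_18 c) (Nat.ble 13 c)
noncomputable def col7_s_0_18 (c : Nat) : Nat := @Bool.rec (fun _ => Nat) (col7_s_0_9 c) (col7_s_9_18 c) (Nat.ble 9 c)
noncomputable def col7_s_18_20 (c : Nat) : Nat := @Bool.rec (fun _ => Nat) (col7_18) (col7_19) (Nat.ble 19 c)
noncomputable def col7_s_20_22 (c : Nat) : Nat := @Bool.rec (fun _ => Nat) (col7_20) (col7_21) (Nat.ble 21 c)
noncomputable def col7_s_18_22 (c : Nat) : Nat := @Bool.rec (fun _ => Nat) (col7_s_18_20 c) (col7_s_20_22 c) (Nat.ble 20 c)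
noncomputable def col7_s_22_24 (c : Nat) : Nat := @Bool.rec (fun _ => Nat) (col7_22) (col7_23) (Nat.ble 23 c)
noncomputable def col7_s_25_27 (c : Nat) : Nat := @Bool.rec (fun _ => Nat) (col7_25) (col7_26) (Nat.ble 26 c)
noncomputable def col7_s_24_27 (c : Nat) : Nat := @Bool.rec (fun _ => Nat) (col7_24) (col7_s_25_27 c) (Nat.ble 25 c)
noncomputable def col7_s_22_27 (c : Nat) : Nat := @Bool.rec (fun _ => Nat) (col7_s_22_24 c) (col7_s_24_27 c) (Nat.ble 24 c)
noncomputable def col7_s_18_27 (c : Nat) : Nat := @Bool.rec (fun _ => Nat) (col7_s_18_22 c) (col7_s_22_27 c) (Nat.ble 22 c)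
noncomputable def col7_s_27_29 (c : Nat) : Nat := @Bool.rec (fun _ => Nat) (col7_27) (col7_28) (Nat.ble 28 c)
noncomputable def col7_s_30_32 (c : Nat) : Nat := @Bool.rec (fun _ => Nat) (col7_30) (col7_31) (Nat.ble 31 c)
noncomputable def col7_s_29_32 (c : Nat) : Nat := @Bool.rec (fun _ => Nat) (col7_29) (col7_s_30_32 c) (Nat.ble 30 c)
noncomputable def col7_s_27_32 (c : Nat) : Nat := @Bool.rec (fun _ => Nat) (col7_s_27_29 c) (col7_s_29_32 c) (Nat.ble 29 c)
noncomputable def col7_s_32_34 (c : Nat) : Nat := @Bool.rec (fun _ => Nat) (col7_32) (col7_33) (Nat.ble 33 c)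
noncomputable def col7_s_35_37 (c : Nat) : Nat := @Bool.rec (fun _ => Nat) (col7_35) (col7_36) (Nat.ble 36 c)
noncomputable def col7_s_34_37 (c : Nat) : Nat := @Bool.rec (fun _ => Nat) (col7_34) (col7_s_35_37 c) (Nat.ble 35 c)
noncomputable def col7_s_32_37 (c : Nat) : Nat := @Bool.rec (fun _ => Nat) (col7_s_32_34 c) (col7_s_34_37 c) (Nat.ble 34 c)
noncomputable def col7_s_27_37 (c : Nat) : Nat := @Bool.rec (fun _ => Nat) (col7_s_27_32 c) (col7_s_32_37 c) (Nat.ble 32 c)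
noncomputable def col7_s_18_37 (c : Nat) : Nat := @Bool.rec (fun _ => Nat) (col7_s_18_27 c) (col7_s_27_37 c) (Nat.ble 27 c)
noncomputable def col7_s_0_37 (c : Nat) : Nat := @Bool.rec (fun _ => Nat) (col7_s_0_18 c) (col7_s_18_37 c) (Nat.ble 18 c)
noncomputable def col7_s_37_39 (c : Nat) : Nat := @Bool.rec (fun _ => Nat) (col7_37) (col7_38) (Nat.ble 38 c)
noncomputable def col7_s_39_41 (c : Nat) : Nat := @Bool.rec (fun _ => Nat) (col7_39) (col7_40) (Nat.ble 40 c)
noncomputable def col7_s_37_41 (c : Nat) : Nat := @Bool.rec (fun _ => Nat) (col7_s_37_39 c) (col7_s_39_41 c) (Nat.ble 39 c)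
noncomputable def col7_s_41_43 (c : Nat) : Nat := @Bool.rec (fun _ => Nat) (col7_41) (col7_42) (Nat.ble 42 c)
noncomputable def col7_s_44_46 (c : Nat) : Nat := @Bool.rec (fun _ => Nat) (col7_44) (col7_45) (Nat.ble 45 c)
noncomputable def col7_s_43_46 (c : Nat) : Nat := @Bool.rec (fun _ => Nat) (col7_43) (col7_s_44_46 c) (Nat.ble 44 c)
noncomputable def col7_s_41_46 (c : Nat) : Nat := @Bool.rec (fun _ => Nat) (col7_s_41_43 c) (col7_s_43_46 c) (Nat.ble 43 c)
noncomputable def col7_s_37_46 (c : Nat) : Nat := @Bool.rec (fun _ => Nat) (col7_s_37_41 c) (col7_s_41_46 c) (Nat.ble 41 c)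
noncomputable def col7_s_46_48 (c : Nat) : Nat := @Bool.rec (fun _ => Nat) (col7_46) (col7_47) (Nat.ble 47 c)
noncomputable def col7_s_49_51 (c : Nat) : Nat := @Bool.rec (fun _ => Nat) (col7_49) (col7_50) (Nat.ble 50 c)
noncomputable def col7_s_48_51 (c : Nat) : Nat := @Bool.rec (fun _ => Nat) (col7_48) (col7_s_49_51 c) (Nat.ble 49 c)
noncomputable def col7_s_46_51 (c : Nat) : Nat := @Bool.rec (fun _ => Nat) (col7_s_46_48 c) (col7_s_48_51 c) (Nat.ble 48 c)
noncomputable def col7_s_51_53 (c : Nat) : Nat := @Bool.rec (fun _ => Nat) (col7_51) (col7_52) (Nat.ble 52 c)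
noncomputable def col7_s_54_56 (c : Nat) : Nat := @Bool.rec (fun _ => Nat) (col7_54) (col7_55) (Nat.ble 55 c)
noncomputable def col7_s_53_56 (c : Nat) : Nat := @Bool.rec (fun _ => Nat) (col7_53) (col7_s_54_56 c) (Nat.ble 54 c)
noncomputable def col7_s_51_56 (c : Nat) : Nat := @Bool.rec (fun _ => Nat) (col7_s_51_53 c) (col7_s_53_56 c) (Nat.ble 53 c)
noncomputable def col7_s_46_56 (c : Nat) : Nat := @Bool.rec (fun _ => Nat) (col7_s_46_51 c) (col7_s_51_56 c) (Nat.ble 51 c)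
noncomputable def col7_s_37_56 (c : Nat) : Nat := @Bool.rec (fun _ => Nat) (col7_s_37_46 c) (col7_s_46_56 c) (Nat.ble 46 c)
noncomputable def col7_s_56_58 (c : Nat) : Nat := @Bool.rec (fun _ => Nat) (col7_56) (col7_57) (Nat.ble 57 c)
noncomputable def col7_s_58_60 (c : Nat) : Nat := @Bool.rec (fun _ => Nat) (col7_58) (col7_59) (Nat.ble 59 c)
noncomputable def col7_s_56_60 (c : Nat) : Nat := @Bool.rec (fun _ => Nat) (col7_s_56_58 c) (col7_s_58_60 c) (Nat.ble 58 c)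
noncomputable def col7_s_60_62 (c : Nat) : Nat := @Bool.rec (fun _ => Nat) (col7_60) (col7_61) (Nat.ble 61 c)
noncomputable def col7_s_63_65 (c : Nat) : Nat := @Bool.rec (fun _ => Nat) (col7_63) (col7_64) (Nat.ble 64 c)
noncomputable def col7_s_62_65 (c : Nat) : Nat := @Bool.rec (fun _ => Nat) (col7_62) (col7_s_63_65 c) (Nat.ble 63 c)
noncomputable def col7_s_60_65 (c : Nat) : Nat := @Bool.rec (fun _ => Nat) (col7_s_60_62 c) (col7_s_62_65 c) (Nat.ble 62 c)
noncomputable def col7_s_56_65 (c : Nat) : Nat := @Bool.rec (fun _ => Nat) (col7_s_56_60 c) (col7_s_60_65 c) (Nat.ble 60 c)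
noncomputable def col7_s_65_67 (c : Nat) : Nat := @Bool.rec (fun _ => Nat) (col7_65) (col7_66) (Nat.ble 66 c)
noncomputable def col7_s_68_70 (c : Nat) : Nat := @Bool.rec (fun _ => Nat) (col7_68) (col7_69) (Nat.ble 69 c)
noncomputable def col7_s_67_70 (c : Nat) : Nat := @Bool.rec (fun _ => Nat) (col7_67) (col7_s_68_70 c) (Nat.ble 68 c)
noncomputable def col7_s_65_70 (c : Nat) : Nat := @Bool.rec (fun _ => Nat) (col7_s_65_67 c) (col7_s_67_70 c) (Nat.ble 67 c)
noncomputable def col7_s_70_72 (c : Nat) : Nat := @Bool.rec (fun _ => Nat) (col7_70) (col7_71) (Nat.ble 71 c)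
noncomputable def col7_s_73_75 (c : Nat) : Nat := @Bool.rec (fun _ => Nat) (col7_73) (col7_74) (Nat.ble 74 c)
noncomputable def col7_s_72_75 (c : Nat) : Nat := @Bool.rec (fun _ => Nat) (col7_72) (col7_s_73_75 c) (Nat.ble 73 c)
noncomputable def col7_s_70_75 (c : Nat) : Nat := @Bool.rec (fun _ => Nat) (col7_s_70_72 c) (col7_s_72_75 c) (Nat.ble 72 c)
noncomputable def col7_s_65_75 (c : Nat) : Nat := @Bool.rec (fun _ => Nat) (col7_s_65_70 c) (col7_s_70_75 c) (Nat.ble 70 c)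
noncomputable def col7_s_56_75 (c : Nat) : Nat := @Bool.rec (fun _ => Nat) (col7_s_56_65 c) (col7_s_65_75 c) (Nat.ble 65 c)
noncomputable def col7_s_37_75 (c : Nat) : Nat := @Bool.rec (fun _ => Nat) (col7_s_37_56 c) (col7_s_56_75 c) (Nat.ble 56 c)
noncomputable def col7_s_0_75 (c : Nat) : Nat := @Bool.rec (fun _ => Nat) (col7_s_0_37 c) (col7_s_37_75 c) (Nat.ble 37 c)
noncomputable def col7 (i : Nat) : Nat := rdw 19 524287 (col7_s_0_75 (Nat.shiftRight i 12)) (Nat.land i 4095)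
noncomputable def col8_s_0_2 (c : Nat) : Nat := @Bool.rec (fun _ => Nat) (col8_0) (col8_1) (Nat.ble 1 c)
noncomputable def col8_s_2_4 (c : Nat) : Nat := @Bool.rec (fun _ => Nat) (col8_2) (col8_3) (Nat.ble 3 c)
noncomputable def col8_s_0_4 (c : Nat) : Nat := @Bool.rec (fun _ => Nat) (col8_s_0_2 c) (col8_s_2_4 c) (Nat.ble 2 c)
noncomputable def col8_s_4_6 (c : Nat) : Nat := @Bool.rec (fun _ => Nat) (col8_4) (col8_5) (Nat.ble 5 c)
noncomputable def col8_s_7_9 (c : Nat) : Nat := @Bool.rec (fun _ => Nat) (col8_7) (col8_8) (Nat.ble 8 c)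
noncomputable def col8_s_6_9 (c : Nat) : Nat := @Bool.rec (fun _ => Nat) (col8_6) (col8_s_7_9 c) (Nat.ble 7 c)
noncomputable def col8_s_4_9 (c : Nat) : Nat := @Bool.rec (fun _ => Nat) (col8_s_4_6 c) (col8_s_6_9 c) (Nat.ble 6 c)
noncomputable def col8_s_0_9 (c : Nat) : Nat := @Bool.rec (fun _ => Nat) (col8_s_0_4 c) (col8_s_4_9 c) (Nat.ble 4 c)
noncomputable def col8_s_9_11 (c : Nat) : Nat := @Bool.rec (fun _ => Nat) (col8_9) (col8_10) (Nat.ble 10 c)
noncomputable def col8_s_11_13 (c : Nat) : Nat := @Bool.rec (fun _ => Nat) (col8_11) (col8_12) (Nat.ble 12 c)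
noncomputable def col8_s_9_13 (c : Nat) : Nat := @Bool.rec (fun _ => Nat) (col8_s_9_11 c) (col8_s_11_13 c) (Nat.ble 11 c)
noncomputable def col8_s_13_15 (c : Nat) : Nat := @Bool.rec (fun _ => Nat) (col8_13) (col8_14) (Nat.ble 14 c)
noncomputable def col8_s_16_18 (c : Nat) : Nat := @Bool.rec (fun _ => Nat) (col8_16) (col8_17) (Nat.ble 17 c)
noncomputable def col8_s_15_18 (c : Nat) : Nat := @Bool.rec (fun _ => Nat) (col8_15) (col8_s_16_18 c) (Nat.ble 16 c)
noncomputable def col8_s_13_18 (c : Nat) : Nat := @Bool.rec (fun _ => Nat) (col8_s_13_15 c) (col8_s_15_18 c) (Nat.ble 15 c)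
noncomputable def col8_s_9_18 (c : Nat) : Nat := @Bool.rec (fun _ => Nat) (col8_s_9_13 c) (col8_s_13_18 c) (Nat.ble 13 c)
noncomputable def col8_s_0_18 (c : Nat) : Nat := @Bool.rec (fun _ => Nat) (col8_s_0_9 c) (col8_s_9_18 c) (Nat.ble 9 c)
noncomputable def col8_s_18_20 (c : Nat) : Nat := @Bool.rec (fun _ => Nat) (col8_18) (col8_19) (Nat.ble 19 c)
noncomputable def col8_s_20_22 (c : Nat) : Nat := @Bool.rec (fun _ => Nat) (col8_20) (col8_21) (Nat.ble 21 c)
noncomputable def col8_s_18_22 (c : Nat) : Nat := @Bool.rec (fun _ => Nat) (col8_s_18_20 c) (col8_s_20_22 c) (Nat.ble 20 c)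
noncomputable def col8_s_22_24 (c : Nat) : Nat := @Bool.rec (fun _ => Nat) (col8_22) (col8_23) (Nat.ble 23 c)
noncomputable def col8_s_25_27 (c : Nat) : Nat := @Bool.rec (fun _ => Nat) (col8_25) (col8_26) (Nat.ble 26 c)
noncomputable def col8_s_24_27 (c : Nat) : Nat := @Bool.rec (fun _ => Nat) (col8_24) (col8_s_25_27 c) (Nat.ble 25 c)
noncomputable def col8_s_22_27 (c : Nat) : Nat := @Bool.rec (fun _ => Nat) (col8_s_22_24 c) (col8_s_24_27 c) (Nat.ble 24 c)
noncomputable def col8_s_18_27 (c : Nat) : Nat := @Bool.rec (fun _ => Nat) (col8_s_18_22 c) (col8_s_22_27 c) (Nat.ble 22 c)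
noncomputable def col8_s_27_29 (c : Nat) : Nat := @Bool.rec (fun _ => Nat) (col8_27) (col8_28) (Nat.ble 28 c)
noncomputable def col8_s_30_32 (c : Nat) : Nat := @Bool.rec (fun _ => Nat) (col8_30) (col8_31) (Nat.ble 31 c)
noncomputable def col8_s_29_32 (c : Nat) : Nat := @Bool.rec (fun _ => Nat) (col8_29) (col8_s_30_32 c) (Nat.ble 30 c)
noncomputable def col8_s_27_32 (c : Nat) : Nat := @Bool.rec (fun _ => Nat) (col8_s_27_29 c) (col8_s_29_32 c) (Nat.ble 29 c)
noncomputable def col8_s_32_34 (c : Nat) : Nat := @Bool.rec (fun _ => Nat) (col8_32) (col8_33) (Nat.ble 33 c)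
noncomputable def col8_s_35_37 (c : Nat) : Nat := @Bool.rec (fun _ => Nat) (col8_35) (col8_36) (Nat.ble 36 c)
noncomputable def col8_s_34_37 (c : Nat) : Nat := @Bool.rec (fun _ => Nat) (col8_34) (col8_s_35_37 c) (Nat.ble 35 c)
noncomputable def col8_s_32_37 (c : Nat) : Nat := @Bool.rec (fun _ => Nat) (col8_s_32_34 c) (col8_s_34_37 c) (Nat.ble 34 c)
noncomputable def col8_s_27_37 (c : Nat) : Nat := @Bool.rec (fun _ => Nat) (col8_s_27_32 c) (col8_s_32_37 c) (Nat.ble 32 c)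
noncomputable def col8_s_18_37 (c : Nat) : Nat := @Bool.rec (fun _ => Nat) (col8_s_18_27 c) (col8_s_27_37 c) (Nat.ble 27 c)
noncomputable def col8_s_0_37 (c : Nat) : Nat := @Bool.rec (fun _ => Nat) (col8_s_0_18 c) (col8_s_18_37 c) (Nat.ble 18 c)
noncomputable def col8_s_37_39 (c : Nat) : Nat := @Bool.rec (fun _ => Nat) (col8_37) (col8_38) (Nat.ble 38 c)
noncomputable def col8_s_39_41 (c : Nat) : Nat := @Bool.rec (fun _ => Nat) (col8_39) (col8_40) (Nat.ble 40 c)
noncomputable def col8_s_37_41 (c : Nat) : Nat := @Bool.rec (fun _ => Nat) (col8_s_37_39 c) (col8_s_39_41 c) (Nat.ble 39 c)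
noncomputable def col8_s_41_43 (c : Nat) : Nat := @Bool.rec (fun _ => Nat) (col8_41) (col8_42) (Nat.ble 42 c)
noncomputable def col8_s_44_46 (c : Nat) : Nat := @Bool.rec (fun _ => Nat) (col8_44) (col8_45) (Nat.ble 45 c)
noncomputable def col8_s_43_46 (c : Nat) : Nat := @Bool.rec (fun _ => Nat) (col8_43) (col8_s_44_46 c) (Nat.ble 44 c)
noncomputable def col8_s_41_46 (c : Nat) : Nat := @Bool.rec (fun _ => Nat) (col8_s_41_43 c) (col8_s_43_46 c) (Nat.ble 43 c)
noncomputable def col8_s_37_46 (c : Nat) : Nat := @Bool.rec (fun _ => Nat) (col8_s_37_41 c) (col8_s_41_46 c) (Nat.ble 41 c)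
noncomputable def col8_s_46_48 (c : Nat) : Nat := @Bool.rec (fun _ => Nat) (col8_46) (col8_47) (Nat.ble 47 c)
noncomputable def col8_s_49_51 (c : Nat) : Nat := @Bool.rec (fun _ => Nat) (col8_49) (col8_50) (Nat.ble 50 c)
noncomputable def col8_s_48_51 (c : Nat) : Nat := @Bool.rec (fun _ => Nat) (col8_48) (col8_s_49_51 c) (Nat.ble 49 c)
noncomputable def col8_s_46_51 (c : Nat) : Nat := @Bool.rec (fun _ => Nat) (col8_s_46_48 c) (col8_s_48_51 c) (Nat.ble 48 c)
noncomputable def col8_s_51_53 (c : Nat) : Nat := @Bool.rec (fun _ => Nat) (col8_51) (col8_52) (Nat.ble 52 c)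
noncomputable def col8_s_54_56 (c : Nat) : Nat := @Bool.rec (fun _ => Nat) (col8_54) (col8_55) (Nat.ble 55 c)
noncomputable def col8_s_53_56 (c : Nat) : Nat := @Bool.rec (fun _ => Nat) (col8_53) (col8_s_54_56 c) (Nat.ble 54 c)
noncomputable def col8_s_51_56 (c : Nat) : Nat := @Bool.rec (fun _ => Nat) (col8_s_51_53 c) (col8_s_53_56 c) (Nat.ble 53 c)
noncomputable def col8_s_46_56 (c : Nat) : Nat := @Bool.rec (fun _ => Nat) (col8_s_46_51 c) (col8_s_51_56 c) (Nat.ble 51 c)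
noncomputable def col8_s_37_56 (c : Nat) : Nat := @Bool.rec (fun _ => Nat) (col8_s_37_46 c) (col8_s_46_56 c) (Nat.ble 46 c)
noncomputable def col8_s_56_58 (c : Nat) : Nat := @Bool.rec (fun _ => Nat) (col8_56) (col8_57) (Nat.ble 57 c)
noncomputable def col8_s_58_60 (c : Nat) : Nat := @Bool.rec (fun _ => Nat) (col8_58) (col8_59) (Nat.ble 59 c)
noncomputable def col8_s_56_60 (c : Nat) : Nat := @Bool.rec (fun _ => Nat) (col8_s_56_58 c) (col8_s_58_60 c) (Nat.ble 58 c)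
noncomputable def col8_s_60_62 (c : Nat) : Nat := @Bool.rec (fun _ => Nat) (col8_60) (col8_61) (Nat.ble 61 c)
noncomputable def col8_s_63_65 (c : Nat) : Nat := @Bool.rec (fun _ => Nat) (col8_63) (col8_64) (Nat.ble 64 c)
noncomputable def col8_s_62_65 (c : Nat) : Nat := @Bool.rec (fun _ => Nat) (col8_62) (col8_s_63_65 c) (Nat.ble 63 c)
noncomputable def col8_s_60_65 (c : Nat) : Nat := @Bool.rec (fun _ => Nat) (col8_s_60_62 c) (col8_s_62_65 c) (Nat.ble 62 c)
noncomputable def col8_s_56_65 (c : Nat) : Nat := @Bool.rec (fun _ => Nat) (col8_s_56_60 c) (col8_s_60_65 c) (Nat.ble 60 c)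
noncomputable def col8_s_65_67 (c : Nat) : Nat := @Bool.rec (fun _ => Nat) (col8_65) (col8_66) (Nat.ble 66 c)
noncomputable def col8_s_68_70 (c : Nat) : Nat := @Bool.rec (fun _ => Nat) (col8_68) (col8_69) (Nat.ble 69 c)
noncomputable def col8_s_67_70 (c : Nat) : Nat := @Bool.rec (fun _ => Nat) (col8_67) (col8_s_68_70 c) (Nat.ble 68 c)
noncomputable def col8_s_65_70 (c : Nat) : Nat := @Bool.rec (fun _ => Nat) (col8_s_65_67 c) (col8_s_67_70 c) (Nat.ble 67 c)
noncomputable def col8_s_70_72 (c : Nat) : Nat := @Bool.rec (fun _ => Nat) (col8_70) (col8_71) (Nat.ble 71 c)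
noncomputable def col8_s_73_75 (c : Nat) : Nat := @Bool.rec (fun _ => Nat) (col8_73) (col8_74) (Nat.ble 74 c)
noncomputable def col8_s_72_75 (c : Nat) : Nat := @Bool.rec (fun _ => Nat) (col8_72) (col8_s_73_75 c) (Nat.ble 73 c)
noncomputable def col8_s_70_75 (c : Nat) : Nat := @Bool.rec (fun _ => Nat) (col8_s_70_72 c) (col8_s_72_75 c) (Nat.ble 72 c)
noncomputable def col8_s_65_75 (c : Nat) : Nat := @Bool.rec (fun _ => Nat) (col8_s_65_70 c) (col8_s_70_75 c) (Nat.ble 70 c)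
noncomputable def col8_s_56_75 (c : Nat) : Nat := @Bool.rec (fun _ => Nat) (col8_s_56_65 c) (col8_s_65_75 c) (Nat.ble 65 c)
noncomputable def col8_s_37_75 (c : Nat) : Nat := @Bool.rec (fun _ => Nat) (col8_s_37_56 c) (col8_s_56_75 c) (Nat.ble 56 c)
noncomputable def col8_s_0_75 (c : Nat) : Nat := @Bool.rec (fun _ => Nat) (col8_s_0_37 c) (col8_s_37_75 c) (Nat.ble 37 c)
noncomputable def col8 (i : Nat) : Nat := rdw 19 524287 (col8_s_0_75 (Nat.shiftRight i 12)) (Nat.land i 4095)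
noncomputable def col9_s_0_2 (c : Nat) : Nat := @Bool.rec (fun _ => Nat) (col9_0) (col9_1) (Nat.ble 1 c)
noncomputable def col9_s_2_4 (c : Nat) : Nat := @Bool.rec (fun _ => Nat) (col9_2) (col9_3) (Nat.ble 3 c)
noncomputable def col9_s_0_4 (c : Nat) : Nat := @Bool.rec (fun _ => Nat) (col9_s_0_2 c) (col9_s_2_4 c) (Nat.ble 2 c)
noncomputable def col9_s_4_6 (c : Nat) : Nat := @Bool.rec (fun _ => Nat) (col9_4) (col9_5) (Nat.ble 5 c)
noncomputable def col9_s_7_9 (c : Nat) : Nat := @Bool.rec (fun _ => Nat) (col9_7) (col9_8) (Nat.ble 8 c)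
noncomputable def col9_s_6_9 (c : Nat) : Nat := @Bool.rec (fun _ => Nat) (col9_6) (col9_s_7_9 c) (Nat.ble 7 c)
noncomputable def col9_s_4_9 (c : Nat) : Nat := @Bool.rec (fun _ => Nat) (col9_s_4_6 c) (col9_s_6_9 c) (Nat.ble 6 c)
noncomputable def col9_s_0_9 (c : Nat) : Nat := @Bool.rec (fun _ => Nat) (col9_s_0_4 c) (col9_s_4_9 c) (Nat.ble 4 c)
noncomputable def col9_s_9_11 (c : Nat) : Nat := @Bool.rec (fun _ => Nat) (col9_9) (col9_10) (Nat.ble 10 c)
noncomputable def col9_s_11_13 (c : Nat) : Nat := @Bool.rec (fun _ => Nat) (col9_11) (col9_12) (Nat.ble 12 c)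
noncomputable def col9_s_9_13 (c : Nat) : Nat := @Bool.rec (fun _ => Nat) (col9_s_9_11 c) (col9_s_11_13 c) (Nat.ble 11 c)
noncomputable def col9_s_13_15 (c : Nat) : Nat := @Bool.rec (fun _ => Nat) (col9_13) (col9_14) (Nat.ble 14 c)
noncomputable def col9_s_16_18 (c : Nat) : Nat := @Bool.rec (fun _ => Nat) (col9_16) (col9_17) (Nat.ble 17 c)
noncomputable def col9_s_15_18 (c : Nat) : Nat := @Bool.rec (fun _ => Nat) (col9_15) (col9_s_16_18 c) (Nat.ble 16 c)
noncomputable def col9_s_13_18 (c : Nat) : Nat := @Bool.rec (fun _ => Nat) (col9_s_13_15 c) (col9_s_15_18 c) (Nat.ble 15 c)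
noncomputable def col9_s_9_18 (c : Nat) : Nat := @Bool.rec (fun _ => Nat) (col9_s_9_13 c) (col9_s_13_18 c) (Nat.ble 13 c)
noncomputable def col9_s_0_18 (c : Nat) : Nat := @Bool.rec (fun _ => Nat) (col9_s_0_9 c) (col9_s_9_18 c) (Nat.ble 9 c)
noncomputable def col9_s_18_20 (c : Nat) : Nat := @Bool.rec (fun _ => Nat) (col9_18) (col9_19) (Nat.ble 19 c)
noncomputable def col9_s_20_22 (c : Nat) : Nat := @Bool.rec (fun _ => Nat) (col9_20) (col9_21) (Nat.ble 21 c)
noncomputable def col9_s_18_22 (c : Nat) : Nat := @Bool.rec (fun _ => Nat) (col9_s_18_20 c) (col9_s_20_22 c) (Nat.ble 20 c)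
noncomputable def col9_s_22_24 (c : Nat) : Nat := @Bool.rec (fun _ => Nat) (col9_22) (col9_23) (Nat.ble 23 c)
noncomputable def col9_s_25_27 (c : Nat) : Nat := @Bool.rec (fun _ => Nat) (col9_25) (col9_26) (Nat.ble 26 c)
noncomputable def col9_s_24_27 (c : Nat) : Nat := @Bool.rec (fun _ => Nat) (col9_24) (col9_s_25_27 c) (Nat.ble 25 c)
noncomputable def col9_s_22_27 (c : Nat) : Nat := @Bool.rec (fun _ => Nat) (col9_s_22_24 c) (col9_s_24_27 c) (Nat.ble 24 c)
noncomputable def col9_s_18_27 (c : Nat) : Nat := @Bool.rec (fun _ => Nat) (col9_s_18_22 c) (col9_s_22_27 c) (Nat.ble 22 c)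
noncomputable def col9_s_27_29 (c : Nat) : Nat := @Bool.rec (fun _ => Nat) (col9_27) (col9_28) (Nat.ble 28 c)
noncomputable def col9_s_30_32 (c : Nat) : Nat := @Bool.rec (fun _ => Nat) (col9_30) (col9_31) (Nat.ble 31 c)
noncomputable def col9_s_29_32 (c : Nat) : Nat := @Bool.rec (fun _ => Nat) (col9_29) (col9_s_30_32 c) (Nat.ble 30 c)
noncomputable def col9_s_27_32 (c : Nat) : Nat := @Bool.rec (fun _ => Nat) (col9_s_27_29 c) (col9_s_29_32 c) (Nat.ble 29 c)
noncomputable def col9_s_32_34 (c : Nat) : Nat := @Bool.rec (fun _ => Nat) (col9_32) (col9_33) (Nat.ble 33 c)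
noncomputable def col9_s_35_37 (c : Nat) : Nat := @Bool.rec (fun _ => Nat) (col9_35) (col9_36) (Nat.ble 36 c)
noncomputable def col9_s_34_37 (c : Nat) : Nat := @Bool.rec (fun _ => Nat) (col9_34) (col9_s_35_37 c) (Nat.ble 35 c)
noncomputable def col9_s_32_37 (c : Nat) : Nat := @Bool.rec (fun _ => Nat) (col9_s_32_34 c) (col9_s_34_37 c) (Nat.ble 34 c)
noncomputable def col9_s_27_37 (c : Nat) : Nat := @Bool.rec (fun _ => Nat) (col9_s_27_32 c) (col9_s_32_37 c) (Nat.ble 32 c)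
noncomputable def col9_s_18_37 (c : Nat) : Nat := @Bool.rec (fun _ => Nat) (col9_s_18_27 c) (col9_s_27_37 c) (Nat.ble 27 c)
noncomputable def col9_s_0_37 (c : Nat) : Nat := @Bool.rec (fun _ => Nat) (col9_s_0_18 c) (col9_s_18_37 c) (Nat.ble 18 c)
noncomputable def col9_s_37_39 (c : Nat) : Nat := @Bool.rec (fun _ => Nat) (col9_37) (col9_38) (Nat.ble 38 c)
noncomputable def col9_s_39_41 (c : Nat) : Nat := @Bool.rec (fun _ => Nat) (col9_39) (col9_40) (Nat.ble 40 c)
noncomputable def col9_s_37_41 (c : Nat) : Nat := @Bool.rec (fun _ => Nat) (col9_s_37_39 c) (col9_s_39_41 c) (Nat.ble 39 c)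
noncomputable def col9_s_41_43 (c : Nat) : Nat := @Bool.rec (fun _ => Nat) (col9_41) (col9_42) (Nat.ble 42 c)
noncomputable def col9_s_44_46 (c : Nat) : Nat := @Bool.rec (fun _ => Nat) (col9_44) (col9_45) (Nat.ble 45 c)
noncomputable def col9_s_43_46 (c : Nat) : Nat := @Bool.rec (fun _ => Nat) (col9_43) (col9_s_44_46 c) (Nat.ble 44 c)
noncomputable def col9_s_41_46 (c : Nat) : Nat := @Bool.rec (fun _ => Nat) (col9_s_41_43 c) (col9_s_43_46 c) (Nat.ble 43 c)
noncomputable def col9_s_37_46 (c : Nat) : Nat := @Bool.rec (fun _ => Nat) (col9_s_37_41 c) (col9_s_41_46 c) (Nat.ble 41 c)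
noncomputable def col9_s_46_48 (c : Nat) : Nat := @Bool.rec (fun _ => Nat) (col9_46) (col9_47) (Nat.ble 47 c)
noncomputable def col9_s_49_51 (c : Nat) : Nat := @Bool.rec (fun _ => Nat) (col9_49) (col9_50) (Nat.ble 50 c)
noncomputable def col9_s_48_51 (c : Nat) : Nat := @Bool.rec (fun _ => Nat) (col9_48) (col9_s_49_51 c) (Nat.ble 49 c)
noncomputable def col9_s_46_51 (c : Nat) : Nat := @Bool.rec (fun _ => Nat) (col9_s_46_48 c) (col9_s_48_51 c) (Nat.ble 48 c)
noncomputable def col9_s_51_53 (c : Nat) : Nat := @Bool.rec (fun _ => Nat) (col9_51) (col9_52) (Nat.ble 52 c)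
noncomputable def col9_s_54_56 (c : Nat) : Nat := @Bool.rec (fun _ => Nat) (col9_54) (col9_55) (Nat.ble 55 c)
noncomputable def col9_s_53_56 (c : Nat) : Nat := @Bool.rec (fun _ => Nat) (col9_53) (col9_s_54_56 c) (Nat.ble 54 c)
noncomputable def col9_s_51_56 (c : Nat) : Nat := @Bool.rec (fun _ => Nat) (col9_s_51_53 c) (col9_s_53_56 c) (Nat.ble 53 c)
noncomputable def col9_s_46_56 (c : Nat) : Nat := @Bool.rec (fun _ => Nat) (col9_s_46_51 c) (col9_s_51_56 c) (Nat.ble 51 c)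
noncomputable def col9_s_37_56 (c : Nat) : Nat := @Bool.rec (fun _ => Nat) (col9_s_37_46 c) (col9_s_46_56 c) (Nat.ble 46 c)
noncomputable def col9_s_56_58 (c : Nat) : Nat := @Bool.rec (fun _ => Nat) (col9_56) (col9_57) (Nat.ble 57 c)
noncomputable def col9_s_58_60 (c : Nat) : Nat := @Bool.rec (fun _ => Nat) (col9_58) (col9_59) (Nat.ble 59 c)
noncomputable def col9_s_56_60 (c : Nat) : Nat := @Bool.rec (fun _ => Nat) (col9_s_56_58 c) (col9_s_58_60 c) (Nat.ble 58 c)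
noncomputable def col9_s_60_62 (c : Nat) : Nat := @Bool.rec (fun _ => Nat) (col9_60) (col9_61) (Nat.ble 61 c)
noncomputable def col9_s_63_65 (c : Nat) : Nat := @Bool.rec (fun _ => Nat) (col9_63) (col9_64) (Nat.ble 64 c)
noncomputable def col9_s_62_65 (c : Nat) : Nat := @Bool.rec (fun _ => Nat) (col9_62) (col9_s_63_65 c) (Nat.ble 63 c)
noncomputable def col9_s_60_65 (c : Nat) : Nat := @Bool.rec (fun _ => Nat) (col9_s_60_62 c) (col9_s_62_65 c) (Nat.ble 62 c)
noncomputable def col9_s_56_65 (c : Nat) : Nat := @Bool.rec (fun _ => Nat) (col9_s_56_60 c) (col9_s_60_65 c) (Nat.ble 60 c)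
noncomputable def col9_s_65_67 (c : Nat) : Nat := @Bool.rec (fun _ => Nat) (col9_65) (col9_66) (Nat.ble 66 c)
noncomputable def col9_s_68_70 (c : Nat) : Nat := @Bool.rec (fun _ => Nat) (col9_68) (col9_69) (Nat.ble 69 c)
noncomputable def col9_s_67_70 (c : Nat) : Nat := @Bool.rec (fun _ => Nat) (col9_67) (col9_s_68_70 c) (Nat.ble 68 c)
noncomputable def col9_s_65_70 (c : Nat) : Nat := @Bool.rec (fun _ => Nat) (col9_s_65_67 c) (col9_s_67_70 c) (Nat.ble 67 c)
noncomputable def col9_s_70_72 (c : Nat) : Nat := @Bool.rec (fun _ => Nat) (col9_70) (col9_71) (Nat.ble 71 c)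
noncomputable def col9_s_73_75 (c : Nat) : Nat := @Bool.rec (fun _ => Nat) (col9_73) (col9_74) (Nat.ble 74 c)
noncomputable def col9_s_72_75 (c : Nat) : Nat := @Bool.rec (fun _ => Nat) (col9_72) (col9_s_73_75 c) (Nat.ble 73 c)
noncomputable def col9_s_70_75 (c : Nat) : Nat := @Bool.rec (fun _ => Nat) (col9_s_70_72 c) (col9_s_72_75 c) (Nat.ble 72 c)
noncomputable def col9_s_65_75 (c : Nat) : Nat := @Bool.rec (fun _ => Nat) (col9_s_65_70 c) (col9_s_70_75 c) (Nat.ble 70 c)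
noncomputable def col9_s_56_75 (c : Nat) : Nat := @Bool.rec (fun _ => Nat) (col9_s_56_65 c) (col9_s_65_75 c) (Nat.ble 65 c)
noncomputable def col9_s_37_75 (c : Nat) : Nat := @Bool.rec (fun _ => Nat) (col9_s_37_56 c) (col9_s_56_75 c) (Nat.ble 56 c)
noncomputable def col9_s_0_75 (c : Nat) : Nat := @Bool.rec (fun _ => Nat) (col9_s_0_37 c) (col9_s_37_75 c) (Nat.ble 37 c)
noncomputable def col9 (i : Nat) : Nat := rdw 19 524287 (col9_s_0_75 (Nat.shiftRight i 12)) (Nat.land i 4095)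
noncomputable def col10_s_0_2 (c : Nat) : Nat := @Bool.rec (fun _ => Nat) (col10_0) (col10_1) (Nat.ble 1 c)
noncomputable def col10_s_2_4 (c : Nat) : Nat := @Bool.rec (fun _ => Nat) (col10_2) (col10_3) (Nat.ble 3 c)
noncomputable def col10_s_0_4 (c : Nat) : Nat := @Bool.rec (fun _ => Nat) (col10_s_0_2 c) (col10_s_2_4 c) (Nat.ble 2 c)
noncomputable def col10_s_4_6 (c : Nat) : Nat := @Bool.rec (fun _ => Nat) (col10_4) (col10_5) (Nat.ble 5 c)
noncomputable def col10_s_7_9 (c : Nat) : Nat := @Bool.rec (fun _ => Nat) (col10_7) (col10_8) (Nat.ble 8 c)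
noncomputable def col10_s_6_9 (c : Nat) : Nat := @Bool.rec (fun _ => Nat) (col10_6) (col10_s_7_9 c) (Nat.ble 7 c)
noncomputable def col10_s_4_9 (c : Nat) : Nat := @Bool.rec (fun _ => Nat) (col10_s_4_6 c) (col10_s_6_9 c) (Nat.ble 6 c)
noncomputable def col10_s_0_9 (c : Nat) : Nat := @Bool.rec (fun _ => Nat) (col10_s_0_4 c) (col10_s_4_9 c) (Nat.ble 4 c)
noncomputable def col10_s_9_11 (c : Nat) : Nat := @Bool.rec (fun _ => Nat) (col10_9) (col10_10) (Nat.ble 10 c)
noncomputable def col10_s_11_13 (c : Nat) : Nat := @Bool.rec (fun _ => Nat) (col10_11) (col10_12) (Nat.ble 12 c)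
noncomputable def col10_s_9_13 (c : Nat) : Nat := @Bool.rec (fun _ => Nat) (col10_s_9_11 c) (col10_s_11_13 c) (Nat.ble 11 c)
noncomputable def col10_s_13_15 (c : Nat) : Nat := @Bool.rec (fun _ => Nat) (col10_13) (col10_14) (Nat.ble 14 c)
noncomputable def col10_s_16_18 (c : Nat) : Nat := @Bool.rec (fun _ => Nat) (col10_16) (col10_17) (Nat.ble 17 c)
noncomputable def col10_s_15_18 (c : Nat) : Nat := @Bool.rec (fun _ => Nat) (col10_15) (col10_s_16_18 c) (Nat.ble 16 c)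
noncomputable def col10_s_13_18 (c : Nat) : Nat := @Bool.rec (fun _ => Nat) (col10_s_13_15 c) (col10_s_15_18 c) (Nat.ble 15 c)
noncomputable def col10_s_9_18 (c : Nat) : Nat := @Bool.rec (fun _ => Nat) (col10_s_9_13 c) (col10_s_13_18 c) (Nat.ble 13 c)
noncomputable def col10_s_0_18 (c : Nat) : Nat := @Bool.rec (fun _ => Nat) (col10_s_0_9 c) (col10_s_9_18 c) (Nat.ble 9 c)
noncomputable def col10_s_18_20 (c : Nat) : Nat := @Bool.rec (fun _ => Nat) (col10_18) (col10_19) (Nat.ble 19 c)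
noncomputable def col10_s_20_22 (c : Nat) : Nat := @Bool.rec (fun _ => Nat) (col10_20) (col10_21) (Nat.ble 21 c)
noncomputable def col10_s_18_22 (c : Nat) : Nat := @Bool.rec (fun _ => Nat) (col10_s_18_20 c) (col10_s_20_22 c) (Nat.ble 20 c)
noncomputable def col10_s_22_24 (c : Nat) : Nat := @Bool.rec (fun _ => Nat) (col10_22) (col10_23) (Nat.ble 23 c)
noncomputable def col10_s_25_27 (c : Nat) : Nat := @Bool.rec (fun _ => Nat) (col10_25) (col10_26) (Nat.ble 26 c)
noncomputable def col10_s_24_27 (c : Nat) : Nat := @Bool.rec (fun _ => Nat) (col10_24) (col10_s_25_27 c) (Nat.ble 25 c)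
noncomputable def col10_s_22_27 (c : Nat) : Nat := @Bool.rec (fun _ => Nat) (col10_s_22_24 c) (col10_s_24_27 c) (Nat.ble 24 c)
noncomputable def col10_s_18_27 (c : Nat) : Nat := @Bool.rec (fun _ => Nat) (col10_s_18_22 c) (col10_s_22_27 c) (Nat.ble 22 c)
noncomputable def col10_s_27_29 (c : Nat) : Nat := @Bool.rec (fun _ => Nat) (col10_27) (col10_28) (Nat.ble 28 c)
noncomputable def col10_s_30_32 (c : Nat) : Nat := @Bool.rec (fun _ => Nat) (col10_30) (col10_31) (Nat.ble 31 c)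
noncomputable def col10_s_29_32 (c : Nat) : Nat := @Bool.rec (fun _ => Nat) (col10_29) (col10_s_30_32 c) (Nat.ble 30 c)
noncomputable def col10_s_27_32 (c : Nat) : Nat := @Bool.rec (fun _ => Nat) (col10_s_27_29 c) (col10_s_29_32 c) (Nat.ble 29 c)
noncomputable def col10_s_32_34 (c : Nat) : Nat := @Bool.rec (fun _ => Nat) (col10_32) (col10_33) (Nat.ble 33 c)
noncomputable def col10_s_35_37 (c : Nat) : Nat := @Bool.rec (fun _ => Nat) (col10_35) (col10_36) (Nat.ble 36 c)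
noncomputable def col10_s_34_37 (c : Nat) : Nat := @Bool.rec (fun _ => Nat) (col10_34) (col10_s_35_37 c) (Nat.ble 35 c)
noncomputable def col10_s_32_37 (c : Nat) : Nat := @Bool.rec (fun _ => Nat) (col10_s_32_34 c) (col10_s_34_37 c) (Nat.ble 34 c)
noncomputable def col10_s_27_37 (c : Nat) : Nat := @Bool.rec (fun _ => Nat) (col10_s_27_32 c) (col10_s_32_37 c) (Nat.ble 32 c)
noncomputable def col10_s_18_37 (c : Nat) : Nat := @Bool.rec (fun _ => Nat) (col10_s_18_27 c) (col10_s_27_37 c) (Nat.ble 27 c)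
noncomputable def col10_s_0_37 (c : Nat) : Nat := @Bool.rec (fun _ => Nat) (col10_s_0_18 c) (col10_s_18_37 c) (Nat.ble 18 c)
noncomputable def col10_s_37_39 (c : Nat) : Nat := @Bool.rec (fun _ => Nat) (col10_37) (col10_38) (Nat.ble 38 c)
noncomputable def col10_s_39_41 (c : Nat) : Nat := @Bool.rec (fun _ => Nat) (col10_39) (col10_40) (Nat.ble 40 c)
noncomputable def col10_s_37_41 (c : Nat) : Nat := @Bool.rec (fun _ => Nat) (col10_s_37_39 c) (col10_s_39_41 c) (Nat.ble 39 c)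
noncomputable def col10_s_41_43 (c : Nat) : Nat := @Bool.rec (fun _ => Nat) (col10_41) (col10_42) (Nat.ble 42 c)
noncomputable def col10_s_44_46 (c : Nat) : Nat := @Bool.rec (fun _ => Nat) (col10_44) (col10_45) (Nat.ble 45 c)
noncomputable def col10_s_43_46 (c : Nat) : Nat := @Bool.rec (fun _ => Nat) (col10_43) (col10_s_44_46 c) (Nat.ble 44 c)
noncomputable def col10_s_41_46 (c : Nat) : Nat := @Bool.rec (fun _ => Nat) (col10_s_41_43 c) (col10_s_43_46 c) (Nat.ble 43 c)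
noncomputable def col10_s_37_46 (c : Nat) : Nat := @Bool.rec (fun _ => Nat) (col10_s_37_41 c) (col10_s_41_46 c) (Nat.ble 41 c)
noncomputable def col10_s_46_48 (c : Nat) : Nat := @Bool.rec (fun _ => Nat) (col10_46) (col10_47) (Nat.ble 47 c)
noncomputable def col10_s_49_51 (c : Nat) : Nat := @Bool.rec (fun _ => Nat) (col10_49) (col10_50) (Nat.ble 50 c)
noncomputable def col10_s_48_51 (c : Nat) : Nat := @Bool.rec (fun _ => Nat) (col10_48) (col10_s_49_51 c) (Nat.ble 49 c)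
noncomputable def col10_s_46_51 (c : Nat) : Nat := @Bool.rec (fun _ => Nat) (col10_s_46_48 c) (col10_s_48_51 c) (Nat.ble 48 c)
noncomputable def col10_s_51_53 (c : Nat) : Nat := @Bool.rec (fun _ => Nat) (col10_51) (col10_52) (Nat.ble 52 c)
noncomputable def col10_s_54_56 (c : Nat) : Nat := @Bool.rec (fun _ => Nat) (col10_54) (col10_55) (Nat.ble 55 c)
noncomputable def col10_s_53_56 (c : Nat) : Nat := @Bool.rec (fun _ => Nat) (col10_53) (col10_s_54_56 c) (Nat.ble 54 c)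
noncomputable def col10_s_51_56 (c : Nat) : Nat := @Bool.rec (fun _ => Nat) (col10_s_51_53 c) (col10_s_53_56 c) (Nat.ble 53 c)
noncomputable def col10_s_46_56 (c : Nat) : Nat := @Bool.rec (fun _ => Nat) (col10_s_46_51 c) (col10_s_51_56 c) (Nat.ble 51 c)
noncomputable def col10_s_37_56 (c : Nat) : Nat := @Bool.rec (fun _ => Nat) (col10_s_37_46 c) (col10_s_46_56 c) (Nat.ble 46 c)
noncomputable def col10_s_56_58 (c : Nat) : Nat := @Bool.rec (fun _ => Nat) (col10_56) (col10_57) (Nat.ble 57 c)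
noncomputable def col10_s_58_60 (c : Nat) : Nat := @Bool.rec (fun _ => Nat) (col10_58) (col10_59) (Nat.ble 59 c)
noncomputable def col10_s_56_60 (c : Nat) : Nat := @Bool.rec (fun _ => Nat) (col10_s_56_58 c) (col10_s_58_60 c) (Nat.ble 58 c)
noncomputable def col10_s_60_62 (c : Nat) : Nat := @Bool.rec (fun _ => Nat) (col10_60) (col10_61) (Nat.ble 61 c)
noncomputable def col10_s_63_65 (c : Nat) : Nat := @Bool.rec (fun _ => Nat) (col10_63) (col10_64) (Nat.ble 64 c)
noncomputable def col10_s_62_65 (c : Nat) : Nat := @Bool.rec (fun _ => Nat) (col10_62) (col10_s_63_65 c) (Nat.ble 63 c)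
noncomputable def col10_s_60_65 (c : Nat) : Nat := @Bool.rec (fun _ => Nat) (col10_s_60_62 c) (col10_s_62_65 c) (Nat.ble 62 c)
noncomputable def col10_s_56_65 (c : Nat) : Nat := @Bool.rec (fun _ => Nat) (col10_s_56_60 c) (col10_s_60_65 c) (Nat.ble 60 c)
noncomputable def col10_s_65_67 (c : Nat) : Nat := @Bool.rec (fun _ => Nat) (col10_65) (col10_66) (Nat.ble 66 c)
noncomputable def col10_s_68_70 (c : Nat) : Nat := @Bool.rec (fun _ => Nat) (col10_68) (col10_69) (Nat.ble 69 c)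
noncomputable def col10_s_67_70 (c : Nat) : Nat := @Bool.rec (fun _ => Nat) (col10_67) (col10_s_68_70 c) (Nat.ble 68 c)
noncomputable def col10_s_65_70 (c : Nat) : Nat := @Bool.rec (fun _ => Nat) (col10_s_65_67 c) (col10_s_67_70 c) (Nat.ble 67 c)
noncomputable def col10_s_70_72 (c : Nat) : Nat := @Bool.rec (fun _ => Nat) (col10_70) (col10_71) (Nat.ble 71 c)
noncomputable def col10_s_73_75 (c : Nat) : Nat := @Bool.rec (fun _ => Nat) (col10_73) (col10_74) (Nat.ble 74 c)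
noncomputable def col10_s_72_75 (c : Nat) : Nat := @Bool.rec (fun _ => Nat) (col10_72) (col10_s_73_75 c) (Nat.ble 73 c)
noncomputable def col10_s_70_75 (c : Nat) : Nat := @Bool.rec (fun _ => Nat) (col10_s_70_72 c) (col10_s_72_75 c) (Nat.ble 72 c)
noncomputable def col10_s_65_75 (c : Nat) : Nat := @Bool.rec (fun _ => Nat) (col10_s_65_70 c) (col10_s_70_75 c) (Nat.ble 70 c)
noncomputable def col10_s_56_75 (c : Nat) : Nat := @Bool.rec (fun _ => Nat) (col10_s_56_65 c) (col10_s_65_75 c) (Nat.ble 65 c)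
noncomputable def col10_s_37_75 (c : Nat) : Nat := @Bool.rec (fun _ => Nat) (col10_s_37_56 c) (col10_s_56_75 c) (Nat.ble 56 c)
noncomputable def col10_s_0_75 (c : Nat) : Nat := @Bool.rec (fun _ => Nat) (col10_s_0_37 c) (col10_s_37_75 c) (Nat.ble 37 c)
noncomputable def col10 (i : Nat) : Nat := rdw 19 524287 (col10_s_0_75 (Nat.shiftRight i 12)) (Nat.land i 4095)
noncomputable def col11_s_0_2 (c : Nat) : Nat := @Bool.rec (fun _ => Nat) (col11_0) (col11_1) (Nat.ble 1 c)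
noncomputable def col11_s_2_4 (c : Nat) : Nat := @Bool.rec (fun _ => Nat) (col11_2) (col11_3) (Nat.ble 3 c)
noncomputable def col11_s_0_4 (c : Nat) : Nat := @Bool.rec (fun _ => Nat) (col11_s_0_2 c) (col11_s_2_4 c) (Nat.ble 2 c)
noncomputable def col11_s_4_6 (c : Nat) : Nat := @Bool.rec (fun _ => Nat) (col11_4) (col11_5) (Nat.ble 5 c)
noncomputable def col11_s_7_9 (c : Nat) : Nat := @Bool.rec (fun _ => Nat) (col11_7) (col11_8) (Nat.ble 8 c)
noncomputable def col11_s_6_9 (c : Nat) : Nat := @Bool.rec (fun _ => Nat) (col11_6) (col11_s_7_9 c) (Nat.ble 7 c)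
noncomputable def col11_s_4_9 (c : Nat) : Nat := @Bool.rec (fun _ => Nat) (col11_s_4_6 c) (col11_s_6_9 c) (Nat.ble 6 c)
noncomputable def col11_s_0_9 (c : Nat) : Nat := @Bool.rec (fun _ => Nat) (col11_s_0_4 c) (col11_s_4_9 c) (Nat.ble 4 c)
noncomputable def col11_s_9_11 (c : Nat) : Nat := @Bool.rec (fun _ => Nat) (col11_9) (col11_10) (Nat.ble 10 c)
noncomputable def col11_s_11_13 (c : Nat) : Nat := @Bool.rec (fun _ => Nat) (col11_11) (col11_12) (Nat.ble 12 c)
noncomputable def col11_s_9_13 (c : Nat) : Nat := @Bool.rec (fun _ => Nat) (col11_s_9_11 c) (col11_s_11_13 c) (Nat.ble 11 c)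
noncomputable def col11_s_13_15 (c : Nat) : Nat := @Bool.rec (fun _ => Nat) (col11_13) (col11_14) (Nat.ble 14 c)
noncomputable def col11_s_16_18 (c : Nat) : Nat := @Bool.rec (fun _ => Nat) (col11_16) (col11_17) (Nat.ble 17 c)
noncomputable def col11_s_15_18 (c : Nat) : Nat := @Bool.rec (fun _ => Nat) (col11_15) (col11_s_16_18 c) (Nat.ble 16 c)
noncomputable def col11_s_13_18 (c : Nat) : Nat := @Bool.rec (fun _ => Nat) (col11_s_13_15 c) (col11_s_15_18 c) (Nat.ble 15 c)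
noncomputable def col11_s_9_18 (c : Nat) : Nat := @Bool.rec (fun _ => Nat) (col11_s_9_13 c) (col11_s_13_18 c) (Nat.ble 13 c)
noncomputable def col11_s_0_18 (c : Nat) : Nat := @Bool.rec (fun _ => Nat) (col11_s_0_9 c) (col11_s_9_18 c) (Nat.ble 9 c)
noncomputable def col11_s_18_20 (c : Nat) : Nat := @Bool.rec (fun _ => Nat) (col11_18) (col11_19) (Nat.ble 19 c)
noncomputable def col11_s_20_22 (c : Nat) : Nat := @Bool.rec (fun _ => Nat) (col11_20) (col11_21) (Nat.ble 21 c)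
noncomputable def col11_s_18_22 (c : Nat) : Nat := @Bool.rec (fun _ => Nat) (col11_s_18_20 c) (col11_s_20_22 c) (Nat.ble 20 c)
noncomputable def col11_s_22_24 (c : Nat) : Nat := @Bool.rec (fun _ => Nat) (col11_22) (col11_23) (Nat.ble 23 c)
noncomputable def col11_s_25_27 (c : Nat) : Nat := @Bool.rec (fun _ => Nat) (col11_25) (col11_26) (Nat.ble 26 c)
noncomputable def col11_s_24_27 (c : Nat) : Nat := @Bool.rec (fun _ => Nat) (col11_24) (col11_s_25_27 c) (Nat.ble 25 c)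
noncomputable def col11_s_22_27 (c : Nat) : Nat := @Bool.rec (fun _ => Nat) (col11_s_22_24 c) (col11_s_24_27 c) (Nat.ble 24 c)
noncomputable def col11_s_18_27 (c : Nat) : Nat := @Bool.rec (fun _ => Nat) (col11_s_18_22 c) (col11_s_22_27 c) (Nat.ble 22 c)
noncomputable def col11_s_27_29 (c : Nat) : Nat := @Bool.rec (fun _ => Nat) (col11_27) (col11_28) (Nat.ble 28 c)
noncomputable def col11_s_30_32 (c : Nat) : Nat := @Bool.rec (fun _ => Nat) (col11_30) (col11_31) (Nat.ble 31 c)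
noncomputable def col11_s_29_32 (c : Nat) : Nat := @Bool.rec (fun _ => Nat) (col11_29) (col11_s_30_32 c) (Nat.ble 30 c)
noncomputable def col11_s_27_32 (c : Nat) : Nat := @Bool.rec (fun _ => Nat) (col11_s_27_29 c) (col11_s_29_32 c) (Nat.ble 29 c)
noncomputable def col11_s_32_34 (c : Nat) : Nat := @Bool.rec (fun _ => Nat) (col11_32) (col11_33) (Nat.ble 33 c)
noncomputable def col11_s_35_37 (c : Nat) : Nat := @Bool.rec (fun _ => Nat) (col11_35) (col11_36) (Nat.ble 36 c)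
noncomputable def col11_s_34_37 (c : Nat) : Nat := @Bool.rec (fun _ => Nat) (col11_34) (col11_s_35_37 c) (Nat.ble 35 c)
noncomputable def col11_s_32_37 (c : Nat) : Nat := @Bool.rec (fun _ => Nat) (col11_s_32_34 c) (col11_s_34_37 c) (Nat.ble 34 c)
noncomputable def col11_s_27_37 (c : Nat) : Nat := @Bool.rec (fun _ => Nat) (col11_s_27_32 c) (col11_s_32_37 c) (Nat.ble 32 c)
noncomputable def col11_s_18_37 (c : Nat) : Nat := @Bool.rec (fun _ => Nat) (col11_s_18_27 c) (col11_s_27_37 c) (Nat.ble 27 c)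
noncomputable def col11_s_0_37 (c : Nat) : Nat := @Bool.rec (fun _ => Nat) (col11_s_0_18 c) (col11_s_18_37 c) (Nat.ble 18 c)
noncomputable def col11_s_37_39 (c : Nat) : Nat := @Bool.rec (fun _ => Nat) (col11_37) (col11_38) (Nat.ble 38 c)
noncomputable def col11_s_39_41 (c : Nat) : Nat := @Bool.rec (fun _ => Nat) (col11_39) (col11_40) (Nat.ble 40 c)
noncomputable def col11_s_37_41 (c : Nat) : Nat := @Bool.rec (fun _ => Nat) (col11_s_37_39 c) (col11_s_39_41 c) (Nat.ble 39 c)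
noncomputable def col11_s_41_43 (c : Nat) : Nat := @Bool.rec (fun _ => Nat) (col11_41) (col11_42) (Nat.ble 42 c)
noncomputable def col11_s_44_46 (c : Nat) : Nat := @Bool.rec (fun _ => Nat) (col11_44) (col11_45) (Nat.ble 45 c)
noncomputable def col11_s_43_46 (c : Nat) : Nat := @Bool.rec (fun _ => Nat) (col11_43) (col11_s_44_46 c) (Nat.ble 44 c)
noncomputable def col11_s_41_46 (c : Nat) : Nat := @Bool.rec (fun _ => Nat) (col11_s_41_43 c) (col11_s_43_46 c) (Nat.ble 43 c)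
noncomputable def col11_s_37_46 (c : Nat) : Nat := @Bool.rec (fun _ => Nat) (col11_s_37_41 c) (col11_s_41_46 c) (Nat.ble 41 c)
noncomputable def col11_s_46_48 (c : Nat) : Nat := @Bool.rec (fun _ => Nat) (col11_46) (col11_47) (Nat.ble 47 c)
noncomputable def col11_s_49_51 (c : Nat) : Nat := @Bool.rec (fun _ => Nat) (col11_49) (col11_50) (Nat.ble 50 c)
noncomputable def col11_s_48_51 (c : Nat) : Nat := @Bool.rec (fun _ => Nat) (col11_48) (col11_s_49_51 c) (Nat.ble 49 c)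
noncomputable def col11_s_46_51 (c : Nat) : Nat := @Bool.rec (fun _ => Nat) (col11_s_46_48 c) (col11_s_48_51 c) (Nat.ble 48 c)
noncomputable def col11_s_51_53 (c : Nat) : Nat := @Bool.rec (fun _ => Nat) (col11_51) (col11_52) (Nat.ble 52 c)
noncomputable def col11_s_54_56 (c : Nat) : Nat := @Bool.rec (fun _ => Nat) (col11_54) (col11_55) (Nat.ble 55 c)
noncomputable def col11_s_53_56 (c : Nat) : Nat := @Bool.rec (fun _ => Nat) (col11_53) (col11_s_54_56 c) (Nat.ble 54 c)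
noncomputable def col11_s_51_56 (c : Nat) : Nat := @Bool.rec (fun _ => Nat) (col11_s_51_53 c) (col11_s_53_56 c) (Nat.ble 53 c)
noncomputable def col11_s_46_56 (c : Nat) : Nat := @Bool.rec (fun _ => Nat) (col11_s_46_51 c) (col11_s_51_56 c) (Nat.ble 51 c)
noncomputable def col11_s_37_56 (c : Nat) : Nat := @Bool.rec (fun _ => Nat) (col11_s_37_46 c) (col11_s_46_56 c) (Nat.ble 46 c)
noncomputable def col11_s_56_58 (c : Nat) : Nat := @Bool.rec (fun _ => Nat) (col11_56) (col11_57) (Nat.ble 57 c)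
noncomputable def col11_s_58_60 (c : Nat) : Nat := @Bool.rec (fun _ => Nat) (col11_58) (col11_59) (Nat.ble 59 c)
noncomputable def col11_s_56_60 (c : Nat) : Nat := @Bool.rec (fun _ => Nat) (col11_s_56_58 c) (col11_s_58_60 c) (Nat.ble 58 c)
noncomputable def col11_s_60_62 (c : Nat) : Nat := @Bool.rec (fun _ => Nat) (col11_60) (col11_61) (Nat.ble 61 c)
noncomputable def col11_s_63_65 (c : Nat) : Nat := @Bool.rec (fun _ => Nat) (col11_63) (col11_64) (Nat.ble 64 c)
noncomputable def col11_s_62_65 (c : Nat) : Nat := @Bool.rec (fun _ => Nat) (col11_62) (col11_s_63_65 c) (Nat.ble 63 c)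
noncomputable def col11_s_60_65 (c : Nat) : Nat := @Bool.rec (fun _ => Nat) (col11_s_60_62 c) (col11_s_62_65 c) (Nat.ble 62 c)
noncomputable def col11_s_56_65 (c : Nat) : Nat := @Bool.rec (fun _ => Nat) (col11_s_56_60 c) (col11_s_60_65 c) (Nat.ble 60 c)
noncomputable def col11_s_65_67 (c : Nat) : Nat := @Bool.rec (fun _ => Nat) (col11_65) (col11_66) (Nat.ble 66 c)
noncomputable def col11_s_68_70 (c : Nat) : Nat := @Bool.rec (fun _ => Nat) (col11_68) (col11_69) (Nat.ble 69 c)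
noncomputable def col11_s_67_70 (c : Nat) : Nat := @Bool.rec (fun _ => Nat) (col11_67) (col11_s_68_70 c) (Nat.ble 68 c)
noncomputable def col11_s_65_70 (c : Nat) : Nat := @Bool.rec (fun _ => Nat) (col11_s_65_67 c) (col11_s_67_70 c) (Nat.ble 67 c)
noncomputable def col11_s_70_72 (c : Nat) : Nat := @Bool.rec (fun _ => Nat) (col11_70) (col11_71) (Nat.ble 71 c)
noncomputable def col11_s_73_75 (c : Nat) : Nat := @Bool.rec (fun _ => Nat) (col11_73) (col11_74) (Nat.ble 74 c)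
noncomputable def col11_s_72_75 (c : Nat) : Nat := @Bool.rec (fun _ => Nat) (col11_72) (col11_s_73_75 c) (Nat.ble 73 c)
noncomputable def col11_s_70_75 (c : Nat) : Nat := @Bool.rec (fun _ => Nat) (col11_s_70_72 c) (col11_s_72_75 c) (Nat.ble 72 c)
noncomputable def col11_s_65_75 (c : Nat) : Nat := @Bool.rec (fun _ => Nat) (col11_s_65_70 c) (col11_s_70_75 c) (Nat.ble 70 c)
noncomputable def col11_s_56_75 (c : Nat) : Nat := @Bool.rec (fun _ => Nat) (col11_s_56_65 c) (col11_s_65_75 c) (Nat.ble 65 c)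
noncomputable def col11_s_37_75 (c : Nat) : Nat := @Bool.rec (fun _ => Nat) (col11_s_37_56 c) (col11_s_56_75 c) (Nat.ble 56 c)
noncomputable def col11_s_0_75 (c : Nat) : Nat := @Bool.rec (fun _ => Nat) (col11_s_0_37 c) (col11_s_37_75 c) (Nat.ble 37 c)
noncomputable def col11 (i : Nat) : Nat := rdw 19 524287 (col11_s_0_75 (Nat.shiftRight i 12)) (Nat.land i 4095)
noncomputable def finTab_s_1_3 (c : Nat) : Nat := @Bool.rec (fun _ => Nat) (finTab_1) (finTab_2) (Nat.ble 2 c)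
noncomputable def finTab_s_0_3 (c : Nat) : Nat := @Bool.rec (fun _ => Nat) (finTab_0) (finTab_s_1_3 c) (Nat.ble 1 c)
noncomputable def finTab_s_3_5 (c : Nat) : Nat := @Bool.rec (fun _ => Nat) (finTab_3) (finTab_4) (Nat.ble 4 c)
noncomputable def finTab_s_5_7 (c : Nat) : Nat := @Bool.rec (fun _ => Nat) (finTab_5) (finTab_6) (Nat.ble 6 c)
noncomputable def finTab_s_3_7 (c : Nat) : Nat := @Bool.rec (fun _ => Nat) (finTab_s_3_5 c) (finTab_s_5_7 c) (Nat.ble 5 c)
noncomputable def finTab_s_0_7 (c : Nat) : Nat := @Bool.rec (fun _ => Nat) (finTab_s_0_3 c) (finTab_s_3_7 c) (Nat.ble 3 c)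
noncomputable def finTab_s_8_10 (c : Nat) : Nat := @Bool.rec (fun _ => Nat) (finTab_8) (finTab_9) (Nat.ble 9 c)
noncomputable def finTab_s_7_10 (c : Nat) : Nat := @Bool.rec (fun _ => Nat) (finTab_7) (finTab_s_8_10 c) (Nat.ble 8 c)
noncomputable def finTab_s_10_12 (c : Nat) : Nat := @Bool.rec (fun _ => Nat) (finTab_10) (finTab_11) (Nat.ble 11 c)
noncomputable def finTab_s_12_14 (c : Nat) : Nat := @Bool.rec (fun _ => Nat) (finTab_12) (finTab_13) (Nat.ble 13 c)
noncomputable def finTab_s_10_14 (c : Nat) : Nat := @Bool.rec (fun _ => Nat) (finTab_s_10_12 c) (finTab_s_12_14 c) (Nat.ble 12 c)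
noncomputable def finTab_s_7_14 (c : Nat) : Nat := @Bool.rec (fun _ => Nat) (finTab_s_7_10 c) (finTab_s_10_14 c) (Nat.ble 10 c)
noncomputable def finTab_s_0_14 (c : Nat) : Nat := @Bool.rec (fun _ => Nat) (finTab_s_0_7 c) (finTab_s_7_14 c) (Nat.ble 7 c)
noncomputable def finTab_s_15_17 (c : Nat) : Nat := @Bool.rec (fun _ => Nat) (finTab_15) (finTab_16) (Nat.ble 16 c)
noncomputable def finTab_s_14_17 (c : Nat) : Nat := @Bool.rec (fun _ => Nat) (finTab_14) (finTab_s_15_17 c) (Nat.ble 15 c)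
noncomputable def finTab_s_17_19 (c : Nat) : Nat := @Bool.rec (fun _ => Nat) (finTab_17) (finTab_18) (Nat.ble 18 c)
noncomputable def finTab_s_19_21 (c : Nat) : Nat := @Bool.rec (fun _ => Nat) (finTab_19) (finTab_20) (Nat.ble 20 c)
noncomputable def finTab_s_17_21 (c : Nat) : Nat := @Bool.rec (fun _ => Nat) (finTab_s_17_19 c) (finTab_s_19_21 c) (Nat.ble 19 c)
noncomputable def finTab_s_14_21 (c : Nat) : Nat := @Bool.rec (fun _ => Nat) (finTab_s_14_17 c) (finTab_s_17_21 c) (Nat.ble 17 c)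
noncomputable def finTab_s_22_24 (c : Nat) : Nat := @Bool.rec (fun _ => Nat) (finTab_22) (finTab_23) (Nat.ble 23 c)
noncomputable def finTab_s_21_24 (c : Nat) : Nat := @Bool.rec (fun _ => Nat) (finTab_21) (finTab_s_22_24 c) (Nat.ble 22 c)
noncomputable def finTab_s_24_26 (c : Nat) : Nat := @Bool.rec (fun _ => Nat) (finTab_24) (finTab_25) (Nat.ble 25 c)
noncomputable def finTab_s_26_28 (c : Nat) : Nat := @Bool.rec (fun _ => Nat) (finTab_26) (finTab_27) (Nat.ble 27 c)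
noncomputable def finTab_s_24_28 (c : Nat) : Nat := @Bool.rec (fun _ => Nat) (finTab_s_24_26 c) (finTab_s_26_28 c) (Nat.ble 26 c)
noncomputable def finTab_s_21_28 (c : Nat) : Nat := @Bool.rec (fun _ => Nat) (finTab_s_21_24 c) (finTab_s_24_28 c) (Nat.ble 24 c)
noncomputable def finTab_s_14_28 (c : Nat) : Nat := @Bool.rec (fun _ => Nat) (finTab_s_14_21 c) (finTab_s_21_28 c) (Nat.ble 21 c)
noncomputable def finTab_s_0_28 (c : Nat) : Nat := @Bool.rec (fun _ => Nat) (finTab_s_0_14 c) (finTab_s_14_28 c) (Nat.ble 14 c)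
noncomputable def finTab_s_29_31 (c : Nat) : Nat := @Bool.rec (fun _ => Nat) (finTab_29) (finTab_30) (Nat.ble 30 c)
noncomputable def finTab_s_28_31 (c : Nat) : Nat := @Bool.rec (fun _ => Nat) (finTab_28) (finTab_s_29_31 c) (Nat.ble 29 c)
noncomputable def finTab_s_31_33 (c : Nat) : Nat := @Bool.rec (fun _ => Nat) (finTab_31) (finTab_32) (Nat.ble 32 c)
noncomputable def finTab_s_33_35 (c : Nat) : Nat := @Bool.rec (fun _ => Nat) (finTab_33) (finTab_34) (Nat.ble 34 c)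
noncomputable def finTab_s_31_35 (c : Nat) : Nat := @Bool.rec (fun _ => Nat) (finTab_s_31_33 c) (finTab_s_33_35 c) (Nat.ble 33 c)
noncomputable def finTab_s_28_35 (c : Nat) : Nat := @Bool.rec (fun _ => Nat) (finTab_s_28_31 c) (finTab_s_31_35 c) (Nat.ble 31 c)
noncomputable def finTab_s_36_38 (c : Nat) : Nat := @Bool.rec (fun _ => Nat) (finTab_36) (finTab_37) (Nat.ble 37 c)
noncomputable def finTab_s_35_38 (c : Nat) : Nat := @Bool.rec (fun _ => Nat) (finTab_35) (finTab_s_36_38 c) (Nat.ble 36 c)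
noncomputable def finTab_s_38_40 (c : Nat) : Nat := @Bool.rec (fun _ => Nat) (finTab_38) (finTab_39) (Nat.ble 39 c)
noncomputable def finTab_s_40_42 (c : Nat) : Nat := @Bool.rec (fun _ => Nat) (finTab_40) (finTab_41) (Nat.ble 41 c)
noncomputable def finTab_s_38_42 (c : Nat) : Nat := @Bool.rec (fun _ => Nat) (finTab_s_38_40 c) (finTab_s_40_42 c) (Nat.ble 40 c)
noncomputable def finTab_s_35_42 (c : Nat) : Nat := @Bool.rec (fun _ => Nat) (finTab_s_35_38 c) (finTab_s_38_42 c) (Nat.ble 38 c)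
noncomputable def finTab_s_28_42 (c : Nat) : Nat := @Bool.rec (fun _ => Nat) (finTab_s_28_35 c) (finTab_s_35_42 c) (Nat.ble 35 c)
noncomputable def finTab_s_43_45 (c : Nat) : Nat := @Bool.rec (fun _ => Nat) (finTab_43) (finTab_44) (Nat.ble 44 c)
noncomputable def finTab_s_42_45 (c : Nat) : Nat := @Bool.rec (fun _ => Nat) (finTab_42) (finTab_s_43_45 c) (Nat.ble 43 c)
noncomputable def finTab_s_45_47 (c : Nat) : Nat := @Bool.rec (fun _ => Nat) (finTab_45) (finTab_46) (Nat.ble 46 c)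
noncomputable def finTab_s_47_49 (c : Nat) : Nat := @Bool.rec (fun _ => Nat) (finTab_47) (finTab_48) (Nat.ble 48 c)
noncomputable def finTab_s_45_49 (c : Nat) : Nat := @Bool.rec (fun _ => Nat) (finTab_s_45_47 c) (finTab_s_47_49 c) (Nat.ble 47 c)
noncomputable def finTab_s_42_49 (c : Nat) : Nat := @Bool.rec (fun _ => Nat) (finTab_s_42_45 c) (finTab_s_45_49 c) (Nat.ble 45 c)
noncomputable def finTab_s_50_52 (c : Nat) : Nat := @Bool.rec (fun _ => Nat) (finTab_50) (finTab_51) (Nat.ble 51 c)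
noncomputable def finTab_s_49_52 (c : Nat) : Nat := @Bool.rec (fun _ => Nat) (finTab_49) (finTab_s_50_52 c) (Nat.ble 50 c)
noncomputable def finTab_s_52_54 (c : Nat) : Nat := @Bool.rec (fun _ => Nat) (finTab_52) (finTab_53) (Nat.ble 53 c)
noncomputable def finTab_s_54_56 (c : Nat) : Nat := @Bool.rec (fun _ => Nat) (finTab_54) (finTab_55) (Nat.ble 55 c)
noncomputable def finTab_s_52_56 (c : Nat) : Nat := @Bool.rec (fun _ => Nat) (finTab_s_52_54 c) (finTab_s_54_56 c) (Nat.ble 54 c)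
noncomputable def finTab_s_49_56 (c : Nat) : Nat := @Bool.rec (fun _ => Nat) (finTab_s_49_52 c) (finTab_s_52_56 c) (Nat.ble 52 c)
noncomputable def finTab_s_42_56 (c : Nat) : Nat := @Bool.rec (fun _ => Nat) (finTab_s_42_49 c) (finTab_s_49_56 c) (Nat.ble 49 c)
noncomputable def finTab_s_28_56 (c : Nat) : Nat := @Bool.rec (fun _ => Nat) (finTab_s_28_42 c) (finTab_s_42_56 c) (Nat.ble 42 c)
noncomputable def finTab_s_0_56 (c : Nat) : Nat := @Bool.rec (fun _ => Nat) (finTab_s_0_28 c) (finTab_s_28_56 c) (Nat.ble 28 c)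
noncomputable def finTab_s_57_59 (c : Nat) : Nat := @Bool.rec (fun _ => Nat) (finTab_57) (finTab_58) (Nat.ble 58 c)
noncomputable def finTab_s_56_59 (c : Nat) : Nat := @Bool.rec (fun _ => Nat) (finTab_56) (finTab_s_57_59 c) (Nat.ble 57 c)
noncomputable def finTab_s_59_61 (c : Nat) : Nat := @Bool.rec (fun _ => Nat) (finTab_59) (finTab_60) (Nat.ble 60 c)
noncomputable def finTab_s_61_63 (c : Nat) : Nat := @Bool.rec (fun _ => Nat) (finTab_61) (finTab_62) (Nat.ble 62 c)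
noncomputable def finTab_s_59_63 (c : Nat) : Nat := @Bool.rec (fun _ => Nat) (finTab_s_59_61 c) (finTab_s_61_63 c) (Nat.ble 61 c)
noncomputable def finTab_s_56_63 (c : Nat) : Nat := @Bool.rec (fun _ => Nat) (finTab_s_56_59 c) (finTab_s_59_63 c) (Nat.ble 59 c)
noncomputable def finTab_s_64_66 (c : Nat) : Nat := @Bool.rec (fun _ => Nat) (finTab_64) (finTab_65) (Nat.ble 65 c)
noncomputable def finTab_s_63_66 (c : Nat) : Nat := @Bool.rec (fun _ => Nat) (finTab_63) (finTab_s_64_66 c) (Nat.ble 64 c)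
noncomputable def finTab_s_66_68 (c : Nat) : Nat := @Bool.rec (fun _ => Nat) (finTab_66) (finTab_67) (Nat.ble 67 c)
noncomputable def finTab_s_68_70 (c : Nat) : Nat := @Bool.rec (fun _ => Nat) (finTab_68) (finTab_69) (Nat.ble 69 c)
noncomputable def finTab_s_66_70 (c : Nat) : Nat := @Bool.rec (fun _ => Nat) (finTab_s_66_68 c) (finTab_s_68_70 c) (Nat.ble 68 c)
noncomputable def finTab_s_63_70 (c : Nat) : Nat := @Bool.rec (fun _ => Nat) (finTab_s_63_66 c) (finTab_s_66_70 c) (Nat.ble 66 c)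
noncomputable def finTab_s_56_70 (c : Nat) : Nat := @Bool.rec (fun _ => Nat) (finTab_s_56_63 c) (finTab_s_63_70 c) (Nat.ble 63 c)
noncomputable def finTab_s_71_73 (c : Nat) : Nat := @Bool.rec (fun _ => Nat) (finTab_71) (finTab_72) (Nat.ble 72 c)
noncomputable def finTab_s_70_73 (c : Nat) : Nat := @Bool.rec (fun _ => Nat) (finTab_70) (finTab_s_71_73 c) (Nat.ble 71 c)
noncomputable def finTab_s_73_75 (c : Nat) : Nat := @Bool.rec (fun _ => Nat) (finTab_73) (finTab_74) (Nat.ble 74 c)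
noncomputable def finTab_s_75_77 (c : Nat) : Nat := @Bool.rec (fun _ => Nat) (finTab_75) (finTab_76) (Nat.ble 76 c)
noncomputable def finTab_s_73_77 (c : Nat) : Nat := @Bool.rec (fun _ => Nat) (finTab_s_73_75 c) (finTab_s_75_77 c) (Nat.ble 75 c)
noncomputable def finTab_s_70_77 (c : Nat) : Nat := @Bool.rec (fun _ => Nat) (finTab_s_70_73 c) (finTab_s_73_77 c) (Nat.ble 73 c)
noncomputable def finTab_s_78_80 (c : Nat) : Nat := @Bool.rec (fun _ => Nat) (finTab_78) (finTab_79) (Nat.ble 79 c)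
noncomputable def finTab_s_77_80 (c : Nat) : Nat := @Bool.rec (fun _ => Nat) (finTab_77) (finTab_s_78_80 c) (Nat.ble 78 c)
noncomputable def finTab_s_80_82 (c : Nat) : Nat := @Bool.rec (fun _ => Nat) (finTab_80) (finTab_81) (Nat.ble 81 c)
noncomputable def finTab_s_82_84 (c : Nat) : Nat := @Bool.rec (fun _ => Nat) (finTab_82) (finTab_83) (Nat.ble 83 c)
noncomputable def finTab_s_80_84 (c : Nat) : Nat := @Bool.rec (fun _ => Nat) (finTab_s_80_82 c) (finTab_s_82_84 c) (Nat.ble 82 c)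
noncomputable def finTab_s_77_84 (c : Nat) : Nat := @Bool.rec (fun _ => Nat) (finTab_s_77_80 c) (finTab_s_80_84 c) (Nat.ble 80 c)
noncomputable def finTab_s_70_84 (c : Nat) : Nat := @Bool.rec (fun _ => Nat) (finTab_s_70_77 c) (finTab_s_77_84 c) (Nat.ble 77 c)
noncomputable def finTab_s_56_84 (c : Nat) : Nat := @Bool.rec (fun _ => Nat) (finTab_s_56_70 c) (finTab_s_70_84 c) (Nat.ble 70 c)
noncomputable def finTab_s_85_87 (c : Nat) : Nat := @Bool.rec (fun _ => Nat) (finTab_85) (finTab_86) (Nat.ble 86 c)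
noncomputable def finTab_s_84_87 (c : Nat) : Nat := @Bool.rec (fun _ => Nat) (finTab_84) (finTab_s_85_87 c) (Nat.ble 85 c)
noncomputable def finTab_s_87_89 (c : Nat) : Nat := @Bool.rec (fun _ => Nat) (finTab_87) (finTab_88) (Nat.ble 88 c)
noncomputable def finTab_s_89_91 (c : Nat) : Nat := @Bool.rec (fun _ => Nat) (finTab_89) (finTab_90) (Nat.ble 90 c)
noncomputable def finTab_s_87_91 (c : Nat) : Nat := @Bool.rec (fun _ => Nat) (finTab_s_87_89 c) (finTab_s_89_91 c) (Nat.ble 89 c)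
noncomputable def finTab_s_84_91 (c : Nat) : Nat := @Bool.rec (fun _ => Nat) (finTab_s_84_87 c) (finTab_s_87_91 c) (Nat.ble 87 c)
noncomputable def finTab_s_92_94 (c : Nat) : Nat := @Bool.rec (fun _ => Nat) (finTab_92) (finTab_93) (Nat.ble 93 c)
noncomputable def finTab_s_91_94 (c : Nat) : Nat := @Bool.rec (fun _ => Nat) (finTab_91) (finTab_s_92_94 c) (Nat.ble 92 c)
noncomputable def finTab_s_94_96 (c : Nat) : Nat := @Bool.rec (fun _ => Nat) (finTab_94) (finTab_95) (Nat.ble 95 c)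
noncomputable def finTab_s_96_98 (c : Nat) : Nat := @Bool.rec (fun _ => Nat) (finTab_96) (finTab_97) (Nat.ble 97 c)
noncomputable def finTab_s_94_98 (c : Nat) : Nat := @Bool.rec (fun _ => Nat) (finTab_s_94_96 c) (finTab_s_96_98 c) (Nat.ble 96 c)
noncomputable def finTab_s_91_98 (c : Nat) : Nat := @Bool.rec (fun _ => Nat) (finTab_s_91_94 c) (finTab_s_94_98 c) (Nat.ble 94 c)
noncomputable def finTab_s_84_98 (c : Nat) : Nat := @Bool.rec (fun _ => Nat) (finTab_s_84_91 c) (finTab_s_91_98 c) (Nat.ble 91 c)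
noncomputable def finTab_s_99_101 (c : Nat) : Nat := @Bool.rec (fun _ => Nat) (finTab_99) (finTab_100) (Nat.ble 100 c)
noncomputable def finTab_s_98_101 (c : Nat) : Nat := @Bool.rec (fun _ => Nat) (finTab_98) (finTab_s_99_101 c) (Nat.ble 99 c)
noncomputable def finTab_s_101_103 (c : Nat) : Nat := @Bool.rec (fun _ => Nat) (finTab_101) (finTab_102) (Nat.ble 102 c)
noncomputable def finTab_s_103_105 (c : Nat) : Nat := @Bool.rec (fun _ => Nat) (finTab_103) (finTab_104) (Nat.ble 104 c)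
noncomputable def finTab_s_101_105 (c : Nat) : Nat := @Bool.rec (fun _ => Nat) (finTab_s_101_103 c) (finTab_s_103_105 c) (Nat.ble 103 c)
noncomputable def finTab_s_98_105 (c : Nat) : Nat := @Bool.rec (fun _ => Nat) (finTab_s_98_101 c) (finTab_s_101_105 c) (Nat.ble 101 c)
noncomputable def finTab_s_106_108 (c : Nat) : Nat := @Bool.rec (fun _ => Nat) (finTab_106) (finTab_107) (Nat.ble 107 c)
noncomputable def finTab_s_105_108 (c : Nat) : Nat := @Bool.rec (fun _ => Nat) (finTab_105) (finTab_s_106_108 c) (Nat.ble 106 c)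
noncomputable def finTab_s_108_110 (c : Nat) : Nat := @Bool.rec (fun _ => Nat) (finTab_108) (finTab_109) (Nat.ble 109 c)
noncomputable def finTab_s_110_112 (c : Nat) : Nat := @Bool.rec (fun _ => Nat) (finTab_110) (finTab_111) (Nat.ble 111 c)
noncomputable def finTab_s_108_112 (c : Nat) : Nat := @Bool.rec (fun _ => Nat) (finTab_s_108_110 c) (finTab_s_110_112 c) (Nat.ble 110 c)
noncomputable def finTab_s_105_112 (c : Nat) : Nat := @Bool.rec (fun _ => Nat) (finTab_s_105_108 c) (finTab_s_108_112 c) (Nat.ble 108 c)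
noncomputable def finTab_s_98_112 (c : Nat) : Nat := @Bool.rec (fun _ => Nat) (finTab_s_98_105 c) (finTab_s_105_112 c) (Nat.ble 105 c)
noncomputable def finTab_s_84_112 (c : Nat) : Nat := @Bool.rec (fun _ => Nat) (finTab_s_84_98 c) (finTab_s_98_112 c) (Nat.ble 98 c)
noncomputable def finTab_s_56_112 (c : Nat) : Nat := @Bool.rec (fun _ => Nat) (finTab_s_56_84 c) (finTab_s_84_112 c) (Nat.ble 84 c)
noncomputable def finTab_s_0_112 (c : Nat) : Nat := @Bool.rec (fun _ => Nat) (finTab_s_0_56 c) (finTab_s_56_112 c) (Nat.ble 56 c)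
noncomputable def finTab_s_113_115 (c : Nat) : Nat := @Bool.rec (fun _ => Nat) (finTab_113) (finTab_114) (Nat.ble 114 c)
noncomputable def finTab_s_112_115 (c : Nat) : Nat := @Bool.rec (fun _ => Nat) (finTab_112) (finTab_s_113_115 c) (Nat.ble 113 c)
noncomputable def finTab_s_115_117 (c : Nat) : Nat := @Bool.rec (fun _ => Nat) (finTab_115) (finTab_116) (Nat.ble 116 c)
noncomputable def finTab_s_117_119 (c : Nat) : Nat := @Bool.rec (fun _ => Nat) (finTab_117) (finTab_118) (Nat.ble 118 c)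
noncomputable def finTab_s_115_119 (c : Nat) : Nat := @Bool.rec (fun _ => Nat) (finTab_s_115_117 c) (finTab_s_117_119 c) (Nat.ble 117 c)
noncomputable def finTab_s_112_119 (c : Nat) : Nat := @Bool.rec (fun _ => Nat) (finTab_s_112_115 c) (finTab_s_115_119 c) (Nat.ble 115 c)
noncomputable def finTab_s_120_122 (c : Nat) : Nat := @Bool.rec (fun _ => Nat) (finTab_120) (finTab_121) (Nat.ble 121 c)
noncomputable def finTab_s_119_122 (c : Nat) : Nat := @Bool.rec (fun _ => Nat) (finTab_119) (finTab_s_120_122 c) (Nat.ble 120 c)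
noncomputable def finTab_s_122_124 (c : Nat) : Nat := @Bool.rec (fun _ => Nat) (finTab_122) (finTab_123) (Nat.ble 123 c)
noncomputable def finTab_s_124_126 (c : Nat) : Nat := @Bool.rec (fun _ => Nat) (finTab_124) (finTab_125) (Nat.ble 125 c)
noncomputable def finTab_s_122_126 (c : Nat) : Nat := @Bool.rec (fun _ => Nat) (finTab_s_122_124 c) (finTab_s_124_126 c) (Nat.ble 124 c)
noncomputable def finTab_s_119_126 (c : Nat) : Nat := @Bool.rec (fun _ => Nat) (finTab_s_119_122 c) (finTab_s_122_126 c) (Nat.ble 122 c)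
noncomputable def finTab_s_112_126 (c : Nat) : Nat := @Bool.rec (fun _ => Nat) (finTab_s_112_119 c) (finTab_s_119_126 c) (Nat.ble 119 c)
noncomputable def finTab_s_127_129 (c : Nat) : Nat := @Bool.rec (fun _ => Nat) (finTab_127) (finTab_128) (Nat.ble 128 c)
noncomputable def finTab_s_126_129 (c : Nat) : Nat := @Bool.rec (fun _ => Nat) (finTab_126) (finTab_s_127_129 c) (Nat.ble 127 c)
noncomputable def finTab_s_129_131 (c : Nat) : Nat := @Bool.rec (fun _ => Nat) (finTab_129) (finTab_130) (Nat.ble 130 c)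
noncomputable def finTab_s_131_133 (c : Nat) : Nat := @Bool.rec (fun _ => Nat) (finTab_131) (finTab_132) (Nat.ble 132 c)
noncomputable def finTab_s_129_133 (c : Nat) : Nat := @Bool.rec (fun _ => Nat) (finTab_s_129_131 c) (finTab_s_131_133 c) (Nat.ble 131 c)
noncomputable def finTab_s_126_133 (c : Nat) : Nat := @Bool.rec (fun _ => Nat) (finTab_s_126_129 c) (finTab_s_129_133 c) (Nat.ble 129 c)
noncomputable def finTab_s_134_136 (c : Nat) : Nat := @Bool.rec (fun _ => Nat) (finTab_134) (finTab_135) (Nat.ble 135 c)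
noncomputable def finTab_s_133_136 (c : Nat) : Nat := @Bool.rec (fun _ => Nat) (finTab_133) (finTab_s_134_136 c) (Nat.ble 134 c)
noncomputable def finTab_s_136_138 (c : Nat) : Nat := @Bool.rec (fun _ => Nat) (finTab_136) (finTab_137) (Nat.ble 137 c)
noncomputable def finTab_s_138_140 (c : Nat) : Nat := @Bool.rec (fun _ => Nat) (finTab_138) (finTab_139) (Nat.ble 139 c)
noncomputable def finTab_s_136_140 (c : Nat) : Nat := @Bool.rec (fun _ => Nat) (finTab_s_136_138 c) (finTab_s_138_140 c) (Nat.ble 138 c)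
noncomputable def finTab_s_133_140 (c : Nat) : Nat := @Bool.rec (fun _ => Nat) (finTab_s_133_136 c) (finTab_s_136_140 c) (Nat.ble 136 c)
noncomputable def finTab_s_126_140 (c : Nat) : Nat := @Bool.rec (fun _ => Nat) (finTab_s_126_133 c) (finTab_s_133_140 c) (Nat.ble 133 c)
noncomputable def finTab_s_112_140 (c : Nat) : Nat := @Bool.rec (fun _ => Nat) (finTab_s_112_126 c) (finTab_s_126_140 c) (Nat.ble 126 c)
noncomputable def finTab_s_141_143 (c : Nat) : Nat := @Bool.rec (fun _ => Nat) (finTab_141) (finTab_142) (Nat.ble 142 c)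
noncomputable def finTab_s_140_143 (c : Nat) : Nat := @Bool.rec (fun _ => Nat) (finTab_140) (finTab_s_141_143 c) (Nat.ble 141 c)
noncomputable def finTab_s_143_145 (c : Nat) : Nat := @Bool.rec (fun _ => Nat) (finTab_143) (finTab_144) (Nat.ble 144 c)
noncomputable def finTab_s_145_147 (c : Nat) : Nat := @Bool.rec (fun _ => Nat) (finTab_145) (finTab_146) (Nat.ble 146 c)
noncomputable def finTab_s_143_147 (c : Nat) : Nat := @Bool.rec (fun _ => Nat) (finTab_s_143_145 c) (finTab_s_145_147 c) (Nat.ble 145 c)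
noncomputable def finTab_s_140_147 (c : Nat) : Nat := @Bool.rec (fun _ => Nat) (finTab_s_140_143 c) (finTab_s_143_147 c) (Nat.ble 143 c)
noncomputable def finTab_s_148_150 (c : Nat) : Nat := @Bool.rec (fun _ => Nat) (finTab_148) (finTab_149) (Nat.ble 149 c)
noncomputable def finTab_s_147_150 (c : Nat) : Nat := @Bool.rec (fun _ => Nat) (finTab_147) (finTab_s_148_150 c) (Nat.ble 148 c)
noncomputable def finTab_s_150_152 (c : Nat) : Nat := @Bool.rec (fun _ => Nat) (finTab_150) (finTab_151) (Nat.ble 151 c)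
noncomputable def finTab_s_152_154 (c : Nat) : Nat := @Bool.rec (fun _ => Nat) (finTab_152) (finTab_153) (Nat.ble 153 c)
noncomputable def finTab_s_150_154 (c : Nat) : Nat := @Bool.rec (fun _ => Nat) (finTab_s_150_152 c) (finTab_s_152_154 c) (Nat.ble 152 c)
noncomputable def finTab_s_147_154 (c : Nat) : Nat := @Bool.rec (fun _ => Nat) (finTab_s_147_150 c) (finTab_s_150_154 c) (Nat.ble 150 c)
noncomputable def finTab_s_140_154 (c : Nat) : Nat := @Bool.rec (fun _ => Nat) (finTab_s_140_147 c) (finTab_s_147_154 c) (Nat.ble 147 c)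
noncomputable def finTab_s_155_157 (c : Nat) : Nat := @Bool.rec (fun _ => Nat) (finTab_155) (finTab_156) (Nat.ble 156 c)
noncomputable def finTab_s_154_157 (c : Nat) : Nat := @Bool.rec (fun _ => Nat) (finTab_154) (finTab_s_155_157 c) (Nat.ble 155 c)
noncomputable def finTab_s_157_159 (c : Nat) : Nat := @Bool.rec (fun _ => Nat) (finTab_157) (finTab_158) (Nat.ble 158 c)
noncomputable def finTab_s_159_161 (c : Nat) : Nat := @Bool.rec (fun _ => Nat) (finTab_159) (finTab_160) (Nat.ble 160 c)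
noncomputable def finTab_s_157_161 (c : Nat) : Nat := @Bool.rec (fun _ => Nat) (finTab_s_157_159 c) (finTab_s_159_161 c) (Nat.ble 159 c)
noncomputable def finTab_s_154_161 (c : Nat) : Nat := @Bool.rec (fun _ => Nat) (finTab_s_154_157 c) (finTab_s_157_161 c) (Nat.ble 157 c)
noncomputable def finTab_s_162_164 (c : Nat) : Nat := @Bool.rec (fun _ => Nat) (finTab_162) (finTab_163) (Nat.ble 163 c)
noncomputable def finTab_s_161_164 (c : Nat) : Nat := @Bool.rec (fun _ => Nat) (finTab_161) (finTab_s_162_164 c) (Nat.ble 162 c)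
noncomputable def finTab_s_164_166 (c : Nat) : Nat := @Bool.rec (fun _ => Nat) (finTab_164) (finTab_165) (Nat.ble 165 c)
noncomputable def finTab_s_166_168 (c : Nat) : Nat := @Bool.rec (fun _ => Nat) (finTab_166) (finTab_167) (Nat.ble 167 c)
noncomputable def finTab_s_164_168 (c : Nat) : Nat := @Bool.rec (fun _ => Nat) (finTab_s_164_166 c) (finTab_s_166_168 c) (Nat.ble 166 c)
noncomputable def finTab_s_161_168 (c : Nat) : Nat := @Bool.rec (fun _ => Nat) (finTab_s_161_164 c) (finTab_s_164_168 c) (Nat.ble 164 c)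
noncomputable def finTab_s_154_168 (c : Nat) : Nat := @Bool.rec (fun _ => Nat) (finTab_s_154_161 c) (finTab_s_161_168 c) (Nat.ble 161 c)
noncomputable def finTab_s_140_168 (c : Nat) : Nat := @Bool.rec (fun _ => Nat) (finTab_s_140_154 c) (finTab_s_154_168 c) (Nat.ble 154 c)
noncomputable def finTab_s_112_168 (c : Nat) : Nat := @Bool.rec (fun _ => Nat) (finTab_s_112_140 c) (finTab_s_140_168 c) (Nat.ble 140 c)
noncomputable def finTab_s_169_171 (c : Nat) : Nat := @Bool.rec (fun _ => Nat) (finTab_169) (finTab_170) (Nat.ble 170 c)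
noncomputable def finTab_s_168_171 (c : Nat) : Nat := @Bool.rec (fun _ => Nat) (finTab_168) (finTab_s_169_171 c) (Nat.ble 169 c)
noncomputable def finTab_s_171_173 (c : Nat) : Nat := @Bool.rec (fun _ => Nat) (finTab_171) (finTab_172) (Nat.ble 172 c)
noncomputable def finTab_s_173_175 (c : Nat) : Nat := @Bool.rec (fun _ => Nat) (finTab_173) (finTab_174) (Nat.ble 174 c)
noncomputable def finTab_s_171_175 (c : Nat) : Nat := @Bool.rec (fun _ => Nat) (finTab_s_171_173 c) (finTab_s_173_175 c) (Nat.ble 173 c)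
noncomputable def finTab_s_168_175 (c : Nat) : Nat := @Bool.rec (fun _ => Nat) (finTab_s_168_171 c) (finTab_s_171_175 c) (Nat.ble 171 c)
noncomputable def finTab_s_176_178 (c : Nat) : Nat := @Bool.rec (fun _ => Nat) (finTab_176) (finTab_177) (Nat.ble 177 c)
noncomputable def finTab_s_175_178 (c : Nat) : Nat := @Bool.rec (fun _ => Nat) (finTab_175) (finTab_s_176_178 c) (Nat.ble 176 c)
noncomputable def finTab_s_178_180 (c : Nat) : Nat := @Bool.rec (fun _ => Nat) (finTab_178) (finTab_179) (Nat.ble 179 c)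
noncomputable def finTab_s_180_182 (c : Nat) : Nat := @Bool.rec (fun _ => Nat) (finTab_180) (finTab_181) (Nat.ble 181 c)
noncomputable def finTab_s_178_182 (c : Nat) : Nat := @Bool.rec (fun _ => Nat) (finTab_s_178_180 c) (finTab_s_180_182 c) (Nat.ble 180 c)
noncomputable def finTab_s_175_182 (c : Nat) : Nat := @Bool.rec (fun _ => Nat) (finTab_s_175_178 c) (finTab_s_178_182 c) (Nat.ble 178 c)
noncomputable def finTab_s_168_182 (c : Nat) : Nat := @Bool.rec (fun _ => Nat) (finTab_s_168_175 c) (finTab_s_175_182 c) (Nat.ble 175 c)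
noncomputable def finTab_s_183_185 (c : Nat) : Nat := @Bool.rec (fun _ => Nat) (finTab_183) (finTab_184) (Nat.ble 184 c)
noncomputable def finTab_s_182_185 (c : Nat) : Nat := @Bool.rec (fun _ => Nat) (finTab_182) (finTab_s_183_185 c) (Nat.ble 183 c)
noncomputable def finTab_s_185_187 (c : Nat) : Nat := @Bool.rec (fun _ => Nat) (finTab_185) (finTab_186) (Nat.ble 186 c)
noncomputable def finTab_s_187_189 (c : Nat) : Nat := @Bool.rec (fun _ => Nat) (finTab_187) (finTab_188) (Nat.ble 188 c)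
noncomputable def finTab_s_185_189 (c : Nat) : Nat := @Bool.rec (fun _ => Nat) (finTab_s_185_187 c) (finTab_s_187_189 c) (Nat.ble 187 c)
noncomputable def finTab_s_182_189 (c : Nat) : Nat := @Bool.rec (fun _ => Nat) (finTab_s_182_185 c) (finTab_s_185_189 c) (Nat.ble 185 c)
noncomputable def finTab_s_190_192 (c : Nat) : Nat := @Bool.rec (fun _ => Nat) (finTab_190) (finTab_191) (Nat.ble 191 c)
noncomputable def finTab_s_189_192 (c : Nat) : Nat := @Bool.rec (fun _ => Nat) (finTab_189) (finTab_s_190_192 c) (Nat.ble 190 c)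
noncomputable def finTab_s_192_194 (c : Nat) : Nat := @Bool.rec (fun _ => Nat) (finTab_192) (finTab_193) (Nat.ble 193 c)
noncomputable def finTab_s_194_196 (c : Nat) : Nat := @Bool.rec (fun _ => Nat) (finTab_194) (finTab_195) (Nat.ble 195 c)
noncomputable def finTab_s_192_196 (c : Nat) : Nat := @Bool.rec (fun _ => Nat) (finTab_s_192_194 c) (finTab_s_194_196 c) (Nat.ble 194 c)
noncomputable def finTab_s_189_196 (c : Nat) : Nat := @Bool.rec (fun _ => Nat) (finTab_s_189_192 c) (finTab_s_192_196 c) (Nat.ble 192 c)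
noncomputable def finTab_s_182_196 (c : Nat) : Nat := @Bool.rec (fun _ => Nat) (finTab_s_182_189 c) (finTab_s_189_196 c) (Nat.ble 189 c)
noncomputable def finTab_s_168_196 (c : Nat) : Nat := @Bool.rec (fun _ => Nat) (finTab_s_168_182 c) (finTab_s_182_196 c) (Nat.ble 182 c)
noncomputable def finTab_s_197_199 (c : Nat) : Nat := @Bool.rec (fun _ => Nat) (finTab_197) (finTab_198) (Nat.ble 198 c)
noncomputable def finTab_s_196_199 (c : Nat) : Nat := @Bool.rec (fun _ => Nat) (finTab_196) (finTab_s_197_199 c) (Nat.ble 197 c)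
noncomputable def finTab_s_199_201 (c : Nat) : Nat := @Bool.rec (fun _ => Nat) (finTab_199) (finTab_200) (Nat.ble 200 c)
noncomputable def finTab_s_201_203 (c : Nat) : Nat := @Bool.rec (fun _ => Nat) (finTab_201) (finTab_202) (Nat.ble 202 c)
noncomputable def finTab_s_199_203 (c : Nat) : Nat := @Bool.rec (fun _ => Nat) (finTab_s_199_201 c) (finTab_s_201_203 c) (Nat.ble 201 c)
noncomputable def finTab_s_196_203 (c : Nat) : Nat := @Bool.rec (fun _ => Nat) (finTab_s_196_199 c) (finTab_s_199_203 c) (Nat.ble 199 c)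
noncomputable def finTab_s_204_206 (c : Nat) : Nat := @Bool.rec (fun _ => Nat) (finTab_204) (finTab_205) (Nat.ble 205 c)
noncomputable def finTab_s_203_206 (c : Nat) : Nat := @Bool.rec (fun _ => Nat) (finTab_203) (finTab_s_204_206 c) (Nat.ble 204 c)
noncomputable def finTab_s_206_208 (c : Nat) : Nat := @Bool.rec (fun _ => Nat) (finTab_206) (finTab_207) (Nat.ble 207 c)
noncomputable def finTab_s_208_210 (c : Nat) : Nat := @Bool.rec (fun _ => Nat) (finTab_208) (finTab_209) (Nat.ble 209 c)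
noncomputable def finTab_s_206_210 (c : Nat) : Nat := @Bool.rec (fun _ => Nat) (finTab_s_206_208 c) (finTab_s_208_210 c) (Nat.ble 208 c)
noncomputable def finTab_s_203_210 (c : Nat) : Nat := @Bool.rec (fun _ => Nat) (finTab_s_203_206 c) (finTab_s_206_210 c) (Nat.ble 206 c)
noncomputable def finTab_s_196_210 (c : Nat) : Nat := @Bool.rec (fun _ => Nat) (finTab_s_196_203 c) (finTab_s_203_210 c) (Nat.ble 203 c)
noncomputable def finTab_s_211_213 (c : Nat) : Nat := @Bool.rec (fun _ => Nat) (finTab_211) (finTab_212) (Nat.ble 212 c)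
noncomputable def finTab_s_210_213 (c : Nat) : Nat := @Bool.rec (fun _ => Nat) (finTab_210) (finTab_s_211_213 c) (Nat.ble 211 c)
noncomputable def finTab_s_213_215 (c : Nat) : Nat := @Bool.rec (fun _ => Nat) (finTab_213) (finTab_214) (Nat.ble 214 c)
noncomputable def finTab_s_215_217 (c : Nat) : Nat := @Bool.rec (fun _ => Nat) (finTab_215) (finTab_216) (Nat.ble 216 c)
noncomputable def finTab_s_213_217 (c : Nat) : Nat := @Bool.rec (fun _ => Nat) (finTab_s_213_215 c) (finTab_s_215_217 c) (Nat.ble 215 c)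
noncomputable def finTab_s_210_217 (c : Nat) : Nat := @Bool.rec (fun _ => Nat) (finTab_s_210_213 c) (finTab_s_213_217 c) (Nat.ble 213 c)
noncomputable def finTab_s_217_219 (c : Nat) : Nat := @Bool.rec (fun _ => Nat) (finTab_217) (finTab_218) (Nat.ble 218 c)
noncomputable def finTab_s_219_221 (c : Nat) : Nat := @Bool.rec (fun _ => Nat) (finTab_219) (finTab_220) (Nat.ble 220 c)
noncomputable def finTab_s_217_221 (c : Nat) : Nat := @Bool.rec (fun _ => Nat) (finTab_s_217_219 c) (finTab_s_219_221 c) (Nat.ble 219 c)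
noncomputable def finTab_s_221_223 (c : Nat) : Nat := @Bool.rec (fun _ => Nat) (finTab_221) (finTab_222) (Nat.ble 222 c)
noncomputable def finTab_s_223_225 (c : Nat) : Nat := @Bool.rec (fun _ => Nat) (finTab_223) (finTab_224) (Nat.ble 224 c)
noncomputable def finTab_s_221_225 (c : Nat) : Nat := @Bool.rec (fun _ => Nat) (finTab_s_221_223 c) (finTab_s_223_225 c) (Nat.ble 223 c)
noncomputable def finTab_s_217_225 (c : Nat) : Nat := @Bool.rec (fun _ => Nat) (finTab_s_217_221 c) (finTab_s_221_225 c) (Nat.ble 221 c)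
noncomputable def finTab_s_210_225 (c : Nat) : Nat := @Bool.rec (fun _ => Nat) (finTab_s_210_217 c) (finTab_s_217_225 c) (Nat.ble 217 c)
noncomputable def finTab_s_196_225 (c : Nat) : Nat := @Bool.rec (fun _ => Nat) (finTab_s_196_210 c) (finTab_s_210_225 c) (Nat.ble 210 c)
noncomputable def finTab_s_168_225 (c : Nat) : Nat := @Bool.rec (fun _ => Nat) (finTab_s_168_196 c) (finTab_s_196_225 c) (Nat.ble 196 c)
noncomputable def finTab_s_112_225 (c : Nat) : Nat := @Bool.rec (fun _ => Nat) (finTab_s_112_168 c) (finTab_s_168_225 c) (Nat.ble 168 c)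
noncomputable def finTab_s_0_225 (c : Nat) : Nat := @Bool.rec (fun _ => Nat) (finTab_s_0_112 c) (finTab_s_112_225 c) (Nat.ble 112 c)
noncomputable def finTab_s_226_228 (c : Nat) : Nat := @Bool.rec (fun _ => Nat) (finTab_226) (finTab_227) (Nat.ble 227 c)
noncomputable def finTab_s_225_228 (c : Nat) : Nat := @Bool.rec (fun _ => Nat) (finTab_225) (finTab_s_226_228 c) (Nat.ble 226 c)
noncomputable def finTab_s_228_230 (c : Nat) : Nat := @Bool.rec (fun _ => Nat) (finTab_228) (finTab_229) (Nat.ble 229 c)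
noncomputable def finTab_s_230_232 (c : Nat) : Nat := @Bool.rec (fun _ => Nat) (finTab_230) (finTab_231) (Nat.ble 231 c)
noncomputable def finTab_s_228_232 (c : Nat) : Nat := @Bool.rec (fun _ => Nat) (finTab_s_228_230 c) (finTab_s_230_232 c) (Nat.ble 230 c)
noncomputable def finTab_s_225_232 (c : Nat) : Nat := @Bool.rec (fun _ => Nat) (finTab_s_225_228 c) (finTab_s_228_232 c) (Nat.ble 228 c)
noncomputable def finTab_s_233_235 (c : Nat) : Nat := @Bool.rec (fun _ => Nat) (finTab_233) (finTab_234) (Nat.ble 234 c)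
noncomputable def finTab_s_232_235 (c : Nat) : Nat := @Bool.rec (fun _ => Nat) (finTab_232) (finTab_s_233_235 c) (Nat.ble 233 c)
noncomputable def finTab_s_235_237 (c : Nat) : Nat := @Bool.rec (fun _ => Nat) (finTab_235) (finTab_236) (Nat.ble 236 c)
noncomputable def finTab_s_237_239 (c : Nat) : Nat := @Bool.rec (fun _ => Nat) (finTab_237) (finTab_238) (Nat.ble 238 c)
noncomputable def finTab_s_235_239 (c : Nat) : Nat := @Bool.rec (fun _ => Nat) (finTab_s_235_237 c) (finTab_s_237_239 c) (Nat.ble 237 c)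
noncomputable def finTab_s_232_239 (c : Nat) : Nat := @Bool.rec (fun _ => Nat) (finTab_s_232_235 c) (finTab_s_235_239 c) (Nat.ble 235 c)
noncomputable def finTab_s_225_239 (c : Nat) : Nat := @Bool.rec (fun _ => Nat) (finTab_s_225_232 c) (finTab_s_232_239 c) (Nat.ble 232 c)
noncomputable def finTab_s_240_242 (c : Nat) : Nat := @Bool.rec (fun _ => Nat) (finTab_240) (finTab_241) (Nat.ble 241 c)
noncomputable def finTab_s_239_242 (c : Nat) : Nat := @Bool.rec (fun _ => Nat) (finTab_239) (finTab_s_240_242 c) (Nat.ble 240 c)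
noncomputable def finTab_s_242_244 (c : Nat) : Nat := @Bool.rec (fun _ => Nat) (finTab_242) (finTab_243) (Nat.ble 243 c)
noncomputable def finTab_s_244_246 (c : Nat) : Nat := @Bool.rec (fun _ => Nat) (finTab_244) (finTab_245) (Nat.ble 245 c)
noncomputable def finTab_s_242_246 (c : Nat) : Nat := @Bool.rec (fun _ => Nat) (finTab_s_242_244 c) (finTab_s_244_246 c) (Nat.ble 244 c)
noncomputable def finTab_s_239_246 (c : Nat) : Nat := @Bool.rec (fun _ => Nat) (finTab_s_239_242 c) (finTab_s_242_246 c) (Nat.ble 242 c)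
noncomputable def finTab_s_247_249 (c : Nat) : Nat := @Bool.rec (fun _ => Nat) (finTab_247) (finTab_248) (Nat.ble 248 c)
noncomputable def finTab_s_246_249 (c : Nat) : Nat := @Bool.rec (fun _ => Nat) (finTab_246) (finTab_s_247_249 c) (Nat.ble 247 c)
noncomputable def finTab_s_249_251 (c : Nat) : Nat := @Bool.rec (fun _ => Nat) (finTab_249) (finTab_250) (Nat.ble 250 c)
noncomputable def finTab_s_251_253 (c : Nat) : Nat := @Bool.rec (fun _ => Nat) (finTab_251) (finTab_252) (Nat.ble 252 c)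
noncomputable def finTab_s_249_253 (c : Nat) : Nat := @Bool.rec (fun _ => Nat) (finTab_s_249_251 c) (finTab_s_251_253 c) (Nat.ble 251 c)
noncomputable def finTab_s_246_253 (c : Nat) : Nat := @Bool.rec (fun _ => Nat) (finTab_s_246_249 c) (finTab_s_249_253 c) (Nat.ble 249 c)
noncomputable def finTab_s_239_253 (c : Nat) : Nat := @Bool.rec (fun _ => Nat) (finTab_s_239_246 c) (finTab_s_246_253 c) (Nat.ble 246 c)
noncomputable def finTab_s_225_253 (c : Nat) : Nat := @Bool.rec (fun _ => Nat) (finTab_s_225_239 c) (finTab_s_239_253 c) (Nat.ble 239 c)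
noncomputable def finTab_s_254_256 (c : Nat) : Nat := @Bool.rec (fun _ => Nat) (finTab_254) (finTab_255) (Nat.ble 255 c)
noncomputable def finTab_s_253_256 (c : Nat) : Nat := @Bool.rec (fun _ => Nat) (finTab_253) (finTab_s_254_256 c) (Nat.ble 254 c)
noncomputable def finTab_s_256_258 (c : Nat) : Nat := @Bool.rec (fun _ => Nat) (finTab_256) (finTab_257) (Nat.ble 257 c)
noncomputable def finTab_s_258_260 (c : Nat) : Nat := @Bool.rec (fun _ => Nat) (finTab_258) (finTab_259) (Nat.ble 259 c)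
noncomputable def finTab_s_256_260 (c : Nat) : Nat := @Bool.rec (fun _ => Nat) (finTab_s_256_258 c) (finTab_s_258_260 c) (Nat.ble 258 c)
noncomputable def finTab_s_253_260 (c : Nat) : Nat := @Bool.rec (fun _ => Nat) (finTab_s_253_256 c) (finTab_s_256_260 c) (Nat.ble 256 c)
noncomputable def finTab_s_261_263 (c : Nat) : Nat := @Bool.rec (fun _ => Nat) (finTab_261) (finTab_262) (Nat.ble 262 c)
noncomputable def finTab_s_260_263 (c : Nat) : Nat := @Bool.rec (fun _ => Nat) (finTab_260) (finTab_s_261_263 c) (Nat.ble 261 c)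
noncomputable def finTab_s_263_265 (c : Nat) : Nat := @Bool.rec (fun _ => Nat) (finTab_263) (finTab_264) (Nat.ble 264 c)
noncomputable def finTab_s_265_267 (c : Nat) : Nat := @Bool.rec (fun _ => Nat) (finTab_265) (finTab_266) (Nat.ble 266 c)
noncomputable def finTab_s_263_267 (c : Nat) : Nat := @Bool.rec (fun _ => Nat) (finTab_s_263_265 c) (finTab_s_265_267 c) (Nat.ble 265 c)
noncomputable def finTab_s_260_267 (c : Nat) : Nat := @Bool.rec (fun _ => Nat) (finTab_s_260_263 c) (finTab_s_263_267 c) (Nat.ble 263 c)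
noncomputable def finTab_s_253_267 (c : Nat) : Nat := @Bool.rec (fun _ => Nat) (finTab_s_253_260 c) (finTab_s_260_267 c) (Nat.ble 260 c)
noncomputable def finTab_s_268_270 (c : Nat) : Nat := @Bool.rec (fun _ => Nat) (finTab_268) (finTab_269) (Nat.ble 269 c)
noncomputable def finTab_s_267_270 (c : Nat) : Nat := @Bool.rec (fun _ => Nat) (finTab_267) (finTab_s_268_270 c) (Nat.ble 268 c)
noncomputable def finTab_s_270_272 (c : Nat) : Nat := @Bool.rec (fun _ => Nat) (finTab_270) (finTab_271) (Nat.ble 271 c)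
noncomputable def finTab_s_272_274 (c : Nat) : Nat := @Bool.rec (fun _ => Nat) (finTab_272) (finTab_273) (Nat.ble 273 c)
noncomputable def finTab_s_270_274 (c : Nat) : Nat := @Bool.rec (fun _ => Nat) (finTab_s_270_272 c) (finTab_s_272_274 c) (Nat.ble 272 c)
noncomputable def finTab_s_267_274 (c : Nat) : Nat := @Bool.rec (fun _ => Nat) (finTab_s_267_270 c) (finTab_s_270_274 c) (Nat.ble 270 c)
noncomputable def finTab_s_275_277 (c : Nat) : Nat := @Bool.rec (fun _ => Nat) (finTab_275) (finTab_276) (Nat.ble 276 c)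
noncomputable def finTab_s_274_277 (c : Nat) : Nat := @Bool.rec (fun _ => Nat) (finTab_274) (finTab_s_275_277 c) (Nat.ble 275 c)
noncomputable def finTab_s_277_279 (c : Nat) : Nat := @Bool.rec (fun _ => Nat) (finTab_277) (finTab_278) (Nat.ble 278 c)
noncomputable def finTab_s_279_281 (c : Nat) : Nat := @Bool.rec (fun _ => Nat) (finTab_279) (finTab_280) (Nat.ble 280 c)
noncomputable def finTab_s_277_281 (c : Nat) : Nat := @Bool.rec (fun _ => Nat) (finTab_s_277_279 c) (finTab_s_279_281 c) (Nat.ble 279 c)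
noncomputable def finTab_s_274_281 (c : Nat) : Nat := @Bool.rec (fun _ => Nat) (finTab_s_274_277 c) (finTab_s_277_281 c) (Nat.ble 277 c)
noncomputable def finTab_s_267_281 (c : Nat) : Nat := @Bool.rec (fun _ => Nat) (finTab_s_267_274 c) (finTab_s_274_281 c) (Nat.ble 274 c)
noncomputable def finTab_s_253_281 (c : Nat) : Nat := @Bool.rec (fun _ => Nat) (finTab_s_253_267 c) (finTab_s_267_281 c) (Nat.ble 267 c)
noncomputable def finTab_s_225_281 (c : Nat) : Nat := @Bool.rec (fun _ => Nat) (finTab_s_225_253 c) (finTab_s_253_281 c) (Nat.ble 253 c)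
noncomputable def finTab_s_282_284 (c : Nat) : Nat := @Bool.rec (fun _ => Nat) (finTab_282) (finTab_283) (Nat.ble 283 c)
noncomputable def finTab_s_281_284 (c : Nat) : Nat := @Bool.rec (fun _ => Nat) (finTab_281) (finTab_s_282_284 c) (Nat.ble 282 c)
noncomputable def finTab_s_284_286 (c : Nat) : Nat := @Bool.rec (fun _ => Nat) (finTab_284) (finTab_285) (Nat.ble 285 c)
noncomputable def finTab_s_286_288 (c : Nat) : Nat := @Bool.rec (fun _ => Nat) (finTab_286) (finTab_287) (Nat.ble 287 c)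
noncomputable def finTab_s_284_288 (c : Nat) : Nat := @Bool.rec (fun _ => Nat) (finTab_s_284_286 c) (finTab_s_286_288 c) (Nat.ble 286 c)
noncomputable def finTab_s_281_288 (c : Nat) : Nat := @Bool.rec (fun _ => Nat) (finTab_s_281_284 c) (finTab_s_284_288 c) (Nat.ble 284 c)
noncomputable def finTab_s_289_291 (c : Nat) : Nat := @Bool.rec (fun _ => Nat) (finTab_289) (finTab_290) (Nat.ble 290 c)
noncomputable def finTab_s_288_291 (c : Nat) : Nat := @Bool.rec (fun _ => Nat) (finTab_288) (finTab_s_289_291 c) (Nat.ble 289 c)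
noncomputable def finTab_s_291_293 (c : Nat) : Nat := @Bool.rec (fun _ => Nat) (finTab_291) (finTab_292) (Nat.ble 292 c)
noncomputable def finTab_s_293_295 (c : Nat) : Nat := @Bool.rec (fun _ => Nat) (finTab_293) (finTab_294) (Nat.ble 294 c)
noncomputable def finTab_s_291_295 (c : Nat) : Nat := @Bool.rec (fun _ => Nat) (finTab_s_291_293 c) (finTab_s_293_295 c) (Nat.ble 293 c)
noncomputable def finTab_s_288_295 (c : Nat) : Nat := @Bool.rec (fun _ => Nat) (finTab_s_288_291 c) (finTab_s_291_295 c) (Nat.ble 291 c)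
noncomputable def finTab_s_281_295 (c : Nat) : Nat := @Bool.rec (fun _ => Nat) (finTab_s_281_288 c) (finTab_s_288_295 c) (Nat.ble 288 c)
noncomputable def finTab_s_296_298 (c : Nat) : Nat := @Bool.rec (fun _ => Nat) (finTab_296) (finTab_297) (Nat.ble 297 c)
noncomputable def finTab_s_295_298 (c : Nat) : Nat := @Bool.rec (fun _ => Nat) (finTab_295) (finTab_s_296_298 c) (Nat.ble 296 c)
noncomputable def finTab_s_298_300 (c : Nat) : Nat := @Bool.rec (fun _ => Nat) (finTab_298) (finTab_299) (Nat.ble 299 c)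
noncomputable def finTab_s_300_302 (c : Nat) : Nat := @Bool.rec (fun _ => Nat) (finTab_300) (finTab_301) (Nat.ble 301 c)
noncomputable def finTab_s_298_302 (c : Nat) : Nat := @Bool.rec (fun _ => Nat) (finTab_s_298_300 c) (finTab_s_300_302 c) (Nat.ble 300 c)
noncomputable def finTab_s_295_302 (c : Nat) : Nat := @Bool.rec (fun _ => Nat) (finTab_s_295_298 c) (finTab_s_298_302 c) (Nat.ble 298 c)
noncomputable def finTab_s_303_305 (c : Nat) : Nat := @Bool.rec (fun _ => Nat) (finTab_303) (finTab_304) (Nat.ble 304 c)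
noncomputable def finTab_s_302_305 (c : Nat) : Nat := @Bool.rec (fun _ => Nat) (finTab_302) (finTab_s_303_305 c) (Nat.ble 303 c)
noncomputable def finTab_s_305_307 (c : Nat) : Nat := @Bool.rec (fun _ => Nat) (finTab_305) (finTab_306) (Nat.ble 306 c)
noncomputable def finTab_s_307_309 (c : Nat) : Nat := @Bool.rec (fun _ => Nat) (finTab_307) (finTab_308) (Nat.ble 308 c)
noncomputable def finTab_s_305_309 (c : Nat) : Nat := @Bool.rec (fun _ => Nat) (finTab_s_305_307 c) (finTab_s_307_309 c) (Nat.ble 307 c)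
noncomputable def finTab_s_302_309 (c : Nat) : Nat := @Bool.rec (fun _ => Nat) (finTab_s_302_305 c) (finTab_s_305_309 c) (Nat.ble 305 c)
noncomputable def finTab_s_295_309 (c : Nat) : Nat := @Bool.rec (fun _ => Nat) (finTab_s_295_302 c) (finTab_s_302_309 c) (Nat.ble 302 c)
noncomputable def finTab_s_281_309 (c : Nat) : Nat := @Bool.rec (fun _ => Nat) (finTab_s_281_295 c) (finTab_s_295_309 c) (Nat.ble 295 c)
noncomputable def finTab_s_310_312 (c : Nat) : Nat := @Bool.rec (fun _ => Nat) (finTab_310) (finTab_311) (Nat.ble 311 c)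
noncomputable def finTab_s_309_312 (c : Nat) : Nat := @Bool.rec (fun _ => Nat) (finTab_309) (finTab_s_310_312 c) (Nat.ble 310 c)
noncomputable def finTab_s_312_314 (c : Nat) : Nat := @Bool.rec (fun _ => Nat) (finTab_312) (finTab_313) (Nat.ble 313 c)
noncomputable def finTab_s_314_316 (c : Nat) : Nat := @Bool.rec (fun _ => Nat) (finTab_314) (finTab_315) (Nat.ble 315 c)
noncomputable def finTab_s_312_316 (c : Nat) : Nat := @Bool.rec (fun _ => Nat) (finTab_s_312_314 c) (finTab_s_314_316 c) (Nat.ble 314 c)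
noncomputable def finTab_s_309_316 (c : Nat) : Nat := @Bool.rec (fun _ => Nat) (finTab_s_309_312 c) (finTab_s_312_316 c) (Nat.ble 312 c)
noncomputable def finTab_s_317_319 (c : Nat) : Nat := @Bool.rec (fun _ => Nat) (finTab_317) (finTab_318) (Nat.ble 318 c)
noncomputable def finTab_s_316_319 (c : Nat) : Nat := @Bool.rec (fun _ => Nat) (finTab_316) (finTab_s_317_319 c) (Nat.ble 317 c)
noncomputable def finTab_s_319_321 (c : Nat) : Nat := @Bool.rec (fun _ => Nat) (finTab_319) (finTab_320) (Nat.ble 320 c)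
noncomputable def finTab_s_321_323 (c : Nat) : Nat := @Bool.rec (fun _ => Nat) (finTab_321) (finTab_322) (Nat.ble 322 c)
noncomputable def finTab_s_319_323 (c : Nat) : Nat := @Bool.rec (fun _ => Nat) (finTab_s_319_321 c) (finTab_s_321_323 c) (Nat.ble 321 c)
noncomputable def finTab_s_316_323 (c : Nat) : Nat := @Bool.rec (fun _ => Nat) (finTab_s_316_319 c) (finTab_s_319_323 c) (Nat.ble 319 c)
noncomputable def finTab_s_309_323 (c : Nat) : Nat := @Bool.rec (fun _ => Nat) (finTab_s_309_316 c) (finTab_s_316_323 c) (Nat.ble 316 c)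
noncomputable def finTab_s_324_326 (c : Nat) : Nat := @Bool.rec (fun _ => Nat) (finTab_324) (finTab_325) (Nat.ble 325 c)
noncomputable def finTab_s_323_326 (c : Nat) : Nat := @Bool.rec (fun _ => Nat) (finTab_323) (finTab_s_324_326 c) (Nat.ble 324 c)
noncomputable def finTab_s_326_328 (c : Nat) : Nat := @Bool.rec (fun _ => Nat) (finTab_326) (finTab_327) (Nat.ble 327 c)
noncomputable def finTab_s_328_330 (c : Nat) : Nat := @Bool.rec (fun _ => Nat) (finTab_328) (finTab_329) (Nat.ble 329 c)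
noncomputable def finTab_s_326_330 (c : Nat) : Nat := @Bool.rec (fun _ => Nat) (finTab_s_326_328 c) (finTab_s_328_330 c) (Nat.ble 328 c)
noncomputable def finTab_s_323_330 (c : Nat) : Nat := @Bool.rec (fun _ => Nat) (finTab_s_323_326 c) (finTab_s_326_330 c) (Nat.ble 326 c)
noncomputable def finTab_s_331_333 (c : Nat) : Nat := @Bool.rec (fun _ => Nat) (finTab_331) (finTab_332) (Nat.ble 332 c)
noncomputable def finTab_s_330_333 (c : Nat) : Nat := @Bool.rec (fun _ => Nat) (finTab_330) (finTab_s_331_333 c) (Nat.ble 331 c)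
noncomputable def finTab_s_333_335 (c : Nat) : Nat := @Bool.rec (fun _ => Nat) (finTab_333) (finTab_334) (Nat.ble 334 c)
noncomputable def finTab_s_335_337 (c : Nat) : Nat := @Bool.rec (fun _ => Nat) (finTab_335) (finTab_336) (Nat.ble 336 c)
noncomputable def finTab_s_333_337 (c : Nat) : Nat := @Bool.rec (fun _ => Nat) (finTab_s_333_335 c) (finTab_s_335_337 c) (Nat.ble 335 c)
noncomputable def finTab_s_330_337 (c : Nat) : Nat := @Bool.rec (fun _ => Nat) (finTab_s_330_333 c) (finTab_s_333_337 c) (Nat.ble 333 c)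
noncomputable def finTab_s_323_337 (c : Nat) : Nat := @Bool.rec (fun _ => Nat) (finTab_s_323_330 c) (finTab_s_330_337 c) (Nat.ble 330 c)
noncomputable def finTab_s_309_337 (c : Nat) : Nat := @Bool.rec (fun _ => Nat) (finTab_s_309_323 c) (finTab_s_323_337 c) (Nat.ble 323 c)
noncomputable def finTab_s_281_337 (c : Nat) : Nat := @Bool.rec (fun _ => Nat) (finTab_s_281_309 c) (finTab_s_309_337 c) (Nat.ble 309 c)
noncomputable def finTab_s_225_337 (c : Nat) : Nat := @Bool.rec (fun _ => Nat) (finTab_s_225_281 c) (finTab_s_281_337 c) (Nat.ble 281 c)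
noncomputable def finTab_s_338_340 (c : Nat) : Nat := @Bool.rec (fun _ => Nat) (finTab_338) (finTab_339) (Nat.ble 339 c)
noncomputable def finTab_s_337_340 (c : Nat) : Nat := @Bool.rec (fun _ => Nat) (finTab_337) (finTab_s_338_340 c) (Nat.ble 338 c)
noncomputable def finTab_s_340_342 (c : Nat) : Nat := @Bool.rec (fun _ => Nat) (finTab_340) (finTab_341) (Nat.ble 341 c)
noncomputable def finTab_s_342_344 (c : Nat) : Nat := @Bool.rec (fun _ => Nat) (finTab_342) (finTab_343) (Nat.ble 343 c)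
noncomputable def finTab_s_340_344 (c : Nat) : Nat := @Bool.rec (fun _ => Nat) (finTab_s_340_342 c) (finTab_s_342_344 c) (Nat.ble 342 c)
noncomputable def finTab_s_337_344 (c : Nat) : Nat := @Bool.rec (fun _ => Nat) (finTab_s_337_340 c) (finTab_s_340_344 c) (Nat.ble 340 c)
noncomputable def finTab_s_345_347 (c : Nat) : Nat := @Bool.rec (fun _ => Nat) (finTab_345) (finTab_346) (Nat.ble 346 c)
noncomputable def finTab_s_344_347 (c : Nat) : Nat := @Bool.rec (fun _ => Nat) (finTab_344) (finTab_s_345_347 c) (Nat.ble 345 c)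
noncomputable def finTab_s_347_349 (c : Nat) : Nat := @Bool.rec (fun _ => Nat) (finTab_347) (finTab_348) (Nat.ble 348 c)
noncomputable def finTab_s_349_351 (c : Nat) : Nat := @Bool.rec (fun _ => Nat) (finTab_349) (finTab_350) (Nat.ble 350 c)
noncomputable def finTab_s_347_351 (c : Nat) : Nat := @Bool.rec (fun _ => Nat) (finTab_s_347_349 c) (finTab_s_349_351 c) (Nat.ble 349 c)
noncomputable def finTab_s_344_351 (c : Nat) : Nat := @Bool.rec (fun _ => Nat) (finTab_s_344_347 c) (finTab_s_347_351 c) (Nat.ble 347 c)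
noncomputable def finTab_s_337_351 (c : Nat) : Nat := @Bool.rec (fun _ => Nat) (finTab_s_337_344 c) (finTab_s_344_351 c) (Nat.ble 344 c)
noncomputable def finTab_s_352_354 (c : Nat) : Nat := @Bool.rec (fun _ => Nat) (finTab_352) (finTab_353) (Nat.ble 353 c)
noncomputable def finTab_s_351_354 (c : Nat) : Nat := @Bool.rec (fun _ => Nat) (finTab_351) (finTab_s_352_354 c) (Nat.ble 352 c)
noncomputable def finTab_s_354_356 (c : Nat) : Nat := @Bool.rec (fun _ => Nat) (finTab_354) (finTab_355) (Nat.ble 355 c)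
noncomputable def finTab_s_356_358 (c : Nat) : Nat := @Bool.rec (fun _ => Nat) (finTab_356) (finTab_357) (Nat.ble 357 c)
noncomputable def finTab_s_354_358 (c : Nat) : Nat := @Bool.rec (fun _ => Nat) (finTab_s_354_356 c) (finTab_s_356_358 c) (Nat.ble 356 c)
noncomputable def finTab_s_351_358 (c : Nat) : Nat := @Bool.rec (fun _ => Nat) (finTab_s_351_354 c) (finTab_s_354_358 c) (Nat.ble 354 c)
noncomputable def finTab_s_359_361 (c : Nat) : Nat := @Bool.rec (fun _ => Nat) (finTab_359) (finTab_360) (Nat.ble 360 c)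
noncomputable def finTab_s_358_361 (c : Nat) : Nat := @Bool.rec (fun _ => Nat) (finTab_358) (finTab_s_359_361 c) (Nat.ble 359 c)
noncomputable def finTab_s_361_363 (c : Nat) : Nat := @Bool.rec (fun _ => Nat) (finTab_361) (finTab_362) (Nat.ble 362 c)
noncomputable def finTab_s_363_365 (c : Nat) : Nat := @Bool.rec (fun _ => Nat) (finTab_363) (finTab_364) (Nat.ble 364 c)
noncomputable def finTab_s_361_365 (c : Nat) : Nat := @Bool.rec (fun _ => Nat) (finTab_s_361_363 c) (finTab_s_363_365 c) (Nat.ble 363 c)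
noncomputable def finTab_s_358_365 (c : Nat) : Nat := @Bool.rec (fun _ => Nat) (finTab_s_358_361 c) (finTab_s_361_365 c) (Nat.ble 361 c)
noncomputable def finTab_s_351_365 (c : Nat) : Nat := @Bool.rec (fun _ => Nat) (finTab_s_351_358 c) (finTab_s_358_365 c) (Nat.ble 358 c)
noncomputable def finTab_s_337_365 (c : Nat) : Nat := @Bool.rec (fun _ => Nat) (finTab_s_337_351 c) (finTab_s_351_365 c) (Nat.ble 351 c)
noncomputable def finTab_s_366_368 (c : Nat) : Nat := @Bool.rec (fun _ => Nat) (finTab_366) (finTab_367) (Nat.ble 367 c)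
noncomputable def finTab_s_365_368 (c : Nat) : Nat := @Bool.rec (fun _ => Nat) (finTab_365) (finTab_s_366_368 c) (Nat.ble 366 c)
noncomputable def finTab_s_368_370 (c : Nat) : Nat := @Bool.rec (fun _ => Nat) (finTab_368) (finTab_369) (Nat.ble 369 c)
noncomputable def finTab_s_370_372 (c : Nat) : Nat := @Bool.rec (fun _ => Nat) (finTab_370) (finTab_371) (Nat.ble 371 c)
noncomputable def finTab_s_368_372 (c : Nat) : Nat := @Bool.rec (fun _ => Nat) (finTab_s_368_370 c) (finTab_s_370_372 c) (Nat.ble 370 c)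
noncomputable def finTab_s_365_372 (c : Nat) : Nat := @Bool.rec (fun _ => Nat) (finTab_s_365_368 c) (finTab_s_368_372 c) (Nat.ble 368 c)
noncomputable def finTab_s_373_375 (c : Nat) : Nat := @Bool.rec (fun _ => Nat) (finTab_373) (finTab_374) (Nat.ble 374 c)
noncomputable def finTab_s_372_375 (c : Nat) : Nat := @Bool.rec (fun _ => Nat) (finTab_372) (finTab_s_373_375 c) (Nat.ble 373 c)
noncomputable def finTab_s_375_377 (c : Nat) : Nat := @Bool.rec (fun _ => Nat) (finTab_375) (finTab_376) (Nat.ble 376 c)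
noncomputable def finTab_s_377_379 (c : Nat) : Nat := @Bool.rec (fun _ => Nat) (finTab_377) (finTab_378) (Nat.ble 378 c)
noncomputable def finTab_s_375_379 (c : Nat) : Nat := @Bool.rec (fun _ => Nat) (finTab_s_375_377 c) (finTab_s_377_379 c) (Nat.ble 377 c)
noncomputable def finTab_s_372_379 (c : Nat) : Nat := @Bool.rec (fun _ => Nat) (finTab_s_372_375 c) (finTab_s_375_379 c) (Nat.ble 375 c)
noncomputable def finTab_s_365_379 (c : Nat) : Nat := @Bool.rec (fun _ => Nat) (finTab_s_365_372 c) (finTab_s_372_379 c) (Nat.ble 372 c)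
noncomputable def finTab_s_380_382 (c : Nat) : Nat := @Bool.rec (fun _ => Nat) (finTab_380) (finTab_381) (Nat.ble 381 c)
noncomputable def finTab_s_379_382 (c : Nat) : Nat := @Bool.rec (fun _ => Nat) (finTab_379) (finTab_s_380_382 c) (Nat.ble 380 c)
noncomputable def finTab_s_382_384 (c : Nat) : Nat := @Bool.rec (fun _ => Nat) (finTab_382) (finTab_383) (Nat.ble 383 c)
noncomputable def finTab_s_384_386 (c : Nat) : Nat := @Bool.rec (fun _ => Nat) (finTab_384) (finTab_385) (Nat.ble 385 c)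
noncomputable def finTab_s_382_386 (c : Nat) : Nat := @Bool.rec (fun _ => Nat) (finTab_s_382_384 c) (finTab_s_384_386 c) (Nat.ble 384 c)
noncomputable def finTab_s_379_386 (c : Nat) : Nat := @Bool.rec (fun _ => Nat) (finTab_s_379_382 c) (finTab_s_382_386 c) (Nat.ble 382 c)
noncomputable def finTab_s_387_389 (c : Nat) : Nat := @Bool.rec (fun _ => Nat) (finTab_387) (finTab_388) (Nat.ble 388 c)
noncomputable def finTab_s_386_389 (c : Nat) : Nat := @Bool.rec (fun _ => Nat) (finTab_386) (finTab_s_387_389 c) (Nat.ble 387 c)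
noncomputable def finTab_s_389_391 (c : Nat) : Nat := @Bool.rec (fun _ => Nat) (finTab_389) (finTab_390) (Nat.ble 390 c)
noncomputable def finTab_s_391_393 (c : Nat) : Nat := @Bool.rec (fun _ => Nat) (finTab_391) (finTab_392) (Nat.ble 392 c)
noncomputable def finTab_s_389_393 (c : Nat) : Nat := @Bool.rec (fun _ => Nat) (finTab_s_389_391 c) (finTab_s_391_393 c) (Nat.ble 391 c)
noncomputable def finTab_s_386_393 (c : Nat) : Nat := @Bool.rec (fun _ => Nat) (finTab_s_386_389 c) (finTab_s_389_393 c) (Nat.ble 389 c)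
noncomputable def finTab_s_379_393 (c : Nat) : Nat := @Bool.rec (fun _ => Nat) (finTab_s_379_386 c) (finTab_s_386_393 c) (Nat.ble 386 c)
noncomputable def finTab_s_365_393 (c : Nat) : Nat := @Bool.rec (fun _ => Nat) (finTab_s_365_379 c) (finTab_s_379_393 c) (Nat.ble 379 c)
noncomputable def finTab_s_337_393 (c : Nat) : Nat := @Bool.rec (fun _ => Nat) (finTab_s_337_365 c) (finTab_s_365_393 c) (Nat.ble 365 c)
noncomputable def finTab_s_394_396 (c : Nat) : Nat := @Bool.rec (fun _ => Nat) (finTab_394) (finTab_395) (Nat.ble 395 c)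
noncomputable def finTab_s_393_396 (c : Nat) : Nat := @Bool.rec (fun _ => Nat) (finTab_393) (finTab_s_394_396 c) (Nat.ble 394 c)
noncomputable def finTab_s_396_398 (c : Nat) : Nat := @Bool.rec (fun _ => Nat) (finTab_396) (finTab_397) (Nat.ble 397 c)
noncomputable def finTab_s_398_400 (c : Nat) : Nat := @Bool.rec (fun _ => Nat) (finTab_398) (finTab_399) (Nat.ble 399 c)
noncomputable def finTab_s_396_400 (c : Nat) : Nat := @Bool.rec (fun _ => Nat) (finTab_s_396_398 c) (finTab_s_398_400 c) (Nat.ble 398 c)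
noncomputable def finTab_s_393_400 (c : Nat) : Nat := @Bool.rec (fun _ => Nat) (finTab_s_393_396 c) (finTab_s_396_400 c) (Nat.ble 396 c)
noncomputable def finTab_s_401_403 (c : Nat) : Nat := @Bool.rec (fun _ => Nat) (finTab_401) (finTab_402) (Nat.ble 402 c)
noncomputable def finTab_s_400_403 (c : Nat) : Nat := @Bool.rec (fun _ => Nat) (finTab_400) (finTab_s_401_403 c) (Nat.ble 401 c)
noncomputable def finTab_s_403_405 (c : Nat) : Nat := @Bool.rec (fun _ => Nat) (finTab_403) (finTab_404) (Nat.ble 404 c)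
noncomputable def finTab_s_405_407 (c : Nat) : Nat := @Bool.rec (fun _ => Nat) (finTab_405) (finTab_406) (Nat.ble 406 c)
noncomputable def finTab_s_403_407 (c : Nat) : Nat := @Bool.rec (fun _ => Nat) (finTab_s_403_405 c) (finTab_s_405_407 c) (Nat.ble 405 c)
noncomputable def finTab_s_400_407 (c : Nat) : Nat := @Bool.rec (fun _ => Nat) (finTab_s_400_403 c) (finTab_s_403_407 c) (Nat.ble 403 c)
noncomputable def finTab_s_393_407 (c : Nat) : Nat := @Bool.rec (fun _ => Nat) (finTab_s_393_400 c) (finTab_s_400_407 c) (Nat.ble 400 c)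
noncomputable def finTab_s_408_410 (c : Nat) : Nat := @Bool.rec (fun _ => Nat) (finTab_408) (finTab_409) (Nat.ble 409 c)
noncomputable def finTab_s_407_410 (c : Nat) : Nat := @Bool.rec (fun _ => Nat) (finTab_407) (finTab_s_408_410 c) (Nat.ble 408 c)
noncomputable def finTab_s_410_412 (c : Nat) : Nat := @Bool.rec (fun _ => Nat) (finTab_410) (finTab_411) (Nat.ble 411 c)
noncomputable def finTab_s_412_414 (c : Nat) : Nat := @Bool.rec (fun _ => Nat) (finTab_412) (finTab_413) (Nat.ble 413 c)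
noncomputable def finTab_s_410_414 (c : Nat) : Nat := @Bool.rec (fun _ => Nat) (finTab_s_410_412 c) (finTab_s_412_414 c) (Nat.ble 412 c)
noncomputable def finTab_s_407_414 (c : Nat) : Nat := @Bool.rec (fun _ => Nat) (finTab_s_407_410 c) (finTab_s_410_414 c) (Nat.ble 410 c)
noncomputable def finTab_s_415_417 (c : Nat) : Nat := @Bool.rec (fun _ => Nat) (finTab_415) (finTab_416) (Nat.ble 416 c)
noncomputable def finTab_s_414_417 (c : Nat) : Nat := @Bool.rec (fun _ => Nat) (finTab_414) (finTab_s_415_417 c) (Nat.ble 415 c)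
noncomputable def finTab_s_417_419 (c : Nat) : Nat := @Bool.rec (fun _ => Nat) (finTab_417) (finTab_418) (Nat.ble 418 c)
noncomputable def finTab_s_419_421 (c : Nat) : Nat := @Bool.rec (fun _ => Nat) (finTab_419) (finTab_420) (Nat.ble 420 c)
noncomputable def finTab_s_417_421 (c : Nat) : Nat := @Bool.rec (fun _ => Nat) (finTab_s_417_419 c) (finTab_s_419_421 c) (Nat.ble 419 c)
noncomputable def finTab_s_414_421 (c : Nat) : Nat := @Bool.rec (fun _ => Nat) (finTab_s_414_417 c) (finTab_s_417_421 c) (Nat.ble 417 c)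
noncomputable def finTab_s_407_421 (c : Nat) : Nat := @Bool.rec (fun _ => Nat) (finTab_s_407_414 c) (finTab_s_414_421 c) (Nat.ble 414 c)
noncomputable def finTab_s_393_421 (c : Nat) : Nat := @Bool.rec (fun _ => Nat) (finTab_s_393_407 c) (finTab_s_407_421 c) (Nat.ble 407 c)
noncomputable def finTab_s_422_424 (c : Nat) : Nat := @Bool.rec (fun _ => Nat) (finTab_422) (finTab_423) (Nat.ble 423 c)
noncomputable def finTab_s_421_424 (c : Nat) : Nat := @Bool.rec (fun _ => Nat) (finTab_421) (finTab_s_422_424 c) (Nat.ble 422 c)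
noncomputable def finTab_s_424_426 (c : Nat) : Nat := @Bool.rec (fun _ => Nat) (finTab_424) (finTab_425) (Nat.ble 425 c)
noncomputable def finTab_s_426_428 (c : Nat) : Nat := @Bool.rec (fun _ => Nat) (finTab_426) (finTab_427) (Nat.ble 427 c)
noncomputable def finTab_s_424_428 (c : Nat) : Nat := @Bool.rec (fun _ => Nat) (finTab_s_424_426 c) (finTab_s_426_428 c) (Nat.ble 426 c)
noncomputable def finTab_s_421_428 (c : Nat) : Nat := @Bool.rec (fun _ => Nat) (finTab_s_421_424 c) (finTab_s_424_428 c) (Nat.ble 424 c)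
noncomputable def finTab_s_429_431 (c : Nat) : Nat := @Bool.rec (fun _ => Nat) (finTab_429) (finTab_430) (Nat.ble 430 c)
noncomputable def finTab_s_428_431 (c : Nat) : Nat := @Bool.rec (fun _ => Nat) (finTab_428) (finTab_s_429_431 c) (Nat.ble 429 c)
noncomputable def finTab_s_431_433 (c : Nat) : Nat := @Bool.rec (fun _ => Nat) (finTab_431) (finTab_432) (Nat.ble 432 c)
noncomputable def finTab_s_433_435 (c : Nat) : Nat := @Bool.rec (fun _ => Nat) (finTab_433) (finTab_434) (Nat.ble 434 c)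
noncomputable def finTab_s_431_435 (c : Nat) : Nat := @Bool.rec (fun _ => Nat) (finTab_s_431_433 c) (finTab_s_433_435 c) (Nat.ble 433 c)
noncomputable def finTab_s_428_435 (c : Nat) : Nat := @Bool.rec (fun _ => Nat) (finTab_s_428_431 c) (finTab_s_431_435 c) (Nat.ble 431 c)
noncomputable def finTab_s_421_435 (c : Nat) : Nat := @Bool.rec (fun _ => Nat) (finTab_s_421_428 c) (finTab_s_428_435 c) (Nat.ble 428 c)
noncomputable def finTab_s_436_438 (c : Nat) : Nat := @Bool.rec (fun _ => Nat) (finTab_436) (finTab_437) (Nat.ble 437 c)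
noncomputable def finTab_s_435_438 (c : Nat) : Nat := @Bool.rec (fun _ => Nat) (finTab_435) (finTab_s_436_438 c) (Nat.ble 436 c)
noncomputable def finTab_s_438_440 (c : Nat) : Nat := @Bool.rec (fun _ => Nat) (finTab_438) (finTab_439) (Nat.ble 439 c)
noncomputable def finTab_s_440_442 (c : Nat) : Nat := @Bool.rec (fun _ => Nat) (finTab_440) (finTab_441) (Nat.ble 441 c)
noncomputable def finTab_s_438_442 (c : Nat) : Nat := @Bool.rec (fun _ => Nat) (finTab_s_438_440 c) (finTab_s_440_442 c) (Nat.ble 440 c)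
noncomputable def finTab_s_435_442 (c : Nat) : Nat := @Bool.rec (fun _ => Nat) (finTab_s_435_438 c) (finTab_s_438_442 c) (Nat.ble 438 c)
noncomputable def finTab_s_442_444 (c : Nat) : Nat := @Bool.rec (fun _ => Nat) (finTab_442) (finTab_443) (Nat.ble 443 c)
noncomputable def finTab_s_444_446 (c : Nat) : Nat := @Bool.rec (fun _ => Nat) (finTab_444) (finTab_445) (Nat.ble 445 c)
noncomputable def finTab_s_442_446 (c : Nat) : Nat := @Bool.rec (fun _ => Nat) (finTab_s_442_444 c) (finTab_s_444_446 c) (Nat.ble 444 c)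
noncomputable def finTab_s_446_448 (c : Nat) : Nat := @Bool.rec (fun _ => Nat) (finTab_446) (finTab_447) (Nat.ble 447 c)
noncomputable def finTab_s_448_450 (c : Nat) : Nat := @Bool.rec (fun _ => Nat) (finTab_448) (finTab_449) (Nat.ble 449 c)
noncomputable def finTab_s_446_450 (c : Nat) : Nat := @Bool.rec (fun _ => Nat) (finTab_s_446_448 c) (finTab_s_448_450 c) (Nat.ble 448 c)
noncomputable def finTab_s_442_450 (c : Nat) : Nat := @Bool.rec (fun _ => Nat) (finTab_s_442_446 c) (finTab_s_446_450 c) (Nat.ble 446 c)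
noncomputable def finTab_s_435_450 (c : Nat) : Nat := @Bool.rec (fun _ => Nat) (finTab_s_435_442 c) (finTab_s_442_450 c) (Nat.ble 442 c)
noncomputable def finTab_s_421_450 (c : Nat) : Nat := @Bool.rec (fun _ => Nat) (finTab_s_421_435 c) (finTab_s_435_450 c) (Nat.ble 435 c)
noncomputable def finTab_s_393_450 (c : Nat) : Nat := @Bool.rec (fun _ => Nat) (finTab_s_393_421 c) (finTab_s_421_450 c) (Nat.ble 421 c)
noncomputable def finTab_s_337_450 (c : Nat) : Nat := @Bool.rec (fun _ => Nat) (finTab_s_337_393 c) (finTab_s_393_450 c) (Nat.ble 393 c)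
noncomputable def finTab_s_225_450 (c : Nat) : Nat := @Bool.rec (fun _ => Nat) (finTab_s_225_337 c) (finTab_s_337_450 c) (Nat.ble 337 c)
noncomputable def finTab_s_0_450 (c : Nat) : Nat := @Bool.rec (fun _ => Nat) (finTab_s_0_225 c) (finTab_s_225_450 c) (Nat.ble 225 c)
noncomputable def finTab_s_451_453 (c : Nat) : Nat := @Bool.rec (fun _ => Nat) (finTab_451) (finTab_452) (Nat.ble 452 c)
noncomputable def finTab_s_450_453 (c : Nat) : Nat := @Bool.rec (fun _ => Nat) (finTab_450) (finTab_s_451_453 c) (Nat.ble 451 c)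
noncomputable def finTab_s_453_455 (c : Nat) : Nat := @Bool.rec (fun _ => Nat) (finTab_453) (finTab_454) (Nat.ble 454 c)
noncomputable def finTab_s_455_457 (c : Nat) : Nat := @Bool.rec (fun _ => Nat) (finTab_455) (finTab_456) (Nat.ble 456 c)
noncomputable def finTab_s_453_457 (c : Nat) : Nat := @Bool.rec (fun _ => Nat) (finTab_s_453_455 c) (finTab_s_455_457 c) (Nat.ble 455 c)
noncomputable def finTab_s_450_457 (c : Nat) : Nat := @Bool.rec (fun _ => Nat) (finTab_s_450_453 c) (finTab_s_453_457 c) (Nat.ble 453 c)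
noncomputable def finTab_s_458_460 (c : Nat) : Nat := @Bool.rec (fun _ => Nat) (finTab_458) (finTab_459) (Nat.ble 459 c)
noncomputable def finTab_s_457_460 (c : Nat) : Nat := @Bool.rec (fun _ => Nat) (finTab_457) (finTab_s_458_460 c) (Nat.ble 458 c)
noncomputable def finTab_s_460_462 (c : Nat) : Nat := @Bool.rec (fun _ => Nat) (finTab_460) (finTab_461) (Nat.ble 461 c)
noncomputable def finTab_s_462_464 (c : Nat) : Nat := @Bool.rec (fun _ => Nat) (finTab_462) (finTab_463) (Nat.ble 463 c)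
noncomputable def finTab_s_460_464 (c : Nat) : Nat := @Bool.rec (fun _ => Nat) (finTab_s_460_462 c) (finTab_s_462_464 c) (Nat.ble 462 c)
noncomputable def finTab_s_457_464 (c : Nat) : Nat := @Bool.rec (fun _ => Nat) (finTab_s_457_460 c) (finTab_s_460_464 c) (Nat.ble 460 c)
noncomputable def finTab_s_450_464 (c : Nat) : Nat := @Bool.rec (fun _ => Nat) (finTab_s_450_457 c) (finTab_s_457_464 c) (Nat.ble 457 c)
noncomputable def finTab_s_465_467 (c : Nat) : Nat := @Bool.rec (fun _ => Nat) (finTab_465) (finTab_466) (Nat.ble 466 c)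
noncomputable def finTab_s_464_467 (c : Nat) : Nat := @Bool.rec (fun _ => Nat) (finTab_464) (finTab_s_465_467 c) (Nat.ble 465 c)
noncomputable def finTab_s_467_469 (c : Nat) : Nat := @Bool.rec (fun _ => Nat) (finTab_467) (finTab_468) (Nat.ble 468 c)
noncomputable def finTab_s_469_471 (c : Nat) : Nat := @Bool.rec (fun _ => Nat) (finTab_469) (finTab_470) (Nat.ble 470 c)
noncomputable def finTab_s_467_471 (c : Nat) : Nat := @Bool.rec (fun _ => Nat) (finTab_s_467_469 c) (finTab_s_469_471 c) (Nat.ble 469 c)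
noncomputable def finTab_s_464_471 (c : Nat) : Nat := @Bool.rec (fun _ => Nat) (finTab_s_464_467 c) (finTab_s_467_471 c) (Nat.ble 467 c)
noncomputable def finTab_s_472_474 (c : Nat) : Nat := @Bool.rec (fun _ => Nat) (finTab_472) (finTab_473) (Nat.ble 473 c)
noncomputable def finTab_s_471_474 (c : Nat) : Nat := @Bool.rec (fun _ => Nat) (finTab_471) (finTab_s_472_474 c) (Nat.ble 472 c)
noncomputable def finTab_s_474_476 (c : Nat) : Nat := @Bool.rec (fun _ => Nat) (finTab_474) (finTab_475) (Nat.ble 475 c)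
noncomputable def finTab_s_476_478 (c : Nat) : Nat := @Bool.rec (fun _ => Nat) (finTab_476) (finTab_477) (Nat.ble 477 c)
noncomputable def finTab_s_474_478 (c : Nat) : Nat := @Bool.rec (fun _ => Nat) (finTab_s_474_476 c) (finTab_s_476_478 c) (Nat.ble 476 c)
noncomputable def finTab_s_471_478 (c : Nat) : Nat := @Bool.rec (fun _ => Nat) (finTab_s_471_474 c) (finTab_s_474_478 c) (Nat.ble 474 c)
noncomputable def finTab_s_464_478 (c : Nat) : Nat := @Bool.rec (fun _ => Nat) (finTab_s_464_471 c) (finTab_s_471_478 c) (Nat.ble 471 c)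
noncomputable def finTab_s_450_478 (c : Nat) : Nat := @Bool.rec (fun _ => Nat) (finTab_s_450_464 c) (finTab_s_464_478 c) (Nat.ble 464 c)
noncomputable def finTab_s_479_481 (c : Nat) : Nat := @Bool.rec (fun _ => Nat) (finTab_479) (finTab_480) (Nat.ble 480 c)
noncomputable def finTab_s_478_481 (c : Nat) : Nat := @Bool.rec (fun _ => Nat) (finTab_478) (finTab_s_479_481 c) (Nat.ble 479 c)
noncomputable def finTab_s_481_483 (c : Nat) : Nat := @Bool.rec (fun _ => Nat) (finTab_481) (finTab_482) (Nat.ble 482 c)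
noncomputable def finTab_s_483_485 (c : Nat) : Nat := @Bool.rec (fun _ => Nat) (finTab_483) (finTab_484) (Nat.ble 484 c)
noncomputable def finTab_s_481_485 (c : Nat) : Nat := @Bool.rec (fun _ => Nat) (finTab_s_481_483 c) (finTab_s_483_485 c) (Nat.ble 483 c)
noncomputable def finTab_s_478_485 (c : Nat) : Nat := @Bool.rec (fun _ => Nat) (finTab_s_478_481 c) (finTab_s_481_485 c) (Nat.ble 481 c)
noncomputable def finTab_s_486_488 (c : Nat) : Nat := @Bool.rec (fun _ => Nat) (finTab_486) (finTab_487) (Nat.ble 487 c)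
noncomputable def finTab_s_485_488 (c : Nat) : Nat := @Bool.rec (fun _ => Nat) (finTab_485) (finTab_s_486_488 c) (Nat.ble 486 c)
noncomputable def finTab_s_488_490 (c : Nat) : Nat := @Bool.rec (fun _ => Nat) (finTab_488) (finTab_489) (Nat.ble 489 c)
noncomputable def finTab_s_490_492 (c : Nat) : Nat := @Bool.rec (fun _ => Nat) (finTab_490) (finTab_491) (Nat.ble 491 c)
noncomputable def finTab_s_488_492 (c : Nat) : Nat := @Bool.rec (fun _ => Nat) (finTab_s_488_490 c) (finTab_s_490_492 c) (Nat.ble 490 c)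
noncomputable def finTab_s_485_492 (c : Nat) : Nat := @Bool.rec (fun _ => Nat) (finTab_s_485_488 c) (finTab_s_488_492 c) (Nat.ble 488 c)
noncomputable def finTab_s_478_492 (c : Nat) : Nat := @Bool.rec (fun _ => Nat) (finTab_s_478_485 c) (finTab_s_485_492 c) (Nat.ble 485 c)
noncomputable def finTab_s_493_495 (c : Nat) : Nat := @Bool.rec (fun _ => Nat) (finTab_493) (finTab_494) (Nat.ble 494 c)
noncomputable def finTab_s_492_495 (c : Nat) : Nat := @Bool.rec (fun _ => Nat) (finTab_492) (finTab_s_493_495 c) (Nat.ble 493 c)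
noncomputable def finTab_s_495_497 (c : Nat) : Nat := @Bool.rec (fun _ => Nat) (finTab_495) (finTab_496) (Nat.ble 496 c)
noncomputable def finTab_s_497_499 (c : Nat) : Nat := @Bool.rec (fun _ => Nat) (finTab_497) (finTab_498) (Nat.ble 498 c)
noncomputable def finTab_s_495_499 (c : Nat) : Nat := @Bool.rec (fun _ => Nat) (finTab_s_495_497 c) (finTab_s_497_499 c) (Nat.ble 497 c)
noncomputable def finTab_s_492_499 (c : Nat) : Nat := @Bool.rec (fun _ => Nat) (finTab_s_492_495 c) (finTab_s_495_499 c) (Nat.ble 495 c)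
noncomputable def finTab_s_500_502 (c : Nat) : Nat := @Bool.rec (fun _ => Nat) (finTab_500) (finTab_501) (Nat.ble 501 c)
noncomputable def finTab_s_499_502 (c : Nat) : Nat := @Bool.rec (fun _ => Nat) (finTab_499) (finTab_s_500_502 c) (Nat.ble 500 c)
noncomputable def finTab_s_502_504 (c : Nat) : Nat := @Bool.rec (fun _ => Nat) (finTab_502) (finTab_503) (Nat.ble 503 c)
noncomputable def finTab_s_504_506 (c : Nat) : Nat := @Bool.rec (fun _ => Nat) (finTab_504) (finTab_505) (Nat.ble 505 c)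
noncomputable def finTab_s_502_506 (c : Nat) : Nat := @Bool.rec (fun _ => Nat) (finTab_s_502_504 c) (finTab_s_504_506 c) (Nat.ble 504 c)
noncomputable def finTab_s_499_506 (c : Nat) : Nat := @Bool.rec (fun _ => Nat) (finTab_s_499_502 c) (finTab_s_502_506 c) (Nat.ble 502 c)
noncomputable def finTab_s_492_506 (c : Nat) : Nat := @Bool.rec (fun _ => Nat) (finTab_s_492_499 c) (finTab_s_499_506 c) (Nat.ble 499 c)
noncomputable def finTab_s_478_506 (c : Nat) : Nat := @Bool.rec (fun _ => Nat) (finTab_s_478_492 c) (finTab_s_492_506 c) (Nat.ble 492 c)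
noncomputable def finTab_s_450_506 (c : Nat) : Nat := @Bool.rec (fun _ => Nat) (finTab_s_450_478 c) (finTab_s_478_506 c) (Nat.ble 478 c)
noncomputable def finTab_s_507_509 (c : Nat) : Nat := @Bool.rec (fun _ => Nat) (finTab_507) (finTab_508) (Nat.ble 508 c)
noncomputable def finTab_s_506_509 (c : Nat) : Nat := @Bool.rec (fun _ => Nat) (finTab_506) (finTab_s_507_509 c) (Nat.ble 507 c)
noncomputable def finTab_s_509_511 (c : Nat) : Nat := @Bool.rec (fun _ => Nat) (finTab_509) (finTab_510) (Nat.ble 510 c)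
noncomputable def finTab_s_511_513 (c : Nat) : Nat := @Bool.rec (fun _ => Nat) (finTab_511) (finTab_512) (Nat.ble 512 c)
noncomputable def finTab_s_509_513 (c : Nat) : Nat := @Bool.rec (fun _ => Nat) (finTab_s_509_511 c) (finTab_s_511_513 c) (Nat.ble 511 c)
noncomputable def finTab_s_506_513 (c : Nat) : Nat := @Bool.rec (fun _ => Nat) (finTab_s_506_509 c) (finTab_s_509_513 c) (Nat.ble 509 c)
noncomputable def finTab_s_514_516 (c : Nat) : Nat := @Bool.rec (fun _ => Nat) (finTab_514) (finTab_515) (Nat.ble 515 c)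
noncomputable def finTab_s_513_516 (c : Nat) : Nat := @Bool.rec (fun _ => Nat) (finTab_513) (finTab_s_514_516 c) (Nat.ble 514 c)
noncomputable def finTab_s_516_518 (c : Nat) : Nat := @Bool.rec (fun _ => Nat) (finTab_516) (finTab_517) (Nat.ble 517 c)
noncomputable def finTab_s_518_520 (c : Nat) : Nat := @Bool.rec (fun _ => Nat) (finTab_518) (finTab_519) (Nat.ble 519 c)
noncomputable def finTab_s_516_520 (c : Nat) : Nat := @Bool.rec (fun _ => Nat) (finTab_s_516_518 c) (finTab_s_518_520 c) (Nat.ble 518 c)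
noncomputable def finTab_s_513_520 (c : Nat) : Nat := @Bool.rec (fun _ => Nat) (finTab_s_513_516 c) (finTab_s_516_520 c) (Nat.ble 516 c)
noncomputable def finTab_s_506_520 (c : Nat) : Nat := @Bool.rec (fun _ => Nat) (finTab_s_506_513 c) (finTab_s_513_520 c) (Nat.ble 513 c)
noncomputable def finTab_s_521_523 (c : Nat) : Nat := @Bool.rec (fun _ => Nat) (finTab_521) (finTab_522) (Nat.ble 522 c)
noncomputable def finTab_s_520_523 (c : Nat) : Nat := @Bool.rec (fun _ => Nat) (finTab_520) (finTab_s_521_523 c) (Nat.ble 521 c)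
noncomputable def finTab_s_523_525 (c : Nat) : Nat := @Bool.rec (fun _ => Nat) (finTab_523) (finTab_524) (Nat.ble 524 c)
noncomputable def finTab_s_525_527 (c : Nat) : Nat := @Bool.rec (fun _ => Nat) (finTab_525) (finTab_526) (Nat.ble 526 c)
noncomputable def finTab_s_523_527 (c : Nat) : Nat := @Bool.rec (fun _ => Nat) (finTab_s_523_525 c) (finTab_s_525_527 c) (Nat.ble 525 c)
noncomputable def finTab_s_520_527 (c : Nat) : Nat := @Bool.rec (fun _ => Nat) (finTab_s_520_523 c) (finTab_s_523_527 c) (Nat.ble 523 c)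
noncomputable def finTab_s_528_530 (c : Nat) : Nat := @Bool.rec (fun _ => Nat) (finTab_528) (finTab_529) (Nat.ble 529 c)
noncomputable def finTab_s_527_530 (c : Nat) : Nat := @Bool.rec (fun _ => Nat) (finTab_527) (finTab_s_528_530 c) (Nat.ble 528 c)
noncomputable def finTab_s_530_532 (c : Nat) : Nat := @Bool.rec (fun _ => Nat) (finTab_530) (finTab_531) (Nat.ble 531 c)
noncomputable def finTab_s_532_534 (c : Nat) : Nat := @Bool.rec (fun _ => Nat) (finTab_532) (finTab_533) (Nat.ble 533 c)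
noncomputable def finTab_s_530_534 (c : Nat) : Nat := @Bool.rec (fun _ => Nat) (finTab_s_530_532 c) (finTab_s_532_534 c) (Nat.ble 532 c)
noncomputable def finTab_s_527_534 (c : Nat) : Nat := @Bool.rec (fun _ => Nat) (finTab_s_527_530 c) (finTab_s_530_534 c) (Nat.ble 530 c)
noncomputable def finTab_s_520_534 (c : Nat) : Nat := @Bool.rec (fun _ => Nat) (finTab_s_520_527 c) (finTab_s_527_534 c) (Nat.ble 527 c)
noncomputable def finTab_s_506_534 (c : Nat) : Nat := @Bool.rec (fun _ => Nat) (finTab_s_506_520 c) (finTab_s_520_534 c) (Nat.ble 520 c)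
noncomputable def finTab_s_535_537 (c : Nat) : Nat := @Bool.rec (fun _ => Nat) (finTab_535) (finTab_536) (Nat.ble 536 c)
noncomputable def finTab_s_534_537 (c : Nat) : Nat := @Bool.rec (fun _ => Nat) (finTab_534) (finTab_s_535_537 c) (Nat.ble 535 c)
noncomputable def finTab_s_537_539 (c : Nat) : Nat := @Bool.rec (fun _ => Nat) (finTab_537) (finTab_538) (Nat.ble 538 c)
noncomputable def finTab_s_539_541 (c : Nat) : Nat := @Bool.rec (fun _ => Nat) (finTab_539) (finTab_540) (Nat.ble 540 c)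
noncomputable def finTab_s_537_541 (c : Nat) : Nat := @Bool.rec (fun _ => Nat) (finTab_s_537_539 c) (finTab_s_539_541 c) (Nat.ble 539 c)
noncomputable def finTab_s_534_541 (c : Nat) : Nat := @Bool.rec (fun _ => Nat) (finTab_s_534_537 c) (finTab_s_537_541 c) (Nat.ble 537 c)
noncomputable def finTab_s_542_544 (c : Nat) : Nat := @Bool.rec (fun _ => Nat) (finTab_542) (finTab_543) (Nat.ble 543 c)
noncomputable def finTab_s_541_544 (c : Nat) : Nat := @Bool.rec (fun _ => Nat) (finTab_541) (finTab_s_542_544 c) (Nat.ble 542 c)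
noncomputable def finTab_s_544_546 (c : Nat) : Nat := @Bool.rec (fun _ => Nat) (finTab_544) (finTab_545) (Nat.ble 545 c)
noncomputable def finTab_s_546_548 (c : Nat) : Nat := @Bool.rec (fun _ => Nat) (finTab_546) (finTab_547) (Nat.ble 547 c)
noncomputable def finTab_s_544_548 (c : Nat) : Nat := @Bool.rec (fun _ => Nat) (finTab_s_544_546 c) (finTab_s_546_548 c) (Nat.ble 546 c)
noncomputable def finTab_s_541_548 (c : Nat) : Nat := @Bool.rec (fun _ => Nat) (finTab_s_541_544 c) (finTab_s_544_548 c) (Nat.ble 544 c)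
noncomputable def finTab_s_534_548 (c : Nat) : Nat := @Bool.rec (fun _ => Nat) (finTab_s_534_541 c) (finTab_s_541_548 c) (Nat.ble 541 c)
noncomputable def finTab_s_549_551 (c : Nat) : Nat := @Bool.rec (fun _ => Nat) (finTab_549) (finTab_550) (Nat.ble 550 c)
noncomputable def finTab_s_548_551 (c : Nat) : Nat := @Bool.rec (fun _ => Nat) (finTab_548) (finTab_s_549_551 c) (Nat.ble 549 c)
noncomputable def finTab_s_551_553 (c : Nat) : Nat := @Bool.rec (fun _ => Nat) (finTab_551) (finTab_552) (Nat.ble 552 c)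
noncomputable def finTab_s_553_555 (c : Nat) : Nat := @Bool.rec (fun _ => Nat) (finTab_553) (finTab_554) (Nat.ble 554 c)
noncomputable def finTab_s_551_555 (c : Nat) : Nat := @Bool.rec (fun _ => Nat) (finTab_s_551_553 c) (finTab_s_553_555 c) (Nat.ble 553 c)
noncomputable def finTab_s_548_555 (c : Nat) : Nat := @Bool.rec (fun _ => Nat) (finTab_s_548_551 c) (finTab_s_551_555 c) (Nat.ble 551 c)
noncomputable def finTab_s_556_558 (c : Nat) : Nat := @Bool.rec (fun _ => Nat) (finTab_556) (finTab_557) (Nat.ble 557 c)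
noncomputable def finTab_s_555_558 (c : Nat) : Nat := @Bool.rec (fun _ => Nat) (finTab_555) (finTab_s_556_558 c) (Nat.ble 556 c)
noncomputable def finTab_s_558_560 (c : Nat) : Nat := @Bool.rec (fun _ => Nat) (finTab_558) (finTab_559) (Nat.ble 559 c)
noncomputable def finTab_s_560_562 (c : Nat) : Nat := @Bool.rec (fun _ => Nat) (finTab_560) (finTab_561) (Nat.ble 561 c)
noncomputable def finTab_s_558_562 (c : Nat) : Nat := @Bool.rec (fun _ => Nat) (finTab_s_558_560 c) (finTab_s_560_562 c) (Nat.ble 560 c)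
noncomputable def finTab_s_555_562 (c : Nat) : Nat := @Bool.rec (fun _ => Nat) (finTab_s_555_558 c) (finTab_s_558_562 c) (Nat.ble 558 c)
noncomputable def finTab_s_548_562 (c : Nat) : Nat := @Bool.rec (fun _ => Nat) (finTab_s_548_555 c) (finTab_s_555_562 c) (Nat.ble 555 c)
noncomputable def finTab_s_534_562 (c : Nat) : Nat := @Bool.rec (fun _ => Nat) (finTab_s_534_548 c) (finTab_s_548_562 c) (Nat.ble 548 c)
noncomputable def finTab_s_506_562 (c : Nat) : Nat := @Bool.rec (fun _ => Nat) (finTab_s_506_534 c) (finTab_s_534_562 c) (Nat.ble 534 c)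
noncomputable def finTab_s_450_562 (c : Nat) : Nat := @Bool.rec (fun _ => Nat) (finTab_s_450_506 c) (finTab_s_506_562 c) (Nat.ble 506 c)
noncomputable def finTab_s_563_565 (c : Nat) : Nat := @Bool.rec (fun _ => Nat) (finTab_563) (finTab_564) (Nat.ble 564 c)
noncomputable def finTab_s_562_565 (c : Nat) : Nat := @Bool.rec (fun _ => Nat) (finTab_562) (finTab_s_563_565 c) (Nat.ble 563 c)
noncomputable def finTab_s_565_567 (c : Nat) : Nat := @Bool.rec (fun _ => Nat) (finTab_565) (finTab_566) (Nat.ble 566 c)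
noncomputable def finTab_s_567_569 (c : Nat) : Nat := @Bool.rec (fun _ => Nat) (finTab_567) (finTab_568) (Nat.ble 568 c)
noncomputable def finTab_s_565_569 (c : Nat) : Nat := @Bool.rec (fun _ => Nat) (finTab_s_565_567 c) (finTab_s_567_569 c) (Nat.ble 567 c)
noncomputable def finTab_s_562_569 (c : Nat) : Nat := @Bool.rec (fun _ => Nat) (finTab_s_562_565 c) (finTab_s_565_569 c) (Nat.ble 565 c)
noncomputable def finTab_s_570_572 (c : Nat) : Nat := @Bool.rec (fun _ => Nat) (finTab_570) (finTab_571) (Nat.ble 571 c)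
noncomputable def finTab_s_569_572 (c : Nat) : Nat := @Bool.rec (fun _ => Nat) (finTab_569) (finTab_s_570_572 c) (Nat.ble 570 c)
noncomputable def finTab_s_572_574 (c : Nat) : Nat := @Bool.rec (fun _ => Nat) (finTab_572) (finTab_573) (Nat.ble 573 c)
noncomputable def finTab_s_574_576 (c : Nat) : Nat := @Bool.rec (fun _ => Nat) (finTab_574) (finTab_575) (Nat.ble 575 c)
noncomputable def finTab_s_572_576 (c : Nat) : Nat := @Bool.rec (fun _ => Nat) (finTab_s_572_574 c) (finTab_s_574_576 c) (Nat.ble 574 c)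
noncomputable def finTab_s_569_576 (c : Nat) : Nat := @Bool.rec (fun _ => Nat) (finTab_s_569_572 c) (finTab_s_572_576 c) (Nat.ble 572 c)
noncomputable def finTab_s_562_576 (c : Nat) : Nat := @Bool.rec (fun _ => Nat) (finTab_s_562_569 c) (finTab_s_569_576 c) (Nat.ble 569 c)
noncomputable def finTab_s_577_579 (c : Nat) : Nat := @Bool.rec (fun _ => Nat) (finTab_577) (finTab_578) (Nat.ble 578 c)
noncomputable def finTab_s_576_579 (c : Nat) : Nat := @Bool.rec (fun _ => Nat) (finTab_576) (finTab_s_577_579 c) (Nat.ble 577 c)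
noncomputable def finTab_s_579_581 (c : Nat) : Nat := @Bool.rec (fun _ => Nat) (finTab_579) (finTab_580) (Nat.ble 580 c)
noncomputable def finTab_s_581_583 (c : Nat) : Nat := @Bool.rec (fun _ => Nat) (finTab_581) (finTab_582) (Nat.ble 582 c)
noncomputable def finTab_s_579_583 (c : Nat) : Nat := @Bool.rec (fun _ => Nat) (finTab_s_579_581 c) (finTab_s_581_583 c) (Nat.ble 581 c)
noncomputable def finTab_s_576_583 (c : Nat) : Nat := @Bool.rec (fun _ => Nat) (finTab_s_576_579 c) (finTab_s_579_583 c) (Nat.ble 579 c)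
noncomputable def finTab_s_584_586 (c : Nat) : Nat := @Bool.rec (fun _ => Nat) (finTab_584) (finTab_585) (Nat.ble 585 c)
noncomputable def finTab_s_583_586 (c : Nat) : Nat := @Bool.rec (fun _ => Nat) (finTab_583) (finTab_s_584_586 c) (Nat.ble 584 c)
noncomputable def finTab_s_586_588 (c : Nat) : Nat := @Bool.rec (fun _ => Nat) (finTab_586) (finTab_587) (Nat.ble 587 c)
noncomputable def finTab_s_588_590 (c : Nat) : Nat := @Bool.rec (fun _ => Nat) (finTab_588) (finTab_589) (Nat.ble 589 c)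
noncomputable def finTab_s_586_590 (c : Nat) : Nat := @Bool.rec (fun _ => Nat) (finTab_s_586_588 c) (finTab_s_588_590 c) (Nat.ble 588 c)
noncomputable def finTab_s_583_590 (c : Nat) : Nat := @Bool.rec (fun _ => Nat) (finTab_s_583_586 c) (finTab_s_586_590 c) (Nat.ble 586 c)
noncomputable def finTab_s_576_590 (c : Nat) : Nat := @Bool.rec (fun _ => Nat) (finTab_s_576_583 c) (finTab_s_583_590 c) (Nat.ble 583 c)
noncomputable def finTab_s_562_590 (c : Nat) : Nat := @Bool.rec (fun _ => Nat) (finTab_s_562_576 c) (finTab_s_576_590 c) (Nat.ble 576 c)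
noncomputable def finTab_s_591_593 (c : Nat) : Nat := @Bool.rec (fun _ => Nat) (finTab_591) (finTab_592) (Nat.ble 592 c)
noncomputable def finTab_s_590_593 (c : Nat) : Nat := @Bool.rec (fun _ => Nat) (finTab_590) (finTab_s_591_593 c) (Nat.ble 591 c)
noncomputable def finTab_s_593_595 (c : Nat) : Nat := @Bool.rec (fun _ => Nat) (finTab_593) (finTab_594) (Nat.ble 594 c)
noncomputable def finTab_s_595_597 (c : Nat) : Nat := @Bool.rec (fun _ => Nat) (finTab_595) (finTab_596) (Nat.ble 596 c)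
noncomputable def finTab_s_593_597 (c : Nat) : Nat := @Bool.rec (fun _ => Nat) (finTab_s_593_595 c) (finTab_s_595_597 c) (Nat.ble 595 c)
noncomputable def finTab_s_590_597 (c : Nat) : Nat := @Bool.rec (fun _ => Nat) (finTab_s_590_593 c) (finTab_s_593_597 c) (Nat.ble 593 c)
noncomputable def finTab_s_598_600 (c : Nat) : Nat := @Bool.rec (fun _ => Nat) (finTab_598) (finTab_599) (Nat.ble 599 c)
noncomputable def finTab_s_597_600 (c : Nat) : Nat := @Bool.rec (fun _ => Nat) (finTab_597) (finTab_s_598_600 c) (Nat.ble 598 c)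
noncomputable def finTab_s_600_602 (c : Nat) : Nat := @Bool.rec (fun _ => Nat) (finTab_600) (finTab_601) (Nat.ble 601 c)
noncomputable def finTab_s_602_604 (c : Nat) : Nat := @Bool.rec (fun _ => Nat) (finTab_602) (finTab_603) (Nat.ble 603 c)
noncomputable def finTab_s_600_604 (c : Nat) : Nat := @Bool.rec (fun _ => Nat) (finTab_s_600_602 c) (finTab_s_602_604 c) (Nat.ble 602 c)
noncomputable def finTab_s_597_604 (c : Nat) : Nat := @Bool.rec (fun _ => Nat) (finTab_s_597_600 c) (finTab_s_600_604 c) (Nat.ble 600 c)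
noncomputable def finTab_s_590_604 (c : Nat) : Nat := @Bool.rec (fun _ => Nat) (finTab_s_590_597 c) (finTab_s_597_604 c) (Nat.ble 597 c)
noncomputable def finTab_s_605_607 (c : Nat) : Nat := @Bool.rec (fun _ => Nat) (finTab_605) (finTab_606) (Nat.ble 606 c)
noncomputable def finTab_s_604_607 (c : Nat) : Nat := @Bool.rec (fun _ => Nat) (finTab_604) (finTab_s_605_607 c) (Nat.ble 605 c)
noncomputable def finTab_s_607_609 (c : Nat) : Nat := @Bool.rec (fun _ => Nat) (finTab_607) (finTab_608) (Nat.ble 608 c)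
noncomputable def finTab_s_609_611 (c : Nat) : Nat := @Bool.rec (fun _ => Nat) (finTab_609) (finTab_610) (Nat.ble 610 c)
noncomputable def finTab_s_607_611 (c : Nat) : Nat := @Bool.rec (fun _ => Nat) (finTab_s_607_609 c) (finTab_s_609_611 c) (Nat.ble 609 c)
noncomputable def finTab_s_604_611 (c : Nat) : Nat := @Bool.rec (fun _ => Nat) (finTab_s_604_607 c) (finTab_s_607_611 c) (Nat.ble 607 c)
noncomputable def finTab_s_612_614 (c : Nat) : Nat := @Bool.rec (fun _ => Nat) (finTab_612) (finTab_613) (Nat.ble 613 c)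
noncomputable def finTab_s_611_614 (c : Nat) : Nat := @Bool.rec (fun _ => Nat) (finTab_611) (finTab_s_612_614 c) (Nat.ble 612 c)
noncomputable def finTab_s_614_616 (c : Nat) : Nat := @Bool.rec (fun _ => Nat) (finTab_614) (finTab_615) (Nat.ble 615 c)
noncomputable def finTab_s_616_618 (c : Nat) : Nat := @Bool.rec (fun _ => Nat) (finTab_616) (finTab_617) (Nat.ble 617 c)
noncomputable def finTab_s_614_618 (c : Nat) : Nat := @Bool.rec (fun _ => Nat) (finTab_s_614_616 c) (finTab_s_616_618 c) (Nat.ble 616 c)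
noncomputable def finTab_s_611_618 (c : Nat) : Nat := @Bool.rec (fun _ => Nat) (finTab_s_611_614 c) (finTab_s_614_618 c) (Nat.ble 614 c)
noncomputable def finTab_s_604_618 (c : Nat) : Nat := @Bool.rec (fun _ => Nat) (finTab_s_604_611 c) (finTab_s_611_618 c) (Nat.ble 611 c)
noncomputable def finTab_s_590_618 (c : Nat) : Nat := @Bool.rec (fun _ => Nat) (finTab_s_590_604 c) (finTab_s_604_618 c) (Nat.ble 604 c)
noncomputable def finTab_s_562_618 (c : Nat) : Nat := @Bool.rec (fun _ => Nat) (finTab_s_562_590 c) (finTab_s_590_618 c) (Nat.ble 590 c)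
noncomputable def finTab_s_619_621 (c : Nat) : Nat := @Bool.rec (fun _ => Nat) (finTab_619) (finTab_620) (Nat.ble 620 c)
noncomputable def finTab_s_618_621 (c : Nat) : Nat := @Bool.rec (fun _ => Nat) (finTab_618) (finTab_s_619_621 c) (Nat.ble 619 c)
noncomputable def finTab_s_621_623 (c : Nat) : Nat := @Bool.rec (fun _ => Nat) (finTab_621) (finTab_622) (Nat.ble 622 c)
noncomputable def finTab_s_623_625 (c : Nat) : Nat := @Bool.rec (fun _ => Nat) (finTab_623) (finTab_624) (Nat.ble 624 c)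
noncomputable def finTab_s_621_625 (c : Nat) : Nat := @Bool.rec (fun _ => Nat) (finTab_s_621_623 c) (finTab_s_623_625 c) (Nat.ble 623 c)
noncomputable def finTab_s_618_625 (c : Nat) : Nat := @Bool.rec (fun _ => Nat) (finTab_s_618_621 c) (finTab_s_621_625 c) (Nat.ble 621 c)
noncomputable def finTab_s_626_628 (c : Nat) : Nat := @Bool.rec (fun _ => Nat) (finTab_626) (finTab_627) (Nat.ble 627 c)
noncomputable def finTab_s_625_628 (c : Nat) : Nat := @Bool.rec (fun _ => Nat) (finTab_625) (finTab_s_626_628 c) (Nat.ble 626 c)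
noncomputable def finTab_s_628_630 (c : Nat) : Nat := @Bool.rec (fun _ => Nat) (finTab_628) (finTab_629) (Nat.ble 629 c)
noncomputable def finTab_s_630_632 (c : Nat) : Nat := @Bool.rec (fun _ => Nat) (finTab_630) (finTab_631) (Nat.ble 631 c)
noncomputable def finTab_s_628_632 (c : Nat) : Nat := @Bool.rec (fun _ => Nat) (finTab_s_628_630 c) (finTab_s_630_632 c) (Nat.ble 630 c)
noncomputable def finTab_s_625_632 (c : Nat) : Nat := @Bool.rec (fun _ => Nat) (finTab_s_625_628 c) (finTab_s_628_632 c) (Nat.ble 628 c)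
noncomputable def finTab_s_618_632 (c : Nat) : Nat := @Bool.rec (fun _ => Nat) (finTab_s_618_625 c) (finTab_s_625_632 c) (Nat.ble 625 c)
noncomputable def finTab_s_633_635 (c : Nat) : Nat := @Bool.rec (fun _ => Nat) (finTab_633) (finTab_634) (Nat.ble 634 c)
noncomputable def finTab_s_632_635 (c : Nat) : Nat := @Bool.rec (fun _ => Nat) (finTab_632) (finTab_s_633_635 c) (Nat.ble 633 c)
noncomputable def finTab_s_635_637 (c : Nat) : Nat := @Bool.rec (fun _ => Nat) (finTab_635) (finTab_636) (Nat.ble 636 c)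
noncomputable def finTab_s_637_639 (c : Nat) : Nat := @Bool.rec (fun _ => Nat) (finTab_637) (finTab_638) (Nat.ble 638 c)
noncomputable def finTab_s_635_639 (c : Nat) : Nat := @Bool.rec (fun _ => Nat) (finTab_s_635_637 c) (finTab_s_637_639 c) (Nat.ble 637 c)
noncomputable def finTab_s_632_639 (c : Nat) : Nat := @Bool.rec (fun _ => Nat) (finTab_s_632_635 c) (finTab_s_635_639 c) (Nat.ble 635 c)
noncomputable def finTab_s_640_642 (c : Nat) : Nat := @Bool.rec (fun _ => Nat) (finTab_640) (finTab_641) (Nat.ble 641 c)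
noncomputable def finTab_s_639_642 (c : Nat) : Nat := @Bool.rec (fun _ => Nat) (finTab_639) (finTab_s_640_642 c) (Nat.ble 640 c)
noncomputable def finTab_s_642_644 (c : Nat) : Nat := @Bool.rec (fun _ => Nat) (finTab_642) (finTab_643) (Nat.ble 643 c)
noncomputable def finTab_s_644_646 (c : Nat) : Nat := @Bool.rec (fun _ => Nat) (finTab_644) (finTab_645) (Nat.ble 645 c)
noncomputable def finTab_s_642_646 (c : Nat) : Nat := @Bool.rec (fun _ => Nat) (finTab_s_642_644 c) (finTab_s_644_646 c) (Nat.ble 644 c)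
noncomputable def finTab_s_639_646 (c : Nat) : Nat := @Bool.rec (fun _ => Nat) (finTab_s_639_642 c) (finTab_s_642_646 c) (Nat.ble 642 c)
noncomputable def finTab_s_632_646 (c : Nat) : Nat := @Bool.rec (fun _ => Nat) (finTab_s_632_639 c) (finTab_s_639_646 c) (Nat.ble 639 c)
noncomputable def finTab_s_618_646 (c : Nat) : Nat := @Bool.rec (fun _ => Nat) (finTab_s_618_632 c) (finTab_s_632_646 c) (Nat.ble 632 c)
noncomputable def finTab_s_647_649 (c : Nat) : Nat := @Bool.rec (fun _ => Nat) (finTab_647) (finTab_648) (Nat.ble 648 c)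
noncomputable def finTab_s_646_649 (c : Nat) : Nat := @Bool.rec (fun _ => Nat) (finTab_646) (finTab_s_647_649 c) (Nat.ble 647 c)
noncomputable def finTab_s_649_651 (c : Nat) : Nat := @Bool.rec (fun _ => Nat) (finTab_649) (finTab_650) (Nat.ble 650 c)
noncomputable def finTab_s_651_653 (c : Nat) : Nat := @Bool.rec (fun _ => Nat) (finTab_651) (finTab_652) (Nat.ble 652 c)
noncomputable def finTab_s_649_653 (c : Nat) : Nat := @Bool.rec (fun _ => Nat) (finTab_s_649_651 c) (finTab_s_651_653 c) (Nat.ble 651 c)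
noncomputable def finTab_s_646_653 (c : Nat) : Nat := @Bool.rec (fun _ => Nat) (finTab_s_646_649 c) (finTab_s_649_653 c) (Nat.ble 649 c)
noncomputable def finTab_s_654_656 (c : Nat) : Nat := @Bool.rec (fun _ => Nat) (finTab_654) (finTab_655) (Nat.ble 655 c)
noncomputable def finTab_s_653_656 (c : Nat) : Nat := @Bool.rec (fun _ => Nat) (finTab_653) (finTab_s_654_656 c) (Nat.ble 654 c)
noncomputable def finTab_s_656_658 (c : Nat) : Nat := @Bool.rec (fun _ => Nat) (finTab_656) (finTab_657) (Nat.ble 657 c)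
noncomputable def finTab_s_658_660 (c : Nat) : Nat := @Bool.rec (fun _ => Nat) (finTab_658) (finTab_659) (Nat.ble 659 c)
noncomputable def finTab_s_656_660 (c : Nat) : Nat := @Bool.rec (fun _ => Nat) (finTab_s_656_658 c) (finTab_s_658_660 c) (Nat.ble 658 c)
noncomputable def finTab_s_653_660 (c : Nat) : Nat := @Bool.rec (fun _ => Nat) (finTab_s_653_656 c) (finTab_s_656_660 c) (Nat.ble 656 c)
noncomputable def finTab_s_646_660 (c : Nat) : Nat := @Bool.rec (fun _ => Nat) (finTab_s_646_653 c) (finTab_s_653_660 c) (Nat.ble 653 c)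
noncomputable def finTab_s_661_663 (c : Nat) : Nat := @Bool.rec (fun _ => Nat) (finTab_661) (finTab_662) (Nat.ble 662 c)
noncomputable def finTab_s_660_663 (c : Nat) : Nat := @Bool.rec (fun _ => Nat) (finTab_660) (finTab_s_661_663 c) (Nat.ble 661 c)
noncomputable def finTab_s_663_665 (c : Nat) : Nat := @Bool.rec (fun _ => Nat) (finTab_663) (finTab_664) (Nat.ble 664 c)
noncomputable def finTab_s_665_667 (c : Nat) : Nat := @Bool.rec (fun _ => Nat) (finTab_665) (finTab_666) (Nat.ble 666 c)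
noncomputable def finTab_s_663_667 (c : Nat) : Nat := @Bool.rec (fun _ => Nat) (finTab_s_663_665 c) (finTab_s_665_667 c) (Nat.ble 665 c)
noncomputable def finTab_s_660_667 (c : Nat) : Nat := @Bool.rec (fun _ => Nat) (finTab_s_660_663 c) (finTab_s_663_667 c) (Nat.ble 663 c)
noncomputable def finTab_s_667_669 (c : Nat) : Nat := @Bool.rec (fun _ => Nat) (finTab_667) (finTab_668) (Nat.ble 668 c)
noncomputable def finTab_s_669_671 (c : Nat) : Nat := @Bool.rec (fun _ => Nat) (finTab_669) (finTab_670) (Nat.ble 670 c)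
noncomputable def finTab_s_667_671 (c : Nat) : Nat := @Bool.rec (fun _ => Nat) (finTab_s_667_669 c) (finTab_s_669_671 c) (Nat.ble 669 c)
noncomputable def finTab_s_671_673 (c : Nat) : Nat := @Bool.rec (fun _ => Nat) (finTab_671) (finTab_672) (Nat.ble 672 c)
noncomputable def finTab_s_673_675 (c : Nat) : Nat := @Bool.rec (fun _ => Nat) (finTab_673) (finTab_674) (Nat.ble 674 c)
noncomputable def finTab_s_671_675 (c : Nat) : Nat := @Bool.rec (fun _ => Nat) (finTab_s_671_673 c) (finTab_s_673_675 c) (Nat.ble 673 c)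
noncomputable def finTab_s_667_675 (c : Nat) : Nat := @Bool.rec (fun _ => Nat) (finTab_s_667_671 c) (finTab_s_671_675 c) (Nat.ble 671 c)
noncomputable def finTab_s_660_675 (c : Nat) : Nat := @Bool.rec (fun _ => Nat) (finTab_s_660_667 c) (finTab_s_667_675 c) (Nat.ble 667 c)
noncomputable def finTab_s_646_675 (c : Nat) : Nat := @Bool.rec (fun _ => Nat) (finTab_s_646_660 c) (finTab_s_660_675 c) (Nat.ble 660 c)
noncomputable def finTab_s_618_675 (c : Nat) : Nat := @Bool.rec (fun _ => Nat) (finTab_s_618_646 c) (finTab_s_646_675 c) (Nat.ble 646 c)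
noncomputable def finTab_s_562_675 (c : Nat) : Nat := @Bool.rec (fun _ => Nat) (finTab_s_562_618 c) (finTab_s_618_675 c) (Nat.ble 618 c)
noncomputable def finTab_s_450_675 (c : Nat) : Nat := @Bool.rec (fun _ => Nat) (finTab_s_450_562 c) (finTab_s_562_675 c) (Nat.ble 562 c)
noncomputable def finTab_s_676_678 (c : Nat) : Nat := @Bool.rec (fun _ => Nat) (finTab_676) (finTab_677) (Nat.ble 677 c)
noncomputable def finTab_s_675_678 (c : Nat) : Nat := @Bool.rec (fun _ => Nat) (finTab_675) (finTab_s_676_678 c) (Nat.ble 676 c)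
noncomputable def finTab_s_678_680 (c : Nat) : Nat := @Bool.rec (fun _ => Nat) (finTab_678) (finTab_679) (Nat.ble 679 c)
noncomputable def finTab_s_680_682 (c : Nat) : Nat := @Bool.rec (fun _ => Nat) (finTab_680) (finTab_681) (Nat.ble 681 c)
noncomputable def finTab_s_678_682 (c : Nat) : Nat := @Bool.rec (fun _ => Nat) (finTab_s_678_680 c) (finTab_s_680_682 c) (Nat.ble 680 c)
noncomputable def finTab_s_675_682 (c : Nat) : Nat := @Bool.rec (fun _ => Nat) (finTab_s_675_678 c) (finTab_s_678_682 c) (Nat.ble 678 c)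
noncomputable def finTab_s_683_685 (c : Nat) : Nat := @Bool.rec (fun _ => Nat) (finTab_683) (finTab_684) (Nat.ble 684 c)
noncomputable def finTab_s_682_685 (c : Nat) : Nat := @Bool.rec (fun _ => Nat) (finTab_682) (finTab_s_683_685 c) (Nat.ble 683 c)
noncomputable def finTab_s_685_687 (c : Nat) : Nat := @Bool.rec (fun _ => Nat) (finTab_685) (finTab_686) (Nat.ble 686 c)
noncomputable def finTab_s_687_689 (c : Nat) : Nat := @Bool.rec (fun _ => Nat) (finTab_687) (finTab_688) (Nat.ble 688 c)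
noncomputable def finTab_s_685_689 (c : Nat) : Nat := @Bool.rec (fun _ => Nat) (finTab_s_685_687 c) (finTab_s_687_689 c) (Nat.ble 687 c)
noncomputable def finTab_s_682_689 (c : Nat) : Nat := @Bool.rec (fun _ => Nat) (finTab_s_682_685 c) (finTab_s_685_689 c) (Nat.ble 685 c)
noncomputable def finTab_s_675_689 (c : Nat) : Nat := @Bool.rec (fun _ => Nat) (finTab_s_675_682 c) (finTab_s_682_689 c) (Nat.ble 682 c)
noncomputable def finTab_s_690_692 (c : Nat) : Nat := @Bool.rec (fun _ => Nat) (finTab_690) (finTab_691) (Nat.ble 691 c)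
noncomputable def finTab_s_689_692 (c : Nat) : Nat := @Bool.rec (fun _ => Nat) (finTab_689) (finTab_s_690_692 c) (Nat.ble 690 c)
noncomputable def finTab_s_692_694 (c : Nat) : Nat := @Bool.rec (fun _ => Nat) (finTab_692) (finTab_693) (Nat.ble 693 c)
noncomputable def finTab_s_694_696 (c : Nat) : Nat := @Bool.rec (fun _ => Nat) (finTab_694) (finTab_695) (Nat.ble 695 c)
noncomputable def finTab_s_692_696 (c : Nat) : Nat := @Bool.rec (fun _ => Nat) (finTab_s_692_694 c) (finTab_s_694_696 c) (Nat.ble 694 c)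
noncomputable def finTab_s_689_696 (c : Nat) : Nat := @Bool.rec (fun _ => Nat) (finTab_s_689_692 c) (finTab_s_692_696 c) (Nat.ble 692 c)
noncomputable def finTab_s_697_699 (c : Nat) : Nat := @Bool.rec (fun _ => Nat) (finTab_697) (finTab_698) (Nat.ble 698 c)
noncomputable def finTab_s_696_699 (c : Nat) : Nat := @Bool.rec (fun _ => Nat) (finTab_696) (finTab_s_697_699 c) (Nat.ble 697 c)
noncomputable def finTab_s_699_701 (c : Nat) : Nat := @Bool.rec (fun _ => Nat) (finTab_699) (finTab_700) (Nat.ble 700 c)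
noncomputable def finTab_s_701_703 (c : Nat) : Nat := @Bool.rec (fun _ => Nat) (finTab_701) (finTab_702) (Nat.ble 702 c)
noncomputable def finTab_s_699_703 (c : Nat) : Nat := @Bool.rec (fun _ => Nat) (finTab_s_699_701 c) (finTab_s_701_703 c) (Nat.ble 701 c)
noncomputable def finTab_s_696_703 (c : Nat) : Nat := @Bool.rec (fun _ => Nat) (finTab_s_696_699 c) (finTab_s_699_703 c) (Nat.ble 699 c)
noncomputable def finTab_s_689_703 (c : Nat) : Nat := @Bool.rec (fun _ => Nat) (finTab_s_689_696 c) (finTab_s_696_703 c) (Nat.ble 696 c)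
noncomputable def finTab_s_675_703 (c : Nat) : Nat := @Bool.rec (fun _ => Nat) (finTab_s_675_689 c) (finTab_s_689_703 c) (Nat.ble 689 c)
noncomputable def finTab_s_704_706 (c : Nat) : Nat := @Bool.rec (fun _ => Nat) (finTab_704) (finTab_705) (Nat.ble 705 c)
noncomputable def finTab_s_703_706 (c : Nat) : Nat := @Bool.rec (fun _ => Nat) (finTab_703) (finTab_s_704_706 c) (Nat.ble 704 c)
noncomputable def finTab_s_706_708 (c : Nat) : Nat := @Bool.rec (fun _ => Nat) (finTab_706) (finTab_707) (Nat.ble 707 c)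
noncomputable def finTab_s_708_710 (c : Nat) : Nat := @Bool.rec (fun _ => Nat) (finTab_708) (finTab_709) (Nat.ble 709 c)
noncomputable def finTab_s_706_710 (c : Nat) : Nat := @Bool.rec (fun _ => Nat) (finTab_s_706_708 c) (finTab_s_708_710 c) (Nat.ble 708 c)
noncomputable def finTab_s_703_710 (c : Nat) : Nat := @Bool.rec (fun _ => Nat) (finTab_s_703_706 c) (finTab_s_706_710 c) (Nat.ble 706 c)
noncomputable def finTab_s_711_713 (c : Nat) : Nat := @Bool.rec (fun _ => Nat) (finTab_711) (finTab_712) (Nat.ble 712 c)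
noncomputable def finTab_s_710_713 (c : Nat) : Nat := @Bool.rec (fun _ => Nat) (finTab_710) (finTab_s_711_713 c) (Nat.ble 711 c)
noncomputable def finTab_s_713_715 (c : Nat) : Nat := @Bool.rec (fun _ => Nat) (finTab_713) (finTab_714) (Nat.ble 714 c)
noncomputable def finTab_s_715_717 (c : Nat) : Nat := @Bool.rec (fun _ => Nat) (finTab_715) (finTab_716) (Nat.ble 716 c)
noncomputable def finTab_s_713_717 (c : Nat) : Nat := @Bool.rec (fun _ => Nat) (finTab_s_713_715 c) (finTab_s_715_717 c) (Nat.ble 715 c)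
noncomputable def finTab_s_710_717 (c : Nat) : Nat := @Bool.rec (fun _ => Nat) (finTab_s_710_713 c) (finTab_s_713_717 c) (Nat.ble 713 c)
noncomputable def finTab_s_703_717 (c : Nat) : Nat := @Bool.rec (fun _ => Nat) (finTab_s_703_710 c) (finTab_s_710_717 c) (Nat.ble 710 c)
noncomputable def finTab_s_718_720 (c : Nat) : Nat := @Bool.rec (fun _ => Nat) (finTab_718) (finTab_719) (Nat.ble 719 c)
noncomputable def finTab_s_717_720 (c : Nat) : Nat := @Bool.rec (fun _ => Nat) (finTab_717) (finTab_s_718_720 c) (Nat.ble 718 c)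
noncomputable def finTab_s_720_722 (c : Nat) : Nat := @Bool.rec (fun _ => Nat) (finTab_720) (finTab_721) (Nat.ble 721 c)
noncomputable def finTab_s_722_724 (c : Nat) : Nat := @Bool.rec (fun _ => Nat) (finTab_722) (finTab_723) (Nat.ble 723 c)
noncomputable def finTab_s_720_724 (c : Nat) : Nat := @Bool.rec (fun _ => Nat) (finTab_s_720_722 c) (finTab_s_722_724 c) (Nat.ble 722 c)
noncomputable def finTab_s_717_724 (c : Nat) : Nat := @Bool.rec (fun _ => Nat) (finTab_s_717_720 c) (finTab_s_720_724 c) (Nat.ble 720 c)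
noncomputable def finTab_s_725_727 (c : Nat) : Nat := @Bool.rec (fun _ => Nat) (finTab_725) (finTab_726) (Nat.ble 726 c)
noncomputable def finTab_s_724_727 (c : Nat) : Nat := @Bool.rec (fun _ => Nat) (finTab_724) (finTab_s_725_727 c) (Nat.ble 725 c)
noncomputable def finTab_s_727_729 (c : Nat) : Nat := @Bool.rec (fun _ => Nat) (finTab_727) (finTab_728) (Nat.ble 728 c)
noncomputable def finTab_s_729_731 (c : Nat) : Nat := @Bool.rec (fun _ => Nat) (finTab_729) (finTab_730) (Nat.ble 730 c)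
noncomputable def finTab_s_727_731 (c : Nat) : Nat := @Bool.rec (fun _ => Nat) (finTab_s_727_729 c) (finTab_s_729_731 c) (Nat.ble 729 c)
noncomputable def finTab_s_724_731 (c : Nat) : Nat := @Bool.rec (fun _ => Nat) (finTab_s_724_727 c) (finTab_s_727_731 c) (Nat.ble 727 c)
noncomputable def finTab_s_717_731 (c : Nat) : Nat := @Bool.rec (fun _ => Nat) (finTab_s_717_724 c) (finTab_s_724_731 c) (Nat.ble 724 c)
noncomputable def finTab_s_703_731 (c : Nat) : Nat := @Bool.rec (fun _ => Nat) (finTab_s_703_717 c) (finTab_s_717_731 c) (Nat.ble 717 c)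
noncomputable def finTab_s_675_731 (c : Nat) : Nat := @Bool.rec (fun _ => Nat) (finTab_s_675_703 c) (finTab_s_703_731 c) (Nat.ble 703 c)
noncomputable def finTab_s_732_734 (c : Nat) : Nat := @Bool.rec (fun _ => Nat) (finTab_732) (finTab_733) (Nat.ble 733 c)
noncomputable def finTab_s_731_734 (c : Nat) : Nat := @Bool.rec (fun _ => Nat) (finTab_731) (finTab_s_732_734 c) (Nat.ble 732 c)
noncomputable def finTab_s_734_736 (c : Nat) : Nat := @Bool.rec (fun _ => Nat) (finTab_734) (finTab_735) (Nat.ble 735 c)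
noncomputable def finTab_s_736_738 (c : Nat) : Nat := @Bool.rec (fun _ => Nat) (finTab_736) (finTab_737) (Nat.ble 737 c)
noncomputable def finTab_s_734_738 (c : Nat) : Nat := @Bool.rec (fun _ => Nat) (finTab_s_734_736 c) (finTab_s_736_738 c) (Nat.ble 736 c)
noncomputable def finTab_s_731_738 (c : Nat) : Nat := @Bool.rec (fun _ => Nat) (finTab_s_731_734 c) (finTab_s_734_738 c) (Nat.ble 734 c)
noncomputable def finTab_s_739_741 (c : Nat) : Nat := @Bool.rec (fun _ => Nat) (finTab_739) (finTab_740) (Nat.ble 740 c)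
noncomputable def finTab_s_738_741 (c : Nat) : Nat := @Bool.rec (fun _ => Nat) (finTab_738) (finTab_s_739_741 c) (Nat.ble 739 c)
noncomputable def finTab_s_741_743 (c : Nat) : Nat := @Bool.rec (fun _ => Nat) (finTab_741) (finTab_742) (Nat.ble 742 c)
noncomputable def finTab_s_743_745 (c : Nat) : Nat := @Bool.rec (fun _ => Nat) (finTab_743) (finTab_744) (Nat.ble 744 c)
noncomputable def finTab_s_741_745 (c : Nat) : Nat := @Bool.rec (fun _ => Nat) (finTab_s_741_743 c) (finTab_s_743_745 c) (Nat.ble 743 c)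
noncomputable def finTab_s_738_745 (c : Nat) : Nat := @Bool.rec (fun _ => Nat) (finTab_s_738_741 c) (finTab_s_741_745 c) (Nat.ble 741 c)
noncomputable def finTab_s_731_745 (c : Nat) : Nat := @Bool.rec (fun _ => Nat) (finTab_s_731_738 c) (finTab_s_738_745 c) (Nat.ble 738 c)
noncomputable def finTab_s_746_748 (c : Nat) : Nat := @Bool.rec (fun _ => Nat) (finTab_746) (finTab_747) (Nat.ble 747 c)
noncomputable def finTab_s_745_748 (c : Nat) : Nat := @Bool.rec (fun _ => Nat) (finTab_745) (finTab_s_746_748 c) (Nat.ble 746 c)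
noncomputable def finTab_s_748_750 (c : Nat) : Nat := @Bool.rec (fun _ => Nat) (finTab_748) (finTab_749) (Nat.ble 749 c)
noncomputable def finTab_s_750_752 (c : Nat) : Nat := @Bool.rec (fun _ => Nat) (finTab_750) (finTab_751) (Nat.ble 751 c)
noncomputable def finTab_s_748_752 (c : Nat) : Nat := @Bool.rec (fun _ => Nat) (finTab_s_748_750 c) (finTab_s_750_752 c) (Nat.ble 750 c)
noncomputable def finTab_s_745_752 (c : Nat) : Nat := @Bool.rec (fun _ => Nat) (finTab_s_745_748 c) (finTab_s_748_752 c) (Nat.ble 748 c)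
noncomputable def finTab_s_753_755 (c : Nat) : Nat := @Bool.rec (fun _ => Nat) (finTab_753) (finTab_754) (Nat.ble 754 c)
noncomputable def finTab_s_752_755 (c : Nat) : Nat := @Bool.rec (fun _ => Nat) (finTab_752) (finTab_s_753_755 c) (Nat.ble 753 c)
noncomputable def finTab_s_755_757 (c : Nat) : Nat := @Bool.rec (fun _ => Nat) (finTab_755) (finTab_756) (Nat.ble 756 c)
noncomputable def finTab_s_757_759 (c : Nat) : Nat := @Bool.rec (fun _ => Nat) (finTab_757) (finTab_758) (Nat.ble 758 c)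
noncomputable def finTab_s_755_759 (c : Nat) : Nat := @Bool.rec (fun _ => Nat) (finTab_s_755_757 c) (finTab_s_757_759 c) (Nat.ble 757 c)
noncomputable def finTab_s_752_759 (c : Nat) : Nat := @Bool.rec (fun _ => Nat) (finTab_s_752_755 c) (finTab_s_755_759 c) (Nat.ble 755 c)
noncomputable def finTab_s_745_759 (c : Nat) : Nat := @Bool.rec (fun _ => Nat) (finTab_s_745_752 c) (finTab_s_752_759 c) (Nat.ble 752 c)
noncomputable def finTab_s_731_759 (c : Nat) : Nat := @Bool.rec (fun _ => Nat) (finTab_s_731_745 c) (finTab_s_745_759 c) (Nat.ble 745 c)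
noncomputable def finTab_s_760_762 (c : Nat) : Nat := @Bool.rec (fun _ => Nat) (finTab_760) (finTab_761) (Nat.ble 761 c)
noncomputable def finTab_s_759_762 (c : Nat) : Nat := @Bool.rec (fun _ => Nat) (finTab_759) (finTab_s_760_762 c) (Nat.ble 760 c)
noncomputable def finTab_s_762_764 (c : Nat) : Nat := @Bool.rec (fun _ => Nat) (finTab_762) (finTab_763) (Nat.ble 763 c)
noncomputable def finTab_s_764_766 (c : Nat) : Nat := @Bool.rec (fun _ => Nat) (finTab_764) (finTab_765) (Nat.ble 765 c)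
noncomputable def finTab_s_762_766 (c : Nat) : Nat := @Bool.rec (fun _ => Nat) (finTab_s_762_764 c) (finTab_s_764_766 c) (Nat.ble 764 c)
noncomputable def finTab_s_759_766 (c : Nat) : Nat := @Bool.rec (fun _ => Nat) (finTab_s_759_762 c) (finTab_s_762_766 c) (Nat.ble 762 c)
noncomputable def finTab_s_767_769 (c : Nat) : Nat := @Bool.rec (fun _ => Nat) (finTab_767) (finTab_768) (Nat.ble 768 c)
noncomputable def finTab_s_766_769 (c : Nat) : Nat := @Bool.rec (fun _ => Nat) (finTab_766) (finTab_s_767_769 c) (Nat.ble 767 c)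
noncomputable def finTab_s_769_771 (c : Nat) : Nat := @Bool.rec (fun _ => Nat) (finTab_769) (finTab_770) (Nat.ble 770 c)
noncomputable def finTab_s_771_773 (c : Nat) : Nat := @Bool.rec (fun _ => Nat) (finTab_771) (finTab_772) (Nat.ble 772 c)
noncomputable def finTab_s_769_773 (c : Nat) : Nat := @Bool.rec (fun _ => Nat) (finTab_s_769_771 c) (finTab_s_771_773 c) (Nat.ble 771 c)
noncomputable def finTab_s_766_773 (c : Nat) : Nat := @Bool.rec (fun _ => Nat) (finTab_s_766_769 c) (finTab_s_769_773 c) (Nat.ble 769 c)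
noncomputable def finTab_s_759_773 (c : Nat) : Nat := @Bool.rec (fun _ => Nat) (finTab_s_759_766 c) (finTab_s_766_773 c) (Nat.ble 766 c)
noncomputable def finTab_s_774_776 (c : Nat) : Nat := @Bool.rec (fun _ => Nat) (finTab_774) (finTab_775) (Nat.ble 775 c)
noncomputable def finTab_s_773_776 (c : Nat) : Nat := @Bool.rec (fun _ => Nat) (finTab_773) (finTab_s_774_776 c) (Nat.ble 774 c)
noncomputable def finTab_s_776_778 (c : Nat) : Nat := @Bool.rec (fun _ => Nat) (finTab_776) (finTab_777) (Nat.ble 777 c)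
noncomputable def finTab_s_778_780 (c : Nat) : Nat := @Bool.rec (fun _ => Nat) (finTab_778) (finTab_779) (Nat.ble 779 c)
noncomputable def finTab_s_776_780 (c : Nat) : Nat := @Bool.rec (fun _ => Nat) (finTab_s_776_778 c) (finTab_s_778_780 c) (Nat.ble 778 c)
noncomputable def finTab_s_773_780 (c : Nat) : Nat := @Bool.rec (fun _ => Nat) (finTab_s_773_776 c) (finTab_s_776_780 c) (Nat.ble 776 c)
noncomputable def finTab_s_781_783 (c : Nat) : Nat := @Bool.rec (fun _ => Nat) (finTab_781) (finTab_782) (Nat.ble 782 c)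
noncomputable def finTab_s_780_783 (c : Nat) : Nat := @Bool.rec (fun _ => Nat) (finTab_780) (finTab_s_781_783 c) (Nat.ble 781 c)
noncomputable def finTab_s_783_785 (c : Nat) : Nat := @Bool.rec (fun _ => Nat) (finTab_783) (finTab_784) (Nat.ble 784 c)
noncomputable def finTab_s_785_787 (c : Nat) : Nat := @Bool.rec (fun _ => Nat) (finTab_785) (finTab_786) (Nat.ble 786 c)
noncomputable def finTab_s_783_787 (c : Nat) : Nat := @Bool.rec (fun _ => Nat) (finTab_s_783_785 c) (finTab_s_785_787 c) (Nat.ble 785 c)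
noncomputable def finTab_s_780_787 (c : Nat) : Nat := @Bool.rec (fun _ => Nat) (finTab_s_780_783 c) (finTab_s_783_787 c) (Nat.ble 783 c)
noncomputable def finTab_s_773_787 (c : Nat) : Nat := @Bool.rec (fun _ => Nat) (finTab_s_773_780 c) (finTab_s_780_787 c) (Nat.ble 780 c)
noncomputable def finTab_s_759_787 (c : Nat) : Nat := @Bool.rec (fun _ => Nat) (finTab_s_759_773 c) (finTab_s_773_787 c) (Nat.ble 773 c)
noncomputable def finTab_s_731_787 (c : Nat) : Nat := @Bool.rec (fun _ => Nat) (finTab_s_731_759 c) (finTab_s_759_787 c) (Nat.ble 759 c)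
noncomputable def finTab_s_675_787 (c : Nat) : Nat := @Bool.rec (fun _ => Nat) (finTab_s_675_731 c) (finTab_s_731_787 c) (Nat.ble 731 c)
noncomputable def finTab_s_788_790 (c : Nat) : Nat := @Bool.rec (fun _ => Nat) (finTab_788) (finTab_789) (Nat.ble 789 c)
noncomputable def finTab_s_787_790 (c : Nat) : Nat := @Bool.rec (fun _ => Nat) (finTab_787) (finTab_s_788_790 c) (Nat.ble 788 c)
noncomputable def finTab_s_790_792 (c : Nat) : Nat := @Bool.rec (fun _ => Nat) (finTab_790) (finTab_791) (Nat.ble 791 c)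
noncomputable def finTab_s_792_794 (c : Nat) : Nat := @Bool.rec (fun _ => Nat) (finTab_792) (finTab_793) (Nat.ble 793 c)
noncomputable def finTab_s_790_794 (c : Nat) : Nat := @Bool.rec (fun _ => Nat) (finTab_s_790_792 c) (finTab_s_792_794 c) (Nat.ble 792 c)
noncomputable def finTab_s_787_794 (c : Nat) : Nat := @Bool.rec (fun _ => Nat) (finTab_s_787_790 c) (finTab_s_790_794 c) (Nat.ble 790 c)
noncomputable def finTab_s_795_797 (c : Nat) : Nat := @Bool.rec (fun _ => Nat) (finTab_795) (finTab_796) (Nat.ble 796 c)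
noncomputable def finTab_s_794_797 (c : Nat) : Nat := @Bool.rec (fun _ => Nat) (finTab_794) (finTab_s_795_797 c) (Nat.ble 795 c)
noncomputable def finTab_s_797_799 (c : Nat) : Nat := @Bool.rec (fun _ => Nat) (finTab_797) (finTab_798) (Nat.ble 798 c)
noncomputable def finTab_s_799_801 (c : Nat) : Nat := @Bool.rec (fun _ => Nat) (finTab_799) (finTab_800) (Nat.ble 800 c)
noncomputable def finTab_s_797_801 (c : Nat) : Nat := @Bool.rec (fun _ => Nat) (finTab_s_797_799 c) (finTab_s_799_801 c) (Nat.ble 799 c)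
noncomputable def finTab_s_794_801 (c : Nat) : Nat := @Bool.rec (fun _ => Nat) (finTab_s_794_797 c) (finTab_s_797_801 c) (Nat.ble 797 c)
noncomputable def finTab_s_787_801 (c : Nat) : Nat := @Bool.rec (fun _ => Nat) (finTab_s_787_794 c) (finTab_s_794_801 c) (Nat.ble 794 c)
noncomputable def finTab_s_802_804 (c : Nat) : Nat := @Bool.rec (fun _ => Nat) (finTab_802) (finTab_803) (Nat.ble 803 c)
noncomputable def finTab_s_801_804 (c : Nat) : Nat := @Bool.rec (fun _ => Nat) (finTab_801) (finTab_s_802_804 c) (Nat.ble 802 c)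
noncomputable def finTab_s_804_806 (c : Nat) : Nat := @Bool.rec (fun _ => Nat) (finTab_804) (finTab_805) (Nat.ble 805 c)
noncomputable def finTab_s_806_808 (c : Nat) : Nat := @Bool.rec (fun _ => Nat) (finTab_806) (finTab_807) (Nat.ble 807 c)
noncomputable def finTab_s_804_808 (c : Nat) : Nat := @Bool.rec (fun _ => Nat) (finTab_s_804_806 c) (finTab_s_806_808 c) (Nat.ble 806 c)
noncomputable def finTab_s_801_808 (c : Nat) : Nat := @Bool.rec (fun _ => Nat) (finTab_s_801_804 c) (finTab_s_804_808 c) (Nat.ble 804 c)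
noncomputable def finTab_s_809_811 (c : Nat) : Nat := @Bool.rec (fun _ => Nat) (finTab_809) (finTab_810) (Nat.ble 810 c)
noncomputable def finTab_s_808_811 (c : Nat) : Nat := @Bool.rec (fun _ => Nat) (finTab_808) (finTab_s_809_811 c) (Nat.ble 809 c)
noncomputable def finTab_s_811_813 (c : Nat) : Nat := @Bool.rec (fun _ => Nat) (finTab_811) (finTab_812) (Nat.ble 812 c)
noncomputable def finTab_s_813_815 (c : Nat) : Nat := @Bool.rec (fun _ => Nat) (finTab_813) (finTab_814) (Nat.ble 814 c)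
noncomputable def finTab_s_811_815 (c : Nat) : Nat := @Bool.rec (fun _ => Nat) (finTab_s_811_813 c) (finTab_s_813_815 c) (Nat.ble 813 c)
noncomputable def finTab_s_808_815 (c : Nat) : Nat := @Bool.rec (fun _ => Nat) (finTab_s_808_811 c) (finTab_s_811_815 c) (Nat.ble 811 c)
noncomputable def finTab_s_801_815 (c : Nat) : Nat := @Bool.rec (fun _ => Nat) (finTab_s_801_808 c) (finTab_s_808_815 c) (Nat.ble 808 c)
noncomputable def finTab_s_787_815 (c : Nat) : Nat := @Bool.rec (fun _ => Nat) (finTab_s_787_801 c) (finTab_s_801_815 c) (Nat.ble 801 c)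
noncomputable def finTab_s_816_818 (c : Nat) : Nat := @Bool.rec (fun _ => Nat) (finTab_816) (finTab_817) (Nat.ble 817 c)
noncomputable def finTab_s_815_818 (c : Nat) : Nat := @Bool.rec (fun _ => Nat) (finTab_815) (finTab_s_816_818 c) (Nat.ble 816 c)
noncomputable def finTab_s_818_820 (c : Nat) : Nat := @Bool.rec (fun _ => Nat) (finTab_818) (finTab_819) (Nat.ble 819 c)
noncomputable def finTab_s_820_822 (c : Nat) : Nat := @Bool.rec (fun _ => Nat) (finTab_820) (finTab_821) (Nat.ble 821 c)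
noncomputable def finTab_s_818_822 (c : Nat) : Nat := @Bool.rec (fun _ => Nat) (finTab_s_818_820 c) (finTab_s_820_822 c) (Nat.ble 820 c)
noncomputable def finTab_s_815_822 (c : Nat) : Nat := @Bool.rec (fun _ => Nat) (finTab_s_815_818 c) (finTab_s_818_822 c) (Nat.ble 818 c)
noncomputable def finTab_s_823_825 (c : Nat) : Nat := @Bool.rec (fun _ => Nat) (finTab_823) (finTab_824) (Nat.ble 824 c)
noncomputable def finTab_s_822_825 (c : Nat) : Nat := @Bool.rec (fun _ => Nat) (finTab_822) (finTab_s_823_825 c) (Nat.ble 823 c)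
noncomputable def finTab_s_825_827 (c : Nat) : Nat := @Bool.rec (fun _ => Nat) (finTab_825) (finTab_826) (Nat.ble 826 c)
noncomputable def finTab_s_827_829 (c : Nat) : Nat := @Bool.rec (fun _ => Nat) (finTab_827) (finTab_828) (Nat.ble 828 c)
noncomputable def finTab_s_825_829 (c : Nat) : Nat := @Bool.rec (fun _ => Nat) (finTab_s_825_827 c) (finTab_s_827_829 c) (Nat.ble 827 c)
noncomputable def finTab_s_822_829 (c : Nat) : Nat := @Bool.rec (fun _ => Nat) (finTab_s_822_825 c) (finTab_s_825_829 c) (Nat.ble 825 c)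
noncomputable def finTab_s_815_829 (c : Nat) : Nat := @Bool.rec (fun _ => Nat) (finTab_s_815_822 c) (finTab_s_822_829 c) (Nat.ble 822 c)
noncomputable def finTab_s_830_832 (c : Nat) : Nat := @Bool.rec (fun _ => Nat) (finTab_830) (finTab_831) (Nat.ble 831 c)
noncomputable def finTab_s_829_832 (c : Nat) : Nat := @Bool.rec (fun _ => Nat) (finTab_829) (finTab_s_830_832 c) (Nat.ble 830 c)
noncomputable def finTab_s_832_834 (c : Nat) : Nat := @Bool.rec (fun _ => Nat) (finTab_832) (finTab_833) (Nat.ble 833 c)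
noncomputable def finTab_s_834_836 (c : Nat) : Nat := @Bool.rec (fun _ => Nat) (finTab_834) (finTab_835) (Nat.ble 835 c)
noncomputable def finTab_s_832_836 (c : Nat) : Nat := @Bool.rec (fun _ => Nat) (finTab_s_832_834 c) (finTab_s_834_836 c) (Nat.ble 834 c)
noncomputable def finTab_s_829_836 (c : Nat) : Nat := @Bool.rec (fun _ => Nat) (finTab_s_829_832 c) (finTab_s_832_836 c) (Nat.ble 832 c)
noncomputable def finTab_s_837_839 (c : Nat) : Nat := @Bool.rec (fun _ => Nat) (finTab_837) (finTab_838) (Nat.ble 838 c)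
noncomputable def finTab_s_836_839 (c : Nat) : Nat := @Bool.rec (fun _ => Nat) (finTab_836) (finTab_s_837_839 c) (Nat.ble 837 c)
noncomputable def finTab_s_839_841 (c : Nat) : Nat := @Bool.rec (fun _ => Nat) (finTab_839) (finTab_840) (Nat.ble 840 c)
noncomputable def finTab_s_841_843 (c : Nat) : Nat := @Bool.rec (fun _ => Nat) (finTab_841) (finTab_842) (Nat.ble 842 c)
noncomputable def finTab_s_839_843 (c : Nat) : Nat := @Bool.rec (fun _ => Nat) (finTab_s_839_841 c) (finTab_s_841_843 c) (Nat.ble 841 c)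
noncomputable def finTab_s_836_843 (c : Nat) : Nat := @Bool.rec (fun _ => Nat) (finTab_s_836_839 c) (finTab_s_839_843 c) (Nat.ble 839 c)
noncomputable def finTab_s_829_843 (c : Nat) : Nat := @Bool.rec (fun _ => Nat) (finTab_s_829_836 c) (finTab_s_836_843 c) (Nat.ble 836 c)
noncomputable def finTab_s_815_843 (c : Nat) : Nat := @Bool.rec (fun _ => Nat) (finTab_s_815_829 c) (finTab_s_829_843 c) (Nat.ble 829 c)
noncomputable def finTab_s_787_843 (c : Nat) : Nat := @Bool.rec (fun _ => Nat) (finTab_s_787_815 c) (finTab_s_815_843 c) (Nat.ble 815 c)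
noncomputable def finTab_s_844_846 (c : Nat) : Nat := @Bool.rec (fun _ => Nat) (finTab_844) (finTab_845) (Nat.ble 845 c)
noncomputable def finTab_s_843_846 (c : Nat) : Nat := @Bool.rec (fun _ => Nat) (finTab_843) (finTab_s_844_846 c) (Nat.ble 844 c)
noncomputable def finTab_s_846_848 (c : Nat) : Nat := @Bool.rec (fun _ => Nat) (finTab_846) (finTab_847) (Nat.ble 847 c)
noncomputable def finTab_s_848_850 (c : Nat) : Nat := @Bool.rec (fun _ => Nat) (finTab_848) (finTab_849) (Nat.ble 849 c)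
noncomputable def finTab_s_846_850 (c : Nat) : Nat := @Bool.rec (fun _ => Nat) (finTab_s_846_848 c) (finTab_s_848_850 c) (Nat.ble 848 c)
noncomputable def finTab_s_843_850 (c : Nat) : Nat := @Bool.rec (fun _ => Nat) (finTab_s_843_846 c) (finTab_s_846_850 c) (Nat.ble 846 c)
noncomputable def finTab_s_851_853 (c : Nat) : Nat := @Bool.rec (fun _ => Nat) (finTab_851) (finTab_852) (Nat.ble 852 c)
noncomputable def finTab_s_850_853 (c : Nat) : Nat := @Bool.rec (fun _ => Nat) (finTab_850) (finTab_s_851_853 c) (Nat.ble 851 c)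
noncomputable def finTab_s_853_855 (c : Nat) : Nat := @Bool.rec (fun _ => Nat) (finTab_853) (finTab_854) (Nat.ble 854 c)
noncomputable def finTab_s_855_857 (c : Nat) : Nat := @Bool.rec (fun _ => Nat) (finTab_855) (finTab_856) (Nat.ble 856 c)
noncomputable def finTab_s_853_857 (c : Nat) : Nat := @Bool.rec (fun _ => Nat) (finTab_s_853_855 c) (finTab_s_855_857 c) (Nat.ble 855 c)
noncomputable def finTab_s_850_857 (c : Nat) : Nat := @Bool.rec (fun _ => Nat) (finTab_s_850_853 c) (finTab_s_853_857 c) (Nat.ble 853 c)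
noncomputable def finTab_s_843_857 (c : Nat) : Nat := @Bool.rec (fun _ => Nat) (finTab_s_843_850 c) (finTab_s_850_857 c) (Nat.ble 850 c)
noncomputable def finTab_s_858_860 (c : Nat) : Nat := @Bool.rec (fun _ => Nat) (finTab_858) (finTab_859) (Nat.ble 859 c)
noncomputable def finTab_s_857_860 (c : Nat) : Nat := @Bool.rec (fun _ => Nat) (finTab_857) (finTab_s_858_860 c) (Nat.ble 858 c)
noncomputable def finTab_s_860_862 (c : Nat) : Nat := @Bool.rec (fun _ => Nat) (finTab_860) (finTab_861) (Nat.ble 861 c)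
noncomputable def finTab_s_862_864 (c : Nat) : Nat := @Bool.rec (fun _ => Nat) (finTab_862) (finTab_863) (Nat.ble 863 c)
noncomputable def finTab_s_860_864 (c : Nat) : Nat := @Bool.rec (fun _ => Nat) (finTab_s_860_862 c) (finTab_s_862_864 c) (Nat.ble 862 c)
noncomputable def finTab_s_857_864 (c : Nat) : Nat := @Bool.rec (fun _ => Nat) (finTab_s_857_860 c) (finTab_s_860_864 c) (Nat.ble 860 c)
noncomputable def finTab_s_865_867 (c : Nat) : Nat := @Bool.rec (fun _ => Nat) (finTab_865) (finTab_866) (Nat.ble 866 c)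
noncomputable def finTab_s_864_867 (c : Nat) : Nat := @Bool.rec (fun _ => Nat) (finTab_864) (finTab_s_865_867 c) (Nat.ble 865 c)
noncomputable def finTab_s_867_869 (c : Nat) : Nat := @Bool.rec (fun _ => Nat) (finTab_867) (finTab_868) (Nat.ble 868 c)
noncomputable def finTab_s_869_871 (c : Nat) : Nat := @Bool.rec (fun _ => Nat) (finTab_869) (finTab_870) (Nat.ble 870 c)
noncomputable def finTab_s_867_871 (c : Nat) : Nat := @Bool.rec (fun _ => Nat) (finTab_s_867_869 c) (finTab_s_869_871 c) (Nat.ble 869 c)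
noncomputable def finTab_s_864_871 (c : Nat) : Nat := @Bool.rec (fun _ => Nat) (finTab_s_864_867 c) (finTab_s_867_871 c) (Nat.ble 867 c)
noncomputable def finTab_s_857_871 (c : Nat) : Nat := @Bool.rec (fun _ => Nat) (finTab_s_857_864 c) (finTab_s_864_871 c) (Nat.ble 864 c)
noncomputable def finTab_s_843_871 (c : Nat) : Nat := @Bool.rec (fun _ => Nat) (finTab_s_843_857 c) (finTab_s_857_871 c) (Nat.ble 857 c)
noncomputable def finTab_s_872_874 (c : Nat) : Nat := @Bool.rec (fun _ => Nat) (finTab_872) (finTab_873) (Nat.ble 873 c)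
noncomputable def finTab_s_871_874 (c : Nat) : Nat := @Bool.rec (fun _ => Nat) (finTab_871) (finTab_s_872_874 c) (Nat.ble 872 c)
noncomputable def finTab_s_874_876 (c : Nat) : Nat := @Bool.rec (fun _ => Nat) (finTab_874) (finTab_875) (Nat.ble 875 c)
noncomputable def finTab_s_876_878 (c : Nat) : Nat := @Bool.rec (fun _ => Nat) (finTab_876) (finTab_877) (Nat.ble 877 c)
noncomputable def finTab_s_874_878 (c : Nat) : Nat := @Bool.rec (fun _ => Nat) (finTab_s_874_876 c) (finTab_s_876_878 c) (Nat.ble 876 c)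
noncomputable def finTab_s_871_878 (c : Nat) : Nat := @Bool.rec (fun _ => Nat) (finTab_s_871_874 c) (finTab_s_874_878 c) (Nat.ble 874 c)
noncomputable def finTab_s_879_881 (c : Nat) : Nat := @Bool.rec (fun _ => Nat) (finTab_879) (finTab_880) (Nat.ble 880 c)
noncomputable def finTab_s_878_881 (c : Nat) : Nat := @Bool.rec (fun _ => Nat) (finTab_878) (finTab_s_879_881 c) (Nat.ble 879 c)
noncomputable def finTab_s_881_883 (c : Nat) : Nat := @Bool.rec (fun _ => Nat) (finTab_881) (finTab_882) (Nat.ble 882 c)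
noncomputable def finTab_s_883_885 (c : Nat) : Nat := @Bool.rec (fun _ => Nat) (finTab_883) (finTab_884) (Nat.ble 884 c)
noncomputable def finTab_s_881_885 (c : Nat) : Nat := @Bool.rec (fun _ => Nat) (finTab_s_881_883 c) (finTab_s_883_885 c) (Nat.ble 883 c)
noncomputable def finTab_s_878_885 (c : Nat) : Nat := @Bool.rec (fun _ => Nat) (finTab_s_878_881 c) (finTab_s_881_885 c) (Nat.ble 881 c)
noncomputable def finTab_s_871_885 (c : Nat) : Nat := @Bool.rec (fun _ => Nat) (finTab_s_871_878 c) (finTab_s_878_885 c) (Nat.ble 878 c)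
noncomputable def finTab_s_886_888 (c : Nat) : Nat := @Bool.rec (fun _ => Nat) (finTab_886) (finTab_887) (Nat.ble 887 c)
noncomputable def finTab_s_885_888 (c : Nat) : Nat := @Bool.rec (fun _ => Nat) (finTab_885) (finTab_s_886_888 c) (Nat.ble 886 c)
noncomputable def finTab_s_888_890 (c : Nat) : Nat := @Bool.rec (fun _ => Nat) (finTab_888) (finTab_889) (Nat.ble 889 c)
noncomputable def finTab_s_890_892 (c : Nat) : Nat := @Bool.rec (fun _ => Nat) (finTab_890) (finTab_891) (Nat.ble 891 c)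
noncomputable def finTab_s_888_892 (c : Nat) : Nat := @Bool.rec (fun _ => Nat) (finTab_s_888_890 c) (finTab_s_890_892 c) (Nat.ble 890 c)
noncomputable def finTab_s_885_892 (c : Nat) : Nat := @Bool.rec (fun _ => Nat) (finTab_s_885_888 c) (finTab_s_888_892 c) (Nat.ble 888 c)
noncomputable def finTab_s_892_894 (c : Nat) : Nat := @Bool.rec (fun _ => Nat) (finTab_892) (finTab_893) (Nat.ble 893 c)
noncomputable def finTab_s_894_896 (c : Nat) : Nat := @Bool.rec (fun _ => Nat) (finTab_894) (finTab_895) (Nat.ble 895 c)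
noncomputable def finTab_s_892_896 (c : Nat) : Nat := @Bool.rec (fun _ => Nat) (finTab_s_892_894 c) (finTab_s_894_896 c) (Nat.ble 894 c)
noncomputable def finTab_s_896_898 (c : Nat) : Nat := @Bool.rec (fun _ => Nat) (finTab_896) (finTab_897) (Nat.ble 897 c)
noncomputable def finTab_s_898_900 (c : Nat) : Nat := @Bool.rec (fun _ => Nat) (finTab_898) (finTab_899) (Nat.ble 899 c)
noncomputable def finTab_s_896_900 (c : Nat) : Nat := @Bool.rec (fun _ => Nat) (finTab_s_896_898 c) (finTab_s_898_900 c) (Nat.ble 898 c)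
noncomputable def finTab_s_892_900 (c : Nat) : Nat := @Bool.rec (fun _ => Nat) (finTab_s_892_896 c) (finTab_s_896_900 c) (Nat.ble 896 c)
noncomputable def finTab_s_885_900 (c : Nat) : Nat := @Bool.rec (fun _ => Nat) (finTab_s_885_892 c) (finTab_s_892_900 c) (Nat.ble 892 c)
noncomputable def finTab_s_871_900 (c : Nat) : Nat := @Bool.rec (fun _ => Nat) (finTab_s_871_885 c) (finTab_s_885_900 c) (Nat.ble 885 c)
noncomputable def finTab_s_843_900 (c : Nat) : Nat := @Bool.rec (fun _ => Nat) (finTab_s_843_871 c) (finTab_s_871_900 c) (Nat.ble 871 c)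
noncomputable def finTab_s_787_900 (c : Nat) : Nat := @Bool.rec (fun _ => Nat) (finTab_s_787_843 c) (finTab_s_843_900 c) (Nat.ble 843 c)
noncomputable def finTab_s_675_900 (c : Nat) : Nat := @Bool.rec (fun _ => Nat) (finTab_s_675_787 c) (finTab_s_787_900 c) (Nat.ble 787 c)
noncomputable def finTab_s_450_900 (c : Nat) : Nat := @Bool.rec (fun _ => Nat) (finTab_s_450_675 c) (finTab_s_675_900 c) (Nat.ble 675 c)
noncomputable def finTab_s_0_900 (c : Nat) : Nat := @Bool.rec (fun _ => Nat) (finTab_s_0_450 c) (finTab_s_450_900 c) (Nat.ble 450 c)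
noncomputable def finTab (i : Nat) : Nat := rdw 23 8388607 (finTab_s_0_900 (Nat.shiftRight i 12)) (Nat.land i 4095)
noncomputable def clsTab_s_0_2 (c : Nat) : Nat := @Bool.rec (fun _ => Nat) (clsTab_0) (clsTab_1) (Nat.ble 1 c)
noncomputable def clsTab_s_3_5 (c : Nat) : Nat := @Bool.rec (fun _ => Nat) (clsTab_3) (clsTab_4) (Nat.ble 4 c)
noncomputable def clsTab_s_2_5 (c : Nat) : Nat := @Bool.rec (fun _ => Nat) (clsTab_2) (clsTab_s_3_5 c) (Nat.ble 3 c)
noncomputable def clsTab_s_0_5 (c : Nat) : Nat := @Bool.rec (fun _ => Nat) (clsTab_s_0_2 c) (clsTab_s_2_5 c) (Nat.ble 2 c)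
noncomputable def clsTab_s_5_7 (c : Nat) : Nat := @Bool.rec (fun _ => Nat) (clsTab_5) (clsTab_6) (Nat.ble 6 c)
noncomputable def clsTab_s_8_10 (c : Nat) : Nat := @Bool.rec (fun _ => Nat) (clsTab_8) (clsTab_9) (Nat.ble 9 c)
noncomputable def clsTab_s_7_10 (c : Nat) : Nat := @Bool.rec (fun _ => Nat) (clsTab_7) (clsTab_s_8_10 c) (Nat.ble 8 c)
noncomputable def clsTab_s_5_10 (c : Nat) : Nat := @Bool.rec (fun _ => Nat) (clsTab_s_5_7 c) (clsTab_s_7_10 c) (Nat.ble 7 c)
noncomputable def clsTab_s_0_10 (c : Nat) : Nat := @Bool.rec (fun _ => Nat) (clsTab_s_0_5 c) (clsTab_s_5_10 c) (Nat.ble 5 c)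
noncomputable def clsTab_s_10_12 (c : Nat) : Nat := @Bool.rec (fun _ => Nat) (clsTab_10) (clsTab_11) (Nat.ble 11 c)
noncomputable def clsTab_s_13_15 (c : Nat) : Nat := @Bool.rec (fun _ => Nat) (clsTab_13) (clsTab_14) (Nat.ble 14 c)
noncomputable def clsTab_s_12_15 (c : Nat) : Nat := @Bool.rec (fun _ => Nat) (clsTab_12) (clsTab_s_13_15 c) (Nat.ble 13 c)
noncomputable def clsTab_s_10_15 (c : Nat) : Nat := @Bool.rec (fun _ => Nat) (clsTab_s_10_12 c) (clsTab_s_12_15 c) (Nat.ble 12 c)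
noncomputable def clsTab_s_16_18 (c : Nat) : Nat := @Bool.rec (fun _ => Nat) (clsTab_16) (clsTab_17) (Nat.ble 17 c)
noncomputable def clsTab_s_15_18 (c : Nat) : Nat := @Bool.rec (fun _ => Nat) (clsTab_15) (clsTab_s_16_18 c) (Nat.ble 16 c)
noncomputable def clsTab_s_19_21 (c : Nat) : Nat := @Bool.rec (fun _ => Nat) (clsTab_19) (clsTab_20) (Nat.ble 20 c)
noncomputable def clsTab_s_18_21 (c : Nat) : Nat := @Bool.rec (fun _ => Nat) (clsTab_18) (clsTab_s_19_21 c) (Nat.ble 19 c)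
noncomputable def clsTab_s_15_21 (c : Nat) : Nat := @Bool.rec (fun _ => Nat) (clsTab_s_15_18 c) (clsTab_s_18_21 c) (Nat.ble 18 c)
noncomputable def clsTab_s_10_21 (c : Nat) : Nat := @Bool.rec (fun _ => Nat) (clsTab_s_10_15 c) (clsTab_s_15_21 c) (Nat.ble 15 c)
noncomputable def clsTab_s_0_21 (c : Nat) : Nat := @Bool.rec (fun _ => Nat) (clsTab_s_0_10 c) (clsTab_s_10_21 c) (Nat.ble 10 c)
noncomputable def clsTab_s_21_23 (c : Nat) : Nat := @Bool.rec (fun _ => Nat) (clsTab_21) (clsTab_22) (Nat.ble 22 c)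
noncomputable def clsTab_s_24_26 (c : Nat) : Nat := @Bool.rec (fun _ => Nat) (clsTab_24) (clsTab_25) (Nat.ble 25 c)
noncomputable def clsTab_s_23_26 (c : Nat) : Nat := @Bool.rec (fun _ => Nat) (clsTab_23) (clsTab_s_24_26 c) (Nat.ble 24 c)
noncomputable def clsTab_s_21_26 (c : Nat) : Nat := @Bool.rec (fun _ => Nat) (clsTab_s_21_23 c) (clsTab_s_23_26 c) (Nat.ble 23 c)
noncomputable def clsTab_s_26_28 (c : Nat) : Nat := @Bool.rec (fun _ => Nat) (clsTab_26) (clsTab_27) (Nat.ble 27 c)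
noncomputable def clsTab_s_29_31 (c : Nat) : Nat := @Bool.rec (fun _ => Nat) (clsTab_29) (clsTab_30) (Nat.ble 30 c)
noncomputable def clsTab_s_28_31 (c : Nat) : Nat := @Bool.rec (fun _ => Nat) (clsTab_28) (clsTab_s_29_31 c) (Nat.ble 29 c)
noncomputable def clsTab_s_26_31 (c : Nat) : Nat := @Bool.rec (fun _ => Nat) (clsTab_s_26_28 c) (clsTab_s_28_31 c) (Nat.ble 28 c)
noncomputable def clsTab_s_21_31 (c : Nat) : Nat := @Bool.rec (fun _ => Nat) (clsTab_s_21_26 c) (clsTab_s_26_31 c) (Nat.ble 26 c)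
noncomputable def clsTab_s_31_33 (c : Nat) : Nat := @Bool.rec (fun _ => Nat) (clsTab_31) (clsTab_32) (Nat.ble 32 c)
noncomputable def clsTab_s_34_36 (c : Nat) : Nat := @Bool.rec (fun _ => Nat) (clsTab_34) (clsTab_35) (Nat.ble 35 c)
noncomputable def clsTab_s_33_36 (c : Nat) : Nat := @Bool.rec (fun _ => Nat) (clsTab_33) (clsTab_s_34_36 c) (Nat.ble 34 c)
noncomputable def clsTab_s_31_36 (c : Nat) : Nat := @Bool.rec (fun _ => Nat) (clsTab_s_31_33 c) (clsTab_s_33_36 c) (Nat.ble 33 c)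
noncomputable def clsTab_s_37_39 (c : Nat) : Nat := @Bool.rec (fun _ => Nat) (clsTab_37) (clsTab_38) (Nat.ble 38 c)
noncomputable def clsTab_s_36_39 (c : Nat) : Nat := @Bool.rec (fun _ => Nat) (clsTab_36) (clsTab_s_37_39 c) (Nat.ble 37 c)
noncomputable def clsTab_s_40_42 (c : Nat) : Nat := @Bool.rec (fun _ => Nat) (clsTab_40) (clsTab_41) (Nat.ble 41 c)
noncomputable def clsTab_s_39_42 (c : Nat) : Nat := @Bool.rec (fun _ => Nat) (clsTab_39) (clsTab_s_40_42 c) (Nat.ble 40 c)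
noncomputable def clsTab_s_36_42 (c : Nat) : Nat := @Bool.rec (fun _ => Nat) (clsTab_s_36_39 c) (clsTab_s_39_42 c) (Nat.ble 39 c)
noncomputable def clsTab_s_31_42 (c : Nat) : Nat := @Bool.rec (fun _ => Nat) (clsTab_s_31_36 c) (clsTab_s_36_42 c) (Nat.ble 36 c)
noncomputable def clsTab_s_21_42 (c : Nat) : Nat := @Bool.rec (fun _ => Nat) (clsTab_s_21_31 c) (clsTab_s_31_42 c) (Nat.ble 31 c)
noncomputable def clsTab_s_0_42 (c : Nat) : Nat := @Bool.rec (fun _ => Nat) (clsTab_s_0_21 c) (clsTab_s_21_42 c) (Nat.ble 21 c)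
noncomputable def clsTab_s_42_44 (c : Nat) : Nat := @Bool.rec (fun _ => Nat) (clsTab_42) (clsTab_43) (Nat.ble 43 c)
noncomputable def clsTab_s_45_47 (c : Nat) : Nat := @Bool.rec (fun _ => Nat) (clsTab_45) (clsTab_46) (Nat.ble 46 c)
noncomputable def clsTab_s_44_47 (c : Nat) : Nat := @Bool.rec (fun _ => Nat) (clsTab_44) (clsTab_s_45_47 c) (Nat.ble 45 c)
noncomputable def clsTab_s_42_47 (c : Nat) : Nat := @Bool.rec (fun _ => Nat) (clsTab_s_42_44 c) (clsTab_s_44_47 c) (Nat.ble 44 c)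
noncomputable def clsTab_s_47_49 (c : Nat) : Nat := @Bool.rec (fun _ => Nat) (clsTab_47) (clsTab_48) (Nat.ble 48 c)
noncomputable def clsTab_s_50_52 (c : Nat) : Nat := @Bool.rec (fun _ => Nat) (clsTab_50) (clsTab_51) (Nat.ble 51 c)
noncomputable def clsTab_s_49_52 (c : Nat) : Nat := @Bool.rec (fun _ => Nat) (clsTab_49) (clsTab_s_50_52 c) (Nat.ble 50 c)
noncomputable def clsTab_s_47_52 (c : Nat) : Nat := @Bool.rec (fun _ => Nat) (clsTab_s_47_49 c) (clsTab_s_49_52 c) (Nat.ble 49 c)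
noncomputable def clsTab_s_42_52 (c : Nat) : Nat := @Bool.rec (fun _ => Nat) (clsTab_s_42_47 c) (clsTab_s_47_52 c) (Nat.ble 47 c)
noncomputable def clsTab_s_52_54 (c : Nat) : Nat := @Bool.rec (fun _ => Nat) (clsTab_52) (clsTab_53) (Nat.ble 53 c)
noncomputable def clsTab_s_55_57 (c : Nat) : Nat := @Bool.rec (fun _ => Nat) (clsTab_55) (clsTab_56) (Nat.ble 56 c)
noncomputable def clsTab_s_54_57 (c : Nat) : Nat := @Bool.rec (fun _ => Nat) (clsTab_54) (clsTab_s_55_57 c) (Nat.ble 55 c)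
noncomputable def clsTab_s_52_57 (c : Nat) : Nat := @Bool.rec (fun _ => Nat) (clsTab_s_52_54 c) (clsTab_s_54_57 c) (Nat.ble 54 c)
noncomputable def clsTab_s_58_60 (c : Nat) : Nat := @Bool.rec (fun _ => Nat) (clsTab_58) (clsTab_59) (Nat.ble 59 c)
noncomputable def clsTab_s_57_60 (c : Nat) : Nat := @Bool.rec (fun _ => Nat) (clsTab_57) (clsTab_s_58_60 c) (Nat.ble 58 c)
noncomputable def clsTab_s_61_63 (c : Nat) : Nat := @Bool.rec (fun _ => Nat) (clsTab_61) (clsTab_62) (Nat.ble 62 c)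
noncomputable def clsTab_s_60_63 (c : Nat) : Nat := @Bool.rec (fun _ => Nat) (clsTab_60) (clsTab_s_61_63 c) (Nat.ble 61 c)
noncomputable def clsTab_s_57_63 (c : Nat) : Nat := @Bool.rec (fun _ => Nat) (clsTab_s_57_60 c) (clsTab_s_60_63 c) (Nat.ble 60 c)
noncomputable def clsTab_s_52_63 (c : Nat) : Nat := @Bool.rec (fun _ => Nat) (clsTab_s_52_57 c) (clsTab_s_57_63 c) (Nat.ble 57 c)
noncomputable def clsTab_s_42_63 (c : Nat) : Nat := @Bool.rec (fun _ => Nat) (clsTab_s_42_52 c) (clsTab_s_52_63 c) (Nat.ble 52 c)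
noncomputable def clsTab_s_63_65 (c : Nat) : Nat := @Bool.rec (fun _ => Nat) (clsTab_63) (clsTab_64) (Nat.ble 64 c)
noncomputable def clsTab_s_66_68 (c : Nat) : Nat := @Bool.rec (fun _ => Nat) (clsTab_66) (clsTab_67) (Nat.ble 67 c)
noncomputable def clsTab_s_65_68 (c : Nat) : Nat := @Bool.rec (fun _ => Nat) (clsTab_65) (clsTab_s_66_68 c) (Nat.ble 66 c)
noncomputable def clsTab_s_63_68 (c : Nat) : Nat := @Bool.rec (fun _ => Nat) (clsTab_s_63_65 c) (clsTab_s_65_68 c) (Nat.ble 65 c)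
noncomputable def clsTab_s_69_71 (c : Nat) : Nat := @Bool.rec (fun _ => Nat) (clsTab_69) (clsTab_70) (Nat.ble 70 c)
noncomputable def clsTab_s_68_71 (c : Nat) : Nat := @Bool.rec (fun _ => Nat) (clsTab_68) (clsTab_s_69_71 c) (Nat.ble 69 c)
noncomputable def clsTab_s_72_74 (c : Nat) : Nat := @Bool.rec (fun _ => Nat) (clsTab_72) (clsTab_73) (Nat.ble 73 c)
noncomputable def clsTab_s_71_74 (c : Nat) : Nat := @Bool.rec (fun _ => Nat) (clsTab_71) (clsTab_s_72_74 c) (Nat.ble 72 c)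
noncomputable def clsTab_s_68_74 (c : Nat) : Nat := @Bool.rec (fun _ => Nat) (clsTab_s_68_71 c) (clsTab_s_71_74 c) (Nat.ble 71 c)
noncomputable def clsTab_s_63_74 (c : Nat) : Nat := @Bool.rec (fun _ => Nat) (clsTab_s_63_68 c) (clsTab_s_68_74 c) (Nat.ble 68 c)
noncomputable def clsTab_s_74_76 (c : Nat) : Nat := @Bool.rec (fun _ => Nat) (clsTab_74) (clsTab_75) (Nat.ble 75 c)
noncomputable def clsTab_s_77_79 (c : Nat) : Nat := @Bool.rec (fun _ => Nat) (clsTab_77) (clsTab_78) (Nat.ble 78 c)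
noncomputable def clsTab_s_76_79 (c : Nat) : Nat := @Bool.rec (fun _ => Nat) (clsTab_76) (clsTab_s_77_79 c) (Nat.ble 77 c)
noncomputable def clsTab_s_74_79 (c : Nat) : Nat := @Bool.rec (fun _ => Nat) (clsTab_s_74_76 c) (clsTab_s_76_79 c) (Nat.ble 76 c)
noncomputable def clsTab_s_80_82 (c : Nat) : Nat := @Bool.rec (fun _ => Nat) (clsTab_80) (clsTab_81) (Nat.ble 81 c)
noncomputable def clsTab_s_79_82 (c : Nat) : Nat := @Bool.rec (fun _ => Nat) (clsTab_79) (clsTab_s_80_82 c) (Nat.ble 80 c)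
noncomputable def clsTab_s_83_85 (c : Nat) : Nat := @Bool.rec (fun _ => Nat) (clsTab_83) (clsTab_84) (Nat.ble 84 c)
noncomputable def clsTab_s_82_85 (c : Nat) : Nat := @Bool.rec (fun _ => Nat) (clsTab_82) (clsTab_s_83_85 c) (Nat.ble 83 c)
noncomputable def clsTab_s_79_85 (c : Nat) : Nat := @Bool.rec (fun _ => Nat) (clsTab_s_79_82 c) (clsTab_s_82_85 c) (Nat.ble 82 c)
noncomputable def clsTab_s_74_85 (c : Nat) : Nat := @Bool.rec (fun _ => Nat) (clsTab_s_74_79 c) (clsTab_s_79_85 c) (Nat.ble 79 c)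
noncomputable def clsTab_s_63_85 (c : Nat) : Nat := @Bool.rec (fun _ => Nat) (clsTab_s_63_74 c) (clsTab_s_74_85 c) (Nat.ble 74 c)
noncomputable def clsTab_s_42_85 (c : Nat) : Nat := @Bool.rec (fun _ => Nat) (clsTab_s_42_63 c) (clsTab_s_63_85 c) (Nat.ble 63 c)
noncomputable def clsTab_s_0_85 (c : Nat) : Nat := @Bool.rec (fun _ => Nat) (clsTab_s_0_42 c) (clsTab_s_42_85 c) (Nat.ble 42 c)
noncomputable def clsTab (i : Nat) : Nat := rdw 19 524287 (clsTab_s_0_85 (Nat.shiftRight i 12)) (Nat.land i 4095)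
noncomputable def oparTab_s_0_2 (c : Nat) : Nat := @Bool.rec (fun _ => Nat) (oparTab_0) (oparTab_1) (Nat.ble 1 c)
noncomputable def oparTab_s_2_4 (c : Nat) : Nat := @Bool.rec (fun _ => Nat) (oparTab_2) (oparTab_3) (Nat.ble 3 c)
noncomputable def oparTab_s_0_4 (c : Nat) : Nat := @Bool.rec (fun _ => Nat) (oparTab_s_0_2 c) (oparTab_s_2_4 c) (Nat.ble 2 c)
noncomputable def oparTab_s_4_6 (c : Nat) : Nat := @Bool.rec (fun _ => Nat) (oparTab_4) (oparTab_5) (Nat.ble 5 c)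
noncomputable def oparTab_s_7_9 (c : Nat) : Nat := @Bool.rec (fun _ => Nat) (oparTab_7) (oparTab_8) (Nat.ble 8 c)
noncomputable def oparTab_s_6_9 (c : Nat) : Nat := @Bool.rec (fun _ => Nat) (oparTab_6) (oparTab_s_7_9 c) (Nat.ble 7 c)
noncomputable def oparTab_s_4_9 (c : Nat) : Nat := @Bool.rec (fun _ => Nat) (oparTab_s_4_6 c) (oparTab_s_6_9 c) (Nat.ble 6 c)
noncomputable def oparTab_s_0_9 (c : Nat) : Nat := @Bool.rec (fun _ => Nat) (oparTab_s_0_4 c) (oparTab_s_4_9 c) (Nat.ble 4 c)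
noncomputable def oparTab_s_9_11 (c : Nat) : Nat := @Bool.rec (fun _ => Nat) (oparTab_9) (oparTab_10) (Nat.ble 10 c)
noncomputable def oparTab_s_11_13 (c : Nat) : Nat := @Bool.rec (fun _ => Nat) (oparTab_11) (oparTab_12) (Nat.ble 12 c)
noncomputable def oparTab_s_9_13 (c : Nat) : Nat := @Bool.rec (fun _ => Nat) (oparTab_s_9_11 c) (oparTab_s_11_13 c) (Nat.ble 11 c)
noncomputable def oparTab_s_13_15 (c : Nat) : Nat := @Bool.rec (fun _ => Nat) (oparTab_13) (oparTab_14) (Nat.ble 14 c)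
noncomputable def oparTab_s_16_18 (c : Nat) : Nat := @Bool.rec (fun _ => Nat) (oparTab_16) (oparTab_17) (Nat.ble 17 c)
noncomputable def oparTab_s_15_18 (c : Nat) : Nat := @Bool.rec (fun _ => Nat) (oparTab_15) (oparTab_s_16_18 c) (Nat.ble 16 c)
noncomputable def oparTab_s_13_18 (c : Nat) : Nat := @Bool.rec (fun _ => Nat) (oparTab_s_13_15 c) (oparTab_s_15_18 c) (Nat.ble 15 c)
noncomputable def oparTab_s_9_18 (c : Nat) : Nat := @Bool.rec (fun _ => Nat) (oparTab_s_9_13 c) (oparTab_s_13_18 c) (Nat.ble 13 c)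
noncomputable def oparTab_s_0_18 (c : Nat) : Nat := @Bool.rec (fun _ => Nat) (oparTab_s_0_9 c) (oparTab_s_9_18 c) (Nat.ble 9 c)
noncomputable def oparTab_s_18_20 (c : Nat) : Nat := @Bool.rec (fun _ => Nat) (oparTab_18) (oparTab_19) (Nat.ble 19 c)
noncomputable def oparTab_s_20_22 (c : Nat) : Nat := @Bool.rec (fun _ => Nat) (oparTab_20) (oparTab_21) (Nat.ble 21 c)
noncomputable def oparTab_s_18_22 (c : Nat) : Nat := @Bool.rec (fun _ => Nat) (oparTab_s_18_20 c) (oparTab_s_20_22 c) (Nat.ble 20 c)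
noncomputable def oparTab_s_22_24 (c : Nat) : Nat := @Bool.rec (fun _ => Nat) (oparTab_22) (oparTab_23) (Nat.ble 23 c)
noncomputable def oparTab_s_25_27 (c : Nat) : Nat := @Bool.rec (fun _ => Nat) (oparTab_25) (oparTab_26) (Nat.ble 26 c)
noncomputable def oparTab_s_24_27 (c : Nat) : Nat := @Bool.rec (fun _ => Nat) (oparTab_24) (oparTab_s_25_27 c) (Nat.ble 25 c)
noncomputable def oparTab_s_22_27 (c : Nat) : Nat := @Bool.rec (fun _ => Nat) (oparTab_s_22_24 c) (oparTab_s_24_27 c) (Nat.ble 24 c)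
noncomputable def oparTab_s_18_27 (c : Nat) : Nat := @Bool.rec (fun _ => Nat) (oparTab_s_18_22 c) (oparTab_s_22_27 c) (Nat.ble 22 c)
noncomputable def oparTab_s_27_29 (c : Nat) : Nat := @Bool.rec (fun _ => Nat) (oparTab_27) (oparTab_28) (Nat.ble 28 c)
noncomputable def oparTab_s_30_32 (c : Nat) : Nat := @Bool.rec (fun _ => Nat) (oparTab_30) (oparTab_31) (Nat.ble 31 c)
noncomputable def oparTab_s_29_32 (c : Nat) : Nat := @Bool.rec (fun _ => Nat) (oparTab_29) (oparTab_s_30_32 c) (Nat.ble 30 c)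
noncomputable def oparTab_s_27_32 (c : Nat) : Nat := @Bool.rec (fun _ => Nat) (oparTab_s_27_29 c) (oparTab_s_29_32 c) (Nat.ble 29 c)
noncomputable def oparTab_s_32_34 (c : Nat) : Nat := @Bool.rec (fun _ => Nat) (oparTab_32) (oparTab_33) (Nat.ble 33 c)
noncomputable def oparTab_s_35_37 (c : Nat) : Nat := @Bool.rec (fun _ => Nat) (oparTab_35) (oparTab_36) (Nat.ble 36 c)
noncomputable def oparTab_s_34_37 (c : Nat) : Nat := @Bool.rec (fun _ => Nat) (oparTab_34) (oparTab_s_35_37 c) (Nat.ble 35 c)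
noncomputable def oparTab_s_32_37 (c : Nat) : Nat := @Bool.rec (fun _ => Nat) (oparTab_s_32_34 c) (oparTab_s_34_37 c) (Nat.ble 34 c)
noncomputable def oparTab_s_27_37 (c : Nat) : Nat := @Bool.rec (fun _ => Nat) (oparTab_s_27_32 c) (oparTab_s_32_37 c) (Nat.ble 32 c)
noncomputable def oparTab_s_18_37 (c : Nat) : Nat := @Bool.rec (fun _ => Nat) (oparTab_s_18_27 c) (oparTab_s_27_37 c) (Nat.ble 27 c)
noncomputable def oparTab_s_0_37 (c : Nat) : Nat := @Bool.rec (fun _ => Nat) (oparTab_s_0_18 c) (oparTab_s_18_37 c) (Nat.ble 18 c)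
noncomputable def oparTab_s_37_39 (c : Nat) : Nat := @Bool.rec (fun _ => Nat) (oparTab_37) (oparTab_38) (Nat.ble 38 c)
noncomputable def oparTab_s_39_41 (c : Nat) : Nat := @Bool.rec (fun _ => Nat) (oparTab_39) (oparTab_40) (Nat.ble 40 c)
noncomputable def oparTab_s_37_41 (c : Nat) : Nat := @Bool.rec (fun _ => Nat) (oparTab_s_37_39 c) (oparTab_s_39_41 c) (Nat.ble 39 c)
noncomputable def oparTab_s_41_43 (c : Nat) : Nat := @Bool.rec (fun _ => Nat) (oparTab_41) (oparTab_42) (Nat.ble 42 c)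
noncomputable def oparTab_s_44_46 (c : Nat) : Nat := @Bool.rec (fun _ => Nat) (oparTab_44) (oparTab_45) (Nat.ble 45 c)
noncomputable def oparTab_s_43_46 (c : Nat) : Nat := @Bool.rec (fun _ => Nat) (oparTab_43) (oparTab_s_44_46 c) (Nat.ble 44 c)
noncomputable def oparTab_s_41_46 (c : Nat) : Nat := @Bool.rec (fun _ => Nat) (oparTab_s_41_43 c) (oparTab_s_43_46 c) (Nat.ble 43 c)
noncomputable def oparTab_s_37_46 (c : Nat) : Nat := @Bool.rec (fun _ => Nat) (oparTab_s_37_41 c) (oparTab_s_41_46 c) (Nat.ble 41 c)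
noncomputable def oparTab_s_46_48 (c : Nat) : Nat := @Bool.rec (fun _ => Nat) (oparTab_46) (oparTab_47) (Nat.ble 47 c)
noncomputable def oparTab_s_49_51 (c : Nat) : Nat := @Bool.rec (fun _ => Nat) (oparTab_49) (oparTab_50) (Nat.ble 50 c)
noncomputable def oparTab_s_48_51 (c : Nat) : Nat := @Bool.rec (fun _ => Nat) (oparTab_48) (oparTab_s_49_51 c) (Nat.ble 49 c)
noncomputable def oparTab_s_46_51 (c : Nat) : Nat := @Bool.rec (fun _ => Nat) (oparTab_s_46_48 c) (oparTab_s_48_51 c) (Nat.ble 48 c)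
noncomputable def oparTab_s_51_53 (c : Nat) : Nat := @Bool.rec (fun _ => Nat) (oparTab_51) (oparTab_52) (Nat.ble 52 c)
noncomputable def oparTab_s_54_56 (c : Nat) : Nat := @Bool.rec (fun _ => Nat) (oparTab_54) (oparTab_55) (Nat.ble 55 c)
noncomputable def oparTab_s_53_56 (c : Nat) : Nat := @Bool.rec (fun _ => Nat) (oparTab_53) (oparTab_s_54_56 c) (Nat.ble 54 c)
noncomputable def oparTab_s_51_56 (c : Nat) : Nat := @Bool.rec (fun _ => Nat) (oparTab_s_51_53 c) (oparTab_s_53_56 c) (Nat.ble 53 c)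
noncomputable def oparTab_s_46_56 (c : Nat) : Nat := @Bool.rec (fun _ => Nat) (oparTab_s_46_51 c) (oparTab_s_51_56 c) (Nat.ble 51 c)
noncomputable def oparTab_s_37_56 (c : Nat) : Nat := @Bool.rec (fun _ => Nat) (oparTab_s_37_46 c) (oparTab_s_46_56 c) (Nat.ble 46 c)
noncomputable def oparTab_s_56_58 (c : Nat) : Nat := @Bool.rec (fun _ => Nat) (oparTab_56) (oparTab_57) (Nat.ble 57 c)
noncomputable def oparTab_s_58_60 (c : Nat) : Nat := @Bool.rec (fun _ => Nat) (oparTab_58) (oparTab_59) (Nat.ble 59 c)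
noncomputable def oparTab_s_56_60 (c : Nat) : Nat := @Bool.rec (fun _ => Nat) (oparTab_s_56_58 c) (oparTab_s_58_60 c) (Nat.ble 58 c)
noncomputable def oparTab_s_60_62 (c : Nat) : Nat := @Bool.rec (fun _ => Nat) (oparTab_60) (oparTab_61) (Nat.ble 61 c)
noncomputable def oparTab_s_63_65 (c : Nat) : Nat := @Bool.rec (fun _ => Nat) (oparTab_63) (oparTab_64) (Nat.ble 64 c)
noncomputable def oparTab_s_62_65 (c : Nat) : Nat := @Bool.rec (fun _ => Nat) (oparTab_62) (oparTab_s_63_65 c) (Nat.ble 63 c)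
noncomputable def oparTab_s_60_65 (c : Nat) : Nat := @Bool.rec (fun _ => Nat) (oparTab_s_60_62 c) (oparTab_s_62_65 c) (Nat.ble 62 c)
noncomputable def oparTab_s_56_65 (c : Nat) : Nat := @Bool.rec (fun _ => Nat) (oparTab_s_56_60 c) (oparTab_s_60_65 c) (Nat.ble 60 c)
noncomputable def oparTab_s_65_67 (c : Nat) : Nat := @Bool.rec (fun _ => Nat) (oparTab_65) (oparTab_66) (Nat.ble 66 c)
noncomputable def oparTab_s_68_70 (c : Nat) : Nat := @Bool.rec (fun _ => Nat) (oparTab_68) (oparTab_69) (Nat.ble 69 c)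
noncomputable def oparTab_s_67_70 (c : Nat) : Nat := @Bool.rec (fun _ => Nat) (oparTab_67) (oparTab_s_68_70 c) (Nat.ble 68 c)
noncomputable def oparTab_s_65_70 (c : Nat) : Nat := @Bool.rec (fun _ => Nat) (oparTab_s_65_67 c) (oparTab_s_67_70 c) (Nat.ble 67 c)
noncomputable def oparTab_s_70_72 (c : Nat) : Nat := @Bool.rec (fun _ => Nat) (oparTab_70) (oparTab_71) (Nat.ble 71 c)
noncomputable def oparTab_s_73_75 (c : Nat) : Nat := @Bool.rec (fun _ => Nat) (oparTab_73) (oparTab_74) (Nat.ble 74 c)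
noncomputable def oparTab_s_72_75 (c : Nat) : Nat := @Bool.rec (fun _ => Nat) (oparTab_72) (oparTab_s_73_75 c) (Nat.ble 73 c)
noncomputable def oparTab_s_70_75 (c : Nat) : Nat := @Bool.rec (fun _ => Nat) (oparTab_s_70_72 c) (oparTab_s_72_75 c) (Nat.ble 72 c)
noncomputable def oparTab_s_65_75 (c : Nat) : Nat := @Bool.rec (fun _ => Nat) (oparTab_s_65_70 c) (oparTab_s_70_75 c) (Nat.ble 70 c)
noncomputable def oparTab_s_56_75 (c : Nat) : Nat := @Bool.rec (fun _ => Nat) (oparTab_s_56_65 c) (oparTab_s_65_75 c) (Nat.ble 65 c)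
noncomputable def oparTab_s_37_75 (c : Nat) : Nat := @Bool.rec (fun _ => Nat) (oparTab_s_37_56 c) (oparTab_s_56_75 c) (Nat.ble 56 c)
noncomputable def oparTab_s_0_75 (c : Nat) : Nat := @Bool.rec (fun _ => Nat) (oparTab_s_0_37 c) (oparTab_s_37_75 c) (Nat.ble 37 c)
noncomputable def oparTab (i : Nat) : Nat := rdw 19 524287 (oparTab_s_0_75 (Nat.shiftRight i 12)) (Nat.land i 4095)
noncomputable def olabTab_s_0_2 (c : Nat) : Nat := @Bool.rec (fun _ => Nat) (olabTab_0) (olabTab_1) (Nat.ble 1 c)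
noncomputable def olabTab_s_2_4 (c : Nat) : Nat := @Bool.rec (fun _ => Nat) (olabTab_2) (olabTab_3) (Nat.ble 3 c)
noncomputable def olabTab_s_0_4 (c : Nat) : Nat := @Bool.rec (fun _ => Nat) (olabTab_s_0_2 c) (olabTab_s_2_4 c) (Nat.ble 2 c)
noncomputable def olabTab_s_4_6 (c : Nat) : Nat := @Bool.rec (fun _ => Nat) (olabTab_4) (olabTab_5) (Nat.ble 5 c)
noncomputable def olabTab_s_7_9 (c : Nat) : Nat := @Bool.rec (fun _ => Nat) (olabTab_7) (olabTab_8) (Nat.ble 8 c)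
noncomputable def olabTab_s_6_9 (c : Nat) : Nat := @Bool.rec (fun _ => Nat) (olabTab_6) (olabTab_s_7_9 c) (Nat.ble 7 c)
noncomputable def olabTab_s_4_9 (c : Nat) : Nat := @Bool.rec (fun _ => Nat) (olabTab_s_4_6 c) (olabTab_s_6_9 c) (Nat.ble 6 c)
noncomputable def olabTab_s_0_9 (c : Nat) : Nat := @Bool.rec (fun _ => Nat) (olabTab_s_0_4 c) (olabTab_s_4_9 c) (Nat.ble 4 c)
noncomputable def olabTab_s_9_11 (c : Nat) : Nat := @Bool.rec (fun _ => Nat) (olabTab_9) (olabTab_10) (Nat.ble 10 c)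
noncomputable def olabTab_s_12_14 (c : Nat) : Nat := @Bool.rec (fun _ => Nat) (olabTab_12) (olabTab_13) (Nat.ble 13 c)
noncomputable def olabTab_s_11_14 (c : Nat) : Nat := @Bool.rec (fun _ => Nat) (olabTab_11) (olabTab_s_12_14 c) (Nat.ble 12 c)
noncomputable def olabTab_s_9_14 (c : Nat) : Nat := @Bool.rec (fun _ => Nat) (olabTab_s_9_11 c) (olabTab_s_11_14 c) (Nat.ble 11 c)
noncomputable def olabTab_s_14_16 (c : Nat) : Nat := @Bool.rec (fun _ => Nat) (olabTab_14) (olabTab_15) (Nat.ble 15 c)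
noncomputable def olabTab_s_17_19 (c : Nat) : Nat := @Bool.rec (fun _ => Nat) (olabTab_17) (olabTab_18) (Nat.ble 18 c)
noncomputable def olabTab_s_16_19 (c : Nat) : Nat := @Bool.rec (fun _ => Nat) (olabTab_16) (olabTab_s_17_19 c) (Nat.ble 17 c)
noncomputable def olabTab_s_14_19 (c : Nat) : Nat := @Bool.rec (fun _ => Nat) (olabTab_s_14_16 c) (olabTab_s_16_19 c) (Nat.ble 16 c)
noncomputable def olabTab_s_9_19 (c : Nat) : Nat := @Bool.rec (fun _ => Nat) (olabTab_s_9_14 c) (olabTab_s_14_19 c) (Nat.ble 14 c)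
noncomputable def olabTab_s_0_19 (c : Nat) : Nat := @Bool.rec (fun _ => Nat) (olabTab_s_0_9 c) (olabTab_s_9_19 c) (Nat.ble 9 c)
noncomputable def olabTab (i : Nat) : Nat := rdw 4 15 (olabTab_s_0_19 (Nat.shiftRight i 14)) (Nat.land i 16383)
noncomputable def srcF (t : Nat) : Nat := Nat.land (Atab t) 524287
noncomputable def tgtF (t : Nat) : Nat := Nat.land (Nat.shiftRight (Atab t) 19) 524287
noncomputable def ltF (t : Nat) : Nat := Nat.shiftRight (Atab t) 38
noncomputable def rhoF (t : Nat) : Nat := Nat.land (Btab (Nat.sub t 347604)) 255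
noncomputable def rotF (t : Nat) : Nat := Nat.land (Nat.shiftRight (Btab (Nat.sub t 347604)) 8) 255
noncomputable def lenF (t : Nat) : Nat := Nat.land (Nat.shiftRight (Btab (Nat.sub t 347604)) 16) 511
noncomputable def offF (t : Nat) : Nat := Nat.shiftRight (Btab (Nat.sub t 347604)) 25
noncomputable def pfF (j : Nat) : Nat := Nat.shiftRight (Ptab j) 1
noncomputable def pdF (j : Nat) : Nat := Nat.land (Ptab j) 1
noncomputable def tblF (i x : Nat) : Nat := @Bool.rec (fun _ => Nat) (@Bool.rec (fun _ => Nat) (@Bool.rec (fun _ => Nat) (col0 i) (@Bool.rec (fun _ => Nat) (col1 i) (col2 i) (Nat.ble 2 x)) (Nat.ble 1 x)) (@Bool.rec (fun _ => Nat) (col3 i) (@Bool.rec (fun _ => Nat) (col4 i) (col5 i) (Nat.ble 5 x)) (Nat.ble 4 x)) (Nat.ble 3 x)) (@Bool.rec (fun _ => Nat) (@Bool.rec (fun _ => Nat) (col6 i) (@Bool.rec (fun _ => Nat) (col7 i) (col8 i) (Nat.ble 8 x)) (Nat.ble 7 x)) (@Bool.rec (fun _ => Nat) (col9 i) (@Bool.rec (fun _ => Nat)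 (col10 i) (col11 i) (Nat.ble 11 x)) (Nat.ble 10 x)) (Nat.ble 9 x)) (Nat.ble 6 x)
noncomputable def finE (i x : Nat) : Nat := finTab (Nat.add (Nat.mul i 12) x)
noncomputable def finFF (i x : Nat) : Nat := Nat.shiftRight (finE i x) 1
noncomputable def finDF (i x : Nat) : Nat := Nat.land (finE i x) 1

noncomputable def D : Log :=
  { k := 12, inv := invE 12 PFi24.invR, nR := 206, rBase := rBtab, rLen := rLtab, RR := RRtab,
    M := 347582, nB := 22, F := 2204140, src := srcF, lt := ltF, tgt := tgtF, rho := rhoF, rot := rotF,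
    off := offF, len := lenF, pf := pfF, pd := pdF }

noncomputable def T : Tab :=
  { N := 306936, nameOf := nameTab, tbl := tblF, finF := finFF, finD := finDF, cls := clsTab }

def subs : List (List Nat) := [
  [2],
  [3],
  [4],
  [5],
  [6],
  [7],
  [8],
  [10],
  [11],
  [9],
  [0] ]

def rw0 : List Nat := [0, 0]
def rw1 : List Nat := [0, 1, 0, 1, 0, 1]
def rw2 : List Nat := [0, 2, 0, 2]
def rw3 : List Nat := [0, 3, 0, 3]
def rw4 : List Nat := [0, 4, 0, 4]
def rw5 : List Nat := [0, 5, 0, 5]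
def rw6 : List Nat := [0, 6, 0, 6]
def rw7 : List Nat := [0, 10, 0, 10]
def rw8 : List Nat := [0, 7, 0, 7]
def rw9 : List Nat := [0, 8, 0, 8]
def rw10 : List Nat := [0, 9, 0, 9]
def rw11 : List Nat := [0, 11, 0, 11]
def rw12 : List Nat := [1, 1]
def rw13 : List Nat := [1, 2, 1, 2, 1, 2]
def rw14 : List Nat := [1, 3, 1, 3]
def rw15 : List Nat := [1, 4, 1, 4]
def rw16 : List Nat := [1, 5, 1, 5]
def rw17 : List Nat := [1, 6, 1, 6]
def rw18 : List Nat := [1, 10, 1, 10]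
def rw19 : List Nat := [1, 7, 1, 7]
def rw20 : List Nat := [1, 8, 1, 8]
def rw21 : List Nat := [1, 9, 1, 9]
def rw22 : List Nat := [1, 11, 1, 11]
def rw23 : List Nat := [2, 2]
def rw24 : List Nat := [2, 3, 2, 3, 2, 3]
def rw25 : List Nat := [2, 4, 2, 4]
def rw26 : List Nat := [2, 5, 2, 5]
def rw27 : List Nat := [2, 6, 2, 6]
def rw28 : List Nat := [2, 10, 2, 10]
def rw29 : List Nat := [2, 7, 2, 7]
def rw30 : List Nat := [2, 8, 2, 8]
def rw31 : List Nat := [2, 9, 2, 9]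
def rw32 : List Nat := [2, 11, 2, 11]
def rw33 : List Nat := [3, 3]
def rw34 : List Nat := [3, 4, 3, 4, 3, 4]
def rw35 : List Nat := [3, 5, 3, 5]
def rw36 : List Nat := [3, 6, 3, 6]
def rw37 : List Nat := [3, 10, 3, 10]
def rw38 : List Nat := [3, 7, 3, 7]
def rw39 : List Nat := [3, 8, 3, 8]
def rw40 : List Nat := [3, 9, 3, 9]
def rw41 : List Nat := [3, 11, 3, 11]
def rw42 : List Nat := [4, 4]
def rw43 : List Nat := [4, 5, 4, 5, 4, 5]
def rw44 : List Nat := [4, 6, 4, 6]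
def rw45 : List Nat := [4, 10, 4, 10]
def rw46 : List Nat := [4, 7, 4, 7]
def rw47 : List Nat := [4, 8, 4, 8]
def rw48 : List Nat := [4, 9, 4, 9]
def rw49 : List Nat := [4, 11, 4, 11]
def rw50 : List Nat := [5, 5]
def rw51 : List Nat := [5, 6, 5, 6, 5, 6]
def rw52 : List Nat := [5, 10, 5, 10, 5, 10]
def rw53 : List Nat := [5, 7, 5, 7]
def rw54 : List Nat := [5, 8, 5, 8]
def rw55 : List Nat := [5, 9, 5, 9]
def rw56 : List Nat := [5, 11, 5, 11]
def rw57 : List Nat := [6, 6]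
def rw58 : List Nat := [6, 10, 6, 10]
def rw59 : List Nat := [6, 7, 6, 7, 6, 7]
def rw60 : List Nat := [6, 8, 6, 8]
def rw61 : List Nat := [6, 9, 6, 9]
def rw62 : List Nat := [6, 11, 6, 11]
def rw63 : List Nat := [10, 10]
def rw64 : List Nat := [10, 7, 10, 7]
def rw65 : List Nat := [10, 8, 10, 8]
def rw66 : List Nat := [10, 9, 10, 9]
def rw67 : List Nat := [10, 11, 10, 11, 10, 11]
def rw68 : List Nat := [7, 7]
def rw69 : List Nat := [7, 8, 7, 8, 7, 8]
def rw70 : List Nat := [7, 9, 7, 9]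
def rw71 : List Nat := [7, 11, 7, 11]
def rw72 : List Nat := [8, 8]
def rw73 : List Nat := [8, 9, 8, 9, 8, 9]
def rw74 : List Nat := [8, 11, 8, 11]
def rw75 : List Nat := [9, 9]
def rw76 : List Nat := [9, 11, 9, 11]
def rw77 : List Nat := [11, 11]
def rw78 : List Nat := [0, 10, 7, 6, 5, 4, 3, 2, 10, 7, 6, 5, 4, 3, 2, 10, 7, 6, 5, 4, 3, 2, 10, 7, 6, 5, 4, 3, 2, 10, 7, 6, 5, 4, 3, 2, 10, 7, 6, 5, 4, 3, 2, 10, 7, 6, 5, 4, 3, 2, 10, 7, 6, 5, 4, 3, 2, 10, 7, 6, 5, 4, 3, 2]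
def rw79 : List Nat := [5, 4, 3, 2, 1, 0, 5, 6, 7, 8, 9, 5, 10, 11, 5, 4, 3, 2, 1, 0, 5, 6, 7, 8, 9, 5, 10, 11, 5, 4, 3, 2, 1, 0, 5, 6, 7, 8, 9, 5, 10, 11, 5, 4, 3, 2, 1, 0, 5, 6, 7, 8, 9, 5, 10, 11, 5, 4, 3, 2, 1, 0, 5, 6, 7, 8, 9, 5, 10, 11, 5, 4, 3, 2, 1, 0, 5, 6, 7, 8, 9, 5, 10, 11, 5, 4, 3, 2, 1, 0, 5, 6, 7, 8, 9, 5, 10, 11, 5, 4, 3, 2, 1, 0, 5, 6, 7, 8, 9, 5, 10, 11, 5, 4, 3, 2, 1, 0, 5, 6, 7, 8, 9, 5, 10, 11, 5, 4, 3, 2, 1, 0, 5, 6, 7, 8, 9, 5, 10, 11, 5, 4, 3, 2, 1, 0, 5, 6, 7, 8, 9, 5, 10, 11, 5, 4, 3, 2, 1, 0, 5, 6, 7, 8, 9, 5, 10, 11, 5, 4, 3, 2, 1, 0, 5, 6, 7, 8, 9, 5, 10, 11, 5, 4, 3, 2, 1, 0, 5, 6, 7, 8, 9, 5, 10, 11, 5, 4, 3, 2, 1, 0, 5, 6, 7, 8, 9, 5, 10, 11, 5, 4, 3, 2, 1, 0, 5, 6, 7, 8, 9, 5, 10, 11, 5, 4, 3, 2, 1, 0, 5, 6, 7, 8, 9, 5, 10, 11]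
def realLit : List (List Nat) := [rw0, rw1, rw2, rw3, rw4, rw5, rw6, rw7, rw8, rw9, rw10, rw11, rw12, rw13, rw14, rw15, rw16, rw17, rw18, rw19, rw20, rw21, rw22, rw23, rw24, rw25, rw26, rw27, rw28, rw29, rw30, rw31, rw32, rw33, rw34, rw35, rw36, rw37, rw38, rw39, rw40, rw41, rw42, rw43, rw44, rw45, rw46, rw47, rw48, rw49, rw50, rw51, rw52, rw53, rw54, rw55, rw56, rw57, rw58, rw59, rw60, rw61, rw62, rw63, rw64, rw65, rw66, rw67, rw68, rw69, rw70, rw71, rw72, rw73, rw74, rw75, rw76, rw77, rw78, rw79]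
noncomputable def actR0 (i : Nat) : Nat := col0 (col0 (i))
theorem actR0_eq (i : Nat) : actR0 i = Tab.act T D rw0 i := rfl
noncomputable def actR1 (i : Nat) : Nat := col0 (col1 (col0 (col1 (col0 (col1 (i))))))
theorem actR1_eq (i : Nat) : actR1 i = Tab.act T D rw1 i := rfl
noncomputable def actR2 (i : Nat) : Nat := col0 (col2 (col0 (col2 (i))))
theorem actR2_eq (i : Nat) : actR2 i = Tab.act T D rw2 i := rfl
noncomputable def actR3 (i : Nat) : Nat := col0 (col3 (col0 (col3 (i))))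
theorem actR3_eq (i : Nat) : actR3 i = Tab.act T D rw3 i := rfl
noncomputable def actR4 (i : Nat) : Nat := col0 (col4 (col0 (col4 (i))))
theorem actR4_eq (i : Nat) : actR4 i = Tab.act T D rw4 i := rfl
noncomputable def actR5 (i : Nat) : Nat := col0 (col5 (col0 (col5 (i))))
theorem actR5_eq (i : Nat) : actR5 i = Tab.act T D rw5 i := rfl
noncomputable def actR6 (i : Nat) : Nat := col0 (col6 (col0 (col6 (i))))
theorem actR6_eq (i : Nat) : actR6 i = Tab.act T D rw6 i := rfl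
noncomputable def actR7 (i : Nat) : Nat := col0 (col10 (col0 (col10 (i))))
theorem actR7_eq (i : Nat) : actR7 i = Tab.act T D rw7 i := rfl
noncomputable def actR8 (i : Nat) : Nat := col0 (col7 (col0 (col7 (i))))
theorem actR8_eq (i : Nat) : actR8 i = Tab.act T D rw8 i := rfl
noncomputable def actR9 (i : Nat) : Nat := col0 (col8 (col0 (col8 (i))))
theorem actR9_eq (i : Nat) : actR9 i = Tab.act T D rw9 i := rfl
noncomputable def actR10 (i : Nat) : Nat := col0 (col9 (col0 (col9 (i))))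
theorem actR10_eq (i : Nat) : actR10 i = Tab.act T D rw10 i := rfl
noncomputable def actR11 (i : Nat) : Nat := col0 (col11 (col0 (col11 (i))))
theorem actR11_eq (i : Nat) : actR11 i = Tab.act T D rw11 i := rfl
noncomputable def actR12 (i : Nat) : Nat := col1 (col1 (i))
theorem actR12_eq (i : Nat) : actR12 i = Tab.act T D rw12 i := rfl
noncomputable def actR13 (i : Nat) : Nat := col1 (col2 (col1 (col2 (col1 (col2 (i))))))
theorem actR13_eq (i : Nat) : actR13 i = Tab.act T D rw13 i := rfl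
noncomputable def actR14 (i : Nat) : Nat := col1 (col3 (col1 (col3 (i))))
theorem actR14_eq (i : Nat) : actR14 i = Tab.act T D rw14 i := rfl
noncomputable def actR15 (i : Nat) : Nat := col1 (col4 (col1 (col4 (i))))
theorem actR15_eq (i : Nat) : actR15 i = Tab.act T D rw15 i := rfl
noncomputable def actR16 (i : Nat) : Nat := col1 (col5 (col1 (col5 (i))))
theorem actR16_eq (i : Nat) : actR16 i = Tab.act T D rw16 i := rfl
noncomputable def actR17 (i : Nat) : Nat := col1 (col6 (col1 (col6 (i))))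
theorem actR17_eq (i : Nat) : actR17 i = Tab.act T D rw17 i := rfl
noncomputable def actR18 (i : Nat) : Nat := col1 (col10 (col1 (col10 (i))))
theorem actR18_eq (i : Nat) : actR18 i = Tab.act T D rw18 i := rfl
noncomputable def actR19 (i : Nat) : Nat := col1 (col7 (col1 (col7 (i))))
theorem actR19_eq (i : Nat) : actR19 i = Tab.act T D rw19 i := rfl
noncomputable def actR20 (i : Nat) : Nat := col1 (col8 (col1 (col8 (i))))
theorem actR20_eq (i : Nat) : actR20 i = Tab.act T D rw20 i := rfl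
noncomputable def actR21 (i : Nat) : Nat := col1 (col9 (col1 (col9 (i))))
theorem actR21_eq (i : Nat) : actR21 i = Tab.act T D rw21 i := rfl
noncomputable def actR22 (i : Nat) : Nat := col1 (col11 (col1 (col11 (i))))
theorem actR22_eq (i : Nat) : actR22 i = Tab.act T D rw22 i := rfl
noncomputable def actR23 (i : Nat) : Nat := col2 (col2 (i))
theorem actR23_eq (i : Nat) : actR23 i = Tab.act T D rw23 i := rfl
noncomputable def actR24 (i : Nat) : Nat := col2 (col3 (col2 (col3 (col2 (col3 (i))))))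
theorem actR24_eq (i : Nat) : actR24 i = Tab.act T D rw24 i := rfl
noncomputable def actR25 (i : Nat) : Nat := col2 (col4 (col2 (col4 (i))))
theorem actR25_eq (i : Nat) : actR25 i = Tab.act T D rw25 i := rfl
noncomputable def actR26 (i : Nat) : Nat := col2 (col5 (col2 (col5 (i))))
theorem actR26_eq (i : Nat) : actR26 i = Tab.act T D rw26 i := rfl
noncomputable def actR27 (i : Nat) : Nat := col2 (col6 (col2 (col6 (i))))
theorem actR27_eq (i : Nat) : actR27 i = Tab.act T D rw27 i := rfl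
noncomputable def actR28 (i : Nat) : Nat := col2 (col10 (col2 (col10 (i))))
theorem actR28_eq (i : Nat) : actR28 i = Tab.act T D rw28 i := rfl
noncomputable def actR29 (i : Nat) : Nat := col2 (col7 (col2 (col7 (i))))
theorem actR29_eq (i : Nat) : actR29 i = Tab.act T D rw29 i := rfl
noncomputable def actR30 (i : Nat) : Nat := col2 (col8 (col2 (col8 (i))))
theorem actR30_eq (i : Nat) : actR30 i = Tab.act T D rw30 i := rfl
noncomputable def actR31 (i : Nat) : Nat := col2 (col9 (col2 (col9 (i))))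
theorem actR31_eq (i : Nat) : actR31 i = Tab.act T D rw31 i := rfl
noncomputable def actR32 (i : Nat) : Nat := col2 (col11 (col2 (col11 (i))))
theorem actR32_eq (i : Nat) : actR32 i = Tab.act T D rw32 i := rfl
noncomputable def actR33 (i : Nat) : Nat := col3 (col3 (i))
theorem actR33_eq (i : Nat) : actR33 i = Tab.act T D rw33 i := rfl
noncomputable def actR34 (i : Nat) : Nat := col3 (col4 (col3 (col4 (col3 (col4 (i))))))
theorem actR34_eq (i : Nat) : actR34 i = Tab.act T D rw34 i := rfl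
noncomputable def actR35 (i : Nat) : Nat := col3 (col5 (col3 (col5 (i))))
theorem actR35_eq (i : Nat) : actR35 i = Tab.act T D rw35 i := rfl
noncomputable def actR36 (i : Nat) : Nat := col3 (col6 (col3 (col6 (i))))
theorem actR36_eq (i : Nat) : actR36 i = Tab.act T D rw36 i := rfl
noncomputable def actR37 (i : Nat) : Nat := col3 (col10 (col3 (col10 (i))))
theorem actR37_eq (i : Nat) : actR37 i = Tab.act T D rw37 i := rfl
noncomputable def actR38 (i : Nat) : Nat := col3 (col7 (col3 (col7 (i))))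
theorem actR38_eq (i : Nat) : actR38 i = Tab.act T D rw38 i := rfl
noncomputable def actR39 (i : Nat) : Nat := col3 (col8 (col3 (col8 (i))))
theorem actR39_eq (i : Nat) : actR39 i = Tab.act T D rw39 i := rfl
noncomputable def actR40 (i : Nat) : Nat := col3 (col9 (col3 (col9 (i))))
theorem actR40_eq (i : Nat) : actR40 i = Tab.act T D rw40 i := rfl
noncomputable def actR41 (i : Nat) : Nat := col3 (col11 (col3 (col11 (i))))
theorem actR41_eq (i : Nat) : actR41 i = Tab.act T D rw41 i := rfl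
noncomputable def actR42 (i : Nat) : Nat := col4 (col4 (i))
theorem actR42_eq (i : Nat) : actR42 i = Tab.act T D rw42 i := rfl
noncomputable def actR43 (i : Nat) : Nat := col4 (col5 (col4 (col5 (col4 (col5 (i))))))
theorem actR43_eq (i : Nat) : actR43 i = Tab.act T D rw43 i := rfl
noncomputable def actR44 (i : Nat) : Nat := col4 (col6 (col4 (col6 (i))))
theorem actR44_eq (i : Nat) : actR44 i = Tab.act T D rw44 i := rfl
noncomputable def actR45 (i : Nat) : Nat := col4 (col10 (col4 (col10 (i))))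
theorem actR45_eq (i : Nat) : actR45 i = Tab.act T D rw45 i := rfl
noncomputable def actR46 (i : Nat) : Nat := col4 (col7 (col4 (col7 (i))))
theorem actR46_eq (i : Nat) : actR46 i = Tab.act T D rw46 i := rfl
noncomputable def actR47 (i : Nat) : Nat := col4 (col8 (col4 (col8 (i))))
theorem actR47_eq (i : Nat) : actR47 i = Tab.act T D rw47 i := rfl
noncomputable def actR48 (i : Nat) : Nat := col4 (col9 (col4 (col9 (i))))
theorem actR48_eq (i : Nat) : actR48 i = Tab.act T D rw48 i := rfl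
noncomputable def actR49 (i : Nat) : Nat := col4 (col11 (col4 (col11 (i))))
theorem actR49_eq (i : Nat) : actR49 i = Tab.act T D rw49 i := rfl
noncomputable def actR50 (i : Nat) : Nat := col5 (col5 (i))
theorem actR50_eq (i : Nat) : actR50 i = Tab.act T D rw50 i := rfl
noncomputable def actR51 (i : Nat) : Nat := col5 (col6 (col5 (col6 (col5 (col6 (i))))))
theorem actR51_eq (i : Nat) : actR51 i = Tab.act T D rw51 i := rfl
noncomputable def actR52 (i : Nat) : Nat := col5 (col10 (col5 (col10 (col5 (col10 (i))))))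
theorem actR52_eq (i : Nat) : actR52 i = Tab.act T D rw52 i := rfl
noncomputable def actR53 (i : Nat) : Nat := col5 (col7 (col5 (col7 (i))))
theorem actR53_eq (i : Nat) : actR53 i = Tab.act T D rw53 i := rfl
noncomputable def actR54 (i : Nat) : Nat := col5 (col8 (col5 (col8 (i))))
theorem actR54_eq (i : Nat) : actR54 i = Tab.act T D rw54 i := rfl
noncomputable def actR55 (i : Nat) : Nat := col5 (col9 (col5 (col9 (i))))
theorem actR55_eq (i : Nat) : actR55 i = Tab.act T D rw55 i := rfl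
noncomputable def actR56 (i : Nat) : Nat := col5 (col11 (col5 (col11 (i))))
theorem actR56_eq (i : Nat) : actR56 i = Tab.act T D rw56 i := rfl
noncomputable def actR57 (i : Nat) : Nat := col6 (col6 (i))
theorem actR57_eq (i : Nat) : actR57 i = Tab.act T D rw57 i := rfl
noncomputable def actR58 (i : Nat) : Nat := col6 (col10 (col6 (col10 (i))))
theorem actR58_eq (i : Nat) : actR58 i = Tab.act T D rw58 i := rfl
noncomputable def actR59 (i : Nat) : Nat := col6 (col7 (col6 (col7 (col6 (col7 (i))))))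
theorem actR59_eq (i : Nat) : actR59 i = Tab.act T D rw59 i := rfl
noncomputable def actR60 (i : Nat) : Nat := col6 (col8 (col6 (col8 (i))))
theorem actR60_eq (i : Nat) : actR60 i = Tab.act T D rw60 i := rfl
noncomputable def actR61 (i : Nat) : Nat := col6 (col9 (col6 (col9 (i))))
theorem actR61_eq (i : Nat) : actR61 i = Tab.act T D rw61 i := rfl
noncomputable def actR62 (i : Nat) : Nat := col6 (col11 (col6 (col11 (i))))
theorem actR62_eq (i : Nat) : actR62 i = Tab.act T D rw62 i := rfl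
noncomputable def actR63 (i : Nat) : Nat := col10 (col10 (i))
theorem actR63_eq (i : Nat) : actR63 i = Tab.act T D rw63 i := rfl
noncomputable def actR64 (i : Nat) : Nat := col10 (col7 (col10 (col7 (i))))
theorem actR64_eq (i : Nat) : actR64 i = Tab.act T D rw64 i := rfl
noncomputable def actR65 (i : Nat) : Nat := col10 (col8 (col10 (col8 (i))))
theorem actR65_eq (i : Nat) : actR65 i = Tab.act T D rw65 i := rfl
noncomputable def actR66 (i : Nat) : Nat := col10 (col9 (col10 (col9 (i))))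
theorem actR66_eq (i : Nat) : actR66 i = Tab.act T D rw66 i := rfl
noncomputable def actR67 (i : Nat) : Nat := col10 (col11 (col10 (col11 (col10 (col11 (i))))))
theorem actR67_eq (i : Nat) : actR67 i = Tab.act T D rw67 i := rfl
noncomputable def actR68 (i : Nat) : Nat := col7 (col7 (i))
theorem actR68_eq (i : Nat) : actR68 i = Tab.act T D rw68 i := rfl
noncomputable def actR69 (i : Nat) : Nat := col7 (col8 (col7 (col8 (col7 (col8 (i))))))
theorem actR69_eq (i : Nat) : actR69 i = Tab.act T D rw69 i := rfl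
noncomputable def actR70 (i : Nat) : Nat := col7 (col9 (col7 (col9 (i))))
theorem actR70_eq (i : Nat) : actR70 i = Tab.act T D rw70 i := rfl
noncomputable def actR71 (i : Nat) : Nat := col7 (col11 (col7 (col11 (i))))
theorem actR71_eq (i : Nat) : actR71 i = Tab.act T D rw71 i := rfl
noncomputable def actR72 (i : Nat) : Nat := col8 (col8 (i))
theorem actR72_eq (i : Nat) : actR72 i = Tab.act T D rw72 i := rfl
noncomputable def actR73 (i : Nat) : Nat := col8 (col9 (col8 (col9 (col8 (col9 (i))))))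
theorem actR73_eq (i : Nat) : actR73 i = Tab.act T D rw73 i := rfl
noncomputable def actR74 (i : Nat) : Nat := col8 (col11 (col8 (col11 (i))))
theorem actR74_eq (i : Nat) : actR74 i = Tab.act T D rw74 i := rfl
noncomputable def actR75 (i : Nat) : Nat := col9 (col9 (i))
theorem actR75_eq (i : Nat) : actR75 i = Tab.act T D rw75 i := rfl
noncomputable def actR76 (i : Nat) : Nat := col9 (col11 (col9 (col11 (i))))
theorem actR76_eq (i : Nat) : actR76 i = Tab.act T D rw76 i := rfl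
noncomputable def actR77 (i : Nat) : Nat := col11 (col11 (i))
theorem actR77_eq (i : Nat) : actR77 i = Tab.act T D rw77 i := rfl
noncomputable def actR78 (i : Nat) : Nat := col0 (col10 (col7 (col6 (col5 (col4 (col3 (col2 (col10 (col7 (col6 (col5 (col4 (col3 (col2 (col10 (col7 (col6 (col5 (col4 (col3 (col2 (col10 (col7 (col6 (col5 (col4 (col3 (col2 (col10 (col7 (col6 (col5 (col4 (col3 (col2 (col10 (col7 (col6 (col5 (col4 (col3 (col2 (col10 (col7 (col6 (col5 (col4 (col3 (col2 (col10 (col7 (col6 (col5 (col4 (col3 (col2 (col10 (col7 (col6 (col5 (col4 (col3 (col2 (i))))))))))))))))))))))))))))))))))))))))))))))))))))))))))))))))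
theorem actR78_eq (i : Nat) : actR78 i = Tab.act T D rw78 i := rfl
noncomputable def actR79 (i : Nat) : Nat := col5 (col4 (col3 (col2 (col1 (col0 (col5 (col6 (col7 (col8 (col9 (col5 (col10 (col11 (col5 (col4 (col3 (col2 (col1 (col0 (col5 (col6 (col7 (col8 (col9 (col5 (col10 (col11 (col5 (col4 (col3 (col2 (col1 (col0 (col5 (col6 (col7 (col8 (col9 (col5 (col10 (col11 (col5 (col4 (col3 (col2 (col1 (col0 (col5 (col6 (col7 (col8 (col9 (col5 (col10 (col11 (col5 (col4 (col3 (col2 (col1 (col0 (col5 (col6 (col7 (col8 (col9 (col5 (col10 (col11 (col5 (col4 (col3 (col2 (col1 (col0 (col5 (col6 (col7 (col8 (col9 (col5 (col10 (col11 (col5 (col4 (col3 (col2 (col1 (col0 (col5 (col6 (col7 (col8 (col9 (col5 (col10 (col11 (col5 (col4 (col3 (col2 (col1 (col0 (col5 (col6 (col7 (col8 (col9 (col5 (col10 (col11 (col5 (col4 (col3 (col2 (col1 (col0 (col5 (col6 (col7 (col8 (col9 (col5 (col10 (col11 (col5 (col4 (col3 (col2 (col1 (col0 (col5 (col6 (col7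 (col8 (col9 (col5 (col10 (col11 (col5 (col4 (col3 (col2 (col1 (col0 (col5 (col6 (col7 (col8 (col9 (col5 (col10 (col11 (col5 (col4 (col3 (col2 (col1 (col0 (col5 (col6 (col7 (col8 (col9 (col5 (col10 (col11 (col5 (col4 (col3 (col2 (col1 (col0 (col5 (col6 (col7 (col8 (col9 (col5 (col10 (col11 (col5 (col4 (col3 (col2 (col1 (col0 (col5 (col6 (col7 (col8 (col9 (col5 (col10 (col11 (col5 (col4 (col3 (col2 (col1 (col0 (col5 (col6 (col7 (col8 (col9 (col5 (col10 (col11 (col5 (col4 (col3 (col2 (col1 (col0 (col5 (col6 (col7 (col8 (col9 (col5 (col10 (col11 (col5 (col4 (col3 (col2 (col1 (col0 (col5 (col6 (col7 (col8 (col9 (col5 (col10 (col11 (i))))))))))))))))))))))))))))))))))))))))))))))))))))))))))))))))))))))))))))))))))))))))))))))))))))))))))))))))))))))))))))))))))))))))))))))))))))))))))))))))))))))))))))))))))))))))))))))))))))))))))))))))))))))))))))))))))))))))))))))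
theorem actR79_eq (i : Nat) : actR79 i = Tab.act T D rw79 i := rfl

end Cfsg.Agent.Lib.Helper4.TCD.Fi24a
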