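import Cfsg.Agent.Lib.Helper4.TC11
import Cfsg.Agent.Lib.Helper4.TCD_Fi24a_Acc
import Cfsg.Agent.Lib.Helper4.TCD_Fi24L_D0
import Cfsg.Agent.Lib.Helper4.TCD_Fi24L_D1
import Cfsg.Agent.Lib.Helper4.TCD_Fi24L_D2
import Cfsg.Agent.Lib.Helper4.TCD_Fi24L_D3
import Cfsg.Agent.Lib.Helper4.TCD_Fi24L_D4
import Cfsg.Agent.Lib.Helper4.TCD_Fi24L_D5
import Cfsg.Agent.Lib.Helper4.TCD_Fi24L_D6
import Cfsg.Agent.Lib.Helper4.TCD_Fi24L_D7
import Cfsg.Agent.Lib.Helper4.TCD_Fi24L_D8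
import Cfsg.Agent.Lib.Helper4.TCD_Fi24L_D9
import Cfsg.Agent.Lib.Helper4.TCD_Fi24L_D10
import Cfsg.Agent.Lib.Helper4.TCD_Fi24L_D11
import Cfsg.Agent.Lib.Helper4.TCD_Fi24L_D12
import Cfsg.Agent.Lib.Helper4.TCD_Fi24L_D13
import Cfsg.Agent.Lib.Helper4.TCD_Fi24L_D14

namespace Cfsg.Agent.Lib.Helper4.TCD.Fi24L

open Cfsg.Agent.Lib.Helper4.TC Cfsg.Agent.Lib.Helper4.TCD.Fi24a

set_option maxRecDepth 100000

noncomputable def st12_s_0_2 (c : Nat) : Nat := @Bool.rec (fun _ => Nat) (st12_0) (st12_1) (Nat.ble 1 c)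
noncomputable def st12_s_2_4 (c : Nat) : Nat := @Bool.rec (fun _ => Nat) (st12_2) (st12_3) (Nat.ble 3 c)
noncomputable def st12_s_0_4 (c : Nat) : Nat := @Bool.rec (fun _ => Nat) (st12_s_0_2 c) (st12_s_2_4 c) (Nat.ble 2 c)
noncomputable def st12_s_4_6 (c : Nat) : Nat := @Bool.rec (fun _ => Nat) (st12_4) (st12_5) (Nat.ble 5 c)
noncomputable def st12_s_7_9 (c : Nat) : Nat := @Bool.rec (fun _ => Nat) (st12_7) (st12_8) (Nat.ble 8 c)
noncomputable def st12_s_6_9 (c : Nat) : Nat := @Bool.rec (fun _ => Nat) (st12_6) (st12_s_7_9 c) (Nat.ble 7 c)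
noncomputable def st12_s_4_9 (c : Nat) : Nat := @Bool.rec (fun _ => Nat) (st12_s_4_6 c) (st12_s_6_9 c) (Nat.ble 6 c)
noncomputable def st12_s_0_9 (c : Nat) : Nat := @Bool.rec (fun _ => Nat) (st12_s_0_4 c) (st12_s_4_9 c) (Nat.ble 4 c)
noncomputable def st12_s_9_11 (c : Nat) : Nat := @Bool.rec (fun _ => Nat) (st12_9) (st12_10) (Nat.ble 10 c)
noncomputable def st12_s_11_13 (c : Nat) : Nat := @Bool.rec (fun _ => Nat) (st12_11) (st12_12) (Nat.ble 12 c)
noncomputable def st12_s_9_13 (c : Nat) : Nat := @Bool.rec (fun _ => Nat) (st12_s_9_11 c) (st12_s_11_13 c) (Nat.ble 11 c)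
noncomputable def st12_s_13_15 (c : Nat) : Nat := @Bool.rec (fun _ => Nat) (st12_13) (st12_14) (Nat.ble 14 c)
noncomputable def st12_s_16_18 (c : Nat) : Nat := @Bool.rec (fun _ => Nat) (st12_16) (st12_17) (Nat.ble 17 c)
noncomputable def st12_s_15_18 (c : Nat) : Nat := @Bool.rec (fun _ => Nat) (st12_15) (st12_s_16_18 c) (Nat.ble 16 c)
noncomputable def st12_s_13_18 (c : Nat) : Nat := @Bool.rec (fun _ => Nat) (st12_s_13_15 c) (st12_s_15_18 c) (Nat.ble 15 c)
noncomputable def st12_s_9_18 (c : Nat) : Nat := @Bool.rec (fun _ => Nat) (st12_s_9_13 c) (st12_s_13_18 c) (Nat.ble 13 c)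
noncomputable def st12_s_0_18 (c : Nat) : Nat := @Bool.rec (fun _ => Nat) (st12_s_0_9 c) (st12_s_9_18 c) (Nat.ble 9 c)
noncomputable def st12_s_18_20 (c : Nat) : Nat := @Bool.rec (fun _ => Nat) (st12_18) (st12_19) (Nat.ble 19 c)
noncomputable def st12_s_20_22 (c : Nat) : Nat := @Bool.rec (fun _ => Nat) (st12_20) (st12_21) (Nat.ble 21 c)
noncomputable def st12_s_18_22 (c : Nat) : Nat := @Bool.rec (fun _ => Nat) (st12_s_18_20 c) (st12_s_20_22 c) (Nat.ble 20 c)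
noncomputable def st12_s_22_24 (c : Nat) : Nat := @Bool.rec (fun _ => Nat) (st12_22) (st12_23) (Nat.ble 23 c)
noncomputable def st12_s_25_27 (c : Nat) : Nat := @Bool.rec (fun _ => Nat) (st12_25) (st12_26) (Nat.ble 26 c)
noncomputable def st12_s_24_27 (c : Nat) : Nat := @Bool.rec (fun _ => Nat) (st12_24) (st12_s_25_27 c) (Nat.ble 25 c)
noncomputable def st12_s_22_27 (c : Nat) : Nat := @Bool.rec (fun _ => Nat) (st12_s_22_24 c) (st12_s_24_27 c) (Nat.ble 24 c)
noncomputable def st12_s_18_27 (c : Nat) : Nat := @Bool.rec (fun _ => Nat) (st12_s_18_22 c) (st12_s_22_27 c) (Nat.ble 22 c)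
noncomputable def st12_s_27_29 (c : Nat) : Nat := @Bool.rec (fun _ => Nat) (st12_27) (st12_28) (Nat.ble 28 c)
noncomputable def st12_s_30_32 (c : Nat) : Nat := @Bool.rec (fun _ => Nat) (st12_30) (st12_31) (Nat.ble 31 c)
noncomputable def st12_s_29_32 (c : Nat) : Nat := @Bool.rec (fun _ => Nat) (st12_29) (st12_s_30_32 c) (Nat.ble 30 c)
noncomputable def st12_s_27_32 (c : Nat) : Nat := @Bool.rec (fun _ => Nat) (st12_s_27_29 c) (st12_s_29_32 c) (Nat.ble 29 c)
noncomputable def st12_s_32_34 (c : Nat) : Nat := @Bool.rec (fun _ => Nat) (st12_32) (st12_33) (Nat.ble 33 c)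
noncomputable def st12_s_35_37 (c : Nat) : Nat := @Bool.rec (fun _ => Nat) (st12_35) (st12_36) (Nat.ble 36 c)
noncomputable def st12_s_34_37 (c : Nat) : Nat := @Bool.rec (fun _ => Nat) (st12_34) (st12_s_35_37 c) (Nat.ble 35 c)
noncomputable def st12_s_32_37 (c : Nat) : Nat := @Bool.rec (fun _ => Nat) (st12_s_32_34 c) (st12_s_34_37 c) (Nat.ble 34 c)
noncomputable def st12_s_27_37 (c : Nat) : Nat := @Bool.rec (fun _ => Nat) (st12_s_27_32 c) (st12_s_32_37 c) (Nat.ble 32 c)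
noncomputable def st12_s_18_37 (c : Nat) : Nat := @Bool.rec (fun _ => Nat) (st12_s_18_27 c) (st12_s_27_37 c) (Nat.ble 27 c)
noncomputable def st12_s_0_37 (c : Nat) : Nat := @Bool.rec (fun _ => Nat) (st12_s_0_18 c) (st12_s_18_37 c) (Nat.ble 18 c)
noncomputable def st12_s_37_39 (c : Nat) : Nat := @Bool.rec (fun _ => Nat) (st12_37) (st12_38) (Nat.ble 38 c)
noncomputable def st12_s_39_41 (c : Nat) : Nat := @Bool.rec (fun _ => Nat) (st12_39) (st12_40) (Nat.ble 40 c)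
noncomputable def st12_s_37_41 (c : Nat) : Nat := @Bool.rec (fun _ => Nat) (st12_s_37_39 c) (st12_s_39_41 c) (Nat.ble 39 c)
noncomputable def st12_s_41_43 (c : Nat) : Nat := @Bool.rec (fun _ => Nat) (st12_41) (st12_42) (Nat.ble 42 c)
noncomputable def st12_s_44_46 (c : Nat) : Nat := @Bool.rec (fun _ => Nat) (st12_44) (st12_45) (Nat.ble 45 c)
noncomputable def st12_s_43_46 (c : Nat) : Nat := @Bool.rec (fun _ => Nat) (st12_43) (st12_s_44_46 c) (Nat.ble 44 c)
noncomputable def st12_s_41_46 (c : Nat) : Nat := @Bool.rec (fun _ => Nat) (st12_s_41_43 c) (st12_s_43_46 c) (Nat.ble 43 c)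
noncomputable def st12_s_37_46 (c : Nat) : Nat := @Bool.rec (fun _ => Nat) (st12_s_37_41 c) (st12_s_41_46 c) (Nat.ble 41 c)
noncomputable def st12_s_46_48 (c : Nat) : Nat := @Bool.rec (fun _ => Nat) (st12_46) (st12_47) (Nat.ble 47 c)
noncomputable def st12_s_49_51 (c : Nat) : Nat := @Bool.rec (fun _ => Nat) (st12_49) (st12_50) (Nat.ble 50 c)
noncomputable def st12_s_48_51 (c : Nat) : Nat := @Bool.rec (fun _ => Nat) (st12_48) (st12_s_49_51 c) (Nat.ble 49 c)
noncomputable def st12_s_46_51 (c : Nat) : Nat := @Bool.rec (fun _ => Nat) (st12_s_46_48 c) (st12_s_48_51 c) (Nat.ble 48 c)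
noncomputable def st12_s_51_53 (c : Nat) : Nat := @Bool.rec (fun _ => Nat) (st12_51) (st12_52) (Nat.ble 52 c)
noncomputable def st12_s_54_56 (c : Nat) : Nat := @Bool.rec (fun _ => Nat) (st12_54) (st12_55) (Nat.ble 55 c)
noncomputable def st12_s_53_56 (c : Nat) : Nat := @Bool.rec (fun _ => Nat) (st12_53) (st12_s_54_56 c) (Nat.ble 54 c)
noncomputable def st12_s_51_56 (c : Nat) : Nat := @Bool.rec (fun _ => Nat) (st12_s_51_53 c) (st12_s_53_56 c) (Nat.ble 53 c)
noncomputable def st12_s_46_56 (c : Nat) : Nat := @Bool.rec (fun _ => Nat) (st12_s_46_51 c) (st12_s_51_56 c) (Nat.ble 51 c)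
noncomputable def st12_s_37_56 (c : Nat) : Nat := @Bool.rec (fun _ => Nat) (st12_s_37_46 c) (st12_s_46_56 c) (Nat.ble 46 c)
noncomputable def st12_s_56_58 (c : Nat) : Nat := @Bool.rec (fun _ => Nat) (st12_56) (st12_57) (Nat.ble 57 c)
noncomputable def st12_s_58_60 (c : Nat) : Nat := @Bool.rec (fun _ => Nat) (st12_58) (st12_59) (Nat.ble 59 c)
noncomputable def st12_s_56_60 (c : Nat) : Nat := @Bool.rec (fun _ => Nat) (st12_s_56_58 c) (st12_s_58_60 c) (Nat.ble 58 c)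
noncomputable def st12_s_60_62 (c : Nat) : Nat := @Bool.rec (fun _ => Nat) (st12_60) (st12_61) (Nat.ble 61 c)
noncomputable def st12_s_63_65 (c : Nat) : Nat := @Bool.rec (fun _ => Nat) (st12_63) (st12_64) (Nat.ble 64 c)
noncomputable def st12_s_62_65 (c : Nat) : Nat := @Bool.rec (fun _ => Nat) (st12_62) (st12_s_63_65 c) (Nat.ble 63 c)
noncomputable def st12_s_60_65 (c : Nat) : Nat := @Bool.rec (fun _ => Nat) (st12_s_60_62 c) (st12_s_62_65 c) (Nat.ble 62 c)
noncomputable def st12_s_56_65 (c : Nat) : Nat := @Bool.rec (fun _ => Nat) (st12_s_56_60 c) (st12_s_60_65 c) (Nat.ble 60 c)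
noncomputable def st12_s_65_67 (c : Nat) : Nat := @Bool.rec (fun _ => Nat) (st12_65) (st12_66) (Nat.ble 66 c)
noncomputable def st12_s_68_70 (c : Nat) : Nat := @Bool.rec (fun _ => Nat) (st12_68) (st12_69) (Nat.ble 69 c)
noncomputable def st12_s_67_70 (c : Nat) : Nat := @Bool.rec (fun _ => Nat) (st12_67) (st12_s_68_70 c) (Nat.ble 68 c)
noncomputable def st12_s_65_70 (c : Nat) : Nat := @Bool.rec (fun _ => Nat) (st12_s_65_67 c) (st12_s_67_70 c) (Nat.ble 67 c)
noncomputable def st12_s_70_72 (c : Nat) : Nat := @Bool.rec (fun _ => Nat) (st12_70) (st12_71) (Nat.ble 71 c)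
noncomputable def st12_s_73_75 (c : Nat) : Nat := @Bool.rec (fun _ => Nat) (st12_73) (st12_74) (Nat.ble 74 c)
noncomputable def st12_s_72_75 (c : Nat) : Nat := @Bool.rec (fun _ => Nat) (st12_72) (st12_s_73_75 c) (Nat.ble 73 c)
noncomputable def st12_s_70_75 (c : Nat) : Nat := @Bool.rec (fun _ => Nat) (st12_s_70_72 c) (st12_s_72_75 c) (Nat.ble 72 c)
noncomputable def st12_s_65_75 (c : Nat) : Nat := @Bool.rec (fun _ => Nat) (st12_s_65_70 c) (st12_s_70_75 c) (Nat.ble 70 c)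
noncomputable def st12_s_56_75 (c : Nat) : Nat := @Bool.rec (fun _ => Nat) (st12_s_56_65 c) (st12_s_65_75 c) (Nat.ble 65 c)
noncomputable def st12_s_37_75 (c : Nat) : Nat := @Bool.rec (fun _ => Nat) (st12_s_37_56 c) (st12_s_56_75 c) (Nat.ble 56 c)
noncomputable def st12_s_0_75 (c : Nat) : Nat := @Bool.rec (fun _ => Nat) (st12_s_0_37 c) (st12_s_37_75 c) (Nat.ble 37 c)
noncomputable def st12 (i : Nat) : Nat := rdw 19 524287 (st12_s_0_75 (Nat.shiftRight i 12)) (Nat.land i 4095)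
noncomputable def st13_s_0_2 (c : Nat) : Nat := @Bool.rec (fun _ => Nat) (st13_0) (st13_1) (Nat.ble 1 c)
noncomputable def st13_s_2_4 (c : Nat) : Nat := @Bool.rec (fun _ => Nat) (st13_2) (st13_3) (Nat.ble 3 c)
noncomputable def st13_s_0_4 (c : Nat) : Nat := @Bool.rec (fun _ => Nat) (st13_s_0_2 c) (st13_s_2_4 c) (Nat.ble 2 c)
noncomputable def st13_s_4_6 (c : Nat) : Nat := @Bool.rec (fun _ => Nat) (st13_4) (st13_5) (Nat.ble 5 c)
noncomputable def st13_s_7_9 (c : Nat) : Nat := @Bool.rec (fun _ => Nat) (st13_7) (st13_8) (Nat.ble 8 c)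
noncomputable def st13_s_6_9 (c : Nat) : Nat := @Bool.rec (fun _ => Nat) (st13_6) (st13_s_7_9 c) (Nat.ble 7 c)
noncomputable def st13_s_4_9 (c : Nat) : Nat := @Bool.rec (fun _ => Nat) (st13_s_4_6 c) (st13_s_6_9 c) (Nat.ble 6 c)
noncomputable def st13_s_0_9 (c : Nat) : Nat := @Bool.rec (fun _ => Nat) (st13_s_0_4 c) (st13_s_4_9 c) (Nat.ble 4 c)
noncomputable def st13_s_9_11 (c : Nat) : Nat := @Bool.rec (fun _ => Nat) (st13_9) (st13_10) (Nat.ble 10 c)
noncomputable def st13_s_11_13 (c : Nat) : Nat := @Bool.rec (fun _ => Nat) (st13_11) (st13_12) (Nat.ble 12 c)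
noncomputable def st13_s_9_13 (c : Nat) : Nat := @Bool.rec (fun _ => Nat) (st13_s_9_11 c) (st13_s_11_13 c) (Nat.ble 11 c)
noncomputable def st13_s_13_15 (c : Nat) : Nat := @Bool.rec (fun _ => Nat) (st13_13) (st13_14) (Nat.ble 14 c)
noncomputable def st13_s_16_18 (c : Nat) : Nat := @Bool.rec (fun _ => Nat) (st13_16) (st13_17) (Nat.ble 17 c)
noncomputable def st13_s_15_18 (c : Nat) : Nat := @Bool.rec (fun _ => Nat) (st13_15) (st13_s_16_18 c) (Nat.ble 16 c)
noncomputable def st13_s_13_18 (c : Nat) : Nat := @Bool.rec (fun _ => Nat) (st13_s_13_15 c) (st13_s_15_18 c) (Nat.ble 15 c)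
noncomputable def st13_s_9_18 (c : Nat) : Nat := @Bool.rec (fun _ => Nat) (st13_s_9_13 c) (st13_s_13_18 c) (Nat.ble 13 c)
noncomputable def st13_s_0_18 (c : Nat) : Nat := @Bool.rec (fun _ => Nat) (st13_s_0_9 c) (st13_s_9_18 c) (Nat.ble 9 c)
noncomputable def st13_s_18_20 (c : Nat) : Nat := @Bool.rec (fun _ => Nat) (st13_18) (st13_19) (Nat.ble 19 c)
noncomputable def st13_s_20_22 (c : Nat) : Nat := @Bool.rec (fun _ => Nat) (st13_20) (st13_21) (Nat.ble 21 c)
noncomputable def st13_s_18_22 (c : Nat) : Nat := @Bool.rec (fun _ => Nat) (st13_s_18_20 c) (st13_s_20_22 c) (Nat.ble 20 c)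
noncomputable def st13_s_22_24 (c : Nat) : Nat := @Bool.rec (fun _ => Nat) (st13_22) (st13_23) (Nat.ble 23 c)
noncomputable def st13_s_25_27 (c : Nat) : Nat := @Bool.rec (fun _ => Nat) (st13_25) (st13_26) (Nat.ble 26 c)
noncomputable def st13_s_24_27 (c : Nat) : Nat := @Bool.rec (fun _ => Nat) (st13_24) (st13_s_25_27 c) (Nat.ble 25 c)
noncomputable def st13_s_22_27 (c : Nat) : Nat := @Bool.rec (fun _ => Nat) (st13_s_22_24 c) (st13_s_24_27 c) (Nat.ble 24 c)
noncomputable def st13_s_18_27 (c : Nat) : Nat := @Bool.rec (fun _ => Nat) (st13_s_18_22 c) (st13_s_22_27 c) (Nat.ble 22 c)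
noncomputable def st13_s_27_29 (c : Nat) : Nat := @Bool.rec (fun _ => Nat) (st13_27) (st13_28) (Nat.ble 28 c)
noncomputable def st13_s_30_32 (c : Nat) : Nat := @Bool.rec (fun _ => Nat) (st13_30) (st13_31) (Nat.ble 31 c)
noncomputable def st13_s_29_32 (c : Nat) : Nat := @Bool.rec (fun _ => Nat) (st13_29) (st13_s_30_32 c) (Nat.ble 30 c)
noncomputable def st13_s_27_32 (c : Nat) : Nat := @Bool.rec (fun _ => Nat) (st13_s_27_29 c) (st13_s_29_32 c) (Nat.ble 29 c)
noncomputable def st13_s_32_34 (c : Nat) : Nat := @Bool.rec (fun _ => Nat) (st13_32) (st13_33) (Nat.ble 33 c)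
noncomputable def st13_s_35_37 (c : Nat) : Nat := @Bool.rec (fun _ => Nat) (st13_35) (st13_36) (Nat.ble 36 c)
noncomputable def st13_s_34_37 (c : Nat) : Nat := @Bool.rec (fun _ => Nat) (st13_34) (st13_s_35_37 c) (Nat.ble 35 c)
noncomputable def st13_s_32_37 (c : Nat) : Nat := @Bool.rec (fun _ => Nat) (st13_s_32_34 c) (st13_s_34_37 c) (Nat.ble 34 c)
noncomputable def st13_s_27_37 (c : Nat) : Nat := @Bool.rec (fun _ => Nat) (st13_s_27_32 c) (st13_s_32_37 c) (Nat.ble 32 c)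
noncomputable def st13_s_18_37 (c : Nat) : Nat := @Bool.rec (fun _ => Nat) (st13_s_18_27 c) (st13_s_27_37 c) (Nat.ble 27 c)
noncomputable def st13_s_0_37 (c : Nat) : Nat := @Bool.rec (fun _ => Nat) (st13_s_0_18 c) (st13_s_18_37 c) (Nat.ble 18 c)
noncomputable def st13_s_37_39 (c : Nat) : Nat := @Bool.rec (fun _ => Nat) (st13_37) (st13_38) (Nat.ble 38 c)
noncomputable def st13_s_39_41 (c : Nat) : Nat := @Bool.rec (fun _ => Nat) (st13_39) (st13_40) (Nat.ble 40 c)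
noncomputable def st13_s_37_41 (c : Nat) : Nat := @Bool.rec (fun _ => Nat) (st13_s_37_39 c) (st13_s_39_41 c) (Nat.ble 39 c)
noncomputable def st13_s_41_43 (c : Nat) : Nat := @Bool.rec (fun _ => Nat) (st13_41) (st13_42) (Nat.ble 42 c)
noncomputable def st13_s_44_46 (c : Nat) : Nat := @Bool.rec (fun _ => Nat) (st13_44) (st13_45) (Nat.ble 45 c)
noncomputable def st13_s_43_46 (c : Nat) : Nat := @Bool.rec (fun _ => Nat) (st13_43) (st13_s_44_46 c) (Nat.ble 44 c)
noncomputable def st13_s_41_46 (c : Nat) : Nat := @Bool.rec (fun _ => Nat) (st13_s_41_43 c) (st13_s_43_46 c) (Nat.ble 43 c)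
noncomputable def st13_s_37_46 (c : Nat) : Nat := @Bool.rec (fun _ => Nat) (st13_s_37_41 c) (st13_s_41_46 c) (Nat.ble 41 c)
noncomputable def st13_s_46_48 (c : Nat) : Nat := @Bool.rec (fun _ => Nat) (st13_46) (st13_47) (Nat.ble 47 c)
noncomputable def st13_s_49_51 (c : Nat) : Nat := @Bool.rec (fun _ => Nat) (st13_49) (st13_50) (Nat.ble 50 c)
noncomputable def st13_s_48_51 (c : Nat) : Nat := @Bool.rec (fun _ => Nat) (st13_48) (st13_s_49_51 c) (Nat.ble 49 c)
noncomputable def st13_s_46_51 (c : Nat) : Nat := @Bool.rec (fun _ => Nat) (st13_s_46_48 c) (st13_s_48_51 c) (Nat.ble 48 c)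
noncomputable def st13_s_51_53 (c : Nat) : Nat := @Bool.rec (fun _ => Nat) (st13_51) (st13_52) (Nat.ble 52 c)
noncomputable def st13_s_54_56 (c : Nat) : Nat := @Bool.rec (fun _ => Nat) (st13_54) (st13_55) (Nat.ble 55 c)
noncomputable def st13_s_53_56 (c : Nat) : Nat := @Bool.rec (fun _ => Nat) (st13_53) (st13_s_54_56 c) (Nat.ble 54 c)
noncomputable def st13_s_51_56 (c : Nat) : Nat := @Bool.rec (fun _ => Nat) (st13_s_51_53 c) (st13_s_53_56 c) (Nat.ble 53 c)
noncomputable def st13_s_46_56 (c : Nat) : Nat := @Bool.rec (fun _ => Nat) (st13_s_46_51 c) (st13_s_51_56 c) (Nat.ble 51 c)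
noncomputable def st13_s_37_56 (c : Nat) : Nat := @Bool.rec (fun _ => Nat) (st13_s_37_46 c) (st13_s_46_56 c) (Nat.ble 46 c)
noncomputable def st13_s_56_58 (c : Nat) : Nat := @Bool.rec (fun _ => Nat) (st13_56) (st13_57) (Nat.ble 57 c)
noncomputable def st13_s_58_60 (c : Nat) : Nat := @Bool.rec (fun _ => Nat) (st13_58) (st13_59) (Nat.ble 59 c)
noncomputable def st13_s_56_60 (c : Nat) : Nat := @Bool.rec (fun _ => Nat) (st13_s_56_58 c) (st13_s_58_60 c) (Nat.ble 58 c)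
noncomputable def st13_s_60_62 (c : Nat) : Nat := @Bool.rec (fun _ => Nat) (st13_60) (st13_61) (Nat.ble 61 c)
noncomputable def st13_s_63_65 (c : Nat) : Nat := @Bool.rec (fun _ => Nat) (st13_63) (st13_64) (Nat.ble 64 c)
noncomputable def st13_s_62_65 (c : Nat) : Nat := @Bool.rec (fun _ => Nat) (st13_62) (st13_s_63_65 c) (Nat.ble 63 c)
noncomputable def st13_s_60_65 (c : Nat) : Nat := @Bool.rec (fun _ => Nat) (st13_s_60_62 c) (st13_s_62_65 c) (Nat.ble 62 c)
noncomputable def st13_s_56_65 (c : Nat) : Nat := @Bool.rec (fun _ => Nat) (st13_s_56_60 c) (st13_s_60_65 c) (Nat.ble 60 c)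
noncomputable def st13_s_65_67 (c : Nat) : Nat := @Bool.rec (fun _ => Nat) (st13_65) (st13_66) (Nat.ble 66 c)
noncomputable def st13_s_68_70 (c : Nat) : Nat := @Bool.rec (fun _ => Nat) (st13_68) (st13_69) (Nat.ble 69 c)
noncomputable def st13_s_67_70 (c : Nat) : Nat := @Bool.rec (fun _ => Nat) (st13_67) (st13_s_68_70 c) (Nat.ble 68 c)
noncomputable def st13_s_65_70 (c : Nat) : Nat := @Bool.rec (fun _ => Nat) (st13_s_65_67 c) (st13_s_67_70 c) (Nat.ble 67 c)
noncomputable def st13_s_70_72 (c : Nat) : Nat := @Bool.rec (fun _ => Nat) (st13_70) (st13_71) (Nat.ble 71 c)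
noncomputable def st13_s_73_75 (c : Nat) : Nat := @Bool.rec (fun _ => Nat) (st13_73) (st13_74) (Nat.ble 74 c)
noncomputable def st13_s_72_75 (c : Nat) : Nat := @Bool.rec (fun _ => Nat) (st13_72) (st13_s_73_75 c) (Nat.ble 73 c)
noncomputable def st13_s_70_75 (c : Nat) : Nat := @Bool.rec (fun _ => Nat) (st13_s_70_72 c) (st13_s_72_75 c) (Nat.ble 72 c)
noncomputable def st13_s_65_75 (c : Nat) : Nat := @Bool.rec (fun _ => Nat) (st13_s_65_70 c) (st13_s_70_75 c) (Nat.ble 70 c)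
noncomputable def st13_s_56_75 (c : Nat) : Nat := @Bool.rec (fun _ => Nat) (st13_s_56_65 c) (st13_s_65_75 c) (Nat.ble 65 c)
noncomputable def st13_s_37_75 (c : Nat) : Nat := @Bool.rec (fun _ => Nat) (st13_s_37_56 c) (st13_s_56_75 c) (Nat.ble 56 c)
noncomputable def st13_s_0_75 (c : Nat) : Nat := @Bool.rec (fun _ => Nat) (st13_s_0_37 c) (st13_s_37_75 c) (Nat.ble 37 c)
noncomputable def st13 (i : Nat) : Nat := rdw 19 524287 (st13_s_0_75 (Nat.shiftRight i 12)) (Nat.land i 4095)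
noncomputable def st14_s_0_2 (c : Nat) : Nat := @Bool.rec (fun _ => Nat) (st14_0) (st14_1) (Nat.ble 1 c)
noncomputable def st14_s_2_4 (c : Nat) : Nat := @Bool.rec (fun _ => Nat) (st14_2) (st14_3) (Nat.ble 3 c)
noncomputable def st14_s_0_4 (c : Nat) : Nat := @Bool.rec (fun _ => Nat) (st14_s_0_2 c) (st14_s_2_4 c) (Nat.ble 2 c)
noncomputable def st14_s_4_6 (c : Nat) : Nat := @Bool.rec (fun _ => Nat) (st14_4) (st14_5) (Nat.ble 5 c)
noncomputable def st14_s_7_9 (c : Nat) : Nat := @Bool.rec (fun _ => Nat) (st14_7) (st14_8) (Nat.ble 8 c)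
noncomputable def st14_s_6_9 (c : Nat) : Nat := @Bool.rec (fun _ => Nat) (st14_6) (st14_s_7_9 c) (Nat.ble 7 c)
noncomputable def st14_s_4_9 (c : Nat) : Nat := @Bool.rec (fun _ => Nat) (st14_s_4_6 c) (st14_s_6_9 c) (Nat.ble 6 c)
noncomputable def st14_s_0_9 (c : Nat) : Nat := @Bool.rec (fun _ => Nat) (st14_s_0_4 c) (st14_s_4_9 c) (Nat.ble 4 c)
noncomputable def st14_s_9_11 (c : Nat) : Nat := @Bool.rec (fun _ => Nat) (st14_9) (st14_10) (Nat.ble 10 c)
noncomputable def st14_s_11_13 (c : Nat) : Nat := @Bool.rec (fun _ => Nat) (st14_11) (st14_12) (Nat.ble 12 c)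
noncomputable def st14_s_9_13 (c : Nat) : Nat := @Bool.rec (fun _ => Nat) (st14_s_9_11 c) (st14_s_11_13 c) (Nat.ble 11 c)
noncomputable def st14_s_13_15 (c : Nat) : Nat := @Bool.rec (fun _ => Nat) (st14_13) (st14_14) (Nat.ble 14 c)
noncomputable def st14_s_16_18 (c : Nat) : Nat := @Bool.rec (fun _ => Nat) (st14_16) (st14_17) (Nat.ble 17 c)
noncomputable def st14_s_15_18 (c : Nat) : Nat := @Bool.rec (fun _ => Nat) (st14_15) (st14_s_16_18 c) (Nat.ble 16 c)
noncomputable def st14_s_13_18 (c : Nat) : Nat := @Bool.rec (fun _ => Nat) (st14_s_13_15 c) (st14_s_15_18 c) (Nat.ble 15 c)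
noncomputable def st14_s_9_18 (c : Nat) : Nat := @Bool.rec (fun _ => Nat) (st14_s_9_13 c) (st14_s_13_18 c) (Nat.ble 13 c)
noncomputable def st14_s_0_18 (c : Nat) : Nat := @Bool.rec (fun _ => Nat) (st14_s_0_9 c) (st14_s_9_18 c) (Nat.ble 9 c)
noncomputable def st14_s_18_20 (c : Nat) : Nat := @Bool.rec (fun _ => Nat) (st14_18) (st14_19) (Nat.ble 19 c)
noncomputable def st14_s_20_22 (c : Nat) : Nat := @Bool.rec (fun _ => Nat) (st14_20) (st14_21) (Nat.ble 21 c)
noncomputable def st14_s_18_22 (c : Nat) : Nat := @Bool.rec (fun _ => Nat) (st14_s_18_20 c) (st14_s_20_22 c) (Nat.ble 20 c)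
noncomputable def st14_s_22_24 (c : Nat) : Nat := @Bool.rec (fun _ => Nat) (st14_22) (st14_23) (Nat.ble 23 c)
noncomputable def st14_s_25_27 (c : Nat) : Nat := @Bool.rec (fun _ => Nat) (st14_25) (st14_26) (Nat.ble 26 c)
noncomputable def st14_s_24_27 (c : Nat) : Nat := @Bool.rec (fun _ => Nat) (st14_24) (st14_s_25_27 c) (Nat.ble 25 c)
noncomputable def st14_s_22_27 (c : Nat) : Nat := @Bool.rec (fun _ => Nat) (st14_s_22_24 c) (st14_s_24_27 c) (Nat.ble 24 c)
noncomputable def st14_s_18_27 (c : Nat) : Nat := @Bool.rec (fun _ => Nat) (st14_s_18_22 c) (st14_s_22_27 c) (Nat.ble 22 c)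
noncomputable def st14_s_27_29 (c : Nat) : Nat := @Bool.rec (fun _ => Nat) (st14_27) (st14_28) (Nat.ble 28 c)
noncomputable def st14_s_30_32 (c : Nat) : Nat := @Bool.rec (fun _ => Nat) (st14_30) (st14_31) (Nat.ble 31 c)
noncomputable def st14_s_29_32 (c : Nat) : Nat := @Bool.rec (fun _ => Nat) (st14_29) (st14_s_30_32 c) (Nat.ble 30 c)
noncomputable def st14_s_27_32 (c : Nat) : Nat := @Bool.rec (fun _ => Nat) (st14_s_27_29 c) (st14_s_29_32 c) (Nat.ble 29 c)
noncomputable def st14_s_32_34 (c : Nat) : Nat := @Bool.rec (fun _ => Nat) (st14_32) (st14_33) (Nat.ble 33 c)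
noncomputable def st14_s_35_37 (c : Nat) : Nat := @Bool.rec (fun _ => Nat) (st14_35) (st14_36) (Nat.ble 36 c)
noncomputable def st14_s_34_37 (c : Nat) : Nat := @Bool.rec (fun _ => Nat) (st14_34) (st14_s_35_37 c) (Nat.ble 35 c)
noncomputable def st14_s_32_37 (c : Nat) : Nat := @Bool.rec (fun _ => Nat) (st14_s_32_34 c) (st14_s_34_37 c) (Nat.ble 34 c)
noncomputable def st14_s_27_37 (c : Nat) : Nat := @Bool.rec (fun _ => Nat) (st14_s_27_32 c) (st14_s_32_37 c) (Nat.ble 32 c)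
noncomputable def st14_s_18_37 (c : Nat) : Nat := @Bool.rec (fun _ => Nat) (st14_s_18_27 c) (st14_s_27_37 c) (Nat.ble 27 c)
noncomputable def st14_s_0_37 (c : Nat) : Nat := @Bool.rec (fun _ => Nat) (st14_s_0_18 c) (st14_s_18_37 c) (Nat.ble 18 c)
noncomputable def st14_s_37_39 (c : Nat) : Nat := @Bool.rec (fun _ => Nat) (st14_37) (st14_38) (Nat.ble 38 c)
noncomputable def st14_s_39_41 (c : Nat) : Nat := @Bool.rec (fun _ => Nat) (st14_39) (st14_40) (Nat.ble 40 c)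
noncomputable def st14_s_37_41 (c : Nat) : Nat := @Bool.rec (fun _ => Nat) (st14_s_37_39 c) (st14_s_39_41 c) (Nat.ble 39 c)
noncomputable def st14_s_41_43 (c : Nat) : Nat := @Bool.rec (fun _ => Nat) (st14_41) (st14_42) (Nat.ble 42 c)
noncomputable def st14_s_44_46 (c : Nat) : Nat := @Bool.rec (fun _ => Nat) (st14_44) (st14_45) (Nat.ble 45 c)
noncomputable def st14_s_43_46 (c : Nat) : Nat := @Bool.rec (fun _ => Nat) (st14_43) (st14_s_44_46 c) (Nat.ble 44 c)
noncomputable def st14_s_41_46 (c : Nat) : Nat := @Bool.rec (fun _ => Nat) (st14_s_41_43 c) (st14_s_43_46 c) (Nat.ble 43 c)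
noncomputable def st14_s_37_46 (c : Nat) : Nat := @Bool.rec (fun _ => Nat) (st14_s_37_41 c) (st14_s_41_46 c) (Nat.ble 41 c)
noncomputable def st14_s_46_48 (c : Nat) : Nat := @Bool.rec (fun _ => Nat) (st14_46) (st14_47) (Nat.ble 47 c)
noncomputable def st14_s_49_51 (c : Nat) : Nat := @Bool.rec (fun _ => Nat) (st14_49) (st14_50) (Nat.ble 50 c)
noncomputable def st14_s_48_51 (c : Nat) : Nat := @Bool.rec (fun _ => Nat) (st14_48) (st14_s_49_51 c) (Nat.ble 49 c)
noncomputable def st14_s_46_51 (c : Nat) : Nat := @Bool.rec (fun _ => Nat) (st14_s_46_48 c) (st14_s_48_51 c) (Nat.ble 48 c)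
noncomputable def st14_s_51_53 (c : Nat) : Nat := @Bool.rec (fun _ => Nat) (st14_51) (st14_52) (Nat.ble 52 c)
noncomputable def st14_s_54_56 (c : Nat) : Nat := @Bool.rec (fun _ => Nat) (st14_54) (st14_55) (Nat.ble 55 c)
noncomputable def st14_s_53_56 (c : Nat) : Nat := @Bool.rec (fun _ => Nat) (st14_53) (st14_s_54_56 c) (Nat.ble 54 c)
noncomputable def st14_s_51_56 (c : Nat) : Nat := @Bool.rec (fun _ => Nat) (st14_s_51_53 c) (st14_s_53_56 c) (Nat.ble 53 c)
noncomputable def st14_s_46_56 (c : Nat) : Nat := @Bool.rec (fun _ => Nat) (st14_s_46_51 c) (st14_s_51_56 c) (Nat.ble 51 c)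
noncomputable def st14_s_37_56 (c : Nat) : Nat := @Bool.rec (fun _ => Nat) (st14_s_37_46 c) (st14_s_46_56 c) (Nat.ble 46 c)
noncomputable def st14_s_56_58 (c : Nat) : Nat := @Bool.rec (fun _ => Nat) (st14_56) (st14_57) (Nat.ble 57 c)
noncomputable def st14_s_58_60 (c : Nat) : Nat := @Bool.rec (fun _ => Nat) (st14_58) (st14_59) (Nat.ble 59 c)
noncomputable def st14_s_56_60 (c : Nat) : Nat := @Bool.rec (fun _ => Nat) (st14_s_56_58 c) (st14_s_58_60 c) (Nat.ble 58 c)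
noncomputable def st14_s_60_62 (c : Nat) : Nat := @Bool.rec (fun _ => Nat) (st14_60) (st14_61) (Nat.ble 61 c)
noncomputable def st14_s_63_65 (c : Nat) : Nat := @Bool.rec (fun _ => Nat) (st14_63) (st14_64) (Nat.ble 64 c)
noncomputable def st14_s_62_65 (c : Nat) : Nat := @Bool.rec (fun _ => Nat) (st14_62) (st14_s_63_65 c) (Nat.ble 63 c)
noncomputable def st14_s_60_65 (c : Nat) : Nat := @Bool.rec (fun _ => Nat) (st14_s_60_62 c) (st14_s_62_65 c) (Nat.ble 62 c)
noncomputable def st14_s_56_65 (c : Nat) : Nat := @Bool.rec (fun _ => Nat) (st14_s_56_60 c) (st14_s_60_65 c) (Nat.ble 60 c)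
noncomputable def st14_s_65_67 (c : Nat) : Nat := @Bool.rec (fun _ => Nat) (st14_65) (st14_66) (Nat.ble 66 c)
noncomputable def st14_s_68_70 (c : Nat) : Nat := @Bool.rec (fun _ => Nat) (st14_68) (st14_69) (Nat.ble 69 c)
noncomputable def st14_s_67_70 (c : Nat) : Nat := @Bool.rec (fun _ => Nat) (st14_67) (st14_s_68_70 c) (Nat.ble 68 c)
noncomputable def st14_s_65_70 (c : Nat) : Nat := @Bool.rec (fun _ => Nat) (st14_s_65_67 c) (st14_s_67_70 c) (Nat.ble 67 c)
noncomputable def st14_s_70_72 (c : Nat) : Nat := @Bool.rec (fun _ => Nat) (st14_70) (st14_71) (Nat.ble 71 c)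
noncomputable def st14_s_73_75 (c : Nat) : Nat := @Bool.rec (fun _ => Nat) (st14_73) (st14_74) (Nat.ble 74 c)
noncomputable def st14_s_72_75 (c : Nat) : Nat := @Bool.rec (fun _ => Nat) (st14_72) (st14_s_73_75 c) (Nat.ble 73 c)
noncomputable def st14_s_70_75 (c : Nat) : Nat := @Bool.rec (fun _ => Nat) (st14_s_70_72 c) (st14_s_72_75 c) (Nat.ble 72 c)
noncomputable def st14_s_65_75 (c : Nat) : Nat := @Bool.rec (fun _ => Nat) (st14_s_65_70 c) (st14_s_70_75 c) (Nat.ble 70 c)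
noncomputable def st14_s_56_75 (c : Nat) : Nat := @Bool.rec (fun _ => Nat) (st14_s_56_65 c) (st14_s_65_75 c) (Nat.ble 65 c)
noncomputable def st14_s_37_75 (c : Nat) : Nat := @Bool.rec (fun _ => Nat) (st14_s_37_56 c) (st14_s_56_75 c) (Nat.ble 56 c)
noncomputable def st14_s_0_75 (c : Nat) : Nat := @Bool.rec (fun _ => Nat) (st14_s_0_37 c) (st14_s_37_75 c) (Nat.ble 37 c)
noncomputable def st14 (i : Nat) : Nat := rdw 19 524287 (st14_s_0_75 (Nat.shiftRight i 12)) (Nat.land i 4095)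
noncomputable def st15_s_0_2 (c : Nat) : Nat := @Bool.rec (fun _ => Nat) (st15_0) (st15_1) (Nat.ble 1 c)
noncomputable def st15_s_2_4 (c : Nat) : Nat := @Bool.rec (fun _ => Nat) (st15_2) (st15_3) (Nat.ble 3 c)
noncomputable def st15_s_0_4 (c : Nat) : Nat := @Bool.rec (fun _ => Nat) (st15_s_0_2 c) (st15_s_2_4 c) (Nat.ble 2 c)
noncomputable def st15_s_4_6 (c : Nat) : Nat := @Bool.rec (fun _ => Nat) (st15_4) (st15_5) (Nat.ble 5 c)
noncomputable def st15_s_7_9 (c : Nat) : Nat := @Bool.rec (fun _ => Nat) (st15_7) (st15_8) (Nat.ble 8 c)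
noncomputable def st15_s_6_9 (c : Nat) : Nat := @Bool.rec (fun _ => Nat) (st15_6) (st15_s_7_9 c) (Nat.ble 7 c)
noncomputable def st15_s_4_9 (c : Nat) : Nat := @Bool.rec (fun _ => Nat) (st15_s_4_6 c) (st15_s_6_9 c) (Nat.ble 6 c)
noncomputable def st15_s_0_9 (c : Nat) : Nat := @Bool.rec (fun _ => Nat) (st15_s_0_4 c) (st15_s_4_9 c) (Nat.ble 4 c)
noncomputable def st15_s_9_11 (c : Nat) : Nat := @Bool.rec (fun _ => Nat) (st15_9) (st15_10) (Nat.ble 10 c)
noncomputable def st15_s_11_13 (c : Nat) : Nat := @Bool.rec (fun _ => Nat) (st15_11) (st15_12) (Nat.ble 12 c)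
noncomputable def st15_s_9_13 (c : Nat) : Nat := @Bool.rec (fun _ => Nat) (st15_s_9_11 c) (st15_s_11_13 c) (Nat.ble 11 c)
noncomputable def st15_s_13_15 (c : Nat) : Nat := @Bool.rec (fun _ => Nat) (st15_13) (st15_14) (Nat.ble 14 c)
noncomputable def st15_s_16_18 (c : Nat) : Nat := @Bool.rec (fun _ => Nat) (st15_16) (st15_17) (Nat.ble 17 c)
noncomputable def st15_s_15_18 (c : Nat) : Nat := @Bool.rec (fun _ => Nat) (st15_15) (st15_s_16_18 c) (Nat.ble 16 c)
noncomputable def st15_s_13_18 (c : Nat) : Nat := @Bool.rec (fun _ => Nat) (st15_s_13_15 c) (st15_s_15_18 c) (Nat.ble 15 c)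
noncomputable def st15_s_9_18 (c : Nat) : Nat := @Bool.rec (fun _ => Nat) (st15_s_9_13 c) (st15_s_13_18 c) (Nat.ble 13 c)
noncomputable def st15_s_0_18 (c : Nat) : Nat := @Bool.rec (fun _ => Nat) (st15_s_0_9 c) (st15_s_9_18 c) (Nat.ble 9 c)
noncomputable def st15_s_18_20 (c : Nat) : Nat := @Bool.rec (fun _ => Nat) (st15_18) (st15_19) (Nat.ble 19 c)
noncomputable def st15_s_20_22 (c : Nat) : Nat := @Bool.rec (fun _ => Nat) (st15_20) (st15_21) (Nat.ble 21 c)
noncomputable def st15_s_18_22 (c : Nat) : Nat := @Bool.rec (fun _ => Nat) (st15_s_18_20 c) (st15_s_20_22 c) (Nat.ble 20 c)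
noncomputable def st15_s_22_24 (c : Nat) : Nat := @Bool.rec (fun _ => Nat) (st15_22) (st15_23) (Nat.ble 23 c)
noncomputable def st15_s_25_27 (c : Nat) : Nat := @Bool.rec (fun _ => Nat) (st15_25) (st15_26) (Nat.ble 26 c)
noncomputable def st15_s_24_27 (c : Nat) : Nat := @Bool.rec (fun _ => Nat) (st15_24) (st15_s_25_27 c) (Nat.ble 25 c)
noncomputable def st15_s_22_27 (c : Nat) : Nat := @Bool.rec (fun _ => Nat) (st15_s_22_24 c) (st15_s_24_27 c) (Nat.ble 24 c)
noncomputable def st15_s_18_27 (c : Nat) : Nat := @Bool.rec (fun _ => Nat) (st15_s_18_22 c) (st15_s_22_27 c) (Nat.ble 22 c)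
noncomputable def st15_s_27_29 (c : Nat) : Nat := @Bool.rec (fun _ => Nat) (st15_27) (st15_28) (Nat.ble 28 c)
noncomputable def st15_s_30_32 (c : Nat) : Nat := @Bool.rec (fun _ => Nat) (st15_30) (st15_31) (Nat.ble 31 c)
noncomputable def st15_s_29_32 (c : Nat) : Nat := @Bool.rec (fun _ => Nat) (st15_29) (st15_s_30_32 c) (Nat.ble 30 c)
noncomputable def st15_s_27_32 (c : Nat) : Nat := @Bool.rec (fun _ => Nat) (st15_s_27_29 c) (st15_s_29_32 c) (Nat.ble 29 c)
noncomputable def st15_s_32_34 (c : Nat) : Nat := @Bool.rec (fun _ => Nat) (st15_32) (st15_33) (Nat.ble 33 c)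
noncomputable def st15_s_35_37 (c : Nat) : Nat := @Bool.rec (fun _ => Nat) (st15_35) (st15_36) (Nat.ble 36 c)
noncomputable def st15_s_34_37 (c : Nat) : Nat := @Bool.rec (fun _ => Nat) (st15_34) (st15_s_35_37 c) (Nat.ble 35 c)
noncomputable def st15_s_32_37 (c : Nat) : Nat := @Bool.rec (fun _ => Nat) (st15_s_32_34 c) (st15_s_34_37 c) (Nat.ble 34 c)
noncomputable def st15_s_27_37 (c : Nat) : Nat := @Bool.rec (fun _ => Nat) (st15_s_27_32 c) (st15_s_32_37 c) (Nat.ble 32 c)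
noncomputable def st15_s_18_37 (c : Nat) : Nat := @Bool.rec (fun _ => Nat) (st15_s_18_27 c) (st15_s_27_37 c) (Nat.ble 27 c)
noncomputable def st15_s_0_37 (c : Nat) : Nat := @Bool.rec (fun _ => Nat) (st15_s_0_18 c) (st15_s_18_37 c) (Nat.ble 18 c)
noncomputable def st15_s_37_39 (c : Nat) : Nat := @Bool.rec (fun _ => Nat) (st15_37) (st15_38) (Nat.ble 38 c)
noncomputable def st15_s_39_41 (c : Nat) : Nat := @Bool.rec (fun _ => Nat) (st15_39) (st15_40) (Nat.ble 40 c)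
noncomputable def st15_s_37_41 (c : Nat) : Nat := @Bool.rec (fun _ => Nat) (st15_s_37_39 c) (st15_s_39_41 c) (Nat.ble 39 c)
noncomputable def st15_s_41_43 (c : Nat) : Nat := @Bool.rec (fun _ => Nat) (st15_41) (st15_42) (Nat.ble 42 c)
noncomputable def st15_s_44_46 (c : Nat) : Nat := @Bool.rec (fun _ => Nat) (st15_44) (st15_45) (Nat.ble 45 c)
noncomputable def st15_s_43_46 (c : Nat) : Nat := @Bool.rec (fun _ => Nat) (st15_43) (st15_s_44_46 c) (Nat.ble 44 c)
noncomputable def st15_s_41_46 (c : Nat) : Nat := @Bool.rec (fun _ => Nat) (st15_s_41_43 c) (st15_s_43_46 c) (Nat.ble 43 c)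
noncomputable def st15_s_37_46 (c : Nat) : Nat := @Bool.rec (fun _ => Nat) (st15_s_37_41 c) (st15_s_41_46 c) (Nat.ble 41 c)
noncomputable def st15_s_46_48 (c : Nat) : Nat := @Bool.rec (fun _ => Nat) (st15_46) (st15_47) (Nat.ble 47 c)
noncomputable def st15_s_49_51 (c : Nat) : Nat := @Bool.rec (fun _ => Nat) (st15_49) (st15_50) (Nat.ble 50 c)
noncomputable def st15_s_48_51 (c : Nat) : Nat := @Bool.rec (fun _ => Nat) (st15_48) (st15_s_49_51 c) (Nat.ble 49 c)
noncomputable def st15_s_46_51 (c : Nat) : Nat := @Bool.rec (fun _ => Nat) (st15_s_46_48 c) (st15_s_48_51 c) (Nat.ble 48 c)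
noncomputable def st15_s_51_53 (c : Nat) : Nat := @Bool.rec (fun _ => Nat) (st15_51) (st15_52) (Nat.ble 52 c)
noncomputable def st15_s_54_56 (c : Nat) : Nat := @Bool.rec (fun _ => Nat) (st15_54) (st15_55) (Nat.ble 55 c)
noncomputable def st15_s_53_56 (c : Nat) : Nat := @Bool.rec (fun _ => Nat) (st15_53) (st15_s_54_56 c) (Nat.ble 54 c)
noncomputable def st15_s_51_56 (c : Nat) : Nat := @Bool.rec (fun _ => Nat) (st15_s_51_53 c) (st15_s_53_56 c) (Nat.ble 53 c)
noncomputable def st15_s_46_56 (c : Nat) : Nat := @Bool.rec (fun _ => Nat) (st15_s_46_51 c) (st15_s_51_56 c) (Nat.ble 51 c)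
noncomputable def st15_s_37_56 (c : Nat) : Nat := @Bool.rec (fun _ => Nat) (st15_s_37_46 c) (st15_s_46_56 c) (Nat.ble 46 c)
noncomputable def st15_s_56_58 (c : Nat) : Nat := @Bool.rec (fun _ => Nat) (st15_56) (st15_57) (Nat.ble 57 c)
noncomputable def st15_s_58_60 (c : Nat) : Nat := @Bool.rec (fun _ => Nat) (st15_58) (st15_59) (Nat.ble 59 c)
noncomputable def st15_s_56_60 (c : Nat) : Nat := @Bool.rec (fun _ => Nat) (st15_s_56_58 c) (st15_s_58_60 c) (Nat.ble 58 c)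
noncomputable def st15_s_60_62 (c : Nat) : Nat := @Bool.rec (fun _ => Nat) (st15_60) (st15_61) (Nat.ble 61 c)
noncomputable def st15_s_63_65 (c : Nat) : Nat := @Bool.rec (fun _ => Nat) (st15_63) (st15_64) (Nat.ble 64 c)
noncomputable def st15_s_62_65 (c : Nat) : Nat := @Bool.rec (fun _ => Nat) (st15_62) (st15_s_63_65 c) (Nat.ble 63 c)
noncomputable def st15_s_60_65 (c : Nat) : Nat := @Bool.rec (fun _ => Nat) (st15_s_60_62 c) (st15_s_62_65 c) (Nat.ble 62 c)
noncomputable def st15_s_56_65 (c : Nat) : Nat := @Bool.rec (fun _ => Nat) (st15_s_56_60 c) (st15_s_60_65 c) (Nat.ble 60 c)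
noncomputable def st15_s_65_67 (c : Nat) : Nat := @Bool.rec (fun _ => Nat) (st15_65) (st15_66) (Nat.ble 66 c)
noncomputable def st15_s_68_70 (c : Nat) : Nat := @Bool.rec (fun _ => Nat) (st15_68) (st15_69) (Nat.ble 69 c)
noncomputable def st15_s_67_70 (c : Nat) : Nat := @Bool.rec (fun _ => Nat) (st15_67) (st15_s_68_70 c) (Nat.ble 68 c)
noncomputable def st15_s_65_70 (c : Nat) : Nat := @Bool.rec (fun _ => Nat) (st15_s_65_67 c) (st15_s_67_70 c) (Nat.ble 67 c)
noncomputable def st15_s_70_72 (c : Nat) : Nat := @Bool.rec (fun _ => Nat) (st15_70) (st15_71) (Nat.ble 71 c)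
noncomputable def st15_s_73_75 (c : Nat) : Nat := @Bool.rec (fun _ => Nat) (st15_73) (st15_74) (Nat.ble 74 c)
noncomputable def st15_s_72_75 (c : Nat) : Nat := @Bool.rec (fun _ => Nat) (st15_72) (st15_s_73_75 c) (Nat.ble 73 c)
noncomputable def st15_s_70_75 (c : Nat) : Nat := @Bool.rec (fun _ => Nat) (st15_s_70_72 c) (st15_s_72_75 c) (Nat.ble 72 c)
noncomputable def st15_s_65_75 (c : Nat) : Nat := @Bool.rec (fun _ => Nat) (st15_s_65_70 c) (st15_s_70_75 c) (Nat.ble 70 c)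
noncomputable def st15_s_56_75 (c : Nat) : Nat := @Bool.rec (fun _ => Nat) (st15_s_56_65 c) (st15_s_65_75 c) (Nat.ble 65 c)
noncomputable def st15_s_37_75 (c : Nat) : Nat := @Bool.rec (fun _ => Nat) (st15_s_37_56 c) (st15_s_56_75 c) (Nat.ble 56 c)
noncomputable def st15_s_0_75 (c : Nat) : Nat := @Bool.rec (fun _ => Nat) (st15_s_0_37 c) (st15_s_37_75 c) (Nat.ble 37 c)
noncomputable def st15 (i : Nat) : Nat := rdw 19 524287 (st15_s_0_75 (Nat.shiftRight i 12)) (Nat.land i 4095)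
noncomputable def st16_s_0_2 (c : Nat) : Nat := @Bool.rec (fun _ => Nat) (st16_0) (st16_1) (Nat.ble 1 c)
noncomputable def st16_s_2_4 (c : Nat) : Nat := @Bool.rec (fun _ => Nat) (st16_2) (st16_3) (Nat.ble 3 c)
noncomputable def st16_s_0_4 (c : Nat) : Nat := @Bool.rec (fun _ => Nat) (st16_s_0_2 c) (st16_s_2_4 c) (Nat.ble 2 c)
noncomputable def st16_s_4_6 (c : Nat) : Nat := @Bool.rec (fun _ => Nat) (st16_4) (st16_5) (Nat.ble 5 c)
noncomputable def st16_s_7_9 (c : Nat) : Nat := @Bool.rec (fun _ => Nat) (st16_7) (st16_8) (Nat.ble 8 c)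
noncomputable def st16_s_6_9 (c : Nat) : Nat := @Bool.rec (fun _ => Nat) (st16_6) (st16_s_7_9 c) (Nat.ble 7 c)
noncomputable def st16_s_4_9 (c : Nat) : Nat := @Bool.rec (fun _ => Nat) (st16_s_4_6 c) (st16_s_6_9 c) (Nat.ble 6 c)
noncomputable def st16_s_0_9 (c : Nat) : Nat := @Bool.rec (fun _ => Nat) (st16_s_0_4 c) (st16_s_4_9 c) (Nat.ble 4 c)
noncomputable def st16_s_9_11 (c : Nat) : Nat := @Bool.rec (fun _ => Nat) (st16_9) (st16_10) (Nat.ble 10 c)
noncomputable def st16_s_11_13 (c : Nat) : Nat := @Bool.rec (fun _ => Nat) (st16_11) (st16_12) (Nat.ble 12 c)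
noncomputable def st16_s_9_13 (c : Nat) : Nat := @Bool.rec (fun _ => Nat) (st16_s_9_11 c) (st16_s_11_13 c) (Nat.ble 11 c)
noncomputable def st16_s_13_15 (c : Nat) : Nat := @Bool.rec (fun _ => Nat) (st16_13) (st16_14) (Nat.ble 14 c)
noncomputable def st16_s_16_18 (c : Nat) : Nat := @Bool.rec (fun _ => Nat) (st16_16) (st16_17) (Nat.ble 17 c)
noncomputable def st16_s_15_18 (c : Nat) : Nat := @Bool.rec (fun _ => Nat) (st16_15) (st16_s_16_18 c) (Nat.ble 16 c)
noncomputable def st16_s_13_18 (c : Nat) : Nat := @Bool.rec (fun _ => Nat) (st16_s_13_15 c) (st16_s_15_18 c) (Nat.ble 15 c)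
noncomputable def st16_s_9_18 (c : Nat) : Nat := @Bool.rec (fun _ => Nat) (st16_s_9_13 c) (st16_s_13_18 c) (Nat.ble 13 c)
noncomputable def st16_s_0_18 (c : Nat) : Nat := @Bool.rec (fun _ => Nat) (st16_s_0_9 c) (st16_s_9_18 c) (Nat.ble 9 c)
noncomputable def st16_s_18_20 (c : Nat) : Nat := @Bool.rec (fun _ => Nat) (st16_18) (st16_19) (Nat.ble 19 c)
noncomputable def st16_s_20_22 (c : Nat) : Nat := @Bool.rec (fun _ => Nat) (st16_20) (st16_21) (Nat.ble 21 c)
noncomputable def st16_s_18_22 (c : Nat) : Nat := @Bool.rec (fun _ => Nat) (st16_s_18_20 c) (st16_s_20_22 c) (Nat.ble 20 c)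
noncomputable def st16_s_22_24 (c : Nat) : Nat := @Bool.rec (fun _ => Nat) (st16_22) (st16_23) (Nat.ble 23 c)
noncomputable def st16_s_25_27 (c : Nat) : Nat := @Bool.rec (fun _ => Nat) (st16_25) (st16_26) (Nat.ble 26 c)
noncomputable def st16_s_24_27 (c : Nat) : Nat := @Bool.rec (fun _ => Nat) (st16_24) (st16_s_25_27 c) (Nat.ble 25 c)
noncomputable def st16_s_22_27 (c : Nat) : Nat := @Bool.rec (fun _ => Nat) (st16_s_22_24 c) (st16_s_24_27 c) (Nat.ble 24 c)
noncomputable def st16_s_18_27 (c : Nat) : Nat := @Bool.rec (fun _ => Nat) (st16_s_18_22 c) (st16_s_22_27 c) (Nat.ble 22 c)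
noncomputable def st16_s_27_29 (c : Nat) : Nat := @Bool.rec (fun _ => Nat) (st16_27) (st16_28) (Nat.ble 28 c)
noncomputable def st16_s_30_32 (c : Nat) : Nat := @Bool.rec (fun _ => Nat) (st16_30) (st16_31) (Nat.ble 31 c)
noncomputable def st16_s_29_32 (c : Nat) : Nat := @Bool.rec (fun _ => Nat) (st16_29) (st16_s_30_32 c) (Nat.ble 30 c)
noncomputable def st16_s_27_32 (c : Nat) : Nat := @Bool.rec (fun _ => Nat) (st16_s_27_29 c) (st16_s_29_32 c) (Nat.ble 29 c)
noncomputable def st16_s_32_34 (c : Nat) : Nat := @Bool.rec (fun _ => Nat) (st16_32) (st16_33) (Nat.ble 33 c)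
noncomputable def st16_s_35_37 (c : Nat) : Nat := @Bool.rec (fun _ => Nat) (st16_35) (st16_36) (Nat.ble 36 c)
noncomputable def st16_s_34_37 (c : Nat) : Nat := @Bool.rec (fun _ => Nat) (st16_34) (st16_s_35_37 c) (Nat.ble 35 c)
noncomputable def st16_s_32_37 (c : Nat) : Nat := @Bool.rec (fun _ => Nat) (st16_s_32_34 c) (st16_s_34_37 c) (Nat.ble 34 c)
noncomputable def st16_s_27_37 (c : Nat) : Nat := @Bool.rec (fun _ => Nat) (st16_s_27_32 c) (st16_s_32_37 c) (Nat.ble 32 c)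
noncomputable def st16_s_18_37 (c : Nat) : Nat := @Bool.rec (fun _ => Nat) (st16_s_18_27 c) (st16_s_27_37 c) (Nat.ble 27 c)
noncomputable def st16_s_0_37 (c : Nat) : Nat := @Bool.rec (fun _ => Nat) (st16_s_0_18 c) (st16_s_18_37 c) (Nat.ble 18 c)
noncomputable def st16_s_37_39 (c : Nat) : Nat := @Bool.rec (fun _ => Nat) (st16_37) (st16_38) (Nat.ble 38 c)
noncomputable def st16_s_39_41 (c : Nat) : Nat := @Bool.rec (fun _ => Nat) (st16_39) (st16_40) (Nat.ble 40 c)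
noncomputable def st16_s_37_41 (c : Nat) : Nat := @Bool.rec (fun _ => Nat) (st16_s_37_39 c) (st16_s_39_41 c) (Nat.ble 39 c)
noncomputable def st16_s_41_43 (c : Nat) : Nat := @Bool.rec (fun _ => Nat) (st16_41) (st16_42) (Nat.ble 42 c)
noncomputable def st16_s_44_46 (c : Nat) : Nat := @Bool.rec (fun _ => Nat) (st16_44) (st16_45) (Nat.ble 45 c)
noncomputable def st16_s_43_46 (c : Nat) : Nat := @Bool.rec (fun _ => Nat) (st16_43) (st16_s_44_46 c) (Nat.ble 44 c)
noncomputable def st16_s_41_46 (c : Nat) : Nat := @Bool.rec (fun _ => Nat) (st16_s_41_43 c) (st16_s_43_46 c) (Nat.ble 43 c)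
noncomputable def st16_s_37_46 (c : Nat) : Nat := @Bool.rec (fun _ => Nat) (st16_s_37_41 c) (st16_s_41_46 c) (Nat.ble 41 c)
noncomputable def st16_s_46_48 (c : Nat) : Nat := @Bool.rec (fun _ => Nat) (st16_46) (st16_47) (Nat.ble 47 c)
noncomputable def st16_s_49_51 (c : Nat) : Nat := @Bool.rec (fun _ => Nat) (st16_49) (st16_50) (Nat.ble 50 c)
noncomputable def st16_s_48_51 (c : Nat) : Nat := @Bool.rec (fun _ => Nat) (st16_48) (st16_s_49_51 c) (Nat.ble 49 c)
noncomputable def st16_s_46_51 (c : Nat) : Nat := @Bool.rec (fun _ => Nat) (st16_s_46_48 c) (st16_s_48_51 c) (Nat.ble 48 c)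
noncomputable def st16_s_51_53 (c : Nat) : Nat := @Bool.rec (fun _ => Nat) (st16_51) (st16_52) (Nat.ble 52 c)
noncomputable def st16_s_54_56 (c : Nat) : Nat := @Bool.rec (fun _ => Nat) (st16_54) (st16_55) (Nat.ble 55 c)
noncomputable def st16_s_53_56 (c : Nat) : Nat := @Bool.rec (fun _ => Nat) (st16_53) (st16_s_54_56 c) (Nat.ble 54 c)
noncomputable def st16_s_51_56 (c : Nat) : Nat := @Bool.rec (fun _ => Nat) (st16_s_51_53 c) (st16_s_53_56 c) (Nat.ble 53 c)
noncomputable def st16_s_46_56 (c : Nat) : Nat := @Bool.rec (fun _ => Nat) (st16_s_46_51 c) (st16_s_51_56 c) (Nat.ble 51 c)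
noncomputable def st16_s_37_56 (c : Nat) : Nat := @Bool.rec (fun _ => Nat) (st16_s_37_46 c) (st16_s_46_56 c) (Nat.ble 46 c)
noncomputable def st16_s_56_58 (c : Nat) : Nat := @Bool.rec (fun _ => Nat) (st16_56) (st16_57) (Nat.ble 57 c)
noncomputable def st16_s_58_60 (c : Nat) : Nat := @Bool.rec (fun _ => Nat) (st16_58) (st16_59) (Nat.ble 59 c)
noncomputable def st16_s_56_60 (c : Nat) : Nat := @Bool.rec (fun _ => Nat) (st16_s_56_58 c) (st16_s_58_60 c) (Nat.ble 58 c)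
noncomputable def st16_s_60_62 (c : Nat) : Nat := @Bool.rec (fun _ => Nat) (st16_60) (st16_61) (Nat.ble 61 c)
noncomputable def st16_s_63_65 (c : Nat) : Nat := @Bool.rec (fun _ => Nat) (st16_63) (st16_64) (Nat.ble 64 c)
noncomputable def st16_s_62_65 (c : Nat) : Nat := @Bool.rec (fun _ => Nat) (st16_62) (st16_s_63_65 c) (Nat.ble 63 c)
noncomputable def st16_s_60_65 (c : Nat) : Nat := @Bool.rec (fun _ => Nat) (st16_s_60_62 c) (st16_s_62_65 c) (Nat.ble 62 c)
noncomputable def st16_s_56_65 (c : Nat) : Nat := @Bool.rec (fun _ => Nat) (st16_s_56_60 c) (st16_s_60_65 c) (Nat.ble 60 c)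
noncomputable def st16_s_65_67 (c : Nat) : Nat := @Bool.rec (fun _ => Nat) (st16_65) (st16_66) (Nat.ble 66 c)
noncomputable def st16_s_68_70 (c : Nat) : Nat := @Bool.rec (fun _ => Nat) (st16_68) (st16_69) (Nat.ble 69 c)
noncomputable def st16_s_67_70 (c : Nat) : Nat := @Bool.rec (fun _ => Nat) (st16_67) (st16_s_68_70 c) (Nat.ble 68 c)
noncomputable def st16_s_65_70 (c : Nat) : Nat := @Bool.rec (fun _ => Nat) (st16_s_65_67 c) (st16_s_67_70 c) (Nat.ble 67 c)
noncomputable def st16_s_70_72 (c : Nat) : Nat := @Bool.rec (fun _ => Nat) (st16_70) (st16_71) (Nat.ble 71 c)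
noncomputable def st16_s_73_75 (c : Nat) : Nat := @Bool.rec (fun _ => Nat) (st16_73) (st16_74) (Nat.ble 74 c)
noncomputable def st16_s_72_75 (c : Nat) : Nat := @Bool.rec (fun _ => Nat) (st16_72) (st16_s_73_75 c) (Nat.ble 73 c)
noncomputable def st16_s_70_75 (c : Nat) : Nat := @Bool.rec (fun _ => Nat) (st16_s_70_72 c) (st16_s_72_75 c) (Nat.ble 72 c)
noncomputable def st16_s_65_75 (c : Nat) : Nat := @Bool.rec (fun _ => Nat) (st16_s_65_70 c) (st16_s_70_75 c) (Nat.ble 70 c)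
noncomputable def st16_s_56_75 (c : Nat) : Nat := @Bool.rec (fun _ => Nat) (st16_s_56_65 c) (st16_s_65_75 c) (Nat.ble 65 c)
noncomputable def st16_s_37_75 (c : Nat) : Nat := @Bool.rec (fun _ => Nat) (st16_s_37_56 c) (st16_s_56_75 c) (Nat.ble 56 c)
noncomputable def st16_s_0_75 (c : Nat) : Nat := @Bool.rec (fun _ => Nat) (st16_s_0_37 c) (st16_s_37_75 c) (Nat.ble 37 c)
noncomputable def st16 (i : Nat) : Nat := rdw 19 524287 (st16_s_0_75 (Nat.shiftRight i 12)) (Nat.land i 4095)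
noncomputable def st17_s_0_2 (c : Nat) : Nat := @Bool.rec (fun _ => Nat) (st17_0) (st17_1) (Nat.ble 1 c)
noncomputable def st17_s_2_4 (c : Nat) : Nat := @Bool.rec (fun _ => Nat) (st17_2) (st17_3) (Nat.ble 3 c)
noncomputable def st17_s_0_4 (c : Nat) : Nat := @Bool.rec (fun _ => Nat) (st17_s_0_2 c) (st17_s_2_4 c) (Nat.ble 2 c)
noncomputable def st17_s_4_6 (c : Nat) : Nat := @Bool.rec (fun _ => Nat) (st17_4) (st17_5) (Nat.ble 5 c)
noncomputable def st17_s_7_9 (c : Nat) : Nat := @Bool.rec (fun _ => Nat) (st17_7) (st17_8) (Nat.ble 8 c)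
noncomputable def st17_s_6_9 (c : Nat) : Nat := @Bool.rec (fun _ => Nat) (st17_6) (st17_s_7_9 c) (Nat.ble 7 c)
noncomputable def st17_s_4_9 (c : Nat) : Nat := @Bool.rec (fun _ => Nat) (st17_s_4_6 c) (st17_s_6_9 c) (Nat.ble 6 c)
noncomputable def st17_s_0_9 (c : Nat) : Nat := @Bool.rec (fun _ => Nat) (st17_s_0_4 c) (st17_s_4_9 c) (Nat.ble 4 c)
noncomputable def st17_s_9_11 (c : Nat) : Nat := @Bool.rec (fun _ => Nat) (st17_9) (st17_10) (Nat.ble 10 c)
noncomputable def st17_s_11_13 (c : Nat) : Nat := @Bool.rec (fun _ => Nat) (st17_11) (st17_12) (Nat.ble 12 c)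
noncomputable def st17_s_9_13 (c : Nat) : Nat := @Bool.rec (fun _ => Nat) (st17_s_9_11 c) (st17_s_11_13 c) (Nat.ble 11 c)
noncomputable def st17_s_13_15 (c : Nat) : Nat := @Bool.rec (fun _ => Nat) (st17_13) (st17_14) (Nat.ble 14 c)
noncomputable def st17_s_16_18 (c : Nat) : Nat := @Bool.rec (fun _ => Nat) (st17_16) (st17_17) (Nat.ble 17 c)
noncomputable def st17_s_15_18 (c : Nat) : Nat := @Bool.rec (fun _ => Nat) (st17_15) (st17_s_16_18 c) (Nat.ble 16 c)
noncomputable def st17_s_13_18 (c : Nat) : Nat := @Bool.rec (fun _ => Nat) (st17_s_13_15 c) (st17_s_15_18 c) (Nat.ble 15 c)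
noncomputable def st17_s_9_18 (c : Nat) : Nat := @Bool.rec (fun _ => Nat) (st17_s_9_13 c) (st17_s_13_18 c) (Nat.ble 13 c)
noncomputable def st17_s_0_18 (c : Nat) : Nat := @Bool.rec (fun _ => Nat) (st17_s_0_9 c) (st17_s_9_18 c) (Nat.ble 9 c)
noncomputable def st17_s_18_20 (c : Nat) : Nat := @Bool.rec (fun _ => Nat) (st17_18) (st17_19) (Nat.ble 19 c)
noncomputable def st17_s_20_22 (c : Nat) : Nat := @Bool.rec (fun _ => Nat) (st17_20) (st17_21) (Nat.ble 21 c)
noncomputable def st17_s_18_22 (c : Nat) : Nat := @Bool.rec (fun _ => Nat) (st17_s_18_20 c) (st17_s_20_22 c) (Nat.ble 20 c)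
noncomputable def st17_s_22_24 (c : Nat) : Nat := @Bool.rec (fun _ => Nat) (st17_22) (st17_23) (Nat.ble 23 c)
noncomputable def st17_s_25_27 (c : Nat) : Nat := @Bool.rec (fun _ => Nat) (st17_25) (st17_26) (Nat.ble 26 c)
noncomputable def st17_s_24_27 (c : Nat) : Nat := @Bool.rec (fun _ => Nat) (st17_24) (st17_s_25_27 c) (Nat.ble 25 c)
noncomputable def st17_s_22_27 (c : Nat) : Nat := @Bool.rec (fun _ => Nat) (st17_s_22_24 c) (st17_s_24_27 c) (Nat.ble 24 c)
noncomputable def st17_s_18_27 (c : Nat) : Nat := @Bool.rec (fun _ => Nat) (st17_s_18_22 c) (st17_s_22_27 c) (Nat.ble 22 c)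
noncomputable def st17_s_27_29 (c : Nat) : Nat := @Bool.rec (fun _ => Nat) (st17_27) (st17_28) (Nat.ble 28 c)
noncomputable def st17_s_30_32 (c : Nat) : Nat := @Bool.rec (fun _ => Nat) (st17_30) (st17_31) (Nat.ble 31 c)
noncomputable def st17_s_29_32 (c : Nat) : Nat := @Bool.rec (fun _ => Nat) (st17_29) (st17_s_30_32 c) (Nat.ble 30 c)
noncomputable def st17_s_27_32 (c : Nat) : Nat := @Bool.rec (fun _ => Nat) (st17_s_27_29 c) (st17_s_29_32 c) (Nat.ble 29 c)
noncomputable def st17_s_32_34 (c : Nat) : Nat := @Bool.rec (fun _ => Nat) (st17_32) (st17_33) (Nat.ble 33 c)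
noncomputable def st17_s_35_37 (c : Nat) : Nat := @Bool.rec (fun _ => Nat) (st17_35) (st17_36) (Nat.ble 36 c)
noncomputable def st17_s_34_37 (c : Nat) : Nat := @Bool.rec (fun _ => Nat) (st17_34) (st17_s_35_37 c) (Nat.ble 35 c)
noncomputable def st17_s_32_37 (c : Nat) : Nat := @Bool.rec (fun _ => Nat) (st17_s_32_34 c) (st17_s_34_37 c) (Nat.ble 34 c)
noncomputable def st17_s_27_37 (c : Nat) : Nat := @Bool.rec (fun _ => Nat) (st17_s_27_32 c) (st17_s_32_37 c) (Nat.ble 32 c)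
noncomputable def st17_s_18_37 (c : Nat) : Nat := @Bool.rec (fun _ => Nat) (st17_s_18_27 c) (st17_s_27_37 c) (Nat.ble 27 c)
noncomputable def st17_s_0_37 (c : Nat) : Nat := @Bool.rec (fun _ => Nat) (st17_s_0_18 c) (st17_s_18_37 c) (Nat.ble 18 c)
noncomputable def st17_s_37_39 (c : Nat) : Nat := @Bool.rec (fun _ => Nat) (st17_37) (st17_38) (Nat.ble 38 c)
noncomputable def st17_s_39_41 (c : Nat) : Nat := @Bool.rec (fun _ => Nat) (st17_39) (st17_40) (Nat.ble 40 c)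
noncomputable def st17_s_37_41 (c : Nat) : Nat := @Bool.rec (fun _ => Nat) (st17_s_37_39 c) (st17_s_39_41 c) (Nat.ble 39 c)
noncomputable def st17_s_41_43 (c : Nat) : Nat := @Bool.rec (fun _ => Nat) (st17_41) (st17_42) (Nat.ble 42 c)
noncomputable def st17_s_44_46 (c : Nat) : Nat := @Bool.rec (fun _ => Nat) (st17_44) (st17_45) (Nat.ble 45 c)
noncomputable def st17_s_43_46 (c : Nat) : Nat := @Bool.rec (fun _ => Nat) (st17_43) (st17_s_44_46 c) (Nat.ble 44 c)
noncomputable def st17_s_41_46 (c : Nat) : Nat := @Bool.rec (fun _ => Nat) (st17_s_41_43 c) (st17_s_43_46 c) (Nat.ble 43 c)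
noncomputable def st17_s_37_46 (c : Nat) : Nat := @Bool.rec (fun _ => Nat) (st17_s_37_41 c) (st17_s_41_46 c) (Nat.ble 41 c)
noncomputable def st17_s_46_48 (c : Nat) : Nat := @Bool.rec (fun _ => Nat) (st17_46) (st17_47) (Nat.ble 47 c)
noncomputable def st17_s_49_51 (c : Nat) : Nat := @Bool.rec (fun _ => Nat) (st17_49) (st17_50) (Nat.ble 50 c)
noncomputable def st17_s_48_51 (c : Nat) : Nat := @Bool.rec (fun _ => Nat) (st17_48) (st17_s_49_51 c) (Nat.ble 49 c)
noncomputable def st17_s_46_51 (c : Nat) : Nat := @Bool.rec (fun _ => Nat) (st17_s_46_48 c) (st17_s_48_51 c) (Nat.ble 48 c)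
noncomputable def st17_s_51_53 (c : Nat) : Nat := @Bool.rec (fun _ => Nat) (st17_51) (st17_52) (Nat.ble 52 c)
noncomputable def st17_s_54_56 (c : Nat) : Nat := @Bool.rec (fun _ => Nat) (st17_54) (st17_55) (Nat.ble 55 c)
noncomputable def st17_s_53_56 (c : Nat) : Nat := @Bool.rec (fun _ => Nat) (st17_53) (st17_s_54_56 c) (Nat.ble 54 c)
noncomputable def st17_s_51_56 (c : Nat) : Nat := @Bool.rec (fun _ => Nat) (st17_s_51_53 c) (st17_s_53_56 c) (Nat.ble 53 c)
noncomputable def st17_s_46_56 (c : Nat) : Nat := @Bool.rec (fun _ => Nat) (st17_s_46_51 c) (st17_s_51_56 c) (Nat.ble 51 c)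
noncomputable def st17_s_37_56 (c : Nat) : Nat := @Bool.rec (fun _ => Nat) (st17_s_37_46 c) (st17_s_46_56 c) (Nat.ble 46 c)
noncomputable def st17_s_56_58 (c : Nat) : Nat := @Bool.rec (fun _ => Nat) (st17_56) (st17_57) (Nat.ble 57 c)
noncomputable def st17_s_58_60 (c : Nat) : Nat := @Bool.rec (fun _ => Nat) (st17_58) (st17_59) (Nat.ble 59 c)
noncomputable def st17_s_56_60 (c : Nat) : Nat := @Bool.rec (fun _ => Nat) (st17_s_56_58 c) (st17_s_58_60 c) (Nat.ble 58 c)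
noncomputable def st17_s_60_62 (c : Nat) : Nat := @Bool.rec (fun _ => Nat) (st17_60) (st17_61) (Nat.ble 61 c)
noncomputable def st17_s_63_65 (c : Nat) : Nat := @Bool.rec (fun _ => Nat) (st17_63) (st17_64) (Nat.ble 64 c)
noncomputable def st17_s_62_65 (c : Nat) : Nat := @Bool.rec (fun _ => Nat) (st17_62) (st17_s_63_65 c) (Nat.ble 63 c)
noncomputable def st17_s_60_65 (c : Nat) : Nat := @Bool.rec (fun _ => Nat) (st17_s_60_62 c) (st17_s_62_65 c) (Nat.ble 62 c)
noncomputable def st17_s_56_65 (c : Nat) : Nat := @Bool.rec (fun _ => Nat) (st17_s_56_60 c) (st17_s_60_65 c) (Nat.ble 60 c)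
noncomputable def st17_s_65_67 (c : Nat) : Nat := @Bool.rec (fun _ => Nat) (st17_65) (st17_66) (Nat.ble 66 c)
noncomputable def st17_s_68_70 (c : Nat) : Nat := @Bool.rec (fun _ => Nat) (st17_68) (st17_69) (Nat.ble 69 c)
noncomputable def st17_s_67_70 (c : Nat) : Nat := @Bool.rec (fun _ => Nat) (st17_67) (st17_s_68_70 c) (Nat.ble 68 c)
noncomputable def st17_s_65_70 (c : Nat) : Nat := @Bool.rec (fun _ => Nat) (st17_s_65_67 c) (st17_s_67_70 c) (Nat.ble 67 c)
noncomputable def st17_s_70_72 (c : Nat) : Nat := @Bool.rec (fun _ => Nat) (st17_70) (st17_71) (Nat.ble 71 c)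
noncomputable def st17_s_73_75 (c : Nat) : Nat := @Bool.rec (fun _ => Nat) (st17_73) (st17_74) (Nat.ble 74 c)
noncomputable def st17_s_72_75 (c : Nat) : Nat := @Bool.rec (fun _ => Nat) (st17_72) (st17_s_73_75 c) (Nat.ble 73 c)
noncomputable def st17_s_70_75 (c : Nat) : Nat := @Bool.rec (fun _ => Nat) (st17_s_70_72 c) (st17_s_72_75 c) (Nat.ble 72 c)
noncomputable def st17_s_65_75 (c : Nat) : Nat := @Bool.rec (fun _ => Nat) (st17_s_65_70 c) (st17_s_70_75 c) (Nat.ble 70 c)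
noncomputable def st17_s_56_75 (c : Nat) : Nat := @Bool.rec (fun _ => Nat) (st17_s_56_65 c) (st17_s_65_75 c) (Nat.ble 65 c)
noncomputable def st17_s_37_75 (c : Nat) : Nat := @Bool.rec (fun _ => Nat) (st17_s_37_56 c) (st17_s_56_75 c) (Nat.ble 56 c)
noncomputable def st17_s_0_75 (c : Nat) : Nat := @Bool.rec (fun _ => Nat) (st17_s_0_37 c) (st17_s_37_75 c) (Nat.ble 37 c)
noncomputable def st17 (i : Nat) : Nat := rdw 19 524287 (st17_s_0_75 (Nat.shiftRight i 12)) (Nat.land i 4095)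
noncomputable def st18_s_0_2 (c : Nat) : Nat := @Bool.rec (fun _ => Nat) (st18_0) (st18_1) (Nat.ble 1 c)
noncomputable def st18_s_2_4 (c : Nat) : Nat := @Bool.rec (fun _ => Nat) (st18_2) (st18_3) (Nat.ble 3 c)
noncomputable def st18_s_0_4 (c : Nat) : Nat := @Bool.rec (fun _ => Nat) (st18_s_0_2 c) (st18_s_2_4 c) (Nat.ble 2 c)
noncomputable def st18_s_4_6 (c : Nat) : Nat := @Bool.rec (fun _ => Nat) (st18_4) (st18_5) (Nat.ble 5 c)
noncomputable def st18_s_7_9 (c : Nat) : Nat := @Bool.rec (fun _ => Nat) (st18_7) (st18_8) (Nat.ble 8 c)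
noncomputable def st18_s_6_9 (c : Nat) : Nat := @Bool.rec (fun _ => Nat) (st18_6) (st18_s_7_9 c) (Nat.ble 7 c)
noncomputable def st18_s_4_9 (c : Nat) : Nat := @Bool.rec (fun _ => Nat) (st18_s_4_6 c) (st18_s_6_9 c) (Nat.ble 6 c)
noncomputable def st18_s_0_9 (c : Nat) : Nat := @Bool.rec (fun _ => Nat) (st18_s_0_4 c) (st18_s_4_9 c) (Nat.ble 4 c)
noncomputable def st18_s_9_11 (c : Nat) : Nat := @Bool.rec (fun _ => Nat) (st18_9) (st18_10) (Nat.ble 10 c)
noncomputable def st18_s_11_13 (c : Nat) : Nat := @Bool.rec (fun _ => Nat) (st18_11) (st18_12) (Nat.ble 12 c)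
noncomputable def st18_s_9_13 (c : Nat) : Nat := @Bool.rec (fun _ => Nat) (st18_s_9_11 c) (st18_s_11_13 c) (Nat.ble 11 c)
noncomputable def st18_s_13_15 (c : Nat) : Nat := @Bool.rec (fun _ => Nat) (st18_13) (st18_14) (Nat.ble 14 c)
noncomputable def st18_s_16_18 (c : Nat) : Nat := @Bool.rec (fun _ => Nat) (st18_16) (st18_17) (Nat.ble 17 c)
noncomputable def st18_s_15_18 (c : Nat) : Nat := @Bool.rec (fun _ => Nat) (st18_15) (st18_s_16_18 c) (Nat.ble 16 c)
noncomputable def st18_s_13_18 (c : Nat) : Nat := @Bool.rec (fun _ => Nat) (st18_s_13_15 c) (st18_s_15_18 c) (Nat.ble 15 c)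
noncomputable def st18_s_9_18 (c : Nat) : Nat := @Bool.rec (fun _ => Nat) (st18_s_9_13 c) (st18_s_13_18 c) (Nat.ble 13 c)
noncomputable def st18_s_0_18 (c : Nat) : Nat := @Bool.rec (fun _ => Nat) (st18_s_0_9 c) (st18_s_9_18 c) (Nat.ble 9 c)
noncomputable def st18_s_18_20 (c : Nat) : Nat := @Bool.rec (fun _ => Nat) (st18_18) (st18_19) (Nat.ble 19 c)
noncomputable def st18_s_20_22 (c : Nat) : Nat := @Bool.rec (fun _ => Nat) (st18_20) (st18_21) (Nat.ble 21 c)
noncomputable def st18_s_18_22 (c : Nat) : Nat := @Bool.rec (fun _ => Nat) (st18_s_18_20 c) (st18_s_20_22 c) (Nat.ble 20 c)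
noncomputable def st18_s_22_24 (c : Nat) : Nat := @Bool.rec (fun _ => Nat) (st18_22) (st18_23) (Nat.ble 23 c)
noncomputable def st18_s_25_27 (c : Nat) : Nat := @Bool.rec (fun _ => Nat) (st18_25) (st18_26) (Nat.ble 26 c)
noncomputable def st18_s_24_27 (c : Nat) : Nat := @Bool.rec (fun _ => Nat) (st18_24) (st18_s_25_27 c) (Nat.ble 25 c)
noncomputable def st18_s_22_27 (c : Nat) : Nat := @Bool.rec (fun _ => Nat) (st18_s_22_24 c) (st18_s_24_27 c) (Nat.ble 24 c)
noncomputable def st18_s_18_27 (c : Nat) : Nat := @Bool.rec (fun _ => Nat) (st18_s_18_22 c) (st18_s_22_27 c) (Nat.ble 22 c)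
noncomputable def st18_s_27_29 (c : Nat) : Nat := @Bool.rec (fun _ => Nat) (st18_27) (st18_28) (Nat.ble 28 c)
noncomputable def st18_s_30_32 (c : Nat) : Nat := @Bool.rec (fun _ => Nat) (st18_30) (st18_31) (Nat.ble 31 c)
noncomputable def st18_s_29_32 (c : Nat) : Nat := @Bool.rec (fun _ => Nat) (st18_29) (st18_s_30_32 c) (Nat.ble 30 c)
noncomputable def st18_s_27_32 (c : Nat) : Nat := @Bool.rec (fun _ => Nat) (st18_s_27_29 c) (st18_s_29_32 c) (Nat.ble 29 c)
noncomputable def st18_s_32_34 (c : Nat) : Nat := @Bool.rec (fun _ => Nat) (st18_32) (st18_33) (Nat.ble 33 c)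
noncomputable def st18_s_35_37 (c : Nat) : Nat := @Bool.rec (fun _ => Nat) (st18_35) (st18_36) (Nat.ble 36 c)
noncomputable def st18_s_34_37 (c : Nat) : Nat := @Bool.rec (fun _ => Nat) (st18_34) (st18_s_35_37 c) (Nat.ble 35 c)
noncomputable def st18_s_32_37 (c : Nat) : Nat := @Bool.rec (fun _ => Nat) (st18_s_32_34 c) (st18_s_34_37 c) (Nat.ble 34 c)
noncomputable def st18_s_27_37 (c : Nat) : Nat := @Bool.rec (fun _ => Nat) (st18_s_27_32 c) (st18_s_32_37 c) (Nat.ble 32 c)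
noncomputable def st18_s_18_37 (c : Nat) : Nat := @Bool.rec (fun _ => Nat) (st18_s_18_27 c) (st18_s_27_37 c) (Nat.ble 27 c)
noncomputable def st18_s_0_37 (c : Nat) : Nat := @Bool.rec (fun _ => Nat) (st18_s_0_18 c) (st18_s_18_37 c) (Nat.ble 18 c)
noncomputable def st18_s_37_39 (c : Nat) : Nat := @Bool.rec (fun _ => Nat) (st18_37) (st18_38) (Nat.ble 38 c)
noncomputable def st18_s_39_41 (c : Nat) : Nat := @Bool.rec (fun _ => Nat) (st18_39) (st18_40) (Nat.ble 40 c)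
noncomputable def st18_s_37_41 (c : Nat) : Nat := @Bool.rec (fun _ => Nat) (st18_s_37_39 c) (st18_s_39_41 c) (Nat.ble 39 c)
noncomputable def st18_s_41_43 (c : Nat) : Nat := @Bool.rec (fun _ => Nat) (st18_41) (st18_42) (Nat.ble 42 c)
noncomputable def st18_s_44_46 (c : Nat) : Nat := @Bool.rec (fun _ => Nat) (st18_44) (st18_45) (Nat.ble 45 c)
noncomputable def st18_s_43_46 (c : Nat) : Nat := @Bool.rec (fun _ => Nat) (st18_43) (st18_s_44_46 c) (Nat.ble 44 c)
noncomputable def st18_s_41_46 (c : Nat) : Nat := @Bool.rec (fun _ => Nat) (st18_s_41_43 c) (st18_s_43_46 c) (Nat.ble 43 c)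
noncomputable def st18_s_37_46 (c : Nat) : Nat := @Bool.rec (fun _ => Nat) (st18_s_37_41 c) (st18_s_41_46 c) (Nat.ble 41 c)
noncomputable def st18_s_46_48 (c : Nat) : Nat := @Bool.rec (fun _ => Nat) (st18_46) (st18_47) (Nat.ble 47 c)
noncomputable def st18_s_49_51 (c : Nat) : Nat := @Bool.rec (fun _ => Nat) (st18_49) (st18_50) (Nat.ble 50 c)
noncomputable def st18_s_48_51 (c : Nat) : Nat := @Bool.rec (fun _ => Nat) (st18_48) (st18_s_49_51 c) (Nat.ble 49 c)
noncomputable def st18_s_46_51 (c : Nat) : Nat := @Bool.rec (fun _ => Nat) (st18_s_46_48 c) (st18_s_48_51 c) (Nat.ble 48 c)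
noncomputable def st18_s_51_53 (c : Nat) : Nat := @Bool.rec (fun _ => Nat) (st18_51) (st18_52) (Nat.ble 52 c)
noncomputable def st18_s_54_56 (c : Nat) : Nat := @Bool.rec (fun _ => Nat) (st18_54) (st18_55) (Nat.ble 55 c)
noncomputable def st18_s_53_56 (c : Nat) : Nat := @Bool.rec (fun _ => Nat) (st18_53) (st18_s_54_56 c) (Nat.ble 54 c)
noncomputable def st18_s_51_56 (c : Nat) : Nat := @Bool.rec (fun _ => Nat) (st18_s_51_53 c) (st18_s_53_56 c) (Nat.ble 53 c)
noncomputable def st18_s_46_56 (c : Nat) : Nat := @Bool.rec (fun _ => Nat) (st18_s_46_51 c) (st18_s_51_56 c) (Nat.ble 51 c)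
noncomputable def st18_s_37_56 (c : Nat) : Nat := @Bool.rec (fun _ => Nat) (st18_s_37_46 c) (st18_s_46_56 c) (Nat.ble 46 c)
noncomputable def st18_s_56_58 (c : Nat) : Nat := @Bool.rec (fun _ => Nat) (st18_56) (st18_57) (Nat.ble 57 c)
noncomputable def st18_s_58_60 (c : Nat) : Nat := @Bool.rec (fun _ => Nat) (st18_58) (st18_59) (Nat.ble 59 c)
noncomputable def st18_s_56_60 (c : Nat) : Nat := @Bool.rec (fun _ => Nat) (st18_s_56_58 c) (st18_s_58_60 c) (Nat.ble 58 c)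
noncomputable def st18_s_60_62 (c : Nat) : Nat := @Bool.rec (fun _ => Nat) (st18_60) (st18_61) (Nat.ble 61 c)
noncomputable def st18_s_63_65 (c : Nat) : Nat := @Bool.rec (fun _ => Nat) (st18_63) (st18_64) (Nat.ble 64 c)
noncomputable def st18_s_62_65 (c : Nat) : Nat := @Bool.rec (fun _ => Nat) (st18_62) (st18_s_63_65 c) (Nat.ble 63 c)
noncomputable def st18_s_60_65 (c : Nat) : Nat := @Bool.rec (fun _ => Nat) (st18_s_60_62 c) (st18_s_62_65 c) (Nat.ble 62 c)
noncomputable def st18_s_56_65 (c : Nat) : Nat := @Bool.rec (fun _ => Nat) (st18_s_56_60 c) (st18_s_60_65 c) (Nat.ble 60 c)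
noncomputable def st18_s_65_67 (c : Nat) : Nat := @Bool.rec (fun _ => Nat) (st18_65) (st18_66) (Nat.ble 66 c)
noncomputable def st18_s_68_70 (c : Nat) : Nat := @Bool.rec (fun _ => Nat) (st18_68) (st18_69) (Nat.ble 69 c)
noncomputable def st18_s_67_70 (c : Nat) : Nat := @Bool.rec (fun _ => Nat) (st18_67) (st18_s_68_70 c) (Nat.ble 68 c)
noncomputable def st18_s_65_70 (c : Nat) : Nat := @Bool.rec (fun _ => Nat) (st18_s_65_67 c) (st18_s_67_70 c) (Nat.ble 67 c)
noncomputable def st18_s_70_72 (c : Nat) : Nat := @Bool.rec (fun _ => Nat) (st18_70) (st18_71) (Nat.ble 71 c)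
noncomputable def st18_s_73_75 (c : Nat) : Nat := @Bool.rec (fun _ => Nat) (st18_73) (st18_74) (Nat.ble 74 c)
noncomputable def st18_s_72_75 (c : Nat) : Nat := @Bool.rec (fun _ => Nat) (st18_72) (st18_s_73_75 c) (Nat.ble 73 c)
noncomputable def st18_s_70_75 (c : Nat) : Nat := @Bool.rec (fun _ => Nat) (st18_s_70_72 c) (st18_s_72_75 c) (Nat.ble 72 c)
noncomputable def st18_s_65_75 (c : Nat) : Nat := @Bool.rec (fun _ => Nat) (st18_s_65_70 c) (st18_s_70_75 c) (Nat.ble 70 c)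
noncomputable def st18_s_56_75 (c : Nat) : Nat := @Bool.rec (fun _ => Nat) (st18_s_56_65 c) (st18_s_65_75 c) (Nat.ble 65 c)
noncomputable def st18_s_37_75 (c : Nat) : Nat := @Bool.rec (fun _ => Nat) (st18_s_37_56 c) (st18_s_56_75 c) (Nat.ble 56 c)
noncomputable def st18_s_0_75 (c : Nat) : Nat := @Bool.rec (fun _ => Nat) (st18_s_0_37 c) (st18_s_37_75 c) (Nat.ble 37 c)
noncomputable def st18 (i : Nat) : Nat := rdw 19 524287 (st18_s_0_75 (Nat.shiftRight i 12)) (Nat.land i 4095)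
noncomputable def st19_s_0_2 (c : Nat) : Nat := @Bool.rec (fun _ => Nat) (st19_0) (st19_1) (Nat.ble 1 c)
noncomputable def st19_s_2_4 (c : Nat) : Nat := @Bool.rec (fun _ => Nat) (st19_2) (st19_3) (Nat.ble 3 c)
noncomputable def st19_s_0_4 (c : Nat) : Nat := @Bool.rec (fun _ => Nat) (st19_s_0_2 c) (st19_s_2_4 c) (Nat.ble 2 c)
noncomputable def st19_s_4_6 (c : Nat) : Nat := @Bool.rec (fun _ => Nat) (st19_4) (st19_5) (Nat.ble 5 c)
noncomputable def st19_s_7_9 (c : Nat) : Nat := @Bool.rec (fun _ => Nat) (st19_7) (st19_8) (Nat.ble 8 c)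
noncomputable def st19_s_6_9 (c : Nat) : Nat := @Bool.rec (fun _ => Nat) (st19_6) (st19_s_7_9 c) (Nat.ble 7 c)
noncomputable def st19_s_4_9 (c : Nat) : Nat := @Bool.rec (fun _ => Nat) (st19_s_4_6 c) (st19_s_6_9 c) (Nat.ble 6 c)
noncomputable def st19_s_0_9 (c : Nat) : Nat := @Bool.rec (fun _ => Nat) (st19_s_0_4 c) (st19_s_4_9 c) (Nat.ble 4 c)
noncomputable def st19_s_9_11 (c : Nat) : Nat := @Bool.rec (fun _ => Nat) (st19_9) (st19_10) (Nat.ble 10 c)
noncomputable def st19_s_11_13 (c : Nat) : Nat := @Bool.rec (fun _ => Nat) (st19_11) (st19_12) (Nat.ble 12 c)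
noncomputable def st19_s_9_13 (c : Nat) : Nat := @Bool.rec (fun _ => Nat) (st19_s_9_11 c) (st19_s_11_13 c) (Nat.ble 11 c)
noncomputable def st19_s_13_15 (c : Nat) : Nat := @Bool.rec (fun _ => Nat) (st19_13) (st19_14) (Nat.ble 14 c)
noncomputable def st19_s_16_18 (c : Nat) : Nat := @Bool.rec (fun _ => Nat) (st19_16) (st19_17) (Nat.ble 17 c)
noncomputable def st19_s_15_18 (c : Nat) : Nat := @Bool.rec (fun _ => Nat) (st19_15) (st19_s_16_18 c) (Nat.ble 16 c)
noncomputable def st19_s_13_18 (c : Nat) : Nat := @Bool.rec (fun _ => Nat) (st19_s_13_15 c) (st19_s_15_18 c) (Nat.ble 15 c)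
noncomputable def st19_s_9_18 (c : Nat) : Nat := @Bool.rec (fun _ => Nat) (st19_s_9_13 c) (st19_s_13_18 c) (Nat.ble 13 c)
noncomputable def st19_s_0_18 (c : Nat) : Nat := @Bool.rec (fun _ => Nat) (st19_s_0_9 c) (st19_s_9_18 c) (Nat.ble 9 c)
noncomputable def st19_s_18_20 (c : Nat) : Nat := @Bool.rec (fun _ => Nat) (st19_18) (st19_19) (Nat.ble 19 c)
noncomputable def st19_s_20_22 (c : Nat) : Nat := @Bool.rec (fun _ => Nat) (st19_20) (st19_21) (Nat.ble 21 c)
noncomputable def st19_s_18_22 (c : Nat) : Nat := @Bool.rec (fun _ => Nat) (st19_s_18_20 c) (st19_s_20_22 c) (Nat.ble 20 c)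
noncomputable def st19_s_22_24 (c : Nat) : Nat := @Bool.rec (fun _ => Nat) (st19_22) (st19_23) (Nat.ble 23 c)
noncomputable def st19_s_25_27 (c : Nat) : Nat := @Bool.rec (fun _ => Nat) (st19_25) (st19_26) (Nat.ble 26 c)
noncomputable def st19_s_24_27 (c : Nat) : Nat := @Bool.rec (fun _ => Nat) (st19_24) (st19_s_25_27 c) (Nat.ble 25 c)
noncomputable def st19_s_22_27 (c : Nat) : Nat := @Bool.rec (fun _ => Nat) (st19_s_22_24 c) (st19_s_24_27 c) (Nat.ble 24 c)
noncomputable def st19_s_18_27 (c : Nat) : Nat := @Bool.rec (fun _ => Nat) (st19_s_18_22 c) (st19_s_22_27 c) (Nat.ble 22 c)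
noncomputable def st19_s_27_29 (c : Nat) : Nat := @Bool.rec (fun _ => Nat) (st19_27) (st19_28) (Nat.ble 28 c)
noncomputable def st19_s_30_32 (c : Nat) : Nat := @Bool.rec (fun _ => Nat) (st19_30) (st19_31) (Nat.ble 31 c)
noncomputable def st19_s_29_32 (c : Nat) : Nat := @Bool.rec (fun _ => Nat) (st19_29) (st19_s_30_32 c) (Nat.ble 30 c)
noncomputable def st19_s_27_32 (c : Nat) : Nat := @Bool.rec (fun _ => Nat) (st19_s_27_29 c) (st19_s_29_32 c) (Nat.ble 29 c)
noncomputable def st19_s_32_34 (c : Nat) : Nat := @Bool.rec (fun _ => Nat) (st19_32) (st19_33) (Nat.ble 33 c)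
noncomputable def st19_s_35_37 (c : Nat) : Nat := @Bool.rec (fun _ => Nat) (st19_35) (st19_36) (Nat.ble 36 c)
noncomputable def st19_s_34_37 (c : Nat) : Nat := @Bool.rec (fun _ => Nat) (st19_34) (st19_s_35_37 c) (Nat.ble 35 c)
noncomputable def st19_s_32_37 (c : Nat) : Nat := @Bool.rec (fun _ => Nat) (st19_s_32_34 c) (st19_s_34_37 c) (Nat.ble 34 c)
noncomputable def st19_s_27_37 (c : Nat) : Nat := @Bool.rec (fun _ => Nat) (st19_s_27_32 c) (st19_s_32_37 c) (Nat.ble 32 c)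
noncomputable def st19_s_18_37 (c : Nat) : Nat := @Bool.rec (fun _ => Nat) (st19_s_18_27 c) (st19_s_27_37 c) (Nat.ble 27 c)
noncomputable def st19_s_0_37 (c : Nat) : Nat := @Bool.rec (fun _ => Nat) (st19_s_0_18 c) (st19_s_18_37 c) (Nat.ble 18 c)
noncomputable def st19_s_37_39 (c : Nat) : Nat := @Bool.rec (fun _ => Nat) (st19_37) (st19_38) (Nat.ble 38 c)
noncomputable def st19_s_39_41 (c : Nat) : Nat := @Bool.rec (fun _ => Nat) (st19_39) (st19_40) (Nat.ble 40 c)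
noncomputable def st19_s_37_41 (c : Nat) : Nat := @Bool.rec (fun _ => Nat) (st19_s_37_39 c) (st19_s_39_41 c) (Nat.ble 39 c)
noncomputable def st19_s_41_43 (c : Nat) : Nat := @Bool.rec (fun _ => Nat) (st19_41) (st19_42) (Nat.ble 42 c)
noncomputable def st19_s_44_46 (c : Nat) : Nat := @Bool.rec (fun _ => Nat) (st19_44) (st19_45) (Nat.ble 45 c)
noncomputable def st19_s_43_46 (c : Nat) : Nat := @Bool.rec (fun _ => Nat) (st19_43) (st19_s_44_46 c) (Nat.ble 44 c)
noncomputable def st19_s_41_46 (c : Nat) : Nat := @Bool.rec (fun _ => Nat) (st19_s_41_43 c) (st19_s_43_46 c) (Nat.ble 43 c)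
noncomputable def st19_s_37_46 (c : Nat) : Nat := @Bool.rec (fun _ => Nat) (st19_s_37_41 c) (st19_s_41_46 c) (Nat.ble 41 c)
noncomputable def st19_s_46_48 (c : Nat) : Nat := @Bool.rec (fun _ => Nat) (st19_46) (st19_47) (Nat.ble 47 c)
noncomputable def st19_s_49_51 (c : Nat) : Nat := @Bool.rec (fun _ => Nat) (st19_49) (st19_50) (Nat.ble 50 c)
noncomputable def st19_s_48_51 (c : Nat) : Nat := @Bool.rec (fun _ => Nat) (st19_48) (st19_s_49_51 c) (Nat.ble 49 c)
noncomputable def st19_s_46_51 (c : Nat) : Nat := @Bool.rec (fun _ => Nat) (st19_s_46_48 c) (st19_s_48_51 c) (Nat.ble 48 c)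
noncomputable def st19_s_51_53 (c : Nat) : Nat := @Bool.rec (fun _ => Nat) (st19_51) (st19_52) (Nat.ble 52 c)
noncomputable def st19_s_54_56 (c : Nat) : Nat := @Bool.rec (fun _ => Nat) (st19_54) (st19_55) (Nat.ble 55 c)
noncomputable def st19_s_53_56 (c : Nat) : Nat := @Bool.rec (fun _ => Nat) (st19_53) (st19_s_54_56 c) (Nat.ble 54 c)
noncomputable def st19_s_51_56 (c : Nat) : Nat := @Bool.rec (fun _ => Nat) (st19_s_51_53 c) (st19_s_53_56 c) (Nat.ble 53 c)
noncomputable def st19_s_46_56 (c : Nat) : Nat := @Bool.rec (fun _ => Nat) (st19_s_46_51 c) (st19_s_51_56 c) (Nat.ble 51 c)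
noncomputable def st19_s_37_56 (c : Nat) : Nat := @Bool.rec (fun _ => Nat) (st19_s_37_46 c) (st19_s_46_56 c) (Nat.ble 46 c)
noncomputable def st19_s_56_58 (c : Nat) : Nat := @Bool.rec (fun _ => Nat) (st19_56) (st19_57) (Nat.ble 57 c)
noncomputable def st19_s_58_60 (c : Nat) : Nat := @Bool.rec (fun _ => Nat) (st19_58) (st19_59) (Nat.ble 59 c)
noncomputable def st19_s_56_60 (c : Nat) : Nat := @Bool.rec (fun _ => Nat) (st19_s_56_58 c) (st19_s_58_60 c) (Nat.ble 58 c)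
noncomputable def st19_s_60_62 (c : Nat) : Nat := @Bool.rec (fun _ => Nat) (st19_60) (st19_61) (Nat.ble 61 c)
noncomputable def st19_s_63_65 (c : Nat) : Nat := @Bool.rec (fun _ => Nat) (st19_63) (st19_64) (Nat.ble 64 c)
noncomputable def st19_s_62_65 (c : Nat) : Nat := @Bool.rec (fun _ => Nat) (st19_62) (st19_s_63_65 c) (Nat.ble 63 c)
noncomputable def st19_s_60_65 (c : Nat) : Nat := @Bool.rec (fun _ => Nat) (st19_s_60_62 c) (st19_s_62_65 c) (Nat.ble 62 c)
noncomputable def st19_s_56_65 (c : Nat) : Nat := @Bool.rec (fun _ => Nat) (st19_s_56_60 c) (st19_s_60_65 c) (Nat.ble 60 c)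
noncomputable def st19_s_65_67 (c : Nat) : Nat := @Bool.rec (fun _ => Nat) (st19_65) (st19_66) (Nat.ble 66 c)
noncomputable def st19_s_68_70 (c : Nat) : Nat := @Bool.rec (fun _ => Nat) (st19_68) (st19_69) (Nat.ble 69 c)
noncomputable def st19_s_67_70 (c : Nat) : Nat := @Bool.rec (fun _ => Nat) (st19_67) (st19_s_68_70 c) (Nat.ble 68 c)
noncomputable def st19_s_65_70 (c : Nat) : Nat := @Bool.rec (fun _ => Nat) (st19_s_65_67 c) (st19_s_67_70 c) (Nat.ble 67 c)
noncomputable def st19_s_70_72 (c : Nat) : Nat := @Bool.rec (fun _ => Nat) (st19_70) (st19_71) (Nat.ble 71 c)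
noncomputable def st19_s_73_75 (c : Nat) : Nat := @Bool.rec (fun _ => Nat) (st19_73) (st19_74) (Nat.ble 74 c)
noncomputable def st19_s_72_75 (c : Nat) : Nat := @Bool.rec (fun _ => Nat) (st19_72) (st19_s_73_75 c) (Nat.ble 73 c)
noncomputable def st19_s_70_75 (c : Nat) : Nat := @Bool.rec (fun _ => Nat) (st19_s_70_72 c) (st19_s_72_75 c) (Nat.ble 72 c)
noncomputable def st19_s_65_75 (c : Nat) : Nat := @Bool.rec (fun _ => Nat) (st19_s_65_70 c) (st19_s_70_75 c) (Nat.ble 70 c)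
noncomputable def st19_s_56_75 (c : Nat) : Nat := @Bool.rec (fun _ => Nat) (st19_s_56_65 c) (st19_s_65_75 c) (Nat.ble 65 c)
noncomputable def st19_s_37_75 (c : Nat) : Nat := @Bool.rec (fun _ => Nat) (st19_s_37_56 c) (st19_s_56_75 c) (Nat.ble 56 c)
noncomputable def st19_s_0_75 (c : Nat) : Nat := @Bool.rec (fun _ => Nat) (st19_s_0_37 c) (st19_s_37_75 c) (Nat.ble 37 c)
noncomputable def st19 (i : Nat) : Nat := rdw 19 524287 (st19_s_0_75 (Nat.shiftRight i 12)) (Nat.land i 4095)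
noncomputable def st20_s_0_2 (c : Nat) : Nat := @Bool.rec (fun _ => Nat) (st20_0) (st20_1) (Nat.ble 1 c)
noncomputable def st20_s_2_4 (c : Nat) : Nat := @Bool.rec (fun _ => Nat) (st20_2) (st20_3) (Nat.ble 3 c)
noncomputable def st20_s_0_4 (c : Nat) : Nat := @Bool.rec (fun _ => Nat) (st20_s_0_2 c) (st20_s_2_4 c) (Nat.ble 2 c)
noncomputable def st20_s_4_6 (c : Nat) : Nat := @Bool.rec (fun _ => Nat) (st20_4) (st20_5) (Nat.ble 5 c)
noncomputable def st20_s_7_9 (c : Nat) : Nat := @Bool.rec (fun _ => Nat) (st20_7) (st20_8) (Nat.ble 8 c)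
noncomputable def st20_s_6_9 (c : Nat) : Nat := @Bool.rec (fun _ => Nat) (st20_6) (st20_s_7_9 c) (Nat.ble 7 c)
noncomputable def st20_s_4_9 (c : Nat) : Nat := @Bool.rec (fun _ => Nat) (st20_s_4_6 c) (st20_s_6_9 c) (Nat.ble 6 c)
noncomputable def st20_s_0_9 (c : Nat) : Nat := @Bool.rec (fun _ => Nat) (st20_s_0_4 c) (st20_s_4_9 c) (Nat.ble 4 c)
noncomputable def st20_s_9_11 (c : Nat) : Nat := @Bool.rec (fun _ => Nat) (st20_9) (st20_10) (Nat.ble 10 c)
noncomputable def st20_s_11_13 (c : Nat) : Nat := @Bool.rec (fun _ => Nat) (st20_11) (st20_12) (Nat.ble 12 c)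
noncomputable def st20_s_9_13 (c : Nat) : Nat := @Bool.rec (fun _ => Nat) (st20_s_9_11 c) (st20_s_11_13 c) (Nat.ble 11 c)
noncomputable def st20_s_13_15 (c : Nat) : Nat := @Bool.rec (fun _ => Nat) (st20_13) (st20_14) (Nat.ble 14 c)
noncomputable def st20_s_16_18 (c : Nat) : Nat := @Bool.rec (fun _ => Nat) (st20_16) (st20_17) (Nat.ble 17 c)
noncomputable def st20_s_15_18 (c : Nat) : Nat := @Bool.rec (fun _ => Nat) (st20_15) (st20_s_16_18 c) (Nat.ble 16 c)
noncomputable def st20_s_13_18 (c : Nat) : Nat := @Bool.rec (fun _ => Nat) (st20_s_13_15 c) (st20_s_15_18 c) (Nat.ble 15 c)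
noncomputable def st20_s_9_18 (c : Nat) : Nat := @Bool.rec (fun _ => Nat) (st20_s_9_13 c) (st20_s_13_18 c) (Nat.ble 13 c)
noncomputable def st20_s_0_18 (c : Nat) : Nat := @Bool.rec (fun _ => Nat) (st20_s_0_9 c) (st20_s_9_18 c) (Nat.ble 9 c)
noncomputable def st20_s_18_20 (c : Nat) : Nat := @Bool.rec (fun _ => Nat) (st20_18) (st20_19) (Nat.ble 19 c)
noncomputable def st20_s_20_22 (c : Nat) : Nat := @Bool.rec (fun _ => Nat) (st20_20) (st20_21) (Nat.ble 21 c)
noncomputable def st20_s_18_22 (c : Nat) : Nat := @Bool.rec (fun _ => Nat) (st20_s_18_20 c) (st20_s_20_22 c) (Nat.ble 20 c)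
noncomputable def st20_s_22_24 (c : Nat) : Nat := @Bool.rec (fun _ => Nat) (st20_22) (st20_23) (Nat.ble 23 c)
noncomputable def st20_s_25_27 (c : Nat) : Nat := @Bool.rec (fun _ => Nat) (st20_25) (st20_26) (Nat.ble 26 c)
noncomputable def st20_s_24_27 (c : Nat) : Nat := @Bool.rec (fun _ => Nat) (st20_24) (st20_s_25_27 c) (Nat.ble 25 c)
noncomputable def st20_s_22_27 (c : Nat) : Nat := @Bool.rec (fun _ => Nat) (st20_s_22_24 c) (st20_s_24_27 c) (Nat.ble 24 c)
noncomputable def st20_s_18_27 (c : Nat) : Nat := @Bool.rec (fun _ => Nat) (st20_s_18_22 c) (st20_s_22_27 c) (Nat.ble 22 c)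
noncomputable def st20_s_27_29 (c : Nat) : Nat := @Bool.rec (fun _ => Nat) (st20_27) (st20_28) (Nat.ble 28 c)
noncomputable def st20_s_30_32 (c : Nat) : Nat := @Bool.rec (fun _ => Nat) (st20_30) (st20_31) (Nat.ble 31 c)
noncomputable def st20_s_29_32 (c : Nat) : Nat := @Bool.rec (fun _ => Nat) (st20_29) (st20_s_30_32 c) (Nat.ble 30 c)
noncomputable def st20_s_27_32 (c : Nat) : Nat := @Bool.rec (fun _ => Nat) (st20_s_27_29 c) (st20_s_29_32 c) (Nat.ble 29 c)
noncomputable def st20_s_32_34 (c : Nat) : Nat := @Bool.rec (fun _ => Nat) (st20_32) (st20_33) (Nat.ble 33 c)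
noncomputable def st20_s_35_37 (c : Nat) : Nat := @Bool.rec (fun _ => Nat) (st20_35) (st20_36) (Nat.ble 36 c)
noncomputable def st20_s_34_37 (c : Nat) : Nat := @Bool.rec (fun _ => Nat) (st20_34) (st20_s_35_37 c) (Nat.ble 35 c)
noncomputable def st20_s_32_37 (c : Nat) : Nat := @Bool.rec (fun _ => Nat) (st20_s_32_34 c) (st20_s_34_37 c) (Nat.ble 34 c)
noncomputable def st20_s_27_37 (c : Nat) : Nat := @Bool.rec (fun _ => Nat) (st20_s_27_32 c) (st20_s_32_37 c) (Nat.ble 32 c)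
noncomputable def st20_s_18_37 (c : Nat) : Nat := @Bool.rec (fun _ => Nat) (st20_s_18_27 c) (st20_s_27_37 c) (Nat.ble 27 c)
noncomputable def st20_s_0_37 (c : Nat) : Nat := @Bool.rec (fun _ => Nat) (st20_s_0_18 c) (st20_s_18_37 c) (Nat.ble 18 c)
noncomputable def st20_s_37_39 (c : Nat) : Nat := @Bool.rec (fun _ => Nat) (st20_37) (st20_38) (Nat.ble 38 c)
noncomputable def st20_s_39_41 (c : Nat) : Nat := @Bool.rec (fun _ => Nat) (st20_39) (st20_40) (Nat.ble 40 c)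
noncomputable def st20_s_37_41 (c : Nat) : Nat := @Bool.rec (fun _ => Nat) (st20_s_37_39 c) (st20_s_39_41 c) (Nat.ble 39 c)
noncomputable def st20_s_41_43 (c : Nat) : Nat := @Bool.rec (fun _ => Nat) (st20_41) (st20_42) (Nat.ble 42 c)
noncomputable def st20_s_44_46 (c : Nat) : Nat := @Bool.rec (fun _ => Nat) (st20_44) (st20_45) (Nat.ble 45 c)
noncomputable def st20_s_43_46 (c : Nat) : Nat := @Bool.rec (fun _ => Nat) (st20_43) (st20_s_44_46 c) (Nat.ble 44 c)
noncomputable def st20_s_41_46 (c : Nat) : Nat := @Bool.rec (fun _ => Nat) (st20_s_41_43 c) (st20_s_43_46 c) (Nat.ble 43 c)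
noncomputable def st20_s_37_46 (c : Nat) : Nat := @Bool.rec (fun _ => Nat) (st20_s_37_41 c) (st20_s_41_46 c) (Nat.ble 41 c)
noncomputable def st20_s_46_48 (c : Nat) : Nat := @Bool.rec (fun _ => Nat) (st20_46) (st20_47) (Nat.ble 47 c)
noncomputable def st20_s_49_51 (c : Nat) : Nat := @Bool.rec (fun _ => Nat) (st20_49) (st20_50) (Nat.ble 50 c)
noncomputable def st20_s_48_51 (c : Nat) : Nat := @Bool.rec (fun _ => Nat) (st20_48) (st20_s_49_51 c) (Nat.ble 49 c)
noncomputable def st20_s_46_51 (c : Nat) : Nat := @Bool.rec (fun _ => Nat) (st20_s_46_48 c) (st20_s_48_51 c) (Nat.ble 48 c)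
noncomputable def st20_s_51_53 (c : Nat) : Nat := @Bool.rec (fun _ => Nat) (st20_51) (st20_52) (Nat.ble 52 c)
noncomputable def st20_s_54_56 (c : Nat) : Nat := @Bool.rec (fun _ => Nat) (st20_54) (st20_55) (Nat.ble 55 c)
noncomputable def st20_s_53_56 (c : Nat) : Nat := @Bool.rec (fun _ => Nat) (st20_53) (st20_s_54_56 c) (Nat.ble 54 c)
noncomputable def st20_s_51_56 (c : Nat) : Nat := @Bool.rec (fun _ => Nat) (st20_s_51_53 c) (st20_s_53_56 c) (Nat.ble 53 c)
noncomputable def st20_s_46_56 (c : Nat) : Nat := @Bool.rec (fun _ => Nat) (st20_s_46_51 c) (st20_s_51_56 c) (Nat.ble 51 c)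
noncomputable def st20_s_37_56 (c : Nat) : Nat := @Bool.rec (fun _ => Nat) (st20_s_37_46 c) (st20_s_46_56 c) (Nat.ble 46 c)
noncomputable def st20_s_56_58 (c : Nat) : Nat := @Bool.rec (fun _ => Nat) (st20_56) (st20_57) (Nat.ble 57 c)
noncomputable def st20_s_58_60 (c : Nat) : Nat := @Bool.rec (fun _ => Nat) (st20_58) (st20_59) (Nat.ble 59 c)
noncomputable def st20_s_56_60 (c : Nat) : Nat := @Bool.rec (fun _ => Nat) (st20_s_56_58 c) (st20_s_58_60 c) (Nat.ble 58 c)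
noncomputable def st20_s_60_62 (c : Nat) : Nat := @Bool.rec (fun _ => Nat) (st20_60) (st20_61) (Nat.ble 61 c)
noncomputable def st20_s_63_65 (c : Nat) : Nat := @Bool.rec (fun _ => Nat) (st20_63) (st20_64) (Nat.ble 64 c)
noncomputable def st20_s_62_65 (c : Nat) : Nat := @Bool.rec (fun _ => Nat) (st20_62) (st20_s_63_65 c) (Nat.ble 63 c)
noncomputable def st20_s_60_65 (c : Nat) : Nat := @Bool.rec (fun _ => Nat) (st20_s_60_62 c) (st20_s_62_65 c) (Nat.ble 62 c)
noncomputable def st20_s_56_65 (c : Nat) : Nat := @Bool.rec (fun _ => Nat) (st20_s_56_60 c) (st20_s_60_65 c) (Nat.ble 60 c)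
noncomputable def st20_s_65_67 (c : Nat) : Nat := @Bool.rec (fun _ => Nat) (st20_65) (st20_66) (Nat.ble 66 c)
noncomputable def st20_s_68_70 (c : Nat) : Nat := @Bool.rec (fun _ => Nat) (st20_68) (st20_69) (Nat.ble 69 c)
noncomputable def st20_s_67_70 (c : Nat) : Nat := @Bool.rec (fun _ => Nat) (st20_67) (st20_s_68_70 c) (Nat.ble 68 c)
noncomputable def st20_s_65_70 (c : Nat) : Nat := @Bool.rec (fun _ => Nat) (st20_s_65_67 c) (st20_s_67_70 c) (Nat.ble 67 c)
noncomputable def st20_s_70_72 (c : Nat) : Nat := @Bool.rec (fun _ => Nat) (st20_70) (st20_71) (Nat.ble 71 c)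
noncomputable def st20_s_73_75 (c : Nat) : Nat := @Bool.rec (fun _ => Nat) (st20_73) (st20_74) (Nat.ble 74 c)
noncomputable def st20_s_72_75 (c : Nat) : Nat := @Bool.rec (fun _ => Nat) (st20_72) (st20_s_73_75 c) (Nat.ble 73 c)
noncomputable def st20_s_70_75 (c : Nat) : Nat := @Bool.rec (fun _ => Nat) (st20_s_70_72 c) (st20_s_72_75 c) (Nat.ble 72 c)
noncomputable def st20_s_65_75 (c : Nat) : Nat := @Bool.rec (fun _ => Nat) (st20_s_65_70 c) (st20_s_70_75 c) (Nat.ble 70 c)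
noncomputable def st20_s_56_75 (c : Nat) : Nat := @Bool.rec (fun _ => Nat) (st20_s_56_65 c) (st20_s_65_75 c) (Nat.ble 65 c)
noncomputable def st20_s_37_75 (c : Nat) : Nat := @Bool.rec (fun _ => Nat) (st20_s_37_56 c) (st20_s_56_75 c) (Nat.ble 56 c)
noncomputable def st20_s_0_75 (c : Nat) : Nat := @Bool.rec (fun _ => Nat) (st20_s_0_37 c) (st20_s_37_75 c) (Nat.ble 37 c)
noncomputable def st20 (i : Nat) : Nat := rdw 19 524287 (st20_s_0_75 (Nat.shiftRight i 12)) (Nat.land i 4095)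
noncomputable def st21_s_0_2 (c : Nat) : Nat := @Bool.rec (fun _ => Nat) (st21_0) (st21_1) (Nat.ble 1 c)
noncomputable def st21_s_2_4 (c : Nat) : Nat := @Bool.rec (fun _ => Nat) (st21_2) (st21_3) (Nat.ble 3 c)
noncomputable def st21_s_0_4 (c : Nat) : Nat := @Bool.rec (fun _ => Nat) (st21_s_0_2 c) (st21_s_2_4 c) (Nat.ble 2 c)
noncomputable def st21_s_4_6 (c : Nat) : Nat := @Bool.rec (fun _ => Nat) (st21_4) (st21_5) (Nat.ble 5 c)
noncomputable def st21_s_7_9 (c : Nat) : Nat := @Bool.rec (fun _ => Nat) (st21_7) (st21_8) (Nat.ble 8 c)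
noncomputable def st21_s_6_9 (c : Nat) : Nat := @Bool.rec (fun _ => Nat) (st21_6) (st21_s_7_9 c) (Nat.ble 7 c)
noncomputable def st21_s_4_9 (c : Nat) : Nat := @Bool.rec (fun _ => Nat) (st21_s_4_6 c) (st21_s_6_9 c) (Nat.ble 6 c)
noncomputable def st21_s_0_9 (c : Nat) : Nat := @Bool.rec (fun _ => Nat) (st21_s_0_4 c) (st21_s_4_9 c) (Nat.ble 4 c)
noncomputable def st21_s_9_11 (c : Nat) : Nat := @Bool.rec (fun _ => Nat) (st21_9) (st21_10) (Nat.ble 10 c)
noncomputable def st21_s_11_13 (c : Nat) : Nat := @Bool.rec (fun _ => Nat) (st21_11) (st21_12) (Nat.ble 12 c)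
noncomputable def st21_s_9_13 (c : Nat) : Nat := @Bool.rec (fun _ => Nat) (st21_s_9_11 c) (st21_s_11_13 c) (Nat.ble 11 c)
noncomputable def st21_s_13_15 (c : Nat) : Nat := @Bool.rec (fun _ => Nat) (st21_13) (st21_14) (Nat.ble 14 c)
noncomputable def st21_s_16_18 (c : Nat) : Nat := @Bool.rec (fun _ => Nat) (st21_16) (st21_17) (Nat.ble 17 c)
noncomputable def st21_s_15_18 (c : Nat) : Nat := @Bool.rec (fun _ => Nat) (st21_15) (st21_s_16_18 c) (Nat.ble 16 c)
noncomputable def st21_s_13_18 (c : Nat) : Nat := @Bool.rec (fun _ => Nat) (st21_s_13_15 c) (st21_s_15_18 c) (Nat.ble 15 c)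
noncomputable def st21_s_9_18 (c : Nat) : Nat := @Bool.rec (fun _ => Nat) (st21_s_9_13 c) (st21_s_13_18 c) (Nat.ble 13 c)
noncomputable def st21_s_0_18 (c : Nat) : Nat := @Bool.rec (fun _ => Nat) (st21_s_0_9 c) (st21_s_9_18 c) (Nat.ble 9 c)
noncomputable def st21_s_18_20 (c : Nat) : Nat := @Bool.rec (fun _ => Nat) (st21_18) (st21_19) (Nat.ble 19 c)
noncomputable def st21_s_20_22 (c : Nat) : Nat := @Bool.rec (fun _ => Nat) (st21_20) (st21_21) (Nat.ble 21 c)
noncomputable def st21_s_18_22 (c : Nat) : Nat := @Bool.rec (fun _ => Nat) (st21_s_18_20 c) (st21_s_20_22 c) (Nat.ble 20 c)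
noncomputable def st21_s_22_24 (c : Nat) : Nat := @Bool.rec (fun _ => Nat) (st21_22) (st21_23) (Nat.ble 23 c)
noncomputable def st21_s_25_27 (c : Nat) : Nat := @Bool.rec (fun _ => Nat) (st21_25) (st21_26) (Nat.ble 26 c)
noncomputable def st21_s_24_27 (c : Nat) : Nat := @Bool.rec (fun _ => Nat) (st21_24) (st21_s_25_27 c) (Nat.ble 25 c)
noncomputable def st21_s_22_27 (c : Nat) : Nat := @Bool.rec (fun _ => Nat) (st21_s_22_24 c) (st21_s_24_27 c) (Nat.ble 24 c)
noncomputable def st21_s_18_27 (c : Nat) : Nat := @Bool.rec (fun _ => Nat) (st21_s_18_22 c) (st21_s_22_27 c) (Nat.ble 22 c)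
noncomputable def st21_s_27_29 (c : Nat) : Nat := @Bool.rec (fun _ => Nat) (st21_27) (st21_28) (Nat.ble 28 c)
noncomputable def st21_s_30_32 (c : Nat) : Nat := @Bool.rec (fun _ => Nat) (st21_30) (st21_31) (Nat.ble 31 c)
noncomputable def st21_s_29_32 (c : Nat) : Nat := @Bool.rec (fun _ => Nat) (st21_29) (st21_s_30_32 c) (Nat.ble 30 c)
noncomputable def st21_s_27_32 (c : Nat) : Nat := @Bool.rec (fun _ => Nat) (st21_s_27_29 c) (st21_s_29_32 c) (Nat.ble 29 c)
noncomputable def st21_s_32_34 (c : Nat) : Nat := @Bool.rec (fun _ => Nat) (st21_32) (st21_33) (Nat.ble 33 c)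
noncomputable def st21_s_35_37 (c : Nat) : Nat := @Bool.rec (fun _ => Nat) (st21_35) (st21_36) (Nat.ble 36 c)
noncomputable def st21_s_34_37 (c : Nat) : Nat := @Bool.rec (fun _ => Nat) (st21_34) (st21_s_35_37 c) (Nat.ble 35 c)
noncomputable def st21_s_32_37 (c : Nat) : Nat := @Bool.rec (fun _ => Nat) (st21_s_32_34 c) (st21_s_34_37 c) (Nat.ble 34 c)
noncomputable def st21_s_27_37 (c : Nat) : Nat := @Bool.rec (fun _ => Nat) (st21_s_27_32 c) (st21_s_32_37 c) (Nat.ble 32 c)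
noncomputable def st21_s_18_37 (c : Nat) : Nat := @Bool.rec (fun _ => Nat) (st21_s_18_27 c) (st21_s_27_37 c) (Nat.ble 27 c)
noncomputable def st21_s_0_37 (c : Nat) : Nat := @Bool.rec (fun _ => Nat) (st21_s_0_18 c) (st21_s_18_37 c) (Nat.ble 18 c)
noncomputable def st21_s_37_39 (c : Nat) : Nat := @Bool.rec (fun _ => Nat) (st21_37) (st21_38) (Nat.ble 38 c)
noncomputable def st21_s_39_41 (c : Nat) : Nat := @Bool.rec (fun _ => Nat) (st21_39) (st21_40) (Nat.ble 40 c)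
noncomputable def st21_s_37_41 (c : Nat) : Nat := @Bool.rec (fun _ => Nat) (st21_s_37_39 c) (st21_s_39_41 c) (Nat.ble 39 c)
noncomputable def st21_s_41_43 (c : Nat) : Nat := @Bool.rec (fun _ => Nat) (st21_41) (st21_42) (Nat.ble 42 c)
noncomputable def st21_s_44_46 (c : Nat) : Nat := @Bool.rec (fun _ => Nat) (st21_44) (st21_45) (Nat.ble 45 c)
noncomputable def st21_s_43_46 (c : Nat) : Nat := @Bool.rec (fun _ => Nat) (st21_43) (st21_s_44_46 c) (Nat.ble 44 c)
noncomputable def st21_s_41_46 (c : Nat) : Nat := @Bool.rec (fun _ => Nat) (st21_s_41_43 c) (st21_s_43_46 c) (Nat.ble 43 c)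
noncomputable def st21_s_37_46 (c : Nat) : Nat := @Bool.rec (fun _ => Nat) (st21_s_37_41 c) (st21_s_41_46 c) (Nat.ble 41 c)
noncomputable def st21_s_46_48 (c : Nat) : Nat := @Bool.rec (fun _ => Nat) (st21_46) (st21_47) (Nat.ble 47 c)
noncomputable def st21_s_49_51 (c : Nat) : Nat := @Bool.rec (fun _ => Nat) (st21_49) (st21_50) (Nat.ble 50 c)
noncomputable def st21_s_48_51 (c : Nat) : Nat := @Bool.rec (fun _ => Nat) (st21_48) (st21_s_49_51 c) (Nat.ble 49 c)
noncomputable def st21_s_46_51 (c : Nat) : Nat := @Bool.rec (fun _ => Nat) (st21_s_46_48 c) (st21_s_48_51 c) (Nat.ble 48 c)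
noncomputable def st21_s_51_53 (c : Nat) : Nat := @Bool.rec (fun _ => Nat) (st21_51) (st21_52) (Nat.ble 52 c)
noncomputable def st21_s_54_56 (c : Nat) : Nat := @Bool.rec (fun _ => Nat) (st21_54) (st21_55) (Nat.ble 55 c)
noncomputable def st21_s_53_56 (c : Nat) : Nat := @Bool.rec (fun _ => Nat) (st21_53) (st21_s_54_56 c) (Nat.ble 54 c)
noncomputable def st21_s_51_56 (c : Nat) : Nat := @Bool.rec (fun _ => Nat) (st21_s_51_53 c) (st21_s_53_56 c) (Nat.ble 53 c)
noncomputable def st21_s_46_56 (c : Nat) : Nat := @Bool.rec (fun _ => Nat) (st21_s_46_51 c) (st21_s_51_56 c) (Nat.ble 51 c)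
noncomputable def st21_s_37_56 (c : Nat) : Nat := @Bool.rec (fun _ => Nat) (st21_s_37_46 c) (st21_s_46_56 c) (Nat.ble 46 c)
noncomputable def st21_s_56_58 (c : Nat) : Nat := @Bool.rec (fun _ => Nat) (st21_56) (st21_57) (Nat.ble 57 c)
noncomputable def st21_s_58_60 (c : Nat) : Nat := @Bool.rec (fun _ => Nat) (st21_58) (st21_59) (Nat.ble 59 c)
noncomputable def st21_s_56_60 (c : Nat) : Nat := @Bool.rec (fun _ => Nat) (st21_s_56_58 c) (st21_s_58_60 c) (Nat.ble 58 c)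
noncomputable def st21_s_60_62 (c : Nat) : Nat := @Bool.rec (fun _ => Nat) (st21_60) (st21_61) (Nat.ble 61 c)
noncomputable def st21_s_63_65 (c : Nat) : Nat := @Bool.rec (fun _ => Nat) (st21_63) (st21_64) (Nat.ble 64 c)
noncomputable def st21_s_62_65 (c : Nat) : Nat := @Bool.rec (fun _ => Nat) (st21_62) (st21_s_63_65 c) (Nat.ble 63 c)
noncomputable def st21_s_60_65 (c : Nat) : Nat := @Bool.rec (fun _ => Nat) (st21_s_60_62 c) (st21_s_62_65 c) (Nat.ble 62 c)
noncomputable def st21_s_56_65 (c : Nat) : Nat := @Bool.rec (fun _ => Nat) (st21_s_56_60 c) (st21_s_60_65 c) (Nat.ble 60 c)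
noncomputable def st21_s_65_67 (c : Nat) : Nat := @Bool.rec (fun _ => Nat) (st21_65) (st21_66) (Nat.ble 66 c)
noncomputable def st21_s_68_70 (c : Nat) : Nat := @Bool.rec (fun _ => Nat) (st21_68) (st21_69) (Nat.ble 69 c)
noncomputable def st21_s_67_70 (c : Nat) : Nat := @Bool.rec (fun _ => Nat) (st21_67) (st21_s_68_70 c) (Nat.ble 68 c)
noncomputable def st21_s_65_70 (c : Nat) : Nat := @Bool.rec (fun _ => Nat) (st21_s_65_67 c) (st21_s_67_70 c) (Nat.ble 67 c)
noncomputable def st21_s_70_72 (c : Nat) : Nat := @Bool.rec (fun _ => Nat) (st21_70) (st21_71) (Nat.ble 71 c)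
noncomputable def st21_s_73_75 (c : Nat) : Nat := @Bool.rec (fun _ => Nat) (st21_73) (st21_74) (Nat.ble 74 c)
noncomputable def st21_s_72_75 (c : Nat) : Nat := @Bool.rec (fun _ => Nat) (st21_72) (st21_s_73_75 c) (Nat.ble 73 c)
noncomputable def st21_s_70_75 (c : Nat) : Nat := @Bool.rec (fun _ => Nat) (st21_s_70_72 c) (st21_s_72_75 c) (Nat.ble 72 c)
noncomputable def st21_s_65_75 (c : Nat) : Nat := @Bool.rec (fun _ => Nat) (st21_s_65_70 c) (st21_s_70_75 c) (Nat.ble 70 c)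
noncomputable def st21_s_56_75 (c : Nat) : Nat := @Bool.rec (fun _ => Nat) (st21_s_56_65 c) (st21_s_65_75 c) (Nat.ble 65 c)
noncomputable def st21_s_37_75 (c : Nat) : Nat := @Bool.rec (fun _ => Nat) (st21_s_37_56 c) (st21_s_56_75 c) (Nat.ble 56 c)
noncomputable def st21_s_0_75 (c : Nat) : Nat := @Bool.rec (fun _ => Nat) (st21_s_0_37 c) (st21_s_37_75 c) (Nat.ble 37 c)
noncomputable def st21 (i : Nat) : Nat := rdw 19 524287 (st21_s_0_75 (Nat.shiftRight i 12)) (Nat.land i 4095)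
noncomputable def st22_s_0_2 (c : Nat) : Nat := @Bool.rec (fun _ => Nat) (st22_0) (st22_1) (Nat.ble 1 c)
noncomputable def st22_s_2_4 (c : Nat) : Nat := @Bool.rec (fun _ => Nat) (st22_2) (st22_3) (Nat.ble 3 c)
noncomputable def st22_s_0_4 (c : Nat) : Nat := @Bool.rec (fun _ => Nat) (st22_s_0_2 c) (st22_s_2_4 c) (Nat.ble 2 c)
noncomputable def st22_s_4_6 (c : Nat) : Nat := @Bool.rec (fun _ => Nat) (st22_4) (st22_5) (Nat.ble 5 c)
noncomputable def st22_s_7_9 (c : Nat) : Nat := @Bool.rec (fun _ => Nat) (st22_7) (st22_8) (Nat.ble 8 c)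
noncomputable def st22_s_6_9 (c : Nat) : Nat := @Bool.rec (fun _ => Nat) (st22_6) (st22_s_7_9 c) (Nat.ble 7 c)
noncomputable def st22_s_4_9 (c : Nat) : Nat := @Bool.rec (fun _ => Nat) (st22_s_4_6 c) (st22_s_6_9 c) (Nat.ble 6 c)
noncomputable def st22_s_0_9 (c : Nat) : Nat := @Bool.rec (fun _ => Nat) (st22_s_0_4 c) (st22_s_4_9 c) (Nat.ble 4 c)
noncomputable def st22_s_9_11 (c : Nat) : Nat := @Bool.rec (fun _ => Nat) (st22_9) (st22_10) (Nat.ble 10 c)
noncomputable def st22_s_11_13 (c : Nat) : Nat := @Bool.rec (fun _ => Nat) (st22_11) (st22_12) (Nat.ble 12 c)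
noncomputable def st22_s_9_13 (c : Nat) : Nat := @Bool.rec (fun _ => Nat) (st22_s_9_11 c) (st22_s_11_13 c) (Nat.ble 11 c)
noncomputable def st22_s_13_15 (c : Nat) : Nat := @Bool.rec (fun _ => Nat) (st22_13) (st22_14) (Nat.ble 14 c)
noncomputable def st22_s_16_18 (c : Nat) : Nat := @Bool.rec (fun _ => Nat) (st22_16) (st22_17) (Nat.ble 17 c)
noncomputable def st22_s_15_18 (c : Nat) : Nat := @Bool.rec (fun _ => Nat) (st22_15) (st22_s_16_18 c) (Nat.ble 16 c)
noncomputable def st22_s_13_18 (c : Nat) : Nat := @Bool.rec (fun _ => Nat) (st22_s_13_15 c) (st22_s_15_18 c) (Nat.ble 15 c)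
noncomputable def st22_s_9_18 (c : Nat) : Nat := @Bool.rec (fun _ => Nat) (st22_s_9_13 c) (st22_s_13_18 c) (Nat.ble 13 c)
noncomputable def st22_s_0_18 (c : Nat) : Nat := @Bool.rec (fun _ => Nat) (st22_s_0_9 c) (st22_s_9_18 c) (Nat.ble 9 c)
noncomputable def st22_s_18_20 (c : Nat) : Nat := @Bool.rec (fun _ => Nat) (st22_18) (st22_19) (Nat.ble 19 c)
noncomputable def st22_s_20_22 (c : Nat) : Nat := @Bool.rec (fun _ => Nat) (st22_20) (st22_21) (Nat.ble 21 c)
noncomputable def st22_s_18_22 (c : Nat) : Nat := @Bool.rec (fun _ => Nat) (st22_s_18_20 c) (st22_s_20_22 c) (Nat.ble 20 c)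
noncomputable def st22_s_22_24 (c : Nat) : Nat := @Bool.rec (fun _ => Nat) (st22_22) (st22_23) (Nat.ble 23 c)
noncomputable def st22_s_25_27 (c : Nat) : Nat := @Bool.rec (fun _ => Nat) (st22_25) (st22_26) (Nat.ble 26 c)
noncomputable def st22_s_24_27 (c : Nat) : Nat := @Bool.rec (fun _ => Nat) (st22_24) (st22_s_25_27 c) (Nat.ble 25 c)
noncomputable def st22_s_22_27 (c : Nat) : Nat := @Bool.rec (fun _ => Nat) (st22_s_22_24 c) (st22_s_24_27 c) (Nat.ble 24 c)
noncomputable def st22_s_18_27 (c : Nat) : Nat := @Bool.rec (fun _ => Nat) (st22_s_18_22 c) (st22_s_22_27 c) (Nat.ble 22 c)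
noncomputable def st22_s_27_29 (c : Nat) : Nat := @Bool.rec (fun _ => Nat) (st22_27) (st22_28) (Nat.ble 28 c)
noncomputable def st22_s_30_32 (c : Nat) : Nat := @Bool.rec (fun _ => Nat) (st22_30) (st22_31) (Nat.ble 31 c)
noncomputable def st22_s_29_32 (c : Nat) : Nat := @Bool.rec (fun _ => Nat) (st22_29) (st22_s_30_32 c) (Nat.ble 30 c)
noncomputable def st22_s_27_32 (c : Nat) : Nat := @Bool.rec (fun _ => Nat) (st22_s_27_29 c) (st22_s_29_32 c) (Nat.ble 29 c)
noncomputable def st22_s_32_34 (c : Nat) : Nat := @Bool.rec (fun _ => Nat) (st22_32) (st22_33) (Nat.ble 33 c)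
noncomputable def st22_s_35_37 (c : Nat) : Nat := @Bool.rec (fun _ => Nat) (st22_35) (st22_36) (Nat.ble 36 c)
noncomputable def st22_s_34_37 (c : Nat) : Nat := @Bool.rec (fun _ => Nat) (st22_34) (st22_s_35_37 c) (Nat.ble 35 c)
noncomputable def st22_s_32_37 (c : Nat) : Nat := @Bool.rec (fun _ => Nat) (st22_s_32_34 c) (st22_s_34_37 c) (Nat.ble 34 c)
noncomputable def st22_s_27_37 (c : Nat) : Nat := @Bool.rec (fun _ => Nat) (st22_s_27_32 c) (st22_s_32_37 c) (Nat.ble 32 c)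
noncomputable def st22_s_18_37 (c : Nat) : Nat := @Bool.rec (fun _ => Nat) (st22_s_18_27 c) (st22_s_27_37 c) (Nat.ble 27 c)
noncomputable def st22_s_0_37 (c : Nat) : Nat := @Bool.rec (fun _ => Nat) (st22_s_0_18 c) (st22_s_18_37 c) (Nat.ble 18 c)
noncomputable def st22_s_37_39 (c : Nat) : Nat := @Bool.rec (fun _ => Nat) (st22_37) (st22_38) (Nat.ble 38 c)
noncomputable def st22_s_39_41 (c : Nat) : Nat := @Bool.rec (fun _ => Nat) (st22_39) (st22_40) (Nat.ble 40 c)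
noncomputable def st22_s_37_41 (c : Nat) : Nat := @Bool.rec (fun _ => Nat) (st22_s_37_39 c) (st22_s_39_41 c) (Nat.ble 39 c)
noncomputable def st22_s_41_43 (c : Nat) : Nat := @Bool.rec (fun _ => Nat) (st22_41) (st22_42) (Nat.ble 42 c)
noncomputable def st22_s_44_46 (c : Nat) : Nat := @Bool.rec (fun _ => Nat) (st22_44) (st22_45) (Nat.ble 45 c)
noncomputable def st22_s_43_46 (c : Nat) : Nat := @Bool.rec (fun _ => Nat) (st22_43) (st22_s_44_46 c) (Nat.ble 44 c)
noncomputable def st22_s_41_46 (c : Nat) : Nat := @Bool.rec (fun _ => Nat) (st22_s_41_43 c) (st22_s_43_46 c) (Nat.ble 43 c)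
noncomputable def st22_s_37_46 (c : Nat) : Nat := @Bool.rec (fun _ => Nat) (st22_s_37_41 c) (st22_s_41_46 c) (Nat.ble 41 c)
noncomputable def st22_s_46_48 (c : Nat) : Nat := @Bool.rec (fun _ => Nat) (st22_46) (st22_47) (Nat.ble 47 c)
noncomputable def st22_s_49_51 (c : Nat) : Nat := @Bool.rec (fun _ => Nat) (st22_49) (st22_50) (Nat.ble 50 c)
noncomputable def st22_s_48_51 (c : Nat) : Nat := @Bool.rec (fun _ => Nat) (st22_48) (st22_s_49_51 c) (Nat.ble 49 c)
noncomputable def st22_s_46_51 (c : Nat) : Nat := @Bool.rec (fun _ => Nat) (st22_s_46_48 c) (st22_s_48_51 c) (Nat.ble 48 c)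
noncomputable def st22_s_51_53 (c : Nat) : Nat := @Bool.rec (fun _ => Nat) (st22_51) (st22_52) (Nat.ble 52 c)
noncomputable def st22_s_54_56 (c : Nat) : Nat := @Bool.rec (fun _ => Nat) (st22_54) (st22_55) (Nat.ble 55 c)
noncomputable def st22_s_53_56 (c : Nat) : Nat := @Bool.rec (fun _ => Nat) (st22_53) (st22_s_54_56 c) (Nat.ble 54 c)
noncomputable def st22_s_51_56 (c : Nat) : Nat := @Bool.rec (fun _ => Nat) (st22_s_51_53 c) (st22_s_53_56 c) (Nat.ble 53 c)
noncomputable def st22_s_46_56 (c : Nat) : Nat := @Bool.rec (fun _ => Nat) (st22_s_46_51 c) (st22_s_51_56 c) (Nat.ble 51 c)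
noncomputable def st22_s_37_56 (c : Nat) : Nat := @Bool.rec (fun _ => Nat) (st22_s_37_46 c) (st22_s_46_56 c) (Nat.ble 46 c)
noncomputable def st22_s_56_58 (c : Nat) : Nat := @Bool.rec (fun _ => Nat) (st22_56) (st22_57) (Nat.ble 57 c)
noncomputable def st22_s_58_60 (c : Nat) : Nat := @Bool.rec (fun _ => Nat) (st22_58) (st22_59) (Nat.ble 59 c)
noncomputable def st22_s_56_60 (c : Nat) : Nat := @Bool.rec (fun _ => Nat) (st22_s_56_58 c) (st22_s_58_60 c) (Nat.ble 58 c)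
noncomputable def st22_s_60_62 (c : Nat) : Nat := @Bool.rec (fun _ => Nat) (st22_60) (st22_61) (Nat.ble 61 c)
noncomputable def st22_s_63_65 (c : Nat) : Nat := @Bool.rec (fun _ => Nat) (st22_63) (st22_64) (Nat.ble 64 c)
noncomputable def st22_s_62_65 (c : Nat) : Nat := @Bool.rec (fun _ => Nat) (st22_62) (st22_s_63_65 c) (Nat.ble 63 c)
noncomputable def st22_s_60_65 (c : Nat) : Nat := @Bool.rec (fun _ => Nat) (st22_s_60_62 c) (st22_s_62_65 c) (Nat.ble 62 c)
noncomputable def st22_s_56_65 (c : Nat) : Nat := @Bool.rec (fun _ => Nat) (st22_s_56_60 c) (st22_s_60_65 c) (Nat.ble 60 c)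
noncomputable def st22_s_65_67 (c : Nat) : Nat := @Bool.rec (fun _ => Nat) (st22_65) (st22_66) (Nat.ble 66 c)
noncomputable def st22_s_68_70 (c : Nat) : Nat := @Bool.rec (fun _ => Nat) (st22_68) (st22_69) (Nat.ble 69 c)
noncomputable def st22_s_67_70 (c : Nat) : Nat := @Bool.rec (fun _ => Nat) (st22_67) (st22_s_68_70 c) (Nat.ble 68 c)
noncomputable def st22_s_65_70 (c : Nat) : Nat := @Bool.rec (fun _ => Nat) (st22_s_65_67 c) (st22_s_67_70 c) (Nat.ble 67 c)
noncomputable def st22_s_70_72 (c : Nat) : Nat := @Bool.rec (fun _ => Nat) (st22_70) (st22_71) (Nat.ble 71 c)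
noncomputable def st22_s_73_75 (c : Nat) : Nat := @Bool.rec (fun _ => Nat) (st22_73) (st22_74) (Nat.ble 74 c)
noncomputable def st22_s_72_75 (c : Nat) : Nat := @Bool.rec (fun _ => Nat) (st22_72) (st22_s_73_75 c) (Nat.ble 73 c)
noncomputable def st22_s_70_75 (c : Nat) : Nat := @Bool.rec (fun _ => Nat) (st22_s_70_72 c) (st22_s_72_75 c) (Nat.ble 72 c)
noncomputable def st22_s_65_75 (c : Nat) : Nat := @Bool.rec (fun _ => Nat) (st22_s_65_70 c) (st22_s_70_75 c) (Nat.ble 70 c)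
noncomputable def st22_s_56_75 (c : Nat) : Nat := @Bool.rec (fun _ => Nat) (st22_s_56_65 c) (st22_s_65_75 c) (Nat.ble 65 c)
noncomputable def st22_s_37_75 (c : Nat) : Nat := @Bool.rec (fun _ => Nat) (st22_s_37_56 c) (st22_s_56_75 c) (Nat.ble 56 c)
noncomputable def st22_s_0_75 (c : Nat) : Nat := @Bool.rec (fun _ => Nat) (st22_s_0_37 c) (st22_s_37_75 c) (Nat.ble 37 c)
noncomputable def st22 (i : Nat) : Nat := rdw 19 524287 (st22_s_0_75 (Nat.shiftRight i 12)) (Nat.land i 4095)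
noncomputable def st23_s_0_2 (c : Nat) : Nat := @Bool.rec (fun _ => Nat) (st23_0) (st23_1) (Nat.ble 1 c)
noncomputable def st23_s_2_4 (c : Nat) : Nat := @Bool.rec (fun _ => Nat) (st23_2) (st23_3) (Nat.ble 3 c)
noncomputable def st23_s_0_4 (c : Nat) : Nat := @Bool.rec (fun _ => Nat) (st23_s_0_2 c) (st23_s_2_4 c) (Nat.ble 2 c)
noncomputable def st23_s_4_6 (c : Nat) : Nat := @Bool.rec (fun _ => Nat) (st23_4) (st23_5) (Nat.ble 5 c)
noncomputable def st23_s_7_9 (c : Nat) : Nat := @Bool.rec (fun _ => Nat) (st23_7) (st23_8) (Nat.ble 8 c)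
noncomputable def st23_s_6_9 (c : Nat) : Nat := @Bool.rec (fun _ => Nat) (st23_6) (st23_s_7_9 c) (Nat.ble 7 c)
noncomputable def st23_s_4_9 (c : Nat) : Nat := @Bool.rec (fun _ => Nat) (st23_s_4_6 c) (st23_s_6_9 c) (Nat.ble 6 c)
noncomputable def st23_s_0_9 (c : Nat) : Nat := @Bool.rec (fun _ => Nat) (st23_s_0_4 c) (st23_s_4_9 c) (Nat.ble 4 c)
noncomputable def st23_s_9_11 (c : Nat) : Nat := @Bool.rec (fun _ => Nat) (st23_9) (st23_10) (Nat.ble 10 c)
noncomputable def st23_s_11_13 (c : Nat) : Nat := @Bool.rec (fun _ => Nat) (st23_11) (st23_12) (Nat.ble 12 c)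
noncomputable def st23_s_9_13 (c : Nat) : Nat := @Bool.rec (fun _ => Nat) (st23_s_9_11 c) (st23_s_11_13 c) (Nat.ble 11 c)
noncomputable def st23_s_13_15 (c : Nat) : Nat := @Bool.rec (fun _ => Nat) (st23_13) (st23_14) (Nat.ble 14 c)
noncomputable def st23_s_16_18 (c : Nat) : Nat := @Bool.rec (fun _ => Nat) (st23_16) (st23_17) (Nat.ble 17 c)
noncomputable def st23_s_15_18 (c : Nat) : Nat := @Bool.rec (fun _ => Nat) (st23_15) (st23_s_16_18 c) (Nat.ble 16 c)
noncomputable def st23_s_13_18 (c : Nat) : Nat := @Bool.rec (fun _ => Nat) (st23_s_13_15 c) (st23_s_15_18 c) (Nat.ble 15 c)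
noncomputable def st23_s_9_18 (c : Nat) : Nat := @Bool.rec (fun _ => Nat) (st23_s_9_13 c) (st23_s_13_18 c) (Nat.ble 13 c)
noncomputable def st23_s_0_18 (c : Nat) : Nat := @Bool.rec (fun _ => Nat) (st23_s_0_9 c) (st23_s_9_18 c) (Nat.ble 9 c)
noncomputable def st23_s_18_20 (c : Nat) : Nat := @Bool.rec (fun _ => Nat) (st23_18) (st23_19) (Nat.ble 19 c)
noncomputable def st23_s_20_22 (c : Nat) : Nat := @Bool.rec (fun _ => Nat) (st23_20) (st23_21) (Nat.ble 21 c)
noncomputable def st23_s_18_22 (c : Nat) : Nat := @Bool.rec (fun _ => Nat) (st23_s_18_20 c) (st23_s_20_22 c) (Nat.ble 20 c)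
noncomputable def st23_s_22_24 (c : Nat) : Nat := @Bool.rec (fun _ => Nat) (st23_22) (st23_23) (Nat.ble 23 c)
noncomputable def st23_s_25_27 (c : Nat) : Nat := @Bool.rec (fun _ => Nat) (st23_25) (st23_26) (Nat.ble 26 c)
noncomputable def st23_s_24_27 (c : Nat) : Nat := @Bool.rec (fun _ => Nat) (st23_24) (st23_s_25_27 c) (Nat.ble 25 c)
noncomputable def st23_s_22_27 (c : Nat) : Nat := @Bool.rec (fun _ => Nat) (st23_s_22_24 c) (st23_s_24_27 c) (Nat.ble 24 c)
noncomputable def st23_s_18_27 (c : Nat) : Nat := @Bool.rec (fun _ => Nat) (st23_s_18_22 c) (st23_s_22_27 c) (Nat.ble 22 c)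
noncomputable def st23_s_27_29 (c : Nat) : Nat := @Bool.rec (fun _ => Nat) (st23_27) (st23_28) (Nat.ble 28 c)
noncomputable def st23_s_30_32 (c : Nat) : Nat := @Bool.rec (fun _ => Nat) (st23_30) (st23_31) (Nat.ble 31 c)
noncomputable def st23_s_29_32 (c : Nat) : Nat := @Bool.rec (fun _ => Nat) (st23_29) (st23_s_30_32 c) (Nat.ble 30 c)
noncomputable def st23_s_27_32 (c : Nat) : Nat := @Bool.rec (fun _ => Nat) (st23_s_27_29 c) (st23_s_29_32 c) (Nat.ble 29 c)
noncomputable def st23_s_32_34 (c : Nat) : Nat := @Bool.rec (fun _ => Nat) (st23_32) (st23_33) (Nat.ble 33 c)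
noncomputable def st23_s_35_37 (c : Nat) : Nat := @Bool.rec (fun _ => Nat) (st23_35) (st23_36) (Nat.ble 36 c)
noncomputable def st23_s_34_37 (c : Nat) : Nat := @Bool.rec (fun _ => Nat) (st23_34) (st23_s_35_37 c) (Nat.ble 35 c)
noncomputable def st23_s_32_37 (c : Nat) : Nat := @Bool.rec (fun _ => Nat) (st23_s_32_34 c) (st23_s_34_37 c) (Nat.ble 34 c)
noncomputable def st23_s_27_37 (c : Nat) : Nat := @Bool.rec (fun _ => Nat) (st23_s_27_32 c) (st23_s_32_37 c) (Nat.ble 32 c)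
noncomputable def st23_s_18_37 (c : Nat) : Nat := @Bool.rec (fun _ => Nat) (st23_s_18_27 c) (st23_s_27_37 c) (Nat.ble 27 c)
noncomputable def st23_s_0_37 (c : Nat) : Nat := @Bool.rec (fun _ => Nat) (st23_s_0_18 c) (st23_s_18_37 c) (Nat.ble 18 c)
noncomputable def st23_s_37_39 (c : Nat) : Nat := @Bool.rec (fun _ => Nat) (st23_37) (st23_38) (Nat.ble 38 c)
noncomputable def st23_s_39_41 (c : Nat) : Nat := @Bool.rec (fun _ => Nat) (st23_39) (st23_40) (Nat.ble 40 c)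
noncomputable def st23_s_37_41 (c : Nat) : Nat := @Bool.rec (fun _ => Nat) (st23_s_37_39 c) (st23_s_39_41 c) (Nat.ble 39 c)
noncomputable def st23_s_41_43 (c : Nat) : Nat := @Bool.rec (fun _ => Nat) (st23_41) (st23_42) (Nat.ble 42 c)
noncomputable def st23_s_44_46 (c : Nat) : Nat := @Bool.rec (fun _ => Nat) (st23_44) (st23_45) (Nat.ble 45 c)
noncomputable def st23_s_43_46 (c : Nat) : Nat := @Bool.rec (fun _ => Nat) (st23_43) (st23_s_44_46 c) (Nat.ble 44 c)
noncomputable def st23_s_41_46 (c : Nat) : Nat := @Bool.rec (fun _ => Nat) (st23_s_41_43 c) (st23_s_43_46 c) (Nat.ble 43 c)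
noncomputable def st23_s_37_46 (c : Nat) : Nat := @Bool.rec (fun _ => Nat) (st23_s_37_41 c) (st23_s_41_46 c) (Nat.ble 41 c)
noncomputable def st23_s_46_48 (c : Nat) : Nat := @Bool.rec (fun _ => Nat) (st23_46) (st23_47) (Nat.ble 47 c)
noncomputable def st23_s_49_51 (c : Nat) : Nat := @Bool.rec (fun _ => Nat) (st23_49) (st23_50) (Nat.ble 50 c)
noncomputable def st23_s_48_51 (c : Nat) : Nat := @Bool.rec (fun _ => Nat) (st23_48) (st23_s_49_51 c) (Nat.ble 49 c)
noncomputable def st23_s_46_51 (c : Nat) : Nat := @Bool.rec (fun _ => Nat) (st23_s_46_48 c) (st23_s_48_51 c) (Nat.ble 48 c)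
noncomputable def st23_s_51_53 (c : Nat) : Nat := @Bool.rec (fun _ => Nat) (st23_51) (st23_52) (Nat.ble 52 c)
noncomputable def st23_s_54_56 (c : Nat) : Nat := @Bool.rec (fun _ => Nat) (st23_54) (st23_55) (Nat.ble 55 c)
noncomputable def st23_s_53_56 (c : Nat) : Nat := @Bool.rec (fun _ => Nat) (st23_53) (st23_s_54_56 c) (Nat.ble 54 c)
noncomputable def st23_s_51_56 (c : Nat) : Nat := @Bool.rec (fun _ => Nat) (st23_s_51_53 c) (st23_s_53_56 c) (Nat.ble 53 c)
noncomputable def st23_s_46_56 (c : Nat) : Nat := @Bool.rec (fun _ => Nat) (st23_s_46_51 c) (st23_s_51_56 c) (Nat.ble 51 c)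
noncomputable def st23_s_37_56 (c : Nat) : Nat := @Bool.rec (fun _ => Nat) (st23_s_37_46 c) (st23_s_46_56 c) (Nat.ble 46 c)
noncomputable def st23_s_56_58 (c : Nat) : Nat := @Bool.rec (fun _ => Nat) (st23_56) (st23_57) (Nat.ble 57 c)
noncomputable def st23_s_58_60 (c : Nat) : Nat := @Bool.rec (fun _ => Nat) (st23_58) (st23_59) (Nat.ble 59 c)
noncomputable def st23_s_56_60 (c : Nat) : Nat := @Bool.rec (fun _ => Nat) (st23_s_56_58 c) (st23_s_58_60 c) (Nat.ble 58 c)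
noncomputable def st23_s_60_62 (c : Nat) : Nat := @Bool.rec (fun _ => Nat) (st23_60) (st23_61) (Nat.ble 61 c)
noncomputable def st23_s_63_65 (c : Nat) : Nat := @Bool.rec (fun _ => Nat) (st23_63) (st23_64) (Nat.ble 64 c)
noncomputable def st23_s_62_65 (c : Nat) : Nat := @Bool.rec (fun _ => Nat) (st23_62) (st23_s_63_65 c) (Nat.ble 63 c)
noncomputable def st23_s_60_65 (c : Nat) : Nat := @Bool.rec (fun _ => Nat) (st23_s_60_62 c) (st23_s_62_65 c) (Nat.ble 62 c)
noncomputable def st23_s_56_65 (c : Nat) : Nat := @Bool.rec (fun _ => Nat) (st23_s_56_60 c) (st23_s_60_65 c) (Nat.ble 60 c)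
noncomputable def st23_s_65_67 (c : Nat) : Nat := @Bool.rec (fun _ => Nat) (st23_65) (st23_66) (Nat.ble 66 c)
noncomputable def st23_s_68_70 (c : Nat) : Nat := @Bool.rec (fun _ => Nat) (st23_68) (st23_69) (Nat.ble 69 c)
noncomputable def st23_s_67_70 (c : Nat) : Nat := @Bool.rec (fun _ => Nat) (st23_67) (st23_s_68_70 c) (Nat.ble 68 c)
noncomputable def st23_s_65_70 (c : Nat) : Nat := @Bool.rec (fun _ => Nat) (st23_s_65_67 c) (st23_s_67_70 c) (Nat.ble 67 c)
noncomputable def st23_s_70_72 (c : Nat) : Nat := @Bool.rec (fun _ => Nat) (st23_70) (st23_71) (Nat.ble 71 c)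
noncomputable def st23_s_73_75 (c : Nat) : Nat := @Bool.rec (fun _ => Nat) (st23_73) (st23_74) (Nat.ble 74 c)
noncomputable def st23_s_72_75 (c : Nat) : Nat := @Bool.rec (fun _ => Nat) (st23_72) (st23_s_73_75 c) (Nat.ble 73 c)
noncomputable def st23_s_70_75 (c : Nat) : Nat := @Bool.rec (fun _ => Nat) (st23_s_70_72 c) (st23_s_72_75 c) (Nat.ble 72 c)
noncomputable def st23_s_65_75 (c : Nat) : Nat := @Bool.rec (fun _ => Nat) (st23_s_65_70 c) (st23_s_70_75 c) (Nat.ble 70 c)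
noncomputable def st23_s_56_75 (c : Nat) : Nat := @Bool.rec (fun _ => Nat) (st23_s_56_65 c) (st23_s_65_75 c) (Nat.ble 65 c)
noncomputable def st23_s_37_75 (c : Nat) : Nat := @Bool.rec (fun _ => Nat) (st23_s_37_56 c) (st23_s_56_75 c) (Nat.ble 56 c)
noncomputable def st23_s_0_75 (c : Nat) : Nat := @Bool.rec (fun _ => Nat) (st23_s_0_37 c) (st23_s_37_75 c) (Nat.ble 37 c)
noncomputable def st23 (i : Nat) : Nat := rdw 19 524287 (st23_s_0_75 (Nat.shiftRight i 12)) (Nat.land i 4095)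
noncomputable def levTab (i : Nat) : Nat := rdw 4 15 levTab_0 i
noncomputable def betaTab (i : Nat) : Nat := rdw 19 524287 betaTab_0 i
noncomputable def nodeTab_s_0_2 (c : Nat) : Nat := @Bool.rec (fun _ => Nat) (nodeTab_0) (nodeTab_1) (Nat.ble 1 c)
noncomputable def nodeTab_s_3_5 (c : Nat) : Nat := @Bool.rec (fun _ => Nat) (nodeTab_3) (nodeTab_4) (Nat.ble 4 c)
noncomputable def nodeTab_s_2_5 (c : Nat) : Nat := @Bool.rec (fun _ => Nat) (nodeTab_2) (nodeTab_s_3_5 c) (Nat.ble 3 c)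
noncomputable def nodeTab_s_0_5 (c : Nat) : Nat := @Bool.rec (fun _ => Nat) (nodeTab_s_0_2 c) (nodeTab_s_2_5 c) (Nat.ble 2 c)
noncomputable def nodeTab_s_6_8 (c : Nat) : Nat := @Bool.rec (fun _ => Nat) (nodeTab_6) (nodeTab_7) (Nat.ble 7 c)
noncomputable def nodeTab_s_5_8 (c : Nat) : Nat := @Bool.rec (fun _ => Nat) (nodeTab_5) (nodeTab_s_6_8 c) (Nat.ble 6 c)
noncomputable def nodeTab_s_9_11 (c : Nat) : Nat := @Bool.rec (fun _ => Nat) (nodeTab_9) (nodeTab_10) (Nat.ble 10 c)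
noncomputable def nodeTab_s_8_11 (c : Nat) : Nat := @Bool.rec (fun _ => Nat) (nodeTab_8) (nodeTab_s_9_11 c) (Nat.ble 9 c)
noncomputable def nodeTab_s_5_11 (c : Nat) : Nat := @Bool.rec (fun _ => Nat) (nodeTab_s_5_8 c) (nodeTab_s_8_11 c) (Nat.ble 8 c)
noncomputable def nodeTab_s_0_11 (c : Nat) : Nat := @Bool.rec (fun _ => Nat) (nodeTab_s_0_5 c) (nodeTab_s_5_11 c) (Nat.ble 5 c)
noncomputable def nodeTab_s_11_13 (c : Nat) : Nat := @Bool.rec (fun _ => Nat) (nodeTab_11) (nodeTab_12) (Nat.ble 12 c)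
noncomputable def nodeTab_s_14_16 (c : Nat) : Nat := @Bool.rec (fun _ => Nat) (nodeTab_14) (nodeTab_15) (Nat.ble 15 c)
noncomputable def nodeTab_s_13_16 (c : Nat) : Nat := @Bool.rec (fun _ => Nat) (nodeTab_13) (nodeTab_s_14_16 c) (Nat.ble 14 c)
noncomputable def nodeTab_s_11_16 (c : Nat) : Nat := @Bool.rec (fun _ => Nat) (nodeTab_s_11_13 c) (nodeTab_s_13_16 c) (Nat.ble 13 c)
noncomputable def nodeTab_s_17_19 (c : Nat) : Nat := @Bool.rec (fun _ => Nat) (nodeTab_17) (nodeTab_18) (Nat.ble 18 c)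
noncomputable def nodeTab_s_16_19 (c : Nat) : Nat := @Bool.rec (fun _ => Nat) (nodeTab_16) (nodeTab_s_17_19 c) (Nat.ble 17 c)
noncomputable def nodeTab_s_20_22 (c : Nat) : Nat := @Bool.rec (fun _ => Nat) (nodeTab_20) (nodeTab_21) (Nat.ble 21 c)
noncomputable def nodeTab_s_19_22 (c : Nat) : Nat := @Bool.rec (fun _ => Nat) (nodeTab_19) (nodeTab_s_20_22 c) (Nat.ble 20 c)
noncomputable def nodeTab_s_16_22 (c : Nat) : Nat := @Bool.rec (fun _ => Nat) (nodeTab_s_16_19 c) (nodeTab_s_19_22 c) (Nat.ble 19 c)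
noncomputable def nodeTab_s_11_22 (c : Nat) : Nat := @Bool.rec (fun _ => Nat) (nodeTab_s_11_16 c) (nodeTab_s_16_22 c) (Nat.ble 16 c)
noncomputable def nodeTab_s_0_22 (c : Nat) : Nat := @Bool.rec (fun _ => Nat) (nodeTab_s_0_11 c) (nodeTab_s_11_22 c) (Nat.ble 11 c)
noncomputable def nodeTab_s_22_24 (c : Nat) : Nat := @Bool.rec (fun _ => Nat) (nodeTab_22) (nodeTab_23) (Nat.ble 23 c)
noncomputable def nodeTab_s_25_27 (c : Nat) : Nat := @Bool.rec (fun _ => Nat) (nodeTab_25) (nodeTab_26) (Nat.ble 26 c)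
noncomputable def nodeTab_s_24_27 (c : Nat) : Nat := @Bool.rec (fun _ => Nat) (nodeTab_24) (nodeTab_s_25_27 c) (Nat.ble 25 c)
noncomputable def nodeTab_s_22_27 (c : Nat) : Nat := @Bool.rec (fun _ => Nat) (nodeTab_s_22_24 c) (nodeTab_s_24_27 c) (Nat.ble 24 c)
noncomputable def nodeTab_s_28_30 (c : Nat) : Nat := @Bool.rec (fun _ => Nat) (nodeTab_28) (nodeTab_29) (Nat.ble 29 c)
noncomputable def nodeTab_s_27_30 (c : Nat) : Nat := @Bool.rec (fun _ => Nat) (nodeTab_27) (nodeTab_s_28_30 c) (Nat.ble 28 c)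
noncomputable def nodeTab_s_31_33 (c : Nat) : Nat := @Bool.rec (fun _ => Nat) (nodeTab_31) (nodeTab_32) (Nat.ble 32 c)
noncomputable def nodeTab_s_30_33 (c : Nat) : Nat := @Bool.rec (fun _ => Nat) (nodeTab_30) (nodeTab_s_31_33 c) (Nat.ble 31 c)
noncomputable def nodeTab_s_27_33 (c : Nat) : Nat := @Bool.rec (fun _ => Nat) (nodeTab_s_27_30 c) (nodeTab_s_30_33 c) (Nat.ble 30 c)
noncomputable def nodeTab_s_22_33 (c : Nat) : Nat := @Bool.rec (fun _ => Nat) (nodeTab_s_22_27 c) (nodeTab_s_27_33 c) (Nat.ble 27 c)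
noncomputable def nodeTab_s_34_36 (c : Nat) : Nat := @Bool.rec (fun _ => Nat) (nodeTab_34) (nodeTab_35) (Nat.ble 35 c)
noncomputable def nodeTab_s_33_36 (c : Nat) : Nat := @Bool.rec (fun _ => Nat) (nodeTab_33) (nodeTab_s_34_36 c) (Nat.ble 34 c)
noncomputable def nodeTab_s_37_39 (c : Nat) : Nat := @Bool.rec (fun _ => Nat) (nodeTab_37) (nodeTab_38) (Nat.ble 38 c)
noncomputable def nodeTab_s_36_39 (c : Nat) : Nat := @Bool.rec (fun _ => Nat) (nodeTab_36) (nodeTab_s_37_39 c) (Nat.ble 37 c)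
noncomputable def nodeTab_s_33_39 (c : Nat) : Nat := @Bool.rec (fun _ => Nat) (nodeTab_s_33_36 c) (nodeTab_s_36_39 c) (Nat.ble 36 c)
noncomputable def nodeTab_s_40_42 (c : Nat) : Nat := @Bool.rec (fun _ => Nat) (nodeTab_40) (nodeTab_41) (Nat.ble 41 c)
noncomputable def nodeTab_s_39_42 (c : Nat) : Nat := @Bool.rec (fun _ => Nat) (nodeTab_39) (nodeTab_s_40_42 c) (Nat.ble 40 c)
noncomputable def nodeTab_s_43_45 (c : Nat) : Nat := @Bool.rec (fun _ => Nat) (nodeTab_43) (nodeTab_44) (Nat.ble 44 c)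
noncomputable def nodeTab_s_42_45 (c : Nat) : Nat := @Bool.rec (fun _ => Nat) (nodeTab_42) (nodeTab_s_43_45 c) (Nat.ble 43 c)
noncomputable def nodeTab_s_39_45 (c : Nat) : Nat := @Bool.rec (fun _ => Nat) (nodeTab_s_39_42 c) (nodeTab_s_42_45 c) (Nat.ble 42 c)
noncomputable def nodeTab_s_33_45 (c : Nat) : Nat := @Bool.rec (fun _ => Nat) (nodeTab_s_33_39 c) (nodeTab_s_39_45 c) (Nat.ble 39 c)
noncomputable def nodeTab_s_22_45 (c : Nat) : Nat := @Bool.rec (fun _ => Nat) (nodeTab_s_22_33 c) (nodeTab_s_33_45 c) (Nat.ble 33 c)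
noncomputable def nodeTab_s_0_45 (c : Nat) : Nat := @Bool.rec (fun _ => Nat) (nodeTab_s_0_22 c) (nodeTab_s_22_45 c) (Nat.ble 22 c)
noncomputable def nodeTab_s_45_47 (c : Nat) : Nat := @Bool.rec (fun _ => Nat) (nodeTab_45) (nodeTab_46) (Nat.ble 46 c)
noncomputable def nodeTab_s_48_50 (c : Nat) : Nat := @Bool.rec (fun _ => Nat) (nodeTab_48) (nodeTab_49) (Nat.ble 49 c)
noncomputable def nodeTab_s_47_50 (c : Nat) : Nat := @Bool.rec (fun _ => Nat) (nodeTab_47) (nodeTab_s_48_50 c) (Nat.ble 48 c)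
noncomputable def nodeTab_s_45_50 (c : Nat) : Nat := @Bool.rec (fun _ => Nat) (nodeTab_s_45_47 c) (nodeTab_s_47_50 c) (Nat.ble 47 c)
noncomputable def nodeTab_s_51_53 (c : Nat) : Nat := @Bool.rec (fun _ => Nat) (nodeTab_51) (nodeTab_52) (Nat.ble 52 c)
noncomputable def nodeTab_s_50_53 (c : Nat) : Nat := @Bool.rec (fun _ => Nat) (nodeTab_50) (nodeTab_s_51_53 c) (Nat.ble 51 c)
noncomputable def nodeTab_s_54_56 (c : Nat) : Nat := @Bool.rec (fun _ => Nat) (nodeTab_54) (nodeTab_55) (Nat.ble 55 c)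
noncomputable def nodeTab_s_53_56 (c : Nat) : Nat := @Bool.rec (fun _ => Nat) (nodeTab_53) (nodeTab_s_54_56 c) (Nat.ble 54 c)
noncomputable def nodeTab_s_50_56 (c : Nat) : Nat := @Bool.rec (fun _ => Nat) (nodeTab_s_50_53 c) (nodeTab_s_53_56 c) (Nat.ble 53 c)
noncomputable def nodeTab_s_45_56 (c : Nat) : Nat := @Bool.rec (fun _ => Nat) (nodeTab_s_45_50 c) (nodeTab_s_50_56 c) (Nat.ble 50 c)
noncomputable def nodeTab_s_56_58 (c : Nat) : Nat := @Bool.rec (fun _ => Nat) (nodeTab_56) (nodeTab_57) (Nat.ble 57 c)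
noncomputable def nodeTab_s_59_61 (c : Nat) : Nat := @Bool.rec (fun _ => Nat) (nodeTab_59) (nodeTab_60) (Nat.ble 60 c)
noncomputable def nodeTab_s_58_61 (c : Nat) : Nat := @Bool.rec (fun _ => Nat) (nodeTab_58) (nodeTab_s_59_61 c) (Nat.ble 59 c)
noncomputable def nodeTab_s_56_61 (c : Nat) : Nat := @Bool.rec (fun _ => Nat) (nodeTab_s_56_58 c) (nodeTab_s_58_61 c) (Nat.ble 58 c)
noncomputable def nodeTab_s_62_64 (c : Nat) : Nat := @Bool.rec (fun _ => Nat) (nodeTab_62) (nodeTab_63) (Nat.ble 63 c)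
noncomputable def nodeTab_s_61_64 (c : Nat) : Nat := @Bool.rec (fun _ => Nat) (nodeTab_61) (nodeTab_s_62_64 c) (Nat.ble 62 c)
noncomputable def nodeTab_s_65_67 (c : Nat) : Nat := @Bool.rec (fun _ => Nat) (nodeTab_65) (nodeTab_66) (Nat.ble 66 c)
noncomputable def nodeTab_s_64_67 (c : Nat) : Nat := @Bool.rec (fun _ => Nat) (nodeTab_64) (nodeTab_s_65_67 c) (Nat.ble 65 c)
noncomputable def nodeTab_s_61_67 (c : Nat) : Nat := @Bool.rec (fun _ => Nat) (nodeTab_s_61_64 c) (nodeTab_s_64_67 c) (Nat.ble 64 c)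
noncomputable def nodeTab_s_56_67 (c : Nat) : Nat := @Bool.rec (fun _ => Nat) (nodeTab_s_56_61 c) (nodeTab_s_61_67 c) (Nat.ble 61 c)
noncomputable def nodeTab_s_45_67 (c : Nat) : Nat := @Bool.rec (fun _ => Nat) (nodeTab_s_45_56 c) (nodeTab_s_56_67 c) (Nat.ble 56 c)
noncomputable def nodeTab_s_67_69 (c : Nat) : Nat := @Bool.rec (fun _ => Nat) (nodeTab_67) (nodeTab_68) (Nat.ble 68 c)
noncomputable def nodeTab_s_70_72 (c : Nat) : Nat := @Bool.rec (fun _ => Nat) (nodeTab_70) (nodeTab_71) (Nat.ble 71 c)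
noncomputable def nodeTab_s_69_72 (c : Nat) : Nat := @Bool.rec (fun _ => Nat) (nodeTab_69) (nodeTab_s_70_72 c) (Nat.ble 70 c)
noncomputable def nodeTab_s_67_72 (c : Nat) : Nat := @Bool.rec (fun _ => Nat) (nodeTab_s_67_69 c) (nodeTab_s_69_72 c) (Nat.ble 69 c)
noncomputable def nodeTab_s_73_75 (c : Nat) : Nat := @Bool.rec (fun _ => Nat) (nodeTab_73) (nodeTab_74) (Nat.ble 74 c)
noncomputable def nodeTab_s_72_75 (c : Nat) : Nat := @Bool.rec (fun _ => Nat) (nodeTab_72) (nodeTab_s_73_75 c) (Nat.ble 73 c)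
noncomputable def nodeTab_s_76_78 (c : Nat) : Nat := @Bool.rec (fun _ => Nat) (nodeTab_76) (nodeTab_77) (Nat.ble 77 c)
noncomputable def nodeTab_s_75_78 (c : Nat) : Nat := @Bool.rec (fun _ => Nat) (nodeTab_75) (nodeTab_s_76_78 c) (Nat.ble 76 c)
noncomputable def nodeTab_s_72_78 (c : Nat) : Nat := @Bool.rec (fun _ => Nat) (nodeTab_s_72_75 c) (nodeTab_s_75_78 c) (Nat.ble 75 c)
noncomputable def nodeTab_s_67_78 (c : Nat) : Nat := @Bool.rec (fun _ => Nat) (nodeTab_s_67_72 c) (nodeTab_s_72_78 c) (Nat.ble 72 c)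
noncomputable def nodeTab_s_79_81 (c : Nat) : Nat := @Bool.rec (fun _ => Nat) (nodeTab_79) (nodeTab_80) (Nat.ble 80 c)
noncomputable def nodeTab_s_78_81 (c : Nat) : Nat := @Bool.rec (fun _ => Nat) (nodeTab_78) (nodeTab_s_79_81 c) (Nat.ble 79 c)
noncomputable def nodeTab_s_82_84 (c : Nat) : Nat := @Bool.rec (fun _ => Nat) (nodeTab_82) (nodeTab_83) (Nat.ble 83 c)
noncomputable def nodeTab_s_81_84 (c : Nat) : Nat := @Bool.rec (fun _ => Nat) (nodeTab_81) (nodeTab_s_82_84 c) (Nat.ble 82 c)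
noncomputable def nodeTab_s_78_84 (c : Nat) : Nat := @Bool.rec (fun _ => Nat) (nodeTab_s_78_81 c) (nodeTab_s_81_84 c) (Nat.ble 81 c)
noncomputable def nodeTab_s_85_87 (c : Nat) : Nat := @Bool.rec (fun _ => Nat) (nodeTab_85) (nodeTab_86) (Nat.ble 86 c)
noncomputable def nodeTab_s_84_87 (c : Nat) : Nat := @Bool.rec (fun _ => Nat) (nodeTab_84) (nodeTab_s_85_87 c) (Nat.ble 85 c)
noncomputable def nodeTab_s_88_90 (c : Nat) : Nat := @Bool.rec (fun _ => Nat) (nodeTab_88) (nodeTab_89) (Nat.ble 89 c)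
noncomputable def nodeTab_s_87_90 (c : Nat) : Nat := @Bool.rec (fun _ => Nat) (nodeTab_87) (nodeTab_s_88_90 c) (Nat.ble 88 c)
noncomputable def nodeTab_s_84_90 (c : Nat) : Nat := @Bool.rec (fun _ => Nat) (nodeTab_s_84_87 c) (nodeTab_s_87_90 c) (Nat.ble 87 c)
noncomputable def nodeTab_s_78_90 (c : Nat) : Nat := @Bool.rec (fun _ => Nat) (nodeTab_s_78_84 c) (nodeTab_s_84_90 c) (Nat.ble 84 c)
noncomputable def nodeTab_s_67_90 (c : Nat) : Nat := @Bool.rec (fun _ => Nat) (nodeTab_s_67_78 c) (nodeTab_s_78_90 c) (Nat.ble 78 c)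
noncomputable def nodeTab_s_45_90 (c : Nat) : Nat := @Bool.rec (fun _ => Nat) (nodeTab_s_45_67 c) (nodeTab_s_67_90 c) (Nat.ble 67 c)
noncomputable def nodeTab_s_0_90 (c : Nat) : Nat := @Bool.rec (fun _ => Nat) (nodeTab_s_0_45 c) (nodeTab_s_45_90 c) (Nat.ble 45 c)
noncomputable def nodeTab_s_90_92 (c : Nat) : Nat := @Bool.rec (fun _ => Nat) (nodeTab_90) (nodeTab_91) (Nat.ble 91 c)
noncomputable def nodeTab_s_93_95 (c : Nat) : Nat := @Bool.rec (fun _ => Nat) (nodeTab_93) (nodeTab_94) (Nat.ble 94 c)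
noncomputable def nodeTab_s_92_95 (c : Nat) : Nat := @Bool.rec (fun _ => Nat) (nodeTab_92) (nodeTab_s_93_95 c) (Nat.ble 93 c)
noncomputable def nodeTab_s_90_95 (c : Nat) : Nat := @Bool.rec (fun _ => Nat) (nodeTab_s_90_92 c) (nodeTab_s_92_95 c) (Nat.ble 92 c)
noncomputable def nodeTab_s_96_98 (c : Nat) : Nat := @Bool.rec (fun _ => Nat) (nodeTab_96) (nodeTab_97) (Nat.ble 97 c)
noncomputable def nodeTab_s_95_98 (c : Nat) : Nat := @Bool.rec (fun _ => Nat) (nodeTab_95) (nodeTab_s_96_98 c) (Nat.ble 96 c)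
noncomputable def nodeTab_s_99_101 (c : Nat) : Nat := @Bool.rec (fun _ => Nat) (nodeTab_99) (nodeTab_100) (Nat.ble 100 c)
noncomputable def nodeTab_s_98_101 (c : Nat) : Nat := @Bool.rec (fun _ => Nat) (nodeTab_98) (nodeTab_s_99_101 c) (Nat.ble 99 c)
noncomputable def nodeTab_s_95_101 (c : Nat) : Nat := @Bool.rec (fun _ => Nat) (nodeTab_s_95_98 c) (nodeTab_s_98_101 c) (Nat.ble 98 c)
noncomputable def nodeTab_s_90_101 (c : Nat) : Nat := @Bool.rec (fun _ => Nat) (nodeTab_s_90_95 c) (nodeTab_s_95_101 c) (Nat.ble 95 c)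
noncomputable def nodeTab_s_101_103 (c : Nat) : Nat := @Bool.rec (fun _ => Nat) (nodeTab_101) (nodeTab_102) (Nat.ble 102 c)
noncomputable def nodeTab_s_104_106 (c : Nat) : Nat := @Bool.rec (fun _ => Nat) (nodeTab_104) (nodeTab_105) (Nat.ble 105 c)
noncomputable def nodeTab_s_103_106 (c : Nat) : Nat := @Bool.rec (fun _ => Nat) (nodeTab_103) (nodeTab_s_104_106 c) (Nat.ble 104 c)
noncomputable def nodeTab_s_101_106 (c : Nat) : Nat := @Bool.rec (fun _ => Nat) (nodeTab_s_101_103 c) (nodeTab_s_103_106 c) (Nat.ble 103 c)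
noncomputable def nodeTab_s_107_109 (c : Nat) : Nat := @Bool.rec (fun _ => Nat) (nodeTab_107) (nodeTab_108) (Nat.ble 108 c)
noncomputable def nodeTab_s_106_109 (c : Nat) : Nat := @Bool.rec (fun _ => Nat) (nodeTab_106) (nodeTab_s_107_109 c) (Nat.ble 107 c)
noncomputable def nodeTab_s_110_112 (c : Nat) : Nat := @Bool.rec (fun _ => Nat) (nodeTab_110) (nodeTab_111) (Nat.ble 111 c)
noncomputable def nodeTab_s_109_112 (c : Nat) : Nat := @Bool.rec (fun _ => Nat) (nodeTab_109) (nodeTab_s_110_112 c) (Nat.ble 110 c)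
noncomputable def nodeTab_s_106_112 (c : Nat) : Nat := @Bool.rec (fun _ => Nat) (nodeTab_s_106_109 c) (nodeTab_s_109_112 c) (Nat.ble 109 c)
noncomputable def nodeTab_s_101_112 (c : Nat) : Nat := @Bool.rec (fun _ => Nat) (nodeTab_s_101_106 c) (nodeTab_s_106_112 c) (Nat.ble 106 c)
noncomputable def nodeTab_s_90_112 (c : Nat) : Nat := @Bool.rec (fun _ => Nat) (nodeTab_s_90_101 c) (nodeTab_s_101_112 c) (Nat.ble 101 c)
noncomputable def nodeTab_s_112_114 (c : Nat) : Nat := @Bool.rec (fun _ => Nat) (nodeTab_112) (nodeTab_113) (Nat.ble 113 c)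
noncomputable def nodeTab_s_115_117 (c : Nat) : Nat := @Bool.rec (fun _ => Nat) (nodeTab_115) (nodeTab_116) (Nat.ble 116 c)
noncomputable def nodeTab_s_114_117 (c : Nat) : Nat := @Bool.rec (fun _ => Nat) (nodeTab_114) (nodeTab_s_115_117 c) (Nat.ble 115 c)
noncomputable def nodeTab_s_112_117 (c : Nat) : Nat := @Bool.rec (fun _ => Nat) (nodeTab_s_112_114 c) (nodeTab_s_114_117 c) (Nat.ble 114 c)
noncomputable def nodeTab_s_118_120 (c : Nat) : Nat := @Bool.rec (fun _ => Nat) (nodeTab_118) (nodeTab_119) (Nat.ble 119 c)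
noncomputable def nodeTab_s_117_120 (c : Nat) : Nat := @Bool.rec (fun _ => Nat) (nodeTab_117) (nodeTab_s_118_120 c) (Nat.ble 118 c)
noncomputable def nodeTab_s_121_123 (c : Nat) : Nat := @Bool.rec (fun _ => Nat) (nodeTab_121) (nodeTab_122) (Nat.ble 122 c)
noncomputable def nodeTab_s_120_123 (c : Nat) : Nat := @Bool.rec (fun _ => Nat) (nodeTab_120) (nodeTab_s_121_123 c) (Nat.ble 121 c)
noncomputable def nodeTab_s_117_123 (c : Nat) : Nat := @Bool.rec (fun _ => Nat) (nodeTab_s_117_120 c) (nodeTab_s_120_123 c) (Nat.ble 120 c)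
noncomputable def nodeTab_s_112_123 (c : Nat) : Nat := @Bool.rec (fun _ => Nat) (nodeTab_s_112_117 c) (nodeTab_s_117_123 c) (Nat.ble 117 c)
noncomputable def nodeTab_s_124_126 (c : Nat) : Nat := @Bool.rec (fun _ => Nat) (nodeTab_124) (nodeTab_125) (Nat.ble 125 c)
noncomputable def nodeTab_s_123_126 (c : Nat) : Nat := @Bool.rec (fun _ => Nat) (nodeTab_123) (nodeTab_s_124_126 c) (Nat.ble 124 c)
noncomputable def nodeTab_s_127_129 (c : Nat) : Nat := @Bool.rec (fun _ => Nat) (nodeTab_127) (nodeTab_128) (Nat.ble 128 c)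
noncomputable def nodeTab_s_126_129 (c : Nat) : Nat := @Bool.rec (fun _ => Nat) (nodeTab_126) (nodeTab_s_127_129 c) (Nat.ble 127 c)
noncomputable def nodeTab_s_123_129 (c : Nat) : Nat := @Bool.rec (fun _ => Nat) (nodeTab_s_123_126 c) (nodeTab_s_126_129 c) (Nat.ble 126 c)
noncomputable def nodeTab_s_130_132 (c : Nat) : Nat := @Bool.rec (fun _ => Nat) (nodeTab_130) (nodeTab_131) (Nat.ble 131 c)
noncomputable def nodeTab_s_129_132 (c : Nat) : Nat := @Bool.rec (fun _ => Nat) (nodeTab_129) (nodeTab_s_130_132 c) (Nat.ble 130 c)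
noncomputable def nodeTab_s_133_135 (c : Nat) : Nat := @Bool.rec (fun _ => Nat) (nodeTab_133) (nodeTab_134) (Nat.ble 134 c)
noncomputable def nodeTab_s_132_135 (c : Nat) : Nat := @Bool.rec (fun _ => Nat) (nodeTab_132) (nodeTab_s_133_135 c) (Nat.ble 133 c)
noncomputable def nodeTab_s_129_135 (c : Nat) : Nat := @Bool.rec (fun _ => Nat) (nodeTab_s_129_132 c) (nodeTab_s_132_135 c) (Nat.ble 132 c)
noncomputable def nodeTab_s_123_135 (c : Nat) : Nat := @Bool.rec (fun _ => Nat) (nodeTab_s_123_129 c) (nodeTab_s_129_135 c) (Nat.ble 129 c)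
noncomputable def nodeTab_s_112_135 (c : Nat) : Nat := @Bool.rec (fun _ => Nat) (nodeTab_s_112_123 c) (nodeTab_s_123_135 c) (Nat.ble 123 c)
noncomputable def nodeTab_s_90_135 (c : Nat) : Nat := @Bool.rec (fun _ => Nat) (nodeTab_s_90_112 c) (nodeTab_s_112_135 c) (Nat.ble 112 c)
noncomputable def nodeTab_s_135_137 (c : Nat) : Nat := @Bool.rec (fun _ => Nat) (nodeTab_135) (nodeTab_136) (Nat.ble 136 c)
noncomputable def nodeTab_s_138_140 (c : Nat) : Nat := @Bool.rec (fun _ => Nat) (nodeTab_138) (nodeTab_139) (Nat.ble 139 c)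
noncomputable def nodeTab_s_137_140 (c : Nat) : Nat := @Bool.rec (fun _ => Nat) (nodeTab_137) (nodeTab_s_138_140 c) (Nat.ble 138 c)
noncomputable def nodeTab_s_135_140 (c : Nat) : Nat := @Bool.rec (fun _ => Nat) (nodeTab_s_135_137 c) (nodeTab_s_137_140 c) (Nat.ble 137 c)
noncomputable def nodeTab_s_141_143 (c : Nat) : Nat := @Bool.rec (fun _ => Nat) (nodeTab_141) (nodeTab_142) (Nat.ble 142 c)
noncomputable def nodeTab_s_140_143 (c : Nat) : Nat := @Bool.rec (fun _ => Nat) (nodeTab_140) (nodeTab_s_141_143 c) (Nat.ble 141 c)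
noncomputable def nodeTab_s_144_146 (c : Nat) : Nat := @Bool.rec (fun _ => Nat) (nodeTab_144) (nodeTab_145) (Nat.ble 145 c)
noncomputable def nodeTab_s_143_146 (c : Nat) : Nat := @Bool.rec (fun _ => Nat) (nodeTab_143) (nodeTab_s_144_146 c) (Nat.ble 144 c)
noncomputable def nodeTab_s_140_146 (c : Nat) : Nat := @Bool.rec (fun _ => Nat) (nodeTab_s_140_143 c) (nodeTab_s_143_146 c) (Nat.ble 143 c)
noncomputable def nodeTab_s_135_146 (c : Nat) : Nat := @Bool.rec (fun _ => Nat) (nodeTab_s_135_140 c) (nodeTab_s_140_146 c) (Nat.ble 140 c)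
noncomputable def nodeTab_s_146_148 (c : Nat) : Nat := @Bool.rec (fun _ => Nat) (nodeTab_146) (nodeTab_147) (Nat.ble 147 c)
noncomputable def nodeTab_s_149_151 (c : Nat) : Nat := @Bool.rec (fun _ => Nat) (nodeTab_149) (nodeTab_150) (Nat.ble 150 c)
noncomputable def nodeTab_s_148_151 (c : Nat) : Nat := @Bool.rec (fun _ => Nat) (nodeTab_148) (nodeTab_s_149_151 c) (Nat.ble 149 c)
noncomputable def nodeTab_s_146_151 (c : Nat) : Nat := @Bool.rec (fun _ => Nat) (nodeTab_s_146_148 c) (nodeTab_s_148_151 c) (Nat.ble 148 c)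
noncomputable def nodeTab_s_152_154 (c : Nat) : Nat := @Bool.rec (fun _ => Nat) (nodeTab_152) (nodeTab_153) (Nat.ble 153 c)
noncomputable def nodeTab_s_151_154 (c : Nat) : Nat := @Bool.rec (fun _ => Nat) (nodeTab_151) (nodeTab_s_152_154 c) (Nat.ble 152 c)
noncomputable def nodeTab_s_155_157 (c : Nat) : Nat := @Bool.rec (fun _ => Nat) (nodeTab_155) (nodeTab_156) (Nat.ble 156 c)
noncomputable def nodeTab_s_154_157 (c : Nat) : Nat := @Bool.rec (fun _ => Nat) (nodeTab_154) (nodeTab_s_155_157 c) (Nat.ble 155 c)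
noncomputable def nodeTab_s_151_157 (c : Nat) : Nat := @Bool.rec (fun _ => Nat) (nodeTab_s_151_154 c) (nodeTab_s_154_157 c) (Nat.ble 154 c)
noncomputable def nodeTab_s_146_157 (c : Nat) : Nat := @Bool.rec (fun _ => Nat) (nodeTab_s_146_151 c) (nodeTab_s_151_157 c) (Nat.ble 151 c)
noncomputable def nodeTab_s_135_157 (c : Nat) : Nat := @Bool.rec (fun _ => Nat) (nodeTab_s_135_146 c) (nodeTab_s_146_157 c) (Nat.ble 146 c)
noncomputable def nodeTab_s_157_159 (c : Nat) : Nat := @Bool.rec (fun _ => Nat) (nodeTab_157) (nodeTab_158) (Nat.ble 158 c)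
noncomputable def nodeTab_s_160_162 (c : Nat) : Nat := @Bool.rec (fun _ => Nat) (nodeTab_160) (nodeTab_161) (Nat.ble 161 c)
noncomputable def nodeTab_s_159_162 (c : Nat) : Nat := @Bool.rec (fun _ => Nat) (nodeTab_159) (nodeTab_s_160_162 c) (Nat.ble 160 c)
noncomputable def nodeTab_s_157_162 (c : Nat) : Nat := @Bool.rec (fun _ => Nat) (nodeTab_s_157_159 c) (nodeTab_s_159_162 c) (Nat.ble 159 c)
noncomputable def nodeTab_s_163_165 (c : Nat) : Nat := @Bool.rec (fun _ => Nat) (nodeTab_163) (nodeTab_164) (Nat.ble 164 c)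
noncomputable def nodeTab_s_162_165 (c : Nat) : Nat := @Bool.rec (fun _ => Nat) (nodeTab_162) (nodeTab_s_163_165 c) (Nat.ble 163 c)
noncomputable def nodeTab_s_166_168 (c : Nat) : Nat := @Bool.rec (fun _ => Nat) (nodeTab_166) (nodeTab_167) (Nat.ble 167 c)
noncomputable def nodeTab_s_165_168 (c : Nat) : Nat := @Bool.rec (fun _ => Nat) (nodeTab_165) (nodeTab_s_166_168 c) (Nat.ble 166 c)
noncomputable def nodeTab_s_162_168 (c : Nat) : Nat := @Bool.rec (fun _ => Nat) (nodeTab_s_162_165 c) (nodeTab_s_165_168 c) (Nat.ble 165 c)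
noncomputable def nodeTab_s_157_168 (c : Nat) : Nat := @Bool.rec (fun _ => Nat) (nodeTab_s_157_162 c) (nodeTab_s_162_168 c) (Nat.ble 162 c)
noncomputable def nodeTab_s_169_171 (c : Nat) : Nat := @Bool.rec (fun _ => Nat) (nodeTab_169) (nodeTab_170) (Nat.ble 170 c)
noncomputable def nodeTab_s_168_171 (c : Nat) : Nat := @Bool.rec (fun _ => Nat) (nodeTab_168) (nodeTab_s_169_171 c) (Nat.ble 169 c)
noncomputable def nodeTab_s_172_174 (c : Nat) : Nat := @Bool.rec (fun _ => Nat) (nodeTab_172) (nodeTab_173) (Nat.ble 173 c)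
noncomputable def nodeTab_s_171_174 (c : Nat) : Nat := @Bool.rec (fun _ => Nat) (nodeTab_171) (nodeTab_s_172_174 c) (Nat.ble 172 c)
noncomputable def nodeTab_s_168_174 (c : Nat) : Nat := @Bool.rec (fun _ => Nat) (nodeTab_s_168_171 c) (nodeTab_s_171_174 c) (Nat.ble 171 c)
noncomputable def nodeTab_s_175_177 (c : Nat) : Nat := @Bool.rec (fun _ => Nat) (nodeTab_175) (nodeTab_176) (Nat.ble 176 c)
noncomputable def nodeTab_s_174_177 (c : Nat) : Nat := @Bool.rec (fun _ => Nat) (nodeTab_174) (nodeTab_s_175_177 c) (Nat.ble 175 c)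
noncomputable def nodeTab_s_178_180 (c : Nat) : Nat := @Bool.rec (fun _ => Nat) (nodeTab_178) (nodeTab_179) (Nat.ble 179 c)
noncomputable def nodeTab_s_177_180 (c : Nat) : Nat := @Bool.rec (fun _ => Nat) (nodeTab_177) (nodeTab_s_178_180 c) (Nat.ble 178 c)
noncomputable def nodeTab_s_174_180 (c : Nat) : Nat := @Bool.rec (fun _ => Nat) (nodeTab_s_174_177 c) (nodeTab_s_177_180 c) (Nat.ble 177 c)
noncomputable def nodeTab_s_168_180 (c : Nat) : Nat := @Bool.rec (fun _ => Nat) (nodeTab_s_168_174 c) (nodeTab_s_174_180 c) (Nat.ble 174 c)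
noncomputable def nodeTab_s_157_180 (c : Nat) : Nat := @Bool.rec (fun _ => Nat) (nodeTab_s_157_168 c) (nodeTab_s_168_180 c) (Nat.ble 168 c)
noncomputable def nodeTab_s_135_180 (c : Nat) : Nat := @Bool.rec (fun _ => Nat) (nodeTab_s_135_157 c) (nodeTab_s_157_180 c) (Nat.ble 157 c)
noncomputable def nodeTab_s_90_180 (c : Nat) : Nat := @Bool.rec (fun _ => Nat) (nodeTab_s_90_135 c) (nodeTab_s_135_180 c) (Nat.ble 135 c)
noncomputable def nodeTab_s_0_180 (c : Nat) : Nat := @Bool.rec (fun _ => Nat) (nodeTab_s_0_90 c) (nodeTab_s_90_180 c) (Nat.ble 90 c)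
noncomputable def nodeTab (i : Nat) : Nat := rdw 47 140737488355327 (nodeTab_s_0_180 (Nat.shiftRight i 11)) (Nat.land i 2047)
noncomputable def offTab (i : Nat) : Nat := rdw 19 524287 offTab_0 i
noncomputable def nTab (i : Nat) : Nat := rdw 19 524287 nTab_0 i
noncomputable def rootTab (i : Nat) : Nat := rdw 19 524287 rootTab_0 i
noncomputable def tabF (i p : Nat) : Nat := @Bool.rec (fun _ => Nat) (@Bool.rec (fun _ => Nat) (@Bool.rec (fun _ => Nat) (@Bool.rec (fun _ => Nat) (col0 p) (@Bool.rec (fun _ => Nat) (col1 p) (col2 p) (Nat.ble 2 i)) (Nat.ble 1 i)) (@Bool.rec (fun _ => Nat) (col3 p) (@Bool.rec (fun _ => Nat) (col4 p) (col5 p) (Nat.ble 5 i)) (Nat.ble 4 i)) (Nat.ble 3 i)) (@Bool.rec (fun _ => Nat) (@Bool.rec (fun _ => Nat) (col6 p) (@Bool.rec (fun _ => Nat) (col7 p) (col8 p) (Nat.ble 8 i)) (Nat.ble 7 i)) (@Bool.rec (fun _ => Nat) (col9 p) (@Bool.rec (fun _ => Nat) (col10 p) (col11 p) (Nat.ble 11 i)) (Nat.ble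 10 i)) (Nat.ble 9 i)) (Nat.ble 6 i)) (@Bool.rec (fun _ => Nat) (@Bool.rec (fun _ => Nat) (@Bool.rec (fun _ => Nat) (st12 p) (@Bool.rec (fun _ => Nat) (st13 p) (st14 p) (Nat.ble 14 i)) (Nat.ble 13 i)) (@Bool.rec (fun _ => Nat) (st15 p) (@Bool.rec (fun _ => Nat) (st16 p) (st17 p) (Nat.ble 17 i)) (Nat.ble 16 i)) (Nat.ble 15 i)) (@Bool.rec (fun _ => Nat) (@Bool.rec (fun _ => Nat) (st18 p) (@Bool.rec (fun _ => Nat) (st19 p) (st20 p) (Nat.ble 20 i)) (Nat.ble 19 i)) (@Bool.rec (fun _ => Nat) (st21 p) (@Bool.rec (fun _ => Nat) (st22 p) (st23 p) (Nat.ble 23 i)) (Nat.ble 22 i)) (Nat.ble 21 i)) (Nat.ble 18 i)) (Nat.ble 12 i)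
def wAF : Nat → List Nat
  | 12 => [8, 7, 5, 6, 0, 1, 2, 3, 4, 5, 10, 11, 4, 5, 6, 3, 4, 5, 10, 9, 8, 7, 6, 5, 4, 3, 2, 1, 4, 5, 3, 4, 2, 3]
  | 13 => [12, 5, 10, 9, 7, 8, 3, 12, 6, 12, 2, 3]
  | 14 => [10, 12, 7, 8, 12, 6, 5, 10, 9, 7, 8, 12, 6, 12, 3, 12, 5, 6, 12]
  | 15 => [14]
  | 16 => [5, 14, 12, 6, 15, 2, 3, 14, 6, 12, 15, 5, 14, 14, 11, 7, 15]
  | 17 => [7, 14, 12, 11, 14, 2, 3, 15, 11, 16, 12, 14, 14, 10, 11, 15, 4, 16, 11, 16, 8, 6, 16]
  | 18 => [8, 15, 6, 12, 17, 14, 14, 11, 6, 14, 6, 16, 11, 7, 6, 16, 17]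
  | 19 => [17, 11, 15, 9, 15, 4, 0, 7, 18, 16, 11, 8, 16, 18]
  | 20 => [14, 16, 3, 15, 15, 12, 1, 12, 14, 14, 3, 8, 15, 5, 15, 15, 7, 15, 10, 11, 16, 18, 8, 16, 2, 8, 18, 10]
  | 21 => []
  | 22 => [16, 2]
  | 23 => [7, 6]
  | _ => []
def wBF : Nat → List Nat
  | 12 => [4, 10, 8, 7, 3, 4, 5, 6, 2, 3, 4, 5, 10, 11, 5, 6, 3, 4, 5, 10, 9, 8, 7, 6, 5, 4, 3, 2, 0, 1]
  | 13 => [3, 12, 5, 10, 9, 7, 8, 3, 12, 6, 12, 2, 3]
  | 14 => [13, 2, 3, 12, 10, 7, 8, 6, 12, 10, 9, 8, 7, 6, 12, 3]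
  | 15 => []
  | 16 => [14, 14, 11, 7, 6, 15, 3]
  | 17 => [12, 14, 16, 14, 14, 4, 3]
  | 18 => [10, 8, 15, 6, 12]
  | 19 => [9, 15, 9, 15, 7, 15, 4]
  | 20 => [19, 12, 15, 17, 12, 15, 0, 1]
  | 21 => [6]
  | 22 => [7, 16, 2]
  | 23 => [9, 7, 6]
  | _ => []
noncomputable def ptF (j idx : Nat) : Nat := Nat.land (nodeTab (Nat.add (offTab j) idx)) 524287
noncomputable def parF (j idx : Nat) : Nat := Nat.land (Nat.shiftRight (nodeTab (Nat.add (offTab j) idx)) 19) 524287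
noncomputable def giF (j idx : Nat) : Nat := Nat.land (Nat.shiftRight (nodeTab (Nat.add (offTab j) idx)) 38) 31
noncomputable def depF (j idx : Nat) : Nat := Nat.shiftRight (nodeTab (Nat.add (offTab j) idx)) 43

noncomputable def S : Sgs :=
  { N := 306936, k := 12, m := 24, tab := tabF, wA := wAF, wB := wBF, lev := levTab, r := 12, beta := betaTab,
    n := nTab, root := rootTab, pt := ptF, par := parF, gi := giF, dep := depF }

noncomputable def chk12 (p : Nat) : Bool := band (Nat.ble (Nat.succ (st12 p)) 306936) (Nat.beq (col8 (col7 (col5 (col6 (col0 (col1 (col2 (col3 (col4 (col5 (col10 (col11 (col4 (col5 (col6 (col3 (col4 (col5 (col10 (col9 (col8 (col7 (col6 (col5 (col4 (col3 (col2 (col1 (col4 (col5 (col3 (col4 (col2 (col3 (st12 p))))))))))))))))))))))))))))))))))) (col4 (col10 (col8 (col7 (col3 (col4 (col5 (col6 (col2 (col3 (col4 (col5 (col10 (col11 (col5 (col6 (col3 (col4 (col5 (col10 (col9 (col8 (col7 (col6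 (col5 (col4 (col3 (col2 (col0 (col1 p)))))))))))))))))))))))))))))))
theorem chk12_eq (p : Nat) : chk12 p = Sgs.permOK S 12 p := rfl
noncomputable def chk13 (p : Nat) : Bool := band (Nat.ble (Nat.succ (st13 p)) 306936) (Nat.beq (st12 (col5 (col10 (col9 (col7 (col8 (col3 (st12 (col6 (st12 (col2 (col3 (st13 p))))))))))))) (col3 (st12 (col5 (col10 (col9 (col7 (col8 (col3 (st12 (col6 (st12 (col2 (col3 p))))))))))))))
theorem chk13_eq (p : Nat) : chk13 p = Sgs.permOK S 13 p := rfl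
noncomputable def chk14 (p : Nat) : Bool := band (Nat.ble (Nat.succ (st14 p)) 306936) (Nat.beq (col10 (st12 (col7 (col8 (st12 (col6 (col5 (col10 (col9 (col7 (col8 (st12 (col6 (st12 (col3 (st12 (col5 (col6 (st12 (st14 p)))))))))))))))))))) (st13 (col2 (col3 (st12 (col10 (col7 (col8 (col6 (st12 (col10 (col9 (col8 (col7 (col6 (st12 (col3 p)))))))))))))))))
theorem chk14_eq (p : Nat) : chk14 p = Sgs.permOK S 14 p := rfl
noncomputable def chk15 (p : Nat) : Bool := band (Nat.ble (Nat.succ (st15 p)) 306936) (Nat.beq (st14 (st15 p)) p)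
theorem chk15_eq (p : Nat) : chk15 p = Sgs.permOK S 15 p := rfl
noncomputable def chk16 (p : Nat) : Bool := band (Nat.ble (Nat.succ (st16 p)) 306936) (Nat.beq (col5 (st14 (st12 (col6 (st15 (col2 (col3 (st14 (col6 (st12 (st15 (col5 (st14 (st14 (col11 (col7 (st15 (st16 p)))))))))))))))))) (st14 (st14 (col11 (col7 (col6 (st15 (col3 p))))))))
theorem chk16_eq (p : Nat) : chk16 p = Sgs.permOK S 16 p := rfl
noncomputable def chk17 (p : Nat) : Bool := band (Nat.ble (Nat.succ (st17 p)) 306936) (Nat.beq (col7 (st14 (st12 (col11 (st14 (col2 (col3 (st15 (col11 (st16 (st12 (st14 (st14 (col10 (col11 (st15 (col4 (st16 (col11 (st16 (col8 (col6 (st16 (st17 p)))))))))))))))))))))))) (st12 (st14 (st16 (st14 (st14 (col4 (col3 p))))))))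
theorem chk17_eq (p : Nat) : chk17 p = Sgs.permOK S 17 p := rfl
noncomputable def chk18 (p : Nat) : Bool := band (Nat.ble (Nat.succ (st18 p)) 306936) (Nat.beq (col8 (st15 (col6 (st12 (st17 (st14 (st14 (col11 (col6 (st14 (col6 (st16 (col11 (col7 (col6 (st16 (st17 (st18 p)))))))))))))))))) (col10 (col8 (st15 (col6 (st12 p))))))
theorem chk18_eq (p : Nat) : chk18 p = Sgs.permOK S 18 p := rfl
noncomputable def chk19 (p : Nat) : Bool := band (Nat.ble (Nat.succ (st19 p)) 306936) (Nat.beq (st17 (col11 (st15 (col9 (st15 (col4 (col0 (col7 (st18 (st16 (col11 (col8 (st16 (st18 (st19 p))))))))))))))) (col9 (st15 (col9 (st15 (col7 (st15 (col4 p))))))))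
theorem chk19_eq (p : Nat) : chk19 p = Sgs.permOK S 19 p := rfl
noncomputable def chk20 (p : Nat) : Bool := band (Nat.ble (Nat.succ (st20 p)) 306936) (Nat.beq (st14 (st16 (col3 (st15 (st15 (st12 (col1 (st12 (st14 (st14 (col3 (col8 (st15 (col5 (st15 (st15 (col7 (st15 (col10 (col11 (st16 (st18 (col8 (st16 (col2 (col8 (st18 (col10 (st20 p))))))))))))))))))))))))))))) (st19 (st12 (st15 (st17 (st12 (st15 (col0 (col1 p)))))))))
theorem chk20_eq (p : Nat) : chk20 p = Sgs.permOK S 20 p := rfl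
noncomputable def chk21 (p : Nat) : Bool := band (Nat.ble (Nat.succ (st21 p)) 306936) (Nat.beq (st21 p) (col6 p))
theorem chk21_eq (p : Nat) : chk21 p = Sgs.permOK S 21 p := rfl
noncomputable def chk22 (p : Nat) : Bool := band (Nat.ble (Nat.succ (st22 p)) 306936) (Nat.beq (st16 (col2 (st22 p))) (col7 (st16 (col2 p))))
theorem chk22_eq (p : Nat) : chk22 p = Sgs.permOK S 22 p := rfl
noncomputable def chk23 (p : Nat) : Bool := band (Nat.ble (Nat.succ (st23 p)) 306936) (Nat.beq (col7 (col6 (st23 p))) (col9 (col7 (col6 p))))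
theorem chk23_eq (p : Nat) : chk23 p = Sgs.permOK S 23 p := rfl

end Cfsg.Agent.Lib.Helper4.TCD.Fi24L
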