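import Cfsg.Agent.Lib.Helper4.TCD_Fi24L_Acc

namespace Cfsg.Agent.Lib.Helper4.TCD.Fi24L

open Cfsg.Agent.Lib.Helper4.TC Cfsg.Agent.Lib.Helper4.TCD.Fi24a

set_option maxRecDepth 100000
set_option Elab.async false

theorem c_words : allRange S.wordsOK 12 12 = true := by decide +kernel
theorem c_fix : allGrid S.fixOK 0 24 12 = true := by decide +kernel
theorem c_root : allBelow (fun j => Nat.ble (Nat.succ (S.root j)) (S.n j)) 12 = true := by decide +kernel
theorem c_n0 : S.n 0 = 306936 := by decide +kernel
theorem c_n1 : S.n 1 = 31671 := by decide +kernel
theorem c_n2 : S.n 2 = 3510 := by decide +kernel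
theorem c_n3 : S.n 3 = 25344 := by decide +kernel
theorem c_n4 : S.n 4 = 672 := by decide +kernel
theorem c_n5 : S.n 5 = 20 := by decide +kernel
theorem c_n6 : S.n 6 = 3 := by decide +kernel
theorem c_n7 : S.n 7 = 3 := by decide +kernel
theorem c_n8 : S.n 8 = 2 := by decide +kernel
theorem c_n9 : S.n 9 = 3 := by decide +kernel
theorem c_n10 : S.n 10 = 2 := by decide +kernel
theorem c_n11 : S.n 11 = 2 := by decide +kernel
theorem c_p12_0 : allRange chk12 0 895 = true := by decide +kernel
theorem c_p12_1 : allRange chk12 895 895 = true := by decide +kernel
theorem c_p12_2 : allRange chk12 1790 895 = true := by decide +kernel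
theorem c_p12_3 : allRange chk12 2685 895 = true := by decide +kernel
theorem c_p12_4 : allRange chk12 3580 895 = true := by decide +kernel
theorem c_p12_5 : allRange chk12 4475 895 = true := by decide +kernel
theorem c_p12_6 : allRange chk12 5370 895 = true := by decide +kernel
theorem c_p12_7 : allRange chk12 6265 895 = true := by decide +kernel
theorem c_p12_8 : allRange chk12 7160 895 = true := by decide +kernel
theorem c_p12_9 : allRange chk12 8055 895 = true := by decide +kernel
theorem c_p12_10 : allRange chk12 8950 895 = true := by decide +kernel
theorem c_p12_11 : allRange chk12 9845 895 = true := by decide +kernel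
theorem c_p12_12 : allRange chk12 10740 895 = true := by decide +kernel
theorem c_p12_13 : allRange chk12 11635 895 = true := by decide +kernel
theorem c_p12_14 : allRange chk12 12530 895 = true := by decide +kernel
theorem c_p12_15 : allRange chk12 13425 895 = true := by decide +kernel
theorem c_p12_16 : allRange chk12 14320 895 = true := by decide +kernel
theorem c_p12_17 : allRange chk12 15215 895 = true := by decide +kernel
theorem c_p12_18 : allRange chk12 16110 895 = true := by decide +kernel
theorem c_p12_19 : allRange chk12 17005 895 = true := by decide +kernel
theorem c_p12_20 : allRange chk12 17900 895 = true := by decide +kernel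
theorem c_p12_21 : allRange chk12 18795 895 = true := by decide +kernel
theorem c_p12_22 : allRange chk12 19690 895 = true := by decide +kernel
theorem c_p12_23 : allRange chk12 20585 895 = true := by decide +kernel
theorem c_p12_24 : allRange chk12 21480 895 = true := by decide +kernel
theorem c_p12_25 : allRange chk12 22375 895 = true := by decide +kernel
theorem c_p12_26 : allRange chk12 23270 895 = true := by decide +kernel
theorem c_p12_27 : allRange chk12 24165 895 = true := by decide +kernel
theorem c_p12_28 : allRange chk12 25060 895 = true := by decide +kernel
theorem c_p12_29 : allRange chk12 25955 895 = true := by decide +kernel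
theorem c_p12_30 : allRange chk12 26850 895 = true := by decide +kernel
theorem c_p12_31 : allRange chk12 27745 895 = true := by decide +kernel
theorem c_p12_32 : allRange chk12 28640 895 = true := by decide +kernel
theorem c_p12_33 : allRange chk12 29535 895 = true := by decide +kernel
theorem c_p12_34 : allRange chk12 30430 895 = true := by decide +kernel
theorem c_p12_35 : allRange chk12 31325 895 = true := by decide +kernel
theorem c_p12_36 : allRange chk12 32220 895 = true := by decide +kernel
theorem c_p12_37 : allRange chk12 33115 895 = true := by decide +kernel
theorem c_p12_38 : allRange chk12 34010 895 = true := by decide +kernel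
theorem c_p12_39 : allRange chk12 34905 895 = true := by decide +kernel
theorem c_p12_40 : allRange chk12 35800 895 = true := by decide +kernel
theorem c_p12_41 : allRange chk12 36695 895 = true := by decide +kernel
theorem c_p12_42 : allRange chk12 37590 895 = true := by decide +kernel
theorem c_p12_43 : allRange chk12 38485 895 = true := by decide +kernel
theorem c_p12_44 : allRange chk12 39380 895 = true := by decide +kernel
theorem c_p12_45 : allRange chk12 40275 895 = true := by decide +kernel
theorem c_p12_46 : allRange chk12 41170 895 = true := by decide +kernel
theorem c_p12_47 : allRange chk12 42065 895 = true := by decide +kernel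
theorem c_p12_48 : allRange chk12 42960 895 = true := by decide +kernel
theorem c_p12_49 : allRange chk12 43855 895 = true := by decide +kernel

end Cfsg.Agent.Lib.Helper4.TCD.Fi24L
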