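import Cfsg.Agent.Lib.Helper4.TCD_Fi24L_Acc

namespace Cfsg.Agent.Lib.Helper4.TCD.Fi24L

open Cfsg.Agent.Lib.Helper4.TC Cfsg.Agent.Lib.Helper4.TCD.Fi24a

set_option maxRecDepth 100000
set_option Elab.async false

theorem c_p14_163 : allRange chk14 257214 1578 = true := by decide +kernel
theorem c_p14_164 : allRange chk14 258792 1578 = true := by decide +kernel
theorem c_p14_165 : allRange chk14 260370 1578 = true := by decide +kernel
theorem c_p14_166 : allRange chk14 261948 1578 = true := by decide +kernel
theorem c_p14_167 : allRange chk14 263526 1578 = true := by decide +kernel
theorem c_p14_168 : allRange chk14 265104 1578 = true := by decide +kernel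
theorem c_p14_169 : allRange chk14 266682 1578 = true := by decide +kernel
theorem c_p14_170 : allRange chk14 268260 1578 = true := by decide +kernel
theorem c_p14_171 : allRange chk14 269838 1578 = true := by decide +kernel
theorem c_p14_172 : allRange chk14 271416 1578 = true := by decide +kernel
theorem c_p14_173 : allRange chk14 272994 1578 = true := by decide +kernel
theorem c_p14_174 : allRange chk14 274572 1578 = true := by decide +kernel
theorem c_p14_175 : allRange chk14 276150 1578 = true := by decide +kernel
theorem c_p14_176 : allRange chk14 277728 1578 = true := by decide +kernel
theorem c_p14_177 : allRange chk14 279306 1578 = true := by decide +kernel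
theorem c_p14_178 : allRange chk14 280884 1578 = true := by decide +kernel
theorem c_p14_179 : allRange chk14 282462 1578 = true := by decide +kernel
theorem c_p14_180 : allRange chk14 284040 1578 = true := by decide +kernel
theorem c_p14_181 : allRange chk14 285618 1578 = true := by decide +kernel
theorem c_p14_182 : allRange chk14 287196 1578 = true := by decide +kernel
theorem c_p14_183 : allRange chk14 288774 1578 = true := by decide +kernel
theorem c_p14_184 : allRange chk14 290352 1578 = true := by decide +kernel
theorem c_p14_185 : allRange chk14 291930 1578 = true := by decide +kernel
theorem c_p14_186 : allRange chk14 293508 1578 = true := by decide +kernel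
theorem c_p14_187 : allRange chk14 295086 1578 = true := by decide +kernel
theorem c_p14_188 : allRange chk14 296664 1578 = true := by decide +kernel
theorem c_p14_189 : allRange chk14 298242 1578 = true := by decide +kernel
theorem c_p14_190 : allRange chk14 299820 1578 = true := by decide +kernel
theorem c_p14_191 : allRange chk14 301398 1578 = true := by decide +kernel
theorem c_p14_192 : allRange chk14 302976 1578 = true := by decide +kernel
theorem c_p14_193 : allRange chk14 304554 1578 = true := by decide +kernel
theorem c_p14_194 : allRange chk14 306132 804 = true := by decide +kernel
theorem c_p15_0 : allRange chk15 0 15000 = true := by decide +kernel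
theorem c_p15_1 : allRange chk15 15000 15000 = true := by decide +kernel
theorem c_p15_2 : allRange chk15 30000 15000 = true := by decide +kernel
theorem c_p15_3 : allRange chk15 45000 15000 = true := by decide +kernel
theorem c_p15_4 : allRange chk15 60000 15000 = true := by decide +kernel
theorem c_p15_5 : allRange chk15 75000 15000 = true := by decide +kernel
theorem c_p15_6 : allRange chk15 90000 15000 = true := by decide +kernel
theorem c_p15_7 : allRange chk15 105000 15000 = true := by decide +kernel
theorem c_p15_8 : allRange chk15 120000 15000 = true := by decide +kernel
theorem c_p15_9 : allRange chk15 135000 15000 = true := by decide +kernel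
theorem c_p15_10 : allRange chk15 150000 15000 = true := by decide +kernel
theorem c_p15_11 : allRange chk15 165000 15000 = true := by decide +kernel
theorem c_p15_12 : allRange chk15 180000 15000 = true := by decide +kernel
theorem c_p15_13 : allRange chk15 195000 15000 = true := by decide +kernel
theorem c_p15_14 : allRange chk15 210000 15000 = true := by decide +kernel
theorem c_p15_15 : allRange chk15 225000 15000 = true := by decide +kernel
theorem c_p15_16 : allRange chk15 240000 15000 = true := by decide +kernel
theorem c_p15_17 : allRange chk15 255000 15000 = true := by decide +kernel

end Cfsg.Agent.Lib.Helper4.TCD.Fi24L
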