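import Cfsg.Agent.Lib.Helper4.TCD_Fi24L_Acc

namespace Cfsg.Agent.Lib.Helper4.TCD.Fi24L

open Cfsg.Agent.Lib.Helper4.TC Cfsg.Agent.Lib.Helper4.TCD.Fi24a

set_option maxRecDepth 100000
set_option Elab.async false

theorem c_p20_88 : allRange chk20 135344 1538 = true := by decide +kernel
theorem c_p20_89 : allRange chk20 136882 1538 = true := by decide +kernel
theorem c_p20_90 : allRange chk20 138420 1538 = true := by decide +kernel
theorem c_p20_91 : allRange chk20 139958 1538 = true := by decide +kernel
theorem c_p20_92 : allRange chk20 141496 1538 = true := by decide +kernel
theorem c_p20_93 : allRange chk20 143034 1538 = true := by decide +kernel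
theorem c_p20_94 : allRange chk20 144572 1538 = true := by decide +kernel
theorem c_p20_95 : allRange chk20 146110 1538 = true := by decide +kernel
theorem c_p20_96 : allRange chk20 147648 1538 = true := by decide +kernel
theorem c_p20_97 : allRange chk20 149186 1538 = true := by decide +kernel
theorem c_p20_98 : allRange chk20 150724 1538 = true := by decide +kernel
theorem c_p20_99 : allRange chk20 152262 1538 = true := by decide +kernel
theorem c_p20_100 : allRange chk20 153800 1538 = true := by decide +kernel
theorem c_p20_101 : allRange chk20 155338 1538 = true := by decide +kernel
theorem c_p20_102 : allRange chk20 156876 1538 = true := by decide +kernel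
theorem c_p20_103 : allRange chk20 158414 1538 = true := by decide +kernel
theorem c_p20_104 : allRange chk20 159952 1538 = true := by decide +kernel
theorem c_p20_105 : allRange chk20 161490 1538 = true := by decide +kernel
theorem c_p20_106 : allRange chk20 163028 1538 = true := by decide +kernel
theorem c_p20_107 : allRange chk20 164566 1538 = true := by decide +kernel
theorem c_p20_108 : allRange chk20 166104 1538 = true := by decide +kernel
theorem c_p20_109 : allRange chk20 167642 1538 = true := by decide +kernel
theorem c_p20_110 : allRange chk20 169180 1538 = true := by decide +kernel
theorem c_p20_111 : allRange chk20 170718 1538 = true := by decide +kernel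
theorem c_p20_112 : allRange chk20 172256 1538 = true := by decide +kernel
theorem c_p20_113 : allRange chk20 173794 1538 = true := by decide +kernel
theorem c_p20_114 : allRange chk20 175332 1538 = true := by decide +kernel
theorem c_p20_115 : allRange chk20 176870 1538 = true := by decide +kernel
theorem c_p20_116 : allRange chk20 178408 1538 = true := by decide +kernel
theorem c_p20_117 : allRange chk20 179946 1538 = true := by decide +kernel
theorem c_p20_118 : allRange chk20 181484 1538 = true := by decide +kernel
theorem c_p20_119 : allRange chk20 183022 1538 = true := by decide +kernel
theorem c_p20_120 : allRange chk20 184560 1538 = true := by decide +kernel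
theorem c_p20_121 : allRange chk20 186098 1538 = true := by decide +kernel
theorem c_p20_122 : allRange chk20 187636 1538 = true := by decide +kernel
theorem c_p20_123 : allRange chk20 189174 1538 = true := by decide +kernel
theorem c_p20_124 : allRange chk20 190712 1538 = true := by decide +kernel
theorem c_p20_125 : allRange chk20 192250 1538 = true := by decide +kernel
theorem c_p20_126 : allRange chk20 193788 1538 = true := by decide +kernel
theorem c_p20_127 : allRange chk20 195326 1538 = true := by decide +kernel
theorem c_p20_128 : allRange chk20 196864 1538 = true := by decide +kernel
theorem c_p20_129 : allRange chk20 198402 1538 = true := by decide +kernel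
theorem c_p20_130 : allRange chk20 199940 1538 = true := by decide +kernel
theorem c_p20_131 : allRange chk20 201478 1538 = true := by decide +kernel
theorem c_p20_132 : allRange chk20 203016 1538 = true := by decide +kernel
theorem c_p20_133 : allRange chk20 204554 1538 = true := by decide +kernel
theorem c_p20_134 : allRange chk20 206092 1538 = true := by decide +kernel
theorem c_p20_135 : allRange chk20 207630 1538 = true := by decide +kernel
theorem c_p20_136 : allRange chk20 209168 1538 = true := by decide +kernel
theorem c_p20_137 : allRange chk20 210706 1538 = true := by decide +kernel

end Cfsg.Agent.Lib.Helper4.TCD.Fi24L
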