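import Cfsg.Agent.Lib.Helper4.TC7
import Cfsg.Agent.Lib.Helper4.TCP_Fi24Q
import Cfsg.Agent.Lib.Helper4.TCD_Fi24Qa_D0
import Cfsg.Agent.Lib.Helper4.TCD_Fi24Qa_D1
import Cfsg.Agent.Lib.Helper4.TCD_Fi24Qa_D2
import Cfsg.Agent.Lib.Helper4.TCD_Fi24Qa_D3
import Cfsg.Agent.Lib.Helper4.TCD_Fi24Qa_D4
import Cfsg.Agent.Lib.Helper4.TCD_Fi24Qa_D5

namespace Cfsg.Agent.Lib.Helper4.TCD.Fi24Qa

open Cfsg.Agent.Lib.Helper4.TC

set_option maxRecDepth 100000

noncomputable def Atab_s_0_2 (c : Nat) : Nat := @Bool.rec (fun _ => Nat) (Atab_0) (Atab_1) (Nat.ble 1 c)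
noncomputable def Atab_s_3_5 (c : Nat) : Nat := @Bool.rec (fun _ => Nat) (Atab_3) (Atab_4) (Nat.ble 4 c)
noncomputable def Atab_s_2_5 (c : Nat) : Nat := @Bool.rec (fun _ => Nat) (Atab_2) (Atab_s_3_5 c) (Nat.ble 3 c)
noncomputable def Atab_s_0_5 (c : Nat) : Nat := @Bool.rec (fun _ => Nat) (Atab_s_0_2 c) (Atab_s_2_5 c) (Nat.ble 2 c)
noncomputable def Atab_s_6_8 (c : Nat) : Nat := @Bool.rec (fun _ => Nat) (Atab_6) (Atab_7) (Nat.ble 7 c)
noncomputable def Atab_s_5_8 (c : Nat) : Nat := @Bool.rec (fun _ => Nat) (Atab_5) (Atab_s_6_8 c) (Nat.ble 6 c)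
noncomputable def Atab_s_9_11 (c : Nat) : Nat := @Bool.rec (fun _ => Nat) (Atab_9) (Atab_10) (Nat.ble 10 c)
noncomputable def Atab_s_8_11 (c : Nat) : Nat := @Bool.rec (fun _ => Nat) (Atab_8) (Atab_s_9_11 c) (Nat.ble 9 c)
noncomputable def Atab_s_5_11 (c : Nat) : Nat := @Bool.rec (fun _ => Nat) (Atab_s_5_8 c) (Atab_s_8_11 c) (Nat.ble 8 c)
noncomputable def Atab_s_0_11 (c : Nat) : Nat := @Bool.rec (fun _ => Nat) (Atab_s_0_5 c) (Atab_s_5_11 c) (Nat.ble 5 c)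
noncomputable def Atab_s_12_14 (c : Nat) : Nat := @Bool.rec (fun _ => Nat) (Atab_12) (Atab_13) (Nat.ble 13 c)
noncomputable def Atab_s_11_14 (c : Nat) : Nat := @Bool.rec (fun _ => Nat) (Atab_11) (Atab_s_12_14 c) (Nat.ble 12 c)
noncomputable def Atab_s_15_17 (c : Nat) : Nat := @Bool.rec (fun _ => Nat) (Atab_15) (Atab_16) (Nat.ble 16 c)
noncomputable def Atab_s_14_17 (c : Nat) : Nat := @Bool.rec (fun _ => Nat) (Atab_14) (Atab_s_15_17 c) (Nat.ble 15 c)
noncomputable def Atab_s_11_17 (c : Nat) : Nat := @Bool.rec (fun _ => Nat) (Atab_s_11_14 c) (Atab_s_14_17 c) (Nat.ble 14 c)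
noncomputable def Atab_s_18_20 (c : Nat) : Nat := @Bool.rec (fun _ => Nat) (Atab_18) (Atab_19) (Nat.ble 19 c)
noncomputable def Atab_s_17_20 (c : Nat) : Nat := @Bool.rec (fun _ => Nat) (Atab_17) (Atab_s_18_20 c) (Nat.ble 18 c)
noncomputable def Atab_s_21_23 (c : Nat) : Nat := @Bool.rec (fun _ => Nat) (Atab_21) (Atab_22) (Nat.ble 22 c)
noncomputable def Atab_s_20_23 (c : Nat) : Nat := @Bool.rec (fun _ => Nat) (Atab_20) (Atab_s_21_23 c) (Nat.ble 21 c)
noncomputable def Atab_s_17_23 (c : Nat) : Nat := @Bool.rec (fun _ => Nat) (Atab_s_17_20 c) (Atab_s_20_23 c) (Nat.ble 20 c)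
noncomputable def Atab_s_11_23 (c : Nat) : Nat := @Bool.rec (fun _ => Nat) (Atab_s_11_17 c) (Atab_s_17_23 c) (Nat.ble 17 c)
noncomputable def Atab_s_0_23 (c : Nat) : Nat := @Bool.rec (fun _ => Nat) (Atab_s_0_11 c) (Atab_s_11_23 c) (Nat.ble 11 c)
noncomputable def Atab_s_24_26 (c : Nat) : Nat := @Bool.rec (fun _ => Nat) (Atab_24) (Atab_25) (Nat.ble 25 c)
noncomputable def Atab_s_23_26 (c : Nat) : Nat := @Bool.rec (fun _ => Nat) (Atab_23) (Atab_s_24_26 c) (Nat.ble 24 c)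
noncomputable def Atab_s_27_29 (c : Nat) : Nat := @Bool.rec (fun _ => Nat) (Atab_27) (Atab_28) (Nat.ble 28 c)
noncomputable def Atab_s_26_29 (c : Nat) : Nat := @Bool.rec (fun _ => Nat) (Atab_26) (Atab_s_27_29 c) (Nat.ble 27 c)
noncomputable def Atab_s_23_29 (c : Nat) : Nat := @Bool.rec (fun _ => Nat) (Atab_s_23_26 c) (Atab_s_26_29 c) (Nat.ble 26 c)
noncomputable def Atab_s_30_32 (c : Nat) : Nat := @Bool.rec (fun _ => Nat) (Atab_30) (Atab_31) (Nat.ble 31 c)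
noncomputable def Atab_s_29_32 (c : Nat) : Nat := @Bool.rec (fun _ => Nat) (Atab_29) (Atab_s_30_32 c) (Nat.ble 30 c)
noncomputable def Atab_s_33_35 (c : Nat) : Nat := @Bool.rec (fun _ => Nat) (Atab_33) (Atab_34) (Nat.ble 34 c)
noncomputable def Atab_s_32_35 (c : Nat) : Nat := @Bool.rec (fun _ => Nat) (Atab_32) (Atab_s_33_35 c) (Nat.ble 33 c)
noncomputable def Atab_s_29_35 (c : Nat) : Nat := @Bool.rec (fun _ => Nat) (Atab_s_29_32 c) (Atab_s_32_35 c) (Nat.ble 32 c)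
noncomputable def Atab_s_23_35 (c : Nat) : Nat := @Bool.rec (fun _ => Nat) (Atab_s_23_29 c) (Atab_s_29_35 c) (Nat.ble 29 c)
noncomputable def Atab_s_36_38 (c : Nat) : Nat := @Bool.rec (fun _ => Nat) (Atab_36) (Atab_37) (Nat.ble 37 c)
noncomputable def Atab_s_35_38 (c : Nat) : Nat := @Bool.rec (fun _ => Nat) (Atab_35) (Atab_s_36_38 c) (Nat.ble 36 c)
noncomputable def Atab_s_39_41 (c : Nat) : Nat := @Bool.rec (fun _ => Nat) (Atab_39) (Atab_40) (Nat.ble 40 c)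
noncomputable def Atab_s_38_41 (c : Nat) : Nat := @Bool.rec (fun _ => Nat) (Atab_38) (Atab_s_39_41 c) (Nat.ble 39 c)
noncomputable def Atab_s_35_41 (c : Nat) : Nat := @Bool.rec (fun _ => Nat) (Atab_s_35_38 c) (Atab_s_38_41 c) (Nat.ble 38 c)
noncomputable def Atab_s_42_44 (c : Nat) : Nat := @Bool.rec (fun _ => Nat) (Atab_42) (Atab_43) (Nat.ble 43 c)
noncomputable def Atab_s_41_44 (c : Nat) : Nat := @Bool.rec (fun _ => Nat) (Atab_41) (Atab_s_42_44 c) (Nat.ble 42 c)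
noncomputable def Atab_s_45_47 (c : Nat) : Nat := @Bool.rec (fun _ => Nat) (Atab_45) (Atab_46) (Nat.ble 46 c)
noncomputable def Atab_s_44_47 (c : Nat) : Nat := @Bool.rec (fun _ => Nat) (Atab_44) (Atab_s_45_47 c) (Nat.ble 45 c)
noncomputable def Atab_s_41_47 (c : Nat) : Nat := @Bool.rec (fun _ => Nat) (Atab_s_41_44 c) (Atab_s_44_47 c) (Nat.ble 44 c)
noncomputable def Atab_s_35_47 (c : Nat) : Nat := @Bool.rec (fun _ => Nat) (Atab_s_35_41 c) (Atab_s_41_47 c) (Nat.ble 41 c)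
noncomputable def Atab_s_23_47 (c : Nat) : Nat := @Bool.rec (fun _ => Nat) (Atab_s_23_35 c) (Atab_s_35_47 c) (Nat.ble 35 c)
noncomputable def Atab_s_0_47 (c : Nat) : Nat := @Bool.rec (fun _ => Nat) (Atab_s_0_23 c) (Atab_s_23_47 c) (Nat.ble 23 c)
noncomputable def Atab_s_47_49 (c : Nat) : Nat := @Bool.rec (fun _ => Nat) (Atab_47) (Atab_48) (Nat.ble 48 c)
noncomputable def Atab_s_50_52 (c : Nat) : Nat := @Bool.rec (fun _ => Nat) (Atab_50) (Atab_51) (Nat.ble 51 c)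
noncomputable def Atab_s_49_52 (c : Nat) : Nat := @Bool.rec (fun _ => Nat) (Atab_49) (Atab_s_50_52 c) (Nat.ble 50 c)
noncomputable def Atab_s_47_52 (c : Nat) : Nat := @Bool.rec (fun _ => Nat) (Atab_s_47_49 c) (Atab_s_49_52 c) (Nat.ble 49 c)
noncomputable def Atab_s_53_55 (c : Nat) : Nat := @Bool.rec (fun _ => Nat) (Atab_53) (Atab_54) (Nat.ble 54 c)
noncomputable def Atab_s_52_55 (c : Nat) : Nat := @Bool.rec (fun _ => Nat) (Atab_52) (Atab_s_53_55 c) (Nat.ble 53 c)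
noncomputable def Atab_s_56_58 (c : Nat) : Nat := @Bool.rec (fun _ => Nat) (Atab_56) (Atab_57) (Nat.ble 57 c)
noncomputable def Atab_s_55_58 (c : Nat) : Nat := @Bool.rec (fun _ => Nat) (Atab_55) (Atab_s_56_58 c) (Nat.ble 56 c)
noncomputable def Atab_s_52_58 (c : Nat) : Nat := @Bool.rec (fun _ => Nat) (Atab_s_52_55 c) (Atab_s_55_58 c) (Nat.ble 55 c)
noncomputable def Atab_s_47_58 (c : Nat) : Nat := @Bool.rec (fun _ => Nat) (Atab_s_47_52 c) (Atab_s_52_58 c) (Nat.ble 52 c)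
noncomputable def Atab_s_59_61 (c : Nat) : Nat := @Bool.rec (fun _ => Nat) (Atab_59) (Atab_60) (Nat.ble 60 c)
noncomputable def Atab_s_58_61 (c : Nat) : Nat := @Bool.rec (fun _ => Nat) (Atab_58) (Atab_s_59_61 c) (Nat.ble 59 c)
noncomputable def Atab_s_62_64 (c : Nat) : Nat := @Bool.rec (fun _ => Nat) (Atab_62) (Atab_63) (Nat.ble 63 c)
noncomputable def Atab_s_61_64 (c : Nat) : Nat := @Bool.rec (fun _ => Nat) (Atab_61) (Atab_s_62_64 c) (Nat.ble 62 c)
noncomputable def Atab_s_58_64 (c : Nat) : Nat := @Bool.rec (fun _ => Nat) (Atab_s_58_61 c) (Atab_s_61_64 c) (Nat.ble 61 c)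
noncomputable def Atab_s_65_67 (c : Nat) : Nat := @Bool.rec (fun _ => Nat) (Atab_65) (Atab_66) (Nat.ble 66 c)
noncomputable def Atab_s_64_67 (c : Nat) : Nat := @Bool.rec (fun _ => Nat) (Atab_64) (Atab_s_65_67 c) (Nat.ble 65 c)
noncomputable def Atab_s_68_70 (c : Nat) : Nat := @Bool.rec (fun _ => Nat) (Atab_68) (Atab_69) (Nat.ble 69 c)
noncomputable def Atab_s_67_70 (c : Nat) : Nat := @Bool.rec (fun _ => Nat) (Atab_67) (Atab_s_68_70 c) (Nat.ble 68 c)
noncomputable def Atab_s_64_70 (c : Nat) : Nat := @Bool.rec (fun _ => Nat) (Atab_s_64_67 c) (Atab_s_67_70 c) (Nat.ble 67 c)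
noncomputable def Atab_s_58_70 (c : Nat) : Nat := @Bool.rec (fun _ => Nat) (Atab_s_58_64 c) (Atab_s_64_70 c) (Nat.ble 64 c)
noncomputable def Atab_s_47_70 (c : Nat) : Nat := @Bool.rec (fun _ => Nat) (Atab_s_47_58 c) (Atab_s_58_70 c) (Nat.ble 58 c)
noncomputable def Atab_s_71_73 (c : Nat) : Nat := @Bool.rec (fun _ => Nat) (Atab_71) (Atab_72) (Nat.ble 72 c)
noncomputable def Atab_s_70_73 (c : Nat) : Nat := @Bool.rec (fun _ => Nat) (Atab_70) (Atab_s_71_73 c) (Nat.ble 71 c)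
noncomputable def Atab_s_74_76 (c : Nat) : Nat := @Bool.rec (fun _ => Nat) (Atab_74) (Atab_75) (Nat.ble 75 c)
noncomputable def Atab_s_73_76 (c : Nat) : Nat := @Bool.rec (fun _ => Nat) (Atab_73) (Atab_s_74_76 c) (Nat.ble 74 c)
noncomputable def Atab_s_70_76 (c : Nat) : Nat := @Bool.rec (fun _ => Nat) (Atab_s_70_73 c) (Atab_s_73_76 c) (Nat.ble 73 c)
noncomputable def Atab_s_77_79 (c : Nat) : Nat := @Bool.rec (fun _ => Nat) (Atab_77) (Atab_78) (Nat.ble 78 c)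
noncomputable def Atab_s_76_79 (c : Nat) : Nat := @Bool.rec (fun _ => Nat) (Atab_76) (Atab_s_77_79 c) (Nat.ble 77 c)
noncomputable def Atab_s_80_82 (c : Nat) : Nat := @Bool.rec (fun _ => Nat) (Atab_80) (Atab_81) (Nat.ble 81 c)
noncomputable def Atab_s_79_82 (c : Nat) : Nat := @Bool.rec (fun _ => Nat) (Atab_79) (Atab_s_80_82 c) (Nat.ble 80 c)
noncomputable def Atab_s_76_82 (c : Nat) : Nat := @Bool.rec (fun _ => Nat) (Atab_s_76_79 c) (Atab_s_79_82 c) (Nat.ble 79 c)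
noncomputable def Atab_s_70_82 (c : Nat) : Nat := @Bool.rec (fun _ => Nat) (Atab_s_70_76 c) (Atab_s_76_82 c) (Nat.ble 76 c)
noncomputable def Atab_s_83_85 (c : Nat) : Nat := @Bool.rec (fun _ => Nat) (Atab_83) (Atab_84) (Nat.ble 84 c)
noncomputable def Atab_s_82_85 (c : Nat) : Nat := @Bool.rec (fun _ => Nat) (Atab_82) (Atab_s_83_85 c) (Nat.ble 83 c)
noncomputable def Atab_s_86_88 (c : Nat) : Nat := @Bool.rec (fun _ => Nat) (Atab_86) (Atab_87) (Nat.ble 87 c)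
noncomputable def Atab_s_85_88 (c : Nat) : Nat := @Bool.rec (fun _ => Nat) (Atab_85) (Atab_s_86_88 c) (Nat.ble 86 c)
noncomputable def Atab_s_82_88 (c : Nat) : Nat := @Bool.rec (fun _ => Nat) (Atab_s_82_85 c) (Atab_s_85_88 c) (Nat.ble 85 c)
noncomputable def Atab_s_89_91 (c : Nat) : Nat := @Bool.rec (fun _ => Nat) (Atab_89) (Atab_90) (Nat.ble 90 c)
noncomputable def Atab_s_88_91 (c : Nat) : Nat := @Bool.rec (fun _ => Nat) (Atab_88) (Atab_s_89_91 c) (Nat.ble 89 c)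
noncomputable def Atab_s_92_94 (c : Nat) : Nat := @Bool.rec (fun _ => Nat) (Atab_92) (Atab_93) (Nat.ble 93 c)
noncomputable def Atab_s_91_94 (c : Nat) : Nat := @Bool.rec (fun _ => Nat) (Atab_91) (Atab_s_92_94 c) (Nat.ble 92 c)
noncomputable def Atab_s_88_94 (c : Nat) : Nat := @Bool.rec (fun _ => Nat) (Atab_s_88_91 c) (Atab_s_91_94 c) (Nat.ble 91 c)
noncomputable def Atab_s_82_94 (c : Nat) : Nat := @Bool.rec (fun _ => Nat) (Atab_s_82_88 c) (Atab_s_88_94 c) (Nat.ble 88 c)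
noncomputable def Atab_s_70_94 (c : Nat) : Nat := @Bool.rec (fun _ => Nat) (Atab_s_70_82 c) (Atab_s_82_94 c) (Nat.ble 82 c)
noncomputable def Atab_s_47_94 (c : Nat) : Nat := @Bool.rec (fun _ => Nat) (Atab_s_47_70 c) (Atab_s_70_94 c) (Nat.ble 70 c)
noncomputable def Atab_s_0_94 (c : Nat) : Nat := @Bool.rec (fun _ => Nat) (Atab_s_0_47 c) (Atab_s_47_94 c) (Nat.ble 47 c)
noncomputable def Atab (i : Nat) : Nat := rdw 37 137438953471 (Atab_s_0_94 (Nat.shiftRight i 11)) (Nat.land i 2047)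
noncomputable def Btab_s_0_2 (c : Nat) : Nat := @Bool.rec (fun _ => Nat) (Btab_0) (Btab_1) (Nat.ble 1 c)
noncomputable def Btab_s_2_4 (c : Nat) : Nat := @Bool.rec (fun _ => Nat) (Btab_2) (Btab_3) (Nat.ble 3 c)
noncomputable def Btab_s_0_4 (c : Nat) : Nat := @Bool.rec (fun _ => Nat) (Btab_s_0_2 c) (Btab_s_2_4 c) (Nat.ble 2 c)
noncomputable def Btab_s_4_6 (c : Nat) : Nat := @Bool.rec (fun _ => Nat) (Btab_4) (Btab_5) (Nat.ble 5 c)
noncomputable def Btab_s_7_9 (c : Nat) : Nat := @Bool.rec (fun _ => Nat) (Btab_7) (Btab_8) (Nat.ble 8 c)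
noncomputable def Btab_s_6_9 (c : Nat) : Nat := @Bool.rec (fun _ => Nat) (Btab_6) (Btab_s_7_9 c) (Nat.ble 7 c)
noncomputable def Btab_s_4_9 (c : Nat) : Nat := @Bool.rec (fun _ => Nat) (Btab_s_4_6 c) (Btab_s_6_9 c) (Nat.ble 6 c)
noncomputable def Btab_s_0_9 (c : Nat) : Nat := @Bool.rec (fun _ => Nat) (Btab_s_0_4 c) (Btab_s_4_9 c) (Nat.ble 4 c)
noncomputable def Btab_s_9_11 (c : Nat) : Nat := @Bool.rec (fun _ => Nat) (Btab_9) (Btab_10) (Nat.ble 10 c)
noncomputable def Btab_s_11_13 (c : Nat) : Nat := @Bool.rec (fun _ => Nat) (Btab_11) (Btab_12) (Nat.ble 12 c)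
noncomputable def Btab_s_9_13 (c : Nat) : Nat := @Bool.rec (fun _ => Nat) (Btab_s_9_11 c) (Btab_s_11_13 c) (Nat.ble 11 c)
noncomputable def Btab_s_13_15 (c : Nat) : Nat := @Bool.rec (fun _ => Nat) (Btab_13) (Btab_14) (Nat.ble 14 c)
noncomputable def Btab_s_16_18 (c : Nat) : Nat := @Bool.rec (fun _ => Nat) (Btab_16) (Btab_17) (Nat.ble 17 c)
noncomputable def Btab_s_15_18 (c : Nat) : Nat := @Bool.rec (fun _ => Nat) (Btab_15) (Btab_s_16_18 c) (Nat.ble 16 c)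
noncomputable def Btab_s_13_18 (c : Nat) : Nat := @Bool.rec (fun _ => Nat) (Btab_s_13_15 c) (Btab_s_15_18 c) (Nat.ble 15 c)
noncomputable def Btab_s_9_18 (c : Nat) : Nat := @Bool.rec (fun _ => Nat) (Btab_s_9_13 c) (Btab_s_13_18 c) (Nat.ble 13 c)
noncomputable def Btab_s_0_18 (c : Nat) : Nat := @Bool.rec (fun _ => Nat) (Btab_s_0_9 c) (Btab_s_9_18 c) (Nat.ble 9 c)
noncomputable def Btab_s_18_20 (c : Nat) : Nat := @Bool.rec (fun _ => Nat) (Btab_18) (Btab_19) (Nat.ble 19 c)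
noncomputable def Btab_s_20_22 (c : Nat) : Nat := @Bool.rec (fun _ => Nat) (Btab_20) (Btab_21) (Nat.ble 21 c)
noncomputable def Btab_s_18_22 (c : Nat) : Nat := @Bool.rec (fun _ => Nat) (Btab_s_18_20 c) (Btab_s_20_22 c) (Nat.ble 20 c)
noncomputable def Btab_s_22_24 (c : Nat) : Nat := @Bool.rec (fun _ => Nat) (Btab_22) (Btab_23) (Nat.ble 23 c)
noncomputable def Btab_s_25_27 (c : Nat) : Nat := @Bool.rec (fun _ => Nat) (Btab_25) (Btab_26) (Nat.ble 26 c)
noncomputable def Btab_s_24_27 (c : Nat) : Nat := @Bool.rec (fun _ => Nat) (Btab_24) (Btab_s_25_27 c) (Nat.ble 25 c)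
noncomputable def Btab_s_22_27 (c : Nat) : Nat := @Bool.rec (fun _ => Nat) (Btab_s_22_24 c) (Btab_s_24_27 c) (Nat.ble 24 c)
noncomputable def Btab_s_18_27 (c : Nat) : Nat := @Bool.rec (fun _ => Nat) (Btab_s_18_22 c) (Btab_s_22_27 c) (Nat.ble 22 c)
noncomputable def Btab_s_27_29 (c : Nat) : Nat := @Bool.rec (fun _ => Nat) (Btab_27) (Btab_28) (Nat.ble 28 c)
noncomputable def Btab_s_30_32 (c : Nat) : Nat := @Bool.rec (fun _ => Nat) (Btab_30) (Btab_31) (Nat.ble 31 c)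
noncomputable def Btab_s_29_32 (c : Nat) : Nat := @Bool.rec (fun _ => Nat) (Btab_29) (Btab_s_30_32 c) (Nat.ble 30 c)
noncomputable def Btab_s_27_32 (c : Nat) : Nat := @Bool.rec (fun _ => Nat) (Btab_s_27_29 c) (Btab_s_29_32 c) (Nat.ble 29 c)
noncomputable def Btab_s_32_34 (c : Nat) : Nat := @Bool.rec (fun _ => Nat) (Btab_32) (Btab_33) (Nat.ble 33 c)
noncomputable def Btab_s_35_37 (c : Nat) : Nat := @Bool.rec (fun _ => Nat) (Btab_35) (Btab_36) (Nat.ble 36 c)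
noncomputable def Btab_s_34_37 (c : Nat) : Nat := @Bool.rec (fun _ => Nat) (Btab_34) (Btab_s_35_37 c) (Nat.ble 35 c)
noncomputable def Btab_s_32_37 (c : Nat) : Nat := @Bool.rec (fun _ => Nat) (Btab_s_32_34 c) (Btab_s_34_37 c) (Nat.ble 34 c)
noncomputable def Btab_s_27_37 (c : Nat) : Nat := @Bool.rec (fun _ => Nat) (Btab_s_27_32 c) (Btab_s_32_37 c) (Nat.ble 32 c)
noncomputable def Btab_s_18_37 (c : Nat) : Nat := @Bool.rec (fun _ => Nat) (Btab_s_18_27 c) (Btab_s_27_37 c) (Nat.ble 27 c)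
noncomputable def Btab_s_0_37 (c : Nat) : Nat := @Bool.rec (fun _ => Nat) (Btab_s_0_18 c) (Btab_s_18_37 c) (Nat.ble 18 c)
noncomputable def Btab_s_37_39 (c : Nat) : Nat := @Bool.rec (fun _ => Nat) (Btab_37) (Btab_38) (Nat.ble 38 c)
noncomputable def Btab_s_39_41 (c : Nat) : Nat := @Bool.rec (fun _ => Nat) (Btab_39) (Btab_40) (Nat.ble 40 c)
noncomputable def Btab_s_37_41 (c : Nat) : Nat := @Bool.rec (fun _ => Nat) (Btab_s_37_39 c) (Btab_s_39_41 c) (Nat.ble 39 c)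
noncomputable def Btab_s_41_43 (c : Nat) : Nat := @Bool.rec (fun _ => Nat) (Btab_41) (Btab_42) (Nat.ble 42 c)
noncomputable def Btab_s_44_46 (c : Nat) : Nat := @Bool.rec (fun _ => Nat) (Btab_44) (Btab_45) (Nat.ble 45 c)
noncomputable def Btab_s_43_46 (c : Nat) : Nat := @Bool.rec (fun _ => Nat) (Btab_43) (Btab_s_44_46 c) (Nat.ble 44 c)
noncomputable def Btab_s_41_46 (c : Nat) : Nat := @Bool.rec (fun _ => Nat) (Btab_s_41_43 c) (Btab_s_43_46 c) (Nat.ble 43 c)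
noncomputable def Btab_s_37_46 (c : Nat) : Nat := @Bool.rec (fun _ => Nat) (Btab_s_37_41 c) (Btab_s_41_46 c) (Nat.ble 41 c)
noncomputable def Btab_s_46_48 (c : Nat) : Nat := @Bool.rec (fun _ => Nat) (Btab_46) (Btab_47) (Nat.ble 47 c)
noncomputable def Btab_s_49_51 (c : Nat) : Nat := @Bool.rec (fun _ => Nat) (Btab_49) (Btab_50) (Nat.ble 50 c)
noncomputable def Btab_s_48_51 (c : Nat) : Nat := @Bool.rec (fun _ => Nat) (Btab_48) (Btab_s_49_51 c) (Nat.ble 49 c)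
noncomputable def Btab_s_46_51 (c : Nat) : Nat := @Bool.rec (fun _ => Nat) (Btab_s_46_48 c) (Btab_s_48_51 c) (Nat.ble 48 c)
noncomputable def Btab_s_51_53 (c : Nat) : Nat := @Bool.rec (fun _ => Nat) (Btab_51) (Btab_52) (Nat.ble 52 c)
noncomputable def Btab_s_54_56 (c : Nat) : Nat := @Bool.rec (fun _ => Nat) (Btab_54) (Btab_55) (Nat.ble 55 c)
noncomputable def Btab_s_53_56 (c : Nat) : Nat := @Bool.rec (fun _ => Nat) (Btab_53) (Btab_s_54_56 c) (Nat.ble 54 c)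
noncomputable def Btab_s_51_56 (c : Nat) : Nat := @Bool.rec (fun _ => Nat) (Btab_s_51_53 c) (Btab_s_53_56 c) (Nat.ble 53 c)
noncomputable def Btab_s_46_56 (c : Nat) : Nat := @Bool.rec (fun _ => Nat) (Btab_s_46_51 c) (Btab_s_51_56 c) (Nat.ble 51 c)
noncomputable def Btab_s_37_56 (c : Nat) : Nat := @Bool.rec (fun _ => Nat) (Btab_s_37_46 c) (Btab_s_46_56 c) (Nat.ble 46 c)
noncomputable def Btab_s_56_58 (c : Nat) : Nat := @Bool.rec (fun _ => Nat) (Btab_56) (Btab_57) (Nat.ble 57 c)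
noncomputable def Btab_s_58_60 (c : Nat) : Nat := @Bool.rec (fun _ => Nat) (Btab_58) (Btab_59) (Nat.ble 59 c)
noncomputable def Btab_s_56_60 (c : Nat) : Nat := @Bool.rec (fun _ => Nat) (Btab_s_56_58 c) (Btab_s_58_60 c) (Nat.ble 58 c)
noncomputable def Btab_s_60_62 (c : Nat) : Nat := @Bool.rec (fun _ => Nat) (Btab_60) (Btab_61) (Nat.ble 61 c)
noncomputable def Btab_s_63_65 (c : Nat) : Nat := @Bool.rec (fun _ => Nat) (Btab_63) (Btab_64) (Nat.ble 64 c)
noncomputable def Btab_s_62_65 (c : Nat) : Nat := @Bool.rec (fun _ => Nat) (Btab_62) (Btab_s_63_65 c) (Nat.ble 63 c)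
noncomputable def Btab_s_60_65 (c : Nat) : Nat := @Bool.rec (fun _ => Nat) (Btab_s_60_62 c) (Btab_s_62_65 c) (Nat.ble 62 c)
noncomputable def Btab_s_56_65 (c : Nat) : Nat := @Bool.rec (fun _ => Nat) (Btab_s_56_60 c) (Btab_s_60_65 c) (Nat.ble 60 c)
noncomputable def Btab_s_65_67 (c : Nat) : Nat := @Bool.rec (fun _ => Nat) (Btab_65) (Btab_66) (Nat.ble 66 c)
noncomputable def Btab_s_68_70 (c : Nat) : Nat := @Bool.rec (fun _ => Nat) (Btab_68) (Btab_69) (Nat.ble 69 c)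
noncomputable def Btab_s_67_70 (c : Nat) : Nat := @Bool.rec (fun _ => Nat) (Btab_67) (Btab_s_68_70 c) (Nat.ble 68 c)
noncomputable def Btab_s_65_70 (c : Nat) : Nat := @Bool.rec (fun _ => Nat) (Btab_s_65_67 c) (Btab_s_67_70 c) (Nat.ble 67 c)
noncomputable def Btab_s_70_72 (c : Nat) : Nat := @Bool.rec (fun _ => Nat) (Btab_70) (Btab_71) (Nat.ble 71 c)
noncomputable def Btab_s_73_75 (c : Nat) : Nat := @Bool.rec (fun _ => Nat) (Btab_73) (Btab_74) (Nat.ble 74 c)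
noncomputable def Btab_s_72_75 (c : Nat) : Nat := @Bool.rec (fun _ => Nat) (Btab_72) (Btab_s_73_75 c) (Nat.ble 73 c)
noncomputable def Btab_s_70_75 (c : Nat) : Nat := @Bool.rec (fun _ => Nat) (Btab_s_70_72 c) (Btab_s_72_75 c) (Nat.ble 72 c)
noncomputable def Btab_s_65_75 (c : Nat) : Nat := @Bool.rec (fun _ => Nat) (Btab_s_65_70 c) (Btab_s_70_75 c) (Nat.ble 70 c)
noncomputable def Btab_s_56_75 (c : Nat) : Nat := @Bool.rec (fun _ => Nat) (Btab_s_56_65 c) (Btab_s_65_75 c) (Nat.ble 65 c)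
noncomputable def Btab_s_37_75 (c : Nat) : Nat := @Bool.rec (fun _ => Nat) (Btab_s_37_56 c) (Btab_s_56_75 c) (Nat.ble 56 c)
noncomputable def Btab_s_0_75 (c : Nat) : Nat := @Bool.rec (fun _ => Nat) (Btab_s_0_37 c) (Btab_s_37_75 c) (Nat.ble 37 c)
noncomputable def Btab (i : Nat) : Nat := rdw 41 2199023255551 (Btab_s_0_75 (Nat.shiftRight i 11)) (Nat.land i 2047)
noncomputable def Ptab_s_1_3 (c : Nat) : Nat := @Bool.rec (fun _ => Nat) (Ptab_1) (Ptab_2) (Nat.ble 2 c)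
noncomputable def Ptab_s_0_3 (c : Nat) : Nat := @Bool.rec (fun _ => Nat) (Ptab_0) (Ptab_s_1_3 c) (Nat.ble 1 c)
noncomputable def Ptab_s_3_5 (c : Nat) : Nat := @Bool.rec (fun _ => Nat) (Ptab_3) (Ptab_4) (Nat.ble 4 c)
noncomputable def Ptab_s_5_7 (c : Nat) : Nat := @Bool.rec (fun _ => Nat) (Ptab_5) (Ptab_6) (Nat.ble 6 c)
noncomputable def Ptab_s_3_7 (c : Nat) : Nat := @Bool.rec (fun _ => Nat) (Ptab_s_3_5 c) (Ptab_s_5_7 c) (Nat.ble 5 c)
noncomputable def Ptab_s_0_7 (c : Nat) : Nat := @Bool.rec (fun _ => Nat) (Ptab_s_0_3 c) (Ptab_s_3_7 c) (Nat.ble 3 c)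
noncomputable def Ptab_s_7_9 (c : Nat) : Nat := @Bool.rec (fun _ => Nat) (Ptab_7) (Ptab_8) (Nat.ble 8 c)
noncomputable def Ptab_s_9_11 (c : Nat) : Nat := @Bool.rec (fun _ => Nat) (Ptab_9) (Ptab_10) (Nat.ble 10 c)
noncomputable def Ptab_s_7_11 (c : Nat) : Nat := @Bool.rec (fun _ => Nat) (Ptab_s_7_9 c) (Ptab_s_9_11 c) (Nat.ble 9 c)
noncomputable def Ptab_s_11_13 (c : Nat) : Nat := @Bool.rec (fun _ => Nat) (Ptab_11) (Ptab_12) (Nat.ble 12 c)
noncomputable def Ptab_s_13_15 (c : Nat) : Nat := @Bool.rec (fun _ => Nat) (Ptab_13) (Ptab_14) (Nat.ble 14 c)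
noncomputable def Ptab_s_11_15 (c : Nat) : Nat := @Bool.rec (fun _ => Nat) (Ptab_s_11_13 c) (Ptab_s_13_15 c) (Nat.ble 13 c)
noncomputable def Ptab_s_7_15 (c : Nat) : Nat := @Bool.rec (fun _ => Nat) (Ptab_s_7_11 c) (Ptab_s_11_15 c) (Nat.ble 11 c)
noncomputable def Ptab_s_0_15 (c : Nat) : Nat := @Bool.rec (fun _ => Nat) (Ptab_s_0_7 c) (Ptab_s_7_15 c) (Nat.ble 7 c)
noncomputable def Ptab_s_16_18 (c : Nat) : Nat := @Bool.rec (fun _ => Nat) (Ptab_16) (Ptab_17) (Nat.ble 17 c)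
noncomputable def Ptab_s_15_18 (c : Nat) : Nat := @Bool.rec (fun _ => Nat) (Ptab_15) (Ptab_s_16_18 c) (Nat.ble 16 c)
noncomputable def Ptab_s_18_20 (c : Nat) : Nat := @Bool.rec (fun _ => Nat) (Ptab_18) (Ptab_19) (Nat.ble 19 c)
noncomputable def Ptab_s_20_22 (c : Nat) : Nat := @Bool.rec (fun _ => Nat) (Ptab_20) (Ptab_21) (Nat.ble 21 c)
noncomputable def Ptab_s_18_22 (c : Nat) : Nat := @Bool.rec (fun _ => Nat) (Ptab_s_18_20 c) (Ptab_s_20_22 c) (Nat.ble 20 c)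
noncomputable def Ptab_s_15_22 (c : Nat) : Nat := @Bool.rec (fun _ => Nat) (Ptab_s_15_18 c) (Ptab_s_18_22 c) (Nat.ble 18 c)
noncomputable def Ptab_s_22_24 (c : Nat) : Nat := @Bool.rec (fun _ => Nat) (Ptab_22) (Ptab_23) (Nat.ble 23 c)
noncomputable def Ptab_s_24_26 (c : Nat) : Nat := @Bool.rec (fun _ => Nat) (Ptab_24) (Ptab_25) (Nat.ble 25 c)
noncomputable def Ptab_s_22_26 (c : Nat) : Nat := @Bool.rec (fun _ => Nat) (Ptab_s_22_24 c) (Ptab_s_24_26 c) (Nat.ble 24 c)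
noncomputable def Ptab_s_26_28 (c : Nat) : Nat := @Bool.rec (fun _ => Nat) (Ptab_26) (Ptab_27) (Nat.ble 27 c)
noncomputable def Ptab_s_28_30 (c : Nat) : Nat := @Bool.rec (fun _ => Nat) (Ptab_28) (Ptab_29) (Nat.ble 29 c)
noncomputable def Ptab_s_26_30 (c : Nat) : Nat := @Bool.rec (fun _ => Nat) (Ptab_s_26_28 c) (Ptab_s_28_30 c) (Nat.ble 28 c)
noncomputable def Ptab_s_22_30 (c : Nat) : Nat := @Bool.rec (fun _ => Nat) (Ptab_s_22_26 c) (Ptab_s_26_30 c) (Nat.ble 26 c)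
noncomputable def Ptab_s_15_30 (c : Nat) : Nat := @Bool.rec (fun _ => Nat) (Ptab_s_15_22 c) (Ptab_s_22_30 c) (Nat.ble 22 c)
noncomputable def Ptab_s_0_30 (c : Nat) : Nat := @Bool.rec (fun _ => Nat) (Ptab_s_0_15 c) (Ptab_s_15_30 c) (Nat.ble 15 c)
noncomputable def Ptab_s_31_33 (c : Nat) : Nat := @Bool.rec (fun _ => Nat) (Ptab_31) (Ptab_32) (Nat.ble 32 c)
noncomputable def Ptab_s_30_33 (c : Nat) : Nat := @Bool.rec (fun _ => Nat) (Ptab_30) (Ptab_s_31_33 c) (Nat.ble 31 c)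
noncomputable def Ptab_s_33_35 (c : Nat) : Nat := @Bool.rec (fun _ => Nat) (Ptab_33) (Ptab_34) (Nat.ble 34 c)
noncomputable def Ptab_s_35_37 (c : Nat) : Nat := @Bool.rec (fun _ => Nat) (Ptab_35) (Ptab_36) (Nat.ble 36 c)
noncomputable def Ptab_s_33_37 (c : Nat) : Nat := @Bool.rec (fun _ => Nat) (Ptab_s_33_35 c) (Ptab_s_35_37 c) (Nat.ble 35 c)
noncomputable def Ptab_s_30_37 (c : Nat) : Nat := @Bool.rec (fun _ => Nat) (Ptab_s_30_33 c) (Ptab_s_33_37 c) (Nat.ble 33 c)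
noncomputable def Ptab_s_37_39 (c : Nat) : Nat := @Bool.rec (fun _ => Nat) (Ptab_37) (Ptab_38) (Nat.ble 38 c)
noncomputable def Ptab_s_39_41 (c : Nat) : Nat := @Bool.rec (fun _ => Nat) (Ptab_39) (Ptab_40) (Nat.ble 40 c)
noncomputable def Ptab_s_37_41 (c : Nat) : Nat := @Bool.rec (fun _ => Nat) (Ptab_s_37_39 c) (Ptab_s_39_41 c) (Nat.ble 39 c)
noncomputable def Ptab_s_41_43 (c : Nat) : Nat := @Bool.rec (fun _ => Nat) (Ptab_41) (Ptab_42) (Nat.ble 42 c)
noncomputable def Ptab_s_43_45 (c : Nat) : Nat := @Bool.rec (fun _ => Nat) (Ptab_43) (Ptab_44) (Nat.ble 44 c)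
noncomputable def Ptab_s_41_45 (c : Nat) : Nat := @Bool.rec (fun _ => Nat) (Ptab_s_41_43 c) (Ptab_s_43_45 c) (Nat.ble 43 c)
noncomputable def Ptab_s_37_45 (c : Nat) : Nat := @Bool.rec (fun _ => Nat) (Ptab_s_37_41 c) (Ptab_s_41_45 c) (Nat.ble 41 c)
noncomputable def Ptab_s_30_45 (c : Nat) : Nat := @Bool.rec (fun _ => Nat) (Ptab_s_30_37 c) (Ptab_s_37_45 c) (Nat.ble 37 c)
noncomputable def Ptab_s_45_47 (c : Nat) : Nat := @Bool.rec (fun _ => Nat) (Ptab_45) (Ptab_46) (Nat.ble 46 c)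
noncomputable def Ptab_s_47_49 (c : Nat) : Nat := @Bool.rec (fun _ => Nat) (Ptab_47) (Ptab_48) (Nat.ble 48 c)
noncomputable def Ptab_s_45_49 (c : Nat) : Nat := @Bool.rec (fun _ => Nat) (Ptab_s_45_47 c) (Ptab_s_47_49 c) (Nat.ble 47 c)
noncomputable def Ptab_s_49_51 (c : Nat) : Nat := @Bool.rec (fun _ => Nat) (Ptab_49) (Ptab_50) (Nat.ble 50 c)
noncomputable def Ptab_s_51_53 (c : Nat) : Nat := @Bool.rec (fun _ => Nat) (Ptab_51) (Ptab_52) (Nat.ble 52 c)
noncomputable def Ptab_s_49_53 (c : Nat) : Nat := @Bool.rec (fun _ => Nat) (Ptab_s_49_51 c) (Ptab_s_51_53 c) (Nat.ble 51 c)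
noncomputable def Ptab_s_45_53 (c : Nat) : Nat := @Bool.rec (fun _ => Nat) (Ptab_s_45_49 c) (Ptab_s_49_53 c) (Nat.ble 49 c)
noncomputable def Ptab_s_53_55 (c : Nat) : Nat := @Bool.rec (fun _ => Nat) (Ptab_53) (Ptab_54) (Nat.ble 54 c)
noncomputable def Ptab_s_55_57 (c : Nat) : Nat := @Bool.rec (fun _ => Nat) (Ptab_55) (Ptab_56) (Nat.ble 56 c)
noncomputable def Ptab_s_53_57 (c : Nat) : Nat := @Bool.rec (fun _ => Nat) (Ptab_s_53_55 c) (Ptab_s_55_57 c) (Nat.ble 55 c)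
noncomputable def Ptab_s_57_59 (c : Nat) : Nat := @Bool.rec (fun _ => Nat) (Ptab_57) (Ptab_58) (Nat.ble 58 c)
noncomputable def Ptab_s_59_61 (c : Nat) : Nat := @Bool.rec (fun _ => Nat) (Ptab_59) (Ptab_60) (Nat.ble 60 c)
noncomputable def Ptab_s_57_61 (c : Nat) : Nat := @Bool.rec (fun _ => Nat) (Ptab_s_57_59 c) (Ptab_s_59_61 c) (Nat.ble 59 c)
noncomputable def Ptab_s_53_61 (c : Nat) : Nat := @Bool.rec (fun _ => Nat) (Ptab_s_53_57 c) (Ptab_s_57_61 c) (Nat.ble 57 c)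
noncomputable def Ptab_s_45_61 (c : Nat) : Nat := @Bool.rec (fun _ => Nat) (Ptab_s_45_53 c) (Ptab_s_53_61 c) (Nat.ble 53 c)
noncomputable def Ptab_s_30_61 (c : Nat) : Nat := @Bool.rec (fun _ => Nat) (Ptab_s_30_45 c) (Ptab_s_45_61 c) (Nat.ble 45 c)
noncomputable def Ptab_s_0_61 (c : Nat) : Nat := @Bool.rec (fun _ => Nat) (Ptab_s_0_30 c) (Ptab_s_30_61 c) (Nat.ble 30 c)
noncomputable def Ptab_s_62_64 (c : Nat) : Nat := @Bool.rec (fun _ => Nat) (Ptab_62) (Ptab_63) (Nat.ble 63 c)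
noncomputable def Ptab_s_61_64 (c : Nat) : Nat := @Bool.rec (fun _ => Nat) (Ptab_61) (Ptab_s_62_64 c) (Nat.ble 62 c)
noncomputable def Ptab_s_64_66 (c : Nat) : Nat := @Bool.rec (fun _ => Nat) (Ptab_64) (Ptab_65) (Nat.ble 65 c)
noncomputable def Ptab_s_66_68 (c : Nat) : Nat := @Bool.rec (fun _ => Nat) (Ptab_66) (Ptab_67) (Nat.ble 67 c)
noncomputable def Ptab_s_64_68 (c : Nat) : Nat := @Bool.rec (fun _ => Nat) (Ptab_s_64_66 c) (Ptab_s_66_68 c) (Nat.ble 66 c)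
noncomputable def Ptab_s_61_68 (c : Nat) : Nat := @Bool.rec (fun _ => Nat) (Ptab_s_61_64 c) (Ptab_s_64_68 c) (Nat.ble 64 c)
noncomputable def Ptab_s_68_70 (c : Nat) : Nat := @Bool.rec (fun _ => Nat) (Ptab_68) (Ptab_69) (Nat.ble 69 c)
noncomputable def Ptab_s_70_72 (c : Nat) : Nat := @Bool.rec (fun _ => Nat) (Ptab_70) (Ptab_71) (Nat.ble 71 c)
noncomputable def Ptab_s_68_72 (c : Nat) : Nat := @Bool.rec (fun _ => Nat) (Ptab_s_68_70 c) (Ptab_s_70_72 c) (Nat.ble 70 c)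
noncomputable def Ptab_s_72_74 (c : Nat) : Nat := @Bool.rec (fun _ => Nat) (Ptab_72) (Ptab_73) (Nat.ble 73 c)
noncomputable def Ptab_s_74_76 (c : Nat) : Nat := @Bool.rec (fun _ => Nat) (Ptab_74) (Ptab_75) (Nat.ble 75 c)
noncomputable def Ptab_s_72_76 (c : Nat) : Nat := @Bool.rec (fun _ => Nat) (Ptab_s_72_74 c) (Ptab_s_74_76 c) (Nat.ble 74 c)
noncomputable def Ptab_s_68_76 (c : Nat) : Nat := @Bool.rec (fun _ => Nat) (Ptab_s_68_72 c) (Ptab_s_72_76 c) (Nat.ble 72 c)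
noncomputable def Ptab_s_61_76 (c : Nat) : Nat := @Bool.rec (fun _ => Nat) (Ptab_s_61_68 c) (Ptab_s_68_76 c) (Nat.ble 68 c)
noncomputable def Ptab_s_77_79 (c : Nat) : Nat := @Bool.rec (fun _ => Nat) (Ptab_77) (Ptab_78) (Nat.ble 78 c)
noncomputable def Ptab_s_76_79 (c : Nat) : Nat := @Bool.rec (fun _ => Nat) (Ptab_76) (Ptab_s_77_79 c) (Nat.ble 77 c)
noncomputable def Ptab_s_79_81 (c : Nat) : Nat := @Bool.rec (fun _ => Nat) (Ptab_79) (Ptab_80) (Nat.ble 80 c)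
noncomputable def Ptab_s_81_83 (c : Nat) : Nat := @Bool.rec (fun _ => Nat) (Ptab_81) (Ptab_82) (Nat.ble 82 c)
noncomputable def Ptab_s_79_83 (c : Nat) : Nat := @Bool.rec (fun _ => Nat) (Ptab_s_79_81 c) (Ptab_s_81_83 c) (Nat.ble 81 c)
noncomputable def Ptab_s_76_83 (c : Nat) : Nat := @Bool.rec (fun _ => Nat) (Ptab_s_76_79 c) (Ptab_s_79_83 c) (Nat.ble 79 c)
noncomputable def Ptab_s_83_85 (c : Nat) : Nat := @Bool.rec (fun _ => Nat) (Ptab_83) (Ptab_84) (Nat.ble 84 c)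
noncomputable def Ptab_s_85_87 (c : Nat) : Nat := @Bool.rec (fun _ => Nat) (Ptab_85) (Ptab_86) (Nat.ble 86 c)
noncomputable def Ptab_s_83_87 (c : Nat) : Nat := @Bool.rec (fun _ => Nat) (Ptab_s_83_85 c) (Ptab_s_85_87 c) (Nat.ble 85 c)
noncomputable def Ptab_s_87_89 (c : Nat) : Nat := @Bool.rec (fun _ => Nat) (Ptab_87) (Ptab_88) (Nat.ble 88 c)
noncomputable def Ptab_s_89_91 (c : Nat) : Nat := @Bool.rec (fun _ => Nat) (Ptab_89) (Ptab_90) (Nat.ble 90 c)
noncomputable def Ptab_s_87_91 (c : Nat) : Nat := @Bool.rec (fun _ => Nat) (Ptab_s_87_89 c) (Ptab_s_89_91 c) (Nat.ble 89 c)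
noncomputable def Ptab_s_83_91 (c : Nat) : Nat := @Bool.rec (fun _ => Nat) (Ptab_s_83_87 c) (Ptab_s_87_91 c) (Nat.ble 87 c)
noncomputable def Ptab_s_76_91 (c : Nat) : Nat := @Bool.rec (fun _ => Nat) (Ptab_s_76_83 c) (Ptab_s_83_91 c) (Nat.ble 83 c)
noncomputable def Ptab_s_61_91 (c : Nat) : Nat := @Bool.rec (fun _ => Nat) (Ptab_s_61_76 c) (Ptab_s_76_91 c) (Nat.ble 76 c)
noncomputable def Ptab_s_92_94 (c : Nat) : Nat := @Bool.rec (fun _ => Nat) (Ptab_92) (Ptab_93) (Nat.ble 93 c)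
noncomputable def Ptab_s_91_94 (c : Nat) : Nat := @Bool.rec (fun _ => Nat) (Ptab_91) (Ptab_s_92_94 c) (Nat.ble 92 c)
noncomputable def Ptab_s_94_96 (c : Nat) : Nat := @Bool.rec (fun _ => Nat) (Ptab_94) (Ptab_95) (Nat.ble 95 c)
noncomputable def Ptab_s_96_98 (c : Nat) : Nat := @Bool.rec (fun _ => Nat) (Ptab_96) (Ptab_97) (Nat.ble 97 c)
noncomputable def Ptab_s_94_98 (c : Nat) : Nat := @Bool.rec (fun _ => Nat) (Ptab_s_94_96 c) (Ptab_s_96_98 c) (Nat.ble 96 c)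
noncomputable def Ptab_s_91_98 (c : Nat) : Nat := @Bool.rec (fun _ => Nat) (Ptab_s_91_94 c) (Ptab_s_94_98 c) (Nat.ble 94 c)
noncomputable def Ptab_s_98_100 (c : Nat) : Nat := @Bool.rec (fun _ => Nat) (Ptab_98) (Ptab_99) (Nat.ble 99 c)
noncomputable def Ptab_s_100_102 (c : Nat) : Nat := @Bool.rec (fun _ => Nat) (Ptab_100) (Ptab_101) (Nat.ble 101 c)
noncomputable def Ptab_s_98_102 (c : Nat) : Nat := @Bool.rec (fun _ => Nat) (Ptab_s_98_100 c) (Ptab_s_100_102 c) (Nat.ble 100 c)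
noncomputable def Ptab_s_102_104 (c : Nat) : Nat := @Bool.rec (fun _ => Nat) (Ptab_102) (Ptab_103) (Nat.ble 103 c)
noncomputable def Ptab_s_104_106 (c : Nat) : Nat := @Bool.rec (fun _ => Nat) (Ptab_104) (Ptab_105) (Nat.ble 105 c)
noncomputable def Ptab_s_102_106 (c : Nat) : Nat := @Bool.rec (fun _ => Nat) (Ptab_s_102_104 c) (Ptab_s_104_106 c) (Nat.ble 104 c)
noncomputable def Ptab_s_98_106 (c : Nat) : Nat := @Bool.rec (fun _ => Nat) (Ptab_s_98_102 c) (Ptab_s_102_106 c) (Nat.ble 102 c)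
noncomputable def Ptab_s_91_106 (c : Nat) : Nat := @Bool.rec (fun _ => Nat) (Ptab_s_91_98 c) (Ptab_s_98_106 c) (Nat.ble 98 c)
noncomputable def Ptab_s_106_108 (c : Nat) : Nat := @Bool.rec (fun _ => Nat) (Ptab_106) (Ptab_107) (Nat.ble 107 c)
noncomputable def Ptab_s_108_110 (c : Nat) : Nat := @Bool.rec (fun _ => Nat) (Ptab_108) (Ptab_109) (Nat.ble 109 c)
noncomputable def Ptab_s_106_110 (c : Nat) : Nat := @Bool.rec (fun _ => Nat) (Ptab_s_106_108 c) (Ptab_s_108_110 c) (Nat.ble 108 c)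
noncomputable def Ptab_s_110_112 (c : Nat) : Nat := @Bool.rec (fun _ => Nat) (Ptab_110) (Ptab_111) (Nat.ble 111 c)
noncomputable def Ptab_s_112_114 (c : Nat) : Nat := @Bool.rec (fun _ => Nat) (Ptab_112) (Ptab_113) (Nat.ble 113 c)
noncomputable def Ptab_s_110_114 (c : Nat) : Nat := @Bool.rec (fun _ => Nat) (Ptab_s_110_112 c) (Ptab_s_112_114 c) (Nat.ble 112 c)
noncomputable def Ptab_s_106_114 (c : Nat) : Nat := @Bool.rec (fun _ => Nat) (Ptab_s_106_110 c) (Ptab_s_110_114 c) (Nat.ble 110 c)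
noncomputable def Ptab_s_114_116 (c : Nat) : Nat := @Bool.rec (fun _ => Nat) (Ptab_114) (Ptab_115) (Nat.ble 115 c)
noncomputable def Ptab_s_116_118 (c : Nat) : Nat := @Bool.rec (fun _ => Nat) (Ptab_116) (Ptab_117) (Nat.ble 117 c)
noncomputable def Ptab_s_114_118 (c : Nat) : Nat := @Bool.rec (fun _ => Nat) (Ptab_s_114_116 c) (Ptab_s_116_118 c) (Nat.ble 116 c)
noncomputable def Ptab_s_118_120 (c : Nat) : Nat := @Bool.rec (fun _ => Nat) (Ptab_118) (Ptab_119) (Nat.ble 119 c)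
noncomputable def Ptab_s_120_122 (c : Nat) : Nat := @Bool.rec (fun _ => Nat) (Ptab_120) (Ptab_121) (Nat.ble 121 c)
noncomputable def Ptab_s_118_122 (c : Nat) : Nat := @Bool.rec (fun _ => Nat) (Ptab_s_118_120 c) (Ptab_s_120_122 c) (Nat.ble 120 c)
noncomputable def Ptab_s_114_122 (c : Nat) : Nat := @Bool.rec (fun _ => Nat) (Ptab_s_114_118 c) (Ptab_s_118_122 c) (Nat.ble 118 c)
noncomputable def Ptab_s_106_122 (c : Nat) : Nat := @Bool.rec (fun _ => Nat) (Ptab_s_106_114 c) (Ptab_s_114_122 c) (Nat.ble 114 c)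
noncomputable def Ptab_s_91_122 (c : Nat) : Nat := @Bool.rec (fun _ => Nat) (Ptab_s_91_106 c) (Ptab_s_106_122 c) (Nat.ble 106 c)
noncomputable def Ptab_s_61_122 (c : Nat) : Nat := @Bool.rec (fun _ => Nat) (Ptab_s_61_91 c) (Ptab_s_91_122 c) (Nat.ble 91 c)
noncomputable def Ptab_s_0_122 (c : Nat) : Nat := @Bool.rec (fun _ => Nat) (Ptab_s_0_61 c) (Ptab_s_61_122 c) (Nat.ble 61 c)
noncomputable def Ptab (i : Nat) : Nat := rdw 19 524287 (Ptab_s_0_122 (Nat.shiftRight i 12)) (Nat.land i 4095)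
noncomputable def RRtab (i : Nat) : Nat := rdw 5 31 RRtab_0 i
noncomputable def rBtab (i : Nat) : Nat := rdw 11 2047 rBtab_0 i
noncomputable def rLtab (i : Nat) : Nat := rdw 7 127 rLtab_0 i
noncomputable def nameTab_s_1_3 (c : Nat) : Nat := @Bool.rec (fun _ => Nat) (nameTab_1) (nameTab_2) (Nat.ble 2 c)
noncomputable def nameTab_s_0_3 (c : Nat) : Nat := @Bool.rec (fun _ => Nat) (nameTab_0) (nameTab_s_1_3 c) (Nat.ble 1 c)
noncomputable def nameTab_s_3_5 (c : Nat) : Nat := @Bool.rec (fun _ => Nat) (nameTab_3) (nameTab_4) (Nat.ble 4 c)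
noncomputable def nameTab_s_5_7 (c : Nat) : Nat := @Bool.rec (fun _ => Nat) (nameTab_5) (nameTab_6) (Nat.ble 6 c)
noncomputable def nameTab_s_3_7 (c : Nat) : Nat := @Bool.rec (fun _ => Nat) (nameTab_s_3_5 c) (nameTab_s_5_7 c) (Nat.ble 5 c)
noncomputable def nameTab_s_0_7 (c : Nat) : Nat := @Bool.rec (fun _ => Nat) (nameTab_s_0_3 c) (nameTab_s_3_7 c) (Nat.ble 3 c)
noncomputable def nameTab (i : Nat) : Nat := rdw 16 65535 (nameTab_s_0_7 (Nat.shiftRight i 12)) (Nat.land i 4095)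
noncomputable def col0_s_1_3 (c : Nat) : Nat := @Bool.rec (fun _ => Nat) (col0_1) (col0_2) (Nat.ble 2 c)
noncomputable def col0_s_0_3 (c : Nat) : Nat := @Bool.rec (fun _ => Nat) (col0_0) (col0_s_1_3 c) (Nat.ble 1 c)
noncomputable def col0_s_3_5 (c : Nat) : Nat := @Bool.rec (fun _ => Nat) (col0_3) (col0_4) (Nat.ble 4 c)
noncomputable def col0_s_5_7 (c : Nat) : Nat := @Bool.rec (fun _ => Nat) (col0_5) (col0_6) (Nat.ble 6 c)
noncomputable def col0_s_3_7 (c : Nat) : Nat := @Bool.rec (fun _ => Nat) (col0_s_3_5 c) (col0_s_5_7 c) (Nat.ble 5 c)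
noncomputable def col0_s_0_7 (c : Nat) : Nat := @Bool.rec (fun _ => Nat) (col0_s_0_3 c) (col0_s_3_7 c) (Nat.ble 3 c)
noncomputable def col0 (i : Nat) : Nat := rdw 15 32767 (col0_s_0_7 (Nat.shiftRight i 12)) (Nat.land i 4095)
noncomputable def col1_s_1_3 (c : Nat) : Nat := @Bool.rec (fun _ => Nat) (col1_1) (col1_2) (Nat.ble 2 c)
noncomputable def col1_s_0_3 (c : Nat) : Nat := @Bool.rec (fun _ => Nat) (col1_0) (col1_s_1_3 c) (Nat.ble 1 c)
noncomputable def col1_s_3_5 (c : Nat) : Nat := @Bool.rec (fun _ => Nat) (col1_3) (col1_4) (Nat.ble 4 c)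
noncomputable def col1_s_5_7 (c : Nat) : Nat := @Bool.rec (fun _ => Nat) (col1_5) (col1_6) (Nat.ble 6 c)
noncomputable def col1_s_3_7 (c : Nat) : Nat := @Bool.rec (fun _ => Nat) (col1_s_3_5 c) (col1_s_5_7 c) (Nat.ble 5 c)
noncomputable def col1_s_0_7 (c : Nat) : Nat := @Bool.rec (fun _ => Nat) (col1_s_0_3 c) (col1_s_3_7 c) (Nat.ble 3 c)
noncomputable def col1 (i : Nat) : Nat := rdw 15 32767 (col1_s_0_7 (Nat.shiftRight i 12)) (Nat.land i 4095)
noncomputable def col2_s_1_3 (c : Nat) : Nat := @Bool.rec (fun _ => Nat) (col2_1) (col2_2) (Nat.ble 2 c)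
noncomputable def col2_s_0_3 (c : Nat) : Nat := @Bool.rec (fun _ => Nat) (col2_0) (col2_s_1_3 c) (Nat.ble 1 c)
noncomputable def col2_s_3_5 (c : Nat) : Nat := @Bool.rec (fun _ => Nat) (col2_3) (col2_4) (Nat.ble 4 c)
noncomputable def col2_s_5_7 (c : Nat) : Nat := @Bool.rec (fun _ => Nat) (col2_5) (col2_6) (Nat.ble 6 c)
noncomputable def col2_s_3_7 (c : Nat) : Nat := @Bool.rec (fun _ => Nat) (col2_s_3_5 c) (col2_s_5_7 c) (Nat.ble 5 c)
noncomputable def col2_s_0_7 (c : Nat) : Nat := @Bool.rec (fun _ => Nat) (col2_s_0_3 c) (col2_s_3_7 c) (Nat.ble 3 c)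
noncomputable def col2 (i : Nat) : Nat := rdw 15 32767 (col2_s_0_7 (Nat.shiftRight i 12)) (Nat.land i 4095)
noncomputable def col3_s_1_3 (c : Nat) : Nat := @Bool.rec (fun _ => Nat) (col3_1) (col3_2) (Nat.ble 2 c)
noncomputable def col3_s_0_3 (c : Nat) : Nat := @Bool.rec (fun _ => Nat) (col3_0) (col3_s_1_3 c) (Nat.ble 1 c)
noncomputable def col3_s_3_5 (c : Nat) : Nat := @Bool.rec (fun _ => Nat) (col3_3) (col3_4) (Nat.ble 4 c)
noncomputable def col3_s_5_7 (c : Nat) : Nat := @Bool.rec (fun _ => Nat) (col3_5) (col3_6) (Nat.ble 6 c)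
noncomputable def col3_s_3_7 (c : Nat) : Nat := @Bool.rec (fun _ => Nat) (col3_s_3_5 c) (col3_s_5_7 c) (Nat.ble 5 c)
noncomputable def col3_s_0_7 (c : Nat) : Nat := @Bool.rec (fun _ => Nat) (col3_s_0_3 c) (col3_s_3_7 c) (Nat.ble 3 c)
noncomputable def col3 (i : Nat) : Nat := rdw 15 32767 (col3_s_0_7 (Nat.shiftRight i 12)) (Nat.land i 4095)
noncomputable def col4_s_1_3 (c : Nat) : Nat := @Bool.rec (fun _ => Nat) (col4_1) (col4_2) (Nat.ble 2 c)
noncomputable def col4_s_0_3 (c : Nat) : Nat := @Bool.rec (fun _ => Nat) (col4_0) (col4_s_1_3 c) (Nat.ble 1 c)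
noncomputable def col4_s_3_5 (c : Nat) : Nat := @Bool.rec (fun _ => Nat) (col4_3) (col4_4) (Nat.ble 4 c)
noncomputable def col4_s_5_7 (c : Nat) : Nat := @Bool.rec (fun _ => Nat) (col4_5) (col4_6) (Nat.ble 6 c)
noncomputable def col4_s_3_7 (c : Nat) : Nat := @Bool.rec (fun _ => Nat) (col4_s_3_5 c) (col4_s_5_7 c) (Nat.ble 5 c)
noncomputable def col4_s_0_7 (c : Nat) : Nat := @Bool.rec (fun _ => Nat) (col4_s_0_3 c) (col4_s_3_7 c) (Nat.ble 3 c)
noncomputable def col4 (i : Nat) : Nat := rdw 15 32767 (col4_s_0_7 (Nat.shiftRight i 12)) (Nat.land i 4095)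
noncomputable def col5_s_1_3 (c : Nat) : Nat := @Bool.rec (fun _ => Nat) (col5_1) (col5_2) (Nat.ble 2 c)
noncomputable def col5_s_0_3 (c : Nat) : Nat := @Bool.rec (fun _ => Nat) (col5_0) (col5_s_1_3 c) (Nat.ble 1 c)
noncomputable def col5_s_3_5 (c : Nat) : Nat := @Bool.rec (fun _ => Nat) (col5_3) (col5_4) (Nat.ble 4 c)
noncomputable def col5_s_5_7 (c : Nat) : Nat := @Bool.rec (fun _ => Nat) (col5_5) (col5_6) (Nat.ble 6 c)
noncomputable def col5_s_3_7 (c : Nat) : Nat := @Bool.rec (fun _ => Nat) (col5_s_3_5 c) (col5_s_5_7 c) (Nat.ble 5 c)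
noncomputable def col5_s_0_7 (c : Nat) : Nat := @Bool.rec (fun _ => Nat) (col5_s_0_3 c) (col5_s_3_7 c) (Nat.ble 3 c)
noncomputable def col5 (i : Nat) : Nat := rdw 15 32767 (col5_s_0_7 (Nat.shiftRight i 12)) (Nat.land i 4095)
noncomputable def col6_s_1_3 (c : Nat) : Nat := @Bool.rec (fun _ => Nat) (col6_1) (col6_2) (Nat.ble 2 c)
noncomputable def col6_s_0_3 (c : Nat) : Nat := @Bool.rec (fun _ => Nat) (col6_0) (col6_s_1_3 c) (Nat.ble 1 c)
noncomputable def col6_s_3_5 (c : Nat) : Nat := @Bool.rec (fun _ => Nat) (col6_3) (col6_4) (Nat.ble 4 c)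
noncomputable def col6_s_5_7 (c : Nat) : Nat := @Bool.rec (fun _ => Nat) (col6_5) (col6_6) (Nat.ble 6 c)
noncomputable def col6_s_3_7 (c : Nat) : Nat := @Bool.rec (fun _ => Nat) (col6_s_3_5 c) (col6_s_5_7 c) (Nat.ble 5 c)
noncomputable def col6_s_0_7 (c : Nat) : Nat := @Bool.rec (fun _ => Nat) (col6_s_0_3 c) (col6_s_3_7 c) (Nat.ble 3 c)
noncomputable def col6 (i : Nat) : Nat := rdw 15 32767 (col6_s_0_7 (Nat.shiftRight i 12)) (Nat.land i 4095)
noncomputable def col7_s_1_3 (c : Nat) : Nat := @Bool.rec (fun _ => Nat) (col7_1) (col7_2) (Nat.ble 2 c)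
noncomputable def col7_s_0_3 (c : Nat) : Nat := @Bool.rec (fun _ => Nat) (col7_0) (col7_s_1_3 c) (Nat.ble 1 c)
noncomputable def col7_s_3_5 (c : Nat) : Nat := @Bool.rec (fun _ => Nat) (col7_3) (col7_4) (Nat.ble 4 c)
noncomputable def col7_s_5_7 (c : Nat) : Nat := @Bool.rec (fun _ => Nat) (col7_5) (col7_6) (Nat.ble 6 c)
noncomputable def col7_s_3_7 (c : Nat) : Nat := @Bool.rec (fun _ => Nat) (col7_s_3_5 c) (col7_s_5_7 c) (Nat.ble 5 c)
noncomputable def col7_s_0_7 (c : Nat) : Nat := @Bool.rec (fun _ => Nat) (col7_s_0_3 c) (col7_s_3_7 c) (Nat.ble 3 c)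
noncomputable def col7 (i : Nat) : Nat := rdw 15 32767 (col7_s_0_7 (Nat.shiftRight i 12)) (Nat.land i 4095)
noncomputable def col8_s_1_3 (c : Nat) : Nat := @Bool.rec (fun _ => Nat) (col8_1) (col8_2) (Nat.ble 2 c)
noncomputable def col8_s_0_3 (c : Nat) : Nat := @Bool.rec (fun _ => Nat) (col8_0) (col8_s_1_3 c) (Nat.ble 1 c)
noncomputable def col8_s_3_5 (c : Nat) : Nat := @Bool.rec (fun _ => Nat) (col8_3) (col8_4) (Nat.ble 4 c)
noncomputable def col8_s_5_7 (c : Nat) : Nat := @Bool.rec (fun _ => Nat) (col8_5) (col8_6) (Nat.ble 6 c)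
noncomputable def col8_s_3_7 (c : Nat) : Nat := @Bool.rec (fun _ => Nat) (col8_s_3_5 c) (col8_s_5_7 c) (Nat.ble 5 c)
noncomputable def col8_s_0_7 (c : Nat) : Nat := @Bool.rec (fun _ => Nat) (col8_s_0_3 c) (col8_s_3_7 c) (Nat.ble 3 c)
noncomputable def col8 (i : Nat) : Nat := rdw 15 32767 (col8_s_0_7 (Nat.shiftRight i 12)) (Nat.land i 4095)
noncomputable def col9_s_1_3 (c : Nat) : Nat := @Bool.rec (fun _ => Nat) (col9_1) (col9_2) (Nat.ble 2 c)
noncomputable def col9_s_0_3 (c : Nat) : Nat := @Bool.rec (fun _ => Nat) (col9_0) (col9_s_1_3 c) (Nat.ble 1 c)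
noncomputable def col9_s_3_5 (c : Nat) : Nat := @Bool.rec (fun _ => Nat) (col9_3) (col9_4) (Nat.ble 4 c)
noncomputable def col9_s_5_7 (c : Nat) : Nat := @Bool.rec (fun _ => Nat) (col9_5) (col9_6) (Nat.ble 6 c)
noncomputable def col9_s_3_7 (c : Nat) : Nat := @Bool.rec (fun _ => Nat) (col9_s_3_5 c) (col9_s_5_7 c) (Nat.ble 5 c)
noncomputable def col9_s_0_7 (c : Nat) : Nat := @Bool.rec (fun _ => Nat) (col9_s_0_3 c) (col9_s_3_7 c) (Nat.ble 3 c)
noncomputable def col9 (i : Nat) : Nat := rdw 15 32767 (col9_s_0_7 (Nat.shiftRight i 12)) (Nat.land i 4095)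
noncomputable def finTab_s_0_2 (c : Nat) : Nat := @Bool.rec (fun _ => Nat) (finTab_0) (finTab_1) (Nat.ble 1 c)
noncomputable def finTab_s_2_4 (c : Nat) : Nat := @Bool.rec (fun _ => Nat) (finTab_2) (finTab_3) (Nat.ble 3 c)
noncomputable def finTab_s_0_4 (c : Nat) : Nat := @Bool.rec (fun _ => Nat) (finTab_s_0_2 c) (finTab_s_2_4 c) (Nat.ble 2 c)
noncomputable def finTab_s_4_6 (c : Nat) : Nat := @Bool.rec (fun _ => Nat) (finTab_4) (finTab_5) (Nat.ble 5 c)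
noncomputable def finTab_s_6_8 (c : Nat) : Nat := @Bool.rec (fun _ => Nat) (finTab_6) (finTab_7) (Nat.ble 7 c)
noncomputable def finTab_s_4_8 (c : Nat) : Nat := @Bool.rec (fun _ => Nat) (finTab_s_4_6 c) (finTab_s_6_8 c) (Nat.ble 6 c)
noncomputable def finTab_s_0_8 (c : Nat) : Nat := @Bool.rec (fun _ => Nat) (finTab_s_0_4 c) (finTab_s_4_8 c) (Nat.ble 4 c)
noncomputable def finTab_s_8_10 (c : Nat) : Nat := @Bool.rec (fun _ => Nat) (finTab_8) (finTab_9) (Nat.ble 9 c)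
noncomputable def finTab_s_10_12 (c : Nat) : Nat := @Bool.rec (fun _ => Nat) (finTab_10) (finTab_11) (Nat.ble 11 c)
noncomputable def finTab_s_8_12 (c : Nat) : Nat := @Bool.rec (fun _ => Nat) (finTab_s_8_10 c) (finTab_s_10_12 c) (Nat.ble 10 c)
noncomputable def finTab_s_12_14 (c : Nat) : Nat := @Bool.rec (fun _ => Nat) (finTab_12) (finTab_13) (Nat.ble 13 c)
noncomputable def finTab_s_15_17 (c : Nat) : Nat := @Bool.rec (fun _ => Nat) (finTab_15) (finTab_16) (Nat.ble 16 c)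
noncomputable def finTab_s_14_17 (c : Nat) : Nat := @Bool.rec (fun _ => Nat) (finTab_14) (finTab_s_15_17 c) (Nat.ble 15 c)
noncomputable def finTab_s_12_17 (c : Nat) : Nat := @Bool.rec (fun _ => Nat) (finTab_s_12_14 c) (finTab_s_14_17 c) (Nat.ble 14 c)
noncomputable def finTab_s_8_17 (c : Nat) : Nat := @Bool.rec (fun _ => Nat) (finTab_s_8_12 c) (finTab_s_12_17 c) (Nat.ble 12 c)
noncomputable def finTab_s_0_17 (c : Nat) : Nat := @Bool.rec (fun _ => Nat) (finTab_s_0_8 c) (finTab_s_8_17 c) (Nat.ble 8 c)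
noncomputable def finTab_s_17_19 (c : Nat) : Nat := @Bool.rec (fun _ => Nat) (finTab_17) (finTab_18) (Nat.ble 18 c)
noncomputable def finTab_s_19_21 (c : Nat) : Nat := @Bool.rec (fun _ => Nat) (finTab_19) (finTab_20) (Nat.ble 20 c)
noncomputable def finTab_s_17_21 (c : Nat) : Nat := @Bool.rec (fun _ => Nat) (finTab_s_17_19 c) (finTab_s_19_21 c) (Nat.ble 19 c)
noncomputable def finTab_s_21_23 (c : Nat) : Nat := @Bool.rec (fun _ => Nat) (finTab_21) (finTab_22) (Nat.ble 22 c)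
noncomputable def finTab_s_24_26 (c : Nat) : Nat := @Bool.rec (fun _ => Nat) (finTab_24) (finTab_25) (Nat.ble 25 c)
noncomputable def finTab_s_23_26 (c : Nat) : Nat := @Bool.rec (fun _ => Nat) (finTab_23) (finTab_s_24_26 c) (Nat.ble 24 c)
noncomputable def finTab_s_21_26 (c : Nat) : Nat := @Bool.rec (fun _ => Nat) (finTab_s_21_23 c) (finTab_s_23_26 c) (Nat.ble 23 c)
noncomputable def finTab_s_17_26 (c : Nat) : Nat := @Bool.rec (fun _ => Nat) (finTab_s_17_21 c) (finTab_s_21_26 c) (Nat.ble 21 c)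
noncomputable def finTab_s_26_28 (c : Nat) : Nat := @Bool.rec (fun _ => Nat) (finTab_26) (finTab_27) (Nat.ble 27 c)
noncomputable def finTab_s_28_30 (c : Nat) : Nat := @Bool.rec (fun _ => Nat) (finTab_28) (finTab_29) (Nat.ble 29 c)
noncomputable def finTab_s_26_30 (c : Nat) : Nat := @Bool.rec (fun _ => Nat) (finTab_s_26_28 c) (finTab_s_28_30 c) (Nat.ble 28 c)
noncomputable def finTab_s_30_32 (c : Nat) : Nat := @Bool.rec (fun _ => Nat) (finTab_30) (finTab_31) (Nat.ble 31 c)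
noncomputable def finTab_s_33_35 (c : Nat) : Nat := @Bool.rec (fun _ => Nat) (finTab_33) (finTab_34) (Nat.ble 34 c)
noncomputable def finTab_s_32_35 (c : Nat) : Nat := @Bool.rec (fun _ => Nat) (finTab_32) (finTab_s_33_35 c) (Nat.ble 33 c)
noncomputable def finTab_s_30_35 (c : Nat) : Nat := @Bool.rec (fun _ => Nat) (finTab_s_30_32 c) (finTab_s_32_35 c) (Nat.ble 32 c)
noncomputable def finTab_s_26_35 (c : Nat) : Nat := @Bool.rec (fun _ => Nat) (finTab_s_26_30 c) (finTab_s_30_35 c) (Nat.ble 30 c)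
noncomputable def finTab_s_17_35 (c : Nat) : Nat := @Bool.rec (fun _ => Nat) (finTab_s_17_26 c) (finTab_s_26_35 c) (Nat.ble 26 c)
noncomputable def finTab_s_0_35 (c : Nat) : Nat := @Bool.rec (fun _ => Nat) (finTab_s_0_17 c) (finTab_s_17_35 c) (Nat.ble 17 c)
noncomputable def finTab_s_35_37 (c : Nat) : Nat := @Bool.rec (fun _ => Nat) (finTab_35) (finTab_36) (Nat.ble 36 c)
noncomputable def finTab_s_37_39 (c : Nat) : Nat := @Bool.rec (fun _ => Nat) (finTab_37) (finTab_38) (Nat.ble 38 c)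
noncomputable def finTab_s_35_39 (c : Nat) : Nat := @Bool.rec (fun _ => Nat) (finTab_s_35_37 c) (finTab_s_37_39 c) (Nat.ble 37 c)
noncomputable def finTab_s_39_41 (c : Nat) : Nat := @Bool.rec (fun _ => Nat) (finTab_39) (finTab_40) (Nat.ble 40 c)
noncomputable def finTab_s_41_43 (c : Nat) : Nat := @Bool.rec (fun _ => Nat) (finTab_41) (finTab_42) (Nat.ble 42 c)
noncomputable def finTab_s_39_43 (c : Nat) : Nat := @Bool.rec (fun _ => Nat) (finTab_s_39_41 c) (finTab_s_41_43 c) (Nat.ble 41 c)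
noncomputable def finTab_s_35_43 (c : Nat) : Nat := @Bool.rec (fun _ => Nat) (finTab_s_35_39 c) (finTab_s_39_43 c) (Nat.ble 39 c)
noncomputable def finTab_s_43_45 (c : Nat) : Nat := @Bool.rec (fun _ => Nat) (finTab_43) (finTab_44) (Nat.ble 44 c)
noncomputable def finTab_s_45_47 (c : Nat) : Nat := @Bool.rec (fun _ => Nat) (finTab_45) (finTab_46) (Nat.ble 46 c)
noncomputable def finTab_s_43_47 (c : Nat) : Nat := @Bool.rec (fun _ => Nat) (finTab_s_43_45 c) (finTab_s_45_47 c) (Nat.ble 45 c)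
noncomputable def finTab_s_47_49 (c : Nat) : Nat := @Bool.rec (fun _ => Nat) (finTab_47) (finTab_48) (Nat.ble 48 c)
noncomputable def finTab_s_50_52 (c : Nat) : Nat := @Bool.rec (fun _ => Nat) (finTab_50) (finTab_51) (Nat.ble 51 c)
noncomputable def finTab_s_49_52 (c : Nat) : Nat := @Bool.rec (fun _ => Nat) (finTab_49) (finTab_s_50_52 c) (Nat.ble 50 c)
noncomputable def finTab_s_47_52 (c : Nat) : Nat := @Bool.rec (fun _ => Nat) (finTab_s_47_49 c) (finTab_s_49_52 c) (Nat.ble 49 c)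
noncomputable def finTab_s_43_52 (c : Nat) : Nat := @Bool.rec (fun _ => Nat) (finTab_s_43_47 c) (finTab_s_47_52 c) (Nat.ble 47 c)
noncomputable def finTab_s_35_52 (c : Nat) : Nat := @Bool.rec (fun _ => Nat) (finTab_s_35_43 c) (finTab_s_43_52 c) (Nat.ble 43 c)
noncomputable def finTab_s_52_54 (c : Nat) : Nat := @Bool.rec (fun _ => Nat) (finTab_52) (finTab_53) (Nat.ble 53 c)
noncomputable def finTab_s_54_56 (c : Nat) : Nat := @Bool.rec (fun _ => Nat) (finTab_54) (finTab_55) (Nat.ble 55 c)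
noncomputable def finTab_s_52_56 (c : Nat) : Nat := @Bool.rec (fun _ => Nat) (finTab_s_52_54 c) (finTab_s_54_56 c) (Nat.ble 54 c)
noncomputable def finTab_s_56_58 (c : Nat) : Nat := @Bool.rec (fun _ => Nat) (finTab_56) (finTab_57) (Nat.ble 57 c)
noncomputable def finTab_s_59_61 (c : Nat) : Nat := @Bool.rec (fun _ => Nat) (finTab_59) (finTab_60) (Nat.ble 60 c)
noncomputable def finTab_s_58_61 (c : Nat) : Nat := @Bool.rec (fun _ => Nat) (finTab_58) (finTab_s_59_61 c) (Nat.ble 59 c)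
noncomputable def finTab_s_56_61 (c : Nat) : Nat := @Bool.rec (fun _ => Nat) (finTab_s_56_58 c) (finTab_s_58_61 c) (Nat.ble 58 c)
noncomputable def finTab_s_52_61 (c : Nat) : Nat := @Bool.rec (fun _ => Nat) (finTab_s_52_56 c) (finTab_s_56_61 c) (Nat.ble 56 c)
noncomputable def finTab_s_61_63 (c : Nat) : Nat := @Bool.rec (fun _ => Nat) (finTab_61) (finTab_62) (Nat.ble 62 c)
noncomputable def finTab_s_63_65 (c : Nat) : Nat := @Bool.rec (fun _ => Nat) (finTab_63) (finTab_64) (Nat.ble 64 c)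
noncomputable def finTab_s_61_65 (c : Nat) : Nat := @Bool.rec (fun _ => Nat) (finTab_s_61_63 c) (finTab_s_63_65 c) (Nat.ble 63 c)
noncomputable def finTab_s_65_67 (c : Nat) : Nat := @Bool.rec (fun _ => Nat) (finTab_65) (finTab_66) (Nat.ble 66 c)
noncomputable def finTab_s_68_70 (c : Nat) : Nat := @Bool.rec (fun _ => Nat) (finTab_68) (finTab_69) (Nat.ble 69 c)
noncomputable def finTab_s_67_70 (c : Nat) : Nat := @Bool.rec (fun _ => Nat) (finTab_67) (finTab_s_68_70 c) (Nat.ble 68 c)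
noncomputable def finTab_s_65_70 (c : Nat) : Nat := @Bool.rec (fun _ => Nat) (finTab_s_65_67 c) (finTab_s_67_70 c) (Nat.ble 67 c)
noncomputable def finTab_s_61_70 (c : Nat) : Nat := @Bool.rec (fun _ => Nat) (finTab_s_61_65 c) (finTab_s_65_70 c) (Nat.ble 65 c)
noncomputable def finTab_s_52_70 (c : Nat) : Nat := @Bool.rec (fun _ => Nat) (finTab_s_52_61 c) (finTab_s_61_70 c) (Nat.ble 61 c)
noncomputable def finTab_s_35_70 (c : Nat) : Nat := @Bool.rec (fun _ => Nat) (finTab_s_35_52 c) (finTab_s_52_70 c) (Nat.ble 52 c)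
noncomputable def finTab_s_0_70 (c : Nat) : Nat := @Bool.rec (fun _ => Nat) (finTab_s_0_35 c) (finTab_s_35_70 c) (Nat.ble 35 c)
noncomputable def finTab (i : Nat) : Nat := rdw 19 524287 (finTab_s_0_70 (Nat.shiftRight i 12)) (Nat.land i 4095)
noncomputable def clsTab_s_0_2 (c : Nat) : Nat := @Bool.rec (fun _ => Nat) (clsTab_0) (clsTab_1) (Nat.ble 1 c)
noncomputable def clsTab_s_3_5 (c : Nat) : Nat := @Bool.rec (fun _ => Nat) (clsTab_3) (clsTab_4) (Nat.ble 4 c)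
noncomputable def clsTab_s_2_5 (c : Nat) : Nat := @Bool.rec (fun _ => Nat) (clsTab_2) (clsTab_s_3_5 c) (Nat.ble 3 c)
noncomputable def clsTab_s_0_5 (c : Nat) : Nat := @Bool.rec (fun _ => Nat) (clsTab_s_0_2 c) (clsTab_s_2_5 c) (Nat.ble 2 c)
noncomputable def clsTab_s_5_7 (c : Nat) : Nat := @Bool.rec (fun _ => Nat) (clsTab_5) (clsTab_6) (Nat.ble 6 c)
noncomputable def clsTab_s_8_10 (c : Nat) : Nat := @Bool.rec (fun _ => Nat) (clsTab_8) (clsTab_9) (Nat.ble 9 c)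
noncomputable def clsTab_s_7_10 (c : Nat) : Nat := @Bool.rec (fun _ => Nat) (clsTab_7) (clsTab_s_8_10 c) (Nat.ble 8 c)
noncomputable def clsTab_s_5_10 (c : Nat) : Nat := @Bool.rec (fun _ => Nat) (clsTab_s_5_7 c) (clsTab_s_7_10 c) (Nat.ble 7 c)
noncomputable def clsTab_s_0_10 (c : Nat) : Nat := @Bool.rec (fun _ => Nat) (clsTab_s_0_5 c) (clsTab_s_5_10 c) (Nat.ble 5 c)
noncomputable def clsTab (i : Nat) : Nat := rdw 15 32767 (clsTab_s_0_10 (Nat.shiftRight i 12)) (Nat.land i 4095)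
noncomputable def oparTab_s_1_3 (c : Nat) : Nat := @Bool.rec (fun _ => Nat) (oparTab_1) (oparTab_2) (Nat.ble 2 c)
noncomputable def oparTab_s_0_3 (c : Nat) : Nat := @Bool.rec (fun _ => Nat) (oparTab_0) (oparTab_s_1_3 c) (Nat.ble 1 c)
noncomputable def oparTab_s_3_5 (c : Nat) : Nat := @Bool.rec (fun _ => Nat) (oparTab_3) (oparTab_4) (Nat.ble 4 c)
noncomputable def oparTab_s_5_7 (c : Nat) : Nat := @Bool.rec (fun _ => Nat) (oparTab_5) (oparTab_6) (Nat.ble 6 c)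
noncomputable def oparTab_s_3_7 (c : Nat) : Nat := @Bool.rec (fun _ => Nat) (oparTab_s_3_5 c) (oparTab_s_5_7 c) (Nat.ble 5 c)
noncomputable def oparTab_s_0_7 (c : Nat) : Nat := @Bool.rec (fun _ => Nat) (oparTab_s_0_3 c) (oparTab_s_3_7 c) (Nat.ble 3 c)
noncomputable def oparTab (i : Nat) : Nat := rdw 15 32767 (oparTab_s_0_7 (Nat.shiftRight i 12)) (Nat.land i 4095)
noncomputable def olabTab_s_0_2 (c : Nat) : Nat := @Bool.rec (fun _ => Nat) (olabTab_0) (olabTab_1) (Nat.ble 1 c)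
noncomputable def olabTab (i : Nat) : Nat := rdw 4 15 (olabTab_s_0_2 (Nat.shiftRight i 14)) (Nat.land i 16383)
noncomputable def srcF (t : Nat) : Nat := Nat.land (Atab t) 65535
noncomputable def tgtF (t : Nat) : Nat := Nat.land (Nat.shiftRight (Atab t) 16) 65535
noncomputable def ltF (t : Nat) : Nat := Nat.shiftRight (Atab t) 32
noncomputable def rhoF (t : Nat) : Nat := Nat.land (Btab (Nat.sub t 38064)) 255
noncomputable def rotF (t : Nat) : Nat := Nat.land (Nat.shiftRight (Btab (Nat.sub t 38064)) 8) 127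
noncomputable def lenF (t : Nat) : Nat := Nat.land (Nat.shiftRight (Btab (Nat.sub t 38064)) 15) 127
noncomputable def offF (t : Nat) : Nat := Nat.shiftRight (Btab (Nat.sub t 38064)) 22
noncomputable def pfF (j : Nat) : Nat := Nat.shiftRight (Ptab j) 1
noncomputable def pdF (j : Nat) : Nat := Nat.land (Ptab j) 1
noncomputable def tblF (i x : Nat) : Nat := @Bool.rec (fun _ => Nat) (@Bool.rec (fun _ => Nat) (@Bool.rec (fun _ => Nat) (col0 i) (col1 i) (Nat.ble 1 x)) (@Bool.rec (fun _ => Nat) (col2 i) (@Bool.rec (fun _ => Nat) (col3 i) (col4 i) (Nat.ble 4 x)) (Nat.ble 3 x)) (Nat.ble 2 x)) (@Bool.rec (fun _ => Nat) (@Bool.rec (fun _ => Nat) (col5 i) (col6 i) (Nat.ble 6 x)) (@Bool.rec (fun _ => Nat) (col7 i) (@Bool.rec (fun _ => Nat) (col8 i) (col9 i) (Nat.ble 9 x)) (Nat.ble 8 x)) (Nat.ble 7 x)) (Nat.ble 5 x)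
noncomputable def finE (i x : Nat) : Nat := finTab (Nat.add (Nat.mul i 10) x)
noncomputable def finFF (i x : Nat) : Nat := Nat.shiftRight (finE i x) 1
noncomputable def finDF (i x : Nat) : Nat := Nat.land (finE i x) 1

noncomputable def D : Log :=
  { k := 10, inv := invE 10 PFi24Q.invR, nR := 150, rBase := rBtab, rLen := rLtab, RR := RRtab,
    M := 38046, nB := 18, F := 191646, src := srcF, lt := ltF, tgt := tgtF, rho := rhoF, rot := rotF,
    off := offF, len := lenF, pf := pfF, pd := pdF }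

noncomputable def T : Tab :=
  { N := 28431, nameOf := nameTab, tbl := tblF, finF := finFF, finD := finDF, cls := clsTab }

def subs : List (List Nat) := [
  [0],
  [1],
  [2],
  [3],
  [4],
  [5],
  [6],
  [7],
  [8] ]

def rw0 : List Nat := [0, 0]
def rw1 : List Nat := [0, 1, 0, 1, 0, 1]
def rw2 : List Nat := [0, 2, 0, 2]
def rw3 : List Nat := [0, 3, 0, 3]
def rw4 : List Nat := [0, 4, 0, 4]
def rw5 : List Nat := [0, 5, 0, 5]
def rw6 : List Nat := [0, 6, 0, 6]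
def rw7 : List Nat := [0, 8, 0, 8]
def rw8 : List Nat := [0, 7, 0, 7]
def rw9 : List Nat := [0, 9, 0, 9]
def rw10 : List Nat := [1, 1]
def rw11 : List Nat := [1, 2, 1, 2, 1, 2]
def rw12 : List Nat := [1, 3, 1, 3]
def rw13 : List Nat := [1, 4, 1, 4]
def rw14 : List Nat := [1, 5, 1, 5]
def rw15 : List Nat := [1, 6, 1, 6]
def rw16 : List Nat := [1, 8, 1, 8]
def rw17 : List Nat := [1, 7, 1, 7]
def rw18 : List Nat := [1, 9, 1, 9]
def rw19 : List Nat := [2, 2]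
def rw20 : List Nat := [2, 3, 2, 3, 2, 3]
def rw21 : List Nat := [2, 4, 2, 4]
def rw22 : List Nat := [2, 5, 2, 5]
def rw23 : List Nat := [2, 6, 2, 6]
def rw24 : List Nat := [2, 8, 2, 8]
def rw25 : List Nat := [2, 7, 2, 7]
def rw26 : List Nat := [2, 9, 2, 9]
def rw27 : List Nat := [3, 3]
def rw28 : List Nat := [3, 4, 3, 4, 3, 4]
def rw29 : List Nat := [3, 5, 3, 5]
def rw30 : List Nat := [3, 6, 3, 6]
def rw31 : List Nat := [3, 8, 3, 8]
def rw32 : List Nat := [3, 7, 3, 7]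
def rw33 : List Nat := [3, 9, 3, 9]
def rw34 : List Nat := [4, 4]
def rw35 : List Nat := [4, 5, 4, 5, 4, 5]
def rw36 : List Nat := [4, 6, 4, 6]
def rw37 : List Nat := [4, 8, 4, 8]
def rw38 : List Nat := [4, 7, 4, 7]
def rw39 : List Nat := [4, 9, 4, 9]
def rw40 : List Nat := [5, 5]
def rw41 : List Nat := [5, 6, 5, 6, 5, 6]
def rw42 : List Nat := [5, 8, 5, 8, 5, 8]
def rw43 : List Nat := [5, 7, 5, 7]
def rw44 : List Nat := [5, 9, 5, 9]
def rw45 : List Nat := [6, 6]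
def rw46 : List Nat := [6, 8, 6, 8]
def rw47 : List Nat := [6, 7, 6, 7, 6, 7]
def rw48 : List Nat := [6, 9, 6, 9]
def rw49 : List Nat := [8, 8]
def rw50 : List Nat := [8, 7, 8, 7]
def rw51 : List Nat := [8, 9, 8, 9, 8, 9]
def rw52 : List Nat := [7, 7]
def rw53 : List Nat := [7, 9, 7, 9]
def rw54 : List Nat := [9, 9]
def rw55 : List Nat := [0, 8, 7, 6, 5, 4, 3, 2, 8, 7, 6, 5, 4, 3, 2, 8, 7, 6, 5, 4, 3, 2, 8, 7, 6, 5, 4, 3, 2, 8, 7, 6, 5, 4, 3, 2, 8, 7, 6, 5, 4, 3, 2, 8, 7, 6, 5, 4, 3, 2, 8, 7, 6, 5, 4, 3, 2, 8, 7, 6, 5, 4, 3, 2]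
def realLit : List (List Nat) := [rw0, rw1, rw2, rw3, rw4, rw5, rw6, rw7, rw8, rw9, rw10, rw11, rw12, rw13, rw14, rw15, rw16, rw17, rw18, rw19, rw20, rw21, rw22, rw23, rw24, rw25, rw26, rw27, rw28, rw29, rw30, rw31, rw32, rw33, rw34, rw35, rw36, rw37, rw38, rw39, rw40, rw41, rw42, rw43, rw44, rw45, rw46, rw47, rw48, rw49, rw50, rw51, rw52, rw53, rw54, rw55]
noncomputable def actR0 (i : Nat) : Nat := col0 (col0 (i))
theorem actR0_eq (i : Nat) : actR0 i = Tab.act T D rw0 i := rfl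
noncomputable def actR1 (i : Nat) : Nat := col0 (col1 (col0 (col1 (col0 (col1 (i))))))
theorem actR1_eq (i : Nat) : actR1 i = Tab.act T D rw1 i := rfl
noncomputable def actR2 (i : Nat) : Nat := col0 (col2 (col0 (col2 (i))))
theorem actR2_eq (i : Nat) : actR2 i = Tab.act T D rw2 i := rfl
noncomputable def actR3 (i : Nat) : Nat := col0 (col3 (col0 (col3 (i))))
theorem actR3_eq (i : Nat) : actR3 i = Tab.act T D rw3 i := rfl
noncomputable def actR4 (i : Nat) : Nat := col0 (col4 (col0 (col4 (i))))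
theorem actR4_eq (i : Nat) : actR4 i = Tab.act T D rw4 i := rfl
noncomputable def actR5 (i : Nat) : Nat := col0 (col5 (col0 (col5 (i))))
theorem actR5_eq (i : Nat) : actR5 i = Tab.act T D rw5 i := rfl
noncomputable def actR6 (i : Nat) : Nat := col0 (col6 (col0 (col6 (i))))
theorem actR6_eq (i : Nat) : actR6 i = Tab.act T D rw6 i := rfl
noncomputable def actR7 (i : Nat) : Nat := col0 (col8 (col0 (col8 (i))))
theorem actR7_eq (i : Nat) : actR7 i = Tab.act T D rw7 i := rfl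
noncomputable def actR8 (i : Nat) : Nat := col0 (col7 (col0 (col7 (i))))
theorem actR8_eq (i : Nat) : actR8 i = Tab.act T D rw8 i := rfl
noncomputable def actR9 (i : Nat) : Nat := col0 (col9 (col0 (col9 (i))))
theorem actR9_eq (i : Nat) : actR9 i = Tab.act T D rw9 i := rfl
noncomputable def actR10 (i : Nat) : Nat := col1 (col1 (i))
theorem actR10_eq (i : Nat) : actR10 i = Tab.act T D rw10 i := rfl
noncomputable def actR11 (i : Nat) : Nat := col1 (col2 (col1 (col2 (col1 (col2 (i))))))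
theorem actR11_eq (i : Nat) : actR11 i = Tab.act T D rw11 i := rfl
noncomputable def actR12 (i : Nat) : Nat := col1 (col3 (col1 (col3 (i))))
theorem actR12_eq (i : Nat) : actR12 i = Tab.act T D rw12 i := rfl
noncomputable def actR13 (i : Nat) : Nat := col1 (col4 (col1 (col4 (i))))
theorem actR13_eq (i : Nat) : actR13 i = Tab.act T D rw13 i := rfl
noncomputable def actR14 (i : Nat) : Nat := col1 (col5 (col1 (col5 (i))))
theorem actR14_eq (i : Nat) : actR14 i = Tab.act T D rw14 i := rfl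
noncomputable def actR15 (i : Nat) : Nat := col1 (col6 (col1 (col6 (i))))
theorem actR15_eq (i : Nat) : actR15 i = Tab.act T D rw15 i := rfl
noncomputable def actR16 (i : Nat) : Nat := col1 (col8 (col1 (col8 (i))))
theorem actR16_eq (i : Nat) : actR16 i = Tab.act T D rw16 i := rfl
noncomputable def actR17 (i : Nat) : Nat := col1 (col7 (col1 (col7 (i))))
theorem actR17_eq (i : Nat) : actR17 i = Tab.act T D rw17 i := rfl
noncomputable def actR18 (i : Nat) : Nat := col1 (col9 (col1 (col9 (i))))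
theorem actR18_eq (i : Nat) : actR18 i = Tab.act T D rw18 i := rfl
noncomputable def actR19 (i : Nat) : Nat := col2 (col2 (i))
theorem actR19_eq (i : Nat) : actR19 i = Tab.act T D rw19 i := rfl
noncomputable def actR20 (i : Nat) : Nat := col2 (col3 (col2 (col3 (col2 (col3 (i))))))
theorem actR20_eq (i : Nat) : actR20 i = Tab.act T D rw20 i := rfl
noncomputable def actR21 (i : Nat) : Nat := col2 (col4 (col2 (col4 (i))))
theorem actR21_eq (i : Nat) : actR21 i = Tab.act T D rw21 i := rfl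
noncomputable def actR22 (i : Nat) : Nat := col2 (col5 (col2 (col5 (i))))
theorem actR22_eq (i : Nat) : actR22 i = Tab.act T D rw22 i := rfl
noncomputable def actR23 (i : Nat) : Nat := col2 (col6 (col2 (col6 (i))))
theorem actR23_eq (i : Nat) : actR23 i = Tab.act T D rw23 i := rfl
noncomputable def actR24 (i : Nat) : Nat := col2 (col8 (col2 (col8 (i))))
theorem actR24_eq (i : Nat) : actR24 i = Tab.act T D rw24 i := rfl
noncomputable def actR25 (i : Nat) : Nat := col2 (col7 (col2 (col7 (i))))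
theorem actR25_eq (i : Nat) : actR25 i = Tab.act T D rw25 i := rfl
noncomputable def actR26 (i : Nat) : Nat := col2 (col9 (col2 (col9 (i))))
theorem actR26_eq (i : Nat) : actR26 i = Tab.act T D rw26 i := rfl
noncomputable def actR27 (i : Nat) : Nat := col3 (col3 (i))
theorem actR27_eq (i : Nat) : actR27 i = Tab.act T D rw27 i := rfl
noncomputable def actR28 (i : Nat) : Nat := col3 (col4 (col3 (col4 (col3 (col4 (i))))))
theorem actR28_eq (i : Nat) : actR28 i = Tab.act T D rw28 i := rfl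
noncomputable def actR29 (i : Nat) : Nat := col3 (col5 (col3 (col5 (i))))
theorem actR29_eq (i : Nat) : actR29 i = Tab.act T D rw29 i := rfl
noncomputable def actR30 (i : Nat) : Nat := col3 (col6 (col3 (col6 (i))))
theorem actR30_eq (i : Nat) : actR30 i = Tab.act T D rw30 i := rfl
noncomputable def actR31 (i : Nat) : Nat := col3 (col8 (col3 (col8 (i))))
theorem actR31_eq (i : Nat) : actR31 i = Tab.act T D rw31 i := rfl
noncomputable def actR32 (i : Nat) : Nat := col3 (col7 (col3 (col7 (i))))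
theorem actR32_eq (i : Nat) : actR32 i = Tab.act T D rw32 i := rfl
noncomputable def actR33 (i : Nat) : Nat := col3 (col9 (col3 (col9 (i))))
theorem actR33_eq (i : Nat) : actR33 i = Tab.act T D rw33 i := rfl
noncomputable def actR34 (i : Nat) : Nat := col4 (col4 (i))
theorem actR34_eq (i : Nat) : actR34 i = Tab.act T D rw34 i := rfl
noncomputable def actR35 (i : Nat) : Nat := col4 (col5 (col4 (col5 (col4 (col5 (i))))))
theorem actR35_eq (i : Nat) : actR35 i = Tab.act T D rw35 i := rfl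
noncomputable def actR36 (i : Nat) : Nat := col4 (col6 (col4 (col6 (i))))
theorem actR36_eq (i : Nat) : actR36 i = Tab.act T D rw36 i := rfl
noncomputable def actR37 (i : Nat) : Nat := col4 (col8 (col4 (col8 (i))))
theorem actR37_eq (i : Nat) : actR37 i = Tab.act T D rw37 i := rfl
noncomputable def actR38 (i : Nat) : Nat := col4 (col7 (col4 (col7 (i))))
theorem actR38_eq (i : Nat) : actR38 i = Tab.act T D rw38 i := rfl
noncomputable def actR39 (i : Nat) : Nat := col4 (col9 (col4 (col9 (i))))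
theorem actR39_eq (i : Nat) : actR39 i = Tab.act T D rw39 i := rfl
noncomputable def actR40 (i : Nat) : Nat := col5 (col5 (i))
theorem actR40_eq (i : Nat) : actR40 i = Tab.act T D rw40 i := rfl
noncomputable def actR41 (i : Nat) : Nat := col5 (col6 (col5 (col6 (col5 (col6 (i))))))
theorem actR41_eq (i : Nat) : actR41 i = Tab.act T D rw41 i := rfl
noncomputable def actR42 (i : Nat) : Nat := col5 (col8 (col5 (col8 (col5 (col8 (i))))))
theorem actR42_eq (i : Nat) : actR42 i = Tab.act T D rw42 i := rfl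
noncomputable def actR43 (i : Nat) : Nat := col5 (col7 (col5 (col7 (i))))
theorem actR43_eq (i : Nat) : actR43 i = Tab.act T D rw43 i := rfl
noncomputable def actR44 (i : Nat) : Nat := col5 (col9 (col5 (col9 (i))))
theorem actR44_eq (i : Nat) : actR44 i = Tab.act T D rw44 i := rfl
noncomputable def actR45 (i : Nat) : Nat := col6 (col6 (i))
theorem actR45_eq (i : Nat) : actR45 i = Tab.act T D rw45 i := rfl
noncomputable def actR46 (i : Nat) : Nat := col6 (col8 (col6 (col8 (i))))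
theorem actR46_eq (i : Nat) : actR46 i = Tab.act T D rw46 i := rfl
noncomputable def actR47 (i : Nat) : Nat := col6 (col7 (col6 (col7 (col6 (col7 (i))))))
theorem actR47_eq (i : Nat) : actR47 i = Tab.act T D rw47 i := rfl
noncomputable def actR48 (i : Nat) : Nat := col6 (col9 (col6 (col9 (i))))
theorem actR48_eq (i : Nat) : actR48 i = Tab.act T D rw48 i := rfl
noncomputable def actR49 (i : Nat) : Nat := col8 (col8 (i))
theorem actR49_eq (i : Nat) : actR49 i = Tab.act T D rw49 i := rfl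
noncomputable def actR50 (i : Nat) : Nat := col8 (col7 (col8 (col7 (i))))
theorem actR50_eq (i : Nat) : actR50 i = Tab.act T D rw50 i := rfl
noncomputable def actR51 (i : Nat) : Nat := col8 (col9 (col8 (col9 (col8 (col9 (i))))))
theorem actR51_eq (i : Nat) : actR51 i = Tab.act T D rw51 i := rfl
noncomputable def actR52 (i : Nat) : Nat := col7 (col7 (i))
theorem actR52_eq (i : Nat) : actR52 i = Tab.act T D rw52 i := rfl
noncomputable def actR53 (i : Nat) : Nat := col7 (col9 (col7 (col9 (i))))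
theorem actR53_eq (i : Nat) : actR53 i = Tab.act T D rw53 i := rfl
noncomputable def actR54 (i : Nat) : Nat := col9 (col9 (i))
theorem actR54_eq (i : Nat) : actR54 i = Tab.act T D rw54 i := rfl
noncomputable def actR55 (i : Nat) : Nat := col0 (col8 (col7 (col6 (col5 (col4 (col3 (col2 (col8 (col7 (col6 (col5 (col4 (col3 (col2 (col8 (col7 (col6 (col5 (col4 (col3 (col2 (col8 (col7 (col6 (col5 (col4 (col3 (col2 (col8 (col7 (col6 (col5 (col4 (col3 (col2 (col8 (col7 (col6 (col5 (col4 (col3 (col2 (col8 (col7 (col6 (col5 (col4 (col3 (col2 (col8 (col7 (col6 (col5 (col4 (col3 (col2 (col8 (col7 (col6 (col5 (col4 (col3 (col2 (i))))))))))))))))))))))))))))))))))))))))))))))))))))))))))))))))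
theorem actR55_eq (i : Nat) : actR55 i = Tab.act T D rw55 i := rfl

end Cfsg.Agent.Lib.Helper4.TCD.Fi24Qa
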