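import Cfsg.Agent.Lib.Helper4.TC11
import Cfsg.Agent.Lib.Helper4.TCD_Fi24Qa_Acc
import Cfsg.Agent.Lib.Helper4.TCD_Fi24QL_D0

namespace Cfsg.Agent.Lib.Helper4.TCD.Fi24QL

open Cfsg.Agent.Lib.Helper4.TC Cfsg.Agent.Lib.Helper4.TCD.Fi24Qa

set_option maxRecDepth 100000

noncomputable def st10_s_1_3 (c : Nat) : Nat := @Bool.rec (fun _ => Nat) (st10_1) (st10_2) (Nat.ble 2 c)
noncomputable def st10_s_0_3 (c : Nat) : Nat := @Bool.rec (fun _ => Nat) (st10_0) (st10_s_1_3 c) (Nat.ble 1 c)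
noncomputable def st10_s_3_5 (c : Nat) : Nat := @Bool.rec (fun _ => Nat) (st10_3) (st10_4) (Nat.ble 4 c)
noncomputable def st10_s_5_7 (c : Nat) : Nat := @Bool.rec (fun _ => Nat) (st10_5) (st10_6) (Nat.ble 6 c)
noncomputable def st10_s_3_7 (c : Nat) : Nat := @Bool.rec (fun _ => Nat) (st10_s_3_5 c) (st10_s_5_7 c) (Nat.ble 5 c)
noncomputable def st10_s_0_7 (c : Nat) : Nat := @Bool.rec (fun _ => Nat) (st10_s_0_3 c) (st10_s_3_7 c) (Nat.ble 3 c)
noncomputable def st10 (i : Nat) : Nat := rdw 15 32767 (st10_s_0_7 (Nat.shiftRight i 12)) (Nat.land i 4095)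
noncomputable def st11_s_1_3 (c : Nat) : Nat := @Bool.rec (fun _ => Nat) (st11_1) (st11_2) (Nat.ble 2 c)
noncomputable def st11_s_0_3 (c : Nat) : Nat := @Bool.rec (fun _ => Nat) (st11_0) (st11_s_1_3 c) (Nat.ble 1 c)
noncomputable def st11_s_3_5 (c : Nat) : Nat := @Bool.rec (fun _ => Nat) (st11_3) (st11_4) (Nat.ble 4 c)
noncomputable def st11_s_5_7 (c : Nat) : Nat := @Bool.rec (fun _ => Nat) (st11_5) (st11_6) (Nat.ble 6 c)
noncomputable def st11_s_3_7 (c : Nat) : Nat := @Bool.rec (fun _ => Nat) (st11_s_3_5 c) (st11_s_5_7 c) (Nat.ble 5 c)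
noncomputable def st11_s_0_7 (c : Nat) : Nat := @Bool.rec (fun _ => Nat) (st11_s_0_3 c) (st11_s_3_7 c) (Nat.ble 3 c)
noncomputable def st11 (i : Nat) : Nat := rdw 15 32767 (st11_s_0_7 (Nat.shiftRight i 12)) (Nat.land i 4095)
noncomputable def st12_s_1_3 (c : Nat) : Nat := @Bool.rec (fun _ => Nat) (st12_1) (st12_2) (Nat.ble 2 c)
noncomputable def st12_s_0_3 (c : Nat) : Nat := @Bool.rec (fun _ => Nat) (st12_0) (st12_s_1_3 c) (Nat.ble 1 c)
noncomputable def st12_s_3_5 (c : Nat) : Nat := @Bool.rec (fun _ => Nat) (st12_3) (st12_4) (Nat.ble 4 c)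
noncomputable def st12_s_5_7 (c : Nat) : Nat := @Bool.rec (fun _ => Nat) (st12_5) (st12_6) (Nat.ble 6 c)
noncomputable def st12_s_3_7 (c : Nat) : Nat := @Bool.rec (fun _ => Nat) (st12_s_3_5 c) (st12_s_5_7 c) (Nat.ble 5 c)
noncomputable def st12_s_0_7 (c : Nat) : Nat := @Bool.rec (fun _ => Nat) (st12_s_0_3 c) (st12_s_3_7 c) (Nat.ble 3 c)
noncomputable def st12 (i : Nat) : Nat := rdw 15 32767 (st12_s_0_7 (Nat.shiftRight i 12)) (Nat.land i 4095)
noncomputable def st13_s_1_3 (c : Nat) : Nat := @Bool.rec (fun _ => Nat) (st13_1) (st13_2) (Nat.ble 2 c)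
noncomputable def st13_s_0_3 (c : Nat) : Nat := @Bool.rec (fun _ => Nat) (st13_0) (st13_s_1_3 c) (Nat.ble 1 c)
noncomputable def st13_s_3_5 (c : Nat) : Nat := @Bool.rec (fun _ => Nat) (st13_3) (st13_4) (Nat.ble 4 c)
noncomputable def st13_s_5_7 (c : Nat) : Nat := @Bool.rec (fun _ => Nat) (st13_5) (st13_6) (Nat.ble 6 c)
noncomputable def st13_s_3_7 (c : Nat) : Nat := @Bool.rec (fun _ => Nat) (st13_s_3_5 c) (st13_s_5_7 c) (Nat.ble 5 c)
noncomputable def st13_s_0_7 (c : Nat) : Nat := @Bool.rec (fun _ => Nat) (st13_s_0_3 c) (st13_s_3_7 c) (Nat.ble 3 c)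
noncomputable def st13 (i : Nat) : Nat := rdw 15 32767 (st13_s_0_7 (Nat.shiftRight i 12)) (Nat.land i 4095)
noncomputable def st14_s_1_3 (c : Nat) : Nat := @Bool.rec (fun _ => Nat) (st14_1) (st14_2) (Nat.ble 2 c)
noncomputable def st14_s_0_3 (c : Nat) : Nat := @Bool.rec (fun _ => Nat) (st14_0) (st14_s_1_3 c) (Nat.ble 1 c)
noncomputable def st14_s_3_5 (c : Nat) : Nat := @Bool.rec (fun _ => Nat) (st14_3) (st14_4) (Nat.ble 4 c)
noncomputable def st14_s_5_7 (c : Nat) : Nat := @Bool.rec (fun _ => Nat) (st14_5) (st14_6) (Nat.ble 6 c)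
noncomputable def st14_s_3_7 (c : Nat) : Nat := @Bool.rec (fun _ => Nat) (st14_s_3_5 c) (st14_s_5_7 c) (Nat.ble 5 c)
noncomputable def st14_s_0_7 (c : Nat) : Nat := @Bool.rec (fun _ => Nat) (st14_s_0_3 c) (st14_s_3_7 c) (Nat.ble 3 c)
noncomputable def st14 (i : Nat) : Nat := rdw 15 32767 (st14_s_0_7 (Nat.shiftRight i 12)) (Nat.land i 4095)
noncomputable def st15_s_1_3 (c : Nat) : Nat := @Bool.rec (fun _ => Nat) (st15_1) (st15_2) (Nat.ble 2 c)
noncomputable def st15_s_0_3 (c : Nat) : Nat := @Bool.rec (fun _ => Nat) (st15_0) (st15_s_1_3 c) (Nat.ble 1 c)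
noncomputable def st15_s_3_5 (c : Nat) : Nat := @Bool.rec (fun _ => Nat) (st15_3) (st15_4) (Nat.ble 4 c)
noncomputable def st15_s_5_7 (c : Nat) : Nat := @Bool.rec (fun _ => Nat) (st15_5) (st15_6) (Nat.ble 6 c)
noncomputable def st15_s_3_7 (c : Nat) : Nat := @Bool.rec (fun _ => Nat) (st15_s_3_5 c) (st15_s_5_7 c) (Nat.ble 5 c)
noncomputable def st15_s_0_7 (c : Nat) : Nat := @Bool.rec (fun _ => Nat) (st15_s_0_3 c) (st15_s_3_7 c) (Nat.ble 3 c)
noncomputable def st15 (i : Nat) : Nat := rdw 15 32767 (st15_s_0_7 (Nat.shiftRight i 12)) (Nat.land i 4095)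
noncomputable def st16_s_1_3 (c : Nat) : Nat := @Bool.rec (fun _ => Nat) (st16_1) (st16_2) (Nat.ble 2 c)
noncomputable def st16_s_0_3 (c : Nat) : Nat := @Bool.rec (fun _ => Nat) (st16_0) (st16_s_1_3 c) (Nat.ble 1 c)
noncomputable def st16_s_3_5 (c : Nat) : Nat := @Bool.rec (fun _ => Nat) (st16_3) (st16_4) (Nat.ble 4 c)
noncomputable def st16_s_5_7 (c : Nat) : Nat := @Bool.rec (fun _ => Nat) (st16_5) (st16_6) (Nat.ble 6 c)
noncomputable def st16_s_3_7 (c : Nat) : Nat := @Bool.rec (fun _ => Nat) (st16_s_3_5 c) (st16_s_5_7 c) (Nat.ble 5 c)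
noncomputable def st16_s_0_7 (c : Nat) : Nat := @Bool.rec (fun _ => Nat) (st16_s_0_3 c) (st16_s_3_7 c) (Nat.ble 3 c)
noncomputable def st16 (i : Nat) : Nat := rdw 15 32767 (st16_s_0_7 (Nat.shiftRight i 12)) (Nat.land i 4095)
noncomputable def st17_s_1_3 (c : Nat) : Nat := @Bool.rec (fun _ => Nat) (st17_1) (st17_2) (Nat.ble 2 c)
noncomputable def st17_s_0_3 (c : Nat) : Nat := @Bool.rec (fun _ => Nat) (st17_0) (st17_s_1_3 c) (Nat.ble 1 c)
noncomputable def st17_s_3_5 (c : Nat) : Nat := @Bool.rec (fun _ => Nat) (st17_3) (st17_4) (Nat.ble 4 c)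
noncomputable def st17_s_5_7 (c : Nat) : Nat := @Bool.rec (fun _ => Nat) (st17_5) (st17_6) (Nat.ble 6 c)
noncomputable def st17_s_3_7 (c : Nat) : Nat := @Bool.rec (fun _ => Nat) (st17_s_3_5 c) (st17_s_5_7 c) (Nat.ble 5 c)
noncomputable def st17_s_0_7 (c : Nat) : Nat := @Bool.rec (fun _ => Nat) (st17_s_0_3 c) (st17_s_3_7 c) (Nat.ble 3 c)
noncomputable def st17 (i : Nat) : Nat := rdw 15 32767 (st17_s_0_7 (Nat.shiftRight i 12)) (Nat.land i 4095)
noncomputable def st18_s_1_3 (c : Nat) : Nat := @Bool.rec (fun _ => Nat) (st18_1) (st18_2) (Nat.ble 2 c)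
noncomputable def st18_s_0_3 (c : Nat) : Nat := @Bool.rec (fun _ => Nat) (st18_0) (st18_s_1_3 c) (Nat.ble 1 c)
noncomputable def st18_s_3_5 (c : Nat) : Nat := @Bool.rec (fun _ => Nat) (st18_3) (st18_4) (Nat.ble 4 c)
noncomputable def st18_s_5_7 (c : Nat) : Nat := @Bool.rec (fun _ => Nat) (st18_5) (st18_6) (Nat.ble 6 c)
noncomputable def st18_s_3_7 (c : Nat) : Nat := @Bool.rec (fun _ => Nat) (st18_s_3_5 c) (st18_s_5_7 c) (Nat.ble 5 c)
noncomputable def st18_s_0_7 (c : Nat) : Nat := @Bool.rec (fun _ => Nat) (st18_s_0_3 c) (st18_s_3_7 c) (Nat.ble 3 c)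
noncomputable def st18 (i : Nat) : Nat := rdw 15 32767 (st18_s_0_7 (Nat.shiftRight i 12)) (Nat.land i 4095)
noncomputable def st19_s_1_3 (c : Nat) : Nat := @Bool.rec (fun _ => Nat) (st19_1) (st19_2) (Nat.ble 2 c)
noncomputable def st19_s_0_3 (c : Nat) : Nat := @Bool.rec (fun _ => Nat) (st19_0) (st19_s_1_3 c) (Nat.ble 1 c)
noncomputable def st19_s_3_5 (c : Nat) : Nat := @Bool.rec (fun _ => Nat) (st19_3) (st19_4) (Nat.ble 4 c)
noncomputable def st19_s_5_7 (c : Nat) : Nat := @Bool.rec (fun _ => Nat) (st19_5) (st19_6) (Nat.ble 6 c)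
noncomputable def st19_s_3_7 (c : Nat) : Nat := @Bool.rec (fun _ => Nat) (st19_s_3_5 c) (st19_s_5_7 c) (Nat.ble 5 c)
noncomputable def st19_s_0_7 (c : Nat) : Nat := @Bool.rec (fun _ => Nat) (st19_s_0_3 c) (st19_s_3_7 c) (Nat.ble 3 c)
noncomputable def st19 (i : Nat) : Nat := rdw 15 32767 (st19_s_0_7 (Nat.shiftRight i 12)) (Nat.land i 4095)
noncomputable def levTab (i : Nat) : Nat := rdw 4 15 levTab_0 i
noncomputable def betaTab (i : Nat) : Nat := rdw 15 32767 betaTab_0 i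
noncomputable def nodeTab_s_1_3 (c : Nat) : Nat := @Bool.rec (fun _ => Nat) (nodeTab_1) (nodeTab_2) (Nat.ble 2 c)
noncomputable def nodeTab_s_0_3 (c : Nat) : Nat := @Bool.rec (fun _ => Nat) (nodeTab_0) (nodeTab_s_1_3 c) (Nat.ble 1 c)
noncomputable def nodeTab_s_3_5 (c : Nat) : Nat := @Bool.rec (fun _ => Nat) (nodeTab_3) (nodeTab_4) (Nat.ble 4 c)
noncomputable def nodeTab_s_5_7 (c : Nat) : Nat := @Bool.rec (fun _ => Nat) (nodeTab_5) (nodeTab_6) (Nat.ble 6 c)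
noncomputable def nodeTab_s_3_7 (c : Nat) : Nat := @Bool.rec (fun _ => Nat) (nodeTab_s_3_5 c) (nodeTab_s_5_7 c) (Nat.ble 5 c)
noncomputable def nodeTab_s_0_7 (c : Nat) : Nat := @Bool.rec (fun _ => Nat) (nodeTab_s_0_3 c) (nodeTab_s_3_7 c) (Nat.ble 3 c)
noncomputable def nodeTab_s_7_9 (c : Nat) : Nat := @Bool.rec (fun _ => Nat) (nodeTab_7) (nodeTab_8) (Nat.ble 8 c)
noncomputable def nodeTab_s_9_11 (c : Nat) : Nat := @Bool.rec (fun _ => Nat) (nodeTab_9) (nodeTab_10) (Nat.ble 10 c)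
noncomputable def nodeTab_s_7_11 (c : Nat) : Nat := @Bool.rec (fun _ => Nat) (nodeTab_s_7_9 c) (nodeTab_s_9_11 c) (Nat.ble 9 c)
noncomputable def nodeTab_s_11_13 (c : Nat) : Nat := @Bool.rec (fun _ => Nat) (nodeTab_11) (nodeTab_12) (Nat.ble 12 c)
noncomputable def nodeTab_s_13_15 (c : Nat) : Nat := @Bool.rec (fun _ => Nat) (nodeTab_13) (nodeTab_14) (Nat.ble 14 c)
noncomputable def nodeTab_s_11_15 (c : Nat) : Nat := @Bool.rec (fun _ => Nat) (nodeTab_s_11_13 c) (nodeTab_s_13_15 c) (Nat.ble 13 c)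
noncomputable def nodeTab_s_7_15 (c : Nat) : Nat := @Bool.rec (fun _ => Nat) (nodeTab_s_7_11 c) (nodeTab_s_11_15 c) (Nat.ble 11 c)
noncomputable def nodeTab_s_0_15 (c : Nat) : Nat := @Bool.rec (fun _ => Nat) (nodeTab_s_0_7 c) (nodeTab_s_7_15 c) (Nat.ble 7 c)
noncomputable def nodeTab (i : Nat) : Nat := rdw 39 549755813887 (nodeTab_s_0_15 (Nat.shiftRight i 11)) (Nat.land i 2047)
noncomputable def offTab (i : Nat) : Nat := rdw 15 32767 offTab_0 i
noncomputable def nTab (i : Nat) : Nat := rdw 15 32767 nTab_0 i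
noncomputable def rootTab (i : Nat) : Nat := rdw 15 32767 rootTab_0 i
noncomputable def tabF (i p : Nat) : Nat := @Bool.rec (fun _ => Nat) (@Bool.rec (fun _ => Nat) (@Bool.rec (fun _ => Nat) (@Bool.rec (fun _ => Nat) (col0 p) (col1 p) (Nat.ble 1 i)) (@Bool.rec (fun _ => Nat) (col2 p) (@Bool.rec (fun _ => Nat) (col3 p) (col4 p) (Nat.ble 4 i)) (Nat.ble 3 i)) (Nat.ble 2 i)) (@Bool.rec (fun _ => Nat) (@Bool.rec (fun _ => Nat) (col5 p) (col6 p) (Nat.ble 6 i)) (@Bool.rec (fun _ => Nat) (col7 p) (@Bool.rec (fun _ => Nat) (col8 p) (col9 p) (Nat.ble 9 i)) (Nat.ble 8 i)) (Nat.ble 7 i)) (Nat.ble 5 i)) (@Bool.rec (fun _ => Nat) (@Bool.rec (fun _ => Nat) (@Bool.rec (fun _ => Nat) (st10 p) (st11 p) (Nat.ble 11 i)) (@Bool.rec (fun _ => Nat) (st12 p) (@Bool.rec (fun _ => Nat) (st13 p) (st14 p) (Nat.ble 14 i)) (Nat.ble 13 i)) (Nat.ble 12 i)) (@Bool.rec (fun _ => Nat) (@Bool.rec (fun _ => Nat) (st15 p) (st16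 p) (Nat.ble 16 i)) (@Bool.rec (fun _ => Nat) (st17 p) (@Bool.rec (fun _ => Nat) (st18 p) (st19 p) (Nat.ble 19 i)) (Nat.ble 18 i)) (Nat.ble 17 i)) (Nat.ble 15 i)) (Nat.ble 10 i)
def wAF : Nat → List Nat
  | 10 => [3, 4, 5, 8, 9, 6, 3, 4, 5, 8, 6, 7, 4, 5, 6, 0, 1, 2, 3, 4, 5, 8, 9]
  | 11 => [4, 5, 8, 6, 7, 5, 6, 1, 0]
  | 12 => [4, 5]
  | 13 => [2]
  | 14 => [4, 3, 2]
  | 15 => [7]
  | 16 => [1]
  | 17 => [6, 5, 8, 3, 4, 5, 6, 0]
  | 18 => [17, 5, 6, 17, 6, 7, 5, 6, 17, 1, 17]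
  | 19 => [18, 8, 5, 18, 6, 0, 7, 5, 4, 18, 5]
  | _ => []
def wBF : Nat → List Nat
  | 10 => [1, 3, 4, 5, 8, 9, 6, 3, 4, 5, 8, 6, 7, 4, 5, 6, 0, 1, 2, 3, 4, 5, 8, 9]
  | 11 => [7, 4, 5, 8, 6, 7, 5, 6, 1, 0]
  | 12 => [2, 4, 5]
  | 13 => [7, 2]
  | 14 => [12, 4, 3, 2]
  | 15 => [1, 7]
  | 16 => [4, 1]
  | 17 => [12, 4, 5, 8, 3, 4, 5, 6]
  | 18 => [15, 17, 6, 17, 8, 7, 5, 6]
  | 19 => [11, 18, 17, 5, 6, 1, 0]
  | _ => []
noncomputable def ptF (j idx : Nat) : Nat := Nat.land (nodeTab (Nat.add (offTab j) idx)) 32767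
noncomputable def parF (j idx : Nat) : Nat := Nat.land (Nat.shiftRight (nodeTab (Nat.add (offTab j) idx)) 15) 32767
noncomputable def giF (j idx : Nat) : Nat := Nat.land (Nat.shiftRight (nodeTab (Nat.add (offTab j) idx)) 30) 31
noncomputable def depF (j idx : Nat) : Nat := Nat.shiftRight (nodeTab (Nat.add (offTab j) idx)) 35

noncomputable def S : Sgs :=
  { N := 28431, k := 10, m := 20, tab := tabF, wA := wAF, wB := wBF, lev := levTab, r := 8, beta := betaTab,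
    n := nTab, root := rootTab, pt := ptF, par := parF, gi := giF, dep := depF }

noncomputable def chk10 (p : Nat) : Bool := band (Nat.ble (Nat.succ (st10 p)) 28431) (Nat.beq (col3 (col4 (col5 (col8 (col9 (col6 (col3 (col4 (col5 (col8 (col6 (col7 (col4 (col5 (col6 (col0 (col1 (col2 (col3 (col4 (col5 (col8 (col9 (st10 p)))))))))))))))))))))))) (col1 (col3 (col4 (col5 (col8 (col9 (col6 (col3 (col4 (col5 (col8 (col6 (col7 (col4 (col5 (col6 (col0 (col1 (col2 (col3 (col4 (col5 (col8 (col9 p)))))))))))))))))))))))))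
theorem chk10_eq (p : Nat) : chk10 p = Sgs.permOK S 10 p := rfl
noncomputable def chk11 (p : Nat) : Bool := band (Nat.ble (Nat.succ (st11 p)) 28431) (Nat.beq (col4 (col5 (col8 (col6 (col7 (col5 (col6 (col1 (col0 (st11 p)))))))))) (col7 (col4 (col5 (col8 (col6 (col7 (col5 (col6 (col1 (col0 p)))))))))))
theorem chk11_eq (p : Nat) : chk11 p = Sgs.permOK S 11 p := rfl
noncomputable def chk12 (p : Nat) : Bool := band (Nat.ble (Nat.succ (st12 p)) 28431) (Nat.beq (col4 (col5 (st12 p))) (col2 (col4 (col5 p))))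
theorem chk12_eq (p : Nat) : chk12 p = Sgs.permOK S 12 p := rfl
noncomputable def chk13 (p : Nat) : Bool := band (Nat.ble (Nat.succ (st13 p)) 28431) (Nat.beq (col2 (st13 p)) (col7 (col2 p)))
theorem chk13_eq (p : Nat) : chk13 p = Sgs.permOK S 13 p := rfl
noncomputable def chk14 (p : Nat) : Bool := band (Nat.ble (Nat.succ (st14 p)) 28431) (Nat.beq (col4 (col3 (col2 (st14 p)))) (st12 (col4 (col3 (col2 p)))))
theorem chk14_eq (p : Nat) : chk14 p = Sgs.permOK S 14 p := rfl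
noncomputable def chk15 (p : Nat) : Bool := band (Nat.ble (Nat.succ (st15 p)) 28431) (Nat.beq (col7 (st15 p)) (col1 (col7 p)))
theorem chk15_eq (p : Nat) : chk15 p = Sgs.permOK S 15 p := rfl
noncomputable def chk16 (p : Nat) : Bool := band (Nat.ble (Nat.succ (st16 p)) 28431) (Nat.beq (col1 (st16 p)) (col4 (col1 p)))
theorem chk16_eq (p : Nat) : chk16 p = Sgs.permOK S 16 p := rfl
noncomputable def chk17 (p : Nat) : Bool := band (Nat.ble (Nat.succ (st17 p)) 28431) (Nat.beq (col6 (col5 (col8 (col3 (col4 (col5 (col6 (col0 (st17 p))))))))) (st12 (col4 (col5 (col8 (col3 (col4 (col5 (col6 p)))))))))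
theorem chk17_eq (p : Nat) : chk17 p = Sgs.permOK S 17 p := rfl
noncomputable def chk18 (p : Nat) : Bool := band (Nat.ble (Nat.succ (st18 p)) 28431) (Nat.beq (st17 (col5 (col6 (st17 (col6 (col7 (col5 (col6 (st17 (col1 (st17 (st18 p)))))))))))) (st15 (st17 (col6 (st17 (col8 (col7 (col5 (col6 p)))))))))
theorem chk18_eq (p : Nat) : chk18 p = Sgs.permOK S 18 p := rfl
noncomputable def chk19 (p : Nat) : Bool := band (Nat.ble (Nat.succ (st19 p)) 28431) (Nat.beq (st18 (col8 (col5 (st18 (col6 (col0 (col7 (col5 (col4 (st18 (col5 (st19 p)))))))))))) (st11 (st18 (st17 (col5 (col6 (col1 (col0 p))))))))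
theorem chk19_eq (p : Nat) : chk19 p = Sgs.permOK S 19 p := rfl

end Cfsg.Agent.Lib.Helper4.TCD.Fi24QL
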