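import Cfsg.Agent.Lib.Helper4.TCD_Fi24QL_Acc

namespace Cfsg.Agent.Lib.Helper4.TCD.Fi24QL

open Cfsg.Agent.Lib.Helper4.TC Cfsg.Agent.Lib.Helper4.TCD.Fi24Qa

set_option maxRecDepth 100000
set_option Elab.async false

theorem c_words : allRange S.wordsOK 10 10 = true := by decide +kernel
theorem c_fix : allGrid S.fixOK 0 20 8 = true := by decide +kernel
theorem c_root : allBelow (fun j => Nat.ble (Nat.succ (S.root j)) (S.n j)) 8 = true := by decide +kernel
theorem c_n0 : S.n 0 = 28431 := by decide +kernel
theorem c_n1 : S.n 1 = 960 := by decide +kernel
theorem c_n2 : S.n 2 = 84 := by decide +kernel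
theorem c_n3 : S.n 3 = 180 := by decide +kernel
theorem c_n4 : S.n 4 = 2 := by decide +kernel
theorem c_n5 : S.n 5 = 3 := by decide +kernel
theorem c_n6 : S.n 6 = 2 := by decide +kernel
theorem c_n7 : S.n 7 = 2 := by decide +kernel
theorem c_p10_0 : allRange chk10 0 1200 = true := by decide +kernel
theorem c_p10_1 : allRange chk10 1200 1200 = true := by decide +kernel
theorem c_p10_2 : allRange chk10 2400 1200 = true := by decide +kernel
theorem c_p10_3 : allRange chk10 3600 1200 = true := by decide +kernel
theorem c_p10_4 : allRange chk10 4800 1200 = true := by decide +kernel
theorem c_p10_5 : allRange chk10 6000 1200 = true := by decide +kernel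
theorem c_p10_6 : allRange chk10 7200 1200 = true := by decide +kernel
theorem c_p10_7 : allRange chk10 8400 1200 = true := by decide +kernel
theorem c_p10_8 : allRange chk10 9600 1200 = true := by decide +kernel
theorem c_p10_9 : allRange chk10 10800 1200 = true := by decide +kernel
theorem c_p10_10 : allRange chk10 12000 1200 = true := by decide +kernel
theorem c_p10_11 : allRange chk10 13200 1200 = true := by decide +kernel
theorem c_p10_12 : allRange chk10 14400 1200 = true := by decide +kernel
theorem c_p10_13 : allRange chk10 15600 1200 = true := by decide +kernel
theorem c_p10_14 : allRange chk10 16800 1200 = true := by decide +kernel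
theorem c_p10_15 : allRange chk10 18000 1200 = true := by decide +kernel
theorem c_p10_16 : allRange chk10 19200 1200 = true := by decide +kernel
theorem c_p10_17 : allRange chk10 20400 1200 = true := by decide +kernel
theorem c_p10_18 : allRange chk10 21600 1200 = true := by decide +kernel
theorem c_p10_19 : allRange chk10 22800 1200 = true := by decide +kernel
theorem c_p10_20 : allRange chk10 24000 1200 = true := by decide +kernel
theorem c_p10_21 : allRange chk10 25200 1200 = true := by decide +kernel
theorem c_p10_22 : allRange chk10 26400 1200 = true := by decide +kernel
theorem c_p10_23 : allRange chk10 27600 831 = true := by decide +kernel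
theorem c_p11_0 : allRange chk11 0 2727 = true := by decide +kernel
theorem c_p11_1 : allRange chk11 2727 2727 = true := by decide +kernel
theorem c_p11_2 : allRange chk11 5454 2727 = true := by decide +kernel
theorem c_p11_3 : allRange chk11 8181 2727 = true := by decide +kernel
theorem c_p11_4 : allRange chk11 10908 2727 = true := by decide +kernel
theorem c_p11_5 : allRange chk11 13635 2727 = true := by decide +kernel
theorem c_p11_6 : allRange chk11 16362 2727 = true := by decide +kernel
theorem c_p11_7 : allRange chk11 19089 2727 = true := by decide +kernel
theorem c_p11_8 : allRange chk11 21816 2727 = true := by decide +kernel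
theorem c_p11_9 : allRange chk11 24543 2727 = true := by decide +kernel
theorem c_p11_10 : allRange chk11 27270 1161 = true := by decide +kernel
theorem c_p12_0 : allRange chk12 0 7500 = true := by decide +kernel
theorem c_p12_1 : allRange chk12 7500 7500 = true := by decide +kernel
theorem c_p12_2 : allRange chk12 15000 7500 = true := by decide +kernel
theorem c_p12_3 : allRange chk12 22500 5931 = true := by decide +kernel
theorem c_p13_0 : allRange chk13 0 10000 = true := by decide +kernel
theorem c_p13_1 : allRange chk13 10000 10000 = true := by decide +kernel
theorem c_p13_2 : allRange chk13 20000 8431 = true := by decide +kernel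
theorem c_p14_0 : allRange chk14 0 6000 = true := by decide +kernel
theorem c_p14_1 : allRange chk14 6000 6000 = true := by decide +kernel
theorem c_p14_2 : allRange chk14 12000 6000 = true := by decide +kernel
theorem c_p14_3 : allRange chk14 18000 6000 = true := by decide +kernel
theorem c_p14_4 : allRange chk14 24000 4431 = true := by decide +kernel
theorem c_p15_0 : allRange chk15 0 10000 = true := by decide +kernel
theorem c_p15_1 : allRange chk15 10000 10000 = true := by decide +kernel
theorem c_p15_2 : allRange chk15 20000 8431 = true := by decide +kernel
theorem c_p16_0 : allRange chk16 0 10000 = true := by decide +kernel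

end Cfsg.Agent.Lib.Helper4.TCD.Fi24QL
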