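import Cfsg.Agent.Lib.Helper4.TCD_Fi24Qa_Acc

namespace Cfsg.Agent.Lib.Helper4.TCD.Fi24Qa

open Cfsg.Agent.Lib.Helper4.TC

set_option maxRecDepth 100000
set_option Elab.async false

theorem c_zero : D.zeroOK = true := by decide +kernel
theorem c_base : allBelow D.baseOK 18 = true := by decide +kernel
theorem c_let : allBelow D.letOK 10 = true := by decide +kernel
theorem c_cls0 : T.cls 0 = 0 := by decide +kernel
theorem c_name0 : T.nameOf 0 = 0 := by decide +kernel
theorem c_tab : D.relTabOK 0 (baseRels 10 PFi24Q.invR PFi24Q.P.real subs ++ (baseRels 10 PFi24Q.invR PFi24Q.P.real subs).map (invWord D.inv)) = true := by decide +kernel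
theorem c_real : PFi24Q.P.real = realLit := by decide +kernel
theorem c_subfix : subs.all (fun u => Nat.beq (Tab.act T D u 0) 0) = true := by decide +kernel
theorem c_subs : subs.all (fun u => u.all (fun x => Nat.ble (Nat.succ x) 10)) = true := by decide +kernel
theorem c_names_0 : allRange D.nameOK 1 38045 = true := by decide +kernel
theorem c_cls_0 : allRange (T.clsOK D) 1 15000 = true := by decide +kernel
theorem c_cls_1 : allRange (T.clsOK D) 15001 15000 = true := by decide +kernel
theorem c_cls_2 : allRange (T.clsOK D) 30001 8045 = true := by decide +kernel
theorem c_rep_0 : allRange (T.repOK D) 0 28431 = true := by decide +kernel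
theorem c_rel_0 : allRange D.relOK 38064 3520 = true := by decide +kernel
theorem c_rel_1 : allRange D.relOK 41584 3531 = true := by decide +kernel
theorem c_rel_2 : allRange D.relOK 45115 3526 = true := by decide +kernel
theorem c_rel_3 : allRange D.relOK 48641 3491 = true := by decide +kernel
theorem c_rel_4 : allRange D.relOK 52132 3504 = true := by decide +kernel
theorem c_rel_5 : allRange D.relOK 55636 3480 = true := by decide +kernel
theorem c_rel_6 : allRange D.relOK 59116 3447 = true := by decide +kernel
theorem c_rel_7 : allRange D.relOK 62563 3511 = true := by decide +kernel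
theorem c_rel_8 : allRange D.relOK 66074 3520 = true := by decide +kernel
theorem c_rel_9 : allRange D.relOK 69594 3512 = true := by decide +kernel
theorem c_rel_10 : allRange D.relOK 73106 3517 = true := by decide +kernel
theorem c_rel_11 : allRange D.relOK 76623 3470 = true := by decide +kernel
theorem c_rel_12 : allRange D.relOK 80093 3515 = true := by decide +kernel
theorem c_rel_13 : allRange D.relOK 83608 3511 = true := by decide +kernel
theorem c_rel_14 : allRange D.relOK 87119 3492 = true := by decide +kernel
theorem c_rel_15 : allRange D.relOK 90611 3522 = true := by decide +kernel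
theorem c_rel_16 : allRange D.relOK 94133 3503 = true := by decide +kernel
theorem c_rel_17 : allRange D.relOK 97636 3514 = true := by decide +kernel
theorem c_rel_18 : allRange D.relOK 101150 3496 = true := by decide +kernel
theorem c_rel_19 : allRange D.relOK 104646 3469 = true := by decide +kernel
theorem c_rel_20 : allRange D.relOK 108115 3529 = true := by decide +kernel
theorem c_rel_21 : allRange D.relOK 111644 3502 = true := by decide +kernel
theorem c_rel_22 : allRange D.relOK 115146 3372 = true := by decide +kernel
theorem c_rel_23 : allRange D.relOK 118518 3428 = true := by decide +kernel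
theorem c_rel_24 : allRange D.relOK 121946 3464 = true := by decide +kernel
theorem c_rel_25 : allRange D.relOK 125410 3489 = true := by decide +kernel
theorem c_rel_26 : allRange D.relOK 128899 3474 = true := by decide +kernel
theorem c_rel_27 : allRange D.relOK 132373 3489 = true := by decide +kernel
theorem c_rel_28 : allRange D.relOK 135862 3510 = true := by decide +kernel
theorem c_rel_29 : allRange D.relOK 139372 3476 = true := by decide +kernel
theorem c_rel_30 : allRange D.relOK 142848 3499 = true := by decide +kernel
theorem c_rel_31 : allRange D.relOK 146347 3476 = true := by decide +kernel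
theorem c_rel_32 : allRange D.relOK 149823 3504 = true := by decide +kernel
theorem c_rel_33 : allRange D.relOK 153327 3498 = true := by decide +kernel
theorem c_rel_34 : allRange D.relOK 156825 3511 = true := by decide +kernel
theorem c_rel_35 : allRange D.relOK 160336 3494 = true := by decide +kernel
theorem c_rel_36 : allRange D.relOK 163830 3475 = true := by decide +kernel
theorem c_rel_37 : allRange D.relOK 167305 3481 = true := by decide +kernel
theorem c_rel_38 : allRange D.relOK 170786 3402 = true := by decide +kernel
theorem c_rel_39 : allRange D.relOK 174188 3442 = true := by decide +kernel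
theorem c_rel_40 : allRange D.relOK 177630 3428 = true := by decide +kernel
theorem c_rel_41 : allRange D.relOK 181058 3728 = true := by decide +kernel
theorem c_rel_42 : allRange D.relOK 184786 4954 = true := by decide +kernel
theorem c_rel_43 : allRange D.relOK 189740 1906 = true := by decide +kernel
theorem c_fin_0 : allGrid (T.finOK D) 0 1200 10 = true := by decide +kernel
theorem c_fin_1 : allGrid (T.finOK D) 1200 1200 10 = true := by decide +kernel
theorem c_fin_2 : allGrid (T.finOK D) 2400 1200 10 = true := by decide +kernel
theorem c_fin_3 : allGrid (T.finOK D) 3600 1200 10 = true := by decide +kernel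
theorem c_fin_4 : allGrid (T.finOK D) 4800 1200 10 = true := by decide +kernel
theorem c_fin_5 : allGrid (T.finOK D) 6000 1200 10 = true := by decide +kernel
theorem c_fin_6 : allGrid (T.finOK D) 7200 1200 10 = true := by decide +kernel
theorem c_fin_7 : allGrid (T.finOK D) 8400 1200 10 = true := by decide +kernel
theorem c_fin_8 : allGrid (T.finOK D) 9600 1200 10 = true := by decide +kernel
theorem c_fin_9 : allGrid (T.finOK D) 10800 1200 10 = true := by decide +kernel
theorem c_fin_10 : allGrid (T.finOK D) 12000 1200 10 = true := by decide +kernel
theorem c_fin_11 : allGrid (T.finOK D) 13200 1200 10 = true := by decide +kernel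
theorem c_fin_12 : allGrid (T.finOK D) 14400 1200 10 = true := by decide +kernel
theorem c_fin_13 : allGrid (T.finOK D) 15600 1200 10 = true := by decide +kernel
theorem c_fin_14 : allGrid (T.finOK D) 16800 1200 10 = true := by decide +kernel
theorem c_fin_15 : allGrid (T.finOK D) 18000 1200 10 = true := by decide +kernel
theorem c_fin_16 : allGrid (T.finOK D) 19200 1200 10 = true := by decide +kernel
theorem c_fin_17 : allGrid (T.finOK D) 20400 1200 10 = true := by decide +kernel
theorem c_fin_18 : allGrid (T.finOK D) 21600 1200 10 = true := by decide +kernel
theorem c_fin_19 : allGrid (T.finOK D) 22800 1200 10 = true := by decide +kernel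
theorem c_fin_20 : allGrid (T.finOK D) 24000 1200 10 = true := by decide +kernel
theorem c_fin_21 : allGrid (T.finOK D) 25200 1200 10 = true := by decide +kernel
theorem c_fin_22 : allGrid (T.finOK D) 26400 1200 10 = true := by decide +kernel
theorem c_fin_23 : allGrid (T.finOK D) 27600 831 10 = true := by decide +kernel

end Cfsg.Agent.Lib.Helper4.TCD.Fi24Qa
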