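import Cfsg.Agent.Lib.Helper4.TCD_Fi24a_Acc

namespace Cfsg.Agent.Lib.Helper4.TCD.Fi24aO

open Cfsg.Agent.Lib.Helper4.TC Cfsg.Agent.Lib.Helper4.TCD.Fi24a

set_option maxRecDepth 100000
set_option Elab.async false

theorem c_oinv0_0 : allRange (Tab.orbInvOK T D subs 1 275265) 1 2727 = true := by decide +kernel
theorem c_oinv0_1 : allRange (Tab.orbInvOK T D subs 1 275265) 2728 2727 = true := by decide +kernel
theorem c_oinv0_2 : allRange (Tab.orbInvOK T D subs 1 275265) 5455 2727 = true := by decide +kernel
theorem c_oinv0_3 : allRange (Tab.orbInvOK T D subs 1 275265) 8182 2727 = true := by decide +kernel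
theorem c_oinv0_4 : allRange (Tab.orbInvOK T D subs 1 275265) 10909 2727 = true := by decide +kernel
theorem c_oinv0_5 : allRange (Tab.orbInvOK T D subs 1 275265) 13636 2727 = true := by decide +kernel
theorem c_oinv0_6 : allRange (Tab.orbInvOK T D subs 1 275265) 16363 2727 = true := by decide +kernel
theorem c_oinv0_7 : allRange (Tab.orbInvOK T D subs 1 275265) 19090 2727 = true := by decide +kernel
theorem c_oinv0_8 : allRange (Tab.orbInvOK T D subs 1 275265) 21817 2727 = true := by decide +kernel
theorem c_oinv0_9 : allRange (Tab.orbInvOK T D subs 1 275265) 24544 2727 = true := by decide +kernel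
theorem c_oinv0_10 : allRange (Tab.orbInvOK T D subs 1 275265) 27271 2727 = true := by decide +kernel
theorem c_oinv0_11 : allRange (Tab.orbInvOK T D subs 1 275265) 29998 2727 = true := by decide +kernel
theorem c_oinv0_12 : allRange (Tab.orbInvOK T D subs 1 275265) 32725 2727 = true := by decide +kernel
theorem c_oinv0_13 : allRange (Tab.orbInvOK T D subs 1 275265) 35452 2727 = true := by decide +kernel
theorem c_oinv0_14 : allRange (Tab.orbInvOK T D subs 1 275265) 38179 2727 = true := by decide +kernel
theorem c_oinv0_15 : allRange (Tab.orbInvOK T D subs 1 275265) 40906 2727 = true := by decide +kernel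
theorem c_oinv0_16 : allRange (Tab.orbInvOK T D subs 1 275265) 43633 2727 = true := by decide +kernel
theorem c_oinv0_17 : allRange (Tab.orbInvOK T D subs 1 275265) 46360 2727 = true := by decide +kernel
theorem c_oinv0_18 : allRange (Tab.orbInvOK T D subs 1 275265) 49087 2727 = true := by decide +kernel
theorem c_oinv0_19 : allRange (Tab.orbInvOK T D subs 1 275265) 51814 2727 = true := by decide +kernel
theorem c_oinv0_20 : allRange (Tab.orbInvOK T D subs 1 275265) 54541 2727 = true := by decide +kernel
theorem c_oinv0_21 : allRange (Tab.orbInvOK T D subs 1 275265) 57268 2727 = true := by decide +kernel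
theorem c_oinv0_22 : allRange (Tab.orbInvOK T D subs 1 275265) 59995 2727 = true := by decide +kernel
theorem c_oinv0_23 : allRange (Tab.orbInvOK T D subs 1 275265) 62722 2727 = true := by decide +kernel
theorem c_oinv0_24 : allRange (Tab.orbInvOK T D subs 1 275265) 65449 2727 = true := by decide +kernel
theorem c_oinv0_25 : allRange (Tab.orbInvOK T D subs 1 275265) 68176 2727 = true := by decide +kernel
theorem c_oinv0_26 : allRange (Tab.orbInvOK T D subs 1 275265) 70903 2727 = true := by decide +kernel
theorem c_oinv0_27 : allRange (Tab.orbInvOK T D subs 1 275265) 73630 2727 = true := by decide +kernel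
theorem c_oinv0_28 : allRange (Tab.orbInvOK T D subs 1 275265) 76357 2727 = true := by decide +kernel
theorem c_oinv0_29 : allRange (Tab.orbInvOK T D subs 1 275265) 79084 2727 = true := by decide +kernel
theorem c_oinv0_30 : allRange (Tab.orbInvOK T D subs 1 275265) 81811 2727 = true := by decide +kernel
theorem c_oinv0_31 : allRange (Tab.orbInvOK T D subs 1 275265) 84538 2727 = true := by decide +kernel
theorem c_oinv0_32 : allRange (Tab.orbInvOK T D subs 1 275265) 87265 2727 = true := by decide +kernel
theorem c_oinv0_33 : allRange (Tab.orbInvOK T D subs 1 275265) 89992 2727 = true := by decide +kernel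
theorem c_oinv0_34 : allRange (Tab.orbInvOK T D subs 1 275265) 92719 2727 = true := by decide +kernel
theorem c_oinv0_35 : allRange (Tab.orbInvOK T D subs 1 275265) 95446 2727 = true := by decide +kernel
theorem c_oinv0_36 : allRange (Tab.orbInvOK T D subs 1 275265) 98173 2727 = true := by decide +kernel
theorem c_oinv0_37 : allRange (Tab.orbInvOK T D subs 1 275265) 100900 2727 = true := by decide +kernel
theorem c_oinv0_38 : allRange (Tab.orbInvOK T D subs 1 275265) 103627 2727 = true := by decide +kernel
theorem c_oinv0_39 : allRange (Tab.orbInvOK T D subs 1 275265) 106354 2727 = true := by decide +kernel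
theorem c_oinv0_40 : allRange (Tab.orbInvOK T D subs 1 275265) 109081 2727 = true := by decide +kernel
theorem c_oinv0_41 : allRange (Tab.orbInvOK T D subs 1 275265) 111808 2727 = true := by decide +kernel
theorem c_oinv0_42 : allRange (Tab.orbInvOK T D subs 1 275265) 114535 2727 = true := by decide +kernel
theorem c_oinv0_43 : allRange (Tab.orbInvOK T D subs 1 275265) 117262 2727 = true := by decide +kernel
theorem c_oinv0_44 : allRange (Tab.orbInvOK T D subs 1 275265) 119989 2727 = true := by decide +kernel
theorem c_oinv0_45 : allRange (Tab.orbInvOK T D subs 1 275265) 122716 2727 = true := by decide +kernel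
theorem c_oinv0_46 : allRange (Tab.orbInvOK T D subs 1 275265) 125443 2727 = true := by decide +kernel
theorem c_oinv0_47 : allRange (Tab.orbInvOK T D subs 1 275265) 128170 2727 = true := by decide +kernel
theorem c_oinv0_48 : allRange (Tab.orbInvOK T D subs 1 275265) 130897 2727 = true := by decide +kernel
theorem c_oinv0_49 : allRange (Tab.orbInvOK T D subs 1 275265) 133624 2727 = true := by decide +kernel

end Cfsg.Agent.Lib.Helper4.TCD.Fi24aO
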