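import Cfsg.Agent.Lib.Helper4.TCD_Fi24a_Acc

namespace Cfsg.Agent.Lib.Helper4.TCD.Fi24a

open Cfsg.Agent.Lib.Helper4.TC

set_option maxRecDepth 100000
set_option Elab.async false

theorem c_zero : D.zeroOK = true := by decide +kernel
theorem c_base : allBelow D.baseOK 22 = true := by decide +kernel
theorem c_let : allBelow D.letOK 12 = true := by decide +kernel
theorem c_cls0 : T.cls 0 = 0 := by decide +kernel
theorem c_name0 : T.nameOf 0 = 0 := by decide +kernel
theorem c_tab : D.relTabOK 0 (baseRels 12 PFi24.invR PFi24.P.real subs ++ (baseRels 12 PFi24.invR PFi24.P.real subs).map (invWord D.inv)) = true := by decide +kernel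
theorem c_real : PFi24.P.real = realLit := by decide +kernel
theorem c_subfix : subs.all (fun u => Nat.beq (Tab.act T D u 0) 0) = true := by decide +kernel
theorem c_subs : subs.all (fun u => u.all (fun x => Nat.ble (Nat.succ x) 12)) = true := by decide +kernel
theorem c_names_0 : allRange D.nameOK 1 60000 = true := by decide +kernel
theorem c_names_1 : allRange D.nameOK 60001 60000 = true := by decide +kernel
theorem c_names_2 : allRange D.nameOK 120001 60000 = true := by decide +kernel
theorem c_names_3 : allRange D.nameOK 180001 60000 = true := by decide +kernel
theorem c_names_4 : allRange D.nameOK 240001 60000 = true := by decide +kernel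
theorem c_names_5 : allRange D.nameOK 300001 47581 = true := by decide +kernel
theorem c_cls_0 : allRange (T.clsOK D) 1 15000 = true := by decide +kernel
theorem c_cls_1 : allRange (T.clsOK D) 15001 15000 = true := by decide +kernel
theorem c_cls_2 : allRange (T.clsOK D) 30001 15000 = true := by decide +kernel
theorem c_cls_3 : allRange (T.clsOK D) 45001 15000 = true := by decide +kernel
theorem c_cls_4 : allRange (T.clsOK D) 60001 15000 = true := by decide +kernel
theorem c_cls_5 : allRange (T.clsOK D) 75001 15000 = true := by decide +kernel
theorem c_cls_6 : allRange (T.clsOK D) 90001 15000 = true := by decide +kernel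
theorem c_cls_7 : allRange (T.clsOK D) 105001 15000 = true := by decide +kernel
theorem c_cls_8 : allRange (T.clsOK D) 120001 15000 = true := by decide +kernel
theorem c_cls_9 : allRange (T.clsOK D) 135001 15000 = true := by decide +kernel
theorem c_cls_10 : allRange (T.clsOK D) 150001 15000 = true := by decide +kernel
theorem c_cls_11 : allRange (T.clsOK D) 165001 15000 = true := by decide +kernel
theorem c_cls_12 : allRange (T.clsOK D) 180001 15000 = true := by decide +kernel
theorem c_cls_13 : allRange (T.clsOK D) 195001 15000 = true := by decide +kernel
theorem c_cls_14 : allRange (T.clsOK D) 210001 15000 = true := by decide +kernel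
theorem c_cls_15 : allRange (T.clsOK D) 225001 15000 = true := by decide +kernel
theorem c_cls_16 : allRange (T.clsOK D) 240001 15000 = true := by decide +kernel
theorem c_cls_17 : allRange (T.clsOK D) 255001 15000 = true := by decide +kernel
theorem c_cls_18 : allRange (T.clsOK D) 270001 15000 = true := by decide +kernel
theorem c_cls_19 : allRange (T.clsOK D) 285001 15000 = true := by decide +kernel
theorem c_cls_20 : allRange (T.clsOK D) 300001 15000 = true := by decide +kernel
theorem c_cls_21 : allRange (T.clsOK D) 315001 15000 = true := by decide +kernel
theorem c_cls_22 : allRange (T.clsOK D) 330001 15000 = true := by decide +kernel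
theorem c_cls_23 : allRange (T.clsOK D) 345001 2581 = true := by decide +kernel
theorem c_rep_0 : allRange (T.repOK D) 0 30000 = true := by decide +kernel
theorem c_rep_1 : allRange (T.repOK D) 30000 30000 = true := by decide +kernel
theorem c_rep_2 : allRange (T.repOK D) 60000 30000 = true := by decide +kernel
theorem c_rep_3 : allRange (T.repOK D) 90000 30000 = true := by decide +kernel
theorem c_rep_4 : allRange (T.repOK D) 120000 30000 = true := by decide +kernel
theorem c_rep_5 : allRange (T.repOK D) 150000 30000 = true := by decide +kernel
theorem c_rep_6 : allRange (T.repOK D) 180000 30000 = true := by decide +kernel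
theorem c_rep_7 : allRange (T.repOK D) 210000 30000 = true := by decide +kernel
theorem c_rep_8 : allRange (T.repOK D) 240000 30000 = true := by decide +kernel
theorem c_rep_9 : allRange (T.repOK D) 270000 30000 = true := by decide +kernel
theorem c_rep_10 : allRange (T.repOK D) 300000 6936 = true := by decide +kernel
theorem c_rel_0 : allRange D.relOK 347604 3526 = true := by decide +kernel
theorem c_rel_1 : allRange D.relOK 351130 3561 = true := by decide +kernel
theorem c_rel_2 : allRange D.relOK 354691 3558 = true := by decide +kernel
theorem c_rel_3 : allRange D.relOK 358249 3561 = true := by decide +kernel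
theorem c_rel_4 : allRange D.relOK 361810 3561 = true := by decide +kernel
theorem c_rel_5 : allRange D.relOK 365371 3555 = true := by decide +kernel
theorem c_rel_6 : allRange D.relOK 368926 3563 = true := by decide +kernel
theorem c_rel_7 : allRange D.relOK 372489 3558 = true := by decide +kernel
theorem c_rel_8 : allRange D.relOK 376047 3569 = true := by decide +kernel
theorem c_rel_9 : allRange D.relOK 379616 3548 = true := by decide +kernel
theorem c_rel_10 : allRange D.relOK 383164 3561 = true := by decide +kernel
theorem c_rel_11 : allRange D.relOK 386725 3555 = true := by decide +kernel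
theorem c_rel_12 : allRange D.relOK 390280 3556 = true := by decide +kernel
theorem c_rel_13 : allRange D.relOK 393836 3556 = true := by decide +kernel
theorem c_rel_14 : allRange D.relOK 397392 3567 = true := by decide +kernel
theorem c_rel_15 : allRange D.relOK 400959 3538 = true := by decide +kernel
theorem c_rel_16 : allRange D.relOK 404497 3478 = true := by decide +kernel
theorem c_rel_17 : allRange D.relOK 407975 3517 = true := by decide +kernel
theorem c_rel_18 : allRange D.relOK 411492 3545 = true := by decide +kernel
theorem c_rel_19 : allRange D.relOK 415037 3554 = true := by decide +kernel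
theorem c_rel_20 : allRange D.relOK 418591 3532 = true := by decide +kernel

end Cfsg.Agent.Lib.Helper4.TCD.Fi24a
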