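import Cfsg.Agent.Lib.Helper4.TCD_Fi24a_Acc

namespace Cfsg.Agent.Lib.Helper4.TCD.Fi24a

open Cfsg.Agent.Lib.Helper4.TC

set_option maxRecDepth 100000
set_option Elab.async false

theorem c_perm_88 : allGrid (T.permOK1 D) 220000 2500 12 = true := by decide +kernel
theorem c_perm_89 : allGrid (T.permOK1 D) 222500 2500 12 = true := by decide +kernel
theorem c_perm_90 : allGrid (T.permOK1 D) 225000 2500 12 = true := by decide +kernel
theorem c_perm_91 : allGrid (T.permOK1 D) 227500 2500 12 = true := by decide +kernel
theorem c_perm_92 : allGrid (T.permOK1 D) 230000 2500 12 = true := by decide +kernel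
theorem c_perm_93 : allGrid (T.permOK1 D) 232500 2500 12 = true := by decide +kernel
theorem c_perm_94 : allGrid (T.permOK1 D) 235000 2500 12 = true := by decide +kernel
theorem c_perm_95 : allGrid (T.permOK1 D) 237500 2500 12 = true := by decide +kernel
theorem c_perm_96 : allGrid (T.permOK1 D) 240000 2500 12 = true := by decide +kernel
theorem c_perm_97 : allGrid (T.permOK1 D) 242500 2500 12 = true := by decide +kernel
theorem c_perm_98 : allGrid (T.permOK1 D) 245000 2500 12 = true := by decide +kernel
theorem c_perm_99 : allGrid (T.permOK1 D) 247500 2500 12 = true := by decide +kernel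
theorem c_perm_100 : allGrid (T.permOK1 D) 250000 2500 12 = true := by decide +kernel
theorem c_perm_101 : allGrid (T.permOK1 D) 252500 2500 12 = true := by decide +kernel
theorem c_perm_102 : allGrid (T.permOK1 D) 255000 2500 12 = true := by decide +kernel
theorem c_perm_103 : allGrid (T.permOK1 D) 257500 2500 12 = true := by decide +kernel
theorem c_perm_104 : allGrid (T.permOK1 D) 260000 2500 12 = true := by decide +kernel
theorem c_perm_105 : allGrid (T.permOK1 D) 262500 2500 12 = true := by decide +kernel
theorem c_perm_106 : allGrid (T.permOK1 D) 265000 2500 12 = true := by decide +kernel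
theorem c_perm_107 : allGrid (T.permOK1 D) 267500 2500 12 = true := by decide +kernel
theorem c_perm_108 : allGrid (T.permOK1 D) 270000 2500 12 = true := by decide +kernel
theorem c_perm_109 : allGrid (T.permOK1 D) 272500 2500 12 = true := by decide +kernel
theorem c_perm_110 : allGrid (T.permOK1 D) 275000 2500 12 = true := by decide +kernel
theorem c_perm_111 : allGrid (T.permOK1 D) 277500 2500 12 = true := by decide +kernel
theorem c_perm_112 : allGrid (T.permOK1 D) 280000 2500 12 = true := by decide +kernel
theorem c_perm_113 : allGrid (T.permOK1 D) 282500 2500 12 = true := by decide +kernel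
theorem c_perm_114 : allGrid (T.permOK1 D) 285000 2500 12 = true := by decide +kernel
theorem c_perm_115 : allGrid (T.permOK1 D) 287500 2500 12 = true := by decide +kernel
theorem c_perm_116 : allGrid (T.permOK1 D) 290000 2500 12 = true := by decide +kernel
theorem c_perm_117 : allGrid (T.permOK1 D) 292500 2500 12 = true := by decide +kernel
theorem c_perm_118 : allGrid (T.permOK1 D) 295000 2500 12 = true := by decide +kernel
theorem c_perm_119 : allGrid (T.permOK1 D) 297500 2500 12 = true := by decide +kernel
theorem c_perm_120 : allGrid (T.permOK1 D) 300000 2500 12 = true := by decide +kernel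
theorem c_perm_121 : allGrid (T.permOK1 D) 302500 2500 12 = true := by decide +kernel
theorem c_perm_122 : allGrid (T.permOK1 D) 305000 1936 12 = true := by decide +kernel
theorem c_act0_0 : allRange (fun i => Nat.beq (actR0 i) i) 0 30000 = true := by decide +kernel
theorem c_act0_1 : allRange (fun i => Nat.beq (actR0 i) i) 30000 30000 = true := by decide +kernel
theorem c_act0_2 : allRange (fun i => Nat.beq (actR0 i) i) 60000 30000 = true := by decide +kernel
theorem c_act0_3 : allRange (fun i => Nat.beq (actR0 i) i) 90000 30000 = true := by decide +kernel
theorem c_act0_4 : allRange (fun i => Nat.beq (actR0 i) i) 120000 30000 = true := by decide +kernel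
theorem c_act0_5 : allRange (fun i => Nat.beq (actR0 i) i) 150000 30000 = true := by decide +kernel
theorem c_act0_6 : allRange (fun i => Nat.beq (actR0 i) i) 180000 30000 = true := by decide +kernel
theorem c_act0_7 : allRange (fun i => Nat.beq (actR0 i) i) 210000 30000 = true := by decide +kernel
theorem c_act0_8 : allRange (fun i => Nat.beq (actR0 i) i) 240000 30000 = true := by decide +kernel
theorem c_act0_9 : allRange (fun i => Nat.beq (actR0 i) i) 270000 30000 = true := by decide +kernel
theorem c_act0_10 : allRange (fun i => Nat.beq (actR0 i) i) 300000 6936 = true := by decide +kernel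
theorem c_act1_0 : allRange (fun i => Nat.beq (actR1 i) i) 0 10000 = true := by decide +kernel
theorem c_act1_1 : allRange (fun i => Nat.beq (actR1 i) i) 10000 10000 = true := by decide +kernel
theorem c_act1_2 : allRange (fun i => Nat.beq (actR1 i) i) 20000 10000 = true := by decide +kernel
theorem c_act1_3 : allRange (fun i => Nat.beq (actR1 i) i) 30000 10000 = true := by decide +kernel

end Cfsg.Agent.Lib.Helper4.TCD.Fi24a
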