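import Cfsg.Agent.Lib.Helper4.TCD_Fi24a_Acc

namespace Cfsg.Agent.Lib.Helper4.TCD.Fi24a

open Cfsg.Agent.Lib.Helper4.TC

set_option maxRecDepth 100000
set_option Elab.async false

theorem c_act32_4 : allRange (fun i => Nat.beq (actR32 i) i) 60000 15000 = true := by decide +kernel
theorem c_act32_5 : allRange (fun i => Nat.beq (actR32 i) i) 75000 15000 = true := by decide +kernel
theorem c_act32_6 : allRange (fun i => Nat.beq (actR32 i) i) 90000 15000 = true := by decide +kernel
theorem c_act32_7 : allRange (fun i => Nat.beq (actR32 i) i) 105000 15000 = true := by decide +kernel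
theorem c_act32_8 : allRange (fun i => Nat.beq (actR32 i) i) 120000 15000 = true := by decide +kernel
theorem c_act32_9 : allRange (fun i => Nat.beq (actR32 i) i) 135000 15000 = true := by decide +kernel
theorem c_act32_10 : allRange (fun i => Nat.beq (actR32 i) i) 150000 15000 = true := by decide +kernel
theorem c_act32_11 : allRange (fun i => Nat.beq (actR32 i) i) 165000 15000 = true := by decide +kernel
theorem c_act32_12 : allRange (fun i => Nat.beq (actR32 i) i) 180000 15000 = true := by decide +kernel
theorem c_act32_13 : allRange (fun i => Nat.beq (actR32 i) i) 195000 15000 = true := by decide +kernel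
theorem c_act32_14 : allRange (fun i => Nat.beq (actR32 i) i) 210000 15000 = true := by decide +kernel
theorem c_act32_15 : allRange (fun i => Nat.beq (actR32 i) i) 225000 15000 = true := by decide +kernel
theorem c_act32_16 : allRange (fun i => Nat.beq (actR32 i) i) 240000 15000 = true := by decide +kernel
theorem c_act32_17 : allRange (fun i => Nat.beq (actR32 i) i) 255000 15000 = true := by decide +kernel
theorem c_act32_18 : allRange (fun i => Nat.beq (actR32 i) i) 270000 15000 = true := by decide +kernel
theorem c_act32_19 : allRange (fun i => Nat.beq (actR32 i) i) 285000 15000 = true := by decide +kernel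
theorem c_act32_20 : allRange (fun i => Nat.beq (actR32 i) i) 300000 6936 = true := by decide +kernel
theorem c_act33_0 : allRange (fun i => Nat.beq (actR33 i) i) 0 30000 = true := by decide +kernel
theorem c_act33_1 : allRange (fun i => Nat.beq (actR33 i) i) 30000 30000 = true := by decide +kernel
theorem c_act33_2 : allRange (fun i => Nat.beq (actR33 i) i) 60000 30000 = true := by decide +kernel
theorem c_act33_3 : allRange (fun i => Nat.beq (actR33 i) i) 90000 30000 = true := by decide +kernel
theorem c_act33_4 : allRange (fun i => Nat.beq (actR33 i) i) 120000 30000 = true := by decide +kernel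
theorem c_act33_5 : allRange (fun i => Nat.beq (actR33 i) i) 150000 30000 = true := by decide +kernel
theorem c_act33_6 : allRange (fun i => Nat.beq (actR33 i) i) 180000 30000 = true := by decide +kernel
theorem c_act33_7 : allRange (fun i => Nat.beq (actR33 i) i) 210000 30000 = true := by decide +kernel
theorem c_act33_8 : allRange (fun i => Nat.beq (actR33 i) i) 240000 30000 = true := by decide +kernel
theorem c_act33_9 : allRange (fun i => Nat.beq (actR33 i) i) 270000 30000 = true := by decide +kernel
theorem c_act33_10 : allRange (fun i => Nat.beq (actR33 i) i) 300000 6936 = true := by decide +kernel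
theorem c_act34_0 : allRange (fun i => Nat.beq (actR34 i) i) 0 10000 = true := by decide +kernel
theorem c_act34_1 : allRange (fun i => Nat.beq (actR34 i) i) 10000 10000 = true := by decide +kernel
theorem c_act34_2 : allRange (fun i => Nat.beq (actR34 i) i) 20000 10000 = true := by decide +kernel
theorem c_act34_3 : allRange (fun i => Nat.beq (actR34 i) i) 30000 10000 = true := by decide +kernel
theorem c_act34_4 : allRange (fun i => Nat.beq (actR34 i) i) 40000 10000 = true := by decide +kernel
theorem c_act34_5 : allRange (fun i => Nat.beq (actR34 i) i) 50000 10000 = true := by decide +kernel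
theorem c_act34_6 : allRange (fun i => Nat.beq (actR34 i) i) 60000 10000 = true := by decide +kernel
theorem c_act34_7 : allRange (fun i => Nat.beq (actR34 i) i) 70000 10000 = true := by decide +kernel
theorem c_act34_8 : allRange (fun i => Nat.beq (actR34 i) i) 80000 10000 = true := by decide +kernel
theorem c_act34_9 : allRange (fun i => Nat.beq (actR34 i) i) 90000 10000 = true := by decide +kernel
theorem c_act34_10 : allRange (fun i => Nat.beq (actR34 i) i) 100000 10000 = true := by decide +kernel
theorem c_act34_11 : allRange (fun i => Nat.beq (actR34 i) i) 110000 10000 = true := by decide +kernel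
theorem c_act34_12 : allRange (fun i => Nat.beq (actR34 i) i) 120000 10000 = true := by decide +kernel
theorem c_act34_13 : allRange (fun i => Nat.beq (actR34 i) i) 130000 10000 = true := by decide +kernel
theorem c_act34_14 : allRange (fun i => Nat.beq (actR34 i) i) 140000 10000 = true := by decide +kernel
theorem c_act34_15 : allRange (fun i => Nat.beq (actR34 i) i) 150000 10000 = true := by decide +kernel
theorem c_act34_16 : allRange (fun i => Nat.beq (actR34 i) i) 160000 10000 = true := by decide +kernel
theorem c_act34_17 : allRange (fun i => Nat.beq (actR34 i) i) 170000 10000 = true := by decide +kernel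
theorem c_act34_18 : allRange (fun i => Nat.beq (actR34 i) i) 180000 10000 = true := by decide +kernel
theorem c_act34_19 : allRange (fun i => Nat.beq (actR34 i) i) 190000 10000 = true := by decide +kernel
theorem c_act34_20 : allRange (fun i => Nat.beq (actR34 i) i) 200000 10000 = true := by decide +kernel
theorem c_act34_21 : allRange (fun i => Nat.beq (actR34 i) i) 210000 10000 = true := by decide +kernel
theorem c_act34_22 : allRange (fun i => Nat.beq (actR34 i) i) 220000 10000 = true := by decide +kernel

end Cfsg.Agent.Lib.Helper4.TCD.Fi24a
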