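import Cfsg.Agent.Lib.Helper4.TCD_Fi24a_Acc

namespace Cfsg.Agent.Lib.Helper4.TCD.Fi24a

open Cfsg.Agent.Lib.Helper4.TC

set_option maxRecDepth 100000
set_option Elab.async false

theorem c_act79_136 : allRange (fun i => Nat.beq (actR79 i) i) 34272 252 = true := by decide +kernel
theorem c_act79_137 : allRange (fun i => Nat.beq (actR79 i) i) 34524 252 = true := by decide +kernel
theorem c_act79_138 : allRange (fun i => Nat.beq (actR79 i) i) 34776 252 = true := by decide +kernel
theorem c_act79_139 : allRange (fun i => Nat.beq (actR79 i) i) 35028 252 = true := by decide +kernel
theorem c_act79_140 : allRange (fun i => Nat.beq (actR79 i) i) 35280 252 = true := by decide +kernel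
theorem c_act79_141 : allRange (fun i => Nat.beq (actR79 i) i) 35532 252 = true := by decide +kernel
theorem c_act79_142 : allRange (fun i => Nat.beq (actR79 i) i) 35784 252 = true := by decide +kernel
theorem c_act79_143 : allRange (fun i => Nat.beq (actR79 i) i) 36036 252 = true := by decide +kernel
theorem c_act79_144 : allRange (fun i => Nat.beq (actR79 i) i) 36288 252 = true := by decide +kernel
theorem c_act79_145 : allRange (fun i => Nat.beq (actR79 i) i) 36540 252 = true := by decide +kernel
theorem c_act79_146 : allRange (fun i => Nat.beq (actR79 i) i) 36792 252 = true := by decide +kernel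
theorem c_act79_147 : allRange (fun i => Nat.beq (actR79 i) i) 37044 252 = true := by decide +kernel
theorem c_act79_148 : allRange (fun i => Nat.beq (actR79 i) i) 37296 252 = true := by decide +kernel
theorem c_act79_149 : allRange (fun i => Nat.beq (actR79 i) i) 37548 252 = true := by decide +kernel
theorem c_act79_150 : allRange (fun i => Nat.beq (actR79 i) i) 37800 252 = true := by decide +kernel
theorem c_act79_151 : allRange (fun i => Nat.beq (actR79 i) i) 38052 252 = true := by decide +kernel
theorem c_act79_152 : allRange (fun i => Nat.beq (actR79 i) i) 38304 252 = true := by decide +kernel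
theorem c_act79_153 : allRange (fun i => Nat.beq (actR79 i) i) 38556 252 = true := by decide +kernel
theorem c_act79_154 : allRange (fun i => Nat.beq (actR79 i) i) 38808 252 = true := by decide +kernel
theorem c_act79_155 : allRange (fun i => Nat.beq (actR79 i) i) 39060 252 = true := by decide +kernel
theorem c_act79_156 : allRange (fun i => Nat.beq (actR79 i) i) 39312 252 = true := by decide +kernel
theorem c_act79_157 : allRange (fun i => Nat.beq (actR79 i) i) 39564 252 = true := by decide +kernel
theorem c_act79_158 : allRange (fun i => Nat.beq (actR79 i) i) 39816 252 = true := by decide +kernel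
theorem c_act79_159 : allRange (fun i => Nat.beq (actR79 i) i) 40068 252 = true := by decide +kernel
theorem c_act79_160 : allRange (fun i => Nat.beq (actR79 i) i) 40320 252 = true := by decide +kernel
theorem c_act79_161 : allRange (fun i => Nat.beq (actR79 i) i) 40572 252 = true := by decide +kernel
theorem c_act79_162 : allRange (fun i => Nat.beq (actR79 i) i) 40824 252 = true := by decide +kernel
theorem c_act79_163 : allRange (fun i => Nat.beq (actR79 i) i) 41076 252 = true := by decide +kernel
theorem c_act79_164 : allRange (fun i => Nat.beq (actR79 i) i) 41328 252 = true := by decide +kernel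
theorem c_act79_165 : allRange (fun i => Nat.beq (actR79 i) i) 41580 252 = true := by decide +kernel
theorem c_act79_166 : allRange (fun i => Nat.beq (actR79 i) i) 41832 252 = true := by decide +kernel
theorem c_act79_167 : allRange (fun i => Nat.beq (actR79 i) i) 42084 252 = true := by decide +kernel
theorem c_act79_168 : allRange (fun i => Nat.beq (actR79 i) i) 42336 252 = true := by decide +kernel
theorem c_act79_169 : allRange (fun i => Nat.beq (actR79 i) i) 42588 252 = true := by decide +kernel
theorem c_act79_170 : allRange (fun i => Nat.beq (actR79 i) i) 42840 252 = true := by decide +kernel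
theorem c_act79_171 : allRange (fun i => Nat.beq (actR79 i) i) 43092 252 = true := by decide +kernel
theorem c_act79_172 : allRange (fun i => Nat.beq (actR79 i) i) 43344 252 = true := by decide +kernel
theorem c_act79_173 : allRange (fun i => Nat.beq (actR79 i) i) 43596 252 = true := by decide +kernel
theorem c_act79_174 : allRange (fun i => Nat.beq (actR79 i) i) 43848 252 = true := by decide +kernel
theorem c_act79_175 : allRange (fun i => Nat.beq (actR79 i) i) 44100 252 = true := by decide +kernel
theorem c_act79_176 : allRange (fun i => Nat.beq (actR79 i) i) 44352 252 = true := by decide +kernel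
theorem c_act79_177 : allRange (fun i => Nat.beq (actR79 i) i) 44604 252 = true := by decide +kernel
theorem c_act79_178 : allRange (fun i => Nat.beq (actR79 i) i) 44856 252 = true := by decide +kernel
theorem c_act79_179 : allRange (fun i => Nat.beq (actR79 i) i) 45108 252 = true := by decide +kernel
theorem c_act79_180 : allRange (fun i => Nat.beq (actR79 i) i) 45360 252 = true := by decide +kernel
theorem c_act79_181 : allRange (fun i => Nat.beq (actR79 i) i) 45612 252 = true := by decide +kernel
theorem c_act79_182 : allRange (fun i => Nat.beq (actR79 i) i) 45864 252 = true := by decide +kernel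
theorem c_act79_183 : allRange (fun i => Nat.beq (actR79 i) i) 46116 252 = true := by decide +kernel
theorem c_act79_184 : allRange (fun i => Nat.beq (actR79 i) i) 46368 252 = true := by decide +kernel
theorem c_act79_185 : allRange (fun i => Nat.beq (actR79 i) i) 46620 252 = true := by decide +kernel

end Cfsg.Agent.Lib.Helper4.TCD.Fi24a
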