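import Cfsg.Agent.Lib.Helper4.TCD_Fi24a_Acc

namespace Cfsg.Agent.Lib.Helper4.TCD.Fi24a

open Cfsg.Agent.Lib.Helper4.TC

set_option maxRecDepth 100000
set_option Elab.async false

theorem c_act79_836 : allRange (fun i => Nat.beq (actR79 i) i) 210672 252 = true := by decide +kernel
theorem c_act79_837 : allRange (fun i => Nat.beq (actR79 i) i) 210924 252 = true := by decide +kernel
theorem c_act79_838 : allRange (fun i => Nat.beq (actR79 i) i) 211176 252 = true := by decide +kernel
theorem c_act79_839 : allRange (fun i => Nat.beq (actR79 i) i) 211428 252 = true := by decide +kernel
theorem c_act79_840 : allRange (fun i => Nat.beq (actR79 i) i) 211680 252 = true := by decide +kernel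
theorem c_act79_841 : allRange (fun i => Nat.beq (actR79 i) i) 211932 252 = true := by decide +kernel
theorem c_act79_842 : allRange (fun i => Nat.beq (actR79 i) i) 212184 252 = true := by decide +kernel
theorem c_act79_843 : allRange (fun i => Nat.beq (actR79 i) i) 212436 252 = true := by decide +kernel
theorem c_act79_844 : allRange (fun i => Nat.beq (actR79 i) i) 212688 252 = true := by decide +kernel
theorem c_act79_845 : allRange (fun i => Nat.beq (actR79 i) i) 212940 252 = true := by decide +kernel
theorem c_act79_846 : allRange (fun i => Nat.beq (actR79 i) i) 213192 252 = true := by decide +kernel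
theorem c_act79_847 : allRange (fun i => Nat.beq (actR79 i) i) 213444 252 = true := by decide +kernel
theorem c_act79_848 : allRange (fun i => Nat.beq (actR79 i) i) 213696 252 = true := by decide +kernel
theorem c_act79_849 : allRange (fun i => Nat.beq (actR79 i) i) 213948 252 = true := by decide +kernel
theorem c_act79_850 : allRange (fun i => Nat.beq (actR79 i) i) 214200 252 = true := by decide +kernel
theorem c_act79_851 : allRange (fun i => Nat.beq (actR79 i) i) 214452 252 = true := by decide +kernel
theorem c_act79_852 : allRange (fun i => Nat.beq (actR79 i) i) 214704 252 = true := by decide +kernel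
theorem c_act79_853 : allRange (fun i => Nat.beq (actR79 i) i) 214956 252 = true := by decide +kernel
theorem c_act79_854 : allRange (fun i => Nat.beq (actR79 i) i) 215208 252 = true := by decide +kernel
theorem c_act79_855 : allRange (fun i => Nat.beq (actR79 i) i) 215460 252 = true := by decide +kernel
theorem c_act79_856 : allRange (fun i => Nat.beq (actR79 i) i) 215712 252 = true := by decide +kernel
theorem c_act79_857 : allRange (fun i => Nat.beq (actR79 i) i) 215964 252 = true := by decide +kernel
theorem c_act79_858 : allRange (fun i => Nat.beq (actR79 i) i) 216216 252 = true := by decide +kernel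
theorem c_act79_859 : allRange (fun i => Nat.beq (actR79 i) i) 216468 252 = true := by decide +kernel
theorem c_act79_860 : allRange (fun i => Nat.beq (actR79 i) i) 216720 252 = true := by decide +kernel
theorem c_act79_861 : allRange (fun i => Nat.beq (actR79 i) i) 216972 252 = true := by decide +kernel
theorem c_act79_862 : allRange (fun i => Nat.beq (actR79 i) i) 217224 252 = true := by decide +kernel
theorem c_act79_863 : allRange (fun i => Nat.beq (actR79 i) i) 217476 252 = true := by decide +kernel
theorem c_act79_864 : allRange (fun i => Nat.beq (actR79 i) i) 217728 252 = true := by decide +kernel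
theorem c_act79_865 : allRange (fun i => Nat.beq (actR79 i) i) 217980 252 = true := by decide +kernel
theorem c_act79_866 : allRange (fun i => Nat.beq (actR79 i) i) 218232 252 = true := by decide +kernel
theorem c_act79_867 : allRange (fun i => Nat.beq (actR79 i) i) 218484 252 = true := by decide +kernel
theorem c_act79_868 : allRange (fun i => Nat.beq (actR79 i) i) 218736 252 = true := by decide +kernel
theorem c_act79_869 : allRange (fun i => Nat.beq (actR79 i) i) 218988 252 = true := by decide +kernel
theorem c_act79_870 : allRange (fun i => Nat.beq (actR79 i) i) 219240 252 = true := by decide +kernel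
theorem c_act79_871 : allRange (fun i => Nat.beq (actR79 i) i) 219492 252 = true := by decide +kernel
theorem c_act79_872 : allRange (fun i => Nat.beq (actR79 i) i) 219744 252 = true := by decide +kernel
theorem c_act79_873 : allRange (fun i => Nat.beq (actR79 i) i) 219996 252 = true := by decide +kernel
theorem c_act79_874 : allRange (fun i => Nat.beq (actR79 i) i) 220248 252 = true := by decide +kernel
theorem c_act79_875 : allRange (fun i => Nat.beq (actR79 i) i) 220500 252 = true := by decide +kernel
theorem c_act79_876 : allRange (fun i => Nat.beq (actR79 i) i) 220752 252 = true := by decide +kernel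
theorem c_act79_877 : allRange (fun i => Nat.beq (actR79 i) i) 221004 252 = true := by decide +kernel
theorem c_act79_878 : allRange (fun i => Nat.beq (actR79 i) i) 221256 252 = true := by decide +kernel
theorem c_act79_879 : allRange (fun i => Nat.beq (actR79 i) i) 221508 252 = true := by decide +kernel
theorem c_act79_880 : allRange (fun i => Nat.beq (actR79 i) i) 221760 252 = true := by decide +kernel
theorem c_act79_881 : allRange (fun i => Nat.beq (actR79 i) i) 222012 252 = true := by decide +kernel
theorem c_act79_882 : allRange (fun i => Nat.beq (actR79 i) i) 222264 252 = true := by decide +kernel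
theorem c_act79_883 : allRange (fun i => Nat.beq (actR79 i) i) 222516 252 = true := by decide +kernel
theorem c_act79_884 : allRange (fun i => Nat.beq (actR79 i) i) 222768 252 = true := by decide +kernel
theorem c_act79_885 : allRange (fun i => Nat.beq (actR79 i) i) 223020 252 = true := by decide +kernel

end Cfsg.Agent.Lib.Helper4.TCD.Fi24a
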