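import Cfsg.Agent.Lib.Helper4.TCD_Fi24a_Acc
import Cfsg.Agent.Lib.Helper4.TC13

namespace Cfsg.Agent.Lib.Helper4.TCD.Fi24x29Q

open Cfsg.Agent.Lib.Helper4.TC Cfsg.Agent.Lib.Helper4.TCD.Fi24a

set_option maxRecDepth 100000

def xw : List Nat := [7, 2, 3, 5, 11, 0, 1, 8, 4, 6, 9, 7, 10, 5, 6, 3, 4, 10]

noncomputable def actX (i : Nat) : Nat := col7 (col2 (col3 (col5 (col11 (col0 (col1 (col8 (col4 (col6 (col9 (col7 (col10 (col5 (col6 (col3 (col4 (col10 (col7 (col2 (col3 (col5 (col11 (col0 (col1 (col8 (col4 (col6 (col9 (col7 (col10 (col5 (col6 (col3 (col4 (col10 (col7 (col2 (col3 (col5 (col11 (col0 (col1 (col8 (col4 (col6 (col9 (col7 (col10 (col5 (col6 (col3 (col4 (col10 (col7 (col2 (col3 (col5 (col11 (col0 (col1 (col8 (col4 (col6 (col9 (col7 (col10 (col5 (col6 (col3 (col4 (col10 (col7 (col2 (col3 (col5 (col11 (col0 (col1 (col8 (col4 (col6 (col9 (col7 (col10 (col5 (col6 (col3 (col4 (col10 (col7 (col2 (col3 (col5 (col11 (col0 (col1 (col8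 (col4 (col6 (col9 (col7 (col10 (col5 (col6 (col3 (col4 (col10 (col7 (col2 (col3 (col5 (col11 (col0 (col1 (col8 (col4 (col6 (col9 (col7 (col10 (col5 (col6 (col3 (col4 (col10 (col7 (col2 (col3 (col5 (col11 (col0 (col1 (col8 (col4 (col6 (col9 (col7 (col10 (col5 (col6 (col3 (col4 (col10 (col7 (col2 (col3 (col5 (col11 (col0 (col1 (col8 (col4 (col6 (col9 (col7 (col10 (col5 (col6 (col3 (col4 (col10 (col7 (col2 (col3 (col5 (col11 (col0 (col1 (col8 (col4 (col6 (col9 (col7 (col10 (col5 (col6 (col3 (col4 (col10 (col7 (col2 (col3 (col5 (col11 (col0 (col1 (col8 (col4 (col6 (col9 (col7 (col10 (col5 (col6 (col3 (col4 (col10 (col7 (col2 (col3 (col5 (col11 (col0 (col1 (col8 (col4 (col6 (col9 (col7 (col10 (col5 (col6 (col3 (col4 (col10 (col7 (col2 (col3 (col5 (col11 (col0 (col1 (col8 (col4 (col6 (col9 (col7 (col10 (col5 (col6 (col3 (col4 (col10 (col7 (col2 (col3 (col5 (col11 (col0 (col1 (col8 (col4 (col6 (col9 (col7 (col10 (col5 (col6 (col3 (col4 (col10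 (col7 (col2 (col3 (col5 (col11 (col0 (col1 (col8 (col4 (col6 (col9 (col7 (col10 (col5 (col6 (col3 (col4 (col10 (col7 (col2 (col3 (col5 (col11 (col0 (col1 (col8 (col4 (col6 (col9 (col7 (col10 (col5 (col6 (col3 (col4 (col10 (col7 (col2 (col3 (col5 (col11 (col0 (col1 (col8 (col4 (col6 (col9 (col7 (col10 (col5 (col6 (col3 (col4 (col10 (col7 (col2 (col3 (col5 (col11 (col0 (col1 (col8 (col4 (col6 (col9 (col7 (col10 (col5 (col6 (col3 (col4 (col10 (col7 (col2 (col3 (col5 (col11 (col0 (col1 (col8 (col4 (col6 (col9 (col7 (col10 (col5 (col6 (col3 (col4 (col10 (col7 (col2 (col3 (col5 (col11 (col0 (col1 (col8 (col4 (col6 (col9 (col7 (col10 (col5 (col6 (col3 (col4 (col10 (col7 (col2 (col3 (col5 (col11 (col0 (col1 (col8 (col4 (col6 (col9 (col7 (col10 (col5 (col6 (col3 (col4 (col10 (col7 (col2 (col3 (col5 (col11 (col0 (col1 (col8 (col4 (col6 (col9 (col7 (col10 (col5 (col6 (col3 (col4 (col10 (col7 (col2 (col3 (col5 (col11 (col0 (col1 (col8 (col4 (col6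 (col9 (col7 (col10 (col5 (col6 (col3 (col4 (col10 (col7 (col2 (col3 (col5 (col11 (col0 (col1 (col8 (col4 (col6 (col9 (col7 (col10 (col5 (col6 (col3 (col4 (col10 (col7 (col2 (col3 (col5 (col11 (col0 (col1 (col8 (col4 (col6 (col9 (col7 (col10 (col5 (col6 (col3 (col4 (col10 (col7 (col2 (col3 (col5 (col11 (col0 (col1 (col8 (col4 (col6 (col9 (col7 (col10 (col5 (col6 (col3 (col4 (col10 (col7 (col2 (col3 (col5 (col11 (col0 (col1 (col8 (col4 (col6 (col9 (col7 (col10 (col5 (col6 (col3 (col4 (col10 (col7 (col2 (col3 (col5 (col11 (col0 (col1 (col8 (col4 (col6 (col9 (col7 (col10 (col5 (col6 (col3 (col4 (col10 (col7 (col2 (col3 (col5 (col11 (col0 (col1 (col8 (col4 (col6 (col9 (col7 (col10 (col5 (col6 (col3 (col4 (col10 (i))))))))))))))))))))))))))))))))))))))))))))))))))))))))))))))))))))))))))))))))))))))))))))))))))))))))))))))))))))))))))))))))))))))))))))))))))))))))))))))))))))))))))))))))))))))))))))))))))))))))))))))))))))))))))))))))))))))))))))))))))))))))))))))))))))))))))))))))))))))))))))))))))))))))))))))))))))))))))))))))))))))))))))))))))))))))))))))))))))))))))))))))))))))))))))))))))))))))))))))))))))))))))))))))))))))))))))))))))))))))))))))))))))))))))))))))))))))))))))))))))))))))))))))))))))))))))))))))))))))))))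
theorem actX_eq (i : Nat) : actX i = Tab.act T D (List.replicate 29 xw).flatten i := rfl

end Cfsg.Agent.Lib.Helper4.TCD.Fi24x29Q
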