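import Cfsg.Agent.Lib.Helper4.TCD_Fi24x29Q_Acc

namespace Cfsg.Agent.Lib.Helper4.TCD.Fi24x29Q

open Cfsg.Agent.Lib.Helper4.TC Cfsg.Agent.Lib.Helper4.TCD.Fi24a

set_option maxRecDepth 100000
set_option Elab.async false

theorem c_xq_0_0 : allRange (fun i => Nat.beq (actX i) i) 0 400 = true := by decide +kernel
theorem c_xq_0_1 : allRange (fun i => Nat.beq (actX i) i) 400 400 = true := by decide +kernel
theorem c_xq_0_2 : allRange (fun i => Nat.beq (actX i) i) 800 400 = true := by decide +kernel
theorem c_xq_0_3 : allRange (fun i => Nat.beq (actX i) i) 1200 400 = true := by decide +kernel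
theorem c_xq_0_4 : allRange (fun i => Nat.beq (actX i) i) 1600 400 = true := by decide +kernel
theorem c_xq_0_5 : allRange (fun i => Nat.beq (actX i) i) 2000 400 = true := by decide +kernel
theorem c_xq_0_6 : allRange (fun i => Nat.beq (actX i) i) 2400 400 = true := by decide +kernel
theorem c_xq_0_7 : allRange (fun i => Nat.beq (actX i) i) 2800 400 = true := by decide +kernel
theorem c_xq_0_8 : allRange (fun i => Nat.beq (actX i) i) 3200 400 = true := by decide +kernel
theorem c_xq_0_9 : allRange (fun i => Nat.beq (actX i) i) 3600 400 = true := by decide +kernel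
theorem c_xq_0_10 : allRange (fun i => Nat.beq (actX i) i) 4000 400 = true := by decide +kernel
theorem c_xq_0_11 : allRange (fun i => Nat.beq (actX i) i) 4400 400 = true := by decide +kernel
theorem c_xq_0_12 : allRange (fun i => Nat.beq (actX i) i) 4800 400 = true := by decide +kernel
theorem c_xq_0_13 : allRange (fun i => Nat.beq (actX i) i) 5200 400 = true := by decide +kernel
theorem c_xq_0_14 : allRange (fun i => Nat.beq (actX i) i) 5600 400 = true := by decide +kernel
theorem c_xq_0_15 : allRange (fun i => Nat.beq (actX i) i) 6000 400 = true := by decide +kernel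
theorem c_xq_0_16 : allRange (fun i => Nat.beq (actX i) i) 6400 400 = true := by decide +kernel
theorem c_xq_0_17 : allRange (fun i => Nat.beq (actX i) i) 6800 400 = true := by decide +kernel
theorem c_xq_0_18 : allRange (fun i => Nat.beq (actX i) i) 7200 400 = true := by decide +kernel
theorem c_xq_0_19 : allRange (fun i => Nat.beq (actX i) i) 7600 400 = true := by decide +kernel
theorem c_xq_0_20 : allRange (fun i => Nat.beq (actX i) i) 8000 400 = true := by decide +kernel
theorem c_xq_0_21 : allRange (fun i => Nat.beq (actX i) i) 8400 400 = true := by decide +kernel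
theorem c_xq_0_22 : allRange (fun i => Nat.beq (actX i) i) 8800 400 = true := by decide +kernel
theorem c_xq_0_23 : allRange (fun i => Nat.beq (actX i) i) 9200 400 = true := by decide +kernel
theorem c_xq_0_24 : allRange (fun i => Nat.beq (actX i) i) 9600 400 = true := by decide +kernel
theorem c_xq_0_25 : allRange (fun i => Nat.beq (actX i) i) 10000 400 = true := by decide +kernel
theorem c_xq_0_26 : allRange (fun i => Nat.beq (actX i) i) 10400 400 = true := by decide +kernel
theorem c_xq_0_27 : allRange (fun i => Nat.beq (actX i) i) 10800 400 = true := by decide +kernel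
theorem c_xq_0_28 : allRange (fun i => Nat.beq (actX i) i) 11200 400 = true := by decide +kernel
theorem c_xq_0_29 : allRange (fun i => Nat.beq (actX i) i) 11600 400 = true := by decide +kernel
theorem c_xq_0_30 : allRange (fun i => Nat.beq (actX i) i) 12000 400 = true := by decide +kernel
theorem c_xq_0_31 : allRange (fun i => Nat.beq (actX i) i) 12400 389 = true := by decide +kernel
theorem h_xq_p0 : ∀ i, 0 ≤ i → i < 12789 → Nat.beq (actX i) i = true :=
  (range_glue (range_of_allRange c_xq_0_0) (range_glue (range_of_allRange c_xq_0_1) (range_glue (range_of_allRange c_xq_0_2) (range_glue (range_of_allRange c_xq_0_3) (range_glue (range_of_allRange c_xq_0_4) (range_glue (range_of_allRange c_xq_0_5) (range_glue (range_of_allRange c_xq_0_6) (range_glue (range_of_allRange c_xq_0_7) (range_glue (range_of_allRange c_xq_0_8) (range_glue (range_of_allRange c_xq_0_9) (range_glue (range_of_allRange c_xq_0_10) (range_glue (range_of_allRange c_xq_0_11) (range_glue (range_of_allRange c_xq_0_12) (range_glue (range_of_allRange c_xq_0_13) (range_glue (range_of_allRange c_xq_0_14) (range_glue (range_of_allRange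 c_xq_0_15) (range_glue (range_of_allRange c_xq_0_16) (range_glue (range_of_allRange c_xq_0_17) (range_glue (range_of_allRange c_xq_0_18) (range_glue (range_of_allRange c_xq_0_19) (range_glue (range_of_allRange c_xq_0_20) (range_glue (range_of_allRange c_xq_0_21) (range_glue (range_of_allRange c_xq_0_22) (range_glue (range_of_allRange c_xq_0_23) (range_glue (range_of_allRange c_xq_0_24) (range_glue (range_of_allRange c_xq_0_25) (range_glue (range_of_allRange c_xq_0_26) (range_glue (range_of_allRange c_xq_0_27) (range_glue (range_of_allRange c_xq_0_28) (range_glue (range_of_allRange c_xq_0_29) (range_glue (range_of_allRange c_xq_0_30) (range_of_allRange c_xq_0_31))))))))))))))))))))))))))))))))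

end Cfsg.Agent.Lib.Helper4.TCD.Fi24x29Q
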