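import Cfsg.Agent.Lib.Helper4.TCD_Fi24x29Q_Acc

namespace Cfsg.Agent.Lib.Helper4.TCD.Fi24x29Q

open Cfsg.Agent.Lib.Helper4.TC Cfsg.Agent.Lib.Helper4.TCD.Fi24a

set_option maxRecDepth 100000
set_option Elab.async false

theorem c_xq_18_0 : allRange (fun i => Nat.beq (actX i) i) 230202 400 = true := by decide +kernel
theorem c_xq_18_1 : allRange (fun i => Nat.beq (actX i) i) 230602 400 = true := by decide +kernel
theorem c_xq_18_2 : allRange (fun i => Nat.beq (actX i) i) 231002 400 = true := by decide +kernel
theorem c_xq_18_3 : allRange (fun i => Nat.beq (actX i) i) 231402 400 = true := by decide +kernel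
theorem c_xq_18_4 : allRange (fun i => Nat.beq (actX i) i) 231802 400 = true := by decide +kernel
theorem c_xq_18_5 : allRange (fun i => Nat.beq (actX i) i) 232202 400 = true := by decide +kernel
theorem c_xq_18_6 : allRange (fun i => Nat.beq (actX i) i) 232602 400 = true := by decide +kernel
theorem c_xq_18_7 : allRange (fun i => Nat.beq (actX i) i) 233002 400 = true := by decide +kernel
theorem c_xq_18_8 : allRange (fun i => Nat.beq (actX i) i) 233402 400 = true := by decide +kernel
theorem c_xq_18_9 : allRange (fun i => Nat.beq (actX i) i) 233802 400 = true := by decide +kernel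
theorem c_xq_18_10 : allRange (fun i => Nat.beq (actX i) i) 234202 400 = true := by decide +kernel
theorem c_xq_18_11 : allRange (fun i => Nat.beq (actX i) i) 234602 400 = true := by decide +kernel
theorem c_xq_18_12 : allRange (fun i => Nat.beq (actX i) i) 235002 400 = true := by decide +kernel
theorem c_xq_18_13 : allRange (fun i => Nat.beq (actX i) i) 235402 400 = true := by decide +kernel
theorem c_xq_18_14 : allRange (fun i => Nat.beq (actX i) i) 235802 400 = true := by decide +kernel
theorem c_xq_18_15 : allRange (fun i => Nat.beq (actX i) i) 236202 400 = true := by decide +kernel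
theorem c_xq_18_16 : allRange (fun i => Nat.beq (actX i) i) 236602 400 = true := by decide +kernel
theorem c_xq_18_17 : allRange (fun i => Nat.beq (actX i) i) 237002 400 = true := by decide +kernel
theorem c_xq_18_18 : allRange (fun i => Nat.beq (actX i) i) 237402 400 = true := by decide +kernel
theorem c_xq_18_19 : allRange (fun i => Nat.beq (actX i) i) 237802 400 = true := by decide +kernel
theorem c_xq_18_20 : allRange (fun i => Nat.beq (actX i) i) 238202 400 = true := by decide +kernel
theorem c_xq_18_21 : allRange (fun i => Nat.beq (actX i) i) 238602 400 = true := by decide +kernel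
theorem c_xq_18_22 : allRange (fun i => Nat.beq (actX i) i) 239002 400 = true := by decide +kernel
theorem c_xq_18_23 : allRange (fun i => Nat.beq (actX i) i) 239402 400 = true := by decide +kernel
theorem c_xq_18_24 : allRange (fun i => Nat.beq (actX i) i) 239802 400 = true := by decide +kernel
theorem c_xq_18_25 : allRange (fun i => Nat.beq (actX i) i) 240202 400 = true := by decide +kernel
theorem c_xq_18_26 : allRange (fun i => Nat.beq (actX i) i) 240602 400 = true := by decide +kernel
theorem c_xq_18_27 : allRange (fun i => Nat.beq (actX i) i) 241002 400 = true := by decide +kernel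
theorem c_xq_18_28 : allRange (fun i => Nat.beq (actX i) i) 241402 400 = true := by decide +kernel
theorem c_xq_18_29 : allRange (fun i => Nat.beq (actX i) i) 241802 400 = true := by decide +kernel
theorem c_xq_18_30 : allRange (fun i => Nat.beq (actX i) i) 242202 400 = true := by decide +kernel
theorem c_xq_18_31 : allRange (fun i => Nat.beq (actX i) i) 242602 389 = true := by decide +kernel
theorem h_xq_p18 : ∀ i, 230202 ≤ i → i < 242991 → Nat.beq (actX i) i = true :=
  (range_glue (range_of_allRange c_xq_18_0) (range_glue (range_of_allRange c_xq_18_1) (range_glue (range_of_allRange c_xq_18_2) (range_glue (range_of_allRange c_xq_18_3) (range_glue (range_of_allRange c_xq_18_4) (range_glue (range_of_allRange c_xq_18_5) (range_glue (range_of_allRange c_xq_18_6) (range_glue (range_of_allRange c_xq_18_7) (range_glue (range_of_allRange c_xq_18_8) (range_glue (range_of_allRange c_xq_18_9) (range_glue (range_of_allRange c_xq_18_10) (range_glue (range_of_allRange c_xq_18_11) (range_glue (range_of_allRange c_xq_18_12) (range_glue (range_of_allRange c_xq_18_13) (range_glue (range_of_allRange c_xq_18_14) (range_glue (range_of_allRange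 c_xq_18_15) (range_glue (range_of_allRange c_xq_18_16) (range_glue (range_of_allRange c_xq_18_17) (range_glue (range_of_allRange c_xq_18_18) (range_glue (range_of_allRange c_xq_18_19) (range_glue (range_of_allRange c_xq_18_20) (range_glue (range_of_allRange c_xq_18_21) (range_glue (range_of_allRange c_xq_18_22) (range_glue (range_of_allRange c_xq_18_23) (range_glue (range_of_allRange c_xq_18_24) (range_glue (range_of_allRange c_xq_18_25) (range_glue (range_of_allRange c_xq_18_26) (range_glue (range_of_allRange c_xq_18_27) (range_glue (range_of_allRange c_xq_18_28) (range_glue (range_of_allRange c_xq_18_29) (range_glue (range_of_allRange c_xq_18_30) (range_of_allRange c_xq_18_31))))))))))))))))))))))))))))))))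

end Cfsg.Agent.Lib.Helper4.TCD.Fi24x29Q
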