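import Cfsg.Agent.Lib.Helper4.TCD_Fi24x29Q_Acc

namespace Cfsg.Agent.Lib.Helper4.TCD.Fi24x29Q

open Cfsg.Agent.Lib.Helper4.TC Cfsg.Agent.Lib.Helper4.TCD.Fi24a

set_option maxRecDepth 100000
set_option Elab.async false

theorem c_xq_9_0 : allRange (fun i => Nat.beq (actX i) i) 115101 400 = true := by decide +kernel
theorem c_xq_9_1 : allRange (fun i => Nat.beq (actX i) i) 115501 400 = true := by decide +kernel
theorem c_xq_9_2 : allRange (fun i => Nat.beq (actX i) i) 115901 400 = true := by decide +kernel
theorem c_xq_9_3 : allRange (fun i => Nat.beq (actX i) i) 116301 400 = true := by decide +kernel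
theorem c_xq_9_4 : allRange (fun i => Nat.beq (actX i) i) 116701 400 = true := by decide +kernel
theorem c_xq_9_5 : allRange (fun i => Nat.beq (actX i) i) 117101 400 = true := by decide +kernel
theorem c_xq_9_6 : allRange (fun i => Nat.beq (actX i) i) 117501 400 = true := by decide +kernel
theorem c_xq_9_7 : allRange (fun i => Nat.beq (actX i) i) 117901 400 = true := by decide +kernel
theorem c_xq_9_8 : allRange (fun i => Nat.beq (actX i) i) 118301 400 = true := by decide +kernel
theorem c_xq_9_9 : allRange (fun i => Nat.beq (actX i) i) 118701 400 = true := by decide +kernel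
theorem c_xq_9_10 : allRange (fun i => Nat.beq (actX i) i) 119101 400 = true := by decide +kernel
theorem c_xq_9_11 : allRange (fun i => Nat.beq (actX i) i) 119501 400 = true := by decide +kernel
theorem c_xq_9_12 : allRange (fun i => Nat.beq (actX i) i) 119901 400 = true := by decide +kernel
theorem c_xq_9_13 : allRange (fun i => Nat.beq (actX i) i) 120301 400 = true := by decide +kernel
theorem c_xq_9_14 : allRange (fun i => Nat.beq (actX i) i) 120701 400 = true := by decide +kernel
theorem c_xq_9_15 : allRange (fun i => Nat.beq (actX i) i) 121101 400 = true := by decide +kernel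
theorem c_xq_9_16 : allRange (fun i => Nat.beq (actX i) i) 121501 400 = true := by decide +kernel
theorem c_xq_9_17 : allRange (fun i => Nat.beq (actX i) i) 121901 400 = true := by decide +kernel
theorem c_xq_9_18 : allRange (fun i => Nat.beq (actX i) i) 122301 400 = true := by decide +kernel
theorem c_xq_9_19 : allRange (fun i => Nat.beq (actX i) i) 122701 400 = true := by decide +kernel
theorem c_xq_9_20 : allRange (fun i => Nat.beq (actX i) i) 123101 400 = true := by decide +kernel
theorem c_xq_9_21 : allRange (fun i => Nat.beq (actX i) i) 123501 400 = true := by decide +kernel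
theorem c_xq_9_22 : allRange (fun i => Nat.beq (actX i) i) 123901 400 = true := by decide +kernel
theorem c_xq_9_23 : allRange (fun i => Nat.beq (actX i) i) 124301 400 = true := by decide +kernel
theorem c_xq_9_24 : allRange (fun i => Nat.beq (actX i) i) 124701 400 = true := by decide +kernel
theorem c_xq_9_25 : allRange (fun i => Nat.beq (actX i) i) 125101 400 = true := by decide +kernel
theorem c_xq_9_26 : allRange (fun i => Nat.beq (actX i) i) 125501 400 = true := by decide +kernel
theorem c_xq_9_27 : allRange (fun i => Nat.beq (actX i) i) 125901 400 = true := by decide +kernel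
theorem c_xq_9_28 : allRange (fun i => Nat.beq (actX i) i) 126301 400 = true := by decide +kernel
theorem c_xq_9_29 : allRange (fun i => Nat.beq (actX i) i) 126701 400 = true := by decide +kernel
theorem c_xq_9_30 : allRange (fun i => Nat.beq (actX i) i) 127101 400 = true := by decide +kernel
theorem c_xq_9_31 : allRange (fun i => Nat.beq (actX i) i) 127501 389 = true := by decide +kernel
theorem h_xq_p9 : ∀ i, 115101 ≤ i → i < 127890 → Nat.beq (actX i) i = true :=
  (range_glue (range_of_allRange c_xq_9_0) (range_glue (range_of_allRange c_xq_9_1) (range_glue (range_of_allRange c_xq_9_2) (range_glue (range_of_allRange c_xq_9_3) (range_glue (range_of_allRange c_xq_9_4) (range_glue (range_of_allRange c_xq_9_5) (range_glue (range_of_allRange c_xq_9_6) (range_glue (range_of_allRange c_xq_9_7) (range_glue (range_of_allRange c_xq_9_8) (range_glue (range_of_allRange c_xq_9_9) (range_glue (range_of_allRange c_xq_9_10) (range_glue (range_of_allRange c_xq_9_11) (range_glue (range_of_allRange c_xq_9_12) (range_glue (range_of_allRange c_xq_9_13) (range_glue (range_of_allRange c_xq_9_14) (range_glue (range_of_allRange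 c_xq_9_15) (range_glue (range_of_allRange c_xq_9_16) (range_glue (range_of_allRange c_xq_9_17) (range_glue (range_of_allRange c_xq_9_18) (range_glue (range_of_allRange c_xq_9_19) (range_glue (range_of_allRange c_xq_9_20) (range_glue (range_of_allRange c_xq_9_21) (range_glue (range_of_allRange c_xq_9_22) (range_glue (range_of_allRange c_xq_9_23) (range_glue (range_of_allRange c_xq_9_24) (range_glue (range_of_allRange c_xq_9_25) (range_glue (range_of_allRange c_xq_9_26) (range_glue (range_of_allRange c_xq_9_27) (range_glue (range_of_allRange c_xq_9_28) (range_glue (range_of_allRange c_xq_9_29) (range_glue (range_of_allRange c_xq_9_30) (range_of_allRange c_xq_9_31))))))))))))))))))))))))))))))))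

end Cfsg.Agent.Lib.Helper4.TCD.Fi24x29Q
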