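namespace Cfsg.Agent.Lib.Helper4.TCD.G24pX13

noncomputable def Atab_0 : Nat := nat_lit 0x700600500400300200100000804848244048684648802823836837037673637825025652625404801001610601084073262052440330220010800
noncomputable def Btab_0 : Nat := nat_lit 0x8f10138d10128b101189101087100f85100e83100d81100c70899a56d05f4a604a49080048084847084042284e3092841f88c21838151708001608481508400e38150d08000c08480b08400a0845033815020800010848000840
noncomputable def Ptab_0 : Nat := nat_lit 0x182854cbc1025eb00815898040ccba20e5d107440d85620cc89706c2b16845b9b6010c026010c0212e4db0080cc95320cc953225b341060130080cc9a6adda3220b960c5c1950e5438305442910a081d50e5438305188852214101990ea8706300838f56a47a91ea47a94c9072116845a11684f1c1420b832e0cb832e50902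
noncomputable def RRtab_0 : Nat := nat_lit 0x67677676454554542323323201011010115202053521717561152020535217175613065031571306503157130573651305736577771502021502021502021502021525303005315253030053555511331122112211331122112211131113111311131113111311303121303113031213031111111111111117176767767645455454232332320101101074606034241313400746060342413134006402147120640214712047264120472641206666313140313140313140313140241121243402411212434044443300330022003300330022002000200020002000200020002120302120021203021200000000000000006060
noncomputable def rBtab_0 : Nat := nat_lit 0xf2783b9d8ea74399c8d364b057eb354299348e419f0f4783b1d0e470371b0d4592791c8a39170b040140480800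
noncomputable def rLtab_0 : Nat := nat_lit 0x10842108428a90262c4c62ce210842108428a90262c4c62ce2
noncomputable def nameTab_0 : Nat := nat_lit 0x0
noncomputable def col0_0 : Nat := nat_lit 0x0
noncomputable def col1_0 : Nat := nat_lit 0x0
noncomputable def col2_0 : Nat := nat_lit 0x0
noncomputable def col3_0 : Nat := nat_lit 0x0
noncomputable def col4_0 : Nat := nat_lit 0x0
noncomputable def col5_0 : Nat := nat_lit 0x0
noncomputable def col6_0 : Nat := nat_lit 0x0
noncomputable def col7_0 : Nat := nat_lit 0x0
noncomputable def finTab_0 : Nat := nat_lit 0x992a446890a03e
noncomputable def clsTab_0 : Nat := nat_lit 0x0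

end Cfsg.Agent.Lib.Helper4.TCD.G24pX13
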