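import Cfsg.Agent.Lib.Helper4.TC7
import Cfsg.Agent.Lib.Helper4.TC12
import Cfsg.Agent.Lib.Helper4.TCP_G24p
import Cfsg.Agent.Lib.Helper4.TCD_G24pX13_D0

namespace Cfsg.Agent.Lib.Helper4.TCD.G24pX13

open Cfsg.Agent.Lib.Helper4.TC

set_option maxRecDepth 100000

noncomputable def Atab (i : Nat) : Nat := rdw 12 4095 Atab_0 i
noncomputable def Btab (i : Nat) : Nat := rdw 24 16777215 Btab_0 i
noncomputable def Ptab (i : Nat) : Nat := rdw 7 127 Ptab_0 i
noncomputable def RRtab (i : Nat) : Nat := rdw 4 15 RRtab_0 i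
noncomputable def rBtab (i : Nat) : Nat := rdw 9 511 rBtab_0 i
noncomputable def rLtab (i : Nat) : Nat := rdw 5 31 rLtab_0 i
noncomputable def nameTab (i : Nat) : Nat := rdw 4 15 nameTab_0 i
noncomputable def col0 (i : Nat) : Nat := rdw 1 1 col0_0 i
noncomputable def col1 (i : Nat) : Nat := rdw 1 1 col1_0 i
noncomputable def col2 (i : Nat) : Nat := rdw 1 1 col2_0 i
noncomputable def col3 (i : Nat) : Nat := rdw 1 1 col3_0 i
noncomputable def col4 (i : Nat) : Nat := rdw 1 1 col4_0 i
noncomputable def col5 (i : Nat) : Nat := rdw 1 1 col5_0 i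
noncomputable def col6 (i : Nat) : Nat := rdw 1 1 col6_0 i
noncomputable def col7 (i : Nat) : Nat := rdw 1 1 col7_0 i
noncomputable def finTab (i : Nat) : Nat := rdw 7 127 finTab_0 i
noncomputable def clsTab (i : Nat) : Nat := rdw 1 1 clsTab_0 i
noncomputable def srcF (t : Nat) : Nat := Nat.land (Atab t) 15
noncomputable def tgtF (t : Nat) : Nat := Nat.land (Nat.shiftRight (Atab t) 4) 15
noncomputable def ltF (t : Nat) : Nat := Nat.shiftRight (Atab t) 8
noncomputable def rhoF (t : Nat) : Nat := Nat.land (Btab (Nat.sub t 9)) 63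
noncomputable def rotF (t : Nat) : Nat := Nat.land (Nat.shiftRight (Btab (Nat.sub t 9)) 6) 31
noncomputable def lenF (t : Nat) : Nat := Nat.land (Nat.shiftRight (Btab (Nat.sub t 9)) 11) 31
noncomputable def offF (t : Nat) : Nat := Nat.shiftRight (Btab (Nat.sub t 9)) 16
noncomputable def pfF (j : Nat) : Nat := Nat.shiftRight (Ptab j) 1
noncomputable def pdF (j : Nat) : Nat := Nat.land (Ptab j) 1
noncomputable def tblF (i x : Nat) : Nat := @Bool.rec (fun _ => Nat) (@Bool.rec (fun _ => Nat) (@Bool.rec (fun _ => Nat) (col0 i) (col1 i) (Nat.ble 1 x)) (@Bool.rec (fun _ => Nat) (col2 i) (col3 i) (Nat.ble 3 x)) (Nat.ble 2 x)) (@Bool.rec (fun _ => Nat) (@Bool.rec (fun _ => Nat) (col4 i) (col5 i) (Nat.ble 5 x)) (@Bool.rec (fun _ => Nat) (col6 i) (col7 i) (Nat.ble 7 x)) (Nat.ble 6 x)) (Nat.ble 4 x)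
noncomputable def finE (i x : Nat) : Nat := finTab (Nat.add (Nat.mul i 8) x)
noncomputable def finFF (i x : Nat) : Nat := Nat.shiftRight (finE i x) 1
noncomputable def finDF (i x : Nat) : Nat := Nat.land (finE i x) 1

noncomputable def D : Log :=
  { k := 8, inv := invE 8 PG24p.invR, nR := 40, rBase := rBtab, rLen := rLtab, RR := RRtab,
    M := 9, nB := 0, F := 39, src := srcF, lt := ltF, tgt := tgtF, rho := rhoF, rot := rotF,
    off := offF, len := lenF, pf := pfF, pd := pdF }

noncomputable def T : Tab :=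
  { N := 1, nameOf := nameTab, tbl := tblF, finF := finFF, finD := finDF, cls := clsTab }

def subs : List (List Nat) := [
 ]

def xw : List Nat := [0, 6]

end Cfsg.Agent.Lib.Helper4.TCD.G24pX13
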