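namespace Cfsg.Agent.Lib.Helper4.TCD.GU42pA

noncomputable def Atab_0 : Nat := nat_lit 0x563a1a25052000a0908070584460
noncomputable def Btab_0 : Nat := nat_lit 0x1d0555e11d18462e31c58c60a03c080e
noncomputable def Ptab_0 : Nat := nat_lit 0x20c90291c51446278da9
noncomputable def RRtab_0 : Nat := nat_lit 0x3a3a1818454554542323323201011010425342534051405155555502021313020213130202131302021313021302130213021302130213131313131313131313131313131313131313333333333311119292707045455454232332320101101024352435041504154444442020313120203131202031312020313120312031203120312031203120202020202020202020202020202020202022222222220000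
noncomputable def rBtab_0 : Nat := nat_lit 0x9e4e26930964a249208c44214ea692b948a04e26128904622108803c1c0d44a190380800
noncomputable def rLtab_0 : Nat := nat_lit 0x108421084221070648a2108421084221070648a2
noncomputable def nameTab_0 : Nat := nat_lit 0x24
noncomputable def col0_0 : Nat := nat_lit 0x24
noncomputable def col1_0 : Nat := nat_lit 0x24
noncomputable def col2_0 : Nat := nat_lit 0x24
noncomputable def col3_0 : Nat := nat_lit 0x24
noncomputable def col4_0 : Nat := nat_lit 0x9
noncomputable def col5_0 : Nat := nat_lit 0x12
noncomputable def finTab_0 : Nat := nat_lit 0x345c66d71eeb49c8828c1ee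
noncomputable def clsTab_0 : Nat := nat_lit 0x24
noncomputable def oparTab_0 : Nat := nat_lit 0x0
noncomputable def olabTab_0 : Nat := nat_lit 0x0

end Cfsg.Agent.Lib.Helper4.TCD.GU42pA
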