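import Cfsg.Agent.Lib.Helper4.TCD_HNK1_Acc

namespace Cfsg.Agent.Lib.Helper4.TCD.HNK1

open Cfsg.Agent.Lib.Helper4.TC

set_option maxRecDepth 100000
set_option Elab.async false

theorem c_act5_98 : allRange (fun i => Nat.beq (actR5 i) i) 245000 2500 = true := by decide +kernel
theorem c_act5_99 : allRange (fun i => Nat.beq (actR5 i) i) 247500 2500 = true := by decide +kernel
theorem c_act5_100 : allRange (fun i => Nat.beq (actR5 i) i) 250000 2000 = true := by decide +kernel

end Cfsg.Agent.Lib.Helper4.TCD.HNK1
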