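import Cfsg.Agent.Lib.Helper4.TC7
import Cfsg.Agent.Lib.Helper4.TCP_HNK
import Cfsg.Agent.Lib.Helper4.TCD_HNK2_D0
import Cfsg.Agent.Lib.Helper4.TCD_HNK2_D1
import Cfsg.Agent.Lib.Helper4.TCD_HNK2_D2

namespace Cfsg.Agent.Lib.Helper4.TCD.HNK2

open Cfsg.Agent.Lib.Helper4.TC

set_option maxRecDepth 100000

noncomputable def Atab_s_0_2 (c : Nat) : Nat := @Bool.rec (fun _ => Nat) (Atab_0) (Atab_1) (Nat.ble 1 c)
noncomputable def Atab_s_2_4 (c : Nat) : Nat := @Bool.rec (fun _ => Nat) (Atab_2) (Atab_3) (Nat.ble 3 c)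
noncomputable def Atab_s_0_4 (c : Nat) : Nat := @Bool.rec (fun _ => Nat) (Atab_s_0_2 c) (Atab_s_2_4 c) (Nat.ble 2 c)
noncomputable def Atab_s_4_6 (c : Nat) : Nat := @Bool.rec (fun _ => Nat) (Atab_4) (Atab_5) (Nat.ble 5 c)
noncomputable def Atab_s_7_9 (c : Nat) : Nat := @Bool.rec (fun _ => Nat) (Atab_7) (Atab_8) (Nat.ble 8 c)
noncomputable def Atab_s_6_9 (c : Nat) : Nat := @Bool.rec (fun _ => Nat) (Atab_6) (Atab_s_7_9 c) (Nat.ble 7 c)
noncomputable def Atab_s_4_9 (c : Nat) : Nat := @Bool.rec (fun _ => Nat) (Atab_s_4_6 c) (Atab_s_6_9 c) (Nat.ble 6 c)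
noncomputable def Atab_s_0_9 (c : Nat) : Nat := @Bool.rec (fun _ => Nat) (Atab_s_0_4 c) (Atab_s_4_9 c) (Nat.ble 4 c)
noncomputable def Atab_s_9_11 (c : Nat) : Nat := @Bool.rec (fun _ => Nat) (Atab_9) (Atab_10) (Nat.ble 10 c)
noncomputable def Atab_s_12_14 (c : Nat) : Nat := @Bool.rec (fun _ => Nat) (Atab_12) (Atab_13) (Nat.ble 13 c)
noncomputable def Atab_s_11_14 (c : Nat) : Nat := @Bool.rec (fun _ => Nat) (Atab_11) (Atab_s_12_14 c) (Nat.ble 12 c)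
noncomputable def Atab_s_9_14 (c : Nat) : Nat := @Bool.rec (fun _ => Nat) (Atab_s_9_11 c) (Atab_s_11_14 c) (Nat.ble 11 c)
noncomputable def Atab_s_14_16 (c : Nat) : Nat := @Bool.rec (fun _ => Nat) (Atab_14) (Atab_15) (Nat.ble 15 c)
noncomputable def Atab_s_17_19 (c : Nat) : Nat := @Bool.rec (fun _ => Nat) (Atab_17) (Atab_18) (Nat.ble 18 c)
noncomputable def Atab_s_16_19 (c : Nat) : Nat := @Bool.rec (fun _ => Nat) (Atab_16) (Atab_s_17_19 c) (Nat.ble 17 c)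
noncomputable def Atab_s_14_19 (c : Nat) : Nat := @Bool.rec (fun _ => Nat) (Atab_s_14_16 c) (Atab_s_16_19 c) (Nat.ble 16 c)
noncomputable def Atab_s_9_19 (c : Nat) : Nat := @Bool.rec (fun _ => Nat) (Atab_s_9_14 c) (Atab_s_14_19 c) (Nat.ble 14 c)
noncomputable def Atab_s_0_19 (c : Nat) : Nat := @Bool.rec (fun _ => Nat) (Atab_s_0_9 c) (Atab_s_9_19 c) (Nat.ble 9 c)
noncomputable def Atab_s_19_21 (c : Nat) : Nat := @Bool.rec (fun _ => Nat) (Atab_19) (Atab_20) (Nat.ble 20 c)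
noncomputable def Atab_s_21_23 (c : Nat) : Nat := @Bool.rec (fun _ => Nat) (Atab_21) (Atab_22) (Nat.ble 22 c)
noncomputable def Atab_s_19_23 (c : Nat) : Nat := @Bool.rec (fun _ => Nat) (Atab_s_19_21 c) (Atab_s_21_23 c) (Nat.ble 21 c)
noncomputable def Atab_s_23_25 (c : Nat) : Nat := @Bool.rec (fun _ => Nat) (Atab_23) (Atab_24) (Nat.ble 24 c)
noncomputable def Atab_s_26_28 (c : Nat) : Nat := @Bool.rec (fun _ => Nat) (Atab_26) (Atab_27) (Nat.ble 27 c)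
noncomputable def Atab_s_25_28 (c : Nat) : Nat := @Bool.rec (fun _ => Nat) (Atab_25) (Atab_s_26_28 c) (Nat.ble 26 c)
noncomputable def Atab_s_23_28 (c : Nat) : Nat := @Bool.rec (fun _ => Nat) (Atab_s_23_25 c) (Atab_s_25_28 c) (Nat.ble 25 c)
noncomputable def Atab_s_19_28 (c : Nat) : Nat := @Bool.rec (fun _ => Nat) (Atab_s_19_23 c) (Atab_s_23_28 c) (Nat.ble 23 c)
noncomputable def Atab_s_28_30 (c : Nat) : Nat := @Bool.rec (fun _ => Nat) (Atab_28) (Atab_29) (Nat.ble 29 c)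
noncomputable def Atab_s_31_33 (c : Nat) : Nat := @Bool.rec (fun _ => Nat) (Atab_31) (Atab_32) (Nat.ble 32 c)
noncomputable def Atab_s_30_33 (c : Nat) : Nat := @Bool.rec (fun _ => Nat) (Atab_30) (Atab_s_31_33 c) (Nat.ble 31 c)
noncomputable def Atab_s_28_33 (c : Nat) : Nat := @Bool.rec (fun _ => Nat) (Atab_s_28_30 c) (Atab_s_30_33 c) (Nat.ble 30 c)
noncomputable def Atab_s_33_35 (c : Nat) : Nat := @Bool.rec (fun _ => Nat) (Atab_33) (Atab_34) (Nat.ble 34 c)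
noncomputable def Atab_s_36_38 (c : Nat) : Nat := @Bool.rec (fun _ => Nat) (Atab_36) (Atab_37) (Nat.ble 37 c)
noncomputable def Atab_s_35_38 (c : Nat) : Nat := @Bool.rec (fun _ => Nat) (Atab_35) (Atab_s_36_38 c) (Nat.ble 36 c)
noncomputable def Atab_s_33_38 (c : Nat) : Nat := @Bool.rec (fun _ => Nat) (Atab_s_33_35 c) (Atab_s_35_38 c) (Nat.ble 35 c)
noncomputable def Atab_s_28_38 (c : Nat) : Nat := @Bool.rec (fun _ => Nat) (Atab_s_28_33 c) (Atab_s_33_38 c) (Nat.ble 33 c)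
noncomputable def Atab_s_19_38 (c : Nat) : Nat := @Bool.rec (fun _ => Nat) (Atab_s_19_28 c) (Atab_s_28_38 c) (Nat.ble 28 c)
noncomputable def Atab_s_0_38 (c : Nat) : Nat := @Bool.rec (fun _ => Nat) (Atab_s_0_19 c) (Atab_s_19_38 c) (Nat.ble 19 c)
noncomputable def Atab_s_38_40 (c : Nat) : Nat := @Bool.rec (fun _ => Nat) (Atab_38) (Atab_39) (Nat.ble 39 c)
noncomputable def Atab_s_40_42 (c : Nat) : Nat := @Bool.rec (fun _ => Nat) (Atab_40) (Atab_41) (Nat.ble 41 c)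
noncomputable def Atab_s_38_42 (c : Nat) : Nat := @Bool.rec (fun _ => Nat) (Atab_s_38_40 c) (Atab_s_40_42 c) (Nat.ble 40 c)
noncomputable def Atab_s_42_44 (c : Nat) : Nat := @Bool.rec (fun _ => Nat) (Atab_42) (Atab_43) (Nat.ble 43 c)
noncomputable def Atab_s_45_47 (c : Nat) : Nat := @Bool.rec (fun _ => Nat) (Atab_45) (Atab_46) (Nat.ble 46 c)
noncomputable def Atab_s_44_47 (c : Nat) : Nat := @Bool.rec (fun _ => Nat) (Atab_44) (Atab_s_45_47 c) (Nat.ble 45 c)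
noncomputable def Atab_s_42_47 (c : Nat) : Nat := @Bool.rec (fun _ => Nat) (Atab_s_42_44 c) (Atab_s_44_47 c) (Nat.ble 44 c)
noncomputable def Atab_s_38_47 (c : Nat) : Nat := @Bool.rec (fun _ => Nat) (Atab_s_38_42 c) (Atab_s_42_47 c) (Nat.ble 42 c)
noncomputable def Atab_s_47_49 (c : Nat) : Nat := @Bool.rec (fun _ => Nat) (Atab_47) (Atab_48) (Nat.ble 48 c)
noncomputable def Atab_s_50_52 (c : Nat) : Nat := @Bool.rec (fun _ => Nat) (Atab_50) (Atab_51) (Nat.ble 51 c)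
noncomputable def Atab_s_49_52 (c : Nat) : Nat := @Bool.rec (fun _ => Nat) (Atab_49) (Atab_s_50_52 c) (Nat.ble 50 c)
noncomputable def Atab_s_47_52 (c : Nat) : Nat := @Bool.rec (fun _ => Nat) (Atab_s_47_49 c) (Atab_s_49_52 c) (Nat.ble 49 c)
noncomputable def Atab_s_52_54 (c : Nat) : Nat := @Bool.rec (fun _ => Nat) (Atab_52) (Atab_53) (Nat.ble 53 c)
noncomputable def Atab_s_55_57 (c : Nat) : Nat := @Bool.rec (fun _ => Nat) (Atab_55) (Atab_56) (Nat.ble 56 c)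
noncomputable def Atab_s_54_57 (c : Nat) : Nat := @Bool.rec (fun _ => Nat) (Atab_54) (Atab_s_55_57 c) (Nat.ble 55 c)
noncomputable def Atab_s_52_57 (c : Nat) : Nat := @Bool.rec (fun _ => Nat) (Atab_s_52_54 c) (Atab_s_54_57 c) (Nat.ble 54 c)
noncomputable def Atab_s_47_57 (c : Nat) : Nat := @Bool.rec (fun _ => Nat) (Atab_s_47_52 c) (Atab_s_52_57 c) (Nat.ble 52 c)
noncomputable def Atab_s_38_57 (c : Nat) : Nat := @Bool.rec (fun _ => Nat) (Atab_s_38_47 c) (Atab_s_47_57 c) (Nat.ble 47 c)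
noncomputable def Atab_s_57_59 (c : Nat) : Nat := @Bool.rec (fun _ => Nat) (Atab_57) (Atab_58) (Nat.ble 58 c)
noncomputable def Atab_s_59_61 (c : Nat) : Nat := @Bool.rec (fun _ => Nat) (Atab_59) (Atab_60) (Nat.ble 60 c)
noncomputable def Atab_s_57_61 (c : Nat) : Nat := @Bool.rec (fun _ => Nat) (Atab_s_57_59 c) (Atab_s_59_61 c) (Nat.ble 59 c)
noncomputable def Atab_s_61_63 (c : Nat) : Nat := @Bool.rec (fun _ => Nat) (Atab_61) (Atab_62) (Nat.ble 62 c)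
noncomputable def Atab_s_64_66 (c : Nat) : Nat := @Bool.rec (fun _ => Nat) (Atab_64) (Atab_65) (Nat.ble 65 c)
noncomputable def Atab_s_63_66 (c : Nat) : Nat := @Bool.rec (fun _ => Nat) (Atab_63) (Atab_s_64_66 c) (Nat.ble 64 c)
noncomputable def Atab_s_61_66 (c : Nat) : Nat := @Bool.rec (fun _ => Nat) (Atab_s_61_63 c) (Atab_s_63_66 c) (Nat.ble 63 c)
noncomputable def Atab_s_57_66 (c : Nat) : Nat := @Bool.rec (fun _ => Nat) (Atab_s_57_61 c) (Atab_s_61_66 c) (Nat.ble 61 c)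
noncomputable def Atab_s_66_68 (c : Nat) : Nat := @Bool.rec (fun _ => Nat) (Atab_66) (Atab_67) (Nat.ble 67 c)
noncomputable def Atab_s_69_71 (c : Nat) : Nat := @Bool.rec (fun _ => Nat) (Atab_69) (Atab_70) (Nat.ble 70 c)
noncomputable def Atab_s_68_71 (c : Nat) : Nat := @Bool.rec (fun _ => Nat) (Atab_68) (Atab_s_69_71 c) (Nat.ble 69 c)
noncomputable def Atab_s_66_71 (c : Nat) : Nat := @Bool.rec (fun _ => Nat) (Atab_s_66_68 c) (Atab_s_68_71 c) (Nat.ble 68 c)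
noncomputable def Atab_s_71_73 (c : Nat) : Nat := @Bool.rec (fun _ => Nat) (Atab_71) (Atab_72) (Nat.ble 72 c)
noncomputable def Atab_s_74_76 (c : Nat) : Nat := @Bool.rec (fun _ => Nat) (Atab_74) (Atab_75) (Nat.ble 75 c)
noncomputable def Atab_s_73_76 (c : Nat) : Nat := @Bool.rec (fun _ => Nat) (Atab_73) (Atab_s_74_76 c) (Nat.ble 74 c)
noncomputable def Atab_s_71_76 (c : Nat) : Nat := @Bool.rec (fun _ => Nat) (Atab_s_71_73 c) (Atab_s_73_76 c) (Nat.ble 73 c)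
noncomputable def Atab_s_66_76 (c : Nat) : Nat := @Bool.rec (fun _ => Nat) (Atab_s_66_71 c) (Atab_s_71_76 c) (Nat.ble 71 c)
noncomputable def Atab_s_57_76 (c : Nat) : Nat := @Bool.rec (fun _ => Nat) (Atab_s_57_66 c) (Atab_s_66_76 c) (Nat.ble 66 c)
noncomputable def Atab_s_38_76 (c : Nat) : Nat := @Bool.rec (fun _ => Nat) (Atab_s_38_57 c) (Atab_s_57_76 c) (Nat.ble 57 c)
noncomputable def Atab_s_0_76 (c : Nat) : Nat := @Bool.rec (fun _ => Nat) (Atab_s_0_38 c) (Atab_s_38_76 c) (Nat.ble 38 c)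
noncomputable def Atab (i : Nat) : Nat := rdw 38 274877906943 (Atab_s_0_76 (Nat.shiftRight i 11)) (Nat.land i 2047)
noncomputable def Btab_s_0_2 (c : Nat) : Nat := @Bool.rec (fun _ => Nat) (Btab_0) (Btab_1) (Nat.ble 1 c)
noncomputable def Btab_s_3_5 (c : Nat) : Nat := @Bool.rec (fun _ => Nat) (Btab_3) (Btab_4) (Nat.ble 4 c)
noncomputable def Btab_s_2_5 (c : Nat) : Nat := @Bool.rec (fun _ => Nat) (Btab_2) (Btab_s_3_5 c) (Nat.ble 3 c)
noncomputable def Btab_s_0_5 (c : Nat) : Nat := @Bool.rec (fun _ => Nat) (Btab_s_0_2 c) (Btab_s_2_5 c) (Nat.ble 2 c)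
noncomputable def Btab_s_5_7 (c : Nat) : Nat := @Bool.rec (fun _ => Nat) (Btab_5) (Btab_6) (Nat.ble 6 c)
noncomputable def Btab_s_8_10 (c : Nat) : Nat := @Bool.rec (fun _ => Nat) (Btab_8) (Btab_9) (Nat.ble 9 c)
noncomputable def Btab_s_7_10 (c : Nat) : Nat := @Bool.rec (fun _ => Nat) (Btab_7) (Btab_s_8_10 c) (Nat.ble 8 c)
noncomputable def Btab_s_5_10 (c : Nat) : Nat := @Bool.rec (fun _ => Nat) (Btab_s_5_7 c) (Btab_s_7_10 c) (Nat.ble 7 c)
noncomputable def Btab_s_0_10 (c : Nat) : Nat := @Bool.rec (fun _ => Nat) (Btab_s_0_5 c) (Btab_s_5_10 c) (Nat.ble 5 c)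
noncomputable def Btab_s_10_12 (c : Nat) : Nat := @Bool.rec (fun _ => Nat) (Btab_10) (Btab_11) (Nat.ble 11 c)
noncomputable def Btab_s_13_15 (c : Nat) : Nat := @Bool.rec (fun _ => Nat) (Btab_13) (Btab_14) (Nat.ble 14 c)
noncomputable def Btab_s_12_15 (c : Nat) : Nat := @Bool.rec (fun _ => Nat) (Btab_12) (Btab_s_13_15 c) (Nat.ble 13 c)
noncomputable def Btab_s_10_15 (c : Nat) : Nat := @Bool.rec (fun _ => Nat) (Btab_s_10_12 c) (Btab_s_12_15 c) (Nat.ble 12 c)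
noncomputable def Btab_s_15_17 (c : Nat) : Nat := @Bool.rec (fun _ => Nat) (Btab_15) (Btab_16) (Nat.ble 16 c)
noncomputable def Btab_s_18_20 (c : Nat) : Nat := @Bool.rec (fun _ => Nat) (Btab_18) (Btab_19) (Nat.ble 19 c)
noncomputable def Btab_s_17_20 (c : Nat) : Nat := @Bool.rec (fun _ => Nat) (Btab_17) (Btab_s_18_20 c) (Nat.ble 18 c)
noncomputable def Btab_s_15_20 (c : Nat) : Nat := @Bool.rec (fun _ => Nat) (Btab_s_15_17 c) (Btab_s_17_20 c) (Nat.ble 17 c)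
noncomputable def Btab_s_10_20 (c : Nat) : Nat := @Bool.rec (fun _ => Nat) (Btab_s_10_15 c) (Btab_s_15_20 c) (Nat.ble 15 c)
noncomputable def Btab_s_0_20 (c : Nat) : Nat := @Bool.rec (fun _ => Nat) (Btab_s_0_10 c) (Btab_s_10_20 c) (Nat.ble 10 c)
noncomputable def Btab_s_20_22 (c : Nat) : Nat := @Bool.rec (fun _ => Nat) (Btab_20) (Btab_21) (Nat.ble 21 c)
noncomputable def Btab_s_23_25 (c : Nat) : Nat := @Bool.rec (fun _ => Nat) (Btab_23) (Btab_24) (Nat.ble 24 c)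
noncomputable def Btab_s_22_25 (c : Nat) : Nat := @Bool.rec (fun _ => Nat) (Btab_22) (Btab_s_23_25 c) (Nat.ble 23 c)
noncomputable def Btab_s_20_25 (c : Nat) : Nat := @Bool.rec (fun _ => Nat) (Btab_s_20_22 c) (Btab_s_22_25 c) (Nat.ble 22 c)
noncomputable def Btab_s_25_27 (c : Nat) : Nat := @Bool.rec (fun _ => Nat) (Btab_25) (Btab_26) (Nat.ble 26 c)
noncomputable def Btab_s_28_30 (c : Nat) : Nat := @Bool.rec (fun _ => Nat) (Btab_28) (Btab_29) (Nat.ble 29 c)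
noncomputable def Btab_s_27_30 (c : Nat) : Nat := @Bool.rec (fun _ => Nat) (Btab_27) (Btab_s_28_30 c) (Nat.ble 28 c)
noncomputable def Btab_s_25_30 (c : Nat) : Nat := @Bool.rec (fun _ => Nat) (Btab_s_25_27 c) (Btab_s_27_30 c) (Nat.ble 27 c)
noncomputable def Btab_s_20_30 (c : Nat) : Nat := @Bool.rec (fun _ => Nat) (Btab_s_20_25 c) (Btab_s_25_30 c) (Nat.ble 25 c)
noncomputable def Btab_s_30_32 (c : Nat) : Nat := @Bool.rec (fun _ => Nat) (Btab_30) (Btab_31) (Nat.ble 31 c)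
noncomputable def Btab_s_33_35 (c : Nat) : Nat := @Bool.rec (fun _ => Nat) (Btab_33) (Btab_34) (Nat.ble 34 c)
noncomputable def Btab_s_32_35 (c : Nat) : Nat := @Bool.rec (fun _ => Nat) (Btab_32) (Btab_s_33_35 c) (Nat.ble 33 c)
noncomputable def Btab_s_30_35 (c : Nat) : Nat := @Bool.rec (fun _ => Nat) (Btab_s_30_32 c) (Btab_s_32_35 c) (Nat.ble 32 c)
noncomputable def Btab_s_36_38 (c : Nat) : Nat := @Bool.rec (fun _ => Nat) (Btab_36) (Btab_37) (Nat.ble 37 c)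
noncomputable def Btab_s_35_38 (c : Nat) : Nat := @Bool.rec (fun _ => Nat) (Btab_35) (Btab_s_36_38 c) (Nat.ble 36 c)
noncomputable def Btab_s_39_41 (c : Nat) : Nat := @Bool.rec (fun _ => Nat) (Btab_39) (Btab_40) (Nat.ble 40 c)
noncomputable def Btab_s_38_41 (c : Nat) : Nat := @Bool.rec (fun _ => Nat) (Btab_38) (Btab_s_39_41 c) (Nat.ble 39 c)
noncomputable def Btab_s_35_41 (c : Nat) : Nat := @Bool.rec (fun _ => Nat) (Btab_s_35_38 c) (Btab_s_38_41 c) (Nat.ble 38 c)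
noncomputable def Btab_s_30_41 (c : Nat) : Nat := @Bool.rec (fun _ => Nat) (Btab_s_30_35 c) (Btab_s_35_41 c) (Nat.ble 35 c)
noncomputable def Btab_s_20_41 (c : Nat) : Nat := @Bool.rec (fun _ => Nat) (Btab_s_20_30 c) (Btab_s_30_41 c) (Nat.ble 30 c)
noncomputable def Btab_s_0_41 (c : Nat) : Nat := @Bool.rec (fun _ => Nat) (Btab_s_0_20 c) (Btab_s_20_41 c) (Nat.ble 20 c)
noncomputable def Btab (i : Nat) : Nat := rdw 35 34359738367 (Btab_s_0_41 (Nat.shiftRight i 11)) (Nat.land i 2047)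
noncomputable def Ptab_s_1_3 (c : Nat) : Nat := @Bool.rec (fun _ => Nat) (Ptab_1) (Ptab_2) (Nat.ble 2 c)
noncomputable def Ptab_s_0_3 (c : Nat) : Nat := @Bool.rec (fun _ => Nat) (Ptab_0) (Ptab_s_1_3 c) (Nat.ble 1 c)
noncomputable def Ptab_s_4_6 (c : Nat) : Nat := @Bool.rec (fun _ => Nat) (Ptab_4) (Ptab_5) (Nat.ble 5 c)
noncomputable def Ptab_s_3_6 (c : Nat) : Nat := @Bool.rec (fun _ => Nat) (Ptab_3) (Ptab_s_4_6 c) (Nat.ble 4 c)
noncomputable def Ptab_s_0_6 (c : Nat) : Nat := @Bool.rec (fun _ => Nat) (Ptab_s_0_3 c) (Ptab_s_3_6 c) (Nat.ble 3 c)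
noncomputable def Ptab_s_7_9 (c : Nat) : Nat := @Bool.rec (fun _ => Nat) (Ptab_7) (Ptab_8) (Nat.ble 8 c)
noncomputable def Ptab_s_6_9 (c : Nat) : Nat := @Bool.rec (fun _ => Nat) (Ptab_6) (Ptab_s_7_9 c) (Nat.ble 7 c)
noncomputable def Ptab_s_10_12 (c : Nat) : Nat := @Bool.rec (fun _ => Nat) (Ptab_10) (Ptab_11) (Nat.ble 11 c)
noncomputable def Ptab_s_9_12 (c : Nat) : Nat := @Bool.rec (fun _ => Nat) (Ptab_9) (Ptab_s_10_12 c) (Nat.ble 10 c)
noncomputable def Ptab_s_6_12 (c : Nat) : Nat := @Bool.rec (fun _ => Nat) (Ptab_s_6_9 c) (Ptab_s_9_12 c) (Nat.ble 9 c)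
noncomputable def Ptab_s_0_12 (c : Nat) : Nat := @Bool.rec (fun _ => Nat) (Ptab_s_0_6 c) (Ptab_s_6_12 c) (Nat.ble 6 c)
noncomputable def Ptab_s_13_15 (c : Nat) : Nat := @Bool.rec (fun _ => Nat) (Ptab_13) (Ptab_14) (Nat.ble 14 c)
noncomputable def Ptab_s_12_15 (c : Nat) : Nat := @Bool.rec (fun _ => Nat) (Ptab_12) (Ptab_s_13_15 c) (Nat.ble 13 c)
noncomputable def Ptab_s_16_18 (c : Nat) : Nat := @Bool.rec (fun _ => Nat) (Ptab_16) (Ptab_17) (Nat.ble 17 c)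
noncomputable def Ptab_s_15_18 (c : Nat) : Nat := @Bool.rec (fun _ => Nat) (Ptab_15) (Ptab_s_16_18 c) (Nat.ble 16 c)
noncomputable def Ptab_s_12_18 (c : Nat) : Nat := @Bool.rec (fun _ => Nat) (Ptab_s_12_15 c) (Ptab_s_15_18 c) (Nat.ble 15 c)
noncomputable def Ptab_s_19_21 (c : Nat) : Nat := @Bool.rec (fun _ => Nat) (Ptab_19) (Ptab_20) (Nat.ble 20 c)
noncomputable def Ptab_s_18_21 (c : Nat) : Nat := @Bool.rec (fun _ => Nat) (Ptab_18) (Ptab_s_19_21 c) (Nat.ble 19 c)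
noncomputable def Ptab_s_21_23 (c : Nat) : Nat := @Bool.rec (fun _ => Nat) (Ptab_21) (Ptab_22) (Nat.ble 22 c)
noncomputable def Ptab_s_23_25 (c : Nat) : Nat := @Bool.rec (fun _ => Nat) (Ptab_23) (Ptab_24) (Nat.ble 24 c)
noncomputable def Ptab_s_21_25 (c : Nat) : Nat := @Bool.rec (fun _ => Nat) (Ptab_s_21_23 c) (Ptab_s_23_25 c) (Nat.ble 23 c)
noncomputable def Ptab_s_18_25 (c : Nat) : Nat := @Bool.rec (fun _ => Nat) (Ptab_s_18_21 c) (Ptab_s_21_25 c) (Nat.ble 21 c)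
noncomputable def Ptab_s_12_25 (c : Nat) : Nat := @Bool.rec (fun _ => Nat) (Ptab_s_12_18 c) (Ptab_s_18_25 c) (Nat.ble 18 c)
noncomputable def Ptab_s_0_25 (c : Nat) : Nat := @Bool.rec (fun _ => Nat) (Ptab_s_0_12 c) (Ptab_s_12_25 c) (Nat.ble 12 c)
noncomputable def Ptab_s_26_28 (c : Nat) : Nat := @Bool.rec (fun _ => Nat) (Ptab_26) (Ptab_27) (Nat.ble 27 c)
noncomputable def Ptab_s_25_28 (c : Nat) : Nat := @Bool.rec (fun _ => Nat) (Ptab_25) (Ptab_s_26_28 c) (Nat.ble 26 c)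
noncomputable def Ptab_s_29_31 (c : Nat) : Nat := @Bool.rec (fun _ => Nat) (Ptab_29) (Ptab_30) (Nat.ble 30 c)
noncomputable def Ptab_s_28_31 (c : Nat) : Nat := @Bool.rec (fun _ => Nat) (Ptab_28) (Ptab_s_29_31 c) (Nat.ble 29 c)
noncomputable def Ptab_s_25_31 (c : Nat) : Nat := @Bool.rec (fun _ => Nat) (Ptab_s_25_28 c) (Ptab_s_28_31 c) (Nat.ble 28 c)
noncomputable def Ptab_s_32_34 (c : Nat) : Nat := @Bool.rec (fun _ => Nat) (Ptab_32) (Ptab_33) (Nat.ble 33 c)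
noncomputable def Ptab_s_31_34 (c : Nat) : Nat := @Bool.rec (fun _ => Nat) (Ptab_31) (Ptab_s_32_34 c) (Nat.ble 32 c)
noncomputable def Ptab_s_35_37 (c : Nat) : Nat := @Bool.rec (fun _ => Nat) (Ptab_35) (Ptab_36) (Nat.ble 36 c)
noncomputable def Ptab_s_34_37 (c : Nat) : Nat := @Bool.rec (fun _ => Nat) (Ptab_34) (Ptab_s_35_37 c) (Nat.ble 35 c)
noncomputable def Ptab_s_31_37 (c : Nat) : Nat := @Bool.rec (fun _ => Nat) (Ptab_s_31_34 c) (Ptab_s_34_37 c) (Nat.ble 34 c)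
noncomputable def Ptab_s_25_37 (c : Nat) : Nat := @Bool.rec (fun _ => Nat) (Ptab_s_25_31 c) (Ptab_s_31_37 c) (Nat.ble 31 c)
noncomputable def Ptab_s_38_40 (c : Nat) : Nat := @Bool.rec (fun _ => Nat) (Ptab_38) (Ptab_39) (Nat.ble 39 c)
noncomputable def Ptab_s_37_40 (c : Nat) : Nat := @Bool.rec (fun _ => Nat) (Ptab_37) (Ptab_s_38_40 c) (Nat.ble 38 c)
noncomputable def Ptab_s_41_43 (c : Nat) : Nat := @Bool.rec (fun _ => Nat) (Ptab_41) (Ptab_42) (Nat.ble 42 c)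
noncomputable def Ptab_s_40_43 (c : Nat) : Nat := @Bool.rec (fun _ => Nat) (Ptab_40) (Ptab_s_41_43 c) (Nat.ble 41 c)
noncomputable def Ptab_s_37_43 (c : Nat) : Nat := @Bool.rec (fun _ => Nat) (Ptab_s_37_40 c) (Ptab_s_40_43 c) (Nat.ble 40 c)
noncomputable def Ptab_s_44_46 (c : Nat) : Nat := @Bool.rec (fun _ => Nat) (Ptab_44) (Ptab_45) (Nat.ble 45 c)
noncomputable def Ptab_s_43_46 (c : Nat) : Nat := @Bool.rec (fun _ => Nat) (Ptab_43) (Ptab_s_44_46 c) (Nat.ble 44 c)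
noncomputable def Ptab_s_46_48 (c : Nat) : Nat := @Bool.rec (fun _ => Nat) (Ptab_46) (Ptab_47) (Nat.ble 47 c)
noncomputable def Ptab_s_48_50 (c : Nat) : Nat := @Bool.rec (fun _ => Nat) (Ptab_48) (Ptab_49) (Nat.ble 49 c)
noncomputable def Ptab_s_46_50 (c : Nat) : Nat := @Bool.rec (fun _ => Nat) (Ptab_s_46_48 c) (Ptab_s_48_50 c) (Nat.ble 48 c)
noncomputable def Ptab_s_43_50 (c : Nat) : Nat := @Bool.rec (fun _ => Nat) (Ptab_s_43_46 c) (Ptab_s_46_50 c) (Nat.ble 46 c)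
noncomputable def Ptab_s_37_50 (c : Nat) : Nat := @Bool.rec (fun _ => Nat) (Ptab_s_37_43 c) (Ptab_s_43_50 c) (Nat.ble 43 c)
noncomputable def Ptab_s_25_50 (c : Nat) : Nat := @Bool.rec (fun _ => Nat) (Ptab_s_25_37 c) (Ptab_s_37_50 c) (Nat.ble 37 c)
noncomputable def Ptab_s_0_50 (c : Nat) : Nat := @Bool.rec (fun _ => Nat) (Ptab_s_0_25 c) (Ptab_s_25_50 c) (Nat.ble 25 c)
noncomputable def Ptab_s_51_53 (c : Nat) : Nat := @Bool.rec (fun _ => Nat) (Ptab_51) (Ptab_52) (Nat.ble 52 c)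
noncomputable def Ptab_s_50_53 (c : Nat) : Nat := @Bool.rec (fun _ => Nat) (Ptab_50) (Ptab_s_51_53 c) (Nat.ble 51 c)
noncomputable def Ptab_s_54_56 (c : Nat) : Nat := @Bool.rec (fun _ => Nat) (Ptab_54) (Ptab_55) (Nat.ble 55 c)
noncomputable def Ptab_s_53_56 (c : Nat) : Nat := @Bool.rec (fun _ => Nat) (Ptab_53) (Ptab_s_54_56 c) (Nat.ble 54 c)
noncomputable def Ptab_s_50_56 (c : Nat) : Nat := @Bool.rec (fun _ => Nat) (Ptab_s_50_53 c) (Ptab_s_53_56 c) (Nat.ble 53 c)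
noncomputable def Ptab_s_57_59 (c : Nat) : Nat := @Bool.rec (fun _ => Nat) (Ptab_57) (Ptab_58) (Nat.ble 58 c)
noncomputable def Ptab_s_56_59 (c : Nat) : Nat := @Bool.rec (fun _ => Nat) (Ptab_56) (Ptab_s_57_59 c) (Nat.ble 57 c)
noncomputable def Ptab_s_60_62 (c : Nat) : Nat := @Bool.rec (fun _ => Nat) (Ptab_60) (Ptab_61) (Nat.ble 61 c)
noncomputable def Ptab_s_59_62 (c : Nat) : Nat := @Bool.rec (fun _ => Nat) (Ptab_59) (Ptab_s_60_62 c) (Nat.ble 60 c)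
noncomputable def Ptab_s_56_62 (c : Nat) : Nat := @Bool.rec (fun _ => Nat) (Ptab_s_56_59 c) (Ptab_s_59_62 c) (Nat.ble 59 c)
noncomputable def Ptab_s_50_62 (c : Nat) : Nat := @Bool.rec (fun _ => Nat) (Ptab_s_50_56 c) (Ptab_s_56_62 c) (Nat.ble 56 c)
noncomputable def Ptab_s_63_65 (c : Nat) : Nat := @Bool.rec (fun _ => Nat) (Ptab_63) (Ptab_64) (Nat.ble 64 c)
noncomputable def Ptab_s_62_65 (c : Nat) : Nat := @Bool.rec (fun _ => Nat) (Ptab_62) (Ptab_s_63_65 c) (Nat.ble 63 c)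
noncomputable def Ptab_s_66_68 (c : Nat) : Nat := @Bool.rec (fun _ => Nat) (Ptab_66) (Ptab_67) (Nat.ble 67 c)
noncomputable def Ptab_s_65_68 (c : Nat) : Nat := @Bool.rec (fun _ => Nat) (Ptab_65) (Ptab_s_66_68 c) (Nat.ble 66 c)
noncomputable def Ptab_s_62_68 (c : Nat) : Nat := @Bool.rec (fun _ => Nat) (Ptab_s_62_65 c) (Ptab_s_65_68 c) (Nat.ble 65 c)
noncomputable def Ptab_s_69_71 (c : Nat) : Nat := @Bool.rec (fun _ => Nat) (Ptab_69) (Ptab_70) (Nat.ble 70 c)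
noncomputable def Ptab_s_68_71 (c : Nat) : Nat := @Bool.rec (fun _ => Nat) (Ptab_68) (Ptab_s_69_71 c) (Nat.ble 69 c)
noncomputable def Ptab_s_71_73 (c : Nat) : Nat := @Bool.rec (fun _ => Nat) (Ptab_71) (Ptab_72) (Nat.ble 72 c)
noncomputable def Ptab_s_73_75 (c : Nat) : Nat := @Bool.rec (fun _ => Nat) (Ptab_73) (Ptab_74) (Nat.ble 74 c)
noncomputable def Ptab_s_71_75 (c : Nat) : Nat := @Bool.rec (fun _ => Nat) (Ptab_s_71_73 c) (Ptab_s_73_75 c) (Nat.ble 73 c)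
noncomputable def Ptab_s_68_75 (c : Nat) : Nat := @Bool.rec (fun _ => Nat) (Ptab_s_68_71 c) (Ptab_s_71_75 c) (Nat.ble 71 c)
noncomputable def Ptab_s_62_75 (c : Nat) : Nat := @Bool.rec (fun _ => Nat) (Ptab_s_62_68 c) (Ptab_s_68_75 c) (Nat.ble 68 c)
noncomputable def Ptab_s_50_75 (c : Nat) : Nat := @Bool.rec (fun _ => Nat) (Ptab_s_50_62 c) (Ptab_s_62_75 c) (Nat.ble 62 c)
noncomputable def Ptab_s_76_78 (c : Nat) : Nat := @Bool.rec (fun _ => Nat) (Ptab_76) (Ptab_77) (Nat.ble 77 c)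
noncomputable def Ptab_s_75_78 (c : Nat) : Nat := @Bool.rec (fun _ => Nat) (Ptab_75) (Ptab_s_76_78 c) (Nat.ble 76 c)
noncomputable def Ptab_s_79_81 (c : Nat) : Nat := @Bool.rec (fun _ => Nat) (Ptab_79) (Ptab_80) (Nat.ble 80 c)
noncomputable def Ptab_s_78_81 (c : Nat) : Nat := @Bool.rec (fun _ => Nat) (Ptab_78) (Ptab_s_79_81 c) (Nat.ble 79 c)
noncomputable def Ptab_s_75_81 (c : Nat) : Nat := @Bool.rec (fun _ => Nat) (Ptab_s_75_78 c) (Ptab_s_78_81 c) (Nat.ble 78 c)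
noncomputable def Ptab_s_82_84 (c : Nat) : Nat := @Bool.rec (fun _ => Nat) (Ptab_82) (Ptab_83) (Nat.ble 83 c)
noncomputable def Ptab_s_81_84 (c : Nat) : Nat := @Bool.rec (fun _ => Nat) (Ptab_81) (Ptab_s_82_84 c) (Nat.ble 82 c)
noncomputable def Ptab_s_84_86 (c : Nat) : Nat := @Bool.rec (fun _ => Nat) (Ptab_84) (Ptab_85) (Nat.ble 85 c)
noncomputable def Ptab_s_86_88 (c : Nat) : Nat := @Bool.rec (fun _ => Nat) (Ptab_86) (Ptab_87) (Nat.ble 87 c)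
noncomputable def Ptab_s_84_88 (c : Nat) : Nat := @Bool.rec (fun _ => Nat) (Ptab_s_84_86 c) (Ptab_s_86_88 c) (Nat.ble 86 c)
noncomputable def Ptab_s_81_88 (c : Nat) : Nat := @Bool.rec (fun _ => Nat) (Ptab_s_81_84 c) (Ptab_s_84_88 c) (Nat.ble 84 c)
noncomputable def Ptab_s_75_88 (c : Nat) : Nat := @Bool.rec (fun _ => Nat) (Ptab_s_75_81 c) (Ptab_s_81_88 c) (Nat.ble 81 c)
noncomputable def Ptab_s_89_91 (c : Nat) : Nat := @Bool.rec (fun _ => Nat) (Ptab_89) (Ptab_90) (Nat.ble 90 c)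
noncomputable def Ptab_s_88_91 (c : Nat) : Nat := @Bool.rec (fun _ => Nat) (Ptab_88) (Ptab_s_89_91 c) (Nat.ble 89 c)
noncomputable def Ptab_s_92_94 (c : Nat) : Nat := @Bool.rec (fun _ => Nat) (Ptab_92) (Ptab_93) (Nat.ble 93 c)
noncomputable def Ptab_s_91_94 (c : Nat) : Nat := @Bool.rec (fun _ => Nat) (Ptab_91) (Ptab_s_92_94 c) (Nat.ble 92 c)
noncomputable def Ptab_s_88_94 (c : Nat) : Nat := @Bool.rec (fun _ => Nat) (Ptab_s_88_91 c) (Ptab_s_91_94 c) (Nat.ble 91 c)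
noncomputable def Ptab_s_95_97 (c : Nat) : Nat := @Bool.rec (fun _ => Nat) (Ptab_95) (Ptab_96) (Nat.ble 96 c)
noncomputable def Ptab_s_94_97 (c : Nat) : Nat := @Bool.rec (fun _ => Nat) (Ptab_94) (Ptab_s_95_97 c) (Nat.ble 95 c)
noncomputable def Ptab_s_97_99 (c : Nat) : Nat := @Bool.rec (fun _ => Nat) (Ptab_97) (Ptab_98) (Nat.ble 98 c)
noncomputable def Ptab_s_99_101 (c : Nat) : Nat := @Bool.rec (fun _ => Nat) (Ptab_99) (Ptab_100) (Nat.ble 100 c)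
noncomputable def Ptab_s_97_101 (c : Nat) : Nat := @Bool.rec (fun _ => Nat) (Ptab_s_97_99 c) (Ptab_s_99_101 c) (Nat.ble 99 c)
noncomputable def Ptab_s_94_101 (c : Nat) : Nat := @Bool.rec (fun _ => Nat) (Ptab_s_94_97 c) (Ptab_s_97_101 c) (Nat.ble 97 c)
noncomputable def Ptab_s_88_101 (c : Nat) : Nat := @Bool.rec (fun _ => Nat) (Ptab_s_88_94 c) (Ptab_s_94_101 c) (Nat.ble 94 c)
noncomputable def Ptab_s_75_101 (c : Nat) : Nat := @Bool.rec (fun _ => Nat) (Ptab_s_75_88 c) (Ptab_s_88_101 c) (Nat.ble 88 c)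
noncomputable def Ptab_s_50_101 (c : Nat) : Nat := @Bool.rec (fun _ => Nat) (Ptab_s_50_75 c) (Ptab_s_75_101 c) (Nat.ble 75 c)
noncomputable def Ptab_s_0_101 (c : Nat) : Nat := @Bool.rec (fun _ => Nat) (Ptab_s_0_50 c) (Ptab_s_50_101 c) (Nat.ble 50 c)
noncomputable def Ptab (i : Nat) : Nat := rdw 19 524287 (Ptab_s_0_101 (Nat.shiftRight i 12)) (Nat.land i 4095)
noncomputable def RRtab (i : Nat) : Nat := rdw 4 15 RRtab_0 i
noncomputable def rBtab (i : Nat) : Nat := rdw 10 1023 rBtab_0 i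
noncomputable def rLtab (i : Nat) : Nat := rdw 6 63 rLtab_0 i
noncomputable def nameTab (i : Nat) : Nat := rdw 17 131071 nameTab_0 i
noncomputable def col0 (i : Nat) : Nat := rdw 9 511 col0_0 i
noncomputable def col1 (i : Nat) : Nat := rdw 9 511 col1_0 i
noncomputable def col2 (i : Nat) : Nat := rdw 9 511 col2_0 i
noncomputable def col3 (i : Nat) : Nat := rdw 9 511 col3_0 i
noncomputable def finTab (i : Nat) : Nat := rdw 19 524287 finTab_0 i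
noncomputable def clsTab_s_0_2 (c : Nat) : Nat := @Bool.rec (fun _ => Nat) (clsTab_0) (clsTab_1) (Nat.ble 1 c)
noncomputable def clsTab_s_2_4 (c : Nat) : Nat := @Bool.rec (fun _ => Nat) (clsTab_2) (clsTab_3) (Nat.ble 3 c)
noncomputable def clsTab_s_0_4 (c : Nat) : Nat := @Bool.rec (fun _ => Nat) (clsTab_s_0_2 c) (clsTab_s_2_4 c) (Nat.ble 2 c)
noncomputable def clsTab_s_4_6 (c : Nat) : Nat := @Bool.rec (fun _ => Nat) (clsTab_4) (clsTab_5) (Nat.ble 5 c)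
noncomputable def clsTab_s_7_9 (c : Nat) : Nat := @Bool.rec (fun _ => Nat) (clsTab_7) (clsTab_8) (Nat.ble 8 c)
noncomputable def clsTab_s_6_9 (c : Nat) : Nat := @Bool.rec (fun _ => Nat) (clsTab_6) (clsTab_s_7_9 c) (Nat.ble 7 c)
noncomputable def clsTab_s_4_9 (c : Nat) : Nat := @Bool.rec (fun _ => Nat) (clsTab_s_4_6 c) (clsTab_s_6_9 c) (Nat.ble 6 c)
noncomputable def clsTab_s_0_9 (c : Nat) : Nat := @Bool.rec (fun _ => Nat) (clsTab_s_0_4 c) (clsTab_s_4_9 c) (Nat.ble 4 c)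
noncomputable def clsTab (i : Nat) : Nat := rdw 9 511 (clsTab_s_0_9 (Nat.shiftRight i 13)) (Nat.land i 8191)
noncomputable def oparTab (i : Nat) : Nat := rdw 9 511 oparTab_0 i
noncomputable def olabTab (i : Nat) : Nat := rdw 2 3 olabTab_0 i
noncomputable def srcF (t : Nat) : Nat := Nat.land (Atab t) 131071
noncomputable def tgtF (t : Nat) : Nat := Nat.land (Nat.shiftRight (Atab t) 17) 131071
noncomputable def ltF (t : Nat) : Nat := Nat.shiftRight (Atab t) 34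
noncomputable def rhoF (t : Nat) : Nat := Nat.land (Btab (Nat.sub t 72563)) 31
noncomputable def rotF (t : Nat) : Nat := Nat.land (Nat.shiftRight (Btab (Nat.sub t 72563)) 5) 63
noncomputable def lenF (t : Nat) : Nat := Nat.land (Nat.shiftRight (Btab (Nat.sub t 72563)) 11) 31
noncomputable def offF (t : Nat) : Nat := Nat.shiftRight (Btab (Nat.sub t 72563)) 16
noncomputable def pfF (j : Nat) : Nat := Nat.shiftRight (Ptab j) 1
noncomputable def pdF (j : Nat) : Nat := Nat.land (Ptab j) 1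
noncomputable def tblF (i x : Nat) : Nat := @Bool.rec (fun _ => Nat) (@Bool.rec (fun _ => Nat) (col0 i) (col1 i) (Nat.ble 1 x)) (@Bool.rec (fun _ => Nat) (col2 i) (col3 i) (Nat.ble 3 x)) (Nat.ble 2 x)
noncomputable def finE (i x : Nat) : Nat := finTab (Nat.add (Nat.mul i 4) x)
noncomputable def finFF (i x : Nat) : Nat := Nat.shiftRight (finE i x) 1
noncomputable def finDF (i x : Nat) : Nat := Nat.land (finE i x) 1

noncomputable def D : Log :=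
  { k := 4, inv := invE 4 PHNK.invR, nR := 26, rBase := rBtab, rLen := rLtab, RR := RRtab,
    M := 72557, nB := 6, F := 154983, src := srcF, lt := ltF, tgt := tgtF, rho := rhoF, rot := rotF,
    off := offF, len := lenF, pf := pfF, pd := pdF }

noncomputable def T : Tab :=
  { N := 378, nameOf := nameTab, tbl := tblF, finF := finFF, finD := finDF, cls := clsTab }

def subs : List (List Nat) := [
  [2, 2, 0, 3, 3, 0, 2, 0, 2, 1, 3, 3, 3, 1],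
  [2, 0, 2, 2, 0, 2, 0, 2, 2, 0, 2, 1, 3, 3, 3, 1, 2, 1, 1, 2, 2, 1, 3, 1, 3, 1, 2, 2, 0, 3, 3, 0, 2, 0, 2, 0, 3, 3, 1, 2, 2, 1, 3, 1, 3, 1, 2, 2, 0, 3, 3, 0, 2, 0, 2, 0, 3, 3],
  [2, 0, 2, 0, 2, 2, 2, 0, 2, 1, 2, 2, 1, 3, 1, 3, 1, 2, 2, 0, 3, 3, 0, 2, 0, 2, 0, 3, 3] ]

def rw0 : List Nat := [2, 2, 2, 2, 2, 2]
def rw1 : List Nat := [0, 0, 2, 0, 0, 3]
def rw2 : List Nat := [1, 3, 0, 2, 1, 3, 0, 2, 1, 3, 0, 2]
def rw3 : List Nat := [1, 2, 2, 0, 2, 2, 2, 1, 2, 2, 0, 2, 2, 2, 1, 2, 2, 0, 2, 2, 2]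
def rw4 : List Nat := [0, 2, 0, 2, 0, 2, 0, 2, 0, 2, 0, 2, 0, 2, 0, 2]
def rw5 : List Nat := [0, 2, 0, 2, 2, 2, 0, 2, 0, 2, 2, 2, 0, 2, 0, 2, 2, 2, 0, 2, 0, 2, 2, 2]
def realLit : List (List Nat) := [rw0, rw1, rw2, rw3, rw4, rw5]
noncomputable def actR0 (i : Nat) : Nat := col3 (col3 (col3 (col3 (col3 (col3 (i))))))
theorem actR0_eq (i : Nat) : actR0 i = Tab.act T D rw0 i := rfl
noncomputable def actR1 (i : Nat) : Nat := col1 (col1 (col3 (col1 (col1 (col2 (i))))))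
theorem actR1_eq (i : Nat) : actR1 i = Tab.act T D rw1 i := rfl
noncomputable def actR2 (i : Nat) : Nat := col0 (col2 (col1 (col3 (col0 (col2 (col1 (col3 (col0 (col2 (col1 (col3 (i))))))))))))
theorem actR2_eq (i : Nat) : actR2 i = Tab.act T D rw2 i := rfl
noncomputable def actR3 (i : Nat) : Nat := col0 (col3 (col3 (col1 (col3 (col3 (col3 (col0 (col3 (col3 (col1 (col3 (col3 (col3 (col0 (col3 (col3 (col1 (col3 (col3 (col3 (i)))))))))))))))))))))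
theorem actR3_eq (i : Nat) : actR3 i = Tab.act T D rw3 i := rfl
noncomputable def actR4 (i : Nat) : Nat := col1 (col3 (col1 (col3 (col1 (col3 (col1 (col3 (col1 (col3 (col1 (col3 (col1 (col3 (col1 (col3 (i))))))))))))))))
theorem actR4_eq (i : Nat) : actR4 i = Tab.act T D rw4 i := rfl
noncomputable def actR5 (i : Nat) : Nat := col1 (col3 (col1 (col3 (col3 (col3 (col1 (col3 (col1 (col3 (col3 (col3 (col1 (col3 (col1 (col3 (col3 (col3 (col1 (col3 (col1 (col3 (col3 (col3 (i))))))))))))))))))))))))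
theorem actR5_eq (i : Nat) : actR5 i = Tab.act T D rw5 i := rfl

end Cfsg.Agent.Lib.Helper4.TCD.HNK2
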