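import Cfsg.Agent.Lib.Helper4.TCD_HNK2_Acc

namespace Cfsg.Agent.Lib.Helper4.TCD.HNK2

open Cfsg.Agent.Lib.Helper4.TC

set_option maxRecDepth 100000
set_option Elab.async false

theorem c_zero : D.zeroOK = true := by decide +kernel
theorem c_base : allBelow D.baseOK 6 = true := by decide +kernel
theorem c_let : allBelow D.letOK 4 = true := by decide +kernel
theorem c_cls0 : T.cls 0 = 0 := by decide +kernel
theorem c_name0 : T.nameOf 0 = 0 := by decide +kernel
theorem c_tab : D.relTabOK 0 (baseRels 4 PHNK.invR PHNK.P.real subs ++ (baseRels 4 PHNK.invR PHNK.P.real subs).map (invWord D.inv)) = true := by decide +kernel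
theorem c_real : PHNK.P.real = realLit := by decide +kernel
theorem c_subfix : subs.all (fun u => Nat.beq (Tab.act T D u 0) 0) = true := by decide +kernel
theorem c_subs : subs.all (fun u => u.all (fun x => Nat.ble (Nat.succ x) 4)) = true := by decide +kernel
theorem c_names_0 : allRange D.nameOK 1 60000 = true := by decide +kernel
theorem c_names_1 : allRange D.nameOK 60001 12556 = true := by decide +kernel
theorem c_cls_0 : allRange (T.clsOK D) 1 15000 = true := by decide +kernel
theorem c_cls_1 : allRange (T.clsOK D) 15001 15000 = true := by decide +kernel
theorem c_cls_2 : allRange (T.clsOK D) 30001 15000 = true := by decide +kernel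
theorem c_cls_3 : allRange (T.clsOK D) 45001 15000 = true := by decide +kernel
theorem c_cls_4 : allRange (T.clsOK D) 60001 12556 = true := by decide +kernel
theorem c_rep_0 : allRange (T.repOK D) 0 378 = true := by decide +kernel
theorem c_rel_0 : allRange D.relOK 72563 2746 = true := by decide +kernel
theorem c_rel_1 : allRange D.relOK 75309 2108 = true := by decide +kernel
theorem c_rel_2 : allRange D.relOK 77417 2170 = true := by decide +kernel
theorem c_rel_3 : allRange D.relOK 79587 2175 = true := by decide +kernel
theorem c_rel_4 : allRange D.relOK 81762 2123 = true := by decide +kernel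
theorem c_rel_5 : allRange D.relOK 83885 2151 = true := by decide +kernel
theorem c_rel_6 : allRange D.relOK 86036 2105 = true := by decide +kernel
theorem c_rel_7 : allRange D.relOK 88141 2074 = true := by decide +kernel
theorem c_rel_8 : allRange D.relOK 90215 2085 = true := by decide +kernel
theorem c_rel_9 : allRange D.relOK 92300 2027 = true := by decide +kernel
theorem c_rel_10 : allRange D.relOK 94327 2033 = true := by decide +kernel
theorem c_rel_11 : allRange D.relOK 96360 2028 = true := by decide +kernel
theorem c_rel_12 : allRange D.relOK 98388 1931 = true := by decide +kernel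
theorem c_rel_13 : allRange D.relOK 100319 1977 = true := by decide +kernel
theorem c_rel_14 : allRange D.relOK 102296 1853 = true := by decide +kernel
theorem c_rel_15 : allRange D.relOK 104149 1773 = true := by decide +kernel
theorem c_rel_16 : allRange D.relOK 105922 1759 = true := by decide +kernel
theorem c_rel_17 : allRange D.relOK 107681 1902 = true := by decide +kernel
theorem c_rel_18 : allRange D.relOK 109583 1755 = true := by decide +kernel
theorem c_rel_19 : allRange D.relOK 111338 2565 = true := by decide +kernel
theorem c_rel_20 : allRange D.relOK 113903 3505 = true := by decide +kernel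
theorem c_rel_21 : allRange D.relOK 117408 3529 = true := by decide +kernel
theorem c_rel_22 : allRange D.relOK 120937 3466 = true := by decide +kernel
theorem c_rel_23 : allRange D.relOK 124403 3418 = true := by decide +kernel
theorem c_rel_24 : allRange D.relOK 127821 3347 = true := by decide +kernel
theorem c_rel_25 : allRange D.relOK 131168 3264 = true := by decide +kernel
theorem c_rel_26 : allRange D.relOK 134432 3199 = true := by decide +kernel
theorem c_rel_27 : allRange D.relOK 137631 3157 = true := by decide +kernel
theorem c_rel_28 : allRange D.relOK 140788 3037 = true := by decide +kernel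
theorem c_rel_29 : allRange D.relOK 143825 2921 = true := by decide +kernel
theorem c_rel_30 : allRange D.relOK 146746 2834 = true := by decide +kernel
theorem c_rel_31 : allRange D.relOK 149580 2812 = true := by decide +kernel
theorem c_rel_32 : allRange D.relOK 152392 2591 = true := by decide +kernel
theorem c_fin_0 : allGrid (T.finOK D) 0 378 4 = true := by decide +kernel
theorem c_perm_0 : allGrid (T.permOK1 D) 0 378 4 = true := by decide +kernel
theorem c_act0_0 : allRange (fun i => Nat.beq (actR0 i) i) 0 378 = true := by decide +kernel
theorem c_act1_0 : allRange (fun i => Nat.beq (actR1 i) i) 0 378 = true := by decide +kernel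
theorem c_act2_0 : allRange (fun i => Nat.beq (actR2 i) i) 0 378 = true := by decide +kernel
theorem c_act3_0 : allRange (fun i => Nat.beq (actR3 i) i) 0 378 = true := by decide +kernel
theorem c_act4_0 : allRange (fun i => Nat.beq (actR4 i) i) 0 378 = true := by decide +kernel
theorem c_act5_0 : allRange (fun i => Nat.beq (actR5 i) i) 0 378 = true := by decide +kernel

end Cfsg.Agent.Lib.Helper4.TCD.HNK2
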